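import Mathlib
import Cfsg.Statements.S0945
-- import your own Cfsg.Agent.* helpers here

set_option autoImplicit false
open Cfsg

namespace Cfsg.Agent.S0945

/-- Let P be a Sylow 2-subgroup of the finite group G isomorphic to Z/2^m × Z/2^m with m ≥ 1. Then (i) the index of C_G(P) in N_G(P) is 1 or 3, and (ii) if it is not 1, then for every z ≠ 1 in P, C_G(z) ∩ N_G(P) = C_G(P). -/
theorem result {G : Type*} [Group G] [Finite G] (P : Sylow 2 G) (m : ℕ) (hm : 1 ≤ m) (e : (P : Subgroup G) ≃* Multiplicative (ZMod (2 ^ m) × ZMod (2 ^ m))) : ((Subgroup.centralizer (P : Set G)).relIndex (Subgroup.normalizer (P : Set G)) = 1 ∨ (Subgroup.centralizer (P : Set G)).relIndex (Subgroup.normalizer (P : Set G)) = 3) ∧ ((Subgroup.centralizer (P : Set G)).relIndex (Subgroup.normalizer (P : Set G)) ≠ 1 → ∀ z ∈ (P : Subgroup G), z ≠ 1 → Subgroup.centralizer ({z} : Set G) ⊓ Subgroup.normalizer (P : Set G) = Subgroup.centralizer (P : Set G)) := by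
  classical
  have hPab : ∀ x ∈ (P : Subgroup G), ∀ y ∈ (P : Subgroup G), x * y = y * x := by
    intro x hx y hy
    have : (⟨x, hx⟩ : (P : Subgroup G)) * ⟨y, hy⟩ = ⟨y, hy⟩ * ⟨x, hx⟩ := e.injective (by rw [map_mul, map_mul, mul_comm])
    exact congrArg Subtype.val this
  set N : Subgroup G := Subgroup.normalizer (P : Set G) with hN
  set C : Subgroup G := Subgroup.centralizer (P : Set G) with hC
  have hPN : (P : Subgroup G) ≤ N := Subgroup.le_normalizer
  have hPC : (P : Subgroup G) ≤ C := fun x hx => Subgroup.mem_centralizer_iff.2 fun y hy => hPab y hy x hx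
  have hCN : C ≤ N := by
    intro g hg
    refine Subgroup.mem_normalizer_iff.2 fun x => ?_
    rw [hC, Subgroup.mem_centralizer_iff] at hg
    constructor
    · intro hx
      rwa [← hg x hx, mul_inv_cancel_right]
    · intro hx
      have h := hg _ hx
      rw [inv_mul_cancel_right] at h
      have : g * x * g⁻¹ = x := mul_left_cancel (h.symm : g * (g * x * g⁻¹) = g * x)
      rwa [← this]
  -- the involutions of P
  let Ω := {x : G // x ∈ (P : Subgroup G) ∧ x ^ 2 = 1 ∧ x ≠ 1}
  have hmem : ∀ g ∈ N, ∀ x : G, x ∈ (P : Subgroup G) ∧ x ^ 2 = 1 ∧ x ≠ 1 →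
      g * x * g⁻¹ ∈ (P : Subgroup G) ∧ (g * x * g⁻¹) ^ 2 = 1 ∧ g * x * g⁻¹ ≠ 1 := fun g hg x hx =>
    ⟨(Subgroup.mem_normalizer_iff.1 hg x).1 hx.1, by rw [conj_pow, hx.2.1, mul_one, mul_inv_cancel],
      fun h => hx.2.2 (conj_eq_one_iff.1 h)⟩
  let φ : N →* Equiv.Perm Ω :=
    { toFun := fun g =>
        { toFun := fun x => ⟨(g : G) * x * (g : G)⁻¹, hmem g g.2 x x.2⟩
          invFun := fun x => ⟨(g : G)⁻¹ * x * (g : G)⁻¹⁻¹, hmem _ (inv_mem g.2) x x.2⟩
          left_inv := fun x => Subtype.ext (by simp [mul_assoc])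
          right_inv := fun x => Subtype.ext (by simp [mul_assoc]) }
      map_one' := Equiv.ext fun x => Subtype.ext (by simp)
      map_mul' := fun a b => Equiv.ext fun x => Subtype.ext (by simp [mul_assoc]) }
  have hΩ : Nat.card Ω = 3 := by
    let D := {v : ZMod (2 ^ m) × ZMod (2 ^ m) // v + v = 0 ∧ v ≠ 0}
    have e1 : Ω ≃ D :=
      { toFun := fun x => ⟨Multiplicative.toAdd (e ⟨x.1, x.2.1⟩), by
          refine ⟨?_, fun h => x.2.2.2 ?_⟩
          · rw [← toAdd_mul, ← map_mul]
            have h2 : (⟨x.1, x.2.1⟩ * ⟨x.1, x.2.1⟩ : (P : Subgroup G)) = 1 := Subtype.ext ((sq x.1).symm.trans x.2.2.1)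
            rw [h2, map_one, toAdd_one]
          · have : e ⟨x.1, x.2.1⟩ = 1 := Multiplicative.toAdd.injective h
            exact congrArg Subtype.val ((MulEquiv.map_eq_one_iff e).1 this)⟩
        invFun := fun v => ⟨(e.symm (Multiplicative.ofAdd v.1) : (P : Subgroup G)), by
          refine ⟨SetLike.coe_mem _, ?_, fun h => v.2.2 ?_⟩
          · rw [← SubmonoidClass.coe_pow, ← map_pow, sq, ← ofAdd_add, v.2.1, ofAdd_zero, map_one]; rfl
          · have : e.symm (Multiplicative.ofAdd v.1) = 1 := Subtype.ext h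
            simpa using (MulEquiv.map_eq_one_iff e.symm).1 this⟩
        left_inv := fun x => Subtype.ext (by simp)
        right_inv := fun v => Subtype.ext (by simp) }
    rw [Nat.card_congr e1]
    obtain ⟨k, rfl⟩ : ∃ k, m = k + 1 := ⟨m - 1, by omega⟩
    set h : ZMod (2 ^ (k + 1)) := ((2 ^ k : ℕ) : ZMod (2 ^ (k + 1))) with hh
    have hhh : h + h = 0 := by
      rw [hh, ← Nat.cast_add, show 2 ^ k + 2 ^ k = 2 ^ (k + 1) by ring, ZMod.natCast_self]
    have hne : h ≠ 0 := by
      rw [hh]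
      intro hz
      rw [ZMod.natCast_eq_zero_iff] at hz
      exact absurd (Nat.le_of_dvd (pow_pos (by norm_num) _) hz) (by rw [not_le]; exact Nat.pow_lt_pow_right (by norm_num) (by omega))
    have hsol : ∀ a : ZMod (2 ^ (k + 1)), a + a = 0 → a = 0 ∨ a = h := by
      intro a ha
      haveI : NeZero (2 ^ (k + 1)) := ⟨by positivity⟩
      rw [← ZMod.natCast_rightInverse a, ← Nat.cast_add, ZMod.natCast_eq_zero_iff] at ha
      obtain ⟨c, hc⟩ := ha
      have hlt := ZMod.val_lt a
      have h2 : 2 ^ (k + 1) = 2 * 2 ^ k := by ring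
      generalize hv : a.val = v at hc hlt
      rw [h2] at hc hlt
      have : c < 2 := by
        by_contra hge
        push Not at hge
        have := Nat.mul_le_mul_left (2 * 2 ^ k) hge
        omega
      interval_cases c
      · left; exact (ZMod.val_eq_zero a).1 (by omega)
      · right
        rw [hh, ← ZMod.natCast_rightInverse a]
        congr 1
        show a.val = 2 ^ k
        omega
    have : (Set.univ : Set D) = {⟨(h, 0), by simp [hhh], by simp [hne]⟩, ⟨(0, h), by simp [hhh], by simp [hne]⟩,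
        ⟨(h, h), by simp [hhh], by simp [hne]⟩} := by
      ext ⟨⟨a, b⟩, hv, hv0⟩
      simp only [Set.mem_univ, true_iff, Set.mem_insert_iff, Set.mem_singleton_iff, Subtype.mk.injEq, Prod.mk.injEq]
      simp only [Prod.mk_add_mk, Prod.mk_eq_zero] at hv
      rcases hsol a hv.1 with rfl | rfl <;> rcases hsol b hv.2 with rfl | rfl
      · exact absurd rfl hv0
      all_goals simp
    rw [← Set.ncard_univ, this, Set.ncard_eq_three]
    refine ⟨_, _, _, ?_, ?_, ?_, rfl⟩ <;> intro hc <;> have hc' := congrArg Subtype.val hc <;>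
      simp [Prod.ext_iff, hne, Ne.symm hne] at hc'
  have hnodd : Odd (C.relIndex N) := by
    have h : C.relIndex N ∣ (P : Subgroup G).index :=
      (Subgroup.relIndex_dvd_of_le_left N hPC).trans (Subgroup.relIndex_dvd_index_of_le hPN)
    refine Nat.odd_iff.2 (Nat.two_dvd_ne_zero.1 fun hd => P.not_dvd_index (hd.trans h))
  haveI hCn : (C.subgroupOf N).Normal := by
    rw [hC, hN]; infer_instance
  have hpow : ∀ g ∈ N, g ^ C.relIndex N ∈ C := fun g hg => (C.subgroupOf N).pow_index_mem ⟨g, hg⟩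
  have hker : ∀ g : N, φ g = 1 → (g : G) ∈ C := by
    intro g hg
    have hinv : ∀ x ∈ (P : Subgroup G), x ^ 2 = 1 → (g : G) * x * (g : G)⁻¹ = x := by
      intro x hx hx2
      by_cases h1 : x = 1
      · subst h1; simp
      exact congrArg Subtype.val (Equiv.congr_fun hg ⟨x, hx, hx2, h1⟩)
    suffices key : ∀ k : ℕ, ∀ x ∈ (P : Subgroup G), x ^ (2 ^ k) = 1 → (g : G) * x * (g : G)⁻¹ = x by
      rw [hC, Subgroup.mem_centralizer_iff]
      intro x hx
      obtain ⟨k, hk⟩ := P.isPGroup' ⟨x, hx⟩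
      have := key k x hx (congrArg Subtype.val hk)
      nth_rewrite 1 [← this]
      group
    intro k
    induction k with
    | zero => intro x _ hx; rw [pow_zero, pow_one] at hx; subst hx; simp
    | succ k ih =>
      intro x hx hxk
      set y := (g : G) * x * (g : G)⁻¹ * x⁻¹ with hy
      have hgx : (g : G) * x * (g : G)⁻¹ ∈ (P : Subgroup G) := (Subgroup.mem_normalizer_iff.1 g.2 x).1 hx
      have hyP : y ∈ (P : Subgroup G) := mul_mem hgx (inv_mem hx)
      have hx2 := ih (x ^ 2) (pow_mem hx 2) (by rw [← pow_mul, ← pow_succ', hxk])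
      have hy2 : y ^ 2 = 1 := by
        rw [hy, (show Commute ((g : G) * x * (g : G)⁻¹) x⁻¹ from hPab _ hgx _ (inv_mem hx)).mul_pow, conj_pow, hx2,
          inv_pow, mul_inv_cancel]
      have hgy := hinv y hyP hy2
      have hn : ∀ n : ℕ, (g : G) ^ n * x * ((g : G) ^ n)⁻¹ = y ^ n * x := by
        intro n
        induction n with
        | zero => simp
        | succ n ihn =>
          calc (g : G) ^ (n + 1) * x * ((g : G) ^ (n + 1))⁻¹
              = (g : G) * ((g : G) ^ n * x * ((g : G) ^ n)⁻¹) * (g : G)⁻¹ := by rw [pow_succ']; group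
            _ = ((g : G) * y * (g : G)⁻¹) ^ n * ((g : G) * x * (g : G)⁻¹) := by rw [ihn, conj_pow]; group
            _ = y ^ (n + 1) * x := by rw [hgy, pow_succ y, mul_assoc (y ^ n)]; congr 1; rw [hy]; group
      have h1 := hn (C.relIndex N)
      have h2 := hpow g g.2
      rw [hC, Subgroup.mem_centralizer_iff] at h2
      rw [← hC] at h2
      rw [← h2 x hx, mul_inv_cancel_right] at h1
      obtain ⟨j, hj⟩ := hnodd
      rw [hj, pow_succ, pow_mul, hy2, one_pow, one_mul] at h1
      have hy1 : y = 1 := mul_eq_right.1 h1.symm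
      rw [hy, mul_inv_eq_one] at hy1
      exact hy1
  have hkereq : φ.ker = C.subgroupOf N := by
    ext g
    rw [MonoidHom.mem_ker, Subgroup.mem_subgroupOf]
    refine ⟨hker g, fun h => Equiv.ext fun x => Subtype.ext ?_⟩
    show (g : G) * x * (g : G)⁻¹ = x
    rw [hC, Subgroup.mem_centralizer_iff] at h
    rw [← h x x.2.1, mul_inv_cancel_right]
  have hrel : C.relIndex N = Nat.card φ.range := by
    rw [Subgroup.relIndex, ← hkereq, Subgroup.index_ker]
  have h13 : C.relIndex N = 1 ∨ C.relIndex N = 3 := by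
    have h6 : C.relIndex N ∣ 6 := by
      rw [hrel]
      have := Subgroup.card_subgroup_dvd_card φ.range
      rwa [Nat.card_perm, hΩ, show (3 : ℕ).factorial = 6 from rfl] at this
    have := Nat.le_of_dvd (by norm_num) h6
    obtain ⟨j, hj⟩ := hnodd
    interval_cases h : C.relIndex N <;> omega
  refine ⟨h13, fun hne z hz hz1 => le_antisymm ?_ (le_inf (Subgroup.centralizer_le (Set.singleton_subset_iff.2 hz)) hCN)⟩
  rintro g ⟨hgz, hgN⟩
  obtain ⟨k, hk, hkmin⟩ : ∃ k, z ^ (2 ^ (k + 1)) = 1 ∧ z ^ (2 ^ k) ≠ 1 := by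
    obtain ⟨k, hk⟩ := P.isPGroup' ⟨z, hz⟩
    have hk' : z ^ (2 ^ k) = 1 := congrArg Subtype.val hk
    have hex : ∃ k, z ^ (2 ^ k) = 1 := ⟨k, hk'⟩
    have h0 : Nat.find hex ≠ 0 := fun h0 => hz1 (by simpa [h0] using Nat.find_spec hex)
    refine ⟨Nat.find hex - 1, ?_, Nat.find_min hex (by omega)⟩
    rw [Nat.sub_add_cancel (Nat.pos_of_ne_zero h0)]
    exact Nat.find_spec hex
  set ω : Ω := ⟨z ^ (2 ^ k), pow_mem hz _, by rw [← pow_mul, ← pow_succ, hk], hkmin⟩ with hω
  have hfix : φ ⟨g, hgN⟩ ω = ω := Subtype.ext (by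
    show g * z ^ (2 ^ k) * g⁻¹ = z ^ (2 ^ k)
    rw [← conj_pow, Subgroup.mem_centralizer_singleton_iff.1 hgz, mul_inv_cancel_right])
  have h3 : (φ ⟨g, hgN⟩) ^ 3 = 1 := by
    rw [← map_pow, ← MonoidHom.mem_ker, hkereq, Subgroup.mem_subgroupOf]
    have := hpow g hgN
    rwa [show C.relIndex N = 3 from h13.resolve_left hne] at this
  have hone : φ ⟨g, hgN⟩ = 1 := by
    haveI := Fintype.ofFinite Ω
    set σ := φ ⟨g, hgN⟩
    by_contra hσ
    have h3' : orderOf σ = 3 := by
      haveI : Fact (Nat.Prime 3) := ⟨Nat.prime_three⟩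
      exact orderOf_eq_prime h3 hσ
    have hs : σ.support.card ≤ 2 := by
      have hsub : σ.support ⊆ Finset.univ.erase ω := fun x hx =>
        Finset.mem_erase.2 ⟨fun e => (Equiv.Perm.mem_support.1 hx) (by rw [e]; exact hfix), Finset.mem_univ _⟩
      have := Finset.card_le_card hsub
      rw [Finset.card_erase_of_mem (Finset.mem_univ _), Finset.card_univ, ← Nat.card_eq_fintype_card, hΩ] at this
      exact this
    have h2 : 2 ≤ σ.support.card := Equiv.Perm.two_le_card_support_of_ne_one hσ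
    have hswap : σ.IsSwap := Equiv.Perm.card_support_eq_two.1 (by omega)
    rw [hswap.orderOf] at h3'
    omega
  exact hker ⟨g, hgN⟩ hone

end Cfsg.Agent.S0945
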