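import Cfsg.Statements.S0949
import Cfsg.Agent.S0945
import Cfsg.Agent.Lib.BlockHomocyclicFinal9

set_option autoImplicit false
open Cfsg Cfsg.Agent
open scoped ComplexConjugate

namespace Cfsg.Agent.S0949

/-- Let the finite group G have a Sylow 2-subgroup P isomorphic to Z/2^m × Z/2^m with m ≥ 2, and suppose G has no nontrivial normal subgroup of odd order. Then P is normal in G, C_G(P) = P, and the index of P is 1 or 3. -/
theorem result {G : Type*} [Group G] [Finite G] (P : Sylow 2 G) (m : ℕ) (hm : 2 ≤ m) (e : (P : Subgroup G) ≃* Multiplicative (ZMod (2 ^ m) × ZMod (2 ^ m))) (hO : ∀ N : Subgroup G, N.Normal → Odd (Nat.card N) → N = ⊥) : (P : Subgroup G).Normal ∧ Subgroup.centralizer (P : Set G) = (P : Subgroup G) ∧ ((P : Subgroup G).index = 1 ∨ (P : Subgroup G).index = 3) := by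
  classical
  haveI := Fintype.ofFinite G
  haveI : Fact (Nat.Prime 2) := ⟨Nat.prime_two⟩
  haveI : NeZero (2 ^ m) := ⟨pow_ne_zero _ two_ne_zero⟩
  have hab : ∀ u v : (P : Subgroup G), u * v = v * u := fun u v =>
    e.injective (by rw [map_mul, map_mul, mul_comm])
  obtain ⟨h13, hii⟩ := Cfsg.Agent.S0945.result P m (by omega) e
  rcases h13 with h | h
  · have hle : Subgroup.normalizer (P : Set G) ≤ Subgroup.centralizer (P : Set G) :=
      Subgroup.relIndex_eq_one.mp h
    have hcomp := MonoidHom.ker_transferSylow_isComplement' P hle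
    have hodd := MonoidHom.not_dvd_card_ker_transferSylow P hle
    have hbot := hO _ (MonoidHom.transferSylow P hle).normal_ker
      (Nat.not_even_iff_odd.mp fun hev => hodd hev.two_dvd)
    rw [hbot] at hcomp
    have htop : (P : Subgroup G) = ⊤ := Subgroup.isComplement'_bot_left.mp hcomp
    refine ⟨by rw [htop]; infer_instance, ?_, Or.inl (by rw [htop, Subgroup.index_top])⟩
    refine le_antisymm (by rw [htop]; exact le_top) fun x hx => ?_
    exact Subgroup.mem_centralizer_iff.mpr fun y hy => congrArg Subtype.val (hab ⟨y, hy⟩ ⟨x, hx⟩)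
  · obtain ⟨σ, D⟩ := BlockHomocyclicFinal9.exists_data hab h (hii (by omega))
    have hcard : Nat.card (P : Subgroup G) = 2 ^ m * 2 ^ m := by
      rw [Nat.card_congr e.toEquiv, Nat.card_congr Multiplicative.toAdd, Nat.card_prod, Nat.card_zmod]
    have h4 : 4 ≤ 2 ^ m := le_trans (by norm_num) (Nat.pow_le_pow_right (by norm_num) hm)
    have h16 : 16 ≤ Nat.card (P : Subgroup G) := hcard ▸ Nat.mul_le_mul h4 h4
    haveI : Fact (1 < 2 ^ m) := ⟨by omega⟩
    have hexp : ∃ u : (P : Subgroup G), u * u ≠ 1 := by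
      refine ⟨e.symm (Multiplicative.ofAdd ((1 : ZMod (2 ^ m)), (0 : ZMod (2 ^ m)))), fun hu => ?_⟩
      rw [← map_mul, EmbeddingLike.map_eq_one_iff] at hu
      have h2 := congrArg (fun x => (Multiplicative.toAdd x).1) hu
      simp only [toAdd_mul, toAdd_ofAdd, toAdd_one, Prod.fst_add, Prod.fst_zero] at h2
      rw [one_add_one_eq_two, ← Nat.cast_two (R := ZMod (2 ^ m)),
        CharP.cast_eq_zero_iff (ZMod (2 ^ m)) (2 ^ m)] at h2
      have := Nat.le_of_dvd two_pos h2
      omega
    obtain ⟨hn, hc⟩ := BlockHomocyclicFinal9.brauer D h16 hexp hO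
    refine ⟨hn, hc, Or.inr ?_⟩
    have hN : Subgroup.normalizer (P : Set G) = ⊤ := Subgroup.normalizer_eq_top_iff.mpr hn
    rwa [hN, hc, Subgroup.relIndex_top_right] at h

end Cfsg.Agent.S0949
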