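import Cfsg.Statements.S4219

set_option autoImplicit false
open Cfsg

namespace Cfsg.Agent.S4219

/-- Let a finite group `G` act `t`-fold transitively on a finite set, let `H` be the stabilizer of `t` distinct points and `P` a Sylow `p`-subgroup of `H`. Then the normalizer of `P` in `G` is `t`-fold transitive on the fixed points of `P`: any `t` distinct fixed points of `P` can be carried to any other `t` distinct fixed points of `P` by an element normalizing `P`. -/
theorem result {G : Type*} [Group G] [Finite G] {α : Type*} [Fintype α] [MulAction G α] {t : ℕ} (hG : MulAction.IsMultiplyPretransitive G α t) (x : Fin t ↪ α) {p : ℕ} [Fact p.Prime] (P : Sylow p (MulAction.stabilizer G x)) (a b : Fin t ↪ α) (ha : ∀ i, a i ∈ MulAction.fixedPoints ((P : Subgroup (MulAction.stabilizer G x)).map (MulAction.stabilizer G x).subtype) α) (hb : ∀ i, b i ∈ MulAction.fixedPoints ((P : Subgroup (MulAction.stabilizer G x)).map (MulAction.stabilizer G x).subtype) α) : ∃ g ∈ Subgroup.normalizer ((((P : Subgroup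 (MulAction.stabilizer G x)).map (MulAction.stabilizer G x).subtype) : Subgroup G) : Set G), g • a = b := by
  classical
  haveI : MulAction.IsPretransitive G (Fin t ↪ α) := hG
  set Q := (P : Subgroup (MulAction.stabilizer G x)).map (MulAction.stabilizer G x).subtype with hQ
  have hfix : ∀ c : Fin t ↪ α, (∀ i, c i ∈ MulAction.fixedPoints Q α) → Q ≤ MulAction.stabilizer G c := by
    intro c hc q hq
    rw [MulAction.mem_stabilizer_iff]
    ext i
    exact hc i ⟨q, hq⟩
  obtain ⟨g, hg⟩ := MulAction.exists_smul_eq G a b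
  obtain ⟨g0, hg0⟩ := MulAction.exists_smul_eq G x b
  set S := MulAction.stabilizer G b with hS
  have hcard : Nat.card S = Nat.card (MulAction.stabilizer G x) :=
    Nat.card_congr (MulAction.stabilizerEquivStabilizer hg0.symm).symm.toEquiv
  set Q' := Q.map (MulAut.conj g).toMonoidHom with hQ'
  have h1 : Q ≤ S := hfix b hb
  have h2 : Q' ≤ S := by
    rintro _ ⟨q, hq, rfl⟩
    rw [hS, MulAction.mem_stabilizer_iff, MulEquiv.coe_toMonoidHom, MulAut.conj_apply, mul_smul, mul_smul,
      inv_smul_eq_iff.mpr hg.symm, (MulAction.mem_stabilizer_iff.mp (hfix a ha hq)), hg]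
  have hQcard : Nat.card Q = p ^ (Nat.card S).factorization p := by
    rw [hcard, ← P.card_eq_multiplicity, hQ, Subgroup.card_map_of_injective (Subgroup.subtype_injective _)]
  have e1 : Nat.card (Q.subgroupOf S) = p ^ (Nat.card S).factorization p := by
    rw [Nat.card_congr (Subgroup.subgroupOfEquivOfLe h1).toEquiv, hQcard]
  have e2 : Nat.card (Q'.subgroupOf S) = p ^ (Nat.card S).factorization p := by
    rw [Nat.card_congr (Subgroup.subgroupOfEquivOfLe h2).toEquiv, hQ', Subgroup.card_map_of_injective (MulEquiv.injective _), hQcard]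
  obtain ⟨s, hs⟩ := MulAction.exists_smul_eq S (Sylow.ofCard (Q'.subgroupOf S) e2) (Sylow.ofCard (Q.subgroupOf S) e1)
  refine ⟨(s : G) * g, ?_, by rw [mul_smul, hg]; exact s.2⟩
  have hsub : ∀ q ∈ Q, ((s : G) * g) * q * ((s : G) * g)⁻¹ ∈ Q := by
    intro q hq
    have hmem : (⟨g * q * g⁻¹, h2 ⟨q, hq, rfl⟩⟩ : S) ∈ ((Sylow.ofCard (Q'.subgroupOf S) e2 : Sylow p S) : Subgroup S) := ⟨q, hq, rfl⟩
    have h3 : s * (⟨g * q * g⁻¹, h2 ⟨q, hq, rfl⟩⟩ : S) * s⁻¹ ∈ ((Sylow.ofCard (Q.subgroupOf S) e1 : Sylow p S) : Subgroup S) := by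
      rw [← hs]
      exact Set.smul_mem_smul_set hmem
    have h4 : (s : G) * (g * q * g⁻¹) * (s : G)⁻¹ ∈ Q := h3
    convert h4 using 1
    group
  rw [Subgroup.mem_normalizer_iff]
  intro q
  refine ⟨hsub q, fun h => ?_⟩
  have hmap : Q.map (MulAut.conj ((s : G) * g)).toMonoidHom = Q := by
    refine Subgroup.eq_of_le_of_card_ge ?_ (le_of_eq (Subgroup.card_map_of_injective (MulEquiv.injective _)).symm)
    rintro _ ⟨r, hr, rfl⟩
    exact hsub r hr
  rw [← hmap] at h
  obtain ⟨r, hr, hrq⟩ := h
  rw [MulEquiv.coe_toMonoidHom] at hrq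
  rw [← (MulAut.conj ((s : G) * g)).injective (hrq.trans (MulAut.conj_apply _ _).symm)]
  exact hr

end Cfsg.Agent.S4219
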