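import Mathlib
import Cfsg.Statements.S3377
-- import your own Cfsg.Agent.* helpers here

set_option autoImplicit false
open Cfsg

namespace Cfsg.Agent.S3377

def rels235 : Set (FreeGroup (Fin 2)) :=
  {FreeGroup.of (0 : Fin 2) ^ 3, FreeGroup.of (1 : Fin 2) ^ 5,
    (FreeGroup.of (0 : Fin 2) * FreeGroup.of 1) ^ 2}

/-- A group generated by `X, Y` with `X³ = Y⁵ = (XY)² = 1` has at most 60 elements. -/
theorem card_le_sixty {G : Type*} [Group G] (X Y : G) (hgen : Subgroup.closure {X, Y} = ⊤)
    (hX : X ^ 3 = 1) (hY : Y ^ 5 = 1) (hXY : (X * Y) ^ 2 = 1) :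
    Finite G ∧ Nat.card G ≤ 60 := by
  classical
  set H : Subgroup G := Subgroup.zpowers Y with hH
  have hrot : Y * X * (Y * X) = 1 := by
    calc Y * X * (Y * X) = X⁻¹ * (X * Y) ^ 2 * X := by rw [sq]; group
      _ = 1 := by rw [hXY]; group
  have hy0 : Y • ((1 : G) : G ⧸ H) = ((1 : G) : G ⧸ H) := by
    show ((Y * 1 : G) : G ⧸ H) = _
    rw [QuotientGroup.eq]
    simpa using H.inv_mem (Subgroup.mem_zpowers Y)
  have r_xxx : ∀ c : G ⧸ H, X • X • X • c = c := fun c => by
    simp only [smul_smul, mul_assoc]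
    rw [show X * (X * X) = X ^ 3 by simp [pow_succ, mul_assoc], hX, one_smul]
  have r_yyyyy : ∀ c : G ⧸ H, Y • Y • Y • Y • Y • c = c := fun c => by
    simp only [smul_smul, mul_assoc]
    rw [show Y * (Y * (Y * (Y * Y))) = Y ^ 5 by simp [pow_succ, mul_assoc], hY, one_smul]
  have r_xyxy : ∀ c : G ⧸ H, X • Y • X • Y • c = c := fun c => by
    simp only [smul_smul, mul_assoc]
    rw [show X * (Y * (X * Y)) = (X * Y) ^ 2 by rw [sq]; simp [mul_assoc], hXY, one_smul]
  have r_yxyx : ∀ c : G ⧸ H, Y • X • Y • X • c = c := fun c => by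
    simp only [smul_smul, mul_assoc]
    rw [show Y * (X * (Y * X)) = Y * X * (Y * X) by simp [mul_assoc], hrot, one_smul]
  let c0 : G ⧸ H := ((1 : G) : G ⧸ H)
  let c1 : G ⧸ H := X • c0
  let c2 : G ⧸ H := X • c1
  let c3 : G ⧸ H := Y • c2
  let c4 : G ⧸ H := X • c3
  let c5 : G ⧸ H := Y • c3
  let c6 : G ⧸ H := X • c4
  let c7 : G ⧸ H := X • c5
  let c8 : G ⧸ H := Y • c6
  let c9 : G ⧸ H := Y • c8
  let c10 : G ⧸ H := X • c9
  let c11 : G ⧸ H := X • c10
  have ex0 : X • c0 = c1 := rfl
  have ex1 : X • c1 = c2 := rfl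
  have ey2 : Y • c2 = c3 := rfl
  have ex3 : X • c3 = c4 := rfl
  have ey3 : Y • c3 = c5 := rfl
  have ex4 : X • c4 = c6 := rfl
  have ex5 : X • c5 = c7 := rfl
  have ey6 : Y • c6 = c8 := rfl
  have ey8 : Y • c8 = c9 := rfl
  have ex9 : X • c9 = c10 := rfl
  have ex10 : X • c10 = c11 := rfl
  have ey0 : Y • c0 = c0 := hy0
  have ex2 : X • c2 = c0 := by
    have h := r_xxx c0
    rwa [ex0, ex1] at h
  have ex6 : X • c6 = c3 := by
    have h := r_xxx c3
    rwa [ex3, ex4] at h
  have ex11 : X • c11 = c9 := by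
    have h := r_xxx c9
    rwa [ex9, ex10] at h
  have ey1 : Y • c1 = c2 := by
    have h := r_yxyx c2
    rwa [ex2, ey0, ex0] at h
  have ey4 : Y • c4 = c1 := by
    have h := r_yxyx c1
    rwa [ex1, ey2, ex3] at h
  have ey5 : Y • c5 = c4 := by
    have h := r_yyyyy c4
    rwa [ey4, ey1, ey2, ey3] at h
  have ey7 : Y • c7 = c6 := by
    have h := r_yxyx c6
    rwa [ex6, ey3, ex5] at h
  have ex8 : X • c8 = c5 := by
    have h := r_xyxy c5
    rwa [ey5, ex4, ey6] at h
  have ex7 : X • c7 = c8 := by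
    have h := r_xxx c8
    rwa [ex8, ex5] at h
  have ey10 : Y • c10 = c7 := by
    have h := r_yxyx c7
    rwa [ex7, ey8, ex9] at h
  have ey9 : Y • c9 = c10 := by
    have h := r_yyyyy c10
    rwa [ey10, ey7, ey6, ey8] at h
  have ey11 : Y • c11 = c11 := by
    have h := r_yxyx c11
    rwa [ex11, ey9, ex10] at h
  let C : Finset (G ⧸ H) := [c0, c1, c2, c3, c4, c5, c6, c7, c8, c9, c10, c11].toFinset
  have hCle : C.card ≤ 12 := List.toFinset_card_le _
  have hX' : ∀ c ∈ C, X • c ∈ C := by
    intro c hc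
    simp only [C, List.mem_toFinset, List.mem_cons, List.not_mem_nil, or_false] at hc ⊢
    rcases hc with rfl | rfl | rfl | rfl | rfl | rfl | rfl | rfl | rfl | rfl | rfl | rfl
    exacts [by simp [ex0], by simp [ex1], by simp [ex2], by simp [ex3], by simp [ex4], by simp [ex5],
      by simp [ex6], by simp [ex7], by simp [ex8], by simp [ex9], by simp [ex10], by simp [ex11]]
  have hY' : ∀ c ∈ C, Y • c ∈ C := by
    intro c hc
    simp only [C, List.mem_toFinset, List.mem_cons, List.not_mem_nil, or_false] at hc ⊢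
    rcases hc with rfl | rfl | rfl | rfl | rfl | rfl | rfl | rfl | rfl | rfl | rfl | rfl
    exacts [by simp [ey0], by simp [ey1], by simp [ey2], by simp [ey3], by simp [ey4], by simp [ey5],
      by simp [ey6], by simp [ey7], by simp [ey8], by simp [ey9], by simp [ey10], by simp [ey11]]
  have hall : ∀ g : G, ∀ c ∈ C, g • c ∈ C ∧ g⁻¹ • c ∈ C := by
    intro g
    have hg : g ∈ Subgroup.closure {X, Y} := hgen ▸ Subgroup.mem_top g
    induction hg using Subgroup.closure_induction with
    | mem a ha =>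
      intro c hc
      rcases ha with rfl | rfl
      · refine ⟨hX' c hc, ?_⟩
        have h2 := hX' _ (hX' c hc)
        rwa [show a • a • c = a⁻¹ • c from eq_inv_smul_iff.2 (r_xxx c)] at h2
      · refine ⟨hY' c hc, ?_⟩
        have h2 := hY' _ (hY' _ (hY' _ (hY' c hc)))
        rwa [show a • a • a • a • c = a⁻¹ • c from eq_inv_smul_iff.2 (r_yyyyy c)] at h2
    | one => intro c hc; simpa using hc
    | mul a b _ _ iha ihb =>
      intro c hc
      exact ⟨by rw [mul_smul]; exact (iha _ (ihb c hc).1).1,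
        by rw [mul_inv_rev, mul_smul]; exact (ihb _ (iha c hc).2).2⟩
    | inv a _ ih => intro c hc; exact ⟨(ih c hc).2, by rw [inv_inv]; exact (ih c hc).1⟩
  have huniv : ∀ q : G ⧸ H, q ∈ C := by
    intro q
    obtain ⟨g, rfl⟩ := QuotientGroup.mk_surjective q
    have := (hall g c0 (by simp [C])).1
    rwa [show g • c0 = (g : G ⧸ H) from by show ((g * 1 : G) : G ⧸ H) = _; rw [mul_one]] at this
  letI : Fintype (G ⧸ H) := ⟨C, huniv⟩
  have hidx : H.index ≤ 12 := by
    rw [Subgroup.index_eq_card, Nat.card_eq_fintype_card]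
    exact hCle
  have hHfin : Nat.card H ∣ 5 := by
    rw [hH, Nat.card_zpowers]
    exact orderOf_dvd_of_pow_eq_one hY
  have hH0 : Nat.card H ≠ 0 := fun h => by simp [h] at hHfin
  have hidx0 : H.index ≠ 0 := by rw [Subgroup.index_eq_card]; exact Nat.card_pos.ne'
  have hmul := H.card_mul_index
  refine ⟨Nat.finite_of_card_ne_zero (by rw [← hmul]; exact mul_ne_zero hH0 hidx0), ?_⟩
  rw [← hmul]
  calc Nat.card H * H.index ≤ 5 * 12 := Nat.mul_le_mul (Nat.le_of_dvd (by norm_num) hHfin) hidx
    _ = 60 := by norm_num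

/-- the images of the generators in the alternating group -/
def a5 : Fin 2 → alternatingGroup (Fin 5) :=
  ![⟨Equiv.swap (1 : Fin 5) 4 * Equiv.swap (4 : Fin 5) 2, Equiv.Perm.mem_alternatingGroup.2 (by decide)⟩,
    ⟨finRotate 5, Equiv.Perm.mem_alternatingGroup.2 (by decide)⟩]

theorem a5_rels : ∀ r ∈ rels235, FreeGroup.lift a5 r = 1 := by
  intro r hr
  rcases hr with rfl | rfl | rfl <;>
    simp only [map_pow, map_mul, FreeGroup.lift_apply_of] <;> decide +kernel

theorem a5_closure : Subgroup.closure ({a5 0, a5 1} : Set (alternatingGroup (Fin 5))) = ⊤ := by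
  set K := Subgroup.closure ({a5 0, a5 1} : Set (alternatingGroup (Fin 5))) with hK
  have h0 : a5 0 ∈ K := Subgroup.subset_closure (by simp)
  have h1 : a5 1 ∈ K := Subgroup.subset_closure (by simp)
  haveI : Fact (Nat.Prime 5) := ⟨by norm_num⟩
  have o3 : orderOf (a5 0) = 3 := orderOf_eq_prime (by decide +kernel) (by decide +kernel)
  have o5 : orderOf (a5 1) = 5 := orderOf_eq_prime (by decide +kernel) (by decide +kernel)
  have o2 : orderOf (a5 0 * a5 1) = 2 := orderOf_eq_prime (by decide +kernel) (by decide +kernel)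
  have d3 : 3 ∣ Nat.card K := by
    have := Subgroup.orderOf_dvd_natCard K h0
    rwa [o3] at this
  have d5 : 5 ∣ Nat.card K := by
    have := Subgroup.orderOf_dvd_natCard K h1
    rwa [o5] at this
  have d2 : 2 ∣ Nat.card K := by
    have := Subgroup.orderOf_dvd_natCard K (K.mul_mem h0 h1)
    rwa [o2] at this
  have hcard : Nat.card (alternatingGroup (Fin 5)) = 60 := by
    rw [nat_card_alternatingGroup, Nat.card_fin]; rfl
  have h30 : 30 ∣ Nat.card K := (Nat.Coprime.mul_dvd_of_dvd_of_dvd (by norm_num) (Nat.Coprime.mul_dvd_of_dvd_of_dvd (by norm_num) d2 d3) d5)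
  have h60 : Nat.card K ∣ 60 := hcard ▸ Subgroup.card_subgroup_dvd_card K
  have hmul := K.card_mul_index
  rw [hcard] at hmul
  obtain ⟨k, hk⟩ := h30
  rw [hk, mul_assoc] at hmul
  have hki : k * K.index = 2 := by omega
  rcases (Nat.dvd_prime Nat.prime_two).1 (Dvd.intro_left k hki) with h | h
  · exact Subgroup.index_eq_one.1 h
  · haveI := Subgroup.normal_of_index_eq_two h
    rcases IsSimpleGroup.eq_bot_or_eq_top_of_normal K inferInstance with h' | h'
    · rw [h', Subgroup.card_bot] at hk; omega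
    · exact h'

/-- the presented group is the alternating group -/
theorem presented_equiv : Nonempty (PresentedGroup rels235 ≃* alternatingGroup (Fin 5)) := by
  let f : PresentedGroup rels235 →* alternatingGroup (Fin 5) := PresentedGroup.toGroup a5_rels
  have hsurj : Function.Surjective f := by
    rw [← MonoidHom.range_eq_top, eq_top_iff, ← a5_closure, Subgroup.closure_le]
    rintro g (rfl | rfl)
    · exact ⟨PresentedGroup.of 0, PresentedGroup.toGroup.of _⟩
    · exact ⟨PresentedGroup.of 1, PresentedGroup.toGroup.of _⟩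
  have hr : ∀ r ∈ rels235, PresentedGroup.mk rels235 r = 1 :=
    fun r hr => PresentedGroup.one_of_mem hr
  obtain ⟨hfin, hle⟩ := card_le_sixty (G := PresentedGroup rels235) (PresentedGroup.of 0) (PresentedGroup.of 1)
    (by
      rw [← PresentedGroup.closure_range_of rels235]
      congr 1
      ext g
      constructor
      · rintro (rfl | rfl) <;> exact ⟨_, rfl⟩
      · rintro ⟨i, rfl⟩; fin_cases i <;> simp)
    (by have := hr (FreeGroup.of 0 ^ 3) (by simp [rels235]); simpa [PresentedGroup.of] using this)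
    (by have := hr (FreeGroup.of 1 ^ 5) (by simp [rels235]); simpa [PresentedGroup.of] using this)
    (by have := hr ((FreeGroup.of 0 * FreeGroup.of 1) ^ 2) (by simp [rels235]); simpa [PresentedGroup.of] using this)
  haveI := hfin
  refine ⟨MulEquiv.ofBijective f ((Nat.bijective_iff_surjective_and_card f).2 ⟨hsurj, le_antisymm ?_ (Nat.card_le_card_of_surjective f hsurj)⟩)⟩
  refine hle.trans ?_
  rw [nat_card_alternatingGroup, Nat.card_fin]; rfl

/-- The alternating group of degree 5 has the presentation ⟨x, y | x³ = 1, y⁵ = 1, (xy)² = 1⟩: the group so presented is isomorphic to Alt(5). -/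
theorem result :
    Nonempty (PresentedGroup ({FreeGroup.of (0 : Fin 2) ^ 3, FreeGroup.of (1 : Fin 2) ^ 5,
        (FreeGroup.of (0 : Fin 2) * FreeGroup.of 1) ^ 2} : Set (FreeGroup (Fin 2))) ≃* alternatingGroup (Fin 5)) := by
  exact presented_equiv

end Cfsg.Agent.S3377
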