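import Cfsg.Statements.S1018
import Mathlib
-- import your own Cfsg.Agent.* helpers here

set_option autoImplicit false
open Cfsg

namespace Cfsg.Agent.S1018

/-- Let P be a Sylow p-subgroup of order p of a finite group G, and consider the action of G on the left cosets of the normalizer N of P. Then every element of order p fixes exactly one coset, and an element of N that does not centralize P fixes at most as many cosets as there are orbits of P. -/
theorem result {G : Type*} [Group G] [Finite G] (p : ℕ) [Fact p.Prime] (P : Sylow p G) (hP : Nat.card ↥(P : Subgroup G) = p) : (∀ y : G, orderOf y = p → Nat.card (MulAction.fixedBy (G ⧸ Subgroup.normalizer ((P : Subgroup G) : Set G)) y) = 1) ∧ ∀ x : G, x ∈ Subgroup.normalizer ((P : Subgroup G) : Set G) → x ∉ Subgroup.centralizer ((P : Subgroup G) : Set G) → Nat.card (MulAction.fixedBy (G ⧸ Subgroup.normalizer ((P : Subgroup G) : Set G)) x) ≤ Nat.card (MulAction.orbitRel.Quotient ↥(P : Subgroup G) (G ⧸ Subgroup.normalizer ((P : Subgroup G) : Set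 G))) := by
  have hp : p.Prime := Fact.out
  set N := Subgroup.normalizer ((P : Subgroup G) : Set G) with hN
  have hpP : ∀ u ∈ (P : Subgroup G), u ≠ 1 → Subgroup.zpowers u = (P : Subgroup G) := by
    intro u hu hu1
    refine Subgroup.eq_of_le_of_card_ge (Subgroup.zpowers_le.mpr hu) ?_
    rw [Nat.card_zpowers, hP]
    rcases hp.eq_one_or_self_of_dvd _ (hP ▸ Subgroup.orderOf_dvd_natCard _ hu) with h | h
    · exact absurd (orderOf_eq_one_iff.mp h) hu1
    · exact h.ge
  have hsmul : ∀ y g : G, y • (g : G ⧸ N) = (g : G ⧸ N) ↔ g⁻¹ * y * g ∈ N := by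
    intro y g
    rw [MulAction.Quotient.smul_coe, eq_comm, QuotientGroup.eq, smul_eq_mul, mul_assoc]
  constructor
  · intro y hy
    have hkey : ∀ g : G, g⁻¹ * y * g ∈ N ↔ y ∈ ((g • P : Sylow p G) : Subgroup G) := by
      intro g
      rw [Sylow.coe_subgroup_smul, Subgroup.mem_pointwise_smul_iff_inv_smul_mem]
      simp only [MulAut.smul_def, MulAut.conj_inv_apply]
      refine ⟨fun h => ?_, fun h => P.le_normalizer h⟩
      set z := g⁻¹ * y * g with hz
      have hzo : orderOf z = p := by
        rw [← hy]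
        simpa [MulAut.conj_apply] using (MulAut.conj g⁻¹).orderOf_eq y
      have hpz : IsPGroup p (Subgroup.zpowers z) :=
        IsPGroup.of_card (n := 1) (by rw [Nat.card_zpowers, hzo, pow_one])
      have hle : Subgroup.zpowers z ≤ (P : Subgroup G) := by
        have h1 := hpz.inf_normalizer_sylow P
        rw [← P.coe_coe, ← hN, inf_eq_left.mpr (Subgroup.zpowers_le.mpr h)] at h1
        exact h1 ▸ inf_le_right
      exact hle (Subgroup.mem_zpowers z)
    have hyp : IsPGroup p (Subgroup.zpowers y) :=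
      IsPGroup.of_card (n := 1) (by rw [Nat.card_zpowers, hy, pow_one])
    obtain ⟨Q, hQ⟩ := hyp.exists_le_sylow
    obtain ⟨g, rfl⟩ := MulAction.exists_smul_eq G P Q
    rw [Nat.card_eq_one_iff_unique]
    refine ⟨⟨?_⟩, ⟨⟨(g : G ⧸ N), (hsmul y g).mpr ((hkey g).mpr (hQ (Subgroup.mem_zpowers y)))⟩⟩⟩
    rintro ⟨a, ha⟩ ⟨b, hb⟩
    obtain ⟨g₁, rfl⟩ := QuotientGroup.mk_surjective a
    obtain ⟨g₂, rfl⟩ := QuotientGroup.mk_surjective b
    have h1 := (hkey g₁).mp ((hsmul y g₁).mp ha)
    have h2 := (hkey g₂).mp ((hsmul y g₂).mp hb)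
    apply Subtype.ext
    show (g₁ : G ⧸ N) = (g₂ : G ⧸ N)
    rw [QuotientGroup.eq]
    have hy1 : y ≠ 1 := fun h => hp.ne_one (by rw [← hy, h, orderOf_one])
    have heq : ∀ g : G, y ∈ ((g • P : Sylow p G) : Subgroup G) →
        Subgroup.zpowers y = ((g • P : Sylow p G) : Subgroup G) := by
      intro g hg
      refine Subgroup.eq_of_le_of_card_ge (Subgroup.zpowers_le.mpr hg) ?_
      rw [Nat.card_zpowers, hy, Nat.card_congr ((g • P).equiv P).toEquiv, hP]
    have h3 : g₁ • P = g₂ • P := Sylow.ext ((heq g₁ h1).symm.trans (heq g₂ h2))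
    rw [hN, P.coe_coe, ← Sylow.smul_eq_iff_mem_normalizer, mul_smul, ← h3, inv_smul_smul]
  · intro x hx hxC
    apply Nat.card_le_card_of_injective
      (fun a : MulAction.fixedBy (G ⧸ N) x =>
        (Quotient.mk'' a.1 : MulAction.orbitRel.Quotient ↥(P : Subgroup G) (G ⧸ N)))
    rintro ⟨a, ha⟩ ⟨b, hb⟩ hab
    obtain ⟨⟨u, hu⟩, hub⟩ := Quotient.eq''.mp hab
    have hub' : u • b = a := hub
    apply Subtype.ext
    show a = b
    by_cases hu1 : u = 1
    · rw [← hub', hu1, one_smul]
    have hw : x * u * x⁻¹ ∈ (P : Subgroup G) := (Subgroup.mem_normalizer_iff.mp hx u).mp hu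
    have hwu : (x * u * x⁻¹) • b = u • b := by
      have hb' : x⁻¹ • b = b := inv_smul_eq_iff.mpr hb.symm
      rw [mul_smul, mul_smul, hb', hub']
      exact ha
    set w := u⁻¹ * (x * u * x⁻¹) with hw'
    have hwP : w ∈ (P : Subgroup G) := Subgroup.mul_mem _ (Subgroup.inv_mem _ hu) hw
    have hwb : w • b = b := by rw [hw', mul_smul, hwu, inv_smul_smul]
    by_cases hw1 : w = 1
    · exfalso
      apply hxC
      have hcomm : Commute x u := by
        rw [hw', inv_mul_eq_one] at hw1
        exact mul_inv_eq_iff_eq_mul.mp hw1.symm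
      intro h hh
      have hh' : h ∈ Subgroup.zpowers u := by rw [hpP u hu hu1]; exact hh
      obtain ⟨k, rfl⟩ := hh'
      exact ((hcomm.zpow_right k).eq).symm
    · rw [← hub']
      have hst : Subgroup.zpowers w ≤ MulAction.stabilizer G b := Subgroup.zpowers_le.mpr hwb
      rw [hpP w hwP hw1] at hst
      exact hst hu

end Cfsg.Agent.S1018
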