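import Cfsg.Statements.S1019
import Mathlib
-- import your own Cfsg.Agent.* helpers here

set_option autoImplicit false
open Cfsg

namespace Cfsg.Agent.S1019

/-- Let H be a subgroup of a finite group G and x an element of H. In the action of G on the left cosets of H, the number of cosets fixed by x, multiplied by the size of the conjugacy class of x, equals the index of H multiplied by the number of conjugates of x that lie in H. -/
theorem result {G : Type*} [Group G] [Finite G] (H : Subgroup G) (x : G) (hx : x ∈ H) : Nat.card (MulAction.fixedBy (G ⧸ H) x) * Nat.card {g : G // IsConj x g} = H.index * Nat.card {g : G // IsConj x g ∧ g ∈ H} := by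
  classical
  have := Fintype.ofFinite G
  have hA : Nat.card {g : G // g⁻¹ * x * g ∈ H}
      = Nat.card H * Nat.card (MulAction.fixedBy (G ⧸ H) x) := by
    rw [← Nat.card_prod]
    refine Nat.card_congr ((Equiv.subtypeEquivRight ?_).trans
      (QuotientGroup.preimageMkEquivSubgroupProdSet H (MulAction.fixedBy (G ⧸ H) x)))
    intro g
    show g⁻¹ * x * g ∈ H ↔ x • (g : G ⧸ H) = (g : G ⧸ H)
    rw [MulAction.Quotient.smul_coe, eq_comm, QuotientGroup.eq, smul_eq_mul, mul_assoc]
  have key : ∀ S : Set G, Nat.card {g : G // g⁻¹ * x * g ∈ S}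
      = Nat.card (Subgroup.centralizer ({x} : Set G)) * Nat.card {y : G // IsConj x y ∧ y ∈ S} := by
    intro S
    rw [mul_comm]
    have hfib : ∀ y : {y : G // IsConj x y ∧ y ∈ S},
        Nat.card {g : G // g⁻¹ * x * g = y.1} = Nat.card (Subgroup.centralizer ({x} : Set G)) := by
      rintro ⟨y, hy, hyS⟩
      obtain ⟨c, hc⟩ := isConj_iff.mp hy
      refine Nat.card_congr
        { toFun := fun g => ⟨g.1 * c, ?_⟩
          invFun := fun a => ⟨a.1 * c⁻¹, ?_⟩
          left_inv := fun g => Subtype.ext (by simp)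
          right_inv := fun a => Subtype.ext (by simp) }
      · rw [Subgroup.mem_centralizer_singleton_iff]
        have h1 : g.1⁻¹ * x * g.1 = c * x * c⁻¹ := g.2.trans hc.symm
        calc g.1 * c * x = g.1 * (c * x * c⁻¹) * c := by group
          _ = g.1 * (g.1⁻¹ * x * g.1) * c := by rw [h1]
          _ = x * (g.1 * c) := by group
      · have h1 := Subgroup.mem_centralizer_singleton_iff.mp a.2
        show (a.1 * c⁻¹)⁻¹ * x * (a.1 * c⁻¹) = y
        rw [← hc]
        calc (a.1 * c⁻¹)⁻¹ * x * (a.1 * c⁻¹) = c * a.1⁻¹ * (x * a.1) * c⁻¹ := by group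
          _ = c * a.1⁻¹ * (a.1 * x) * c⁻¹ := by rw [h1]
          _ = c * x * c⁻¹ := by group
    have e : {g : G // g⁻¹ * x * g ∈ S} ≃ Σ y : {y : G // IsConj x y ∧ y ∈ S}, {g : G // g⁻¹ * x * g = y.1} :=
      { toFun := fun g => ⟨⟨g.1⁻¹ * x * g.1, isConj_iff.mpr ⟨g.1⁻¹, by group⟩, g.2⟩, ⟨g.1, rfl⟩⟩
        invFun := fun z => ⟨z.2.1, by rw [z.2.2]; exact z.1.2.2⟩
        left_inv := fun g => rfl
        right_inv := by
          rintro ⟨⟨y, hy⟩, ⟨g, hg⟩⟩
          dsimp at hg
          subst hg
          rfl }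
    rw [Nat.card_congr e, Nat.card_sigma, Finset.sum_congr rfl (fun y _ => hfib y),
      Finset.sum_const, Finset.card_univ, smul_eq_mul, Nat.card_eq_fintype_card, Nat.card_eq_fintype_card]
  have hB := key (H : Set G)
  have hU := key Set.univ
  simp only [SetLike.mem_coe] at hB
  rw [hA] at hB
  have hU' : Nat.card G = Nat.card (Subgroup.centralizer ({x} : Set G)) * Nat.card {y : G // IsConj x y} := by
    simpa [Nat.card_congr (Equiv.subtypeUnivEquiv (fun _ => Set.mem_univ _))] using hU
  have hI := Subgroup.card_mul_index H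
  apply Nat.eq_of_mul_eq_mul_left (Nat.card_pos (α := H))
  rw [← mul_assoc, hB, ← mul_assoc, hI, hU']
  ring

end Cfsg.Agent.S1019
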