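import Cfsg.Statements.S0987
import Mathlib
-- import your own Cfsg.Agent.* helpers here

set_option autoImplicit false
open Cfsg

namespace Cfsg.Agent.S0987

/-- If a finite group has order pqr for primes p < q < r, then its Sylow r-subgroups are normal. -/
theorem result {G : Type*} [Group G] [Finite G] (p q r : ℕ) (hp : p.Prime) (hq : q.Prime) [Fact r.Prime] (hpq : p < q) (hqr : q < r) (hG : Nat.card G = p * q * r) (R : Sylow r G) : (R : Subgroup G).Normal := by
  have hr : r.Prime := Fact.out
  have : Fact p.Prime := ⟨hp⟩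
  have : Fact q.Prime := ⟨hq⟩
  have hcpq : (p).Coprime q := (Nat.coprime_primes hp hq).mpr hpq.ne
  have hmin : (Nat.card G).minFac = p := by
    rw [hG]
    refine le_antisymm (Nat.minFac_le_of_dvd hp.two_le (Dvd.intro (q * r) (by ring))) ?_
    have h1 : p * q * r ≠ 1 := fun h => hr.ne_one (Nat.eq_one_of_mul_eq_one_left h)
    have hm := Nat.minFac_prime h1
    rcases hm.dvd_mul.mp (Nat.minFac_dvd (p * q * r)) with h | h
    · rcases hm.dvd_mul.mp h with h | h
      · exact ((Nat.prime_dvd_prime_iff_eq hm hp).mp h).ge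
      · rw [(Nat.prime_dvd_prime_iff_eq hm hq).mp h]; exact hpq.le
    · rw [(Nat.prime_dvd_prime_iff_eq hm hr).mp h]; exact (hpq.trans hqr).le
  obtain ⟨P⟩ := (Sylow.nonempty : Nonempty (Sylow p G))
  have hcardP : Nat.card (P : Subgroup G) = p := by
    rw [P.card_eq_multiplicity, hG, Nat.factorization_mul (Nat.mul_ne_zero hp.ne_zero hq.ne_zero) hr.ne_zero,
      Nat.factorization_mul hp.ne_zero hq.ne_zero, Finsupp.add_apply, Finsupp.add_apply,
      hp.factorization_self, hq.factorization, hr.factorization]
    simp [hpq.ne', (hpq.trans hqr).ne']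
  have hcyc : IsCyclic (P : Subgroup G) := isCyclic_of_prime_card hcardP
  set K := (MonoidHom.transferSylow P (hcyc.normalizer_le_centralizer hmin)).ker with hK
  have hKn : K.Normal := MonoidHom.normal_ker _
  have hKc : K.IsComplement' (P : Subgroup G) := hcyc.isComplement' hmin
  have hKidx : K.index = p := by rw [hKc.symm.index_eq_card, hcardP]
  have hcardK : Nat.card K = q * r := by
    have h := Subgroup.card_mul_index K
    rw [hKidx, hG] at h
    exact Nat.eq_of_mul_eq_mul_right hp.pos (by rw [h]; ring)
  have hRK : ∀ S : Sylow r G, (S : Subgroup G) ≤ K := by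
    intro S x hx
    rw [← QuotientGroup.eq_one_iff, ← orderOf_eq_one_iff]
    have h1 : orderOf ((x : G ⧸ K)) ∣ p := hKidx ▸ orderOf_dvd_natCard _
    obtain ⟨n, hn⟩ := S.2.exists_card_eq
    have h2 : orderOf ((x : G ⧸ K)) ∣ r ^ n := by
      rw [← hn]
      exact (orderOf_map_dvd (QuotientGroup.mk' K) x).trans (Subgroup.orderOf_dvd_natCard _ hx)
    exact Nat.eq_one_of_dvd_coprimes
      (((Nat.coprime_primes hp hr).mpr (hpq.trans hqr).ne).pow_right n) h1 h2
  have hone : Nat.card (Sylow r K) = 1 := by
    obtain ⟨S⟩ := (Sylow.nonempty : Nonempty (Sylow r K))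
    have hcardS : Nat.card (S : Subgroup K) = r := by
      rw [S.card_eq_multiplicity, hcardK, Nat.factorization_mul hq.ne_zero hr.ne_zero,
        Finsupp.add_apply, hq.factorization, hr.factorization_self]
      simp [hqr.ne]
    have hidx : (S : Subgroup K).index = q := by
      have h := Subgroup.card_mul_index (S : Subgroup K)
      rw [hcardS, hcardK, mul_comm q r] at h
      exact Nat.eq_of_mul_eq_mul_left hr.pos h
    have hd := S.card_dvd_index
    rw [hidx] at hd
    rcases hq.eq_one_or_self_of_dvd _ hd with h | h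
    · exact h
    · have hm := card_sylow_modEq_one r K
      rw [h, Nat.ModEq, Nat.mod_eq_of_lt hqr, Nat.mod_eq_of_lt hr.one_lt] at hm
      exact absurd hm hq.ne_one
  have : Subsingleton (Sylow r K) := (Nat.card_eq_one_iff_unique.mp hone).1
  have hsub : Subsingleton (Sylow r G) :=
    ⟨fun S T => Sylow.subtype_injective (Subsingleton.elim (S.subtype (hRK S)) (T.subtype (hRK T)))⟩
  exact R.normal_of_subsingleton

end Cfsg.Agent.S0987
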