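import Cfsg.Statements.S1010
import Mathlib
import Cfsg.Agent.Lib.SimpleOrder
import Cfsg.Agent.Lib.TransferPow
import Cfsg.Agent.Lib.PGroupsBasic
-- import your own Cfsg.Agent.* helpers here

set_option autoImplicit false
open Cfsg

namespace Cfsg.Agent.S1010

open Subgroup MulAction

variable {G : Type*} [Group G] [Finite G]

local instance fact_five : Fact (Nat.Prime 5) := ⟨by norm_num⟩

/-- A `5`-element fixes a Sylow `5`-subgroup iff it lies in it. -/
theorem smul_eq_iff_mem {x : G} (hx : ∃ R : Sylow 5 G, x ∈ (R : Subgroup G)) (Q : Sylow 5 G) :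
    x • Q = Q ↔ x ∈ (Q : Subgroup G) := by
  obtain ⟨R, hR⟩ := hx
  rw [Sylow.smul_eq_iff_mem_normalizer]
  refine ⟨fun h => ?_, fun h => Subgroup.le_normalizer h⟩
  have : x ∈ (R : Subgroup G) ⊓ (Q : Subgroup G) := (R.2.inf_normalizer_sylow Q).le ⟨hR, h⟩
  exact this.2

theorem mem_smul_iff {x g : G} (Q : Sylow 5 G) :
    x ∈ ((g • Q : Sylow 5 G) : Subgroup G) ↔ g⁻¹ * x * g ∈ (Q : Subgroup G) := by
  rw [Sylow.coe_subgroup_smul, Subgroup.mem_pointwise_smul_iff_inv_smul_mem]
  simp only [MulAut.smul_def, MulAut.conj_inv_apply]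

theorem mem_smul {x g : G} (Q : Sylow 5 G) (h : x ∈ (Q : Subgroup G)) :
    g * x * g⁻¹ ∈ ((g • Q : Sylow 5 G) : Subgroup G) := by
  rw [mem_smul_iff]; simpa [mul_assoc] using h

theorem smul_self_of_mem {P : Sylow 5 G} {u : G} (hu : u ∈ (P : Subgroup G)) : u • P = P :=
  (smul_eq_iff_mem ⟨P, hu⟩ P).2 hu

section faithful

variable (hn : Nat.card (Sylow 5 G) = 21) (hK : ∀ g : G, (∀ Q : Sylow 5 G, g • Q = Q) → g = 1)

include hn

omit [Finite G] in
theorem finite_sylow : Finite (Sylow 5 G) := Nat.finite_of_card_ne_zero (by omega)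

theorem stab_index {P Q : Sylow 5 G} (h : Q ≠ P) :
    ((Q : Subgroup G).subgroupOf (P : Subgroup G)).index = 5 := by
  obtain ⟨j, hj⟩ := P.2.index ((Q : Subgroup G).subgroupOf (P : Subgroup G))
  have hstab : MulAction.stabilizer (P : Subgroup G) Q = (Q : Subgroup G).subgroupOf (P : Subgroup G) := by
    ext g
    rw [MulAction.mem_stabilizer_iff, Subgroup.smul_def, Subgroup.mem_subgroupOf]
    exact smul_eq_iff_mem ⟨P, g.2⟩ Q
  have hle : ((Q : Subgroup G).subgroupOf (P : Subgroup G)).index ≤ 21 := by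
    rw [← hstab, MulAction.index_stabilizer, ← hn, ← Set.ncard_univ]
    exact Set.ncard_le_ncard (Set.subset_univ _) (Set.toFinite _)
  rcases j with _ | _ | j
  · exfalso
    rw [pow_zero, Subgroup.index_eq_one, Subgroup.subgroupOf_eq_top] at hj
    exact h (Sylow.ext (P.3 Q.2 hj))
  · simpa using hj
  · have : 5 ^ 2 ≤ 5 ^ (j + 1 + 1) := Nat.pow_le_pow_right (by norm_num) (by omega)
    rw [hj] at hle
    omega

theorem orbit_card {P Q : Sylow 5 G} (h : Q ≠ P) : (orbit (P : Subgroup G) Q).ncard = 5 := by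
  have hstab : MulAction.stabilizer (P : Subgroup G) Q = (Q : Subgroup G).subgroupOf (P : Subgroup G) := by
    ext g
    rw [MulAction.mem_stabilizer_iff, Subgroup.smul_def, Subgroup.mem_subgroupOf]
    exact smul_eq_iff_mem ⟨P, g.2⟩ Q
  rw [← MulAction.index_stabilizer, hstab, stab_index hn h]

include hK

theorem eq_one_of_fix {P : Sylow 5 G} {w : G} (hw : w ∈ (P : Subgroup G))
    (h : ∀ Q : Sylow 5 G, Q ≠ P → w ∈ (Q : Subgroup G)) : w = 1 := by
  refine hK w fun Q => ?_
  by_cases hQ : Q = P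
  · subst hQ; exact smul_self_of_mem hw
  · exact (smul_eq_iff_mem ⟨P, hw⟩ Q).2 (h Q hQ)

theorem stab_normal {P Q : Sylow 5 G} (h : Q ≠ P) :
    ((Q : Subgroup G).subgroupOf (P : Subgroup G)).Normal := by
  apply Subgroup.normal_of_index_eq_minFac_card
  rw [stab_index hn h]
  obtain ⟨j, hj⟩ := P.2.exists_card_eq
  have hd := Subgroup.index_dvd_card ((Q : Subgroup G).subgroupOf (P : Subgroup G))
  rw [stab_index hn h, hj] at hd
  rcases j with _ | j
  · norm_num at hd
  · rw [hj, Nat.pow_minFac (Nat.succ_ne_zero j), Nat.Prime.minFac_eq (by norm_num)]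

theorem pow_five {P : Sylow 5 G} {u : G} (hu : u ∈ (P : Subgroup G)) : u ^ 5 = 1 := by
  refine eq_one_of_fix hn hK (Subgroup.pow_mem _ hu 5) fun Q hQ => ?_
  have := stab_normal hn hK hQ
  have h := Subgroup.pow_index_mem ((Q : Subgroup G).subgroupOf (P : Subgroup G)) ⟨u, hu⟩
  rw [stab_index hn hQ] at h
  exact h

theorem sylow_comm {P : Sylow 5 G} {u v : G} (hu : u ∈ (P : Subgroup G))
    (hv : v ∈ (P : Subgroup G)) : Commute u v := by
  have hw : (v * u)⁻¹ * (u * v) ∈ (P : Subgroup G) :=
    Subgroup.mul_mem _ (Subgroup.inv_mem _ (Subgroup.mul_mem _ hv hu)) (Subgroup.mul_mem _ hu hv)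
  have h := eq_one_of_fix hn hK hw fun Q hQ => ?_
  · exact (inv_mul_eq_one.mp h).symm
  have := stab_normal hn hK hQ
  set H := (Q : Subgroup G).subgroupOf (P : Subgroup G)
  have hc : Nat.card ((P : Subgroup G) ⧸ H) = 5 := (Subgroup.index_eq_card H).symm.trans (stab_index hn hQ)
  have hcyc : IsCyclic ((P : Subgroup G) ⧸ H) := isCyclic_of_prime_card hc
  have := hcyc.isMulCommutative
  have h2 : ((⟨v, hv⟩ * ⟨u, hu⟩ : (P : Subgroup G)) : (P : Subgroup G) ⧸ H)
      = ((⟨u, hu⟩ * ⟨v, hv⟩ : (P : Subgroup G)) : (P : Subgroup G) ⧸ H) := by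
    rw [QuotientGroup.mk_mul, QuotientGroup.mk_mul]
    exact IsMulCommutative.is_comm.comm _ _
  exact ((QuotientGroup.eq (s := H)).1 h2 :)

omit hK in
theorem modEq_of_invariant (P : Sylow 5 G) (s : Set (Sylow 5 G)) (hP : P ∈ s)
    (hs : ∀ u ∈ (P : Subgroup G), ∀ Q ∈ s, u • Q ∈ s) : s.ncard % 5 = 1 := by
  let S : SubMulAction (P : Subgroup G) (Sylow 5 G) :=
    ⟨s, fun u Q hQ => hs u u.2 Q hQ⟩
  have h := P.2.card_modEq_card_fixedPoints S
  have h1 : Nat.card (fixedPoints (P : Subgroup G) S) = 1 := by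
    rw [Nat.card_eq_one_iff_unique]
    refine ⟨⟨fun a b => ?_⟩, ⟨⟨⟨P, hP⟩, fun u => Subtype.ext ?_⟩⟩⟩
    · have key : ∀ c : fixedPoints (P : Subgroup G) S, (c.1.1 : Sylow 5 G) = P := fun c => by
        have hfix : c.1.1 ∈ fixedPoints (P : Subgroup G) (Sylow 5 G) :=
          fun u => congrArg Subtype.val (c.2 u)
        exact Sylow.ext (P.3 c.1.1.2 (P.2.sylow_mem_fixedPoints_iff.1 hfix))
      exact Subtype.ext (Subtype.ext ((key a).trans (key b).symm))
    · exact smul_self_of_mem u.2
  rw [h1] at h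
  rw [← Nat.card_coe_set_eq]
  exact h

theorem not_all_commute {x : G} {P : Sylow 5 G} (hx : x ∈ (P : Subgroup G)) (hx1 : x ≠ 1)
    (h : ∀ a b : G, Commute (a * x * a⁻¹) (b * x * b⁻¹)) : False := by
  set A := Subgroup.closure (Set.range fun a : G => a * x * a⁻¹) with hA
  have hcomm : ∀ u ∈ A, ∀ v ∈ A, Commute u v := by
    intro u hu v hv
    induction hu, hv using Subgroup.closure_induction₂ with
    | mem u v hu hv =>
      obtain ⟨a, rfl⟩ := hu
      obtain ⟨b, rfl⟩ := hv
      exact h a b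
    | one_left x _ => exact Commute.one_left x
    | one_right x _ => exact Commute.one_right x
    | mul_left x y z _ _ _ h1 h2 => exact h1.mul_left h2
    | mul_right y z x _ _ _ h1 h2 => exact h1.mul_right h2
    | inv_left x y _ _ h1 => exact h1.inv_left
    | inv_right x y _ _ h1 => exact h1.inv_right
  have hp : IsPGroup 5 A := by
    rintro ⟨u, hu⟩
    refine ⟨1, Subtype.ext ?_⟩
    show u ^ 5 ^ 1 = 1
    rw [pow_one]
    induction hu using Subgroup.closure_induction with
    | mem u hu =>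
      obtain ⟨a, rfl⟩ := hu
      show (a * x * a⁻¹) ^ 5 = 1
      rw [conj_pow, pow_five hn hK hx]; simp
    | one => simp
    | mul u v hu hv h1 h2 => rw [(hcomm u hu v hv).mul_pow, h1, h2, one_mul]
    | inv u hu h1 => rw [inv_pow, h1, inv_one]
  have hAn : A.Normal := by
    refine ⟨fun u hu g => ?_⟩
    induction hu using Subgroup.closure_induction with
    | mem u hu =>
      obtain ⟨a, rfl⟩ := hu
      refine Subgroup.subset_closure ⟨g * a, ?_⟩
      simp [mul_assoc]
    | one => simp
    | mul u v hu hv h1 h2 =>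
      have := A.mul_mem h1 h2
      simpa [mul_assoc] using this
    | inv u hu h1 =>
      have := A.inv_mem h1
      simpa [mul_assoc] using this
  apply hx1
  refine hK x fun Q => ?_
  have hAQ : A ≤ (Q : Subgroup G) :=
    sup_eq_left.mp (Q.3 (Q.2.to_sup_of_normal_right hp) le_sup_left)
  exact smul_self_of_mem (hAQ (Subgroup.subset_closure ⟨1, by simp⟩))

open scoped Classical in
/-- Sylow subgroups meet trivially. -/
theorem eq_of_common {x : G} {P P₁ : Sylow 5 G} (hx1 : x ≠ 1) (hxP : x ∈ (P : Subgroup G))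
    (hxQ : x ∈ (P₁ : Subgroup G)) : P₁ = P := by
  by_contra hne
  have := finite_sylow hn
  have := Fintype.ofFinite (Sylow 5 G)
  have := Fintype.ofFinite G
  have hn' : (Finset.univ : Finset (Sylow 5 G)).card = 21 := by
    rw [Finset.card_univ, ← Nat.card_eq_fintype_card, hn]
  let S : G → Finset (Sylow 5 G) := fun y => Finset.univ.filter fun Q => y ∈ (Q : Subgroup G)
  have hS : ∀ y Q, Q ∈ S y ↔ y ∈ (Q : Subgroup G) := fun y Q => by simp [S]
  let L : Finset (Finset (Sylow 5 G)) := Finset.univ.image fun g : G => S (g * x * g⁻¹)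
  have hLrep : ∀ F ∈ L, ∃ g : G, S (g * x * g⁻¹) = F := fun F hF => by
    simpa [L] using hF
  have hinv : ∀ F ∈ L, ∀ R ∈ F, ∀ u ∈ (R : Subgroup G), ∀ Q ∈ F, u • Q ∈ F := by
    intro F hF R hR u hu Q hQ
    obtain ⟨g, rfl⟩ := hLrep F hF
    rw [hS] at hR hQ ⊢
    have hc : Commute u (g * x * g⁻¹) := sylow_comm hn hK hu hR
    rw [mem_smul_iff, mul_assoc, ← hc.eq, inv_mul_cancel_left]
    exact hQ
  have hSsmul : ∀ g : G, S (g * x * g⁻¹) = (S x).image (g • ·) := by
    intro g
    ext Q
    rw [hS, Finset.mem_image]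
    constructor
    · intro hQ
      refine ⟨g⁻¹ • Q, ?_, smul_inv_smul g Q⟩
      rw [hS, mem_smul_iff, inv_inv]
      exact hQ
    · rintro ⟨R, hR, rfl⟩
      exact mem_smul R ((hS x R).1 hR)
  have hLcard : ∀ F ∈ L, F.card = (S x).card := by
    intro F hF
    obtain ⟨g, rfl⟩ := hLrep F hF
    rw [hSsmul, Finset.card_image_of_injective _ (MulAction.injective g)]
  have hmeet : ∀ a b : G, (∃ R, R ∈ S (a * x * a⁻¹) ∧ R ∈ S (b * x * b⁻¹)) →
      Commute (a * x * a⁻¹) (b * x * b⁻¹) := by
    rintro a b ⟨R, h1, h2⟩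
    exact sylow_comm hn hK ((hS _ R).1 h1) ((hS _ R).1 h2)
  have hmeet' : (∀ F ∈ L, ∀ F' ∈ L, ∃ R, R ∈ F ∧ R ∈ F') → False := fun h =>
    not_all_commute hn hK hxP hx1 fun a b => hmeet a b
      (h _ (Finset.mem_image_of_mem _ (Finset.mem_univ a)) _ (Finset.mem_image_of_mem _ (Finset.mem_univ b)))
  have hxL : S x ∈ L := by
    simp only [L, Finset.mem_image, Finset.mem_univ, true_and]
    exact ⟨1, by simp⟩
  have hmod : (S x).card % 5 = 1 := by
    rw [← Set.ncard_coe_finset]
    exact modEq_of_invariant hn P _ (Finset.mem_coe.2 ((hS x P).2 hxP))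
      (fun u hu Q hQ => hinv _ hxL P ((hS x P).2 hxP) u hu Q hQ)
  have h2 : 2 ≤ (S x).card := Finset.one_lt_card.2 ⟨P, (hS x P).2 hxP, P₁, (hS x P₁).2 hxQ, Ne.symm hne⟩
  have hle : (S x).card ≤ 21 := hn' ▸ Finset.card_le_univ _
  by_cases hbig : 11 ≤ (S x).card
  · refine hmeet' fun F hF F' hF' => ?_
    by_contra hd
    push Not at hd
    have hdisj : Disjoint F F' := Finset.disjoint_left.2 hd
    have := Finset.card_le_univ (F ∪ F')
    rw [Finset.card_union_of_disjoint hdisj, hLcard F hF, hLcard F' hF'] at this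
    rw [Finset.card_univ] at hn'
    omega
  have h6 : (S x).card = 6 := by omega
  have hline : ∀ F ∈ L, ∀ R ∈ F, ∀ Q ∈ F, Q ≠ R →
      F = insert R (orbit (R : Subgroup G) Q).toFinset := by
    intro F hF R hR Q hQ hQR
    refine (Finset.eq_of_subset_of_card_le ?_ ?_).symm
    · intro Q' hQ'
      rw [Finset.mem_insert, Set.mem_toFinset] at hQ'
      rcases hQ' with rfl | ⟨u, rfl⟩
      · exact hR
      · exact hinv F hF R hR u u.2 Q hQ
    · rw [hLcard F hF, h6, Finset.card_insert_of_notMem, ← Set.ncard_eq_toFinset_card', orbit_card hn hQR]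
      rw [Set.mem_toFinset]
      rintro ⟨u, hu⟩
      apply hQR
      have : (u : G) • Q = R := hu
      rw [← inv_smul_eq_iff.2 this.symm]
      exact smul_self_of_mem (Subgroup.inv_mem _ u.2)
  have hinter : ∀ F ∈ L, ∀ F' ∈ L, F ≠ F' → ∀ R ∈ F, R ∈ F' → ∀ Q ∈ F, Q ∈ F' → Q = R := by
    intro F hF F' hF' hne' R hR hR' Q hQ hQ'
    by_contra hQR
    exact hne' ((hline F hF R hR Q hQ hQR).trans (hline F' hF' R hR' Q hQ' hQR).symm)
  let r : Sylow 5 G → ℕ := fun Q => (L.filter fun F => Q ∈ F).card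
  have hr : ∀ Q, r Q = r P := by
    intro Q
    obtain ⟨g, rfl⟩ := MulAction.exists_smul_eq G P Q
    refine (Finset.card_bij (fun F _ => F.image (g • ·)) ?_ ?_ ?_).symm
    · intro F hF
      rw [Finset.mem_filter] at hF ⊢
      obtain ⟨a, rfl⟩ := hLrep F hF.1
      refine ⟨Finset.mem_image.2 ⟨g * a, Finset.mem_univ _, ?_⟩, Finset.mem_image_of_mem _ hF.2⟩
      rw [hSsmul, hSsmul, Finset.image_image]
      simp [Function.comp_def, mul_smul]
    · intro F _ F' _ h
      exact Finset.image_injective (MulAction.injective g) h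
    · intro F hF
      rw [Finset.mem_filter] at hF
      obtain ⟨a, rfl⟩ := hLrep F hF.1
      refine ⟨S ((g⁻¹ * a) * x * (g⁻¹ * a)⁻¹), Finset.mem_filter.2
        ⟨Finset.mem_image_of_mem _ (Finset.mem_univ _), ?_⟩, ?_⟩
      · rw [hSsmul, Finset.mem_image]
        obtain ⟨R, hR, hRe⟩ := Finset.mem_image.1 (hSsmul a ▸ hF.2)
        exact ⟨R, hR, by rw [mul_smul, hRe, inv_smul_smul]⟩
      · rw [hSsmul, hSsmul, Finset.image_image]
        simp [Function.comp_def, mul_smul]
  have hrpos : 1 ≤ r P :=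
    Finset.card_pos.2 ⟨S x, Finset.mem_filter.2 ⟨hxL, (hS x P).2 hxP⟩⟩
  have hdc : 6 * L.card = 21 * r P := by
    have h1 : ∑ Q : Sylow 5 G, r Q = ∑ F ∈ L, F.card := by
      rw [Finset.sum_congr rfl fun Q _ => Finset.card_filter _ _, Finset.sum_comm]
      refine Finset.sum_congr rfl fun F _ => ?_
      rw [← Finset.card_filter]
      congr 1
      ext Q; simp
    rw [Finset.sum_congr rfl fun Q _ => hr Q, Finset.sum_const, hn', smul_eq_mul,
      Finset.sum_congr rfl fun F hF => (hLcard F hF).trans h6, Finset.sum_const, smul_eq_mul] at h1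
    omega
  have hr4 : 5 * r P ≤ 20 := by
    have hsub : (L.filter fun F => P ∈ F).biUnion (fun F => F.erase P) ⊆ Finset.univ.erase P := by
      intro Q hQ
      obtain ⟨F, -, hQF⟩ := Finset.mem_biUnion.1 hQ
      exact Finset.mem_erase.2 ⟨(Finset.mem_erase.1 hQF).1, Finset.mem_univ _⟩
    have hc := Finset.card_le_card hsub
    rw [Finset.card_biUnion, Finset.sum_congr rfl (fun F hF => by
      rw [Finset.card_erase_of_mem (Finset.mem_filter.1 hF).2, hLcard F (Finset.mem_filter.1 hF).1, h6]),
      Finset.sum_const, smul_eq_mul, Finset.card_erase_of_mem (Finset.mem_univ _), hn'] at hc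
    · show 5 * (L.filter fun F => P ∈ F).card ≤ 20
      omega
    · intro F hF F' hF' hne'
      simp only [Finset.mem_coe, Finset.mem_filter] at hF hF'
      rw [Function.onFun, Finset.disjoint_left]
      intro Q hQ hQ'
      rw [Finset.mem_erase] at hQ hQ'
      exact hQ.1 (hinter F hF.1 F' hF'.1 hne' P hF.2 hF'.2 Q hQ.2 hQ'.2)
  have hothers : ∀ F ∈ L, ∃ T : Finset (Finset (Sylow 5 G)),
      T ⊆ L.erase F ∧ T.card = 6 * (r P - 1) ∧ ∀ F' ∈ T, ∃ R, R ∈ F ∧ R ∈ F' := by
    intro F hF
    refine ⟨F.biUnion fun Q => (L.filter fun F' => Q ∈ F').erase F, ?_, ?_, ?_⟩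
    · intro F' hF'
      obtain ⟨Q, -, hQ⟩ := Finset.mem_biUnion.1 hF'
      rw [Finset.mem_erase, Finset.mem_filter] at hQ
      exact Finset.mem_erase.2 ⟨hQ.1, hQ.2.1⟩
    · rw [Finset.card_biUnion, Finset.sum_congr rfl (fun Q hQ => show
          ((L.filter fun F' => Q ∈ F').erase F).card = r P - 1 by
        rw [Finset.card_erase_of_mem (Finset.mem_filter.2 ⟨hF, hQ⟩)]
        exact congrArg (· - 1) (hr Q)), Finset.sum_const, hLcard F hF, h6, smul_eq_mul]
      intro Q hQ R hR hQR
      rw [Function.onFun, Finset.disjoint_left]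
      intro F' h1 h2
      rw [Finset.mem_erase, Finset.mem_filter] at h1 h2
      exact hQR (hinter F hF F' h1.2.1 (Ne.symm h1.1) R hR h2.2.2 Q hQ h1.2.2)
    · intro F' hF'
      obtain ⟨Q, hQF, hQ⟩ := Finset.mem_biUnion.1 hF'
      rw [Finset.mem_erase, Finset.mem_filter] at hQ
      exact ⟨Q, hQF, hQ.2.2⟩
  refine hmeet' fun F hF F' hF' => ?_
  obtain ⟨T, hTsub, hTcard, hT⟩ := hothers F hF
  by_cases hFF : F' = F
  · subst hFF
    obtain ⟨R, hR⟩ := Finset.card_pos.1 (show 0 < F'.card by rw [hLcard F' hF, h6]; norm_num)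
    exact ⟨R, hR, hR⟩
  refine hT F' ?_
  have hc := Finset.card_le_card hTsub
  rw [Finset.card_erase_of_mem hF, hTcard] at hc
  rw [Finset.eq_of_subset_of_card_le hTsub (by rw [Finset.card_erase_of_mem hF, hTcard]; omega)]
  exact Finset.mem_erase.2 ⟨hFF, hF'⟩

theorem card_five (P : Sylow 5 G) : Nat.card (P : Subgroup G) = 5 := by
  have := finite_sylow hn
  have : Nontrivial (Sylow 5 G) := Finite.one_lt_card_iff_nontrivial.1 (by omega)
  obtain ⟨Q, hQ⟩ := exists_ne P
  have hbot : (Q : Subgroup G).subgroupOf (P : Subgroup G) = ⊥ := by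
    rw [eq_bot_iff]
    intro u hu
    rw [Subgroup.mem_bot]
    by_contra hu1
    exact hQ (eq_of_common hn hK (fun h => hu1 (Subtype.ext h)) u.2 hu)
  have h := stab_index hn hQ
  rwa [hbot, Subgroup.index_bot] at h

theorem isCyclic_sylow (P : Sylow 5 G) : IsCyclic (P : Subgroup G) :=
  isCyclic_of_prime_card (card_five hn hK P)

/-- A proper nontrivial normal subgroup cannot exist, given the claim for smaller groups. -/
theorem simple_step (M : Subgroup G) [M.Normal] (hM : M ≠ ⊥)
    (ih : M ≠ ⊤ → Nat.card (Sylow 5 M) ≠ 21) : M = ⊤ := by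
  obtain ⟨P⟩ : Nonempty (Sylow 5 G) := inferInstance
  have := finite_sylow hn
  have horb : (orbit M P).ncard = 21 := by
    have hB : IsBlock G (orbit M P) := IsBlock.orbit_of_normal P
    have hd := hB.ncard_dvd_card (MulAction.nonempty_orbit P)
    rw [hn] at hd
    have hmod : (orbit M P).ncard % 5 = 1 := by
      refine modEq_of_invariant hn P _ (mem_orbit_self P) ?_
      rintro u hu Q ⟨m, rfl⟩
      refine ⟨⟨u * m * u⁻¹, ‹M.Normal›.conj_mem _ m.2 u⟩, ?_⟩
      show (u * (m : G) * u⁻¹) • P = u • (m : G) • P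
      rw [mul_smul, mul_smul, smul_self_of_mem (Subgroup.inv_mem _ hu)]
    have hle := Nat.le_of_dvd (by norm_num) hd
    have hne : (orbit M P).ncard ≠ 1 := by
      intro h1
      apply hM
      rw [eq_bot_iff]
      intro m hm
      rw [Subgroup.mem_bot]
      refine hK m fun Q => ?_
      obtain ⟨g, rfl⟩ := MulAction.exists_smul_eq G P Q
      obtain ⟨Q₀, hQ₀⟩ := Set.ncard_eq_one.1 h1
      have e1 : (⟨g⁻¹ * m * g, ‹M.Normal›.conj_mem' m hm g⟩ : M) • P ∈ orbit M P :=
        MulAction.mem_orbit _ _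
      have e2 : P ∈ orbit M P := mem_orbit_self P
      rw [hQ₀, Set.mem_singleton_iff] at e1 e2
      have e3 : (g⁻¹ * m * g) • P = P := e1.trans e2.symm
      rw [mul_smul, mul_smul, inv_smul_eq_iff] at e3
      exact e3
    interval_cases h : (orbit M P).ncard <;> omega
  by_cases h5 : 5 ∣ Nat.card M
  · by_contra hMtop
    apply ih hMtop
    obtain ⟨x, hx⟩ := exists_prime_orderOf_dvd_card' 5 h5
    have hxo : orderOf (x : G) = 5 := (Subgroup.orderOf_coe x).trans hx
    obtain ⟨R, hR⟩ := (IsPGroup.of_card (G := Subgroup.zpowers (x : G)) (p := 5) (n := 1)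
      (by rw [Nat.card_zpowers, hxo, pow_one])).exists_le_sylow
    have hRM : ∀ Q : Sylow 5 G, (Q : Subgroup G) ≤ M := by
      intro Q
      obtain ⟨g, rfl⟩ := MulAction.exists_smul_eq G R Q
      intro u hu
      rw [mem_smul_iff] at hu
      have heq : Subgroup.zpowers (x : G) = (R : Subgroup G) := Subgroup.eq_of_le_of_card_ge hR
        (by rw [card_five hn hK R, Nat.card_zpowers, hxo])
      have hmem : g⁻¹ * u * g ∈ M := by
        rw [← heq] at hu
        exact (Subgroup.zpowers_le.2 x.2) hu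
      simpa [mul_assoc] using ‹M.Normal›.conj_mem _ hmem g
    rw [← hn]
    refine (Nat.card_congr (Equiv.ofBijective (fun Q => Q.subtype (hRM Q)) ⟨?_, ?_⟩)).symm
    · intro Q Q' h
      exact Sylow.subtype_injective h
    · intro T
      obtain ⟨Q, hQ⟩ := (T.2.map M.subtype).exists_le_sylow
      refine ⟨Q, Sylow.ext ?_⟩
      exact T.3 (Q.subtype (hRM Q)).2 (Subgroup.map_le_iff_le_comap.1 hQ)
  · exfalso
    have : Fact (Nat.Prime 3) := ⟨by norm_num⟩
    have hstab : (MulAction.stabilizer M P).index = 21 := by rw [MulAction.index_stabilizer, horb]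
    obtain ⟨S₀⟩ : Nonempty (Sylow 3 (MulAction.stabilizer M P)) := inferInstance
    set C : Subgroup G := (MulAction.stabilizer M P).map M.subtype with hC
    set S : Subgroup G := ((S₀ : Subgroup (MulAction.stabilizer M P)).map
      (MulAction.stabilizer M P).subtype).map M.subtype with hS
    have hSC : S ≤ C := Subgroup.map_mono (Subgroup.map_subtype_le _)
    have hSM : S ≤ M := Subgroup.map_subtype_le _
    have hCP : ∀ m ∈ C, ∀ u ∈ (P : Subgroup G), Commute m u := by
      rintro _ ⟨m, hm, rfl⟩ u hu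
      have hmP : (m : G) • P = P := hm
      have h1 : (m : G) * u * (m : G)⁻¹ * u⁻¹ ∈ (P : Subgroup G) := by
        refine Subgroup.mul_mem _ ?_ (Subgroup.inv_mem _ hu)
        exact hmP ▸ mem_smul (g := (m : G)) P hu
      have h2 : (m : G) * u * (m : G)⁻¹ * u⁻¹ ∈ M := by
        have : (m : G) * (u * (m : G)⁻¹ * u⁻¹) ∈ M :=
          M.mul_mem m.2 (‹M.Normal›.conj_mem _ (M.inv_mem m.2) u)
        simpa [mul_assoc] using this
      set w := (m : G) * u * (m : G)⁻¹ * u⁻¹ with hw
      have hw1 : w = 1 := by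
        by_contra hne
        apply h5
        have ho : orderOf w = 5 := orderOf_eq_prime (pow_five hn hK h1) hne
        rw [← ho]
        exact M.orderOf_dvd_natCard h2
      show (m : G) * u = u * (m : G)
      have h3 := mul_inv_eq_one.1 hw1
      exact mul_inv_eq_iff_eq_mul.1 h3
    have hcardS : Nat.card S = 3 ^ (Nat.card (MulAction.stabilizer M P)).factorization 3 := by
      rw [hS, Subgroup.card_map_of_injective M.subtype_injective,
        Subgroup.card_map_of_injective (MulAction.stabilizer M P).subtype_injective,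
        S₀.card_eq_multiplicity]
    set a := (Nat.card (MulAction.stabilizer M P)).factorization 3 with ha
    have hcardC : Nat.card C = Nat.card (MulAction.stabilizer M P) :=
      Subgroup.card_map_of_injective M.subtype_injective
    have hfacM : (Nat.card M).factorization 3 = a + 1 := by
      rw [← Subgroup.card_mul_index (MulAction.stabilizer M P), hstab,
        Nat.factorization_mul Nat.card_pos.ne' (by norm_num), Finsupp.add_apply, ← ha]
      congr 1
      rw [show (21 : ℕ) = 3 * 7 from rfl, Nat.factorization_mul (by norm_num) (by norm_num),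
        Finsupp.add_apply, Nat.Prime.factorization_self (by norm_num),
        Nat.factorization_eq_zero_of_not_dvd (by norm_num)]
    set H : Subgroup G := M ⊓ Subgroup.normalizer (S : Set G) with hH
    have hSH : S ≤ H := le_inf hSM Subgroup.le_normalizer
    have hSp : IsPGroup 3 S := IsPGroup.of_card hcardS
    have hHdvd : 3 ^ (a + 1) ∣ Nat.card H := by
      have hdvd : 3 ^ (a + 1) ∣ Nat.card M := hfacM ▸ Nat.ordProj_dvd _ _
      have hcardS' : Nat.card (S.subgroupOf M) = 3 ^ a :=
        (Nat.card_congr (Subgroup.subgroupOfEquivOfLe hSM).toEquiv).trans hcardS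
      obtain ⟨K, hK1, hK2⟩ := Sylow.exists_subgroup_card_pow_succ hdvd hcardS'
      have hKle : K ≤ Subgroup.normalizer ((S.subgroupOf M : Subgroup M) : Set M) := by
        have : ((S.subgroupOf M).subgroupOf K).Normal := by
          apply Subgroup.normal_of_index_eq_minFac_card
          have h1 := Subgroup.card_mul_index ((S.subgroupOf M).subgroupOf K)
          rw [Nat.card_congr (Subgroup.subgroupOfEquivOfLe hK2).toEquiv, hcardS', hK1, pow_succ] at h1
          rw [hK1, Nat.pow_minFac (by omega), Nat.Prime.minFac_eq (by norm_num)]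
          exact Nat.eq_of_mul_eq_mul_left (by positivity) h1
        exact (Subgroup.normal_subgroupOf_iff_le_normalizer hK2).1 this
      rw [← hK1, ← Subgroup.card_map_of_injective M.subtype_injective]
      refine Subgroup.card_dvd_of_le ?_
      rintro _ ⟨k, hk, rfl⟩
      refine ⟨k.2, ?_⟩
      show (k : G) ∈ Subgroup.normalizer (S : Set G)
      rw [Subgroup.mem_normalizer_iff]
      have hk' := Subgroup.mem_normalizer_iff.1 (hKle hk)
      intro y
      constructor
      · intro hy
        exact (hk' ⟨y, hSM hy⟩).1 hy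
      · intro hy
        have hyM : y ∈ M := by
          simpa [mul_assoc] using M.mul_mem (M.mul_mem (M.inv_mem k.2) (hSM hy)) k.2
        exact (hk' ⟨y, hyM⟩).2 hy
    have hPS : (P : Subgroup G) ≤ Subgroup.normalizer (S : Set G) := by
      intro u hu
      rw [Subgroup.mem_normalizer_iff]
      intro y
      constructor
      · intro hy
        rw [← (hCP y (hSC hy) u hu).eq, mul_inv_cancel_right]
        exact hy
      · intro hy
        have h1 := hCP _ (hSC hy) u hu
        have h2 : y = u * y * u⁻¹ := by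
          have := h1.eq
          calc y = u⁻¹ * ((u * y * u⁻¹) * u) := by group
            _ = u⁻¹ * (u * (u * y * u⁻¹)) := by rw [this]
            _ = _ := by group
        rw [h2]; exact hy
    have hPH : ∀ u ∈ (P : Subgroup G), ∀ h ∈ H, u * h * u⁻¹ ∈ H := fun u hu h hh =>
      ⟨‹M.Normal›.conj_mem h hh.1 u, Subgroup.mul_mem _ (Subgroup.mul_mem _ (hPS hu) hh.2)
        (Subgroup.inv_mem _ (hPS hu))⟩
    have hPnorm : (P : Subgroup G) ≤ Subgroup.normalizer (H : Set G) := by
      intro u hu
      rw [Subgroup.mem_normalizer_iff]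
      intro y
      refine ⟨fun hy => hPH u hu y hy, fun hy => ?_⟩
      have := hPH u⁻¹ (Subgroup.inv_mem _ hu) _ hy
      simpa [mul_assoc] using this
    let φ : (P : Subgroup G) →* MulAut H :=
      (H.normalizerMonoidHom).comp (Subgroup.inclusion hPnorm)
    let act : MulAction (P : Subgroup G) (Sylow 3 H) := MulAction.compHom _ φ
    have hex : ∃ R : Sylow 3 H, ∀ u : (P : Subgroup G), φ u • R = R := by
      have h5n : ¬ 5 ∣ Nat.card (Sylow 3 H) := fun hd => by
        obtain ⟨R⟩ : Nonempty (Sylow 3 H) := inferInstance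
        exact h5 ((hd.trans (R.card_dvd_index.trans (Subgroup.index_dvd_card _))).trans
          (Subgroup.card_dvd_of_le inf_le_left))
      obtain ⟨R, hR⟩ := P.2.nonempty_fixed_point_of_prime_not_dvd_card (Sylow 3 H) h5n
      exact ⟨R, fun u => hR u⟩
    obtain ⟨R, hR⟩ := hex
    have hRinv : ∀ u : (P : Subgroup G), ∀ r ∈ (R : Subgroup H), φ u r ∈ (R : Subgroup H) := by
      intro u r hr
      have h1 : φ u r ∈ ((φ u • R : Sylow 3 H) : Subgroup H) := by
        rw [Sylow.pointwise_smul_def]
        exact Subgroup.mem_map_of_mem _ hr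
      rwa [hR u] at h1
    let act2 : MulAction (P : Subgroup G) (R : Subgroup H) :=
      { smul := fun u r => ⟨φ u r.1, hRinv u r.1 r.2⟩
        one_smul := fun r => Subtype.ext (by show φ 1 r.1 = r.1; rw [map_one]; rfl)
        mul_smul := fun u v r => Subtype.ext (by show φ (u * v) r.1 = φ u (φ v r.1); rw [map_mul]; rfl) }
    have hmodR := P.2.card_modEq_card_fixedPoints (R : Subgroup H)
    have hRcard : Nat.card (R : Subgroup H) = 3 ^ (a + 1) := by
      obtain ⟨j, hj⟩ := R.2.exists_card_eq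
      have h1 : 3 ^ (a + 1) ∣ 3 ^ j := hj ▸ R.pow_dvd_card_of_pow_dvd_card hHdvd
      have h2 : 3 ^ j ∣ Nat.card M :=
        hj ▸ (Subgroup.card_subgroup_dvd_card _).trans (Subgroup.card_dvd_of_le inf_le_left)
      rw [(Nat.Prime.pow_dvd_iff_le_factorization (by norm_num) Nat.card_pos.ne'), hfacM] at h2
      rw [Nat.pow_dvd_pow_iff_le_right (by norm_num)] at h1
      rw [hj, show j = a + 1 by omega]
    have hSR : S.subgroupOf H ≤ (R : Subgroup H) := by
      have hSn : (S.subgroupOf H).Normal :=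
        (Subgroup.normal_subgroupOf_iff_le_normalizer hSH).2 inf_le_right
      have hp' : IsPGroup 3 (S.subgroupOf H) := hSp.comap_subtype
      exact sup_eq_left.mp (R.3 (R.2.to_sup_of_normal_right hp') le_sup_left)
    have hfixS : Nat.card (fixedPoints (P : Subgroup G) (R : Subgroup H)) = 3 ^ a := by
      rw [← hcardS]
      let T : Subgroup G := ((R : Subgroup H).map H.subtype) ⊓ C
      have hTS : T = S := by
        have hST : S ≤ T := fun s hs =>
          Subgroup.mem_inf.2 ⟨⟨⟨s, hSH hs⟩, hSR hs, rfl⟩, hSC hs⟩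
        refine (Subgroup.eq_of_le_of_card_ge hST ?_).symm
        have hTp : IsPGroup 3 T := (R.2.map H.subtype).to_le inf_le_left
        obtain ⟨j, hj⟩ := hTp.exists_card_eq
        have h1 : 3 ^ j ∣ Nat.card (MulAction.stabilizer M P) := by
          rw [← hj, ← hcardC]; exact Subgroup.card_dvd_of_le inf_le_right
        rw [(Nat.Prime.pow_dvd_iff_le_factorization (by norm_num) Nat.card_pos.ne'), ← ha] at h1
        rw [hcardS, hj]
        exact Nat.pow_le_pow_right (by norm_num) h1
      rw [← hTS]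
      refine Nat.card_congr
        { toFun := fun r => ⟨((r.1.1 : H) : G), ⟨r.1.1, r.1.2, rfl⟩, ?_⟩
          invFun := fun t => ⟨⟨⟨t.1, ?_⟩, ?_⟩, fun u => Subtype.ext (Subtype.ext ?_)⟩
          left_inv := fun r => rfl
          right_inv := fun t => rfl }
      · refine ⟨⟨((r.1.1 : H) : G), r.1.1.2.1⟩, ?_, rfl⟩
        show ((r.1.1 : H) : G) • P = P
        rw [Sylow.smul_eq_iff_mem_normalizer, ← P.coe_coe, Subgroup.mem_normalizer_iff]
        have hcm : ∀ y ∈ (P : Subgroup G), ((r.1.1 : H) : G) * y = y * ((r.1.1 : H) : G) := by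
          intro y hy
          have h := congrArg (fun z : (R : Subgroup H) => ((z.1 : H) : G)) (r.2 ⟨y, hy⟩)
          have h' : y * ((r.1.1 : H) : G) * y⁻¹ = ((r.1.1 : H) : G) := h
          exact (mul_inv_eq_iff_eq_mul.1 h').symm
        intro y
        constructor
        · intro hy
          rw [hcm y hy, mul_inv_cancel_right]
          exact hy
        · intro hy
          have h1 := hcm _ hy
          have h2 : y = ((r.1.1 : H) : G) * y * ((r.1.1 : H) : G)⁻¹ := by
            set c := ((r.1.1 : H) : G)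
            calc y = c⁻¹ * ((c * y * c⁻¹) * c) := by group
              _ = c⁻¹ * (c * (c * y * c⁻¹)) := by rw [h1]
              _ = _ := by group
          rw [h2]; exact hy
      · obtain ⟨⟨r, hr, hre⟩, -⟩ := t.2
        rw [← hre]; exact r.2
      · obtain ⟨⟨r, hr, hre⟩, -⟩ := t.2
        have hre' : r = ⟨t.1, by rw [← hre]; exact r.2⟩ := Subtype.ext hre
        rw [hre'] at hr
        exact hr
      · show (u : G) * t.1 * (u : G)⁻¹ = t.1
        rw [← (hCP t.1 t.2.2 u.1 u.2).eq, mul_inv_cancel_right]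
    rw [hfixS, hRcard, pow_succ, Nat.ModEq, Nat.mul_mod] at hmodR
    have h3 : ¬ 5 ∣ 3 ^ a := fun hd => by
      have := (by norm_num : Nat.Prime 5).dvd_of_dvd_pow hd
      norm_num at this
    omega

end faithful

theorem final_case [IsSimpleGroup G] (hn : Nat.card (Sylow 5 G) = 21)
    (hK : ∀ g : G, (∀ Q : Sylow 5 G, g • Q = Q) → g = 1) : False := by
  classical
  have := finite_sylow hn
  have := Fintype.ofFinite (Sylow 5 G)
  obtain ⟨P⟩ : Nonempty (Sylow 5 G) := inferInstance
  have hP5 := card_five hn hK P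
  have h5G : 5 ∣ Nat.card G := hP5 ▸ Subgroup.card_subgroup_dvd_card _
  have hG : ¬ IsMulCommutative G := by
    intro hc
    have hnormal : (P : Subgroup G).Normal :=
      ⟨fun u hu g => by rw [hc.is_comm.comm g u, mul_inv_cancel_right]; exact hu⟩
    have := P.unique_of_normal hnormal
    rw [Nat.card_unique] at hn
    omega
  set N := Subgroup.normalizer ((P : Subgroup G) : Set G) with hN
  set C := Subgroup.centralizer ((P : Subgroup G) : Set G) with hC
  have hNidx : N.index = 21 := by rw [hN, ← hn, P.card_eq_index_normalizer, P.coe_coe]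
  obtain ⟨e, he1, he4, hecard, -⟩ := SimpleOrder.exists_card_normalizer_eq hG P hP5
  rw [← hN, ← hC] at hecard
  have he2 : 2 ∣ e := by
    have hle : e ≤ 4 := Nat.le_of_dvd (by norm_num) he4
    interval_cases e <;> norm_num at *
  have h2G : 2 ∣ Nat.card G :=
    (he2.trans (Dvd.intro _ hecard)).trans (Subgroup.card_subgroup_dvd_card _)
  have : Fact (Nat.Prime 2) := ⟨Nat.prime_two⟩
  obtain ⟨T₀⟩ : Nonempty (Sylow 2 N) := inferInstance
  set T : Subgroup G := (T₀ : Subgroup N).map N.subtype with hT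
  have hTN : T ≤ N := Subgroup.map_subtype_le _
  have hTidx : ¬ 2 ∣ T.index := by
    rw [hT, Subgroup.index_map_subtype, hNidx]
    intro hd
    rcases Nat.prime_two.dvd_mul.1 hd with h | h
    · exact T₀.not_dvd_index h
    · norm_num at h
  let Ts : Sylow 2 G := (T₀.2.map N.subtype).toSylow hTidx
  have hTs : (Ts : Subgroup G) = T := rfl
  let φ : N →* MulAut (P : Subgroup G) := (P : Subgroup G).normalizerMonoidHom
  have hφker : ∀ g : N, φ g = 1 ↔ (g : G) ∈ C := by
    intro g
    rw [← MonoidHom.mem_ker, Subgroup.normalizerMonoidHom_ker, Subgroup.mem_subgroupOf]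
  by_cases hC2 : 2 ∣ Nat.card C
  · -- transfer
    let π : G →* Equiv.Perm (Sylow 5 G) := MulAction.toPermHom G (Sylow 5 G)
    have hπ : ∀ g Q, π g Q = g • Q := fun _ _ => rfl
    have hsign : ∀ g : G, Equiv.Perm.sign (π g) = 1 := by
      intro g
      rcases (MonoidHom.normal_ker (Equiv.Perm.sign.comp π)).eq_bot_or_eq_top with h | h
      · exfalso
        exact hG ⟨⟨fun a b => (MonoidHom.ker_eq_bot_iff _).1 h (by rw [map_mul, map_mul, mul_comm])⟩⟩
      · exact MonoidHom.mem_ker.1 (h ▸ Subgroup.mem_top g : g ∈ (Equiv.Perm.sign.comp π).ker)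
    have hCN : C ≤ N := Subgroup.centralizer_le_normalizer _
    have hinvol : ∀ u ∈ C, orderOf u = 2 → ∀ Q : Sylow 5 G, u • Q = Q → Q = P := by
      intro u hu hu2 Q hQ
      by_contra hne
      set s : Set (Sylow 5 G) := {R | u • R = R} with hs
      have hu0 : u • P = P := by
        rw [Sylow.smul_eq_iff_mem_normalizer]
        exact hCN hu
      have hmod : s.ncard % 5 = 1 := by
        refine modEq_of_invariant hn P s hu0 fun v hv R hR => ?_
        show u • v • R = v • R
        rw [← mul_smul, ← (Subgroup.mem_centralizer_iff.1 hu v hv), mul_smul]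
        exact congrArg (v • ·) hR
      have hne1 : s.ncard ≠ 1 := fun h1 => by
        obtain ⟨R, hR⟩ := Set.ncard_eq_one.1 h1
        have e1 : Q ∈ s := hQ
        have e2 : P ∈ s := hu0
        rw [hR] at e1 e2
        exact hne (e1.trans e2.symm)
      have hne21 : s.ncard ≠ 21 := fun h21 => by
        have hs' : s = Set.univ := Set.eq_of_subset_of_ncard_le (Set.subset_univ _)
          (by rw [Set.ncard_univ, hn, h21]) (Set.toFinite _)
        have hu1 : u = 1 := hK u fun R => (hs'.symm ▸ Set.mem_univ R : R ∈ s)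
        rw [hu1, orderOf_one] at hu2
        omega
      have hsq : π u ^ 2 = 1 := by rw [← map_pow, ← hu2, pow_orderOf_eq_one, map_one]
      have hct : (π u).cycleType = Multiset.replicate (π u).cycleType.card 2 :=
        Equiv.Perm.cycleType_of_pow_prime_eq_one hsq
      have hsum : (π u).cycleType.sum = 2 * (π u).cycleType.card := by
        conv_lhs => rw [hct]
        rw [Multiset.sum_replicate, smul_eq_mul, mul_comm]
      have hsupp : (π u).cycleType.sum + s.ncard = 21 := by
        rw [Equiv.Perm.sum_cycleType, ← hn, Nat.card_eq_fintype_card, ← Finset.card_univ,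
          ← Finset.card_sdiff_add_card_eq_card (Finset.subset_univ ((π u).support)),
          add_comm (Finset.card (Finset.univ \ _))]
        congr 1
        rw [← Set.ncard_coe_finset]
        congr 1
        ext R
        simp [hs, hπ]
      have hsg := hsign u
      rw [Equiv.Perm.sign_of_cycleType, neg_one_pow_eq_one_iff_even (by decide), hsum,
        Nat.even_add] at hsg
      simp only [even_two_mul, true_iff, Nat.even_iff] at hsg
      omega
    -- an involution of `C` central in `T`
    have hTC : ∃ z : G, orderOf z = 2 ∧ z ∈ C ∧ z ∈ T ∧ ∀ t ∈ T, Commute t z := by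
      have hTn : ((C.subgroupOf T)).Normal := by
        refine ⟨fun c hc t => ?_⟩
        rw [Subgroup.mem_subgroupOf] at hc ⊢
        rw [hC, Subgroup.mem_centralizer_iff]
        intro v hv
        have ht : (t : G) ∈ N := hTN t.2
        have hv' : (t : G)⁻¹ * v * (t : G) ∈ (P : Subgroup G) := by
          have := (Subgroup.mem_normalizer_iff.1 (N.inv_mem ht) v).1 hv
          simpa using this
        have := Subgroup.mem_centralizer_iff.1 hc _ hv'
        show v * ((t : G) * (c : G) * (t : G)⁻¹) = ((t : G) * (c : G) * (t : G)⁻¹) * v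
        calc v * ((t : G) * (c : G) * (t : G)⁻¹)
            = (t : G) * (((t : G)⁻¹ * v * (t : G)) * (c : G)) * (t : G)⁻¹ := by group
          _ = (t : G) * ((c : G) * ((t : G)⁻¹ * v * (t : G))) * (t : G)⁻¹ := by rw [this]
          _ = _ := by group
      have hTp : IsPGroup 2 T := T₀.2.map N.subtype
      have hne : C.subgroupOf T ≠ ⊥ := by
        intro hbot
        obtain ⟨c, hc⟩ := exists_prime_orderOf_dvd_card' 2 hC2
        have hco : orderOf (c : G) = 2 := (Subgroup.orderOf_coe c).trans hc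
        have hcN : orderOf (⟨(c : G), hCN c.2⟩ : N) = 2 := by rw [← Subgroup.orderOf_coe]; exact hco
        obtain ⟨R, hR⟩ := (IsPGroup.of_card (G := Subgroup.zpowers (⟨(c : G), hCN c.2⟩ : N)) (p := 2)
          (n := 1) (by rw [Nat.card_zpowers, hcN, pow_one])).exists_le_sylow
        obtain ⟨n, rfl⟩ := MulAction.exists_smul_eq N T₀ R
        have hmem := hR (Subgroup.mem_zpowers _)
        rw [Sylow.coe_subgroup_smul, Subgroup.mem_pointwise_smul_iff_inv_smul_mem] at hmem
        simp only [MulAut.smul_def, MulAut.conj_inv_apply] at hmem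
        have h1 : ((n⁻¹ * ⟨(c : G), hCN c.2⟩ * n : N) : G) ∈ T := Subgroup.mem_map_of_mem _ hmem
        have h2 : ((n⁻¹ * ⟨(c : G), hCN c.2⟩ * n : N) : G) ∈ C := by
          have hnC : φ (n⁻¹ * ⟨(c : G), hCN c.2⟩ * n) = 1 := by
            rw [map_mul, map_mul, (hφker ⟨(c : G), hCN c.2⟩).2 c.2, mul_one, ← map_mul, inv_mul_cancel, map_one]
          exact (hφker _).1 hnC
        have h3 : (⟨_, h1⟩ : T) ∈ C.subgroupOf T := h2
        rw [hbot, Subgroup.mem_bot] at h3
        have h4 : (n⁻¹ * ⟨(c : G), hCN c.2⟩ * n : N) = 1 := Subtype.ext (congrArg Subtype.val h3 :)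
        have h5 : (⟨(c : G), hCN c.2⟩ : N) = 1 := by
          calc (⟨(c : G), hCN c.2⟩ : N) = n * (n⁻¹ * ⟨(c : G), hCN c.2⟩ * n) * n⁻¹ := by group
            _ = 1 := by rw [h4]; group
        rw [h5, orderOf_one] at hcN
        omega
      have : Nontrivial ↥(C.subgroupOf T ⊓ Subgroup.center T : Subgroup T) :=
        (Subgroup.nontrivial_iff_ne_bot _).2 (PGroupsBasic.inf_center_ne_bot hTp hne)
      have hp' : IsPGroup 2 ↥(C.subgroupOf T ⊓ Subgroup.center T : Subgroup T) := hTp.to_subgroup _
      obtain ⟨z, hz⟩ := exists_prime_orderOf_dvd_card' 2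
        (hp'.card_eq_or_dvd.resolve_left (Finite.one_lt_card.ne'))
      refine ⟨((z.1 : T) : G), ?_, z.2.1, z.1.2, fun t ht => ?_⟩
      · rw [Subgroup.orderOf_coe, Subgroup.orderOf_coe, hz]
      · exact congrArg Subtype.val (Subgroup.mem_center_iff.1 z.2.2 ⟨t, ht⟩)
    obtain ⟨z, hz2, hzC, hzT, hzc⟩ := hTC
    have hctrl : ∀ a g : G, a ∈ T → g * a * g⁻¹ ∈ T →
        ∃ n ∈ N, g * a * g⁻¹ = n * a * n⁻¹ := by
      intro a g ha hb
      set b := g * a * g⁻¹ with hb'
      set H := Subgroup.centralizer ({b} : Set G) with hH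
      have hzH : z ∈ H := Subgroup.mem_centralizer_singleton_iff.2 (hzc b hb).eq.symm
      have hz'H : g * z * g⁻¹ ∈ H := by
        rw [hH, Subgroup.mem_centralizer_singleton_iff, hb']
        calc g * z * g⁻¹ * (g * a * g⁻¹) = g * (z * a) * g⁻¹ := by group
          _ = g * (a * z) * g⁻¹ := by rw [(hzc a ha).eq]
          _ = _ := by group
      have hp2 : ∀ w : H, orderOf (w : G) = 2 → IsPGroup 2 (Subgroup.zpowers w) := fun w hw =>
        IsPGroup.of_card (n := 1) (by rw [Nat.card_zpowers, ← Subgroup.orderOf_coe, hw, pow_one])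
      obtain ⟨T1, hT1⟩ := (hp2 ⟨z, hzH⟩ hz2).exists_le_sylow
      obtain ⟨T2, hT2⟩ := (hp2 ⟨_, hz'H⟩ (by
        rw [← hz2]; exact (MulAut.conj g).orderOf_eq z)).exists_le_sylow
      obtain ⟨h, hh⟩ := MulAction.exists_smul_eq H T2 T1
      have hTG : IsPGroup 2 ((T1 : Subgroup H).map H.subtype) := T1.2.map H.subtype
      obtain ⟨R, hR⟩ := hTG.nonempty_fixed_point_of_prime_not_dvd_card (Sylow 5 G)
        (by rw [hn]; norm_num)
      have hfix : ∀ w ∈ (T1 : Subgroup H), (w : G) • R = R := fun w hw =>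
        hR ⟨(w : G), Subgroup.mem_map_of_mem _ hw⟩
      have hRP : R = P := hinvol z hzC hz2 R (hfix ⟨z, hzH⟩ (hT1 (Subgroup.mem_zpowers _)))
      have hmem : (h * ⟨_, hz'H⟩ * h⁻¹ : H) ∈ (T1 : Subgroup H) := by
        rw [← hh, Sylow.coe_subgroup_smul]
        exact Subgroup.smul_mem_pointwise_smul _ _ _ (hT2 (Subgroup.mem_zpowers _))
      have hfix2 := hfix _ hmem
      rw [hRP] at hfix2
      have hgo : ((h : G) * g) • P = P := by
        have hfix3 : z • (((h : G) * g)⁻¹ • P) = ((h : G) * g)⁻¹ • P := by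
          rw [eq_inv_smul_iff, ← mul_smul, ← mul_smul]
          refine Eq.trans (congrArg (· • P) ?_) hfix2
          simp [mul_assoc]
        have := hinvol z hzC hz2 _ hfix3
        rw [inv_smul_eq_iff] at this
        exact this.symm
      refine ⟨(h : G) * g, ?_, ?_⟩
      · rw [hN, P.coe_coe, ← Sylow.smul_eq_iff_mem_normalizer]
        exact hgo
      · have hhc := Subgroup.mem_centralizer_singleton_iff.1 h.2
        calc b = (h : G) * b * (h : G)⁻¹ := by rw [hhc, mul_inv_cancel_right]
          _ = _ := by rw [hb']; group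
    have hcy : IsCyclic (P : Subgroup G) := isCyclic_sylow hn hK P
    let ψ : T →* (ZMod (Nat.card (P : Subgroup G)))ˣ :=
      ((IsCyclic.mulAutMulEquiv (P : Subgroup G)).toMonoidHom.comp φ).comp (Subgroup.inclusion hTN)
    have hψ1 : ∀ t : T, ψ t = 1 := by
      intro t
      have hkey : ∀ (k : ℕ) (g : G) (h : g⁻¹ * (t : G) ^ k * g ∈ T), ψ ⟨_, h⟩ = ψ t ^ k := by
        intro k g h
        have h' : g⁻¹ * (t : G) ^ k * g⁻¹⁻¹ ∈ T := by rwa [inv_inv]
        obtain ⟨n, hn', hne⟩ := hctrl ((t : G) ^ k) g⁻¹ (pow_mem t.2 k) h'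
        rw [inv_inv] at hne
        rw [← map_pow]
        have e : Subgroup.inclusion hTN ⟨_, h⟩ =
            ⟨n, hn'⟩ * Subgroup.inclusion hTN (t ^ k) * ⟨n, hn'⟩⁻¹ := Subtype.ext hne
        show (IsCyclic.mulAutMulEquiv (P : Subgroup G)) (φ (Subgroup.inclusion hTN ⟨_, h⟩)) = _
        rw [e, map_mul, map_mul, map_inv, map_mul, map_mul, map_inv, mul_comm, inv_mul_cancel_left]
        rfl
      have htr := TransferPow.transfer_eq_pow_index ψ t hkey
      have hker : (MonoidHom.transfer ψ).ker = ⊤ := by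
        rcases (MonoidHom.normal_ker (MonoidHom.transfer ψ)).eq_bot_or_eq_top with h | h
        · exact absurd ⟨⟨fun a b => (MonoidHom.ker_eq_bot_iff _).1 h (by rw [map_mul, map_mul, mul_comm])⟩⟩ hG
        · exact h
      have h1 : ψ t ^ T.index = 1 := by
        rw [← htr]
        exact MonoidHom.mem_ker.1 (hker ▸ Subgroup.mem_top _)
      have h4 : ψ t ^ Nat.card (ZMod (Nat.card (P : Subgroup G)))ˣ = 1 := pow_card_eq_one'
      refine TransferPow.eq_one_of_pow_eq_one_of_coprime h1 h4 ?_
      have hc4 : Nat.card (ZMod (Nat.card (P : Subgroup G)))ˣ = 2 ^ 2 := by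
        rw [← Nat.card_congr (IsCyclic.mulAutMulEquiv (P : Subgroup G)).toEquiv, hcy.card_mulAut, hP5]
        rfl
      rw [hc4]
      exact (((Nat.prime_two.coprime_iff_not_dvd).2 hTidx).symm).pow_right 2
    have hTC' : T ≤ C := by
      intro t ht
      refine (hφker ⟨t, hTN ht⟩).1 ((IsCyclic.mulAutMulEquiv (P : Subgroup G)).injective ?_)
      rw [map_one]
      exact hψ1 ⟨t, ht⟩
    apply hTidx
    refine dvd_trans ?_ (Subgroup.index_dvd_of_le hTC')
    have hCidx : C.index = e * 21 := by
      have h1 := Subgroup.card_mul_index C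
      rw [← Subgroup.card_mul_index N, hNidx, ← hecard] at h1
      apply Nat.eq_of_mul_eq_mul_left (Nat.card_pos (α := C))
      rw [h1]; ring
    rw [hCidx]
    exact dvd_mul_of_dvd_left he2 21
  · -- cyclic Sylow 2-subgroup
    have hinj : Function.Injective (φ.comp (Subgroup.inclusion hTN)) := by
      rw [injective_iff_map_eq_one]
      intro t ht
      by_contra hne
      apply hC2
      have hmem : (t : G) ∈ C := (hφker _).1 ht
      obtain ⟨k, hk⟩ := (T₀.2.map N.subtype).exists_card_eq
      have h1 : orderOf t ∣ 2 ^ k := hk ▸ orderOf_dvd_natCard t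
      obtain ⟨j, -, hj⟩ := (Nat.dvd_prime_pow Nat.prime_two).1 h1
      rcases j with _ | j
      · exact absurd (orderOf_eq_one_iff.1 (by simpa using hj)) hne
      · refine (dvd_pow_self 2 (Nat.succ_ne_zero j)).trans ?_
        rw [← hj, ← Subgroup.orderOf_coe]
        exact C.orderOf_dvd_natCard hmem
    have hcy : IsCyclic (P : Subgroup G) := isCyclic_sylow hn hK P
    have hU : IsCyclic (ZMod (Nat.card (P : Subgroup G)))ˣ := by
      rw [hP5]; exact ZMod.isCyclic_units_prime (by norm_num)
    have hT2 : IsCyclic (Ts : Subgroup G) := by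
      rw [hTs]
      exact isCyclic_of_injective
        ((IsCyclic.mulAutMulEquiv (P : Subgroup G)).toMonoidHom.comp (φ.comp (Subgroup.inclusion hTN)))
        ((IsCyclic.mulAutMulEquiv (P : Subgroup G)).injective.comp hinj)
    exact SimpleOrder.not_normalizer_le_centralizer hG h2G Ts
      (hT2.normalizer_le_centralizer ((Nat.minFac_eq_two_iff _).2 h2G))

universe u

theorem main_aux : ∀ (n : ℕ) (G : Type u) [Group G] [Finite G],
    Nat.card G ≤ n → Nat.card (Sylow 5 G) ≠ 21 := by
  intro n
  induction n with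
  | zero => intro G _ _ h; have := Nat.card_pos (α := G); omega
  | succ k ih =>
    intro G _ _ hle hn
    have := finite_sylow hn
    set K := (MulAction.toPermHom G (Sylow 5 G)).ker with hKdef
    have hKfix : ∀ g, g ∈ K ↔ ∀ Q : Sylow 5 G, g • Q = Q := by
      intro g
      rw [hKdef, MonoidHom.mem_ker, Equiv.ext_iff]
      rfl
    by_cases hK1 : K = ⊥
    · have hK : ∀ g : G, (∀ Q : Sylow 5 G, g • Q = Q) → g = 1 := fun g hg =>
        Subgroup.mem_bot.1 (hK1 ▸ (hKfix g).2 hg)
      have : Nontrivial G := by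
        by_contra hnt
        rw [not_nontrivial_iff_subsingleton] at hnt
        have : Subsingleton (Sylow 5 G) :=
          ⟨fun P Q => Sylow.ext (Subsingleton.elim _ _)⟩
        rw [Nat.card_of_subsingleton (Sylow.nonempty (p := 5) (G := G)).some] at hn
        omega
      have : IsSimpleGroup G := by
        refine { eq_bot_or_eq_top_of_normal := fun M hM => ?_ }
        by_cases hMb : M = ⊥
        · exact Or.inl hMb
        · refine Or.inr (simple_step hn hK M hMb fun hMt => ih M ?_)
          have hlt : Nat.card M < Nat.card G := lt_of_le_of_ne (Subgroup.card_le_card_group M)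
            (fun he => hMt (Subgroup.card_eq_iff_eq_top M |>.1 he))
          omega
      exact final_case hn hK
    · refine ih (G ⧸ K) ?_ ?_
      · have h1 := Subgroup.card_mul_index K
        rw [Subgroup.index_eq_card] at h1
        have h2 : 2 ≤ Nat.card K := (Subgroup.one_lt_card_iff_ne_bot K).2 hK1
        have h3 : 2 * Nat.card (G ⧸ K) ≤ Nat.card G := h1 ▸ Nat.mul_le_mul_right _ h2
        have := Nat.card_pos (α := G ⧸ K)
        omega
      · rw [← hn]
        refine (Nat.card_congr (Equiv.ofBijective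
          (Sylow.mapSurjective (QuotientGroup.mk'_surjective K)) ⟨?_, Sylow.mapSurjective_surjective _ 5⟩)).symm
        intro P Q h
        have h1 : (P : Subgroup G) ≤ (Q : Subgroup G) ⊔ K := by
          have h2 := congrArg (fun S : Sylow 5 (G ⧸ K) => (S : Subgroup (G ⧸ K))) h
          simp only [Sylow.coe_mapSurjective] at h2
          have h3 := Subgroup.map_eq_map_iff.1 h2
          rw [QuotientGroup.ker_mk'] at h3
          exact le_sup_left.trans h3.le
        have h4 : (P : Subgroup G) ≤ Subgroup.normalizer ((Q : Subgroup G) : Set G) := by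
          refine h1.trans (sup_le Subgroup.le_normalizer fun g hg => ?_)
          exact Sylow.smul_eq_iff_mem_normalizer.1 ((hKfix g).1 hg Q)
        have h5 : (P : Subgroup G) ≤ Q := fun x hx => (smul_eq_iff_mem ⟨P, hx⟩ Q).1
          (Sylow.smul_eq_iff_mem_normalizer.2 (h4 hx))
        exact Sylow.ext (P.3 Q.2 h5).symm

/-- No finite group has exactly twenty-one Sylow 5-subgroups. -/
theorem result {G : Type*} [Group G] [Finite G] : Nat.card (Sylow 5 G) ≠ 21 := by
  exact main_aux _ G le_rfl

end Cfsg.Agent.S1010
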