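import Cfsg.Statements.S0923
import Cfsg.Agent.Lib.BlockTheoryInduced

set_option autoImplicit false
open Cfsg

namespace Cfsg.Agent.S0923

/-- Brauer's Second Main Theorem, in terms of ordinary characters. Let x be a p-element of the finite group G with centralizer C, let χ lie in the block B of G and let b be a block of C that does not induce B (relative to a maximal ideal M of the algebraic integers containing p). Form the class function ϑ(c) = χ(x c) on C and its b-part (the sum over ψ ∈ b of the inner product of ϑ with ψ, times ψ). Then the b-part of ϑ vanishes at every p-regular element of C. (Equivalently, the generalized decomposition numbers of χ with respect to b are zero.) -/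
theorem result {G : Type*} [Group G] [Finite G] (p : ℕ) [Fact p.Prime] (M : Ideal Cfsg.AlgInt) (hM : Cfsg.IsPModular p M) (x : G) (hx : ∃ k : ℕ, orderOf x = p ^ k) (B : Set (Cfsg.IrrCharacter G)) (hB : Cfsg.IsPBlock M B) (χ : Cfsg.IrrCharacter G) (hχ : χ ∈ B) (b : Set (Cfsg.IrrCharacter (Subgroup.centralizer ({x} : Set G)))) (hb : Cfsg.IsPBlock M b) (hnot : ¬ Cfsg.IsInducedBlock M (Subgroup.centralizer ({x} : Set G)) b B) (y : Subgroup.centralizer ({x} : Set G)) (hy : ¬ p ∣ orderOf y) : Cfsg.blockPart b (fun c : Subgroup.centralizer ({x} : Set G) => (χ : G → ℂ) (x * (c : G))) y = 0 := by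
  classical
  haveI := Fintype.ofFinite G
  let C := Subgroup.centralizer ({x} : Set G)
  letI := Fintype.ofFinite C
  haveI : Fact p.Prime := ⟨hM.1⟩
  obtain ⟨k, hk⟩ := hx
  have hP : IsPGroup p (Subgroup.zpowers x) :=
    IsPGroup.of_card (n := k) (by rw [Nat.card_zpowers, hk])
  have hcentr : Subgroup.centralizer (Subgroup.zpowers x : Set G) = C := by
    rw [Subgroup.zpowers_eq_closure, Subgroup.centralizer_closure]
  have hxC : x ∈ C := Subgroup.mem_centralizer_singleton_iff.mpr rfl
  have hle : Subgroup.zpowers x ≤ C := Subgroup.zpowers_le.mpr hxC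
  have hnorm : C ≤ Subgroup.normalizer (Subgroup.zpowers x : Set G) := by
    rw [← hcentr]; exact Subgroup.centralizer_le_normalizer _
  obtain ⟨B', hB'⟩ := BlockTheoryInduced.inducedBlockDefined C hM hP hle hcentr.le hnorm hb
  have hne : B' ≠ B := fun h => hnot (h ▸ hB')
  have hχ' : χ ∉ B' := fun h => hne (BlockTheoryIdem.block_eq_of_mem hM hB'.2.1 hB h hχ)
  have hyc : Commute x (y : G) := (Subgroup.mem_centralizer_singleton_iff.mp y.2).symm
  have hxy : Cfsg.IsPPart p (x * (y : G)) x :=
    ⟨(y : G), rfl, hyc, ⟨k, hk⟩, (Subgroup.orderOf_coe y).symm ▸ hy⟩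
  have h0 := BlockTheoryInduced.second_main_sum C hM hB' ⟨x * (y : G), mul_mem hxC y.2⟩
    (fun z hz => by rw [BlockTheoryIdem.pPart_unique hM.1 hz hxy]) χ hχ'
  have hf : Cfsg.IsClassFunction C (fun c : C => (χ : G → ℂ) (x * (c : G))) := by
    intro a c
    have e : x * ((c * a * c⁻¹ : C) : G) = (c : G) * (x * (a : G)) * (c : G)⁻¹ := by
      have := Subgroup.mem_centralizer_singleton_iff.mp c.2
      simp only [Subgroup.coe_mul, Subgroup.coe_inv, ← mul_assoc, this]
    simp only [e]
    exact BlockTheoryCentre.irr_classFun χ (x * (a : G)) (c : G)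
  have h1 := BlockTheoryInduced.sum_blockCoeff_mul b hf y
  have h2 : ∑ c : C, blockCoeff b c * (χ : G → ℂ) (x * ((c * y : C) : G)) = 0 := by
    rw [← h0]
    refine Finset.sum_congr rfl fun c _ => ?_
    rw [Subgroup.coe_mul, ← mul_assoc, ← mul_assoc, Subgroup.mem_centralizer_singleton_iff.mp c.2]
  rw [h2] at h1
  simp only [blockPart]
  rw [BlockTheoryIdem.finsum_mem_eq_sum]
  exact h1.symm

end Cfsg.Agent.S0923
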