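import Cfsg.Statements.S1181
import Cfsg.Agent.Lib.IsolatedInv

set_option autoImplicit false
open Cfsg

namespace Cfsg.Agent.S1181

open scoped Pointwise


/-- Let z be an isolated involution of the finite group G and N a normal subgroup with z ∉ N. Then the centralizer of zN in G/N is the image of C_G(z), and zN is an isolated involution of G/N. -/
theorem result {G : Type*} [Group G] [Finite G] (z : G) (hz : Cfsg.IsIsolatedInvolution z) (N : Subgroup G) [N.Normal] (hzN : z ∉ N) : Subgroup.centralizer ({(QuotientGroup.mk z : G ⧸ N)} : Set (G ⧸ N)) = (Subgroup.centralizer ({z} : Set G)).map (QuotientGroup.mk' N) ∧ Cfsg.IsIsolatedInvolution (QuotientGroup.mk z : G ⧸ N) := by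
  have hz2 := IsolatedInv.sq_of_orderOf_two hz.1
  refine ⟨le_antisymm ?_ ?_, ?_, ?_⟩
  · intro x hx
    induction x using QuotientGroup.induction_on with
    | _ g =>
      rw [Subgroup.mem_centralizer_singleton_iff] at hx
      have hmem : z * (g * z * g⁻¹) ∈ N := by
        rw [← QuotientGroup.eq_one_iff]
        simp only [QuotientGroup.mk_mul, QuotientGroup.mk_inv]
        rw [hx, mul_inv_cancel_right, ← QuotientGroup.mk_mul, hz2, QuotientGroup.mk_one]
      obtain ⟨c, hc, hcz⟩ := IsolatedInv.exists_conj hz g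
      have hcN : c ∈ N := Subgroup.zpowers_le.mpr hmem hc
      refine ⟨c⁻¹ * g, Subgroup.mem_centralizer_singleton_iff.mpr ?_, ?_⟩
      · calc c⁻¹ * g * z = c⁻¹ * (g * z * g⁻¹) * g := by group
          _ = z * (c⁻¹ * g) := by rw [← hcz]; group
      · rw [map_mul, map_inv, QuotientGroup.mk'_apply, QuotientGroup.mk'_apply,
          (QuotientGroup.eq_one_iff c).mpr hcN, inv_one, one_mul]
  · rintro _ ⟨g, hg, rfl⟩
    rw [SetLike.mem_coe, Subgroup.mem_centralizer_singleton_iff] at hg
    rw [Subgroup.mem_centralizer_singleton_iff, QuotientGroup.mk'_apply, ← QuotientGroup.mk_mul, hg,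
      QuotientGroup.mk_mul]
  · have : Fact (Nat.Prime 2) := ⟨Nat.prime_two⟩
    refine orderOf_eq_prime ?_ ?_
    · rw [pow_two, ← QuotientGroup.mk_mul, hz2, QuotientGroup.mk_one]
    · rwa [ne_eq, QuotientGroup.eq_one_iff]
  · intro x hx
    induction x using QuotientGroup.induction_on with
    | _ g =>
      obtain ⟨j, hj⟩ := IsolatedInv.odd_pow_sq (IsolatedInv.odd_orderOf_mul_conj hz g)
      have hmem : z * (g * z * g⁻¹) ∈ N := by
        rw [← hj]
        refine pow_mem ?_ j
        rw [← QuotientGroup.eq_one_iff, QuotientGroup.mk_pow, QuotientGroup.mk_mul]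
        change Commute (z : G ⧸ N) ((g * z * g⁻¹ : G) : G ⧸ N) at hx
        rw [hx.mul_pow, ← QuotientGroup.mk_pow, ← QuotientGroup.mk_pow, pow_two, hz2, pow_two,
          IsolatedInv.conj_sq hz.1 g, ← QuotientGroup.mk_mul, mul_one, QuotientGroup.mk_one]
      rw [← QuotientGroup.eq_one_iff, QuotientGroup.mk_mul] at hmem
      have hzz : (z : G ⧸ N)⁻¹ = (z : G ⧸ N) := by
        rw [← QuotientGroup.mk_inv, IsolatedInv.inv_eq_self_of_sq hz2]
      have := mul_eq_one_iff_inv_eq.mp hmem
      rw [hzz] at this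
      simpa using this.symm

end Cfsg.Agent.S1181
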