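import Cfsg.Statements.S0256
import Mathlib
import Cfsg.Agent.Lib.IsoGraph
import Cfsg.Agent.Lib.PSLSimple
import Cfsg.Agent.Lib.PSLCard

set_option autoImplicit false
open Cfsg

namespace Cfsg.Agent.S0256

open scoped MatrixGroups Pointwise
open Matrix

/-- The partitions of eight points into two fours, labelled by the lines of `PG(3,2)`. -/
def labs : List (Finset (Finset (Fin 8))) := [{{0, 1, 2, 3}, {4, 5, 6, 7}}, {{0, 3, 4, 5}, {1, 2, 6, 7}}, {{1, 2, 4, 5}, {0, 3, 6, 7}}, {{2, 3, 4, 6}, {0, 1, 5, 7}}, {{0, 1, 4, 6}, {2, 3, 5, 7}}, {{0, 2, 5, 6}, {1, 3, 4, 7}}, {{1, 3, 5, 6}, {0, 2, 4, 7}}, {{0, 1, 5, 6}, {2, 3, 4, 7}}, {{2, 3, 5, 6}, {0, 1, 4, 7}}, {{1, 3, 4, 5}, {0, 2, 6, 7}}, {{0, 2, 4, 5}, {1, 3, 6, 7}}, {{0, 3, 4, 6}, {1, 2, 5, 7}}, {{1, 2, 4, 6}, {0, 3, 5, 7}}, {{1, 3, 4, 6}, {0, 2, 5, 7}}, {{0, 2, 4, 6}, {1, 3,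 5, 7}}, {{1, 2, 5, 6}, {0, 3, 4, 7}}, {{0, 3, 5, 6}, {1, 2, 4, 7}}, {{2, 3, 4, 5}, {0, 1, 6, 7}}, {{0, 1, 4, 5}, {2, 3, 6, 7}}, {{0, 1, 2, 4}, {3, 5, 6, 7}}, {{1, 2, 3, 5}, {0, 4, 6, 7}}, {{2, 4, 5, 6}, {0, 1, 3, 7}}, {{0, 2, 3, 6}, {1, 4, 5, 7}}, {{0, 1, 3, 6}, {2, 4, 5, 7}}, {{1, 4, 5, 6}, {0, 2, 3, 7}}, {{0, 1, 2, 5}, {3, 4, 6, 7}}, {{1, 2, 3, 4}, {0, 5, 6, 7}}, {{0, 2, 3, 5}, {1, 4, 6, 7}}, {{0, 1, 3, 4}, {2, 5, 6, 7}}, {{1, 2, 3, 6}, {0, 4, 5, 7}}, {{3, 4, 5, 6}, {0, 1, 2, 7}}, {{0, 4, 5, 6}, {1, 2, 3, 7}}, {{0, 1, 2, 6}, {3, 4, 5, 7}}, {{0, 2, 3, 4}, {1, 5, 6, 7}}, {{0, 1, 3, 5}, {2, 4, 6, 7}}]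

/-- The lines of `PG(3,2)`. -/
def lines : List (Finset (Fin 4 → ZMod 2)) := [{![1, 0, 0, 0], ![0, 1, 0, 0], ![1, 1, 0, 0]}, {![1, 0, 0, 0], ![0, 0, 1, 0], ![1, 0, 1, 0]}, {![1, 0, 0, 0], ![0, 1, 1, 0], ![1, 1, 1, 0]}, {![1, 0, 0, 0], ![0, 0, 0, 1], ![1, 0, 0, 1]}, {![1, 0, 0, 0], ![0, 1, 0, 1], ![1, 1, 0, 1]}, {![1, 0, 0, 0], ![0, 0, 1, 1], ![1, 0, 1, 1]}, {![1, 0, 0, 0], ![0, 1, 1, 1], ![1, 1, 1, 1]}, {![0, 1, 0, 0], ![0, 0, 1, 0], ![0, 1, 1, 0]}, {![0, 1, 0, 0], ![1, 0, 1, 0], ![1, 1, 1, 0]}, {![0, 1, 0, 0], ![0, 0, 0, 1], ![0, 1, 0, 1]}, {![0, 1, 0, 0], ![1, 0, 0, 1], ![1, 1, 0, 1]}, {![0, 1, 0, 0], ![0, 0, 1, 1], ![0, 1, 1, 1]}, {![0, 1, 0, 0], ![1, 0, 1, 1], ![1, 1, 1, 1]}, {![1, 1, 0, 0], ![0, 0, 1, 0], ![1, 1, 1, 0]}, {![1, 1, 0, 0], ![1, 0, 1, 0], ![0, 1, 1, 0]}, {![1, 1, 0, 0], ![0, 0, 0, 1], ![1, 1, 0, 1]}, {![1,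 1, 0, 0], ![1, 0, 0, 1], ![0, 1, 0, 1]}, {![1, 1, 0, 0], ![0, 0, 1, 1], ![1, 1, 1, 1]}, {![1, 1, 0, 0], ![1, 0, 1, 1], ![0, 1, 1, 1]}, {![0, 0, 1, 0], ![0, 0, 0, 1], ![0, 0, 1, 1]}, {![0, 0, 1, 0], ![1, 0, 0, 1], ![1, 0, 1, 1]}, {![0, 0, 1, 0], ![0, 1, 0, 1], ![0, 1, 1, 1]}, {![0, 0, 1, 0], ![1, 1, 0, 1], ![1, 1, 1, 1]}, {![1, 0, 1, 0], ![0, 0, 0, 1], ![1, 0, 1, 1]}, {![1, 0, 1, 0], ![1, 0, 0, 1], ![0, 0, 1, 1]}, {![1, 0, 1, 0], ![0, 1, 0, 1], ![1, 1, 1, 1]}, {![1, 0, 1, 0], ![1, 1, 0, 1], ![0, 1, 1, 1]}, {![0, 1, 1, 0], ![0, 0, 0, 1], ![0, 1, 1, 1]}, {![0, 1, 1, 0], ![1, 0, 0, 1], ![1, 1, 1, 1]}, {![0, 1, 1, 0], ![0, 1, 0, 1], ![0, 0, 1, 1]}, {![0, 1, 1, 0], ![1, 1, 0, 1], ![1, 0, 1, 1]}, {![1, 1, 1, 0], ![0, 0, 0, 1], ![1, 1, 1, 1]}, {![1, 1, 1, 0], ![1, 0, 0, 1], ![0, 1, 1, 1]}, {![1, 1, 1, 0], ![0, 1, 0, 1], ![1, 0,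 1, 1]}, {![1, 1, 1, 0], ![1, 1, 0, 1], ![0, 0, 1, 1]}]

def sigs : List ((Fin 8 → Fin 8) × (Fin 8 → Fin 8)) := [(![5, 7, 6, 4, 3, 0, 2, 1], ![5, 7, 6, 4, 3, 0, 2, 1]), (![1, 0, 3, 2, 6, 7, 4, 5], ![1, 0, 3, 2, 6, 7, 4, 5]), (![3, 2, 1, 0, 5, 4, 7, 6], ![3, 2, 1, 0, 5, 4, 7, 6]), (![6, 5, 7, 4, 3, 1, 0, 2], ![6, 5, 7, 4, 3, 1, 0, 2]), (![2, 3, 0, 1, 5, 4, 7, 6], ![2, 3, 0, 1, 5, 4, 7, 6]), (![1, 0, 3, 2, 7, 6, 5, 4], ![1, 0, 3, 2, 7, 6, 5, 4]), (![1, 0, 4, 7, 2, 6, 5, 3], ![1, 0, 4, 7, 2, 6, 5, 3]), (![4, 2, 1, 5, 0, 3, 7, 6], ![4, 2, 1, 5, 0, 3, 7, 6]), (![5, 6, 7, 4, 3, 0, 1, 2], ![5, 6, 7, 4, 3, 0, 1, 2]), (![2, 4, 0, 5, 1, 3, 7, 6], ![2, 4, 0, 5, 1, 3, 7, 6]), (![1, 0, 4, 6, 2, 7, 3, 5], ![1, 0, 4, 6, 2, 7, 3, 5]), (![7, 5, 6, 4, 3, 1, 2, 0], ![7, 5, 6, 4, 3, 1, 2, 0])]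

def pis : List (Fin 35 → Fin 35) := [![0, 1, 2, 3, 4, 5, 6, 13, 14, 15, 16, 17, 18, 7, 8, 9, 10, 11, 12, 19, 20, 22, 21, 23, 24, 26, 25, 31, 32, 34, 33, 27, 28, 30, 29], ![0, 1, 2, 3, 4, 5, 6, 8, 7, 9, 10, 12, 11, 14, 13, 15, 16, 18, 17, 23, 24, 25, 26, 19, 20, 21, 22, 31, 32, 33, 34, 27, 28, 29, 30], ![0, 1, 2, 3, 4, 5, 6, 7, 8, 10, 9, 12, 11, 13, 14, 16, 15, 18, 17, 20, 19, 22, 21, 24, 23, 26, 25, 28, 27, 30, 29, 32, 31, 34, 33], ![0, 13, 14, 15, 16, 17, 18, 7, 8, 9, 10, 11, 12, 1, 2, 3, 4, 5, 6, 19, 22, 21, 20, 31, 34, 33, 32, 27, 30, 29, 28, 23, 26, 25, 24], ![0, 2, 1, 3, 4, 6, 5, 7, 8, 9, 10, 11, 12, 14, 13, 15, 16, 18, 17, 27, 28, 29, 30, 31, 32, 33, 34, 19, 20, 21, 22, 23, 24, 25, 26], ![0, 1, 2, 4, 3, 6, 5, 7, 8, 9, 10, 11, 12, 13, 14, 16, 15, 18, 17, 21, 22, 19, 20, 25, 26, 23, 24, 29, 30, 27, 28, 33, 34, 31, 32],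 ![8, 1, 14, 23, 25, 24, 26, 7, 0, 9, 12, 11, 10, 13, 2, 31, 33, 34, 32, 19, 20, 21, 22, 3, 5, 4, 6, 27, 30, 29, 28, 15, 18, 16, 17], ![2, 1, 0, 3, 6, 5, 4, 7, 14, 27, 28, 29, 30, 13, 8, 31, 32, 34, 33, 19, 20, 21, 22, 23, 24, 26, 25, 9, 10, 11, 12, 15, 16, 18, 17], ![0, 1, 2, 5, 6, 3, 4, 7, 8, 11, 12, 9, 10, 13, 14, 17, 18, 15, 16, 19, 20, 21, 22, 24, 23, 26, 25, 29, 30, 27, 28, 34, 33, 32, 31], ![10, 20, 28, 3, 16, 24, 32, 7, 12, 9, 0, 11, 8, 22, 30, 15, 4, 34, 26, 19, 1, 21, 13, 23, 5, 33, 18, 27, 2, 29, 14, 31, 6, 25, 17], ![4, 1, 6, 3, 0, 5, 2, 21, 25, 9, 16, 29, 33, 22, 26, 15, 10, 34, 30, 19, 20, 7, 13, 23, 24, 8, 14, 27, 32, 11, 18, 31, 28, 12, 17], ![0, 5, 6, 3, 4, 1, 2, 11, 12, 9, 10, 7, 8, 17, 18, 15, 16, 13, 14, 19, 24, 29, 34, 23, 20, 33, 30, 27, 32, 21, 26, 31, 28, 25, 22]]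

def idx : List (Fin 4 × Fin 4) := [(0, 1), (0, 2), (0, 3), (1, 0), (1, 2), (1, 3), (2, 0), (2, 1), (2, 3), (3, 0), (3, 1), (3, 2)]

def lab (k : Fin 35) : Finset (Finset (Fin 8)) := labs[k.1]'(lt_of_lt_of_eq k.2 rfl)

def pt (k : Fin 35) : Finset (Fin 4 → ZMod 2) := lines[k.1]'(lt_of_lt_of_eq k.2 rfl)

def act (σ : alternatingGroup (Fin 8)) (P : Finset (Finset (Fin 8))) : Finset (Finset (Fin 8)) :=
  P.image (Finset.image (σ : Equiv.Perm (Fin 8)))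

def sigF (n : Fin 12) : (Fin 8 → Fin 8) × (Fin 8 → Fin 8) := sigs[n.1]'(lt_of_lt_of_eq n.2 rfl)

theorem sig_inv : ∀ n, Function.LeftInverse (sigF n).2 (sigF n).1 ∧
    Function.RightInverse (sigF n).2 (sigF n).1 := by decide +kernel

def sigP (n : Fin 12) : Equiv.Perm (Fin 8) :=
  ⟨(sigF n).1, (sigF n).2, (sig_inv n).1, (sig_inv n).2⟩

theorem sig_even : ∀ n, Equiv.Perm.sign (sigP n) = 1 := by decide +kernel

def sigA (n : Fin 12) : alternatingGroup (Fin 8) :=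
  ⟨sigP n, Equiv.Perm.mem_alternatingGroup.2 (sig_even n)⟩

def piF (n : Fin 12) : Fin 35 → Fin 35 := pis[n.1]'(lt_of_lt_of_eq n.2 rfl)

def idxF (n : Fin 12) : Fin 4 × Fin 4 := idx[n.1]'(lt_of_lt_of_eq n.2 rfl)

/-- The transvection matrices. -/
def tmat (n : Fin 12) : Matrix (Fin 4) (Fin 4) (ZMod 2) :=
  fun a b => if a = b ∨ (a = (idxF n).1 ∧ b = (idxF n).2) then 1 else 0

theorem idxF_ne : ∀ n, (idxF n).1 ≠ (idxF n).2 := by decide +kernel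

theorem idxF_surj : ∀ i j : Fin 4, i ≠ j → ∃ n, idxF n = (i, j) := by decide +kernel

theorem act_sigA : ∀ n k, act (sigA n) (lab k) = lab (piF n k) := by decide +kernel

theorem move : ∀ n k, (pt k).image (fun v => tmat n *ᵥ v) = pt (piF n k) := by decide +kernel

theorem lab_injective : Function.Injective lab := by decide +kernel

def ks : Fin 4 → Fin 35 × Fin 35 := ![(0, 1), (0, 7), (1, 7), (3, 9)]

theorem meet : ∀ i, pt (ks i).1 ∩ pt (ks i).2 = {Pi.single i 1} := by decide +kernel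

local instance slFinsetAction : MulAction SL(4, ZMod 2) (Finset (Fin 4 → ZMod 2)) :=
  Finset.mulActionFinset

theorem zmod_two_cases : ∀ c : ZMod 2, c = 0 ∨ c = 1 := by decide

theorem card_sl : Nat.card SL(4, ZMod 2) = 20160 := by
  have : Fact (Nat.Prime 2) := ⟨Nat.prime_two⟩
  have h := PSLCard.card_SL (F := ZMod 2) 4
  norm_num [Fin.prod_univ_four, Nat.card_eq_fintype_card, ZMod.card] at h
  rw [Nat.card_eq_fintype_card]; exact h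

theorem equiv_sl : Nonempty (alternatingGroup (Fin 8) ≃* SL(4, ZMod 2)) := by
  classical
  have : Fact (Nat.Prime 2) := ⟨Nat.prime_two⟩
  refine IsoGraph.nonempty_equiv (Y := Finset (Fin 4 → ZMod 2))
    (by rw [card_sl, nat_card_alternatingGroup, Nat.card_fin]; rfl)
    act (fun a b P => by simp [act, Finset.image_image, Function.comp_def])
    (fun P => by simp [act, show Finset.image (id : Fin 8 → Fin 8) = id from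
      funext fun s => Finset.image_id])
    lab pt lab_injective ?_
    (Set.range fun n => Matrix.SpecialLinearGroup.transvection (idxF_ne n) (1 : ZMod 2)) ?_ ?_
  · intro g hg
    refine Subtype.ext (Matrix.ext fun a i => ?_)
    have hcol : g • (Pi.single i 1 : Fin 4 → ZMod 2) = Pi.single i 1 := by
      have hmem : (Pi.single i 1 : Fin 4 → ZMod 2) ∈ pt (ks i).1 ∩ pt (ks i).2 := by
        rw [meet]; exact Finset.mem_singleton_self _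
      rw [Finset.mem_inter] at hmem
      have h1 := Finset.smul_mem_smul_finset (a := g) hmem.1
      have h2 := Finset.smul_mem_smul_finset (a := g) hmem.2
      rw [hg] at h1 h2
      exact Finset.mem_singleton.1 (meet i ▸ Finset.mem_inter.2 ⟨h1, h2⟩)
    have h3 : (g.1 *ᵥ (Pi.single i 1 : Fin 4 → ZMod 2)) a = (Pi.single i 1 : Fin 4 → ZMod 2) a :=
      congrFun hcol a
    rw [Matrix.mulVec_single_one, Matrix.col_apply] at h3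
    show g.1 a i = (1 : Matrix (Fin 4) (Fin 4) (ZMod 2)) a i
    rw [h3, Matrix.one_apply, Pi.single_apply]
  · refine PSLSimple.eq_top_of_transvection_mem _ fun i j hij c => ?_
    obtain ⟨n, hn⟩ := idxF_surj i j hij
    rcases zmod_two_cases c with rfl | rfl
    · rw [Matrix.SpecialLinearGroup.transvection_coeff_zero hij]
      exact one_mem _
    · refine Subgroup.subset_closure ⟨n, ?_⟩
      apply Subtype.ext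
      simp only [Matrix.SpecialLinearGroup.transvection_coe, hn]
  · rintro _ ⟨n, rfl⟩
    refine ⟨sigA n, fun k => ⟨piF n k, act_sigA n k, ?_⟩⟩
    rw [← move, Finset.smul_finset_def]
    congr 1
    funext v
    show (Matrix.SpecialLinearGroup.transvection (idxF_ne n) (1 : ZMod 2)).1 *ᵥ v = _
    congr 1
    ext a b
    have hne := idxF_ne n
    simp only [Matrix.SpecialLinearGroup.transvection_coe, tmat, Matrix.add_apply, Matrix.one_apply,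
      Matrix.single_apply]
    by_cases hab : a = b
    · subst hab
      simp only [if_true, true_or]
      rw [if_neg (fun h => hne (h.1.trans h.2.symm))]
      simp
    · simp [hab, eq_comm]

/-- PSL_4(2) is isomorphic to A_8. -/
theorem result {F : Type*} [Field F] [Fintype F] (hF : Fintype.card F = 2) : Nonempty (Matrix.ProjectiveSpecialLinearGroup (Fin 4) F ≃* alternatingGroup (Fin 8)) := by
  have : Fact (Nat.Prime 2) := ⟨Nat.prime_two⟩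
  obtain ⟨e⟩ := equiv_sl
  let f : F ≃+* ZMod 2 := FiniteField.ringEquivOfCardEq (by rw [hF, ZMod.card])
  have hbij : Function.Bijective (QuotientGroup.mk' (Subgroup.center SL(4, F))) := by
    rw [Nat.bijective_iff_surjective_and_card]
    refine ⟨QuotientGroup.mk'_surjective _, ?_⟩
    have h := PSLCard.card_PSL_mul (F := F) 4
    rw [Nat.card_eq_fintype_card (α := F), hF] at h
    simpa using h.symm
  exact ⟨(MulEquiv.ofBijective _ hbij).symm.trans ((PSLCard.slEquiv f).trans e.symm)⟩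

end Cfsg.Agent.S0256
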