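import Cfsg.Statements.S1403
import Cfsg.Agent.Lib.BGSCNUniqueMain

set_option autoImplicit false
open Cfsg

namespace Cfsg.Agent.S1403

/-- Let G be a minimal simple group of odd order and K a proper subgroup having an elementary abelian subgroup of order p ^ 2 for some prime p. If K, or its centralizer C_G(K), has an elementary abelian subgroup of order q ^ 3 for some prime q, then K lies in exactly one maximal subgroup of G. -/
theorem result {G : Type*} [Group G] [Finite G] (hG : Cfsg.IsMinSimpleOddOrder G)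
    (K : Subgroup G) (hK : K ≠ ⊤) (hK2 : ¬ Cfsg.RankLE 1 K)
    (hK3 : ¬ Cfsg.RankLE 2 K ∨ ¬ Cfsg.RankLE 2 (Subgroup.centralizer (K : Set G))) :
    Cfsg.InUniqueMaximal K := by
  obtain ⟨p, hp, E, hEK, hE, hE2⟩ : ∃ p : ℕ, p.Prime ∧ ∃ E : Subgroup G, E ≤ K ∧
      Cfsg.IsElementaryAbelian p E ∧ p ^ 2 ≤ Nat.card E := by
    unfold Cfsg.RankLE at hK2
    push Not at hK2
    obtain ⟨p, hp, h⟩ := hK2
    haveI := Fact.mk hp
    obtain ⟨E, h1, h2, h3⟩ := BGUnique.pow_le_of_not_pRankLE h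
    exact ⟨p, hp, E, h1, h2, h3⟩
  haveI := Fact.mk hp
  have key : ∀ L : Subgroup G, ¬ Cfsg.RankLE 2 L → ∃ F : Subgroup G, F ≤ L ∧ Cfsg.InUniqueMaximal F := by
    intro L hL
    unfold Cfsg.RankLE at hL
    push Not at hL
    obtain ⟨q, hq, h⟩ := hL
    haveI := Fact.mk hq
    obtain ⟨F, h1, h2, h3⟩ := BGUnique.pow_le_of_not_pRankLE h
    refine ⟨F, h1, BGSCNUniqueMain.unique_of_abelian hG h2.1
      (PGroupsBasic.isPGroup_of_isElementaryAbelian h2) fun hle => ?_⟩
    have h4 := hle (⊤ : Subgroup F) ⟨⟨fun u v => Subtype.ext (Subtype.ext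
      (PGroupsBasic.comm_of_isMulCommutative h2.1 u.1.2 v.1.2))⟩⟩
      fun u _ => Subtype.ext (by rw [SubgroupClass.coe_pow]; exact h2.2 _ u.2)
    rw [Subgroup.card_top] at h4
    exact absurd ((Nat.pow_le_pow_iff_right hq.one_lt).1 (h3.trans h4)) (by omega)
  rcases hK3 with h | h
  · obtain ⟨F, hFK, hF⟩ := key K h
    exact BGUnique.unique_mono hF hFK hK
  · obtain ⟨F, hFK, hF⟩ := key _ h
    exact BGUnique.unique_of_le_centralizer hG hF
      (fun k hk f hf => (hFK hf k hk).symm) hEK hE.1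
      (PGroupsBasic.isPGroup_of_isElementaryAbelian hE) (BGUnique.not_isCyclic_of_sq_le hE hE2)

end Cfsg.Agent.S1403
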