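import Cfsg.Statements.S1416
import Cfsg.Agent.Lib.BGRankTwoElem

set_option autoImplicit false
open Cfsg

namespace Cfsg.Agent.S1416

theorem centralizer_le_normalizer_sub {G : Type*} [Group G] {A X : Subgroup G} (h : X ≤ A) :
    Subgroup.centralizer (A : Set G) ≤ Subgroup.normalizer (X : Set G) :=
  (Subgroup.centralizer_le (SetLike.coe_subset_coe.2 h)).trans (Subgroup.centralizer_le_normalizer _)

/-- Let G be a minimal simple group of odd order, M a maximal subgroup, p a prime and A ≤ M elementary abelian of order p ^ 2. Then C_G(A) ≤ M. If moreover for every subgroup A₀ of A of order p, M is not the unique maximal subgroup containing N_G(A₀), then p ∈ σ(M), M_α = 1 and M_σ is nilpotent. -/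
theorem result {G : Type*} [Group G] [Finite G] (hG : Cfsg.IsMinSimpleOddOrder G)
    (M : Subgroup G) (hM : IsCoatom M) (p : ℕ) [Fact p.Prime] (A : Subgroup G) (hA : (A ≤ M ∧ Cfsg.IsElementaryAbelian p A ∧ Nat.card A = p ^ 2)) :
    Subgroup.centralizer (A : Set G) ≤ M ∧
      ((∀ A₀ : Subgroup G, A₀ ≤ A → Nat.card A₀ = p →
          ¬ (Subgroup.normalizer (A₀ : Set G) ≤ M ∧ ∀ L : Subgroup G, IsCoatom L → Subgroup.normalizer (A₀ : Set G) ≤ L → L = M)) →
        p ∈ Cfsg.sigma M ∧ Cfsg.alphaCore M = ⊥ ∧ Group.IsNilpotent (Cfsg.sigmaCore M)) := by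
  obtain ⟨hAM, hAe, hAc⟩ := hA
  have key : (∀ A₀ : Subgroup G, A₀ ≤ A → Nat.card A₀ = p →
      ¬ (Subgroup.normalizer (A₀ : Set G) ≤ M ∧
        ∀ L : Subgroup G, IsCoatom L → Subgroup.normalizer (A₀ : Set G) ≤ L → L = M)) →
      BGExc.NoUnique p M A := by
    intro hno
    refine ⟨hM, hAM, hAe, hAc, fun X hXA hXc => ?_⟩
    by_cases hN : Subgroup.normalizer (X : Set G) ≤ M
    · by_contra hall
      push Not at hall
      exact hno X hXA hXc ⟨hN, fun L hL hle => by_contra fun hne => hall L hL hne hle⟩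
    · have hX1 : X ≠ ⊥ := fun h => by
        rw [h, Subgroup.card_bot] at hXc
        exact (Fact.out : p.Prime).one_lt.ne hXc
      obtain ⟨L, hL, hle⟩ := BGUnique.exists_coatom_ge (BGTransitivity.normalizer_ne_top hG hX1
        fun ht => hM.1 (top_le_iff.1 (ht ▸ hXA.trans hAM)))
      exact ⟨L, hL, fun he => hN (he ▸ hle), hle⟩
  refine ⟨?_, fun hno => ?_⟩
  · by_cases hex : ∃ A₀ : Subgroup G, A₀ ≤ A ∧ Nat.card A₀ = p ∧ Subgroup.normalizer (A₀ : Set G) ≤ M
    · obtain ⟨X, hXA, -, hN⟩ := hex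
      exact (centralizer_le_normalizer_sub hXA).trans hN
    · push Not at hex
      have h := key fun X hXA hXc hc => hex X hXA hXc hc.1
      exact BGExc.NoUnique.centralizer_le_of_sigma hG h (BGExc.NoUnique.mem_sigma hG h)
  · have h := key hno
    exact ⟨BGExc.NoUnique.mem_sigma hG h, BGExc.NoUnique.alphaCore_eq_bot hG h,
      BGExc.NoUnique.sigmaCore_nilpotent hG h⟩

end Cfsg.Agent.S1416
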