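import Cfsg.Statements.S1480
import Cfsg.Agent.Lib.PConstrainedSignal
import Cfsg.Agent.Lib.CoprimeAction
import Cfsg.Agent.Lib.PGroupsBasic

set_option autoImplicit false
open Cfsg
open scoped commutatorElement Pointwise

namespace Cfsg.Agent.S1480

variable {G : Type*} [Group G]

theorem prod_range_fixed {N : Type*} [CommGroup N] (γ : MulAut N) (n : ℕ) (hγ : γ ^ n = 1) (w : N) :
    γ (∏ i ∈ Finset.range n, (γ ^ i) w) = ∏ i ∈ Finset.range n, (γ ^ i) w := by
  rw [map_prod]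
  have h1 : ∀ i, γ ((γ ^ i) w) = (γ ^ (i + 1)) w := fun i => by rw [pow_succ']; rfl
  simp only [h1]
  have h2 := Finset.prod_range_succ' (fun i => (γ ^ i) w) n
  have h3 := Finset.prod_range_succ (fun i => (γ ^ i) w) n
  simp only [hγ, pow_zero] at h2 h3
  exact mul_right_cancel (h2.symm.trans h3)

theorem averaging_two {N : Type*} [CommGroup N] (p : ℕ) [Fact p.Prime] (α β : MulAut N)
    (hαβ : Commute α β) (hα : α ^ p = 1) (hβ : β ^ p = 1)
    (h1 : ∀ j : ℕ, ∀ w, (α * β ^ j) w = w → w = 1) (h2 : ∀ w, β w = w → w = 1) (v : N) :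
    v ^ p = 1 := by
  classical
  have hp : p.Prime := Fact.out
  have hβprod : ∀ w : N, ∏ k ∈ Finset.range p, (β ^ k) w = 1 := fun w =>
    h2 _ (prod_range_fixed β p hβ w)
  have hγ : ∀ j : ℕ, ∏ i ∈ Finset.range p, ((α * β ^ j) ^ i) v = 1 := fun j => by
    refine h1 j _ (prod_range_fixed _ p ?_ v)
    rw [(hαβ.pow_right j).mul_pow, hα, ← pow_mul, mul_comm j p, pow_mul, hβ, one_pow, one_mul]
  have hcol : ∀ i, i ≠ 0 → i < p → ∏ j ∈ Finset.range p, ((α * β ^ j) ^ i) v = 1 := by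
    intro i hi0 hip
    have hcop : Nat.Coprime p i := (Nat.Prime.coprime_iff_not_dvd hp).2 fun hd =>
      absurd (Nat.le_of_dvd (Nat.pos_of_ne_zero hi0) hd) (not_le.2 hip)
    have e : ∀ j, ((α * β ^ j) ^ i) v = (β ^ ((j * i) % p)) ((α ^ i) v) := by
      intro j
      rw [(hαβ.pow_right j).mul_pow, ← pow_mul, ← pow_eq_pow_mod (j * i) hβ,
        (hαβ.pow_pow i (j * i)).eq]
      rfl
    rw [Finset.prod_congr rfl fun j _ => e j]
    have hinj : Set.InjOn (fun j => (j * i) % p) (Finset.range p : Set ℕ) := by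
      intro a ha b hb hab
      have := Nat.ModEq.cancel_right_of_coprime (a := a) (b := b) (c := i) hcop hab
      exact Nat.ModEq.eq_of_lt_of_lt this (by simpa using ha) (by simpa using hb)
    have himg : (Finset.range p).image (fun j => (j * i) % p) = Finset.range p := by
      refine Finset.eq_of_subset_of_card_le ?_ (by rw [Finset.card_image_of_injOn hinj])
      intro x hx
      obtain ⟨j, -, rfl⟩ := Finset.mem_image.1 hx
      exact Finset.mem_range.2 (Nat.mod_lt _ hp.pos)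
    have h := hβprod ((α ^ i) v)
    rw [← himg, Finset.prod_image hinj] at h
    exact h
  have htot : ∏ i ∈ Finset.range p, ∏ j ∈ Finset.range p, ((α * β ^ j) ^ i) v = 1 := by
    rw [Finset.prod_comm]
    exact Finset.prod_eq_one fun j _ => hγ j
  rw [Finset.prod_eq_single 0 (fun i hi hne => hcol i hne (Finset.mem_range.1 hi))
    (fun h => absurd (Finset.mem_range.2 hp.pos) h)] at htot
  simpa using htot

theorem le_normalizer_of_le_centralizer {A : Subgroup G} {B : Subgroup G}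
    (h : B ≤ Subgroup.centralizer (A : Set G)) : B ≤ Subgroup.normalizer (A : Set G) :=
  h.trans (Subgroup.centralizer_le_normalizer _)

/-- An elementary abelian `p`-group acting on a `q`-group `V` has a subgroup of index at most `p`
with a fixed point outside any proper invariant subgroup. -/
theorem exists_fixed_outside [Finite G] {p q : ℕ} [Fact p.Prime] [Fact q.Prime] (hqp : q ≠ p)
    (B V D : Subgroup G) (hB : Cfsg.IsElementaryAbelian p B) (hV : IsPGroup q V)
    (hBV : B ≤ Subgroup.normalizer (V : Set G)) (hBD : B ≤ Subgroup.normalizer (D : Set G))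
    (hVD : ¬ V ≤ D) :
    ∃ B1 : Subgroup G, B1 ≤ B ∧ Nat.card B ≤ p * Nat.card B1 ∧
      ∃ v ∈ V, v ∉ D ∧ v ∈ Subgroup.centralizer (B1 : Set G) := by
  classical
  have hp : p.Prime := Fact.out
  have hq : q.Prime := Fact.out
  obtain ⟨A, -, hAmax⟩ := Finite.exists_le_maximal
    (p := fun A : Subgroup G => A ≤ B ∧ ∃ v ∈ V, v ∉ D ∧ v ∈ Subgroup.centralizer (A : Set G))
    (a := ⊥) ⟨bot_le, by
      obtain ⟨v, hv, hvD⟩ := SetLike.not_le_iff_exists.1 hVD
      exact ⟨v, hv, hvD, by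
        intro x hx
        rw [SetLike.mem_coe, Subgroup.mem_bot] at hx
        simp [hx]⟩⟩
  refine ⟨A, hAmax.1.1, ?_, hAmax.1.2⟩
  by_contra hlt
  rw [not_le] at hlt
  have hAB : A ≤ B := hAmax.1.1
  obtain ⟨a, haB, haA⟩ : ∃ a ∈ B, a ∉ A := by
    refine SetLike.not_le_iff_exists.1 fun hle => ?_
    have := Subgroup.card_le_of_le hle
    have := hp.two_le
    have := Nat.le_mul_of_pos_left (Nat.card A) hp.pos
    omega
  have hcomm : ∀ x ∈ B, ∀ y ∈ B, x * y = y * x := fun x hx y hy =>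
    congrArg Subtype.val (hB.1.is_comm.comm (⟨x, hx⟩ : B) ⟨y, hy⟩)
  obtain ⟨b, hbB, hbA⟩ : ∃ b ∈ B, b ∉ A ⊔ Subgroup.zpowers a := by
    refine SetLike.not_le_iff_exists.1 fun hle => ?_
    have h1 : Nat.card (A ⊔ Subgroup.zpowers a : Subgroup G) ≤ Nat.card A * p := by
      have hn : Subgroup.zpowers a ≤ Subgroup.normalizer (A : Set G) :=
        le_normalizer_of_le_centralizer (Subgroup.zpowers_le.2
          (fun x hx => hcomm x (hAB hx) a haB))
      have hset := Subgroup.coe_mul_of_right_le_normalizer_left A (Subgroup.zpowers a) hn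
      have h2 : Nat.card ((A : Set G) * (Subgroup.zpowers a : Set G) : Set G) ≤
          Nat.card (A : Set G) * Nat.card (Subgroup.zpowers a : Set G) := Set.natCard_mul_le
      rw [← hset] at h2
      refine le_trans h2 (Nat.mul_le_mul le_rfl ?_)
      rw [SetLike.coe_sort_coe, Nat.card_zpowers]
      exact Nat.le_of_dvd hp.pos (orderOf_dvd_of_pow_eq_one (hB.2 a haB))
    have := Subgroup.card_le_of_le hle
    rw [mul_comm] at h1
    omega
  -- the fixed points of `A`
  set W := V ⊓ Subgroup.centralizer (A : Set G) with hW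
  have hBW : B ≤ Subgroup.normalizer (W : Set G) := PConstrainedSignal.normalizes_inf_centralizer hBV
    (le_normalizer_of_le_centralizer fun x hx y hy => hcomm y (hAB hy) x hx)
  have hWp : IsPGroup q W := hV.to_le inf_le_left
  set Dw := (D ⊓ W).subgroupOf W with hDw
  have hDw1 : Dw ≠ ⊤ := by
    intro h
    obtain ⟨v, hv, hvD, hvC⟩ := hAmax.1.2
    have hm : (⟨v, hv, hvC⟩ : W) ∈ Dw := h ▸ Subgroup.mem_top _
    exact hvD (show v ∈ D ⊓ W from hm).1
  set M := Dw ⊔ frattini W with hM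
  have hM1 : M ≠ ⊤ := fun h => hDw1 (frattini_nongenerating h)
  have hMc : commutator W ≤ M := (PGroupsBasic.commutator_le_frattini hWp).trans le_sup_right
  have hMn : M.Normal := PGroupsBasic.normal_of_commutator_le hMc
  let instN : CommGroup (W ⧸ M) :=
    { (inferInstance : Group (W ⧸ M)) with
      mul_comm := fun x y => by
        obtain ⟨x, rfl⟩ := QuotientGroup.mk_surjective x
        obtain ⟨y, rfl⟩ := QuotientGroup.mk_surjective y
        rw [← commutatorElement_eq_one_iff_mul_comm, ← QuotientGroup.mk'_apply,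
          ← QuotientGroup.mk'_apply, ← map_commutatorElement, QuotientGroup.mk'_apply,
          QuotientGroup.eq_one_iff]
        exact hMc (Subgroup.commutator_mem_commutator (Subgroup.mem_top _) (Subgroup.mem_top _)) }
  let conjW : B → (W ≃* W) := fun g =>
    { toFun := fun u => ⟨(g : G) * u * (g : G)⁻¹, OddLocalBase.conj_mem_of_le_normalizer hBW g.2 u.2⟩
      invFun := fun u => ⟨(g : G)⁻¹ * u * g, by
        simpa using OddLocalBase.conj_mem_of_le_normalizer hBW (B.inv_mem g.2) u.2⟩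
      left_inv := fun u => Subtype.ext (show (g : G)⁻¹ * ((g : G) * u * (g : G)⁻¹) * g = (u : G) by group)
      right_inv := fun u => Subtype.ext (show (g : G) * ((g : G)⁻¹ * u * g) * (g : G)⁻¹ = (u : G) by group)
      map_mul' := fun u v => Subtype.ext
        (show (g : G) * (u * v : G) * (g : G)⁻¹
          = (g : G) * u * (g : G)⁻¹ * ((g : G) * v * (g : G)⁻¹) by group) }
  have hconjM : ∀ (g : B) (u : W), u ∈ M → conjW g u ∈ M := by
    intro g u hu
    have h1 : Dw ≤ M.comap (conjW g).toMonoidHom := by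
      intro d hd
      refine Subgroup.mem_sup_left (Subgroup.mem_subgroupOf.2 ⟨?_, ?_⟩)
      · exact OddLocalBase.conj_mem_of_le_normalizer hBD g.2 (show (d : G) ∈ D ⊓ W from hd).1
      · exact (conjW g d).2
    have h2 : frattini W ≤ M.comap (conjW g).toMonoidHom := by
      intro d hd
      exact Subgroup.mem_sup_right
        (Subgroup.characteristic_iff_map_le.1 inferInstance (conjW g) ⟨d, hd, rfl⟩)
    exact (sup_le h1 h2) hu
  have hmap : ∀ g : B, M.map (conjW g).toMonoidHom = M := fun g => by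
    refine le_antisymm (Subgroup.map_le_iff_le_comap.2 fun u hu => hconjM g u hu) fun u hu => ?_
    refine ⟨(conjW g).symm u, ?_, (conjW g).apply_symm_apply u⟩
    have := hconjM g⁻¹ u hu
    have he : (conjW g).symm u = conjW g⁻¹ u := Subtype.ext (by
      show (g : G)⁻¹ * u * g = ((g⁻¹ : B) : G) * u * ((g⁻¹ : B) : G)⁻¹
      simp)
    rwa [he]
  let φ : B →* MulAut (W ⧸ M) := MonoidHom.mk' (fun g => QuotientGroup.congr M M (conjW g) (hmap g))
    (fun g h => MulEquiv.ext fun x => by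
      obtain ⟨x, rfl⟩ := QuotientGroup.mk_surjective x
      show ((conjW (g * h) x : W) : W ⧸ M) = ((conjW g (conjW h x) : W) : W ⧸ M)
      congr 1
      refine Subtype.ext ?_
      show ((g * h : B) : G) * x * ((g * h : B) : G)⁻¹
        = (g : G) * ((h : G) * x * (h : G)⁻¹) * (g : G)⁻¹
      simp only [Subgroup.coe_mul]; group)
  have hfix : ∀ g : B, (g : G) ∉ A → ∀ w : W ⧸ M, φ g w = w → w = 1 := by
    intro g hgA w hw
    by_contra hw1
    obtain ⟨x, rfl⟩ := QuotientGroup.mk_surjective w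
    have hxM : x ∉ M := fun h => hw1 ((QuotientGroup.eq_one_iff x).2 h)
    have hgM : (g : G) ∈ Subgroup.normalizer ((M.map W.subtype : Subgroup G) : Set G) := by
      refine PConstrainedSignal.mem_normalizer_of_forall (A := B) ?_ g.2
      rintro c hc _ ⟨m, hm, rfl⟩
      exact ⟨conjW ⟨c, hc⟩ m, hconjM _ m hm, rfl⟩
    have hcopg : (orderOf (g : G)).Coprime (Nat.card (M.map W.subtype)) := by
      obtain ⟨n, hn⟩ := IsPGroup.iff_card.1 (hWp.to_le (Subgroup.map_subtype_le M))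
      rw [hn]
      exact Nat.Coprime.coprime_dvd_left (orderOf_dvd_of_pow_eq_one (hB.2 g g.2))
        (((Nat.coprime_primes hp hq).2 (Ne.symm hqp)).pow_right n)
    obtain ⟨c, hgc, hxc⟩ := CoprimeAction.exists_fixed_mem_coset_zpowers hgM hcopg (x : G) (by
      have h1 : ((conjW g x : W) : W ⧸ M) = (x : W ⧸ M) := hw
      have h2 : x⁻¹ * conjW g x ∈ M := QuotientGroup.eq.1 h1.symm
      refine ⟨_, h2, ?_⟩
      show (x : G)⁻¹ * ((g : G) * x * (g : G)⁻¹) = _
      group)
    obtain ⟨m, hm, hmc⟩ := hxc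
    have hc : c = ((x * m : W) : G) := by
      simp only [Subgroup.coe_subtype] at hmc
      rw [Subgroup.coe_mul, hmc, mul_inv_cancel_left]
    have hcW : c ∈ W := hc ▸ (x * m).2
    have hcM : ¬ (⟨c, hcW⟩ : W) ∈ M := by
      intro h
      have : x * m ∈ M := by
        convert h using 1
        exact Subtype.ext hc.symm
      exact hxM ((Subgroup.mul_mem_cancel_right M hm).1 this)
    have hcD : c ∉ D := fun h => hcM (Subgroup.mem_sup_left (Subgroup.mem_subgroupOf.2 ⟨h, hcW⟩))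
    have hnew : A ⊔ Subgroup.zpowers (g : G) ≤ A := hAmax.2
      ⟨sup_le hAB (Subgroup.zpowers_le.2 g.2), c, hcW.1, hcD, by
        intro y hy
        have : A ⊔ Subgroup.zpowers (g : G) ≤ Subgroup.centralizer ({c} : Set G) := by
          refine sup_le (fun y hy => ?_) (Subgroup.zpowers_le.2 ?_)
          · exact Subgroup.mem_centralizer_singleton_iff.2 (hcW.2 y hy)
          · exact Subgroup.mem_centralizer_singleton_iff.2 hgc
        exact Subgroup.mem_centralizer_singleton_iff.1 (this hy)⟩ le_sup_left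
    exact hgA (hnew (Subgroup.mem_sup_right (Subgroup.mem_zpowers _)))
  have hbzA : b ∉ A := fun h => hbA (Subgroup.mem_sup_left h)
  set α := φ ⟨a, haB⟩
  set β := φ ⟨b, hbB⟩
  have hpow : ∀ g : B, g ^ p = 1 := fun g => Subtype.ext (by simpa using hB.2 g g.2)
  have key : ∀ w : W ⧸ M, w ^ p = 1 := averaging_two p α β
    ((show Commute (⟨a, haB⟩ : B) ⟨b, hbB⟩ from hB.1.is_comm.comm _ _).map φ)
    (by rw [← map_pow, hpow, map_one]) (by rw [← map_pow, hpow, map_one])
    (fun j w hw => by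
      rw [← map_pow, ← map_mul] at hw
      refine hfix _ ?_ w hw
      intro h
      simp only [Subgroup.coe_mul, SubmonoidClass.coe_pow] at h
      -- `a b^j ∈ A` with `b ∉ A⟨a⟩` forces `p ∣ j`, hence `a ∈ A`
      have hbj : b ^ j ∈ A ⊔ Subgroup.zpowers a := by
        have h' : a⁻¹ * (a * b ^ j) ∈ A ⊔ Subgroup.zpowers a :=
          Subgroup.mul_mem _ (Subgroup.inv_mem _ (Subgroup.mem_sup_right (Subgroup.mem_zpowers a)))
            (Subgroup.mem_sup_left h)
        simpa using h'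
      rcases Nat.coprime_or_dvd_of_prime hp j with hc | hd
      · have hob : (orderOf b) ∣ p := orderOf_dvd_of_pow_eq_one (hB.2 b hbB)
        obtain ⟨m, hm⟩ := exists_pow_eq_self_of_coprime (hc.symm.coprime_dvd_right hob)
        exact hbA (hm ▸ Subgroup.pow_mem _ hbj m)
      · obtain ⟨k, rfl⟩ := hd
        rw [pow_mul, hB.2 b hbB, one_pow, mul_one] at h
        exact haA h)
    (fun w hw => hfix ⟨b, hbB⟩ hbzA w hw)
  obtain ⟨x, hx⟩ := SetLike.not_le_iff_exists.1 (fun h : (⊤ : Subgroup W) ≤ M => hM1 (top_le_iff.1 h))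
  refine hx.2 ((QuotientGroup.eq_one_iff x).1 ?_)
  obtain ⟨k, hk⟩ := IsPGroup.iff_orderOf.1 (hWp.to_quotient M) (x : W ⧸ M)
  rw [← orderOf_eq_one_iff]
  exact Nat.eq_one_of_dvd_coprimes (((Nat.coprime_primes hq hp).2 hqp).pow_left k) hk.dvd
    (orderOf_dvd_of_pow_eq_one (key _))

theorem map_conj_mem_iff {Q : Subgroup G} {k x : G} :
    x ∈ Q.map (MulAut.conj k).toMonoidHom ↔ ∃ y ∈ Q, k * y * k⁻¹ = x := by
  rfl

theorem map_conj_map (Q : Subgroup G) (k l : G) :
    (Q.map (MulAut.conj k).toMonoidHom).map (MulAut.conj l).toMonoidHom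
      = Q.map (MulAut.conj (l * k)).toMonoidHom := by
  rw [Subgroup.map_map]
  congr 1
  ext x
  simp [mul_assoc]

theorem map_conj_one (Q : Subgroup G) : Q.map (MulAut.conj (1 : G)).toMonoidHom = Q := by
  ext x
  simp

/-- Conjugation by an element centralizing `E` preserves the set of maximal `E`-invariant subgroups. -/
theorem conj_mem_maxInv [Finite G] {E Q : Subgroup G} {π : Set ℕ} {k : G}
    (hk : k ∈ Subgroup.centralizer (E : Set G)) (hQ : Q ∈ Cfsg.maxInvSubgroups ⊤ E π) :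
    Q.map (MulAut.conj k).toMonoidHom ∈ Cfsg.maxInvSubgroups ⊤ E π := by
  have hinv : ∀ (l : G) (R : Subgroup G), l ∈ Subgroup.centralizer (E : Set G) →
      R ∈ Cfsg.invSubgroups ⊤ E π → R.map (MulAut.conj l).toMonoidHom ∈ Cfsg.invSubgroups ⊤ E π := by
    rintro l R hl ⟨-, hcard, hER⟩
    refine ⟨le_top, ?_, ?_⟩
    · rw [Subgroup.card_map_of_injective (MulEquiv.injective _)]
      exact hcard
    · refine PConstrainedSignal.mem_normalizer_of_forall ?_
      rintro e he _ ⟨y, hy, rfl⟩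
      refine ⟨e * y * e⁻¹, OddLocalBase.conj_mem_of_le_normalizer hER he hy, ?_⟩
      have h1 : Commute e l := hl e he
      simp only [MulEquiv.coe_toMonoidHom, MulAut.conj_apply]
      calc l * (e * y * e⁻¹) * l⁻¹ = (l * e) * y * (l * e)⁻¹ := by group
        _ = e * (l * y * l⁻¹) * e⁻¹ := by rw [← h1.eq]; group
  refine ⟨hinv k Q hk hQ.1, fun R hR hle => ?_⟩
  have h1 := hQ.2 _ (hinv k⁻¹ R (Subgroup.inv_mem _ hk) hR) (by
    intro x hx
    exact ⟨k * x * k⁻¹, hle ⟨x, hx, rfl⟩, by simp [mul_assoc]⟩)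
  rw [← h1, map_conj_map, mul_inv_cancel, map_conj_one]

theorem main [Finite G] (p : ℕ) [Fact p.Prime]
    (hloc : ∀ T : Subgroup G, IsPGroup p T → T ≠ ⊥ → Cfsg.IsPConstrained p ↥(Subgroup.normalizer (T : Set G)))
    (h2 : p = 2 → ∀ S : Sylow p G, ∀ a ∈ (S : Subgroup G), ∀ b ∈ (S : Subgroup G),
      ∀ c ∈ (S : Subgroup G), ⁅⁅a, b⁆, c⁆ = 1)
    (E : Subgroup G) (hEp : IsPGroup p E) (hEc : IsMulCommutative E) (hE3 : ¬ Cfsg.PRankLE p 2 E)
    (hEfull : ∀ x ∈ Subgroup.centralizer (E : Set G), IsPGroup p (Subgroup.zpowers x) → x ∈ E)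
    (q : ℕ) [Fact q.Prime] (hqp : q ≠ p) :
    ∀ Q₁ ∈ Cfsg.maxInvSubgroups ⊤ E {q}, ∀ Q₂ ∈ Cfsg.maxInvSubgroups ⊤ E {q},
      ∃ k ∈ Cfsg.piCoreOf (Cfsg.primesNotDvd p) (Subgroup.centralizer (E : Set G)),
        Q₂ = Q₁.map (MulAut.conj k).toMonoidHom := by
  classical
  have hp : p.Prime := Fact.out
  have hq : q.Prime := Fact.out
  obtain ⟨B, hBE, hBel, hBcard⟩ : ∃ B : Subgroup G, B ≤ E ∧ Cfsg.IsElementaryAbelian p B ∧
      p ^ 2 < Nat.card B := by
    simp only [Cfsg.PRankLE, not_forall, not_le] at hE3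
    obtain ⟨A0, hA0c, hA0p, hA0⟩ := hE3
    refine ⟨A0.map E.subtype, Subgroup.map_subtype_le _, ⟨⟨⟨?_⟩⟩, ?_⟩, ?_⟩
    · rintro ⟨-, x, hx, rfl⟩ ⟨-, y, hy, rfl⟩
      exact Subtype.ext (show (x : G) * y = y * x from congrArg Subtype.val (hEc.is_comm.comm x y))
    · rintro _ ⟨x, hx, rfl⟩
      exact congrArg Subtype.val (hA0p x hx)
    · rwa [Subgroup.card_map_of_injective E.subtype_injective]
  have hEcomm : ∀ x ∈ E, ∀ y ∈ E, x * y = y * x := fun x hx y hy =>
    congrArg Subtype.val (hEc.is_comm.comm (⟨x, hx⟩ : E) ⟨y, hy⟩)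
  set C := Subgroup.centralizer (E : Set G) with hC
  set K := Cfsg.piCoreOf (Cfsg.primesNotDvd p) C with hK
  have hKC : K ≤ C := Subgroup.map_subtype_le _
  have hqgroup : ∀ R ∈ Cfsg.invSubgroups ⊤ E {q}, IsPGroup q R := fun R hR =>
    IsPGroup.of_card (Nat.eq_prime_pow_of_unique_prime_dvd Nat.card_pos.ne'
      (fun {d} hd hdd => hR.2.1 d hd hdd))
  have hqinv : ∀ R : Subgroup G, IsPGroup q R → E ≤ Subgroup.normalizer (R : Set G) →
      R ∈ Cfsg.invSubgroups ⊤ E {q} := by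
    intro R hR hER
    refine ⟨le_top, fun r hr hrd => ?_, hER⟩
    obtain ⟨n, hn⟩ := IsPGroup.iff_card.1 hR
    rw [hn] at hrd
    exact (Nat.prime_dvd_prime_iff_eq hr hq).1 (hr.dvd_of_dvd_pow hrd)
  intro Q₁ hQ₁ Q₂ hQ₂
  obtain ⟨n, hn⟩ : ∃ n, Nat.card G ≤ Nat.card (Q₁ ⊓ Q₂ : Subgroup G) + n := ⟨Nat.card G, by omega⟩
  induction n using Nat.strong_induction_on generalizing Q₁ Q₂ with
  | _ n ih =>
  by_cases heq : Q₁ = Q₂
  · exact ⟨1, K.one_mem, by rw [map_conj_one, heq]⟩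
  set D := Q₁ ⊓ Q₂ with hD
  have hED : E ≤ Subgroup.normalizer (D : Set G) :=
    CoprimeAction.le_normalizer_inf hQ₁.1.2.2 hQ₂.1.2.2
  have hstep : ∀ Q ∈ Cfsg.maxInvSubgroups ⊤ E {q}, D ≤ Q → Q ≠ D →
      ∃ B1 : Subgroup G, B1 ≤ B ∧ Nat.card B ≤ p * Nat.card B1 ∧
      ∃ v ∈ Q ⊓ Subgroup.normalizer (D : Set G), v ∉ D ∧ v ∈ Subgroup.centralizer (B1 : Set G) := by
    intro Q hQ hDQ hne
    refine exists_fixed_outside hqp B (Q ⊓ Subgroup.normalizer (D : Set G)) D hBel
      ((hqgroup Q hQ.1).to_le inf_le_left)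
      (hBE.trans (CoprimeAction.le_normalizer_inf hQ.1.2.2 (hED.trans Subgroup.le_normalizer)))
      (hBE.trans hED) fun hle => ?_
    have hnil : Group.IsNilpotent Q := (hqgroup Q hQ.1).isNilpotent
    have hlt : D.subgroupOf Q < ⊤ :=
      lt_top_iff_ne_top.2 fun h => hne (le_antisymm (Subgroup.subgroupOf_eq_top.1 h) hDQ)
    have hlt2 := Group.normalizerCondition_of_isNilpotent (D.subgroupOf Q) hlt
    obtain ⟨x, hx, hxD⟩ := SetLike.exists_of_lt hlt2
    refine hxD (Subgroup.mem_subgroupOf.2 (hle ⟨x.2, ?_⟩))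
    rw [← Subgroup.subgroupOf_normalizer_eq hDQ] at hx
    exact hx
  obtain ⟨B1, hB1, hB1c, v1, hv1, hv1D, hv1B⟩ := hstep Q₁ hQ₁ inf_le_left fun h =>
    heq (hQ₁.2 Q₂ hQ₂.1 (by rw [h]; exact inf_le_right)).symm
  obtain ⟨B2, hB2, hB2c, v2, hv2, hv2D, hv2B⟩ := hstep Q₂ hQ₂ inf_le_right fun h =>
    heq (hQ₂.2 Q₁ hQ₁.1 (by rw [h]; exact inf_le_left))
  obtain ⟨e, ⟨he1, he2⟩, hene⟩ : ∃ e, e ∈ B1 ⊓ B2 ∧ e ≠ 1 := by
    by_contra hno
    push Not at hno
    have hinj : Function.Injective (fun x : B1 × B2 =>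
        (⟨(x.1 : G) * x.2, B.mul_mem (hB1 x.1.2) (hB2 x.2.2)⟩ : B)) := by
      rintro ⟨x, y⟩ ⟨x', y'⟩ h
      have h' : (x : G) * y = x' * y' := congrArg Subtype.val h
      have hz : (x' : G)⁻¹ * x = y' * (y : G)⁻¹ := by
        rw [eq_mul_inv_iff_mul_eq, mul_assoc, h', inv_mul_cancel_left]
      have hz1 := hno _ ⟨B1.mul_mem (B1.inv_mem x'.2) x.2, hz ▸ B2.mul_mem y'.2 (B2.inv_mem y.2)⟩
      have hxx : x = x' := Subtype.ext (inv_mul_eq_one.1 hz1).symm
      subst hxx
      exact Prod.ext rfl (Subtype.ext (mul_left_cancel h'))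
    have hc := Nat.card_le_card_of_injective _ hinj
    rw [Nat.card_prod] at hc
    have : Nat.card B * Nat.card B ≤ p ^ 2 * Nat.card B :=
      calc Nat.card B * Nat.card B ≤ (p * Nat.card B1) * (p * Nat.card B2) := Nat.mul_le_mul hB1c hB2c
        _ = p ^ 2 * (Nat.card B1 * Nat.card B2) := by ring
        _ ≤ p ^ 2 * Nat.card B := Nat.mul_le_mul_left _ hc
    exact absurd (Nat.le_of_mul_le_mul_right this Nat.card_pos) (not_le.2 hBcard)
  -- the p'-core of the normalizer of `⟨e⟩`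
  have heE : e ∈ E := hBE (hB1 he1)
  set N := Subgroup.normalizer ((Subgroup.zpowers e : Subgroup G) : Set G) with hN
  have hCe : ∀ x, x * e = e * x → x ∈ N := fun x hx =>
    Subgroup.centralizer_le_normalizer _ fun y hy => by
      obtain ⟨m, rfl⟩ := Subgroup.mem_zpowers_iff.1 hy
      exact (((show Commute x e from hx).zpow_right m)).symm.eq
  have hEN : E ≤ N := fun x hx => hCe x (hEcomm x hx e heE)
  have hCN : C ≤ N := fun x hx => hCe x (hx e heE).symm
  set M := (Cfsg.pPrimeCore p N).map N.subtype with hM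
  have hMN : M ≤ N := Subgroup.map_subtype_le _
  have hMcop : (Nat.card M).Coprime p := by
    rw [hM, Subgroup.card_map_of_injective N.subtype_injective]
    exact HallCore.coprime_card_pPrimeCore p N
  have hNM : N ≤ Subgroup.normalizer (M : Set G) := by
    have := HallCore.pPrimeCore_characteristic p N
    exact OddLocalBase.le_normalizer_map_characteristic Subgroup.le_normalizer _
  have hXM : ∀ X : Subgroup G, IsPGroup q X → E ≤ Subgroup.normalizer (X : Set G) →
      (∀ x ∈ X, x * e = e * x) → X ≤ M := by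
    intro X hX hEX hXe
    have hXN : X ≤ N := fun x hx => hCe x (hXe x hx)
    have hcon := hloc (Subgroup.zpowers e) (hEp.to_le (Subgroup.zpowers_le.2 heE))
      (fun h => hene (Subgroup.zpowers_eq_bot.1 h))
    have hle := PConstrainedSignal.le_pPrimeCore_of_pConstrained p hcon
      (fun hp2 S a ha b hb c hc => by
        obtain ⟨T, hT⟩ := (S.isPGroup'.map N.subtype).exists_le_sylow
        refine Subtype.ext ?_
        rw [← Subgroup.coe_subtype, map_commutatorElement, map_commutatorElement]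
        exact h2 hp2 T _ (hT ⟨a, ha, rfl⟩) _ (hT ⟨b, hb, rfl⟩) _ (hT ⟨c, hc, rfl⟩))
      (E.subgroupOf N) (hEp.of_equiv (Subgroup.subgroupOfEquivOfLe hEN).symm)
      (fun x hx hxp => Subgroup.mem_subgroupOf.2 (hEfull x
        (fun y hy => congrArg Subtype.val (hx ⟨y, hEN hy⟩ hy))
        (by
          have := hxp.map N.subtype
          rwa [MonoidHom.map_zpowers] at this)))
      (X.subgroupOf N) (by
        rw [Nat.card_congr (Subgroup.subgroupOfEquivOfLe hXN).toEquiv]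
        obtain ⟨m, hm⟩ := IsPGroup.iff_card.1 hX
        rw [hm]
        exact ((Nat.coprime_primes hq hp).2 hqp).pow_left m)
      (PConstrainedSignal.mem_normalizer_of_forall fun a ha x hx =>
        OddLocalBase.conj_mem_of_le_normalizer hEX ha hx)
    intro x hx
    exact ⟨⟨x, hXN hx⟩, hle hx, rfl⟩
  set L := M ⊓ Subgroup.normalizer (D : Set G) with hL
  have hEL : E ≤ Subgroup.normalizer (L : Set G) :=
    CoprimeAction.le_normalizer_inf (hEN.trans hNM) (hED.trans Subgroup.le_normalizer)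
  have hLcop : (Nat.card E).Coprime (Nat.card L) := by
    obtain ⟨m, hm⟩ := IsPGroup.iff_card.1 hEp
    rw [hm]
    exact (Nat.Coprime.coprime_dvd_left (Subgroup.card_dvd_of_le inf_le_left) hMcop).symm.pow_left m
  have hsolv : Group.IsSolvable E ∨ Group.IsSolvable L :=
    Or.inl (CoprimeAction.isSolvable_of_isPGroup hEp)
  have hget : ∀ Q ∈ Cfsg.maxInvSubgroups ⊤ E {q}, ∀ v ∈ Q ⊓ Subgroup.normalizer (D : Set G),
      v * e = e * v → ∃ S : Sylow q L, v ∈ (S : Subgroup L).map L.subtype ∧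
        E ≤ Subgroup.normalizer ((S : Subgroup L).map L.subtype : Set G) := by
    intro Q hQ v hv hve
    set X := Q ⊓ Subgroup.normalizer (D : Set G) ⊓ Subgroup.centralizer ({e} : Set G) with hX
    have hXe : ∀ x ∈ X, x * e = e * x := fun x hx =>
      Subgroup.mem_centralizer_singleton_iff.1 hx.2
    have hXp : IsPGroup q X := (hqgroup Q hQ.1).to_le (inf_le_left.trans inf_le_left)
    have hEX : E ≤ Subgroup.normalizer (X : Set G) :=
      CoprimeAction.le_normalizer_inf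
        (CoprimeAction.le_normalizer_inf hQ.1.2.2 (hED.trans Subgroup.le_normalizer))
        (le_trans (fun x hx => Subgroup.mem_centralizer_singleton_iff.2 (hEcomm x hx e heE))
          Subgroup.le_normalizer)
    obtain ⟨S, hXS, hES⟩ := CoprimeAction.exists_invariant_sylow_ge hEL hLcop hsolv
      (le_inf (hXM X hXp hEX hXe) (inf_le_left.trans inf_le_right)) hXp hEX
    exact ⟨S, hXS ⟨hv, Subgroup.mem_centralizer_singleton_iff.2 hve⟩, hES⟩
  obtain ⟨S1, hv1S, hES1⟩ := hget Q₁ hQ₁ v1 hv1 (hv1B e he1).symm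
  obtain ⟨S2, hv2S, hES2⟩ := hget Q₂ hQ₂ v2 hv2 (hv2B e he2).symm
  obtain ⟨c, hcE, hcS⟩ := CoprimeAction.invariant_sylow_conj hEL hLcop hsolv S2 S1 hES2 hES1
  set T := (S1 : Subgroup L).map L.subtype with hT
  have hTD : T ≤ Subgroup.normalizer (D : Set G) := (Subgroup.map_subtype_le _).trans inf_le_right
  have hTq : IsPGroup q (T ⊔ D : Subgroup G) :=
    (S1.isPGroup'.map L.subtype).to_sup_of_normal_right' ((hqgroup Q₁ hQ₁.1).to_le inf_le_left) hTD
  have hTinv : E ≤ Subgroup.normalizer ((T ⊔ D : Subgroup G) : Set G) := by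
    refine PConstrainedSignal.mem_normalizer_of_forall fun x hx u hu => ?_
    have hle : (T ⊔ D).map (MulAut.conj x).toMonoidHom ≤ T ⊔ D := by
      rw [Subgroup.map_sup]
      refine sup_le_sup ?_ ?_
      · rintro _ ⟨y, hy, rfl⟩
        exact OddLocalBase.conj_mem_of_le_normalizer hES1 hx hy
      · rintro _ ⟨y, hy, rfl⟩
        exact OddLocalBase.conj_mem_of_le_normalizer hED hx hy
    exact hle ⟨u, hu, rfl⟩
  obtain ⟨Q₃, hQ₃le, hQ₃⟩ := Finite.exists_le_maximal
    (p := fun R : Subgroup G => R ∈ Cfsg.invSubgroups ⊤ E {q}) (hqinv _ hTq hTinv)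
  have hQ₃m : Q₃ ∈ Cfsg.maxInvSubgroups ⊤ E {q} :=
    ⟨hQ₃.1, fun R hR hle => le_antisymm (hQ₃.2 hR hle) hle⟩
  have hcC : (c : G) ∈ C := hcE
  have hcK : (c : G) ∈ K := by
    have hJn : (M.subgroupOf C).Normal :=
      ⟨fun x hx g => OddLocalBase.conj_mem_of_le_normalizer (hCN.trans hNM) g.2 hx⟩
    refine ⟨⟨c, hcC⟩, ?_, rfl⟩
    refine HallCore.le_piCore ?_ (Subgroup.mem_subgroupOf.2 c.2.1)
    intro r hr hrd
    refine ⟨hr, fun hrp => ?_⟩
    have h1 : r = p := (Nat.prime_dvd_prime_iff_eq hr hp).1 hrp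
    exact (Nat.Prime.coprime_iff_not_dvd hp).1 hMcop.symm
      (h1 ▸ hrd.trans (HallCore.card_subgroupOf_dvd M C))
  set Q₂' := Q₂.map (MulAut.conj (c : G)).toMonoidHom with hQ₂'
  have hQ₂'m : Q₂' ∈ Cfsg.maxInvSubgroups ⊤ E {q} := conj_mem_maxInv hcC hQ₂
  have hgrow : ∀ Q : Subgroup G, D ≤ Q → ∀ v ∈ Q, v ∉ D → v ∈ Q₃ →
      Nat.card D < Nat.card (Q ⊓ Q₃ : Subgroup G) := by
    intro Q hDQ v hvQ hvD hv3
    have hle : D ≤ Q ⊓ Q₃ := le_inf hDQ (le_sup_right.trans hQ₃le)
    refine lt_of_le_of_ne (Subgroup.card_le_of_le hle) fun h => hvD ?_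
    rw [Subgroup.eq_of_le_of_card_ge hle h.ge]
    exact ⟨hvQ, hv3⟩
  have hbound : ∀ R : Subgroup G, Nat.card D < Nat.card R →
      Nat.card G - Nat.card R < n ∧ Nat.card G ≤ Nat.card R + (Nat.card G - Nat.card R) := by
    intro R hR
    have := Subgroup.card_le_card_group R
    omega
  have hDc : D ≤ Q₂' := by
    intro d hd
    have hcn : (c : G)⁻¹ ∈ Subgroup.normalizer (D : Set G) := Subgroup.inv_mem _ c.2.2
    refine ⟨(c : G)⁻¹ * d * c, ?_, by simp [mul_assoc]⟩
    have := (Subgroup.mem_normalizer_iff.1 hcn d).1 hd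
    simp only [inv_inv] at this
    exact this.2
  have hw : (c : G) * v2 * (c : G)⁻¹ ∈ Q₃ := by
    refine hQ₃le (Subgroup.mem_sup_left ?_)
    obtain ⟨u, hu, huv⟩ := hv2S
    refine ⟨c * u * c⁻¹, ?_, by rw [← huv]; simp⟩
    rw [← hcS]
    exact Subgroup.smul_mem_pointwise_smul u (MulAut.conj c) _ hu
  have hwD : (c : G) * v2 * (c : G)⁻¹ ∉ D := fun h =>
    hv2D ((Subgroup.mem_normalizer_iff.1 c.2.2 v2).2 h)
  obtain ⟨h13, h13'⟩ := hbound _ (hgrow Q₁ inf_le_left v1 hv1.1 hv1D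
    (hQ₃le (Subgroup.mem_sup_left hv1S)))
  obtain ⟨k1, hk1, hk1e⟩ := ih _ h13 Q₁ hQ₁ Q₃ hQ₃m h13'
  obtain ⟨h23, h23'⟩ := hbound _ (hgrow Q₂' hDc _ ⟨v2, hv2.1, rfl⟩ hwD hw)
  obtain ⟨k2, hk2, hk2e⟩ := ih _ h23 Q₂' hQ₂'m Q₃ hQ₃m h23'
  refine ⟨(c : G)⁻¹ * (k2⁻¹ * k1), K.mul_mem (K.inv_mem hcK) (K.mul_mem (K.inv_mem hk2) hk1), ?_⟩
  rw [← map_conj_map, ← map_conj_map, ← hk1e, hk2e, hQ₂', map_conj_map, map_conj_map, map_conj_map]
  simp only [mul_assoc, inv_mul_cancel_left, inv_mul_cancel, one_mul]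
  rw [map_conj_one]

section
/-- Let G be a finite group and p a prime such that the normalizer of every nontrivial p-subgroup of G is p-constrained; if p = 2 assume also that the Sylow 2-subgroups of G have nilpotency class at most 2. Let E be an abelian p-subgroup containing an elementary abelian subgroup of order p ^ 3 and containing every element of p-power order of C_G(E). Then for every prime q ≠ p, any two maximal E-invariant q-subgroups of G are conjugate by an element of O_{p'}(C_G(E)). -/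
theorem result {G : Type*} [Group G] [Finite G] (p : ℕ) [Fact p.Prime]
    (hloc : ∀ T : Subgroup G, IsPGroup p T → T ≠ ⊥ → Cfsg.IsPConstrained p ↥(Subgroup.normalizer (T : Set G)))
    (h2 : p = 2 → ∀ S : Sylow p G, Group.IsNilpotent (S : Subgroup G) ∧ Group.nilpotencyClass (S : Subgroup G) ≤ 2)
    (E : Subgroup G) (hEp : IsPGroup p E) (hEc : IsMulCommutative E) (hE3 : ¬ Cfsg.PRankLE p 2 E)
    (hEfull : ∀ x ∈ Subgroup.centralizer (E : Set G), IsPGroup p (Subgroup.zpowers x) → x ∈ E)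
    (q : ℕ) [Fact q.Prime] (hqp : q ≠ p) :
    ∀ Q₁ ∈ Cfsg.maxInvSubgroups ⊤ E {q}, ∀ Q₂ ∈ Cfsg.maxInvSubgroups ⊤ E {q},
        ∃ k ∈ Cfsg.piCoreOf (Cfsg.primesNotDvd p) (Subgroup.centralizer (E : Set G)), Q₂ = Q₁.map (MulAut.conj k).toMonoidHom := by
  exact main p hloc (fun hp2 S a ha b hb c hc => by
    obtain ⟨hnil, hcl⟩ := h2 hp2 S
    have := PConstrainedSignal.commute_of_class_le_two hcl (⟨a, ha⟩ : (S : Subgroup G)) ⟨b, hb⟩ ⟨c, hc⟩
    exact congrArg Subtype.val this) E hEp hEc hE3 hEfull q hqp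

end

end Cfsg.Agent.S1480
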