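import Cfsg.Statements.S3769
import Cfsg.Agent.Lib.HallHigmanCoprime

set_option autoImplicit false
open Cfsg

namespace Cfsg.Agent.S3769

/-- Let G and V be subgroups of a finite group with G solvable of odd order normalizing V, V an elementary abelian ℓ-group for a prime ℓ not dividing the order of G, and suppose G has a normal Hall subgroup K with a complement R of prime order. If C_V(R) = 1, then [R, K] centralizes V. -/
theorem result {X : Type*} [Group X] [Finite X] (G : Subgroup X) (hsolv : Group.IsSolvable G) (hodd : Odd (Nat.card G)) (V : Subgroup X) {ℓ : ℕ} (hℓ : ℓ.Prime) (hV : Cfsg.IsElementaryAbelian ℓ V) (hℓG : ¬ ℓ ∣ Nat.card G) (hGV : G ≤ Subgroup.normalizer (V : Set X)) (K R : Subgroup X) (hKG : K ≤ G) (hKn : G ≤ Subgroup.normalizer (K : Set X)) (hHall : (Nat.card K).Coprime (K.relIndex G)) (hRG : R ≤ G) (hR : (Nat.card R).Prime) (hKR : K ⊓ R = ⊥) (hKRG : K ⊔ R = G) (hCV : V ⊓ Subgroup.centralizer (R : Set X) = ⊥) : ⁅R, K⁆ ≤ Subgroup.centralizer (V : Set X) := by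
  have hn : (K.subgroupOf G).Normal := (Subgroup.normal_subgroupOf_iff_le_normalizer hKG).mpr hKn
  have h1 : Nat.card R ∣ K.relIndex G := by
    have h2 := Subgroup.relIndex_dvd_index_of_normal (K.subgroupOf G) (R.subgroupOf G)
    rwa [Subgroup.relIndex_subgroupOf hRG, ← Subgroup.inf_relIndex_right, hKR,
      Subgroup.relIndex_bot_left] at h2
  have hodd' : ∀ H : Subgroup X, H ≤ G → Odd (Nat.card H) := fun H hH =>
    hodd.of_dvd_nat (Subgroup.card_dvd_of_le hH)
  refine Cfsg.Agent.HallHigman.commutator_le_centralizer_of_no_fixed hℓ hV hGV hKG hRG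
    (hRG.trans hKn) hR (fun h => ?_) (hodd' K hKG)
    (fun h => hℓG (h.trans (Subgroup.card_dvd_of_le hKG)))
    (hHall.coprime_dvd_right h1).symm (Or.inr ?_) hCV
  · have := hodd' R hRG
    rw [h] at this
    exact absurd this (by decide)
  · have := hsolv
    exact Cfsg.Agent.CoprimeAction.isSolvable_of_le hKG

end Cfsg.Agent.S3769
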