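import Cfsg.Statements.S3736
import Mathlib
import Cfsg.Agent.Lib.CoprimeAction
import Cfsg.Agent.Lib.PGroupsBasic
import Cfsg.Agent.Lib.ComponentsCores
import Cfsg.Agent.Lib.HallCore
-- import your own Cfsg.Agent.* helpers here

set_option autoImplicit false
open Cfsg

namespace Cfsg.Agent.S3736

open Cfsg.Agent.CoprimeAction
open scoped commutatorElement

theorem normalizes_of_conj {X : Type*} [Group X] {B U : Subgroup X}
    (h : ∀ b ∈ B, ∀ u ∈ U, b * u * b⁻¹ ∈ U) : B ≤ Subgroup.normalizer (U : Set X) :=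
  Cfsg.Agent.CoprimeAction.le_normalizer_of_conj_mem h

/-- The Hall–Higman reduction for a minimal non-trivial action. Let B, A and P be subgroups of a finite group with P a p-group, B normalizing P, and A a normal subgroup of B of order prime to p. Suppose A does not centralize P but centralizes every proper B-invariant subgroup of P. Then [P, A] = P; P is elementary abelian or special; B acts irreducibly on P/Φ(P), that is, the only B-invariant subgroups of P containing Φ(P) are Φ(P) and P; and if p is odd then every element of P has order dividing p. -/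
theorem result {X : Type*} [Group X] [Finite X] {p : ℕ} [Fact p.Prime] (B A P : Subgroup X) (hP : IsPGroup p P) (hBP : B ≤ Subgroup.normalizer (P : Set X)) (hAB : A ≤ B) (hAn : B ≤ Subgroup.normalizer (A : Set X)) (hAp : (Nat.card A).Coprime p) (hnt : ⁅P, A⁆ ≠ ⊥) (hmin : ∀ U : Subgroup X, U < P → B ≤ Subgroup.normalizer (U : Set X) → ⁅U, A⁆ = ⊥) : ⁅P, A⁆ = P ∧ (Cfsg.IsElementaryAbelian p P ∨ Cfsg.IsSpecial p ↥P) ∧ (∀ U : Subgroup X, (frattini ↥P).map P.subtype ≤ U → U ≤ P → B ≤ Subgroup.normalizer (U : Set X) → U = (frattini ↥P).map P.subtype ∨ U = P) ∧ (p ≠ 2 → ∀ x ∈ P, x ^ p = 1) := by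
  classical
  have hp := (Fact.out : p.Prime)
  have hAP : A ≤ Subgroup.normalizer (P : Set X) := hAB.trans hBP
  have hcop : (Nat.card A).Coprime (Nat.card P) := by
    obtain ⟨k, hk⟩ := hP.exists_card_eq
    rw [hk]; exact hAp.pow_right k
  haveI hPs : Group.IsSolvable P := isSolvable_of_isPGroup hP
  have hmin' : ∀ U : Subgroup X, U < P → B ≤ Subgroup.normalizer (U : Set X) → ∀ u ∈ U, ∀ a ∈ A, a * u = u * a := by
    intro U hU hBU u hu a ha
    have := hmin U hU hBU
    rw [Subgroup.commutator_eq_bot_iff_le_centralizer] at this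
    exact Subgroup.mem_centralizer_iff.1 (this hu) a ha
  -- step 1
  have hPA : ⁅P, A⁆ = P := by
    by_contra hne
    have hlt : ⁅P, A⁆ < P := lt_of_le_of_ne (commutator_le_self_of_le_normalizer hAP) hne
    have hB : B ≤ Subgroup.normalizer ((⁅P, A⁆ : Subgroup X) : Set X) := by
      intro b hb
      apply mem_normalizer_of_conj_smul_eq
      rw [Cfsg.Agent.CoprimeSZ.conj_smul_eq_map, Subgroup.map_commutator, ← Cfsg.Agent.CoprimeSZ.conj_smul_eq_map,
        ← Cfsg.Agent.CoprimeSZ.conj_smul_eq_map, Cfsg.Agent.CoprimeSZ.conj_smul_eq_self (hBP hb),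
        Cfsg.Agent.CoprimeSZ.conj_smul_eq_self (hAn hb)]
    apply hnt
    rw [← commutator_commutator_eq hAP hcop (Or.inr hPs)]
    exact hmin _ hlt hB
  haveI : Nontrivial P := (Subgroup.nontrivial_iff_ne_bot P).2 fun h => hnt (by rw [h, Subgroup.commutator_bot_left])
  let Φ : Subgroup X := (frattini ↥P).map P.subtype
  have hΦP : Φ < P := by
    refine lt_of_le_of_ne (Subgroup.map_subtype_le _) fun h => Cfsg.Agent.PGroupsBasic.frattini_ne_top (G := P) ?_
    apply Subgroup.map_injective P.subtype_injective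
    rw [← MonoidHom.range_eq_map P.subtype, Subgroup.range_subtype]
    exact h
  have hchar : ∀ (S : Subgroup P) [S.Characteristic], B ≤ Subgroup.normalizer ((S.map P.subtype : Subgroup X) : Set X) :=
    fun S _ => hBP.trans (Cfsg.Agent.ComponentsCores.normalizer_le_normalizer_map_subtype P S)
  have hBΦ : B ≤ Subgroup.normalizer (Φ : Set X) := hchar (frattini ↥P)
  have hAΦ := hmin' Φ hΦP hBΦ
  -- `Φ` is central in `P`
  have hΦc : ∀ x ∈ P, ∀ z ∈ Φ, z * x = x * z := by
    have h1 : ⁅⁅A, Φ⁆, P⁆ = ⊥ := by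
      rw [show ⁅A, Φ⁆ = ⊥ from by
        rw [Subgroup.commutator_eq_bot_iff_le_centralizer]
        exact fun a ha => Subgroup.mem_centralizer_iff.2 fun z hz => (hAΦ z hz a ha).symm]
      exact Subgroup.commutator_bot_left _
    have h2 : ⁅⁅Φ, P⁆, A⁆ = ⊥ := by
      have hle : ⁅Φ, P⁆ ≤ Φ := by
        haveI : (frattini ↥P).Normal := inferInstance
        rw [Subgroup.commutator_le]
        rintro _ ⟨z, hz, rfl⟩ x hx
        refine ⟨⁅z, (⟨x, hx⟩ : P)⁆, ?_, map_commutatorElement P.subtype z ⟨x, hx⟩⟩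
        have := (frattini ↥P).mul_mem hz (‹(frattini ↥P).Normal›.conj_mem _ ((frattini ↥P).inv_mem hz) ⟨x, hx⟩)
        simpa [commutatorElement_def, mul_assoc] using this
      rw [Subgroup.commutator_eq_bot_iff_le_centralizer]
      exact fun y hy => Subgroup.mem_centralizer_iff.2 fun a ha => hAΦ y (hle hy) a ha
    have h3 : ⁅⁅P, A⁆, Φ⁆ = ⊥ := Subgroup.commutator_commutator_eq_bot_of_rotate h1 h2
    rw [hPA, Subgroup.commutator_eq_bot_iff_le_centralizer] at h3
    exact fun x hx z hz => Subgroup.mem_centralizer_iff.1 (h3 hx) z hz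
  have hcomm : ∀ x ∈ P, ∀ y ∈ P, ⁅x, y⁆ ∈ Φ := fun x hx y hy =>
    ⟨⁅(⟨x, hx⟩ : P), ⟨y, hy⟩⁆, Cfsg.Agent.PGroupsBasic.commutator_le_frattini hP
      (Subgroup.commutator_mem_commutator (Subgroup.mem_top _) (Subgroup.mem_top _)), map_commutatorElement P.subtype _ _⟩
  have hpow : ∀ x ∈ P, x ^ p ∈ Φ := fun x hx =>
    ⟨(⟨x, hx⟩ : P) ^ p, Cfsg.Agent.PGroupsBasic.pow_mem_frattini hP _, rfl⟩
  have hcen : ∀ x : P, ∀ y : P, ⁅x, y⁆ ∈ Subgroup.center P := fun x y => by
    rw [Subgroup.mem_center_iff]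
    intro g
    apply Subtype.ext
    have e : ((⁅x, y⁆ : P) : X) = ⁅(x : X), (y : X)⁆ := map_commutatorElement P.subtype x y
    show (g : X) * ((⁅x, y⁆ : P) : X) = ((⁅x, y⁆ : P) : X) * g
    rw [e]
    exact (hΦc g g.2 _ (hcomm _ x.2 _ y.2)).symm
  -- fixed points of `A` lie in `Φ`
  have hCΦ : P ⊓ Subgroup.centralizer (A : Set X) ≤ Φ := by
    let L : Subgroup X := Subgroup.normalizer (Φ : Set X)
    have hPL : P ≤ L := Subgroup.le_normalizer.trans
      (Cfsg.Agent.ComponentsCores.normalizer_le_normalizer_map_subtype P (frattini ↥P))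
    have hAL : A ≤ L := hAB.trans hBΦ
    haveI : (Φ.subgroupOf L).Normal := Subgroup.normal_in_normalizer
    let f := QuotientGroup.mk' (Φ.subgroupOf L)
    let V := (P.subgroupOf L).map f
    let A' := (A.subgroupOf L).map f
    haveI : IsMulCommutative V := ⟨⟨by
      rintro ⟨_, x, hx, rfl⟩ ⟨_, y, hy, rfl⟩
      apply Subtype.ext
      show f x * f y = f y * f x
      rw [← map_mul, ← map_mul, QuotientGroup.mk'_eq_mk']
      refine ⟨⁅y⁻¹, x⁻¹⁆, ?_, by simp [commutatorElement_def, mul_assoc]⟩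
      show ((⁅y⁻¹, x⁻¹⁆ : L) : X) ∈ Φ
      have e : ((⁅y⁻¹, x⁻¹⁆ : L) : X) = ⁅(y : X)⁻¹, (x : X)⁻¹⁆ := map_commutatorElement L.subtype y⁻¹ x⁻¹
      rw [e]
      exact hcomm _ (P.inv_mem hy) _ (P.inv_mem hx)⟩⟩
    have hAV : A' ≤ Subgroup.normalizer (V : Set (↥L ⧸ Φ.subgroupOf L)) := by
      rintro _ ⟨a, ha, rfl⟩
      refine Subgroup.le_normalizer_map f ⟨a, Subgroup.mem_normalizer_iff.2 fun u => ?_, rfl⟩
      exact Subgroup.mem_normalizer_iff.1 (hAP ha) u
    have hcop' : (Nat.card A').Coprime (Nat.card V) := by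
      refine Nat.Coprime.coprime_dvd_left ((Subgroup.card_map_dvd _ _).trans (Cfsg.Agent.HallCore.card_subgroupOf_dvd A L))
        (Nat.Coprime.coprime_dvd_right ((Subgroup.card_map_dvd _ _).trans (Cfsg.Agent.HallCore.card_subgroupOf_dvd P L)) hcop)
    have hcom : ⁅V, A'⁆ = V := by
      rw [← Subgroup.map_commutator]
      congr 1
      apply Subgroup.map_injective L.subtype_injective
      rw [Subgroup.map_commutator, Subgroup.map_subgroupOf_eq_of_le hPL, Subgroup.map_subgroupOf_eq_of_le hAL, hPA]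
    intro x hx
    have h1 : f ⟨x, hPL hx.1⟩ ∈ (V ⊓ Subgroup.centralizer (A' : Set (↥L ⧸ Φ.subgroupOf L))) ⊓ ⁅V, A'⁆ := by
      have hV : f ⟨x, hPL hx.1⟩ ∈ V := ⟨_, hx.1, rfl⟩
      refine ⟨⟨hV, ?_⟩, by rw [hcom]; exact hV⟩
      refine Subgroup.mem_centralizer_iff.2 ?_
      rintro _ ⟨a, ha, rfl⟩
      rw [← map_mul, ← map_mul]
      exact congrArg f (Subtype.ext (Subgroup.mem_centralizer_iff.1 hx.2 a ha))
    rw [inf_centralizer_inf_commutator_eq_bot hAV hcop', Subgroup.mem_bot] at h1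
    exact (QuotientGroup.eq_one_iff (N := Φ.subgroupOf L) (⟨x, hPL hx.1⟩ : L)).1 h1
  have hirr : ∀ U : Subgroup X, Φ ≤ U → U ≤ P → B ≤ Subgroup.normalizer (U : Set X) → U = Φ ∨ U = P := by
    intro U h1 h2 h3
    by_cases h : U = P
    · exact Or.inr h
    refine Or.inl (le_antisymm (fun u hu => hCΦ ⟨h2 hu, ?_⟩) h1)
    exact Subgroup.mem_centralizer_iff.2 fun a ha => hmin' U (lt_of_le_of_ne h2 h) h3 u hu a ha
  -- a sufficient condition for `x ^ p ∈ D` for all `x`
  have key : ∀ D : Subgroup P, D.Characteristic → D ≤ Subgroup.center P → D ≤ frattini P →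
      (∀ u v : P, (u * v) ^ p = u ^ p * v ^ p ∨ ((u * v) ^ p * (u ^ p * v ^ p)⁻¹ ∈ D)) → ∀ x : P, x ^ p ∈ D := by
    intro D hD hDc hDΦ hmul
    have hmul' : ∀ u v : P, (u * v) ^ p * (u ^ p * v ^ p)⁻¹ ∈ D := fun u v => by
      rcases hmul u v with h | h
      · rw [h, mul_inv_cancel]; exact D.one_mem
      · exact h
    haveI : D.Normal := inferInstance
    let U : Subgroup P :=
      { carrier := {x | x ^ p ∈ D}
        one_mem' := by simp [D.one_mem]
        mul_mem' := fun {u v} hu hv => by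
          have := D.mul_mem (hmul' u v) (D.mul_mem hu hv)
          simpa [mul_assoc] using this
        inv_mem' := fun {u} hu => by simpa [inv_pow] using D.inv_mem hu }
    by_contra hcon
    push Not at hcon
    obtain ⟨x₀, hx₀⟩ := hcon
    have hUP : U.map P.subtype < P := by
      refine lt_of_le_of_ne (Subgroup.map_subtype_le _) fun h => hx₀ ?_
      have hx : (x₀ : X) ∈ U.map P.subtype := by rw [h]; exact x₀.2
      obtain ⟨y, hy, hyx⟩ := hx
      rw [← show y = x₀ from Subtype.ext hyx]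
      exact hy
    haveI : U.Characteristic := Subgroup.characteristic_iff_map_le.2 fun φ => by
      rintro _ ⟨y, hy, rfl⟩
      show (φ.toMonoidHom y) ^ p ∈ D
      rw [← map_pow]
      exact Subgroup.characteristic_iff_map_le.1 hD φ ⟨_, hy, rfl⟩
    have hUA := hmin' _ hUP (hchar U)
    apply hnt
    rw [Subgroup.commutator_eq_bot_iff_le_centralizer, Subgroup.le_centralizer_iff]
    refine le_centralizer_of_stabilizes (N := U.map P.subtype)
      (coprime_of_le_right hUP.le hcop) (fun u hu => Subgroup.mem_centralizer_iff.2 fun a ha => hUA u hu a ha) ?_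
    intro a ha x hx
    have hax : a * x * a⁻¹ ∈ P := Cfsg.Agent.CoprimeAction.conj_mem (hAP ha) hx
    refine ⟨(⟨x, hx⟩ : P)⁻¹ * ⟨a * x * a⁻¹, hax⟩, ?_, by simp [mul_assoc]⟩
    show ((⟨x, hx⟩ : P)⁻¹ * ⟨a * x * a⁻¹, hax⟩) ^ p ∈ D
    have h1 := hmul' (⟨x, hx⟩ : P)⁻¹ ⟨a * x * a⁻¹, hax⟩
    have h2 : (⟨a * x * a⁻¹, hax⟩ : P) ^ p = (⟨x, hx⟩ : P) ^ p := by
      apply Subtype.ext
      show (a * x * a⁻¹) ^ p = x ^ p
      rw [conj_pow, mul_inv_eq_iff_eq_mul]
      exact hAΦ _ (hpow x hx) a ha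
    rw [h2, inv_pow, inv_mul_cancel, inv_one, mul_one] at h1
    exact h1
  have hpp : ∀ u v : P, (u * v) ^ p = u ^ p * v ^ p * ⁅v, u⁆ ^ (p.choose 2) := fun u v =>
    Cfsg.Agent.PGroupsBasic.mul_pow_of_central (hcen v u) p
  have hfc : frattini P ≤ Subgroup.center P := fun z hz => by
    rw [Subgroup.mem_center_iff]
    exact fun g => Subtype.ext (hΦc g g.2 z ⟨z, hz, rfl⟩).symm
  have hcp : ∀ u v : P, ⁅v, u⁆ ^ p = 1 := fun u v => by
    rw [← Cfsg.Agent.PGroupsBasic.commutatorElement_pow_left (hcen v u) p, commutatorElement_eq_one_iff_mul_comm]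
    exact (Subgroup.mem_center_iff.1 (hfc (Cfsg.Agent.PGroupsBasic.pow_mem_frattini hP v)) u).symm
  have hodd : p ≠ 2 → ∀ x : P, x ^ p = 1 := by
    intro hp2 x
    have := key ⊥ inferInstance bot_le bot_le (fun u v => Or.inl (by
      rw [hpp]
      obtain ⟨k, hk⟩ : p ∣ p.choose 2 := hp.dvd_choose_self (by norm_num) (lt_of_le_of_ne hp.two_le (Ne.symm hp2))
      rw [hk, pow_mul, hcp, one_pow, mul_one])) x
    simpa using this
  refine ⟨hPA, ?_, hirr, fun hp2 x hx => congrArg Subtype.val (hodd hp2 ⟨x, hx⟩)⟩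
  by_cases hab : IsMulCommutative P
  · left
    refine ⟨hab, fun x hx => ?_⟩
    have := key ⊥ inferInstance bot_le bot_le (fun u v => Or.inl ((show Commute u v from hab.is_comm.comm u v).mul_pow p)) ⟨x, hx⟩
    exact congrArg Subtype.val (Subgroup.mem_bot.1 this)
  · right
    have hcF : commutator P ≤ frattini P := Cfsg.Agent.PGroupsBasic.commutator_le_frattini hP
    have hCFr : commutator P = frattini P := by
      refine le_antisymm hcF ?_
      have hall := key (commutator P) inferInstance (hcF.trans hfc) hcF (fun u v => Or.inr (by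
        have hc : ⁅v, u⁆ ^ (p.choose 2) ∈ commutator P := pow_mem (Subgroup.commutator_mem_commutator (Subgroup.mem_top v) (Subgroup.mem_top u)) _
        rw [hpp, mul_inv_rev]
        have e : u ^ p * v ^ p * ⁅v, u⁆ ^ (p.choose 2) * ((v ^ p)⁻¹ * (u ^ p)⁻¹) = ⁅v, u⁆ ^ (p.choose 2) := by
          rw [mul_assoc, ← Subgroup.mem_center_iff.1 (Subgroup.pow_mem _ (hcen v u) (p.choose 2))]
          group
        rw [e]; exact hc))
      rw [Cfsg.Agent.PGroupsBasic.frattini_eq_sup hP, sup_le_iff]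
      refine ⟨le_rfl, (Subgroup.closure_le _).2 ?_⟩
      rintro _ ⟨y, rfl⟩
      exact hall y
    have hFC : frattini P = Subgroup.center P := by
      refine le_antisymm hfc fun z hz => ?_
      have hlt : (Subgroup.center P).map P.subtype < P := by
        refine lt_of_le_of_ne (Subgroup.map_subtype_le _) fun h => hab ⟨⟨fun u v => ?_⟩⟩
        have hu : (u : X) ∈ (Subgroup.center P).map P.subtype := by rw [h]; exact u.2
        obtain ⟨u', hu', hu''⟩ := hu
        rw [← show u' = u from Subtype.ext hu'']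
        exact (Subgroup.mem_center_iff.1 hu' v).symm
      have hz' : (z : X) ∈ Φ := hCΦ ⟨z.2, Subgroup.mem_centralizer_iff.2 fun a ha =>
        hmin' _ hlt (hchar _) z ⟨z, hz, rfl⟩ a ha⟩
      obtain ⟨y, hy, hyz⟩ := hz'
      rwa [← show y = z from Subtype.ext hyz]
    exact ⟨hP, hFC, hCFr.trans hFC⟩

end Cfsg.Agent.S3736
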