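import Cfsg.Statements.S1410
import Cfsg.Agent.Lib.BGSigmaCore
import Cfsg.Agent.Lib.PLengthOne
import Cfsg.Agent.Lib.HallPLength
import Cfsg.Agent.S1407
import Cfsg.Agent.Lib.PGroupsUniserial
import Cfsg.Agent.S1444

set_option autoImplicit false
open Cfsg Cfsg.Agent Subgroup
open scoped commutatorElement

namespace Cfsg.Agent.S1410

universe u

variable {X : Type u} [Group X] [Finite X] {p : ℕ} [Fact p.Prime]

/-- `p`-length one passes up from a normal subgroup of index prime to `p`. -/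
theorem pLengthLE_of_normal {N : Subgroup X} [N.Normal] (hN : N.index.Coprime p)
    (h : Cfsg.PLengthLE p 1 N) : Cfsg.PLengthLE p 1 X := by
  haveI := HallCore.pPrimeCore_normal p X
  haveI := HallCore.pPrimeCore_normal p N
  haveI := HallCore.pPrimePCore_normal p N
  haveI := HallCore.pPrimeCore_characteristic p N
  haveI : (Cfsg.pPrimePCore p N).Characteristic := characteristic_iff_map_le.2 fun φ => by
    rw [← PLengthOne.upperPSeries_two]
    exact HallPLength.map_term_le φ.surjective 2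
  set W := (Cfsg.pPrimePCore p N).map N.subtype with hW
  haveI : W.Normal := ConjAct.normal_of_characteristic_of_normal
  haveI : ((Cfsg.pPrimeCore p N).map N.subtype).Normal := ConjAct.normal_of_characteristic_of_normal
  have hO : (Cfsg.pPrimeCore p N).map N.subtype ≤ Cfsg.pPrimeCore p X :=
    HallCore.le_pPrimeCore (by
      rw [card_map_of_injective N.subtype_injective]; exact HallCore.coprime_card_pPrimeCore p N)
  have hWle : W ≤ Cfsg.pPrimePCore p X := by
    rw [Cfsg.pPrimePCore, ← map_le_iff_le_comap]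
    haveI : (W.map (QuotientGroup.mk' (Cfsg.pPrimeCore p X))).Normal :=
      Subgroup.Normal.map inferInstance _ (QuotientGroup.mk'_surjective _)
    refine HallCore.le_pCore ?_
    rintro ⟨_, _, ⟨x, hx, rfl⟩, rfl⟩
    obtain ⟨k, hk⟩ := HallCore.isPGroup_pCore p _ ⟨_, mem_comap.1 hx⟩
    refine ⟨k, Subtype.ext ?_⟩
    show QuotientGroup.mk' (Cfsg.pPrimeCore p X) (N.subtype x) ^ p ^ k = 1
    rw [← map_pow, ← map_pow]
    exact (QuotientGroup.eq_one_iff _).2 (hO ⟨_, (QuotientGroup.eq_one_iff _).1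
      (by simpa using congrArg Subtype.val hk), rfl⟩)
  refine PLengthSteps.pLengthLE_one (Nat.Coprime.coprime_dvd_left (index_dvd_of_le hWle) ?_)
  rw [← relIndex_mul_index (map_subtype_le (Cfsg.pPrimePCore p N)), relIndex,
    BGSigma.subgroupOf_map_subtype_self N]
  exact Nat.Coprime.mul_left (PLengthOne.index_coprime h) hN

set_option maxHeartbeats 400000 in
/-- Let G be a minimal simple group of odd order. Then for every prime p and every proper subgroup H of G, H = O_{p',p,p'}(H). -/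
theorem result {G : Type*} [Group G] [Finite G] (hG : Cfsg.IsMinSimpleOddOrder G) (p : ℕ) [Fact p.Prime] (H : Subgroup G) (hH : H ≠ ⊤) :
    Cfsg.PLengthLE p 1 H := by
  have hp : p.Prime := Fact.out
  obtain ⟨M, hM, hHM⟩ := BGUnique.exists_coatom_ge hH
  suffices hs : Cfsg.PLengthLE p 1 M by
    have := HallPLength.pLengthLE_subgroup hs (H.subgroupOf M)
    exact HallPLength.pLengthLE_of_surjective (f := (subgroupOfEquivOfLe hHM).toMonoidHom)
      (subgroupOfEquivOfLe hHM).surjective this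
  haveI := BGUnique.isSolvable_of_ne_top hG hM.1
  have hodd := BGUnique.odd_card_subgroup hG M
  by_cases hpM : p ∣ Nat.card M
  swap
  · refine PLengthSteps.pLengthLE_one ?_
    exact (hp.coprime_iff_not_dvd.2 fun hd => hpM (hd.trans (index_dvd_card _))).symm
  have hp2 : p ≠ 2 := by
    rintro rfl
    exact Nat.not_even_iff_odd.2 hodd (even_iff_two_dvd.2 hpM)
  by_cases hr : Cfsg.PRankLE p 2 M
  · exact BGRankTwo.pLengthLE_one hp2 hodd hr
  set α := Cfsg.alpha M with hα
  have hpα : p ∈ α := ⟨hp, hr⟩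
  set A := Cfsg.piCore α M with hA
  haveI : A.Normal := Cfsg.piCore_normal _ _
  obtain ⟨⟨-, hAc, hAi⟩, -⟩ := BGSigma.hall_alpha hG hM
  have hAc' : ∀ q : ℕ, q.Prime → q ∣ Nat.card A → q ∈ α := fun q hq hd =>
    hAc q hq (by rw [Cfsg.alphaCore, card_map_of_injective M.subtype_injective]; exact hd)
  have hAi' : ∀ q : ℕ, q.Prime → q ∈ α → ¬ q ∣ A.index := fun q hq hqα => by
    have := hAi q hq hqα
    rwa [Cfsg.alphaCore, relIndex, BGSigma.subgroupOf_map_subtype_self] at this
  have hAcop : (Nat.card A).Coprime A.index := Nat.coprime_of_dvd fun q hq h1 h2 =>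
    hAi' q hq (hAc' q hq h1) h2
  refine pLengthLE_of_normal (N := A) (hp.coprime_iff_not_dvd.2 (hAi' p hp hpα)).symm ?_
  have hAne : Cfsg.alphaCore M ≠ ⊥ := by
    intro h0
    have := hAi' p hp hpα
    rw [Cfsg.alphaCore, map_eq_bot_iff_of_injective _ M.subtype_injective] at h0
    rw [hA, h0, index_bot] at this
    exact this hpM
  -- a prime outside `σ(M)`
  haveI : Nontrivial M := (nontrivial_iff_ne_bot M).2 (BGSigma.coatom_ne_bot hG hM)
  have hlt : commutator M < ⊤ := Group.IsSolvable.commutator_lt_top_of_nontrivial M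
  obtain ⟨q, hq, hqM, hqσ⟩ : ∃ q : ℕ, q.Prime ∧ q ∣ Nat.card M ∧ q ∉ Cfsg.sigma M := by
    by_contra hall
    push Not at hall
    refine hlt.not_ge ?_
    have hσ : Cfsg.piCore (Cfsg.sigma M) M = ⊤ := top_le_iff.1 (HallCore.le_piCore fun q hq hd =>
      hall q hq (by rwa [card_top] at hd))
    intro x _
    have h1 := BGSigma.sigmaCore_le_commutator hG hM (show (x : G) ∈ Cfsg.sigmaCore M from
      ⟨x, hσ ▸ mem_top x, rfl⟩)
    rw [← map_subtype_commutator] at h1
    obtain ⟨y, hy, hyx⟩ := h1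
    exact Subtype.ext hyx ▸ hy
  haveI := Fact.mk hq
  have hqA : ¬ q ∣ Nat.card A := fun hd => hqσ (BGSigma.alpha_subset hG hM (hAc' q hq hd))
  obtain ⟨E, hE⟩ := exists_right_complement'_of_coprime hAcop
  obtain ⟨S⟩ : Nonempty (Sylow q E) := inferInstance
  obtain ⟨T, hT⟩ := (S.isPGroup'.map E.subtype).exists_le_sylow
  have hTE : (T : Subgroup M) ≤ E := by
    have hSc : Nat.card (T : Subgroup M) ≤ Nat.card ((S : Subgroup E).map E.subtype) := by
      rw [card_map_of_injective E.subtype_injective, S.card_eq_multiplicity, T.card_eq_multiplicity]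
      refine le_of_eq (congrArg _ ?_)
      rw [← hE.card_mul, Nat.factorization_mul Nat.card_pos.ne' Nat.card_pos.ne']
      simp [Nat.factorization_eq_zero_of_not_dvd hqA]
    rw [← eq_of_le_of_card_ge hT hSc]
    exact map_subtype_le _
  obtain ⟨x, hx, hxo, hxZ, -⟩ := Cfsg.Agent.S1407.result hG M hM hAne q hqM hqσ T
  obtain ⟨x', ⟨x'', -, hx''⟩, rfl⟩ := hx
  have hx'E : x' ∈ E := hTE (hx'' ▸ x''.2)
  rw [coe_subtype, Subgroup.orderOf_coe] at hxo
  have hZ : IsZGroup ↥(A ⊓ centralizer ((zpowers x' : Subgroup M) : Set M)) := by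
    let f : ↥(A ⊓ centralizer ((zpowers x' : Subgroup M) : Set M)) →*
        ↥(Cfsg.alphaCore M ⊓ centralizer ({(x' : G)} : Set G)) :=
      (M.subtype.comp (Subgroup.subtype _)).codRestrict _ fun w => ⟨⟨(w : M), w.2.1, rfl⟩,
        mem_centralizer_singleton_iff.2
          (congrArg Subtype.val ((mem_centralizer_iff.1 w.2.2) x' (mem_zpowers x'))).symm⟩
    have hxZ' : IsZGroup ↥(Cfsg.alphaCore M ⊓ centralizer ({(x' : G)} : Set G)) := hxZ
    haveI := hxZ'
    refine IsZGroup.of_injective (f := f) fun a b hab => Subtype.ext (Subtype.ext ?_)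
    have := congrArg Subtype.val hab
    exact this
  have h := Cfsg.Agent.S1444.result hodd A E (zpowers x') hAcop hE (zpowers_le.2 hx'E)
    (by rw [Nat.card_zpowers, hxo]; exact hq) hZ p
  suffices heq : ⁅A, E⁆ = A by rwa [heq] at h
  -- `[A, E] = A`
  set K := ⁅A, E⁆ with hK
  have hKA : K ≤ A := commutator_le_left A E
  have hnA : A ≤ normalizer (K : Set M) := by rw [hK, commutator_comm]; exact PGroupsUniserial.le_normalizer_commutator E A
  have hnE : E ≤ normalizer (K : Set M) := PGroupsUniserial.le_normalizer_commutator A E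
  haveI : K.Normal := normalizer_eq_top_iff.1
    (top_le_iff.1 (hE.sup_eq_top ▸ sup_le hnA hnE))
  have hAder : A ≤ commutator M := by
    intro a ha
    have h1 := BGSigma.sigmaCore_le_commutator hG hM (BGSigma.alphaCore_le_sigmaCore hG hM
      (show (a : G) ∈ Cfsg.alphaCore M from ⟨a, ha, rfl⟩))
    rw [← map_subtype_commutator] at h1
    obtain ⟨y, hy, hyx⟩ := h1
    exact Subtype.ext hyx ▸ hy
  set π := QuotientGroup.mk' K with hπ
  set Ab := A.map π with hAb
  set Eb := E.map π with hEb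
  have htop : Ab ⊔ Eb = ⊤ := by
    rw [← Subgroup.map_sup, hE.sup_eq_top, ← MonoidHom.range_eq_map,
      MonoidHom.range_eq_top.2 (QuotientGroup.mk'_surjective K)]
  have hcomm : ⁅Ab, Eb⁆ = ⊥ := by rw [← map_commutator, hπ, ← hK, QuotientGroup.map_mk'_self]
  haveI : Ab.Normal := Subgroup.Normal.map inferInstance _ (QuotientGroup.mk'_surjective _)
  have hdisj : Ab ⊓ Eb = ⊥ := by
    have hEc : Nat.card E = A.index := hE.symm.index_eq_card.symm
    refine inf_eq_bot_of_coprime ?_
    refine Nat.Coprime.coprime_dvd_left (show Nat.card Ab ∣ Nat.card A from card_map_dvd _ _) ?_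
    refine Nat.Coprime.coprime_dvd_right (show Nat.card Eb ∣ Nat.card E from card_map_dvd _ _) ?_
    rw [hEc]; exact hAcop
  have hder : commutator (M ⧸ K) ≤ ⁅Ab, Ab⁆ ⊔ ⁅Eb, Eb⁆ := by
    rw [_root_.commutator_def, ← htop, commutator_le]
    intro u hu v hv
    obtain ⟨a, ha, e, he, rfl⟩ := mem_sup_of_normal_left.1 hu
    obtain ⟨a', ha', e', he', rfl⟩ := mem_sup_of_normal_left.1 hv
    have hc : ∀ b ∈ Ab, ∀ f ∈ Eb, Commute b f := fun b hb f hf =>
      commutatorElement_eq_one_iff_commute.1 (mem_bot.1 (hcomm ▸ commutator_mem_commutator hb hf))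
    have e1 : ⁅a * e, a' * e'⁆ = ⁅a, a'⁆ * ⁅e, e'⁆ := by
      simp only [commutatorElement_def]
      have c1 := (hc a' ha' e he).eq
      have c2 := (hc a ha e' he').eq
      have c3 := (hc a⁻¹ (inv_mem ha) e' he').eq
      have c4 := (hc a'⁻¹ (inv_mem ha') e he).eq
      have c5 := (hc a'⁻¹ (inv_mem ha') e⁻¹ (inv_mem he)).eq
      have c6 := (hc a⁻¹ (inv_mem ha) e⁻¹ (inv_mem he)).eq
      calc a * e * (a' * e') * (a * e)⁻¹ * (a' * e')⁻¹
          = a * (e * a') * e' * e⁻¹ * a⁻¹ * e'⁻¹ * a'⁻¹ := by group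
        _ = a * a' * (e * e' * e⁻¹) * (a⁻¹ * e'⁻¹) * a'⁻¹ := by rw [← c1]; group
        _ = a * a' * ((e * e' * e⁻¹ * e'⁻¹) * (a⁻¹ * a'⁻¹)) := by
            rw [(hc a⁻¹ (inv_mem ha) e'⁻¹ (inv_mem he')).eq]; group
        _ = a * a' * ((a⁻¹ * a'⁻¹) * (e * e' * e⁻¹ * e'⁻¹)) := by
            rw [(hc (a⁻¹ * a'⁻¹) (mul_mem (inv_mem ha) (inv_mem ha')) (e * e' * e⁻¹ * e'⁻¹)
              (mul_mem (mul_mem (mul_mem he he') (inv_mem he)) (inv_mem he'))).eq]
        _ = a * a' * a⁻¹ * a'⁻¹ * (e * e' * e⁻¹ * e'⁻¹) := by group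
    rw [e1]
    exact mul_mem_sup (commutator_mem_commutator ha ha') (commutator_mem_commutator he he')
  have hAb' : Ab ≤ ⁅Ab, Ab⁆ := by
    intro a ha
    haveI : (⁅Ab, Ab⁆).Normal := inferInstance
    have h1 : a ∈ commutator (M ⧸ K) := by
      have h2 : (commutator M).map π ≤ commutator (M ⧸ K) := by
        rw [_root_.commutator_def, map_commutator, _root_.commutator_def]
        exact commutator_mono le_top le_top
      obtain ⟨w, hw, rfl⟩ := ha
      exact h2 (mem_map_of_mem π (hAder hw))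
    obtain ⟨u, hu, v, hv, rfl⟩ := mem_sup_of_normal_left.1 (hder h1)
    have hvA : v ∈ Ab := by
      have := mul_mem (inv_mem (commutator_le_left Ab Ab hu)) ha
      simpa using this
    have hvE : v ∈ Eb := (commutator_le.2 fun f hf g hg =>
      mul_mem (mul_mem (mul_mem hf hg) (inv_mem hf)) (inv_mem hg) : ⁅Eb, Eb⁆ ≤ Eb) hv
    have : v ∈ Ab ⊓ Eb := ⟨hvA, hvE⟩
    rw [hdisj, mem_bot] at this
    rw [this, mul_one]
    exact hu
  have hbot : Ab = ⊥ := by
    haveI : Group.IsSolvable (M ⧸ K) := inferInstance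
    haveI : Group.IsSolvable Ab := inferInstance
    by_contra hne
    haveI : Nontrivial Ab := (nontrivial_iff_ne_bot Ab).2 hne
    refine (Group.IsSolvable.commutator_lt_top_of_nontrivial Ab).not_ge fun w _ => ?_
    have h1 := hAb' w.2
    rw [← map_subtype_commutator] at h1
    obtain ⟨y, hy, hyw⟩ := h1
    exact Subtype.ext hyw ▸ hy
  exact le_antisymm hKA (by
    have := (map_eq_bot_iff (f := π) A).1 hbot
    rwa [hπ, QuotientGroup.ker_mk'] at this)

end Cfsg.Agent.S1410
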