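import Cfsg.Statements.S1417
import Cfsg.Agent.S1416
import Cfsg.Agent.Lib.BGExcNormal

set_option autoImplicit false
open Cfsg

namespace Cfsg.Agent.S1417

open Subgroup

theorem exists_exc {G : Type*} [Group G] [Finite G] (hG : Cfsg.IsMinSimpleOddOrder G)
    {M : Subgroup G} (hM : IsCoatom M) {p : ℕ} [Fact p.Prime] (hp : p ∉ Cfsg.sigma M)
    {A : Subgroup G} (hA : A ≤ M ∧ Cfsg.IsElementaryAbelian p A ∧ Nat.card A = p ^ 2) :
    ∃ A₀ : Subgroup G, BGExc.IsExc p M A A₀ := by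
  by_contra hno
  push Not at hno
  exact hp ((Cfsg.Agent.S1416.result hG M hM p A hA).2 fun X hXA hXc hc =>
    hno X ⟨hM, hp, hA.1, hA.2.1, hA.2.2, hXA, hXc, hc.1⟩).1

/-- Let G be a minimal simple group of odd order, M a maximal subgroup, p ∈ τ₂(M) and A ≤ M elementary abelian of order p ^ 2. Then (a) M_σ is nilpotent; (b) every Sylow p-subgroup P of M is abelian, and if A ≤ P then the elements of P of order dividing p are exactly those of A and N_G(P) is not contained in M; (c) M normalizes M_σA; (d) M_σ ∩ C_G(A) = 1; (e) M_σ ∩ M* = 1 for every maximal subgroup M* ≠ M containing A; (f) M_σ ∩ C_G(A₁) = 1 for some subgroup A₁ ≤ A of order p. -/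
theorem result {G : Type*} [Group G] [Finite G] (hG : Cfsg.IsMinSimpleOddOrder G)
    (M : Subgroup G) (hM : IsCoatom M) (p : ℕ) [Fact p.Prime] (hp : p ∈ Cfsg.tau2 M) (A : Subgroup G) (hA : (A ≤ M ∧ Cfsg.IsElementaryAbelian p A ∧ Nat.card A = p ^ 2)) :
    Group.IsNilpotent (Cfsg.sigmaCore M) ∧
      (∀ P : Sylow p M, IsMulCommutative (P : Subgroup M) ∧
        (A ≤ (P : Subgroup M).map M.subtype →
          (∀ x ∈ (P : Subgroup M).map M.subtype, x ^ p = 1 ↔ x ∈ A) ∧
          ¬ Subgroup.normalizer ((((P : Subgroup M).map M.subtype : Subgroup G)) : Set G) ≤ M)) ∧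
      M ≤ Subgroup.normalizer ((Cfsg.sigmaCore M ⊔ A : Subgroup G) : Set G) ∧
      Cfsg.sigmaCore M ⊓ Subgroup.centralizer (A : Set G) = ⊥ ∧
      (∀ Mstar : Subgroup G, IsCoatom Mstar → Mstar ≠ M → A ≤ Mstar → Cfsg.sigmaCore M ⊓ Mstar = ⊥) ∧
      ∃ A₁ : Subgroup G, A₁ ≤ A ∧ Nat.card A₁ = p ∧ Cfsg.sigmaCore M ⊓ Subgroup.centralizer (A₁ : Set G) = ⊥ := by
  obtain ⟨A₀, h⟩ := exists_exc hG hM hp.2.1 hA
  refine ⟨BGExc.IsExc.nilpotent hG h, fun P => ?_, BGExc.IsExc.le_normalizer_sup hG h,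
    BGExc.IsExc.inf_centralizer hG h, ?_, ?_⟩
  · have hP := BGUnique.isMaxP_sylow M P
    have hc := BGExc.IsExc.isMulCommutative_maxP hG h hP
    refine ⟨PGroupsBasic.isMulCommutative_of_forall fun x hx y hy => Subtype.ext
      (PGroupsBasic.comm_of_isMulCommutative hc (mem_map_of_mem M.subtype hx)
        (mem_map_of_mem M.subtype hy)), fun hAP => ⟨fun x hx => ⟨fun hxp =>
      BGExc.IsExc.mem_of_pow_eq_one hG h hP.isPGroup hP.le hAP hx hxp, fun hxA => hA.2.1.2 x hxA⟩, ?_⟩⟩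
    exact BGExc.not_normalizer_le_maxP hp.2.1 hP (BGExc.dvd_card_of_sq hA.1 hA.2.2)
  · intro H hH hne hAH
    by_contra hX
    set X := Cfsg.sigmaCore M ⊓ H with hXdef
    have hXM : X ≤ Cfsg.sigmaCore M := inf_le_left
    have hAX : A ≤ normalizer (X : Set G) := CoprimeAction.le_normalizer_inf
      (hA.1.trans (BGExc.le_normalizer_sigmaCore M)) (hAH.trans le_normalizer)
    obtain ⟨q, hq, hd⟩ := Nat.exists_prime_and_dvd (fun h0 => hX (eq_bot_of_card_eq _ h0))
    haveI := Fact.mk hq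
    have hqM := BGExc.sigma_of_dvd hG hM hq (hd.trans (card_dvd_of_le hXM))
    by_cases hqH : q ∈ Cfsg.sigma H
    · exact hX (BGExc.IsExc.inf_eq_bot_of_share hG h hH hAH hne hqM hqH)
    have hAp := BGExc.IsExc.isPGroup h
    have hcop := (BGExc.coprime_sigmaCore hG hM (Fact.out : p.Prime) hp.2.1 hAp).coprime_dvd_right
      (card_dvd_of_le hXM)
    have hsA : Group.IsSolvable A := CoprimeAction.isSolvable_of_isPGroup hAp
    obtain ⟨S, hAS⟩ := CoprimeAction.exists_invariant_sylow hAX hcop (Or.inl hsA) q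
    set Z := (S : Subgroup X).map X.subtype with hZdef
    have hZX : Z ≤ X := map_subtype_le _
    have hcopZ := hcop.coprime_dvd_right (card_dvd_of_le hZX)
    have hZc : ⁅Z, A⁆ = Z := CoprimeTools.commutator_eq_self hAS hcopZ (Or.inl hsA) (le_bot_iff.1
      (BGExc.IsExc.inf_centralizer hG h ▸ inf_le_inf_right _ (hZX.trans hXM)))
    have hZne : Z ≠ ⊥ := fun h0 => S.ne_bot_of_dvd_card hd
      ((map_eq_bot_iff_of_injective _ X.subtype_injective).1 h0)
    have hZp : IsPGroup q Z := S.isPGroup'.map _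
    have hσ : ⁅Z, A⁆ ≤ Cfsg.sigmaCore H := by
      by_cases hpH : p ∈ Cfsg.sigma H
      · refine (commutator_mono (hZX.trans inf_le_right)
          (BGExc.pgroup_le_sigmaCore hG hH hpH hAp hAH)).trans ?_
        rw [← le_normalizer_iff_commutator_le_right]
        exact BGExc.le_normalizer_sigmaCore H
      · obtain ⟨B, hB⟩ := exists_exc hG hH hpH ⟨hAH, hA.2.1, hA.2.2⟩
        exact BGExc.IsExc.commutator_le_sigmaCore hG hB hq (fun he => hp.2.1 (he ▸ hqM)) hZp
          (hZX.trans inf_le_right) hAS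
    rw [hZc] at hσ
    exact hqH (BGExc.sigma_of_dvd hG hH hq
      ((BGUnique.dvd_card_of_ne_bot hZp hZne).trans (card_dvd_of_le hσ)))
  · obtain ⟨A₁, A₂, h1, -, hc, -, -, hf, -⟩ := BGExc.IsExc.exists_fpf_pair hG h
    exact ⟨A₁, h1, hc, hf⟩

end Cfsg.Agent.S1417
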