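import Cfsg.Statements.S0161
import Cfsg.Agent.Lib.CharBasicInt
import Cfsg.Agent.Lib.CharBasicDecomp

set_option autoImplicit false
open Cfsg

namespace Cfsg.Agent.S0161

open Cfsg.Agent.CharBasic Cfsg.Agent.CharBasicOrth Cfsg.Agent.CharBasicDecomp
open scoped ComplexConjugate

theorem real_eq_one {G : Type*} [Group G] [Fintype G] (hodd : Odd (Nat.card G)) {χ : G → ℂ}
    (hχ : Cfsg.IsIrrCharacter G χ) (hreal : ∀ g, χ g⁻¹ = χ g) : χ = fun _ => 1 := by
  classical
  by_contra hne
  have h0 : ∑ g, χ g = 0 := by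
    have h := card_mul_classInner χ (fun _ => 1)
    rw [classInner_irr_ne hχ isIrrCharacter_one hne, mul_zero] at h
    simpa using h.symm
  let e := Fintype.equivFin G
  have hsq : ∀ g : G, g ≠ 1 → g⁻¹ ≠ g := by
    intro g hg h
    have h2 : g ^ 2 = 1 := by
      rw [sq]; nth_rewrite 1 [← h]; rw [inv_mul_cancel]
    have hd : orderOf g ∣ 2 := orderOf_dvd_of_pow_eq_one h2
    rcases (Nat.dvd_prime Nat.prime_two).1 hd with h3 | h3
    · exact hg (orderOf_eq_one_iff.1 h3)
    · exact hodd.not_two_dvd_nat (h3 ▸ orderOf_dvd_natCard g)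
  let S := Finset.univ.filter fun g : G => e g < e g⁻¹
  have hsplit : (Finset.univ : Finset G) = {1} ∪ (S ∪ S.image (·⁻¹)) := by
    ext g
    simp only [Finset.mem_univ, Finset.mem_union, Finset.mem_singleton, Finset.mem_image, true_iff]
    rcases eq_or_ne g 1 with h | h
    · exact Or.inl h
    rcases lt_trichotomy (e g) (e g⁻¹) with h' | h' | h'
    · exact Or.inr (Or.inl (by simp [S, h']))
    · exact absurd (e.injective h') (hsq g h).symm
    · exact Or.inr (Or.inr ⟨g⁻¹, by simp [S, h'], inv_inv g⟩)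
  have hd1 : Disjoint ({1} : Finset G) (S ∪ S.image (·⁻¹)) := by
    rw [Finset.disjoint_singleton_left]
    simp [S]
  have hd2 : Disjoint S (S.image (·⁻¹)) := by
    rw [Finset.disjoint_left]
    rintro g hg hg'
    obtain ⟨x, hx, rfl⟩ := Finset.mem_image.1 hg'
    simp only [S, Finset.mem_filter, inv_inv] at hx hg
    exact absurd hx.2 (not_lt.2 hg.2.le)
  rw [hsplit, Finset.sum_union hd1, Finset.sum_singleton, Finset.sum_union hd2,
    Finset.sum_image inv_injective.injOn] at h0
  simp only [hreal] at h0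
  obtain ⟨n, -, hn, hdvd⟩ := CharBasicInt.exists_apply_one_dvd_card hχ
  have hint : IsIntegral ℤ ((n : ℂ) / (2 : ℕ)) := by
    have h2 : (n : ℂ) / (2 : ℕ) = -(∑ g ∈ S, χ g) := by
      rw [← hn]; push_cast; linear_combination h0 / 2
    rw [h2]
    exact (IsIntegral.sum _ fun g _ =>
      isCharacter_integral (isCharacter_of_isIrrCharacter hχ) g).neg
  exact hodd.not_two_dvd_nat ((CharBasicInt.dvd_of_isIntegral_div two_ne_zero hint).trans hdvd)


/-- In a finite group of odd order, a real-valued irreducible complex character is the trivial character. -/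
theorem result {G : Type*} [Group G] [Finite G] (hodd : Odd (Nat.card G)) (χ : Cfsg.IrrCharacter G) (hreal : ∀ g : G, ((χ : G → ℂ) g).im = 0) : (χ : G → ℂ) = fun _ => 1 := by
  have := Fintype.ofFinite G
  refine real_eq_one hodd χ.2 fun g => ?_
  rw [isCharacter_inv (isCharacter_of_isIrrCharacter χ.2)]
  exact Complex.conj_eq_iff_im.2 (hreal g)

end Cfsg.Agent.S0161
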