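import Cfsg.Statements.S1518
import Cfsg.Agent.Lib.DadeGenChar
import Cfsg.Agent.Lib.CoherenceBasic

set_option autoImplicit false
open Cfsg Cfsg.Agent.CharBasic Cfsg.Agent.CharBasicOrth Cfsg.Agent.CharBasicDecomp

namespace Cfsg.Agent.S1518

/-- Under the Dade hypothesis for (A, L, H): if χ is an irreducible character of L vanishing at every non-identity element of L outside A, then the Dade image of χ − conj χ equals μ − conj μ for some irreducible character μ of G. -/
theorem result {G : Type*} [Group G] [Fintype G] (A : Set G) (L : Subgroup G) [Fintype L] (H : G → Subgroup G) (hD : Cfsg.DadeHypothesis A L H) (χ : L → ℂ) (hχ : Cfsg.IsIrrCharacter L χ) (hsupp : ∀ x : L, x ≠ 1 → (x : G) ∉ A → χ x = 0) : ∃ μ : G → ℂ, Cfsg.IsIrrCharacter G μ ∧ Cfsg.dadeIsometry A L H (χ - Cfsg.conjFun χ) = μ - Cfsg.conjFun μ := by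
  classical
  have hχ1 := isGeneralizedCharacter_of_isCharacter (isCharacter_of_isIrrCharacter hχ)
  have hχc := CoherenceBasic.conjFun_isIrr hχ
  have hgen := isGeneralizedCharacter_sub hχ1
    (isGeneralizedCharacter_of_isCharacter (isCharacter_of_isIrrCharacter hχc))
  have hsuppA : ∀ x : L, (x : G) ∉ A → (χ - Cfsg.conjFun χ) x = 0 := by
    intro x hx
    by_cases h1 : x = 1
    · subst h1
      rw [Pi.sub_apply, CoherenceBasic.conjFun_apply_one (isCharacter_of_isIrrCharacter hχ),
        sub_self]
    · simp [Cfsg.conjFun, hsupp x h1 hx]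
  by_cases hreal : χ = Cfsg.conjFun χ
  · refine ⟨fun _ => 1, isIrrCharacter_one, ?_⟩
    funext g
    rw [← hreal, sub_self]
    have : Cfsg.conjFun (fun _ : G => (1 : ℂ)) = fun _ : G => (1 : ℂ) := by funext g; simp [Cfsg.conjFun]
    rw [this, sub_self]
    unfold Cfsg.dadeIsometry
    split_ifs <;> rfl
  have hcl := isClassFunction_of_isGeneralizedCharacter hgen
  set θ := Cfsg.dadeIsometry A L H (χ - Cfsg.conjFun χ) with hθ
  have hθgen : Cfsg.IsGeneralizedCharacter G θ := DadeGenChar.dade_gen hD hgen hsuppA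
  have hn : Cfsg.classInner θ θ = 2 := by
    rw [hθ, DadeMap.inner_dade_dade hD hcl hsuppA hcl]
    simp only [classInner_sub_left, classInner_sub_right, classInner_irr_self hχ, classInner_irr_self hχc,
      classInner_irr_ne hχ hχc hreal, classInner_irr_ne hχc hχ (Ne.symm hreal)]
    ring
  obtain ⟨a, b, ha, hb, hab, e⟩ := CoherenceBasic.si_sum_of_norm_two hθgen hn
  have hconj : Cfsg.conjFun θ = -θ := by
    funext g
    simp only [hθ, Cfsg.conjFun, Cfsg.dadeIsometry, Pi.neg_apply]
    split_ifs with h
    · simp [Cfsg.conjFun]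
    · simp
  have h0 : θ 1 = 0 := by
    refine DadeMap.dade_eq_zero fun ⟨c, hc, x, u, hu, hxu⟩ => ?_
    rw [mul_one, mul_inv_cancel] at hxu
    refine hD.one_not_mem ?_
    have hc1 : (c : G) = 1 := by
      have hcu : (c : G) = u⁻¹ := eq_inv_of_mul_eq_one_left hxu.symm
      refine DadeMap.eq_one_of_mem_H_of_mem hD hc ?_ c.2
      have := inv_mem hu
      convert this using 1
    exact hc1 ▸ hc
  have hca : CoherenceBasic.SignedIrr (Cfsg.conjFun a) := by
    rcases ha with h | h
    · exact Or.inl (CoherenceBasic.conjFun_isIrr h)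
    · refine Or.inr ?_
      have := CoherenceBasic.conjFun_isIrr h
      rwa [show Cfsg.conjFun (-a) = -Cfsg.conjFun a by funext g; simp [Cfsg.conjFun]] at this
  have hA : Cfsg.classInner (Cfsg.conjFun a) (Cfsg.conjFun θ) = 1 := by
    rw [CoherenceBasic.classInner_conjFun, e, classInner_add_right, CoherenceBasic.si_self ha, hab]
    simp
  rw [hconj, e, neg_add, classInner_add_right, classInner_neg_right, classInner_neg_right] at hA
  have hreal' : ∀ s : G → ℂ, CoherenceBasic.SignedIrr s → Cfsg.conjFun s 1 = s 1 := by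
    rintro s (h | h)
    · exact CoherenceBasic.conjFun_apply_one (isCharacter_of_isIrrCharacter h)
    · have := CoherenceBasic.conjFun_apply_one (isCharacter_of_isIrrCharacter h)
      simpa [Cfsg.conjFun] using this
  rcases CoherenceBasic.si_cases hca ha with h1 | ⟨ε, hε, hae, hin⟩
  · rcases CoherenceBasic.si_cases hca hb with h2 | ⟨ε, hε, hbe, hin⟩
    · rw [h1, h2] at hA; norm_num at hA
    · rw [h1, hin] at hA
      have hε1 : (ε : ℂ) = -1 := by linear_combination -hA
      rw [hε1, neg_one_smul] at hbe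
      rcases ha with h | h
      · exact ⟨a, h, by rw [e, hbe]; abel⟩
      · refine ⟨Cfsg.conjFun (-a), CoherenceBasic.conjFun_isIrr h, ?_⟩
        rw [CoherenceBasic.conjFun_conjFun, e, hbe]
        funext g; simp [Cfsg.conjFun]; ring
  · exfalso
    rcases hε with rfl | rfl
    · rcases CoherenceBasic.si_cases hca hb with h2 | ⟨δ, hδ, hbe, hin'⟩
      · rw [hin, h2] at hA; norm_num at hA
      · simp only [Complex.ofReal_one, one_smul] at hae
        rw [← hae] at hbe
        rw [hbe, classInner_smul_right, CoherenceBasic.si_self ha] at hab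
        rcases hδ with rfl | rfl <;> norm_num at hab
    · have h1 := congrFun hae 1
      simp only [Pi.smul_apply, smul_eq_mul, hreal' a ha] at h1
      exact CoherenceBasic.si_apply_one_ne_zero ha (by push_cast at h1; linear_combination h1 / 2)

end Cfsg.Agent.S1518
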