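import Cfsg.Statements.S0123
import Cfsg.Agent.Lib.ClassThreePow
-- import your own Cfsg.Agent.* helpers here

set_option autoImplicit false
open Cfsg

namespace Cfsg.Agent.S0123

open scoped commutatorElement

/-- For a p-group of small class relative to p (class ≤ 2 with p odd, or class ≤ 3 with p > 3) whose derived subgroup is generated by elements of order dividing p, the p-th power map is multiplicative. -/
theorem result {R : Type*} [Group R] [Finite R] {p : ℕ} [Fact p.Prime] (hR : IsPGroup p R) (hcl : (p ≠ 2 ∧ ⁅commutator R, (⊤ : Subgroup R)⁆ = ⊥) ∨ (3 < p ∧ ⁅⁅commutator R, (⊤ : Subgroup R)⁆, (⊤ : Subgroup R)⁆ = ⊥)) (hder : commutator R ≤ Subgroup.closure {x : R | x ^ p = 1}) (x y : R) : (x * y) ^ p = x ^ p * y ^ p := by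
  have _ := hR
  rcases hcl with ⟨hp2, hcl⟩ | ⟨hp3, hcl⟩
  · have hm : ⁅y, x⁆ ∈ commutator R :=
      Subgroup.commutator_mem_commutator (Subgroup.mem_top _) (Subgroup.mem_top _)
    exact ClassTwoPow.mul_pow_prime_central Fact.out hp2
      (ClassTwoPow.commutatorElement_mem_center hcl y x)
      (ClassTwoPow.pow_eq_one_of_mem_closure hp2 hcl (hder hm))
  · have hexp : ∀ a b : R, ⁅a, b⁆ ^ p = 1 := fun a b =>
      ClassThreePow.pow_eq_one_of_mem_closure hp3 hcl
        (hder (Subgroup.commutator_mem_commutator (Subgroup.mem_top a) (Subgroup.mem_top b)))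
    exact ClassThreePow.mul_pow_prime Fact.out hp3 (ClassThreePow.triple_mem_center hcl y x y)
      (ClassThreePow.triple_mem_center hcl y x x) (hexp _ _) (hexp _ _) (hexp _ _)
end Cfsg.Agent.S0123
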