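import Cfsg.Statements.S0640
import Cfsg.Agent.Lib.PGroupsCritical
import Cfsg.Agent.Lib.OmegaCoprime
import Cfsg.Agent.Lib.CoprimeActionAut

set_option autoImplicit false
open Cfsg

namespace Cfsg.Agent.S0640

open Subgroup Cfsg.Agent.PGroupsBasic
open scoped commutatorElement

variable {R : Type*} [Group R] [Finite R] {p : ℕ} [hp : Fact p.Prime]

/-- An automorphism of prime order `q ≠ p` of a group of order `p` or `p ^ 2`. -/
theorem dvd_of_small {Q : Type*} [Group Q] [Finite Q] {a q : ℕ} [Fact q.Prime] (hQ : Nat.card Q = p ^ a)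
    (ha : a ≤ 2) (hqp : q ≠ p) (ψ : MulAut Q) (hψq : ψ ^ q = 1) (hψ : ψ ≠ 1) : q ∣ p ^ 2 - 1 := by
  have ho : orderOf ψ = q := orderOf_eq_prime hψq hψ
  have hP : IsPGroup q (zpowers ψ) := IsPGroup.of_card (n := 1) (by rw [Nat.card_zpowers, ho, pow_one])
  set F : Subgroup Q := MonoidHom.eqLocus ψ.toMonoidHom (MonoidHom.id Q) with hF
  have hfix : ∀ x : Q, x ∈ MulAction.fixedPoints (zpowers ψ) Q ↔ x ∈ F := by
    intro x
    constructor
    · exact fun h => h ⟨ψ, mem_zpowers ψ⟩
    · rintro (h : ψ x = x) ⟨g, hg⟩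
      obtain ⟨k, rfl⟩ := mem_zpowers_iff.mp hg
      show (ψ ^ k) x = x
      exact (MulAction.mem_stabilizer_iff (G := MulAut Q)).mp
        (zpow_mem (show ψ ∈ MulAction.stabilizer (MulAut Q) x from h) k)
  have h1 := hP.card_modEq_card_fixedPoints Q
  rw [Nat.card_congr (Equiv.subtypeEquivRight hfix : _ ≃ F), hQ] at h1
  obtain ⟨b, hb, hb'⟩ := (Nat.dvd_prime_pow hp.out).mp (hQ ▸ card_subgroup_dvd_card F)
  have hne : F ≠ ⊤ := fun h => hψ (MulEquiv.ext fun x => (h ▸ mem_top x : x ∈ F))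
  have hba : b < a := lt_of_le_of_ne hb fun h => hne (eq_top_of_card_eq F (by rw [hb', h, hQ]))
  rw [hb'] at h1
  have h2 : q ∣ p ^ (a - b) - 1 := by
    have h3 : p ^ b * 1 ≡ p ^ b * p ^ (a - b) [MOD q] := by
      rw [mul_one, ← pow_add, Nat.add_sub_of_le hba.le]
      exact h1.symm
    have hcop : Nat.Coprime q (p ^ b) :=
      ((Nat.coprime_primes Fact.out hp.out).mpr hqp).pow_right b
    exact (Nat.modEq_iff_dvd' (Nat.one_le_pow _ _ hp.out.pos)).mp
      (Nat.ModEq.cancel_left_of_coprime (by rwa [Nat.coprime_iff_gcd_eq_one] at hcop) h3)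
  rcases (show a - b = 1 ∨ a - b = 2 by omega) with h | h <;> rw [h] at h2
  · rw [pow_one] at h2
    exact h2.trans ⟨p + 1, by simpa [mul_comm] using Nat.sq_sub_sq p 1⟩
  · exact h2

/-- A `p`-group of exponent `p`, class two and rank at most two has `|G : Φ(G)| ≤ p ^ 2`. -/
theorem index_frattini_le {E : Type*} [Group E] [Finite E] (hE : IsPGroup p E)
       (hrk : ∀ A : Subgroup E, IsMulCommutative A → Nat.card A ≤ p ^ 2) :
    ∃ a ≤ 2, Nat.card (E ⧸ frattini E) = p ^ a := by
  obtain ⟨A, hA⟩ := Set.Finite.exists_maximal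
    (Set.toFinite {A : Subgroup E | A.Normal ∧ IsMulCommutative A}) ⟨⊥, inferInstance, inferInstance⟩
  obtain ⟨hAn, hAc⟩ := hA.prop
  haveI := hAn
  have hC := Cfsg.Agent.PGroupsCritical.centralizer_eq_of_maximal hE A hAc
    (fun B hB hBc hle => le_antisymm (hA.2 ⟨hB, hBc⟩ hle) hle)
  obtain ⟨a, ha⟩ := IsPGroup.iff_card.mp (hE.to_subgroup A)
  have ha2 : a ≤ 2 := (Nat.pow_le_pow_iff_right hp.out.one_lt).mp (ha ▸ hrk A hAc)
  have hi := Cfsg.Agent.PGroupsCritical.index_centralizer_le hE a A hAn hAc ha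
  rw [hC] at hi
  have hs : ∑ i ∈ Finset.range a, i ≤ 1 := by interval_cases a <;> decide
  obtain ⟨c, hc⟩ := IsPGroup.iff_card.mp hE
  have hc3 : c ≤ 3 := by
    refine (Nat.pow_le_pow_iff_right hp.out.one_lt).mp ?_
    rw [← hc, ← card_mul_index A, ha]
    calc p ^ a * A.index ≤ p ^ 2 * p ^ 1 := Nat.mul_le_mul (Nat.pow_le_pow_right hp.out.pos ha2)
          (hi.trans (Nat.pow_le_pow_right hp.out.pos hs))
      _ = p ^ 3 := by rw [← pow_add]
  obtain ⟨d, hd⟩ := IsPGroup.iff_card.mp (hE.to_quotient (frattini E))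
  refine ⟨d, ?_, hd⟩
  by_contra hd2
  have h4 := card_mul_index (frattini E)
  rw [index_eq_card, hd, hc] at h4
  obtain ⟨e, he⟩ := IsPGroup.iff_card.mp (hE.to_subgroup (frattini E))
  rw [he, ← pow_add] at h4
  have h5 := Nat.pow_right_injective hp.out.two_le h4
  have h6 : frattini E = ⊥ := eq_bot_of_card_eq _ (by rw [he, show e = 0 by omega, pow_zero])
  have := hrk ⊤ (isMulCommutative_of_forall fun x _ y _ => commute_of_frattini_eq_bot hE h6 x y)
  rw [card_top, hc] at this
  have := (Nat.pow_le_pow_iff_right hp.out.one_lt).mp this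
  omega

/-- For odd p, a prime q ≠ p dividing the order of the automorphism group of a p-group of rank at most 2 divides p² - 1 and is less than p. -/
theorem result {R : Type*} [Group R] [Finite R] {p : ℕ} [Fact p.Prime] (hp : p ≠ 2) (hR : IsPGroup p R) (hrk : Cfsg.PRankLE p 2 R) (q : ℕ) (hq : q.Prime) (hqp : q ≠ p) (hdvd : q ∣ Nat.card (MulAut R)) : q ∣ p ^ 2 - 1 ∧ q < p := by
  haveI := Fact.mk hq
  obtain ⟨φ, hφ⟩ := exists_prime_orderOf_dvd_card' q hdvd
  have hφq : φ ^ q = 1 := hφ ▸ pow_orderOf_eq_one φ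
  suffices hmain : q ∣ p ^ 2 - 1 by
    refine ⟨hmain, ?_⟩
    rw [show p ^ 2 - 1 = (p + 1) * (p - 1) by simpa using Nat.sq_sub_sq p 1] at hmain
    have hp2 := (Fact.out : p.Prime).two_le
    rcases hq.dvd_mul.mp hmain with h | h
    · obtain ⟨c, hc⟩ := h
      have hodd := (Fact.out : p.Prime).odd_of_ne_two hp
      rcases (show c = 0 ∨ c = 1 ∨ 2 ≤ c by omega) with rfl | rfl | hc2
      · omega
      · rw [mul_one] at hc
        rcases hq.eq_two_or_odd' with h2 | h2
        · omega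
        · rw [← hc] at h2
          exact absurd hodd (Nat.not_odd_iff_even.mpr (by simpa [parity_simps] using h2))
      · have : q * 2 ≤ q * c := Nat.mul_le_mul_left q hc2
        omega
    · exact (Nat.le_of_dvd (by omega) h).trans_lt (by omega)
  obtain ⟨C, hCc, hCf, hCcomm, hCC⟩ := Cfsg.Agent.PGroupsCritical.exists_critical hR
  haveI := hCc
  have hmap : ∀ (ψ : MulAut R), ∀ x ∈ C, ψ x ∈ C := fun ψ x hx => (hCc.fixed ψ).ge hx
  have hcop : (orderOf φ).Coprime p := hφ ▸ (Nat.coprime_primes hq (Fact.out)).mpr hqp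
  -- `φ` moves some element of order `p` of `C`
  have hmove : ∃ x ∈ C, x ^ p = 1 ∧ φ x ≠ x := by
    by_contra hno
    push Not at hno
    haveI := Cfsg.Agent.CoprimeActionAut.finite_semidirect (MonoidHom.id (MulAut R))
    let ι : R →* R ⋊[MonoidHom.id (MulAut R)] MulAut R := SemidirectProduct.inl
    let a : R ⋊[MonoidHom.id (MulAut R)] MulAut R := SemidirectProduct.inr φ
    have hconj : ∀ x : R, a * ι x * a⁻¹ = ι (φ x) := fun x => by
      have := (SemidirectProduct.inl_aut (φ := MonoidHom.id (MulAut R)) φ x).symm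
      simpa [ι, a] using this
    have hall := Cfsg.Agent.OmegaCoprime.commute_of_forall_pow_eq_one hp (a := a)
      (by rwa [orderOf_injective _ SemidirectProduct.inr_injective])
      (C.map ι) ((hR.to_subgroup C).map ι)
      (by rintro _ ⟨x, hx, rfl⟩; rw [hconj]; exact mem_map_of_mem _ (hmap φ x hx))
      (by
        rintro _ ⟨x, hx, rfl⟩ hxp
        rw [← map_pow, ← map_one ι] at hxp
        refine mul_inv_eq_iff_eq_mul.mp ?_
        rw [hconj, hno x hx (SemidirectProduct.inl_injective hxp)])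
    have hfixC : ∀ c ∈ C, φ c = c := fun c hc => SemidirectProduct.inl_injective (by
      show ι (φ c) = ι c
      rw [← hconj, (hall _ (mem_map_of_mem ι hc)).eq, mul_inv_cancel_right])
    have hone : φ = 1 := by
      refine MulEquiv.ext fun x => ?_
      have hd : x⁻¹ * φ x ∈ centralizer (C : Set R) := mem_centralizer_iff.mpr fun c hc => by
        have h1 : φ x * c * (φ x)⁻¹ = x * c * x⁻¹ := by
          have := hfixC _ ((inferInstance : C.Normal).conj_mem c hc x)
          rwa [map_mul, map_mul, map_inv, hfixC c hc] at this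
        calc c * (x⁻¹ * φ x) = x⁻¹ * (x * c * x⁻¹) * φ x := by group
          _ = x⁻¹ * φ x * c := by rw [← h1]; group
      have hiter : ∀ k : ℕ, (φ ^ k) x = x * (x⁻¹ * φ x) ^ k := by
        intro k
        induction k with
        | zero => simp
        | succ k ih =>
          rw [pow_succ' φ, MulAut.mul_apply, ih, map_mul, map_pow, hfixC _ (hCC hd), pow_succ',
            ← mul_assoc x, mul_inv_cancel_left]
      have h1 := hiter q
      rw [hφq, MulAut.one_apply, left_eq_mul] at h1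
      obtain ⟨k, hk⟩ := hR (x⁻¹ * φ x)
      have h2 : (x⁻¹ * φ x) ^ Nat.gcd q (p ^ k) = 1 := pow_gcd_eq_one.mpr ⟨h1, hk⟩
      rw [((hφ ▸ hcop : q.Coprime p).pow_right k).gcd_eq_one, pow_one] at h2
      exact (inv_mul_eq_one.mp h2).symm
    rw [hone, orderOf_one] at hφ
    exact hq.one_lt.ne hφ
  -- `E`: the elements of order dividing `p` of `C`
  have hcl : ∀ u v w : R, u ∈ C → v ∈ C → w ∈ C → Commute ⁅u, v⁆ w := fun u v w hu hv hw =>
    ((mem_centralizer_iff.mp (hCcomm (commutator_mem_commutator hu (mem_top v))).2) w hw).symm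
  have hpow : ∀ u v : R, u ∈ C → v ∈ C → u ^ p = 1 → v ^ p = 1 → (u * v) ^ p = 1 := by
    intro u v hu hv hup hvp
    have hz : ∀ s t : C, ⁅s, t⁆ ∈ center C := fun s t => mem_center_iff.mpr fun w =>
      Subtype.ext (hcl s t w s.2 t.2 w.2).symm.eq
    have h1 := mul_pow_of_central (a := (⟨u, hu⟩ : C)) (b := ⟨v, hv⟩) (hz _ _) p
    have hu' : (⟨u, hu⟩ : C) ^ p = 1 := Subtype.ext hup
    have hv' : (⟨v, hv⟩ : C) ^ p = 1 := Subtype.ext hvp
    have h2 := commutatorElement_pow_right (a := (⟨v, hv⟩ : C)) (b := ⟨u, hu⟩) (hz _ _) p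
    rw [hu', commutatorElement_one_right] at h2
    obtain ⟨m, hm⟩ : p ∣ p.choose 2 := (Fact.out : p.Prime).dvd_choose_self (by norm_num)
      (by have := (Fact.out : p.Prime).two_le; omega)
    rw [hu', hv', hm, pow_mul, ← h2] at h1
    simpa using congrArg Subtype.val h1
  let E : Subgroup R :=
    { carrier := {x | x ∈ C ∧ x ^ p = 1}
      one_mem' := ⟨one_mem C, one_pow p⟩
      mul_mem' := fun {x y} hx hy => ⟨mul_mem hx.1 hy.1, hpow x y hx.1 hy.1 hx.2 hy.2⟩
      inv_mem' := fun {x} hx => ⟨inv_mem hx.1, by rw [inv_pow, hx.2, inv_one]⟩ }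
  have hE : ∀ ψ : MulAut R, ∀ x ∈ E, ψ x ∈ E := fun ψ x hx =>
    ⟨hmap ψ x hx.1, by rw [← map_pow, hx.2, map_one]⟩
  have hEmap : E.map φ.toMonoidHom = E := eq_of_le_of_card_ge
    (by rintro _ ⟨x, hx, rfl⟩; exact hE φ x hx) (card_map_of_injective φ.injective).ge
  let φE : MulAut E := (φ.subgroupMap E).trans (MulEquiv.subgroupCongr hEmap)
  have hφE : ∀ x : E, ((φE x : E) : R) = φ x := fun x => rfl
  have hφEk : ∀ (k : ℕ) (x : E), (((φE ^ k) x : E) : R) = (φ ^ k) x := by
    intro k x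
    induction k with
    | zero => rfl
    | succ k ih => rw [pow_succ', pow_succ', MulAut.mul_apply, MulAut.mul_apply, hφE, ih]
  have hφEq : φE ^ q = 1 := MulEquiv.ext fun x => Subtype.ext (by rw [hφEk, hφq]; rfl)
  obtain ⟨a, ha, hQ⟩ := index_frattini_le (hR.to_subgroup E)
    (fun A hA => by
      rw [← card_map_of_injective E.subtype_injective]
      refine hrk _ ?_ ?_
      · exact isMulCommutative_of_forall fun x hx y hy => by
          obtain ⟨u, hu, rfl⟩ := hx
          obtain ⟨v, hv, rfl⟩ := hy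
          exact congrArg Subtype.val (comm_of_isMulCommutative hA hu hv)
      · rintro _ ⟨u, -, rfl⟩
        exact u.2.2)
  have hfr : (frattini E).map φE.toMonoidHom = frattini E :=
    (characteristic_iff_map_eq.mp inferInstance) φE
  let ψ : MulAut (E ⧸ frattini E) := QuotientGroup.congr (frattini E) (frattini E) φE hfr
  have hψk : ∀ (k : ℕ) (x : E), (ψ ^ k) (x : E ⧸ frattini E) = ((φE ^ k) x : E) := by
    intro k x
    induction k with
    | zero => rfl
    | succ k ih => rw [pow_succ', pow_succ', MulAut.mul_apply, MulAut.mul_apply, ih]; rfl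
  refine dvd_of_small hQ ha hqp ψ (MulEquiv.ext fun x => ?_) fun h1 => ?_
  · induction x using QuotientGroup.induction_on with
    | _ x => rw [hψk, hφEq]; rfl
  · obtain ⟨x, hx, hxp, hxne⟩ := hmove
    refine hxne ?_
    have hA : Nat.card (zpowers φE) ∣ q := by
      rw [Nat.card_zpowers]; exact orderOf_dvd_of_pow_eq_one hφEq
    have key := Cfsg.Agent.CoprimeActionAut.eq_self_of_frattini (zpowers φE).subtype
      (by
        obtain ⟨k, hk⟩ := IsPGroup.iff_card.mp ((hR.to_subgroup E).to_subgroup (frattini E))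
        rw [hk]
        exact ((hφ ▸ hcop : q.Coprime p).pow_right k).coprime_dvd_left hA)
      (fun g y => by
        obtain ⟨k, hk⟩ := (isOfFinOrder_of_finite φE).mem_powers_iff_mem_zpowers.mpr g.2
        have h2 : (g : MulAut E) = φE ^ k := hk.symm
        rw [coe_subtype, h2, ← QuotientGroup.eq, ← hψk, h1, one_pow, MulAut.one_apply])
      ⟨φE, mem_zpowers φE⟩ ⟨x, hx, hxp⟩
    exact congrArg Subtype.val key

end Cfsg.Agent.S0640
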