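import Cfsg.Statements.S1448
import Cfsg.Agent.Lib.PGroupsBlackburn
import Cfsg.Agent.S0639
import Cfsg.Agent.S0640
import Cfsg.Agent.S1447

set_option autoImplicit false
open Cfsg Cfsg.Agent Subgroup
open scoped commutatorElement

namespace Cfsg.Agent.S1448

/-- Let G be a finite group, p an odd prime, R a nontrivial p-subgroup with no elementary abelian subgroup of order p ^ 3, and A a subgroup of odd order coprime to p normalizing R with [R, A] = R. Then 3 < p, and either R is abelian or R is generated by two elementwise-commuting subgroups R₁, R₂ with R₁ non-abelian of order p ^ 3 and exponent p, R₂ cyclic, and the elements of R₂ of order dividing p generating exactly [R₁, R₁]. -/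
theorem result {G : Type*} [Group G] [Finite G] (p : ℕ) [Fact p.Prime] (hp : p ≠ 2) (R A : Subgroup G) (hR : IsPGroup p R) (hR1 : R ≠ ⊥) (hr : Cfsg.PRankLE p 2 R)
    (hA : (A ≤ Subgroup.normalizer (R : Set G))) (hcop : (Nat.card A).Coprime p) (hAodd : Odd (Nat.card A)) (hRA : ⁅R, A⁆ = R) :
    3 < p ∧ (IsMulCommutative R ∨ ∃ R₁ R₂ : Subgroup G, R₁ ⊔ R₂ = R ∧ (∀ a ∈ R₁, ∀ b ∈ R₂, a * b = b * a) ∧
        ¬ IsMulCommutative R₁ ∧ Nat.card R₁ = p ^ 3 ∧ Monoid.exponent R₁ = p ∧ IsCyclic R₂ ∧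
        Subgroup.closure {x : G | x ∈ R₂ ∧ x ^ p = 1} = ⁅R₁, R₁⁆) := by
  classical
  have hp' : p.Prime := Fact.out
  let φ : A →* MulAut R := R.normalizerMonoidHom.comp (Subgroup.inclusion hA)
  set Γ := φ.range with hΓ
  have hΓd : Nat.card Γ ∣ Nat.card A := Subgroup.card_range_dvd φ
  have hodd : Odd (Nat.card Γ) := hAodd.of_dvd_nat hΓd
  have hcop' : (Nat.card Γ).Coprime p := hcop.coprime_dvd_left hΓd
  have hgen : closure {y : R | ∃ w : R, ∃ α ∈ Γ, y = α w * w⁻¹} = ⊤ := by
    refine eq_top_iff.mpr fun y _ => ?_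
    have h : ⁅R, A⁆ ≤ (closure {y : R | ∃ w : R, ∃ α ∈ Γ, y = α w * w⁻¹}).map R.subtype := by
      refine (Subgroup.commutator_le).mpr fun r hr a ha => ?_
      refine ⟨(φ ⟨a, ha⟩ ⟨r, hr⟩ * (⟨r, hr⟩ : R)⁻¹)⁻¹,
        inv_mem (subset_closure ⟨⟨r, hr⟩, φ ⟨a, ha⟩, ⟨_, rfl⟩, rfl⟩), ?_⟩
      show ((a * r * a⁻¹) * r⁻¹)⁻¹ = _
      rw [commutatorElement_def]
      group
    rw [hRA] at h
    obtain ⟨v, hv, hvy⟩ := h y.2
    exact (Subtype.ext hvy : v = y) ▸ hv
  have h3 : 3 < p := by
    by_contra hle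
    refine hR1 ?_
    have htriv : ∀ α ∈ Γ, α = 1 := by
      intro α hα
      by_contra hne
      obtain ⟨q, hq, hqd⟩ := Nat.exists_prime_and_dvd (fun h => hne (orderOf_eq_one_iff.mp h))
      have hqΓ : q ∣ Nat.card Γ := hqd.trans (Subgroup.orderOf_dvd_natCard _ hα)
      have hqp : q ≠ p := by
        rintro rfl
        have := Nat.dvd_gcd hqΓ dvd_rfl
        rw [hcop'.gcd_eq_one] at this
        exact hq.one_lt.ne' (Nat.dvd_one.mp this)
      have := (Cfsg.Agent.S0640.result hp hR hr q hq hqp (hqd.trans (orderOf_dvd_natCard α))).2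
      have hq2 : q = 2 := by have := hq.two_le; omega
      subst hq2
      exact absurd (hodd.of_dvd_nat hqΓ) (by decide)
    rw [eq_bot_iff]
    intro y hy
    have h : (⟨y, hy⟩ : R) ∈ (⊥ : Subgroup R) := by
      refine le_of_eq_of_le hgen.symm ?_ (mem_top _)
      rw [closure_le]
      rintro z ⟨w, α, hα, rfl⟩
      simp [htriv α hα]
    exact mem_bot.mpr (congrArg Subtype.val (mem_bot.mp h))
  refine ⟨h3, ?_⟩
  set E := closure {x : R | x ^ p = 1} with hE
  have hEinv : ∀ α : MulAut R, ∀ u ∈ E, α u ∈ E := by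
    intro α u hu
    have h : E.map α.toMonoidHom ≤ E := by
      rw [hE, MonoidHom.map_closure, closure_le]
      rintro _ ⟨v, hv, rfl⟩
      refine subset_closure ?_
      show α v ^ p = 1
      rw [← map_pow, show v ^ p = 1 from hv, map_one]
    exact h (mem_map_of_mem _ hu)
  haveI : E.Normal := ⟨fun u hu g => hEinv (MulAut.conj g) u hu⟩
  by_cases hab : IsMulCommutative R
  · exact Or.inl hab
  refine Or.inr ?_
  have hE3 : p ^ 2 < Nat.card E := by
    by_contra hle
    refine hab ?_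
    have hm : Cfsg.IsMetacyclic R := Cfsg.Agent.S0639.result h3 hR (by
      have : Cfsg.omegaOne p (⊤ : Subgroup R) = E := by
        rw [hE, Cfsg.omegaOne]; congr 1; ext; simp
      rw [this]; exact not_lt.mp hle)
    have hne : ¬ A ≤ centralizer (R : Set G) := fun h => hR1 (by
      rw [← hRA]
      exact commutator_eq_bot_iff_le_centralizer.mpr (le_centralizer_iff.mp h))
    have hc := ((Cfsg.Agent.S1447.result p hp R A hR hm hA hcop).2.2.2 hab hne).2.1
    rw [hRA] at hc
    obtain ⟨g, hg⟩ := hc.exists_generator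
    refine PGroupsBasic.isMulCommutative_of_forall fun u hu v hv => ?_
    obtain ⟨i, hi⟩ := mem_zpowers_iff.mp (hg ⟨u, hu⟩)
    obtain ⟨j, hj⟩ := mem_zpowers_iff.mp (hg ⟨v, hv⟩)
    have h := (Commute.refl g).zpow_zpow i j
    rw [hi, hj] at h
    exact congrArg Subtype.val h.eq
  obtain ⟨B, Z, a, β, F⟩ := PGroupsBlackburn.exists_frame h3 hR hr E hE hE3
  have hsup := PGroupsBlackburn.sup_centralizer_eq_top h3 hR F Γ hodd hcop' hgen hEinv
  set C := centralizer (E : Set R) with hC
  have hCE : ∀ u ∈ C, u ^ p = 1 → u ∈ Z := fun u hu hup => F.Zmem u (F.omega u hup) fun v hv =>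
    ((mem_centralizer_iff.mp hu) v hv).symm
  have hCcyc : IsCyclic C := by
    rcases PGroupsCyclic.isCyclic_or_quaternion (hR.to_subgroup C) (fun H H' hH hH' => by
      have key : ∀ H : Subgroup C, Nat.card H = p → H = Z.subgroupOf C := fun H hH => by
        refine eq_of_le_of_card_ge (fun u hu => hCE u u.2 ?_) ?_
        · exact congrArg Subtype.val (PGroupsBasic.pow_eq_one_of_card hH hu)
        · rw [hH, ← F.cardZ]
          exact le_of_eq (Nat.card_congr (subgroupOfEquivOfLe
            (fun z hz => center_le_centralizer _ (F.Zc hz))).toEquiv)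
      rw [key H hH, key H' hH']) with h | ⟨h, -⟩
    · exact h
    · omega
  have hmap : ∀ S : Subgroup R, Nat.card (S.map R.subtype) = Nat.card S := fun S =>
    card_map_of_injective R.subtype_injective
  refine ⟨E.map R.subtype, C.map R.subtype, ?_, ?_, ?_, ?_, ?_, ?_, ?_⟩
  · rw [← Subgroup.map_sup, hsup, ← MonoidHom.range_eq_map, range_subtype]
  · rintro _ ⟨u, hu, rfl⟩ _ ⟨v, hv, rfl⟩
    exact congrArg Subtype.val (mem_centralizer_iff.mp hv u hu)
  · intro hc
    refine F.ne (commutatorElement_eq_one_iff_mul_comm.mpr (Subtype.ext ?_))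
    exact PGroupsBasic.comm_of_isMulCommutative hc (mem_map_of_mem R.subtype F.aE)
      (mem_map_of_mem R.subtype (F.BE F.βB))
  · rw [hmap, F.cardE]
  · have hd : Monoid.exponent (E.map R.subtype) ∣ p :=
      Monoid.exponent_dvd_of_forall_pow_eq_one fun ⟨_, u, hu, e⟩ => Subtype.ext (by
        subst e
        show (R.subtype u) ^ p = 1
        rw [← map_pow, F.expE u hu, map_one])
    rcases (Nat.dvd_prime hp').mp hd with h | h
    · exfalso
      have := Monoid.exp_eq_one_iff.mp h
      have h1 := hmap E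
      rw [Nat.card_of_subsingleton (1 : E.map R.subtype), F.cardE] at h1
      exact (Nat.one_lt_pow (by norm_num) hp'.one_lt).ne h1
    · exact h
  · exact (C.equivMapOfInjective _ R.subtype_injective).isCyclic.mp hCcyc
  · have hEE : ⁅E, E⁆ = Z := le_antisymm ((Subgroup.commutator_le).mpr F.derE) (by
      rw [← F.zpowers_ne, zpowers_le]
      exact commutator_mem_commutator F.aE (F.BE F.βB))
    rw [← map_commutator, hEE]
    refine le_antisymm ((closure_le _).mpr ?_) ?_
    · rintro _ ⟨⟨u, hu, rfl⟩, hup⟩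
      exact ⟨u, hCE u hu (Subtype.ext hup), rfl⟩
    · rintro _ ⟨z, hz, rfl⟩
      exact subset_closure ⟨⟨z, center_le_centralizer _ (F.Zc hz), rfl⟩,
        congrArg Subtype.val (F.expE z (F.BE (F.ZB hz)))⟩

end Cfsg.Agent.S1448
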