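import Cfsg.Statements.S1412
import Cfsg.Agent.Lib.BGSylowNormalizer
import Cfsg.Agent.S1448
import Cfsg.Agent.Lib.FusionPearl

set_option autoImplicit false
open Cfsg Subgroup
open scoped commutatorElement

namespace Cfsg.Agent.S1412

/-- Let G be a minimal simple group of odd order, p a prime and P a Sylow p-subgroup of G with no elementary abelian subgroup of order p ^ 3. Then either P is abelian, or P is generated by two elementwise-commuting subgroups P₁, P₂ with P₁ nonabelian of order p ^ 3 and exponent p, P₂ cyclic, and the elements of P₂ of order dividing p generating exactly the centre of P₁. -/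
theorem result {G : Type*} [Group G] [Finite G] (hG : Cfsg.IsMinSimpleOddOrder G) (p : ℕ) [Fact p.Prime] (P : Sylow p G) (hr : Cfsg.PRankLE p 2 (P : Subgroup G)) :
    IsMulCommutative (P : Subgroup G) ∨ ∃ P₁ P₂ : Subgroup G, P₁ ⊔ P₂ = (P : Subgroup G) ∧ (∀ a ∈ P₁, ∀ b ∈ P₂, a * b = b * a) ∧
        ¬ IsMulCommutative P₁ ∧ Nat.card P₁ = p ^ 3 ∧ Monoid.exponent P₁ = p ∧ IsCyclic P₂ ∧
        Subgroup.closure {x : G | x ∈ P₂ ∧ x ^ p = 1} = P₁ ⊓ Subgroup.centralizer (P₁ : Set G) := by
  have hp' : p.Prime := Fact.out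
  by_cases hP : (P : Subgroup G) = ⊥
  · exact Or.inl (hP ▸ inferInstance)
  have hp2 : p ≠ 2 := BGUnique.prime_ne_two hG
    ((BGUnique.dvd_card_of_ne_bot P.isPGroup' hP).trans (card_subgroup_dvd_card _))
  set N := normalizer ((P : Subgroup G) : Set G) with hN
  have hPN : (P : Subgroup G) ≤ N := le_normalizer
  set PN := (P : Subgroup G).subgroupOf N with hPNdef
  haveI : PN.Normal := normal_in_normalizer
  have hndvd : ¬ p ∣ PN.index := fun hd => P.not_dvd_index
    (hd.trans (show (P : Subgroup G).relIndex N ∣ (P : Subgroup G).index from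
      Dvd.intro _ (relIndex_mul_index hPN)))
  have hcardPN : Nat.card PN = Nat.card (P : Subgroup G) :=
    Nat.card_congr (subgroupOfEquivOfLe hPN).toEquiv
  obtain ⟨k, hk⟩ := IsPGroup.iff_card.1 P.isPGroup'
  have hcopN : (Nat.card PN).Coprime PN.index := by
    rw [hcardPN, hk]
    exact (hp'.coprime_iff_not_dvd.2 hndvd).pow_left k
  obtain ⟨V₀, hV₀⟩ := exists_right_complement'_of_coprime hcopN
  set V := V₀.map N.subtype with hVdef
  have hV : Cfsg.IsComplIn (P : Subgroup G) V N := by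
    refine ⟨hPN, map_subtype_le _, ?_, fun m hm => ?_⟩
    · rw [eq_bot_iff]
      rintro _ ⟨hx, v, hv, rfl⟩
      have : v ∈ PN ⊓ V₀ := ⟨hx, hv⟩
      rw [hV₀.disjoint.eq_bot, mem_bot] at this
      simp [this]
    · obtain ⟨⟨a, b⟩, hab⟩ := hV₀.2 ⟨m, hm⟩
      exact ⟨(a : N), a.2, (b : N), ⟨b, b.2, rfl⟩, (congrArg Subtype.val hab).symm⟩
  have hcop : (Nat.card V).Coprime p := by
    rw [hVdef, card_map_of_injective N.subtype_injective, ← hV₀.symm.index_eq_card]
    exact (hp'.coprime_iff_not_dvd.2 hndvd).symm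
  obtain ⟨-, h⟩ := S1448.result p hp2 (P : Subgroup G) V P.isPGroup' hP hr hV.2.1 hcop
    (BGUnique.odd_card_subgroup hG V) (BGSylowNormalizer.eq_commutator_compl hG P hV).symm
  rcases h with h | ⟨R₁, R₂, hsup, hcomm, hnc, hcard, hexp, hcyc, hΩ⟩
  · exact Or.inl h
  refine Or.inr ⟨R₁, R₂, hsup, hcomm, hnc, hcard, hexp, hcyc, hΩ.trans ?_⟩
  have hZc := FusionPearl.card_center_of_card_cube (p := p) hcard hnc
  have h2 : commutator R₁ ≤ center R₁ := PGroupsBasic.commutator_le_of_index_le_sq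
    (IsPGroup.of_card hcard) (le_of_eq (by
      have := card_mul_index (center R₁)
      rw [hZc, hcard, pow_succ' p 2, mul_eq_mul_left_iff] at this
      exact this.resolve_right hp'.ne_zero))
  have h3 : commutator R₁ ≠ ⊥ := fun h => hnc (PGroupsBasic.isMulCommutative_of_forall
    fun v hv w hw => by
      have h' : ⁅(⟨v, hv⟩ : R₁), (⟨w, hw⟩ : R₁)⁆ ∈ commutator R₁ :=
        commutator_mem_commutator (mem_top _) (mem_top _)
      rw [h, mem_bot] at h'
      exact congrArg Subtype.val (commutatorElement_eq_one_iff_mul_comm.mp h'))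
  have h4 : commutator R₁ = center R₁ := eq_of_le_of_card_ge h2 (by
    rw [hZc]
    obtain ⟨j, hj⟩ := IsPGroup.iff_card.mp ((IsPGroup.of_card hcard).to_subgroup (commutator R₁))
    rw [hj]
    refine Nat.le_self_pow (fun h0 => h3 (card_eq_one.mp ?_)) p
    rw [hj, h0, pow_zero])
  rw [← map_subtype_commutator, h4]
  ext z
  constructor
  · rintro ⟨u, hu, rfl⟩
    exact ⟨u.2, mem_centralizer_iff.2 fun w hw =>
      congrArg Subtype.val (mem_center_iff.1 hu ⟨w, hw⟩)⟩
  · rintro ⟨hz, hzc⟩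
    exact ⟨⟨z, hz⟩, mem_center_iff.2 fun w =>
      Subtype.ext ((mem_centralizer_iff.1 hzc) w w.2), rfl⟩

end Cfsg.Agent.S1412
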