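import Cfsg.Statements.S1454
import Cfsg.Agent.Lib.PGroupsNarrow
import Cfsg.Agent.Lib.BGRankTwo
import Cfsg.Agent.Lib.GlaubermanStable
import Cfsg.Agent.Lib.HallCore
import Cfsg.Agent.Lib.FusionPearl
import Cfsg.Agent.S0640
import Cfsg.Agent.S1448

set_option autoImplicit false
open Cfsg Cfsg.Agent Subgroup
open scoped commutatorElement Pointwise

namespace Cfsg.Agent.S1454

universe u

variable {G : Type u} [Group G] {p : ℕ}

/-- Narrowness is invariant under isomorphism. -/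
theorem isNarrow_of_equiv {R R' : Type u} [Group R] [Group R'] (e : R ≃* R')
    (h : Cfsg.IsNarrow p R) : Cfsg.IsNarrow p R' := by
  rcases h with h | ⟨R₀, R₁, h0, h1, h01, hc, hC⟩
  · exact Or.inl (BGRankTwo.pRankLE_of_injective e.symm.toMonoidHom e.symm.injective h)
  · refine Or.inr ⟨R₀.map e.toMonoidHom, R₁.map e.toMonoidHom, ?_, ?_, ?_, ?_, ?_⟩
    · exact (card_map_of_injective e.injective).trans h0
    · exact (R₁.equivMapOfInjective _ e.injective).isCyclic.mp h1
    · rw [← map_inf _ _ _ e.injective, h01, Subgroup.map_bot]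
    · rintro _ ⟨a, ha, rfl⟩ _ ⟨b, hb, rfl⟩
      rw [← map_mul, ← map_mul, hc a ha b hb]
    · rw [← Subgroup.map_sup, hC]
      ext w
      refine ⟨?_, fun hw => ⟨e.symm w, mem_centralizer_iff.mpr fun a ha => ?_, e.apply_symm_apply w⟩⟩
      · rintro ⟨v, hv, rfl⟩
        refine mem_centralizer_iff.mpr ?_
        rintro _ ⟨a, ha, rfl⟩
        rw [← map_mul, ← map_mul, mem_centralizer_iff.mp hv a ha]
      · have := mem_centralizer_iff.mp hw (e a) ⟨a, ha, rfl⟩
        apply e.injective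
        simpa using this

/-- Let G be a finite group, p an odd prime, R a narrow p-subgroup and A a solvable subgroup of odd order normalizing R with A ∩ C_G(R) = 1. Then [A, A] ≤ O_p(A) and the index of O_p(A) in A is coprime to p; if R has an elementary abelian subgroup of order p ^ 3 then the order of every element of A of order coprime to p divides p − 1; and if the order of A is a prime not dividing p(p − 1), then 2·#A divides p + 1, and if in addition [R, A] = R and R is non-abelian then #R = p ^ 3. -/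
theorem result {G : Type*} [Group G] [Finite G] (p : ℕ) [Fact p.Prime] (hp : p ≠ 2) (R A : Subgroup G) (hR : IsPGroup p R) (hRn : Cfsg.IsNarrow p R)
    (hA : (A ≤ Subgroup.normalizer (R : Set G))) (hAs : Group.IsSolvable A) (hAodd : Odd (Nat.card A)) (hfaith : A ⊓ Subgroup.centralizer (R : Set G) = ⊥) :
    (commutator ↥A ≤ Cfsg.pCore p ↥A ∧ ((Cfsg.pCore p ↥A).index).Coprime p) ∧
      (¬ Cfsg.PRankLE p 2 R → ∀ a ∈ A, (orderOf a).Coprime p → orderOf a ∣ p - 1) ∧
      ((Nat.card A).Prime → ¬ Nat.card A ∣ p * (p - 1) →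
        2 * Nat.card A ∣ p + 1 ∧ (⁅R, A⁆ = R → ¬ IsMulCommutative R → Nat.card R = p ^ 3)) := by
  classical
  have hp' : p.Prime := Fact.out
  set H := R ⊔ A with hH
  have hRH : R ≤ H := le_sup_left
  have hAH : A ≤ H := le_sup_right
  set R' := R.subgroupOf H with hR'
  haveI hR'n : R'.Normal := (normal_subgroupOf_iff_le_normalizer hRH).mpr
    (sup_le le_normalizer hA)
  let e : R' ≃* R := subgroupOfEquivOfLe hRH
  have hR'p : IsPGroup p R' := hR.of_equiv e.symm
  have hn' : Cfsg.IsNarrow p R' := isNarrow_of_equiv e.symm hRn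
  let π : A →* H ⧸ R' := (QuotientGroup.mk' R').comp (inclusion hAH)
  have hπ : Function.Surjective π := by
    intro w
    obtain ⟨⟨w, hw⟩, rfl⟩ := QuotientGroup.mk'_surjective R' w
    obtain ⟨r, hr, a, ha, rfl⟩ := Set.mem_mul.mp (show w ∈ (R : Set G) * (A : Set G) by
      rw [← coe_mul_of_right_le_normalizer_left _ _ hA]; exact hw)
    refine ⟨⟨a, ha⟩, ?_⟩
    show QuotientGroup.mk' R' ⟨a, hAH ha⟩ = QuotientGroup.mk' R' ⟨r * a, hw⟩
    rw [show (⟨r * a, hw⟩ : H) = ⟨r, hRH hr⟩ * ⟨a, hAH ha⟩ from rfl, map_mul,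
      show QuotientGroup.mk' R' ⟨r, hRH hr⟩ = 1 from (QuotientGroup.eq_one_iff _).mpr hr, one_mul]
  haveI : Group.IsNilpotent R' := hR'p.isNilpotent
  haveI hHs : Group.IsSolvable H := by
    haveI : Group.IsSolvable (H ⧸ R') := solvable_of_surjective hπ
    exact solvable_of_ker_le_range R'.subtype (QuotientGroup.mk' R') (by simp)
  have hHodd : Odd (Nat.card H) := by
    rw [card_eq_card_quotient_mul_card_subgroup R']
    obtain ⟨k, hk⟩ := IsPGroup.iff_card.mp hR'p
    exact (hAodd.of_dvd_nat (card_dvd_of_surjective π hπ)).mul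
      (hk ▸ (hp'.odd_of_ne_two hp).pow)
  have hfa : ∀ a ∈ A, (∀ r ∈ R, Commute a r) → a = 1 := fun a ha h =>
    (Subgroup.mem_bot).mp (hfaith ▸ ⟨ha, mem_centralizer_iff.mpr fun r hr => (h r hr).eq.symm⟩)
  have hord : ∀ (a : G) (ha : a ∈ H), orderOf (⟨a, ha⟩ : H) = orderOf a := fun a ha =>
    Subgroup.orderOf_mk a ha
  have hrk : Cfsg.PRankLE p 2 R' ↔ Cfsg.PRankLE p 2 R :=
    ⟨fun h => BGRankTwo.pRankLE_of_injective e.symm.toMonoidHom e.symm.injective h,
      fun h => BGRankTwo.pRankLE_of_injective e.toMonoidHom e.injective h⟩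
  -- the derived subgroup of `A` is a `p`-group
  have hAA : IsPGroup p ↥⁅A, A⁆ := by
    by_cases hr : Cfsg.PRankLE p 2 R
    · exact BGRankTwo.isPGroup_commutator hp hR hr hA hAodd hfaith
    obtain ⟨x, T, Z, -, -, -, hxp, hx1, hxr, -⟩ :=
      PGroupsNarrow.exists_data hp hR'p hn' (mt hrk.mp hr)
    rintro ⟨y, hy⟩
    obtain ⟨i, hi⟩ := GlaubermanStable.exists_pow_coprime (p := p) y
    refine ⟨i, Subtype.ext (?_ : y ^ p ^ i = 1)⟩
    have hyA : y ^ p ^ i ∈ A := pow_mem (show y ∈ A from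
      (commutator_le.mpr fun a ha b hb =>
        mul_mem (mul_mem (mul_mem ha hb) (inv_mem ha)) (inv_mem hb) : ⁅A, A⁆ ≤ A) hy) _
    refine hfa _ hyA fun r hr' => ?_
    have hyc : (⟨y ^ p ^ i, hAH hyA⟩ : H) ∈ commutator H := by
      have h1 : ⁅A, A⁆ ≤ (commutator H).map H.subtype := by
        rw [map_subtype_commutator]
        exact commutator_mono hAH hAH
      obtain ⟨w, hw, hwy⟩ := h1 (pow_mem hy (p ^ i))
      exact (Subtype.ext hwy : w = ⟨y ^ p ^ i, hAH hyA⟩) ▸ hw
    have := BGNarrowAction.commute_of_centralizer_rank hp hHodd hR'p hxp hx1 hxr hyc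
      (by rw [hord]; exact hi) ⟨r, hRH hr'⟩ hr'
    exact congrArg Subtype.val this
  have hcA : IsPGroup p (commutator A) := by
    have h : (commutator A).map A.subtype = ⁅A, A⁆ := map_subtype_commutator A
    exact (h ▸ hAA).of_equiv ((commutator A).equivMapOfInjective _ A.subtype_injective).symm
  haveI := HallCore.pCore_normal p A
  have hle : commutator A ≤ Cfsg.pCore p A := HallCore.le_pCore hcA
  have hidx : ((Cfsg.pCore p A).index).Coprime p := by
    obtain ⟨S⟩ : Nonempty (Sylow p A) := inferInstance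
    have hcS : commutator A ≤ (S : Subgroup A) := by
      obtain ⟨S', hS'⟩ := hcA.exists_le_sylow
      intro w hw
      obtain ⟨g, rfl⟩ := MulAction.exists_smul_eq A S' S
      rw [Sylow.coe_subgroup_smul, mem_pointwise_smul_iff_inv_smul_mem]
      refine hS' ?_
      have := (inferInstance : (commutator A).Normal).conj_mem w hw g⁻¹
      simpa [MulAut.smul_def] using this
    haveI : (S : Subgroup A).Normal := PGroupsBasic.normal_of_commutator_le hcS
    refine (Nat.Coprime.coprime_dvd_left (index_dvd_of_le (HallCore.le_pCore S.isPGroup')) ?_)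
    exact (hp'.coprime_iff_not_dvd.mpr S.not_dvd_index).symm
  -- operators of order prime to `p` in rank at least three
  have hpart2 : ¬ Cfsg.PRankLE p 2 R → ∀ a ∈ A, (orderOf a).Coprime p → orderOf a ∣ p - 1 := by
    intro hr a ha hcop
    refine orderOf_dvd_of_pow_eq_one (hfa _ (pow_mem ha _) fun r hr' => ?_)
    have := PGroupsNarrow.pow_pred_centralizes hp hR'p hn' (mt hrk.mp hr) (a := (⟨a, hAH ha⟩ : H))
      (by rw [hord]; exact hcop) ⟨r, hRH hr'⟩ hr'
    exact congrArg Subtype.val this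
  refine ⟨⟨hle, hidx⟩, hpart2, fun hq hnd => ?_⟩
  set q := Nat.card A with hqdef
  have hqp : q ≠ p := fun h => hnd (by rw [h]; exact dvd_mul_right _ _)
  have hqp1 : ¬ q ∣ p - 1 := fun h => hnd (h.mul_left p)
  haveI := Fact.mk hq
  obtain ⟨⟨a, ha⟩, hao⟩ := exists_prime_orderOf_dvd_card' (G := A) q dvd_rfl
  rw [Subgroup.orderOf_mk] at hao
  have hcopq : q.Coprime p := (Nat.coprime_primes hq hp').mpr hqp
  have hr : Cfsg.PRankLE p 2 R := by
    by_contra hr
    exact hqp1 (hao ▸ hpart2 hr a ha (hao ▸ hcopq))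
  let φ : A →* MulAut R := R.normalizerMonoidHom.comp (inclusion hA)
  have hφ : Function.Injective φ := by
    rw [injective_iff_map_eq_one]
    rintro ⟨b, hb⟩ h1
    refine Subtype.ext (hfa b hb fun r hr' => ?_)
    have h2 : b * r * b⁻¹ = r := congrArg Subtype.val (MulEquiv.congr_fun h1 (⟨r, hr'⟩ : R))
    exact mul_inv_eq_iff_eq_mul.mp h2
  have hqodd : Odd q := hAodd
  have hdvd : q ∣ p + 1 := by
    have h := (Cfsg.Agent.S0640.result hp hR hr q hq hqp
      (hqdef ▸ card_dvd_of_injective φ hφ)).1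
    rw [show p ^ 2 - 1 = (p + 1) * (p - 1) by rw [← Nat.sq_sub_sq, one_pow]] at h
    exact ((hq.dvd_mul).mp h).resolve_right hqp1
  refine ⟨(Nat.coprime_two_left.mpr hqodd).mul_dvd_of_dvd_of_dvd
    (hp'.odd_of_ne_two hp).add_one.two_dvd hdvd, fun hRA hnc => ?_⟩
  have hR1 : R ≠ ⊥ := fun h => hnc (h ▸ inferInstance)
  obtain ⟨-, h⟩ := Cfsg.Agent.S1448.result p hp R A hR hR1 hr hA hcopq hAodd hRA
  obtain ⟨R₁, R₂, hsup, hcomm, hnc₁, hcard, hexp, hcyc, hΩ⟩ := h.resolve_left hnc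
  have hR₁R : R₁ ≤ R := hsup ▸ le_sup_left
  have hR₂R : R₂ ≤ R := hsup ▸ le_sup_right
  have hn12 : R₂ ≤ normalizer (R₁ : Set G) := fun b hb => centralizer_le_normalizer _
    (mem_centralizer_iff.mpr fun a ha => hcomm a ha b hb)
  have hmem : ∀ w ∈ R, ∃ u ∈ R₁, ∃ v ∈ R₂, u * v = w := fun w hw =>
    Set.mem_mul.mp (show w ∈ (R₁ : Set G) * (R₂ : Set G) by
      rw [← coe_mul_of_right_le_normalizer_left _ _ hn12, SetLike.mem_coe, hsup]; exact hw)
  have hexp' : ∀ u ∈ R₁, u ^ p = 1 := fun u hu => by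
    have := Monoid.pow_exponent_eq_one (⟨u, hu⟩ : R₁)
    rw [hexp] at this
    exact congrArg Subtype.val this
  have hder : ⁅R₁, R₁⁆ ≤ R₁ := commutator_le.mpr fun u hu v hv =>
    mul_mem (mul_mem (mul_mem hu hv) (inv_mem hu)) (inv_mem hv)
  have hR₁iff : ∀ w ∈ R, w ∈ R₁ ↔ w ^ p = 1 := fun w hw => ⟨hexp' w, fun h => by
    obtain ⟨u, hu, v, hv, rfl⟩ := hmem w hw
    rw [(show Commute u v from hcomm u hu v hv).mul_pow, hexp' u hu, one_mul] at h
    exact mul_mem hu (hder (hΩ ▸ subset_closure ⟨hv, h⟩))⟩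
  have hR₂c : ∀ v ∈ R₂, ∀ w ∈ R, Commute v w := by
    intro v hv w hw
    obtain ⟨u, hu, v', hv', rfl⟩ := hmem w hw
    refine Commute.mul_right (hcomm u hu v hv).symm ?_
    obtain ⟨g, hg⟩ := hcyc.exists_generator
    obtain ⟨i, hi⟩ := mem_zpowers_iff.mp (hg ⟨v, hv⟩)
    obtain ⟨j, hj⟩ := mem_zpowers_iff.mp (hg ⟨v', hv'⟩)
    have h := (Commute.refl g).zpow_zpow i j
    rw [hi, hj] at h
    exact congrArg Subtype.val h.eq
  -- the centre of `R₁` lies in `R₂`
  have hZ₁ : ∀ u ∈ R₁, (∀ w ∈ R₁, Commute u w) → u ∈ R₂ := by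
    intro u hu hc
    have h1 : ⁅R₁, R₁⁆ ≤ R₂ := by
      rw [← hΩ, closure_le]
      exact fun w hw => hw.1
    refine h1 ?_
    have hZc := FusionPearl.card_center_of_card_cube (p := p) hcard hnc₁
    haveI : (center R₁).Normal := inferInstance
    have h2 : commutator R₁ ≤ center R₁ := PGroupsBasic.commutator_le_of_index_le_sq
      (IsPGroup.of_card hcard) (le_of_eq (by
        have := card_mul_index (center R₁)
        rw [hZc, hcard, pow_succ' p 2, mul_eq_mul_left_iff] at this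
        exact this.resolve_right hp'.ne_zero))
    have h3 : commutator R₁ ≠ ⊥ := fun h => hnc₁ (PGroupsBasic.isMulCommutative_of_forall
      fun v hv w hw => by
        have h' : ⁅(⟨v, hv⟩ : R₁), (⟨w, hw⟩ : R₁)⁆ ∈ commutator R₁ :=
          commutator_mem_commutator (mem_top _) (mem_top _)
        rw [h, mem_bot] at h'
        exact congrArg Subtype.val (commutatorElement_eq_one_iff_mul_comm.mp h'))
    have h4 : commutator R₁ = center R₁ := eq_of_le_of_card_ge h2 (by
      rw [hZc]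
      obtain ⟨k, hk⟩ := IsPGroup.iff_card.mp ((IsPGroup.of_card hcard).to_subgroup (commutator R₁))
      rw [hk]
      refine Nat.le_self_pow (fun h0 => h3 (card_eq_one.mp ?_)) p
      rw [hk, h0, pow_zero])
    have h5 : (⟨u, hu⟩ : R₁) ∈ commutator R₁ := h4.symm ▸ mem_center_iff.mpr fun w =>
      Subtype.ext (hc w w.2).eq.symm
    rw [← map_subtype_commutator R₁]
    exact ⟨_, h5, rfl⟩
  have hR₂inv : ∀ b ∈ A, ∀ v ∈ R₂, b * v * b⁻¹ ∈ R₂ := by
    intro b hb v hv
    have hwR : b * v * b⁻¹ ∈ R := (mem_normalizer_iff.mp (hA hb) v).mp (hR₂R hv)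
    have hwc : ∀ r ∈ R, Commute (b * v * b⁻¹) r := by
      intro r hr'
      have h1 : b⁻¹ * r * b ∈ R := by
        simpa using (mem_normalizer_iff.mp (hA (inv_mem hb)) r).mp hr'
      have h2 := (hR₂c v hv _ h1).map (MulAut.conj b)
      simpa [mul_assoc] using h2
    obtain ⟨u, hu, v', hv', huv⟩ := hmem _ hwR
    rw [← huv]
    refine mul_mem (hZ₁ u hu fun w hw => ?_) hv'
    have h3 := hwc w (hR₁R hw)
    rw [← huv] at h3
    rw [show u = u * v' * v'⁻¹ by group]
    exact h3.mul_left (hR₂c v' hv' w (hR₁R hw)).inv_left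
  have hA₂ : A ≤ normalizer (R₂ : Set G) := CoprimeAction.le_normalizer_of_conj_mem hR₂inv
  have htriv : ∀ b ∈ A, ∀ v ∈ R₂, b * v * b⁻¹ = v := by
    intro b hb v hv
    let ψ : A →* MulAut R₂ := R₂.normalizerMonoidHom.comp (inclusion hA₂)
    haveI := hcyc
    have h1 : orderOf (ψ ⟨b, hb⟩) = 1 := by
      refine Nat.eq_one_of_dvd_coprimes ?_ ((orderOf_map_dvd ψ _).trans (_root_.orderOf_dvd_natCard _))
        (show orderOf (ψ ⟨b, hb⟩) ∣ (Nat.card R₂).totient by
          rw [← IsCyclic.card_mulAut]; exact _root_.orderOf_dvd_natCard _)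
      obtain ⟨k, hk⟩ := IsPGroup.iff_card.mp (hR.to_le hR₂R)
      rw [hk]
      refine hq.coprime_iff_not_dvd.mpr fun h => ?_
      rcases Nat.eq_zero_or_pos k with rfl | hk0
      · rw [pow_zero, Nat.totient_one, Nat.dvd_one] at h
        exact hq.ne_one h
      · rw [Nat.totient_prime_pow hp' hk0, hq.dvd_mul] at h
        rcases h with h | h
        · exact hqp ((Nat.prime_dvd_prime_iff_eq hq hp').mp (hq.dvd_of_dvd_pow h))
        · exact hqp1 h
    exact congrArg Subtype.val (MulEquiv.congr_fun (orderOf_eq_one_iff.mp h1) (⟨v, hv⟩ : R₂))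
  have hkey : ⁅R, A⁆ ≤ R₁ := by
    refine commutator_le.mpr fun r hr' b hb => ?_
    obtain ⟨u, hu, v, hv, rfl⟩ := hmem r hr'
    have hbu : b * u⁻¹ * b⁻¹ ∈ R₁ := by
      refine (hR₁iff _ ((mem_normalizer_iff.mp (hA hb) _).mp (hR₁R (inv_mem hu)))).mpr ?_
      rw [conj_pow, hexp' _ (inv_mem hu), mul_one, mul_inv_cancel]
    have h2 := hR₂c v hv _ (hR₁R hbu)
    have : ⁅u * v, b⁆ = u * (b * u⁻¹ * b⁻¹) := by
      calc ⁅u * v, b⁆ = u * v * (b * v⁻¹ * b⁻¹) * (b * u⁻¹ * b⁻¹) := by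
            rw [commutatorElement_def]; group
        _ = u * (b * u⁻¹ * b⁻¹) := by rw [htriv b hb v⁻¹ (inv_mem hv)]; group
    rw [this]
    exact mul_mem hu hbu
  rw [hRA] at hkey
  rw [le_antisymm hkey hR₁R, hcard]

end Cfsg.Agent.S1454
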