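import Cfsg.Statements.S1450
import Cfsg.Agent.Lib.BGRankTwo
import Cfsg.Agent.Lib.TransferPResidual

set_option autoImplicit false
open Cfsg

namespace Cfsg.Agent.S1450

/-- Let G be a solvable group of odd order, p a prime dividing its order with G having no elementary abelian subgroup of order p ^ 3. Then every prime dividing the index of O_{p'}(G) is at most p; if p = 3 or p is the smallest prime divisor of #G then G has a normal p-complement; the derived subgroup G' has a normal p-complement; every subgroup of G' of order coprime to p lies in O_{p'}(G'); and G/O_{p',p}(G) is abelian of order coprime to p. -/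
theorem result {G : Type*} [Group G] [Finite G] [Group.IsSolvable G] (hodd : Odd (Nat.card G)) (p : ℕ) [Fact p.Prime] (hpG : p ∣ Nat.card G) (hr : Cfsg.PRankLE p 2 G) :
    (∀ q : ℕ, q.Prime → q ∣ (Cfsg.pPrimeCore p G).index → q ≤ p) ∧
      ((p = 3 ∨ ∀ q : ℕ, q.Prime → q ∣ Nat.card G → p ≤ q) → Cfsg.HasNormalPComplement p G) ∧
      Cfsg.HasNormalPComplement p ↥(commutator G) ∧
      (∀ L : Subgroup ↥(commutator G), (Nat.card L).Coprime p → L ≤ Cfsg.pPrimeCore p ↥(commutator G)) ∧
      commutator G ≤ Cfsg.pPrimePCore p G ∧ ((Cfsg.pPrimePCore p G).index).Coprime p := by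
  have hp : p.Prime := Fact.out
  have hp2 : p ≠ 2 := by
    rintro rfl
    exact Nat.not_even_iff_odd.2 hodd (even_iff_two_dvd.2 hpG)
  haveI := HallCore.pPrimeCore_normal p G
  have h1 : ∀ q : ℕ, q.Prime → q ∣ (Cfsg.pPrimeCore p G).index → q ≤ p := fun q hq hd =>
    BGRankTwo.prime_le_of_dvd_index hp2 hodd hr hq hd
  have h5 := BGRankTwo.commutator_le_pPrimePCore hp2 hodd hr
  have hcop : ¬ p ∣ Nat.card (Cfsg.pPrimeCore p G) := HallCore.not_dvd_card_pPrimeCore p G
  have hpow : ∀ x ∈ Cfsg.pPrimePCore p G, ∃ k, x ^ p ^ k ∈ Cfsg.pPrimeCore p G := by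
    intro x hx
    obtain ⟨k, hk⟩ := HallCore.isPGroup_pCore p _ ⟨_, Subgroup.mem_comap.1 hx⟩
    exact ⟨k, (QuotientGroup.eq_one_iff _).1 (by simpa using congrArg Subtype.val hk)⟩
  set N : Subgroup ↥(commutator G) := (Cfsg.pPrimeCore p G).subgroupOf (commutator G) with hN
  have hNcop : ¬ p ∣ Nat.card N := fun h => hcop (h.trans (HallCore.card_subgroupOf_dvd _ _))
  have hNp : IsPGroup p (↥(commutator G) ⧸ N) := by
    intro w
    obtain ⟨w, rfl⟩ := QuotientGroup.mk_surjective w
    obtain ⟨k, hk⟩ := hpow w (h5 w.2)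
    refine ⟨k, ?_⟩
    rw [← QuotientGroup.mk_pow, QuotientGroup.eq_one_iff]
    exact hk
  have hNle : N ≤ Cfsg.pPrimeCore p ↥(commutator G) :=
    HallCore.le_pPrimeCore (hp.coprime_iff_not_dvd.2 hNcop).symm
  refine ⟨h1, ?_, TransferPResidual.hasNormalPComplement_of_normal hNp hNcop, ?_, h5,
    BGRankTwo.index_pPrimePCore_coprime hp2 hodd hr⟩
  · intro h
    refine TransferPResidual.hasNormalPComplement_of_normal (N := Cfsg.pPrimeCore p G) ?_ hcop
    have hq : ∀ q : ℕ, q.Prime → q ∣ (Cfsg.pPrimeCore p G).index → q = p := by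
      intro q hq hd
      have hle := h1 q hq hd
      have hqG : q ∣ Nat.card G := hd.trans (Subgroup.index_dvd_card _)
      rcases h with h | h
      · subst h
        have := hq.two_le
        interval_cases q
        · exact absurd (hodd.of_dvd_nat hqG) (by decide)
        · rfl
      · exact le_antisymm hle (h q hq hqG)
    have hn : (Cfsg.pPrimeCore p G).index ≠ 0 := Subgroup.index_ne_zero_of_finite
    exact IsPGroup.of_card (n := (Cfsg.pPrimeCore p G).index.primeFactorsList.length) (by
      rw [← Subgroup.index_eq_card]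
      exact Nat.eq_prime_pow_of_unique_prime_dvd hn fun {d} hd hdvd => hq d hd hdvd)
  · intro L hL x hx
    obtain ⟨k, hk⟩ := hNp (QuotientGroup.mk x)
    rw [← QuotientGroup.mk_pow, QuotientGroup.eq_one_iff] at hk
    obtain ⟨m, hm⟩ := exists_pow_eq_self_of_coprime (x := x) (n := p ^ k)
      (Nat.Coprime.pow_left k ((hL.coprime_dvd_left (L.orderOf_dvd_natCard hx)).symm))
    exact hNle (hm ▸ pow_mem hk m)

end Cfsg.Agent.S1450
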