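import Cfsg.Statements.S1455
import Cfsg.Agent.Lib.PGroupsNarrow
import Cfsg.Agent.Lib.BGRankTwo
import Cfsg.Agent.Lib.HallConstrained
import Cfsg.Agent.Lib.TransferPResidual
import Cfsg.Agent.S1450
import Cfsg.Agent.S1454

set_option autoImplicit false
open Cfsg Cfsg.Agent Subgroup

namespace Cfsg.Agent.S1455

universe u

variable {G : Type u} [Group G] [Finite G] {p : ℕ} [Fact p.Prime]

/-- A group of `p`-length one has `O_{p',p}` of index prime to `p`. -/
theorem index_coprime_of_pLength (h : Cfsg.PLengthLE p 1 G) :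
    (Cfsg.pPrimePCore p G).index.Coprime p := by
  have hp : p.Prime := Fact.out
  haveI := HallCore.pPrimeCore_normal p G
  have hU1 : (Cfsg.upperPSeries p G 1).1 ≤ Cfsg.pPrimeCore p G := by
    refine HallCore.le_pPrimeCore ?_
    rw [show (Cfsg.upperPSeries p G 1).1 = _ from HallConstrained.upperPSeries_odd 0,
      ← HallCore.card_comap_mk']
    refine Nat.Coprime.mul_left (HallCore.coprime_card_pPrimeCore p _) ?_
    simp [HallConstrained.upperPSeries_zero]
  set U2 := (Cfsg.upperPSeries p G 2).1 with hU2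
  haveI : U2.Normal := (Cfsg.upperPSeries p G 2).2
  have h2 : U2 ≤ Cfsg.pPrimePCore p G := by
    rw [Cfsg.pPrimePCore, ← map_le_iff_le_comap]
    haveI : (U2.map (QuotientGroup.mk' (Cfsg.pPrimeCore p G))).Normal :=
      Subgroup.Normal.map inferInstance _ (QuotientGroup.mk'_surjective _)
    refine HallCore.le_pCore ?_
    rintro ⟨_, x, hx, rfl⟩
    have hx' : QuotientGroup.mk' (Cfsg.upperPSeries p G 1).1 x ∈
        Cfsg.pCore p (G ⧸ (Cfsg.upperPSeries p G 1).1) :=
      mem_comap.1 ((HallConstrained.upperPSeries_even (p := p) (G := G) 0).le hx)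
    obtain ⟨k, hk⟩ := HallCore.isPGroup_pCore p _ ⟨_, hx'⟩
    refine ⟨k, Subtype.ext ?_⟩
    show QuotientGroup.mk' (Cfsg.pPrimeCore p G) x ^ p ^ k = 1
    rw [← map_pow]
    refine (QuotientGroup.eq_one_iff _).2 (hU1 ((QuotientGroup.eq_one_iff _).1 ?_))
    simpa using congrArg Subtype.val hk
  refine Nat.Coprime.coprime_dvd_left (index_dvd_of_le h2) ?_
  have h3 : Cfsg.pPrimeCore p (G ⧸ U2) = ⊤ := by
    rw [eq_top_iff]
    intro w _
    obtain ⟨x, rfl⟩ := QuotientGroup.mk'_surjective U2 w
    exact mem_comap.1 ((HallConstrained.upperPSeries_odd (p := p) (G := G) 1).le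
      (h.ge (mem_top x)))
  rw [index_eq_card, ← Subgroup.card_top (G := G ⧸ U2), ← h3]
  exact HallCore.coprime_card_pPrimeCore p _

/-- `G' ≤ O_{p',p}(G)` and the primes dividing `|G : O_{p'}(G)|` are at most `p`, for a narrow
Sylow `p`-subgroup of rank at least three and `p`-length one. -/
theorem narrow_case [Group.IsSolvable G] (hodd : Odd (Nat.card G)) (hp2 : p ≠ 2) (S : Sylow p G)
    (hS : Cfsg.IsNarrow p ↥(S : Subgroup G)) (hr : ¬ Cfsg.PRankLE p 2 ↥(S : Subgroup G))
    (hidx : (Cfsg.pPrimePCore p G).index.Coprime p) :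
    commutator G ≤ Cfsg.pPrimePCore p G ∧
      ∀ q : ℕ, q.Prime → q ∣ (Cfsg.pPrimeCore p G).index → q ≤ p := by
  have hp : p.Prime := Fact.out
  haveI := HallCore.pPrimeCore_normal p G
  set K := Cfsg.pPrimeCore p G with hK
  set X := G ⧸ K
  set π := QuotientGroup.mk' K with hπ
  set Q := Cfsg.pCore p X with hQ
  haveI : Q.Normal := HallCore.pCore_normal p X
  have hC : centralizer (Q : Set X) ≤ Q := PConstrained.centralizer_pCore_quotient_le
    (HallSolvable.isPConstrained_of_isPSolvable (HallSolvable.isPSolvable_of_solvable p))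
  haveI := HallCore.pPrimePCore_normal p G
  have hSle : (S : Subgroup G) ≤ Cfsg.pPrimePCore p G := by
    intro s hs
    obtain ⟨k, hk⟩ := S.isPGroup' ⟨s, hs⟩
    refine (QuotientGroup.eq_one_iff _).1 (orderOf_eq_one_iff.1 (Nat.eq_one_of_dvd_coprimes
      (hidx.pow_right k) (Subgroup.index_eq_card (Cfsg.pPrimePCore p G) ▸ orderOf_dvd_natCard _)
      ((orderOf_map_dvd (QuotientGroup.mk' (Cfsg.pPrimePCore p G)) s).trans
        (orderOf_dvd_of_pow_eq_one (congrArg Subtype.val hk : s ^ p ^ k = 1)))))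
  let f : (S : Subgroup G) →* Q :=
    (π.comp (S : Subgroup G).subtype).codRestrict Q fun s => mem_comap.1 (hSle s.2)
  have hf : Function.Injective f := by
    rw [injective_iff_map_eq_one]
    intro s hs
    have hsK : (s : G) ∈ K := (QuotientGroup.eq_one_iff _).1 (congrArg Subtype.val hs)
    obtain ⟨k, hk⟩ := S.isPGroup' s
    exact orderOf_eq_one_iff.1 (Nat.eq_one_of_dvd_coprimes
      ((HallCore.coprime_card_pPrimeCore p G).pow_right k)
      ((Subgroup.orderOf_coe s) ▸ K.orderOf_dvd_natCard hsK)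
      (orderOf_dvd_of_pow_eq_one hk))
  have hQp : IsPGroup p Q := HallCore.isPGroup_pCore p X
  have hcard : Nat.card Q ≤ Nat.card (S : Subgroup G) := by
    obtain ⟨k, hk⟩ := IsPGroup.iff_card.1 hQp
    have hd : p ^ k ∣ Nat.card G :=
      hk ▸ (card_subgroup_dvd_card Q).trans (card_quotient_dvd_card K)
    obtain ⟨T, hT⟩ := Sylow.exists_subgroup_card_pow_prime p hd
    obtain ⟨P, hP⟩ := (IsPGroup.of_card hT).exists_le_sylow
    rw [hk, ← hT, S.card_eq_multiplicity, ← P.card_eq_multiplicity]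
    exact card_le_of_le hP
  let e : (S : Subgroup G) ≃* Q := MulEquiv.ofBijective f
    (hf.bijective_of_nat_card_le hcard)
  have hn : Cfsg.IsNarrow p Q := S1454.isNarrow_of_equiv e hS
  have hrQ : ¬ Cfsg.PRankLE p 2 Q := fun h =>
    hr (BGRankTwo.pRankLE_of_injective e.toMonoidHom e.injective h)
  obtain ⟨x, T, Z, -, -, -, hxp, hx1, hxr, -⟩ := PGroupsNarrow.exists_data hp2 hQp hn hrQ
  have hoddX : Odd (Nat.card X) := hodd.of_dvd_nat (card_quotient_dvd_card _)
  have hone : ∀ y : X, (orderOf y).Coprime p → (∀ v ∈ Q, Commute y v) → y = 1 := by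
    intro y hy hc
    obtain ⟨j, hj⟩ := hQp ⟨y, hC fun v hv => (hc v hv).eq.symm⟩
    exact orderOf_eq_one_iff.1 (Nat.eq_one_of_dvd_coprimes (hy.pow_right j) dvd_rfl
      (orderOf_dvd_of_pow_eq_one (congrArg Subtype.val hj)))
  refine ⟨?_, fun q hq hd => ?_⟩
  · have hcX : IsPGroup p (commutator X) := by
      rintro ⟨y, hy⟩
      obtain ⟨i, hi⟩ := GlaubermanStable.exists_pow_coprime (p := p) y
      exact ⟨i, Subtype.ext (hone _ hi (BGNarrowAction.commute_of_centralizer_rank hp2 hoddX hQp hxp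
        hx1 hxr (pow_mem hy _) hi))⟩
    intro g hg
    have h1 : π g ∈ commutator X := by
      have h2 : (commutator G).map π ≤ commutator X := by
        rw [_root_.commutator_def, map_commutator, _root_.commutator_def]
        exact commutator_mono le_top le_top
      exact h2 (mem_map_of_mem _ hg)
    exact HallCore.le_pCore hcX h1
  · rcases eq_or_ne q p with hqp | hqp
    · exact hqp.le
    haveI := Fact.mk hq
    rw [Subgroup.index_eq_card] at hd
    obtain ⟨y, hy⟩ := exists_prime_orderOf_dvd_card' (G := X) q hd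
    have hcop : (orderOf y).Coprime p := hy ▸ (Nat.coprime_primes hq hp).2 hqp
    have h1 : y ^ (p - 1) = 1 := hone _ (hcop.coprime_dvd_left (orderOf_pow_dvd _))
      (PGroupsNarrow.pow_pred_centralizes hp2 hQp hn hrQ hcop)
    have h2 : q ∣ p - 1 := hy ▸ orderOf_dvd_of_pow_eq_one h1
    have := Nat.le_of_dvd (by have := hp.two_le; omega) h2
    omega

/-- Let G be a solvable group of odd order, p a prime dividing its order, and S a Sylow p-subgroup of G that is narrow; if S has an elementary abelian subgroup of order p ^ 3 assume also G = O_{p',p,p'}(G). Then every prime dividing the index of O_{p'}(G) is at most p; if p = 3 or p is the smallest prime divisor of #G then G has a normal p-complement; G' has a normal p-complement; every subgroup of G' of order coprime to p lies in O_{p'}(G'); and G' ≤ O_{p',p}(G) with the index of O_{p',p}(G) coprime to p. -/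
theorem result {G : Type*} [Group G] [Finite G] [Group.IsSolvable G] (hodd : Odd (Nat.card G)) (p : ℕ) [Fact p.Prime] (hpG : p ∣ Nat.card G) (S : Sylow p G) (hS : Cfsg.IsNarrow p ↥(S : Subgroup G))
    (hpl : ¬ Cfsg.PRankLE p 2 ↥(S : Subgroup G) → Cfsg.PLengthLE p 1 G) :
    (∀ q : ℕ, q.Prime → q ∣ (Cfsg.pPrimeCore p G).index → q ≤ p) ∧
      ((p = 3 ∨ ∀ q : ℕ, q.Prime → q ∣ Nat.card G → p ≤ q) → Cfsg.HasNormalPComplement p G) ∧
      Cfsg.HasNormalPComplement p ↥(commutator G) ∧
      (∀ L : Subgroup ↥(commutator G), (Nat.card L).Coprime p → L ≤ Cfsg.pPrimeCore p ↥(commutator G)) ∧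
      commutator G ≤ Cfsg.pPrimePCore p G ∧ ((Cfsg.pPrimePCore p G).index).Coprime p := by
  have hp : p.Prime := Fact.out
  have hp2 : p ≠ 2 := by
    rintro rfl
    exact Nat.not_even_iff_odd.2 hodd (even_iff_two_dvd.2 hpG)
  by_cases hr : Cfsg.PRankLE p 2 ↥(S : Subgroup G)
  · refine Cfsg.Agent.S1450.result hodd p hpG fun A hA hAp => ?_
    obtain ⟨P, hP⟩ := (show IsPGroup p A from fun a => ⟨1, Subtype.ext (by
      rw [pow_one]; exact hAp a a.2)⟩).exists_le_sylow
    obtain ⟨g, hg⟩ := MulAction.exists_smul_eq G P S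
    have hrP : Cfsg.PRankLE p 2 ↥(P : Subgroup G) := by
      subst hg
      exact BGRankTwo.pRankLE_of_injective (P.equiv (g • P)).toMonoidHom (P.equiv _).injective hr
    rw [← Nat.card_congr (subgroupOfEquivOfLe hP).toEquiv]
    exact hrP _ (PGroupsBasic.isMulCommutative_of_forall fun u hu v hv =>
      Subtype.ext (PGroupsBasic.comm_of_isMulCommutative hA hu hv))
      fun u hu => Subtype.ext (by simpa using hAp _ hu)
  haveI := HallCore.pPrimeCore_normal p G
  have hidx := index_coprime_of_pLength (hpl hr)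
  obtain ⟨h5, h1⟩ := narrow_case hodd hp2 S hS hr hidx
  have hcop : ¬ p ∣ Nat.card (Cfsg.pPrimeCore p G) := HallCore.not_dvd_card_pPrimeCore p G
  have hpow : ∀ x ∈ Cfsg.pPrimePCore p G, ∃ k, x ^ p ^ k ∈ Cfsg.pPrimeCore p G := by
    intro x hx
    obtain ⟨k, hk⟩ := HallCore.isPGroup_pCore p _ ⟨_, Subgroup.mem_comap.1 hx⟩
    exact ⟨k, (QuotientGroup.eq_one_iff _).1 (by simpa using congrArg Subtype.val hk)⟩
  set N : Subgroup ↥(commutator G) := (Cfsg.pPrimeCore p G).subgroupOf (commutator G) with hN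
  have hNcop : ¬ p ∣ Nat.card N := fun h => hcop (h.trans (HallCore.card_subgroupOf_dvd _ _))
  have hNp : IsPGroup p (↥(commutator G) ⧸ N) := by
    intro w
    obtain ⟨w, rfl⟩ := QuotientGroup.mk_surjective w
    obtain ⟨k, hk⟩ := hpow w (h5 w.2)
    refine ⟨k, ?_⟩
    rw [← QuotientGroup.mk_pow, QuotientGroup.eq_one_iff]
    exact hk
  have hNle : N ≤ Cfsg.pPrimeCore p ↥(commutator G) :=
    HallCore.le_pPrimeCore (hp.coprime_iff_not_dvd.2 hNcop).symm
  refine ⟨h1, ?_, TransferPResidual.hasNormalPComplement_of_normal hNp hNcop, ?_, h5, hidx⟩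
  · intro h
    refine TransferPResidual.hasNormalPComplement_of_normal (N := Cfsg.pPrimeCore p G) ?_ hcop
    have hq : ∀ q : ℕ, q.Prime → q ∣ (Cfsg.pPrimeCore p G).index → q = p := by
      intro q hq hd
      have hle := h1 q hq hd
      have hqG : q ∣ Nat.card G := hd.trans (Subgroup.index_dvd_card _)
      rcases h with h | h
      · subst h
        have := hq.two_le
        interval_cases q
        · exact absurd (hodd.of_dvd_nat hqG) (by decide)
        · rfl
      · exact le_antisymm hle (h q hq hqG)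
    have hn : (Cfsg.pPrimeCore p G).index ≠ 0 := Subgroup.index_ne_zero_of_finite
    exact IsPGroup.of_card (n := (Cfsg.pPrimeCore p G).index.primeFactorsList.length) (by
      rw [← Subgroup.index_eq_card]
      exact Nat.eq_prime_pow_of_unique_prime_dvd hn fun {d} hd hdvd => hq d hd hdvd)
  · intro L hL x hx
    obtain ⟨k, hk⟩ := hNp (QuotientGroup.mk x)
    rw [← QuotientGroup.mk_pow, QuotientGroup.eq_one_iff] at hk
    obtain ⟨m, hm⟩ := exists_pow_eq_self_of_coprime (x := x) (n := p ^ k)
      (Nat.Coprime.pow_left k ((hL.coprime_dvd_left (L.orderOf_dvd_natCard hx)).symm))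
    exact hNle (hm ▸ pow_mem hk m)

end Cfsg.Agent.S1455
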