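import Cfsg.Statements.S1423
import Mathlib
import Cfsg.Agent.Lib.BGSigmaUniq72
import Cfsg.Agent.S1350
import Cfsg.Agent.S1422

set_option autoImplicit false
open Cfsg

namespace Cfsg.Agent.S1423

/-- Let G be a minimal simple group of odd order, M a maximal subgroup, p ∈ σ(M), X ≤ M a subgroup of order p and P a Sylow p-subgroup of M_σ. If p ∈ β(M) or X ≤ (M_σ)', then C_G(X) ≤ M, M is the unique maximal subgroup containing C_G(X), and M is the unique maximal subgroup containing P. -/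
theorem result {G : Type*} [Group G] [Finite G] (hG : Cfsg.IsMinSimpleOddOrder G)
    (M : Subgroup G) (hM : IsCoatom M) (p : ℕ) [Fact p.Prime] (hp : p ∈ Cfsg.sigma M) (X : Subgroup G) (hXM : X ≤ M) (hX : Nat.card X = p)
    (P : Sylow p ↥(Cfsg.sigmaCore M)) (h : p ∈ Cfsg.beta M ∨ X ≤ ⁅Cfsg.sigmaCore M, Cfsg.sigmaCore M⁆) :
    (Subgroup.centralizer (X : Set G) ≤ M ∧ ∀ L : Subgroup G, IsCoatom L → Subgroup.centralizer (X : Set G) ≤ L → L = M) ∧ Cfsg.InUniqueMaximal ((P : Subgroup ↥(Cfsg.sigmaCore M)).map (Cfsg.sigmaCore M).subtype) ∧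
      (P : Subgroup ↥(Cfsg.sigmaCore M)).map (Cfsg.sigmaCore M).subtype ≤ M := by
  have hσ := (S1350.result hG M hM).1
  set P' := (P : Subgroup ↥(Cfsg.sigmaCore M)).map (Cfsg.sigmaCore M).subtype with hP'
  have hmax : BGUnique.IsMaxP p P' M := BGFinal72.isMaxP_sylow_sigma hσ hp P
  have hXp : IsPGroup p X := IsPGroup.of_card (n := 1) (by rw [hX, pow_one])
  have hXS : X ≤ Cfsg.sigmaCore M :=
    BGFinal72.le_sigmaCore_of_piNat hσ hXM (BGSigma.piNat_of_isPGroup hXp hp)
  obtain ⟨P₀, hP₀⟩ := (hXp.comap_of_injective (Cfsg.sigmaCore M).subtype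
    (Cfsg.sigmaCore M).subtype_injective).exists_le_sylow
  set Q := (P₀ : Subgroup ↥(Cfsg.sigmaCore M)).map (Cfsg.sigmaCore M).subtype with hQ
  have hQmax : BGUnique.IsMaxP p Q M := BGFinal72.isMaxP_sylow_sigma hσ hp P₀
  have hXQ : X ≤ Q := by
    rw [← Subgroup.map_subgroupOf_eq_of_le hXS]; exact Subgroup.map_mono hP₀
  have hX1 : X ≠ ⊥ := fun e => by
    rw [e, Subgroup.card_bot] at hX; exact (Fact.out : p.Prime).one_lt.ne hX
  have hCne : Subgroup.centralizer (X : Set G) ≠ ⊤ := BGUnique.centralizer_subgroup_ne_top hG hX1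
  suffices key : Cfsg.InUniqueMaximal (Q ⊓ Subgroup.centralizer (X : Set G)) ∧
      Cfsg.InUniqueMaximal P' by
    have hCM : Subgroup.centralizer (X : Set G) ≤ M :=
      BGUnique.le_of_unique key.1 hM (inf_le_left.trans hQmax.le) inf_le_right hCne
    exact ⟨⟨hCM, fun L hL hle => BGUnique.eq_of_unique key.1 hL (inf_le_right.trans hle) hM
      (inf_le_left.trans hQmax.le)⟩, key.2, hmax.le⟩
  by_cases hpb : p ∈ Cfsg.beta M
  · obtain ⟨T, hT⟩ := (BGSigma.isMaxP_top_of_sigma hp hQmax).exists_sylow_top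
    obtain ⟨T', hT'⟩ := (BGSigma.isMaxP_top_of_sigma hp hmax).exists_sylow_top
    have hu := BGSigma.normalizer_inf_unique hG hpb.2 T (X := X) (hT ▸ hXQ)
    rw [hT] at hu
    refine ⟨?_, ?_⟩
    · have he : Q ⊓ Subgroup.normalizer (X : Set G) ≤ Q ⊓ Subgroup.centralizer (X : Set G) := by
        intro g hg
        refine ⟨hg.1, ?_⟩
        show g ∈ Subgroup.centralizer (X : Set G)
        rw [Subgroup.mem_centralizer_iff]
        intro x hx
        haveI : IsCyclic X := isCyclic_of_prime_card (p := p) hX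
        have hgQ : IsPGroup p (Q ⊓ Subgroup.normalizer (X : Set G) : Subgroup G) :=
          hQmax.isPGroup.to_le inf_le_left
        exact (BGFinal72.commute_of_normalizes_prime hX hgQ inf_le_right hg hx).eq.symm
      exact BGUnique.unique_mono hu he (fun h => hCne (top_le_iff.1 (h ▸ inf_le_right)))
    · rw [← hT']
      exact BGSigma.unique_of_ideal hG hpb.2 T'.isPGroup' (BGSigma.not_isCyclic_of_ideal hG hpb.2 T')
  · obtain ⟨h1, h2⟩ := BGFinal72.sylow_centralizer_unique hG hM hp hpb hX (h.resolve_left hpb) P₀ hXQ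
    refine ⟨h1, S1422.result hG p P' hmax.isPGroup fun hc => h2 ?_⟩
    have e : ↥P' ≃* ↥Q :=
      (((P : Subgroup _).equivMapOfInjective _ (Cfsg.sigmaCore M).subtype_injective).symm.trans
        (P.equiv P₀)).trans ((P₀ : Subgroup _).equivMapOfInjective _ (Cfsg.sigmaCore M).subtype_injective)
    exact ⟨⟨fun a b => e.symm.injective (by rw [map_mul, map_mul]; exact hc.1.comm (e.symm a) (e.symm b))⟩⟩

end Cfsg.Agent.S1423
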