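import Cfsg.Statements.S1426
import Cfsg.Agent.Lib.BGPrimeCompl
import Cfsg.Agent.Lib.BGSigmaRank
import Cfsg.Agent.S1416
import Cfsg.Agent.S1423

set_option autoImplicit false
set_option linter.style.haveILetI false
open Cfsg

namespace Cfsg.Agent.S1426

open Subgroup
open Cfsg.Agent.BGUnique
open scoped commutatorElement Pointwise

variable {G : Type*} [Group G] [Finite G]

/-- `⁅A ⊔ B, A ⊔ B⁆ ≤ N` as soon as the generators commute modulo `N`. -/
theorem mem_normalizer_sup' {A B : Subgroup G} {g : G} (hA : g ∈ normalizer (A : Set G))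
    (hB : g ∈ normalizer (B : Set G)) : g ∈ normalizer ((A ⊔ B : Subgroup G) : Set G) := by
  refine CoprimeAction.mem_normalizer_of_conj_smul_eq ?_
  rw [smul_sup, BGSigma.conj_le_normalizer hA, BGSigma.conj_le_normalizer hB]

/-- Commutators modulo `N`. -/
theorem commutator_sup_le' {A B N : Subgroup G} (hN : A ⊔ B ≤ normalizer (N : Set G))
    (hNle : N ≤ A ⊔ B) (hAA : ⁅A, A⁆ ≤ N) (hAB : ⁅A, B⁆ ≤ N) (hBB : ⁅B, B⁆ ≤ N) :
    ⁅A ⊔ B, A ⊔ B⁆ ≤ N := by
  set L := A ⊔ B with hL
  haveI : (N.subgroupOf L).Normal := normal_subgroupOf_of_le_normalizer hN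
  set π := QuotientGroup.mk' (N.subgroupOf L) with hπ
  have key : ∀ x y : L, ⁅(x : G), (y : G)⁆ ∈ N → Commute (π x) (π y) := by
    intro x y h
    rw [← commutatorElement_eq_one_iff_commute, ← map_commutatorElement, hπ,
      QuotientGroup.mk'_apply, QuotientGroup.eq_one_iff, mem_subgroupOf]
    exact h
  have hgen : (A.subgroupOf L ⊔ B.subgroupOf L : Subgroup L) = ⊤ := by
    rw [← subgroupOf_sup le_sup_left le_sup_right]; exact subgroupOf_self L
  have hc : ∀ x y : L, Commute (π x) (π y) := by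
    have h1 : ∀ x : L, ((x : G) ∈ A ∨ (x : G) ∈ B) → ∀ y : L, Commute (π x) (π y) := by
      intro x hx y
      have hy : y ∈ (A.subgroupOf L ⊔ B.subgroupOf L : Subgroup L) := hgen ▸ mem_top y
      rw [Subgroup.sup_eq_closure] at hy
      induction hy using closure_induction with
      | mem z hz =>
        rcases hx with hx | hx <;> rcases hz with hz | hz
        · exact key _ _ (hAA (commutator_mem_commutator hx hz))
        · exact key _ _ (hAB (commutator_mem_commutator hx hz))
        · exact (key _ _ (hAB (commutator_mem_commutator hz hx))).symm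
        · exact key _ _ (hBB (commutator_mem_commutator hx hz))
      | one => rw [map_one]; exact Commute.one_right _
      | mul a b _ _ iha ihb => rw [map_mul]; exact iha.mul_right ihb
      | inv a _ iha => rw [map_inv]; exact iha.inv_right
    intro x y
    have hx : x ∈ (A.subgroupOf L ⊔ B.subgroupOf L : Subgroup L) := hgen ▸ mem_top x
    rw [Subgroup.sup_eq_closure] at hx
    induction hx using closure_induction with
    | mem z hz => exact h1 z hz y
    | one => rw [map_one]; exact Commute.one_left _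
    | mul a b _ _ iha ihb => rw [map_mul]; exact iha.mul_left ihb
    | inv a _ iha => rw [map_inv]; exact iha.inv_left
  rw [commutator_le]
  intro x hx y hy
  have h := hc ⟨x, hx⟩ ⟨y, hy⟩
  rw [← commutatorElement_eq_one_iff_commute, ← map_commutatorElement, hπ,
      QuotientGroup.mk'_apply, QuotientGroup.eq_one_iff, mem_subgroupOf] at h
  exact h

/-- A solvable group generated by its derived group and a normal subgroup equals that subgroup. -/
theorem eq_of_sup_commutator {A K : Subgroup G} [hs : Group.IsSolvable A] (hKA : K ≤ A)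
    (hK : A ≤ normalizer (K : Set G)) (h : A ≤ ⁅A, A⁆ ⊔ K) : K = A := by
  refine le_antisymm hKA ?_
  haveI : (K.subgroupOf A).Normal := normal_subgroupOf_of_le_normalizer hK
  set π := QuotientGroup.mk' (K.subgroupOf A) with hπ
  have h1 : commutator (↥A ⧸ K.subgroupOf A) = ⊤ := by
    rw [eq_top_iff]
    intro z _
    obtain ⟨a, rfl⟩ := QuotientGroup.mk'_surjective (K.subgroupOf A) z
    have hA' : (⁅A, A⁆ : Subgroup G) ≤ A := commutator_le_self A
    have ha : a ∈ ((⁅A, A⁆).subgroupOf A ⊔ K.subgroupOf A : Subgroup A) := by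
      rw [← subgroupOf_sup hA' hKA]
      exact h a.2
    have h2 : ((⁅A, A⁆).subgroupOf A ⊔ K.subgroupOf A : Subgroup A).map π ≤ commutator _ := by
      rw [Subgroup.map_sup, hπ, QuotientGroup.map_mk'_self, sup_bot_eq]
      have : (⁅A, A⁆).subgroupOf A = commutator A := by
        rw [← map_subtype_commutator, BGSigma.subgroupOf_map_subtype_self]
      rw [this, _root_.commutator_def, map_commutator, _root_.commutator_def]
      exact commutator_mono le_top le_top
    exact h2 (mem_map_of_mem π ha)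
  haveI : Group.IsSolvable (↥A ⧸ K.subgroupOf A) :=
    Group.isSolvable_of_surjective (QuotientGroup.mk'_surjective _)
  intro a ha
  by_contra hne
  haveI : Nontrivial (↥A ⧸ K.subgroupOf A) := by
    refine ⟨⟨π ⟨a, ha⟩, 1, fun e => hne ?_⟩⟩
    rwa [hπ, QuotientGroup.mk'_apply, QuotientGroup.eq_one_iff, mem_subgroupOf] at e
  exact (Group.IsSolvable.commutator_lt_top_of_nontrivial _).ne h1

theorem commutator_eq_core (hG : Cfsg.IsMinSimpleOddOrder G) {M E : Subgroup G} (hM : IsCoatom M)
    (hE : Cfsg.IsComplIn E (Cfsg.sigmaCore M) M) :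
    ⁅Cfsg.sigmaCore M, E⁆ = Cfsg.sigmaCore M := by
  set S := Cfsg.sigmaCore M with hS
  have hnS : M ≤ normalizer (S : Set G) := BGPrime.le_normalizer_sigmaCore M
  set K := ⁅S, E⁆ with hK
  have hKS : K ≤ S := le_normalizer_iff_commutator_le_left.1 (hE.1.trans hnS)
  have hnK : M ≤ normalizer (K : Set G) := by
    rw [← BGPrime.sup_compl_eq hE]
    exact sup_le (normalizer_commutator_ge_right S E) (normalizer_commutator_ge_left S E)
  set D := ⁅S, S⁆ with hD
  have hDS : D ≤ S := commutator_le_self S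
  have hnD : M ≤ normalizer (D : Set G) := hnS.trans (by
    have h := ComponentsCores.normalizer_le_normalizer_map_subtype S (commutator ↥S)
    rwa [Subgroup.map_subtype_commutator] at h)
  set W := D ⊔ K with hW
  have hWS : W ≤ S := sup_le hDS hKS
  have hnW : M ≤ normalizer (W : Set G) := fun m hm =>
    mem_normalizer_sup' (hnD hm) (hnK hm)
  set N := W ⊔ ⁅E, E⁆ with hN
  have hE' : ⁅E, E⁆ ≤ E := commutator_le_self E
  have hNsup : N ≤ S ⊔ E := sup_le (hWS.trans le_sup_left) (hE'.trans le_sup_right)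
  have hnN : S ⊔ E ≤ normalizer (N : Set G) := by
    refine sup_le (CoprimeAction.le_normalizer_of_conj_mem fun s hs x hx => ?_) ?_
    · rw [hN, Subgroup.sup_eq_closure] at hx
      induction hx using closure_induction with
      | mem z hz =>
        rcases hz with hz | hz
        · exact mem_sup_left ((mem_normalizer_iff.1 (hnW (BGPrime.sigmaCore_le M hs)) z).1 hz)
        · have h1 : ⁅s, z⁆ ∈ N :=
            mem_sup_left (mem_sup_right (commutator_mem_commutator hs (hE' hz)))
          have h2 := mul_mem h1 (mem_sup_right hz : z ∈ N)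
          rwa [commutatorElement_def, inv_mul_cancel_right] at h2
      | one => simp
      | mul a b _ _ iha ihb =>
        have := mul_mem iha ihb
        simpa [mul_assoc] using this
      | inv a _ iha =>
        have := inv_mem iha
        simpa [mul_assoc] using this
    · have he2 : E ≤ normalizer ((⁅E, E⁆ : Subgroup G) : Set G) := le_normalizer.trans (by
        have h := ComponentsCores.normalizer_le_normalizer_map_subtype E (commutator ↥E)
        rwa [Subgroup.map_subtype_commutator] at h)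
      exact fun e he => mem_normalizer_sup' (hnW (hE.1 he)) (he2 he)
  have hM' : ⁅M, M⁆ ≤ N := by
    rw [← BGPrime.sup_compl_eq hE, sup_comm]
    exact commutator_sup_le' hnN hNsup (le_sup_left.trans le_sup_left)
      (le_sup_right.trans le_sup_left) le_sup_right
  haveI := BGPrime.isSolvable_of_le_coatom hG hM (BGPrime.sigmaCore_le M)
  refine eq_of_sup_commutator hKS ((BGPrime.sigmaCore_le M).trans hnK) fun s hs => ?_
  have hsN : s ∈ N := hM' (BGSigma.sigmaCore_le_commutator hG hM hs)
  have hsN' : s ∈ (↑W * ↑⁅E, E⁆ : Set G) := by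
    rw [← coe_mul_of_right_le_normalizer_left W ⁅E, E⁆ ((hE'.trans hE.1).trans hnW)]
    exact hsN
  obtain ⟨w, hw, e, he, rfl⟩ := hsN'
  have : e ∈ E ⊓ S := ⟨hE' he, (mul_mem_cancel_left (hWS hw)).1 hs⟩
  rw [hE.2.2.1, mem_bot] at this
  simpa [this] using hw

theorem centralizer_le_commutator (hG : Cfsg.IsMinSimpleOddOrder G) {M E : Subgroup G}
    (hM : IsCoatom M) (hE : Cfsg.IsComplIn E (Cfsg.sigmaCore M) M) :
    Cfsg.sigmaCore M ⊓ centralizer (E : Set G) ≤ ⁅Cfsg.sigmaCore M, Cfsg.sigmaCore M⁆ := by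
  set S := Cfsg.sigmaCore M with hS
  have hSM : S ≤ M := BGPrime.sigmaCore_le M
  have hnS : M ≤ normalizer (S : Set G) := BGPrime.le_normalizer_sigmaCore M
  set D := ⁅S, S⁆ with hD
  have hnD : M ≤ normalizer (D : Set G) := hnS.trans (by
    have h := ComponentsCores.normalizer_le_normalizer_map_subtype S (commutator ↥S)
    rwa [Subgroup.map_subtype_commutator] at h)
  haveI : (D.subgroupOf M).Normal := normal_subgroupOf_of_le_normalizer hnD
  set π := QuotientGroup.mk' (D.subgroupOf M) with hπ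
  set V := (S.subgroupOf M).map π with hV
  haveI : IsMulCommutative V := by
    refine PGroupsBasic.isMulCommutative_of_forall ?_
    rintro _ ⟨x, hx, rfl⟩ _ ⟨y, hy, rfl⟩
    have h : Commute (π x) (π y) := by
      rw [← commutatorElement_eq_one_iff_commute, ← map_commutatorElement, hπ,
        QuotientGroup.mk'_apply, QuotientGroup.eq_one_iff, mem_subgroupOf]
      exact commutator_mem_commutator hx hy
    exact h.eq
  have hAK : E.subgroupOf M ≤ normalizer (S.subgroupOf M : Set M) := by
    rw [← subgroupOf_normalizer_eq hSM]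
    exact fun e he => hnS (hE.1 he)
  have hcop : (Nat.card (E.subgroupOf M)).Coprime (Nat.card (S.subgroupOf M)) := by
    rw [Nat.card_congr (subgroupOfEquivOfLe hE.1).toEquiv,
      Nat.card_congr (subgroupOfEquivOfLe hSM).toEquiv]
    exact BGPrime.compl_coprime hG hM hE
  have hAV : (E.subgroupOf M).map π ≤ normalizer (V : Set (↥M ⧸ D.subgroupOf M)) :=
    (map_mono hAK).trans (le_normalizer_map π)
  haveI : Group.IsSolvable (S.subgroupOf M) :=
    haveI := isSolvable_of_ne_top hG hM.1
    inferInstance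
  have h0 := CoprimeAction.inf_centralizer_inf_commutator_eq_bot (A := (E.subgroupOf M).map π)
    (V := V) hAV ((hcop.coprime_dvd_left (card_map_dvd _ π)).coprime_dvd_right (card_map_dvd _ π))
  have hVA : ⁅V, (E.subgroupOf M).map π⁆ = V := by
    rw [hV, ← map_commutator]
    congr 1
    apply map_injective M.subtype_injective
    rw [map_commutator, map_subgroupOf_eq_of_le hSM, map_subgroupOf_eq_of_le hE.1,
      commutator_eq_core hG hM hE]
  rw [hVA, inf_eq_left.2 inf_le_left] at h0
  intro x hx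
  have hxV : π ⟨x, hSM hx.1⟩ ∈ V ⊓ centralizer ((E.subgroupOf M).map π : Set (↥M ⧸ D.subgroupOf M)) := by
    refine ⟨mem_map_of_mem π (show (⟨x, hSM hx.1⟩ : M) ∈ S.subgroupOf M from hx.1), ?_⟩
    refine mem_centralizer_iff.2 ?_
    rintro _ ⟨e, he, rfl⟩
    rw [← map_mul, ← map_mul]
    exact congrArg π (Subtype.ext (mem_centralizer_iff.1 hx.2 _ he))
  have h1 : π ⟨x, hSM hx.1⟩ = 1 := by
    rw [← mem_bot, ← h0]
    exact ⟨hxV.1, hxV.2⟩
  rwa [hπ, QuotientGroup.mk'_apply, QuotientGroup.eq_one_iff, mem_subgroupOf] at h1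

/-- Let G be a minimal simple group of odd order, M a maximal subgroup and E a complement to M_σ in M. Then M_σ ∩ C_G(E) ≤ (M_σ)', the commutator subgroup [M_σ, E] equals M_σ, and for every g outside M the intersection M_σ ∩ gMg⁻¹ is cyclic, has no prime divisor in β(M), and meets (M_σ)' trivially. -/
theorem result {G : Type*} [Group G] [Finite G] (hG : Cfsg.IsMinSimpleOddOrder G)
    (M : Subgroup G) (hM : IsCoatom M) (E : Subgroup G) (hE : Cfsg.IsComplIn E (Cfsg.sigmaCore M) M) :
    Cfsg.sigmaCore M ⊓ Subgroup.centralizer (E : Set G) ≤ ⁅Cfsg.sigmaCore M, Cfsg.sigmaCore M⁆ ∧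
      ⁅Cfsg.sigmaCore M, E⁆ = Cfsg.sigmaCore M ∧
      ∀ g : G, g ∉ M → IsCyclic ↥(Cfsg.sigmaCore M ⊓ M.map (MulAut.conj g).toMonoidHom) ∧
        (∀ p : ℕ, p.Prime → p ∣ Nat.card ↥(Cfsg.sigmaCore M ⊓ M.map (MulAut.conj g).toMonoidHom) → p ∉ Cfsg.beta M) ∧
        Cfsg.sigmaCore M ⊓ M.map (MulAut.conj g).toMonoidHom ⊓ ⁅Cfsg.sigmaCore M, Cfsg.sigmaCore M⁆ = ⊥ := by
  refine ⟨centralizer_le_commutator hG hM hE, commutator_eq_core hG hM hE, fun g hg => ?_⟩
  set S := Cfsg.sigmaCore M with hS
  set I := S ⊓ M.map (MulAut.conj g).toMonoidHom with hI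
  have hIM : I ≤ M := inf_le_left.trans (BGPrime.sigmaCore_le M)
  -- no centralizer of a nontrivial p-subgroup of I lies in M
  have hout : ∀ (p : ℕ) [Fact p.Prime] (X : Subgroup G), IsPGroup p X → X ≠ ⊥ → X ≤ I →
      ¬ centralizer (X : Set G) ≤ M := by
    intro p _ X hXp hX1 hXI hC
    have hp : p ∈ Cfsg.sigma M := BGPrime.piNat_sigmaCore M p Fact.out
      ((dvd_card_of_ne_bot hXp hX1).trans (card_dvd_of_le (hXI.trans inf_le_left)))
    have hconj : MulAut.conj g⁻¹ • X ≤ M := by
      rw [map_inv, pointwise_smul_subset_iff, inv_inv]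
      exact hXI.trans inf_le_right
    obtain ⟨m, hm, c, hc, hgc⟩ := BGSigma.fusion hG hM hp hXp hX1 (hXI.trans hIM) hconj
    refine hg ?_
    rw [← inv_mem_iff, hgc]
    exact mul_mem hm (hC hc)
  have hcyc : ∀ (p : ℕ) [Fact p.Prime] (Q : Subgroup G), IsPGroup p Q → Q ≤ I → IsCyclic Q := by
    intro p _ Q hQ hQI
    by_contra hnc
    obtain ⟨B, hBQ, hB, hBc⟩ := exists_elementary_sq_of_noncyclic hG hQ hnc
    have hB1 : B ≠ ⊥ := fun h => by
      rw [h, card_bot] at hBc
      exact (Nat.one_lt_pow two_ne_zero (Fact.out : p.Prime).one_lt).ne hBc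
    exact hout p B (hQ.to_le hBQ) hB1 (hBQ.trans hQI)
      (S1416.result hG M hM p B ⟨hBQ.trans (hQI.trans hIM), hB, hBc⟩).1
  have hno : ∀ (p : ℕ) [Fact p.Prime] (X : Subgroup G), Nat.card X = p → X ≤ I →
      p ∉ Cfsg.beta M ∧ ¬ X ≤ ⁅S, S⁆ := by
    intro p _ X hX hXI
    have hXp : IsPGroup p X := IsPGroup.of_card (n := 1) (by rw [hX, pow_one])
    have hX1 : X ≠ ⊥ := fun h => by
      rw [h, card_bot] at hX
      exact (Fact.out : p.Prime).one_lt.ne hX
    have hp : p ∈ Cfsg.sigma M := BGPrime.piNat_sigmaCore M p Fact.out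
      ((dvd_card_of_ne_bot hXp hX1).trans (card_dvd_of_le (hXI.trans inf_le_left)))
    obtain ⟨P⟩ := (inferInstance : Nonempty (Sylow p ↥S))
    have h := fun h => hout p X hXp hX1 hXI
      (S1423.result hG M hM p hp X (hXI.trans hIM) hX P h).1.1
    exact ⟨fun hb => h (Or.inl hb), fun hd => h (Or.inr hd)⟩
  have hbeta : ∀ p : ℕ, p.Prime → p ∣ Nat.card I → p ∉ Cfsg.beta M := by
    intro p hp hd
    haveI := Fact.mk hp
    obtain ⟨x, hx⟩ := exists_prime_orderOf_dvd_card' p hd
    exact (hno p (zpowers (x : G)) (by rw [Nat.card_zpowers, orderOf_coe, hx])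
      (zpowers_le.2 x.2)).1
  have hdisj : I ⊓ ⁅S, S⁆ = ⊥ := by
    by_contra hne
    obtain ⟨p, hp, hd⟩ := Nat.exists_prime_and_dvd (fun h1 => hne (eq_bot_of_card_eq _ h1))
    haveI := Fact.mk hp
    obtain ⟨x, hx⟩ := exists_prime_orderOf_dvd_card' p hd
    exact (hno p (zpowers (x : G)) (by rw [Nat.card_zpowers, orderOf_coe, hx])
      (zpowers_le.2 x.2.1)).2 (zpowers_le.2 x.2.2)
  refine ⟨?_, hbeta, hdisj⟩
  haveI : IsMulCommutative I := PGroupsBasic.isMulCommutative_of_forall fun a ha b hb => by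
    have h1 : ⁅a, b⁆ ∈ I ⊓ ⁅S, S⁆ :=
      ⟨by rw [commutatorElement_def]; exact I.mul_mem (I.mul_mem (I.mul_mem ha hb) (I.inv_mem ha)) (I.inv_mem hb),
        commutator_mem_commutator ha.1 hb.1⟩
    rw [hdisj, mem_bot] at h1
    exact commutatorElement_eq_one_iff_mul_comm.1 h1
  haveI : IsZGroup I := ⟨fun p hp P => by
    haveI := Fact.mk hp
    have := hcyc p ((P : Subgroup I).map I.subtype) (P.isPGroup'.map _) (map_subtype_le _)
    exact ((P : Subgroup I).equivMapOfInjective _ I.subtype_injective).isCyclic.2 this⟩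
  letI : CommGroup I :=
    { (inferInstance : Group I) with mul_comm := fun x y => mul_comm' x y }
  infer_instance

end Cfsg.Agent.S1426
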