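import Cfsg.Statements.S1352
import Cfsg.Agent.Lib.BG14Struct83
-- import your own Cfsg.Agent.* helpers here

set_option autoImplicit false
open Cfsg

namespace Cfsg.Agent.S1352

open Subgroup Cfsg.Agent.BG14 Cfsg.Agent.HallCore
open scoped IsMulCommutative commutatorElement

/-- Let G be a minimal simple group of odd order, M a maximal subgroup and K a cyclic Hall κ(M)-subgroup of M. Then there is a subgroup U of M, normalized by K, with U ∩ K M_σ = 1 and M = U K M_σ; moreover U M_σ is normal in M for any such U. -/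
theorem result {G : Type*} [Group G] [Finite G] (hG : Cfsg.IsMinSimpleOddOrder G)
    (M : Subgroup G) (hM : IsCoatom M) (K : Subgroup G)
    (hKc : IsCyclic K) (hK : Cfsg.IsPiHallOf (Cfsg.kappa M) K M) :
    (∃ U : Subgroup G, Cfsg.IsSigmaDecomposition M K U) ∧
      ∀ U : Subgroup G, Cfsg.IsSigmaDecomposition M K U → M ≤ Subgroup.normalizer ((U ⊔ Cfsg.sigmaCore M : Subgroup G) : Set G) := by
  refine ⟨?_, fun U hU => decomp_normal hU⟩
  obtain ⟨E, hE, hKE⟩ := exists_compl_kappa hG hM hK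
  obtain ⟨U, hUE, hEU, hU⟩ := exists_U hG hM hE
  have hUK : U ⊓ K = ⊥ := by
    rw [inf_comm]
    exact BGTypeP.inf_eq_bot_of_piNat hK.2.1 (PiNat.mono hU.2.1 fun _ h => h.2.1)
  have hUσ : (Nat.card ↥(U ⊔ K)).Coprime (Nat.card (Cfsg.sigmaCore M)) :=
    ((PiNat.coprime (BGTypeP.piNat_sigmaCore M)
      (BGTypeP.hallOf_iff.1 (compl_hall hG hM hE)).2.1).symm).coprime_dvd_left
      (card_dvd_of_le (sup_le hUE hKE))
  -- `E = U K`
  have hEUK : E ≤ U ⊔ K := by
    have hN : (U ⊔ K).relIndex E = 1 := by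
      by_contra hne
      obtain ⟨q, hq, hd⟩ := Nat.exists_prime_and_dvd hne
      have hdE : q ∣ Nat.card E := hd.trans (relIndex_dvd_card _ _)
      have hle : U ⊔ K ≤ E := sup_le hUE hKE
      have hdM : q ∣ (U ⊔ K).relIndex M := by
        rw [← relIndex_mul_relIndex (U ⊔ K) E M hle hE.1]
        exact dvd_mul_of_dvd_left hd _
      by_cases hk : q ∈ Cfsg.kappa M
      · exact hK.2.2 q hq hk (hdM.trans (relIndex_dvd_of_le_left M le_sup_right))
      · exact hU.2.2 q hq ⟨hq, hk, (compl_prime hG hM hE hq hdE).1⟩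
          (hdM.trans (relIndex_dvd_of_le_left M le_sup_left))
    exact relIndex_eq_one.1 hN
  refine ⟨U, hKc, hK, ⟨hU.1, sup_le hK.1 (BGFinal72.sigmaCore_le M), ?_, fun m hm => ?_⟩,
    hKE.trans hEU⟩
  · refine eq_bot_iff.2 fun x hx => ?_
    obtain ⟨hxU, hxKS⟩ := mem_inf.1 hx
    rw [← SetLike.mem_coe, coe_mul_of_left_le_normalizer_right _ _
      (hK.1.trans (BGFinal72.le_normalizer_sigmaCore M))] at hxKS
    obtain ⟨k, hk, s, hs, rfl⟩ := Set.mem_mul.1 hxKS
    have hsE : s ∈ (U ⊔ K) ⊓ Cfsg.sigmaCore M := by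
      refine mem_inf.2 ⟨?_, hs⟩
      have := mul_mem ((U ⊔ K).inv_mem (mem_sup_right hk)) (mem_sup_left (T := K) hxU)
      simpa using this
    rw [inf_eq_bot_of_coprime hUσ, mem_bot] at hsE
    rw [hsE, mul_one] at hxU ⊢
    rw [← hUK]
    exact mem_inf.2 ⟨hxU, hk⟩
  · obtain ⟨e, he, a, ha, rfl⟩ := hE.2.2.2 m hm
    have he' := hEUK he
    rw [← SetLike.mem_coe, coe_mul_of_right_le_normalizer_left _ _ (hKE.trans hEU)] at he'
    obtain ⟨u, hu, k, hk, rfl⟩ := Set.mem_mul.1 he'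
    exact ⟨u, hu, k * a, mul_mem_sup hk ha, mul_assoc u k a⟩

end Cfsg.Agent.S1352
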