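import Cfsg.Statements.S1354
import Cfsg.Agent.Lib.BG14Struct83
-- import your own Cfsg.Agent.* helpers here

set_option autoImplicit false
open Cfsg

namespace Cfsg.Agent.S1354

open Subgroup Cfsg.Agent.BG14 Cfsg.Agent.HallCore
open scoped IsMulCommutative commutatorElement

/-- Let G be a minimal simple group of odd order, M a maximal subgroup and K a cyclic Hall κ(M)-subgroup of M, and put K* = M_σ ∩ C_G(K). Then K* ≠ 1, and if K ≠ 1 then for every non-identity k ∈ K the centralizer C_M(k) is the subgroup generated by K and K* (an internal direct product, as K ∩ M_σ = 1 and K* centralizes K). -/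
theorem result {G : Type*} [Group G] [Finite G] (hG : Cfsg.IsMinSimpleOddOrder G)
    (M : Subgroup G) (hM : IsCoatom M) (K : Subgroup G)
    (hKc : IsCyclic K) (hK : Cfsg.IsPiHallOf (Cfsg.kappa M) K M) :
    Cfsg.sigmaCore M ⊓ Subgroup.centralizer (K : Set G) ≠ ⊥ ∧
      (K ≠ ⊥ → ∀ k ∈ K, k ≠ 1 →
        M ⊓ Subgroup.centralizer ({k} : Set G) = K ⊔ (Cfsg.sigmaCore M ⊓ Subgroup.centralizer (K : Set G))) := by
  refine ⟨?_, fun hK1 k hk hk1 => ?_⟩
  · by_cases hK1 : K = ⊥
    · subst hK1
      intro h
      refine BGSigma.sigmaCore_ne_bot hG hM (eq_bot_iff.2 (h ▸ le_inf le_rfl ?_))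
      intro x _ y hy
      simp only [SetLike.mem_coe, mem_bot] at hy
      simp [hy]
    · obtain ⟨E, hE, hKE⟩ := exists_compl_kappa hG hM hK
      exact (hall_kappa_action hG hM hK hK1 hE hKE).1
  · obtain ⟨r, X, hr, hX, hXc, hle⟩ := exists_prime_le hG hM hk hk1
    refine le_antisymm ?_ (sup_le (le_inf hK.1 ?_) (le_inf ?_ ?_))
    · rw [← normalizer_prime hG hM hK hK1 hr hX hXc]
      exact inf_le_inf_left _ (hle.trans (centralizer_le_normalizer _))
    · haveI := hKc
      haveI : IsMulCommutative K := inferInstance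
      exact fun a ha => mem_centralizer_singleton_iff.2
        (PGroupsBasic.comm_of_isMulCommutative (inferInstance : IsMulCommutative K) ha hk)
    · exact inf_le_left.trans (BGFinal72.sigmaCore_le M)
    · exact inf_le_right.trans (centralizer_le (by simpa using hk))

end Cfsg.Agent.S1354
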