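import Cfsg.Statements.S1359
import Mathlib
import Cfsg.Agent.Lib.BGFinalU72
import Cfsg.Agent.S1421

set_option autoImplicit false
open Cfsg

namespace Cfsg.Agent.S1359

/-- Let G be a minimal simple group of odd order and M a maximal subgroup with standard factorisation M = K U M_σ. Then the subgroup generated by those elements of U which centralize some non-identity element of M_σ is abelian. -/
theorem result {G : Type*} [Group G] [Finite G] (hG : Cfsg.IsMinSimpleOddOrder G)
    (M : Subgroup G) (hM : IsCoatom M) (K U : Subgroup G) (hKU : Cfsg.IsSigmaDecomposition M K U) :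
    IsMulCommutative (Subgroup.closure ((U : Set G) ∩ Cfsg.sigmaHat M)) := by
  have hσ := (S1350.result hG M hM).1
  by_cases hK : K = ⊥
  · have hE := BGFinal72.compl_of_K_bot hKU hK
    obtain ⟨⟨A₀, -, -, hA₀, hcen⟩, -⟩ := S1421.result hG M hM U hE fun e he he1 hπ => by
      rw [Subgroup.eq_bot_iff_forall]
      intro y hy
      by_contra hy1
      have hey : e * y = y * e := Subgroup.mem_centralizer_iff.1 hy.2 e rfl
      obtain ⟨q, hq, hqd⟩ := Nat.exists_prime_and_dvd
        (show orderOf e ≠ 1 from fun h1 => he1 (orderOf_eq_one_iff.1 h1))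
      obtain ⟨-, -, -, hr⟩ := BGFinal72.orderOf_tau2 hG hM hσ hKU he hy.1 hy1 hey q hq hqd
      rcases hπ q hq hqd with h | h
      · exact hr h.2.2.2.2
      · exact hr h.2.2.2
    have hle : Subgroup.closure ((U : Set G) ∩ Cfsg.sigmaHat M) ≤ A₀ :=
      (Subgroup.closure_le _).2 fun u ⟨hu, _, y, hy, hy1, huy⟩ =>
        hcen y hy hy1 ⟨hu, Subgroup.mem_centralizer_iff.2 fun t ht => by
          rw [Set.mem_singleton_iff.1 ht]; exact huy.symm⟩
    exact ⟨⟨fun a b => Subtype.ext (PGroupsBasic.comm_of_isMulCommutative hA₀ (hle a.2) (hle b.2))⟩⟩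
  · have hU := BGFinal72.U_isMulCommutative hG hM hKU hK
    have hle : Subgroup.closure ((U : Set G) ∩ Cfsg.sigmaHat M) ≤ U :=
      (Subgroup.closure_le _).2 fun u hu => hu.1
    exact ⟨⟨fun a b => Subtype.ext (PGroupsBasic.comm_of_isMulCommutative hU (hle a.2) (hle b.2))⟩⟩

end Cfsg.Agent.S1359
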