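import Cfsg.Statements.S1418
import Cfsg.Agent.S1417

set_option autoImplicit false
open Cfsg

namespace Cfsg.Agent.S1418

open Subgroup
open scoped commutatorElement

/-- Let G be a minimal simple group of odd order, M a maximal subgroup, E a complement to M_σ in M, p ∈ τ₂(M), and A ≤ E elementary abelian of order p ^ 2. Then A is normal in E and contains every subgroup of E of order p; C_G(A) ≤ M ∩ N_G(A) = E and N_G(A) is not contained in M; and for every subgroup X ≤ A of order p centralizing a non-identity element of M_σ, C_G(X) ≤ M and M is the unique maximal subgroup containing C_G(X). -/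
theorem result {G : Type*} [Group G] [Finite G] (hG : Cfsg.IsMinSimpleOddOrder G)
    (M : Subgroup G) (hM : IsCoatom M) (E : Subgroup G) (hE : Cfsg.IsComplIn E (Cfsg.sigmaCore M) M) (p : ℕ) [Fact p.Prime] (hp : p ∈ Cfsg.tau2 M) (A : Subgroup G) (hA : (A ≤ E ∧ Cfsg.IsElementaryAbelian p A ∧ Nat.card A = p ^ 2)) :
    (E ≤ Subgroup.normalizer (A : Set G) ∧ ∀ X : Subgroup G, X ≤ E → Nat.card X = p → X ≤ A) ∧
      (Subgroup.centralizer (A : Set G) ≤ M ⊓ Subgroup.normalizer (A : Set G) ∧ M ⊓ Subgroup.normalizer (A : Set G) = E ∧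
        ¬ Subgroup.normalizer (A : Set G) ≤ M) ∧
      ∀ X : Subgroup G, X ≤ A → Nat.card X = p → Cfsg.sigmaCore M ⊓ Subgroup.centralizer (X : Set G) ≠ ⊥ → (Subgroup.centralizer (X : Set G) ≤ M ∧ ∀ L : Subgroup G, IsCoatom L → Subgroup.centralizer (X : Set G) ≤ L → L = M) := by
  obtain ⟨hAE, hAe, hAc⟩ := hA
  have hAM : A ≤ M := hAE.trans hE.1
  have h1417 := Cfsg.Agent.S1417.result hG M hM p hp A ⟨hAM, hAe, hAc⟩
  obtain ⟨-, -, -, hfix, hother, -⟩ := h1417
  obtain ⟨A₀, h⟩ := Cfsg.Agent.S1417.exists_exc hG hM hp.2.1 ⟨hAM, hAe, hAc⟩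
  have hEA := BGExc.IsExc.le_normalizer_compl hG h hE hAE
  have hCA := BGExc.IsExc.centralizer_le h
  refine ⟨⟨hEA, fun X hXE hXc => ?_⟩, ⟨le_inf hCA (centralizer_le_normalizer _), ?_, ?_⟩, ?_⟩
  · have hXp : IsPGroup p X := IsPGroup.of_card (n := 1) (by rw [hXc, pow_one])
    exact fun x hx => BGExc.IsExc.mem_of_pow_eq_one hG h
      (IsPGroup.to_sup_of_normal_left' (BGExc.IsExc.isPGroup h) hXp (hXE.trans hEA))
      (sup_le hAM (hXE.trans hE.1)) le_sup_left (mem_sup_right hx)
      (PGroupsBasic.pow_eq_one_of_card hXc hx)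
  · refine le_antisymm ?_ (le_inf hE.1 hEA)
    rintro m ⟨hm, hmA⟩
    obtain ⟨e, he, s, hs, rfl⟩ := hE.2.2.2 m hm
    have hsA : s ∈ normalizer (A : Set G) := by
      simpa using mul_mem (inv_mem (hEA he)) hmA
    have hco : Cfsg.sigmaCore M ⊓ A = ⊥ := by
      rw [inf_comm]
      exact inf_eq_bot_of_coprime
        (BGExc.coprime_sigmaCore hG hM Fact.out hp.2.1 (BGExc.IsExc.isPGroup h))
    have hsC : s ∈ Cfsg.sigmaCore M ⊓ centralizer (A : Set G) := by
      refine ⟨hs, mem_centralizer_iff.2 fun a ha => ?_⟩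
      have h1 : ⁅s, a⁆ ∈ Cfsg.sigmaCore M ⊓ A := by
        refine ⟨?_, ?_⟩
        · have h2 := mul_mem hs ((mem_normalizer_iff.1 (BGExc.le_normalizer_sigmaCore M (hAM ha))
            s⁻¹).1 (inv_mem hs))
          simpa [commutatorElement_def, mul_assoc] using h2
        · have h2 := mul_mem ((mem_normalizer_iff.1 hsA a).1 ha) (inv_mem ha)
          simpa [commutatorElement_def, mul_assoc] using h2
      rw [hco, mem_bot, commutatorElement_eq_one_iff_mul_comm] at h1
      exact h1.symm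
    rw [hfix, mem_bot] at hsC
    rwa [hsC, mul_one]
  · intro hle
    obtain ⟨P, hP, hAP⟩ := BGUnique.exists_isMaxP_ge (BGExc.IsExc.isPGroup h) hAM
    exact BGExc.not_normalizer_le_maxP hp.2.1 hP (BGExc.dvd_card_of_sq hAM hAc)
      ((BGExc.IsExc.normalizer_maxP_le hG h hP.isPGroup hP.le hAP).trans hle)
  · intro X hXA hXc hne
    have hX1 : X ≠ ⊥ := fun h0 => by
      rw [h0, card_bot] at hXc
      exact (Fact.out : p.Prime).one_lt.ne hXc
    have key : ∀ L : Subgroup G, IsCoatom L → centralizer (X : Set G) ≤ L → L = M := by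
      intro L hL hle
      by_contra hLM
      refine hne (le_bot_iff.1 ?_)
      rw [← hother L hL hLM (((PGroupsBasic.le_centralizer_of_isMulCommutative hAe.1).trans
        (Subgroup.centralizer_le (SetLike.coe_subset_coe.2 hXA))).trans hle)]
      exact inf_le_inf_left _ hle
    refine ⟨?_, key⟩
    obtain ⟨L, hL, hle⟩ := BGUnique.exists_coatom_ge
      (BGUnique.centralizer_subgroup_ne_top hG hX1)
    exact key L hL hle ▸ hle

end Cfsg.Agent.S1418
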