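import Cfsg.Statements.S1451
import Cfsg.Agent.Lib.BGRankTwo

set_option autoImplicit false
open Cfsg

namespace Cfsg.Agent.S1451

open Subgroup BGRankTwo
open scoped commutatorElement

/-- Let G be a solvable group of odd order such that G, or its Fitting subgroup, has no elementary abelian subgroup of order q ^ 3 for any prime q. Then G' is nilpotent; for every Sylow subgroup S of G, every characteristic subgroup T of S with T ≤ [S, S] is normal in G; and for every prime p, G has a characteristic subgroup that is a Hall subgroup for the set of primes greater than p. -/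
theorem result {G : Type*} [Group G] [Finite G] [Group.IsSolvable G] (hodd : Odd (Nat.card G)) (hr : Cfsg.RankLE 2 G ∨ Cfsg.RankLE 2 (Cfsg.fittingSubgroup G)) :
    Group.IsNilpotent ↥(commutator G) ∧
      (∀ (q : ℕ) [Fact q.Prime] (S : Sylow q G) (T : Subgroup ↥(S : Subgroup G)), T.Characteristic → T.map (S : Subgroup G).subtype ≤ ⁅(S : Subgroup G), (S : Subgroup G)⁆ →
        (T.map (S : Subgroup G).subtype).Normal) ∧
      ∀ p : ℕ, ∃ N : Subgroup G, N.Characteristic ∧ Cfsg.IsPiHall {q | q.Prime ∧ p < q} N := by
  have hF : ∀ q : ℕ, q.Prime → Cfsg.PRankLE q 2 ↥(Cfsg.pCore q G) := fun q hq => by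
    rcases hr with h | h
    · exact pRankLE_of_injective _ (Cfsg.pCore q G).subtype_injective (h q hq)
    · exact pRankLE_mono (ComponentsFitting.pCore_le_fitting hq) (h q hq)
  have hle := commutator_le_fitting hodd hF
  haveI : Group.IsNilpotent ↥(Cfsg.fittingSubgroup G) := ComponentsFitting.fittingSubgroup_isNilpotent
  refine ⟨ComponentsCores.nilpotent_of_le hle inferInstance, ?_, ?_⟩
  · intro q hq S T hT hTle
    haveI := hT
    haveI := HallCore.pCore_normal q G
    set T' := T.map (S : Subgroup G).subtype with hT'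
    have hTS : T' ≤ (S : Subgroup G) := map_subtype_le T
    have hSN : (S : Subgroup G) ≤ normalizer (T' : Set G) := by
      haveI : T.Normal := Subgroup.normal_of_characteristic T
      intro s hs
      rw [mem_normalizer_iff]
      intro t
      constructor
      · rintro ⟨u, hu, rfl⟩
        exact ⟨⟨s, hs⟩ * u * ⟨s, hs⟩⁻¹, Subgroup.Normal.conj_mem inferInstance u hu _, rfl⟩
      · rintro ⟨u, hu, he⟩
        refine ⟨⟨s, hs⟩⁻¹ * u * ⟨s, hs⟩, by simpa using Subgroup.Normal.conj_mem inferInstance u hu (⟨s, hs⟩ : (S : Subgroup G))⁻¹, ?_⟩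
        rw [map_mul, map_mul, he]
        simp [mul_assoc]
    have hTq : T' ≤ Cfsg.pCore q G := by
      intro t ht
      obtain ⟨i, hi⟩ := IsPGroup.iff_orderOf.1 S.isPGroup' ⟨t, hTS ht⟩
      rw [Subgroup.orderOf_mk] at hi
      exact mem_pCore_of_mem_fitting (hle (commutator_mono le_top le_top (hTle ht))) hi
    have hGN : commutator G ≤ normalizer (T' : Set G) := by
      refine le_of_sylow_le fun r hr x hx ⟨i, hi⟩ => ?_
      haveI := Fact.mk hr
      haveI := HallCore.pCore_normal r G
      have hxr := mem_pCore_of_mem_fitting (hle hx) hi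
      by_cases hrq : r = q
      · subst hrq
        exact hSN (HallCore.pCore_le_sylow S hxr)
      · have hdis : Disjoint (Cfsg.pCore r G) (Cfsg.pCore q G) :=
          IsPGroup.disjoint_of_ne r q hrq _ _ (HallCore.isPGroup_pCore r G) (HallCore.isPGroup_pCore q G)
        exact centralizer_le_normalizer _ (fun t ht => (Subgroup.commute_of_normal_of_disjoint _ _
          (HallCore.pCore_normal r G) (HallCore.pCore_normal q G) hdis x t hxr (hTq ht)).eq.symm)
    haveI : ((S : Subgroup G) ⊔ commutator G).Normal :=
      PGroupsBasic.normal_of_commutator_le le_sup_right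
    have hfr := Sylow.normalizer_sup_eq_top' S
      (le_sup_left : (S : Subgroup G) ≤ (S : Subgroup G) ⊔ commutator G)
    refine normalizer_eq_top_iff.mp (top_le_iff.1 (hfr.ge.trans (sup_le ?_ (sup_le hSN hGN))))
    intro g hg
    rw [mem_normalizer_iff]
    intro t
    let e : (S : Subgroup G) ≃* (S : Subgroup G) :=
      { toFun := fun x => ⟨g * x * g⁻¹, (mem_normalizer_iff.1 hg x).1 x.2⟩
        invFun := fun x => ⟨g⁻¹ * x * g, (mem_normalizer_iff.1 hg _).2 (by
          rw [show g * (g⁻¹ * (x : G) * g) * g⁻¹ = x by group]; exact x.2)⟩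
        left_inv := fun x => Subtype.ext (by simp [mul_assoc])
        right_inv := fun x => Subtype.ext (by simp [mul_assoc])
        map_mul' := fun x y => Subtype.ext (by simp [mul_assoc]) }
    have he : T.map e.toMonoidHom = T := Subgroup.characteristic_iff_map_eq.mp hT e
    constructor
    · rintro ⟨u, hu, rfl⟩
      exact ⟨e u, he ▸ mem_map_of_mem _ hu, rfl⟩
    · rintro ⟨u, hu, heq⟩
      rw [← he] at hu
      obtain ⟨w, hw, rfl⟩ := hu
      exact ⟨w, hw, mul_left_cancel (mul_right_cancel (show g * (w : G) * g⁻¹ = g * t * g⁻¹ from heq))⟩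
  · intro p
    set π : Set ℕ := {q | q.Prime ∧ p < q} with hπ
    refine ⟨Cfsg.piCore π G, HallCore.piCore_characteristic π G, HallCore.piNat_card_piCore π G, ?_⟩
    set K := Cfsg.piCore π G with hK
    haveI : K.Characteristic := HallCore.piCore_characteristic π G
    intro q hq hqπ hd
    haveI := Fact.mk hq
    obtain ⟨S⟩ : Nonempty (Sylow q G) := inferInstance
    suffices hS : (S : Subgroup G) ≤ K from S.not_dvd_index (hd.trans (index_dvd_of_le hS))
    intro x hx
    obtain ⟨i, hi⟩ := IsPGroup.iff_orderOf.1 S.isPGroup' ⟨x, hx⟩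
    rw [Subgroup.orderOf_mk] at hi
    set M := zpowers x ⊔ K with hM
    have hMπ : HallCore.PiNat π (Nat.card M) :=
      HallCore.piNat_card_sup (B := K) (by
        rw [Nat.card_zpowers, hi]
        intro r hr hdr
        rw [(Nat.prime_dvd_prime_iff_eq hr hq).1 (hr.dvd_of_dvd_pow hdr)]
        exact hqπ) (HallCore.piNat_card_piCore π G)
    have hFM : Cfsg.fittingSubgroup G ≤ normalizer (M : Set G) := by
      rw [ComponentsFitting.fittingSubgroup_eq_iSup]
      refine iSup_le fun r => ?_
      haveI := Fact.mk (Nat.prime_of_mem_primeFactors r.2)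
      haveI := HallCore.pCore_normal (r : ℕ) G
      by_cases hr : (r : ℕ) ∈ π
      · refine le_trans (le_trans ?_ le_sup_right) le_normalizer
        refine HallCore.le_piCore fun s hs hds => ?_
        obtain ⟨k, hk⟩ := IsPGroup.iff_card.1 (HallCore.isPGroup_pCore (r : ℕ) G)
        rw [hk] at hds
        rw [(Nat.prime_dvd_prime_iff_eq hs Fact.out).1 (hs.dvd_of_dvd_pow hds)]
        exact hr
      · have hrp : (r : ℕ) ≤ p := by
          by_contra h
          exact hr ⟨Nat.prime_of_mem_primeFactors r.2, by omega⟩
        have hrG : (r : ℕ) ∣ Nat.card G := Nat.dvd_of_mem_primeFactors r.2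
        have hr2 : (r : ℕ) ≠ 2 := fun h =>
          Nat.not_even_iff_odd.2 hodd (even_iff_two_dvd.2 (h ▸ hrG))
        have hrq : (r : ℕ) < q := lt_of_le_of_lt hrp hqπ.2
        have hxc : ∀ y ∈ Cfsg.pCore (r : ℕ) G, Commute x y := by
          rcases Nat.eq_zero_or_pos i with rfl | hi0
          · rw [pow_zero, orderOf_eq_one_iff] at hi
            subst hi
            exact fun y _ => Commute.one_left y
          refine commute_of_small_trivial hr2 (A := zpowers x) (HallCore.isPGroup_pCore _ G)
            (hF _ Fact.out) (by rw [normalizer_eq_top_iff.mpr inferInstance]; exact le_top)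
            ⟨x, mem_zpowers x⟩ (by
              simp only [hi]
              exact ((Nat.coprime_primes hq Fact.out).2 hrq.ne').pow_left i) ?_
          intro V _ _ hV hcard φ v
          set a := φ ⟨x, mem_zpowers x⟩ with ha
          have hq2 : q ≠ 2 := by
            have := (Fact.out : (r : ℕ).Prime).two_le
            omega
          have hord : orderOf a ∣ q ^ i := by
            rw [← hi]
            exact (orderOf_map_dvd φ _).trans (by rw [Subgroup.orderOf_mk])
          obtain ⟨j, -, hj⟩ := (Nat.dvd_prime_pow hq).1 hord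
          rcases Nat.eq_zero_or_pos j with rfl | hj0
          · rw [orderOf_eq_one_iff.1 (hj.trans (pow_zero q))]
            rfl
          · exfalso
            have h1 : orderOf (a ^ q ^ (j - 1)) = q := by
              rw [orderOf_pow' _ (pow_ne_zero _ hq.ne_zero), hj, Nat.gcd_eq_right
                (pow_dvd_pow q (Nat.sub_le j 1)), Nat.pow_div (Nat.sub_le j 1) hq.pos,
                show j - (j - 1) = 1 by omega, pow_one]
            have hpow := pow_orderOf_eq_one (a ^ q ^ (j - 1))
            rw [h1] at hpow
            have := prime_lt_of_action hr2 hq hq2 hrq.ne' hV hcard (a ^ q ^ (j - 1)) hpow (fun h => hq.one_lt.ne' (by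
                rw [h, orderOf_one] at h1; exact h1.symm))
            omega
        have hconj : ∀ y ∈ Cfsg.pCore (r : ℕ) G, ∀ m ∈ M, y * m * y⁻¹ ∈ M := by
          intro y hy
          suffices h : M ≤ M.comap (MulAut.conj y).toMonoidHom from fun m hm => h hm
          refine sup_le (zpowers_le.2 ?_) fun m hm => ?_
          · show y * x * y⁻¹ ∈ M
            rw [(hxc y hy).eq.symm, mul_inv_cancel_right]
            exact mem_sup_left (mem_zpowers x)
          · exact mem_sup_right (Subgroup.Normal.conj_mem inferInstance m hm y)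
        intro y hy
        rw [mem_normalizer_iff]
        refine fun m => ⟨hconj y hy m, fun h => ?_⟩
        simpa [mul_assoc] using hconj y⁻¹ (inv_mem hy) _ h
    haveI : (Cfsg.fittingSubgroup G ⊔ M).Normal :=
      PGroupsBasic.normal_of_commutator_le (hle.trans le_sup_left)
    have hXM : Cfsg.fittingSubgroup G ⊔ M ≤ normalizer (M : Set G) := sup_le hFM le_normalizer
    haveI : (M.subgroupOf (Cfsg.fittingSubgroup G ⊔ M)).Normal := normal_subgroupOf_of_le_normalizer hXM
    have h1 : (M.subgroupOf (Cfsg.fittingSubgroup G ⊔ M)).map (Cfsg.fittingSubgroup G ⊔ M).subtype ≤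
        (Cfsg.piCore π ↥(Cfsg.fittingSubgroup G ⊔ M)).map (Cfsg.fittingSubgroup G ⊔ M).subtype :=
      map_mono (HallCore.le_piCore (hMπ.of_dvd (HallCore.card_subgroupOf_dvd _ _)))
    rw [HallCore.map_subtype_piCore, subgroupOf_map_subtype, inf_eq_left.2 le_sup_right] at h1
    exact (h1 (mem_sup_left (mem_zpowers x))).1

end Cfsg.Agent.S1451
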