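import Cfsg.Statements.S1415
import Cfsg.Agent.Lib.BGSigmaComplement
import Cfsg.Agent.Lib.GlaubermanStable

set_option autoImplicit false
open Cfsg

namespace Cfsg.Agent.S1415

open Subgroup
open Cfsg.Agent.BGUnique
open scoped commutatorElement Pointwise

section Helpers

variable {G : Type*} [Group G] [Finite G] (hG : Cfsg.IsMinSimpleOddOrder G) {M E : Subgroup G}
  (hM : IsCoatom M) (hE : Cfsg.IsComplIn E (Cfsg.sigmaCore M) M)
include hG hM hE

theorem isCyclic_sylow {p : ℕ} [Fact p.Prime] (hr : Cfsg.PRankLE p 1 M) {P : Subgroup G}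
    (hP : IsPGroup p P) (hPE : P ≤ E) : IsCyclic P := by
  by_contra hnc
  obtain ⟨B, hBP, hB, hBc⟩ := exists_elementary_sq_of_noncyclic hG hP hnc
  have h1 := BGSigma.card_le_of_pRankLE hr (hBP.trans (hPE.trans hE.1)) hB
  rw [hBc, Nat.pow_le_pow_iff_right (Fact.out : p.Prime).one_lt] at h1
  omega

omit hM hE in
/-- A cyclic `p`-group is one of two subgroups generating it. -/
theorem eq_of_sup_eq {p : ℕ} [hp : Fact p.Prime] {P U V : Subgroup G} (hP : IsPGroup p P)
    (hc : IsCyclic P) (hUV : U ⊔ V = P) : U = P ∨ V = P := by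
  obtain ⟨g, hg⟩ := hc.exists_generator
  have hU : U ≤ P := hUV ▸ le_sup_left
  have hV : V ≤ P := hUV ▸ le_sup_right
  obtain ⟨i, hi⟩ := IsPGroup.iff_card.1 (hP.to_le hU)
  obtain ⟨j, hj⟩ := IsPGroup.iff_card.1 (hP.to_le hV)
  letI := IsCyclic.commGroup (α := P)
  have hsup : U.subgroupOf P ⊔ V.subgroupOf P = ⊤ := by
    rw [← subgroupOf_sup hU hV, hUV, subgroupOf_self]
  obtain ⟨u, hu, v, hv, huv⟩ := mem_sup.1 (hsup.ge (mem_top g))
  have hordP : Nat.card P = orderOf g := (orderOf_eq_card_of_forall_mem_zpowers hg).symm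
  have hpow : ∀ k, i ≤ k → j ≤ k → g ^ p ^ k = 1 := by
    intro k hik hjk
    have hu1 : u ^ p ^ k = 1 := by
      refine orderOf_dvd_iff_pow_eq_one.1 (dvd_trans ?_ (pow_dvd_pow p hik))
      rw [← Subgroup.orderOf_coe u, ← hi]
      exact orderOf_dvd_natCard U hu
    have hv1 : v ^ p ^ k = 1 := by
      refine orderOf_dvd_iff_pow_eq_one.1 (dvd_trans ?_ (pow_dvd_pow p hjk))
      rw [← Subgroup.orderOf_coe v, ← hj]
      exact orderOf_dvd_natCard V hv
    rw [← huv, mul_pow, hu1, hv1, mul_one]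
  rcases le_total i j with hij | hij
  · exact Or.inr (eq_of_le_of_card_ge hV (by
      rw [hordP, hj]
      exact Nat.le_of_dvd (pow_pos hp.out.pos j) (orderOf_dvd_of_pow_eq_one (hpow j hij le_rfl))))
  · exact Or.inl (eq_of_le_of_card_ge hU (by
      rw [hordP, hi]
      exact Nat.le_of_dvd (pow_pos hp.out.pos i) (orderOf_dvd_of_pow_eq_one (hpow i le_rfl hij))))

theorem le_derived {p : ℕ} [hp : Fact p.Prime] (hp3 : p ∈ Cfsg.tau3 M) {P : Subgroup G}
    (hP : IsMaxP p P E) : P ≤ ⁅E, E⁆ := by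
  obtain ⟨-, hpσ, hd, hr⟩ := hp3
  have hpE := BGExc.dvd_derived hG hM hE hp.out hpσ hd
  have hcyc := isCyclic_sylow hG hM hE hr hP.isPGroup hP.le
  have hPcomm : P ≤ centralizer (P : Set G) := fun x hx => mem_centralizer_iff.2 fun y hy => by
    haveI := hcyc
    letI := IsCyclic.commGroup (α := P)
    exact congrArg Subtype.val (mul_comm (⟨y, hy⟩ : P) ⟨x, hx⟩)
  obtain ⟨S, hS⟩ := hP.exists_sylow
  by_cases hall : E ⊓ normalizer (P : Set G) ≤ centralizer (P : Set G)
  · exfalso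
    have hPS : normalizer ((S : Subgroup E) : Set E) ≤ centralizer ((S : Subgroup E) : Set E) := by
      intro y hy
      refine mem_centralizer_iff.2 fun s hs => Subtype.ext ?_
      have hyn : (y : G) ∈ normalizer (P : Set G) := hS ▸ le_normalizer_map E.subtype ⟨y, hy, rfl⟩
      exact mem_centralizer_iff.1 (hall ⟨y.2, hyn⟩) (s : G) (hS ▸ ⟨s, hs, rfl⟩)
    haveI : IsMulCommutative (S : Subgroup E) :=
      ⟨⟨fun a b => Subtype.ext (hPS (le_normalizer b.2) a a.2)⟩⟩
    have hK := MonoidHom.ker_transferSylow_isComplement' S hPS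
    set f := MonoidHom.transferSylow S hPS
    have hle : commutator E ≤ f.ker := by
      rw [commutator_def, Subgroup.commutator_le]
      intro a _ b _
      rw [MonoidHom.mem_ker, map_commutatorElement, commutatorElement_eq_one_iff_mul_comm]
      exact mul_comm' _ _
    refine S.not_dvd_index ?_
    rw [hK.index_eq_card]
    rw [← Subgroup.map_subtype_commutator, card_map_of_injective E.subtype_injective] at hpE
    exact hpE.trans (card_dvd_of_le hle)
  · obtain ⟨y, ⟨hyE, hyN⟩, hyC⟩ := SetLike.not_le_iff_exists.1 hall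
    obtain ⟨i, hi⟩ := GlaubermanStable.exists_pow_coprime (p := p) y
    set y' := y ^ p ^ i
    have hy'C : y' ∉ centralizer (P : Set G) := by
      intro hc
      set m := orderOf y'
      have hz : (y ^ m) ^ p ^ i = 1 := by
        rw [← pow_mul, mul_comm, pow_mul]
        exact pow_orderOf_eq_one y'
      have hzP : y ^ m ∈ P := by
        have hzp : IsPGroup p (zpowers (y ^ m)) := by
          obtain ⟨k, -, hk⟩ := (Nat.dvd_prime_pow hp.out).1 (orderOf_dvd_of_pow_eq_one hz)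
          exact IsPGroup.of_card (n := k) (by rw [Nat.card_zpowers, hk])
        have h1 := hP.eq_of_le (P ⊔ zpowers (y ^ m)) le_sup_left
          (sup_le hP.le (zpowers_le.2 (pow_mem hyE m)))
          (IsPGroup.to_sup_of_normal_left' hP.isPGroup hzp (zpowers_le.2 (pow_mem hyN m)))
        exact h1.le (mem_sup_right (mem_zpowers _))
      obtain ⟨a, b, hab⟩ : ∃ a b : ℤ, (p ^ i : ℕ) * a + (m : ℤ) * b = 1 := by
        have hg : (p ^ i).gcd m = 1 := (hi.pow_right i).symm
        exact ⟨_, _, (Nat.gcd_eq_gcd_ab (p ^ i) m).symm.trans (by rw [hg]; rfl)⟩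
      refine hyC ?_
      rw [← zpow_one y, ← hab, zpow_add, zpow_mul, zpow_mul, zpow_natCast, zpow_natCast]
      exact mul_mem (zpow_mem hc a) (zpow_mem (hPcomm hzP) b)
    have hy'N : zpowers y' ≤ normalizer (P : Set G) := zpowers_le.2 (pow_mem hyN _)
    have hy'E : zpowers y' ≤ E := zpowers_le.2 (pow_mem hyE _)
    have hcop : (Nat.card (zpowers y')).Coprime (Nat.card P) := by
      obtain ⟨k, hk⟩ := IsPGroup.iff_card.1 hP.isPGroup
      rw [Nat.card_zpowers, hk]
      exact hi.pow_right k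
    have hsplit := CoprimeAction.commutator_sup_centralizer_eq hy'N hcop
      (Or.inl (CoprimeAction.isSolvable_zpowers y'))
    rcases eq_of_sup_eq hG hP.isPGroup hcyc hsplit with h1 | h1
    · exact h1 ▸ commutator_mono hP.le hy'E
    · exfalso
      exact hy'C (mem_centralizer_iff.2 fun x hx =>
        (mem_centralizer_iff.1 (h1.ge hx).2 y' (mem_zpowers _)).symm)

theorem isZGroup_of_tau {π : Set ℕ} (hπ : ∀ q ∈ π, Cfsg.PRankLE q 1 M) {H : Subgroup G}
    (hH : Cfsg.IsPiHallOf π H E) : IsZGroup H := by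
  refine BGSigma.isZGroup_of_rankLE_one hG fun q hq => ?_
  haveI := Fact.mk hq
  by_cases hd : q ∣ Nat.card H
  · exact BGRankTwo.pRankLE_mono (hH.1.trans hE.1) (hπ q (hH.2.1 q hq hd))
  · exact BGSigma.pRankLE_of_not_dvd hd

theorem tau1_cyclic {H : Subgroup G} (hH : Cfsg.IsPiHallOf (Cfsg.tau1 M) H E) : IsCyclic H := by
  haveI := isZGroup_of_tau hG hM hE (fun q hq => hq.2.2.2.2) hH
  have hbot : ⁅H, H⁆ = ⊥ := by
    refine eq_bot_of_card_eq _ (Nat.eq_one_of_dvd_coprimes ?_ (card_dvd_of_le (commutator_le_self H))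
      (card_dvd_of_le (commutator_mono (hH.1.trans hE.1) (hH.1.trans hE.1))))
    exact Nat.coprime_of_dvd fun q hq h1 h2 => (hH.2.1 q hq h1).2.2.2.1 h2
  haveI : Group.IsNilpotent H := by
    have hc : IsMulCommutative H := PGroupsBasic.isMulCommutative_of_le_centralizer
      (Subgroup.commutator_eq_bot_iff_le_centralizer.1 hbot)
    exact @CommGroup.isNilpotent _ ({ (inferInstance : Group H) with mul_comm := hc.is_comm.comm })
  infer_instance

theorem tau3_spec {H : Subgroup G} (hH : Cfsg.IsPiHallOf (Cfsg.tau3 M) H E) :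
    IsCyclic H ∧ H ≤ ⁅E, E⁆ ∧ E ≤ normalizer (H : Set G) := by
  have hnil := BGExc.derived_nilpotent hG hM hE
  have hle : H ≤ ⁅E, E⁆ := by
    refine BGExc.le_of_sylows fun ℓ hℓ hd => ?_
    haveI := Fact.mk hℓ
    obtain ⟨S, hS⟩ : ∃ S, IsMaxP ℓ S H := ⟨_, isMaxP_sylow _ default⟩
    obtain ⟨P, hP, hSP⟩ := exists_isMaxP_ge hS.isPGroup (hS.le.trans hH.1)
    exact ⟨S, hS, hSP.trans (le_derived hG hM hE (hH.2.1 ℓ hℓ hd) hP)⟩
  refine ⟨?_, hle, fun e he => ?_⟩
  · haveI := isZGroup_of_tau hG hM hE (fun q hq => hq.2.2.2) hH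
    haveI : Group.IsNilpotent H := ComponentsCores.nilpotent_of_le hle hnil
    infer_instance
  · refine CoprimeAction.mem_normalizer_of_conj_smul_eq
      (eq_of_le_of_card_ge ?_ (by rw [CoprimeSZ.card_conj_smul]))
    have hconj : MulAut.conj e • H ≤ ⁅E, E⁆ := by
      rw [← CoprimeSZ.conj_smul_eq_self (normalizer_commutator_ge_left E E he)]
      exact pointwise_smul_le_pointwise_smul_iff.2 hle
    refine BGExc.le_of_sylows fun ℓ hℓ hd => ?_
    haveI := Fact.mk hℓ
    obtain ⟨S, hS⟩ : ∃ S, IsMaxP ℓ S (MulAut.conj e • H) := ⟨_, isMaxP_sylow _ default⟩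
    obtain ⟨T, hT, -, hTmax, -⟩ := BGExc.exists_sylow_of_nilpotent hnil ℓ
    rw [CoprimeSZ.card_conj_smul] at hd
    have hℓ3 := hH.2.1 ℓ hℓ hd
    obtain ⟨S₀, hS₀⟩ : ∃ S₀ : Subgroup G, IsMaxP ℓ S₀ H := ⟨_, isMaxP_sylow _ default⟩
    have hS₀T : S₀ ≤ T := hTmax S₀ hS₀.isPGroup (hS₀.le.trans hle)
    have hTeq : S₀ = T := by
      refine eq_of_le_of_card_ge hS₀T ?_
      obtain ⟨n, hn⟩ := IsPGroup.iff_card.1 hT.isPGroup
      obtain ⟨S', hS'⟩ := hS₀.exists_sylow
      rw [hn, ← hS', card_map_of_injective H.subtype_injective]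
      refine Nat.le_of_dvd Nat.card_pos (S'.pow_dvd_card_of_pow_dvd_card ?_)
      have h1 : ℓ ^ n ∣ Nat.card E := hn ▸ card_dvd_of_le (hT.le.trans (commutator_le_self E))
      rw [← HallCore.card_mul_relIndex hH.1] at h1
      exact ((hℓ.coprime_iff_not_dvd.2 (hH.2.2 ℓ hℓ hℓ3)).pow_left n).dvd_of_dvd_mul_right h1
    exact ⟨S, hS, (hTmax S hS.isPGroup (hS.le.trans hconj)).trans (hTeq ▸ hS₀.le)⟩

end Helpers

/-- Let G be a minimal simple group of odd order, M a maximal subgroup and E a complement to M_σ in M. Then the derived subgroup E' is nilpotent; every Hall τ₁(M)-subgroup of E is cyclic; and every Hall τ₃(M)-subgroup E₃ of E is cyclic, contained in E' and normal in E. -/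
theorem result {G : Type*} [Group G] [Finite G] (hG : Cfsg.IsMinSimpleOddOrder G)
    (M : Subgroup G) (hM : IsCoatom M) (E : Subgroup G) (hE : Cfsg.IsComplIn E (Cfsg.sigmaCore M) M) :
    Group.IsNilpotent ↥⁅E, E⁆ ∧
      (∀ E₁ : Subgroup G, Cfsg.IsPiHallOf (Cfsg.tau1 M) E₁ E → IsCyclic E₁) ∧
      ∀ E₃ : Subgroup G, Cfsg.IsPiHallOf (Cfsg.tau3 M) E₃ E → IsCyclic E₃ ∧ E₃ ≤ ⁅E, E⁆ ∧ E ≤ Subgroup.normalizer (E₃ : Set G) := by
  exact ⟨BGExc.derived_nilpotent hG hM hE, fun E₁ h1 => tau1_cyclic hG hM hE h1,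
    fun E₃ h3 => tau3_spec hG hM hE h3⟩

end Cfsg.Agent.S1415
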