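import Cfsg.Statements.S1361
import Mathlib
import Cfsg.Agent.Lib.BGFinalBasic72
import Cfsg.Agent.S1350
import Cfsg.Agent.S1359
import Cfsg.Agent.S1417
import Cfsg.Agent.S1420

set_option autoImplicit false
open Cfsg

namespace Cfsg.Agent.S1361

/-- Let G be a minimal simple group of odd order and M a maximal subgroup with standard factorisation M = K U M_σ. If X is a nontrivial subgroup of U centralizing some non-identity element of M_σ, then C_G(X) ≤ M and M is the unique maximal subgroup of G containing C_G(X). -/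
theorem result {G : Type*} [Group G] [Finite G] (hG : Cfsg.IsMinSimpleOddOrder G)
    (M : Subgroup G) (hM : IsCoatom M) (K U : Subgroup G) (hKU : Cfsg.IsSigmaDecomposition M K U) (X : Subgroup G) (hXU : X ≤ U) (hX : X ≠ ⊥)
    (hXc : Cfsg.sigmaCore M ⊓ Subgroup.centralizer (X : Set G) ≠ ⊥) :
    Subgroup.centralizer (X : Set G) ≤ M ∧ ∀ L : Subgroup G, IsCoatom L → Subgroup.centralizer (X : Set G) ≤ L → L = M := by
  have hσ := (S1350.result hG M hM).1
  have hUM := BGFinal72.U_le hKU
  obtain ⟨y, hy, hy1⟩ := (Subgroup.bot_or_exists_ne_one _).resolve_left hXc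
  have hcom : ∀ a ∈ X, a * y = y * a := fun a ha => Subgroup.mem_centralizer_iff.1 hy.2 a ha
  have hhat : ∀ a ∈ X, a ∈ Cfsg.sigmaHat M := fun a ha =>
    ⟨hUM (hXU ha), y, hy.1, hy1, hcom a ha⟩
  have hab := S1359.result hG M hM K U hKU
  have hXle : X ≤ Subgroup.closure ((U : Set G) ∩ Cfsg.sigmaHat M) := fun a ha =>
    Subgroup.subset_closure ⟨hXU ha, hhat a ha⟩
  have hXc' : ∀ a b : X, a * b = b * a := fun a b =>
    Subtype.ext (PGroupsBasic.comm_of_isMulCommutative hab (hXle a.2) (hXle b.2))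
  haveI : Group.IsNilpotent X := @CommGroup.isNilpotent X { (inferInstance : Group X) with mul_comm := hXc' }
  haveI : IsZGroup X := ⟨fun q hq S => by
    haveI := Fact.mk hq
    by_contra hnc
    have hnc' : ¬ IsCyclic ↥((S : Subgroup X).map X.subtype) := fun h =>
      hnc (((S : Subgroup X).equivMapOfInjective _ X.subtype_injective).isCyclic.2 h)
    obtain ⟨E, hES, hE, hEc⟩ := BGUnique.exists_elementary_sq_of_noncyclic hG (S.isPGroup'.map _) hnc'
    have hEX : E ≤ X := hES.trans (Subgroup.map_subtype_le _)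
    obtain ⟨x, hx, hx1⟩ := (Subgroup.bot_or_exists_ne_one E).resolve_left (show E ≠ ⊥ from fun h => by
      rw [h, Subgroup.card_bot] at hEc
      exact (Nat.one_lt_pow two_ne_zero hq.one_lt).ne hEc)
    have hxq : orderOf x = q := orderOf_eq_prime (hE.2 x hx) hx1
    have htau := BGFinal72.orderOf_tau2 hG hM hσ hKU (hXU (hEX hx)) hy.1 hy1 (hcom x (hEX hx)) q hq
      (by rw [hxq])
    have h1 := (S1417.result hG M hM q htau E ⟨hEX.trans (hXU.trans hUM), hE, hEc⟩).2.2.2.1
    exact hy1 (Subgroup.mem_bot.1 (h1 ▸ ⟨hy.1, Subgroup.centralizer_le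
      (show (E : Set G) ⊆ X from hEX) hy.2⟩))⟩
  have hcyc : IsCyclic X := inferInstance
  obtain ⟨x, hx⟩ := (Subgroup.isCyclic_iff_exists_zpowers_eq_top X).1 hcyc
  have hxX : x ∈ X := hx ▸ Subgroup.mem_zpowers x
  have hx1 : x ≠ 1 := fun h => hX (by rw [← hx, h, Subgroup.zpowers_one_eq_bot])
  have hC : Subgroup.centralizer (X : Set G) = Subgroup.centralizer ({x} : Set G) := by
    rw [← hx, Subgroup.zpowers_eq_closure, Subgroup.centralizer_closure]
  obtain ⟨E, -, hE⟩ := BGFinal72.exists_complIn hσ.1 (BGFinal72.le_normalizer_sigmaCore M)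
    (BGFinal72.coprime_relIndex_of_hall hσ)
  rw [hC]
  exact (S1420.result hG M hM E hE).2.2.2 x (hUM (hXU hxX)) hx1
    (BGFinal72.orderOf_tau2 hG hM hσ hKU (hXU hxX) hy.1 hy1 (hcom x hxX)) (hhat x hxX)

end Cfsg.Agent.S1361
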