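import Cfsg.Statements.S1362
import Mathlib
import Cfsg.Agent.Lib.BGFinalBasic72
import Cfsg.Agent.S1350
import Cfsg.Agent.S1352
import Cfsg.Agent.S1361

set_option autoImplicit false
open Cfsg

namespace Cfsg.Agent.S1362

open scoped Pointwise

/-- Let G be a minimal simple group of odd order and M a maximal subgroup with standard factorisation M = K U M_σ, and let A(M) be the set of elements of U M_σ centralizing some non-identity element of M_σ. Then A(M) with M_σ removed is a TI-subset of G. -/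
theorem result {G : Type*} [Group G] [Finite G] (hG : Cfsg.IsMinSimpleOddOrder G)
    (M : Subgroup G) (hM : IsCoatom M) (K U : Subgroup G) (hKU : Cfsg.IsSigmaDecomposition M K U) :
    Cfsg.IsTISubset (Cfsg.sigmaA M U \ (Cfsg.sigmaCore M : Set G)) := by
  classical
  have hσ := (S1350.result hG M hM).1
  have hUM := BGFinal72.U_le hKU
  have hn := (S1352.result hG M hM K hKU.cyclic hKU.hall).2 U hKU
  set S := Cfsg.sigmaCore M
  set H := U ⊔ S with hH
  have hHM : H ≤ M := sup_le hUM (BGFinal72.sigmaCore_le M)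
  have hcop := BGFinal72.coprime_U_sigma hσ hKU
  have hHc : Nat.card H = Nat.card U * Nat.card S := BGFinal72.card_U_sigma hσ hKU
  -- the exponent extracting the part prime to `σ(M)`
  set e : ℕ := Nat.card S ^ Nat.totient (Nat.card U)
  have he : ∀ a ∈ H, a ∉ S → orderOf (a ^ e) ∣ Nat.card U ∧ a ^ e ≠ 1 := by
    intro a ha haS
    constructor
    · refine orderOf_dvd_of_pow_eq_one ?_
      rw [← pow_mul]
      refine orderOf_dvd_iff_pow_eq_one.1 ((H.orderOf_dvd_natCard ha).trans ?_)
      rw [hHc, mul_comm (Nat.card U)]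
      exact Nat.mul_dvd_mul_right (dvd_pow_self _ (Nat.totient_pos.2 Nat.card_pos).ne') _
    · intro h1
      apply haS
      haveI : (S.subgroupOf H).Normal := Subgroup.normal_subgroupOf_of_le_normalizer
        (hHM.trans (BGFinal72.le_normalizer_sigmaCore M))
      have hidx : (S.subgroupOf H).index = Nat.card U := by
        refine Nat.eq_of_mul_eq_mul_left (Nat.card_pos : 0 < Nat.card S) ?_
        show Nat.card S * S.relIndex H = _
        rw [BGFinal72.card_mul_relIndex le_sup_right, ← hH, hHc, mul_comm]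
      have h2 : ((⟨a, ha⟩ : H) : H ⧸ S.subgroupOf H) = 1 := by
        rw [← orderOf_eq_one_iff]
        have hae : orderOf a ∣ e := orderOf_dvd_of_pow_eq_one h1
        refine Nat.eq_one_of_dvd_coprimes ((Nat.Coprime.pow_left _ hcop).coprime_dvd_left hae)
          ((orderOf_map_dvd (QuotientGroup.mk' _) _).trans (by rw [Subgroup.orderOf_mk])) ?_
        rw [← hidx, Subgroup.index_eq_card]
        exact orderOf_dvd_natCard _
      exact Subgroup.mem_subgroupOf.1 ((QuotientGroup.eq_one_iff _).1 h2)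
  have key : ∀ a ∈ Cfsg.sigmaA M U \ (S : Set G),
      Subgroup.centralizer ({a ^ e} : Set G) ≤ M ∧
        ∀ L : Subgroup G, IsCoatom L → Subgroup.centralizer ({a ^ e} : Set G) ≤ L → L = M := by
    rintro a ⟨⟨⟨-, y, hy, hy1, hay⟩, haH⟩, haS⟩
    obtain ⟨hord, hne⟩ := he a haH haS
    haveI := BGUnique.isSolvable_of_ne_top hG hM.1
    haveI : Group.IsSolvable H := solvable_of_solvable_injective (Subgroup.inclusion_injective hHM)
    have hUH : Cfsg.IsPiHall (BGFinal72.restPrimes M) (U.subgroupOf H) := by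
      refine ⟨fun q hq hd => (BGFinal72.hall_U hσ hKU).2.1 q hq (by
        rwa [Nat.card_congr (Subgroup.subgroupOfEquivOfLe le_sup_left).toEquiv] at hd), fun q hq hr hd => ?_⟩
      have h2 : U.relIndex H = Nat.card S := by
        refine Nat.eq_of_mul_eq_mul_left (Nat.card_pos : 0 < Nat.card U) ?_
        rw [BGFinal72.card_mul_relIndex le_sup_left, ← hH, hHc]
      exact hr.2.2 (BGFinal72.piNat_sigmaCore M q hq (h2 ▸ hd))
    obtain ⟨m, hm⟩ := HallTheorem.le_conj_isPiHall (HallSolvable.isPiSeparable_of_solvable _)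
      (HallTheorem.complSolvable_of_solvable _) (U := Subgroup.zpowers (⟨a ^ e, H.pow_mem haH e⟩ : H))
      (by
        intro q hq hd
        rw [Nat.card_zpowers, Subgroup.orderOf_mk] at hd
        exact (BGFinal72.hall_U hσ hKU).2.1 q hq (hd.trans hord)) hUH
    obtain ⟨u, huU, hu⟩ := hm (Subgroup.mem_zpowers _)
    have hua : (m : G) * (u : G) * (m : G)⁻¹ = a ^ e := congrArg Subtype.val hu
    have huU' : (u : G) ∈ U := huU
    set X := Subgroup.zpowers (u : G)
    have hX1 : X ≠ ⊥ := fun h => hne (by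
      rw [← hua, Subgroup.zpowers_eq_bot.1 h, mul_one, mul_inv_cancel])
    have hmM : (m : G) ∈ M := hHM m.2
    have hy' : (m : G)⁻¹ * y * m ∈ S := by
      simpa using (Subgroup.mem_normalizer_iff.1 (BGFinal72.le_normalizer_sigmaCore M (M.inv_mem hmM)) y).1 hy
    have hXc : S ⊓ Subgroup.centralizer (X : Set G) ≠ ⊥ := by
      intro h
      have hmem : (m : G)⁻¹ * y * m ∈ S ⊓ Subgroup.centralizer (X : Set G) := by
        refine ⟨hy', ?_⟩
        show _ ∈ Subgroup.centralizer (Subgroup.zpowers (u : G) : Set G)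
        rw [Subgroup.zpowers_eq_closure, Subgroup.centralizer_closure, Subgroup.mem_centralizer_iff]
        rintro _ rfl
        have hc : Commute (a ^ e) y := (show Commute a y from hay).pow_left e
        rw [show (u : G) = (m : G)⁻¹ * (a ^ e) * m by rw [← hua]; group]
        calc (m : G)⁻¹ * a ^ e * m * ((m : G)⁻¹ * y * m) = (m : G)⁻¹ * (a ^ e * y) * m := by group
          _ = (m : G)⁻¹ * (y * a ^ e) * m := by rw [hc.eq]
          _ = _ := by group
      rw [h, Subgroup.mem_bot] at hmem
      exact hy1 (by simpa [mul_assoc] using congrArg (fun z => (m : G) * z * (m : G)⁻¹) hmem)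
    have hXU : X ≤ U := Subgroup.zpowers_le.2 huU'
    obtain ⟨h1, h2⟩ := S1361.result hG M hM K U hKU X hXU hX1 hXc
    have hC : Subgroup.centralizer (X : Set G) = Subgroup.centralizer ({(u : G)} : Set G) := by
      show Subgroup.centralizer (Subgroup.zpowers (u : G) : Set G) = _
      rw [Subgroup.zpowers_eq_closure, Subgroup.centralizer_closure]
    rw [hC] at h1 h2
    have hconj : ∀ c, c ∈ Subgroup.centralizer ({(u : G)} : Set G) ↔
        (m : G) * c * (m : G)⁻¹ ∈ Subgroup.centralizer ({a ^ e} : Set G) := by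
      intro c
      simp only [Subgroup.mem_centralizer_iff, Set.mem_singleton_iff, forall_eq, ← hua]
      constructor
      · intro h
        calc (m : G) * u * (m : G)⁻¹ * (m * c * (m : G)⁻¹) = m * (u * c) * (m : G)⁻¹ := by group
          _ = m * (c * u) * (m : G)⁻¹ := by rw [h]
          _ = _ := by group
      · intro h
        have h' := congrArg (fun z => (m : G)⁻¹ * z * m) h
        simp only [mul_assoc, inv_mul_cancel_left, inv_mul_cancel, mul_one] at h'
        exact h'
    refine ⟨fun c hc => ?_, fun L hL hle => ?_⟩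
    · have h3 := h1 ((hconj ((m : G)⁻¹ * c * m)).2 (by
        simpa [mul_assoc] using hc))
      simpa [mul_assoc] using M.mul_mem (M.mul_mem hmM h3) (M.inv_mem hmM)
    · have h4 : MulAut.conj (m : G)⁻¹ • L = M := by
        refine h2 _ (BGUnique.isCoatom_conj _ hL) fun c hc => ?_
        refine ⟨_, hle ((hconj c).1 hc), ?_⟩
        show (m : G)⁻¹ * ((m : G) * c * (m : G)⁻¹) * (m : G)⁻¹⁻¹ = c
        group
      rw [inv_smul_eq_iff.1 (show (MulAut.conj (m : G))⁻¹ • L = M by rwa [← map_inv])]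
      exact Subgroup.conj_smul_eq_self_of_mem hmM
  intro g hg a ha hga
  exfalso
  apply hg
  obtain ⟨ha1, ha2⟩ := key a ha
  obtain ⟨hb1, -⟩ := key _ hga
  have hgM : g ∈ M := by
    refine BGSigma.mem_of_conj_eq hG hM ?_
    have h4 : MulAut.conj g⁻¹ • M = M := by
      refine ha2 _ (BGUnique.isCoatom_conj _ hM) fun c hc => ?_
      refine ⟨g * c * g⁻¹, hb1 ?_, ?_⟩
      · rw [Subgroup.mem_centralizer_iff] at hc ⊢
        intro z hz
        rw [Set.mem_singleton_iff] at hz
        subst hz
        rw [conj_pow]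
        calc g * a ^ e * g⁻¹ * (g * c * g⁻¹) = g * (a ^ e * c) * g⁻¹ := by group
          _ = g * (c * a ^ e) * g⁻¹ := by rw [hc _ rfl]
          _ = _ := by group
      · show g⁻¹ * (g * c * g⁻¹) * g⁻¹⁻¹ = c
        group
    rw [map_inv] at h4
    exact (inv_smul_eq_iff.1 h4).symm
  have hmem : ∀ g ∈ M, ∀ b ∈ Cfsg.sigmaA M U \ (S : Set G),
      g * b * g⁻¹ ∈ Cfsg.sigmaA M U \ (S : Set G) := by
    rintro g hgM b ⟨⟨⟨hbM, y, hy, hy1, hby⟩, hbH⟩, hbS⟩
    have hNS := Subgroup.mem_normalizer_iff.1 (BGFinal72.le_normalizer_sigmaCore M hgM)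
    refine ⟨⟨⟨M.mul_mem (M.mul_mem hgM hbM) (M.inv_mem hgM), g * y * g⁻¹, (hNS y).1 hy,
      fun h => hy1 (conj_eq_one_iff.1 h), ?_⟩, (Subgroup.mem_normalizer_iff.1 (hn hgM) b).1 hbH⟩,
      fun h => hbS ((hNS b).2 h)⟩
    calc g * b * g⁻¹ * (g * y * g⁻¹) = g * (b * y) * g⁻¹ := by group
      _ = g * (y * b) * g⁻¹ := by rw [hby]
      _ = _ := by group
  show ∀ b, b ∈ Cfsg.sigmaA M U \ (S : Set G) ↔ g * b * g⁻¹ ∈ Cfsg.sigmaA M U \ (S : Set G)
  intro b
  refine ⟨hmem g hgM b, fun h => ?_⟩
  simpa [mul_assoc] using hmem g⁻¹ (M.inv_mem hgM) _ h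

end Cfsg.Agent.S1362
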