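import Cfsg.Statements.S1375
import Cfsg.Agent.Lib.BGSupportCover35
-- import your own Cfsg.Agent.* helpers here

set_option autoImplicit false
open Cfsg

namespace Cfsg.Agent.S1375

/-- Let G be a minimal simple group of odd order, M a maximal subgroup, x ≠ 1 in M_σ with C_G(x) not contained in M. Then exactly one maximal subgroup N contains C_G(x); for it N_σ = N_F, C_{N_σ}(x) is a normal subgroup of C_G(x) complementing C_M(x), M ∩ N is a complement to N_σ in N, and for every standard factorisation N = K' U' N_σ one has U' ≠ 1 and x ∈ A(N) with x ∉ N_σ. -/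
theorem result {G : Type*} [Group G] [Finite G] (hG : Cfsg.IsMinSimpleOddOrder G)
    (M : Subgroup G) (hM : IsCoatom M) (x : G) (hx : x ∈ Cfsg.sigmaCore M) (hx1 : x ≠ 1) (hxM : ¬ Subgroup.centralizer ({x} : Set G) ≤ M) :
    ∃ N : Subgroup G, (IsCoatom N ∧ Subgroup.centralizer ({x} : Set G) ≤ N) ∧ (∀ L : Subgroup G, IsCoatom L → Subgroup.centralizer ({x} : Set G) ≤ L → L = N) ∧
        Cfsg.sigmaCore N = Cfsg.fittingHallOf N ∧
        Subgroup.centralizer ({x} : Set G) ≤ Subgroup.normalizer ((Cfsg.sigmaCore N ⊓ Subgroup.centralizer ({x} : Set G) : Subgroup G) : Set G) ∧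
        Cfsg.IsComplIn (M ⊓ Subgroup.centralizer ({x} : Set G)) (Cfsg.sigmaCore N ⊓ Subgroup.centralizer ({x} : Set G)) (Subgroup.centralizer ({x} : Set G)) ∧
        Cfsg.IsComplIn (M ⊓ N) (Cfsg.sigmaCore N) N ∧
        ∀ K' U' : Subgroup G, Cfsg.IsSigmaDecomposition N K' U' → U' ≠ ⊥ ∧ x ∈ Cfsg.sigmaA N U' ∧ x ∉ Cfsg.sigmaCore N := by
  obtain ⟨N, hN, hCN, huniq, -, -, hF, hc, hCc, hτ, hR⟩ :=
    BGSupport35.centralizer_data hG hM hx hx1 hxM
  refine ⟨N, ⟨hN, hCN⟩, huniq, hF, ?_, hCc, hc, fun K' U' d => ?_⟩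
  · exact CoprimeAction.le_normalizer_inf
      (hCN.trans (BGTypeSetup.le_normalizer_sigmaCore N)) Subgroup.le_normalizer
  · have hxN : x ∈ N := hCN (Subgroup.mem_centralizer_iff.2 fun y hy => by rw [hy])
    have hle : Subgroup.zpowers x ≤ U' ⊔ Cfsg.sigmaCore N :=
      BGFinal72.le_U_sigma (BGSigma.hall_sigma hG hN).1 d
        ((S1352.result hG N hN K' d.cyclic d.hall).2 U' d) (Subgroup.zpowers_le.2 hxN)
        fun q hq hd => BGSupport35.not_kappa_of_tau2 (hτ q hq (Nat.card_zpowers x ▸ hd))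
    have hxS : x ∉ Cfsg.sigmaCore N := fun h => by
      obtain ⟨q, hq, hd⟩ := Nat.exists_prime_and_dvd
        (fun h => hx1 (orderOf_eq_one_iff.1 h) : orderOf x ≠ 1)
      exact (hτ q hq hd).2.1 (BGTypeSetup.mem_sigma_of_dvd hG hN hq
        (hd.trans ((Cfsg.sigmaCore N).orderOf_dvd_natCard h)))
    refine ⟨fun hU => hxS ?_, ⟨?_, hle (Subgroup.mem_zpowers x)⟩, hxS⟩
    · have := hle (Subgroup.mem_zpowers x)
      rwa [hU, bot_sup_eq] at this
    · haveI := (Subgroup.nontrivial_iff_ne_bot _).2 hR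
      obtain ⟨⟨y, hy⟩, hy1⟩ :=
        exists_ne (1 : ↥(Cfsg.sigmaCore N ⊓ Subgroup.centralizer ({x} : Set G)))
      exact ⟨hxN, y, hy.1, fun h => hy1 (Subtype.ext h), Subgroup.mem_centralizer_iff.1 hy.2 x rfl⟩

end Cfsg.Agent.S1375
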