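import Cfsg.Statements.S1434
import Mathlib
import Cfsg.Agent.Lib.BGTypePClasses

set_option autoImplicit false
open Cfsg

namespace Cfsg.Agent.S1434

open scoped Pointwise commutatorElement

open Subgroup Cfsg.Agent.HallCore Cfsg.Agent.BGTypeP

/-- Let G be a minimal simple group of odd order, M a maximal subgroup with standard factorisation M = K U M_σ, K ≠ 1, K* = M_σ ∩ C_G(K), and M* a maximal subgroup with K = M*_σ ∩ C_G(K*) and K* a Hall κ(M*)-subgroup of M*. Then κ(M) = τ₁(M); K* is a Hall σ(M)-subgroup of M*; for non-identity x ∈ K and y ∈ K*, C_M(x), C_{M*}(y) and C_G(xy) all equal K K*; the set Ẑ of elements of K K* outside K ∪ K* meets no gMg⁻¹ with g ∉ M; and with k = #K, k* = #K*, the union of the conjugates of Ẑ has k·k*·(number of elements) = (k k* − k − k* + 1)·#G and more than #G / 2 elements. -/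
theorem result {G : Type*} [Group G] [Finite G] (hG : Cfsg.IsMinSimpleOddOrder G)
    (M : Subgroup G) (hM : IsCoatom M) (K U : Subgroup G) (hKU : Cfsg.IsSigmaDecomposition M K U) (hK1 : K ≠ ⊥) (Mstar : Subgroup G) (hMstar : IsCoatom Mstar)
    (hKst : K = Cfsg.sigmaCore Mstar ⊓ Subgroup.centralizer ((Cfsg.sigmaCore M ⊓ Subgroup.centralizer (K : Set G)) : Set G))
    (hKstH : Cfsg.IsPiHallOf (Cfsg.kappa Mstar) (Cfsg.sigmaCore M ⊓ Subgroup.centralizer (K : Set G)) Mstar) :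
    Cfsg.kappa M = Cfsg.tau1 M ∧ Cfsg.IsPiHallOf (Cfsg.sigma M) (Cfsg.sigmaCore M ⊓ Subgroup.centralizer (K : Set G)) Mstar ∧
      (∀ x ∈ K, x ≠ 1 → ∀ y ∈ (Cfsg.sigmaCore M ⊓ Subgroup.centralizer (K : Set G)), y ≠ 1 →
        M ⊓ Subgroup.centralizer ({x} : Set G) = K ⊔ (Cfsg.sigmaCore M ⊓ Subgroup.centralizer (K : Set G)) ∧ Mstar ⊓ Subgroup.centralizer ({y} : Set G) = K ⊔ (Cfsg.sigmaCore M ⊓ Subgroup.centralizer (K : Set G)) ∧
        Subgroup.centralizer ({x * y} : Set G) = K ⊔ (Cfsg.sigmaCore M ⊓ Subgroup.centralizer (K : Set G))) ∧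
      (∀ g : G, g ∉ M → ∀ z ∈ ((↑(K ⊔ (Cfsg.sigmaCore M ⊓ Subgroup.centralizer (K : Set G))) : Set G) \ ((K : Set G) ∪ ↑(Cfsg.sigmaCore M ⊓ Subgroup.centralizer (K : Set G)))), z ∉ M.map (MulAut.conj g).toMonoidHom) ∧
      Nat.card K * Nat.card ↥(Cfsg.sigmaCore M ⊓ Subgroup.centralizer (K : Set G)) * Set.ncard {a : G | ∃ g : G, ∃ z ∈ ((↑(K ⊔ (Cfsg.sigmaCore M ⊓ Subgroup.centralizer (K : Set G))) : Set G) \ ((K : Set G) ∪ ↑(Cfsg.sigmaCore M ⊓ Subgroup.centralizer (K : Set G)))), a = g * z * g⁻¹} =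
        (Nat.card K * Nat.card ↥(Cfsg.sigmaCore M ⊓ Subgroup.centralizer (K : Set G)) - Nat.card K - Nat.card ↥(Cfsg.sigmaCore M ⊓ Subgroup.centralizer (K : Set G)) + 1) * Nat.card G ∧
      Nat.card G < 2 * Set.ncard {a : G | ∃ g : G, ∃ z ∈ ((↑(K ⊔ (Cfsg.sigmaCore M ⊓ Subgroup.centralizer (K : Set G))) : Set G) \ ((K : Set G) ∪ ↑(Cfsg.sigmaCore M ⊓ Subgroup.centralizer (K : Set G)))), a = g * z * g⁻¹} := by
  have h : BGTypeP.TypeP M K := ⟨hG, hM, hKU.hall, hK1⟩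
  have hp : BGTypeP.Pair M K Mstar := ⟨h, ⟨hG, hMstar, hKstH, h.Ks_ne⟩, hKst.symm⟩
  have hσ := BGTypeP.hall hG hM
  have hd : Nat.card ↥⁅M, M⁆ = Nat.card U * Nat.card (Cfsg.sigmaCore M) := by
    rw [(S1365.result hG M hM K U hKU hK1).1, BGFinal72.card_U_sigma hσ hKU]
  have hcM := BGFinal72.card_eq hKU
  refine ⟨?_, ?_, fun x hx hx1 y hy hy1 => ⟨h.centralizer_K hx hx1,
    (hp.right.centralizer_K hy hy1).trans hp.Z_eq,
    h.centralizer_Zh (h.mem_Zh.2 ⟨x, hx, y, hy, hx1, hy1, rfl⟩)⟩, ?_, ?_, h.half_lt⟩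
  · ext p
    constructor
    · intro hpk
      haveI := Fact.mk hpk.1
      refine ⟨hpk.1, hpk.2.2.1, hpk.2.1, fun hdvd => ?_, ?_⟩
      · rw [hd] at hdvd
        rcases hpk.1.dvd_mul.1 hdvd with h' | h'
        · exact (BGFinal72.U_prime hσ hKU hpk.1 h').2 hpk
        · exact hpk.2.2.1 (BGTypeP.piNat_sigmaCore M p hpk.1 h')
      · intro A hA hexp
        haveI := hA
        have hAp : IsPGroup p A := fun a => ⟨1, Subtype.ext (by simpa using hexp a a.2)⟩
        obtain ⟨P, hP⟩ := hAp.exists_le_sylow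
        haveI := (hpk.2.2.2 P).1
        haveI : IsCyclic A :=
          isCyclic_of_injective (Subgroup.inclusion hP) (Subgroup.inclusion_injective hP)
        obtain ⟨a, ha⟩ := IsCyclic.exists_generator (α := A)
        rw [pow_one, ← orderOf_eq_card_of_forall_mem_zpowers ha]
        exact Nat.le_of_dvd hpk.1.pos
          (orderOf_dvd_of_pow_eq_one (Subtype.ext (by simpa using hexp a a.2)))
    · rintro ⟨hp', hpσ, hpM, hpd, -⟩
      by_contra hpk
      rw [← hcM] at hpM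
      rcases hp'.dvd_mul.1 hpM with h' | h'
      · exact hpd (hd ▸ h'.mul_right _)
      rcases hp'.dvd_mul.1 h' with h'' | h''
      · exact hpk (h.hall.2.1 p hp' h'')
      · exact hpσ (BGTypeP.piNat_sigmaCore M p hp' h'')
  · obtain ⟨Y, hY, hle⟩ := exists_hallOf_ge (BGTypeP.solvable hG hMstar) (Cfsg.sigma M)
      hp.right.K_le (piNat_Ks M K)
    have hYσ : Y ≤ Cfsg.sigmaCore M := by
      refine (S1431.result hG M hM K h.hall hK1).2.2.2 Y hY.2.1 ?_
      rw [inf_eq_right.2 hle]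
      exact h.Ks_ne
    have e : Ks M K = Y := by
      refine le_antisymm hle fun z hz => ?_
      have hzZ : z ∈ Zs M K := hp.inf_eq ▸ (⟨BGFinal72.sigmaCore_le M (hYσ hz), hY.1 hz⟩ :
        z ∈ M ⊓ Mstar)
      exact h.mem_Ks_of_piNat hzZ (piNat_mem_sigmaCore (hYσ hz))
    rw [show Cfsg.sigmaCore M ⊓ centralizer (K : Set G) = Y from e]
    exact hY
  · intro g hg z hz hzg
    obtain ⟨k, hk, y, hy, hk1, hy1, rfl⟩ := h.mem_Zh.1 hz
    refine hg (h.mem_of_conj_mem hy hy1 (Subgroup.zpowers_le.2 hzg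
      (mem_zpowers_mul_right (commute_K_Ks hk hy) ?_)))
    exact (PiNat.coprime (piNat_orderOf (piNat_Ks M K) hy) (piNat_orderOf h.piNat_K hk)).symm
  · show Nat.card K * Nat.card ↥(Ks M K) * (conjUnion (Zh M K)).ncard = _
    rw [h.ncard_support]
    congr 1
    show (Zh M K).ncard = Nat.card K * Nat.card ↥(Ks M K) - Nat.card K - Nat.card ↥(Ks M K) + 1
    have h1 := h.ncard_Zh
    have h3 : Nat.card K + Nat.card ↥(Ks M K) ≤ Nat.card K * Nat.card ↥(Ks M K) :=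
      Nat.add_le_mul (K.one_lt_card_iff_ne_bot.2 hK1) ((Ks M K).one_lt_card_iff_ne_bot.2 h.Ks_ne)
    omega

end Cfsg.Agent.S1434
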