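import Cfsg.Statements.S1396
import Cfsg.Agent.Lib.BGTransitivity
import Cfsg.Agent.Lib.PConstrainedSignal
import Cfsg.Agent.Lib.PConstrained
import Cfsg.Agent.Lib.PLengthOne
import Cfsg.Agent.Lib.HallSolvable

set_option autoImplicit false
open Cfsg
open scoped Pointwise

namespace Cfsg.Agent.S1396

open Cfsg.Agent.HallCore

/-- In a group of `p`-length one the `p'`-subgroups normalized by an abelian `p`-subgroup `A` that
contains every element of order `p` of its centralizer lie in the `p'`-core. -/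
theorem le_pPrimeCore_of_pLength_one {X : Type*} [Group X] [Finite X] {p : ℕ} [Fact p.Prime]
    (hp2 : p ≠ 2) (hlen : Cfsg.PLengthLE p 1 X) (hc : Cfsg.IsPConstrained p X) (A : Subgroup X)
    (hA : IsPGroup p A) (hfull : ∀ x ∈ Subgroup.centralizer (A : Set X), x ^ p = 1 → x ∈ A)
    (Y : Subgroup X) (hY : (Nat.card Y).Coprime p) (hAY : A ≤ Subgroup.normalizer (Y : Set X)) :
    Y ≤ Cfsg.pPrimeCore p X := by
  have hOn : (Cfsg.pPrimeCore p X).Normal := pPrimeCore_normal p X
  set O := Cfsg.pPrimeCore p X with hO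
  set π := QuotientGroup.mk' O with hπ
  have hπs : Function.Surjective π := QuotientGroup.mk'_surjective O
  set Pb := Cfsg.pCore p (X ⧸ O) with hPb
  have hPn : Pb.Normal := pCore_normal p _
  have hPp : IsPGroup p Pb := isPGroup_pCore p _
  set Ab := A.map π with hAb
  set Yb := Y.map π with hYb
  have hAbP : Ab ≤ Pb := by
    rintro _ ⟨a, ha, rfl⟩
    exact PLengthOne.le_pPrimePCore hlen hA ha
  have hYcop : (Nat.card Yb).Coprime p :=
    Nat.Coprime.coprime_dvd_left (Subgroup.card_map_dvd _ _) hY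
  have hcop : (Nat.card Yb).Coprime (Nat.card Pb) := by
    obtain ⟨n, hn⟩ := IsPGroup.iff_card.1 hPp
    rw [hn]; exact hYcop.pow_right n
  have hinf : Yb ⊓ Pb = ⊥ := Subgroup.inf_eq_bot_of_coprime hcop
  have hAYb : Ab ≤ Subgroup.normalizer (Yb : Set (X ⧸ O)) :=
    (Subgroup.map_mono hAY).trans (Subgroup.le_normalizer_map π)
  have hYA : Yb ≤ Subgroup.centralizer (Ab : Set (X ⧸ O)) := by
    intro y hy a ha
    have h1 : a * y * a⁻¹ * y⁻¹ ∈ Yb ⊓ Pb := by
      refine ⟨Yb.mul_mem (OddLocalBase.conj_mem_of_le_normalizer hAYb ha hy) (Yb.inv_mem hy), ?_⟩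
      have := Pb.mul_mem (hAbP ha) (hPn.conj_mem _ (Pb.inv_mem (hAbP ha)) y)
      simpa [mul_assoc] using this
    rw [hinf, Subgroup.mem_bot] at h1
    exact mul_inv_eq_iff_eq_mul.1 (mul_inv_eq_one.1 h1)
  have hYP : Yb ≤ Subgroup.normalizer (Pb : Set (X ⧸ O)) := by
    rw [Subgroup.normalizer_eq_top_iff.2 hPn]; exact le_top
  have hYnA : Yb ≤ Subgroup.normalizer (Ab : Set (X ⧸ O)) :=
    hYA.trans (Subgroup.centralizer_le_normalizer _)
  set C := Pb ⊓ Subgroup.centralizer (Ab : Set (X ⧸ O)) with hC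
  have hYC : Yb ≤ Subgroup.centralizer (C : Set (X ⧸ O)) := by
    refine OddLocalBase.centralizes_of_fix_prime_order p hp2 Yb hYcop C (hPp.to_le inf_le_left)
      (PConstrainedSignal.normalizes_inf_centralizer hYP hYnA) ?_
    intro z hz hzo
    obtain ⟨S, hAS⟩ := hA.exists_le_sylow
    have h1 : Pb ≤ ((S.mapSurjective hπs : Sylow p (X ⧸ O)) : Subgroup (X ⧸ O)) :=
      pCore_le_sylow _
    have h2 := h1 hz.1
    rw [Sylow.coe_mapSurjective] at h2
    obtain ⟨s, hs, rfl⟩ := h2
    have hmem : π s ∈ Ab := by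
      refine ⟨s, hfull s (fun a ha => ?_) ?_, rfl⟩
      · refine mul_inv_eq_iff_eq_mul.1 (mul_inv_eq_one.1 (PLengthOne.eq_one_of_mem_of_mem
          S.isPGroup' ((S : Subgroup X).mul_mem ((S : Subgroup X).mul_mem ((S : Subgroup X).mul_mem
            (hAS ha) hs) ((S : Subgroup X).inv_mem (hAS ha))) ((S : Subgroup X).inv_mem hs)) ?_))
        rw [← hO, ← QuotientGroup.eq_one_iff]
        show π (a * s * a⁻¹ * s⁻¹) = 1
        have h3 : π a * π s = π s * π a := hz.2 (π a) (Subgroup.mem_map_of_mem π ha)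
        rw [map_mul, map_mul, map_mul, map_inv, map_inv, h3, mul_inv_cancel_right, mul_inv_cancel]
      · refine PLengthOne.eq_one_of_mem_of_mem S.isPGroup' ((S : Subgroup X).pow_mem hs p) ?_
        rw [← hO, ← QuotientGroup.eq_one_iff]
        show π (s ^ p) = 1
        rw [map_pow, ← hzo]
        exact pow_orderOf_eq_one _
    intro y hy
    exact Subgroup.mem_centralizer_singleton_iff.2 (hYA hy (π s) hmem).symm
  have hYP2 : Yb ≤ Subgroup.centralizer (Pb : Set (X ⧸ O)) := by
    refine CoprimeGen.le_centralizer_of_prod_action hPp (hA.map π)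
      ((Nat.Prime.coprime_iff_not_dvd Fact.out).1 hYcop.symm) hYP
      (hAbP.trans Subgroup.le_normalizer) hYA ?_
    exact fun z hz y hy => (hYC hy z hz).symm
  have hbot : Yb = ⊥ := le_bot_iff.1
    (hinf ▸ le_inf le_rfl (hYP2.trans (PConstrained.centralizer_pCore_quotient_le hc)))
  intro y hy
  rw [← QuotientGroup.eq_one_iff]
  exact (Subgroup.mem_bot).1 (hbot ▸ Subgroup.mem_map_of_mem π hy : π y ∈ (⊥ : Subgroup (X ⧸ O)))

/-- If `A ∈ SCN(P)` for a Sylow `p`-subgroup `P` then `A` contains every `p`-element of `C(A)`. -/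
theorem mem_of_isSCN {G : Type*} [Group G] [Finite G] {p : ℕ} [Fact p.Prime] (P : Sylow p G)
    {A : Subgroup G} (hA : Cfsg.IsSCN (P : Subgroup G) A) {x : G}
    (hx : x ∈ Subgroup.centralizer (A : Set G)) (hxp : IsPGroup p (Subgroup.zpowers x)) : x ∈ A := by
  obtain ⟨-, hPN, hPC⟩ := hA
  set N := Subgroup.normalizer (A : Set G) with hN
  have hxN : x ∈ N := Subgroup.centralizer_le_normalizer _ hx
  obtain ⟨R, hR⟩ := (hxp.comap_subtype (K := N)).exists_le_sylow
  obtain ⟨g, hg⟩ := MulAction.exists_smul_eq N (P.subtype hPN) R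
  have h1 : (⟨x, hxN⟩ : N) ∈ (R : Subgroup N) :=
    hR (show x ∈ Subgroup.zpowers x from Subgroup.mem_zpowers x)
  rw [← hg, Sylow.coe_subgroup_smul, Subgroup.mem_pointwise_smul_iff_inv_smul_mem] at h1
  have h2 : (g : G)⁻¹ * x * g ∈ (P : Subgroup G) := by
    simpa [Subgroup.mem_subgroupOf, mul_assoc] using h1
  have hg' : (g : G)⁻¹ ∈ N := N.inv_mem g.2
  have h3 : (g : G)⁻¹ * x * g ∈ Subgroup.centralizer (A : Set G) := by
    intro a ha
    have ha' : (g : G) * a * (g : G)⁻¹ ∈ A := (Subgroup.mem_normalizer_iff.1 g.2 a).1 ha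
    have h4 := hx _ ha'
    calc a * ((g : G)⁻¹ * x * g) = (g : G)⁻¹ * ((g : G) * a * (g : G)⁻¹ * x) * g := by group
      _ = (g : G)⁻¹ * (x * ((g : G) * a * (g : G)⁻¹)) * g := by rw [h4]
      _ = (g : G)⁻¹ * x * g * a := by group
  have h5 : (g : G)⁻¹ * x * g ∈ A := hPC.le ⟨h2, h3⟩
  have h6 := (Subgroup.mem_normalizer_iff.1 g.2 _).1 h5
  simpa [mul_assoc] using h6

/-- Let G be a minimal simple group of odd order, p a prime dividing the order of G and A an abelian p-subgroup. Suppose either (1) A consists exactly of the elements x of C_G(A) with x^p = 1, and every proper subgroup of G has p-length at most one, or (2) A is normal and self-centralizing in some Sylow p-subgroup of G and has rank at least 2. Then A satisfies the transitivity hypothesis. -/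
theorem result {G : Type*} [Group G] [Finite G] (hG : Cfsg.IsMinSimpleOddOrder G)
    (p : ℕ) [Fact p.Prime] (hp : p ∣ Nat.card G) (A : Subgroup G) (hAp : IsPGroup p A) (hAc : IsMulCommutative A)
    (h : (∀ x ∈ Subgroup.centralizer (A : Set G), x ^ p = 1 ↔ x ∈ A) ∧ (∀ H : Subgroup G, H ≠ ⊤ → Cfsg.PLengthLE p 1 H) ∨
      ∃ P : Sylow p G, Cfsg.IsSCN (P : Subgroup G) A ∧ ¬ Cfsg.PRankLE p 1 A) :
    Cfsg.TransitivityHypothesis A := by
  have hp' : p.Prime := Fact.out
  have hp2 : p ≠ 2 := fun h2 => by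
    have := hG.1.of_dvd_nat hp
    rw [h2] at this
    exact absurd this (by decide)
  have hA1 : A ≠ ⊥ := by
    rintro rfl
    rcases h with ⟨h, -⟩ | ⟨P, -, h⟩
    · obtain ⟨x, hx⟩ := exists_prime_orderOf_dvd_card' p hp
      have hx1 := (h x (fun y hy => by
        rw [SetLike.mem_coe, Subgroup.mem_bot] at hy
        simp [hy])).1 (hx ▸ pow_orderOf_eq_one x)
      rw [Subgroup.mem_bot] at hx1
      rw [hx1, orderOf_one] at hx
      exact hp'.one_lt.ne hx
    · refine h fun B _ _ => ?_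
      have := Subgroup.card_subgroup_dvd_card B
      rw [Subgroup.card_bot] at this
      rw [Nat.dvd_one.1 this, pow_one]
      exact hp'.one_le
  refine ⟨hA1, BGTransitivity.qgroup_ne_top hG hAp, fun X hX hAX => ?_⟩
  obtain ⟨k, hk⟩ := IsPGroup.iff_card.1 hAp
  have hk0 : k ≠ 0 := fun h0 => hA1 (Subgroup.card_eq_one.1 (by rw [hk, h0, pow_zero]))
  have hπ : ∀ q : ℕ, q ∈ Cfsg.primesNotDvd (Nat.card A) ↔ q.Prime ∧ q ≠ p := by
    intro q
    refine and_congr_right fun hq => not_congr ?_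
    rw [hk]
    exact ⟨fun hd => (Nat.prime_dvd_prime_iff_eq hq hp').1 (hq.dvd_of_dvd_pow hd),
      fun he => he ▸ dvd_pow_self p hk0⟩
  haveI : Group.IsSolvable X := hG.2.2.2 X hX
  have hc : Cfsg.IsPConstrained p X :=
    HallSolvable.isPConstrained_of_isPSolvable (HallSolvable.isPSolvable_of_solvable p)
  refine le_antisymm (sSup_le fun Y hY => ?_) (le_sSup ⟨BGTransitivity.piCoreOf_le _ _,
    BGTransitivity.piNat_card_piCoreOf _ _,
    BGTransitivity.le_normalizer_piCoreOf _ (hAX.trans Subgroup.le_normalizer)⟩)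
  obtain ⟨hYX, hYπ, hAY⟩ := hY
  set A' := A.subgroupOf X with hA'
  set Y' := Y.subgroupOf X with hY'
  have hA'p : IsPGroup p A' := hAp.comap_subtype
  have hY'c : (Nat.card Y').Coprime p := by
    rw [Nat.card_congr (Subgroup.subgroupOfEquivOfLe hYX).toEquiv, Nat.coprime_comm,
      hp'.coprime_iff_not_dvd]
    exact fun hd => ((hπ p).1 (hYπ p hp' hd)).2 rfl
  have hAY' : A' ≤ Subgroup.normalizer (Y' : Set X) := by
    rw [hY', ← Subgroup.subgroupOf_normalizer_eq hYX]
    exact fun a ha => hAY ha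
  have hcent : ∀ x ∈ Subgroup.centralizer (A' : Set X), (x : G) ∈ Subgroup.centralizer (A : Set G) :=
    fun x hx a ha => congrArg Subtype.val (hx ⟨a, hAX ha⟩ ha)
  have key : Y' ≤ Cfsg.pPrimeCore p X := by
    rcases h with ⟨h, hlen⟩ | ⟨P, hP, -⟩
    · refine le_pPrimeCore_of_pLength_one hp2 (hlen X hX) hc A' hA'p ?_ Y' hY'c hAY'
      exact fun x hx hxp => (h x (hcent x hx)).1 (by simpa using congrArg Subtype.val hxp)
    · refine PConstrainedSignal.le_pPrimeCore_of_pConstrained p hc (fun h2 => absurd h2 hp2) A'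
        hA'p ?_ Y' hY'c hAY'
      intro x hx hxp
      refine mem_of_isSCN P hP (hcent x hx) ?_
      have := hxp.map X.subtype
      rwa [MonoidHom.map_zpowers] at this
  have key2 : Y' ≤ Cfsg.piCore (Cfsg.primesNotDvd (Nat.card A)) X := by
    refine key.trans ?_
    haveI := pPrimeCore_normal p X
    refine le_piCore fun q hq hd => (hπ q).2 ⟨hq, ?_⟩
    rintro rfl
    exact hq.coprime_iff_not_dvd.1 (coprime_card_pPrimeCore q X).symm hd
  intro y hy
  exact ⟨⟨y, hYX hy⟩, key2 hy, rfl⟩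

end Cfsg.Agent.S1396
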