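import Cfsg.Statements.S1465
import Cfsg.Agent.Lib.OddQuadratic
import Cfsg.Agent.Lib.HallSolvable

set_option autoImplicit false
open Cfsg

namespace Cfsg.Agent.S1465

/-- Let p be an odd prime, G a solvable group of odd order, P a normal p-subgroup of G, and X the subgroup generated by a family of abelian p-subgroups of G each normalized by P. Then the image of X in G/C_G(P) lies in O_p(G/C_G(P)); and if O_{p'}(G) = 1 and O_p(G) ∩ C_G(P) ≤ P then X ≤ O_p(G). -/
theorem result {G : Type*} [Group G] [Finite G] [Group.IsSolvable G] (hodd : Odd (Nat.card G)) (p : ℕ) [Fact p.Prime] (hp : p ≠ 2) (P : Subgroup G) [P.Normal] (hP : IsPGroup p P)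
    (S : Set (Subgroup G)) (hS : ∀ B ∈ S, IsMulCommutative B ∧ IsPGroup p B ∧ P ≤ Subgroup.normalizer (B : Set G)) :
    (sSup S).map (QuotientGroup.mk' (Subgroup.centralizer (P : Set G))) ≤ Cfsg.pCore p (G ⧸ Subgroup.centralizer (P : Set G)) ∧
      (Cfsg.pPrimeCore p G = ⊥ → Cfsg.pCore p G ⊓ Subgroup.centralizer (P : Set G) ≤ P → sSup S ≤ Cfsg.pCore p G) := by
  set C := Subgroup.centralizer (P : Set G) with hC
  let φ : G ⧸ C →* MulAut P := QuotientGroup.lift C MulAut.conjNormal (fun c hc => by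
    rw [MonoidHom.mem_ker]
    refine MulEquiv.ext fun x => Subtype.ext ?_
    rw [MulAut.conjNormal_apply, MulAut.one_apply, ← (Subgroup.mem_centralizer_iff.mp hc _ x.2),
      mul_inv_cancel_right])
  have hφ : Function.Injective φ := by
    rw [injective_iff_map_eq_one]
    intro y hy
    induction y using QuotientGroup.induction_on with
    | _ g =>
      refine (QuotientGroup.eq_one_iff g).mpr (Subgroup.mem_centralizer_iff.mpr fun x hx => ?_)
      have h1 : g * x * g⁻¹ = x := congrArg Subtype.val (DFunLike.congr_fun hy (⟨x, hx⟩ : P))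
      exact (mul_inv_eq_iff_eq_mul.mp h1).symm
  have hoddQ : Odd (Nat.card (G ⧸ C)) := Odd.of_dvd_nat hodd (Subgroup.card_quotient_dvd_card C)
  have h1 : (sSup S).map (QuotientGroup.mk' C) ≤ Cfsg.pCore p (G ⧸ C) := by
    rw [Subgroup.map_le_iff_le_comap]
    refine sSup_le fun B hB b hb => ?_
    obtain ⟨hBc, -, hBn⟩ := hS B hB
    refine Cfsg.Agent.OddQuadratic.quadratic_mem_pCore hp hoddQ hP φ hφ _ fun x => ?_
    apply Subtype.ext
    change b * ((x : G)⁻¹ * (b * (x : G) * b⁻¹)) * b⁻¹ = (x : G)⁻¹ * (b * (x : G) * b⁻¹)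
    have hm : (x : G)⁻¹ * (b * (x : G) * b⁻¹) ∈ B := by
      have := B.mul_mem (Subgroup.le_normalizer_iff.mp (hBn : P ≤ _) _ (P.inv_mem x.2) b hb) (B.inv_mem hb)
      simpa [mul_assoc] using this
    rw [mul_inv_eq_iff_eq_mul]
    exact congrArg Subtype.val (mul_comm' (⟨b, hb⟩ : B) ⟨_, hm⟩)
  refine ⟨h1, fun hp' hPC => ?_⟩
  have hCn : C.Normal := inferInstance
  have hpC : Cfsg.pPrimeCore p C = ⊥ := by
    have h := Cfsg.Agent.HallCore.map_subtype_pPrimeCore (p := p) C
    rw [hp', bot_inf_eq] at h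
    exact (Subgroup.map_eq_bot_iff_of_injective _ C.subtype_injective).mp h
  have hcent := Cfsg.Agent.HallSolvable.centralizer_pCore_le
    (Cfsg.Agent.HallSolvable.isPSolvable_of_solvable (G := C) p) hpC
  have hCp : IsPGroup p C := by
    suffices h : (⊤ : Subgroup C) ≤ Cfsg.pCore p C from
      ((Cfsg.Agent.HallCore.isPGroup_pCore p C).to_le h).of_equiv Subgroup.topEquiv
    refine le_trans (fun c _ => ?_) hcent
    rw [Subgroup.mem_centralizer_iff]
    intro d hd
    have hdG : (d : G) ∈ Cfsg.pCore p G ⊓ C := by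
      rw [← Cfsg.Agent.HallCore.map_subtype_pCore C]
      exact ⟨d, hd, rfl⟩
    exact Subtype.ext (Subgroup.mem_centralizer_iff.mp c.2 _ (hPC hdG))
  exact (Subgroup.map_le_iff_le_comap.mp h1).trans
    (Cfsg.Agent.HallCore.le_pCore (Cfsg.Agent.HallCore.isPGroup_comap_mk' hCp
      (Cfsg.Agent.HallCore.isPGroup_pCore p _)))

end Cfsg.Agent.S1465
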