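import Cfsg.Statements.S1457
import Cfsg.Agent.S1465
import Cfsg.Agent.Lib.HallCore

set_option autoImplicit false
open Cfsg

namespace Cfsg.Agent.S1457

/-- Let G be a solvable group of odd order, p a prime, S a Sylow p-subgroup of G and A an abelian subgroup of S normal in S. Then A ≤ O_{p',p}(G). -/
theorem result {G : Type*} [Group G] [Finite G] [Group.IsSolvable G] (hodd : Odd (Nat.card G)) (p : ℕ) [Fact p.Prime] (S : Sylow p G) (A : Subgroup G) (hA : A ≤ (S : Subgroup G)) (hAc : IsMulCommutative A)
    (hAn : (S : Subgroup G) ≤ Subgroup.normalizer (A : Set G)) :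
    A ≤ Cfsg.pPrimePCore p G := by
  by_cases hp : p = 2
  · subst hp
    obtain ⟨k, hk⟩ := IsPGroup.iff_card.mp S.2
    have hdvd : Nat.card (S : Subgroup G) ∣ Nat.card G := Subgroup.card_subgroup_dvd_card _
    have hk0 : k = 0 := by
      by_contra h
      exact Nat.not_even_iff_odd.mpr hodd (even_iff_two_dvd.mpr
        ((dvd_pow_self 2 h).trans (hk ▸ hdvd)))
    rw [hk0, pow_zero, Subgroup.card_eq_one] at hk
    exact (hA.trans hk.le).trans bot_le
  set q := QuotientGroup.mk' (Cfsg.pPrimeCore p G) with hq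
  have hs : Function.Surjective q := QuotientGroup.mk'_surjective _
  have hoddQ : Odd (Nat.card (G ⧸ Cfsg.pPrimeCore p G)) :=
    Odd.of_dvd_nat hodd (Subgroup.card_quotient_dvd_card _)
  have := hAc
  have h := (Cfsg.Agent.S1465.result hoddQ p hp (Cfsg.pCore p (G ⧸ Cfsg.pPrimeCore p G))
    (Cfsg.Agent.HallCore.isPGroup_pCore p _) {A.map q} (by
      intro B hB
      rw [Set.mem_singleton_iff] at hB
      subst hB
      refine ⟨inferInstance, (S.2.to_le hA).map q, ?_⟩
      refine le_trans ?_ ((Subgroup.map_mono hAn).trans (Subgroup.le_normalizer_map q))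
      have h2 := Cfsg.Agent.HallCore.pCore_le_sylow (S.mapSurjective hs)
      simpa using h2)).2 (Cfsg.Agent.HallCore.pPrimeCore_quotient_self p G) inf_le_left
  rw [sSup_singleton] at h
  exact Subgroup.map_le_iff_le_comap.mp h

end Cfsg.Agent.S1457
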