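import Cfsg.Statements.S0031
import Mathlib

set_option autoImplicit false
open Cfsg

namespace Cfsg.Agent.S0031

open scoped Pointwise commutatorElement



/-- A fixed-point-free automorphism of a finite group maps some Sylow p-subgroup to itself. -/
theorem result {G : Type*} [Group G] [Finite G] (φ : G ≃* G)
    (hφ : MonoidHom.FixedPointFree (φ : G →* G)) (p : ℕ) [Fact p.Prime] :
    ∃ P : Sylow p G, (P : Subgroup G).map (φ : G →* G) = P := by
  obtain ⟨P⟩ := (inferInstance : Nonempty (Sylow p G))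
  have hsur : Function.Surjective (φ : G →* G) := φ.surjective
  let P₁ : Sylow p G := P.mapSurjective hsur
  obtain ⟨g, hg⟩ := MulAction.exists_smul_eq G P P₁
  obtain ⟨y, hy⟩ := hφ.commutatorMap_surjective g⁻¹
  refine ⟨y⁻¹ • P, ?_⟩
  have hy' : g = φ y * y⁻¹ := by
    rw [← inv_inj, ← hy]
    simp [MonoidHom.commutatorMap, div_eq_mul_inv]
  have h1 : ((P : Subgroup G)).map (φ : G →* G) = MulAut.conj g • (P : Subgroup G) := by
    rw [← Sylow.coe_subgroup_smul]
    exact (congrArg (fun Q : Sylow p G => (Q : Subgroup G)) hg).symm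
  rw [Sylow.coe_subgroup_smul]
  have h2 : ∀ w : G, g⁻¹ * φ w * g ∈ (P : Subgroup G) ↔ w ∈ (P : Subgroup G) := by
    intro w
    have := (Subgroup.ext_iff.1 h1) (φ w)
    rw [Subgroup.mem_pointwise_smul_iff_inv_smul_mem, MulAut.smul_def, MulAut.conj_inv_apply] at this
    refine this.symm.trans ?_
    exact Subgroup.mem_map_iff_mem φ.injective
  ext z
  obtain ⟨w, rfl⟩ := φ.surjective z
  refine (Subgroup.mem_map_iff_mem φ.injective).trans ?_
  rw [Subgroup.mem_pointwise_smul_iff_inv_smul_mem, Subgroup.mem_pointwise_smul_iff_inv_smul_mem]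
  simp only [MulAut.smul_def, MulAut.conj_inv_apply, inv_inv]
  rw [← h2 (y * w * y⁻¹), hy', map_mul, map_mul, map_inv]
  group

end Cfsg.Agent.S0031
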