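import Cfsg.Statements.S1429
import Cfsg.Agent.Lib.BGPrimeRank
import Cfsg.Agent.Lib.BGFinalBasic72
import Cfsg.Agent.Lib.FrobeniusNilpotent
import Cfsg.Agent.S1417
-- import your own Cfsg.Agent.* helpers here

set_option autoImplicit false
open Cfsg

namespace Cfsg.Agent.S1429

open scoped Pointwise


/-- Let G be a minimal simple group of odd order and M a maximal subgroup such that κ(M) is not the whole of the primes of M outside σ(M) (M is not of type P₁). Let p divide the order of M with p ∉ σ(M) ∪ κ(M), S a Sylow p-subgroup of M, and A the subgroup generated by the elements of S of order dividing p. Then A has order at most p ^ 2, M_σ ∩ C_G(A) = 1, and M_σ is nilpotent. -/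
theorem result {G : Type*} [Group G] [Finite G] (hG : Cfsg.IsMinSimpleOddOrder G)
    (M : Subgroup G) (hM : IsCoatom M) (hP1 : ¬ (∀ q : ℕ, q.Prime → q ∣ Nat.card M → q ∉ Cfsg.sigma M → q ∈ Cfsg.kappa M))
    (p : ℕ) [Fact p.Prime] (hpM : p ∣ Nat.card M) (hp : p ∉ Cfsg.sigma M ∪ Cfsg.kappa M) (S : Sylow p M) :
    Nat.card ↥(Subgroup.closure {x : G | x ∈ (S : Subgroup M).map M.subtype ∧ x ^ p = 1}) ≤ p ^ 2 ∧
      Cfsg.sigmaCore M ⊓ Subgroup.centralizer ((Subgroup.closure {x : G | x ∈ (S : Subgroup M).map M.subtype ∧ x ^ p = 1} : Subgroup G) : Set G) = ⊥ ∧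
      Group.IsNilpotent (Cfsg.sigmaCore M) := by
  have hps : p ∉ Cfsg.sigma M := fun h => hp (Or.inl h)
  have hpk : p ∉ Cfsg.kappa M := fun h => hp (Or.inr h)
  set S' : Subgroup G := (S : Subgroup M).map M.subtype with hS'
  have hSM : S' ≤ M := Subgroup.map_subtype_le _
  have hmax : BGUnique.IsMaxP p S' M := BGUnique.isMaxP_sylow M S
  by_cases hr1 : Cfsg.PRankLE p 1 M
  · haveI := BGPrime.isCyclic_of_rank_one hG hr1 hmax.isPGroup hSM
    letI : CommGroup ↥S' := IsCyclic.commGroup
    have hdS : p ∣ Nat.card S' := by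
      rw [hS', Subgroup.card_map_of_injective M.subtype_injective]
      exact S.dvd_card_of_dvd_card hpM
    obtain ⟨⟨a, ha⟩, hao⟩ := exists_prime_orderOf_dvd_card' (G := S') p hdS
    rw [Subgroup.orderOf_mk] at hao
    have hca : Nat.card (Subgroup.zpowers a) = p := by rw [Nat.card_zpowers, hao]
    have ha1 : a ≠ 1 := fun h => (Fact.out : p.Prime).one_lt.ne (by rw [← hao, h, orderOf_one])
    have heq : Subgroup.closure {x : G | x ∈ S' ∧ x ^ p = 1} = Subgroup.zpowers a := by
      refine le_antisymm ((Subgroup.closure_le _).2 fun x hx => ?_)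
        (Subgroup.zpowers_le.2 (Subgroup.subset_closure ⟨ha, hao ▸ pow_orderOf_eq_one a⟩))
      by_cases hx1 : x = 1
      · rw [hx1]; exact one_mem _
      · have he : Subgroup.zpowers x = Subgroup.zpowers a := by
          refine BGPrime.eq_of_commute hr1 (Subgroup.zpowers_le.2 (hSM hx.1))
            (Subgroup.zpowers_le.2 (hSM ha)) ?_ hca fun u hu v hv => ?_
          · rw [Nat.card_zpowers, orderOf_eq_prime hx.2 hx1]
          · exact congrArg Subtype.val (mul_comm
              (⟨u, Subgroup.zpowers_le.2 hx.1 hu⟩ : S') ⟨v, Subgroup.zpowers_le.2 ha hv⟩)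
        exact he ▸ Subgroup.mem_zpowers x
    have hfix : ∀ y ∈ Cfsg.sigmaCore M, a * y = y * a → y = 1 := fun y hy hay => by
      by_contra hy1
      exact (BGFinal72.mem_tau2_of_fixed hG hM Fact.out hps hpk (hSM ha) hao hy hy1 hay).2.2.2 hr1
    rw [heq]
    refine ⟨by rw [hca]; exact Nat.le_self_pow two_ne_zero p, ?_, ?_⟩
    · rw [eq_bot_iff]
      exact fun y hy => Subgroup.mem_bot.2
        (hfix y hy.1 (hy.2 a (Subgroup.mem_zpowers a)))
    · haveI := Cfsg.piCore_normal (Cfsg.sigma M) M
      haveI : Group.IsNilpotent ↥(Cfsg.piCore (Cfsg.sigma M) M) := by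
        refine FrobeniusNilpotent.isNilpotent_of_complement
          (H := (Subgroup.zpowers a).subgroupOf M) ?_ fun e he he1 => eq_bot_iff.2 fun y hy => ?_
        · rw [Ne, Subgroup.subgroupOf_eq_bot, disjoint_iff,
            inf_eq_left.2 (Subgroup.zpowers_le.2 (hSM ha)), Subgroup.zpowers_eq_bot]
          exact ha1
        · have he' : (e : G) ∈ Subgroup.zpowers a := he
          have hez : Subgroup.zpowers (e : G) = Subgroup.zpowers a :=
            Subgroup.eq_of_le_of_card_ge (Subgroup.zpowers_le.2 he') (by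
              rw [hca, Nat.card_zpowers]
              refine (Nat.le_of_eq ?_)
              rcases (Nat.dvd_prime Fact.out).1 (hca ▸ (Subgroup.zpowers a).orderOf_dvd_natCard he')
                with h | h
              · exact absurd (Subtype.ext (orderOf_eq_one_iff.1 h)) he1
              · exact h.symm)
          rw [Subgroup.mem_bot]
          refine Subtype.ext (hfix y ⟨y, hy.1, rfl⟩ ?_)
          have hc : Commute (y : G) e :=
            (congrArg Subtype.val (hy.2 e rfl) : (e : G) * y = y * e).symm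
          obtain ⟨j, hj⟩ := (hez.symm ▸ Subgroup.mem_zpowers a : a ∈ Subgroup.zpowers (e : G))
          rw [← hj]
          exact (hc.zpow_right j).eq.symm
      exact Group.nilpotent_of_mulEquiv
        ((Cfsg.piCore (Cfsg.sigma M) M).equivMapOfInjective _ M.subtype_injective)
  · have hτ : p ∈ Cfsg.tau2 M := ⟨Fact.out, hps, BGSigma.outside_alpha hG hM Fact.out hps, hr1⟩
    obtain ⟨A₀, hA₀M, hA₀, hA₀c⟩ := BGPrime.exists_sq_of_not_rank_one hr1
    obtain ⟨m, hm, hmA⟩ := BGSigma.exists_conj_maxP hmax hA₀M (IsPGroup.of_card hA₀c)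
    obtain ⟨hnil, hSyl, -, hfix, -⟩ := S1417.result hG M hM p hτ (MulAut.conj m • A₀)
      ⟨hmA.trans hSM, PGroupsBasic.isElementaryAbelian_map_hom hA₀ _,
        (Nat.card_congr (Subgroup.equivSMul (MulAut.conj m) A₀).toEquiv).symm.trans hA₀c⟩
    obtain ⟨hΩ, -⟩ := (hSyl S).2 hmA
    have heq : Subgroup.closure {x : G | x ∈ S' ∧ x ^ p = 1} = MulAut.conj m • A₀ :=
      le_antisymm ((Subgroup.closure_le _).2 fun x hx => (hΩ x hx.1).1 hx.2)
        fun x hx => Subgroup.subset_closure ⟨hmA hx, (hΩ x (hmA hx)).2 hx⟩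
    rw [heq]
    exact ⟨((Nat.card_congr (Subgroup.equivSMul (MulAut.conj m) A₀).toEquiv).symm.trans hA₀c).le,
      hfix, hnil⟩

end Cfsg.Agent.S1429
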