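import Cfsg.Statements.S1445
import Cfsg.Agent.Lib.BGThreeBase
import Cfsg.Agent.Lib.ComponentsFitting

set_option autoImplicit false
open Cfsg
open scoped commutatorElement

namespace Cfsg.Agent.S1445

variable {X : Type*} [Group X] [Finite X]

theorem normalizer_top_of_normal (A B : Subgroup X) [B.Normal] : A ≤ Subgroup.normalizer (B : Set X) := by
  rw [Subgroup.normalizer_eq_top]; exact le_top

/-- Let G be a solvable group of odd order, K a normal subgroup and R a subgroup with G = KR and the orders of K and R coprime. Suppose K ∩ C_G(x) = K ∩ C_G(R) for every non-identity x ∈ R, and F(K) ∩ C_G(R) = 1. Then [K, R] is contained in the Fitting subgroup of K. -/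
theorem result {G : Type*} [Group G] [Finite G] [Group.IsSolvable G] (hodd : Odd (Nat.card G)) (K R : Subgroup G) [K.Normal] (hKR : K ⊔ R = ⊤) (hcop : (Nat.card K).Coprime (Nat.card R))
    (hprime : ∀ x ∈ R, x ≠ 1 → K ⊓ Subgroup.centralizer ({x} : Set G) = (K ⊓ Subgroup.centralizer (R : Set G)))
    (hF : Cfsg.fittingOf K ⊓ Subgroup.centralizer (R : Set G) = ⊥) :
    ⁅K, R⁆ ≤ Cfsg.fittingOf K := by
  rcases eq_or_ne R ⊥ with rfl | hR1
  · rw [Subgroup.commutator_bot_right]; exact bot_le
  obtain ⟨r, hr, hrd⟩ := Nat.exists_prime_and_dvd (n := Nat.card R)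
    (fun e => hR1 (Subgroup.card_eq_one.1 e))
  have := Fact.mk hr
  obtain ⟨⟨x, hx⟩, hxo⟩ := exists_prime_orderOf_dvd_card' (G := R) r hrd
  rw [Subgroup.orderOf_mk] at hxo
  have hx1 : x ≠ 1 := fun e => hr.ne_one (by rw [← hxo, e, orderOf_one])
  set R₀ := Subgroup.zpowers x
  have hR₀R : R₀ ≤ R := Subgroup.zpowers_le.2 hx
  have hR₀ : (Nat.card R₀).Prime := by rw [Nat.card_zpowers, hxo]; exact hr
  have hodd' : ∀ A : Subgroup G, Odd (Nat.card A) := fun A => hodd.of_dvd_nat A.card_subgroup_dvd_card
  have hKR₀ : (Nat.card K).Coprime (Nat.card R₀) := hcop.coprime_dvd_right (Subgroup.card_dvd_of_le hR₀R)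
  set F := Cfsg.fittingOf K with hFdef
  have hFK : F ≤ K := Subgroup.map_subtype_le _
  have hchar : (Cfsg.fittingSubgroup K).Characteristic :=
    Subgroup.characteristic_iff_map_le.2 fun e => ComponentsCores.fitting_map_le e
  have hFn : F.Normal := by rw [hFdef, Cfsg.fittingOf]; infer_instance
  have hC : K ⊓ Subgroup.centralizer (R₀ : Set G) = K ⊓ Subgroup.centralizer (R : Set G) := by
    rw [← hprime x hx hx1]
    refine le_antisymm (inf_le_inf_left _ (Subgroup.centralizer_le ?_)) (le_inf inf_le_left ?_)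
    · simp [R₀]
    · intro g hg a ha
      obtain ⟨i, rfl⟩ := Subgroup.mem_zpowers_iff.1 ha
      exact ((show Commute x g from hg.2 x rfl).zpow_left i).eq
  have hFfix : F ⊓ Subgroup.centralizer (R₀ : Set G) = ⊥ := by
    rw [← inf_eq_left.2 hFK, inf_assoc, hC, ← inf_assoc, inf_eq_left.2 hFK]
    exact hF
  -- it is enough to treat `R₀`
  suffices hmain : ⁅K, R₀⁆ ≤ F by
    rw [Subgroup.commutator_le]
    intro k hk t ht
    obtain ⟨a, ha, c, hc, rfl⟩ := CoprimeAction.exists_mul_fixed (normalizer_top_of_normal R₀ K) hKR₀.symm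
      (Or.inr inferInstance) hk
    rw [hC] at hc
    have hcomm : t * c = c * t := hc.2 t ht
    have hd : ⁅a * c, t⁆ = a * (t * a⁻¹ * t⁻¹) := by
      rw [commutatorElement_def]
      calc a * c * t * (a * c)⁻¹ * t⁻¹ = a * (c * t) * c⁻¹ * a⁻¹ * t⁻¹ := by group
        _ = _ := by rw [← hcomm]; group
    rw [hd]
    exact F.mul_mem (hmain ha) (hFn.conj_mem _ (F.inv_mem (hmain ha)) t)
  set f := QuotientGroup.mk' F with hf
  have hsurj : Function.Surjective f := QuotientGroup.mk'_surjective F
  have hKbn : (K.map f).Normal := Subgroup.Normal.map inferInstance f hsurj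
  have hchar' : ∀ q : ℕ, (Cfsg.pCore q ↥(K.map f)).Characteristic := fun q =>
    HallCore.pCore_characteristic q _
  -- each prime part of the Fitting subgroup of the quotient is centralised
  have hpart : ∀ q : ℕ, q.Prime →
      ⁅(Cfsg.pCore q ↥(K.map f)).map (K.map f).subtype, R₀.map f⁆ = ⊥ := by
    intro q hq
    have := Fact.mk hq
    set Pb := (Cfsg.pCore q ↥(K.map f)).map (K.map f).subtype
    have hPbn : Pb.Normal := by infer_instance
    set P := Pb.comap f with hPdef
    have hPn : P.Normal := hPbn.comap f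
    have hFP : F ≤ P := fun z hz => by
      show f z ∈ Pb
      rw [hf, QuotientGroup.mk'_apply, (QuotientGroup.eq_one_iff z).2 hz]
      exact one_mem _
    have hPK : P ≤ K := by
      intro z hz
      have h1 : f z ∈ K.map f := Subgroup.map_subtype_le _ hz
      have h2 : z ∈ (K.map f).comap f := h1
      rwa [HallSolvable.comap_mk'_map_of_le hFK] at h2
    obtain ⟨Q, hQn⟩ := CoprimeAction.exists_invariant_sylow (normalizer_top_of_normal R₀ P)
      (hKR₀.symm.coprime_dvd_right (Subgroup.card_dvd_of_le hPK)) (Or.inr inferInstance) q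
    set Q' := (Q : Subgroup P).map P.subtype
    have hQP : Q' ≤ P := Subgroup.map_subtype_le _
    have hQp : IsPGroup q Q' := Q.2.map _
    set L := F ⊓ (Cfsg.pPrimeCore q K).map K.subtype with hLdef
    have hLq : (Nat.card L).Coprime q := by
      refine Nat.Coprime.coprime_dvd_left (Subgroup.card_dvd_of_le inf_le_right) ?_
      rw [Nat.card_congr (Subgroup.equivMapOfInjective _ _ K.subtype_injective).symm.toEquiv]
      exact HallCore.coprime_card_pPrimeCore q K
    have := HallCore.pPrimeCore_characteristic q K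
    have hLn : L.Normal := by rw [hLdef]; infer_instance
    -- `P = L Q'`
    have hOq : (Cfsg.pCore q K).map K.subtype ≤ Q' := by
      have := HallCore.pCore_characteristic q K
      set O := (Cfsg.pCore q K).map K.subtype
      have hOF : O ≤ F := Subgroup.map_mono (ComponentsFitting.pCore_le_fitting hq)
      have hOp : IsPGroup q (O.subgroupOf P) :=
        ((HallCore.isPGroup_pCore q K).map _).comap_of_injective P.subtype P.subtype_injective
      have hO : O.subgroupOf P ≤ (Q : Subgroup P) :=
        (HallCore.le_pCore hOp).trans (HallCore.pCore_le_sylow Q)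
      intro z hz
      exact ⟨⟨z, hFP (hOF hz)⟩, hO hz, rfl⟩
    have hFLQ : F ≤ L ⊔ Q' := by
      rw [hFdef, Cfsg.fittingOf, ComponentsFitting.fittingSubgroup_eq_iSup, Subgroup.map_iSup]
      refine iSup_le fun l => ?_
      obtain ⟨l, hl⟩ := l
      have hlp := Nat.prime_of_mem_primeFactors hl
      have := Fact.mk hlp
      by_cases hlq : l = q
      · subst hlq; exact hOq.trans le_sup_right
      refine le_trans (le_inf ?_ (Subgroup.map_mono ?_)) le_sup_left
      · exact Subgroup.map_mono (ComponentsFitting.pCore_le_fitting hlp)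
      · have := HallCore.pCore_normal l K
        refine HallCore.le_pPrimeCore ?_
        obtain ⟨k, hk⟩ := HallCore.card_pCore l K
        rw [hk]
        exact Nat.Coprime.pow_left k ((Nat.coprime_primes hlp hq).2 hlq)
    have hPLQ : P ≤ L ⊔ Q' := by
      have hq' : IsPGroup q (P.map f) :=
        ((HallCore.isPGroup_pCore q _).map _).to_le (Subgroup.map_comap_le _ _)
      have htop : (Q : Subgroup P).map (f.subgroupMap P) = ⊤ := by
        have hs : Function.Surjective (f.subgroupMap P) := f.subgroupMap_surjective P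
        exact ((Q.mapSurjective hs).is_maximal' (hq'.to_subgroup ⊤) le_top).symm
      intro z hz
      have h1 : (⟨f z, Subgroup.mem_map_of_mem f hz⟩ : P.map f) ∈ (Q : Subgroup P).map (f.subgroupMap P) := by
        rw [htop]; trivial
      obtain ⟨w, hw, he⟩ := h1
      have h2 : f (w : G) = f z := congrArg Subtype.val he
      have h3 : (w : G)⁻¹ * z ∈ F := by
        rw [← QuotientGroup.eq_one_iff]
        show f ((w : G)⁻¹ * z) = 1
        rw [map_mul, map_inv, h2, inv_mul_cancel]
      rw [show z = (w : G) * ((w : G)⁻¹ * z) by group]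
      exact (L ⊔ Q').mul_mem ((le_sup_right : Q' ≤ L ⊔ Q') (Subgroup.mem_map_of_mem _ hw)) (hFLQ h3)
    -- the centraliser of `L` in `P` lies in `F`
    have hN : P ⊓ Subgroup.centralizer (L : Set G) ≤ F := by
      set N := P ⊓ Subgroup.centralizer (L : Set G)
      have hNq : IsPGroup q (N.map (QuotientGroup.mk' L)) := by
        refine (hQp.map (QuotientGroup.mk' L)).to_le ?_
        refine (Subgroup.map_mono (inf_le_left.trans hPLQ)).trans ?_
        rw [Subgroup.map_sup, HallSolvable.map_mk'_eq_bot.2 le_rfl, bot_sup_eq]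
      have hnil : Group.IsNilpotent N := by
        have := hNq.isNilpotent
        refine Subgroup.isNilpotent_of_ker_le_center ((QuotientGroup.mk' L).subgroupMap N) ?_
        intro a ha
        have h1 : (a : G) ∈ L := (QuotientGroup.eq_one_iff _).1
          (congrArg Subtype.val (MonoidHom.mem_ker.1 ha))
        exact Subgroup.mem_center_iff.2 fun b => Subtype.ext (b.2.2 _ h1).symm
      have hNK : N ≤ K := inf_le_left.trans hPK
      have hn1 : (N.subgroupOf K).Normal := inferInstance
      have hn2 : Group.IsNilpotent (N.subgroupOf K) := by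
        have := hnil
        exact Group.nilpotent_of_surjective (Subgroup.subgroupOfEquivOfLe hNK).symm.toMonoidHom
          (Subgroup.subgroupOfEquivOfLe hNK).symm.surjective
      intro z hz
      exact ⟨⟨z, hNK hz⟩, ComponentsCores.le_fitting hn2 hz, rfl⟩
    have hLK : L ≤ K := inf_le_left.trans hFK
    have hD : ⁅R₀, Q'⁆ ≤ F := by
      refine le_trans (le_inf ?_ ?_) hN
      · rw [Subgroup.commutator_comm]
        exact (CoprimeAction.commutator_le_self_of_le_normalizer hQn).trans hQP
      · obtain ⟨k, hk⟩ := IsPGroup.iff_card.1 hQp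
        exact BGThreeBase.fpf_centralizes hR₀ hQn (normalizer_top_of_normal _ L) (normalizer_top_of_normal _ L)
          (hodd' _) (hodd' _) (hKR₀.coprime_dvd_left (Subgroup.card_dvd_of_le (hQP.trans hPK)))
          (by rw [hk]; exact hLq.pow_right k) (hKR₀.coprime_dvd_left (Subgroup.card_dvd_of_le hLK))
          (le_bot_iff.1 ((inf_le_inf_right _ inf_le_left).trans hFfix.le))
    have hPbQ : Pb ≤ Q'.map f := by
      have h1 : P.map f = Pb := Subgroup.map_comap_eq_self_of_surjective hsurj _
      rw [← h1]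
      refine (Subgroup.map_mono hPLQ).trans ?_
      rw [Subgroup.map_sup, HallSolvable.map_mk'_eq_bot.2 inf_le_left, bot_sup_eq]
    refine le_bot_iff.1 ((Subgroup.commutator_mono hPbQ le_rfl).trans ?_)
    rw [← Subgroup.map_commutator, Subgroup.commutator_comm, HallSolvable.map_mk'_eq_bot.2 hD]
  -- hence `R₀` centralises the quotient
  set Kb := K.map f
  set Rb := R₀.map f
  set Fb := (Cfsg.fittingSubgroup Kb).map Kb.subtype with hFb
  have hFbR : ⁅Fb, Rb⁆ = ⊥ := by
    rw [Subgroup.commutator_eq_bot_iff_le_centralizer, hFb, ComponentsFitting.fittingSubgroup_eq_iSup,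
      Subgroup.map_iSup]
    exact iSup_le fun l => Subgroup.commutator_eq_bot_iff_le_centralizer.1
      (hpart l (Nat.prime_of_mem_primeFactors l.2))
  have hchar2 : (Cfsg.fittingSubgroup Kb).Characteristic :=
    Subgroup.characteristic_iff_map_le.2 fun e => ComponentsCores.fitting_map_le e
  have hFbn : Fb.Normal := by rw [hFb]; infer_instance
  have h3 : ⁅⁅Kb, Rb⁆, Fb⁆ = ⊥ := by
    refine Subgroup.commutator_commutator_eq_bot_of_rotate ?_ ?_
    · rw [Subgroup.commutator_comm Rb Fb, hFbR, Subgroup.commutator_bot_left]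
    · refine le_bot_iff.1 ((Subgroup.commutator_mono (Subgroup.commutator_le_left Fb Kb) le_rfl).trans hFbR.le)
  have hDK : ⁅Kb, Rb⁆ ≤ Kb := Subgroup.commutator_le_left _ _
  have h4 : ⁅Kb, Rb⁆ ≤ Fb := by
    intro z hz
    refine ⟨⟨z, hDK hz⟩, ComponentsFitting.centralizer_fitting_le_of_solvable fun w hw => Subtype.ext ?_, rfl⟩
    exact (Subgroup.commutator_eq_bot_iff_le_centralizer.1 h3) hz _ (Subgroup.mem_map_of_mem _ hw)
  have hcopb : (Nat.card Rb).Coprime (Nat.card Kb) :=
    (hKR₀.symm.coprime_dvd_left (R₀.card_map_dvd f)).coprime_dvd_right (K.card_map_dvd f)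
  have h5 : Rb ≤ Subgroup.centralizer (Kb : Set (G ⧸ F)) :=
    CoprimeAction.le_centralizer_of_commutator_commutator_eq_bot (normalizer_top_of_normal Rb Kb) hcopb
      (Or.inr inferInstance) (le_bot_iff.1 ((Subgroup.commutator_mono h4 le_rfl).trans hFbR.le))
  rw [← HallSolvable.map_mk'_eq_bot, Subgroup.map_commutator, Subgroup.commutator_comm,
    Subgroup.commutator_eq_bot_iff_le_centralizer]
  exact h5

end Cfsg.Agent.S1445
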