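import Cfsg.Statements.S1374
import Cfsg.Agent.Lib.BGSupportCover35
-- import your own Cfsg.Agent.* helpers here

set_option autoImplicit false
open Cfsg

namespace Cfsg.Agent.S1374

/-- Let G be a minimal simple group of odd order, M a maximal subgroup and x a non-identity element of M_σ. Then C_M(x) has order coprime to its index in C_G(x), and C_G(x) has a normal subgroup R complementing C_M(x) such that for every conjugate gMg⁻¹ containing x there is exactly one r ∈ R with rMr⁻¹ = gMg⁻¹. -/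
theorem result {G : Type*} [Group G] [Finite G] (hG : Cfsg.IsMinSimpleOddOrder G)
    (M : Subgroup G) (hM : IsCoatom M) (x : G) (hx : x ∈ Cfsg.sigmaCore M) (hx1 : x ≠ 1) :
    (Nat.card ↥(M ⊓ Subgroup.centralizer ({x} : Set G))).Coprime ((M ⊓ Subgroup.centralizer ({x} : Set G)).relIndex (Subgroup.centralizer ({x} : Set G))) ∧
      ∃ R : Subgroup G, Subgroup.centralizer ({x} : Set G) ≤ Subgroup.normalizer (R : Set G) ∧ Cfsg.IsComplIn (M ⊓ Subgroup.centralizer ({x} : Set G)) R (Subgroup.centralizer ({x} : Set G)) ∧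
        ∀ g : G, x ∈ M.map (MulAut.conj g).toMonoidHom → ∃! r : G, r ∈ R ∧ M.map (MulAut.conj r).toMonoidHom = M.map (MulAut.conj g).toMonoidHom := by
  by_cases hxM : Subgroup.centralizer ({x} : Set G) ≤ M
  · rw [inf_eq_right.2 hxM, Subgroup.relIndex_self]
    refine ⟨Nat.coprime_one_right _, Cfsg.supportR M x, ?_, ?_, ?_⟩
    · rw [BGSupport35.supportR_of_le hxM, Subgroup.normalizer_eq_top]; exact le_top
    · rw [BGSupport35.supportR_of_le hxM]
      exact ⟨le_rfl, bot_le, inf_bot_eq _, fun m hm => ⟨m, hm, 1, one_mem _, (mul_one m).symm⟩⟩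
    · intro g hg
      rw [← BGTypeBasic.conj_smul_eq_map] at hg
      obtain ⟨r, hr, hrM⟩ := BGSupport35.exists_supportR_conj hG hM hx hx1 hg
      simp only [← BGTypeBasic.conj_smul_eq_map]
      exact ⟨r, ⟨hr, hrM⟩, fun r' hr' =>
        BGSupport35.supportR_conj_inj hG hM hx hx1 hr'.1 hr (hr'.2.trans hrM.symm)⟩
  · obtain ⟨N, hN, hCN, -, -, -, -, hc, hCc, -⟩ := BGSupport35.centralizer_data hG hM hx hx1 hxM
    have hR := BGSupport35.supportR_eq hG hM hx hx1 hxM hN hCN
    refine ⟨?_, Cfsg.supportR M x, ?_, hR ▸ hCc, ?_⟩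
    · rw [(BGTypeBasic.relIndex_of_isComplIn hCc).1]
      have h1 := BGTypeSetup.sigmaCore_coprime hG hN
      rw [(BGTypeBasic.relIndex_of_isComplIn hc).2] at h1
      exact (h1.coprime_dvd_left (Subgroup.card_dvd_of_le inf_le_left)).coprime_dvd_right
        (Subgroup.card_dvd_of_le (le_inf inf_le_left (inf_le_right.trans hCN))) |>.symm
    · rw [hR]
      exact CoprimeAction.le_normalizer_inf
        (hCN.trans (BGTypeSetup.le_normalizer_sigmaCore N)) Subgroup.le_normalizer
    · intro g hg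
      rw [← BGTypeBasic.conj_smul_eq_map] at hg
      obtain ⟨r, hr, hrM⟩ := BGSupport35.exists_supportR_conj hG hM hx hx1 hg
      simp only [← BGTypeBasic.conj_smul_eq_map]
      exact ⟨r, ⟨hr, hrM⟩, fun r' hr' =>
        BGSupport35.supportR_conj_inj hG hM hx hx1 hr'.1 hr (hr'.2.trans hrM.symm)⟩

end Cfsg.Agent.S1374
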