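import Cfsg.Statements.S1424
import Mathlib
import Cfsg.Agent.Lib.BGFinalBasic72
import Cfsg.Agent.Lib.BGSigmaDisjoint
import Cfsg.Agent.S1350
import Cfsg.Agent.S1420

set_option autoImplicit false
open Cfsg

namespace Cfsg.Agent.S1424

open scoped Pointwise

/-- Let G be a minimal simple group of odd order, M a maximal subgroup, q ∈ σ(M), X a nontrivial q-subgroup of M, M* a maximal subgroup different from M with N_G(X) ≤ M*, and S a Sylow q-subgroup of M ∩ M* containing X. Then M* is not conjugate to M in G, N_G(S) ≤ M, and q does not divide the index of S in M*. -/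
theorem result {G : Type*} [Group G] [Finite G] (hG : Cfsg.IsMinSimpleOddOrder G)
    (M : Subgroup G) (hM : IsCoatom M) (q : ℕ) [Fact q.Prime] (hq : q ∈ Cfsg.sigma M) (X : Subgroup G) (hXq : IsPGroup q X) (hX1 : X ≠ ⊥) (hXM : X ≤ M)
    (Mstar : Subgroup G) (hMs : IsCoatom Mstar) (hne : Mstar ≠ M) (hNX : Subgroup.normalizer (X : Set G) ≤ Mstar)
    (S : Sylow q ↥(M ⊓ Mstar)) (hXS : X ≤ (S : Subgroup ↥(M ⊓ Mstar)).map (M ⊓ Mstar).subtype) :
    (∀ g : G, Mstar ≠ M.map (MulAut.conj g).toMonoidHom) ∧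
      Subgroup.normalizer (((S : Subgroup ↥(M ⊓ Mstar)).map (M ⊓ Mstar).subtype : Subgroup G) : Set G) ≤ M ∧
      ¬ q ∣ ((S : Subgroup ↥(M ⊓ Mstar)).map (M ⊓ Mstar).subtype).relIndex Mstar := by
  have hq' : q.Prime := Fact.out
  set S' := (S : Subgroup ↥(M ⊓ Mstar)).map (M ⊓ Mstar).subtype with hS'
  have hSm : BGUnique.IsMaxP q S' (M ⊓ Mstar) := BGUnique.isMaxP_sylow _ S
  have hSM : S' ≤ M := hSm.le.trans inf_le_left
  have hSs : S' ≤ Mstar := hSm.le.trans inf_le_right
  have hXne : X ≠ ⊤ := fun h => hM.1 (top_le_iff.1 (h ▸ hXM))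
  -- (a)
  have hconj : ∀ g : G, Mstar ≠ M.map (MulAut.conj g).toMonoidHom := by
    intro g hg
    have hXs : X ≤ MulAut.conj g • M := by
      rw [← BGSigma.conj_smul_eq_map, ← hg]; exact Subgroup.le_normalizer.trans hNX
    obtain ⟨c, hc, hcc⟩ := BGSigma.conj_transitive hG hM hq _ X rfl hXq hX1 1 g
      (by rw [map_one, one_smul]; exact hXM) hXs
    rw [map_one, one_smul, ← BGSigma.conj_smul_eq_map g, ← hg] at hcc
    refine hne ?_
    have hcs : c ∈ Mstar := hNX (Subgroup.centralizer_le_normalizer _ hc)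
    rw [← inv_smul_eq_iff.2 hcc.symm, ← map_inv]
    exact (BGSigma.conj_le_normalizer (Subgroup.le_normalizer (Mstar.inv_mem hcs))).symm
  -- (b)
  have hcyc : IsCyclic ↥S' → Subgroup.normalizer (S' : Set G) ≤ Subgroup.normalizer (X : Set G) := by
    intro hc
    haveI := hc
    haveI : (X.subgroupOf S').Characteristic := by
      refine Subgroup.characteristic_iff_map_le.2 fun e => ?_
      rintro _ ⟨x, hx, rfl⟩
      obtain ⟨m, hm⟩ := MonoidHom.map_cyclic e.toMonoidHom
      show e.toMonoidHom x ∈ X.subgroupOf S'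
      rw [hm]
      exact zpow_mem hx m
    have hle := ComponentsCores.normalizer_le_normalizer_map_subtype S' (X.subgroupOf S')
    rwa [Subgroup.map_subgroupOf_eq_of_le hXS] at hle
  have hNS : Subgroup.normalizer (S' : Set G) ≤ M := by
    by_cases hmax : BGUnique.IsMaxP q S' M
    · exact BGSigma.normalizer_le_of_sigma hq hmax
    by_cases hc : IsCyclic ↥S'
    · exfalso
      obtain ⟨Q, hlt, hQM, hQp⟩ := BGUnique.card_lt_of_not_max hSm.isPGroup hSM hmax
      have h1 := BGUnique.lt_inf_normalizer hQp hlt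
      exact h1.ne' (hSm.eq_of_le _ h1.le (le_inf (inf_le_left.trans hQM)
        (inf_le_right.trans ((hcyc hc).trans hNX))) (hQp.to_le inf_le_left))
    · obtain ⟨E, -, hE⟩ := BGFinal72.exists_complIn (S1350.result hG M hM).1.1
        (BGFinal72.le_normalizer_sigmaCore M) (BGFinal72.coprime_relIndex_of_hall (S1350.result hG M hM).1)
      exact (S1420.result hG M hM E hE).2.2.1 q S' hq hSm.isPGroup hSM hc
  refine ⟨hconj, hNS, ?_⟩
  -- (c)
  have hsmax : BGUnique.IsMaxP q S' Mstar := by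
    refine ⟨hSs, hSm.isPGroup, fun Q hSQ hQs hQ => ?_⟩
    by_contra hne'
    have h1 := BGUnique.lt_inf_normalizer hQ (lt_of_le_of_ne hSQ (Ne.symm hne'))
    exact h1.ne' (hSm.eq_of_le _ h1.le (le_inf (inf_le_right.trans hNS) (inf_le_left.trans hQs))
      (hQ.to_le inf_le_left))
  obtain ⟨T, hT⟩ := hsmax.exists_sylow
  intro hd
  refine T.not_dvd_index ?_
  rwa [← hT, Subgroup.relIndex, Subgroup.subgroupOf, Subgroup.comap_map_eq_self_of_injective Mstar.subtype_injective] at hd

end Cfsg.Agent.S1424
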