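import Cfsg.Statements.S1425
import Mathlib
import Cfsg.Agent.Lib.BGSigmaUniq72
import Cfsg.Agent.Lib.BGTypeBasic
import Cfsg.Agent.S1350
import Cfsg.Agent.S1414
import Cfsg.Agent.S1417
import Cfsg.Agent.S1420
import Cfsg.Agent.S1424

set_option autoImplicit false
open Cfsg

namespace Cfsg.Agent.S1425

open scoped Pointwise
open Subgroup Cfsg.Agent.HallCore Cfsg.Agent.BGUnique

universe u
variable {G : Type u} [Group G] [Finite G]

/-- A Frattini argument inside a subgroup. -/
theorem frattini {q : ℕ} [hq : Fact q.Prime] {L A H : Subgroup G} (hA : IsMaxP q A H) (hHL : H ≤ L)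
    (hn : L ≤ normalizer (H : Set G)) : L ≤ (L ⊓ normalizer (A : Set G)) ⊔ H := by
  intro l hl
  have hlA : MulAut.conj l • A ≤ H := by
    refine le_trans (pointwise_smul_le_pointwise_smul_iff.2 hA.le) ?_
    rw [BGSigma.conj_le_normalizer (hn hl)]
  obtain ⟨h, hh, hhl⟩ := BGSigma.exists_conj_maxP hA hlA (hA.isPGroup.map _)
  have hhl' : MulAut.conj (h * l) • A = A := by
    rw [map_mul, mul_smul]
    refine eq_of_le_of_card_ge hhl ?_
    simp only [CoprimeSZ.card_conj_smul]
    exact le_rfl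
  have hN : h * l ∈ normalizer (A : Set G) := by
    rw [mem_normalizer_iff]
    intro x
    conv_rhs => rw [← hhl']
    exact (smul_mem_pointwise_smul_iff (a := MulAut.conj (h * l)) (S := A) (x := x)).symm
  have h1 : h * l ∈ (L ⊓ normalizer (A : Set G)) ⊔ H := mem_sup_left ⟨L.mul_mem (hHL hh) hl, hN⟩
  have h2 := Subgroup.mul_mem _ (mem_sup_right (S := L ⊓ normalizer (A : Set G)) (H.inv_mem hh)) h1
  rwa [inv_mul_cancel_left] at h2

/-- The maximal subgroup above `N(X)` is covered by its part in `M` and a normal subgroup without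
`σ(M)`-primes (BG 12.15 (d), (e)). -/
theorem cover (hG : Cfsg.IsMinSimpleOddOrder G) {M L : Subgroup G} (hM : IsCoatom M) (hL : IsCoatom L)
    (hne : L ≠ M) {q : ℕ} [hq : Fact q.Prime] (hqs : q ∈ Cfsg.sigma M) {X : Subgroup G}
    (hXq : IsPGroup q X) (hX1 : X ≠ ⊥) (hXM : X ≤ M) (hNX : normalizer (X : Set G) ≤ L) :
    ∃ N : Subgroup G, N ≤ L ∧ L ≤ normalizer (N : Set G) ∧
      PiNat (Cfsg.sigma M)ᶜ (Nat.card N) ∧ L ≤ (M ⊓ L) ⊔ N := by
  have hXL : X ≤ L := le_normalizer.trans hNX
  obtain ⟨Q, hQ, hXQ⟩ := exists_isMaxP_ge hXq (le_inf hXM hXL)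
  obtain ⟨S, hS⟩ := hQ.exists_sylow
  obtain ⟨hconj, hNS, -⟩ := S1424.result hG M hM q hqs X hXq hX1 hXM L hL hne hNX S (hS.symm ▸ hXQ)
  rw [hS] at hNS
  have hQM : Q ≤ M := hQ.le.trans inf_le_left
  have hQL : Q ≤ L := hQ.le.trans inf_le_right
  have hQmax : IsMaxP q Q L := by
    refine ⟨hQL, hQ.isPGroup, fun R hQR hRL hR => ?_⟩
    by_contra hne'
    have h1 := lt_inf_normalizer hR (lt_of_le_of_ne hQR (Ne.symm hne'))
    exact h1.ne' (hQ.eq_of_le _ h1.le (le_inf (inf_le_right.trans hNS) (inf_le_left.trans hRL))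
      (hR.to_le inf_le_left))
  obtain ⟨T, hT⟩ := hQmax.exists_sylow
  by_cases hqL : q ∈ Cfsg.sigma L
  · -- modulo `L_β`
    haveI := isSolvable_of_ne_top hG hL.1
    obtain ⟨hβ, -, ⟨H, hH, hHn⟩, -, -⟩ := S1414.result hG L hL
    set Nb := Cfsg.piCore (Cfsg.beta L) L with hNb
    have hdisj : ∀ r : ℕ, r.Prime → r ∈ Cfsg.sigma M → r ∉ Cfsg.beta L := by
      intro r hr hrM hrL
      haveI := Fact.mk hr
      obtain ⟨g, hg⟩ := BGSigma.conj_of_alpha_inter_sigma hG hL hM hrL.1 hrM
      refine hconj g⁻¹ ?_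
      rw [BGSigma.conj_smul_eq_map] at hg ⊢
      rw [hg, map_inv, inv_smul_smul]
    refine ⟨Cfsg.piCoreOf (Cfsg.beta L) L, BGTransitivity.piCoreOf_le _ _,
      BGTransitivity.le_normalizer_piCoreOf _ le_normalizer,
      fun r hr hd hrM => hdisj r hr hrM (BGTransitivity.piNat_card_piCoreOf _ _ r hr hd), ?_⟩
    set f := QuotientGroup.mk' Nb
    have hNbc : ∀ r : ℕ, r.Prime → r ∣ Nat.card Nb → r ∈ Cfsg.beta L := fun r hr hd => by
      refine hβ.2.1 r hr ?_
      rwa [Cfsg.piCoreOf, card_map_of_injective L.subtype_injective]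
    -- the image of the derived group is nilpotent
    have hHL : H ≤ L := hH.1.trans (commutator_le_self L)
    have hnil : Group.IsNilpotent ↥((commutator ↥L).map f) := by
      let g : H →* ↥L ⧸ Nb := f.comp (Subgroup.inclusion hHL)
      have hHc : H.subgroupOf L ≤ commutator ↥L := by
        intro h hh
        have h1 : (h : G) ∈ (commutator ↥L).map L.subtype := by rw [map_subtype_commutator]; exact hH.1 hh
        obtain ⟨z, hz, hze⟩ := h1
        exact (Subtype.ext hze : z = h) ▸ hz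
      have hle : g.range ≤ (commutator ↥L).map f := by
        rintro _ ⟨h, rfl⟩
        exact mem_map_of_mem f (hHc (show (Subgroup.inclusion hHL h) ∈ H.subgroupOf L from h.2))
      have hginj : Function.Injective g := by
        rw [injective_iff_map_eq_one]
        intro h hh
        have h1 : (Subgroup.inclusion hHL h) ∈ Nb := (QuotientGroup.eq_one_iff _).1 hh
        refine orderOf_eq_one_iff.1 (Nat.eq_one_of_dvd_coprimes
          (Nat.coprime_of_dvd fun r hr h2 h3 => (hH.2.1 r hr h2).2 (hNbc r hr h3))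
          (orderOf_dvd_natCard h) ?_)
        rw [← orderOf_injective (Subgroup.inclusion hHL) (Subgroup.inclusion_injective hHL)]
        exact Nb.orderOf_dvd_natCard h1
      have heq : g.range = (commutator ↥L).map f := by
        refine eq_of_le_of_card_ge hle ?_
        rw [← Nat.card_congr (MonoidHom.ofInjective hginj).toEquiv]
        refine Nat.le_of_dvd Nat.card_pos ?_
        have h2 : Nat.card ((commutator ↥L).map f) ∣ Nat.card H * H.relIndex ⁅L, L⁆ := by
          rw [BGFinal72.card_mul_relIndex hH.1, ← map_subtype_commutator,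
            card_map_of_injective L.subtype_injective]
          exact card_map_dvd _ _
        refine (Nat.coprime_of_dvd fun r hr h3 h4 => ?_).dvd_of_dvd_mul_right h2
        have hrb : r ∈ Cfsg.beta L := by
          by_contra hrb; exact hH.2.2 r hr ⟨hr, hrb⟩ h4
        refine hβ.2.2 r hr hrb ?_
        have h5 : r ∣ Nat.card (↥L ⧸ Nb) := h3.trans (card_subgroup_dvd_card _)
        rwa [Cfsg.piCoreOf, relIndex, subgroupOf, comap_map_eq_self_of_injective L.subtype_injective,
          index_eq_card]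
      exact heq ▸ Group.nilpotent_of_surjective g.rangeRestrict g.rangeRestrict_surjective
    -- so the image of `T` is normal
    have hTc : (T : Subgroup L) ≤ commutator ↥L := by
      intro t ht
      have h1 : (t : G) ∈ (commutator ↥L).map L.subtype := by
        rw [map_subtype_commutator]
        exact BGSigma.le_commutator hG hL hqL hQmax (hT ▸ mem_map_of_mem L.subtype ht)
      obtain ⟨z, hz, hze⟩ := h1
      exact (Subtype.ext hze : z = t) ▸ hz
    set C := (commutator ↥L).map f
    haveI : C.Normal := Normal.map inferInstance f (QuotientGroup.mk'_surjective Nb)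
    let Tb : Sylow q (↥L ⧸ Nb) := T.mapSurjective (QuotientGroup.mk'_surjective Nb)
    have hTb : (Tb : Subgroup (↥L ⧸ Nb)) = (T : Subgroup L).map f := rfl
    have hTbC : (Tb : Subgroup (↥L ⧸ Nb)) ≤ C := hTb ▸ map_mono hTc
    have hnorm : (Tb : Subgroup (↥L ⧸ Nb)).Normal := by
      haveI := hnil
      let TC : Sylow q C := Tb.subtype hTbC
      have hTn : (TC : Subgroup C).Normal :=
        Sylow.normal_of_normalizerCondition Group.normalizerCondition_of_isNilpotent TC
      haveI := Sylow.characteristic_of_normal TC hTn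
      have h1 := ConjAct.normal_of_characteristic_of_normal (H := C) (K := (TC : Subgroup C))
      rwa [Sylow.coe_subtype, map_subgroupOf_eq_of_le hTbC] at h1
    set H1 := ((T : Subgroup L) ⊔ Nb).map L.subtype
    have hH1n : L ≤ normalizer (H1 : Set G) := by
      have h1 : ((T : Subgroup L) ⊔ Nb).Normal := by
        rw [← QuotientGroup.ker_mk' Nb, ← comap_map_eq]
        exact (hTb ▸ hnorm).comap _
      refine le_trans (le_of_eq ?_) (le_normalizer_map L.subtype)
      rw [normalizer_eq_top_iff.2 h1, ← MonoidHom.range_eq_map, range_subtype]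
    have hQ1 : IsMaxP q Q H1 := by
      refine ⟨hT ▸ map_mono le_sup_left, hQ.isPGroup, fun R hQR hR1 hR => ?_⟩
      exact hQmax.eq_of_le R hQR (hR1.trans (map_subtype_le _)) hR
    refine le_trans (frattini hQ1 (map_subtype_le _) hH1n) (sup_le ?_ ?_)
    · exact le_trans (le_inf (inf_le_right.trans hNS) inf_le_left) le_sup_left
    · rw [show H1 = Q ⊔ Cfsg.piCoreOf (Cfsg.beta L) L from (Subgroup.map_sup _ _ _).trans (by rw [hT]; rfl)]
      exact sup_le ((le_inf hQM hQL).trans le_sup_left) le_sup_right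
  · -- `q ∈ τ₂(L)`
    have hQnc : ¬ IsCyclic Q := by
      intro hc
      refine hqL ⟨hq.out, ?_, T, ?_⟩
      · exact (dvd_card_of_ne_bot hXq hX1).trans (card_dvd_of_le hXL)
      · rw [hT]
        haveI := hc
        haveI : (X.subgroupOf Q).Characteristic := by
          refine characteristic_iff_map_le.2 fun e => ?_
          rintro _ ⟨x, hx, rfl⟩
          obtain ⟨m, hm⟩ := MonoidHom.map_cyclic e.toMonoidHom
          show e.toMonoidHom x ∈ X.subgroupOf Q
          rw [hm]
          exact zpow_mem hx m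
        have hle := ComponentsCores.normalizer_le_normalizer_map_subtype Q (X.subgroupOf Q)
        rw [map_subgroupOf_eq_of_le hXQ] at hle
        exact hle.trans hNX
    obtain ⟨A, hAQ, hA, hAc⟩ := exists_elementary_sq_of_noncyclic hG hQ.isPGroup hQnc
    have hAM : A ≤ M := hAQ.trans hQM
    have hAL : A ≤ L := hAQ.trans hQL
    have htau : q ∈ Cfsg.tau2 L := by
      refine ⟨hq.out, hqL, BGSigma.outside_alpha hG hL hq.out hqL, fun h1 => ?_⟩
      have h2 := BGSigma.card_le_of_pRankLE h1 hAL hA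
      rw [hAc, pow_one] at h2
      nlinarith [hq.out.two_le]
    obtain ⟨hnil, -, hLn, -, hmeet, -⟩ := S1417.result hG L hL q htau A ⟨hAL, hA, hAc⟩
    have hdisj : ∀ r : ℕ, r.Prime → r ∈ Cfsg.sigma M → r ∉ Cfsg.sigma L := by
      intro r hr hrM hrL
      haveI := Fact.mk hr
      obtain ⟨g, hg⟩ := BGSigma.conj_of_sigma_inter_of_nilpotent hG hL hnil hM hrL hrM
      refine hconj g⁻¹ ?_
      rw [BGSigma.conj_smul_eq_map] at hg ⊢
      rw [hg, map_inv, inv_smul_smul]
    refine ⟨Cfsg.sigmaCore L, BGFinal72.sigmaCore_le L, BGFinal72.le_normalizer_sigmaCore L,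
      fun r hr hd hrM => hdisj r hr hrM (BGFinal72.piNat_sigmaCore L r hr hd), ?_⟩
    set H2 := Cfsg.sigmaCore L ⊔ A
    have hH2L : H2 ≤ L := sup_le (BGFinal72.sigmaCore_le L) hAL
    have hA2 : IsMaxP q A H2 := by
      refine ⟨le_sup_right, PGroupsBasic.isPGroup_of_isElementaryAbelian hA, fun R hAR hR2 hR => ?_⟩
      refine (eq_of_le_of_card_ge hAR ?_).symm
      have hco : (Nat.card (Cfsg.sigmaCore L)).Coprime q :=
        (Nat.Prime.coprime_iff_not_dvd hq.out).2 (fun hd => hqL (BGFinal72.piNat_sigmaCore L q hq.out hd)) |>.symm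
      obtain ⟨j, hj⟩ := IsPGroup.iff_card.1 hR
      have h1 : Nat.card R ∣ Nat.card (Cfsg.sigmaCore L) * Nat.card A := (card_dvd_of_le hR2).trans
        (SignalizerCoprime.card_sup_dvd_mul (hAL.trans (BGFinal72.le_normalizer_sigmaCore L)))
      refine Nat.le_of_dvd Nat.card_pos (Nat.Coprime.dvd_of_dvd_mul_left ?_ h1)
      rw [hj]; exact (hco.pow_right j).symm
    obtain ⟨E, -, hE⟩ := BGFinal72.exists_complIn (S1350.result hG M hM).1.1
      (BGFinal72.le_normalizer_sigmaCore M) (BGFinal72.coprime_relIndex_of_hall (S1350.result hG M hM).1)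
    have hNA : normalizer (A : Set G) ≤ M := (S1420.result hG M hM E hE).2.2.1 q A hqs
      (PGroupsBasic.isPGroup_of_isElementaryAbelian hA) hAM (not_isCyclic_of_sq_le hA hAc.ge)
    refine le_trans (frattini hA2 hH2L hLn) (sup_le ?_ (sup_le le_sup_right ?_))
    · exact le_trans (le_inf (inf_le_right.trans hNA) inf_le_left) le_sup_left
    · exact le_trans (le_inf hAM hAL) le_sup_left

/-- Let G be a minimal simple group of odd order, M a maximal subgroup and Y a nontrivial subgroup of G all of whose prime divisors lie in σ(M). Then gYg⁻¹ ≤ M_σ for some g ∈ G. -/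
theorem result {G : Type*} [Group G] [Finite G] (hG : Cfsg.IsMinSimpleOddOrder G)
    (M : Subgroup G) (hM : IsCoatom M) (Y : Subgroup G) (hY1 : Y ≠ ⊥) (hY : ∀ p : ℕ, p.Prime → p ∣ Nat.card Y → p ∈ Cfsg.sigma M) :
    ∃ g : G, Y.map (MulAut.conj g).toMonoidHom ≤ Cfsg.sigmaCore M := by
  classical
  have hσ := S1350.result hG M hM
  have hYtop : Y ≠ ⊤ := by
    intro h
    have h1 : Nat.card (Cfsg.sigmaCore M) = Nat.card G := by
      have h2 := (Cfsg.sigmaCore M).card_mul_index
      rw [show (Cfsg.sigmaCore M).index = 1 from by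
        by_contra hne
        obtain ⟨r, hr, hrd⟩ := Nat.exists_prime_and_dvd hne
        refine hσ.2.1.2 r hr (hY r hr ?_) hrd
        rw [h, Subgroup.card_top]
        exact hrd.trans (Subgroup.index_dvd_card _), mul_one] at h2
      exact h2
    exact hM.1 (top_le_iff.1 ((Subgroup.eq_top_of_card_eq _ h1).ge.trans (BGFinal72.sigmaCore_le M)))
  haveI := isSolvable_of_ne_top hG hYtop
  haveI : Nontrivial Y := (nontrivial_iff_ne_bot Y).2 hY1
  obtain ⟨N₀, hN₀⟩ := HallSolvable.exists_minNormal (G := Y)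
  obtain ⟨q, hq, -, hk⟩ := hN₀.exists_prime
  haveI := Fact.mk hq
  haveI := hN₀.normal
  set X₁ := (Cfsg.pCore q Y).map Y.subtype with hX₁
  have hX₁1 : X₁ ≠ ⊥ := fun h => hN₀.ne_bot (le_bot_iff.1 ((HallCore.le_pCore hk).trans
    (le_of_eq ((map_eq_bot_iff_of_injective _ Y.subtype_injective).1 h))))
  have hX₁q : IsPGroup q X₁ := (HallCore.isPGroup_pCore q Y).map _
  have hqs : q ∈ Cfsg.sigma M :=
    hY q hq ((dvd_card_of_ne_bot hX₁q hX₁1).trans (card_dvd_of_le (map_subtype_le _)))
  obtain ⟨P, hP, -⟩ := exists_isMaxP_ge (isMaxP_sylow M (default : Sylow q M)).isPGroup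
    (isMaxP_sylow M (default : Sylow q M)).le
  obtain ⟨g₀, -, hg₀⟩ := BGSigma.exists_conj_maxP (BGSigma.isMaxP_top_of_sigma hqs hP) le_top hX₁q
  set X := MulAut.conj g₀ • X₁
  set Y' := MulAut.conj g₀ • Y with hY'
  have hXM : X ≤ M := hg₀.trans hP.le
  have hX1 : X ≠ ⊥ := fun h => hX₁1 (BGTransitivity.eq_bot_of_conj_eq_bot h)
  have hXq : IsPGroup q X := hX₁q.map _
  haveI := HallCore.pCore_characteristic q Y
  have hY'N : Y' ≤ normalizer (X : Set G) := by
    show Y' ≤ normalizer ((MulAut.conj g₀ • X₁ : Subgroup G) : Set G)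
    rw [BGTypeBasic.conj_smul_normalizer]
    exact pointwise_smul_le_pointwise_smul_iff.2
      (le_normalizer.trans (ComponentsCores.normalizer_le_normalizer_map_subtype Y _))
  have hY'π : PiNat (Cfsg.sigma M) (Nat.card Y') := by
    rw [hY', CoprimeSZ.card_conj_smul]; exact hY
  suffices hs : ∃ g : G, MulAut.conj g • Y' ≤ Cfsg.sigmaCore M by
    obtain ⟨g, hg⟩ := hs
    refine ⟨g * g₀, ?_⟩
    rw [BGSigma.conj_smul_eq_map, map_mul, mul_smul]
    exact hg
  obtain ⟨L, hL, hNL⟩ := exists_coatom_ge (BGSigma.normalizer_ne_top' hG hX1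
    (fun h => hM.1 (top_le_iff.1 (h ▸ hXM))))
  by_cases hLM : L = M
  · refine ⟨1, ?_⟩
    rw [map_one, one_smul]
    exact BGFinal72.le_sigmaCore_of_piNat hσ.1 (hY'N.trans (hLM ▸ hNL)) hY'π
  obtain ⟨N, hNle, hNn, hNπ, hcov⟩ := cover hG hM hL hLM hqs hXq hX1 hXM hNL
  set W := M ⊓ L
  haveI := isSolvable_of_ne_top hG hL.1
  haveI : Group.IsSolvable W := isSolvable_of_ne_top hG fun h => hM.1 (top_le_iff.1 (h ▸ inf_le_left))
  obtain ⟨H, hH⟩ := HallTheorem.exists_isPiHall_of_solvable (G := W) (Cfsg.sigma M)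
  set H' := H.map W.subtype
  have hH'W : H' ≤ W := map_subtype_le _
  have hH'L : H' ≤ L := hH'W.trans inf_le_right
  have hH'hall : Cfsg.IsPiHall (Cfsg.sigma M) (H'.subgroupOf L) := by
    refine ⟨fun r hr hd => hH.1 r hr ?_, fun r hr hrs hd => ?_⟩
    · rwa [Nat.card_congr (subgroupOfEquivOfLe hH'L).toEquiv,
        card_map_of_injective W.subtype_injective] at hd
    · have hsup : L = N ⊔ W :=
        le_antisymm (hcov.trans (le_of_eq (sup_comm _ _))) (sup_le hNle inf_le_right)
      have h1 : Nat.card L ∣ Nat.card N * Nat.card W := by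
        rw [hsup]; exact SignalizerCoprime.card_sup_dvd_mul ((inf_le_right : W ≤ L).trans hNn)
      have h2 : Nat.card H' * H'.relIndex L ∣ Nat.card H' * (Nat.card N * H.index) := by
        rw [BGFinal72.card_mul_relIndex hH'L]
        refine h1.trans (dvd_of_eq ?_)
        rw [card_map_of_injective W.subtype_injective, ← H.card_mul_index]; ring
      have h3 := hd.trans ((Nat.mul_dvd_mul_iff_left Nat.card_pos).1 h2)
      rcases hr.dvd_mul.1 h3 with h4 | h4
      · exact hNπ r hr h4 hrs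
      · exact hH.2 r hr hrs h4
  obtain ⟨c, hc⟩ := HallTheorem.le_conj_isPiHall (HallSolvable.isPiSeparable_of_solvable _)
    (HallTheorem.complSolvable_of_solvable _) (U := Y'.subgroupOf L)
    (fun r hr hd => hY'π r hr (hd.trans (HallCore.card_subgroupOf_dvd _ _))) hH'hall
  have hle : Y' ≤ MulAut.conj (c : G) • M := by
    intro y hy
    obtain ⟨z, hz, hze⟩ := hc (show (⟨y, hNL (hY'N hy)⟩ : L) ∈ Y'.subgroupOf L from hy)
    exact ⟨z, ((hH'W hz : (z : G) ∈ W)).1, congrArg Subtype.val hze⟩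
  refine ⟨(c : G)⁻¹, BGFinal72.le_sigmaCore_of_piNat hσ.1 ?_ (by rw [CoprimeSZ.card_conj_smul]; exact hY'π)⟩
  rw [map_inv]
  exact Subgroup.subset_pointwise_smul_iff.1 hle

end Cfsg.Agent.S1425
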