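import Cfsg.Statements.S1438
import Mathlib
import Cfsg.Agent.Lib.BGFinalBasic72
import Cfsg.Agent.Lib.BGTypeBasic
import Cfsg.Agent.Lib.BGFcore72
import Cfsg.Agent.Lib.HallCarterSystem
import Cfsg.Agent.Lib.BGSigmaBasic
import Cfsg.Agent.S1350
import Cfsg.Agent.S1351
import Cfsg.Agent.S1352
import Cfsg.Agent.S1359
import Cfsg.Agent.S1374
import Cfsg.Agent.S1417
import Cfsg.Agent.S1430
import Cfsg.Agent.S1431

set_option autoImplicit false
open Cfsg

namespace Cfsg.Agent.S1438

open scoped Pointwise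
open Subgroup Cfsg.Agent.HallCore Cfsg.Agent.BGUnique

universe u
variable {G : Type u} [Group G] [Finite G]

omit [Finite G] in
theorem coprime_conj {H S : Subgroup G} {m : G} (hm : m ∈ normalizer (S : Set G)) :
    (MulAut.conj m • H).relIndex S = H.relIndex S := by
  conv_lhs => rw [← CoprimeSZ.conj_smul_eq_self hm]
  rw [CoprimeSZ.conj_smul_eq_map, CoprimeSZ.conj_smul_eq_map]
  exact relIndex_map_map_of_injective _ _ (MulAut.conj m).injective

/-- A Hall subgroup of `M_σ` contains a Sylow subgroup of `M_σ` for each of its primes. -/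
theorem exists_sylow_le {H S : Subgroup G} (hH : H ≤ S) (hc : (Nat.card H).Coprime (H.relIndex S))
    {r : ℕ} [hr : Fact r.Prime] (hd : r ∣ Nat.card H) :
    ∃ T : Sylow r S, (T : Subgroup S).map S.subtype ≤ H := by
  obtain ⟨T₀⟩ : Nonempty (Sylow r H) := inferInstance
  obtain ⟨T, hT⟩ := CoprimeAction.exists_sylow_map_eq (p := r) (K := S)
    (P := (T₀ : Subgroup H).map H.subtype) ((map_subtype_le _).trans hH) (by
      rw [CoprimeAction.card_map_sylow, ← BGFinal72.card_mul_relIndex hH]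
      congr 1
      have hne : H.relIndex S ≠ 0 := fun h => Nat.card_pos.ne'
        (by rw [← BGFinal72.card_mul_relIndex hH, h, mul_zero] : Nat.card S = 0)
      rw [Nat.factorization_mul Nat.card_pos.ne' hne, Finsupp.add_apply,
        Nat.factorization_eq_zero_of_not_dvd (n := H.relIndex S)
          (fun h => hr.out.ne_one (Nat.eq_one_of_dvd_coprimes hc hd h)), add_zero])
  exact ⟨T, hT ▸ map_subtype_le _⟩

/-- A normal `Q ≤ M_σ` with nilpotent `M_σ / Q`, inside or coprime to the Hall subgroup `H`. -/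
theorem exists_Q (hG : Cfsg.IsMinSimpleOddOrder G) {M : Subgroup G} (hM : IsCoatom M)
    {H : Subgroup G} (hH : H ≤ Cfsg.sigmaCore M)
    (hHall : (Nat.card H).Coprime (H.relIndex (Cfsg.sigmaCore M))) :
    ∃ Q : Subgroup G, Q ≤ Cfsg.sigmaCore M ∧ M ≤ normalizer (Q : Set G) ∧
      (Q ≤ H ∨ (Nat.card H).Coprime (Nat.card Q)) ∧
      Group.IsNilpotent (((Cfsg.sigmaCore M).subgroupOf M).map
        (QuotientGroup.mk' (normalClosure (Q.subgroupOf M : Set M)))) := by
  set S := Cfsg.sigmaCore M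
  have hSM : S ≤ M := BGFinal72.sigmaCore_le M
  by_cases hnil : Group.IsNilpotent S
  · refine ⟨⊥, bot_le, le_trans le_top (normalizer_eq_top _).ge, Or.inl bot_le, ?_⟩
    haveI : Group.IsNilpotent ↥(S.subgroupOf M) :=
      Group.nilpotent_of_mulEquiv (subgroupOfEquivOfLe hSM).symm
    exact Group.nilpotent_of_surjective _ ((QuotientGroup.mk' _).subgroupMap_surjective _)
  have hne : Cfsg.fittingHallOf M ≠ S := fun h => hnil (by
    rw [← h]
    exact (ComponentsCores.isNilpotent_map_subtype_iff _).2 FittingHallBasic.fittingHall_isNilpotent)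
  obtain ⟨⟨K, hK⟩, hKc⟩ := S1351.result hG M hM
  obtain ⟨⟨U, hKU⟩, -⟩ := S1352.result hG M hM K (hKc K hK) hK
  obtain ⟨hQS, -, hrel, hD⟩ := BGFcore72.sylow_normal hG hM hKU hne rfl
  set q := Nat.card ↥(S ⊓ centralizer (K : Set G))
  obtain ⟨-, -, -, -, hq⟩ := BGFcore72.basics hG hM hKU hne
  haveI := Fact.mk hq
  set Q := BGFittingUnique.Oc q M
  have hQn : M ≤ normalizer (Q : Set G) := BGFittingUnique.le_normalizer_Oc q M
  obtain ⟨i, hi⟩ := IsPGroup.iff_card.1 (BGFittingUnique.isPGroup_Oc q M)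
  refine ⟨Q, hQS, hQn, ?_, ?_⟩
  · by_cases hd : q ∣ Nat.card H
    · left
      have hHn : H ≤ normalizer (Q : Set G) := (hH.trans hSM).trans hQn
      have h1 : Nat.card ↥(Q ⊔ H) ∣ Nat.card Q * Nat.card H :=
        SignalizerCoprime.card_sup_dvd_mul hHn
      have h2 : Nat.card ↥(Q ⊔ H) ∣ Nat.card S := card_dvd_of_le (sup_le hQS hH)
      rw [← BGFinal72.card_mul_relIndex (le_sup_right : H ≤ Q ⊔ H), mul_comm (Nat.card Q)] at h1
      rw [← BGFinal72.card_mul_relIndex (le_sup_right : H ≤ Q ⊔ H),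
        ← BGFinal72.card_mul_relIndex hH] at h2
      have h3 := Nat.dvd_gcd ((Nat.mul_dvd_mul_iff_left Nat.card_pos).1 h1)
        ((Nat.mul_dvd_mul_iff_left Nat.card_pos).1 h2)
      have hco : (Nat.card Q).Coprime (H.relIndex S) := by
        rw [hi]
        exact ((Nat.Prime.coprime_iff_not_dvd hq).2 fun h =>
          hq.ne_one (Nat.eq_one_of_dvd_coprimes hHall hd h)).pow_left i
      rw [hco.gcd_eq_one, Nat.dvd_one, relIndex_eq_one] at h3
      exact le_sup_left.trans h3
    · right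
      rw [hi]
      exact ((Nat.Prime.coprime_iff_not_dvd hq).2 hd).symm.pow_right i
  · obtain ⟨D, hD', -⟩ := BGFinal72.exists_complIn hQS (hSM.trans hQn) (by
      rw [hi]; exact ((Nat.Prime.coprime_iff_not_dvd hq).2 hrel).pow_left i)
    set f := QuotientGroup.mk' (normalClosure (Q.subgroupOf M : Set M))
    have hDM : D ≤ M := hD'.2.1.trans hSM
    haveI : Group.IsNilpotent ↥(D.subgroupOf M) := by
      haveI := hD D hD'
      exact Group.nilpotent_of_mulEquiv (subgroupOfEquivOfLe hDM).symm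
    haveI : Group.IsNilpotent ↥((D.subgroupOf M).map f) :=
      Group.nilpotent_of_surjective _ (f.subgroupMap_surjective _)
    refine ComponentsCores.nilpotent_of_le (B := (D.subgroupOf M).map f) ?_ inferInstance
    rintro _ ⟨s, hs, rfl⟩
    obtain ⟨a, ha, b, hb, hab⟩ := hD'.2.2.2 (s : G) hs
    refine ⟨⟨b, hDM hb⟩, hb, ?_⟩
    have h1 : f ⟨a, hSM (hQS ha)⟩ = 1 :=
      (QuotientGroup.eq_one_iff _).2 (subset_normalClosure ha)
    rw [show s = ⟨a, hSM (hQS ha)⟩ * ⟨b, hDM hb⟩ from Subtype.ext hab, map_mul, h1, one_mul]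

/-- `H Q` is normal in `M`. -/
theorem le_normalizer_sup_Q {M : Subgroup G} {H Q S : Subgroup G} (hH : H ≤ S) (hSM : S ≤ M)
    (hSn : M ≤ normalizer (S : Set G)) (hHall : (Nat.card H).Coprime (H.relIndex S))
    (hQS : Q ≤ S) (hQn : M ≤ normalizer (Q : Set G))
    (hnil : Group.IsNilpotent ((S.subgroupOf M).map
      (QuotientGroup.mk' (normalClosure (Q.subgroupOf M : Set M))))) :
    M ≤ normalizer ((H ⊔ Q : Subgroup G) : Set G) := by
  haveI : (Q.subgroupOf M).Normal := normal_subgroupOf_of_le_normalizer hQn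
  haveI : (S.subgroupOf M).Normal := normal_subgroupOf_of_le_normalizer hSn
  have hclos : normalClosure (Q.subgroupOf M : Set M) = Q.subgroupOf M := normalClosure_eq_self _
  set f := QuotientGroup.mk' (normalClosure (Q.subgroupOf M : Set M)) with hf
  set Sb := (S.subgroupOf M).map f
  set Hb := (H.subgroupOf M).map f
  haveI hSbn : Sb.Normal := Normal.map inferInstance f (QuotientGroup.mk'_surjective _)
  have hHbS : Hb ≤ Sb := map_mono fun x hx => hH hx
  haveI := hnil
  have hd1 : Nat.card (Hb.subgroupOf Sb) ∣ Nat.card H := by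
    rw [Nat.card_congr (subgroupOfEquivOfLe hHbS).toEquiv]
    exact (card_map_dvd _ f).trans
      (dvd_of_eq (Nat.card_congr (subgroupOfEquivOfLe (hH.trans hSM)).toEquiv))
  have hd2 : (Hb.subgroupOf Sb).index ∣ H.relIndex S := by
    show Hb.relIndex Sb ∣ _
    have hker : f.ker ≤ S.subgroupOf M := by
      rw [hf, QuotientGroup.ker_mk', hclos]; exact fun v hv => hQS hv
    rw [relIndex_map_map, sup_eq_left.2 hker]
    refine (relIndex_dvd_of_le_left _ le_sup_left).trans (dvd_of_eq ?_)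
    exact relIndex_subgroupOf hSM
  have hhall : Cfsg.IsPiHall {r | r ∣ Nat.card H} (Hb.subgroupOf Sb) :=
    ⟨fun r _ hd => hd.trans hd1, fun r hr hrH hd =>
      hr.ne_one (Nat.eq_one_of_dvd_coprimes hHall hrH (hd.trans hd2))⟩
  haveI hHbn : Hb.Normal := ⟨fun x hx g => by
    have hxS : g * x * g⁻¹ ∈ Sb := hSbn.conj_mem x (hHbS hx) g
    have h1 := HallCarterSystem.le_hall_of_nilpotent hhall
      (U := zpowers (⟨g * x * g⁻¹, hxS⟩ : Sb)) (fun r _ hd => by
        rw [Nat.card_zpowers, orderOf_mk, show g * x * g⁻¹ = MulAut.conj g x from rfl,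
          MulEquiv.orderOf_eq] at hd
        refine (hd.trans (Subgroup.orderOf_dvd_natCard Hb hx)).trans ?_
        exact (Nat.card_congr (subgroupOfEquivOfLe hHbS).toEquiv).symm ▸ hd1)
    exact h1 (mem_zpowers _)⟩
  have h3 : (Hb.comap f).map M.subtype = H ⊔ Q := by
    rw [comap_map_eq, hf, QuotientGroup.ker_mk', hclos, Subgroup.map_sup,
      map_subgroupOf_eq_of_le (hH.trans hSM), map_subgroupOf_eq_of_le (hQS.trans hSM)]
  rw [← h3]
  refine le_trans (le_of_eq ?_) (le_normalizer_map M.subtype)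
  rw [normalizer_eq_top, ← MonoidHom.range_eq_map, range_subtype]

/-- Let G be a minimal simple group of odd order, M a maximal subgroup and H a nontrivial subgroup of M_σ whose order is coprime to its index in M_σ. Then M ∩ C_G(H) is generated by M_σ ∩ C_G(H) together with a cyclic subgroup X all of whose prime divisors lie in τ₂(M); and if x ∈ H and gxg⁻¹ ∈ H then nxn⁻¹ = gxg⁻¹ for some n ∈ M ∩ N_G(H). -/
theorem result {G : Type*} [Group G] [Finite G] (hG : Cfsg.IsMinSimpleOddOrder G)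
    (M : Subgroup G) (hM : IsCoatom M) (H : Subgroup G) (hH : H ≤ Cfsg.sigmaCore M) (hH1 : H ≠ ⊥)
    (hHall : (Nat.card H).Coprime (H.relIndex (Cfsg.sigmaCore M))) :
    (∃ X : Subgroup G, IsCyclic X ∧ (∀ p : ℕ, p.Prime → p ∣ Nat.card X → p ∈ Cfsg.tau2 M) ∧
        M ⊓ Subgroup.centralizer (H : Set G) = (Cfsg.sigmaCore M ⊓ Subgroup.centralizer (H : Set G)) ⊔ X) ∧
      ∀ x ∈ H, ∀ g : G, g * x * g⁻¹ ∈ H → ∃ n ∈ M ⊓ Subgroup.normalizer (H : Set G), n * x * n⁻¹ = g * x * g⁻¹ := by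
  have hσ := (S1350.result hG M hM).1
  have hSM : Cfsg.sigmaCore M ≤ M := BGFinal72.sigmaCore_le M
  have hSn := BGFinal72.le_normalizer_sigmaCore M
  haveI := isSolvable_of_ne_top hG hM.1
  set S := Cfsg.sigmaCore M with hS
  refine ⟨?_, ?_⟩
  · obtain ⟨h₀, hh₀, hh1⟩ := H.bot_or_exists_ne_one.resolve_left hH1
    set C := M ⊓ centralizer (H : Set G) with hC
    set CS := S ⊓ centralizer (H : Set G) with hCS
    have hCSC : CS ≤ C := inf_le_inf_right _ hSM
    have hCn : C ≤ normalizer (CS : Set G) := CoprimeAction.le_normalizer_inf (inf_le_left.trans hSn)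
      (CoprimeTools.le_normalizer_centralizer_of_le
        ((inf_le_right).trans (centralizer_le_normalizer _)))
    haveI : (S.subgroupOf M).Normal := normal_subgroupOf_of_le_normalizer hSn
    have hrd : CS.relIndex C ∣ S.relIndex M := by
      have h1 : CS = S ⊓ C := le_antisymm (le_inf inf_le_left hCSC)
        (le_inf inf_le_left (inf_le_right.trans inf_le_right))
      rw [h1, inf_relIndex_right, ← relIndex_subgroupOf (inf_le_left : C ≤ M)]
      exact relIndex_dvd_index_of_normal _ _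
    have hcop : (Nat.card CS).Coprime (CS.relIndex C) :=
      ((BGFinal72.coprime_relIndex_of_hall hσ).coprime_dvd_left
        (card_dvd_of_le inf_le_left)).coprime_dvd_right hrd
    obtain ⟨X, hX, -⟩ := BGFinal72.exists_complIn hCSC hCn hcop
    have hXC : X ≤ C := hX.2.1
    have hXM : X ≤ M := hXC.trans inf_le_left
    have hXc : ∀ x ∈ X, ∀ h ∈ H, Commute h x := fun x hx h hh =>
      mem_centralizer_iff.1 (hXC hx).2 h hh
    have hXs : ∀ q : ℕ, q.Prime → q ∣ Nat.card X → q ∉ Cfsg.sigma M := fun q hq hd hs =>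
      hσ.2.2 q hq hs ((FittingHallBasic.card_compl_eq_relIndex hX ▸ hd).trans hrd)
    obtain ⟨⟨K, hK⟩, hKc⟩ := S1351.result hG M hM
    obtain ⟨⟨U, hKU⟩, -⟩ := S1352.result hG M hM K (hKc K hK) hK
    have hXk : ∀ q : ℕ, q.Prime → q ∣ Nat.card X → q ∉ Cfsg.kappa M := by
      intro q hq hd hκ
      haveI := Fact.mk hq
      obtain ⟨⟨x, hx⟩, hxq⟩ := exists_prime_orderOf_dvd_card' (G := X) q hd
      rw [orderOf_mk] at hxq
      have hK1 : K ≠ ⊥ := fun h => hK.2.2 q hq hκ (by rw [h, relIndex_bot_left]; exact hκ.2.1)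
      obtain ⟨m, hm, hk⟩ := BGTypeBasic.exists_conj_mem_of_not_dvd_relIndex (W := K)
        (hK.2.2 q hq hκ) (hXM hx) (IsPGroup.of_card (n := 1) (by rw [Nat.card_zpowers, hxq, pow_one]))
      have hk1 : m⁻¹ * x * m ≠ 1 := by
        intro h
        apply hq.ne_one
        rw [← hxq, orderOf_eq_one_iff]
        calc x = m * (m⁻¹ * x * m) * m⁻¹ := by group
          _ = 1 := by rw [h]; group
      set H₁ := MulAut.conj m⁻¹ • H with hH₁
      have hmS : m⁻¹ ∈ normalizer (S : Set G) := hSn (M.inv_mem hm)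
      have hH₁S : H₁ ≤ S :=
        (pointwise_smul_le_pointwise_smul_iff.2 hH).trans (CoprimeSZ.conj_smul_eq_self hmS).le
      have hle : H₁ ≤ S ⊓ centralizer (K : Set G) := by
        rw [← (S1430.result hG M hM K hK hK1).1 _ hk hk1]
        intro y hy
        refine ⟨hH₁S hy, ?_⟩
        obtain ⟨h, hh, rfl⟩ := hy
        refine mem_centralizer_singleton_iff.2 ?_
        show m⁻¹ * h * m⁻¹⁻¹ * (m⁻¹ * x * m) = m⁻¹ * x * m * (m⁻¹ * h * m⁻¹⁻¹)
        calc _ = m⁻¹ * (h * x) * m := by group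
          _ = m⁻¹ * (x * h) * m := by rw [(hXc x hx h hh).eq]
          _ = _ := by group
      have hc1 : Nat.card H₁ = Nat.card H := CoprimeSZ.card_conj_smul _ _
      obtain ⟨r, hr, hrd⟩ := Nat.exists_prime_and_dvd
        (fun h => hH1 (eq_bot_of_card_eq H h) : Nat.card H ≠ 1)
      haveI := Fact.mk hr
      obtain ⟨T, hT⟩ := exists_sylow_le (r := r) hH₁S
        (by rw [hc1, hH₁, coprime_conj hmS]; exact hHall) (hc1 ▸ hrd)
      exact ((S1431.result hG M hM K hK hK1).2.2.1 r hr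
        ((hc1 ▸ hrd).trans (card_dvd_of_le hle)) T).2.2 (hT.trans hle)
    have hXtau : ∀ q : ℕ, q.Prime → q ∣ Nat.card X → q ∈ Cfsg.tau2 M := by
      intro q hq hd
      haveI := Fact.mk hq
      obtain ⟨⟨x, hx⟩, hxq⟩ := exists_prime_orderOf_dvd_card' (G := X) q hd
      rw [orderOf_mk] at hxq
      exact BGFinal72.mem_tau2_of_fixed hG hM hq (hXs q hq hd) (hXk q hq hd) (hXM hx) hxq
        (hH hh₀) hh1 (hXc x hx h₀ hh₀).eq.symm
    refine ⟨X, ?_, hXtau, (BGTypeBasic.sup_eq_of_isComplIn hX).symm⟩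
    have hUM := BGFinal72.U_le hKU
    have hUhall := BGFinal72.hall_U hσ hKU
    obtain ⟨m, hm⟩ := HallTheorem.le_conj_isPiHall (HallSolvable.isPiSeparable_of_solvable _)
      (HallTheorem.complSolvable_of_solvable _) (π := BGFinal72.restPrimes M)
      (U := X.subgroupOf M) (fun q hq hd => by
        have h1 := hd.trans (HallCore.card_subgroupOf_dvd X M)
        exact ⟨hq, hXk q hq h1, hXs q hq h1⟩) (H := U.subgroupOf M)
      ⟨fun p hp hd => hUhall.2.1 p hp (hd.trans (HallCore.card_subgroupOf_dvd U M)), hUhall.2.2⟩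
    have hab := S1359.result hG M hM K U hKU
    have hmem : ∀ x ∈ X, (m : G)⁻¹ * x * m ∈ Subgroup.closure ((U : Set G) ∩ Cfsg.sigmaHat M) := by
      intro x hx
      refine subset_closure ⟨?_, M.mul_mem (M.mul_mem (M.inv_mem m.2) (hXM hx)) m.2,
        (m : G)⁻¹ * h₀ * m, ?_, ?_, ?_⟩
      · obtain ⟨z, hz, hze⟩ := hm (show (⟨x, hXM hx⟩ : M) ∈ X.subgroupOf M from hx)
        have h2 : (m : G) * z * (m : G)⁻¹ = x := congrArg Subtype.val hze
        rw [← h2]
        simpa [mul_assoc] using (show (z : G) ∈ U from hz)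
      · have h2 := (mem_normalizer_iff.1 (hSn (M.inv_mem m.2)) h₀).1 (hH hh₀)
        rwa [inv_inv] at h2
      · intro h
        apply hh1
        calc h₀ = (m : G) * ((m : G)⁻¹ * h₀ * m) * (m : G)⁻¹ := by group
          _ = 1 := by rw [h]; group
      · calc _ = (m : G)⁻¹ * (x * h₀) * m := by group
          _ = (m : G)⁻¹ * (h₀ * x) * m := by rw [(hXc x hx h₀ hh₀).eq]
          _ = _ := by group
    letI : CommGroup X :=
      { (inferInstance : Group X) with
        mul_comm := fun a b => Subtype.ext (by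
          have h2 := PGroupsBasic.comm_of_isMulCommutative hab (hmem a a.2) (hmem b b.2)
          calc (a : G) * b = (m : G) * ((m : G)⁻¹ * a * m * ((m : G)⁻¹ * b * m)) * (m : G)⁻¹ := by group
            _ = (m : G) * ((m : G)⁻¹ * b * m * ((m : G)⁻¹ * a * m)) * (m : G)⁻¹ := by rw [h2]
            _ = (b : G) * a := by group) }
    haveI : IsZGroup X := ⟨fun p hp P => by
      haveI := Fact.mk hp
      by_contra hnc
      have e := (P : Subgroup X).equivMapOfInjective _ X.subtype_injective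
      obtain ⟨A, hA, hAe, hAc⟩ := exists_elementary_sq_of_noncyclic hG (P.isPGroup'.map X.subtype)
        (fun h => hnc (e.isCyclic.2 h))
      have hAX : A ≤ X := hA.trans (map_subtype_le _)
      have hpX : p ∣ Nat.card X :=
        (by rw [hAc]; exact dvd_pow_self p two_ne_zero : p ∣ Nat.card A).trans (card_dvd_of_le hAX)
      obtain ⟨-, -, -, hbot, -, -⟩ := S1417.result hG M hM p (hXtau p hp hpX) A
        ⟨hAX.trans hXM, hAe, hAc⟩
      refine hh1 (mem_bot.1 (hbot ▸ (⟨hH hh₀, mem_centralizer_iff.2 fun a ha => ?_⟩ :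
        h₀ ∈ S ⊓ centralizer (A : Set G))))
      exact (hXc a (hAX ha) h₀ hh₀).eq.symm⟩
    exact inferInstance
  · intro x hx g hgx
    rcases eq_or_ne x 1 with rfl | hx1
    · exact ⟨1, one_mem _, by group⟩
    set y := g * x * g⁻¹ with hy
    have hy1 : y ≠ 1 := fun h => hx1 (conj_eq_one_iff.1 h)
    obtain ⟨-, R, -, hR, hRu⟩ := S1374.result hG M hM y (hH hgx) hy1
    obtain ⟨r, ⟨hrR, hr⟩, -⟩ := hRu g ⟨x, hSM (hH hx), rfl⟩
    have hmM : r⁻¹ * g ∈ M := by
      refine BGSigma.mem_of_conj_eq hG hM ?_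
      rw [map_mul, mul_smul, CoprimeSZ.conj_smul_eq_map g M, ← hr, ← CoprimeSZ.conj_smul_eq_map r M,
        map_inv, inv_smul_smul]
    have hry : r * y = y * r := mem_centralizer_singleton_iff.1 (hR.2.1 hrR)
    have hmx : (r⁻¹ * g) * x * (r⁻¹ * g)⁻¹ = y := by
      calc (r⁻¹ * g) * x * (r⁻¹ * g)⁻¹ = r⁻¹ * (y * r) := by rw [hy]; group
        _ = y := by rw [← hry, inv_mul_cancel_left]
    set m := r⁻¹ * g
    obtain ⟨Q, hQS, hQn, hQH, hnil⟩ := exists_Q hG hM hH hHall
    have hW := le_normalizer_sup_Q hH hSM hSn hHall hQS hQn hnil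
    rcases hQH with hQH | hQH
    · rw [sup_eq_left.2 hQH] at hW
      exact ⟨m, ⟨hmM, hW hmM⟩, hmx⟩
    have hHn : H ≤ normalizer (Q : Set G) := (hH.trans hSM).trans hQn
    obtain ⟨a, ha, haH⟩ := CoprimeSZ.exists_conj_of_card_eq hHn hQH
      (Or.inl (CoprimeAction.isSolvable_of_le (hH.trans hSM)))
      (B := MulAut.conj m • H) (by
        rw [sup_comm]
        exact (pointwise_smul_le_pointwise_smul_iff.2 le_sup_left).trans
          (CoprimeSZ.conj_smul_eq_self (hW hmM)).le)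
      (CoprimeSZ.card_conj_smul _ _)
    have haM : a ∈ M := hSM (hQS ha)
    have hn : a⁻¹ * m ∈ normalizer (H : Set G) := by
      refine CoprimeAction.mem_normalizer_of_conj_smul_eq ?_
      rw [map_mul, mul_smul, ← haH, map_inv, inv_smul_smul]
    refine ⟨a⁻¹ * m, ⟨M.mul_mem (M.inv_mem haM) hmM, hn⟩, ?_⟩
    set z := a⁻¹ * m * x * (a⁻¹ * m)⁻¹
    have hzH : z ∈ H := (mem_normalizer_iff.1 hn x).1 hx
    have hyz : y = a * z * a⁻¹ := by
      show y = a * (a⁻¹ * m * x * (a⁻¹ * m)⁻¹) * a⁻¹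
      rw [← hmx]; group
    have h1 : y * z⁻¹ ∈ H ⊓ Q := ⟨H.mul_mem hgx (H.inv_mem hzH), by
      have h2 := Q.mul_mem ha ((mem_normalizer_iff.1 (hHn hzH) a⁻¹).1 (Q.inv_mem ha))
      rw [hyz]
      simpa [mul_assoc] using h2⟩
    rw [inf_eq_bot_of_coprime hQH, mem_bot, mul_inv_eq_one] at h1
    exact h1.symm

end Cfsg.Agent.S1438
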