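import Cfsg.Statements.S1492
import Cfsg.Agent.Lib.CharBasicDecomp
import Cfsg.Agent.Lib.CharInducedRep

set_option autoImplicit false
open Cfsg

namespace Cfsg.Agent.S1492

/-- Let ψ be an irreducible character of the finite group G and B ≤ D ≤ C subgroups with B normal in C, every commutator of an element of D with an element of C lying in B (so D/B is central in C/B), and ψ constant equal to ψ 1 on B. Then ψ(1) ^ 2 * |C| * |D| ≤ |G| ^ 2. -/
theorem result {G : Type*} [Group G] [Finite G] (ψ : G → ℂ) (hψ : Cfsg.IsIrrCharacter G ψ) (B C D : Subgroup G) (hBD : B ≤ D) (hDC : D ≤ C) (hBn : ∀ c ∈ C, ∀ b ∈ B, c * b * c⁻¹ ∈ B) (hcent : ∀ d ∈ D, ∀ c ∈ C, d * c * d⁻¹ * c⁻¹ ∈ B) (hker : ∀ b ∈ B, ψ b = ψ 1) : ‖ψ 1‖ ^ 2 * (Nat.card C : ℝ) * (Nat.card D : ℝ) ≤ (Nat.card G : ℝ) ^ 2 := by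
  classical
  have := Fintype.ofFinite G
  have : Fintype C := Fintype.ofFinite C
  obtain ⟨d, ρ, hρ, rfl⟩ := hψ
  have hnt := CharBasic.nontrivial_of_irreducible ρ
  let σ := CharBasic.repComap C.subtype ρ
  obtain ⟨U, hU⟩ := CharBasic.exists_irreducible_sub σ
  obtain ⟨U', hUU'⟩ := CharBasic.exists_isCompl U
  have hsum := CharBasic.character_of_isCompl U U' hUU'
  set τ := U.toRepresentation with hτ
  have hτirr := CharBasic.isIrrCharacter_of_rep τ
  set θ : C → ℂ := τ.character with hθ
  -- elements of `B` act trivially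
  have hB : ∀ b ∈ B, ρ b = LinearMap.id := fun b hb =>
    (CharBasic.character_eq_finrank_iff ρ b).1 ((hker b hb).trans (Representation.char_one ρ))
  have hBτ : ∀ (b : C), (b : G) ∈ B → ∀ u, τ b u = u := by
    intro b hb u
    refine Subtype.ext ?_
    show ρ (b : G) (u : Fin d → ℂ) = u
    rw [hB _ hb]; rfl
  have hD : ∀ x : C, (x : G) ∈ D → ‖θ x‖ = (Module.finrank ℂ U.toSubmodule : ℝ) := by
    intro x hx
    refine (CharBasic.norm_eq_finrank_iff τ x).2 ?_
    obtain ⟨c, hc, -⟩ := CharBasic.exists_scalar_of_commute τ (τ x) fun g v => by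
      have h1 : x * g = x * g * x⁻¹ * g⁻¹ * (g * x) := by group
      rw [← Module.End.mul_apply, ← map_mul, h1, map_mul, Module.End.mul_apply,
        hBτ _ (by simpa using hcent x hx g g.2), map_mul, Module.End.mul_apply]
    exact ⟨c, hc⟩
  have hnorm : ∑ x : C, ‖θ x‖ ^ 2 = (Nat.card C : ℝ) := by
    have h := CharBasicOrth.classInner_self_re θ
    rw [CharBasicOrth.classInner_irr_self hτirr, Complex.one_re, eq_inv_mul_iff_mul_eq₀
      (Nat.cast_ne_zero.2 Nat.card_pos.ne'), mul_one] at h
    exact h.symm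
  have hlow : (Nat.card D : ℝ) * (Module.finrank ℂ U.toSubmodule : ℝ) ^ 2 ≤ (Nat.card C : ℝ) := by
    rw [← hnorm]
    refine le_trans (le_of_eq ?_) (Finset.sum_le_sum_of_subset_of_nonneg
      (Finset.subset_univ (Finset.univ.filter fun x : C => (x : G) ∈ D))
      (fun x _ _ => sq_nonneg ‖θ x‖))
    rw [Finset.sum_congr rfl fun x hx => by rw [hD x (Finset.mem_filter.1 hx).2], Finset.sum_const,
      nsmul_eq_mul, ← Fintype.card_subtype, ← Nat.card_eq_fintype_card,
      Nat.card_congr (Equiv.subtypeEquivRight (p := fun x : C => (x : G) ∈ D)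
        (q := fun x => x ∈ D.subgroupOf C) (fun x => Iff.rfl)),
      Nat.card_congr (Subgroup.subgroupOfEquivOfLe hDC).toEquiv]
  -- `ψ` is a constituent of the induced character
  have hdeg : (d : ℝ) ≤ (C.index : ℝ) * (Module.finrank ℂ U.toSubmodule : ℝ) := by
    have hψi : IsIrrCharacter G ρ.character := ⟨d, ρ, hρ, rfl⟩
    obtain ⟨c, hc, hcs⟩ := CharBasicDecomp.exists_mult
      (CharInduced.isCharacter_ind C (CharBasic.isCharacter_of_isIrrCharacter hτirr))
    let ψ' : IrrCharacter G := ⟨ρ.character, hψi⟩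
    have hc0 : c ψ' ≠ 0 := by
      intro h0
      have h1 := hc ψ'
      rw [h0, CharInduced.inner_ind_left C θ (CharBasicDecomp.isClassFunction_of_isGeneralizedCharacter
        (CharBasicDecomp.isGeneralizedCharacter_of_isCharacter (CharBasic.isCharacter_of_isIrrCharacter hψi)))] at h1
      obtain ⟨r, hr⟩ := CharBasicOrth.classInner_isCharacter (CharBasic.isCharacter_of_isIrrCharacter hτirr)
        (CharBasic.isCharacter_of_rep U'.toRepresentation)
      have h2 : (fun x : C => ρ.character x) = θ + U'.toRepresentation.character := hsum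
      rw [show (fun x : C => (ψ' : G → ℂ) x) = fun x : C => ρ.character x from rfl, h2,
        CharBasicOrth.classInner_add_right, CharBasicOrth.classInner_irr_self hτirr, hr,
        Nat.cast_zero] at h1
      have h3 : ((1 + r : ℕ) : ℂ) = 0 := by push_cast; exact h1
      rw [Nat.cast_eq_zero] at h3
      omega
    choose deg hdeg0 hdeg using fun η : IrrCharacter G => CharBasic.isIrrCharacter_apply_one η.2
    have h1 := congrFun hcs 1
    rw [CharInduced.ind_one_apply, show θ 1 = (Module.finrank ℂ U.toSubmodule : ℂ) from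
      Representation.char_one τ] at h1
    simp only [Finset.sum_apply, Pi.smul_apply, smul_eq_mul, hdeg] at h1
    have h2 : C.index * Module.finrank ℂ U.toSubmodule = ∑ η, c η * deg η := by exact_mod_cast h1
    have h3 : deg ψ' = d := by
      have e1 : ((ψ' : G → ℂ) 1) = (d : ℂ) := by
        show ρ.character 1 = _
        rw [Representation.char_one, Module.finrank_fin_fun]
      exact_mod_cast (hdeg ψ').symm.trans e1
    have h4 : d ≤ C.index * Module.finrank ℂ U.toSubmodule := by
      rw [h2, ← h3]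
      exact le_trans (Nat.le_mul_of_pos_left _ (Nat.pos_of_ne_zero hc0))
        (Finset.single_le_sum (fun η _ => Nat.zero_le (c η * deg η)) (Finset.mem_univ ψ'))
    exact_mod_cast h4
  rw [Representation.char_one, Module.finrank_fin_fun, Complex.norm_natCast]
  have hG : (Nat.card G : ℝ) = (C.index : ℝ) * Nat.card C := by exact_mod_cast C.index_mul_card.symm
  rw [hG]
  have hC0 : (0 : ℝ) ≤ Nat.card C := Nat.cast_nonneg _
  have hD0 : (0 : ℝ) ≤ Nat.card D := Nat.cast_nonneg _
  calc (d : ℝ) ^ 2 * Nat.card C * Nat.card D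
      ≤ ((C.index : ℝ) * Module.finrank ℂ U.toSubmodule) ^ 2 * Nat.card C * Nat.card D := by gcongr
    _ = (C.index : ℝ) ^ 2 * Nat.card C * ((Nat.card D : ℝ) * (Module.finrank ℂ U.toSubmodule : ℝ) ^ 2) := by
      ring
    _ ≤ (C.index : ℝ) ^ 2 * Nat.card C * Nat.card C := by gcongr
    _ = ((C.index : ℝ) * Nat.card C) ^ 2 := by ring

end Cfsg.Agent.S1492
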