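import Cfsg.Statements.S1378
import Mathlib
import Cfsg.Agent.Lib.BGSigmaPartition
import Cfsg.Agent.Lib.BGSigmaBasic

set_option autoImplicit false
open Cfsg

namespace Cfsg.Agent.S1378

open scoped Pointwise commutatorElement

open Subgroup Cfsg.Agent.BGUnique

theorem cover {G : Type*} [Group G] [Finite G] (hG : Cfsg.IsMinSimpleOddOrder G) (p : ℕ)
    (hp : p.Prime) (hd : p ∣ Nat.card G) :
    ∃ M : Subgroup G, IsCoatom M ∧ p ∈ Cfsg.sigma M := by
  haveI := Fact.mk hp
  obtain ⟨P⟩ : Nonempty (Sylow p G) := inferInstance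
  have hP1 : (P : Subgroup G) ≠ ⊥ := P.ne_bot_of_dvd_card hd
  obtain ⟨M, hM, hle⟩ := exists_coatom_ge (BGSigma.normalizer_ne_top' hG hP1
    (BGTransitivity.qgroup_ne_top hG P.isPGroup'))
  have hPM : (P : Subgroup G) ≤ M := le_normalizer.trans hle
  refine ⟨M, hM, hp, ?_, P.subtype hPM, ?_⟩
  · exact (dvd_card_of_ne_bot P.isPGroup' hP1).trans (card_dvd_of_le hPM)
  · rw [Sylow.coe_subtype, map_subgroupOf_eq_of_le hPM]
    exact hle

/-- Let G be a minimal simple group of odd order. Then every prime dividing the order of G belongs to σ(M) for some maximal subgroup M, and if σ(M) and σ(N) have a prime in common for maximal subgroups M, N then N is conjugate to M; so the sets σ(M_i) over representatives of the conjugacy classes of maximal subgroups partition the prime divisors of #G. -/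
theorem result {G : Type*} [Group G] [Finite G] (hG : Cfsg.IsMinSimpleOddOrder G) :
    (∀ p : ℕ, p.Prime → p ∣ Nat.card G → ∃ M : Subgroup G, IsCoatom M ∧ p ∈ Cfsg.sigma M) ∧
      ∀ M N : Subgroup G, IsCoatom M → IsCoatom N → (Cfsg.sigma M ∩ Cfsg.sigma N).Nonempty → ∃ g : G, N = M.map (MulAut.conj g).toMonoidHom := by
  refine ⟨cover hG, fun M N hM hN => ?_⟩
  rintro ⟨p, hpM, hpN⟩
  exact BGSigmaPartition.conj_of_sigma_inter hG hM hN hpM hpN

end Cfsg.Agent.S1378
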