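import Cfsg.Statements.S1379
import Mathlib
import Cfsg.Agent.Lib.BGTypePClasses
import Cfsg.Agent.S1378

set_option autoImplicit false
open Cfsg

namespace Cfsg.Agent.S1379

open scoped Pointwise commutatorElement

open Subgroup Cfsg.Agent.HallCore Cfsg.Agent.BGTypeP

theorem kappa_subset {G : Type*} [Group G] [Finite G] (g : G) (hG : Cfsg.IsMinSimpleOddOrder G)
    {M : Subgroup G} (hM : IsCoatom M) : Cfsg.kappa M ⊆ Cfsg.kappa (cj g M) := by
  rintro p ⟨hp, hd, hσ, hP⟩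
  haveI := Fact.mk hp
  refine ⟨hp, (card_cj g M).symm ▸ hd, by rwa [sigma_cj], fun P => ?_⟩
  let e : M ≃* ↥(cj g M) := M.equivMapOfInjective _ (MulAut.conj g).injective
  let P' : Sylow p M := Sylow.ofCard ((P : Subgroup ↥(cj g M)).map e.symm.toMonoidHom) (by
    rw [card_map_of_injective e.symm.injective, P.card_eq_multiplicity, Nat.card_congr e.toEquiv])
  obtain ⟨hc, x, hx, hx1, y, hy, hy1, hxy⟩ := hP P'
  refine ⟨((P : Subgroup ↥(cj g M)).equivMapOfInjective _ e.symm.injective).isCyclic.2 hc, ?_⟩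
  rw [Sylow.coe_ofCard] at hx
  obtain ⟨x', hx', rfl⟩ := hx
  refine ⟨x', hx', fun h1 => hx1 (by rw [h1]; exact map_one _), g * y * g⁻¹,
    (sigmaCore_cj g hG hM) ▸ conj_mem_cj.2 hy, fun h1 => hy1 (conj_eq_one_iff.1 h1), ?_⟩
  have hxe : (x' : G) = g * (e.symm x' : G) * g⁻¹ := by
    conv_lhs => rw [← e.apply_symm_apply x']
    rfl
  rw [hxe]
  exact (Commute.map (show Commute ((e.symm x' : M) : G) y from hxy)
    (MulAut.conj g).toMonoidHom).eq

theorem kappa_cj {G : Type*} [Group G] [Finite G] (g : G) (hG : Cfsg.IsMinSimpleOddOrder G)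
    {M : Subgroup G} (hM : IsCoatom M) : Cfsg.kappa (cj g M) = Cfsg.kappa M := by
  refine Set.Subset.antisymm ?_ (kappa_subset g hG hM)
  have h1 := kappa_subset g⁻¹ hG (isCoatom_cj g hM)
  rwa [cj_inv_cj] at h1

theorem conj_into {G : Type*} [Group G] [Finite G] {M K N K' : Subgroup G} (h : TypeP M K)
    (h' : TypeP N K') (c : G) (eK : cj c K = K') (eM : cj c M = N) {m w : G}
    (hw : m⁻¹ * w * m ∈ Zh N K') : ∃ y : G, ∃ z ∈ Zh M K, w = y * z * y⁻¹ := by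
  obtain ⟨k, hk, y, hy, hk1, hy1, e⟩ := h'.mem_Zh.1 hw
  rw [← eK, mem_cj] at hk
  have hc1 : c⁻¹ * k * c ≠ 1 := fun e1 => hk1 (by
    have := congrArg (fun t => c * t * c⁻¹) e1
    simpa [mul_assoc] using this)
  have hy' : c⁻¹ * y * c ∈ Ks M K := by
    refine ⟨?_, mem_centralizer_iff.2 fun a ha => ?_⟩
    · have h1 : y ∈ Cfsg.sigmaCore N := hy.1
      rw [← eM, sigmaCore_cj c h.min h.coatom, mem_cj] at h1
      exact h1
    · have h1 := hy.2 (c * a * c⁻¹) (eK ▸ conj_mem_cj.2 ha)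
      calc a * (c⁻¹ * y * c) = c⁻¹ * ((c * a * c⁻¹) * y) * c := by group
        _ = c⁻¹ * (y * (c * a * c⁻¹)) * c := by rw [h1]
        _ = _ := by group
  refine ⟨m * c, (c⁻¹ * k * c) * (c⁻¹ * y * c), h.mem_Zh.2 ⟨_, hk, _, hy', hc1, fun e1 => hy1 (by
    have := congrArg (fun t => c * t * c⁻¹) e1
    simpa [mul_assoc] using this), rfl⟩, ?_⟩
  calc w = m * (m⁻¹ * w * m) * m⁻¹ := by group
    _ = m * (k * y) * m⁻¹ := by rw [e]
    _ = _ := by group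

theorem cover {G : Type*} [Group G] [Finite G] (hG : Cfsg.IsMinSimpleOddOrder G) {M K : Subgroup G}
    (h : TypeP M K) {g : G} (hg : g ≠ 1) :
    (∃ N : Subgroup G, IsCoatom N ∧ g ∈ Cfsg.tildeOf N ((Cfsg.sigmaCore N : Set G) \ {1})) ∨
      ∃ y : G, ∃ z ∈ Zh M K, g = y * z * y⁻¹ := by
  rcases isA_or_isB hG (S1378.cover hG) hg with ⟨N, a, r, hA, rfl⟩ | ⟨N, y, y', hB, rfl⟩
  · exact Or.inl ⟨N, hA.coatom, hA.mem_tilde⟩
  refine Or.inr ?_
  obtain ⟨q, hq, hd, hqN⟩ := exists_prime_of_mem_sigmaCore hB.mem hB.ne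
  obtain ⟨q', hq', hd'⟩ := Nat.exists_prime_and_dvd (n := orderOf y') (by simpa using hB.ne')
  obtain ⟨K', U', h', -⟩ := typeP_of_kappa hG hB.coatom ⟨q', hB.kappa q' hq' hd'⟩
  -- y y' is conjugate into Ẑ_N
  obtain ⟨m, hm, hle⟩ := le_conj_hallOf (BGTypeP.solvable hG hB.coatom) h'.hall
    (U := zpowers y') (zpowers_le.2 hB.mem') (by rw [Nat.card_zpowers]; exact hB.kappa)
  have hk : m⁻¹ * y' * m ∈ K' := mem_cj.1 (hle (mem_zpowers y'))
  have hk1 : m⁻¹ * y' * m ≠ 1 := fun e => hB.ne' (by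
    have := congrArg (fun t => m * t * m⁻¹) e
    simpa [mul_assoc] using this)
  have hy : m⁻¹ * y * m ∈ Ks N K' := by
    rw [Ks, ← (S1430.result hG N h'.coatom K' h'.hall h'.ne).1 _ hk hk1]
    refine ⟨?_, mem_centralizer_singleton_iff.2 ?_⟩
    · have := (mem_normalizer_iff.1 (BGFinal72.le_normalizer_sigmaCore N (N.inv_mem hm)) y).1 hB.mem
      simpa using this
    · have := (hB.comm.map (MulAut.conj m⁻¹).toMonoidHom).eq
      simpa using this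
  have hy1 : m⁻¹ * y * m ≠ 1 := fun e => hB.ne (by
    have := congrArg (fun t => m * t * m⁻¹) e
    simpa [mul_assoc] using this)
  obtain ⟨L, hL⟩ := exists_pair h
  obtain ⟨c, hc⟩ := hL.conj_class h'
  have hZ : m⁻¹ * (y * y') * m ∈ Zh N K' := h'.mem_Zh.2
    ⟨_, hk, _, hy, hk1, hy1, by rw [hB.comm.eq]; group⟩
  rcases hc with rfl | rfl
  · obtain ⟨s, hs, e⟩ := hallOf_conj (BGTypeP.solvable hG h.coatom) h.hall
      (show Cfsg.IsPiHallOf (Cfsg.kappa M) (cj c⁻¹ K') M by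
        have h1 := hallOf_cj c⁻¹ h'.hall
        rw [cj_inv_cj] at h1
        rwa [kappa_cj c hG h.coatom] at h1)
    exact conj_into h h' (c * s) (by rw [← cj_mul, e, cj_cj_inv]) (by rw [← cj_mul, cj_of_mem hs]) hZ
  · have hR := hL.right
    obtain ⟨s, hs, e⟩ := hallOf_conj (BGTypeP.solvable hG hR.coatom) hR.hall
      (show Cfsg.IsPiHallOf (Cfsg.kappa L) (cj c⁻¹ K') L by
        have h1 := hallOf_cj c⁻¹ h'.hall
        rw [cj_inv_cj] at h1
        rwa [kappa_cj c hG hR.coatom] at h1)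
    obtain ⟨u, z, hz, e'⟩ :=
      conj_into hR h' (c * s) (by rw [← cj_mul, e, cj_cj_inv]) (by rw [← cj_mul, cj_of_mem hs]) hZ
    refine ⟨u, z, ⟨hL.Z_eq ▸ hz.1, fun hm' => hz.2 ?_⟩, e'⟩
    rw [hL.eq]
    exact hm'.symm

theorem not_tilde {G : Type*} [Group G] [Finite G] (hG : Cfsg.IsMinSimpleOddOrder G)
    {M K : Subgroup G} (h : TypeP M K) {N : Subgroup G} (hN : IsCoatom N) (w : G) {z : G}
    (hz : z ∈ Zh M K) :
    w * z * w⁻¹ ∉ Cfsg.tildeOf N ((Cfsg.sigmaCore N : Set G) \ {1}) := by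
  intro hmem
  obtain ⟨a, r, y, hA, e⟩ := exists_isA_of_tilde hN hmem
  obtain ⟨k, hk, v, hv, hk1, hv1, rfl⟩ := h.mem_Zh.1 hz
  refine not_isA_and_isB hG (hA.conj hG (w⁻¹ * y)) (N := M) (y := v) (y' := k)
    ⟨h.coatom, hv.1, hv1, h.K_le hk, hk1, (commute_K_Ks hk hv).symm,
      piNat_orderOf h.card_hall hk⟩ ?_
  rw [(commute_K_Ks hk hv).symm.eq]
  calc (w⁻¹ * y) * a * (w⁻¹ * y)⁻¹ * ((w⁻¹ * y) * r * (w⁻¹ * y)⁻¹)
      = w⁻¹ * (y * (a * r) * y⁻¹) * w := by group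
    _ = w⁻¹ * (w * (k * v) * w⁻¹) * w := by rw [← e]
    _ = k * v := by group

/-- Let G be a minimal simple group of odd order; for a maximal subgroup M write M̃ for the union of the G-conjugates of the cosets x R(x), x ≠ 1 in M_σ. Then M̃ ∩ Ñ = ∅ for non-conjugate maximal M, N; if every maximal subgroup has κ empty, every g ≠ 1 lies in some M̃; and if M = K U M_σ has K ≠ 1 with Ẑ = K K* − (K ∪ K*), then every g ≠ 1 lies in some Ñ or in a conjugate of Ẑ, and no conjugate of an element of Ẑ lies in any Ñ. -/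
theorem result {G : Type*} [Group G] [Finite G] (hG : Cfsg.IsMinSimpleOddOrder G) :
    (∀ M N : Subgroup G, IsCoatom M → IsCoatom N → (∀ g : G, N ≠ M.map (MulAut.conj g).toMonoidHom) → Cfsg.tildeOf M ((Cfsg.sigmaCore M : Set G) \ {1}) ∩ Cfsg.tildeOf N ((Cfsg.sigmaCore N : Set G) \ {1}) = ∅) ∧
      ((∀ M : Subgroup G, IsCoatom M → Cfsg.kappa M = ∅) →
        ∀ g : G, g ≠ 1 → ∃ M : Subgroup G, IsCoatom M ∧ g ∈ Cfsg.tildeOf M ((Cfsg.sigmaCore M : Set G) \ {1})) ∧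
      ∀ (M K U : Subgroup G), IsCoatom M → Cfsg.IsSigmaDecomposition M K U → K ≠ ⊥ →
        (∀ g : G, g ≠ 1 → (∃ N : Subgroup G, IsCoatom N ∧ g ∈ Cfsg.tildeOf N ((Cfsg.sigmaCore N : Set G) \ {1})) ∨
            ∃ y : G, ∃ z ∈ ((↑(K ⊔ (Cfsg.sigmaCore M ⊓ Subgroup.centralizer (K : Set G))) : Set G) \ ((K : Set G) ∪ ↑(Cfsg.sigmaCore M ⊓ Subgroup.centralizer (K : Set G)))), g = y * z * y⁻¹) ∧
        ∀ N : Subgroup G, IsCoatom N → ∀ y : G, ∀ z ∈ ((↑(K ⊔ (Cfsg.sigmaCore M ⊓ Subgroup.centralizer (K : Set G))) : Set G) \ ((K : Set G) ∪ ↑(Cfsg.sigmaCore M ⊓ Subgroup.centralizer (K : Set G)))), y * z * y⁻¹ ∉ Cfsg.tildeOf N ((Cfsg.sigmaCore N : Set G) \ {1}) := by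
  refine ⟨fun M N hM hN hMN => Set.eq_empty_iff_forall_notMem.2 fun g hg =>
      BGTypeP.tilde_disjoint hG hM hN hMN hg.1 hg.2, fun hk g hg => ?_, fun M K U hM hKU hK1 => ?_⟩
  · rcases BGTypeP.isA_or_isB hG (S1378.cover hG) hg with ⟨M, a, r, hA, rfl⟩ | ⟨N, y, y', hB, -⟩
    · exact ⟨M, hA.coatom, hA.mem_tilde⟩
    · obtain ⟨q, hq, hd⟩ := Nat.exists_prime_and_dvd (n := orderOf y') (by simpa using hB.ne')
      exact absurd (hB.kappa q hq hd) (by rw [hk N hB.coatom]; exact Set.notMem_empty q)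
  · have h : BGTypeP.TypeP M K := ⟨hG, hM, hKU.hall, hK1⟩
    exact ⟨fun g hg => cover hG h hg, fun N hN y z hz => not_tilde hG h hN y hz⟩

end Cfsg.Agent.S1379
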