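import Cfsg.Statements.S1360
import Mathlib
import Cfsg.Agent.Lib.BGFinalU72
import Cfsg.Agent.S1350
import Cfsg.Agent.S1417
import Cfsg.Agent.S1420
import Cfsg.Agent.S1421

set_option autoImplicit false
open Cfsg

namespace Cfsg.Agent.S1360

open scoped Pointwise

universe u
variable {G : Type u} [Group G] [Finite G]

/-- An element of maximal `q`-power order in an abelian `U` whose socle acts without fixed point. -/
theorem exists_good (hG : Cfsg.IsMinSimpleOddOrder G) {M K U : Subgroup G} (hM : IsCoatom M)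
    (hKU : Cfsg.IsSigmaDecomposition M K U) (hUc : IsMulCommutative U) {q : ℕ} [hq : Fact q.Prime]
    (hqU : q ∣ Nat.card U) :
    ∃ u ∈ U, orderOf u = q ^ (Monoid.exponent U).factorization q ∧
      ∀ y ∈ Cfsg.sigmaCore M, Commute (u ^ q ^ ((Monoid.exponent U).factorization q - 1)) y → y = 1 := by
  have hσ := (S1350.result hG M hM).1
  have hUM := BGFinal72.U_le hKU
  set a := (Monoid.exponent U).factorization q with ha
  have hN0 : Monoid.exponent U ≠ 0 := Monoid.exponent_ne_zero_of_finite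
  have hqN : q ∣ Monoid.exponent U := by
    obtain ⟨g, hg⟩ := exists_prime_orderOf_dvd_card' q hqU
    exact hg ▸ Monoid.order_dvd_exponent g
  have ha0 : 0 < a := hq.out.factorization_pos_of_dvd hN0 hqN
  have hsock : ∀ v : G, orderOf v = q ^ a → orderOf (v ^ q ^ (a - 1)) = q := by
    intro v hv
    rw [orderOf_pow_of_dvd (pow_ne_zero _ hq.out.ne_zero) (hv ▸ pow_dvd_pow q (Nat.sub_le a 1)), hv,
      Nat.pow_div (Nat.sub_le a 1) hq.out.pos, show a - (a - 1) = 1 by omega, pow_one]
  obtain ⟨u₀, hu₀⟩ := hq.out.exists_orderOf_eq_pow_factorization_exponent U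
  have hu : orderOf (u₀ : G) = q ^ a := by rw [Subgroup.orderOf_coe, hu₀]
  by_cases hfix : ∀ y ∈ Cfsg.sigmaCore M, Commute ((u₀ : G) ^ q ^ (a - 1)) y → y = 1
  · exact ⟨u₀, u₀.2, hu, hfix⟩
  push Not at hfix
  obtain ⟨y, hy, hxy, hy1⟩ := hfix
  set x := (u₀ : G) ^ q ^ (a - 1) with hx
  have hxq : orderOf x = q := hsock _ hu
  have hxU : x ∈ U := U.pow_mem u₀.2 _
  have htau : q ∈ Cfsg.tau2 M :=
    BGFinal72.orderOf_tau2 hG hM hσ hKU hxU hy hy1 hxy.eq q hq.out (by rw [hxq])
  obtain ⟨S⟩ : Nonempty (Sylow q U) := inferInstance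
  set P := (S : Subgroup U).map U.subtype
  have hPp : IsPGroup q P := S.isPGroup'.map _
  have hPU : P ≤ U := Subgroup.map_subtype_le _
  have hcom : ∀ {v w : G}, v ∈ U → w ∈ U → v * w = w * v :=
    fun hv hw => PGroupsBasic.comm_of_isMulCommutative hUc hv hw
  have huP : (u₀ : G) ∈ P := by
    haveI : (S : Subgroup U).Normal :=
      ⟨fun s hs g => by
        rw [show g * s * g⁻¹ = s from Subtype.ext (by
          simp only [Subgroup.coe_mul, Subgroup.coe_inv]
          rw [hcom g.2 s.2, mul_inv_cancel_right])]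
        exact hs⟩
    haveI : Subsingleton (Sylow q U) := by
      have := Sylow.unique_of_normal S inferInstance
      exact Unique.instSubsingleton
    obtain ⟨T, hT⟩ := (IsPGroup.of_card (G := Subgroup.zpowers u₀) (p := q) (n := a)
      (by rw [Nat.card_zpowers, hu₀])).exists_le_sylow
    exact ⟨u₀, Subsingleton.elim T S ▸ hT (Subgroup.mem_zpowers u₀), rfl⟩
  obtain ⟨T, hT⟩ := (hPp.comap_of_injective M.subtype M.subtype_injective).exists_le_sylow
  have hPT : (T : Subgroup M).map M.subtype = P := by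
    refine (Subgroup.eq_of_le_of_card_ge ?_ ?_).symm
    · rw [← Subgroup.map_subgroupOf_eq_of_le (hPU.trans hUM)]
      exact Subgroup.map_mono hT
    · have hh := BGFinal72.hall_U hσ hKU
      rw [Subgroup.card_map_of_injective M.subtype_injective,
        Subgroup.card_map_of_injective U.subtype_injective, T.card_eq_multiplicity,
        S.card_eq_multiplicity, ← BGFinal72.card_mul_relIndex hUM,
        Nat.factorization_mul Nat.card_pos.ne'
          (fun e => Nat.card_pos.ne' (by rw [← BGFinal72.card_mul_relIndex hUM, e, mul_zero])),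
        Finsupp.add_apply, Nat.factorization_eq_zero_of_not_dvd
          (hh.2.2 q hq.out (hh.2.1 q hq.out hqU)), add_zero]
  obtain ⟨A, hAP, hA, hAc⟩ : ∃ A : Subgroup G, A ≤ P ∧ Cfsg.IsElementaryAbelian q A ∧
      Nat.card A = q ^ 2 := by
    obtain ⟨F, hFM, hF, hFc⟩ := BGUnique.pow_le_of_not_pRankLE htau.2.2.2
    obtain ⟨T', hT'⟩ := ((PGroupsBasic.isPGroup_of_isElementaryAbelian hF).comap_of_injective M.subtype
      M.subtype_injective).exists_le_sylow
    refine BGUnique.exists_elementary_sq_of_noncyclic hG hPp fun hc => ?_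
    have h1 : IsCyclic (T : Subgroup M) := by
      rw [← hPT] at hc
      exact ((T : Subgroup M).equivMapOfInjective _ M.subtype_injective).isCyclic.2 hc
    have h2 : IsCyclic (T' : Subgroup M) := (T'.equiv T).isCyclic.2 h1
    have h3 : IsCyclic ↥F := by
      haveI := h2
      exact ((Subgroup.subgroupOfEquivOfLe hFM).symm.trans
        (Subgroup.subgroupOfEquivOfLe hT').symm).isCyclic.2
          (inferInstance : IsCyclic ↥((F.subgroupOf M).subgroupOf (T' : Subgroup M)))
    exact BGUnique.not_isCyclic_of_sq_le hF hFc h3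
  obtain ⟨-, hb, -, -, -, A₁, hA₁A, hA₁c, hA₁f⟩ :=
    S1417.result hG M hM q htau A ⟨(hAP.trans hPU).trans hUM, hA, hAc⟩
  obtain ⟨hmem, hNP⟩ := (hb T).2 (by rw [hPT]; exact hAP)
  rw [hPT] at hmem hNP
  obtain ⟨a₁, ha₁, ha₁1⟩ := (Subgroup.bot_or_exists_ne_one A₁).resolve_left (fun h => by
    rw [h, Subgroup.card_bot] at hA₁c; exact hq.out.one_lt.ne hA₁c)
  by_cases hsp : ∃ v ∈ P, v ^ q ^ (a - 1) ∉ Subgroup.zpowers x
  · obtain ⟨v, hv, hvx⟩ := hsp
    have hord : ∀ v ∈ P, v ^ q ^ (a - 1) ∈ A := by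
      intro v hv
      refine (hmem _ (P.pow_mem hv _)).1 ?_
      rw [← pow_mul, ← pow_succ, show a - 1 + 1 = a by omega]
      refine orderOf_dvd_iff_pow_eq_one.1 ?_
      obtain ⟨k, hk⟩ := IsPGroup.iff_orderOf.1 hPp ⟨v, hv⟩
      rw [Subgroup.orderOf_mk] at hk
      rw [hk]
      refine pow_dvd_pow q ((Nat.Prime.pow_dvd_iff_le_factorization hq.out hN0).1 ?_)
      rw [← hk, ← Subgroup.orderOf_mk v (hPU hv)]
      exact Monoid.order_dvd_exponent _
    set B := Subgroup.closure ({x, v ^ q ^ (a - 1)} : Set G)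
    have hBA : B ≤ A := (Subgroup.closure_le _).2 (by
      rintro _ (rfl | rfl)
      · exact hord _ huP
      · exact hord _ hv)
    have hBeq : B = A := by
      obtain ⟨k, hk, hBc⟩ := (Nat.dvd_prime_pow hq.out).1 (hAc ▸ Subgroup.card_dvd_of_le hBA)
      refine Subgroup.eq_of_le_of_card_ge hBA ?_
      have hlt : Subgroup.zpowers x < B := lt_of_le_of_ne
        (Subgroup.zpowers_le.2 (Subgroup.subset_closure (Or.inl rfl)))
        fun h => hvx (h ▸ Subgroup.subset_closure (Or.inr rfl))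
      have h1 : q < q ^ k := by
        rw [← hBc, ← hxq, ← Nat.card_zpowers]
        exact lt_of_le_of_ne (Subgroup.card_le_of_le hlt.le) fun h =>
          hlt.ne (Subgroup.eq_of_le_of_card_ge hlt.le h.ge)
      have : k = 2 := by
        have h2 : 1 < k := (Nat.pow_lt_pow_iff_right hq.out.one_lt).1 (by rwa [pow_one])
        omega
      rw [hBc, hAc, this]
    obtain ⟨i, j, hij⟩ : ∃ i j : ℤ, x ^ i * (v ^ q ^ (a - 1)) ^ j = a₁ := by
      have hcomxv : Commute x (v ^ q ^ (a - 1)) := hcom hxU (U.pow_mem (hPU hv) _)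
      have hmem' : a₁ ∈ B := hBeq ▸ hA₁A ha₁
      refine Subgroup.closure_induction (p := fun z _ => ∃ i j : ℤ, x ^ i * (v ^ q ^ (a - 1)) ^ j = z)
        ?_ ⟨0, 0, by simp⟩ ?_ ?_ hmem'
      · rintro _ (rfl | rfl)
        · exact ⟨1, 0, by simp⟩
        · exact ⟨0, 1, by simp⟩
      · rintro _ _ - - ⟨i, j, rfl⟩ ⟨i', j', rfl⟩
        refine ⟨i + i', j + j', ?_⟩
        rw [zpow_add, zpow_add, mul_assoc, mul_assoc, ← mul_assoc (x ^ i'),
          (hcomxv.zpow_zpow i' j).eq, mul_assoc]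
      · rintro _ - ⟨i, j, rfl⟩
        exact ⟨-i, -j, by rw [zpow_neg, zpow_neg, mul_inv_rev, ← ((hcomxv.zpow_zpow i j).inv_inv).eq]⟩
    set w := (u₀ : G) ^ i * v ^ j
    have hwU : w ∈ U := U.mul_mem (U.zpow_mem u₀.2 _) (U.zpow_mem (hPU hv) _)
    have hwx : w ^ q ^ (a - 1) = a₁ := by
      rw [← hij, hx, Commute.mul_pow ((show Commute (u₀ : G) v from hcom u₀.2 (hPU hv)).zpow_zpow i j)]
      simp only [← zpow_natCast, ← zpow_mul, mul_comm i, mul_comm j]
    have hwa : orderOf w = q ^ a := by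
      have h1 : orderOf w ∣ q ^ a := by
        rw [orderOf_dvd_iff_pow_eq_one, show q ^ a = q ^ (a - 1) * q by
          rw [← pow_succ, show a - 1 + 1 = a by omega], pow_mul, hwx]
        exact hA.2 a₁ (hA₁A ha₁)
      obtain ⟨k, hk, hwk⟩ := (Nat.dvd_prime_pow hq.out).1 h1
      rcases Nat.lt_or_ge k a with hlt | hge
      · exfalso
        apply ha₁1
        rw [← hwx, ← orderOf_dvd_iff_pow_eq_one, hwk]
        exact pow_dvd_pow q (by omega)
      · rw [hwk, le_antisymm hk hge]
    refine ⟨w, hwU, hwa, fun z hz hwz => ?_⟩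
    rw [hwx] at hwz
    have h1 : Subgroup.zpowers a₁ = A₁ := Subgroup.eq_of_le_of_card_ge (Subgroup.zpowers_le.2 ha₁) (by
      rw [hA₁c, Nat.card_zpowers, orderOf_eq_prime (hA.2 a₁ (hA₁A ha₁)) ha₁1])
    refine Subgroup.mem_bot.1 (hA₁f ▸ ⟨hz, ?_⟩)
    show z ∈ Subgroup.centralizer (A₁ : Set G)
    rw [← h1, Subgroup.zpowers_eq_closure, Subgroup.centralizer_closure,
      Subgroup.mem_centralizer_iff]
    rintro _ rfl
    exact hwz
  · push Not at hsp
    exfalso
    apply hNP
    have hxne : x ≠ 1 := fun h => by rw [h, orderOf_one] at hxq; exact hq.out.one_lt.ne hxq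
    have hXne : Subgroup.zpowers x ≠ ⊥ := fun h => hxne (Subgroup.zpowers_eq_bot.1 h)
    obtain ⟨L, hL, hLN⟩ := BGUnique.exists_coatom_ge (BGSigma.normalizer_ne_top' hG hXne
      (fun h => hM.1 (top_le_iff.1 (h ▸ Subgroup.zpowers_le.2 (hUM hxU)))))
    obtain ⟨E, -, hE⟩ := BGFinal72.exists_complIn hσ.1 (BGFinal72.le_normalizer_sigmaCore M)
      (BGFinal72.coprime_relIndex_of_hall hσ)
    obtain ⟨-, huniq⟩ := (S1420.result hG M hM E hE).2.2.2 x (hUM hxU) hxne
      (fun p hp hd => by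
        rw [hxq] at hd
        exact (Nat.prime_dvd_prime_iff_eq hp hq.out).1 hd ▸ htau)
      ⟨hUM hxU, y, hy, hy1, hxy.eq⟩
    have hLM : L = M := huniq L hL (le_trans (by
      rw [← Subgroup.centralizer_closure, ← Subgroup.zpowers_eq_closure]
      exact Subgroup.centralizer_le_normalizer _) hLN)
    refine le_trans (fun g hg => ?_) (hLM ▸ hLN)
    have hgx : g * x * g⁻¹ ∈ Subgroup.zpowers x := by
      rw [hx, ← conj_pow]
      exact hsp _ ((Subgroup.mem_normalizer_iff.1 hg _).1 huP)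
    rw [Subgroup.mem_normalizer_iff_map_conj_eq, MonoidHom.map_zpowers]
    exact Subgroup.eq_of_le_of_card_ge (Subgroup.zpowers_le.2 hgx) (by
      rw [Nat.card_zpowers, Nat.card_zpowers]
      exact ((orderOf_injective _ (MulEquiv.injective (MulAut.conj g)) x)).ge)

/-- Let G be a minimal simple group of odd order and M a maximal subgroup with standard factorisation M = K U M_σ. Then U contains a subgroup U₀ with the same exponent as U such that no non-identity element of U₀ centralizes a non-identity element of M_σ. -/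
theorem result {G : Type*} [Group G] [Finite G] (hG : Cfsg.IsMinSimpleOddOrder G)
    (M : Subgroup G) (hM : IsCoatom M) (K U : Subgroup G) (hKU : Cfsg.IsSigmaDecomposition M K U) :
    ∃ U₀ : Subgroup G, U₀ ≤ U ∧ Monoid.exponent U₀ = Monoid.exponent U ∧ ∀ u ∈ U₀, u ∈ Cfsg.sigmaHat M → u = 1 := by
  classical
  have hσ := (S1350.result hG M hM).1
  by_cases hK : K = ⊥
  · have hE := BGFinal72.compl_of_K_bot hKU hK
    obtain ⟨-, E₀, hE₀, hexp, hfix⟩ := S1421.result hG M hM U hE fun e he he1 hπ => by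
      rw [Subgroup.eq_bot_iff_forall]
      intro y hy
      by_contra hy1
      have hey : e * y = y * e := Subgroup.mem_centralizer_iff.1 hy.2 e rfl
      obtain ⟨q, hq, hqd⟩ := Nat.exists_prime_and_dvd
        (show orderOf e ≠ 1 from fun h1 => he1 (orderOf_eq_one_iff.1 h1))
      obtain ⟨-, -, -, hr⟩ := BGFinal72.orderOf_tau2 hG hM hσ hKU he hy.1 hy1 hey q hq hqd
      rcases hπ q hq hqd with h | h
      · exact hr h.2.2.2.2
      · exact hr h.2.2.2
    refine ⟨E₀, hE₀, hexp, fun u hu ⟨_, y, hy, hy1, huy⟩ => ?_⟩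
    by_contra hu1
    refine hy1 (Subgroup.mem_bot.1 (hfix u hu hu1 ▸ ⟨hy, Subgroup.mem_centralizer_iff.2 ?_⟩))
    rintro _ rfl
    exact huy
  have hUc := BGFinal72.U_isMulCommutative hG hM hKU hK
  have hN0 : Monoid.exponent U ≠ 0 := Monoid.exponent_ne_zero_of_finite
  have hdvdU : ∀ q ∈ (Monoid.exponent U).primeFactors, q ∣ Nat.card U := fun q hq =>
    (Nat.dvd_of_mem_primeFactors hq).trans Group.exponent_dvd_nat_card
  choose f hfU hfo hff using fun q : (Monoid.exponent U).primeFactors =>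
    exists_good (q := (q : ℕ)) (hq := ⟨Nat.prime_of_mem_primeFactors q.2⟩) hG hM hKU hUc (hdvdU q q.2)
  set U₀ := Subgroup.closure (Set.range f) with hU₀
  have hU₀U : U₀ ≤ U := (Subgroup.closure_le _).2 (Set.range_subset_iff.2 hfU)
  refine ⟨U₀, hU₀U, Nat.dvd_antisymm ?_ ?_, fun z hz hzh => ?_⟩
  · exact Monoid.exponent_dvd_of_monoidHom _ (Subgroup.inclusion_injective hU₀U)
  · refine (Nat.factorization_prime_le_iff_dvd hN0 Monoid.exponent_ne_zero_of_finite).1 fun q hq => ?_
    by_cases hqm : q ∈ (Monoid.exponent U).primeFactors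
    · refine (Nat.Prime.pow_dvd_iff_le_factorization hq Monoid.exponent_ne_zero_of_finite).1 ?_
      rw [← hfo ⟨q, hqm⟩, ← Subgroup.orderOf_mk (H := U₀) (f ⟨q, hqm⟩) (Subgroup.subset_closure ⟨_, rfl⟩)]
      exact Monoid.order_dvd_exponent _
    · rw [Nat.factorization_eq_zero_of_not_dvd fun h =>
        hqm (Nat.mem_primeFactors.2 ⟨hq, h, hN0⟩)]
      exact Nat.zero_le _
  · obtain ⟨-, y, hy, hy1, hzy⟩ := hzh
    by_contra hz1
    obtain ⟨q, hq, hqd⟩ := Nat.exists_prime_and_dvd
      (show orderOf z ≠ 1 from fun h1 => hz1 (orderOf_eq_one_iff.1 h1))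
    set w := z ^ (orderOf z / q) with hw
    have hwq : orderOf w = q := orderOf_pow_orderOf_div (orderOf_pos z).ne' hqd
    have hwy : Commute w y := (show Commute z y from hzy).pow_left _
    have hwU₀ : w ∈ U₀ := U₀.pow_mem hz _
    have hqm : q ∈ (Monoid.exponent U).primeFactors := by
      refine Nat.mem_primeFactors.2 ⟨hq, ?_, hN0⟩
      rw [← hwq, ← Subgroup.orderOf_mk w (hU₀U hwU₀)]
      exact Monoid.order_dvd_exponent _
    set qq : (Monoid.exponent U).primeFactors := ⟨q, hqm⟩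
    set m := Monoid.exponent U / q ^ (Monoid.exponent U).factorization q with hm
    have hmem : ∀ s ∈ U₀, s ^ m ∈ Subgroup.zpowers (f qq) := by
      intro s hs
      refine Subgroup.closure_induction (p := fun s _ => s ^ m ∈ Subgroup.zpowers (f qq)) ?_
        (by simp) ?_ ?_ hs
      · rintro _ ⟨r, rfl⟩
        by_cases hr : r = qq
        · subst hr; exact Subgroup.pow_mem _ (Subgroup.mem_zpowers _) _
        · rw [orderOf_dvd_iff_pow_eq_one.1 (show orderOf (f r) ∣ m from ?_)]
          · exact one_mem _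
          rw [hfo r]
          refine (Nat.Coprime.dvd_of_dvd_mul_left ?_
            (show (r : ℕ) ^ (Monoid.exponent U).factorization r ∣
              q ^ (Monoid.exponent U).factorization q * m by
              rw [Nat.ordProj_mul_ordCompl_eq_self]; exact Nat.ordProj_dvd _ _))
          exact Nat.Coprime.pow _ _ ((Nat.coprime_primes (Nat.prime_of_mem_primeFactors r.2) hq).2
            fun h => hr (Subtype.ext h))
      · intro s t hs ht ihs iht
        rw [Commute.mul_pow (PGroupsBasic.comm_of_isMulCommutative hUc (hU₀U hs) (hU₀U ht))]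
        exact mul_mem ihs iht
      · intro s _ ihs
        rw [inv_pow]; exact inv_mem ihs
    obtain ⟨k, hk⟩ := exists_pow_eq_self_of_coprime (show m.Coprime (orderOf w) by
      rw [hwq]; exact (Nat.coprime_ordCompl hq hN0).symm)
    obtain ⟨i, hi⟩ : w ∈ Subgroup.zpowers (f qq) := hk ▸ Subgroup.pow_mem _ (hmem w hwU₀) k
    have hi' : f qq ^ i = w := hi
    set a := (Monoid.exponent U).factorization q
    have ha0 : 0 < a := hq.factorization_pos_of_dvd hN0 (Nat.dvd_of_mem_primeFactors hqm)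
    have hdiv : ((q ^ (a - 1) : ℕ) : ℤ) ∣ i := by
      have h1 : ((q ^ a : ℕ) : ℤ) ∣ i * q := by
        rw [← hfo qq, orderOf_dvd_iff_zpow_eq_one, zpow_mul, hi', zpow_natCast, ← hwq, pow_orderOf_eq_one]
      rw [show q ^ a = q ^ (a - 1) * q by rw [← pow_succ, show a - 1 + 1 = a by omega], Nat.cast_mul] at h1
      exact Int.dvd_of_mul_dvd_mul_right (by exact_mod_cast hq.ne_zero) h1
    obtain ⟨j, hj⟩ := hdiv
    have hwx : w ∈ Subgroup.zpowers (f qq ^ q ^ (a - 1)) := ⟨j, by
      show (f qq ^ q ^ (a - 1)) ^ j = w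
      rw [← hi', hj, zpow_mul, zpow_natCast]⟩
    have hxord : orderOf (f qq ^ q ^ (a - 1)) = q := by
      rw [orderOf_pow_of_dvd (pow_ne_zero _ hq.ne_zero) ((hfo qq).symm ▸ pow_dvd_pow q (Nat.sub_le a 1)),
        hfo qq, Nat.pow_div (Nat.sub_le a 1) hq.pos, show a - (a - 1) = 1 by omega, pow_one]
    have heq : Subgroup.zpowers w = Subgroup.zpowers (f qq ^ q ^ (a - 1)) :=
      Subgroup.eq_of_le_of_card_ge (Subgroup.zpowers_le.2 hwx) (by
        rw [Nat.card_zpowers, Nat.card_zpowers, hwq, hxord])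
    obtain ⟨l, hl⟩ : f qq ^ q ^ (a - 1) ∈ Subgroup.zpowers w := heq ▸ Subgroup.mem_zpowers _
    exact hy1 (hff qq y hy (hl ▸ hwy.zpow_left l))

end Cfsg.Agent.S1360
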