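import Cfsg.Statements.S1364
import Cfsg.Agent.Lib.BGTypePCyclic
import Cfsg.Agent.Lib.BGFcore72
-- import your own Cfsg.Agent.* helpers here

set_option autoImplicit false
open Cfsg

namespace Cfsg.Agent.S1364

open Subgroup
open scoped commutatorElement

/-- The derived subgroup of a group normalizing a cyclic group centralizes it. -/
theorem commutator_le_centralizer_cyclic {G : Type*} [Group G] {M N : Subgroup G} [IsCyclic N]
    (hn : M ≤ normalizer (N : Set G)) : ⁅M, M⁆ ≤ centralizer (N : Set G) := by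
  obtain ⟨⟨y, hy⟩, hgen⟩ := IsCyclic.exists_generator (α := N)
  have hz : ∀ x ∈ N, ∃ i : ℤ, y ^ i = x := fun x hx => by
    obtain ⟨i, hi⟩ := mem_zpowers_iff.1 (hgen ⟨x, hx⟩)
    exact ⟨i, congrArg Subtype.val hi⟩
  have hexp : ∀ a ∈ M, ∃ i : ℤ, a * y * a⁻¹ = y ^ i := fun a ha => by
    obtain ⟨i, hi⟩ := hz _ ((mem_normalizer_iff.1 (hn ha) y).1 hy)
    exact ⟨i, hi.symm⟩
  have hab : ∀ a ∈ M, ∀ b ∈ M, a * b * y * (a * b)⁻¹ = b * a * y * (b * a)⁻¹ := by
    intro a ha b hb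
    obtain ⟨i, hi⟩ := hexp a ha
    obtain ⟨j, hj⟩ := hexp b hb
    calc a * b * y * (a * b)⁻¹ = a * (b * y * b⁻¹) * a⁻¹ := by group
      _ = a * y ^ j * a⁻¹ := by rw [hj]
      _ = (a * y * a⁻¹) ^ j := (conj_zpow).symm
      _ = (b * y * b⁻¹) ^ i := by rw [hi, hj, ← zpow_mul, ← zpow_mul, mul_comm]
      _ = b * y ^ i * b⁻¹ := conj_zpow
      _ = b * (a * y * a⁻¹) * b⁻¹ := by rw [hi]
      _ = _ := by group
  rw [commutator_le]
  intro a ha b hb x hx
  obtain ⟨k, rfl⟩ := hz x hx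
  have h1 : ⁅a, b⁆ * y * ⁅a, b⁆⁻¹ = y := by
    calc ⁅a, b⁆ * y * ⁅a, b⁆⁻¹
        = a * b * (a⁻¹ * b⁻¹ * y * (a⁻¹ * b⁻¹)⁻¹) * (a * b)⁻¹ := by
          rw [commutatorElement_def]; group
      _ = a * b * (b⁻¹ * a⁻¹ * y * (b⁻¹ * a⁻¹)⁻¹) * (a * b)⁻¹ := by
          rw [hab a⁻¹ (inv_mem ha) b⁻¹ (inv_mem hb)]
      _ = y := by group
  exact ((show Commute ⁅a, b⁆ y from mul_inv_eq_iff_eq_mul.1 h1).zpow_right k).symm.eq

/-- Let G be a minimal simple group of odd order, M a maximal subgroup with standard factorisation M = K U M_σ and K ≠ 1, and put K* = M_σ ∩ C_G(K). Then K* is cyclic, nontrivial and contained in M_F, while M_F itself is not cyclic. -/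
theorem result {G : Type*} [Group G] [Finite G] (hG : Cfsg.IsMinSimpleOddOrder G)
    (M : Subgroup G) (hM : IsCoatom M) (K U : Subgroup G) (hKU : Cfsg.IsSigmaDecomposition M K U) (hK1 : K ≠ ⊥) :
    IsCyclic ↥(Cfsg.sigmaCore M ⊓ Subgroup.centralizer (K : Set G)) ∧ (Cfsg.sigmaCore M ⊓ Subgroup.centralizer (K : Set G)) ≠ ⊥ ∧ (Cfsg.sigmaCore M ⊓ Subgroup.centralizer (K : Set G)) ≤ Cfsg.fittingHallOf M ∧ ¬ IsCyclic (Cfsg.fittingHallOf M) := by
  have hP : BGTypeP.TypeP M K := ⟨hG, hM, hKU.hall, hK1⟩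
  have hne := hP.Ks_ne
  have hFS := BGFinal72.fittingHallOf_le_sigmaCore hG hM
  have hFM : M ≤ normalizer (Cfsg.fittingHallOf M : Set G) :=
    FittingHallBasic.le_normalizer_fittingHallOf M
  refine ⟨hP.Ks_cyclic, hne, ?_, ?_⟩
  · by_cases heq : Cfsg.fittingHallOf M = Cfsg.sigmaCore M
    · exact heq ▸ inf_le_left
    · exact (BGFcore72.kstar_le_Oc hG hM hKU heq).trans
        (BGFcore72.sylow_normal hG hM hKU heq rfl).2.1
  intro hcyc
  haveI := hcyc
  have hcF := commutator_le_centralizer_cyclic hFM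
  by_cases heq : Cfsg.fittingHallOf M = Cfsg.sigmaCore M
  · -- M' is abelian, while K* ≤ M''
    obtain ⟨hM', hKsM⟩ := S1365.result hG M hM K U hKU hK1
    rw [heq, hM'] at hcF
    have hUσ : U ≤ centralizer (Cfsg.sigmaCore M : Set G) := le_sup_left.trans hcF
    have hUU : U ≤ centralizer (U : Set G) := fun a ha b hb =>
      PGroupsBasic.comm_of_isMulCommutative (BGTypeP.U_comm hP hKU) hb ha
    have h0 : ⁅⁅M, M⁆, ⁅M, M⁆⁆ = ⊥ := by
      rw [hM', commutator_eq_bot_iff_le_centralizer]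
      refine sup_le ?_ ?_
      · exact le_centralizer_iff.1 (sup_le hUU (le_centralizer_iff.1 hUσ))
      · exact le_centralizer_iff.1 hcF
    exact hne (eq_bot_iff.2 (h0 ▸ hKsM))
  · -- M_σ = Q D with Q ≤ M_F, so M_σ is nilpotent
    obtain ⟨-, -, hS', hcompl, hq⟩ := BGFcore72.basics hG hM hKU heq
    obtain ⟨hNS, hNF, hrel, hD⟩ := BGFcore72.sylow_normal hG hM hKU heq rfl
    haveI := Fact.mk hq
    set q := Nat.card ↥(Cfsg.sigmaCore M ⊓ centralizer (K : Set G))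
    obtain ⟨i, hi⟩ := IsPGroup.iff_card.1 (BGFittingUnique.isPGroup_Oc q M)
    obtain ⟨D, hD', -⟩ := BGFinal72.exists_complIn hNS
      ((BGFinal72.sigmaCore_le M).trans (BGFittingUnique.le_normalizer_Oc q M)) (by
        rw [hi]; exact ((Nat.Prime.coprime_iff_not_dvd hq).2 hrel).pow_left i)
    refine BGFcore72.not_nilpotent hG hM heq (BGFcore72.nilpotent_of_commuting
      (BGFittingUnique.isPGroup_Oc q M).isNilpotent (hD D hD') (fun a ha b hb => ?_) hD'.2.2.2)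
    rw [← hS'] at hcF
    exact mem_centralizer_iff.1 (hcF (hD'.2.1 hb)) a (hNF ha)

end Cfsg.Agent.S1364
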