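import Cfsg.Statements.S1372
import Mathlib
import Cfsg.Agent.Lib.BGTypePTwo

set_option autoImplicit false
open Cfsg

namespace Cfsg.Agent.S1372

open scoped Pointwise commutatorElement



/-- Let G be a minimal simple group of odd order and M a maximal subgroup with standard factorisation M = K U M_σ, K ≠ 1 and U ≠ 1. Then K has prime order, and the Fitting subgroup F(M) contains M_σ and is a TI-subset of G. -/
theorem result {G : Type*} [Group G] [Finite G] (hG : Cfsg.IsMinSimpleOddOrder G)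
    (M : Subgroup G) (hM : IsCoatom M) (K U : Subgroup G) (hKU : Cfsg.IsSigmaDecomposition M K U) (hK1 : K ≠ ⊥) (hU1 : U ≠ ⊥) :
    (Nat.card K).Prime ∧ Cfsg.IsTISubset (Cfsg.fittingOf M : Set G) ∧ Cfsg.sigmaCore M ≤ Cfsg.fittingOf M := by
  have h : BGTypeP.TypeP M K := ⟨hG, hM, hKU.hall, hK1⟩
  obtain ⟨r, hr, hrd⟩ := Nat.exists_prime_and_dvd
    (n := Nat.card U) (fun e => hU1 (Subgroup.eq_bot_of_card_eq U e))
  haveI := Fact.mk hr
  obtain ⟨R, A, -, -, -, -, -, -, -, -, -, -, hnil, -⟩ := BGTypeP.exists_omega h hKU hrd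
  exact ⟨BGTypeP.card_K_prime h hKU hU1, BGTypeP.fittingOf_ti h hKU hU1,
    BGTypeP.sigmaCore_le_fitting hnil⟩

end Cfsg.Agent.S1372
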