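import Cfsg.Statements.S1456
import Cfsg.Agent.Lib.BGNarrowAction

set_option autoImplicit false
open Cfsg

namespace Cfsg.Agent.S1456

open Subgroup BGRankTwo

/-- Let G be a solvable group of odd order, p a prime, and E an elementary abelian p-subgroup of the Fitting subgroup F(G) such that F(G) ∩ C_G(E) has no elementary abelian subgroup of order q ^ 3 for any prime q. Then the derived subgroup of G is contained in F(G). -/
theorem result {G : Type*} [Group G] [Finite G] [Group.IsSolvable G] (hodd : Odd (Nat.card G)) (p : ℕ) [Fact p.Prime] (E : Subgroup G) (hE : E ≤ Cfsg.fittingSubgroup G) (hEe : Cfsg.IsElementaryAbelian p E)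
    (hr : Cfsg.RankLE 2 ↥(Cfsg.fittingSubgroup G ⊓ Subgroup.centralizer (E : Set G))) :
    commutator G ≤ Cfsg.fittingSubgroup G := by
  have hp : p.Prime := Fact.out
  refine commutator_le_fitting_of_centralize fun q hq y hy hcop => ?_
  haveI := Fact.mk hq
  haveI := HallCore.pCore_normal q G
  haveI := HallCore.pCore_normal p G
  set C := Cfsg.fittingSubgroup G ⊓ centralizer (E : Set G) with hC
  have hEp : E ≤ Cfsg.pCore p G := fun e he => by
    have hd : orderOf e ∣ p ^ 1 := orderOf_dvd_of_pow_eq_one (by rw [pow_one]; exact hEe.2 e he)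
    obtain ⟨i, -, hi⟩ := (Nat.dvd_prime_pow hp).1 hd
    exact mem_pCore_of_mem_fitting (hE he) hi
  by_cases hqp : q = p
  swap
  · refine commute_pCore_of_mem_commutator hodd hq ?_ hy hcop
    refine pRankLE_mono (le_inf (ComponentsFitting.pCore_le_fitting hq) fun x hx => ?_) (hr q hq)
    intro e he
    exact (Subgroup.commute_of_normal_of_disjoint _ _ inferInstance inferInstance
      (IsPGroup.disjoint_of_ne q p hqp _ _ (HallCore.isPGroup_pCore q G) (HallCore.isPGroup_pCore p G))
      x e hx (hEp he)).eq.symm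
  subst hqp
  set R := Cfsg.pCore q G with hR
  have hRF : R ≤ Cfsg.fittingSubgroup G := ComponentsFitting.pCore_le_fitting hq
  by_cases hcen : E ≤ centralizer (R : Set G)
  · refine commute_pCore_of_mem_commutator hodd hq ?_ hy hcop
    exact pRankLE_mono (show R ≤ C from le_inf hRF fun x hx e he => ((hcen he) x hx).symm) (hr q hq)
  obtain ⟨e, he, hne⟩ := SetLike.not_le_iff_exists.1 hcen
  have hq2 : q ≠ 2 := by
    rintro rfl
    have h1 : orderOf e ∣ 2 := orderOf_dvd_of_pow_eq_one (hEe.2 e he)
    rcases (Nat.dvd_prime Nat.prime_two).1 h1 with h | h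
    · exact hne (orderOf_eq_one_iff.1 h ▸ one_mem _)
    · exact Nat.not_even_iff_odd.2 hodd (even_iff_two_dvd.2 (h ▸ orderOf_dvd_natCard e))
  have he1 : (⟨e, hEp he⟩ : R) ≠ 1 := fun h => hne (by
    rw [show e = 1 from congrArg Subtype.val h]; exact one_mem _)
  have hRp := HallCore.isPGroup_pCore q G
  refine BGNarrowAction.commute_of_centralizer_rank hq2 hodd hRp (x := ⟨e, hEp he⟩)
    (Subtype.ext (by simpa using hEe.2 e he)) he1 ?_ hy hcop
  -- a central element of order `q`
  haveI : Nontrivial R := ⟨⟨_, _, he1⟩⟩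
  haveI := hRp.center_nontrivial
  obtain ⟨n, hn⟩ := IsPGroup.iff_card.1 (hRp.to_subgroup (center R))
  have hn0 : n ≠ 0 := by
    rintro rfl
    rw [pow_zero] at hn
    have : 1 < Nat.card (center R) := Finite.one_lt_card
    rw [hn] at this
    exact lt_irrefl _ this
  obtain ⟨z₀, hz₀⟩ := exists_prime_orderOf_dvd_card' (G := center R) q (hn ▸ dvd_pow_self q hn0)
  set z : G := ((z₀ : R) : G) with hz
  have hzR : z ∈ R := (z₀ : R).2
  have hzq : orderOf z = q := by rw [hz, Subgroup.orderOf_coe, Subgroup.orderOf_coe, hz₀]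
  have hzc : ∀ r ∈ R, Commute r z := fun r hr =>
    congrArg Subtype.val (mem_center_iff.1 z₀.2 ⟨r, hr⟩)
  set K := E ⊔ zpowers z with hK
  have hKe : Cfsg.IsElementaryAbelian q K := by
    refine PGroupsBasic.isElementaryAbelian_sup hEe
      (PGroupsBasic.isElementaryAbelian_zpowers (by rw [← hzq]; exact pow_orderOf_eq_one z)) ?_
    rintro x hx _ ⟨i, rfl⟩
    exact ((hzc x (hEp hx)).zpow_right i).eq.symm
  have hKC : K ≤ C := sup_le (le_inf hE (PGroupsBasic.le_centralizer_of_isMulCommutative hEe.1))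
    (zpowers_le.2 ⟨hRF hzR, fun x hx => (hzc x (hEp hx)).eq⟩)
  have hKcard : Nat.card K ≤ q ^ 2 := by
    rw [← Nat.card_congr (subgroupOfEquivOfLe hKC).toEquiv]
    exact hr q hq _ ⟨⟨fun u v => Subtype.ext (Subtype.ext
      (PGroupsBasic.comm_of_isMulCommutative hKe.1 u.2 v.2))⟩⟩
      fun u hu => Subtype.ext (by rw [SubgroupClass.coe_pow]; exact hKe.2 _ hu)
  -- `K = ⟨e, z⟩`
  set L := closure ({e, z} : Set G) with hL
  have hLK : L ≤ K := by
    rw [hL, closure_le]
    rintro x (rfl | rfl)
    · exact mem_sup_left he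
    · exact mem_sup_right (mem_zpowers z)
  have hlt : zpowers z < L := by
    refine lt_of_le_not_ge (zpowers_le.2 (subset_closure (by simp))) fun h => hne ?_
    obtain ⟨i, hi⟩ := mem_zpowers_iff.1 (h (subset_closure (by simp : e ∈ ({e, z} : Set G))))
    intro r hr'
    rw [← hi]
    exact ((hzc r hr').zpow_right i).eq
  have hEL : E ≤ L := by
    have hLR : L ≤ R := hLK.trans (sup_le hEp (zpowers_le.2 hzR))
    obtain ⟨j, hj⟩ := IsPGroup.iff_card.1 (hRp.to_le hLR)
    have h1 : q < Nat.card L := by
      rw [← hzq, ← Nat.card_zpowers]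
      exact lt_of_le_of_ne (card_le_of_le hlt.le) fun h => hlt.ne
        (eq_of_le_of_card_ge hlt.le h.ge)
    have h2 : q ^ 2 ≤ Nat.card L := by
      rw [hj] at h1 ⊢
      refine Nat.pow_le_pow_right hq.pos ?_
      by_contra h
      have : q ^ j ≤ q ^ 1 := Nat.pow_le_pow_right hq.pos (by omega)
      rw [pow_one] at this
      omega
    exact le_sup_left.trans (eq_of_le_of_card_ge hLK (hKcard.trans h2)).ge
  set D := centralizer ({⟨e, hEp he⟩} : Set R) with hD
  have hDC : D.map R.subtype ≤ C := by
    rintro _ ⟨r, hrc, rfl⟩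
    refine ⟨hRF r.2, fun x hx => ?_⟩
    have hle : L ≤ centralizer ({(r : G)} : Set G) := by
      rw [hL, closure_le]
      rintro w (rfl | rfl) <;> rw [SetLike.mem_coe, mem_centralizer_singleton_iff]
      · exact (congrArg Subtype.val (mem_centralizer_singleton_iff.1 hrc)).symm
      · exact (hzc r r.2).eq.symm
    exact mem_centralizer_singleton_iff.1 (hle (hEL hx))
  exact pRankLE_of_injective
    ((inclusion hDC).comp (D.equivMapOfInjective R.subtype R.subtype_injective).toMonoidHom)
    ((inclusion_injective hDC).comp (MulEquiv.injective _)) (hr q hq)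

end Cfsg.Agent.S1456
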