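import Cfsg.Statements.S1437
import Mathlib
import Cfsg.Agent.Lib.BGFcore72
import Cfsg.Agent.Lib.BGTypeBasic
import Cfsg.Agent.S1350
import Cfsg.Agent.S1430

set_option autoImplicit false
open Cfsg

namespace Cfsg.Agent.S1437

open scoped Pointwise

/-- Let G be a minimal simple group of odd order and M a maximal subgroup with standard factorisation M = K U M_σ such that M_F ≠ M_σ; put K* = M_σ ∩ C_G(K), p = #K, q = #K*. Then U = 1 and M_σ = M'; p and q are prime, q divides #M_F and q ∈ β(M); M_σ has a Sylow q-subgroup Q normal in M and contained in M_F; every complement D of Q in M_σ is nilpotent, and Q₀ = Q ∩ C_G(D) is normal in M; Q₀ < Q with #Q = #Q₀ · q ^ p, every element of Q has its q-th power and all its commutators with Q in Q₀, and every subgroup strictly between Q₀ and Q fails to be normal in M. -/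
theorem result {G : Type*} [Group G] [Finite G] (hG : Cfsg.IsMinSimpleOddOrder G)
    (M : Subgroup G) (hM : IsCoatom M) (K U : Subgroup G) (hKU : Cfsg.IsSigmaDecomposition M K U) (hne : Cfsg.fittingHallOf M ≠ Cfsg.sigmaCore M) :
    U = ⊥ ∧ Cfsg.sigmaCore M = ⁅M, M⁆ ∧ (Nat.card K).Prime ∧ (Nat.card ↥(Cfsg.sigmaCore M ⊓ Subgroup.centralizer (K : Set G))).Prime ∧
      Nat.card ↥(Cfsg.sigmaCore M ⊓ Subgroup.centralizer (K : Set G)) ∣ Nat.card (Cfsg.fittingHallOf M) ∧ Nat.card ↥(Cfsg.sigmaCore M ⊓ Subgroup.centralizer (K : Set G)) ∈ Cfsg.beta M ∧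
      ∃ Q : Subgroup G, Q ≤ Cfsg.fittingHallOf M ∧ M ≤ Subgroup.normalizer (Q : Set G) ∧ IsPGroup (Nat.card ↥(Cfsg.sigmaCore M ⊓ Subgroup.centralizer (K : Set G))) Q ∧
        ¬ Nat.card ↥(Cfsg.sigmaCore M ⊓ Subgroup.centralizer (K : Set G)) ∣ Q.relIndex (Cfsg.sigmaCore M) ∧
        ∀ D : Subgroup G, Cfsg.IsComplIn Q D (Cfsg.sigmaCore M) →
          Group.IsNilpotent D ∧ M ≤ Subgroup.normalizer ((Q ⊓ Subgroup.centralizer (D : Set G) : Subgroup G) : Set G) ∧
          Q ⊓ Subgroup.centralizer (D : Set G) < Q ∧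
          Nat.card Q = Nat.card ↥(Q ⊓ Subgroup.centralizer (D : Set G)) * Nat.card ↥(Cfsg.sigmaCore M ⊓ Subgroup.centralizer (K : Set G)) ^ Nat.card K ∧
          (∀ a ∈ Q, ∀ b ∈ Q, a ^ Nat.card ↥(Cfsg.sigmaCore M ⊓ Subgroup.centralizer (K : Set G)) ∈ Q ⊓ Subgroup.centralizer (D : Set G) ∧
            a * b * a⁻¹ * b⁻¹ ∈ Q ⊓ Subgroup.centralizer (D : Set G)) ∧
          ∀ N : Subgroup G, Q ⊓ Subgroup.centralizer (D : Set G) < N → N < Q → ¬ M ≤ Subgroup.normalizer (N : Set G) := by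
  obtain ⟨hU, hK1, hS', hcompl, hq⟩ := BGFcore72.basics hG hM hKU hne
  obtain ⟨hNS, hNF, hrel, hD⟩ := BGFcore72.sylow_normal hG hM hKU hne rfl
  have hβ := BGFcore72.q_mem_beta hG hM hKU hne rfl
  haveI := Fact.mk hq
  haveI := BGUnique.isSolvable_of_ne_top hG hM.1
  have hσ := (S1350.result hG M hM).1
  have hKsO := BGFcore72.kstar_le_Oc hG hM hKU hne
  set S := Cfsg.sigmaCore M with hS
  set q := Nat.card ↥(S ⊓ Subgroup.centralizer (K : Set G)) with hqdef
  set Q := BGFittingUnique.Oc q M with hQdef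
  have hSM : S ≤ M := BGFinal72.sigmaCore_le M
  have hQn : M ≤ Subgroup.normalizer (Q : Set G) := BGFittingUnique.le_normalizer_Oc q M
  have hQp : IsPGroup q Q := BGFittingUnique.isPGroup_Oc q M
  obtain ⟨i, hi⟩ := IsPGroup.iff_card.1 hQp
  have hcKS := BGFinal72.coprime_K_sigma hKU
  have hKQc : (Nat.card K).Coprime (Nat.card Q) :=
    hcKS.symm.coprime_dvd_right (Subgroup.card_dvd_of_le hNS)
  have hDQc : ∀ D : Subgroup G, Cfsg.IsComplIn Q D S → (Nat.card D).Coprime (Nat.card Q) := by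
    intro D hD'
    rw [hi, ← FittingHallBasic.card_compl_eq_relIndex hD']
    exact ((Nat.Prime.coprime_iff_not_dvd hq).2 hrel).symm.pow_right i
  have hstr : ∀ D : Subgroup G, Cfsg.IsComplIn Q D S → K ≤ Subgroup.normalizer (D : Set G) →
      (Nat.card K).Prime ∧
        M ≤ Subgroup.normalizer ((Q ⊓ Subgroup.centralizer (D : Set G) : Subgroup G) : Set G) ∧
        Q ⊓ Subgroup.centralizer (D : Set G) < Q ∧
        Nat.card Q = Nat.card ↥(Q ⊓ Subgroup.centralizer (D : Set G)) * q ^ Nat.card K ∧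
        (∀ a ∈ Q, ∀ b ∈ Q, a ^ q ∈ Q ⊓ Subgroup.centralizer (D : Set G) ∧
          a * b * a⁻¹ * b⁻¹ ∈ Q ⊓ Subgroup.centralizer (D : Set G)) ∧
        ∀ N : Subgroup G, Q ⊓ Subgroup.centralizer (D : Set G) < N → N < Q →
          ¬ M ≤ Subgroup.normalizer (N : Set G) := by
    intro D hD' hKD
    have hKs : Q ⊓ Subgroup.centralizer (K : Set G) = S ⊓ Subgroup.centralizer (K : Set G) :=
      le_antisymm (inf_le_inf_right _ hNS) (le_inf hKsO inf_le_right)
    refine BGFcoreAct72.complement_structure inferInstance (BGUnique.odd_card_subgroup hG M) hQp hQn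
      ?_ hKD (hDQc D hD') hKQc (hcKS.symm.coprime_dvd_right (Subgroup.card_dvd_of_le hD'.2.1)) hK1
      ?_ ?_ ?_ ?_
    · rw [BGTypeBasic.sup_eq_of_isComplIn hD', sup_comm, BGTypeBasic.sup_eq_of_isComplIn hcompl]
    · intro h
      exact BGFcore72.not_nilpotent hG hM hne (BGFcore72.nilpotent_of_commuting hQp.isNilpotent
        (hD D hD') (fun a ha b hb => Subgroup.mem_centralizer_iff.1 (h hb) a ha) hD'.2.2.2)
    · intro k hk hk1
      rw [Subgroup.eq_bot_iff_forall]
      intro d hd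
      have h1 : d ∈ S ⊓ Subgroup.centralizer ({k} : Set G) := ⟨hD'.2.1 hd.1, hd.2⟩
      rw [(S1430.result hG M hM K hKU.hall hK1).1 k hk hk1] at h1
      have h2 : d ∈ Q ⊓ D := ⟨hKsO h1, hd.1⟩
      rwa [hD'.2.2.1, Subgroup.mem_bot] at h2
    · intro k hk hk1
      rw [hKs]
      refine le_antisymm (le_trans (inf_le_inf_right _ hNS)
        ((S1430.result hG M hM K hKU.hall hK1).1 k hk hk1).le) ?_
      rw [← (S1430.result hG M hM K hKU.hall hK1).1 k hk hk1]
      exact le_inf ((hKsO.trans' ((S1430.result hG M hM K hKU.hall hK1).1 k hk hk1).le)) inf_le_right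
    · rw [hKs]
  obtain ⟨D₀, hD₀, -⟩ := BGFinal72.exists_complIn hNS (hSM.trans hQn) (by
    rw [hi]; exact ((Nat.Prime.coprime_iff_not_dvd hq).2 hrel).pow_left i)
  have hfixD : ∀ D : Subgroup G, Cfsg.IsComplIn Q D S →
      ∃ c ∈ Q, Cfsg.IsComplIn Q (MulAut.conj c • D) S ∧
        K ≤ Subgroup.normalizer ((MulAut.conj c • D : Subgroup G) : Set G) := by
    intro D hD'
    letI : MulAction G (Subgroup G) := MulAction.compHom _ (MulAut.conj : G →* MulAut G)
    have hfix : ∀ k ∈ K, Cfsg.IsComplIn Q (MulAut.conj k • D) S := by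
      intro k hk
      have hkM := hKU.hall.1 hk
      have h1 := BGTypeBasic.isComplIn_conj hD' k
      rwa [CoprimeSZ.conj_smul_eq_self (hQn hkM),
        CoprimeSZ.conj_smul_eq_self (BGFinal72.le_normalizer_sigmaCore M hkM)] at h1
    obtain ⟨c, hc, hcf⟩ := CoprimeAction.exists_fixed_point (A := K) (K := Q)
      (hcompl.1.trans hQn) hKQc (Or.inr (CoprimeAction.isSolvable_of_isPGroup hQp)) D fun k hk =>
        BGTypeBasic.isComplIn_conjugate (hSM.trans hQn) (hDQc D hD').symm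
          (Or.inr (CoprimeAction.isSolvable_of_isPGroup hQp)) hD' (hfix k hk)
    refine ⟨c, hc, ?_, fun k hk => CoprimeAction.mem_normalizer_of_conj_smul_eq (hcf k hk)⟩
    have h1 := BGTypeBasic.isComplIn_conj hD' c
    rwa [CoprimeSZ.conj_smul_eq_self (Subgroup.le_normalizer hc),
      CoprimeSZ.conj_smul_eq_self (Subgroup.le_normalizer (hNS hc))] at h1
  obtain ⟨c₀, -, hD₁, hKD₁⟩ := hfixD D₀ hD₀
  refine ⟨hU, hS', (hstr _ hD₁ hKD₁).1, hq,
    Subgroup.card_dvd_of_le (hKsO.trans hNF), hβ, Q, hNF, hQn, hQp, hrel, fun D hD' => ?_⟩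
  obtain ⟨c, hc, hDc, hKDc⟩ := hfixD D hD'
  obtain ⟨-, hn, hlt, hcard, hpow, hchief⟩ := hstr _ hDc hKDc
  have heq : Q ⊓ Subgroup.centralizer ((MulAut.conj c • D : Subgroup G) : Set G) =
      Q ⊓ Subgroup.centralizer (D : Set G) := by
    have h1 : MulAut.conj c • (Q ⊓ Subgroup.centralizer (D : Set G)) =
        Q ⊓ Subgroup.centralizer ((MulAut.conj c • D : Subgroup G) : Set G) := by
      rw [Subgroup.smul_inf, CoprimeSZ.conj_smul_eq_self (Subgroup.le_normalizer hc),
        ← BGTypeBasic.conj_smul_centralizer]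
      rfl
    rw [← h1]
    refine MulAction.injective (MulAut.conj c) ?_
    show MulAut.conj c • MulAut.conj c • _ = MulAut.conj c • _
    conv_rhs => rw [h1]
    rw [h1]
    exact CoprimeSZ.conj_smul_eq_self (hn (hSM (hNS hc)))
  rw [heq] at hn hlt hcard hpow hchief
  exact ⟨hD D hD', hn, hlt, hcard, hpow, hchief⟩

end Cfsg.Agent.S1437
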