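import Cfsg.Statements.S1357
import Mathlib
import Cfsg.Agent.Lib.BGFinalBasic72
import Cfsg.Agent.Lib.BGFittingUnique
import Cfsg.Agent.S1350
import Cfsg.Agent.S1437
import Cfsg.Agent.Lib.BGNonTI

set_option autoImplicit false
open Cfsg

namespace Cfsg.Agent.S1357

/-- Let G be a minimal simple group of odd order and M a maximal subgroup with standard factorisation M = K U M_σ. If M_F ≠ M_σ then U = 1, the Fitting subgroup F(M) meets its conjugates by elements outside its normalizer trivially, and K has prime order. -/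
theorem result {G : Type*} [Group G] [Finite G] (hG : Cfsg.IsMinSimpleOddOrder G)
    (M : Subgroup G) (hM : IsCoatom M) (K U : Subgroup G) (hKU : Cfsg.IsSigmaDecomposition M K U) (hne : Cfsg.fittingHallOf M ≠ Cfsg.sigmaCore M) :
    U = ⊥ ∧ Cfsg.IsTISubset (Cfsg.fittingOf M : Set G) ∧ (Nat.card K).Prime := by
  obtain ⟨hU, hσ', hK, -⟩ := S1437.result hG M hM K U hKU hne
  refine ⟨hU, fun g hg x hx hgx => ?_, hK⟩
  by_contra hx1
  by_cases hgM : g ∈ M
  · exact hg ((BGFittingUnique.normalizer_le_fittingOf M) (Subgroup.le_normalizer hgM))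
  have hgi : g⁻¹ ∉ M := fun h => hgM (inv_inv g ▸ M.inv_mem h)
  have hX : Cfsg.fittingOf M ⊓ (Cfsg.fittingOf M).map (MulAut.conj g⁻¹).toMonoidHom ≠ ⊥ := by
    intro h
    refine hx1 (Subgroup.mem_bot.1 (h ▸ ⟨hx, g * x * g⁻¹, hgx, ?_⟩))
    show g⁻¹ * (g * x * g⁻¹) * g⁻¹⁻¹ = x
    group
  obtain ⟨-, ⟨hF, -⟩, -⟩ := BGNonTI.nonTI_structure hG M hM K U hKU g⁻¹ hgi hX
  refine hne (le_antisymm (BGFinal72.fittingHallOf_le_sigmaCore hG hM) ?_)
  have hσM := BGFinal72.sigmaCore_le M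
  haveI : ((Cfsg.sigmaCore M).subgroupOf M).Normal :=
    Subgroup.normal_subgroupOf_of_le_normalizer (BGFinal72.le_normalizer_sigmaCore M)
  have hnil : Group.IsNilpotent ↥(Cfsg.sigmaCore M) := by
    have hle : Cfsg.sigmaCore M ≤ Cfsg.fittingOf M := hσ'.le.trans hF
    haveI := FittingHallBasic.fittingOf_isNilpotent M
    exact Group.nilpotent_of_mulEquiv (Subgroup.subgroupOfEquivOfLe hle)
  haveI : Group.IsNilpotent ↥((Cfsg.sigmaCore M).subgroupOf M) :=
    Group.nilpotent_of_mulEquiv (Subgroup.subgroupOfEquivOfLe hσM).symm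
  have hH := (S1350.result hG M hM).1
  have hle := FittingHallBasic.le_fittingHall (N := (Cfsg.sigmaCore M).subgroupOf M) inferInstance
    inferInstance (by
      rw [Nat.card_congr (Subgroup.subgroupOfEquivOfLe hσM).toEquiv]
      exact Nat.coprime_of_dvd fun q hq h1 h2 => hH.2.2 q hq (hH.2.1 q hq h1) h2)
  intro y hy
  exact ⟨⟨y, hσM hy⟩, hle (show (⟨y, hσM hy⟩ : M) ∈ (Cfsg.sigmaCore M).subgroupOf M from hy), rfl⟩

end Cfsg.Agent.S1357
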