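import Cfsg.Statements.S1514
import Cfsg.Agent.Lib.CoherenceBasic

set_option autoImplicit false
open Cfsg

namespace Cfsg.Agent.S1514

open Cfsg.Agent.CoherenceBasic Cfsg.Agent.CharBasicOrth Cfsg.Agent.CharBasicDecomp Cfsg.Agent.CharBasic

theorem coherence_system_of_irr {L : Type*} [Group L] [Fintype L] {G : Type*} [Group G] [Fintype G]
    {S : Set (L → ℂ)} (hS : S.Nonempty) (hirr : ∀ χ ∈ S, Cfsg.IsIrrCharacter L χ)
    (hconj : ∀ χ ∈ S, Cfsg.conjFun χ ∈ S ∧ Cfsg.conjFun χ ≠ χ) {τ : (L → ℂ) → (G → ℂ)}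
    (hτ : Cfsg.IsLinearIsometryOn (Cfsg.zspanOn S {1}ᶜ) τ) (hτ1 : ∀ α ∈ Cfsg.zspanOn S {1}ᶜ, τ α 1 = 0) :
    ∃ R : (L → ℂ) → Finset (G → ℂ), Cfsg.IsCoherenceSystem S τ R := by
  classical
  have hmem : ∀ χ ∈ S, χ - Cfsg.conjFun χ ∈ Cfsg.zspanOn S {1}ᶜ := fun χ hχ =>
    mem_zspanOn_one (zspan_sub (subset_zspan hχ) (subset_zspan (hconj χ hχ).1))
      (by simp [conjFun_apply_one (isCharacter_of_isIrrCharacter (hirr χ hχ))])
  have horth : ∀ χ ∈ S, ∀ φ ∈ S, χ ≠ φ → Cfsg.classInner χ φ = 0 := fun χ hχ φ hφ h =>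
    classInner_irr_ne (hirr χ hχ) (hirr φ hφ) h
  have hn2 : ∀ χ ∈ S, Cfsg.classInner (τ (χ - Cfsg.conjFun χ)) (τ (χ - Cfsg.conjFun χ)) = 2 := by
    intro χ hχ
    rw [hτ.2.2.1 _ (hmem χ hχ) _ (hmem χ hχ)]
    have hc := (hconj χ hχ)
    simp [classInner_sub_left, classInner_sub_right, classInner_irr_self (hirr χ hχ),
      classInner_irr_self (hirr _ hc.1), horth χ hχ _ hc.1 (Ne.symm hc.2), horth _ hc.1 χ hχ hc.2]
    norm_num
  choose! a b ha hb hab hsum using fun χ (hχ : χ ∈ S) =>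
    si_sum_of_norm_two (hτ.2.2.2 _ (hmem χ hχ)) (hn2 χ hχ)
  have hne : ∀ χ ∈ S, a χ ≠ b χ := fun χ hχ h => by
    have h2 := hab χ hχ
    rw [← h, si_self (ha χ hχ)] at h2
    exact one_ne_zero h2
  have hba : ∀ χ ∈ S, Cfsg.classInner (b χ) (a χ) = 0 := fun χ hχ => by
    rw [← conj_classInner, hab χ hχ, map_zero]
  refine ⟨fun χ => {a χ, b χ}, ⟨hS, fun χ hχ => isCharacter_of_isIrrCharacter (hirr χ hχ),
    fun χ hχ => (hconj χ hχ).1, fun χ hχ => (hconj χ hχ).2, hτ, hτ1, horth, ?_, ?_, ?_, ?_⟩⟩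
  · intro χ hχ x hx y hy
    simp only [Finset.mem_insert, Finset.mem_singleton] at hx hy
    rcases hx with rfl | rfl <;> rcases hy with rfl | rfl <;>
      simp [si_self (ha χ hχ), si_self (hb χ hχ), hab χ hχ, hba χ hχ, hne χ hχ, Ne.symm (hne χ hχ)]
  · intro χ hχ x hx
    simp only [Finset.mem_insert, Finset.mem_singleton] at hx
    rcases hx with rfl | rfl
    · exact si_gen (ha χ hχ)
    · exact si_gen (hb χ hχ)
  · intro χ hχ
    rw [hsum χ hχ, Finset.sum_pair (hne χ hχ)]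
  · intro χ hχ φ hφ h1 h2
    have h3 : Cfsg.classInner (Cfsg.conjFun φ) χ = 0 := by
      have := classInner_conjFun φ (Cfsg.conjFun χ)
      rwa [conjFun_conjFun, h2, map_zero] at this
    have h4 : Cfsg.classInner (Cfsg.conjFun φ) (Cfsg.conjFun χ) = 0 := by
      rw [classInner_conjFun, h1, map_zero]
    have hz : Cfsg.classInner (τ (φ - Cfsg.conjFun φ)) (τ (χ - Cfsg.conjFun χ)) = 0 := by
      rw [hτ.2.2.1 _ (hmem φ hφ) _ (hmem χ hχ)]
      simp [classInner_sub_left, classInner_sub_right, h1, h2, h3, h4]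
    rw [hsum φ hφ, hsum χ hχ] at hz
    have hd : ∀ χ ∈ S, a χ 1 = -(b χ 1) := fun χ hχ => by
      have := hτ1 _ (hmem χ hχ)
      rw [hsum χ hχ] at this
      exact eq_neg_of_add_eq_zero_left this
    have hneg : ∀ {x : G → ℂ}, SignedIrr x → SignedIrr (-x) := fun {x} h => by
      rcases h with h | h
      · exact Or.inr (by simpa using h)
      · exact Or.inl h
    obtain ⟨e1, e2, e3, e4⟩ := four_si (ha φ hφ) (hneg (hb φ hφ)) (ha χ hχ) (hneg (hb χ hχ))
      (one_ne_zero : (1 : ℝ) ≠ 0) (one_ne_zero : (1 : ℝ) ≠ 0) (one_ne_zero : (1 : ℝ) ≠ 0)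
      (one_ne_zero : (1 : ℝ) ≠ 0) (by simp [classInner_neg_right, hab φ hφ])
      (by simp [classInner_neg_right, hab χ hχ]) (by simpa using hz) (by simpa using hd φ hφ)
      (by simpa using hd χ hχ)
    simp only [classInner_neg_left, classInner_neg_right, neg_neg, neg_eq_zero] at e2 e3 e4
    intro x hx y hy
    simp only [Finset.mem_insert, Finset.mem_singleton] at hx hy
    rcases hx with rfl | rfl <;> rcases hy with rfl | rfl <;> assumption


/-- Let S be a nonempty set of irreducible characters of the finite group L, closed under complex conjugation and containing no real-valued member, and τ a linear isometry on the integer combinations of S vanishing at 1, with values virtual characters of G vanishing at 1. Then there is a choice R making (S, τ, R) a coherence system. -/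
theorem result {L : Type*} [Group L] [Fintype L] {G : Type*} [Group G] [Fintype G] (S : Set (L → ℂ)) (hS : S.Nonempty) (hirr : ∀ χ ∈ S, Cfsg.IsIrrCharacter L χ) (hconj : ∀ χ ∈ S, Cfsg.conjFun χ ∈ S ∧ Cfsg.conjFun χ ≠ χ) (τ : (L → ℂ) → (G → ℂ)) (hτ : Cfsg.IsLinearIsometryOn (Cfsg.zspanOn S {1}ᶜ) τ) (hτ1 : ∀ α ∈ Cfsg.zspanOn S {1}ᶜ, τ α 1 = 0) : ∃ R : (L → ℂ) → Finset (G → ℂ), Cfsg.IsCoherenceSystem S τ R := by
  exact coherence_system_of_irr hS hirr hconj hτ hτ1

end Cfsg.Agent.S1514
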