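import Cfsg.Statements.S0867
import Mathlib
import Cfsg.Agent.Lib.CharExtension

set_option autoImplicit false
open Cfsg

namespace Cfsg.Agent.S0867

/-- Let N be a normal subgroup of the finite group G and ϑ an irreducible character of N of degree d, invariant under conjugation by G, such that the index of N is coprime to the product of d and the determinantal order of ϑ. Then there is an irreducible character χ of G restricting to ϑ whose determinantal order equals that of ϑ, and χ is the only irreducible character of G restricting to ϑ whose determinantal order is coprime to the index of N. -/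
theorem result {G : Type*} [Group G] [Finite G] (N : Subgroup G) [hN : N.Normal] (ϑ : N → ℂ) (hϑ : Cfsg.IsIrrCharacter N ϑ) (hinv : ∀ (g : G) (n : N), ϑ ⟨g * n * g⁻¹, hN.conj_mem (n : G) n.2 g⟩ = ϑ n) (d : ℕ) (hd : ϑ 1 = d) (hcop : Nat.Coprime N.index (Cfsg.detOrder ϑ * d)) : ∃ χ : G → ℂ, (Cfsg.IsIrrCharacter G χ ∧ (∀ n : N, χ n = ϑ n) ∧ Cfsg.detOrder χ = Cfsg.detOrder ϑ) ∧ ∀ χ' : G → ℂ, Cfsg.IsIrrCharacter G χ' → (∀ n : N, χ' n = ϑ n) → Nat.Coprime N.index (Cfsg.detOrder χ') → χ' = χ := by
  classical
  obtain ⟨d', ρ, hdpos, hd1, hch, S, hi, hirr⟩ := CharExtension.exists_setup hϑ hinv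
  obtain rfl : d' = d := by exact_mod_cast hd1.symm.trans hd
  subst hch
  have hdc : Cfsg.detChar (CharExtension.chr ρ) = fun n => ((((CharExtension.detU d').comp ρ) n : ℂˣ) : ℂ) :=
    funext fun n => CharExtension.detChar_chr ρ n
  rw [Cfsg.detOrder, hdc, CharExtension.orderOf_coe] at hcop
  obtain ⟨μ, hμ, hord, huniq⟩ := CharExtension.linear_ext_coprime ((CharExtension.detU d').comp ρ)
    (fun g n => by
      obtain ⟨u, hu⟩ := hi g
      simp only [MonoidHom.comp_apply, ← hu n, map_mul, map_inv]
      rw [mul_comm, inv_mul_cancel_left]) hcop.coprime_mul_right_right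
  obtain ⟨η, hη, hdet⟩ := CharExtension.exists_ext_det S hi (CharExtension.detU d') d'
    (CharExtension.detU_scal d') (fun a => CharExtension.exists_root d' a hdpos)
    hcop.coprime_mul_left_right μ hμ
  obtain ⟨h1, h2⟩ := CharExtension.ext_to_char_top hirr η hη
  have hgen : ∀ η' : G →* CharExtension.GU' d', Cfsg.detOrder (CharExtension.chr η') = orderOf ((CharExtension.detU d').comp η') := by
    intro η'
    rw [Cfsg.detOrder, show Cfsg.detChar (CharExtension.chr η') =
      fun g => ((((CharExtension.detU d').comp η') g : ℂˣ) : ℂ) from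
      funext fun g => CharExtension.detChar_chr η' g, CharExtension.orderOf_coe]
  refine ⟨CharExtension.chr η, ⟨h1, h2, ?_⟩, ?_⟩
  · rw [hgen, Cfsg.detOrder, hdc, CharExtension.orderOf_coe,
      show (CharExtension.detU d').comp η = μ from MonoidHom.ext hdet, hord]
  · intro χ hχ hres hc
    obtain ⟨η', rfl, hη'⟩ := CharExtension.char_to_ext N.subtype ρ
      (CharBasic.isCharacter_of_isIrrCharacter hχ) hres
    rw [hgen] at hc
    have := huniq ((CharExtension.detU d').comp η')
      (fun n => by simp [show η' n = ρ n from hη' n]) hc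
    rw [CharExtension.ext_eq_of_det S (CharExtension.detU d') d' (CharExtension.detU_scal d')
      hcop.coprime_mul_left_right hη' hη (fun g => by rw [hdet, ← this]; rfl)]

end Cfsg.Agent.S0867
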