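import Cfsg.Statements.S1512
import Cfsg.Agent.Lib.OddCharGroup

set_option autoImplicit false
open Cfsg

namespace Cfsg.Agent.S1512

/-- Let K be a normal subgroup of the finite group L and x a non-identity element whose order is coprime to the order of K, such that K ⊓ C_L(y) = W₂ for every non-identity element y of the cyclic group generated by x. Then the number of conjugacy classes of K mapped to themselves by conjugation by x is at most Nat.card W₂. -/
theorem result {L : Type*} [Group L] [Finite L] (K W₂ : Subgroup L) [hK : K.Normal] (x : L) (hx1 : x ≠ 1) (hx : Nat.Coprime (orderOf x) (Nat.card K)) (hC : ∀ y ∈ Subgroup.zpowers x, y ≠ 1 → K ⊓ Subgroup.centralizer ({y} : Set L) = W₂) : Nat.card {C : ConjClasses K // ConjClasses.map (MulEquiv.toMonoidHom ((MulAut.conjNormal x : MulAut K))) C = C} ≤ Nat.card W₂ := by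
  classical
  have hfix : ∀ k : K, k.1 ∈ W₂ → MulAut.conjNormal x k = k := by
    intro k hk
    rw [← hC x (Subgroup.mem_zpowers x) hx1] at hk
    apply Subtype.ext
    rw [MulAut.conjNormal_apply]
    have := Subgroup.mem_centralizer_singleton_iff.mp hk.2
    rw [← this, mul_inv_cancel_right]
  have hW : ∀ w : W₂, (w : L) ∈ K := fun w => by
    have h : (w : L) ∈ K ⊓ Subgroup.centralizer ({x} : Set L) := by
      rw [hC x (Subgroup.mem_zpowers x) hx1]; exact w.2
    exact h.1
  refine Nat.card_le_card_of_surjective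
    (fun w : W₂ => (⟨ConjClasses.mk (⟨w, hW w⟩ : K), ?_⟩ :
      {C : ConjClasses K // ConjClasses.map (MulEquiv.toMonoidHom ((MulAut.conjNormal x : MulAut K))) C = C})) ?_
  · exact congrArg ConjClasses.mk (hfix ⟨w, hW w⟩ w.2)
  · rintro ⟨C, hCfix⟩
    induction C using Quotient.inductionOn with
    | _ k =>
      have h1 : ConjClasses.mk (MulAut.conjNormal x k) = ConjClasses.mk k := hCfix
      obtain ⟨a, ha⟩ := isConj_iff.mp (ConjClasses.mk_eq_mk_iff_isConj.mp h1)
      have ha' : (a : L) * (x * k * x⁻¹) * (a : L)⁻¹ = k := by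
        simpa [MulAut.conjNormal_apply] using congrArg Subtype.val ha
      have hxN : x ∈ Subgroup.normalizer (K : Set L) := by
        rw [Subgroup.normalizer_eq_top]; exact Subgroup.mem_top x
      obtain ⟨y, hy, c, hc, hcx, hyc⟩ :=
        Cfsg.Agent.OddCharGroup.coset_conj K x hxN hx a a.2
      have hk : ((a : L) * x) * k = k * ((a : L) * x) := by
        have h2 : ((a : L) * x) * k * ((a : L) * x)⁻¹ = k := by
          rw [mul_inv_rev]; simpa [mul_assoc] using ha'
        exact mul_inv_eq_iff_eq_mul.mp h2
      set k' : L := y * k * y⁻¹ with hk'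
      have hck : Commute (c * x) k' := by
        rw [← hyc, hk']
        exact (show Commute ((a : L) * x) k from hk).map (MulAut.conj y).toMonoidHom
      obtain ⟨m, hm1, hm2⟩ := Cfsg.Agent.OddCharGroup.exists_exponent hx
      have hxk : Commute x k' := by
        have := hck.pow_left m
        rwa [Cfsg.Agent.OddCharGroup.mul_pow_exponent hcx hm1
          ((Subgroup.orderOf_dvd_natCard K hc).trans hm2)] at this
      have hk'K : k' ∈ K := hK.conj_mem _ k.2 y
      have hk'W : k' ∈ W₂ := by
        rw [← hC x (Subgroup.mem_zpowers x) hx1]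
        exact ⟨hk'K, Subgroup.mem_centralizer_singleton_iff.mpr hxk.eq.symm⟩
      refine ⟨⟨k', hk'W⟩, Subtype.ext ?_⟩
      exact ConjClasses.mk_eq_mk_iff_isConj.mpr (IsConj.symm (isConj_iff.mpr ⟨⟨y, hy⟩, Subtype.ext rfl⟩))

end Cfsg.Agent.S1512
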