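import Cfsg.Statements.S1513
import Cfsg.Agent.S1512
import Cfsg.Agent.S0867
import Cfsg.Agent.Lib.CharBasicPerm
import Cfsg.Agent.Lib.CharInducedAbelianQuot

set_option autoImplicit false
open Cfsg

namespace Cfsg.Agent.S1513

open scoped ComplexConjugate
open Cfsg.Agent.CharBasic Cfsg.Agent.CharBasicOrth Cfsg.Agent.CharBasicDecomp Cfsg.Agent.CharInduced

universe u

theorem aux {L : Type u} [Group L] [Fintype L] (K W₁ W₂ : Subgroup L) [hK : K.Normal]
    (hKW₁ : K ⊓ W₁ = ⊥) (hKW₁' : K ⊔ W₁ = ⊤) (hW₁ : W₁ ≠ ⊥) (hW₁c : IsCyclic W₁)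
    (hHall : Nat.Coprime (Nat.card W₁) W₁.index) (hW₂c : IsCyclic W₂) (hW₂K : W₂ ≤ K)
    (hC : ∀ x ∈ W₁, x ≠ 1 → K ⊓ Subgroup.centralizer ({x} : Set L) = W₂) :
    (∀ θ : K → ℂ, Cfsg.IsIrrCharacter K θ → (∃ x ∈ W₁, (fun k : K => θ ⟨x * k * x⁻¹, hK.conj_mem (k : L) k.2 x⟩) ≠ θ) → Cfsg.IsIrrCharacter L (Cfsg.indFun K θ)) ∧ Nat.card {θ : Cfsg.IrrCharacter K // ∀ x ∈ W₁, (fun k : K => (θ : K → ℂ) ⟨x * k * x⁻¹, hK.conj_mem (k : L) k.2 x⟩) = θ} = Nat.card W₂ ∧ (∀ θ : K → ℂ, Cfsg.IsIrrCharacter K θ → (∀ x ∈ W₁, (fun k : K => θ ⟨x * k * x⁻¹, hK.conj_mem (k : L) k.2 x⟩) = θ) → ∃ C : Finset (L → ℂ), C.card = Nat.card W₁ ∧ (∀ μ ∈ C, Cfsg.IsIrrCharacter L μ) ∧ Cfsg.indFun K θ = ∑ μ ∈ C, μ) := by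
  classical
  have : Fintype K := Fintype.ofFinite K
  have hcompl : Subgroup.IsComplement' K W₁ :=
    Subgroup.isComplement'_of_disjoint_and_mul_eq_univ (disjoint_iff.2 hKW₁) (by
      rw [← Subgroup.normal_mul K W₁, hKW₁', Subgroup.coe_top])
  have hidxW : W₁.index = Nat.card K := hcompl.index_eq_card
  have hidxK : K.index = Nat.card W₁ := by
    have h1 := K.card_mul_index
    rw [← W₁.index_mul_card, hidxW] at h1
    exact Nat.eq_of_mul_eq_mul_left Nat.card_pos h1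
  rw [hidxW] at hHall
  have hdecomp : ∀ g : L, ∃ k ∈ K, ∃ w ∈ W₁, k * w = g := fun g =>
    Subgroup.mem_sup_of_normal_left.1 (hKW₁' ▸ Subgroup.mem_top g)
  have hcomm₂ : ∀ a ∈ W₂, ∀ b ∈ W₂, a * b = b * a := fun a ha b hb => by
    letI := hW₂c.commGroup
    exact congrArg Subtype.val (mul_comm (⟨a, ha⟩ : W₂) ⟨b, hb⟩)
  have hfixW : ∀ y ∈ W₁, ∀ w ∈ W₂, y * w * y⁻¹ = w := by
    intro y hy w hw
    by_cases hy1 : y = 1
    · simp [hy1]
    rw [← hC y hy hy1] at hw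
    rw [← Subgroup.mem_centralizer_singleton_iff.1 hw.2, mul_inv_cancel_right]
  -- fusion in `K` of elements of `W₂`
  have hfus : ∀ w ∈ W₂, ∀ w' ∈ W₂, ∀ k ∈ K, k * w * k⁻¹ = w' → w = w' := by
    intro w hw w' hw' k hk he
    obtain ⟨x, hx, hx1⟩ := W₁.bot_or_exists_ne_one.resolve_left hW₁
    have hxc : (orderOf x).Coprime (Nat.card K) :=
      Nat.Coprime.coprime_dvd_left (W₁.orderOf_dvd_natCard hx) hHall
    let H : Subgroup L := K ⊓ Subgroup.centralizer ({w} : Set L)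
    have hxH : x ∈ Subgroup.normalizer (H : Set L) := by
      rw [Subgroup.mem_normalizer_iff]
      intro n
      have h0 : x * n * x⁻¹ ∈ K ↔ n ∈ K :=
        ⟨fun h => by simpa [mul_assoc] using hK.conj_mem _ h x⁻¹, fun h => hK.conj_mem n h x⟩
      have hxw := hfixW x hx w hw
      simp only [H, Subgroup.mem_inf, h0, Subgroup.mem_centralizer_singleton_iff]
      refine and_congr_right fun _ => ⟨fun h => ?_, fun h => ?_⟩
      · calc x * n * x⁻¹ * w = x * n * x⁻¹ * (x * w * x⁻¹) := by rw [hxw]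
          _ = x * (n * w) * x⁻¹ := by group
          _ = x * (w * n) * x⁻¹ := by rw [h]
          _ = (x * w * x⁻¹) * (x * n * x⁻¹) := by group
          _ = w * (x * n * x⁻¹) := by rw [hxw]
      · have h' : x * (n * w) * x⁻¹ = x * (w * n) * x⁻¹ := by
          calc x * (n * w) * x⁻¹ = x * n * x⁻¹ * (x * w * x⁻¹) := by group
            _ = x * n * x⁻¹ * w := by rw [hxw]
            _ = w * (x * n * x⁻¹) := h
            _ = (x * w * x⁻¹) * (x * n * x⁻¹) := by rw [hxw]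
            _ = x * (w * n) * x⁻¹ := by group
        exact mul_left_cancel (mul_right_cancel h')
    have hz : k⁻¹ * (x * k * x⁻¹) ∈ H := by
      refine ⟨K.mul_mem (K.inv_mem hk) (hK.conj_mem k hk x), Subgroup.mem_centralizer_singleton_iff.2 ?_⟩
      have h1 : x * k * x⁻¹ * w * (x * k * x⁻¹)⁻¹ = w' := by
        calc x * k * x⁻¹ * w * (x * k * x⁻¹)⁻¹ = x * (k * (x⁻¹ * w * x⁻¹⁻¹) * k⁻¹) * x⁻¹ := by group
          _ = w' := by rw [hfixW x⁻¹ (W₁.inv_mem hx) w hw, he, hfixW x hx w' hw']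
      calc k⁻¹ * (x * k * x⁻¹) * w = k⁻¹ * (x * k * x⁻¹ * w * (x * k * x⁻¹)⁻¹) * (x * k * x⁻¹) := by group
        _ = k⁻¹ * (k * w * k⁻¹) * (x * k * x⁻¹) := by rw [h1, he]
        _ = w * (k⁻¹ * (x * k * x⁻¹)) := by group
    obtain ⟨y, hy, c, hc, hcx, hyc⟩ := Cfsg.Agent.OddCharGroup.coset_conj H x hxH
      (hxc.coprime_dvd_right (Subgroup.card_dvd_of_le inf_le_left)) _ hz
    obtain ⟨m, hm1, hm2⟩ := Cfsg.Agent.OddCharGroup.exists_exponent hxc
    have he2 : (k * y⁻¹)⁻¹ * x * (k * y⁻¹) = c * x := by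
      rw [← hyc]; group
    have hpow := congrArg (fun z => z ^ m) he2
    rw [Cfsg.Agent.OddCharGroup.mul_pow_exponent hcx hm1 ((Subgroup.orderOf_dvd_natCard K hc.1).trans hm2),
      show (k * y⁻¹)⁻¹ * x * (k * y⁻¹) = (k * y⁻¹)⁻¹ * x * (k * y⁻¹)⁻¹⁻¹ by group, conj_pow,
      show x ^ m = x from pow_eq_pow_iff_modEq.2 hm1 |>.trans (pow_one x)] at hpow
    have hkW : k * y⁻¹ ∈ W₂ := by
      rw [← hC x hx hx1]
      refine ⟨K.mul_mem hk (K.inv_mem hy.1), Subgroup.mem_centralizer_singleton_iff.2 ?_⟩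
      rw [inv_inv] at hpow
      calc k * y⁻¹ * x = k * y⁻¹ * ((k * y⁻¹)⁻¹ * x * (k * y⁻¹)) := by rw [hpow]
        _ = x * (k * y⁻¹) := by group
    have hyw : y * w * y⁻¹ = w := by
      rw [Subgroup.mem_centralizer_singleton_iff.1 hy.2, mul_inv_cancel_right]
    calc w = (k * y⁻¹) * w * (k * y⁻¹)⁻¹ := by rw [hcomm₂ _ hkW w hw, mul_inv_cancel_right]
      _ = k * (y⁻¹ * w * y) * k⁻¹ := by group
      _ = k * (y⁻¹ * (y * w * y⁻¹) * y) * k⁻¹ := by rw [hyw]
      _ = k * w * k⁻¹ := by group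
      _ = w' := he
  -- the fixed characters
  let cj : L → (K → ℂ) → (K → ℂ) := fun x θ k => θ ⟨x * k * x⁻¹, hK.conj_mem (k : L) k.2 x⟩
  have hcj : ∀ (x : L) (θ : K → ℂ), cj x θ = CharInduced.conjFun K θ x := fun x θ => rfl
  let Fx : L → Type u := fun y => {θ : Cfsg.IrrCharacter K // cj y θ = θ}
  have hfin : Finite (IrrCharacter K) := finite_irrCharacter
  have hcount : ∀ y ∈ W₁, y ≠ 1 → Nat.card (Fx y) = Nat.card W₂ := by
    intro y hy hy1
    let α : K ≃* K := MulAut.conjNormal y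
    have h := CharBasicPerm.card_fixed (fun n : K => α n)
      (fun C => ConjClasses.map α.toMonoidHom C = C)
      (fun n => by rw [show ConjClasses.map α.toMonoidHom (ConjClasses.mk n) = ConjClasses.mk (α n) from rfl,
        ConjClasses.mk_eq_mk_iff_isConj])
      (fun χ => ⟨(χ : K → ℂ) ∘ α, isIrrCharacter_comap α.toMonoidHom α.surjective χ.2⟩)
      (fun χ g => rfl)
    have he : Nat.card (Fx y) = Nat.card {C : ConjClasses K // ConjClasses.map α.toMonoidHom C = C} := by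
      rw [h]
      refine Nat.card_congr (Equiv.subtypeEquivRight fun χ => ?_)
      rw [hcj, conjFun_eq_comp]
      exact ⟨fun e => Subtype.ext e, fun e => congrArg Subtype.val e⟩
    rw [he]
    refine le_antisymm (Cfsg.Agent.S1512.result K W₂ y hy1
      (Nat.Coprime.coprime_dvd_left (W₁.orderOf_dvd_natCard hy) hHall) fun z hz hz1 =>
        hC z (Subgroup.zpowers_le.2 hy hz) hz1) ?_
    refine Nat.card_le_card_of_injective (fun w : W₂ => (⟨ConjClasses.mk (⟨w, hW₂K w.2⟩ : K), ?_⟩ :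
      {C : ConjClasses K // ConjClasses.map α.toMonoidHom C = C})) ?_
    · refine congrArg ConjClasses.mk (Subtype.ext ?_)
      show ((MulAut.conjNormal y ⟨(w : L), hW₂K w.2⟩ : K) : L) = w
      rw [MulAut.conjNormal_apply]
      exact hfixW y hy w w.2
    · intro a b hab
      obtain ⟨c, hc⟩ := isConj_iff.1 (ConjClasses.mk_eq_mk_iff_isConj.1 (congrArg Subtype.val hab))
      exact Subtype.ext (hfus a a.2 b b.2 c c.2 (congrArg Subtype.val hc))
  obtain ⟨x₀, hx₀⟩ := hW₁c.exists_generator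
  have hx₀1 : (x₀ : L) ≠ 1 := fun e => hW₁ (by
    rw [Subgroup.eq_bot_iff_forall]
    intro z hz
    obtain ⟨i, hi⟩ := Subgroup.mem_zpowers_iff.1 (hx₀ ⟨z, hz⟩)
    have := congrArg Subtype.val hi
    rw [Subgroup.coe_zpow, e, one_zpow] at this
    exact this.symm)
  have hall : ∀ θ : K → ℂ, cj x₀ θ = θ → ∀ y ∈ W₁, cj y θ = θ := by
    intro θ hθ y hy
    have hI : (x₀ : L) ∈ inertia K θ := hθ
    obtain ⟨i, hi⟩ := Subgroup.mem_zpowers_iff.1 (hx₀ ⟨y, hy⟩)
    have h2 : (x₀ : L) ^ i = y := congrArg Subtype.val hi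
    exact (mem_inertia K).1 (h2 ▸ (inertia K θ).zpow_mem hI i)
  have hsome : ∀ θ : IrrCharacter K, ∀ y ∈ W₁, y ≠ 1 → cj y θ = θ → ∀ z ∈ W₁, cj z θ = θ := by
    intro θ y hy hy1 hθ
    let f : Fx x₀ → Fx y := fun χ => ⟨χ.1, hall χ.1 χ.2 y hy⟩
    have hf : Function.Injective f := fun a b h => Subtype.ext (congrArg (fun z : Fx y => z.1) h)
    have hfs : Function.Bijective f := (Nat.bijective_iff_injective_and_card f).2
      ⟨hf, by rw [hcount _ x₀.2 hx₀1, hcount y hy hy1]⟩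
    obtain ⟨χ, hχ⟩ := hfs.2 ⟨θ, hθ⟩
    have he : χ.1 = θ := congrArg (fun z : Fx y => z.1) hχ
    exact he ▸ hall χ.1 χ.2
  refine ⟨fun θ hθ ⟨x, hx, hne⟩ => ?_, ?_, fun θ hθ hfix => ?_⟩
  · have hI : inertia K θ = K := by
      refine le_antisymm (fun g hg => ?_) (le_inertia K (isClassFunction_irr hθ))
      obtain ⟨k, hk, w, hw, rfl⟩ := hdecomp g
      by_contra hgK
      have hw1 : w ≠ 1 := fun e => hgK (by rw [e, mul_one]; exact hk)
      have hwI : w ∈ inertia K θ := by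
        have := (inertia K θ).mul_mem ((inertia K θ).inv_mem (le_inertia K (isClassFunction_irr hθ) hk)) hg
        rwa [inv_mul_cancel_left] at this
      exact hne (hsome ⟨θ, hθ⟩ w hw hw1 ((mem_inertia K).1 hwI) x hx)
    rw [isIrrCharacter_iff]
    refine ⟨isCharacter_ind K (isCharacter_of_isIrrCharacter hθ), ?_⟩
    rw [classInner_ind_self K hθ, hI, div_self (Nat.cast_ne_zero.2 Nat.card_pos.ne')]
  · rw [← hcount _ x₀.2 hx₀1]
    exact Nat.card_congr (Equiv.subtypeEquivRight fun θ => ⟨fun h => h x₀ x₀.2, fun h => hall θ h⟩)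
  · have hinv : ∀ g : L, CharInduced.conjFun K θ g = θ := by
      intro g
      obtain ⟨k, hk, w, hw, rfl⟩ := hdecomp g
      rw [← conjFun_conjFun, conjFun_mem_eq K (isClassFunction_irr hθ) hk, ← hcj]
      exact hfix w hw
    have hab : ∀ a b : L, a * b * a⁻¹ * b⁻¹ ∈ K := by
      intro a b
      obtain ⟨k, hk, v, hv, rfl⟩ := hdecomp a
      obtain ⟨l, hl, w, hw, rfl⟩ := hdecomp b
      rw [← QuotientGroup.eq_one_iff]
      simp only [QuotientGroup.mk_mul, QuotientGroup.mk_inv, (QuotientGroup.eq_one_iff k).2 hk,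
        (QuotientGroup.eq_one_iff l).2 hl, one_mul]
      rw [← QuotientGroup.mk_inv, ← QuotientGroup.mk_inv, ← QuotientGroup.mk_mul, ← QuotientGroup.mk_mul,
        ← QuotientGroup.mk_mul]
      letI := hW₁c.commGroup
      have hvw : v * w = w * v := congrArg Subtype.val (mul_comm (⟨v, hv⟩ : W₁) ⟨w, hw⟩)
      rw [hvw, show w * v * v⁻¹ * w⁻¹ = 1 by group]
      rfl
    obtain ⟨d, -, hd, hddvd⟩ := Cfsg.Agent.CharBasicInt.exists_apply_one_dvd_card hθ
    have hdet : Cfsg.detOrder θ ∣ Nat.card K := by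
      have hθc : Cfsg.IsCharacter K θ := isCharacter_of_isIrrCharacter hθ
      refine orderOf_dvd_of_pow_eq_one ?_
      funext y
      rw [Pi.pow_apply, Pi.one_apply, Cfsg.detChar, dif_pos hθc]
      show LinearMap.det (_ : (Fin _ → ℂ) →ₗ[ℂ] _) ^ _ = 1
      rw [← map_pow, ← map_pow, pow_card_eq_one', map_one, map_one]
    obtain ⟨χ, ⟨hχ, hext, -⟩, -⟩ := Cfsg.Agent.S0867.result K θ hθ
      (fun g n => congrFun (hinv g) n) d hd (by
        rw [hidxK]
        exact Nat.Coprime.mul_right (hHall.coprime_dvd_right hdet) (hHall.coprime_dvd_right hddvd))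
    obtain ⟨e, C, he, hCirr, hcard, hind, hC'⟩ := exists_constituents_abelian_quotient K hθ hinv hab
    have hcoef : classInner (indFun K θ) χ = 1 := by
      rw [inner_ind_left K θ (isClassFunction_irr hχ), show (fun n : K => χ n) = θ from funext hext,
        classInner_irr_self hθ]
    have he1 : e = 1 := by
      rw [hind, CharInduced.inner_smul_left, CharInduced.inner_sum_left] at hcoef
      by_cases hmem : χ ∈ C
      · rw [Finset.sum_eq_single χ (fun ψ hψ hne => classInner_irr_ne (hCirr ψ hψ) hχ hne)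
          (fun h => absurd hmem h), classInner_irr_self hχ, mul_one] at hcoef
        exact_mod_cast hcoef
      · rw [Finset.sum_eq_zero fun ψ hψ => classInner_irr_ne (hCirr ψ hψ) hχ (fun h => hmem (h ▸ hψ)),
          mul_zero] at hcoef
        exact absurd hcoef zero_ne_one
    subst he1
    refine ⟨C, ?_, hCirr, by rw [hind, Nat.cast_one, one_smul]⟩
    rw [one_pow, one_mul] at hcard
    rw [hcard, hidxK]

/-- Let L be a finite group with K normal with complement W₁ ≠ 1 a cyclic Hall subgroup, and W₂ ≠ 1 a cyclic subgroup of K equal to C_K(x) for every non-identity x ∈ W₁, with W₁W₂ of odd order. For an irreducible character θ of K: if θ is not fixed under conjugation by some element of W₁, then the function induced from θ to L is an irreducible character of L; and the irreducible characters of K fixed by all of W₁ are exactly Nat.card W₂ in number, each inducing to the sum of Nat.card W₁ pairwise distinct irreducible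 characters of L. -/
theorem result {L : Type*} [Group L] [Fintype L] (K W₁ W₂ : Subgroup L) [hK : K.Normal] (hKW₁ : K ⊓ W₁ = ⊥) (hKW₁' : K ⊔ W₁ = ⊤) (hW₁ : W₁ ≠ ⊥) (hW₁c : IsCyclic W₁) (hHall : Nat.Coprime (Nat.card W₁) W₁.index) (hW₂ : W₂ ≠ ⊥) (hW₂c : IsCyclic W₂) (hW₂K : W₂ ≤ K) (hC : ∀ x ∈ W₁, x ≠ 1 → K ⊓ Subgroup.centralizer ({x} : Set L) = W₂) (hodd : Odd (Nat.card ↥(W₁ ⊔ W₂))) : (∀ θ : K → ℂ, Cfsg.IsIrrCharacter K θ → (∃ x ∈ W₁, (fun k : K => θ ⟨x * k * x⁻¹, hK.conj_mem (k : L) k.2 x⟩) ≠ θ) → Cfsg.IsIrrCharacter L (Cfsg.indFun K θ)) ∧ Nat.card {θ : Cfsg.IrrCharacter K // ∀ x ∈ W₁, (fun k : K => (θ : K → ℂ) ⟨x * k * x⁻¹, hK.conj_mem (k : L) k.2 x⟩) = θ} = Nat.card W₂ ∧ (∀ θ : K → ℂ, Cfsg.IsIrrCharacter K θ → (∀ x ∈ W₁, (fun k : K => θ ⟨x * k * x⁻¹, hK.conj_mem (k : L) k.2 x⟩) = θ) → ∃ C : Finset (L → ℂ), C.card = Nat.card W₁ ∧ (∀ μ ∈ C, Cfsg.IsIrrCharacter L μ) ∧ Cfsg.indFun K θ = ∑ μ ∈ C, μ) := by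
  classical
  exact aux K W₁ W₂ hKW₁ hKW₁' hW₁ hW₁c hHall hW₂c hW₂K hC

end Cfsg.Agent.S1513
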