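import Cfsg.Statements.S1355
import Mathlib
import Cfsg.Agent.Lib.BGFinalBasic72
import Cfsg.Agent.Lib.BGSigmaCore
import Cfsg.Agent.S1350
import Cfsg.Agent.S1351
import Cfsg.Agent.S1352
import Cfsg.Agent.S1405
import Cfsg.Agent.S1437

set_option autoImplicit false
open Cfsg

namespace Cfsg.Agent.S1355

/-- Let G be a minimal simple group of odd order and M a maximal subgroup. Then the largest normal nilpotent Hall subgroup M_F of M is nontrivial and contained in M_σ, M_σ is contained in the derived subgroup M', M' is proper in M, and the image of M' in M/M_F is nilpotent. -/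
theorem result {G : Type*} [Group G] [Finite G] (hG : Cfsg.IsMinSimpleOddOrder G)
    (M : Subgroup G) (hM : IsCoatom M) :
    Cfsg.fittingHallOf M ≠ ⊥ ∧ Cfsg.fittingHallOf M ≤ Cfsg.sigmaCore M ∧ Cfsg.sigmaCore M ≤ ⁅M, M⁆ ∧ ⁅M, M⁆ < M ∧
      Group.IsNilpotent ↥((commutator ↥M).map (QuotientGroup.mk' (Cfsg.fittingHall ↥M))) := by
  have hFS := BGFinal72.fittingHallOf_le_sigmaCore hG hM
  have hSM := BGFinal72.sigmaCore_le_commutator hG hM
  have hσ := (S1350.result hG M hM).1
  by_cases heq : Cfsg.fittingHallOf M = Cfsg.sigmaCore M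
  · refine ⟨heq ▸ BGSigma.sigmaCore_ne_bot hG hM, hFS, hSM, BGFinal72.commutator_lt hG hM, ?_⟩
    obtain ⟨-, -, hαS, -, hnil⟩ := S1405.result hG M hM
    have he : Cfsg.piCore (Cfsg.sigma M) M = Cfsg.fittingHall M :=
      (Subgroup.map_injective M.subtype_injective heq).symm
    have hle : Cfsg.piCore (Cfsg.alpha M) M ≤ Cfsg.fittingHall M := by
      rw [← he]; exact (Subgroup.map_le_map_iff_of_injective M.subtype_injective).1 hαS
    let f : M ⧸ Cfsg.piCore (Cfsg.alpha M) M →* M ⧸ Cfsg.fittingHall M :=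
      QuotientGroup.map _ _ (MonoidHom.id M) hle
    have hm : ((commutator ↥M).map (QuotientGroup.mk' (Cfsg.piCore (Cfsg.alpha M) M))).map f =
        (commutator ↥M).map (QuotientGroup.mk' (Cfsg.fittingHall M)) := by
      rw [Subgroup.map_map]; rfl
    rw [← hm]
    exact Group.nilpotent_of_surjective (MonoidHom.subgroupMap f _) (MonoidHom.subgroupMap_surjective f _)
  · obtain ⟨⟨K, hK⟩, hKc⟩ := S1351.result hG M hM
    obtain ⟨⟨U, hKU⟩, -⟩ := S1352.result hG M hM K (hKc K hK) hK
    obtain ⟨-, hσ', -, hq, hqd, -, Q, hQF, hQM, hQp, hQi, hD⟩ := S1437.result hG M hM K U hKU heq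
    refine ⟨fun h => ?_, hFS, hSM, BGFinal72.commutator_lt hG hM, ?_⟩
    · rw [h, Subgroup.card_bot] at hqd
      exact hq.one_lt.ne' (Nat.dvd_one.1 hqd)
    haveI := Fact.mk hq
    have hQS : Q ≤ Cfsg.sigmaCore M := hQF.trans hFS
    obtain ⟨D, hQD, -⟩ := BGFinal72.exists_complIn hQS ((BGFinal72.sigmaCore_le M).trans hQM) (by
      obtain ⟨k, hk⟩ := IsPGroup.iff_card.1 hQp
      rw [hk]
      exact ((Nat.Prime.coprime_iff_not_dvd hq).2 hQi).pow_left k)
    haveI := (hD D hQD).1
    have hDM : D ≤ M := hQD.2.1.trans (BGFinal72.sigmaCore_le M)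
    let f : D →* M ⧸ Cfsg.fittingHall M := (QuotientGroup.mk' _).comp (Subgroup.inclusion hDM)
    have hmap : (commutator ↥M).map M.subtype = Cfsg.sigmaCore M := by
      rw [hσ', Subgroup.map_subtype_commutator]
    suffices hr : (commutator ↥M).map (QuotientGroup.mk' (Cfsg.fittingHall M)) = f.range by
      rw [hr]
      exact Group.nilpotent_of_surjective f.rangeRestrict f.rangeRestrict_surjective
    apply le_antisymm
    · rintro _ ⟨m, hm, rfl⟩
      have hmS : (m : G) ∈ Cfsg.sigmaCore M := hmap ▸ Subgroup.mem_map_of_mem M.subtype hm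
      obtain ⟨a, ha, b, hb, hab⟩ := hQD.2.2.2 m hmS
      obtain ⟨a', ha', haa⟩ := hQF ha
      refine ⟨⟨b, hb⟩, ?_⟩
      have : m = a' * (Subgroup.inclusion hDM ⟨b, hb⟩) := Subtype.ext (by
        rw [hab, Subgroup.coe_mul]; rw [show (a' : G) = a from haa]; rfl)
      rw [this, map_mul, (show (QuotientGroup.mk' (Cfsg.fittingHall M)) a' = 1 from
        (QuotientGroup.eq_one_iff _).2 ha'), one_mul]
      rfl
    · rintro _ ⟨d, rfl⟩
      refine ⟨Subgroup.inclusion hDM d, ?_, rfl⟩
      obtain ⟨x, hx, hxd⟩ : (d : G) ∈ (commutator ↥M).map M.subtype := hmap ▸ hQD.2.1 d.2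
      have : x = Subgroup.inclusion hDM d := Subtype.ext hxd
      exact this ▸ hx

end Cfsg.Agent.S1355
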