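import Cfsg.Statements.S1385
import Cfsg.Agent.Lib.BGTypeFrobenius
import Cfsg.Agent.S1369

set_option autoImplicit false
open Cfsg

namespace Cfsg.Agent.S1385

/-- Let G be a minimal simple group of odd order. Then either every maximal subgroup of G is of Type I, or there are nontrivial subgroups W₁, W₂ generating a cyclic group W that is the normalizer of every nonempty subset of W outside W₁ ∪ W₂, and maximal subgroups S, T with W₁ a complement to S' in S, W₂ a complement to T' in T, S ∩ T = W, S or T of Type II, each of S, T of Type II, III, IV or V, and every maximal subgroup of G of Type I or conjugate to S or to T. -/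
theorem result {G : Type*} [Group G] [Finite G] (hG : Cfsg.IsMinSimpleOddOrder G) :
    (∀ M : Subgroup G, IsCoatom M → Cfsg.IsOfTypeI M) ∨
      ∃ W₁ W₂ S T : Subgroup G, Cfsg.IsSelfNormalizingCyclic W₁ W₂ ∧ IsCoatom S ∧ IsCoatom T ∧
        Cfsg.IsComplIn ⁅S, S⁆ W₁ S ∧ Cfsg.IsComplIn ⁅T, T⁆ W₂ T ∧ S ⊓ T = W₁ ⊔ W₂ ∧
        (Cfsg.IsOfTypeII S ∨ Cfsg.IsOfTypeII T) ∧
        (Cfsg.IsOfTypeII S ∨ Cfsg.IsOfTypeIII S ∨ Cfsg.IsOfTypeIV S ∨ Cfsg.IsOfTypeV S) ∧
        (Cfsg.IsOfTypeII T ∨ Cfsg.IsOfTypeIII T ∨ Cfsg.IsOfTypeIV T ∨ Cfsg.IsOfTypeV T) ∧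
        ∀ M : Subgroup G, IsCoatom M → Cfsg.IsOfTypeI M ∨ ∃ g : G, M = S.map (MulAut.conj g).toMonoidHom ∨ M = T.map (MulAut.conj g).toMonoidHom := by
  by_cases hall : ∀ M : Subgroup G, IsCoatom M → Cfsg.IsOfTypeI M
  · exact Or.inl hall
  refine Or.inr ?_
  simp only [not_forall] at hall
  obtain ⟨M, hM, hMI⟩ := hall
  obtain ⟨K, U, hKU⟩ := BGTypeForward.exists_decomp hG hM
  have hK : K ≠ ⊥ := fun h => hMI (BGTypeForward.typeI_of hG hM hKU h)
  obtain ⟨T, ⟨hT, hKst, hKstH⟩, -⟩ := S1366.result hG M hM K U hKU hK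
  set W₂ := Cfsg.sigmaCore M ⊓ Subgroup.centralizer (K : Set G) with hW₂
  have hsnc := BGTypeForward.selfNormalizingCyclic hG hM hKU hK
  obtain ⟨hST, hcyc⟩ := S1368.result hG M hM K U hKU hK T hT hKst hKstH
  have hW₂c : IsCyclic W₂ := by
    haveI := hcyc
    exact Subgroup.isCyclic_of_le (le_sup_right : W₂ ≤ K ⊔ W₂)
  obtain ⟨⟨V, hV⟩, -⟩ := S1352.result hG T hT W₂ hW₂c hKstH
  have hW₂ne : W₂ ≠ ⊥ := hsnc.2.1
  obtain ⟨hII, hconj⟩ := S1369.result hG M hM K U hKU hK T hT hKst hKstH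
  have cases : ∀ {L K' U' : Subgroup G}, IsCoatom L → Cfsg.IsSigmaDecomposition L K' U' → K' ≠ ⊥ →
      (Cfsg.IsOfTypeII L ∨ Cfsg.IsOfTypeIII L ∨ Cfsg.IsOfTypeIV L ∨ Cfsg.IsOfTypeV L) := by
    intro L K' U' hL hd hK'
    by_cases hU : U' = ⊥
    · by_cases hH : Cfsg.fittingHallOf L = Cfsg.sigmaCore L
      · exact Or.inr (Or.inr (Or.inr (BGTypeForward.typeV_of hG hL hd hK' hU hH)))
      · rcases BGTypeForward.typeIII_or_IV_of hG hL hd hK' hU hH with h | h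
        · exact Or.inr (Or.inl h)
        · exact Or.inr (Or.inr (Or.inl h))
    · exact Or.inl (BGTypeForward.typeII_of hG hL hd hK' hU)
  refine ⟨K, W₂, M, T, hsnc, hM, hT, BGTypeForward.compl_K hG hM hKU hK,
    BGTypeForward.compl_K hG hT hV hW₂ne, hST, ?_, cases hM hKU hK, cases hT hV hW₂ne, fun L hL => ?_⟩
  · rcases hII with h | h
    · exact Or.inl (BGTypeForward.typeII_of hG hM hKU hK h)
    · exact Or.inr (BGTypeForward.typeII_of hG hT hV hW₂ne (h V hV))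
  · obtain ⟨K', U', hd⟩ := BGTypeForward.exists_decomp hG hL
    by_cases hK' : K' = ⊥
    · exact Or.inl (BGTypeForward.typeI_of hG hL hd hK')
    · exact Or.inr (hconj L hL ((BGTypeSetup.kappa_nonempty_iff hG hL hd).mpr hK'))

end Cfsg.Agent.S1385
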