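import Cfsg.Statements.S1356
import Mathlib
import Cfsg.Agent.Lib.BGFinalBasic72
import Cfsg.Agent.Lib.BGFittingUnique
import Cfsg.Agent.Lib.BGSigmaCore
import Cfsg.Agent.Lib.BGFinalDerived72
import Cfsg.Agent.S1350
import Cfsg.Agent.S1351
import Cfsg.Agent.S1352
import Cfsg.Agent.S1355
import Cfsg.Agent.S1365
import Cfsg.Agent.S1420
import Cfsg.Agent.S1431
import Cfsg.Agent.S1437
import Cfsg.Agent.S1438

set_option autoImplicit false
open Cfsg

namespace Cfsg.Agent.S1356

open scoped Pointwise commutatorElement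

universe u
variable {G : Type u} [Group G] [Finite G] {M : Subgroup G}

theorem le_fittingOf {N : Subgroup G} (hNM : N ≤ M) (hn : M ≤ Subgroup.normalizer (N : Set G))
    (hnil : Group.IsNilpotent N) : N ≤ Cfsg.fittingOf M := by
  haveI : (N.subgroupOf M).Normal := Subgroup.normal_subgroupOf_of_le_normalizer hn
  intro x hx
  exact ⟨⟨x, hNM hx⟩, ComponentsCores.le_fitting (N := N.subgroupOf M)
    (haveI := hnil; Group.nilpotent_of_mulEquiv (Subgroup.subgroupOfEquivOfLe hNM).symm)
    (show (⟨x, hNM hx⟩ : M) ∈ N.subgroupOf M from hx), rfl⟩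

theorem fittingOf_le_sup : Cfsg.fittingOf M ≤
    (M ⊓ Subgroup.centralizer (Cfsg.fittingHallOf M : Set G)) ⊔ Cfsg.fittingHallOf M := by
  set F := Cfsg.fittingHallOf M with hF
  intro x hx
  have hxM := FittingHallBasic.fittingOf_le M hx
  have hn := FittingHallBasic.le_normalizer_fittingHallOf M
  have hFM := FittingHallBasic.fittingHallOf_le M
  haveI := FittingHallBasic.fittingOf_isNilpotent M
  set n := Nat.card F with hn'
  set m := F.relIndex M with hm'
  have hcop : n.Coprime m := FittingHallBasic.fittingHallOf_coprime M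
  have hnm : orderOf x ∣ n * m := by
    rw [hn', hm', BGFinal72.card_mul_relIndex hFM]; exact M.orderOf_dvd_natCard hxM
  obtain ⟨s, t, hst⟩ := (Nat.isCoprime_iff_coprime.2 hcop : IsCoprime (n : ℤ) (m : ℤ))
  have hx1 : x ^ ((n * m : ℕ) : ℤ) = 1 := by
    rw [zpow_natCast]; exact orderOf_dvd_iff_pow_eq_one.1 hnm
  have e : x = x ^ (s * n) * x ^ (t * m) := by rw [← zpow_add, hst, zpow_one]
  rw [e]
  refine Subgroup.mul_mem_sup ⟨M.zpow_mem hxM _, ?_⟩ ?_
  · intro h hh
    have hc : (orderOf (⟨h, FittingHallBasic.fittingHallOf_le_fittingOf M hh⟩ : Cfsg.fittingOf M)).Coprime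
        (orderOf (⟨x ^ (s * n), (Cfsg.fittingOf M).zpow_mem hx _⟩ : Cfsg.fittingOf M)) := by
      rw [Subgroup.orderOf_mk, Subgroup.orderOf_mk]
      refine (hcop.coprime_dvd_left (F.orderOf_dvd_natCard hh)).coprime_dvd_right ?_
      refine orderOf_dvd_of_pow_eq_one ?_
      rw [← zpow_natCast, ← zpow_mul, show s * (n : ℤ) * m = ((n * m : ℕ) : ℤ) * s by push_cast; ring,
        zpow_mul, hx1, one_zpow]
    exact congrArg Subtype.val (FittingHallBasic.commute_of_coprime_orderOf hc).eq
  · set y := x ^ (t * m) with hy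
    have hyM : y ∈ M := M.zpow_mem hxM _
    haveI : (F.subgroupOf M).Normal := Subgroup.normal_subgroupOf_of_le_normalizer hn
    have h1 : ((⟨y, hyM⟩ : M) : M ⧸ F.subgroupOf M) = 1 := by
      rw [← orderOf_eq_one_iff]
      refine Nat.eq_one_of_dvd_coprimes hcop ((orderOf_map_dvd (QuotientGroup.mk' _) _).trans ?_) ?_
      · rw [Subgroup.orderOf_mk]
        refine orderOf_dvd_of_pow_eq_one ?_
        rw [hy, ← zpow_natCast, ← zpow_mul, show t * (m : ℤ) * n = ((n * m : ℕ) : ℤ) * t by push_cast; ring,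
          zpow_mul, hx1, one_zpow]
      · rw [hm', Subgroup.relIndex, Subgroup.index_eq_card]
        exact orderOf_dvd_natCard _
    exact Subgroup.mem_subgroupOf.1 ((QuotientGroup.eq_one_iff _).1 h1)

/-- Let G be a minimal simple group of odd order and M a maximal subgroup. Then the second derived subgroup M'' lies in the Fitting subgroup F(M), F(M) is generated by M_F together with C_M(M_F), and if κ(M) is nonempty then F(M) ≤ M'. -/
theorem result {G : Type*} [Group G] [Finite G] (hG : Cfsg.IsMinSimpleOddOrder G)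
    (M : Subgroup G) (hM : IsCoatom M) :
    ⁅⁅M, M⁆, ⁅M, M⁆⁆ ≤ Cfsg.fittingOf M ∧
      Cfsg.fittingOf M = (M ⊓ Subgroup.centralizer (Cfsg.fittingHallOf M : Set G)) ⊔ Cfsg.fittingHallOf M ∧
      ((Cfsg.kappa M).Nonempty → Cfsg.fittingOf M ≤ ⁅M, M⁆) := by
  have hσ := (S1350.result hG M hM).1
  have hFS := BGFinal72.fittingHallOf_le_sigmaCore hG hM
  have hSM := BGFinal72.sigmaCore_le M
  have hnS := BGFinal72.le_normalizer_sigmaCore M
  obtain ⟨⟨K, hK⟩, hKc⟩ := S1351.result hG M hM
  obtain ⟨⟨U, hKU⟩, hUn⟩ := S1352.result hG M hM K (hKc K hK) hK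
  have hCn : M ≤ Subgroup.normalizer
      ((M ⊓ Subgroup.centralizer (Cfsg.fittingHallOf M : Set G) : Subgroup G) : Set G) := by
    intro g hg
    have key : ∀ g ∈ M, ∀ c ∈ M ⊓ Subgroup.centralizer (Cfsg.fittingHallOf M : Set G),
        g * c * g⁻¹ ∈ M ⊓ Subgroup.centralizer (Cfsg.fittingHallOf M : Set G) := by
      intro g hg c hc
      refine ⟨M.mul_mem (M.mul_mem hg hc.1) (M.inv_mem hg), fun h hh => ?_⟩
      have h1 : g⁻¹ * h * g ∈ Cfsg.fittingHallOf M := by
        simpa using (Subgroup.mem_normalizer_iff.1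
          (FittingHallBasic.le_normalizer_fittingHallOf M (M.inv_mem hg)) h).1 hh
      have h2 := hc.2 _ h1
      calc h * (g * c * g⁻¹) = g * (g⁻¹ * h * g * c) * g⁻¹ := by group
        _ = g * (c * (g⁻¹ * h * g)) * g⁻¹ := by rw [h2]
        _ = _ := by group
    rw [Subgroup.mem_normalizer_iff]
    intro c
    exact ⟨key g hg c, fun h => by simpa [mul_assoc] using key g⁻¹ (M.inv_mem hg) _ h⟩
  have hFF : Cfsg.fittingHallOf M ≤ Cfsg.fittingOf M := FittingHallBasic.fittingHallOf_le_fittingOf M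
  refine ⟨?_, le_antisymm fittingOf_le_sup (sup_le ?_ hFF), fun hk => ?_⟩
  · by_cases heq : Cfsg.fittingHallOf M = Cfsg.sigmaCore M
    · refine le_trans ?_ (heq.symm.le.trans hFF)
      obtain ⟨E, -, hE⟩ := BGFinal72.exists_complIn hσ.1 hnS (BGFinal72.coprime_relIndex_of_hall hσ)
      haveI : ((Cfsg.sigmaCore M).subgroupOf M).Normal := Subgroup.normal_subgroupOf_of_le_normalizer hnS
      let g : E →* M ⧸ (Cfsg.sigmaCore M).subgroupOf M :=
        (QuotientGroup.mk' _).comp (Subgroup.inclusion hE.1)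
      have hg : Function.Surjective g := fun w => by
        obtain ⟨v, rfl⟩ := QuotientGroup.mk_surjective w
        obtain ⟨a, ha, b, hb, hab⟩ := hE.2.2.2 v v.2
        refine ⟨⟨a, ha⟩, ?_⟩
        show (QuotientGroup.mk (Subgroup.inclusion hE.1 ⟨a, ha⟩) : M ⧸ (Cfsg.sigmaCore M).subgroupOf M) = QuotientGroup.mk v
        rw [QuotientGroup.eq, Subgroup.mem_subgroupOf]
        simpa [hab] using hb
      have hE' : IsMulCommutative ↥⁅E, E⁆ := (S1420.result hG M hM E hE).2.1
      have hab : ∀ v ∈ commutator ↥M, ∀ w ∈ commutator ↥M,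
          ⁅(v : G), (w : G)⁆ ∈ Cfsg.sigmaCore M := by
        intro v hv w hw
        have hmap : ∀ v ∈ commutator ↥M, ∃ e ∈ commutator ↥E, g e = QuotientGroup.mk' _ v := by
          intro v hv
          have h1 : QuotientGroup.mk' _ v ∈ (commutator ↥M).map (QuotientGroup.mk' ((Cfsg.sigmaCore M).subgroupOf M)) :=
            Subgroup.mem_map_of_mem _ hv
          rw [_root_.commutator_def, Subgroup.map_commutator, ← MonoidHom.range_eq_map,
            QuotientGroup.range_mk', ← MonoidHom.range_eq_top.2 hg, MonoidHom.range_eq_map,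
            ← Subgroup.map_commutator, ← _root_.commutator_def] at h1
          exact h1
        obtain ⟨a, ha, hga⟩ := hmap v hv
        obtain ⟨b, hb, hgb⟩ := hmap w hw
        have hcomm : a * b = b * a := by
          refine Subtype.ext ?_
          have ha' : (a : G) ∈ ⁅E, E⁆ := E.map_subtype_commutator ▸ Subgroup.mem_map_of_mem E.subtype ha
          have hb' : (b : G) ∈ ⁅E, E⁆ := E.map_subtype_commutator ▸ Subgroup.mem_map_of_mem E.subtype hb
          exact PGroupsBasic.comm_of_isMulCommutative hE' ha' hb'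
        have h2 : QuotientGroup.mk' ((Cfsg.sigmaCore M).subgroupOf M) ⁅v, w⁆ = 1 := by
          rw [map_commutatorElement, ← hga, ← hgb, ← map_commutatorElement,
            commutatorElement_eq_one_iff_mul_comm.2 hcomm, map_one]
        exact Subgroup.mem_subgroupOf.1 ((QuotientGroup.eq_one_iff _).1 h2)
      rw [Subgroup.commutator_le]
      intro v hv w hw
      rw [← M.map_subtype_commutator] at hv hw
      obtain ⟨v', hv', rfl⟩ := hv
      obtain ⟨w', hw', rfl⟩ := hw
      exact hab v' hv' w' hw'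
    · obtain ⟨-, hσ', -⟩ := S1437.result hG M hM K U hKU heq
      rw [← hσ']
      exact BGFinal72.derived_sigmaCore_le_fitting hG hM heq
  · refine le_fittingOf inf_le_left hCn ?_
    by_cases hbot : Cfsg.fittingHallOf M = ⊥
    · exact absurd hbot (S1355.result hG M hM).1
    have hcop : (Nat.card (Cfsg.fittingHallOf M)).Coprime
        ((Cfsg.fittingHallOf M).relIndex (Cfsg.sigmaCore M)) :=
      (FittingHallBasic.fittingHallOf_coprime M).coprime_dvd_right
        (Dvd.intro _ (Subgroup.relIndex_mul_relIndex _ _ _ hFS hSM))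
    obtain ⟨⟨X, hXc, hXτ, hC⟩, -⟩ := S1438.result hG M hM _ hFS hbot hcop
    by_cases heq : Cfsg.fittingHallOf M = Cfsg.sigmaCore M
    · have hA : ∀ a ∈ Cfsg.sigmaCore M ⊓ Subgroup.centralizer (Cfsg.fittingHallOf M : Set G),
          ∀ b ∈ M ⊓ Subgroup.centralizer (Cfsg.fittingHallOf M : Set G), a * b = b * a :=
        fun a ha b hb => hb.2 a (heq ▸ ha.1)
      set C := M ⊓ Subgroup.centralizer (Cfsg.fittingHallOf M : Set G) with hCdef
      have hX : X ≤ C := hC ▸ le_sup_right
      have hXX : ∀ a ∈ X, ∀ b ∈ X, a * b = b * a := fun a ha b hb =>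
        congrArg Subtype.val (@IsCyclic.commGroup X _ hXc |>.mul_comm ⟨a, ha⟩ ⟨b, hb⟩)
      have h1 : C ≤ Subgroup.centralizer (C : Set G) := by
        conv_lhs => rw [hC]
        refine sup_le (fun a ha b hb => (hA a ha b hb).symm) fun a ha => ?_
        have h2 : C ≤ Subgroup.centralizer ({a} : Set G) := by
          rw [hC]
          refine sup_le (fun s hs => ?_) (fun s hs => ?_) <;>
            rw [Subgroup.mem_centralizer_iff] <;> intro t ht <;> rw [Set.mem_singleton_iff.1 ht]
          · exact (hA s hs a (hX ha)).symm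
          · exact hXX a ha s hs
        exact fun b hb => (Subgroup.mem_centralizer_iff.1 (h2 hb) a rfl).symm
      exact @CommGroup.isNilpotent C { (inferInstance : Group C) with
        mul_comm := fun a b => Subtype.ext (h1 b.2 a a.2) }
    · obtain ⟨hU, -, hKp, hq, -, -, Q, hQF, hQM, hQp, hQi, hD⟩ := S1437.result hG M hM K U hKU heq
      haveI := Fact.mk hq
      have hX1 : X = ⊥ := by
        by_contra h
        obtain ⟨p, hp, hpd⟩ := Nat.exists_prime_and_dvd
          (show Nat.card X ≠ 1 from fun e => h ((Subgroup.eq_bot_iff_card _).2 e))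
        haveI := Fact.mk hp
        obtain ⟨-, hps, -, hr⟩ := hXτ p hp hpd
        obtain ⟨F, hFM, hF, hFc⟩ := BGUnique.pow_le_of_not_pRankLE hr
        obtain ⟨j, hj⟩ := IsPGroup.iff_card.1 (PGroupsBasic.isPGroup_of_isElementaryAbelian hF)
        have hj2 : 2 ≤ j := (Nat.pow_le_pow_iff_right hp.one_lt).1 (hj ▸ hFc)
        have hcard := BGFinal72.card_eq hKU
        rw [hU, Subgroup.card_bot, one_mul] at hcard
        have h2 : p ^ 2 ∣ Nat.card K * Nat.card (Cfsg.sigmaCore M) :=
          hcard ▸ ((pow_dvd_pow p hj2).trans (hj ▸ Subgroup.card_dvd_of_le hFM))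
        have h3 : (p ^ 2).Coprime (Nat.card (Cfsg.sigmaCore M)) :=
          ((Nat.Prime.coprime_iff_not_dvd hp).2 fun hd =>
            hps (BGFinal72.piNat_sigmaCore M p hp hd)).pow_left 2
        have h4 := h3.dvd_of_dvd_mul_right h2
        rcases (Nat.dvd_prime hKp).1 h4 with h5 | h5
        · exact (Nat.one_lt_pow two_ne_zero hp.one_lt).ne' h5
        · exact (Nat.Prime.not_prime_pow le_rfl) (h5.symm ▸ hKp)
      rw [hC, hX1, sup_bot_eq]
      set S := Cfsg.sigmaCore M
      haveI : (Q.subgroupOf S).Normal := Subgroup.normal_subgroupOf_of_le_normalizer (hSM.trans hQM)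
      obtain ⟨D, hQD, -⟩ := BGFinal72.exists_complIn (hQF.trans hFS) (hSM.trans hQM) (by
        obtain ⟨k, hk⟩ := IsPGroup.iff_card.1 hQp
        rw [hk]
        exact ((Nat.Prime.coprime_iff_not_dvd hq).2 hQi).pow_left k)
      haveI := (hD D hQD).1
      let d : D →* S ⧸ Q.subgroupOf S := (QuotientGroup.mk' _).comp (Subgroup.inclusion hQD.2.1)
      have hd : Function.Surjective d := fun w => by
        obtain ⟨v, rfl⟩ := QuotientGroup.mk_surjective w
        obtain ⟨a, ha, b, hb, hab⟩ := hQD.2.2.2 v v.2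
        refine ⟨⟨b, hb⟩, ?_⟩
        show (QuotientGroup.mk (Subgroup.inclusion hQD.2.1 ⟨b, hb⟩) : S ⧸ Q.subgroupOf S) = QuotientGroup.mk v
        rw [QuotientGroup.eq, Subgroup.mem_subgroupOf]
        show b⁻¹ * (v : G) ∈ Q
        rw [hab, ← mul_assoc]
        exact (Subgroup.mem_normalizer_iff''.1 (hQM (hSM (hQD.2.1 hb))) a).1 ha
      haveI : Group.IsNilpotent (S ⧸ Q.subgroupOf S) := Group.nilpotent_of_surjective d hd
      refine Subgroup.isNilpotent_of_ker_le_center ((QuotientGroup.mk' (Q.subgroupOf S)).comp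
        (Subgroup.inclusion (inf_le_left : S ⊓ Subgroup.centralizer (Cfsg.fittingHallOf M : Set G) ≤ S)))
        (fun v hv => ?_)
      rw [Subgroup.mem_center_iff]
      intro w
      have h1 : QuotientGroup.mk' (Q.subgroupOf S) ⟨(v : G), v.2.1⟩ = 1 := hv
      have hvQ : (v : G) ∈ Q := Subgroup.mem_subgroupOf.1 ((QuotientGroup.eq_one_iff (N := Q.subgroupOf S) ⟨(v : G), v.2.1⟩).1 h1)
      exact Subtype.ext (w.2.2 v (hQF hvQ)).symm
  · have hK1 := BGFinal72.K_ne_bot_of_kappa hKU hk
    rw [(S1365.result hG M hM K U hKU hK1).1]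
    refine BGFinal72.le_U_sigma hσ hKU (hUn U hKU) (FittingHallBasic.fittingOf_le M) fun q hq hd hqk => ?_
    haveI := Fact.mk hq
    obtain ⟨⟨x, hx⟩, hxq⟩ := exists_prime_orderOf_dvd_card' q hd
    rw [Subgroup.orderOf_mk] at hxq
    set O := BGFittingUnique.Oc q M
    have hxO : x ∈ O := BGFittingUnique.mem_Oc_of_mem_fittingOf hx (i := 1) (by rw [hxq, pow_one])
    have hx1 : x ≠ 1 := fun h => by rw [h, orderOf_one] at hxq; exact hq.one_lt.ne hxq
    have hOn := BGFittingUnique.le_normalizer_Oc q M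
    have hOM := BGFittingUnique.Oc_le q M
    have hOK : O ≤ K := by
      haveI := BGUnique.isSolvable_of_ne_top hG hM.1
      obtain ⟨m, hm⟩ := HallTheorem.le_conj_isPiHall (HallSolvable.isPiSeparable_of_solvable (Cfsg.kappa M))
        (HallTheorem.complSolvable_of_solvable _) (U := O.subgroupOf M) (by
          intro r hr hrd
          rw [Nat.card_congr (Subgroup.subgroupOfEquivOfLe hOM).toEquiv] at hrd
          obtain ⟨k, hk'⟩ := IsPGroup.iff_card.1 (BGFittingUnique.isPGroup_Oc q M)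
          rw [hk'] at hrd
          exact (Nat.prime_dvd_prime_iff_eq hr hq).1 (hr.dvd_of_dvd_pow hrd) ▸ hqk)
        (H := K.subgroupOf M) ⟨fun r hr hrd => hK.2.1 r hr (by
          rwa [Nat.card_congr (Subgroup.subgroupOfEquivOfLe hK.1).toEquiv] at hrd), hK.2.2⟩
      intro o ho
      have ho' : (m : G) * o * (m : G)⁻¹ ∈ O := (Subgroup.mem_normalizer_iff.1 (hOn m.2) o).1 ho
      obtain ⟨z, hz, hze⟩ := hm (show (⟨_, hOM ho'⟩ : M) ∈ O.subgroupOf M from ho')
      have he : (m : G) * (z : G) * (m : G)⁻¹ = (m : G) * o * (m : G)⁻¹ := congrArg Subtype.val hze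
      have he' : (z : G) = o := mul_left_cancel (mul_right_cancel he)
      exact he' ▸ hz
    obtain ⟨-, hTI, hSyl, -⟩ := S1431.result hG M hM K hK hK1
    set Ks := Cfsg.sigmaCore M ⊓ Subgroup.centralizer (K : Set G)
    have hMK : M ≤ K ⊔ Ks := fun g hg => by
      by_contra hgn
      have h1 : x ∈ K ⊓ K.map (MulAut.conj g).toMonoidHom := by
        refine ⟨hOK hxO, g⁻¹ * x * g, hOK ((Subgroup.mem_normalizer_iff''.1 (hOn hg) x).1 hxO), ?_⟩
        show g * (g⁻¹ * x * g) * g⁻¹ = x
        group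
      exact hx1 (Subgroup.mem_bot.1 (hTI g hg hgn ▸ h1))
    haveI := hKc K hK
    have hKK : ∀ a ∈ K, ∀ b ∈ K, a * b = b * a := fun a ha b hb =>
      congrArg Subtype.val ((@IsCyclic.commGroup K _ (hKc K hK)).mul_comm ⟨a, ha⟩ ⟨b, hb⟩)
    have hcen : K ⊔ Ks ≤ Subgroup.centralizer (K : Set G) :=
      sup_le (fun a ha b hb => hKK b hb a ha) inf_le_right
    have hle : Cfsg.sigmaCore M ≤ Ks := le_inf le_rfl (hSM.trans (hMK.trans hcen))
    have hKs : Ks ≠ ⊥ := fun h => BGSigma.sigmaCore_ne_bot hG hM (le_bot_iff.1 (h ▸ hle))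
    obtain ⟨p, hp, hpd⟩ := Nat.exists_prime_and_dvd
      (show Nat.card Ks ≠ 1 from fun e => hKs ((Subgroup.eq_bot_iff_card _).2 e))
    obtain ⟨S⟩ : Nonempty (Sylow p ↥(Cfsg.sigmaCore M)) := inferInstance
    exact (hSyl p hp hpd S).2.2 ((Subgroup.map_subtype_le _).trans hle)

end Cfsg.Agent.S1356
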