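import Cfsg.Statements.S1435
import Mathlib
import Cfsg.Agent.Lib.BGTypePSignalMain

set_option autoImplicit false
open Cfsg

namespace Cfsg.Agent.S1435

open scoped Pointwise commutatorElement

open Subgroup Cfsg.Agent.HallCore Cfsg.Agent.BGTypeP

/-- Let G be a minimal simple group of odd order, M a maximal subgroup with standard factorisation M = K U M_σ, K ≠ 1, U ≠ 1, K* = M_σ ∩ C_G(K), M* a maximal subgroup with K = M*_σ ∩ C_G(K*) and K* a Hall κ(M*)-subgroup of M*, r a prime dividing the order of U, R a Sylow r-subgroup of U, and H a maximal subgroup containing N_G(R). Then κ(H) is empty, U ≤ H_σ, M ∩ H = U ⊔ K, H ∩ N_G(U) ⊄ M, K ≤ F(H ∩ M*), and H ∩ M* is a complement to H_σ in H. -/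
theorem result {G : Type*} [Group G] [Finite G] (hG : Cfsg.IsMinSimpleOddOrder G)
    (M : Subgroup G) (hM : IsCoatom M) (K U : Subgroup G) (hKU : Cfsg.IsSigmaDecomposition M K U) (hK1 : K ≠ ⊥) (hU1 : U ≠ ⊥) (Mstar : Subgroup G) (hMstar : IsCoatom Mstar)
    (hKst : K = Cfsg.sigmaCore Mstar ⊓ Subgroup.centralizer ((Cfsg.sigmaCore M ⊓ Subgroup.centralizer (K : Set G)) : Set G))
    (hKstH : Cfsg.IsPiHallOf (Cfsg.kappa Mstar) (Cfsg.sigmaCore M ⊓ Subgroup.centralizer (K : Set G)) Mstar)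
    (r : ℕ) [Fact r.Prime] (hr : r ∣ Nat.card U) (R : Sylow r U) (H : Subgroup G) (hH : IsCoatom H)
    (hNR : Subgroup.normalizer (((R : Subgroup U).map U.subtype : Subgroup G) : Set G) ≤ H) :
    Cfsg.kappa H = ∅ ∧ U ≤ Cfsg.sigmaCore H ∧ M ⊓ H = U ⊔ K ∧ ¬ H ⊓ Subgroup.normalizer (U : Set G) ≤ M ∧
      K ≤ Cfsg.fittingOf (H ⊓ Mstar) ∧ Cfsg.IsComplIn (H ⊓ Mstar) (Cfsg.sigmaCore H) H := by
  have h : BGTypeP.TypeP M K := ⟨hG, hM, hKU.hall, hK1⟩
  have hp : BGTypeP.Pair M K Mstar := ⟨h, ⟨hG, hMstar, hKstH, h.Ks_ne⟩, hKst.symm⟩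
  set R₀ := (R : Subgroup U).map U.subtype
  have hR : ∀ S : Sylow r U, (S : Subgroup U).map U.subtype = R₀ := fun S => by
    obtain ⟨R', A', -, hR', -⟩ := BGTypeP.exists_omega h hKU hr
    exact (hR' S).trans (hR' R).symm
  obtain ⟨ho, hrH⟩ := BGTypeP.exists_over_normalizer hp hKU hU1 hr hR hH hNR
  have hUσ := BGTypeP.U_le_sigmaCore hp hKU hU1 hr hR hH hNR
  refine ⟨ho.kappa, hUσ, BGTypeP.inf_eq_U_sup_K hp hKU hU1 ho hUσ,
    BGTypeP.not_normalizer_le hp hKU hU1 ho hUσ, ?_⟩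
  have hKp := BGTypeP.card_K_prime h hKU hU1
  have hKσ : PiNat (Cfsg.sigma H)ᶜ (Nat.card K) := fun q hq hd =>
    ho.disjoint_L hp (BGTypeP.mem_sigma_K hp hq hd)
  obtain ⟨E, hE, hEc, hKE⟩ := BGTypeP.exists_compl_ge hG hH ho.K_le hKσ
  have hc := BGTypeP.le_centralizer_commutator hp hKU hU1 hr hR hNR ho hUσ hEc hE hKE
  obtain ⟨x, hx, hx1⟩ := K.bot_or_exists_ne_one.resolve_left hK1
  have hKx : K = zpowers x := (eq_of_le_of_card_ge (zpowers_le.2 hx) (le_of_eq (by
    rw [Nat.card_zpowers]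
    exact ((hKp.eq_one_or_self_of_dvd _ (K.orderOf_dvd_natCard hx)).resolve_left
      (by simpa using hx1)).symm))).symm
  have hxL : x ∈ Ks Mstar (Ks M K) := hp.eq.symm ▸ hx
  haveI : IsMulCommutative K := by rw [hKx]; infer_instance
  set T := K ⊔ ⁅E, E⁆
  have hTE : T ≤ E := sup_le hKE (commutator_le_self E)
  have hTn : E ≤ normalizer (T : Set G) :=
    le_normalizer_iff_commutator_le_left.2 ((commutator_mono hTE le_rfl).trans le_sup_right)
  have hDc : IsMulCommutative ↥⁅E, E⁆ := (S1420.result hG H hH E hEc).2.1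
  have hKK : K ≤ centralizer (K : Set G) := fun k hk => mem_centralizer_iff.2 fun u hu =>
    PGroupsBasic.comm_of_isMulCommutative (H := K) inferInstance hu hk
  have hDD : ⁅E, E⁆ ≤ centralizer ((⁅E, E⁆ : Subgroup G) : Set G) := fun d hd =>
    mem_centralizer_iff.2 fun u hu => PGroupsBasic.comm_of_isMulCommutative hDc hu hd
  have hTK : T ≤ centralizer (K : Set G) := sup_le hKK hc
  have hTD : T ≤ centralizer ((⁅E, E⁆ : Subgroup G) : Set G) :=
    sup_le (le_centralizer_iff.1 hc) hDD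
  have hTT : T ≤ centralizer (T : Set G) :=
    sup_le (le_centralizer_iff.1 hTK) (le_centralizer_iff.1 hTD)
  haveI hTc : IsMulCommutative T :=
    ⟨⟨fun a b => Subtype.ext (mem_centralizer_iff.1 (hTT b.2) a a.2)⟩⟩
  haveI : Group.IsNilpotent T :=
    @CommGroup.isNilpotent T { (inferInstance : Group T) with mul_comm := hTc.is_comm.comm }
  haveI := (Fact.mk hKp)
  have hxq : orderOf x = Nat.card K := by rw [hKx, Nat.card_zpowers]
  set Q := BGFittingUnique.Oc (Nat.card K) T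
  have hQT : Q ≤ T := BGFittingUnique.Oc_le _ T
  have hEQ : E ≤ normalizer (Q : Set G) := hTn.trans (BGFittingUnique.normalizer_le_Oc _ T)
  have hTcomm : ∀ t ∈ T, t ∈ centralizer ({x} : Set G) := fun t ht =>
    mem_centralizer_singleton_iff.2 (PGroupsBasic.comm_of_isMulCommutative hTc ht (mem_sup_left hx))
  have hxQ : x ∈ Q := BGFittingUnique.le_Oc (zpowers_le.2 (mem_sup_left hx))
    (fun t ht => centralizer_le_normalizer _ (mem_centralizer_iff.2 fun y hy =>
      PGroupsBasic.comm_of_isMulCommutative hTc (zpowers_le.2 (mem_sup_left hx) hy) ht))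
    (IsPGroup.of_card (n := 1) (by rw [Nat.card_zpowers, hxq, pow_one])) (mem_zpowers x)
  have hQp := BGFittingUnique.isPGroup_Oc (Nat.card K) T
  have hQL : Q ≤ Mstar := fun z hz => hp.right.centralizer_le hxL hx1 (hTcomm z (hQT hz))
  have hEL : E ≤ Mstar := by
    by_cases hQc : IsCyclic Q
    · intro e he
      have heN : e ∈ normalizer (K : Set G) := by
        refine SFTSigma.mem_normalizer_of_map_conj_eq ?_
        refine PGroupsCyclic.eq_of_card_eq_of_isCyclic hQc ?_ (hKx ▸ zpowers_le.2 hxQ) (card_cj e K)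
        rw [← SFTSigma.map_conj_eq_of_mem_normalizer (hEQ he), hKx]
        exact map_mono (zpowers_le.2 hxQ)
      refine inv_mem_iff.1 (hp.right.mem_of_conj_mem hxL hx1 (g := e⁻¹) (mem_cj.2 ?_))
      rw [inv_inv]
      exact Ks_le Mstar (Ks M K) (hp.eq.symm ▸ (mem_normalizer_iff.1 heN x).1 hx)
    · obtain ⟨E', -, hE'c, -⟩ := BGTypeP.exists_compl_ge hG hMstar (Y := ⊥) bot_le
        (by simpa using piNat_one _)
      exact hEQ.trans ((S1420.result hG Mstar hMstar E' hE'c).2.2.1 _ Q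
        (BGTypeP.mem_sigma_K hp hKp dvd_rfl) hQp hQL hQc)
  -- E = H ⊓ M*
  have hEeq : H ⊓ Mstar = E := by
    refine le_antisymm (fun z hz => ?_) (le_inf hE.1 hEL)
    obtain ⟨e, he, s, hs, rfl⟩ := hEc.2.2.2 z hz.1
    have hsL : s ∈ Mstar := by
      have := Mstar.mul_mem (Mstar.inv_mem (hEL he)) hz.2
      rwa [inv_mul_cancel_left] at this
    suffices hs1 : s = 1 by rw [hs1, mul_one]; exact he
    set D := H ⊓ Mstar
    have hn1 : D ≤ normalizer ((D ⊓ Cfsg.sigmaCore H : Subgroup G) : Set G) :=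
      inf_le_normalizer ((inf_le_left : D ≤ H).trans (BGFinal72.le_normalizer_sigmaCore H))
    have hn2 : D ≤ normalizer ((D ⊓ Cfsg.sigmaCore Mstar : Subgroup G) : Set G) :=
      inf_le_normalizer ((inf_le_right : D ≤ Mstar).trans (BGFinal72.le_normalizer_sigmaCore Mstar))
    have hbot : (D ⊓ Cfsg.sigmaCore H) ⊓ (D ⊓ Cfsg.sigmaCore Mstar) = ⊥ :=
      inf_eq_bot_of_piNat (π := Cfsg.sigma H)
        ((BGTypeP.piNat_sigmaCore H).of_dvd (card_dvd_of_le inf_le_right))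
        (((BGTypeP.piNat_sigmaCore Mstar).of_dvd (card_dvd_of_le inf_le_right)).mono
          fun q hq => ho.disjoint_L hp hq)
    have hcomm : Commute s x := BGTypeP.commute_of_normalizes (inf_le_left.trans hn2)
      (inf_le_left.trans hn1) hbot ⟨⟨BGFinal72.sigmaCore_le H hs, hsL⟩, hs⟩
      ⟨⟨ho.K_le hx, BGFinal72.sigmaCore_le Mstar hxL.1⟩, hxL.1⟩
    have hmem : s ∈ Cfsg.sigmaCore H ⊓ centralizer ({x} : Set G) :=
      ⟨hs, mem_centralizer_singleton_iff.2 hcomm.eq⟩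
    rw [ho.fpf x hx hx1, mem_bot] at hmem
    exact hmem
  rw [hEeq]
  refine ⟨?_, hEc⟩
  haveI : (T.subgroupOf E).Normal := normal_subgroupOf_of_le_normalizer hTn
  have hle : T.subgroupOf E ≤ Cfsg.fittingSubgroup E := ComponentsCores.le_fitting
    (Group.nilpotent_of_surjective (subgroupOfEquivOfLe hTE).symm.toMonoidHom
      (MulEquiv.surjective _))
  intro k hk
  exact ⟨⟨k, hKE hk⟩, hle (mem_sup_left hk : k ∈ T), rfl⟩

end Cfsg.Agent.S1435
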