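import Cfsg.Statements.S1363
import Mathlib
import Cfsg.Agent.Lib.BGFinalU72
import Cfsg.Agent.S1366
import Cfsg.Agent.S1435

set_option autoImplicit false
open Cfsg

namespace Cfsg.Agent.S1363

/-- Let G be a minimal simple group of odd order and M a maximal subgroup with standard factorisation M = K U M_σ and K ≠ 1. Then U is abelian and the normalizer of U in G is not contained in M. -/
theorem result {G : Type*} [Group G] [Finite G] (hG : Cfsg.IsMinSimpleOddOrder G)
    (M : Subgroup G) (hM : IsCoatom M) (K U : Subgroup G) (hKU : Cfsg.IsSigmaDecomposition M K U) (hK1 : K ≠ ⊥) :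
    IsMulCommutative U ∧ ¬ Subgroup.normalizer (U : Set G) ≤ M := by
  refine ⟨BGFinal72.U_isMulCommutative hG hM hKU hK1, ?_⟩
  by_cases hU : U = ⊥
  · intro h
    refine hM.1 (top_le_iff.1 (le_trans (le_of_eq ?_) h))
    rw [hU, eq_comm, Subgroup.normalizer_eq_top_iff]
    infer_instance
  obtain ⟨Ms, ⟨hMs, h1, h2⟩, -⟩ := S1366.result hG M hM K U hKU hK1
  obtain ⟨r, hr, hrd⟩ := Nat.exists_prime_and_dvd
    (show Nat.card U ≠ 1 from fun h => hU ((Subgroup.eq_bot_iff_card _).2 h))
  haveI := Fact.mk hr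
  obtain ⟨R⟩ : Nonempty (Sylow r U) := inferInstance
  have hR1 : (R : Subgroup U).map U.subtype ≠ ⊥ := by
    rw [Ne, Subgroup.eq_bot_iff_card, Subgroup.card_map_of_injective U.subtype_injective,
      R.card_eq_multiplicity]
    exact (Nat.one_lt_pow (hr.factorization_pos_of_dvd Nat.card_pos.ne' hrd).ne' hr.one_lt).ne'
  have hRp : IsPGroup r ((R : Subgroup U).map U.subtype) := R.isPGroup'.map _
  obtain ⟨H, hH, hHN⟩ := BGUnique.exists_coatom_ge (BGSigma.normalizer_ne_top' hG hR1
    (BGTransitivity.qgroup_ne_top hG hRp))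
  exact fun h => (S1435.result hG M hM K U hKU hK1 hU Ms hMs h1 h2 r hrd R H hH hHN).2.2.2.1
    (inf_le_right.trans h)

end Cfsg.Agent.S1363
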