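import Cfsg.Statements.S1358
import Mathlib
import Cfsg.Agent.Lib.BGFinalBasic72
import Cfsg.Agent.S1350
import Cfsg.Agent.S1420

set_option autoImplicit false
open Cfsg

namespace Cfsg.Agent.S1358

/-- Let G be a minimal simple group of odd order and M a maximal subgroup with standard factorisation M = K U M_σ. Then for every prime p, every Sylow p-subgroup of U is abelian and has no elementary abelian subgroup of order p ^ 3. -/
theorem result {G : Type*} [Group G] [Finite G] (hG : Cfsg.IsMinSimpleOddOrder G)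
    (M : Subgroup G) (hM : IsCoatom M) (K U : Subgroup G) (hKU : Cfsg.IsSigmaDecomposition M K U) :
    ∀ (p : ℕ), p.Prime → ∀ P : Sylow p U, IsMulCommutative (P : Subgroup U) ∧ Cfsg.PRankLE p 2 (P : Subgroup U) := by
  intro p hp P
  haveI := Fact.mk hp
  have hσ := (S1350.result hG M hM).1
  have hUM := BGFinal72.U_le hKU
  set Q := (P : Subgroup U).map U.subtype with hQ
  have hQU : Q ≤ U := Subgroup.map_subtype_le _
  have e := (P : Subgroup U).equivMapOfInjective U.subtype U.subtype_injective
  by_cases hP1 : (P : Subgroup U) = ⊥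
  · constructor
    · refine ⟨⟨fun a b => Subtype.ext ?_⟩⟩
      have ha : (a : U) = 1 := Subgroup.mem_bot.1 (hP1 ▸ a.2)
      have hb : (b : U) = 1 := Subgroup.mem_bot.1 (hP1 ▸ b.2)
      simp [ha, hb]
    · intro E _ _
      refine le_trans (Subgroup.card_le_card_group E) ?_
      rw [(Subgroup.eq_bot_iff_card _).1 hP1]
      exact Nat.one_le_pow _ _ hp.pos
  have hpU : p ∣ Nat.card U := P.dvd_card_of_dvd_card (by
    by_contra hnd
    apply hP1
    rw [Subgroup.eq_bot_iff_card, P.card_eq_multiplicity, Nat.factorization_eq_zero_of_not_dvd hnd,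
      pow_zero]) |>.trans (Subgroup.card_subgroup_dvd_card _)
  obtain ⟨hps, -⟩ := BGFinal72.U_prime hσ hKU hp hpU
  constructor
  · obtain ⟨E, -, hE⟩ := BGFinal72.exists_complIn hσ.1 (BGFinal72.le_normalizer_sigmaCore M)
      (BGFinal72.coprime_relIndex_of_hall hσ)
    have h1 := (S1420.result hG M hM E hE).1 Q (hQU.trans hUM) (P.isPGroup'.map _).isNilpotent
      (fun q hq hd => by
        obtain ⟨k, hk⟩ := IsPGroup.iff_card.1 (P.isPGroup'.map U.subtype)
        rw [hk] at hd
        exact (Nat.prime_dvd_prime_iff_eq hq hp).1 (hq.dvd_of_dvd_pow hd) ▸ hps)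
    exact ⟨⟨fun a b => e.injective (by rw [map_mul, map_mul]; exact h1.1.comm (e a) (e b))⟩⟩
  · have hr : Cfsg.PRankLE p 2 M := by_contra fun h => hps (BGSigma.alpha_subset_sigma hG hM ⟨hp, h⟩)
    exact BGRankTwo.pRankLE_of_injective ((Subgroup.inclusion hUM).comp (P : Subgroup U).subtype)
      ((Subgroup.inclusion_injective hUM).comp (P : Subgroup U).subtype_injective) hr

end Cfsg.Agent.S1358
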