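import Cfsg.Statements.S1371
import Mathlib
import Cfsg.Agent.Lib.BGTypePCyclic

set_option autoImplicit false
open Cfsg

namespace Cfsg.Agent.S1371

open scoped Pointwise commutatorElement

open Subgroup Cfsg.Agent.HallCore Cfsg.Agent.BGTypeP

/-- Let G be a minimal simple group of odd order, M a maximal subgroup with standard factorisation M = K U M_σ, K ≠ 1, K* = M_σ ∩ C_G(K), and Ẑ the set of elements of K K* outside K ∪ K*. Then the union of the M-conjugates of Ẑ equals A₀(M) with A(M) removed, and it is a TI-subset of G. -/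
theorem result {G : Type*} [Group G] [Finite G] (hG : Cfsg.IsMinSimpleOddOrder G)
    (M : Subgroup G) (hM : IsCoatom M) (K U : Subgroup G) (hKU : Cfsg.IsSigmaDecomposition M K U) (hK1 : K ≠ ⊥) :
    {a : G | ∃ m ∈ M, ∃ z ∈ ((↑(K ⊔ (Cfsg.sigmaCore M ⊓ Subgroup.centralizer (K : Set G))) : Set G) \ ((K : Set G) ∪ ↑(Cfsg.sigmaCore M ⊓ Subgroup.centralizer (K : Set G)))), a = m * z * m⁻¹} = Cfsg.sigmaA0 M K \ Cfsg.sigmaA M U ∧
      Cfsg.IsTISubset (Cfsg.sigmaA0 M K \ Cfsg.sigmaA M U) := by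
  have h : BGTypeP.TypeP M K := ⟨hG, hM, hKU.hall, hK1⟩
  have hσ := BGTypeP.hall hG hM
  have hN : M ≤ normalizer ((U ⊔ Cfsg.sigmaCore M : Subgroup G) : Set G) :=
    (S1352.result hG M hM K h.K_cyclic h.hall).2 U hKU
  have hcU : PiNat (Cfsg.kappa M)ᶜ (Nat.card ↥(U ⊔ Cfsg.sigmaCore M)) := by
    rw [BGFinal72.card_U_sigma hσ hKU]
    exact PiNat.mul (fun q hq hd => (BGFinal72.U_prime hσ hKU hq hd).2)
      ((BGTypeP.piNat_sigmaCore M).mono fun q hq hk => hk.2.2.1 hq)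
  have hset : {a : G | ∃ m ∈ M, ∃ z ∈ Zh M K, a = m * z * m⁻¹} =
      Cfsg.sigmaA0 M K \ Cfsg.sigmaA M U := by
    ext a
    constructor
    · rintro ⟨m, hm, z, hz, rfl⟩
      obtain ⟨k, hk, y, hy, hk1, hy1, rfl⟩ := h.mem_Zh.1 hz
      have hyσ := piNat_orderOf (piNat_Ks M K) hy
      have hkσ := piNat_orderOf h.piNat_K hk
      refine ⟨⟨⟨M.mul_mem (M.mul_mem hm (h.Z_le hz.1)) (M.inv_mem hm), m * y * m⁻¹,
        (mem_normalizer_iff.1 (BGFinal72.le_normalizer_sigmaCore M hm) y).1 hy.1,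
        fun e => hy1 (conj_eq_one_iff.1 e), ?_⟩, ?_⟩, ?_⟩
      · exact (((commute_K_Ks hk hy).mul_left (Commute.refl y)).map (MulAut.conj m).toMonoidHom).eq
      · rintro ⟨k', hk', -, n, -, e⟩
        have h1 : PiNat (Cfsg.sigma M)ᶜ (orderOf (k * y)) := by
          rw [← orderOf_conj m, e, orderOf_conj]
          exact piNat_orderOf h.piNat_K hk'
        obtain ⟨i, hi⟩ := mem_zpowers_iff.1 (mem_zpowers_mul_right (commute_K_Ks hk hy)
          (PiNat.coprime hyσ hkσ).symm)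
        exact hy1 (eq_one_of_piNat hyσ (h1.of_dvd
          (orderOf_dvd_of_mem_zpowers (mem_zpowers_iff.2 ⟨i, hi⟩))))
      · rintro ⟨-, hU⟩
        have h1 : PiNat (Cfsg.kappa M)ᶜ (orderOf (k * y)) := by
          rw [← orderOf_conj m]
          exact piNat_orderOf hcU hU
        exact hk1 (eq_one_of_piNat (piNat_orderOf h.hall.2.1 hk) (h1.of_dvd
          (orderOf_dvd_of_mem_zpowers (mem_zpowers_mul (commute_K_Ks hk hy)
            (PiNat.coprime hyσ hkσ).symm))))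
    · rintro ⟨⟨⟨haM, y, hy, hy1, hay⟩, hnK⟩, hnA⟩
      obtain ⟨a₁, a₂, ha₁, ha₂, e, hκ₁, hκ₂⟩ := exists_decomp (Cfsg.kappa M) a
      have hM₁ : a₁ ∈ M := zpowers_le.2 haM ha₁
      have ha₁1 : a₁ ≠ 1 := by
        intro e1
        rw [e1, one_mul] at e
        refine hnA ⟨⟨haM, y, hy, hy1, hay⟩, ?_⟩
        refine BGFinal72.le_U_sigma hσ hKU hN (zpowers_le.2 haM)
          (fun q hq hd => ?_) (mem_zpowers a)
        rw [Nat.card_zpowers] at hd
        exact hκ₂ q hq (e.symm ▸ hd)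
      obtain ⟨m, hm, hle⟩ := le_conj_hallOf (BGTypeP.solvable hG hM) hKU.hall
        (U := zpowers a₁) (zpowers_le.2 hM₁) (by rwa [Nat.card_zpowers])
      have hk : m⁻¹ * a₁ * m ∈ K := mem_cj.1 (hle (mem_zpowers a₁))
      have hz : m⁻¹ * a * m ∈ Zs M K := by
        have hk1 : m⁻¹ * a₁ * m ≠ 1 := fun e1 => ha₁1 (by
          have := congrArg (fun t => m * t * m⁻¹) e1
          simpa [mul_assoc] using this)
        rw [← h.centralizer_K hk hk1]
        refine ⟨M.mul_mem (M.mul_mem (M.inv_mem hm) haM) hm, mem_centralizer_singleton_iff.2 ?_⟩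
        have hc := ((commute_of_mem_zpowers (mem_zpowers a) ha₁).map
          (MulAut.conj m⁻¹).toMonoidHom).eq
        simpa using hc
      obtain ⟨k, hk', w, hw, e'⟩ := mem_Z.1 hz
      refine ⟨m, hm, m⁻¹ * a * m, h.mem_Zh.2 ⟨k, hk', w, hw, ?_, ?_, e'⟩, by group⟩
      · intro hk1
        rw [hk1, one_mul] at e'
        have h1 : PiNat (Cfsg.kappa M)ᶜ (orderOf a) := by
          rw [← orderOf_conj m⁻¹ a, inv_inv, e']
          exact (piNat_orderOf (piNat_Ks M K) hw).mono fun q hq hq' => hq'.2.2.1 hq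
        exact ha₁1 (eq_one_of_piNat hκ₁ (h1.of_dvd (orderOf_dvd_of_mem_zpowers ha₁)))
      · intro hw1
        rw [hw1, mul_one] at e'
        refine hnK ⟨k, hk', fun hk1 => ?_, m, hm, by rw [← e']; group⟩
        rw [hk1] at e'
        have ea : a = 1 := by simpa [mul_assoc] using congrArg (fun t => m * t * m⁻¹) e'
        rw [ea, zpowers_one_eq_bot, mem_bot] at ha₁
        exact ha₁1 ha₁
  refine ⟨hset, ?_⟩
  rw [← hset]
  have hnorm : M ≤ normalizer {a : G | ∃ m ∈ M, ∃ z ∈ Zh M K, a = m * z * m⁻¹} := by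
    intro g hg
    refine mem_set_normalizer_iff.2 fun x => ⟨?_, ?_⟩
    · rintro ⟨m, hm, z, hz, rfl⟩
      exact ⟨g * m, M.mul_mem hg hm, z, hz, by group⟩
    · rintro ⟨m, hm, z, hz, e⟩
      refine ⟨g⁻¹ * m, M.mul_mem (M.inv_mem hg) hm, z, hz, ?_⟩
      calc x = g⁻¹ * (g * x * g⁻¹) * g := by group
        _ = g⁻¹ * (m * z * m⁻¹) * g := by rw [e]
        _ = _ := by group
  rintro g hg x ⟨m, hm, z, hz, rfl⟩ ⟨n, hn, z', hz', e⟩
  refine absurd (hnorm ?_) hg
  have e' : (n⁻¹ * g * m) * z * (n⁻¹ * g * m)⁻¹ = z' := by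
    calc (n⁻¹ * g * m) * z * (n⁻¹ * g * m)⁻¹
        = n⁻¹ * (g * (m * z * m⁻¹) * g⁻¹) * n := by group
      _ = n⁻¹ * (n * z' * n⁻¹) * n := by rw [e]
      _ = z' := by group
  have := M.mul_mem (M.mul_mem hn (h.Z_le (h.mem_Z_of_conj hz (e'.symm ▸ hz')))) (M.inv_mem hm)
  simpa [mul_assoc] using this

end Cfsg.Agent.S1371
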