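import Cfsg.Statements.S1391
import Cfsg.Agent.Lib.BGTypeSets
import Cfsg.Agent.Lib.BGFinalBasic72
import Cfsg.Agent.S0035
import Cfsg.Agent.S0042
import Cfsg.Agent.S1375
import Cfsg.Agent.S1376
import Cfsg.Agent.S1378
import Cfsg.Agent.S1436
import Cfsg.Agent.S1438

set_option autoImplicit false
open Cfsg

namespace Cfsg.Agent.S1391

open BGTypeBasic FittingHallBasic BGTypeSetup BGTypeForward BGTypeSets
open scoped Pointwise

variable {G : Type*} [Group G] [Finite G] {M : Subgroup G}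

/-- A prime order element of `M` outside sigma with a fixed point: impossible without kappa and tau2. -/
theorem no_fixed (hG : Cfsg.IsMinSimpleOddOrder G) (hM : IsCoatom M) (hκ : Cfsg.kappa M = ∅)
    (hτ : Cfsg.tau2 M = ∅) {a y : G} (ha : a ∈ M) (hy : y ∈ Cfsg.sigmaCore M) (hy1 : y ≠ 1)
    (hay : a * y = y * a) : a ∈ Cfsg.sigmaCore M := by
  refine sigma_element_mem hG hM ha fun q hq hd => ?_
  by_contra hqσ
  have hk : q ∉ Cfsg.kappa M := by rw [hκ]; exact id
  have h := BGFinal72.mem_tau2_of_fixed hG hM hq hqσ hk (M.pow_mem ha (orderOf a / q))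
    (orderOf_pow_orderOf_div (orderOf_pos a).ne' hd) hy hy1 ((show Commute a y from hay).pow_left _).eq
  rw [hτ] at h
  exact h

/-- Fusion in a TI-set invariant under `M`. -/
theorem fusion_TI (hG : Cfsg.IsMinSimpleOddOrder G) (hM : IsCoatom M) {T : Set G}
    (hT : Cfsg.IsTISubset T) (hTM : T ⊆ M) (hn : M ≤ Subgroup.normalizer T)
    {x g : G} (hx : x ∈ T) (hgx : g * x * g⁻¹ ∈ T) (hx1 : x ≠ 1) : g ∈ M := by
  have hg : g ∈ Subgroup.normalizer T := by_contra fun h => hx1 (hT g h x hx hgx)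
  have hD : Subgroup.closure T ≠ ⊥ := fun h =>
    hx1 (Subgroup.mem_bot.mp (h ▸ Subgroup.subset_closure hx))
  have hle : Subgroup.normalizer T ≤ Subgroup.normalizer ((Subgroup.closure T : Subgroup G) : Set G) := by
    intro c hc
    rw [Subgroup.mem_normalizer_iff_map_conj_eq, MonoidHom.map_closure]
    congr 1
    exact Subgroup.mem_normalizer_iff_conj_image_eq.mp hc
  rw [← normalizer_eq_of_normal hG hM hD ((Subgroup.closure_le _).mpr hTM) (hn.trans hle)]
  exact hle hg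

theorem frobenius_kernel_eq {X : Type*} [Group X] [Finite X] {E : Subgroup X}
    (hE : Cfsg.IsFrobeniusComplement E) :
    Cfsg.frobeniusKernel E = ((Cfsg.fittingHall X : Subgroup X) : Set X) := by
  obtain ⟨N, hN, hNn, hNc⟩ := S0035.result E hE
  obtain ⟨N', hN', -, hN'nil⟩ := S0042.result E hE
  have hNN : N' = N := SetLike.coe_injective (hN'.trans hN.symm)
  subst hNN
  haveI := hNn
  have hcopE : (Nat.card E).Coprime (Nat.card N') := by
    rw [← hNc.index_eq_card]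
    exact FrobeniusBasic.coprime_card_index hE
  have hle : N' ≤ Cfsg.fittingHall X := by
    refine FittingHallBasic.le_fittingHall hNn hN'nil ?_
    rw [hNc.symm.index_eq_card]
    exact hcopE.symm
  rw [← hN]
  congr 1
  refine le_antisymm hle fun f hf => ?_
  by_contra hfN
  have hf' : f ∉ Cfsg.frobeniusKernel E := by rw [← hN]; exact hfN
  simp only [Cfsg.frobeniusKernel, Set.mem_setOf_eq, not_or, not_forall, not_not] at hf'
  obtain ⟨hf1, c, hc⟩ := hf'
  rw [mem_conj_smul] at hc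
  set e := c⁻¹ * f * c with he
  have he1 : e ≠ 1 := fun h => hf1 (by
    have := congrArg (fun t => c * t * c⁻¹) h
    simpa [he, mul_assoc] using this)
  have heF : e ∈ Cfsg.fittingHall X := by
    simpa [he] using (Cfsg.fittingHall_normal X).conj_mem f hf c⁻¹
  haveI := FittingHallBasic.fittingHall_isNilpotent (G := X)
  have hN1 : N' ≤ E := fun n hn => by
    refine FrobeniusBasic.centralizer_le hE hc he1 ?_
    rw [Subgroup.mem_centralizer_singleton_iff]
    have h := FittingHallBasic.commute_of_coprime_orderOf (a := (⟨n, hle hn⟩ : Cfsg.fittingHall X))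
      (b := ⟨e, heF⟩) (by
        rw [Subgroup.orderOf_mk, Subgroup.orderOf_mk]
        exact (hcopE.symm.coprime_dvd_left (Subgroup.orderOf_dvd_natCard _ hn)).coprime_dvd_right
          (Subgroup.orderOf_dvd_natCard _ hc))
    exact congrArg Subtype.val h.eq
  have hbot : N' = ⊥ := le_bot_iff.mp (hNc.disjoint le_rfl hN1)
  subst hbot
  exact hE.2.1 (Subgroup.isComplement'_bot_left.mp hNc)

/-- Let G be a minimal simple group of odd order, M a maximal subgroup, X = A(M) or A₀(M), and D the set of x ∈ X with C_G(x) not contained in M. Then two elements of X conjugate in G are conjugate in M; D ⊆ A₁(M) and for x ∈ D the centralizer C_G(x) lies in exactly one maximal subgroup; and for x ∈ D and the maximal subgroup L containing C_G(x): M ∩ L complements L_F in L, C_M(x) complements the normal subgroup C_{L_F}(x) of C_G(x), the order of L_F is coprime to that of C_M(y) for every y ∈ X, x ∈ A(L) but x ∉ A₁(L), L is of Type I or II,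 and if L is of Type II then M is a Frobenius group with kernel M_F. -/
theorem result {G : Type*} [Group G] [Finite G] (hG : Cfsg.IsMinSimpleOddOrder G)
    (M : Subgroup G) (hM : IsCoatom M) (X : Set G) (hX : X = Cfsg.typeA M ∨ X = Cfsg.typeA0 M) :
    (∀ x ∈ X, ∀ g : G, g * x * g⁻¹ ∈ X → ∃ m ∈ M, m * x * m⁻¹ = g * x * g⁻¹) ∧
      (∀ x ∈ X, ¬ Subgroup.centralizer ({x} : Set G) ≤ M → x ∈ Cfsg.typeA1 M ∧ ∃! L : Subgroup G, IsCoatom L ∧ Subgroup.centralizer ({x} : Set G) ≤ L) ∧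
      ∀ x ∈ X, ¬ Subgroup.centralizer ({x} : Set G) ≤ M → ∀ L : Subgroup G, IsCoatom L → Subgroup.centralizer ({x} : Set G) ≤ L →
        Cfsg.IsComplIn (Cfsg.fittingHallOf L) (M ⊓ L) L ∧
        Subgroup.centralizer ({x} : Set G) ≤ Subgroup.normalizer ((Cfsg.fittingHallOf L ⊓ Subgroup.centralizer ({x} : Set G) : Subgroup G) : Set G) ∧
        Cfsg.IsComplIn (Cfsg.fittingHallOf L ⊓ Subgroup.centralizer ({x} : Set G)) (M ⊓ Subgroup.centralizer ({x} : Set G)) (Subgroup.centralizer ({x} : Set G)) ∧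
        (∀ y ∈ X, (Nat.card (Cfsg.fittingHallOf L)).Coprime (Nat.card ↥(M ⊓ Subgroup.centralizer ({y} : Set G)))) ∧
        (x ∈ Cfsg.typeA L ∧ x ∉ Cfsg.typeA1 L) ∧
        (Cfsg.IsOfTypeI L ∨ Cfsg.IsOfTypeII L) ∧
        (Cfsg.IsOfTypeII L → ∃ E : Subgroup ↥M, Cfsg.IsFrobeniusComplement E ∧ Cfsg.frobeniusKernel E = ((Cfsg.fittingHall ↥M : Subgroup ↥M) : Set ↥M)) := by
  obtain ⟨K, U, hKU⟩ := exists_decomp hG hM
  set W := Cfsg.sigmaCore M ⊓ Subgroup.centralizer (K : Set G) with hW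
  set Z : Set G := {v | ∃ m ∈ M, ∃ z ∈ ((↑(K ⊔ W) : Set G) \ ((K : Set G) ∪ ↑W)), v = m * z * m⁻¹} with hZ
  have hA := typeA_eq hG hM hKU
  have hclass : ∀ a ∈ X, a ∈ M ∧ a ≠ 1 ∧
      ((a ∈ Cfsg.sigmaCore M) ∨ (a ∈ Cfsg.sigmaA M U ∧ a ∉ Cfsg.sigmaCore M) ∨ (K ≠ ⊥ ∧ a ∈ Z)) := by
    intro a ha
    have hA' : a ∈ Cfsg.typeA M → a ∈ M ∧ a ≠ 1 ∧
        ((a ∈ Cfsg.sigmaCore M) ∨ (a ∈ Cfsg.sigmaA M U ∧ a ∉ Cfsg.sigmaCore M) ∨ (K ≠ ⊥ ∧ a ∈ Z)) := by
      intro h
      rw [hA] at h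
      refine ⟨h.1.1.1, h.2, ?_⟩
      by_cases hσ : a ∈ Cfsg.sigmaCore M
      · exact Or.inl hσ
      · exact Or.inr (Or.inl ⟨h.1, hσ⟩)
    rcases hX with rfl | rfl
    · exact hA' ha
    by_cases hK : K = ⊥
    · rw [typeA0_eq_of_K_bot hG hM hKU hK] at ha
      exact hA' ha
    · rw [typeA0_eq_of_K_ne hG hM hKU hK] at ha
      rcases ha with h | h
      · exact hA' h
      · obtain ⟨m, hm, z, hz, rfl⟩ := h
        refine ⟨?_, ?_, Or.inr (Or.inr ⟨hK, m, hm, z, hz, rfl⟩)⟩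
        · exact M.mul_mem (M.mul_mem hm (sup_le (K_le hKU) (inf_le_left.trans (sigmaCore_le M)) hz.1))
            (M.inv_mem hm)
        · intro h1
          have : z = 1 := by simpa using h1
          exact hz.2 (Or.inl (this ▸ K.one_mem))
  -- the three classes are told apart by element orders
  have hP1 : ∀ a ∈ Cfsg.sigmaCore M, ∀ q : ℕ, q.Prime → q ∣ orderOf a → q ∈ Cfsg.sigma M :=
    fun a ha q hq hd => mem_sigma_of_dvd hG hM hq (hd.trans (Subgroup.orderOf_dvd_natCard _ ha))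
  have hsigmaA : ∀ a ∈ Cfsg.sigmaA M U, ∀ q : ℕ, q.Prime → q ∣ orderOf a → q ∉ Cfsg.kappa M :=
    fun a ha q hq hd => not_kappa_of_mem_sup hG hM hKU ha.2 hq hd
  have hordc : ∀ (g a : G), orderOf (g * a * g⁻¹) = orderOf a := fun g a =>
    orderOf_injective (MulAut.conj g).toMonoidHom (MulAut.conj g).injective a
  have part2 : ∀ x ∈ X, ¬ Subgroup.centralizer ({x} : Set G) ≤ M → x ∈ Cfsg.sigmaCore M ∧ x ≠ 1 := by
    intro x hx hxM
    obtain ⟨-, hx1, h | ⟨h, hσ⟩ | ⟨hK, m, hm, z, hz, rfl⟩⟩ := hclass x hx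
    · exact ⟨h, hx1⟩
    · exact absurd (centralizer_le_of_mem_sigmaA hG hM hKU h hσ) hxM
    · exact absurd (of_mem_conjZ hG hM hKU hK hm hz).1 hxM
  refine ⟨fun x hx g hgx => ?_, fun x hx hxM => ?_, fun x hx hxM L hL hxL => ?_⟩
  · -- fusion
    obtain ⟨hxM, hx1, hcx⟩ := hclass x hx
    obtain ⟨hyM, hy1, hcy⟩ := hclass _ hgx
    by_cases hxσ : x ∈ Cfsg.sigmaCore M
    · have hyσ : g * x * g⁻¹ ∈ Cfsg.sigmaCore M :=
        sigma_element_mem hG hM hyM fun q hq hd => hP1 x hxσ q hq (hordc g x ▸ hd)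
      obtain ⟨n, hn, hne⟩ := (S1438.result hG M hM (Cfsg.sigmaCore M) le_rfl
        (BGSigma.sigmaCore_ne_bot hG hM) (by rw [Subgroup.relIndex_self]; exact Nat.coprime_one_right _)).2
        x hxσ g hyσ
      exact ⟨n, hn.1, hne⟩
    have hyσ : g * x * g⁻¹ ∉ Cfsg.sigmaCore M := fun h => hxσ <|
      sigma_element_mem hG hM hxM fun q hq hd => hP1 _ h q hq ((hordc g x).symm ▸ hd)
    have kap : ∀ a ∈ Z, K ≠ ⊥ → ∃ q : ℕ, q.Prime ∧ q ∈ Cfsg.kappa M ∧ q ∣ orderOf a := by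
      rintro _ ⟨m, hm, z, hz, rfl⟩ hK
      exact (of_mem_conjZ hG hM hKU hK hm hz).2
    rcases hcx with h | ⟨hxA, -⟩ | ⟨hK, hxZ⟩
    · exact absurd h hxσ
    · rcases hcy with h | ⟨hyA, -⟩ | ⟨hK, hyZ⟩
      · exact absurd h hyσ
      · refine ⟨g, fusion_TI hG hM (S1362.result hG M hM K U hKU) (fun a ha => ha.1.1.1) ?_
          ⟨hxA, hxσ⟩ ⟨hyA, hyσ⟩ hx1, rfl⟩
        intro m hm
        have key : ∀ m ∈ M, ∀ a ∈ Cfsg.sigmaA M U \ (Cfsg.sigmaCore M : Set G),
            m * a * m⁻¹ ∈ Cfsg.sigmaA M U \ (Cfsg.sigmaCore M : Set G) := by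
          rintro m hm a ⟨⟨⟨haM, w, hw, hw1, haw⟩, haS⟩, hna⟩
          refine ⟨⟨⟨M.mul_mem (M.mul_mem hm haM) (M.inv_mem hm), m * w * m⁻¹,
            conj_mem_sigmaCore hm hw, by simpa using hw1,
            ((show Commute a w from haw).map (MulAut.conj m)).eq⟩, ?_⟩, fun h => hna ?_⟩
          · have hn := (S1352.result hG M hM K hKU.cyclic hKU.hall).2 U hKU hm
            exact (Subgroup.mem_normalizer_iff.mp hn a).mp haS
          · have h2 := conj_mem_sigmaCore (M.inv_mem hm) h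
            simpa [mul_assoc] using h2
        rw [Subgroup.mem_set_normalizer_iff]
        intro a
        refine ⟨key m hm a, fun h => ?_⟩
        simpa [mul_assoc] using key m⁻¹ (M.inv_mem hm) _ h
      · obtain ⟨q, hq, hqk, hqd⟩ := kap _ hyZ hK
        exact absurd hqk (hsigmaA x hxA q hq (hordc g x ▸ hqd))
    · obtain ⟨q, hq, hqk, hqd⟩ := kap _ hxZ hK
      rcases hcy with h | ⟨hyA, -⟩ | ⟨-, hyZ⟩
      · exact absurd h hyσ
      · exact absurd hqk (hsigmaA _ hyA q hq ((hordc g x).symm ▸ hqd))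
      · obtain ⟨heq, hTI⟩ := S1371.result hG M hM K U hKU hK
        rw [← heq] at hTI
        refine ⟨g, fusion_TI hG hM hTI ?_ ?_ hxZ hyZ hx1, rfl⟩
        · rintro _ ⟨m, hm, z, hz, rfl⟩
          exact M.mul_mem (M.mul_mem hm (sup_le (K_le hKU) (inf_le_left.trans (sigmaCore_le M)) hz.1))
            (M.inv_mem hm)
        · intro m hm
          rw [Subgroup.mem_set_normalizer_iff]
          intro a
          constructor
          · rintro ⟨m', hm', z, hz, rfl⟩
            exact ⟨m * m', M.mul_mem hm hm', z, hz, by group⟩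
          · rintro ⟨m', hm', z, hz, h⟩
            refine ⟨m⁻¹ * m', M.mul_mem (M.inv_mem hm) hm', z, hz, ?_⟩
            calc a = m⁻¹ * (m * a * m⁻¹) * m := by group
              _ = m⁻¹ * m' * z * (m⁻¹ * m')⁻¹ := by rw [h]; group
  · obtain ⟨hxσ, hx1⟩ := part2 x hx hxM
    obtain ⟨N, hN, huniq, -⟩ := S1375.result hG M hM x hxσ hx1 hxM
    exact ⟨by rw [typeA1_eq hG hM]; exact ⟨hxσ, hx1⟩, N, hN, fun L hL => huniq L hL.1 hL.2⟩
  · obtain ⟨hxσ, hx1⟩ := part2 x hx hxM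
    obtain ⟨N, ⟨hN, hxN⟩, huniq, hNF, hNn, hNC, hMN, hdec⟩ := S1375.result hG M hM x hxσ hx1 hxM
    obtain rfl := huniq L hL hxL
    obtain ⟨K', U', hd⟩ := exists_decomp hG hN
    obtain ⟨hU', hxA, hxNσ⟩ := hdec K' U' hd
    have hLtype : Cfsg.IsOfTypeI L ∨ Cfsg.IsOfTypeII L := by
      by_cases hK' : K' = ⊥
      · exact Or.inl (typeI_of hG hN hd hK')
      · exact Or.inr (typeII_of hG hN hd hK' hU')
    rw [← hNF]
    refine ⟨isComplIn_swap hMN, hNn, isComplIn_swap hNC, fun y hy => ?_, ?_, hLtype, fun hII => ?_⟩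
    · refine coprime_of_primes fun q hq hqN hqy => ?_
      have hqσN := mem_sigma_of_dvd hG hN hq hqN
      have hqM : q ∣ Nat.card M := hqy.trans (Subgroup.card_dvd_of_le inf_le_left)
      obtain ⟨hκ, hτ⟩ := (S1436.result hG M hM x hxσ hx1 hxM L hN hxN).1 ⟨q, hqσN, hqM⟩
      have hqσM : q ∉ Cfsg.sigma M := by
        intro hqσ
        obtain ⟨g, hg⟩ := (S1378.result hG).2 M L hM hN ⟨q, hqσ, hqσN⟩
        refine hxNσ (sigma_element_mem hG hN (hxN ?_) fun r hr hd' => ?_)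
        · exact Subgroup.mem_centralizer_singleton_iff.mpr rfl
        · rw [hg]
          exact sigma_conj_le M g (hP1 x hxσ r hr hd')
      obtain ⟨hyM, hy1, hcy⟩ := hclass y hy
      have hyσ : y ∈ Cfsg.sigmaCore M := by
        rcases hcy with h | ⟨⟨⟨-, w, hw, hw1, hyw⟩, -⟩, -⟩ | ⟨hK, -⟩
        · exact h
        · exact no_fixed hG hM hκ hτ hyM hw hw1 hyw
        · exact absurd ((kappa_eq_empty_iff hG hM hKU).mp hκ) hK
      haveI := Fact.mk hq
      obtain ⟨⟨a, ha⟩, haord⟩ := exists_prime_orderOf_dvd_card' q hqy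
      rw [Subgroup.orderOf_mk] at haord
      have haσ := no_fixed hG hM hκ hτ ha.1 hyσ hy1 (Subgroup.mem_centralizer_singleton_iff.mp ha.2)
      exact hqσM (hP1 a haσ q hq (haord.symm ▸ dvd_refl q))
    · rw [typeA_eq hG hN hd, typeA1_eq hG hN]
      exact ⟨⟨hxA, hx1⟩, fun h => hxNσ h.1⟩
    · obtain ⟨hK', -⟩ := (typeII_iff hG hN hd).mp hII
      obtain ⟨-, ⟨E, hE, -⟩, -⟩ := S1376.result hG M hM x hxσ hx1 hxM L hN hxN
        ((kappa_nonempty_iff hG hN hd).mpr hK')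
      exact ⟨E, hE, frobenius_kernel_eq hE⟩

end Cfsg.Agent.S1391
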