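import Cfsg.Statements.S1540
import Cfsg.Agent.Lib.PF12Kappa43
import Cfsg.Agent.S1355
import Cfsg.Agent.S1364

set_option autoImplicit false
open Cfsg

namespace Cfsg.Agent.S1540

/-- Let G be a minimal simple group of odd order and M a maximal subgroup of Type I. Then every non-identity element of M_F has its centraliser in M contained in M_F (M is a Frobenius group with kernel M_F). -/
theorem result {G : Type*} [Group G] [Finite G] (hG : Cfsg.IsMinSimpleOddOrder G) (M : Subgroup G) (hM : IsCoatom M) (hI : Cfsg.IsOfTypeI M) : ∀ x ∈ Cfsg.fittingHallOf M, x ≠ 1 → M ⊓ Subgroup.centralizer ({x} : Set G) ≤ Cfsg.fittingHallOf M := by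
  refine PF12.frobenius_of_kappa hG hM ?_
  obtain ⟨K, U, hKU⟩ := PF12Sets.exists_decomp hG hM
  refine (BGTypeSetup.kappa_eq_empty_iff hG hM hKU).2 ?_
  by_contra hK
  obtain ⟨-, -, -, -, V, -, hV, -, V₀, -, hexp, hfpf⟩ := hI.1
  obtain ⟨-, hW1, hWF, -⟩ := S1364.result hG M hM K U hKU hK
  obtain ⟨y, hy, hy1⟩ := (sigmaCore M ⊓ Subgroup.centralizer (K : Set G)).bot_or_exists_ne_one.resolve_left hW1
  obtain ⟨p, hp, hpK⟩ := Nat.exists_prime_and_dvd (fun h1 => hK (K.eq_bot_of_card_eq h1))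
  haveI := Fact.mk hp
  have hcopK := BGTypeSetup.coprime_K_sigmaCore hG hM hKU
  have hpσ : ¬ p ∣ Nat.card (sigmaCore M) := fun h => hp.ne_one (Nat.eq_one_of_dvd_coprimes hcopK hpK h)
  have hpF : ¬ p ∣ Nat.card (fittingHall ↥M) := fun h => by
    rw [← FittingHallBasic.card_fittingHallOf] at h
    exact hpσ (h.trans (Subgroup.card_dvd_of_le (S1355.result hG M hM).2.1))
  have hpV : p ∣ Nat.card V := by
    have h1 : p ∣ Nat.card ↥M := hpK.trans (Subgroup.card_dvd_of_le (BGTypeSetup.K_le hKU))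
    rw [← hV.card_mul] at h1
    exact (hp.dvd_mul.mp h1).resolve_left hpF
  obtain ⟨v, hv⟩ := exists_prime_orderOf_dvd_card' (G := V) p hpV
  have hd : p ∣ Monoid.exponent V₀ := by rw [hexp, ← hv]; exact Monoid.order_dvd_exponent v
  obtain ⟨u, hu⟩ := exists_prime_orderOf_dvd_card' (G := V₀) p (hd.trans Group.exponent_dvd_nat_card)
  have huo : orderOf ((u : ↥M) : G) = p := by rw [Subgroup.orderOf_coe, Subgroup.orderOf_coe, hu]
  obtain ⟨m, hm, hmK⟩ := BGTypeBasic.exists_conj_mem_of_not_dvd_relIndex (p := p) (W := K) (M := M)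
    (by
      rw [BGTypeSetup.relIndex_K hG hM hKU, hp.dvd_mul]
      rintro (h | h)
      · exact (BGTypeSetup.U_primes hG hM hKU hp h).2 (hKU.hall.2.1 p hp hpK)
      · exact hpσ h)
    (u : ↥M).2 (IsPGroup.of_card (n := 1) (by rw [Nat.card_zpowers, huo, pow_one]))
  have hyF := BGTypeSetup.conj_mem_fittingHallOf hm (hWF hy)
  obtain ⟨y', hy', hyy⟩ := Subgroup.mem_map.1 hyF
  have hcy : m⁻¹ * ((u : ↥M) : G) * m * y = y * (m⁻¹ * ((u : ↥M) : G) * m) :=
    Subgroup.mem_centralizer_iff.1 hy.2 _ hmK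
  have hyy' : (y' : G) = m * y * m⁻¹ := hyy
  have h := hfpf (u : ↥M) u.2 (fun e => hp.ne_one (by rw [← huo, e, OneMemClass.coe_one, orderOf_one]))
    y' hy' (Subtype.ext (by
      show ((u : ↥M) : G) * (y' : G) = (y' : G) * ((u : ↥M) : G)
      rw [hyy']
      calc ((u : ↥M) : G) * (m * y * m⁻¹) = m * (m⁻¹ * ((u : ↥M) : G) * m * y) * m⁻¹ := by group
        _ = m * (y * (m⁻¹ * ((u : ↥M) : G) * m)) * m⁻¹ := by rw [hcy]
        _ = _ := by group))
  apply hy1
  rw [h, OneMemClass.coe_one] at hyy'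
  calc y = m⁻¹ * (m * y * m⁻¹) * m := by group
    _ = 1 := by rw [← hyy']; group

end Cfsg.Agent.S1540
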