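import Cfsg.Statements.S1541
import Cfsg.Agent.Lib.BGTypeForward
import Cfsg.Agent.Lib.BGTypePBase
import Cfsg.Agent.Lib.PF8Sets
import Cfsg.Agent.S1378
import Cfsg.Agent.S1379
import Cfsg.Agent.S1391
import Cfsg.Agent.S1526
import Cfsg.Agent.S1540

set_option autoImplicit false
open Cfsg

namespace Cfsg.Agent.S1541

section allTypeI
open Subgroup BGTypeP

variable {G : Type*} [Group G] [Finite G] (hG : Cfsg.IsMinSimpleOddOrder G)
  (hall : ∀ M : Subgroup G, IsCoatom M → Cfsg.IsOfTypeI M)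
include hG hall

theorem kappa_empty {M : Subgroup G} (hM : IsCoatom M) : Cfsg.kappa M = ∅ := by
  obtain ⟨K, U, hKU⟩ := BGTypeForward.exists_decomp hG hM
  exact (BGTypeSetup.kappa_eq_empty_iff hG hM hKU).2
    (BGTypeForward.eq_bot_of_typeI hG hM hKU (hall M hM)).1

theorem sigmaCore_eq {M : Subgroup G} (hM : IsCoatom M) :
    Cfsg.sigmaCore M = Cfsg.fittingHallOf M := by
  rw [← BGTypeForward.typeCore_eq_sigmaCore hG hM, PF8Sets.typeCore_eq_of_typeI (hall M hM)]

theorem mem_typeA1_of_mem_typeA {M : Subgroup G} (hM : IsCoatom M) {a : G}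
    (ha : a ∈ Cfsg.typeA M) : a ∈ Cfsg.typeA1 M := by
  have hI := hall M hM
  unfold Cfsg.typeA at ha
  rw [if_pos hI] at ha
  obtain ⟨haM, ha1, x, hx, hx1, hc⟩ := ha
  refine ⟨?_, ha1⟩
  rw [SetLike.mem_coe, PF8Sets.typeCore_eq_of_typeI hI]
  exact S1540.result hG M hM hI x hx hx1 ⟨haM, mem_centralizer_singleton_iff.2 hc⟩

theorem mem_typeA_of_mem {M : Subgroup G} (hM : IsCoatom M) {x : G}
    (hx : x ∈ Cfsg.fittingHallOf M) (hx1 : x ≠ 1) : x ∈ Cfsg.typeA M := by
  unfold Cfsg.typeA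
  rw [if_pos (hall M hM)]
  exact ⟨FittingHallBasic.fittingHallOf_le M hx, hx1, x, hx, hx1, rfl⟩

theorem centralizer_le {M : Subgroup G} (hM : IsCoatom M) {x : G}
    (hx : x ∈ Cfsg.fittingHallOf M) (hx1 : x ≠ 1) : centralizer ({x} : Set G) ≤ M := by
  by_contra hc
  have hxA := mem_typeA_of_mem hG hall hM hx hx1
  obtain ⟨-, hD, hL⟩ := S1391.result hG M hM _ (Or.inl rfl)
  obtain ⟨L, hL', -⟩ := (hD x hxA hc).2
  obtain ⟨-, -, -, -, ⟨h1, h2⟩, -⟩ := hL x hxA hc L hL'.1 hL'.2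
  exact h2 (mem_typeA1_of_mem_typeA hG hall hL'.1 h1)

theorem kernel_ti {M : Subgroup G} (hM : IsCoatom M) :
    Cfsg.IsTISubset (Cfsg.fittingHallOf M : Set G) ∧
      normalizer (Cfsg.fittingHallOf M : Set G) = M := by
  have hN : normalizer (Cfsg.fittingHallOf M : Set G) = M := by
    refine (hM.le_iff.1 (FittingHallBasic.le_normalizer_fittingHallOf M)).resolve_left ?_
    refine BGTransitivity.normalizer_ne_top hG (fun h => (hall M hM).1.2.2.1
      ((map_eq_bot_iff_of_injective _ M.subtype_injective).1 h)) fun h => ?_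
    exact hM.1 (top_le_iff.1 (h ▸ FittingHallBasic.fittingHallOf_le M))
  refine ⟨fun g hg x hx hgx => by_contra fun hx1 => hg ?_, hN⟩
  rw [hN]
  have hgx1 : g * x * g⁻¹ ≠ 1 := fun h => hx1 (by simpa [mul_inv_eq_one] using h)
  obtain ⟨m, hm, he⟩ := (S1391.result hG M hM _ (Or.inl rfl)).1 x (mem_typeA_of_mem hG hall hM hx hx1)
    g (mem_typeA_of_mem hG hall hM hgx hgx1)
  have hc : m⁻¹ * g ∈ centralizer ({x} : Set G) := by
    rw [mem_centralizer_singleton_iff]
    have h2 := congrArg (fun t => m⁻¹ * t * g) he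
    simpa [mul_assoc] using h2.symm
  simpa using M.mul_mem hm (centralizer_le hG hall hM hx hx1 hc)

end allTypeI

open Subgroup BGTypeP


/-- Let G be a minimal simple group of odd order. Then some maximal subgroup of G is not of Type I. -/
theorem result {G : Type*} [Group G] [Finite G] (hG : Cfsg.IsMinSimpleOddOrder G) : ∃ M : Subgroup G, IsCoatom M ∧ ¬ Cfsg.IsOfTypeI M := by
  classical
  by_contra hcon
  push Not at hcon
  let C := {M : Subgroup G // IsCoatom M}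
  let sd : Setoid C :=
    ⟨fun M N => ∃ g : G, (N : Subgroup G) = cj g (M : Subgroup G), fun M => ⟨1, (cj_one _).symm⟩,
      fun {M N} ⟨g, h⟩ => ⟨g⁻¹, by rw [h, cj_inv_cj]⟩,
      fun {A B D} ⟨g, h⟩ ⟨k, h'⟩ => ⟨k * g, by rw [h', h, cj_mul]⟩⟩
  let ι := Quotient sd
  have : Fintype ι := Fintype.ofFinite ι
  let L : ι → Subgroup G := fun i => (Quotient.out i : C).1
  have hL : ∀ i, IsCoatom (L i) := fun i => (Quotient.out i : C).2
  have hrep : ∀ M : Subgroup G, IsCoatom M → ∃ i, ∃ t : G, L i = cj t M := by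
    intro M hM
    refine ⟨Quotient.mk sd ⟨M, hM⟩, ?_⟩
    obtain ⟨t, ht⟩ := Quotient.exact (Quotient.out_eq (Quotient.mk sd (⟨M, hM⟩ : C))).symm
    exact ⟨t, ht⟩
  have hdisj : ∀ i j, i ≠ j → ∀ p : ℕ, p ∈ Cfsg.sigma (L i) → p ∈ Cfsg.sigma (L j) → False := by
    intro i j hij p hi hj
    obtain ⟨g, hg⟩ := (S1378.result hG).2 _ _ (hL i) (hL j) ⟨p, hi, hj⟩
    refine hij ?_
    rw [← Quotient.out_eq i, ← Quotient.out_eq j]
    exact Quotient.sound ⟨g, hg⟩
  have hι : 2 ≤ Fintype.card ι := by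
    by_contra h
    have hsub : Subsingleton ι := Fintype.card_le_one_iff_subsingleton.1 (by omega)
    obtain ⟨M₀, hM₀⟩ : ∃ M : Subgroup G, IsCoatom M := by
      have : Nontrivial G := hG.2.1.toNontrivial
      obtain ⟨M, hM, -⟩ := (eq_top_or_exists_le_coatom (⊥ : Subgroup G)).resolve_left bot_ne_top
      exact ⟨M, hM⟩
    obtain ⟨i₀, t₀, ht₀⟩ := hrep M₀ hM₀
    have hi : (Cfsg.sigmaCore M₀).index = 1 := by
      by_contra hne
      obtain ⟨p, hp, hpd⟩ := Nat.exists_prime_and_dvd hne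
      obtain ⟨M, hM, hpM⟩ := (S1378.result hG).1 p hp
        (hpd.trans (index_dvd_card _))
      obtain ⟨j, t, ht⟩ := hrep M hM
      rw [← sigma_cj t M, ← ht, Subsingleton.elim j i₀, ht₀, sigma_cj] at hpM
      exact (BGSigma.hall_sigma hG hM₀).2.2 p hp hpM hpd
    exact hM₀.1 (top_le_iff.1 ((index_eq_one.1 hi).ge.trans (BGFinal72.sigmaCore_le M₀)))
  refine Cfsg.Agent.S1526.result hG.1 hι L (fun i => Cfsg.fittingHallOf (L i)) (fun i => ?_)
    (fun i => ?_) (fun i x hx h hh => ?_) (fun i => S1540.result hG _ (hL i) (hcon _ (hL i)))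
    (fun i j hij => ?_) (fun i => kernel_ti hG hcon (hL i)) (fun g hg => ?_)
  · refine lt_of_le_of_ne (FittingHallBasic.fittingHallOf_le _) fun h => ?_
    refine (hcon _ (hL i)).1.2.2.2.1 ?_
    refine map_injective (L i).subtype_injective ?_
    rw [← MonoidHom.range_eq_map, range_subtype]
    exact h
  · exact fun h => (hcon _ (hL i)).1.2.2.1
      ((map_eq_bot_iff_of_injective _ (L i).subtype_injective).1 h)
  · exact (mem_normalizer_iff.1 (FittingHallBasic.le_normalizer_fittingHallOf _ hx) h).1 hh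
  · refine Nat.coprime_of_dvd fun p hp h1 h2 => ?_
    rw [← sigmaCore_eq hG hcon (hL i)] at h1
    rw [← sigmaCore_eq hG hcon (hL j)] at h2
    exact hdisj i j hij p (piNat_sigmaCore _ p hp h1) (piNat_sigmaCore _ p hp h2)
  · obtain ⟨N, hN, a, ⟨ha, ha1⟩, r, hr, y, rfl⟩ :=
      (S1379.result hG).2.1 (fun M hM => kappa_empty hG hcon hM) g hg
    rw [SetLike.mem_coe, sigmaCore_eq hG hcon hN] at ha
    have hr1 : r = 1 := by
      unfold Cfsg.supportR at hr
      rwa [dif_neg (fun h => h.1 (centralizer_le hG hcon hN ha ha1)), mem_bot] at hr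
    obtain ⟨i, t, ht⟩ := hrep N hN
    refine ⟨i, t * y⁻¹, ?_⟩
    rw [ht, BGTypeConj.fittingHallOf_map, hr1, mul_one]
    refine ⟨a, ha, ?_⟩
    show t * a * t⁻¹ = _
    group

end Cfsg.Agent.S1541
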