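import Cfsg.Statements.S1503
import Cfsg.Agent.Lib.CyclicTI

set_option autoImplicit false
open Cfsg

namespace Cfsg.Agent.S1503

open Cfsg.Agent.CyclicTI Cfsg.Agent.CharBasic Cfsg.Agent.CharBasicOrth

theorem vanishes {G : Type*} [Group G] [Fintype G] {W₁ W₂ : Subgroup G}
    (hW : Cfsg.IsSelfNormalizingCyclic W₁ W₂) {χ : (↥(W₁ ⊔ W₂) →* ℂˣ) → (G → ℂ)}
    (hχ : Cfsg.IsCyclicTIFamily W₁ W₂ χ) {θ : G → ℂ} (hθ : Cfsg.IsIrrCharacter G θ)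
    (horth : ∀ ω, Cfsg.classInner θ (χ ω) = 0) (w : ↥(W₁ ⊔ W₂)) (hw₁ : (w : G) ∉ W₁) (hw₂ : (w : G) ∉ W₂) :
    θ w = 0 := by
  classical
  haveI : Fintype ↥(W₁ ⊔ W₂) := Fintype.ofFinite _
  haveI := hom_fintype ↥(W₁ ⊔ W₂)
  haveI : Fintype (↥(W₁ ⊔ W₂) →* ℂˣ) := Fintype.ofFinite _
  have hd := hdisj hW
  have hc := hcomm hW
  have hθc : Cfsg.IsClassFunction G θ := isClassFunction_of_isCharacter (isCharacter_of_isIrrCharacter hθ)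
  set f : ↥(W₁ ⊔ W₂) → ℂ := fun x => θ x with hf
  set c : (↥(W₁ ⊔ W₂) →* ℂˣ) → ℂ := fun ω => Cfsg.classInner f (fun x => (ω x : ℂ)) with hcd
  have hrel : ∀ ω, c ω = c (part₁ hd hc ω) + c (part₂ hd hc ω) - c 1 := by
    intro ω
    set φ := part₁ hd hc ω with hφd
    set ψ := part₂ hd hc ω with hψd
    have hω : φ * ψ = ω := part_mul hd hc ω
    by_cases hφ1 : φ = 1
    · have hω' : ψ = ω := hω ▸ MonoidHom.ext fun w => by simp [hφ1]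
      rw [hφ1, hω']; ring
    by_cases hψ1 : ψ = 1
    · have hω' : φ = ω := hω ▸ MonoidHom.ext fun w => by simp [hψ1]
      rw [hψ1, hω']; ring
    have h := hχ.induced_eq φ ψ hφ1 hψ1 (part₁_triv hd hc ω) (part₂_triv hd hc ω)
    have hz : Cfsg.classInner θ (Cfsg.indFun (W₁ ⊔ W₂) (fun w => 1 - (φ w : ℂ) - (ψ w : ℂ) + (φ w : ℂ) * (ψ w : ℂ))) = 0 := by
      rw [h, show (fun g => 1 - χ φ g - χ ψ g + χ (φ * ψ) g) = χ 1 - χ φ - χ ψ + χ (φ * ψ) by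
        funext g; simp [hχ.map_one]]
      simp [classInner_add_right, classInner_sub_right, horth]
    rw [CharInduced.inner_ind_right _ _ hθc, show (fun w : ↥(W₁ ⊔ W₂) => 1 - (φ w : ℂ) - (ψ w : ℂ) + (φ w : ℂ) * (ψ w : ℂ)) =
      (fun x => ((1 : ↥(W₁ ⊔ W₂) →* ℂˣ) x : ℂ)) - (fun x => (φ x : ℂ)) - (fun x => (ψ x : ℂ)) +
        (fun x => ((φ * ψ) x : ℂ)) by funext x; simp, classInner_add_right, classInner_sub_right,
      classInner_sub_right, hω] at hz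
    simp only [hcd]
    linear_combination hz
  obtain ⟨ψ₀, hψ₀, hψ₀w⟩ := exists_hom_proj₂_ne_one hW (proj₂_mem hd hc w) (proj₂_ne_one hd hc hw₁)
  obtain ⟨φ₀, hφ₀, hφ₀w⟩ := exists_hom_proj₁_ne_one hW (proj₁_mem hd hc w) (proj₁_ne_one hd hc hw₂)
  have hψv : ψ₀ w ≠ 1 := by
    rwa [← proj_mul hd hc w, map_mul, hψ₀ _ (proj₁_mem hd hc w), one_mul]
  have hφv : φ₀ w ≠ 1 := by
    rwa [← proj_mul hd hc w, map_mul, hφ₀ _ (proj₂_mem hd hc w), mul_one]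
  have hS : ∀ (F : (↥(W₁ ⊔ W₂) →* ℂˣ) → ℂ) (η : ↥(W₁ ⊔ W₂) →* ℂˣ), η w ≠ 1 → (∀ ω, F (η * ω) = F ω) →
      ∑ ω : ↥(W₁ ⊔ W₂) →* ℂˣ, F ω * (ω w : ℂ) = 0 := by
    intro F η hη hF
    have h1 : ∑ ω : ↥(W₁ ⊔ W₂) →* ℂˣ, F ω * (ω w : ℂ) = (η w : ℂ) * ∑ ω, F ω * (ω w : ℂ) := by
      conv_lhs => rw [← Equiv.sum_comp (Equiv.mulLeft η)]
      rw [Finset.mul_sum]
      refine Finset.sum_congr rfl fun ω _ => ?_
      simp [hF ω]; ring
    have h2 : ((η w : ℂ) - 1) * ∑ ω : ↥(W₁ ⊔ W₂) →* ℂˣ, F ω * (ω w : ℂ) = 0 := by linear_combination -h1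
    exact (mul_eq_zero.mp h2).resolve_left (sub_ne_zero.mpr fun e => hη (Units.val_eq_one.mp e))
  have e1 : ∀ ω, part₁ hd hc (ψ₀ * ω) = part₁ hd hc ω := fun ω => by
    conv_lhs => rw [show ψ₀ * ω = part₁ hd hc ω * (ψ₀ * part₂ hd hc ω) from MonoidHom.ext fun x => by
      conv_lhs => rw [← part_mul hd hc ω]
      simp [mul_left_comm]]
    refine part₁_eq hd hc (part₁_triv hd hc ω) ?_
    intro x hx; rw [MonoidHom.mul_apply, hψ₀ x hx, part₂_triv hd hc ω x hx, one_mul]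
  have e2 : ∀ ω, part₂ hd hc (φ₀ * ω) = part₂ hd hc ω := fun ω => by
    conv_lhs => rw [show φ₀ * ω = φ₀ * part₁ hd hc ω * part₂ hd hc ω from MonoidHom.ext fun x => by
      conv_lhs => rw [← part_mul hd hc ω]
      simp [mul_assoc]]
    refine part₂_eq hd hc ?_ (part₂_triv hd hc ω)
    intro x hx; rw [MonoidHom.mul_apply, hφ₀ x hx, part₁_triv hd hc ω x hx, one_mul]
  have hx := congrFun (expand_hom (comm hW) f) w
  rw [show θ w = f w from rfl, hx]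
  calc ∑ ω : ↥(W₁ ⊔ W₂) →* ℂˣ, c ω * (ω w : ℂ)
      = ∑ ω : ↥(W₁ ⊔ W₂) →* ℂˣ, c (part₁ hd hc ω) * (ω w : ℂ) +
        ∑ ω : ↥(W₁ ⊔ W₂) →* ℂˣ, c (part₂ hd hc ω) * (ω w : ℂ) -
        ∑ ω : ↥(W₁ ⊔ W₂) →* ℂˣ, c 1 * (ω w : ℂ) := by
        rw [← Finset.sum_add_distrib, ← Finset.sum_sub_distrib]
        exact Finset.sum_congr rfl fun ω _ => by rw [hrel ω]; ring
    _ = 0 := by
      rw [hS (fun ω => c (part₁ hd hc ω)) ψ₀ hψv (fun ω => by rw [e1]),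
        hS (fun ω => c (part₂ hd hc ω)) φ₀ hφv (fun ω => by rw [e2]),
        hS (fun _ => c 1) ψ₀ hψv (fun _ => rfl)]
      ring


/-- Let W₁, W₂ ≤ G with W = W₁ ⊔ W₂ and let χ an orthonormal family of irreducible characters of G up to sign, indexed by the linear characters ω of W, with χ_1 = 1, χ_ω = ω on W outside W₁ ∪ W₂, and the induction identity for (1 − φ)(1 − ψ). If θ is an irreducible character of G orthogonal to χ ω for every linear character ω of W, then θ vanishes at every element of W lying outside W₁ ∪ W₂. -/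
theorem result {G : Type*} [Group G] [Fintype G] (W₁ W₂ : Subgroup G) (hW : Cfsg.IsSelfNormalizingCyclic W₁ W₂) (χ : (↥(W₁ ⊔ W₂) →* ℂˣ) → (G → ℂ)) (hχ : Cfsg.IsCyclicTIFamily W₁ W₂ χ) (θ : G → ℂ) (hθ : Cfsg.IsIrrCharacter G θ) (horth : ∀ ω, Cfsg.classInner θ (χ ω) = 0) (w : ↥(W₁ ⊔ W₂)) (hw₁ : (w : G) ∉ W₁) (hw₂ : (w : G) ∉ W₂) : θ w = 0 := by
  classical
  exact Cfsg.Agent.S1503.vanishes hW hχ hθ horth w hw₁ hw₂

end Cfsg.Agent.S1503
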