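import Cfsg.Statements.S1505
import Cfsg.Agent.Lib.CyclicTI

set_option autoImplicit false
open Cfsg

namespace Cfsg.Agent.S1505

open Cfsg.Agent.CyclicTI Cfsg.Agent.CharBasicOrth

open Classical in
theorem inner_values {G : Type*} [Group G] [Fintype G] {W₁ W₂ : Subgroup G}
    (hW : Cfsg.IsSelfNormalizingCyclic W₁ W₂) {φ φ' ψ ψ' : ↥(W₁ ⊔ W₂) →* ℂˣ}
    (hφ : φ ≠ 1) (hφ' : φ' ≠ 1) (hψ : ψ ≠ 1) (hψ' : ψ' ≠ 1)
    (hφt : TrivOn W₂ φ) (hφt' : TrivOn W₂ φ') (hψt : TrivOn W₁ ψ) (hψt' : TrivOn W₁ ψ') :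
    Cfsg.classInner (Cfsg.indFun (W₁ ⊔ W₂) (alphaFun φ ψ)) (fun _ => 1) = 1 ∧
      Cfsg.classInner (Cfsg.indFun (W₁ ⊔ W₂) (alphaFun φ ψ)) (Cfsg.indFun (W₁ ⊔ W₂) (alphaFun φ' ψ')) =
        1 + (if φ = φ' then 1 else 0) + (if ψ = ψ' then 1 else 0) +
          (if φ = φ' then 1 else 0) * (if ψ = ψ' then 1 else 0) := by
  haveI : Fintype ↥(W₁ ⊔ W₂) := Fintype.ofFinite _
  have hu := fun {φ φ' ψ ψ' : ↥(W₁ ⊔ W₂) →* ℂˣ} (a : TrivOn W₂ φ) (b : TrivOn W₂ φ')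
    (c : TrivOn W₁ ψ) (d : TrivOn W₁ ψ') => mul_left_inj_of_triv (hdisj hW) (hcomm hW) a b c d
  have hone := fun V : Subgroup G => trivOn_one (W := W₁ ⊔ W₂) V
  have hne : ∀ {φ ψ : ↥(W₁ ⊔ W₂) →* ℂˣ}, TrivOn W₂ φ → TrivOn W₁ ψ → φ ≠ 1 → φ ≠ ψ := fun {φ ψ} a b h e =>
    h (eq_one_of_triv_both (hdisj hW) (hcomm hW) (e ▸ b) a)
  have hp : ∀ {φ ψ : ↥(W₁ ⊔ W₂) →* ℂˣ}, TrivOn W₂ φ → TrivOn W₁ ψ → φ ≠ 1 → ψ ≠ 1 →
      φ * ψ ≠ 1 ∧ ∀ η, (TrivOn W₂ η ∨ TrivOn W₁ η) → φ * ψ ≠ η := by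
    intro φ ψ a b h h'
    refine ⟨fun e => h ((hu a (hone _) b (hone _)).mp (by rw [e, hom_one_mul])).1, ?_⟩
    rintro η (hη | hη) e
    · exact h' ((hu a hη b (hone _)).mp (by rw [e, hom_mul_one])).2
    · exact h ((hu a (hone _) b hη).mp (by rw [e, hom_one_mul])).1
  obtain ⟨p1, p2⟩ := hp hφt hψt hφ hψ
  refine ⟨?_, ?_⟩
  · rw [CharInduced.inner_ind_left _ _ (fun _ _ => rfl)]
    rw [show (fun _ : ↥(W₁ ⊔ W₂) => (1 : ℂ)) = fun w => (((1 : ↥(W₁ ⊔ W₂) →* ℂˣ) w : ℂˣ) : ℂ) from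
      funext fun _ => by simp, inner_alpha_hom, if_pos rfl, if_neg hφ, if_neg hψ, if_neg p1]
    ring
  · rw [inner_ind_alpha hW hφt hψt hφt' hψt']
    have e : alphaFun φ' ψ' = (fun w => ((1 : ↥(W₁ ⊔ W₂) →* ℂˣ) w : ℂ)) - (fun w => (φ' w : ℂ)) -
        (fun w => (ψ' w : ℂ)) + (fun w => ((φ' * ψ') w : ℂ)) := by
      funext w; simp [alphaFun]
    obtain ⟨q1, q2⟩ := hp hφt' hψt' hφ' hψ'
    rw [e, classInner_add_right, classInner_sub_right, classInner_sub_right, inner_alpha_hom, inner_alpha_hom,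
      inner_alpha_hom, inner_alpha_hom]
    simp only [if_true, if_neg hφ, if_neg hψ, if_neg p1, if_neg (Ne.symm hφ'), if_neg (Ne.symm hψ'),
      if_neg (hne hφt hψt' hφ), if_neg (Ne.symm (hne hφt' hψt hφ')), if_neg (p2 φ' (Or.inl hφt')),
      if_neg (p2 ψ' (Or.inr hψt')), if_neg (Ne.symm q1), if_neg (Ne.symm (q2 φ (Or.inl hφt))),
      if_neg (Ne.symm (q2 ψ (Or.inr hψt))), hu hφt hφt' hψt hψt']
    by_cases h1 : φ = φ' <;> by_cases h2 : ψ = ψ' <;> simp [h1, h2]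


open Classical in
/-- Let W₁, W₂ ≤ G form a self-normalising cyclic subgroup W = W₁ ⊔ W₂. For nontrivial linear characters φ, φ' of W trivial on W₂ and ψ, ψ' trivial on W₁, put α = (1 − φ)(1 − ψ) and α' = (1 − φ')(1 − ψ'). Then the function induced from α to G has inner product 1 with the principal character, and the inner product of the functions induced from α and α' is 1 + a + b + ab where a = 1 if φ = φ' (else 0) and b = 1 if ψ = ψ' (else 0). -/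
theorem result {G : Type*} [Group G] [Fintype G] (W₁ W₂ : Subgroup G) (hW : Cfsg.IsSelfNormalizingCyclic W₁ W₂) (φ φ' ψ ψ' : ↥(W₁ ⊔ W₂) →* ℂˣ) (hφ : φ ≠ 1) (hφ' : φ' ≠ 1) (hψ : ψ ≠ 1) (hψ' : ψ' ≠ 1) (hφ₂ : ∀ w : ↥(W₁ ⊔ W₂), (w : G) ∈ W₂ → φ w = 1 ∧ φ' w = 1) (hψ₁ : ∀ w : ↥(W₁ ⊔ W₂), (w : G) ∈ W₁ → ψ w = 1 ∧ ψ' w = 1) : Cfsg.classInner (Cfsg.indFun (W₁ ⊔ W₂) (fun w => 1 - (φ w : ℂ) - (ψ w : ℂ) + (φ w : ℂ) * (ψ w : ℂ))) (fun _ => 1) = 1 ∧ Cfsg.classInner (Cfsg.indFun (W₁ ⊔ W₂) (fun w => 1 - (φ w : ℂ) - (ψ w : ℂ) + (φ w : ℂ) * (ψ w : ℂ))) (Cfsg.indFun (W₁ ⊔ W₂) (fun w => 1 - (φ' w : ℂ) - (ψ' w : ℂ) + (φ' w : ℂ) * (ψ' w : ℂ))) = 1 + (if φ = φ' then 1 else 0) + (if ψ = ψ' then 1 else 0) + (if φ = φ' then 1 else 0) * (if ψ = ψ' then 1 else 0) := by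
  classical
  have hφt : Cfsg.Agent.CyclicTI.TrivOn W₂ φ := fun w h => (hφ₂ w h).1
  have hφt' : Cfsg.Agent.CyclicTI.TrivOn W₂ φ' := fun w h => (hφ₂ w h).2
  have hψt : Cfsg.Agent.CyclicTI.TrivOn W₁ ψ := fun w h => (hψ₁ w h).1
  have hψt' : Cfsg.Agent.CyclicTI.TrivOn W₁ ψ' := fun w h => (hψ₁ w h).2
  exact Cfsg.Agent.S1505.inner_values hW hφ hφ' hψ hψ' hφt hφt' hψt hψt'

end Cfsg.Agent.S1505
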