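import Cfsg.Statements.S1498


set_option autoImplicit false
open Cfsg

namespace Cfsg.Agent.S1498

/-- Under the Dade hypothesis for (A, L, H): for a ∈ A and x ∈ L, the subgroup attached to x * a * x⁻¹ is the conjugate of H a by x. -/
theorem result {G : Type*} [Group G] [Finite G] (A : Set G) (L : Subgroup G) (H : G → Subgroup G) (hD : Cfsg.DadeHypothesis A L H) (a : G) (ha : a ∈ A) (x : G) (hx : x ∈ L) : H (x * a * x⁻¹) = (H a).map (MulAut.conj x).toMonoidHom := by
  have hmem : ∀ b ∈ A, ∀ v ∈ Subgroup.centralizer ({b} : Set G),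
      Nat.Coprime (orderOf v) (Nat.card ↥(L ⊓ Subgroup.centralizer ({b} : Set G))) → v ∈ H b := by
    intro b hb v hv hc
    set C := L ⊓ Subgroup.centralizer ({b} : Set G) with hC
    have hn : C ≤ Subgroup.normalizer (H b : Set G) := by
      intro c hc'
      rw [Subgroup.mem_normalizer_iff]
      intro u
      refine ⟨fun hu => hD.conj_mem_H b hb c hc'.2 u hu, fun hu => ?_⟩
      have := hD.conj_mem_H b hb c⁻¹ (inv_mem hc'.2) _ hu
      simpa [mul_assoc] using this
    have hv' := hv
    rw [← hD.sup_eq b hb, ← SetLike.mem_coe,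
      Subgroup.coe_mul_of_right_le_normalizer_left (H b) C hn] at hv'
    obtain ⟨h, hh, c, hc', rfl⟩ := hv'
    have hpw : ∀ n : ℕ, ∃ h' ∈ H b, (h * c) ^ n = h' * c ^ n := by
      intro n
      induction n with
      | zero => exact ⟨1, one_mem _, by simp⟩
      | succ n ih =>
        obtain ⟨h', hh', e⟩ := ih
        refine ⟨h' * (c ^ n * h * (c ^ n)⁻¹),
          mul_mem hh' (hD.conj_mem_H b hb _ (pow_mem hc'.2 n) h hh), ?_⟩
        rw [pow_succ, e, pow_succ]; group
    obtain ⟨h', hh', e⟩ := hpw (Nat.card C)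
    have hcn : c ^ Nat.card C = 1 := orderOf_dvd_iff_pow_eq_one.mp (Subgroup.orderOf_dvd_natCard C hc')
    rw [hcn, mul_one] at e
    obtain ⟨m, hm⟩ := exists_pow_eq_self_of_coprime hc.symm
    rw [← hm, e]
    exact pow_mem hh' m
  have hb : x * a * x⁻¹ ∈ A := hD.conj_mem x hx a ha
  have hCard : ∀ b ∈ A, ∀ d ∈ A, ∀ u ∈ H b,
      Nat.Coprime (orderOf u) (Nat.card ↥(L ⊓ Subgroup.centralizer ({d} : Set G))) :=
    fun b hb d hd u hu => (hD.coprime b hb d hd).coprime_dvd_left (Subgroup.orderOf_dvd_natCard _ hu)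
  have ho : ∀ y v : G, orderOf (y * v * y⁻¹) = orderOf v := fun y v =>
    orderOf_injective (MulAut.conj y).toMonoidHom (MulAut.conj y).injective v
  apply le_antisymm
  · intro v hv
    refine ⟨x⁻¹ * v * x, ?_, by simp [mul_assoc]⟩
    apply hmem a ha
    · have hv' := Subgroup.mem_centralizer_singleton_iff.mp (hD.le_centralizer _ hb hv)
      rw [Subgroup.mem_centralizer_singleton_iff]
      calc x⁻¹ * v * x * a = x⁻¹ * (v * (x * a * x⁻¹)) * x := by group
        _ = x⁻¹ * ((x * a * x⁻¹) * v) * x := by rw [hv']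
        _ = a * (x⁻¹ * v * x) := by group
    · have : orderOf (x⁻¹ * v * x) = orderOf v := by simpa using ho x⁻¹ v
      rw [this]
      exact hCard _ hb a ha v hv
  · rintro _ ⟨u, hu, rfl⟩
    show x * u * x⁻¹ ∈ H (x * a * x⁻¹)
    apply hmem _ hb
    · rw [Subgroup.mem_centralizer_singleton_iff]
      have hu' := Subgroup.mem_centralizer_singleton_iff.mp (hD.le_centralizer a ha hu)
      calc x * u * x⁻¹ * (x * a * x⁻¹) = x * (u * a) * x⁻¹ := by group
        _ = x * (a * u) * x⁻¹ := by rw [hu']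
        _ = x * a * x⁻¹ * (x * u * x⁻¹) := by group
    · rw [ho]
      exact hCard a ha _ hb u hu

end Cfsg.Agent.S1498
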