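import Cfsg.Statements.S1499
import Cfsg.Agent.Lib.OddCharGroup

set_option autoImplicit false
open Cfsg

namespace Cfsg.Agent.S1499

/-- Under the Dade hypothesis for (A, L, H), let a, b ∈ A. If an element of the coset a·H(a) is conjugate in G to an element of b·H(b), then a and b are conjugate by an element of L. Moreover the set normaliser of the coset a·H(a) is the centraliser of a. -/
theorem result {G : Type*} [Group G] [Finite G] (A : Set G) (L : Subgroup G) (H : G → Subgroup G) (hD : Cfsg.DadeHypothesis A L H) (a b : G) (ha : a ∈ A) (hb : b ∈ A) : ((∃ u ∈ H a, ∃ v ∈ H b, ∃ g : G, g * (a * u) * g⁻¹ = b * v) → ∃ x ∈ L, x * a * x⁻¹ = b) ∧ Subgroup.normalizer ((fun u : G => a * u) '' (H a : Set G)) = Subgroup.centralizer ({a} : Set G) := by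
  set C : G → Subgroup G := fun d => L ⊓ Subgroup.centralizer ({d} : Set G) with hC
  have hoa : ∀ d ∈ A, orderOf d ∣ Nat.card (C d) := fun d hd =>
    Subgroup.orderOf_dvd_natCard _ ⟨hD.subset hd, Subgroup.mem_centralizer_singleton_iff.mpr rfl⟩
  have hcop : Nat.Coprime (Nat.card (C a) * Nat.card (C b)) (Nat.card (H a) * Nat.card (H b)) := by
    apply Nat.Coprime.mul_left <;> apply Nat.Coprime.mul_right
    · exact (hD.coprime a ha a ha).symm
    · exact (hD.coprime b hb a ha).symm
    · exact (hD.coprime a ha b hb).symm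
    · exact (hD.coprime b hb b hb).symm
  obtain ⟨k, hk1, hk2⟩ := Cfsg.Agent.OddCharGroup.exists_exponent hcop
  have hka : ∀ u ∈ H a, (a * u) ^ k = a := by
    intro u hu
    have hc := Subgroup.mem_centralizer_singleton_iff.mp (hD.le_centralizer a ha hu)
    rw [← hc]
    exact Cfsg.Agent.OddCharGroup.mul_pow_exponent hc (hk1.of_dvd ((hoa a ha).trans (dvd_mul_right _ _)))
      ((Subgroup.orderOf_dvd_natCard _ hu).trans ((dvd_mul_right _ _).trans hk2))
  have hkb : ∀ v ∈ H b, (b * v) ^ k = b := by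
    intro v hv
    have hc := Subgroup.mem_centralizer_singleton_iff.mp (hD.le_centralizer b hb hv)
    rw [← hc]
    exact Cfsg.Agent.OddCharGroup.mul_pow_exponent hc (hk1.of_dvd ((hoa b hb).trans (dvd_mul_left _ _)))
      ((Subgroup.orderOf_dvd_natCard _ hv).trans ((dvd_mul_left _ _).trans hk2))
  refine ⟨?_, ?_⟩
  · rintro ⟨u, hu, v, hv, g, hg⟩
    have h1 : g * a * g⁻¹ = b := by
      have := congrArg (· ^ k) hg
      simpa [conj_pow, hka u hu, hkb v hv] using this
    obtain ⟨x, hx, hxa⟩ := hD.fusion a ha g (h1.symm ▸ hb)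
    exact ⟨x, hx, hxa.trans h1⟩
  · apply le_antisymm
    · intro g hg
      obtain ⟨v, hv, e⟩ :=
        (Subgroup.mem_set_normalizer_iff.mp hg a).mp ⟨1, one_mem _, mul_one a⟩
      have h1 : g * a * g⁻¹ = a := by
        have h2 : g * a * g⁻¹ = a * v := e.symm
        have := congrArg (· ^ k) h2
        have h3 : a ^ k = a := by simpa using hka 1 (one_mem _)
        simpa [conj_pow, h3, hka v hv] using this
      exact Subgroup.mem_centralizer_singleton_iff.mpr (mul_inv_eq_iff_eq_mul.mp h1)
    · intro g hg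
      have hga := Subgroup.mem_centralizer_singleton_iff.mp hg
      have conj : ∀ g' : G, g' * a = a * g' → ∀ u : G, g' * (a * u) * g'⁻¹ = a * (g' * u * g'⁻¹) := by
        intro g' h u
        rw [← mul_assoc g' a u, h]; group
      rw [Subgroup.mem_set_normalizer_iff]
      intro n
      constructor
      · rintro ⟨u, hu, rfl⟩
        exact ⟨g * u * g⁻¹, hD.conj_mem_H a ha g hg u hu, (conj g hga u).symm⟩
      · rintro ⟨u, hu, e⟩
        refine ⟨g⁻¹ * u * g⁻¹⁻¹, hD.conj_mem_H a ha g⁻¹ (inv_mem hg) u hu, ?_⟩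
        have hgi := Subgroup.mem_centralizer_singleton_iff.mp (inv_mem hg)
        show a * (g⁻¹ * u * g⁻¹⁻¹) = n
        rw [← conj g⁻¹ hgi u, show a * u = g * n * g⁻¹ from e]
        group

end Cfsg.Agent.S1499
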