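import Cfsg.Statements.S4574
import Mathlib
import Cfsg.Agent.Lib.GaloisChar80
import Cfsg.Agent.Lib.CharBasicCyclic
import Cfsg.Agent.Lib.CharBasicInt

set_option autoImplicit false
open Cfsg

namespace Cfsg.Agent.S4574


open Cfsg.Agent.CharBasic Cfsg.Agent.CharBasicOrth Cfsg.Agent.CharBasicDecomp Cfsg.Agent.CharBasicCyclic
open scoped ComplexConjugate

theorem prod_norm_sq_ge_one {G : Type*} [Group G] [Fintype G] (g : G) {χ : G → ℂ}
    (hχ : Cfsg.IsCharacter G χ) (hne : ∀ x ∈ gens (Subgroup.zpowers g), χ x ≠ 0) :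
    (1 : ℝ) ≤ ∏ a ∈ gens (Subgroup.zpowers g), ‖χ a‖ ^ 2 := by
  classical
  set A := Subgroup.zpowers g with hA
  have hcomm : ∀ a b : A, a * b = b * a := fun a b => Std.Commutative.comm a b
  let M := (Finset.range (orderOf g)).filter fun m => m.Coprime (orderOf g)
  have hM : gens A = M.image (fun m => g ^ m) := by
    ext a
    rw [gens_eq_image, Finset.mem_image]
    constructor
    · rintro ⟨m, hm, rfl⟩
      refine ⟨m % orderOf g, ?_, pow_mod_orderOf g m⟩
      simp only [M, Finset.mem_filter, Finset.mem_range]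
      exact ⟨Nat.mod_lt _ (isOfFinOrder_of_finite g).orderOf_pos,
        (Nat.ModEq.gcd_eq (Nat.mod_modEq m _)).trans hm⟩
    · rintro ⟨m, hm, rfl⟩
      exact ⟨m, (Finset.mem_filter.1 hm).2, rfl⟩
  have hinjM : Set.InjOn (fun m => g ^ m) M := by
    intro i hi j hj h
    rw [Finset.mem_coe, Finset.mem_filter, Finset.mem_range] at hi hj
    exact pow_injOn_Iio_orderOf hi.1 hj.1 h
  let θ : A → ℂ := ∏ m ∈ M, fun a : A => χ ((a : G) ^ m) * conj (χ ((a : G) ^ m))
  have hθ : Cfsg.IsCharacter A θ := by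
    refine Finset.prod_induction _ (Cfsg.IsCharacter A) (fun _ _ h h' => isCharacter_mul h h')
      isCharacter_one fun m _ => ?_
    let f : A →* G := A.subtype.comp
      { toFun := fun a => a ^ m, map_one' := one_pow m,
        map_mul' := fun a b => (show Commute a b from hcomm a b).mul_pow m }
    exact isCharacter_comap f (isCharacter_mul hχ (isCharacter_conj hχ))
  have hval : ∀ a (ha : a ∈ gens A), ∀ (haA : a ∈ A),
      θ ⟨a, haA⟩ = ((∏ x ∈ gens A, ‖χ x‖ ^ 2 : ℝ) : ℂ) := by
    intro a ha haA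
    simp only [θ, Finset.prod_apply, Complex.ofReal_prod]
    have haeq : gens A = M.image (fun m => a ^ m) := by
      rw [hM]
      obtain ⟨j, hj, rfl⟩ := (gens_eq_image g a).1 ha
      refine (Finset.eq_of_subset_of_card_le ?_ ?_).symm
      · intro x hx
        obtain ⟨m, hm, rfl⟩ := Finset.mem_image.1 hx
        rw [← hM, gens_eq_image]
        exact ⟨j * m, Nat.Coprime.mul_left hj (Finset.mem_filter.1 hm).2, pow_mul g j m⟩
      · rw [Finset.card_image_of_injOn hinjM, Finset.card_image_of_injOn]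
        intro i hi k hk h
        rw [Finset.mem_coe, Finset.mem_filter, Finset.mem_range] at hi hk
        have hord : orderOf (g ^ j) = orderOf g := Nat.Coprime.orderOf_pow hj.symm
        exact pow_injOn_Iio_orderOf (x := g ^ j) (by simpa [hord] using hi.1)
          (by simpa [hord] using hk.1) h
    have hinja : Set.InjOn (fun m => a ^ m) M := by
      rw [← Finset.card_image_iff, ← haeq, hM, Finset.card_image_of_injOn hinjM]
    rw [haeq, Finset.prod_image hinja]
    refine Finset.prod_congr rfl fun m _ => ?_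
    rw [Complex.mul_conj', Complex.ofReal_pow]
  obtain ⟨z, hz⟩ := exists_int_sum_gens_char A (Subgroup.isCyclic_zpowers g) θ
    (isGeneralizedCharacter_of_isCharacter hθ) (fun x => if h : x ∈ A then θ ⟨x, h⟩ else 0)
    (fun a => dif_pos a.2)
  have hmem : ∀ a ∈ gens A, a ∈ A := fun a ha => mem_gens.1 ha ▸ Subgroup.mem_zpowers a
  rw [Finset.sum_congr rfl fun a ha => by rw [dif_pos (hmem a ha), hval a ha (hmem a ha)],
    Finset.sum_const, nsmul_eq_mul] at hz
  set P : ℝ := ∏ x ∈ gens A, ‖χ x‖ ^ 2 with hP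
  have hpos : 0 < P := Finset.prod_pos fun x hx => pow_pos (norm_pos_iff.2 (hne x hx)) 2
  have hcard : 0 < (gens A).card := Finset.card_pos.2 ⟨g, mem_gens.2 rfl⟩
  have hint : IsIntegral ℤ (P : ℂ) := by
    have hgA : g ∈ A := Subgroup.mem_zpowers g
    rw [← hval g (mem_gens.2 rfl) hgA]
    exact isCharacter_integral hθ _
  have hPq : (P : ℂ) = algebraMap ℚ ℂ ((z : ℚ) / (gens A).card) := by
    rw [map_div₀, eq_div_iff (by simpa using hcard.ne')]
    simpa [mul_comm] using hz
  rw [hPq, isIntegral_algebraMap_iff (algebraMap ℚ ℂ).injective] at hint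
  obtain ⟨w, hw⟩ := IsIntegrallyClosed.isIntegral_iff.1 hint
  rw [← hw] at hPq
  have hPw : P = (w : ℝ) := by
    apply Complex.ofReal_injective
    rw [hPq]; simp
  rw [hPw] at hpos ⊢
  exact_mod_cast (show (0 : ℤ) < w from by exact_mod_cast hpos)



theorem sum_gens_ge {G : Type*} [Group G] [Fintype G] (g : G) {χ : G → ℂ}
    (hχ : Cfsg.IsCharacter G χ) (hne : χ g ≠ 0) :
    ((gens (Subgroup.zpowers g)).card : ℝ) ≤
      ∑ a ∈ gens (Subgroup.zpowers g), ‖χ a‖ ^ 2 := by
  have hne' : ∀ x ∈ gens (Subgroup.zpowers g), χ x ≠ 0 := by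
    intro x hx
    obtain ⟨j, hj, rfl⟩ := (gens_eq_image g x).1 hx
    have hjA : j.Coprime (Nat.card (Subgroup.zpowers g)) := by
      rwa [Nat.card_zpowers]
    obtain ⟨σ, hσ⟩ := Cfsg.Agent.GaloisChar80.exists_aut_char hjA
    have h := hσ _ (isCharacter_comap (Subgroup.zpowers g).subtype hχ) ⟨g, Subgroup.mem_zpowers g⟩
    intro h0
    apply hne
    apply σ.injective
    rw [map_zero]
    exact h.trans h0
  set s := gens (Subgroup.zpowers g) with hs
  have hc : 0 < s.card := Finset.card_pos.2 ⟨g, mem_gens.2 rfl⟩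
  have hw : ∑ _a ∈ s, (1 / (s.card : ℝ)) = 1 := by
    rw [Finset.sum_const, nsmul_eq_mul, mul_one_div, div_self]
    exact_mod_cast hc.ne'
  have h2 := Real.geom_mean_le_arith_mean_weighted s (fun _ => 1 / (s.card : ℝ))
    (fun a => ‖χ a‖ ^ 2) (fun _ _ => by positivity) hw (fun _ _ => sq_nonneg _)
  have h3 : (1 : ℝ) ≤ ∏ a ∈ s, (‖χ a‖ ^ 2) ^ (1 / (s.card : ℝ)) := by
    rw [Real.finsetProd_rpow _ _ (fun _ _ => sq_nonneg _)]
    exact Real.one_le_rpow (prod_norm_sq_ge_one g hχ hne') (by positivity)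
  have h4 := h3.trans h2
  rw [← Finset.mul_sum, one_div, inv_mul_eq_div, le_div_iff₀ (by exact_mod_cast hc), one_mul] at h4
  exact h4

/-- Let χ be an irreducible character of the finite group G, of degree d, and let Z(χ) be the set of elements g with |χ g| = d (the centre of χ). Then χ vanishes on at least (d ^ 2 - 1) · |Z(χ)| elements of G, with equality when every value |χ g| is 0, 1 or d. -/
theorem result {G : Type*} [Group G] [Fintype G] [DecidableEq G] (χ : G → ℂ) (hχ : Cfsg.IsIrrCharacter G χ) : (Cfsg.charDegree χ ^ 2 - 1) * (Finset.univ.filter (fun g : G => ‖χ g‖ = (Cfsg.charDegree χ : ℝ))).card ≤ (Finset.univ.filter (fun g : G => χ g = 0)).card ∧ ((∀ g : G, ‖χ g‖ = 0 ∨ ‖χ g‖ = 1 ∨ ‖χ g‖ = (Cfsg.charDegree χ : ℝ)) → (Cfsg.charDegree χ ^ 2 - 1) * (Finset.univ.filter (fun g : G => ‖χ g‖ = (Cfsg.charDegree χ : ℝ))).card = (Finset.univ.filter (fun g : G => χ g = 0)).card) := by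
  classical
  obtain ⟨n, ρ, hρ, rfl⟩ := hχ
  haveI := hρ
  set χ := ρ.character with hχdef
  set d : ℝ := (Cfsg.charDegree χ : ℝ) with hd
  have hdn : Cfsg.charDegree χ = n := by simp [Cfsg.charDegree, χ]
  have hn : 1 ≤ n := Nat.one_le_iff_ne_zero.2 (Nat.pos_iff_ne_zero.1 (by simpa using finrank_pos_of_irreducible ρ))
  have hd1 : 1 ≤ d := by rw [hd, hdn]; exact_mod_cast hn
  have hfin : (Module.finrank ℂ (Fin n → ℂ) : ℝ) = d := by rw [hd, hdn]; simp
  have hsum : ∑ g, ‖χ g‖ ^ 2 = (Nat.card G : ℝ) := by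
    have h := classInner_self_re χ
    rw [hχdef, classInner_character_irreducible_self, Complex.one_re] at h
    field_simp at h
    linarith
  set Z := Finset.univ.filter (fun g : G => ‖χ g‖ = d) with hZ
  set O := Finset.univ.filter (fun g : G => χ g = 0) with hO
  have hZpow : ∀ (g : G) (j : ℕ), g ∈ Z → g ^ j ∈ Z := by
    intro g j hg
    simp only [hZ, Finset.mem_filter, Finset.mem_univ, true_and, ← hfin, hχdef,
      norm_eq_finrank_iff] at hg ⊢
    obtain ⟨w, hw⟩ := hg
    refine ⟨w ^ j, ?_⟩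
    rw [map_pow, hw, ← Module.End.one_eq_id, smul_pow, one_pow]
  let f : G → ℝ := fun g => if g ∈ Z then 1 else ‖χ g‖ ^ 2
  let e : G → ℝ := fun g => if χ g = 0 then 0 else 1
  have htot : ∀ h : G → ℝ, ∑ B : Subgroup G, ∑ a ∈ gens B, h a = ∑ a, h a := by
    intro h
    exact Finset.sum_fiberwise_of_maps_to (fun a _ => Finset.mem_univ (Subgroup.zpowers a)) h
  have hfe : ∑ g, e g ≤ ∑ g, f g := by
    rw [← htot e, ← htot f]
    refine Finset.sum_le_sum fun B _ => ?_
    rcases (gens B).eq_empty_or_nonempty with h0 | ⟨g, hg⟩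
    · simp [h0]
    have hB : Subgroup.zpowers g = B := mem_gens.1 hg
    have hgen : ∀ a ∈ gens B, ∃ j, a = g ^ j := by
      intro a ha
      rw [← hB, gens_eq_image] at ha
      obtain ⟨j, -, hj⟩ := ha
      exact ⟨j, hj.symm⟩
    by_cases hgZ : g ∈ Z
    · refine Finset.sum_le_sum fun a ha => ?_
      obtain ⟨j, rfl⟩ := hgen a ha
      simp only [f, e, if_pos (hZpow g j hgZ)]
      split_ifs <;> norm_num
    · have hnZ : ∀ a ∈ gens B, a ∉ Z := by
        intro a ha haZ
        have : g ∈ gens (Subgroup.zpowers a) := by rw [mem_gens.1 ha]; exact hg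
        obtain ⟨j, -, hj⟩ := (gens_eq_image a g).1 this
        exact hgZ (hj ▸ hZpow a j haZ)
      rw [Finset.sum_congr rfl (fun a ha => show f a = ‖χ a‖ ^ 2 from if_neg (hnZ a ha))]
      by_cases hne : χ g = 0
      · refine Finset.sum_le_sum fun a ha => ?_
        obtain ⟨j, hj, hja⟩ : ∃ j : ℕ, j.Coprime (orderOf a) ∧ a ^ j = g := by
          have : g ∈ gens (Subgroup.zpowers a) := by rw [mem_gens.1 ha]; exact hg
          exact (gens_eq_image a g).1 this
        have hjA : j.Coprime (Nat.card (Subgroup.zpowers a)) := by rwa [Nat.card_zpowers]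
        obtain ⟨σ, hσ⟩ := Cfsg.Agent.GaloisChar80.exists_aut_char hjA
        have h := hσ _ (isCharacter_comap (Subgroup.zpowers a).subtype (isCharacter_of_rep ρ))
          ⟨a, Subgroup.mem_zpowers a⟩
        have h0 : χ a = 0 := by
          apply σ.injective
          rw [map_zero]
          refine h.trans ?_
          show ρ.character (a ^ j) = 0
          rw [hja]
          exact hne
        simp [e, h0]
      · calc ∑ a ∈ gens B, e a ≤ ∑ a ∈ gens B, (1 : ℝ) :=
              Finset.sum_le_sum fun a _ => by simp only [e]; split_ifs <;> norm_num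
          _ = ((gens B).card : ℝ) := by simp
          _ ≤ _ := by rw [← hB]; exact sum_gens_ge g (isCharacter_of_rep ρ) hne
  have hsplit : ∑ g, ‖χ g‖ ^ 2 = ∑ g, f g + (d ^ 2 - 1) * (Z.card : ℝ) := by
    rw [Finset.card_eq_sum_ones, Nat.cast_sum, Finset.mul_sum,
      show (∑ g ∈ Z, (d ^ 2 - 1) * ((1 : ℕ) : ℝ)) = ∑ g, if g ∈ Z then (d ^ 2 - 1) else 0 by
        simp [Finset.sum_ite_mem], ← Finset.sum_add_distrib]
    refine Finset.sum_congr rfl fun g _ => ?_
    simp only [f]
    split_ifs with h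
    · simp only [hZ, Finset.mem_filter] at h
      rw [h.2]; ring
    · ring
  have hcard : ∑ g, e g + (O.card : ℝ) = (Nat.card G : ℝ) := by
    rw [Finset.card_eq_sum_ones, Nat.cast_sum, show (∑ g ∈ O, ((1 : ℕ) : ℝ)) =
      ∑ g, if χ g = 0 then (1 : ℝ) else 0 by simp [hO, Finset.sum_filter],
      ← Finset.sum_add_distrib, Nat.card_eq_fintype_card, ← Finset.card_univ,
      Finset.card_eq_sum_ones, Nat.cast_sum]
    refine Finset.sum_congr rfl fun g _ => ?_
    simp only [e]
    split_ifs <;> simp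
  have hcast : (((Cfsg.charDegree χ ^ 2 - 1) * Z.card : ℕ) : ℝ) = (d ^ 2 - 1) * (Z.card : ℝ) := by
    rw [Nat.cast_mul, Nat.cast_sub (by rw [hdn]; exact Nat.one_le_pow _ _ hn)]
    push_cast
    rfl
  refine ⟨?_, fun hv => ?_⟩
  · rw [← Nat.cast_le (α := ℝ), hcast]
    linarith
  · rw [← Nat.cast_inj (R := ℝ), hcast]
    have heq : ∑ g, f g = ∑ g, e g := by
      refine Finset.sum_congr rfl fun g _ => ?_
      simp only [f, e, hZ, Finset.mem_filter, Finset.mem_univ, true_and]
      rcases hv g with h | h | h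
      · have h0 : χ g = 0 := norm_eq_zero.1 h
        rw [if_neg (by rw [h]; exact fun hh => absurd (hh ▸ hd1) (by norm_num)), if_pos h0, h]
        norm_num
      · have h0 : χ g ≠ 0 := fun hh => by simp [hh] at h
        rw [if_neg h0, h]
        split_ifs <;> norm_num
      · have h0 : χ g ≠ 0 := fun hh => by rw [hh, norm_zero] at h; linarith
        rw [if_pos h, if_neg h0]
    linarith

end Cfsg.Agent.S4574
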