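import Cfsg.Statements.S1546
import Mathlib

set_option autoImplicit false
open Cfsg

namespace Cfsg.Agent.S1546

/-- Let p and q be odd primes and N = (p ^ q − 1) / (p − 1) = 1 + p + ⋯ + p^(q−1). Then N is odd; if p ≡ 1 (mod q) then q ∣ N; and if p is not ≡ 1 (mod q) then N is coprime to p − 1 and every divisor of N is ≡ 1 (mod q). -/
theorem result (p q : ℕ) (hp : p.Prime) (hq : q.Prime) (hp2 : p ≠ 2) (hq2 : q ≠ 2) : Odd ((p ^ q - 1) / (p - 1)) ∧ (p % q = 1 → q ∣ (p ^ q - 1) / (p - 1)) ∧ (p % q ≠ 1 → Nat.Coprime ((p ^ q - 1) / (p - 1)) (p - 1) ∧ ∀ x : ℕ, x ∣ (p ^ q - 1) / (p - 1) → x % q = 1) := by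
  have hp1 : 2 ≤ p := hp.two_le
  rw [← Nat.geomSum_eq hp1 q]
  haveI := Fact.mk hq
  set N := ∑ i ∈ Finset.range q, p ^ i with hN
  have key : ∀ r : ℕ, r.Prime → r ∣ N → r % q = 1 ∨ (r = q ∧ p % q = 1) := by
    intro r hr hrN
    haveI := Fact.mk hr
    have h0 : ∑ i ∈ Finset.range q, (p : ZMod r) ^ i = 0 := by
      have := (ZMod.natCast_eq_zero_iff N r).mpr hrN
      rw [hN] at this
      push_cast at this
      exact this
    by_cases h1 : (p : ZMod r) = 1
    · right
      simp [h1] at h0
      have hrq : r = q := (Nat.prime_dvd_prime_iff_eq hr hq).mp ((ZMod.natCast_eq_zero_iff q r).mp h0)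
      refine ⟨hrq, ?_⟩
      subst hrq
      have := congrArg ZMod.val h1
      rwa [ZMod.val_natCast, ZMod.val_one] at this
    · left
      have hpq : (p : ZMod r) ^ q = 1 := by
        have := geom_sum_mul (p : ZMod r) q
        rw [h0, zero_mul] at this
        exact sub_eq_zero.mp this.symm
      have hord : orderOf (p : ZMod r) = q := orderOf_eq_prime hpq h1
      have hne : (p : ZMod r) ≠ 0 := by
        intro h; rw [h, zero_pow hq.ne_zero] at hpq; exact zero_ne_one hpq
      obtain ⟨c, hc⟩ := hord ▸ ZMod.orderOf_dvd_card_sub_one hne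
      have : r = q * c + 1 := by have := hr.two_le; omega
      rw [this, Nat.mul_add_mod, Nat.one_mod_eq_one.mpr hq.ne_one]
  refine ⟨?_, ?_, ?_⟩
  · rw [hN, Finset.odd_sum_iff_odd_card_odd, Finset.filter_true_of_mem]
    · simpa using hq.odd_of_ne_two hq2
    · intro i _; exact (hp.odd_of_ne_two hp2).pow
  · intro h
    rw [Nat.dvd_iff_mod_eq_zero, hN, Finset.sum_nat_mod]
    simp [Nat.pow_mod, h, Nat.one_mod_eq_one.mpr hq.ne_one]
  · intro h
    refine ⟨?_, ?_⟩
    · refine Nat.coprime_of_dvd fun r hr h1 h2 => ?_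
      haveI := Fact.mk hr
      rcases key r hr h1 with h3 | ⟨-, h3⟩
      · have hp' : (p : ZMod r) = 1 := by
          have := (ZMod.natCast_eq_zero_iff (p - 1) r).mpr h2
          rw [Nat.cast_sub hp.one_le] at this
          simpa using sub_eq_zero.mp this
        have hN0 := (ZMod.natCast_eq_zero_iff N r).mpr h1
        rw [hN] at hN0
        push_cast at hN0
        simp [hp'] at hN0
        have := (Nat.prime_dvd_prime_iff_eq hr hq).mp ((ZMod.natCast_eq_zero_iff q r).mp hN0)
        rw [this] at h3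
        simp at h3
      · exact h h3
    · intro x hx
      induction x using induction_on_primes with
      | zero =>
        have : 0 < N := Finset.sum_pos (fun i _ => pow_pos hp.pos i) ⟨0, by simp [hq.pos]⟩
        simp at hx; omega
      | one => exact Nat.one_mod_eq_one.mpr hq.ne_one
      | prime_mul r a hr ih =>
        rcases key r hr (dvd_trans (dvd_mul_right r a) hx) with h3 | ⟨-, h3⟩
        · rw [Nat.mul_mod, h3, ih (dvd_trans (dvd_mul_left a r) hx)]
          simp [Nat.one_mod_eq_one.mpr hq.ne_one]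
        · exact absurd h3 h

end Cfsg.Agent.S1546
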