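import Cfsg.Statements.S1537
import Cfsg.Agent.Lib.PF8Sets
import Cfsg.Agent.S1355
import Cfsg.Agent.S1391

set_option autoImplicit false
open Cfsg

namespace Cfsg.Agent.S1537

/-- Let G be a minimal simple group of odd order and M a maximal subgroup. For A equal to A₁(M), A(M) or A₀(M): the set normaliser of A is M, and the Dade hypothesis holds for A, M and the function a ↦ R(a). -/
theorem result {G : Type*} [Group G] [Finite G] (hG : Cfsg.IsMinSimpleOddOrder G) (M : Subgroup G) (hM : IsCoatom M) (A : Set G) (hA : A = Cfsg.typeA1 M ∨ A = Cfsg.typeA M ∨ A = Cfsg.typeA0 M) : Subgroup.normalizer A = M ∧ Cfsg.DadeHypothesis A M (Cfsg.supportR M) := by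
  have h1A : Cfsg.typeA1 M ⊆ Cfsg.typeA M := PF8Sets.typeA1_subset_typeA hG hM
  have hAsub : A ⊆ Cfsg.typeA0 M := by
    rcases hA with rfl | rfl | rfl
    · exact fun a ha => Or.inl (h1A ha)
    · exact fun a ha => Or.inl ha
    · exact subset_rfl
  obtain ⟨X, hX, hAX⟩ : ∃ X, (X = Cfsg.typeA M ∨ X = Cfsg.typeA0 M) ∧ A ⊆ X :=
    ⟨_, Or.inr rfl, hAsub⟩
  obtain ⟨hfus, hD, hL⟩ := S1391.result hG M hM X hX
  have hsub : ∀ a ∈ A, a ∈ M ∧ a ≠ 1 := fun a ha => PF8Sets.typeA0_subset_self (hAsub ha)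
  have hinv : ∀ m ∈ M, ∀ a ∈ A, m * a * m⁻¹ ∈ A := by
    rcases hA with rfl | rfl | rfl
    · exact fun m hm a ha => PF8Sets.conj_mem_typeA1 hm ha
    · exact fun m hm a ha => PF8Sets.conj_mem_typeA hm ha
    · exact fun m hm a ha => PF8Sets.conj_mem_typeA0 hm ha
  have hne : A.Nonempty := by
    obtain ⟨a, ha⟩ := PF8Sets.typeA1_nonempty hG hM (S1355.result hG M hM).1
    rcases hA with rfl | rfl | rfl
    · exact ⟨a, ha⟩
    · exact ⟨a, h1A ha⟩
    · exact ⟨a, Or.inl (h1A ha)⟩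
  -- the shape of `R(a)` and of the centraliser
  have hR : ∀ a ∈ A,
      (Subgroup.centralizer ({a} : Set G) ≤ M ∧ Cfsg.supportR M a = ⊥) ∨
      (Cfsg.IsComplIn (Cfsg.supportR M a) (M ⊓ Subgroup.centralizer ({a} : Set G))
          (Subgroup.centralizer ({a} : Set G)) ∧
        Subgroup.centralizer ({a} : Set G) ≤ Subgroup.normalizer (Cfsg.supportR M a : Set G) ∧
        ∀ b ∈ A, (Nat.card (Cfsg.supportR M a)).Coprime
          (Nat.card ↥(M ⊓ Subgroup.centralizer ({b} : Set G)))) := by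
    intro a ha
    by_cases hc : Subgroup.centralizer ({a} : Set G) ≤ M
    · exact Or.inl ⟨hc, by unfold Cfsg.supportR; rw [dif_neg fun h => h.1 hc]⟩
    refine Or.inr ?_
    have hh : ¬ Subgroup.centralizer ({a} : Set G) ≤ M ∧
        ∃! L : Subgroup G, IsCoatom L ∧ Subgroup.centralizer ({a} : Set G) ≤ L :=
      ⟨hc, (hD a (hAX ha) hc).2⟩
    obtain ⟨hL1, hL2⟩ := Classical.choose_spec hh.2.exists
    obtain ⟨-, hn, hcompl, hco, -⟩ := hL a (hAX ha) hc _ hL1 hL2
    rw [show Cfsg.supportR M a = _ from dif_pos hh]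
    exact ⟨hcompl, hn, fun b hb => (hco b (hAX hb)).coprime_dvd_left
      (Subgroup.card_dvd_of_le inf_le_left)⟩
  refine ⟨PF8Sets.normalizer_eq hG hM hne hsub hinv,
    { one_not_mem := fun h => (hsub 1 h).2 rfl
      subset := fun a ha => (hsub a ha).1
      conj_mem := hinv
      fusion := fun a ha g hg => hfus a (hAX ha) g (hAX hg)
      le_centralizer := ?_
      conj_mem_H := ?_
      inf_eq_bot := ?_
      sup_eq := ?_
      coprime := ?_ }⟩
  · intro a ha
    rcases hR a ha with ⟨-, h⟩ | ⟨h, -⟩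
    · rw [h]; exact bot_le
    · exact h.1
  · intro a ha c hc u hu
    rcases hR a ha with ⟨-, h⟩ | ⟨-, h, -⟩
    · rw [h, Subgroup.mem_bot] at hu ⊢
      simp [hu]
    · exact (Subgroup.mem_normalizer_iff.1 (h hc) u).1 hu
  · intro a ha
    rcases hR a ha with ⟨-, h⟩ | ⟨h, -⟩
    · rw [h, bot_inf_eq]
    · exact h.2.2.1
  · intro a ha
    rcases hR a ha with ⟨hc, h⟩ | ⟨h, -⟩
    · rw [h, bot_sup_eq, inf_eq_right.2 hc]
    · exact BGTypeBasic.sup_eq_of_isComplIn h
  · intro a ha b hb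
    rcases hR a ha with ⟨-, h⟩ | ⟨-, -, h⟩
    · rw [h, Subgroup.card_bot]; exact Nat.coprime_one_left _
    · exact h b hb

end Cfsg.Agent.S1537
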