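import Cfsg.Statements.S1389
import Cfsg.Agent.Lib.BGTypeForward

set_option autoImplicit false
open Cfsg

namespace Cfsg.Agent.S1389

/-- Let G be a minimal simple group of odd order and M a maximal subgroup, and let M_s be M' if M is of Type III or IV and M_F otherwise. Then N_G(P) ≤ M for every nontrivial Sylow subgroup P of M_s, and both M_F and M_s have order coprime to their index in G. -/
theorem result {G : Type*} [Group G] [Finite G] (hG : Cfsg.IsMinSimpleOddOrder G)
    (M : Subgroup G) (hM : IsCoatom M) :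
    (∀ (p : ℕ), p.Prime → ∀ (P : Sylow p ↥(Cfsg.typeCore M)), (P : Subgroup ↥(Cfsg.typeCore M)) ≠ ⊥ →
        Subgroup.normalizer ((((P : Subgroup ↥(Cfsg.typeCore M)).map (Cfsg.typeCore M).subtype : Subgroup G)) : Set G) ≤ M) ∧
      (Nat.card (Cfsg.fittingHallOf M)).Coprime (Cfsg.fittingHallOf M).index ∧
      (Nat.card (Cfsg.typeCore M)).Coprime (Cfsg.typeCore M).index := by
  rw [BGTypeForward.typeCore_eq_sigmaCore hG hM]
  refine ⟨fun p hp P hP => ?_, ?_, BGTypeSetup.sigmaCore_coprime_index hG hM⟩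
  · haveI := Fact.mk hp
    have hpd : p ∣ Nat.card (Cfsg.sigmaCore M) := by
      obtain ⟨k, hk⟩ := P.isPGroup'.exists_card_eq
      have hk0 : k ≠ 0 := fun h => hP (Subgroup.eq_bot_of_card_eq _ (by rw [hk, h, pow_zero]))
      exact ((dvd_pow_self p hk0).trans hk.symm.dvd).trans (Subgroup.card_subgroup_dvd_card _)
    have hσ := BGTypeSetup.mem_sigma_of_dvd hG hM hp hpd
    set Q := (P : Subgroup ↥(Cfsg.sigmaCore M)).map (Cfsg.sigmaCore M).subtype with hQ
    refine BGSigma.normalizer_le_of_sigma hσ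
      ⟨(Subgroup.map_subtype_le _).trans (BGTypeSetup.sigmaCore_le M), P.isPGroup'.map _,
        fun R hQR hRM hR => ?_⟩
    have hRσ : R ≤ Cfsg.sigmaCore M := fun a ha =>
      BGTypeSetup.sigma_element_mem hG hM (hRM ha) fun r hr hd => by
        obtain ⟨k, hk⟩ := hR.exists_card_eq
        have h2 := hd.trans (Subgroup.orderOf_dvd_natCard _ ha)
        rw [hk] at h2
        rwa [(Nat.prime_dvd_prime_iff_eq hr hp).mp (hr.dvd_of_dvd_pow h2)]
    have h1 : R.subgroupOf (Cfsg.sigmaCore M) = (P : Subgroup ↥(Cfsg.sigmaCore M)) := by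
      refine P.is_maximal' (hR.of_equiv (Subgroup.subgroupOfEquivOfLe hRσ).symm) ?_
      intro a ha
      exact hQR ⟨a, ha, rfl⟩
    rw [hQ, ← h1, Subgroup.map_subgroupOf_eq_of_le hRσ]
  · refine BGTypeSetup.coprime_of_primes fun q hq h1 h2 => ?_
    have hle := FittingHallBasic.fittingHallOf_le M
    rw [← Subgroup.relIndex_mul_index hle] at h2
    rcases hq.dvd_mul.mp h2 with h | h
    · exact hq.not_dvd_one ((FittingHallBasic.fittingHallOf_coprime M).gcd_eq_one ▸ Nat.dvd_gcd h1 h)
    · haveI := Fact.mk hq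
      exact BGSigma.not_dvd_index_of_sigma hG hM (BGTypeSetup.mem_sigma_of_dvd hG hM hq
        (h1.trans (Subgroup.card_dvd_of_le ((S1355.result hG M hM).2.1)))) h

end Cfsg.Agent.S1389
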