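import Cfsg.Statements.S1539
import Cfsg.Agent.Lib.PF8Supports
import Cfsg.Agent.S1379
import Cfsg.Agent.S1391
import Cfsg.Agent.S1537

set_option autoImplicit false
open Cfsg

namespace Cfsg.Agent.S1539

open PF8Supports

/-- `T` supports `S` iff `A₁(S) ∩ A(T)` is nonempty. -/
theorem supports_iff {G : Type*} [Group G] [Finite G] (hG : Cfsg.IsMinSimpleOddOrder G)
    {S T : Subgroup G} (hS : IsCoatom S) (hT : IsCoatom T)
    (hnc : ∀ g : G, T.map (MulAut.conj g).toMonoidHom ≠ S) :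
    Cfsg.Supports T S ↔ (Cfsg.typeA1 S ∩ Cfsg.typeA T).Nonempty := by
  constructor
  · rintro ⟨-, x, hx, hxS, hxT⟩
    obtain ⟨-, hD, hL⟩ := S1391.result hG S hS _ (Or.inr rfl)
    exact ⟨x, (hD x hx hxS).1, (hL x hx hxS T hT hxT).2.2.2.2.1.1⟩
  · rintro ⟨x, hx1, hxA⟩
    obtain ⟨h1, h2⟩ := centralizer_of_mem_inter hG hS hT hnc hx1 hxA
    exact ⟨hT, x, Or.inl (PF8Sets.typeA1_subset_typeA hG hS hx1), h1, h2⟩

theorem exists_supports_iff {G : Type*} [Group G] [Finite G] (hG : Cfsg.IsMinSimpleOddOrder G)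
    {S T : Subgroup G} (hS : IsCoatom S) (hT : IsCoatom T)
    (hnc : ∀ g : G, T.map (MulAut.conj g).toMonoidHom ≠ S) :
    (∃ g : G, Cfsg.Supports (T.map (MulAut.conj g).toMonoidHom) S) ↔
      (Cfsg.tildeOf S (Cfsg.typeA1 S) ∩ Cfsg.tildeOf T (Cfsg.typeA T)).Nonempty := by
  constructor
  · rintro ⟨g, hg⟩
    obtain ⟨x, hx1, hxA⟩ :=
      (supports_iff hG hS (PF8Sets.isCoatom_map_conj hT g) (notConj_map hnc g)).1 hg
    obtain ⟨x', rfl⟩ := (MulAut.conj g).surjective x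
    rw [BGTypeConj.mem_typeA_map_iff] at hxA
    exact ⟨g * x' * g⁻¹, ⟨_, hx1, 1, one_mem _, 1, by simp⟩, ⟨x', hxA, 1, one_mem _, g, by simp⟩⟩
  · rintro ⟨g₀, ⟨a, ha, r, hr, y, hy⟩, ⟨b, hb, s, hs, z, hz⟩⟩
    by_cases hb1 : b ∈ Cfsg.typeA1 T
    · exfalso
      have h1 : g₀ ∈ Cfsg.tildeOf S ((Cfsg.sigmaCore S : Set G) \ {1}) :=
        ⟨a, ⟨(typeCore_le_sigmaCore hG hS).2 ha.1, ha.2⟩, r, hr, y, hy⟩
      have h2 : g₀ ∈ Cfsg.tildeOf T ((Cfsg.sigmaCore T : Set G) \ {1}) :=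
        ⟨b, ⟨(typeCore_le_sigmaCore hG hT).2 hb1.1, hb1.2⟩, s, hs, z, hz⟩
      have h0 := (S1379.result hG).1 S T hS hT fun g h => notConj_symm hnc g h.symm
      exact Set.eq_empty_iff_forall_notMem.1 h0 g₀ ⟨h1, h2⟩
    have hbT : Subgroup.centralizer ({b} : Set G) ≤ T := by
      by_contra h
      exact hb1 (((S1391.result hG T hT _ (Or.inl rfl)).2.1 b hb h).1)
    have hs1 : s = 1 := by
      unfold Cfsg.supportR at hs
      rwa [dif_neg (fun h => h.1 hbT), Subgroup.mem_bot] at hs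
    subst hs1
    -- `a r` is a conjugate of `b`, and `a` is a power of it
    have hD := (S1537.result hG S hS _ (Or.inl rfl)).2
    have hra : Commute a r :=
      (Subgroup.mem_centralizer_singleton_iff.1 (hD.le_centralizer a ha hr)).symm
    have haC : a ∈ S ⊓ Subgroup.centralizer ({a} : Set G) :=
      ⟨hD.subset ha, Subgroup.mem_centralizer_singleton_iff.2 rfl⟩
    have hcop : (orderOf a).Coprime (orderOf r) :=
      ((hD.coprime a ha a ha).symm.coprime_dvd_left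
        (Subgroup.orderOf_dvd_natCard _ haC)).coprime_dvd_right
        (Subgroup.orderOf_dvd_natCard _ hr)
    obtain ⟨k, hk1, hk2⟩ := Nat.chineseRemainder hcop 1 0
    have hpow : (a * r) ^ k = a := by
      rw [hra.mul_pow, ← pow_mod_orderOf a, hk1, pow_mod_orderOf, pow_one, ← pow_mod_orderOf r, hk2,
        pow_mod_orderOf, pow_zero, mul_one]
    have hab : a * r = (MulAut.conj (y⁻¹ * z)) b := by
      have h := hy.symm.trans hz
      rw [mul_one] at h
      rw [MulAut.conj_apply]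
      have h2 := congrArg (fun t => y⁻¹ * t * y) h
      simpa [mul_assoc] using h2
    refine ⟨y⁻¹ * z, (supports_iff hG hS (PF8Sets.isCoatom_map_conj hT _) (notConj_map hnc _)).2
      ⟨a, ha, ?_⟩⟩
    have hmem := (BGTypeConj.mem_typeA_map_iff (MulAut.conj (y⁻¹ * z)) T b).2 hb
    rw [← hab] at hmem
    have hne : (a * r) ^ k ≠ 1 := by rw [hpow]; exact ha.2
    have := pow_mem_typeA hmem hne
    rwa [hpow] at this


/-- Let G be a minimal simple group of odd order and S, T maximal subgroups not conjugate in G. Then: T supports S if and only if A₁(S) ∩ A(T) is nonempty, and for every x ∈ A₁(S) ∩ A(T) the centraliser of x is contained in T but not in S; some conjugate of T supports S if and only if Ã₁(S) ∩ Ã(T) is nonempty; and at least one of Ã₁(S) ∩ Ã(T), Ã₁(T) ∩ Ã(S) is empty. -/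
theorem result {G : Type*} [Group G] [Finite G] (hG : Cfsg.IsMinSimpleOddOrder G) (S T : Subgroup G) (hS : IsCoatom S) (hT : IsCoatom T) (hnc : ∀ g : G, T.map (MulAut.conj g).toMonoidHom ≠ S) : (Cfsg.Supports T S ↔ (Cfsg.typeA1 S ∩ Cfsg.typeA T).Nonempty) ∧ (∀ x ∈ Cfsg.typeA1 S ∩ Cfsg.typeA T, ¬ Subgroup.centralizer ({x} : Set G) ≤ S ∧ Subgroup.centralizer ({x} : Set G) ≤ T) ∧ ((∃ g : G, Cfsg.Supports (T.map (MulAut.conj g).toMonoidHom) S) ↔ (Cfsg.tildeOf S (Cfsg.typeA1 S) ∩ Cfsg.tildeOf T (Cfsg.typeA T)).Nonempty) ∧ (Cfsg.tildeOf S (Cfsg.typeA1 S) ∩ Cfsg.tildeOf T (Cfsg.typeA T) = ∅ ∨ Cfsg.tildeOf T (Cfsg.typeA1 T) ∩ Cfsg.tildeOf S (Cfsg.typeA S) = ∅) := by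
  refine ⟨supports_iff hG hS hT hnc,
    fun x hx => centralizer_of_mem_inter hG hS hT hnc hx.1 hx.2,
    exists_supports_iff hG hS hT hnc, ?_⟩
  by_contra hcon
  push Not at hcon
  obtain ⟨g, hg⟩ := (exists_supports_iff hG hS hT hnc).2 hcon.1
  obtain ⟨h, -, v, hv, hvT, hvS⟩ := (exists_supports_iff hG hT hS (notConj_symm hnc)).2 hcon.2
  obtain ⟨x, hx1, hxA⟩ :=
    (supports_iff hG hS (PF8Sets.isCoatom_map_conj hT g) (notConj_map hnc g)).1 hg
  obtain ⟨x', rfl⟩ := (MulAut.conj g).surjective x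
  rw [BGTypeConj.mem_typeA_map_iff] at hxA
  obtain ⟨-, -, -, hco, -, htype, -⟩ :=
    (S1391.result hG T hT _ (Or.inr rfl)).2.2 v hv hvT _ (PF8Sets.isCoatom_map_conj hS h) hvS
  have hco' := hco x' (Or.inl hxA)
  rw [← PF8Sets.typeCore_eq_of_typeI_or_II htype, BGTypeConj.typeCore_map, BGTypeConj.card_map] at hco'
  have h1 : orderOf x' ∣ Nat.card (Cfsg.typeCore S) := by
    have := Subgroup.orderOf_dvd_natCard _ hx1.1
    rwa [MulEquiv.orderOf_eq] at this
  have h2 : orderOf x' ∣ Nat.card ↥(T ⊓ Subgroup.centralizer ({x'} : Set G)) :=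
    Subgroup.orderOf_dvd_natCard _
      ⟨(PF8Sets.typeA_subset_self hxA).1, Subgroup.mem_centralizer_singleton_iff.2 rfl⟩
  exact (PF8Sets.typeA_subset_self hxA).2
    (orderOf_eq_one_iff.1 (Nat.eq_one_of_dvd_coprimes hco' h1 h2))

end Cfsg.Agent.S1539
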