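import Cfsg.Statements.S1510
import Cfsg.Agent.Lib.OddCharGroup

set_option autoImplicit false
open Cfsg

namespace Cfsg.Agent.S1510

/-- Let L be a finite group with a normal subgroup K and a nontrivial cyclic subgroup W₁ of order coprime to its index, K ⊓ W₁ = ⊥ and K ⊔ W₁ = ⊤; let W₂ ≠ ⊥ be a cyclic subgroup of K with K ⊓ C_L(x) = W₂ for every non-identity x ∈ W₁, and suppose W₁ ⊔ W₂ has odd order. Then (W₁, W₂) is a self-normalising cyclic pair in L. -/
theorem result {L : Type*} [Group L] [Fintype L] (K W₁ W₂ : Subgroup L) [hK : K.Normal] (hKW₁ : K ⊓ W₁ = ⊥) (hKW₁' : K ⊔ W₁ = ⊤) (hW₁ : W₁ ≠ ⊥) (hW₁c : IsCyclic W₁) (hHall : Nat.Coprime (Nat.card W₁) W₁.index) (hW₂ : W₂ ≠ ⊥) (hW₂c : IsCyclic W₂) (hW₂K : W₂ ≤ K) (hC : ∀ x ∈ W₁, x ≠ 1 → K ⊓ Subgroup.centralizer ({x} : Set L) = W₂) (hodd : Odd (Nat.card ↥(W₁ ⊔ W₂))) : Cfsg.IsSelfNormalizingCyclic W₁ W₂ := by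
  classical
  have hdK : Disjoint K W₁ := disjoint_iff.mpr hKW₁
  have hcompl : Subgroup.IsComplement' K W₁ := by
    apply Subgroup.isComplement'_of_disjoint_and_mul_eq_univ hdK
    rw [← Subgroup.normal_mul K W₁, hKW₁', Subgroup.coe_top]
  have hcop : Nat.Coprime (Nat.card W₁) (Nat.card W₂) := by
    rw [hcompl.index_eq_card] at hHall
    exact hHall.coprime_dvd_right (Subgroup.card_dvd_of_le hW₂K)
  have hdisj : W₁ ⊓ W₂ = ⊥ :=
    eq_bot_iff.mpr (le_trans (le_inf (inf_le_right.trans hW₂K) inf_le_left) hKW₁.le)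
  have hcomm : ∀ a ∈ W₁, ∀ b ∈ W₂, a * b = b * a := by
    intro a ha b hb
    by_cases ha1 : a = 1
    · simp [ha1]
    · rw [← hC a ha ha1] at hb
      exact (Subgroup.mem_centralizer_singleton_iff.mp hb.2).symm
  obtain ⟨a, ha⟩ := (Subgroup.isCyclic_iff_exists_zpowers_eq_top W₁).mp hW₁c
  obtain ⟨b, hb⟩ := (Subgroup.isCyclic_iff_exists_zpowers_eq_top W₂).mp hW₂c
  have haW : a ∈ W₁ := ha ▸ Subgroup.mem_zpowers a
  have hbW : b ∈ W₂ := hb ▸ Subgroup.mem_zpowers b
  obtain ⟨m, hm1, hm2⟩ := Cfsg.Agent.OddCharGroup.exists_exponent hcop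
  have hpowA : ∀ u ∈ W₁, ∀ v ∈ W₂, (u * v) ^ m = u := by
    intro u hu v hv
    rw [show u * v = v * u from hcomm u hu v hv]
    exact Cfsg.Agent.OddCharGroup.mul_pow_exponent (hcomm u hu v hv).symm
      (hm1.of_dvd (Subgroup.orderOf_dvd_natCard W₁ hu)) ((Subgroup.orderOf_dvd_natCard W₂ hv).trans hm2)
  have hzp : W₁ ⊔ W₂ = Subgroup.zpowers (a * b) := by
    apply le_antisymm
    · have ha' : a ∈ Subgroup.zpowers (a * b) := by
        have := Subgroup.pow_mem _ (Subgroup.mem_zpowers (a * b)) m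
        rwa [hpowA a haW b hbW] at this
      have hb' : b ∈ Subgroup.zpowers (a * b) := by
        have := Subgroup.mul_mem _ (Subgroup.inv_mem _ ha') (Subgroup.mem_zpowers (a * b))
        rwa [inv_mul_cancel_left] at this
      apply sup_le
      · rw [← ha]; exact (Subgroup.zpowers_le).mpr ha'
      · rw [← hb]; exact (Subgroup.zpowers_le).mpr hb'
    · rw [Subgroup.zpowers_le]
      exact Subgroup.mul_mem_sup haW hbW
  have hcycW : IsCyclic ↥(W₁ ⊔ W₂) := by rw [hzp]; infer_instance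
  refine ⟨hW₁, hW₂, hdisj, hcomm, hcycW, ?_⟩
  have hdec : ∀ w ∈ W₁ ⊔ W₂, ∃ u ∈ W₁, ∃ v ∈ W₂, u * v = w := by
    intro w hw
    have hn : W₂ ≤ Subgroup.normalizer (W₁ : Set L) := by
      intro v hv
      rw [Subgroup.mem_normalizer_iff]
      intro u
      refine ⟨fun hu => ?_, fun hu => ?_⟩
      · rwa [← hcomm u hu v hv, mul_inv_cancel_right]
      · have h3 := hcomm _ hu v hv
        have : u = v * u * v⁻¹ := by
          apply mul_left_cancel (a := v)
          calc v * u = v * u * v⁻¹ * v := by group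
            _ = _ := h3
        rw [this]; exact hu
    rw [← SetLike.mem_coe, Subgroup.coe_mul_of_right_le_normalizer_left W₁ W₂ hn] at hw
    obtain ⟨u, hu, v, hv, e⟩ := hw
    exact ⟨u, hu, v, hv, e⟩
  intro X hX hne
  have habel : ∀ u ∈ W₁ ⊔ W₂, ∀ v ∈ W₁ ⊔ W₂, u * v = v * u := by
    intro u hu v hv
    rw [hzp] at hu hv
    obtain ⟨i, rfl⟩ := hu
    obtain ⟨j, rfl⟩ := hv
    exact (Commute.refl (a * b)).zpow_zpow i j
  apply le_antisymm
  · intro g hg
    obtain ⟨w, hw⟩ := hne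
    have hw' := (Subgroup.mem_set_normalizer_iff.mp hg w).mp hw
    obtain ⟨hwW, hwn⟩ := hX hw
    obtain ⟨u, hu, v, hv, e⟩ := hdec w hwW
    obtain ⟨u', hu', v', hv', e'⟩ := hdec _ (hX hw').1
    have hu1 : u ≠ 1 := by
      rintro rfl
      exact hwn (Or.inr (by rw [← e, one_mul]; exact hv))
    have hgu : g * u * g⁻¹ = u' := by
      have h5 := congrArg (· ^ m) e'
      rw [hpowA u' hu' v' hv', conj_pow, ← e, hpowA u hu v hv] at h5
      exact h5.symm
    obtain ⟨⟨⟨k, hk⟩, ⟨s, hs⟩⟩, hks⟩ := hcompl.2 g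
    simp only at hks
    have hsu : s * u = u * s :=
      habel s (Subgroup.mem_sup_left hs) u (Subgroup.mem_sup_left hu)
    have hku : k * u * k⁻¹ = u' := by
      rw [← hgu, ← hks]
      calc k * u * k⁻¹ = k * (u * s) * s⁻¹ * k⁻¹ := by group
        _ = k * (s * u) * s⁻¹ * k⁻¹ := by rw [hsu]
        _ = k * s * u * (k * s)⁻¹ := by group
    have h6 : k * (u * k⁻¹ * u⁻¹) = u' * u⁻¹ := by rw [← hku]; group
    have h7 : u' * u⁻¹ = 1 := by
      have hK' : u' * u⁻¹ ∈ K := h6 ▸ K.mul_mem hk (hK.conj_mem _ (K.inv_mem hk) u)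
      have h8 : u' * u⁻¹ ∈ K ⊓ W₁ := ⟨hK', W₁.mul_mem hu' (W₁.inv_mem hu)⟩
      rw [hKW₁] at h8
      exact h8
    have huu : u' = u := mul_inv_eq_one.mp h7
    have hkW : k ∈ W₂ := by
      rw [← hC u hu hu1]
      refine ⟨hk, Subgroup.mem_centralizer_singleton_iff.mpr ?_⟩
      rw [huu] at hku
      exact mul_inv_eq_iff_eq_mul.mp hku
    rw [← hks]
    exact Subgroup.mul_mem _ (Subgroup.mem_sup_right hkW) (Subgroup.mem_sup_left hs)
  · intro g hg
    rw [Subgroup.mem_set_normalizer_iff]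
    intro n
    constructor
    · intro hn
      rwa [habel g hg n (hX hn).1, mul_inv_cancel_right]
    · intro hn
      have h9 := habel g hg _ (hX hn).1
      have : n = g * n * g⁻¹ := by
        apply mul_left_cancel (a := g)
        calc g * n = g * n * g⁻¹ * g := by group
          _ = _ := h9.symm
      rw [this]; exact hn

end Cfsg.Agent.S1510
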