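import Cfsg.Statements.S1531
import Cfsg.Agent.Lib.CoherenceExtend

set_option autoImplicit false
open Cfsg

namespace Cfsg.Agent.S1531

open Cfsg.Agent.CharBasic Cfsg.Agent.CharBasicOrth Cfsg.Agent.CharBasicDecomp Cfsg.Agent.CoherenceBasic

theorem union_coherent {N : Type*} [Group N] [Fintype N] {G : Type*} [Group G] [Fintype G]
    {S X Y : Set (N → ℂ)} (hirr : ∀ ξ ∈ S, Cfsg.IsIrrCharacter N ξ) (hXS : X ⊆ S) (hYS : Y ⊆ S)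
    (hXY : Disjoint X Y) (hX2 : ∃ a ∈ X, ∃ b ∈ X, a ≠ b) (hY2 : ∃ a ∈ Y, ∃ b ∈ Y, a ≠ b)
    {α : (N → ℂ) → (G → ℂ)} (hα : Cfsg.IsLinearIsometryOn (Cfsg.zspanOn S {1}ᶜ) α)
    (hα1 : ∀ θ ∈ Cfsg.zspanOn S {1}ᶜ, α θ 1 = 0) {σ τ : (N → ℂ) → (G → ℂ)}
    (hσ : Cfsg.IsLinearIsometryOn (Cfsg.zspan X) σ) (hσα : ∀ θ ∈ Cfsg.zspanOn X {1}ᶜ, σ θ = α θ)
    (hτ : Cfsg.IsLinearIsometryOn (Cfsg.zspan Y) τ) (hτα : ∀ θ ∈ Cfsg.zspanOn Y {1}ᶜ, τ θ = α θ) :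
    (∀ χ ∈ X, ∀ η ∈ Y, Cfsg.classInner (σ χ) (τ η) = 0) ∧
    ((∃ χ₀ ∈ X, ∃ η₀ ∈ Y, α (χ₀ 1 • η₀ - η₀ 1 • χ₀) = χ₀ 1 • τ η₀ - η₀ 1 • σ χ₀) →
      Cfsg.IsCoherent (X ∪ Y) {1}ᶜ α) := by
  classical
  choose! d hd0 hd using fun ξ (hξ : ξ ∈ S) => isIrrCharacter_apply_one (hirr ξ hξ)
  have horth : ∀ a ∈ S, ∀ b ∈ S, a ≠ b → Cfsg.classInner a b = 0 := fun a ha b hb h =>
    classInner_irr_ne (hirr a ha) (hirr b hb) h
  have hnex : ∀ {T : Set (N → ℂ)}, (∃ a ∈ T, ∃ b ∈ T, a ≠ b) → ∀ a ∈ T, ∃ b ∈ T, a ≠ b := by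
    rintro T ⟨p, hp, q, hq, hpq⟩ a ha
    by_cases h : a = p
    · exact ⟨q, hq, h ▸ hpq⟩
    · exact ⟨p, hp, h⟩
  have hmemT : ∀ {T : Set (N → ℂ)}, T ⊆ S → ∀ a ∈ T, ∀ b ∈ T,
      (d a : ℂ) • b - (d b : ℂ) • a ∈ Cfsg.zspanOn T {1}ᶜ := fun {T} hT a ha b hb =>
    mem_zspanOn_one (zspan_sub (zspan_natCast_smul _ (subset_zspan hb)) (zspan_natCast_smul _ (subset_zspan ha)))
      (by simp [hd a (hT ha), hd b (hT hb), mul_comm])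
  have hval : ∀ {T : Set (N → ℂ)} {v : (N → ℂ) → (G → ℂ)}, T ⊆ S →
      Cfsg.IsLinearIsometryOn (Cfsg.zspan T) v → (∀ θ ∈ Cfsg.zspanOn T {1}ᶜ, v θ = α θ) →
      ∀ a ∈ T, ∀ b ∈ T, α ((d a : ℂ) • b - (d b : ℂ) • a) = (d a : ℂ) • v b - (d b : ℂ) • v a := by
    intro T v hT hv hvα a ha b hb
    rw [← hvα _ (hmemT hT a ha b hb), span_map_sub hv (zspan_natCast_smul _ (subset_zspan hb))
      (zspan_natCast_smul _ (subset_zspan ha)), span_map_natCast_smul hv _ (subset_zspan hb),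
      span_map_natCast_smul hv _ (subset_zspan ha)]
  have hsi : ∀ {T : Set (N → ℂ)} {v : (N → ℂ) → (G → ℂ)}, T ⊆ S →
      Cfsg.IsLinearIsometryOn (Cfsg.zspan T) v → ∀ a ∈ T, SignedIrr (v a) := fun {T v} hT hv a ha =>
    si_of_norm_one (hv.2.2.2 a (subset_zspan ha))
      ((hv.2.2.1 a (subset_zspan ha) a (subset_zspan ha)).trans (classInner_irr_self (hirr a (hT ha))))
  have hperp : ∀ χ ∈ X, ∀ η ∈ Y, Cfsg.classInner (σ χ) (τ η) = 0 := by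
    intro χ hχ η hη
    obtain ⟨χ', hχ', hne⟩ := hnex hX2 χ hχ
    obtain ⟨η', hη', hne'⟩ := hnex hY2 η hη
    have h1 := hval hXS hσ hσα χ' hχ' χ hχ
    have h2 := hval hYS hτ hτα η' hη' η hη
    have m1 := zspanOn_mono hXS (hmemT hXS χ' hχ' χ hχ)
    have m2 := zspanOn_mono hYS (hmemT hYS η' hη' η hη)
    have hz : Cfsg.classInner ((d χ' : ℂ) • σ χ - (d χ : ℂ) • σ χ') ((d η' : ℂ) • τ η - (d η : ℂ) • τ η') = 0 := by
      rw [← h1, ← h2, hα.2.2.1 _ m1 _ m2]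
      have hn : ∀ a ∈ X, ∀ b ∈ Y, a ≠ b := fun a ha b hb h => Set.disjoint_left.mp hXY ha (h ▸ hb)
      simp [classInner_sub_left, classInner_sub_right, classInner_smul_left, classInner_smul_right,
        horth χ (hXS hχ) η (hYS hη) (hn χ hχ η hη), horth χ (hXS hχ) η' (hYS hη') (hn χ hχ η' hη'),
        horth χ' (hXS hχ') η (hYS hη) (hn χ' hχ' η hη), horth χ' (hXS hχ') η' (hYS hη') (hn χ' hχ' η' hη')]
    have e1 := hα1 _ m1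
    rw [h1] at e1
    have e2 := hα1 _ m2
    rw [h2] at e2
    have hR : ∀ ξ ∈ S, ((d ξ : ℕ) : ℝ) ≠ 0 := fun ξ hξ => Nat.cast_ne_zero.mpr (hd0 ξ hξ).ne'
    exact (four_si (hsi hXS hσ χ hχ) (hsi hXS hσ χ' hχ') (hsi hYS hτ η hη) (hsi hYS hτ η' hη')
      (hR χ' (hXS hχ')) (hR χ (hXS hχ)) (hR η' (hYS hη')) (hR η (hYS hη))
      ((hσ.2.2.1 χ (subset_zspan hχ) χ' (subset_zspan hχ')).trans (horth χ (hXS hχ) χ' (hXS hχ') hne))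
      ((hτ.2.2.1 η (subset_zspan hη) η' (subset_zspan hη')).trans (horth η (hYS hη) η' (hYS hη') hne'))
      (by simpa using hz) (by simpa [sub_eq_zero] using e1) (by simpa [sub_eq_zero] using e2)).1
  refine ⟨hperp, ?_⟩
  rintro ⟨χ₀, hχ₀, η₀, hη₀, h0⟩
  have hfin : (X ∪ Y).Finite :=
    ((Set.toFinite ((Set.univ : Set (Cfsg.IrrCharacter N)))).image Subtype.val).subset fun ξ hξ =>
      ⟨⟨ξ, hirr ξ (hξ.elim (fun h => hXS h) (fun h => hYS h))⟩, trivial, rfl⟩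
  have hsub : X ∪ Y ⊆ S := Set.union_subset hXS hYS
  let f : (N → ℂ) → (G → ℂ) := fun a => if a ∈ X then σ a else τ a
  have fX : ∀ a ∈ X, f a = σ a := fun a ha => if_pos ha
  have fY : ∀ a ∈ Y, f a = τ a := fun a ha => if_neg fun h => Set.disjoint_left.mp hXY h ha
  have hαU : Cfsg.IsLinearIsometryOn (Cfsg.zspanOn (X ∪ Y) {1}ᶜ) α :=
    ⟨fun a ha b hb => hα.1 a (zspanOn_mono hsub ha) b (zspanOn_mono hsub hb),
      fun a ha => hα.2.1 a (zspanOn_mono hsub ha),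
      fun a ha b hb => hα.2.2.1 a (zspanOn_mono hsub ha) b (zspanOn_mono hsub hb),
      fun a ha => hα.2.2.2 a (zspanOn_mono hsub ha)⟩
  refine coherent_of_pairs hfin (fun a ha b hb h => horth a (hsub ha) b (hsub hb) h)
    (fun a ha => by rw [classInner_irr_self (hirr a (hsub ha))]; exact one_ne_zero) hαU f ?_ ?_ d
    (fun a ha => hd a (hsub ha)) χ₀ (Or.inl hχ₀) (hd0 χ₀ (hXS hχ₀)).ne'
    ⟨η₀, Or.inr hη₀, fun h => Set.disjoint_left.mp hXY hχ₀ (h ▸ hη₀)⟩ ?_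
  · rintro a (ha | ha)
    · rw [fX a ha]; exact hσ.2.2.2 a (subset_zspan ha)
    · rw [fY a ha]; exact hτ.2.2.2 a (subset_zspan ha)
  · rintro a (ha | ha) b (hb | hb)
    · rw [fX a ha, fX b hb]; exact hσ.2.2.1 a (subset_zspan ha) b (subset_zspan hb)
    · rw [fX a ha, fY b hb, hperp a ha b hb,
        horth a (hXS ha) b (hYS hb) fun h => Set.disjoint_left.mp hXY ha (h ▸ hb)]
    · rw [fY a ha, fX b hb, ← conj_classInner, hperp b hb a ha, map_zero,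
        horth a (hYS ha) b (hXS hb) fun h => Set.disjoint_left.mp hXY hb (h ▸ ha)]
    · rw [fY a ha, fY b hb]; exact hτ.2.2.1 a (subset_zspan ha) b (subset_zspan hb)
  · rintro a (ha | ha)
    · rw [fX a ha, fX χ₀ hχ₀]; exact hval hXS hσ hσα χ₀ hχ₀ a ha
    · rw [fX χ₀ hχ₀, fY a ha]
      rw [hd χ₀ (hXS hχ₀), hd η₀ (hYS hη₀)] at h0
      have he0 : (d η₀ : ℂ) ≠ 0 := Nat.cast_ne_zero.mpr (hd0 η₀ (hYS hη₀)).ne'
      apply smul_right_injective (G → ℂ) he0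
      have m1 : (d χ₀ : ℂ) • a - (d a : ℂ) • χ₀ ∈ Cfsg.zspanOn S {1}ᶜ :=
        mem_zspanOn_one (zspan_sub (zspan_natCast_smul _ (subset_zspan (hYS ha)))
          (zspan_natCast_smul _ (subset_zspan (hXS hχ₀)))) (by simp [hd a (hYS ha), hd χ₀ (hXS hχ₀), mul_comm])
      have m2 : (d χ₀ : ℂ) • η₀ - (d η₀ : ℂ) • χ₀ ∈ Cfsg.zspanOn S {1}ᶜ :=
        mem_zspanOn_one (zspan_sub (zspan_natCast_smul _ (subset_zspan (hYS hη₀)))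
          (zspan_natCast_smul _ (subset_zspan (hXS hχ₀)))) (by simp [hd η₀ (hYS hη₀), hd χ₀ (hXS hχ₀), mul_comm])
      have m3 := zspanOn_mono hYS (hmemT hYS η₀ hη₀ a ha)
      show (d η₀ : ℂ) • α ((d χ₀ : ℂ) • a - (d a : ℂ) • χ₀) = _
      rw [← iso_map_natCast_smul hα _ m1,
        show (d η₀ : ℂ) • ((d χ₀ : ℂ) • a - (d a : ℂ) • χ₀) =
          (d χ₀ : ℂ) • ((d η₀ : ℂ) • a - (d a : ℂ) • η₀) + (d a : ℂ) • ((d χ₀ : ℂ) • η₀ - (d η₀ : ℂ) • χ₀) by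
          module,
        hα.1 _ (zspanOn_natCast_smul _ m3) _ (zspanOn_natCast_smul _ m2), iso_map_natCast_smul hα _ m3,
        iso_map_natCast_smul hα _ m2, hval hYS hτ hτα η₀ hη₀ a ha, h0]
      module


/-- Let N be a subgroup of the finite group G, S a set of irreducible characters of N, and α a linear isometry on the integer combinations of S vanishing at 1 with values virtual characters of G vanishing at 1. Let X, Y ⊆ S be disjoint, each with at least two members, and σ, τ linear isometries on ℤ[X], ℤ[Y] into virtual characters agreeing with α on the members vanishing at 1. Then ⟨σ χ, τ η⟩ = 0 for χ ∈ X, η ∈ Y; and if for some χ₀ ∈ X, η₀ ∈ Y with degrees c = χ₀ 1, e = η₀ 1 one has α (c • η₀ − e • χ₀) = c • τ η₀ − e • σ χ₀, then (X ∪ Y, N minus 1, α) is coherent. -/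
theorem result {G : Type*} [Group G] [Fintype G] (N : Subgroup G) [Fintype N] (S X Y : Set (N → ℂ)) (hirr : ∀ ξ ∈ S, Cfsg.IsIrrCharacter N ξ) (hXS : X ⊆ S) (hYS : Y ⊆ S) (hXY : Disjoint X Y) (hX2 : ∃ a ∈ X, ∃ b ∈ X, a ≠ b) (hY2 : ∃ a ∈ Y, ∃ b ∈ Y, a ≠ b) (α : (N → ℂ) → (G → ℂ)) (hα : Cfsg.IsLinearIsometryOn (Cfsg.zspanOn S {1}ᶜ) α) (hα1 : ∀ θ ∈ Cfsg.zspanOn S {1}ᶜ, α θ 1 = 0) (σ τ : (N → ℂ) → (G → ℂ)) (hσ : Cfsg.IsLinearIsometryOn (Cfsg.zspan X) σ) (hσα : ∀ θ ∈ Cfsg.zspanOn X {1}ᶜ, σ θ = α θ) (hτ : Cfsg.IsLinearIsometryOn (Cfsg.zspan Y) τ) (hτα : ∀ θ ∈ Cfsg.zspanOn Y {1}ᶜ, τ θ = α θ) : (∀ χ ∈ X, ∀ η ∈ Y, Cfsg.classInner (σ χ) (τ η) = 0) ∧ ((∃ χ₀ ∈ X, ∃ η₀ ∈ Y, α (χ₀ 1 • η₀ - η₀ 1 • χ₀) = χ₀ 1 • τ η₀ - η₀ 1 • σ χ₀) → Cfsg.IsCoherent (X ∪ Y) {1}ᶜ α) := by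
  exact union_coherent hirr hXS hYS hXY hX2 hY2 hα hα1 hσ hσα hτ hτα

end Cfsg.Agent.S1531
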