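import Cfsg.Statements.S1522
import Cfsg.Agent.Lib.PF6Frob43

set_option autoImplicit false
open Cfsg

namespace Cfsg.Agent.S1522

/-- Let K be a nilpotent normal subgroup of the finite group L of odd order with [K,K] < K < L and L/[K,K] a Frobenius group with kernel K/[K,K] (elements of K outside [K,K] are centralised modulo [K,K] only from inside K); let (S, τ, R) be a coherence system from L to G with S the functions induced from non-principal irreducible characters of K. Let Z be a nontrivial normal subgroup of L contained in the centre of K, and suppose every member of S outside S(Z) is an irreducible character of L. Then S minus S(Z) is the set of irreducible characters χ of L with χ z ≠ χ 1 for some z ∈ Z, and it is coherent. -/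
theorem result {L : Type*} [Group L] [Fintype L] {G : Type*} [Group G] [Fintype G] (K : Subgroup L) [hK : K.Normal] (hsolv : Group.IsSolvable K) (τ : (L → ℂ) → (G → ℂ)) (R : (L → ℂ) → Finset (G → ℂ)) (hS : Cfsg.IsCoherenceSystem (Cfsg.inducedIrrAbove K ⊥) τ R) (hodd : Odd (Nat.card L)) (hnil : Group.IsNilpotent K) (hH₁K : ⁅K, K⁆ < K) (hKL : K < ⊤) (hfrob : ∀ k ∈ K, k ∉ ⁅K, K⁆ → ∀ x : L, x * k * x⁻¹ * k⁻¹ ∈ ⁅K, K⁆ → x ∈ K) (Z : Subgroup L) [Z.Normal] (hZ1 : Z ≠ ⊥) (hZK : Z ≤ K) (hZc : ∀ z ∈ Z, ∀ k ∈ K, z * k = k * z) (hirr : ∀ χ ∈ Cfsg.inducedIrrAbove K ⊥ \ Cfsg.inducedIrrAbove K Z, Cfsg.IsIrrCharacter L χ) : Cfsg.inducedIrrAbove K ⊥ \ Cfsg.inducedIrrAbove K Z = {χ | Cfsg.IsIrrCharacter L χ ∧ ∃ z ∈ Z, χ z ≠ χ 1} ∧ Cfsg.IsCoherent (Cfsg.inducedIrrAbove K ⊥ \ Cfsg.inducedIrrAbove K Z) {1}ᶜ τ := by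
  classical
  have hXeq := PF6.diff_eq_irr hZK hirr
  refine ⟨hXeq, ?_⟩
  set X := Cfsg.inducedIrrAbove K ⊥ \ Cfsg.inducedIrrAbove K Z with hX
  have hXS : X ⊆ Cfsg.inducedIrrAbove K ⊥ := fun _ h => h.1
  have hXc : ∀ φ ∈ X, Cfsg.conjFun φ ∈ X := fun φ hφ => ⟨PF6.induced_conj hφ.1, fun h => hφ.2 (by
    simpa [CoherenceBasic.conjFun_conjFun] using PF6.induced_conj h)⟩
  have hbot : (⊥ : Subgroup L).subgroupOf K = ⊥ := Subgroup.bot_subgroupOf K
  haveI : ((⊥ : Subgroup L).subgroupOf K).Normal := hbot ▸ inferInstance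
  have hnil' : Group.IsNilpotent (↥K ⧸ (⊥ : Subgroup L).subgroupOf K) :=
    Group.nilpotent_of_surjective (QuotientGroup.mk' _) (QuotientGroup.mk'_surjective _)
  obtain ⟨z, hz, hz1⟩ := Z.bot_or_exists_ne_one.resolve_left hZ1
  obtain ⟨θ₀, hθ₀⟩ : ∃ θ : Cfsg.IrrCharacter ↥K, (θ : ↥K → ℂ) ⟨z, hZK hz⟩ ≠ (θ : ↥K → ℂ) 1 := by
    by_contra hcon
    push Not at hcon
    have h := (CharBasicOrth.isConj_iff_forall_irr (⟨z, hZK hz⟩ : ↥K) 1).2 fun θ => hcon θ
    rw [isConj_one_left] at h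
    exact hz1 (congrArg Subtype.val h)
  have hne : X.Nonempty := ⟨PF6.ind K θ₀, PF6.mem_induced_diff.2 ⟨θ₀,
    PF6.mem_aboveFin_bot.2 fun e => hθ₀ (by rw [e]), fun h => hθ₀ ((PF6.mem_aboveFin.1 h).2 _ hz), rfl⟩⟩
  have hzero : ⁅K, K⁆ ⊔ (⊥ : Subgroup L) = ⁅K, K⁆ := sup_bot_eq _
  by_cases hpp : ∃ p m : ℕ, p.Prime ∧ (⊥ : Subgroup L).relIndex K = p ^ m
  · obtain ⟨p, m, hp, hm⟩ := hpp
    rw [Subgroup.relIndex_bot_left] at hm
    haveI := Fact.mk hp
    have hKp : IsPGroup p ↥K := IsPGroup.of_card hm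
    have hm0 : m ≠ 0 := fun h => hH₁K.ne (by
      rw [h, pow_zero, Subgroup.card_eq_one] at hm
      subst hm
      simp)
    have hp3 : 3 ≤ p := by
      have hdvd : p ∣ Nat.card L :=
        (hm ▸ dvd_pow_self p hm0 : p ∣ Nat.card ↥K).trans (Subgroup.card_subgroup_dvd_card K)
      have h2 : p ≠ 2 := fun h => Nat.not_even_iff_odd.2 hodd (even_iff_two_dvd.2 (h ▸ hdvd))
      have := hp.two_le
      omega
    have hcop : K.index.Coprime p := by
      have hπs := QuotientGroup.mk'_surjective ⁅K, K⁆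
      have hπ1 : ∀ x : L, QuotientGroup.mk' ⁅K, K⁆ x = 1 ↔ x ∈ ⁅K, K⁆ := fun x => QuotientGroup.eq_one_iff x
      haveI : (K.map (QuotientGroup.mk' ⁅K, K⁆)).Normal := Subgroup.Normal.map ‹_› _ hπs
      have hC : ∀ n ∈ K.map (QuotientGroup.mk' ⁅K, K⁆), n ≠ 1 →
          Subgroup.centralizer ({n} : Set (L ⧸ ⁅K, K⁆)) ≤ K.map (QuotientGroup.mk' ⁅K, K⁆) := by
        rintro _ ⟨k, hk, rfl⟩ hk1 g hg
        obtain ⟨x, rfl⟩ := hπs g
        refine Subgroup.mem_map_of_mem _ (hfrob k hk (fun h => hk1 ((hπ1 k).2 h)) x ?_)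
        rw [Subgroup.mem_centralizer_singleton_iff] at hg
        rw [← hπ1, map_mul, map_mul, map_mul, map_inv, map_inv, hg]
        group
      have hd := PF6.index_dvd_card_sub_one _ _ le_rfl hC
      rw [Subgroup.index_map_eq K hπs (by rw [QuotientGroup.ker_mk']; exact hH₁K.le)] at hd
      rw [Nat.coprime_comm, hp.coprime_iff_not_dvd]
      intro h
      have hb : IsPGroup p ↥(K.map (QuotientGroup.mk' ⁅K, K⁆)) := hKp.map _
      obtain ⟨d, hd'⟩ := hb.exists_card_eq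
      have hd0 : d ≠ 0 := by
        intro h0
        rw [h0, pow_zero, Subgroup.card_eq_one, Subgroup.map_eq_bot_iff, QuotientGroup.ker_mk'] at hd'
        exact hH₁K.not_ge hd'
      have h1 := h.trans hd
      rw [hd'] at h1
      have h2 := Nat.dvd_sub (dvd_pow_self p hd0) h1
      rw [Nat.sub_sub_self (Nat.one_le_pow d p hp.pos)] at h2
      exact hp.not_dvd_one h2
    refine PF6.coherent_central_pGroup hp3 hKp hcop hZK hZ1 hZc hirr (PF6.extends_of_system hS hXS) ?_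
    intro S₀ hne₀ hsub hc hdeg _
    exact CoherenceExtend.coherent_of_constant_degree (PF6.system_restrict hS (hsub.trans hXS) hne₀ hc) hdeg
  · exact PF6.system_coherent_subset hS (PF6.coherent_frobenius hS hsolv hodd ⊥ bot_le hnil' ⁅K, K⁆
      hzero.symm hH₁K hKL hfrob (Or.inr (Or.inr (Or.inl hpp)))) hXS hXS hne hXc

end Cfsg.Agent.S1522
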