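import Cfsg.Statements.S1543
import Cfsg.Agent.Lib.FTPMain78
import Cfsg.Agent.Lib.PFSZeroBridge39
import Cfsg.Agent.Lib.PFSZeroBlock39
import Cfsg.Agent.Lib.PFSZeroNil39
import Cfsg.Agent.Lib.PFType34Bridge46

set_option autoImplicit false
open Cfsg
open scoped commutatorElement

namespace Cfsg.Agent.S1543

open Cfsg.Agent.BGTypeBasic Cfsg.Agent.FTPMain78 Cfsg.Agent.FTPCount78 Cfsg.Agent.PFSZero39

universe u

/-- No member is of type V when the other is of type II. -/
theorem not_typeV {G : Type u} [Group G] [Fintype G] (hG : Cfsg.IsMinSimpleOddOrder G)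
    {S T W₁ W₂ U V : Subgroup G} (hS : IsCoatom S) (hT : IsCoatom T) (hSP : Cfsg.IsTypePWith S W₁ U W₂)
    (hTP : Cfsg.IsTypePWith T W₂ V W₁) (hII : Cfsg.IsOfTypeII T) : ¬ Cfsg.IsOfTypeV S := by
  intro hV
  classical
  have hSetup := setup_of_typeP hG hS hSP (Or.inr (Or.inr hV)) (prime_W₁ hTP (Or.inl hII))
  have hnil : Group.IsNilpotent ↥⁅S, S⁆ := by
    rw [derived_eq_of_typeV hV]
    haveI := FittingHallBasic.fittingOf_isNilpotent S
    exact (Group.isNilpotent_congr
      (Subgroup.subgroupOfEquivOfLe (FittingHallBasic.fittingHallOf_le_fittingOf S))).1 inferInstance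
  have hker : Group.IsNilpotent ↥(PFPrimeTI.ker S) :=
    (Group.isNilpotent_congr (Subgroup.subgroupOfEquivOfLe (Subgroup.commutator_le_self S))).2 hnil
  exact false_of_szero hSetup (szero_of_nilpotent hSetup hker) fun C => exists_count hG hT hTP hII C

/-- Let G be a minimal simple group of odd order with maximal subgroups S, T carrying type-P data (S, W₁, U, W₂) and (T, W₂, V, W₁), S ⊓ T = W₁ ⊔ W₂, S or T of Type II, and each of S, T of Type II, III, IV or V. Write p for the order of W₂ and q for the order of W₁. Then: S is of Type II or of Type III, and of Type II if q < p; the subgroup S_F is elementary abelian of exponent p and order p ^ q; and A₀(S) is a TI-subset of G whose set normaliser is S. -/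
theorem result {G : Type*} [Group G] [Finite G] (hG : Cfsg.IsMinSimpleOddOrder G) (S T W₁ W₂ U V : Subgroup G) (hS : IsCoatom S) (hT : IsCoatom T) (hSP : Cfsg.IsTypePWith S W₁ U W₂) (hTP : Cfsg.IsTypePWith T W₂ V W₁) (hST : S ⊓ T = W₁ ⊔ W₂) (hII : Cfsg.IsOfTypeII S ∨ Cfsg.IsOfTypeII T) (hS25 : Cfsg.IsOfTypeII S ∨ Cfsg.IsOfTypeIII S ∨ Cfsg.IsOfTypeIV S ∨ Cfsg.IsOfTypeV S) (hT25 : Cfsg.IsOfTypeII T ∨ Cfsg.IsOfTypeIII T ∨ Cfsg.IsOfTypeIV T ∨ Cfsg.IsOfTypeV T) : (Cfsg.IsOfTypeII S ∨ Cfsg.IsOfTypeIII S) ∧ (Nat.card W₁ < Nat.card W₂ → Cfsg.IsOfTypeII S) ∧ Cfsg.IsElementaryAbelian (Nat.card W₂) (Cfsg.fittingHallOf S) ∧ Nat.card (Cfsg.fittingHallOf S) = Nat.card W₂ ^ Nat.card W₁ ∧ Cfsg.IsTISubset (Cfsg.typeA0 S) ∧ Subgroup.normalizer (Cfsg.typeA0 S) = S := by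
  haveI := Fintype.ofFinite G
  classical
  obtain ⟨hti, hN, -⟩ := FTPTI78.ti_typeA0 hG hS hSP
  by_cases hSII : Cfsg.IsOfTypeII S
  · have hp : (Nat.card W₂).Prime := by
      refine prime_W₁ hTP ?_
      rcases hT25 with h | h | h | h
      exacts [Or.inl h, Or.inr (Or.inl h), Or.inr (Or.inr h), absurd h (not_typeV hG hT hS hTP hSP hSII)]
    obtain ⟨hel, hcard⟩ := structure_typeII hG hS hSP hSII hp
    exact ⟨Or.inl hSII, fun _ => hSII, hel, hcard, hti, hN⟩
  · have hTII := hII.resolve_left hSII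
    have h34 : Cfsg.IsOfTypeIII S ∨ Cfsg.IsOfTypeIV S := by
      rcases hS25 with h | h | h | h
      exacts [absurd h hSII, Or.inl h, Or.inr h, absurd h (not_typeV hG hS hT hSP hTP hTII)]
    have hSetup := setup_of_typeP hG hS hSP (h34.imp_right Or.inl) (prime_W₁ hTP (Or.inl hTII))
    have hno : PFSZero39.SZero S W₁ W₂ → False := fun h =>
      false_of_szero hSetup h fun C => exists_count hG hT hTP hTII C
    obtain ⟨hel, hcard, hlt, -, hIII, -⟩ := PFType34.structure_of hG hS hSP h34 hSetup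
      (fun h => hno (szero_of_allCoherent hSetup h))
      (fun h d hd hdL => hno (szero_of_lt hSetup h d hd hdL))
      (fun r d X h1 h2 h3 h4 h5 h6 h7 h8 h9 h10 => hno (szero_of_block hSetup r d X h1 h2 h3 h4 h5 h6 h7 h8 h9 h10))
    exact ⟨Or.inr hIII, fun h => absurd h hlt, hel, hcard, hti, hN⟩

end Cfsg.Agent.S1543
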