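import Cfsg.Statements.S1549
import Cfsg.Agent.Lib.PF13Pair8
import Cfsg.Agent.Lib.PF13Norm8
import Cfsg.Agent.Lib.PF13TypeTwo8
import Cfsg.Agent.S1543
import Cfsg.Agent.S1540
import Cfsg.Agent.S1385

set_option autoImplicit false
open Cfsg

namespace Cfsg.Agent.S1549

/-- Let G be a minimal simple group of odd order with maximal subgroups S, T carrying type-P data (S, W₁, U, W₂) and (T, W₂, V, W₁), with S ⊓ T = W₁ ⊔ W₂, S or T of Type II, and each of S, T of Type II, III, IV or V, S of Type II, and L a maximal subgroup containing the set normaliser of U, with H = L_F. Then every non-identity element of H has its centraliser within L inside H; U ≤ H; and either H ⊓ W₁ = ⊥ with H ⊔ W₁ = L, or there is y ∈ T_F with H ⊓ (W₁ ⊔ W₂^y) = ⊥ and H ⊔ (W₁ ⊔ W₂^y) = L, where W₂^y = y W₂ y⁻¹. -/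
theorem result {G : Type*} [Group G] [Finite G] (hG : Cfsg.IsMinSimpleOddOrder G) (S T W₁ W₂ U V : Subgroup G) (hS : IsCoatom S) (hT : IsCoatom T) (hSP : Cfsg.IsTypePWith S W₁ U W₂) (hTP : Cfsg.IsTypePWith T W₂ V W₁) (hST : S ⊓ T = W₁ ⊔ W₂) (hII : Cfsg.IsOfTypeII S ∨ Cfsg.IsOfTypeII T) (hS25 : Cfsg.IsOfTypeII S ∨ Cfsg.IsOfTypeIII S ∨ Cfsg.IsOfTypeIV S ∨ Cfsg.IsOfTypeV S) (hT25 : Cfsg.IsOfTypeII T ∨ Cfsg.IsOfTypeIII T ∨ Cfsg.IsOfTypeIV T ∨ Cfsg.IsOfTypeV T) (hSII : Cfsg.IsOfTypeII S) (L : Subgroup G) (hL : IsCoatom L) (hNU : Subgroup.normalizer (U : Set G) ≤ L) : (∀ x ∈ Cfsg.fittingHallOf L, x ≠ 1 → L ⊓ Subgroup.centralizer ({x} : Set G) ≤ Cfsg.fittingHallOf L) ∧ U ≤ Cfsg.fittingHallOf L ∧ ((Cfsg.fittingHallOf L ⊓ W₁ = ⊥ ∧ Cfsg.fittingHallOf L ⊔ W₁ = L) ∨ ∃ y ∈ Cfsg.fittingHallOf T, Cfsg.fittingHallOf L ⊓ (W₁ ⊔ W₂.map (MulAut.conj y).toMonoidHom) = ⊥ ∧ Cfsg.fittingHallOf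 L ⊔ (W₁ ⊔ W₂.map (MulAut.conj y).toMonoidHom) = L) := by
  have h := Cfsg.Agent.S1543.result hG S T W₁ W₂ U V hS hT hSP hTP hST hII hS25 hT25
  have h' := Cfsg.Agent.S1543.result hG T S W₂ W₁ V U hT hS hTP hSP
    (by rw [inf_comm, hST, sup_comm]) hII.symm hT25 hS25
  have s : PF13Pair8.Shape S W₁ W₂ := ⟨h.1, h.2.1, h.2.2.1, h.2.2.2.1⟩
  have s' : PF13Pair8.Shape T W₂ W₁ := ⟨h'.1, h'.2.1, h'.2.2.1, h'.2.2.2.1⟩
  have pS := PF13Pair8.pside hG hS hSP hTP s s'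
  have pT := PF13Pair8.pside hG hT hTP hSP s' s
  have hn := PF13Norm8.normalizer_eq pT (PF13Pair8.centralizer_eq_bot hG hT hS hTP hSP s' s)
  have hN : ¬ Subgroup.normalizer (U : Set G) ≤ S := by
    obtain ⟨W₁', U', W₂', hd, -, -, -, -, hN, -⟩ := hSII
    exact fun hle => hN ((BGTypeBasic.typeP_normalizer_U_le_iff hSP hd).1 hle)
  have hI : Cfsg.IsOfTypeI L := by
    refine PF13TypeTwo8.typeI_of_classes pS pT ?_ hL hNU hN
    rcases Cfsg.Agent.S1385.result hG with hall | ⟨_, _, S', T', _, _, _, _, _, _, _, _, _, hc⟩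
    · exact Or.inl hall
    · exact Or.inr ⟨S', T', hc⟩
  have hfrob := Cfsg.Agent.S1540.result hG L hL hI
  exact ⟨hfrob, PF13TypeTwo8.structure_of_L pS pT (hn.1.trans hn.2) hNU hI hfrob⟩

end Cfsg.Agent.S1549
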