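import Cfsg.Statements.S1544
import Cfsg.Agent.Lib.PF14Main54
import Cfsg.Agent.S1385
import Cfsg.Agent.S1537
import Cfsg.Agent.S1539
import Cfsg.Agent.S1542
import Cfsg.Agent.S1543
import Cfsg.Agent.S1547
import Cfsg.Agent.S1549
-- import your own Cfsg.Agent.* helpers here

set_option autoImplicit false
open Cfsg

namespace Cfsg.Agent.S1544

/-- A maximal subgroup satisfying the conclusion of S1549 is of type I with a coherent kernel. -/
theorem frob_of {G : Type*} [Group G] [Fintype G] (hG : Cfsg.IsMinSimpleOddOrder G) {L : Subgroup G}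
    (hL : IsCoatom L)
    (hfix : ∀ x ∈ Cfsg.fittingHallOf L, x ≠ 1 → L ⊓ Subgroup.centralizer ({x} : Set G) ≤ Cfsg.fittingHallOf L) :
    PF14Frob54.Frob L := by
  have hI : Cfsg.IsOfTypeI L := by
    have hP : ¬ Cfsg.IsOfTypeP L := by
      rintro ⟨A, B, D, h⟩
      obtain ⟨a, ha, ha1⟩ := A.bot_or_exists_ne_one.resolve_left h.W₁_ne
      obtain ⟨d, hd, hd1⟩ := D.bot_or_exists_ne_one.resolve_left h.selfNormalizing.2.1
      have hdF : d ∈ Cfsg.fittingHallOf L := (h.W₂_le hd).1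
      have haF : a ∈ Cfsg.fittingHallOf L := hfix d hdF hd1 (Subgroup.mem_inf.2
        ⟨h.W₁_compl.2.1 ha, Subgroup.mem_centralizer_singleton_iff.2 (h.selfNormalizing.2.2.2.1 a ha d hd)⟩)
      exact ha1 (Subgroup.mem_bot.1 (h.W₁_compl.2.2.1 ▸ Subgroup.mem_inf.2 ⟨h.U_compl.1 haF, ha⟩))
    rcases Cfsg.Agent.S1385.result hG with hall | ⟨A, B, S', T', -, -, -, -, -, -, -, hS', hT', hcl⟩
    · exact hall L hL
    · rcases PF8Sets.type_cases_of (M := L) (fun M hM => (hcl M hM).imp id (fun ⟨g, hg⟩ =>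
          hg.elim (fun e => ⟨S', hS', g, e⟩) (fun e => ⟨T', hT', g, e⟩))) hL with h | h | (h | h) | h
      · exact h
      · exact absurd (BGTypeBasic.isOfTypeP_of_typeII h) hP
      · exact absurd (BGTypeBasic.isOfTypeP_of_typeIII h) hP
      · exact absurd (BGTypeBasic.isOfTypeP_of_typeIV h) hP
      · exact absurd (BGTypeBasic.isOfTypeP_of_typeV h) hP
  exact ⟨hL, hI, hfix, (Cfsg.Agent.S1537.result hG L hL _ (Or.inr (Or.inl rfl))).2,
    fun {_} => (Cfsg.Agent.S1542.result hG L hL hI hfix).1,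
    fun {_} => (Cfsg.Agent.S1542.result hG L hL hI hfix).2⟩

theorem exists_max {G : Type*} [Group G] [Finite G] (hG : Cfsg.IsMinSimpleOddOrder G) {S U : Subgroup G}
    (hS : IsCoatom S) (hU : U ≠ ⊥) (hUS : U ≤ S) :
    ∃ L : Subgroup G, IsCoatom L ∧ Subgroup.normalizer (U : Set G) ≤ L := by
  haveI := hG.2.1
  refine (eq_top_or_exists_le_coatom _).resolve_left fun h => ?_
  rcases (Subgroup.normalizer_eq_top_iff.mp h).eq_bot_or_eq_top with h' | h'
  · exact hU h'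
  · exact hS.1 (top_le_iff.1 (h' ▸ hUS))

/-- The index of the kernel in the two shapes. -/
theorem shape {G : Type*} [Group G] [Fintype G] {S T W₁ W₂ U V L : Subgroup G}
    (C : PF14Setup54.Pair S T W₁ W₂ U V) (hW₁L : W₁ ≤ L) (F : PF14Frob54.Frob L)
    (h : (Cfsg.fittingHallOf L ⊓ W₁ = ⊥ ∧ Cfsg.fittingHallOf L ⊔ W₁ = L) ∨
      ∃ y ∈ Cfsg.fittingHallOf T,
        Cfsg.fittingHallOf L ⊓ (W₁ ⊔ W₂.map (MulAut.conj y).toMonoidHom) = ⊥ ∧
        Cfsg.fittingHallOf L ⊔ (W₁ ⊔ W₂.map (MulAut.conj y).toMonoidHom) = L) :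
    ((Cfsg.fittingHall L).index = Nat.card W₁ ∧ Cfsg.fittingHallOf L ⊔ W₁ = L ∨
      (Cfsg.fittingHall L).index = Nat.card W₂ * Nat.card W₁ ∧
        ∃ y ∈ Cfsg.fittingHallOf T, W₂.map (MulAut.conj y).toMonoidHom ≤ L) ∧
    (Cfsg.fittingHall L).index ∣ Nat.card (Cfsg.fittingHallOf L) - 1 := by
  rcases h with ⟨hd, hs⟩ | ⟨y, hy, hd, hs⟩
  · have he := PF14Frob54.index_eq_card hW₁L hd hs
    exact ⟨Or.inl ⟨he, hs⟩, he ▸ PF14Frob54.dvd_sub_one F hW₁L hd⟩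
  · have hEL : W₁ ⊔ W₂.map (MulAut.conj y).toMonoidHom ≤ L := le_of_le_of_eq le_sup_right hs
    have hW : W₁ ⊔ W₂.map (MulAut.conj y).toMonoidHom = (W₁ ⊔ W₂).map (MulAut.conj y).toMonoidHom := by
      rw [Subgroup.map_sup]
      congr 1
      have hfix : ∀ w ∈ W₁, y * w * y⁻¹ = w := fun w hw => by
        rw [C.symm.mod.mul_comm_P hy ((C.hTP.W₂_le hw).1)]; group
      ext w
      exact ⟨fun hw => ⟨w, hw, hfix w hw⟩, by rintro ⟨v, hv, rfl⟩; show y * v * y⁻¹ ∈ W₁; rw [hfix v hv]; exact hv⟩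
    have he : (Cfsg.fittingHall L).index = Nat.card W₂ * Nat.card W₁ := by
      rw [PF14Frob54.index_eq_card hEL hd hs, hW, BGTypeConj.card_map, PF14Core54.card_W C, mul_comm]
    refine ⟨Or.inr ⟨he, y, hy, le_sup_right.trans hEL⟩, ?_⟩
    rw [PF14Frob54.index_eq_card hEL hd hs]
    exact PF14Frob54.dvd_sub_one F hEL hd


/-- Let G be a minimal simple group of odd order with maximal subgroups S, T carrying type-P data (S, W₁, U, W₂) and (T, W₂, V, W₁), with S ⊓ T = W₁ ⊔ W₂, S or T of Type II, and each of S, T of Type II, III, IV or V, and suppose the order q of W₁ is less than the order p of W₂. Then p and q are prime, S_F is elementary abelian of order p^q, U is cyclic of order (p^q − 1)/(p − 1), every non-identity element of U commutes with no non-identity element of S_F, (p^q − 1)/(p − 1) is coprime to p − 1, U normalises S_F, the order of T_F is coprime to p, T_F is elementary abelian of exponent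 q with W₂ contained in its set normaliser, and there is y ∈ T_F such that y W₂ y⁻¹ is contained in the set normaliser of U; moreover there are a field F with p^q elements, an additive bijection f from S_F onto F and a multiplicative injection ψ of U into the nonzero elements of F such that conjugation by u ∈ U on S_F becomes multiplication by ψ u, and W₂ corresponds to the prime field (the x ∈ S_F with (f x)^p = f x). -/
theorem result {G : Type*} [Group G] [Finite G] (hG : Cfsg.IsMinSimpleOddOrder G) (S T W₁ W₂ U V : Subgroup G) (hS : IsCoatom S) (hT : IsCoatom T) (hSP : Cfsg.IsTypePWith S W₁ U W₂) (hTP : Cfsg.IsTypePWith T W₂ V W₁) (hST : S ⊓ T = W₁ ⊔ W₂) (hII : Cfsg.IsOfTypeII S ∨ Cfsg.IsOfTypeII T) (hS25 : Cfsg.IsOfTypeII S ∨ Cfsg.IsOfTypeIII S ∨ Cfsg.IsOfTypeIV S ∨ Cfsg.IsOfTypeV S) (hT25 : Cfsg.IsOfTypeII T ∨ Cfsg.IsOfTypeIII T ∨ Cfsg.IsOfTypeIV T ∨ Cfsg.IsOfTypeV T) (hqp : Nat.card W₁ < Nat.card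 W₂) : (Nat.card W₁).Prime ∧ (Nat.card W₂).Prime ∧ Cfsg.IsElementaryAbelian (Nat.card W₂) (Cfsg.fittingHallOf S) ∧ Nat.card (Cfsg.fittingHallOf S) = Nat.card W₂ ^ Nat.card W₁ ∧ IsCyclic U ∧ Nat.card U * (Nat.card W₂ - 1) = Nat.card W₂ ^ Nat.card W₁ - 1 ∧ (∀ u ∈ U, u ≠ 1 → ∀ x ∈ Cfsg.fittingHallOf S, u * x = x * u → x = 1) ∧ Nat.Coprime ((Nat.card W₂ ^ Nat.card W₁ - 1) / (Nat.card W₂ - 1)) (Nat.card W₂ - 1) ∧ U ≤ Subgroup.normalizer (Cfsg.fittingHallOf S : Set G) ∧ (Nat.card (Cfsg.fittingHallOf T)).Coprime (Nat.card W₂) ∧ Cfsg.IsElementaryAbelian (Nat.card W₁) (Cfsg.fittingHallOf T) ∧ W₂ ≤ Subgroup.normalizer (Cfsg.fittingHallOf T : Set G) ∧ ∃ y ∈ Cfsg.fittingHallOf T, W₂.map (MulAut.conj y).toMonoidHom ≤ Subgroup.normalizer (U : Set G) ∧ ∃ (F : Type) (_ : Field F) (_ : Fintype F) (f : G → F) (ψ : G → F), Fintype.card F = Nat.card W₂ ^ Nat.card W₁ ∧ Set.BijOn f (Cfsg.fittingHallOf S : Set G) Set.univ ∧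 (∀ x ∈ Cfsg.fittingHallOf S, ∀ x' ∈ Cfsg.fittingHallOf S, f (x * x') = f x + f x') ∧ (∀ u ∈ U, ψ u ≠ 0 ∧ ∀ x ∈ Cfsg.fittingHallOf S, f (u * x * u⁻¹) = ψ u * f x) ∧ (∀ u ∈ U, ∀ u' ∈ U, ψ (u * u') = ψ u * ψ u') ∧ Set.InjOn ψ (U : Set G) ∧ (∀ x ∈ Cfsg.fittingHallOf S, x ∈ W₂ ↔ f x ^ Nat.card W₂ = f x) := by
  haveI := Fintype.ofFinite G
  have hST' : T ⊓ S = W₂ ⊔ W₁ := by rw [inf_comm, hST, sup_comm]
  obtain ⟨hSt, hSII', hSel, hSc, -, -⟩ :=
    Cfsg.Agent.S1543.result hG S T W₁ W₂ U V hS hT hSP hTP hST hII hS25 hT25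
  obtain ⟨hTt, -, hTel, hTc, hTTI, hTN⟩ :=
    Cfsg.Agent.S1543.result hG T S W₂ W₁ V U hT hS hTP hSP hST' hII.symm hT25 hS25
  have hfS := Cfsg.Agent.S1547.result hG S T W₁ W₂ U V hS hT hSP hTP hST hII hS25 hT25
  have hfT := Cfsg.Agent.S1547.result hG T S W₂ W₁ V U hT hS hTP hSP hST' hII.symm hT25 hS25
  have C : PF14Setup54.Pair S T W₁ W₂ U V :=
    ⟨hG, hS, hT, hSP, hTP, hST, hSt, hTt, hSel, hSc, hTel, hTc, hfS, hfT⟩
  obtain ⟨hcu, -⟩ := PF14Core54.card_eq C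
  obtain ⟨x0, hx0, hx01⟩ := C.mod.exists_W2
  obtain ⟨hUcyc, hfield⟩ := PF14Module54.isCyclic_and_field C.mod hcu hx0 hx01
  have hSII := hSII' hqp
  obtain ⟨L, hL, hNL⟩ := exists_max hG hS C.U_ne C.U_le
  obtain ⟨hfix, hUH, hsh⟩ :=
    Cfsg.Agent.S1549.result hG S T W₁ W₂ U V hS hT hSP hTP hST hII hS25 hT25 hSII L hL hNL
  haveI : Fintype ↥L := Fintype.ofFinite _
  have F := frob_of hG hL hfix
  obtain ⟨hshape, hdvd⟩ := shape C (hSP.U_normal.trans hNL) F hsh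
  have hsep : PF14Main54.Separated G := fun M N hM hN hnc =>
    (Cfsg.Agent.S1539.result hG M N hM hN hnc).2.2.2
  have hTside : PF14Main54.TSide T V (Nat.card W₂ * Nat.card W₁) := by
    rcases hTt with hTII | hT3
    · obtain ⟨M, hM, hNM⟩ := exists_max hG hT C.symm.U_ne C.symm.U_le
      obtain ⟨hfixM, hVM, hshM⟩ :=
        Cfsg.Agent.S1549.result hG T S W₂ W₁ V U hT hS hTP hSP hST' hII.symm hT25 hS25 hTII M hM hNM
      have FM := frob_of hG hM hfixM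
      obtain ⟨hshapeM, -⟩ := shape C.symm (hTP.U_normal.trans hNM) FM hshM
      refine Or.inl ⟨M, FM, hVM, ?_, ?_⟩
      · have h1 := C.prime_p.two_le
        have h2 : 0 < Nat.card W₁ := Nat.card_pos
        rcases hshapeM with ⟨e, -⟩ | ⟨e, -⟩ <;> rw [e]
        · exact h1
        · exact h1.trans (Nat.le_mul_of_pos_left _ h2)
      · rcases hshapeM with ⟨e, -⟩ | ⟨e, -⟩ <;> rw [e]
        · exact Nat.le_mul_of_pos_right _ Nat.card_pos
        · rw [mul_comm]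
    · refine Or.inr ⟨hT3, fun g hg t ht hgt => ?_⟩
      by_contra ht1
      have hmem : ∀ a ∈ ⁅T, T⁆, a ≠ 1 → a ∈ Cfsg.typeA0 T := fun a ha ha1 => Or.inl
        (PF8Sets.typeA1_subset_typeA hG hT (PF8Sets.mem_typeA1_iff.2
          ⟨by rw [PF8Sets.typeCore_eq_derived (Or.inl (Or.inl hT3))]; exact ha, ha1⟩))
      exact ht1 (hTTI g (by rwa [hTN]) t (hmem t ht ht1)
        (hmem _ hgt fun e => ht1 (conj_eq_one_iff.1 e)))
  obtain ⟨y, hy, hyN⟩ := PF14Main54.main C hqp F hUH hshape hdvd hsep hTside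
  refine ⟨C.prime_q, C.prime_p, hSel, hSc, hUcyc, ?_, PF14Module54.fpf C.mod hcu, ?_,
    C.mod.UnormP, ?_, hTel, hTP.W₁_compl.2.1.trans (FittingHallBasic.le_normalizer_fittingHallOf T),
    y, hy, hyN, hfield⟩
  · rw [hcu, PF14Module54.div_mul_eq C.mod]
  · rw [← hcu]
    exact (PF14Module54.arith C.mod hcu).2.1
  · rw [hTc]
    exact ((Nat.coprime_primes C.prime_q C.prime_p).2 C.p_ne_q.symm).pow_left _

end Cfsg.Agent.S1544
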