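import Mathlib
import Cfsg.Statements.S1471
-- import your own Cfsg.Agent.* helpers here

set_option autoImplicit false
open Cfsg

namespace Cfsg.Agent.S1471

open scoped ComplexConjugate in
/-- Parseval over a finite field. -/
theorem parseval {F : Type*} [Field F] [Fintype F] [DecidableEq F] (ψ : AddChar F ℂ)
    (hψ : ψ.IsPrimitive) (f : F → ℂ) :
    ∑ ξ : F, Complex.normSq (∑ a, f a * ψ (ξ * a)) =
      (Fintype.card F : ℝ) * ∑ a, Complex.normSq (f a) := by
  apply Complex.ofReal_injective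
  push_cast
  simp only [← Complex.mul_conj, map_sum, map_mul, ← AddChar.map_neg_eq_conj, Finset.sum_mul_sum]
  rw [Finset.sum_comm, Finset.mul_sum]
  refine Finset.sum_congr rfl fun a _ => ?_
  rw [Finset.sum_comm, Finset.sum_eq_single a]
  · have h : ∀ ξ : F, f a * ψ (ξ * a) * (conj (f a) * ψ (-(ξ * a))) = f a * conj (f a) := fun ξ => by
      have h1 : ψ (ξ * a) * ψ (-(ξ * a)) = 1 := by
        rw [← AddChar.map_add_eq_mul, add_neg_cancel, AddChar.map_zero_eq_one]
      linear_combination f a * conj (f a) * h1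
    simp only [h, Finset.sum_const, Finset.card_univ, nsmul_eq_mul]
  · intro b _ hb
    have h : ∀ ξ : F, f a * ψ (ξ * a) * (conj (f b) * ψ (-(ξ * b))) =
        f a * conj (f b) * ψ (ξ * (a - b)) := fun ξ => by
      have h1 : ψ (ξ * a) * ψ (-(ξ * b)) = ψ (ξ * (a - b)) := by
        rw [← AddChar.map_add_eq_mul, mul_sub, sub_eq_add_neg]
      linear_combination f a * conj (f b) * h1
    simp only [h, ← Finset.mul_sum, AddChar.sum_mulShift _ hψ]
    rw [if_neg (sub_ne_zero.2 (Ne.symm hb))]
    simp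
  · simp

/-- A multiplicative subgroup of a finite field is additively uniformly distributed. -/
theorem pair_count {F : Type*} [Field F] [Fintype F] [DecidableEq F] (ψ : AddChar F ℂ)
    (hψ : ψ.IsPrimitive) (H : Finset F) (h1 : (1 : F) ∈ H) (h0 : (0 : F) ∉ H)
    (hmul : ∀ a ∈ H, ∀ b ∈ H, a * b ∈ H) (hinv : ∀ a ∈ H, a⁻¹ ∈ H) (c₀ : F) (hc₀ : c₀ ≠ 0) :
    ((Fintype.card F : ℝ) * ((H ×ˢ H).filter fun x => x.1 + x.2 = c₀).card - (H.card : ℝ) ^ 2) ^ 2
      ≤ (Fintype.card F : ℝ) ^ 3 := by
  set Q : ℝ := (Fintype.card F : ℝ) with hQ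
  have hQ0 : 0 < Q := by rw [hQ]; exact_mod_cast Fintype.card_pos
  set N : F → ℕ := fun c => ((H ×ˢ H).filter fun x => x.1 + x.2 = c).card with hN
  set S : F → ℂ := fun ξ => ∑ a ∈ H, ψ (ξ * a) with hS
  have hSsq : ∀ ξ, S ξ * S ξ = ∑ c, (N c : ℂ) * ψ (ξ * c) := by
    intro ξ
    rw [hS, Finset.sum_mul_sum, ← Finset.sum_product', ← Finset.sum_fiberwise (H ×ˢ H) (fun x => x.1 + x.2)]
    refine Finset.sum_congr rfl fun c _ => ?_
    refine (Finset.sum_congr rfl (g := fun _ => ψ (ξ * c)) ?_).trans ?_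
    · intro x hx
      rw [← AddChar.map_add_eq_mul, ← mul_add, (Finset.mem_filter.1 hx).2]
    · rw [Finset.sum_const, nsmul_eq_mul]
  have hhne : ∀ a ∈ H, a ≠ 0 := fun a ha h => h0 (h ▸ ha)
  have hSinv : ∀ h ∈ H, ∀ ξ, S (ξ * h) = S ξ := by
    intro h hh ξ
    refine Finset.sum_nbij' (fun a => h * a) (fun a => h⁻¹ * a) ?_ ?_ ?_ ?_ ?_
    · exact fun a ha => hmul h hh a ha
    · exact fun a ha => hmul _ (hinv h hh) a ha
    · exact fun a _ => inv_mul_cancel_left₀ (hhne h hh) a
    · exact fun a _ => mul_inv_cancel_left₀ (hhne h hh) a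
    · exact fun a _ => by rw [mul_assoc]
  have hNinv : ∀ h ∈ H, ∀ c, N (c * h) = N c := by
    intro h hh c
    have hne := hhne h hh
    refine Finset.card_nbij' (fun x => (h⁻¹ * x.1, h⁻¹ * x.2)) (fun x => (h * x.1, h * x.2)) ?_ ?_ ?_ ?_
    · intro x hx
      simp only [Finset.coe_filter, Set.mem_setOf_eq, Finset.mem_product] at hx ⊢
      refine ⟨⟨hmul _ (hinv h hh) _ hx.1.1, hmul _ (hinv h hh) _ hx.1.2⟩, ?_⟩
      rw [← mul_add, hx.2]
      field_simp
    · intro x hx
      simp only [Finset.coe_filter, Set.mem_setOf_eq, Finset.mem_product] at hx ⊢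
      exact ⟨⟨hmul h hh _ hx.1.1, hmul h hh _ hx.1.2⟩, by rw [← mul_add, hx.2, mul_comm]⟩
    · intro x _; simp [hne]
    · intro x _; simp [hne]
  -- bound for the periods
  have htot : ∑ ξ, Complex.normSq (S ξ) = Q * H.card := by
    have := parseval ψ hψ (fun a => if a ∈ H then 1 else 0)
    simp only [ite_mul, one_mul, zero_mul, Finset.sum_ite_mem, Finset.univ_inter,
      apply_ite Complex.normSq, map_one, map_zero, Finset.sum_const, nsmul_eq_mul, mul_one] at this
    exact this
  have hSle : ∀ ξ, ξ ≠ 0 → Complex.normSq (S ξ) ≤ Q := by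
    intro ξ hξ
    have h2 : ∑ η ∈ H.image (fun h => ξ * h), Complex.normSq (S η) ≤ Q * H.card := by
      rw [← htot]
      exact Finset.sum_le_sum_of_subset_of_nonneg (Finset.subset_univ _)
        (fun _ _ _ => Complex.normSq_nonneg _)
    rw [Finset.sum_image (fun a _ b _ h => mul_left_cancel₀ hξ h),
      Finset.sum_congr rfl (fun h hh => by rw [hSinv h hh ξ]), Finset.sum_const, nsmul_eq_mul,
      mul_comm Q] at h2
    exact le_of_mul_le_mul_left h2 (by exact_mod_cast Finset.card_pos.2 ⟨1, h1⟩)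
  set m : ℝ := (H.card : ℝ) ^ 2 / Q with hm
  set f : F → ℝ := fun c => (N c : ℝ) - m with hf
  have hfhat : ∀ ξ, ∑ c, (f c : ℂ) * ψ (ξ * c) = if ξ = 0 then 0 else S ξ * S ξ := by
    intro ξ
    simp only [hf, Complex.ofReal_sub, Complex.ofReal_natCast, sub_mul, Finset.sum_sub_distrib,
      ← hSsq, ← Finset.mul_sum]
    rw [Finset.sum_congr rfl (fun c (_ : c ∈ Finset.univ) => by rw [mul_comm ξ c]),
      AddChar.sum_mulShift _ hψ]
    split_ifs with hξ
    · subst hξ
      simp only [hS, hm, zero_mul, AddChar.map_zero_eq_one, Finset.sum_const, nsmul_eq_mul, mul_one]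
      push_cast
      rw [hQ, Complex.ofReal_natCast]
      have : (Fintype.card F : ℂ) ≠ 0 := by exact_mod_cast Fintype.card_ne_zero
      field_simp
      ring
    · simp
  have henergy : ∑ c, f c ^ 2 ≤ Q * H.card := by
    have h3 := parseval ψ hψ (fun c => (f c : ℂ))
    simp only [hfhat, Complex.normSq_ofReal, ← pow_two] at h3
    have h4 : ∑ ξ : F, Complex.normSq (if ξ = 0 then 0 else S ξ ^ 2) ≤ Q * (Q * H.card) := by
      rw [← htot, Finset.mul_sum]
      refine Finset.sum_le_sum fun ξ _ => ?_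
      split_ifs with hξ
      · rw [map_zero]; exact mul_nonneg hQ0.le (Complex.normSq_nonneg _)
      · rw [map_pow, pow_two]
        exact mul_le_mul_of_nonneg_right (hSle ξ hξ) (Complex.normSq_nonneg _)
    rw [h3] at h4
    exact le_of_mul_le_mul_left h4 hQ0
  have hcoset : (H.card : ℝ) * f c₀ ^ 2 ≤ ∑ c, f c ^ 2 := by
    refine le_trans (le_of_eq ?_) (Finset.sum_le_sum_of_subset_of_nonneg
      (Finset.subset_univ (H.image fun h => c₀ * h)) (fun _ _ _ => sq_nonneg _))
    rw [Finset.sum_image (fun a _ b _ h => mul_left_cancel₀ hc₀ h),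
      Finset.sum_congr rfl (g := fun _ => f c₀ ^ 2) (fun h hh => by simp only [hf, hNinv h hh c₀]), Finset.sum_const,
      nsmul_eq_mul]
  have h5 : f c₀ ^ 2 ≤ Q := by
    have := hcoset.trans henergy
    rw [mul_comm Q] at this
    exact le_of_mul_le_mul_left this (by exact_mod_cast Finset.card_pos.2 ⟨1, h1⟩)
  calc (Q * (N c₀ : ℝ) - (H.card : ℝ) ^ 2) ^ 2 = Q ^ 2 * f c₀ ^ 2 := by
        simp only [hf, hm]; field_simp
    _ ≤ Q ^ 2 * Q := mul_le_mul_of_nonneg_left h5 (sq_nonneg _)
    _ = Q ^ 3 := by ring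

/-- The numerical estimate. -/
theorem arith (p q k M : ℕ) (hp : 2 ≤ p) (hq : 5 ≤ q) (hk : p ^ q - 1 ≤ k * (p - 1)) (hM : M ≤ 1)
    (h : (((p ^ q : ℕ) : ℝ) * M - (k : ℝ) ^ 2) ^ 2 ≤ ((p ^ q : ℕ) : ℝ) ^ 3) : False := by
  obtain ⟨r, rfl⟩ : ∃ r, q = r + 5 := ⟨q - 5, by omega⟩
  have hk2 : p ^ (r + 4) + p ^ (r + 3) ≤ k := by
    refine Nat.le_of_mul_le_mul_right (le_trans ?_ hk) (by omega : 0 < p - 1)
    have h1 : 1 ≤ p ^ (r + 3) := Nat.one_le_pow _ _ (by omega)
    have h2 : (p ^ (r + 4) + p ^ (r + 3)) * (p - 1) + p ^ (r + 3) = p ^ (r + 5) := by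
      obtain ⟨s, rfl⟩ : ∃ s, p = s + 1 := ⟨p - 1, by omega⟩
      simp only [Nat.add_sub_cancel]
      ring
    omega
  set P : ℝ := (p : ℝ) with hP
  have hP2 : (2 : ℝ) ≤ P := by rw [hP]; exact_mod_cast hp
  have hkr : P ^ (r + 4) + P ^ (r + 3) ≤ (k : ℝ) := by rw [hP]; exact_mod_cast hk2
  have hMr : (M : ℝ) ≤ 1 := by exact_mod_cast hM
  push_cast at h
  rw [← hP] at h
  have h3 : (P ^ (r + 4) + P ^ (r + 3)) ^ 2 ≤ (k : ℝ) ^ 2 := pow_le_pow_left₀ (by positivity) hkr 2
  have h4 : P ^ (2 * r + 8) ≤ (k : ℝ) ^ 2 - P ^ (r + 5) * M := by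
    have e : P ^ (r + 5) * M ≤ P ^ (r + 5) := mul_le_of_le_one_right (by positivity) hMr
    have e2 : P ^ (r + 5) ≤ 2 * P ^ (2 * r + 7) := by
      have := pow_le_pow_right₀ (show (1 : ℝ) ≤ P by linarith) (show r + 5 ≤ 2 * r + 7 by omega)
      have : (0 : ℝ) ≤ P ^ (2 * r + 7) := by positivity
      linarith
    have e3 : (P ^ (r + 4) + P ^ (r + 3)) ^ 2 =
        P ^ (2 * r + 8) + 2 * P ^ (2 * r + 7) + P ^ (2 * r + 6) := by ring
    have : (0 : ℝ) ≤ P ^ (2 * r + 6) := by positivity
    linarith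
  have h5 : (P ^ (2 * r + 8)) ^ 2 ≤ (P ^ (r + 5)) ^ 3 := by
    refine le_trans (pow_le_pow_left₀ (by positivity) h4 2) (le_trans (le_of_eq ?_) h)
    ring
  have h6 : (P ^ (r + 5)) ^ 3 < (P ^ (2 * r + 8)) ^ 2 := by
    rw [← pow_mul, ← pow_mul]
    exact pow_lt_pow_right₀ (by linarith) (by omega)
  linarith

open Polynomial in
/-- The case `q = 3`: some cubic `t³ - s t² + (2s-3) t - 1` has no root in the prime field. -/
theorem cubic_case (p : ℕ) [Fact p.Prime] (hp : p ≠ 2) :
    ∃ a : GaloisField p 3, a ≠ 1 ∧ Algebra.norm (ZMod p) a = 1 ∧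
      Algebra.norm (ZMod p) (2 - a) = 1 := by
  classical
  have hp' : p.Prime := Fact.out
  obtain ⟨s, hs⟩ : ∃ s : ZMod p, ∀ c, c ^ 3 - s * c ^ 2 + (2 * s - 3) * c - 1 ≠ 0 := by
    by_contra hall
    push Not at hall
    choose g hg using hall
    have hg0 : ∀ s, g s ≠ 0 := fun s h => by
      have := hg s
      rw [h] at this
      simp at this
    have hinj : Function.Injective g := by
      intro s t hst
      have h1 := hg s
      have h3 := hg t
      rw [← hst] at h3
      have h4 : (t - s) * (g s * (g s - 2)) = 0 := by linear_combination h1 - h3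
      rcases mul_eq_zero.1 h4 with h | h
      · exact (sub_eq_zero.1 h).symm
      · exfalso
        rcases mul_eq_zero.1 h with h | h
        · exact hg0 s h
        · rw [sub_eq_zero] at h
          rw [h] at h1
          exact one_ne_zero (α := ZMod p) (by linear_combination h1)
    obtain ⟨s, hs⟩ := (Finite.injective_iff_surjective.1 hinj) 0
    exact hg0 s hs
  set f : (ZMod p)[X] := X ^ 3 - C s * X ^ 2 + C (2 * s - 3) * X - C 1 with hf
  have hmonic : f.Monic := by rw [hf]; monicity!
  have hdeg : f.natDegree = 3 := by rw [hf]; compute_degree!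
  have hirr : Irreducible f := by
    rw [Polynomial.irreducible_iff_roots_eq_zero_of_degree_le_three (by omega) (by omega)]
    refine Multiset.eq_zero_iff_forall_notMem.2 fun c hc => hs c ?_
    have := (mem_roots'.1 hc).2
    simpa [hf, IsRoot.def] using this
  have := Fact.mk hirr
  have : Module.Finite (ZMod p) (AdjoinRoot f) := (AdjoinRoot.powerBasis hmonic.ne_zero).finite
  have : Finite (AdjoinRoot f) := Module.finite_of_finite (ZMod p)
  have hfr : Module.finrank (ZMod p) (AdjoinRoot f) = 3 := by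
    rw [(AdjoinRoot.powerBasis hmonic.ne_zero).finrank, AdjoinRoot.powerBasis_dim, hdeg]
  have hcardK : Nat.card (AdjoinRoot f) = p ^ 3 := by
    rw [Module.natCard_eq_pow_finrank (K := ZMod p), Nat.card_zmod, hfr]
  let e : AdjoinRoot f ≃ₐ[ZMod p] GaloisField p 3 := GaloisField.algEquivGaloisField p 3 hcardK
  have hgen : ∀ (x : AdjoinRoot f) (g : (ZMod p)[X]), g.Monic → g.natDegree = 3 →
      minpoly (ZMod p) x = g → Algebra.norm (ZMod p) x = -g.coeff 0 := by
    intro x g _ hgd hgm
    have hx : Algebra.norm (ZMod p) x = (-1) ^ 3 * g.coeff 0 := by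
      have hint : IsIntegral (ZMod p) x := IsIntegral.of_finite (ZMod p) x
      have h5 := IntermediateField.adjoin.finrank hint
      rw [hgm, hgd] at h5
      rw [Algebra.norm_eq_norm_adjoin (ZMod p) x,
        ← IntermediateField.adjoin.powerBasis_gen hint, Algebra.PowerBasis.norm_gen_eq_coeff_zero_minpoly,
        IntermediateField.adjoin.powerBasis_gen, IntermediateField.adjoin.powerBasis_dim,
        IntermediateField.minpoly_gen, hgm, hgd]
      have h6 : Module.finrank (IntermediateField.adjoin (ZMod p) {x}) (AdjoinRoot f) = 1 := by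
        have := Module.finrank_mul_finrank (ZMod p) (IntermediateField.adjoin (ZMod p) {x})
          (AdjoinRoot f)
        rw [h5, hfr] at this
        omega
      rw [h6, pow_one]
    rw [hx]; ring
  set α := AdjoinRoot.root f with hα
  have hmin : minpoly (ZMod p) α = f := by
    have := AdjoinRoot.minpoly_root hmonic.ne_zero
    rw [hmonic.leadingCoeff, inv_one, C_1, mul_one] at this
    exact this
  set f' : (ZMod p)[X] := X ^ 3 + C (s - 6) * X ^ 2 + C (9 - 2 * s) * X - C 1 with hf'
  have hdeg' : f'.natDegree = 3 := by rw [hf']; compute_degree!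
  have hmonic' : f'.Monic := by rw [hf']; monicity!
  have hirr' : Irreducible f' := by
    rw [Polynomial.irreducible_iff_roots_eq_zero_of_degree_le_three (by omega) (by omega)]
    refine Multiset.eq_zero_iff_forall_notMem.2 fun c hc => hs (2 - c) ?_
    have h := (mem_roots'.1 hc).2
    simp [hf', IsRoot.def] at h
    linear_combination -h
  have hmin' : minpoly (ZMod p) (2 - α) = f' := by
    refine (minpoly.eq_of_irreducible_of_monic hirr' ?_ hmonic').symm
    have h0 : aeval α f = 0 := by rw [hα]; exact (AdjoinRoot.aeval_eq f).trans AdjoinRoot.mk_self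
    simp [hf] at h0
    simp [hf', map_ofNat]
    rw [show (AdjoinRoot.of f) (2 : ZMod p) = 2 from map_ofNat _ 2,
      show (AdjoinRoot.of f) (3 : ZMod p) = 3 from map_ofNat _ 3] at h0
    linear_combination -h0
  have hn1 : Algebra.norm (ZMod p) α = 1 := by
    rw [hgen α f hmonic hdeg hmin]; simp [hf]
  have hn2 : Algebra.norm (ZMod p) (2 - α) = 1 := by
    rw [hgen _ f' hmonic' hdeg' hmin']; simp [hf']
  refine ⟨e α, fun h => ?_, ?_, ?_⟩
  · have h1 : α = 1 := e.injective (h.trans (map_one e).symm)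
    rw [h1, minpoly.one] at hmin
    rw [← hmin] at hdeg
    have hX := natDegree_X_sub_C (1 : ZMod p)
    rw [C_1, hdeg] at hX
    omega
  · rw [Algebra.norm_eq_of_algEquiv e]; exact hn1
  · rw [show (2 : GaloisField p 3) - e α = e (2 - α) by simp [map_ofNat],
      Algebra.norm_eq_of_algEquiv e]
    exact hn2

/-- Let p and q be odd primes with (p^q − 1)/(p − 1) coprime to p − 1. Then there are at least two elements a of the field with p ^ q elements such that both a and 2 − a have norm 1 to the prime field. -/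
theorem result (p q : ℕ) [Fact p.Prime] [Fact q.Prime] (hp : p ≠ 2) (hq : q ≠ 2) (hA : Nat.Coprime ((p ^ q - 1) / (p - 1)) (p - 1)) :
    2 ≤ Set.ncard {a : GaloisField p q | Algebra.norm (ZMod p) a = 1 ∧ Algebra.norm (ZMod p) (2 - a) = 1} := by
  classical
  set F := GaloisField p q with hF
  have hp' : p.Prime := Fact.out
  have hq' : q.Prime := Fact.out
  letI : Fintype F := Fintype.ofFinite F
  have hfr : Module.finrank (ZMod p) F = q := GaloisField.finrank p hq'.ne_zero
  have hcard : Fintype.card F = p ^ q := by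
    rw [Fintype.card_eq_nat_card]; exact GaloisField.card p q hq'.ne_zero
  set N := Algebra.norm (ZMod p) (S := F) with hN
  have h21 : (2 : F) - 1 = 1 := by norm_num
  have hone : (1 : F) ∈ {a : F | N a = 1 ∧ N (2 - a) = 1} := by
    simp [h21]
  suffices hex : ∃ a : F, a ≠ 1 ∧ N a = 1 ∧ N (2 - a) = 1 by
    obtain ⟨a, ha1, ha⟩ := hex
    calc 2 = Set.ncard ({1, a} : Set F) := (Set.ncard_pair (Ne.symm ha1)).symm
      _ ≤ _ := Set.ncard_le_ncard (by
        rintro x (rfl | rfl)
        · exact hone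
        · exact ha) (Set.toFinite _)
  by_cases h3 : q = 3
  · cases h3
    exact cubic_case p hp
  have hq5 : 5 ≤ q := by
    have := hq'.two_le
    by_contra h
    have : q = 4 := by omega
    subst this
    norm_num at hq'
  · let ψ : AddChar F ℂ :=
      (ZMod.stdAddChar (N := p)).compAddMonoidHom (Algebra.trace (ZMod p) F).toAddMonoidHom
    have hψ : ψ.IsPrimitive := by
      refine AddChar.IsPrimitive.of_ne_one (AddChar.ne_one_iff.2 ?_)
      obtain ⟨x, hx⟩ := Algebra.trace_surjective (ZMod p) F 1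
      refine ⟨x, fun h => one_ne_zero (α := ZMod p) ?_⟩
      apply ZMod.injective_stdAddChar
      rw [AddChar.map_zero_eq_one, ← hx]
      exact h
    set H : Finset F := Finset.univ.filter fun a => N a = 1 with hH
    have hmem : ∀ a, a ∈ H ↔ N a = 1 := fun a => by simp [hH]
    have hcnt := pair_count ψ hψ H ((hmem 1).2 (map_one N)) (by rw [hmem]; simp [hN])
      (fun a ha b hb => by rw [hmem] at *; rw [map_mul, ha, hb, mul_one])
      (fun a ha => by rw [hmem] at *; simp [hN] at *; rw [Algebra.norm_inv, ha, inv_one])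
      2 (Ring.two_ne_zero (by rw [ringChar.eq F p]; exact hp))
    rw [hcard] at hcnt
    by_contra hno
    push Not at hno
    have hM : ((H ×ˢ H).filter fun x => x.1 + x.2 = 2).card ≤ 1 := by
      rw [Finset.card_le_one]
      have : ∀ x ∈ (H ×ˢ H).filter (fun x => x.1 + x.2 = 2), x = ((1 : F), (1 : F)) := by
        intro x hx
        simp only [Finset.mem_filter, Finset.mem_product, hmem] at hx
        obtain ⟨⟨hx1, hx2⟩, hx3⟩ := hx
        have h2 : x.2 = 2 - x.1 := by linear_combination hx3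
        by_cases h : x.1 = 1
        · exact Prod.ext h (by rw [h2, h, h21])
        · exact absurd (h2 ▸ hx2) (hno x.1 h hx1)
      intro a ha b hb
      rw [this a ha, this b hb]
    have hHcard : p ^ q - 1 ≤ H.card * (p - 1) := by
      let μ : Fˣ →* (ZMod p)ˣ := Units.map N
      have h1 := μ.ker.card_eq_card_quotient_mul_card_subgroup
      have h2 : Nat.card μ.ker ≤ H.card := by
        rw [← Nat.card_eq_finsetCard]
        refine Nat.card_le_card_of_injective
          (fun u => ⟨((u : Fˣ) : F), (hmem _).2 (congrArg Units.val (u.2 : μ (u : Fˣ) = 1))⟩)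
          (fun u v h => ?_)
        exact Subtype.ext (Units.ext (congrArg (fun z : H => (z : F)) h))
      have h3 : Nat.card (Fˣ ⧸ μ.ker) ≤ p - 1 := by
        rw [Nat.card_congr (QuotientGroup.quotientKerEquivRange μ).toEquiv]
        refine le_trans (Finite.card_subtype_le _) ?_
        rw [Nat.card_units, Nat.card_zmod]
      have h4 : Nat.card Fˣ = p ^ q - 1 := by
        rw [Nat.card_units, Nat.card_eq_fintype_card, hcard]
      rw [← h4, h1, mul_comm]
      exact Nat.mul_le_mul h2 h3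
    have hk := arith p q H.card _ hp'.two_le hq5 hHcard hM hcnt
    exact hk

end Cfsg.Agent.S1471
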