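import Mathlib
import Cfsg.Statements.S1472
import Cfsg.Agent.Lib.OddFieldConfig
import Cfsg.Agent.S1471
-- import your own Cfsg.Agent.* helpers here

set_option autoImplicit false
open Cfsg

namespace Cfsg.Agent.S1472

/-- Let p, q be primes with (p^q − 1)/(p − 1) coprime to p − 1, G a finite group, F a field with p ^ q elements, and P, U, Q subgroups of G with: f : G → F bijective from P onto F and additive on P; U normalizing P and acting through ψ : G → F, injective and multiplicative on U with ψ(u) ≠ 0 and f(uxu⁻¹) = ψ(u) f(x); #U · (p − 1) = p^q − 1; Q abelian of order coprime to p, normalized by every x ∈ P with f(x) in the prime field; and some y ∈ Q such that y x y⁻¹ normalizes U for every such x. Then p ≤ q. -/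
theorem result {G : Type*} [Group G] [Finite G] (p q : ℕ) [Fact p.Prime] [Fact q.Prime] (hA : Nat.Coprime ((p ^ q - 1) / (p - 1)) (p - 1))
    (F : Type*) [Field F] [Fintype F] (hF : Fintype.card F = p ^ q) (P U Q : Subgroup G) (f ψ : G → F)
    (hf : Set.BijOn f (P : Set G) Set.univ) (hfadd : ∀ x ∈ P, ∀ z ∈ P, f (x * z) = f x + f z)
    (hUP : U ≤ Subgroup.normalizer (P : Set G)) (hψ : ∀ u ∈ U, ψ u ≠ 0 ∧ ∀ x ∈ P, f (u * x * u⁻¹) = ψ u * f x)
    (hψmul : ∀ u ∈ U, ∀ v ∈ U, ψ (u * v) = ψ u * ψ v) (hψinj : Set.InjOn ψ (U : Set G)) (hUcard : Nat.card U * (p - 1) = p ^ q - 1)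
    (hQ : IsMulCommutative Q) (hQp : (Nat.card Q).Coprime p) (hP0Q : ∀ x ∈ P, f x ^ p = f x → x ∈ Subgroup.normalizer (Q : Set G))
    (y : G) (hy : y ∈ Q) (hP0U : ∀ x ∈ P, f x ^ p = f x → y * x * y⁻¹ ∈ Subgroup.normalizer (U : Set G)) :
    p ≤ q := by
  by_contra hpq
  push Not at hpq
  have hpp : p.Prime := Fact.out
  have hqq : q.Prime := Fact.out
  have hp2 : p ≠ 2 := by have := hqq.two_le; omega
  have hAdiv : (p ^ q - 1) / (p - 1) = Nat.card U := by
    rw [← hUcard, Nat.mul_div_cancel _ (by have := hpp.two_le; omega)]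
  have hq2 : q ≠ 2 := fun h => by
    subst h
    have h1 : Nat.card U * (p - 1) = (p + 1) * (p - 1) := by
      rw [hUcard]; simpa using Nat.sq_sub_sq p 1
    have h2 := Nat.eq_of_mul_eq_mul_right (by omega) h1
    rw [hAdiv, h2] at hA
    have h3 := Nat.odd_iff.1 (hpp.odd_of_ne_two hp2)
    have h4 := Nat.eq_one_of_dvd_coprimes hA (show 2 ∣ p + 1 by omega) (show 2 ∣ p - 1 by omega)
    omega
  have hchar : CharP F p := by
    refine (CharP.charP_iff_prime_eq_zero hpp).2 ?_
    have h := Nat.cast_card_eq_zero F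
    rw [hF, Nat.cast_pow] at h
    exact eq_zero_of_pow_eq_zero h
  let _ := ZMod.algebra F p
  have hfr : Module.finrank (ZMod p) F = q := by
    have h1 := Module.natCard_eq_pow_finrank (K := ZMod p) (V := F)
    rw [Nat.card_eq_fintype_card, hF, Nat.card_zmod] at h1
    exact (Nat.pow_right_injective hpp.two_le h1).symm
  let e : F → G := Function.invFunOn f (P : Set G)
  have he : ∀ c, e c ∈ P ∧ f (e c) = c := fun c =>
    Function.invFunOn_pos (hf.surjOn (Set.mem_univ c))
  have he' : ∀ x ∈ P, e (f x) = x := fun x hx => hf.injOn (he _).1 hx (he _).2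
  have hψ1 : ψ 1 = 1 := by
    have h := hψmul 1 U.one_mem 1 U.one_mem
    rw [one_mul] at h
    exact (mul_eq_left₀ (hψ 1 U.one_mem).1).1 h.symm
  have hfix : ∀ k : ZMod p, f (e (algebraMap (ZMod p) F k)) ^ p = f (e (algebraMap (ZMod p) F k)) :=
    fun k => by rw [(he _).2, ← map_pow, ZMod.pow_card]
  let C : Cfsg.Agent.OddFieldConfig.Cfg G F p :=
    { q := q
      hq := hqq
      hqp := hpq
      hFq := hfr
      U := U
      Q := Q
      hU := hUcard
      hcop := hAdiv ▸ hA
      e := e
      e_add := fun c d => hf.injOn (he _).1 (P.mul_mem (he c).1 (he d).1) (by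
        rw [(he _).2, hfadd _ (he c).1 _ (he d).1, (he c).2, (he d).2])
      e_inj := fun c d h => by rw [← (he c).2, h, (he d).2]
      ψ :=
        { toFun := fun u => ψ u
          map_one' := hψ1
          map_mul' := fun u v => hψmul u u.2 v v.2 }
      ψ_inj := fun u v h => Subtype.ext (hψinj u.2 v.2 h)
      hconj := fun u c => by
        have hm : (u : G) * e c * (u : G)⁻¹ ∈ P :=
          (Subgroup.mem_normalizer_iff.1 (hUP u.2) _).1 (he c).1
        refine hf.injOn hm (he _).1 ?_
        rw [(he _).2, (hψ u u.2).2 _ (he c).1, (he c).2]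
        rfl
      hQc := fun a ha b hb => congrArg Subtype.val (hQ.is_comm.comm (⟨a, ha⟩ : Q) ⟨b, hb⟩)
      hQp := hQp
      y := y
      hy := hy
      hQn := fun k => hP0Q _ (he _).1 (hfix k)
      hUn := fun k => hP0U _ (he _).1 (hfix k) }
  -- a non-trivial pair of norm-one elements with sum two
  have hA' : Nat.Coprime ((p ^ q - 1) / (p - 1)) (p - 1) := hA
  obtain ⟨a, ⟨ha1, ha2⟩, ha⟩ := Set.exists_ne_of_one_lt_ncard
    (Cfsg.Agent.S1471.result p q hp2 hq2 hA') 1
  let φ : GaloisField p q ≃ₐ[ZMod p] F :=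
    (GaloisField.algEquivGaloisField p q (by rw [Nat.card_eq_fintype_card, hF])).symm
  have hnorm : ∀ b : GaloisField p q, Algebra.norm (ZMod p) b = 1 →
      ∃ u : C.U, C.ψ u = φ b := by
    intro b hb
    apply C.exists_ψ_eq
    have h := FiniteField.algebraMap_norm_eq_prod_pow (ZMod p) (GaloisField p q) b
    rw [hb, GaloisField.finrank p hqq.ne_zero, map_one, Nat.card_zmod] at h
    have h2 := congrArg φ h
    rw [map_one, map_prod] at h2
    simp only [map_pow] at h2
    exact h2.symm
  obtain ⟨u, hu⟩ := hnorm a ha1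
  obtain ⟨v, hv⟩ := hnorm (2 - a) ha2
  refine C.contradiction hp2 hq2 (u := u) (v := v) (fun h => ha (φ.injective ?_)) ?_
  · rw [← hu, h, map_one, map_one]
  · rw [hu, hv, map_sub, map_ofNat]; ring

end Cfsg.Agent.S1472
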