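import Cfsg.Statements.S2119
import Mathlib


set_option autoImplicit false
open Cfsg

namespace Cfsg.Agent.S2119

open Equiv Equiv.Perm

theorem exists_shared_edge {α : Type*} [Fintype α] [DecidableEq α] {y z : Perm α}
    (hy : y.IsThreeCycle) (hz : z.IsThreeCycle) (h2 : (y * z) * (y * z) = 1) (h1 : y * z ≠ 1) :
    ∃ a, y a ≠ a ∧ y a = z a := by
  have hy3 : ∀ x, y (y (y x)) = x := fun x => by
    have := pow_orderOf_eq_one y
    rw [hy.orderOf] at this
    simpa [pow_succ] using congrArg (fun f : Perm α => f x) this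
  have hh : ∀ x, y (z (y (z x))) = x := fun x => by
    simpa using congrArg (fun f : Perm α => f x) h2
  by_contra hne
  simp only [not_exists, not_and] at hne
  -- every point moved by y is moved by z
  have hsub : ∀ a, y a ≠ a → z a ≠ a := by
    intro a ha hza
    have h := hh a
    rw [hza] at h
    -- y (z (y a)) = a
    have hb : z (y a) = y (y a) := y.injective (by rw [h, hy3])
    exact hne (y a) (fun hh' => ha (y.injective hh')) hb.symm
  have hs : y.support ⊆ z.support := fun a ha => mem_support.2 (hsub a (mem_support.1 ha))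
  have hseq : y.support = z.support :=
    Finset.eq_of_subset_of_card_le hs (by rw [hy.card_support, hz.card_support])
  apply h1
  ext x
  simp only [mul_apply, one_apply]
  by_cases hx : y x = x
  · have : x ∉ z.support := by rw [← hseq]; simpa using hx
    rw [notMem_support.1 this, hx]
  · -- z x is one of x, y x, y (y x)
    have hzx : z x ∈ y.support := by
      rw [hseq]; exact apply_mem_support.2 (hseq ▸ mem_support.2 hx)
    have hset : y.support = {x, y x, y (y x)} := by
      symm
      apply Finset.eq_of_subset_of_card_le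
      · intro w hw
        simp only [Finset.mem_insert, Finset.mem_singleton] at hw
        rcases hw with rfl | rfl | rfl
        · exact mem_support.2 hx
        · exact apply_mem_support.2 (mem_support.2 hx)
        · exact apply_mem_support.2 (apply_mem_support.2 (mem_support.2 hx))
      · have e1 : x ≠ y x := Ne.symm hx
        have e2 : x ≠ y (y x) := fun e => hx (by
          have := congrArg y e
          rw [hy3] at this
          exact this)
        have e3 : y x ≠ y (y x) := fun e => hx (y.injective e).symm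
        rw [hy.card_support, Finset.card_eq_three.2 ⟨x, y x, y (y x), e1, e2, e3, rfl⟩]
    rw [hset] at hzx
    simp only [Finset.mem_insert, Finset.mem_singleton] at hzx
    rcases hzx with e | e | e
    · exact absurd e (hsub x hx)
    · exact absurd e.symm (hne x hx)
    · rw [e, hy3]

theorem four_moved {α : Type*} [Fintype α] [DecidableEq α] {z : Perm α} (hz : z.IsThreeCycle)
    {a b c d : α} (ha : z a ≠ a) (hb : z b ≠ b) (hc : z c ≠ c) (hd : z d ≠ d)
    (hab : a ≠ b) (hac : a ≠ c) (had : a ≠ d) (hbc : b ≠ c) (hbd : b ≠ d) (hcd : c ≠ d) : False := by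
  have : ({a, b, c, d} : Finset α) ⊆ z.support := by
    intro w hw
    simp only [Finset.mem_insert, Finset.mem_singleton] at hw
    rcases hw with rfl | rfl | rfl | rfl <;> simpa
  have := Finset.card_le_card this
  rw [hz.card_support] at this
  have h4 : ({a, b, c, d} : Finset α).card = 4 := by
    simp [hab, hac, had, hbc, hbd, hcd]
  omega

theorem shared_edge_all {α : Type*} [Fintype α] [DecidableEq α] {y z w : Perm α}
    (hy : y.IsThreeCycle) (hz : z.IsThreeCycle) (hw : w.IsThreeCycle) (hyz : y ≠ z) {a : α}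
    (ha : y a ≠ a) (haz : y a = z a) {e f : α} (he : y e ≠ e) (hew : y e = w e)
    (hf : z f ≠ f) (hfw : z f = w f) : w a = y a := by
  set b := y a with hb
  have hab : a ≠ b := Ne.symm ha
  have p3 : ∀ (u : Perm α), u.IsThreeCycle → ∀ x, u (u (u x)) = x := fun u hu x => by
    have := pow_orderOf_eq_one u
    rw [hu.orderOf] at this
    simpa [pow_succ] using congrArg (fun f : Perm α => f x) this
  set c := y b with hc
  set d := z b with hd
  have hca : y c = a := p3 y hy a
  have hda : z d = a := by rw [hd, haz]; exact p3 z hz a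
  have hac : a ≠ c := fun h => hab (by rw [← hca]; rw [← h])
  have hbc : b ≠ c := fun h => ha (y.injective h).symm
  have had : a ≠ d := fun h => hab (by
    have := hda; rw [← h, ← haz] at this; exact this.symm)
  have hbd : b ≠ d := fun h => by
    rw [hd] at h; nth_rewrite 1 [haz] at h
    exact hab (z.injective h)
  have mem3 : ∀ (u : Perm α), u.IsThreeCycle → ∀ x v, u x ≠ x → u v ≠ v →
      v = x ∨ v = u x ∨ v = u (u x) := fun u hu x v hx hv => by
    by_contra hcon
    simp only [not_or] at hcon
    have e2 : x ≠ u (u x) := fun e => hx (by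
      have := congrArg u e; rw [p3 u hu] at this; exact this)
    exact four_moved hu hx (fun e => hx (u.injective e))
      (fun e => hx (u.injective (u.injective e))) hv (Ne.symm hx) e2 (Ne.symm hcon.1)
      (fun e => hx (u.injective e).symm) (Ne.symm hcon.2.1) (Ne.symm hcon.2.2)
  have hcd : c ≠ d := by
    intro hcd
    apply hyz
    ext x
    by_cases hx : y x = x
    · rw [hx]
      by_contra hzx
      rcases mem3 z hz a x (by rw [← haz]; exact ha) (Ne.symm hzx) with h | h | h
      · subst h; exact hab hx.symm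
      · rw [← haz] at h; exact hbc (by rw [hc, ← h, hx])
      · rw [← haz, ← hd, ← hcd] at h
        exact hac (by rw [← hca, ← h, hx, h])
    · rcases mem3 y hy a x ha hx with h | h | h
      · rw [h]; exact haz
      · rw [h, ← hb, ← hc, ← hd, hcd]
      · rw [h, ← hb, ← hc, hca, hcd, hda]
  by_contra hne
  rcases mem3 y hy a e ha he with e1 | e1 | e1
  · exact hne (by rw [e1] at hew; exact hew.symm)
  all_goals
    rcases mem3 z hz a f (by rw [← haz]; exact ha) hf with f1 | f1 | f1
  all_goals first
    | exact hne (by rw [f1] at hfw; rw [haz]; exact hfw.symm)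
    | skip
  all_goals simp only [← hb, ← haz, ← hc, ← hd] at e1 f1
  all_goals rw [e1] at hew
  all_goals rw [f1] at hfw
  all_goals simp only [← hc, ← hd, hca, hda] at hew hfw
  -- (b,b), (b,d), (c,b), (c,d)
  · exact hcd (hew.trans hfw.symm)
  · refine four_moved hw (a := a) (b := b) (c := c) (d := d) ?_ ?_ ?_ ?_ hab hac had hbc hbd hcd
    · intro h; exact had (w.injective (h.trans hfw))
    · rw [← hew]; exact Ne.symm hbc
    · intro h; exact hbc (w.injective (hew.symm.trans h.symm))
    · rw [← hfw]; exact had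
  · refine four_moved hw (a := a) (b := b) (c := c) (d := d) ?_ ?_ ?_ ?_ hab hac had hbc hbd hcd
    · intro h; exact hac (w.injective (h.trans hew))
    · rw [← hfw]; exact Ne.symm hbd
    · rw [← hew]; exact hac
    · intro h; exact hbd (w.injective (hfw.symm.trans h.symm))
  · exact hcd (w.injective (hew.symm.trans hfw))

theorem factorial_bound : ∀ k r : ℕ, 2 ≤ k → (k = 2 → 1 ≤ r) →
    2 * 3 ^ (k - 1) * k.factorial * r.factorial < (3 * k + r - 3).factorial := by
  intro k r hk hr
  obtain ⟨k, rfl⟩ : ∃ j, k = j + 2 := ⟨k - 2, by omega⟩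
  induction k generalizing r with
  | zero =>
    have hr' : 1 ≤ r := hr rfl
    show 2 * 3 ^ 1 * 2 * r.factorial < (3 * 2 + r - 3).factorial
    rw [show 3 * 2 + r - 3 = r + 1 + 1 + 1 by omega]
    simp only [Nat.factorial_succ]
    have h0 := Nat.factorial_pos r
    have : 2 * 3 * 4 ≤ (r + 1) * (r + 1 + 1) * (r + 1 + 1 + 1) :=
      Nat.mul_le_mul (Nat.mul_le_mul (by omega) (by omega)) (by omega)
    nlinarith
  | succ k ih =>
    rcases Nat.eq_zero_or_pos k with rfl | hk0
    · rw [show 3 * (0 + 1 + 2) + r - 3 = r + 6 by omega]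
      simp only [Nat.factorial_succ]
      norm_num
      have h0 := Nat.factorial_pos r
      have : 6 * 5 * 4 ≤ (r + 6) * (r + 5) * (r + 4) :=
        Nat.mul_le_mul (Nat.mul_le_mul (by omega) (by omega)) (by omega)
      have h3 : 3 * 2 * 1 ≤ (r + 3) * (r + 2) * (r + 1) :=
        Nat.mul_le_mul (Nat.mul_le_mul (by omega) (by omega)) (by omega)
      have := Nat.mul_le_mul this h3
      nlinarith
    · have := ih r (by omega) (by omega)
      rw [show 3 * (k + 1 + 2) + r - 3 = (3 * (k + 2) + r - 3) + 1 + 1 + 1 by omega]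
      rw [show k + 1 + 2 - 1 = (k + 2 - 1) + 1 by omega, pow_succ]
      simp only [Nat.factorial_succ]
      set N := (3 * (k + 2) + r - 3).factorial
      set M := 3 * (k + 2) + r - 3 with hM
      simp only [Nat.factorial_succ] at this
      have h1 : 3 * (k + 1 + 1 + 1) ≤ (M + 1 + 1 + 1) * ((M + 1 + 1) * (M + 1)) := by
        calc 3 * (k + 1 + 1 + 1) ≤ (M + 1 + 1 + 1) * (M + 1 + 1) :=
              Nat.mul_le_mul (by omega) (by omega)
          _ = (M + 1 + 1 + 1) * (M + 1 + 1) * 1 := (Nat.mul_one _).symm
          _ ≤ (M + 1 + 1 + 1) * (M + 1 + 1) * (M + 1) := Nat.mul_le_mul_left _ (by omega)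
          _ = _ := Nat.mul_assoc _ _ _
      have h3 := Nat.mul_lt_mul_of_lt_of_le this h1 (by positivity)
      calc 2 * (3 ^ (k + 2 - 1) * 3) * ((k + 1 + 1 + 1) * ((k + 1 + 1) * ((k + 1) * k.factorial))) * r.factorial
          = 2 * 3 ^ (k + 2 - 1) * ((k + 1 + 1) * ((k + 1) * k.factorial)) * r.factorial * (3 * (k + 1 + 1 + 1)) := by ring
        _ < N * ((M + 1 + 1 + 1) * ((M + 1 + 1) * (M + 1))) := h3
        _ = _ := by ring

/-- The centralizer in `S_n` is at most twice the centralizer in `A_n`. -/
theorem centralizer_bounds {n : ℕ} (hn : 2 ≤ n) (x : alternatingGroup (Fin n)) :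
    Nat.card (Subgroup.centralizer ({x} : Set (alternatingGroup (Fin n)))) ≤
        Nat.card (Subgroup.centralizer ({(x : Perm (Fin n))} : Set (Perm (Fin n)))) ∧
      Nat.card (Subgroup.centralizer ({(x : Perm (Fin n))} : Set (Perm (Fin n)))) ≤
        2 * Nat.card (Subgroup.centralizer ({x} : Set (alternatingGroup (Fin n)))) := by
  set C := Subgroup.centralizer ({(x : Perm (Fin n))} : Set (Perm (Fin n))) with hC
  set C' := Subgroup.centralizer ({x} : Set (alternatingGroup (Fin n))) with hC'
  have heq : C'.map (alternatingGroup (Fin n)).subtype = C ⊓ alternatingGroup (Fin n) := by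
    ext g
    simp only [Subgroup.mem_map, Subgroup.coe_subtype, Subgroup.mem_inf, hC, hC',
      Subgroup.mem_centralizer_singleton_iff]
    constructor
    · rintro ⟨g', hg', rfl⟩
      exact ⟨congrArg Subtype.val hg', g'.2⟩
    · rintro ⟨h1, h2⟩
      exact ⟨⟨g, h2⟩, Subtype.ext h1, rfl⟩
  have hc : Nat.card C' = Nat.card ↥(C ⊓ alternatingGroup (Fin n)) := by
    rw [← heq]
    exact (Nat.card_congr (Subgroup.equivMapOfInjective _ _ (Subgroup.subtype_injective _)).toEquiv)
  constructor
  · rw [hc]; exact Nat.card_le_card_of_injective (Subgroup.inclusion inf_le_left)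
      (Subgroup.inclusion_injective _)
  · have hidx : (alternatingGroup (Fin n)).relIndex C ≤ 2 := by
      have : Nontrivial (Fin n) := Fin.nontrivial_iff_two_le.2 hn
      have h2 : (alternatingGroup (Fin n)).index = 2 := alternatingGroup.index_eq_two
      have := Subgroup.relIndex_dvd_index_of_normal (alternatingGroup (Fin n)) C
      rw [h2] at this
      exact Nat.le_of_dvd two_pos this
    have h3 := Subgroup.card_mul_index ((alternatingGroup (Fin n)).subgroupOf C)
    have h4 : Nat.card ((alternatingGroup (Fin n)).subgroupOf C) = Nat.card C' := by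
      rw [hc, ← Subgroup.inf_subgroupOf_left]
      exact Nat.card_congr (Subgroup.subgroupOfEquivOfLe inf_le_left).toEquiv
    rw [← h3, h4]
    show Nat.card C' * (alternatingGroup (Fin n)).relIndex C ≤ _
    calc Nat.card C' * (alternatingGroup (Fin n)).relIndex C ≤ Nat.card C' * 2 :=
          Nat.mul_le_mul_left _ hidx
      _ = _ := Nat.mul_comm _ _

theorem map_threeCycle {n : ℕ} (hn : 4 ≤ n) (h6 : n ≠ 6) (φ : MulAut (alternatingGroup (Fin n)))
    (x : alternatingGroup (Fin n)) (hx : (x : Perm (Fin n)).IsThreeCycle) :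
    (φ x : Perm (Fin n)).IsThreeCycle := by
  set y := φ x with hy
  have ho : orderOf (y : Perm (Fin n)) = 3 := by
    rw [Subgroup.orderOf_coe, hy, MulEquiv.orderOf_eq, ← Subgroup.orderOf_coe, hx.orderOf]
  obtain ⟨j, hk⟩ := cycleType_prime_order (σ := (y : Perm (Fin n))) (by rw [ho]; exact Nat.prime_three)
  rw [ho] at hk
  rcases Nat.eq_zero_or_pos j with rfl | hj
  · simpa [IsThreeCycle] using hk
  exfalso
  set k := j + 1 with hkdef
  have hle : 3 * k ≤ n := by
    have h := sum_cycleType (y : Perm (Fin n))
    rw [hk, Multiset.sum_replicate, smul_eq_mul] at h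
    have := Finset.card_le_univ (y : Perm (Fin n)).support
    simp at this
    omega
  have e1 : Nat.card (Subgroup.centralizer ({(y : Perm (Fin n))} : Set (Perm (Fin n)))) =
      (n - 3 * k).factorial * 3 ^ k * k.factorial := by
    rw [Equiv.Perm.nat_card_centralizer, hk]
    simp [Multiset.sum_replicate, Multiset.prod_replicate, Multiset.toFinset_replicate,
      Multiset.count_replicate_self, mul_comm k 3, show k ≠ 0 by omega]
  have e2 : Nat.card (Subgroup.centralizer ({(x : Perm (Fin n))} : Set (Perm (Fin n)))) =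
      (n - 3).factorial * 3 := by
    rw [Equiv.Perm.nat_card_centralizer, hx.cycleType]
    simp
  have e3 : Nat.card (Subgroup.centralizer ({x} : Set (alternatingGroup (Fin n)))) =
      Nat.card (Subgroup.centralizer ({y} : Set (alternatingGroup (Fin n)))) := by
    refine Nat.card_congr (φ.toEquiv.subtypeEquiv fun g => ?_)
    simp only [Subgroup.mem_centralizer_singleton_iff, hy]
    constructor
    · intro h
      exact (map_mul φ _ _).symm.trans ((congrArg φ h).trans (map_mul φ _ _))
    · intro h
      exact φ.injective ((map_mul φ _ _).trans (h.trans (map_mul φ _ _).symm))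
  obtain ⟨-, hb⟩ := centralizer_bounds (by omega) x
  obtain ⟨ha, -⟩ := centralizer_bounds (by omega) y
  rw [e1] at ha
  rw [e2, e3] at hb
  have hfac := factorial_bound k (n - 3 * k) (by omega) (by omega)
  rw [show 3 * k + (n - 3 * k) - 3 = n - 3 by omega] at hfac
  rw [show k = k - 1 + 1 by omega, pow_succ] at ha
  simp only [show k - 1 + 1 = k by omega] at ha
  nlinarith

theorem eq_one_of_commute_threeCycles {n : ℕ} (hn : 4 ≤ n) {σ : Perm (Fin n)}
    (h : ∀ g : Perm (Fin n), g.IsThreeCycle → σ * g * σ⁻¹ = g) : σ = 1 := by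
  ext a : 1
  by_contra hne
  simp only [one_apply] at hne
  -- pick a three-cycle moving a and fixing σ a
  have : 2 ≤ (Finset.univ \ {a, σ a} : Finset (Fin n)).card := by
    have := Finset.le_card_sdiff {a, σ a} (Finset.univ : Finset (Fin n))
    have h2 : ({a, σ a} : Finset (Fin n)).card ≤ 2 := Finset.card_le_two
    simp at this
    omega
  obtain ⟨b, hb, c, hc, hbc⟩ := Finset.one_lt_card.1 (show 1 < (Finset.univ \ {a, σ a} : Finset (Fin n)).card by omega)
  simp at hb hc
  have hg := h _ (isThreeCycle_swap_mul_swap_same (a := a) (b := b) (c := c)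
    (Ne.symm hb.1) (Ne.symm hc.1) hbc)
  have h1 := congrArg (fun f : Perm (Fin n) => f (σ a)) hg
  simp only [mul_apply, inv_eq_iff_eq] at h1
  have e1 : (swap a b * swap a c) (σ a) = σ a := by
    rw [mul_apply, swap_apply_of_ne_of_ne hne (Ne.symm hc.2), swap_apply_of_ne_of_ne hne (Ne.symm hb.2)]
  simp only [mul_apply] at e1
  rw [e1, coe_inv, symm_apply_apply, swap_apply_left, swap_apply_of_ne_of_ne hc.1 (Ne.symm hbc)] at h1
  exact hc.1 (σ.injective h1)

theorem closure_swaps {n : ℕ} (t u : Fin n) (htu : t ≠ u) (T : Subgroup (Perm (Fin n)))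
    (h : ∀ i, i ≠ u → swap u i ∈ T) : T = ⊤ := by
  rw [eq_top_iff, ← closure_isSwap, Subgroup.closure_le]
  rintro _ ⟨x, y, hxy, rfl⟩
  by_cases hx : x = u
  · subst hx; exact h y (Ne.symm hxy)
  by_cases hy : y = u
  · subst hy; rw [swap_comm]; exact h x hx
  have : swap x y = swap u x * swap u y * swap u x := by
    have := Equiv.swap_apply_apply (swap u x) u y
    simp only [swap_apply_left, swap_inv] at this
    rw [swap_apply_of_ne_of_ne hy (Ne.symm hxy)] at this
    exact this
  rw [this]
  exact T.mul_mem (T.mul_mem (h x hx) (h y hy)) (h x hx)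

/-- Automorphisms of the alternating groups: for n ≥ 4 with n ≠ 6, every automorphism of the alternating group of degree n is conjugation by a unique permutation, i.e. conjugation induces an isomorphism from the symmetric group of degree n onto the automorphism group of the alternating group (so the outer automorphism group has order 2). -/
theorem result (n : ℕ) (hn : 4 ≤ n) (h6 : n ≠ 6) : Function.Bijective (MulAut.conjNormal : Equiv.Perm (Fin n) →* MulAut ↥(alternatingGroup (Fin n))) := by
  obtain ⟨m, rfl⟩ : ∃ m, n = m + 4 := ⟨n - 4, by omega⟩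
  refine ⟨?_, ?_⟩
  · rw [injective_iff_map_eq_one]
    intro σ hσ
    refine eq_one_of_commute_threeCycles (by omega) fun g hg => ?_
    have := congrArg (fun ψ : MulAut _ => ((ψ ⟨g, hg.mem_alternatingGroup⟩ :
      alternatingGroup (Fin (m + 4))) : Perm (Fin (m + 4)))) hσ
    simpa [MulAut.conjNormal_apply] using this
  intro φ
  let t : Fin (m + 4) := 0
  let u : Fin (m + 4) := 1
  have htu : t ≠ u := Fin.zero_ne_one
  -- the generators
  have hXc : ∀ i : Fin (m + 4), i ≠ t → i ≠ u → (swap t u * swap u i).IsThreeCycle := by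
    intro i hit hiu
    rw [swap_comm t u]
    exact isThreeCycle_swap_mul_swap_same (Ne.symm htu) (Ne.symm hiu) (Ne.symm hit)
  let X : ∀ i : Fin (m + 4), i ≠ t → i ≠ u → alternatingGroup (Fin (m + 4)) :=
    fun i hit hiu => ⟨swap t u * swap u i, (hXc i hit hiu).mem_alternatingGroup⟩
  have hXinj : ∀ i hi hi' j hj hj', i ≠ j → X i hi hi' ≠ X j hj hj' := by
    intro i hi hi' j hj hj' hij he
    have := congrArg (fun g : alternatingGroup _ => (g : Perm (Fin (m + 4))) u) he
    simp [X, swap_apply_of_ne_of_ne hi hi', swap_apply_of_ne_of_ne hj hj', hij] at this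
  let Y : ∀ i : Fin (m + 4), i ≠ t → i ≠ u → Perm (Fin (m + 4)) :=
    fun i hi hi' => φ (X i hi hi')
  have hY : ∀ i hi hi', (Y i hi hi').IsThreeCycle := fun i hi hi' =>
    map_threeCycle (by omega) h6 φ _ (hXc i hi hi')
  have hpair : ∀ i hi hi' j hj hj', i ≠ j → ∃ a, Y i hi hi' a ≠ a ∧ Y i hi hi' a = Y j hj hj' a := by
    intro i hi hi' j hj hj' hij
    have hd : Disjoint (swap t i) (swap u j) := fun z => by
      by_cases h1 : z = t
      · subst h1; exact Or.inr (swap_apply_of_ne_of_ne htu (Ne.symm hj))
      by_cases h2 : z = i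
      · subst h2; exact Or.inr (swap_apply_of_ne_of_ne hi' hij)
      exact Or.inl (swap_apply_of_ne_of_ne h1 h2)
    have hprod : ((X i hi hi' * X j hj hj' : alternatingGroup _) : Perm (Fin (m + 4))) =
        swap t i * swap u j := by
      show swap t u * swap u i * (swap t u * swap u j) = _
      have e := Equiv.swap_apply_apply (swap t u) u i
      rw [swap_apply_right, swap_apply_of_ne_of_ne hi hi', swap_inv] at e
      rw [e]; simp only [mul_assoc]
    have h2 : (X i hi hi' * X j hj hj') * (X i hi hi' * X j hj hj') = 1 := by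
      apply Subtype.ext
      rw [Subgroup.coe_mul, hprod, Subgroup.coe_one, mul_assoc, ← mul_assoc (swap u j),
        ← hd.commute.eq, mul_assoc, swap_mul_self, mul_one, swap_mul_self]
    refine exists_shared_edge (hY i hi hi') (hY j hj hj') ?_ ?_
    · simp only [Y, ← Subgroup.coe_mul, ← map_mul, h2, map_one, Subgroup.coe_one]
    · simp only [Y, ← Subgroup.coe_mul, ← map_mul, ne_eq, OneMemClass.coe_eq_one,
        MulEquiv.map_eq_one_iff]
      intro he
      have := congrArg (fun g : alternatingGroup _ => (g : Perm (Fin (m + 4))) j) he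
      simp only [hprod, Subgroup.coe_one, mul_apply, one_apply, swap_apply_right,
        swap_apply_of_ne_of_ne (Ne.symm htu) (Ne.symm hi')] at this
      exact hj' this.symm
  -- two distinguished indices
  let i0 : Fin (m + 4) := ⟨2, by omega⟩
  let j0 : Fin (m + 4) := ⟨3, by omega⟩
  have hi0 : i0 ≠ t ∧ i0 ≠ u ∧ j0 ≠ t ∧ j0 ≠ u ∧ i0 ≠ j0 := by
    simp [i0, j0, t, u, Fin.ext_iff]
  obtain ⟨hi0t, hi0u, hj0t, hj0u, hij0⟩ := hi0
  obtain ⟨a, ha, haz⟩ := hpair i0 hi0t hi0u j0 hj0t hj0u hij0
  have hinjY : ∀ i hi hi' j hj hj', i ≠ j → Y i hi hi' ≠ Y j hj hj' := by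
    intro i hi hi' j hj hj' hij he
    exact hXinj i hi hi' j hj hj' hij (φ.injective (Subtype.ext he))
  set b := Y i0 hi0t hi0u a with hb
  have hall : ∀ i hi hi', Y i hi hi' a = b := by
    intro i hi hi'
    by_cases h1 : i = i0
    · subst h1; rfl
    by_cases h2 : i = j0
    · subst h2; exact haz.symm
    obtain ⟨e, he, hew⟩ := hpair i0 hi0t hi0u i hi hi' (Ne.symm h1)
    obtain ⟨f, hf, hfw⟩ := hpair j0 hj0t hj0u i hi hi' (Ne.symm h2)
    exact shared_edge_all (hY i0 hi0t hi0u) (hY j0 hj0t hj0u) (hY i hi hi')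
      (hinjY i0 hi0t hi0u j0 hj0t hj0u hij0) ha haz he hew hf hfw
  have p3 : ∀ (w : Perm (Fin (m + 4))), w.IsThreeCycle → ∀ x, w (w (w x)) = x := fun w hw x => by
    have := pow_orderOf_eq_one w
    rw [hw.orderOf] at this
    simpa [pow_succ] using congrArg (fun f : Perm _ => f x) this
  have hab : a ≠ b := Ne.symm ha
  -- the permutation
  let s : Fin (m + 4) → Fin (m + 4) := fun i =>
    if hi : i = t then a else if hi' : i = u then b else Y i hi hi' b
  have hst : s t = a := by simp [s]
  have hsu : s u = b := by simp [s, Ne.symm htu]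
  have hsi : ∀ i (hi : i ≠ t) (hi' : i ≠ u), s i = Y i hi hi' b := fun i hi hi' => by simp [s, hi, hi']
  have hne_a : ∀ i, i ≠ t → i ≠ u → s i ≠ a ∧ s i ≠ b := by
    intro i hi hi'
    rw [hsi i hi hi']
    constructor
    · intro h
      have := p3 _ (hY i hi hi') a
      rw [hall i hi hi', h, hall i hi hi'] at this
      exact hab this.symm
    · intro h
      exact hab ((Y i hi hi').injective ((hall i hi hi').trans h.symm))
  have hyeq : ∀ i (hi : i ≠ t) (hi' : i ≠ u), Y i hi hi' = swap a b * swap b (s i) := by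
    intro i hi hi'
    obtain ⟨n1, n2⟩ := hne_a i hi hi'
    have hc : Y i hi hi' (s i) = a := by
      rw [hsi i hi hi', ← hall i hi hi']
      exact p3 _ (hY i hi hi') a
    ext z : 1
    simp only [mul_apply]
    by_cases za : z = a
    · subst za; rw [hall i hi hi']; simp [swap_apply_of_ne_of_ne hab (Ne.symm n1)]
    by_cases zb : z = b
    · subst zb; rw [← hsi i hi hi']; simp [swap_apply_of_ne_of_ne n1 n2]
    by_cases zc : z = s i
    · subst zc; rw [hc]; simp
    rw [swap_apply_of_ne_of_ne zb zc, swap_apply_of_ne_of_ne za zb]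
    by_contra hz
    exact four_moved (hY i hi hi') (a := a) (b := b) (c := s i) (d := z)
      (by rw [hall i hi hi']; exact Ne.symm hab) (by rw [← hsi i hi hi']; exact n2)
      (by rw [hc]; exact Ne.symm n1) hz hab (Ne.symm n1) (Ne.symm za) (Ne.symm n2) (Ne.symm zb)
      (Ne.symm zc)
  have hs : Function.Injective s := by
    intro i j h
    by_cases hit : i = t
    · by_cases hjt : j = t
      · rw [hit, hjt]
      by_cases hju : j = u
      · rw [hit, hju, hst, hsu] at h; exact absurd h hab
      exact absurd (hit ▸ h : s t = s j) (by rw [hst]; exact Ne.symm (hne_a j hjt hju).1)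
    by_cases hiu : i = u
    · by_cases hjt : j = t
      · rw [hiu, hjt, hsu, hst] at h; exact absurd h.symm hab
      by_cases hju : j = u
      · rw [hiu, hju]
      exact absurd (hiu ▸ h : s u = s j) (by rw [hsu]; exact Ne.symm (hne_a j hjt hju).2)
    by_cases hjt : j = t
    · exact absurd (hjt ▸ h : s i = s t) (by rw [hst]; exact (hne_a i hit hiu).1)
    by_cases hju : j = u
    · exact absurd (hju ▸ h : s i = s u) (by rw [hsu]; exact (hne_a i hit hiu).2)
    by_contra hne
    exact hinjY i hit hiu j hjt hju hne (by rw [hyeq i hit hiu, hyeq j hjt hju, h])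
  let σ : Perm (Fin (m + 4)) := Equiv.ofBijective s (Finite.injective_iff_bijective.1 hs)
  refine ⟨σ, ?_⟩
  have hgen : ∀ i (hi : i ≠ t) (hi' : i ≠ u), ((MulAut.conjNormal σ : MulAut _) (X i hi hi')) = φ (X i hi hi') := by
    intro i hi hi'
    apply Subtype.ext
    show _ = Y i hi hi'
    rw [MulAut.conjNormal_apply, hyeq i hi hi']
    show σ * (swap t u * swap u i) * σ⁻¹ = _
    rw [← hst, ← hsu]
    show σ * (swap t u * swap u i) * σ⁻¹ = swap (σ t) (σ u) * swap (σ u) (σ i)
    rw [Equiv.swap_apply_apply, Equiv.swap_apply_apply]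
    group
  -- the subgroup where they agree
  let E : Subgroup (Perm (Fin (m + 4))) :=
    (MonoidHom.eqLocus ((MulAut.conjNormal σ : MulAut (alternatingGroup (Fin (m + 4)))) : _ ≃* _).toMonoidHom
      φ.toMonoidHom).map (alternatingGroup (Fin (m + 4))).subtype
  let H : Subgroup (Perm (Fin (m + 4))) :=
    Subgroup.closure {g | ∃ i, ∃ hi : i ≠ t, ∃ hi' : i ≠ u, g = (X i hi hi' : Perm (Fin (m + 4)))}
  have hHE : H ≤ E := by
    rw [Subgroup.closure_le]
    rintro _ ⟨i, hi, hi', rfl⟩
    exact ⟨X i hi hi', hgen i hi hi', rfl⟩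
  have hHA : H ≤ alternatingGroup (Fin (m + 4)) := by
    rw [Subgroup.closure_le]
    rintro _ ⟨i, hi, hi', rfl⟩
    exact (X i hi hi').2
  set τ := swap t u with hτ
  have hτ2 : τ * τ = 1 := swap_mul_self t u
  have hconj : ∀ g ∈ H, τ * g * τ ∈ H := by
    intro g hg
    induction hg using Subgroup.closure_induction with
    | mem g hg =>
      obtain ⟨i, hi, hi', rfl⟩ := hg
      have : τ * (X i hi hi' : Perm (Fin (m + 4))) * τ = (X i hi hi' : Perm (Fin (m + 4)))⁻¹ := by
        show τ * (τ * swap u i) * τ = (τ * swap u i)⁻¹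
        rw [← mul_assoc τ τ, hτ2, one_mul, mul_inv_rev, swap_inv, swap_inv]
      rw [this]
      exact H.inv_mem (Subgroup.subset_closure ⟨i, hi, hi', rfl⟩)
    | one => rw [mul_one, hτ2]; exact H.one_mem
    | mul g g' _ _ h h' =>
      have : τ * (g * g') * τ = (τ * g * τ) * (τ * g' * τ) := by
        simp only [mul_assoc]; rw [← mul_assoc τ τ, hτ2, one_mul]
      rw [this]; exact H.mul_mem h h'
    | inv g _ h =>
      have : τ * g⁻¹ * τ = (τ * g * τ)⁻¹ := by
        rw [mul_inv_rev, mul_inv_rev, inv_eq_of_mul_eq_one_right hτ2, mul_assoc]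
      rw [this]; exact H.inv_mem h
  let T : Subgroup (Perm (Fin (m + 4))) :=
    { carrier := {g | g ∈ H ∨ g * τ ∈ H}
      one_mem' := Or.inl H.one_mem
      mul_mem' := by
        rintro g g' (h | h) (h' | h')
        · exact Or.inl (H.mul_mem h h')
        · right; rw [mul_assoc]; exact H.mul_mem h h'
        · right
          have : g * g' * τ = (g * τ) * (τ * g' * τ) := by
            simp only [mul_assoc]; rw [← mul_assoc τ τ, hτ2, one_mul]
          rw [this]; exact H.mul_mem h (hconj _ h')
        · left
          have : g * g' = (g * τ) * (τ * (g' * τ) * τ) := by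
            simp only [mul_assoc, hτ2, mul_one]; rw [← mul_assoc τ τ, hτ2, one_mul]
          rw [this]; exact H.mul_mem h (hconj _ h')
      inv_mem' := by
        rintro g (h | h)
        · exact Or.inl (H.inv_mem h)
        · right
          have : g⁻¹ * τ = τ * (g * τ)⁻¹ * τ := by
            rw [mul_inv_rev, ← mul_assoc τ, inv_eq_of_mul_eq_one_right hτ2, hτ2, one_mul]
          rw [this]; exact hconj _ (H.inv_mem h) }
  have hT : T = ⊤ := by
    refine closure_swaps t u htu T fun i hi => ?_
    by_cases hit : i = t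
    · subst hit
      right
      rw [swap_comm u t, ← hτ, hτ2]
      exact H.one_mem
    · right
      have hx : (X i hit hi : Perm (Fin (m + 4))) ∈ H := Subgroup.subset_closure ⟨i, hit, hi, rfl⟩
      have := hconj _ hx
      have e : τ * (X i hit hi : Perm (Fin (m + 4))) * τ = swap u i * τ := by
        show τ * (τ * swap u i) * τ = _
        rw [← mul_assoc τ τ, hτ2, one_mul]
      rwa [e] at this
  apply MulEquiv.ext
  intro g
  have hg : (g : Perm (Fin (m + 4))) ∈ T := hT ▸ Subgroup.mem_top _
  rcases hg with hg | hg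
  · obtain ⟨g', hg', he⟩ := hHE hg
    rw [Subgroup.coe_subtype] at he
    have := Subtype.ext he
    subst this
    exact hg'
  · exfalso
    have := mem_alternatingGroup.1 (hHA hg)
    rw [Equiv.Perm.sign_mul, mem_alternatingGroup.1 g.2, hτ, sign_swap htu] at this
    norm_num at this

end Cfsg.Agent.S2119
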