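import Cfsg.Statements.S3331
import Cfsg.Agent.Lib.SelfCentThreeMain
import Cfsg.Agent.Lib.PSL2Small
import Cfsg.Agent.Lib.SimplePSLApply

set_option autoImplicit false
open Cfsg

namespace Cfsg.Agent.S3331
open SelfCentThreeBase SelfCentThreeMain SelfCentThreeLift

theorem perm_three_of_six {Q : Type*} [Group Q] [Finite Q] (hQ : Nat.card Q = 6) {y : Q} (hy : SC3 y) :
    Nonempty (Q ≃* Equiv.Perm (Fin 3)) := by
  classical
  haveI : Fact (Nat.Prime 2) := ⟨Nat.prime_two⟩
  haveI := Fintype.ofFinite Q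
  obtain ⟨t, ht⟩ := exists_prime_orderOf_dvd_card' (G := Q) 2 (by rw [hQ]; norm_num)
  set H := Subgroup.zpowers t
  have hH : Nat.card H = 2 := by rw [Nat.card_zpowers, ht]
  have hidx : H.index = 3 := by
    have := H.card_mul_index
    rw [hH, hQ] at this
    omega
  have hcoreH : H.normalCore = ⊥ := by
    have hd := Subgroup.card_dvd_of_le H.normalCore_le
    rw [hH] at hd
    rcases (Nat.dvd_prime Nat.prime_two).1 hd with h | h
    · exact Subgroup.card_eq_one.1 h
    · exfalso
      have heq : H.normalCore = H := Subgroup.eq_of_le_of_card_ge H.normalCore_le (by rw [h, hH])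
      have hnc : H.Normal := heq ▸ Subgroup.normalCore_normal H
      have hm : y * t * y⁻¹ ∈ H := hnc.conj_mem t (Subgroup.mem_zpowers t) y
      have hc : Commute t y := by
        obtain ⟨k, hk⟩ := Subgroup.mem_zpowers_iff.1 hm
        rw [← zpow_mod_orderOf, ht] at hk
        rcases Int.emod_two_eq_zero_or_one k with h0 | h0 <;> simp [h0] at hk
        · exfalso
          first
            | (rw [hk, orderOf_one] at ht)
            | (rw [← hk, orderOf_one] at ht)
            | (rw [conj_eq_one_iff.1 hk, orderOf_one] at ht)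
            | (rw [conj_eq_one_iff.1 hk.symm, orderOf_one] at ht)
          omega
        · exact (mul_inv_eq_iff_eq_mul.1 hk.symm).symm
      rcases hy.cent t hc with e | e | e <;> rw [e] at ht
      · rw [orderOf_one] at ht; omega
      · rw [hy.ord] at ht; omega
      · rw [orderOf_inv, hy.ord] at ht; omega
  let f := MulAction.toPermHom Q (Q ⧸ H)
  have hf : Function.Injective f := (MonoidHom.ker_eq_bot_iff f).1 (by
    rw [← Subgroup.normalCore_eq_ker]; exact hcoreH)
  haveI := Fintype.ofFinite (Q ⧸ H)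
  have h3 : Fintype.card (Q ⧸ H) = 3 := by
    rw [← Nat.card_eq_fintype_card, ← Subgroup.index_eq_card, hidx]
  have hb : Function.Bijective f := (Nat.bijective_iff_injective_and_card f).2 ⟨hf, by
    rw [hQ, Nat.card_eq_fintype_card, Fintype.card_perm, h3]; rfl⟩
  exact ⟨(MulEquiv.ofBijective f hb).trans (Fintype.equivFinOfCardEq h3).permCongrHom⟩


/-- Let G be a finite group containing a subgroup X of order 3 with C_G(X) = X. Then one of the following holds: G has a nilpotent normal subgroup N of order prime to 3 with G/N of order 3 or isomorphic to Sym(3); or G has an elementary abelian normal 2-subgroup N with G/N isomorphic to the alternating group of degree 5; or G is isomorphic to PSL(2,7). -/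
theorem result {G : Type*} [Group G] [Finite G]
    (X : Subgroup G) (hX : Nat.card X = 3) (hC : Subgroup.centralizer (X : Set G) = X) :
    (∃ (N : Subgroup G) (hN : N.Normal), Group.IsNilpotent N ∧ (Nat.card N).Coprime 3 ∧
        (Nat.card (G ⧸ N) = 3 ∨ Nonempty (G ⧸ N ≃* Equiv.Perm (Fin 3)))) ∨
    (∃ (N : Subgroup G) (hN : N.Normal), IsMulCommutative N ∧ (∀ n ∈ N, n ^ 2 = 1) ∧
        Nonempty (G ⧸ N ≃* alternatingGroup (Fin 5))) ∨
    Nonempty (G ≃* Matrix.ProjectiveSpecialLinearGroup (Fin 2) (ZMod 7)) := by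
  haveI : Fact (Nat.Prime 3) := ⟨Nat.prime_three⟩
  obtain ⟨x, hx'⟩ := exists_prime_orderOf_dvd_card' (G := X) 3 (by rw [hX])
  have hXx : X = Subgroup.zpowers (x : G) :=
    (Subgroup.eq_of_le_of_card_ge (Subgroup.zpowers_le.2 x.2)
      (by rw [Nat.card_zpowers, Subgroup.orderOf_coe, hx', hX])).symm
  have hsc : SC3 (x : G) := by
    refine ⟨by rw [Subgroup.orderOf_coe, hx'], fun g hg => ?_⟩
    have hgX : g ∈ X := by
      rw [← hC, Subgroup.mem_centralizer_iff]
      intro k hk
      rw [hXx, SetLike.mem_coe, Subgroup.mem_zpowers_iff] at hk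
      obtain ⟨j, rfl⟩ := hk
      exact (hg.zpow_right j).eq.symm
    rw [hXx] at hgX
    have h3 : orderOf (x : G) = 3 := by rw [Subgroup.orderOf_coe, hx']
    obtain ⟨j, rfl⟩ := Subgroup.mem_zpowers_iff.1 hgX
    rw [← zpow_mod_orderOf, h3]
    rcases (by omega : j % 3 = 0 ∨ j % 3 = 1 ∨ j % 3 = 2) with h | h | h <;> rw [show ((3 : ℕ) : ℤ) = 3 from rfl, h]
    · exact Or.inl (zpow_zero _)
    · exact Or.inr (Or.inl (zpow_one _))
    · refine Or.inr (Or.inr (eq_inv_of_mul_eq_one_left ?_))
      rw [← zpow_add_one, show ((2 : ℤ) + 1) = ((3 : ℕ) : ℤ) from rfl, zpow_natCast, ← h3, pow_orderOf_eq_one]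
  rcases tri _ G (x : G) rfl hsc with ⟨N, hN, hNi, hc⟩ | ⟨N, T, hN, hNT, hT, hsq, hc, hsmp⟩ | ⟨hs, hc⟩
  · haveI := hN
    have hq : Nat.card G = Nat.card (G ⧸ N) * Nat.card N := Subgroup.card_eq_card_quotient_mul_card_subgroup N
    refine Or.inl ⟨N, hN, hNi.isNilpotent hsc,
      ((Nat.Prime.coprime_iff_not_dvd Nat.prime_three).2 hNi.cop).symm, ?_⟩
    rcases hc with h | h <;> rw [hq] at h
    · exact Or.inl (Nat.eq_of_mul_eq_mul_right Nat.card_pos h)
    · exact Or.inr (perm_three_of_six (Nat.eq_of_mul_eq_mul_right Nat.card_pos h) (sc3_quotient hsc hNi))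
  · haveI := hN
    refine Or.inr (Or.inl ⟨N, hN, ⟨⟨fun a b => Subtype.ext ?_⟩⟩, fun n hn => by rw [pow_two, hsq n hn], ?_⟩)
    · have h1 := hsq _ (N.mul_mem a.2 b.2)
      show (a : G) * b = b * a
      calc (a : G) * b = (a : G) * b * (((b : G) * b) * 1) * 1 := by rw [hsq _ b.2, one_mul, mul_one, mul_one]
        _ = ((a : G) * b * ((a : G) * b))⁻¹ * ((a : G) * b) := by rw [h1, hsq _ b.2]; group
        _ = (b : G)⁻¹ * (a : G)⁻¹ := by group
        _ = _ := by rw [inv_eq_of_mul_eq_one_right (hsq _ b.2), inv_eq_of_mul_eq_one_right (hsq _ a.2)]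
    · have hq : Nat.card G = Nat.card (G ⧸ N) * Nat.card N := Subgroup.card_eq_card_quotient_mul_card_subgroup N
      rw [hq] at hc
      have h60 : Nat.card (G ⧸ N) = 60 := Nat.eq_of_mul_eq_mul_right Nat.card_pos hc
      haveI : Nontrivial (G ⧸ N) := Finite.one_lt_card_iff_nontrivial.1 (by omega)
      haveI : IsSimpleGroup (G ⧸ N) := ⟨fun K hK => by
        have hsur : Function.Surjective (QuotientGroup.mk' N) := QuotientGroup.mk'_surjective N
        rcases hsmp (K.comap (QuotientGroup.mk' N)) (hK.comap _) (fun m hm => by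
          show QuotientGroup.mk' N m ∈ K
          rw [show QuotientGroup.mk' N m = 1 from (QuotientGroup.eq_one_iff m).2 hm]
          exact K.one_mem) with e | e
        · left
          rw [← Subgroup.map_comap_eq_self_of_surjective hsur K, e, QuotientGroup.map_mk'_self]
        · right
          rw [← Subgroup.map_comap_eq_self_of_surjective hsur K, e, Subgroup.map_top_of_surjective _ hsur]⟩
      exact PSL2Small.iso_A5_of_simple_card h60
  · haveI := hs
    haveI : Fact (Nat.Prime 7) := ⟨by norm_num⟩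
    obtain ⟨e⟩ := SimplePSLApply.iso_seven (G := G) (F := ZMod 7) hc (Nat.card_zmod 7)
    exact Or.inr (Or.inr ⟨e⟩)

end Cfsg.Agent.S3331
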