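import Mathlib
import Cfsg.Statements.S3224
import Cfsg.Agent.Lib.TwoInvolutions
-- import your own Cfsg.Agent.* helpers here

set_option autoImplicit false
open Cfsg

namespace Cfsg.Agent.S3224

open Cfsg.Agent

/-- the structure found for `T` -/
def Good (T : Type*) [Group T] (x : T) : Prop :=
  Nat.card T = 4 ∨ ∃ (n : ℕ) (a : T), 2 ≤ n ∧ Nat.card T = 2 ^ (n + 1) ∧ orderOf a = 2 ^ n ∧
    x ∉ Subgroup.zpowers a ∧ (x * a * x = a⁻¹ ∨ (3 ≤ n ∧ x * a * x = a ^ (2 ^ (n - 1) - 1)))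

lemma choose_sign (n : ℕ) (hn : 2 ≤ n) (u : ℤ) (h : (2 : ℤ) ^ n ∣ u * u - 1) :
    ∃ ε : ℤ, (ε = 1 ∨ ε = -1) ∧ (2 : ℤ) ^ (n - 1) ∣ ε * u - 1 ∧ (n = 2 → (4 : ℤ) ∣ ε * u - 1) := by
  have hodd : Odd u := by
    rcases Int.even_or_odd u with ⟨w, rfl⟩ | h'
    · exfalso
      have h2 : (2 : ℤ) ∣ (w + w) * (w + w) - 1 := dvd_trans (dvd_pow_self 2 (by omega)) h
      have : (2 : ℤ) ∣ (w + w) * (w + w) := Dvd.dvd.mul_right ⟨w, by ring⟩ _
      have := dvd_sub this h2
      norm_num at this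
    · exact h'
  obtain ⟨w, rfl⟩ := hodd
  obtain ⟨k, rfl⟩ : ∃ k, n = k + 2 := ⟨n - 2, by omega⟩
  have h' : (2 : ℤ) ^ k ∣ w * (w + 1) := by
    obtain ⟨c, hc⟩ := h
    refine ⟨c, ?_⟩
    have : (4 : ℤ) * (w * (w + 1)) = 4 * (2 ^ k * c) := by linear_combination hc
    linarith
  rcases Nat.eq_zero_or_pos k with rfl | hk
  · rcases Int.even_or_odd w with ⟨m, rfl⟩ | ⟨m, rfl⟩
    · exact ⟨1, Or.inl rfl, ⟨m + m, by ring⟩, fun _ => ⟨m, by ring⟩⟩
    · exact ⟨-1, Or.inr rfl, ⟨-(2 * m + 2), by ring⟩, fun _ => ⟨-(m + 1), by ring⟩⟩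
  rcases Int.even_or_odd w with ⟨m, rfl⟩ | ⟨m, rfl⟩
  · have hc : IsCoprime ((2 : ℤ) ^ k) (m + m + 1) :=
      IsCoprime.pow_left ⟨-m, 1, by ring⟩
    refine ⟨1, Or.inl rfl, ?_, fun e => by omega⟩
    obtain ⟨c, hc'⟩ := hc.dvd_of_dvd_mul_right h'
    exact ⟨c, by rw [show k + 2 - 1 = k + 1 by omega, pow_succ]; linear_combination 2 * hc'⟩
  · have hc : IsCoprime ((2 : ℤ) ^ k) (2 * m + 1) :=
      IsCoprime.pow_left ⟨-m, 1, by ring⟩
    refine ⟨-1, Or.inr rfl, ?_, fun e => by omega⟩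
    obtain ⟨c, hc'⟩ := hc.dvd_of_dvd_mul_left h'
    exact ⟨-c, by rw [show k + 2 - 1 = k + 1 by omega, pow_succ]; linear_combination -2 * hc'⟩

lemma step (S : Type*) [Group S] [Finite S] (M : Subgroup S) (hM2 : M.index = 2) (x a : S) (hxM : x ∈ M)
    (haM : a ∈ M) (hx : orderOf x = 2) (hC : ∀ g : S, g ∉ M → g * x ≠ x * g) (n : ℕ) (hn : 2 ≤ n)
    (hcard : Nat.card ↥M = 2 ^ (n + 1)) (ha : orderOf a = 2 ^ n) (hxa : x ∉ Subgroup.zpowers a)
    (hact : x * a * x = a⁻¹ ∨ (3 ≤ n ∧ x * a * x = a ^ (2 ^ (n - 1) - 1))) : Good S x := by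
  haveI : Fact (Nat.Prime 2) := ⟨Nat.prime_two⟩
  have hMn : M.Normal := Subgroup.normal_of_index_eq_two hM2
  have hx2 : x * x = 1 := TwoInvolutions.mul_self_of_orderOf hx
  have hxinv : x⁻¹ = x := TwoInvolutions.inv_eq_of_orderOf hx
  obtain ⟨r, hr, hr'⟩ : ∃ r : ℤ, x * a * x = a ^ r ∧ (r = -1 ∨ (3 ≤ n ∧ r = 2 ^ (n - 1) - 1)) := by
    rcases hact with h | ⟨h3, h⟩
    · exact ⟨-1, by rw [zpow_neg_one]; exact h, Or.inl rfl⟩
    · refine ⟨2 ^ (n - 1) - 1, ?_, Or.inr ⟨h3, rfl⟩⟩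
      rw [h, ← zpow_natCast, Nat.cast_sub Nat.one_le_two_pow, Nat.cast_pow]
      norm_num
  have hN : ((orderOf a : ℕ) : ℤ) = 2 ^ n := by rw [ha]; norm_num
  have zeq : ∀ i j : ℤ, a ^ i = a ^ j ↔ (2 : ℤ) ^ n ∣ j - i := by
    intro i j
    rw [zpow_eq_zpow_iff_modEq, hN, Int.modEq_iff_dvd]
  have zone : ∀ i : ℤ, a ^ i = 1 ↔ (2 : ℤ) ^ n ∣ i := by
    intro i
    rw [← orderOf_dvd_iff_zpow_eq_one, hN]
  have hxai : ∀ i : ℤ, x * a ^ i = a ^ (r * i) * x := by
    intro i
    have h1 : MulAut.conj x a = a ^ r := by rw [MulAut.conj_apply, hxinv, hr]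
    have h2 : MulAut.conj x (a ^ i) = a ^ (r * i) := by rw [map_zpow, h1, zpow_mul]
    rw [MulAut.conj_apply] at h2
    rw [← h2]
    group
  have hsq : ∀ i : ℤ, (a ^ i * x) * (a ^ i * x) = a ^ (i * (1 + r)) := by
    intro i
    calc (a ^ i * x) * (a ^ i * x) = a ^ i * (x * a ^ i) * x := by group
      _ = a ^ i * a ^ (r * i) * (x * x) := by rw [hxai]; group
      _ = a ^ (i * (1 + r)) := by rw [hx2, mul_one, ← zpow_add]; ring_nf
  have hform : ∀ m ∈ M, (∃ i : ℤ, m = a ^ i) ∨ ∃ i : ℤ, m = a ^ i * x := by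
    intro m hm
    have hidx : ((Subgroup.zpowers a).subgroupOf M).index = 2 := by
      have h' := ((Subgroup.zpowers a).subgroupOf M).card_mul_index
      rw [Nat.card_congr (Subgroup.subgroupOfEquivOfLe (Subgroup.zpowers_le.mpr haM)).toEquiv,
        Nat.card_zpowers, ha, hcard, pow_succ] at h'
      exact Nat.eq_of_mul_eq_mul_left (by positivity) h'
    by_cases hma : m ∈ Subgroup.zpowers a
    · obtain ⟨i, hi⟩ := Subgroup.mem_zpowers_iff.mp hma
      exact Or.inl ⟨i, hi.symm⟩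
    · have h1 : (⟨m, hm⟩ * ⟨x, hxM⟩ : ↥M) ∈ (Subgroup.zpowers a).subgroupOf M :=
        (Subgroup.mul_mem_iff_of_index_two hidx).mpr (iff_of_false hma hxa)
      obtain ⟨i, hi⟩ := Subgroup.mem_zpowers_iff.mp h1
      right
      refine ⟨i, ?_⟩
      have hi' : a ^ i = m * x := hi
      rw [hi', mul_assoc, hx2, mul_one]
  -- `⟨a⟩` is normal in `S`
  have hnorm : ∀ g : S, ∃ u : ℤ, g * a * g⁻¹ = a ^ u := by
    intro g
    rcases hform _ (hMn.conj_mem a haM g) with ⟨i, hi⟩ | ⟨i, hi⟩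
    · exact ⟨i, hi⟩
    exfalso
    have hord : orderOf (a ^ i * x) = 2 ^ n := by
      rw [← hi, ← MulAut.conj_apply, MulEquiv.orderOf_eq]
      exact ha
    have hdvd : orderOf (a ^ i * x) ∣ 2 ^ (n - 1) := by
      apply orderOf_dvd_of_pow_eq_one
      obtain ⟨k, rfl⟩ : ∃ k, n = k + 2 := ⟨n - 2, by omega⟩
      rw [show k + 2 - 1 = k + 1 by omega, pow_succ', pow_mul, pow_two, hsq]
      rcases hr' with rfl | ⟨h3, rfl⟩
      · rw [show i * (1 + -1) = (0 : ℤ) by ring, zpow_zero, one_pow]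
      · obtain ⟨l, rfl⟩ : ∃ l, k = l + 1 := ⟨k - 1, by omega⟩
        rw [← zpow_natCast, ← zpow_mul, zone]
        refine ⟨i * 2 ^ l, ?_⟩
        rw [show l + 1 + 2 - 1 = l + 2 by omega]
        push_cast
        ring
    rw [hord] at hdvd
    have := (Nat.pow_dvd_pow_iff_le_right (by norm_num)).mp hdvd
    omega
  have hgai : ∀ (g : S) (u : ℤ), g * a * g⁻¹ = a ^ u → ∀ i : ℤ, g * a ^ i * g⁻¹ = a ^ (u * i) := by
    intro g u h i
    rw [← MulAut.conj_apply, map_zpow, MulAut.conj_apply, h, zpow_mul]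
  have hxconj : ∀ g : S, g ∉ M → ∃ v : ℤ, Odd v ∧ g * x * g⁻¹ = a ^ v * x := by
    intro g hg
    rcases hform _ (hMn.conj_mem x hxM g) with ⟨i, hi⟩ | ⟨i, hi⟩
    · exfalso
      obtain ⟨u, hu⟩ := hnorm g⁻¹
      apply hxa
      have : x = g⁻¹ * a ^ i * g⁻¹⁻¹ := by rw [← hi]; group
      rw [this, hgai _ u hu]
      exact Subgroup.zpow_mem _ (Subgroup.mem_zpowers a) _
    · refine ⟨i, ?_, hi⟩
      by_contra hev
      obtain ⟨w, rfl⟩ := Int.not_odd_iff_even.mp hev
      obtain ⟨c, hc⟩ : ∃ c : ℤ, (2 : ℤ) ^ n ∣ c * (1 - r) + (w + w) := by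
        rcases hr' with rfl | ⟨h3, rfl⟩
        · exact ⟨-w, ⟨0, by ring⟩⟩
        · obtain ⟨k, rfl⟩ : ∃ k, n = k + 3 := ⟨n - 3, by omega⟩
          refine ⟨-w * (1 + 2 ^ (k + 1)), ⟨w * 2 ^ k, ?_⟩⟩
          rw [show k + 3 - 1 = k + 2 by omega]
          ring
      have hg' : a ^ c * g ∉ M := fun h => hg ((M.mul_mem_cancel_left (M.zpow_mem haM c)).mp h)
      apply hC _ hg'
      have : a ^ c * g * x * (a ^ c * g)⁻¹ = x := by
        calc a ^ c * g * x * (a ^ c * g)⁻¹ = a ^ c * (g * x * g⁻¹) * (a ^ c)⁻¹ := by group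
          _ = a ^ c * a ^ (w + w) * (x * a ^ (-c)) := by rw [hi]; group
          _ = a ^ c * a ^ (w + w) * (a ^ (r * -c) * x) := by rw [hxai]
          _ = a ^ (c * (1 - r) + (w + w)) * x := by rw [← mul_assoc, ← zpow_add, ← zpow_add]; ring_nf
          _ = x := by rw [(zone _).mpr hc, one_mul]
      calc a ^ c * g * x = a ^ c * g * x * (a ^ c * g)⁻¹ * (a ^ c * g) := by group
        _ = x * (a ^ c * g) := by rw [this]
  obtain ⟨s, hs⟩ : ∃ s, s ∉ M := by
    by_contra hc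
    push Not at hc
    rw [(Subgroup.eq_top_iff' M).mpr hc, Subgroup.index_top] at hM2
    omega
  -- M is dihedral
  have hr1 : (2 : ℤ) ^ n ∣ 1 + r := by
    obtain ⟨v, hv, hvx⟩ := hxconj s hs
    have h1 : (a ^ v * x) * (a ^ v * x) = 1 := by
      rw [← hvx]
      have e : (MulAut.conj s x) * (MulAut.conj s x) = 1 := by rw [← map_mul, hx2, map_one]
      simpa [mul_assoc] using e
    rw [hsq, zone] at h1
    obtain ⟨m, rfl⟩ := hv
    exact (IsCoprime.pow_left (⟨-m, 1, by ring⟩ : IsCoprime (2 : ℤ) (2 * m + 1))).dvd_of_dvd_mul_left h1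
  have hr0 : r = -1 := by
    rcases hr' with h | ⟨h3, h⟩
    · exact h
    · exfalso
      rw [h, show (1 : ℤ) + (2 ^ (n - 1) - 1) = 2 ^ (n - 1) by ring] at hr1
      have h1 : (2 : ℕ) ^ n ∣ 2 ^ (n - 1) := by exact_mod_cast hr1
      have := (Nat.pow_dvd_pow_iff_le_right (by norm_num)).mp h1
      omega
  subst hr0
  have h4N : (4 : ℤ) ∣ 2 ^ n := by
    obtain ⟨k, rfl⟩ : ∃ k, n = k + 2 := ⟨n - 2, by omega⟩
    exact ⟨2 ^ k, by ring⟩
  -- relations for an element outside M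
  have rels : ∀ g : S, g ∉ M → ∀ u : ℤ, g * a * g⁻¹ = a ^ u → ∀ v : ℤ, g * x * g⁻¹ = a ^ v * x →
      ∃ j : ℤ, g * g = a ^ j ∧ (2 : ℤ) ^ n ∣ u * u - 1 ∧ (2 : ℤ) ^ n ∣ j * (u - 1) ∧
        (2 : ℤ) ^ n ∣ v * (u + 1) - 2 * j := by
    intro g hg u hu v hv
    have hgg : g * g ∈ M := (Subgroup.mul_mem_iff_of_index_two hM2).mpr Iff.rfl
    have hu2 : g * g * a * (g * g)⁻¹ = a ^ (u * u) := by
      calc g * g * a * (g * g)⁻¹ = g * (g * a * g⁻¹) * g⁻¹ := by group
        _ = a ^ (u * u) := by rw [hu, hgai g u hu]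
    rcases hform _ hgg with ⟨j, hj⟩ | ⟨j, hj⟩
    · have h1 : (2 : ℤ) ^ n ∣ u * u - 1 := by
        rw [hj] at hu2
        have e : a ^ (1 : ℤ) = a ^ (u * u) := by rw [← hu2, zpow_one]; group
        exact (zeq _ _).mp e
      have h2 : (2 : ℤ) ^ n ∣ j * (u - 1) := by
        have e := hgai g u hu j
        rw [← hj, show g * (g * g) * g⁻¹ = g * g by group, hj] at e
        have := (zeq _ _).mp e
        rwa [show u * j - j = j * (u - 1) by ring] at this
      have h3 : (2 : ℤ) ^ n ∣ v * (u + 1) - 2 * j := by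
        have e : a ^ (v * (u + 1)) * x = a ^ (2 * j) * x := by
          calc a ^ (v * (u + 1)) * x = a ^ (u * v) * (a ^ v * x) := by rw [← mul_assoc, ← zpow_add]; ring_nf
            _ = (g * a ^ v * g⁻¹) * (g * x * g⁻¹) := by rw [hgai g u hu, hv]
            _ = g * (a ^ v * x) * g⁻¹ := by group
            _ = g * (g * x * g⁻¹) * g⁻¹ := by rw [hv]
            _ = (g * g) * x * (g * g)⁻¹ := by group
            _ = a ^ j * (x * a ^ (-j)) := by rw [hj]; group
            _ = a ^ (2 * j) * x := by rw [hxai, ← mul_assoc, ← zpow_add]; ring_nf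
        have := (zeq _ _).mp (mul_right_cancel e).symm
        exact this
      exact ⟨j, hj, h1, h2, h3⟩
    · exfalso
      rw [hj] at hu2
      have e : a ^ (-1 : ℤ) = a ^ (u * u) := by
        rw [← hu2]
        calc a ^ (-1 : ℤ) = a ^ j * a ^ (-1 : ℤ) * (x * x) * (a ^ j)⁻¹ := by rw [hx2]; group
          _ = a ^ j * (a ^ (-1 * 1 : ℤ) * x) * x * (a ^ j)⁻¹ := by norm_num [mul_assoc]
          _ = a ^ j * (x * a ^ (1 : ℤ)) * x * (a ^ j)⁻¹ := by rw [hxai]
          _ = a ^ j * x * a * (a ^ j * x)⁻¹ := by rw [mul_inv_rev, hxinv]; group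
      have h4 : (4 : ℤ) ∣ u * u - -1 := dvd_trans h4N ((zeq _ _).mp e)
      rcases Int.even_or_odd u with ⟨w, rfl⟩ | ⟨w, rfl⟩
      · have : (4 : ℤ) ∣ 1 := by
          have := dvd_sub h4 (dvd_mul_right 4 (w * w))
          rwa [show (w + w) * (w + w) - -1 - 4 * (w * w) = 1 by ring] at this
        norm_num at this
      · have : (4 : ℤ) ∣ 2 := by
          have := dvd_sub h4 (dvd_mul_right 4 (w * w + w))
          rwa [show (2 * w + 1) * (2 * w + 1) - -1 - 4 * (w * w + w) = 2 by ring] at this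
        norm_num at this
  obtain ⟨u₀, hu₀⟩ := hnorm s
  obtain ⟨v, hvodd, hv⟩ := hxconj s hs
  obtain ⟨j₀, -, hu2, -, -⟩ := rels s hs u₀ hu₀ v hv
  obtain ⟨ε, hε, hεh, hε4⟩ := choose_sign n hn u₀ hu2
  obtain ⟨t, htM, htu, htv⟩ : ∃ t, t ∉ M ∧ t * a * t⁻¹ = a ^ (ε * u₀) ∧ t * x * t⁻¹ = a ^ v * x := by
    rcases hε with rfl | rfl
    · exact ⟨s, hs, by rw [one_mul]; exact hu₀, hv⟩
    · refine ⟨s * x, fun h => hs ((M.mul_mem_cancel_right hxM).mp h), ?_, ?_⟩
      · calc s * x * a * (s * x)⁻¹ = s * (x * a * x) * s⁻¹ := by rw [mul_inv_rev, hxinv]; group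
          _ = a ^ (-1 * u₀) := by rw [hr, hgai s u₀ hu₀, mul_comm]
      · calc s * x * x * (s * x)⁻¹ = s * (x * x) * x * s⁻¹ := by rw [mul_inv_rev, hxinv]; group
          _ = a ^ v * x := by rw [hx2, mul_one, hv]
  obtain ⟨j, hj, -, hju, hjv⟩ := rels t htM (ε * u₀) htu v htv
  set u := ε * u₀ with hu
  obtain ⟨k, rfl⟩ : ∃ k, n = k + 2 := ⟨n - 2, by omega⟩
  rw [show k + 2 - 1 = k + 1 by omega] at hεh
  obtain ⟨e, he⟩ := hεh
  have hu1 : (2 : ℤ) ^ (k + 2) ∣ u - 1 := by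
    rcases Int.even_or_odd e with ⟨e', rfl⟩ | ⟨e', rfl⟩
    · exact ⟨e', by rw [he]; ring⟩
    exfalso
    rcases Nat.eq_zero_or_pos k with rfl | hk
    · have h4 := hε4 rfl
      rw [he] at h4
      norm_num at h4
      have := dvd_sub h4 (dvd_mul_right 4 e')
      rw [show 2 * (2 * e' + 1) - 4 * e' = 2 by ring] at this
      norm_num at this
    obtain ⟨l, rfl⟩ : ∃ l, k = l + 1 := ⟨k - 1, by omega⟩
    have hje : Even j := by
      rw [he] at hju
      obtain ⟨c, hc⟩ := hju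
      have : j * (2 * e' + 1) = 2 * c := by
        have hp : (2 : ℤ) ^ (l + 1 + 1) ≠ 0 := by positivity
        apply mul_left_cancel₀ hp
        linear_combination hc
      exact ⟨c - j * e', by linear_combination this⟩
    obtain ⟨j', rfl⟩ := hje
    obtain ⟨m, rfl⟩ := hvodd
    have h4 : (4 : ℤ) ∣ (2 * m + 1) * (u + 1) - 2 * (j' + j') := dvd_trans h4N hjv
    have h5 : (4 : ℤ) ∣ 2 := by
      have e1 : u + 1 = 2 + 4 * (2 ^ l * (2 * e' + 1)) := by linear_combination he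
      rw [e1] at h4
      have := dvd_sub h4 (dvd_mul_right 4 (m + (2 * m + 1) * (2 ^ l * (2 * e' + 1)) - j'))
      have e2 : (2 * m + 1) * (2 + 4 * (2 ^ l * (2 * e' + 1))) - 2 * (j' + j') -
          4 * (m + (2 * m + 1) * (2 ^ l * (2 * e' + 1)) - j') = 2 := by ring
      rwa [e2] at this
    norm_num at h5
  obtain ⟨e₂, he₂⟩ := hu1
  obtain ⟨c₃, hc₃⟩ := hjv
  obtain ⟨ρ, hρ⟩ : ∃ ρ : ℤ, v = j + 2 ^ (k + 1) * ρ := by
    refine ⟨c₃ - v * e₂, ?_⟩
    apply mul_left_cancel₀ (two_ne_zero : (2 : ℤ) ≠ 0)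
    linear_combination hc₃ - v * he₂
  have hjodd : Odd j := by
    rw [show j = v - 2 ^ (k + 1) * ρ by linear_combination -hρ]
    exact hvodd.sub_even (Even.mul_right (Int.even_pow.mpr ⟨even_two, by omega⟩) _)
  obtain ⟨i, hi⟩ := hjodd
  have hah : t ^ ((2 : ℤ) ^ (k + 2)) = a ^ ((2 : ℤ) ^ (k + 1)) := by
    rw [show (2 : ℤ) ^ (k + 2) = 2 * 2 ^ (k + 1) by ring, zpow_mul, zpow_two, hj, ← zpow_mul, zeq]
    exact ⟨-i, by rw [hi]; ring⟩
  have hordt : orderOf t = 2 ^ (k + 3) := by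
    refine orderOf_eq_prime_pow (n := k + 2) ?_ ?_
    · rw [← zpow_natCast, Nat.cast_pow, show ((2 : ℕ) : ℤ) = 2 by norm_num, hah, zone]
      intro h
      have h1 : (2 : ℕ) ^ (k + 2) ∣ 2 ^ (k + 1) := by exact_mod_cast h
      have := (Nat.pow_dvd_pow_iff_le_right (by norm_num)).mp h1
      omega
    · rw [← zpow_natCast, Nat.cast_pow, show ((2 : ℕ) : ℤ) = 2 by norm_num,
        show (2 : ℤ) ^ (k + 2 + 1) = 2 ^ (k + 2) * 2 by ring, zpow_mul, hah, ← zpow_mul, zone]
      exact ⟨1, by ring⟩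
  have hcardS : Nat.card S = 2 ^ (k + 3 + 1) := by
    rw [← M.card_mul_index, hM2, hcard]
    ring
  have hxt : x * t * x = t ^ (-1 - (2 : ℤ) ^ (k + 2) * ρ) := by
    have h1 : x * t = a ^ (-v) * t * x := by
      calc x * t = a ^ (-v) * (a ^ v * x) * t := by group
        _ = a ^ (-v) * (t * x * t⁻¹) * t := by rw [htv]
        _ = a ^ (-v) * t * x := by group
    have hj' : t ^ (2 : ℤ) = a ^ j := by rw [zpow_two]; exact hj
    calc x * t * x = a ^ (-v) * t * (x * x) := by rw [h1]; group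
      _ = a ^ (-v) * t := by rw [hx2, mul_one]
      _ = (a ^ ((2 : ℤ) ^ (k + 1))) ^ (-ρ) * (a ^ j) ^ (-1 : ℤ) * t := by
        rw [← zpow_mul, ← zpow_mul, ← zpow_add]
        congr 1
        congr 1
        linear_combination -hρ
      _ = (t ^ ((2 : ℤ) ^ (k + 2))) ^ (-ρ) * (t ^ (2 : ℤ)) ^ (-1 : ℤ) * t ^ (1 : ℤ) := by
        rw [hah, hj', zpow_one]
      _ = t ^ (-1 - (2 : ℤ) ^ (k + 2) * ρ) := by
        rw [← zpow_mul, ← zpow_mul, ← zpow_add, ← zpow_add]
        ring_nf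
  refine Or.inr ⟨k + 3, t, by omega, hcardS, hordt, ?_, ?_⟩
  · intro hmem
    obtain ⟨m, hm⟩ := Subgroup.mem_zpowers_iff.mp hmem
    apply hC t htM
    rw [← hm]
    exact ((Commute.refl t).zpow_right m).eq
  · have hT : ((orderOf t : ℕ) : ℤ) = 2 ^ (k + 3) := by rw [hordt]; norm_num
    rcases Int.even_or_odd ρ with ⟨c, hc⟩ | ⟨c, hc⟩
    · left
      rw [hxt, ← zpow_neg_one, zpow_eq_zpow_iff_modEq, hT, Int.modEq_iff_dvd]
      exact ⟨c, by rw [hc]; ring⟩
    · right
      refine ⟨by omega, ?_⟩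
      rw [show k + 3 - 1 = k + 2 by omega, hxt, ← zpow_natCast t, Nat.cast_sub Nat.one_le_two_pow,
        Nat.cast_pow, zpow_eq_zpow_iff_modEq, hT, Int.modEq_iff_dvd]
      exact ⟨c + 1, by push_cast; rw [hc]; ring⟩

theorem good.{u} : ∀ (N : ℕ) (T : Type u) [Group T] [Finite T], Nat.card T = N → IsPGroup 2 T → ∀ x : T,
    orderOf x = 2 → Nat.card ↥(Subgroup.centralizer ({x} : Set T)) = 4 → Good T x := by
  intro N
  induction N using Nat.strong_induction_on with
  | _ N ih =>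
  intro T _ _ hN hT x hx hC
  haveI : Fact (Nat.Prime 2) := ⟨Nat.prime_two⟩
  by_cases h4 : Nat.card T = 4
  · exact Or.inl h4
  obtain ⟨e, he⟩ := IsPGroup.iff_card.mp hT
  set C := Subgroup.centralizer ({x} : Set T) with hCdef
  have hdvd : Nat.card ↥C ∣ Nat.card T := Subgroup.card_subgroup_dvd_card C
  have he3 : 3 ≤ e := by
    have h1 : 4 ∣ 2 ^ e := by rw [← hC, ← he]; exact hdvd
    by_contra hlt
    interval_cases e
    all_goals first
      | omega
      | simp_all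
  have hCp : Nat.card ↥C = 2 ^ 2 := hC
  obtain ⟨M, hM, hCM⟩ : ∃ M : Subgroup T, Nat.card ↥M = 2 ^ (e - 1) ∧ C ≤ M :=
    Sylow.exists_subgroup_card_pow_prime_le 2
      (by rw [he]; exact pow_dvd_pow 2 (by omega)) C hCp (by omega)
  have hM2 : M.index = 2 := by
    have h' := M.card_mul_index
    rw [hM, he, show e = e - 1 + 1 by omega, pow_succ, show e - 1 + 1 - 1 = e - 1 by omega] at h'
    exact Nat.eq_of_mul_eq_mul_left (by positivity) h'
  have hxC : x ∈ C := Subgroup.mem_centralizer_singleton_iff.mpr rfl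
  have hxM : x ∈ M := hCM hxC
  have hCM' : Nat.card ↥(Subgroup.centralizer ({⟨x, hxM⟩} : Set ↥M)) = 4 := by
    rw [← hC]
    have : (Subgroup.centralizer ({⟨x, hxM⟩} : Set ↥M)) = C.subgroupOf M := by
      ext m
      simp [Subgroup.mem_subgroupOf, hCdef, Subgroup.mem_centralizer_singleton_iff, Subtype.ext_iff]
    rw [this]
    exact Nat.card_congr (Subgroup.subgroupOfEquivOfLe hCM).toEquiv
  have hlt : Nat.card ↥M < N := by
    rw [← hN, hM, he]
    exact Nat.pow_lt_pow_right (by norm_num) (by omega)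
  have hxo : orderOf (⟨x, hxM⟩ : ↥M) = 2 := (Subgroup.orderOf_mk _ _).trans hx
  rcases ih _ hlt ↥M rfl (hT.to_subgroup M) ⟨x, hxM⟩ hxo hCM' with h | ⟨n, a, hn, hcard, ha, hxa, hact⟩
  · -- order eight
    have he' : e = 3 := by
      rw [hM] at h
      have := Nat.pow_right_injective (le_refl 2) (show 2 ^ (e - 1) = 2 ^ 2 from h)
      omega
    subst he'
    have hncx : ¬ ∀ g : T, g * x = x * g := by
      intro hall
      have : C = ⊤ := eq_top_iff.mpr fun g _ => Subgroup.mem_centralizer_singleton_iff.mpr (hall g)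
      rw [this, Subgroup.card_top] at hC
      exact h4 hC
    obtain ⟨a, ha⟩ : ∃ a : T, a ^ 2 ≠ 1 := by
      by_contra hc
      push Not at hc
      apply hncx
      intro g
      have inv : ∀ y : T, y⁻¹ = y := fun y => inv_eq_of_mul_eq_one_right (by rw [← pow_two]; exact hc y)
      calc g * x = (g * x)⁻¹ := (inv _).symm
        _ = x * g := by rw [mul_inv_rev, inv, inv]
    have ho : orderOf a = 4 := by
      obtain ⟨i, hi, hio⟩ := (Nat.dvd_prime_pow Nat.prime_two).mp (show orderOf a ∣ 2 ^ 3 from he ▸ orderOf_dvd_natCard a)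
      interval_cases i
      · exfalso; apply ha; rw [pow_zero] at hio; rw [orderOf_eq_one_iff.mp hio, one_pow]
      · exfalso; apply ha; have := pow_orderOf_eq_one a; rw [hio] at this; simpa using this
      · exact hio
      · exfalso
        have hgen : Subgroup.zpowers a = ⊤ := Subgroup.eq_top_of_card_eq _ (by rw [Nat.card_zpowers, hio, he])
        apply hncx
        intro g
        obtain ⟨i, rfl⟩ := Subgroup.mem_zpowers_iff.mp (hgen ▸ Subgroup.mem_top g)
        obtain ⟨l, hl⟩ := Subgroup.mem_zpowers_iff.mp (hgen ▸ Subgroup.mem_top x)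
        rw [← hl, ← zpow_add, ← zpow_add, add_comm]
    have hA2 : (Subgroup.zpowers a).index = 2 := by
      have h' := (Subgroup.zpowers a).card_mul_index
      rw [Nat.card_zpowers, ho, he] at h'
      omega
    have hAn := Subgroup.normal_of_index_eq_two hA2
    have hxA : x ∉ Subgroup.zpowers a := by
      intro hmem
      -- then `x` is the only involution of a normal subgroup, hence central
      apply hncx
      intro g
      have hg : g * x * g⁻¹ ∈ Subgroup.zpowers a := hAn.conj_mem x hmem g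
      have key : ∀ y ∈ Subgroup.zpowers a, orderOf y = 2 → y = a ^ (2 : ℤ) := by
        intro y hy ho2
        obtain ⟨i, rfl⟩ := Subgroup.mem_zpowers_iff.mp hy
        rw [zpow_eq_zpow_iff_modEq, ho]
        have h2 : (a ^ i) ^ (2 : ℤ) = 1 := by
          have := pow_orderOf_eq_one (a ^ i)
          rw [ho2] at this
          exact_mod_cast this
        have h0 : a ^ i ≠ 1 := fun e => by rw [e, orderOf_one] at ho2; norm_num at ho2
        rw [← zpow_mul, ← orderOf_dvd_iff_zpow_eq_one, ho] at h2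
        rw [ne_eq, ← orderOf_dvd_iff_zpow_eq_one, ho] at h0
        rw [Int.modEq_iff_dvd]
        push_cast at h2 h0 ⊢
        omega
      have e1 := key x hmem hx
      have e2 := key _ hg (by rw [← MulAut.conj_apply, MulEquiv.orderOf_eq]; exact hx)
      calc g * x = g * x * g⁻¹ * g := by group
        _ = x * g := by rw [e2, ← e1]
    refine Or.inr ⟨2, a, le_rfl, by rw [he], by rw [ho]; norm_num, hxA, Or.inl ?_⟩
    have hx2 : x * x = 1 := TwoInvolutions.mul_self_of_orderOf hx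
    have hmem : x * a * x ∈ Subgroup.zpowers a := by
      have := hAn.conj_mem a (Subgroup.mem_zpowers a) x
      rwa [TwoInvolutions.inv_eq_of_orderOf hx] at this
    obtain ⟨i, hi⟩ := Subgroup.mem_zpowers_iff.mp hmem
    have hoi : orderOf (a ^ i) = 4 := by
      rw [hi, ← ho]
      conv_lhs => arg 1; arg 2; rw [← TwoInvolutions.inv_eq_of_orderOf hx]
      rw [← MulAut.conj_apply, MulEquiv.orderOf_eq]
    rw [← hi, ← zpow_neg_one, zpow_eq_zpow_iff_modEq, ho, Int.modEq_iff_dvd]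
    push_cast
    have hne1 : ¬ (4 : ℤ) ∣ 1 - i := by
      intro hd
      have : a ^ i = a := by
        conv_rhs => rw [← zpow_one a]
        rw [zpow_eq_zpow_iff_modEq, ho, Int.modEq_iff_dvd]
        exact_mod_cast hd
      rw [this] at hi
      have hc : a * x = x * a := by
        conv_lhs => rw [hi]
        rw [mul_assoc, hx2, mul_one]
      apply hncx
      intro g
      by_cases hgA : g ∈ Subgroup.zpowers a
      · obtain ⟨l, rfl⟩ := Subgroup.mem_zpowers_iff.mp hgA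
        exact ((show Commute a x from hc).zpow_left l).eq
      · have hgx := (Subgroup.mul_mem_iff_of_index_two hA2).mpr (iff_of_false hgA hxA)
        obtain ⟨l, hl⟩ := Subgroup.mem_zpowers_iff.mp hgx
        have h1 : Commute (g * x) x := hl ▸ (show Commute a x from hc).zpow_left l
        have := h1.mul_left (Commute.refl x).inv_left
        rwa [mul_inv_cancel_right] at this
    have hodd : ¬ (2 : ℤ) ∣ i := by
      rintro ⟨l, rfl⟩
      have : (a ^ (2 * l)) ^ (2 : ℤ) = 1 := by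
        rw [← zpow_mul, ← orderOf_dvd_iff_zpow_eq_one, ho]
        exact ⟨l, by ring⟩
      rw [← orderOf_dvd_iff_zpow_eq_one, hoi] at this
      norm_num at this
    omega
  · refine step T M hM2 x a hxM a.2 hx ?_ n hn hcard ((Subgroup.orderOf_coe a).trans ha) ?_ ?_
    · intro g hg he
      exact hg (hCM (Subgroup.mem_centralizer_singleton_iff.mpr he))
    · intro hmem
      obtain ⟨i, hi⟩ := Subgroup.mem_zpowers_iff.mp hmem
      exact hxa (Subgroup.mem_zpowers_iff.mpr ⟨i, Subtype.ext (by simpa using hi)⟩)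
    · rcases hact with h' | ⟨h3, h'⟩
      · exact Or.inl (by simpa using congrArg Subtype.val h')
      · exact Or.inr ⟨h3, by simpa using congrArg Subtype.val h'⟩


/-- A finite 2-group containing an involution whose centralizer has order 4 is dihedral, quasi-dihedral (semidihedral), or of order 4. -/
theorem result {S : Type*} [Group S] [Finite S] (hS : IsPGroup 2 S)
    (x : S) (hx : orderOf x = 2) (hC : Nat.card ↥(Subgroup.centralizer ({x} : Set S)) = 4) :
    (∃ n : ℕ, Nonempty (S ≃* DihedralGroup n)) ∨ Cfsg.IsQuasiDihedral S ∨ Nat.card S = 4 := by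
  haveI : Fact (Nat.Prime 2) := ⟨Nat.prime_two⟩
  rcases good (Nat.card S) S rfl hS x hx hC with h | ⟨n, a, hn, hcard, ha, hxa, h | ⟨hn3, h⟩⟩
  · exact Or.inr (Or.inr h)
  · left
    have hx2 : x * x = 1 := TwoInvolutions.mul_self_of_orderOf hx
    have ha1 : orderOf (x * a) = 2 := by
      refine orderOf_eq_prime ?_ ?_
      · rw [pow_two, ← mul_assoc, h, inv_mul_cancel]
      · intro e
        exact hxa (by rw [eq_inv_of_mul_eq_one_left e]; exact inv_mem (Subgroup.mem_zpowers a))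
    have hne : x ≠ x * a := by
      intro e
      have : a = 1 := by simpa using e.symm
      rw [this, orderOf_one] at ha
      have := Nat.one_lt_two_pow (n := n) (by omega)
      omega
    obtain ⟨e⟩ := TwoInvolutions.nonempty_mulEquiv_dihedral hx ha1 hne
    have htop : Subgroup.closure ({x, x * a} : Set S) = ⊤ := by
      have hle : Subgroup.zpowers a ≤ Subgroup.closure ({x, x * a} : Set S) := by
        rw [Subgroup.zpowers_le]
        have := mul_mem (Subgroup.subset_closure (k := ({x, x * a} : Set S)) (Or.inl rfl))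
          (Subgroup.subset_closure (k := ({x, x * a} : Set S)) (Or.inr rfl))
        rwa [← mul_assoc, hx2, one_mul] at this
      have hidx : (Subgroup.zpowers a).index = 2 := by
        have h' := (Subgroup.zpowers a).card_mul_index
        rw [Nat.card_zpowers, ha, hcard, pow_succ] at h'
        exact Nat.eq_of_mul_eq_mul_left (by positivity) h'
      refine eq_top_iff.mpr fun y _ => ?_
      by_cases hy : y ∈ Subgroup.zpowers a
      · exact hle hy
      · have : y * x ∈ Subgroup.zpowers a :=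
          (Subgroup.mul_mem_iff_of_index_two hidx).mpr (iff_of_false hy hxa)
        have := mul_mem (hle this) (Subgroup.subset_closure (k := ({x, x * a} : Set S)) (Or.inl rfl))
        rwa [mul_assoc, hx2, mul_one] at this
    exact ⟨_, ⟨(Subgroup.topEquiv.symm.trans (MulEquiv.subgroupCongr htop.symm)).trans e⟩⟩
  · exact Or.inr (Or.inl ⟨n, hn3, hcard, a, x, ha, hx,
      by rw [TwoInvolutions.inv_eq_of_orderOf hx]; exact h⟩)

end Cfsg.Agent.S3224
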