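import Mathlib
import Cfsg.Statements.S3335
import Cfsg.Agent.Lib.CoxeterTypeA

set_option autoImplicit false
open Cfsg

namespace Cfsg.Agent.S3335

/-- Carmichael's relators on `k` generators -/
def rels (k : ℕ) : Set (FreeGroup (Fin k)) :=
  {g | ∃ i : Fin k, i.val = 0 ∧ g = FreeGroup.of i ^ 3} ∪
    {g | ∃ i : Fin k, 1 ≤ i.val ∧ g = FreeGroup.of i ^ 2} ∪
    {g | ∃ i j : Fin k, j.val = i.val + 1 ∧ g = (FreeGroup.of i * FreeGroup.of j) ^ 3} ∪
    {g | ∃ i j : Fin k, i.val + 1 < j.val ∧ g = (FreeGroup.of i * FreeGroup.of j) ^ 2}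

theorem pow_swap_one {X : Type*} [Group X] {a b : X} {d : ℕ} (h : (a * b) ^ d = 1) : (b * a) ^ d = 1 := by
  calc (b * a) ^ d = (a⁻¹ * (a * b) * a⁻¹⁻¹) ^ d := by congr 1; group
    _ = 1 := by rw [conj_pow, h]; group

theorem lift_rels {k : ℕ} {X : Type*} [Group X] (f : Fin k → X)
    (h3 : ∀ i : Fin k, i.val = 0 → f i ^ 3 = 1) (h2 : ∀ i : Fin k, 1 ≤ i.val → f i ^ 2 = 1)
    (hb : ∀ i j : Fin k, j.val = i.val + 1 → (f i * f j) ^ 3 = 1)
    (hc : ∀ i j : Fin k, i.val + 1 < j.val → (f i * f j) ^ 2 = 1) :
    ∀ r ∈ rels k, FreeGroup.lift f r = 1 := by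
  rintro r (((⟨i, hi, rfl⟩ | ⟨i, hi, rfl⟩) | ⟨i, j, hij, rfl⟩) | ⟨i, j, hij, rfl⟩) <;>
    simp only [map_pow, map_mul, FreeGroup.lift_apply_of]
  · exact h3 i hi
  · exact h2 i hi
  · exact hb i j hij
  · exact hc i j hij

theorem main (m : ℕ) : Nonempty (PresentedGroup (rels (m + 1)) ≃* alternatingGroup (Fin (m + 3))) := by
  classical
  let G := PresentedGroup (rels (m + 1))
  let x : Fin (m + 1) → G := PresentedGroup.of
  have hr : ∀ r ∈ rels (m + 1), PresentedGroup.mk (rels (m + 1)) r = 1 := fun r hr => PresentedGroup.one_of_mem hr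
  have hx3 : ∀ i : Fin (m + 1), i.val = 0 → x i ^ 3 = 1 := fun i hi =>
    (map_pow (PresentedGroup.mk (rels (m + 1))) (FreeGroup.of i) 3).symm.trans
      (hr _ (.inl (.inl (.inl ⟨i, hi, rfl⟩))))
  have hx2 : ∀ i : Fin (m + 1), 1 ≤ i.val → x i ^ 2 = 1 := fun i hi =>
    (map_pow (PresentedGroup.mk (rels (m + 1))) (FreeGroup.of i) 2).symm.trans
      (hr _ (.inl (.inl (.inr ⟨i, hi, rfl⟩))))
  have hxb : ∀ i j : Fin (m + 1), j.val = i.val + 1 → (x i * x j) ^ 3 = 1 := fun i j h =>
    ((congrArg (· ^ 3) (map_mul (PresentedGroup.mk (rels (m + 1))) (FreeGroup.of i) (FreeGroup.of j)).symm).trans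
      (map_pow (PresentedGroup.mk (rels (m + 1))) (FreeGroup.of i * FreeGroup.of j) 3).symm).trans
      (hr _ (.inl (.inr ⟨i, j, h, rfl⟩)))
  have hxc : ∀ i j : Fin (m + 1), i.val + 1 < j.val → (x i * x j) ^ 2 = 1 := fun i j h =>
    ((congrArg (· ^ 2) (map_mul (PresentedGroup.mk (rels (m + 1))) (FreeGroup.of i) (FreeGroup.of j)).symm).trans
      (map_pow (PresentedGroup.mk (rels (m + 1))) (FreeGroup.of i * FreeGroup.of j) 2).symm).trans
      (hr _ (.inr ⟨i, j, h, rfl⟩))
  -- the automorphism inverting the generators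
  have hτr : ∀ r ∈ rels (m + 1), FreeGroup.lift (fun i => (x i)⁻¹) r = 1 := by
    refine lift_rels _ (fun i hi => by rw [inv_pow, hx3 i hi, inv_one])
      (fun i hi => by rw [inv_pow, hx2 i hi, inv_one]) (fun i j h => ?_) (fun i j h => ?_)
    · rw [← mul_inv_rev, inv_pow, pow_swap_one (hxb i j h), inv_one]
    · rw [← mul_inv_rev, inv_pow, pow_swap_one (hxc i j h), inv_one]
  let τ : G →* G := PresentedGroup.toGroup hτr
  have hτx : ∀ i, τ (x i) = (x i)⁻¹ := fun i => PresentedGroup.toGroup.of _
  have hττ : τ.comp τ = MonoidHom.id G := PresentedGroup.ext fun i => by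
    show τ (τ (x i)) = x i
    rw [hτx, map_inv, hτx, inv_inv]
  let τe : MulAut G := MonoidHom.toMulEquiv τ τ hττ hττ
  let φ : Multiplicative (ZMod 2) →* MulAut G :=
    { toFun := fun z => if z = 1 then 1 else τe
      map_one' := if_pos rfl
      map_mul' := by
        have hsq : τe * τe = 1 := MulEquiv.ext fun g => DFunLike.congr_fun hττ g
        intro a b
        rcases (by decide : ∀ z : Multiplicative (ZMod 2), z = 1 ∨ z = Multiplicative.ofAdd 1) a with rfl | rfl <;>
          rcases (by decide : ∀ z : Multiplicative (ZMod 2), z = 1 ∨ z = Multiplicative.ofAdd 1) b with rfl | rfl <;>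
          simp [hsq, show (Multiplicative.ofAdd (1 : ZMod 2)) ≠ 1 by decide,
            show Multiplicative.ofAdd (1 : ZMod 2) * Multiplicative.ofAdd (1 : ZMod 2) = 1 by decide] }
  let H := G ⋊[φ] Multiplicative (ZMod 2)
  let e : H := SemidirectProduct.inr (Multiplicative.ofAdd 1)
  have hee : e * e = 1 := by
    show SemidirectProduct.inr _ * SemidirectProduct.inr _ = (1 : H)
    rw [← map_mul, show Multiplicative.ofAdd (1 : ZMod 2) * Multiplicative.ofAdd (1 : ZMod 2) = 1 by decide, map_one]
  have hei : e⁻¹ = e := inv_eq_of_mul_eq_one_right hee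
  have hconj : ∀ g : G, e * SemidirectProduct.inl g * e = SemidirectProduct.inl (τ g) := by
    intro g
    have : SemidirectProduct.inl (φ (Multiplicative.ofAdd 1) g) = e * SemidirectProduct.inl g * e⁻¹ :=
      SemidirectProduct.inl_aut (φ := φ) (Multiplicative.ofAdd 1) g
    rw [hei] at this
    rw [← this]
    rfl
  have hex : ∀ i, e * SemidirectProduct.inl (x i) * e = (SemidirectProduct.inl (x i))⁻¹ := fun i => by
    rw [hconj, hτx, map_inv]
  -- the transposition images
  let f : Fin (m + 2) → H := Fin.cases e fun i => e * SemidirectProduct.inl (x i)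
  have hf2 : ∀ i, f i * f i = 1 := by
    intro i
    refine Fin.cases ?_ (fun k => ?_) i
    · exact hee
    · show e * SemidirectProduct.inl (x k) * (e * SemidirectProduct.inl (x k)) = 1
      rw [← mul_assoc, hex, inv_mul_cancel]
  have hforward : ∀ i j : Fin (m + 2), i.val < j.val →
      (f i * f j) ^ (if i.val + 1 = j.val then 3 else 2) = 1 := by
    intro i j hij
    obtain ⟨l, rfl⟩ : ∃ l : Fin (m + 1), j = l.succ := Fin.eq_succ_of_ne_zero (fun h => by subst h; simp at hij)
    revert hij
    refine Fin.cases ?_ (fun k => ?_) i <;> intro hij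
    · show (e * (e * SemidirectProduct.inl (x l))) ^ _ = 1
      rw [← mul_assoc, hee, one_mul, ← map_pow]
      by_cases hl : l.val = 0
      · rw [if_pos (by simp [hl]), hx3 l hl, map_one]
      · rw [if_neg (by simp only [Fin.val_succ, Fin.val_zero] at *; omega), hx2 l (by omega), map_one]
    · show (e * SemidirectProduct.inl (x k) * (e * SemidirectProduct.inl (x l))) ^ _ = 1
      have e1 : e * SemidirectProduct.inl (x k) * (e * SemidirectProduct.inl (x l)) =
          SemidirectProduct.inl ((x k)⁻¹ * x l) := by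
        rw [map_mul, map_inv, ← hex, mul_assoc (e * SemidirectProduct.inl (x k)) e]
      simp only [Fin.val_succ] at hij
      have hl2 : x l ^ 2 = 1 := hx2 l (by omega)
      have hli : (x l)⁻¹ = x l := inv_eq_of_mul_eq_one_right (by rw [← sq]; exact hl2)
      have e2 : (x k)⁻¹ * x l = (x l * x k)⁻¹ := by rw [mul_inv_rev, hli]
      rw [e1, ← map_pow, e2, inv_pow]
      by_cases hkl : l.val = k.val + 1
      · rw [if_pos (by simp; omega), pow_swap_one (hxb k l hkl), inv_one, map_one]
      · rw [if_neg (by simp; omega), pow_swap_one (hxc k l (by omega)), inv_one, map_one]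
  have hlift : CoxeterMatrix.IsLiftable (CoxeterMatrix.A (m + 2)) f := by
    intro i j
    simp only [CoxeterMatrix.A, Matrix.of_apply]
    show (f i * f j) ^ (if i = j then 1 else if (j : ℕ) + 1 = i ∨ (i : ℕ) + 1 = j then 3 else 2) = 1
    rcases lt_trichotomy i.val j.val with h | h | h
    · rw [if_neg (fun e => by subst e; omega)]
      have := hforward i j h
      by_cases h1 : i.val + 1 = j.val
      · rw [if_pos (Or.inr h1)]; rwa [if_pos h1] at this
      · rw [if_neg (by omega)]; rwa [if_neg h1] at this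
    · obtain rfl := Fin.ext h
      rw [if_pos rfl, pow_one, hf2]
    · rw [if_neg (fun e => by subst e; omega)]
      have := pow_swap_one (hforward j i h)
      by_cases h1 : j.val + 1 = i.val
      · rw [if_pos (Or.inl h1)]; rwa [if_pos h1] at this
      · rw [if_neg (by omega)]; rwa [if_neg h1] at this
  let L : CoxeterTypeA.W (m + 2) →* H := (CoxeterTypeA.sys (m + 2)).lift ⟨f, hlift⟩
  have hL : ∀ i, L ((CoxeterTypeA.sys (m + 2)).simple i) = f i := fun i =>
    (CoxeterTypeA.sys (m + 2)).lift_apply_simple hlift i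
  have hLsurj : Function.Surjective L := by
    rw [← MonoidHom.range_eq_top, eq_top_iff]
    have he : e ∈ L.range := ⟨_, hL 0⟩
    have hgen : ∀ g : G, SemidirectProduct.inl g ∈ L.range := by
      have : (⊤ : Subgroup G) ≤ L.range.comap SemidirectProduct.inl := by
        rw [← PresentedGroup.closure_range_of (rels (m + 1)), Subgroup.closure_le]
        rintro _ ⟨i, rfl⟩
        have h : f i.succ ∈ L.range := ⟨_, hL i.succ⟩
        have h' := mul_mem he h
        rw [show e * f i.succ = e * (e * SemidirectProduct.inl (x i)) from rfl, ← mul_assoc, hee, one_mul] at h'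
        exact h'
      exact fun g => this (Subgroup.mem_top g)
    intro y _
    rw [← SemidirectProduct.inl_left_mul_inr_right y]
    refine mul_mem (hgen _) ?_
    rcases (by decide : ∀ z : Multiplicative (ZMod 2), z = 1 ∨ z = Multiplicative.ofAdd 1) y.right with h | h <;> rw [h]
    · rw [map_one]; exact one_mem _
    · exact he
  -- the map to the symmetric group
  let s : Fin (m + 2) → Equiv.Perm (Fin (m + 3)) := fun i => Equiv.swap i.castSucc i.succ
  have hss : ∀ i, s i * s i = 1 := fun i => Equiv.swap_mul_self _ _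
  have hsl : ∀ i j, (s i * s j) ^ (if i = j then 1 else if (j : ℕ) + 1 = i ∨ (i : ℕ) + 1 = j then 3 else 2) = 1 :=
    fun i j => CoxeterTypeA.swap_liftable (m + 2) i j
  have hsinv : ∀ i, (s i)⁻¹ = s i := fun i => inv_eq_of_mul_eq_one_right (hss i)
  have hψr : ∀ r ∈ rels (m + 1), FreeGroup.lift (fun i : Fin (m + 1) => s 0 * s i.succ) r = 1 := by
    have hone : ∀ l : Fin (m + 1), 1 ≤ l.val → s 0 * s l.succ = s l.succ * s 0 := by
      intro l hl
      have h := hsl 0 l.succ
      rw [if_neg (Fin.succ_ne_zero _).symm, if_neg (by simp only [Fin.val_succ, Fin.val_zero] at *; omega), sq] at h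
      calc s 0 * s l.succ = (s 0 * s l.succ)⁻¹ := eq_inv_of_mul_eq_one_left h
        _ = s l.succ * s 0 := by rw [mul_inv_rev, hsinv, hsinv]
    have hred : ∀ k l : Fin (m + 1), 1 ≤ l.val →
        s 0 * s k.succ * (s 0 * s l.succ) = s 0 * (s k.succ * s l.succ) * (s 0)⁻¹ := by
      intro k l hl
      rw [hsinv, hone l hl]; group
    refine lift_rels _ (fun i hi => ?_) (fun i hi => ?_) (fun i j h => ?_) (fun i j h => ?_)
    · have := hsl 0 i.succ
      rwa [if_neg (Fin.succ_ne_zero _).symm, if_pos (Or.inr (by simp [hi]))] at this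
    · have := hsl 0 i.succ
      rwa [if_neg (Fin.succ_ne_zero _).symm, if_neg (by simp only [Fin.val_succ, Fin.val_zero] at *; omega)] at this
    · have := hsl i.succ j.succ
      rw [if_neg (fun e => by have := congrArg Fin.val e; simp at this; omega),
        if_pos (Or.inr (by simp; omega))] at this
      rw [hred i j (by omega), conj_pow, this, mul_one, mul_inv_cancel]
    · have := hsl i.succ j.succ
      rw [if_neg (fun e => by have := congrArg Fin.val e; simp at this; omega),
        if_neg (by simp; omega)] at this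
      rw [hred i j (by omega), conj_pow, this, mul_one, mul_inv_cancel]
  let ψ : G →* Equiv.Perm (Fin (m + 3)) := PresentedGroup.toGroup hψr
  have hψx : ∀ i : Fin (m + 1), ψ (x i) = s 0 * s i.succ := fun i => PresentedGroup.toGroup.of _
  have hψτ : ψ.comp τ = (MulAut.conj (s 0)).toMonoidHom.comp ψ := PresentedGroup.ext fun i => by
    show ψ (τ (x i)) = s 0 * ψ (x i) * (s 0)⁻¹
    rw [hτx, map_inv, hψx, mul_inv_rev, hsinv, hsinv, ← mul_assoc (s 0), hss, one_mul]
  let φ₂ : Multiplicative (ZMod 2) →* Equiv.Perm (Fin (m + 3)) :=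
    { toFun := fun z => if z = 1 then 1 else s 0
      map_one' := if_pos rfl
      map_mul' := by
        intro a b
        rcases (by decide : ∀ z : Multiplicative (ZMod 2), z = 1 ∨ z = Multiplicative.ofAdd 1) a with rfl | rfl <;>
          rcases (by decide : ∀ z : Multiplicative (ZMod 2), z = 1 ∨ z = Multiplicative.ofAdd 1) b with rfl | rfl <;>
          simp [hss, show (Multiplicative.ofAdd (1 : ZMod 2)) ≠ 1 by decide,
            show Multiplicative.ofAdd (1 : ZMod 2) * Multiplicative.ofAdd (1 : ZMod 2) = 1 by decide] }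
  let Φ : H →* Equiv.Perm (Fin (m + 3)) := SemidirectProduct.lift ψ φ₂ fun z => by
    rcases (by decide : ∀ z : Multiplicative (ZMod 2), z = 1 ∨ z = Multiplicative.ofAdd 1) z with rfl | rfl
    · refine MonoidHom.ext fun g => ?_
      simp
    · exact hψτ
  have hΦL : Φ.comp L = CoxeterTypeA.toPerm (m + 2) := (CoxeterTypeA.sys (m + 2)).ext_simple fun i => by
    rw [MonoidHom.comp_apply, hL, CoxeterTypeA.toPerm_simple]
    refine Fin.cases ?_ (fun k => ?_) i
    · exact SemidirectProduct.lift_inr _ _ _ _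
    · show Φ (e * SemidirectProduct.inl (x k)) = s k.succ
      rw [map_mul, SemidirectProduct.lift_inl, hψx, show Φ e = s 0 from SemidirectProduct.lift_inr _ _ _ _,
        ← mul_assoc, hss, one_mul]
  have hbij := CoxeterTypeA.toPerm_bijective (m + 2)
  have hΦ : Function.Bijective Φ := by
    have hb : Function.Bijective (Φ ∘ L) := by
      rw [← MonoidHom.coe_comp, hΦL]; exact hbij
    refine ⟨fun a b hab => ?_, hb.2.of_comp⟩
    obtain ⟨a', rfl⟩ := hLsurj a
    obtain ⟨b', rfl⟩ := hLsurj b
    exact congrArg L (hb.1 hab)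
  have hψinj : Function.Injective ψ := fun a b hab => by
    have : Φ (SemidirectProduct.inl a) = Φ (SemidirectProduct.inl b) := by
      rw [SemidirectProduct.lift_inl, SemidirectProduct.lift_inl, hab]
    exact SemidirectProduct.inl_injective (hΦ.1 this)
  have hmem : ∀ g, ψ g ∈ alternatingGroup (Fin (m + 3)) := by
    intro g
    have : (⊤ : Subgroup G) ≤ (alternatingGroup (Fin (m + 3))).comap ψ := by
      rw [← PresentedGroup.closure_range_of (rels (m + 1)), Subgroup.closure_le]
      rintro _ ⟨i, rfl⟩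
      show ψ (x i) ∈ alternatingGroup (Fin (m + 3))
      have hs : ∀ i, Equiv.Perm.sign (s i) = -1 := fun i => Equiv.Perm.sign_swap (by
        intro e; have := congrArg Fin.val e; simp at this)
      rw [hψx, Equiv.Perm.mem_alternatingGroup, map_mul, hs, hs]
      decide
    exact this (Subgroup.mem_top g)
  let ψ' : G →* alternatingGroup (Fin (m + 3)) := ψ.codRestrict _ hmem
  haveI : Finite G := Finite.of_injective ψ' (fun a b h => hψinj (congrArg Subtype.val h))
  have hcard : Nat.card G * 2 = Nat.card (alternatingGroup (Fin (m + 3))) * 2 := by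
    have h1 : Nat.card H = Nat.card G * 2 := by
      rw [SemidirectProduct.card]
      simp
    rw [← h1, Nat.card_eq_of_bijective Φ hΦ, Nat.card_eq_fintype_card, Nat.card_eq_fintype_card,
      mul_comm, ← two_mul_card_alternatingGroup]
  exact ⟨MulEquiv.ofBijective ψ' ((Nat.bijective_iff_injective_and_card ψ').2
    ⟨fun a b h => hψinj (congrArg Subtype.val h), by omega⟩)⟩

/-- A presentation of the alternating group of degree n ≥ 3 on generators x_1, …, x_{n−2} (indexed here by 0, …, n−3): the first generator cubes to 1, every other generator squares to 1, the product of two consecutive generators has order dividing 3, and the product of two generators at distance at least 2 has order dividing 2. The group so presented is isomorphic to the alternating group of degree n. -/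
theorem result (n : ℕ) (hn : 3 ≤ n) :
    Nonempty (PresentedGroup
      ({g : FreeGroup (Fin (n - 2)) | ∃ i : Fin (n - 2), i.val = 0 ∧ g = FreeGroup.of i ^ 3} ∪
       {g | ∃ i : Fin (n - 2), 1 ≤ i.val ∧ g = FreeGroup.of i ^ 2} ∪
       {g | ∃ i j : Fin (n - 2), j.val = i.val + 1 ∧ g = (FreeGroup.of i * FreeGroup.of j) ^ 3} ∪
       {g | ∃ i j : Fin (n - 2), i.val + 1 < j.val ∧ g = (FreeGroup.of i * FreeGroup.of j) ^ 2})
      ≃* alternatingGroup (Fin n)) := by
  obtain ⟨m, rfl⟩ : ∃ m, n = m + 3 := ⟨n - 3, by omega⟩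
  exact main m

end Cfsg.Agent.S3335
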