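import Cfsg.Statements.S3347
import Cfsg.Agent.Lib.InertiaTwo65Main
import Cfsg.Agent.Lib.TransferPResidual
import Cfsg.Agent.Lib.FocalControl
import Cfsg.Agent.Lib.PLengthOne
-- import your own Cfsg.Agent.* helpers here

set_option autoImplicit false
open Cfsg

namespace Cfsg.Agent.S3347

set_option linter.style.haveILetI false
open scoped IsMulCommutative commutatorElement
open Cfsg.Agent.InertiaTwo65 Cfsg.Agent.CharBasic

variable {G : Type*} [Group G] [Fintype G] {p : ℕ} [hp : Fact p.Prime] {P : Sylow p G}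

theorem exists_involution (S : Setup p P) : ∃ u : G, u * u = 1 ∧ u ≠ 1 := by
  obtain ⟨τ, hτ, hinv⟩ := S.exists_inverting
  obtain ⟨x, hx, hx1⟩ := S.exists_ne_one
  have h2 : 2 ∣ orderOf τ := by
    by_contra h
    obtain ⟨j, hj⟩ := Nat.odd_iff.2 (Nat.two_dvd_ne_zero.1 h)
    refine hx1 (S.eq_one_of_inv hx ?_)
    have hfix : ∀ k : ℕ, τ ^ (2 * k) * x * (τ ^ (2 * k))⁻¹ = x := by
      intro k
      induction k with
      | zero => simp
      | succ k ih =>
        rw [show τ ^ (2 * (k + 1)) * x * (τ ^ (2 * (k + 1)))⁻¹ =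
          τ * (τ * (τ ^ (2 * k) * x * (τ ^ (2 * k))⁻¹) * τ⁻¹) * τ⁻¹ by
            rw [show 2 * (k + 1) = 1 + (1 + 2 * k) by ring, pow_add, pow_add, pow_one]; group,
          ih, hinv x hx, hinv _ (inv_mem hx), inv_inv]
    have e : τ ^ (2 * (j + 1)) = τ := by
      rw [show 2 * (j + 1) = orderOf τ + 1 by omega, pow_succ, pow_orderOf_eq_one, one_mul]
    have := hfix (j + 1)
    rw [e, hinv x hx] at this
    exact this
  haveI : Fact (Nat.Prime 2) := ⟨Nat.prime_two⟩
  obtain ⟨u, hu⟩ := exists_prime_orderOf_dvd_card' 2 (h2.trans (orderOf_dvd_natCard τ))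
  exact ⟨u, by rw [← sq, ← hu, pow_orderOf_eq_one], fun h => by rw [h, orderOf_one] at hu; omega⟩

theorem normal_of_setup (S : Setup p P) (hcore : Cfsg.pPrimeCore p G = ⊥) :
    (P : Subgroup G).Normal := by
  classical
  haveI := S.hab
  obtain ⟨D⟩ := S.exists_data
  have hχ : IsCharacter G (D.χ₀ : G → ℂ) := isCharacter_of_isIrrCharacter D.χ₀.2
  set K : Subgroup G := CharBasicLinear.charKer (D.χ₀ : G → ℂ) hχ with hK
  haveI hKn : K.Normal := CharBasicLinear.charKer_normal _ hχ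
  have hmemK : ∀ g, g ∈ K ↔ (D.χ₀ : G → ℂ) g = (D.χ₀ : G → ℂ) 1 := fun g => Iff.rfl
  have hval : ∀ y ∈ (P : Subgroup G), y ≠ 1 → (D.χ₀ : G → ℂ) y = (D.a : ℂ) := fun y hy hy1 =>
    D.sect y y 1 (mul_one y).symm hy hy1 (Commute.one_right y) (by rw [orderOf_one]; exact hp.out.not_dvd_one)
  obtain ⟨d, -, hd⟩ := isIrrCharacter_apply_one D.χ₀.2
  by_cases hdeg : d = 1
  swap
  · exfalso
    have hKp : ¬ p ∣ Nat.card K := by
      intro h
      obtain ⟨x, hx⟩ := exists_prime_orderOf_dvd_card' p h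
      obtain ⟨E⟩ := exists_exps (p := p) (Nat.card_pos (α := G)).ne'
      obtain ⟨b, hb⟩ := exists_conj_mem (P := P) E dvd_rfl (x : G)
      have hxo : orderOf (x : G) = p ^ 1 := by rw [Subgroup.orderOf_coe, hx, pow_one]
      rw [E.pow_of_pElem dvd_rfl hxo] at hb
      have hne : b * (x : G) * b⁻¹ ≠ 1 := fun h1 => by
        rw [conj_eq_one_iff] at h1
        rw [h1, orderOf_one, pow_one] at hxo
        exact hp.out.ne_one hxo.symm
      have h1 := (hmemK _).1 (hKn.conj_mem _ x.2 b)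
      rw [hval _ hb hne, hd] at h1
      rcases D.unit with h | h <;> rw [h] at h1
      · exact hdeg (Nat.cast_injective (R := ℂ) (by rw [Nat.cast_one, ← h1]; norm_num))
      · have : ((-1 : ℤ) : ℂ) = ((d : ℤ) : ℂ) := by exact_mod_cast h1
        have := Int.cast_injective this
        omega
    have hKbot : K = ⊥ := le_bot_iff.1 (hcore ▸ HallCore.le_pPrimeCore
      ((hp.out.coprime_iff_not_dvd.2 hKp).symm))
    obtain ⟨u, hu, hu1⟩ := exists_involution S
    rcases involution_value S D u hu with h | h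
    · rw [hd] at h
      rcases D.unit with h' | h' <;> rw [h'] at h
      · exact hdeg (Nat.cast_injective (R := ℂ) (by rw [Nat.cast_one, ← h]; norm_num))
      · have : ((-(d : ℤ) : ℤ) : ℂ) = ((1 : ℤ) : ℂ) := by push_cast at h ⊢; linear_combination h
        have := Int.cast_injective this
        omega
    · exact hu1 (by simpa [hKbot] using (hmemK u).2 h)
  subst hdeg
  have h1 : (D.χ₀ : G → ℂ) 1 = 1 := by rw [hd, Nat.cast_one]
  obtain ⟨φ, hφ⟩ := CharBasicLinear.exists_hom_of_apply_one_eq_one hχ h1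
  have hmul : ∀ a b, (D.χ₀ : G → ℂ) (a * b) = (D.χ₀ : G → ℂ) a * (D.χ₀ : G → ℂ) b := fun a b => by
    simp [hφ]
  obtain ⟨y, hy, hy1⟩ := S.exists_ne_one
  have hyy : y * y ≠ 1 := fun h => hy1 (S.eq_one_of_inv hy (inv_eq_of_mul_eq_one_right h))
  have ha : (D.a : ℂ) = 1 := by
    have h := hmul y y
    rw [hval _ (mul_mem hy hy) hyy, hval y hy hy1] at h
    rcases D.unit with h' | h'
    · rw [h']; norm_num
    · rw [h'] at h; norm_num at h
  have hPK : (P : Subgroup G) ≤ K := fun x hx => by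
    rw [hmemK, h1]
    rcases eq_or_ne x 1 with rfl | hx1
    · exact h1
    · rw [hval x hx hx1, ha]
  have hCK : Subgroup.centralizer ((P : Subgroup G) : Set G) ≤ K := by
    intro c hc
    rw [hmemK, h1]
    obtain ⟨E⟩ := exists_exps (p := p) (Nat.card_pos (α := G)).ne'
    obtain ⟨z, hz, hzc⟩ : ∃ z ∈ (P : Subgroup G), (z * c) ^ E.m ≠ 1 := by
      by_contra h
      push Not at h
      obtain ⟨k, hk⟩ := BlockAbelianSylow86.pElem hy
      have h0 := h 1 (one_mem _)
      rw [one_mul] at h0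
      have h2 := h y hy
      rw [(show Commute y c from Subgroup.mem_centralizer_iff.1 hc y hy).mul_pow, h0, mul_one,
        E.pow_of_pElem dvd_rfl hk] at h2
      exact hy1 h2
    have h2 : (D.χ₀ : G → ℂ) (z * c) = 1 := by
      have := D.psi_eq_zero E dvd_rfl hzc
      rw [Data.psi, ha, one_mul, sub_eq_zero] at this
      exact this
    rwa [hmul, (hmemK z).1 (hPK hz), h1, one_mul] at h2
  obtain ⟨τ, hτ, hinv, hN⟩ := S.hinv
  have hNK : K ⊓ Subgroup.normalizer ((P : Subgroup G) : Set G) ≤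
      Subgroup.centralizer ((P : Subgroup G) : Set G) := by
    rintro n ⟨hnK, hnN⟩
    refine (hN n hnN).resolve_right fun h => ?_
    have hτK : τ ∈ K := by simpa using mul_mem (inv_mem (show n ∈ K from hnK)) (hCK h)
    have hle : Subgroup.normalizer ((P : Subgroup G) : Set G) ≤ K := fun m hm =>
      (hN m hm).elim (fun h' => hCK h') fun h' => by
        simpa using mul_mem (hCK h') (inv_mem hτK)
    have htop := Sylow.normalizer_sup_eq_top (P.subtype hPK)
    rw [Sylow.coe_subtype, Subgroup.map_subgroupOf_eq_of_le hPK, sup_eq_right.2 hle] at htop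
    refine D.ne_one (Subtype.ext (funext fun g => ?_))
    have hg : g ∈ K := by rw [htop]; exact Subgroup.mem_top g
    rw [(hmemK g).1 hg, h1]
    simp [BlockPrincipal81.oneChar]
  set P' := P.subtype hPK with hP'
  have hcomm : Subgroup.normalizer ((P' : Subgroup K) : Set K) ≤
      Subgroup.centralizer ((P' : Subgroup K) : Set K) := by
    intro n hn
    have hmem : ∀ x : K, x ∈ (P' : Subgroup K) ↔ (x : G) ∈ (P : Subgroup G) := fun x => by
      rw [hP', Sylow.coe_subtype, Subgroup.mem_subgroupOf]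
    have hnN : (n : G) ∈ Subgroup.normalizer ((P : Subgroup G) : Set G) := by
      refine Subgroup.mem_normalizer_iff.2 fun z => ⟨fun hz => ?_, fun hz => ?_⟩
      · exact (hmem _).1 ((Subgroup.mem_normalizer_iff.1 hn ⟨z, hPK hz⟩).1 ((hmem _).2 hz))
      · have hzK : z ∈ K := by
          have := mul_mem (mul_mem (inv_mem n.2) (hPK hz)) n.2
          simpa [mul_assoc] using this
        exact (hmem ⟨z, hzK⟩).1 ((Subgroup.mem_normalizer_iff.1 hn ⟨z, hzK⟩).2 ((hmem _).2 hz))
    refine Subgroup.mem_centralizer_iff.2 fun z hz => Subtype.ext ?_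
    exact Subgroup.mem_centralizer_iff.1 (hNK ⟨n.2, hnN⟩) z ((hmem z).1 hz)
  have hcompl := MonoidHom.ker_transferSylow_isComplement' P' hcomm
  set M := (MonoidHom.transferSylow P' hcomm).ker
  have hMc : (Nat.card M).Coprime p :=
    (hp.out.coprime_iff_not_dvd.2 (hcompl.index_eq_card ▸ P'.not_dvd_index)).symm
  have hM : M = ⊥ := by
    have h := Subgroup.map_mono (f := K.subtype) (HallCore.le_pPrimeCore (N := M) hMc)
    rw [HallCore.map_subtype_pPrimeCore K, hcore, bot_inf_eq, le_bot_iff] at h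
    exact (Subgroup.map_eq_bot_iff_of_injective M (Subgroup.subtype_injective K)).1 h
  have hPtop : (P' : Subgroup K) = ⊤ := by
    have := hcompl.sup_eq_top
    rwa [hM, bot_sup_eq] at this
  rw [show (P : Subgroup G) = K from le_antisymm hPK fun g hg =>
    Subgroup.mem_subgroupOf.1 (show (⟨g, hg⟩ : K) ∈ (P : Subgroup G).subgroupOf K by
      rw [← Sylow.coe_subtype P hPK, ← hP', hPtop]; exact Subgroup.mem_top _)]
  exact hKn

theorem setup_of (P : Sylow p G) (hp2 : p ≠ 2) (hab : IsMulCommutative (P : Subgroup G))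
    (hnc : ¬ IsCyclic (P : Subgroup G))
    (hidx : ((Subgroup.centralizer ((P : Subgroup G) : Set G)).subgroupOf
      (Subgroup.normalizer ((P : Subgroup G) : Set G))).index = 2)
    (hres : Cfsg.pResidual p G = ⊤) : Setup p P := by
  haveI := hab
  set N := Subgroup.normalizer ((P : Subgroup G) : Set G) with hN
  set C := Subgroup.centralizer ((P : Subgroup G) : Set G) with hC
  obtain ⟨τ, hτ⟩ := Subgroup.index_eq_two_iff.1 hidx
  have hcase : ∀ n ∈ N, n ∈ C ∨ n * τ ∈ C := fun n hn => by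
    rcases hτ ⟨n, hn⟩ with ⟨h, -⟩ | ⟨h, -⟩
    · exact Or.inr (by simpa [Subgroup.mem_subgroupOf] using h)
    · exact Or.inl (by simpa [Subgroup.mem_subgroupOf] using h)
  have hτP : ∀ {x : G}, x ∈ (P : Subgroup G) → (τ : G) * x * (τ : G)⁻¹ ∈ (P : Subgroup G) :=
    fun hx => (Subgroup.mem_normalizer_iff.1 τ.2 _).1 hx
  have hττ : (τ : G) * τ ∈ C := (hcase τ τ.2).elim (fun h => mul_mem h h) id
  let ν : ↥(P : Subgroup G) →* ↥(P : Subgroup G) :=
    MonoidHom.mk' (fun x => x * ⟨(τ : G) * x * (τ : G)⁻¹, hτP x.2⟩) fun x y => by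
      rw [mul_mul_mul_comm]
      refine congrArg (x * y * ·) (Subtype.ext ?_)
      simp only [Subgroup.coe_mul]
      group
  have hττx : ∀ x ∈ (P : Subgroup G), (τ : G) * ((τ : G) * x * (τ : G)⁻¹) * (τ : G)⁻¹ = x := fun x hx => by
    rw [show (τ : G) * ((τ : G) * x * (τ : G)⁻¹) * (τ : G)⁻¹ = ((τ : G) * τ) * x * ((τ : G) * τ)⁻¹ by group]
    exact cent_conj hττ hx
  have hker : ⁅(P : Subgroup G), N⁆ ≤ ν.ker.map (P : Subgroup G).subtype := by
    rw [Subgroup.commutator_le]
    intro x hx n hn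
    have hcm : ⁅x, n⁆ ∈ (P : Subgroup G) := by
      rw [commutatorElement_def, show x * n * x⁻¹ * n⁻¹ = x * (n * x⁻¹ * n⁻¹) by group]
      exact mul_mem hx ((Subgroup.mem_normalizer_iff.1 hn _).1 (inv_mem hx))
    refine ⟨⟨_, hcm⟩, MonoidHom.mem_ker.2 ?_, rfl⟩
    have hnx : n * x⁻¹ * n⁻¹ ∈ (P : Subgroup G) := (Subgroup.mem_normalizer_iff.1 hn _).1 (inv_mem hx)
    rw [show (⟨⁅x, n⁆, hcm⟩ : ↥(P : Subgroup G)) = ⟨x, hx⟩ * ⟨_, hnx⟩ from
      Subtype.ext (by show ⁅x, n⁆ = _; rw [commutatorElement_def, Subgroup.coe_mul]; group), map_mul]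
    have hkey : ν ⟨_, hnx⟩ = ν ⟨x, hx⟩⁻¹ := by
      rcases hcase n hn with h | h
      · exact congrArg ν (Subtype.ext (cent_conj h (inv_mem hx)))
      · have e : n * x⁻¹ * n⁻¹ = (τ : G) * x⁻¹ * (τ : G)⁻¹ := by
          conv_rhs => rw [← cent_conj h (hτP (inv_mem hx))]
          rw [show n * (τ : G) * ((τ : G) * x⁻¹ * (τ : G)⁻¹) * (n * (τ : G))⁻¹ =
            n * ((τ : G) * ((τ : G) * x⁻¹ * (τ : G)⁻¹) * (τ : G)⁻¹) * n⁻¹ by group, hττx _ (inv_mem hx)]
        refine Subtype.ext ?_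
        show n * x⁻¹ * n⁻¹ * ((τ : G) * (n * x⁻¹ * n⁻¹) * (τ : G)⁻¹) = x⁻¹ * ((τ : G) * x⁻¹ * (τ : G)⁻¹)
        rw [e, hττx _ (inv_mem hx)]
        exact congrArg Subtype.val (mul_comm' (⟨_, hτP (inv_mem hx)⟩ : ↥(P : Subgroup G)) ⟨_, inv_mem hx⟩)
    rw [hkey, ← map_mul, mul_inv_cancel, map_one]
  have hν : ∀ x ∈ (P : Subgroup G), (τ : G) * x * (τ : G)⁻¹ = x⁻¹ := by
    intro x hx
    have hxr : x ∈ (P : Subgroup G) ⊓ Cfsg.pResidual p G := ⟨hx, by rw [hres]; exact Subgroup.mem_top x⟩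
    have hxf := TransferPResidual.inf_pResidual_le_focal P hxr
    have hxc := FocalControl.focalSubgroup_le_commutator_of_control (P : Subgroup G) N (fun z hz u hu =>
      BlockAbelianSylow86.exists_normalizer_conj hab hz hu (isConj_iff.2 ⟨u, rfl⟩)) hxf
    obtain ⟨w, hw, hwx⟩ := hker hxc
    have e : w = ⟨x, hx⟩ := Subtype.ext hwx
    subst e
    exact (inv_eq_of_mul_eq_one_right (congrArg Subtype.val (MonoidHom.mem_ker.1 hw))).symm
  exact ⟨hp2, hab, hnc, τ, τ.2, hν, hcase⟩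

theorem setup_quotient (S : Setup p P) (K : Subgroup G) [K.Normal] (hK : ¬ p ∣ Nat.card K)
    [Fintype (G ⧸ K)] : Setup p (P.mapSurjective (QuotientGroup.mk'_surjective K)) := by
  haveI := S.hab
  set f := QuotientGroup.mk' K with hf
  set Q := P.mapSurjective (QuotientGroup.mk'_surjective K) with hQ
  have hQc : (Q : Subgroup (G ⧸ K)) = (P : Subgroup G).map f := Sylow.coe_mapSurjective _ _
  have hinj : ∀ x ∈ (P : Subgroup G), f x = 1 → x = 1 := by
    intro x hx h
    have hxK : x ∈ K := (QuotientGroup.eq_one_iff x).1 h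
    by_contra h1
    exact hK ((BlockAbelianSylow86.singular hx h1).trans (by
      have := orderOf_dvd_natCard (⟨x, hxK⟩ : K)
      rwa [Subgroup.orderOf_mk] at this))
  let e : ↥(P : Subgroup G) ≃* ↥(Q : Subgroup (G ⧸ K)) :=
    (MulEquiv.ofBijective (f.subgroupMap (P : Subgroup G)) ⟨(injective_iff_map_eq_one _).2 fun x hx =>
      Subtype.ext (hinj x x.2 (congrArg Subtype.val hx)), f.subgroupMap_surjective _⟩).trans
      (MulEquiv.subgroupCongr hQc.symm)
  obtain ⟨τ, hτ, hinv, hN⟩ := S.hinv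
  have hmemN : ∀ n ∈ Subgroup.normalizer ((P : Subgroup G) : Set G),
      f n ∈ Subgroup.normalizer ((Q : Subgroup (G ⧸ K)) : Set (G ⧸ K)) := by
    intro n hn
    rw [hQc]
    exact Subgroup.le_normalizer_map f ⟨n, hn, rfl⟩
  have hmemC : ∀ c ∈ Subgroup.centralizer ((P : Subgroup G) : Set G),
      f c ∈ Subgroup.centralizer ((Q : Subgroup (G ⧸ K)) : Set (G ⧸ K)) := by
    intro c hc
    refine Subgroup.mem_centralizer_iff.2 fun z hz => ?_
    rw [hQc] at hz
    obtain ⟨x, hx, rfl⟩ := hz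
    rw [← map_mul, ← map_mul, Subgroup.mem_centralizer_iff.1 hc x hx]
  refine ⟨S.odd, ⟨⟨fun x y => e.symm.injective (by rw [map_mul, map_mul]; exact mul_comm' _ _)⟩⟩,
    fun h => S.hnc (e.isCyclic.2 h), f τ, hmemN τ hτ, ?_, ?_⟩
  · intro z hz
    rw [hQc] at hz
    obtain ⟨x, hx, rfl⟩ := hz
    rw [← map_inv, ← map_mul, ← map_mul, hinv x hx, map_inv]
  · intro z hz
    obtain ⟨g, rfl⟩ := QuotientGroup.mk'_surjective K z
    set H := (Q : Subgroup (G ⧸ K)).comap f with hH
    have hPH : (P : Subgroup G) ≤ H := fun x hx => by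
      show f x ∈ (Q : Subgroup (G ⧸ K))
      rw [hQc]; exact ⟨x, hx, rfl⟩
    have hgPH : ((g • P : Sylow p G) : Subgroup G) ≤ H := by
      rw [Sylow.coe_subgroup_smul]
      rintro _ ⟨x, hx, rfl⟩
      show f (g * x * g⁻¹) ∈ (Q : Subgroup (G ⧸ K))
      rw [map_mul, map_mul, map_inv]
      exact (Subgroup.mem_normalizer_iff.1 hz _).1 (hPH hx)
    obtain ⟨h, hh⟩ := MulAction.exists_smul_eq H ((g • P).subtype hgPH) (P.subtype hPH)
    have hhg : (h : G) * g ∈ Subgroup.normalizer ((P : Subgroup G) : Set G) := by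
      have h2 : (((h : G) * g) • P : Sylow p G) = P := by
        have h3 : ((h : G) • (g • P)).subtype (Sylow.smul_le hgPH h) = P.subtype hPH := by
          rw [Sylow.smul_subtype hgPH h] at hh
          exact hh
        rw [mul_smul]
        exact Sylow.subtype_injective h3
      exact Sylow.smul_eq_iff_mem_normalizer.1 h2
    have hfh : f h ∈ Subgroup.centralizer ((Q : Subgroup (G ⧸ K)) : Set (G ⧸ K)) := by
      have h4 : f h ∈ (Q : Subgroup (G ⧸ K)) := h.2
      rw [hQc] at h4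
      obtain ⟨x, hx, hxh⟩ := h4
      rw [← hxh]
      exact hmemC x (Subgroup.mem_centralizer_iff.2 fun y hy =>
        congrArg Subtype.val (mul_comm' (⟨y, hy⟩ : ↥(P : Subgroup G)) ⟨x, hx⟩))
    rcases hN _ hhg with h5 | h5
    · left
      have := mul_mem (inv_mem hfh) (hmemC _ h5)
      rwa [map_mul, inv_mul_cancel_left] at this
    · right
      have := mul_mem (inv_mem hfh) (hmemC _ h5)
      rwa [map_mul, map_mul, mul_assoc, inv_mul_cancel_left] at this



/-- Let G be a finite group, p an odd prime, and P an abelian, non-cyclic Sylow p-subgroup of G with [N_G(P) : C_G(P)] = 2. Then either O^p(G) is a proper subgroup of G, or G has p-length 1 (G = O_{p',p,p'}(G)). -/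
theorem result {G : Type*} [Group G] [Finite G]
    (p : ℕ) [Fact p.Prime] (hp : p ≠ 2) (P : Sylow p G) (hab : IsMulCommutative (P : Subgroup G)) (hnc : ¬ IsCyclic (P : Subgroup G))
    (hidx : ((Subgroup.centralizer ((P : Subgroup G) : Set G)).subgroupOf (Subgroup.normalizer ((P : Subgroup G) : Set G))).index = 2) :
    Cfsg.pResidual p G ≠ ⊤ ∨ Cfsg.PLengthLE p 1 G := by
  classical
  haveI : Fintype G := Fintype.ofFinite G
  refine or_iff_not_imp_left.2 fun hres => ?_
  have S := setup_of P hp hab hnc hidx (not_not.1 hres)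
  haveI := HallCore.pPrimeCore_normal p G
  haveI : Fintype (G ⧸ Cfsg.pPrimeCore p G) := Fintype.ofFinite _
  set Q := P.mapSurjective (QuotientGroup.mk'_surjective (Cfsg.pPrimeCore p G)) with hQ
  haveI hQn : (Q : Subgroup (G ⧸ Cfsg.pPrimeCore p G)).Normal :=
    normal_of_setup (setup_quotient S _ (HallCore.not_dvd_card_pPrimeCore p G))
      (HallCore.pPrimeCore_quotient_self p G)
  have hle : (Q : Subgroup (G ⧸ Cfsg.pPrimeCore p G)).comap (QuotientGroup.mk' _) ≤ Cfsg.pPrimePCore p G :=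
    Subgroup.comap_mono (HallCore.le_pCore (hN := hQn) Q.isPGroup')
  have hidx' : ¬ p ∣ (Cfsg.pPrimePCore p G).index := fun h => Q.not_dvd_index <| by
    rw [← Subgroup.index_comap_of_surjective _ (QuotientGroup.mk'_surjective (Cfsg.pPrimeCore p G))]
    exact h.trans (Subgroup.index_dvd_of_le hle)
  have h3 := HallConstrained.upperPSeries_odd (p := p) (G := G) 1
  show (Cfsg.upperPSeries p G (2 * 1 + 1)).1 = ⊤
  rw [h3]
  have htop : Cfsg.pPrimeCore p (G ⧸ (Cfsg.upperPSeries p G (2 * 1)).1) = ⊤ := by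
    refine HallCore.pPrimeCore_eq_top_iff.2 ?_
    show (Cfsg.upperPSeries p G 2).1.index.Coprime p
    rw [PLengthOne.upperPSeries_two]
    exact ((Fact.out : p.Prime).coprime_iff_not_dvd.2 hidx').symm
  rw [htop, Subgroup.comap_top]

end Cfsg.Agent.S3347
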