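import Cfsg.Statements.S1280
import Cfsg.Agent.Lib.SignalizerBasic
import Cfsg.Agent.Lib.SignalizerComplete

set_option autoImplicit false
open Cfsg
open Cfsg.Agent.SignalizerCoprime Cfsg.Agent.SignalizerBasic

namespace Cfsg.Agent.S1280

/-- Let θ be a solvable A-signalizer functor (A a noncyclic elementary abelian p-subgroup of the finite group G), and X, Y members of its family with Y ≤ N_G(X). Then X ⊔ Y (= XY) is again in the family. -/
theorem result {G : Type*} [Group G] [Finite G] (p : ℕ) [Fact p.Prime] (A : Subgroup G) (hA : Cfsg.IsElementaryAbelian p A) (hA2 : p ^ 2 ≤ Nat.card ↥A) (θ : G → Subgroup G) (hθ : Cfsg.IsSolvableSignalizerFunctor p A θ) (X Y : Subgroup G) (hX : X ∈ Cfsg.signalizerFamily p A θ) (hY : Y ∈ Cfsg.signalizerFamily p A θ) (hn : Y ≤ Subgroup.normalizer (X : Set G)) : X ⊔ Y ∈ Cfsg.signalizerFamily p A θ := by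
  obtain ⟨hXs, hXp, hXA, hXθ⟩ := hX
  obtain ⟨hYs, hYp, hYA, hYθ⟩ := hY
  have hXn := le_normalizer_of_forall hXA
  have hYn := le_normalizer_of_forall hYA
  refine ⟨isSolvable_sup hXs hYs hn, fun h => ?_,
    forall_conj_mem (le_normalizer_sup hXn hYn), ?_⟩
  · rcases (Nat.Prime.dvd_mul (Fact.out : p.Prime)).1 (h.trans (card_sup_dvd_mul hn)) with h | h
    · exact hXp h
    · exact hYp h
  intro a ha ha1 z hz
  have hz' : z ∈ (↑(X ⊔ Y) : Set G) := hz.1
  rw [Subgroup.coe_mul_of_right_le_normalizer_left X Y hn] at hz'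
  obtain ⟨x, hx, y, hy, rfl⟩ := Set.mem_mul.1 hz'
  have hfix : ∀ g ∈ Subgroup.zpowers a, g * y * g⁻¹ * y⁻¹ ∈ X ⊓ Y := by
    intro g hg
    have hga : g ∈ A := (Subgroup.zpowers_le.2 ha) hg
    have hc : g * (x * y) * g⁻¹ = x * y := by
      have : g ∈ Subgroup.centralizer {x * y} := (Subgroup.zpowers_le.2
        (Subgroup.mem_centralizer_singleton_iff.2
          (Subgroup.mem_centralizer_singleton_iff.1 hz.2).symm)) hg
      rw [Subgroup.mem_centralizer_singleton_iff.1 this, mul_inv_cancel_right]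
    refine Subgroup.mem_inf.2 ⟨?_, mul_mem (hYA g hga y hy) (inv_mem hy)⟩
    have h1 : (g * x * g⁻¹)⁻¹ * x ∈ X := mul_mem (inv_mem (hXA g hga x hx)) hx
    have h2 : g * y * g⁻¹ * y⁻¹ = (g * x * g⁻¹)⁻¹ * x := by
      calc g * y * g⁻¹ * y⁻¹ = (g * x * g⁻¹)⁻¹ * (g * (x * y) * g⁻¹) * y⁻¹ := by group
        _ = (g * x * g⁻¹)⁻¹ * (x * y) * y⁻¹ := by rw [hc]
        _ = (g * x * g⁻¹)⁻¹ * x := by group
    rw [h2]
    exact h1
  obtain ⟨d, hd, hdc⟩ := exists_fixed_in_coset (isPGroup_zpowers (hA.2 a ha))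
    (fun h => hXp (h.trans (Subgroup.card_dvd_of_le (inf_le_left : X ⊓ Y ≤ X))))
    ((Subgroup.zpowers_le.2 ha).trans (le_normalizer_inf hXn hYn)) hfix
  have hyc : d * y ∈ Subgroup.centralizer ({a} : Set G) :=
    Subgroup.mem_centralizer_singleton_iff.2 (hdc a (Subgroup.mem_zpowers a)).symm
  have hxd : x * d⁻¹ ∈ Subgroup.centralizer ({a} : Set G) := by
    have h : x * d⁻¹ = x * y * (d * y)⁻¹ := by group
    rw [h]
    exact mul_mem hz.2 (inv_mem hyc)
  have h : x * y = (x * d⁻¹) * (d * y) := by group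
  rw [h]
  exact mul_mem (hXθ a ha ha1 (Subgroup.mem_inf.2 ⟨mul_mem hx (inv_mem hd.1), hxd⟩))
    (hYθ a ha ha1 ⟨mul_mem hd.2 hy, hyc⟩)

end Cfsg.Agent.S1280
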