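import Cfsg.Statements.S1324
import Cfsg.Agent.Lib.CoprimeTools
-- import your own Cfsg.Agent.* helpers here

set_option autoImplicit false
open Cfsg

namespace Cfsg.Agent.S1324

open scoped Pointwise commutatorElement
open Cfsg.Agent.CoprimeSZ Cfsg.Agent.CoprimeAction Cfsg.Agent.CoprimeGen Cfsg.Agent.CoprimeExtra Cfsg.Agent.CoprimeTools


/-- Let A be a noncyclic elementary abelian p-subgroup of a finite group H normalizing a subgroup X of order prime to p. Then X is generated by the subgroups X ∩ C_H(B), B ranging over the subgroups of A of index at most p. -/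
theorem result {H : Type*} [Group H] [Finite H] (p : ℕ) [Fact p.Prime] (A X : Subgroup H) (hA : Cfsg.IsElementaryAbelian p A) (hA2 : p ^ 2 ≤ Nat.card ↥A) (hX : ¬ p ∣ Nat.card ↥X) (hAX : A ≤ Subgroup.normalizer (X : Set H)) : X = ⨆ B : {B : Subgroup H // B ≤ A ∧ B.relIndex A ≤ p}, X ⊓ Subgroup.centralizer ((B : Subgroup H) : Set H) := by
  obtain ⟨hcomm, hexp⟩ := hA
  have hp : p.Prime := Fact.out
  have hcop : (Nat.card A).Coprime (Nat.card X) := by
    have hAp : IsPGroup p A := fun a => ⟨1, Subtype.ext (by simpa using hexp a a.2)⟩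
    obtain ⟨m, hm⟩ := IsPGroup.iff_card.1 hAp
    rw [hm]
    exact Nat.Coprime.pow_left _ ((Nat.Prime.coprime_iff_not_dvd hp).2 hX)
  refine le_antisymm (le_of_cyclic_quotient_centralizers hAX hcop fun B hB hcyc => ?_)
    (iSup_le fun B => inf_le_left)
  refine le_iSup_of_le ⟨B, hB, ?_⟩ le_rfl
  obtain ⟨g, hg⟩ := hcyc.exists_generator
  have h1 : orderOf g = B.relIndex A := orderOf_eq_card_of_forall_mem_zpowers hg
  rw [← h1]
  refine orderOf_le_of_pow_eq_one hp.pos ?_
  induction g using QuotientGroup.induction_on with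
  | H z =>
    rw [← QuotientGroup.mk_pow, show z ^ p = 1 from Subtype.ext (by simpa using hexp z z.2)]
    rfl

end Cfsg.Agent.S1324
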