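import Mathlib
import Cfsg.Statements.S1282
import Cfsg.Agent.S1324

set_option autoImplicit false
open Cfsg
open scoped Pointwise commutatorElement

namespace Cfsg.Agent.S1282

open Subgroup

/-- Let A be an elementary abelian p-subgroup of rank at least 3 of the finite group G, q ≠ p a prime, and Q₁, Q₂ q-subgroups normalized by A with D = Q₁ ∩ Q₂ different from both. Then there is a non-identity a ∈ A such that, for i = 1 and i = 2, N_{Q_i}(D) ∩ C_G(a) is not contained in D. -/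
theorem result {G : Type*} [Group G] [Finite G] (p : ℕ) [Fact p.Prime] (A : Subgroup G) (hA : Cfsg.IsElementaryAbelian p A) (hA3 : p ^ 3 ≤ Nat.card ↥A) (q : ℕ) [Fact q.Prime] (hqp : q ≠ p) (Q₁ Q₂ : Subgroup G) (h₁ : IsPGroup q ↥Q₁) (h₂ : IsPGroup q ↥Q₂) (hA₁ : A ≤ Subgroup.normalizer (Q₁ : Set G)) (hA₂ : A ≤ Subgroup.normalizer (Q₂ : Set G)) (hD₁ : Q₁ ⊓ Q₂ ≠ Q₁) (hD₂ : Q₁ ⊓ Q₂ ≠ Q₂) : ∃ a ∈ A, a ≠ 1 ∧ ¬ (Subgroup.normalizer ((Q₁ ⊓ Q₂ : Subgroup G) : Set G) ⊓ Q₁ ⊓ Subgroup.centralizer {a} ≤ Q₁ ⊓ Q₂) ∧ ¬ (Subgroup.normalizer ((Q₁ ⊓ Q₂ : Subgroup G) : Set G) ⊓ Q₂ ⊓ Subgroup.centralizer {a} ≤ Q₁ ⊓ Q₂) := by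
  have hA2 : p ^ 2 ≤ Nat.card ↥A :=
    le_trans (Nat.pow_le_pow_right (Fact.out : p.Prime).pos (by norm_num)) hA3
  set D := Q₁ ⊓ Q₂
  have hND : A ≤ normalizer (D : Set G) := by
    intro a ha
    rw [mem_normalizer_iff]
    intro x
    simp only [SetLike.mem_coe, D, mem_inf]
    exact and_congr (mem_normalizer_iff.mp (hA₁ ha) x) (mem_normalizer_iff.mp (hA₂ ha) x)
  have hNn : A ≤ normalizer ((normalizer (D : Set G) : Subgroup G) : Set G) := hND.trans le_normalizer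
  have key : ∀ Q : Subgroup G, IsPGroup q ↥Q → A ≤ normalizer (Q : Set G) → D ≤ Q → D ≠ Q →
      ∃ B : Subgroup G, B ≤ A ∧ B.relIndex A ≤ p ∧
        ¬ normalizer (D : Set G) ⊓ Q ⊓ centralizer (B : Set G) ≤ D := by
    intro Q hQ hAQ hDQ hne
    set T := normalizer (D : Set G) ⊓ Q
    have hAT : A ≤ normalizer (T : Set G) := by
      intro a ha
      rw [mem_normalizer_iff]
      intro x
      simp only [SetLike.mem_coe, T, mem_inf]
      exact and_congr (mem_normalizer_iff.mp (hNn ha) x) (mem_normalizer_iff.mp (hAQ ha) x)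
    have hTp : ¬ p ∣ Nat.card ↥T := by
      obtain ⟨n, hn⟩ := IsPGroup.iff_card.1 (hQ.to_le (inf_le_right : T ≤ Q))
      rw [hn]
      exact fun h => hqp ((Nat.prime_dvd_prime_iff_eq Fact.out Fact.out).mp
        ((Fact.out : p.Prime).dvd_of_dvd_pow h)).symm
    by_contra hcon
    push Not at hcon
    haveI := hQ.isNilpotent
    have hlt : D.subgroupOf Q < ⊤ :=
      lt_top_iff_ne_top.mpr fun ht => hne (le_antisymm hDQ (subgroupOf_eq_top.mp ht))
    obtain ⟨x, hx, hxn⟩ := SetLike.exists_of_lt (normalizerCondition_of_isNilpotent (D.subgroupOf Q) hlt)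
    refine hxn (mem_subgroupOf.mpr ?_)
    have hTD : T ≤ D := by
      rw [S1324.result p A T hA hA2 hTp hAT]
      exact iSup_le fun B => hcon B B.2.1 B.2.2
    refine hTD ⟨?_, x.2⟩
    refine mem_normalizer_fintype ?_
    intro y hy
    exact mem_subgroupOf.mp ((mem_normalizer_iff.mp hx ⟨y, hDQ hy⟩).mp (mem_subgroupOf.mpr hy))
  obtain ⟨B₁, hB₁, hi₁, hn₁⟩ := key Q₁ h₁ hA₁ inf_le_left hD₁
  obtain ⟨B₂, hB₂, hi₂, hn₂⟩ := key Q₂ h₂ hA₂ inf_le_right hD₂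
  obtain ⟨a, ha, ha1⟩ : ∃ a ∈ B₁ ⊓ B₂, a ≠ 1 := by
    refine (bot_or_exists_ne_one (B₁ ⊓ B₂)).resolve_left fun h => ?_
    have h2 := relIndex_inf_le (H := B₁) (K := B₂) (L := A)
    rw [h, relIndex_bot_left] at h2
    have h3 : p ^ 3 ≤ p * p := hA3.trans (h2.trans (Nat.mul_le_mul hi₁ hi₂))
    have h4 : p * p < p ^ 3 := by
      rw [← pow_two]; exact Nat.pow_lt_pow_right (Fact.out : p.Prime).one_lt (by norm_num)
    omega
  exact ⟨a, hB₁ ha.1, ha1,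
    fun h => hn₁ (le_trans (inf_le_inf_left _ (centralizer_le (Set.singleton_subset_iff.mpr ha.1))) h),
    fun h => hn₂ (le_trans (inf_le_inf_left _ (centralizer_le (Set.singleton_subset_iff.mpr ha.2))) h)⟩

end Cfsg.Agent.S1282
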