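import Cfsg.Statements.S1458
import Cfsg.Agent.Lib.GlaubermanQuotient
import Cfsg.Agent.Lib.QuadraticMain
import Cfsg.Agent.Lib.HallSolvable
-- import your own Cfsg.Agent.* helpers here

set_option autoImplicit false
open Cfsg

namespace Cfsg.Agent.S1458

universe u

theorem stable_of_odd {p : ℕ} [Fact p.Prime] (hp : p ≠ 2) :
    ∀ (Y : Type u) [Group Y] [Finite Y], Odd (Nat.card Y) → ∀ (P : Subgroup Y) [P.Normal],
      IsPGroup p P → Cfsg.IsPStableOn p P := by
  refine GlaubermanStable.isPStableOn_of_elementary (fun Y _ => Odd (Nat.card Y))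
    (fun Y _ _ N _ _ h => Odd.of_dvd_nat h (Subgroup.card_quotient_dvd_card N)) ?_
  intro Y _ _ hY V _ hV
  refine QuadraticMain.isPStableOn_of_abelian hp (fun T => ?_) V hV
  have h1 : Odd (Nat.card T) := Odd.of_dvd_nat hY (Subgroup.card_subgroup_dvd_card _)
  obtain ⟨k, hk⟩ := IsPGroup.iff_card.mp T.isPGroup'
  rcases k with _ | k
  · rw [pow_zero] at hk
    haveI : Subsingleton T := (Nat.card_eq_one_iff_unique.mp hk).1
    exact ⟨⟨fun a b => Subsingleton.elim _ _⟩⟩
  · rw [hk] at h1
    exact absurd h1 (by rw [Nat.not_odd_iff_even]; exact even_two.pow_of_ne_zero (by simp))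

/-- Let G be a solvable group of odd order, p a prime and S a Sylow p-subgroup of G. Then the subgroup generated by the centre of the Thompson subgroup of S and O_{p'}(G) is normal in G. -/
theorem result {G : Type*} [Group G] [Finite G] [Group.IsSolvable G] (hodd : Odd (Nat.card G)) (p : ℕ) [Fact p.Prime] (S : Sylow p G) :
    (Cfsg.centerThompsonOf p (S : Subgroup G) ⊔ Cfsg.pPrimeCore p G).Normal := by
  have hN : (Cfsg.centerThompsonOf p (S : Subgroup G) ⊔ Cfsg.pPrimeCore p G) =
      Cfsg.pPrimeCore p G ⊔ GlaubermanZJ.thomY p (S : Subgroup G) := by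
    rw [sup_comm, GlaubermanZJ.centerThompsonOf_eq]
  rw [hN]
  by_cases hp : p = 2
  · subst hp
    have hS : (S : Subgroup G) = ⊥ := by
      by_contra hne
      obtain ⟨k, hk⟩ := IsPGroup.iff_card.mp S.isPGroup'
      have h1 : Odd (Nat.card S) := Odd.of_dvd_nat hodd (Subgroup.card_subgroup_dvd_card _)
      rcases k with _ | k
      · exact hne (Subgroup.card_eq_one.mp (by rw [hk, pow_zero]))
      · rw [hk] at h1
        exact absurd h1 (by rw [Nat.not_odd_iff_even]; exact even_two.pow_of_ne_zero (by simp))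
    have : GlaubermanZJ.thomY 2 (S : Subgroup G) = ⊥ :=
      le_bot_iff.mp ((GlaubermanZJ.thomY_le _).trans hS.le)
    rw [this, sup_bot_eq]
    infer_instance
  have h := GlaubermanQuotient.sup_normalizer_thomY (n := p) hp (Or.inr rfl)
    (fun B _ hB => stable_of_odd hp _ (Odd.of_dvd_nat hodd (Subgroup.card_quotient_dvd_card _)) B hB)
    (HallSolvable.isPConstrained_of_isPSolvable (HallSolvable.isPSolvable_of_solvable p)) S
    (D := (S : Subgroup G)) ⟨le_rfl, fun _ _ _ h => h⟩
  rw [← Subgroup.normalizer_eq_top_iff, ← top_le_iff, ← h]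
  exact sup_le (le_sup_left.trans Subgroup.le_normalizer)
    (LocalBasics.le_normalizer_sup (LocalBasics.le_normalizer_of_normal _) le_rfl)
end Cfsg.Agent.S1458
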