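import Cfsg.Statements.S0620
import Mathlib
import Cfsg.Agent.Lib.OffendersOperated
-- import your own Cfsg.Agent.* helpers here

set_option autoImplicit false
open Cfsg

namespace Cfsg.Agent.S0620

/-- Under coprime action of an elementary abelian q-group X on a p-separable group K with trivial p'-core, K is generated by the normalizer of J(S), the centralizer of Ω₁(Z(S)) and the fixed points of X. -/
theorem result {G : Type*} [Group G] [Finite G] {p : ℕ} [Fact p.Prime] {q : ℕ} [Fact q.Prime] (K X : Subgroup G) (hXK : X ≤ Subgroup.normalizer (K : Set G)) (hX : Cfsg.IsElementaryAbelian q X) (hq : ¬ q ∣ Nat.card K) (hsep : Cfsg.IsPSolvable p ↥K) (hO : Cfsg.pPrimeCore p ↥K = ⊥) (S : Sylow p ↥K) : (Subgroup.normalizer (Cfsg.thompsonSubgroupOf p (S : Subgroup ↥K) : Set ↥K) ⊔ Subgroup.centralizer (Cfsg.omegaOne p ((S : Subgroup ↥K) ⊓ Subgroup.centralizer ((S : Subgroup ↥K) : Set ↥K)) : Set ↥K) ⊔ (Subgroup.centralizer (X : Set G)).subgroupOf K) = ⊤ := by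
  set L := Subgroup.normalizer (Cfsg.thompsonSubgroupOf p (S : Subgroup ↥K) : Set ↥K) ⊔
    Subgroup.centralizer (Cfsg.omegaOne p ((S : Subgroup ↥K) ⊓
      Subgroup.centralizer ((S : Subgroup ↥K) : Set ↥K)) : Set ↥K) ⊔
    (Subgroup.centralizer (X : Set G)).subgroupOf K with hL
  set f := OffendersOperated.kHom K p with hf
  set J := Cfsg.thompsonSubgroup p K with hJ
  haveI : J.Characteristic := Offenders.thompson_characteristic
  have hker : f.ker ≤ L := by
    rw [hf, OffendersOperated.kHom_ker, hL]
    refine le_sup_of_le_left (le_sup_of_le_right (Subgroup.centralizer_le fun x hx => ?_))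
    exact le_iSup (fun T : Sylow p K => OffendersCore.omegaZ T) S hx
  have hSN : (S : Subgroup K) ≤
      Subgroup.normalizer (Cfsg.thompsonSubgroupOf p (S : Subgroup ↥K) : Set ↥K) := by
    intro s hs
    rw [Subgroup.mem_normalizer_iff_map_conj_eq]
    exact (Offenders.thompsonOf_map_conj s _).trans (congrArg (Cfsg.thompsonSubgroupOf p)
      (Subgroup.mem_normalizer_iff_map_conj_eq.1 (Subgroup.le_normalizer hs)))
  have hJL : J ≤ L := by
    obtain ⟨T, hT⟩ := OffendersOperated.exists_sylow_inf S J
    have key : OffendersOperated.hImg K p ≤ L.map f := by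
      refine OffendersCoprime.le_of_sylow_fixed (OffendersOperated.gen K hsep hO)
        (OffendersOperated.op K X hXK hX hq) (OffendersOperated.hyp K hsep hO)
        (P := ((S : Subgroup K) ⊓ J).map f) ?_ ?_ ?_
      · intro B hB hBp
        let f' : J →* ↥(OffendersOperated.hImg K p) := (f.comp J.subtype).codRestrict _ fun j => by
          rw [OffendersOperated.hImg_eq]; exact ⟨j, j.2, rfl⟩
        have hf' : Function.Surjective f' := by
          rintro ⟨y, hy⟩
          rw [OffendersOperated.hImg_eq] at hy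
          obtain ⟨j, hj, rfl⟩ := hy
          exact ⟨⟨j, hj⟩, rfl⟩
        obtain ⟨R, hR⟩ := (hBp.comap_subtype (K := OffendersOperated.hImg K p)).exists_le_sylow
        obtain ⟨g, hg⟩ := MulAction.exists_smul_eq ↥(OffendersOperated.hImg K p) R (T.mapSurjective hf')
        refine ⟨g, g.2, fun y hy => ?_⟩
        obtain ⟨b, hb, rfl⟩ := OffendersPlane.mem_cj.1 hy
        have h1 : g * ⟨b, hB hb⟩ * g⁻¹ ∈ ((T.mapSurjective hf' : Sylow p _) : Subgroup _) := by
          rw [← hg]
          exact Subgroup.smul_mem_pointwise_smul _ (MulAut.conj g) _ (hR hb)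
        rw [Sylow.coe_mapSurjective] at h1
        obtain ⟨t, ht, e⟩ := h1
        refine ⟨(t : K), hT.le ⟨t, ht, rfl⟩, ?_⟩
        exact congrArg Subtype.val e
      · exact Subgroup.map_mono ((inf_le_left.trans hSN).trans (le_sup_left.trans le_sup_left))
      · intro d hd hdX
        obtain ⟨k, -, hkX, rfl⟩ := OffendersOperated.lift K X hXK hX hq hd hdX
        exact ⟨k, Subgroup.mem_sup_right hkX, rfl⟩
    rw [OffendersOperated.hImg_eq, Subgroup.map_le_iff_le_comap, Subgroup.comap_map_eq,
      sup_eq_left.2 hker] at key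
    exact key
  have h := OffendersCore.sup_normalizer_thompson (C := J) S (Offenders.thompsonOf_sylow_le S)
  rw [eq_top_iff, ← h]
  exact sup_le hJL (le_sup_left.trans le_sup_left)

end Cfsg.Agent.S0620
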