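import Cfsg.Statements.S0111
import Mathlib
-- import your own Cfsg.Agent.* helpers here

set_option autoImplicit false
open Cfsg

namespace Cfsg.Agent.S0111

/-- The Thompson transfer lemma states that an involution of a Sylow 2-subgroup P lying outside a subgroup Q of index 2 in P either lies outside some normal subgroup of index 2 in G or is conjugate to an element of Q. -/
theorem result {G : Type*} [Group G] [Finite G] (P : Sylow 2 G) (Q : Subgroup G) (hQP : Q ≤ (P : Subgroup G)) (hQi : Q.relIndex (P : Subgroup G) = 2) (u : G) (hu : orderOf u = 2) (huP : u ∈ (P : Subgroup G)) (huQ : u ∉ Q) : (∃ M : Subgroup G, M.Normal ∧ M.index = 2 ∧ u ∉ M) ∨ ∃ g : G, g * u * g⁻¹ ∈ Q := by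
  classical
  by_cases hc : ∃ g : G, g * u * g⁻¹ ∈ Q
  · exact Or.inr hc
  left
  push Not at hc
  have : Fintype (G ⧸ Q) := Fintype.ofFinite _
  let f : G →* ℤˣ := Equiv.Perm.sign.comp (MulAction.toPermHom G (G ⧸ Q))
  have hfix : ∀ q : G ⧸ Q, u • q ≠ q := by
    intro q
    obtain ⟨g, rfl⟩ := QuotientGroup.mk_surjective q
    intro h
    have h' : ((u * g : G) : G ⧸ Q) = (g : G ⧸ Q) := h
    rw [QuotientGroup.eq] at h'
    have h'' := Q.inv_mem h'
    refine hc g⁻¹ ?_
    convert h'' using 1
    group
  have hu2 : u ^ 2 = 1 := hu ▸ pow_orderOf_eq_one u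
  have hidx : Q.index = 2 * (P : Subgroup G).index := by
    rw [← Subgroup.relIndex_mul_index hQP, hQi]
  have hodd : Odd (P : Subgroup G).index := by
    rw [Nat.odd_iff, ← Nat.two_dvd_ne_zero]
    exact P.not_dvd_index
  have hfu : f u = -1 := by
    have hsupp : (MulAction.toPermHom G (G ⧸ Q) u).support = Finset.univ := by
      ext q
      simpa using hfix q
    have hcard : (MulAction.toPermHom G (G ⧸ Q) u).support.card = 2 * (P : Subgroup G).index := by
      rw [hsupp, Finset.card_univ, ← Nat.card_eq_fintype_card]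
      exact hidx
    set σ := MulAction.toPermHom G (G ⧸ Q) u with hσ
    have hσ2 : σ ^ 2 = 1 := by rw [hσ, ← map_pow, hu2, map_one]
    show Equiv.Perm.sign σ = -1
    have hmem : ∀ n ∈ σ.cycleType, n = 2 := by
      intro n hn
      have h1 := Equiv.Perm.dvd_of_mem_cycleType hn
      have h2 := Equiv.Perm.two_le_of_mem_cycleType hn
      have h3 : orderOf σ ∣ 2 := orderOf_dvd_of_pow_eq_one hσ2
      have h4 := Nat.le_of_dvd (by norm_num) (h1.trans h3)
      omega
    rw [Equiv.Perm.sign_of_cycleType]
    have hrep : σ.cycleType = Multiset.replicate σ.cycleType.card 2 :=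
      Multiset.eq_replicate_card.mpr hmem
    have hsum : σ.cycleType.sum = σ.support.card := Equiv.Perm.sum_cycleType σ
    rw [hcard, hrep, Multiset.sum_replicate, smul_eq_mul] at hsum
    have hcc : σ.cycleType.card = (P : Subgroup G).index := by
      have := hsum
      omega
    rw [hrep]
    simp only [Multiset.sum_replicate, Multiset.card_replicate, smul_eq_mul]
    rw [hcc]
    apply Odd.neg_one_pow
    obtain ⟨k, hk⟩ := hodd
    exact ⟨3 * k + 1, by omega⟩
  refine ⟨f.ker, inferInstance, ?_, ?_⟩
  · rw [Subgroup.index_ker]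
    have hsurj : Function.Surjective f := by
      intro y
      rcases Int.units_eq_one_or y with rfl | rfl
      · exact ⟨1, map_one f⟩
      · exact ⟨u, hfu⟩
    rw [MonoidHom.range_eq_top.mpr hsurj, Subgroup.card_top, Nat.card_eq_fintype_card]
    rfl
  · rw [MonoidHom.mem_ker, hfu]
    decide
end Cfsg.Agent.S0111
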