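import Cfsg.Statements.S0494
import Cfsg.Agent.Lib.SimpleOrder

set_option autoImplicit false
open Cfsg

namespace Cfsg.Agent.S0494

/-- A simple group of order 60 is isomorphic to the alternating group of degree 5. -/
theorem result {G : Type*} [Group G] [Finite G] [IsSimpleGroup G]
    (h : Nat.card G = 60) : Nonempty (G ≃* alternatingGroup (Fin 5)) := by
  have hG : ¬ IsMulCommutative G := SimpleOrder.not_comm_of_not_prime (by rw [h]; norm_num)
  obtain ⟨H, hH, hi⟩ : ∃ H : Subgroup G, H ≠ ⊤ ∧ H.index = 5 := by
    have : Fact (Nat.Prime 2) := ⟨by norm_num⟩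
    obtain ⟨P⟩ : Nonempty (Sylow 2 G) := inferInstance
    have hn : Nat.card G = 2 ^ (0 + 2) * 15 := by rw [h]; norm_num
    have hN := SimpleOrder.normalizer_ne_top hG (by rw [h]; norm_num) P
    have h5 := SimpleOrder.five_le_index hG _ hN
    simp only [Sylow.coe_coe] at h5 hN
    have hd := SimpleOrder.card_sylow_dvd hn (by norm_num)
    rw [P.card_eq_index_normalizer] at hd
    have hcases : ∀ x : ℕ, x ∣ 15 → x = 1 ∨ x = 3 ∨ x = 5 ∨ x = 15 := fun x hx => by
      have := Nat.le_of_dvd (by norm_num) hx
      revert hx; revert x; decide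
    rcases hcases _ hd with h' | h' | h' | h'
    · omega
    · omega
    · exact ⟨_, hN, h'⟩
    · obtain ⟨H, hH, hHd, d, hd1, -, hd3⟩ :=
        SimpleOrder.exists_index_of_inter hn (by norm_num) (by rw [P.card_eq_index_normalizer, h']; norm_num)
      refine ⟨H, hH, ?_⟩
      have h5' := SimpleOrder.five_le_index hG H hH
      rcases hcases _ hHd with e | e | e | e
      · omega
      · omega
      · exact e
      · rw [e] at hd3; norm_num at hd3; omega
  obtain ⟨f, hf⟩ := SimpleOrder.exists_injective_alternating hG H hH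
  have hA : Nat.card (alternatingGroup (Fin H.index)) = 60 := by
    rw [hi]
    have h2 := two_mul_nat_card_alternatingGroup (α := Fin 5)
    rw [Nat.card_perm, Nat.card_fin, show Nat.factorial 5 = 120 from rfl] at h2
    omega
  have e : G ≃* alternatingGroup (Fin H.index) := MulEquiv.ofBijective f
    ((Nat.bijective_iff_injective_and_card f).2 ⟨hf, by rw [hA, h]⟩)
  rw [hi] at e
  exact ⟨e⟩

end Cfsg.Agent.S0494
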