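import Cfsg.Statements.S3279
import Mathlib


set_option autoImplicit false
open Cfsg

namespace Cfsg.Agent.S3279
theorem inv_mul_self_eq {G : Type*} [Group G] {u : G} (hu : orderOf u = 2) : u * u = 1 := by
  rw [← pow_two, ← hu, pow_orderOf_eq_one]

theorem inv_eq {G : Type*} [Group G] {u : G} (hu : orderOf u = 2) : u⁻¹ = u :=
  inv_eq_of_mul_eq_one_right (inv_mul_self_eq hu)

theorem inv_ne_one {G : Type*} [Group G] {u : G} (hu : orderOf u = 2) : u ≠ 1 := by
  rintro rfl
  simp at hu

theorem order_mul {G : Type*} [Group G] {u v : G} (hu : orderOf u = 2) (hv : orderOf v = 2)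
    (hc : Commute u v) (hne : u ≠ v) : orderOf (u * v) = 2 := by
  refine orderOf_eq_prime ?_ ?_
  · rw [hc.mul_pow, pow_two, pow_two, inv_mul_self_eq hu, inv_mul_self_eq hv, mul_one]
  · intro h
    exact hne (by rw [eq_inv_of_mul_eq_one_left h, inv_eq hv])

theorem order_conj {G : Type*} [Group G] (g u : G) : orderOf (g * u * g⁻¹) = orderOf u :=
  MulEquiv.orderOf_eq (MulAut.conj g) u

theorem commute_conj {G : Type*} [Group G] {u v : G} (g : G) (h : Commute u v) :
    Commute (g * u * g⁻¹) (g * v * g⁻¹) := h.map (MulAut.conj g).toMonoidHom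

/-- Two non-conjugate involutions commute with a third one. -/
theorem exists_third {G : Type*} [Group G] [Finite G] {u v : G} (hu : orderOf u = 2)
    (hv : orderOf v = 2) (hnc : ¬ IsConj u v) :
    ∃ w : G, orderOf w = 2 ∧ Commute w u ∧ Commute w v ∧ w ≠ u ∧ w ≠ v := by
  have hru : u * (u * v) * u⁻¹ = (u * v)⁻¹ := by
    rw [mul_inv_rev, inv_eq hu, inv_eq hv, ← mul_assoc, inv_mul_self_eq hu, one_mul]
  have hconj : ∀ k : ℕ, u * (u * v) ^ k * u⁻¹ = ((u * v) ^ k)⁻¹ := by
    intro k
    rw [← conj_pow, hru, inv_pow]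
  rcases Nat.even_or_odd (orderOf (u * v)) with ⟨k, hk⟩ | ⟨k, hk⟩
  · have hm : 0 < orderOf (u * v) := orderOf_pos _
    have hw : orderOf ((u * v) ^ k) = 2 := by
      rw [orderOf_pow' _ (by omega), Nat.gcd_eq_right ⟨2, by omega⟩]
      exact Nat.div_eq_of_eq_mul_left (by omega) (by omega)
    have hwu : Commute ((u * v) ^ k) u := by
      have h := hconj k
      rw [inv_eq hw] at h
      exact (mul_inv_eq_iff_eq_mul.1 h).symm
    have hwr : Commute ((u * v) ^ k) (u * v) := (Commute.refl _).pow_left _
    have hwv : Commute ((u * v) ^ k) v := by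
      have h := hwu.inv_right.mul_right hwr
      rwa [inv_mul_cancel_left] at h
    have key : ∀ a b : G, orderOf a = 2 → orderOf b = 2 → (u * v) ^ k = a →
        Commute a b → (a * b) ^ k = (u * v) ^ k → False := by
      intro a b ha hb h1 hab h2
      rcases Nat.even_or_odd k with ⟨j, hj⟩ | ⟨j, hj⟩
      · apply inv_ne_one ha
        rw [← h1, ← h2, hj, ← two_mul, pow_mul, hab.mul_pow, pow_two, pow_two,
          inv_mul_self_eq ha, inv_mul_self_eq hb, mul_one, one_pow]
      · apply inv_ne_one hb
        have h3 : (a * b) ^ k = a * b := by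
          rw [hj, pow_succ, pow_mul, hab.mul_pow, pow_two, pow_two,
            inv_mul_self_eq ha, inv_mul_self_eq hb, mul_one, one_pow, one_mul]
        have h4 : a * b = a := by rw [← h3, h2, h1]
        simpa using h4
    refine ⟨_, hw, hwu, hwv, fun h => ?_, fun h => ?_⟩
    · exact key u v hu hv h (by rw [← h]; exact hwv) rfl
    · have hc : Commute u v := by rw [← h]; exact hwu.symm
      exact key v u hv hu h hc.symm (by rw [hc.eq])
  · exfalso
    apply hnc
    refine isConj_iff.2 ⟨(u * v) ^ k, ?_⟩
    have h1 : ((u * v) ^ k) * u * ((u * v) ^ k)⁻¹ = (u * v) ^ (2 * k) * u := by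
      have h2 : u * ((u * v) ^ k)⁻¹ = (u * v) ^ k * u := by
        have h := congrArg (·⁻¹) (hconj k)
        simp only [mul_inv_rev, inv_inv] at h
        rw [← mul_inv_eq_iff_eq_mul, mul_assoc]
        exact h
      rw [mul_assoc, h2, ← mul_assoc, ← pow_add, two_mul]
    have h3 : (u * v) ^ (2 * k) = (u * v)⁻¹ := by
      refine eq_inv_of_mul_eq_one_left ?_
      rw [← pow_succ, ← hk, pow_orderOf_eq_one]
    rw [h1, h3, mul_inv_rev, inv_eq hu, inv_eq hv, mul_assoc, inv_mul_self_eq hu, mul_one]

theorem involutions_centralizer {G : Type*} [Group G] [Finite G] {x a : G} (hx : orderOf x = 2)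
    (ha : orderOf a = 2) (hax : Commute a x) (hne : a ≠ x)
    (h3 : Nat.card {u : ↥(Subgroup.centralizer ({x} : Set G)) // orderOf u = 2} ≤ 3)
    {u : G} (hu : orderOf u = 2) (hux : Commute u x) : u = x ∨ u = a ∨ u = x * a := by
  classical
  by_contra hcon
  push Not at hcon
  have hb : orderOf (x * a) = 2 := order_mul hx ha hax.symm hne.symm
  have hbx : Commute (x * a) x := (Commute.refl x).mul_left hax
  have hab : a ≠ x * a := fun h => inv_ne_one hx (by simpa using h.symm)
  have hxb : x ≠ x * a := fun h => inv_ne_one ha (by simpa using h.symm)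
  let mk : {w : G // orderOf w = 2 ∧ Commute w x} →
      {u : ↥(Subgroup.centralizer ({x} : Set G)) // orderOf u = 2} := fun w =>
    ⟨⟨w.1, Subgroup.mem_centralizer_singleton_iff.2 w.2.2.eq⟩, by
      rw [← Subgroup.orderOf_coe]; exact w.2.1⟩
  let f : Fin 4 → {w : G // orderOf w = 2 ∧ Commute w x} :=
    ![⟨x, hx, Commute.refl x⟩, ⟨a, ha, hax⟩, ⟨x * a, hb, hbx⟩, ⟨u, hu, hux⟩]
  have hmk : Function.Injective mk := by
    intro v w h
    have := congrArg (fun t => ((t.1 : ↥(Subgroup.centralizer ({x} : Set G))) : G)) h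
    exact Subtype.ext this
  have hf : Function.Injective f := by
    intro i j h
    have h' : (f i).1 = (f j).1 := congrArg _ h
    fin_cases i <;> fin_cases j <;>
      simp_all [f, hne.symm, hab.symm, hxb.symm, hcon.1.symm, hcon.2.1.symm, hcon.2.2.symm]
  have := Nat.card_le_card_of_injective (mk ∘ f) (hmk.comp hf)
  simp at this
  omega

theorem false_of_isMulCommutative {G : Type*} [Group G] [IsSimpleGroup G] [Finite G] {x a : G}
    (hx : orderOf x = 2) (ha : orderOf a = 2) (hne : a ≠ x) (hcomm : ∀ g h : G, Commute g h) :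
    False := by
  have hn : (Subgroup.zpowers x).Normal :=
    ⟨fun n hn g => by rwa [(hcomm g n).eq, mul_inv_cancel_right]⟩
  rcases hn.eq_bot_or_eq_top with h | h
  · exact inv_ne_one hx (by simpa using h)
  · have hmem : a ∈ Subgroup.zpowers x := h ▸ Subgroup.mem_top a
    obtain ⟨k, rfl⟩ := hmem
    have h2 : x ^ (2 : ℤ) = 1 := by rw [zpow_two]; exact inv_mul_self_eq hx
    rcases Int.even_or_odd k with ⟨j, hj⟩ | ⟨j, hj⟩
    · exact inv_ne_one ha (by simp [hj, ← two_mul, zpow_mul, h2])
    · exact hne (by simp [hj, zpow_add, zpow_mul, h2])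

theorem orderOf_eq_of_isConj {G : Type*} [Group G] {u v : G} (hu : orderOf u = 2)
    (h : IsConj u v) : orderOf v = 2 := by
  obtain ⟨g, rfl⟩ := isConj_iff.1 h
  rw [order_conj, hu]

theorem false_of_class_commute {G : Type*} [Group G] [IsSimpleGroup G] [Finite G] {x a : G}
    (hx : orderOf x = 2) (ha : orderOf a = 2) (hne : a ≠ x) {b : G} (hb : b ≠ 1)
    (h : ∀ g : G, Commute (g * a * g⁻¹) b) : False := by
  have hcom : ∀ g k : G, Commute (g * a * g⁻¹) (k * b * k⁻¹) := by
    intro g k
    have := commute_conj k (h (k⁻¹ * g))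
    rwa [show k * (k⁻¹ * g * a * (k⁻¹ * g)⁻¹) * k⁻¹ = g * a * g⁻¹ by group] at this
  have hle : Subgroup.normalClosure ({a} : Set G) ≤
      Subgroup.centralizer (Subgroup.normalClosure ({b} : Set G) : Set G) := by
    rw [Subgroup.normalClosure, Subgroup.closure_le]
    intro p hp
    rw [SetLike.mem_coe, Subgroup.normalClosure, Subgroup.centralizer_closure]
    obtain ⟨a', ha', g, rfl⟩ := Group.mem_conjugatesOfSet_iff.1 hp |>.imp fun _ => And.imp id
      (fun h => isConj_iff.1 h)
    rw [Set.mem_singleton_iff] at ha'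
    subst ha'
    rw [Subgroup.mem_centralizer_iff]
    intro q hq
    obtain ⟨b', hb', h'⟩ := Group.mem_conjugatesOfSet_iff.1 hq
    obtain ⟨k, rfl⟩ := isConj_iff.1 h'
    rw [Set.mem_singleton_iff] at hb'
    subst hb'
    exact (hcom g k).symm.eq
  have hA : Subgroup.normalClosure ({a} : Set G) = ⊤ :=
    Subgroup.normalClosure_normal.eq_bot_or_eq_top.resolve_left fun h' =>
      inv_ne_one ha (by
        have := Subgroup.subset_normalClosure (Set.mem_singleton a)
        rw [h'] at this; simpa using this)
  have hB : Subgroup.normalClosure ({b} : Set G) = ⊤ :=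
    Subgroup.normalClosure_normal.eq_bot_or_eq_top.resolve_left fun h' =>
      hb (by
        have := Subgroup.subset_normalClosure (Set.mem_singleton b)
        rw [h'] at this; simpa using this)
  rw [hA, hB] at hle
  refine false_of_isMulCommutative hx ha hne fun g k => ?_
  exact (Subgroup.mem_centralizer_iff.1 (hle (Subgroup.mem_top g)) k (by simp)).symm

theorem two_central_of_unique {G : Type*} [Group G] [Finite G] {x : G} (hx : orderOf x = 2)
    (h : ∀ v : G, IsConj x v → Commute v x → v = x) :
    ∃ S : Sylow 2 G, (S : Subgroup G) ≤ Subgroup.centralizer ({x} : Set G) := by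
  haveI : Fact (Nat.Prime 2) := ⟨Nat.prime_two⟩
  have hp : IsPGroup 2 (Subgroup.zpowers x) := by
    refine IsPGroup.of_card (n := 1) ?_
    rw [Nat.card_zpowers, hx, pow_one]
  obtain ⟨S, hS⟩ := hp.exists_le_sylow
  refine ⟨S, ?_⟩
  have hxS : x ∈ (S : Subgroup G) := hS (Subgroup.mem_zpowers x)
  have htop : (Subgroup.centralizer ({⟨x, hxS⟩} : Set ↥(S : Subgroup G))) = ⊤ := by
    haveI : Group.IsNilpotent ↥(S : Subgroup G) := S.isPGroup'.isNilpotent
    by_contra hne
    have hlt : Subgroup.centralizer ({⟨x, hxS⟩} : Set ↥(S : Subgroup G)) < ⊤ := lt_top_iff_ne_top.2 hne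
    have := Group.normalizerCondition_of_isNilpotent _ hlt
    obtain ⟨n, hn, hn'⟩ := SetLike.exists_of_lt this
    apply hn'
    have hxm : (⟨x, hxS⟩ : ↥(S : Subgroup G)) ∈ Subgroup.centralizer ({⟨x, hxS⟩} : Set _) :=
      Subgroup.mem_centralizer_singleton_iff.2 rfl
    have h2 := Subgroup.mem_centralizer_singleton_iff.1 ((Subgroup.mem_normalizer_iff.1 hn _).1 hxm)
    have h3 : (n : G) * x * (n : G)⁻¹ = x := h _ (isConj_iff.2 ⟨(n : G), rfl⟩) (congrArg Subtype.val h2)
    refine Subgroup.mem_centralizer_singleton_iff.2 (Subtype.ext ?_)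
    exact mul_inv_eq_iff_eq_mul.1 h3
  intro s hs
  have hm : (⟨s, hs⟩ : ↥(S : Subgroup G)) ∈
      Subgroup.centralizer ({⟨x, hxS⟩} : Set ↥(S : Subgroup G)) := htop ▸ Subgroup.mem_top _
  have := Subgroup.mem_centralizer_singleton_iff.1 hm
  exact Subgroup.mem_centralizer_singleton_iff.2 (congrArg Subtype.val this)

/-- A homomorphism onto a group of order two is impossible for a simple group with two commuting involutions. -/
theorem false_of_hom {G : Type*} [Group G] [IsSimpleGroup G] [Finite G] {x a : G}
    (hx : orderOf x = 2) (ha : orderOf a = 2) (hne : a ≠ x) (φ : G →* Multiplicative (ZMod 2))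
    {g : G} (hg : φ g ≠ 1) : False := by
  rcases φ.normal_ker.eq_bot_or_eq_top with h | h
  · refine false_of_isMulCommutative hx ha hne fun p q => ?_
    exact (MonoidHom.ker_eq_bot_iff φ).1 h (by rw [map_mul, map_mul, mul_comm])
  · exact hg (φ.mem_ker.1 (h ▸ Subgroup.mem_top g))

theorem one_class {G : Type*} [Group G] [Finite G] [IsSimpleGroup G] {x : G} (hx : orderOf x = 2)
    (h3 : Nat.card {u : ↥(Subgroup.centralizer ({x} : Set G)) // orderOf u = 2} ≤ 3)
    {y : G} (hy : orderOf y = 2) : IsConj x y := by
  by_contra hxy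
  -- a non-conjugate involution in the centraliser
  obtain ⟨a, ha, hax, hna⟩ : ∃ a, orderOf a = 2 ∧ Commute a x ∧ ¬ IsConj x a := by
    obtain ⟨w, hw, hwx, hwy, -, -⟩ := exists_third hx hy hxy
    by_cases h : IsConj x w
    · obtain ⟨g, rfl⟩ := isConj_iff.1 h
      refine ⟨g⁻¹ * y * g, by rw [← order_conj g, show g * (g⁻¹ * y * g) * g⁻¹ = y by group, hy],
        ?_, fun h' => hxy (h'.trans (isConj_iff.2 ⟨g, by group⟩))⟩
      have := commute_conj g⁻¹ hwy.symm
      simpa [mul_assoc] using this
    · exact ⟨w, hw, hwx, h⟩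
  have hne : a ≠ x := fun h => hna (h ▸ IsConj.refl x)
  have hb : orderOf (x * a) = 2 := order_mul hx ha hax.symm hne.symm
  have hU : ∀ {u : G}, orderOf u = 2 → Commute u x → u = x ∨ u = a ∨ u = x * a :=
    fun hu hux => involutions_centralizer hx ha hax hne h3 hu hux
  have hU' : ∀ (g : G) {u : G}, orderOf u = 2 → Commute u (g * x * g⁻¹) →
      u = g * x * g⁻¹ ∨ u = g * a * g⁻¹ ∨ u = g * (x * a) * g⁻¹ := by
    intro g u hu hux
    have h1 : Commute (g⁻¹ * u * g) x := by
      have := commute_conj g⁻¹ hux
      simpa [mul_assoc] using this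
    have h2 : g * (g⁻¹ * u * g) * g⁻¹ = u := by group
    rcases hU (by rw [← order_conj g, h2, hu]) h1 with h | h | h <;> rw [← h2, h] <;> simp
  -- every non-conjugate of x commutes with a or with x * a
  have hkey : ∀ v : G, orderOf v = 2 → ¬ IsConj x v → Commute v a ∨ Commute v (x * a) := by
    intro v hv hxv
    obtain ⟨w, hw, hwx, hwv, hwne, -⟩ := exists_third hx hv hxv
    rcases hU hw hwx with h | h | h
    · exact absurd h hwne
    · exact Or.inl (h ▸ hwv.symm)
    · exact Or.inr (h ▸ hwv.symm)
  have hacl : ∀ g : G, orderOf (g * a * g⁻¹) = 2 ∧ ¬ IsConj x (g * a * g⁻¹) := fun g =>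
    ⟨by rw [order_conj, ha], fun h => hna (h.trans (isConj_iff.2 ⟨g⁻¹, by group⟩))⟩
  by_cases hbx : IsConj x (x * a)
  · -- the class of a commutes with a
    obtain ⟨c, hc⟩ := isConj_iff.1 hbx
    refine false_of_class_commute hx ha hne (inv_ne_one ha) fun g => ?_
    obtain ⟨hv, hv'⟩ := hacl g
    rcases hkey _ hv hv' with h | h
    · exact h
    · -- the only involution commuting with x * a and not conjugate to x is a
      have hca : Commute a (x * a) := hax.mul_right (Commute.refl a)
      have huniq : ∀ t, orderOf t = 2 → ¬ IsConj x t → Commute t (x * a) →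
          t = c * a * c⁻¹ := by
        intro t ht ht' htb
        rw [← hc] at htb
        rcases hU' c ht htb with h | h | h
        · exact absurd (isConj_iff.2 ⟨c, h.symm⟩) ht'
        · exact h
        · exact absurd (hbx.trans (isConj_iff.2 ⟨c, h.symm⟩)) ht'
      rw [huniq _ hv hv' h, ← huniq a ha hna hca]
  · -- x is two-central, and four-subgroups are conjugate
    obtain ⟨S, hS⟩ := two_central_of_unique hx (by
      intro v hv hvx
      rcases hU (orderOf_eq_of_isConj hx hv) hvx with h | h | h
      · exact h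
      · exact absurd (h ▸ hv) hna
      · exact absurd (h ▸ hv) hbx)
    have hfour : ∀ p q : G, orderOf p = 2 → orderOf q = 2 → Commute p q → ∃ g : G,
        (p = g * x * g⁻¹ ∨ p = g * a * g⁻¹ ∨ p = g * (x * a) * g⁻¹) ∧
        (q = g * x * g⁻¹ ∨ q = g * a * g⁻¹ ∨ q = g * (x * a) * g⁻¹) := by
      intro p q hp hq hpq
      haveI : Fact (Nat.Prime 2) := ⟨Nat.prime_two⟩
      have hP : IsPGroup 2 (Subgroup.closure ({p, q} : Set G)) := by
        intro t
        refine ⟨1, Subtype.ext ?_⟩
        have hcomm : IsMulCommutative (Subgroup.closure ({p, q} : Set G)) :=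
          Subgroup.isMulCommutative_closure (by
            intro s hs t ht
            simp only [Set.mem_insert_iff, Set.mem_singleton_iff] at hs ht
            rcases hs with rfl | rfl <;> rcases ht with rfl | rfl
            · rfl
            · exact hpq.eq
            · exact hpq.symm.eq
            · rfl)
        simp only [SubmonoidClass.coe_pow, OneMemClass.coe_one]
        exact Subgroup.closure_induction (p := fun z _ => z ^ (2 ^ 1) = 1)
          (by
            intro z hz
            simp only [Set.mem_insert_iff, Set.mem_singleton_iff] at hz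
            rcases hz with rfl | rfl <;> simp [pow_two, inv_mul_self_eq, hp, hq])
          (one_pow _)
          (fun z w hz hw h1 h2 => by
            rw [(congrArg Subtype.val (hcomm.is_comm.comm ⟨z, hz⟩ ⟨w, hw⟩) : z * w = w * z) |>
              fun h : z * w = w * z => (show Commute z w from h).mul_pow _, h1, h2, one_mul])
          (fun z _ h => by rw [inv_pow, h, inv_one]) t.2
      obtain ⟨T, hT⟩ := hP.exists_le_sylow
      obtain ⟨g, hg⟩ := MulAction.exists_smul_eq G S T
      have key : ∀ r ∈ ({p, q} : Set G), orderOf r = 2 →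
          r = g * x * g⁻¹ ∨ r = g * a * g⁻¹ ∨ r = g * (x * a) * g⁻¹ := by
        intro r hr hr2
        have hmem := hT (Subgroup.subset_closure hr)
        rw [← hg, Sylow.coe_subgroup_smul, Subgroup.mem_pointwise_smul_iff_inv_smul_mem] at hmem
        refine hU' g hr2 ?_
        have h1 : Commute ((MulAut.conj g)⁻¹ • r) x :=
          Subgroup.mem_centralizer_singleton_iff.1 (hS hmem)
        have h2 := commute_conj g h1
        simpa [MulAut.smul_def, mul_assoc] using h2
      exact ⟨g, key p (Set.mem_insert _ _) hp, key q (by simp) hq⟩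
    by_cases hab : IsConj a (x * a)
    · -- commuting graph on the class of a is connected and bipartite
      classical
      have hna' : ∀ v, IsConj a v → ¬ IsConj x v := fun v hv h => hna (h.trans hv.symm)
      have hov : ∀ v, IsConj a v → orderOf v = 2 := fun v hv => orderOf_eq_of_isConj ha hv
      have hclass : ∀ g : G, IsConj a (g * (x * a) * g⁻¹) := fun g =>
        hab.trans (isConj_iff.2 ⟨g, rfl⟩)
      -- no triangles
      have htri : ∀ p q r, IsConj a p → IsConj a q → IsConj a r → Commute p q → p ≠ q →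
          Commute r p → Commute r q → r = p ∨ r = q := by
        intro p q r hp hq hr hpq hne' hrp hrq
        obtain ⟨g, h1, h2⟩ := hfour p q (hov p hp) (hov q hq) hpq
        have hp' : p = g * a * g⁻¹ ∨ p = g * (x * a) * g⁻¹ :=
          h1.resolve_left fun h => hna' p hp (isConj_iff.2 ⟨g, h.symm⟩)
        have hq' : q = g * a * g⁻¹ ∨ q = g * (x * a) * g⁻¹ :=
          h2.resolve_left fun h => hna' q hq (isConj_iff.2 ⟨g, h.symm⟩)
        have hprod : Commute r (g * x * g⁻¹) := by
          have e : (g * (x * a) * g⁻¹) * (g * a * g⁻¹) = g * x * g⁻¹ := by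
            calc _ = g * (x * (a * a)) * g⁻¹ := by group
              _ = _ := by rw [inv_mul_self_eq ha, mul_one]
          rcases hp' with rfl | rfl <;> rcases hq' with rfl | rfl
          · exact absurd rfl hne'
          · exact e ▸ hrq.mul_right hrp
          · exact e ▸ hrp.mul_right hrq
          · exact absurd rfl hne'
        rcases hU' g (hov r hr) hprod with h | h | h
        · exact absurd (isConj_iff.2 ⟨g, h.symm⟩) (hna' r hr)
        all_goals rcases hp' with rfl | rfl <;> rcases hq' with rfl | rfl <;>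
          first | exact absurd rfl hne' | exact Or.inl h | exact Or.inr h
      let col : G → Bool := fun v => decide (v ≠ a ∧ Commute v a)
      have hbne : x * a ≠ a := fun h => inv_ne_one hx (by simpa using h)
      have hba : Commute (x * a) a := hax.symm.mul_left (Commute.refl a)
      have hcov : ∀ v, IsConj a v → Commute v a ∨ Commute v (x * a) := fun v hv =>
        hkey v (hov v hv) (hna' v hv)
      have hflip : ∀ p q, IsConj a p → IsConj a q → Commute p q → p ≠ q → col p = ! col q := by
        intro p q hp hq hpq hne'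
        by_cases hpa : p = a
        · subst hpa
          simp [col, hpq.symm, hne'.symm]
        by_cases hqa : q = a
        · subst hqa
          simp [col, hpq, hne']
        by_cases hp1 : Commute p a <;> by_cases hq1 : Commute q a
        · rcases htri p q a hp hq (IsConj.refl a) hpq hne' hp1.symm hq1.symm with h | h
          · exact absurd h.symm hpa
          · exact absurd h.symm hqa
        · simp [col, hp1, hq1, hpa]
        · simp [col, hp1, hq1, hqa]
        · have hp2 := (hcov p hp).resolve_left hp1
          have hq2 := (hcov q hq).resolve_left hq1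
          have hbc : IsConj a (x * a) := hab
          rcases htri p q (x * a) hp hq hbc hpq hne' hp2.symm hq2.symm with h | h
          · exact absurd (h ▸ hba) hp1
          · exact absurd (h ▸ hba) hq1
      have hg2 : ∀ (g : G) v, IsConj a v → IsConj a (g * v * g⁻¹) := fun g v hv =>
        hv.trans (isConj_iff.2 ⟨g, rfl⟩)
      -- the flip of a determines the flip of every point
      have hshift : ∀ (g : G) v, IsConj a v →
          (col (g * v * g⁻¹) != col v) = (col (g * a * g⁻¹) != col a) := by
        intro g v hv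
        have step : ∀ p q, IsConj a p → IsConj a q → Commute p q → p ≠ q →
            (col (g * p * g⁻¹) != col p) = (col (g * q * g⁻¹) != col q) := by
          intro p q hp hq hpq hne'
          rw [hflip p q hp hq hpq hne', hflip _ _ (hg2 g p hp) (hg2 g q hq) (commute_conj g hpq)
            (fun h => hne' (by simpa using h))]
          cases col (g * q * g⁻¹) <;> cases col q <;> rfl
        rcases hcov v hv with h | h
        · by_cases hva : v = a
          · rw [hva]
          · exact step v a hv (IsConj.refl a) h hva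
        · have e := step (x * a) a hab (IsConj.refl a) hba hbne
          by_cases hvb : v = x * a
          · rw [hvb]; exact e
          · exact (step v (x * a) hv hab h hvb).trans e
      let toZ : Bool → ZMod 2 := fun t => if t then 1 else 0
      have htoZ : ∀ s t u : Bool, toZ (s != u) = toZ (s != t) + toZ (t != u) := by decide
      let φ : G →* Multiplicative (ZMod 2) := MonoidHom.mk'
        (fun g => Multiplicative.ofAdd (toZ (col (g * a * g⁻¹) != col a))) (by
          intro g h
          rw [← ofAdd_add, ← hshift g _ (hg2 h a (IsConj.refl a))]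
          congr 1
          rw [show g * h * a * (g * h)⁻¹ = g * (h * a * h⁻¹) * g⁻¹ by group]
          exact htoZ _ _ _)
      obtain ⟨c, hc⟩ := isConj_iff.1 hab
      refine false_of_hom hx ha hne φ (g := c) ?_
      have h1 : col (x * a) = ! col a := hflip _ a hab (IsConj.refl a) hba hbne
      simp only [φ, MonoidHom.mk'_apply, hc, h1]
      cases col a <;> simp [toZ]
    · -- the class of a commutes with x * a
      refine false_of_class_commute hx ha hne (inv_ne_one hb) fun g => ?_
      obtain ⟨hv, hv'⟩ := hacl g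
      rcases hkey _ hv hv' with h | h
      · obtain ⟨k, h1, h2⟩ := hfour (g * a * g⁻¹) a hv ha h
        have honly : ∀ t, IsConj a t → (t = k * x * k⁻¹ ∨ t = k * a * k⁻¹ ∨
            t = k * (x * a) * k⁻¹) → t = k * a * k⁻¹ := by
          intro t ht h'
          rcases h' with h' | h' | h'
          · exact absurd ((isConj_iff.2 ⟨k, h'.symm⟩).trans ht.symm) hna
          · exact h'
          · exact absurd (ht.trans (isConj_iff.2 ⟨k, h'.symm⟩).symm) hab
        rw [honly _ (isConj_iff.2 ⟨g, rfl⟩) h1, ← honly a (IsConj.refl a) h2]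
        exact hax.mul_right (Commute.refl a)
      · exact h


/-- Let G be a finite simple group and x an involution of G whose centralizer contains at most three involutions. Then C_G(x) contains a Sylow 2-subgroup of G, and all involutions of G are conjugate. -/
theorem result {G : Type*} [Group G] [Finite G] [IsSimpleGroup G] (x : G) (hx : orderOf x = 2)
    (h3 : Nat.card {u : ↥(Subgroup.centralizer ({x} : Set G)) // orderOf u = 2} ≤ 3) :
    (∃ S : Sylow 2 G, (S : Subgroup G) ≤ Subgroup.centralizer ({x} : Set G)) ∧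
      ∀ u v : G, orderOf u = 2 → orderOf v = 2 → IsConj u v := by
  haveI : Fact (Nat.Prime 2) := ⟨Nat.prime_two⟩
  have hall : ∀ u v : G, orderOf u = 2 → orderOf v = 2 → IsConj u v := fun u v hu hv =>
    (one_class hx h3 hu).symm.trans (one_class hx h3 hv)
  refine ⟨?_, hall⟩
  obtain ⟨S⟩ := (inferInstance : Nonempty (Sylow 2 G))
  have h2 : 2 ∣ Nat.card G := hx ▸ orderOf_dvd_natCard x
  haveI : Nontrivial ↥(S : Subgroup G) := (Subgroup.nontrivial_iff_ne_bot _).2 (S.ne_bot_of_dvd_card h2)
  haveI := S.isPGroup'.center_nontrivial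
  obtain ⟨n, hn, hcard⟩ := ((S.isPGroup'.to_subgroup (Subgroup.center ↥(S : Subgroup G))).nontrivial_iff_card).1 inferInstance
  obtain ⟨z, hz⟩ := exists_prime_orderOf_dvd_card' 2 (hcard ▸ dvd_pow_self 2 hn.ne')
  have hz' : orderOf ((z : ↥(S : Subgroup G)) : G) = 2 := by
    rw [Subgroup.orderOf_coe, Subgroup.orderOf_coe, hz]
  obtain ⟨g, hg⟩ := isConj_iff.1 (hall ((z : ↥(S : Subgroup G)) : G) x hz' hx)
  refine ⟨g • S, ?_⟩
  intro t ht
  rw [Sylow.coe_subgroup_smul, Subgroup.mem_pointwise_smul_iff_inv_smul_mem] at ht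
  have hc : Commute ((MulAut.conj g)⁻¹ • t) ((z : ↥(S : Subgroup G)) : G) :=
    congrArg Subtype.val (Subgroup.mem_center_iff.1 z.2 ⟨_, ht⟩)
  have h4 := commute_conj g hc
  rw [hg] at h4
  exact Subgroup.mem_centralizer_singleton_iff.2 (by simpa [MulAut.smul_def, mul_assoc] using h4.eq)

end Cfsg.Agent.S3279
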