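import Cfsg.Statements.S3278
import Mathlib
import Cfsg.Agent.S3279
import Cfsg.Agent.Lib.FourExceptional

set_option autoImplicit false
open Cfsg

namespace Cfsg.Agent.S3278
open Cfsg.Agent.S3279 (inv_mul_self_eq inv_eq inv_ne_one order_conj commute_conj order_mul)
open Cfsg.Agent.FourExceptional

/-- An involution cannot invert an element of order greater than two commuting with an involution. -/
theorem no_involution_commutes {G : Type*} [Group G] [Finite G] {x a g : G} {D : Subgroup G}
    {S : Sylow 2 G} (hs : Setup x a g D S) {u w r : G} (hu : orderOf u = 2) (hw : orderOf w = 2)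
    (hwr : Commute w r) (hinv : u * r * u⁻¹ = r⁻¹) : r * r = 1 := by
  classical
  haveI : Fact (Nat.Prime 2) := ⟨Nat.prime_two⟩
  obtain ⟨c, hc⟩ := isConj_iff.1 (hs.allConj w x hw hs.ox)
  -- move w to x
  have hu' : orderOf (c * u * c⁻¹) = 2 := by rw [order_conj, hu]
  have hr' : Commute (c * r * c⁻¹) x := hc ▸ (commute_conj c hwr).symm
  have hinv' : (c * u * c⁻¹) * (c * r * c⁻¹) * (c * u * c⁻¹)⁻¹ = (c * r * c⁻¹)⁻¹ := by
    calc _ = c * (u * r * u⁻¹) * c⁻¹ := by group
      _ = _ := by rw [hinv]; group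
  obtain ⟨s, hs', d, hd, hsd⟩ := hs.cent _ hr'
  obtain ⟨k, hk⟩ := hs.odd
  have hdk : (s * d) ^ (Nat.card D + 1) = d := by
    rw [(hs.comm s hs' d hd).mul_pow, hk, show 2 * k + 1 + 1 = 2 * (k + 1) by ring, pow_mul,
      pow_two s, hs.sq hs', one_pow, one_mul, show 2 * (k + 1) = (2 * k + 1) + 1 by ring, pow_succ,
      ← hk, Setup.pow_card hd, one_mul]
  set v := c * u * c⁻¹
  have hinvd : v * d * v⁻¹ = d⁻¹ := by
    conv_lhs => rw [← hdk, ← hsd]
    rw [← conj_pow, hinv', inv_pow, hsd, hdk]
  -- S lies in the centraliser of d, which v normalises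
  have hSd : (S : Subgroup G) ≤ Subgroup.centralizer ({d} : Set G) := fun t ht =>
    Subgroup.mem_centralizer_singleton_iff.2 (hs.comm t ht d hd).eq
  set Cd := Subgroup.centralizer ({d} : Set G)
  have hvC : ∀ y ∈ Cd, v * y * v⁻¹ ∈ Cd := by
    intro y hy
    have h : Commute (v * y * v⁻¹) (v * d * v⁻¹) :=
      commute_conj v (Subgroup.mem_centralizer_singleton_iff.1 hy)
    rw [hinvd] at h
    exact Subgroup.mem_centralizer_singleton_iff.2 (Commute.inv_right_iff.1 h).eq
  have hvS : ((v • S : Sylow 2 G) : Subgroup G) ≤ Cd := by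
    intro t ht
    rw [Sylow.coe_subgroup_smul, Subgroup.mem_pointwise_smul_iff_inv_smul_mem] at ht
    have := hvC _ (hSd ht)
    simpa [MulAut.smul_def, mul_assoc] using this
  obtain ⟨h, hh⟩ := MulAction.exists_smul_eq Cd (S.subtype hSd) ((v • S).subtype hvS)
  -- an element of the normaliser of S inverting d
  set y := (h : G)⁻¹ * v with hy
  have hyN : y ∈ Subgroup.normalizer ((S : Subgroup G) : Set G) := by
    refine Sylow.smul_eq_iff_mem_normalizer.1 ?_
    have h1 : ((h : G) • S : Sylow 2 G) = v • S := by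
      rw [Sylow.smul_subtype] at hh
      exact Sylow.subtype_injective hh
    rw [hy, mul_smul, ← h1, inv_smul_smul]
  have hyd : y * d * y⁻¹ = d⁻¹ := by
    have hcd : Commute (h : G) d := Subgroup.mem_centralizer_singleton_iff.1 h.2
    calc y * d * y⁻¹ = (h : G)⁻¹ * (v * d * v⁻¹) * h := by rw [hy]; group
      _ = (h : G)⁻¹ * d⁻¹ * h := by rw [hinvd]
      _ = d⁻¹ := by rw [(hcd.inv_right.inv_left).eq, inv_mul_cancel_right]
  -- its 2-part lies in S, so centralises d
  obtain ⟨m, hm⟩ : ∃ m, orderOf y = 2 ^ (orderOf y).factorization 2 * m :=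
    ⟨_, (Nat.ordProj_mul_ordCompl_eq_self _ 2).symm⟩
  have hmodd : Odd m := by
    rw [← Nat.not_even_iff_odd, even_iff_two_dvd]
    intro h2m
    have hord : 2 ^ ((orderOf y).factorization 2 + 1) ∣ orderOf y := by
      rw [pow_succ]
      nth_rewrite 2 [hm]
      exact mul_dvd_mul_left _ h2m
    have := (Nat.Prime.pow_dvd_iff_le_factorization Nat.prime_two (orderOf_pos y).ne').1 hord
    omega
  have hp : IsPGroup 2 (Subgroup.zpowers (y ^ m)) := by
    refine IsPGroup.of_card (n := (orderOf y).factorization 2) ?_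
    rw [Nat.card_zpowers, orderOf_pow' _ hmodd.pos.ne', Nat.gcd_eq_right ⟨_, by rw [mul_comm]; exact hm⟩]
    nth_rewrite 1 [hm]
    exact Nat.mul_div_cancel _ hmodd.pos
  have hymS : y ^ m ∈ (S : Subgroup G) := by
    have h3 : y ^ m ∈ Subgroup.zpowers (y ^ m) ⊓ Subgroup.normalizer ((S : Subgroup G) : Set G) :=
      ⟨Subgroup.mem_zpowers _, pow_mem hyN m⟩
    exact ((hp.inf_normalizer_sylow S).le h3).2
  have hymd : ∀ j : ℕ, y ^ (2 * j + 1) * d * (y ^ (2 * j + 1))⁻¹ = d⁻¹ := by
    intro j
    induction j with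
    | zero => simpa using hyd
    | succ j ih =>
      have h2 : y * (y * d⁻¹ * y⁻¹) * y⁻¹ = d⁻¹ := by
        have : y * d⁻¹ * y⁻¹ = d := by
          calc y * d⁻¹ * y⁻¹ = (y * d * y⁻¹)⁻¹ := by group
            _ = d := by rw [hyd, inv_inv]
        rw [this, hyd]
      rw [show y ^ (2 * (j + 1) + 1) = y * y * y ^ (2 * j + 1) by
        rw [show 2 * (j + 1) + 1 = 2 + (2 * j + 1) by ring, pow_add, pow_two]]
      calc y * y * y ^ (2 * j + 1) * d * (y * y * y ^ (2 * j + 1))⁻¹
          = y * (y * (y ^ (2 * j + 1) * d * (y ^ (2 * j + 1))⁻¹) * y⁻¹) * y⁻¹ := by group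
        _ = d⁻¹ := by rw [ih, h2]
  obtain ⟨j, hj⟩ := hmodd
  have h1 := hymd j
  rw [← hj, (hs.comm _ hymS d hd).eq, mul_inv_cancel_right] at h1
  have hd1 : d = 1 := by
    by_contra hne
    have : orderOf d = 2 := orderOf_eq_prime (by rw [pow_two]; nth_rewrite 2 [h1]; exact mul_inv_cancel d) hne
    have h' := orderOf_dvd_natCard (⟨d, hd⟩ : D)
    rw [Subgroup.orderOf_mk, this] at h'
    exact hs.odd.not_two_dvd_nat h'
  rw [hd1, mul_one] at hsd
  have h2 : c * (r * r) * c⁻¹ = 1 := by
    rw [show c * (r * r) * c⁻¹ = (c * r * c⁻¹) * (c * r * c⁻¹) by group, hsd, hs.sq hs']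
  exact conj_eq_one_iff.1 h2

/-- The set-up from the hypotheses. -/
theorem exists_setup {G : Type*} [Group G] [Finite G] [IsSimpleGroup G] (x : G) (hx : orderOf x = 2)
    (S₀ : Subgroup G) (hle : S₀ ≤ Subgroup.centralizer ({x} : Set G)) (hK : IsKleinFour ↥S₀)
    (hodd : ¬ 2 ∣ S₀.relIndex (Subgroup.centralizer ({x} : Set G)))
    (hn : (S₀.subgroupOf (Subgroup.centralizer ({x} : Set G))).Normal) :
    ∃ (a g : G) (D : Subgroup G) (S : Sylow 2 G), Setup x a g D S := by
  classical
  haveI : Fact (Nat.Prime 2) := ⟨Nat.prime_two⟩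
  set C := Subgroup.centralizer ({x} : Set G) with hCdef
  have hxC : x ∈ C := Subgroup.mem_centralizer_singleton_iff.2 rfl
  set S₁ := S₀.subgroupOf C with hS₁
  haveI : S₁.Normal := hn
  have hcard : Nat.card S₀ = 4 := hK.card_four
  have hp₀ : IsPGroup 2 S₀ := IsPGroup.of_card (n := 2) (by rw [hcard]; norm_num)
  have hsq : ∀ s ∈ S₀, s * s = 1 := fun s hs' => congrArg Subtype.val
    (show (⟨s, hs'⟩ : S₀) * ⟨s, hs'⟩ = 1 from IsKleinFour.mul_self _)
  have hk : Odd (Nat.card (C ⧸ S₁)) := by
    rw [← Nat.not_even_iff_odd, even_iff_two_dvd]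
    exact hodd
  have htwo : ∀ y ∈ C, ∀ k, y ^ (2 ^ k) = 1 → y ∈ S₀ := by
    intro y hy k hyk
    have h : (QuotientGroup.mk (⟨y, hy⟩ : C) : C ⧸ S₁) ^ (2 ^ k) = 1 := by
      rw [← QuotientGroup.mk_pow, show (⟨y, hy⟩ : C) ^ (2 ^ k) = 1 from Subtype.ext (by simpa using hyk)]
      rfl
    have h2 := Nat.eq_one_of_dvd_coprimes
      (((Nat.coprime_two_left.2 hk).pow_left k)) (orderOf_dvd_of_pow_eq_one h) (orderOf_dvd_natCard _)
    exact Subgroup.mem_subgroupOf.1 ((QuotientGroup.eq_one_iff (N := S₁) _).1 (orderOf_eq_one_iff.1 h2))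
  have hinv2 : ∀ y ∈ C, y * y = 1 → y ∈ S₀ := fun y hy h => htwo y hy 1 (by simpa [pow_two] using h)
  have hxS : x ∈ S₀ := hinv2 x hxC (inv_mul_self_eq hx)
  -- at most three involutions
  have h3 : Nat.card {u : ↥C // orderOf u = 2} ≤ 3 := by
    let f : {u : ↥C // orderOf u = 2} → {s : S₀ // s ≠ 1} := fun u =>
      ⟨⟨((u : C) : G), hinv2 _ (u : C).2 (by
        have := inv_mul_self_eq u.2
        exact congrArg Subtype.val this)⟩, fun h => by
        have h' : (u : C) = 1 := Subtype.ext (congrArg (fun t : S₀ => (t : G)) h)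
        exact inv_ne_one u.2 h'⟩
    have hf : Function.Injective f := fun u v h => by
      have := congrArg (fun t : {s : S₀ // s ≠ 1} => ((t : S₀) : G)) h
      exact Subtype.ext (Subtype.ext this)
    refine (Nat.card_le_card_of_injective f hf).trans ?_
    haveI := Fintype.ofFinite S₀
    rw [Nat.card_eq_fintype_card, Fintype.card_subtype_compl, Fintype.card_subtype_eq,
      ← Nat.card_eq_fintype_card, hcard]
  obtain ⟨⟨S, hSC⟩, hconj⟩ := Cfsg.Agent.S3279.result x hx h3
  have hSS : (S : Subgroup G) = S₀ := by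
    have h1 : (S : Subgroup G) ≤ S₀ := by
      intro s hs'
      obtain ⟨k, hk'⟩ := S.isPGroup' ⟨s, hs'⟩
      exact htwo s (hSC hs') k (by simpa using congrArg Subtype.val hk')
    exact (S.is_maximal' hp₀ h1).symm
  obtain ⟨a, haS, hax1, ha1⟩ : ∃ a ∈ S₀, a ≠ x ∧ a ≠ 1 := by
    by_contra h
    push Not at h
    have hle' : S₀ ≤ Subgroup.zpowers x := fun s hs' => by
      by_cases h1 : s = x
      · rw [h1]; exact Subgroup.mem_zpowers x
      · rw [h s hs' h1]; exact Subgroup.one_mem _
    have := Subgroup.card_le_of_le hle'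
    rw [hcard, Nat.card_zpowers, hx] at this
    omega
  have ha : orderOf a = 2 := orderOf_eq_prime (by rw [pow_two]; exact hsq a haS) ha1
  have hax : Commute a x := Subgroup.mem_centralizer_singleton_iff.1 (hle haS)
  have hb : orderOf (x * a) = 2 := order_mul hx ha hax.symm hax1.symm
  have hmem : ∀ s, s ∈ S₀ ↔ (s = 1 ∨ s = x ∨ s = a ∨ s = x * a) := by
    intro s
    constructor
    · intro hs'
      by_cases h1 : s = 1
      · exact Or.inl h1
      exact Or.inr (Cfsg.Agent.S3279.involutions_centralizer hx ha hax hax1 h3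
        (orderOf_eq_prime (by rw [pow_two]; exact hsq s hs') h1)
        (Subgroup.mem_centralizer_singleton_iff.1 (hle hs')))
    · rintro (rfl | rfl | rfl | rfl)
      exacts [S₀.one_mem, hxS, haS, S₀.mul_mem hxS haS]
  -- C centralises S₀
  have hcentA : ∀ c ∈ C, Commute c a := by
    intro c hc
    have hcon : ∀ e ∈ C, e * a * e⁻¹ ∈ S₀ := by
      intro e he
      have := hn.conj_mem (⟨a, hle haS⟩ : C) (Subgroup.mem_subgroupOf.2 haS) ⟨e, he⟩
      exact Subgroup.mem_subgroupOf.1 this
    have hcases : ∀ e ∈ C, e * a * e⁻¹ = a ∨ e * a * e⁻¹ = x * a := by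
      intro e he
      rcases (hmem _).1 (hcon e he) with h | h | h | h
      · exact absurd (conj_eq_one_iff.1 h) ha1
      · exfalso
        apply hax1
        have hex : Commute e x := Subgroup.mem_centralizer_singleton_iff.1 he
        have h' : a = e⁻¹ * x * e := by rw [← h]; group
        rw [h', mul_assoc, ← hex.eq, inv_mul_cancel_left]
      · exact Or.inl h
      · exact Or.inr h
    have hsquare : Commute (c * c) a := by
      refine mul_inv_eq_iff_eq_mul.1 ?_
      rw [show c * c * a * (c * c)⁻¹ = c * (c * a * c⁻¹) * c⁻¹ by group]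
      rcases hcases c hc with h | h
      · rw [h, h]
      · have hcx : c * x * c⁻¹ = x := by
          rw [Subgroup.mem_centralizer_singleton_iff.1 hc, mul_inv_cancel_right]
        rw [h, show c * (x * a) * c⁻¹ = (c * x * c⁻¹) * (c * a * c⁻¹) by group, hcx, h, ← mul_assoc,
          inv_mul_self_eq hx, one_mul]
    obtain ⟨j, hj⟩ := hk
    have hck : c ^ (2 * j + 1) ∈ S₀ := by
      have h : (QuotientGroup.mk (⟨c, hc⟩ : C) : C ⧸ S₁) ^ (2 * j + 1) = 1 := by rw [← hj]; exact pow_card_eq_one'
      rw [← QuotientGroup.mk_pow] at h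
      simpa using Subgroup.mem_subgroupOf.1 ((QuotientGroup.eq_one_iff _).1 h)
    have h1 : Commute (c ^ (2 * j + 1)) a := by
      rcases (hmem _).1 hck with h | h | h | h <;> rw [h]
      exacts [Commute.one_left a, hax.symm, hax.symm.mul_left (Commute.refl a)]
    have h2 : Commute (((c * c) ^ j)⁻¹ * c ^ (2 * j + 1)) a := (hsquare.pow_left j).inv_left.mul_left h1
    rwa [← pow_two, ← pow_mul, pow_succ, inv_mul_cancel_left] at h2
  have hSC' : ∀ c ∈ C, ∀ s ∈ S₀, Commute s c := by
    intro c hc s hs'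
    have hcx : Commute c x := Subgroup.mem_centralizer_singleton_iff.1 hc
    rcases (hmem s).1 hs' with rfl | rfl | rfl | rfl
    exacts [Commute.one_left c, hcx.symm, (hcentA c hc).symm, (hcx.mul_right (hcentA c hc)).symm]
  -- the complement
  obtain ⟨D₁, hD₁⟩ : ∃ D₁ : Subgroup C, Subgroup.IsComplement' S₁ D₁ := by
    refine Subgroup.exists_right_complement'_of_coprime ?_
    rw [Nat.card_congr (Subgroup.subgroupOfEquivOfLe hle).toEquiv, hcard, Subgroup.index_eq_card]
    exact (Nat.coprime_two_left.2 hk).pow_left 2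
  have hDcard : Nat.card D₁ = Nat.card (C ⧸ S₁) := by
    rw [← Subgroup.index_eq_card, hD₁.symm.index_eq_card]
  set D := D₁.map C.subtype with hDdef
  have hDC : D ≤ C := Subgroup.map_subtype_le D₁
  have hdec : ∀ c : G, c ∈ C → ∃ s ∈ S₀, ∃ d ∈ D, c = s * d := by
    intro c hc
    obtain ⟨⟨s, d⟩, hsd⟩ := hD₁.2 ⟨c, hc⟩
    exact ⟨((s : C) : G), Subgroup.mem_subgroupOf.1 s.2, ((d : C) : G), ⟨d, d.2, rfl⟩,
      (congrArg Subtype.val hsd).symm⟩
  have hDodd : Odd (Nat.card D) := by
    rw [hDdef, Subgroup.card_map_of_injective C.subtype_injective, hDcard]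
    exact hk
  have hDpow : ∀ y : G, y ∈ C → y ^ Nat.card D = 1 → y ∈ D := by
    intro y hy hyk
    obtain ⟨s, hs', d, hd, rfl⟩ := hdec y hy
    obtain ⟨j, hj⟩ := hDodd
    rw [(hSC' d (hDC hd) s hs').mul_pow, Setup.pow_card hd, mul_one, hj, pow_succ, pow_mul, pow_two,
      hsq s hs', one_pow, one_mul] at hyk
    rw [hyk, one_mul]
    exact hd
  -- an element moving x to a
  obtain ⟨g, hg⟩ := isConj_iff.1 (hconj x a hx ha)
  have hcardC : ∀ u : G, orderOf u = 2 → (∀ c ∈ C, Commute c u) →
      Subgroup.centralizer ({u} : Set G) = C := by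
    intro u hu hcu
    obtain ⟨k, hk'⟩ := isConj_iff.1 (hconj u x hu hx)
    symm
    refine Subgroup.eq_of_le_of_card_ge (fun c hc => Subgroup.mem_centralizer_singleton_iff.2 (hcu c hc)) ?_
    refine Nat.card_le_card_of_injective (fun c => (⟨k * c * k⁻¹, ?_⟩ : C)) ?_
    · refine Subgroup.mem_centralizer_singleton_iff.2 ?_
      have h := commute_conj k (Subgroup.mem_centralizer_singleton_iff.1 c.2 : Commute (c : G) u)
      rw [hk'] at h
      exact h.eq
    · intro c e h
      exact Subtype.ext (mul_left_cancel (mul_right_cancel (congrArg Subtype.val h)))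
  have hCa : Subgroup.centralizer ({a} : Set G) = C := hcardC a ha hcentA
  have hCb : Subgroup.centralizer ({x * a} : Set G) = C := hcardC _ hb fun c hc =>
    have h : Commute c x := Subgroup.mem_centralizer_singleton_iff.1 hc
    h.mul_right (hcentA c hc)
  have hgC : ∀ c ∈ C, g * c * g⁻¹ ∈ C := by
    intro c hc
    rw [← hCa]
    refine Subgroup.mem_centralizer_singleton_iff.2 ?_
    have h := commute_conj g (Subgroup.mem_centralizer_singleton_iff.1 hc : Commute c x)
    rw [hg] at h
    exact h.eq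
  have hgS : ∀ s ∈ S₀, g * s * g⁻¹ ∈ S₀ := by
    intro s hs'
    refine hinv2 _ (hgC s (hle hs')) ?_
    rw [show g * s * g⁻¹ * (g * s * g⁻¹) = g * (s * s) * g⁻¹ by group, hsq s hs']
    group
  have hga : g * a * g⁻¹ = x * a := by
    rcases (hmem _).1 (hgS a haS) with h | h | h | h
    · exact absurd (conj_eq_one_iff.1 h) ha1
    · exfalso
      -- g would centralise x * a, hence x
      have hgb : g * (x * a) * g⁻¹ = x * a := by
        rw [show g * (x * a) * g⁻¹ = (g * x * g⁻¹) * (g * a * g⁻¹) by group, hg, h, hax.eq]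
      have : g ∈ C := by
        rw [← hCb]
        exact Subgroup.mem_centralizer_singleton_iff.2 (mul_inv_eq_iff_eq_mul.1 hgb)
      apply hax1
      rw [← hg, Subgroup.mem_centralizer_singleton_iff.1 this, mul_inv_cancel_right]
    · exfalso
      apply hax1
      have := congrArg (fun t => g⁻¹ * t * g) (h.trans hg.symm)
      simpa [mul_assoc] using this
    · exact h
  refine ⟨a, g, D, S, ?_⟩
  exact
    { ox := hx, oa := ha, hax := hax, hne := hax1
      memS := fun s => by rw [hSS]; exact hmem s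
      cent := fun c hc => by
        rw [hSS]; exact hdec c (Subgroup.mem_centralizer_singleton_iff.2 hc)
      comm := fun s hs' d hd => hSC' d (hDC hd) s (hSS ▸ hs')
      odd := hDodd, gx := hg, ga := hga
      gD := fun d hd => hDpow _ (hgC d (hDC hd)) (by rw [conj_pow, Setup.pow_card hd]; group)
      allConj := hconj }

/-- Arithmetic of the degrees of the exceptional characters. -/
theorem degree_bound (s t r a b c : ℤ) (hs : s = 1 ∨ s = -1) (ht : t = 1 ∨ t = -1) (hr : r = 1 ∨ r = -1)
    (ha : 4 ∣ a + 3 * s) (hb : 4 ∣ b + 3 * t) (hc : 4 ∣ c + 3 * r) (ha' : a ≠ s) (hb' : b ≠ t)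
    (hc' : c ≠ r) (ha0 : 0 < a) (hb0 : 0 < b) (hc0 : 0 < c)
    (hsum : 1 + s * a + t * b + r * c = 0) :
    (8 : ℚ) / 21 < 1 + s / a + t / b + r / c := by
  have key : ∀ a b c : ℤ, 3 ≤ a → a % 4 = 3 → 3 ≤ b → b % 4 = 3 → c = a + b - 1 →
      (8 : ℚ) / 21 < 1 - 1 / a - 1 / b + 1 / c := by
    intro a b c ha ha4 hb hb4 hc
    have haq : (0 : ℚ) < a := by exact_mod_cast (show (0 : ℤ) < a by omega)
    have hbq : (0 : ℚ) < b := by exact_mod_cast (show (0 : ℤ) < b by omega)
    have hcq : (0 : ℚ) < c := by exact_mod_cast (show (0 : ℤ) < c by omega)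
    have small : ∀ b c : ℤ, 3 ≤ b → c = b + 2 → (8 : ℚ) / 21 < 1 - 1 / 3 - 1 / b + 1 / c := by
      intro b c hb hc
      have hbq : (3 : ℚ) ≤ b := by exact_mod_cast hb
      subst hc
      push_cast
      have h1 : (1 : ℚ) / b - 1 / (b + 2) ≤ 2 / 15 := by
        rw [div_sub_div _ _ (by linarith) (by linarith), div_le_div_iff₀ (by nlinarith) (by norm_num)]
        nlinarith
      linarith
    by_cases h3 : a = 3
    · subst h3
      have := small b c hb (by omega)
      push_cast
      linarith
    by_cases h3' : b = 3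
    · subst h3'
      have := small a c ha (by omega)
      push_cast
      linarith
    have ha7 : (7 : ℚ) ≤ a := by exact_mod_cast (show (7 : ℤ) ≤ a by omega)
    have hb7 : (7 : ℚ) ≤ b := by exact_mod_cast (show (7 : ℤ) ≤ b by omega)
    have e1 : (1 : ℚ) / a ≤ 1 / 7 := one_div_le_one_div_of_le (by norm_num) ha7
    have e2 : (1 : ℚ) / b ≤ 1 / 7 := one_div_le_one_div_of_le (by norm_num) hb7
    have e3 : (0 : ℚ) < 1 / c := by positivity
    linarith
  have haq : (0 : ℚ) < a := by exact_mod_cast ha0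
  have hbq : (0 : ℚ) < b := by exact_mod_cast hb0
  have hcq : (0 : ℚ) < c := by exact_mod_cast hc0
  have bnd : ∀ w : ℤ, 4 ∣ w + 3 * (-1 : ℤ) → 0 < w → (1 : ℚ) / w ≤ 1 / 3 := by
    intro w hw hw0
    have : (3 : ℚ) ≤ w := by exact_mod_cast (show (3 : ℤ) ≤ w by omega)
    exact one_div_le_one_div_of_le (by norm_num) this
  have p1 : (0 : ℚ) < 1 / a := by positivity
  have p2 : (0 : ℚ) < 1 / b := by positivity
  have p3 : (0 : ℚ) < 1 / c := by positivity
  rcases hs with rfl | rfl <;> rcases ht with rfl | rfl <;> rcases hr with rfl | rfl <;>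
    push_cast <;> ring_nf at hsum ⊢
  · omega
  · have := bnd c hc hc0; simp only [one_div] at *; linarith
  · have := bnd b hb hb0; simp only [one_div] at *; linarith
  · have := key b c a (by omega) (by omega) (by omega) (by omega) (by omega)
    simp only [one_div] at *; linarith
  · have := bnd a ha ha0; simp only [one_div] at *; linarith
  · have := key a c b (by omega) (by omega) (by omega) (by omega) (by omega)
    simp only [one_div] at *; linarith
  · have := key a b c (by omega) (by omega) (by omega) (by omega) (by omega)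
    simp only [one_div] at *; linarith
  · omega

open scoped Classical in
/-- The number of involutions is at most 20. -/
theorem card_involutions_lt {G : Type*} [Group G] [Fintype G] [IsSimpleGroup G] {x a g : G}
    {D : Subgroup G} {S : Sylow 2 G} (hs : Setup x a g D S) :
    (Finset.univ.filter fun u : G => orderOf u = 2).card < 21 := by
  obtain ⟨v, hvo, hv4, hV, hF, hval⟩ := exceptional hs
  set I := Finset.univ.filter fun u : G => orderOf u = 2 with hI
  have hIn : 0 < I.card := Finset.card_pos.2 ⟨x, Finset.mem_filter.2 ⟨Finset.mem_univ _, hs.ox⟩⟩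
  -- the left hand side
  have hLHS : ∀ u ∈ I, ∑ w ∈ I, excFun x D (fun _ => 1) (u * w) = 8 := by
    intro u hu
    have hu2 : orderOf u = 2 := (Finset.mem_filter.1 hu).2
    obtain ⟨c, hc⟩ := isConj_iff.1 (hs.allConj x u hs.ox hu2)
    have hone : ∀ y : G, orderOf y = 2 → excFun x D (fun _ => 1) y = 4 := by
      intro y hy
      obtain ⟨k, hk⟩ := isConj_iff.1 (hs.allConj x y hs.ox hy)
      rw [← hk, isClassFunction_excFun (x := x) (D := D) _ x k]
      have := excFun_apply hs (ψ := fun _ => 1) (fun _ _ => rfl) 1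
      simpa using this
    have hsupp : ∀ w ∈ I, excFun x D (fun _ => 1) (u * w) =
        if w = c * a * c⁻¹ ∨ w = c * (x * a) * c⁻¹ then 4 else 0 := by
      intro w hw
      have hw2 : orderOf w = 2 := (Finset.mem_filter.1 hw).2
      split_ifs with h
      · apply hone
        rw [← hc]
        rcases h with h | h <;> rw [h]
        · rw [show c * x * c⁻¹ * (c * a * c⁻¹) = c * (x * a) * c⁻¹ by group, order_conj]
          exact order_mul hs.ox hs.oa hs.hax.symm hs.hne.symm
        · rw [show c * x * c⁻¹ * (c * (x * a) * c⁻¹) = c * (x * x * a) * c⁻¹ by group, order_conj,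
            inv_mul_self_eq hs.ox, one_mul, hs.oa]
      · by_contra hne
        apply h
        obtain ⟨z, hz, hzc⟩ := exists_involution_of_excFun_ne_zero hs _ hne
        have hinv : u * (u * w) * u⁻¹ = (u * w)⁻¹ := by
          rw [mul_inv_rev, inv_eq hu2, inv_eq hw2, ← mul_assoc, inv_mul_self_eq hu2, one_mul]
        have hsq := no_involution_commutes hs hu2 hz hzc hinv
        have huw : Commute w u := by
          show w * u = u * w
          calc w * u = (u * w)⁻¹ := by rw [mul_inv_rev, inv_eq hu2, inv_eq hw2]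
            _ = u * w := inv_eq_of_mul_eq_one_right hsq
        have hwx : Commute (c⁻¹ * w * c) x := by
          have h' := commute_conj c⁻¹ huw
          rw [← hc] at h'
          simpa [mul_assoc] using h'
        have hw' : orderOf (c⁻¹ * w * c) = 2 := by
          have := order_conj c⁻¹ w
          rw [inv_inv] at this; rw [this, hw2]
        obtain ⟨s, hs', d, hd, hsd⟩ := hs.cent _ hwx
        have hp := Setup.pow_card_mul hs hs' hd
        obtain ⟨k, hk⟩ := hs.odd
        rw [← hsd, hk, pow_succ, pow_mul, pow_two, inv_mul_self_eq hw', one_pow, one_mul] at hp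
        have hback : w = c * (c⁻¹ * w * c) * c⁻¹ := by group
        rcases (hs.memS s).1 hs' with h' | h' | h' | h'
        · exact absurd (hp.trans h') (inv_ne_one hw')
        · exfalso
          rw [hback, hp.trans h', hc] at hne
          rw [inv_mul_self_eq hu2] at hne
          exact hne (excFun_zero_of_mem hs _ D.one_mem)
        · exact Or.inl (by rw [hback, hp.trans h'])
        · exact Or.inr (by rw [hback, hp.trans h'])
    rw [Finset.sum_congr rfl hsupp, ← Finset.sum_filter, Finset.sum_const]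
    have hfilt : I.filter (fun w => w = c * a * c⁻¹ ∨ w = c * (x * a) * c⁻¹) =
        {c * a * c⁻¹, c * (x * a) * c⁻¹} := by
      ext w
      simp only [Finset.mem_filter, Finset.mem_univ, true_and, Finset.mem_insert, Finset.mem_singleton, I]
      refine ⟨fun h => h.2, fun h => ⟨?_, h⟩⟩
      rcases h with h | h <;> rw [h, order_conj]
      · exact hs.oa
      · exact order_mul hs.ox hs.oa hs.hax.symm hs.hne.symm
    rw [hfilt, Finset.card_pair (fun h => inv_ne_one hs.ox (by simpa using h))]
    norm_num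
  have hmain : (8 : ℂ) * I.card = ∑ χ, (v χ : ℂ) *
      (((I.card : ℂ) * (χ : G → ℂ) x) ^ 2 / (χ : G → ℂ) 1) := by
    have h1 : ∑ u ∈ I, ∑ w ∈ I, excFun x D (fun _ => 1) (u * w) = (8 : ℂ) * I.card := by
      rw [Finset.sum_congr rfl hLHS, Finset.sum_const, nsmul_eq_mul, mul_comm]
    rw [← h1]
    simp only [hF, Finset.sum_apply, Pi.smul_apply, smul_eq_mul]
    rw [Finset.sum_congr rfl fun u _ => Finset.sum_comm, Finset.sum_comm]
    refine Finset.sum_congr rfl fun χ _ => ?_
    simp only [← Finset.mul_sum]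
    rw [sum_involution_pairs hs.allConj hs.ox χ]
  have hzero : ∑ χ, (v χ : ℂ) * (χ : G → ℂ) 1 = 0 := by
    have h := congrFun hF 1
    rw [excFun_zero_of_mem hs _ D.one_mem] at h
    simpa using h.symm
  -- the three non-trivial constituents
  set o := Cfsg.Agent.CharBasicDecomp.trivIrr G
  set V := Finset.univ.filter fun χ : Cfsg.IrrCharacter G => χ ≠ o ∧ v χ ≠ 0
  have hVone : ∀ χ ∈ V, v χ = 1 ∨ v χ = -1 := by
    intro χ hχ
    obtain ⟨h1, h2⟩ := (Finset.mem_filter.1 hχ).2
    have := hV χ h1
    have : -1 ≤ v χ ∧ v χ ≤ 1 := by constructor <;> nlinarith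
    omega
  have hV3 : V.card = 3 := by
    have h := hv4
    rw [← Finset.add_sum_erase _ _ (Finset.mem_univ o), hvo] at h
    have h2 : ∑ i ∈ Finset.univ.erase o, v i * v i = ∑ i ∈ V, (1 : ℤ) := by
      rw [← Finset.sum_subset (s₁ := V) (s₂ := Finset.univ.erase o)]
      · exact Finset.sum_congr rfl fun i hi => by rcases hVone i hi with h | h <;> rw [h] <;> rfl
      · exact fun i hi => Finset.mem_erase.2 ⟨(Finset.mem_filter.1 hi).2.1, Finset.mem_univ _⟩
      · intro i hi hiV
        have : v i = 0 := by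
          by_contra hne
          exact hiV (Finset.mem_filter.2 ⟨Finset.mem_univ _, (Finset.mem_erase.1 hi).1, hne⟩)
        simp [this]
    rw [h2] at h
    simp at h
    omega
  obtain ⟨A, B, C, hAB, hAC, hBC, hVeq⟩ := Finset.card_eq_three.1 hV3
  have hsplit : ∀ f : Cfsg.IrrCharacter G → ℂ, (∀ χ, v χ = 0 → f χ = 0) →
      ∑ χ, f χ = f o + f A + f B + f C := by
    intro f hf
    rw [← Finset.add_sum_erase _ _ (Finset.mem_univ o), ← Finset.sum_subset (s₁ := V)
      (fun i hi => Finset.mem_erase.2 ⟨(Finset.mem_filter.1 hi).2.1, Finset.mem_univ _⟩)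
      (fun i hi hiV => hf i (by
        by_contra hne
        exact hiV (Finset.mem_filter.2 ⟨Finset.mem_univ _, (Finset.mem_erase.1 hi).1, hne⟩))),
      hVeq, Finset.sum_insert (by simp [hAB, hAC]), Finset.sum_pair hBC]
    ring
  have hdeg : ∀ χ ∈ V, ∃ n : ℤ, 0 < n ∧ (χ : G → ℂ) 1 = (n : ℂ) ∧ 4 ∣ n + 3 * v χ ∧ n ≠ v χ := by
    intro χ hχ
    obtain ⟨h1, h2⟩ := (Finset.mem_filter.1 hχ).2
    obtain ⟨n, hn0, hn⟩ := Cfsg.Agent.CharBasic.isIrrCharacter_apply_one χ.2
    have hchar := Cfsg.Agent.CharBasic.isCharacter_of_isIrrCharacter χ.2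
    have hx := hval χ h1 h2
    refine ⟨n, by exact_mod_cast hn0, by rw [hn]; simp, ?_, ?_⟩
    · obtain ⟨m, hm⟩ := Cfsg.Agent.CharBasicOrth.classInner_isCharacter
        (Cfsg.Agent.CharBasic.isCharacter_comap (S : Subgroup G).subtype hchar)
        (Cfsg.Agent.CharBasicDecomp.isCharacter_one (G := ↥(S : Subgroup G)))
      simp only [Cfsg.classInner, map_one, mul_one, Subgroup.coe_subtype, Function.comp_apply] at hm
      rw [sum_sylow hs (fun t => (χ : G → ℂ) t), card_sylow hs] at hm
      have hall : ∀ y : G, orderOf y = 2 → (χ : G → ℂ) y = (v χ : ℂ) := fun y hy => by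
        rw [← hx]
        exact Cfsg.Agent.CharBasic.apply_eq_of_isConj
          (Cfsg.Agent.CharBasic.isClassFunction_of_isCharacter hchar) (hs.allConj y x hy hs.ox)
      rw [hn, hall x hs.ox, hall a hs.oa, hall _ (order_mul hs.ox hs.oa hs.hax.symm hs.hne.symm)] at hm
      refine ⟨m, ?_⟩
      have : (((n : ℤ) + 3 * v χ : ℤ) : ℂ) = ((4 * (m : ℤ) : ℤ) : ℂ) := by
        push_cast; linear_combination 4 * hm
      exact Int.cast_injective this
    · intro hnv
      have hker : x ∈ Cfsg.Agent.CharBasicLinear.charKer _ hchar := by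
        show (χ : G → ℂ) x = (χ : G → ℂ) 1
        rw [hx, hn, ← hnv]; simp
      rcases (Cfsg.Agent.CharBasicLinear.charKer_normal _ hchar).eq_bot_or_eq_top with h | h
      · exact inv_ne_one hs.ox (by simpa [h] using hker)
      · have hconst : ∀ y, (χ : G → ℂ) y = (n : ℂ) := fun y => by
          rw [← hn]
          exact (h ▸ Subgroup.mem_top y : y ∈ Cfsg.Agent.CharBasicLinear.charKer _ hchar)
        have h0 := Cfsg.Agent.CharBasicOrth.classInner_irr_ne χ.2 Cfsg.Agent.CharBasicDecomp.isIrrCharacter_one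
          (fun h => h1 (Subtype.ext h))
        simp [Cfsg.classInner, hconst, Nat.pos_iff_ne_zero.1 hn0] at h0
  have hA : A ∈ V := by simp [hVeq]
  have hB : B ∈ V := by simp [hVeq]
  have hC : C ∈ V := by simp [hVeq]
  obtain ⟨na, ha0, ha1, ha4, hane⟩ := hdeg A hA
  obtain ⟨nb, hb0, hb1, hb4, hbne⟩ := hdeg B hB
  obtain ⟨nc, hc0, hc1, hc4, hcne⟩ := hdeg C hC
  have ho1 : ∀ y : G, (o : G → ℂ) y = 1 := fun y => rfl
  rw [hsplit _ (fun χ h => by simp [h]), hvo, ho1, ha1, hb1, hc1] at hzero
  rw [hsplit _ (fun χ h => by simp [h]), hvo, ho1, ho1, ha1, hb1, hc1,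
    hval A (Finset.mem_filter.1 hA).2.1 (Finset.mem_filter.1 hA).2.2,
    hval B (Finset.mem_filter.1 hB).2.1 (Finset.mem_filter.1 hB).2.2,
    hval C (Finset.mem_filter.1 hC).2.1 (Finset.mem_filter.1 hC).2.2] at hmain
  have hsum : 1 + v A * na + v B * nb + v C * nc = 0 := by
    have : (((1 + v A * na + v B * nb + v C * nc : ℤ)) : ℂ) = ((0 : ℤ) : ℂ) := by
      push_cast at hzero ⊢
      linear_combination hzero
    exact Int.cast_injective this
  have hbound := degree_bound _ _ _ na nb nc (hVone A hA) (hVone B hB) (hVone C hC) ha4 hb4 hc4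
    hane hbne hcne ha0 hb0 hc0 hsum
  have hcube : ∀ χ ∈ V, (v χ : ℂ) * (v χ : ℂ) ^ 2 = (v χ : ℂ) := fun χ hχ => by
    rcases hVone χ hχ with h | h <;> rw [h] <;> norm_num
  have hmain' : ((8 : ℚ) : ℂ) = (((I.card : ℚ) * (1 + v A / na + v B / nb + v C / nc) : ℚ) : ℂ) := by
    have hI0 : (I.card : ℂ) ≠ 0 := Nat.cast_ne_zero.2 hIn.ne'
    have := hmain
    simp only [mul_pow, ← mul_div_assoc, ← mul_assoc, mul_comm _ ((I.card : ℂ) ^ 2)] at this
    simp only [mul_assoc, hcube A hA, hcube B hB, hcube C hC] at this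
    push_cast at this ⊢
    refine mul_left_cancel₀ hI0 ?_
    linear_combination this
  have hq : (8 : ℚ) = (I.card : ℚ) * (1 + v A / na + v B / nb + v C / nc) :=
    Rat.cast_injective (α := ℂ) hmain'
  by_contra hcon
  push Not at hcon
  have : (21 : ℚ) ≤ I.card := by exact_mod_cast hcon
  nlinarith


/-- Let G be a finite simple group with an involution x such that a Sylow 2-subgroup of C_G(x) is a Klein four-group which is normal in C_G(x). Then G is isomorphic to the alternating group of degree 5 (that is, to PSL(2, 5)). -/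
theorem result {G : Type*} [Group G] [Finite G] [IsSimpleGroup G] (x : G) (hx : orderOf x = 2)
    (S₀ : Subgroup G) (hle : S₀ ≤ Subgroup.centralizer ({x} : Set G)) (hK : IsKleinFour ↥S₀)
    (hodd : ¬ 2 ∣ S₀.relIndex (Subgroup.centralizer ({x} : Set G))) (hn : (S₀.subgroupOf (Subgroup.centralizer ({x} : Set G))).Normal) :
    Nonempty (G ≃* ↥(alternatingGroup (Fin 5))) := by
  classical
  obtain ⟨a, g, D, S, hs⟩ := exists_setup x hx S₀ hle hK hodd hn
  haveI : Fact (Nat.Prime 2) := ⟨Nat.prime_two⟩
  haveI := Fintype.ofFinite G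
  have hb := order_mul hs.ox hs.oa hs.hax.symm hs.hne.symm
  have hnG := card_involutions_lt hs
  set I := Finset.univ.filter fun u : G => orderOf u = 2 with hI
  have hS4 : Nat.card (S : Subgroup G) = 4 := by
    have h := card_sylow hs
    exact_mod_cast h
  -- every involution lies in exactly one Sylow subgroup
  haveI := Fintype.ofFinite (Sylow 2 G)
  let P : Sylow 2 G → Finset G := fun T => (Finset.univ.filter fun v => v ∈ (T : Subgroup G)).erase 1
  have hP : ∀ T, (P T).card = 3 := fun T => by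
    have hT4 : Nat.card ↥(T : Subgroup G) = 4 := by
      rw [← hS4]; exact Nat.card_congr (Sylow.equiv T S).toEquiv
    rw [Finset.card_erase_of_mem (by simp), ← Fintype.card_subtype, ← Nat.card_eq_fintype_card,
      show Nat.card {v // v ∈ (T : Subgroup G)} = 4 from hT4]
  have hPo : ∀ T, ∀ v ∈ P T, orderOf v = 2 := by
    intro T v hv
    simp only [P, Finset.mem_erase, Finset.mem_filter, Finset.mem_univ, true_and] at hv
    obtain ⟨h, hh⟩ := MulAction.exists_smul_eq G S T
    have hv2 := hv.2
    rw [← hh, Sylow.coe_subgroup_smul, Subgroup.mem_pointwise_smul_iff_inv_smul_mem] at hv2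
    have h2 := hs.sq hv2
    refine orderOf_eq_prime ?_ hv.1
    have h' := congrArg (fun t => h * t * h⁻¹) h2
    simpa [MulAut.smul_def, pow_two, mul_assoc] using h'
  -- a Sylow subgroup containing v is determined by v
  have hmemC : ∀ v : G, orderOf v = 2 → v ∈ (S : Subgroup G) → ∀ c : G, Commute c v → Commute c x := by
    intro v hv hvS c hc
    have hgb : g * (x * a) * g⁻¹ = x := by
      rw [show g * (x * a) * g⁻¹ = (g * x * g⁻¹) * (g * a * g⁻¹) by group, hs.gx, hs.ga, ← mul_assoc,
        hs.hax.eq, mul_assoc, inv_mul_self_eq hs.oa, mul_one]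
    -- conjugation by g preserves the centraliser of x
    have hpres : ∀ c, Commute c x → Commute (g * c * g⁻¹) x := by
      intro c hc
      obtain ⟨s, hs', d, hd, rfl⟩ := hs.cent c hc
      have hgs : Commute (g * s * g⁻¹) x := by
        rcases (hs.memS s).1 hs' with h | h | h | h <;> rw [h]
        · simp
        · rw [hs.gx]; exact hs.hax
        · rw [hs.ga]; exact (Commute.refl x).mul_left hs.hax
        · rw [hgb]
      have hgd : Commute (g * d * g⁻¹) x := (hs.comm x hs.xS _ (hs.gD d hd)).symm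
      rw [show g * (s * d) * g⁻¹ = (g * s * g⁻¹) * (g * d * g⁻¹) by group]
      exact hgs.mul_left hgd
    rcases (hs.memS v).1 hvS with h | h | h | h
    · exact absurd h (inv_ne_one hv)
    · exact h ▸ hc
    · -- c = g c' g⁻¹ with c' centralising x
      have h1 : Commute (g⁻¹ * c * g) x := by
        have := commute_conj g⁻¹ (h ▸ hc : Commute c a)
        rw [← hs.gx] at this
        simpa [mul_assoc] using this
      have := hpres _ h1
      simpa [mul_assoc] using this
    · have h2 : g * g * x * (g * g)⁻¹ = x * a := by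
        rw [show g * g * x * (g * g)⁻¹ = g * (g * x * g⁻¹) * g⁻¹ by group, hs.gx, hs.ga]
      have h1 : Commute ((g * g)⁻¹ * c * (g * g)) x := by
        have := commute_conj (g * g)⁻¹ (h ▸ hc : Commute c (x * a))
        rw [← h2] at this
        simpa [mul_assoc] using this
      have := hpres _ (hpres _ h1)
      simpa [mul_assoc] using this
  have hunique : ∀ T : Sylow 2 G, ∀ v, orderOf v = 2 → v ∈ (S : Subgroup G) → v ∈ (T : Subgroup G) →
      T = S := by
    intro T v hv hvS hvT
    refine (Sylow.ext (S.is_maximal' T.isPGroup' ?_).symm).symm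
    exact le_of_eq (by
      symm
      refine Subgroup.eq_of_le_of_card_ge ?_ (by
        rw [Nat.card_congr (Sylow.equiv T S).toEquiv])
      intro t ht
      by_cases ht1 : t = 1
      · rw [ht1]; exact Subgroup.one_mem _
      have ht2 : orderOf t = 2 := hPo T t (by simp [P, ht1, ht])
      have hcomm : Commute t v := by
        haveI : Fact (Nat.Prime 2) := ⟨Nat.prime_two⟩
        have hp : (T : Subgroup G).carrier.Nonempty := ⟨1, (T : Subgroup G).one_mem⟩
        by_cases htv : t * v = 1
        · show t * v = v * t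
          rw [htv, eq_inv_of_mul_eq_one_left htv, mul_inv_cancel]
        · have h3 := inv_mul_self_eq (hPo T (t * v) (by simp [P, htv, (T : Subgroup G).mul_mem ht hvT]))
          show t * v = v * t
          calc t * v = (t * v)⁻¹ := (inv_eq_of_mul_eq_one_right h3).symm
            _ = v * t := by rw [mul_inv_rev, inv_eq ht2, inv_eq hv]
      obtain ⟨s, hs', d, hd, rfl⟩ := hs.cent t (hmemC v hv hvS t hcomm)
      have hp := Setup.pow_card_mul hs hs' hd
      obtain ⟨k, hk⟩ := hs.odd
      rw [hk, pow_succ, pow_mul, pow_two, inv_mul_self_eq ht2, one_pow, one_mul] at hp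
      rw [hp]; exact hs')
  have hn3 : I.card = 3 * Nat.card (Sylow 2 G) := by
    have hu : Finset.univ.biUnion P = I := by
      ext v
      simp only [Finset.mem_biUnion, Finset.mem_univ, true_and, hI, Finset.mem_filter]
      refine ⟨fun ⟨T, hT⟩ => hPo T v hT, fun hv => ?_⟩
      have hp : IsPGroup 2 (Subgroup.zpowers v) := by
        refine IsPGroup.of_card (n := 1) ?_
        rw [Nat.card_zpowers, hv, pow_one]
      obtain ⟨T, hT⟩ := hp.exists_le_sylow
      exact ⟨T, by simp [P, inv_ne_one hv, hT (Subgroup.mem_zpowers v)]⟩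
    rw [← hu, Finset.card_biUnion, Finset.sum_congr rfl (fun T _ => hP T), Finset.sum_const,
      Finset.card_univ, ← Nat.card_eq_fintype_card, smul_eq_mul, mul_comm]
    intro T _ T' _ hne'
    rw [Function.onFun, Finset.disjoint_left]
    intro v hv hv'
    have h2 := hPo T v hv
    simp only [P, Finset.mem_erase, Finset.mem_filter, Finset.mem_univ, true_and] at hv hv'
    obtain ⟨h, hh⟩ := MulAction.exists_smul_eq G S T
    have hvS : h⁻¹ * v * h ∈ (S : Subgroup G) := by
      have h1 := hv.2
      rw [← hh, Sylow.coe_subgroup_smul, Subgroup.mem_pointwise_smul_iff_inv_smul_mem] at h1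
      simpa [MulAut.smul_def, mul_assoc] using h1
    have hvT : h⁻¹ * v * h ∈ ((h⁻¹ • T' : Sylow 2 G) : Subgroup G) := by
      rw [Sylow.coe_subgroup_smul, Subgroup.mem_pointwise_smul_iff_inv_smul_mem]
      simpa [MulAut.smul_def, mul_assoc] using hv'.2
    have := hunique (h⁻¹ • T') _ (by
      have := order_conj h⁻¹ v
      rw [inv_inv] at this; rw [this, h2]) hvS hvT
    apply hne'
    rw [← hh, ← this, smul_inv_smul]
  -- |G| = 4 |D| n
  have hCcard : Nat.card ↥(Subgroup.centralizer ({x} : Set G)) = 4 * Nat.card D := by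
    rw [← hS4, ← Nat.card_prod]
    refine (Nat.card_congr (Equiv.ofBijective (fun p : ↥(S : Subgroup G) × ↥D =>
      (⟨(p.1 : G) * p.2, Subgroup.mem_centralizer_singleton_iff.2 ?_⟩ :
        ↥(Subgroup.centralizer ({x} : Set G)))) ⟨?_, ?_⟩)).symm
    · have h1 : Commute (p.1 : G) x := by
        rcases (hs.memS _).1 p.1.2 with h | h | h | h <;> rw [h]
        exacts [Commute.one_left x, hs.hax, (Commute.refl x).mul_left hs.hax]
      exact (h1.mul_left (hs.comm x hs.xS _ p.2.2).symm).eq
    · intro p q h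
      have h' : (p.1 : G) * p.2 = q.1 * q.2 := congrArg Subtype.val h
      have h1 : (p.1 : G) = q.1 := by
        rw [← Setup.pow_card_mul hs p.1.2 p.2.2, ← Setup.pow_card_mul hs q.1.2 q.2.2, h']
      refine Prod.ext (Subtype.ext h1) (Subtype.ext ?_)
      rw [h1] at h'
      exact mul_left_cancel h'
    · rintro ⟨c, hc⟩
      obtain ⟨s, hs', d, hd, rfl⟩ := hs.cent c (Subgroup.mem_centralizer_singleton_iff.1 hc)
      exact ⟨(⟨s, hs'⟩, ⟨d, hd⟩), rfl⟩
  have hG : Nat.card G = 4 * Nat.card D * (3 * Nat.card (Sylow 2 G)) := by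
    rw [← hn3, ← Cfsg.Agent.CharBasicOrth.card_conj_mul_card_centralizer x, hCcard, mul_comm]
    congr 1
    rw [Nat.card_eq_fintype_card, Fintype.card_subtype]
    congr 1
    ext v
    simp only [Finset.mem_filter, Finset.mem_univ, true_and, hI]
    exact ⟨fun h => Cfsg.Agent.S3279.orderOf_eq_of_isConj hs.ox h, fun h => hs.allConj x v hs.ox h⟩
  -- the number of Sylow subgroups is one, three or five
  have hm1 : Nat.card (Sylow 2 G) ≠ 1 := by
    intro h1
    haveI : Subsingleton (Sylow 2 G) := (Nat.card_eq_one_iff_unique.1 h1).1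
    have hnorm := S.normal_of_subsingleton
    rcases hnorm.eq_bot_or_eq_top with h | h
    · exact inv_ne_one hs.ox (by simpa [h] using hs.xS)
    · have hle : (⊤ : Subgroup G) ≤ (S : Subgroup G) := h.ge
      have hxn : (Subgroup.zpowers x).Normal := by
        refine ⟨fun n hn y => ?_⟩
        have hy := hle (Subgroup.mem_top y)
        have hyx : Commute y x := by
          rcases (hs.memS _).1 hy with h | h | h | h <;> rw [h]
          exacts [Commute.one_left x, hs.hax, (Commute.refl x).mul_left hs.hax]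
        obtain ⟨k, rfl⟩ := hn
        rw [(hyx.zpow_right k).eq, mul_inv_cancel_right]
        exact ⟨k, rfl⟩
      rcases hxn.eq_bot_or_eq_top with h' | h'
      · exact inv_ne_one hs.ox (by simpa using h')
      · have := congrArg (fun H : Subgroup G => Nat.card H) h'
        simp only [Nat.card_zpowers, hs.ox, Subgroup.card_top] at this
        rw [hG, h1] at this
        have := Nat.card_pos (α := D)
        omega
  have hmodd : Nat.card (Sylow 2 G) % 2 = 1 := card_sylow_modEq_one 2 G
  have hm7 : Nat.card (Sylow 2 G) < 7 := by omega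
  -- faithful action
  let φ : G →* Equiv.Perm (Sylow 2 G) := MulAction.toPermHom G (Sylow 2 G)
  have hker : φ.ker = ⊥ := by
    refine φ.normal_ker.eq_bot_or_eq_top.resolve_right fun h => hm1 ?_
    haveI : Subsingleton (Sylow 2 G) := ⟨fun A B => by
      obtain ⟨k, rfl⟩ := MulAction.exists_smul_eq G A B
      exact (congrArg (fun e : Equiv.Perm (Sylow 2 G) => e A)
        (MonoidHom.mem_ker.1 (h ▸ Subgroup.mem_top k : k ∈ φ.ker))).symm⟩
    exact Nat.card_of_subsingleton S
  obtain h3 | h5 : Nat.card (Sylow 2 G) = 3 ∨ Nat.card (Sylow 2 G) = 5 := by omega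
  · exfalso
    have hle := Nat.card_le_card_of_injective φ ((MonoidHom.ker_eq_bot_iff φ).1 hker)
    rw [Nat.card_perm, h3, hG, h3, show Nat.factorial 3 = 6 from rfl] at hle
    have := Nat.card_pos (α := D)
    omega
  · let ψ : G →* Equiv.Perm (Fin 5) :=
      (Equiv.permCongrHom (Fintype.equivFinOfCardEq (by rw [← Nat.card_eq_fintype_card, h5]))).toMonoidHom.comp φ
    have hψ : Function.Injective ψ := by
      intro a b h
      simp only [ψ, MonoidHom.comp_apply] at h
      exact (MonoidHom.ker_eq_bot_iff φ).1 hker ((MulEquiv.injective _) h)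
    have hidx : ψ.range.index = 2 := by
      have h := ψ.range.card_mul_index
      rw [Nat.card_congr (MonoidHom.ofInjective hψ).toEquiv.symm, hG, h5, Nat.card_perm,
        Nat.card_fin, show Nat.factorial 5 = 120 from rfl] at h
      obtain ⟨k, hk⟩ := hs.odd
      rw [hk] at h
      have hd : 4 * (2 * k + 1) * (3 * 5) ∣ 120 := ⟨_, h.symm⟩
      have hk0 : k = 0 := by
        have hle := Nat.le_of_dvd (by norm_num) hd
        omega
      subst hk0
      omega
    exact ⟨(MonoidHom.ofInjective hψ).trans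
      (MulEquiv.subgroupCongr (Equiv.Perm.eq_alternatingGroup_of_index_eq_two hidx))⟩

end Cfsg.Agent.S3278
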