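import Mathlib
import Cfsg.Statements.S0202
import Cfsg.Agent.Lib.TransferTate

set_option autoImplicit false
open Cfsg

namespace Cfsg.Agent.S0202

/-- Fusion of involutions in a group with Klein four Sylow 2-subgroup. -/
theorem classes_alternative {G : Type*} [Group G] [Finite G] (P : Sylow 2 G)
    (hP : IsKleinFour (P : Subgroup G)) :
    Nat.card {C : ConjClasses G // ∃ t : G, orderOf t = 2 ∧ ConjClasses.mk t = C} = 1 ∨
    (Nat.card {C : ConjClasses G // ∃ t : G, orderOf t = 2 ∧ ConjClasses.mk t = C} = 3 ∧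
      Subgroup.normalizer ((P : Subgroup G) : Set G) ≤ Subgroup.centralizer (P : Set G)) := by
  classical
  haveI := hP
  haveI : Fact (Nat.Prime 2) := ⟨Nat.prime_two⟩
  haveI hcommP : IsMulCommutative (P : Subgroup G) := IsKleinFour.isMulCommutative
  let C := {C : ConjClasses G // ∃ t : G, orderOf t = 2 ∧ ConjClasses.mk t = C}
  let I := {v : (P : Subgroup G) // v ≠ 1}
  have hI : Nat.card I = 3 := by
    haveI := Fintype.ofFinite (P : Subgroup G)
    have h4 := hP.card_four
    rw [Nat.card_eq_fintype_card] at h4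
    rw [Nat.card_eq_fintype_card, Fintype.card_subtype_compl, Fintype.card_subtype_eq, h4]
  have hord : ∀ v : I, orderOf (v.1 : G) = 2 := fun v => by
    refine orderOf_eq_prime ?_ ?_
    · rw [pow_two]; exact congrArg Subtype.val (IsKleinFour.mul_self v.1)
    · intro h; exact v.2 (Subtype.ext h)
  let f : I → C := fun v => ⟨ConjClasses.mk (v.1 : G), _, hord v, rfl⟩
  have hsurj : Function.Surjective f := by
    rintro ⟨c, t, ht, rfl⟩
    obtain ⟨Q, hQ⟩ := (IsPGroup.of_card (n := 1) (by rw [Nat.card_zpowers, ht]; norm_num) :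
      IsPGroup 2 (Subgroup.zpowers t)).exists_le_sylow
    obtain ⟨g, hg⟩ := MulAction.exists_smul_eq G Q P
    have hmem : g * t * g⁻¹ ∈ (P : Subgroup G) := by
      rw [← hg, Sylow.coe_subgroup_smul]
      exact ⟨t, hQ (Subgroup.mem_zpowers t), rfl⟩
    have hne : (⟨_, hmem⟩ : (P : Subgroup G)) ≠ 1 := fun h => by
      have h1 : g * t * g⁻¹ = 1 := congrArg Subtype.val h
      have : t = 1 := by simpa using h1
      simp [this] at ht
    refine ⟨⟨_, hne⟩, Subtype.ext ?_⟩
    exact (ConjClasses.mk_eq_mk_iff_isConj.2 (isConj_iff.2 ⟨g, rfl⟩)).symm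
  let N := Subgroup.normalizer ((P : Subgroup G) : Set G)
  -- the normalizer action
  letI act : MulAction N (P : Subgroup G) :=
    { smul := fun g v => ⟨(g : G) * v * (g : G)⁻¹,
        (Subgroup.mem_normalizer_iff.1 g.2 v).1 v.2⟩
      one_smul := fun v => Subtype.ext (by
        show (1 : G) * (v : G) * (1 : G)⁻¹ = v
        group)
      mul_smul := fun g h v => Subtype.ext (by
        show ((g : G) * h) * (v : G) * ((g : G) * h)⁻¹ = g * ((h : G) * v * (h : G)⁻¹) * (g : G)⁻¹
        group) }
  have hfib : ∀ v : I, Odd (Nat.card {w : I // f w = f v}) := by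
    intro v
    have e : {w : I // f w = f v} ≃ MulAction.orbit N v.1 :=
      { toFun := fun w => ⟨w.1.1, by
          have hc : IsConj (v.1 : G) (w.1.1 : G) :=
            (ConjClasses.mk_eq_mk_iff_isConj.1 (congrArg Subtype.val w.2)).symm
          obtain ⟨g, hg⟩ := isConj_iff.1 hc
          obtain ⟨h, hh, he⟩ := TransferTate.controlsFusion_normalizer_of_comm P hcommP v.1 v.1.2 g
            (hg ▸ w.1.1.2)
          exact ⟨⟨h, hh⟩, Subtype.ext (show h * (v.1 : G) * h⁻¹ = w.1.1 by rw [he, hg])⟩⟩
        invFun := fun w => ⟨⟨w.1, by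
          obtain ⟨u, ⟨g, rfl⟩⟩ := w
          intro h
          apply v.2
          have h1 : (g : G) * v.1 * (g : G)⁻¹ = 1 := congrArg Subtype.val h
          exact Subtype.ext (by simpa using h1)⟩, by
          obtain ⟨u, ⟨g, rfl⟩⟩ := w
          exact Subtype.ext (ConjClasses.mk_eq_mk_iff_isConj.2
            (isConj_iff.2 ⟨(g : G), rfl⟩).symm)⟩
        left_inv := fun w => rfl
        right_inv := fun w => rfl }
    rw [Nat.card_congr e, Nat.card_coe_set_eq, ← MulAction.index_stabilizer]
    have hle : (P : Subgroup G).subgroupOf N ≤ MulAction.stabilizer N v.1 := by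
      intro g hg
      refine Subtype.ext ?_
      show (g : G) * v.1 * (g : G)⁻¹ = v.1
      have := congrArg Subtype.val (hcommP.is_comm.comm (⟨(g : G), hg⟩ : (P : Subgroup G)) v.1)
      simp only [Subgroup.coe_mul] at this
      rw [this, mul_inv_cancel_right]
    have hodd : ¬ 2 ∣ ((P : Subgroup G).subgroupOf N).index := fun h => P.not_dvd_index
      (h.trans (Subgroup.relIndex_dvd_index_of_le Subgroup.le_normalizer))
    exact (Nat.not_even_iff_odd.1 fun h => hodd (h.two_dvd.trans (Subgroup.index_dvd_of_le hle)))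
  by_cases hinj : Function.Injective f
  · right
    refine ⟨by rw [← hI]; exact (Nat.card_eq_of_bijective f ⟨hinj, hsurj⟩).symm, fun g hg => ?_⟩
    rw [Subgroup.mem_centralizer_iff]
    intro v hv
    by_cases h1 : v = 1
    · subst h1; simp
    · let u : I := ⟨⟨v, hv⟩, fun h => h1 (congrArg Subtype.val h)⟩
      have hw : g * v * g⁻¹ ∈ (P : Subgroup G) := (Subgroup.mem_normalizer_iff.1 hg v).1 hv
      have hne : (⟨_, hw⟩ : (P : Subgroup G)) ≠ 1 := fun h => h1 (by
        have h2 : g * v * g⁻¹ = 1 := congrArg Subtype.val h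
        simpa using h2)
      have := hinj (a₁ := u) (a₂ := ⟨_, hne⟩)
        (Subtype.ext (ConjClasses.mk_eq_mk_iff_isConj.2 (isConj_iff.2 ⟨g, rfl⟩)))
      have h3 : v = g * v * g⁻¹ := congrArg (fun z : I => (z.1 : G)) this
      exact (mul_inv_eq_iff_eq_mul.1 h3.symm).symm
  · left
    simp only [Function.Injective, not_forall] at hinj
    obtain ⟨v, w, hvw, hne⟩ := hinj
    have h1 := hfib v
    have h2 : Nat.card {u : I // f u = f v} ≤ 3 := by
      rw [← hI]
      exact Nat.card_le_card_of_injective _ Subtype.val_injective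
    have h3 : 2 ≤ Nat.card {u : I // f u = f v} := by
      haveI := Fintype.ofFinite {u : I // f u = f v}
      rw [Nat.card_eq_fintype_card]
      exact Fintype.one_lt_card_iff.2 ⟨⟨v, rfl⟩, ⟨w, hvw.symm⟩, fun h => hne (congrArg Subtype.val h)⟩
    have h4 : Nat.card {u : I // f u = f v} = Nat.card I := by
      obtain ⟨m, hm⟩ := h1
      omega
    have hall : ∀ u : I, f u = f v := by
      intro u
      obtain ⟨⟨u', hu'⟩, rfl⟩ := ((Nat.bijective_iff_injective_and_card
        (Subtype.val : {u : I // f u = f v} → I)).2 ⟨Subtype.val_injective, h4⟩).2 u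
      exact hu'
    rw [Nat.card_eq_one_iff_unique]
    refine ⟨⟨fun a b => ?_⟩, ⟨f v⟩⟩
    obtain ⟨a', rfl⟩ := hsurj a
    obtain ⟨b', rfl⟩ := hsurj b
    rw [hall a', hall b']

/-- If a Sylow 2-subgroup of a finite group is a Klein four-group, the group has one or three conjugacy classes of involutions. -/
theorem result {G : Type*} [Group G] [Finite G] (P : Sylow 2 G) (hP : IsKleinFour (P : Subgroup G)) : Nat.card {C : ConjClasses G // ∃ t : G, orderOf t = 2 ∧ ConjClasses.mk t = C} = 1 ∨ Nat.card {C : ConjClasses G // ∃ t : G, orderOf t = 2 ∧ ConjClasses.mk t = C} = 3 := by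
  exact (classes_alternative P hP).imp_right And.left

end Cfsg.Agent.S0202
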