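import Mathlib
import Cfsg.Statements.S0203
import Cfsg.Agent.S0202

set_option autoImplicit false
open Cfsg

namespace Cfsg.Agent.S0203

/-- If a Sylow 2-subgroup P of a finite group G is a Klein four-group, then G has three classes of involutions if and only if P has a normal complement in G. -/
theorem result {G : Type*} [Group G] [Finite G] (P : Sylow 2 G) (hP : IsKleinFour (P : Subgroup G)) : Nat.card {C : ConjClasses G // ∃ t : G, orderOf t = 2 ∧ ConjClasses.mk t = C} = 3 ↔ ∃ N : Subgroup G, N.Normal ∧ Subgroup.IsComplement' N (P : Subgroup G) := by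
  classical
  haveI := hP
  haveI : Fact (Nat.Prime 2) := ⟨Nat.prime_two⟩
  constructor
  · intro h3
    obtain h | ⟨-, hle⟩ := S0202.classes_alternative P hP
    · omega
    · exact ⟨_, inferInstance, MonoidHom.ker_transferSylow_isComplement' P hle⟩
  · rintro ⟨N, hN, hc⟩
    obtain h | ⟨h, -⟩ := S0202.classes_alternative P hP
    · exfalso
      haveI hcommP : IsMulCommutative (P : Subgroup G) := IsKleinFour.isMulCommutative
      have hex : ∃ v w : (P : Subgroup G), v ≠ 1 ∧ w ≠ 1 ∧ v ≠ w := by
        haveI := Fintype.ofFinite (P : Subgroup G)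
        have h4 : Fintype.card (P : Subgroup G) = 4 := IsKleinFour.card_four'
        obtain ⟨a, b, c, hab, hac, hbc⟩ :=
          Fintype.two_lt_card_iff.1 (show 2 < Fintype.card (P : Subgroup G) by omega)
        by_cases ha : a = 1
        · exact ⟨b, c, fun h => hab (ha.trans h.symm), fun h => hac (ha.trans h.symm), hbc⟩
        · by_cases hb : b = 1
          · exact ⟨a, c, ha, fun h => hbc (hb.trans h.symm), hac⟩
          · exact ⟨a, b, ha, hb, hab⟩
      obtain ⟨v, w, hv, hw, hvw⟩ := hex
      have hord : ∀ u : (P : Subgroup G), u ≠ 1 → orderOf (u : G) = 2 := fun u hu => by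
        refine orderOf_eq_prime ?_ ?_
        · rw [pow_two]; exact congrArg Subtype.val (IsKleinFour.mul_self u)
        · intro h; exact hu (Subtype.ext h)
      have hsub := (Nat.card_eq_one_iff_unique.1 h).1
      have hcj : IsConj (v : G) (w : G) := ConjClasses.mk_eq_mk_iff_isConj.1
        (congrArg Subtype.val (hsub.elim ⟨_, _, hord v hv, rfl⟩ ⟨_, _, hord w hw, rfl⟩))
      obtain ⟨g, hg⟩ := isConj_iff.1 hcj
      apply hvw
      let q := QuotientGroup.mk' N
      have hcoset : ∀ x : G, ∃ p : (P : Subgroup G), q x = q p := fun x => by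
        obtain ⟨⟨⟨n, hn⟩, p⟩, hnp⟩ := hc.2 x
        refine ⟨p, ?_⟩
        have hnp' : n * (p : G) = x := hnp
        rw [← hnp', map_mul, show q n = 1 from (QuotientGroup.eq_one_iff n).2 hn, one_mul]
      have h1 : q v = q w := by
        obtain ⟨p, hp⟩ := hcoset g
        rw [← hg, map_mul, map_mul, map_inv, hp, ← map_mul]
        have := congrArg Subtype.val (hcommP.is_comm.comm p v)
        simp only [Subgroup.coe_mul] at this
        rw [this, map_mul, mul_inv_cancel_right]
      have h2 : (v : G)⁻¹ * w ∈ N ⊓ (P : Subgroup G) :=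
        ⟨QuotientGroup.eq.1 h1,
          (P : Subgroup G).mul_mem ((P : Subgroup G).inv_mem v.2) w.2⟩
      rw [hc.disjoint.eq_bot, Subgroup.mem_bot, inv_mul_eq_one] at h2
      exact Subtype.ext h2
    · exact h

end Cfsg.Agent.S0203
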