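import Mathlib
import Cfsg.Agent.Lib.CoprimeSZ
import Cfsg.Statements.S0566

set_option autoImplicit false
set_option linter.unusedVariables false
set_option linter.unusedSectionVars false
open Pointwise
open Cfsg

namespace Cfsg.Agent.S0566

open Subgroup Pointwise Cfsg.Agent.CoprimeSZ

variable {G : Type*} [Group G]

/-- Two subgroups permute. -/
def Perm' (A B : Subgroup G) : Prop :=
  ∃ S : Subgroup G, (S : Set G) = (A : Set G) * (B : Set G)

theorem perm_comm {A B : Subgroup G} (h : Perm' A B) :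
    ∀ b ∈ B, ∀ a ∈ A, ∃ a' ∈ A, ∃ b' ∈ B, b * a = a' * b' := by
  obtain ⟨S, hS⟩ := h
  intro b hb a ha
  have hbS : b ∈ S := by
    rw [← SetLike.mem_coe, hS]; exact ⟨1, one_mem A, b, hb, one_mul b⟩
  have haS : a ∈ S := by
    rw [← SetLike.mem_coe, hS]; exact ⟨a, ha, 1, one_mem B, mul_one a⟩
  have := mul_mem hbS haS
  rw [← SetLike.mem_coe, hS] at this
  obtain ⟨a', ha', b', hb', e⟩ := this
  exact ⟨a', ha', b', hb', e.symm⟩

theorem perm_of_comm {A B : Subgroup G}
    (h : ∀ b ∈ B, ∀ a ∈ A, ∃ a' ∈ A, ∃ b' ∈ B, b * a = a' * b') : Perm' A B := by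
  refine ⟨{ carrier := (A : Set G) * (B : Set G)
            one_mem' := ⟨1, one_mem A, 1, one_mem B, mul_one 1⟩
            mul_mem' := ?_
            inv_mem' := ?_ }, rfl⟩
  · rintro _ _ ⟨a, ha, b, hb, rfl⟩ ⟨c, hc, d, hd, rfl⟩
    obtain ⟨c', hc', b', hb', e⟩ := h b hb c hc
    exact ⟨a * c', mul_mem ha hc', b' * d, mul_mem hb' hd, by
      show a * c' * (b' * d) = a * b * (c * d)
      rw [show a * b * (c * d) = a * (b * c) * d by group, e]; group⟩
  · rintro _ ⟨a, ha, b, hb, rfl⟩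
    obtain ⟨a', ha', b', hb', e⟩ := h b⁻¹ (inv_mem hb) a⁻¹ (inv_mem ha)
    exact ⟨a', ha', b', hb', by show a' * b' = (a * b)⁻¹; rw [mul_inv_rev, e]⟩

theorem perm_sup {A C B : Subgroup G} (hA : Perm' A B) (hC : Perm' C B) : Perm' (A ⊔ C) B := by
  refine perm_of_comm fun b hb a ha => ?_
  rw [Subgroup.sup_eq_closure] at ha
  induction ha using Subgroup.closure_induction'' generalizing b with
  | mem x hx =>
    rcases hx with hx | hx
    · obtain ⟨a', ha', b', hb', e⟩ := perm_comm hA b hb x hx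
      exact ⟨a', mem_sup_left ha', b', hb', e⟩
    · obtain ⟨a', ha', b', hb', e⟩ := perm_comm hC b hb x hx
      exact ⟨a', mem_sup_right ha', b', hb', e⟩
  | inv_mem x hx =>
    rcases hx with hx | hx
    · obtain ⟨a', ha', b', hb', e⟩ := perm_comm hA b hb x⁻¹ (inv_mem hx)
      exact ⟨a', mem_sup_left ha', b', hb', e⟩
    · obtain ⟨a', ha', b', hb', e⟩ := perm_comm hC b hb x⁻¹ (inv_mem hx)
      exact ⟨a', mem_sup_right ha', b', hb', e⟩
  | one => exact ⟨1, one_mem _, b, hb, by simp⟩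
  | mul x y _ _ ihx ihy =>
    obtain ⟨x', hx', b1, hb1, e1⟩ := ihx b hb
    obtain ⟨y', hy', b2, hb2, e2⟩ := ihy b1 hb1
    exact ⟨x' * y', mul_mem hx' hy', b2, hb2, by
      rw [← mul_assoc b, e1, mul_assoc x', e2, mul_assoc]⟩

theorem perm_conj {A B : Subgroup G} (y : G) (h : Perm' A B) :
    Perm' (MulAut.conj y • A) (MulAut.conj y • B) := by
  refine perm_of_comm fun b hb a ha => ?_
  rw [mem_conj_smul] at hb ha
  obtain ⟨a', ha', b', hb', e⟩ := perm_comm h _ hb _ ha
  refine ⟨y * a' * y⁻¹, conj_mul_mem_conj_smul ha', y * b' * y⁻¹, conj_mul_mem_conj_smul hb', ?_⟩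
  calc b * a = y * ((y⁻¹ * b * y) * (y⁻¹ * a * y)) * y⁻¹ := by group
    _ = _ := by rw [e]; group

theorem kegel [Finite G] (B : Subgroup G) (hB : B ≠ ⊥) : ∀ (n : ℕ) (A : Subgroup G),
    Nat.card G - Nat.card A = n → A ≠ ⊥ →
    (∀ x : G, ∃ S : Subgroup G, S ≠ ⊤ ∧ (S : Set G) = (A : Set G) * ((MulAut.conj x • B : Subgroup G) : Set G)) →
    ∃ N : Subgroup G, N.Normal ∧ N ≠ ⊤ ∧ (A ≤ N ∨ B ≤ N) := by
  intro n
  induction n using Nat.strong_induction_on with
  | _ n ih =>
    intro A hn hA h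
    have hAtop : A ≠ ⊤ := by
      obtain ⟨S, hS, hSe⟩ := h 1
      intro e
      refine hS (top_le_iff.mp ?_)
      intro g _
      rw [← SetLike.mem_coe, hSe]
      exact ⟨g, e ▸ mem_top g, 1, one_mem _, mul_one g⟩
    by_cases hall : ∀ x : G, MulAut.conj x • B ≤ normalizer (A : Set G)
    · by_cases hnc : normalClosure (B : Set G) = ⊤
      · refine ⟨A, normalizer_eq_top_iff.mp (top_le_iff.mp ?_), hAtop, Or.inl le_rfl⟩
        rw [← hnc, Subgroup.normalClosure, closure_le]
        intro y hy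
        rw [Group.mem_conjugatesOfSet_iff] at hy
        obtain ⟨b, hb, hby⟩ := hy
        obtain ⟨c, rfl⟩ := isConj_iff.mp hby
        exact hall c (conj_mul_mem_conj_smul hb)
      · exact ⟨_, normalClosure_normal, hnc, Or.inr subset_normalClosure⟩
    push Not at hall
    obtain ⟨g, hg⟩ := hall
    obtain ⟨y, hy, hyA⟩ := SetLike.not_le_iff_exists.mp hg
    set A' := A ⊔ MulAut.conj y • A with hA'
    obtain ⟨S, hS, hSe⟩ := h g
    have hAS : A ≤ S := fun a ha => by
      rw [← SetLike.mem_coe, hSe]; exact ⟨a, ha, 1, one_mem _, mul_one a⟩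
    have hBS : MulAut.conj g • B ≤ S := fun b hb => by
      rw [← SetLike.mem_coe, hSe]; exact ⟨1, one_mem _, b, hb, one_mul b⟩
    have hA'S : A' ≤ S := sup_le hAS (fun a ha => by
      rw [mem_conj_smul] at ha
      have := mul_mem (mul_mem (hBS hy) (hAS ha)) (inv_mem (hBS hy))
      simpa [mul_assoc] using this)
    have hlt : A < A' := lt_of_le_of_ne le_sup_left fun e => by
      have hle : MulAut.conj y • A ≤ A := (le_sup_right : MulAut.conj y • A ≤ A').trans e.ge
      have heq : MulAut.conj y • A = A := eq_of_le_of_card_ge hle (le_of_eq (card_conj_smul y A).symm)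
      apply hyA
      rw [mem_normalizer_iff]
      intro a
      constructor
      · intro ha; rw [← heq]; exact conj_mul_mem_conj_smul ha
      · intro ha
        rw [← heq, mem_conj_smul] at ha
        simpa [mul_assoc] using ha
    have hperm : ∀ x : G, Perm' A (MulAut.conj x • B) := fun x => let ⟨S, _, e⟩ := h x; ⟨S, e⟩
    have h' : ∀ x : G, ∃ T : Subgroup G, T ≠ ⊤ ∧
        (T : Set G) = (A' : Set G) * ((MulAut.conj x • B : Subgroup G) : Set G) := by
      intro x
      have h2 : Perm' (MulAut.conj y • A) (MulAut.conj x • B) := by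
        have := perm_conj y (hperm (y⁻¹ * x))
        rwa [← conj_smul_mul, mul_inv_cancel_left] at this
      obtain ⟨T, hT⟩ := perm_sup (hperm x) h2
      refine ⟨T, fun e => ?_, hT⟩
      have hgx : g * x⁻¹ ∈ T := e ▸ mem_top _
      rw [← SetLike.mem_coe, hT] at hgx
      obtain ⟨a, ha, b, hb, hab⟩ := hgx
      have hconj : MulAut.conj g • B = MulAut.conj a • MulAut.conj x • B := by
        have hg' : g = a * b * x := by rw [show a * b = g * x⁻¹ from hab]; group
        rw [hg', conj_smul_mul (a * b), conj_smul_mul a b, conj_smul_eq_self_of_mem hb]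
      have hBxS : MulAut.conj x • B ≤ S := by
        have e2 : MulAut.conj x • B = MulAut.conj a⁻¹ • MulAut.conj g • B := by
          rw [hconj, ← conj_smul_mul a⁻¹ a, inv_mul_cancel, map_one, one_smul]
        rw [e2]
        exact conj_smul_le_of_mem hBS (inv_mem (hA'S ha))
      refine hS (top_le_iff.mp ?_)
      rw [← e]
      intro t ht
      rw [← SetLike.mem_coe, hT] at ht
      obtain ⟨u, hu, v, hv, rfl⟩ := ht
      exact mul_mem (hA'S hu) (hBxS hv)
    have hcard : Nat.card A < Nat.card A' := by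
      by_contra hle
      exact hlt.ne (eq_of_le_of_card_ge hlt.le (not_lt.mp hle))
    have hle' : Nat.card A' ≤ Nat.card G := Nat.le_of_dvd Nat.card_pos A'.card_subgroup_dvd_card
    obtain ⟨N, hN, hNt, hor⟩ := ih _ (by omega) A' rfl (fun e => hA (le_bot_iff.mp (e ▸ hlt.le))) h'
    exact ⟨N, hN, hNt, hor.imp (fun h => hlt.le.trans h) id⟩

theorem result {G : Type*} [Group G] [Finite G] (A B : Subgroup G) (hA : A ≠ ⊥) (hB : B ≠ ⊥) (h : ∀ x : G, ∃ S : Subgroup G, S ≠ ⊤ ∧ (S : Set G) = (A : Set G) * ((MulAut.conj x • B : Subgroup G) : Set G)) : ∃ N : Subgroup G, N.Normal ∧ N ≠ ⊤ ∧ (A ≤ N ∨ B ≤ N) := by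
  exact kegel B hB _ A rfl hA h

end Cfsg.Agent.S0566
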