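import Mathlib
import Cfsg.Prelude.Def_SporadicB
import Cfsg.Agent.Lib.AltDoubleCover
import Cfsg.Agent.Lib.TwoInvolutions

set_option autoImplicit false
open Cfsg
open scoped Pointwise
namespace Cfsg.Agent.S0447

theorem involutions_conj {n : ℕ} (hn : n ≤ 7) (σ τ : alternatingGroup (Fin n))
    (hσ : orderOf σ = 2) (hτ : orderOf τ = 2) : ∃ g : alternatingGroup (Fin n), g * σ * g⁻¹ = τ := by
  have ct : ∀ ρ : alternatingGroup (Fin n), orderOf ρ = 2 →
      (ρ : Equiv.Perm (Fin n)).cycleType = Multiset.replicate 2 2 := by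
    intro ρ hρ
    haveI : Fact (Nat.Prime 2) := ⟨Nat.prime_two⟩
    have ho : orderOf (ρ : Equiv.Perm (Fin n)) = 2 := (Subgroup.orderOf_coe ρ).trans hρ
    obtain ⟨k, hk⟩ := Equiv.Perm.cycleType_prime_order (by rw [ho]; exact Nat.prime_two)
    rw [ho] at hk
    have hsum := Equiv.Perm.sum_cycleType_le (ρ : Equiv.Perm (Fin n))
    rw [hk, Multiset.sum_replicate, Fintype.card_fin, smul_eq_mul] at hsum
    have hk1 : k + 1 ≤ 3 := by omega
    have hsign : Equiv.Perm.sign (ρ : Equiv.Perm (Fin n)) = 1 := ρ.2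
    rw [Equiv.Perm.sign_of_cycleType, hk] at hsign
    have hcases : k = 0 ∨ k = 1 ∨ k = 2 := by omega
    rcases hcases with rfl | rfl | rfl
    · exact absurd hsign (by simp; decide)
    · exact hk
    · exact absurd hsign (by simp; decide)
  obtain ⟨g, hg⟩ := isConj_iff.mp (Equiv.Perm.isConj_iff_cycleType_eq.mpr
    ((ct σ hσ).trans (ct τ hτ).symm))
  rcases Int.units_eq_one_or (Equiv.Perm.sign g) with hs | hs
  · exact ⟨⟨g, hs⟩, Subtype.ext hg⟩
  · have hne : (σ : Equiv.Perm (Fin n)) ≠ 1 := fun h => by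
      rw [← Subgroup.orderOf_coe, h, orderOf_one] at hσ; omega
    obtain ⟨t, ht⟩ : ∃ t, (σ : Equiv.Perm (Fin n)) t ≠ t := by
      by_contra hno; push Not at hno; exact hne (Equiv.ext hno)
    have hσ2 : (σ : Equiv.Perm (Fin n)) ((σ : Equiv.Perm (Fin n)) t) = t := by
      have h := TwoInvolutions.mul_self_of_orderOf hσ
      exact Equiv.congr_fun (congrArg Subtype.val h) t
    set w := Equiv.swap t ((σ : Equiv.Perm (Fin n)) t) with hw
    have hc : w * σ * w⁻¹ = σ := by
      rw [hw, Equiv.swap_inv, mul_assoc, Equiv.mul_swap_eq_swap_mul, hσ2, ← mul_assoc,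
        Equiv.swap_comm ((σ : Equiv.Perm (Fin n)) t) t, Equiv.swap_mul_self, one_mul]
    refine ⟨⟨g * w, ?_⟩, Subtype.ext ?_⟩
    · rw [Equiv.Perm.mem_alternatingGroup, map_mul, hs, hw, Equiv.Perm.sign_swap (Ne.symm ht)]
      decide
    · show g * w * σ * (g * w)⁻¹ = _
      calc g * w * σ * (g * w)⁻¹ = g * (w * σ * w⁻¹) * g⁻¹ := by group
        _ = _ := by rw [hc, hg]

theorem sylow_pair {n : ℕ} (h4 : 4 ≤ n) (h7 : n ≤ 7) :
    ∃ a b : alternatingGroup (Fin n), orderOf a = 2 ∧ orderOf b = 2 ∧ a ≠ b ∧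
      (orderOf (a * b) = 2 ∧ Nat.card (alternatingGroup (Fin n)) % 8 = 4 ∨
       orderOf (a * b) = 4 ∧ Nat.card (alternatingGroup (Fin n)) % 16 = 8) := by
  haveI : Fact (Nat.Prime 2) := ⟨Nat.prime_two⟩
  have key : ∀ {G : Type} [Group G] (x : G), x * x = 1 → x ≠ 1 → orderOf x = 2 := fun x h1 h2 =>
    orderOf_eq_prime_iff.mpr ⟨by rw [pow_two]; exact h1, h2⟩
  have key4 : ∀ {G : Type} [Group G] (x : G), (x * x) * (x * x) = 1 → x * x ≠ 1 → orderOf x = 4 :=
    fun x h1 h2 => orderOf_eq_prime_pow (p := 2) (n := 1) (by simpa [pow_two] using h2)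
      (by rw [show x ^ 2 ^ (1 + 1) = x * x * (x * x) by simp [pow_succ, mul_assoc]]; exact h1)
  have hcard : ∀ k : ℕ, Nontrivial (Fin k) → Nat.card (alternatingGroup (Fin k)) = k.factorial / 2 := by
    intro k _
    rw [nat_card_alternatingGroup, Nat.card_eq_fintype_card, Fintype.card_fin]
  have hcases : n = 4 ∨ n = 5 ∨ n = 6 ∨ n = 7 := by omega
  rcases hcases with rfl | rfl | rfl | rfl
  · refine ⟨⟨Equiv.swap 0 1 * Equiv.swap 2 3, by simp⟩, ⟨Equiv.swap 0 2 * Equiv.swap 1 3, by simp⟩,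
      key _ (by decide) (by decide), key _ (by decide) (by decide), by decide,
      Or.inl ⟨key _ (by decide) (by decide), by rw [hcard 4 inferInstance]; rfl⟩⟩
  · refine ⟨⟨Equiv.swap 0 1 * Equiv.swap 2 3, by simp⟩, ⟨Equiv.swap 0 2 * Equiv.swap 1 3, by simp⟩,
      key _ (by decide) (by decide), key _ (by decide) (by decide), by decide,
      Or.inl ⟨key _ (by decide) (by decide), by rw [hcard 5 inferInstance]; rfl⟩⟩
  · refine ⟨⟨Equiv.swap 0 1 * Equiv.swap 4 5, by simp⟩, ⟨Equiv.swap 0 2 * Equiv.swap 1 3, by simp⟩,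
      key _ (by decide) (by decide), key _ (by decide) (by decide), by decide,
      Or.inr ⟨key4 _ (by decide) (by decide), by rw [hcard 6 inferInstance]; rfl⟩⟩
  · refine ⟨⟨Equiv.swap 0 1 * Equiv.swap 4 5, by simp⟩, ⟨Equiv.swap 0 2 * Equiv.swap 1 3, by simp⟩,
      key _ (by decide) (by decide), key _ (by decide) (by decide), by decide,
      Or.inr ⟨key4 _ (by decide) (by decide), by rw [hcard 7 inferInstance]; rfl⟩⟩

theorem part_one (n : ℕ) (H : Type) [Group H] [Finite H] (hn : n ≤ 7)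
    (hH : Cfsg.IsNonsplitDoubleCover H (alternatingGroup (Fin n))) (x : H) (hx : orderOf x = 2) :
    x ∈ Subgroup.center H := by
  classical
  haveI : Fact (Nat.Prime 2) := ⟨Nat.prime_two⟩
  obtain ⟨hZ, ⟨e⟩, hns⟩ := hH
  by_contra hxZ
  let π : H →* alternatingGroup (Fin n) := e.toMonoidHom.comp (QuotientGroup.mk' _)
  have hker : ∀ h, π h = 1 ↔ h ∈ Subgroup.center H := fun h => by
    show e (QuotientGroup.mk h) = 1 ↔ _
    rw [map_eq_one_iff _ e.injective, QuotientGroup.eq_one_iff]
  have hsurj : Function.Surjective π := e.surjective.comp Quotient.mk''_surjective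
  have hπx : orderOf (π x) = 2 := orderOf_eq_prime_iff.mpr
    ⟨by rw [← map_pow, ← hx, pow_orderOf_eq_one, map_one], fun h => hxZ ((hker x).mp h)⟩
  have h4 : 4 ≤ n := by
    by_contra h
    have h3 := orderOf_dvd_natCard (π x)
    rw [hπx] at h3
    have hcases : n = 0 ∨ n = 1 ∨ n = 2 ∨ n = 3 := by omega
    rcases hcases with rfl | rfl | rfl | rfl <;> rw [Nat.card_eq_fintype_card] at h3 <;>
      revert h3 <;> decide
  have hzz : ∀ c ∈ Subgroup.center H, c * c = 1 := fun c hc => by
    have h := pow_card_eq_one' (G := Subgroup.center H) (x := ⟨c, hc⟩)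
    rw [hZ] at h
    simpa [pow_two] using congrArg Subtype.val h
  have lift : ∀ h : H, orderOf (π h) = 2 → orderOf h = 2 := by
    intro h hh
    obtain ⟨g, hg⟩ := involutions_conj hn _ _ hπx hh
    obtain ⟨g', rfl⟩ := hsurj g
    have hc : (g' * x * g'⁻¹)⁻¹ * h ∈ Subgroup.center H :=
      (hker _).mp (by simp only [map_mul, map_inv]; rw [hg]; exact inv_mul_cancel _)
    refine orderOf_eq_prime_iff.mpr ⟨?_, fun e1 => ?_⟩
    · set c := (g' * x * g'⁻¹)⁻¹ * h
      have hh' : h = (g' * x * g'⁻¹) * c := (mul_inv_cancel_left _ _).symm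
      have hxx : x * x = 1 := TwoInvolutions.mul_self_of_orderOf hx
      rw [hh', pow_two]
      calc (g' * x * g'⁻¹) * c * ((g' * x * g'⁻¹) * c)
          = (g' * x * g'⁻¹) * (c * (g' * x * g'⁻¹)) * c := by group
        _ = (g' * x * g'⁻¹) * ((g' * x * g'⁻¹) * c) * c := by
            rw [(Subgroup.mem_center_iff.mp hc (g' * x * g'⁻¹)).symm]
        _ = g' * (x * x) * g'⁻¹ * (c * c) := by group
        _ = 1 := by rw [hxx, hzz c hc]; simp
    · rw [e1, map_one, orderOf_one] at hh; omega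
  obtain ⟨a, b, ha, hb, hab, hm⟩ := sylow_pair h4 hn
  obtain ⟨a', rfl⟩ := hsurj a
  obtain ⟨b', rfl⟩ := hsurj b
  have ha' := lift _ ha
  have hb' := lift _ hb
  have hab' : a' ≠ b' := fun h => hab (by rw [h])
  set r := a' * b' with hr
  have hord : orderOf r = orderOf (π r) := by
    apply Nat.dvd_antisymm
    · have heven : ∃ j, orderOf (π r) = 2 * j ∧ j ≠ 0 := by
        rcases hm with ⟨h, -⟩ | ⟨h, -⟩ <;> rw [← map_mul, ← hr] at h
        · exact ⟨1, by omega, one_ne_zero⟩
        · exact ⟨2, by omega, two_ne_zero⟩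
      obtain ⟨j, hj, hj0⟩ := heven
      have h2 : orderOf (π (r ^ j)) = 2 := by
        rw [map_pow, orderOf_pow_of_dvd hj0 (by rw [hj]; exact dvd_mul_left j 2), hj,
          Nat.mul_div_cancel _ (Nat.pos_of_ne_zero hj0)]
      have := lift _ h2
      rw [orderOf_dvd_iff_pow_eq_one, hj, mul_comm, pow_mul]
      rw [← this]; exact pow_orderOf_eq_one _
    · exact orderOf_map_dvd π r
  set Q := Subgroup.closure ({a', b'} : Set H) with hQ
  have hQcard : Nat.card Q = 2 * orderOf r := by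
    obtain ⟨f⟩ := TwoInvolutions.nonempty_mulEquiv_dihedral ha' hb' hab'
    rw [Nat.card_congr f.toEquiv, DihedralGroup.nat_card] <;> rfl
  have hQimg : Nat.card (Q.map π) = 2 * orderOf r := by
    rw [hQ, MonoidHom.map_closure, Set.image_pair, hord]
    obtain ⟨f⟩ := TwoInvolutions.nonempty_mulEquiv_dihedral ha hb hab
    rw [Nat.card_congr f.toEquiv, DihedralGroup.nat_card, hr, map_mul]
  have hdisj : Disjoint (Subgroup.center H) Q := by
    rw [Subgroup.disjoint_def]
    intro q hqZ hqQ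
    have hbij : Function.Bijective (π.subgroupMap Q) :=
      (Nat.bijective_iff_surjective_and_card _).mpr
        ⟨π.subgroupMap_surjective Q, by rw [hQimg, hQcard]⟩
    have : (⟨q, hqQ⟩ : Q) = 1 := hbij.1 (Subtype.ext (by
      rw [MonoidHom.subgroupMap_apply_coe, map_one]; exact (hker q).mpr hqZ))
    exact congrArg Subtype.val this
  set P := Subgroup.center H ⊔ Q with hP
  have hPcard : Nat.card P = 4 * orderOf r := by
    have h1 : (P : Set H) = (Subgroup.center H : Set H) * (Q : Set H) := Subgroup.normal_mul _ _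
    have h2 := Subgroup.mul_injective_of_disjoint hdisj
    have e2 : Nat.card P = Nat.card (Subgroup.center H × Q) := by
      symm
      refine Nat.card_congr (Equiv.ofBijective
        (fun g => (⟨g.1.1 * g.2.1, Subgroup.mul_mem_sup g.1.2 g.2.2⟩ : P))
        ⟨fun u v h => h2 (congrArg Subtype.val h), fun p => ?_⟩)
      have hp : (p : H) ∈ (Subgroup.center H : Set H) * (Q : Set H) := h1 ▸ p.2
      obtain ⟨u, hu, v, hv, huv⟩ := hp
      exact ⟨(⟨u, hu⟩, ⟨v, hv⟩), Subtype.ext huv⟩
    rw [e2, Nat.card_prod, hZ, hQcard]; ring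
  have hindex : Odd P.index := by
    have h1 := P.card_mul_index
    rw [hPcard] at h1
    have h2 : Nat.card H = 2 * Nat.card (alternatingGroup (Fin n)) := by
      rw [Subgroup.card_eq_card_quotient_mul_card_subgroup (Subgroup.center H), hZ,
        Nat.card_congr e.toEquiv, mul_comm]
    rw [← map_mul, ← hr, ← hord] at hm
    rw [Nat.odd_iff]
    rcases hm with ⟨ho, hc⟩ | ⟨ho, hc⟩
    · rw [ho, h2] at h1; omega
    · rw [ho, h2] at h1; omega
  have hQP : Q ≤ P := le_sup_right
  have hQi : (Q.subgroupOf P).index = 2 := by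
    have h1 := (Q.subgroupOf P).card_mul_index
    rw [Nat.card_congr (Subgroup.subgroupOfEquivOfLe hQP).toEquiv, hQcard, hPcard] at h1
    have h0 : 0 < orderOf r := orderOf_pos r
    nlinarith
  haveI : (Q.subgroupOf P).Normal := Subgroup.normal_of_index_eq_two hQi
  haveI : IsCyclic (P ⧸ Q.subgroupOf P) := isCyclic_of_prime_card (p := 2) (by
    rw [← Subgroup.index_eq_card]; exact hQi)
  letI : CommGroup (P ⧸ Q.subgroupOf P) := IsCyclic.commGroup
  obtain ⟨z, hz⟩ : ∃ z : Subgroup.center H, z ≠ 1 := by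
    haveI : Nontrivial (Subgroup.center H) := Finite.one_lt_card_iff_nontrivial.mp (by omega)
    exact exists_ne 1
  let φ : P →* P ⧸ Q.subgroupOf P := QuotientGroup.mk' _
  let ψ : H →* P ⧸ Q.subgroupOf P := φ.transfer
  have hψz : ψ (z : H) ≠ 1 := by
    have hkey : ∀ (k : ℕ) (g₀ : H), g₀⁻¹ * (z : H) ^ k * g₀ ∈ P →
        g₀⁻¹ * (z : H) ^ k * g₀ = (z : H) ^ k := by
      intro k g₀ _
      rw [mul_assoc, ← Subgroup.mem_center_iff.mp (pow_mem z.2 k) g₀, ← mul_assoc, inv_mul_cancel,
        one_mul]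
    show φ.transfer (z : H) ≠ 1
    rw [MonoidHom.transfer_eq_pow φ _ hkey]
    intro h
    have h' := (QuotientGroup.eq_one_iff _).mp h
    rw [Subgroup.mem_subgroupOf] at h'
    have hzi : (z : H) ^ P.index = z := by
      obtain ⟨j, hj⟩ := hindex
      rw [hj, pow_succ, pow_mul, pow_two, hzz _ z.2, one_pow, one_mul]
    have h'' : (z : H) ∈ Q := hzi ▸ h'
    exact hz (Subtype.ext (Subgroup.disjoint_def.mp hdisj z.2 h''))
  have hqc : Nat.card (P ⧸ Q.subgroupOf P) = 2 := by rw [← Subgroup.index_eq_card]; exact hQi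
  have hψsurj : Function.Surjective ψ := by
    intro q
    obtain ⟨u, v, -, huv⟩ := Nat.card_eq_two_iff.mp hqc
    have mem : ∀ t, t = u ∨ t = v := fun t => by
      have : t ∈ ({u, v} : Set _) := huv ▸ Set.mem_univ t
      simpa using this
    have h1 : q = 1 ∨ q = ψ (z : H) := by
      rcases mem 1 with h | h <;> rcases mem (ψ (z : H)) with h' | h' <;>
        rcases mem q with h'' | h'' <;> grind
    rcases h1 with rfl | rfl
    · exact ⟨1, map_one _⟩
    · exact ⟨_, rfl⟩
  refine hns ψ.ker (Subgroup.isComplement'_of_disjoint_and_mul_eq_univ ?_ ?_)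
  · rw [Subgroup.disjoint_def]
    intro c hc hck
    by_contra hc1
    have : (⟨c, hc⟩ : Subgroup.center H) = z := by
      obtain ⟨u, v, -, huv⟩ := Nat.card_eq_two_iff.mp hZ
      have mem : ∀ t, t = u ∨ t = v := fun t => by
        have : t ∈ ({u, v} : Set _) := huv ▸ Set.mem_univ t
        simpa using this
      have hne : (⟨c, hc⟩ : Subgroup.center H) ≠ 1 := fun h => hc1 (congrArg Subtype.val h)
      rcases mem 1 with h | h <;> rcases mem z with h' | h' <;>
        rcases mem ⟨c, hc⟩ with h'' | h'' <;> grind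
    exact hψz (by rw [← this]; exact hck)
  · refine Set.eq_univ_of_forall fun h => ?_
    by_cases hh : ψ h = 1
    · exact ⟨1, one_mem _, h, hh, one_mul h⟩
    · refine ⟨z, z.2, (z : H)⁻¹ * h, ?_, by group⟩
      show (z : H)⁻¹ * h ∈ ψ.ker
      obtain ⟨u, v, -, huv⟩ := Nat.card_eq_two_iff.mp hqc
      have mem : ∀ t, t = u ∨ t = v := fun t => by
        have : t ∈ ({u, v} : Set _) := huv ▸ Set.mem_univ t
        simpa using this
      rw [MonoidHom.mem_ker, map_mul, map_inv, inv_mul_eq_one]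
      rcases mem 1 with h1 | h1 <;> rcases mem (ψ (z : H)) with h' | h' <;>
        rcases mem (ψ h) with h'' | h'' <;> grind

open Cfsg.Agent.AltDoubleCover in
theorem sq_aux (n : ℕ) (X X' : cover n) (hc : Commute X X') (hX : X * X = z n)
    (hX' : X' * X' = z n) : (X * X') ^ 2 = 1 := by
  rw [hc.mul_pow, pow_two, pow_two, hX, hX', z_sq]

open Cfsg.Agent.AltDoubleCover in
theorem part_two : ∃ (H : Type) (_ : Group H) (_ : Finite H),
    Cfsg.IsNonsplitDoubleCover H (alternatingGroup (Fin 8)) ∧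
      ∃ x y : H, x ≠ y ∧ orderOf x = 2 ∧ orderOf y = 2 := by
  have hc : Subgroup.center (cover 8) = (proj 8).ker := by
    refine le_antisymm (fun c hc => ?_) ?_
    · have : proj 8 c ∈ Subgroup.center (alternatingGroup (Fin 8)) := by
        rw [Subgroup.mem_center_iff]
        intro g
        obtain ⟨g', rfl⟩ := proj_surjective 8 g
        rw [← map_mul, ← map_mul, Subgroup.mem_center_iff.mp hc g']
      rw [alternatingGroup.center_eq_bot (by simp)] at this
      exact this
    · rw [ker_proj, Subgroup.zpowers_le]; exact z_mem_center 8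
  have d : ∀ a b c d : Fin 8, (a ≠ c ∧ a ≠ d ∧ b ≠ c ∧ b ≠ d) → Disj a b c d := fun _ _ _ _ h => h
  let X := pairLift (n := 8) 0 1 2 3 (by decide) (by decide)
  let X' := pairLift (n := 8) 4 5 6 7 (by decide) (by decide)
  have hX : X * X = z 8 := pairLift_sq _ _ (d _ _ _ _ (by decide))
  have hX' : X' * X' = z 8 := pairLift_sq _ _ (d _ _ _ _ (by decide))
  have hcomm : Commute X X' := pairLift_comm _ _ _ _ (d _ _ _ _ (by decide)) (d _ _ _ _ (by decide))
    (d _ _ _ _ (by decide)) (d _ _ _ _ (by decide))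
  have hne : proj 8 (X * X') ≠ 1 := by
    intro h
    have h2 := congrArg Subtype.val h
    rw [map_mul, Subgroup.coe_mul, proj_pairLift, proj_pairLift] at h2
    exact absurd (Equiv.congr_fun h2 0) (by decide)
  refine ⟨cover 8, inferInstance, inferInstance, ⟨?_, ?_, ?_⟩, z 8, X * X', ?_, orderOf_z 8, ?_⟩
  · rw [hc, ker_proj, Nat.card_zpowers, orderOf_z]
  · exact ⟨(QuotientGroup.quotientMulEquivOfEq hc).trans
      (QuotientGroup.quotientKerEquivOfSurjective (proj 8) (proj_surjective 8))⟩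
  · intro L hL
    obtain ⟨⟨c, l⟩, hcl⟩ := hL.2 X
    have hcl' : (c : cover 8) * l = X := hcl
    have hll : (l : cover 8) * l = z 8 := by
      have h1 := Subgroup.mem_center_iff.mp c.2 (l : cover 8)
      have hcc : (c : cover 8) * c = 1 := by
        have : (c : cover 8) = 1 ∨ (c : cover 8) = z 8 := eq_one_or_z (by
          exact hc.le c.2)
        rcases this with h | h <;> rw [h]
        · simp
        · exact z_sq 8
      calc (l : cover 8) * l = ((c : cover 8) * c) * (l * l) := by rw [hcc, one_mul]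
        _ = c * (c * l) * l := by group
        _ = c * (l * c) * l := by rw [h1]
        _ = (c * l) * (c * l) := by group
        _ = z 8 := by rw [hcl', hX]
    exact z_ne_one 8 (Subgroup.disjoint_def.mp hL.disjoint (z_mem_center 8)
      (hll ▸ mul_mem l.2 l.2))
  · intro h
    exact hne (by rw [← h, proj_z])
  · haveI : Fact (Nat.Prime 2) := ⟨Nat.prime_two⟩
    refine orderOf_eq_prime_iff.mpr ⟨?_, fun h => hne (by rw [h, map_one])⟩
    exact sq_aux 8 X X' hcomm hX hX'

theorem result : (∀ (n : ℕ) (H : Type) (_ : Group H) (_ : Finite H), n ≤ 7 → Cfsg.IsNonsplitDoubleCover H (alternatingGroup (Fin n)) → ∀ x y : H, orderOf x = 2 → orderOf y = 2 → x = y) ∧ ∃ (H : Type) (_ : Group H) (_ : Finite H), Cfsg.IsNonsplitDoubleCover H (alternatingGroup (Fin 8)) ∧ ∃ x y : H, x ≠ y ∧ orderOf x = 2 ∧ orderOf y = 2 := by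
  refine ⟨fun n H _ _ hn hH x y hx hy => ?_, part_two⟩
  obtain ⟨u, v, -, huv⟩ := Nat.card_eq_two_iff.mp hH.1
  have mem : ∀ t : Subgroup.center H, t = u ∨ t = v := fun t => by
    have : t ∈ ({u, v} : Set _) := huv ▸ Set.mem_univ t
    simpa using this
  have hne : ∀ (w : H) (hw : w ∈ Subgroup.center H), orderOf w = 2 →
      (⟨w, hw⟩ : Subgroup.center H) ≠ 1 := fun w hw h1 h => by
    rw [show w = 1 from congrArg Subtype.val h, orderOf_one] at h1; omega
  have hxc := part_one n H hn hH x hx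
  have hyc := part_one n H hn hH y hy
  have h1 := hne x hxc hx
  have h2 := hne y hyc hy
  have : (⟨x, hxc⟩ : Subgroup.center H) = ⟨y, hyc⟩ := by
    rcases mem 1 with h | h <;> rcases mem ⟨x, hxc⟩ with h' | h' <;>
      rcases mem ⟨y, hyc⟩ with h'' | h'' <;> grind
  exact congrArg Subtype.val this

end Cfsg.Agent.S0447
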