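import Cfsg.Statements.S0892
import Cfsg.Agent.Lib.CarmichaelLifts
import Cfsg.Agent.S3335
import Cfsg.Agent.Lib.StemBasic
-- import your own Cfsg.Agent.* helpers here

set_option autoImplicit false
open Cfsg

namespace Cfsg.Agent.S0892


/-- A central element in the commutator subgroup dies in the preimage of a cyclic subgroup. -/
theorem pow_index_eq_one {Γ G : Type*} [Group Γ] [Group G] [Finite Γ] (σ : Γ →* G)
    (hs : Function.Surjective σ) (hc : σ.ker ≤ Subgroup.center Γ) (a : G) {z : Γ} (hz : σ z = 1)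
    (hd : z ∈ commutator Γ) : z ^ (Subgroup.zpowers a).index = 1 := by
  let K := (Subgroup.zpowers a).comap σ
  have hzK : z ∈ K := show σ z ∈ Subgroup.zpowers a by rw [hz]; exact one_mem _
  have h1 := Cfsg.Agent.TransferPow.central_pow_index_eq_one (Abelianization.of (G := K)) ⟨z, hzK⟩
    (hc hz) hd
  rw [← map_pow, ← MonoidHom.mem_ker, Abelianization.ker_of, Subgroup.index_comap_of_surjective _ hs] at h1
  exact Cfsg.Agent.StemBasic.kerFree_zpowers σ hc a _
    ⟨_, h1, rfl⟩ (by simp [hz])

/-- In the preimage of a group generated by two commuting elements the commutators are powers of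
one central element. -/
theorem pow_index_mem {Γ G : Type*} [Group Γ] [Group G] [Finite Γ] (σ : Γ →* G)
    (hs : Function.Surjective σ) (hc : σ.ker ≤ Subgroup.center Γ) {a b : G} (hab : a * b = b * a)
    (ha : a * a = 1) :
    ∃ c : Γ, c * c = 1 ∧ ∀ z, σ z = 1 → z ∈ commutator Γ →
      z ^ (Subgroup.closure {a, b}).index ∈ Subgroup.zpowers c := by
  obtain ⟨α, rfl⟩ := hs a
  obtain ⟨β, rfl⟩ := hs b
  set c := α * β * α⁻¹ * β⁻¹ with hcdef
  have hcσ : σ c = 1 := by simp only [hcdef, map_mul, map_inv, hab]; group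
  have hcc := hc hcσ
  have hαα : α * α ∈ Subgroup.center Γ := hc (by rw [MonoidHom.mem_ker, map_mul]; exact ha)
  have hc2 : c * c = 1 := by
    have h2 : α * (α * β * α⁻¹) * α⁻¹ = β := by
      rw [show α * (α * β * α⁻¹) * α⁻¹ = (α * α) * β * (α * α)⁻¹ by group,
        ← Subgroup.mem_center_iff.1 hαα, mul_inv_cancel_right]
    have h3 : α * β * α⁻¹ = c * β := by rw [hcdef]; group
    rw [h3, show α * (c * β) * α⁻¹ = (α * c) * β * α⁻¹ by group,
      Subgroup.mem_center_iff.1 hcc, show c * α * β * α⁻¹ = c * (α * β * α⁻¹) by group, h3,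
      ← mul_assoc] at h2
    exact mul_eq_right.1 h2
  refine ⟨c, hc2, fun z hz hd => ?_⟩
  let K := Subgroup.closure ({α, β} ∪ (σ.ker : Set Γ))
  have hkerK : σ.ker ≤ K := fun x hx => Subgroup.subset_closure (Or.inr hx)
  have hmap : K.map σ = Subgroup.closure {σ α, σ β} := by
    rw [MonoidHom.map_closure, Set.image_union, Set.image_pair, Subgroup.closure_union]
    refine sup_eq_left.2 ((Subgroup.closure_le _).2 ?_)
    rintro _ ⟨x, hx, rfl⟩
    rw [show σ x = 1 from hx]
    exact one_mem _
  have h1 := Cfsg.Agent.TransferPow.central_pow_index_eq_one (Abelianization.of (G := K))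
    ⟨z, hkerK hz⟩ (hc hz) hd
  rw [← map_pow, ← MonoidHom.mem_ker, Abelianization.ker_of,
    show K.index = (K.map σ).index from (Subgroup.index_map_eq K hs hkerK).symm, hmap] at h1
  haveI : (Subgroup.zpowers c).Normal := ⟨fun x hx g => by
    rw [Subgroup.mem_center_iff.1 ((Subgroup.zpowers_le.2 hcc) hx) g, mul_inv_cancel_right]
    exact hx⟩
  let q := QuotientGroup.mk' (Subgroup.zpowers c)
  have hcom : ∀ x ∈ K.map q, ∀ y ∈ K.map q, x * y = y * x := by
    have hgen : K.map q = Subgroup.closure (q '' ({α, β} ∪ (σ.ker : Set Γ))) :=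
      MonoidHom.map_closure _ _
    have hαβ : q α * q β = q β * q α := by
      rw [← map_mul, ← map_mul, show α * β = c * (β * α) by rw [hcdef]; group, map_mul,
        show q c = 1 from (QuotientGroup.eq_one_iff _).2 (Subgroup.mem_zpowers c), one_mul]
    have hpair : ∀ x ∈ q '' ({α, β} ∪ (σ.ker : Set Γ)), ∀ y ∈ q '' ({α, β} ∪ (σ.ker : Set Γ)),
        x * y = y * x := by
      rintro _ ⟨x, hx, rfl⟩ _ ⟨y, hy, rfl⟩
      rcases hx with hx | hx
      · rcases hy with hy | hy
        · rcases hx with rfl | rfl <;> rcases hy with rfl | rfl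
          · rfl
          · exact hαβ
          · exact hαβ.symm
          · rfl
        · rw [← map_mul, ← map_mul, Subgroup.mem_center_iff.1 (hc hy) x]
      · rw [← map_mul, ← map_mul, ← Subgroup.mem_center_iff.1 (hc hx) y]
    intro x hx y hy
    rw [hgen] at hx hy
    exact (Subgroup.isMulCommutative_closure hpair).is_comm.comm ⟨x, hx⟩ ⟨y, hy⟩ |>
      congrArg Subtype.val
  have hle : commutator K ≤ (Subgroup.zpowers c).comap K.subtype := by
    rw [commutator_def, Subgroup.commutator_le]
    intro x _ y _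
    show ((x * y * x⁻¹ * y⁻¹ : K) : Γ) ∈ Subgroup.zpowers c
    rw [← QuotientGroup.eq_one_iff]
    show q _ = 1
    simp only [Subgroup.coe_mul, Subgroup.coe_inv, map_mul, map_inv]
    rw [hcom _ ⟨_, x.2, rfl⟩ _ ⟨_, y.2, rfl⟩]
    group
  exact hle h1

/-- Let n ≥ 4 with n ≠ 6 and n ≠ 7, and let Γ be a finite group with a subgroup Z contained in both the centre and the commutator subgroup of Γ such that Γ / Z is isomorphic to the alternating group on n letters. Then Z has order at most 2. -/
theorem result (n : ℕ) (hn : 4 ≤ n) (h6 : n ≠ 6) (h7 : n ≠ 7) {Γ : Type*} [Group Γ] [Finite Γ] (Z : Subgroup Γ) [Z.Normal] (hZc : Z ≤ Subgroup.center Γ) (hZd : Z ≤ commutator Γ) (e : Γ ⧸ Z ≃* alternatingGroup (Fin n)) : Nat.card Z ≤ 2 := by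
  classical
  let σ : Γ →* alternatingGroup (Fin n) := e.toMonoidHom.comp (QuotientGroup.mk' Z)
  have hs : Function.Surjective σ := e.surjective.comp (QuotientGroup.mk'_surjective Z)
  have hker : σ.ker = Z := by
    ext g
    simp [σ, MonoidHom.mem_ker]
  have hc : σ.ker ≤ Subgroup.center Γ := hker ▸ hZc
  have hmem : ∀ z, z ∈ Z ↔ σ z = 1 := fun z => by rw [← hker, MonoidHom.mem_ker]
  have small : ∀ c : Γ, c * c = 1 → (∀ z ∈ Z, z ∈ Subgroup.zpowers c) → Nat.card Z ≤ 2 := by
    intro c hc2 hall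
    refine (Nat.le_of_dvd Nat.card_pos (Subgroup.card_dvd_of_le (fun z hz => hall z hz))).trans ?_
    rw [Nat.card_zpowers]
    exact Nat.le_of_dvd (by norm_num) (orderOf_dvd_of_pow_eq_one (by rw [sq]; exact hc2))
  have hV : ∀ (a b : alternatingGroup (Fin n)), a * a = 1 → b * b = 1 → a * b = b * a → a ≠ 1 →
      b ≠ 1 → a ≠ b → Nat.card (Subgroup.closure {a, b}) = 4 := by
    intro a b ha hb hab ha1 hb1 hne
    let V : Subgroup (alternatingGroup (Fin n)) :=
      { carrier := {1, a, b, a * b}
        one_mem' := Or.inl rfl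
        mul_mem' := by
          have hab' : b * a = a * b := hab.symm
          have e1 : a * (a * b) = b := by rw [← mul_assoc, ha, one_mul]
          have e2 : a * b * a = b := by rw [mul_assoc, hab', e1]
          have e3 : b * (a * b) = a := by rw [← mul_assoc, hab', mul_assoc, hb, mul_one]
          have e4 : a * b * b = a := by rw [mul_assoc, hb, mul_one]
          have e5 : a * b * (a * b) = 1 := by rw [← mul_assoc, e2, hb]
          intro x y hx hy
          simp only [Set.mem_insert_iff, Set.mem_singleton_iff] at hx hy ⊢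
          rcases hx with rfl | rfl | rfl | rfl <;> rcases hy with rfl | rfl | rfl | rfl <;>
            simp [ha, hb, hab', e1, e2, e3, e4, e5]
        inv_mem' := by
          intro x hx
          simp only [Set.mem_insert_iff, Set.mem_singleton_iff] at hx ⊢
          rcases hx with rfl | rfl | rfl | rfl
          · simp
          · exact Or.inr (Or.inl (inv_eq_of_mul_eq_one_right ha))
          · exact Or.inr (Or.inr (Or.inl (inv_eq_of_mul_eq_one_right hb)))
          · refine Or.inr (Or.inr (Or.inr ?_))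
            rw [mul_inv_rev, inv_eq_of_mul_eq_one_right ha, inv_eq_of_mul_eq_one_right hb, hab] }
    have hcl : Subgroup.closure {a, b} = V := by
      apply le_antisymm
      · rw [Subgroup.closure_le]
        rintro x (rfl | rfl)
        · exact Or.inr (Or.inl rfl)
        · exact Or.inr (Or.inr (Or.inl rfl))
      · rintro x (rfl | rfl | rfl | rfl)
        · exact one_mem _
        · exact Subgroup.subset_closure (Or.inl rfl)
        · exact Subgroup.subset_closure (Or.inr rfl)
        · exact mul_mem (Subgroup.subset_closure (Or.inl rfl)) (Subgroup.subset_closure (Or.inr rfl))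
    rw [hcl]
    show Nat.card ({1, a, b, a * b} : Set (alternatingGroup (Fin n))) = 4
    have e1 : (1 : alternatingGroup (Fin n)) ≠ a * b := fun h => hne (mul_left_cancel (ha.trans h))
    have e2 : a ≠ a * b := fun h => hb1 (left_eq_mul.1 h)
    have e3 : b ≠ a * b := fun h => ha1 (right_eq_mul.1 h)
    rw [Nat.card_coe_set_eq, Set.ncard_insert_of_notMem (by simp [ha1.symm, hb1.symm, e1]),
      Set.ncard_insert_of_notMem (by simp [hne, e2]), Set.ncard_pair e3]
  have hcardA : ∀ a : alternatingGroup (Fin n), (Subgroup.zpowers a).index * orderOf a =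
      Nat.card (alternatingGroup (Fin n)) := fun a => by
    rw [← Nat.card_zpowers, mul_comm, Subgroup.card_mul_index]
  rcases (show n = 4 ∨ n = 5 ∨ 8 ≤ n by omega) with rfl | rfl | h8
  · let a : alternatingGroup (Fin 4) := ⟨Equiv.swap 0 1 * Equiv.swap 2 3, Equiv.Perm.mem_alternatingGroup.2 (by decide)⟩
    let b : alternatingGroup (Fin 4) := ⟨Equiv.swap 0 2 * Equiv.swap 1 3, Equiv.Perm.mem_alternatingGroup.2 (by decide)⟩
    let t : alternatingGroup (Fin 4) := ⟨Equiv.swap 0 1 * Equiv.swap 1 2, Equiv.Perm.mem_alternatingGroup.2 (by decide)⟩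
    have hA : Nat.card (alternatingGroup (Fin 4)) = 12 := by
      rw [nat_card_alternatingGroup, Nat.card_fin]; rfl
    have hVi : (Subgroup.closure {a, b}).index = 3 := by
      have := Subgroup.card_mul_index (Subgroup.closure {a, b})
      rw [hV a b (by decide) (by decide) (by decide) (by decide) (by decide) (by decide), hA] at this
      omega
    have hti : (Subgroup.zpowers t).index = 4 := by
      have := hcardA t
      rw [orderOf_eq_prime (p := 3) (by decide) (by decide), hA] at this
      omega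
    obtain ⟨c, hc2, hc'⟩ := pow_index_mem σ hs hc (a := a) (b := b) (by decide) (by decide)
    refine small c hc2 fun z hz => ?_
    have h4 := pow_index_eq_one σ hs hc t ((hmem z).1 hz) (hZd hz)
    have h3 := hc' z ((hmem z).1 hz) (hZd hz)
    rw [hVi] at h3
    rw [hti] at h4
    rw [show z = z ^ 4 * (z ^ 3)⁻¹ by group, h4, one_mul]
    exact Subgroup.inv_mem _ h3
  · let a : alternatingGroup (Fin 5) := ⟨Equiv.swap 0 1 * Equiv.swap 2 3, Equiv.Perm.mem_alternatingGroup.2 (by decide)⟩
    let b : alternatingGroup (Fin 5) := ⟨Equiv.swap 0 2 * Equiv.swap 1 3, Equiv.Perm.mem_alternatingGroup.2 (by decide)⟩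
    let t : alternatingGroup (Fin 5) := ⟨Equiv.swap 0 1 * Equiv.swap 1 2, Equiv.Perm.mem_alternatingGroup.2 (by decide)⟩
    let u : alternatingGroup (Fin 5) :=
      ⟨Equiv.swap 0 1 * Equiv.swap 1 2 * (Equiv.swap 2 3 * Equiv.swap 3 4), Equiv.Perm.mem_alternatingGroup.2 (by decide)⟩
    have hA : Nat.card (alternatingGroup (Fin 5)) = 60 := by
      rw [nat_card_alternatingGroup, Nat.card_fin]; rfl
    have hVi : (Subgroup.closure {a, b}).index = 15 := by
      have := Subgroup.card_mul_index (Subgroup.closure {a, b})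
      rw [hV a b (by decide) (by decide) (by decide) (by decide) (by decide) (by decide), hA] at this
      omega
    have hti : (Subgroup.zpowers t).index = 20 := by
      have := hcardA t
      rw [orderOf_eq_prime (p := 3) (by decide) (by decide), hA] at this
      omega
    have hui : (Subgroup.zpowers u).index = 12 := by
      have := hcardA u
      rw [orderOf_eq_prime (p := 5) (hp := ⟨by norm_num⟩) (by decide) (by decide), hA] at this
      omega
    obtain ⟨c, hc2, hc'⟩ := pow_index_mem σ hs hc (a := a) (b := b) (by decide) (by decide)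
    refine small c hc2 fun z hz => ?_
    have h20 := pow_index_eq_one σ hs hc t ((hmem z).1 hz) (hZd hz)
    have h12 := pow_index_eq_one σ hs hc u ((hmem z).1 hz) (hZd hz)
    have h15 := hc' z ((hmem z).1 hz) (hZd hz)
    rw [hVi] at h15
    rw [hti] at h20
    rw [hui] at h12
    have h4 : z ^ 4 = 1 := by
      rw [show z ^ 4 = (z ^ 12) ^ 2 * (z ^ 20)⁻¹ by group, h12, h20]; group
    rw [show z = (z ^ 4) ^ 4 * (z ^ 15)⁻¹ by group, h4, one_pow, one_mul]
    exact Subgroup.inv_mem _ h15
  obtain ⟨φ⟩ := Cfsg.Agent.S3335.result n (by omega)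
  let x : ℕ → alternatingGroup (Fin n) := fun i =>
    if h : i < n - 2 then φ (PresentedGroup.of ⟨i, h⟩) else 1
  have hxof : ∀ i : Fin (n - 2), x i = φ (PresentedGroup.of i) := fun i => dif_pos i.2
  have hrel : ∀ r, r ∈ _ → φ (PresentedGroup.mk _ r) = 1 := fun r hr => by
    rw [PresentedGroup.one_of_mem hr, map_one]
  have hx : Cfsg.Agent.CarmichaelLifts.Rels (n - 2) x := by
    refine ⟨?_, fun i h1 h2 => ?_, fun i h => ?_, fun i j h1 h2 => ?_⟩
    · rw [show x 0 = _ from hxof ⟨0, by omega⟩]
      exact (map_pow φ _ _).symm.trans ((congrArg φ (map_pow _ _ _).symm).trans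
        (hrel _ (.inl (.inl (.inl ⟨_, rfl, rfl⟩)))))
    · rw [show x i = _ from hxof ⟨i, h2⟩]
      exact (map_pow φ _ _).symm.trans ((congrArg φ (map_pow _ _ _).symm).trans
        (hrel _ (.inl (.inl (.inr ⟨⟨i, h2⟩, h1, rfl⟩)))))
    · rw [show x i = _ from hxof ⟨i, by omega⟩, show x (i + 1) = _ from hxof ⟨i + 1, h⟩, ← map_mul]
      have := hrel _ (.inl (.inr ⟨⟨i, by omega⟩, ⟨i + 1, h⟩, rfl, rfl⟩))
      rwa [map_pow, map_mul, map_pow] at this
    · rw [show x i = _ from hxof ⟨i, by omega⟩, show x j = _ from hxof ⟨j, h2⟩, ← map_mul]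
      have := hrel _ (.inr ⟨⟨i, by omega⟩, ⟨j, h2⟩, h1, rfl⟩)
      rwa [map_pow, map_mul, map_pow] at this
  obtain ⟨c, f, hcσ, hc2, hfσ, hf0, hfsq, hfbr, hffar⟩ :=
    Cfsg.Agent.CarmichaelLifts.exists_relations hs hc (by omega : 6 ≤ n - 2) hx
  let E := Subgroup.zpowers c
  have hEker : E ≤ σ.ker := Subgroup.zpowers_le.2 hcσ
  haveI : E.Normal := ⟨fun x hx g => by
    rw [Subgroup.mem_center_iff.1 (hc (hEker hx)) g, mul_inv_cancel_right]; exact hx⟩
  let π := QuotientGroup.mk' E
  have hπc : π c = 1 := (QuotientGroup.eq_one_iff _).2 (Subgroup.mem_zpowers c)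
  let F : Fin (n - 2) → Γ ⧸ E := fun i => π (f i)
  let σ' : Γ ⧸ E →* alternatingGroup (Fin n) := QuotientGroup.lift E σ hEker
  let Φ := PresentedGroup.toGroup (f := F) (h := Cfsg.Agent.S3335.lift_rels F
    (fun i hi => by show π (f i) ^ 3 = 1; rw [hi, ← map_pow, hf0, map_one])
    (fun i hi => by show π (f i) ^ 2 = 1; rw [← map_pow, hfsq i hi i.2, hπc])
    (fun i j hij => by
      show (π (f i) * π (f j)) ^ 3 = 1
      rw [← map_mul, ← map_pow, hij, hfbr i (hij ▸ j.2), hπc])
    (fun i j hij => by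
      show (π (f i) * π (f j)) ^ 2 = 1
      rw [← map_mul, ← map_pow, hffar i j hij j.2, hπc]))
  have hcomp : σ'.comp Φ = φ.toMonoidHom := PresentedGroup.ext fun i => by
    show σ' (Φ (PresentedGroup.of i)) = φ (PresentedGroup.of i)
    rw [show Φ (PresentedGroup.of i) = F i from PresentedGroup.toGroup.of _, ← hxof]
    exact hfσ i i.2
  have hker' : σ'.ker ≤ Subgroup.center (Γ ⧸ E) := by
    intro g hg
    obtain ⟨g, rfl⟩ := QuotientGroup.mk_surjective g
    rw [Subgroup.mem_center_iff]
    intro h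
    obtain ⟨h, rfl⟩ := QuotientGroup.mk_surjective h
    rw [← QuotientGroup.mk_mul, ← QuotientGroup.mk_mul, Subgroup.mem_center_iff.1 (hc hg) h]
  have hdec : ∀ g : Γ ⧸ E, ∃ p, ∃ w ∈ Subgroup.center (Γ ⧸ E), g = Φ p * w := by
    intro g
    refine ⟨φ.symm (σ' g), (Φ (φ.symm (σ' g)))⁻¹ * g, hker' ?_, by rw [mul_inv_cancel_left]⟩
    rw [MonoidHom.mem_ker, map_mul, map_inv]
    have : σ' (Φ (φ.symm (σ' g))) = σ' g := by
      exact (DFunLike.congr_fun hcomp (φ.symm (σ' g))).trans (φ.apply_symm_apply _)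
    rw [this, inv_mul_cancel]
  have hcomm : commutator (Γ ⧸ E) ≤ Φ.range := by
    rw [commutator_def, Subgroup.commutator_le]
    intro g _ h _
    obtain ⟨p, v, hv, rfl⟩ := hdec g
    obtain ⟨r, w, hw, rfl⟩ := hdec h
    refine ⟨p * r * p⁻¹ * r⁻¹, ?_⟩
    simp only [map_mul, map_inv]
    exact (Cfsg.Agent.CarmichaelLifts.commutator_mul_central hv hw _ _).symm
  have hsurj : Function.Surjective Φ := by
    rw [← MonoidHom.range_eq_top, eq_top_iff]
    intro g _
    obtain ⟨g, rfl⟩ := QuotientGroup.mk_surjective g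
    obtain ⟨p, hp⟩ : ∃ p, φ p = σ g := φ.surjective _
    obtain ⟨y, hy⟩ := QuotientGroup.mk_surjective (Φ p)
    have hy' : σ y = σ g := by
      have := DFunLike.congr_fun hcomp p
      have h' : σ' (Φ p) = φ p := this
      rw [← hy] at h'
      exact h'.trans hp
    have hz : y⁻¹ * g ∈ Z := (hmem _).2 (by rw [map_mul, map_inv, hy', inv_mul_cancel])
    have hmap : (commutator Γ).map π ≤ commutator (Γ ⧸ E) := by
      rw [commutator_def, commutator_def, Subgroup.map_commutator]
      exact Subgroup.commutator_mono le_top le_top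
    have : π (y⁻¹ * g) ∈ Φ.range := hcomm (hmap ⟨_, hZd hz, rfl⟩)
    have h2 := mul_mem (show Φ p ∈ Φ.range from ⟨p, rfl⟩) this
    rwa [← hy, show (QuotientGroup.mk y : Γ ⧸ E) * π (y⁻¹ * g) = π g by
      show π y * π (y⁻¹ * g) = π g
      rw [← map_mul, mul_inv_cancel_left]] at h2
  haveI : Finite (PresentedGroup (Cfsg.Agent.S3335.rels (n - 2))) :=
    Finite.of_equiv _ φ.symm.toEquiv
  have h1 : Nat.card (Γ ⧸ E) ≤ Nat.card (alternatingGroup (Fin n)) :=
    (Nat.card_le_card_of_surjective Φ hsurj).trans_eq (Nat.card_congr φ.toEquiv)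
  have h2 : Nat.card E ≤ 2 := by
    rw [Nat.card_zpowers]
    exact Nat.le_of_dvd (by norm_num) (orderOf_dvd_of_pow_eq_one (by rw [sq]; exact hc2))
  have h3 : Nat.card Γ = Nat.card (alternatingGroup (Fin n)) * Nat.card Z := by
    rw [Subgroup.card_eq_card_quotient_mul_card_subgroup Z, Nat.card_congr e.toEquiv]
  have h4 : Nat.card Γ ≤ Nat.card (alternatingGroup (Fin n)) * 2 := by
    rw [Subgroup.card_eq_card_quotient_mul_card_subgroup E]
    exact Nat.mul_le_mul h1 h2
  exact Nat.le_of_mul_le_mul_left (h3 ▸ h4) Nat.card_pos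

end Cfsg.Agent.S0892
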