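import Cfsg.Statements.S2493
import Cfsg.Agent.S0447
import Cfsg.Agent.S0892
import Cfsg.Agent.S3335
import Cfsg.Agent.Lib.CarmichaelLifts
import Cfsg.Agent.Lib.PermTwinFactor20
-- import your own Cfsg.Agent.* helpers here

set_option autoImplicit false
open Cfsg

namespace Cfsg.Agent.S2493

open Equiv Equiv.Perm

/-- The commutator of a lift of `d` with lifts of elements of a fixed set: a subgroup of lifts that commute. -/
theorem eq_one_or_eq {G : Type*} [Group G] {Z : Subgroup G} (hZ : Nat.card Z = 2) {z : G}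
    (hz : z ∈ Z) (hz1 : z ≠ 1) {w : G} (hw : w ∈ Z) : w = 1 ∨ w = z := by
  obtain ⟨u, v, -, huv⟩ := Nat.card_eq_two_iff.mp hZ
  have mem : ∀ t : Z, t = u ∨ t = v := fun t => by
    have : t ∈ ({u, v} : Set _) := huv ▸ Set.mem_univ t
    simpa using this
  by_cases hw1 : w = 1
  · exact Or.inl hw1
  refine Or.inr ?_
  have h1 : (⟨w, hw⟩ : Z) ≠ 1 := fun h => hw1 (congrArg Subtype.val h)
  have h2 : (⟨z, hz⟩ : Z) ≠ 1 := fun h => hz1 (congrArg Subtype.val h)
  have : (⟨w, hw⟩ : Z) = ⟨z, hz⟩ := by
    rcases mem 1 with h | h <;> rcases mem ⟨w, hw⟩ with h' | h' <;>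
      rcases mem ⟨z, hz⟩ with h'' | h'' <;> grind
  exact congrArg Subtype.val this

section

variable {G : Type*} [Group G] {n : ℕ}

/-- The hypotheses on the double cover. -/
structure Cov (π : G →* alternatingGroup (Fin n)) (z : G) : Prop where
  surj : Function.Surjective π
  ker : ∀ g, π g = 1 ↔ g = 1 ∨ g = z
  central : ∀ g, z * g = g * z
  sq : z * z = 1
  ne : z ≠ 1

variable {π : G →* alternatingGroup (Fin n)} {z : G}

theorem Cov.eq_or (hC : Cov π z) {x y : G} (h : π x = π y) : x = y ∨ x = y * z := by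
  rcases (hC.ker (y⁻¹ * x)).1 (by rw [map_mul, map_inv, h, inv_mul_cancel]) with e | e
  · exact Or.inl (inv_mul_eq_one.1 e).symm
  · exact Or.inr (inv_mul_eq_iff_eq_mul.1 e)

theorem Cov.comm_three (hC : Cov π z) {a b : G} (hab : π a * π b = π b * π a)
    (hb3 : π b ^ 3 = 1) : a * b = b * a := by
  rcases hC.eq_or (show π (a * b) = π (b * a) by rw [map_mul, map_mul, hab]) with e | e
  · exact e
  exfalso
  have hconj : a * b * a⁻¹ = b * z := by
    rw [e, mul_assoc b a z, ← hC.central a, ← mul_assoc, mul_inv_cancel_right]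
  have h3 := congrArg (· ^ 3) hconj
  simp only [conj_pow, (show Commute b z from (hC.central b).symm).mul_pow] at h3
  have hc : a * b ^ 3 * a⁻¹ = b ^ 3 := by
    rcases (hC.ker (b ^ 3)).1 (by rw [map_pow, hb3]) with h | h <;> rw [h]
    · simp
    · rw [← hC.central a, mul_inv_cancel_right]
  rw [hc, left_eq_mul, pow_succ, pow_two, hC.sq, one_mul] at h3
  exact hC.ne h3

theorem swaps_mem (a b c d : Fin n) (hab : a ≠ b) (hcd : c ≠ d) :
    Equiv.swap a b * Equiv.swap c d ∈ alternatingGroup (Fin n) := by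
  rw [Equiv.Perm.mem_alternatingGroup, map_mul, Equiv.Perm.sign_swap hab,
    Equiv.Perm.sign_swap hcd]
  decide

/-- Lifts of disjoint elements commute. -/
theorem Cov.comm_disjoint (hC : Cov π z) {a b : G}
    (hd : Perm.Disjoint (π a : Perm (Fin n)) (π b : Perm (Fin n))) : a * b = b * a := by
  classical
  set S := (π a : Perm (Fin n)).support with hS
  let ι : alternatingGroup {x // x ∉ S} →* alternatingGroup (Fin n) :=
    MonoidHom.codRestrict (Perm.ofSubtype.comp (alternatingGroup {x // x ∉ S}).subtype) _ fun r => by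
      rw [Equiv.Perm.mem_alternatingGroup]
      exact (Perm.sign_ofSubtype _).trans r.2
  let K : Subgroup (Perm {x // x ∉ S}) :=
    { carrier := {r | ∃ hr : r ∈ alternatingGroup {x // x ∉ S},
        ∀ g, π g = ι ⟨r, hr⟩ → a * g = g * a}
      one_mem' := ⟨one_mem _, fun g hg => by
        rcases (hC.ker g).1 (by rw [hg]; exact map_one ι) with rfl | rfl
        · simp
        · exact (hC.central a).symm⟩
      mul_mem' := by
        rintro r s ⟨hr, h1⟩ ⟨hs, h2⟩
        refine ⟨mul_mem hr hs, fun g hg => ?_⟩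
        obtain ⟨u, hu⟩ := hC.surj (ι ⟨r, hr⟩)
        have c1 := h1 u hu
        have c2 := h2 (u⁻¹ * g) (by
          rw [map_mul, map_inv, hu, hg, inv_mul_eq_iff_eq_mul, ← map_mul]; rfl)
        have := (show Commute a u from c1).mul_right (show Commute a (u⁻¹ * g) from c2)
        rwa [mul_inv_cancel_left] at this
      inv_mem' := by
        rintro r ⟨hr, h1⟩
        refine ⟨inv_mem hr, fun g hg => ?_⟩
        have c1 := h1 g⁻¹ (by rw [map_inv, hg, ← map_inv]; exact congrArg ι (Subtype.ext (inv_inv r)))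
        simpa using (show Commute a g⁻¹ from c1).inv_right.eq }
  have h3 : {r : Perm {x // x ∉ S} | r.IsThreeCycle} ⊆ K := by
    intro r hr
    refine ⟨hr.mem_alternatingGroup, fun g hg => hC.comm_three ?_ ?_⟩
    · rw [hg]
      refine Subtype.ext (Perm.Disjoint.commute ?_).eq
      intro x
      by_cases hx : x ∈ S
      · exact Or.inr (Perm.ofSubtype_apply_of_not_mem r (by simpa using hx))
      · exact Or.inl (notMem_support.1 hx)
    · rw [hg, ← map_pow]
      convert map_one ι
      refine Subtype.ext ?_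
      show r ^ 3 = 1
      rw [← hr.orderOf, pow_orderOf_eq_one]
  have hK := (Subgroup.closure_le K).2 h3
  rw [closure_three_cycles_eq_alternating] at hK
  have hmem : ∀ x, x ∉ S ↔ (π b : Perm (Fin n)) x ∉ S := by
    intro x
    rcases hd x with h | h
    · have hx : x ∉ S := notMem_support.2 h
      simp only [hx, not_false_iff, true_iff]
      intro hbx
      by_cases e : (π b : Perm (Fin n)) x = x
      · exact hx (e ▸ hbx)
      · rcases hd ((π b : Perm (Fin n)) x) with h' | h'
        · exact notMem_support.2 h' hbx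
        · exact e ((π b : Perm (Fin n)).injective h')
    · rw [h]
  let r : Perm {x // x ∉ S} := (π b : Perm (Fin n)).subtypePerm fun x => (hmem x).symm
  have hr : Perm.ofSubtype r = (π b : Perm (Fin n)) := by
    refine Perm.ofSubtype_subtypePerm _ fun x hx => ?_
    rcases hd x with h | h
    · exact notMem_support.2 h
    · exact absurd h hx
  have hr' : r ∈ alternatingGroup {x // x ∉ S} := by
    rw [Equiv.Perm.mem_alternatingGroup, ← Perm.sign_ofSubtype r, hr]
    exact (π b).2
  obtain ⟨hr'', hb⟩ := hK hr'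
  exact hb b (Subtype.ext hr.symm)

/-- Double transpositions. -/
def IsDT (σ : alternatingGroup (Fin n)) : Prop :=
  ∃ a b c d : Fin n, a ≠ b ∧ c ≠ d ∧ a ≠ c ∧ a ≠ d ∧ b ≠ c ∧ b ≠ d ∧
    (σ : Perm (Fin n)) = Equiv.swap a b * Equiv.swap c d

theorem dt_cycleType {a b c d : Fin n} (hab : a ≠ b) (hcd : c ≠ d) (hac : a ≠ c) (had : a ≠ d)
    (hbc : b ≠ c) (hbd : b ≠ d) :
    (Equiv.swap a b * Equiv.swap c d).cycleType = {2, 2} := by
  have hd : Perm.Disjoint (Equiv.swap a b) (Equiv.swap c d) := disjoint_iff_disjoint_support.2 (by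
    rw [support_swap hab, support_swap hcd]
    simp [hac, had, hbc, hbd, Ne.symm hac, Ne.symm had, Ne.symm hbc, Ne.symm hbd])
  rw [hd.cycleType_mul, (swap_isSwap_iff.2 hab).isCycle.cycleType,
    (swap_isSwap_iff.2 hcd).isCycle.cycleType, support_swap hab, support_swap hcd,
    Finset.card_pair hab, Finset.card_pair hcd]
  rfl

/-- Conjugacy in the alternating group when some 2-cycle is present. -/
theorem conj_alt {σ τ : alternatingGroup (Fin n)}
    (he : (σ : Perm (Fin n)).cycleType = (τ : Perm (Fin n)).cycleType)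
    (h2 : 2 ∈ (σ : Perm (Fin n)).cycleType) : ∃ g, g * σ * g⁻¹ = τ := by
  obtain ⟨g, hg⟩ := isConj_iff.mp (isConj_iff_cycleType_eq.mpr he)
  rcases Int.units_eq_one_or (Perm.sign g) with hs | hs
  · exact ⟨⟨g, hs⟩, Subtype.ext hg⟩
  · rw [cycleType_def, Multiset.mem_map] at h2
    obtain ⟨c, hc', hc2⟩ := h2
    have hc : c ∈ (σ : Perm (Fin n)).cycleFactorsFinset := hc'
    have hd := disjoint_mul_inv_of_mem_cycleFactorsFinset hc
    have hcm : c * (σ : Perm (Fin n)) * c⁻¹ = σ := by
      have e : (σ : Perm (Fin n)) = c * ((σ : Perm (Fin n)) * c⁻¹) := by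
        rw [← hd.commute.eq]; group
      conv_rhs => rw [show (σ : Perm (Fin n)) = ((σ : Perm (Fin n)) * c⁻¹) * c by group, hd.commute.eq]
      group
    have hcs : Perm.sign c = -1 := by
      rw [(mem_cycleFactorsFinset_iff.1 hc).1.sign]
      rw [show c.support.card = 2 from hc2]
      decide
    refine ⟨⟨g * c, ?_⟩, Subtype.ext ?_⟩
    · rw [Equiv.Perm.mem_alternatingGroup, map_mul, hs, hcs]; decide
    · show g * c * (σ : Perm (Fin n)) * (g * c)⁻¹ = _
      calc g * c * (σ : Perm (Fin n)) * (g * c)⁻¹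
          = g * (c * (σ : Perm (Fin n)) * c⁻¹) * g⁻¹ := by group
        _ = _ := by rw [hcm, hg]

/-- If one lift of a double transposition is an involution, so is every lift of an involution. -/
theorem Cov.invol_lifts (hC : Cov π z) {u : G} (hu : IsDT (π u)) (hu2 : u * u = 1) :
    ∀ g : G, π g * π g = 1 → g * g = 1 := by
  have hdt : ∀ g : G, IsDT (π g) → g * g = 1 := by
    intro g hg
    obtain ⟨a, b, c, d, hab, hcd, hac, had, hbc, hbd, e⟩ := hu
    obtain ⟨a', b', c', d', hab', hcd', hac', had', hbc', hbd', e'⟩ := hg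
    have h1 := dt_cycleType hab hcd hac had hbc hbd
    have h2 := dt_cycleType hab' hcd' hac' had' hbc' hbd'
    rw [← e] at h1; rw [← e'] at h2
    obtain ⟨k, hk⟩ := conj_alt (h1.trans h2.symm) (by rw [h1]; simp)
    obtain ⟨k, rfl⟩ := hC.surj k
    rcases hC.eq_or (show π g = π (k * u * k⁻¹) by rw [map_mul, map_mul, map_inv, hk]) with e | e <;>
      rw [e]
    · rw [show k * u * k⁻¹ * (k * u * k⁻¹) = k * (u * u) * k⁻¹ by group, hu2]; simp
    · rw [show k * u * k⁻¹ * z * (k * u * k⁻¹ * z) = k * u * k⁻¹ * (z * (k * u * k⁻¹)) * z by group,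
        hC.central, show k * u * k⁻¹ * (k * u * k⁻¹ * z) * z = k * (u * u) * k⁻¹ * (z * z) by group,
        hu2, hC.sq]
      simp
  intro g
  induction h : (π g : Perm (Fin n)).support.card using Nat.strong_induction_on generalizing g with
  | _ m ih =>
    intro hg
    have hg' : ∀ x, (π g : Perm (Fin n)) ((π g : Perm (Fin n)) x) = x := fun x => by
      have := congrArg (fun s : alternatingGroup (Fin n) => (s : Perm (Fin n)) x) hg
      simpa using this
    by_cases h1 : (π g : Perm (Fin n)) = 1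
    · rcases (hC.ker g).1 (Subtype.ext h1) with rfl | rfl
      · simp
      · exact hC.sq
    obtain ⟨a, ha⟩ : ∃ a, (π g : Perm (Fin n)) a ≠ a := by
      by_contra hno; push Not at hno; exact h1 (Equiv.ext hno)
    set σ := (π g : Perm (Fin n)) with hσ
    obtain ⟨c, hca, hcb, hcc⟩ : ∃ c, c ≠ a ∧ c ≠ σ a ∧ σ c ≠ c := by
      by_contra hno
      push Not at hno
      have hsw : σ = Equiv.swap a (σ a) := by
        ext x
        by_cases x1 : x = a
        · subst x1; rw [swap_apply_left]
        by_cases x2 : x = σ a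
        · subst x2; rw [swap_apply_right, hg']
        rw [swap_apply_of_ne_of_ne x1 x2, hno x x1 x2]
      have hsgn : Perm.sign σ = 1 := (π g).2
      rw [hsw, Perm.sign_swap (Ne.symm ha)] at hsgn
      exact absurd hsgn (by decide)
    have e1 : a ≠ c := Ne.symm hca
    have e2 : a ≠ σ c := fun e => hcb (by rw [e, hg'])
    have e3 : σ a ≠ c := Ne.symm hcb
    have e4 : σ a ≠ σ c := fun e => e1 (σ.injective e)
    set δ : Perm (Fin n) := Equiv.swap a (σ a) * Equiv.swap c (σ c) with hδ
    have dc : Perm.Disjoint (Equiv.swap a (σ a)) (Equiv.swap c (σ c)) :=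
      disjoint_iff_disjoint_support.2 (by
        rw [support_swap (Ne.symm ha), support_swap (Ne.symm hcc)]
        simp [e1, e2, e3, e4, Ne.symm e1, Ne.symm e2, Ne.symm e3, Ne.symm e4])
    obtain ⟨d, hd⟩ := hC.surj ⟨δ, swaps_mem _ _ _ _ (Ne.symm ha) (Ne.symm hcc)⟩
    have hd' : (π d : Perm (Fin n)) = δ := by rw [hd]
    have hdd : d * d = 1 :=
      hdt d ⟨a, σ a, c, σ c, Ne.symm ha, Ne.symm hcc, e1, e2, e3, e4, hd'⟩
    set w := d * g with hw
    have hwp : (π w : Perm (Fin n)) = δ * σ := by rw [map_mul, Subgroup.coe_mul, hd']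
    have hfix : ∀ x, x = a ∨ x = σ a ∨ x = c ∨ x = σ c → (π w : Perm (Fin n)) x = x := by
      intro x hx
      rw [hwp, Perm.mul_apply, hδ, Perm.mul_apply]
      rcases hx with rfl | rfl | rfl | rfl
      · rw [swap_apply_of_ne_of_ne e3 e4, swap_apply_right]
      · rw [hg', swap_apply_of_ne_of_ne e1 e2, swap_apply_left]
      · rw [swap_apply_right, swap_apply_of_ne_of_ne hca hcb]
      · rw [hg', swap_apply_left, swap_apply_of_ne_of_ne (Ne.symm e2) (Ne.symm e4)]
    have hmove : ∀ x, x ≠ a → x ≠ σ a → x ≠ c → x ≠ σ c → (π w : Perm (Fin n)) x = σ x := by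
      intro x x1 x2 x3 x4
      rw [hwp, Perm.mul_apply, hδ, Perm.mul_apply,
        swap_apply_of_ne_of_ne (fun e => x4 (by rw [← e, hg'])) (fun e => x3 (σ.injective e)),
        swap_apply_of_ne_of_ne (fun e => x2 (by rw [← e, hg'])) (fun e => x1 (σ.injective e))]
    have hdis : Perm.Disjoint (π d : Perm (Fin n)) (π w : Perm (Fin n)) := by
      intro x
      by_cases hx : x = a ∨ x = σ a ∨ x = c ∨ x = σ c
      · exact Or.inr (hfix x hx)
      · push Not at hx
        refine Or.inl ?_
        rw [hd', hδ, Perm.mul_apply, swap_apply_of_ne_of_ne hx.2.2.1 hx.2.2.2,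
          swap_apply_of_ne_of_ne hx.1 hx.2.1]
    have hlt : (π w : Perm (Fin n)).support.card < m := by
      rw [← h]
      refine Finset.card_lt_card ⟨fun x hx => ?_, fun hsub => ?_⟩
      · rw [mem_support] at hx ⊢
        intro e
        by_cases hx' : x = a ∨ x = σ a ∨ x = c ∨ x = σ c
        · exact hx (hfix x hx')
        · push Not at hx'
          rw [hmove x hx'.1 hx'.2.1 hx'.2.2.1 hx'.2.2.2] at hx
          exact hx e
      · exact (mem_support.1 (hsub (mem_support.2 ha))) (hfix a (Or.inl rfl))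
    have hdw := hC.comm_disjoint hdis
    have hπ : π g = π d * π w := by
      have : d * w = g := by rw [hw, ← mul_assoc, hdd, one_mul]
      rw [← map_mul, this]
    have hww : π w * π w = 1 := by
      have hc' : π d * π w = π w * π d := by rw [← map_mul, ← map_mul, hdw]
      have := hg
      rw [hπ, show π d * π w * (π d * π w) = π d * (π w * π d) * π w by group, ← hc',
        show π d * (π d * π w) * π w = (π d * π d) * (π w * π w) by group, ← map_mul, hdd,
        map_one, one_mul] at this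
      exact this
    have := ih _ hlt w rfl hww
    calc g * g = (d * w) * (d * w) := by rw [hw, ← mul_assoc d, hdd, one_mul]
      _ = d * (w * d) * w := by group
      _ = (d * d) * (w * w) := by rw [← hdw]; group
      _ = 1 := by rw [hdd, this, one_mul]

/-- Two commuting double transpositions on four points: lifts anticommute. -/
theorem Cov.anti (hC : Cov π z) (hsq : ∀ g : G, IsDT (π g) → g * g = z) {d g : G}
    {a b c e : Fin n} (hab : a ≠ b) (hac : a ≠ c) (hae : a ≠ e) (hbc : b ≠ c) (hbe : b ≠ e)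
    (hce : c ≠ e) (hd : (π d : Perm (Fin n)) = Equiv.swap a b * Equiv.swap c e)
    (hg : (π g : Perm (Fin n)) = Equiv.swap a c * Equiv.swap b e) : d * g = z * (g * d) := by
  have h1 := hsq d ⟨a, b, c, e, hab, hce, hac, hae, hbc, hbe, hd⟩
  have h2 := hsq g ⟨a, c, b, e, hac, hbe, hab, hae, Ne.symm hbc, hce, hg⟩
  have h3 := hsq (d * g) ⟨a, e, b, c, hae, hbc, hab, hac, Ne.symm hbe, Ne.symm hce, by
    rw [map_mul, Subgroup.coe_mul, hd, hg]
    ext x
    simp only [Perm.mul_apply]
    by_cases x1 : x = a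
    · subst x1; simp [swap_apply_def, hab, hac, hae, hbc, hbe, hce, Ne.symm hab, Ne.symm hac,
        Ne.symm hae, Ne.symm hbc, Ne.symm hbe, Ne.symm hce]
    by_cases x2 : x = b
    · subst x2; simp [swap_apply_def, hab, hac, hae, hbc, hbe, hce, Ne.symm hab, Ne.symm hac,
        Ne.symm hae, Ne.symm hbc, Ne.symm hbe, Ne.symm hce]
    by_cases x3 : x = c
    · subst x3; simp [swap_apply_def, hab, hac, hae, hbc, hbe, hce, Ne.symm hab, Ne.symm hac,
        Ne.symm hae, Ne.symm hbc, Ne.symm hbe, Ne.symm hce]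
    by_cases x4 : x = e
    · subst x4; simp [swap_apply_def, hab, hac, hae, hbc, hbe, hce, Ne.symm hab, Ne.symm hac,
        Ne.symm hae, Ne.symm hbc, Ne.symm hbe, Ne.symm hce]
    simp [swap_apply_of_ne_of_ne, x1, x2, x3, x4]⟩
  have hinvd : d⁻¹ = z * d := inv_eq_of_mul_eq_one_right (by
    rw [← mul_assoc, ← hC.central, mul_assoc, h1, hC.sq])
  have hinvg : g⁻¹ = z * g := inv_eq_of_mul_eq_one_right (by
    rw [← mul_assoc, ← hC.central, mul_assoc, h2, hC.sq])
  calc d * g = (d * g) * (d * g) * g⁻¹ * d⁻¹ := by group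
    _ = z * (z * g) * (z * d) := by rw [h3, hinvd, hinvg]
    _ = z * z * (g * (z * d)) := by group
    _ = g * z * d := by rw [hC.sq, one_mul, mul_assoc]
    _ = z * (g * d) := by rw [← hC.central g, mul_assoc]

end

/-- Let n ≥ 5 and let G be a finite perfect group whose centre has order 2 with G/Z(G) isomorphic to the alternating group of degree n (the double cover of the alternating group). Then every element of G is a commutator. -/
theorem result {G : Type*} [Group G] [Finite G] (hperf : commutator G = ⊤) {n : ℕ} (hn : 5 ≤ n)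
    (hZ : Nat.card (Subgroup.center G) = 2) (e : G ⧸ Subgroup.center G ≃* alternatingGroup (Fin n))
    (g : G) :
    ∃ a b : G, a * b * a⁻¹ * b⁻¹ = g := by
  classical
  set π : G →* alternatingGroup (Fin n) :=
    e.toMonoidHom.comp (QuotientGroup.mk' (Subgroup.center G)) with hπdef
  have hker : ∀ h, π h = 1 ↔ h ∈ Subgroup.center G := fun h => by
    show e (QuotientGroup.mk h) = 1 ↔ _
    rw [map_eq_one_iff _ e.injective, QuotientGroup.eq_one_iff]
  have hsurj : Function.Surjective π := e.surjective.comp Quotient.mk''_surjective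
  obtain ⟨z, hzZ, hz1⟩ : ∃ z ∈ Subgroup.center G, z ≠ 1 := by
    by_contra hno
    push Not at hno
    rw [(Subgroup.eq_bot_iff_forall _).2 hno, Subgroup.card_bot] at hZ
    omega
  have hzc : ∀ x, z * x = x * z := fun x => (Subgroup.mem_center_iff.1 hzZ x).symm
  have hzz : z * z = 1 := by
    have h := pow_card_eq_one' (G := Subgroup.center G) (x := ⟨z, hzZ⟩)
    rw [hZ] at h
    simpa [pow_two] using congrArg Subtype.val h
  have hC : Cov π z := ⟨hsurj, fun x => by
    rw [hker]
    refine ⟨fun h => eq_one_or_eq hZ hzZ hz1 h, ?_⟩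
    rintro (rfl | rfl)
    exacts [one_mem _, hzZ], hzc, hzz, hz1⟩
  -- a complement contradicts perfectness
  have hnocompl : ∀ L : Subgroup G, ¬ (Subgroup.center G).IsComplement' L := by
    intro L hL
    have hdec : ∀ x : G, ∃ w ∈ Subgroup.center G, ∃ l ∈ L, x = w * l := fun x => by
      obtain ⟨⟨w, l⟩, he⟩ := hL.2 x
      exact ⟨w, w.2, l, l.2, he.symm⟩
    have hle : commutator G ≤ L := by
      rw [commutator_def, Subgroup.commutator_le]
      intro x _ y _
      obtain ⟨v, hv, l, hl, rfl⟩ := hdec x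
      obtain ⟨w, hw, m, hm, rfl⟩ := hdec y
      rw [commutatorElement_def, ← Subgroup.mem_center_iff.1 hv l, ← Subgroup.mem_center_iff.1 hw m,
        Cfsg.Agent.CarmichaelLifts.commutator_mul_central hv hw]
      exact mul_mem (mul_mem (mul_mem hl hm) (inv_mem hl)) (inv_mem hm)
    rw [hperf, top_le_iff] at hle
    have := hL.card_mul
    rw [hle, Subgroup.card_top, hZ] at this
    have h0 : 0 < Nat.card G := Nat.card_pos
    omega
  -- lifts of double transpositions square to z
  have hsq : ∀ u : G, IsDT (π u) → u * u = z := by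
    intro u hu
    have hne : π u ≠ 1 := by
      obtain ⟨a, b, c, d, hab, hcd, hac, had, hbc, hbd, e'⟩ := hu
      intro h
      have h1 := dt_cycleType hab hcd hac had hbc hbd
      rw [← e', h] at h1
      simp at h1
    have hu2 : π u * π u = 1 := by
      obtain ⟨a, b, c, d, hab, hcd, hac, had, hbc, hbd, e'⟩ := hu
      have h1 := dt_cycleType hab hcd hac had hbc hbd
      rw [← e'] at h1
      refine Subtype.ext ?_
      rw [Subgroup.coe_mul, ← pow_two]
      have h2 := Equiv.Perm.lcm_cycleType (π u : Equiv.Perm (Fin n))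
      rw [h1] at h2
      have h3 : orderOf (π u : Equiv.Perm (Fin n)) = 2 := by rw [← h2]; decide
      rw [← h3]
      exact pow_orderOf_eq_one _
    rcases (hC.ker (u * u)).1 (by rw [map_mul, hu2]) with h | h
    swap
    · exact h
    exfalso
    rcases Nat.lt_or_ge n 8 with h8 | h8
    · -- small degree
      obtain ⟨H, hG, hF, ⟨φ⟩⟩ := Finite.exists_type_univ_nonempty_mulEquiv.{_, 0} G
      haveI : Finite H := @Finite.of_fintype H hF
      have hcen : Subgroup.center H = (Subgroup.center G).map φ.toMonoidHom := by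
        ext x
        rw [Subgroup.mem_center_iff]
        constructor
        · intro hx
          refine ⟨φ.symm x, Subgroup.mem_center_iff.2 fun y => φ.injective ?_, φ.apply_symm_apply x⟩
          simpa using hx (φ y)
        · rintro ⟨w, hw, rfl⟩ y
          obtain ⟨y, rfl⟩ := φ.surjective y
          show φ y * φ w = φ w * φ y
          rw [← map_mul, ← map_mul, Subgroup.mem_center_iff.1 hw y]
      have hH : Cfsg.IsNonsplitDoubleCover H (alternatingGroup (Fin n)) := by
        refine ⟨?_, ⟨(QuotientGroup.congr _ _ φ hcen.symm).symm.trans e⟩, fun L hL => ?_⟩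
        · rw [hcen, ← hZ]
          exact (Nat.card_congr ((Subgroup.center G).equivMapOfInjective _ φ.injective).toEquiv).symm
        · refine hnocompl (L.comap φ.toMonoidHom) ⟨?_, ?_⟩
          · rintro ⟨⟨a, ha⟩, ⟨b, hb⟩⟩ ⟨⟨a', ha'⟩, ⟨b', hb'⟩⟩ (he : a * b = a' * b')
            have := @hL.1 (⟨φ a, hcen ▸ ⟨a, ha, rfl⟩⟩, ⟨φ b, hb⟩)
              (⟨φ a', hcen ▸ ⟨a', ha', rfl⟩⟩, ⟨φ b', hb'⟩)
              (show φ a * φ b = φ a' * φ b' by rw [← map_mul, ← map_mul, he])
            obtain ⟨t1, t2⟩ := Prod.mk.inj this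
            obtain rfl := φ.injective (congrArg Subtype.val t1)
            obtain rfl := φ.injective (congrArg Subtype.val t2)
            rfl
          · intro x
            obtain ⟨⟨⟨a, ha⟩, ⟨b, hb⟩⟩, (he : a * b = φ x)⟩ := hL.2 (φ x)
            rw [hcen] at ha
            obtain ⟨a₀, ha₀, rfl⟩ := ha
            refine ⟨(⟨a₀, ha₀⟩, ⟨φ.symm b, show φ (φ.symm b) ∈ L by
              rw [φ.apply_symm_apply]; exact hb⟩), φ.injective ?_⟩
            show φ (a₀ * φ.symm b) = φ x
            rw [map_mul, φ.apply_symm_apply]; exact he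
      have ho : orderOf (φ u) = 2 := by
        rw [MulEquiv.orderOf_eq]
        exact orderOf_eq_prime (by rw [pow_two]; exact h) (fun h1 => hne (by rw [h1, map_one]))
      have hc := Cfsg.Agent.S0447.part_one n H (by omega) hH (φ u) ho
      rw [hcen] at hc
      obtain ⟨w, hw, hwu⟩ := hc
      exact hne ((hker u).2 (φ.injective hwu ▸ hw))
    · -- large degree: Carmichael's relations
      have hinv := hC.invol_lifts hu h
      obtain ⟨φ⟩ := Cfsg.Agent.S3335.result n (by omega)
      let x : ℕ → alternatingGroup (Fin n) := fun i =>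
        if h : i < n - 2 then φ (PresentedGroup.of ⟨i, h⟩) else 1
      have hxof : ∀ i : Fin (n - 2), x i = φ (PresentedGroup.of i) := fun i => dif_pos i.2
      have hrel : ∀ r, r ∈ _ → φ (PresentedGroup.mk _ r) = 1 := fun r hr => by
        rw [PresentedGroup.one_of_mem hr, map_one]
      have hx : Cfsg.Agent.CarmichaelLifts.Rels (n - 2) x := by
        refine ⟨?_, fun i h1 h2 => ?_, fun i h => ?_, fun i j h1 h2 => ?_⟩
        · rw [show x 0 = _ from hxof ⟨0, by omega⟩]
          exact (map_pow φ _ _).symm.trans ((congrArg φ (map_pow _ _ _).symm).trans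
            (hrel _ (.inl (.inl (.inl ⟨_, rfl, rfl⟩)))))
        · rw [show x i = _ from hxof ⟨i, h2⟩]
          exact (map_pow φ _ _).symm.trans ((congrArg φ (map_pow _ _ _).symm).trans
            (hrel _ (.inl (.inl (.inr ⟨⟨i, h2⟩, h1, rfl⟩)))))
        · rw [show x i = _ from hxof ⟨i, by omega⟩, show x (i + 1) = _ from hxof ⟨i + 1, h⟩,
            ← map_mul]
          have := hrel _ (.inl (.inr ⟨⟨i, by omega⟩, ⟨i + 1, h⟩, rfl, rfl⟩))
          rwa [map_pow, map_mul, map_pow] at this
        · rw [show x i = _ from hxof ⟨i, by omega⟩, show x j = _ from hxof ⟨j, h2⟩, ← map_mul]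
          have := hrel _ (.inr ⟨⟨i, by omega⟩, ⟨j, h2⟩, h1, rfl⟩)
          rwa [map_pow, map_mul, map_pow] at this
      obtain ⟨c, f, hcσ, hc2, hfσ, hf0, hfsq, hfbr, hffar⟩ :=
        Cfsg.Agent.CarmichaelLifts.exists_relations hsurj (fun w hw => (hker w).1 hw)
          (by omega : 6 ≤ n - 2) hx
      have hc1 : c = 1 := by
        rw [← hfsq 1 le_rfl (by omega), pow_two]
        exact hinv _ (by rw [hfσ 1 (by omega), ← pow_two]; exact hx.sq 1 le_rfl (by omega))
      let F : Fin (n - 2) → G := fun i => f i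
      let Φ := PresentedGroup.toGroup (f := F) (h := Cfsg.Agent.S3335.lift_rels F
        (fun i hi => by show f i ^ 3 = 1; rw [hi, hf0])
        (fun i hi => by show f i ^ 2 = 1; rw [hfsq i hi i.2, hc1])
        (fun i j hij => by
          show (f i * f j) ^ 3 = 1
          rw [hij, hfbr i (hij ▸ j.2), hc1])
        (fun i j hij => by
          show (f i * f j) ^ 2 = 1
          rw [hffar i j hij j.2, hc1]))
      have hcomp : π.comp Φ = φ.toMonoidHom := PresentedGroup.ext fun i => by
        show π (Φ (PresentedGroup.of i)) = φ (PresentedGroup.of i)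
        rw [show Φ (PresentedGroup.of i) = F i from PresentedGroup.toGroup.of _, ← hxof]
        exact hfσ i i.2
      refine hnocompl Φ.range ⟨?_, ?_⟩
      · rintro ⟨⟨a, ha⟩, ⟨_, p, rfl⟩⟩ ⟨⟨a', ha'⟩, ⟨_, p', rfl⟩⟩ (he : a * Φ p = a' * Φ p')
        have h1 := congrArg π he
        rw [map_mul, map_mul, (hker a).2 ha, (hker a').2 ha', one_mul, one_mul] at h1
        have h2 : φ p = φ p' :=
          (DFunLike.congr_fun hcomp p).symm.trans (h1.trans (DFunLike.congr_fun hcomp p'))
        obtain rfl := φ.injective h2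
        obtain rfl := mul_right_cancel he
        rfl
      · intro y
        obtain ⟨p, hp⟩ := φ.surjective (π y)
        refine ⟨(⟨y * (Φ p)⁻¹, (hker _).1 ?_⟩, ⟨Φ p, p, rfl⟩), inv_mul_cancel_right y (Φ p)⟩
        rw [map_mul, map_inv, show π (Φ p) = π y from (DFunLike.congr_fun hcomp p).trans hp,
          mul_inv_cancel]
  -- the main argument
  obtain ⟨h, v, hhv, hct, htwo, heven⟩ :=
    Cfsg.Agent.PermTwinFactor20.twin (α := Fin n) (by simpa using hn)
      (π g : Equiv.Perm (Fin n)) (π g).2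
  have hsh : Equiv.Perm.sign h = 1 := by
    rw [Cfsg.Agent.PermTwinFactor20.sign_eq]
    exact heven.neg_one_pow
  have hsv : Equiv.Perm.sign v⁻¹ = 1 := by
    rw [Cfsg.Agent.PermTwinFactor20.sign_eq, Cfsg.Agent.PermTwinFactor20.len,
      Equiv.Perm.cycleType_inv, ← hct]
    exact heven.neg_one_pow
  obtain ⟨k, hk⟩ := conj_alt (σ := ⟨h, hsh⟩) (τ := ⟨v⁻¹, hsv⟩)
    (by simp [Equiv.Perm.cycleType_inv, hct])
    (show 2 ∈ h.cycleType from Multiset.count_pos.1 (by omega))
  obtain ⟨k, rfl⟩ := hsurj k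
  obtain ⟨H, hH⟩ := hsurj ⟨h, hsh⟩
  -- an anticommuting element
  obtain ⟨y, hy⟩ : ∃ y : G, H * y = z * (y * H) := by
    have hm : 2 ∈ h.cycleType := Multiset.count_pos.1 (by omega)
    rw [Equiv.Perm.cycleType_def, Multiset.mem_map] at hm
    obtain ⟨c₁, hc₁', hc₁2⟩ := hm
    have hc₁ : c₁ ∈ h.cycleFactorsFinset := hc₁'
    have hd₁ := Equiv.Perm.disjoint_mul_inv_of_mem_cycleFactorsFinset hc₁
    have hc₁c := (Equiv.Perm.mem_cycleFactorsFinset_iff.1 hc₁).1
    have e₁ : h = c₁ * (h * c₁⁻¹) := by rw [← hd₁.commute.eq]; group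
    have hm2 : 2 ∈ (h * c₁⁻¹).cycleType := by
      have h' := htwo
      rw [e₁, hd₁.symm.cycleType_mul, hc₁c.cycleType, show c₁.support.card = 2 from hc₁2,
        Multiset.singleton_add, Multiset.count_cons_self] at h'
      exact Multiset.count_pos.1 (by omega)
    rw [Equiv.Perm.cycleType_def, Multiset.mem_map] at hm2
    obtain ⟨c₂, hc₂', hc₂2⟩ := hm2
    have hc₂ : c₂ ∈ (h * c₁⁻¹).cycleFactorsFinset := hc₂'
    have hd₂ := Equiv.Perm.disjoint_mul_inv_of_mem_cycleFactorsFinset hc₂
    obtain ⟨a, b, hab, rfl⟩ := Equiv.Perm.card_support_eq_two.1 hc₁2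
    obtain ⟨c, d, hcd, rfl⟩ := Equiv.Perm.card_support_eq_two.1 hc₂2
    set r := h * (Equiv.swap a b)⁻¹ * (Equiv.swap c d)⁻¹ with hr
    have e₂ : h * (Equiv.swap a b)⁻¹ = Equiv.swap c d * r := by
      rw [← hd₂.commute.eq, hr]; group
    have hab_cd := (Equiv.Perm.disjoint_iff_disjoint_support.1 hd₁.symm).mono_right
      (Equiv.Perm.mem_cycleFactorsFinset_support_le hc₂)
    rw [Equiv.Perm.support_swap hab, Equiv.Perm.support_swap hcd] at hab_cd
    simp only [Finset.disjoint_insert_left, Finset.disjoint_singleton_left, Finset.mem_insert,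
      Finset.mem_singleton, not_or] at hab_cd
    obtain ⟨⟨hac, had⟩, hbc, hbd⟩ := hab_cd
    have hrfix : ∀ x, x = a ∨ x = b ∨ x = c ∨ x = d → r x = x := by
      intro x hx
      have hr2 : r.support ⊆ (h * (Equiv.swap a b)⁻¹).support := by
        rw [e₂, hd₂.symm.support_mul]; exact Finset.subset_union_right
      rw [← Equiv.Perm.notMem_support]
      intro hxr
      rcases hx with hx | hx | hx | hx
      · exact Finset.disjoint_left.1 (Equiv.Perm.disjoint_iff_disjoint_support.1 hd₁.symm)
          (by rw [Equiv.Perm.support_swap hab, hx]; simp) (hr2 hxr)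
      · exact Finset.disjoint_left.1 (Equiv.Perm.disjoint_iff_disjoint_support.1 hd₁.symm)
          (by rw [Equiv.Perm.support_swap hab, hx]; simp) (hr2 hxr)
      · exact Finset.disjoint_left.1 (Equiv.Perm.disjoint_iff_disjoint_support.1 hd₂.symm)
          (by rw [Equiv.Perm.support_swap hcd, hx]; simp) hxr
      · exact Finset.disjoint_left.1 (Equiv.Perm.disjoint_iff_disjoint_support.1 hd₂.symm)
          (by rw [Equiv.Perm.support_swap hcd, hx]; simp) hxr
    obtain ⟨D, hD⟩ := hsurj ⟨_, swaps_mem a b c d hab hcd⟩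
    obtain ⟨Y, hY⟩ := hsurj ⟨_, swaps_mem a c b d hac hbd⟩
    have hD' : (π D : Equiv.Perm (Fin n)) = Equiv.swap a b * Equiv.swap c d := by rw [hD]
    have hY' : (π Y : Equiv.Perm (Fin n)) = Equiv.swap a c * Equiv.swap b d := by rw [hY]
    have hDY := hC.anti hsq hab hac had hbc hbd hcd hD' hY'
    set R := D⁻¹ * H with hR
    have hR' : (π R : Equiv.Perm (Fin n)) = r := by
      rw [map_mul, map_inv, Subgroup.coe_mul, Subgroup.coe_inv, hD', hH]
      show (Equiv.swap a b * Equiv.swap c d)⁻¹ * h = r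
      conv_lhs => rw [e₁, e₂]
      group
    have hRY : R * Y = Y * R := by
      refine hC.comm_disjoint fun x => ?_
      rw [hR', hY']
      by_cases hx : x = a ∨ x = b ∨ x = c ∨ x = d
      · exact Or.inl (hrfix x hx)
      · push Not at hx
        refine Or.inr ?_
        rw [Equiv.Perm.mul_apply, Equiv.swap_apply_of_ne_of_ne hx.2.1 hx.2.2.2,
          Equiv.swap_apply_of_ne_of_ne hx.1 hx.2.2.1]
    refine ⟨Y, ?_⟩
    have hHR : H = D * R := by rw [hR]; group
    rw [hHR, mul_assoc D R Y, hRY, ← mul_assoc D Y R, hDY]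
    group
  have hπ : π g = π (H * k * H⁻¹ * k⁻¹) := by
    have hk' : π k * ⟨h, hsh⟩⁻¹ * (π k)⁻¹ = (⟨v⁻¹, hsv⟩ : alternatingGroup (Fin n))⁻¹ := by
      rw [← hk]; group
    rw [map_mul, map_mul, map_mul, map_inv, map_inv, hH, mul_assoc, mul_assoc, ← mul_assoc (π k),
      hk']
    refine Subtype.ext ?_
    simp [← hhv]
  rcases hC.eq_or hπ with e' | e'
  · exact ⟨H, k, e'.symm⟩
  · refine ⟨H, k * y, ?_⟩
    rw [e', mul_inv_rev]
    have h1 : y * H⁻¹ * y⁻¹ = z * H⁻¹ := by
      have hy' : y * H = z * (H * y) := by rw [hy, ← mul_assoc, hzz, one_mul]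
      have h2 : y * H * y⁻¹ = z * H := by rw [hy']; group
      have h3 : (y * H * y⁻¹)⁻¹ = (z * H)⁻¹ := by rw [h2]
      rw [show (y * H * y⁻¹)⁻¹ = y * H⁻¹ * y⁻¹ by group, mul_inv_rev,
        inv_eq_of_mul_eq_one_right hzz, ← hzc] at h3
      exact h3
    rw [show H * (k * y) * H⁻¹ * (y⁻¹ * k⁻¹) = H * k * (y * H⁻¹ * y⁻¹) * k⁻¹ by group, h1,
      hzc H⁻¹]
    rw [show H * k * (H⁻¹ * z) * k⁻¹ = H * k * H⁻¹ * (z * k⁻¹) by group, hzc k⁻¹]
    group
end Cfsg.Agent.S2493
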