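import Cfsg.Statements.S3573
import Mathlib
-- import your own Cfsg.Agent.* helpers here

set_option autoImplicit false
open Cfsg

namespace Cfsg.Agent.S3573

section
variable {n r : ℕ}

theorem invariant_sets (hr : r.Prime) (σ : Equiv.Perm (Fin n)) (hσ : orderOf σ = r) :
    ∀ i, r * i ≤ σ.support.card →
      ∃ T : Finset (Fin n), T ⊆ σ.support ∧ T.card = r * i ∧ T.image σ = T := by
  intro i
  induction i with
  | zero => intro _; exact ⟨∅, by simp⟩
  | succ i ih =>
    intro hi
    obtain ⟨T, hT, hTc, hTi⟩ := ih (le_trans (Nat.mul_le_mul_left r (Nat.le_succ i)) hi)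
    obtain ⟨x, hx, hxT⟩ := Finset.exists_mem_notMem_of_card_lt_card
      (show T.card < σ.support.card by rw [hTc, Nat.mul_succ] at *; have := hr.pos; omega)
    have hclosed : ∀ y, y ∈ T ↔ σ y ∈ T := by
      intro y
      conv_rhs => rw [← hTi]
      exact (σ.injective.mem_finset_image).symm
    have hd : Disjoint (σ.cycleOf x).support T := by
      rw [Finset.disjoint_left]
      intro y hy hyT
      rw [Equiv.Perm.mem_support_cycleOf_iff] at hy
      apply hxT
      have hk : ∀ (l : ℕ) (z : Fin n), z ∈ T ↔ (σ ^ l) z ∈ T := by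
        intro l
        induction l with
        | zero => simp
        | succ l ihl => intro z; rw [pow_succ', Equiv.Perm.mul_apply, ← hclosed, ihl z]
      obtain ⟨l, hl⟩ := hy.1.exists_nat_pow_eq
      rw [hk l, hl]
      exact hyT
    have hc : (σ.cycleOf x).support.card = r := by
      have hmem := Equiv.Perm.cycleOf_mem_cycleFactorsFinset_iff.2 hx
      have h1 : (σ.cycleOf x).support.card ∈ σ.cycleType := by
        rw [Equiv.Perm.cycleType_def]
        exact Multiset.mem_map.2 ⟨_, hmem, rfl⟩
      have h2 := Equiv.Perm.dvd_of_mem_cycleType h1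
      rw [hσ] at h2
      exact (hr.eq_one_or_self_of_dvd _ h2).resolve_left (by have := Equiv.Perm.two_le_of_mem_cycleType h1; omega)
    refine ⟨(σ.cycleOf x).support ∪ T, Finset.union_subset ?_ hT, ?_, ?_⟩
    · exact Equiv.Perm.support_cycleOf_le σ x
    · rw [Finset.card_union_of_disjoint hd, hc, hTc]; ring
    · apply Finset.eq_of_subset_of_card_le
      · intro y hy
        obtain ⟨z, hz, rfl⟩ := Finset.mem_image.1 hy
        rcases Finset.mem_union.1 hz with hz | hz
        · refine Finset.mem_union_left _ ?_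
          rw [Equiv.Perm.mem_support_cycleOf_iff] at hz ⊢
          exact ⟨Equiv.Perm.sameCycle_apply_right.2 hz.1, hz.2⟩
        · exact Finset.mem_union_right _ ((hclosed z).1 hz)
      · rw [Finset.card_image_of_injective _ σ.injective]

theorem fixes_iff (k : ℕ) (hkn : k ≤ n) (hr : r.Prime) (hrn : r ≤ n) :
    (∀ σ : Equiv.Perm (Fin n), orderOf σ = r → ∃ s : Finset (Fin n), s.card = k ∧ s.image σ = s) ↔
      k % r ≤ n % r := by
  have : Fact r.Prime := ⟨hr⟩
  constructor
  · intro h
    have hnr : 1 ≤ n / r := (Nat.one_le_div_iff hr.pos).2 hrn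
    obtain ⟨σ, hσ⟩ := (Equiv.Perm.exists_with_cycleType_iff (α := Fin n)
      (m := Multiset.replicate (n / r) r)).2 ⟨by simpa using Nat.div_mul_le_self n r,
        fun a ha => by rw [Multiset.eq_of_mem_replicate ha]; exact hr.two_le⟩
    have hord : orderOf σ = r := by
      rw [← Equiv.Perm.lcm_cycleType, hσ]
      apply Nat.dvd_antisymm
      · exact Multiset.lcm_dvd.2 fun b hb => by rw [Multiset.eq_of_mem_replicate hb]
      · exact Multiset.dvd_lcm (Multiset.mem_replicate.2 ⟨by omega, rfl⟩)
    obtain ⟨s, hs, hsi⟩ := h σ hord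
    have hsupp : σ.support.card = r * (n / r) := by
      rw [← Equiv.Perm.sum_cycleType, hσ]; simp [mul_comm]
    have hmem : ∀ y, σ y ∈ s ↔ y ∈ s := fun y => by
      conv_lhs => rw [← hsi]
      exact σ.injective.mem_finset_image
    let τ : Equiv.Perm {y // y ∈ s} := σ.subtypePerm hmem
    have hτ : τ ^ r ^ 1 = 1 := by
      have h1 : σ ^ r = 1 := by rw [← hord, pow_orderOf_eq_one]
      ext y
      simp [τ, h1]
    have hmod := Equiv.Perm.card_compl_support_modEq hτ
    rw [Fintype.card_coe, hs] at hmod
    have hle : τ.supportᶜ.card ≤ n % r := by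
      have h2 : (σ.supportᶜ).card = n % r := by
        rw [Finset.card_compl, Fintype.card_fin, hsupp]
        have := Nat.div_add_mod n r
        omega
      rw [← h2]
      refine Finset.card_le_card_of_injOn Subtype.val ?_ Subtype.val_injective.injOn
      intro y hy
      simp only [Finset.coe_compl, Set.mem_compl_iff, Finset.mem_coe, Equiv.Perm.mem_support, not_not] at hy ⊢
      exact congrArg Subtype.val hy
    have hlt := Nat.mod_lt n hr.pos
    rw [Nat.ModEq, Nat.mod_eq_of_lt (by omega)] at hmod
    omega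
  · intro h σ hσ
    have hct : ∀ c ∈ σ.cycleType, c = r := fun c hc => by
      have h2 := Equiv.Perm.dvd_of_mem_cycleType hc
      rw [hσ] at h2
      exact (hr.eq_one_or_self_of_dvd _ h2).resolve_left (by have := Equiv.Perm.two_le_of_mem_cycleType hc; omega)
    obtain ⟨a, ha⟩ : ∃ a, σ.support.card = r * a := by
      refine ⟨σ.cycleType.card, ?_⟩
      rw [← Equiv.Perm.sum_cycleType, Multiset.eq_replicate_card.2 hct]
      simp [mul_comm]
    have hf : σ.supportᶜ.card = n - r * a := by rw [Finset.card_compl, Fintype.card_fin, ha]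
    have hale : r * a ≤ n := ha ▸ (Finset.card_le_univ _).trans (le_of_eq (Fintype.card_fin n))
    set i := min a (k / r) with hi
    have hia : r * i ≤ r * a := Nat.mul_le_mul_left r (min_le_left _ _)
    have hik : r * i ≤ k := le_trans (Nat.mul_le_mul_left r (min_le_right _ _)) (Nat.mul_div_le k r)
    have hj : k - r * i ≤ n - r * a := by
      rcases le_total a (k / r) with hc | hc
      · rw [hi, min_eq_left hc]; omega
      · rw [hi, min_eq_right hc]
        have h1 := Nat.div_add_mod k r
        have h2 : n % r ≤ n - r * a := by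
          rw [show n % r = (n - r * a) % r by
            conv_lhs => rw [show n = (n - r * a) + r * a by omega]
            rw [Nat.add_mul_mod_self_left]]
          exact Nat.mod_le _ _
        omega
    obtain ⟨T, hT, hTc, hTi⟩ := invariant_sets hr σ hσ i (ha ▸ hia)
    obtain ⟨U, hU, hUc⟩ := Finset.exists_subset_card_eq (s := σ.supportᶜ) (n := k - r * i) (hf ▸ hj)
    have hd : Disjoint T U := Finset.disjoint_left.2 fun y h1 h2 => Finset.mem_compl.1 (hU h2) (hT h1)
    refine ⟨T ∪ U, by rw [Finset.card_union_of_disjoint hd, hTc, hUc]; omega, ?_⟩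
    rw [Finset.image_union, hTi]
    congr 1
    have hid : ∀ y ∈ U, σ y = y := fun y hy => by simpa using hU hy
    rw [Finset.image_congr (fun y hy => hid y (Finset.mem_coe.1 hy))]
    simp

theorem le_of_mod_le {k : ℕ} (hr : r.Prime) (hrd : r ∣ n.choose k) (h : k % r ≤ n % r) : r ≤ k := by
  by_contra hk
  have : Fact r.Prime := ⟨hr⟩
  push Not at hk
  have h1 := Choose.choose_modEq_choose_mod_mul_choose_div_nat (n := n) (k := k) (p := r)
  rw [Nat.div_eq_of_lt hk, Nat.choose_zero_right, mul_one, Nat.mod_eq_of_lt hk] at h1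
  have h2 : r ∣ (n % r).choose k := Nat.modEq_zero_iff_dvd.1 (h1.symm.trans (Nat.modEq_zero_iff_dvd.2 hrd))
  rw [Nat.mod_eq_of_lt hk] at h
  have h3 : r ∣ (n % r).factorial := by
    rw [← Nat.choose_mul_factorial_mul_factorial h]
    exact Dvd.dvd.mul_right (Dvd.dvd.mul_right h2 _) _
  have := (hr.dvd_factorial).1 h3
  have := Nat.mod_lt n hr.pos
  omega

end

/-- Let 1 ≤ k with 2k < n and consider the symmetric group of degree n acting on the k-subsets of an n-set. Let r be a prime dividing the number C(n,k) of k-subsets. If r is odd, then every permutation of order r fixes some k-subset if and only if r ≤ k and the remainder of k modulo r is at most the remainder of n modulo r. If r = 2, then every involution fixes some k-subset if and only if k is even or n is odd. -/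
theorem result (n k : ℕ) (hk : 1 ≤ k) (hkn : 2 * k < n) (r : ℕ) (hr : r.Prime) (hrd : r ∣ Nat.choose n k) :
    (r ≠ 2 → ((∀ σ : Equiv.Perm (Fin n), orderOf σ = r → ∃ s : Finset (Fin n), s.card = k ∧ s.image σ = s) ↔
      (r ≤ k ∧ k % r ≤ n % r))) ∧
    (r = 2 → ((∀ σ : Equiv.Perm (Fin n), orderOf σ = 2 → ∃ s : Finset (Fin n), s.card = k ∧ s.image σ = s) ↔
      (Even k ∨ Odd n))) := by
  have hrn : r ≤ n := by
    have h2 : r ∣ n.factorial := by
      rw [← Nat.choose_mul_factorial_mul_factorial (show k ≤ n by omega)]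
      exact Dvd.dvd.mul_right (Dvd.dvd.mul_right hrd _) _
    exact (hr.dvd_factorial).1 h2
  have key := fixes_iff (n := n) k (by omega) hr hrn
  refine ⟨fun _ => ?_, fun h2 => ?_⟩
  · rw [key]
    exact ⟨fun h => ⟨le_of_mod_le hr hrd h, h⟩, fun h => h.2⟩
  · subst h2
    rw [key, Nat.even_iff, Nat.odd_iff]
    omega

end Cfsg.Agent.S3573
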