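import Mathlib
import Cfsg.Statements.S2929
import Cfsg.Agent.Lib.ComponentsFitting

set_option autoImplicit false
open Cfsg

namespace Cfsg.Agent.S2929

open Equiv Equiv.Perm Subgroup Cfsg.Agent

set_option maxRecDepth 100000 in
/-- The Klein four-group inside `Perm (Fin 4)`. -/
def klein : Subgroup (Equiv.Perm (Fin 4)) where
  carrier := {g | g * g = 1 ∧ Equiv.Perm.sign g = 1}
  one_mem' := by decide
  mul_mem' := by decide
  inv_mem' := by decide

set_option maxRecDepth 20000 in
theorem isSolvable_perm_four : Group.IsSolvable (Equiv.Perm (Fin 4)) := by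
  refine ⟨⟨3, eq_bot_iff.mpr ?_⟩⟩
  have h1 : derivedSeries (Equiv.Perm (Fin 4)) 1 ≤ alternatingGroup (Fin 4) := by
    rw [derivedSeries_succ, derivedSeries_zero]
    exact commutator_le.mpr fun a _ b _ => by
      rw [mem_alternatingGroup, map_commutatorElement]
      exact commutatorElement_eq_one_iff_mul_comm.mpr (mul_comm _ _)
  have h2 : derivedSeries (Equiv.Perm (Fin 4)) 2 ≤ klein := by
    rw [derivedSeries_succ]
    refine (commutator_mono h1 h1).trans (commutator_le.mpr fun a ha b hb => ?_)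
    revert a b
    show ∀ a : Equiv.Perm (Fin 4), Equiv.Perm.sign a = 1 → ∀ b, Equiv.Perm.sign b = 1 →
      (a * b * a⁻¹ * b⁻¹) * (a * b * a⁻¹ * b⁻¹) = 1 ∧ Equiv.Perm.sign (a * b * a⁻¹ * b⁻¹) = 1
    decide
  rw [derivedSeries_succ]
  refine (commutator_mono h2 h2).trans (commutator_le.mpr fun a ha b hb => ?_)
  rw [Subgroup.mem_bot]
  revert a b
  show ∀ a : Equiv.Perm (Fin 4), a * a = 1 ∧ Equiv.Perm.sign a = 1 → ∀ b, b * b = 1 ∧ Equiv.Perm.sign b = 1 →
    a * b * a⁻¹ * b⁻¹ = 1
  decide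

variable {α : Type*} [Fintype α] [DecidableEq α]

def cyc (x y z : α) : Equiv.Perm α := swap x z * swap x y

theorem cyc_rot {x y z : α} (hxy : x ≠ y) (hxz : x ≠ z) (hyz : y ≠ z) : cyc x y z = cyc y z x := by
  ext w; simp only [cyc, Perm.coe_mul, Function.comp_apply, swap_apply_def]; grind

theorem cyc_inv {x y z : α} (hxy : x ≠ y) (hxz : x ≠ z) (hyz : y ≠ z) :
    (cyc x y z)⁻¹ = cyc x z y := by
  simp [cyc, mul_inv_rev, swap_inv]

theorem cyc_conj (g : Equiv.Perm α) (x y z : α) : g * cyc x y z * g⁻¹ = cyc (g x) (g y) (g z) := by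
  simp only [cyc, swap_apply_apply]; group

theorem cyc_apply {x y z : α} (hxy : x ≠ y) (hxz : x ≠ z) (hyz : y ≠ z) :
    cyc x y z x = y ∧ cyc x y z y = z ∧ cyc x y z z = x := by
  simp only [cyc, Perm.coe_mul, Function.comp_apply, swap_apply_def]; grind

theorem cyc_apply_of_notMem {x y z w : α} (h1 : w ≠ x) (h2 : w ≠ y) (h3 : w ≠ z) :
    cyc x y z w = w := by
  simp [cyc, swap_apply_of_ne_of_ne, h1, h2, h3]

theorem isThreeCycle_cyc {x y z : α} (hxy : x ≠ y) (hxz : x ≠ z) (hyz : y ≠ z) :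
    (cyc x y z).IsThreeCycle ∧ (cyc x y z).support = {x, y, z} := by
  have h : (cyc x y z).IsThreeCycle := isThreeCycle_swap_mul_swap_same hxz hxy hyz.symm
  obtain ⟨h1, h2, -⟩ := cyc_apply hxy hxz hyz
  refine ⟨h, ?_⟩
  have h' := (h.support_eq_iff_mem_support (a := x)).mpr (Perm.mem_support.mpr (by rw [h1]; exact hxy.symm))
  rwa [h1, h2] at h'

theorem eq_cyc {c : Equiv.Perm α} (hc : c.IsThreeCycle) {x : α} (hx : x ∈ c.support) :
    c = cyc x (c x) (c (c x)) ∧ x ≠ c x ∧ x ≠ c (c x) ∧ c x ≠ c (c x) ∧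
      c.support = {x, c x, c (c x)} := by
  have hsupp := hc.support_eq_iff_mem_support.mpr hx
  have hcard := hc.card_support
  have h1 : x ≠ c x := fun h => Perm.mem_support.mp hx h.symm
  have h2 : c x ≠ c (c x) := fun h => h1 (c.injective h)
  have h3 : x ≠ c (c x) := by
    intro h
    rw [hsupp, ← h] at hcard
    have : ({x, c x, x} : Finset α).card ≤ 2 :=
      (Finset.card_le_card (t := {x, c x}) (by simp [Finset.insert_subset_iff])).trans Finset.card_le_two
    omega
  have h33 : c (c (c x)) = x := by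
    have h := hc.orderOf
    have : (c ^ 3) x = x := by rw [← h, pow_orderOf_eq_one]; rfl
    simpa [pow_succ] using this
  refine ⟨?_, h1, h3, h2, hsupp⟩
  ext w
  obtain ⟨e1, e2, e3⟩ := cyc_apply h1 h3 h2
  by_cases hw : w ∈ c.support
  · rw [hsupp] at hw
    simp only [Finset.mem_insert, Finset.mem_singleton] at hw
    rcases hw with rfl | rfl | rfl
    · rw [e1]
    · rw [e2]
    · rw [e3, h33]
  · rw [Perm.notMem_support.mp hw]
    rw [hsupp] at hw
    simp only [Finset.mem_insert, Finset.mem_singleton, not_or] at hw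
    rw [cyc_apply_of_notMem hw.1 hw.2.1 hw.2.2]

variable (H : Subgroup (Equiv.Perm α))

/-- All three-cycles on `Ω` lie in `H`. -/
def Full (Ω : Finset α) : Prop := ∀ c : Equiv.Perm α, c.IsThreeCycle → c.support ⊆ Ω → c ∈ H

theorem full_support {c : Equiv.Perm α} (hc : c.IsThreeCycle) (hH : c ∈ H) : Full H c.support := by
  intro d hd hds
  obtain ⟨x, hx⟩ : d.support.Nonempty := Finset.card_pos.mp (by rw [hd.card_support]; norm_num)
  obtain ⟨hd', a1, a2, a3, -⟩ := eq_cyc hd hx
  obtain ⟨hc', b1, b2, b3, hcs⟩ := eq_cyc hc (hds hx)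
  have h1 := hds (Perm.apply_mem_support.mpr hx)
  have h2 := hds (Perm.apply_mem_support.mpr (Perm.apply_mem_support.mpr hx))
  rw [hcs] at h1 h2
  simp only [Finset.mem_insert, Finset.mem_singleton] at h1 h2
  rcases h1 with h1 | h1 | h1
  · exact absurd h1.symm a1
  · rcases h2 with h2 | h2 | h2
    · exact absurd h2.symm a2
    · exact absurd (h1.trans h2.symm) a3
    · rw [hd', h2, h1, ← hc']; exact hH
  · rcases h2 with h2 | h2 | h2
    · exact absurd h2.symm a2
    · rw [hd', h2, h1, ← cyc_inv b1 b2 b3, ← hc']; exact H.inv_mem hH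
    · exact absurd (h1.trans h2.symm) a3

variable {H}

theorem full_insert {Ω : Finset α} (hΩ : Full H Ω) {a b y : α} (ha : a ∈ Ω) (hb : b ∈ Ω)
    (hab : a ≠ b) (hy : y ∉ Ω) (h : cyc a b y ∈ H) : Full H (insert y Ω) := by
  have hne : ∀ {u : α}, u ∈ Ω → u ≠ y := fun hu h => hy (h ▸ hu)
  have hsymm : ∀ u v : α, u ∈ Ω → v ∈ Ω → u ≠ v → cyc u v y ∈ H → cyc v u y ∈ H := by
    intro u v hu hv huv h
    rw [cyc_rot huv.symm (hne hv) (hne hu), ← cyc_inv huv (hne hu) (hne hv)]
    exact H.inv_mem h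
  have step : ∀ u v w : α, u ∈ Ω → v ∈ Ω → w ∈ Ω → u ≠ v → u ≠ w → cyc u v y ∈ H → cyc u w y ∈ H := by
    intro u v w hu hv hw huv huw h
    by_cases hvw : v = w
    · exact hvw ▸ h
    have hg : cyc u w v ∈ H := hΩ _ (isThreeCycle_cyc huw huv (Ne.symm hvw)).1 (by
      rw [(isThreeCycle_cyc huw huv (Ne.symm hvw)).2]
      simp [Finset.insert_subset_iff, hu, hv, hw])
    have h2 := H.mul_mem (H.mul_mem hg h) (H.inv_mem hg)
    obtain ⟨e1, e2, e3⟩ := cyc_apply huw huv (Ne.symm hvw)
    rw [cyc_conj, e1, e3, cyc_apply_of_notMem (hne hu).symm (hne hw).symm (hne hv).symm] at h2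
    exact hsymm w u hw hu huw.symm h2
  have all : ∀ u v : α, u ∈ Ω → v ∈ Ω → u ≠ v → cyc u v y ∈ H := by
    intro u v hu hv huv
    by_cases hau : a = u
    · subst hau; exact step a b v hu hb hv hab huv h
    · exact step u a v hu ha hv (Ne.symm hau) huv (hsymm a u ha hu hau (step a b u ha hb hu hab hau h))
  intro d hd hds
  by_cases hyd : y ∈ d.support
  · obtain ⟨hd', a1, a2, a3, -⟩ := eq_cyc hd hyd
    have h1 : d y ∈ Ω := (Finset.mem_insert.mp (hds (Perm.apply_mem_support.mpr hyd))).resolve_left a1.symm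
    have h2 : d (d y) ∈ Ω := (Finset.mem_insert.mp
      (hds (Perm.apply_mem_support.mpr (Perm.apply_mem_support.mpr hyd)))).resolve_left a2.symm
    rw [hd', cyc_rot a1 a2 a3]
    exact all _ _ h1 h2 a3
  · exact hΩ d hd fun x hx => (Finset.mem_insert.mp (hds hx)).resolve_left (fun h => hyd (h ▸ hx))

theorem subset_or_disjoint {Ω : Finset α} (hΩ : Full H Ω)
    (hmax : ∀ Ω' : Finset α, Full H Ω' → Ω'.card ≤ Ω.card) (h3 : 3 ≤ Ω.card)
    {c : Equiv.Perm α} (hc : c.IsThreeCycle) (hH : c ∈ H) {x : α} (hx : x ∈ c.support) (hxΩ : x ∈ Ω) :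
    c.support ⊆ Ω := by
  have hext : ∀ a b y : α, a ∈ Ω → b ∈ Ω → a ≠ b → y ∉ Ω → cyc a b y ∈ H → False := by
    intro a b y ha hb hab hy h
    have := hmax _ (full_insert hΩ ha hb hab hy h)
    rw [Finset.card_insert_of_notMem hy] at this
    omega
  obtain ⟨hc', h1, h2, h12, hs⟩ := eq_cyc hc hx
  set y := c x
  set z := c y
  rw [hs]
  have key : ∀ y z : α, x ≠ y → x ≠ z → y ≠ z → cyc x y z ∈ H → y ∈ Ω := by
    intro y z h1 h2 h12 hH'
    by_contra hy
    by_cases hz : z ∈ Ω
    · refine hext z x y hz hxΩ h2.symm hy ?_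
      rwa [cyc_rot h2.symm h12.symm h1]
    · obtain ⟨a, ha, hax⟩ := Finset.exists_mem_ne (by omega : 1 < Ω.card) x
      obtain ⟨b, hb⟩ : ((Ω.erase x).erase a).Nonempty := Finset.card_pos.mp (by
        rw [Finset.card_erase_of_mem (Finset.mem_erase.mpr ⟨hax, ha⟩), Finset.card_erase_of_mem hxΩ]
        omega)
      simp only [Finset.mem_erase] at hb
      obtain ⟨hba, hbx, hbΩ⟩ := hb
      have hg : cyc x a b ∈ H := hΩ _ (isThreeCycle_cyc hax.symm hbx.symm hba.symm).1 (by
        rw [(isThreeCycle_cyc hax.symm hbx.symm hba.symm).2]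
        simp [Finset.insert_subset_iff, hxΩ, ha, hbΩ])
      have h3' := H.mul_mem (H.mul_mem hH' hg) (H.inv_mem hH')
      rw [cyc_conj, (cyc_apply h1 h2 h12).1,
        cyc_apply_of_notMem hax (fun h => hy (by rw [← h]; exact ha)) (fun h => hz (by rw [← h]; exact ha)),
        cyc_apply_of_notMem hbx (fun h => hy (by rw [← h]; exact hbΩ)) (fun h => hz (by rw [← h]; exact hbΩ)),
        cyc_rot (fun h => hy (by rw [h]; exact ha)) (fun h => hy (by rw [h]; exact hbΩ)) hba.symm] at h3'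
      exact hext a b y ha hbΩ hba.symm hy h3'
  have hmem : cyc x y z ∈ H := hc' ▸ hH
  have hy := key y z h1 h2 h12 hmem
  have hz := key z y h2 h1 h12.symm (by rw [← cyc_inv h1 h2 h12]; exact H.inv_mem hmem)
  simp [Finset.insert_subset_iff, hxΩ, hy, hz]

theorem mem_alt_iff (Ω : Finset α) :
    (alternatingGroup ↥Ω).map (Perm.ofSubtype : Perm ↥Ω →* Perm α) =
      closure {c : Equiv.Perm α | c.IsThreeCycle ∧ c.support ⊆ Ω} := by
  rw [← closure_three_cycles_eq_alternating, MonoidHom.map_closure]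
  congr 1
  ext c
  constructor
  · rintro ⟨u, hu, rfl⟩
    refine ⟨?_, ?_⟩
    · rw [IsThreeCycle, cycleType_ofSubtype]; exact hu
    · rw [support_ofSubtype]
      intro x hx
      simp only [Finset.mem_map, Function.Embedding.coe_subtype] at hx
      obtain ⟨v, -, rfl⟩ := hx
      exact v.2
  · rintro ⟨hc, hs⟩
    have hmem : ∀ x, x ∈ Ω ↔ c x ∈ Ω := by
      intro x
      by_cases hx : x ∈ c.support
      · exact iff_of_true (hs hx) (hs (Perm.apply_mem_support.mpr hx))
      · rw [Perm.notMem_support.mp hx]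
    refine ⟨c.subtypePerm (fun x => (hmem x).symm), ?_, ?_⟩
    · show IsThreeCycle _
      rw [IsThreeCycle, ← cycleType_ofSubtype, ofSubtype_subtypePerm]
      · exact hc
      · exact fun x hx => hs (Perm.mem_support.mpr hx)
    · exact ofSubtype_subtypePerm _ fun x hx => hs (Perm.mem_support.mpr hx)

/-- Let n ≥ 5 and let H be a subgroup of the symmetric group of degree n whose generalized Fitting subgroup F*(H) is quasisimple. If H contains a Sylow 3-subgroup of the symmetric group, then F*(H) is isomorphic to an alternating group of degree m for some m ∈ {n − 2, n − 1, n}. -/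
theorem result (n : ℕ) (hn : 5 ≤ n) (H : Subgroup (Equiv.Perm (Fin n))) (hF : Cfsg.IsQuasisimple ↥(Cfsg.generalizedFittingSubgroup ↥H)) (hS : ∃ P : Sylow 3 (Equiv.Perm (Fin n)), (P : Subgroup (Equiv.Perm (Fin n))) ≤ H) : ∃ m : ℕ, (m = n - 2 ∨ m = n - 1 ∨ m = n) ∧ Nonempty (↥(Cfsg.generalizedFittingSubgroup ↥H) ≃* ↥(alternatingGroup (Fin m))) := by
  classical
  obtain ⟨P, hP⟩ := hS
  haveI : Fact (Nat.Prime 3) := ⟨Nat.prime_three⟩
  set K := Cfsg.generalizedFittingSubgroup ↥H with hKdef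
  have hKn : K.Normal := by
    refine ⟨fun x hx g => ?_⟩
    exact (ComponentsFitting.gen_map_mulEquiv (MulAut.conj g)).le ⟨x, hx, by simp⟩
  haveI := hKn
  have hKc : Cfsg.IsComponent K := ⟨Normal.isSubnormal hKn, hF⟩
  have hKp : ⁅K, K⁆ = K := ComponentsBasic.isQuasisimple_perfect hF
  set K' : Subgroup (Equiv.Perm (Fin n)) := K.map H.subtype with hK'
  have hK'p : ⁅K', K'⁆ = K' := by rw [hK', ← map_commutator, hKp]
  have hK'H : K' ≤ H := map_subtype_le _
  have hCK : centralizer (K : Set ↥H) ≤ K := ComponentsFitting.centralizer_gen_le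
  -- a perfect group of permutations centralizing a three-cycle fixes its support
  have hfix : ∀ c : Equiv.Perm (Fin n), c.IsThreeCycle → K' ≤ centralizer {c} →
      ∀ k ∈ K', ∀ x ∈ c.support, k x = x := by
    intro c hc hcK
    have hst : ∀ k ∈ K', ∀ x ∈ c.support, ∃ i : ℕ, k x = (c ^ i) x ∧ ∀ y ∈ c.support, k y = (c ^ i) y := by
      intro k hk x hx
      have hcomm : ∀ w, k (c w) = c (k w) := fun w => by
        have h := Subgroup.mem_centralizer_singleton_iff.mp (hcK hk)
        exact DFunLike.congr_fun h w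
      have hkx : k x ∈ c.support := Perm.mem_support.mpr fun h =>
        Perm.mem_support.mp hx (k.injective (by rw [hcomm]; exact h))
      obtain ⟨i, hi⟩ := hc.isCycle.exists_pow_eq (Perm.mem_support.mp hx) (Perm.mem_support.mp hkx)
      refine ⟨i, hi.symm, fun y hy => ?_⟩
      obtain ⟨j, rfl⟩ := hc.isCycle.exists_pow_eq (Perm.mem_support.mp hx) (Perm.mem_support.mp hy)
      have hj : ∀ j : ℕ, k ((c ^ j) x) = (c ^ j) (k x) := by
        intro j
        induction j with
        | zero => rfl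
        | succ j ih => rw [pow_succ', Perm.mul_apply, hcomm, ih]; rfl
      rw [hj, ← hi, ← Perm.mul_apply, ← pow_add, add_comm, pow_add, Perm.mul_apply]
    intro k hk x hx
    rw [← hK'p] at hk
    suffices h : ⁅K', K'⁆ ≤ MulAction.stabilizer (Equiv.Perm (Fin n)) x from h hk
    refine commutator_le.mpr fun a ha b hb => ?_
    obtain ⟨i, -, hi⟩ := hst a ha x hx
    obtain ⟨j, -, hj⟩ := hst b hb x hx
    show (a * b * a⁻¹ * b⁻¹) x = x
    have hab : ∀ y ∈ c.support, a (b y) = b (a y) := fun y hy => by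
      rw [hj y hy, hi _ (Perm.pow_apply_mem_support.mpr hy), hi y hy,
        hj _ (Perm.pow_apply_mem_support.mpr hy), ← Perm.mul_apply, ← pow_add, add_comm, pow_add,
        Perm.mul_apply]
    obtain ⟨j', -, hj'⟩ := hst b⁻¹ (inv_mem hb) x hx
    obtain ⟨i', -, hi'⟩ := hst a⁻¹ (inv_mem ha) x hx
    have hmem : a⁻¹ (b⁻¹ x) ∈ c.support := by
      rw [hj' x hx, hi' _ (Perm.pow_apply_mem_support.mpr hx)]
      exact Perm.pow_apply_mem_support.mpr (Perm.pow_apply_mem_support.mpr hx)
    show a (b (a⁻¹ (b⁻¹ x))) = x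
    rw [hab _ hmem]
    simp
  -- so no three-cycle of `H` centralizes `K`
  have hnotcent : ∀ c : Equiv.Perm (Fin n), c.IsThreeCycle → c ∈ H → ¬ K' ≤ centralizer {c} := by
    intro c hc hcH hcK
    have hcK' : c ∈ K' := by
      refine ⟨⟨c, hcH⟩, hCK fun k hk => Subtype.ext ?_, rfl⟩
      exact mem_centralizer_singleton_iff.mp (hcK ⟨k, hk, rfl⟩)
    obtain ⟨x, hx⟩ : c.support.Nonempty := Finset.card_pos.mp (by rw [hc.card_support]; norm_num)
    exact Perm.mem_support.mp hx (hfix c hc hcK c hcK' x hx)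
  -- three-cycles coming from a Sylow subgroup
  set k := n / 3 with hk
  set e : Fin k × Fin 3 ↪ Fin n :=
    ⟨fun q => ⟨3 * q.1.val + q.2.val, by have := q.1.2; have := q.2.2; omega⟩, fun q r h => by
      simp only [Fin.ext_iff] at h
      have := q.2.2; have := r.2.2
      exact Prod.ext (Fin.ext (by omega)) (Fin.ext (by omega))⟩ with he
  set φ : (Fin k → Multiplicative (Fin 3)) →* Equiv.Perm (Fin k × Fin 3) :=
    { toFun := fun f => ⟨fun q => (q.1, (f q.1).toAdd + q.2), fun q => (q.1, -(f q.1).toAdd + q.2),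
        fun q => by simp, fun q => by simp⟩
      map_one' := by ext q <;> simp
      map_mul' := fun f g => by ext q <;> simp [add_assoc] } with hφ
  set ψ : (Fin k → Multiplicative (Fin 3)) →* Equiv.Perm (Fin n) := (viaEmbeddingHom e).comp φ with hψ
  have hR : IsPGroup 3 ψ.range := by
    refine IsPGroup.of_surjective (G := Fin k → Multiplicative (Fin 3)) ?_ ψ.rangeRestrict ψ.rangeRestrict_surjective
    exact IsPGroup.of_card (n := k) (by simp [Nat.card_eq_fintype_card])
  obtain ⟨U, hU⟩ := hR.exists_le_sylow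
  obtain ⟨g, hg⟩ := MulAction.exists_smul_eq (Equiv.Perm (Fin n)) U P
  have hcyc : ∀ (i : Fin k) (j : Fin 3), ∃ c : Equiv.Perm (Fin n),
      c.IsThreeCycle ∧ c ∈ H ∧ g (e (i, j)) ∈ c.support := by
    intro i j
    set f : Fin k → Multiplicative (Fin 3) := Pi.mulSingle i (Multiplicative.ofAdd 1) with hf
    have happ : ∀ q : Fin k × Fin 3, ψ f (e q) = e (q.1, (f q.1).toAdd + q.2) := fun q => by
      rw [hψ, MonoidHom.comp_apply, viaEmbeddingHom_apply, viaEmbedding_apply]
      rfl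
    have hsupp : (ψ f).support = {e (i, 0), e (i, 1), e (i, 2)} := by
      ext x
      rw [Perm.mem_support]
      by_cases hx : x ∈ Set.range e
      · obtain ⟨⟨i', j'⟩, rfl⟩ := hx
        rw [happ, ne_eq, e.injective.eq_iff]
        simp only [Finset.mem_insert, Finset.mem_singleton, e.injective.eq_iff, Prod.mk.injEq]
        by_cases hi : i' = i
        · subst hi
          have hd : ∀ t : Fin 3, 1 + t ≠ t ∧ (t = 0 ∨ t = 1 ∨ t = 2) := by decide
          simp [hf, (hd j').1, (hd j').2]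
        · simp [hf, hi, Ne]
      · rw [hψ, MonoidHom.comp_apply, viaEmbeddingHom_apply, viaEmbedding_apply_of_notMem _ _ _ hx]
        simp only [ne_eq, not_true_eq_false, false_iff, Finset.mem_insert, Finset.mem_singleton]
        rintro (rfl | rfl | rfl) <;> exact hx ⟨_, rfl⟩
    have h3 : (ψ f).IsThreeCycle := by
      rw [← card_support_eq_three_iff, hsupp, Finset.card_insert_of_notMem, Finset.card_pair] <;>
        simp [e.injective.eq_iff]
    refine ⟨g * ψ f * g⁻¹, by rw [IsThreeCycle, cycleType_conj]; exact h3, hP ?_, ?_⟩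
    · rw [← hg, Sylow.coe_subgroup_smul]
      exact ⟨ψ f, hU ⟨f, rfl⟩, rfl⟩
    · rw [Perm.support_conj, hsupp]
      refine Finset.mem_map.mpr ⟨e (i, j), ?_, rfl⟩
      fin_cases j <;> simp
  -- a maximal full set
  obtain ⟨c₀, hc₀, hc₀H, -⟩ := hcyc ⟨0, by omega⟩ 0
  obtain ⟨Ω, hΩ, hmax⟩ := Finset.exists_max_image
    ((Finset.univ : Finset (Finset (Fin n))).filter fun Ω => Full H Ω) Finset.card
    ⟨c₀.support, Finset.mem_filter.mpr ⟨Finset.mem_univ _, full_support H hc₀ hc₀H⟩⟩
  rw [Finset.mem_filter] at hΩ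
  replace hmax : ∀ Ω' : Finset (Fin n), Full H Ω' → Ω'.card ≤ Ω.card := fun Ω' h =>
    hmax Ω' (Finset.mem_filter.mpr ⟨Finset.mem_univ _, h⟩)
  have hΩ3 : 3 ≤ Ω.card := by
    have := hmax _ (full_support H hc₀ hc₀H)
    rwa [hc₀.card_support] at this
  set gens : Set (Equiv.Perm (Fin n)) := {c | c.IsThreeCycle ∧ c ∈ H}
  set T := closure gens with hT
  set A := closure {c : Equiv.Perm (Fin n) | c.IsThreeCycle ∧ c.support ⊆ Ω} with hA
  have hTH : T ≤ H := (closure_le _).mpr fun c hc => hc.2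
  have hAT : A ≤ T := closure_mono fun c hc => ⟨hc.1, hΩ.2 c hc.1 hc.2⟩
  have hTn : (T.subgroupOf H).Normal := by
    refine ⟨fun t ht h => ?_⟩
    have hle : T ≤ T.comap (MulAut.conj (h : Equiv.Perm (Fin n))).toMonoidHom :=
      (closure_le _).mpr fun c hc => subset_closure ⟨by
        show IsThreeCycle _
        simp only [MulEquiv.coe_toMonoidHom, MulAut.conj_apply, IsThreeCycle, cycleType_conj]
        exact hc.1, H.mul_mem (H.mul_mem h.2 hc.2) (H.inv_mem h.2)⟩
    exact hle ht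
  have hAn : T ≤ normalizer (A : Set (Equiv.Perm (Fin n))) := by
    have key : ∀ c ∈ gens, ∀ a ∈ A, c * a * c⁻¹ ∈ A := by
      intro c hc a ha
      have hle : A ≤ A.comap (MulAut.conj c).toMonoidHom := (closure_le _).mpr fun d hd => by
        show c * d * c⁻¹ ∈ A
        refine subset_closure ⟨by rw [IsThreeCycle, cycleType_conj]; exact hd.1, ?_⟩
        rw [Perm.support_conj]
        intro x hx
        obtain ⟨y, hy, rfl⟩ := Finset.mem_map.mp hx
        show c y ∈ Ω
        by_cases hyc : y ∈ c.support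
        · exact subset_or_disjoint hΩ.2 hmax hΩ3 hc.1 hc.2 hyc (hd.2 hy) (Perm.apply_mem_support.mpr hyc)
        · rw [Perm.notMem_support.mp hyc]; exact hd.2 hy
      exact hle ha
    refine (closure_le _).mpr fun c hc => ?_
    refine mem_normalizer_iff.mpr fun a => ⟨key c hc a, fun h => ?_⟩
    have hci : c⁻¹ ∈ gens := ⟨hc.1.inv, H.inv_mem hc.2⟩
    simpa [mul_assoc] using key c⁻¹ hci _ h
  have hAsn : (A.subgroupOf H).IsSubnormal := by
    refine .step _ (T.subgroupOf H) (fun x hx => hAT hx) (Normal.isSubnormal hTn) ?_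
    exact ⟨fun a ha t => (mem_normalizer_iff.mp (hAn (mem_subgroupOf.mp t.2)) _).mp
      (mem_subgroupOf.mp (mem_subgroupOf.mp ha))⟩
  have hKA : K' ≤ A := by
    rcases ComponentsBasic.component_le_or_commute hKc hAsn with h | h
    · rintro _ ⟨x, hx, rfl⟩; exact h hx
    · exfalso
      obtain ⟨c, hc, hs⟩ : ∃ c : Equiv.Perm (Fin n), c.IsThreeCycle ∧ c.support ⊆ Ω := by
        obtain ⟨t, htΩ, ht⟩ := Finset.exists_subset_card_eq hΩ3
        obtain ⟨x, y, z, hxy, hxz, hyz, rfl⟩ := Finset.card_eq_three.mp ht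
        exact ⟨cyc x y z, (isThreeCycle_cyc hxy hxz hyz).1, (isThreeCycle_cyc hxy hxz hyz).2 ▸ htΩ⟩
      refine hnotcent c hc (hΩ.2 c hc hs) ?_
      rintro _ ⟨x, hx, rfl⟩
      rw [mem_centralizer_singleton_iff]
      have := commutator_eq_bot_iff_le_centralizer.mp h hx ⟨c, hΩ.2 c hc hs⟩
        (mem_subgroupOf.mpr (subset_closure ⟨hc, hs⟩))
      exact (congrArg Subtype.val this).symm
  -- every three-cycle of `H` lives on `Ω`
  have hall : ∀ c : Equiv.Perm (Fin n), c.IsThreeCycle → c ∈ H → c.support ⊆ Ω := by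
    intro c hc hcH
    by_contra hns
    have hd : ∀ x ∈ c.support, x ∉ Ω := fun x hx hxΩ => hns (subset_or_disjoint hΩ.2 hmax hΩ3 hc hcH hx hxΩ)
    refine hnotcent c hc hcH (hKA.trans ((closure_le _).mpr fun d hd' => ?_))
    rw [SetLike.mem_coe, mem_centralizer_singleton_iff]
    refine (Perm.Disjoint.commute (show Perm.Disjoint d c from fun x => ?_)).eq
    by_cases hxc : x ∈ c.support
    · left
      exact Perm.notMem_support.mp fun h => hd x hxc (hd'.2 h)
    · exact Or.inr (Perm.notMem_support.mp hxc)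
  have hm : 3 * k ≤ Ω.card := by
    have hsub : (Finset.univ : Finset (Fin k × Fin 3)).map (e.trans g.toEmbedding) ⊆ Ω := by
      intro x hx
      obtain ⟨⟨i, j⟩, -, rfl⟩ := Finset.mem_map.mp hx
      obtain ⟨c, hc, hcH, hm⟩ := hcyc i j
      exact hall c hc hcH hm
    have := Finset.card_le_card hsub
    simp only [Finset.card_map, Finset.card_univ, Fintype.card_prod, Fintype.card_fin] at this
    omega
  set B : Subgroup (Equiv.Perm (Fin n)) := (alternatingGroup ↥Ω).map Perm.ofSubtype with hB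
  have hBA : B = A := mem_alt_iff Ω
  have hKne : K' ≠ ⊥ := fun h => ComponentsBasic.isQuasisimple_ne_bot hF
    ((map_eq_bot_iff_of_injective _ H.subtype_injective).mp h)
  have h5 : 5 ≤ Ω.card := by
    by_contra h5
    haveI : Group.IsSolvable (Equiv.Perm ↥Ω) := by
      have h4 := isSolvable_perm_four
      obtain ⟨ι⟩ : Nonempty (↥Ω ↪ Fin 4) := Function.Embedding.nonempty_of_card_le (by simp; omega)
      exact Group.isSolvable_of_isSolvable_injective (viaEmbeddingHom_injective ι)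
    haveI : Group.IsSolvable ↥B := Group.isSolvable_of_surjective
      ((Perm.ofSubtype : Perm ↥Ω →* _).subgroupMap_surjective (alternatingGroup ↥Ω))
    exact hKne (ComponentsBasic.perfect_eq_bot_of_le_solvable hK'p (hBA ▸ hKA : K' ≤ B))
  haveI := alternatingGroup.isSimpleGroup (α := ↥Ω) (by simpa using h5)
  have eB : ↥(alternatingGroup ↥Ω) ≃* ↥B := equivMapOfInjective _ _ Perm.ofSubtype_injective
  haveI : Nontrivial ↥B := eB.symm.toEquiv.nontrivial
  haveI : IsSimpleGroup ↥B := IsSimpleGroup.isSimpleGroup_of_surjective (G := ↥(alternatingGroup ↥Ω))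
    (H := ↥B) eB.toMonoidHom eB.surjective
  have hKB : K' = B := by
    refine le_antisymm (hBA ▸ hKA) ?_
    have hBH : B ≤ H := hBA ▸ hAT.trans hTH
    have hn' : (K'.subgroupOf B).Normal := by
      refine ⟨fun x hx b => ?_⟩
      obtain ⟨y, hy, hyx⟩ := hx
      exact ⟨⟨b, hBH b.2⟩ * y * ⟨b, hBH b.2⟩⁻¹, hKn.conj_mem y hy _, by
        show (b : Equiv.Perm (Fin n)) * H.subtype y * (b : Equiv.Perm (Fin n))⁻¹ = _
        rw [hyx]; rfl⟩
    rcases hn'.eq_bot_or_eq_top with h | h
    · exact absurd ((Subgroup.subgroupOf_eq_bot.mp h).eq_bot_of_le (hBA ▸ hKA)) hKne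
    · exact subgroupOf_eq_top.mp h
  refine ⟨Ω.card, ?_, ⟨?_⟩⟩
  · have : Ω.card ≤ n := by simpa using Finset.card_le_univ Ω
    omega
  · exact ((K.equivMapOfInjective H.subtype H.subtype_injective).trans (MulEquiv.subgroupCongr hKB)).trans
      (eB.symm.trans (Equiv.altCongrHom Ω.equivFin))

end Cfsg.Agent.S2929
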