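import Cfsg.Statements.S0292
import Cfsg.Agent.Lib.OrthUnitaryStd
-- import your own Cfsg.Agent.* helpers here

set_option autoImplicit false
open Cfsg
open Cfsg.Agent.OrthUnitaryQuad Cfsg.Agent.OrthUnitaryRefl Cfsg.Agent.OrthUnitaryOmega Cfsg.Agent.OrthUnitaryPrelude

namespace Cfsg.Agent.S0292

/-- 2 |PΩ_{2m+1}(q)| = q^(m^2) prod_{i=1}^{m} (q^(2i) - 1), for q odd and m at least 3 (type B_m). -/
theorem result {F : Type*} [Field F] [Fintype F] {q : ℕ} (hF : Fintype.card F = q) (hodd : Odd q) (m : ℕ) (hm : 3 ≤ m) : 2 * Nat.card (Cfsg.POmega F (Cfsg.quadFormOdd m F)) = q ^ (m ^ 2) * ∏ i ∈ Finset.range m, (q ^ (2 * (i + 1)) - 1) := by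
  classical
  have h2 := OrthUnitaryForms.two_ne_zero_of_odd hF hodd
  have h := OrthUnitaryStd.card_POmega_withBase (OrthUnitaryStd.nondegenerate_qfSq h2) m (by omega)
    (by omega) (Or.inr h2) (Cfsg.quadFormOdd m F) (OrthUnitaryForms.eqOdd m) (OrthUnitaryForms.eqOdd_isometry m)
  rw [if_neg h2, if_neg (OrthUnitaryStd.not_negOne_mem_odd h2 m),
    OrthUnitaryForms.card_isometryGroup_odd hF hodd m, mul_assoc 2 (q ^ m ^ 2)] at h
  omega

end Cfsg.Agent.S0292
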