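import Cfsg.Statements.S0295
import Cfsg.Agent.Lib.OrthUnitarySimpleStd
-- import your own Cfsg.Agent.* helpers here

set_option autoImplicit false
open Cfsg
open Cfsg.Agent.OrthUnitaryQuad Cfsg.Agent.OrthUnitaryRefl Cfsg.Agent.OrthUnitaryOmega Cfsg.Agent.OrthUnitaryPrelude

namespace Cfsg.Agent.S0295

/-- PΩ_{2m+1}(q) is simple for q odd and m at least 3. -/
theorem result {F : Type*} [Field F] [Fintype F] (hodd : Odd (Fintype.card F)) (m : ℕ) (hm : 3 ≤ m) : IsSimpleGroup (Cfsg.POmega F (Cfsg.quadFormOdd m F)) := by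
  have h2 := OrthUnitaryForms.two_ne_zero_of_odd rfl hodd
  exact OrthUnitarySimpleStd.isSimpleGroup_POmega _ _ (OrthUnitaryForms.eqOdd m) (OrthUnitaryForms.eqOdd_isometry m)
    (OrthUnitaryStd.nondegenerate_withBase (OrthUnitaryStd.nondegenerate_qfSq h2) m)
    (by rw [OrthUnitaryStd.finrank_withBase_space, Module.finrank_fintype_fun_eq_card]; simp; omega)

end Cfsg.Agent.S0295
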