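import Cfsg.Statements.S0282
import Mathlib
import Cfsg.Agent.Lib.OrthUnitaryHerm
import Cfsg.Agent.Lib.CharInducedBurnside

set_option autoImplicit false
open Cfsg

namespace Cfsg.Agent.S0282

/-- PSU_3(2) is a solvable group of order 72. -/
theorem result {F : Type*} [Field F] [Fintype F] (hF : Fintype.card F = 4) : Nat.card (Cfsg.PSU 3 F 2) = 72 ∧ Group.IsSolvable (Cfsg.PSU 3 F 2) := by
  have h := OrthUnitaryHerm.card_PSU_mul (F := F) (q := 2) (n := 3) (by rw [hF]; norm_num) (by norm_num)
  rw [OrthUnitaryHerm.card_GU (F := F) (q := 2) (by rw [hF]; norm_num) 3] at h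
  norm_num [Finset.prod_range_succ, Nat.even_iff] at h
  have h72 : Nat.card (Cfsg.PSU 3 F 2) = 72 := by
    omega
  exact ⟨h72, CharInduced.solvable_of_card_two_primes 2 3 3 2 (by norm_num) (by norm_num) (by rw [h72]; norm_num)⟩

end Cfsg.Agent.S0282
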