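import Cfsg.Statements.S5908

set_option autoImplicit false
set_option linter.style.haveILetI false
set_option linter.unusedSectionVars false
open Cfsg

namespace Cfsg.Agent.S5908

open scoped Matrix

/-- Addition in the four element field, on `Fin 4`. -/
def ad (a b : Fin 4) : Fin 4 := ⟨(a.val ^^^ b.val) % 4, Nat.mod_lt _ (by omega)⟩

/-- Multiplication in the four element field, on `Fin 4`. -/
def mu (a b : Fin 4) : Fin 4 :=
  if a.val = 0 ∨ b.val = 0 then 0 else ⟨(a.val - 1 + (b.val - 1)) % 3 + 1, by omega⟩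

/-- The hermitian product. -/
def herm (u v : Fin 4 × Fin 4 × Fin 4) : Fin 4 :=
  ad (ad (mu u.1 (mu v.1 v.1)) (mu u.2.1 (mu v.2.1 v.2.1))) (mu u.2.2 (mu v.2.2 v.2.2))

/-- The columns without a zero entry. -/
def cols : List (Fin 4 × Fin 4 × Fin 4) :=
  [1, 2, 3].flatMap fun a => [1, 2, 3].flatMap fun b => [1, 2, 3].map fun c => (a, b, c)

/-- The determinant (signs do not matter in characteristic two). -/
def det3 (u v w : Fin 4 × Fin 4 × Fin 4) : Fin 4 :=
  ad (ad (ad (mu u.1 (mu v.2.1 w.2.2)) (mu u.1 (mu v.2.2 w.2.1))) (ad (mu v.1 (mu u.2.1 w.2.2)) (mu v.1 (mu w.2.1 u.2.2))))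
    (ad (mu w.1 (mu u.2.1 v.2.2)) (mu w.1 (mu v.2.1 u.2.2)))

/-- The first row of the square has a zero entry. -/
def sqHasZero (u v w : Fin 4 × Fin 4 × Fin 4) : Bool :=
  decide ((ad (ad (mu u.1 u.1) (mu v.1 u.2.1)) (mu w.1 u.2.2)).val = 0) ||
  decide ((ad (ad (mu u.1 v.1) (mu v.1 v.2.1)) (mu w.1 v.2.2)).val = 0) ||
  decide ((ad (ad (mu u.1 w.1) (mu v.1 w.2.1)) (mu w.1 w.2.2)).val = 0)

theorem check_sq : (cols.all fun u => cols.all fun v => !decide ((herm u v).val = 0) ||
    cols.all fun w => !decide ((herm u w).val = 0) || !decide ((herm v w).val = 0) || !decide ((det3 u v w).val = 1) || sqHasZero u v w) = true := by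
  decide +kernel

theorem mem_cols (a b c : Fin 4) (ha : a ≠ 0) (hb : b ≠ 0) (hc : c ≠ 0) : (a, b, c) ∈ cols := by
  have : ∀ a b c : Fin 4, a ≠ 0 → b ≠ 0 → c ≠ 0 → (a, b, c) ∈ cols := by decide +kernel
  exact this a b c ha hb hc

section Field
variable {F : Type*} [Field F] [Fintype F]

/-- The matrix is monomial: each entry vanishes except one in each row, here expressed by zeros. -/
def Mono (x : Matrix (Fin 3) (Fin 3) F) : Prop :=
  ∀ i, ∃ j, ∀ k, k ≠ j → x i k = 0

theorem mono_mul {x y : Matrix (Fin 3) (Fin 3) F} (hx : Mono x) (hy : Mono y) : Mono (x * y) := by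
  intro i
  obtain ⟨j, hj⟩ := hx i
  obtain ⟨l, hl⟩ := hy j
  refine ⟨l, fun k hk => ?_⟩
  rw [Matrix.mul_apply]
  refine Finset.sum_eq_zero fun m _ => ?_
  by_cases hm : m = j
  · rw [hm, hl k hk, mul_zero]
  · rw [hj m hm, zero_mul]

variable (hF : Fintype.card F = 4)
include hF

theorem pow3 {a : F} (ha : a ≠ 0) : a ^ 3 = 1 := by
  have := FiniteField.pow_card_sub_one_eq_one a ha
  rwa [hF] at this

theorem two_zero : (1 : F) + 1 = 0 := by
  have h := FiniteField.cast_card_eq_zero F
  rw [hF] at h
  push_cast at h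
  have : ((1 : F) + 1) * ((1 : F) + 1) = 0 := by linear_combination h
  exact mul_self_eq_zero.1 this

/-- A model map from `Fin 4`. -/
theorem exists_model : ∃ φ : Fin 4 → F, Function.Bijective φ ∧ φ 0 = 0 ∧ φ 1 = 1 ∧
    (∀ a b, φ (ad a b) = φ a + φ b) ∧ (∀ a b, φ (mu a b) = φ a * φ b) := by
  classical
  have h2 := two_zero hF
  obtain ⟨w, hw0, hw1⟩ : ∃ w : F, w ≠ 0 ∧ w ≠ 1 := by
    by_contra hcon
    push Not at hcon
    have : (Finset.univ : Finset F) ⊆ {0, 1} := fun a _ => by
      by_cases ha : a = 0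
      · simp [ha]
      · simp [hcon a ha]
    have := (Finset.card_le_card this).trans Finset.card_le_two
    rw [Finset.card_univ, hF] at this
    omega
  have hq : w * w = w + 1 := by
    have h : (w - 1) * (w * w + w + 1) = 0 := by linear_combination pow3 hF hw0
    rcases mul_eq_zero.1 h with h | h
    · exact absurd (sub_eq_zero.1 h) hw1
    · linear_combination h - (w + 1) * h2
  let φ : Fin 4 → F := ![0, 1, w, w + 1]
  refine ⟨φ, ?_, rfl, rfl, ?_, ?_⟩
  · rw [Fintype.bijective_iff_injective_and_card, hF, Fintype.card_fin]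
    refine ⟨?_, rfl⟩
    intro a b hab
    have e1 : w + 1 ≠ 0 := fun h => hw1 (by linear_combination h - h2)
    have e2 : w + 1 ≠ 1 := fun h => hw0 (by linear_combination h)
    have e3 : w + 1 ≠ w := fun h => one_ne_zero (α := F) (by linear_combination h)
    fin_cases a <;> fin_cases b <;> simp [φ] at hab <;>
      first
        | rfl
        | exact absurd hab hw0
        | exact absurd hab.symm hw0
        | exact absurd hab hw1
        | exact absurd hab.symm hw1
        | exact absurd hab e1
        | exact absurd hab.symm e1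
        | exact absurd hab e2
        | exact absurd hab.symm e2
  · intro a b
    fin_cases a <;> fin_cases b <;> simp [φ, ad] <;>
      first
        | ring1
        | linear_combination h2
        | linear_combination -h2
        | linear_combination w * h2
        | linear_combination -w * h2
        | linear_combination (w + 1) * h2
        | linear_combination -(w + 1) * h2
  · intro a b
    fin_cases a <;> fin_cases b <;> simp [φ, mu] <;>
      first
        | ring1
        | linear_combination hq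
        | linear_combination -hq
        | linear_combination hq + (w + 1) * h2
        | linear_combination -hq - (w + 1) * h2
        | linear_combination hq + w * h2
        | linear_combination -hq - w * h2
        | linear_combination hq + h2
        | linear_combination -hq - h2

theorem cols_orth (x : Matrix (Fin 3) (Fin 3) F)
    (hx : ∀ u v, Cfsg.hermForm 3 F 2 (x *ᵥ u) (x *ᵥ v) = Cfsg.hermForm 3 F 2 u v) (j k : Fin 3) :
    x 0 j * x 0 k ^ 2 + x 1 j * x 1 k ^ 2 + x 2 j * x 2 k ^ 2 = if j = k then 1 else 0 := by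
  have h := hx (Pi.single j 1) (Pi.single k 1)
  simp only [Cfsg.hermForm, Matrix.mulVec_single_one, Fin.sum_univ_three, Matrix.col_apply] at h
  rw [h]
  fin_cases j <;> fin_cases k <;> simp

/-- A column with a zero has only one non-zero entry, so all rows of a unitary matrix with a zero in it are monomial. -/
theorem mono_or_all_ne (x : Matrix (Fin 3) (Fin 3) F)
    (hx : ∀ u v, Cfsg.hermForm 3 F 2 (x *ᵥ u) (x *ᵥ v) = Cfsg.hermForm 3 F 2 u v) (i₀ j₀ : Fin 3)
    (h0 : x i₀ j₀ = 0) : Mono x := by
  have h2 := two_zero hF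
  -- rows are orthonormal as well
  have hU : (Matrix.of fun a b => x b a ^ 2) * x = 1 := by
    ext a b
    rw [Matrix.mul_apply, Fin.sum_univ_three, Matrix.one_apply]
    have := cols_orth hF x hx b a
    simp only [Matrix.of_apply]
    by_cases hab : a = b
    · rw [if_pos hab]; rw [if_pos hab.symm] at this; linear_combination this
    · rw [if_neg hab]; rw [if_neg (Ne.symm hab)] at this; linear_combination this
  have hU' := mul_eq_one_comm.1 hU
  have hrow : ∀ a b : Fin 3, x a 0 * x b 0 ^ 2 + x a 1 * x b 1 ^ 2 + x a 2 * x b 2 ^ 2 = if a = b then 1 else 0 := by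
    intro a b
    have := congrFun (congrFun hU' a) b
    rw [Matrix.mul_apply, Fin.sum_univ_three, Matrix.one_apply] at this
    simpa using this
  -- a row with a zero has a unique non-zero entry
  have hzero : ∀ i j, x i j = 0 → ∃ k, x i k ≠ 0 ∧ ∀ l, l ≠ k → x i l = 0 := by
    intro i j hj
    have hn := hrow i i
    rw [if_pos rfl] at hn
    have c : ∀ a : F, a ≠ 0 → a * a ^ 2 = 1 := fun a ha => by rw [← pow3 hF ha]; ring
    rcases eq_or_ne (x i 0) 0 with a0 | a0 <;> rcases eq_or_ne (x i 1) 0 with a1 | a1 <;>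
      rcases eq_or_ne (x i 2) 0 with a2 | a2
    · simp [a0, a1, a2] at hn
    · exact ⟨2, a2, fun l hl => by fin_cases l <;> simp_all⟩
    · exact ⟨1, a1, fun l hl => by fin_cases l <;> simp_all⟩
    · rw [a0, c _ a1, c _ a2] at hn; exact absurd (by linear_combination h2 - hn : (1 : F) = 0).symm zero_ne_one
    · exact ⟨0, a0, fun l hl => by fin_cases l <;> simp_all⟩
    · rw [a1, c _ a0, c _ a2] at hn; exact absurd (by linear_combination h2 - hn : (1 : F) = 0).symm zero_ne_one
    · rw [a2, c _ a0, c _ a1] at hn; exact absurd (by linear_combination h2 - hn : (1 : F) = 0).symm zero_ne_one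
    · fin_cases j <;> exact absurd hj ‹_›
  intro i
  obtain ⟨k, hk0, hk⟩ := hzero i₀ j₀ h0
  by_cases hi : i = i₀
  · exact ⟨k, fun l hl => hi ▸ hk l hl⟩
  · have h := hrow i₀ i
    rw [if_neg (Ne.symm hi)] at h
    have hik : x i k = 0 := by
      fin_cases k
      · simp [hk 1 (by decide), hk 2 (by decide)] at h; exact h.resolve_left hk0
      · simp [hk 0 (by decide), hk 2 (by decide)] at h; exact h.resolve_left hk0
      · simp [hk 0 (by decide), hk 1 (by decide)] at h; exact h.resolve_left hk0
    obtain ⟨k', -, hk'⟩ := hzero i k hik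
    exact ⟨k', hk'⟩

theorem sq_mono (x : Matrix (Fin 3) (Fin 3) F)
    (hx : ∀ u v, Cfsg.hermForm 3 F 2 (x *ᵥ u) (x *ᵥ v) = Cfsg.hermForm 3 F 2 u v) (hdet : x.det = 1) :
    Mono (x * x) := by
  have hxx : ∀ u v, Cfsg.hermForm 3 F 2 ((x * x) *ᵥ u) ((x * x) *ᵥ v) = Cfsg.hermForm 3 F 2 u v := fun u v => by
    rw [← Matrix.mulVec_mulVec, ← Matrix.mulVec_mulVec, hx, hx]
  by_cases hz : ∃ i j, x i j = 0
  · obtain ⟨i, j, h⟩ := hz
    exact mono_mul (mono_or_all_ne hF x hx i j h) (mono_or_all_ne hF x hx i j h)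
  push Not at hz
  obtain ⟨φ, hφb, hφ0, hφ1, hφa, hφm⟩ := exists_model hF
  choose a ha using fun i j => hφb.2 (x i j)
  have hane : ∀ i j, a i j ≠ 0 := fun i j h => hz i j (by rw [← ha, h, hφ0])
  let col : Fin 3 → Fin 4 × Fin 4 × Fin 4 := fun j => (a 0 j, a 1 j, a 2 j)
  have hcm : ∀ j, col j ∈ cols := fun j => mem_cols _ _ _ (hane _ _) (hane _ _) (hane _ _)
  have horth : ∀ j k, j ≠ k → (herm (col j) (col k)).val = 0 := by
    intro j k hjk
    have h := cols_orth hF x hx j k
    rw [if_neg hjk] at h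
    have : φ (herm (col j) (col k)) = φ 0 := by
      simp only [herm, col, hφa, hφm, ha, hφ0]
      linear_combination h
    rw [hφb.1 this]; rfl
  have hc := check_sq
  simp only [List.all_eq_true, Bool.or_eq_true, Bool.not_eq_true', decide_eq_false_iff_not] at hc
  have h1 := (hc _ (hcm 0) _ (hcm 1)).resolve_left (fun h => h (horth 0 1 (by decide))) _ (hcm 2)
  have h3 : sqHasZero (col 0) (col 1) (col 2) = true := by
    rcases h1 with ((h | h) | h) | h
    · exact absurd (horth 0 2 (by decide)) h
    · exact absurd (horth 1 2 (by decide)) h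
    · refine absurd ?_ h
      have hd : φ (det3 (col 0) (col 1) (col 2)) = φ 1 := by
        rw [Matrix.det_fin_three] at hdet
        simp only [det3, col, hφa, hφm, ha, hφ1]
        linear_combination hdet + (x 0 0 * x 1 2 * x 2 1 + x 0 1 * x 1 0 * x 2 2 + x 0 2 * x 1 1 * x 2 0) * two_zero hF
      rw [hφb.1 hd]; rfl
    · exact h
  have key : ∀ z : Fin 4, z.val = 0 → φ z = 0 := fun z hz => by rw [show z = 0 from Fin.ext hz, hφ0]
  simp only [sqHasZero, Bool.or_eq_true, decide_eq_true_eq] at h3
  rcases h3 with (h | h) | h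
  · refine mono_or_all_ne hF _ hxx 0 0 ?_
    rw [Matrix.mul_apply, Fin.sum_univ_three]
    simpa [col, hφa, hφm, ha] using key _ h
  · refine mono_or_all_ne hF _ hxx 0 1 ?_
    rw [Matrix.mul_apply, Fin.sum_univ_three]
    simpa [col, hφa, hφm, ha] using key _ h
  · refine mono_or_all_ne hF _ hxx 0 2 ?_
    rw [Matrix.mul_apply, Fin.sum_univ_three]
    simpa [col, hφa, hφm, ha] using key _ h

theorem mono_of_sq_scalar (x : Matrix (Fin 3) (Fin 3) F)
    (hx : ∀ u v, Cfsg.hermForm 3 F 2 (x *ᵥ u) (x *ᵥ v) = Cfsg.hermForm 3 F 2 u v)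
    (h01 : (x * x) 0 1 = 0) (hd : ∀ i j, (x * x) i i = (x * x) j j)
    (hoff : ∀ i j, i ≠ j → (x * x) i j = 0) : Mono x := by
  by_contra hcon
  have hne : ∀ i j, x i j ≠ 0 := fun i j h => hcon (mono_or_all_ne hF x hx i j h)
  have h2 := two_zero hF
  let z := (x * x) 0 0
  -- `x = z x*`
  have hU : (Matrix.of fun a b => x b a ^ 2) * x = 1 := by
    ext a b
    rw [Matrix.mul_apply, Fin.sum_univ_three, Matrix.one_apply]
    have := cols_orth hF x hx b a
    simp only [Matrix.of_apply]
    by_cases hab : a = b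
    · rw [if_pos hab]; rw [if_pos hab.symm] at this; linear_combination this
    · rw [if_neg hab]; rw [if_neg (Ne.symm hab)] at this; linear_combination this
  have hsq : x * x = z • 1 := by
    ext a b
    by_cases hab : a = b
    · subst hab; rw [Matrix.smul_apply, Matrix.one_apply_eq, smul_eq_mul, mul_one]; exact hd a 0
    · rw [hoff a b hab]; simp [Matrix.one_apply_ne hab]
  have hxe : x = z • (Matrix.of fun a b => x b a ^ 2) := by
    have h := congrArg ((Matrix.of fun a b => x b a ^ 2) * ·) hsq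
    simp only [← mul_assoc, hU, one_mul, Matrix.mul_smul, mul_one] at h
    exact h
  have hdiag : ∀ i, z * x i i = 1 := fun i => by
    have h := congrFun (congrFun hxe i) i
    simp only [Matrix.smul_apply, Matrix.of_apply, smul_eq_mul] at h
    have : x i i * (z * x i i - 1) = 0 := by linear_combination -h
    exact sub_eq_zero.1 ((mul_eq_zero.1 this).resolve_left (hne i i))
  have hz : z ≠ 0 := fun h => by simpa [h] using hdiag 0
  have heq : x 0 0 = x 1 1 := mul_left_cancel₀ hz ((hdiag 0).trans (hdiag 1).symm)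
  rw [Matrix.mul_apply, Fin.sum_univ_three, ← heq] at h01
  have : x 0 2 * x 2 1 = 0 := by linear_combination h01 - (x 0 0 * x 0 1) * h2
  exact mul_ne_zero (hne 0 2) (hne 2 1) this

/-- The element of determinant one with a given unitary matrix. -/
theorem exists_SU (A : Matrix (Fin 3) (Fin 3) F) (hdet : A.det = 1)
    (hu : ∀ j k : Fin 3, A 0 j * A 0 k ^ 2 + A 1 j * A 1 k ^ 2 + A 2 j * A 2 k ^ 2 = if j = k then 1 else 0) :
    ∃ g : Cfsg.SU 3 F 2, (g.1 : Matrix (Fin 3) (Fin 3) F) = A := by
  haveI : CharP F 2 := CharTwo.of_one_ne_zero_of_two_eq_zero one_ne_zero (by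
    rw [← one_add_one_eq_two]; exact two_zero hF)
  refine ⟨⟨⟨A, hdet⟩, ?_⟩, rfl⟩
  intro u v
  show Cfsg.hermForm 3 F 2 (A *ᵥ u) (A *ᵥ v) = Cfsg.hermForm 3 F 2 u v
  have e00 := hu 0 0
  have e01 := hu 0 1
  have e02 := hu 0 2
  have e10 := hu 1 0
  have e11 := hu 1 1
  have e12 := hu 1 2
  have e20 := hu 2 0
  have e21 := hu 2 1
  have e22 := hu 2 2
  simp at e00 e01 e02 e10 e11 e12 e20 e21 e22
  simp only [Cfsg.hermForm, Fin.sum_univ_three, Matrix.mulVec, dotProduct, CharTwo.add_sq, mul_pow]
  linear_combination (u 0 * v 0 ^ 2) * e00 + (u 0 * v 1 ^ 2) * e01 + (u 0 * v 2 ^ 2) * e02 +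
    (u 1 * v 0 ^ 2) * e10 + (u 1 * v 1 ^ 2) * e11 + (u 1 * v 2 ^ 2) * e12 +
    (u 2 * v 0 ^ 2) * e20 + (u 2 * v 1 ^ 2) * e21 + (u 2 * v 2 ^ 2) * e22

end Field

/-- The subgroup lattice of PSU₃(2) (the solvable group of order 72, realised over the field with 4 elements) is not complemented: some subgroup H has no subgroup X with H ⊔ X = ⊤ and H ⊓ X = ⊥. -/
theorem result {F : Type*} [Field F] [Fintype F] (hF : Fintype.card F = 4) :
    ¬ ComplementedLattice (Subgroup (Cfsg.PSU 3 F 2)) := by
  classical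
  intro hC
  have h2 := two_zero hF
  obtain ⟨φ, hφb, hφ0, hφ1, hφa, hφm⟩ := exists_model hF
  let S := Cfsg.SU 3 F 2
  let mat : S → Matrix (Fin 3) (Fin 3) F := fun g => (g.1 : Matrix (Fin 3) (Fin 3) F)
  have hmul : ∀ g h : S, mat (g * h) = mat g * mat h := fun g h => rfl
  have hunit : ∀ g : S, ∀ u v, Cfsg.hermForm 3 F 2 (mat g *ᵥ u) (mat g *ᵥ v) = Cfsg.hermForm 3 F 2 u v :=
    fun g => g.2
  haveI : Finite (Matrix (Fin 3) (Fin 3) F) := inferInstanceAs (Finite (Fin 3 → Fin 3 → F))
  haveI : Finite S := Finite.of_injective mat (fun g h e => Subtype.ext (Subtype.ext e))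
  let Hm : Subgroup S :=
    { carrier := {g | Mono (mat g)}
      mul_mem' := fun {g h} hg hh => by
        show Mono (mat (g * h))
        rw [hmul]; exact mono_mul hg hh
      one_mem' := fun i => ⟨i, fun k hk => by simp [mat, Matrix.one_apply_ne (Ne.symm hk)]⟩
      inv_mem' := fun {g} hg => by
        obtain ⟨n, hn⟩ : ∃ n : ℕ, g⁻¹ = g ^ n := ⟨orderOf g - 1, by
          rw [eq_comm, ← mul_eq_one_iff_eq_inv, ← pow_succ, Nat.sub_add_cancel (orderOf_pos g)]
          exact pow_orderOf_eq_one g⟩
        show Mono (mat g⁻¹)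
        rw [hn]
        clear hn
        induction n with
        | zero => exact fun i => ⟨i, fun k hk => by simp [mat, Matrix.one_apply_ne (Ne.symm hk)]⟩
        | succ n ih => rw [pow_succ, hmul]; exact mono_mul ih hg }
  let w : F := φ 2
  have hw : w * w = w + 1 := by
    have e : mu 2 2 = ad 2 1 := by decide +kernel
    have := congrArg φ e
    rwa [hφm, hφa, hφ1] at this
  -- special elements
  obtain ⟨d, hd⟩ := exists_SU hF !![w, 0, 0; 0, w * w, 0; 0, 0, 1]
    (by simp [Matrix.det_fin_three]; linear_combination (w + 1) * hw + w * h2)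
    (fun j k => by
      fin_cases j <;> fin_cases k <;> simp <;>
        first
          | linear_combination (w + 1) * hw + w * h2
          | linear_combination ((w + 1) * hw + w * h2) * ((w * w * w) + 1)
          )
  obtain ⟨c, hc⟩ := exists_SU hF !![0, 1, 0; 0, 0, 1; 1, 0, 0]
    (by simp [Matrix.det_fin_three])
    (fun j k => by fin_cases j <;> fin_cases k <;> simp)
  obtain ⟨m, hm⟩ := exists_SU hF !![1, 1, 1; 1, w, w * w; 1, w * w, w]
    (by simp [Matrix.det_fin_three]; linear_combination 3 * hw + h2 - w * ((w + 1) * hw + w * h2))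
    (fun j k => by
      have hw3 : w * w * w = 1 := by linear_combination (w + 1) * hw + w * h2
      have hs : 1 + w + w * w = 0 := by linear_combination hw + (w + 1) * h2
      fin_cases j <;> fin_cases k <;> simp <;>
        first
          | linear_combination h2
          | linear_combination hs
          | linear_combination hw3 * (w * w * w + 2) + h2
          | linear_combination hs + hw3 * (w * w)
          | linear_combination hs + hw3 * w
          | linear_combination hs + hw3 * (w + w * w)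
          | linear_combination hs + hw3 * (1 + w)
          )
  have hmH : m ∉ Hm := by
    intro h
    obtain ⟨j, hj⟩ := h 0
    obtain ⟨k, hk⟩ := exists_ne j
    have := hj k hk
    rw [show mat m = _ from hm] at this
    fin_cases k <;> simp at this
  have hcen : ∀ z ∈ Subgroup.center S, (∀ i j, mat z i i = mat z j j) ∧ ∀ i j, i ≠ j → mat z i j = 0 := by
    intro z hz
    have hzd := congrArg mat (Subgroup.mem_center_iff.1 hz d)
    have hzc := congrArg mat (Subgroup.mem_center_iff.1 hz c)
    rw [hmul, hmul, show mat d = _ from hd] at hzd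
    rw [hmul, hmul, show mat c = _ from hc] at hzc
    have hw01 : w ≠ 0 := fun h => by rw [h] at hw; simp at hw
    have hw11 : w ≠ 1 := fun h => by
      rw [h] at hw
      exact one_ne_zero (α := F) (by linear_combination hw + h2)
    have d01 := congrFun (congrFun hzd 0) 1
    have d02 := congrFun (congrFun hzd 0) 2
    have d12 := congrFun (congrFun hzd 1) 2
    have c01 := congrFun (congrFun hzc 0) 1
    have c12 := congrFun (congrFun hzc 1) 2
    have d10 := congrFun (congrFun hzd 1) 0
    have d20 := congrFun (congrFun hzd 2) 0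
    have d21 := congrFun (congrFun hzd 2) 1
    simp [Matrix.mul_apply, Fin.sum_univ_three] at d01 d02 d12 d10 d20 d21 c01 c12
    have ha : w - w * w ≠ 0 := fun h => hw11 (mul_left_cancel₀ hw01 (by linear_combination -h))
    have hb : w - 1 ≠ 0 := sub_ne_zero.2 hw11
    have hb' : w * w - 1 ≠ 0 := fun h => hw01 (by linear_combination h - hw)
    have z01 : mat z 0 1 = 0 := (mul_eq_zero.1 (show (w - w * w) * mat z 0 1 = 0 by linear_combination d01)).resolve_left ha
    have z10 : mat z 1 0 = 0 := (mul_eq_zero.1 (show (w - w * w) * mat z 1 0 = 0 by linear_combination -d10)).resolve_left ha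
    have z02 : mat z 0 2 = 0 := (mul_eq_zero.1 (show (w - 1) * mat z 0 2 = 0 by linear_combination d02)).resolve_left hb
    have z20 : mat z 2 0 = 0 := (mul_eq_zero.1 (show (w - 1) * mat z 2 0 = 0 by linear_combination -d20)).resolve_left hb
    have z12 : mat z 1 2 = 0 := (mul_eq_zero.1 (show (w * w - 1) * mat z 1 2 = 0 by linear_combination d12)).resolve_left hb'
    have z21 : mat z 2 1 = 0 := (mul_eq_zero.1 (show (w * w - 1) * mat z 2 1 = 0 by linear_combination -d21)).resolve_left hb'
    constructor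
    · intro i j
      fin_cases i <;> fin_cases j <;> simp_all
    · intro i j hij
      fin_cases i <;> fin_cases j <;> simp_all
  -- elements squaring into the centre are monomial
  have hinvol : ∀ g : S, g * g ∈ Subgroup.center S → g ∈ Hm := by
    intro g hg
    obtain ⟨h1, h0⟩ := hcen _ hg
    exact mono_of_sq_scalar hF (mat g) (hunit g) (h0 0 1 (by decide)) h1 h0
  have hcenH : Subgroup.center S ≤ Hm := fun z hz => hinvol z (mul_mem hz hz)
  let π := QuotientGroup.mk' (Subgroup.center S)
  obtain ⟨C, hCc⟩ := hC.exists_isCompl (Hm.map π)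
  have hsq : ∀ g : S, π (g * g) ∈ Hm.map π := fun g => ⟨g * g, sq_mono hF (mat g) (hunit g) g.1.2, rfl⟩
  have hbot : C = ⊥ := by
    rw [eq_bot_iff]
    intro x hx
    obtain ⟨g, rfl⟩ := QuotientGroup.mk'_surjective (Subgroup.center S) x
    have h1 : π (g * g) ∈ Hm.map π ⊓ C := ⟨hsq g, by
      show π (g * g) ∈ C
      rw [map_mul]; exact C.mul_mem hx hx⟩
    rw [hCc.inf_eq_bot, Subgroup.mem_bot] at h1
    have hg : g ∈ Hm := hinvol g ((QuotientGroup.eq_one_iff _).1 h1)
    have h3 : π g ∈ Hm.map π ⊓ C := ⟨⟨g, hg, rfl⟩, hx⟩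
    rwa [hCc.inf_eq_bot] at h3
  have htop : Hm.map π = ⊤ := by
    have := hCc.sup_eq_top
    rwa [hbot, sup_bot_eq] at this
  obtain ⟨g, hg, hgm⟩ := (htop ▸ Subgroup.mem_top _ : π m ∈ Hm.map π)
  obtain ⟨z, hz, rfl⟩ := (QuotientGroup.mk'_eq_mk' _).1 hgm
  exact hmH (Hm.mul_mem hg (hcenH hz))

end Cfsg.Agent.S5908
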