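import Cfsg.Statements.S0827
import Cfsg.Agent.S5908
import Cfsg.Agent.S0282
import Cfsg.Agent.Lib.UnitaryF4Geo

set_option autoImplicit false
set_option maxHeartbeats 2000000
set_option linter.unusedSimpArgs false
open Cfsg

namespace Cfsg.Agent.S0827

open scoped Matrix

/-- A group of order 72 with a normalised elementary group of order nine and a quaternion
complement, given by generators. -/
theorem abstract_split {G : Type*} [Group G] [Finite G] (hG : Nat.card G = 72) (a b x y : G)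
    (ha : a ^ 3 = 1) (hb : b ^ 3 = 1) (hab : Commute a b)
    (hind : ∀ i j : ℕ, a ^ i * b ^ j = 1 → 3 ∣ i ∧ 3 ∣ j)
    (hx4 : x ^ 4 = 1) (hy : y * y = x ^ 2) (hxy : x * y = y * x ^ 3) (hx2 : x ^ 2 ≠ 1)
    (cxa : ∃ i j : ℕ, x * a * x⁻¹ = a ^ i * b ^ j) (cxb : ∃ i j : ℕ, x * b * x⁻¹ = a ^ i * b ^ j)
    (cya : ∃ i j : ℕ, y * a * y⁻¹ = a ^ i * b ^ j) (cyb : ∃ i j : ℕ, y * b * y⁻¹ = a ^ i * b ^ j) :
    ∃ (N : Subgroup G) (_ : N.Normal), Nat.card N = 9 ∧ (∀ z ∈ N, z ^ 3 = 1) ∧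
      Nonempty (G ⧸ N ≃* QuaternionGroup 2) := by
  have pa : ∀ k l : ℕ, k % 3 = l % 3 → a ^ k = a ^ l := fun k l e => by
    rw [pow_eq_pow_mod k ha, pow_eq_pow_mod l ha, e]
  have pb : ∀ k l : ℕ, k % 3 = l % 3 → b ^ k = b ^ l := fun k l e => by
    rw [pow_eq_pow_mod k hb, pow_eq_pow_mod l hb, e]
  have px : ∀ k l : ℕ, k % 4 = l % 4 → x ^ k = x ^ l := fun k l e => by
    rw [pow_eq_pow_mod k hx4, pow_eq_pow_mod l hx4, e]
  have prodab : ∀ i j k l : ℕ, a ^ i * b ^ j * (a ^ k * b ^ l) = a ^ (i + k) * b ^ (j + l) := by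
    intro i j k l
    rw [pow_add, pow_add, mul_assoc, ← mul_assoc (b ^ j), ((hab.symm).pow_pow j k).eq]
    simp only [mul_assoc]
  let ψ : Multiplicative (ZMod 3 × ZMod 3) →* G := MonoidHom.mk'
    (fun p => a ^ p.toAdd.1.val * b ^ p.toAdd.2.val) (fun p r => by
      rw [prodab]
      exact congrArg₂ (· * ·) (pa _ _ (by simp [ZMod.val_add])) (pb _ _ (by simp [ZMod.val_add])))
  set N := ψ.range with hN
  have memN : ∀ i j : ℕ, a ^ i * b ^ j ∈ N := fun i j =>
    ⟨Multiplicative.ofAdd ((i : ZMod 3), (j : ZMod 3)),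
      congrArg₂ (· * ·) (pa _ _ (by simp [ZMod.val_natCast])) (pb _ _ (by simp [ZMod.val_natCast]))⟩
  have ψinj : Function.Injective ψ := by
    rw [injective_iff_map_eq_one]
    intro p hp
    obtain ⟨h1, h2⟩ := hind _ _ hp
    have v0 : ∀ z : ZMod 3, 3 ∣ z.val → z = 0 := fun z hz => (ZMod.val_eq_zero z).mp
      (Nat.eq_zero_of_dvd_of_lt hz (ZMod.val_lt z))
    exact Multiplicative.toAdd.injective (Prod.ext (v0 _ h1) (v0 _ h2))
  have hcard : Nat.card N = 9 := by
    rw [hN, ← Nat.card_congr (MonoidHom.ofInjective ψinj).toEquiv]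
    simp [Nat.card_eq_fintype_card]
  have hexp : ∀ z ∈ N, z ^ 3 = 1 := by
    rintro _ ⟨p, rfl⟩
    have : ∀ p : Multiplicative (ZMod 3 × ZMod 3), p ^ 3 = 1 := by decide
    rw [← map_pow, this, map_one]
  have hswap : ∀ k : ℕ, x ^ k * y = y * x ^ (3 * k) := by
    intro k
    induction k with
    | zero => simp
    | succ k ih => rw [pow_succ', mul_assoc, ih, ← mul_assoc, hxy, mul_assoc, ← pow_add]; ring_nf
  let f : QuaternionGroup 2 → G := fun q => match q with
    | .a i => x ^ i.val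
    | .xa i => y * x ^ i.val
  let Φ : QuaternionGroup 2 →* G := MonoidHom.mk' f (by
    have e1 : ∀ i j : ZMod (2 * 2), (i + j).val % 4 = (i.val + j.val) % 4 := by decide
    have e2 : ∀ i j : ZMod (2 * 2), (j - i).val % 4 = (3 * i.val + j.val) % 4 := by decide
    have e3 : ∀ i j : ZMod (2 * 2), ((2 : ℕ) + j - i : ZMod (2 * 2)).val % 4
        = (2 + (3 * i.val + j.val)) % 4 := by decide
    rintro (i | i) (j | j)
    · show x ^ (i + j).val = x ^ i.val * x ^ j.val
      rw [← pow_add]; exact px _ _ (e1 i j)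
    · show y * x ^ (j - i).val = x ^ i.val * (y * x ^ j.val)
      rw [← mul_assoc (x ^ i.val), hswap, mul_assoc, ← pow_add]
      exact congrArg _ (px _ _ (e2 i j))
    · show y * x ^ (i + j).val = y * x ^ i.val * x ^ j.val
      rw [mul_assoc, ← pow_add]
      exact congrArg _ (px _ _ (e1 i j))
    · show x ^ ((2 : ℕ) + j - i : ZMod (2 * 2)).val = y * x ^ i.val * (y * x ^ j.val)
      rw [mul_assoc y, ← mul_assoc (x ^ i.val), hswap, mul_assoc y (x ^ _), ← pow_add, ← mul_assoc, hy,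
        ← pow_add]
      exact px _ _ (e3 i j))
  have q4 : ∀ q : QuaternionGroup 2, q ^ 4 = 1 := by decide
  have hdisj : ∀ q, Φ q ∈ N → q = 1 := by
    intro q hq
    have h1 : Φ q = 1 := by
      have h3 := hexp _ hq
      have h4 : Φ q ^ 4 = 1 := by rw [← map_pow, q4, map_one]
      calc Φ q = Φ q ^ 4 := by rw [pow_succ, h3, one_mul]
        _ = 1 := h4
    have key : ∀ q : QuaternionGroup 2, q = 1 ∨ q = .a 2 ∨ q ^ 2 = .a 2 := by decide
    rcases key q with h | h | h
    · exact h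
    · exfalso; apply hx2
      rw [← h1, h]; rfl
    · exfalso; apply hx2
      have : Φ (.a 2) = 1 := by rw [← h, map_pow, h1, one_pow]
      rw [← this]; rfl
  have hQ : Fintype.card (QuaternionGroup 2) = 8 := by rw [QuaternionGroup.card]
  have surj : ∀ g : G, ∃ n ∈ N, ∃ q, g = n * Φ q := by
    have hinj : Function.Injective fun p : N × QuaternionGroup 2 => (p.1 : G) * Φ p.2 := by
      rintro ⟨n₁, q₁⟩ ⟨n₂, q₂⟩ e
      simp only at e
      have hq : Φ (q₂ * q₁⁻¹) ∈ N := by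
        have : Φ (q₂ * q₁⁻¹) = (n₂ : G)⁻¹ * n₁ := by
          rw [map_mul, map_inv, mul_inv_eq_iff_eq_mul, mul_assoc, e, inv_mul_cancel_left]
        rw [this]; exact N.mul_mem (N.inv_mem n₂.2) n₁.2
      obtain rfl : q₁ = q₂ := (mul_inv_eq_one.mp (hdisj _ hq)).symm
      exact Prod.ext (Subtype.ext (mul_right_cancel e)) rfl
    have hbij := hinj.bijective_of_nat_card_le (by
      rw [Nat.card_prod, hcard, hG, Nat.card_eq_fintype_card, hQ])
    intro g
    obtain ⟨⟨n, q⟩, rfl⟩ := hbij.2 g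
    exact ⟨n, n.2, q, rfl⟩
  have conjN : ∀ g : G, (∃ i j : ℕ, g * a * g⁻¹ = a ^ i * b ^ j) →
      (∃ i j : ℕ, g * b * g⁻¹ = a ^ i * b ^ j) → ∀ h ∈ N, g * h * g⁻¹ ∈ N := by
    rintro g ⟨i, j, e⟩ ⟨k, l, e'⟩ _ ⟨p, rfl⟩
    show g * (a ^ _ * b ^ _) * g⁻¹ ∈ N
    rw [← conj_mul, ← conj_pow, ← conj_pow, e, e']
    exact N.mul_mem (N.pow_mem (memN _ _) _) (N.pow_mem (memN _ _) _)
  have nx := conjN x cxa cxb
  have ny := conjN y cya cyb
  have nxp : ∀ k : ℕ, ∀ h ∈ N, x ^ k * h * (x ^ k)⁻¹ ∈ N := by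
    intro k
    induction k with
    | zero => simp
    | succ k ih =>
      intro h hh
      have : x ^ (k + 1) * h * (x ^ (k + 1))⁻¹ = x * (x ^ k * h * (x ^ k)⁻¹) * x⁻¹ := by
        rw [pow_succ']; group
      rw [this]; exact nx _ (ih h hh)
  have hnorm : N.Normal := ⟨fun h hh g => by
    obtain ⟨n, hn, q, rfl⟩ := surj g
    have hq : Φ q * h * (Φ q)⁻¹ ∈ N := by
      rcases q with i | i
      · exact nxp _ h hh
      · show y * x ^ i.val * h * (y * x ^ i.val)⁻¹ ∈ N
        rw [show y * x ^ i.val * h * (y * x ^ i.val)⁻¹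
          = y * (x ^ i.val * h * (x ^ i.val)⁻¹) * y⁻¹ by group]
        exact ny _ (nxp _ h hh)
    rw [show n * Φ q * h * (n * Φ q)⁻¹ = n * (Φ q * h * (Φ q)⁻¹) * n⁻¹ by group]
    exact N.mul_mem (N.mul_mem hn hq) (N.inv_mem hn)⟩
  refine ⟨N, hnorm, hcard, hexp, ⟨(MulEquiv.ofBijective ((QuotientGroup.mk' N).comp Φ) ?_).symm⟩⟩
  refine Function.Injective.bijective_of_nat_card_le ?_ ?_
  · rw [injective_iff_map_eq_one]
    exact fun q hq => hdisj q ((QuotientGroup.eq_one_iff _).mp hq)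
  · have := N.card_eq_card_quotient_mul_card_subgroup
    rw [hG, hcard] at this
    rw [Nat.card_eq_fintype_card (α := QuaternionGroup 2), hQ]
    omega

/-- U_3(2) ≅ 3².Q_8: PSU_3(2) (form over the field with 4 elements) has a normal subgroup N which is elementary abelian of order 9 such that the quotient by N is isomorphic to the quaternion group of order 8. -/
theorem result {F : Type*} [Field F] [Fintype F] (hF : Fintype.card F = 4) : ∃ (N : Subgroup (Cfsg.PSU 3 F 2)) (_ : N.Normal), Nat.card N = 9 ∧ (∀ x ∈ N, x ^ 3 = 1) ∧ Nonempty (Cfsg.PSU 3 F 2 ⧸ N ≃* QuaternionGroup 2) := by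
  classical
  obtain ⟨w, hw⟩ : ∃ w : F, w ^ 2 = w + 1 := by
    haveI : UnitaryF4Geo.FourField F := ⟨hF⟩
    exact UnitaryF4Geo.exists_omega
  have two : (2 : F) = 0 := by rw [← one_add_one_eq_two]; exact S5908.two_zero hF
  have hw0 : w ≠ 0 := by rintro rfl; simp at hw
  have hw1 : w ≠ 1 := by rintro rfl; simp at hw
  have mk : ∀ A : Matrix (Fin 3) (Fin 3) F, A.det = 1 →
      (∀ j k : Fin 3, A 0 j * A 0 k ^ 2 + A 1 j * A 1 k ^ 2 + A 2 j * A 2 k ^ 2 = if j = k then 1 else 0) →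
      ∃ g : Cfsg.SU 3 F 2, (g.1 : Matrix (Fin 3) (Fin 3) F) = A := S5908.exists_SU hF
  obtain ⟨d, hd⟩ := mk !![1, 0, 0; 0, w, 0; 0, 0, w ^ 2]
    (by simp [Matrix.det_fin_three]; grobner)
    (fun j k => by fin_cases j <;> fin_cases k <;> simp <;> grobner)
  obtain ⟨c, hc⟩ := mk !![0, 1, 0; 0, 0, 1; 1, 0, 0]
    (by simp [Matrix.det_fin_three])
    (fun j k => by fin_cases j <;> fin_cases k <;> simp)
  obtain ⟨m, hm⟩ := mk !![1, 1, 1; 1, w, w ^ 2; 1, w ^ 2, w]
    (by simp [Matrix.det_fin_three]; grobner)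
    (fun j k => by fin_cases j <;> fin_cases k <;> simp <;> grobner)
  obtain ⟨n, hn⟩ := mk !![1, w, w; w ^ 2, w, w ^ 2; w ^ 2, w ^ 2, w]
    (by simp [Matrix.det_fin_three]; grobner)
    (fun j k => by fin_cases j <;> fin_cases k <;> simp <;> grobner)
  let mat : Cfsg.SU 3 F 2 → Matrix (Fin 3) (Fin 3) F := fun g => (g.1 : Matrix (Fin 3) (Fin 3) F)
  have hmul : ∀ g h, mat (g * h) = mat g * mat h := fun _ _ => rfl
  have h1 : mat 1 = 1 := rfl
  have matext : ∀ g h, mat g = mat h → g = h := fun g h e => Subtype.ext (Subtype.ext e)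
  let π := QuotientGroup.mk' (Subgroup.center (Cfsg.SU 3 F 2))
  have proj : ∀ g h, (∃ z : F, mat g = z • mat h) → π g = π h := by
    rintro g h ⟨z, hz⟩
    refine (QuotientGroup.mk'_eq_mk' _).mpr ⟨g⁻¹ * h, ?_, mul_inv_cancel_left g h⟩
    have hk : mat (h⁻¹ * g) = z • 1 := by
      rw [hmul, hz, Matrix.mul_smul, ← hmul, inv_mul_cancel, h1]
    have hcen : h⁻¹ * g ∈ Subgroup.center (Cfsg.SU 3 F 2) := by
      rw [Subgroup.mem_center_iff]
      intro k
      apply matext
      rw [hmul k, hmul _ k, hk, Matrix.mul_smul, Matrix.smul_mul, mul_one, one_mul]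
    simpa using inv_mem hcen
  have e_d : mat d = !![1, 0, 0; 0, w, 0; 0, 0, w ^ 2] := hd
  have e_c : mat c = !![0, 1, 0; 0, 0, 1; 1, 0, 0] := hc
  have e_m : mat m = !![1, 1, 1; 1, w, w ^ 2; 1, w ^ 2, w] := hm
  have e_n : mat n = !![1, w, w; w ^ 2, w, w ^ 2; w ^ 2, w ^ 2, w] := hn
  have d3 : d ^ 3 = 1 := matext _ _ (by
    simp only [pow_succ, pow_zero, one_mul, hmul, h1, e_d]
    ext i j; fin_cases i <;> fin_cases j <;> simp [Matrix.mul_apply, Fin.sum_univ_three] <;> grobner)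
  have c3 : c ^ 3 = 1 := matext _ _ (by
    simp only [pow_succ, pow_zero, one_mul, hmul, h1, e_c]
    ext i j; fin_cases i <;> fin_cases j <;> simp [Matrix.mul_apply, Fin.sum_univ_three])
  have m4 : m ^ 4 = 1 := matext _ _ (by
    simp only [pow_succ, pow_zero, one_mul, hmul, h1, e_m]
    ext i j; fin_cases i <;> fin_cases j <;> simp [Matrix.mul_apply, Fin.sum_univ_three] <;> grobner)
  have n2 : n * n = m ^ 2 := matext _ _ (by
    simp only [pow_succ, pow_zero, one_mul, hmul, e_m, e_n]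
    ext i j; fin_cases i <;> fin_cases j <;> simp [Matrix.mul_apply, Fin.sum_univ_three] <;> grobner)
  have mn : m * n = n * m ^ 3 := matext _ _ (by
    simp only [pow_succ, pow_zero, one_mul, hmul, e_m, e_n]
    ext i j; fin_cases i <;> fin_cases j <;> simp [Matrix.mul_apply, Fin.sum_univ_three] <;> grobner)
  have dc : π (d * c) = π (c * d) := proj _ _ ⟨w ^ 2, by
    simp only [hmul, e_d, e_c]
    ext i j; fin_cases i <;> fin_cases j <;> simp [Matrix.mul_apply, Fin.sum_univ_three] <;> grobner⟩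
  have md : π (m * d) = π (c * m) := proj _ _ ⟨1, by
    simp only [hmul, e_d, e_c, e_m]
    ext i j; fin_cases i <;> fin_cases j <;> simp [Matrix.mul_apply, Fin.sum_univ_three] <;> grobner⟩
  have mc : π (m * c) = π (d ^ 2 * m) := proj _ _ ⟨1, by
    simp only [pow_succ, pow_zero, one_mul, hmul, e_d, e_c, e_m]
    ext i j; fin_cases i <;> fin_cases j <;> simp [Matrix.mul_apply, Fin.sum_univ_three] <;> grobner⟩
  have nd : π (n * d) = π (d ^ 2 * c * n) := proj _ _ ⟨w, by
    simp only [pow_succ, pow_zero, one_mul, hmul, e_d, e_c, e_n]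
    ext i j; fin_cases i <;> fin_cases j <;> simp [Matrix.mul_apply, Fin.sum_univ_three] <;> grobner⟩
  have nc : π (n * c) = π (d * c * n) := proj _ _ ⟨w ^ 2, by
    simp only [hmul, e_d, e_c, e_n]
    ext i j; fin_cases i <;> fin_cases j <;> simp [Matrix.mul_apply, Fin.sum_univ_three] <;> grobner⟩
  have ncom : d * c ≠ c * d := fun e => by
    have := congrFun (congrFun (congrArg mat e) 0) 1
    simp [hmul, e_d, e_c, Matrix.mul_apply, Fin.sum_univ_three] at this
    exact hw1 this.symm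
  have hG := (S0282.result hF).1
  refine abstract_split hG (π d) (π c) (π m) (π n) (by rw [← map_pow, d3, map_one])
    (by rw [← map_pow, c3, map_one]) (by rw [commute_iff_eq, ← map_mul, ← map_mul, dc]) ?_
    (by rw [← map_pow, m4, map_one]) (by rw [← map_mul, ← map_pow, n2])
    (by rw [← map_pow, ← map_mul, ← map_mul, mn]) ?_ ⟨0, 1, ?_⟩ ⟨2, 0, ?_⟩ ⟨2, 1, ?_⟩ ⟨1, 1, ?_⟩
  · intro i j e
    have hz : d ^ i * c ^ j ∈ Subgroup.center (Cfsg.SU 3 F 2) := by
      rw [← QuotientGroup.eq_one_iff]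
      rw [← map_pow, ← map_pow, ← map_mul] at e
      exact e
    rw [Subgroup.mem_center_iff] at hz
    have z1 := hz d
    have z2 := hz c
    have hj : 3 ∣ j := by
      by_contra hj
      have cj : Commute d (c ^ j) := by
        have : d ^ i * (d * c ^ j) = d ^ i * (c ^ j * d) := by
          rw [← mul_assoc, ← pow_succ, pow_succ', mul_assoc, z1, mul_assoc]
        exact mul_left_cancel this
      have hj3 : j % 3 = 1 ∨ j % 3 = 2 := by omega
      rw [pow_eq_pow_mod j c3] at cj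
      rcases hj3 with h | h <;> rw [h] at cj
      · exact ncom (by simpa using cj.eq)
      · have := cj.pow_right 2
        rw [← pow_mul, pow_eq_pow_mod (2 * 2) c3] at this
        exact ncom (by simpa using this.eq)
    refine ⟨?_, hj⟩
    have cj1 : c ^ j = 1 := by rw [pow_eq_pow_mod j c3, Nat.mod_eq_zero_of_dvd hj, pow_zero]
    rw [cj1, mul_one] at z2
    by_contra hi
    have hi3 : i % 3 = 1 ∨ i % 3 = 2 := by omega
    have ci : Commute c (d ^ i) := z2
    rw [pow_eq_pow_mod i d3] at ci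
    rcases hi3 with h | h <;> rw [h] at ci
    · exact ncom (by simpa using ci.eq.symm)
    · have := ci.pow_right 2
      rw [← pow_mul, pow_eq_pow_mod (2 * 2) d3] at this
      exact ncom (by simpa using this.eq.symm)
  · rw [← map_pow]
    intro e
    have hz := (QuotientGroup.eq_one_iff _).mp e
    rw [Subgroup.mem_center_iff] at hz
    have := congrFun (congrFun (congrArg mat (hz c)) 0) 1
    simp [pow_succ, hmul, h1, e_m, e_c, Matrix.mul_apply, Fin.sum_univ_three] at this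
    grobner
  · rw [mul_inv_eq_iff_eq_mul, pow_zero, one_mul, pow_one, ← map_mul, ← map_mul, md]
  · rw [mul_inv_eq_iff_eq_mul, pow_zero, mul_one, ← map_pow, ← map_mul, ← map_mul, mc]
  · rw [mul_inv_eq_iff_eq_mul, pow_one, ← map_pow, ← map_mul, ← map_mul, ← map_mul, nd]
  · rw [mul_inv_eq_iff_eq_mul, pow_one, pow_one, ← map_mul, ← map_mul, ← map_mul, nc]

end Cfsg.Agent.S0827
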