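import Cfsg.Statements.S1427
import Cfsg.Agent.Lib.BGPrimeAction

set_option autoImplicit false
set_option linter.style.haveILetI false
open Cfsg

namespace Cfsg.Agent.S1427

open Subgroup
open Cfsg.Agent.BGUnique
open Cfsg.Agent.BGPrime

/-- Let G be a minimal simple group of odd order, M a maximal subgroup, E a complement to M_σ in M, and S a nontrivial cyclic Sylow subgroup of E (for some prime). Then M_σ ∩ C_G(x) = M_σ ∩ C_G(S) for every non-identity x ∈ S. -/
theorem result {G : Type*} [Group G] [Finite G] (hG : Cfsg.IsMinSimpleOddOrder G)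
    (M : Subgroup G) (hM : IsCoatom M) (E : Subgroup G) (hE : Cfsg.IsComplIn E (Cfsg.sigmaCore M) M) (p : ℕ) [Fact p.Prime] (S : Sylow p E) (hS1 : (S : Subgroup E) ≠ ⊥) (hSc : IsCyclic (S : Subgroup E)) :
    ∀ x ∈ (S : Subgroup E).map E.subtype, x ≠ 1 →
        Cfsg.sigmaCore M ⊓ Subgroup.centralizer ({x} : Set G) = Cfsg.sigmaCore M ⊓ Subgroup.centralizer (((S : Subgroup E).map E.subtype : Subgroup G) : Set G) := by
  intro x hx hx1
  set P₀ := (S : Subgroup E).map E.subtype with hP₀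
  have hP₀E : P₀ ≤ E := map_subtype_le _
  have hP₀M : P₀ ≤ M := hP₀E.trans hE.1
  have hP₀p : IsPGroup p P₀ := S.isPGroup'.map _
  haveI := hSc
  haveI hcyc : IsCyclic P₀ :=
    ((S : Subgroup E).equivMapOfInjective _ E.subtype_injective).isCyclic.1 hSc
  have hne : P₀ ≠ ⊥ := fun h => hS1 ((map_eq_bot_iff_of_injective _ E.subtype_injective).1 h)
  have hpd : p ∣ Nat.card P₀ := dvd_card_of_ne_bot hP₀p hne
  have hps : p ∉ Cfsg.sigma M :=
    compl_not_sigma hG hM hE Fact.out (hpd.trans (card_dvd_of_le hP₀E))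
  have hmax : IsMaxP p P₀ M := by
    refine isMaxP_of_relIndex hP₀p hP₀M ?_
    rw [← relIndex_mul_relIndex P₀ E M hP₀E hE.1]
    intro hd
    rcases (Fact.out : p.Prime).dvd_mul.1 hd with h | h
    · rw [relIndex, hP₀, BGSigma.subgroupOf_map_subtype_self] at h
      exact S.not_dvd_index h
    · exact (compl_hall hG hM hE).2.2 p Fact.out hps h
  have hr : Cfsg.PRankLE p 1 M := by
    by_contra h
    obtain ⟨A, hAM, hA, hAc⟩ := exists_sq_of_not_rank_one h
    obtain ⟨m, -, hm⟩ := BGSigma.exists_conj_maxP hmax hAM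
      (PGroupsBasic.isPGroup_of_isElementaryAbelian hA)
    exact BGUnique.not_isCyclic_of_sq_le (PGroupsBasic.isElementaryAbelian_map_hom hA
      (MulAut.conj m).toMonoidHom) ((CoprimeSZ.card_conj_smul m A).trans hAc).ge (isCyclic_of_le hm)
  have hp13 : p ∈ Cfsg.tau1 M ∪ Cfsg.tau3 M := by
    by_cases hd : p ∣ Nat.card ↥⁅M, M⁆
    · exact Or.inr ⟨Fact.out, hps, hd, hr⟩
    · exact Or.inl ⟨Fact.out, hps, hpd.trans (card_dvd_of_le hP₀M), hd, hr⟩
  obtain ⟨z, hz, hzo⟩ : ∃ z ∈ zpowers x, orderOf z = p := by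
    obtain ⟨q, hq, -, z, hz, hzo⟩ := BGTypeP.exists_prime_order (orderOf_pos x).ne' hx1
    have hd : q ∣ Nat.card P₀ := hzo ▸ P₀.orderOf_dvd_natCard (zpowers_le.2 hx hz)
    obtain ⟨n, hn⟩ := IsPGroup.iff_card.1 hP₀p
    rw [hn] at hd
    exact ⟨z, hz, hzo.trans ((Nat.prime_dvd_prime_iff_eq hq Fact.out).1 (hq.dvd_of_dvd_pow hd))⟩
  set P := zpowers z with hP
  have hPc : Nat.card P = p := by rw [Nat.card_zpowers, hzo]
  have hPP₀ : P ≤ P₀ := zpowers_le.2 (zpowers_le.2 hx hz)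
  have hNP : normalizer (P : Set G) ≠ ⊤ := BGSigma.normalizer_ne_top' hG (card_prime_ne_bot hPc)
    fun h => hM.1 (top_le_iff.1 (h ▸ hPP₀.trans hP₀M))
  obtain ⟨H, hH, hNH⟩ := exists_coatom_ge hNP
  have hP₀H : P₀ ≤ M ⊓ H := by
    refine le_inf hP₀M (le_trans ?_ ((centralizer_le_normalizer _).trans hNH))
    intro a ha
    refine mem_centralizer_iff.2 fun b hb => ?_
    letI : CommGroup P₀ := IsCyclic.commGroup
    exact congrArg Subtype.val (mul_comm (⟨b, hPP₀ hb⟩ : P₀) ⟨a, ha⟩)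
  refine le_antisymm (le_inf inf_le_left ?_) (le_inf inf_le_left (inf_le_right.trans ?_))
  · intro c hc
    have hcP : c ∈ centralizer (P : Set G) := mem_centralizer_iff.2 fun b hb => by
      obtain ⟨i, rfl⟩ := mem_zpowers_iff.1 (show b ∈ zpowers x from (zpowers_le.2 hz) hb)
      exact (Commute.zpow_left (mem_centralizer_singleton_iff.1 hc.2).symm i).eq
    exact (le_centralizer_iff.1 (le_centralizer_inter hG hM hH hp13 (hPP₀.trans hP₀M) hPc hNH
      hP₀p hP₀H)) ⟨hc.1, ((centralizer_le_normalizer _).trans hNH) hcP⟩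
  · exact fun c hc => mem_centralizer_singleton_iff.2 (mem_centralizer_iff.1 hc x hx).symm

end Cfsg.Agent.S1427
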