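import Cfsg.Statements.S1428
import Cfsg.Agent.Lib.BGPrimeTau1

set_option autoImplicit false
set_option linter.style.haveILetI false
open Cfsg

namespace Cfsg.Agent.S1428

open Subgroup
open Cfsg.Agent.BGUnique
open Cfsg.Agent.BGPrime
open scoped commutatorElement Pointwise

/-- Let G be a minimal simple group of odd order, M a maximal subgroup, E a complement to M_σ in M, p ∈ τ₁(M), P ≤ E a subgroup of order p, and R a subgroup of prime order of E ∩ C_G(P). Then M_σ ∩ C_G(P) ≤ M_σ ∩ C_G(R). -/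
theorem result {G : Type*} [Group G] [Finite G] (hG : Cfsg.IsMinSimpleOddOrder G)
    (M : Subgroup G) (hM : IsCoatom M) (E : Subgroup G) (hE : Cfsg.IsComplIn E (Cfsg.sigmaCore M) M) (p : ℕ) (hp : p ∈ Cfsg.tau1 M) (P : Subgroup G) (hPE : P ≤ E) (hP : Nat.card P = p)
    (R : Subgroup G) (hRE : R ≤ E ⊓ Subgroup.centralizer (P : Set G)) (hR : (Nat.card R).Prime) :
    Cfsg.sigmaCore M ⊓ Subgroup.centralizer (P : Set G) ≤ Cfsg.sigmaCore M ⊓ Subgroup.centralizer (R : Set G) := by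
  haveI := Fact.mk hp.1
  haveI := Fact.mk hR
  set r := Nat.card R with hr
  set C := Cfsg.sigmaCore M ⊓ centralizer (P : Set G) with hCdef
  refine le_inf inf_le_left ?_
  have hPM : P ≤ M := hPE.trans hE.1
  have hRM : R ≤ M := hRE.trans (inf_le_left.trans hE.1)
  have hRP : R ≤ centralizer (P : Set G) := hRE.trans inf_le_right
  by_cases hrp : r = p
  · have : R = P := eq_of_commute hp.2.2.2.2 hRM hPM hrp hP fun x hx y hy =>
      (mem_centralizer_iff.1 (hRP hx) y hy).symm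
    rw [this]
    exact inf_le_right
  have hrσ : r ∉ Cfsg.sigma M :=
    compl_not_sigma hG hM hE hR (card_dvd_of_le (hRE.trans inf_le_left))
  obtain ⟨H, hH, hN⟩ := exists_coatom_ge (BGSigma.normalizer_ne_top' hG (card_prime_ne_bot hP)
    fun h => hM.1 (top_le_iff.1 (h ▸ hPM)))
  have hp13 : p ∈ Cfsg.tau1 M ∪ Cfsg.tau3 M := Or.inl hp
  have hne := not_conj_of_normalizer hG hM hH hp13 hP hN
  have hneM : H ≠ M := fun h => hne 1 (by rw [h]; exact (BGTypeP.cj_one M).symm)
  have hPH : P ≤ H := le_normalizer.trans hN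
  have hRH : R ≤ H := hRP.trans ((centralizer_le_normalizer _).trans hN)
  have hDC : Cfsg.sigmaCore M ⊓ H = C := inter_eq_centralizer hG hM hH hp13 hPM hP hN
  have hCM : C ≤ M := inf_le_left.trans (sigmaCore_le M)
  have hCH : C ≤ H := hDC ▸ inf_le_right
  by_contra hnot
  have hRC : ¬ R ≤ centralizer (C : Set G) := fun h => hnot (le_centralizer_iff.1 h)
  have hRn : R ≤ normalizer (C : Set G) := by
    rw [← hDC]
    exact CoprimeAction.le_normalizer_inf (hRM.trans (le_normalizer_sigmaCore M))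
      (hRH.trans le_normalizer)
  have hpH : p ∈ Cfsg.sigma H := by
    refine mem_sigma_of_commutator hG hM hH hp13 hPM hP hN fun h => hRC ?_
    rw [← commutator_eq_bot_iff_le_centralizer, commutator_comm, ← le_bot_iff, ← h, hDC]
    exact commutator_mono le_rfl (le_inf hRM hRH)
  have hrH : r ∉ Cfsg.sigma H ∧ r ∉ Cfsg.tau3 H := by
    have h : r ∈ Cfsg.sigma H ∨ r ∈ Cfsg.tau3 H → False := fun h => hRC (by
      rw [← hDC]
      exact centralizes_of_le_commutator hG hH hM hne hrσ (isPGroup_card_prime hr.symm)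
        (le_inf hRM hRH) (le_commutator_of_sigma_tau3 hG hH h (isPGroup_card_prime hr.symm) hRH))
    exact ⟨fun h' => h (Or.inl h'), fun h' => h (Or.inr h')⟩
  -- a prime `q` where `R` acts nontrivially
  have hcop : (Nat.card R).Coprime (Nat.card C) := by
    refine hR.coprime_iff_not_dvd.2 fun hd => hrσ ?_
    exact piNat_sigmaCore M r hR (hd.trans (card_dvd_of_le inf_le_left))
  have hCs : Group.IsSolvable R ∨ Group.IsSolvable C :=
    Or.inl (CoprimeAction.isSolvable_of_isPGroup (isPGroup_card_prime hr.symm))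
  obtain ⟨q, hq, Q, hQp, hQC, hQR, hQnot⟩ : ∃ q : ℕ, q.Prime ∧ ∃ Q : Subgroup G, IsPGroup q Q ∧
      Q ≤ C ∧ R ≤ normalizer (Q : Set G) ∧ ¬ R ≤ centralizer (Q : Set G) := by
    by_contra hall
    refine hnot (le_of_qgroups fun q hq => ?_)
    haveI := Fact.mk hq
    obtain ⟨Q, hQ⟩ := CoprimeAction.exists_invariant_sylow hRn hcop hCs q
    refine ⟨_, map_subtype_le _, le_centralizer_iff.1 (by_contra fun h => hall ⟨q, hq, _,
      Q.isPGroup'.map _, map_subtype_le _, hQ, h⟩), ?_⟩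
    rw [card_map_of_injective C.subtype_injective]
    exact Q.card_eq_multiplicity
  haveI := Fact.mk hq
  have hQM : Q ≤ M := hQC.trans hCM
  have hQH : Q ≤ H := hQC.trans hCH
  have hQP : Q ≤ centralizer (P : Set G) := hQC.trans inf_le_right
  have hQab : IsMulCommutative Q := by
    by_contra hab
    exact hneM (eq_of_unique (S1422.result hG q Q hQp hab) hH hQH hM hQM)
  set Q₁ := ⁅Q, R⁆ with hQ₁
  have hQ₁Q : Q₁ ≤ Q := le_normalizer_iff_commutator_le_left.1 hQR
  have hQ₁ne : Q₁ ≠ ⊥ := fun h => hQnot (by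
    rw [← commutator_eq_bot_iff_le_centralizer, commutator_comm]; exact h)
  have hcopQ : (Nat.card R).Coprime (Nat.card Q) := hcop.coprime_dvd_right (card_dvd_of_le hQC)
  have hQ₁fix : Q₁ ⊓ centralizer (R : Set G) = ⊥ := by
    haveI := hQab
    rw [eq_bot_iff, ← CoprimeAction.inf_centralizer_inf_commutator_eq_bot hQR hcopQ]
    exact le_inf (le_inf (inf_le_left.trans hQ₁Q) inf_le_right) inf_le_left
  have hQ₁D : Q₁ ≤ ⁅H, H⁆ := commutator_mono hQH hRH
  have hqd : q ∣ Nat.card Q₁ := dvd_card_of_ne_bot (hQp.to_le hQ₁Q) hQ₁ne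
  obtain ⟨x, hx⟩ := exists_prime_orderOf_dvd_card' q hqd
  set X := zpowers (x : G) with hXdef
  have hX : Nat.card X = q := by rw [Nat.card_zpowers, orderOf_coe, hx]
  have hXQ₁ : X ≤ Q₁ := zpowers_le.2 x.2
  have hXC : X ≤ C := hXQ₁.trans (hQ₁Q.trans hQC)
  have hXM : X ≤ M := hXC.trans hCM
  have hXH : X ≤ H := hXC.trans hCH
  have hX1 := card_prime_ne_bot hX
  have hXp := isPGroup_card_prime hX
  have hqM : q ∈ Cfsg.sigma M :=
    piNat_sigmaCore M q hq (hX ▸ card_dvd_of_le (hXC.trans inf_le_left))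
  have hpq : p ≠ q := fun h => hp.2.1 (h ▸ hqM)
  have hqα : q ∉ Cfsg.alpha H := fun hα => by
    obtain ⟨g, hg⟩ := BGSigma.conj_of_alpha_inter_sigma hG hH hM hα hqM
    exact hne g⁻¹ (by rw [hg]; exact (BGTypeP.cj_inv_cj g H).symm)
  have hqb : q ∉ Cfsg.beta H := fun h => hqα h.1
  obtain ⟨T₀, hT₀, hPT₀⟩ := exists_isMaxP_ge (isPGroup_card_prime hP) hPH
  have hT₀1 : T₀ ≠ ⊥ := ne_bot_of_le_ne_bot (card_prime_ne_bot hP) hPT₀
  -- a Sylow subgroup for `p ∈ β(H)` centralizing `Q₁`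
  have hTQ : p ∈ Cfsg.beta H → Cfsg.PRankLE r 1 H →
      ∃ T : Subgroup G, IsMaxP p T H ∧ T ≤ centralizer (X : Set G) := by
    intro hpb hrank
    have hnQ : R ≤ normalizer (Q₁ : Set G) := normalizer_commutator_ge_right Q R
    have hWP : Q₁ ⊔ R ≤ centralizer (P : Set G) := sup_le (hQ₁Q.trans hQP) hRP
    obtain ⟨T, hT, hPT, hTα, hWT⟩ := exists_invariant_alpha_sylow hG hH hpb.1 hPH
      (isPGroup_card_prime hP) (sup_le (hQ₁Q.trans hQH) hRH) hWP (by
        intro s hs hd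
        have h1 : s ∣ Nat.card R * Nat.card Q₁ := by
          refine hd.trans ?_
          haveI : (Q₁.subgroupOf (Q₁ ⊔ R)).Normal :=
            (normal_subgroupOf_iff_le_normalizer le_sup_left).2 (sup_le le_normalizer hnQ)
          have h1 := HallCore.card_sup_dvd (R.subgroupOf (Q₁ ⊔ R)) (Q₁.subgroupOf (Q₁ ⊔ R))
          rwa [← subgroupOf_sup le_sup_right le_sup_left, sup_comm R Q₁, subgroupOf_self, card_top,
            Nat.card_congr (subgroupOfEquivOfLe (le_sup_left : Q₁ ≤ Q₁ ⊔ R)).toEquiv,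
            Nat.card_congr (subgroupOfEquivOfLe (le_sup_right : R ≤ Q₁ ⊔ R)).toEquiv] at h1
        rcases hs.dvd_mul.1 h1 with h | h
        · exact (Nat.prime_dvd_prime_iff_eq hs hR).1 h ▸
            fun hα => hrH.1 (BGSigma.alpha_subset hG hH hα)
        · exact BGSigma.piNat_of_isPGroup (π := {s | s ∉ Cfsg.alpha H}) (hQp.to_le hQ₁Q) hqα s hs h)
    refine ⟨T, hT, le_trans ?_ (centralizer_le (show (X : Set G) ⊆ Q₁ from hXQ₁))⟩
    refine le_centralizer_iff.1 (le_centralizer_alpha_sylow hG hH hrH.1 hrank hT hTα hPT hP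
      (PGroupsBasic.isMulCommutative_of_forall fun a ha b hb =>
        PGroupsBasic.comm_of_isMulCommutative hQab (hQ₁Q ha) (hQ₁Q hb))
      hr.symm hRH hnQ (fun t ht ht1 => ?_) (le_sup_left.trans hWT) (le_sup_right.trans hWT) ?_
      (fun h => hrp h.symm) (hQ₁Q.trans hQP) hRP)
    · rw [eq_bot_iff, ← hQ₁fix]
      refine le_inf inf_le_left fun y hy => mem_centralizer_iff.2 ?_
      have hgen : zpowers t = R := eq_of_le_of_card_ge (zpowers_le.2 ht) (by
        rw [Nat.card_zpowers]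
        rcases (Nat.dvd_prime hR).1 (R.orderOf_dvd_natCard ht) with h | h
        · exact absurd (orderOf_eq_one_iff.1 h) ht1
        · exact h.ge)
      rw [← hgen]
      rintro _ ⟨j, rfl⟩
      exact (Commute.zpow_left (mem_centralizer_singleton_iff.1 hy.2).symm j).eq
    · obtain ⟨j, hj⟩ := IsPGroup.iff_card.1 (hQp.to_le hQ₁Q)
      rw [hj]
      exact ((Nat.coprime_primes hq hp.1).2 hpq.symm).pow_left j
  by_cases hqH : q ∈ Cfsg.sigma H
  · -- `q ∈ σ(H)`
    have hnil : ¬ Group.IsNilpotent ↥(Cfsg.sigmaCore H) := fun h => by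
      obtain ⟨g, hg⟩ := BGSigma.conj_of_sigma_inter_of_nilpotent hG hH h hM hqH hqM
      exact hne g⁻¹ (by rw [hg]; exact (BGTypeP.cj_inv_cj g H).symm)
    obtain ⟨S₀, hS₀, hXS₀⟩ := exists_isMaxP_ge hXp hXH
    have hS₀top := BGSigma.isMaxP_top_of_sigma hqH hS₀
    obtain ⟨S, hS, hXS⟩ := exists_isMaxP_ge hXp hXM
    have hStop := BGSigma.isMaxP_top_of_sigma hqM hS
    by_cases hpb : p ∈ Cfsg.beta H
    swap
    · obtain ⟨g, -, hg⟩ := BGSigma.exists_conj_maxP hStop (le_top (a := S₀)) hS₀.isPGroup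
      have hgS : S₀ ≤ MulAut.conj g⁻¹ • M := by
        rw [map_inv]
        exact subset_pointwise_smul_iff.2 (by simpa using hg.trans hS.le)
      refine no_commuting_tau1 hG hH (tau1_conj g⁻¹ hp) hpq hpb hqb hS₀
        (BGSigma.le_commutator hG hH hqH hS₀) ?_ hT₀ (BGSigma.le_commutator hG hH hpH hT₀) hT₀1
      refine BGSigma.normalizer_le_of_sigma ?_ (isMaxP_mono hS₀top hgS le_top)
      exact (BGTypeP.sigma_cj g⁻¹ M).symm ▸ hqM
    have hrank : Cfsg.PRankLE r 1 H := by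
      by_contra hr1
      obtain ⟨A, hAH, hA, hAc⟩ := exists_sq_of_not_rank_one hr1
      exact hnil (S1417.result hG H hH r (mem_tau2_of_not_rank_one hG hH hrH.1 hr1) A
        ⟨hAH, hA, hAc⟩).1
    obtain ⟨T, hT, hTX⟩ := hTQ hpb hrank
    have hTu := BGSigma.unique_of_rank hG (fun h => hH.1 (top_le_iff.1 (h ▸ hT.le)))
      (BGSigma.pRankLE_of_isMaxP hT hpb.1.2)
    have hCX : centralizer (X : Set G) ≤ H :=
      le_of_unique hTu hH hT.le hTX (BGUnique.centralizer_subgroup_ne_top hG hX1)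
    have hSH : S ≤ H := by
      obtain ⟨g, -, hg⟩ := BGSigma.exists_conj_maxP hS₀top (le_top (a := S)) hS.isPGroup
      have hgH : MulAut.conj g • S ≤ H := hg.trans hS₀.le
      obtain ⟨h, hh, c, hc, rfl⟩ := BGSigma.fusion hG hH hqH hXp hX1 hXH
        ((pointwise_smul_le_pointwise_smul_iff.2 hXS).trans hgH)
      have hgmem : h * c ∈ H := H.mul_mem hh (hCX hc)
      intro y hy
      have h1 : (h * c) * y * (h * c)⁻¹ ∈ H := hgH ⟨y, hy, rfl⟩
      have h2 := H.mul_mem (H.mul_mem (H.inv_mem hgmem) h1) hgmem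
      simpa [mul_assoc] using h2
    set W := M ⊓ Cfsg.piCoreOf (Cfsg.beta H) H with hW
    have hPW : P ≤ W := le_inf hPM (BGTypeP.le_of_normal_hall (S1414.result hG H hH).1
      (BGSigma.le_normalizer_core _ H) hPH (BGSigma.piNat_of_isPGroup (isPGroup_card_prime hP) hpb))
    have hSW : S ≤ normalizer (W : Set G) := CoprimeAction.le_normalizer_inf
      (hS.le.trans le_normalizer) (hSH.trans (BGSigma.le_normalizer_core _ H))
    have hcopSW : (Nat.card S).Coprime (Nat.card W) := Nat.coprime_of_dvd fun s hs h1 h2 =>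
      BGSigma.piNat_of_isPGroup (π := {s | s ∉ Cfsg.beta H}) hS.isPGroup hqb s hs h1
        ((S1414.result hG H hH).1.2.1 s hs (h2.trans (card_dvd_of_le inf_le_right)))
    obtain ⟨TW, hTW⟩ := CoprimeAction.exists_invariant_sylow hSW hcopSW
      (Or.inl (CoprimeAction.isSolvable_of_isPGroup hS.isPGroup)) p
    set T₁ := (TW : Subgroup W).map W.subtype with hT₁
    have hT₁M : T₁ ≤ M := (map_subtype_le _).trans inf_le_left
    have hST₁ : S ≤ centralizer (T₁ : Set G) := normalizer_le_centralizer_of_tau1 hG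
      (TW.isPGroup'.map _) hT₁M hp.2.2.2.1 hS.le hTW
    have hpT₁ : p ∣ Nat.card T₁ := by
      rw [card_map_of_injective W.subtype_injective, TW.card_eq_multiplicity]
      refine dvd_pow_self p fun h => ?_
      have := (hp.1.dvd_iff_one_le_factorization Nat.card_pos.ne').1 (hP ▸ card_dvd_of_le hPW)
      omega
    obtain ⟨y, hy⟩ := exists_prime_orderOf_dvd_card' p hpT₁
    exact no_tau1_alpha_centralizing_sylow hG hH hM hne hqM hqH hS hSH hp hpb.1
      (P := zpowers (y : G)) (zpowers_le.2 (hT₁M y.2))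
      (by rw [Nat.card_zpowers, orderOf_coe, hy])
      ((zpowers_le.2 y.2).trans (le_centralizer_iff.1 hST₁))
  by_cases hqr : Cfsg.PRankLE q 1 H
  swap
  · exact not_tau2_case hG hM hH hp hPM hP hN hpH hX hXC hqH
      (mem_tau2_of_not_rank_one hG hH hqH hqr)
  have hq3 : q ∈ Cfsg.tau3 H := ⟨hq, hqH, hX ▸ card_dvd_of_le (hXQ₁.trans hQ₁D), hqr⟩
  by_cases hpb : p ∈ Cfsg.beta H
  swap
  · exact not_tau3_case hG hM hH hp hPM hP hN hpH hX hXC hqH hpb hq3
  have hrank : Cfsg.PRankLE r 1 H := by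
    by_contra hr1
    have hr2 := mem_tau2_of_not_rank_one hG hH hrH.1 hr1
    obtain ⟨EH, hEH, hWE⟩ := exists_compl_ge hG hH (A := X ⊔ R) (sup_le hXH hRH) (by
      intro s hs hd
      have h1 : s ∣ Nat.card Q * Nat.card R := by
        have hle : X ⊔ R ≤ Q ⊔ R := sup_le_sup_right (hXQ₁.trans hQ₁Q) R
        refine (hd.trans (card_dvd_of_le hle)).trans ?_
        haveI : (Q.subgroupOf (Q ⊔ R)).Normal :=
          (normal_subgroupOf_iff_le_normalizer le_sup_left).2 (sup_le le_normalizer hQR)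
        have h1 := HallCore.card_sup_dvd (R.subgroupOf (Q ⊔ R)) (Q.subgroupOf (Q ⊔ R))
        rw [← subgroupOf_sup le_sup_right le_sup_left, sup_comm R Q, subgroupOf_self, card_top,
          Nat.card_congr (subgroupOfEquivOfLe (le_sup_left : Q ≤ Q ⊔ R)).toEquiv,
          Nat.card_congr (subgroupOfEquivOfLe (le_sup_right : R ≤ Q ⊔ R)).toEquiv] at h1
        rwa [mul_comm] at h1
      rcases hs.dvd_mul.1 h1 with h | h
      · exact BGSigma.piNat_of_isPGroup (π := {s | s ∉ Cfsg.sigma H}) hQp hqH s hs h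
      · exact (Nat.prime_dvd_prime_iff_eq hs hR).1 h ▸ hrH.1)
    obtain ⟨A, hAE, hA, hAc⟩ := exists_sq_in_compl hG hH hEH hr2
    obtain ⟨⟨hEA, hAX⟩, -, -⟩ := S1418.result hG H hH EH hEH r hr2 A ⟨hAE, hA, hAc⟩
    have hRA : R ≤ A := hAX R (le_sup_right.trans hWE) hr.symm
    have hXE' : X ≤ ⁅EH, EH⁆ := by
      rw [← compl_inf_commutator (le_normalizer_sigmaCore H) hEH]
      exact le_inf (le_sup_left.trans hWE) (hXQ₁.trans hQ₁D)
    have hrq : r ≠ q := fun h => hrσ (h ▸ hqM)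
    refine hX1 (le_bot_iff.1 (hQ₁fix ▸ le_inf hXQ₁ fun z hz => mem_centralizer_iff.2 fun a ha => ?_))
    exact (commute_derived hG hrq (S1420.result hG H hH EH hEH).2.1 hA hAE hEA (hXE' hz)
      ((PGroupsBasic.isElementaryAbelian_of_card_eq_prime hX).2 z hz) (hRA ha)).symm.eq
  obtain ⟨T, hT, hTX⟩ := hTQ hpb hrank
  have hTu := BGSigma.unique_of_rank hG (fun h => hH.1 (top_le_iff.1 (h ▸ hT.le)))
    (BGSigma.pRankLE_of_isMaxP hT hpb.1.2)
  exact (S1409.result hG H hH q hqH X hX (le_of_unique hTu hH hT.le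
    (hTX.trans (centralizer_le_normalizer _))
    (BGSigma.normalizer_ne_top' hG hX1 fun h => hH.1 (top_le_iff.1 (h ▸ hXH))))).1.2 hqr

end Cfsg.Agent.S1428
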