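import Cfsg.Statements.S1443
import Cfsg.Agent.Lib.OddLocalBase

set_option autoImplicit false
open Cfsg
open scoped commutatorElement

namespace Cfsg.Agent.S1443

/-- Let G be a finite group, p an odd prime, H a p-subgroup, E an elementary abelian subgroup of H, and A a subgroup of order coprime to p normalizing H. If A centralizes every element of order p in H ∩ C_G(E), then A centralizes H. -/
theorem result {G : Type*} [Group G] [Finite G] (p : ℕ) [Fact p.Prime] (hp : p ≠ 2) (H E A : Subgroup G) (hH : IsPGroup p H) (hE : E ≤ H) (hEe : Cfsg.IsElementaryAbelian p E)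
    (hA : (A ≤ Subgroup.normalizer (H : Set G))) (hcop : (Nat.card A).Coprime p)
    (hfix : ∀ x ∈ (H ⊓ Subgroup.centralizer (E : Set G)), orderOf x = p → A ≤ Subgroup.centralizer ({x} : Set G)) :
    A ≤ Subgroup.centralizer (H : Set G) := by
  set C := H ⊓ Subgroup.centralizer (E : Set G) with hCd
  have hAE : A ≤ Subgroup.centralizer (E : Set G) := by
    intro a ha e he
    rcases eq_or_ne e 1 with rfl | he1
    · simp
    · have : e ∈ C := ⟨hE he, fun e' he' =>
        congrArg Subtype.val (hEe.1.is_comm.comm (⟨e', he'⟩ : E) ⟨e, he⟩)⟩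
      exact hfix e this (orderOf_eq_prime (hEe.2 e he) he1) ha e rfl
  have hAC : A ≤ Subgroup.normalizer (C : Set G) := by
    have hmem : ∀ b ∈ A, ∀ z ∈ C, b * z * b⁻¹ ∈ C := by
      intro b hb z hz
      refine ⟨OddLocalBase.conj_mem_of_le_normalizer hA hb hz.1, fun k hk => ?_⟩
      have h1 : Commute k z := hz.2 k hk
      have h2 : Commute k b := hAE hb k hk
      exact ((h2.mul_right h1).mul_right h2.inv_right).eq
    intro b hb
    rw [Subgroup.mem_normalizer_iff]
    intro z
    refine ⟨hmem b hb z, fun hz => ?_⟩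
    have := hmem b⁻¹ (A.inv_mem hb) _ hz
    simpa [mul_assoc] using this
  have hACC : A ≤ Subgroup.centralizer (C : Set G) :=
    OddLocalBase.centralizes_of_fix_prime_order p hp A hcop C (hH.to_le inf_le_left) hAC hfix
  have hcopH : (Nat.card A).Coprime (Nat.card H) := by
    obtain ⟨n, hn⟩ := IsPGroup.iff_card.1 hH
    rw [hn]; exact hcop.pow_right n
  refine OddLocalBase.le_centralizer_of_centralizer_le H A hH.isNilpotent hA hcopH ?_
  intro z hz
  have hz' : z ∈ C := ⟨hz.1, fun e he => hz.2 e ⟨hE he, fun a ha => (hAE ha e he).symm⟩⟩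
  exact ⟨hz.1, fun a ha => (hACC ha z hz').symm⟩

end Cfsg.Agent.S1443
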