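import Cfsg.Statements.S1462
import Cfsg.Agent.Lib.PLengthOne
import Cfsg.Agent.Lib.HallSolvable
import Cfsg.Agent.Lib.HallConstrained
import Cfsg.Agent.Lib.PGroupsBasic
import Cfsg.Agent.S1443

set_option autoImplicit false
open Cfsg
open scoped commutatorElement Pointwise

namespace Cfsg.Agent.S1462

/-- Let G be a finite solvable group, p an odd prime with G = O_{p',p,p'}(G), E an elementary abelian p-subgroup contained in no larger elementary abelian p-subgroup of G, and L a subgroup of order coprime to p normalized by E. Then L ≤ O_{p'}(G). -/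
theorem result {G : Type*} [Group G] [Finite G] [Group.IsSolvable G] (p : ℕ) [Fact p.Prime] (hp : p ≠ 2) (hpl : Cfsg.PLengthLE p 1 G) (E L : Subgroup G) (hE : Cfsg.IsElementaryAbelian p E)
    (hEmax : ∀ B : Subgroup G, Cfsg.IsElementaryAbelian p B → E ≤ B → B = E) (hL : (Nat.card L).Coprime p) (hEL : E ≤ Subgroup.normalizer (L : Set G)) :
    L ≤ Cfsg.pPrimeCore p G := by
  have hO := HallCore.pPrimeCore_normal p G
  set O := Cfsg.pPrimeCore p G
  set π := QuotientGroup.mk' O with hπ
  have hπs : Function.Surjective π := QuotientGroup.mk'_surjective O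
  set P := Cfsg.pCore p (G ⧸ O)
  have hPn : P.Normal := HallCore.pCore_normal p _
  have hPp : IsPGroup p P := HallCore.isPGroup_pCore p _
  have hEp : IsPGroup p E := fun e => ⟨1, Subtype.ext (by simpa using hE.2 e e.2)⟩
  obtain ⟨S, hES⟩ := hEp.exists_le_sylow
  have hC : Subgroup.centralizer (P : Set (G ⧸ O)) ≤ P :=
    HallConstrained.isPConstrained_iff.1
      (HallSolvable.isPConstrained_of_isPSolvable (HallSolvable.isPSolvable_of_solvable p))
  have hEP : E.map π ≤ P := Subgroup.map_le_iff_le_comap.2 (PLengthOne.le_pPrimePCore hpl hEp)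
  have hcop : (Nat.card (L.map π)).Coprime p :=
    Nat.Coprime.coprime_dvd_left (Subgroup.card_map_dvd _ _) hL
  have hinf : L.map π ⊓ P = ⊥ := by
    obtain ⟨n, hn⟩ := IsPGroup.iff_card.1 hPp
    rw [← Subgroup.card_eq_one]
    exact Nat.eq_one_of_dvd_coprimes (hcop.pow_right n) (Subgroup.card_dvd_of_le inf_le_left)
      (hn ▸ Subgroup.card_dvd_of_le inf_le_right)
  have hfixE : ∀ e ∈ E.map π, ∀ l ∈ L.map π, e * l = l * e := by
    rintro _ ⟨e, he, rfl⟩ _ ⟨l, hl, rfl⟩
    have h1 : ⁅π e, π l⁆ ∈ L.map π := by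
      refine ⟨⁅e, l⁆, ?_, map_commutatorElement π e l⟩
      rw [commutatorElement_def]
      exact L.mul_mem ((Subgroup.mem_normalizer_iff.1 (hEL he) l).1 hl) (L.inv_mem hl)
    have h2 : ⁅π e, π l⁆ ∈ P := by
      have heP : π e ∈ P := hEP ⟨e, he, rfl⟩
      rw [commutatorElement_def, mul_assoc (π e), mul_assoc (π e)]
      exact P.mul_mem heP (hPn.conj_mem _ (P.inv_mem heP) _)
    have : ⁅π e, π l⁆ ∈ L.map π ⊓ P := ⟨h1, h2⟩
    rwa [hinf, Subgroup.mem_bot, commutatorElement_eq_one_iff_mul_comm] at this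
  have hLP : L.map π ≤ Subgroup.centralizer (P : Set (G ⧸ O)) := by
    refine Cfsg.Agent.S1443.result p hp P (E.map π) (L.map π) hPp hEP ?_ ?_ hcop ?_
    · refine ⟨⟨⟨?_⟩⟩, ?_⟩
      · rintro ⟨_, x, hx, rfl⟩ ⟨_, y, hy, rfl⟩
        refine Subtype.ext ?_
        show π x * π y = π y * π x
        rw [← map_mul, ← map_mul]
        exact congrArg π (congrArg Subtype.val (hE.1.is_comm.comm (⟨x, hx⟩ : E) ⟨y, hy⟩))
      · rintro _ ⟨x, hx, rfl⟩
        rw [← map_pow, hE.2 x hx, map_one]
    · rw [Subgroup.normalizer_eq_top]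
      exact le_top
    · rintro z ⟨hzP, hzC⟩ hzp l hl y hy
      rw [Set.mem_singleton_iff] at hy
      subst hy
      suffices y ∈ E.map π from hfixE y this l hl
      obtain ⟨x, rfl⟩ := hπs y
      have hxU : x ∈ Cfsg.pPrimePCore p G := hzP
      rw [← PLengthOne.sylow_sup_eq hpl S] at hxU
      obtain ⟨s, hs, o, ho, rfl⟩ := Subgroup.mem_sup_of_normal_right.1 hxU
      have hπso : π (s * o) = π s := by
        rw [map_mul, show π o = 1 from (QuotientGroup.eq_one_iff o).2 ho, mul_one]
      rw [hπso] at hzC hzp ⊢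
      have hker : ∀ u ∈ (S : Subgroup G), π u = 1 → u = 1 := fun u hu h =>
        PLengthOne.eq_one_of_mem_of_mem S.isPGroup' hu ((QuotientGroup.eq_one_iff u).1 h)
      have hsp : s ^ p = 1 := hker _ (Subgroup.pow_mem _ hs p) (by
        rw [map_pow, ← hzp, pow_orderOf_eq_one])
      have hsE : ∀ e ∈ E, Commute e s := fun e he => by
        refine commutatorElement_eq_one_iff_mul_comm.1 (hker _ ?_ ?_)
        · rw [commutatorElement_def]
          exact Subgroup.mul_mem _ (Subgroup.mul_mem _ (Subgroup.mul_mem _ (hES he) hs)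
            (Subgroup.inv_mem _ (hES he))) (Subgroup.inv_mem _ hs)
        · rw [map_commutatorElement, commutatorElement_eq_one_iff_mul_comm]
          exact hzC (π e) ⟨e, he, rfl⟩
      have hB : Cfsg.IsElementaryAbelian p (E ⊔ Subgroup.zpowers s) :=
        PGroupsBasic.isElementaryAbelian_sup hE (PGroupsBasic.isElementaryAbelian_zpowers hsp)
          (fun a ha b hb => by
            obtain ⟨m, rfl⟩ := Subgroup.mem_zpowers_iff.1 hb
            exact ((hsE a ha).zpow_right m).symm.eq)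
      exact ⟨s, hEmax _ hB le_sup_left ▸ Subgroup.mem_sup_right (Subgroup.mem_zpowers s), rfl⟩
  intro l hl
  rw [← QuotientGroup.eq_one_iff]
  have h1 : π l ∈ L.map π ⊓ P := ⟨⟨l, hl, rfl⟩, hC (hLP ⟨l, hl, rfl⟩)⟩
  rwa [hinf, Subgroup.mem_bot] at h1

end Cfsg.Agent.S1462
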