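import Cfsg.Statements.S1439
import Mathlib
import Cfsg.Agent.Lib.BGFinalBasic72
import Cfsg.Agent.Lib.BGTypeBasic
import Cfsg.Agent.Lib.BGFittingUnique
import Cfsg.Agent.Lib.BGSigmaCore
import Cfsg.Agent.Lib.BGSigmaBasic
import Cfsg.Agent.Lib.BGSigmaDisjoint
import Cfsg.Agent.S1350
import Cfsg.Agent.S1351
import Cfsg.Agent.S1417
import Cfsg.Agent.S1420
import Cfsg.Agent.S1430
import Cfsg.Agent.S1431

set_option autoImplicit false
open Cfsg

namespace Cfsg.Agent.S1439

open Subgroup Cfsg.Agent.HallCore Cfsg.Agent.BGUnique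

/-- Let G be a minimal simple group of odd order and M a maximal subgroup, and let Y be the largest normal subgroup of F(M) involving no prime of σ(M). Then Y is cyclic, every prime divisor of its order lies in τ₂(M), and F(M) is generated by F(M_σ) and Y (a direct product, the orders being coprime). -/
theorem result {G : Type*} [Group G] [Finite G] (hG : Cfsg.IsMinSimpleOddOrder G)
    (M : Subgroup G) (hM : IsCoatom M) :
    IsCyclic ↥(Cfsg.piCoreOf {q | q.Prime ∧ q ∉ Cfsg.sigma M} (Cfsg.fittingOf M)) ∧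
      (∀ p : ℕ, p.Prime → p ∣ Nat.card ↥(Cfsg.piCoreOf {q | q.Prime ∧ q ∉ Cfsg.sigma M} (Cfsg.fittingOf M)) → p ∈ Cfsg.tau2 M) ∧
      Cfsg.fittingOf M = Cfsg.fittingOf (Cfsg.sigmaCore M) ⊔ Cfsg.piCoreOf {q | q.Prime ∧ q ∉ Cfsg.sigma M} (Cfsg.fittingOf M) := by
  set π := {q | q.Prime ∧ q ∉ Cfsg.sigma M} with hπ
  set F := Cfsg.fittingOf M with hF
  set Y := Cfsg.piCoreOf π F with hY
  set S := Cfsg.sigmaCore M with hS
  have hσ := (S1350.result hG M hM).1
  haveI hFn : Group.IsNilpotent F := FittingHallBasic.fittingOf_isNilpotent M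
  have hYF : Y ≤ F := BGTransitivity.piCoreOf_le π F
  have hFM : F ≤ M := FittingHallBasic.fittingOf_le M
  have hSM : S ≤ M := BGFinal72.sigmaCore_le M
  have hFn' : M ≤ normalizer (F : Set G) := le_normalizer.trans (BGFittingUnique.normalizer_le_fittingOf M)
  have hYn : M ≤ normalizer (Y : Set G) := BGTransitivity.le_normalizer_piCoreOf π hFn'
  have hSn := BGFinal72.le_normalizer_sigmaCore M
  have hYπ : PiNat π (Nat.card Y) := BGTransitivity.piNat_card_piCoreOf π F
  have hYS : Y ⊓ S = ⊥ := inf_eq_bot_of_coprime (Nat.coprime_of_dvd fun r hr h1 h2 =>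
    (hYπ r hr h1).2 (BGFinal72.piNat_sigmaCore M r hr h2))
  have hcomm : ∀ y ∈ Y, ∀ s ∈ S, Commute y s := by
    intro y hy s hs
    have h1 : y * s * y⁻¹ * s⁻¹ ∈ Y ⊓ S :=
      ⟨(by
        have h2 := Y.mul_mem hy ((mem_normalizer_iff.1 (hYn (hSM hs)) y⁻¹).1 (Y.inv_mem hy))
        simpa [mul_assoc] using h2),
       S.mul_mem ((mem_normalizer_iff.1 (hSn (hFM (hYF hy))) s).1 hs) (S.inv_mem hs)⟩
    rw [hYS, mem_bot] at h1
    exact mul_inv_eq_iff_eq_mul.1 (mul_inv_eq_one.1 h1)
  obtain ⟨s, hs, hs1⟩ := S.bot_or_exists_ne_one.resolve_left (BGSigma.sigmaCore_ne_bot hG hM)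
  have htau : ∀ p : ℕ, p.Prime → p ∣ Nat.card Y → p ∈ Cfsg.tau2 M := by
    intro p hp hd
    haveI := Fact.mk hp
    obtain ⟨⟨y, hy⟩, hyp⟩ := exists_prime_orderOf_dvd_card' (G := Y) p hd
    rw [orderOf_mk] at hyp
    have hyM : y ∈ M := hFM (hYF hy)
    refine BGFinal72.mem_tau2_of_fixed hG hM hp (hYπ p hp hd).2 (fun hκ => ?_) hyM hyp hs hs1
      (hcomm y hy s hs).eq
    obtain ⟨⟨K, hK⟩, -⟩ := S1351.result hG M hM
    have hK1 : K ≠ ⊥ := fun h => hK.2.2 p hp hκ (by rw [h, relIndex_bot_left]; exact hκ.2.1)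
    obtain ⟨m, hm, hk⟩ := BGTypeBasic.exists_conj_mem_of_not_dvd_relIndex (W := K)
      (hK.2.2 p hp hκ) hyM (IsPGroup.of_card (n := 1) (by rw [Nat.card_zpowers, hyp, pow_one]))
    have hkY : m⁻¹ * y * m ∈ Y := by
      have h2 := (mem_normalizer_iff.1 (hYn (M.inv_mem hm)) y).1 hy
      rwa [inv_inv] at h2
    have hk1 : m⁻¹ * y * m ≠ 1 := by
      intro h
      apply hp.ne_one
      rw [← hyp, orderOf_eq_one_iff]
      calc y = m * (m⁻¹ * y * m) * m⁻¹ := by group
        _ = 1 := by rw [h]; group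
    have hSK : S ≤ S ⊓ centralizer (K : Set G) := by
      rw [← (S1430.result hG M hM K hK hK1).1 _ hk hk1]
      exact fun t ht => ⟨ht, mem_centralizer_singleton_iff.2 (hcomm _ hkY t ht).eq.symm⟩
    have hne : Nat.card S ≠ 1 := fun h => hs1 (by rw [eq_bot_of_card_eq S h] at hs; exact mem_bot.1 hs)
    obtain ⟨r, hr, hrd⟩ := Nat.exists_prime_and_dvd hne
    haveI := Fact.mk hr
    exact ((S1431.result hG M hM K hK hK1).2.2.1 r hr (hrd.trans (card_dvd_of_le hSK))
      (default : Sylow r ↥S)).2.2 ((map_subtype_le _).trans hSK)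
  refine ⟨?_, htau, ?_⟩
  · obtain ⟨E, -, hE⟩ := BGFinal72.exists_complIn hσ.1 hSn (BGFinal72.coprime_relIndex_of_hall hσ)
    haveI : Group.IsNilpotent Y := ComponentsCores.nilpotent_of_le hYF hFn
    have hYc := (S1420.result hG M hM E hE).1 Y (hYF.trans hFM) inferInstance
      (fun p hp hd => (hYπ p hp hd).2)
    haveI : IsZGroup Y := ⟨fun p hp P => by
      haveI := Fact.mk hp
      by_contra hnc
      have e := (P : Subgroup Y).equivMapOfInjective _ Y.subtype_injective
      obtain ⟨A, hA, hAe, hAc⟩ := exists_elementary_sq_of_noncyclic hG (P.isPGroup'.map Y.subtype)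
        (fun h => hnc (e.isCyclic.2 h))
      have hAY : A ≤ Y := hA.trans (map_subtype_le _)
      have hpY : p ∣ Nat.card Y :=
        (by rw [hAc]; exact dvd_pow_self p two_ne_zero : p ∣ Nat.card A).trans (card_dvd_of_le hAY)
      obtain ⟨-, -, -, hbot, -, -⟩ := S1417.result hG M hM p (htau p hp hpY) A
        ⟨hAY.trans (hYF.trans hFM), hAe, hAc⟩
      refine hs1 (mem_bot.1 (hbot ▸ (⟨hs, mem_centralizer_iff.2 fun a ha => ?_⟩ :
        s ∈ S ⊓ centralizer (A : Set G))))
      exact (hcomm a (hAY ha) s hs).eq⟩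
    exact inferInstance
  · have hFS := BGFittingUnique.normalizer_le_fittingOf S
    refine le_antisymm (le_of_qgroups fun q hq => ?_) (sup_le ?_ hYF)
    · haveI := Fact.mk hq
      obtain ⟨T⟩ : Nonempty (Sylow q F) := inferInstance
      have hTn : (T : Subgroup F).Normal :=
        Sylow.normal_of_normalizerCondition Group.normalizerCondition_of_isNilpotent T
      haveI := Sylow.characteristic_of_normal T hTn
      refine ⟨(T : Subgroup F).map F.subtype, map_subtype_le _, ?_, by
        rw [card_map_of_injective F.subtype_injective, T.card_eq_multiplicity]⟩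
      have hTM : M ≤ normalizer (((T : Subgroup F).map F.subtype : Subgroup G) : Set G) :=
        hFn'.trans (ComponentsCores.normalizer_le_normalizer_map_subtype F _)
      have hTq : IsPGroup q ((T : Subgroup F).map F.subtype) := T.isPGroup'.map _
      by_cases hqs : q ∈ Cfsg.sigma M
      · refine le_trans ?_ le_sup_left
        have hTS : (T : Subgroup F).map F.subtype ≤ S :=
          BGTransitivity.le_piCoreOf ((map_subtype_le _).trans hFM) hTM (BGSigma.piNat_of_isPGroup hTq hqs)
        haveI := normal_subgroupOf_of_le_normalizer (hSM.trans hTM)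
        exact fun t ht => ⟨⟨t, hTS ht⟩, ComponentsCores.le_fitting
          (N := ((T : Subgroup F).map F.subtype).subgroupOf S)
          ((hTq.comap_of_injective S.subtype S.subtype_injective).isNilpotent) ht, rfl⟩
      · exact le_trans (BGTransitivity.le_piCoreOf (map_subtype_le _)
          ((le_normalizer (H := F)).trans (ComponentsCores.normalizer_le_normalizer_map_subtype F _))
          (BGSigma.piNat_of_isPGroup (π := π) hTq (show q ∈ π from ⟨hq, hqs⟩))) le_sup_right
    · haveI := normal_subgroupOf_of_le_normalizer (hSn.trans hFS)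
      haveI := FittingHallBasic.fittingOf_isNilpotent S
      exact fun t ht => ⟨⟨t, hSM (FittingHallBasic.fittingOf_le S ht)⟩, ComponentsCores.le_fitting
        (N := (Cfsg.fittingOf S).subgroupOf M)
        (Group.nilpotent_of_mulEquiv (subgroupOfEquivOfLe ((FittingHallBasic.fittingOf_le S).trans hSM)).symm) ht, rfl⟩

end Cfsg.Agent.S1439
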