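import Cfsg.Statements.S0738
import Cfsg.Agent.Lib.Zassenhaus
import Cfsg.Agent.Lib.FrobeniusBasic
-- import your own Cfsg.Agent.* helpers here

set_option autoImplicit false
open Cfsg

namespace Cfsg.Agent.S0738

/-- Let a finite Zassenhaus group of degree `n + 1` have two-point stabilisers of order `d` with `2d ≥ n - 1`. Then a normal subgroup of a point stabiliser acting regularly on the remaining points is elementary abelian, and the degree is a prime power plus one. -/
theorem result {G Ω : Type*} [Group G] [Finite G] [MulAction G Ω] [Fintype Ω] (hZ : Cfsg.IsZassenhausGroup G Ω) {a b : Ω} (hab : a ≠ b) (hd : Fintype.card Ω - 2 ≤ 2 * Nat.card ↥(MulAction.stabilizer G a ⊓ MulAction.stabilizer G b)) (F : Subgroup G) (hFle : F ≤ MulAction.stabilizer G a) (hFn : (F.subgroupOf (MulAction.stabilizer G a)).Normal) (hreg : ∀ y z : Ω, y ≠ a → z ≠ a → ∃! u : F, (u : G) • y = z) : IsMulCommutative F ∧ ∃ p f : ℕ, p.Prime ∧ (∀ u ∈ F, u ^ p = 1) ∧ Fintype.card Ω = p ^ f + 1 := by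
  classical
  set H := MulAction.stabilizer G a ⊓ MulAction.stabilizer G b
  set d := Nat.card H
  have hFa : ∀ u ∈ F, u • a = a := fun u hu => hFle hu
  have hfree : ∀ u ∈ F, ∀ y, y ≠ a → u • y = y → u = 1 := by
    intro u hu y hy h
    obtain ⟨w, -, hw⟩ := hreg y y hy hy
    have e1 := hw ⟨u, hu⟩ h
    have e2 := hw 1 (by simp)
    exact congrArg Subtype.val (e1.trans e2.symm)
  have hn : Nat.card F = Fintype.card Ω - 1 := by
    have e : Nat.card F = Nat.card {y : Ω // y ≠ a} := by
      refine Nat.card_congr (Equiv.ofBijective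
        (fun u : F => (⟨(u : G) • b, fun h => hab (smul_left_cancel (u : G)
          ((hFa u u.2).trans h.symm))⟩ : {y : Ω // y ≠ a})) ⟨?_, ?_⟩)
      · intro u v e
        obtain ⟨w, -, hw⟩ := hreg b ((u : G) • b) hab.symm
          fun h => hab (smul_left_cancel (u : G) ((hFa u u.2).trans h.symm))
        exact (hw u rfl).trans (hw v (congrArg Subtype.val e).symm).symm
      · rintro ⟨y, hy⟩
        obtain ⟨u, hu, -⟩ := hreg b y hab.symm hy
        exact ⟨u, Subtype.ext hu⟩
    rw [e]
    simp [Nat.card_eq_fintype_card]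
  have hconj : ∀ h ∈ H, ∀ u ∈ F, h * u * h⁻¹ ∈ F := by
    intro h hh u hu
    have := hFn.conj_mem ⟨u, hFle hu⟩ (by rwa [Subgroup.mem_subgroupOf]) ⟨h, hh.1⟩
    simpa [Subgroup.mem_subgroupOf] using this
  -- `H` permutes every invariant set of non-trivial elements freely
  have hdvd : ∀ S : Set G, S ⊆ F → (1 : G) ∉ S → (∀ h ∈ H, ∀ u ∈ S, h * u * h⁻¹ ∈ S) →
      d ∣ S.ncard := by
    intro S hSF h1 hinv
    let _ : MulAction H S :=
      { smul := fun h u => ⟨(h : G) * u * (h : G)⁻¹, hinv h h.2 u u.2⟩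
        one_smul := fun u => Subtype.ext (show ((1 : H) : G) * u * ((1 : H) : G)⁻¹ = u by simp)
        mul_smul := fun x y u => Subtype.ext (show ((x * y : H) : G) * u * ((x * y : H) : G)⁻¹ =
          (x : G) * ((y : G) * u * (y : G)⁻¹) * (x : G)⁻¹ by simp [mul_assoc]) }
    rw [← Nat.card_coe_set_eq]
    refine FrobeniusBasic.card_dvd_of_free fun h u e => ?_
    have e' : (h : G) * u * (h : G)⁻¹ = u := congrArg Subtype.val e
    have hu : (u : G) ∈ F := hSF u.2
    have hu1 : (u : G) • b ≠ b := fun hb => h1 (hfree u hu b hab.symm hb ▸ u.2)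
    have hua : (u : G) • b ≠ a := fun hb => hab (smul_left_cancel (u : G) ((hFa u hu).trans hb.symm))
    have hh : (h : G) • (u : G) • b = (u : G) • b := by
      conv_lhs => rw [← mul_smul, show (h : G) * u = u * h from mul_inv_eq_iff_eq_mul.1 e']
      rw [mul_smul, h.2.2]
    exact Subtype.ext (Zassenhaus.three hZ hab hu1.symm hua.symm h.2.1 h.2.2 hh)
  have hd0 : 0 < d := Nat.card_pos
  have hΩ : 3 ≤ Fintype.card Ω := by
    obtain ⟨x, y, z, h1, h2, h3⟩ := Zassenhaus.exists_triple hZ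
    have : ({x, y, z} : Finset Ω).card = 3 := by simp [h1, h2, h3]
    exact this ▸ Finset.card_le_univ _
  have hncard : (F : Set G).ncard = Nat.card F := (Nat.card_coe_set_eq _).symm
  have hdn : d ∣ Nat.card F - 1 := by
    have h := hdvd ((F : Set G) \ {1}) Set.sdiff_subset (by simp) fun h hh u hu =>
      ⟨hconj h hh u hu.1, fun e => hu.2 (by simpa using e)⟩
    rwa [Set.ncard_sdiff_singleton_of_mem F.one_mem, hncard] at h
  -- invariant subgroups
  have hmin : ∀ S : Subgroup G, S ≤ F → S ≠ ⊥ → (∀ h ∈ H, ∀ u ∈ S, h * u * h⁻¹ ∈ S) → S = F := by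
    intro S hSF hS hinv
    by_contra hne
    have hSc : (S : Set G).ncard = Nat.card S := (Nat.card_coe_set_eq _).symm
    have h1 := hdvd ((S : Set G) \ {1}) (Set.sdiff_subset.trans hSF) (by simp) fun h hh u hu =>
      ⟨hinv h hh u hu.1, fun e => hu.2 (by simpa using e)⟩
    have h2 := hdvd ((F : Set G) \ S) Set.sdiff_subset (fun h => h.2 S.one_mem)
      fun h hh u hu => ⟨hconj h hh u hu.1, fun e => hu.2 (by
        simpa [mul_assoc] using hinv h⁻¹ (H.inv_mem hh) _ e)⟩
    rw [Set.ncard_sdiff_singleton_of_mem S.one_mem, hSc] at h1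
    rw [Set.ncard_sdiff hSF, hncard, hSc] at h2
    have hS1 : 1 < Nat.card S := S.one_lt_card_iff_ne_bot.2 hS
    have hlt : Nat.card S < Nat.card F := by
      refine lt_of_le_of_ne (Subgroup.card_le_of_le hSF) fun e => hne ?_
      exact Subgroup.eq_of_le_of_card_ge hSF e.ge
    have h1' := Nat.le_of_dvd (by omega) h1
    have h2' := Nat.le_of_dvd (by omega) h2
    have h3 := Subgroup.card_dvd_of_le hSF
    have e1 : Nat.card S = d + 1 := by omega
    have e2 : Nat.card F = 2 * d + 1 := by omega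
    rw [e1, e2] at h3
    obtain ⟨c, hc⟩ := h3
    rcases c with _ | _ | c
    · omega
    · omega
    · nlinarith
  haveI : Finite F := inferInstance
  -- prime power order
  obtain ⟨p, hp, hpF⟩ := Nat.exists_prime_and_dvd (n := Nat.card F) (by omega)
  haveI := Fact.mk hp
  have hpg : IsPGroup p F := by
    by_contra hnp
    obtain ⟨q, hq, hqF, hqp⟩ : ∃ q : ℕ, q.Prime ∧ q ∣ Nat.card F ∧ q ≠ p := by
      by_contra hc
      push Not at hc
      apply hnp
      exact IsPGroup.of_card (Nat.eq_prime_pow_of_unique_prime_dvd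
        Nat.card_pos.ne' fun {q} hq hqd => hc q hq hqd) 
    haveI := Fact.mk hq
    have hset : ∀ r : ℕ, r.Prime → r ∣ Nat.card F →
        d ≤ {u : G | u ∈ F ∧ orderOf u = r}.ncard ∧ d ∣ {u : G | u ∈ F ∧ orderOf u = r}.ncard := by
      intro r hr hrF
      haveI := Fact.mk hr
      have h := hdvd {u : G | u ∈ F ∧ orderOf u = r} (fun u hu => hu.1)
        (fun h => hr.ne_one (h.2.symm.trans orderOf_one)) fun h hh u hu => ⟨hconj h hh u hu.1, by
          rw [← hu.2]
          exact orderOf_injective (MulAut.conj h).toMonoidHom (MulAut.conj h).injective u⟩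
      refine ⟨Nat.le_of_dvd ?_ h, h⟩
      obtain ⟨⟨x, hx⟩, hxr⟩ := exists_prime_orderOf_dvd_card' r hrF
      exact (Set.ncard_pos).2 ⟨x, hx, by rwa [Subgroup.orderOf_mk] at hxr⟩
    have hsub : {u : G | u ∈ F ∧ orderOf u = p} ∪ {u : G | u ∈ F ∧ orderOf u = q} ⊆
        (F : Set G) \ {1} := by
      rintro u (⟨hu, ho⟩ | ⟨hu, ho⟩) <;> refine ⟨hu, fun e => ?_⟩ <;>
        rw [Set.mem_singleton_iff] at e <;> subst e
      · exact hp.ne_one (ho.symm.trans orderOf_one)
      · exact hq.ne_one (ho.symm.trans orderOf_one)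
    have hdisj : Disjoint {u : G | u ∈ F ∧ orderOf u = p} {u : G | u ∈ F ∧ orderOf u = q} :=
      Set.disjoint_left.2 fun u hu hu' => hqp (hu'.2.symm.trans hu.2)
    have hle := Set.ncard_le_ncard hsub
    rw [Set.ncard_union_eq hdisj, Set.ncard_sdiff_singleton_of_mem F.one_mem, hncard] at hle
    have hP := hset p hp hpF
    have hQ := hset q hq hqF
    have hall : {u : G | u ∈ F ∧ orderOf u = p} ∪ {u : G | u ∈ F ∧ orderOf u = q} =
        (F : Set G) \ {1} := by
      refine Set.eq_of_subset_of_ncard_le hsub ?_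
      rw [Set.ncard_union_eq hdisj, Set.ncard_sdiff_singleton_of_mem F.one_mem, hncard]
      omega
    obtain ⟨⟨v, hv⟩, hvq⟩ := exists_prime_orderOf_dvd_card' q hqF
    rw [Subgroup.orderOf_mk] at hvq
    -- `v` permutes the elements of order `p` freely
    have hcard : {u : G | u ∈ F ∧ orderOf u = p}.ncard = d := by omega
    let _ : MulAction (Subgroup.zpowers v) {u : G | u ∈ F ∧ orderOf u = p} :=
      { smul := fun h u => ⟨(h : G) * u * (h : G)⁻¹, F.mul_mem (F.mul_mem
          (Subgroup.zpowers_le.2 hv h.2) u.2.1) (F.inv_mem (Subgroup.zpowers_le.2 hv h.2)),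
          (orderOf_injective (MulAut.conj (h : G)).toMonoidHom
            (MulAut.conj (h : G)).injective (u : G)).trans u.2.2⟩
        one_smul := fun u => Subtype.ext (show ((1 : Subgroup.zpowers v) : G) * u *
          ((1 : Subgroup.zpowers v) : G)⁻¹ = u by simp)
        mul_smul := fun x y u => Subtype.ext (show ((x * y : Subgroup.zpowers v) : G) * u *
          ((x * y : Subgroup.zpowers v) : G)⁻¹ =
          (x : G) * ((y : G) * u * (y : G)⁻¹) * (x : G)⁻¹ by simp [mul_assoc]) }
    have hv' := FrobeniusBasic.card_dvd_of_free (M := Subgroup.zpowers v)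
      (α := {u : G | u ∈ F ∧ orderOf u = p}) fun h u e => by
        have e' : (h : G) * u * (h : G)⁻¹ = u := congrArg Subtype.val e
        by_contra hh
        have hhv : orderOf (h : G) = q := by
          have : orderOf (h : G) ∣ q := hvq ▸ orderOf_dvd_of_mem_zpowers h.2
          exact ((Nat.dvd_prime hq).1 this).resolve_left
            fun h1 => hh (Subtype.ext (orderOf_eq_one_iff.1 h1))
        have hc : Commute (h : G) u := mul_inv_eq_iff_eq_mul.1 e'
        have hord := hc.orderOf_mul_eq_mul_orderOf_of_coprime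
          (by rw [hhv, u.2.2]; exact (Nat.coprime_primes hq hp).2 hqp)
        rw [hhv, u.2.2] at hord
        have hmem : (h : G) * u ∈ (F : Set G) \ {1} := by
          refine ⟨F.mul_mem (Subgroup.zpowers_le.2 hv h.2) u.2.1, fun e1 => ?_⟩
          rw [Set.mem_singleton_iff] at e1
          rw [e1, orderOf_one] at hord
          exact hq.ne_one (Nat.eq_one_of_dvd_one ⟨p, hord⟩)
        rw [← hall] at hmem
        rcases hmem with ⟨-, h2⟩ | ⟨-, h2⟩ <;> rw [hord] at h2
        · exact hq.ne_one (mul_eq_right₀ hp.ne_zero |>.1 h2)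
        · exact hp.ne_one (mul_eq_left₀ hq.ne_zero |>.1 h2)
    rw [Nat.card_zpowers, hvq, Nat.card_coe_set_eq, hcard] at hv'
    exact hq.not_dvd_one ((Nat.dvd_sub_iff_right (by omega) hqF).1 (hv'.trans hdn))
  haveI : Nontrivial F := by
    rw [← Finite.one_lt_card_iff_nontrivial]
    omega
  -- abelian
  have hcomm : IsMulCommutative F := by
    set Z := (Subgroup.center F).map F.subtype
    have hZ0 : Z ≠ ⊥ := by
      haveI := hpg.center_nontrivial
      rw [Ne, Subgroup.map_eq_bot_iff_of_injective _ F.subtype_injective]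
      exact (Subgroup.nontrivial_iff_ne_bot _).1 inferInstance
    have hZF := hmin Z (Subgroup.map_subtype_le _) hZ0 (by
      rintro h hh _ ⟨z, hz, rfl⟩
      refine ⟨⟨h * z * h⁻¹, hconj h hh z z.2⟩, ?_, rfl⟩
      rw [SetLike.mem_coe, Subgroup.mem_center_iff] at hz ⊢
      intro u
      have hu := hz ⟨h⁻¹ * u * h, by simpa using hconj h⁻¹ (H.inv_mem hh) u u.2⟩
      have hu' : h⁻¹ * (u : G) * h * z = (z : G) * (h⁻¹ * u * h) := congrArg Subtype.val hu
      refine Subtype.ext ?_
      show (u : G) * (h * z * h⁻¹) = h * z * h⁻¹ * u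
      calc (u : G) * (h * z * h⁻¹) = h * (h⁻¹ * u * h * z) * h⁻¹ := by group
        _ = _ := by rw [hu']; group)
    refine ⟨⟨fun x y => ?_⟩⟩
    have hx : (x : G) ∈ Z := by rw [hZF]; exact x.2
    obtain ⟨z, hz, e⟩ := hx
    have e' : z = x := F.subtype_injective e
    rw [← e']
    exact ((Subgroup.mem_center_iff.1 hz) y).symm
  obtain ⟨f, hf⟩ := IsPGroup.iff_card.1 hpg
  refine ⟨hcomm, p, f, hp, ?_, by omega⟩
  -- exponent p
  let S : Subgroup G :=
    { carrier := {u | u ∈ F ∧ u ^ p = 1}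
      one_mem' := ⟨F.one_mem, one_pow p⟩
      mul_mem' := by
        rintro x y ⟨hx, hxp⟩ ⟨hy, hyp⟩
        refine ⟨F.mul_mem hx hy, ?_⟩
        have hc : (⟨x, hx⟩ : F) * ⟨y, hy⟩ = ⟨y, hy⟩ * ⟨x, hx⟩ := hcomm.is_comm.comm _ _
        rw [Commute.mul_pow (congrArg Subtype.val hc : x * y = y * x), hxp, hyp, mul_one]
      inv_mem' := fun {x} hx => ⟨F.inv_mem hx.1, by rw [inv_pow, hx.2, inv_one]⟩ }
  have hS := hmin S (fun u hu => hu.1) (by
    obtain ⟨⟨x, hx⟩, hxp⟩ := exists_prime_orderOf_dvd_card' p hpF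
    rw [Subgroup.orderOf_mk] at hxp
    intro e
    have : x ∈ S := ⟨hx, hxp ▸ pow_orderOf_eq_one x⟩
    rw [e, Subgroup.mem_bot] at this
    rw [this, orderOf_one] at hxp
    exact hp.ne_one hxp.symm) fun h hh u hu => ⟨hconj h hh u hu.1, by
      rw [conj_pow, hu.2, mul_one, mul_inv_cancel]⟩
  exact fun u hu => ((hS.symm ▸ hu : u ∈ S)).2

end Cfsg.Agent.S0738
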