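import Cfsg.Statements.S0741
import Cfsg.Agent.Lib.Zassenhaus
-- import your own Cfsg.Agent.* helpers here

set_option autoImplicit false
open Cfsg

namespace Cfsg.Agent.S0741

/-- If the two-point stabilisers of a finite Zassenhaus group of degree `n + 1` have even order `d`, then `2d ≥ n - 1`. -/
theorem result {G Ω : Type*} [Group G] [Finite G] [MulAction G Ω] [Fintype Ω] (hZ : Cfsg.IsZassenhausGroup G Ω) {a b : Ω} (hab : a ≠ b) (heven : Even (Nat.card ↥(MulAction.stabilizer G a ⊓ MulAction.stabilizer G b))) : Fintype.card Ω - 2 ≤ 2 * Nat.card ↥(MulAction.stabilizer G a ⊓ MulAction.stabilizer G b) := by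
  classical
  set d := Nat.card ↥(MulAction.stabilizer G a ⊓ MulAction.stabilizer G b) with hd
  haveI : Fact (Nat.Prime 2) := ⟨Nat.prime_two⟩
  obtain ⟨⟨t, htm⟩, hto⟩ := exists_prime_orderOf_dvd_card' 2 heven.two_dvd
  rw [Subgroup.orderOf_mk, orderOf_eq_iff (by norm_num)] at hto
  have ht1 : t ≠ 1 := by simpa using hto.2 1 (by norm_num) (by norm_num)
  have ht2 : t * t = 1 := by rw [← pow_two]; exact hto.1
  haveI := Fintype.ofFinite G
  let T : Finset G := Finset.univ.filter fun g =>
    g * g = 1 ∧ ∃ p ∈ (Finset.univ : Finset Ω).offDiag, g • p.1 = p.1 ∧ g • p.2 = p.2 ∧ g ≠ 1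
  let M : Finset (Ω × Ω) := (Finset.univ : Finset Ω).offDiag
  -- each pair is fixed by some member of `T` and swapped by at most `d` of them
  have hfix : ∀ p ∈ M, 1 ≤ (T.filter fun g => g • p.1 = p.1 ∧ g • p.2 = p.2).card := by
    intro p hp
    obtain ⟨k, hk1, hk2⟩ := Zassenhaus.exists_smul_pair hZ hab (Finset.mem_offDiag.1 hp).2.2
    have h1 : (k * t * k⁻¹) • p.1 = p.1 := by
      rw [mul_smul, mul_smul, inv_smul_eq_iff.2 hk1.symm, htm.1, hk1]
    have h2 : (k * t * k⁻¹) • p.2 = p.2 := by
      rw [mul_smul, mul_smul, inv_smul_eq_iff.2 hk2.symm, htm.2, hk2]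
    refine Finset.card_pos.2 ⟨k * t * k⁻¹, ?_⟩
    simp only [T, Finset.mem_filter, Finset.mem_univ, true_and]
    refine ⟨⟨?_, p, hp, h1, h2, fun h => ht1 (conj_eq_one_iff.1 h)⟩, h1, h2⟩
    calc k * t * k⁻¹ * (k * t * k⁻¹) = k * (t * t) * k⁻¹ := by group
      _ = 1 := by rw [ht2]; group
  have hswap : ∀ p ∈ M, (T.filter fun g => g • p.1 = p.2).card ≤ d := by
    intro p hp
    have hpne := (Finset.mem_offDiag.1 hp).2.2
    rcases (T.filter fun g => g • p.1 = p.2).eq_empty_or_nonempty with h | ⟨g0, hg0⟩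
    · simp [h]
    simp only [T, Finset.mem_filter, Finset.mem_univ, true_and] at hg0
    rw [hd, show Nat.card ↥(MulAction.stabilizer G a ⊓ MulAction.stabilizer G b) =
      Nat.card ↥(Zassenhaus.two G p.1 p.2) from Zassenhaus.card_two_eq hZ hab hpne,
      Nat.card_eq_fintype_card, ← Finset.card_univ]
    have key : ∀ g : G, g * g = 1 → g • p.1 = p.2 → g • p.2 = p.1 := fun g hg h => by
      rw [← h, ← mul_smul, hg, one_smul]
    rw [← Finset.card_map (Function.Embedding.subtype _)]
    refine Finset.card_le_card_of_injOn (fun g => g0 * g) (fun g hg => ?_)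
      fun g _ g' _ e => mul_left_cancel e
    simp only [Finset.coe_filter, T, Finset.mem_filter, Finset.mem_univ, true_and,
      Set.mem_setOf_eq] at hg
    simp only [Finset.coe_map, Function.Embedding.coe_subtype, Set.mem_image, Finset.coe_univ,
      Set.mem_univ, true_and]
    refine ⟨⟨g0 * g, ?_, ?_⟩, rfl⟩
    · show (g0 * g) • p.1 = p.1
      rw [mul_smul, hg.2, key g0 hg0.1.1 hg0.2]
    · show (g0 * g) • p.2 = p.2
      rw [mul_smul, key g hg.1.1 hg.2, hg0.2]
  -- double counting
  have hTfix : ∀ g ∈ T, (M.filter fun p => g • p.1 = p.1 ∧ g • p.2 = p.2).card ≤ 2 ∧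
      Fintype.card Ω - 2 ≤ (M.filter fun p => g • p.1 = p.2).card := by
    intro g hg
    simp only [T, Finset.mem_filter, Finset.mem_univ, true_and] at hg
    obtain ⟨hg2, p, hp, hp1, hp2, hg1⟩ := hg
    have hpne := (Finset.mem_offDiag.1 hp).2.2
    have hF : ∀ x, g • x = x → x = p.1 ∨ x = p.2 := by
      intro x hx
      by_contra h
      push Not at h
      exact hg1 (Zassenhaus.three hZ hpne h.2.symm h.1.symm hp1 hp2 hx)
    constructor
    · calc _ ≤ ({p.1, p.2} : Finset Ω).offDiag.card := Finset.card_le_card (by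
            intro q hq
            simp only [M, Finset.mem_filter, Finset.mem_offDiag, Finset.mem_univ, true_and] at hq
            simp only [Finset.mem_offDiag, Finset.mem_insert, Finset.mem_singleton]
            exact ⟨hF _ hq.2.1, hF _ hq.2.2, hq.1⟩)
        _ ≤ 2 := by simp [Finset.offDiag_card, Finset.card_pair hpne]
    · calc Fintype.card Ω - 2 = (({p.1, p.2} : Finset Ω)ᶜ).card := by
            rw [Finset.card_compl, Finset.card_pair hpne]
        _ ≤ _ := Finset.card_le_card_of_injOn (fun x => (x, g • x)) (fun x hx => by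
            simp only [Finset.coe_compl, Set.mem_compl_iff, Finset.coe_insert, Finset.coe_singleton,
              Set.mem_insert_iff, Set.mem_singleton_iff, not_or] at hx
            simp only [M, Finset.coe_filter, Finset.mem_offDiag, Finset.mem_univ, true_and,
              Set.mem_setOf_eq, and_true]
            exact fun e => (hF x e.symm).elim hx.1 hx.2)
            fun x _ y _ e => congrArg Prod.fst e
  have e1 : M.card ≤ 2 * T.card := by
    have h1 : M.card * 1 ≤ T.card * 2 := Finset.card_mul_le_card_mul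
      (fun (p : Ω × Ω) (g : G) => g • p.1 = p.1 ∧ g • p.2 = p.2)
      (fun p hp => hfix p hp) fun g hg => (hTfix g hg).1
    omega
  have e2 : T.card * (Fintype.card Ω - 2) ≤ M.card * d :=
    Finset.card_mul_le_card_mul (fun (g : G) (p : Ω × Ω) => g • p.1 = p.2)
      (fun g hg => (hTfix g hg).2) fun p hp => hswap p hp
  have hT : 0 < T.card := by
    have : 0 < M.card := Finset.card_pos.2 ⟨(a, b), Finset.mem_offDiag.2
      ⟨Finset.mem_univ _, Finset.mem_univ _, hab⟩⟩
    omega
  have : T.card * (Fintype.card Ω - 2) ≤ T.card * (2 * d) := by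
    calc T.card * (Fintype.card Ω - 2) ≤ M.card * d := e2
      _ ≤ 2 * T.card * d := Nat.mul_le_mul_right _ e1
      _ = T.card * (2 * d) := by ring
  exact Nat.le_of_mul_le_mul_left this hT

end Cfsg.Agent.S0741
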