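import Cfsg.Statements.S0742
import Cfsg.Agent.Lib.ZassenhausRecognition
-- import your own Cfsg.Agent.* helpers here

set_option autoImplicit false
open Cfsg

namespace Cfsg.Agent.S0742

/-- A finite Zassenhaus group of degree `n + 1` with two-point stabilisers of even order `d` satisfying `2d ≤ n - 1` has `n = p^f` for an odd prime `p` and is isomorphic to `PSL(2, p^f)`. -/
theorem result {G Ω : Type*} [Group G] [Finite G] [MulAction G Ω] [Fintype Ω] (hZ : Cfsg.IsZassenhausGroup G Ω) {a b : Ω} (hab : a ≠ b) (heven : Even (Nat.card ↥(MulAction.stabilizer G a ⊓ MulAction.stabilizer G b))) (hd : 2 * Nat.card ↥(MulAction.stabilizer G a ⊓ MulAction.stabilizer G b) ≤ Fintype.card Ω - 2) : ∃ (p f : ℕ) (K : Type) (_ : Field K) (_ : Fintype K), p.Prime ∧ p ≠ 2 ∧ Fintype.card K = p ^ f ∧ Fintype.card Ω = p ^ f + 1 ∧ Nonempty (G ≃* Matrix.ProjectiveSpecialLinearGroup (Fin 2) K) := by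
  classical
  obtain ⟨V, hVg, hVf, hVn, ρ, act, e, p, f, hA, he, hea, heb, hΩ, hp, hp2, hVp, hcases⟩ :=
    Zassenhaus.even_coordinates hZ hab heven
  have hV : 1 < Nat.card V := Finite.one_lt_card
  have hhalf : Nat.card V = 2 * Nat.card (Zassenhaus.two G a b) + 1 := by
    refine hcases.resolve_left fun hc => ?_
    change 2 * Nat.card (Zassenhaus.two G a b) ≤ _ at hd
    have hH : 1 ≤ Nat.card (Zassenhaus.two G a b) := Nat.card_pos
    omega
  haveI : Finite (OnePoint V) := Finite.of_equiv Ω e.symm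
  haveI := Fintype.ofFinite (OnePoint V)
  have hnf : ∀ g : G, g * g = 1 → g ≠ 1 → ∃ x, ρ g x = x := by
    intro w hw hw1
    by_contra hc
    push Not at hc
    obtain ⟨hz', hfree⟩ := hA.sign_facts heven
    obtain ⟨z, hz, hz1⟩ := hA.exists_z heven
    obtain ⟨j, hj⟩ : Even (Nat.card (Zassenhaus.two G a b)) := heven
    let φ : G →* ℤˣ := Equiv.Perm.sign.comp ρ
    have hφw : φ w = -1 := by
      show Equiv.Perm.sign (ρ w) = -1
      rw [hfree w hw hc, show (Nat.card V + 1) / 2 = 2 * j + 1 by omega, pow_succ, pow_mul]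
      simp
    have hφz : φ z = 1 := by
      show Equiv.Perm.sign (ρ z) = 1
      rw [hz' z hz hz1, show (Nat.card V - 1) / 2 = 2 * j by omega, pow_mul]
      simp
    let N := φ.ker
    have hzN : (z : G) ∈ N := hφz
    have hN : N ≠ ⊥ := fun e => hz1 (Subtype.ext (by rwa [e, Subgroup.mem_bot] at hzN))
    have hZN := Zassenhaus.isZassenhaus_normal hZ N hN
    have hmem : ∀ n : N, n ∈ Zassenhaus.two N a b ↔ (n : G) ∈ Zassenhaus.two G a b :=
      fun n => Iff.rfl
    let ι : Zassenhaus.two N a b → Zassenhaus.two G a b := fun n => ⟨n.1, (hmem n.1).1 n.2⟩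
    have hι : Function.Injective ι := fun x y e =>
      Subtype.ext (Subtype.ext (congrArg (fun v : Zassenhaus.two G a b => (v : G)) e))
    have heN : Even (Nat.card (Zassenhaus.two N a b)) := by
      let z' : Zassenhaus.two N a b := ⟨⟨z, hzN⟩, (hmem _).2 z.2⟩
      have : orderOf z' = 2 := orderOf_eq_prime
        (by rw [pow_two]; exact Subtype.ext (Subtype.ext (show (z : G) * z = 1 from congrArg Subtype.val hz)))
        fun e => hz1 (Subtype.ext (congrArg (fun x : Zassenhaus.two N a b => ((x : N) : G)) e))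
      exact even_iff_two_dvd.2 (this ▸ orderOf_dvd_natCard z')
    have hdN := Cfsg.Agent.S0741.result hZN hab heN
    change _ ≤ 2 * Nat.card (Zassenhaus.two N a b) at hdN
    have hsurj : Function.Surjective ι := by
      refine ((Nat.bijective_iff_injective_and_card ι).2 ⟨hι, ?_⟩).2
      have := Nat.card_le_card_of_injective ι hι
      omega
    have hwN : w ∈ N := by
      have hne : w • a ≠ w • b := fun e => hab (smul_left_cancel w e)
      obtain ⟨n, hn1, hn2⟩ := Zassenhaus.exists_smul_pair hZN hab hne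
      have hk : (n : G)⁻¹ * w ∈ Zassenhaus.two G a b := ⟨by
        show ((n : G)⁻¹ * w) • a = a
        rw [mul_smul, inv_smul_eq_iff]; exact hn1.symm, by
        show ((n : G)⁻¹ * w) • b = b
        rw [mul_smul, inv_smul_eq_iff]; exact hn2.symm⟩
      obtain ⟨k, hk'⟩ := hsurj ⟨_, hk⟩
      have hkN : (n : G)⁻¹ * w ∈ N := by
        have := congrArg Subtype.val hk'
        rw [← show ((k.1 : N) : G) = (n : G)⁻¹ * w from this]
        exact k.1.2
      have := N.mul_mem n.2 hkN
      rwa [mul_inv_cancel_left] at this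
    have : φ w = 1 := hwN
    rw [hφw] at this
    exact absurd this (by decide)
  obtain ⟨F, hF, hFf, hFc, hiso⟩ := hA.half_psl2 heven hnf hhalf
  exact ⟨p, f, F, hF, hFf, hp, hp2, hFc.trans hVp, by omega, hiso⟩

end Cfsg.Agent.S0742
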