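import Cfsg.Statements.S0731
import Cfsg.Agent.Lib.FeitMain
import Cfsg.Agent.Lib.ZassenhausPSL2Odd
import Cfsg.Agent.Lib.ZassenhausRecognition
import Cfsg.Agent.S0738
import Cfsg.Agent.S0742
-- import your own Cfsg.Agent.* helpers here

set_option autoImplicit false
open Cfsg

namespace Cfsg.Agent.S0731

open MulAction in
theorem sharp_of_card {G Ω : Type*} [Group G] [Finite G] [MulAction G Ω] [Finite Ω]
    (hZ : Cfsg.IsZassenhausGroup G Ω) {x b : Ω} (hxb : x ≠ b)
    (hd : Nat.card (Zassenhaus.two G x b) + 2 = Nat.card Ω) :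
    IsMultiplyPretransitive G Ω 3 ∧ ∀ t : Fin 3 ↪ Ω, stabilizer G t = ⊥ := by
  classical
  haveI := Fintype.ofFinite Ω
  have hstab : ∀ t : Fin 3 ↪ Ω, stabilizer G t = ⊥ := by
    intro t
    rw [eq_bot_iff]
    intro g hg
    have hg' : ∀ i, g • t i = t i := fun i => by
      have : g • t = t := hg
      simpa using congrArg (fun s : Fin 3 ↪ Ω => s i) this
    exact Subgroup.mem_bot.2 (Zassenhaus.three hZ (t.injective.ne (show (0 : Fin 3) ≠ 1 by decide))
      (t.injective.ne (show (1 : Fin 3) ≠ 2 by decide))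
      (t.injective.ne (show (0 : Fin 3) ≠ 2 by decide)) (hg' 0) (hg' 1) (hg' 2))
  refine ⟨⟨fun s t => ?_⟩, hstab⟩
  have ns : ∀ (s : Fin 3 ↪ Ω), s 0 ≠ s 1 ∧ s 2 ≠ s 0 ∧ s 2 ≠ s 1 := fun s =>
    ⟨s.injective.ne (by decide), s.injective.ne (by decide), s.injective.ne (by decide)⟩
  obtain ⟨g, hg0, hg1⟩ := Zassenhaus.exists_smul_pair hZ (ns s).1 (ns t).1
  obtain ⟨hab, hca, hcb⟩ := ns t
  let f : Zassenhaus.two G (t 0) (t 1) → {c : Ω // c ≠ t 0 ∧ c ≠ t 1} := fun k =>
    ⟨(k : G) • t 2, fun h => hca (smul_left_cancel (k : G) (h.trans k.2.1.symm)),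
      fun h => hcb (smul_left_cancel (k : G) (h.trans k.2.2.symm))⟩
  have hf : Function.Bijective f := by
    refine (Nat.bijective_iff_injective_and_card f).2 ⟨fun k l e => ?_, ?_⟩
    · have e' : (k : G) • t 2 = (l : G) • t 2 := congrArg Subtype.val e
      have h1 : (k⁻¹ * l : Zassenhaus.two G (t 0) (t 1)) = 1 := by
        refine Subtype.ext (Zassenhaus.three hZ hab hcb.symm hca.symm
          (k⁻¹ * l : Zassenhaus.two G (t 0) (t 1)).2.1 (k⁻¹ * l : Zassenhaus.two G (t 0) (t 1)).2.2 ?_)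
        show ((k : G)⁻¹ * l) • t 2 = t 2
        rw [mul_smul, ← e', inv_smul_smul]
      exact inv_mul_eq_one.1 h1
    · rw [← Zassenhaus.card_two_eq hZ hxb hab, Nat.card_eq_fintype_card (α := {c : Ω // _}),
        Fintype.card_subtype,
        show (Finset.univ.filter fun c : Ω => c ≠ t 0 ∧ c ≠ t 1) = ({t 0, t 1} : Finset Ω)ᶜ by
          ext c; simp, Finset.card_compl, Finset.card_pair hab, ← Nat.card_eq_fintype_card]
      omega
  obtain ⟨k, hk⟩ := hf.2 ⟨g • s 2, fun h => (ns s).2.1 (smul_left_cancel g (h.trans hg0.symm)),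
    fun h => (ns s).2.2 (smul_left_cancel g (h.trans hg1.symm))⟩
  have hk2 : (k : G) • t 2 = g • s 2 := congrArg Subtype.val hk
  refine ⟨(k : G)⁻¹ * g, Function.Embedding.ext fun i => ?_⟩
  show ((k : G)⁻¹ * g) • s i = t i
  rw [mul_smul, inv_smul_eq_iff]
  fin_cases i
  · exact hg0.trans k.2.1.symm
  · exact hg1.trans k.2.2.symm
  · exact hk2.symm

open MulAction in
/-- A Zassenhaus group with abelian kernel, odd two-point stabiliser and odd kernel order is simple. -/
theorem simple_of_odd {G Ω : Type*} [Group G] [Finite G] [MulAction G Ω] [Finite Ω]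
    (hZ : Cfsg.IsZassenhausGroup G Ω) {x b : Ω} (hxb : x ≠ b) {K : Subgroup G}
    (hKx : K ≤ stabilizer G x) (hKcard : Nat.card K + 1 = Nat.card Ω)
    (hKfix : ∀ u ∈ K, u ≠ 1 → ∀ c : Ω, u • c = c → c = x)
    (hKab : ∀ u ∈ K, ∀ v ∈ K, u * v = v * u)
    (hodd : Odd (Nat.card (Zassenhaus.two G x b)))
    (hd : Nat.card K = 2 * Nat.card (Zassenhaus.two G x b) + 1) : IsSimpleGroup G := by
  haveI : Nontrivial G := by
    obtain ⟨g, hg, -⟩ := hZ.2.2.2.1
    exact ⟨⟨g, 1, hg⟩⟩
  refine ⟨fun N hN => or_iff_not_imp_left.2 fun hN1 => ?_⟩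
  haveI := hN
  have hZN := Zassenhaus.isZassenhaus_normal hZ N hN1
  obtain ⟨L, hLa, hLcard, hLfix⟩ := Feit.exists_kernel_subgroup hZN hxb
  have hdvd : Nat.card (Zassenhaus.two N x b) ∣ Nat.card (Zassenhaus.two G x b) := by
    have h1 := Subgroup.card_dvd_of_le
      (show (Zassenhaus.two N x b).map N.subtype ≤ Zassenhaus.two G x b from by
        rintro _ ⟨u, hu, rfl⟩
        exact ⟨hu.1, hu.2⟩)
    rwa [Subgroup.card_map_of_injective N.subtype_injective] at h1
  have hin : ∀ u ∈ L, (u : G) ∈ K := by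
    intro u hu
    refine (Feit.kernel_mem_iff hZ hKx hKcard hKfix _).2 ⟨hLa hu, ?_⟩
    by_cases h1 : u = 1
    · exact Or.inl (congrArg Subtype.val h1)
    · exact Or.inr fun c hc => hLfix u hu h1 c hc
  rcases Feit.feit_inequality (Nat.card N) rfl hZN hxb (Nat.card L) _ hLcard.symm rfl
    (hodd.of_dvd_nat hdvd) L hLa rfl hLfix with h1 | ⟨-, ⟨u, v, huv⟩, -⟩
  swap
  · exact absurd (Subtype.ext (Subtype.ext (hKab _ (hin u u.2) _ (hin v v.2)))) huv
  have hle := Nat.le_of_dvd Nat.card_pos hdvd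
  refine Subgroup.eq_top_of_card_eq N ?_
  rw [Feit.card_group hZN hxb, Feit.card_group hZ hxb,
    show Nat.card (Zassenhaus.two N x b) = Nat.card (Zassenhaus.two G x b) by omega]

/-- A finite Zassenhaus group whose point stabiliser has an abelian regular normal subgroup on the remaining points is sharply triply transitive or isomorphic to `PSL(2, F)` for a finite field `F` of odd characteristic. -/
theorem result {G Ω : Type*} [Group G] [Finite G] [MulAction G Ω] [Finite Ω] (hZ : Cfsg.IsZassenhausGroup G Ω) (x : Ω) (F : Subgroup G) (hFle : F ≤ MulAction.stabilizer G x) (hFn : (F.subgroupOf (MulAction.stabilizer G x)).Normal) (hFab : IsMulCommutative F) (hreg : ∀ y z : Ω, y ≠ x → z ≠ x → ∃! u : F, (u : G) • y = z) : (MulAction.IsMultiplyPretransitive G Ω 3 ∧ ∀ t : Fin 3 ↪ Ω, MulAction.stabilizer G t = ⊥) ∨ ∃ (K : Type) (_ : Field K) (_ : Fintype K), ringChar K ≠ 2 ∧ Nonempty (G ≃* Matrix.ProjectiveSpecialLinearGroup (Fin 2) K) := by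
  classical
  haveI := Fintype.ofFinite Ω
  obtain ⟨b, hb⟩ := Feit.exists_other hZ x
  have hxb : x ≠ b := hb.symm
  set d := Nat.card (Zassenhaus.two G x b) with hd
  have hΩ3 := Feit.three_le_card hZ
  have hsharp : d + 2 = Nat.card Ω →
      MulAction.IsMultiplyPretransitive G Ω 3 ∧ ∀ t : Fin 3 ↪ Ω, MulAction.stabilizer G t = ⊥ :=
    sharp_of_card hZ hxb
  rcases Nat.even_or_odd d with heven | hodd
  · obtain ⟨V, hVg, hVf, hVn, ρ, act, e, p, f, hA, -, -, -, hΩ, hp, hp2, hVp, hcases⟩ :=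
      Zassenhaus.even_coordinates hZ hxb heven
    rw [← Nat.card_eq_fintype_card] at hΩ
    rcases hcases with hc | hc
    · exact Or.inl (hsharp (by omega))
    · obtain ⟨p', f', K, hKF, hKfin, hp', hp'2, hKc, -, hiso⟩ :=
        Cfsg.Agent.S0742.result hZ hxb heven (by
          rw [← Nat.card_eq_fintype_card (α := Ω)]
          change 2 * d ≤ _
          omega)
      refine Or.inr ⟨K, hKF, hKfin, fun h => ?_, hiso⟩
      have h1 := FiniteField.even_card_of_char_two h
      rw [hKc] at h1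
      have := ((hp'.odd_of_ne_two hp'2).pow (n := f'))
      rw [Nat.odd_iff] at this
      omega
  -- odd two-point stabilisers
  have hfree : ∀ u ∈ F, ∀ y : Ω, y ≠ x → u • y = y → u = 1 := fun u hu y hy e => by
    obtain ⟨w, -, hw⟩ := hreg y y hy hy
    have h1 : (⟨u, hu⟩ : F) = w := hw _ e
    have h2 : (1 : F) = w := hw _ (one_smul G y)
    exact congrArg Subtype.val (h1.trans h2.symm)
  have hfix : ∀ u ∈ F, u ≠ 1 → ∀ c : Ω, u • c = c → c = x := fun u hu h1 c hc =>
    by_contra fun hca => h1 (hfree u hu c hca hc)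
  have hcard : Nat.card F + 1 = Nat.card Ω := by
    have e : Nat.card F = Nat.card {y : Ω // y ≠ x} := by
      refine Nat.card_congr (Equiv.ofBijective
        (fun u : F => (⟨(u : G) • b, fun h => hxb (smul_left_cancel (u : G)
          ((hFle u.2).trans h.symm))⟩ : {y : Ω // y ≠ x})) ⟨?_, ?_⟩)
      · intro u v e
        obtain ⟨w, -, hw⟩ := hreg b ((u : G) • b) hb
          (fun h => hxb (smul_left_cancel (u : G) ((hFle u.2).trans h.symm)))
        exact (hw u rfl).trans (hw v (congrArg Subtype.val e).symm).symm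
      · rintro ⟨y, hy⟩
        obtain ⟨u, e, -⟩ := hreg b y hb hy
        exact ⟨u, Subtype.ext e⟩
    rw [e]
    simp [Nat.card_eq_fintype_card] at hΩ3 ⊢
    omega
  have hle : Fintype.card Ω - 2 ≤ 2 * d := by
    rcases Feit.feit_inequality (Nat.card G) rfl hZ hxb (Nat.card F) d hcard.symm rfl hodd F hFle rfl
      hfix with h1 | ⟨-, ⟨u, v, huv⟩, -⟩
    · rw [← Nat.card_eq_fintype_card]
      omega
    · exact absurd (hFab.is_comm.comm u v) huv
  obtain ⟨c, hc⟩ := Feit.card_two_dvd hZ hFle hcard hfix hxb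
  have hfork : Nat.card F = d + 1 ∨ Nat.card F = 2 * d + 1 := by
    rw [← hd] at hc
    rw [← Nat.card_eq_fintype_card, hc] at hle
    have hd1 : 0 < d := Nat.card_pos
    have hc2 : c ≤ 2 := Nat.le_of_mul_le_mul_left (by rwa [mul_comm d 2]) hd1
    rcases c with _ | _ | _ | c <;> omega
  rcases hfork with hh | hh
  · exact Or.inl (hsharp (by omega))
  have hab : ∀ u ∈ F, ∀ v ∈ F, u * v = v * u := fun u hu v hv =>
    congrArg Subtype.val (hFab.is_comm.comm (⟨u, hu⟩ : F) ⟨v, hv⟩)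
  haveI := simple_of_odd hZ hxb hFle hcard hfix hab hodd hh
  obtain ⟨hcyc, -, -⟩ := Feit.simple_cyclic_inverted hZ hxb hodd
  obtain ⟨V, hVg, ρ, act, e, hA, he, hea, heb, -⟩ :=
    Zassenhaus.exists_affine (Zassenhaus.pre_of_isZassenhaus hZ) hxb hFle
      (fun g hg k hk => hFn.conj_mem (⟨k, hFle hk⟩ : MulAction.stabilizer G x) hk ⟨g, hg⟩)
      (fun y z hy hz => (hreg y z hy hz).exists.elim fun u hu => ⟨u, u.2, hu⟩)
      hfree hab
  haveI : Finite (OnePoint V) := Finite.of_equiv Ω e.symm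
  haveI : Finite V := Finite.of_injective (fun v : V => (v : OnePoint V)) OnePoint.coe_injective
  have hV : Nat.card V + 1 = Nat.card Ω :=
    (Zassenhaus.Affine.card_onePoint).symm.trans (Nat.card_congr e)
  have hd1 : 1 ≤ d := Nat.card_pos
  haveI : Nontrivial V := Finite.one_lt_card_iff_nontrivial.1 (by omega)
  have hcardG : Nat.card G = Nat.card (Zassenhaus.two G x b) * ((Nat.card V + 1) * Nat.card V) := by
    rw [Feit.card_group hZ hxb, ← hV, Nat.add_sub_cancel]
    ring
  have hex : ∃ t, ρ t OnePoint.infty = ((0 : V) : OnePoint V) ∧ ρ t ((0 : V) : OnePoint V) = OnePoint.infty := by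
    obtain ⟨s, -, -, hs1, hs2⟩ := Zassenhaus.exists_involution_swap hZ hxb
    exact ⟨s, e.injective (by rw [he, hea, heb, hs1]), e.injective (by rw [he, hea, heb, hs2])⟩
  have hswap : ∀ t, ρ t OnePoint.infty = ((0 : V) : OnePoint V) → ρ t ((0 : V) : OnePoint V) = OnePoint.infty →
      t * t = 1 ∧ ∀ v : V, ρ t v ≠ v := by
    intro t h1 h2
    have hta : t • x = b := by rw [← hea, ← he, h1, heb]
    have htb : t • b = x := by rw [← heb, ← he, h2, hea]
    have ht := Feit.simple_swap_sq hZ hxb hodd x b hxb t hta htb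
    refine ⟨ht, fun v hv => ?_⟩
    have ht1 : t ≠ 1 := fun h => hxb (by rw [h, one_smul] at hta; exact hta)
    haveI := Fintype.ofFinite G
    have hn := Feit.invol_nfix hZ (Feit.odd_all hZ hxb hodd) ht ht1
    have h0 : Feit.nfix (Ω := Ω) t = 0 := by
      rw [hn, ← Nat.card_eq_fintype_card]
      omega
    exact Feit.nfix_eq_zero_iff.1 h0 (e v) (by rw [← he, hv])
  haveI : IsMulCommutative (Zassenhaus.two G x b) := hcyc.isMulCommutative
  obtain ⟨K, hKF, hKfin, hKc, hiso⟩ := Zassenhaus.Affine.odd_half_psl2 hA hodd (by omega) hcardG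
    (fun h k => mul_comm' h k) hex hswap
  refine Or.inr ⟨K, hKF, hKfin, fun h => ?_, hiso⟩
  have h1 := FiniteField.even_card_of_char_two h
  rw [hKc] at h1
  omega

end Cfsg.Agent.S0731
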