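import Cfsg.Statements.S2427
import Cfsg.Agent.Lib.SL2SylowNormalizer

set_option autoImplicit false
open Cfsg

namespace Cfsg.Agent.S2427

open Cfsg.Agent

/-- The group SL₂ over the field with 3 elements has order 24 and centre of order 2; its commutator subgroup has order 8, is isomorphic to the quaternion group of order 8 and is complemented by every Sylow 3-subgroup (so the group is a semidirect product of a quaternion group of order 8 by a cyclic group of order 3); and its only normal subgroups besides the trivial subgroup and the whole group are the centre and the commutator subgroup. -/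
theorem result :
    Nat.card (Matrix.SpecialLinearGroup (Fin 2) (ZMod 3)) = 24 ∧
    Nat.card (Subgroup.center (Matrix.SpecialLinearGroup (Fin 2) (ZMod 3))) = 2 ∧
    Nat.card (commutator (Matrix.SpecialLinearGroup (Fin 2) (ZMod 3))) = 8 ∧
    Nonempty (commutator (Matrix.SpecialLinearGroup (Fin 2) (ZMod 3)) ≃* QuaternionGroup 2) ∧
    (∀ P : Sylow 3 (Matrix.SpecialLinearGroup (Fin 2) (ZMod 3)),
      Subgroup.IsComplement' (commutator (Matrix.SpecialLinearGroup (Fin 2) (ZMod 3)))
        (P : Subgroup (Matrix.SpecialLinearGroup (Fin 2) (ZMod 3)))) ∧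
    ∀ N : Subgroup (Matrix.SpecialLinearGroup (Fin 2) (ZMod 3)), N.Normal →
      N = ⊥ ∨ N = ⊤ ∨ N = Subgroup.center (Matrix.SpecialLinearGroup (Fin 2) (ZMod 3)) ∨
        N = commutator (Matrix.SpecialLinearGroup (Fin 2) (ZMod 3)) := by
  have : Fact (Nat.Prime 3) := ⟨Nat.prime_three⟩
  have hodd : Odd (Nat.card (ZMod 3)) := by rw [Nat.card_zmod]; exact ⟨1, rfl⟩
  have h2 := PSL2SylowTwo.two_ne_zero_of_odd hodd
  have hG : Nat.card (Matrix.SpecialLinearGroup (Fin 2) (ZMod 3)) = 24 := by
    rw [PSLCard.card_SL2, Nat.card_zmod]; norm_num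
  have hZ := SL2Torus.card_center (F := ZMod 3) h2
  obtain ⟨S⟩ : Nonempty (Sylow 2 (Matrix.SpecialLinearGroup (Fin 2) (ZMod 3))) := inferInstance
  obtain ⟨hS8, hN, c, y, W, hc, hy, hc2, hW, -, hWy, hWc, hlist⟩ :=
    SL2SylowNormalizer.sylow_two_three hodd (by rw [Nat.card_zmod]; exact Or.inl rfl) S
  have hSn : (S : Subgroup (Matrix.SpecialLinearGroup (Fin 2) (ZMod 3))).Normal := by
    rw [← Subgroup.normalizer_eq_top_iff]
    exact Subgroup.eq_top_of_card_eq _ (by rw [hN, hS8, hG])
  have hidx : (S : Subgroup (Matrix.SpecialLinearGroup (Fin 2) (ZMod 3))).index = 3 := by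
    have := (S : Subgroup (Matrix.SpecialLinearGroup (Fin 2) (ZMod 3))).card_mul_index
    rw [show Nat.card (S : Subgroup (Matrix.SpecialLinearGroup (Fin 2) (ZMod 3))) = 8 from hS8, hG] at this
    omega
  have hSle : ∀ N : Subgroup (Matrix.SpecialLinearGroup (Fin 2) (ZMod 3)), c ∈ N → y ∈ N →
      (S : Subgroup (Matrix.SpecialLinearGroup (Fin 2) (ZMod 3))) ≤ N := by
    intro N hcN hyN s hs
    rcases hlist s hs with h | h | h | h | h | h | h
    · rcases (PSL2Elements.mem_center_iff s).1 h with rfl | rfl
      · exact one_mem N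
      · rw [← hc2]; exact mul_mem hcN hcN
    all_goals subst h
    · exact hcN
    · exact inv_mem hcN
    · exact hyN
    · exact inv_mem hyN
    · exact mul_mem hcN hyN
    · exact inv_mem (mul_mem hcN hyN)
  have hSN : ∀ N : Subgroup (Matrix.SpecialLinearGroup (Fin 2) (ZMod 3)), N.Normal →
      c * y * c⁻¹ ∈ N → (S : Subgroup (Matrix.SpecialLinearGroup (Fin 2) (ZMod 3))) ≤ N := by
    intro N hNn h
    have hyN : y ∈ N := by
      have := hNn.conj_mem _ h c⁻¹
      rwa [show c⁻¹ * (c * y * c⁻¹) * c⁻¹⁻¹ = y by group] at this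
    exact hSle N (hWy ▸ hNn.conj_mem _ hyN W) hyN
  have hcomm : commutator (Matrix.SpecialLinearGroup (Fin 2) (ZMod 3)) = (S : Subgroup (Matrix.SpecialLinearGroup (Fin 2) (ZMod 3))) := by
    refine le_antisymm ?_ (hSN _ inferInstance ?_)
    · rw [commutator_def, Subgroup.commutator_le]
      intro a _ b _
      rw [← QuotientGroup.eq_one_iff (N := (S : Subgroup (Matrix.SpecialLinearGroup (Fin 2) (ZMod 3)))), ← QuotientGroup.mk'_apply,
        map_commutatorElement, commutatorElement_eq_one_iff_commute]
      have : IsCyclic (_ ⧸ (S : Subgroup (Matrix.SpecialLinearGroup (Fin 2) (ZMod 3)))) :=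
        isCyclic_of_prime_card (p := 3) (by rw [← Subgroup.index_eq_card, hidx])
      have := this.isMulCommutative
      exact mul_comm' _ _
    · rw [← hWc, commutator_def]
      exact Subgroup.commutator_mem_commutator (Subgroup.mem_top W) (Subgroup.mem_top c)
  refine ⟨hG, hZ, by rw [hcomm]; exact hS8, ?_, fun P => ?_, fun N hNn => ?_⟩
  · rw [hcomm]
    obtain ⟨k, -, ⟨e⟩⟩ := PSL2SylowTwo.sylow_two_quaternion hodd S
    have : NeZero (2 ^ k) := ⟨by positivity⟩
    have hk := Nat.card_congr e.toEquiv
    rw [show Nat.card (S : Subgroup (Matrix.SpecialLinearGroup (Fin 2) (ZMod 3))) = 8 from hS8, Nat.card_eq_fintype_card,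
      QuaternionGroup.card] at hk
    rw [show (2 : ℕ) ^ k = 2 by omega] at e
    exact ⟨e⟩
  · have hP : Nat.card P = 3 := by
      rw [PSL2Sylow.sylow_card_eq (k := 1) (b := 8) (by rw [hG]; norm_num) (by norm_num) P]
      norm_num
    rw [hcomm]
    exact Subgroup.isComplement'_of_coprime
      (by rw [show Nat.card (S : Subgroup (Matrix.SpecialLinearGroup (Fin 2) (ZMod 3))) = 8 from hS8, hP, hG])
      (by rw [show Nat.card (S : Subgroup (Matrix.SpecialLinearGroup (Fin 2) (ZMod 3))) = 8 from hS8, hP]; norm_num)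
  · have hdvd : Nat.card N ∣ 24 := hG ▸ Subgroup.card_subgroup_dvd_card N
    by_cases h3 : 3 ∣ Nat.card N
    · right; left
      have hWN : W ∈ N := by
        rw [← QuotientGroup.eq_one_iff (N := N), ← orderOf_eq_one_iff]
        refine Nat.eq_one_of_dvd_coprimes (show Nat.Coprime 3 8 by norm_num)
          ((orderOf_map_dvd (QuotientGroup.mk' N) W).trans hW.dvd) ((orderOf_dvd_natCard _).trans ?_)
        obtain ⟨m, hm⟩ := h3
        have hmul := N.card_mul_index
        rw [hm, hG, mul_assoc] at hmul
        rw [← Subgroup.index_eq_card]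
        exact ⟨m, by rw [mul_comm]; omega⟩
      have hSN' : (S : Subgroup (Matrix.SpecialLinearGroup (Fin 2) (ZMod 3))) ≤ N := hSN N hNn (by
        rw [← hWc, mul_assoc, mul_assoc]
        exact mul_mem hWN (by
          have := hNn.conj_mem _ (inv_mem hWN) c
          rwa [mul_assoc] at this))
      refine Subgroup.eq_top_of_card_eq _ (Nat.dvd_antisymm (hG ▸ hdvd) ?_)
      rw [hG]
      exact Nat.Coprime.mul_dvd_of_dvd_of_dvd (show Nat.Coprime 3 8 by norm_num) h3
        (hS8 ▸ Subgroup.card_dvd_of_le hSN')
    · have h8 : Nat.card N ∣ 8 :=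
        ((Nat.prime_three.coprime_iff_not_dvd.2 h3).symm.dvd_of_dvd_mul_left
          (show Nat.card N ∣ 3 * 8 from hdvd))
      have hNS : N ≤ (S : Subgroup (Matrix.SpecialLinearGroup (Fin 2) (ZMod 3))) := fun n hn => by
        rw [← QuotientGroup.eq_one_iff (N := (S : Subgroup (Matrix.SpecialLinearGroup (Fin 2) (ZMod 3)))), ← orderOf_eq_one_iff]
        refine Nat.eq_one_of_dvd_coprimes (show Nat.Coprime 8 3 by norm_num)
          (((orderOf_map_dvd (QuotientGroup.mk' _) n).trans
            (Subgroup.orderOf_dvd_natCard _ hn)).trans h8) ((orderOf_dvd_natCard _).trans ?_)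
        rw [← Subgroup.index_eq_card, hidx]
      by_cases hNZ : N ≤ Subgroup.center _
      · have := Subgroup.card_dvd_of_le hNZ
        rw [hZ] at this
        rcases (Nat.dvd_prime Nat.prime_two).1 this with h | h
        · exact Or.inl (Subgroup.eq_bot_of_card_eq _ h)
        · exact Or.inr (Or.inr (Or.inl (Subgroup.eq_of_le_of_card_ge hNZ (by rw [h, hZ]))))
      · right; right; right
        rw [hcomm]
        refine le_antisymm hNS ?_
        obtain ⟨s, hsN, hsZ⟩ := SetLike.not_le_iff_exists.1 hNZ
        have hyc : y ∈ N ∨ c ∈ N := by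
          rcases hlist s (hNS hsN) with h | h | h | h | h | h | h
          · exact absurd h hsZ
          · exact Or.inr (h ▸ hsN)
          · exact Or.inr (by simpa [h] using inv_mem hsN)
          · exact Or.inl (h ▸ hsN)
          · exact Or.inl (by simpa [h] using inv_mem hsN)
          all_goals
            right
            have hcy : c * y ∈ N := by
              first
                | exact h ▸ hsN
                | simpa [h] using inv_mem hsN
            have := hNn.conj_mem _ hcy W⁻¹
            rwa [← hWc, show W⁻¹ * (W * c * W⁻¹) * W⁻¹⁻¹ = c by group] at this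
        have hcN : c ∈ N := hyc.elim (fun h => hWy ▸ hNn.conj_mem _ h W) id
        refine hSle N hcN ?_
        have := hNn.conj_mem _ hcN W
        rw [hWc] at this
        simpa using mul_mem (inv_mem hcN) this

end Cfsg.Agent.S2427
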