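import Mathlib
import Cfsg.Agent.Lib.PGroupsBasic
import Cfsg.Agent.Lib.MaxClassTwo
import Cfsg.Agent.Lib.PGroupsHallPetrescu
import Cfsg.Statements.S3806

set_option autoImplicit false
set_option linter.unusedVariables false
set_option linter.unusedSectionVars false
open Cfsg

namespace Cfsg.Agent.S3806

open Subgroup
open scoped commutatorElement
open PGroupsHallPetrescu (Gf Gf_antitone commutator_mem_Gf)

theorem exists_notMem_of_few {X : Type*} [Group X] [Finite X] {p n : ℕ} [hp : Fact p.Prime]
    (hX : Nat.card X = p ^ n) {ι : Type*} (s : Finset ι) (D : ι → Subgroup X) (hD : ∀ i ∈ s, D i ≠ ⊤)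
    (hs : s.card < p) : ∃ w : X, ∀ i ∈ s, w ∉ D i := by
  classical
  have := Fintype.ofFinite X
  by_contra hcon
  push Not at hcon
  have hle : (Finset.univ : Finset X) ⊆ s.biUnion fun i => (D i : Set X).toFinset := by
    intro x _
    obtain ⟨i, hi, hx⟩ := hcon x
    simp only [Finset.mem_biUnion, Set.mem_toFinset, SetLike.mem_coe]
    exact ⟨i, hi, hx⟩
  have h1 := (Finset.card_le_card hle).trans Finset.card_biUnion_le
  have h2 : ∀ i ∈ s, p * (D i : Set X).toFinset.card ≤ p ^ n := by
    intro i hi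
    have hc : (D i : Set X).toFinset.card = Nat.card (D i) := by
      rw [Set.toFinset_card, Nat.card_eq_fintype_card]; rfl
    rw [hc, ← hX, ← card_mul_index (D i), mul_comm]
    refine Nat.mul_le_mul le_rfl ?_
    obtain ⟨j, hj⟩ := (IsPGroup.of_card hX).index (D i)
    rw [hj]
    refine Nat.le_self_pow ?_ p
    rintro rfl
    exact hD i hi (index_eq_one.mp (by simpa using hj))
  have h3 := Finset.sum_le_sum h2
  rw [← Finset.mul_sum, Finset.sum_const, smul_eq_mul] at h3
  rw [Finset.card_univ, ← Nat.card_eq_fintype_card, hX] at h1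
  have h4 := (Nat.mul_le_mul (le_refl p) h1).trans h3
  have : 0 < p ^ n := pow_pos hp.out.pos n
  nlinarith

section base

variable {X : Type*} [Group X] [Finite X] {p n : ℕ} [hp : Fact p.Prime]
  (hX : Nat.card X = p ^ n) (hc : Group.nilpotencyClass X = n - 1)

include hX hc

theorem gf_bot {i : ℕ} (h : n ≤ i) : Gf X i = ⊥ := by
  have := (IsPGroup.of_card hX).isNilpotent
  unfold Gf
  rw [Subgroup.lowerCentralSeries_eq_bot_iff_nilpotencyClass_le, hc]
  omega

theorem gf_ne_bot {i : ℕ} (hn : 2 ≤ n) (h : i + 1 ≤ n) : Gf X i ≠ ⊥ := by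
  have := (IsPGroup.of_card hX).isNilpotent
  unfold Gf
  rw [Ne, Subgroup.lowerCentralSeries_eq_bot_iff_nilpotencyClass_le, hc]
  omega

omit hX hc in
theorem gf_succ {i : ℕ} (h : 1 ≤ i) : Gf X (i + 1) = ⁅Gf X i, (⊤ : Subgroup X)⁆ := by
  unfold Gf
  rw [show i + 1 - 1 = (i - 1) + 1 by omega, Subgroup.lowerCentralSeries_succ]

theorem gf_lt {i : ℕ} (h1 : 1 ≤ i) (h : i + 1 ≤ n) : Gf X (i + 1) < Gf X i := by
  refine lt_of_le_of_ne (Gf_antitone (Nat.le_succ i)) fun e => ?_
  have hconst : ∀ d, Gf X (i + d) = Gf X i := fun d => by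
    induction d with
    | zero => rfl
    | succ d ih => rw [← Nat.add_assoc, gf_succ (by omega), ih, ← gf_succ h1, e]
  have h' := hconst (n - i)
  rw [Nat.add_sub_cancel' (by omega), gf_bot hX hc le_rfl] at h'
  exact gf_ne_bot hX hc (by omega) h h'.symm

omit hc in
theorem index_frattini_ge (hnc : ¬ ∀ a b : X, a * b = b * a) : p ^ 2 ≤ (frattini X).index := by
  by_contra hlt
  have hP : IsPGroup p X := IsPGroup.of_card hX
  refine hnc ?_
  have : (frattini X).Normal := inferInstance
  obtain ⟨j, hj⟩ := hP.index (frattini X)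
  have hj2 : j < 2 := (Nat.pow_lt_pow_iff_right hp.out.one_lt).mp (by rw [← hj]; omega)
  have hcyc : IsCyclic (X ⧸ frattini X) := by
    obtain rfl | rfl : j = 0 ∨ j = 1 := by omega
    · have : Subsingleton (X ⧸ frattini X) :=
        (Nat.card_eq_one_iff_unique.mp (by simpa [Subgroup.index_eq_card] using hj)).1
      infer_instance
    · exact isCyclic_of_prime_card (p := p) (by simpa [Subgroup.index_eq_card] using hj)
  obtain ⟨q, hq⟩ := hcyc.exists_generator
  obtain ⟨g, rfl⟩ := QuotientGroup.mk_surjective q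
  have htop : zpowers g = ⊤ := by
    refine frattini_nongenerating ?_
    rw [eq_top_iff]
    intro x _
    obtain ⟨m, hm⟩ := hq (QuotientGroup.mk x)
    have hmem : (g ^ m)⁻¹ * x ∈ frattini X := by
      rw [← QuotientGroup.eq, ← hm]; rfl
    rw [show x = g ^ m * ((g ^ m)⁻¹ * x) by group]
    exact mul_mem_sup (zpow_mem (mem_zpowers g) m) hmem
  intro a b
  exact PGroupsBasic.comm_of_isMulCommutative (PGroupsBasic.isMulCommutative_zpowers g)
    (htop ▸ mem_top a) (htop ▸ mem_top b)

theorem card_gf {i : ℕ} (hn : 3 ≤ n) (h1 : 2 ≤ i) (hi : i ≤ n) :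
    Nat.card (Gf X i) = p ^ (n - i) := by
  have hP : IsPGroup p X := IsPGroup.of_card hX
  choose m hm using fun i => IsPGroup.iff_card.mp (hP.to_subgroup (Gf X i))
  have hlt : ∀ i, 1 ≤ i → i + 1 ≤ n → m (i + 1) < m i := fun i hi1 hi => by
    have hl := gf_lt hX hc hi1 hi
    have h := lt_of_le_of_ne (card_le_of_le hl.le) fun e =>
      hl.ne (eq_of_le_of_card_ge hl.le e.ge)
    rw [hm, hm] at h
    exact (Nat.pow_lt_pow_iff_right hp.out.one_lt).mp h
  have htop : m 2 + 2 ≤ n := by
    have hnc : ¬ ∀ a b : X, a * b = b * a := (MaxClassTwo.center_of_maxClass hn hX hc).2.2.2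
    have h2 : Gf X 2 = commutator X := Subgroup.top_lowerCentralSeries_one
    have hle : (frattini X).index ≤ (Gf X 2).index := by
      rw [h2]
      exact Nat.le_of_dvd (Nat.pos_of_ne_zero index_ne_zero_of_finite)
        (index_dvd_of_le (PGroupsBasic.commutator_le_frattini hP))
    have h := card_mul_index (Gf X 2)
    rw [hm, hX] at h
    have h' : p ^ (m 2 + 2) ≤ p ^ n := by
      rw [pow_add, ← h]
      exact Nat.mul_le_mul le_rfl ((index_frattini_ge hX hnc).trans hle)
    exact (Nat.pow_le_pow_iff_right hp.out.one_lt).mp h'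
  have hup : ∀ d, 2 + d ≤ n → m (2 + d) + 2 + d ≤ n := fun d => by
    induction d with
    | zero => exact fun _ => htop
    | succ d ih =>
      intro hd
      have h' := hlt (2 + d) (by omega) (by omega)
      rw [show 2 + d + 1 = 2 + (d + 1) by omega] at h'
      have := ih (by omega)
      omega
  have hlow : ∀ d, d + 2 ≤ n → d ≤ m (n - d) := fun d => by
    induction d with
    | zero => exact fun _ => Nat.zero_le _
    | succ d ih =>
      intro hd
      have h' := hlt (n - (d + 1)) (by omega) (by omega)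
      rw [show n - (d + 1) + 1 = n - d by omega] at h'
      have := ih (by omega)
      omega
  have a := hup (i - 2) (by omega)
  have b := hlow (n - i) (by omega)
  rw [show 2 + (i - 2) = i by omega] at a
  rw [show n - (n - i) = i by omega] at b
  rw [hm, show m i = n - i by omega]

theorem eq_of_mem_of_notMem {i : ℕ} (hn : 3 ≤ n) (h1 : 2 ≤ i) (hi : i + 1 ≤ n) {K : Subgroup X}
    (hK : Gf X (i + 1) ≤ K) {a : X} (haK : a ∈ K) (hai : a ∈ Gf X i) (ha : a ∉ Gf X (i + 1)) :
    Gf X i ≤ K := by
  have hP : IsPGroup p X := IsPGroup.of_card hX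
  have hl : Gf X (i + 1) < Gf X i ⊓ K :=
    lt_of_le_of_ne (le_inf (Gf_antitone (Nat.le_succ i)) hK) fun e => ha (e ▸ ⟨hai, haK⟩)
  obtain ⟨m, hm⟩ := IsPGroup.iff_card.mp (hP.to_subgroup (Gf X i ⊓ K))
  have hlt := lt_of_le_of_ne (card_le_of_le hl.le) fun e => hl.ne (eq_of_le_of_card_ge hl.le e.ge)
  rw [hm, card_gf hX hc hn (by omega) hi] at hlt
  have h2 := (Nat.pow_lt_pow_iff_right hp.out.one_lt).mp hlt
  have he : Gf X i ⊓ K = Gf X i := by
    refine eq_of_le_of_card_ge inf_le_left ?_
    rw [hm, card_gf hX hc hn h1 (by omega)]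
    exact Nat.pow_le_pow_right hp.out.pos (by omega)
  exact he ▸ inf_le_right

theorem pow_mem_gf_two (hn : 3 ≤ n) (w : X) : w ^ p ∈ Gf X 2 := by
  have hP : IsPGroup p X := IsPGroup.of_card hX
  have h2 : Gf X 2 = commutator X := Subgroup.top_lowerCentralSeries_one
  have hnc : ¬ ∀ a b : X, a * b = b * a := (MaxClassTwo.center_of_maxClass hn hX hc).2.2.2
  have heq : Gf X 2 = frattini X := by
    refine eq_of_le_of_card_ge (h2 ▸ PGroupsBasic.commutator_le_frattini hP) ?_
    have h := card_mul_index (frattini X)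
    rw [hX] at h
    rw [card_gf hX hc hn le_rfl (by omega)]
    have h' : Nat.card (frattini X) * p ^ 2 ≤ p ^ (n - 2) * p ^ 2 := by
      rw [← pow_add, show n - 2 + 2 = n by omega, ← h]
      exact Nat.mul_le_mul le_rfl (index_frattini_ge hX hnc)
    exact Nat.le_of_mul_le_mul_right h' (pow_pos hp.out.pos 2)
  rw [heq]
  exact PGroupsBasic.pow_mem_frattini hP w

end base

/-- Elements centralizing `A` modulo `N`. -/
def Cmod {X : Type*} [Group X] (A N : Subgroup X) [N.Normal] : Subgroup X :=
  (centralizer ((QuotientGroup.mk' N) '' (A : Set X))).comap (QuotientGroup.mk' N)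

theorem comm_mem_iff {X : Type*} [Group X] (N : Subgroup X) [N.Normal] (a b : X) :
    ⁅a, b⁆ ∈ N ↔ QuotientGroup.mk' N a * QuotientGroup.mk' N b =
      QuotientGroup.mk' N b * QuotientGroup.mk' N a := by
  rw [← QuotientGroup.eq_one_iff, ← QuotientGroup.mk'_apply, map_commutatorElement,
    commutatorElement_eq_one_iff_mul_comm]

theorem mem_Cmod {X : Type*} [Group X] {A N : Subgroup X} [N.Normal] {w : X} :
    w ∈ Cmod A N ↔ ∀ z ∈ A, ⁅z, w⁆ ∈ N := by
  simp only [Cmod, mem_comap, mem_centralizer_iff, Set.mem_image, forall_exists_index, and_imp,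
    forall_apply_eq_imp_iff₂, comm_mem_iff, SetLike.mem_coe]

instance gf_normal {X : Type*} [Group X] (i : ℕ) : (Gf X i).Normal := by
  unfold Gf; infer_instance

section climb

variable {X : Type*} [Group X] [Finite X] {p n k : ℕ} [hp : Fact p.Prime]
  (hX : Nat.card X = p ^ n) (hc : Group.nilpotencyClass X = n - 1) (hn : n = 2 * k + 1) (hk : 2 ≤ k)
  (hpk : k + 2 ≤ p)

include hX hc hn hk hpk

theorem Cmod_ne_top {j : ℕ} (h1 : 1 ≤ j) (h : j + 2 ≤ n) :
    Cmod (Gf X j) (Gf X (j + 2)) ≠ ⊤ := by
  intro e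
  refine absurd ?_ (gf_lt hX hc (i := j + 1) (by omega) (by omega)).not_ge
  rw [gf_succ h1]
  exact commutator_le.mpr fun a ha b _ => mem_Cmod.mp (e ▸ mem_top b) a ha

theorem gf_comm {a b : X} (ha : a ∈ Gf X k) (hb : b ∈ Gf X k) : a * b = b * a := by
  have hgrade : ∀ {u v : X}, u ∈ Gf X (k + 1) → v ∈ Gf X k → v * u = u * v := fun hu hv => by
    have h := commutator_mem_Gf hv hu
    rw [gf_bot hX hc (by omega), mem_bot] at h
    exact commutatorElement_eq_one_iff_mul_comm.mp h
  by_cases ha' : a ∈ Gf X (k + 1)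
  · exact (hgrade ha' hb).symm
  have h := eq_of_mem_of_notMem hX hc (by omega) hk (by omega) (K := centralizer {a})
    (fun u hu => mem_centralizer_singleton_iff.mpr (hgrade hu ha).symm)
    (mem_centralizer_singleton_iff.mpr rfl) ha ha' hb
  exact (mem_centralizer_singleton_iff.mp h).symm

theorem pow_mem_gf (w : X) (hw : ∀ j, 2 ≤ j → j < p → j + 2 ≤ n → w ∉ Cmod (Gf X j) (Gf X (j + 2))) :
    ∀ j, j ≤ min p (n - 1) → w ^ p ∈ Gf X j := by
  intro j
  induction j with
  | zero => exact fun _ => mem_top _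
  | succ j ih =>
    intro hj
    rcases Nat.lt_or_ge j 2 with h | h
    · exact Gf_antitone (show j + 1 ≤ 2 by omega) (pow_mem_gf_two hX hc (by omega) w)
    · by_contra hnot
      have hjm : j + 1 ≤ p ∧ j + 1 ≤ n - 1 := by omega
      refine hw j h (by omega) (by omega) (mem_Cmod.mpr fun z hz => ?_)
      have hK := eq_of_mem_of_notMem hX hc (by omega) h (by omega)
        (K := (centralizer {QuotientGroup.mk' (Gf X (j + 2)) w}).comap (QuotientGroup.mk' (Gf X (j + 2))))
        ?_ (a := w ^ p) ?_ (ih (by omega)) hnot hz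
      · exact (comm_mem_iff _ _ _).mpr (mem_centralizer_singleton_iff.mp hK)
      · intro u hu
        refine mem_centralizer_singleton_iff.mpr ((comm_mem_iff _ _ _).mp ?_)
        exact commutator_mem_Gf (i := j + 1) (j := 1) hu (mem_top w)
      · refine mem_centralizer_singleton_iff.mpr ?_
        rw [map_pow]
        exact ((Commute.refl _).pow_left p).eq

omit hn hk hpk in
theorem lcs_closure_le {i : ℕ} (hi : 1 ≤ i) {y w : X} (hy : y ∈ Gf X i) :
    ∀ j, ((⊤ : Subgroup (closure {y, w})).lowerCentralSeries (j + 1)).map (closure {y, w}).subtype ≤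
      Gf X (i + (j + 1)) := by
  intro j
  induction j with
  | zero =>
    rw [Subgroup.lowerCentralSeries_succ, Subgroup.lowerCentralSeries_zero, map_commutator,
      ← MonoidHom.range_eq_map, range_subtype]
    refine commutator_le.mpr fun a ha b hb => (comm_mem_iff (Gf X (i + 1)) a b).mpr ?_
    have hyw : QuotientGroup.mk' (Gf X (i + 1)) y * QuotientGroup.mk' (Gf X (i + 1)) w =
        QuotientGroup.mk' (Gf X (i + 1)) w * QuotientGroup.mk' (Gf X (i + 1)) y :=
      (comm_mem_iff _ _ _).mp (commutator_mem_Gf hy (show w ∈ Gf X 1 from mem_top w))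
    have : IsMulCommutative (closure ((QuotientGroup.mk' (Gf X (i + 1))) '' {y, w})) :=
      Subgroup.isMulCommutative_closure (by
        rintro _ ⟨u, hu, rfl⟩ _ ⟨v, hv, rfl⟩
        rcases hu with rfl | rfl <;> rcases hv with rfl | rfl <;>
          first | rfl | exact hyw | exact hyw.symm)
    have hm : ∀ c ∈ closure ({y, w} : Set X), QuotientGroup.mk' (Gf X (i + 1)) c ∈
        closure ((QuotientGroup.mk' (Gf X (i + 1))) '' {y, w}) := fun c hc' => by
      rw [← MonoidHom.map_closure]; exact mem_map_of_mem _ hc'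
    exact PGroupsBasic.comm_of_isMulCommutative this (hm a ha) (hm b hb)
  | succ j ih =>
    rw [Subgroup.lowerCentralSeries_succ, map_commutator, show i + (j + 1 + 1) = i + (j + 1) + 1 by omega,
      gf_succ (by omega)]
    exact commutator_mono ih le_top

theorem exp_gf : ∀ d, d + k ≤ n → ∀ z ∈ Gf X (n - d), z ^ p = 1 := by
  intro d
  induction d with
  | zero =>
    intro _ z hz
    rw [gf_bot hX hc (by omega), mem_bot] at hz
    rw [hz, one_pow]
  | succ d ih =>
    intro hd
    set i := n - (d + 1) with hi_def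
    have hi : k ≤ i ∧ i + 1 ≤ n := by omega
    have ihi : ∀ z ∈ Gf X (i + 1), z ^ p = 1 := by
      have h := ih (by omega)
      rwa [show n - d = i + 1 by omega] at h
    obtain ⟨w, hw⟩ := exists_notMem_of_few hX
      (insert (i - 1) (Finset.Icc 2 (min (p - 1) (n - 2))))
      (fun j => Cmod (Gf X j) (Gf X (j + 2)))
      (fun j hj => by
        simp only [Finset.mem_insert, Finset.mem_Icc] at hj
        exact Cmod_ne_top hX hc hn hk hpk (by omega) (by omega))
      (lt_of_le_of_lt (Finset.card_insert_le _ _) (by simp only [Nat.card_Icc]; omega))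
    have hwm := pow_mem_gf hX hc hn hk hpk w (fun j hj2 hjp hjn => hw j
      (Finset.mem_insert_of_mem (Finset.mem_Icc.mpr ⟨hj2, by omega⟩))) _ le_rfl
    have hwi := hw (i - 1) (Finset.mem_insert_self _ _)
    rw [mem_Cmod] at hwi
    push Not at hwi
    obtain ⟨z, hz, hzw⟩ := hwi
    rw [show i - 1 + 2 = i + 1 by omega] at hzw
    set y := ⁅z, w⁆ with hy_def
    have hy : y ∈ Gf X i := by
      have h := commutator_mem_Gf hz (show w ∈ Gf X 1 from mem_top w)
      rwa [show i - 1 + 1 = i by omega] at h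
    have hzc : z * w ^ p * z⁻¹ = w ^ p := by
      have h := commutator_mem_Gf hz hwm
      rw [gf_bot hX hc (show n ≤ i - 1 + min p (n - 1) by omega), mem_bot,
        commutatorElement_eq_one_iff_mul_comm] at h
      rw [h, mul_inv_cancel_right]
    have hconj : (y * w) ^ p = w ^ p := by
      have : y * w = z * w * z⁻¹ := by rw [hy_def, commutatorElement_def]; group
      rw [this, conj_pow, hzc]
    let H := closure ({y, w} : Set X)
    have hyH : y ∈ H := subset_closure (by simp)
    have hwH : w ∈ H := subset_closure (by simp)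
    have hmap : ∀ j, 2 ≤ j → ∀ a ∈ Gf H j, (a : X) ∈ Gf X (i + (j - 1)) := fun j hj a ha => by
      have h := lcs_closure_le hX hc (i := i) (by omega) (w := w) hy (j - 2) (mem_map_of_mem _
        (show a ∈ (⊤ : Subgroup H).lowerCentralSeries (j - 2 + 1) by
          rw [show j - 2 + 1 = j - 1 by omega]; exact ha))
      rwa [show i + (j - 2 + 1) = i + (j - 1) by omega] at h
    have hbot : Gf H n = ⊥ := by
      rw [eq_bot_iff]
      intro a ha
      have h := hmap n (by omega) a ha
      rw [gf_bot hX hc (by omega), mem_bot] at h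
      exact mem_bot.mpr (Subtype.ext h)
    obtain ⟨a, ha, ha0, ha1, hHP⟩ := PGroupsHallPetrescu.hall_petrescu
      (G := H) ⟨y, hyH⟩ ⟨w, hwH⟩ hbot
    have hprod : ((List.range n).map fun j => a j ^ p.choose j).prod = 1 := by
      refine List.prod_eq_one fun u hu => ?_
      obtain ⟨j, -, rfl⟩ := List.mem_map.mp hu
      rcases Nat.lt_or_ge j 2 with h | h
      · obtain rfl | rfl : j = 0 ∨ j = 1 := by omega
        · rw [ha0, one_pow]
        · rw [ha1, one_pow]
      rcases Nat.lt_trichotomy j p with h' | h' | h'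
      · obtain ⟨c, hc'⟩ := hp.out.dvd_choose_self (show j ≠ 0 by omega) h'
        rw [hc', pow_mul]
        have := ihi _ (Gf_antitone (show i + 1 ≤ i + (j - 1) by omega) (hmap j h _ (ha j)))
        rw [show a j ^ p = 1 from Subtype.ext (by rw [SubmonoidClass.coe_pow, this]; rfl), one_pow]
      · subst h'
        have := hmap j h _ (ha j)
        rw [gf_bot hX hc (by omega), mem_bot] at this
        rw [show a j = 1 from Subtype.ext this, one_pow]
      · rw [Nat.choose_eq_zero_of_lt h', pow_zero]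
    have hyp : y ^ p = 1 := by
      have h := congrArg Subtype.val (hHP p)
      rw [hprod, mul_one] at h
      simp only [SubmonoidClass.coe_pow, Subgroup.coe_mul] at h
      rw [hconj] at h
      exact mul_eq_right.mp h.symm
    let E : Subgroup X :=
      { carrier := {u | u ∈ Gf X i ∧ u ^ p = 1}
        mul_mem' := fun {u v} hu hv => ⟨mul_mem hu.1 hv.1, by
          rw [(show Commute u v from gf_comm hX hc hn hk hpk (Gf_antitone hi.1 hu.1)
            (Gf_antitone hi.1 hv.1)).mul_pow, hu.2, hv.2, one_mul]⟩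
        one_mem' := ⟨one_mem _, one_pow p⟩
        inv_mem' := fun {u} hu => ⟨inv_mem hu.1, by rw [inv_pow, hu.2, inv_one]⟩ }
    have hE := eq_of_mem_of_notMem hX hc (by omega) (show 2 ≤ i by omega) hi.2 (K := E)
      (fun u hu => ⟨Gf_antitone (Nat.le_succ i) hu, ihi u hu⟩) (a := y) ⟨hy, hyp⟩ hy hzw
    exact fun u hu => (hE hu).2

end climb

theorem card_comap_of_surjective {G G' : Type*} [Group G] [Group G'] [Finite G] {f : G →* G'}
    (hf : Function.Surjective f) {K : Subgroup G'} :
    Nat.card (K.comap f) = Nat.card K * Nat.card f.ker := by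
  have := Finite.of_surjective f hf
  have h1 := card_mul_index (K.comap f)
  have h2 := card_mul_index K
  have h3 := card_mul_index f.ker
  rw [index_comap_of_surjective K hf] at h1
  rw [index_ker, MonoidHom.range_eq_top.mpr hf, card_top, ← h2, ← h1] at h3
  refine Nat.eq_of_mul_eq_mul_right (Nat.pos_of_ne_zero (index_ne_zero_of_finite (H := K))) ?_
  rw [← h3]; ring

theorem exists_big_section {p k : ℕ} [hp : Fact p.Prime] (hk : 1 ≤ k) (hpk : k + 2 ≤ p) :
    ∀ (n : ℕ) (X : Type*) [Group X] [Finite X], Nat.card X = p ^ n →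
      Group.nilpotencyClass X = n - 1 → 2 * k + 1 ≤ n →
      ∃ H N : Subgroup X, N ≤ H ∧ (∀ a ∈ H, ∀ b ∈ H, ⁅a, b⁆ ∈ N) ∧ (∀ a ∈ H, a ^ p ∈ N) ∧
        Nat.card H = p ^ (k + 1) * Nat.card N := by
  intro n
  induction n using Nat.strong_induction_on with
  | _ n ih =>
    intro X _ _ hX hc hn
    rcases Nat.eq_or_lt_of_le hn with rfl | hlt
    · rcases Nat.eq_or_lt_of_le hk with rfl | hk2
      · refine ⟨⊤, Gf X 2, le_top, fun a _ b _ => commutator_mem_Gf (i := 1) (j := 1) (mem_top a)
          (mem_top b), fun a _ => pow_mem_gf_two hX hc (by omega) a, ?_⟩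
        rw [card_top, hX, card_gf hX hc (by omega) le_rfl (by omega), ← pow_add]
      · refine ⟨Gf X k, ⊥, bot_le, fun a ha b hb => ?_, fun a ha => ?_, ?_⟩
        · rw [mem_bot, commutatorElement_eq_one_iff_mul_comm]
          exact gf_comm hX hc rfl hk2 hpk ha hb
        · rw [mem_bot]
          exact exp_gf hX hc rfl hk2 hpk (k + 1) (by omega) a (by
            rwa [show 2 * k + 1 - (k + 1) = k by omega])
        · rw [card_bot, mul_one, card_gf hX hc (by omega) hk2 (by omega),
            show 2 * k + 1 - k = k + 1 by omega]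
    · obtain ⟨-, hQ, hQc, -⟩ := MaxClassTwo.center_of_maxClass (by omega) hX hc
      obtain ⟨H, N, hNH, hcomm, hpow, hcard⟩ :=
        ih (n - 1) (by omega) (X ⧸ center X) hQ (by rw [hQc]; omega) (by omega)
      refine ⟨H.comap (QuotientGroup.mk' _), N.comap (QuotientGroup.mk' _), comap_mono hNH,
        fun a ha b hb => ?_, fun a ha => ?_, ?_⟩
      · rw [mem_comap, map_commutatorElement]; exact hcomm _ ha _ hb
      · rw [mem_comap, map_pow]; exact hpow _ ha
      · rw [card_comap_of_surjective (QuotientGroup.mk'_surjective _),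
          card_comap_of_surjective (QuotientGroup.mk'_surjective _), hcard, mul_assoc]

theorem result {S : Type*} [Group S] [Finite S] (p : ℕ) [Fact p.Prime] (hS : IsPGroup p S) [Group.IsNilpotent S]
    (n : ℕ) (hn : 2 ≤ n) (hcard : Nat.card S = p ^ n) (hmax : Group.nilpotencyClass S = n - 1)
    (k : ℕ) (hk : 1 ≤ k) (hsr : Cfsg.SectionalPRankLE p k S ∧ ¬ Cfsg.SectionalPRankLE p (k - 1) S)
    (hpk : k + 2 ≤ p) : Nat.card S ≤ p ^ (2 * k) := by
  by_contra hlt
  rw [hcard, not_le] at hlt
  have hn' := (Nat.pow_lt_pow_iff_right (Fact.out : p.Prime).one_lt).mp hlt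
  obtain ⟨H, N, hNH, hcomm, hpow, hHN⟩ := exists_big_section hk hpk n S hcard hmax (by omega)
  have hnorm : (N.subgroupOf H).Normal := by
    refine ⟨fun a ha g => ?_⟩
    have h := mul_mem (hcomm g g.2 a a.2) (mem_subgroupOf.mp ha)
    rw [mem_subgroupOf]
    simpa [commutatorElement_def, mul_assoc] using h
  have hA : IsMulCommutative (⊤ : Subgroup (H ⧸ N.subgroupOf H)) := by
    refine PGroupsBasic.isMulCommutative_of_forall fun a _ b _ => ?_
    obtain ⟨a, rfl⟩ := QuotientGroup.mk_surjective a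
    obtain ⟨b, rfl⟩ := QuotientGroup.mk_surjective b
    exact (comm_mem_iff _ a b).mp (mem_subgroupOf.mpr (hcomm _ a.2 _ b.2))
  have h := hsr.1 H (N.subgroupOf H) ⊤ hA fun a _ => by
    obtain ⟨a, rfl⟩ := QuotientGroup.mk_surjective a
    rw [← QuotientGroup.mk_pow, QuotientGroup.eq_one_iff, mem_subgroupOf]
    exact hpow _ a.2
  have hq := card_eq_card_quotient_mul_card_subgroup (N.subgroupOf H)
  rw [Nat.card_congr (subgroupOfEquivOfLe hNH).toEquiv, hHN] at hq
  rw [card_top, ← Nat.eq_of_mul_eq_mul_right Nat.card_pos hq] at h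
  have := (Nat.pow_le_pow_iff_right (Fact.out : p.Prime).one_lt).mp h
  omega

end Cfsg.Agent.S3806
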