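import Cfsg.Statements.S4667
import Mathlib
import Cfsg.Agent.Lib.BlockTheoryIdem
-- import your own Cfsg.Agent.* helpers here

set_option autoImplicit false
open Cfsg

namespace Cfsg.Agent.S4667

open Cfsg.Agent.BlockTheoryCentre Cfsg.Agent.BlockTheoryIdem
open scoped ComplexConjugate

attribute [local instance] Classical.propDecidable

variable {G : Type*} [Group G] [Fintype G]

noncomputable def kern (B : Set (Cfsg.IrrCharacter G)) (x y : G) : ℂ :=
  ∑ χ : Cfsg.IrrCharacter G, if χ ∈ B then (χ : G → ℂ) x * conj ((χ : G → ℂ) y) else 0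

noncomputable def regProj (p : ℕ) (B : Set (Cfsg.IrrCharacter G)) : (G → ℂ) →ₗ[ℂ] (G → ℂ) where
  toFun f x := (Nat.card G : ℂ)⁻¹ * ∑ y, Cfsg.pRegularPart p f y * kern B x y
  map_add' f g := by
    funext x
    simp only [Cfsg.pRegularPart, Pi.add_apply, ← mul_add, ← Finset.sum_add_distrib]
    congr 1
    exact Finset.sum_congr rfl fun y _ => by split_ifs <;> ring
  map_smul' c f := by
    funext x
    simp only [Cfsg.pRegularPart, Pi.smul_apply, smul_eq_mul, RingHom.id_apply, Finset.mul_sum]
    exact Finset.sum_congr rfl fun y _ => by split_ifs <;> ring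

theorem regProj_apply (p : ℕ) (B : Set (Cfsg.IrrCharacter G)) (f : G → ℂ) (x : G) :
    regProj p B f x = (Nat.card G : ℂ)⁻¹ * ∑ y, Cfsg.pRegularPart p f y * kern B x y := rfl

theorem kern_swap (B : Set (Cfsg.IrrCharacter G)) (x y : G) : kern B x y = conj (kern B y x) := by
  simp only [kern, map_sum]
  refine Finset.sum_congr rfl fun χ _ => ?_
  split_ifs <;> simp [mul_comm]

theorem regProj_singular {p : ℕ} {M : Ideal Cfsg.AlgInt} (hM : Cfsg.IsPModular p M)
    {B : Set (Cfsg.IrrCharacter G)} (hB : Cfsg.IsPBlock M B) (f : G → ℂ) {x : G}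
    (hx : ¬ Cfsg.IsPRegular p x) : regProj p B f x = 0 := by
  rw [regProj_apply]
  rw [Finset.sum_eq_zero fun y _ => ?_, mul_zero]
  simp only [Cfsg.pRegularPart]
  split_ifs with hy
  · rw [kern_swap, show kern B y x = 0 from weak_orthogonality hM hB hy (not_not.mp hx), map_zero,
      mul_zero]
  · exact zero_mul _

theorem regProj_irr {p : ℕ} {M : Ideal Cfsg.AlgInt} (hM : Cfsg.IsPModular p M)
    {B : Set (Cfsg.IrrCharacter G)} (hB : Cfsg.IsPBlock M B) {χ : Cfsg.IrrCharacter G}
    (hχ : χ ∈ B) : regProj p B (χ : G → ℂ) = Cfsg.pRegularPart p (χ : G → ℂ) := by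
  funext x
  by_cases hx : Cfsg.IsPRegular p x
  · rw [show Cfsg.pRegularPart p (χ : G → ℂ) x = (χ : G → ℂ) x from if_pos hx]
    rw [regProj_apply]
    have h1 : ∀ y, Cfsg.pRegularPart p (χ : G → ℂ) y * kern B x y = (χ : G → ℂ) y * kern B x y := by
      intro y
      simp only [Cfsg.pRegularPart]
      split_ifs with hy
      · rfl
      · rw [show kern B x y = 0 from weak_orthogonality hM hB hx (not_not.mp hy)]; ring
    rw [Finset.sum_congr rfl fun y _ => h1 y]
    simp only [kern, Finset.mul_sum]
    rw [Finset.sum_comm, Finset.sum_eq_single χ]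
    · simp only [if_pos hχ]
      have h2 := CharBasicOrth.classInner_irr_self (G := G) χ.2
      rw [Cfsg.classInner] at h2
      calc _ = (χ : G → ℂ) x * ((Nat.card G : ℂ)⁻¹ * ∑ y, (χ : G → ℂ) y * conj ((χ : G → ℂ) y)) := by
            rw [Finset.mul_sum, Finset.mul_sum]
            exact Finset.sum_congr rfl fun y _ => by ring
        _ = _ := by rw [h2, mul_one]
    · intro ψ _ hne
      by_cases hψ : ψ ∈ B
      · simp only [if_pos hψ]
        have h2 := CharBasicOrth.classInner_irr_ne (G := G) χ.2 ψ.2 fun h => hne (Subtype.ext h.symm)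
        rw [Cfsg.classInner] at h2
        calc _ = (ψ : G → ℂ) x * ((Nat.card G : ℂ)⁻¹ * ∑ y, (χ : G → ℂ) y * conj ((ψ : G → ℂ) y)) := by
              rw [Finset.mul_sum, Finset.mul_sum]
              exact Finset.sum_congr rfl fun y _ => by ring
          _ = _ := by rw [h2, mul_zero]
      · simp [hψ]
    · simp
  · rw [regProj_singular hM hB _ hx]
    exact (if_neg hx).symm


/-- Fix a prime p and a maximal ideal M of the algebraic integers containing p, and a p-block B of the finite group G. The p-regular rank of B (the number of irreducible Brauer characters in B) times the order of G equals the sum over the p-regular elements x of G of Σ_{χ ∈ B} χ(x) χ(x⁻¹) (written with the restriction of χ to p-regular elements, which vanishes at p-singular x). -/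
theorem result {G : Type*} [Group G] [Fintype G] (p : ℕ) [Fact p.Prime] (M : Ideal Cfsg.AlgInt) (hM : Cfsg.IsPModular p M) (B : Set (Cfsg.IrrCharacter G)) (hB : Cfsg.IsPBlock M B) : (Nat.card G : ℂ) * (Cfsg.blockRank p B : ℂ) = ∑ x : G, ∑ᶠ χ ∈ B, Cfsg.pRegularPart p (χ : G → ℂ) x * (χ : G → ℂ) x⁻¹ := by
  set W := Submodule.span ℂ ((fun χ : Cfsg.IrrCharacter G => Cfsg.pRegularPart p (χ : G → ℂ)) '' B)
  have hreg : ∀ f : G → ℂ, Cfsg.pRegularPart p (regProj p B f) = regProj p B f := by
    intro f; funext x
    by_cases hx : Cfsg.IsPRegular p x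
    · exact if_pos hx
    · rw [regProj_singular hM hB f hx]; exact if_neg hx
  have hproj : LinearMap.IsProj W (regProj p B) := by
    refine ⟨fun f => ?_, fun f hf => ?_⟩
    · rw [← hreg f]
      set a : Cfsg.IrrCharacter G → ℂ := fun χ =>
        (Nat.card G : ℂ)⁻¹ * ∑ y, Cfsg.pRegularPart p f y * conj ((χ : G → ℂ) y)
      have he : Cfsg.pRegularPart p (regProj p B f) = ∑ χ : Cfsg.IrrCharacter G,
          if χ ∈ B then a χ • Cfsg.pRegularPart p (χ : G → ℂ) else 0 := by
        funext x
        rw [Finset.sum_apply]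
        by_cases hx : Cfsg.IsPRegular p x
        · simp only [Cfsg.pRegularPart, if_pos hx]
          rw [regProj_apply]
          simp only [kern, Finset.mul_sum]
          rw [Finset.sum_comm]
          refine Finset.sum_congr rfl fun χ _ => ?_
          split_ifs
          · simp only [a, Pi.smul_apply, smul_eq_mul, Finset.mul_sum, Finset.sum_mul, if_pos hx]
            exact Finset.sum_congr rfl fun y _ => by simp only [Cfsg.pRegularPart, if_pos hx]; ring
          · simp
        · rw [show Cfsg.pRegularPart p (regProj p B f) x = 0 from if_neg hx]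
          symm
          refine Finset.sum_eq_zero fun χ _ => ?_
          split_ifs <;> simp [Cfsg.pRegularPart, hx]
      rw [he]
      refine Submodule.sum_mem _ fun χ _ => ?_
      split_ifs with h
      · exact Submodule.smul_mem _ _ (Submodule.subset_span ⟨χ, h, rfl⟩)
      · exact zero_mem _
    · refine Submodule.span_induction ?_ ?_ ?_ ?_ hf
      · rintro _ ⟨χ, hχ, rfl⟩
        funext x
        refine Eq.trans ?_ (congrFun (regProj_irr hM hB hχ) x)
        rw [regProj_apply, regProj_apply]
        congr 1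
        refine Finset.sum_congr rfl fun y _ => ?_
        simp only [Cfsg.pRegularPart]
        split_ifs <;> rfl
      · exact map_zero _
      · intro u v _ _ hu hv; rw [map_add, hu, hv]
      · intro c u _ hu; rw [map_smul, hu]
  have htr := hproj.trace
  rw [LinearMap.trace_eq_matrix_trace ℂ (Pi.basisFun ℂ G), Matrix.trace] at htr
  show (Nat.card G : ℂ) * (Module.finrank ℂ W : ℂ) = _
  rw [← htr, Finset.mul_sum]
  refine Finset.sum_congr rfl fun x _ => ?_
  rw [Matrix.diag_apply, LinearMap.toMatrix_apply, Pi.basisFun_apply, Pi.basisFun_repr,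
    BlockTheoryIdem.finsum_mem_eq_sum, regProj_apply]
  rw [← mul_assoc, mul_inv_cancel₀ (Nat.cast_ne_zero.mpr Nat.card_pos.ne'), one_mul,
    Finset.sum_eq_single x]
  · simp only [Cfsg.pRegularPart, Pi.single_eq_same]
    split_ifs
    · rw [one_mul, kern]
      refine Finset.sum_congr rfl fun χ _ => ?_
      rw [irr_inv]
    · simp
  · intro y _ hy
    simp [Cfsg.pRegularPart, Pi.single_eq_of_ne hy]
  · simp

end Cfsg.Agent.S4667
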