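import Cfsg.Statements.S4428
import Cfsg.Agent.Lib.BlockTheoryInduced
import Cfsg.Agent.Lib.BlockContrib
import Cfsg.Agent.Lib.PrincipalSylow80
import Cfsg.Agent.Lib.CharInducedBasic

set_option autoImplicit false
open Cfsg

namespace Cfsg.Agent.S4428
open Cfsg.Agent.BlockTheoryLocalRing Cfsg.Agent.BlockTheoryCentre Cfsg.Agent.BlockTheoryIdem
open Cfsg.Agent.BlockTheoryBrauer
open scoped ComplexConjugate

attribute [local instance] Classical.propDecidable



/-- Let χ be an irreducible character of height zero in the p-block B of the finite group G (relative to a maximal ideal M of the algebraic integers containing p). Let x be a p-element of G with centralizer C, and let b be a block of C that induces B. Form the class function ϑ(c) = χ(x c) on C and its b-part (the sum over ψ ∈ b of the inner product of ϑ with ψ, times ψ). Then the b-part of ϑ does not vanish identically on the p-regular elements of C. (Compare the second main Theorem, which gives vanishing when b does not induce B.) -/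
theorem result {G : Type*} [Group G] [Finite G] (p : ℕ) [Fact p.Prime] (M : Ideal Cfsg.AlgInt) (hM : Cfsg.IsPModular p M) (B : Set (Cfsg.IrrCharacter G)) (hB : Cfsg.IsPBlock M B) (χ : Cfsg.IrrCharacter G) (hχ : χ ∈ B) (h0 : Cfsg.blockHeight p B (χ : G → ℂ) = 0) (x : G) (hx : ∃ k : ℕ, orderOf x = p ^ k) (b : Set (Cfsg.IrrCharacter (Subgroup.centralizer ({x} : Set G)))) (hb : Cfsg.IsInducedBlock M (Subgroup.centralizer ({x} : Set G)) b B) : ∃ y : Subgroup.centralizer ({x} : Set G), ¬ p ∣ orderOf y ∧ Cfsg.blockPart b (fun c : Subgroup.centralizer ({x} : Set G) => (χ : G → ℂ) (x * (c : G))) y ≠ 0 := by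
  classical
  haveI := Fintype.ofFinite G
  haveI : Fintype ↥(Subgroup.centralizer ({x} : Set G)) := Fintype.ofFinite ↥(Subgroup.centralizer ({x} : Set G))
  obtain ⟨ξ, hξ⟩ := block_nonempty hM hb.1
  by_contra hcon
  push Not at hcon
  set z : MonoidAlgebra ℂ G := ofFun fun g => if p ∣ orderOf g then 0 else (χ : G → ℂ) g⁻¹ with hz
  have hord : ∀ g h : G, orderOf (h * g * h⁻¹) = orderOf g := fun g h =>
    orderOf_injective (MulAut.conj h).toMonoidHom (MulAut.conj h).injective g
  have hzc : IsCen z := fun g h => by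
    simp only [hz, coeff_ofFun, hord]
    rw [show (h * g * h⁻¹)⁻¹ = h * g⁻¹ * h⁻¹ by group, irr_classFun χ g⁻¹ h]
  have hint : ∀ g : G, MemLocalRing M ((χ : G → ℂ) g) := fun g =>
    of_isIntegral hM (CharBasic.isCharacter_integral (CharBasic.isCharacter_of_isIrrCharacter χ.2) g)
  have hzi : IsInt M z := fun g => by
    simp only [hz, coeff_ofFun]
    split_ifs
    exacts [(localRing hM).zero_mem, hint _]
  have hne : ¬ MemLocalIdeal M (omega (χ : G → ℂ) z) := by
    have h1 : omega (χ : G → ℂ) z = BlockContrib.pair p (χ : G → ℂ) χ / (χ : G → ℂ) 1 := by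
      rw [omega_apply, chiSum_apply, BlockContrib.pair, BlockContrib.regSum_eq, div_eq_inv_mul]
      congr 1
      refine Finset.sum_congr rfl fun g _ => ?_
      simp only [hz, coeff_ofFun, irr_inv]
      by_cases hg : p ∣ orderOf g <;> simp [hg]
    rw [h1, BlockContrib.pair_div_mem_iff hM χ hχ]
    exact BlockContrib.contrib_not_dvd hM hB hχ h0 hχ
  set f : ↥(Subgroup.centralizer ({x} : Set G)) → ℂ := fun c => (χ : G → ℂ) (x * (c : G)) with hf
  have hfc : Cfsg.IsClassFunction ↥(Subgroup.centralizer ({x} : Set G)) f := fun a h => by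
    simp only [hf, Subgroup.coe_mul, Subgroup.coe_inv]
    have hx' : x * (h : G) = (h : G) * x := (Subgroup.mem_centralizer_singleton_iff.mp h.2).symm
    rw [show x * ((h : G) * a * (h : G)⁻¹) = (h : G) * (x * a) * (h : G)⁻¹ by
      rw [← mul_assoc, ← mul_assoc, hx']; group]
    exact irr_classFun χ _ _
  set z' : MonoidAlgebra ℂ ↥(Subgroup.centralizer ({x} : Set G)) := ofFun fun c => if p ∣ orderOf c then 0 else f c⁻¹ with hz'
  have hz'c : IsCen z' := fun a h => by
    have ho : orderOf (h * a * h⁻¹) = orderOf a :=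
      orderOf_injective (MulAut.conj h).toMonoidHom (MulAut.conj h).injective a
    simp only [hz', coeff_ofFun, ho]
    rw [show (h * a * h⁻¹)⁻¹ = h * a⁻¹ * h⁻¹ by group, hfc a⁻¹ h]
  have hsmall : Small M (z' - res (Subgroup.centralizer ({x} : Set G)) z) := by
    intro c
    rw [MonoidAlgebra.coeff_sub, Finsupp.coe_sub, Pi.sub_apply, coeff_res]
    simp only [hz, hz', coeff_ofFun, Subgroup.orderOf_coe]
    split_ifs
    · rw [sub_self]; exact ideal_zero hM
    · rw [← Subgroup.coe_inv]
      exact PrincipalSylow80.char_mul_congr hM (CharBasic.isCharacter_of_isIrrCharacter χ.2) hx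
        ((Subgroup.mem_centralizer_singleton_iff.mp (c⁻¹).2).symm)
  have hne' : ¬ MemLocalIdeal M (omega (ξ : ↥(Subgroup.centralizer ({x} : Set G)) → ℂ) z') := by
    intro h
    refine hne ?_
    have h1 := omega_ideal_of_small hM ξ (hz'c.sub (isCen_res (Subgroup.centralizer ({x} : Set G)) hzc)) hsmall
    rw [map_sub] at h1
    have h2 := BlockTheoryInduced.inducedBlock_congr (Subgroup.centralizer ({x} : Set G)) hM hb hξ hχ hzc hzi
    have := ideal_sub hM (ideal_sub hM h h1) h2
    simpa using this
  apply hne'
  have hzero : ∑ c : ↥(Subgroup.centralizer ({x} : Set G)), z'.coeff c * (ξ : ↥(Subgroup.centralizer ({x} : Set G)) → ℂ) c = 0 := by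
    have h1 : ∑ c : ↥(Subgroup.centralizer ({x} : Set G)), z'.coeff c * (ξ : ↥(Subgroup.centralizer ({x} : Set G)) → ℂ) c =
        ∑ c : ↥(Subgroup.centralizer ({x} : Set G)), if p ∣ orderOf c then 0 else f c * conj ((ξ : ↥(Subgroup.centralizer ({x} : Set G)) → ℂ) c) := by
      refine Fintype.sum_equiv (Equiv.inv ↥(Subgroup.centralizer ({x} : Set G))) _ _ fun c => ?_
      simp only [hz', coeff_ofFun, Equiv.inv_apply, orderOf_inv]
      rw [irr_inv, Complex.conj_conj, ite_mul, zero_mul]
    have h2 : ∀ c : ↥(Subgroup.centralizer ({x} : Set G)), f c =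
        ∑ θ : Cfsg.IrrCharacter ↥(Subgroup.centralizer ({x} : Set G)), Cfsg.classInner f (θ : ↥(Subgroup.centralizer ({x} : Set G)) → ℂ) * (θ : ↥(Subgroup.centralizer ({x} : Set G)) → ℂ) c := fun c => by
      conv_lhs => rw [CharBasicOrth.eq_sum_classInner hfc]
      simp [Finset.sum_apply]
    rw [h1]
    calc ∑ c : ↥(Subgroup.centralizer ({x} : Set G)), (if p ∣ orderOf c then 0 else f c * conj ((ξ : ↥(Subgroup.centralizer ({x} : Set G)) → ℂ) c))
        = ∑ c : ↥(Subgroup.centralizer ({x} : Set G)), (if p ∣ orderOf c then 0 else ∑ θ : Cfsg.IrrCharacter ↥(Subgroup.centralizer ({x} : Set G)),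
            if θ ∈ b then 0
            else Cfsg.classInner f (θ : ↥(Subgroup.centralizer ({x} : Set G)) → ℂ) * (θ : ↥(Subgroup.centralizer ({x} : Set G)) → ℂ) c * conj ((ξ : ↥(Subgroup.centralizer ({x} : Set G)) → ℂ) c)) := by
          refine Finset.sum_congr rfl fun c _ => ?_
          split_ifs with hc
          · rfl
          have hb0 := hcon c hc
          unfold Cfsg.blockPart at hb0
          simp only [BlockTheoryIdem.finsum_mem_eq_sum] at hb0
          have key : ∀ a : ℂ, a = 0 → (∑ θ : Cfsg.IrrCharacter ↥(Subgroup.centralizer ({x} : Set G)),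
              Cfsg.classInner f (θ : ↥(Subgroup.centralizer ({x} : Set G)) → ℂ) * (θ : ↥(Subgroup.centralizer ({x} : Set G)) → ℂ) c) * conj ((ξ : ↥(Subgroup.centralizer ({x} : Set G)) → ℂ) c) =
              ((∑ θ : Cfsg.IrrCharacter ↥(Subgroup.centralizer ({x} : Set G)),
              Cfsg.classInner f (θ : ↥(Subgroup.centralizer ({x} : Set G)) → ℂ) * (θ : ↥(Subgroup.centralizer ({x} : Set G)) → ℂ) c) - a) * conj ((ξ : ↥(Subgroup.centralizer ({x} : Set G)) → ℂ) c) :=
            fun a ha => by rw [ha, sub_zero]
          rw [h2 c, key _ hb0, ← Finset.sum_sub_distrib, Finset.sum_mul]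
          refine Finset.sum_congr rfl fun θ _ => ?_
          split_ifs
          · rw [show Cfsg.classInner f = @Cfsg.classInner _ _ _ f from rfl]
            refine mul_eq_zero.mpr (Or.inl (sub_eq_zero.mpr ?_))
            congr 1
            exact CharInduced.inner_inst_irrel _ _ _ _
          · rw [sub_zero]
      _ = ∑ θ : Cfsg.IrrCharacter ↥(Subgroup.centralizer ({x} : Set G)), (if θ ∈ b then 0
            else Cfsg.classInner f (θ : ↥(Subgroup.centralizer ({x} : Set G)) → ℂ) * BlockContrib.pair p (ξ : ↥(Subgroup.centralizer ({x} : Set G)) → ℂ) θ) := by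
          simp only [BlockContrib.pair, BlockContrib.regSum_eq, Finset.mul_sum]
          calc _ = ∑ c : ↥(Subgroup.centralizer ({x} : Set G)), ∑ θ : Cfsg.IrrCharacter ↥(Subgroup.centralizer ({x} : Set G)),
                (if θ ∈ b then 0 else Cfsg.classInner f (θ : _ → ℂ) *
                  (if ¬ p ∣ orderOf c then conj ((ξ : _ → ℂ) c) * (θ : _ → ℂ) c else 0)) := by
                refine Finset.sum_congr rfl fun c _ => ?_
                by_cases hc : p ∣ orderOf c
                · simp [hc]
                · rw [if_neg hc]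
                  refine Finset.sum_congr rfl fun θ _ => ?_
                  rw [if_pos hc]
                  split_ifs <;> ring
            _ = _ := by
                rw [Finset.sum_comm]
                refine Finset.sum_congr rfl fun θ _ => ?_
                split_ifs <;> simp
      _ = 0 := Finset.sum_eq_zero fun θ _ => by
          split_ifs with hθ
          · rfl
          · rw [BlockContrib.pair_eq_zero hM hb.1 hξ hθ, mul_zero]
  rw [omega_apply, chiSum_apply, hzero, mul_zero]
  exact ideal_zero hM

end Cfsg.Agent.S4428
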