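import Mathlib
import Cfsg.Statements.S0165
import Cfsg.Agent.Lib.BrauerInduction
import Cfsg.Agent.Lib.CharBasicInt
import Cfsg.Agent.Lib.HallNilpotentConj

set_option autoImplicit false
open Cfsg

namespace Cfsg.Agent.S0165

open Cfsg.Agent.CharBasic Cfsg.Agent.CharBasicOrth Cfsg.Agent.CharBasicDecomp
open scoped ComplexConjugate

theorem isIntegral_div_of_commute {G : Type*} [Group G] [Finite G] {V : Type*} [AddCommGroup V]
    [Module ℂ V] [FiniteDimensional ℂ V] (ρ : Representation ℂ G V) [ρ.IsIrreducible]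
    {p n : ℕ} (hp : p.Prime) (hn : p ^ n ∣ Nat.card G) (hn' : ¬ p ^ (n + 1) ∣ Nat.card G)
    (hdeg : p ^ n ∣ Module.finrank ℂ V) (A : Subgroup G) (hA : IsPGroup p A) {q : G}
    (hq : ∀ a ∈ A, a * q = q * a) :
    IsIntegral ℤ (ρ.character q / (Nat.card A : ℂ)) := by
  have := Fintype.ofFinite G
  haveI := Fact.mk hp
  obtain ⟨d, hd⟩ := hdeg
  obtain ⟨m, hm⟩ := hn
  have hcop : Nat.Coprime (Nat.card A) m := by
    obtain ⟨j, hj⟩ := hA.exists_card_eq
    rw [hj]
    exact Nat.Coprime.pow_left j ((Nat.Prime.coprime_iff_not_dvd hp).2 fun ⟨c, hc⟩ =>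
      hn' ⟨c, by rw [hm, hc]; ring⟩)
  obtain ⟨c, hc⟩ : Nat.card A ∣ Nat.card (Subgroup.centralizer ({q} : Set G)) :=
    Subgroup.card_dvd_of_le fun a ha => Subgroup.mem_centralizer_singleton_iff.2 (hq a ha)
  set C := Subgroup.centralizer ({q} : Set G)
  have hω := CharBasicInt.isIntegral_classSum ρ q
  have hV : (Module.finrank ℂ V : ℂ) ≠ 0 :=
    Nat.cast_ne_zero.2 (finrank_pos_of_irreducible ρ).ne'
  have hcard : ((C.index : ℂ)) * ((Nat.card A : ℂ) * c) = (p : ℂ) ^ n * m := by
    have h := C.index_mul_card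
    rw [hm, hc] at h
    exact_mod_cast h
  have hA0 : (Nat.card A : ℂ) ≠ 0 := Nat.cast_ne_zero.2 Nat.card_pos.ne'
  have h1 : IsIntegral ℤ ((m : ℂ) * ρ.character q / (Nat.card A : ℂ)) := by
    have hd' : (Module.finrank ℂ V : ℂ) = (p : ℂ) ^ n * d := by rw [hd]; push_cast; rfl
    have hp0 : (p : ℂ) ≠ 0 := Nat.cast_ne_zero.2 hp.ne_zero
    have hd0 : (d : ℂ) ≠ 0 := fun h => hV (by rw [hd', h, mul_zero])
    have e : (m : ℂ) * ρ.character q / (Nat.card A : ℂ) =
        (C.index : ℂ) * ρ.character q / (Module.finrank ℂ V : ℂ) * (((c * d : ℕ) : ℤ) : ℂ) := by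
      rw [hd']
      push_cast
      field_simp
      linear_combination -(ρ.character q) * hcard
    rw [e]
    exact hω.mul (isIntegral_algebraMap (R := ℤ) (A := ℂ) (x := ((c * d : ℕ) : ℤ)))
  have h3 := CharBasic.isIntegral_character ρ q
  have hbez := Nat.gcd_eq_gcd_ab (Nat.card A) m
  rw [hcop.gcd_eq_one] at hbez
  have hbez' : (1 : ℂ) = (Nat.card A : ℂ) * (Nat.gcdA (Nat.card A) m : ℂ) +
      (m : ℂ) * (Nat.gcdB (Nat.card A) m : ℂ) := by exact_mod_cast hbez
  have h4 := ((h3.mul (isIntegral_algebraMap (R := ℤ) (A := ℂ) (x := Nat.gcdA (Nat.card A) m))).add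
    (h1.mul (isIntegral_algebraMap (R := ℤ) (A := ℂ) (x := Nat.gcdB (Nat.card A) m))))
  have e2 : ρ.character q / (Nat.card A : ℂ) =
      ρ.character q * (Nat.gcdA (Nat.card A) m : ℂ) +
        (m : ℂ) * ρ.character q / (Nat.card A : ℂ) * (Nat.gcdB (Nat.card A) m : ℂ) := by
    field_simp
    linear_combination (ρ.character q) * hbez'
  rw [e2]
  exact h4

/-- If p ^ n is the exact power of the prime p dividing the order of a finite group and p ^ n divides the degree of an irreducible complex representation, then its character vanishes at every element of order divisible by p. -/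
theorem result {G : Type*} [Group G] [Finite G] {V : Type*} [AddCommGroup V] [Module ℂ V] [FiniteDimensional ℂ V] (ρ : Representation ℂ G V) [ρ.IsIrreducible] (p n : ℕ) (hp : p.Prime) (hn : p ^ n ∣ Nat.card G) (hn' : ¬ p ^ (n + 1) ∣ Nat.card G) (hdeg : p ^ n ∣ Module.finrank ℂ V) (x : G) (hx : p ∣ orderOf x) : ρ.character x = 0 := by
  classical
  haveI := Fintype.ofFinite G
  haveI := Fact.mk hp
  let θ : G → ℂ := fun g => if Nat.Coprime (orderOf g) p then ρ.character g else 0
  have hθcl : Cfsg.IsClassFunction G θ := by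
    intro g h
    simp only [θ]
    rw [show orderOf (h * g * h⁻¹) = orderOf g from
      orderOf_injective (MulAut.conj h).toMonoidHom (MulAut.conj h).injective g,
      Representation.char_conj]
  have hgen : Cfsg.IsGeneralizedCharacter G θ := by
    refine BrauerInduction.isGeneralizedCharacter_of_elementary hθcl fun E q hq hE => ?_
    haveI := Fintype.ofFinite E
    refine CharBasicDecomp.isGeneralizedCharacter_iff.2
      ⟨fun g h => hθcl (g : G) (h : G), fun lam => ?_⟩
    haveI : Group.IsNilpotent E := BrauerInduction.isNilpotent_of_isElementary hq hE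
    obtain ⟨A, B, hA, hsup, hBA, hBcop, hcard, -⟩ := HallNilpotentConj.exists_split E p
    have hAE : A ≤ E := hsup ▸ le_sup_left
    have hBE : B ≤ E := hsup ▸ le_sup_right
    have hcomm : ∀ a ∈ A, ∀ b ∈ B, a * b = b * a := fun a ha b hb =>
      Subgroup.mem_centralizer_iff.1 (hBA hb) a ha
    have hreg : ∀ g : E, Nat.Coprime (orderOf (g : G)) p ↔ (g : G) ∈ B := by
      have hdis : ∀ x, x ∈ A → x ∈ B → x = 1 := by
        intro x hxA hxB
        obtain ⟨k, hk⟩ := hA ⟨x, hxA⟩
        have hk' : x ^ p ^ k = 1 := congrArg Subtype.val hk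
        rw [← orderOf_eq_one_iff]
        exact Nat.eq_one_of_dvd_coprimes (hBcop.pow_right k)
          (Subgroup.orderOf_dvd_natCard B hxB) (orderOf_dvd_of_pow_eq_one hk')
      have hbij : Function.Bijective (fun w : A × B =>
          (⟨(w.1 : G) * w.2, mul_mem (hAE w.1.2) (hBE w.2.2)⟩ : E)) := by
        rw [Nat.bijective_iff_injective_and_card]
        refine ⟨fun u v huv => ?_, by rw [Nat.card_prod, hcard]⟩
        have h := congrArg Subtype.val huv
        simp only at h
        have h1 : (v.1 : G)⁻¹ * u.1 = v.2 * (u.2 : G)⁻¹ := by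
          calc (v.1 : G)⁻¹ * u.1 = (v.1 : G)⁻¹ * ((u.1 : G) * u.2) * (u.2 : G)⁻¹ := by group
            _ = _ := by rw [h]; group
        have h2 : (v.1 : G)⁻¹ * u.1 = 1 := hdis _ (A.mul_mem (A.inv_mem v.1.2) u.1.2)
          (h1 ▸ B.mul_mem v.2.2 (B.inv_mem u.2.2))
        rw [h2] at h1
        exact Prod.ext (Subtype.ext (inv_mul_eq_one.1 h2).symm)
          (Subtype.ext (mul_inv_eq_one.1 h1.symm).symm)
      intro g
      refine ⟨fun hg => ?_, fun hg => hBcop.coprime_dvd_left (Subgroup.orderOf_dvd_natCard B hg)⟩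
      obtain ⟨⟨a, b⟩, rfl⟩ := hbij.2 g
      show (a : G) * b ∈ B
      have hab : Commute (a : G) b := hcomm a a.2 b b.2
      have hb : (b : G) ^ Nat.card B = 1 := congrArg Subtype.val (pow_card_eq_one' (x := b))
      obtain ⟨k, hk⟩ := hA a
      have hk' : (a : G) ^ p ^ k = 1 := congrArg Subtype.val hk
      have hb2 : (a : G) ^ (Nat.card B * orderOf ((a : G) * b)) = 1 := by
        have h5 : ((a : G) * b) ^ (Nat.card B * orderOf ((a : G) * b)) = 1 :=
          orderOf_dvd_iff_pow_eq_one.1 (dvd_mul_left _ _)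
        rwa [hab.mul_pow, pow_mul (b : G), hb, one_pow, mul_one] at h5
      have hone : (a : G) = 1 := by
        rw [← orderOf_eq_one_iff]
        exact Nat.eq_one_of_dvd_coprimes (Nat.Coprime.pow_right k (Nat.Coprime.mul_left hBcop hg))
          (orderOf_dvd_of_pow_eq_one hb2) (orderOf_dvd_of_pow_eq_one hk')
      rw [hone, one_mul]
      exact b.2
    haveI := Fintype.ofFinite B
    -- the sum over the regular elements
    let lb : B → ℂ := fun b => (lam : E → ℂ) ⟨b, hBE b.2⟩
    have hsum : ∑ g : E, θ g * conj ((lam : E → ℂ) g) =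
        ∑ b : B, ρ.character b * conj (lb b) := by
      have h0 : ∑ g : E, θ g * conj ((lam : E → ℂ) g) =
          ∑ g ∈ Finset.univ.filter (fun g : E => (g : G) ∈ B),
            ρ.character g * conj ((lam : E → ℂ) g) := by
        rw [Finset.sum_filter]
        refine Finset.sum_congr rfl fun g _ => ?_
        simp only [θ, hreg g]
        split_ifs <;> simp
      rw [h0, Finset.sum_subtype (Finset.univ.filter fun g : E => (g : G) ∈ B)
        (p := fun g : E => (g : G) ∈ B) (by simp)]
      let e : {g : E // (g : G) ∈ B} ≃ B :=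
        { toFun := fun g => ⟨g.1, g.2⟩
          invFun := fun b => ⟨⟨b, hBE b.2⟩, b.2⟩
          left_inv := fun g => rfl
          right_inv := fun b => rfl }
      exact Fintype.sum_equiv e _ _ fun g => rfl
    obtain ⟨c, hc⟩ := CharBasicOrth.classInner_isCharacter
      (isCharacter_comap B.subtype (isCharacter_of_rep ρ))
      (isCharacter_comap (Subgroup.inclusion hBE) (isCharacter_of_isIrrCharacter lam.2))
    have hA0 : (Nat.card A : ℂ) ≠ 0 := Nat.cast_ne_zero.2 Nat.card_pos.ne'
    have hB0 : (Nat.card B : ℂ) ≠ 0 := Nat.cast_ne_zero.2 Nat.card_pos.ne'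
    have hc' : ∑ b : B, ρ.character b * conj (lb b) = (Nat.card B : ℂ) * c := by
      rw [← hc, Cfsg.classInner, ← mul_assoc, mul_inv_cancel₀ hB0, one_mul]
      rfl
    have hint : IsIntegral ℤ (((c * Nat.card B : ℕ) : ℂ) / (Nat.card A : ℕ)) := by
      rw [Nat.cast_mul, mul_comm, ← hc', Finset.sum_div]
      refine IsIntegral.sum _ fun b _ => ?_
      rw [mul_div_right_comm]
      refine (isIntegral_div_of_commute ρ hp hn hn' hdeg A hA fun a ha => hcomm a ha b b.2).mul ?_
      rw [← CharBasic.isCharacter_inv (isCharacter_of_isIrrCharacter lam.2)]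
      exact isCharacter_integral (isCharacter_of_isIrrCharacter lam.2) _
    have hdvd : Nat.card A ∣ c := by
      refine Nat.Coprime.dvd_of_dvd_mul_right ?_
        (CharBasicInt.dvd_of_isIntegral_div Nat.card_pos.ne' hint)
      obtain ⟨j, hj⟩ := hA.exists_card_eq
      rw [hj]
      exact (hBcop.pow_right j).symm
    obtain ⟨k, rfl⟩ := hdvd
    refine ⟨k, ?_⟩
    rw [Cfsg.classInner, hsum, hc', ← hcard]
    push_cast
    field_simp
  have hnorm : Cfsg.classInner θ θ = Cfsg.classInner θ ρ.character := by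
    rw [Cfsg.classInner, Cfsg.classInner]
    congr 1
    refine Finset.sum_congr rfl fun g _ => ?_
    simp only [θ]
    split <;> simp
  obtain ⟨k, hk⟩ := classInner_isGeneralizedCharacter hgen
    (isGeneralizedCharacter_of_isCharacter (isCharacter_of_rep ρ))
  have hone := classInner_character_irreducible_self ρ
  have hG : (Nat.card G : ℂ) ≠ 0 := Nat.cast_ne_zero.2 Nat.card_pos.ne'
  -- compare real parts
  let N : G → ℝ := fun g => Complex.normSq (ρ.character g)
  have e1 : ((Nat.card G : ℝ)) = ∑ g, N g := by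
    have h := congrArg Complex.re (congrArg (fun z => (Nat.card G : ℂ) * z) hone)
    rw [Cfsg.classInner, ← mul_assoc, mul_inv_cancel₀ hG, one_mul, Complex.re_sum] at h
    simpa [Complex.mul_conj, N] using h.symm
  have e2 : (Nat.card G : ℝ) * k = ∑ g, if Nat.Coprime (orderOf g) p then N g else 0 := by
    have h := congrArg Complex.re (congrArg (fun z => (Nat.card G : ℂ) * z) hk)
    rw [Cfsg.classInner, ← mul_assoc, mul_inv_cancel₀ hG, one_mul, Complex.re_sum] at h
    have hR : ((Nat.card G : ℂ) * (k : ℂ)).re = (Nat.card G : ℝ) * k := by simp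
    rw [hR] at h
    rw [← h]
    refine Finset.sum_congr rfl fun g _ => ?_
    simp only [θ]
    split <;> simp [Complex.mul_conj, N]
  have hN : ∀ g, 0 ≤ N g := fun g => Complex.normSq_nonneg _
  have hle : ∀ g, (if Nat.Coprime (orderOf g) p then N g else 0) ≤ N g := fun g => by
    split
    · exact le_rfl
    · exact hN g
  have hGpos : (0 : ℝ) < Nat.card G := by exact_mod_cast Nat.card_pos
  have hk1 : (k : ℝ) ≤ 1 := by
    by_contra h
    push Not at h
    have := Finset.sum_le_sum (s := Finset.univ) fun g _ => hle g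
    rw [← e1, ← e2] at this
    nlinarith
  have hkpos : (0 : ℝ) < k := by
    have h1 : N 1 ≤ ∑ g, if Nat.Coprime (orderOf g) p then N g else 0 := by
      have h := Finset.single_le_sum (f := fun g => if Nat.Coprime (orderOf g) p then N g else 0)
        (fun g _ => by split <;> [exact hN g; exact le_rfl]) (Finset.mem_univ (1 : G))
      simpa using h
    rw [← e2] at h1
    have h2 : 0 < N 1 := by
      simp only [N, Representation.char_one, Complex.normSq_pos]
      exact Nat.cast_ne_zero.2 (finrank_pos_of_irreducible ρ).ne'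
    nlinarith
  have hkone : k = 1 := by
    have a1 : k ≤ 1 := by exact_mod_cast hk1
    have a2 : 0 < k := by exact_mod_cast hkpos
    omega
  rw [hkone, Int.cast_one, mul_one, e1] at e2
  have := (Finset.sum_eq_sum_iff_of_le fun g _ => hle g).1 e2.symm x (Finset.mem_univ x)
  rw [if_neg (fun h => (hp.coprime_iff_not_dvd.1 h.symm) hx)] at this
  exact Complex.normSq_eq_zero.1 this.symm

end Cfsg.Agent.S0165
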