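import Cfsg.Statements.S4675
import Cfsg.Agent.Lib.BlockContribBounds

set_option autoImplicit false
open Cfsg

namespace Cfsg.Agent.S4675

section
open scoped ComplexConjugate
open Cfsg BlockTheoryLocalRing BlockTheoryCentre BlockTheoryIdem BlockContrib BlockContribBounds ClassAlgebraVal

theorem proportional {G : Type*} [Group G] [Finite G] {p : ℕ} (hp : p.Prime)
    {B : Set (IrrCharacter G)} (hl : blockRank p B = 1) {φ : IrrCharacter G} (hφ : φ ∈ B)
    {χ : IrrCharacter G} (hχ : χ ∈ B) {x : G} (hx : IsPRegular p x) :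
    (χ : G → ℂ) x * (φ : G → ℂ) 1 = (χ : G → ℂ) 1 * (φ : G → ℂ) x := by
  obtain ⟨v, -, hv⟩ := finrank_eq_one_iff'.1 hl
  obtain ⟨a, ha⟩ := hv ⟨_, Submodule.subset_span ⟨χ, hχ, rfl⟩⟩
  obtain ⟨b, hb⟩ := hv ⟨_, Submodule.subset_span ⟨φ, hφ, rfl⟩⟩
  have ha' := congrArg Subtype.val ha
  have hb' := congrArg Subtype.val hb
  simp only [SetLike.val_smul] at ha' hb'
  have h1 : IsPRegular p (1 : G) := by simp [IsPRegular, hp.ne_one]
  have e1 := congrFun ha' x; have e2 := congrFun ha' 1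
  have e3 := congrFun hb' x; have e4 := congrFun hb' 1
  simp only [Pi.smul_apply, smul_eq_mul, pRegularPart, hx, h1, if_true] at e1 e2 e3 e4
  rw [← e1, ← e2, ← e3, ← e4]; ring

theorem main {G : Type*} [Group G] [Fintype G] {p : ℕ} {M : Ideal AlgInt}
    (hM : IsPModular p M) {B : Set (IrrCharacter G)} (hB : IsPBlock M B) (hl : blockRank p B = 1) :
    ∃ φ : G → ℂ, ∃ d : IrrCharacter G → ℕ, (∃ n : IrrCharacter G → ℤ, ∀ x : G, IsPRegular p x →
      φ x = ∑ᶠ ψ ∈ B, (n ψ : ℂ) * (ψ : G → ℂ) x) ∧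
      (∀ χ ∈ B, ∀ x : G, IsPRegular p x → (χ : G → ℂ) x = (d χ : ℂ) * φ x) ∧
      ∑ᶠ χ ∈ B, d χ ^ 2 = p ^ blockDefect p B := by
  classical
  obtain ⟨φ0, hφ0m, hφ0⟩ := exists_height_zero hM hB
  set D : IrrCharacter G → ℕ := fun χ => charDegree (χ : G → ℂ) with hD
  set g : ℕ := (members B).gcd D with hg
  have hD0 : ∀ χ, D χ ≠ 0 := fun χ => (charDegree_pos χ).ne'
  have hg0 : g ≠ 0 := fun h => hD0 φ0 (Finset.gcd_eq_zero_iff.1 h φ0 (mem_members.2 hφ0m))
  obtain ⟨n, hn⟩ := (members B).gcd_eq_sum_mul (fun χ => (D χ : ℤ))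
  have hgn : ∑ ψ ∈ members B, (n ψ : ℂ) * (D ψ : ℂ) = (g : ℂ) ∨ ∑ ψ ∈ members B, (n ψ : ℂ) * (D ψ : ℂ) = -(g : ℂ) := by
    have hgi : ((members B).gcd fun χ => (D χ : ℤ)).natAbs = g := by
      refine Nat.dvd_antisymm (Finset.dvd_gcd fun χ hχ => ?_) ?_
      · have := Int.natAbs_dvd_natAbs.2 (Finset.gcd_dvd (f := fun χ => (D χ : ℤ)) hχ)
        simpa using this
      · rw [← Int.natCast_dvd]
        exact Finset.dvd_gcd fun χ hχ => Int.natCast_dvd_natCast.2 (Finset.gcd_dvd hχ)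
    rcases Int.natAbs_eq ((members B).gcd fun χ => (D χ : ℤ)) with h | h <;> rw [hgi, hn] at h
    · left; have := congrArg (fun z : ℤ => (z : ℂ)) h; push_cast at this; rw [← this]
      exact Finset.sum_congr rfl fun ψ _ => by ring
    · right; have := congrArg (fun z : ℤ => (z : ℂ)) h; push_cast at this; rw [← this]
      exact Finset.sum_congr rfl fun ψ _ => by ring
  obtain ⟨n', hn'⟩ : ∃ n' : IrrCharacter G → ℤ, ∑ ψ ∈ members B, (n' ψ : ℂ) * (D ψ : ℂ) = (g : ℂ) := by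
    rcases hgn with h | h
    · exact ⟨n, h⟩
    · exact ⟨fun ψ => -n ψ, by push_cast; simp only [neg_mul, Finset.sum_neg_distrib, h, neg_neg]⟩
  let d : IrrCharacter G → ℕ := fun χ => D χ / g
  have hDd : ∀ χ ∈ B, D χ = g * d χ := fun χ hχ =>
    (Nat.mul_div_cancel' (Finset.gcd_dvd (mem_members.2 hχ))).symm
  have hφ1 : (φ0 : G → ℂ) 1 = (D φ0 : ℂ) := apply_one_eq_charDegree φ0
  have hD0C : (D φ0 : ℂ) ≠ 0 := Nat.cast_ne_zero.2 (hD0 φ0)
  let F : G → ℂ := fun x => (g : ℂ) * (φ0 : G → ℂ) x / (D φ0 : ℂ)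
  have hF : ∀ χ ∈ B, ∀ x : G, IsPRegular p x → (χ : G → ℂ) x = (d χ : ℂ) * F x := by
    intro χ hχ x hx
    have h := proportional hM.1 hl hφ0m hχ hx
    rw [hφ1, apply_one_eq_charDegree χ, show charDegree (χ : G → ℂ) = g * d χ from hDd χ hχ] at h
    simp only [F]
    field_simp
    push_cast at h ⊢
    linear_combination h
  refine ⟨F, d, ⟨n', fun x hx => ?_⟩, hF, ?_⟩
  · rw [finsum_eq_members, Finset.sum_congr rfl fun ψ hψ => by rw [hF ψ (mem_members.1 hψ) x hx]]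
    have hd : ∑ ψ ∈ members B, (n' ψ : ℂ) * (d ψ : ℂ) = 1 := by
      refine mul_left_cancel₀ (Nat.cast_ne_zero.2 hg0 : (g : ℂ) ≠ 0) ?_
      rw [Finset.mul_sum, mul_one]
      refine Eq.trans (Finset.sum_congr rfl fun ψ hψ => ?_) hn'
      rw [hDd ψ (mem_members.1 hψ)]
      push_cast; ring
    conv_lhs => rw [← one_mul (F x), ← hd, Finset.sum_mul]
    exact Finset.sum_congr rfl fun ψ _ => by ring
  rw [finsum_eq_members]
  -- the contribution matrix has rank one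
  set c := (cofactor p G : ℂ) * (p : ℂ) ^ minExp p B with hc
  have hc0 : c ≠ 0 := scale_ne_zero hM.1 B
  set K : ℂ := pair p (φ0 : G → ℂ) φ0 / ((d φ0 : ℂ) * (d φ0 : ℂ)) with hK
  have hd0 : (d φ0 : ℂ) ≠ 0 := by
    intro h
    have := hDd φ0 hφ0m
    rw [Nat.cast_eq_zero.1 h, mul_zero] at this
    exact hD0 φ0 this
  have hpair : ∀ χ ∈ B, ∀ ψ ∈ B, pair p (χ : G → ℂ) ψ = (d χ : ℂ) * (d ψ : ℂ) * K := by
    intro χ hχ ψ hψ
    have key : ∀ a ∈ B, ∀ b ∈ B, pair p (a : G → ℂ) b = (d a : ℂ) * (d b : ℂ) * pair p F F := by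
      intro a ha b hb
      simp only [pair, regSum_eq, Finset.mul_sum]
      refine Finset.sum_congr rfl fun x _ => ?_
      by_cases hx : p ∣ orderOf x
      · simp [hx]
      · rw [if_pos hx, if_pos hx, hF a ha x hx, hF b hb x hx, map_mul, map_natCast]; ring
    rw [hK, key χ hχ ψ hψ, key φ0 hφ0m φ0 hφ0m]
    field_simp
  obtain ⟨k, hk⟩ : ∃ k : ℤ, K = c * (k : ℂ) := by
    have h1 : ∀ χ ∈ B, ∀ ψ ∈ B, c * (contrib p B χ ψ : ℂ) = (d χ : ℂ) * (d ψ : ℂ) * K := fun χ hχ ψ hψ => by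
      rw [← hpair χ hχ ψ hψ, pair_eq_contrib hM.1 χ hψ]
    refine ⟨∑ χ ∈ members B, ∑ ψ ∈ members B, n' χ * n' ψ * contrib p B χ ψ, ?_⟩
    have hd : ∑ ψ ∈ members B, (n' ψ : ℂ) * (d ψ : ℂ) = 1 := by
      refine mul_left_cancel₀ (Nat.cast_ne_zero.2 hg0 : (g : ℂ) ≠ 0) ?_
      rw [Finset.mul_sum, mul_one]
      refine Eq.trans (Finset.sum_congr rfl fun ψ hψ => ?_) hn'
      rw [hDd ψ (mem_members.1 hψ)]
      push_cast; ring
    calc K = ((∑ χ ∈ members B, (n' χ : ℂ) * (d χ : ℂ)) * ∑ ψ ∈ members B, (n' ψ : ℂ) * (d ψ : ℂ)) * K := by rw [hd]; ring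
      _ = ∑ χ ∈ members B, ∑ ψ ∈ members B, (n' χ : ℂ) * (n' ψ : ℂ) * (c * (contrib p B χ ψ : ℂ)) := by
        rw [Finset.sum_mul_sum, Finset.sum_mul]
        refine Finset.sum_congr rfl fun χ hχ => ?_
        rw [Finset.sum_mul]
        refine Finset.sum_congr rfl fun ψ hψ => ?_
        rw [h1 χ (mem_members.1 hχ) ψ (mem_members.1 hψ)]; ring
      _ = _ := by
        push_cast
        simp only [Finset.mul_sum]
        exact Finset.sum_congr rfl fun χ _ => Finset.sum_congr rfl fun ψ _ => by ring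
  have hm : ∀ χ ∈ B, ∀ ψ ∈ B, contrib p B χ ψ = (d χ : ℤ) * (d ψ : ℤ) * k := by
    intro χ hχ ψ hψ
    have h := hpair χ hχ ψ hψ
    rw [pair_eq_contrib hM.1 χ hψ, ← hc, hk] at h
    have h' : (contrib p B χ ψ : ℂ) = (d χ : ℂ) * (d ψ : ℂ) * (k : ℂ) := by
      refine mul_left_cancel₀ hc0 ?_
      rw [h]; ring
    exact_mod_cast h'
  have hndvd := contrib_not_dvd hM hB hφ0m hφ0 hφ0m
  rw [hφ0, zero_add, pow_one, hm φ0 hφ0m φ0 hφ0m] at hndvd
  have hsq := sum_contrib_sq hM hB hφ0m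
  rw [show Finset.univ.filter (· ∈ B) = members B by ext ξ; simp, hm φ0 hφ0m φ0 hφ0m,
    Finset.sum_congr rfl fun ψ hψ => by rw [hm φ0 hφ0m ψ (mem_members.1 hψ)]] at hsq
  have hk0 : k ≠ 0 := fun h => hndvd (by rw [h, mul_zero]; exact dvd_zero _)
  have hdz : (d φ0 : ℤ) ≠ 0 := by exact_mod_cast (fun h => hd0 (by rw [h, Nat.cast_zero]))
  have hsum : k * ∑ ψ ∈ members B, (d ψ : ℤ) ^ 2 = (p : ℤ) ^ blockDefect p B := by
    refine mul_left_cancel₀ (mul_ne_zero (mul_ne_zero hdz hdz) hk0) ?_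
    rw [Finset.mul_sum, Finset.mul_sum]
    refine Eq.trans (Finset.sum_congr rfl fun ψ _ => ?_) (hsq.trans (by ring))
    ring
  have hk1 : k.natAbs = 1 := by
    obtain ⟨j, -, hj⟩ := (Nat.dvd_prime_pow hM.1).1 (show k.natAbs ∣ p ^ blockDefect p B by
      have := Int.natAbs_dvd_natAbs.2 ⟨_, hsum.symm⟩
      simpa [Int.natAbs_pow] using this)
    rcases Nat.eq_zero_or_pos j with rfl | hj0
    · simpa using hj
    · refine absurd (Dvd.dvd.mul_left ?_ _) hndvd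
      rw [Int.natCast_dvd, hj]
      exact dvd_pow_self p hj0.ne'
  have hfin : ((∑ ψ ∈ members B, d ψ ^ 2 : ℕ) : ℤ).natAbs = p ^ blockDefect p B := by
    have := congrArg Int.natAbs hsum
    rw [Int.natAbs_mul, hk1, one_mul, Int.natAbs_pow, Int.natAbs_natCast] at this
    rw [← this]; push_cast; rfl
  rwa [Int.natAbs_natCast] at hfin

end

/-- Fix a prime p and a maximal ideal M of the algebraic integers containing p. Let B be a p-block of the finite group G with defect group P and p-regular rank one (a single irreducible Brauer character). Then there are a function φ on G that is, on the p-regular elements, an integer combination of the members of B, and natural numbers d_χ (χ ∈ B), such that every χ ∈ B agrees with d_χ·φ on the p-regular elements and Σ_{χ ∈ B} d_χ² equals the order of P (the single Cartan invariant of B is the order of P). -/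
theorem result {G : Type*} [Group G] [Fintype G] (p : ℕ) [Fact p.Prime] (M : Ideal Cfsg.AlgInt) (hM : Cfsg.IsPModular p M) (B : Set (Cfsg.IrrCharacter G)) (hB : Cfsg.IsPBlock M B) (P : Subgroup G) (hP : Cfsg.IsDefectGroup p M B P) (hl : Cfsg.blockRank p B = 1) : ∃ φ : G → ℂ, ∃ d : Cfsg.IrrCharacter G → ℕ, (∃ n : Cfsg.IrrCharacter G → ℤ, ∀ x : G, Cfsg.IsPRegular p x → φ x = ∑ᶠ ψ ∈ B, (n ψ : ℂ) * (ψ : G → ℂ) x) ∧ (∀ χ ∈ B, ∀ x : G, Cfsg.IsPRegular p x → (χ : G → ℂ) x = (d χ : ℂ) * φ x) ∧ ∑ᶠ χ ∈ B, d χ ^ 2 = Nat.card P := by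
  obtain ⟨φ, d, h1, h2, h3⟩ := main hM hB hl
  exact ⟨φ, d, h1, h2, h3.trans (BlockContribBounds.card_defectGroup hM hB hP).symm⟩

end Cfsg.Agent.S4675
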