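import Cfsg.Statements.S4716
import Cfsg.Agent.Lib.BlockContribMajor
import Cfsg.Agent.Lib.BlockContribRoots
import Cfsg.Agent.S4667

set_option autoImplicit false
open Cfsg

namespace Cfsg.Agent.S4716

section
open scoped ComplexConjugate
open Cfsg BlockTheoryLocalRing BlockTheoryCentre BlockTheoryIdem BlockContrib BlockContribBounds ClassAlgebraVal BlockContribSection

attribute [local instance] Classical.propDecidable

variable {p : ℕ} [Fact p.Prime] {M : Ideal AlgInt} {G : Type*} [Group G] [Fintype G] {u : G}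
  {H : Subgroup G} [Fintype H]

/-- The multiplicity of `ξ` in the restriction of `χ`. -/
noncomputable def mult (χ : IrrCharacter G) (ξ : IrrCharacter H) : ℕ :=
  Classical.choose (CharBasicOrth.classInner_isCharacter
    (CharBasic.isCharacter_comap H.subtype (irr_isCharacter χ)) (irr_isCharacter ξ))

theorem mult_spec (χ : IrrCharacter G) (ξ : IrrCharacter H) :
    classInner ((χ : G → ℂ) ∘ H.subtype) (ξ : H → ℂ) = (mult χ ξ : ℂ) :=
  Classical.choose_spec (CharBasicOrth.classInner_isCharacter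
    (CharBasic.isCharacter_comap H.subtype (irr_isCharacter χ)) (irr_isCharacter ξ))

theorem apply_eq_sum (χ : IrrCharacter G) (c : H) :
    (χ : G → ℂ) c = ∑ ξ : IrrCharacter H, (mult χ ξ : ℂ) * (ξ : H → ℂ) c := by
  have h := congrFun (CharBasicOrth.eq_sum_classInner
    (CharBasic.isClassFunction_of_isCharacter (CharBasic.isCharacter_comap H.subtype (irr_isCharacter χ)))) c
  simp only [Finset.sum_apply, Pi.smul_apply, smul_eq_mul, mult_spec] at h
  exact h

/-- The scalar by which a central element acts. -/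
noncomputable def lam (z : H) (ξ : IrrCharacter H) : ℂ := (ξ : H → ℂ) z / (ξ : H → ℂ) 1

theorem lam_mul {z : H} (hz : z ∈ Subgroup.center H) (ξ : IrrCharacter H) (c : H) :
    (ξ : H → ℂ) (z * c) = lam z ξ * (ξ : H → ℂ) c := by
  have h1 := irr_one_ne_zero ξ
  simp only [lam]
  obtain ⟨n, ρ, hirr, hρ⟩ := ξ.2
  obtain ⟨s, hs⟩ := CharBasic.exists_scalar_of_mem_center ρ hz
  have key : ∀ d : H, ρ.character (z * d) = s * ρ.character d := fun d => by
    show LinearMap.trace ℂ _ (ρ (z * d)) = s * LinearMap.trace ℂ _ (ρ d)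
    rw [map_mul, hs, ← Module.End.one_eq_id, smul_mul_assoc, one_mul, map_smul, smul_eq_mul]
  rw [← hρ] at h1 ⊢
  have h2 := key 1
  rw [mul_one] at h2
  rw [key, h2, mul_div_assoc, div_self h1, mul_one]

theorem lam_pow {z : H} (hz : z ∈ Subgroup.center H) (ξ : IrrCharacter H) :
    ∀ j : ℕ, lam (z ^ j) ξ = lam z ξ ^ j
  | 0 => by simp [lam, irr_one_ne_zero ξ]
  | j + 1 => by
    rw [pow_succ', pow_succ', ← lam_pow hz ξ j]
    conv_lhs => rw [lam, lam_mul hz]
    simp only [lam]; ring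

/-- The entry of the contribution matrix of the subsection. -/
noncomputable def entry (p : ℕ) (z : H) (b : Set (IrrCharacter H)) (χ ψ : IrrCharacter G) : ℂ :=
  ∑ ξ ∈ members b, ∑ η ∈ members b,
    ((mult χ ξ : ℂ) * (mult ψ η : ℂ) * (contrib p b ξ η : ℂ)) * (conj (lam z ξ) * lam z η)

theorem part_eq {v : G} (hH : ∀ g, g ∈ H ↔ Commute v g) (b : Set (IrrCharacter H))
    (χ : IrrCharacter G) (s : H) :
    part v b (χ : G → ℂ) s = ∑ ξ ∈ members b,
      ((mult χ ξ : ℂ) * lam ⟨v, (hH v).2 (Commute.refl v)⟩ ξ) * (ξ : H → ℂ) s := by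
  set z : H := ⟨v, (hH v).2 (Commute.refl v)⟩ with hz
  have hzc : z ∈ Subgroup.center H := Subgroup.mem_center_iff.2 fun g => Subtype.ext ((hH g).1 g.2).eq.symm
  rw [part_eq_sum, ← filter_eq_members, Finset.sum_filter]
  refine Finset.sum_congr rfl fun ξ _ => ?_
  split_ifs
  · congr 1
    have hf : (fun c : H => (χ : G → ℂ) (v * c)) =
        ∑ η : IrrCharacter H, ((mult χ η : ℂ) * lam z η) • (η : H → ℂ) := by
      funext c
      rw [Finset.sum_apply, show v * (c : G) = ((z * c : H) : G) from rfl, apply_eq_sum]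
      refine Finset.sum_congr rfl fun η _ => ?_
      rw [lam_mul hzc, Pi.smul_apply, smul_eq_mul, mul_assoc]
    rw [hf, CharBasicOrth.classInner_sum_smul_irr]
  · rfl

/-- The pairing of two parts. -/
theorem pair_part (hp : p.Prime) {v : G} (hH : ∀ g, g ∈ H ↔ Commute v g) (b : Set (IrrCharacter H))
    (χ ψ : IrrCharacter G) :
    pair p (part v b (χ : G → ℂ)) (part v b (ψ : G → ℂ)) =
      (cofactor p H : ℂ) * (p : ℂ) ^ minExp p b *
        entry p ⟨v, (hH v).2 (Commute.refl v)⟩ b χ ψ := by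
  set z : H := ⟨v, (hH v).2 (Commute.refl v)⟩ with hz
  calc pair p (part v b (χ : G → ℂ)) (part v b (ψ : G → ℂ))
      = ∑ ξ ∈ members b, ∑ η ∈ members b,
          conj ((mult χ ξ : ℂ) * lam z ξ) * ((mult ψ η : ℂ) * lam z η) * pair p (ξ : H → ℂ) η := by
        simp only [pair, regSum_eq, part_eq hH, ← hz, map_sum, Finset.sum_mul_sum]
        rw [← Finset.sum_filter, Finset.sum_comm]
        refine Finset.sum_congr rfl fun ξ _ => ?_
        rw [Finset.sum_comm]
        refine Finset.sum_congr rfl fun η _ => ?_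
        rw [← Finset.sum_filter, Finset.mul_sum]
        exact Finset.sum_congr rfl fun s _ => by simp only [map_mul]; ring
    _ = _ := by
        simp only [entry, Finset.mul_sum]
        refine Finset.sum_congr rfl fun ξ _ => Finset.sum_congr rfl fun η hη => ?_
        rw [pair_eq_contrib hp ξ (mem_members.1 hη), map_mul, map_natCast]
        ring

/-- The sum of squares of the entries is `p^(2d) l(b)`. -/
theorem sum_normSq_entry (hM : IsPModular p M) {v : G} (hv : ∃ k, orderOf v = p ^ k)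
    (hH : ∀ g, g ∈ H ↔ Commute v g) {b : Set (IrrCharacter H)} {B : Set (IrrCharacter G)}
    (hind : IsInducedBlock M H b B) :
    ∑ χ ∈ members B, ∑ ψ ∈ members B,
        Complex.normSq (entry p ⟨v, (hH v).2 (Commute.refl v)⟩ b χ ψ) =
      (p : ℝ) ^ (2 * blockDefect p b) * (blockRank p b : ℝ) := by
  have hb := hind.1
  set R := Finset.univ.filter fun s : H => ¬ p ∣ orderOf s with hR
  set F : IrrCharacter G → H → ℂ := fun χ => part v b (χ : G → ℂ) with hF
  have hpair : ∀ χ ψ : IrrCharacter G, pair p (F χ) (F ψ) = ∑ s ∈ R, conj (F χ s) * F ψ s := by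
    intro χ ψ
    simp only [pair, regSum_eq, hR, Finset.sum_filter]
  have hker : ∀ s ∈ R, ∀ t ∈ R, ∑ χ ∈ members B, F χ s * conj (F χ t) = kern b s t := by
    intro s hs t ht
    rw [← filter_eq_members, Finset.sum_filter]
    exact sum_part_mul_induced hH hM hv hind (Finset.mem_filter.1 hs).2 (Finset.mem_filter.1 ht).2
  have hkk : ∀ s ∈ R, ∑ t ∈ R, kern b s t * kern b t s = (Nat.card H : ℂ) * kern b s s := by
    intro s hs
    have hall : ∑ t ∈ R, kern b s t * kern b t s = ∑ t : H, kern b s t * kern b t s := by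
      refine Finset.sum_subset (Finset.subset_univ _) fun t _ ht => ?_
      have : p ∣ orderOf t := by simpa [hR] using ht
      rw [show kern b s t = 0 from weak_orthogonality hM hb (Finset.mem_filter.1 hs).2 this, zero_mul]
    rw [hall]
    simp only [kern, Finset.sum_mul_sum]
    rw [Finset.sum_comm, Finset.mul_sum]
    refine Finset.sum_congr rfl fun ξ _ => ?_
    rw [Finset.sum_comm, Finset.sum_eq_single ξ]
    · split_ifs
      · have h := CharBasicOrth.card_mul_classInner (ξ : H → ℂ) ξ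
        rw [CharBasicOrth.classInner_irr_self ξ.2, mul_one] at h
        rw [h, Finset.sum_mul]
        exact Finset.sum_congr rfl fun t _ => by ring
      · simp
    · intro η _ hne
      split_ifs
      · have h := CharBasicOrth.card_mul_classInner (η : H → ℂ) ξ
        rw [CharBasicOrth.classInner_irr_ne η.2 ξ.2 fun e => hne (Subtype.ext e), mul_zero] at h
        calc ∑ t : H, (ξ : H → ℂ) s * conj ((ξ : H → ℂ) t) * ((η : H → ℂ) t * conj ((η : H → ℂ) s))
            = (ξ : H → ℂ) s * conj ((η : H → ℂ) s) * ∑ t : H, (η : H → ℂ) t * conj ((ξ : H → ℂ) t) := by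
              rw [Finset.mul_sum]; exact Finset.sum_congr rfl fun t _ => by ring
          _ = 0 := by rw [← h, mul_zero]
      all_goals simp
    · simp
  have hsum : ∑ χ ∈ members B, ∑ ψ ∈ members B, (Complex.normSq (pair p (F χ) (F ψ)) : ℂ) =
      (Nat.card H : ℂ) * ((Nat.card H : ℂ) * (blockRank p b : ℂ)) := by
    rw [Cfsg.Agent.S4667.result p M hM b hb, Finset.mul_sum]
    calc ∑ χ ∈ members B, ∑ ψ ∈ members B, (Complex.normSq (pair p (F χ) (F ψ)) : ℂ)
        = ∑ χ ∈ members B, ∑ ψ ∈ members B, ∑ s ∈ R, ∑ t ∈ R,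
            (F ψ s * conj (F ψ t)) * (F χ t * conj (F χ s)) := by
          refine Finset.sum_congr rfl fun χ _ => Finset.sum_congr rfl fun ψ _ => ?_
          rw [← Complex.mul_conj, hpair, map_sum, Finset.sum_mul_sum]
          exact Finset.sum_congr rfl fun s _ => Finset.sum_congr rfl fun t _ => by
            rw [map_mul, Complex.conj_conj]; ring
      _ = ∑ s ∈ R, ∑ t ∈ R, (∑ ψ ∈ members B, F ψ s * conj (F ψ t)) * ∑ χ ∈ members B, F χ t * conj (F χ s) := by
          simp only [Finset.sum_mul_sum]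
          rw [Finset.sum_comm]
          refine (Finset.sum_congr rfl fun ψ _ => Finset.sum_comm).trans ?_
          rw [Finset.sum_comm]
          refine Finset.sum_congr rfl fun s _ => ?_
          refine (Finset.sum_congr rfl fun ψ _ => Finset.sum_comm).trans ?_
          rw [Finset.sum_comm]
      _ = ∑ s ∈ R, (Nat.card H : ℂ) * kern b s s := by
          refine Finset.sum_congr rfl fun s hs => ?_
          rw [← hkk s hs]
          exact Finset.sum_congr rfl fun t ht => by rw [hker s hs t ht, hker t ht s hs]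
      _ = _ := by
          rw [hR, Finset.sum_filter]
          refine Finset.sum_congr rfl fun s _ => ?_
          rw [BlockTheoryIdem.finsum_mem_eq_sum]
          by_cases hs : p ∣ orderOf s
          · rw [if_neg (not_not.2 hs)]
            simp [Cfsg.pRegularPart, Cfsg.IsPRegular, hs]
          · rw [if_pos hs]
            simp [Cfsg.pRegularPart, Cfsg.IsPRegular, hs, kern, irr_inv]
  set e := minExp p b with he
  have hHc : Nat.card H = p ^ blockDefect p b * (cofactor p H * p ^ e) := by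
    conv_lhs => rw [← pow_mul_cofactor (G := H) p]
    rw [show (Nat.card H).factorization p = blockDefect p b + e by
      rw [add_comm]; exact (minExp_add_defect hM hb).symm, pow_add]
    ring
  have hK0 : ((cofactor p H : ℂ) * (p : ℂ) ^ e) ≠ 0 := scale_ne_zero hM.1 b
  apply Complex.ofReal_injective
  push_cast
  refine mul_left_cancel₀ (pow_ne_zero 2 hK0) ?_
  calc ((cofactor p H : ℂ) * (p : ℂ) ^ e) ^ 2 * ∑ χ ∈ members B, ∑ ψ ∈ members B,
        (Complex.normSq (entry p ⟨v, (hH v).2 (Commute.refl v)⟩ b χ ψ) : ℂ)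
      = ∑ χ ∈ members B, ∑ ψ ∈ members B, (Complex.normSq (pair p (F χ) (F ψ)) : ℂ) := by
        simp only [Finset.mul_sum]
        refine Finset.sum_congr rfl fun χ _ => Finset.sum_congr rfl fun ψ _ => ?_
        simp only [hF, pair_part hM.1 hH b χ ψ, map_mul, Complex.normSq_natCast, map_pow,
          Complex.ofReal_mul, Complex.ofReal_pow, Complex.ofReal_natCast]
        ring
    _ = _ := by
        rw [hsum, hHc]
        push_cast
        ring

theorem root_congr_one (hM : IsPModular p M) {x : ℂ} {k : ℕ} (hx : x ^ p ^ k = 1) :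
    MemLocalIdeal M (x - 1) := by
  have hint : IsIntegral ℤ x := IsIntegral.of_pow (pow_pos hM.1.pos k) (by rw [hx]; exact isIntegral_one)
  set z : AlgInt := ⟨x, hint⟩ with hz
  have : Nontrivial (AlgInt ⧸ M) := Ideal.Quotient.nontrivial_iff.2 hM.2.1.ne_top
  have : CharP (AlgInt ⧸ M) p := by
    refine (CharP.charP_iff_prime_eq_zero hM.1).2 ?_
    rw [← map_natCast (Ideal.Quotient.mk M)]
    exact Ideal.Quotient.eq_zero_iff_mem.2 hM.2.2
  have : M.IsPrime := isPrime hM
  have hz1 : (Ideal.Quotient.mk M z) = 1 := by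
    have h5 : (Ideal.Quotient.mk M z) ^ p ^ k = 1 := by
      rw [← map_pow, show z ^ p ^ k = 1 from Subtype.ext (by simpa [hz] using hx), map_one]
    have h6 : (Ideal.Quotient.mk M z - 1) ^ p ^ k = 0 := by
      rw [sub_pow_char_pow, h5, one_pow, sub_self]
    exact sub_eq_zero.1 (eq_zero_of_pow_eq_zero h6)
  rw [← map_one (Ideal.Quotient.mk M), Ideal.Quotient.eq] at hz1
  simpa [hz] using (algInt_mem_ideal_iff hM).2 hz1

/-- The entry without the roots of unity is prime to `p`. -/
theorem entry_int_not_ideal (hM : IsPModular p M) (hu : ∃ k, orderOf u = p ^ k)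
    (hH : ∀ g, g ∈ H ↔ Commute u g) {b : Set (IrrCharacter H)} {B : Set (IrrCharacter G)}
    (hind : IsInducedBlock M H b B) (hd : blockDefect p b = blockDefect p B)
    {χ ψ : IrrCharacter G} (hχ : χ ∈ B) (hψ : ψ ∈ B) (hχ0 : blockHeight p B (χ : G → ℂ) = 0)
    (hψ0 : blockHeight p B (ψ : G → ℂ) = 0) :
    ¬ MemLocalIdeal M (∑ ξ ∈ members b, ∑ η ∈ members b,
      (mult χ ξ : ℂ) * (mult ψ η : ℂ) * (contrib p b ξ η : ℂ)) := by
  have hb := hind.1
  set e := minExp p b with he
  obtain ⟨φ, hφ, hφ0⟩ := exists_height_zero hM hb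
  set D : IrrCharacter H → ℕ := fun ξ => charDegree (ξ : H → ℂ) / p ^ e with hD
  have hDmul : ∀ ξ ∈ b, charDegree (ξ : H → ℂ) = p ^ e * D ξ := fun ξ hξ =>
    (Nat.mul_div_cancel' ((pow_dvd_pow p (minExp_le (p := p) hξ)).trans (Nat.ordProj_dvd _ p))).symm
  have hDφ : ¬ p ∣ D φ := by
    have h := Nat.not_dvd_ordCompl hM.1 (charDegree_pos φ).ne'
    rwa [exp_eq_add (p := p) hφ, hφ0, add_zero] at h
  have hDφ0 : (D φ : ℂ) ≠ 0 := Nat.cast_ne_zero.2 fun h => hDφ (h ▸ dvd_zero p)
  have hcof : ¬ p ∣ cofactor p H := cofactor_not_dvd hM.1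
  have hcof0 : (cofactor p H : ℂ) ≠ 0 := Nat.cast_ne_zero.2 fun h => hcof (h ▸ dvd_zero p)
  have hp0 : ((p : ℂ) ^ e) ≠ 0 := pow_ne_zero _ (Nat.cast_ne_zero.2 hM.1.ne_zero)
  have hZ : ∀ n : ℤ, MemLocalRing M (n : ℂ) := fun n => intCast_mem (localRing hM) n
  have hN : ∀ n : ℕ, MemLocalRing M (n : ℂ) := fun n => natCast_mem (localRing hM) n
  have hstep : ∀ ξ, ∀ η ∈ b, MemLocalIdeal M
      ((contrib p b ξ η : ℂ) - (D η : ℂ) * (D φ : ℂ)⁻¹ * (contrib p b ξ φ : ℂ)) := by
    intro ξ η hη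
    have hDη : (D η : ℂ) ≠ 0 := Nat.cast_ne_zero.2 fun h => (charDegree_pos η).ne' (by rw [hDmul η hη, h, mul_zero])
    have h := pair_div_congr hM ξ (sameBlock_of_mem hM hb hη hφ)
    rw [pair_eq_contrib hM.1 ξ hη, pair_eq_contrib hM.1 ξ hφ, apply_one_eq_charDegree η,
      apply_one_eq_charDegree φ, hDmul η hη, hDmul φ hφ] at h
    push_cast at h
    have h2 := ideal_mul_right hM h ((localRing hM).mul_mem (hN (D η)) (inv_natCast_mem hM hcof))
    convert h2 using 1
    rw [← he]
    field_simp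
  set κ : ℂ := ((D φ : ℂ)⁻¹ * (D φ : ℂ)⁻¹) * (contrib p b φ φ : ℂ) with hκ
  have hκu : ¬ MemLocalIdeal M κ := by
    refine not_ideal_mul hM ((localRing hM).mul_mem (inv_natCast_mem hM hDφ) (inv_natCast_mem hM hDφ))
      (hZ _) (fun h => ?_) fun h => ?_
    · have h' := ideal_mul_right hM h ((localRing hM).mul_mem (hN (D φ)) (hN (D φ)))
      rw [show (D φ : ℂ)⁻¹ * (D φ : ℂ)⁻¹ * ((D φ : ℂ) * (D φ : ℂ)) = 1 by field_simp] at h'
      exact one_not_ideal hM h'
    · have h' := contrib_not_dvd hM hb hφ hφ0 hφ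
      rw [hφ0, zero_add, pow_one] at h'
      exact h' ((intCast_mem_iff hM _).1 h)
  have hcong : ∀ ξ ∈ b, ∀ η ∈ b,
      MemLocalIdeal M ((contrib p b ξ η : ℂ) - κ * ((D ξ : ℂ) * (D η : ℂ))) := by
    intro ξ hξ η hη
    have h1 := hstep ξ η hη
    have h2 := hstep φ ξ hξ
    rw [contrib_comm hM.1 hξ hφ] at h1
    have h3 := ideal_add hM h1 (ideal_mul_left hM
      ((localRing hM).mul_mem (hN (D η)) (inv_natCast_mem hM hDφ)) h2)
    convert h3 using 1
    rw [hκ]; ring
  have hT : ∀ χ : IrrCharacter G, χ ∈ B → blockHeight p B (χ : G → ℂ) = 0 →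
      ¬ MemLocalIdeal M (∑ ξ ∈ members b, (mult χ ξ : ℂ) * (D ξ : ℂ)) := by
    intro χ hχ hχ0
    obtain ⟨t, -, htn, ht⟩ := BlockContribMajor.exists_degree_part hH hM hu hind hd hχ hχ0
    have hsum : chiSum (χ : G → ℂ) (BrauerPairs81Pairs.eb H b) =
        (p : ℂ) ^ e * ∑ ξ ∈ members b, (mult χ ξ : ℂ) * (D ξ : ℂ) := by
      rw [BrauerPairs81Pairs.eb_eq_incl, ← mul_one (BlockTheoryBrauer.incl H _), MonoidAlgebra.one_def,
        BlockTheoryInduced.chiSum_incl_mul_single]
      have h1 := BlockTheoryInduced.sum_blockCoeff_mul b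
        (CharBasic.isClassFunction_of_isCharacter (CharBasic.isCharacter_comap H.subtype (irr_isCharacter χ))) 1
      simp only [mult_spec] at h1
      simp only [mul_one, Function.comp_apply, Subgroup.coe_subtype] at h1
      simp only [coeff_idem, mul_one]
      rw [h1, ← filter_eq_members, Finset.sum_filter, Finset.mul_sum]
      refine Finset.sum_congr rfl fun ξ _ => ?_
      split_ifs with hξ
      · rw [apply_one_eq_charDegree, hDmul ξ hξ]; push_cast; ring
      · rw [mul_zero]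
    rw [hsum] at ht
    rwa [mul_left_cancel₀ hp0 ht]
  intro hI
  set Tχ := ∑ ξ ∈ members b, (mult χ ξ : ℂ) * (D ξ : ℂ) with hTχ
  set Tψ := ∑ η ∈ members b, (mult ψ η : ℂ) * (D η : ℂ) with hTψ
  have hTm : ∀ χ : IrrCharacter G, MemLocalRing M (∑ ξ ∈ members b, (mult χ ξ : ℂ) * (D ξ : ℂ)) := fun χ =>
    (localRing hM).sum_mem fun ξ _ => (localRing hM).mul_mem (hN _) (hN _)
  have hκm : MemLocalRing M κ := (localRing hM).mul_mem
    ((localRing hM).mul_mem (inv_natCast_mem hM hDφ) (inv_natCast_mem hM hDφ)) (hZ _)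
  refine not_ideal_mul hM hκm ((localRing hM).mul_mem (hTm χ) (hTm ψ)) hκu
    (not_ideal_mul hM (hTm χ) (hTm ψ) (hT χ hχ hχ0) (hT ψ hψ hψ0)) ?_
  have hdiff : MemLocalIdeal M (∑ ξ ∈ members b, ∑ η ∈ members b,
      ((mult χ ξ : ℂ) * (mult ψ η : ℂ)) *
        ((contrib p b ξ η : ℂ) - κ * ((D ξ : ℂ) * (D η : ℂ)))) :=
    ideal_sum hM fun ξ hξ => ideal_sum hM fun η hη => ideal_mul_left hM
      ((localRing hM).mul_mem (hN _) (hN _)) (hcong ξ (mem_members.1 hξ) η (mem_members.1 hη))
  convert ideal_sub hM hI hdiff using 1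
  rw [Finset.sum_mul_sum]
  simp only [Finset.mul_sum, ← Finset.sum_sub_distrib]
  exact Finset.sum_congr rfl fun ξ _ => Finset.sum_congr rfl fun η _ => by ring

/-- The bound for a major subsection. -/
theorem main (hM : IsPModular p M) (hu : ∃ k, orderOf u = p ^ k) (hH : ∀ g, g ∈ H ↔ Commute u g)
    {b : Set (IrrCharacter H)} {B : Set (IrrCharacter G)} (hind : IsInducedBlock M H b B)
    (hd : blockDefect p b = blockDefect p B) (hh : ∀ χ ∈ B, blockHeight p B (χ : G → ℂ) = 0) :
    Nat.card B ^ 2 ≤ p ^ (2 * blockDefect p b) * blockRank p b := by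
  set z : H := ⟨u, (hH u).2 (Commute.refl u)⟩ with hz
  have hzc : z ∈ Subgroup.center H := Subgroup.mem_center_iff.2 fun g => Subtype.ext ((hH g).1 g.2).eq.symm
  obtain ⟨k, hk⟩ := hu
  have hzk : z ^ p ^ k = 1 := Subtype.ext (by rw [Subgroup.coe_pow, ← hk, pow_orderOf_eq_one]; rfl)
  have hlk : ∀ ξ : IrrCharacter H, lam z ξ ^ p ^ k = 1 := fun ξ => by
    rw [← lam_pow hzc, hzk, lam, div_self (irr_one_ne_zero ξ)]
  have hlc : ∀ ξ : IrrCharacter H, MemLocalRing M (lam z ξ) := fun ξ => of_isIntegral hM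
    (IsIntegral.of_pow (pow_pos hM.1.pos k) (by rw [hlk]; exact isIntegral_one))
  have hne : ∀ χ ∈ members B, ∀ ψ ∈ members B, ¬ MemLocalIdeal M (entry p z b χ ψ) := by
    intro χ hχ ψ hψ hI
    have h0 := entry_int_not_ideal hM ⟨k, hk⟩ hH hind hd (mem_members.1 hχ) (mem_members.1 hψ)
      (hh χ (mem_members.1 hχ)) (hh ψ (mem_members.1 hψ))
    refine h0 ?_
    have hdiff : MemLocalIdeal M (∑ ξ ∈ members b, ∑ η ∈ members b,
        ((mult χ ξ : ℂ) * (mult ψ η : ℂ) * (contrib p b ξ η : ℂ)) *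
          (conj (lam z ξ) * (lam z η - 1) + (conj (lam z ξ) - 1))) := by
      refine ideal_sum hM fun ξ _ => ideal_sum hM fun η _ => ideal_mul_left hM
        ((localRing hM).mul_mem ((localRing hM).mul_mem (natCast_mem (localRing hM) _)
          (natCast_mem (localRing hM) _)) (intCast_mem (localRing hM) _)) ?_
      have hcj : conj (lam z ξ) ^ p ^ k = 1 := by rw [← map_pow, hlk, map_one]
      exact ideal_add hM (ideal_mul_left hM
        (of_isIntegral hM (IsIntegral.of_pow (pow_pos hM.1.pos k) (by rw [hcj]; exact isIntegral_one)))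
        (root_congr_one hM (hlk η))) (root_congr_one hM hcj)
    convert ideal_sub hM hI hdiff using 1
    simp only [entry, ← Finset.sum_sub_distrib]
    exact Finset.sum_congr rfl fun ξ _ => Finset.sum_congr rfl fun η _ => by ring
  suffices hgoal : ((members B).card : ℝ) ^ 2 ≤ (p : ℝ) ^ (2 * blockDefect p b) * (blockRank p b : ℝ) by
    rw [card_members]; exact_mod_cast hgoal
  rcases Nat.eq_zero_or_pos k with rfl | hk0
  · rw [← sum_normSq_entry hM ⟨0, hk⟩ hH hind, ← hz]
    calc ((members B).card : ℝ) ^ 2 = ∑ _χ ∈ members B, ∑ _ψ ∈ members B, (1 : ℝ) := by simp; ring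
      _ ≤ _ := Finset.sum_le_sum fun χ hχ => Finset.sum_le_sum fun ψ hψ => ?_
    have hl : ∀ ξ : IrrCharacter H, lam z ξ = 1 := fun ξ => by simpa using hlk ξ
    have hm := hne χ hχ ψ hψ
    have he : entry p z b χ ψ = ((∑ ξ ∈ members b, ∑ η ∈ members b,
        (mult χ ξ : ℤ) * (mult ψ η : ℤ) * contrib p b ξ η : ℤ) : ℂ) := by
      simp [entry, hl]
    rw [he] at hm ⊢
    set m := ∑ ξ ∈ members b, ∑ η ∈ members b, (mult χ ξ : ℤ) * (mult ψ η : ℤ) * contrib p b ξ η with hmdef
    have hm0 : m ≠ 0 := fun h => hm (by rw [h, Int.cast_zero]; exact ideal_zero hM)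
    rw [Complex.normSq_intCast]
    have h1 : (1 : ℤ) ≤ m * m := Int.add_one_le_iff.2 (mul_self_pos.2 hm0)
    exact_mod_cast h1
  obtain ⟨k, rfl⟩ := Nat.exists_eq_succ_of_ne_zero hk0.ne'
  set N := p ^ (k + 1) with hN
  have hN0 : 0 < N := pow_pos hM.1.pos _
  obtain ⟨ζ, hζ⟩ : ∃ ζ : ℂ, IsPrimitiveRoot ζ N := ⟨_, Complex.isPrimitiveRoot_exp N hN0.ne'⟩
  have hlam : ∀ ξ : IrrCharacter H, ∃ a < N, ζ ^ a = lam z ξ := fun ξ => hζ.eq_pow_of_pow_eq_one (hlk ξ)
  choose a haN ha using hlam
  set f : IrrCharacter H × IrrCharacter H → ℕ := fun x => (N - a x.1) + a x.2 with hf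
  set q : IrrCharacter G → IrrCharacter G → IrrCharacter H × IrrCharacter H → ℤ :=
    fun χ ψ x => (mult χ x.1 : ℤ) * (mult ψ x.2 : ℤ) * contrib p b x.1 x.2 with hq
  have hval : ∀ (j : ℕ) (χ ψ : IrrCharacter G), entry p (z ^ j) b χ ψ =
      ∑ x ∈ members b ×ˢ members b, (q χ ψ x : ℂ) * ζ ^ (f x * j) := by
    intro j χ ψ
    rw [entry, Finset.sum_product]
    refine Finset.sum_congr rfl fun ξ _ => Finset.sum_congr rfl fun η _ => ?_
    have hcj : conj (lam z ξ) = ζ ^ (N - a ξ) := by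
      rw [← ha, map_pow, ← Complex.inv_eq_conj (Complex.norm_eq_one_of_pow_eq_one hζ.pow_eq_one hN0.ne'), inv_pow]
      refine inv_eq_of_mul_eq_one_right ?_
      rw [← pow_add, Nat.add_sub_of_le (haN ξ).le, hζ.pow_eq_one]
    rw [lam_pow hzc, lam_pow hzc, map_pow, ← mul_pow, hcj, ← ha η, ← pow_add, ← pow_mul]
    simp only [hq, hf]
    push_cast
    ring
  set J := (Finset.range N).filter fun j => ¬ p ∣ j with hJ
  have hJpos : (0 : ℝ) < J.card := by
    refine Nat.cast_pos.2 (Finset.card_pos.2 ⟨1, ?_⟩)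
    rw [hJ, Finset.mem_filter, Finset.mem_range]
    exact ⟨Nat.one_lt_pow k.succ_ne_zero hM.1.one_lt, hM.1.not_dvd_one⟩
  have heach : ∀ j ∈ J, ∑ χ ∈ members B, ∑ ψ ∈ members B, Complex.normSq (entry p (z ^ j) b χ ψ) =
      (p : ℝ) ^ (2 * blockDefect p b) * (blockRank p b : ℝ) := by
    intro j hj
    have hjp : ¬ p ∣ j := (Finset.mem_filter.1 hj).2
    have hcop : (orderOf u).Coprime j := hk ▸ (hM.1.coprime_iff_not_dvd.2 hjp).pow_left _
    obtain ⟨m, hm⟩ := exists_pow_eq_self_of_coprime hcop.symm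
    have hHj : ∀ g, g ∈ H ↔ Commute (u ^ j) g := fun g => by
      rw [hH]
      exact ⟨fun h => h.pow_left j, fun h => by rw [← hm]; exact h.pow_left m⟩
    have hvj : ∃ i, orderOf (u ^ j) = p ^ i := ⟨k + 1, by rw [Nat.Coprime.orderOf_pow hcop, hk]⟩
    have h := sum_normSq_entry hM hvj hHj hind
    rw [show (⟨u ^ j, (hHj (u ^ j)).2 (Commute.refl _)⟩ : H) = z ^ j from Subtype.ext (by simp [hz])] at h
    exact h
  refine le_of_mul_le_mul_left ?_ hJpos
  calc (J.card : ℝ) * ((members B).card : ℝ) ^ 2 = ∑ _χ ∈ members B, ∑ _ψ ∈ members B, (J.card : ℝ) := by simp; ring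
    _ ≤ ∑ χ ∈ members B, ∑ ψ ∈ members B, ∑ j ∈ J, Complex.normSq (entry p (z ^ j) b χ ψ) := by
        refine Finset.sum_le_sum fun χ hχ => Finset.sum_le_sum fun ψ hψ => ?_
        simp only [hval]
        refine BlockContribRoots.card_le_sum_normSq _ (q χ ψ) f hM.1 hζ fun h0 => hne χ hχ ψ hψ ?_
        have h1 := hval 1 χ ψ
        simp only [mul_one, pow_one] at h1
        rw [h1, h0]
        exact ideal_zero hM
    _ = (J.card : ℝ) * ((p : ℝ) ^ (2 * blockDefect p b) * (blockRank p b : ℝ)) := by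
        rw [Finset.sum_congr rfl fun χ _ => Finset.sum_comm, Finset.sum_comm, Finset.sum_congr rfl heach,
          Finset.sum_const, nsmul_eq_mul]

end

/-- Let p be a prime, M a maximal ideal of the algebraic integers containing p, and B a p-block of defect d of the finite group G all of whose irreducible characters have height zero. Let y be a p-element, C = C_G(y), and b a block of C inducing B and having the same defect d (a major subsection). Then k(B)^2 ≤ p^(2d)·l(b), where k(B) is the number of irreducible characters in B and l(b) the p-regular rank of b (its number of irreducible Brauer characters); in particular (y = 1) k(B)^2 ≤ p^(2d)·l(B). -/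
theorem result {G : Type*} [Group G] [Finite G] (p : ℕ) [Fact p.Prime] (M : Ideal Cfsg.AlgInt) (hM : Cfsg.IsPModular p M) (B : Set (Cfsg.IrrCharacter G)) (hB : Cfsg.IsPBlock M B) (d : ℕ) (hd : Cfsg.blockDefect p B = d) (hh : ∀ χ ∈ B, Cfsg.blockHeight p B (χ : G → ℂ) = 0) (y : G) (hy : ∃ k : ℕ, orderOf y = p ^ k) (b : Set (Cfsg.IrrCharacter ↥(Subgroup.centralizer ({y} : Set G)))) (hind : Cfsg.IsInducedBlock M (Subgroup.centralizer ({y} : Set G)) b B) (hbd : Cfsg.blockDefect p b = d) : Nat.card B ^ 2 ≤ p ^ (2 * d) * Cfsg.blockRank p b := by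
  classical
  have := Fintype.ofFinite G
  have hH : ∀ g, g ∈ Subgroup.centralizer ({y} : Set G) ↔ Commute y g := fun g => by
    rw [Subgroup.mem_centralizer_singleton_iff]
    exact ⟨fun h => h.symm, fun h => h.eq.symm⟩
  have h := main hM hy hH hind (hbd.trans hd.symm) hh
  rwa [hbd] at h

end Cfsg.Agent.S4716
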