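import Cfsg.Statements.S0941
import Cfsg.Agent.Lib.BlockTheoryNormal
import Cfsg.Agent.Lib.BlockNormalP81
import Cfsg.Agent.Lib.CharKernel

set_option autoImplicit false
open Cfsg

namespace Cfsg.Agent.S0941
/-- Two conjugate regular elements centralising a normal `p`-subgroup that agree modulo it are
equal. -/
theorem eq_of_coset {G : Type*} [Group G] [Finite G] {p : ℕ} (hp : p.Prime) {P : Subgroup G}
    (hP : IsPGroup p P) {g z : G} (hg : g ∈ Subgroup.centralizer (P : Set G)) (hgr : ¬ p ∣ orderOf g)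
    (hz : z ∈ P) (hzr : ¬ p ∣ orderOf (g * z)) : z = 1 := by
  haveI := Fact.mk hp
  have hc : Commute z g := Subgroup.mem_centralizer_iff.mp hg z hz
  obtain ⟨k, hk⟩ := IsPGroup.iff_orderOf.mp hP ⟨z, hz⟩
  rw [Subgroup.orderOf_mk] at hk
  exact BlockTheoryIdem.pPart_unique hp ⟨g, hc.eq, hc, ⟨k, hk⟩, hgr⟩
    ⟨g * z, one_mul _, Commute.one_left _, ⟨0, by simp⟩, hzr⟩



/-- Let P be a normal p-subgroup of the finite group G such that the index of C_G(P) is a power of p, and fix a maximal ideal M of the algebraic integers containing p. Then (i) two irreducible characters of G ⧸ P lie in the same block if and only if their inflations to G do, and (ii) every block of G contains the inflation of some irreducible character of G ⧸ P; so inflation induces a bijection between the blocks of G ⧸ P and the blocks of G. -/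
theorem result {G : Type*} [Group G] [Finite G] (p : ℕ) [Fact p.Prime] (M : Ideal Cfsg.AlgInt) (hM : Cfsg.IsPModular p M) (P : Subgroup G) [P.Normal] (hP : IsPGroup p P) (hC : ∃ k : ℕ, (Subgroup.centralizer (P : Set G)).index = p ^ k) : (∀ χ ψ : Cfsg.IrrCharacter (G ⧸ P), Cfsg.SameBlock M (χ : G ⧸ P → ℂ) (ψ : G ⧸ P → ℂ) ↔ Cfsg.SameBlock M ((χ : G ⧸ P → ℂ) ∘ QuotientGroup.mk) ((ψ : G ⧸ P → ℂ) ∘ QuotientGroup.mk)) ∧ ∀ B : Set (Cfsg.IrrCharacter G), Cfsg.IsPBlock M B → ∃ χ : Cfsg.IrrCharacter (G ⧸ P), ∃ θ ∈ B, (θ : G → ℂ) = (χ : G ⧸ P → ℂ) ∘ QuotientGroup.mk := by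
  classical
  haveI := Fintype.ofFinite G
  haveI := Fintype.ofFinite (G ⧸ P)
  have hp : p.Prime := Fact.out
  obtain ⟨k, hk⟩ := hC
  set inflate := fun χ : Cfsg.IrrCharacter (G ⧸ P) => (CharKernel.quotEquiv P χ).1 with hinf
  have hco : ∀ χ : Cfsg.IrrCharacter (G ⧸ P),
      ((inflate χ : Cfsg.IrrCharacter G) : G → ℂ) = (χ : G ⧸ P → ℂ) ∘ QuotientGroup.mk :=
    fun χ => funext fun g => CharKernel.quotEquiv_apply P χ g
  -- the index of the image of a centralizer
  have hdvd : ∀ g : G, ∃ m : ℕ, (Subgroup.centralizer ({g} : Set G)).index =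
      m * (Subgroup.centralizer ({(g : G ⧸ P)} : Set (G ⧸ P))).index := by
    intro g
    have hle : Subgroup.centralizer ({g} : Set G) ≤
        (Subgroup.centralizer ({(g : G ⧸ P)} : Set (G ⧸ P))).comap (QuotientGroup.mk' P) := by
      intro u hu
      rw [Subgroup.mem_comap, Subgroup.mem_centralizer_singleton_iff, QuotientGroup.mk'_apply,
        ← QuotientGroup.mk_mul, ← QuotientGroup.mk_mul, Subgroup.mem_centralizer_singleton_iff.mp hu]
    obtain ⟨m, hm⟩ := Subgroup.index_dvd_of_le hle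
    rw [Subgroup.index_comap_of_surjective _ (QuotientGroup.mk'_surjective P)] at hm
    exact ⟨m, by rw [hm, mul_comm]⟩
  -- regular classes have the same size in the quotient
  have heq : ∀ g : G, ¬ p ∣ orderOf g → (Subgroup.centralizer ({g} : Set G)).index =
      (Subgroup.centralizer ({(g : G ⧸ P)} : Set (G ⧸ P))).index := by
    intro g hg
    have hgC : g ∈ Subgroup.centralizer (P : Set G) := by
      have h1 : orderOf (g : G ⧸ Subgroup.centralizer (P : Set G)) ∣ p ^ k := by
        rw [← hk, Subgroup.index_eq_card]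
        exact orderOf_dvd_natCard _
      have h2 : orderOf (g : G ⧸ Subgroup.centralizer (P : Set G)) ∣ orderOf g :=
        orderOf_map_dvd (QuotientGroup.mk' (Subgroup.centralizer (P : Set G))) g
      rw [← QuotientGroup.eq_one_iff, ← orderOf_eq_one_iff]
      exact Nat.eq_one_of_dvd_coprimes
        (Nat.Coprime.pow_left k (hp.coprime_iff_not_dvd.2 hg)) h1 h2
    rw [← Subgroup.index_comap_of_surjective
      (Subgroup.centralizer ({(g : G ⧸ P)} : Set (G ⧸ P))) (QuotientGroup.mk'_surjective P)]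
    congr 1
    refine le_antisymm (fun u hu => ?_) (fun u hu => ?_)
    · rw [Subgroup.mem_comap, Subgroup.mem_centralizer_singleton_iff, QuotientGroup.mk'_apply,
        ← QuotientGroup.mk_mul, ← QuotientGroup.mk_mul, Subgroup.mem_centralizer_singleton_iff.mp hu]
    · rw [Subgroup.mem_comap, Subgroup.mem_centralizer_singleton_iff, QuotientGroup.mk'_apply,
        ← QuotientGroup.mk_mul, ← QuotientGroup.mk_mul] at hu
      have hz : (u * g * u⁻¹)⁻¹ * g ∈ P := by
        rw [← QuotientGroup.eq, QuotientGroup.mk_mul, hu, ← QuotientGroup.mk_mul,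
          mul_inv_cancel_right]
      have hz' : g⁻¹ * (u * g * u⁻¹) ∈ P := by
        have := inv_mem hz
        simpa [mul_assoc] using this
      have := eq_of_coset hp hP hgC hg hz' (by
        rw [mul_inv_cancel_left, show orderOf (u * g * u⁻¹) = orderOf g from
          orderOf_injective (MulAut.conj u).toMonoidHom (MulAut.conj u).injective g]
        exact hg)
      rw [Subgroup.mem_centralizer_singleton_iff]
      exact mul_inv_eq_iff_eq_mul.mp (inv_mul_eq_one.mp this).symm
  refine ⟨fun χ ψ => ⟨fun h g => ?_, fun h => ?_⟩, fun B hB => ?_⟩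
  · obtain ⟨m, hm⟩ := hdvd g
    have h' := BlockTheoryLocalRing.ideal_mul_left hM (natCast_mem (BlockTheoryLocalRing.localRing hM) m)
      (h (g : G ⧸ P))
    convert h' using 1
    simp only [Cfsg.centralChar, Function.comp_apply, QuotientGroup.mk_one, hm, Nat.cast_mul]
    ring
  · refine BlockTheoryNormal.sameBlock_of_regular hM fun q hq => ?_
    obtain ⟨g₀, rfl⟩ := QuotientGroup.mk_surjective q
    obtain ⟨z, g, hzg, hc, ⟨j, hj⟩, hgr⟩ := BlockTheoryIdem.exists_pPart hp g₀
    have hz1 : (z : G ⧸ P) = 1 := by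
      have h1 : (z : G ⧸ P) * g = g₀ := by rw [← QuotientGroup.mk_mul, hzg]
      have hcq : Commute (z : G ⧸ P) (g : G ⧸ P) := hc.map (QuotientGroup.mk' P)
      obtain ⟨i, -, hi⟩ := (Nat.dvd_prime_pow hp).1
        (hj ▸ orderOf_map_dvd (QuotientGroup.mk' P) z)
      exact BlockTheoryIdem.pPart_unique hp
        ⟨(g : G ⧸ P), h1, hcq, ⟨i, hi⟩, fun hd => hgr (hd.trans (orderOf_map_dvd (QuotientGroup.mk' P) g))⟩
        ⟨(g₀ : G ⧸ P), one_mul _, Commute.one_left _, ⟨0, by simp⟩, hq⟩
    have hg : (g : G ⧸ P) = g₀ := by rw [← hzg, QuotientGroup.mk_mul, hz1, one_mul]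
    have h' := h g
    simp only [Cfsg.centralChar, Function.comp_apply, QuotientGroup.mk_one, heq g hgr, hg] at h'
    exact h'
  · obtain ⟨θ, hθ, hker⟩ := BlockNormalP81.exists_trivial_on hM hB P hP
    obtain ⟨χ, hχ⟩ := CharKernel.exists_quot_irr P θ hker
    exact ⟨χ, θ, hθ, funext hχ⟩

end Cfsg.Agent.S0941
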