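import Cfsg.Statements.S0950
import Cfsg.Agent.Lib.TransferAlperin
import Cfsg.Agent.Lib.QuaternionOddAut
import Cfsg.Agent.Lib.SignalizerStrongEmb

set_option autoImplicit false
open Cfsg

namespace Cfsg.Agent.S0950

open QuaternionGroup

theorem central_q8 : ∀ q : QuaternionGroup 2, q * q = 1 → ∀ r, q * r = r * q := by decide

theorem small_q8 : ∀ p q : QuaternionGroup 2, p * p = 1 → q * q = 1 → (p = 1 ↔ q = 1) → p = q := by
  decide

theorem pow_four_q8 : ∀ q : QuaternionGroup 2, q ^ 4 = 1 := by decide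

theorem cover_q8 : ∀ x y : QuaternionGroup 2, x * x ≠ 1 → y * y ≠ 1 → x ≠ a 1 → x ≠ a 3 →
    y ≠ a 1 → y ≠ a 3 → x ≠ y → x ≠ y⁻¹ → ∀ q, q * q ≠ 1 →
      q = a 1 ∨ q = (a 1)⁻¹ ∨ q = x ∨ q = x⁻¹ ∨ q = y ∨ q = y⁻¹ := by decide

/-- A nontrivial automorphism of odd order permutes the three cyclic subgroups of order four
transitively. -/
theorem orbit_q8 {φ : MulAut (QuaternionGroup 2)} (hodd : Odd (orderOf φ)) (hφ : φ ≠ 1)
    {q r : QuaternionGroup 2} (hq : q * q ≠ 1) (hr : r * r ≠ 1) :
    ∃ k : ℕ, (φ ^ k) q = r ∨ (φ ^ k) q = r⁻¹ := by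
  have h3 := QuaternionOddAut.pow_three_eq_one_q8 hodd
  have hns : ∀ z : ZMod (2 * 2), φ (a 1) ≠ a z := fun z h =>
    hφ (QuaternionOddAut.eq_one_of_cyclic_invariant (m := 1) rfl hodd h)
  have hsq : ∀ (k : ℕ) (u : QuaternionGroup 2), u * u ≠ 1 → (φ ^ k) u * (φ ^ k) u ≠ 1 :=
    fun k u hu h => by
      rw [← map_mul, map_eq_one_iff _ (φ ^ k).injective] at h
      exact hu h
  have e2 : ∀ u, (φ ^ 2) u = φ (φ u) := fun u => by rw [pow_two, MulAut.mul_apply]
  have hy1 : φ ((φ ^ 2) (a 1)) = a 1 := by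
    rw [← MulAut.mul_apply, ← pow_succ', h3, MulAut.one_apply]
  have e1 : (φ ^ 2) (a 1) ≠ a 1 := fun h => by
    rw [h] at hy1
    exact hns 1 hy1
  have e3 : (φ ^ 2) (a 1) ≠ a 3 := by
    intro h
    rw [h] at hy1
    refine hns 3 ?_
    have hinv : (a 3 : QuaternionGroup 2)⁻¹ = a 1 := by decide
    have hinv' : (a 1 : QuaternionGroup 2)⁻¹ = a 3 := by decide
    rw [← hinv, map_inv, hy1, hinv']
  have hxy : (φ ^ 1) (a 1) ≠ (φ ^ 2) (a 1) := by
    rw [pow_one, e2]
    exact fun h => hns 1 (φ.injective h).symm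
  have hxy' : (φ ^ 1) (a 1) ≠ ((φ ^ 2) (a 1))⁻¹ := by
    rw [pow_one, e2, ← map_inv]
    intro h
    have h' := congrArg (·⁻¹) (φ.injective h)
    simp only [inv_inv] at h'
    rw [show (a 1 : QuaternionGroup 2)⁻¹ = a 3 by decide] at h'
    exact hns 3 h'.symm
  have hcov := cover_q8 _ _ (hsq 1 _ (by decide)) (hsq 2 _ (by decide))
    (by rw [pow_one]; exact hns 1) (by rw [pow_one]; exact hns 3) e1 e3 hxy hxy'
  have hreach : ∀ u, u * u ≠ 1 → ∃ k : ℕ, k < 3 ∧ ((φ ^ k) (a 1) = u ∨ (φ ^ k) (a 1) = u⁻¹) := by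
    intro u hu
    rcases hcov u hu with rfl | rfl | rfl | rfl | rfl | rfl
    · exact ⟨0, by omega, Or.inl rfl⟩
    · exact ⟨0, by omega, Or.inr (by rw [inv_inv]; rfl)⟩
    · exact ⟨1, by omega, Or.inl rfl⟩
    · exact ⟨1, by omega, Or.inr (by rw [inv_inv])⟩
    · exact ⟨2, by omega, Or.inl rfl⟩
    · exact ⟨2, by omega, Or.inr (by rw [inv_inv])⟩
  obtain ⟨i, hi, hiq⟩ := hreach q hq
  obtain ⟨j, -, hjr⟩ := hreach r hr
  refine ⟨j + (3 - i), ?_⟩
  have e : (φ ^ (j + (3 - i))) ((φ ^ i) (a 1)) = (φ ^ j) (a 1) := by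
    rw [← MulAut.mul_apply, ← pow_add, show j + (3 - i) + i = j + 3 by omega, pow_add, h3, mul_one]
  rcases hiq with hiq | hiq <;> rcases hjr with hjr | hjr <;> rw [hiq, hjr] at e
  · exact Or.inl e
  · exact Or.inr e
  · refine Or.inr ?_
    rw [map_inv, inv_eq_iff_eq_inv] at e
    exact e
  · refine Or.inl ?_
    rw [map_inv, inv_inj] at e
    exact e

/-- Let S be a Sylow 2-subgroup of the finite group G that is isomorphic to the quaternion group of order 8, and suppose S has no normal complement in G. Then any two subgroups of order 4 of S are conjugate by an element of the normalizer of S. -/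
theorem result {G : Type*} [Group G] [Finite G] (S : Sylow 2 G) (e : (S : Subgroup G) ≃* QuaternionGroup 2) (hnc : ∀ N : Subgroup G, N.Normal → ¬ Subgroup.IsComplement' N (S : Subgroup G)) (A B : Subgroup G) (hA : A ≤ S) (hB : B ≤ S) (hA4 : Nat.card A = 4) (hB4 : Nat.card B = 4) : ∃ n ∈ Subgroup.normalizer ((S : Subgroup G) : Set G), B = A.map (MulAut.conj n).toMonoidHom := by
  classical
  haveI : Fact (Nat.Prime 2) := ⟨Nat.prime_two⟩
  have h8 : Nat.card (S : Subgroup G) = 8 := by
    rw [Nat.card_congr e.toEquiv, Nat.card_eq_fintype_card, QuaternionGroup.card]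
  -- orders of elements with nontrivial square
  have hsq : ∀ t ∈ (S : Subgroup G), t * t ≠ 1 → orderOf t = 4 := by
    intro t ht htt
    refine orderOf_eq_prime_pow (p := 2) (n := 1) (by rwa [pow_one, pow_two]) ?_
    have h4 := pow_four_q8 (e ⟨t, ht⟩)
    rw [← map_pow, map_eq_one_iff e e.injective] at h4
    exact congrArg Subtype.val h4
  have hinvol : ∀ t : ↥(S : Subgroup G), (t : G) * t = 1 → e t * e t = 1 := fun t h => by
    rw [← map_mul, map_eq_one_iff e e.injective]
    exact Subtype.ext h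
  -- some element of odd order of `N(S)` acts nontrivially on `S`
  have key : ∃ g ∈ Subgroup.normalizer ((S : Subgroup G) : Set G),
      Nat.Coprime (orderOf g) 2 ∧ g ∉ Subgroup.centralizer ((S : Subgroup G) : Set G) := by
    by_contra hcon
    have hC : Cfsg.HasNormalPComplement 2 G := by
      refine TransferAlperin.hasNormalPComplement_of_local S fun T hT _ hcen _ g hg hcop => ?_
      by_cases hST : T = (S : Subgroup G)
      · subst hST
        exact by_contra fun h => hcon ⟨g, hg, hcop, h⟩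
      by_cases hall : ∀ t ∈ T, t * t = 1
      · exfalso
        refine hST (le_antisymm hT fun s hs => hcen ⟨hs, ?_⟩)
        show s ∈ Subgroup.centralizer _
        rw [Subgroup.mem_centralizer_iff]
        intro t ht
        have := central_q8 (e ⟨t, hT ht⟩) (hinvol ⟨t, hT ht⟩ (hall t ht)) (e ⟨s, hs⟩)
        rw [← map_mul, ← map_mul] at this
        exact congrArg Subtype.val (e.injective this)
      push Not at hall
      obtain ⟨t, ht, htt⟩ := hall
      have hord := hsq t (hT ht) htt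
      -- `T` is cyclic of order four
      have hTt : T = Subgroup.zpowers t := by
        refine (Subgroup.eq_of_le_of_card_ge (Subgroup.zpowers_le.2 ht) ?_).symm
        rw [Nat.card_zpowers, hord]
        have hd : Nat.card T ∣ 2 ^ 3 := (Subgroup.card_dvd_of_le hT).trans (dvd_of_eq h8)
        obtain ⟨i, hi, hci⟩ := (Nat.dvd_prime_pow Nat.prime_two).1 hd
        rw [hci]
        interval_cases i <;> norm_num
        exact hST (Subgroup.eq_of_le_of_card_ge hT (by omega))
      subst hTt
      rw [Subgroup.mem_centralizer_iff]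
      intro u hu
      obtain ⟨k, rfl⟩ := Subgroup.mem_zpowers_iff.1 hu
      refine (Commute.zpow_left ?_ k).eq
      have hgt : g * t * g⁻¹ ∈ Subgroup.zpowers t :=
        (Subgroup.mem_normalizer_iff.1 hg t).1 (Subgroup.mem_zpowers t)
      obtain ⟨m, hm⟩ := mem_powers_iff_mem_zpowers.2 hgt
      simp only at hm
      have ho : orderOf (g * t * g⁻¹) = 4 := by rw [SignalizerStrongEmb.orderOf_conj, hord]
      have hmm : g * t * g⁻¹ = t ^ (m % 4) := by rw [← hord, pow_mod_orderOf]; exact hm.symm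
      have hlt : m % 4 < 4 := Nat.mod_lt _ (by norm_num)
      rw [hmm, orderOf_pow, hord] at ho
      have h13 : g * t * g⁻¹ = t ∨ g * t * g⁻¹ = t⁻¹ := by
        interval_cases hm4 : m % 4 <;> norm_num at ho
        · exact Or.inl (hmm.trans (pow_one t))
        · refine Or.inr (hmm.trans (eq_inv_of_mul_eq_one_left ?_))
          rw [← pow_succ, show 3 + 1 = orderOf t from hord.symm, pow_orderOf_eq_one]
      rcases h13 with h | h
      · exact ((eq_mul_inv_iff_mul_eq).1 h.symm)
      · exfalso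
        have hk : ∀ j : ℕ, g ^ j * t * (g ^ j)⁻¹ = if Odd j then t⁻¹ else t := by
          intro j
          induction j with
          | zero => simp
          | succ j ih =>
            rw [pow_succ', mul_inv_rev, show g * g ^ j * t * ((g ^ j)⁻¹ * g⁻¹) =
              g * (g ^ j * t * (g ^ j)⁻¹) * g⁻¹ by group, ih]
            by_cases hj : Odd j
            · rw [if_pos hj, if_neg (by simp [Nat.odd_add_one, hj]), ← conj_inv, h, inv_inv]
            · rw [if_neg hj, if_pos (by simp [Nat.odd_add_one, hj]), h]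
        have := hk (orderOf g)
        rw [pow_orderOf_eq_one, if_pos (Nat.coprime_two_right.1 hcop), one_mul, inv_one,
          mul_one] at this
        exact htt (mul_eq_one_iff_eq_inv.2 this)
    obtain ⟨P, N, hN, hc⟩ := hC
    have hcardPS : Nat.card (P : Subgroup G) = Nat.card (S : Subgroup G) :=
      Nat.card_congr (P.equiv S).toEquiv
    refine hnc N hN (Subgroup.isComplement'_of_card_mul_and_disjoint ?_ ?_)
    · rw [← hcardPS, hc.card_mul]
    · refine Subgroup.disjoint_of_coprime_natCard ?_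
      have := P.card_coprime_index.symm
      rw [hc.index_eq_card, hcardPS] at this
      exact this
  obtain ⟨g, hg, hcop, hgc⟩ := key
  set ψ : MulAut ↥(S : Subgroup G) :=
    Subgroup.normalizerMonoidHom (S : Subgroup G) ⟨g, hg⟩ with hψ
  set φ := MulAut.congr e ψ with hφdef
  have hψk : ∀ (k : ℕ) (s : ↥(S : Subgroup G)), ((ψ ^ k) s : G) = g ^ k * s * (g ^ k)⁻¹ := by
    intro k s
    rw [hψ, ← map_pow]
    rfl
  have hodd : Odd (orderOf φ) := by
    refine Odd.of_dvd_nat (Nat.coprime_two_right.1 hcop) ?_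
    rw [hφdef, ← MulEquiv.coe_toMonoidHom (MulAut.congr e),
      orderOf_injective _ (MulAut.congr e).injective, hψ]
    refine (orderOf_map_dvd _ _).trans ?_
    rw [Subgroup.orderOf_mk]
  have hne : φ ≠ 1 := by
    intro h
    apply hgc
    rw [hφdef, map_eq_one_iff _ (MulAut.congr e).injective] at h
    rw [Subgroup.mem_centralizer_iff]
    intro s hs
    have := hψk 1 ⟨s, hs⟩
    rw [h, one_pow, pow_one] at this
    exact eq_mul_inv_iff_mul_eq.1 this
  have gen : ∀ T : Subgroup G, T ≤ (S : Subgroup G) → Nat.card T = 4 →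
      ∃ t : ↥(S : Subgroup G), e t * e t ≠ 1 ∧ T = Subgroup.zpowers (t : G) := by
    intro T hT h4
    by_cases hall : ∀ t ∈ T, t * t = 1
    · exfalso
      have hle : Nat.card T ≤ 2 := by
        refine le_trans (Nat.card_le_card_of_injective
          (fun t : T => decide (e ⟨t, hT t.2⟩ = 1)) ?_) (by simp)
        intro u v huv
        simp only [decide_eq_decide] at huv
        have h := e.injective (small_q8 _ _ (hinvol ⟨u, hT u.2⟩ (hall _ u.2))
          (hinvol ⟨v, hT v.2⟩ (hall _ v.2)) huv)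
        exact Subtype.ext (congrArg (fun x : ↥(S : Subgroup G) => (x : G)) h :)
      omega
    push Not at hall
    obtain ⟨t, ht, htt⟩ := hall
    refine ⟨⟨t, hT ht⟩, ?_, (Subgroup.eq_of_le_of_card_ge (Subgroup.zpowers_le.2 ht) ?_).symm⟩
    · rw [← map_mul, Ne, map_eq_one_iff e e.injective]
      exact fun h => htt (congrArg Subtype.val h)
    · rw [Nat.card_zpowers, hsq t (hT ht) htt, h4]
  obtain ⟨t, ht, rfl⟩ := gen A hA hA4
  obtain ⟨u, hu, rfl⟩ := gen B hB hB4
  obtain ⟨k, hk⟩ := orbit_q8 hodd hne ht hu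
  refine ⟨g ^ k, pow_mem hg k, ?_⟩
  have happ : (φ ^ k) (e t) = e ((ψ ^ k) t) := by
    rw [hφdef, ← map_pow]
    simp [MulAut.congr]
  rw [happ, ← map_inv, e.injective.eq_iff, e.injective.eq_iff] at hk
  rw [MonoidHom.map_zpowers, MulEquiv.coe_toMonoidHom, MulAut.conj_apply, ← hψk k t]
  rcases hk with hk | hk <;> rw [hk]
  rw [InvMemClass.coe_inv, Subgroup.zpowers_inv]


end Cfsg.Agent.S0950
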