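import Cfsg.Statements.S4571
import Cfsg.Agent.Lib.BlockTheoryIdem
import Cfsg.Agent.Lib.CharBasicDecomp

set_option autoImplicit false
open Cfsg

namespace Cfsg.Agent.S4571

universe u v

open BlockTheoryLocalRing BlockTheoryCentre BlockTheoryIdem CharBasic CharBasicOrth CharBasicDecomp in
open scoped ComplexConjugate in
theorem blockRank_eq {G : Type u} {H : Type u} [Group G] [Group H] [Fintype G] [Fintype H] {p : ℕ}
    [hp : Fact p.Prime] {M : Ideal Cfsg.AlgInt} (hM : Cfsg.IsPModular p M) (π : G →* H)
    (hπ : Function.Surjective π) (hker : IsPGroup p π.ker)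
    (hsup : π.ker ⊔ Subgroup.centralizer (π.ker : Set G) = ⊤) :
    Cfsg.blockRank p (Cfsg.principalBlock M G) = Cfsg.blockRank p (Cfsg.principalBlock M H) := by
  classical
  have hB : IsPBlock M (principalBlock M G) := ⟨trivIrr G, rfl⟩
  have hBH : IsPBlock M (principalBlock M H) := ⟨trivIrr H, rfl⟩
  -- `p`-regular elements centralize the kernel
  have hcen : ∀ x : G, ¬ p ∣ orderOf x → x ∈ Subgroup.centralizer (π.ker : Set G) := by
    intro x hx
    obtain ⟨q, hq, c, hc, rfl⟩ := Subgroup.mem_sup_of_normal_left.1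
      (hsup ▸ Subgroup.mem_top x : x ∈ π.ker ⊔ Subgroup.centralizer (π.ker : Set G))
    obtain ⟨j, hj⟩ := (IsPGroup.iff_orderOf.1 hker) ⟨q, hq⟩
    rw [Subgroup.orderOf_mk] at hj
    rw [← QuotientGroup.eq_one_iff (N := Subgroup.centralizer (π.ker : Set G)),
      ← orderOf_eq_one_iff]
    have h1 : orderOf ((q * c : G) : G ⧸ Subgroup.centralizer (π.ker : Set G)) ∣ p ^ j := by
      rw [QuotientGroup.mk_mul, (QuotientGroup.eq_one_iff c).2 hc, mul_one, ← hj]
      exact orderOf_map_dvd (QuotientGroup.mk' _) q
    refine Nat.eq_one_of_dvd_coprimes ?_ h1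
      (orderOf_map_dvd (QuotientGroup.mk' (Subgroup.centralizer (π.ker : Set G))) (q * c))
    exact (hp.out.coprime_iff_not_dvd.2 hx).pow_left j
  have hcop : ∀ {K : Type u} [Group K] (u a b : K) (j : ℕ), Commute a b → a * u = b →
      ¬ p ∣ orderOf a → ¬ p ∣ orderOf b → orderOf u ∣ p ^ j → u = 1 := by
    intro K _ u a b j hab hu ha hb hj
    have hu' : u = a⁻¹ * b := eq_inv_mul_of_mul_eq hu
    have h1 : u ^ (orderOf a * orderOf b) = 1 := by
      rw [hu', hab.inv_left.mul_pow, inv_pow, pow_mul, pow_orderOf_eq_one, one_pow, inv_one,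
        one_mul, mul_comm (orderOf a), pow_mul, pow_orderOf_eq_one, one_pow]
    rw [← orderOf_eq_one_iff]
    refine Nat.eq_one_of_dvd_coprimes ?_ (orderOf_dvd_of_pow_eq_one h1) hj
    refine Nat.Coprime.pow_right j (Nat.Coprime.mul_left ?_ ?_)
    · exact (hp.out.coprime_iff_not_dvd.2 ha).symm
    · exact (hp.out.coprime_iff_not_dvd.2 hb).symm
  -- uniqueness and existence of regular lifts
  have huniq : ∀ g g' : G, ¬ p ∣ orderOf g → ¬ p ∣ orderOf g' → π g = π g' → g = g' := by
    intro g g' hg hg' h
    have hu : g⁻¹ * g' ∈ π.ker := by rw [MonoidHom.mem_ker, map_mul, map_inv, h, inv_mul_cancel]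
    obtain ⟨j, hj⟩ := (IsPGroup.iff_orderOf.1 hker) ⟨_, hu⟩
    rw [Subgroup.orderOf_mk] at hj
    have hc : Commute g (g⁻¹ * g') :=
      (Subgroup.mem_centralizer_iff.1 (hcen g hg) _ hu).symm
    have hgg : Commute g g' := by
      have := (Commute.refl g).mul_right hc
      rwa [mul_inv_cancel_left] at this
    exact inv_mul_eq_one.1 (hcop _ g g' j hgg (mul_inv_cancel_left g g') hg hg' (dvd_of_eq hj))
  have hreg : ∀ g : G, ¬ p ∣ orderOf g → ¬ p ∣ orderOf (π g) :=
    fun g hg hd => hg (hd.trans (orderOf_map_dvd π g))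
  have hlift : ∀ h : H, ¬ p ∣ orderOf h → ∃ g : G, π g = h ∧ ¬ p ∣ orderOf g := by
    intro h hh
    obtain ⟨g, rfl⟩ := hπ h
    obtain ⟨x, y, hxy, hcomm, ⟨k, hk⟩, hy⟩ := exists_pPart hp.out g
    refine ⟨y, ?_, hy⟩
    have h1 : π y * π x = π g := by rw [← map_mul, ← hcomm.eq, hxy]
    have hyg : Commute y g := hxy ▸ hcomm.symm.mul_right (Commute.refl y)
    have := hcop (π x) (π y) (π g) k (hyg.map π) h1 (hreg y hy) hh (hk ▸ orderOf_map_dvd π x)
    rw [this, mul_one] at h1
    exact h1
  -- indices of centralizers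
  have hidx : ∀ g : G, ¬ p ∣ orderOf g → (Subgroup.centralizer ({π g} : Set H)).index =
      (Subgroup.centralizer ({g} : Set G)).index := by
    intro g hg
    rw [← Subgroup.index_comap_of_surjective _ hπ]
    congr 1
    ext x
    simp only [Subgroup.mem_comap, Subgroup.mem_centralizer_iff, Set.mem_singleton_iff, forall_eq]
    refine ⟨fun h => ?_, fun h => by rw [← map_mul, ← map_mul, h]⟩
    have h2 : π (x * g * x⁻¹) = π g := by
      rw [map_mul, map_mul, map_inv, ← h, mul_inv_cancel_right]
    have h3 : ¬ p ∣ orderOf (x * g * x⁻¹) := by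
      rwa [show x * g * x⁻¹ = MulAut.conj x g from rfl, MulEquiv.orderOf_eq]
    exact (mul_inv_eq_iff_eq_mul.1 (huniq _ _ h3 hg h2)).symm
  -- inflation
  let infl : IrrCharacter H → IrrCharacter G :=
    fun ψ => ⟨ψ.1 ∘ π, isIrrCharacter_comap π hπ ψ.2⟩
  have hinfl : ∀ ψ, ψ ∈ principalBlock M H ↔ infl ψ ∈ principalBlock M G := by
    intro ψ
    constructor
    · intro hψ g
      have h := (hψ : SameBlock M (fun _ : H => (1 : ℂ)) ψ.1) (π g)
      have hle : Subgroup.centralizer ({g} : Set G) ≤
          (Subgroup.centralizer ({π g} : Set H)).comap π := by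
        intro x hx
        simp only [Subgroup.mem_comap, Subgroup.mem_centralizer_iff, Set.mem_singleton_iff,
          forall_eq] at hx ⊢
        rw [← map_mul, ← map_mul, hx]
      obtain ⟨k, hk⟩ := Subgroup.index_dvd_of_le hle
      rw [Subgroup.index_comap_of_surjective _ hπ] at hk
      have h2 := ideal_mul_left hM (natCast_mem (localRing hM) k : MemLocalRing M _) h
      convert h2 using 1
      simp only [centralChar, hk, Nat.cast_mul, infl, Function.comp_apply, map_one]
      ring
    · intro hψ
      by_contra hn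
      have hz := isCen_idem (principalBlock M H)
      have h0 : MemLocalIdeal M (omega (trivIrr H : H → ℂ) (idem (principalBlock M H)) -
          omega ψ.1 (idem (principalBlock M H))) := by
        rw [hz.eq_sum_classSum, map_sum, map_sum, ← Finset.sum_sub_distrib]
        refine ideal_sum hM fun C _ => ?_
        rw [map_smul, map_smul, smul_eq_mul, smul_eq_mul, ← mul_sub, coeff_idem]
        by_cases hC : p ∣ orderOf C.out
        · rw [blockCoeff_eq_zero_of_dvd hM hBH hC, zero_mul]
          exact ideal_zero hM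
        · refine ideal_mul_left hM (blockCoeff_mem hM hBH _) ?_
          rw [omega_classSum (irr_classFun (trivIrr H)), omega_classSum (irr_classFun ψ)]
          obtain ⟨g, hg, hgr⟩ := hlift _ hC
          have h2 := (hψ : SameBlock M (fun _ : G => (1 : ℂ)) (infl ψ).1) g
          convert h2 using 1
          simp only [centralChar, infl, Function.comp_apply, map_one, trivIrr, ← hg, hidx g hgr]
      rw [omega_idem, omega_idem, if_pos (show trivIrr H ∈ principalBlock M H from
        sameBlock_refl hM _), if_neg hn, sub_zero] at h0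
      exact one_not_ideal hM h0
  -- the regular part of a character of the principal block
  have hkey : ∀ χ : IrrCharacter G, χ ∈ principalBlock M G → ∃ a : IrrCharacter H → ℂ,
      (∀ ψ, ψ ∉ principalBlock M H → a ψ = 0) ∧
      ∀ x : G, ¬ p ∣ orderOf x → χ.1 x = ∑ ψ, a ψ * ψ.1 (π x) := by
    intro χ hχ
    let f : H → ℂ := fun h => if hh : ¬ p ∣ orderOf h then χ.1 (hlift h hh).choose else 0
    have hfval : ∀ x : G, ¬ p ∣ orderOf x → f (π x) = χ.1 x := by
      intro x hx
      simp only [f, dif_pos (hreg x hx)]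
      exact congrArg χ.1 (huniq _ _ (hlift _ (hreg x hx)).choose_spec.2 hx
        (hlift _ (hreg x hx)).choose_spec.1)
    have hf : IsClassFunction H f := by
      intro h k
      have hord : orderOf (k * h * k⁻¹) = orderOf h := by
        rw [show k * h * k⁻¹ = MulAut.conj k h from rfl, MulEquiv.orderOf_eq]
      by_cases hh : p ∣ orderOf h
      · simp only [f, dif_neg (not_not.2 hh), dif_neg (not_not.2 (hord.symm ▸ hh))]
      · obtain ⟨g, rfl, hg⟩ := hlift h hh
        obtain ⟨x, rfl⟩ := hπ k
        rw [← map_inv, ← map_mul, ← map_mul, hfval g hg, hfval _ (by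
          rwa [show x * g * x⁻¹ = MulAut.conj x g from rfl, MulEquiv.orderOf_eq])]
        exact irr_classFun χ g x
    let b : IrrCharacter H → ℂ := fun ψ => classInner f ψ.1
    refine ⟨fun ψ => if ψ ∈ principalBlock M H then b ψ else 0, fun ψ hψ => if_neg hψ,
      fun x hx => ?_⟩
    let D : G → ℂ := χ.1 - ∑ ψ : IrrCharacter H, b ψ • (infl ψ).1
    have hD : ∀ y : G, ¬ p ∣ orderOf y → D y = 0 := by
      intro y hy
      have := congrFun (eq_sum_classInner hf) (π y)
      rw [hfval y hy, Finset.sum_apply] at this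
      simp only [D, Pi.sub_apply, Finset.sum_apply, Pi.smul_apply, infl, Function.comp_apply]
      rw [this]
      exact sub_self _
    have h1 : ∑ ξ : IrrCharacter G,
        (if ξ ∈ principalBlock M G then classInner D ξ.1 * ξ.1 x else 0) = 0 := by
      have h2 : ∀ y : G, D y * ∑ ξ : IrrCharacter G,
          (if ξ ∈ principalBlock M G then ξ.1 x * conj (ξ.1 y) else 0) = 0 := by
        intro y
        by_cases hy : p ∣ orderOf y
        · rw [weak_orthogonality hM hB hx hy, mul_zero]
        · rw [hD y hy, zero_mul]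
      calc _ = (Nat.card G : ℂ)⁻¹ * ∑ y : G, D y * ∑ ξ : IrrCharacter G,
            (if ξ ∈ principalBlock M G then ξ.1 x * conj (ξ.1 y) else 0) := by
            simp only [Finset.mul_sum]
            rw [Finset.sum_comm]
            refine Finset.sum_congr rfl fun ξ _ => ?_
            split_ifs
            · rw [classInner, Finset.mul_sum, Finset.sum_mul]
              exact Finset.sum_congr rfl fun y _ => by ring
            · simp
        _ = 0 := by simp [h2]
    simp only [D, classInner_sub_left, classInner_sum_left, classInner_smul_left, sub_mul,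
      Finset.sum_mul] at h1
    have h3 : ∀ ξ : IrrCharacter G, (if ξ ∈ principalBlock M G then
        classInner χ.1 ξ.1 * ξ.1 x - ∑ ψ, b ψ * classInner (infl ψ).1 ξ.1 * ξ.1 x else 0) =
        (if ξ ∈ principalBlock M G then classInner χ.1 ξ.1 * ξ.1 x else 0) -
          ∑ ψ, if ξ ∈ principalBlock M G then b ψ * classInner (infl ψ).1 ξ.1 * ξ.1 x else 0 := by
      intro ξ
      split_ifs <;> simp
    rw [Finset.sum_congr rfl (fun ξ _ => h3 ξ), Finset.sum_sub_distrib, sub_eq_zero,
      Finset.sum_comm, Finset.sum_eq_single χ (fun ξ _ hne => by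
        rw [classInner_irr_ne χ.2 ξ.2 fun h => hne (Subtype.ext h.symm)]; simp) (by simp),
      if_pos hχ, classInner_irr_self χ.2, one_mul] at h1
    rw [h1]
    refine Finset.sum_congr rfl fun ψ _ => ?_
    rw [Finset.sum_eq_single (infl ψ) (fun ξ _ hne => by
      rw [classInner_irr_ne (infl ψ).2 ξ.2 fun h => hne (Subtype.ext h.symm)]; simp) (by simp),
      classInner_irr_self (infl ψ).2, mul_one]
    by_cases hψ : ψ ∈ principalBlock M H
    · simp only []; rw [if_pos hψ, if_pos ((hinfl ψ).1 hψ)]; rfl
    · simp only []; rw [if_neg hψ, if_neg (fun h => hψ ((hinfl ψ).2 h)), zero_mul]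
  -- the spans
  let L : (H → ℂ) →ₗ[ℂ] (G → ℂ) :=
    { toFun := fun f x => if ¬ p ∣ orderOf x then f (π x) else 0
      map_add' := fun f g => funext fun x => by simp only [Pi.add_apply]; split_ifs <;> simp
      map_smul' := fun c f => funext fun x => by
        simp only [Pi.smul_apply, smul_eq_mul, RingHom.id_apply]; split_ifs <;> simp }
  have hL : ∀ ψ : IrrCharacter H, L (pRegularPart p ψ.1) = pRegularPart p (infl ψ).1 := by
    intro ψ
    funext x
    show (if ¬ p ∣ orderOf x then pRegularPart p ψ.1 (π x) else 0) = _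
    simp only [pRegularPart, IsPRegular, infl, Function.comp_apply]
    by_cases hx : p ∣ orderOf x
    · simp [hx]
    · simp [hx, hreg x hx]
  unfold blockRank
  set WH := Submodule.span ℂ
    ((fun χ : IrrCharacter H => pRegularPart p (χ : H → ℂ)) '' principalBlock M H)
  have hmap : WH.map L = Submodule.span ℂ
      ((fun χ : IrrCharacter G => pRegularPart p (χ : G → ℂ)) '' principalBlock M G) := by
    rw [Submodule.map_span, ← Set.image_comp]
    refine le_antisymm (Submodule.span_le.2 ?_) (Submodule.span_le.2 ?_)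
    · rintro _ ⟨ψ, hψ, rfl⟩
      exact Submodule.subset_span ⟨infl ψ, (hinfl ψ).1 hψ, (hL ψ).symm⟩
    · rintro _ ⟨χ, hχ, rfl⟩
      obtain ⟨a, ha0, ha⟩ := hkey χ hχ
      have : pRegularPart p χ.1 = ∑ ψ : IrrCharacter H, a ψ • L (pRegularPart p ψ.1) := by
        funext x
        simp only [hL, Finset.sum_apply, Pi.smul_apply, smul_eq_mul, pRegularPart, IsPRegular]
        by_cases hx : p ∣ orderOf x
        · simp [hx]
        · simp only [hx, not_false_eq_true, if_true]
          rw [ha x hx]
          rfl
      show pRegularPart p χ.1 ∈ _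
      rw [this]
      refine Submodule.sum_mem _ fun ψ _ => ?_
      by_cases hψ : ψ ∈ principalBlock M H
      · exact Submodule.smul_mem _ _ (Submodule.subset_span ⟨ψ, hψ, rfl⟩)
      · rw [ha0 ψ hψ, zero_smul]; exact Submodule.zero_mem _
  have hsing : ∀ f ∈ WH, ∀ h : H, p ∣ orderOf h → f h = 0 := by
    intro f hf
    induction hf using Submodule.span_induction with
    | mem f hf =>
      obtain ⟨ψ, -, rfl⟩ := hf
      intro h hh
      simp [pRegularPart, IsPRegular, hh]
    | zero => exact fun _ _ => rfl
    | add f g _ _ hf hg => exact fun h hh => by simp [hf h hh, hg h hh]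
    | smul c f _ hf => exact fun h hh => by simp [hf h hh]
  have hinj : Function.Injective (L.domRestrict WH) := by
    rw [injective_iff_map_eq_zero]
    rintro ⟨f, hf⟩ hf0
    refine Subtype.ext (funext fun h => ?_)
    by_cases hh : p ∣ orderOf h
    · exact hsing f hf h hh
    · obtain ⟨g, rfl, hg⟩ := hlift h hh
      have h4 := congrFun hf0 g
      change (if ¬ p ∣ orderOf g then f (π g) else 0) = 0 at h4
      rwa [if_pos hg] at h4
  rw [← hmap, ← LinearMap.range_domRestrict]
  exact LinearMap.finrank_range_of_inj hinj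


/-- Let Q be a normal p-subgroup of the finite group G with G = Q·C_G(Q), and M a maximal ideal of the algebraic integers containing p. Then the principal p-blocks of G and of G/Q have the same p-regular rank (the same number of irreducible Brauer characters). -/
theorem result {G : Type*} [Group G] [Finite G] (p : ℕ) [Fact p.Prime] (M : Ideal Cfsg.AlgInt) (hM : Cfsg.IsPModular p M) (Q : Subgroup G) [Q.Normal] (hQ : IsPGroup p Q) (hsup : Q ⊔ Subgroup.centralizer (Q : Set G) = ⊤) : Cfsg.blockRank p (Cfsg.principalBlock M G) = Cfsg.blockRank p (Cfsg.principalBlock M (G ⧸ Q)) := by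
  classical
  haveI : Fintype G := Fintype.ofFinite G
  haveI : Fintype (G ⧸ Q) := Fintype.ofFinite _
  refine blockRank_eq hM (QuotientGroup.mk' Q) (QuotientGroup.mk'_surjective Q) ?_ ?_
  · rw [QuotientGroup.ker_mk']; exact hQ
  · rw [QuotientGroup.ker_mk']; exact hsup

end Cfsg.Agent.S4571
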