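import Cfsg.Statements.S4646
import Mathlib
import Cfsg.Agent.Lib.BlockPrincipal81
import Cfsg.Agent.Lib.TransferAlperin
-- import your own Cfsg.Agent.* helpers here

set_option autoImplicit false
open Cfsg

namespace Cfsg.Agent.S4646

open Cfsg.Agent.BlockTheoryLocalRing Cfsg.Agent.BlockTheoryCentre Cfsg.Agent.BlockTheoryIdem
open Cfsg.Agent.BlockPrincipal81 Cfsg.Agent.TransferPResidual
open scoped ComplexConjugate

theorem pRegular_ker_of_rank_one {G : Type*} [Group G] [Finite G] {p : ℕ} {M : Ideal Cfsg.AlgInt}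
    (hM : Cfsg.IsPModular p M) (hl : Cfsg.blockRank p (Cfsg.principalBlock M G) = 1)
    {g : G} (hg : Cfsg.IsPRegular p g) {χ : Cfsg.IrrCharacter G}
    (hχ : χ ∈ Cfsg.principalBlock M G) : (χ : G → ℂ) g = (χ : G → ℂ) 1 := by
  classical
  set S := Submodule.span ℂ ((fun χ : Cfsg.IrrCharacter G => Cfsg.pRegularPart p (χ : G → ℂ)) ''
    Cfsg.principalBlock M G) with hS
  have h1 : Cfsg.IsPRegular p (1 : G) := by simp [Cfsg.IsPRegular, hM.1.ne_one]
  let f : S := ⟨Cfsg.pRegularPart p ((oneChar G : Cfsg.IrrCharacter G) : G → ℂ),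
    Submodule.subset_span ⟨_, oneChar_mem hM, rfl⟩⟩
  have hf : f ≠ 0 := by
    intro h
    have := congrFun (congrArg Subtype.val h) 1
    simp [f, Cfsg.pRegularPart, if_pos h1, oneChar] at this
  obtain ⟨c, hc⟩ := (finrank_eq_one_iff_of_nonzero' f hf).mp hl
    ⟨_, Submodule.subset_span ⟨χ, hχ, rfl⟩⟩
  have e1 := congrFun (congrArg Subtype.val hc) 1
  have e2 := congrFun (congrArg Subtype.val hc) g
  simp only [f, SetLike.val_smul, Pi.smul_apply, Cfsg.pRegularPart, if_pos h1, if_pos hg,
    oneChar, smul_eq_mul, mul_one] at e1 e2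
  rw [← e1, ← e2]

theorem ker_of_normal_prime_to_p {G : Type*} [Group G] [Finite G] {p : ℕ} {M : Ideal Cfsg.AlgInt}
    (hM : Cfsg.IsPModular p M) (N : Subgroup G) [N.Normal] (hN : ¬ p ∣ Nat.card N)
    {χ : Cfsg.IrrCharacter G} (hχ : χ ∈ Cfsg.principalBlock M G) {n : G} (hn : n ∈ N) :
    (χ : G → ℂ) n = (χ : G → ℂ) 1 := by
  classical
  have := Fintype.ofFinite G
  set c : ℂ := (Nat.card N : ℂ)⁻¹ with hc
  have hN0 : (Nat.card N : ℂ) ≠ 0 := Nat.cast_ne_zero.mpr Nat.card_pos.ne'
  set z : MonoidAlgebra ℂ G := ofFun fun x => if x ∈ N then c else 0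
  have hzc : IsCen z := fun g h => by
    simp only [z, coeff_ofFun]
    have : h * g * h⁻¹ ∈ N ↔ g ∈ N :=
      ⟨fun e => by simpa [mul_assoc] using (inferInstance : N.Normal).conj_mem _ e h⁻¹,
        fun e => (inferInstance : N.Normal).conj_mem _ e h⟩
    simp only [this]
  have hzi : IsInt M z := fun x => by
    simp only [z, coeff_ofFun]
    split_ifs
    exacts [inv_natCast_mem hM hN, (localRing hM).zero_mem]
  have hsum : ∀ f : G → ℂ, ∑ x, (if x ∈ N then c else 0) * f x = c * ∑ x : N, f x := by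
    intro f
    have e := Finset.sum_subtype (F := inferInstance) (p := fun x => x ∈ N)
      (Finset.univ.filter fun x => x ∈ N) (fun x => by simp) f
    rw [← e, Finset.sum_filter, Finset.mul_sum]
    exact Finset.sum_congr rfl fun x _ => by split_ifs <;> simp
  have hzz : z * z = z := by
    refine MonoidAlgebra.ext ?_
    ext x
    rw [coeff_mul_eq]
    simp only [z, coeff_ofFun]
    rw [hsum]
    have h1 : ∀ y : N, (if (y : G)⁻¹ * x ∈ N then c else 0) = if x ∈ N then c else 0 := fun y => by
      simp only [Subgroup.mul_mem_cancel_left N (inv_mem y.2)]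
    simp only [h1, Finset.sum_const, Finset.card_univ, nsmul_eq_mul, ← Nat.card_eq_fintype_card]
    rw [← mul_assoc, hc, inv_mul_cancel₀ hN0, one_mul]
  have hone : omega ((oneChar G : Cfsg.IrrCharacter G) : G → ℂ) z = 1 := by
    rw [omega_one_apply]
    have := hsum fun _ => 1
    simp only [mul_one, Finset.sum_const, Finset.card_univ, nsmul_eq_mul, ← Nat.card_eq_fintype_card,
      hc, inv_mul_cancel₀ hN0] at this
    simpa [z, hc] using this
  have h2 := omega_sub_mem hM (χ := oneChar G) (ψ := χ) hχ hzc hzi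
  rw [hone] at h2
  have h3 : omega (χ : G → ℂ) z = 1 := by
    have h4 := omega_mul χ hzc z
    rw [hzz] at h4
    rcases (mul_eq_zero.mp (show omega (χ : G → ℂ) z * (1 - omega (χ : G → ℂ) z) = 0 by
      rw [mul_sub, mul_one, ← h4, sub_self])) with h | h
    · rw [h, sub_zero] at h2
      exact absurd h2 (one_not_ideal hM)
    · exact (sub_eq_zero.mp h).symm
  rw [omega_apply, chiSum_apply] at h3
  simp only [z, coeff_ofFun, hsum] at h3
  obtain ⟨d, hd⟩ := CharBasic.isIrrCharacter_apply_one χ.2
  have hd0 := CharBasic.isIrrCharacter_apply_one_ne_zero χ.2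
  rw [inv_mul_eq_iff_eq_mul₀ hd0, mul_one, hc, inv_mul_eq_iff_eq_mul₀ hN0] at h3
  have hχc := CharBasic.isCharacter_of_isIrrCharacter χ.2
  have h5 : ∀ x : G, ((χ : G → ℂ) x).re ≤ d ∧ ‖(χ : G → ℂ) x‖ ≤ d := fun x => by
    have h6 := CharBasic.isCharacter_norm_le hχc x
    rw [hd.2] at h6
    simp only [Complex.natCast_re] at h6
    exact ⟨(Complex.re_le_norm _).trans h6, h6⟩
  have h7 : ∑ x : N, ((d : ℝ) - ((χ : G → ℂ) x).re) = 0 := by
    rw [Finset.sum_sub_distrib, ← Complex.re_sum, h3, hd.2]
    simp [← Nat.card_eq_fintype_card]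
  have h8 := (Finset.sum_eq_zero_iff_of_nonneg (fun (x : N) _ => sub_nonneg.mpr (h5 x).1)).mp h7
    ⟨n, hn⟩ (Finset.mem_univ _)
  have hre : ((χ : G → ℂ) n).re = d := (sub_eq_zero.mp h8).symm
  rw [hd.2]
  apply Complex.ext
  · simpa using hre
  · have h9 : ‖(χ : G → ℂ) n‖ = ((χ : G → ℂ) n).re :=
      le_antisymm (hre ▸ (h5 n).2) (Complex.re_le_norm _)
    have h10 := Complex.sq_norm ((χ : G → ℂ) n)
    rw [h9, Complex.normSq_apply] at h10
    simp only [Complex.natCast_im]
    nlinarith [h10]


/-- For a finite group G, a prime p and a maximal ideal M of the algebraic integers containing p: the principal block of G is nilpotent if and only if its p-regular rank is 1 (the trivial Brauer character is its only irreducible Brauer character). -/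
theorem result {G : Type*} [Group G] [Finite G] (p : ℕ) [Fact p.Prime] (M : Ideal Cfsg.AlgInt) (hM : Cfsg.IsPModular p M) : Cfsg.IsNilpotentBlock p M (Cfsg.principalBlock M G) ↔ Cfsg.blockRank p (Cfsg.principalBlock M G) = 1 := by
  classical
  have : Fintype G := Fintype.ofFinite G
  constructor
  · rintro ⟨-, hnil⟩
    have hcomp : Cfsg.HasNormalPComplement p G := by
      refine (TransferAlperin.hasNormalPComplement_iff_centralizer (default : Sylow p G)).mpr
        fun Q hQ g hg hc => ?_
      have hQp := (default : Sylow p G).isPGroup'.to_le hQ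
      have hgC : g ∈ Subgroup.normalizer ((Subgroup.centralizer (Q : Set G) : Subgroup G) : Set G) := by
        rw [Subgroup.mem_normalizer_iff]
        intro c
        simp only [Subgroup.mem_centralizer_iff]
        refine ⟨fun h u hu => ?_, fun h u hu => ?_⟩
        · have h1 := h (g⁻¹ * u * g) (by
            have := (Subgroup.mem_normalizer_iff.mp hg (g⁻¹ * u * g)).mpr (by simpa [mul_assoc] using hu)
            exact this)
          calc u * (g * c * g⁻¹) = g * ((g⁻¹ * u * g) * c) * g⁻¹ := by group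
            _ = g * (c * (g⁻¹ * u * g)) * g⁻¹ := by rw [h1]
            _ = _ := by group
        · have h1 := h (g * u * g⁻¹) ((Subgroup.mem_normalizer_iff.mp hg u).mp hu)
          calc u * c = g⁻¹ * ((g * u * g⁻¹) * (g * c * g⁻¹)) * g := by group
            _ = g⁻¹ * ((g * c * g⁻¹) * (g * u * g⁻¹)) * g := by rw [h1]
            _ = _ := by group
      exact hnil Q _ (isBrauerPairOf_principal hM hQp) g hg (stabilizes_principal hgC)
        (fun h => (Fact.out : p.Prime).ne_one (Nat.eq_one_of_dvd_coprimes hc h dvd_rfl))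
    obtain ⟨P, N, hN, hNP⟩ := hcomp
    have hNp : ¬ p ∣ Nat.card N := by
      intro hd
      obtain ⟨x, hx⟩ := exists_prime_orderOf_dvd_card' p hd
      have := (mem_iff_coprime_of_isComplement' hNP _).mp x.2
      rw [Subgroup.orderOf_coe, hx] at this
      exact (Fact.out : p.Prime).ne_one ((Nat.coprime_self p).mp this)
    have h1 : Cfsg.IsPRegular p (1 : G) := by simp [Cfsg.IsPRegular, (Fact.out : p.Prime).ne_one]
    have hspan : Submodule.span ℂ ((fun χ : Cfsg.IrrCharacter G =>
        Cfsg.pRegularPart p (χ : G → ℂ)) '' Cfsg.principalBlock M G) =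
        Submodule.span ℂ {Cfsg.pRegularPart p ((oneChar G : Cfsg.IrrCharacter G) : G → ℂ)} := by
      refine le_antisymm (Submodule.span_le.mpr ?_) (Submodule.span_mono ?_)
      · rintro _ ⟨χ, hχ, rfl⟩
        rw [SetLike.mem_coe, Submodule.mem_span_singleton]
        refine ⟨(χ : G → ℂ) 1, ?_⟩
        funext x
        simp only [Pi.smul_apply, Cfsg.pRegularPart, smul_eq_mul, oneChar]
        split_ifs with hx
        · rw [mul_one, ker_of_normal_prime_to_p hM N hNp hχ ((mem_iff_coprime_of_isComplement' hNP _).mpr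
            (((Fact.out : p.Prime).coprime_iff_not_dvd.mpr hx).symm))]
        · rw [mul_zero]
      · rintro _ rfl
        exact ⟨_, oneChar_mem hM, rfl⟩
    rw [Cfsg.blockRank, hspan, finrank_span_singleton]
    intro h
    have := congrFun h 1
    simp [Cfsg.pRegularPart, if_pos h1, oneChar] at this
  · intro hl
    refine ⟨isPBlock_principal, fun Q e hQe x hxN _ hx => ?_⟩
    rw [Subgroup.mem_centralizer_iff]
    intro u hu
    set c := x * u * x⁻¹ * u⁻¹ with hc
    have hcQ : c ∈ Q := mul_mem ((Subgroup.mem_normalizer_iff.mp hxN u).mp hu) (inv_mem hu)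
    have hreg : ¬ p ∣ orderOf c := not_dvd_of_forall_eq hM isPBlock_principal fun χ hχ =>
      apply_commutator_eq χ (pRegular_ker_of_rank_one hM hl hx hχ) u
    obtain ⟨k, hk⟩ := IsPGroup.iff_orderOf.mp hQe.1.1 ⟨c, hcQ⟩
    rw [← Subgroup.orderOf_coe] at hk
    rcases k with _ | k
    · rw [pow_zero, orderOf_eq_one_iff] at hk
      change c = 1 at hk
      rw [hc, mul_inv_eq_one, mul_inv_eq_iff_eq_mul] at hk
      exact hk.symm
    · exact absurd (hk ▸ dvd_pow_self p k.succ_ne_zero) hreg

end Cfsg.Agent.S4646
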