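import Cfsg.Statements.S4492
import Cfsg.Agent.Lib.BlockTheoryFong
import Cfsg.Agent.Lib.HallConstrained
import Cfsg.Agent.Lib.HallSolvable

set_option autoImplicit false
open Cfsg

namespace Cfsg.Agent.S4492

/-- Let G be a finite p-solvable group, N = O_{p'}(G) its largest normal subgroup of order prime to p, and θ an irreducible character of N invariant under conjugation by G; fix a maximal ideal M of the algebraic integers containing p. Then the irreducible characters of G lying over θ (those whose restriction to N contains θ) form a single p-block of G, and the defect groups of that block are exactly the Sylow p-subgroups of G. -/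
theorem result {G : Type*} [Group G] [Fintype G] (p : ℕ) [Fact p.Prime] (M : Ideal Cfsg.AlgInt) (hM : Cfsg.IsPModular p M) (hsolv : Cfsg.IsPSolvable p G) (N : Subgroup G) [hN : N.Normal] [Fintype N] (hNdef : N = Cfsg.pPrimeCore p G) (θ : Cfsg.IrrCharacter N) (hinv : ∀ (g : G) (n : N), (θ : N → ℂ) ⟨g * n * g⁻¹, hN.conj_mem n n.2 g⟩ = (θ : N → ℂ) n) : ∃ B : Set (Cfsg.IrrCharacter G), Cfsg.IsPBlock M B ∧ (∀ χ : Cfsg.IrrCharacter G, χ ∈ B ↔ Cfsg.classInner (fun n : N => (χ : G → ℂ) n) (θ : N → ℂ) ≠ 0) ∧ (∀ P : Sylow p G, Cfsg.IsDefectGroup p M B (P : Subgroup G)) ∧ ∀ D : Subgroup G, Cfsg.IsDefectGroup p M B D → ∃ P : Sylow p G, D = (P : Subgroup G) := by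
  subst hNdef
  have hNp : ¬ p ∣ Nat.card (pPrimeCore p G) := HallCore.not_dvd_card_pPrimeCore p G
  obtain ⟨k, hk⟩ := HallCore.relIndex_pPrimePCore p G
  haveI : (pPrimePCore p G).Normal := by unfold pPrimePCore; infer_instance
  obtain ⟨S⟩ : Nonempty (Sylow p ↥(pPrimePCore p G)) := inferInstance
  refine BlockTheoryFong.exists_block (U := pPrimePCore p G) (S := HallConstrained.sylImg S)
    (k := k) (pPrimeCore p G) hM hNp (HallCore.pPrimeCore_le_pPrimePCore p G) hk
    (Subgroup.map_subtype_le _) (S.2.map _) ?_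
    (HallSolvable.isPConstrained_of_isPSolvable hsolv S)
    (BlockTheoryFong.invariant_conjIrr _ hinv)
  rw [Subgroup.card_map_of_injective Subtype.val_injective, Sylow.card_eq_multiplicity]
  congr 1
  rw [← Subgroup.index_mul_card ((pPrimeCore p G).subgroupOf (pPrimePCore p G)),
    show ((pPrimeCore p G).subgroupOf (pPrimePCore p G)).index = p ^ k from hk,
    Nat.card_congr (Subgroup.subgroupOfEquivOfLe (HallCore.pPrimeCore_le_pPrimePCore p G)).toEquiv,
    Nat.factorization_mul (pow_ne_zero _ (Fact.out : p.Prime).ne_zero) Nat.card_pos.ne',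
    Finsupp.add_apply, Nat.factorization_eq_zero_of_not_dvd hNp, add_zero,
    Nat.Prime.factorization_pow (Fact.out : p.Prime), Finsupp.single_eq_same]

end Cfsg.Agent.S4492
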