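import Cfsg.Statements.S1226
import Cfsg.Agent.Lib.SignalizerStrongEmb

set_option autoImplicit false
open Cfsg

namespace Cfsg.Agent.S1226

/-- Let G be a finite group with a Sylow 2-subgroup T that is neither cyclic nor normal, such that the centralizer of every involution is an elementary abelian 2-group. Then N_G(T) is a strongly embedded subgroup of G. -/
theorem result {G : Type*} [Group G] [Finite G] (T : Sylow 2 G) (hnc : ¬ IsCyclic (T : Subgroup G)) (hnn : ¬ (T : Subgroup G).Normal) (hC : ∀ t : G, orderOf t = 2 → IsMulCommutative (Subgroup.centralizer ({t} : Set G)) ∧ ∀ c ∈ Subgroup.centralizer ({t} : Set G), c ^ 2 = 1) : Cfsg.IsStronglyEmbedded (Subgroup.normalizer ((T : Subgroup G) : Set G)) := by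
  haveI : Fact (Nat.Prime 2) := ⟨Nat.prime_two⟩
  have hTne : (T : Subgroup G) ≠ ⊥ := fun h => hnc (by rw [h]; infer_instance)
  have hCT : ∀ t ∈ (T : Subgroup G), orderOf t = 2 →
      Subgroup.centralizer ({t} : Set G) = (T : Subgroup G) := by
    obtain ⟨z, hz, hz2, hzc⟩ : ∃ z ∈ (T : Subgroup G), orderOf z = 2 ∧
        ∀ s ∈ (T : Subgroup G), s * z = z * s := by
      haveI : Nontrivial ↥(T : Subgroup G) := (Subgroup.nontrivial_iff_ne_bot _).2 hTne
      haveI : Nontrivial ↥(Subgroup.center ↥(T : Subgroup G)) := T.isPGroup'.center_nontrivial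
      have hp : IsPGroup 2 ↥(Subgroup.center ↥(T : Subgroup G)) := T.isPGroup'.to_subgroup _
      obtain ⟨k, hk0, hk⟩ := hp.nontrivial_iff_card.1 inferInstance
      obtain ⟨z, hz⟩ := exists_prime_orderOf_dvd_card'
        (G := ↥(Subgroup.center ↥(T : Subgroup G))) 2 (by rw [hk]; exact dvd_pow_self 2 hk0.ne')
      refine ⟨z.1.1, z.1.2, by rw [Subgroup.orderOf_coe, Subgroup.orderOf_coe, hz], fun s hs => ?_⟩
      exact congrArg Subtype.val (Subgroup.mem_center_iff.1 z.2 ⟨s, hs⟩)
    intro t ht ht2
    have hTz : (T : Subgroup G) ≤ Subgroup.centralizer ({z} : Set G) := fun s hs =>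
      Subgroup.mem_centralizer_singleton_iff.2 (hzc s hs)
    have hcomm : (T : Subgroup G) ≤ Subgroup.centralizer ({t} : Set G) := by
      intro s hs
      rw [Subgroup.mem_centralizer_singleton_iff]
      haveI := (hC z hz2).1
      exact congrArg Subtype.val
        (mul_comm' (⟨s, hTz hs⟩ : ↥(Subgroup.centralizer ({z} : Set G))) ⟨t, hTz ht⟩)
    have hp : IsPGroup 2 ↥(Subgroup.centralizer ({t} : Set G)) := by
      intro c
      exact ⟨1, Subtype.ext (by simpa using (hC t ht2).2 c.1 c.2)⟩
    exact T.is_maximal' hp hcomm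
  have hmem : ∀ t ∈ Subgroup.normalizer ((T : Subgroup G) : Set G), orderOf t = 2 →
      t ∈ (T : Subgroup G) := by
    intro t htN ht2
    have hp : IsPGroup 2 ↥(Subgroup.zpowers t) := by
      refine IsPGroup.of_card (n := 1) ?_
      rw [Nat.card_zpowers, ht2, pow_one]
    have h := IsPGroup.to_sup_of_normal_right' hp T.isPGroup'
      ((Subgroup.zpowers_le).2 htN)
    rw [← T.is_maximal' h le_sup_right]
    exact Subgroup.mem_sup_left (Subgroup.mem_zpowers t)
  rw [SignalizerStrongEmb.isStronglyEmbedded_iff]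
  refine ⟨fun h => hnn (Subgroup.normalizer_eq_top_iff.1 h), ?_, fun t htN ht g hg => ?_⟩
  · obtain ⟨k, hk0, hk⟩ := T.isPGroup'.nontrivial_iff_card.1
      ((Subgroup.nontrivial_iff_ne_bot _).2 hTne)
    rw [even_iff_two_dvd]
    refine dvd_trans ?_ (Subgroup.card_dvd_of_le Subgroup.le_normalizer)
    rw [hk]
    exact dvd_pow_self 2 hk0.ne'
  · have htT := hmem t htN ht
    have ht' : orderOf (g * t * g⁻¹) = 2 := by rw [SignalizerStrongEmb.orderOf_conj, ht]
    have hgT := hmem _ hg ht'
    have key : ∀ c : G, g * c * g⁻¹ ∈ Subgroup.centralizer ({g * t * g⁻¹} : Set G) ↔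
        c ∈ Subgroup.centralizer ({t} : Set G) := by
      intro c
      rw [Subgroup.mem_centralizer_singleton_iff, Subgroup.mem_centralizer_singleton_iff]
      constructor
      · intro h
        have h' : g * (c * t) * g⁻¹ = g * (t * c) * g⁻¹ := by simpa [mul_assoc] using h
        simpa using h'
      · intro h
        calc g * c * g⁻¹ * (g * t * g⁻¹) = g * (c * t) * g⁻¹ := by group
          _ = g * (t * c) * g⁻¹ := by rw [h]
          _ = g * t * g⁻¹ * (g * c * g⁻¹) := by group
    rw [hCT t htT ht, hCT _ hgT ht'] at key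
    exact Subgroup.mem_normalizer_iff.2 fun c => (key c).symm

end Cfsg.Agent.S1226
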