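import Cfsg.Statements.S1227
import Mathlib
import Cfsg.Agent.Lib.ElemCentralizerGroup
-- import your own Cfsg.Agent.* helpers here

set_option autoImplicit false
open Cfsg
open Cfsg.Agent Cfsg.Agent.ElemCentralizerGroup

namespace Cfsg.Agent.S1227

/-- Let G be a finite group with a Sylow 2-subgroup T that is neither cyclic nor normal, such that the centralizer of every involution is an elementary abelian 2-group; put H = N_G(T), let u be an involution outside H and D = H ∩ uHu⁻¹. Then u inverts every element of D, |H| = |T|·(|T| − 1), and D is a complement to T in H. -/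
theorem result {G : Type*} [Group G] [Finite G] (T : Sylow 2 G) (hnc : ¬ IsCyclic (T : Subgroup G)) (hnn : ¬ (T : Subgroup G).Normal) (hC : ∀ t : G, orderOf t = 2 → IsMulCommutative (Subgroup.centralizer ({t} : Set G)) ∧ ∀ c ∈ Subgroup.centralizer ({t} : Set G), c ^ 2 = 1) (u : G) (hu : orderOf u = 2) (huH : u ∉ Subgroup.normalizer ((T : Subgroup G) : Set G)) : (∀ d ∈ Subgroup.normalizer ((T : Subgroup G) : Set G) ⊓ (Subgroup.normalizer ((T : Subgroup G) : Set G)).map (MulAut.conj u).toMonoidHom, u * d * u⁻¹ = d⁻¹) ∧ Nat.card (Subgroup.normalizer ((T : Subgroup G) : Set G)) = Nat.card T * (Nat.card T - 1) ∧ Subgroup.IsComplement' ((Subgroup.normalizer ((T : Subgroup G) : Set G) ⊓ (Subgroup.normalizer ((T : Subgroup G) : Set G)).map (MulAut.conj u).toMonoidHom).subgroupOf (Subgroup.normalizer ((T : Subgroup G) : Set G))) ((T : Subgroup G).subgroupOf (Subgroup.normalizer ((T : Subgroup G) : Set G))) := by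
  have h : Hyp T := ⟨hnc, hnn, hC⟩
  change (∀ d ∈ DD T u, u * d * u⁻¹ = d⁻¹) ∧ Nat.card (HH T) = _ ∧
    Subgroup.IsComplement' ((DD T u).subgroupOf (HH T)) ((T : Subgroup G).subgroupOf (HH T))
  have hcomp : Subgroup.IsComplement' ((DD T u).subgroupOf (HH T)) ((T : Subgroup G).subgroupOf (HH T)) := by
    apply Subgroup.isComplement'_of_disjoint_and_mul_eq_univ
    · rw [disjoint_iff, Subgroup.eq_bot_iff_forall]
      intro x hx
      exact Subtype.ext (h.disjoint_T hu huH hx.1 hx.2)
    · rw [Set.eq_univ_iff_forall]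
      intro x
      obtain ⟨d, hd, hdx⟩ := h.decomp hu huH x.2
      exact ⟨⟨d, hd.1⟩, hd, (⟨d, hd.1⟩ : HH T)⁻¹ * x, hdx, mul_inv_cancel_left _ _⟩
  refine ⟨fun d hd => h.inverts hu huH hd, ?_, hcomp⟩
  rw [← hcomp.card_mul,
    Nat.card_congr (Subgroup.subgroupOfEquivOfLe (show DD T u ≤ HH T from inf_le_left)).toEquiv,
    Nat.card_congr (Subgroup.subgroupOfEquivOfLe (Subgroup.le_normalizer (H := (T : Subgroup G)))).toEquiv]
  have := h.card_DD hu huH
  rw [show Nat.card (DD T u) = Nat.card (T : Subgroup G) - 1 by omega, mul_comm]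

end Cfsg.Agent.S1227
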