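import Cfsg.Statements.S1229
import Mathlib
import Cfsg.Agent.Lib.ElemCentralizerGroup
-- import your own Cfsg.Agent.* helpers here

set_option autoImplicit false
open Cfsg
open Cfsg.Agent Cfsg.Agent.ElemCentralizerGroup

namespace Cfsg.Agent.S1229

/-- Let G be a finite group with a Sylow 2-subgroup T that is neither cyclic nor normal, such that the centralizer of every involution is an elementary abelian 2-group; put H = N_G(T) and X = G/H. Then G is triply transitive on X, an element fixing three distinct points of X is the identity, and T acts regularly on X minus the point H. -/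
theorem result {G : Type*} [Group G] [Finite G] (T : Sylow 2 G) (hnc : ¬ IsCyclic (T : Subgroup G)) (hnn : ¬ (T : Subgroup G).Normal) (hC : ∀ t : G, orderOf t = 2 → IsMulCommutative (Subgroup.centralizer ({t} : Set G)) ∧ ∀ c ∈ Subgroup.centralizer ({t} : Set G), c ^ 2 = 1) : (∀ x₁ x₂ x₃ y₁ y₂ y₃ : G ⧸ Subgroup.normalizer ((T : Subgroup G) : Set G), x₁ ≠ x₂ → x₁ ≠ x₃ → x₂ ≠ x₃ → y₁ ≠ y₂ → y₁ ≠ y₃ → y₂ ≠ y₃ → ∃ g : G, g • x₁ = y₁ ∧ g • x₂ = y₂ ∧ g • x₃ = y₃) ∧ (∀ g : G, ∀ x₁ x₂ x₃ : G ⧸ Subgroup.normalizer ((T : Subgroup G) : Set G), x₁ ≠ x₂ → x₁ ≠ x₃ → x₂ ≠ x₃ → g • x₁ = x₁ → g • x₂ = x₂ → g • x₃ = x₃ → g = 1) ∧ (∀ x y : G ⧸ Subgroup.normalizer ((T : Subgroup G) : Set G), x ≠ QuotientGroup.mk 1 → y ≠ QuotientGroup.mk 1 → ∃! t : G, t ∈ T ∧ t • x = y) := by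
  have h : Hyp T := ⟨hnc, hnn, hC⟩
  obtain ⟨u, huH, hu⟩ := SignalizerStrongEmb.exists_involution_not_mem h.se
  set x₀ : G ⧸ HH T := QuotientGroup.mk 1 with hx₀
  set x₁ : G ⧸ HH T := QuotientGroup.mk u with hx₁
  have hfix0 : ∀ a : G, a • x₀ = x₀ ↔ a ∈ HH T := fun a =>
    SignalizerStrongEmb.smul_one_eq_iff
  have hT0 : ∀ t ∈ (T : Subgroup G), t • x₀ = x₀ := fun t ht => (hfix0 t).2 (Subgroup.le_normalizer ht)
  have hsmul : ∀ a b : G, a • (QuotientGroup.mk b : G ⧸ HH T) = QuotientGroup.mk (a * b) := fun a b => rfl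
  have htr : ∀ y : G ⧸ HH T, y ≠ x₀ → ∃ t ∈ (T : Subgroup G), t • x₁ = y := by
    intro y hy
    induction y using QuotientGroup.induction_on with
    | H g =>
      have hg : g ∉ HH T := fun hg => hy (QuotientGroup.eq.2 (by simpa using hg)).symm
      obtain ⟨t, ht, hte⟩ := h.exists_translate hu huH hg
      exact ⟨t, ht, hte⟩
  have hinj : ∀ s ∈ (T : Subgroup G), ∀ t ∈ (T : Subgroup G), s • x₁ = t • x₁ → s = t :=
    fun s hs t ht e => h.translate_unique hu huH hs ht e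
  have hreg : ∀ x y : G ⧸ HH T, x ≠ x₀ → y ≠ x₀ → ∃! t : G, t ∈ T ∧ t • x = y := by
    intro x y hx hy
    obtain ⟨a, ha, rfl⟩ := htr x hx
    obtain ⟨b, hb, rfl⟩ := htr y hy
    refine ⟨b * a⁻¹, ⟨mul_mem hb (inv_mem ha), by rw [smul_smul, inv_mul_cancel_right]⟩, ?_⟩
    rintro t ⟨ht, hte⟩
    rw [smul_smul] at hte
    rw [← hinj _ (mul_mem ht ha) b hb hte, mul_inv_cancel_right]
  have hD1 : ∀ d ∈ DD T u, d • x₁ = x₁ := by
    intro d hd
    rw [hx₁, hsmul, eq_comm, QuotientGroup.eq, SignalizerStrongEmb.involution_inv hu, ← mul_assoc]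
    have := ((h.mem_DD_iff hu huH).1 hd).2
    rwa [SignalizerStrongEmb.involution_inv hu] at this
  obtain ⟨t₀, ht₀, ht₀1⟩ := h.exists_involution
  set x₂ := t₀ • x₁ with hx₂
  -- move any triple of distinct points to the standard one
  have hstd : ∀ a b c : G ⧸ HH T, a ≠ b → a ≠ c → b ≠ c →
      ∃ g : G, g • a = x₀ ∧ g • b = x₁ ∧ g • c = x₂ := by
    intro a b c hab hac hbc
    obtain ⟨g₁, hg₁⟩ := MulAction.exists_smul_eq G a x₀
    obtain ⟨s, hs, hsb⟩ := htr (g₁ • b) (fun e => hab (smul_left_cancel g₁ (hg₁.trans e.symm)))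
    set g₂ := s⁻¹ * g₁
    have h2a : g₂ • a = x₀ := by rw [mul_smul, hg₁, hT0 _ (inv_mem hs)]
    have h2b : g₂ • b = x₁ := by rw [mul_smul, ← hsb, inv_smul_smul]
    obtain ⟨t, ht, htc⟩ := htr (g₂ • c) (fun e => hac (smul_left_cancel g₂ (h2a.trans e.symm)))
    have ht1 : t ≠ 1 := fun e => hbc (smul_left_cancel g₂ (by rw [h2b, ← htc, e, one_smul]))
    obtain ⟨d, hd, hdt⟩ := h.exists_conj hu huH ht ht1 ht₀ ht₀1
    refine ⟨d * g₂, ?_, ?_, ?_⟩
    · rw [mul_smul, h2a]; exact (hfix0 d).2 ((h.mem_DD_iff hu huH).1 hd).1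
    · rw [mul_smul, h2b]; exact hD1 d hd
    · rw [mul_smul, ← htc, hx₂, ← hdt]
      simp only [mul_smul]
      rw [show d⁻¹ • x₁ = x₁ by rw [inv_smul_eq_iff, hD1 d hd]]
  refine ⟨?_, ?_, hreg⟩
  · intro a b c a' b' c' hab hac hbc hab' hac' hbc'
    obtain ⟨g, ga, gb, gc⟩ := hstd a b c hab hac hbc
    obtain ⟨g', ga', gb', gc'⟩ := hstd a' b' c' hab' hac' hbc'
    exact ⟨g'⁻¹ * g, by rw [mul_smul, ga, ← ga', inv_smul_smul],
      by rw [mul_smul, gb, ← gb', inv_smul_smul], by rw [mul_smul, gc, ← gc', inv_smul_smul]⟩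
  · intro g a b c hab hac hbc ga gb gc
    obtain ⟨k, ka, kb, kc⟩ := hstd a b c hab hac hbc
    set d := k * g * k⁻¹ with hd
    have da : d • x₀ = x₀ := by rw [← ka, smul_smul, hd, inv_mul_cancel_right, mul_smul, ga]
    have db : d • x₁ = x₁ := by rw [← kb, smul_smul, hd, inv_mul_cancel_right, mul_smul, gb]
    have dc : d • x₂ = x₂ := by rw [← kc, smul_smul, hd, inv_mul_cancel_right, mul_smul, gc]
    have hdH := (hfix0 d).1 da
    have hdD : d ∈ DD T u := by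
      refine (h.mem_DD_iff hu huH).2 ⟨hdH, ?_⟩
      rw [hx₁, hsmul, eq_comm, QuotientGroup.eq, ← mul_assoc] at db
      rwa [SignalizerStrongEmb.involution_inv hu] at db ⊢
    have hconj : d * t₀ * d⁻¹ = t₀ := by
      refine hinj _ (h.conj_mem hdH ht₀) t₀ ht₀ ?_
      rw [mul_smul, mul_smul, show d⁻¹ • x₁ = x₁ by rw [inv_smul_eq_iff, db]]
      exact dc
    have h1 : d = 1 := h.disjoint_T hu huH hdD (h.cent_eq ht₀ ht₀1 (mul_inv_eq_iff_eq_mul.1 hconj))
    have : k * g * k⁻¹ = 1 := h1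
    rwa [conj_eq_one_iff] at this

end Cfsg.Agent.S1229
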