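import Cfsg.Statements.S1230
import Mathlib
import Cfsg.Agent.Lib.ElemCentralizerGroup
import Cfsg.Agent.Lib.PSLCard
import Cfsg.Agent.S1227
import Cfsg.Agent.S1229
-- import your own Cfsg.Agent.* helpers here

set_option autoImplicit false
open Cfsg
open Cfsg.Agent Cfsg.Agent.ElemCentralizerGroup

namespace Cfsg.Agent.S1230

open OnePoint
open scoped IsMulCommutative

/-- A matrix of determinant one. -/
def sl2 {R : Type*} [CommRing R] (m : Matrix (Fin 2) (Fin 2) R) (h : m.det = 1) :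
    Matrix.SpecialLinearGroup (Fin 2) R := ⟨m, h⟩

theorem sl2_coe {R : Type*} [CommRing R] (m : Matrix (Fin 2) (Fin 2) R) (h : m.det = 1) :
    ((sl2 m h : Matrix.SpecialLinearGroup (Fin 2) R) : Matrix (Fin 2) (Fin 2) R) = m := rfl

theorem exists_field.{v} {G : Type v} [Group G] [Finite G] {T : Sylow 2 G}
    [IsMulCommutative ↥(T : Subgroup G)] (h : Hyp T) {u : G}
    (hu : orderOf u = 2) (huH : u ∉ HH T) :
    ∃ (K : Type v) (_ : Field K) (ι : K → G) (κ : Kˣ → G),
      Finite K ∧ (2 : K) = 0 ∧ Nat.card K = Nat.card (T : Subgroup G) ∧ Function.Injective ι ∧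
      (∀ a, ι a ∈ (T : Subgroup G)) ∧ (∀ t ∈ (T : Subgroup G), ∃ a, ι a = t) ∧
      (∀ a b, ι (a + b) = ι a * ι b) ∧ (∀ a, κ a ∈ DD T u) ∧ (∀ d ∈ DD T u, ∃ a, κ a = d) ∧
      (∀ (a : Kˣ) (b : K), κ a * ι b * (κ a)⁻¹ = ι ((a : K) * b)) ∧ (∀ a, κ a⁻¹ = (κ a)⁻¹) := by
  let cj : DD T u → AddMonoid.End (Additive ↥(T : Subgroup G)) := fun d =>
    { toFun := fun x => Additive.ofMul ⟨(d : G) * ((Additive.toMul x : ↥(T : Subgroup G)) : G) * (d : G)⁻¹,
        h.conj_mem d.2.1 (Additive.toMul x).2⟩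
      map_zero' := by apply Additive.toMul.injective; ext; simp
      map_add' := fun x y => by apply Additive.toMul.injective; ext; simp }
  have hcj : ∀ d x, ((Additive.toMul (cj d x) : ↥(T : Subgroup G)) : G) = (d : G) * ((Additive.toMul x : ↥(T : Subgroup G)) : G) * (d : G)⁻¹ :=
    fun d x => rfl
  have hcjmul : ∀ d e, cj d * cj e = cj (d * e) := by
    intro d e; refine AddMonoidHom.ext fun x => ?_
    apply Additive.toMul.injective; apply Subtype.ext
    show (d : G) * ((e : G) * ((Additive.toMul x : ↥(T : Subgroup G)) : G) * (e : G)⁻¹) * (d : G)⁻¹ =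
      ((d : G) * (e : G)) * ((Additive.toMul x : ↥(T : Subgroup G)) : G) * ((d : G) * (e : G))⁻¹
    simp [mul_assoc]
  have hcj1 : cj 1 = 1 := by
    refine AddMonoidHom.ext fun x => ?_
    apply Additive.toMul.injective; apply Subtype.ext
    show ((1 : DD T u) : G) * ((Additive.toMul x : ↥(T : Subgroup G)) : G) * ((1 : DD T u) : G)⁻¹ =
      ((Additive.toMul x : ↥(T : Subgroup G)) : G)
    simp
  let K := Subring.centralizer (Set.range cj)
  have hcjK : ∀ d, cj d ∈ K := by
    intro d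
    rw [Subring.mem_centralizer_iff]
    rintro _ ⟨e, rfl⟩
    rw [hcjmul, hcjmul]
    congr 1
    exact Subtype.ext (h.DD_comm hu huH e.2 d.2)
  obtain ⟨t₀, ht₀, ht₁⟩ := h.exists_involution
  set v₀ : (Additive ↥(T : Subgroup G)) := Additive.ofMul ⟨t₀, ht₀⟩ with hv₀
  let ev : K → (Additive ↥(T : Subgroup G)) := fun φ => (φ : AddMonoid.End (Additive ↥(T : Subgroup G))) v₀
  have horb : ∀ x : (Additive ↥(T : Subgroup G)), x ≠ 0 → ∃ d, cj d v₀ = x := by
    intro x hx
    obtain ⟨d, hd, hde⟩ := h.exists_conj hu huH ht₀ ht₁ (Additive.toMul x).2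
      (fun e => hx (by apply Additive.toMul.injective; exact Subtype.ext e))
    exact ⟨⟨d, hd⟩, by apply Additive.toMul.injective; exact Subtype.ext hde⟩
  have hclass : ∀ φ : K, (∀ d, ev φ = cj d v₀ → (φ : AddMonoid.End (Additive ↥(T : Subgroup G))) = cj d) ∧ (ev φ = 0 → φ = 0) := by
    intro φ
    have hc : ∀ e, cj e * (φ : AddMonoid.End (Additive ↥(T : Subgroup G))) = φ * cj e :=
      fun e => Subring.mem_centralizer_iff.1 φ.2 _ ⟨e, rfl⟩
    have key : ∀ (ψ : AddMonoid.End (Additive ↥(T : Subgroup G))), (∀ e, cj e * ψ = ψ * cj e) → ψ v₀ = ev φ →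
        (φ : AddMonoid.End (Additive ↥(T : Subgroup G))) = ψ := by
      intro ψ hψ he
      refine AddMonoidHom.ext fun x => ?_
      by_cases hx : x = 0
      · subst hx
        exact (map_zero (φ : AddMonoid.End (Additive ↥(T : Subgroup G)))).trans (map_zero ψ).symm
      · obtain ⟨e, rfl⟩ := horb x hx
        have h1 := DFunLike.congr_fun (hc e) v₀
        have h2 := DFunLike.congr_fun (hψ e) v₀
        exact h1.symm.trans ((congrArg (cj e) he.symm).trans h2)
    constructor
    · intro d hd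
      exact key _ (fun e => Subring.mem_centralizer_iff.1 (hcjK d) _ ⟨e, rfl⟩) hd.symm
    · intro h0
      apply Subtype.ext
      exact key 0 (fun e => by simp) (by rw [h0]; rfl)
  have hev : Function.Bijective ev := by
    constructor
    · intro φ ψ he
      by_cases h0 : ev φ = 0
      · rw [(hclass φ).2 h0, (hclass ψ).2 (he ▸ h0)]
      · obtain ⟨d, hd⟩ := horb _ h0
        exact Subtype.ext (((hclass φ).1 d hd.symm).trans ((hclass ψ).1 d (he ▸ hd.symm)).symm)
    · intro x
      by_cases hx : x = 0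
      · exact ⟨0, hx ▸ rfl⟩
      · obtain ⟨d, hd⟩ := horb x hx
        exact ⟨⟨cj d, hcjK d⟩, hd⟩
  have hform : ∀ φ : K, φ = 0 ∨ ∃ d, (φ : AddMonoid.End (Additive ↥(T : Subgroup G))) = cj d := by
    intro φ
    by_cases h0 : ev φ = 0
    · exact Or.inl ((hclass φ).2 h0)
    · obtain ⟨d, hd⟩ := horb _ h0
      exact Or.inr ⟨d, (hclass φ).1 d hd.symm⟩
  have hne : (1 : K) ≠ 0 := fun e => by
    have h1 := congrArg ev e
    exact ht₁ (congrArg (fun x => ((Additive.toMul x : ↥(T : Subgroup G)) : G)) h1)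
  have hfield : IsField K := by
    refine ⟨⟨1, 0, hne⟩, fun a b => ?_, fun {a} ha => ?_⟩
    · rcases hform a with rfl | ⟨d, hd⟩
      · simp [sl2_coe]
      · exact Subtype.ext (show (a : AddMonoid.End (Additive ↥(T : Subgroup G))) * b = b * a by
          rw [hd]; exact Subring.mem_centralizer_iff.1 b.2 _ ⟨d, rfl⟩)
    · obtain rfl | ⟨d, hd⟩ := hform a
      · exact absurd rfl ha
      · exact ⟨⟨cj d⁻¹, hcjK _⟩, Subtype.ext (show (a : AddMonoid.End (Additive ↥(T : Subgroup G))) * cj d⁻¹ = 1 by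
          rw [hd, hcjmul, mul_inv_cancel, hcj1])⟩
  classical
  let κ₀ : K → G := fun a => if e : ∃ d, (a : AddMonoid.End (Additive ↥(T : Subgroup G))) = cj d then (e.choose : G) else 1
  let ι : K → G := fun a => ((Additive.toMul (ev a) : ↥(T : Subgroup G)) : G)
  have hcjinj : ∀ d e, cj d = cj e → d = e := by
    intro d e hde
    have := congrArg (fun φ : AddMonoid.End (Additive ↥(T : Subgroup G)) => ((Additive.toMul (φ v₀) : ↥(T : Subgroup G)) : G)) hde
    exact Subtype.ext (h.conj_unique hu huH ht₀ ht₁ d.2 e.2 this)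
  have hκ : ∀ (a : K) d, (a : AddMonoid.End (Additive ↥(T : Subgroup G))) = cj d → κ₀ a = d := by
    intro a d hd
    have e : ∃ d, (a : AddMonoid.End (Additive ↥(T : Subgroup G))) = cj d := ⟨d, hd⟩
    simp only [κ₀, dif_pos e]
    rw [hcjinj _ _ (e.choose_spec.symm.trans hd)]
  have hunit : ∀ a : Kˣ, ∃ d, ((a : K) : AddMonoid.End (Additive ↥(T : Subgroup G))) = cj d := fun a =>
    (hform (a : K)).resolve_left fun e => hne (by
      rw [← Units.inv_mul a, e, mul_zero])
  let := hfield.toField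
  refine ⟨K, hfield.toField, ι, fun a => κ₀ (a : K), ?_, ?_, ?_, ?_, ?_, ?_, ?_, ?_, ?_, ?_, ?_⟩
  · exact Finite.of_injective ev hev.1
  · apply hev.1
    show ev (2 : K) = ev 0
    rw [show (2 : K) = 1 + 1 from (one_add_one_eq_two).symm]
    apply Additive.toMul.injective
    apply Subtype.ext
    show t₀ * t₀ = 1
    rw [← sq]; exact (h.comm ht₀ ht₀).2
  · rw [Nat.card_eq_of_bijective ev hev]
    exact Nat.card_congr Additive.toMul
  · intro a b e
    exact hev.1 (Additive.toMul.injective (Subtype.ext e))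
  · exact fun a => (Additive.toMul (ev a)).2
  · intro t ht
    obtain ⟨a, ha⟩ := hev.2 (Additive.ofMul ⟨t, ht⟩)
    exact ⟨a, by simp [ι, ha]⟩
  · intro a b; rfl
  · intro a
    obtain ⟨d, hd⟩ := hunit a
    show κ₀ (a : K) ∈ _
    rw [hκ _ d hd]; exact d.2
  · intro d hd
    refine ⟨⟨⟨cj ⟨d, hd⟩, hcjK _⟩, ⟨cj ⟨d, hd⟩⁻¹, hcjK _⟩,
      Subtype.ext (show cj _ * cj _ = 1 by rw [hcjmul, mul_inv_cancel, hcj1]),
      Subtype.ext (show cj _ * cj _ = 1 by rw [hcjmul, inv_mul_cancel, hcj1])⟩, ?_⟩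
    exact hκ ⟨cj ⟨d, hd⟩, hcjK _⟩ ⟨d, hd⟩ rfl
  · intro a b
    obtain ⟨d, hd⟩ := hunit a
    show κ₀ (a : K) * ι b * (κ₀ (a : K))⁻¹ = ι ((a : K) * b)
    rw [hκ _ d hd]
    show _ = (((Additive.toMul (((a : K) : AddMonoid.End (Additive ↥(T : Subgroup G))) ((b : AddMonoid.End (Additive ↥(T : Subgroup G))) v₀))) : ↥(T : Subgroup G)) : G)
    rw [hd]
    rfl
  · intro a
    obtain ⟨d, hd⟩ := hunit a
    show κ₀ ((a⁻¹ : Kˣ) : K) = (κ₀ (a : K))⁻¹
    rw [hκ _ d hd, hκ _ d⁻¹ ?_]
    · rfl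
    · have h1 : ((a : K) : AddMonoid.End (Additive ↥(T : Subgroup G))) * ((a⁻¹ : Kˣ) : K) = 1 := congrArg Subtype.val a.mul_inv
      calc (((a⁻¹ : Kˣ) : K) : AddMonoid.End (Additive ↥(T : Subgroup G))) = cj d⁻¹ * cj d * ((a⁻¹ : Kˣ) : K) := by
            rw [hcjmul, inv_mul_cancel, hcj1, one_mul]
        _ = cj d⁻¹ := by rw [mul_assoc, ← hd, h1, mul_one]


/-- Let G be a finite group with a Sylow 2-subgroup T that is neither cyclic nor normal, such that the centralizer of every involution is an elementary abelian 2-group. Then G ≅ PSL(2,F) for a finite field F with |F| = |T|. -/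
theorem result {G : Type*} [Group G] [Finite G] (T : Sylow 2 G) (hnc : ¬ IsCyclic (T : Subgroup G)) (hnn : ¬ (T : Subgroup G).Normal) (hC : ∀ t : G, orderOf t = 2 → IsMulCommutative (Subgroup.centralizer ({t} : Set G)) ∧ ∀ c ∈ Subgroup.centralizer ({t} : Set G), c ^ 2 = 1) : ∃ (F : Type) (_ : Field F) (_ : Fintype F), Fintype.card F = Nat.card T ∧ Nonempty (G ≃* Matrix.ProjectiveSpecialLinearGroup (Fin 2) F) := by
  have h : Hyp T := ⟨hnc, hnn, hC⟩
  obtain ⟨u, huH, hu⟩ := SignalizerStrongEmb.exists_involution_not_mem h.se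
  haveI : IsMulCommutative ↥(T : Subgroup G) :=
    ⟨⟨fun a b => Subtype.ext (h.comm a.2 b.2).1⟩⟩
  obtain ⟨K, hF, ι, κ, hfin, htwo, hcardK, hιi, hιT, hιs, hιadd, hκD, hκs, hκι, hκinv⟩ :=
    exists_field h hu huH
  letI := hF
  haveI := hfin
  classical
  set q := Nat.card (T : Subgroup G) with hq
  let P := G ⧸ HH T
  let pt : OnePoint K → P := fun x => x.elim (QuotientGroup.mk 1) (fun b => QuotientGroup.mk (ι b * u))
  have hι0 : ι 0 = 1 := by
    have := hιadd 0 0
    rw [add_zero (0 : K)] at this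
    exact mul_eq_left.1 this.symm
  have hp0 : ∀ b : K, (QuotientGroup.mk (ι b * u) : P) ≠ QuotientGroup.mk 1 := by
    intro b e
    apply huH
    rw [eq_comm, QuotientGroup.eq, inv_one, one_mul] at e
    have h2 := (HH T).mul_mem ((HH T).inv_mem (Subgroup.le_normalizer (hιT b))) e
    rwa [inv_mul_cancel_left] at h2
  have hpt : Function.Bijective pt := by
    constructor
    · intro x y e
      cases x with
      | infty => cases y with
        | infty => rfl
        | coe b => exact absurd e.symm (hp0 b)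
      | coe a => cases y with
        | infty => exact absurd e (hp0 a)
        | coe b => rw [hιi (h.translate_unique hu huH (hιT a) (hιT b) e)]
    · intro p
      induction p using QuotientGroup.induction_on with
      | H g =>
        by_cases hg : g ∈ HH T
        · exact ⟨∞, QuotientGroup.eq.2 (by simpa using hg)⟩
        · obtain ⟨x, hx, hxe⟩ := h.exists_translate hu huH hg
          obtain ⟨a, rfl⟩ := hιs x hx
          exact ⟨(a : OnePoint K), hxe⟩
  let φ : G →* Equiv.Perm (OnePoint K) :=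
    (Equiv.ofBijective pt hpt).symm.permCongrHom.toMonoidHom.comp (MulAction.toPermHom G P)
  have hφ : ∀ g x y, g • pt x = pt y → φ g x = y := by
    intro g x y e
    show (Equiv.ofBijective pt hpt).symm (g • (Equiv.ofBijective pt hpt) x) = y
    rw [Equiv.symm_apply_eq]
    exact e
  let Φ : Matrix.SpecialLinearGroup (Fin 2) K →* Equiv.Perm (OnePoint K) :=
    (MulAction.toPermHom (GL (Fin 2) K) (OnePoint K)).comp Matrix.SpecialLinearGroup.toGL
  have hΦ : ∀ (g : Matrix.SpecialLinearGroup (Fin 2) K) (x : OnePoint K),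
      Φ g x = Matrix.SpecialLinearGroup.toGL g • x := fun _ _ => rfl
  have hchar : ringChar K = 2 := by
    haveI := Fintype.ofFinite K
    exact CharP.ringChar_of_prime_eq_zero Nat.prime_two (by exact_mod_cast htwo)
  have hsq : ∀ a : K, IsSquare a := FiniteField.isSquare_of_char_two hchar
  have hsmul : ∀ g b : G, g • (QuotientGroup.mk b : P) = QuotientGroup.mk (g * b) := fun g b => rfl
  have hκu : ∀ a : Kˣ, κ a • (QuotientGroup.mk u : P) = QuotientGroup.mk u := by
    intro a
    rw [hsmul, eq_comm, QuotientGroup.eq, ← mul_assoc]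
    have := ((h.mem_DD_iff hu huH).1 (hκD a)).2
    rwa [SignalizerStrongEmb.involution_inv hu] at this ⊢
  have hκpt : ∀ (a : Kˣ) (b : K), κ a • pt b = pt (((a : K) * b : K) : OnePoint K) := by
    intro a b
    show κ a • (QuotientGroup.mk (ι b * u) : P) = QuotientGroup.mk (ι ((a : K) * b) * u)
    rw [← hκι a b, ← hsmul (κ a * ι b * (κ a)⁻¹), ← hsmul (ι b), mul_smul, mul_smul]
    congr 2
    rw [eq_inv_smul_iff, hκu]
  have hκ0 : ∀ a : Kˣ, κ a • (QuotientGroup.mk 1 : P) = QuotientGroup.mk 1 := by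
    intro a
    rw [hsmul, eq_comm, QuotientGroup.eq]
    simpa using ((h.mem_DD_iff hu huH).1 (hκD a)).1
  have hu0 : u • pt ∞ = pt ((0 : K) : OnePoint K) := by
    show u • (QuotientGroup.mk 1 : P) = QuotientGroup.mk (ι 0 * u)
    rw [hι0, one_mul, hsmul, mul_one]
  have huu : ∀ x : P, u • u • x = x := fun x => by
    rw [smul_smul, SignalizerStrongEmb.involution_mul_self hu, one_smul]
  obtain ⟨c, hc⟩ : ∃ c : K, u • pt ((1 : K) : OnePoint K) = pt c := by
    obtain ⟨y, hy⟩ := hpt.2 (u • pt ((1 : K) : OnePoint K))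
    cases y with
    | infty =>
      exfalso
      have h1 := congrArg (fun x => u • x) hy
      simp only [huu] at h1
      rw [hu0] at h1
      exact zero_ne_one (OnePoint.coe_injective (hpt.1 h1))
    | coe c => exact ⟨c, hy.symm⟩
  have hσ : ∀ a : Kˣ, u • pt ((a : K) : OnePoint K) = pt ((((a⁻¹ : Kˣ) : K) * c : K) : OnePoint K) := by
    intro a
    rw [← hκpt, ← hc, smul_smul, show ((a : K) : OnePoint K) = (((a : K) * 1 : K) : OnePoint K) by rw [mul_one], ← hκpt,
      smul_smul]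
    congr 1
    rw [hκinv, ← h.inverts hu huH (hκD a), inv_mul_cancel_right]
  have hc0 : c ≠ 0 := fun e => by
    have h1 := congrArg (fun x => u • x) hc
    simp only [huu, e] at h1
    rw [← hu0, huu] at h1
    exact OnePoint.coe_ne_infty _ (hpt.1 h1)
  obtain ⟨s, hs⟩ := hsq c
  have hs0 : s ≠ 0 := fun e => hc0 (by rw [hs, e, mul_zero])
  have hneg : (-1 : K) = 1 := by
    rw [neg_eq_iff_add_eq_zero, one_add_one_eq_two, htwo]
  have hu' : φ u ∈ Φ.range := by
    refine ⟨sl2 !![0, s; s⁻¹, 0] (by rw [Matrix.det_fin_two_of]; simp [hs0, hneg]), Equiv.ext fun x => ?_⟩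
    rw [hΦ]
    cases x with
    | infty =>
      rw [hφ u ∞ _ hu0, OnePoint.smul_infty_eq_ite]
      simp [sl2_coe, hs0]
    | coe b =>
      rcases eq_or_ne b 0 with rfl | hb
      · rw [hφ u ((0 : K) : OnePoint K) ∞ (by rw [← hu0, huu]), OnePoint.smul_some_eq_ite]
        simp [sl2_coe]
      · rw [hφ u (b : OnePoint K) _ (hσ (Units.mk0 b hb)), OnePoint.smul_some_eq_ite]
        simp [sl2_coe, hs0, hb, hs]
        field_simp
  have hT' : ∀ t ∈ (T : Subgroup G), φ t ∈ Φ.range := by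
    intro t ht
    obtain ⟨a, rfl⟩ := hιs t ht
    refine ⟨sl2 !![1, a; 0, 1] (by rw [Matrix.det_fin_two_of]; simp), Equiv.ext fun x => ?_⟩
    rw [hΦ]
    cases x with
    | infty =>
      rw [hφ _ ∞ ∞ ?_, OnePoint.smul_infty_eq_ite]
      · simp [sl2_coe]
      · show ι a • (QuotientGroup.mk 1 : P) = QuotientGroup.mk 1
        rw [hsmul, eq_comm, QuotientGroup.eq]
        simp only [mul_one, inv_one, one_mul]
        exact Subgroup.le_normalizer (hιT a)
    | coe b =>
      rw [hφ _ _ ((b + a : K) : OnePoint K) ?_, OnePoint.smul_some_eq_ite]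
      · simp [sl2_coe]
      · show ι a • (QuotientGroup.mk (ι b * u) : P) = QuotientGroup.mk (ι (b + a) * u)
        rw [hsmul, add_comm, hιadd, mul_assoc]
  have hD' : ∀ d ∈ DD T u, φ d ∈ Φ.range := by
    intro d hd
    obtain ⟨a, rfl⟩ := hκs d hd
    obtain ⟨r, hr⟩ := hsq (a : K)
    have hr0 : r ≠ 0 := fun e => a.ne_zero (by rw [hr, e, mul_zero])
    refine ⟨sl2 !![r, 0; 0, r⁻¹] (by rw [Matrix.det_fin_two_of]; simp [hr0]), Equiv.ext fun x => ?_⟩
    rw [hΦ]
    cases x with
    | infty =>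
      rw [hφ _ ∞ ∞ (hκ0 a), OnePoint.smul_infty_eq_ite]
      simp [sl2_coe]
    | coe b =>
      rw [hφ _ _ _ (hκpt a b), OnePoint.smul_some_eq_ite]
      simp [sl2_coe, hr0, hr]
      field_simp
  have hH' : ∀ x ∈ HH T, φ x ∈ Φ.range := by
    intro x hx
    obtain ⟨d, hd, hdx⟩ := h.decomp hu huH hx
    have := mul_mem (hD' d hd) (hT' _ hdx)
    rwa [← map_mul, mul_inv_cancel_left] at this
  have hle : φ.range ≤ Φ.range := by
    rintro _ ⟨g, rfl⟩
    by_cases hg : g ∈ HH T
    · exact hH' g hg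
    · obtain ⟨x, hx, hxe⟩ := h.exists_translate hu huH hg
      have := mul_mem (mul_mem (hT' x hx) hu') (hH' _ (QuotientGroup.eq.1 hxe))
      rwa [← map_mul, ← map_mul, mul_inv_cancel_left] at this
  have hφinj : Function.Injective φ := by
    rw [injective_iff_map_eq_one]
    intro g hg
    have hfix : ∀ x, g • pt x = pt x := by
      intro x
      obtain ⟨y, hy⟩ := hpt.2 (g • pt x)
      have h1 := hφ g x y hy.symm
      rw [hg] at h1
      rw [← hy, ← h1]; rfl
    refine (Cfsg.Agent.S1229.result T hnc hnn hC).2.1 g (pt ∞) (pt ((0 : K) : OnePoint K))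
      (pt ((1 : K) : OnePoint K)) ?_ ?_ ?_ (hfix _) (hfix _) (hfix _)
    · exact fun e => OnePoint.infty_ne_coe _ (hpt.1 e)
    · exact fun e => OnePoint.infty_ne_coe _ (hpt.1 e)
    · exact fun e => zero_ne_one (OnePoint.coe_injective (hpt.1 e))
  have hΦinj : Function.Injective Φ := by
    rw [injective_iff_map_eq_one]
    intro g hg
    have hfix : ∀ x : OnePoint K, Matrix.SpecialLinearGroup.toGL g • x = x := fun x =>
      Equiv.ext_iff.1 hg x
    have h10 : g 1 0 = 0 := by simpa using OnePoint.smul_infty_eq_self_iff.1 (hfix ∞)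
    have hdet : g 0 0 * g 1 1 - g 0 1 * g 1 0 = 1 := by
      rw [← Matrix.det_fin_two]; exact g.2
    rw [h10, mul_zero, sub_zero] at hdet
    have h11 : g 1 1 ≠ 0 := fun e => by simp [e] at hdet
    have h00 := hfix ((0 : K) : OnePoint K)
    rw [OnePoint.smul_some_eq_ite] at h00
    simp [h10, h11] at h00
    have h01 := hfix ((1 : K) : OnePoint K)
    rw [OnePoint.smul_some_eq_ite] at h01
    simp [h10, h11, h00] at h01
    rw [div_eq_one_iff_eq h11] at h01
    rw [h01] at hdet
    have h1 : g 1 1 = 1 := by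
      have e : (g 1 1 - 1) * (g 1 1 - 1) = 0 := by
        linear_combination hdet + (1 - g 1 1) * htwo
      rcases mul_eq_zero.1 e with e | e <;> exact sub_eq_zero.1 e
    ext i j
    fin_cases i <;> fin_cases j <;> simp [h00, h01, h10, h1]
  have hq1 : 3 ≤ q := h.three_le
  have hqK : Nat.card K = q := hcardK
  have hPcard : (HH T).index = q + 1 := by
    show Nat.card P = _
    rw [← Nat.card_eq_of_bijective pt hpt, ← hqK]
    exact Finite.card_option (α := K)
  have hGcard : Nat.card G = Nat.card (Matrix.SpecialLinearGroup (Fin 2) K) := by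
    rw [← (HH T).card_mul_index, hPcard, (Cfsg.Agent.S1227.result T hnc hnn hC u hu huH).2.1,
      PSLCard.card_SL2, hqK]
    show q * (q - 1) * (q + 1) = q * (q ^ 2 - 1)
    obtain ⟨m, hm⟩ : ∃ m, q = m + 1 := ⟨q - 1, by omega⟩
    rw [hm, Nat.add_sub_cancel, show (m + 1) ^ 2 - 1 = m * (m + 2) by
      rw [show (m + 1) ^ 2 = m * (m + 2) + 1 by ring, Nat.add_sub_cancel]]
    ring
  have : Finite (OnePoint K) := inferInstanceAs (Finite (Option K))
  have heq : φ.range = Φ.range := by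
    refine Subgroup.eq_of_le_of_card_ge hle ?_
    rw [← Nat.card_congr (MonoidHom.ofInjective hΦinj).toEquiv,
      ← Nat.card_congr (MonoidHom.ofInjective hφinj).toEquiv, hGcard]
  let e₁ : G ≃* Matrix.SpecialLinearGroup (Fin 2) K :=
    ((MonoidHom.ofInjective hφinj).trans (MulEquiv.subgroupCongr heq)).trans
      (MonoidHom.ofInjective hΦinj).symm
  haveI : Fact (Nat.Prime 2) := ⟨Nat.prime_two⟩
  obtain ⟨n, hn⟩ := IsPGroup.iff_card.1 T.isPGroup'
  replace hn : q = 2 ^ n := hn
  have hn0 : n ≠ 0 := by rintro rfl; rw [pow_zero] at hn; omega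
  have heven : Even (Nat.card K) := by
    rw [hqK, hn, Nat.even_pow]; exact ⟨by norm_num, hn0⟩
  let e₂ : Matrix.SpecialLinearGroup (Fin 2) K ≃* Matrix.ProjectiveSpecialLinearGroup (Fin 2) K :=
    MulEquiv.ofBijective (QuotientGroup.mk' _) ((Nat.bijective_iff_surjective_and_card _).2
      ⟨QuotientGroup.mk'_surjective _, by
        rw [PSLCard.card_SL2]; exact (PSLCard.card_PSL2_even heven).symm⟩)
  haveI : Fintype (GaloisField 2 n) := Fintype.ofFinite _
  refine ⟨GaloisField 2 n, inferInstance, inferInstance, ?_, ⟨(e₁.trans e₂).trans (PSLCard.pslEquivOfCard ?_)⟩⟩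
  · rw [← Nat.card_eq_fintype_card, GaloisField.card 2 n hn0]; exact hn.symm
  · rw [GaloisField.card 2 n hn0, hqK, hn]

end Cfsg.Agent.S1230
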