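import Cfsg.Statements.S4731
import Cfsg.Agent.Lib.BlockContribBounds

set_option autoImplicit false
open Cfsg

namespace Cfsg.Agent.S4731

section
open scoped ComplexConjugate
open Cfsg BlockTheoryLocalRing BlockTheoryIdem BlockContrib BlockContribBounds

attribute [local instance] Classical.propDecidable

theorem vanishing {G : Type*} [Group G] [Fintype G] {p q : ℕ} {Mp Mq : Ideal AlgInt}
    (hMp : IsPModular p Mp) (hMq : IsPModular q Mq) (hpq : p ≠ q) (hno : ∀ g : G, orderOf g ≠ p * q)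
    {Bp Bq : Set (IrrCharacter G)} (hBp : IsPBlock Mp Bp) (hBq : IsPBlock Mq Bq)
    {y z : G} (hy : p ∣ orderOf y) (hz : q ∣ orderOf z) :
    (∑ χ : IrrCharacter G, if χ ∈ Bp ∧ χ ∈ Bq then (χ : G → ℂ) y * conj ((χ : G → ℂ) z) else 0) = 0 := by
  let F : G → ℂ := fun w => ∑ χ : IrrCharacter G, if χ ∈ Bp then (χ : G → ℂ) y * conj ((χ : G → ℂ) w) else 0
  have hreg : ∀ g : G, q ∣ orderOf g → ¬ p ∣ orderOf g := by
    intro g hq hp
    refine hno (g ^ (orderOf g / (p * q))) (orderOf_pow_orderOf_div (isOfFinOrder_of_finite g).orderOf_pos.ne' ?_)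
    exact ((Nat.coprime_primes hMp.1 hMq.1).2 hpq).mul_dvd_of_dvd_of_dvd hp hq
  have hF : ∀ w : G, q ∣ orderOf w → F w = 0 := by
    intro w hw
    have h := congrArg conj (weak_orthogonality hMp hBp (hreg w hw) hy)
    rw [map_zero, map_sum] at h
    refine Eq.trans (Finset.sum_congr rfl fun χ _ => ?_) h
    split_ifs <;> simp [mul_comm]
  have key : (Nat.card G : ℂ) * (∑ χ : IrrCharacter G, if χ ∈ Bp ∧ χ ∈ Bq then (χ : G → ℂ) y * conj ((χ : G → ℂ) z) else 0) =
      ∑ w : G, F w * ∑ ξ : IrrCharacter G, if ξ ∈ Bq then (ξ : G → ℂ) w * conj ((ξ : G → ℂ) z) else 0 := by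
    simp only [F, Finset.mul_sum, Finset.sum_mul]
    conv_rhs => rw [Finset.sum_comm]
    refine Finset.sum_congr rfl fun ξ _ => ?_
    rw [Finset.sum_comm, Finset.sum_eq_single ξ]
    · by_cases h1 : ξ ∈ Bp <;> by_cases h2 : ξ ∈ Bq <;> simp only [h1, h2, and_self, and_true, true_and, false_and, and_false, if_true, if_false, mul_zero, zero_mul, Finset.sum_const_zero]
      have h := CharBasicOrth.card_mul_classInner (ξ : G → ℂ) ξ
      rw [CharBasicOrth.classInner_irr_self ξ.2, mul_one] at h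
      rw [h, Finset.sum_mul]
      exact Finset.sum_congr rfl fun w _ => by ring
    · intro χ _ hne
      by_cases h1 : χ ∈ Bp <;> by_cases h2 : ξ ∈ Bq <;> simp only [h1, h2, if_true, if_false, mul_zero, zero_mul, Finset.sum_const_zero]
      have h := CharBasicOrth.card_mul_classInner (ξ : G → ℂ) χ
      rw [CharBasicOrth.classInner_irr_ne ξ.2 χ.2 fun e => hne (Subtype.ext e).symm, mul_zero] at h
      calc _ = ((χ : G → ℂ) y * conj ((ξ : G → ℂ) z)) * ∑ w : G, (ξ : G → ℂ) w * conj ((χ : G → ℂ) w) := by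
            rw [Finset.mul_sum]; exact Finset.sum_congr rfl fun w _ => by ring
        _ = 0 := by rw [← h, mul_zero]
    · simp
  have h0 : ∀ w : G, F w * (∑ ξ : IrrCharacter G, if ξ ∈ Bq then (ξ : G → ℂ) w * conj ((ξ : G → ℂ) z) else 0) = 0 := by
    intro w
    by_cases hw : q ∣ orderOf w
    · rw [hF w hw, zero_mul]
    · rw [weak_orthogonality hMq hBq hw hz, mul_zero]
  rw [Finset.sum_eq_zero fun w _ => h0 w] at key
  exact (mul_eq_zero.1 key).resolve_left (Nat.cast_ne_zero.2 Nat.card_pos.ne')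

end

/-- Let p ≠ q be primes, M_p and M_q maximal ideals of the algebraic integers containing p and q respectively, and G a finite group with no element of order pq; let q^b be the q-part of the order of G. For a p-block B_p (relative to M_p), a q-block B_q (relative to M_q) and a p-singular element y, the sum of χ(1)χ(y) over the irreducible characters χ lying in both B_p and B_q is q^b times an algebraic integer. -/
theorem result {G : Type*} [Group G] [Finite G] (p q : ℕ) [Fact p.Prime] [Fact q.Prime] (hpq : p ≠ q) (Mp Mq : Ideal Cfsg.AlgInt) (hMp : Cfsg.IsPModular p Mp) (hMq : Cfsg.IsPModular q Mq) (hno : ∀ g : G, orderOf g ≠ p * q) (b : ℕ) (hb : (Nat.card G).factorization q = b) (Bp : Set (Cfsg.IrrCharacter G)) (hBp : Cfsg.IsPBlock Mp Bp) (Bq : Set (Cfsg.IrrCharacter G)) (hBq : Cfsg.IsPBlock Mq Bq) (y : G) (hy : p ∣ orderOf y) : ∃ ω : Cfsg.AlgInt, ∑ᶠ χ ∈ Bp ∩ Bq, (Cfsg.charDegree (χ : G → ℂ) : ℂ) * (χ : G → ℂ) y = (q : ℂ) ^ b * (ω :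 ℂ) := by
  classical
  have := Fintype.ofFinite G
  obtain ⟨Q⟩ : Nonempty (Sylow q G) := inferInstance
  have : Fintype (Q : Subgroup G) := Fintype.ofFinite _
  choose m hm using fun χ : Cfsg.IrrCharacter G =>
    ClassAlgebraVal.exists_sum_subgroup (ClassAlgebraVal.irr_isCharacter χ) (Q : Subgroup G)
  refine ⟨⟨∑ χ : Cfsg.IrrCharacter G, if χ ∈ Bp ∧ χ ∈ Bq then (χ : G → ℂ) y * (m χ : ℂ) else 0, ?_⟩, ?_⟩
  · refine IsIntegral.sum _ fun χ _ => ?_
    split_ifs
    · exact (CharBasic.isCharacter_integral (ClassAlgebraVal.irr_isCharacter χ) y).mul (isIntegral_algebraMap (x := (m χ : ℤ)))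
    · exact isIntegral_zero
  rw [BlockTheoryIdem.finsum_mem_eq_sum]
  have hcard : Nat.card (Q : Subgroup G) = q ^ b := by rw [← hb]; exact Q.card_eq_multiplicity
  have h : ∑ u : (Q : Subgroup G), ∑ χ : Cfsg.IrrCharacter G,
      (if χ ∈ Bp ∧ χ ∈ Bq then (χ : G → ℂ) y * (starRingEnd ℂ) ((χ : G → ℂ) u) else 0) =
      ∑ χ : Cfsg.IrrCharacter G, if χ ∈ Bp ∧ χ ∈ Bq then (χ : G → ℂ) y * (starRingEnd ℂ) ((χ : G → ℂ) 1) else 0 := by
    rw [Finset.sum_eq_single (1 : (Q : Subgroup G))]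
    · simp
    · intro u _ hu
      obtain ⟨k, hk⟩ := IsPGroup.iff_orderOf.1 Q.isPGroup' u
      rw [← Subgroup.orderOf_coe] at hk
      refine vanishing hMp hMq hpq hno hBp hBq hy ?_
      rw [hk]
      refine dvd_pow_self q ?_
      rintro rfl
      exact hu (Subtype.ext (orderOf_eq_one_iff.1 (by simpa using hk)))
    · simp
  rw [Finset.sum_comm] at h
  have h2 : (q : ℂ) ^ b * ∑ χ : Cfsg.IrrCharacter G, (if χ ∈ Bp ∧ χ ∈ Bq then (χ : G → ℂ) y * (m χ : ℂ) else 0) =
      ∑ χ : Cfsg.IrrCharacter G, ∑ u : (Q : Subgroup G),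
      (if χ ∈ Bp ∧ χ ∈ Bq then (χ : G → ℂ) y * (starRingEnd ℂ) ((χ : G → ℂ) u) else 0) := by
    rw [Finset.mul_sum]
    refine Finset.sum_congr rfl fun χ _ => ?_
    split_ifs
    · rw [← Finset.mul_sum, hm, hcard]; push_cast; ring
    · simp
  show _ = (q : ℂ) ^ b * ∑ χ : Cfsg.IrrCharacter G, (if χ ∈ Bp ∧ χ ∈ Bq then (χ : G → ℂ) y * (m χ : ℂ) else 0)
  rw [h2, h]
  refine Finset.sum_congr rfl fun χ _ => ?_
  simp only [Set.mem_inter_iff, ClassAlgebraVal.apply_one_eq_charDegree χ, map_natCast]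
  split_ifs <;> ring

end Cfsg.Agent.S4731
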