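import Cfsg.Statements.S1754
-- import your own Cfsg.Agent.* helpers here

set_option autoImplicit false
open Cfsg

namespace Cfsg.Agent.S1754

theorem quasisimple_congr {A B : Type*} [Group A] [Group B] (e : A ≃* B)
    (h : Cfsg.IsQuasisimple A) : Cfsg.IsQuasisimple B := by
  obtain ⟨h1, h2⟩ := h
  refine ⟨?_, ?_⟩
  · haveI := h1
    exact Group.IsPerfect.ofSurjective (f := e.toMonoidHom) e.surjective
  · haveI := h2
    have hmap : (Subgroup.center A).map e.toMonoidHom = Subgroup.center B := by
      ext b
      simp only [Subgroup.mem_map, Subgroup.mem_center_iff, MulEquiv.coe_toMonoidHom]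
      constructor
      · rintro ⟨a, ha, rfl⟩ x
        obtain ⟨y, rfl⟩ := e.surjective x
        rw [← map_mul, ← map_mul, ha y]
      · intro hb
        refine ⟨e.symm b, fun x => e.injective ?_, e.apply_symm_apply b⟩
        simp [map_mul, hb (e x)]
    exact (QuotientGroup.congr (Subgroup.center A) (Subgroup.center B) e hmap).isSimpleGroup_congr.mp h2

/-- Let A be a standard subgroup of the finite group G (A quasisimple, C_G(A) tightly embedded of even order, A commuting elementwise with no other conjugate of itself, and N_G(A) = N_G(C_G(A))), and let t be an involution of G centralizing A. Then the centralizer of t lies in the normalizer of A; in particular A, viewed inside C_G(t), is a component of C_G(t). -/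
theorem result {G : Type*} [Group G] [Finite G]
    (A : Subgroup G) (hA : Cfsg.IsStandardSubgroup A) (t : G) (ht : orderOf t = 2) (htA : t ∈ Subgroup.centralizer (A : Set G)) :
    Subgroup.centralizer ({t} : Set G) ≤ Subgroup.normalizer (A : Set G) ∧
      Cfsg.IsComponent (A.subgroupOf (Subgroup.centralizer ({t} : Set G))) := by
  obtain ⟨hq, ⟨hev, hte⟩, hcomm, hN⟩ := hA
  have hAC : A ≤ Subgroup.centralizer ({t} : Set G) := by
    intro a ha
    rw [Subgroup.mem_centralizer_singleton_iff]
    exact Subgroup.mem_centralizer_iff.mp htA a ha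
  have hle : Subgroup.centralizer ({t} : Set G) ≤ Subgroup.normalizer (A : Set G) := by
    intro g hg
    rw [hN]
    by_contra hgn
    have hodd := hte g hgn
    have htm : t ∈ Subgroup.centralizer (A : Set G) ⊓
        (Subgroup.centralizer (A : Set G)).map (MulAut.conj g).toMonoidHom := by
      refine ⟨htA, Subgroup.mem_map.mpr ⟨t, htA, ?_⟩⟩
      rw [Subgroup.mem_centralizer_singleton_iff] at hg
      simp [MulAut.conj_apply, hg, mul_assoc]
    have h2 := Subgroup.orderOf_dvd_natCard _ htm
    rw [ht] at h2
    exact (Nat.not_even_iff_odd.mpr hodd) (even_iff_two_dvd.mpr h2)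
  refine ⟨hle, ?_, ?_⟩
  · have : (A.subgroupOf (Subgroup.centralizer ({t} : Set G))).Normal :=
      Subgroup.normal_subgroupOf_of_le_normalizer hle
    exact this.isSubnormal
  · exact quasisimple_congr (Subgroup.subgroupOfEquivOfLe hAC).symm hq

end Cfsg.Agent.S1754
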