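import Cfsg.Statements.S1755
import Cfsg.Agent.S1754
-- import your own Cfsg.Agent.* helpers here

set_option autoImplicit false
open Cfsg

namespace Cfsg.Agent.S1755

/-- A normal subgroup of a finite `p`-group that is nontrivial meets the centre nontrivially. -/
theorem exists_central_involution {Q : Type*} [Group Q] [Finite Q] (hQ : IsPGroup 2 Q)
    (N : Subgroup Q) [N.Normal] (hN : N ≠ ⊥) :
    ∃ x ∈ N, x ∈ Subgroup.center Q ∧ orderOf x = 2 := by
  classical
  haveI : Fact (Nat.Prime 2) := ⟨Nat.prime_two⟩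
  have hP : IsPGroup 2 (ConjAct Q) := hQ.of_equiv ConjAct.toConjAct
  have hdvd : 2 ∣ Nat.card ↥N := by
    obtain ⟨n, hn⟩ := IsPGroup.iff_card.mp (hQ.to_subgroup N)
    have : 1 < Nat.card ↥N := (Subgroup.one_lt_card_iff_ne_bot N).mpr hN
    rw [hn] at this ⊢
    exact dvd_pow_self 2 (by rintro rfl; simp at this)
  have h1 : (1 : ↥N) ∈ MulAction.fixedPoints (ConjAct Q) ↥N := by
    intro g; apply Subtype.ext; simp [ConjAct.Subgroup.val_conj_smul]
  obtain ⟨x, hx, hx1⟩ := hP.exists_fixed_point_of_prime_dvd_card_of_fixed_point ↥N hdvd h1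
  have hxc : (x : Q) ∈ Subgroup.center Q := by
    rw [Subgroup.mem_center_iff]
    intro g
    have h := congrArg Subtype.val (hx (ConjAct.toConjAct g))
    simp only [ConjAct.Subgroup.val_conj_smul, ConjAct.toConjAct_smul] at h
    exact mul_inv_eq_iff_eq_mul.mp h
  have hne : N ⊓ Subgroup.center Q ≠ ⊥ := by
    intro h
    exact hx1 (Subtype.ext ((Subgroup.mem_bot.mp (h ▸ ⟨x.2, hxc⟩)).symm))
  have hdvd' : 2 ∣ Nat.card ↥(N ⊓ Subgroup.center Q : Subgroup Q) := by
    obtain ⟨n, hn⟩ := IsPGroup.iff_card.mp (hQ.to_subgroup (N ⊓ Subgroup.center Q))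
    have : 1 < Nat.card ↥(N ⊓ Subgroup.center Q : Subgroup Q) :=
      (Subgroup.one_lt_card_iff_ne_bot _).mpr hne
    rw [hn] at this ⊢
    exact dvd_pow_self 2 (by rintro rfl; simp at this)
  obtain ⟨y, hy⟩ := exists_prime_orderOf_dvd_card' 2 hdvd'
  exact ⟨y, y.2.1, y.2.2, by rw [Subgroup.orderOf_coe, hy]⟩

theorem unique_involution {H : Type*} [Group H] [Finite H] [IsCyclic H] {x y : H}
    (hx : orderOf x = 2) (hy : orderOf y = 2) : x = y := by
  classical
  haveI := Fintype.ofFinite H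
  by_contra hne
  have hle := IsCyclic.card_pow_eq_one_le (α := H) (n := 2) two_pos
  have hsub : ({1, x, y} : Finset H) ⊆ Finset.univ.filter (fun a => a ^ 2 = 1) := by
    intro a ha
    simp only [Finset.mem_insert, Finset.mem_singleton] at ha
    simp only [Finset.mem_filter, Finset.mem_univ, true_and]
    rcases ha with rfl | rfl | rfl
    · simp
    · rw [← hx, pow_orderOf_eq_one]
    · rw [← hy, pow_orderOf_eq_one]
  have hx1 : (1 : H) ≠ x := fun h => by rw [← h, orderOf_one] at hx; norm_num at hx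
  have hy1 : (1 : H) ≠ y := fun h => by rw [← h, orderOf_one] at hy; norm_num at hy
  have hcard : ({1, x, y} : Finset H).card = 3 := Finset.card_eq_three.mpr ⟨1, x, y, hx1, hy1, hne, rfl⟩
  have := Finset.card_le_card hsub
  omega

theorem generalizedFitting_normal {H : Type*} [Group H] :
    (Cfsg.generalizedFittingSubgroup H).Normal := by
  have h1 : (Cfsg.layer H).Normal := by
    rw [Cfsg.layer, sSup_eq_iSup']
    refine ⟨fun x hx h => ?_⟩
    induction hx using Subgroup.iSup_induction' with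
    | h1 => simp
    | hmul x y _ _ hx hy => simpa [mul_assoc] using Subgroup.mul_mem _ hx hy
    | hp K x hx =>
      obtain ⟨K, hKs, hKq⟩ := K
      have hK' : Cfsg.IsComponent (K.map (MulAut.conj h).toMonoidHom) :=
        ⟨hKs.map (MulAut.conj h).surjective,
          Cfsg.Agent.S1754.quasisimple_congr (K.equivMapOfInjective _ (MulAut.conj h).injective) hKq⟩
      exact Subgroup.mem_iSup_of_mem ⟨_, hK'⟩ (Subgroup.mem_map.mpr ⟨x, hx, rfl⟩)
  have h2 : (Cfsg.fittingSubgroup H).Normal := Subgroup.sSup_normal _ fun _ h => h.1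
  exact Subgroup.sup_normal _ _

/-- Let G be a finite group and let z be an involution of G such that Q, the generalized Fitting subgroup of the centralizer C of z, is a 2-group of symplectic type (every characteristic abelian subgroup of Q is cyclic). Let B be a characteristic abelian subgroup of Q, viewed as a subgroup of G. Then for every g in G, the conjugate of B by g either equals B or meets B trivially. -/
theorem result {G : Type*} [Group G] [Finite G] (z : G) (hz : orderOf z = 2) (hQ : Cfsg.IsOfSymplecticType ↥(Cfsg.generalizedFittingSubgroup ↥(Subgroup.centralizer ({z} : Set G))))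
    (B : Subgroup ↥(Cfsg.generalizedFittingSubgroup ↥(Subgroup.centralizer ({z} : Set G)))) (hBc : B.Characteristic) (hBa : IsMulCommutative ↥B) (g : G) :
    ((B.map (Cfsg.generalizedFittingSubgroup ↥(Subgroup.centralizer ({z} : Set G))).subtype).map (Subgroup.centralizer ({z} : Set G)).subtype).map (MulAut.conj g).toMonoidHom =
        (B.map (Cfsg.generalizedFittingSubgroup ↥(Subgroup.centralizer ({z} : Set G))).subtype).map (Subgroup.centralizer ({z} : Set G)).subtype ∨
      ((B.map (Cfsg.generalizedFittingSubgroup ↥(Subgroup.centralizer ({z} : Set G))).subtype).map (Subgroup.centralizer ({z} : Set G)).subtype).map (MulAut.conj g).toMonoidHom ⊓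
        (B.map (Cfsg.generalizedFittingSubgroup ↥(Subgroup.centralizer ({z} : Set G))).subtype).map (Subgroup.centralizer ({z} : Set G)).subtype = ⊥ := by
  classical
  obtain ⟨hQ2, hQc⟩ := hQ
  let C := Subgroup.centralizer ({z} : Set G)
  let F := Cfsg.generalizedFittingSubgroup ↥C
  let BG : Subgroup G := (B.map F.subtype).map C.subtype
  change BG.map (MulAut.conj g).toMonoidHom = BG ∨ BG.map (MulAut.conj g).toMonoidHom ⊓ BG = ⊥
  let zC : ↥C := ⟨z, Subgroup.mem_centralizer_singleton_iff.mpr rfl⟩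
  have hzC : zC ∈ Subgroup.center ↥C := by
    rw [Subgroup.mem_center_iff]
    intro c
    exact Subtype.ext (Subgroup.mem_centralizer_singleton_iff.mp c.2)
  have hzZ : Subgroup.zpowers zC ≤ Subgroup.center ↥C := Subgroup.zpowers_le.mpr hzC
  have hzF : zC ∈ F := by
    have hn : (Subgroup.zpowers zC).Normal := ⟨fun x hx c => by
      have h := Subgroup.mem_center_iff.mp (hzZ hx) c
      rw [h, mul_assoc, mul_inv_cancel, mul_one]; exact hx⟩
    have h1 : Subgroup.zpowers zC ≤ Cfsg.fittingSubgroup ↥C := le_sSup ⟨hn, by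
      haveI : IsMulCommutative ↥(Subgroup.zpowers zC) := inferInstance
      letI := (IsMulCommutative.instCommGroup (G := ↥(Subgroup.zpowers zC)))
      exact inferInstance⟩
    exact (le_sup_right : Cfsg.fittingSubgroup ↥C ≤ F) (h1 (Subgroup.mem_zpowers zC))
  let zF : ↥F := ⟨zC, hzF⟩
  have hzFc : zF ∈ Subgroup.center ↥F := by
    rw [Subgroup.mem_center_iff]
    intro c
    exact Subtype.ext (Subgroup.mem_center_iff.mp hzC c)
  have hzF2 : orderOf zF = 2 := by
    rw [← hz, ← Subgroup.orderOf_coe zF, ← Subgroup.orderOf_coe (zF : ↥C)]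
  have hcyc : IsCyclic ↥(Subgroup.center ↥F) := hQc _ inferInstance inferInstance
  have huniq : ∀ x : ↥F, x ∈ Subgroup.center ↥F → orderOf x = 2 → x = zF := fun x hx h2 => by
    have h := unique_involution (x := (⟨x, hx⟩ : ↥(Subgroup.center ↥F))) (y := ⟨zF, hzFc⟩)
      (by rw [← Subgroup.orderOf_coe]; exact h2) (by rw [← Subgroup.orderOf_coe]; exact hzF2)
    exact congrArg Subtype.val h
  by_cases hB : B = ⊥
  · left
    simp [BG, hB, Subgroup.map_bot]
  haveI : B.Normal := Subgroup.normal_of_characteristic B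
  haveI : IsCyclic ↥B := hQc B hBc hBa
  obtain ⟨y, hyB, hyc, hy2⟩ := exists_central_involution hQ2 B hB
  have hzB : zF ∈ B := huniq y hyc hy2 ▸ hyB
  have hBG2 : ∀ u ∈ BG, orderOf u = 2 → u = z := by
    intro u hu h2
    obtain ⟨uC, huC, rfl⟩ := Subgroup.mem_map.mp hu
    obtain ⟨uF, huF, rfl⟩ := Subgroup.mem_map.mp huC
    have h := unique_involution (x := (⟨uF, huF⟩ : ↥B)) (y := ⟨zF, hzB⟩)
      (by
        rw [← h2, Subgroup.coe_subtype, Subgroup.coe_subtype, Subgroup.orderOf_coe,
          Subgroup.orderOf_coe, Subgroup.orderOf_mk])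
      (by rw [← hzF2, Subgroup.orderOf_mk])
    have h' : uF = zF := congrArg Subtype.val h
    rw [h']; rfl
  have hBG : IsPGroup 2 ↥BG := ((hQ2.to_subgroup B).map _).map _
  rcases eq_or_ne (BG.map (MulAut.conj g).toMonoidHom ⊓ BG) ⊥ with h | h
  · exact Or.inr h
  left
  have hI : IsPGroup 2 ↥(BG.map (MulAut.conj g).toMonoidHom ⊓ BG : Subgroup G) :=
    hBG.to_le inf_le_right
  obtain ⟨n, hn⟩ := IsPGroup.iff_card.mp hI
  have h1 : 1 < Nat.card ↥(BG.map (MulAut.conj g).toMonoidHom ⊓ BG : Subgroup G) :=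
    (Subgroup.one_lt_card_iff_ne_bot _).mpr h
  have hdvd : 2 ∣ Nat.card ↥(BG.map (MulAut.conj g).toMonoidHom ⊓ BG : Subgroup G) := by
    rw [hn] at h1 ⊢
    exact dvd_pow_self 2 (by rintro rfl; simp at h1)
  haveI : Fact (Nat.Prime 2) := ⟨Nat.prime_two⟩
  obtain ⟨v, hv⟩ := exists_prime_orderOf_dvd_card' 2 hdvd
  rw [← Subgroup.orderOf_coe] at hv
  have hvz : (v : G) = z := hBG2 _ v.2.2 hv
  obtain ⟨w, hw, hwv⟩ := Subgroup.mem_map.mp v.2.1
  rw [MulEquiv.coe_toMonoidHom] at hwv
  have hw2 : orderOf w = 2 := by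
    rw [← hv, ← hwv, MulEquiv.orderOf_eq]
  have hwz : w = z := hBG2 w hw hw2
  have hgz : g * z = z * g := by
    rw [hwz, hvz, MulAut.conj_apply] at hwv
    exact mul_inv_eq_iff_eq_mul.mp hwv
  have hgC : g ∈ C := Subgroup.mem_centralizer_singleton_iff.mpr (by simp [hgz])
  haveI : F.Normal := generalizedFitting_normal
  haveI : (B.map F.subtype).Normal := ConjAct.normal_of_characteristic_of_normal
  have hin : ∀ c : ↥C, ∀ u ∈ BG, (c : G) * u * (c : G)⁻¹ ∈ BG := by
    intro c u hu
    obtain ⟨uC, huC, rfl⟩ := Subgroup.mem_map.mp hu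
    exact Subgroup.mem_map.mpr ⟨c * uC * c⁻¹, Subgroup.Normal.conj_mem ‹_› uC huC c, rfl⟩
  ext u
  constructor
  · intro hu
    obtain ⟨w', hw', rfl⟩ := Subgroup.mem_map.mp hu
    exact hin ⟨g, hgC⟩ w' hw'
  · intro hu
    refine Subgroup.mem_map.mpr ⟨g⁻¹ * u * g, ?_, ?_⟩
    · simpa using hin ⟨g⁻¹, C.inv_mem hgC⟩ u hu
    · simp [MulAut.conj_apply, mul_assoc]

end Cfsg.Agent.S1755
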