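import Cfsg.Statements.S2588
import Cfsg.Agent.Lib.HermitianFactor

set_option autoImplicit false
open Cfsg

namespace Cfsg.Agent.S2588

/-- An invertible matrix A over the field with q² elements is conjugate in GL_n(q²) to an element of the general unitary group GU_n(q) (isometries of the Hermitian form Σ u_i v_i^q) if and only if A is similar to the inverse transpose of its entrywise q-th power (A ~ A^(−qT), the image of A under the map sending a matrix to the inverse transpose of its entrywise q-th power — inverse transpose composed with the field automorphism — whose fixed points form GU_n(q)). -/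
theorem result {K : Type*} [Field K] [Fintype K] {q n : ℕ} (hK : Fintype.card K = q ^ 2) (A : GL (Fin n) K) : (∃ B : ↥(Cfsg.GU n K q), IsConj A (B : GL (Fin n) K)) ↔ IsConj (A : Matrix (Fin n) (Fin n) K) (((A : Matrix (Fin n) (Fin n) K).map (fun x : K => x ^ q)).transpose)⁻¹ := by
  classical
  obtain ⟨σ, hq, hσ, c, hc⟩ := Cfsg.Agent.HermitianFactor.exists_conjugation hK
  have hmap : ((A : Matrix (Fin n) (Fin n) K).map (fun x : K => x ^ q)).transpose
      = Cfsg.Agent.HermitianFactor.ct σ (A : Matrix (Fin n) (Fin n) K) := by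
    ext i j; simp [Cfsg.Agent.HermitianFactor.ct, hq]
  rw [hmap]
  obtain ⟨U, hU⟩ := Cfsg.Agent.HermitianFactor.isUnit_ct (σ := σ) A.isUnit
  rw [← hU, ← Matrix.coe_units_inv]
  constructor
  · rintro ⟨B, hB⟩
    obtain ⟨g, hg⟩ := isConj_iff.1 hB
    let gm : Matrix (Fin n) (Fin n) K := (g : Matrix (Fin n) (Fin n) K)
    have hBB : Cfsg.Agent.HermitianFactor.ct σ ((B : GL (Fin n) K) : Matrix (Fin n) (Fin n) K) * ((B : GL (Fin n) K) : Matrix (Fin n) (Fin n) K) = 1 :=
      (Cfsg.Agent.HermitianFactor.mem_GU_iff hq hσ _).1 B.2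
    have hgA : gm * (A : Matrix (Fin n) (Fin n) K) = ((B : GL (Fin n) K) : Matrix (Fin n) (Fin n) K) * gm := by
      show (g : Matrix (Fin n) (Fin n) K) * _ = _ * (g : Matrix (Fin n) (Fin n) K)
      rw [← Units.val_mul, ← Units.val_mul, ← hg, inv_mul_cancel_right]
    refine ⟨((Cfsg.Agent.HermitianFactor.isUnit_ct (σ := σ) g.isUnit).mul g.isUnit).unit, ?_⟩
    show Cfsg.Agent.HermitianFactor.ct σ gm * gm * _ = _ * (Cfsg.Agent.HermitianFactor.ct σ gm * gm)
    rw [Units.eq_inv_mul_iff_mul_eq, hU, mul_assoc, hgA, ← mul_assoc, ← Cfsg.Agent.HermitianFactor.ct_mul,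
      hgA, Cfsg.Agent.HermitianFactor.ct_mul, ← mul_assoc, mul_assoc (Cfsg.Agent.HermitianFactor.ct σ gm), hBB, mul_one]
  · rintro ⟨P, hP⟩
    have hinv : Cfsg.Agent.HermitianFactor.ct σ (A : Matrix (Fin n) (Fin n) K) * (P : Matrix (Fin n) (Fin n) K) * A = P := by
      have h : (P : Matrix (Fin n) (Fin n) K) * A = ((U⁻¹ : (Matrix (Fin n) (Fin n) K)ˣ) : Matrix (Fin n) (Fin n) K) * P := hP
      rw [mul_assoc, h, ← hU, Units.mul_inv_cancel_left]
    obtain ⟨H, hHu, hHh, hHi⟩ := Cfsg.Agent.HermitianFactor.exists_hermitian_invariant hσ c hc A.isUnit P.isUnit hinv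
    obtain ⟨s, -, hsu, he⟩ := Cfsg.Agent.HermitianFactor.exists_factor hσ c hc hHu hHh
    refine ⟨⟨hsu.unit * A * hsu.unit⁻¹, ?_⟩, isConj_iff.2 ⟨hsu.unit, rfl⟩⟩
    rw [Cfsg.Agent.HermitianFactor.mem_GU_iff hq hσ]
    have h1 : s * ((hsu.unit⁻¹ : GL (Fin n) K) : Matrix (Fin n) (Fin n) K) = 1 := hsu.mul_val_inv
    show Cfsg.Agent.HermitianFactor.ct σ (s * (A : Matrix (Fin n) (Fin n) K) * ((hsu.unit⁻¹ : GL (Fin n) K) : Matrix (Fin n) (Fin n) K)) * (s * (A : Matrix (Fin n) (Fin n) K) * _) = 1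
    calc _ = Cfsg.Agent.HermitianFactor.ct σ ((hsu.unit⁻¹ : GL (Fin n) K) : Matrix (Fin n) (Fin n) K) *
          (Cfsg.Agent.HermitianFactor.ct σ (A : Matrix (Fin n) (Fin n) K) * (Cfsg.Agent.HermitianFactor.ct σ s * s) * (A : Matrix (Fin n) (Fin n) K)) *
          ((hsu.unit⁻¹ : GL (Fin n) K) : Matrix (Fin n) (Fin n) K) := by
            simp only [Cfsg.Agent.HermitianFactor.ct_mul, mul_assoc]
      _ = 1 := by
            rw [he, hHi, ← he, ← mul_assoc, ← Cfsg.Agent.HermitianFactor.ct_mul, h1, Cfsg.Agent.HermitianFactor.ct_one, one_mul, h1]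

end Cfsg.Agent.S2588
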