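import Mathlib
import Cfsg.Agent.Lib.TransferAlperin
import Cfsg.Agent.Lib.TransferPResidual

set_option autoImplicit false
open Cfsg
namespace Cfsg.Agent.S0514

open Subgroup

theorem fix_of_pair {A : Type*} [Group A] (σ : MulAut A) {m : ℕ} (hm : Odd m) (hσ : σ ^ m = 1)
    {t x : A} (ht : σ t = t) (ht2 : t * t = 1) (h : σ x = x ∨ σ x = x * t) : σ x = x := by
  rcases h with h | h
  · exact h
  · obtain ⟨j, rfl⟩ := hm
    have h2 : (σ ^ 2) x = x := by
      rw [pow_two, MulAut.mul_apply, h, map_mul, h, ht, mul_assoc, ht2, mul_one]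
    have h3 : ∀ i : ℕ, (σ ^ (2 * i)) x = x := by
      intro i
      induction i with
      | zero => simp
      | succ i ih => rw [Nat.mul_succ, pow_add, MulAut.mul_apply, h2, ih]
    calc σ x = σ ((σ ^ (2 * j)) x) := by rw [h3]
      _ = (σ ^ (2 * j + 1)) x := by rw [pow_succ', MulAut.mul_apply]
      _ = x := by rw [hσ]; rfl

theorem half_cases {n : ℕ} [NeZero n] {x c : ZMod n} (hc : 2 * c = 0) (hc0 : c ≠ 0)
    (hx : 2 * x = 0) : x = 0 ∨ x = c := by
  have key : ∀ y : ZMod n, 2 * y = 0 → y.val = 0 ∨ 2 * y.val = n := by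
    intro y hy
    have h1 : n ∣ 2 * y.val := (ZMod.natCast_eq_zero_iff _ _).mp (by simpa using hy)
    obtain ⟨d, hd⟩ := h1
    have h2 := ZMod.val_lt y
    have hd2 : d < 2 := by
      by_contra hd2
      have := Nat.mul_le_mul_left n (Nat.le_of_not_lt hd2)
      omega
    interval_cases d
    · left; omega
    · right; omega
  have hc' := key c hc
  rcases key x hx with h | h
  · exact Or.inl ((ZMod.val_eq_zero x).mp h)
  · rcases hc' with h' | h'
    · exact absurd ((ZMod.val_eq_zero c).mp h') hc0
    · exact Or.inr (ZMod.val_injective n (by omega))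

theorem aut_fixed {A : Type*} [Group A] {n : ℕ} [NeZero n] (φ : A →* DihedralGroup n)
    (hφ : Function.Injective φ) (hA : IsPGroup 2 A) (σ : MulAut A) {m : ℕ} (hm : Odd m)
    (hσ : σ ^ m = 1) {t : A} (ht2 : t * t = 1) (ht1 : t ≠ 1) (htc : ∀ x, t * x = x * t)
    (ht : σ t = t) : ∀ x, σ x = x := by
  rcases hdt : φ t with c | i
  · -- `t` is a rotation
    have hc0 : c ≠ 0 := by
      rintro rfl
      exact ht1 (hφ (by rw [hdt, map_one, DihedralGroup.one_def]))
    have hc2 : 2 * c = 0 := by
      have h := congrArg φ ht2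
      rw [map_mul, hdt, DihedralGroup.r_mul_r, map_one, DihedralGroup.one_def,
        DihedralGroup.r.injEq] at h
      rw [two_mul]; exact h
    have hrot : ∀ (k : ℕ) (x : A) (a : ZMod n), φ x = .r a → x ^ 2 ^ k = 1 → σ x = x := by
      intro k
      induction k with
      | zero => intro x a _ h; rw [pow_zero, pow_one] at h; subst h; exact map_one σ
      | succ k ih =>
        intro x a hxa h
        have hsq : σ (x * x) = x * x := by
          refine ih (x * x) (a + a) (by rw [map_mul, hxa, DihedralGroup.r_mul_r]) ?_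
          rw [← pow_two, ← pow_mul, ← pow_succ']; exact h
        rcases hσx : φ (σ x) with b | j
        · have h1 := congrArg φ hsq
          rw [map_mul, map_mul, map_mul, hσx, hxa, DihedralGroup.r_mul_r, DihedralGroup.r_mul_r,
            DihedralGroup.r.injEq] at h1
          rcases half_cases hc2 hc0 (x := b - a) (by linear_combination h1) with h2 | h2
          · exact hφ (by rw [hσx, hxa, sub_eq_zero.mp h2])
          · refine fix_of_pair σ hm hσ ht ht2 (Or.inr (hφ ?_))
            rw [hσx, map_mul, hxa, hdt, DihedralGroup.r_mul_r, ← h2, add_sub_cancel]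
        · have h1 := congrArg φ hsq
          rw [map_mul, map_mul, map_mul, hσx, hxa, DihedralGroup.r_mul_r,
            DihedralGroup.sr_mul_sr, DihedralGroup.r.injEq, sub_self] at h1
          rcases half_cases hc2 hc0 (x := a) (by rw [two_mul]; exact h1.symm) with h2 | h2
          · have : x = 1 := hφ (by rw [hxa, h2, map_one, DihedralGroup.one_def])
            rw [this, map_one]
          · have : x = t := hφ (by rw [hxa, hdt, h2])
            rw [this, ht]
    have hfix : ∀ (x : A) (a : ZMod n), φ x = .r a → σ x = x := by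
      intro x a hx
      obtain ⟨k, hk⟩ := hA x
      exact hrot k x a hx hk
    intro x
    rcases hx : φ x with a | j
    · exact hfix x a hx
    · rcases hσx : φ (σ x) with b | l
      · have := hfix (σ x) b hσx
        exact σ.injective this
      · have hρ : φ (x⁻¹ * σ x) = .r (l - j) := by
          rw [map_mul, map_inv, hx, hσx, DihedralGroup.inv_sr, DihedralGroup.sr_mul_sr]
        have hρ' := hfix _ _ hρ
        set ρ := x⁻¹ * σ x
        have hσx' : σ x = x * ρ := (mul_inv_cancel_left x (σ x)).symm
        have hi : ∀ i : ℕ, (σ ^ i) x = x * ρ ^ i := by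
          intro i
          induction i with
          | zero => simp
          | succ i ih =>
            rw [pow_succ', MulAut.mul_apply, ih, map_mul, map_pow, hρ', hσx', mul_assoc, ← pow_succ']
        have h1 : ρ ^ m = 1 := by
          have h := hi m
          rw [hσ] at h
          simpa using h.symm
        obtain ⟨k, hk⟩ := hA ρ
        have h2 : ρ ^ Nat.gcd m (2 ^ k) = 1 := pow_gcd_eq_one.mpr ⟨h1, hk⟩
        rw [Nat.Coprime.pow_right k (by rwa [Nat.coprime_two_right]), pow_one] at h2
        rw [hσx', h2, mul_one]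
  · -- `t` is a reflection
    have hcases : ∀ x : A, (∃ c, c + c = 0 ∧ φ x = .r c) ∨
        ∃ c, c + c = 0 ∧ φ x = .sr (i + c) := by
      intro x
      have h := congrArg φ (htc x)
      rw [map_mul, map_mul, hdt] at h
      rcases hx : φ x with a | j <;> rw [hx] at h
      · rw [DihedralGroup.sr_mul_r, DihedralGroup.r_mul_sr, DihedralGroup.sr.injEq] at h
        exact Or.inl ⟨a, by linear_combination h, rfl⟩
      · rw [DihedralGroup.sr_mul_sr, DihedralGroup.sr_mul_sr, DihedralGroup.r.injEq] at h
        exact Or.inr ⟨j - i, by linear_combination h, by rw [add_sub_cancel]⟩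
    intro x
    by_cases hx1 : x = 1
    · rw [hx1, map_one]
    by_cases hxt : x = t
    · rw [hxt, ht]
    have h1 : σ x ≠ 1 := fun h => hx1 (σ.injective (by rw [h, map_one]))
    have h2 : σ x ≠ t := fun h => hxt (σ.injective (by rw [h, ht]))
    -- an element other than `1, t` determines the nonzero half
    have hne : ∀ y : A, y ≠ 1 → y ≠ t → ∃ c, c ≠ 0 ∧ c + c = 0 ∧
        (φ y = .r c ∨ φ y = .sr (i + c)) := by
      intro y hy1 hyt
      rcases hcases y with ⟨c, hc, hy⟩ | ⟨c, hc, hy⟩
      · exact ⟨c, fun h => hy1 (hφ (by rw [hy, h, map_one, DihedralGroup.one_def])), hc, Or.inl hy⟩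
      · exact ⟨c, fun h => hyt (hφ (by rw [hy, h, add_zero, hdt])), hc, Or.inr hy⟩
    obtain ⟨c, hc0, hc, hxc⟩ := hne x hx1 hxt
    obtain ⟨d, hd0, hd, hxd⟩ := hne (σ x) h1 h2
    rcases half_cases (x := d) (c := c) (by rw [two_mul]; exact hc) hc0
      (by rw [two_mul]; exact hd) with h | h
    · exact absurd h hd0
    subst h
    refine fix_of_pair σ hm hσ ht ht2 ?_
    rcases hxc with hx | hx <;> rcases hxd with hy | hy
    · exact Or.inl (hφ (hy.trans hx.symm))
    · refine Or.inr (hφ ?_)
      rw [hy, map_mul, hx, hdt, DihedralGroup.r_mul_sr]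
      congr 1; linear_combination hc
    · refine Or.inr (hφ ?_)
      rw [hy, map_mul, hx, hdt, DihedralGroup.sr_mul_sr]
      congr 1; linear_combination hc
    · exact Or.inl (hφ (hy.trans hx.symm))

theorem result {X : Type*} [Group X] [Finite X]
    (S : Sylow 2 X) (n : ℕ) (hn : 2 ≤ n) (hS : Nonempty ((S : Subgroup X) ≃* DihedralGroup n)) (t : X)
    (ht : orderOf t = 2) :
    ∃ N : Subgroup (Subgroup.centralizer ({t} : Set X)), N.Normal ∧ Odd (Nat.card N) ∧ ∃ k : ℕ, N.index = 2 ^ k := by
  haveI : Fact (Nat.Prime 2) := ⟨Nat.prime_two⟩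
  haveI : NeZero n := ⟨by omega⟩
  obtain ⟨e⟩ := hS
  set C := centralizer ({t} : Set X) with hC
  obtain ⟨P⟩ := (Sylow.nonempty : Nonempty (Sylow 2 C))
  have hcomp : Cfsg.HasNormalPComplement 2 C := by
    rw [TransferAlperin.hasNormalPComplement_iff_centralizer P]
    intro Q hQ g hg hgo
    have ht1 : t ≠ 1 := fun h => by rw [h, orderOf_one] at ht; omega
    have htt : t * t = 1 := by rw [← pow_two, ← ht]; exact pow_orderOf_eq_one t
    -- enlarge Q by t
    set Q₀ := Q.map C.subtype
    set A := Q₀ ⊔ zpowers t with hA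
    have htA : t ∈ A := mem_sup_right (mem_zpowers t)
    have hQ₀C : Q₀ ≤ C := map_subtype_le Q
    have hcomm : ∀ x ∈ A, x * t = t * x := by
      have : A ≤ C := sup_le hQ₀C (zpowers_le.mpr (mem_centralizer_singleton_iff.mpr rfl))
      exact fun x hx => mem_centralizer_singleton_iff.mp (this hx)
    have hAp : IsPGroup 2 A := by
      refine ((P.isPGroup'.to_le hQ).map C.subtype).to_sup_of_normal_left'
        (IsPGroup.of_card (n := 1) (by rw [Nat.card_zpowers, ht, pow_one]))
        (zpowers_le.mpr ?_)
      rw [mem_normalizer_iff]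
      intro x
      constructor
      · intro hx
        rw [← mem_centralizer_singleton_iff.mp (hQ₀C hx)]; simpa using hx
      · intro hx
        have h := mem_centralizer_singleton_iff.mp (hQ₀C hx)
        have : x = t * x * t⁻¹ := by
          calc x = t⁻¹ * ((t * x * t⁻¹) * t) := by group
            _ = t⁻¹ * (t * (t * x * t⁻¹)) := by rw [h]
            _ = t * x * t⁻¹ := by group
        rw [this]; exact hx
    obtain ⟨P', hP'⟩ := hAp.exists_le_sylow
    let φ : A →* DihedralGroup n :=
      (((P'.equiv S).trans e).toMonoidHom).comp (Subgroup.inclusion hP')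
    have hφ : Function.Injective φ :=
      ((P'.equiv S).trans e).injective.comp (Subgroup.inclusion_injective hP')
    have hgt : (g : X) * t * (g : X)⁻¹ = t := by
      rw [mem_centralizer_singleton_iff.mp g.2]; group
    have hgA : ∀ x : X, x ∈ A → (g : X) * x * (g : X)⁻¹ ∈ A := by
      intro x hx
      have hle : A ≤ A.comap (MulAut.conj (g : X)).toMonoidHom := by
        refine sup_le ?_ (zpowers_le.mpr ?_)
        · rintro y ⟨q, hq, rfl⟩
          exact mem_sup_left ⟨g * q * g⁻¹, (mem_normalizer_iff.mp hg q).mp hq, rfl⟩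
        · show (g : X) * t * (g : X)⁻¹ ∈ A
          rw [hgt]; exact htA
      exact hle hx
    have hgN : (g : X) ∈ normalizer (A : Set X) := by
      refine mem_normalizer_fintype ?_
      intro x hx
      exact hgA x hx
    let σ : MulAut A := A.normalizerMonoidHom ⟨g, hgN⟩
    have hσ : σ ^ orderOf (g : X) = 1 := by
      rw [← map_pow, show (⟨(g : X), hgN⟩ : normalizer (A : Set X)) ^ orderOf (g : X) = 1 from
        Subtype.ext (pow_orderOf_eq_one _), map_one]
    have hfix := aut_fixed φ hφ hAp σ (m := orderOf (g : X))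
      (by rw [← Nat.coprime_two_right, orderOf_coe]; exact hgo) hσ (t := ⟨t, htA⟩)
      (Subtype.ext htt) (fun h => ht1 (congrArg Subtype.val h))
      (fun x => Subtype.ext (hcomm x x.2).symm) (Subtype.ext hgt)
    rw [mem_centralizer_iff]
    intro q hq
    apply Subtype.ext
    have h : (g : X) * q * (g : X)⁻¹ = q :=
      congrArg Subtype.val (hfix ⟨q, mem_sup_left ⟨q, hq, rfl⟩⟩)
    show (q : X) * g = g * q
    calc (q : X) * g = ((g : X) * q * (g : X)⁻¹) * g := by rw [h]
      _ = g * q := by group
  refine ⟨Cfsg.pResidual 2 C, inferInstance, ?_, _, (TransferPResidual.index_pResidual (p := 2) (G := C)).choose_spec⟩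
  exact Nat.odd_iff.mpr (Nat.two_dvd_ne_zero.mp
    ((TransferPResidual.hasNormalPComplement_iff_not_dvd).mp hcomp))

end Cfsg.Agent.S0514
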