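import Cfsg.Statements.S0508
import Cfsg.Agent.Lib.BSWRecognition84
import Cfsg.Agent.Lib.DihedralSylow77
import Cfsg.Agent.Lib.HallCore
import Cfsg.Agent.Lib.TransferThompson
import Cfsg.Agent.S0514
-- import your own Cfsg.Agent.* helpers here

set_option autoImplicit false
open Cfsg

namespace Cfsg.Agent.S0508

open DihedralGroup Cfsg.Agent.DihedralSylow77

/-- A cyclic subgroup has at most one involution. -/
theorem inv_unique {G : Type*} [Group G] [Finite G] {A : Subgroup G} [IsCyclic A] {a b : G}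
    (ha : a ∈ A) (hb : b ∈ A) (ha2 : a * a = 1) (hb2 : b * b = 1) (hb1 : b ≠ 1) :
    a = 1 ∨ a = b := by
  classical
  haveI := Fintype.ofFinite A
  by_contra hc
  push Not at hc
  have hsub : ({1, ⟨a, ha⟩, ⟨b, hb⟩} : Finset A) ⊆
      Finset.univ.filter fun x : A => x ^ 2 = 1 := by
    intro x hx
    simp only [Finset.mem_insert, Finset.mem_singleton] at hx
    simp only [Finset.mem_filter, Finset.mem_univ, true_and]
    rcases hx with rfl | rfl | rfl
    · exact one_pow 2
    · exact Subtype.ext (by rw [Subgroup.coe_pow, pow_two]; exact ha2)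
    · exact Subtype.ext (by rw [Subgroup.coe_pow, pow_two]; exact hb2)
  have h1 := (Finset.card_le_card hsub).trans (IsCyclic.card_pow_eq_one_le (α := A) two_pos)
  have h2 : ({1, ⟨a, ha⟩, ⟨b, hb⟩} : Finset A).card = 3 := Finset.card_eq_three.2
    ⟨_, _, _, fun e => hc.1 (congrArg Subtype.val e).symm, fun e => hb1 (congrArg Subtype.val e).symm,
      fun e => hc.2 (congrArg Subtype.val e), rfl⟩
  omega

/-- The cyclic subgroup of index two. -/
theorem exists_cyclic {G : Type*} [Group G] [Finite G] (S : Sylow 2 G) {k : ℕ} (hk : 0 < k)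
    (ψ : DihedralGroup (2 * k) →* G) (hψ : Function.Injective ψ) (hr : ψ.range = (S : Subgroup G))
    {t : G} (ht : orderOf t = 2) (htS : t ∈ (S : Subgroup G))
    (htZ : ∀ s ∈ (S : Subgroup G), s * t = t * s) :
    ∃ A : Subgroup G, IsCyclic A ∧ A ≤ (S : Subgroup G) ∧ A.relIndex (S : Subgroup G) = 2 ∧ t ∈ A := by
  haveI : NeZero (2 * k) := ⟨by omega⟩
  have hcS : Nat.card (S : Subgroup G) = 4 * k := by
    rw [← hr, ← Nat.card_congr (MonoidHom.ofInjective hψ).toEquiv, DihedralGroup.nat_card]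
    ring
  have hrel : ∀ A : Subgroup G, A ≤ (S : Subgroup G) → 2 * Nat.card A = 4 * k →
      A.relIndex (S : Subgroup G) = 2 := by
    intro A hA hc
    have h1 := (A.subgroupOf (S : Subgroup G)).card_mul_index
    rw [Nat.card_congr (Subgroup.subgroupOfEquivOfLe hA).toEquiv, hcS, ← hc] at h1
    rw [Subgroup.relIndex]
    exact Nat.eq_of_mul_eq_mul_left Nat.card_pos (h1.trans (mul_comm 2 _))
  rcases Nat.lt_or_ge k 2 with hk2 | hk2
  · exact ⟨Subgroup.zpowers t, inferInstance, Subgroup.zpowers_le.2 htS,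
      hrel _ (Subgroup.zpowers_le.2 htS) (by rw [Nat.card_zpowers, ht]; omega), Subgroup.mem_zpowers t⟩
  have hA : (Subgroup.zpowers (r (1 : ZMod (2 * k)))).map ψ ≤ (S : Subgroup G) :=
    hr ▸ Subgroup.map_le_range _ _
  refine ⟨_, ?_, hA, hrel _ hA ?_, ?_⟩
  · rw [MonoidHom.map_zpowers]; infer_instance
  · rw [Subgroup.card_map_of_injective hψ, Nat.card_zpowers, orderOf_r_one]; ring
  · obtain ⟨d, rfl⟩ : t ∈ ψ.range := hr ▸ htS
    cases d with
    | r i => exact ⟨_, ⟨(i.cast : ℤ), by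
        show (r 1 : DihedralGroup (2 * k)) ^ (i.cast : ℤ) = r i
        rw [r_one_zpow, ZMod.intCast_zmod_cast]⟩, rfl⟩
    | sr i =>
      exfalso
      have h := htZ (ψ (r 1)) (hr ▸ ⟨r 1, rfl⟩)
      rw [← map_mul, ← map_mul, r_mul_sr, sr_mul_r] at h
      have h1 : i - 1 = i + 1 := by simpa using hψ h
      have h2 : ((2 : ℕ) : ZMod (2 * k)) = 0 := by push_cast; linear_combination -h1
      have := Nat.le_of_dvd two_pos ((ZMod.natCast_eq_zero_iff _ _).1 h2)
      omega

/-- An involution outside a cyclic maximal subgroup inverts it. -/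
theorem exists_inverting {G : Type*} [Group G] [Finite G] (S : Sylow 2 G) {k : ℕ} (hk : 0 < k)
    (ψ : DihedralGroup (2 * k) →* G) (hψ : Function.Injective ψ) (hr : ψ.range = (S : Subgroup G))
    {t : G} (ht : orderOf t = 2) (htZ : ∀ s ∈ (S : Subgroup G), s * t = t * s)
    {A : Subgroup G} [IsCyclic A] (hAS : A ≤ (S : Subgroup G))
    (hA : A.relIndex (S : Subgroup G) = 2) (htA : t ∈ A) :
    ∃ s ∈ (S : Subgroup G), s ∉ A ∧ orderOf s = 2 ∧ ∀ a ∈ A, s * a * s⁻¹ = a⁻¹ := by
  haveI : NeZero (2 * k) := ⟨by omega⟩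
  have htt : t * t = 1 := by rw [← pow_two, ← ht]; exact pow_orderOf_eq_one t
  have ht1 : t ≠ 1 := fun e => by rw [e, orderOf_one] at ht; omega
  rcases Nat.lt_or_ge k 2 with hk2 | hk2
  · obtain rfl : k = 1 := by omega
    have hsq : ∀ x ∈ (S : Subgroup G), x * x = 1 := by
      intro x hx
      obtain ⟨d, rfl⟩ : x ∈ ψ.range := hr ▸ hx
      rw [← map_mul, ← map_one ψ]
      congr 1
      cases d with
      | r i =>
        rw [r_mul_r, ← r_zero]
        congr 1
        have h2 : ∀ j : ZMod (2 * 1), j + j = 0 := by decide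
        exact h2 i
      | sr i => exact sr_mul_self i
    obtain ⟨s, hs, hsA⟩ : ∃ s ∈ (S : Subgroup G), s ∉ A := by
      by_contra hc
      push Not at hc
      rw [Subgroup.relIndex_eq_one.2 hc] at hA
      omega
    refine ⟨s, hs, hsA, orderOf_eq_prime (by rw [pow_two, hsq s hs]) fun e => hsA (e ▸ A.one_mem),
      fun a ha => ?_⟩
    have e : ∀ x ∈ (S : Subgroup G), x⁻¹ = x := fun x hx => inv_eq_of_mul_eq_one_left (hsq x hx)
    have hsa : s * a = a * s := by
      have := e _ (Subgroup.mul_mem _ hs (hAS ha))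
      rwa [mul_inv_rev, e s hs, e a (hAS ha), eq_comm] at this
    rw [hsa, mul_inv_cancel_right, e a (hAS ha)]
  have hsr : ∀ i : ZMod (2 * k), ψ (sr i) ∉ A := by
    intro i hi
    have hs2 : ψ (sr i) * ψ (sr i) = 1 := by rw [← map_mul, sr_mul_self, map_one]
    rcases inv_unique hi htA hs2 htt ht1 with h | h
    · rw [← map_one ψ] at h
      exact absurd (hψ h) (by simp [one_def, -r_zero])
    · have h' := htZ (ψ (r 1)) (hr ▸ ⟨r 1, rfl⟩)
      rw [← h, ← map_mul, ← map_mul, r_mul_sr, sr_mul_r] at h'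
      have h1 : i - 1 = i + 1 := by simpa using hψ h'
      have h2 : ((2 : ℕ) : ZMod (2 * k)) = 0 := by push_cast; linear_combination -h1
      have := Nat.le_of_dvd two_pos ((ZMod.natCast_eq_zero_iff _ _).1 h2)
      omega
  refine ⟨ψ (sr 0), hr ▸ ⟨_, rfl⟩, hsr 0, orderOf_sr' ψ hψ 0, fun a ha => ?_⟩
  obtain ⟨d, rfl⟩ : a ∈ ψ.range := hr ▸ hAS ha
  cases d with
  | r i => rw [← map_inv, ← map_inv, ← map_mul, ← map_mul, inv_sr, sr_mul_r, sr_mul_sr, inv_r, zero_add, zero_sub]
  | sr i => exact absurd ha (hsr i)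

/-- The hypotheses of the Brauer-Suzuki-Wall theorem. -/
theorem exists_hyp {G : Type*} [Group G] [Finite G] [IsSimpleGroup G] (S : Sylow 2 G) (n : ℕ)
    (hn : 2 ≤ n) (hS : Nonempty ((S : Subgroup G) ≃* DihedralGroup n)) (t : G) (ht : orderOf t = 2)
    (htS : t ∈ (S : Subgroup G))
    (htZ : ∀ s ∈ (S : Subgroup G), s * t = t * s) (O : Subgroup G)
    (hO : O = (Cfsg.oddCore (Subgroup.centralizer ({t} : Set G))).map (Subgroup.centralizer ({t} : Set G)).subtype)
    (ha : O ≠ ⊥ → IsCyclic ((S : Subgroup G) ⊓ Subgroup.centralizer (O : Set G) : Subgroup G) ∧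
      ((S : Subgroup G) ⊓ Subgroup.centralizer (O : Set G)).relIndex (S : Subgroup G) = 2)
    (hb : ∀ s ∈ (S : Subgroup G), s ∉ Subgroup.centralizer (O : Set G) → ∀ y ∈ O, s * y * s⁻¹ = y⁻¹)
    (hc : ∀ Y : Subgroup G, Y ≤ O → Y ≠ ⊥ → Subgroup.normalizer (Y : Set G) ≤ Subgroup.centralizer ({t} : Set G)) :
    ∃ (K : Subgroup G) (s : G), BSW84.Hyp t K s := by
  classical
  obtain ⟨eS⟩ := hS
  obtain ⟨k, hk, ψ, hψ, hr⟩ := exists_embedding S n hn eS
  have ht1 : t ≠ 1 := BSW84.ne_one_of_two ht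
  have htt : t * t = 1 := BSW84.mul_self_of_two ht
  set C := Subgroup.centralizer ({t} : Set G) with hC
  have hSC : (S : Subgroup G) ≤ C := fun x hx => Subgroup.mem_centralizer_singleton_iff.2 (htZ x hx)
  have hOC : O ≤ C := hO ▸ Subgroup.map_subtype_le _
  have hOt : ∀ o ∈ O, o * t = t * o := fun o ho => Subgroup.mem_centralizer_singleton_iff.1 (hOC ho)
  have hOodd : Odd (Nat.card O) := by
    rw [hO, Subgroup.card_map_of_injective C.subtype_injective]
    exact Nat.coprime_two_right.1 (HallCore.coprime_card_pPrimeCore 2 C)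
  have hoodd : ∀ o ∈ O, Odd (orderOf o) := fun o ho => by
    have := orderOf_dvd_natCard (⟨o, ho⟩ : O)
    rw [Subgroup.orderOf_mk] at this
    exact hOodd.of_dvd_nat this
  -- the cyclic subgroup
  obtain ⟨A, hAcyc, hAS, hA2, htA, hAO, hsO⟩ : ∃ A : Subgroup G, IsCyclic A ∧ A ≤ (S : Subgroup G) ∧
      A.relIndex (S : Subgroup G) = 2 ∧ t ∈ A ∧ (∀ a ∈ A, ∀ o ∈ O, a * o = o * a) ∧
      ∀ x ∈ (S : Subgroup G), x ∉ A → ∀ o ∈ O, x * o * x⁻¹ = o⁻¹ := by
    by_cases hOb : O = ⊥
    · obtain ⟨A, h1, h2, h3, h4⟩ := exists_cyclic S hk ψ hψ hr ht htS htZ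
      refine ⟨A, h1, h2, h3, h4, fun a ha o ho => ?_, fun x hx hxA o ho => ?_⟩ <;>
        rw [hOb, Subgroup.mem_bot] at ho <;> simp [ho]
    · obtain ⟨h1, h2⟩ := ha hOb
      refine ⟨_, h1, inf_le_left, h2, ⟨htS, Subgroup.mem_centralizer_iff.2 fun o ho => hOt o ho⟩,
        fun a ha o ho => (Subgroup.mem_centralizer_iff.1 ha.2 o ho).symm,
        fun x hx hxA => hb x hx fun h => hxA ⟨hx, h⟩⟩
  obtain ⟨s, hsS, hsA, hs2, hsinv⟩ := exists_inverting S hk ψ hψ hr ht htZ hAS hA2 htA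
  have hOab : ∀ o ∈ O, ∀ o' ∈ O, o * o' = o' * o := by
    intro o ho o' ho'
    have h := hsO s hsS hsA _ (O.mul_mem ho ho')
    have e : s * (o * o') * s⁻¹ = (s * o * s⁻¹) * (s * o' * s⁻¹) := by group
    rw [e, hsO s hsS hsA o ho, hsO s hsS hsA o' ho', ← mul_inv_rev, inv_inj] at h
    exact h.symm
  have hAab : ∀ a ∈ A, ∀ a' ∈ A, a * a' = a' * a := fun a ha a' ha' =>
    congrArg Subtype.val (hAcyc.isMulCommutative.is_comm.comm (⟨a, ha⟩ : A) ⟨a', ha'⟩)
  have hAtwo : ∀ a ∈ A, ∃ j : ℕ, a ^ 2 ^ j = 1 := fun a ha => by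
    obtain ⟨j, hj⟩ := S.isPGroup' ⟨a, hAS ha⟩
    exact ⟨j, congrArg Subtype.val hj⟩
  have hAO1 : ∀ x ∈ A, x ∈ O → x = 1 := fun x hx hx' => by
    obtain ⟨j, hj⟩ := hAtwo x hx
    exact orderOf_eq_one_iff.1 (Nat.eq_one_of_dvd_coprimes
      (Nat.Coprime.pow_left j (Nat.coprime_two_left.2 (hoodd x hx'))) (orderOf_dvd_of_pow_eq_one hj) dvd_rfl)
  let K : Subgroup G :=
    { carrier := {g | ∃ a ∈ A, ∃ o ∈ O, g = a * o}
      one_mem' := ⟨1, A.one_mem, 1, O.one_mem, (one_mul 1).symm⟩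
      mul_mem' := by
        rintro _ _ ⟨a, ha, o, ho, rfl⟩ ⟨a', ha', o', ho', rfl⟩
        exact ⟨a * a', A.mul_mem ha ha', o * o', O.mul_mem ho ho', by
          rw [mul_assoc, ← mul_assoc o, ← hAO a' ha' o ho]; group⟩
      inv_mem' := by
        rintro _ ⟨a, ha, o, ho, rfl⟩
        exact ⟨a⁻¹, A.inv_mem ha, o⁻¹, O.inv_mem ho, by
          rw [mul_inv_rev, ← hAO _ (A.inv_mem ha) _ (O.inv_mem ho)]⟩ }
  have hAK : ∀ a ∈ A, a ∈ K := fun a ha => ⟨a, ha, 1, O.one_mem, (mul_one a).symm⟩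
  have hOK : ∀ o ∈ O, o ∈ K := fun o ho => ⟨1, A.one_mem, o, ho, (one_mul o).symm⟩
  have hpow : ∀ a ∈ A, ∀ o ∈ O, ∀ i : ℕ, (a * o) ^ i = a ^ i * o ^ i := fun a ha o ho i =>
    Commute.mul_pow (show Commute a o from hAO a ha o ho) i
  have hcomm : ∀ x ∈ K, ∀ y ∈ K, x * y = y * x := by
    rintro _ ⟨a, ha, o, ho, rfl⟩ _ ⟨a', ha', o', ho', rfl⟩
    have c1 : Commute a a' := hAab a ha a' ha'
    have c2 : Commute a o' := hAO a ha o' ho'
    have c3 : Commute o a' := (hAO a' ha' o ho).symm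
    have c4 : Commute o o' := hOab o ho o' ho'
    exact ((c1.mul_right c2).mul_left (c3.mul_right c4)).eq
  have huniq : ∀ x ∈ K, x * x = 1 → x = 1 ∨ x = t := by
    rintro _ ⟨a, ha, o, ho, rfl⟩ h
    rw [← pow_two, hpow a ha o ho] at h
    have h1 : a ^ 2 = 1 := hAO1 _ (A.pow_mem ha 2) (by
      rw [eq_inv_of_mul_eq_one_left h]; exact O.inv_mem (O.pow_mem ho 2))
    rw [h1, one_mul] at h
    have ho1 : o = 1 := orderOf_eq_one_iff.1 (Nat.eq_one_of_dvd_coprimes
      (Nat.coprime_two_left.2 (hoodd o ho)) (orderOf_dvd_of_pow_eq_one h) dvd_rfl)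
    rw [ho1, mul_one]
    exact inv_unique ha htA (by rw [← pow_two, h1]) htt ht1
  have hinv : ∀ x ∈ K, s * x * s⁻¹ = x⁻¹ := by
    rintro _ ⟨a, ha, o, ho, rfl⟩
    have e : s * (a * o) * s⁻¹ = (s * a * s⁻¹) * (s * o * s⁻¹) := by group
    rw [e, hsinv a ha, hsO s hsS hsA o ho, hAO a ha o ho, mul_inv_rev]
  have hsK : s ∉ K := by
    rintro ⟨a, ha, o, ho, e⟩
    have h : (a * o) ^ 2 = 1 := by rw [← e, pow_two]; exact BSW84.mul_self_of_two hs2
    rcases huniq _ ⟨a, ha, o, ho, rfl⟩ (by rw [← pow_two]; exact h) with h' | h' <;> rw [← e] at h'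
    · exact BSW84.ne_one_of_two hs2 h'
    · exact hsA (h' ▸ htA)
  have hcent : ∀ c : G, Commute c t → c ∈ K ∨ s * c ∈ K := by
    intro c hc'
    have hcC : c ∈ C := Subgroup.mem_centralizer_singleton_iff.2 hc'
    obtain ⟨N, hN, hNodd, e, hNidx⟩ := Cfsg.Agent.S0514.result S n hn ⟨eS⟩ t ht
    haveI := hN
    have hsup : N ⊔ (S : Subgroup G).subgroupOf C = ⊤ := by
      rw [← Subgroup.index_eq_one]
      have h1 : (N ⊔ (S : Subgroup G).subgroupOf C).index ∣ 2 ^ e := hNidx ▸ Subgroup.index_dvd_of_le le_sup_left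
      have h2 : (N ⊔ (S : Subgroup G).subgroupOf C).index ∣ ((S : Subgroup G).subgroupOf C).index :=
        Subgroup.index_dvd_of_le le_sup_right
      have h3 : ((S : Subgroup G).subgroupOf C).index ∣ (S : Subgroup G).index :=
        ⟨C.index, (Subgroup.relIndex_mul_index hSC).symm⟩
      exact Nat.eq_one_of_dvd_coprimes (Nat.Coprime.pow_left e
        ((Nat.Prime.coprime_iff_not_dvd Nat.prime_two).2 S.not_dvd_index)) h1 (h2.trans h3)
    have hmem : (⟨c, hcC⟩ : C) ∈ N ⊔ (S : Subgroup G).subgroupOf C := by rw [hsup]; trivial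
    obtain ⟨o, ho, σ, hσ, hoσ⟩ := Subgroup.mem_sup_of_normal_left.1 hmem
    have hoO : (o : G) ∈ O :=
      hO ▸ ⟨o, HallCore.le_pPrimeCore (Nat.coprime_two_right.2 hNodd) ho, rfl⟩
    have hσS : (σ : G) ∈ (S : Subgroup G) := hσ
    have ec : c = (o : G) * σ := (congrArg Subtype.val hoσ).symm
    by_cases hσA : (σ : G) ∈ A
    · exact Or.inl (ec ▸ K.mul_mem (hOK _ hoO) (hAK _ hσA))
    · right
      have h1 : s * (σ : G) ∈ A := by
        have := (Subgroup.mul_mem_iff_of_index_two (H := A.subgroupOf (S : Subgroup G)) hA2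
          (a := ⟨s, hsS⟩) (b := ⟨σ, hσS⟩)).2 (iff_of_false hsA hσA)
        exact this
      rw [ec, show s * ((o : G) * σ) = (s * o * s⁻¹) * (s * σ) by group, hsO s hsS hsA o hoO]
      exact K.mul_mem (hOK _ (O.inv_mem hoO)) (hAK _ h1)
  have hKt : ∀ x ∈ K, x * t = t * x := fun x hx => hcomm x hx t (hAK t htA)
  have hti : ∀ g : G, ∀ x ∈ K, g * x * g⁻¹ ∈ K → x ≠ 1 → Commute g t := by
    intro g x hx hgx hx1
    suffices h : g * t * g⁻¹ = t from mul_inv_eq_iff_eq_mul.1 h
    rcases Nat.even_or_odd (orderOf x) with ⟨m, hm⟩ | hodd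
    · have hp := orderOf_pos x
      have h1 : x ^ m ≠ 1 := fun e => by
        have := Nat.le_of_dvd (by omega) (orderOf_dvd_of_pow_eq_one e)
        omega
      have h2 : x ^ m * x ^ m = 1 := by rw [← pow_add, ← hm, pow_orderOf_eq_one]
      have hxt : x ^ m = t := (huniq _ (K.pow_mem hx m) h2).resolve_left h1
      have h3 : g * t * g⁻¹ ∈ K := by rw [← hxt, ← conj_pow]; exact K.pow_mem hgx m
      exact (huniq _ h3 (by rw [conj_mul, htt]; group)).resolve_left fun e => ht1 (conj_eq_one_iff.1 e)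
    · have hinO : ∀ y ∈ K, Odd (orderOf y) → y ∈ O := by
        rintro _ ⟨a, ha, o, ho, rfl⟩ hy
        have hodd' : Odd (orderOf (a * o) * orderOf o) := hy.mul (hoodd o ho)
        have h1 : a ^ (orderOf (a * o) * orderOf o) = 1 := by
          have := hpow a ha o ho (orderOf (a * o) * orderOf o)
          rw [pow_mul, pow_orderOf_eq_one, one_pow, mul_comm, pow_mul o, pow_orderOf_eq_one, one_pow,
            mul_one] at this
          rw [mul_comm]
          exact this.symm
        obtain ⟨j, hj⟩ := hAtwo a ha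
        have ha1 : a = 1 := orderOf_eq_one_iff.1 (Nat.eq_one_of_dvd_coprimes
          (Nat.Coprime.pow_left j (Nat.coprime_two_left.2 hodd')) (orderOf_dvd_of_pow_eq_one hj)
          (orderOf_dvd_of_pow_eq_one h1))
        rw [ha1, one_mul]
        exact ho
      set y := g * x * g⁻¹ with hy
      have hyodd : Odd (orderOf y) := by rw [hy, BSW84.orderOf_conj_eq]; exact hodd
      have hyO := hinO y hgx hyodd
      have hy1 : y ≠ 1 := fun e => hx1 (conj_eq_one_iff.1 e)
      have hu2 : orderOf (g * t * g⁻¹) = 2 := by rw [BSW84.orderOf_conj_eq, ht]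
      have hcom : g * t * g⁻¹ * y = y * (g * t * g⁻¹) := by rw [hy, conj_mul, conj_mul, hKt x hx]
      have huC : g * t * g⁻¹ ∈ C := by
        refine hc (Subgroup.zpowers y) (Subgroup.zpowers_le.2 hyO) (by simpa using hy1) ?_
        refine Subgroup.centralizer_le_normalizer _ ?_
        rw [Subgroup.mem_centralizer_iff]
        rintro _ ⟨i, rfl⟩
        exact ((Commute.zpow_right hcom i).eq).symm
      rcases hcent _ (Subgroup.mem_centralizer_singleton_iff.1 huC) with h | h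
      · exact (huniq _ h (BSW84.mul_self_of_two hu2)).resolve_left (BSW84.ne_one_of_two hu2)
      · exfalso
        have hsy : s * y = y * s := by
          have h1 : Commute (s * (g * t * g⁻¹)) y := hcomm _ h y hgx
          have h2 := (h1.mul_left (Commute.inv_left (show Commute (g * t * g⁻¹) y from hcom))).eq
          rwa [mul_inv_cancel_right] at h2
        have h3 : y = y⁻¹ := by rw [← hinv y hgx, hsy, mul_inv_cancel_right]
        have h4 : y ^ 2 = 1 := by rw [pow_two]; nth_rw 1 [h3]; exact inv_mul_cancel y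
        exact hy1 (orderOf_eq_one_iff.1 (Nat.eq_one_of_dvd_coprimes
          (Nat.coprime_two_left.2 hyodd) (orderOf_dvd_of_pow_eq_one h4) dvd_rfl))
  have hall : ∀ x : G, orderOf x = 2 → IsConj x t := by
    intro x hx
    obtain ⟨R, hR⟩ := (IsPGroup.of_card (n := 1) (by rw [Nat.card_zpowers, hx, pow_one]) :
      IsPGroup 2 (Subgroup.zpowers x)).exists_le_sylow
    obtain ⟨w, hw⟩ := MulAction.exists_smul_eq G R S
    have hwS : w * x * w⁻¹ ∈ (S : Subgroup G) := by
      rw [← hw]; exact ⟨x, hR (Subgroup.mem_zpowers x), rfl⟩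
    have hw2 : orderOf (w * x * w⁻¹) = 2 := by rw [BSW84.orderOf_conj_eq, hx]
    by_cases hex : ∃ g, g * (w * x * w⁻¹) * g⁻¹ ∈ A
    · obtain ⟨g, hg⟩ := hex
      have h2 : orderOf (g * (w * x * w⁻¹) * g⁻¹) = 2 := by rw [BSW84.orderOf_conj_eq, hw2]
      have := (inv_unique hg htA (BSW84.mul_self_of_two h2) htt ht1).resolve_left (BSW84.ne_one_of_two h2)
      exact isConj_iff.2 ⟨g * w, by rw [← this]; group⟩
    · exfalso
      push Not at hex
      obtain ⟨M, hM, hMi, -⟩ := TransferThompson.thompson_transfer S A hAS hA2 hw2 hwS hex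
      rcases hM.eq_bot_or_eq_top with rfl | rfl
      · rw [Subgroup.index_bot] at hMi
        have h1 := Subgroup.card_subgroup_dvd_card (S : Subgroup G)
        rw [hMi, ← hr, ← Nat.card_congr (MonoidHom.ofInjective hψ).toEquiv, DihedralGroup.nat_card] at h1
        have := Nat.le_of_dvd two_pos h1
        omega
      · rw [Subgroup.index_top] at hMi
        omega
  exact ⟨K, s, ⟨ht, hs2, hcomm, hAK t htA, htZ s hsS, hsK, hinv, hcent, huniq, hti,
    fun x y hx hy => (hall x hx).trans (hall y hy).symm⟩⟩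

/-- Let G be a finite simple group with a dihedral Sylow 2-subgroup S (of order at least 4), t an involution in the
centre of S, C the centralizer of t and O the core of C (its largest normal subgroup of odd order). Suppose that: if O
is nontrivial then the centralizer of O in S is cyclic of index 2 in S; every element of S not centralizing O inverts
every element of O; and the normalizer of every nontrivial subgroup of O lies in C. Then G is isomorphic to a projective
special linear group of dimension 2 over a field of odd order. -/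
theorem result {G : Type*} [Group G] [Finite G] [IsSimpleGroup G] (S : Sylow 2 G) (n : ℕ)
    (hn : 2 ≤ n) (hS : Nonempty ((S : Subgroup G) ≃* DihedralGroup n)) (t : G) (ht : orderOf t = 2)
    (htS : t ∈ (S : Subgroup G))
    (htZ : ∀ s ∈ (S : Subgroup G), s * t = t * s) (O : Subgroup G)
    (hO : O = (Cfsg.oddCore (Subgroup.centralizer ({t} : Set G))).map (Subgroup.centralizer ({t} : Set G)).subtype)
    (ha : O ≠ ⊥ → IsCyclic ((S : Subgroup G) ⊓ Subgroup.centralizer (O : Set G) : Subgroup G) ∧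
      ((S : Subgroup G) ⊓ Subgroup.centralizer (O : Set G)).relIndex (S : Subgroup G) = 2)
    (hb : ∀ s ∈ (S : Subgroup G), s ∉ Subgroup.centralizer (O : Set G) → ∀ y ∈ O, s * y * s⁻¹ = y⁻¹)
    (hc : ∀ Y : Subgroup G, Y ≤ O → Y ≠ ⊥ → Subgroup.normalizer (Y : Set G) ≤ Subgroup.centralizer ({t} : Set G)) :
    ∃ (F : Type) (_ : Field F) (_ : Fintype F), Odd (Fintype.card F) ∧ Nonempty (G ≃* Matrix.ProjectiveSpecialLinearGroup (Fin 2) F) := by
  obtain ⟨K, s, H⟩ := exists_hyp S n hn hS t ht htS htZ O hO ha hb hc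
  exact BSW84.Concl.exists_psl2 H.concl

end Cfsg.Agent.S0508
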