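import Mathlib
import Cfsg.Statements.S0727
import Cfsg.Agent.Lib.SharpThree28
import Cfsg.Agent.Lib.ZassenhausPGLOddDegree

set_option autoImplicit false
open Cfsg

namespace Cfsg.Agent.S0727

open scoped OnePoint
open MulAction Cfsg.Agent.Zassenhaus Cfsg.Agent.ZassenhausPGL

universe u

variable {G : Type u} [Group G] [Finite G] {V : Type u} [AddCommGroup V] [Finite V]
variable {ρ : G →* Equiv.Perm (OnePoint V)} {H : Subgroup G} {act : H →* AddMonoid.End V}

theorem pgl_even (hA : Affine ρ H act) [Nontrivial V]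
    (h3 : ∀ a b c : OnePoint V, a ≠ b → a ≠ c → b ≠ c → ∀ a' b' c' : OnePoint V, a' ≠ b' → a' ≠ c' →
      b' ≠ c' → ∃ g, ρ g a = a' ∧ ρ g b = b' ∧ ρ g c = c')
    (heven : Even (Nat.card V)) :
    ∃ (F : Type) (_ : Field F) (_ : Fintype F), Fintype.card F = Nat.card V ∧
      Nonempty (G ≃* Matrix.ProjGenLinGroup (Fin 2) F) := by
  classical
  obtain ⟨e₁, he₁⟩ := _root_.exists_ne (0 : V)
  have hne : ∀ v : V, v ≠ 0 → ((0 : V) : OnePoint V) ≠ (v : OnePoint V) := fun v hv h =>
    hv (OnePoint.coe_injective h).symm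
  obtain ⟨t, ht1, ht0, hte⟩ := h3 ∞ ((0 : V) : OnePoint V) e₁ (OnePoint.infty_ne_coe _)
    (OnePoint.infty_ne_coe _) (hne _ he₁) ((0 : V) : OnePoint V) ∞ e₁ (OnePoint.coe_ne_infty _)
    (hne _ he₁) (OnePoint.infty_ne_coe _)
  have htt := swap_sq hA ht1 ht0 he₁ hte
  have htrans : ∀ v w : V, v ≠ 0 → w ≠ 0 → ∃ h : H, act h v = w := by
    intro v w hv hw
    obtain ⟨g, g1, g0, gv⟩ := h3 ∞ ((0 : V) : OnePoint V) v (OnePoint.infty_ne_coe _)
      (OnePoint.infty_ne_coe _) (hne _ hv) ∞ ((0 : V) : OnePoint V) w (OnePoint.infty_ne_coe _)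
      (OnePoint.infty_ne_coe _) (hne _ hw)
    refine ⟨⟨g, (hA.mem g).2 ⟨g1, g0⟩⟩, ?_⟩
    have := hA.lin ⟨g, (hA.mem g).2 ⟨g1, g0⟩⟩ v
    rw [gv] at this
    exact (OnePoint.coe_injective this).symm
  have ht : t ≠ 1 := fun h => by
    rw [h, map_one] at ht1
    exact OnePoint.infty_ne_coe _ ht1
  -- the swap fixes a single point
  have huniqfix : ∀ x : OnePoint V, ρ t x = x → x = e₁ := by
    intro x hx
    by_contra hxe
    haveI : Fintype V := Fintype.ofFinite V
    haveI : Fintype (OnePoint V) := inferInstanceAs (Fintype (Option V))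
    have hset : {y : OnePoint V | ρ t y = y} = {x, (e₁ : OnePoint V)} := by
      ext y
      constructor
      · intro hy
        by_contra hc
        simp only [Set.mem_insert_iff, Set.mem_singleton_iff, not_or] at hc
        exact ht (hA.three t x (e₁ : OnePoint V) y hxe (fun h => hc.2 h.symm) (fun h => hc.1 h.symm) hx hte hy)
      · rintro (rfl | rfl)
        · exact hx
        · exact hte
    have hp : IsPGroup 2 (Subgroup.zpowers (ρ t)) := by
      haveI : Fact (Nat.Prime 2) := ⟨Nat.prime_two⟩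
      refine IsPGroup.of_card (n := 1) ?_
      rw [Nat.card_zpowers, pow_one]
      exact orderOf_eq_prime (by rw [pow_two, ← map_mul, htt, map_one])
        (fun h => ht (hA.inj (h.trans (map_one ρ).symm)))
    haveI : Fact (Nat.Prime 2) := ⟨Nat.prime_two⟩
    have hmod := hp.card_modEq_card_fixedPoints (OnePoint V)
    have hF : Nat.card (MulAction.fixedPoints (Subgroup.zpowers (ρ t)) (OnePoint V)) = 2 := by
      rw [← Set.ncard_pair hxe, ← hset, ← Nat.card_coe_set_eq]
      refine Nat.card_congr (Equiv.subtypeEquivRight fun y => ⟨fun h => h ⟨ρ t, Subgroup.mem_zpowers _⟩, ?_⟩)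
      intro h
      rintro ⟨m, hm⟩
      exact MulAction.mem_stabilizer_iff.1 (Subgroup.zpowers_le.2 (MulAction.mem_stabilizer_iff.2
        (show ρ t • y = y from h)) hm)
    have hc1 : Nat.card (OnePoint V) = Nat.card V + 1 := Finite.card_option
    obtain ⟨i, hi⟩ := heven
    rw [hF, hc1] at hmod
    unfold Nat.ModEq at hmod
    omega
  let τ : H →* H :=
    { toFun := fun h => ⟨t * h * t, swap_mem hA ht1 ht0 he₁ hte h⟩
      map_one' := Subtype.ext (by simp [htt])
      map_mul' := fun a b => Subtype.ext (by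
        show t * ((a : G) * b) * t = t * a * t * (t * b * t)
        calc t * ((a : G) * b) * t = t * a * (t * t) * b * t := by rw [htt]; group
          _ = _ := by group) }
  have hτv : ∀ h : H, (τ h : G) = t * h * t := fun _ => rfl
  have hτ : ∀ h, τ (τ h) = h := fun h => Subtype.ext (by
    show t * (t * h * t) * t = (h : G)
    calc t * (t * (h : G) * t) * t = (t * t) * h * (t * t) := by group
      _ = h := by rw [htt]; group)
  have hfix : ∀ h : H, τ h = h → h = 1 := by
    intro h e
    have e' : t * (h : G) = h * t := by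
      have e'' : t * (h : G) * t = h := congrArg Subtype.val e
      calc t * (h : G) = t * h * (t * t) := by rw [htt, mul_one]
        _ = h * t := by rw [← mul_assoc, e'']
    have hx : ρ t (ρ (h : G) (e₁ : OnePoint V)) = ρ (h : G) (e₁ : OnePoint V) := by
      rw [← Equiv.Perm.mul_apply, ← map_mul, e', map_mul, Equiv.Perm.mul_apply, hte]
    have := huniqfix _ hx
    rw [hA.lin] at this
    exact hA.free he₁ (OnePoint.coe_injective this)
  have hinv : ∀ h : H, τ h = h⁻¹ := fun h =>
    inverts_of_fixed τ hτ (O := ⊤) (fun o _ => Subgroup.mem_top _)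
      (fun o _ e => hfix o e) (Subgroup.mem_top h)
  have hcomm : ∀ a b : H, a * b = b * a := fun a b => by
    have e := map_mul τ a b
    rw [hinv, hinv, hinv, mul_inv_rev] at e
    have := congrArg (fun x => x⁻¹) e
    simpa using this
  -- the field
  set S : Set (AddMonoid.End V) := Set.range act
  have hS : ∀ x ∈ S, ∀ y ∈ S, x * y = y * x := by
    rintro _ ⟨h, rfl⟩ _ ⟨k, rfl⟩
    rw [← map_mul, ← map_mul, hcomm]
  have hirr : ∀ W : AddSubgroup V, (∀ h : H, ∀ x ∈ W, act h x ∈ W) → W = ⊥ ∨ W = ⊤ := by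
    intro W hW
    by_cases hb : W = ⊥
    · exact Or.inl hb
    obtain ⟨x, hxW, hx⟩ : ∃ x ∈ W, x ≠ 0 := by
      by_contra hc
      push Not at hc
      exact hb ((AddSubgroup.eq_bot_iff_forall _).2 hc)
    refine Or.inr ((AddSubgroup.eq_top_iff' _).2 fun v => ?_)
    by_cases hv : v = 0
    · rw [hv]; exact W.zero_mem
    obtain ⟨h, rfl⟩ := htrans x v hx hv
    exact hW h x hxW
  letI : CommRing (Subring.closure S) := Subring.closureCommRingOfComm hS
  have hbij : ∀ r ∈ Subring.closure S, r ≠ 0 → Function.Bijective (r : V → V) := fun r hr hr0 =>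
    bijective_of_mem_closure S S hS (fun W hW => hirr W fun h x hx => hW _ ⟨h, rfl⟩ x hx) hr hr0
  let ev : Subring.closure S →+ V :=
    { toFun := fun r => (r : AddMonoid.End V) e₁
      map_zero' := rfl
      map_add' := fun _ _ => rfl }
  have hev : Function.Bijective ev := by
    refine ⟨?_, fun v => ?_⟩
    · rw [injective_iff_map_eq_zero]
      intro r hr
      by_contra hr0
      exact he₁ ((hbij r r.2 (fun h => hr0 (Subtype.ext h))).1
        (hr.trans (map_zero (r : AddMonoid.End V)).symm))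
    · by_cases hv : v = 0
      · exact ⟨0, by rw [map_zero, hv]⟩
      · obtain ⟨h, hh⟩ := htrans e₁ v he₁ hv
        exact ⟨⟨act h, Subring.subset_closure ⟨h, rfl⟩⟩, hh⟩
  haveI : Finite (Subring.closure S) := Finite.of_injective _ hev.1
  haveI : Nontrivial (Subring.closure S) :=
    ⟨⟨0, 1, fun h => he₁ ((congrArg ev h).symm.trans (map_zero ev))⟩⟩
  haveI : NoZeroDivisors (Subring.closure S) := ⟨fun {r s} h => by
    by_contra hc
    push Not at hc
    refine hc.2 (Subtype.ext (AddMonoidHom.ext fun v => ?_))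
    exact (hbij r r.2 (fun e => hc.1 (Subtype.ext e))).1
      ((congrArg (fun x : Subring.closure S => (x : AddMonoid.End V) v) h).trans (map_zero _).symm)⟩
  haveI : IsDomain (Subring.closure S) := NoZeroDivisors.to_isDomain _
  haveI := Fintype.ofFinite (Subring.closure S)
  letI : Field (Subring.closure S) := Fintype.fieldOfDomain _
  let E : Subring.closure S ≃+ V := AddEquiv.ofBijective ev hev
  have hE1 : E 1 = e₁ := rfl
  let χ : H →* Subring.closure S :=
    { toFun := fun h => ⟨act h, Subring.subset_closure ⟨h, rfl⟩⟩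
      map_one' := Subtype.ext (map_one act)
      map_mul' := fun h k => Subtype.ext (map_mul act h k) }
  have hχ : ∀ (h : H) (r : Subring.closure S), act h (E r) = E (χ h * r) := fun _ _ => rfl
  have hχinj : Function.Injective χ := fun h k e => hA.act_injective (congrArg Subtype.val e)
  have hχ0 : ∀ h, χ h ≠ 0 := fun h e => by
    have : χ h * χ h⁻¹ = 1 := by rw [← map_mul, mul_inv_cancel, map_one]
    rw [e, zero_mul] at this
    exact zero_ne_one this
  let Eo : OnePoint (Subring.closure S) ≃ OnePoint V := Equiv.optionCongr E.toEquiv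
  have hEi : Eo ∞ = ∞ := rfl
  have hEc : ∀ x : Subring.closure S, Eo x = ((E x : V) : OnePoint V) := fun x => rfl
  let ρ' : G →* Equiv.Perm (OnePoint (Subring.closure S)) :=
    (Equiv.permCongrHom Eo.symm).toMonoidHom.comp ρ
  have hρ : ∀ g x y, ρ' g x = y ↔ ρ g (Eo x) = Eo y := fun g x y => by
    show Eo.symm (ρ g (Eo x)) = y ↔ _
    exact Eo.symm_apply_eq
  have hiff : ∀ (g : G) (x y : Subring.closure S),
      ρ' g x = y ↔ ρ g ((E x : V) : OnePoint V) = ((E y : V) : OnePoint V) := fun g x y => by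
    rw [hρ, hEc, hEc]
  have hh : ∀ (h : H) (x : Subring.closure S), ρ' h x = ((χ h * x : Subring.closure S) : OnePoint _) :=
    fun h x => by rw [hiff, hA.lin, hχ]
  have hexχ : ∀ x : Subring.closure S, x ≠ 0 → ∃ h, χ h = x := fun x hx => by
    obtain ⟨h, hh⟩ := htrans e₁ (E x) he₁ fun e => hx (E.injective (e.trans (map_zero E).symm))
    rw [← hE1, hχ, mul_one] at hh
    exact ⟨h, E.injective hh⟩
  choose hOf hOfs using hexχ
  let T : Subring.closure S → Subring.closure S := fun x =>
    if hx : x = 0 then 0 else χ (τ (hOf x hx))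
  have hT : ∀ h, T (χ h) = χ (τ h) := fun h => by
    show dite _ _ _ = _
    rw [dif_neg (hχ0 h), hχinj (hOfs (χ h) (hχ0 h))]
  have ht1' : ρ' t ∞ = ((0 : Subring.closure S) : OnePoint _) := by
    rw [hρ, hEi, hEc, map_zero]; exact ht1
  have ht0' : ρ' t ((0 : Subring.closure S) : OnePoint _) = ∞ := by
    rw [hρ, hEi, hEc, map_zero]; exact ht0
  have htT : ∀ x : Subring.closure S, x ≠ 0 → ρ' t x = ((T x : Subring.closure S) : OnePoint _) := by
    intro x hx
    obtain ⟨h, rfl⟩ : ∃ h, χ h = x := ⟨_, hOfs x hx⟩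
    rw [hT, hiff, show E (χ h) = act h e₁ by rw [← hE1, hχ, mul_one],
      show E (χ (τ h)) = act (τ h) e₁ by rw [← hE1, hχ, mul_one], ← hA.lin, ← hA.lin, hτv,
      ← Equiv.Perm.mul_apply, ← map_mul, map_mul ρ (t * h) t, Equiv.Perm.mul_apply (ρ (t * h)), hte]
  have hinvT : ∀ x : Subring.closure S, x ≠ 0 → T x = x⁻¹ := by
    intro x hx
    rw [← hOfs x hx, hT, hinv]
    refine eq_inv_of_mul_eq_one_left ?_
    rw [← map_mul, inv_mul_cancel, map_one]
  have hthree : ∀ a b c : OnePoint (Subring.closure S), a ≠ b → a ≠ c → b ≠ c →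
      ∃ g, ρ' g ∞ = a ∧ ρ' g ((0 : Subring.closure S) : OnePoint _) = b ∧
        ρ' g ((1 : Subring.closure S) : OnePoint _) = c := by
    intro a b c hab hac hbc
    obtain ⟨g, g1, g2, g3⟩ := h3 (Eo ∞) (Eo ((0 : Subring.closure S) : OnePoint _))
      (Eo ((1 : Subring.closure S) : OnePoint _))
      (Eo.injective.ne (OnePoint.infty_ne_coe _))
      (Eo.injective.ne (OnePoint.infty_ne_coe _))
      (Eo.injective.ne fun e => zero_ne_one (OnePoint.coe_injective e))
      (Eo a) (Eo b) (Eo c) (Eo.injective.ne hab) (Eo.injective.ne hac) (Eo.injective.ne hbc)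
    exact ⟨g, (hρ _ _ _).2 g1, (hρ _ _ _).2 g2, (hρ _ _ _).2 g3⟩
  have hiso := nonempty_pgl (R := Subring.closure S) ρ'
    (fun g g' e => hA.inj ((Equiv.permCongrHom Eo.symm).injective e)) ?_ t ht1' ht0'
    (fun x hx => by rw [htT x hx, hinvT x hx]) hthree ?_
  · obtain ⟨iso⟩ := hiso
    obtain ⟨q, hq, n, hn, hqn⟩ := FiniteField.card' (Subring.closure S)
    haveI := Fact.mk hn
    haveI : Fintype (GaloisField q n) := Fintype.ofFinite _
    refine ⟨GaloisField q n, inferInstance, inferInstance, ?_, ⟨iso.trans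
      (PSLCard.pglEquivOfCard ?_)⟩⟩
    · rw [← Nat.card_eq_fintype_card, GaloisField.card q n n.ne_zero, ← hqn,
        ← Nat.card_eq_fintype_card]
      exact Nat.card_congr E.toEquiv
    · rw [GaloisField.card q n n.ne_zero, ← hqn, Nat.card_eq_fintype_card]
  · intro g hg
    obtain ⟨h, v, hv⟩ := hA.stab g ((hρ _ _ _).1 hg)
    refine ⟨χ h, hχ0 h, E.symm v, fun x => ?_⟩
    rw [hiff, hv, hχ, map_add, E.apply_symm_apply]
  · intro c
    obtain ⟨g, g1, g2⟩ := hA.tr (E c)
    exact ⟨g, (hρ _ _ _).2 g1, fun x => by rw [hiff, g2, map_add]⟩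




/-- A sharply triply transitive permutation group of degree `2^f + 1` is isomorphic to the projective general linear group of degree 2 over the field with `2^f` elements. -/
theorem result {α : Type*} [Fintype α] [DecidableEq α] {f : ℕ} (hf : 1 ≤ f) (hα : Fintype.card α = 2 ^ f + 1) (G : Subgroup (Equiv.Perm α)) (h3 : MulAction.IsMultiplyPretransitive G α 3) (hsharp : ∀ x : Fin 3 ↪ α, MulAction.stabilizer G x = ⊥) : ∃ (F : Type) (_ : Field F) (_ : Fintype F), Fintype.card F = 2 ^ f ∧ Nonempty (G ≃* Matrix.ProjGenLinGroup (Fin 2) F) := by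
  classical
  haveI : Fact (Nat.Prime 2) := ⟨Nat.prime_two⟩
  rcases hf.lt_or_eq with hf2 | rfl
  · have h4 : 4 ≤ Fintype.card α := by
      have : 2 ^ 2 ≤ 2 ^ f := Nat.pow_le_pow_right (by norm_num) hf2
      rw [hα]; omega
    obtain ⟨a, b, hab⟩ := Fintype.exists_pair_of_one_lt_card (by omega : 1 < Fintype.card α)
    obtain ⟨p, j, V, _, _, ρ, act, e, -, -, hA, -, -, -, -, -, hVn, -, hmove⟩ :=
      SharpThree28.setup G h3 hsharp h4 hab
    have hV : Nat.card V = 2 ^ f := by omega
    haveI : Nontrivial V := Finite.one_lt_card_iff_nontrivial.1 (by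
      rw [hV]; exact Nat.one_lt_pow (by omega) (by norm_num))
    obtain ⟨F, iF, iFt, hF, hiso⟩ := pgl_even hA hmove
      (by rw [hV]; exact Nat.even_pow.2 ⟨by norm_num, by omega⟩)
    exact ⟨F, iF, iFt, by rw [hF, hV], hiso⟩
  · refine ⟨ZMod 2, inferInstance, inferInstance, by rw [ZMod.card]; rfl, ?_⟩
    have hα3 : Fintype.card α = 3 := hα
    have htop : G = ⊤ := by
      refine (Subgroup.eq_top_iff' G).2 fun σ => ?_
      obtain ⟨a, b, c, hab, hac, hbc⟩ := Fintype.two_lt_card_iff.1 (by omega : 2 < Fintype.card α)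
      obtain ⟨g, g1, g2, g3⟩ := SharpThree28.move G h3 hab hac hbc (σ.injective.ne hab)
        (σ.injective.ne hac) (σ.injective.ne hbc)
      have huniv : ({a, b, c} : Finset α) = Finset.univ := Finset.eq_univ_of_card _ (by
        rw [Finset.card_insert_of_notMem (by simp [hab, hac]), Finset.card_pair hbc, hα3])
      have : σ = (g : Equiv.Perm α) := Equiv.ext fun x => by
        have := Finset.mem_univ x
        rw [← huniv] at this
        simp only [Finset.mem_insert, Finset.mem_singleton] at this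
        rcases this with rfl | rfl | rfl
        · exact g1.symm
        · exact g2.symm
        · exact g3.symm
      exact this ▸ g.2
    let ψ : Matrix.ProjGenLinGroup (Fin 2) (ZMod 2) →* Equiv.Perm (OnePoint (ZMod 2)) :=
      MulAction.toPermHom (Matrix.ProjGenLinGroup (Fin 2) (ZMod 2)) (OnePoint (ZMod 2))
    have hne : ((0 : ZMod 2) : OnePoint (ZMod 2)) ≠ ((1 : ZMod 2) : OnePoint (ZMod 2)) := fun h =>
      zero_ne_one (OnePoint.coe_injective h)
    have hψinj : Function.Injective ψ := by
      intro A B e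
      have hx : ∀ x : OnePoint (ZMod 2), (A⁻¹ * B) • x = x := fun x => by
        rw [mul_smul, inv_smul_eq_iff]
        exact (DFunLike.congr_fun e x).symm
      exact inv_mul_eq_one.1 (DicksonLine.eq_one_of_three (OnePoint.infty_ne_coe (0 : ZMod 2))
        (OnePoint.infty_ne_coe (1 : ZMod 2)) hne (hx _) (hx _) (hx _))
    haveI : Fintype (OnePoint (ZMod 2)) := inferInstanceAs (Fintype (Option (ZMod 2)))
    have hc3 : Fintype.card (OnePoint (ZMod 2)) = 3 := by
      rw [← Nat.card_eq_fintype_card]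
      exact Finite.card_option.trans (by rw [Nat.card_zmod])
    have hbij : Function.Bijective ψ := hψinj.bijective_of_nat_card_le (by
      rw [Nat.card_perm, Nat.card_eq_fintype_card, hc3,
        Cfsg.Agent.PSLCard.card_PGL2, Nat.card_zmod]
      decide)
    exact ⟨((MulEquiv.subgroupCongr htop).trans Subgroup.topEquiv).trans
      (((Fintype.equivOfCardEq (hα3.trans hc3.symm)).permCongrHom).trans (MulEquiv.ofBijective ψ hbij).symm)⟩

end Cfsg.Agent.S0727
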