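import Cfsg.Statements.S0344
import Cfsg.Agent.Lib.ZassenhausRecognition
-- import your own Cfsg.Agent.* helpers here

set_option autoImplicit false
open Cfsg

namespace Cfsg.Agent.S0344

/-- A finite simple Zassenhaus group with a two-point stabiliser of even order is isomorphic to `PSL₂(F)` for a finite
field `F` with more than three elements. -/
theorem result {G Ω : Type*} [Group G] [Finite G] [MulAction G Ω] [Finite Ω]
    (hZ : Cfsg.IsZassenhausGroup G Ω) [IsSimpleGroup G]
    {a b : Ω} (hab : a ≠ b) (heven : Even (Nat.card ↥(MulAction.stabilizer G a ⊓ MulAction.stabilizer G b))) :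
    ∃ (F : Type) (_ : Field F) (_ : Fintype F), 3 < Fintype.card F ∧ Nonempty (G ≃* Matrix.ProjectiveSpecialLinearGroup (Fin 2) F) := by
  classical
  haveI := Fintype.ofFinite Ω
  obtain ⟨V, hVg, hVf, hVn, ρ, act, e, p, f, hA, -, -, -, -, hp, hp2, hVp, hcases⟩ :=
    Zassenhaus.even_coordinates hZ hab heven
  have hV : 1 < Nat.card V := Finite.one_lt_card
  obtain ⟨i, hi⟩ := hA.odd_card heven
  have hG2 : 2 < Nat.card G := by
    rw [hA.card_group heven]
    have hH : 1 ≤ Nat.card (Zassenhaus.two G a b) := Nat.card_pos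
    calc 2 < (2 + 1) * 2 := by norm_num
      _ ≤ (Nat.card V + 1) * Nat.card V := Nat.mul_le_mul (by omega) hV
      _ ≤ Nat.card (Zassenhaus.two G a b) * ((Nat.card V + 1) * Nat.card V) :=
          Nat.le_mul_of_pos_left _ hH
  have hG : ∀ f : G →* ℤˣ, ∀ g, f g = 1 := Zassenhaus.hom_units_int_eq_one hG2
  have hnf := hA.noFree_of_no_sign heven hG
  rcases hcases with hc | hc
  · exact (hA.sharp_false heven hnf hc hG).elim
  · obtain ⟨F, hF, hFf, hFc, hiso⟩ := hA.half_psl2 heven hnf hc
    refine ⟨F, hF, hFf, ?_, hiso⟩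
    obtain ⟨j, hj⟩ : Even (Nat.card (Zassenhaus.two G a b)) := heven
    have hH : 1 ≤ Nat.card (Zassenhaus.two G a b) := Nat.card_pos
    omega

end Cfsg.Agent.S0344
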