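import Cfsg.Statements.S0345
import Cfsg.Agent.Lib.FeitSimple
import Cfsg.Agent.Lib.ZassenhausCyclicTorus
-- import your own Cfsg.Agent.* helpers here

set_option autoImplicit false
open Cfsg

namespace Cfsg.Agent.S0345

/-- In a finite simple Zassenhaus group the stabiliser `H` of two points `a ≠ b` is cyclic, and some involution
interchanging `a` and `b` inverts every element of `H`. -/
theorem result {G Ω : Type*} [Group G] [Finite G] [MulAction G Ω] [Finite Ω]
    (hZ : Cfsg.IsZassenhausGroup G Ω) [IsSimpleGroup G]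
    {a b : Ω} (hab : a ≠ b) :
    IsCyclic ↥(MulAction.stabilizer G a ⊓ MulAction.stabilizer G b) ∧
      ∃ v : G, orderOf v = 2 ∧ v • a = b ∧ v • b = a ∧ ∀ h ∈ MulAction.stabilizer G a ⊓ MulAction.stabilizer G b, v * h * v⁻¹ = h⁻¹ := by
  classical
  haveI := Fintype.ofFinite Ω
  rcases Nat.even_or_odd (Nat.card (Zassenhaus.two G a b)) with heven | hodd
  · obtain ⟨V, hVg, hVf, hVn, ρ, act, e, p, f, hA, he, hea, heb, -, hp, hp2, hVp, hcases⟩ :=
      Zassenhaus.even_coordinates hZ hab heven
    have hV : 1 < Nat.card V := Finite.one_lt_card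
    have hG2 : 2 < Nat.card G := by
      rw [hA.card_group heven]
      have hH : 1 ≤ Nat.card (Zassenhaus.two G a b) := Nat.card_pos
      calc 2 < (2 + 1) * 2 := by norm_num
        _ ≤ (Nat.card V + 1) * Nat.card V := Nat.mul_le_mul (by omega) hV
        _ ≤ Nat.card (Zassenhaus.two G a b) * ((Nat.card V + 1) * Nat.card V) :=
            Nat.le_mul_of_pos_left _ hH
    have hG : ∀ f : G →* ℤˣ, ∀ g, f g = 1 := Zassenhaus.hom_units_int_eq_one hG2
    have hnf := hA.noFree_of_no_sign heven hG
    rcases hcases with hc | hc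
    · exact (hA.sharp_false heven hnf hc hG).elim
    · obtain ⟨hcyc, t, ht, ht1, htinf, hinv⟩ := hA.half_cyclic heven hnf hc
      have hta : t • a = b := by rw [← hea, ← he, htinf, heb]
      exact ⟨hcyc, t, orderOf_eq_prime (by rw [pow_two]; exact ht) ht1, hta,
        by rw [← hta, ← mul_smul, ht, one_smul], hinv⟩
  · obtain ⟨hcyc, -, hinv⟩ := Feit.simple_cyclic_inverted hZ hab hodd
    obtain ⟨s, hs, hs1, hsa, hsb⟩ := Zassenhaus.exists_involution_swap hZ hab
    exact ⟨hcyc, s, orderOf_eq_prime (by rw [pow_two]; exact hs) hs1, hsa, hsb,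
      hinv s hsa hsb⟩

end Cfsg.Agent.S0345
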