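import Cfsg.Statements.S0340
import Cfsg.Agent.Lib.ZassenhausClassify27
import Cfsg.Agent.S0344
import Cfsg.Agent.S0347

set_option autoImplicit false
open Cfsg

namespace Cfsg.Agent.S0340

/-- Classification of Zassenhaus groups, simple case, order-level form: a finite simple Zassenhaus group is
isomorphic to `PSL₂(F)` for some finite field `F` or is simple of Suzuki order. -/
theorem result {G Ω : Type*} [Group G] [Finite G] [MulAction G Ω]
    [Finite Ω] (hZ : Cfsg.IsZassenhausGroup G Ω) [IsSimpleGroup G] :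
    (∃ (F : Type) (_ : Field F) (_ : Fintype F), Nonempty (G ≃* Matrix.ProjectiveSpecialLinearGroup (Fin 2) F)) ∨ Cfsg.IsSuzuki G := by
  classical
  haveI := Fintype.ofFinite Ω
  obtain ⟨a, b, -, hab, -, -⟩ := Zassenhaus.exists_triple hZ
  rcases Nat.even_or_odd (Nat.card (Zassenhaus.two G a b)) with he | ho
  · obtain ⟨F, hF, hFf, -, hiso⟩ := Cfsg.Agent.S0344.result hZ hab he
    exact Or.inl ⟨F, hF, hFf, hiso⟩
  obtain ⟨K, hKa, hKcard, hKfix⟩ := Feit.exists_kernel_subgroup hZ hab
  rcases Feit.feit_inequality (Nat.card G) rfl hZ hab (Nat.card K) _ hKcard.symm rfl ho K hKa rfl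
      hKfix with h | ⟨hP, hna, -⟩
  · exact Or.inl (ZassenhausClassify27.psl2_of_large hZ hab ho hKa hKcard hKfix h)
  · refine Or.inr (Cfsg.Agent.S0347.result hZ a K hKa
      ⟨fun k hk g => Feit.kernel_conj_mem hZ hKa hKcard hKfix g.2 hk⟩ hP hna ?_)
    intro y z hy hz
    obtain ⟨k, hk, e⟩ := Feit.kernel_transitive hZ hKa hKcard hKfix hy hz
    refine ⟨⟨k, hk⟩, e, fun u hu => Subtype.ext (inv_mul_eq_one.1 (Feit.kernel_free hKa hKfix
      (K.mul_mem (K.inv_mem hk) u.2) hy ?_)).symm⟩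
    rw [mul_smul, show (u : G) • y = z from hu, ← e, inv_smul_smul]

end Cfsg.Agent.S0340
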