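import Cfsg.Statements.S4700
import Cfsg.Agent.Lib.BrauerForm63Recognition
import Cfsg.Agent.Lib.BrauerForm63Self
import Cfsg.Agent.Lib.HallCore
import Cfsg.Agent.Lib.PSLCard

set_option autoImplicit false
open Cfsg

namespace Cfsg.Agent.S4700
open BrauerForm63 BrauerReynolds7

/-- Brauer's theorem for a perfect group without non-trivial normal `p'`-subgroups. -/
theorem concl_of_not_form {H : Type*} [Group H] [Finite H] (hperf : commutator H = ⊤) {p : ℕ}
    [Fact p.Prime] (P : Sylow p H) (hP : Nat.card P = p)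
    (hcore : ∀ K : Subgroup H, K.Normal → ¬ p ∣ Nat.card K → K = ⊥) {n : ℕ}
    (hn : Nat.card (Sylow p H) = 1 + n * p) (hf : ¬ Form p n) : Concl H p := by
  haveI := Fintype.ofFinite H
  have hp := (Fact.out : p.Prime)
  have hN := noForm_of_not_form hp hf
  obtain ⟨e, he⟩ : ∃ e, (Subgroup.centralizer ((P : Subgroup H) : Set H)).relIndex
      (Subgroup.normalizer ((P : Subgroup H) : Set H)) = e := ⟨_, rfl⟩
  have he2 := two_le_relIndex hperf P hP he
  have hn1 : 1 ≤ n := by
    by_contra hc
    have h0 : n = 0 := by omega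
    rw [h0, zero_mul, add_zero, P.card_eq_index_normalizer, Subgroup.index_eq_one] at hn
    haveI hPn : (P : Subgroup H).Normal := Subgroup.normalizer_eq_top_iff.1 hn
    haveI : IsCyclic (P : Subgroup H) := isCyclic_of_prime_card (p := p) hP
    haveI : IsCyclic (MulAut (P : Subgroup H)) := by
      have hPc : Nat.card (P : Subgroup H) = p := hP
      haveI : IsCyclic (ZMod (Nat.card (P : Subgroup H)))ˣ := by rw [hPc]; infer_instance
      exact isCyclic_of_surjective (IsCyclic.mulAutMulEquiv (P : Subgroup H)).symm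
        (IsCyclic.mulAutMulEquiv (P : Subgroup H)).symm.surjective
    letI : CommGroup (MulAut (P : Subgroup H)) := IsCyclic.commGroup
    have hcent : ∀ g : H, g ∈ Subgroup.centralizer ((P : Subgroup H) : Set H) := by
      intro g
      rw [Subgroup.mem_centralizer_iff]
      intro y hy
      have h1 := perfect_hom_eq_one hperf
        (MulAut.conjNormal (H := (P : Subgroup H)) : H →* MulAut (P : Subgroup H)) g
      have h2 := congrArg Subtype.val (DFunLike.congr_fun h1 (⟨y, hy⟩ : (P : Subgroup H)))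
      rw [MulAut.conjNormal_apply, MulAut.one_apply, mul_inv_eq_iff_eq_mul] at h2
      exact h2.symm
    rw [Subgroup.relIndex_eq_one.2 (fun g _ => hcent g)] at he
    omega
  exact BrauerForm63.recognize hperf P hP (self_centralizing hperf hP hN hcore he hn hn1 he2) hn hN

/-- The centre of `SL₂(2 ^ m)` is trivial. -/
theorem psl_equiv_sl {F : Type} [Field F] [Fintype F] {m : ℕ} (hm : m ≠ 0)
    (hc : Fintype.card F = 2 ^ m) :
    Nonempty (Matrix.ProjectiveSpecialLinearGroup (Fin 2) F ≃*
      Matrix.SpecialLinearGroup (Fin 2) F) := by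
  classical
  have hbot : Subgroup.center (Matrix.SpecialLinearGroup (Fin 2) F) = ⊥ := by
    refine Subgroup.card_eq_one.1 ?_
    have h1 := Subgroup.card_eq_card_quotient_mul_card_subgroup
      (Subgroup.center (Matrix.SpecialLinearGroup (Fin 2) F))
    have h4 := PSLCard.card_PSL2_mul (F := F)
    have hg : Nat.gcd 2 (Nat.card F - 1) = 1 := by
      rw [Nat.card_eq_fintype_card, hc]
      refine (Nat.prime_two.coprime_iff_not_dvd).2 fun h2 => ?_
      have h5 : 2 ∣ 2 ^ m := dvd_pow_self 2 hm
      have h6 : 1 ≤ 2 ^ m := Nat.one_le_two_pow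
      omega
    rw [hg, one_mul] at h4
    rw [PSLCard.card_SL2] at h1
    exact Nat.eq_of_mul_eq_mul_left (Nat.card_pos (α := Matrix.ProjectiveSpecialLinearGroup (Fin 2) F))
      (by rw [mul_one]; exact (h4.trans h1).symm)
  exact ⟨(QuotientGroup.quotientMulEquivOfEq hbot).trans QuotientGroup.quotientBot⟩


/-- Let G be a finite perfect group and p a prime such that a Sylow p-subgroup of G has order p, and write the number of Sylow p-subgroups as 1 + np. Let H = O_p'(G). Then either p > 3 and G/H is isomorphic to PSL(2, p); or p = 2^m + 1 > 3 and G/H is isomorphic to SL(2, 2^m); or n = (hup + u^2 + u + h)/(u + 1) for some positive integers h and u. -/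
theorem result {G : Type*} [Group G] [Finite G] (hperf : commutator G = ⊤) (p : ℕ) [Fact p.Prime] (P : Sylow p G) (hP : Nat.card P = p) (n : ℕ) (hn : Nat.card (Sylow p G) = 1 + n * p) : (∃ (F : Type) (_ : Field F) (_ : Fintype F), Fintype.card F = p ∧ 3 < p ∧ Nonempty (G ⧸ Cfsg.pPrimeCore p G ≃* Matrix.ProjectiveSpecialLinearGroup (Fin 2) F)) ∨ (∃ (m : ℕ) (F : Type) (_ : Field F) (_ : Fintype F), Fintype.card F = 2 ^ m ∧ p = 2 ^ m + 1 ∧ 3 < p ∧ Nonempty (G ⧸ Cfsg.pPrimeCore p G ≃* Matrix.SpecialLinearGroup (Fin 2) F)) ∨ (∃ h u : ℕ, 0 < h ∧ 0 < u ∧ n * (u + 1) = h * u * p + u ^ 2 + u + h) := by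
  classical
  have hp := (Fact.out : p.Prime)
  by_cases hform : BrauerForm63.Form p n
  · exact Or.inr (Or.inr hform)
  set K := Cfsg.pPrimeCore p G with hK
  haveI : K.Normal := by rw [hK]; infer_instance
  set π := QuotientGroup.mk' K with hπ
  have hsurj : Function.Surjective π := QuotientGroup.mk'_surjective K
  have hperf' : commutator (G ⧸ K) = ⊤ := by
    rw [commutator_def, ← Subgroup.map_top_of_surjective π hsurj, ← Subgroup.map_commutator,
      ← commutator_def, hperf, Subgroup.map_top_of_surjective π hsurj]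
  set P' : Sylow p (G ⧸ K) := P.mapSurjective hsurj
  have hPK : ¬ p ∣ Nat.card K := fun h =>
    hp.coprime_iff_not_dvd.1 (HallCore.coprime_card_pPrimeCore p G).symm h
  have hP' : Nat.card P' = p := by
    have hinj : Function.Injective (π.comp (P : Subgroup G).subtype) := by
      rw [← MonoidHom.ker_eq_bot_iff, eq_bot_iff]
      intro x hx
      have hxK : (x : G) ∈ K := (QuotientGroup.eq_one_iff (x : G)).1 hx
      have h1 := Subgroup.orderOf_dvd_natCard _ hxK
      have h2 := Subgroup.orderOf_dvd_natCard _ x.2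
      rw [show Nat.card (P : Subgroup G) = p from hP] at h2
      rcases (Nat.dvd_prime hp).1 h2 with h | h
      · exact Subtype.ext (orderOf_eq_one_iff.1 h)
      · exact absurd (h ▸ h1) hPK
    have h := Nat.card_congr (MonoidHom.ofInjective hinj).toEquiv
    rw [MonoidHom.range_comp, Subgroup.range_subtype] at h
    show Nat.card ((P : Subgroup G).map π) = p
    rw [← h]
    exact hP
  have hcore : ∀ L : Subgroup (G ⧸ K), L.Normal → ¬ p ∣ Nat.card L → L = ⊥ := by
    intro L hL hLp
    rw [eq_bot_iff, ← HallCore.pPrimeCore_quotient_self p G]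
    exact le_sSup ⟨hL, ((hp.coprime_iff_not_dvd).2 hLp).symm⟩
  have hmod : ∀ {H : Type _} [Group H] [Finite H], ∃ k, Nat.card (Sylow p H) = 1 + k * p := by
    intro H _ _
    have h1 : Nat.card (Sylow p H) % p = 1 :=
      Eq.trans (card_sylow_modEq_one p H) (Nat.mod_eq_of_lt hp.one_lt)
    refine ⟨Nat.card (Sylow p H) / p, ?_⟩
    have h2 := Nat.mod_add_div (Nat.card (Sylow p H)) p
    rw [h1, mul_comm] at h2
    exact h2.symm
  obtain ⟨n', hn'⟩ := hmod (H := G ⧸ K)
  have hdvd : Nat.card (Sylow p (G ⧸ K)) ∣ Nat.card (Sylow p G) := by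
    rw [P'.card_eq_index_normalizer, P.card_eq_index_normalizer,
      ← Subgroup.index_comap_of_surjective _ hsurj]
    refine Subgroup.index_dvd_of_le ?_
    exact (Subgroup.map_le_iff_le_comap.1 (Subgroup.le_normalizer_map π))
  have hform' : ¬ BrauerForm63.Form p n' := by
    intro hf
    obtain ⟨q, hq⟩ := hdvd
    rw [hn, hn'] at hq
    have hq1 : q % p = 1 := by
      have h1 := congrArg (· % p) hq
      simp only [Nat.add_mul_mod_self_right, Nat.mul_mod, Nat.one_mod_eq_one.2 hp.one_lt.ne',
        one_mul, Nat.mod_mod] at h1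
      exact h1.symm
    refine hform (BrauerForm63.form_lift hf (n₁ := q / p) ?_ hp.pos)
    rw [hq]
    congr 1
    conv_lhs => rw [← Nat.mod_add_div q p, hq1, mul_comm p]
  rcases concl_of_not_form hperf' P' hP' hcore hn' hform' with
    ⟨F, hF, hFf, hc, h3, he⟩ | ⟨m, F, hF, hFf, hc, hpm, h3, ⟨e⟩⟩
  · exact Or.inl ⟨F, hF, hFf, hc, h3, he⟩
  · letI := hF
    letI := hFf
    obtain ⟨e'⟩ := psl_equiv_sl (F := F) (m := m) (by rintro rfl; omega) hc
    exact Or.inr (Or.inl ⟨m, F, hF, hFf, hc, hpm, h3, ⟨e.trans e'⟩⟩)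

end Cfsg.Agent.S4700
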