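import Cfsg.Statements.S4034
import Mathlib
import Cfsg.Agent.S0143
import Cfsg.Agent.Lib.HallCore
import Cfsg.Agent.Lib.HallSolvable
import Cfsg.Agent.Lib.HallTheorem

set_option autoImplicit false
open Cfsg

namespace Cfsg.Agent.S4034

open Cfsg.Agent

universe u

/-- All `p`-regular class sizes are powers of `p`. -/
def RegPow (p : ℕ) (G : Type u) [Group G] : Prop :=
  ∀ x : G, (orderOf x).Coprime p → ∃ k : ℕ, (Subgroup.centralizer ({x} : Set G)).index = p ^ k

theorem ncard_class {G : Type u} [Group G] (x : G) :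
    (ConjClasses.mk x).carrier.ncard = (Subgroup.centralizer ({x} : Set G)).index := by
  have h2 := MulAction.index_stabilizer (ConjAct G) x
  rw [ConjAct.stabilizer_eq_centralizer] at h2
  rw [← ConjAct.orbit_eq_carrier_conjClasses, ← h2]
  rfl

theorem relIndex_dvd_index_normal {G : Type u} [Group G] [Finite G] (C N : Subgroup G) [N.Normal] :
    C.relIndex N ∣ C.index := by
  have h2 : N.relIndex (N ⊔ C) = N.relIndex C := Subgroup.relIndex_sup_left C N
  have e1 := Subgroup.relIndex_mul_relIndex ⊥ N (N ⊔ C) bot_le le_sup_left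
  have e2 := Subgroup.relIndex_mul_relIndex ⊥ C (N ⊔ C) bot_le le_sup_right
  have e3 := Subgroup.relIndex_mul_relIndex ⊥ (N ⊓ C) N bot_le inf_le_left
  have e4 := Subgroup.relIndex_mul_relIndex ⊥ (N ⊓ C) C bot_le inf_le_right
  simp only [Subgroup.relIndex_bot_left, Subgroup.inf_relIndex_left, Subgroup.inf_relIndex_right, h2] at e1 e2 e3 e4
  have hpos : 0 < Nat.card C := Nat.card_pos
  have h1 : C.relIndex N = C.relIndex (N ⊔ C) := by
    apply Nat.eq_of_mul_eq_mul_left hpos
    rw [e2, ← e1, ← e3, ← e4]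
    ring
  rw [h1, ← Subgroup.relIndex_mul_index (le_sup_right : C ≤ N ⊔ C)]
  exact dvd_mul_right _ _

theorem RegPow.to_normal {G : Type u} [Group G] [Finite G] {p : ℕ} (hp : p.Prime) (h : RegPow p G)
    (N : Subgroup G) [N.Normal] : RegPow p N := by
  intro x hx
  obtain ⟨k, hk⟩ := h (x : G) (by rwa [Subgroup.orderOf_coe])
  have e : (Subgroup.centralizer ({(x : G)} : Set G)).subgroupOf N =
      Subgroup.centralizer ({x} : Set N) := by
    ext y
    simp [Subgroup.mem_subgroupOf, Subgroup.mem_centralizer_singleton_iff, Subtype.ext_iff]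
  have hd : (Subgroup.centralizer ({x} : Set N)).index ∣ p ^ k := by
    rw [← e, ← hk]
    exact relIndex_dvd_index_normal _ N
  obtain ⟨i, -, hi⟩ := (Nat.dvd_prime_pow hp).mp hd
  exact ⟨i, hi⟩

theorem RegPow.to_quotient {G : Type u} [Group G] [Finite G] {p : ℕ} (hp : p.Prime) (h : RegPow p G)
    (N : Subgroup G) [N.Normal] : RegPow p (G ⧸ N) := by
  intro y hy
  obtain ⟨x, rfl⟩ := QuotientGroup.mk_surjective y
  obtain ⟨a, m, hm, hx⟩ := Nat.exists_eq_pow_mul_and_not_dvd (orderOf_pos x).ne' p hp.ne_one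
  have hcop : (p ^ a).Coprime m := Nat.Coprime.pow_left _ ((Nat.Prime.coprime_iff_not_dvd hp).mpr hm)
  have hym : orderOf (x : G ⧸ N) ∣ m := by
    have : orderOf (x : G ⧸ N) ∣ p ^ a * m := hx ▸ orderOf_map_dvd (QuotientGroup.mk' N) x
    exact (Nat.Coprime.pow_right a hy).dvd_of_dvd_mul_left this
  have hm0 : m ≠ 0 := by rintro rfl; exact hm (dvd_zero p)
  -- `x' = x ^ (p ^ a * t)` with `p ^ a * t ≡ 1 [mod m]`
  obtain ⟨t, ht⟩ : ∃ t : ℕ, p ^ a * t ≡ 1 [MOD m] := by
    rcases Nat.eq_or_lt_of_le (Nat.one_le_iff_ne_zero.mpr hm0) with h1 | h1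
    · exact ⟨0, h1 ▸ Nat.modEq_one⟩
    · obtain ⟨t, -, ht⟩ := Nat.exists_mul_mod_eq_one_of_coprime hcop h1
      exact ⟨t, by rw [Nat.ModEq, ht, Nat.mod_eq_of_lt h1]⟩
  have hord : (orderOf (x ^ (p ^ a * t))).Coprime p := by
    have hd : orderOf (x ^ (p ^ a * t)) ∣ m := by
      apply orderOf_dvd_of_pow_eq_one
      rw [← pow_mul, mul_right_comm, ← hx, pow_mul, pow_orderOf_eq_one, one_pow]
    exact Nat.Coprime.coprime_dvd_left hd (Nat.coprime_comm.mp ((Nat.Prime.coprime_iff_not_dvd hp).mpr hm))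
  have himg : ((x ^ (p ^ a * t) : G) : G ⧸ N) = (x : G ⧸ N) := by
    rw [QuotientGroup.mk_pow]
    conv_rhs => rw [← pow_one (x : G ⧸ N)]
    exact pow_eq_pow_iff_modEq.mpr (ht.of_dvd hym)
  obtain ⟨k, hk⟩ := h _ hord
  have hle : (Subgroup.centralizer ({x ^ (p ^ a * t)} : Set G)).map (QuotientGroup.mk' N) ≤
      Subgroup.centralizer ({(x : G ⧸ N)} : Set (G ⧸ N)) := by
    rintro _ ⟨c, hc, rfl⟩
    rw [Subgroup.mem_centralizer_singleton_iff] at *
    rw [QuotientGroup.mk'_apply, ← himg, ← QuotientGroup.mk_mul, ← QuotientGroup.mk_mul]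
    exact congrArg _ (Subgroup.mem_centralizer_singleton_iff.mp hc)
  have hd : (Subgroup.centralizer ({(x : G ⧸ N)} : Set (G ⧸ N))).index ∣ p ^ k :=
    (Subgroup.index_dvd_of_le hle).trans
      (hk ▸ Subgroup.index_map_dvd _ (QuotientGroup.mk'_surjective N))
  obtain ⟨i, -, hi⟩ := (Nat.dvd_prime_pow hp).mp hd
  exact ⟨i, hi⟩

theorem solvable_of_regPow {p : ℕ} (hp : p.Prime) : ∀ (n : ℕ) (G : Type u) [Group G] [Finite G],
    Nat.card G ≤ n → RegPow p G → Group.IsSolvable G := by
  intro n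
  induction n using Nat.strong_induction_on with
  | _ n ih =>
    intro G _ _ hn h
    haveI : Fact p.Prime := ⟨hp⟩
    rcases subsingleton_or_nontrivial G with hs | hs
    · infer_instance
    by_cases hN : ∃ N : Subgroup G, N.Normal ∧ N ≠ ⊥ ∧ N ≠ ⊤
    · obtain ⟨N, hNn, hNb, hNt⟩ := hN
      haveI := hNn
      have h1 : Group.IsSolvable N :=
        ih _ (lt_of_lt_of_le (HallSolvable.card_subgroup_lt hNt) hn) N le_rfl (h.to_normal hp N)
      have h2 : Group.IsSolvable (G ⧸ N) :=
        ih _ (lt_of_lt_of_le (HallSolvable.card_quotient_lt hNb) hn) (G ⧸ N) le_rfl (h.to_quotient hp N)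
      exact Group.isSolvable_of_ker_le_range N.subtype (QuotientGroup.mk' N) (by simp)
    · haveI : IsSimpleGroup G := ⟨fun N hNn => by
        by_contra hc
        push Not at hc
        exact hN ⟨N, hNn, hc⟩⟩
      by_cases hx : ∃ x : G, x ≠ 1 ∧ (orderOf x).Coprime p
      · obtain ⟨x, hx1, hxp⟩ := hx
        obtain ⟨k, hk⟩ := h x hxp
        have hprime := S0143.result p k hp x hx1 hk
        haveI : Fact (Nat.card G).Prime := ⟨hprime⟩
        haveI := isCyclic_of_prime_card (α := G) rfl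
        exact Group.isSolvable_of_comm fun a b => (IsCyclic.isMulCommutative.is_comm.comm a b)
      · push Not at hx
        have hpg : IsPGroup p G := by
          rw [IsPGroup.iff_card]
          refine ⟨_, Nat.eq_prime_pow_of_unique_prime_dvd Nat.card_pos.ne' fun {q} hq hd => ?_⟩
          by_contra hne
          haveI : Fact q.Prime := ⟨hq⟩
          obtain ⟨x, hxq⟩ := exists_prime_orderOf_dvd_card' (G := G) q hd
          refine hx x ?_ ?_
          · rintro rfl
            rw [orderOf_one] at hxq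
            exact hq.one_lt.ne hxq
          · rw [hxq]
            exact (Nat.coprime_primes hq hp).mpr hne
        haveI := hpg.isNilpotent
        infer_instance

/-- `p`-regular elements commute modulo the `p`-core. -/
theorem commutator_mem_pCore {p : ℕ} (hp : p.Prime) {G : Type u} [Group G] [Finite G]
    (h : RegPow p G) (a b : G) (ha : (orderOf a).Coprime p) (hb : (orderOf b).Coprime p) :
    a * b * a⁻¹ * b⁻¹ ∈ Cfsg.piCore {p} G := by
  haveI : Fact p.Prime := ⟨hp⟩
  haveI hn : (Cfsg.piCore {p} G).Normal := by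
    haveI := HallCore.piCore_characteristic {p} G
    infer_instance
  have hQ : RegPow p (G ⧸ Cfsg.piCore {p} G) := h.to_quotient hp _
  haveI := solvable_of_regPow hp _ (G ⧸ Cfsg.piCore {p} G) le_rfl hQ
  set Q := G ⧸ Cfsg.piCore {p} G with hQdef
  set K := Cfsg.piCore ({p}ᶜ : Set ℕ) Q with hK
  haveI hKn : K.Normal := by
    haveI := HallCore.piCore_characteristic ({p}ᶜ : Set ℕ) Q
    infer_instance
  have hKcard : ¬ p ∣ Nat.card K := fun hd => HallCore.piNat_card_piCore ({p}ᶜ : Set ℕ) Q p hp hd rfl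
  have hcent : ∀ y : Q, (orderOf y).Coprime p → y ∈ Subgroup.centralizer (K : Set Q) := by
    intro y hy
    obtain ⟨k, hk⟩ := hQ y hy
    have h1 : (Subgroup.centralizer ({y} : Set Q)).relIndex K = 1 := by
      refine Nat.eq_one_of_dvd_coprimes (a := p ^ k) (b := Nat.card K) ?_ ?_ ?_
      · exact Nat.Coprime.pow_left _ ((Nat.Prime.coprime_iff_not_dvd hp).mpr hKcard)
      · exact hk ▸ relIndex_dvd_index_normal _ K
      · exact Subgroup.index_dvd_card _
    rw [Subgroup.mem_centralizer_iff]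
    intro c hc
    exact Subgroup.mem_centralizer_singleton_iff.mp (Subgroup.relIndex_eq_one.mp h1 hc)
  have hle : Subgroup.centralizer (K : Set Q) ≤ K := by
    refine HallSolvable.centralizer_piCore_le (HallSolvable.isPiSeparable_of_solvable _) ?_
    rw [compl_compl]
    exact HallCore.piCore_quotient_self
  have ha' : (orderOf (a : Q)).Coprime p := Nat.Coprime.coprime_dvd_left (orderOf_map_dvd (QuotientGroup.mk' _) a) ha
  have hb' : (orderOf (b : Q)).Coprime p := Nat.Coprime.coprime_dvd_left (orderOf_map_dvd (QuotientGroup.mk' _) b) hb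
  have hc : (b : Q) * (a : Q) = (a : Q) * b :=
    Subgroup.mem_centralizer_iff.mp (hcent _ ha') _ (hle (hcent _ hb'))
  rw [← QuotientGroup.eq_one_iff]
  simp only [QuotientGroup.mk_mul, QuotientGroup.mk_inv]
  rw [← hc]
  group

/-- Every `p`-regular element is conjugate into an abelian `p`-complement. -/
theorem exists_conj_mem {p : ℕ} (hp : p.Prime) : ∀ (n : ℕ) (G : Type u) [Group G] [Finite G],
    Nat.card G ≤ n → ∀ (H : Subgroup G), IsMulCommutative H → (∃ k : ℕ, H.index = p ^ k) →
      ∀ x : G, (orderOf x).Coprime p → ∃ g : G, g * x * g⁻¹ ∈ H := by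
  intro n
  induction n using Nat.strong_induction_on with
  | _ n ih =>
    intro G _ _ hn H hcomm hidx x hx
    obtain ⟨k, hk⟩ := hidx
    by_cases hx1 : x = 1
    · exact ⟨1, by simp [hx1, one_mem]⟩
    obtain ⟨q, hq, hqd⟩ := Nat.exists_prime_and_dvd (mt orderOf_eq_one_iff.mp hx1)
    haveI : Fact q.Prime := ⟨hq⟩
    have hqp : q ≠ p := by
      rintro rfl
      exact hq.one_lt.ne' (Nat.dvd_one.mp (hx ▸ Nat.dvd_gcd hqd dvd_rfl))
    set y := x ^ (orderOf x / q) with hy
    have hyord : orderOf y = q := by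
      obtain ⟨c, hc⟩ := hqd
      rw [hy, hc, Nat.mul_div_cancel_left _ hq.pos,
        orderOf_pow_of_dvd (fun h0 => by
          rw [h0, mul_zero] at hc
          exact (orderOf_pos x).ne' hc) ⟨q, by rw [hc, mul_comm]⟩, hc,
        Nat.mul_div_cancel _ (Nat.pos_of_ne_zero fun h0 => by
          rw [h0, mul_zero] at hc
          exact (orderOf_pos x).ne' hc)]
    have hyp : IsPGroup q (Subgroup.zpowers y) := IsPGroup.of_card (n := 1) (by
      rw [Nat.card_zpowers, hyord, pow_one])
    have hnd : ¬ q ∣ Nat.card (G ⧸ H) := by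
      intro hd
      rw [← Subgroup.index, hk] at hd
      exact hqp ((Nat.prime_dvd_prime_iff_eq hq hp).mp (hq.dvd_of_dvd_pow hd))
    obtain ⟨c, hc⟩ := hyp.nonempty_fixed_point_of_prime_not_dvd_card (G ⧸ H) hnd
    obtain ⟨g, rfl⟩ := QuotientGroup.mk_surjective c
    have hgy : g⁻¹ * y * g ∈ H := by
      have := hc ⟨y, Subgroup.mem_zpowers y⟩
      have h2 : ((y * g : G) : G ⧸ H) = (g : G ⧸ H) := this
      rw [QuotientGroup.eq] at h2
      have h3 := inv_mem h2
      simpa [mul_assoc] using h3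
    set x' := g⁻¹ * x * g with hx'
    set y' := g⁻¹ * y * g with hy'
    have hxy : x' * y' = y' * x' := by
      have : Commute x y := Commute.pow_right (Commute.refl x) _
      calc x' * y' = g⁻¹ * (x * y) * g := by rw [hx', hy']; group
        _ = g⁻¹ * (y * x) * g := by rw [this.eq]
        _ = _ := by rw [hx', hy']; group
    have hx'ord : (orderOf x').Coprime p := by
      have : x' = MulAut.conj g⁻¹ x := by simp [hx']
      rwa [this, MulEquiv.orderOf_eq]
    have hy'1 : y' ≠ 1 := by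
      intro h0
      have : y = 1 := by
        have := congrArg (fun z => g * z * g⁻¹) h0
        simpa [hy', mul_assoc] using this
      rw [this, orderOf_one] at hyord
      exact hq.one_lt.ne hyord
    suffices hs : ∃ e : G, e * x' * e⁻¹ ∈ H by
      obtain ⟨e, he⟩ := hs
      refine ⟨e * g⁻¹, ?_⟩
      rw [hx'] at he
      simpa [mul_assoc] using he
    by_cases hC : Subgroup.centralizer ({y'} : Set G) = ⊤
    · -- `y'` is central
      have hyc : ∀ u : G, u * y' = y' * u := fun u =>
        Subgroup.mem_centralizer_singleton_iff.mp (hC ▸ Subgroup.mem_top u)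
      haveI hzn : (Subgroup.zpowers y').Normal := ⟨fun u hu d => by
        obtain ⟨i, rfl⟩ := Subgroup.mem_zpowers_iff.mp hu
        rw [((Commute.zpow_right (hyc d) i)).eq, mul_inv_cancel_right]
        exact Subgroup.zpow_mem _ (Subgroup.mem_zpowers _) i⟩
      have hne : Subgroup.zpowers y' ≠ ⊥ := by simpa using hy'1
      have hlt := lt_of_lt_of_le (HallSolvable.card_quotient_lt hne) hn
      have hzH : Subgroup.zpowers y' ≤ H := Subgroup.zpowers_le.mpr hgy
      obtain ⟨e, he⟩ := ih _ hlt (G ⧸ Subgroup.zpowers y') le_rfl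
        (H.map (QuotientGroup.mk' _)) inferInstance
        ⟨k, by rw [HallSolvable.index_map_mk'_of_le hzH, hk]⟩ (x' : G ⧸ Subgroup.zpowers y')
        (Nat.Coprime.coprime_dvd_left (orderOf_map_dvd (QuotientGroup.mk' _) x') hx'ord)
      obtain ⟨e, rfl⟩ := QuotientGroup.mk_surjective e
      refine ⟨e, ?_⟩
      have : e * x' * e⁻¹ ∈ (H.map (QuotientGroup.mk' (Subgroup.zpowers y'))).comap (QuotientGroup.mk' _) :=
        Subgroup.mem_comap.mpr he
      rwa [HallSolvable.comap_mk'_map_of_le hzH] at this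
    · set C := Subgroup.centralizer ({y'} : Set G) with hCdef
      have hHC : H ≤ C := fun u hu => Subgroup.mem_centralizer_singleton_iff.mpr
        (congrArg Subtype.val (hcomm.is_comm.comm (⟨u, hu⟩ : H) ⟨y', hgy⟩))
      have hxC : x' ∈ C := Subgroup.mem_centralizer_singleton_iff.mpr hxy
      have hidx' : ∃ j : ℕ, (H.subgroupOf C).index = p ^ j := by
        have hd : (H.subgroupOf C).index ∣ p ^ k := hk ▸ ⟨C.index, (Subgroup.relIndex_mul_index hHC).symm⟩
        obtain ⟨j, -, hj⟩ := (Nat.dvd_prime_pow hp).mp hd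
        exact ⟨j, hj⟩
      have hcomm' : IsMulCommutative (H.subgroupOf C) := ⟨⟨fun u v => by
        apply Subtype.ext; apply Subtype.ext
        have h := congrArg Subtype.val (hcomm.is_comm.comm (⟨_, u.2⟩ : H) ⟨_, v.2⟩)
        simpa using h⟩⟩
      obtain ⟨e, he⟩ := ih _ (lt_of_lt_of_le (HallSolvable.card_subgroup_lt hC) hn) C le_rfl
        (H.subgroupOf C) hcomm' hidx' ⟨x', hxC⟩ (by rwa [Subgroup.orderOf_mk])
      exact ⟨e, he⟩

/-- Let G be a finite group and p a prime. Every conjugacy class of p-regular elements of G (elements of order prime to p) has p-power size if and only if G has an abelian p-complement, i.e. an abelian subgroup of order prime to p and p-power index. -/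
theorem result {G : Type*} [Group G] [Finite G] {p : ℕ} (hp : p.Prime) :
    (∀ x : G, (orderOf x).Coprime p → ∃ k : ℕ, (ConjClasses.mk x).carrier.ncard = p ^ k) ↔
    (∃ H : Subgroup G, IsMulCommutative H ∧ ¬ p ∣ Nat.card H ∧ ∃ k : ℕ, H.index = p ^ k) := by
  haveI : Fact p.Prime := ⟨hp⟩
  simp only [ncard_class]
  constructor
  · intro h
    haveI := solvable_of_regPow hp _ G le_rfl h
    obtain ⟨H, hH⟩ := Cfsg.Agent.HallTheorem.exists_isPiHall_of_solvable (G := G) ({p}ᶜ : Set ℕ)
    have hpH : ¬ p ∣ Nat.card H := fun hd => hH.1 p hp hd rfl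
    refine ⟨H, ⟨⟨fun a b => ?_⟩⟩, hpH, ?_⟩
    · have hreg : ∀ c : H, (orderOf (c : G)).Coprime p := fun c => by
        refine Nat.Coprime.coprime_dvd_left ?_ (Nat.coprime_comm.mp ((Nat.Prime.coprime_iff_not_dvd hp).mpr hpH))
        rw [Subgroup.orderOf_coe]
        exact orderOf_dvd_natCard c
      have h1 := commutator_mem_pCore hp h (a : G) b (hreg a) (hreg b)
      have h2 : (a : G) * b * (a : G)⁻¹ * (b : G)⁻¹ ∈ H :=
        mul_mem (mul_mem (mul_mem a.2 b.2) (inv_mem a.2)) (inv_mem b.2)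
      have hco : (Nat.card (Cfsg.piCore {p} G)).Coprime (Nat.card H) := by
        refine Nat.coprime_of_dvd fun r hr h1 h2 => ?_
        have := Cfsg.Agent.HallCore.piNat_card_piCore {p} G r hr h1
        exact hH.1 r hr h2 this
      have hd : Disjoint (Cfsg.piCore {p} G) H := by
        rw [disjoint_iff]
        exact Subgroup.eq_bot_of_card_eq _ (Nat.eq_one_of_dvd_coprimes hco
          (Subgroup.card_dvd_of_le inf_le_left) (Subgroup.card_dvd_of_le inf_le_right))
      have h3 := Subgroup.disjoint_def.mp hd h1 h2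
      rw [mul_inv_eq_one, mul_inv_eq_iff_eq_mul] at h3
      exact Subtype.ext h3
    · refine ⟨_, Nat.eq_prime_pow_of_unique_prime_dvd Subgroup.index_ne_zero_of_finite fun {q} hq hd => ?_⟩
      by_contra hne
      exact hH.2 q hq hne hd
  · rintro ⟨H, hcomm, -, k, hk⟩ x hx
    obtain ⟨g, hg⟩ := exists_conj_mem hp _ G le_rfl H hcomm ⟨k, hk⟩ x hx
    have hle : H.map (MulAut.conj g⁻¹).toMonoidHom ≤ Subgroup.centralizer ({x} : Set G) := by
      rintro _ ⟨u, hu, rfl⟩
      rw [Subgroup.mem_centralizer_singleton_iff]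
      have := congrArg Subtype.val (hcomm.is_comm.comm (⟨u, hu⟩ : H) ⟨_, hg⟩)
      simp only [Subgroup.coe_mul] at this
      simp only [MulEquiv.coe_toMonoidHom, MulAut.conj_apply, inv_inv]
      calc g⁻¹ * u * g * x = g⁻¹ * (u * (g * x * g⁻¹)) * g := by group
        _ = g⁻¹ * (g * x * g⁻¹ * u) * g := by rw [this]
        _ = _ := by group
    have hd : (Subgroup.centralizer ({x} : Set G)).index ∣ p ^ k := by
      refine (Subgroup.index_dvd_of_le hle).trans (dvd_of_eq ?_)
      rw [← hk]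
      exact Subgroup.index_map_equiv H (MulAut.conj g⁻¹)
    obtain ⟨i, -, hi⟩ := (Nat.dvd_prime_pow hp).mp hd
    exact ⟨i, hi⟩

end Cfsg.Agent.S4034
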