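import Cfsg.Statements.S4035
import Mathlib

set_option autoImplicit false
open Cfsg

namespace Cfsg.Agent.S4035

open scoped Pointwise

/-- Let G be a finite group and p a prime such that p divides the size of no conjugacy class of p-regular elements (elements of order prime to p). Then G is the internal direct product of a Sylow p-subgroup P and a normal subgroup H of order prime to p: P is normal, P ⊓ H = 1 and PH = G. -/
theorem result {G : Type*} [Group G] [Finite G] {p : ℕ} [Fact p.Prime]
    (h : ∀ x : G, (orderOf x).Coprime p → ¬ p ∣ (ConjClasses.mk x).carrier.ncard) (P : Sylow p G) :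
    (P : Subgroup G).Normal ∧ ∃ H : Subgroup G, H.Normal ∧ ¬ p ∣ Nat.card H ∧
      (P : Subgroup G) ⊓ H = ⊥ ∧ (P : Subgroup G) ⊔ H = ⊤ := by
  have hp : p.Prime := Fact.out
  set N := Subgroup.normalizer ((P : Subgroup G) : Set G) with hN
  -- every element of `G` is conjugate into `N`
  have hcover : ∀ y : G, ∃ g : G, g * y * g⁻¹ ∈ N := by
    intro y
    obtain ⟨a, m, hm, hy⟩ := Nat.exists_eq_pow_mul_and_not_dvd (orderOf_pos y).ne' p hp.ne_one
    have hm0 : m ≠ 0 := by rintro rfl; exact hm (dvd_zero p)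
    have hcop : (p ^ a).Coprime m := Nat.Coprime.pow_left _ ((Nat.Prime.coprime_iff_not_dvd hp).mpr hm)
    set u := y ^ m with hu
    set v := y ^ p ^ a with hv
    have huo : orderOf u = p ^ a := by
      rw [orderOf_pow_of_dvd hm0 (hy ▸ dvd_mul_left _ _), hy, Nat.mul_div_cancel _ (Nat.pos_of_ne_zero hm0)]
    have hvo : orderOf v = m := by
      rw [orderOf_pow_of_dvd (pow_ne_zero _ hp.ne_zero) (hy ▸ dvd_mul_right _ _), hy,
        Nat.mul_div_cancel_left _ (Nat.pow_pos hp.pos)]
    set C := Subgroup.centralizer ({v} : Set G) with hC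
    have hCidx : ¬ p ∣ C.index := by
      have h1 := h v (hvo ▸ Nat.coprime_comm.mp ((Nat.Prime.coprime_iff_not_dvd hp).mpr hm))
      have h2 := MulAction.index_stabilizer (ConjAct G) v
      rw [ConjAct.stabilizer_eq_centralizer, ConjAct.orbit_eq_carrier_conjClasses] at h2
      rw [← h2] at h1
      exact h1
    have huC : u ∈ C := Subgroup.mem_centralizer_singleton_iff.mpr
      ((Commute.pow_pow (Commute.refl y) _ _).eq)
    have hup : IsPGroup p (Subgroup.zpowers (⟨u, huC⟩ : C)) :=
      IsPGroup.of_card (n := a) (by rw [Nat.card_zpowers, Subgroup.orderOf_mk, huo])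
    obtain ⟨S, hS⟩ := hup.exists_le_sylow
    have hSG : IsPGroup p ((S : Subgroup C).map C.subtype) := S.isPGroup'.map _
    have hidx : ¬ p ∣ ((S : Subgroup C).map C.subtype).index := by
      rw [Subgroup.index_map, Subgroup.ker_subtype, sup_bot_eq, Subgroup.range_subtype]
      exact Nat.Prime.not_dvd_mul hp S.not_dvd_index hCidx
    set T := hSG.toSylow hidx with hT
    obtain ⟨g, hg⟩ := MulAction.exists_smul_eq G T P
    have hmemT : ∀ z, z ∈ (T : Subgroup G) → g * z * g⁻¹ ∈ (P : Subgroup G) := by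
      intro z hz
      rw [← hg, Sylow.coe_subgroup_smul]
      exact Subgroup.smul_mem_pointwise_smul z (MulAut.conj g) _ hz
    refine ⟨g, ?_⟩
    have hu' : g * u * g⁻¹ ∈ N := Subgroup.le_normalizer (hmemT u ⟨⟨u, huC⟩, hS (Subgroup.mem_zpowers _), rfl⟩)
    have hv' : g * v * g⁻¹ ∈ N := by
      have hc : g * v * g⁻¹ ∈ Subgroup.centralizer ((P : Subgroup G) : Set G) := by
        rw [Subgroup.mem_centralizer_iff]
        intro z hz
        have hz' : z ∈ (g • T : Sylow p G) := hg ▸ hz
        change z ∈ MulAut.conj g • (T : Subgroup G) at hz'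
        rw [Subgroup.mem_pointwise_smul_iff_inv_smul_mem] at hz'
        obtain ⟨c, -, hc⟩ := hz'
        have hcv : (c : G) * v = v * c := Subgroup.mem_centralizer_singleton_iff.mp c.2
        have hz'' : z = g * c * g⁻¹ := by
          have h5 : (c : G) = g⁻¹ * z * g := by simpa [MulAut.smul_def] using hc
          rw [h5]; group
        rw [hz'']
        calc g * c * g⁻¹ * (g * v * g⁻¹) = g * ((c : G) * v) * g⁻¹ := by group
          _ = g * (v * c) * g⁻¹ := by rw [hcv]
          _ = _ := by group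
      exact Subgroup.centralizer_le_normalizer _ hc
    have hb := Nat.gcd_eq_gcd_ab (p ^ a) m
    rw [hcop] at hb
    have hy' : y = v ^ ((p ^ a).gcdA m) * u ^ ((p ^ a).gcdB m) := by
      rw [hu, hv, ← zpow_natCast y m, ← zpow_natCast y (p ^ a), ← zpow_mul, ← zpow_mul, ← zpow_add, ← hb]
      simp
    rw [hy', show g * (v ^ ((p ^ a).gcdA m) * u ^ ((p ^ a).gcdB m)) * g⁻¹ =
      (g * v * g⁻¹) ^ ((p ^ a).gcdA m) * (g * u * g⁻¹) ^ ((p ^ a).gcdB m) by
        rw [conj_zpow, conj_zpow]; group]
    exact mul_mem (Subgroup.zpow_mem _ hv' _) (Subgroup.zpow_mem _ hu' _)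
  -- hence `N = G`
  have hNtop : N = ⊤ := by
    classical
    haveI := Fintype.ofFinite G
    by_contra hne
    haveI : Fintype (G ⧸ N) := Fintype.ofFinite _
    have h1 : Fintype.card G - 1 ≤ (Nat.card N - 1) * N.index := by
      let F : (G ⧸ N) × {n : N // n ≠ 1} → {x : G // x ≠ 1} := fun cn =>
        ⟨cn.1.out * ((cn.2.1 : N) : G) * cn.1.out⁻¹, by simpa using fun h => cn.2.2 (Subtype.ext h)⟩
      have hF : Function.Surjective F := by
        rintro ⟨x, hx⟩
        obtain ⟨g, hg⟩ := hcover x
        obtain ⟨n, hn⟩ : ∃ n : N, ((g⁻¹ : G) : G ⧸ N).out = g⁻¹ * n := by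
          obtain ⟨n, hn⟩ := QuotientGroup.mk_out_eq_mul N g⁻¹
          exact ⟨n, hn⟩
        refine ⟨(((g⁻¹ : G) : G ⧸ N), ⟨⟨(n : G)⁻¹ * (g * x * g⁻¹) * n, mul_mem (mul_mem (inv_mem n.2) hg) n.2⟩, ?_⟩), ?_⟩
        · intro h0
          apply hx
          have h2 := congrArg Subtype.val h0
          simpa [mul_assoc, mul_eq_one_iff_eq_inv] using h2
        · apply Subtype.ext
          simp only [F, hn]
          group
      have := Fintype.card_le_of_surjective F hF
      rw [Fintype.card_prod, Fintype.card_subtype_compl, Fintype.card_subtype_compl,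
        Fintype.card_subtype_eq, Fintype.card_subtype_eq, ← Nat.card_eq_fintype_card (α := G ⧸ N),
        ← Subgroup.index, ← Nat.card_eq_fintype_card (α := N), mul_comm] at this
      exact this
    have h2 := N.card_mul_index
    rw [Nat.card_eq_fintype_card (α := G)] at h2
    have h3 : 2 ≤ N.index := by
      have := Subgroup.index_ne_zero_of_finite (H := N)
      have := mt Subgroup.index_eq_one.mp hne
      omega
    rw [Nat.sub_mul, one_mul, h2] at h1
    have : N.index ≤ Fintype.card G := h2 ▸ Nat.le_mul_of_pos_left _ Nat.card_pos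
    omega
  haveI hPn : (P : Subgroup G).Normal := Subgroup.normalizer_eq_top_iff.mp hNtop
  refine ⟨hPn, ?_⟩
  obtain ⟨H, hH⟩ := Subgroup.exists_right_complement'_of_coprime (N := (P : Subgroup G)) P.card_coprime_index
  have hHp : ¬ p ∣ Nat.card H := by
    rw [← hH.symm.index_eq_card]
    exact P.not_dvd_index
  have hcent : ∀ x ∈ H, x ∈ Subgroup.centralizer ((P : Subgroup G) : Set G) := by
    intro x hx
    have hxp : (orderOf x).Coprime p :=
      Nat.Coprime.coprime_dvd_left (Subgroup.orderOf_dvd_natCard H hx)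
        (Nat.coprime_comm.mp ((Nat.Prime.coprime_iff_not_dvd hp).mpr hHp))
    set C := Subgroup.centralizer ({x} : Set G) with hC
    have hCidx : ¬ p ∣ C.index := by
      have h1 := h x hxp
      have h2 := MulAction.index_stabilizer (ConjAct G) x
      rw [ConjAct.stabilizer_eq_centralizer, ConjAct.orbit_eq_carrier_conjClasses] at h2
      rw [← h2] at h1
      exact h1
    obtain ⟨T, hT⟩ : ∃ T : Sylow p G, (T : Subgroup G) ≤ C := by
      let S : Sylow p C := default
      have hidx : ¬ p ∣ ((S : Subgroup C).map C.subtype).index := by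
        rw [Subgroup.index_map, Subgroup.ker_subtype, sup_bot_eq, Subgroup.range_subtype]
        exact Nat.Prime.not_dvd_mul hp S.not_dvd_index hCidx
      exact ⟨(S.isPGroup'.map C.subtype).toSylow hidx, Subgroup.map_subtype_le _⟩
    haveI := Sylow.unique_of_normal P hPn
    have hTP : T = P := Subsingleton.elim _ _
    rw [Subgroup.mem_centralizer_iff]
    intro z hz
    exact Subgroup.mem_centralizer_singleton_iff.mp (hT (hTP ▸ hz))
  refine ⟨H, ⟨fun n hn g => ?_⟩, hHp, disjoint_iff.mp hH.disjoint, hH.sup_eq_top⟩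
  obtain ⟨⟨s, t⟩, rfl⟩ := hH.2 g
  simp only [mul_inv_rev]
  have h1 : (t : G) * n * (t : G)⁻¹ ∈ H := mul_mem (mul_mem t.2 hn) (inv_mem t.2)
  have h2 := Subgroup.mem_centralizer_iff.mp (hcent _ h1) (s : G) s.2
  have h3 : (s : G) * t * n * ((t : G)⁻¹ * (s : G)⁻¹) = (s : G) * ((t : G) * n * (t : G)⁻¹) * (s : G)⁻¹ := by group
  rw [h3, h2, mul_inv_cancel_right]
  exact h1

end Cfsg.Agent.S4035
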