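import Cfsg.Statements.S4033
import Cfsg.Agent.Lib.TwoRegSizesMain38

set_option autoImplicit false
open Cfsg

namespace Cfsg.Agent.S4033

/-- Let G be a finite group and p a prime, and suppose the conjugacy classes of p-regular elements of G (elements of order prime to p) have exactly two distinct sizes. Then either G has an abelian p-complement (an abelian subgroup of order prime to p and p-power index), or there are a prime q ≠ p, a Sylow p-subgroup P, a Sylow q-subgroup Q and a central subgroup A such that PQ is a normal subgroup of order #P·#Q and G is the internal direct product PQ × A. -/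
theorem result {G : Type*} [Group G] [Finite G] {p : ℕ} (hp : p.Prime)
    (h2 : Set.ncard (Set.range fun x : {x : G // (orderOf x).Coprime p} => (ConjClasses.mk (x : G)).carrier.ncard) = 2) :
    (∃ H : Subgroup G, IsMulCommutative H ∧ ¬ p ∣ Nat.card H ∧ ∃ k : ℕ, H.index = p ^ k) ∨
    (∃ (q : ℕ) (_ : Fact q.Prime) (P : Sylow p G) (Q : Sylow q G) (A : Subgroup G), q ≠ p ∧
        A ≤ Subgroup.center G ∧ Nat.card ↥((P : Subgroup G) ⊔ (Q : Subgroup G)) = Nat.card P * Nat.card Q ∧
        ((P : Subgroup G) ⊔ (Q : Subgroup G)).Normal ∧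
        ((P : Subgroup G) ⊔ (Q : Subgroup G)) ⊓ A = ⊥ ∧ ((P : Subgroup G) ⊔ (Q : Subgroup G)) ⊔ A = ⊤) := by
  classical
  obtain ⟨m₁, m₂, hne, hrange⟩ := Set.ncard_eq_two.1 h2
  have hcard : ∀ y : G, (ConjClasses.mk y).carrier.ncard = (TwoRegSizes38.Cn y).index := fun y => by
    refine Eq.trans ?_ (ClassSizeGraph76.ncard_cls y)
    congr 1
    ext z
    rw [ConjClasses.mem_carrier_iff_mk_eq, ConjClasses.mk_eq_mk_iff_isConj, isConj_comm, isConj_iff]
    rfl
  have hone : (1 : ℕ) ∈ ({m₁, m₂} : Set ℕ) := by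
    rw [← hrange]
    refine ⟨⟨1, by simp⟩, ?_⟩
    show (ConjClasses.mk (1 : G)).carrier.ncard = 1
    rw [hcard, Subgroup.index_eq_one, eq_top_iff]
    exact fun g _ => TwoRegSizes38.mem_cn.2 (by simp)
  have hmem : ∀ y : G, (orderOf y).Coprime p → (TwoRegSizes38.Cn y).index ∈ ({m₁, m₂} : Set ℕ) :=
    fun y hy => hrange ▸ ⟨⟨y, hy⟩, hcard y⟩
  have hne1 : ∀ y : G, y ∉ Subgroup.center G → (TwoRegSizes38.Cn y).index ≠ 1 := fun y hy h => by
    rw [Subgroup.index_eq_one] at h
    refine hy (Subgroup.mem_center_iff.2 fun g => ?_)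
    exact TwoRegSizes38.mem_cn.1 (h ▸ Subgroup.mem_top g)
  have H : TwoRegSizes38.Hyp G p := by
    refine ⟨hp, fun x y hxp hyp hxc hyc => ?_⟩
    have e : (TwoRegSizes38.Cn x).index = (TwoRegSizes38.Cn y).index := by
      have a := hmem x hxp
      have b := hmem y hyp
      have ha := hne1 x hxc
      have hb := hne1 y hyc
      simp only [Set.mem_insert_iff, Set.mem_singleton_iff] at a b hone
      omega
    have h := (TwoRegSizes38.Cn x).card_mul_index.trans (TwoRegSizes38.Cn y).card_mul_index.symm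
    rw [e] at h
    exact Nat.eq_of_mul_eq_mul_right (Nat.pos_of_ne_zero Subgroup.index_ne_zero_of_finite) h
  obtain ⟨x, hxp, hxc⟩ : ∃ x : G, (orderOf x).Coprime p ∧ x ∉ Subgroup.center G := by
    by_contra hall
    push Not at hall
    have hsub : ∀ n ∈ ({m₁, m₂} : Set ℕ), n = 1 := by
      intro n hn
      rw [← hrange] at hn
      obtain ⟨⟨y, hy⟩, rfl⟩ := hn
      show (ConjClasses.mk y).carrier.ncard = 1
      rw [hcard, Subgroup.index_eq_one, eq_top_iff]
      exact fun g _ => TwoRegSizes38.mem_cn.2 (Subgroup.mem_center_iff.1 (hall y hy) g)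
    exact hne ((hsub m₁ (by simp)).trans (hsub m₂ (by simp)).symm)
  obtain ⟨q, k, hq, -⟩ := H.exists_primary (x := x) ⟨hxp, hxc⟩
  by_cases hone' : ∀ r, TwoRegSizes38.InPi G p r → r = q
  · obtain ⟨hf, P, Q, A, h1, h2, h3, h4, h5⟩ := H.split hq hone'
    exact Or.inr ⟨q, hf, P, Q, A, hq.ne, h1, h2, h3, h4, h5⟩
  · push Not at hone'
    obtain ⟨r, hr, hrq⟩ := hone'
    exact Or.inl (TwoRegSizes38.Two.complement ⟨H, ⟨r, q, hr, hq, hrq⟩⟩)

end Cfsg.Agent.S4033
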