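import Cfsg.Statements.S2157
-- import your own Cfsg.Agent.* helpers here

set_option autoImplicit false
open Cfsg

namespace Cfsg.Agent.S2157

open Cfsg.Lie Cfsg.Lie.ChevalleyDatum

/-- the chain through `s` consists of successive `r`-translates -/
def chainOK (D : ChevalleyDatum) (r : ℕ) : ℕ → List (ℕ × ℤ) → Bool
  | _, [] => true
  | s, e :: rest => decide (s < D.nroots) && (D.chainRoot r s 1 == some e.1) && chainOK D r e.1 rest

/-- all chains of the datum are consistent -/
def tableOK (D : ChevalleyDatum) : Bool :=
  (List.range D.nroots).all fun r => (D.chain.getD r #[]).toList.all fun e =>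
    chainOK D r e.1 e.2.toList

theorem chainOK_spec (D : ChevalleyDatum) {F : Type*} [Field F] {χ : ℕ → Fˣ}
    (hχ : D.IsRootCharacter χ) {r : ℕ} (hr : r < D.nroots) :
    ∀ (l : List (ℕ × ℤ)) (s : ℕ), chainOK D r s l = true → ∀ (i : ℕ) (q : ℕ × ℤ),
      l[i]? = some q → χ q.1 = χ r ^ (i + 1) * χ s := by
  intro l
  induction l with
  | nil => intro s _ i q hq; simp at hq
  | cons e rest ih =>
    intro s h i q hq
    simp only [chainOK, Bool.and_eq_true, decide_eq_true_eq, beq_iff_eq] at h
    obtain ⟨⟨hs, he⟩, hrest⟩ := h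
    have h1 := hχ.2 r s e.1 hr hs he
    rcases i with _ | i
    · simp only [List.getElem?_cons_zero, Option.some.injEq] at hq
      rw [← hq, h1, pow_one]
    · simp only [List.getElem?_cons_succ] at hq
      rw [ih e.1 hrest i q hq, h1, ← mul_assoc, ← pow_succ]

theorem chainCoeff_spec (D : ChevalleyDatum) (hD : tableOK D = true) {F : Type*} [Field F]
    {χ : ℕ → Fˣ} (hχ : D.IsRootCharacter χ) {r : ℕ} (hr : r < D.nroots) (s u : ℕ)
    (km : ℕ × ℤ) (h : km ∈ D.chainCoeff r s u) : χ u = χ r ^ km.1 * χ s := by
  simp only [chainCoeff, List.mem_flatMap, List.mem_filter, List.mem_map, decide_eq_true_eq] at h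
  obtain ⟨e, ⟨he, hes⟩, q, ⟨hq, hqu⟩, rfl⟩ := h
  have hok : chainOK D r e.1 e.2.toList = true := by
    simp only [tableOK, List.all_eq_true, List.mem_range] at hD
    exact hD r hr e he
  have := chainOK_spec D hχ hr _ _ hok q.2 q.1 ((List.mem_zipIdx_iff_getElem? (x := q)).1 hq)
  rw [← hqu, ← hes, this]

theorem tables : ∀ D ∈ [chevG2, chevB2, chevD4, chevF4, chevE6, chevE7, chevE8],
    tableOK D = true := by
  intro D hD
  simp only [List.mem_cons, List.not_mem_nil, or_false] at hD
  rcases hD with rfl | rfl | rfl | rfl | rfl | rfl | rfl <;> decide +kernel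

/-- In a Chevalley group of type G₂, B₂, D₄, F₄, E₆, E₇ or E₈, for every character `χ` of the root lattice with values in `Fˣ` the diagonal matrix `ĥ(χ)` (identity on the coroot coordinates, `χ(s)` on the coordinate of `e_s`) conjugates each root element `x_r(t)` to `x_r(χ(r) t)`: `ĥ(χ) x_r(t) ĥ(χ)⁻¹ = x_r(χ(r) t)` as matrices, with `ĥ(χ)⁻¹` written as `ĥ(χ⁻¹)`. -/
theorem result {F : Type*} [Field F] (D : Cfsg.Lie.ChevalleyDatum) (hD : D ∈ [Cfsg.Lie.chevG2, Cfsg.Lie.chevB2, Cfsg.Lie.chevD4, Cfsg.Lie.chevF4, Cfsg.Lie.chevE6, Cfsg.Lie.chevE7, Cfsg.Lie.chevE8]) (χ : ℕ → Fˣ) (hχ : D.IsRootCharacter χ) (r : ℕ) (hr : r < D.nroots) (t : F) :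
    D.charDiag F χ * D.x F r t * D.charDiag F (fun s => (χ s)⁻¹) = D.x F r ((χ r : F) * t) := by
  have hok := tables D hD
  have hneg : χ (D.negIdx.getD r 0) = (χ r)⁻¹ := hχ.1 r hr
  unfold ChevalleyDatum.charDiag
  ext a b
  rw [Matrix.mul_diagonal, Matrix.diagonal_mul]
  simp only [ChevalleyDatum.x, dif_pos hr, ChevalleyDatum.xMat, Matrix.of_apply]
  generalize D.negIdx.getD r 0 = nr at hneg ⊢
  rcases b with i | s
  · rcases a with i' | u
    · by_cases h : i' = i <;> simp [h]
    · by_cases h : u = ⟨r, hr⟩
      · subst h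
        simp
        ring
      · simp [h]
  · by_cases hs : s = ⟨r, hr⟩
    · subst hs
      rcases a with i | u
      · simp
      · by_cases h : u = ⟨r, hr⟩
        · subst h; simp
        · simp [h]
    · by_cases hsn : s.val = nr
      · subst hsn
        rcases a with i | u
        · simp [hs, hneg]
          ring
        · by_cases hu : u = s
          · subst hu; simp [hs, hneg]
          · by_cases hur : u = ⟨r, hr⟩
            · subst hur; simp [hu, hs, hneg]; ring
            · simp [hu, hur, hs]
      · rcases a with i | u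
        · simp [hs, hsn]
        · simp only [if_neg hs, if_neg hsn, Sum.elim_inr]
          rw [mul_add, add_mul]
          congr 1
          · by_cases hu : u = s
            · subst hu; simp
            · simp [hu]
          · generalize hl : D.chainCoeff r s.val u.val = l
            have hmem : ∀ km ∈ l, χ u.val = χ r ^ km.1 * χ s.val := fun km hkm =>
              chainCoeff_spec D hok hχ hr _ _ km (hl ▸ hkm)
            clear hl
            induction l with
            | nil => simp
            | cons km l ih =>
              simp only [List.map_cons, List.sum_cons]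
              rw [mul_add, add_mul, ih fun k hk => hmem k (List.mem_cons_of_mem _ hk)]
              congr 1
              rw [hmem km (List.mem_cons_self ..), mul_pow, Units.val_mul, Units.val_pow_eq_pow_val,
                Units.val_inv_eq_inv_val]
              field_simp

end Cfsg.Agent.S2157
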