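import Cfsg.Statements.S1051
import Cfsg.Agent.Lib.ChevBruhatInstance
import Cfsg.Agent.Lib.ChevalleyTorus

set_option autoImplicit false
open Cfsg

namespace Cfsg.Agent.S1051

open Cfsg.Lie Cfsg.Agent.ChevBruhat

/-- an element of `B` all of whose conjugates lie in `B` is trivial -/
lemma eq_one_of_conj {F : Type*} [Field F] {D : ChevalleyDatum} (C : Cfsg.Agent.ChevalleyCert.Cert D)
    (S : Sys D F) {g : GL D.Idx F} (hg : ∀ x ∈ D.group F, x * g * x⁻¹ ∈ D.borelSubgroup F) :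
    g = 1 := by
  obtain ⟨w0, hw0⟩ := S.exists_w0
  obtain ⟨n, hn⟩ := S.toW_surjective w0
  have toH : ∀ y : GL D.Idx F, (∀ x ∈ D.group F, x * y * x⁻¹ ∈ D.borelSubgroup F) →
      y ∈ D.diagonalSubgroup F := by
    intro y hy
    have hyB : y ∈ D.borelSubgroup F := by simpa using hy 1 (one_mem _)
    obtain ⟨h, hh, u, hu, rfl⟩ := S.mem_B_iff.mp hyB
    have h1 := hy n (S.N_le_group n.2)
    have hv : (n : GL D.Idx F) * u * (n : GL D.Idx F)⁻¹ ∈ D.negUnipotent F := by
      refine Sys.conj_closure_le (T := {g : GL D.Idx F | ∃ (r : ℕ) (t : F), D.IsPosRoot r ∧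
        (g : Matrix D.Idx D.Idx F) = D.x F r t}) _ ?_ hu
      rintro z ⟨r, t, hr, hz⟩
      obtain ⟨c, -, hc, -⟩ := S.acts_toW n r hr.1
      rw [S.eq_xg.mp hz, hc, hn]
      exact S.xg_mem_V (hw0 r hr) _
    have h2 : (n : GL D.Idx F) * u * (n : GL D.Idx F)⁻¹ ∈ D.borelSubgroup F := by
      have h3 := Sys.H_le_B (S.conj_H (S.acts_toW n) hh)
      have := mul_mem (inv_mem h3) h1
      rwa [show ((n : GL D.Idx F) * h * (n : GL D.Idx F)⁻¹)⁻¹ *
        ((n : GL D.Idx F) * (h * u) * (n : GL D.Idx F)⁻¹) =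
        (n : GL D.Idx F) * u * (n : GL D.Idx F)⁻¹ by group] at this
    have h4 := Subgroup.mem_inf.mpr ⟨h2, hv⟩
    rw [S.B_inf_V, Subgroup.mem_bot, conj_eq_one_iff] at h4
    rw [h4, mul_one]
    exact hh
  have hgH := toH g hg
  obtain ⟨c, rfl⟩ := (ChevalleyTorus.mem_H_iff C).mp hgH
  have hchar : ∀ s, D.IsPosRoot s → (ChevalleyTorus.tchar D c s : F) = 1 := by
    intro s hs
    have hx : ChevalleyCore.xg C s (1 : F) ∈ D.group F := ChevalleyCore.xg_mem_group C s 1
    have h1 : ChevalleyCore.xg C s (1 : F) * ChevalleyTorus.torus D c *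
        (ChevalleyCore.xg C s (1 : F))⁻¹ ∈ D.diagonalSubgroup F := by
      refine toH _ fun x hx' => ?_
      have := hg _ (mul_mem hx' hx)
      rw [show x * ChevalleyCore.xg C s (1 : F) * ChevalleyTorus.torus D c *
        (x * ChevalleyCore.xg C s (1 : F))⁻¹ = x * (ChevalleyCore.xg C s (1 : F) *
        ChevalleyTorus.torus D c * (ChevalleyCore.xg C s (1 : F))⁻¹) * x⁻¹ by group] at this
      exact this
    have h2 := mul_mem (inv_mem hgH) h1
    have h3 : (ChevalleyTorus.torus D c)⁻¹ * (ChevalleyCore.xg C s (1 : F) *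
        ChevalleyTorus.torus D c * (ChevalleyCore.xg C s (1 : F))⁻¹) =
        ChevalleyCore.xg C s (((ChevalleyTorus.tchar D c⁻¹ s : Fˣ) : F) * 1 + -1) := by
      rw [← ChevalleyCore.xg_mul, ← ChevalleyCore.xg_inv, ← ChevalleyTorus.torus_conj_xg C hs.1,
        map_inv]
      group
    rw [h3] at h2
    have hU : ChevalleyCore.xg C s (((ChevalleyTorus.tchar D c⁻¹ s : Fˣ) : F) * 1 + -1) ∈
        D.posUnipotent F := Subgroup.subset_closure ⟨s, _, hs, ChevalleyCore.coe_xg C _ _⟩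
    have h5 := Subgroup.mem_inf.mpr ⟨hU, h2⟩
    rw [S.U_inf_H, Subgroup.mem_bot] at h5
    by_contra hne
    have h6 : ((ChevalleyTorus.tchar D c⁻¹ s : Fˣ) : F) * 1 + -1 ≠ 0 := by
      intro h7
      apply hne
      have h8 : ((ChevalleyTorus.tchar D c⁻¹ s : Fˣ) : F) = 1 := by linear_combination h7
      have h9 : ChevalleyTorus.tchar D c⁻¹ s = 1 := Units.ext h8
      have h10 := ChevalleyTorus.tchar_mul (D := D) c c⁻¹ s
      rw [mul_inv_cancel, ChevalleyTorus.tchar_one, h9, mul_one] at h10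
      rw [← h10]; rfl
    exact h6 (Cfsg.Agent.ChevBruhatInstance.xg_injective C hs.1 hs.1 h6
      (h5.trans (ChevalleyCore.xg_zero C s).symm)).2
  apply Units.ext
  show ChevalleyTorus.tmat D c = 1
  rw [ChevalleyTorus.tmat, ← Matrix.diagonal_one]
  congr 1
  funext q
  rcases q with j | s
  · rfl
  · rcases S.X.pos_or_neg s.isLt with hp | hn'
    · exact hchar _ hp
    · have hp := (S.X.pos_neg_iff s.isLt).mpr hn'
      have h1 := hchar _ hp
      have h2 : ChevalleyTorus.tchar D c (D.neg s) = (ChevalleyTorus.tchar D c s)⁻¹ := by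
        simp only [ChevalleyTorus.tchar, ← Finset.prod_inv_distrib, ← zpow_neg]
        exact Finset.prod_congr rfl fun i _ => by rw [ChevalleyRoots.cartan_neg C i.isLt s.isLt]
      rw [h2, Units.val_inv_eq_inv_val, inv_eq_one] at h1
      exact h1


/-- `⋂_g g B g⁻¹ = 1`: the normal core of `B` in the Chevalley group is trivial. -/
theorem result {F : Type*} [Field F] (D : Cfsg.Lie.ChevalleyDatum) (hD : D ∈ [Cfsg.Lie.chevG2, Cfsg.Lie.chevB2, Cfsg.Lie.chevD4, Cfsg.Lie.chevF4, Cfsg.Lie.chevE6, Cfsg.Lie.chevE7, Cfsg.Lie.chevE8]) : ((D.borelSubgroup F).subgroupOf (D.group F)).normalCore = ⊥ := by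
  have S := Cfsg.Agent.ChevBruhatInstance.sys D hD F
  rw [eq_bot_iff]
  rintro ⟨g, hgG⟩ hg
  rw [Subgroup.mem_bot]
  refine Subtype.ext (eq_one_of_conj (Cfsg.Agent.ChevalleyAll.cert D hD) S fun x hx => ?_)
  exact hg ⟨x, hx⟩

end Cfsg.Agent.S1051
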