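import Cfsg.Statements.S2507
import Cfsg.Agent.Lib.PSL2Classes52

set_option autoImplicit false
open Cfsg

namespace Cfsg.Agent.S2507

open PSL2Elements PSL2Proj52 PSL2Classes52

lemma factor (q : ℕ) : q * (q ^ 2 - 1) = q * (q + 1) * (q - 1) := by
  rw [mul_assoc, ← Nat.sq_sub_sq, one_pow]

lemma of_split {s q : ℕ} (hq : 2 ≤ q) (h : s * (q - 1) = q * (q ^ 2 - 1)) : s = q * (q + 1) :=
  Nat.eq_of_mul_eq_mul_right (show 0 < q - 1 by omega) (h.trans (factor q))

lemma of_nonsplit {s q : ℕ} (h : s * (q + 1) = q * (q ^ 2 - 1)) : s = q * (q - 1) :=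
  Nat.eq_of_mul_eq_mul_right (show 0 < q + 1 by omega) (h.trans (by rw [factor]; ring))


/-- Let F be a finite field with q = 2^f ≥ 4 elements. The conjugacy class sizes of PSL(2,F) are exactly 1, q(q − 1), q² − 1 and q(q + 1). -/
theorem result {F : Type*} [Field F] [Fintype F]
    (h2 : 2 ∣ Fintype.card F) (h4 : 4 ≤ Fintype.card F) :
    Set.range (fun g : (Matrix.ProjectiveSpecialLinearGroup (Fin 2) F) => (Subgroup.centralizer ({g} : Set (Matrix.ProjectiveSpecialLinearGroup (Fin 2) F))).index) =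
      {1, Fintype.card F * (Fintype.card F - 1), Fintype.card F ^ 2 - 1, Fintype.card F * (Fintype.card F + 1)} := by
  have h2F : (2 : F) = 0 := two_eq_of_even (by rwa [Nat.card_eq_fintype_card, even_iff_two_dvd])
  have hq := PSLCard.one_lt_card F
  have hd1 : Nat.gcd 2 (Nat.card F - 1) = 1 := by
    rcases gcd_eq (F := F) with ⟨ho, -⟩ | ⟨-, h⟩
    · exact absurd h2F (two_ne_of_odd ho)
    · exact h
  rw [← Nat.card_eq_fintype_card] at h4 ⊢
  change Set.range size = _
  have h40 : ∀ A : Matrix.SpecialLinearGroup (Fin 2) F, tr A ≠ 0 ∨ (2 : F) = 0 := fun _ => Or.inr h2F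
  ext n
  constructor
  · rintro ⟨g, rfl⟩
    by_cases hg : g = 1
    · subst hg; rw [size_one]; simp
    rcases size_cases hg with h | ⟨A, rfl, hA⟩
    · rw [h, hd1, Nat.div_one]; simp
    · obtain ⟨-, ⟨-, hk⟩ | ⟨-, hk⟩⟩ := centralizer_semisimple hA
      · rw [of_split hq (size_semisimple hk (h40 A))]; simp
      · rw [of_nonsplit (size_semisimple hk (h40 A))]; simp
  · rintro (rfl | rfl | rfl | rfl)
    · exact ⟨1, size_one⟩
    · obtain ⟨S, hS⟩ := exists_nonsplit (F := F)
      exact ⟨π S, of_nonsplit (size_semisimple (centralizer_nonsplit hS).2 (h40 S))⟩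
    · exact ⟨π (PSL2Elements.u 1), by rw [size_unipotent one_ne_zero, hd1, Nat.div_one]⟩
    · obtain ⟨a, ha⟩ : ∃ a : Fˣ, (a : F) ^ 2 ≠ 1 := by
        obtain ⟨a, ha⟩ := IsCyclic.exists_ofOrder_eq_natCard (α := Fˣ)
        refine ⟨a, fun h => ?_⟩
        rw [PSLCard.card_units_field] at ha
        have := Nat.le_of_dvd two_pos (orderOf_dvd_of_pow_eq_one (x := a) (n := 2) (Units.ext (by simpa using h)))
        omega
      exact ⟨π (PSL2Elements.d a), of_split hq (size_semisimple (card_centralizer_d ha).2 (h40 _))⟩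

end Cfsg.Agent.S2507
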