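import Cfsg.Statements.S2508
import Cfsg.Agent.Lib.PSL2Classes52

set_option autoImplicit false
open Cfsg

namespace Cfsg.Agent.S2508

open PSL2Elements PSL2Proj52 PSL2Classes52

lemma factor (q : ℕ) : q * (q ^ 2 - 1) = q * (q + 1) * (q - 1) := by
  rw [mul_assoc, ← Nat.sq_sub_sq, one_pow]

lemma of_split {s q : ℕ} (hq : 2 ≤ q) (h : s * (q - 1) = q * (q ^ 2 - 1)) : s = q * (q + 1) :=
  Nat.eq_of_mul_eq_mul_right (show 0 < q - 1 by omega) (h.trans (factor q))

lemma of_nonsplit {s q : ℕ} (h : s * (q + 1) = q * (q ^ 2 - 1)) : s = q * (q - 1) :=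
  Nat.eq_of_mul_eq_mul_right (show 0 < q + 1 by omega) (h.trans (by rw [factor]; ring))


/-- Let F be a finite field with q elements, q odd and q ≥ 7. If q ≡ 1 (mod 4) the conjugacy class sizes of PSL(2,F) are exactly 1, (q² − 1)/2, q(q + 1)/2, q(q − 1) and q(q + 1); if q ≡ 3 (mod 4) they are exactly 1, (q² − 1)/2, q(q − 1)/2, q(q + 1) and q(q − 1). -/
theorem result {F : Type*} [Field F] [Fintype F]
    (hodd : ¬ 2 ∣ Fintype.card F) (h7 : 7 ≤ Fintype.card F) :
    (Fintype.card F % 4 = 1 →
      Set.range (fun g : (Matrix.ProjectiveSpecialLinearGroup (Fin 2) F) => (Subgroup.centralizer ({g} : Set (Matrix.ProjectiveSpecialLinearGroup (Fin 2) F))).index) =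
        {1, (Fintype.card F ^ 2 - 1) / 2, Fintype.card F * (Fintype.card F + 1) / 2,
          Fintype.card F * (Fintype.card F - 1), Fintype.card F * (Fintype.card F + 1)}) ∧
    (Fintype.card F % 4 = 3 →
      Set.range (fun g : (Matrix.ProjectiveSpecialLinearGroup (Fin 2) F) => (Subgroup.centralizer ({g} : Set (Matrix.ProjectiveSpecialLinearGroup (Fin 2) F))).index) =
        {1, (Fintype.card F ^ 2 - 1) / 2, Fintype.card F * (Fintype.card F - 1) / 2,
          Fintype.card F * (Fintype.card F + 1), Fintype.card F * (Fintype.card F - 1)}) := by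
  rw [← Nat.card_eq_fintype_card] at h7 hodd ⊢
  have hoddq : Odd (Nat.card F) := by rwa [← Nat.not_even_iff_odd, even_iff_two_dvd]
  have h2F : (2 : F) ≠ 0 := two_ne_of_odd hoddq
  have hq := PSLCard.one_lt_card F
  have hd2 : Nat.gcd 2 (Nat.card F - 1) = 2 := by
    rcases gcd_eq (F := F) with ⟨-, h⟩ | ⟨he, -⟩
    · exact h
    · exact absurd he (Nat.not_even_iff_odd.2 hoddq)
  have split_iff : ∀ A : Matrix.SpecialLinearGroup (Fin 2) F, tr A = 0 →
      ((∃ r : F, r ^ 2 - tr A * r + 1 = 0) ↔ Nat.card F % 4 ≠ 3) := by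
    intro A hA
    rw [hA, Nat.card_eq_fintype_card, ← FiniteField.isSquare_neg_one_iff]
    constructor
    · rintro ⟨r, hr⟩
      exact ⟨r, by linear_combination -hr⟩
    · rintro ⟨r, hr⟩
      exact ⟨r, by linear_combination -hr⟩
  have h4of : ∀ A : Matrix.SpecialLinearGroup (Fin 2) F, tr A = 0 → tr A ^ 2 ≠ 4 := by
    intro A hA h
    rw [hA] at h
    exact h2F (pow_eq_zero_iff (two_ne_zero) |>.1 (show (2 : F) ^ 2 = 0 by linear_combination -h))
  -- all class sizes
  have upper : ∀ g : Matrix.ProjectiveSpecialLinearGroup (Fin 2) F,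
      size g = 1 ∨ size g = (Nat.card F ^ 2 - 1) / 2 ∨ size g = Nat.card F * (Nat.card F + 1) ∨
      size g = Nat.card F * (Nat.card F - 1) ∨
      (Nat.card F % 4 ≠ 3 ∧ size g = Nat.card F * (Nat.card F + 1) / 2) ∨
      (Nat.card F % 4 = 3 ∧ size g = Nat.card F * (Nat.card F - 1) / 2) := by
    intro g
    by_cases hg : g = 1
    · subst hg; exact Or.inl size_one
    rcases size_cases hg with h | ⟨A, rfl, hA⟩
    · exact Or.inr (Or.inl (by rw [h, hd2]))
    obtain ⟨-, ⟨hs, hk⟩ | ⟨hns, hk⟩⟩ := centralizer_semisimple hA <;> by_cases ht : tr A = 0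
    · refine Or.inr (Or.inr (Or.inr (Or.inr (Or.inl ⟨(split_iff A ht).1 hs, ?_⟩))))
      have h := of_split hq (s := size (π A) * 2) (by rw [mul_assoc]; exact size_tr_zero h2F hk ht)
      rw [← h, Nat.mul_div_cancel _ two_pos]
    · exact Or.inr (Or.inr (Or.inl (of_split hq (size_semisimple hk (Or.inl ht)))))
    · refine Or.inr (Or.inr (Or.inr (Or.inr (Or.inr ⟨?_, ?_⟩))))
      · by_contra h3
        obtain ⟨r, hr⟩ := (split_iff A ht).2 h3
        exact hns r hr
      · have h := of_nonsplit (s := size (π A) * 2) (by rw [mul_assoc]; exact size_tr_zero h2F hk ht)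
        rw [← h, Nat.mul_div_cancel _ two_pos]
    · exact Or.inr (Or.inr (Or.inr (Or.inl (of_nonsplit (size_semisimple hk (Or.inl ht))))))
  -- realisations
  have r1 : ∃ g : Matrix.ProjectiveSpecialLinearGroup (Fin 2) F, size g = (Nat.card F ^ 2 - 1) / 2 :=
    ⟨π (PSL2Elements.u 1), by rw [size_unipotent one_ne_zero, hd2]⟩
  have r2 : ∃ g : Matrix.ProjectiveSpecialLinearGroup (Fin 2) F,
      size g = Nat.card F * (Nat.card F + 1) := by
    obtain ⟨a, ha⟩ := IsCyclic.exists_ofOrder_eq_natCard (α := Fˣ)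
    rw [PSLCard.card_units_field] at ha
    have ha2 : (a : F) ^ 2 ≠ 1 := fun h => by
      have := Nat.le_of_dvd two_pos (orderOf_dvd_of_pow_eq_one (x := a) (n := 2) (Units.ext (by simpa using h)))
      omega
    have hat : tr (PSL2Elements.d a) ≠ 0 := by
      rw [tr_d]
      intro h
      have h' : (a : F) ^ 2 = -1 := by
        field_simp at h
        linear_combination h
      have := Nat.le_of_dvd four_pos (orderOf_dvd_of_pow_eq_one (x := a) (n := 4) (Units.ext (by
        rw [Units.val_pow_eq_pow_val, show 4 = 2 * 2 from rfl, pow_mul, h']; simp)))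
      omega
    exact ⟨π (PSL2Elements.d a), of_split hq (size_semisimple (card_centralizer_d ha2).2 (Or.inl hat))⟩
  have r3 : ∃ g : Matrix.ProjectiveSpecialLinearGroup (Fin 2) F,
      size g = Nat.card F * (Nat.card F - 1) := by
    obtain ⟨A, hA⟩ := exists_orderOf_card_add_one (F := F)
    have ht : tr A ≠ 0 := by
      intro h
      have h1 : A ^ 4 = 1 := by
        rw [show 4 = 2 * 2 from rfl, pow_mul, (sq_eq_neg_one_iff A h2F).2 h]; simp
      have := Nat.le_of_dvd four_pos (hA ▸ orderOf_dvd_of_pow_eq_one h1)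
      omega
    have h4 : tr A ^ 2 ≠ 4 := by
      intro h
      obtain ⟨p, _⟩ := CharP.exists F
      obtain ⟨n, hp, hn⟩ := FiniteField.card F p
      have : Fact p.Prime := ⟨hp⟩
      have h1 : A ^ (2 * p) = 1 := by
        have : (tr A - 2) * (tr A + 2) = 0 := by linear_combination h
        rw [mul_comm, pow_mul]
        rcases mul_eq_zero.1 this with e | e
        · rw [pow_char p (sub_eq_zero.1 e), one_pow]
        · have h' := pow_char p (A := -A) (by rw [tr_neg, eq_neg_of_add_eq_zero_left e, neg_neg])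
          rw [neg_pow] at h'
          rcases neg_one_pow_eq_or (Matrix.SpecialLinearGroup (Fin 2) F) p with e | e <;> rw [e] at h'
          · rw [one_mul] at h'; rw [h', one_pow]
          · rw [neg_one_mul, neg_eq_iff_eq_neg] at h'; rw [h', neg_one_sq]
      have hd := hA ▸ orderOf_dvd_of_pow_eq_one h1
      have hco : Nat.Coprime (Nat.card F + 1) p := by
        rw [Nat.coprime_comm, hp.coprime_iff_not_dvd]
        intro hd'
        have hpq : p ∣ Nat.card F := by
          rw [Nat.card_eq_fintype_card, hn]; exact dvd_pow_self p n.ne_zero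
        exact hp.ne_one (Nat.dvd_one.1 ((Nat.dvd_add_right hpq).1 hd'))
      have := Nat.le_of_dvd two_pos (hco.dvd_of_dvd_mul_right hd)
      omega
    obtain ⟨hc, ⟨-, hk⟩ | ⟨-, hk⟩⟩ := centralizer_semisimple h4
    · exfalso
      have := Subgroup.orderOf_dvd_natCard (s := Subgroup.centralizer
        ({A} : Set (Matrix.SpecialLinearGroup (Fin 2) F))) (x := A)
        (Subgroup.mem_centralizer_singleton_iff.2 rfl)
      rw [hk, hA] at this
      have := Nat.le_of_dvd (by omega) this
      omega
    · exact ⟨π A, of_nonsplit (size_semisimple hk (Or.inl ht))⟩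
  have hw : tr (PSL2Elements.w : Matrix.SpecialLinearGroup (Fin 2) F) = 0 := tr_w
  constructor
  · intro h1
    ext n
    constructor
    · rintro ⟨g, rfl⟩
      change size g ∈ _
      simp only [Set.mem_insert_iff, Set.mem_singleton_iff]
      rcases upper g with h | h | h | h | ⟨-, h⟩ | ⟨hh, -⟩
      all_goals first | omega | simp [h]
    · rintro (rfl | rfl | rfl | rfl | rfl)
      · exact ⟨1, size_one⟩
      · exact r1
      · obtain ⟨-, ⟨-, hk⟩ | ⟨hns, -⟩⟩ := centralizer_semisimple (h4of _ hw)
        · refine ⟨π PSL2Elements.w, ?_⟩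
          have h := of_split hq (s := size (π (PSL2Elements.w : Matrix.SpecialLinearGroup (Fin 2) F)) * 2)
            (by rw [mul_assoc]; exact size_tr_zero h2F hk hw)
          change size (π _) = _
          rw [← h, Nat.mul_div_cancel _ two_pos]
        · obtain ⟨r, hr⟩ := (split_iff _ hw).2 (by omega)
          exact absurd hr (hns r)
      · exact r3
      · exact r2
  · intro h3
    ext n
    constructor
    · rintro ⟨g, rfl⟩
      change size g ∈ _
      simp only [Set.mem_insert_iff, Set.mem_singleton_iff]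
      rcases upper g with h | h | h | h | ⟨hh, -⟩ | ⟨-, h⟩
      all_goals first | omega | simp [h]
    · rintro (rfl | rfl | rfl | rfl | rfl)
      · exact ⟨1, size_one⟩
      · exact r1
      · obtain ⟨-, ⟨hs, -⟩ | ⟨-, hk⟩⟩ := centralizer_semisimple (h4of _ hw)
        · exact absurd h3 ((split_iff _ hw).1 hs)
        · refine ⟨π PSL2Elements.w, ?_⟩
          have h := of_nonsplit (s := size (π (PSL2Elements.w : Matrix.SpecialLinearGroup (Fin 2) F)) * 2)
            (by rw [mul_assoc]; exact size_tr_zero h2F hk hw)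
          change size (π _) = _
          rw [← h, Nat.mul_div_cancel _ two_pos]
      · exact r2
      · exact r3

end Cfsg.Agent.S2508
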