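import Cfsg.Statements.S3784
import Mathlib

set_option autoImplicit false
open Cfsg

namespace Cfsg.Agent.S3784

theorem sq_mod_two_pow {c x : ℕ} (hc : 1 ≤ c) (hx : x + 1 = 2 ^ c ∨ x = 2 ^ c + 1) :
    x ^ 2 % 2 ^ (c + 1) = 1 % 2 ^ (c + 1) := by
  obtain ⟨d, rfl⟩ : ∃ d, c = d + 1 := ⟨c - 1, by omega⟩
  rcases hx with hx | hx
  · obtain ⟨e, he⟩ : ∃ e, 2 ^ d = e + 1 := ⟨2 ^ d - 1, by have := Nat.one_le_two_pow (n := d); omega⟩
    have hx' : x = 2 * e + 1 := by rw [pow_succ] at hx; omega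
    have : x ^ 2 = 1 + 2 ^ (d + 1 + 1) * e := by
      rw [hx', pow_succ 2 (d + 1), pow_succ 2 d, he]; ring
    rw [this, Nat.add_mul_mod_self_left]
  · have : x ^ 2 = 1 + 2 ^ (d + 1 + 1) * (2 ^ d + 1) := by
      rw [hx, pow_succ, pow_succ 2 (d + 1), pow_succ]; ring
    rw [this, Nat.add_mul_mod_self_left]

theorem pow_odd_mod {c x n : ℕ} (hc : 1 ≤ c) (hx : x + 1 = 2 ^ c ∨ x = 2 ^ c + 1) (hn : Odd n) :
    x ^ n % 2 ^ (c + 1) = x % 2 ^ (c + 1) := by
  obtain ⟨m, rfl⟩ := hn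
  rw [pow_succ, pow_mul, Nat.mul_mod, Nat.pow_mod, sq_mod_two_pow hc hx, ← Nat.pow_mod, one_pow,
    ← Nat.mul_mod, one_mul]

theorem le_of_two_pow_mod {a c : ℕ} (h : 2 ^ a % 2 ^ (c + 1) = 2 ^ c % 2 ^ (c + 1)) : a ≤ c := by
  by_contra hlt
  rw [Nat.mod_eq_zero_of_dvd (pow_dvd_pow 2 (by omega : c + 1 ≤ a)),
    Nat.mod_eq_of_lt (Nat.pow_lt_pow_right (by norm_num) (Nat.lt_succ_self c))] at h
  exact absurd h.symm (pow_ne_zero _ (by norm_num))

/-- Let p, q be primes and a, b positive integers with p^a = q^b + 1. Then either p = 2, b = 1, a is prime and q = 2^a − 1; or q = 2, a = 1, b is a power of 2 and p = 2^b + 1; or p^a = 9 and q^b = 8. -/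
theorem result (p q a b : ℕ) (hp : p.Prime) (hq : q.Prime) (ha : 1 ≤ a) (hb : 1 ≤ b) (h : p ^ a = q ^ b + 1) : (p = 2 ∧ b = 1 ∧ a.Prime ∧ q + 1 = 2 ^ a) ∨ (q = 2 ∧ a = 1 ∧ (∃ m : ℕ, b = 2 ^ m) ∧ p = 2 ^ b + 1) ∨ (p ^ a = 9 ∧ q ^ b = 8) := by
  by_cases hp2 : p = 2
  · subst hp2
    left
    have hq1 := hq.two_le
    have hqb : 1 < q ^ b := one_lt_pow₀ hq.one_lt (by omega)
    rcases Nat.even_or_odd b with hbe | hbo
    · exfalso
      obtain ⟨m, rfl⟩ := hbe
      rcases Nat.even_or_odd q with hqe | hqo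
      · obtain ⟨e, he⟩ : 2 ∣ q ^ (m + m) := dvd_pow (even_iff_two_dvd.mp hqe) (by omega)
        obtain ⟨f, hf⟩ : 2 ∣ 2 ^ a := dvd_pow_self 2 (by omega)
        omega
      · obtain ⟨k, hk⟩ := hqo.pow (n := m)
        have : q ^ (m + m) = 4 * (k * k + k) + 1 := by rw [pow_add, hk]; ring
        rcases Nat.lt_or_ge a 2 with ha2 | ha2
        · interval_cases a; omega
        · obtain ⟨f, hf⟩ : 2 ^ 2 ∣ 2 ^ a := pow_dvd_pow 2 ha2
          omega
    · have hdvd : q + 1 ∣ 2 ^ a := by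
        rw [h]
        simpa using hbo.nat_add_dvd_pow_add_pow q 1
      obtain ⟨c, -, hc⟩ := (Nat.dvd_prime_pow Nat.prime_two).mp hdvd
      have hc1 : 1 ≤ c := by
        by_contra h0
        obtain rfl : c = 0 := by omega
        omega
      have hmod := pow_odd_mod hc1 (Or.inl hc) hbo
      have : 2 ^ a % 2 ^ (c + 1) = 2 ^ c % 2 ^ (c + 1) := by
        rw [h, ← hc, Nat.add_mod, hmod, ← Nat.add_mod]
      have hac := le_of_two_pow_mod this
      have h1 : q ^ b ≤ q := by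
        have := Nat.pow_le_pow_right (show 2 > 0 by norm_num) hac
        omega
      have hb1 : b = 1 := by
        by_contra hb1
        have : q ^ 1 < q ^ b := Nat.pow_lt_pow_right hq.one_lt (by omega)
        rw [pow_one] at this
        omega
      subst hb1
      rw [pow_one] at h
      refine ⟨rfl, rfl, ?_, h.symm⟩
      have hqp : (2 ^ a - 1).Prime := by rw [h, Nat.add_sub_cancel]; exact hq
      have ha1 : a ≠ 1 := by rintro rfl; omega
      exact (Nat.prime_of_pow_sub_one_prime ha1 hqp).2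
  right
  have hpo : Odd p := hp.odd_of_ne_two hp2
  obtain rfl : q = 2 := by
    by_contra hq2
    obtain ⟨s, hs⟩ := (hq.odd_of_ne_two hq2).pow (n := b)
    obtain ⟨t, ht⟩ := hpo.pow (n := a)
    omega
  rcases Nat.even_or_odd a with hae | hao
  · right
    obtain ⟨k, rfl⟩ := hae
    have hpk : 2 ≤ p ^ k := le_trans hp.two_le (Nat.le_self_pow (by omega) p)
    obtain ⟨e, he⟩ : ∃ e, p ^ k = e + 1 := ⟨p ^ k - 1, by omega⟩
    have h2 : e * (e + 2) = 2 ^ b := by
      rw [pow_add, he] at h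
      have : (e + 1) * (e + 1) = e * (e + 2) + 1 := by ring
      omega
    obtain ⟨i, -, hi⟩ := (Nat.dvd_prime_pow Nat.prime_two).mp (Dvd.intro (e + 2) h2)
    obtain ⟨j, -, hj⟩ := (Nat.dvd_prime_pow Nat.prime_two).mp (Dvd.intro_left e h2)
    have he2 : e = 2 := by
      rcases Nat.lt_or_ge i 2 with hi2 | hi2
      · interval_cases i
        · have : Odd (p ^ k) := hpo.pow
          rw [he, hi] at this
          exact absurd this (by decide)
        · omega
      · exfalso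
        obtain ⟨f, hf⟩ : 2 ^ 2 ∣ 2 ^ i := pow_dvd_pow 2 hi2
        rcases Nat.lt_or_ge j 2 with hj2 | hj2
        · interval_cases j <;> omega
        · obtain ⟨g, hg⟩ : 2 ^ 2 ∣ 2 ^ j := pow_dvd_pow 2 hj2
          omega
    subst he2
    rw [pow_add, he]
    exact ⟨rfl, by omega⟩
  · left
    obtain ⟨e, he⟩ : ∃ e, p = e + 1 := ⟨p - 1, by have := hp.two_le; omega⟩
    have hdvd : e ∣ 2 ^ b := by
      have := Nat.sub_dvd_pow_sub_pow p 1 a
      rw [one_pow, h, Nat.add_sub_cancel, he, Nat.add_sub_cancel] at this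
      exact this
    obtain ⟨c, -, hc⟩ := (Nat.dvd_prime_pow Nat.prime_two).mp hdvd
    have hc1 : 1 ≤ c := by
      by_contra h0
      obtain rfl : c = 0 := by omega
      omega
    have hpc : p = 2 ^ c + 1 := by omega
    have hmod := pow_odd_mod hc1 (Or.inr hpc) hao
    have : 2 ^ b % 2 ^ (c + 1) = 2 ^ c % 2 ^ (c + 1) := by
      rw [h, hpc] at hmod
      exact Nat.ModEq.add_right_cancel' 1 hmod
    have hbc := le_of_two_pow_mod this
    have ha1 : a = 1 := by
      by_contra ha1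
      have : p ^ 1 < p ^ a := Nat.pow_lt_pow_right hp.one_lt (by omega)
      have := Nat.pow_le_pow_right (show 2 > 0 by norm_num) hbc
      rw [pow_one] at *
      omega
    subst ha1
    rw [pow_one] at h
    exact ⟨rfl, rfl, Nat.pow_of_pow_add_prime (by norm_num) (by omega) (h ▸ hp), h⟩

end Cfsg.Agent.S3784
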