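import Cfsg.Statements.S4218
import Cfsg.Agent.Lib.HallConstrained
import Cfsg.Agent.Lib.CoprimeAction
import Cfsg.Agent.Lib.PGroupsBasic

set_option autoImplicit false
open Cfsg

namespace Cfsg.Agent.S4218

open scoped Pointwise commutatorElement
open Subgroup Cfsg.Agent.HallCore Cfsg.Agent.HallSolvable Cfsg.Agent.HallConstrained

/-- In a finite group with `C(Q) ≤ Q` for a normal `p`-subgroup `Q = O_p`, only the elements of `Q`
act trivially on `Q/Φ(Q)`. -/
theorem mem_pCore_of_trivial_frattini {H : Type*} [Group H] [Finite H] {p : ℕ} [hp : Fact p.Prime]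
    (hc : Subgroup.centralizer (Cfsg.pCore p H : Set H) ≤ Cfsg.pCore p H) {b : H}
    (hb : ∀ y ∈ Cfsg.pCore p H,
      b * y * b⁻¹ * y⁻¹ ∈ (frattini (Cfsg.pCore p H)).map (Cfsg.pCore p H).subtype) :
    b ∈ Cfsg.pCore p H := by
  set Q := Cfsg.pCore p H
  set D := (frattini Q).map Q.subtype
  have : Q.Normal := pCore_normal p H
  have hDn : D.Normal := inferInstance
  let π := QuotientGroup.mk' D
  have : (Q.map π).Normal := map_normal_of_surjective (QuotientGroup.mk'_surjective D)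
  set B := (Subgroup.centralizer (Q.map π : Set (H ⧸ D))).comap π
  have hBn : B.Normal := inferInstance
  have hmem : ∀ c : H, c ∈ B ↔ ∀ y ∈ Q, c * y * c⁻¹ * y⁻¹ ∈ D := by
    intro c
    constructor
    · intro hc' y hy
      refine (QuotientGroup.eq_one_iff _).mp ?_
      show π (c * y * c⁻¹ * y⁻¹) = 1
      rw [map_mul, map_mul, map_mul, map_inv, map_inv, ← hc' (π y) ⟨y, hy, rfl⟩,
        mul_inv_cancel_right, mul_inv_cancel]
    · rintro h _ ⟨y, hy, rfl⟩
      have h1 : π (c * y * c⁻¹ * y⁻¹) = 1 := (QuotientGroup.eq_one_iff _).mpr (h y hy)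
      rw [map_mul, map_mul, map_mul, map_inv, map_inv, mul_inv_eq_one, mul_inv_eq_iff_eq_mul] at h1
      exact h1.symm
  have hBp : IsPGroup p B := by
    rw [IsPGroup.iff_orderOf]
    rintro ⟨c, hcB⟩
    obtain ⟨k, m, hm, he⟩ := Nat.exists_eq_pow_mul_and_not_dvd (orderOf_pos c).ne' p hp.out.ne_one
    refine ⟨k, ?_⟩
    rw [← Subgroup.orderOf_coe]
    show orderOf c = p ^ k
    have hord : orderOf (c ^ p ^ k) = m := by
      rw [orderOf_pow, he, Nat.gcd_eq_right (dvd_mul_right _ _),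
        Nat.mul_div_cancel_left _ (pow_pos hp.out.pos k)]
    have hcen : Subgroup.zpowers (c ^ p ^ k) ≤ Subgroup.centralizer (Q : Set H) := by
      refine Cfsg.Agent.CoprimeAction.le_centralizer_of_frattini Subgroup.le_normalizer_of_normal
        ?_ ?_
      · obtain ⟨j, hj⟩ := IsPGroup.iff_card.mp ((isPGroup_pCore p H).to_subgroup (frattini Q))
        rw [Nat.card_zpowers, hord, hj]
        exact Nat.Coprime.pow_right _ (((hp.out.coprime_iff_not_dvd).mpr hm).symm)
      · intro a ha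
        exact (hmem a).mp (Subgroup.zpowers_le.mpr (pow_mem hcB _) ha)
    obtain ⟨j, hj⟩ := IsPGroup.iff_orderOf.mp (isPGroup_pCore p H)
      ⟨c ^ p ^ k, hc (hcen (Subgroup.mem_zpowers _))⟩
    rw [← Subgroup.orderOf_coe] at hj
    change orderOf (c ^ p ^ k) = p ^ j at hj
    rcases j with _ | j
    · rw [pow_zero, hord] at hj
      rw [he, hj, mul_one]
    · exact absurd (hord ▸ hj ▸ dvd_pow_self p (Nat.succ_ne_zero j)) hm
  exact le_pCore hBp ((hmem b).mpr hb)

/-- Let `G` be a finite `p`-solvable group, `N₀ = O_{p'}(G)`, `P₁ = O_{p',p}(G)`, and let `F ≤ P₁` be the preimage of the Frattini subgroup of `P₁/N₀`. Then an element `g` of `G` induces the identity on `P₁/F` by conjugation (that is, `g x g⁻¹ x⁻¹ ∈ F` for all `x ∈ P₁`) if and only if `g ∈ P₁`: the group `G/P₁` acts faithfully on `P₁/F`. -/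
theorem result {G : Type*} [Group G] [Finite G] {p : ℕ} [Fact p.Prime] (hG : Cfsg.IsPSolvable p G) (g : G) : (∀ x ∈ Cfsg.pPrimePCore p G, g * x * g⁻¹ * x⁻¹ ∈ ((frattini (↥(Cfsg.pPrimePCore p G) ⧸ (Cfsg.pPrimeCore p G).subgroupOf (Cfsg.pPrimePCore p G))).comap (QuotientGroup.mk' ((Cfsg.pPrimeCore p G).subgroupOf (Cfsg.pPrimePCore p G)))).map (Cfsg.pPrimePCore p G).subtype) ↔ g ∈ Cfsg.pPrimePCore p G := by
  have hcon := (isPConstrained_iff (p := p)).mp (isPConstrained_of_isPSolvable hG)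
  set P₁ := Cfsg.pPrimePCore p G
  set N := Cfsg.pPrimeCore p G
  set q := QuotientGroup.mk' N
  set Q := Cfsg.pCore p (G ⧸ N)
  have hP1 : P₁ = Q.comap q := rfl
  have hsur : Function.Surjective q := QuotientGroup.mk'_surjective N
  set N' := N.subgroupOf P₁
  let r : ↥P₁ →* ↥Q := (q.comp P₁.subtype).codRestrict Q fun x => x.2
  have hker : r.ker = N' := by
    ext x
    rw [MonoidHom.mem_ker, Subgroup.mem_subgroupOf, ← QuotientGroup.eq_one_iff (N := N)]
    exact ⟨fun h => congrArg Subtype.val h, fun h => Subtype.ext h⟩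
  have hrs : Function.Surjective r := by
    rintro ⟨y, hy⟩
    obtain ⟨x, rfl⟩ := hsur y
    exact ⟨⟨x, hy⟩, rfl⟩
  let e : ↥P₁ ⧸ N' ≃* ↥Q :=
    (QuotientGroup.quotientMulEquivOfEq hker.symm).trans
      (QuotientGroup.quotientKerEquivOfSurjective r hrs)
  have hfr : (frattini ↥Q).comap e.toMonoidHom = frattini (↥P₁ ⧸ N') := by
    refine le_antisymm (fun z hz => ?_)
      (frattini_le_comap_frattini_of_surjective e.surjective)
    have h1 := frattini_le_comap_frattini_of_surjective (φ := e.symm.toMonoidHom)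
      e.symm.surjective hz
    simpa using h1
  set F := ((frattini (↥P₁ ⧸ N')).comap (QuotientGroup.mk' N')).map P₁.subtype
  have hF : ∀ z : G, z ∈ F ↔ z ∈ P₁ ∧ q z ∈ (frattini ↥Q).map Q.subtype := by
    intro z
    constructor
    · rintro ⟨w, hw, rfl⟩
      refine ⟨w.2, r w, ?_, rfl⟩
      rw [← hfr] at hw
      exact hw
    · rintro ⟨hz, v, hv, hvz⟩
      refine ⟨⟨z, hz⟩, ?_, rfl⟩
      rw [SetLike.mem_coe, Subgroup.mem_comap, ← hfr, Subgroup.mem_comap]
      have : r ⟨z, hz⟩ = v := Subtype.ext hvz.symm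
      show r ⟨z, hz⟩ ∈ frattini ↥Q
      rw [this]
      exact hv
  have hPn : P₁.Normal := pPrimePCore_normal p G
  constructor
  · intro h
    show q g ∈ Q
    refine mem_pCore_of_trivial_frattini hcon ?_
    intro y hy
    obtain ⟨x, rfl⟩ := hsur y
    have h1 := ((hF _).mp (h x hy)).2
    simpa only [map_mul, map_inv] using h1
  · intro hg x hx
    refine (hF _).mpr ⟨P₁.mul_mem (hPn.conj_mem x hx g) (P₁.inv_mem hx), ?_⟩
    refine ⟨⁅(⟨q g, hg⟩ : ↥Q), ⟨q x, hx⟩⁆, Cfsg.Agent.PGroupsBasic.commutator_le_frattini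
      (isPGroup_pCore p _) (Subgroup.commutator_mem_commutator (Subgroup.mem_top _)
        (Subgroup.mem_top _)), ?_⟩
    simp [commutatorElement_def]

end Cfsg.Agent.S4218
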