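import Cfsg.Statements.S0007
import Mathlib

set_option autoImplicit false
open Cfsg

namespace Cfsg.Agent.S0007

open scoped Pointwise



/-- Subgroups of coprime index: the intersection has index equal to the product of the indices, and every element is a product of an element of the first subgroup and an element of the second. -/
theorem result {G : Type*} [Group G] [Finite G] (H K : Subgroup G)
    (h : H.index.Coprime K.index) :
    (H ⊓ K).index = H.index * K.index ∧ ∀ g : G, ∃ x ∈ H, ∃ y ∈ K, g = x * y := by
  constructor
  · apply le_antisymm (Subgroup.index_inf_le)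
    refine Nat.le_of_dvd (Nat.pos_of_ne_zero Subgroup.index_ne_zero_of_finite) ?_
    exact h.mul_dvd_of_dvd_of_dvd (Subgroup.index_dvd_of_le inf_le_left) (Subgroup.index_dvd_of_le inf_le_right)
  · have key : H.index * K.index ≤ (H ⊓ K).index :=
      Nat.le_of_dvd (Nat.pos_of_ne_zero Subgroup.index_ne_zero_of_finite)
        (h.mul_dvd_of_dvd_of_dvd (Subgroup.index_dvd_of_le inf_le_left) (Subgroup.index_dvd_of_le inf_le_right))
    have e1 : (H ⊓ K).index = K.relIndex H * H.index := by
      rw [← Subgroup.relIndex_mul_index (inf_le_left : H ⊓ K ≤ H), Subgroup.inf_relIndex_left]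
    let f : H ⧸ K.subgroupOf H → G ⧸ K := Quotient.map' (fun x => (x : G)) (fun a b hab => by
      rw [QuotientGroup.leftRel_apply] at hab ⊢
      simpa [Subgroup.mem_subgroupOf] using hab)
    have hf : Function.Injective f := by
      intro a b
      induction a using QuotientGroup.induction_on with
      | H a =>
        induction b using QuotientGroup.induction_on with
        | H b =>
          intro hab
          have hab' : ((a : G) : G ⧸ K) = ((b : G) : G ⧸ K) := hab
          rw [QuotientGroup.eq] at hab' ⊢
          simpa [Subgroup.mem_subgroupOf] using hab'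
    have hcard : Nat.card (G ⧸ K) ≤ Nat.card (H ⧸ K.subgroupOf H) := by
      show K.index ≤ K.relIndex H
      rw [e1, mul_comm] at key
      exact Nat.le_of_mul_le_mul_right key (Nat.pos_of_ne_zero Subgroup.index_ne_zero_of_finite)
    have hb := hf.bijective_of_nat_card_le hcard
    intro g
    obtain ⟨q, hq⟩ := hb.2 (g : G ⧸ K)
    induction q using QuotientGroup.induction_on with
    | H x =>
      have hq' : ((x : G) : G ⧸ K) = (g : G ⧸ K) := hq
      rw [QuotientGroup.eq] at hq'
      exact ⟨x, x.2, _, hq', by group⟩

end Cfsg.Agent.S0007
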