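import Cfsg.Statements.S2325
import Cfsg.Agent.Lib.SL2Classes

set_option autoImplicit false
open Cfsg

namespace Cfsg.Agent.S2325

open Cfsg.Agent.PSL2Elements Cfsg.Agent.SL2Classes

/-- Over a finite field with q elements, q odd, the special linear group SL₂ has exactly q + 4 conjugacy classes. -/
theorem result {F : Type*} [Field F] [Fintype F] (hodd : Odd (Fintype.card F)) :
    Nat.card (ConjClasses (Matrix.SpecialLinearGroup (Fin 2) F)) = Fintype.card F + 4 := by
  classical
  obtain ⟨h2, ν, hν⟩ := two_ne_zero_of_odd hodd
  rw [← Nat.card_congr (Equiv.ofBijective _ (repOdd_bijective h2 hν)), Nat.card_sum, Nat.card_prod,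
    Nat.card_fin, Nat.card_fin, Nat.card_eq_fintype_card, Fintype.card_subtype_compl]
  have h : Fintype.card {t : F // t ^ 2 = 4} = 2 := by
    rw [Fintype.card_subtype]
    rw [show Finset.univ.filter (fun t : F => t ^ 2 = 4) = {2, -2} by
      ext t
      simp only [Finset.mem_filter, Finset.mem_univ, true_and, Finset.mem_insert,
        Finset.mem_singleton]
      rw [← sq_eq_sq_iff_eq_or_eq_neg]
      norm_num]
    exact Finset.card_pair fun e => mul_ne_zero h2 h2 (by linear_combination e)
  rw [h]
  have : 3 ≤ Fintype.card F := by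
    have := Fintype.one_lt_card (α := F)
    obtain ⟨k, hk⟩ := hodd
    omega
  omega

end Cfsg.Agent.S2325
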