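import Cfsg.Statements.S5390
import Cfsg.Agent.Lib.U43Type38Setup36
import Cfsg.Agent.Lib.U43Type38Local
import Cfsg.Agent.Lib.U43Type38Amalgam33
import Cfsg.Agent.Lib.U43Type38Cert40
import Cfsg.Agent.Lib.U43Type38Facts22
import Cfsg.Agent.Lib.U43Type38Model22
import Cfsg.Agent.Lib.U43Type38Glue7

set_option autoImplicit false
open Cfsg

namespace Cfsg.Agent.S5390

/-- Let G be a finite group of unitary U₄(3) type: G has an involution z whose centralizer H has order 2^7 · 3^2 and satisfies: the subgroup of H generated by its elements of odd order is the product of two of its normal subgroups H₁, H₂, each isomorphic to SL(2, 3), meeting in the subgroup generated by z; Q, the largest normal 2-subgroup of that product, is the generalized Fitting subgroup of H; some conjugate of z other than z lies in Q; and for every conjugate g z g⁻¹ of z lying in Q and different from z, the intersection of Q with its conjugate by g has order 4. Then G is isomorphic to the projective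 special unitary group of dimension 4 over the field with nine elements. -/
theorem result {G : Type*} [Group G] [Finite G] (z : G) (hz : orderOf z = 2) (H₁ H₂ : Subgroup (Subgroup.centralizer ({z} : Set G))) (hK : H₁ ⊔ H₂ = Subgroup.closure {x : Subgroup.centralizer ({z} : Set G) | Odd (orderOf x)}) (hn₁ : (H₁.subgroupOf (H₁ ⊔ H₂)).Normal) (hn₂ : (H₂.subgroupOf (H₁ ⊔ H₂)).Normal) (e₁ : H₁ ≃* Matrix.SpecialLinearGroup (Fin 2) (ZMod 3)) (e₂ : H₂ ≃* Matrix.SpecialLinearGroup (Fin 2) (ZMod 3)) (hmeet : (H₁ ⊓ H₂).map (Subgroup.subtype (Subgroup.centralizer ({z} : Set G))) = Subgroup.zpowers z) (Q : Subgroup (Subgroup.centralizer ({z} : Set G))) [Q.Normal] (hQ : Q = (Cfsg.pCore 2 ↥(H₁ ⊔ H₂)).map (Subgroup.subtype (H₁ ⊔ H₂))) (hF : Cfsg.generalizedFittingSubgroup (Subgroup.centralizer ({z} : Set G)) = Q) (hnwc : ∃ g : G, (∃ hq : g * z * g⁻¹ ∈ Subgroup.centralizer ({z} : Set G), (⟨g * z * g⁻¹, hq⟩ : Subgroup.centralizer ({z} : Set G)) ∈ Q) ∧ g * z * g⁻¹ ≠ z) (hH : Nat.card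 ↥(Subgroup.centralizer ({z} : Set G)) = 2 ^ 7 * 3 ^ 2) (hQQg : ∀ g : G, g * z * g⁻¹ ∈ Q.map (Subgroup.subtype (Subgroup.centralizer ({z} : Set G))) → g * z * g⁻¹ ≠ z → Nat.card ↥((Q.map (Subgroup.subtype (Subgroup.centralizer ({z} : Set G)))) ⊓ (Q.map (Subgroup.subtype (Subgroup.centralizer ({z} : Set G)))).map (MulAut.conj g).toMonoidHom) = 4) (K : Type) [Field K] [Fintype K] (hK9 : Fintype.card K = 9) : Nonempty (G ≃* Cfsg.PSU 4 K 3) := by
  obtain ⟨φ, S⟩ := U43Type38Setup36.exists_setup z hz H₁ H₂ hK hn₁ hn₂ e₁ e₂ hmeet Q hQ hF hnwc hH hQQg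
  obtain ⟨g, hg, -⟩ := U43Type38.exists_loc S
  obtain ⟨x, hx⟩ := U43Type38Amalgam33.exists_rels hg
  have hg' : U43Type38.Loc ({g with x := x} : U43Type38.Gens G) :=
    ⟨{ hg.rels with }, hg.hz, hg.gen, hg.card, hg.conj_aa', hg.conj_p, hg.conj_m⟩
  have hF9 : Fintype.card K = 3 ^ 2 := by rw [hK9]; rfl
  obtain ⟨g₀, h₀, htop, -⟩ := U43Type38Model22.exists_model hF9
  have := U43Type38Facts22.isSimple hF9 (MulEquiv.refl (Cfsg.PSU 4 K 3))
  obtain ⟨h1, h2, h3⟩ := U43Type38Glue7.main hg' hx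
    (fun g' h' => U43Type38Cert40.card_span_le g' h') h₀ htop
    (U43Type38Facts22.card_eq hF9 (MulEquiv.refl _))
    (U43Type38Facts22.isConj_of_orderOf_two hF9 (MulEquiv.refl _))
    (U43Type38Facts22.orderOf_ne_35 hF9 (MulEquiv.refl _))
  exact h1

end Cfsg.Agent.S5390
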