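import Cfsg.Statements.S5061
-- import your own Cfsg.Agent.* helpers here

set_option autoImplicit false
open Cfsg

namespace Cfsg.Agent.S5061

section
variable {k : Type*} [Field k] {M : Type*} [AddCommGroup M] [Module k M]

/-- The span of the `g - 1`, `g ∈ H`. -/
def env (H : Subgroup (LinearMap.GeneralLinearGroup k M)) : Submodule k (Module.End k M) :=
  Submodule.span k ((fun g : LinearMap.GeneralLinearGroup k M => (g : Module.End k M) - 1) '' H)

theorem sub_one_mem_env {H : Subgroup (LinearMap.GeneralLinearGroup k M)} {g : LinearMap.GeneralLinearGroup k M}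
    (hg : g ∈ H) : (g : Module.End k M) - 1 ∈ env H :=
  Submodule.subset_span ⟨g, hg, rfl⟩

theorem env_mono {H K : Subgroup (LinearMap.GeneralLinearGroup k M)} (h : H ≤ K) : env H ≤ env K :=
  Submodule.span_mono (Set.image_mono h)

theorem mulM {a b c d : Submodule k (Module.End k M)} (h₁ : a ≤ b) (h₂ : c ≤ d) : a * c ≤ b * d :=
  Submodule.mul_le.2 fun _ hm _ hn => Submodule.mul_mem_mul (h₁ hm) (h₂ hn)

theorem mulL {a b c : Submodule k (Module.End k M)} (h : a ≤ b) : a * c ≤ b * c := mulM h le_rfl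

theorem mulR {a b c : Submodule k (Module.End k M)} (h : b ≤ c) : a * b ≤ a * c := mulM le_rfl h

theorem unipotent_iff {H : Subgroup (LinearMap.GeneralLinearGroup k M)} :
    Cfsg.IsUnipotentOn H ↔ ∃ n : ℕ, ∀ l : List (LinearMap.GeneralLinearGroup k M), (∀ g ∈ l, g ∈ H) →
      l.length = n → (l.map fun g : LinearMap.GeneralLinearGroup k M => (g : Module.End k M) - 1).prod = 0 := by
  have key : ∀ l : List (LinearMap.GeneralLinearGroup k M),
      (((do let a ← l; pure (a : M →ₗ[k] M)) : List (M →ₗ[k] M)).map fun g => g - 1) =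
        l.map fun g : LinearMap.GeneralLinearGroup k M => (g : Module.End k M) - 1 := by
    intro l
    induction l with
    | nil => simp
    | cons a l ih => simp at ih ⊢; exact ih
  constructor
  · rintro ⟨n, hn⟩
    exact ⟨n, fun l hl hlen => (key l) ▸ hn l hl hlen⟩
  · rintro ⟨n, hn⟩
    exact ⟨n, fun l hl hlen => (key l).symm ▸ hn l hl hlen⟩

theorem env_mul_self (H : Subgroup (LinearMap.GeneralLinearGroup k M)) : env H * env H ≤ env H := by
  rw [env, Submodule.span_mul_span, Submodule.span_le]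
  rintro _ ⟨_, ⟨g, hg, rfl⟩, _, ⟨h, hh, rfl⟩, rfl⟩
  show ((g : Module.End k M) - 1) * ((h : Module.End k M) - 1) ∈ env H
  have : ((g : Module.End k M) - 1) * ((h : Module.End k M) - 1) =
      ((g * h : LinearMap.GeneralLinearGroup k M) : Module.End k M) - 1 - ((g : Module.End k M) - 1) -
        ((h : Module.End k M) - 1) := by
    rw [Units.val_mul]; noncomm_ring
  rw [this]
  exact sub_mem (sub_mem (sub_one_mem_env (mul_mem hg hh)) (sub_one_mem_env hg)) (sub_one_mem_env hh)

/-- A submodule closed under products with a vanishing power. -/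
structure IsNilAlg (N : Submodule k (Module.End k M)) : Prop where
  mul : N * N ≤ N
  nil : ∃ n, N ^ (n + 1) = ⊥

theorem isUnipotentOn_of_le {H : Subgroup (LinearMap.GeneralLinearGroup k M)} {N : Submodule k (Module.End k M)}
    (hN : IsNilAlg N) (h : ∀ g ∈ H, (g : Module.End k M) - 1 ∈ N) : Cfsg.IsUnipotentOn H := by
  obtain ⟨n, hn⟩ := hN.nil
  rw [unipotent_iff]
  refine ⟨n + 1, fun l hl hlen => ?_⟩
  have key : ∀ l : List (LinearMap.GeneralLinearGroup k M), (∀ g ∈ l, g ∈ H) →
      (l.map fun g : LinearMap.GeneralLinearGroup k M => (g : Module.End k M) - 1).prod ∈ N ^ l.length := by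
    intro l hl
    induction l with
    | nil => simp [Submodule.one_eq_span, Submodule.mem_span_singleton_self]
    | cons a l ih =>
      rw [List.map_cons, List.prod_cons, List.length_cons, pow_succ']
      exact Submodule.mul_mem_mul (h a (hl a List.mem_cons_self))
        (ih fun g hg => hl g (List.mem_cons_of_mem _ hg))
  have h1 := key l hl
  rw [hlen, hn, Submodule.mem_bot] at h1
  exact h1

theorem isNilAlg_env {H : Subgroup (LinearMap.GeneralLinearGroup k M)} (h : Cfsg.IsUnipotentOn H) :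
    IsNilAlg (env H) := by
  refine ⟨env_mul_self H, ?_⟩
  obtain ⟨n, hn⟩ := unipotent_iff.1 h
  refine ⟨n, le_bot_iff.1 ?_⟩
  have hsub : env H ^ n ≤ ⊥ := by
    rw [env, Submodule.span_pow, Submodule.span_le]
    intro x hx
    obtain ⟨f, rfl⟩ := Set.mem_pow.1 hx
    choose g hg hgf using fun i => (f i).2
    have := hn (List.ofFn g) (fun a ha => by
      obtain ⟨i, rfl⟩ := List.mem_ofFn.1 ha
      exact hg i) (by simp)
    rw [List.map_ofFn] at this
    show (List.ofFn fun i => (f i : Module.End k M)).prod = 0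
    rw [← this]
    congr 2
    funext i
    exact (hgf i).symm
  rw [pow_succ]
  exact le_trans (mulL (c := env H) hsub) (by rw [Submodule.bot_mul])

theorem inv_sub_one_mem {N : Submodule k (Module.End k M)} (hN : IsNilAlg N)
    {g : LinearMap.GeneralLinearGroup k M} (hg : (g : Module.End k M) - 1 ∈ N) :
    ((g⁻¹ : LinearMap.GeneralLinearGroup k M) : Module.End k M) - 1 ∈ N := by
  set m := (g : Module.End k M) - 1 with hm
  set m' := ((g⁻¹ : LinearMap.GeneralLinearGroup k M) : Module.End k M) - 1 with hm'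
  have heq : m' = - m - m * m' := by
    have h := g.mul_inv
    have e1 : (g : Module.End k M) = 1 + m := by rw [hm]; abel
    have e2 : ((g⁻¹ : LinearMap.GeneralLinearGroup k M) : Module.End k M) = 1 + m' := by rw [hm']; abel
    rw [e1, e2] at h
    calc m' = (1 + m) * (1 + m') - 1 - m - m * m' := by noncomm_ring
      _ = _ := by rw [h]; abel
  have key : ∀ j, ∃ a ∈ N, ∃ b ∈ N ^ (j + 1), m' = a + b * m' := by
    intro j
    induction j with
    | zero => exact ⟨-m, neg_mem hg, -m, by simpa using hg, by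
        rw [neg_mul]; exact heq.trans (sub_eq_add_neg _ _)⟩
    | succ j ih =>
      obtain ⟨a, ha, b, hb, he⟩ := ih
      have hbm : b * m ∈ N ^ (j + 1 + 1) := Submodule.mul_mem_mul hb hg
      have hle : N ^ (j + 1 + 1) ≤ N := by
        clear hbm hb he
        generalize j + 1 = i
        induction i with
        | zero => simp
        | succ i ihi => rw [pow_succ]; exact (mulL ihi).trans hN.mul
      refine ⟨a - b * m, sub_mem ha (hle hbm), -(b * m), neg_mem hbm, ?_⟩
      conv_lhs => rw [he, heq]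
      noncomm_ring
  obtain ⟨n, hn⟩ := hN.nil
  obtain ⟨a, ha, b, hb, he⟩ := key n
  rw [hn, Submodule.mem_bot] at hb
  rw [he, hb, zero_mul, add_zero]
  exact ha

/-- The group `1 + N`. -/
def onePlus {N : Submodule k (Module.End k M)} (hN : IsNilAlg N) :
    Subgroup (LinearMap.GeneralLinearGroup k M) where
  carrier := {g | (g : Module.End k M) - 1 ∈ N}
  one_mem' := by simp
  mul_mem' := by
    intro a b ha hb
    show ((a * b : LinearMap.GeneralLinearGroup k M) : Module.End k M) - 1 ∈ N
    have : ((a * b : LinearMap.GeneralLinearGroup k M) : Module.End k M) - 1 =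
        ((a : Module.End k M) - 1) * ((b : Module.End k M) - 1) + ((a : Module.End k M) - 1) +
          ((b : Module.End k M) - 1) := by
      rw [Units.val_mul]; noncomm_ring
    rw [this]
    exact add_mem (add_mem (hN.mul (Submodule.mul_mem_mul ha hb)) ha) hb
  inv_mem' := fun h => inv_sub_one_mem hN h

theorem mem_onePlus {N : Submodule k (Module.End k M)} (hN : IsNilAlg N) {g : LinearMap.GeneralLinearGroup k M} :
    g ∈ onePlus hN ↔ (g : Module.End k M) - 1 ∈ N := Iff.rfl

theorem conj_sub_one_mem {N : Submodule k (Module.End k M)} (hN : IsNilAlg N)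
    {u g : LinearMap.GeneralLinearGroup k M} (hu : u ∈ onePlus hN) (hg : g ∈ onePlus hN) :
    u * g * u⁻¹ ∈ onePlus hN :=
  mul_mem (mul_mem hu hg) (inv_mem hu)

/-- The product of a unipotent group with a unipotent group normalising it is unipotent. -/
theorem isUnipotentOn_sup {H V : Subgroup (LinearMap.GeneralLinearGroup k M)} (hH : Cfsg.IsUnipotentOn H)
    (hV : Cfsg.IsUnipotentOn V) (hVH : ∀ v ∈ V, ∀ h ∈ H, v * h * v⁻¹ ∈ H) : Cfsg.IsUnipotentOn (H ⊔ V) := by
  set a := env H with ha
  set b := env V with hb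
  have hba : b * a ≤ a + a * b := by
    rw [hb, ha, env, env, Submodule.span_mul_span, Submodule.span_le]
    rintro _ ⟨_, ⟨v, hv, rfl⟩, _, ⟨h, hh, rfl⟩, rfl⟩
    show ((v : Module.End k M) - 1) * ((h : Module.End k M) - 1) ∈ env H + env H * env V
    set h' := v * h * v⁻¹ with hh'
    have hh'H : h' ∈ H := hVH v hv h hh
    have e : (v : Module.End k M) * (h : Module.End k M) = (h' : Module.End k M) * (v : Module.End k M) := by
      rw [← Units.val_mul, ← Units.val_mul, hh', inv_mul_cancel_right]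
    have : ((v : Module.End k M) - 1) * ((h : Module.End k M) - 1) =
        (((h' : Module.End k M) - 1) - ((h : Module.End k M) - 1)) +
          ((h' : Module.End k M) - 1) * ((v : Module.End k M) - 1) := by
      calc ((v : Module.End k M) - 1) * ((h : Module.End k M) - 1)
          = (v : Module.End k M) * (h : Module.End k M) - v - h + 1 := by noncomm_ring
        _ = (h' : Module.End k M) * (v : Module.End k M) - v - h + 1 := by rw [e]
        _ = _ := by noncomm_ring
    rw [this, Submodule.add_eq_sup]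
    exact add_mem (Submodule.mem_sup_left (sub_mem (sub_one_mem_env hh'H) (sub_one_mem_env hh)))
      (Submodule.mem_sup_right (Submodule.mul_mem_mul (sub_one_mem_env hh'H) (sub_one_mem_env hv)))
  have haa : a * a ≤ a := env_mul_self H
  have hbb : b * b ≤ b := env_mul_self V
  obtain ⟨nH, hnH⟩ := (isNilAlg_env hH).nil
  obtain ⟨nV, hnV⟩ := (isNilAlg_env hV).nil
  set B : Submodule k (Module.End k M) := 1 + b with hB
  set I := a * B with hI
  have hI' : I = a + a * b := by rw [hI, hB, mul_add, mul_one]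
  have h1B : (1 : Submodule k (Module.End k M)) ≤ B := by rw [hB, Submodule.add_eq_sup]; exact le_sup_left
  have hbB : b ≤ B := by rw [hB, Submodule.add_eq_sup]; exact le_sup_right
  have hBa : B * a ≤ I := by
    rw [hB, add_mul, one_mul, Submodule.add_eq_sup]
    refine sup_le ?_ (by rw [hI']; exact hba)
    exact le_trans (le_of_eq (mul_one a).symm) (mulR h1B)
  have hBB : B * B ≤ B := by
    rw [hB, add_mul, one_mul, mul_add, mul_one]
    simp only [Submodule.add_eq_sup]
    exact sup_le le_rfl (sup_le le_sup_right (hbb.trans le_sup_right))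
  have hII : I * I ≤ I := by
    calc I * I = a * (B * a) * B := by simp only [hI, mul_assoc]
      _ ≤ a * I * B := mulL (mulR hBa)
      _ = (a * a) * (B * B) := by simp only [hI, mul_assoc]
      _ ≤ I := mulM haa hBB
  have hIb : I * b ≤ I := by
    calc I * b ≤ I * B := mulR hbB
      _ = a * (B * B) := by simp only [hI, mul_assoc]
      _ ≤ I := mulR hBB
  have hbI : b * I ≤ I := by
    calc b * I ≤ B * I := mulL hbB
      _ = B * a * B := by rw [hI, mul_assoc]
      _ ≤ I * B := mulL hBa
      _ = a * (B * B) := by simp only [hI, mul_assoc]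
      _ ≤ I := mulR hBB
  have hIn : ∀ j, I ^ (j + 1) ≤ a ^ (j + 1) * B := by
    intro j
    induction j with
    | zero => simp [hI]
    | succ j ih =>
      calc I ^ (j + 1 + 1) = I ^ (j + 1) * I := pow_succ _ _
        _ ≤ a ^ (j + 1) * B * I := mulL ih
        _ = a ^ (j + 1) * (B * a) * B := by simp only [hI, mul_assoc]
        _ ≤ a ^ (j + 1) * I * B := mulL (mulR hBa)
        _ = a ^ (j + 1 + 1) * (B * B) := by rw [hI, pow_succ (a) (j + 1)]; simp only [mul_assoc]
        _ ≤ a ^ (j + 1 + 1) * B := mulR hBB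
  set J := env (H ⊔ V) with hJ
  have hJI : J ≤ I + b := by
    rw [hJ, env, Submodule.span_le]
    rintro _ ⟨g, hg, rfl⟩
    have hnorm : V ≤ Subgroup.normalizer (H : Set (LinearMap.GeneralLinearGroup k M)) := by
      intro v hv
      rw [Subgroup.mem_normalizer_iff]
      refine fun h => ⟨hVH v hv h, fun hh => ?_⟩
      have := hVH v⁻¹ (inv_mem hv) _ hh
      simpa [mul_assoc] using this
    have hg' : g ∈ ((H ⊔ V : Subgroup (LinearMap.GeneralLinearGroup k M)) : Set (LinearMap.GeneralLinearGroup k M)) := hg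
    rw [Subgroup.coe_mul_of_right_le_normalizer_left H V hnorm] at hg'
    obtain ⟨h, hh, v, hv, rfl⟩ := hg'
    show ((h * v : LinearMap.GeneralLinearGroup k M) : Module.End k M) - 1 ∈ I + b
    have : ((h * v : LinearMap.GeneralLinearGroup k M) : Module.End k M) - 1 =
        (((h : Module.End k M) - 1) + ((h : Module.End k M) - 1) * ((v : Module.End k M) - 1)) +
          ((v : Module.End k M) - 1) := by
      rw [Units.val_mul]; noncomm_ring
    rw [this, hI', Submodule.add_eq_sup, Submodule.add_eq_sup]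
    exact add_mem (Submodule.mem_sup_left (add_mem (Submodule.mem_sup_left (sub_one_mem_env hh))
      (Submodule.mem_sup_right (Submodule.mul_mem_mul (sub_one_mem_env hh) (sub_one_mem_env hv)))))
      (Submodule.mem_sup_right (sub_one_mem_env hv))
  have hbjI : ∀ j, b ^ (j + 1) * I ≤ I := by
    intro j
    induction j with
    | zero => simpa using hbI
    | succ j ih =>
      calc b ^ (j + 1 + 1) * I = b ^ (j + 1) * (b * I) := by rw [pow_succ b (j+1), mul_assoc]
        _ ≤ b ^ (j + 1) * I := mulR hbI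
        _ ≤ I := ih
  have hJp : ∀ j, J ^ (j + 1) ≤ I + b ^ (j + 1) := by
    intro j
    induction j with
    | zero => simpa using hJI
    | succ j ih =>
      calc J ^ (j + 1 + 1) = J ^ (j + 1) * J := pow_succ _ _
        _ ≤ (I + b ^ (j + 1)) * (I + b) := mulM ih hJI
        _ ≤ I + b ^ (j + 1 + 1) := by
          rw [add_mul, mul_add, mul_add, ← pow_succ]
          simp only [Submodule.add_eq_sup]
          exact sup_le (sup_le (hII.trans le_sup_left) (hIb.trans le_sup_left))
            (sup_le ((hbjI j).trans le_sup_left) le_sup_right)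
  have hJnV : J ^ (nV + 1) ≤ I := by
    refine (hJp nV).trans ?_
    rw [hb] at *
    rw [hnV, Submodule.add_eq_sup, sup_bot_eq]
  refine isUnipotentOn_of_le (N := J) ⟨env_mul_self _, (nV + 1) * (nH + 1) - 1, ?_⟩ (fun g hg => sub_one_mem_env hg)
  have hpos : 1 ≤ (nV + 1) * (nH + 1) := Nat.one_le_iff_ne_zero.2 (by positivity)
  rw [Nat.sub_add_cancel hpos, pow_mul]
  have hpm : ∀ j, (J ^ (nV + 1)) ^ j ≤ I ^ j := by
    intro j
    induction j with
    | zero => simp
    | succ j ih => rw [pow_succ _ j, pow_succ I j]; exact mulM ih hJnV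
  refine le_bot_iff.1 ((hpm (nH + 1)).trans ((hIn nH).trans ?_))
  rw [ha, hnH, Submodule.bot_mul]

variable [FiniteDimensional k M]

theorem join_isUnipotent {G : Subgroup (LinearMap.GeneralLinearGroup k M)}
    {W : Set (Subgroup (LinearMap.GeneralLinearGroup k M))} (hWG : ∀ A ∈ W, A ≤ G)
    (hWW : ∀ A ∈ W, ∀ B ∈ W, Cfsg.IsUnipotentOn (A ⊔ B)) (hWconj : ∀ A ∈ W, ∀ g ∈ G, Cfsg.conjBy A g ∈ W) :
    Cfsg.IsUnipotentOn (⨆ A ∈ W, A) := by
  classical
  set S : Set (LinearMap.GeneralLinearGroup k M) := {x | ∃ A ∈ W, x ∈ A} with hS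
  have hSG : ∀ x ∈ S, x ∈ G := fun x ⟨A, hA, hx⟩ => hWG A hA hx
  have hSconj : ∀ x ∈ S, ∀ g ∈ G, g * x * g⁻¹ ∈ S := fun x ⟨A, hA, hx⟩ g hg =>
    ⟨_, hWconj A hA g hg, x, hx, rfl⟩
  have hle : (⨆ A ∈ W, A) ≤ Subgroup.closure S :=
    iSup₂_le fun A hA x hx => Subgroup.subset_closure ⟨A, hA, hx⟩
  suffices h : ∃ (N : Submodule k (Module.End k M)) (hN : IsNilAlg N), ∀ x ∈ S, x ∈ onePlus hN by
    obtain ⟨N, hN, hall⟩ := h
    exact isUnipotentOn_of_le hN fun g hg => (Subgroup.closure_le _).2 hall (hle hg)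
  -- the nil algebras generated by parts of `S`
  set T : Set (Submodule k (Module.End k M)) :=
    {N | ∃ Y ⊆ S, Cfsg.IsUnipotentOn (Subgroup.closure Y) ∧ N = env (Subgroup.closure Y)} with hT
  have hTnil : ∀ N ∈ T, IsNilAlg N := by
    rintro N ⟨Y, -, hY, rfl⟩; exact isNilAlg_env hY
  let X : Submodule k (Module.End k M) → Set (LinearMap.GeneralLinearGroup k M) :=
    fun N => {x | x ∈ S ∧ (x : Module.End k M) - 1 ∈ N}
  have hex : ∀ N ∈ T, ∃ N' , N ≤ N' ∧ Maximal (· ∈ T) N' := by
    intro N hN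
    obtain ⟨N', ⟨hN'T, hle'⟩, hmax⟩ := wellFounded_gt.has_min {K | K ∈ T ∧ N ≤ K} ⟨N, hN, le_rfl⟩
    refine ⟨N', hle', hN'T, fun K hK hKle => ?_⟩
    by_contra hne
    exact hmax K ⟨hK, hle'.trans hKle⟩ (lt_of_le_not_ge hKle hne)
  have henvX : ∀ N ∈ T, Cfsg.IsUnipotentOn (Subgroup.closure (X N)) ∧ env (Subgroup.closure (X N)) = N := by
    intro N hN
    have hnil := hTnil N hN
    have hsub : Subgroup.closure (X N) ≤ onePlus hnil := (Subgroup.closure_le _).2 fun x hx => hx.2
    refine ⟨isUnipotentOn_of_le hnil fun g hg => hsub hg, le_antisymm ?_ ?_⟩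
    · rw [env, Submodule.span_le]
      rintro _ ⟨g, hg, rfl⟩
      exact hsub hg
    · obtain ⟨Y, hYS, hY, rfl⟩ := hN
      exact env_mono (Subgroup.closure_mono fun y hy => ⟨hYS hy, sub_one_mem_env (Subgroup.subset_closure hy)⟩)
  have h0 : env (Subgroup.closure (∅ : Set (LinearMap.GeneralLinearGroup k M))) ∈ T := by
    refine ⟨∅, Set.empty_subset _, unipotent_iff.2 ⟨1, fun l hl hlen => ?_⟩, rfl⟩
    obtain ⟨g, rfl⟩ := List.length_eq_one_iff.1 hlen
    have := hl g List.mem_cons_self
    rw [Subgroup.closure_empty, Subgroup.mem_bot] at this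
    simp [this]
  have hcov : ∀ x ∈ S, ∃ N, Maximal (· ∈ T) N ∧ x ∈ X N := by
    rintro x hx
    obtain ⟨A, hA, hxA⟩ := hx
    have hu : Cfsg.IsUnipotentOn (Subgroup.closure {x}) := by
      obtain ⟨n, hn⟩ := hWW A hA A hA
      refine ⟨n, fun l hl hlen => hn l (fun g hg => Subgroup.mem_sup_left ((Subgroup.closure_le _).2 ?_ (hl g hg))) hlen⟩
      simpa using hxA
    obtain ⟨N, hle', hmax⟩ := hex _ ⟨{x}, by simpa using ⟨A, hA, hxA⟩, hu, rfl⟩
    exact ⟨N, hmax, ⟨A, hA, hxA⟩, hle' (sub_one_mem_env (Subgroup.subset_closure rfl))⟩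
  obtain ⟨N₀, -, hN₀⟩ := hex _ h0
  refine ⟨N₀, hTnil _ hN₀.1, ?_⟩
  by_contra hcon
  -- pairs of distinct maximal algebras exist
  set P : Set (Submodule k (Module.End k M)) :=
    {K | ∃ N₁ N₂, Maximal (· ∈ T) N₁ ∧ Maximal (· ∈ T) N₂ ∧ N₁ ≠ N₂ ∧
      K = env (Subgroup.closure (X N₁ ∩ X N₂))} with hP
  have hPne : P.Nonempty := by
    simp only [not_forall] at hcon
    obtain ⟨x, hx, hxN⟩ := hcon
    obtain ⟨N, hN, hxN'⟩ := hcov x hx
    exact ⟨_, N, N₀, hN, hN₀, fun h => hxN (h ▸ hxN'.2), rfl⟩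
  obtain ⟨K, hKP, hKmax⟩ := wellFounded_gt.has_min P hPne
  obtain ⟨N₁, N₂, hN₁, hN₂, hne, rfl⟩ := hKP
  set D := X N₁ ∩ X N₂ with hD
  -- conjugation by a subgroup of `onePlus N` inside `G` fixes `X N`
  have hXconj : ∀ N ∈ T, ∀ u ∈ Subgroup.closure (X N), ∀ x ∈ X N, u * x * u⁻¹ ∈ X N := by
    intro N hN u hu x hx
    have huG : u ∈ G := (Subgroup.closure_le _).2 (fun y hy => hSG y hy.1) hu
    have huN : u ∈ onePlus (hTnil N hN) := (Subgroup.closure_le _).2 (fun y hy => hy.2) hu
    exact ⟨hSconj x hx.1 u huG, conj_sub_one_mem (hTnil N hN) huN hx.2⟩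
  have hgrow : ∀ N N', Maximal (· ∈ T) N → Maximal (· ∈ T) N' → N ≠ N' →
      ∃ x ∈ X N, x ∉ X N' ∧ ∀ d ∈ X N ∩ X N', x * d * x⁻¹ ∈ X N ∩ X N' ∧ x⁻¹ * d * x ∈ X N ∩ X N' := by
    intro N N' hN hN' hne'
    set U := Subgroup.closure (X N) with hU
    set D' := X N ∩ X N' with hD'
    set St : Set (LinearMap.GeneralLinearGroup k M) :=
      {u | u ∈ U ∧ (∀ d ∈ D', u * d * u⁻¹ ∈ D') ∧ ∀ d ∈ D', u⁻¹ * d * u ∈ D'} with hSt
    by_contra hno
    push_neg at hno
    have hsubD : ∀ y ∈ X N, y ∈ St → y ∈ X N' := by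
      intro y hy hst
      by_contra hy'
      obtain ⟨d, hd, hd'⟩ := hno y hy hy'
      exact hd' (hst.2.1 d hd) (hst.2.2 d hd)
    have hDSt : ∀ d ∈ D', d ∈ St := by
      intro d hd
      have h1 : d ∈ U := Subgroup.subset_closure hd.1
      have h2 : d ∈ Subgroup.closure (X N') := Subgroup.subset_closure hd.2
      refine ⟨h1, fun e he => ⟨hXconj N hN.1 d h1 e he.1, hXconj N' hN'.1 d h2 e he.2⟩, fun e he => ?_⟩
      have := hXconj N hN.1 _ (inv_mem h1) e he.1
      have := hXconj N' hN'.1 _ (inv_mem h2) e he.2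
      simp only [inv_inv] at *
      exact ⟨by assumption, by assumption⟩
    -- the filtration of `U` by powers of `N`
    obtain ⟨n, hn⟩ := (hTnil N hN.1).nil
    have hNpow : ∀ u ∈ U, (u : Module.End k M) - 1 ∈ N ^ (n + 1) → u = 1 := by
      intro u _ hu
      rw [hn, Submodule.mem_bot, sub_eq_zero] at hu
      exact Units.ext hu
    have hex' : ∃ j, ∀ u ∈ U, (u : Module.End k M) - 1 ∈ N ^ (j + 1) → u ∈ St := by
      refine ⟨n, fun u hu hu' => ?_⟩
      rw [hNpow u hu hu']
      exact ⟨one_mem _, fun d hd => by simpa using hd, fun d hd => by simpa using hd⟩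
    classical
    cases hj : Nat.find hex' with
    | zero =>
      have h := Nat.find_spec hex'
      rw [hj] at h
      have hall : X N ⊆ X N' := fun y hy => hsubD y hy
        (h y (Subgroup.subset_closure hy) (by simpa using hy.2))
      apply hne'
      apply hN.eq_of_le hN'.1
      rw [← (henvX N hN.1).2, ← (henvX N' hN'.1).2]
      exact env_mono (Subgroup.closure_mono hall)
    | succ j =>
      have hspec := Nat.find_spec hex'
      rw [hj] at hspec
      have hmin := Nat.find_min hex' (m := j) (by omega)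
      simp only [not_forall] at hmin
      obtain ⟨u, hu, hu', hust⟩ := hmin
      apply hust
      have huN : u ∈ onePlus (hTnil N hN.1) := (Subgroup.closure_le _).2 (fun y hy => hy.2) hu
      have hpow_le : N ^ (j + 1) ≤ N := by
        clear hu' hspec hj
        induction j with
        | zero => simp
        | succ j ihi => rw [pow_succ]; exact (mulL ihi).trans (hTnil N hN.1).mul
      -- commutators with `u` are deeper in the filtration
      have hcomm : ∀ w, w ∈ U → (w : Module.End k M) - 1 ∈ N ^ (j + 1) → ∀ d ∈ D', w * d * w⁻¹ ∈ D' := by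
        intro w hw hw' d hd
        have hdU : d ∈ U := Subgroup.subset_closure hd.1
        have hcU : w * d * w⁻¹ * d⁻¹ ∈ U := mul_mem (mul_mem (mul_mem hw hdU) (inv_mem hw)) (inv_mem hdU)
        have hc : ((w * d * w⁻¹ * d⁻¹ : LinearMap.GeneralLinearGroup k M) : Module.End k M) - 1 ∈ N ^ (j + 1 + 1) := by
          set p := (w : Module.End k M) - 1 with hp
          set q := (d : Module.End k M) - 1 with hq
          have hq' : q ∈ N := hd.1.2
          have hinv := inv_sub_one_mem (hTnil N hN.1) (g := d * w)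
            ((onePlus (hTnil N hN.1)).mul_mem hd.1.2
              ((Subgroup.closure_le (onePlus (hTnil N hN.1))).2 (fun y hy => hy.2) hw))
          have e : w * d * w⁻¹ * d⁻¹ = w * d * (d * w)⁻¹ := by rw [mul_inv_rev, ← mul_assoc]
          rw [e, Units.val_mul]
          set r := (((d * w)⁻¹ : LinearMap.GeneralLinearGroup k M) : Module.End k M) - 1 with hr
          have hone : ((d * w : LinearMap.GeneralLinearGroup k M) : Module.End k M) *
              (((d * w)⁻¹ : LinearMap.GeneralLinearGroup k M) : Module.End k M) = 1 := Units.mul_inv _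
          have : ((w * d : LinearMap.GeneralLinearGroup k M) : Module.End k M) *
              (((d * w)⁻¹ : LinearMap.GeneralLinearGroup k M) : Module.End k M) - 1 =
              (p * q - q * p) + (p * q - q * p) * r := by
            rw [← hone, hp, hq, hr, Units.val_mul, Units.val_mul]
            noncomm_ring
          rw [this]
          have h1 : p * q - q * p ∈ N ^ (j + 1 + 1) := by
            refine sub_mem ?_ ?_
            · rw [pow_succ]; exact Submodule.mul_mem_mul hw' hq'
            · rw [pow_succ']; exact Submodule.mul_mem_mul hq' hw'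
          refine add_mem h1 ?_
          have h2 : (p * q - q * p) * r ∈ N ^ (j + 1 + 1) * N := Submodule.mul_mem_mul h1 hinv
          have h3 : N ^ (j + 1 + 1) * N ≤ N ^ (j + 1 + 1) := by
            rw [pow_succ N (j + 1), mul_assoc]
            exact mulR (hTnil N hN.1).mul
          exact h3 h2
        obtain ⟨-, hst, -⟩ := hspec _ hcU hc
        refine ⟨hXconj N hN.1 w hw d hd.1, ?_⟩
        have hmem : w * d * w⁻¹ ∈ St := by
          have h1 := hspec _ hcU hc
          have h2 := hDSt d hd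
          have e : w * d * w⁻¹ = w * d * w⁻¹ * d⁻¹ * d := by group
          refine ⟨mul_mem (mul_mem hw hdU) (inv_mem hw), fun x hx => ?_, fun x hx => ?_⟩
          · rw [e]
            have := h1.2.1 _ (h2.2.1 x hx)
            simpa [mul_assoc] using this
          · rw [e]
            have := h2.2.2 _ (h1.2.2 x hx)
            simpa [mul_assoc] using this
        exact hsubD _ (hXconj N hN.1 w hw d hd.1) hmem
      refine ⟨hu, hcomm u hu hu', fun d hd => ?_⟩
      have hinv : ((u⁻¹ : LinearMap.GeneralLinearGroup k M) : Module.End k M) - 1 ∈ N ^ (j + 1) := by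
        have hr := inv_sub_one_mem (hTnil N hN.1) (g := u) huN
        have e : ((u⁻¹ : LinearMap.GeneralLinearGroup k M) : Module.End k M) - 1 =
            - (((u : Module.End k M) - 1) + ((u : Module.End k M) - 1) *
              (((u⁻¹ : LinearMap.GeneralLinearGroup k M) : Module.End k M) - 1)) := by
          have h := u.mul_inv
          generalize ((u⁻¹ : LinearMap.GeneralLinearGroup k M) : Module.End k M) = v at h ⊢
          rw [mul_sub, sub_mul, mul_one, h]
          noncomm_ring
        rw [e]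
        refine neg_mem (add_mem hu' ?_)
        have h3 : N ^ (j + 1) * N ≤ N ^ (j + 1) := by
          rw [pow_succ N j, mul_assoc]
          exact mulR (hTnil N hN.1).mul
        exact h3 (Submodule.mul_mem_mul hu' hr)
      have := hcomm u⁻¹ (inv_mem hu) hinv d hd
      simpa using this
  obtain ⟨x₁, hx₁, hx₁', hs₁⟩ := hgrow N₁ N₂ hN₁ hN₂ hne
  obtain ⟨x₂, hx₂, hx₂', hs₂⟩ := hgrow N₂ N₁ hN₂ hN₁ hne.symm
  set H := Subgroup.closure D with hH
  set V := Subgroup.closure ({x₁, x₂} : Set (LinearMap.GeneralLinearGroup k M)) with hV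
  have hHu : Cfsg.IsUnipotentOn H := by
    obtain ⟨n, hn⟩ := (henvX N₁ hN₁.1).1
    exact ⟨n, fun l hl => hn l fun g hg => Subgroup.closure_mono Set.inter_subset_left (hl g hg)⟩
  have hVu : Cfsg.IsUnipotentOn V := by
    obtain ⟨A, hA, hxA⟩ := hx₁.1
    obtain ⟨B, hB, hxB⟩ := hx₂.1
    obtain ⟨n, hn⟩ := hWW A hA B hB
    refine ⟨n, fun l hl hlen => hn l (fun g hg => (Subgroup.closure_le _).2 ?_ (hl g hg)) hlen⟩
    rintro y (rfl | rfl)
    · exact Subgroup.mem_sup_left hxA
    · exact Subgroup.mem_sup_right hxB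
  have hVH : ∀ v ∈ V, ∀ h ∈ H, v * h * v⁻¹ ∈ H := by
    intro v hv
    have hv' : v ∈ Subgroup.normalizer (H : Set (LinearMap.GeneralLinearGroup k M)) := by
      refine (Subgroup.closure_le _).2 ?_ hv
      have aux : ∀ x : LinearMap.GeneralLinearGroup k M, (∀ d ∈ D, x * d * x⁻¹ ∈ D) →
          ∀ h ∈ H, x * h * x⁻¹ ∈ H := by
        intro x hx h hh
        exact (Subgroup.closure_le (H.comap (MulAut.conj x).toMonoidHom)).2
          (fun d hd => Subgroup.subset_closure (hx d hd)) hh
      have aux2 : ∀ x : LinearMap.GeneralLinearGroup k M, (∀ d ∈ D, x * d * x⁻¹ ∈ D ∧ x⁻¹ * d * x ∈ D) →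
          x ∈ Subgroup.normalizer (H : Set (LinearMap.GeneralLinearGroup k M)) := by
        intro x hx
        rw [Subgroup.mem_normalizer_iff]
        refine fun h => ⟨aux x (fun d hd => (hx d hd).1) h, fun hh => ?_⟩
        have := aux x⁻¹ (fun d hd => by simpa using (hx d hd).2) _ hh
        simpa [mul_assoc] using this
      rintro y (rfl | rfl)
      · exact aux2 y hs₁
      · refine aux2 y fun d hd => ?_
        have := hs₂ d ⟨hd.2, hd.1⟩
        exact ⟨⟨this.1.2, this.1.1⟩, this.2.2, this.2.1⟩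
    exact fun h hh => (Subgroup.mem_normalizer_iff.1 hv' h).1 hh
  have hu3 := isUnipotentOn_sup hHu hVu hVH
  rw [hH, hV, ← Subgroup.closure_union] at hu3
  obtain ⟨N₃, hle3, hN₃⟩ := hex _ ⟨D ∪ {x₁, x₂}, by
    rintro y (hy | rfl | rfl)
    · exact hy.1.1
    · exact hx₁.1
    · exact hx₂.1, hu3, rfl⟩
  have hmem3 : ∀ y ∈ D ∪ {x₁, x₂}, y ∈ X N₃ := by
    intro y hy
    refine ⟨?_, hle3 (sub_one_mem_env (Subgroup.subset_closure hy))⟩
    rcases hy with hy | rfl | rfl
    · exact hy.1.1
    · exact hx₁.1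
    · exact hx₂.1
  have hne3 : N₁ ≠ N₃ := fun h => hx₂' (h ▸ hmem3 x₂ (by simp))
  refine hKmax (env (Subgroup.closure (X N₁ ∩ X N₃))) ⟨N₁, N₃, hN₁, hN₃, hne3, rfl⟩ ?_
  refine lt_of_le_not_ge (env_mono (Subgroup.closure_mono fun d hd => ⟨hd.1, hmem3 d (Or.inl hd)⟩)) fun hle4 => ?_
  apply hx₁'
  refine ⟨hx₁.1, ?_⟩
  have h1 : (x₁ : Module.End k M) - 1 ∈ env (Subgroup.closure D) :=
    hle4 (sub_one_mem_env (Subgroup.subset_closure ⟨hx₁, hmem3 x₁ (by simp)⟩))
  rw [← (henvX N₂ hN₂.1).2]
  exact env_mono (Subgroup.closure_mono Set.inter_subset_right) h1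

end

/-- Let M be a finite-dimensional vector space over a field k, G ≤ GL(M), and 𝒲 a set of subgroups of G, invariant under conjugation by G, such that any two members of 𝒲 generate a subgroup acting unipotently on M (for some n all products of n endomorphisms g − 1 from it vanish). Then the subgroup generated by all members of 𝒲 acts unipotently on M and is normal in G. -/
theorem result {k : Type*} [Field k] {M : Type*} [AddCommGroup M] [Module k M] [FiniteDimensional k M]
    {G : Subgroup (LinearMap.GeneralLinearGroup k M)} {W : Set (Subgroup (LinearMap.GeneralLinearGroup k M))} (hWG : ∀ A ∈ W, A ≤ G)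
    (hWW : ∀ A ∈ W, ∀ B ∈ W, Cfsg.IsUnipotentOn (A ⊔ B)) (hWconj : ∀ A ∈ W, ∀ g ∈ G, Cfsg.conjBy A g ∈ W) :
    Cfsg.IsUnipotentOn (⨆ A ∈ W, A) ∧ ∀ g ∈ G, Cfsg.conjBy (⨆ A ∈ W, A) g = ⨆ A ∈ W, A := by
  refine ⟨join_isUnipotent hWG hWW hWconj, ?_⟩
  have hle : ∀ g ∈ G, Cfsg.conjBy (⨆ A ∈ W, A) g ≤ ⨆ A ∈ W, A := by
    intro g hg
    rw [Subgroup.map_le_iff_le_comap]
    refine iSup₂_le fun A hA => ?_
    rw [← Subgroup.map_le_iff_le_comap]
    exact le_iSup₂_of_le (Cfsg.conjBy A g) (hWconj A hA g hg) le_rfl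
  intro g hg
  refine le_antisymm (hle g hg) fun x hx => ?_
  refine ⟨g⁻¹ * x * g, hle g⁻¹ (inv_mem hg) ⟨x, hx, ?_⟩, ?_⟩
  · simp [mul_assoc]
  · simp [mul_assoc]

end Cfsg.Agent.S5061
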