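import Cfsg.Statements.S5031
import Cfsg.Agent.Lib.RootSubConn
-- import your own Cfsg.Agent.* helpers here

set_option autoImplicit false
open Cfsg

namespace Cfsg.Agent.S5031

/-- Let S be a set of abstract root subgroups of G and let A, B ∈ S lie in different connected components of the graph of rank one pairs on S, each component having more than one member. Then B is not a line partner of A. -/
theorem result {G : Type*} [Group G] {S : Set (Subgroup G)} (hS : Cfsg.IsRootSubgroupSet S)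
    {A B : Subgroup G} (hA : A ∈ S) (hB : B ∈ S)
    (hne : Cfsg.componentOf (Cfsg.FAdj S) S A ≠ Cfsg.componentOf (Cfsg.FAdj S) S B)
    (hA2 : ∃ A' ∈ Cfsg.componentOf (Cfsg.FAdj S) S A, A' ≠ A) (hB2 : ∃ B' ∈ Cfsg.componentOf (Cfsg.FAdj S) S B, B' ≠ B) :
    B ∉ Cfsg.linePartners S A := by
  intro hBl
  have hl := RootSubConn.isLine_of_linePartners hA hBl
  have partner : ∀ {P : Subgroup G}, (∃ P' ∈ componentOf (FAdj S) S P, P' ≠ P) →
      ∃ D ∈ S, IsRankOnePair P D := by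
    rintro P ⟨P', ⟨-, hP'⟩, hne'⟩
    rcases hP'.cases_head with h | ⟨D, hD, -⟩
    · exact absurd h.symm hne'
    · exact ⟨D, hD.2.1, hD.2.2⟩
  obtain ⟨D, hD, hp⟩ := partner hA2
  obtain ⟨DB, hDB, hpB⟩ := partner hB2
  suffices hconj : ∃ g, B = conjBy A g by
    obtain ⟨g, hg⟩ := hconj
    have hpath := RootSubConn.path_to_conj hS hA hD hp g
    rw [← hg] at hpath
    apply hne
    ext E
    exact ⟨fun hE => ⟨hE.1, (RootSubConn.rfl_trans_symm S hpath).trans hE.2⟩,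
      fun hE => ⟨hE.1, hpath.trans hE.2⟩⟩
  obtain ⟨M, hM, hMle, hMA, hMD⟩ := RootSubConn.exists_nonpartner hS hD hp hl
  obtain ⟨h1, he1⟩ := RootSubConn.line_structure hS hD hp hl hM hMle hMA hMD
  have hmm : B ∈ membersIn S (A ⊔ ⁅A, ⁅M, D⁆⁆) := ⟨hB, by
    rw [he1, ← RootSubConn.line_eq hS hD hp hl hDB hpB hM hMle hMA hMD]; exact le_sup_right⟩
  rw [RootSubLine.members_line hS hA hD hp h1, he1] at hmm
  rcases hmm with ⟨g, -, hg⟩ | hBM
  · exact ⟨g, hg.symm⟩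
  obtain ⟨M', hM', hMle', hMB', hMD'⟩ := RootSubConn.exists_nonpartner hS hDB hpB hl.symm
  obtain ⟨h2, he2⟩ := RootSubConn.line_structure hS hDB hpB hl.symm hM' hMle' hMB' hMD'
  have hmm : A ∈ membersIn S (B ⊔ ⁅B, ⁅M', DB⁆⁆) := ⟨hA, by
    rw [he2, ← RootSubConn.line_eq hS hDB hpB hl.symm hD hp hM' hMle' hMB' hMD']; exact le_sup_right⟩
  rw [RootSubLine.members_line hS hB hDB hpB h2, he2] at hmm
  rcases hmm with ⟨g, -, hg⟩ | hAM
  · exact ⟨g⁻¹, by rw [← hg, RankOne.conjBy_inv_conjBy]⟩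
  rw [Set.mem_singleton_iff] at hBM hAM
  set F := ⁅M, D⁆ with hF
  set F' := ⁅M', DB⁆ with hF'
  rw [← hBM] at he1
  rw [← hAM] at he2
  have h2' : RootCommutatorCase S F' ⁅A, F⁆ := by rw [he1]; exact RootSub.rc_symm h2
  have hDC : ⁅F', ⁅A, F⁆⁆ = A := by rw [he1, Subgroup.commutator_comm]; exact he2
  have horb := (RootSubLine.orbit_facts hS h1 h2' hDC hMD.1 hMD'.1).2.1
  have hmem : B ∈ {E | ∃ x ∈ F ⊔ F', E = conjBy A x} := by
    rw [horb]; exact Or.inr he1.symm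
  obtain ⟨x, -, hx⟩ := hmem
  exact ⟨x, hx⟩

end Cfsg.Agent.S5031
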