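import Cfsg.Statements.S0966
import Cfsg.Agent.Lib.BrauerBlocksCovering

set_option autoImplicit false
open Cfsg Cfsg.Agent.BlockTheoryLocalRing Cfsg.Agent.BlockTheoryCentre Cfsg.Agent.BlockTheoryIdem Cfsg.Agent.BlockTheoryBrauer Cfsg.Agent.BlockTheoryNormal Cfsg.Agent.BrauerBlocksCovering 
open scoped ComplexConjugate

namespace Cfsg.Agent.S0966

/-- Let N be a normal subgroup of p-power index in the finite group G and b a block of N relative to a maximal ideal M of the algebraic integers containing p. Then there is exactly one block B of G containing a character whose restriction to N has a constituent in b. -/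
theorem result {G : Type*} [Group G] [Fintype G] (p : ℕ) [Fact p.Prime] (M : Ideal Cfsg.AlgInt) (hM : Cfsg.IsPModular p M) (N : Subgroup G) [N.Normal] [Fintype N] (hidx : ∃ k : ℕ, N.index = p ^ k) (b : Set (Cfsg.IrrCharacter N)) (hb : Cfsg.IsPBlock M b) : ∃! B : Set (Cfsg.IrrCharacter G), Cfsg.IsPBlock M B ∧ ∃ χ ∈ B, ∃ θ ∈ b, Cfsg.classInner (fun n : N => (χ : G → ℂ) n) (θ : N → ℂ) ≠ 0 := by
  classical
  obtain ⟨θ, hθ⟩ := block_nonempty hM hb
  obtain ⟨χ, hχ⟩ := exists_constituent
    (CharInduced.isCharacter_ind N (CharBasic.isCharacter_of_isIrrCharacter θ.2)) (by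
      rw [CharInduced.ind_one_apply]
      exact mul_ne_zero (Nat.cast_ne_zero.2 Subgroup.index_ne_zero_of_finite) (irr_one_ne_zero θ))
  have hres : classInner (fun n : N => (χ : G → ℂ) n) (θ : N → ℂ) ≠ 0 := by
    rw [CharInduced.inner_ind_left N _ (irr_classFun χ), ← CharBasicOrth.conj_classInner] at hχ
    exact fun h0 => hχ (by rw [h0, map_zero])
  refine ⟨blockOf M (χ : G → ℂ), ⟨isPBlock_blockOf χ, χ, self_mem_blockOf hM χ, θ, hθ, hres⟩, ?_⟩
  rintro B ⟨hB, χ', hχ', θ', hθ', hres'⟩
  refine (eq_blockOf_of_mem hM hB hχ').trans (blockOf_congr hM (sameBlock_of_regular hM fun g hg => ?_))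
  have hgN : g ∈ N := by
    obtain ⟨k, hk⟩ := hidx
    rw [← QuotientGroup.eq_one_iff]
    refine orderOf_eq_one_iff.mp (Nat.eq_one_of_dvd_coprimes
      ((Nat.Coprime.pow_right k ((Fact.out : p.Prime).coprime_iff_not_dvd.mpr hg).symm))
      (orderOf_map_dvd (QuotientGroup.mk' N) g) ?_)
    rw [← hk, Subgroup.index_eq_card]
    exact orderOf_dvd_natCard _
  rw [centralChar_eq_induced N χ' hres' hgN, centralChar_eq_induced N χ hres hgN,
    ← omega_res_classSum, ← omega_res_classSum]
  exact omega_sub_mem hM (sameBlock_of_mem hM hb hθ' hθ) (isCen_res N (isCen_classSum g))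
    (isInt_res N (isInt_classSum hM g))

end Cfsg.Agent.S0966
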