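import Cfsg.Statements.S4436
import Cfsg.Agent.Lib.FongReynolds78
import Cfsg.Agent.Lib.BlockTheoryDefect
import Cfsg.Agent.Lib.BlockTheoryHeight

set_option autoImplicit false
open Cfsg

namespace Cfsg.Agent.S4436

/-- Let N be a normal subgroup of the finite group G, b a block of N (relative to a maximal ideal M of the algebraic integers containing p), T the stabilizer of b in G, N ≤ T, and B′ a block of T covering b (some member of B′ has a constituent in b on restriction to N) that induces the block B of G. Then every defect group of B′ is a defect group of B, and for every ψ ∈ B′ the induced character ψ^G is an irreducible character of G lying in B with the same height as ψ. -/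
theorem result {G : Type*} [Group G] [Fintype G] (p : ℕ) [Fact p.Prime] (M : Ideal Cfsg.AlgInt) (hM : Cfsg.IsPModular p M) (N : Subgroup G) [hN : N.Normal] [Fintype N] (b : Set (Cfsg.IrrCharacter N)) (hb : Cfsg.IsPBlock M b) (T : Subgroup G) [Fintype T] (hT : ∀ g : G, g ∈ T ↔ ∀ θ ∈ b, ∀ θ' : Cfsg.IrrCharacter N, (∀ n : N, (θ' : N → ℂ) n = (θ : N → ℂ) ⟨g * n * g⁻¹, hN.conj_mem n n.2 g⟩) → θ' ∈ b) (hNT : N ≤ T) (B' : Set (Cfsg.IrrCharacter T)) (hB' : Cfsg.IsPBlock M B') (hcov : (∃ ψ ∈ B', ∃ θ ∈ b, Cfsg.classInner (fun n : N => (ψ : T → ℂ) ⟨(n : G), hNT n.2⟩) (θ : N → ℂ) ≠ 0)) (B : Set (Cfsg.IrrCharacter G)) (hind : Cfsg.IsInducedBlock M T B' B) : (∀ D : Subgroup T, Cfsg.IsDefectGroup p M B' D → Cfsg.IsDefectGroup p M B (D.map T.subtype)) ∧ ∀ ψ ∈ B', ∃ χ ∈ B, (χ : G → ℂ) = Cfsg.indFun T (ψ : T → ℂ) ∧ Cfsg.blockHeight p B (χ : G → ℂ) = Cfsg.blockHeight p B' (ψ : T → ℂ) := by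
  classical
  have hS := FongReynolds78.isStab_of_statement N hT
  obtain ⟨A, hA, -, -, hiff⟩ := FongReynolds78.correspondence hS hNT hM hb hB' hcov
  have e := BlockTheoryInduced.inducedBlock_unique T hM hA hind
  subst e
  have hall : ∀ ψ ∈ B', FongReynolds78.Over hNT (b := b) ψ := fun ψ hψ => by
    obtain ⟨ψ₀, hψ₀, ho⟩ := hcov
    exact FongReynolds78.over_of_sameBlock hS hNT hM hb
      (BlockTheoryIdem.sameBlock_of_mem hM hB' hψ₀ hψ) ho
  have hex : ∀ ψ ∈ B', ∃ χ ∈ A, (χ : G → ℂ) = indFun T (ψ : T → ℂ) := fun ψ hψ => by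
    obtain ⟨χ, he, -⟩ := FongReynolds78.exists_induced hS hNT hM hb (hall ψ hψ)
    exact ⟨χ, (hiff χ).2 ⟨ψ, hψ, he⟩, he⟩
  have hdeg : ∀ (χ : IrrCharacter G) (ψ : IrrCharacter T),
      (χ : G → ℂ) = indFun T (ψ : T → ℂ) →
      (charDegree (χ : G → ℂ)).factorization p =
        T.index.factorization p + (charDegree (ψ : T → ℂ)).factorization p := by
    intro χ ψ he
    obtain ⟨h1, hpos⟩ := BrauerBlocksHeight.apply_one_eq_charDegree ψ.2
    have : charDegree (χ : G → ℂ) = T.index * charDegree (ψ : T → ℂ) := by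
      conv_lhs => rw [charDegree, he, CharInduced.ind_one_apply, h1, ← Nat.cast_mul,
        Complex.natCast_re, Nat.floor_natCast]
    rw [this, Nat.factorization_mul Subgroup.index_ne_zero_of_finite hpos.ne']
    rfl
  have hBB' : IsPBlock M B' := hB'
  have hmin : BlockContrib.minExp p A = T.index.factorization p + BlockContrib.minExp p B' := by
    obtain ⟨ψ, hψ, hψ0⟩ := BlockContrib.exists_height_zero (p := p) hM hB'
    obtain ⟨χ, hχ, hχ0⟩ := BlockContrib.exists_height_zero (p := p) hM hA.2.1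
    have hψe := BlockContrib.exp_eq_add (p := p) hψ
    have hχe := BlockContrib.exp_eq_add (p := p) hχ
    rw [hψ0, add_zero] at hψe
    rw [hχ0, add_zero] at hχe
    obtain ⟨χ', hχ', he'⟩ := hex ψ hψ
    obtain ⟨ψ', hψ', he⟩ := (hiff χ).1 hχ
    have := hdeg _ _ he'
    have := hdeg _ _ he
    have := BlockContrib.minExp_le (p := p) hχ'
    have := BlockContrib.minExp_le (p := p) hψ'
    omega
  refine ⟨fun D hD => ?_, fun ψ hψ => ?_⟩
  · obtain ⟨E, hE⟩ := BlockTheoryDefect.exists_defectGroup (p := p) hM hA.2.1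
    have hle := BlockTheoryDefect.inducedBlock_defect_le hM T hA hD hE
    obtain ⟨x, hx⟩ := BlockTheoryDefect.eq_map_of_conjLe hle (by
      rw [BlockContribBounds.card_defectGroup hM hA.2.1 hE,
        Subgroup.card_map_of_injective Subtype.val_injective,
        BlockContribBounds.card_defectGroup hM hB' hD]
      refine le_of_eq (congrArg (p ^ ·) ?_)
      have := BlockTheoryHeight.index_exp (p := p) T
      have := BlockContrib.minExp_add_defect (p := p) hM hA.2.1
      have := BlockContrib.minExp_add_defect (p := p) hM hB'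
      omega)
    have := BlockTheoryDefect.isDefectGroup_map hE x⁻¹
    rw [← hx, Subgroup.map_map] at this
    convert this using 1
    ext g
    simp [Subgroup.mem_map, mul_assoc]
  · obtain ⟨χ, hχ, he⟩ := hex ψ hψ
    refine ⟨χ, hχ, he, ?_⟩
    have := hdeg _ _ he
    have := BlockContrib.exp_eq_add (p := p) hχ
    have := BlockContrib.exp_eq_add (p := p) hψ
    omega

end Cfsg.Agent.S4436
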