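import Cfsg.Statements.S3304
import Cfsg.Agent.Lib.BinaryOctahedral
import Cfsg.Agent.Lib.SylowQuotient
import Cfsg.Agent.Lib.HallCore
import Cfsg.Agent.Lib.ComponentsFitting
import Cfsg.Agent.Lib.CharTwoLocal
import Cfsg.Agent.Lib.PGroupsCyclic
import Cfsg.Agent.Lib.QuaternionOddAut

set_option autoImplicit false
open Cfsg

namespace Cfsg.Agent.S3304
open BinaryOctahedral QuaternionGroup

/-- Quaternion generators in `GL(2,3)`. -/
def glQ : Q8 → GL (Fin 2) (ZMod 3)
  | .a k => (⟨!![0, 2; 1, 0], !![0, 1; 2, 0], by decide +kernel, by decide +kernel⟩ : GL (Fin 2) (ZMod 3)) ^ k.val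
  | .xa k => (⟨!![2, 2; 2, 1], !![1, 1; 1, 2], by decide +kernel, by decide +kernel⟩ : GL (Fin 2) (ZMod 3)) *
      (⟨!![0, 2; 1, 0], !![0, 1; 2, 0], by decide +kernel, by decide +kernel⟩ : GL (Fin 2) (ZMod 3)) ^ k.val

theorem glQ_mul : ∀ x y, glQ (x * y) = glQ x * glQ y := by decide +kernel

/-- The element of order three. -/
def glC : GL (Fin 2) (ZMod 3) := ⟨!![1, 0; 2, 1], !![1, 0; 1, 1], by decide +kernel, by decide +kernel⟩

/-- The involution. -/
def glU : GL (Fin 2) (ZMod 3) := ⟨!![1, 0; 0, 2], !![1, 0; 0, 2], by decide +kernel, by decide +kernel⟩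

theorem gl_facts : glC ^ 3 = 1 ∧ (∀ q, glC * glQ q * glC⁻¹ = glQ (sig q)) ∧
    (∀ q, glU * glQ q * glU⁻¹ = glQ (tau q)) ∧ glU * glC * glU⁻¹ = glC⁻¹ ∧ glU * glU = glQ 1 := by
  decide +kernel

theorem gl_bij : Function.Bijective (toH (MonoidHom.mk' glQ glQ_mul) glC glU) := by
  decide +kernel

/-- The four-group in the symmetric group of degree four. -/
def pmQ : Q8 → Equiv.Perm (Fin 4)
  | .a k => (Equiv.swap 0 1 * Equiv.swap 2 3) ^ k.val
  | .xa k => (Equiv.swap 0 2 * Equiv.swap 1 3) * (Equiv.swap 0 1 * Equiv.swap 2 3) ^ k.val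

theorem pmQ_mul : ∀ x y, pmQ (x * y) = pmQ x * pmQ y := by decide +kernel

/-- A three-cycle. -/
def pmC : Equiv.Perm (Fin 4) := Equiv.swap 1 2 * Equiv.swap 2 3

/-- A transposition. -/
def pmU : Equiv.Perm (Fin 4) := Equiv.swap 2 3

theorem pm_facts : pmC ^ 3 = 1 ∧ (∀ q, pmC * pmQ q * pmC⁻¹ = pmQ (sig q)) ∧
    (∀ q, pmU * pmQ q * pmU⁻¹ = pmQ (tau q)) ∧ pmU * pmC * pmU⁻¹ = pmC⁻¹ ∧ pmU * pmU = pmQ (a 2) := by
  decide +kernel

theorem pm_surj : ∀ p : Equiv.Perm (Fin 4), ∃ x : Coord, toH (MonoidHom.mk' pmQ pmQ_mul) pmC pmU x = p := by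
  decide +kernel

theorem pm_ker : ∀ x : Coord, toH (MonoidHom.mk' pmQ pmQ_mul) pmC pmU x = 1 →
    x = (1, 0, 0) ∨ x = (a 2, 0, 0) := by
  decide +kernel

theorem coord_centre : ∀ x : Coord, (∀ y : Coord, mulC (a 2) x y = mulC (a 2) y x) →
    x = (1, 0, 0) ∨ x = (a 2, 0, 0) := by
  decide +kernel

theorem coord_ne : ((1, 0, 0) : Coord) ≠ (a 2, 0, 0) := by decide

theorem coord_central : ∀ y : Coord, mulC (a 2) (a 2, 0, 0) y = mulC (a 2) y (a 2, 0, 0) := by
  decide +kernel

/-- Powers of an element of order eight, in coordinates. -/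
def powW : ℕ → Coord
  | 0 => (1, 0, 0)
  | n + 1 => mulC (a 2) (xa 0, 0, 1) (powW n)

/-- The generalized quaternion group of order sixteen, in coordinates. -/
def q16 : QuaternionGroup 4 → Coord
  | .a k => powW k.val
  | .xa k => mulC (a 2) (xa 0, 0, 0) (powW k.val)

theorem q16_mul : ∀ x y, q16 (x * y) = mulC (a 2) (q16 x) (q16 y) := by decide +kernel

theorem q16_inj : ∀ x y, q16 x = q16 y → x = y := by decide +kernel

/-- An elementary abelian 2-group in two distinct Sylow subgroups of the quotient by the core. -/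
theorem quotient_hyp {G : Type*} [Group G] [Finite G]
    (hI : ∀ S T : Sylow 2 G, S ≠ T → Cfsg.PRankLE 2 1 ↥((S : Subgroup G) ⊓ (T : Subgroup G)))
    (P R : Sylow 2 (G ⧸ Cfsg.oddCore G)) (hPR : P ≠ R) (V : Subgroup (G ⧸ Cfsg.oddCore G))
    (hVc : ∀ x ∈ V, ∀ y ∈ V, x * y = y * x) (hV2 : ∀ x ∈ V, x ^ 2 = 1)
    (hVP : V ≤ (P : Subgroup (G ⧸ Cfsg.oddCore G))) (hVR : V ≤ (R : Subgroup (G ⧸ Cfsg.oddCore G))) :
    Nat.card V ≤ 2 := by
  haveI : Fact (Nat.Prime 2) := ⟨Nat.prime_two⟩
  set O := Cfsg.oddCore G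
  let π := QuotientGroup.mk' O
  have hπ : Function.Surjective π := QuotientGroup.mk'_surjective O
  obtain ⟨W, hW, hWV⟩ := SylowQuotient.exists_pgroup_map_eq π hπ V (P.isPGroup'.to_le hVP)
  have hO : (Nat.card O).Coprime 2 := ComponentsCores.pPrimeCore_coprime 2
  have hinj : ∀ w ∈ W, π w = 1 → w = 1 := by
    intro w hw h1
    have hwO : w ∈ O := (QuotientGroup.eq_one_iff w).1 h1
    obtain ⟨k, hk⟩ := hW ⟨w, hw⟩
    have hk' : w ^ 2 ^ k = 1 := by simpa using congrArg Subtype.val hk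
    have hO' : orderOf w ∣ Nat.card O := by
      have := orderOf_dvd_natCard (⟨w, hwO⟩ : O)
      rwa [Subgroup.orderOf_mk] at this
    exact orderOf_eq_one_iff.1 (Nat.eq_one_of_dvd_coprimes (hO.pow_right k) hO'
      (orderOf_dvd_of_pow_eq_one hk'))
  have hmem : ∀ w ∈ W, π w ∈ V := fun w hw => hWV ▸ ⟨w, hw, rfl⟩
  have heq : ∀ x ∈ W, ∀ y ∈ W, π x = π y → x = y := fun x hx y hy h =>
    mul_inv_eq_one.1 (hinj _ (W.mul_mem hx (W.inv_mem hy)) (by rw [map_mul, map_inv, h, mul_inv_cancel]))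
  obtain ⟨S, hS, hSP⟩ := SylowQuotient.exists_sylow_lift π hπ P W hW (hWV.le.trans hVP)
  obtain ⟨T, hT, hTR⟩ := SylowQuotient.exists_sylow_lift π hπ R W hW (hWV.le.trans hVR)
  have hne : S ≠ T := fun h => hPR (Sylow.ext (by rw [← hSP, ← hTR, h]))
  have hle : W ≤ (S : Subgroup G) ⊓ (T : Subgroup G) := le_inf hS hT
  have h := hI S T hne (W.subgroupOf _)
    ⟨⟨fun x y => Subtype.ext (Subtype.ext (heq _ (W.mul_mem x.2 y.2) _ (W.mul_mem y.2 x.2) (by
      show π ((x.1 : G) * (y.1 : G)) = π ((y.1 : G) * (x.1 : G))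
      rw [map_mul, map_mul]; exact hVc _ (hmem _ x.2) _ (hmem _ y.2))))⟩⟩
    (fun x hx => Subtype.ext (hinj _ (W.pow_mem hx 2) (by rw [show (((x ^ 2 : ↥((S : Subgroup G) ⊓ (T : Subgroup G))) : G)) = (x : G) ^ 2 from rfl, map_pow]; exact hV2 _ (hmem _ hx))))
  rw [Nat.card_congr (Subgroup.subgroupOfEquivOfLe hle).toEquiv, pow_one] at h
  refine le_trans ?_ h
  refine Nat.card_le_card_of_surjective (fun w : W => (⟨π w, hmem _ w.2⟩ : V)) ?_
  rintro ⟨v, hv⟩
  rw [← hWV] at hv
  obtain ⟨w, hw, rfl⟩ := hv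
  exact ⟨⟨w, hw⟩, rfl⟩

theorem pow_two_group_of_central_auto {X : Type*} [Group X] [Finite X] (A : Subgroup X) [A.Normal]
    (hA : IsPGroup 2 A) (hC : Subgroup.centralizer (A : Set X) ≤ A)
    (haut : ∀ φ : MulAut A, Odd (orderOf φ) → φ = 1) : IsPGroup 2 X := by
  haveI : Fact (Nat.Prime 2) := ⟨Nat.prime_two⟩
  refine IsPGroup.of_card (n := (Nat.card X).primeFactorsList.length) ?_
  refine Nat.eq_prime_pow_of_unique_prime_dvd Nat.card_pos.ne' fun {p} hp hdvd => ?_
  by_contra hp2
  haveI : Fact p.Prime := ⟨hp⟩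
  obtain ⟨x, hx⟩ := exists_prime_orderOf_dvd_card' p hdvd
  have hodd : Odd (orderOf (MulAut.conjNormal (H := A) x)) :=
    Odd.of_dvd_nat (hp.odd_of_ne_two hp2) (hx ▸ orderOf_map_dvd _ x)
  have h1 := haut _ hodd
  have hxA : x ∈ A := hC (by
    rw [Subgroup.mem_centralizer_iff]
    intro a ha
    have h2 : x * a * x⁻¹ = a := by
      have h3 := congrArg (fun φ : MulAut A => ((φ ⟨a, ha⟩ : A) : X)) h1
      simpa using h3
    exact (mul_inv_eq_iff_eq_mul.1 h2).symm)
  obtain ⟨k, hk⟩ := hA ⟨x, hxA⟩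
  have hk' : x ^ 2 ^ k = 1 := by simpa using congrArg Subtype.val hk
  have hd := orderOf_dvd_of_pow_eq_one hk'
  rw [hx] at hd
  exact hp2 ((Nat.prime_dvd_prime_iff_eq hp Nat.prime_two).1 (hp.dvd_of_dvd_pow hd))

/-- Let G be a finite solvable group in which the intersection of any two distinct Sylow 2-subgroups has 2-rank at most 1 (contains no Klein four-group). Write Q = G/O(G), O(G) the largest normal subgroup of odd order. Then Q has a normal Sylow 2-subgroup; or Q is isomorphic to GL(2,3); or Q has order 48, centre of order 2 with central quotient isomorphic to the symmetric group of degree 4, and generalized quaternion Sylow 2-subgroups of order 16 (the binary octahedral group). The last two are the two representation groups of the symmetric group of degree 4. -/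
theorem result {G : Type*} [Group G] [Finite G] (hs : Group.IsSolvable G)
    (hI : ∀ S T : Sylow 2 G, S ≠ T → Cfsg.PRankLE 2 1 ↥((S : Subgroup G) ⊓ (T : Subgroup G))) :
    (∃ P : Sylow 2 (G ⧸ Cfsg.oddCore G), (P : Subgroup (G ⧸ Cfsg.oddCore G)).Normal) ∨
    Nonempty ((G ⧸ Cfsg.oddCore G) ≃* GL (Fin 2) (ZMod 3)) ∨
    (Nat.card (G ⧸ Cfsg.oddCore G) = 48 ∧ Nat.card ↥(Subgroup.center (G ⧸ Cfsg.oddCore G)) = 2 ∧
      Nonempty ((G ⧸ Cfsg.oddCore G) ⧸ Subgroup.center (G ⧸ Cfsg.oddCore G) ≃* Equiv.Perm (Fin 4)) ∧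
      ∀ P : Sylow 2 (G ⧸ Cfsg.oddCore G), Nonempty (↥(P : Subgroup (G ⧸ Cfsg.oddCore G)) ≃* QuaternionGroup 4)) := by
  classical
  haveI : Fact (Nat.Prime 2) := ⟨Nat.prime_two⟩
  by_cases hnorm : ∃ P : Sylow 2 (G ⧸ Cfsg.oddCore G), (P : Subgroup (G ⧸ Cfsg.oddCore G)).Normal
  · exact Or.inl hnorm
  right
  set X := G ⧸ Cfsg.oddCore G
  haveI : Group.IsSolvable G := hs
  haveI : Group.IsSolvable X := Group.isSolvable_of_surjective (QuotientGroup.mk'_surjective _)
  have hO : Cfsg.oddCore X = ⊥ := HallCore.pPrimeCore_quotient_self 2 G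
  set A := Cfsg.pCore 2 X with hAdef
  have hC : Subgroup.centralizer (A : Set X) ≤ A := by
    have h := ComponentsFitting.centralizer_fitting_le_of_solvable (G := X)
    rw [CharTwoLocal.fitting_eq_pCore_of_oddCore_eq_bot hO] at h
    exact h
  have hA2 : IsPGroup 2 A := HallCore.isPGroup_pCore 2 X
  haveI hAn : A.Normal := HallCore.pCore_normal 2 X
  have hAle : ∀ P : Sylow 2 X, A ≤ (P : Subgroup X) := fun P => HallCore.pCore_le_sylow P
  obtain ⟨P, R, hPR⟩ : ∃ P R : Sylow 2 X, P ≠ R := by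
    by_contra hcon
    push Not at hcon
    haveI : Subsingleton (Sylow 2 X) := ⟨hcon⟩
    obtain ⟨P⟩ : Nonempty (Sylow 2 X) := inferInstance
    exact hnorm ⟨P, P.normal_of_subsingleton⟩
  have hnot2 : ¬ IsPGroup 2 X := fun h => by
    obtain ⟨P₀, hP₀⟩ := (h.to_subgroup ⊤).exists_le_sylow
    exact hnorm ⟨P₀, by rw [top_le_iff.1 hP₀]; infer_instance⟩
  have huniq : ∀ H K : Subgroup A, Nat.card H = 2 → Nat.card K = 2 → H = K := by
    have hnt : Nontrivial A := by
      by_contra hnt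
      rw [not_nontrivial_iff_subsingleton] at hnt
      exact hnot2 (pow_two_group_of_central_auto A hA2 hC fun φ _ =>
        MulEquiv.ext fun a => Subsingleton.elim _ _)
    haveI := hnt
    obtain ⟨z, hz⟩ : ∃ z : Subgroup.center A, orderOf z = 2 := by
      haveI := hA2.center_nontrivial
      obtain ⟨n, hn⟩ := (hA2.to_subgroup (Subgroup.center A)).exists_card_eq
      refine exists_prime_orderOf_dvd_card' 2 ?_
      rw [hn]
      refine dvd_pow_self 2 fun h0 => ?_
      rw [h0, pow_zero, Nat.card_eq_one_iff_unique] at hn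
      exact not_nontrivial_iff_subsingleton.2 hn.1 inferInstance
    have hz' : orderOf (z : A) = 2 := by rw [Subgroup.orderOf_coe, hz]
    have key : ∀ L : Subgroup A, Nat.card L = 2 → L = Subgroup.zpowers (z : A) := by
      intro L hL
      obtain ⟨l, hl⟩ := exists_prime_orderOf_dvd_card' (G := ↥L) 2 (dvd_of_eq hL.symm)
      have hl' : orderOf (l : A) = 2 := (Subgroup.orderOf_coe l).trans hl
      by_cases hlz : (l : A) = z
      · symm
        refine Subgroup.eq_of_le_of_card_ge ?_ (by rw [Nat.card_zpowers, hz', hL])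
        rw [Subgroup.zpowers_le, ← hlz]
        exact l.2
      exfalso
      have hzl : Commute (z : A) (l : A) := (Subgroup.mem_center_iff.1 z.2 l).symm
      let V : Subgroup A := Subgroup.closure {(z : A), (l : A)}
      have hcomm : IsMulCommutative V := Subgroup.isMulCommutative_closure (by
        intro x hx y hy
        simp only [Set.mem_insert_iff, Set.mem_singleton_iff] at hx hy
        rcases hx with rfl | rfl <;> rcases hy with rfl | rfl
        exacts [rfl, hzl.eq, hzl.symm.eq, rfl])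
      have hsqV : ∀ x ∈ V, x ^ 2 = 1 := by
        intro x hx
        induction hx using Subgroup.closure_induction with
        | mem x hx =>
          simp only [Set.mem_insert_iff, Set.mem_singleton_iff] at hx
          rcases hx with rfl | rfl
          · have h := pow_orderOf_eq_one (z : A); rwa [hz'] at h
          · have h := pow_orderOf_eq_one (l : A); rwa [hl'] at h
        | one => simp
        | mul x y hx hy h1 h2 =>
          have hxy : Commute x y := congrArg Subtype.val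
            (hcomm.is_comm.comm (⟨x, hx⟩ : V) ⟨y, hy⟩)
          rw [hxy.mul_pow, h1, h2, one_mul]
        | inv x hx h1 => rw [inv_pow, h1, inv_one]
      have hmap : ∀ x ∈ V.map A.subtype, x ∈ A := by
        rintro _ ⟨x, -, rfl⟩; exact x.2
      have h := quotient_hyp hI P R hPR (V.map A.subtype)
        (by
          rintro _ ⟨x, hx, rfl⟩ _ ⟨y, hy, rfl⟩
          rw [← map_mul, ← map_mul]
          exact congrArg A.subtype (congrArg Subtype.val (hcomm.is_comm.comm (⟨x, hx⟩ : V) ⟨y, hy⟩)))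
        (by
          rintro _ ⟨x, hx, rfl⟩
          rw [← map_pow, hsqV x hx, map_one])
        (fun x hx => hAle P (hmap x hx)) (fun x hx => hAle R (hmap x hx))
      rw [Subgroup.card_map_of_injective A.subtype_injective] at h
      have h3 : 3 ≤ Nat.card V := by
        have hsub : ({1, (z : A), (l : A)} : Finset A) ⊆ (Set.Finite.toFinset (Set.toFinite (V : Set A))) := by
          intro x hx
          simp only [Finset.mem_insert, Finset.mem_singleton] at hx
          rw [Set.Finite.mem_toFinset]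
          rcases hx with rfl | rfl | rfl
          exacts [V.one_mem, Subgroup.subset_closure (by simp), Subgroup.subset_closure (by simp)]
        have h1 : (1 : A) ≠ z := fun h => by rw [← h, orderOf_one] at hz'; omega
        have h2 : (1 : A) ≠ l := fun h => by rw [← h, orderOf_one] at hl'; omega
        have := Finset.card_le_card hsub
        rw [Finset.card_insert_of_notMem (by simp [h1, h2]), Finset.card_pair (fun h => hlz h.symm),
          ← Set.ncard_eq_toFinset_card _, ← Nat.card_coe_set_eq, SetLike.coe_sort_coe] at this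
        omega
      omega
    intro H K hH hK
    rw [key H hH, key K hK]
  rcases PGroupsCyclic.isCyclic_or_quaternion hA2 huniq with hcyc | ⟨-, n, ⟨eA⟩⟩
  · exfalso
    refine hnot2 (pow_two_group_of_central_auto A hA2 hC fun φ hφ => ?_)
    haveI := hcyc
    have h := orderOf_dvd_natCard φ
    rw [IsCyclic.card_mulAut] at h
    obtain ⟨k, hk⟩ := hA2.exists_card_eq
    rw [hk] at h
    rcases Nat.eq_zero_or_pos k with rfl | hk0
    · rw [pow_zero, Nat.totient_one, Nat.dvd_one] at h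
      exact orderOf_eq_one_iff.1 h
    · rw [Nat.totient_prime_pow Nat.prime_two hk0, show (2 - 1 : ℕ) = 1 from rfl, mul_one] at h
      exact orderOf_eq_one_iff.1 (Nat.eq_one_of_dvd_coprimes
        ((Nat.coprime_two_right.2 hφ).pow_right (k - 1)) dvd_rfl h)
  by_cases hn : n ≠ 1
  · exfalso
    exact hnot2 (pow_two_group_of_central_auto A hA2 hC fun φ hφ =>
      (QuaternionOddAut.main eA hφ).2 hn)
  push Not at hn
  subst hn
  obtain ⟨f, c, u, w, hF, hbij⟩ := BinaryOctahedral.exists_frame A eA.symm hC hnorm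
  rcases hF.hw with rfl | rfl
  · left
    have hG : Frame (MonoidHom.mk' glQ glQ_mul) glC glU 1 :=
      ⟨gl_facts.1, gl_facts.2.1, gl_facts.2.2.1, gl_facts.2.2.2.1, gl_facts.2.2.2.2, Or.inl rfl⟩
    obtain ⟨Φ, hΦ⟩ := exists_hom hF hG hbij
    refine ⟨MulEquiv.ofBijective Φ ⟨fun x y h => ?_, fun y => ?_⟩⟩
    · obtain ⟨x, rfl⟩ := hbij.2 x
      obtain ⟨y, rfl⟩ := hbij.2 y
      rw [hΦ, hΦ] at h
      rw [gl_bij.1 h]
    · obtain ⟨x, rfl⟩ := gl_bij.2 y
      exact ⟨_, hΦ x⟩
  right
  have hcard : Nat.card X = 48 := by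
    rw [← Nat.card_congr (Equiv.ofBijective _ hbij), card_coord]
  have hone : toH f c u (1, 0, 0) = 1 := by simp [toH]
  have hcen : ∀ z, z ∈ Subgroup.center X ↔
      z = 1 ∨ z = toH f c u (a 2, 0, 0) := by
    intro z
    obtain ⟨x, rfl⟩ := hbij.2 z
    rw [Subgroup.mem_center_iff, ← hone]
    constructor
    · intro h
      rcases coord_centre x (fun y => hbij.1 (by rw [toH_mul hF, toH_mul hF]; exact (h _).symm)) with rfl | rfl
      · exact Or.inl rfl
      · exact Or.inr rfl
    · intro h g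
      obtain ⟨y, rfl⟩ := hbij.2 g
      rcases h with h | h <;> rw [h]
      · rw [hone, one_mul, mul_one]
      · rw [← toH_mul hF, ← toH_mul hF, coord_central]
  have hPm : Frame (MonoidHom.mk' pmQ pmQ_mul) pmC pmU (a 2) :=
    ⟨pm_facts.1, pm_facts.2.1, pm_facts.2.2.1, pm_facts.2.2.2.1, pm_facts.2.2.2.2, Or.inr rfl⟩
  obtain ⟨Φ, hΦ⟩ := exists_hom hF hPm hbij
  have hker : Φ.ker = Subgroup.center X := by
    ext z
    obtain ⟨x, rfl⟩ := hbij.2 z
    rw [MonoidHom.mem_ker, hΦ, hcen, ← hone]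
    constructor
    · intro h
      rcases pm_ker x h with rfl | rfl
      · exact Or.inl rfl
      · exact Or.inr rfl
    · intro h
      rcases h with h | h <;> rw [hbij.1 h] <;>
        simp [toH, (by decide +kernel : pmQ (a 2) = 1), (by decide +kernel : pmQ 1 = 1)]
  refine ⟨hcard, ?_, ?_, fun P₀ => ?_⟩
  · have e : (Subgroup.center X : Set X) = ({1, toH f c u (a 2, 0, 0)} : Finset X) := by
      ext z; simp [hcen]
    rw [← SetLike.coe_sort_coe, Nat.card_coe_set_eq, e, Set.ncard_coe_finset, Finset.card_pair]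
    intro h
    rw [← hone] at h
    exact coord_ne (hbij.1 h)
  · refine ⟨(QuotientGroup.quotientMulEquivOfEq hker.symm).trans
      (QuotientGroup.quotientKerEquivOfSurjective Φ fun p => ?_)⟩
    obtain ⟨x, rfl⟩ := pm_surj p
    exact ⟨_, hΦ x⟩
  · let ψ : QuaternionGroup 4 →* X := MonoidHom.mk' (fun x => toH f c u (q16 x)) fun x y => by
      rw [← toH_mul hF, q16_mul]
    have hψ : Function.Injective ψ := fun x y h => q16_inj x y (hbij.1 h)
    have h16 : Nat.card ψ.range = 16 := by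
      rw [← Nat.card_congr (MonoidHom.ofInjective hψ).toEquiv, Nat.card_eq_fintype_card, QuaternionGroup.card]
    have hidx : ¬ 2 ∣ ψ.range.index := by
      have h := ψ.range.card_mul_index
      rw [h16, hcard] at h
      omega
    let S := (IsPGroup.of_card (n := 4) (by rw [h16]; rfl) : IsPGroup 2 ψ.range).toSylow hidx
    exact ⟨(Sylow.equiv P₀ S).trans (MonoidHom.ofInjective hψ).symm⟩

end Cfsg.Agent.S3304
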