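import Cfsg.Statements.S0493
import Cfsg.Agent.Lib.SimpleOrderCheck

set_option autoImplicit false
open Cfsg

namespace Cfsg.Agent.S0493
open Cfsg.Agent.SimpleOrderCheck in
theorem table_kill : ([(2, [], 2, 1),
  (3, [3], 3, 1),
  (4, [], 2, 2),
  (5, [5], 5, 1),
  (6, [3], 3, 1),
  (7, [7], 7, 1),
  (8, [], 2, 3),
  (9, [], 3, 2),
  (10, [5], 5, 1),
  (11, [11], 11, 1),
  (12, [3], 3, 1),
  (13, [13], 13, 1),
  (14, [7], 7, 1),
  (15, [3, 5], 5, 1),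
  (16, [], 2, 4),
  (17, [17], 17, 1),
  (18, [], 3, 2),
  (19, [19], 19, 1),
  (20, [5], 5, 1),
  (21, [3, 7], 7, 1),
  (22, [11], 11, 1),
  (23, [23], 23, 1),
  (24, [3], 3, 1),
  (25, [], 5, 2),
  (26, [13], 13, 1),
  (27, [], 3, 3),
  (28, [7], 7, 1),
  (29, [29], 29, 1),
  (30, [3, 5], 5, 1),
  (31, [31], 31, 1),
  (32, [], 2, 5),
  (33, [3, 11], 11, 1),
  (34, [17], 17, 1),
  (35, [5, 7], 7, 1),
  (36, [], 3, 2),
  (37, [37], 37, 1),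
  (38, [19], 19, 1),
  (39, [3, 13], 13, 1),
  (40, [5], 5, 1),
  (41, [41], 41, 1),
  (42, [3, 7], 7, 1),
  (43, [43], 43, 1),
  (44, [11], 11, 1),
  (45, [5], 5, 1),
  (46, [23], 23, 1),
  (47, [47], 47, 1),
  (48, [3], 3, 1),
  (49, [], 7, 2),
  (50, [], 5, 2),
  (51, [3, 17], 17, 1),
  (52, [13], 13, 1),
  (53, [53], 53, 1),
  (54, [], 3, 3),
  (55, [5, 11], 11, 1),
  (56, [7], 7, 1),
  (57, [3, 19], 19, 1),
  (58, [29], 29, 1),
  (59, [59], 59, 1),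
  (61, [61], 61, 1),
  (62, [31], 31, 1),
  (63, [7], 7, 1),
  (64, [], 2, 6),
  (65, [5, 13], 13, 1),
  (66, [3, 11], 11, 1),
  (67, [67], 67, 1),
  (68, [17], 17, 1),
  (69, [3, 23], 23, 1),
  (70, [5, 7], 7, 1),
  (71, [71], 71, 1),
  (72, [], 3, 2),
  (73, [73], 73, 1),
  (74, [37], 37, 1),
  (75, [3], 5, 2),
  (76, [19], 19, 1),
  (77, [7, 11], 11, 1),
  (78, [3, 13], 13, 1),
  (79, [79], 79, 1),
  (80, [5], 5, 1),
  (81, [], 3, 4),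
  (82, [41], 41, 1),
  (83, [83], 83, 1),
  (84, [3, 7], 7, 1),
  (85, [5, 17], 17, 1),
  (86, [43], 43, 1),
  (87, [3, 29], 29, 1),
  (88, [11], 11, 1),
  (89, [89], 89, 1),
  (90, [5], 5, 1),
  (91, [7, 13], 13, 1),
  (92, [23], 23, 1),
  (93, [3, 31], 31, 1),
  (94, [47], 47, 1),
  (95, [5, 19], 19, 1),
  (96, [3], 2, 5),
  (97, [97], 97, 1),
  (98, [], 7, 2),
  (99, [11], 11, 1),
  (100, [], 5, 2)] : List (ℕ × List ℕ × ℕ × ℕ)).all
    (fun w => kill w.1 w.2.1 w.2.2.1 w.2.2.2) = true ∧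
    ∀ n < 101, n < 2 ∨ n = 60 ∨
      n ∈ ([(2, [], 2, 1),
  (3, [3], 3, 1),
  (4, [], 2, 2),
  (5, [5], 5, 1),
  (6, [3], 3, 1),
  (7, [7], 7, 1),
  (8, [], 2, 3),
  (9, [], 3, 2),
  (10, [5], 5, 1),
  (11, [11], 11, 1),
  (12, [3], 3, 1),
  (13, [13], 13, 1),
  (14, [7], 7, 1),
  (15, [3, 5], 5, 1),
  (16, [], 2, 4),
  (17, [17], 17, 1),
  (18, [], 3, 2),
  (19, [19], 19, 1),
  (20, [5], 5, 1),
  (21, [3, 7], 7, 1),
  (22, [11], 11, 1),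
  (23, [23], 23, 1),
  (24, [3], 3, 1),
  (25, [], 5, 2),
  (26, [13], 13, 1),
  (27, [], 3, 3),
  (28, [7], 7, 1),
  (29, [29], 29, 1),
  (30, [3, 5], 5, 1),
  (31, [31], 31, 1),
  (32, [], 2, 5),
  (33, [3, 11], 11, 1),
  (34, [17], 17, 1),
  (35, [5, 7], 7, 1),
  (36, [], 3, 2),
  (37, [37], 37, 1),
  (38, [19], 19, 1),
  (39, [3, 13], 13, 1),
  (40, [5], 5, 1),
  (41, [41], 41, 1),
  (42, [3, 7], 7, 1),
  (43, [43], 43, 1),
  (44, [11], 11, 1),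
  (45, [5], 5, 1),
  (46, [23], 23, 1),
  (47, [47], 47, 1),
  (48, [3], 3, 1),
  (49, [], 7, 2),
  (50, [], 5, 2),
  (51, [3, 17], 17, 1),
  (52, [13], 13, 1),
  (53, [53], 53, 1),
  (54, [], 3, 3),
  (55, [5, 11], 11, 1),
  (56, [7], 7, 1),
  (57, [3, 19], 19, 1),
  (58, [29], 29, 1),
  (59, [59], 59, 1),
  (61, [61], 61, 1),
  (62, [31], 31, 1),
  (63, [7], 7, 1),
  (64, [], 2, 6),
  (65, [5, 13], 13, 1),
  (66, [3, 11], 11, 1),
  (67, [67], 67, 1),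
  (68, [17], 17, 1),
  (69, [3, 23], 23, 1),
  (70, [5, 7], 7, 1),
  (71, [71], 71, 1),
  (72, [], 3, 2),
  (73, [73], 73, 1),
  (74, [37], 37, 1),
  (75, [3], 5, 2),
  (76, [19], 19, 1),
  (77, [7, 11], 11, 1),
  (78, [3, 13], 13, 1),
  (79, [79], 79, 1),
  (80, [5], 5, 1),
  (81, [], 3, 4),
  (82, [41], 41, 1),
  (83, [83], 83, 1),
  (84, [3, 7], 7, 1),
  (85, [5, 17], 17, 1),
  (86, [43], 43, 1),
  (87, [3, 29], 29, 1),
  (88, [11], 11, 1),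
  (89, [89], 89, 1),
  (90, [5], 5, 1),
  (91, [7, 13], 13, 1),
  (92, [23], 23, 1),
  (93, [3, 31], 31, 1),
  (94, [47], 47, 1),
  (95, [5, 19], 19, 1),
  (96, [3], 2, 5),
  (97, [97], 97, 1),
  (98, [], 7, 2),
  (99, [11], 11, 1),
  (100, [], 5, 2)] : List (ℕ × List ℕ × ℕ × ℕ)).map Prod.fst := by
  constructor
  · decide +kernel
  · decide +kernel

/-- A finite simple group of order at most 100 that is not cyclic has order 60. -/
theorem result {G : Type*} [Group G] [Finite G] [IsSimpleGroup G]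
    (hG : ¬ IsCyclic G) (h : Nat.card G ≤ 100) : Nat.card G = 60 := by
  have hpos : 0 < Nat.card G := Nat.card_pos
  have hnc : ¬ IsMulCommutative G := fun hc => by
    have : Fact (Nat.card G).Prime := ⟨SimpleOrder.card_prime_of_comm hc⟩
    exact hG (isCyclic_of_prime_card rfl)
  rcases table_kill.2 (Nat.card G) (by omega) with h1 | h1 | h1
  · exfalso
    have : Subsingleton G := (Nat.card_eq_one_iff_unique.1 (by omega)).1
    exact hnc ⟨⟨fun a b => Subsingleton.elim _ _⟩⟩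
  · exact h1
  · exfalso
    obtain ⟨w, hw, hwn⟩ := List.mem_map.1 h1
    have := List.all_eq_true.1 table_kill.1 w hw
    exact SimpleOrderCheck.card_ne_of_kill hnc w.2.1 w.2.2.1 w.2.2.2 this hwn.symm

end Cfsg.Agent.S0493
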