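import Mathlib
import Cfsg.Agent.S0493
import Cfsg.Agent.S0494
import Cfsg.Agent.Lib.SL25Presentation
import Cfsg.Statements.S3378
-- import your own Cfsg.Agent.* helpers here

set_option autoImplicit false
open Cfsg

namespace Cfsg.Agent.S3378

universe u

theorem exists_max_normal (G : Type*) [Group G] [Finite G] [Nontrivial G] :
    ∃ N : Subgroup G, N.Normal ∧ N ≠ ⊤ ∧ ∀ M : Subgroup G, M.Normal → N ≤ M → M = N ∨ M = ⊤ := by
  have hne : {N : Subgroup G | N.Normal ∧ N ≠ ⊤}.Nonempty :=
    ⟨⊥, inferInstance, bot_ne_top⟩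
  obtain ⟨N, hN, hmax⟩ := Set.Finite.exists_maximalFor id _ (Set.toFinite _) hne
  refine ⟨N, hN.1, hN.2, fun M hM hNM => ?_⟩
  by_cases h : M = ⊤
  · exact Or.inr h
  · exact Or.inl (le_antisymm (hmax ⟨hM, h⟩ hNM) hNM)

theorem simple_quotient {G : Type*} [Group G] (N : Subgroup G) [N.Normal] (hN : N ≠ ⊤)
    (hmax : ∀ M : Subgroup G, M.Normal → N ≤ M → M = N ∨ M = ⊤) : IsSimpleGroup (G ⧸ N) := by
  haveI : Nontrivial (G ⧸ N) := QuotientGroup.nontrivial_iff.2 hN
  refine ⟨fun M hM => ?_⟩
  have hsurj := QuotientGroup.mk'_surjective N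
  rcases hmax (M.comap (QuotientGroup.mk' N)) (hM.comap _)
      (fun n hn => by
        rw [Subgroup.mem_comap, show QuotientGroup.mk' N n = 1 from (QuotientGroup.eq_one_iff n).2 hn]
        exact M.one_mem) with h | h
  · left
    rw [← Subgroup.map_comap_eq_self_of_surjective hsurj M, h, QuotientGroup.map_mk'_self]
  · right
    rw [← Subgroup.map_comap_eq_self_of_surjective hsurj M, h, Subgroup.map_top_of_surjective _ hsurj]

theorem simple_nonsolvable_card {G : Type*} [Group G] [Finite G] [IsSimpleGroup G]
    (hns : ¬ Group.IsSolvable G) (h : Nat.card G ≤ 100) : Nat.card G = 60 :=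
  S0493.result (fun hc => hns (by
    haveI := hc
    exact Group.isSolvable_of_comm (fun a b => IsCyclic.commGroup.mul_comm a b))) h

theorem nonsolvable_small (n : ℕ) : ∀ (G : Type u) [Group G] [Finite G], Nat.card G = n →
    ¬ Group.IsSolvable G → n ≤ 100 → IsSimpleGroup G ∧ n = 60 := by
  induction n using Nat.strong_induction_on with
  | _ n ih =>
    intro G _ _ hn hns h100
    haveI : Nontrivial G := by
      by_contra h
      haveI := not_nontrivial_iff_subsingleton.1 h
      exact hns inferInstance
    obtain ⟨N, hN, hNtop, hmax⟩ := exists_max_normal G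
    haveI := hN
    haveI := simple_quotient N hNtop hmax
    have hmul := N.card_mul_index
    rw [Subgroup.index_eq_card, hn] at hmul
    have hq2 : 2 ≤ Nat.card (G ⧸ N) := Finite.one_lt_card
    have hNpos : 0 < Nat.card N := Nat.card_pos
    by_cases hNs : Group.IsSolvable N
    · have hqs : ¬ Group.IsSolvable (G ⧸ N) := fun hq => hns (by
        haveI := hNs; haveI := hq
        exact Group.isSolvable_of_ker_le_range N.subtype (QuotientGroup.mk' N)
          (by rw [QuotientGroup.ker_mk', Subgroup.range_subtype]))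
      have h60 := simple_nonsolvable_card hqs (by nlinarith)
      have hN1 : Nat.card N = 1 := by nlinarith
      rw [hN1, one_mul, h60] at hmul
      exact ⟨((QuotientGroup.quotientMulEquivOfEq (Subgroup.card_eq_one.1 hN1)).trans
        QuotientGroup.quotientBot).symm.isSimpleGroup, hmul.symm⟩
    · obtain ⟨-, h60⟩ := ih (Nat.card N) (by nlinarith) N rfl hNs (by nlinarith)
      nlinarith

theorem quaternion_unique_involution : ∀ u v : QuaternionGroup 2, u * u = 1 → v * v = 1 →
    u ≠ 1 → v ≠ 1 → u = v := by decide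


/-- Every non-solvable group of order 120 whose Sylow 2-subgroups are quaternion of order 8 is isomorphic to SL(2,5), and SL(2,5) has the presentation ⟨x, y, z | x³ = y⁵ = z² = 1, z⁻¹xz = x, z⁻¹yz = y, (xy)² = z⟩. -/
theorem result :
    (∀ (G : Type*) [Group G] [Finite G], Nat.card G = 120 → ¬ Group.IsSolvable G →
      (∀ P : Sylow 2 G, Nonempty ((P : Subgroup G) ≃* QuaternionGroup 2)) →
      Nonempty (G ≃* Matrix.SpecialLinearGroup (Fin 2) (ZMod 5))) ∧
    Nonempty (PresentedGroup ({FreeGroup.of (0 : Fin 3) ^ 3, FreeGroup.of (1 : Fin 3) ^ 5, FreeGroup.of (2 : Fin 3) ^ 2,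
        (FreeGroup.of (2 : Fin 3))⁻¹ * FreeGroup.of 0 * FreeGroup.of 2 * (FreeGroup.of (0 : Fin 3))⁻¹,
        (FreeGroup.of (2 : Fin 3))⁻¹ * FreeGroup.of 1 * FreeGroup.of 2 * (FreeGroup.of (1 : Fin 3))⁻¹,
        (FreeGroup.of (0 : Fin 3) * FreeGroup.of 1) ^ 2 * (FreeGroup.of (2 : Fin 3))⁻¹} : Set (FreeGroup (Fin 3)))
      ≃* Matrix.SpecialLinearGroup (Fin 2) (ZMod 5)) := by
  refine ⟨fun G _ _ h120 hns hQ => ?_, SL25Presentation.nonempty_mulEquiv⟩
  have hinv : ∀ u v : G, u * u = 1 → v * v = 1 → u ≠ 1 → v ≠ 1 → u * v = v * u → u = v := by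
    intro u v hu hv hu1 hv1 huv
    haveI : Fact (Nat.Prime 2) := ⟨Nat.prime_two⟩
    have hK : IsPGroup 2 (Subgroup.closure ({u, v} : Set G)) := by
      rintro ⟨g, hg⟩
      refine ⟨1, Subtype.ext ?_⟩
      show g ^ 2 ^ 1 = 1
      rw [pow_one, sq]
      have key : g * g = 1 ∧ Commute g u ∧ Commute g v := by
        induction hg using Subgroup.closure_induction with
        | mem a ha =>
          rcases ha with rfl | rfl
          · exact ⟨hu, Commute.refl _, huv⟩
          · exact ⟨hv, huv.symm, Commute.refl _⟩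
        | one => exact ⟨one_mul 1, Commute.one_left _, Commute.one_left _⟩
        | mul a b ha hb iha ihb =>
          have hab : Commute a b := by
            clear ihb
            induction hb using Subgroup.closure_induction with
            | mem c hc => rcases hc with rfl | rfl; exacts [iha.2.1, iha.2.2]
            | one => exact Commute.one_right _
            | mul c d _ _ hc hd => exact hc.mul_right hd
            | inv c _ hc => exact hc.inv_right
          refine ⟨?_, iha.2.1.mul_left ihb.2.1, iha.2.2.mul_left ihb.2.2⟩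
          calc a * b * (a * b) = a * (b * a) * b := by group
            _ = a * (a * b) * b := by rw [hab.eq]
            _ = (a * a) * (b * b) := by group
            _ = 1 := by rw [iha.1, ihb.1, one_mul]
        | inv a _ ih => exact ⟨by rw [← mul_inv_rev, ih.1, inv_one], ih.2.1.inv_left, ih.2.2.inv_left⟩
      exact key.1
    obtain ⟨S, hS⟩ := hK.exists_le_sylow
    obtain ⟨e⟩ := hQ S
    let u' : (S : Subgroup G) := ⟨u, hS (Subgroup.subset_closure (by simp))⟩
    let v' : (S : Subgroup G) := ⟨v, hS (Subgroup.subset_closure (by simp))⟩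
    have := quaternion_unique_involution (e u') (e v')
      (by rw [← map_mul, show u' * u' = 1 from Subtype.ext hu, map_one])
      (by rw [← map_mul, show v' * v' = 1 from Subtype.ext hv, map_one])
      (fun h => hu1 (congrArg Subtype.val ((map_eq_one_iff e e.injective).1 h)))
      (fun h => hv1 (congrArg Subtype.val ((map_eq_one_iff e e.injective).1 h)))
    exact congrArg Subtype.val (e.injective this)
  have hA5 : ∀ (K : Type _) [Group K] [Finite K] [IsSimpleGroup K], Nat.card K = 60 →
      Nonempty (K ≃* alternatingGroup (Fin 5)) := fun K _ _ _ h => S0494.result h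
  haveI : Nontrivial G := Finite.one_lt_card_iff_nontrivial.1 (by rw [h120]; norm_num)
  obtain ⟨N, hN, hNtop, hmax⟩ := exists_max_normal G
  haveI := hN
  haveI := simple_quotient N hNtop hmax
  have hmul := N.card_mul_index
  rw [Subgroup.index_eq_card, h120] at hmul
  have hq2 : 2 ≤ Nat.card (G ⧸ N) := Finite.one_lt_card
  have hN2 : Nat.card N = 2 := by
    by_cases hNs : Group.IsSolvable N
    · have hqs : ¬ Group.IsSolvable (G ⧸ N) := fun hq => hns (by
        haveI := hNs; haveI := hq
        exact Group.isSolvable_of_ker_le_range N.subtype (QuotientGroup.mk' N)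
          (by rw [QuotientGroup.ker_mk', Subgroup.range_subtype]))
      by_cases hq : Nat.card (G ⧸ N) ≤ 100
      · rw [simple_nonsolvable_card hqs hq] at hmul
        omega
      · exfalso
        have hN1 : Nat.card N = 1 := by nlinarith
        rw [hN1, one_mul] at hmul
        -- no simple group of order 120
        have hq120 : Nat.card (G ⧸ N) = 120 := hmul
        have hnc : ¬ IsMulCommutative (G ⧸ N) := SimpleOrder.not_comm_of_not_prime (by rw [hq120]; norm_num)
        haveI : Fact (Nat.Prime 5) := ⟨by norm_num⟩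
        obtain ⟨P⟩ : Nonempty (Sylow 5 (G ⧸ N)) := inferInstance
        have hc : Nat.card (G ⧸ N) = 5 ^ (0 + 1) * 24 := by rw [hq120]; norm_num
        have hne := SimpleOrder.card_sylow_ne_one hnc (p := 5) (by rw [hq120]; norm_num)
        have hd := SimpleOrder.card_sylow_dvd hc (by norm_num)
        have hm := card_sylow_modEq_one 5 (G ⧸ N)
        rw [Nat.ModEq] at hm
        have h6 : Nat.card (Sylow 5 (G ⧸ N)) = 6 := by
          have := Nat.le_of_dvd (by norm_num) hd
          generalize Nat.card (Sylow 5 (G ⧸ N)) = x at *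
          interval_cases x <;> omega
        have hH := SimpleOrder.normalizer_ne_top hnc (p := 5) (by rw [hq120]; norm_num) P
        obtain ⟨f, hf⟩ := SimpleOrder.exists_injective_alternating hnc _ hH
        have hi : (Subgroup.normalizer ((P : Subgroup (G ⧸ N)) : Set (G ⧸ N))).index = 6 := by
          simp only [Sylow.coe_coe]
          rw [← h6, P.card_eq_index_normalizer]
        have hcf : Nat.card f.range = 120 := by
          rw [← hq120]; exact (Nat.card_congr (MonoidHom.ofInjective hf).toEquiv).symm
        have hmf := f.range.card_mul_index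
        rw [hcf] at hmf
        haveI : IsSimpleGroup (alternatingGroup (Fin (Subgroup.normalizer ((P : Subgroup (G ⧸ N)) : Set (G ⧸ N))).index)) :=
          alternatingGroup.isSimpleGroup (by rw [Nat.card_fin]; simp only [Sylow.coe_coe] at hi ⊢; omega)
        have hA : Nat.card (alternatingGroup (Fin (Subgroup.normalizer ((P : Subgroup (G ⧸ N)) : Set (G ⧸ N))).index)) = 360 := by
          haveI : Nontrivial (Fin (Subgroup.normalizer ((P : Subgroup (G ⧸ N)) : Set (G ⧸ N))).index) := by
            rw [hi]; infer_instance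
          rw [nat_card_alternatingGroup, Nat.card_fin, hi]; rfl
        rw [hA] at hmf
        have h5 := SimpleOrder.five_le_index (G := alternatingGroup _)
          (SimpleOrder.not_comm_of_not_prime (by rw [hA]; norm_num)) f.range
          (fun h => by rw [h, Subgroup.index_top] at hmf; omega)
        omega
    · exfalso
      obtain ⟨hsimp, h60⟩ := nonsolvable_small (Nat.card N) N rfl hNs (by nlinarith)
      haveI := hsimp
      obtain ⟨e⟩ := hA5 N h60
      let a : alternatingGroup (Fin 5) := ⟨Equiv.swap 0 1 * Equiv.swap 2 3, Equiv.Perm.mem_alternatingGroup.2 (by decide)⟩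
      let b : alternatingGroup (Fin 5) := ⟨Equiv.swap 0 2 * Equiv.swap 1 3, Equiv.Perm.mem_alternatingGroup.2 (by decide)⟩
      let φ : alternatingGroup (Fin 5) →* G := N.subtype.comp e.symm.toMonoidHom
      have hφ : Function.Injective φ := N.subtype_injective.comp e.symm.injective
      have := hφ (hinv (φ a) (φ b) (by rw [← map_mul, show a * a = 1 by decide +kernel, map_one])
        (by rw [← map_mul, show b * b = 1 by decide +kernel, map_one])
        (fun h => (show a ≠ 1 by decide +kernel) (hφ (h.trans (map_one φ).symm)))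
        (fun h => (show b ≠ 1 by decide +kernel) (hφ (h.trans (map_one φ).symm)))
        (by rw [← map_mul, ← map_mul, show a * b = b * a by decide +kernel]))
      exact absurd this (by decide +kernel)
  rw [hN2] at hmul
  obtain ⟨e⟩ := hA5 (G ⧸ N) (by omega)
  let π : G →* alternatingGroup (Fin 5) := e.toMonoidHom.comp (QuotientGroup.mk' N)
  have hπs : Function.Surjective π := e.surjective.comp (QuotientGroup.mk'_surjective N)
  have hker : ∀ g : G, π g = 1 ↔ g ∈ N := fun g => by
    rw [show π g = e (g : G ⧸ N) from rfl, map_eq_one_iff e e.injective, QuotientGroup.eq_one_iff]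
  obtain ⟨n, hn, hn1⟩ : ∃ n ∈ N, n ≠ 1 := by
    haveI : Nontrivial N := Finite.one_lt_card_iff_nontrivial.1 (by omega)
    obtain ⟨⟨n, hn⟩, hne⟩ := exists_ne (1 : N)
    exact ⟨n, hn, fun h => hne (Subtype.ext h)⟩
  have hN' : ∀ g ∈ N, g = 1 ∨ g = n := by
    intro g hg
    by_contra hc
    push Not at hc
    have h3 : ({1, ⟨n, hn⟩, ⟨g, hg⟩} : Set N).ncard = 3 :=
      Set.ncard_eq_three.2 ⟨1, ⟨n, hn⟩, ⟨g, hg⟩, fun h => hn1 (congrArg Subtype.val h).symm,
        fun h => hc.1 (congrArg Subtype.val h).symm, fun h => hc.2 (congrArg Subtype.val h).symm, rfl⟩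
    have := Set.ncard_le_ncard (t := Set.univ) (Set.subset_univ ({1, ⟨n, hn⟩, ⟨g, hg⟩} : Set N))
    rw [h3, Set.ncard_univ, hN2] at this
    omega
  have hnn : n * n = 1 := by
    rcases hN' _ (N.mul_mem hn hn) with h | h
    · exact h
    · exact absurd (mul_eq_left.1 h) hn1
  have hnc : ∀ g : G, g * n = n * g := by
    intro g
    rcases hN' _ (hN.conj_mem n hn g) with h | h
    · exact absurd (conj_eq_one_iff.1 h) hn1
    · exact mul_inv_eq_iff_eq_mul.1 h
  obtain ⟨u, hu⟩ := hπs (S3377.a5 0)
  obtain ⟨v, hv⟩ := hπs (S3377.a5 1)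
  have hN2' : ∀ g ∈ N, g ^ 2 = 1 := fun g hg => by
    rcases hN' g hg with rfl | rfl
    · simp
    · rw [sq]; exact hnn
  have hx : (u ^ 4) ^ 3 = 1 := by
    have hm : u ^ 3 ∈ N := (hker _).1 (by rw [map_pow, hu]; decide +kernel)
    rw [← pow_mul, show 4 * 3 = 3 * 2 * 2 from rfl, pow_mul, pow_mul, hN2' _ hm, one_pow]
  have hy : (v ^ 6) ^ 5 = 1 := by
    have hm : v ^ 5 ∈ N := (hker _).1 (by rw [map_pow, hv]; decide +kernel)
    rw [← pow_mul, show 6 * 5 = 5 * 2 * 3 from rfl, pow_mul, pow_mul, hN2' _ hm, one_pow]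
  have hxy : (u ^ 4 * v ^ 6) ^ 2 = n := by
    have hm : (u ^ 4 * v ^ 6) ^ 2 ∈ N := (hker _).1 (by
      rw [map_pow, map_mul, map_pow, map_pow, hu, hv]; decide +kernel)
    refine (hN' _ hm).resolve_left fun h => ?_
    rw [sq] at h
    have hne : π (u ^ 4 * v ^ 6) ≠ 1 := by
      rw [map_mul, map_pow, map_pow, hu, hv]; decide +kernel
    have := hinv _ n h hnn (fun h' => hne (by rw [h', map_one])) hn1 (hnc _)
    exact hne ((hker _).2 (this ▸ hn))
  have hrels : ∀ r ∈ SL25Presentation.rels, FreeGroup.lift ![u ^ 4, v ^ 6, n] r = 1 := by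
    intro r hr
    rcases hr with rfl | rfl | rfl | rfl | rfl | rfl <;>
      simp only [map_pow, map_mul, map_inv, FreeGroup.lift_apply_of, Matrix.cons_val_zero,
        Matrix.cons_val_one, Matrix.cons_val]
    · exact hx
    · exact hy
    · rw [sq]; exact hnn
    · rw [mul_assoc n⁻¹, hnc, inv_mul_cancel_left, mul_inv_cancel]
    · rw [mul_assoc n⁻¹, hnc, inv_mul_cancel_left, mul_inv_cancel]
    · rw [hxy, mul_inv_cancel]
  let φ : SL25Presentation.P →* G := PresentedGroup.toGroup hrels
  have hinj : Function.Injective φ := by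
    refine SL25Presentation.injective_of φ ?_ ?_
    · rw [show φ SL25Presentation.gz = n from PresentedGroup.toGroup.of _]; exact hn1
    · rw [show φ SL25Presentation.gx = u ^ 4 from PresentedGroup.toGroup.of _]
      intro h
      have := congrArg π h
      rw [map_pow, hu, map_one] at this
      exact absurd this (by decide +kernel)
  haveI := SL25Presentation.finite_card_le.1
  obtain ⟨eP⟩ := SL25Presentation.nonempty_mulEquiv
  exact ⟨(MulEquiv.ofBijective φ ((Nat.bijective_iff_injective_and_card φ).2
    ⟨hinj, by rw [SL25Presentation.card_P, h120]⟩)).symm.trans eP⟩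

end Cfsg.Agent.S3378
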