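import Cfsg.Statements.S3559
import Mathlib
-- import your own Cfsg.Agent.* helpers here

set_option autoImplicit false
open Cfsg
open scoped Pointwise

namespace Cfsg.Agent.S3559

open scoped Matrix

section SRing
variable {G Ω C : Type*} [Group G] [MulAction G Ω] [CommGroup C] [Fintype C] [DecidableEq C]
variable (φ : C ≃ Ω)

/-- The permutation of `C` corresponding to `g`. -/
def perm (g : G) : Equiv.Perm C := (φ.trans (MulAction.toPerm g)).trans φ.symm

/-- A function on `C` is invariant when the matrix `f (u⁻¹ v)` is `G`-invariant. -/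
def Inv {R : Type*} (f : C → R) : Prop :=
  ∀ (g : G) (u v : C), f ((perm φ g u)⁻¹ * perm φ g v) = f (u⁻¹ * v)

/-- A set is invariant. -/
def InvSet (X : Set C) : Prop :=
  ∀ (g : G) (u v : C), (perm φ g u)⁻¹ * perm φ g v ∈ X ↔ u⁻¹ * v ∈ X

variable {φ}

theorem invSet_block {X : Subgroup C} (hX : InvSet (G := G) φ (X : Set C))
    (hprim : MulAction.IsPreprimitive G Ω) : X = ⊥ ∨ X = ⊤ := by
  have hB : MulAction.IsBlock G (φ '' (X : Set C)) := by
    rw [MulAction.isBlock_iff_smul_eq_or_disjoint]
    intro g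
    by_cases hd : Disjoint (g • (φ '' (X : Set C))) (φ '' (X : Set C))
    · exact Or.inr hd
    left
    obtain ⟨b, hb1, hb2⟩ := Set.not_disjoint_iff.1 hd
    obtain ⟨s, hs, hsb⟩ := Set.mem_image _ _ _ |>.1 hb2
    obtain ⟨_, ⟨t, ht, rfl⟩, htb⟩ := hb1
    have hts : perm φ g t = s := by
      simp only [perm, Equiv.trans_apply, MulAction.toPerm_apply]
      rw [Equiv.symm_apply_eq]; exact htb.trans hsb.symm
    have key : ∀ v, v ∈ X ↔ perm φ g v ∈ X := by
      intro v
      have h := hX g t v
      simp only [SetLike.mem_coe] at h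
      rw [Subgroup.mul_mem_cancel_left _ (X.inv_mem (hts ▸ hs)), Subgroup.mul_mem_cancel_left _ (X.inv_mem ht)] at h
      exact h.symm
    ext o
    constructor
    · rintro ⟨_, ⟨v, hv, rfl⟩, rfl⟩
      exact ⟨perm φ g v, (key v).1 hv, by simp [perm]⟩
    · rintro ⟨v, hv, rfl⟩
      refine ⟨φ ((perm φ g).symm v), ⟨_, (key _).2 (by simpa using hv), rfl⟩, ?_⟩
      simp [perm]
  rcases hprim.isTrivialBlock_of_isBlock hB with h | h
  · left
    rw [Subgroup.eq_bot_iff_forall]
    intro x hx
    exact φ.injective (h ⟨x, hx, rfl⟩ ⟨1, X.one_mem, rfl⟩)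
  · right
    rw [Subgroup.eq_top_iff']
    intro x
    obtain ⟨v, hv, hvx⟩ := (h.symm ▸ Set.mem_univ (φ x) : φ x ∈ φ '' (X : Set C))
    exact φ.injective hvx ▸ hv

omit [Fintype C] [DecidableEq C] in
theorem invSet_closure {X : Set C} (hX : InvSet (G := G) φ X) :
    InvSet (G := G) φ (Subgroup.closure X : Set C) := by
  have key : ∀ g : G, ∀ h ∈ Subgroup.closure X, ∀ u,
      (perm φ g u)⁻¹ * perm φ g (u * h) ∈ Subgroup.closure X := by
    intro g h hh
    induction hh using Subgroup.closure_induction with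
    | mem x hx =>
      intro u
      exact Subgroup.subset_closure ((hX g u (u * x)).2 (by rwa [inv_mul_cancel_left]))
    | one => intro u; simpa using Subgroup.one_mem _
    | mul x y _ _ hx hy =>
      intro u
      have := Subgroup.mul_mem _ (hx u) (hy (u * x))
      simpa [mul_assoc] using this
    | inv x _ hx =>
      intro u
      have := Subgroup.inv_mem _ (hx (u * x⁻¹))
      simpa using this
  intro g u v
  constructor
  · intro h
    have h2 := key g⁻¹ _ h (perm φ g u)
    simpa [perm, mul_inv_cancel_left] using h2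
  · intro h
    have h2 := key g _ h u
    rwa [mul_inv_cancel_left] at h2

/-- The matrix of a function. -/
def mat {R : Type*} (f : C → R) : Matrix C C R := Matrix.of fun u v => f (u⁻¹ * v)

omit [Fintype C] [DecidableEq C] in
theorem inv_iff {R : Type*} (f : C → R) :
    Inv (G := G) φ f ↔ ∀ g : G, (mat f).submatrix (perm φ g) (perm φ g) = mat f := by
  simp [Inv, mat, ← Matrix.ext_iff]

theorem inv_level {R : Type*} {f : C → R} (hf : Inv (G := G) φ f) (S : Set R) :
    InvSet (G := G) φ (f ⁻¹' S) := by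
  intro g u v
  simp [hf g u v]

/-- indicator -/
noncomputable def ind (R : Type*) [Zero R] [One R] (X : Set C) (x : C) : R := X.indicator 1 x

omit [Fintype C] [DecidableEq C] in
theorem inv_ind {R : Type*} [Zero R] [One R] {X : Set C} (hX : InvSet (G := G) φ X) :
    Inv (G := G) φ (ind R X) := by
  classical
  intro g u v
  simp [ind, Set.indicator, hX g u v]

/-- Translation matrix. -/
def shift (R : Type*) [Semiring R] (t : C) : Matrix C C R := mat (fun x => if x = t then 1 else 0)

theorem shift_mul (R : Type*) [Semiring R] (s t : C) : shift R s * shift R t = shift R (s * t) := by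
  ext u v
  simp only [shift, mat, Matrix.mul_apply, Matrix.of_apply]
  rw [Finset.sum_eq_single (u * s)]
  · simp only [inv_mul_cancel_left, if_true, one_mul]
    congr 1
    apply propext
    constructor
    · intro h
      rw [← h]; group
    · intro h
      rw [show v = u * (s * t) by rw [← h]; group]; group
  · intro b _ hb
    rw [if_neg, zero_mul]
    intro h
    exact hb (by rw [← h]; group)
  · simp

theorem shift_pow (R : Type*) [Semiring R] (t : C) (k : ℕ) : shift R t ^ k = shift R (t ^ k) := by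
  induction k with
  | zero =>
    ext u v
    simp [shift, mat, Matrix.one_apply, inv_mul_eq_one]
  | succ k ih => rw [pow_succ, ih, shift_mul, ← pow_succ]

omit [Fintype C] in
theorem mat_eq_sum (R : Type*) [Semiring R] (T : Finset C) :
    mat (ind R (T : Set C)) = ∑ t ∈ T, shift R t := by
  ext u v
  simp [mat, ind, shift, Matrix.sum_apply, Set.indicator]

theorem inv_powCount {p : ℕ} [Fact p.Prime] {T : Finset C} (hT : InvSet (G := G) φ (T : Set C)) :
    Inv (G := G) φ (fun x => (((T.filter (fun t => t ^ p = x)).card : ℕ) : ZMod p)) := by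
  rcases isEmpty_or_nonempty C with h | h
  · intro g u; exact (h.false u).elim
  have h1 := (inv_iff _).1 (inv_ind (R := ZMod p) hT)
  have h2 : mat (fun x => (((T.filter (fun t => t ^ p = x)).card : ℕ) : ZMod p)) =
      mat (ind (ZMod p) (T : Set C)) ^ p := by
    have hfr : ∀ S : Finset C, (∑ t ∈ S, shift (ZMod p) t) ^ p = ∑ t ∈ S, shift (ZMod p) (t ^ p) := by
      intro S
      induction S using Finset.induction_on with
      | empty => simp [(Fact.out : p.Prime).ne_zero]
      | insert a S ha ih =>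
        rw [Finset.sum_insert ha, Finset.sum_insert ha, add_pow_char_of_commute, ih, shift_pow]
        exact Commute.sum_right _ _ _ (fun i _ => by rw [Commute, SemiconjBy, shift_mul, shift_mul, mul_comm])
    rw [mat_eq_sum, hfr]
    ext u v
    simp only [mat, shift, Matrix.sum_apply, Matrix.of_apply, Finset.sum_boole]
    simp [eq_comm]
  rw [inv_iff]
  intro g
  rw [h2]
  have h3 := map_pow (Matrix.reindexAlgEquiv (ZMod p) (ZMod p) (perm φ g).symm) (mat (ind (ZMod p) (T : Set C))) p
  simp only [Matrix.reindexAlgEquiv_apply, Matrix.reindex_apply, Equiv.symm_symm] at h3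
  rw [h1 g] at h3
  exact h3

theorem inv_corr {T : Finset C} (hT : InvSet (G := G) φ (T : Set C)) :
    Inv (G := G) φ (fun h => (T.filter (fun y => y * h ∈ T)).card) := by
  have hr : InvSet (G := G) φ ((T.image (·⁻¹) : Finset C) : Set C) := by
    intro g u v
    have := hT g v u
    simp only [Finset.coe_image, Set.image_inv_eq_inv, Set.mem_inv, mul_inv_rev, inv_inv]
    exact this
  have h1 := (inv_iff _).1 (inv_ind (R := ℕ) hT)
  have h1' := (inv_iff _).1 (inv_ind (R := ℕ) hr)
  have h2 : mat (fun h => (T.filter (fun y => y * h ∈ T)).card) =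
      mat (ind ℕ ((T.image (·⁻¹) : Finset C) : Set C)) * mat (ind ℕ (T : Set C)) := by
    rw [mat_eq_sum, mat_eq_sum, Finset.sum_image (inv_injective.injOn), Finset.sum_mul]
    simp only [Finset.mul_sum, shift_mul]
    ext u v
    simp only [Matrix.sum_apply, mat, shift, Matrix.of_apply, Finset.card_filter]
    apply Finset.sum_congr rfl
    intro y _
    have e : ∀ x, (u⁻¹ * v = y⁻¹ * x) ↔ (x = y * (u⁻¹ * v)) := fun x => by
      constructor
      · intro h; rw [h, mul_inv_cancel_left]
      · intro h; rw [h, inv_mul_cancel_left]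
    simp [e]
  rw [inv_iff]
  intro g
  rw [h2, Matrix.submatrix_mul _ _ _ _ _ (perm φ g).bijective, h1 g, h1' g]

end SRing

section Main
variable {G Ω C : Type*} [Group G] [MulAction G Ω] [CommGroup C] [Fintype C] [DecidableEq C]

theorem two_transitive (φ : C ≃ Ω) (hshift : ∀ c : C, ∃ g : G, ∀ u, perm φ g u = c * u)
    (hcyc : IsCyclic C) (hprim : MulAction.IsPreprimitive G Ω) (p q : ℕ) (hp : p.Prime) (hq : q.Prime)
    (hpq : p ≠ q) (hpn : p ∣ Fintype.card C) (hqn : q ∣ Fintype.card C)
    (c d : C) (hc : c ≠ 1) (hd : d ≠ 1) : ∃ g : G, perm φ g 1 = 1 ∧ perm φ g c = d := by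
  classical
  have hmul : ∀ (g g' : G) u, perm φ (g * g') u = perm φ g (perm φ g' u) := by
    intro g g' u; simp [perm, mul_smul]
  have hinv : ∀ (g : G) u, perm φ g⁻¹ (perm φ g u) = u := by
    intro g u; rw [← hmul]; simp [perm]
  let orb : C → Finset C := fun c => Finset.univ.filter (fun x => ∃ g : G, perm φ g 1 = 1 ∧ perm φ g c = x)
  have horb : ∀ c, InvSet (G := G) φ (orb c : Set C) := by
    intro c g u v
    suffices h : ∀ (g : G) (u v : C), u⁻¹ * v ∈ orb c → (perm φ g u)⁻¹ * perm φ g v ∈ orb c by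
      refine ⟨fun hh => ?_, h g u v⟩
      have := h g⁻¹ _ _ hh
      rwa [hinv, hinv] at this
    intro g u v huv
    obtain ⟨g0, h01, h0⟩ := (Finset.mem_filter.1 huv).2
    obtain ⟨gu, hgu⟩ := hshift u
    obtain ⟨gw, hgw⟩ := hshift (perm φ g u)⁻¹
    refine Finset.mem_filter.2 ⟨Finset.mem_univ _, gw * g * gu * g0, ?_, ?_⟩
    · simp [hmul, h01, hgu, hgw]
    · simp [hmul, h0, hgu, hgw]
  have hself : ∀ c, c ∈ orb c := fun c => Finset.mem_filter.2 ⟨Finset.mem_univ _, 1, by simp [perm]⟩
  have hone : ∀ c, c ≠ 1 → (1 : C) ∉ orb c := by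
    intro c hc h
    obtain ⟨g, h1, h2⟩ := (Finset.mem_filter.1 h).2
    exact hc ((perm φ g).injective (h2.trans h1.symm))
  -- the key periodicity
  have key : ∀ (r : ℕ), r.Prime → r ∣ Fintype.card C → ∀ c, c ≠ 1 → ∀ x ∈ orb c, x ^ r ≠ 1 →
      ∀ z, z ^ r = 1 → x * z ∈ orb c := by
    intro r hr hrn c _ x hx hxr z hz
    haveI : Fact r.Prime := ⟨hr⟩
    set T := orb c with hTdef
    let X : Set C := (fun y => (((T.filter (fun t => t ^ r = y)).card : ℕ) : ZMod r)) ⁻¹' {0}ᶜ
    have hXi : InvSet (G := G) φ X := inv_level (inv_powCount (horb c)) _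
    have hXsub : X ⊆ (((powMonoidHom r : C →* C).range : Subgroup C) : Set C) := by
      intro y hy
      have : (T.filter (fun t => t ^ r = y)).Nonempty := by
        rw [← Finset.card_ne_zero]
        intro h0
        exact hy (by simp [h0])
      obtain ⟨t, ht⟩ := this
      exact ⟨t, (Finset.mem_filter.1 ht).2⟩
    have hproper : (powMonoidHom r : C →* C).range ≠ ⊤ := by
      intro h
      obtain ⟨w, hw⟩ := exists_prime_orderOf_dvd_card r hrn
      have hsurj : Function.Surjective (powMonoidHom r : C →* C) := MonoidHom.range_eq_top.1 h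
      have hw1 : powMonoidHom r w = powMonoidHom r 1 := by
        simp [powMonoidHom_apply, ← hw, pow_orderOf_eq_one]
      have := (Finite.injective_iff_surjective.2 hsurj) hw1
      rw [this, orderOf_one] at hw
      exact hr.ne_one hw.symm
    have hbot : Subgroup.closure X = ⊥ := by
      refine (invSet_block (invSet_closure hXi) hprim).resolve_right (fun h => hproper ?_)
      rw [eq_top_iff, ← h, Subgroup.closure_le]
      exact hXsub
    have h0 : (((T.filter (fun t => t ^ r = x ^ r)).card : ℕ) : ZMod r) = 0 := by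
      by_contra h
      have hm : x ^ r ∈ Subgroup.closure X := Subgroup.subset_closure h
      rw [hbot, Subgroup.mem_bot] at hm
      exact hxr hm
    rw [ZMod.natCast_eq_zero_iff] at h0
    have hall : T.filter (fun t => t ^ r = x ^ r) = Finset.univ.filter (fun t => t ^ r = x ^ r) := by
      apply Finset.eq_of_subset_of_card_le
      · intro t ht; simp only [Finset.mem_filter, Finset.mem_univ, true_and] at ht ⊢; exact ht.2
      · have hle : (Finset.univ.filter (fun t : C => t ^ r = x ^ r)).card ≤ r := by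
          refine le_trans (Finset.card_le_card_of_injOn (fun t => x⁻¹ * t)
            (t := Finset.univ.filter (fun t : C => t ^ r = 1)) ?_ ?_) (IsCyclic.card_pow_eq_one_le hr.pos)
          · intro t ht
            simp only [Finset.coe_filter, Finset.mem_univ, true_and, Set.mem_setOf_eq] at ht ⊢
            simp [mul_pow, ht, inv_pow]
          · exact (mul_right_injective _).injOn
        refine hle.trans (Nat.le_of_dvd ?_ h0)
        exact Finset.card_pos.2 ⟨x, Finset.mem_filter.2 ⟨hx, rfl⟩⟩
    have hm : x * z ∈ T.filter (fun t => t ^ r = x ^ r) := by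
      rw [hall]; simp [mul_pow, hz]
    exact (Finset.mem_filter.1 hm).1
  have meet : ∀ (r : ℕ), r.Prime → r ∣ Fintype.card C → ∀ c, c ≠ 1 → ∃ a ∈ orb c, a ^ r = 1 := by
    intro r hr hrn c hc
    by_contra hcon
    push Not at hcon
    set T := orb c with hTdef
    let R : Subgroup C :=
      { carrier := {h | ∀ y ∈ T, y * h ∈ T}
        one_mem' := fun y hy => by simpa using hy
        mul_mem' := fun {a b} ha hb y hy => by rw [← mul_assoc]; exact hb _ (ha y hy)
        inv_mem' := fun {a} ha y hy => by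
          have him : T.image (· * a) = T := Finset.eq_of_subset_of_card_le
            (fun w hw => by obtain ⟨y', hy', rfl⟩ := Finset.mem_image.1 hw; exact ha y' hy')
            (le_of_eq (Finset.card_image_of_injective _ (mul_left_injective a)).symm)
          rw [← him] at hy
          obtain ⟨y', hy', rfl⟩ := Finset.mem_image.1 hy
          simpa using hy' }
    have hRi : InvSet (G := G) φ (R : Set C) := by
      have : (R : Set C) = (fun h => (T.filter (fun y => y * h ∈ T)).card) ⁻¹' {T.card} := by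
        ext h
        simp only [R, Subgroup.coe_set_mk, Set.mem_preimage, Set.mem_singleton_iff, Finset.card_filter_eq_iff]
        rfl
      rw [this]
      exact inv_level (inv_corr (horb c)) _
    haveI : Fact r.Prime := ⟨hr⟩
    obtain ⟨w, hw⟩ := exists_prime_orderOf_dvd_card r hrn
    have hwR : w ∈ R := fun y hy => key r hr hrn c hc y hy (hcon y hy) w (by rw [← hw, pow_orderOf_eq_one])
    rcases invSet_block hRi hprim with h | h
    · rw [h, Subgroup.mem_bot] at hwR
      rw [hwR, orderOf_one] at hw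
      exact hr.ne_one hw.symm
    · have : c * c⁻¹ ∈ T := (show c⁻¹ ∈ R from h ▸ Subgroup.mem_top _) c (hself c)
      rw [mul_inv_cancel] at this
      exact hone c hc this
  have hne : ∀ (r s : ℕ), r.Prime → s.Prime → r ≠ s → ∀ a : C, a ≠ 1 → a ^ r = 1 → a ^ s ≠ 1 := by
    intro r s hr hs hrs a ha har has
    apply ha
    have h1 := pow_gcd_eq_one.2 ⟨har, has⟩
    rwa [(Nat.coprime_primes hr hs).2 hrs, pow_one] at h1
  obtain ⟨a, haT, hap⟩ := meet p hp hpn c hc
  obtain ⟨b, hbT, hbq⟩ := meet q hq hqn d hd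
  have ha1 : a ≠ 1 := fun h => hone c hc (h ▸ haT)
  have hb1 : b ≠ 1 := fun h => hone d hd (h ▸ hbT)
  have h1 : a * b ∈ orb c := key q hq hqn c hc a haT (hne p q hp hq hpq a ha1 hap) b hbq
  have h2 : a * b ∈ orb d := by
    rw [mul_comm]
    exact key p hp hpn d hd b hbT (hne q p hq hp hpq.symm b hb1 hbq) a hap
  obtain ⟨g, hg1, hg⟩ := (Finset.mem_filter.1 h1).2
  obtain ⟨g', hg1', hg'⟩ := (Finset.mem_filter.1 h2).2
  refine ⟨g'⁻¹ * g, ?_, ?_⟩
  · rw [hmul, hg1]
    calc perm φ g'⁻¹ 1 = perm φ g'⁻¹ (perm φ g' 1) := by rw [hg1']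
      _ = 1 := hinv _ _
  · rw [hmul, hg, ← hg', hinv]

end Main

/-- Let G act faithfully and transitively on a finite set whose number of points n ≥ 2 is not a prime power, and suppose G has a cyclic subgroup acting regularly (transitively with trivial point stabilizers). Then G is imprimitive or doubly transitive. -/
theorem result {G Ω : Type*} [Group G] [Finite G] [MulAction G Ω] [FaithfulSMul G Ω] [Finite Ω]
    (htrans : MulAction.IsPretransitive G Ω) (hn : 2 ≤ Nat.card Ω) (hnp : ¬ IsPrimePow (Nat.card Ω))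
    (C : Subgroup G) (hcyc : IsCyclic ↥C) (hC : MulAction.IsPretransitive ↥C Ω ∧ ∀ a : Ω, MulAction.stabilizer ↥C a = ⊥) :
    ¬ MulAction.IsPreprimitive G Ω ∨ MulAction.IsMultiplyPretransitive G Ω 2 := by
  classical
  by_cases hprim : MulAction.IsPreprimitive G Ω
  swap
  · exact Or.inl hprim
  right
  obtain ⟨hCt, hCs⟩ := hC
  have : Fintype C := Fintype.ofFinite _
  letI : CommGroup C := hcyc.commGroup
  obtain ⟨a⟩ : Nonempty Ω := (Nat.card_pos_iff.1 (by omega)).1
  have hbij : Function.Bijective (fun c : C => c • a) := by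
    refine ⟨fun x y h => ?_, fun b => hCt.exists_smul_eq a b⟩
    have h2 : x⁻¹ * y ∈ MulAction.stabilizer (↥C) a := by
      rw [MulAction.mem_stabilizer_iff, mul_smul, ← show x • a = y • a from h, inv_smul_smul]
    rw [hCs a, Subgroup.mem_bot] at h2
    exact inv_mul_eq_one.1 h2
  let φ : C ≃ Ω := Equiv.ofBijective _ hbij
  have hcard : Fintype.card C = Nat.card Ω := by
    rw [← Nat.card_eq_fintype_card]; exact Nat.card_congr φ
  obtain ⟨p, q, hp, hq, hpq, hpn, hqn⟩ : ∃ p q : ℕ, p.Prime ∧ q.Prime ∧ p ≠ q ∧ p ∣ Nat.card Ω ∧ q ∣ Nat.card Ω := by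
    by_contra hcon
    push Not at hcon
    apply hnp
    rw [isPrimePow_iff_unique_prime_dvd]
    obtain ⟨p, hp, hpn⟩ := Nat.exists_prime_and_dvd (show Nat.card Ω ≠ 1 by omega)
    refine ⟨p, ⟨hp, hpn⟩, ?_⟩
    rintro q ⟨hq, hqn⟩
    by_contra hne
    exact hcon p q hp hq (Ne.symm hne) hpn hqn
  have hshift : ∀ c : C, ∃ g : G, ∀ u, perm φ g u = c * u := by
    intro c
    refine ⟨(c : G), fun u => ?_⟩
    show φ.symm ((c : G) • φ u) = c * u
    rw [Equiv.symm_apply_eq]
    show (c : G) • (u • a) = (c * u) • a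
    rw [mul_smul]; rfl
  have hφ : ∀ g : G, ∀ u, φ (perm φ g u) = g • φ u := fun g u => φ.apply_symm_apply _
  rw [MulAction.is_two_pretransitive_iff]
  intro x y z w hxy hzw
  obtain ⟨u, rfl⟩ := φ.surjective x
  obtain ⟨v, rfl⟩ := φ.surjective y
  obtain ⟨u', rfl⟩ := φ.surjective z
  obtain ⟨v', rfl⟩ := φ.surjective w
  obtain ⟨g1, hg1⟩ := hshift u⁻¹
  obtain ⟨g2, hg2⟩ := hshift u'
  obtain ⟨g, hga, hgb⟩ := two_transitive (G := G) φ hshift hcyc hprim p q hp hq hpq (hcard ▸ hpn) (hcard ▸ hqn)
    (u⁻¹ * v) (u'⁻¹ * v') (by rw [ne_eq, inv_mul_eq_one]; exact fun h => hxy (h ▸ rfl))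
    (by rw [ne_eq, inv_mul_eq_one]; exact fun h => hzw (h ▸ rfl))
  refine ⟨g2 * g * g1, ?_, ?_⟩
  · rw [mul_smul, mul_smul, ← hφ, ← hφ, ← hφ, hg1, inv_mul_cancel, hga, hg2, mul_one]
  · rw [mul_smul, mul_smul, ← hφ, ← hφ, ← hφ, hg1, hgb, hg2, mul_inv_cancel_left]

end Cfsg.Agent.S3559
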