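import Cfsg.Statements.S3972
import Mathlib
import Cfsg.Agent.Lib.CyclicBGroup72

set_option autoImplicit false
open Cfsg

namespace Cfsg.Agent.S3972

open CyclicBGroup72

theorem u0_mem {p m : ℕ} [hp : Fact p.Prime] (hm : 2 ≤ m) (D : AddSubgroup (ZMod (p ^ m))) :
    ∀ k : ℕ, ∀ d ∈ D, d ≠ 0 → ((p ^ k : ℕ) : ZMod (p ^ m)) * d = 0 → u0 p m ∈ D := by
  intro k
  induction k with
  | zero => intro d _ hd h; rw [pow_zero, Nat.cast_one, one_mul] at h; exact absurd h hd
  | succ k ih =>
    intro d hd hd0 h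
    by_cases hpd : (p : ZMod (p ^ m)) * d = 0
    · obtain ⟨j, rfl⟩ := eq_emb_of_p_mul hm d hpd
      have hj : j ≠ 0 := fun e => hd0 ((emb_eq_zero hm).2 e)
      have h1 : ((j⁻¹ : ZMod p).val : ZMod (p ^ m)) * emb p m j ∈ D := by
        rw [← nsmul_eq_mul]; exact D.nsmul_mem hd _
      rwa [mul_emb hm, map_natCast, ZMod.natCast_zmod_val, inv_mul_cancel₀ hj, emb_one hm] at h1
    · refine ih _ (by rw [← nsmul_eq_mul]; exact D.nsmul_mem hd p) hpd ?_
      rw [← mul_assoc, ← Nat.cast_mul, ← pow_succ]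
      exact h

/-- Let `p` be a prime, `m ≥ 2`, and `G` a transitive but not doubly transitive permutation group on `p ^ m` points containing a permutation of order `p ^ m` (necessarily a full cycle). Then `G` is imprimitive, and the normal closure in `G` of the `p ^ (m - 1)`-th power of that permutation is an intransitive normal subgroup. -/
theorem result {Ω : Type*} [Fintype Ω] [DecidableEq Ω] (p m : ℕ) (hp : p.Prime) (hm : 2 ≤ m) (hΩ : Fintype.card Ω = p ^ m) (G : Subgroup (Equiv.Perm Ω)) (htr : MulAction.IsPretransitive G Ω) (h2 : ¬ MulAction.IsMultiplyPretransitive G Ω 2) (g : G) (hg : orderOf g = p ^ m) : ¬ MulAction.IsPreprimitive G Ω ∧ ¬ MulAction.IsPretransitive (Subgroup.normalClosure ({g ^ (p ^ (m - 1))} : Set G)) Ω := by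
  classical
  haveI := Fact.mk hp
  set σ : Equiv.Perm Ω := (g : Equiv.Perm Ω) with hσdef
  have hσ : orderOf σ = p ^ m := by first | exact hg | (rw [hσdef, Subgroup.orderOf_coe, hg])
  have hσG : σ ∈ G := by first | exact g.2 | exact hgG
  have hpow : σ ^ p ^ m = 1 := orderOf_dvd_iff_pow_eq_one.1 (dvd_of_eq hσ)
  obtain ⟨ω, hω⟩ : ∃ ω, (σ ^ p ^ (m - 1)) ω ≠ ω := by
    by_contra h
    push_neg at h
    have h1 : σ ^ p ^ (m - 1) = 1 := Equiv.ext h
    have := Nat.le_of_dvd (pow_pos hp.pos _) (orderOf_dvd_of_pow_eq_one h1)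
    rw [hσ] at this
    have := Nat.pow_lt_pow_right hp.one_lt (show m - 1 < m by omega)
    omega
  let f : ZMod (p ^ m) → Ω := fun x => (σ ^ x.val) ω
  have hadd : ∀ x c, f (x + c) = (σ ^ c.val) (f x) := by
    intro x c
    show (σ ^ (x + c).val) ω = (σ ^ c.val) ((σ ^ x.val) ω)
    rw [← Equiv.Perm.mul_apply, ← pow_add, add_comm c.val, ZMod.val_add]
    congr 1
    exact pow_eq_pow_iff_modEq.2 (by rw [hσ]; exact Nat.mod_modEq _ _)
  have hinj : Function.Injective f := by
    intro x y hxy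
    by_contra hne
    have hd : x - y ≠ 0 := sub_ne_zero.2 hne
    have h1 : (σ ^ (x - y).val) ω ∈ ({ω} : Set Ω) := by
      have h2 := hadd y (x - y)
      rw [add_sub_cancel, hxy] at h2
      show _ = ω
      apply (σ ^ y.val).injective
      rw [← Equiv.Perm.mul_apply, ← pow_add, add_comm, pow_add, Equiv.Perm.mul_apply]
      exact h2.symm
    set St := MulAction.stabilizer (Equiv.Perm Ω) ω
    have h3 : σ ^ (x - y).val ∈ St := h1
    have hg' : σ ^ Nat.gcd (x - y).val (p ^ m) ∈ St := by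
      rw [← zpow_natCast, Nat.gcd_eq_gcd_ab, zpow_add, zpow_mul, zpow_mul, zpow_natCast,
        zpow_natCast, hpow, one_zpow, mul_one]
      exact St.zpow_mem h3 _
    obtain ⟨i, hi, hgi⟩ := (Nat.dvd_prime_pow hp).1 (Nat.gcd_dvd_right (x - y).val (p ^ m))
    rw [hgi] at hg'
    have him : i < m := by
      refine lt_of_le_of_ne hi fun e => ?_
      have h4 : p ^ m ∣ (x - y).val := by
        have h4' : p ^ m = Nat.gcd (x - y).val (p ^ m) := by rw [hgi, e]
        exact (dvd_of_eq h4').trans (Nat.gcd_dvd_left _ _)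
      have h5 := ZMod.val_lt (x - y)
      exact hd ((ZMod.val_eq_zero _).1 (Nat.eq_zero_of_dvd_of_lt h4 h5))
    apply hω
    show σ ^ p ^ (m - 1) ∈ St
    obtain ⟨c, hc⟩ := pow_dvd_pow p (show i ≤ m - 1 by omega)
    rw [hc, pow_mul]
    exact St.pow_mem hg' _
  have hbij : Function.Bijective f :=
    (Fintype.bijective_iff_injective_and_card f).2 ⟨hinj, by rw [ZMod.card, hΩ]⟩
  let e : ZMod (p ^ m) ≃ Ω := Equiv.ofBijective f hbij
  have he : ∀ x c, e (x + c) = (σ ^ c.val) (e x) := hadd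
  let G' : Subgroup (Equiv.Perm (ZMod (p ^ m))) := G.comap e.permCongrHom.toMonoidHom
  have hG' : ∀ τ, τ ∈ G' ↔ e.permCongr τ ∈ G := fun τ => Iff.rfl
  have hT : ∀ c, Equiv.addRight c ∈ G' := by
    intro c
    rw [hG']
    have : e.permCongr (Equiv.addRight c) = σ ^ c.val := by
      ext z
      obtain ⟨x, rfl⟩ := e.surjective z
      rw [Equiv.permCongr_apply, Equiv.symm_apply_apply, Equiv.coe_addRight, he]
    rw [this]
    exact G.pow_mem hσG _
  have hnot : ¬ ∀ x y : ZMod (p ^ m), x ≠ 0 → y ≠ 0 → Rel G' x y := by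
    intro hall
    apply h2
    rw [MulAction.is_two_pretransitive_iff]
    intro a b c d hab hcd
    obtain ⟨x0, rfl⟩ := e.surjective a
    obtain ⟨x1, rfl⟩ := e.surjective b
    obtain ⟨y0, rfl⟩ := e.surjective c
    obtain ⟨y1, rfl⟩ := e.surjective d
    obtain ⟨τ, hτ, h0, h1⟩ := hall (x1 - x0) (y1 - y0)
      (sub_ne_zero.2 fun h => hab (by rw [h])) (sub_ne_zero.2 fun h => hcd (by rw [h]))
    have hmem : Equiv.addRight y0 * τ * Equiv.addRight (-x0) ∈ G' :=
      G'.mul_mem (G'.mul_mem (hT _) hτ) (hT _)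
    refine ⟨⟨_, (hG' _).1 hmem⟩, ?_, ?_⟩
    · rw [Subgroup.smul_def, Equiv.Perm.smul_def]
      simp [h0]
    · rw [Subgroup.smul_def, Equiv.Perm.smul_def]
      simp [← sub_eq_add_neg, h1]
  obtain ⟨D, hD0, hD1, hDi⟩ := exists_invariant_subgroup hm hT hnot
  have hmove : ∀ τ : G, ∀ x d, d ∈ D →
      e.symm ((τ : Equiv.Perm Ω) (e (x + d))) - e.symm ((τ : Equiv.Perm Ω) (e x)) ∈ D := by
    intro τ x d hd
    have hmem : e.symm.permCongr (τ : Equiv.Perm Ω) ∈ G' := by
      rw [hG']
      convert τ.2 using 1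
      ext z
      simp
    have := hDi _ _ (rel_shift hT hmem x d) hd
    simpa [Equiv.permCongr_apply] using this
  obtain ⟨d0, hd0, hd0'⟩ : ∃ d ∈ D, d ≠ 0 := by
    by_contra h
    push_neg at h
    exact hD0 ((AddSubgroup.eq_bot_iff_forall D).2 h)
  obtain ⟨w, hw⟩ : ∃ w, w ∉ D := by
    by_contra h
    push_neg at h
    exact hD1 ((AddSubgroup.eq_top_iff' D).2 h)
  have hu : u0 p m ∈ D := u0_mem hm D m d0 hd0 hd0' (by rw [ZMod.natCast_self, zero_mul])
  refine ⟨fun hpre => ?_, fun htr' => ?_⟩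
  · have hB : MulAction.IsBlock G (e '' (D : Set (ZMod (p ^ m)))) := by
      rw [MulAction.isBlock_iff_smul_eq_or_disjoint]
      intro τ
      set s := e.symm ((τ : Equiv.Perm Ω) (e 0))
      have hval : ∀ d ∈ D, e.symm ((τ : Equiv.Perm Ω) (e d)) - s ∈ D := fun d hd => by
        simpa using hmove τ 0 d hd
      by_cases hs : s ∈ D
      · left
        refine Set.eq_of_subset_of_ncard_le ?_ ?_
        · rintro _ ⟨_, ⟨d, hd, rfl⟩, rfl⟩
          refine ⟨e.symm ((τ : Equiv.Perm Ω) (e d)), ?_, e.apply_symm_apply _⟩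
          have := add_mem (hval d hd) hs
          rwa [sub_add_cancel] at this
        · rw [← Set.image_smul, Set.ncard_image_of_injective _ (MulAction.injective τ)]
      · right
        rw [Set.disjoint_left]
        rintro _ ⟨_, ⟨d, hd, rfl⟩, rfl⟩ ⟨d', hd', he'⟩
        apply hs
        have h4 : e.symm ((τ : Equiv.Perm Ω) (e d)) = d' := by
          rw [Equiv.symm_apply_eq]; exact he'.symm
        have := sub_mem hd' (hval d hd)
        rwa [h4, sub_sub_cancel] at this
    rcases hpre.isTrivialBlock_of_isBlock hB with h | h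
    · exact hd0' (e.injective (h ⟨d0, hd0, rfl⟩ ⟨0, D.zero_mem, rfl⟩))
    · obtain ⟨d, hd, hd'⟩ := h.symm.subset (Set.mem_univ (e w))
      exact hw (e.injective hd' ▸ hd)
  · let N : Subgroup G :=
      { carrier := {τ | ∀ x, e.symm ((τ : Equiv.Perm Ω) (e x)) - x ∈ D}
        one_mem' := fun x => by simp
        mul_mem' := fun {a b} ha hb x => by
          have h1 := ha (e.symm ((b : Equiv.Perm Ω) (e x)))
          rw [Equiv.apply_symm_apply] at h1
          have := add_mem h1 (hb x)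
          rwa [sub_add_sub_cancel] at this
        inv_mem' := fun {a} ha x => by
          have := neg_mem (ha (e.symm ((a⁻¹ : G).1 (e x))))
          simpa using this }
    haveI : N.Normal := by
      refine ⟨fun a ha c x => ?_⟩
      set y := e.symm (((c⁻¹ : G) : Equiv.Perm Ω) (e x)) with hy
      have := hmove c y _ (ha y)
      rw [add_sub_cancel, Equiv.apply_symm_apply] at this
      simpa [hy] using this
    have hgen : ∀ z : G, (z : Equiv.Perm Ω) = σ ^ p ^ (m - 1) → z ∈ N := by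
      intro z hz x
      have h1 := he x (u0 p m)
      rw [u0, ZMod.val_natCast_of_lt (Nat.pow_lt_pow_right hp.one_lt (show m - 1 < m by omega)),
        ← hz] at h1
      rw [← h1, Equiv.symm_apply_apply, add_sub_cancel_left]
      exact hu
    obtain ⟨⟨τ, hτ⟩, hτ'⟩ := htr'.exists_smul_eq (e 0) (e w)
    have hτN : τ ∈ N := Subgroup.normalClosure_le_normal (fun z hz => hgen z (by
      first | (rw [Set.mem_singleton_iff.1 hz]; rfl) | simp_all)) hτ
    apply hw
    have := hτN 0
    rw [sub_zero] at this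
    have h2 : (τ : Equiv.Perm Ω) (e 0) = e w := hτ'
    rwa [h2, Equiv.symm_apply_apply] at this

end Cfsg.Agent.S3972
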