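import Cfsg.Statements.S0319
import Cfsg.Agent.Lib.BNPair
-- import your own Cfsg.Agent.* helpers here

set_option autoImplicit false
open Cfsg

namespace Cfsg.Agent.S0319

/-- Simplicity criterion for groups with a (B,N)-pair: if the distinguished generators admit no
splitting into two non-empty mutually commuting parts, `B` is solvable, `G` is perfect and the intersection
of all conjugates of `B` is trivial, then `G` is simple. -/
theorem result {G : Type*} [Group G] [Nontrivial G]
    (P : Cfsg.BNPair G) (hirr : P.Irreducible) (hsolv : Group.IsSolvable P.B) (hperf : commutator G = ⊤)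
    (hcore : P.B.normalCore = ⊥) : IsSimpleGroup G := by
  refine @IsSimpleGroup.mk G _ _ fun K hK => ?_
  set J : Set G := {s | s ∈ P.S ∧ s ∈ P.B ⊔ K} with hJdef
  have hM : P.B ⊔ K = P.parabolic J := BNPairLib.eq_parabolic P le_sup_left
  have hcomm : ∀ t ∈ J, ∀ s ∈ P.S \ J, t * s * t⁻¹ * s⁻¹ ∈ P.B := by
    rintro t ⟨htS, htM⟩ s ⟨hsS, hsJ⟩
    set s' : P.S := ⟨s, hsS⟩
    set t' : P.S := ⟨t, htS⟩
    set WJ := BNPairLib.WJ P {x : P.S | (x : G) ∈ J}
    have ht' : BNPairLib.σ P t' ∈ WJ := BNPairLib.σ_mem_WJ P (s := t') ⟨htS, htM⟩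
    have hs' : BNPairLib.σ P s' ∉ WJ := fun h => hsJ (BNPairLib.mem_of_σ_mem_WJ P h)
    have hst : BNPairLib.σ P s' * BNPairLib.σ P t' ∉ WJ := fun h =>
      hs' ((Subgroup.mul_mem_cancel_right _ ht').1 h)
    rw [← SetLike.mem_coe, Subgroup.mul_normal] at htM
    obtain ⟨b, hb, k, hk, e : b * k = t⟩ := htM
    have hk' : k ∈ BNPairLib.cell P (BNPairLib.σ P t') := by
      have : k = b⁻¹ * t := by rw [← e]; group
      rw [this]
      exact BNPairLib.cell_mul_left P (P.B.inv_mem hb) (BNPairLib.rep_mem_cell P t')
    have hlen : BNPairLib.len P (BNPairLib.σ P t') ≤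
        BNPairLib.len P (BNPairLib.σ P s' * BNPairLib.σ P t') := by
      rw [BNPairLib.len_σ]
      by_contra hc
      push Not at hc
      have := (BNPairLib.len_eq_zero P).1 (Nat.lt_one_iff.1 hc)
      exact hst (this ▸ Subgroup.one_mem _)
    have h1 : s * k ∈ BNPairLib.cell P (BNPairLib.σ P s' * BNPairLib.σ P t') :=
      BNPairLib.rep_mul_cell_of_le' P hlen hk'
    have hsk : s * k * s⁻¹ ∈ P.parabolic J := by
      rw [← hM]
      exact (le_sup_right : K ≤ _) (hK.conj_mem k hk s)
    obtain ⟨w, hw, hwc⟩ := (BNPairLib.mem_parabolic P (fun x hx => hx.1)).1 hsk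
    have e2 : s * k * s⁻¹ = s * k * s * (s * s)⁻¹ := by group
    rw [e2] at hwc
    have hwc' : s * k * s ∈ BNPairLib.cell P w := by
      have := BNPairLib.cell_mul_right P (P.sq_mem s hsS) hwc
      simpa using this
    rcases BNPairLib.cell_mul_rep P s' h1 with h | h
    · obtain rfl := BNPairLib.cell_unique P hwc' h
      obtain ⟨l, hl, el, hlJ⟩ := BNPairLib.exists_red_of_mem_WJ P hw
      obtain ⟨l', hl', el'⟩ : ∃ l', BNPairLib.Red P l' ∧
          BNPairLib.wd P l' = BNPairLib.σ P s' * BNPairLib.σ P t' * BNPairLib.σ P s' := ⟨l, hl, el⟩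
      have hsJ' : ∀ x ∈ l, x ≠ s' := fun x hx e => hsJ (by rw [e] at hx; exact hlJ s' hx)
      have hlen3 : BNPairLib.len P (BNPairLib.wd P [s', t', s']) ≤ 3 := by
        simpa using BNPairLib.len_le P [s', t', s']
      have hw3 : BNPairLib.wd P [s', t', s'] = BNPairLib.wd P l := by simp [el, mul_assoc]
      have hnr : ¬ BNPairLib.Red P [s', t', s'] := fun h =>
        hsJ (BNPairLib.Red.mem_of_mem_WJ P h (hw3 ▸ el ▸ hw) s' (by simp))
      have hts : BNPairLib.Red P [t', s'] := by
        obtain ⟨m, hm, em, hsub⟩ := BNPairLib.exists_red_subset P [t', s']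
        by_contra hc
        have h2 : BNPairLib.len P (BNPairLib.wd P [t', s']) ≤ 1 := by
          have h3 := BNPairLib.len_le P [t', s']
          simp only [BNPairLib.Red, List.length_cons, List.length_nil] at hc h3
          omega
        rw [← em, hm] at h2
        rcases m with _ | ⟨x, _ | ⟨y, m⟩⟩
        · simp at em
          exact hst (by
            have : BNPairLib.σ P s' = BNPairLib.σ P t' := by
              have := mul_eq_one_iff_inv_eq.1 em.symm
              rwa [BNPairLib.σ_inv, eq_comm] at this
            rw [this]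
            exact Subgroup.mul_mem _ ht' ht')
        · simp only [BNPairLib.wd_cons, BNPairLib.wd_nil, mul_one] at em
          rcases List.mem_cons.1 (hsub x (by simp)) with rfl | hx
          · exact BNPairLib.σ_ne_one P s' (by simpa using em.symm)
          · obtain rfl : x = s' := by simpa using hx
            exact BNPairLib.σ_ne_one P t' (by simpa using em.symm)
        · simp at h2
      have hlt : BNPairLib.len P (BNPairLib.σ P s' * BNPairLib.wd P [t', s']) <
          BNPairLib.len P (BNPairLib.wd P [t', s']) := by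
        rcases BNPairLib.len_σ_mul_cases P s' (BNPairLib.wd P [t', s']) with hc | hc
        · exfalso
          apply hnr
          rw [hts] at hc
          exact hc
        · omega
      obtain ⟨a, u, c, e1, e3, -⟩ := BNPairLib.exchange_red P hts hlt
      have e4 : BNPairLib.σ P s' * BNPairLib.σ P t' = BNPairLib.σ P t' * BNPairLib.σ P s' := by
        rcases a with _ | ⟨x, _ | ⟨y, a⟩⟩
        · simp only [List.nil_append, List.cons.injEq] at e1
          obtain ⟨-, rfl⟩ := e1
          simp only [BNPairLib.wd_cons, BNPairLib.wd_nil, mul_one, List.nil_append] at e3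
          exfalso
          apply hst
          have : BNPairLib.σ P s' * BNPairLib.σ P t' = 1 := by
            rwa [← mul_assoc, mul_eq_right] at e3
          rw [this]
          exact Subgroup.one_mem _
        · simp only [List.cons_append, List.nil_append, List.cons.injEq] at e1
          obtain ⟨rfl, -, rfl⟩ := e1
          simp only [BNPairLib.wd_cons, BNPairLib.wd_nil, mul_one, List.cons_append,
            List.nil_append] at e3
          calc BNPairLib.σ P s' * BNPairLib.σ P t'
              = BNPairLib.σ P s' * (BNPairLib.σ P t' * BNPairLib.σ P s') * BNPairLib.σ P s' := by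
                simp [mul_assoc, BNPairLib.σ_mul_self]
            _ = BNPairLib.σ P t' * BNPairLib.σ P s' := by rw [e3]
        · simp at e1
      have e5 : BNPairLib.π P (⟨s, P.subset hsS⟩ * ⟨t, P.subset htS⟩) =
          BNPairLib.π P (⟨t, P.subset htS⟩ * ⟨s, P.subset hsS⟩) := by
        rw [map_mul, map_mul]; exact e4
      have h6 := (BNPairLib.π_eq P _ _).1 e5
      let n : P.N := (⟨t, P.subset htS⟩ * ⟨s, P.subset hsS⟩)
      have h7 : BNPairLib.π P (⟨t, P.subset htS⟩ * ⟨s, P.subset hsS⟩ *
          (⟨s, P.subset hsS⟩ * ⟨t, P.subset htS⟩)⁻¹) = 1 := by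
        rw [map_mul, map_inv, e5, mul_inv_cancel]
      have h8 := (BNPairLib.π_eq_one P _).1 h7
      simpa [mul_assoc] using h8
    · obtain rfl := BNPairLib.cell_unique P hwc' h
      exact absurd hw hst
  rcases Set.eq_empty_or_nonempty J with hJ | hJ
  · left
    rw [hJ, Cfsg.BNPair.parabolic, Subgroup.closure_empty, sup_bot_eq] at hM
    exact le_bot_iff.1 (hcore ▸ Subgroup.normal_le_normalCore.2 (le_sup_right.trans hM.le))
  · right
    rcases Set.eq_empty_or_nonempty (P.S \ J) with hd | hd
    · have hJS : J = P.S := Set.Subset.antisymm (fun x hx => hx.1) (Set.diff_eq_empty.1 hd)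
      rw [hJS, BNPairLib.parabolic_S] at hM
      by_contra hKne
      have hsurj : Function.Surjective ((QuotientGroup.mk' K).comp P.B.subtype) := by
        intro x
        obtain ⟨g, rfl⟩ := QuotientGroup.mk'_surjective K x
        have hg : g ∈ P.B ⊔ K := by rw [hM]; trivial
        rw [← SetLike.mem_coe, Subgroup.mul_normal] at hg
        obtain ⟨b, hb, k, hk, rfl⟩ := hg
        refine ⟨⟨b, hb⟩, ?_⟩
        show ((b : G) : G ⧸ K) = ((b * k : G) : G ⧸ K)
        rw [QuotientGroup.eq]
        simpa using hk
      haveI := solvable_of_surjective hsurj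
      have hK' : commutator (G ⧸ K) = ⊤ := by
        rw [commutator_def, ← Subgroup.map_top_of_surjective _ (QuotientGroup.mk'_surjective K),
          ← Subgroup.map_commutator, ← commutator_def, hperf]
      haveI : Nontrivial (G ⧸ K) := by
        rw [QuotientGroup.nontrivial_iff]
        exact hKne
      exact absurd hK' (IsSolvable.commutator_lt_top_of_nontrivial (G := G ⧸ K)).ne
    · obtain ⟨t, ht, s, hs, hne⟩ := hirr J (fun x hx => hx.1) hJ hd
      exact absurd (hcomm t ht s hs) hne

end Cfsg.Agent.S0319
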