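import Cfsg.Statements.S1050
import Cfsg.Agent.Lib.ChevalleyRankOne
import Cfsg.Agent.Lib.ChevalleyAll
import Cfsg.Agent.S1029

set_option autoImplicit false
open Cfsg

namespace Cfsg.Agent.S1050

/-- `B = UH` is solvable (U nilpotent, H abelian, U ⊴ B). -/
theorem result {F : Type*} [Field F] (D : Cfsg.Lie.ChevalleyDatum) (hD : D ∈ [Cfsg.Lie.chevG2, Cfsg.Lie.chevB2, Cfsg.Lie.chevD4, Cfsg.Lie.chevF4, Cfsg.Lie.chevE6, Cfsg.Lie.chevE7, Cfsg.Lie.chevE8]) : Group.IsSolvable ↥(D.borelSubgroup F) := by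
  obtain ⟨C⟩ := Cfsg.Agent.ChevalleyAll.cert_nonempty D hD
  haveI hn : Group.IsNilpotent (D.posUnipotent F) := Cfsg.Agent.S1029.result D hD
  haveI : Group.IsSolvable (D.posUnipotent F) := inferInstance
  set U := D.posUnipotent F with hU
  set N := U.subgroupOf (D.borelSubgroup F) with hN
  haveI hNn : N.Normal := by
    refine Subgroup.normal_subgroupOf_of_le_normalizer ?_
    exact sup_le Subgroup.le_normalizer (Cfsg.Agent.ChevalleyTorus.H_le_normalizer_U C)
  have hab : ∀ a b : D.borelSubgroup F ⧸ N, a * b = b * a := by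
    intro a b
    obtain ⟨⟨x, hx⟩, rfl⟩ := QuotientGroup.mk_surjective a
    obtain ⟨⟨y, hy⟩, rfl⟩ := QuotientGroup.mk_surjective b
    obtain ⟨u, hu, h, hh, rfl⟩ := (Cfsg.Agent.ChevalleyTorus.mem_B_iff C).1 hx
    obtain ⟨v, hv, k, hk, rfl⟩ := (Cfsg.Agent.ChevalleyTorus.mem_B_iff C).1 hy
    have huB : u ∈ D.borelSubgroup F := Subgroup.mem_sup_left hu
    have hvB : v ∈ D.borelSubgroup F := Subgroup.mem_sup_left hv
    have hhB : h ∈ D.borelSubgroup F := Subgroup.mem_sup_right hh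
    have hkB : k ∈ D.borelSubgroup F := Subgroup.mem_sup_right hk
    have e1 : (QuotientGroup.mk (⟨u * h, hx⟩ : D.borelSubgroup F) : D.borelSubgroup F ⧸ N) =
        QuotientGroup.mk (⟨h, hhB⟩ : D.borelSubgroup F) := by
      have : (⟨u * h, hx⟩ : D.borelSubgroup F) = ⟨u, huB⟩ * ⟨h, hhB⟩ := Subtype.ext rfl
      rw [this, QuotientGroup.mk_mul, (QuotientGroup.eq_one_iff _).2 (Subgroup.mem_subgroupOf.2 hu), one_mul]
    have e2 : (QuotientGroup.mk (⟨v * k, hy⟩ : D.borelSubgroup F) : D.borelSubgroup F ⧸ N) =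
        QuotientGroup.mk (⟨k, hkB⟩ : D.borelSubgroup F) := by
      have : (⟨v * k, hy⟩ : D.borelSubgroup F) = ⟨v, hvB⟩ * ⟨k, hkB⟩ := Subtype.ext rfl
      rw [this, QuotientGroup.mk_mul, (QuotientGroup.eq_one_iff _).2 (Subgroup.mem_subgroupOf.2 hv), one_mul]
    rw [e1, e2, ← QuotientGroup.mk_mul, ← QuotientGroup.mk_mul]
    congr 1
    exact Subtype.ext (Cfsg.Agent.ChevalleyTorus.H_comm C hh hk)
  haveI : Group.IsSolvable (D.borelSubgroup F ⧸ N) := Group.isSolvable_of_comm hab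
  have hle : U ≤ D.borelSubgroup F := le_sup_left
  haveI : Group.IsSolvable N := Group.isSolvable_of_isSolvable_injective (f := (Subgroup.subgroupOfEquivOfLe hle).toMonoidHom)
    (Subgroup.subgroupOfEquivOfLe hle).injective
  exact Group.isSolvable_of_ker_le_range N.subtype (QuotientGroup.mk' N) (by rw [QuotientGroup.ker_mk', Subgroup.range_subtype])

end Cfsg.Agent.S1050
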