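import Cfsg.Statements.S0914
import Cfsg.Agent.Lib.BlockTheoryIdem
import Cfsg.Agent.Lib.CharBasicInt
import Cfsg.Agent.Lib.CharBasicDecomp

set_option autoImplicit false
open Cfsg

namespace Cfsg.Agent.S0914

/-- Let χ be an irreducible character of the finite group G, p a prime and M a maximal ideal of the algebraic integers containing p. Then p does not divide the integer (Nat.card G) / χ(1) if and only if the block of χ relative to M consists of χ alone. -/
theorem result {G : Type*} [Group G] [Finite G] (p : ℕ) [Fact p.Prime] (M : Ideal Cfsg.AlgInt) (hM : Cfsg.IsPModular p M) (χ : Cfsg.IrrCharacter G) : ¬ p ∣ Nat.card G / Cfsg.charDegree (χ : G → ℂ) ↔ Cfsg.blockOf M (χ : G → ℂ) = {χ} := by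
  classical
  haveI := Fintype.ofFinite G
  haveI hp : Fact p.Prime := ⟨hM.1⟩
  obtain ⟨n, hnpos, hn, c, hc⟩ := CharBasicInt.exists_apply_one_dvd_card χ.2
  have hn0 : n ≠ 0 := hnpos.ne'
  have hdeg : charDegree (χ : G → ℂ) = n := by simp [charDegree, hn]
  rw [hdeg, hc, Nat.mul_div_cancel_left _ (Nat.pos_of_ne_zero hn0)]
  refine ⟨fun h => ?_, fun h hdvd => ?_⟩
  · refine Set.Subset.antisymm (BlockTheoryIdem.blockOf_subset_of_isInt hM (fun g => ?_)
      (Set.mem_singleton χ)) (Set.singleton_subset_iff.mpr (BlockTheoryIdem.self_mem_blockOf hM χ))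
    rw [BlockTheoryCentre.coeff_idem, blockCoeff, finsum_mem_singleton, hn, hc, Nat.cast_mul,
      ← mul_assoc, show ((n : ℂ) * c)⁻¹ * n = (c : ℂ)⁻¹ by field_simp]
    refine (BlockTheoryLocalRing.localRing hM).mul_mem (BlockTheoryLocalRing.inv_natCast_mem hM h)
      (BlockTheoryLocalRing.of_isIntegral hM ?_)
    rw [← BlockTheoryCentre.irr_inv]
    exact CharBasic.isCharacter_integral (CharBasic.isCharacter_of_isIrrCharacter χ.2) _
  · have hvan : ∀ g : G, p ∣ orderOf g → (χ : G → ℂ) g = 0 := fun g hg => by
      have h2 := BlockTheoryIdem.weak_orthogonality hM (BlockTheoryIdem.isPBlock_blockOf χ)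
        (x := 1) (by simpa using hM.1.ne_one) hg
      simp only [h, Set.mem_singleton_iff, Finset.sum_ite_eq', Finset.mem_univ, if_true, mul_eq_zero] at h2
      exact (map_eq_zero _).mp (h2.resolve_left (BlockTheoryCentre.irr_one_ne_zero χ))
    let P : Sylow p G := default
    haveI := Fintype.ofFinite (P : Subgroup G)
    obtain ⟨k, hk⟩ := CharBasicOrth.classInner_isCharacter
      (CharBasic.isCharacter_comap (P : Subgroup G).subtype
        (CharBasic.isCharacter_of_isIrrCharacter χ.2))
      (CharBasicDecomp.isCharacter_one (G := (P : Subgroup G)))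
    have h3 := CharBasicOrth.card_mul_classInner (fun x : (P : Subgroup G) => (χ : G → ℂ) x)
      (fun _ => 1)
    rw [show classInner (fun x : (P : Subgroup G) => (χ : G → ℂ) x) (fun _ => (1 : ℂ)) = k from hk,
      Finset.sum_eq_single 1] at h3
    · simp only [Subgroup.coe_one, inv_one, mul_one, map_one, hn] at h3
      have h4 : Nat.card (P : Subgroup G) * k = n := by exact_mod_cast h3
      have h5 : ¬ p ∣ (P : Subgroup G).index := P.not_dvd_index
      refine h5 ?_
      have h6 : (P : Subgroup G).index = k * c := by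
        apply Nat.eq_of_mul_eq_mul_left (Nat.card_pos (α := (P : Subgroup G)))
        rw [Subgroup.card_mul_index, hc, ← h4, mul_assoc]
      rw [h6]
      exact hdvd.mul_left k
    · intro x _ hx
      rw [hvan (x : G) ?_, zero_mul]
      rw [Subgroup.orderOf_coe x]
      obtain ⟨j, hj⟩ := (IsPGroup.iff_orderOf.mp P.isPGroup') x
      rcases j with _ | j
      · exact absurd (orderOf_eq_one_iff.mp (by simpa using hj)) hx
      · exact hj ▸ dvd_pow_self p (Nat.succ_ne_zero j)
    · simp

end Cfsg.Agent.S0914
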