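import Cfsg.Statements.S4501
import Cfsg.Agent.S0997
import Cfsg.Agent.Lib.KleinTwoOddPrimes40
import Cfsg.Agent.Lib.BrauerReynolds7Recognition
import Cfsg.Agent.Lib.PSLCard
-- import your own Cfsg.Agent.* helpers here

set_option autoImplicit false
set_option linter.style.haveILetI false
open Cfsg

namespace Cfsg.Agent.S4501

variable {G : Type*} [Group G] [Finite G]

/-- In a simple group of order `4 g₀`, `g₀` odd, the prime three occurs. -/
theorem three_dvd [IsSimpleGroup G] (hperf : commutator G = ⊤) {g₀ : ℕ} (hg₀ : Odd g₀)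
    (hG : Nat.card G = 4 * g₀) : 3 ∣ g₀ := by
  classical
  haveI := Fintype.ofFinite G
  haveI : Fact (Nat.Prime 2) := ⟨Nat.prime_two⟩
  set P : Sylow 2 G := default
  have hg : g₀ ≠ 0 := by rintro rfl; simp at hg₀
  have hnc : ¬ ∃ N : Subgroup G, N.Normal ∧ Nat.card N = g₀ := by
    rintro ⟨N, hN, hNc⟩
    rcases hN.eq_bot_or_eq_top with rfl | rfl
    · rw [Subgroup.card_bot] at hNc
      have hP : IsPGroup 2 G := IsPGroup.of_card (n := 2) (by rw [hG, ← hNc]; norm_num)
      haveI := hP.isNilpotent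
      exact absurd hperf (Group.IsSolvable.commutator_lt_top_of_nontrivial G).ne
    · rw [Subgroup.card_top, hG] at hNc; omega
  obtain ⟨hP4, hexp, -⟩ := KleinFourOrder79.setup g₀ hg₀ hG hnc P
  set N := Subgroup.normalizer ((P : Subgroup G) : Set G)
  let φ : N →* MulAut (P : Subgroup G) := (P : Subgroup G).normalizerMonoidHom
  let ψ : MulAut (P : Subgroup G) →* Equiv.Perm (P : Subgroup G) :=
    { toFun := fun e => e.toEquiv, map_one' := rfl, map_mul' := fun _ _ => rfl }
  have hψ : Function.Injective ψ := fun a b h => MulEquiv.toEquiv_injective h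
  have hrange : Nat.card φ.range ∣ 24 := by
    refine (Subgroup.card_subgroup_dvd_card _).trans ?_
    refine (Nat.card_congr (MonoidHom.ofInjective hψ).toEquiv ▸ Subgroup.card_subgroup_dvd_card ψ.range).trans ?_
    rw [Nat.card_perm, hP4]
    decide
  have hodd : Nat.card φ.range ∣ g₀ := by
    rw [← Subgroup.index_ker]
    have hle : (P : Subgroup G).subgroupOf N ≤ φ.ker := by
      intro n hn
      rw [MonoidHom.mem_ker]
      ext c
      have hc : (n : G) * c = c * n :=
        congrArg Subtype.val (KleinFourLocal79.comm_of_exp P hexp ⟨n, hn⟩ c)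
      show (n : G) * c * (n : G)⁻¹ = c
      rw [hc, mul_inv_cancel_right]
    refine (Subgroup.index_dvd_of_le hle).trans ?_
    refine Dvd.dvd.trans (b := (P : Subgroup G).index) ?_ ?_
    · exact Subgroup.relIndex_dvd_index_of_le Subgroup.le_normalizer |>.trans dvd_rfl
    · have h := (P : Subgroup G).card_mul_index
      rw [hG, show Nat.card (P : Subgroup G) = 4 from hP4] at h
      exact dvd_of_eq (by omega)
  have hne : Nat.card φ.range ≠ 1 := by
    intro h1
    have hle : N ≤ Subgroup.centralizer ((P : Subgroup G) : Set G) := by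
      intro n hn
      rw [Subgroup.mem_centralizer_iff]
      intro c hc
      have h2 : φ ⟨n, hn⟩ = 1 := by
        have := Subgroup.card_eq_one.1 h1
        exact Subgroup.mem_bot.1 (this ▸ MonoidHom.mem_range.2 ⟨_, rfl⟩)
      have h3' := congrArg Subtype.val (DFunLike.congr_fun h2 (⟨c, hc⟩ : (P : Subgroup G)))
      have h3 : n * c * n⁻¹ = c := h3'
      conv_lhs => rw [← h3]
      group
    have h4 := (MonoidHom.ker_transferSylow_isComplement' P hle).card_mul
    have h5 : Nat.card (P : Subgroup G) = 4 := hP4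
    rw [hG, h5] at h4
    refine hnc ⟨(MonoidHom.transferSylow P hle).ker, inferInstance, ?_⟩
    omega
  have h24 : ∀ m ≤ 24, m ∣ 24 → Odd m → m ≠ 1 → 3 ∣ m := by decide
  refine (h24 _ (Nat.le_of_dvd (by norm_num) hrange) hrange ?_ hne).trans hodd
  rcases Nat.even_or_odd (Nat.card φ.range) with h | h
  · exact absurd (even_iff_two_dvd.2 ((even_iff_two_dvd.1 h).trans hodd)) (Nat.not_even_iff_odd.2 hg₀)
  · exact h

open BrauerReynolds7 BlockPrincipal81 in
/-- No simple group has order `3 · 2 ^ b · p ^ 2`. -/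
theorem no_square [IsSimpleGroup G] (hna : ¬ ∀ a b : G, a * b = b * a) {p b : ℕ} (hp : p.Prime)
    (hp2 : p ≠ 2) (hp3 : p ≠ 3) (hG : Nat.card G = 3 * (2 ^ b * p ^ 2)) : False := by
  classical
  haveI := Fintype.ofFinite G
  haveI : Fact (Nat.Prime 3) := ⟨Nat.prime_three⟩
  haveI := Fact.mk hp
  have hcyc : ¬ IsCyclic G := fun h => hna fun a b => by
    letI := IsCyclic.commGroup (α := G); exact mul_comm a b
  have hperf := perfect_of_simple hcyc
  have h3 : ¬ 3 ∣ 2 ^ b * p ^ 2 := by
    intro h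
    rcases Nat.prime_three.dvd_mul.1 h with h | h
    · exact absurd (Nat.le_of_dvd two_pos (Nat.prime_three.dvd_of_dvd_pow h)) (by norm_num)
    · exact hp3 ((Nat.prime_dvd_prime_iff_eq Nat.prime_three hp).1 (Nat.prime_three.dvd_of_dvd_pow h)).symm
  set P : Sylow 3 G := default
  have hP : Nat.card P = 3 := by
    rw [P.card_eq_multiplicity, hG, Nat.factorization_mul (by norm_num)
      (by positivity [hp.pos]), Finsupp.add_apply,
      Nat.factorization_eq_zero_of_not_dvd h3, add_zero, Nat.prime_three.factorization_self]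
    rfl
  obtain ⟨e, he⟩ : ∃ e, (Subgroup.centralizer ((P : Subgroup G) : Set G)).relIndex
      (Subgroup.normalizer ((P : Subgroup G) : Set G)) = e := ⟨_, rfl⟩
  have he2 := two_le_relIndex hperf P hP he
  obtain ⟨X, Y, a, ε, B⟩ := exists_blk hP e he
  have hYc : 0 < Y.card := Finset.card_pos.2 (Y_nonempty B)
  have heY := B.cardY
  have he' : e = 2 := by
    have : e * 1 ≤ e * Y.card := Nat.mul_le_mul_left e hYc
    rw [mul_comm Y.card] at heY
    omega
  obtain ⟨η, hη⟩ := Y_nonempty B
  obtain ⟨χ, hX, hχ1⟩ := Finset.exists_mem_ne (s := X) (by rw [B.cardX, he']; norm_num) (oneChar G)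
  have hXeq : X = {oneChar G, χ} := by
    refine (Finset.eq_of_subset_of_card_le ?_ ?_).symm
    · exact Finset.insert_subset B.one_mem (Finset.singleton_subset_iff.2 hX)
    · rw [B.cardX, he', Finset.card_pair hχ1.symm]
  have hreg := B.regular η hη 1 (by simp)
  rw [hXeq, Finset.sum_pair hχ1.symm, B.a_one] at hreg
  simp only [ClassAlgebraVal.apply_one_eq_charDegree] at hreg
  have hone : charDegree (oneChar G : G → ℂ) = 1 := by
    have h := ClassAlgebraVal.apply_one_eq_charDegree (oneChar G)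
    rw [show (oneChar G : G → ℂ) 1 = 1 from rfl] at h
    exact_mod_cast h.symm
  rw [hone] at hreg
  have hreg' : ε * (charDegree (η : G → ℂ) : ℤ) = 1 + a χ * (charDegree (χ : G → ℂ) : ℤ) := by
    refine Int.cast_injective (α := ℂ) ?_
    push_cast at hreg ⊢
    linear_combination hreg
  have hge : ∀ ψ : IrrCharacter G, ψ ≠ oneChar G → 2 ≤ charDegree (ψ : G → ℂ) := fun ψ hψ => by
    by_contra hc
    exact hψ (eq_oneChar_of_degree_one hperf (by have := ClassAlgebraVal.charDegree_pos ψ; omega))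
  have hx2 := hge χ hχ1
  have hy2 := hge η (ne_one_of_mem B hη)
  have hxm := Int.emod_emod_of_dvd
  clear hxm
  have hxc : (charDegree (χ : G → ℂ) : ℤ) % 3 = (a χ) % 3 := B.congrX χ hX
  have hyc : (charDegree (η : G → ℂ) : ℤ) % 3 = (ε * (e : ℤ)) % 3 := B.congrY η hη
  rw [he'] at hyc
  have hdvd : ∀ ψ : IrrCharacter G, ¬ 3 ∣ charDegree (ψ : G → ℂ) →
      charDegree (ψ : G → ℂ) ∣ 2 ^ b * p ^ 2 := fun ψ h =>
    (Nat.Coprime.dvd_of_dvd_mul_left ((Nat.prime_three.coprime_iff_not_dvd.2 h).symm)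
      (hG ▸ CharAverage.charDegree_dvd_card ψ))
  obtain ⟨φ, ψ, hodd, heven, hcons, hφ3, hψ3⟩ : ∃ φ ψ : IrrCharacter G,
      charDegree (φ : G → ℂ) % 2 = 1 ∧ charDegree (ψ : G → ℂ) % 2 = 0 ∧
      (charDegree (φ : G → ℂ) + 1 = charDegree (ψ : G → ℂ) ∨
        charDegree (ψ : G → ℂ) + 1 = charDegree (φ : G → ℂ)) ∧
      charDegree (φ : G → ℂ) % 3 ≠ 0 ∧ charDegree (ψ : G → ℂ) % 3 ≠ 0 ∧ 2 ≤ charDegree (φ : G → ℂ) ∧
      2 ≤ charDegree (ψ : G → ℂ) := by
    rcases Nat.even_or_odd (charDegree (χ : G → ℂ)) with h | h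
    · have hx := Nat.even_iff.1 h
      refine ⟨η, χ, ?_⟩
      rcases B.signX χ hX with e1 | e1 <;> rcases B.sign with e3 | e3 <;>
        rw [e1, e3] at hreg' <;> rw [e1] at hxc <;> rw [e3] at hyc <;> norm_num at hreg' hxc hyc <;> omega
    · have hx := Nat.odd_iff.1 h
      refine ⟨χ, η, ?_⟩
      rcases B.signX χ hX with e1 | e1 <;> rcases B.sign with e3 | e3 <;>
        rw [e1, e3] at hreg' <;> rw [e1] at hxc <;> rw [e3] at hyc <;> norm_num at hreg' hxc hyc <;> omega
  obtain ⟨hψ3, hφge, hψge⟩ := hψ3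
  have hφd : charDegree (φ : G → ℂ) ∣ p ^ 2 := by
    refine Nat.Coprime.dvd_of_dvd_mul_left ?_ (hdvd φ (fun h => hφ3 (Nat.mod_eq_zero_of_dvd h)))
    refine Nat.Coprime.pow_right b ?_
    rw [Nat.coprime_comm, Nat.prime_two.coprime_iff_not_dvd]
    omega
  obtain ⟨j, hj, hjφ⟩ := (Nat.dvd_prime_pow hp).1 hφd
  interval_cases j
  · simp at hjφ; omega
  · -- a character of degree `p` vanishes on the Sylow `p`-subgroup off the identity
    rw [pow_one] at hjφ
    set Q : Sylow p G := default
    have hp3' : ¬ p ∣ 3 * 2 ^ b := by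
      intro h
      rcases hp.dvd_mul.1 h with h | h
      · exact hp3 ((Nat.prime_dvd_prime_iff_eq hp Nat.prime_three).1 h)
      · exact hp2 ((Nat.prime_dvd_prime_iff_eq hp Nat.prime_two).1 (hp.dvd_of_dvd_pow h))
    have hQ : Nat.card Q = p ^ 2 := by
      rw [Q.card_eq_multiplicity, hG, ← mul_assoc, Nat.factorization_mul (by positivity)
        (pow_ne_zero _ hp.ne_zero), Finsupp.add_apply, Nat.factorization_eq_zero_of_not_dvd hp3',
        zero_add, hp.factorization_pow, Finsupp.single_eq_same]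
    obtain ⟨n, ρ, hirr, hρ⟩ := φ.2
    haveI := hirr
    have hn : n = p := by
      rw [← hjφ, ← hρ]; simp [charDegree, Representation.char_one]
    have hv : ∀ u ∈ (Q : Subgroup G), u ≠ 1 → (φ : G → ℂ) u = 0 := by
      intro u hu hu1
      rw [← hρ]
      refine (CharInduced.character_eq_zero_or_norm_eq ρ u ?_).resolve_right
        (CharInduced.not_norm_eq_of_simple hna ρ ?_ u hu1)
      · rw [Module.finrank_fin_fun, hn, hp.coprime_iff_not_dvd]
        have hle : (Q : Subgroup G) ≤ Subgroup.centralizer ({u} : Set G) := fun z hz =>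
          Subgroup.mem_centralizer_singleton_iff.2
            (congrArg Subtype.val ((IsPGroup.isMulCommutative_of_card_eq_prime_sq (p := p) hQ).is_comm.comm
              (⟨z, hz⟩ : (Q : Subgroup G)) ⟨u, hu⟩))
        intro hd
        exact Q.not_dvd_index (hd.trans (Subgroup.index_dvd_of_le hle))
      · intro h1
        rw [hρ] at h1
        have : charDegree (φ : G → ℂ) = 1 := by simp [charDegree, h1]
        omega
    obtain ⟨c, hc⟩ := exists_nat_avg (Q : Subgroup G) (CharBasic.isCharacter_of_isIrrCharacter φ.2)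
    rw [Finset.sum_eq_single_of_mem 1 (mem_els.2 (one_mem _)) (fun u hu hu1 => hv u (mem_els.1 hu) hu1),
      ClassAlgebraVal.apply_one_eq_charDegree, hjφ, show Nat.card (Q : Subgroup G) = p ^ 2 from hQ] at hc
    have hc' : p = p ^ 2 * c := by exact_mod_cast hc
    rcases Nat.eq_zero_or_pos c with h0 | h0
    · rw [h0, mul_zero] at hc'; exact hp.ne_zero hc'
    · have h1 := Nat.le_mul_of_pos_right (p ^ 2) h0
      have h2 := hp.two_le
      nlinarith
  · -- `p² + 1` is not a power of two
    have hpm : p % 3 = 1 ∨ p % 3 = 2 := by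
      have : ¬ 3 ∣ p := fun h => hp3 ((Nat.prime_dvd_prime_iff_eq Nat.prime_three hp).1 h).symm
      omega
    have hsq3 : p ^ 2 % 3 = 1 := by rcases hpm with h | h <;> simp [Nat.pow_mod, h]
    have hsq4 : p ^ 2 % 4 = 1 := by
      have : p % 2 = 1 := Nat.odd_iff.1 (hp.odd_of_ne_two hp2)
      have : p % 4 = 1 ∨ p % 4 = 3 := by omega
      rcases this with h | h <;> simp [Nat.pow_mod, h]
    have hψeq : charDegree (ψ : G → ℂ) = p ^ 2 + 1 := by rcases hcons with h | h <;> omega
    have hψd : charDegree (ψ : G → ℂ) ∣ 2 ^ b := by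
      refine Nat.Coprime.dvd_of_dvd_mul_right ?_ (hdvd ψ (fun h => hψ3 (Nat.mod_eq_zero_of_dvd h)))
      rw [hψeq, Nat.coprime_comm, Nat.coprime_self_add_right]; simp
    obtain ⟨i, -, hi⟩ := (Nat.dvd_prime_pow Nat.prime_two).1 hψd
    rw [hψeq] at hi
    rcases Nat.lt_or_ge i 2 with h | h
    · interval_cases i <;> nlinarith [hp.two_le]
    · have : 4 ∣ 2 ^ i := pow_dvd_pow 2 h
      omega

/-- Let G be a non-abelian finite simple group and p, q distinct primes. If the order of G is 4·p^a·q^b with a ≤ 2, then G is isomorphic to the alternating group of degree 5. If the order of G is 3·p^a·q^b with a ≤ 2, then G is isomorphic to the alternating group of degree 5 or to PSL(2,7). -/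
theorem result {G : Type*} [Group G] [Finite G] [IsSimpleGroup G] (hna : ∃ x y : G, x * y ≠ y * x) (p q a b : ℕ) (hp : p.Prime) (hq : q.Prime) (hpq : p ≠ q) (ha : a ≤ 2) : (Nat.card G = 4 * p ^ a * q ^ b → Nonempty (G ≃* alternatingGroup (Fin 5))) ∧ (Nat.card G = 3 * p ^ a * q ^ b → Nonempty (G ≃* alternatingGroup (Fin 5)) ∨ Nonempty (G ≃* Matrix.ProjectiveSpecialLinearGroup (Fin 2) (ZMod 7))) := by
  classical
  haveI := Fintype.ofFinite G
  have hna' : ¬ ∀ x y : G, x * y = y * x := fun h => by obtain ⟨x, y, hxy⟩ := hna; exact hxy (h x y)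
  have hcyc : ¬ IsCyclic G := fun h => hna' fun x y => by
    letI := IsCyclic.commGroup (α := G); exact mul_comm x y
  have hperf := BrauerReynolds7.perfect_of_simple hcyc
  have htwo : ∀ r s m n : ℕ, r.Prime → s.Prime → Nat.card G ≠ r ^ m * s ^ n := by
    intro r s m n hr hs h
    haveI := Cfsg.Agent.S0144.result r s m n hr hs h
    exact (Group.IsSolvable.commutator_lt_top_of_nontrivial G).ne hperf
  -- part one
  have four : ∀ r s m n : ℕ, r.Prime → s.Prime → r ≠ s → Nat.card G = 4 * (r ^ m * s ^ n) →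
      Nonempty (G ≃* alternatingGroup (Fin 5)) := by
    intro r s m n hr hs hrs h
    by_cases hr2 : r = 2
    · subst hr2; exact absurd (show Nat.card G = 2 ^ (2 + m) * s ^ n by rw [h]; ring) (htwo _ _ _ _ hr hs)
    by_cases hs2 : s = 2
    · subst hs2; exact absurd (show Nat.card G = 2 ^ (2 + n) * r ^ m by rw [h]; ring) (htwo _ _ _ _ hs hr)
    have h3 := three_dvd hperf (show Odd (r ^ m * s ^ n) from
      ((hr.odd_of_ne_two hr2).pow).mul ((hs.odd_of_ne_two hs2).pow)) h
    rcases Nat.prime_three.dvd_mul.1 h3 with h3 | h3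
    · obtain rfl := ((Nat.prime_dvd_prime_iff_eq Nat.prime_three hr).1 (Nat.prime_three.dvd_of_dvd_pow h3)).symm
      exact KleinTwoOddPrimes40.alternating_five (b := m) (c := n) hna' hs hs2 (Ne.symm hrs) h
    · obtain rfl := ((Nat.prime_dvd_prime_iff_eq Nat.prime_three hs).1 (Nat.prime_three.dvd_of_dvd_pow h3)).symm
      exact KleinTwoOddPrimes40.alternating_five (b := n) (c := m) hna' hr hr2 hrs (by rw [h]; ring)
  refine ⟨fun h => four p q a b hp hq hpq (by rw [h]; ring), fun h => ?_⟩
  -- part two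
  haveI : Fact (Nat.Prime 2) := ⟨Nat.prime_two⟩
  have hcyclic : ∀ (r : ℕ) [Fact r.Prime] (m : ℕ), (Nat.card G).minFac = r → Nat.card G = r * m →
      ¬ r ∣ m → False := by
    intro r _ m hmin hcard hnd
    have hr : r.Prime := Fact.out
    set R : Sylow r G := default
    have hm : m ≠ 0 := by rintro rfl; exact hnd (dvd_zero r)
    have hR : Nat.card R = r := by
      rw [R.card_eq_multiplicity, hcard, Nat.factorization_mul hr.ne_zero hm, Finsupp.add_apply,
        Nat.factorization_eq_zero_of_not_dvd hnd, add_zero, hr.factorization_self, pow_one]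
    haveI : IsCyclic R := isCyclic_of_prime_card (p := r) hR
    have hK := (IsCyclic.isComplement' hmin inferInstance (P := R)).card_mul
    set K := (MonoidHom.transferSylow R _).ker with hKdef
    rcases (inferInstance : K.Normal).eq_bot_or_eq_top with h1 | h1 <;> rw [h1] at hK
    · rw [Subgroup.card_bot, one_mul] at hK
      haveI : IsCyclic G := isCyclic_of_prime_card (p := r) (hK.symm.trans hR)
      exact hcyc ‹_›
    · rw [Subgroup.card_top] at hK
      have : Nat.card G * r = Nat.card G := by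
        conv_rhs => rw [← hK]
        exact congrArg (Nat.card G * ·) hR.symm
      have := Nat.le_mul_of_pos_right (Nat.card G) hr.pos
      have : r = 1 := Nat.eq_of_mul_eq_mul_left (Nat.card_pos (α := G)) (by omega)
      exact hr.ne_one this
  have hoddG : ∀ m : ℕ, Nat.card G = 3 * m → ¬ 3 ∣ m → Odd m → False := by
    intro m hm h3 ho
    haveI : Fact (Nat.Prime 3) := ⟨Nat.prime_three⟩
    refine hcyclic 3 m ?_ hm h3
    have h1 : (Nat.card G).minFac ∣ Nat.card G := Nat.minFac_dvd _
    have h2 : (Nat.card G).minFac ≤ 3 := Nat.minFac_le_of_dvd (by norm_num) (hm ▸ dvd_mul_right 3 m)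
    have h4 : (Nat.card G).minFac.Prime := Nat.minFac_prime (by have := ho.pos; omega)
    have h5 := h4.two_le
    rcases Nat.lt_or_ge (Nat.card G).minFac 3 with h6 | h6
    · have : (Nat.card G).minFac = 2 := by omega
      rw [this, hm] at h1
      exact absurd (even_iff_two_dvd.2 h1) (Nat.not_even_iff_odd.2 ((by decide : Odd 3).mul ho))
    · omega
  have htwice : ∀ m : ℕ, Nat.card G = 2 * m → Odd m → False := by
    intro m hm ho
    refine hcyclic 2 m ((Nat.minFac_eq_two_iff _).2 (hm ▸ dvd_mul_right 2 m)) hm fun h2 => ?_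
    exact absurd (even_iff_two_dvd.2 h2) (Nat.not_even_iff_odd.2 ho)
  by_cases hp3 : p = 3
  · subst hp3; exact absurd (show Nat.card G = 3 ^ (a + 1) * q ^ b by rw [h]; ring) (htwo _ _ _ _ hp hq)
  by_cases hq3 : q = 3
  · subst hq3; exact absurd (show Nat.card G = 3 ^ (b + 1) * p ^ a by rw [h]; ring) (htwo _ _ _ _ hq hp)
  have hn3 : ∀ r m : ℕ, r.Prime → r ≠ 3 → ¬ 3 ∣ r ^ m := fun r m hr h3 hd =>
    h3 ((Nat.prime_dvd_prime_iff_eq Nat.prime_three hr).1 (Nat.prime_three.dvd_of_dvd_pow hd)).symm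
  by_cases hp2 : p = 2
  · subst hp2
    have hq2 : q ≠ 2 := Ne.symm hpq
    interval_cases a
    · exact (hoddG (q ^ b) (by rw [h]; ring) (hn3 q b hq hq3) (hq.odd_of_ne_two hq2).pow).elim
    · exact (htwice (3 * q ^ b) (by rw [h]; ring) ((by decide : Odd 3).mul (hq.odd_of_ne_two hq2).pow)).elim
    · exact Or.inl (four 3 q 1 b Nat.prime_three hq (Ne.symm hq3) (by rw [h]; ring))
  by_cases hq2 : q = 2
  · subst hq2
    have hop : Odd (p ^ a) := (hp.odd_of_ne_two hp2).pow
    rcases Nat.lt_or_ge b 3 with hb | hb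
    · interval_cases b
      · exact (hoddG (p ^ a) (by rw [h]; ring) (hn3 p a hp hp3) hop).elim
      · exact (htwice (3 * p ^ a) (by rw [h]; ring) ((by decide : Odd 3).mul hop)).elim
      · exact Or.inl (four 3 p 1 a Nat.prime_three hp (Ne.symm hp3) (by rw [h]; ring))
    interval_cases a
    · exact absurd (show Nat.card G = 3 ^ 1 * 2 ^ b by rw [h]; ring) (htwo _ _ _ _ Nat.prime_three Nat.prime_two)
    · have h5 : 5 ≤ p := by
        have h4 : p ≠ 4 := fun e => absurd (e ▸ hp) (by norm_num)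
        have := hp.two_le
        omega
      rcases Cfsg.Agent.S0997.result hcyc p 2 b 3 hp Nat.prime_two hp2 (by rw [h]; ring) (by omega) with
        ⟨m, F, hF, hFf, hc, hpm, ⟨e⟩⟩ | ⟨m, F, hF, hFf, hc, hpm, -, ⟨e⟩⟩
      · letI := hF; letI := hFf
        have hcard := PSLCard.card_PSL2_odd (F := F)
          (by rw [Nat.card_eq_fintype_card, hc]; exact hp.odd_of_ne_two hp2)
        rw [Nat.card_eq_fintype_card (α := F), hc, ← Nat.card_congr e.toEquiv] at hcard
        have hodd : p % 2 = 1 := Nat.odd_iff.1 (hp.odd_of_ne_two hp2)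
        have h2 : p ^ 2 - 1 = (p - 1) * (p + 1) := by
          rw [mul_comm, show p ^ 2 - 1 = p ^ 2 - 1 ^ 2 by simp, Nat.sq_sub_sq]
        have h1 : (p - 1) * (p + 1) = 3 * 2 ^ (b + 1) := by
          have h3 : Nat.card G * 2 = p * ((p - 1) * (p + 1)) := by
            rw [hcard, ← h2, Nat.div_mul_cancel]
            exact Dvd.dvd.mul_left (by rw [h2]; exact Dvd.dvd.mul_left (by omega) _) _
          rw [h] at h3
          refine Nat.eq_of_mul_eq_mul_left hp.pos ?_
          rw [← h3]; ring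
        have hm : 2 ≤ m := by
          rcases Nat.lt_or_ge m 2 with h' | h'
          · interval_cases m <;> omega
          · exact h'
        have h2m : 2 ^ m = 2 * 2 ^ (m - 1) := by rw [← pow_succ']; congr 1; omega
        have h2e : 2 ^ (m - 1) % 2 = 0 := Nat.mod_eq_zero_of_dvd (dvd_pow_self 2 (by omega))
        have hkey : ∀ x : ℕ, x % 2 = 1 → x ∣ 3 * 2 ^ (b + 1) → x = 1 ∨ x = 3 := fun x hx hd => by
          refine (Nat.dvd_prime Nat.prime_three).1 (Nat.Coprime.dvd_of_dvd_mul_right ?_ hd)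
          refine Nat.Coprime.pow_right _ ?_
          rw [Nat.coprime_comm, Nat.prime_two.coprime_iff_not_dvd]; omega
        rcases hpm with hpm | hpm
        · have hx := hkey (2 ^ (m - 1) + 1) (by omega) (h1 ▸ Dvd.dvd.mul_left ⟨2, by omega⟩ _)
          have hp5 : p = 5 := by omega
          refine Or.inl (four 3 5 1 1 Nat.prime_three (by norm_num) (by norm_num) ?_)
          rw [hcard, hp5]; norm_num
        · have hx := hkey (2 ^ (m - 1) - 1) (by omega) (h1 ▸ Dvd.dvd.mul_right ⟨2, by omega⟩ _)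
          have hp7 : p = 7 := by omega
          haveI : Fact (Nat.Prime 7) := ⟨by norm_num⟩
          exact Or.inr ⟨e.trans (PSLCard.pslEquiv (ι := Fin 2)
            (FiniteField.ringEquivOfCardEq (K := F) (K' := ZMod 7) (by rw [hc, hp7, ZMod.card])))⟩
      · letI := hF; letI := hFf
        have hm : m ≠ 0 := by rintro rfl; omega
        have hcard := PSLCard.card_PSL2_even (F := F)
          (by rw [Nat.card_eq_fintype_card, hc]; exact (Nat.even_pow).mpr ⟨even_two, hm⟩)
        rw [Nat.card_eq_fintype_card (α := F), hc, ← Nat.card_congr e.toEquiv] at hcard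
        have he : Even (2 ^ m) := (Nat.even_pow).mpr ⟨even_two, hm⟩
        have h2 : (2 ^ m) ^ 2 - 1 = (2 ^ m - 1) * (2 ^ m + 1) := by
          rw [mul_comm, show (2 ^ m) ^ 2 - 1 = (2 ^ m) ^ 2 - 1 ^ 2 by simp, Nat.sq_sub_sq]
        have h1 : 2 ^ m * (2 ^ m - 1) = 3 * 2 ^ b := by
          rw [h] at hcard
          refine Nat.eq_of_mul_eq_mul_left hp.pos ?_
          rw [show p * (2 ^ m * (2 ^ m - 1)) = 2 ^ m * ((2 ^ m - 1) * p) by ring, hpm, ← h2, ← hcard, ← hpm]
          ring
        have hx : 2 ^ m - 1 ∣ 3 := by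
          refine Nat.Coprime.dvd_of_dvd_mul_right ?_ (h1 ▸ Dvd.intro_left _ rfl : 2 ^ m - 1 ∣ 3 * 2 ^ b)
          refine Nat.Coprime.pow_right _ ?_
          rw [Nat.coprime_comm, Nat.prime_two.coprime_iff_not_dvd]
          have := Nat.even_iff.1 he
          omega
        have hp5 : p = 5 := by
          rcases (Nat.dvd_prime Nat.prime_three).1 hx with hx | hx <;> omega
        have h4 : 2 ^ m = 4 := by omega
        refine Or.inl (four 3 5 1 1 Nat.prime_three (by norm_num) (by norm_num) ?_)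
        rw [hcard, h4]; norm_num
    · exact (no_square (b := b) hna' hp hp2 hp3 (by rw [h]; ring)).elim
  exact (hoddG (p ^ a * q ^ b) (by rw [h]; ring) (fun hd => (Nat.prime_three.dvd_mul.1 hd).elim
    (hn3 p a hp hp3) (hn3 q b hq hq3))
    (((hp.odd_of_ne_two hp2).pow).mul ((hq.odd_of_ne_two hq2).pow))).elim

end Cfsg.Agent.S4501
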