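import Cfsg.Statements.S0496
import Cfsg.Agent.Lib.SimpleOrderCheck
import Cfsg.Agent.Lib.SimpleOrdersSmall

set_option autoImplicit false
open Cfsg

namespace Cfsg.Agent.S0496
open Cfsg.Agent.SimpleOrderCheck

def tab0 : List (ℕ × List ℕ × ℕ × ℕ) :=
  [(2, [], 2, 1), (3, [3], 3, 1), (4, [], 2, 2), (5, [5], 5, 1),
   (6, [3], 3, 1), (7, [7], 7, 1), (8, [], 2, 3), (9, [], 3, 2),
   (10, [5], 5, 1), (11, [11], 11, 1), (12, [3], 3, 1), (13, [13], 13, 1),
   (14, [7], 7, 1), (15, [3, 5], 5, 1), (16, [], 2, 4), (17, [17], 17, 1),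
   (18, [], 3, 2), (19, [19], 19, 1), (20, [5], 5, 1), (21, [3, 7], 7, 1),
   (22, [11], 11, 1), (23, [23], 23, 1), (24, [3], 3, 1), (25, [], 5, 2),
   (26, [13], 13, 1), (27, [], 3, 3), (28, [7], 7, 1), (29, [29], 29, 1),
   (30, [3, 5], 5, 1), (31, [31], 31, 1), (32, [], 2, 5), (33, [3, 11], 11, 1),
   (34, [17], 17, 1), (35, [5, 7], 7, 1), (36, [], 3, 2), (37, [37], 37, 1),
   (38, [19], 19, 1), (39, [3, 13], 13, 1), (40, [5], 5, 1), (41, [41], 41, 1),
   (42, [3, 7], 7, 1), (43, [43], 43, 1), (44, [11], 11, 1), (45, [5], 5, 1),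
   (46, [23], 23, 1), (47, [47], 47, 1), (48, [3], 3, 1), (49, [], 7, 2),
   (50, [], 5, 2), (51, [3, 17], 17, 1), (52, [13], 13, 1), (53, [53], 53, 1),
   (54, [], 3, 3), (55, [5, 11], 11, 1), (56, [7], 7, 1), (57, [3, 19], 19, 1),
   (58, [29], 29, 1), (59, [59], 59, 1), (61, [61], 61, 1), (62, [31], 31, 1),
   (63, [7], 7, 1), (64, [], 2, 6), (65, [5, 13], 13, 1), (66, [3, 11], 11, 1),
   (67, [67], 67, 1), (68, [17], 17, 1), (69, [3, 23], 23, 1), (70, [5, 7], 7, 1),
   (71, [71], 71, 1), (72, [], 3, 2), (73, [73], 73, 1), (74, [37], 37, 1),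
   (75, [3], 5, 2), (76, [19], 19, 1), (77, [7, 11], 11, 1), (78, [3, 13], 13, 1),
   (79, [79], 79, 1), (80, [5], 5, 1), (81, [], 3, 4), (82, [41], 41, 1),
   (83, [83], 83, 1), (84, [3, 7], 7, 1), (85, [5, 17], 17, 1), (86, [43], 43, 1),
   (87, [3, 29], 29, 1), (88, [11], 11, 1), (89, [89], 89, 1), (90, [5], 5, 1),
   (91, [7, 13], 13, 1), (92, [23], 23, 1), (93, [3, 31], 31, 1), (94, [47], 47, 1),
   (95, [5, 19], 19, 1), (96, [3], 2, 5), (97, [97], 97, 1), (98, [], 7, 2),
   (99, [11], 11, 1), (100, [], 5, 2), (101, [101], 101, 1), (102, [3, 17], 17, 1),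
   (103, [103], 103, 1), (104, [13], 13, 1), (105, [3, 5, 7], 7, 1), (106, [53], 53, 1),
   (107, [107], 107, 1), (108, [], 3, 3), (109, [109], 109, 1), (110, [5, 11], 11, 1),
   (111, [3, 37], 37, 1), (112, [7], 7, 1), (113, [113], 113, 1), (114, [3, 19], 19, 1),
   (115, [5, 23], 23, 1), (116, [29], 29, 1), (117, [13], 13, 1), (118, [59], 59, 1),
   (119, [7, 17], 17, 1), (120, [3, 5], 5, 1), (121, [], 11, 2), (122, [61], 61, 1),
   (123, [3, 41], 41, 1), (124, [31], 31, 1), (125, [], 5, 3), (126, [7], 7, 1),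
   (127, [127], 127, 1), (128, [], 2, 7), (129, [3, 43], 43, 1), (130, [5, 13], 13, 1),
   (131, [131], 131, 1), (132, [3, 11], 11, 1), (133, [7, 19], 19, 1), (134, [67], 67, 1),
   (135, [5], 5, 1), (136, [17], 17, 1), (137, [137], 137, 1), (138, [3, 23], 23, 1),
   (139, [139], 139, 1), (140, [5, 7], 7, 1), (141, [3, 47], 47, 1), (142, [71], 71, 1),
   (143, [11, 13], 13, 1), (144, [], 3, 2), (145, [5, 29], 29, 1), (146, [73], 73, 1),
   (147, [3], 7, 2), (148, [37], 37, 1), (149, [149], 149, 1), (150, [3], 5, 2),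
   (151, [151], 151, 1), (152, [19], 19, 1), (153, [17], 17, 1), (154, [7, 11], 11, 1),
   (155, [5, 31], 31, 1), (156, [3, 13], 13, 1), (157, [157], 157, 1), (158, [79], 79, 1),
   (159, [3, 53], 53, 1), (160, [5], 2, 5), (161, [7, 23], 23, 1), (162, [], 3, 4),
   (163, [163], 163, 1), (164, [41], 41, 1), (165, [3, 5, 11], 11, 1), (166, [83], 83, 1),
   (167, [167], 167, 1), (169, [], 13, 2), (170, [5, 17], 17, 1), (171, [19], 19, 1),
   (172, [43], 43, 1), (173, [173], 173, 1), (174, [3, 29], 29, 1), (175, [7], 7, 1),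
   (176, [11], 11, 1), (177, [3, 59], 59, 1), (178, [89], 89, 1), (179, [179], 179, 1),
   (180, [5], 5, 1), (181, [181], 181, 1), (182, [7, 13], 13, 1), (183, [3, 61], 61, 1),
   (184, [23], 23, 1), (185, [5, 37], 37, 1), (186, [3, 31], 31, 1), (187, [11, 17], 17, 1),
   (188, [47], 47, 1), (189, [7], 7, 1), (190, [5, 19], 19, 1), (191, [191], 191, 1),
   (192, [3], 2, 6), (193, [193], 193, 1), (194, [97], 97, 1), (195, [3, 5, 13], 13, 1),
   (196, [], 7, 2), (197, [197], 197, 1), (198, [11], 11, 1), (199, [199], 199, 1),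
   (200, [], 5, 2), (201, [3, 67], 67, 1), (202, [101], 101, 1), (203, [7, 29], 29, 1),
   (204, [3, 17], 17, 1), (205, [5, 41], 41, 1), (206, [103], 103, 1), (207, [23], 23, 1),
   (208, [13], 13, 1), (209, [11, 19], 19, 1), (210, [3, 5, 7], 3, 1), (211, [211], 211, 1),
   (212, [53], 53, 1), (213, [3, 71], 71, 1), (214, [107], 107, 1), (215, [5, 43], 43, 1),
   (216, [], 3, 3), (217, [7, 31], 31, 1), (218, [109], 109, 1), (219, [3, 73], 73, 1),
   (220, [5, 11], 11, 1), (221, [13, 17], 17, 1), (222, [3, 37], 37, 1), (223, [223], 223, 1),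
   (224, [7], 7, 1), (225, [], 5, 2), (226, [113], 113, 1), (227, [227], 227, 1),
   (228, [3, 19], 19, 1), (229, [229], 229, 1), (230, [5, 23], 23, 1), (231, [3, 7, 11], 11, 1),
   (232, [29], 29, 1), (233, [233], 233, 1), (234, [13], 13, 1), (235, [5, 47], 47, 1),
   (236, [59], 59, 1), (237, [3, 79], 79, 1), (238, [7, 17], 17, 1), (239, [239], 239, 1),
   (240, [3, 5], 5, 1), (241, [241], 241, 1), (242, [], 11, 2), (243, [], 3, 5),
   (244, [61], 61, 1), (245, [5], 7, 2), (246, [3, 41], 41, 1), (247, [13, 19], 19, 1),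
   (248, [31], 31, 1), (249, [3, 83], 83, 1), (250, [], 5, 3), (251, [251], 251, 1),
   (252, [7], 7, 1), (253, [11, 23], 23, 1), (254, [127], 127, 1), (255, [3, 5, 17], 17, 1),
   (256, [], 2, 8), (257, [257], 257, 1), (258, [3, 43], 43, 1), (259, [7, 37], 37, 1),
   (260, [5, 13], 13, 1), (261, [29], 29, 1), (262, [131], 131, 1), (263, [263], 263, 1),
   (264, [3, 11], 11, 1), (265, [5, 53], 53, 1), (266, [7, 19], 19, 1), (267, [3, 89], 89, 1),
   (268, [67], 67, 1), (269, [269], 269, 1), (270, [5], 5, 1), (271, [271], 271, 1),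
   (272, [17], 17, 1), (273, [3, 7, 13], 13, 1), (274, [137], 137, 1), (275, [11], 11, 1),
   (276, [3, 23], 23, 1), (277, [277], 277, 1), (278, [139], 139, 1), (279, [31], 31, 1),
   (280, [5, 7], 7, 1), (281, [281], 281, 1), (282, [3, 47], 47, 1), (283, [283], 283, 1)]

theorem tab0_kill : tab0.all (fun w => kill w.1 w.2.1 w.2.2.1 w.2.2.2) = true := by
  decide +kernel

def tab1 : List (ℕ × List ℕ × ℕ × ℕ) :=
  [(284, [71], 71, 1), (285, [3, 5, 19], 19, 1), (286, [11, 13], 13, 1), (287, [7, 41], 41, 1),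
   (289, [], 17, 2), (290, [5, 29], 29, 1), (291, [3, 97], 97, 1), (292, [73], 73, 1),
   (293, [293], 293, 1), (294, [3], 7, 2), (295, [5, 59], 59, 1), (296, [37], 37, 1),
   (297, [11], 11, 1), (298, [149], 149, 1), (299, [13, 23], 23, 1), (300, [3], 5, 2),
   (301, [7, 43], 43, 1), (302, [151], 151, 1), (303, [3, 101], 101, 1), (304, [19], 19, 1),
   (305, [5, 61], 61, 1), (306, [17], 17, 1), (307, [307], 307, 1), (308, [7, 11], 11, 1),
   (309, [3, 103], 103, 1), (310, [5, 31], 31, 1), (311, [311], 311, 1), (312, [3, 13], 13, 1),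
   (313, [313], 313, 1), (314, [157], 157, 1), (315, [5, 7], 5, 1), (316, [79], 79, 1),
   (317, [317], 317, 1), (318, [3, 53], 53, 1), (319, [11, 29], 29, 1), (320, [5], 2, 6),
   (321, [3, 107], 107, 1), (322, [7, 23], 23, 1), (323, [17, 19], 19, 1), (324, [], 3, 4),
   (325, [13], 13, 1), (326, [163], 163, 1), (327, [3, 109], 109, 1), (328, [41], 41, 1),
   (329, [7, 47], 47, 1), (330, [3, 5, 11], 11, 1), (331, [331], 331, 1), (332, [83], 83, 1),
   (333, [37], 37, 1), (334, [167], 167, 1), (335, [5, 67], 67, 1), (336, [3, 7], 7, 1),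
   (337, [337], 337, 1), (338, [], 13, 2), (339, [3, 113], 113, 1), (340, [5, 17], 17, 1),
   (341, [11, 31], 31, 1), (342, [19], 19, 1), (343, [], 7, 3), (344, [43], 43, 1),
   (345, [3, 5, 23], 23, 1), (346, [173], 173, 1), (347, [347], 347, 1), (348, [3, 29], 29, 1),
   (349, [349], 349, 1), (350, [7], 7, 1), (351, [13], 13, 1), (352, [11], 11, 1),
   (353, [353], 353, 1), (354, [3, 59], 59, 1), (355, [5, 71], 71, 1), (356, [89], 89, 1),
   (357, [3, 7, 17], 17, 1), (358, [179], 179, 1), (359, [359], 359, 1), (361, [], 19, 2),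
   (362, [181], 181, 1), (363, [3], 11, 2), (364, [7, 13], 7, 1), (365, [5, 73], 73, 1),
   (366, [3, 61], 61, 1), (367, [367], 367, 1), (368, [23], 23, 1), (369, [41], 41, 1),
   (370, [5, 37], 37, 1), (371, [7, 53], 53, 1), (372, [3, 31], 31, 1), (373, [373], 373, 1),
   (374, [11, 17], 17, 1), (375, [3], 5, 3), (376, [47], 47, 1), (377, [13, 29], 29, 1),
   (378, [7], 7, 1), (379, [379], 379, 1), (380, [5, 19], 19, 1), (381, [3, 127], 127, 1),
   (382, [191], 191, 1), (383, [383], 383, 1), (384, [3], 2, 7), (385, [5, 7, 11], 11, 1),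
   (386, [193], 193, 1), (387, [43], 43, 1), (388, [97], 97, 1), (389, [389], 389, 1),
   (390, [3, 5, 13], 13, 1), (391, [17, 23], 23, 1), (392, [], 7, 2), (393, [3, 131], 131, 1),
   (394, [197], 197, 1), (395, [5, 79], 79, 1), (396, [11], 11, 1), (397, [397], 397, 1),
   (398, [199], 199, 1), (399, [3, 7, 19], 19, 1), (400, [], 5, 2), (401, [401], 401, 1),
   (402, [3, 67], 67, 1), (403, [13, 31], 31, 1), (404, [101], 101, 1), (405, [5], 5, 1),
   (406, [7, 29], 29, 1), (407, [11, 37], 37, 1), (408, [3, 17], 17, 1), (409, [409], 409, 1),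
   (410, [5, 41], 41, 1), (411, [3, 137], 137, 1), (412, [103], 103, 1), (413, [7, 59], 59, 1),
   (414, [23], 23, 1), (415, [5, 83], 83, 1), (416, [13], 13, 1), (417, [3, 139], 139, 1),
   (418, [11, 19], 19, 1), (419, [419], 419, 1), (421, [421], 421, 1), (422, [211], 211, 1),
   (423, [47], 47, 1), (424, [53], 53, 1), (425, [17], 17, 1), (426, [3, 71], 71, 1),
   (427, [7, 61], 61, 1), (428, [107], 107, 1), (429, [3, 11, 13], 13, 1), (430, [5, 43], 43, 1),
   (431, [431], 431, 1), (432, [], 3, 3), (433, [433], 433, 1), (434, [7, 31], 31, 1),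
   (435, [3, 5, 29], 29, 1), (436, [109], 109, 1), (437, [19, 23], 23, 1), (438, [3, 73], 73, 1),
   (439, [439], 439, 1), (440, [5, 11], 11, 1), (441, [], 7, 2), (442, [13, 17], 17, 1),
   (443, [443], 443, 1), (444, [3, 37], 37, 1), (445, [5, 89], 89, 1), (446, [223], 223, 1),
   (447, [3, 149], 149, 1), (448, [7], 7, 1), (449, [449], 449, 1), (450, [], 5, 2),
   (451, [11, 41], 41, 1), (452, [113], 113, 1), (453, [3, 151], 151, 1), (454, [227], 227, 1),
   (455, [5, 7, 13], 13, 1), (456, [3, 19], 19, 1), (457, [457], 457, 1), (458, [229], 229, 1),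
   (459, [17], 17, 1), (460, [5, 23], 23, 1), (461, [461], 461, 1), (462, [3, 7, 11], 11, 1),
   (463, [463], 463, 1), (464, [29], 29, 1), (465, [3, 5, 31], 31, 1), (466, [233], 233, 1),
   (467, [467], 467, 1), (468, [13], 13, 1), (469, [7, 67], 67, 1), (470, [5, 47], 47, 1),
   (471, [3, 157], 157, 1), (472, [59], 59, 1), (473, [11, 43], 43, 1), (474, [3, 79], 79, 1),
   (475, [19], 19, 1), (476, [7, 17], 17, 1), (477, [53], 53, 1), (478, [239], 239, 1),
   (479, [479], 479, 1), (480, [3, 5], 2, 5), (481, [13, 37], 37, 1), (482, [241], 241, 1),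
   (483, [3, 7, 23], 23, 1), (484, [], 11, 2), (485, [5, 97], 97, 1), (486, [], 3, 5),
   (487, [487], 487, 1), (488, [61], 61, 1), (489, [3, 163], 163, 1), (490, [5], 7, 2),
   (491, [491], 491, 1), (492, [3, 41], 41, 1), (493, [17, 29], 29, 1), (494, [13, 19], 19, 1),
   (495, [5, 11], 11, 1), (496, [31], 31, 1), (497, [7, 71], 71, 1), (498, [3, 83], 83, 1),
   (499, [499], 499, 1), (500, [], 5, 3), (501, [3, 167], 167, 1), (502, [251], 251, 1),
   (503, [503], 503, 1), (505, [5, 101], 101, 1), (506, [11, 23], 23, 1), (507, [3], 13, 2),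
   (508, [127], 127, 1), (509, [509], 509, 1), (510, [3, 5, 17], 17, 1), (511, [7, 73], 73, 1),
   (512, [], 2, 9), (513, [19], 19, 1), (514, [257], 257, 1), (515, [5, 103], 103, 1),
   (516, [3, 43], 43, 1), (517, [11, 47], 47, 1), (518, [7, 37], 37, 1), (519, [3, 173], 173, 1),
   (520, [5, 13], 13, 1), (521, [521], 521, 1), (522, [29], 29, 1), (523, [523], 523, 1),
   (524, [131], 131, 1), (525, [3, 7], 7, 1), (526, [263], 263, 1), (527, [17, 31], 31, 1),
   (528, [3, 11], 11, 1), (529, [], 23, 2), (530, [5, 53], 53, 1), (531, [59], 59, 1),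
   (532, [7, 19], 19, 1), (533, [13, 41], 41, 1), (534, [3, 89], 89, 1), (535, [5, 107], 107, 1),
   (536, [67], 67, 1), (537, [3, 179], 179, 1), (538, [269], 269, 1), (539, [11], 11, 1),
   (540, [5], 5, 1), (541, [541], 541, 1), (542, [271], 271, 1), (543, [3, 181], 181, 1),
   (544, [17], 17, 1), (545, [5, 109], 109, 1), (546, [3, 7, 13], 7, 1), (547, [547], 547, 1),
   (548, [137], 137, 1), (549, [61], 61, 1), (550, [11], 11, 1), (551, [19, 29], 29, 1),
   (552, [3, 23], 23, 1), (553, [7, 79], 79, 1), (554, [277], 277, 1), (555, [3, 5, 37], 37, 1),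
   (556, [139], 139, 1), (557, [557], 557, 1), (558, [31], 31, 1), (559, [13, 43], 43, 1),
   (560, [5, 7], 7, 1), (561, [3, 11, 17], 17, 1), (562, [281], 281, 1), (563, [563], 563, 1),
   (564, [3, 47], 47, 1), (565, [5, 113], 113, 1), (566, [283], 283, 1), (567, [7], 7, 1)]

theorem tab1_kill : tab1.all (fun w => kill w.1 w.2.1 w.2.2.1 w.2.2.2) = true := by
  decide +kernel

def tab2 : List (ℕ × List ℕ × ℕ × ℕ) :=
  [(568, [71], 71, 1), (569, [569], 569, 1), (570, [3, 5, 19], 19, 1), (571, [571], 571, 1),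
   (572, [11, 13], 13, 1), (573, [3, 191], 191, 1), (574, [7, 41], 41, 1), (575, [23], 23, 1),
   (577, [577], 577, 1), (578, [], 17, 2), (579, [3, 193], 193, 1), (580, [5, 29], 29, 1),
   (581, [7, 83], 83, 1), (582, [3, 97], 97, 1), (583, [11, 53], 53, 1), (584, [73], 73, 1),
   (585, [5, 13], 13, 1), (586, [293], 293, 1), (587, [587], 587, 1), (588, [3], 7, 2),
   (589, [19, 31], 31, 1), (590, [5, 59], 59, 1), (591, [3, 197], 197, 1), (592, [37], 37, 1),
   (593, [593], 593, 1), (594, [11], 11, 1), (595, [5, 7, 17], 17, 1), (596, [149], 149, 1),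
   (597, [3, 199], 199, 1), (598, [13, 23], 23, 1), (599, [599], 599, 1), (600, [3], 5, 2),
   (601, [601], 601, 1), (602, [7, 43], 43, 1), (603, [67], 67, 1), (604, [151], 151, 1),
   (605, [5], 11, 2), (606, [3, 101], 101, 1), (607, [607], 607, 1), (608, [19], 19, 1),
   (609, [3, 7, 29], 29, 1), (610, [5, 61], 61, 1), (611, [13, 47], 47, 1), (613, [613], 613, 1),
   (614, [307], 307, 1), (615, [3, 5, 41], 41, 1), (616, [7, 11], 11, 1), (617, [617], 617, 1),
   (618, [3, 103], 103, 1), (619, [619], 619, 1), (620, [5, 31], 31, 1), (621, [23], 23, 1),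
   (622, [311], 311, 1), (623, [7, 89], 89, 1), (624, [3, 13], 13, 1), (625, [], 5, 4),
   (626, [313], 313, 1), (627, [3, 11, 19], 19, 1), (628, [157], 157, 1), (629, [17, 37], 37, 1),
   (630, [5, 7], 2, 1), (631, [631], 631, 1), (632, [79], 79, 1), (633, [3, 211], 211, 1),
   (634, [317], 317, 1), (635, [5, 127], 127, 1), (636, [3, 53], 53, 1), (637, [13], 13, 1),
   (638, [11, 29], 29, 1), (639, [71], 71, 1), (640, [5], 2, 7), (641, [641], 641, 1),
   (642, [3, 107], 107, 1), (643, [643], 643, 1), (644, [7, 23], 23, 1), (645, [3, 5, 43], 43, 1),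
   (646, [17, 19], 19, 1), (647, [647], 647, 1), (648, [], 3, 4), (649, [11, 59], 59, 1),
   (650, [13], 13, 1), (651, [3, 7, 31], 31, 1), (652, [163], 163, 1), (653, [653], 653, 1),
   (654, [3, 109], 109, 1), (655, [5, 131], 131, 1), (656, [41], 41, 1), (657, [73], 73, 1),
   (658, [7, 47], 47, 1), (659, [659], 659, 1), (661, [661], 661, 1), (662, [331], 331, 1),
   (663, [3, 13, 17], 17, 1), (664, [83], 83, 1), (665, [5, 7, 19], 19, 1), (666, [37], 37, 1),
   (667, [23, 29], 29, 1), (668, [167], 167, 1), (669, [3, 223], 223, 1), (670, [5, 67], 67, 1),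
   (671, [11, 61], 61, 1), (672, [3, 7], 7, 1), (673, [673], 673, 1), (674, [337], 337, 1),
   (675, [], 5, 2), (676, [], 13, 2), (677, [677], 677, 1), (678, [3, 113], 113, 1),
   (679, [7, 97], 97, 1), (680, [5, 17], 17, 1), (681, [3, 227], 227, 1), (682, [11, 31], 31, 1),
   (683, [683], 683, 1), (684, [19], 19, 1), (685, [5, 137], 137, 1), (686, [], 7, 3),
   (687, [3, 229], 229, 1), (688, [43], 43, 1), (689, [13, 53], 53, 1), (690, [3, 5, 23], 23, 1),
   (691, [691], 691, 1), (692, [173], 173, 1), (693, [7, 11], 11, 1), (694, [347], 347, 1),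
   (695, [5, 139], 139, 1), (696, [3, 29], 29, 1), (697, [17, 41], 41, 1), (698, [349], 349, 1),
   (699, [3, 233], 233, 1), (700, [7], 5, 2), (701, [701], 701, 1), (702, [13], 3, 3),
   (703, [19, 37], 37, 1), (704, [11], 11, 1), (705, [3, 5, 47], 47, 1), (706, [353], 353, 1),
   (707, [7, 101], 101, 1), (708, [3, 59], 59, 1), (709, [709], 709, 1), (710, [5, 71], 71, 1),
   (711, [79], 79, 1), (712, [89], 89, 1), (713, [23, 31], 31, 1), (714, [3, 7, 17], 17, 1),
   (715, [5, 11, 13], 13, 1), (716, [179], 179, 1), (717, [3, 239], 239, 1), (718, [359], 359, 1),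
   (719, [719], 719, 1), (721, [7, 103], 103, 1), (722, [], 19, 2), (723, [3, 241], 241, 1),
   (724, [181], 181, 1), (725, [29], 29, 1), (726, [3], 11, 2), (727, [727], 727, 1),
   (728, [7, 13], 13, 1), (729, [], 3, 6), (730, [5, 73], 73, 1), (731, [17, 43], 43, 1),
   (732, [3, 61], 61, 1), (733, [733], 733, 1), (734, [367], 367, 1), (735, [3, 5], 7, 2),
   (736, [23], 23, 1), (737, [11, 67], 67, 1), (738, [41], 41, 1), (739, [739], 739, 1),
   (740, [5, 37], 37, 1), (741, [3, 13, 19], 19, 1), (742, [7, 53], 53, 1), (743, [743], 743, 1),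
   (744, [3, 31], 31, 1), (745, [5, 149], 149, 1), (746, [373], 373, 1), (747, [83], 83, 1),
   (748, [11, 17], 17, 1), (749, [7, 107], 107, 1), (750, [3], 5, 3), (751, [751], 751, 1),
   (752, [47], 47, 1), (753, [3, 251], 251, 1), (754, [13, 29], 29, 1), (755, [5, 151], 151, 1),
   (757, [757], 757, 1), (758, [379], 379, 1), (759, [3, 11, 23], 23, 1), (760, [5, 19], 19, 1),
   (761, [761], 761, 1), (762, [3, 127], 127, 1), (763, [7, 109], 109, 1), (764, [191], 191, 1),
   (765, [5, 17], 17, 1), (766, [383], 383, 1), (767, [13, 59], 59, 1), (768, [3], 2, 8),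
   (769, [769], 769, 1), (770, [5, 7, 11], 11, 1), (771, [3, 257], 257, 1), (772, [193], 193, 1),
   (773, [773], 773, 1), (774, [43], 43, 1), (775, [31], 31, 1), (776, [97], 97, 1),
   (777, [3, 7, 37], 37, 1), (778, [389], 389, 1), (779, [19, 41], 41, 1), (780, [3, 5, 13], 13, 1),
   (781, [11, 71], 71, 1), (782, [17, 23], 23, 1), (783, [29], 29, 1), (784, [], 7, 2),
   (785, [5, 157], 157, 1), (786, [3, 131], 131, 1), (787, [787], 787, 1), (788, [197], 197, 1),
   (789, [3, 263], 263, 1), (790, [5, 79], 79, 1), (791, [7, 113], 113, 1), (792, [11], 11, 1),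
   (793, [13, 61], 61, 1), (794, [397], 397, 1), (795, [3, 5, 53], 53, 1), (796, [199], 199, 1),
   (797, [797], 797, 1), (798, [3, 7, 19], 19, 1), (799, [17, 47], 47, 1), (800, [], 5, 2),
   (801, [89], 89, 1), (802, [401], 401, 1), (803, [11, 73], 73, 1), (804, [3, 67], 67, 1),
   (805, [5, 7, 23], 23, 1), (806, [13, 31], 31, 1), (807, [3, 269], 269, 1), (808, [101], 101, 1),
   (809, [809], 809, 1), (810, [5], 2, 1), (811, [811], 811, 1), (812, [7, 29], 29, 1),
   (813, [3, 271], 271, 1), (814, [11, 37], 37, 1), (815, [5, 163], 163, 1), (816, [3, 17], 17, 1),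
   (817, [19, 43], 43, 1), (818, [409], 409, 1), (819, [7, 13], 13, 1), (820, [5, 41], 41, 1),
   (821, [821], 821, 1), (822, [3, 137], 137, 1), (823, [823], 823, 1), (824, [103], 103, 1),
   (825, [3, 11], 11, 1), (826, [7, 59], 59, 1), (827, [827], 827, 1), (828, [23], 23, 1),
   (829, [829], 829, 1), (830, [5, 83], 83, 1), (831, [3, 277], 277, 1), (832, [13], 13, 1),
   (833, [17], 17, 1), (834, [3, 139], 139, 1), (835, [5, 167], 167, 1), (836, [11, 19], 19, 1),
   (837, [31], 31, 1), (838, [419], 419, 1), (839, [839], 839, 1), (841, [], 29, 2),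
   (842, [421], 421, 1), (843, [3, 281], 281, 1), (844, [211], 211, 1), (845, [5], 13, 2),
   (846, [47], 47, 1), (847, [7], 11, 2), (848, [53], 53, 1), (849, [3, 283], 283, 1),
   (850, [17], 17, 1), (851, [23, 37], 37, 1), (852, [3, 71], 71, 1), (853, [853], 853, 1)]

theorem tab2_kill : tab2.all (fun w => kill w.1 w.2.1 w.2.2.1 w.2.2.2) = true := by
  decide +kernel

def tab3 : List (ℕ × List ℕ × ℕ × ℕ) :=
  [(854, [7, 61], 61, 1), (855, [5, 19], 19, 1), (856, [107], 107, 1), (857, [857], 857, 1),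
   (858, [3, 11, 13], 13, 1), (859, [859], 859, 1), (860, [5, 43], 43, 1), (861, [3, 7, 41], 41, 1),
   (862, [431], 431, 1), (863, [863], 863, 1), (864, [], 3, 3), (865, [5, 173], 173, 1),
   (866, [433], 433, 1), (867, [3], 17, 2), (868, [7, 31], 31, 1), (869, [11, 79], 79, 1),
   (870, [3, 5, 29], 29, 1), (871, [13, 67], 67, 1), (872, [109], 109, 1), (873, [97], 97, 1),
   (874, [19, 23], 23, 1), (875, [7], 7, 1), (876, [3, 73], 73, 1), (877, [877], 877, 1),
   (878, [439], 439, 1), (879, [3, 293], 293, 1), (880, [5, 11], 11, 1), (881, [881], 881, 1),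
   (882, [], 7, 2), (883, [883], 883, 1), (884, [13, 17], 17, 1), (885, [3, 5, 59], 59, 1),
   (886, [443], 443, 1), (887, [887], 887, 1), (888, [3, 37], 37, 1), (889, [7, 127], 127, 1),
   (890, [5, 89], 89, 1), (891, [11], 11, 1), (892, [223], 223, 1), (893, [19, 47], 47, 1),
   (894, [3, 149], 149, 1), (895, [5, 179], 179, 1), (896, [7], 2, 7), (897, [3, 13, 23], 23, 1),
   (898, [449], 449, 1), (899, [29, 31], 31, 1), (900, [], 5, 2), (901, [17, 53], 53, 1),
   (902, [11, 41], 41, 1), (903, [3, 7, 43], 43, 1), (904, [113], 113, 1), (905, [5, 181], 181, 1),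
   (906, [3, 151], 151, 1), (907, [907], 907, 1), (908, [227], 227, 1), (909, [101], 101, 1),
   (910, [5, 7, 13], 13, 1), (911, [911], 911, 1), (912, [3, 19], 19, 1), (913, [11, 83], 83, 1),
   (914, [457], 457, 1), (915, [3, 5, 61], 61, 1), (916, [229], 229, 1), (917, [7, 131], 131, 1),
   (918, [17], 17, 1), (919, [919], 919, 1), (920, [5, 23], 23, 1), (921, [3, 307], 307, 1),
   (922, [461], 461, 1), (923, [13, 71], 71, 1), (924, [3, 7, 11], 11, 1), (925, [37], 37, 1),
   (926, [463], 463, 1), (927, [103], 103, 1), (928, [29], 29, 1), (929, [929], 929, 1),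
   (930, [3, 5, 31], 31, 1), (931, [19], 19, 1), (932, [233], 233, 1), (933, [3, 311], 311, 1),
   (934, [467], 467, 1), (935, [5, 11, 17], 17, 1), (936, [13], 13, 1), (937, [937], 937, 1),
   (938, [7, 67], 67, 1), (939, [3, 313], 313, 1), (940, [5, 47], 47, 1), (941, [941], 941, 1),
   (942, [3, 157], 157, 1), (943, [23, 41], 41, 1), (944, [59], 59, 1), (945, [5, 7], 5, 1),
   (946, [11, 43], 43, 1), (947, [947], 947, 1), (948, [3, 79], 79, 1), (949, [13, 73], 73, 1),
   (950, [19], 19, 1), (951, [3, 317], 317, 1), (952, [7, 17], 17, 1), (953, [953], 953, 1),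
   (954, [53], 53, 1), (955, [5, 191], 191, 1), (956, [239], 239, 1), (957, [3, 11, 29], 29, 1),
   (958, [479], 479, 1), (959, [7, 137], 137, 1), (960, [3, 5], 2, 6), (961, [], 31, 2),
   (962, [13, 37], 37, 1), (963, [107], 107, 1), (964, [241], 241, 1), (965, [5, 193], 193, 1),
   (966, [3, 7, 23], 23, 1), (967, [967], 967, 1), (968, [], 11, 2), (969, [3, 17, 19], 19, 1),
   (970, [5, 97], 97, 1), (971, [971], 971, 1), (972, [], 3, 5), (973, [7, 139], 139, 1),
   (974, [487], 487, 1), (975, [3, 13], 13, 1), (976, [61], 61, 1), (977, [977], 977, 1),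
   (978, [3, 163], 163, 1), (979, [11, 89], 89, 1), (980, [5], 7, 2), (981, [109], 109, 1),
   (982, [491], 491, 1), (983, [983], 983, 1), (984, [3, 41], 41, 1), (985, [5, 197], 197, 1),
   (986, [17, 29], 29, 1), (987, [3, 7, 47], 47, 1), (988, [13, 19], 19, 1), (989, [23, 43], 43, 1),
   (990, [5, 11], 5, 1), (991, [991], 991, 1), (992, [31], 31, 1), (993, [3, 331], 331, 1),
   (994, [7, 71], 71, 1), (995, [5, 199], 199, 1), (996, [3, 83], 83, 1), (997, [997], 997, 1),
   (998, [499], 499, 1), (999, [37], 37, 1), (1000, [], 5, 3), (1001, [7, 11, 13], 13, 1),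
   (1002, [3, 167], 167, 1), (1003, [17, 59], 59, 1), (1004, [251], 251, 1), (1005, [3, 5, 67], 67, 1),
   (1006, [503], 503, 1), (1007, [19, 53], 53, 1), (1009, [1009], 1009, 1), (1010, [5, 101], 101, 1),
   (1011, [3, 337], 337, 1), (1012, [11, 23], 23, 1), (1013, [1013], 1013, 1), (1014, [3], 13, 2),
   (1015, [5, 7, 29], 29, 1), (1016, [127], 127, 1), (1017, [113], 113, 1), (1018, [509], 509, 1),
   (1019, [1019], 1019, 1), (1020, [3, 5, 17], 17, 1), (1021, [1021], 1021, 1), (1022, [7, 73], 73, 1),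
   (1023, [3, 11, 31], 31, 1), (1024, [], 2, 10), (1025, [41], 41, 1), (1026, [19], 19, 1),
   (1027, [13, 79], 79, 1), (1028, [257], 257, 1), (1029, [3], 7, 3), (1030, [5, 103], 103, 1),
   (1031, [1031], 1031, 1), (1032, [3, 43], 43, 1), (1033, [1033], 1033, 1), (1034, [11, 47], 47, 1),
   (1035, [5, 23], 23, 1), (1036, [7, 37], 37, 1), (1037, [17, 61], 61, 1), (1038, [3, 173], 173, 1),
   (1039, [1039], 1039, 1), (1041, [3, 347], 347, 1), (1042, [521], 521, 1), (1043, [7, 149], 149, 1),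
   (1044, [29], 29, 1), (1045, [5, 11, 19], 19, 1), (1046, [523], 523, 1), (1047, [3, 349], 349, 1),
   (1048, [131], 131, 1), (1049, [1049], 1049, 1), (1050, [3, 7], 5, 2), (1051, [1051], 1051, 1),
   (1052, [263], 263, 1), (1053, [13], 3, 4), (1054, [17, 31], 31, 1), (1055, [5, 211], 211, 1),
   (1056, [3, 11], 11, 1), (1057, [7, 151], 151, 1), (1058, [], 23, 2), (1059, [3, 353], 353, 1),
   (1060, [5, 53], 53, 1), (1061, [1061], 1061, 1), (1062, [59], 59, 1), (1063, [1063], 1063, 1),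
   (1064, [7, 19], 19, 1), (1065, [3, 5, 71], 71, 1), (1066, [13, 41], 41, 1), (1067, [11, 97], 97, 1),
   (1068, [3, 89], 89, 1), (1069, [1069], 1069, 1), (1070, [5, 107], 107, 1), (1071, [7, 17], 17, 1),
   (1072, [67], 67, 1), (1073, [29, 37], 37, 1), (1074, [3, 179], 179, 1), (1075, [43], 43, 1),
   (1076, [269], 269, 1), (1077, [3, 359], 359, 1), (1078, [11], 11, 1), (1079, [13, 83], 83, 1),
   (1081, [23, 47], 47, 1), (1082, [541], 541, 1), (1083, [3], 19, 2), (1084, [271], 271, 1),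
   (1085, [5, 7, 31], 31, 1), (1086, [3, 181], 181, 1), (1087, [1087], 1087, 1), (1088, [17], 17, 1),
   (1089, [], 11, 2), (1090, [5, 109], 109, 1), (1091, [1091], 1091, 1)]

theorem tab3_kill : tab3.all (fun w => kill w.1 w.2.1 w.2.2.1 w.2.2.2) = true := by
  decide +kernel

def excl : List ℕ := [60, 168, 360, 504, 660, 1092, 288, 420, 576, 612, 720, 756, 840, 1008, 1040, 1080]

theorem cover : (tab0 ++ tab1 ++ tab2 ++ tab3).map Prod.fst =
    (List.range 1093).filter (fun n => decide (2 ≤ n) && !excl.contains n) := by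
  decide +kernel


/-- A non-abelian finite simple group of order at most 1092 has order 60, 168, 360, 504, 660 or 1092. -/
theorem result {G : Type*} [Group G] [Finite G] [IsSimpleGroup G]
    (hG : ¬ IsMulCommutative G) (h : Nat.card G ≤ 1092) :
    Nat.card G = 60 ∨ Nat.card G = 168 ∨ Nat.card G = 360 ∨ Nat.card G = 504 ∨ Nat.card G = 660 ∨
      Nat.card G = 1092 := by
  have hpos : 0 < Nat.card G := Nat.card_pos
  have h1 : Nat.card G ≠ 1 := fun h1 => hG ⟨⟨fun a b =>
    (Nat.card_eq_one_iff_unique.1 h1).1.elim _ _⟩⟩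
  by_cases he : Nat.card G ∈ excl
  · simp only [excl, List.mem_cons, List.not_mem_nil, or_false] at he
    rcases he with e | e | e | e | e | e | e | e | e | e | e | e | e | e | e | e
    · simp [e]
    · simp [e]
    · simp [e]
    · simp [e]
    · simp [e]
    · simp [e]
    · exact absurd e (SimpleOrdersSmall.card_ne_two_primes hG (p := 2) (q := 3) (a := 5) (b := 2)
        Nat.prime_two Nat.prime_three (by norm_num))
    · exact absurd e (SimpleOrdersSmall.card_ne_420 hG)
    · exact absurd e (SimpleOrdersSmall.card_ne_two_primes hG (p := 2) (q := 3) (a := 6) (b := 2)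
        Nat.prime_two Nat.prime_three (by norm_num))
    · exact absurd e (SimpleOrdersSmall.card_ne_612 hG)
    · exact absurd e (SimpleOrdersSmall.card_ne_720 hG)
    · exact absurd e (SimpleOrdersSmall.card_ne_756 hG)
    · exact absurd e (SimpleOrdersSmall.card_ne_840 hG)
    · exact absurd e (SimpleOrdersSmall.card_ne_1008 hG)
    · exact absurd e (SimpleOrdersSmall.card_ne_1040 hG)
    · exact absurd e (SimpleOrdersSmall.card_ne_1080 hG)
  · exfalso
    have hm : Nat.card G ∈ (tab0 ++ tab1 ++ tab2 ++ tab3).map Prod.fst := by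
      rw [cover, List.mem_filter]
      refine ⟨List.mem_range.2 (by omega), ?_⟩
      simp [he]
      omega
    obtain ⟨w, hw, hwn⟩ := List.mem_map.1 hm
    simp only [List.mem_append] at hw
    have hk : kill w.1 w.2.1 w.2.2.1 w.2.2.2 = true := by
      rcases hw with ((hw0 | hw1) | hw2) | hw3
      · exact List.all_eq_true.1 tab0_kill w hw0
      · exact List.all_eq_true.1 tab1_kill w hw1
      · exact List.all_eq_true.1 tab2_kill w hw2
      · exact List.all_eq_true.1 tab3_kill w hw3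
    exact card_ne_of_kill hG w.2.1 w.2.2.1 w.2.2.2 hk hwn.symm

end Cfsg.Agent.S0496
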