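import Cfsg.Statements.S0976
import Cfsg.Agent.Lib.DihedralStar68
import Cfsg.Agent.Lib.OrderExclusion71
import Cfsg.Agent.Lib.SimpleCentralizerKill

set_option autoImplicit false
open Cfsg

namespace Cfsg.Agent.S0976

open Subgroup Cfsg.Agent.SimpleOrder Cfsg.Agent.SimpleOrderCheck

theorem cand_seven : cand 4032 7 576 = [8, 36, 64, 288] := by decide +kernel

theorem cand_three : cand 4032 3 448 = [16, 28, 64, 112, 448] := by decide +kernel

theorem kill36 : ∀ r ∈ (4032 / 7).divisors, r % 7 = 1 → 1 < r → r < 4032 / 112 →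
    ∀ i ∈ (4032 / (2 ^ 4 * 7)).divisors, i * r * (2 ^ 4 * 7) ∣ 4032 →
      facMod (2 * 4032) i ≠ 0 := by decide +kernel

variable {G : Type*} [Group G] [Finite G] [IsSimpleGroup G]

/-- The case of sixty-four Sylow `7`-subgroups: lines of order three. -/
theorem false_of_64 (hn : Nat.card G = 4032) (hG : ¬ IsMulCommutative G) [Fact (Nat.Prime 7)]
    (P : Sylow 7 G) (hP : Nat.card ↥(P : Subgroup G) = 7) (hd : Nat.card (Sylow 7 G) = 64)
    (hC : Nat.card ↥(Subgroup.centralizer ((P : Subgroup G) : Set G)) = 21)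
    (hN : Nat.card ↥(Subgroup.normalizer ((P : Subgroup G) : Set G)) = 63) : False := by
  haveI : Fact (Nat.Prime 3) := ⟨by norm_num⟩
  haveI : Fact (Nat.Prime 2) := ⟨Nat.prime_two⟩
  set N := Subgroup.normalizer ((P : Subgroup G) : Set G) with hNdef
  set C := Subgroup.centralizer ((P : Subgroup G) : Set G) with hCdef
  obtain ⟨y', hy'⟩ := exists_prime_orderOf_dvd_card' 3 (G := ↥C) (hC ▸ by norm_num)
  set y : G := (y' : G) with hydef
  have hy : orderOf y = 3 := by rw [hydef, Subgroup.orderOf_coe, hy']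
  have hyC : y ∈ C := y'.2
  have hPC : (P : Subgroup G) ≤ C := by
    have hc : IsCyclic ↥(P : Subgroup G) := isCyclic_of_prime_card hP
    intro g hg
    rw [hCdef, Subgroup.mem_centralizer_iff]
    intro h hh
    obtain ⟨w, hw⟩ := hc.exists_generator
    obtain ⟨i, hi⟩ := Subgroup.mem_zpowers_iff.1 (hw ⟨g, hg⟩)
    obtain ⟨j, hj⟩ := Subgroup.mem_zpowers_iff.1 (hw ⟨h, hh⟩)
    have := congrArg Subtype.val (((Commute.refl w).zpow_zpow j i).eq)
    rwa [hi, hj] at this
  -- `C` is abelian with one subgroup of order three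
  have huniq : ∀ z ∈ C, orderOf z = 3 → z ∈ Subgroup.zpowers y := by
    intro z hz hz3
    by_contra hzy
    -- then the two subgroups generate an elementary group of order nine modulo `P`
    have h3 : Nat.card (Subgroup.zpowers (⟨y, hyC⟩ : C)) = 3 ^ 1 := by
      rw [Nat.card_zpowers, ← Subgroup.orderOf_coe, hy, pow_one]
    have h3' : Nat.card (Subgroup.zpowers (⟨z, hz⟩ : C)) = 3 ^ 1 := by
      rw [Nat.card_zpowers, ← Subgroup.orderOf_coe, hz3, pow_one]
    obtain ⟨S, hS⟩ := (IsPGroup.of_card h3).exists_le_sylow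
    obtain ⟨S', hS'⟩ := (IsPGroup.of_card h3').exists_le_sylow
    have hcard : ∀ T : Sylow 3 C, Nat.card ↥(T : Subgroup C) = 3 := fun T => by
      rw [SimpleOrder.sylow_card_of_eq (G := ↥C) (k := 1) (m := 7) hC (by norm_num) T, pow_one]
    have hn3 : Nat.card (Sylow 3 C) = 1 := by
      have hd1 := SimpleOrder.card_sylow_dvd (G := ↥C) (p := 3) (k := 1) (m := 7) hC (by norm_num)
      have hd2 : Nat.card (Sylow 3 C) % 3 = 1 % 3 := card_sylow_modEq_one 3 C
      rcases (Nat.dvd_prime (show Nat.Prime 7 by norm_num)).1 hd1 with h | h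
      · exact h
      · -- seven subgroups: impossible, as `P` is central
        exfalso
        have hidx : (Subgroup.normalizer ((S : Subgroup C) : Set C)).index = 7 :=
          S.card_eq_index_normalizer.symm.trans h
        have h7 : ((P : Subgroup G).subgroupOf C) ≤ Subgroup.normalizer ((S : Subgroup C) : Set C) := by
          intro q hq
          refine Subgroup.centralizer_le_normalizer _ (Subgroup.mem_centralizer_iff.2 fun s _ => ?_)
          exact Subtype.ext (Subgroup.mem_centralizer_iff.1 s.2 q hq).symm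
        have h8 := Subgroup.card_dvd_of_le h7
        rw [Nat.card_congr (Subgroup.subgroupOfEquivOfLe hPC).toEquiv, hP] at h8
        have h9 := (Subgroup.normalizer ((S : Subgroup C) : Set C)).card_mul_index
        rw [hidx, hC] at h9
        omega
    haveI := (Nat.card_eq_one_iff_unique.1 hn3).1
    have hSS : S = S' := Subsingleton.elim _ _
    have e1 : Subgroup.zpowers (⟨y, hyC⟩ : C) = S := Subgroup.eq_of_le_of_card_ge hS (by
      rw [hcard, h3]; norm_num)
    have e2 : Subgroup.zpowers (⟨z, hz⟩ : C) = S := Subgroup.eq_of_le_of_card_ge (hSS ▸ hS') (by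
      rw [hcard, h3']; norm_num)
    obtain ⟨k, hk⟩ := Subgroup.mem_zpowers_iff.1 (e1 ▸ e2 ▸ Subgroup.mem_zpowers (⟨z, hz⟩ : C) :
      (⟨z, hz⟩ : C) ∈ Subgroup.zpowers (⟨y, hyC⟩ : C))
    exact hzy (Subgroup.mem_zpowers_iff.2 ⟨k, by simpa using congrArg Subtype.val hk⟩)
  -- `N` centralizes `y`
  set H := Subgroup.centralizer ({y} : Set G) with hHdef
  have hNH : N ≤ H := by
    intro g hg
    have hgy : g * y * g⁻¹ ∈ C := by
      rw [hCdef, Subgroup.mem_centralizer_iff]
      intro h hh
      have h1 : g⁻¹ * h * g ∈ ((P : Subgroup G) : Set G) := by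
        have := (Subgroup.mem_normalizer_iff.1 (inv_mem hg) h).1 hh
        rwa [inv_inv] at this
      have h2 := Subgroup.mem_centralizer_iff.1 hyC _ h1
      calc h * (g * y * g⁻¹) = g * ((g⁻¹ * h * g) * y) * g⁻¹ := by group
        _ = g * (y * (g⁻¹ * h * g)) * g⁻¹ := by rw [h2]
        _ = g * y * g⁻¹ * h := by group
    have ho : orderOf (g * y * g⁻¹) = 3 := by rw [← MulAut.conj_apply, MulEquiv.orderOf_eq, hy]
    obtain ⟨k, hk⟩ := Subgroup.mem_zpowers_iff.1 (huniq _ hgy ho)
    rw [hHdef, Subgroup.mem_centralizer_singleton_iff]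
    have hg63 : g ^ 63 = 1 := by
      have := hN ▸ pow_card_eq_one' (x := (⟨g, hg⟩ : N))
      exact congrArg Subtype.val this
    -- the exponent is one modulo three
    have hy3 : y ^ 3 = 1 := hy ▸ pow_orderOf_eq_one y
    have hk' : y ^ k = y ∨ y ^ k = y⁻¹ := by
      rw [← zpow_mod_orderOf, hy]
      have := Int.emod_nonneg k (show (3 : ℤ) ≠ 0 by norm_num)
      have := Int.emod_lt_of_pos k (show (0 : ℤ) < 3 by norm_num)
      push_cast
      rcases (show k % 3 = 0 ∨ k % 3 = 1 ∨ k % 3 = 2 by omega) with h | h | h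
      · exfalso
        have hk0 : y ^ k = 1 := by rw [← zpow_mod_orderOf, hy]; push_cast; rw [h, zpow_zero]
        rw [hk0, eq_comm, mul_inv_eq_one, mul_eq_left] at hk
        rw [hk, orderOf_one] at hy
        omega
      · left; rw [h, zpow_one]
      · right
        rw [h, eq_inv_iff_mul_eq_one, ← zpow_add_one]
        exact_mod_cast hy3
    rcases hk' with h | h
    · rw [h] at hk
      exact (mul_inv_eq_iff_eq_mul.1 hk.symm)
    · exfalso
      rw [h] at hk
      have hodd : ∀ j : ℕ, g ^ j * y * (g ^ j)⁻¹ = if j % 2 = 0 then y else y⁻¹ := by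
        intro j
        induction j with
        | zero => simp
        | succ j ih =>
          rw [pow_succ', show g * g ^ j * y * (g * g ^ j)⁻¹ = g * (g ^ j * y * (g ^ j)⁻¹) * g⁻¹ by group, ih]
          rcases Nat.mod_two_eq_zero_or_one j with h0 | h0
          · rw [if_pos h0, if_neg (by omega), ← hk]
          · rw [if_neg (by omega), if_pos (by omega), show g * y⁻¹ * g⁻¹ = (g * y * g⁻¹)⁻¹ by group,
              ← hk, inv_inv]
      have := hodd 63
      rw [hg63, one_mul, inv_one, mul_one, if_neg (by norm_num)] at this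
      have h2 : y ^ 2 = 1 := by rw [pow_two]; exact mul_eq_one_iff_eq_inv.2 this
      have := orderOf_dvd_of_pow_eq_one h2
      rw [hy] at this
      norm_num at this
  have hH : H ≠ ⊤ := by
    intro h
    have hm : y ∈ Subgroup.center G := Subgroup.mem_center_iff.2 fun g =>
      Subgroup.mem_centralizer_singleton_iff.1 (h ▸ Subgroup.mem_top g : g ∈ H)
    rcases eq_bot_or_top (inferInstance : (Subgroup.center G).Normal) with hz | hz
    · rw [hz, Subgroup.mem_bot] at hm
      rw [hm, orderOf_one] at hy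
      omega
    · exact hG ⟨⟨fun a b => (Subgroup.mem_center_iff.1 (hz ▸ Subgroup.mem_top b) a)⟩⟩
  have hHN : H = N := by
    have hmul := Subgroup.relIndex_mul_index hNH
    rw [show N.index = 64 from P.card_eq_index_normalizer.symm.trans hd] at hmul
    have hr := SimpleCentralizerKill.relIndex_mod_of_normalizer_le P hNH
    have hdvd : N.relIndex H ∣ 64 := Dvd.intro _ hmul
    have hi : H.index ≠ 1 := fun h => hH (Subgroup.index_eq_one.1 h)
    have hmem : N.relIndex H ∈ (64 : ℕ).divisors := Nat.mem_divisors.2 ⟨hdvd, by norm_num⟩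
    have hcases : ∀ r ∈ (64 : ℕ).divisors, r % 7 = 1 → r = 1 ∨ r = 8 ∨ r = 64 := by decide
    rcases hcases _ hmem hr with h | h | h
    · exact le_antisymm (Subgroup.relIndex_eq_one.1 h) hNH
    · exfalso
      rw [h] at hmul
      have h8 := iOK_index hG [7] H hH
      rw [hn, show H.index = 8 by omega] at h8
      exact absurd h8 (by decide +kernel)
    · rw [h] at hmul
      omega
  -- the normalizer of `<y>` is `N`
  have hNy : ∀ g : G, (g * y * g⁻¹ = y ∨ g * y * g⁻¹ = y⁻¹) → g ∈ N := by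
    intro g hg
    rw [hNdef, Subgroup.mem_normalizer_iff]
    have hmem : ∀ (g : G), (g * y * g⁻¹ = y ∨ g * y * g⁻¹ = y⁻¹) →
        ∀ h ∈ (P : Subgroup G), g * h * g⁻¹ ∈ (P : Subgroup G) := by
      intro g hg h hh
      have hhH : h ∈ H := hNH (Subgroup.le_normalizer hh)
      have hgh : g * h * g⁻¹ ∈ N := by
        rw [← hHN, hHdef, Subgroup.mem_centralizer_singleton_iff]
        have hc := Subgroup.mem_centralizer_singleton_iff.1 hhH
        rcases hg with hg | hg
        · calc g * h * g⁻¹ * y = g * h * g⁻¹ * (g * y * g⁻¹) := by rw [hg]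
            _ = g * (h * y) * g⁻¹ := by group
            _ = g * (y * h) * g⁻¹ := by rw [hc]
            _ = (g * y * g⁻¹) * (g * h * g⁻¹) := by group
            _ = y * (g * h * g⁻¹) := by rw [hg]
        · have hy' : g * y⁻¹ * g⁻¹ = y := by
            rw [show g * y⁻¹ * g⁻¹ = (g * y * g⁻¹)⁻¹ by group, hg, inv_inv]
          have hc' : h * y⁻¹ = y⁻¹ * h := ((show Commute h y from hc).inv_right).eq
          calc g * h * g⁻¹ * y = g * h * g⁻¹ * (g * y⁻¹ * g⁻¹) := by rw [hy']
            _ = g * (h * y⁻¹) * g⁻¹ := by group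
            _ = g * (y⁻¹ * h) * g⁻¹ := by rw [hc']
            _ = (g * y⁻¹ * g⁻¹) * (g * h * g⁻¹) := by group
            _ = y * (g * h * g⁻¹) := by rw [hy']
      have hp : IsPGroup 7 ↥((P : Subgroup G).map (MulAut.conj g).toMonoidHom) := P.isPGroup'.map _
      exact ((hp.inf_normalizer_sylow P).le ⟨⟨h, hh, rfl⟩, hgh⟩).2
    intro h
    refine ⟨hmem g hg h, fun h' => ?_⟩
    have hg' : g⁻¹ * y * g⁻¹⁻¹ = y ∨ g⁻¹ * y * g⁻¹⁻¹ = y⁻¹ := by
      rcases hg with hg | hg
      · left; conv_lhs => arg 1; arg 2; rw [← hg]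
        group
      · right
        calc g⁻¹ * y * g⁻¹⁻¹ = g⁻¹ * ((g * y * g⁻¹)⁻¹) * g := by rw [hg]; group
          _ = y⁻¹ := by group
    have := hmem g⁻¹ hg' _ h'
    simpa [mul_assoc] using this
  have hodd : ∀ g : G, g ∈ N → orderOf g ≠ 2 := by
    intro g hg h2
    have := Subgroup.orderOf_coe (⟨g, hg⟩ : N) ▸ orderOf_dvd_natCard (⟨g, hg⟩ : N)
    rw [hN, h2] at this
    norm_num at this
  -- the Sylow `3`-subgroup
  obtain ⟨T, hT⟩ := (IsPGroup.of_card (p := 3) (n := 1) (G := ↥(Subgroup.zpowers y))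
    (by rw [Nat.card_zpowers, hy, pow_one])).exists_le_sylow
  have hyT : y ∈ (T : Subgroup G) := hT (Subgroup.mem_zpowers y)
  have hTc : Nat.card ↥(T : Subgroup G) = 3 ^ 2 :=
    SimpleOrder.sylow_card_of_eq (k := 2) (m := 448) hn (by norm_num) T
  have hTab : ∀ a ∈ (T : Subgroup G), ∀ b ∈ (T : Subgroup G), a * b = b * a := fun a ha b hb =>
    congrArg Subtype.val (IsPGroup.commutative_of_card_eq_prime_sq hTc ⟨a, ha⟩ ⟨b, hb⟩)
  set M := Subgroup.normalizer ((T : Subgroup G) : Set G) with hMdef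
  have hTM : (T : Subgroup G) ≤ M := Subgroup.le_normalizer
  have hMmul := M.card_mul_index
  rw [hn, show M.index = Nat.card (Sylow 3 G) from T.card_eq_index_normalizer.symm] at hMmul
  have hn3 : Nat.card (Sylow 3 G) ∈ cand 4032 3 448 := by
    have := mem_cand hG (show 0 < 2 by norm_num) (p := 3) (v := 2) (m := 448) hn (by norm_num)
    rwa [hn] at this
  rw [cand_three] at hn3
  -- the stabilizer of `y` in `M` has order nine
  set St := M ⊓ H with hSt
  have hStc : Nat.card St = 9 := by
    have h1 : (T : Subgroup G) ≤ St := le_inf hTM fun t ht => by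
      rw [hHdef, Subgroup.mem_centralizer_singleton_iff]; exact hTab t ht y hyT
    have h2 := Subgroup.card_dvd_of_le h1
    have h3 : Nat.card St ∣ 63 := hN ▸ hHN ▸ Subgroup.card_dvd_of_le inf_le_right
    rw [hTc] at h2
    have hmem : Nat.card St ∈ (63 : ℕ).divisors := Nat.mem_divisors.2 ⟨h3, by norm_num⟩
    have hcases : ∀ r ∈ (63 : ℕ).divisors, 9 ∣ r → r = 9 ∨ r = 63 := by decide
    refine (hcases _ hmem h2).resolve_right fun h63 => ?_
    have hStN : St = N := Subgroup.eq_of_le_of_card_ge (hHN ▸ inf_le_right) (by rw [hN, h63])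
    -- `P` normalizes `T`, hence they centralize each other
    have hPM : (P : Subgroup G) ≤ M := fun q hq => (hStN ▸ Subgroup.le_normalizer hq : q ∈ St).1
    have hTC : (T : Subgroup G) ≤ C := by
      intro t ht
      rw [hCdef, Subgroup.mem_centralizer_iff]
      intro q hq
      have h1 : t⁻¹ * (q * t * q⁻¹) ∈ (T : Subgroup G) :=
        mul_mem (inv_mem ht) ((Subgroup.mem_normalizer_iff.1 (hPM hq) t).1 ht)
      have h2 : t⁻¹ * (q * t * q⁻¹) ∈ (P : Subgroup G) := by
        have htN : t ∈ N := hHN ▸ ((le_inf hTM fun t ht => by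
          rw [hHdef, Subgroup.mem_centralizer_singleton_iff]; exact hTab t ht y hyT : (T : Subgroup G) ≤ M ⊓ H) ht).2
        have hq' := (Subgroup.mem_normalizer_iff.1 (inv_mem htN) q).1 hq
        rw [inv_inv] at hq'
        have := mul_mem hq' (inv_mem hq)
        simpa [mul_assoc] using this
      have hdis : t⁻¹ * (q * t * q⁻¹) = 1 := by
        have a := Subgroup.orderOf_coe (⟨_, h1⟩ : (T : Subgroup G)) ▸
          orderOf_dvd_natCard (⟨_, h1⟩ : (T : Subgroup G))
        have b := Subgroup.orderOf_coe (⟨_, h2⟩ : (P : Subgroup G)) ▸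
          orderOf_dvd_natCard (⟨_, h2⟩ : (P : Subgroup G))
        rw [hTc] at a; rw [hP] at b
        exact orderOf_eq_one_iff.1 (Nat.eq_one_of_dvd_coprimes (by norm_num) a b)
      rw [inv_mul_eq_one] at hdis
      exact mul_inv_eq_iff_eq_mul.1 hdis.symm
    have := Subgroup.card_dvd_of_le hTC
    rw [hTc, hC] at this
    norm_num at this
  -- the orbit of `y`
  let f : ↥M ⧸ St.subgroupOf M → ↥(T : Subgroup G) := Quotient.lift
    (fun g : ↥M => (⟨(g : G) * y * (g : G)⁻¹, (Subgroup.mem_normalizer_iff.1 g.2 y).1 hyT⟩ : ↥(T : Subgroup G)))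
    (fun a b hab => by
      have h1 : ((a : G)⁻¹ * b) ∈ St := (QuotientGroup.leftRel_apply (s := St.subgroupOf M)).mp hab
      have h2 := Subgroup.mem_centralizer_singleton_iff.1 h1.2
      refine Subtype.ext ?_
      calc (a : G) * y * (a : G)⁻¹ = a * (y * ((a : G)⁻¹ * b)) * (b : G)⁻¹ := by group
        _ = a * (((a : G)⁻¹ * b) * y) * (b : G)⁻¹ := by rw [h2]
        _ = b * y * (b : G)⁻¹ := by group)
  have hf : Function.Injective f := fun a b => by
    induction a using Quotient.inductionOn with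
    | _ a =>
      induction b using Quotient.inductionOn with
      | _ b =>
        intro h
        refine QuotientGroup.eq.mpr (?_ : ((a : G)⁻¹ * b) ∈ St)
        refine ⟨M.mul_mem (M.inv_mem a.2) b.2, Subgroup.mem_centralizer_singleton_iff.2 ?_⟩
        have h' : (a : G) * y * (a : G)⁻¹ = b * y * (b : G)⁻¹ := congrArg Subtype.val h
        calc (a : G)⁻¹ * b * y = (a : G)⁻¹ * (b * y * (b : G)⁻¹) * b := by group
          _ = (a : G)⁻¹ * (a * y * (a : G)⁻¹) * b := by rw [h']
          _ = y * ((a : G)⁻¹ * b) := by group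
  have hMk : Nat.card ↥M = 9 * Nat.card (↥M ⧸ St.subgroupOf M) := by
    rw [← (St.subgroupOf M).card_mul_index, Nat.card_congr (Subgroup.subgroupOfEquivOfLe inf_le_left).toEquiv,
      hStc]
    rfl
  -- orbit and its inverse miss the identity and each other
  let O : Set ↥(T : Subgroup G) := Set.range f
  have hfv : ∀ g : ↥M, (f ⟦g⟧ : G) = (g : G) * y * (g : G)⁻¹ := fun g => rfl
  have hO1 : (1 : ↥(T : Subgroup G)) ∉ O := by
    rintro ⟨q, hq⟩
    induction q using Quotient.inductionOn with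
    | _ g =>
      have := congrArg Subtype.val hq
      rw [hfv, Subgroup.coe_one] at this
      rw [mul_inv_eq_one, mul_eq_left] at this
      rw [this, orderOf_one] at hy
      omega
  have hOd : ∀ t ∈ O, t⁻¹ ∉ O := by
    rintro _ ⟨q, rfl⟩ ⟨q', hq'⟩
    induction q using Quotient.inductionOn with
    | _ g =>
      induction q' using Quotient.inductionOn with
      | _ g' =>
        have h := congrArg Subtype.val hq'
        rw [hfv, Subgroup.coe_inv, hfv] at h
        have hinv : ((g : G)⁻¹ * g') * y * ((g : G)⁻¹ * g')⁻¹ = y⁻¹ := by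
          calc ((g : G)⁻¹ * g') * y * ((g : G)⁻¹ * g')⁻¹ = (g : G)⁻¹ * ((g' : G) * y * (g' : G)⁻¹) * g := by group
            _ = (g : G)⁻¹ * ((g : G) * y * (g : G)⁻¹)⁻¹ * g := by rw [h]
            _ = y⁻¹ := by group
        have hc := Subgroup.mem_centralizer_singleton_iff.1 (hNH (hNy _ (Or.inr hinv)))
        rw [hc, mul_assoc, mul_inv_cancel, mul_one] at hinv
        have h2 : y ^ 2 = 1 := by rw [pow_two]; exact mul_eq_one_iff_eq_inv.2 hinv
        have := orderOf_dvd_of_pow_eq_one h2
        rw [hy] at this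
        norm_num at this
  have hOcard : O.ncard = Nat.card (↥M ⧸ St.subgroupOf M) := by
    rw [← Nat.card_coe_set_eq]; exact Nat.card_range_of_injective hf
  haveI : Fintype ↥(T : Subgroup G) := Fintype.ofFinite _
  have hIc : (Inv.inv '' O).ncard = O.ncard := Set.ncard_image_of_injective _ inv_injective
  have hdisj : Disjoint O (Inv.inv '' O) := Set.disjoint_left.2 fun t ht ⟨s, hs, he⟩ =>
    hOd s hs (he ▸ ht)
  have hsub : O ∪ Inv.inv '' O ⊆ ({1} : Set ↥(T : Subgroup G))ᶜ := by
    rintro t (ht | ⟨s, hs, rfl⟩) h1 <;> rw [Set.mem_singleton_iff] at h1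
    · exact hO1 (h1 ▸ ht)
    · exact hO1 ((inv_eq_one.1 h1) ▸ hs)
  have h8 : (({1} : Set ↥(T : Subgroup G))ᶜ).ncard = 8 := by
    rw [Set.ncard_compl, Set.ncard_singleton, hTc]
    norm_num
  have hle : 2 * O.ncard ≤ 8 := by
    have := Set.ncard_le_ncard hsub
    rw [Set.ncard_union_eq hdisj, hIc, h8] at this
    omega
  have hk4 : Nat.card (↥M ⧸ St.subgroupOf M) = 4 := by
    rw [hMk] at hMmul
    simp only [List.mem_cons, List.not_mem_nil, or_false] at hn3
    rcases hn3 with h | h | h | h | h <;> rw [h] at hMmul <;> try omega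
    · -- a normalizer centralizing the Sylow subgroup
      exfalso
      refine not_normalizer_le_centralizer hG (hn ▸ by norm_num) T ?_
      have hTeq : (T : Subgroup G) = M := Subgroup.eq_of_le_of_card_ge hTM (by rw [hTc, hMk]; omega)
      intro g hg
      rw [← hMdef, ← hTeq] at hg
      rw [Subgroup.mem_centralizer_iff]
      exact fun t ht => hTab t ht g hg
  have hall : O ∪ Inv.inv '' O = ({1} : Set ↥(T : Subgroup G))ᶜ := Set.eq_of_subset_of_ncard_le hsub (by
    rw [Set.ncard_union_eq hdisj, hIc, h8, hOcard, hk4])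
  -- an involution of `M`
  obtain ⟨w', hw'⟩ := exists_prime_orderOf_dvd_card' 2 (G := ↥M) (by rw [hMk, hk4]; norm_num)
  set w : G := (w' : G) with hwdef
  have hw : orderOf w = 2 := by rw [hwdef, Subgroup.orderOf_coe, hw']
  have hww : w * w = 1 := by rw [← pow_two, ← hw]; exact pow_orderOf_eq_one w
  have hwi : w⁻¹ = w := inv_eq_of_mul_eq_one_right hww
  obtain ⟨z, hz, hz1, hzw⟩ : ∃ z ∈ (T : Subgroup G), z ≠ 1 ∧ (w * z * w⁻¹ = z ∨ w * z * w⁻¹ = z⁻¹) := by
    have hwy : w * y * w⁻¹ ∈ (T : Subgroup G) := (Subgroup.mem_normalizer_iff.1 w'.2 y).1 hyT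
    have hy1 : y ≠ 1 := fun h => by rw [h, orderOf_one] at hy; omega
    by_cases hinv : w * y * w⁻¹ = y⁻¹
    · exact ⟨y, hyT, hy1, Or.inr hinv⟩
    · refine ⟨y * (w * y * w⁻¹), mul_mem hyT hwy, fun h => hinv (eq_inv_of_mul_eq_one_right h), Or.inl ?_⟩
      have e : w * (y * (w * y * w⁻¹)) * w⁻¹ = (w * y * w⁻¹) * ((w * w) * y * (w * w)⁻¹) := by group
      rw [e, hww, one_mul, inv_one, mul_one]
      exact hTab _ hwy _ hyT
  have hzO : (⟨z, hz⟩ : ↥(T : Subgroup G)) ∈ O ∪ Inv.inv '' O := by
    rw [hall, Set.mem_compl_iff, Set.mem_singleton_iff]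
    exact fun h => hz1 (congrArg Subtype.val h)
  obtain ⟨g, hg⟩ : ∃ g : G, z = g * y * g⁻¹ ∨ z = (g * y * g⁻¹)⁻¹ := by
    rcases hzO with ⟨q, hq⟩ | ⟨_, ⟨q, rfl⟩, hq⟩ <;> induction q using Quotient.inductionOn with
    | _ g => exact ⟨(g : G), by first
        | exact Or.inl ((congrArg Subtype.val hq).symm)
        | exact Or.inr ((congrArg Subtype.val hq).symm)⟩
  -- then an involution normalizes `<y>`
  set v := g⁻¹ * w * g with hv
  have hcalc : v * y * v⁻¹ = g⁻¹ * (w * (g * y * g⁻¹) * w⁻¹) * g := by rw [hv]; group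
  have hzw' : w * (g * y * g⁻¹) * w⁻¹ = g * y * g⁻¹ ∨ w * (g * y * g⁻¹) * w⁻¹ = (g * y * g⁻¹)⁻¹ := by
    rcases hg with hg | hg
    · rwa [hg] at hzw
    · rw [hg] at hzw
      rcases hzw with h | h
      · left
        rw [show w * (g * y * g⁻¹)⁻¹ * w⁻¹ = (w * (g * y * g⁻¹) * w⁻¹)⁻¹ by group] at h
        exact inv_injective h
      · right
        rw [show w * (g * y * g⁻¹)⁻¹ * w⁻¹ = (w * (g * y * g⁻¹) * w⁻¹)⁻¹ by group] at h
        exact inv_injective h
  have hvN : v ∈ N := hNy v (by
    rcases hzw' with h | h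
    · left; rw [hcalc, h]; group
    · right; rw [hcalc, h]; group)
  refine hodd v hvN ?_
  rw [show v = MulAut.conj g⁻¹ w by simp [hv], MulEquiv.orderOf_eq, hw]

/-- No finite simple group has order 4032 = 2^6 * 3^2 * 7. -/
theorem result {G : Type*} [Group G] [Finite G] [IsSimpleGroup G] : Nat.card G ≠ 4032 := by
  intro hn
  haveI : Fact (Nat.Prime 7) := ⟨by norm_num⟩
  have hG : ¬ IsMulCommutative G := not_comm_of_not_prime (hn ▸ by norm_num)
  obtain ⟨P⟩ : Nonempty (Sylow 7 G) := inferInstance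
  have hP : Nat.card ↥(P : Subgroup G) = 7 := by
    rw [SimpleOrder.sylow_card_of_eq (k := 1) (m := 576) hn (by norm_num) P, pow_one]
  have hmem : Nat.card (Sylow 7 G) ∈ cand 4032 7 576 := by
    have := mem_cand hG (show 0 < 1 by norm_num) (p := 7) (v := 1) (m := 576) hn (by norm_num)
    rwa [hn] at this
  rw [cand_seven] at hmem
  obtain ⟨e, he, hC, hN⟩ := exists_eList hG P hP
  rw [hn] at he hC hN
  simp only [List.mem_cons, List.not_mem_nil, or_false] at hmem
  rcases hmem with h | h | h | h <;> rw [h] at he hC hN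
  · have h8 := iOK_index hG [7] _ (normalizer_ne_top hG (hn ▸ by norm_num) P)
    rw [hn, show (Subgroup.normalizer ((P : Subgroup G) : Set G)).index = 8 from P.card_eq_index_normalizer.symm.trans h] at h8
    exact absurd h8 (by decide +kernel)
  · refine OrderExclusion71.false_of_two hG P hP 4 112 (by norm_num) hN.symm (by norm_num) (by norm_num)
      (hn ▸ by norm_num) (by decide) ?_
    rw [hn]
    intro r hr h1 h2 h3 i hi hdvd hfac
    exact kill36 r hr h1 h2 h3 i hi hdvd (facMod_eq_zero hfac)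
  · rw [show eList 4032 7 64 = [3] by decide +kernel, List.mem_singleton] at he
    subst he
    exact false_of_64 hn hG P hP h hC.symm hN.symm
  · rw [show eList 4032 7 288 = [2] by decide +kernel, List.mem_singleton] at he
    subst he
    exact DihedralStar68.false_of_dihedral hG (by norm_num) P hP hN.symm hC.symm 24 (by rw [hn]; norm_num)

end Cfsg.Agent.S0976
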