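import Cfsg.Statements.S0978
import Cfsg.Agent.Lib.OrderExclusion71
import Cfsg.Agent.Lib.RationalStar81
import Cfsg.Agent.Lib.SylowCentBound81
import Cfsg.Agent.Lib.SimpleCentralizerKill
import Cfsg.Agent.S0143

set_option autoImplicit false
open Cfsg

namespace Cfsg.Agent.S0978

open Cfsg.Agent.SimpleOrder Cfsg.Agent.SimpleOrderCheck

theorem cand_seven : cand 5040 7 720 = [8, 15, 36, 120] := by decide +kernel

theorem e8 : ∀ e ∈ eList 5040 7 8, 7 ^ 1 * Nat.factorial 1 % (5040 / 8 / e) ≠ 0 := by decide +kernel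

theorem e15 : ∀ e ∈ eList 5040 7 15, 7 ^ 2 * Nat.factorial 2 % (5040 / 15 / e) ≠ 0 := by
  decide +kernel

theorem e36 : eList 5040 7 36 = [2] := by decide +kernel

theorem e120 : ∀ e ∈ eList 5040 7 120, e = 2 ∨ e = 3 ∨ e = 6 := by decide +kernel

theorem kill_three : ∀ a ∈ (42 : ℕ).divisors, ∀ r ∈ List.range 121, r % 7 = 1 → 21 ∣ a → 63 ∣ a * r →
    a * r ∣ 5040 → 5040 / (a * r) ∈ ([1, 2, 4, 8, 16] : List ℕ) := by decide +kernel

theorem kill_two : ∀ a ∈ (140 : ℕ).divisors, ∀ r ∈ List.range 37, r % 7 = 1 → 28 ∣ a →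
    8 ∣ a * r → a * r ∣ 5040 → facMod (2 * 5040) (5040 / (a * r)) ≠ 0 := by decide +kernel

theorem kill_graph : ∀ r ∈ List.range 121, r % 7 = 1 → 8 ∣ 42 * r → 42 * r ∣ 5040 →
    5040 / (42 * r) = 15 ∨ facMod (2 * 5040) (5040 / (42 * r)) ≠ 0 := by decide +kernel

set_option maxHeartbeats 1000000 in
theorem kill_star : ∀ c ∈ (List.range 721).filter
    (fun c => decide (720 % c = 0) && decide (c % 8 = 0)),
    RationalStar81.kill 5040 7 c = true := by decide +kernel

variable {G : Type*} [Group G] [Finite G] [IsSimpleGroup G]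

/-- The order of a proper subgroup containing the Sylow `7`-subgroup `P`, through `N(P)`. -/
theorem card_overgroup [Fact (Nat.Prime 7)] (hn : Nat.card G = 5040) (P : Sylow 7 G) {d m : ℕ}
    (hd : Nat.card (Sylow 7 G) = d)
    (hN : Nat.card ↥(Subgroup.normalizer ((P : Subgroup G) : Set G)) = m) (H : Subgroup G)
    (hPH : (P : Subgroup G) ≤ H) :
    ∃ a r : ℕ, a = Nat.card ↥(Subgroup.normalizer ((P : Subgroup G) : Set G) ⊓ H : Subgroup G) ∧
      a ∣ m ∧ r < d + 1 ∧ r % 7 = 1 ∧ a * r = Nat.card ↥H ∧ a * r ∣ 5040 ∧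
      H.index = 5040 / (a * r) := by
  set N := Subgroup.normalizer ((P : Subgroup G) : Set G) with hNdef
  have hmul : Nat.card ↥(N ⊓ H : Subgroup G) * N.relIndex H = Nat.card ↥H := by
    rw [← (N.subgroupOf H).card_mul_index, ← Subgroup.inf_subgroupOf_right N H,
      Nat.card_congr (Subgroup.subgroupOfEquivOfLe (inf_le_right : N ⊓ H ≤ H)).toEquiv]
    rw [Subgroup.relIndex, Subgroup.inf_subgroupOf_right]
  refine ⟨_, N.relIndex H, rfl, hN ▸ Subgroup.card_dvd_of_le inf_le_left, ?_,
    OrderExclusion71.relIndex_normalizer_modEq P hPH, hmul, ?_, ?_⟩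
  · rw [Nat.lt_succ_iff, ← hd, P.card_eq_index_normalizer]
    have h := Subgroup.relIndex_le_of_le_right (H := N) (le_top : H ≤ ⊤)
      (by rw [Subgroup.relIndex_top_right]; exact Subgroup.index_ne_zero_of_finite)
    rwa [Subgroup.relIndex_top_right] at h
  · rw [hmul, ← hn]; exact Subgroup.card_subgroup_dvd_card H
  · rw [hmul, ← hn, ← H.card_mul_index, Nat.mul_div_cancel_left _ Nat.card_pos]

theorem centralizer_ne_top (hG : ¬ IsMulCommutative G) {y : G} (hy : y ≠ 1) :
    Subgroup.centralizer ({y} : Set G) ≠ ⊤ := by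
  intro h
  have hm : y ∈ Subgroup.center G := Subgroup.mem_center_iff.2 fun g =>
    Subgroup.mem_centralizer_singleton_iff.1 (h ▸ Subgroup.mem_top g)
  rcases eq_bot_or_top (inferInstance : (Subgroup.center G).Normal) with hz | hz
  · rw [hz, Subgroup.mem_bot] at hm; exact hy hm
  · exact hG ⟨⟨fun a b => (Subgroup.mem_center_iff.1 (hz ▸ Subgroup.mem_top b) a)⟩⟩

omit [Finite G] [IsSimpleGroup G] in
theorem le_centralizer_singleton {P : Subgroup G} {t : G}
    (ht : t ∈ Subgroup.centralizer (P : Set G)) : P ≤ Subgroup.centralizer ({t} : Set G) :=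
  fun q hq => Subgroup.mem_centralizer_singleton_iff.2 (Subgroup.mem_centralizer_iff.1 ht q hq)

/-- No element of order three centralizes a Sylow `7`-subgroup with normalizer of order `42`. -/
theorem false_of_three (hn : Nat.card G = 5040) [Fact (Nat.Prime 7)] (P : Sylow 7 G)
    (hP : Nat.card ↥(P : Subgroup G) = 7) (hd : Nat.card (Sylow 7 G) = 120)
    (hN : Nat.card ↥(Subgroup.normalizer ((P : Subgroup G) : Set G)) = 42)
    (h3 : 3 ∣ Nat.card ↥(Subgroup.centralizer ((P : Subgroup G) : Set G))) : False := by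
  haveI : Fact (Nat.Prime 3) := ⟨by norm_num⟩
  obtain ⟨y', hy'⟩ := exists_prime_orderOf_dvd_card' 3
    (G := ↥(Subgroup.centralizer ((P : Subgroup G) : Set G))) h3
  set y : G := (y' : G) with hydef
  have hy : orderOf y = 3 := by rw [hydef, Subgroup.orderOf_coe, hy']
  have hPH := le_centralizer_singleton y'.2
  obtain ⟨T, hT⟩ := (IsPGroup.of_card (p := 3) (n := 1) (G := ↥(Subgroup.zpowers y))
    (by rw [Nat.card_zpowers, hy, pow_one])).exists_le_sylow
  have hTc : Nat.card ↥(T : Subgroup G) = 3 ^ 2 :=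
    SimpleOrder.sylow_card_of_eq (k := 2) (m := 560) hn (by norm_num) T
  have hTH : (T : Subgroup G) ≤ Subgroup.centralizer ({y} : Set G) := fun t ht => by
    rw [Subgroup.mem_centralizer_singleton_iff]
    exact congrArg Subtype.val
      (IsPGroup.commutative_of_card_eq_prime_sq hTc ⟨t, ht⟩ ⟨y, hT (Subgroup.mem_zpowers y)⟩)
  obtain ⟨a, r, ha', ha, hr, hr7, har, hdiv, hidx⟩ := card_overgroup hn P hd hN _ hPH
  have h21 : 21 ∣ a := by
    rw [ha']
    refine (show Nat.Coprime 3 7 by norm_num).mul_dvd_of_dvd_of_dvd ?_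
      ((dvd_of_eq hP.symm).trans (Subgroup.card_dvd_of_le (le_inf Subgroup.le_normalizer hPH)))
    rw [← hy]
    exact Subgroup.orderOf_dvd_natCard _
      ⟨Subgroup.centralizer_le_normalizer _ y'.2, Subgroup.mem_centralizer_singleton_iff.2 rfl⟩
  have h63 : 63 ∣ a * r := by
    rw [har]
    exact (show Nat.Coprime 9 7 by norm_num).mul_dvd_of_dvd_of_dvd
      ((dvd_of_eq (by rw [hTc]; norm_num)).trans (Subgroup.card_dvd_of_le hTH))
      ((dvd_of_eq hP.symm).trans (Subgroup.card_dvd_of_le hPH))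
  have hmem := kill_three a (Nat.mem_divisors.2 ⟨ha, by norm_num⟩) r (List.mem_range.2 hr) hr7 h21 h63 hdiv
  rw [← hidx] at hmem
  simp only [List.mem_cons, List.not_mem_nil, or_false] at hmem
  have hy1 : y ≠ 1 := fun h => by rw [h, orderOf_one] at hy; omega
  obtain ⟨k, hk⟩ : ∃ k, (Subgroup.centralizer ({y} : Set G)).index = 2 ^ k := by
    rcases hmem with h | h | h | h | h
    exacts [⟨0, h⟩, ⟨1, h⟩, ⟨2, h⟩, ⟨3, h⟩, ⟨4, h⟩]
  have := S0143.result 2 k Nat.prime_two y hy1 hk
  rw [hn] at this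
  exact absurd this (by norm_num)

/-- The case of `36` Sylow `7`-subgroups. -/
theorem false_of_36 (hn : Nat.card G = 5040) (hG : ¬ IsMulCommutative G) [Fact (Nat.Prime 7)]
    (P : Sylow 7 G) (hP : Nat.card ↥(P : Subgroup G) = 7) (hd : Nat.card (Sylow 7 G) = 36)
    (hN : Nat.card ↥(Subgroup.normalizer ((P : Subgroup G) : Set G)) = 140)
    (hC : Nat.card ↥(Subgroup.centralizer ((P : Subgroup G) : Set G)) = 70) : False := by
  haveI : Fact (Nat.Prime 2) := ⟨Nat.prime_two⟩
  set N := Subgroup.normalizer ((P : Subgroup G) : Set G) with hNdef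
  obtain ⟨⟨t, htC⟩, ht⟩ := exists_prime_orderOf_dvd_card' 2
    (G := ↥(Subgroup.centralizer ((P : Subgroup G) : Set G))) (hC ▸ by norm_num)
  rw [Subgroup.orderOf_mk] at ht
  set H := Subgroup.centralizer ({t} : Set G) with hHdef
  have hPH := le_centralizer_singleton htC
  obtain ⟨a, r, ha', ha, hr, hr7, har, hdiv, hidx⟩ := card_overgroup hn P hd hN H hPH
  have htN : t ∈ N := Subgroup.centralizer_le_normalizer _ htC
  obtain ⟨S, hS⟩ := (IsPGroup.of_card (p := 2) (n := 1)
    (G := ↥(Subgroup.zpowers (⟨t, htN⟩ : ↥N)))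
    (by rw [Nat.card_zpowers, Subgroup.orderOf_mk, ht, pow_one])).exists_le_sylow
  have hSc : Nat.card ↥(S : Subgroup ↥N) = 2 ^ 2 :=
    SimpleOrder.sylow_card_of_eq (G := ↥N) (k := 2) (m := 35) hN (by norm_num) S
  have h28 : 28 ∣ a := by
    rw [ha']
    refine (show Nat.Coprime 4 7 by norm_num).mul_dvd_of_dvd_of_dvd ?_
      ((dvd_of_eq hP.symm).trans (Subgroup.card_dvd_of_le (le_inf Subgroup.le_normalizer hPH)))
    refine (dvd_of_eq (?_ : 4 = Nat.card ↥((S : Subgroup ↥N).map N.subtype))).trans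
      (Subgroup.card_dvd_of_le (le_inf (Subgroup.map_subtype_le _) ?_))
    · rw [Subgroup.card_map_of_injective N.subtype_injective, hSc]; norm_num
    · rintro _ ⟨s, hs, rfl⟩
      rw [hHdef, Subgroup.mem_centralizer_singleton_iff]
      exact congrArg Subtype.val (congrArg Subtype.val
        (IsPGroup.commutative_of_card_eq_prime_sq hSc ⟨s, hs⟩
          ⟨⟨t, htN⟩, hS (Subgroup.mem_zpowers _)⟩))
  have h8 : 8 ∣ a * r := har ▸
    SimpleCentralizerKill.eight_dvd_card_centralizer hG (by rw [hn]; norm_num) ht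
  have hmem := kill_two a (Nat.mem_divisors.2 ⟨ha, by norm_num⟩) r (List.mem_range.2 hr) hr7 h28 h8 hdiv
  rw [← hidx] at hmem
  refine hmem (facMod_eq_zero (hn ▸ two_mul_card_dvd_factorial_index hG H
    (centralizer_ne_top hG fun h => ?_)))
  rw [h, orderOf_one] at ht
  omega

/-- The case of `|C(P)| = 14`. -/
theorem false_of_14 (hn : Nat.card G = 5040) (hG : ¬ IsMulCommutative G) [Fact (Nat.Prime 7)]
    (P : Sylow 7 G) (hP : Nat.card ↥(P : Subgroup G) = 7) (hd : Nat.card (Sylow 7 G) = 120)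
    (hN : Nat.card ↥(Subgroup.normalizer ((P : Subgroup G) : Set G)) = 42)
    (hC : Nat.card ↥(Subgroup.centralizer ((P : Subgroup G) : Set G)) = 2 * 7) : False := by
  haveI : Fact (Nat.Prime 2) := ⟨Nat.prime_two⟩
  set C := Subgroup.centralizer ((P : Subgroup G) : Set G) with hCdef
  set N := Subgroup.normalizer ((P : Subgroup G) : Set G) with hNdef
  obtain ⟨⟨t, htC⟩, ht⟩ := exists_prime_orderOf_dvd_card' 2 (G := ↥C) (hC ▸ by norm_num)
  rw [Subgroup.orderOf_mk] at ht
  set H := Subgroup.centralizer ({t} : Set G) with hHdef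
  have hPH := le_centralizer_singleton htC
  obtain ⟨a, r, ha', -, hr, hr7, har, hdiv, hidx⟩ := card_overgroup hn P hd hN H hPH
  have hNH := SimpleCentralizerKill.normalizer_le_centralizer_of_two P (by norm_num) hP hC ht htC
  obtain rfl : a = 42 := by rw [ha', inf_eq_left.2 hNH, hN]
  have h8 : 8 ∣ 42 * r := har ▸
    SimpleCentralizerKill.eight_dvd_card_centralizer hG (by rw [hn]; norm_num) ht
  have ht1 : t ≠ 1 := fun h => by rw [h, orderOf_one] at ht; omega
  rcases kill_graph r (List.mem_range.2 hr) hr7 h8 hdiv with h15 | hne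
  · rw [← hidx] at h15
    obtain ⟨x, hxP, hx⟩ : ∃ x ∈ (P : Subgroup G), orderOf x = 7 := by
      obtain ⟨g, hg⟩ := exists_prime_orderOf_dvd_card' 7 (G := ↥(P : Subgroup G))
        (dvd_of_eq hP.symm)
      exact ⟨g, g.2, by rw [Subgroup.orderOf_coe, hg]⟩
    have hzP : Subgroup.zpowers x = (P : Subgroup G) :=
      Subgroup.eq_of_le_of_card_ge (Subgroup.zpowers_le.2 hxP) (by rw [hP, Nat.card_zpowers, hx])
    have hcls : Nat.card {s : G // IsConj t s} = 2 * 7 + 1 := by
      have h1 := CharBasicOrth.card_conj_mul_card_centralizer t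
      rw [← H.index_mul_card, h15] at h1
      exact Nat.eq_of_mul_eq_mul_right Nat.card_pos h1
    refine SylowCentBound81.false_of_small_class hG (q := 7) (by norm_num) ht hx
      (Subgroup.mem_centralizer_iff.1 htC x hxP).symm hcls fun s hs hsx => ?_
    -- `C` has only one involution
    have hsC : s ∈ C := by
      rw [hCdef, ← hzP, Subgroup.zpowers_eq_closure, Subgroup.centralizer_closure,
        Subgroup.mem_centralizer_singleton_iff]
      exact hsx
    have hso : orderOf s = 2 := by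
      obtain ⟨g, rfl⟩ := isConj_iff.1 hs
      rw [← MulAut.conj_apply, MulEquiv.orderOf_eq, ht]
    have hPC : (P : Subgroup G) ≤ C := by
      rw [hCdef, ← hzP, Subgroup.zpowers_eq_closure, Subgroup.centralizer_closure]
      rw [← Subgroup.zpowers_eq_closure, Subgroup.zpowers_le]
      exact Subgroup.mem_centralizer_singleton_iff.2 rfl
    have hidx2 : ((P : Subgroup G).subgroupOf C).index = 2 := by
      have h := ((P : Subgroup G).subgroupOf C).card_mul_index
      rw [Nat.card_congr (Subgroup.subgroupOfEquivOfLe hPC).toEquiv, hP, hC] at h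
      omega
    have hnP : ∀ b : G, orderOf b = 2 → b ∉ (P : Subgroup G) := fun b hb hm => by
      have := Subgroup.orderOf_dvd_natCard _ hm
      rw [hb, hP] at this
      norm_num at this
    have hm : t * s ∈ (P : Subgroup G) := (Subgroup.mul_mem_iff_of_index_two hidx2
      (a := ⟨t, htC⟩) (b := ⟨s, hsC⟩)).2 (iff_of_false (hnP t ht) (hnP s hso))
    have hts : t * s = s * t := by
      have h1 := Subgroup.mem_centralizer_iff.1 htC _ hm
      have htt : t * t = 1 := by rw [← sq, ← ht]; exact pow_orderOf_eq_one t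
      calc t * s = (t * s * t) * t := by rw [mul_assoc (t * s), htt, mul_one]
        _ = (t * (t * s)) * t := by rw [h1]
        _ = s * t := by rw [← mul_assoc t t s, htt, one_mul]
    have h2 : orderOf (t * s) ∣ 2 := orderOf_dvd_of_pow_eq_one (by
      rw [(show Commute t s from hts).mul_pow]
      nth_rewrite 1 [← ht]
      rw [pow_orderOf_eq_one, one_mul, ← hso, pow_orderOf_eq_one])
    have h7 : orderOf (t * s) ∣ 7 := hP ▸ Subgroup.orderOf_dvd_natCard _ hm
    have h1 := orderOf_eq_one_iff.1 (Nat.eq_one_of_dvd_coprimes (by norm_num) h2 h7)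
    rw [mul_eq_one_iff_inv_eq] at h1
    rw [← h1, inv_eq_iff_mul_eq_one, ← sq, ← ht, pow_orderOf_eq_one]
  · rw [← hidx] at hne
    exact hne (facMod_eq_zero (hn ▸ two_mul_card_dvd_factorial_index hG H (centralizer_ne_top hG ht1)))

/-- No finite simple group has order 5040 = 2^4 * 3^2 * 5 * 7. -/
theorem result {G : Type*} [Group G] [Finite G] [IsSimpleGroup G] : Nat.card G ≠ 5040 := by
  intro hn
  haveI : Fact (Nat.Prime 7) := ⟨by norm_num⟩
  have hG : ¬ IsMulCommutative G := not_comm_of_not_prime (hn ▸ by norm_num)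
  obtain ⟨P⟩ : Nonempty (Sylow 7 G) := inferInstance
  have hP : Nat.card ↥(P : Subgroup G) = 7 := by
    rw [SimpleOrder.sylow_card_of_eq (k := 1) (m := 720) hn (by norm_num) P, pow_one]
  have hmem : Nat.card (Sylow 7 G) ∈ cand 5040 7 720 := by
    have := mem_cand hG (show 0 < 1 by norm_num) (p := 7) (v := 1) (m := 720) hn (by norm_num)
    rwa [hn] at this
  rw [cand_seven] at hmem
  obtain ⟨e, he, hC, hN⟩ := exists_eList hG P hP
  rw [hn] at he hC hN
  simp only [List.mem_cons, List.not_mem_nil, or_false] at hmem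
  rcases hmem with h | h | h | h <;> rw [h] at he hC hN
  · exact e8 e he (Nat.mod_eq_zero_of_dvd (hC ▸ SylowCentBound81.card_centralizer_dvd hG P hP 1 h))
  · exact e15 e he (Nat.mod_eq_zero_of_dvd (hC ▸ SylowCentBound81.card_centralizer_dvd hG P hP 2 h))
  · rw [e36, List.mem_singleton] at he
    subst he
    exact false_of_36 hn hG P hP h hN.symm hC.symm
  · rcases e120 e he with rfl | rfl | rfl
    · exact false_of_three hn P hP h hN.symm (hC ▸ by norm_num)
    · exact false_of_14 hn hG P hP h hN.symm hC.symm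
    · refine RationalStar81.false_of_rational hG (by norm_num) P hP hN.symm hC.symm
        (hn ▸ by norm_num) fun c hc h8 => ?_
      rw [hn] at hc ⊢
      have hc' : c ∣ 720 := hc
      refine kill_star c (List.mem_filter.2 ⟨List.mem_range.2
        (Nat.lt_succ_of_le (Nat.le_of_dvd (by norm_num) hc')), ?_⟩)
      simp [Nat.mod_eq_zero_of_dvd hc', Nat.mod_eq_zero_of_dvd h8]

end Cfsg.Agent.S0978
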