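import Cfsg.Statements.S0980
import Cfsg.Agent.Lib.OrderExclusion71
import Cfsg.Agent.Lib.DihedralBound81
import Cfsg.Agent.S0143

set_option autoImplicit false
open Cfsg

namespace Cfsg.Agent.S0980

open Cfsg.Agent.SimpleOrder Cfsg.Agent.SimpleOrderCheck

theorem cand_five : cand 5760 5 1152 = [16, 36, 96, 576] := by decide +kernel

theorem e16 : ∀ e ∈ eList 5760 5 16, 5760 / 16 / e % 3 = 0 := by decide +kernel

theorem e96 : ∀ e ∈ eList 5760 5 96, 5760 / 96 / e % 3 = 0 := by decide +kernel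

theorem e576 : eList 5760 5 576 = [2] := by decide +kernel

theorem kill36 : ∀ r ∈ (5760 / 5).divisors, r % 5 = 1 → 1 < r → r < 5760 / 160 →
    ∀ i ∈ (5760 / (2 ^ 5 * 5)).divisors, i * r * (2 ^ 5 * 5) ∣ 5760 →
      facMod (2 * 5760) i ≠ 0 := by decide +kernel

variable {G : Type*} [Group G] [Finite G] [IsSimpleGroup G]

omit [IsSimpleGroup G] in
/-- An involution whose centralizer contains a given Sylow `2`-subgroup. -/
theorem exists_central_involution [Fact (Nat.Prime 2)] (S : Sylow 2 G) {k : ℕ}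
    (hS : Nat.card ↥(S : Subgroup G) = 2 ^ k) (hk : 0 < k) :
    ∃ w : G, orderOf w = 2 ∧ 2 ^ k ∣ Nat.card ↥(Subgroup.centralizer ({w} : Set G)) := by
  have hnt : Nontrivial ↥(S : Subgroup G) := by
    rw [← Finite.one_lt_card_iff_nontrivial, hS]
    exact Nat.one_lt_pow hk.ne' one_lt_two
  have := S.2.center_nontrivial
  obtain ⟨z, hz⟩ := exists_prime_orderOf_dvd_card' 2 (G := ↥(Subgroup.center ↥(S : Subgroup G))) (by
    obtain ⟨j, hj⟩ := (S.2.to_subgroup (Subgroup.center ↥(S : Subgroup G))).exists_card_eq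
    rcases Nat.eq_zero_or_pos j with rfl | hj0
    · exact absurd hj (by rw [pow_zero]; exact Finite.one_lt_card.ne')
    · rw [hj]; exact dvd_pow_self 2 hj0.ne')
  refine ⟨((z : ↥(S : Subgroup G)) : G), by rw [Subgroup.orderOf_coe, Subgroup.orderOf_coe, hz], ?_⟩
  rw [← hS]
  refine Subgroup.card_dvd_of_le fun s hs => ?_
  rw [Subgroup.mem_centralizer_singleton_iff]
  exact congrArg Subtype.val (Subgroup.mem_center_iff.1 z.2 ⟨s, hs⟩)

/-- An element of order three centralizing a Sylow `5`-subgroup has a class of `2`-power size. -/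
theorem false_of_three (hn : Nat.card G = 5760) [Fact (Nat.Prime 5)] (P : Sylow 5 G)
    (hP : Nat.card ↥(P : Subgroup G) = 5)
    (h3 : 3 ∣ Nat.card ↥(Subgroup.centralizer ((P : Subgroup G) : Set G))) : False := by
  haveI : Fact (Nat.Prime 3) := ⟨by norm_num⟩
  obtain ⟨y', hy'⟩ := exists_prime_orderOf_dvd_card' 3
    (G := ↥(Subgroup.centralizer ((P : Subgroup G) : Set G))) h3
  set y : G := (y' : G) with hydef
  have hy : orderOf y = 3 := by rw [hydef, Subgroup.orderOf_coe, hy']
  set H := Subgroup.centralizer ({y} : Set G) with hH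
  have hPH : (P : Subgroup G) ≤ H := fun q hq => by
    rw [hH, Subgroup.mem_centralizer_singleton_iff]
    exact Subgroup.mem_centralizer_iff.1 y'.2 q hq
  obtain ⟨T, hT⟩ := (IsPGroup.of_card (p := 3) (n := 1) (G := ↥(Subgroup.zpowers y))
    (by rw [Nat.card_zpowers, hy, pow_one])).exists_le_sylow
  have hTc : Nat.card ↥(T : Subgroup G) = 3 ^ 2 :=
    SimpleOrder.sylow_card_of_eq (k := 2) (m := 640) hn (by norm_num) T
  have hTH : (T : Subgroup G) ≤ H := fun t ht => by
    rw [hH, Subgroup.mem_centralizer_singleton_iff]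
    exact congrArg Subtype.val
      (IsPGroup.commutative_of_card_eq_prime_sq hTc ⟨t, ht⟩ ⟨y, hT (Subgroup.mem_zpowers y)⟩)
  have h45 : 45 ∣ Nat.card ↥H :=
    (show Nat.Coprime 9 5 by norm_num).mul_dvd_of_dvd_of_dvd
      ((dvd_of_eq (by rw [hTc]; norm_num)).trans (Subgroup.card_dvd_of_le hTH))
      ((dvd_of_eq hP.symm).trans (Subgroup.card_dvd_of_le hPH))
  obtain ⟨c, hc⟩ := h45
  have hm := H.card_mul_index
  rw [hn, hc] at hm
  have hd : H.index ∣ 2 ^ 7 := ⟨c, by rw [mul_assoc] at hm; linarith [hm]⟩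
  obtain ⟨k, -, hk⟩ := (Nat.dvd_prime_pow Nat.prime_two).1 hd
  have hy1 : y ≠ 1 := fun h => by rw [h, orderOf_one] at hy; omega
  have := S0143.result 2 k Nat.prime_two y hy1 hk
  rw [hn] at this
  exact absurd this (by norm_num)

/-- No finite simple group has order 5760 = 2^7 * 3^2 * 5. -/
theorem result {G : Type*} [Group G] [Finite G] [IsSimpleGroup G] : Nat.card G ≠ 5760 := by
  intro hn
  haveI : Fact (Nat.Prime 5) := ⟨by norm_num⟩
  have hG : ¬ IsMulCommutative G := not_comm_of_not_prime (hn ▸ by norm_num)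
  obtain ⟨P⟩ : Nonempty (Sylow 5 G) := inferInstance
  have hP : Nat.card ↥(P : Subgroup G) = 5 := by
    rw [SimpleOrder.sylow_card_of_eq (k := 1) (m := 1152) hn (by norm_num) P, pow_one]
  have hmem : Nat.card (Sylow 5 G) ∈ cand 5760 5 1152 := by
    have := mem_cand hG (show 0 < 1 by norm_num) (p := 5) (v := 1) (m := 1152) hn (by norm_num)
    rwa [hn] at this
  rw [cand_five] at hmem
  obtain ⟨e, he, hC, hN⟩ := exists_eList hG P hP
  rw [hn] at he hC hN
  simp only [List.mem_cons, List.not_mem_nil, or_false] at hmem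
  rcases hmem with h | h | h | h <;> rw [h] at he hC hN
  · exact false_of_three hn P hP (hC ▸ Nat.dvd_of_mod_eq_zero (e16 e he))
  · refine OrderExclusion71.false_of_two hG P hP 5 160 (by norm_num) hN.symm (by norm_num)
      (by norm_num) (hn ▸ by norm_num) (by decide) ?_
    rw [hn]
    intro r hr h1 h2 h3 i hi hdvd hfac
    exact kill36 r hr h1 h2 h3 i hi hdvd (facMod_eq_zero hfac)
  · exact false_of_three hn P hP (hC ▸ Nat.dvd_of_mod_eq_zero (e96 e he))
  · rw [e576, List.mem_singleton] at he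
    subst he
    haveI : Fact (Nat.Prime 2) := ⟨Nat.prime_two⟩
    obtain ⟨S⟩ : Nonempty (Sylow 2 G) := inferInstance
    have hS : Nat.card ↥(S : Subgroup G) = 2 ^ 7 :=
      SimpleOrder.sylow_card_of_eq (k := 7) (m := 45) hn (by norm_num) S
    obtain ⟨w, hw, hw128⟩ := exists_central_involution S hS (by norm_num)
    refine DihedralBound81.false_of_dihedral_bound hG (by norm_num) P hP hN.symm hC.symm hw ?_
    have h2 := Nat.pow_le_pow_left (Nat.le_of_dvd Nat.card_pos hw128) 2
    rw [hn]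
    omega

end Cfsg.Agent.S0980
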