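import Cfsg.Statements.S0983
import Mathlib
import Cfsg.Agent.Lib.SimpleRangeTable30N0
import Cfsg.Agent.Lib.SimpleRangeTable30N1
import Cfsg.Agent.Lib.SimpleRangeTable30N2
import Cfsg.Agent.Lib.SimpleRangeTable30N3
import Cfsg.Agent.Lib.SimpleRange5400X30
import Cfsg.Agent.Lib.SimpleRangeSpecial30
import Cfsg.Agent.S0974
import Cfsg.Agent.S0975
import Cfsg.Agent.S0976
import Cfsg.Agent.S0977
import Cfsg.Agent.S0978
import Cfsg.Agent.S0979
import Cfsg.Agent.S0980

set_option autoImplicit false
open Cfsg

namespace Cfsg.Agent.S0983

/-- A non-abelian finite simple group of order greater than 3640 and at most 6232 has order 4080, 5616, 6048 or 6072. -/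
theorem result {G : Type*} [Group G] [Finite G] [IsSimpleGroup G] (hG : ¬ IsMulCommutative G) (h1 : 3640 < Nat.card G) (h2 : Nat.card G ≤ 6232) : Nat.card G = 4080 ∨ Nat.card G = 5616 ∨ Nat.card G = 6048 ∨ Nat.card G = 6072 := by
  have h : Nat.card G ∈ SimpleRange30.exceptions := by
    rcases lt_or_ge (Nat.card G) 4289 with a | a
    · exact SimpleRange30.mem_exceptions0 hG (by omega) a
    rcases lt_or_ge (Nat.card G) 4937 with b | b
    · exact SimpleRange30.mem_exceptions1 hG a b
    rcases lt_or_ge (Nat.card G) 5585 with c | c
    · exact SimpleRange30.mem_exceptions2 hG b c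
    exact SimpleRange30.mem_exceptions3 hG c (by omega)
  haveI : Fintype G := Fintype.ofFinite G
  simp only [SimpleRange30.exceptions, List.mem_cons, List.not_mem_nil, or_false] at h
  rcases h with h | h | h | h | h | h | h | h | h | h | h | h | h | h | h | h | h
  · exact absurd h S0974.result
  · exact absurd h S0975.result
  · exact absurd h S0976.result
  · exact Or.inl h
  · exact absurd h S0977.result
  · exact absurd h SimpleRange30.ne_4960
  · exact absurd h S0978.result
  · exact absurd h SimpleRange30.ne_5104
  · exact absurd h SimpleRange30.ne_5400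
  · exact absurd h SimpleRange30.ne_5460
  · exact absurd h S0979.result
  · exact absurd h SimpleRange30.ne_5600
  · exact Or.inr (Or.inl h)
  · exact absurd h SimpleRange30.ne_5724
  · exact absurd h S0980.result
  · exact Or.inr (Or.inr (Or.inl h))
  · exact Or.inr (Or.inr (Or.inr h))

end Cfsg.Agent.S0983
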