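import Cfsg.Statements.S4456
import Mathlib
import Cfsg.Agent.Lib.CharExtension
import Cfsg.Agent.Lib.TransferPResidual
import Cfsg.Agent.Lib.CharKernel
import Cfsg.Agent.Lib.CharAverage
import Cfsg.Agent.Lib.CharBasicLinear

set_option autoImplicit false
open Cfsg

namespace Cfsg.Agent.S4456

open scoped Pointwise commutatorElement

open Cfsg.Agent Cfsg.Agent.CharExtension

theorem degree_one {G : Type*} [Group G] [Finite G] {p : ℕ} [hp : Fact p.Prime]
    (hdeg : ∀ χ : Cfsg.IrrCharacter G, Cfsg.charDegree (χ : G → ℂ) ≠ 1 → p ∣ Cfsg.charDegree (χ : G → ℂ))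
    (N : Subgroup G) [N.Normal] {k : ℕ} (hk : N.index = p ^ k) (hlin : ∀ l : N →* ℂˣ, ¬ p ∣ orderOf l)
    (θ : Cfsg.IrrCharacter N) (hd : ¬ p ∣ Cfsg.charDegree (θ : N → ℂ))
    (hinv : ∀ (g : G) (n : N), (θ : N → ℂ) ⟨g * n * g⁻¹, (inferInstance : N.Normal).conj_mem (n : G) n.2 g⟩ = (θ : N → ℂ) n) :
    Cfsg.charDegree (θ : N → ℂ) = 1 := by
  obtain ⟨d, ρ, hdpos, hd1, hch, S, hi, hirr⟩ := exists_setup θ.2 hinv
  have hde : Cfsg.charDegree (θ : N → ℂ) = d := by
    have h := CharAverage.irr_apply_one θ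
    rw [hd1] at h
    exact_mod_cast h.symm
  rw [hde] at hd ⊢
  have hcop : ∀ m, ¬ p ∣ m → Nat.Coprime N.index m := fun m hm => by
    rw [hk]; exact Nat.Coprime.pow_left k ((hp.out.coprime_iff_not_dvd).2 hm)
  obtain ⟨μ, hμ, -⟩ := linear_ext_coprime ((detU d).comp ρ) (fun g n => by
    obtain ⟨u, hu⟩ := hi g
    simp only [MonoidHom.comp_apply]
    rw [← hu n, map_mul, map_mul, map_inv, mul_right_comm, mul_inv_cancel, one_mul]) (hcop _ (hlin _))
  obtain ⟨η, hη, -⟩ := exists_ext_det S hi (detU d) d (detU_scal d) (fun a => exists_root d a hdpos) (hcop d hd) μ hμ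
  obtain ⟨h1, -⟩ := ext_to_char_top hirr η hη
  have hχ : Cfsg.charDegree (chr η) = d := by
    have h : chr η 1 = (Cfsg.charDegree (chr η) : ℂ) := CharAverage.irr_apply_one (⟨_, h1⟩ : Cfsg.IrrCharacter G)
    rw [chr_one] at h
    exact_mod_cast h.symm
  by_contra hne
  exact hd (hχ ▸ hdeg ⟨_, h1⟩ (by rw [hχ]; exact hne))

/-- Conjugate of a character of a normal subgroup. -/
noncomputable def conjIrr {G : Type*} [Group G] (N : Subgroup G) [N.Normal] (g : G) (θ : Cfsg.IrrCharacter N) :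
    Cfsg.IrrCharacter N :=
  ⟨fun n => (θ : N → ℂ) (MulAut.conjNormal g⁻¹ n),
    CharBasic.isIrrCharacter_comap (MulAut.conjNormal g⁻¹ : N ≃* N).toMonoidHom (MulEquiv.surjective _) θ.2⟩

theorem conjIrr_apply {G : Type*} [Group G] (N : Subgroup G) [N.Normal] (g : G) (θ : Cfsg.IrrCharacter N) (n : N) :
    (conjIrr N g θ : N → ℂ) n = (θ : N → ℂ) (MulAut.conjNormal g⁻¹ n) := rfl

theorem conjIrr_degree {G : Type*} [Group G] [Finite G] (N : Subgroup G) [N.Normal] (g : G) (θ : Cfsg.IrrCharacter N) :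
    Cfsg.charDegree (conjIrr N g θ : N → ℂ) = Cfsg.charDegree (θ : N → ℂ) := by
  have h1 := CharAverage.irr_apply_one (conjIrr N g θ)
  rw [conjIrr_apply, map_one, CharAverage.irr_apply_one θ] at h1
  exact_mod_cast h1.symm

/-- Let p be a prime and G a finite group such that p divides the degree of every irreducible character of G of degree greater than one. Then G has a normal p-complement: a normal subgroup of order prime to p whose index is a power of p. -/
theorem result {G : Type*} [Group G] [Finite G] (p : ℕ) (hp : p.Prime) (hdeg : ∀ χ : Cfsg.IrrCharacter G, Cfsg.charDegree (χ : G → ℂ) ≠ 1 → p ∣ Cfsg.charDegree (χ : G → ℂ)) : ∃ N : Subgroup G, N.Normal ∧ (Nat.card N).Coprime p ∧ ∃ k : ℕ, N.index = p ^ k := by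
  haveI : Fact p.Prime := ⟨hp⟩
  classical
  let N := Cfsg.pResidual p G
  obtain ⟨k, hk⟩ : ∃ k, N.index = p ^ k := TransferPResidual.index_pResidual
  refine ⟨N, inferInstance, ?_, k, hk⟩
  have hlin : ∀ l : N →* ℂˣ, ¬ p ∣ orderOf l := by
    intro l hpl
    obtain ⟨m, hm⟩ := hpl
    have hl0 : 0 < orderOf l := orderOf_pos l
    have hlm : orderOf (l ^ m) = p := by
      rw [orderOf_pow' l (by rintro rfl; simp [hm] at hl0), hm, Nat.gcd_eq_right (Dvd.intro_left p rfl),
        Nat.mul_div_cancel _ (Nat.pos_of_ne_zero (by rintro rfl; simp [hm] at hl0))]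
    have hone : Cfsg.pResidual p N ≤ (l ^ m).ker := by
      rw [TransferPResidual.pResidual_le_iff_coprime]
      intro g hg
      rw [MonoidHom.mem_ker]
      have h1 : (l ^ m) g ^ p = 1 := by
        rw [← MonoidHom.pow_apply, show (l ^ m) ^ p = 1 by rw [← hlm, pow_orderOf_eq_one]]; rfl
      have h2 : (l ^ m) g ^ orderOf g = 1 := by rw [← map_pow, pow_orderOf_eq_one, map_one]
      have h3 := pow_gcd_eq_one.2 ⟨h1, h2⟩
      rwa [Nat.Coprime.gcd_eq_one (Nat.Coprime.symm hg), pow_one] at h3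
    rw [TransferPResidual.pResidual_pResidual, top_le_iff] at hone
    have : l ^ m = 1 := MonoidHom.ext fun g => MonoidHom.mem_ker.1 (hone ▸ Subgroup.mem_top g)
    rw [this, orderOf_one] at hlm
    exact hp.one_lt.ne hlm
  obtain ⟨P⟩ : Nonempty (Sylow p G) := inferInstance
  haveI : Finite (Cfsg.IrrCharacter N) := inferInstance
  letI := Fintype.ofFinite (Cfsg.IrrCharacter N)
  have hfib : ∀ d : ℕ, ¬ p ∣ d → d ≠ 1 → p ∣ (Finset.univ.filter fun θ : Cfsg.IrrCharacter N => Cfsg.charDegree (θ : N → ℂ) = d).card := by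
    intro d hd hd1
    let X := {θ : Cfsg.IrrCharacter N // Cfsg.charDegree (θ : N → ℂ) = d}
    letI : MulAction P X :=
      { smul := fun g θ => ⟨conjIrr N (g : G) θ.1, (conjIrr_degree N _ _).trans θ.2⟩
        one_smul := fun θ => Subtype.ext (Subtype.ext (funext fun n => by
          show (θ.1 : N → ℂ) (MulAut.conjNormal (((1 : P) : G))⁻¹ n) = _
          simp))
        mul_smul := fun g h θ => Subtype.ext (Subtype.ext (funext fun n => by
          show (θ.1 : N → ℂ) (MulAut.conjNormal ((g * h : P) : G)⁻¹ n) =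
            (θ.1 : N → ℂ) (MulAut.conjNormal (h : G)⁻¹ (MulAut.conjNormal (g : G)⁻¹ n))
          rw [Subgroup.coe_mul, mul_inv_rev, map_mul, MulAut.mul_apply])) }
    have hempty : IsEmpty (MulAction.fixedPoints P X) := by
      refine ⟨fun θ => hd1 ?_⟩
      rw [← θ.1.2]
      refine degree_one hdeg N hk hlin θ.1.1 (θ.1.2.symm ▸ hd) fun g n => ?_
      let St : Subgroup G :=
        { carrier := {g | ∀ n : N, (θ.1.1 : N → ℂ) (MulAut.conjNormal g n) = (θ.1.1 : N → ℂ) n}
          one_mem' := fun n => by simp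
          mul_mem' := fun {a b} ha hb n => by rw [map_mul, MulAut.mul_apply, ha, hb]
          inv_mem' := fun {a} ha n => by
            have := ha (MulAut.conjNormal a⁻¹ n)
            rw [← MulAut.mul_apply, ← map_mul, mul_inv_cancel, map_one, MulAut.one_apply] at this
            exact this.symm }
      have hP : (P : Subgroup G) ≤ St := fun a ha m => by
        have h := congrArg (fun x : X => (x.1 : N → ℂ) m) (θ.2 (⟨a⁻¹, inv_mem ha⟩ : P))
        have h' : (θ.1.1 : N → ℂ) (MulAut.conjNormal (a⁻¹)⁻¹ m) = (θ.1.1 : N → ℂ) m := h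
        rwa [inv_inv] at h'
      have hN : N ≤ St := fun a ha m => by
        have e : MulAut.conjNormal a m = (⟨a, ha⟩ : N) * m * (⟨a, ha⟩ : N)⁻¹ := Subtype.ext (by simp)
        rw [e]
        exact CharBasic.isClassFunction_of_isCharacter (CharBasic.isCharacter_of_isIrrCharacter θ.1.1.2) _ _
      have hg : g ∈ St := (sup_le hP hN) ((TransferPResidual.sylow_sup_pResidual P).symm ▸ Subgroup.mem_top g)
      refine Eq.trans (congrArg _ (Subtype.ext ?_)) (hg n)
      simp
    have h := IsPGroup.card_modEq_card_fixedPoints P.isPGroup' X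
    rw [Nat.card_of_isEmpty (α := MulAction.fixedPoints P X)] at h
    have hX : Nat.card X = (Finset.univ.filter fun θ : Cfsg.IrrCharacter N => Cfsg.charDegree (θ : N → ℂ) = d).card := by
      rw [Nat.card_eq_fintype_card, Fintype.card_subtype]
    exact hX ▸ Nat.modEq_zero_iff_dvd.1 h
  have hsum : Nat.card N ≡ (commutator N).index [MOD p] := by
    rw [← CharKernel.sum_sq_charDegree, ← ZMod.natCast_eq_natCast_iff, Nat.cast_sum,
      ← Finset.sum_fiberwise_of_maps_to (fun θ _ => Finset.mem_image_of_mem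
        (fun θ : Cfsg.IrrCharacter N => Cfsg.charDegree (θ : N → ℂ)) (Finset.mem_univ θ))]
    have hc : ∀ d ∈ Finset.univ.image (fun θ : Cfsg.IrrCharacter N => Cfsg.charDegree (θ : N → ℂ)), d ≠ 1 →
        (∑ θ ∈ Finset.univ.filter (fun θ : Cfsg.IrrCharacter N => Cfsg.charDegree (θ : N → ℂ) = d),
          ((Cfsg.charDegree (θ : N → ℂ) ^ 2 : ℕ) : ZMod p)) = 0 := by
      intro d _ hd1
      rw [Finset.sum_congr rfl fun θ hθ => by rw [(Finset.mem_filter.1 hθ).2]]
      rw [Finset.sum_const, nsmul_eq_mul, ← Nat.cast_mul, ZMod.natCast_eq_zero_iff]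
      by_cases hd : p ∣ d
      · exact dvd_mul_of_dvd_right (dvd_pow hd two_ne_zero) _
      · exact dvd_mul_of_dvd_left (hfib d hd hd1) _
    rw [Finset.sum_eq_single 1 hc]
    · rw [Finset.sum_congr rfl fun θ hθ => by rw [(Finset.mem_filter.1 hθ).2]]
      rw [Finset.sum_const, nsmul_eq_mul, one_pow, Nat.cast_one, mul_one]
      congr 1
      rw [← CharBasicLinear.card_linear, Nat.card_eq_fintype_card, Fintype.card_subtype]
      congr 1
      refine Finset.filter_congr fun θ _ => ?_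
      rw [CharAverage.irr_apply_one θ, Nat.cast_eq_one]
    · intro h
      rw [Finset.sum_eq_zero]
      intro θ hθ
      exact absurd (Finset.mem_image.2 ⟨θ, Finset.mem_univ θ, (Finset.mem_filter.1 hθ).2⟩) h
  refine Nat.Coprime.symm ((hp.coprime_iff_not_dvd).2 fun hdvd => ?_)
  have h2 : p ∣ (commutator N).index := (hsum.dvd_iff dvd_rfl).1 hdvd
  rw [← CharBasicLinear.card_hom_units] at h2
  obtain ⟨l, hl⟩ := exists_prime_orderOf_dvd_card' p h2
  exact hlin l hl.symm.dvd

end Cfsg.Agent.S4456
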