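import Mathlib
import Cfsg.Statements.S3669
import Cfsg.Agent.Lib.DicksonSmall
import Cfsg.Agent.Lib.DegreeDvd
import Cfsg.Agent.Lib.CharKernel
import Cfsg.Agent.Lib.CharBasicLinear

set_option autoImplicit false
open Cfsg

namespace Cfsg.Agent.S3669

lemma card_classes : Nat.card (ConjClasses (alternatingGroup (Fin 5))) = 5 := by
  rw [Nat.card_eq_fintype_card]
  decide +kernel

lemma card_A5 : Nat.card (alternatingGroup (Fin 5)) = 60 := by
  rw [Nat.card_eq_fintype_card]
  decide +kernel

lemma five_mem : 5 ∈ Cfsg.degreePrimes (alternatingGroup (Fin 5)) := by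
  classical
  refine ⟨by norm_num, ?_⟩
  by_contra hno
  simp only [not_exists, not_and] at hno
  let A := alternatingGroup (Fin 5)
  let d : Cfsg.IrrCharacter A → ℕ := fun χ => Cfsg.charDegree (χ : A → ℂ)
  have hd : ∀ χ, d χ ∣ 60 := fun χ => card_A5 ▸ CharAverage.charDegree_dvd_card χ
  have hle : ∀ χ, d χ ^ 2 ≤ 60 := fun χ => (CharKernel.charDegree_sq_le χ).trans_eq card_A5
  have hmem : ∀ χ ∈ (Finset.univ : Finset (Cfsg.IrrCharacter A)), d χ ∈ ({1, 2, 3, 4, 6} : Finset ℕ) := by
    intro χ _
    have h1 := hd χ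
    have h2 := hle χ
    have h5 := hno (d χ) ⟨χ, rfl⟩
    have h8 : d χ < 8 := by nlinarith
    revert h1 h5
    generalize d χ = k at h8
    interval_cases k <;> norm_num
  have hlin : (Finset.univ.filter fun χ => d χ = 1).card = 1 := by
    have h : Nat.card {χ : Cfsg.IrrCharacter A // d χ = 1} = 1 := by
      have e : {χ : Cfsg.IrrCharacter A // d χ = 1} ≃ {χ : Cfsg.IrrCharacter A // (χ : A → ℂ) 1 = 1} :=
        Equiv.subtypeEquivRight fun χ => by
          rw [CharAverage.irr_apply_one χ, Nat.cast_eq_one]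
      rw [Nat.card_congr e, CharBasicLinear.card_linear, Subgroup.index_eq_one]
      have hs : IsSimpleGroup A := alternatingGroup.isSimpleGroup_five
      refine ((Subgroup.commutator_normal (⊤ : Subgroup A) ⊤).eq_bot_or_eq_top).resolve_left fun hb => ?_
      have hcomm := Subgroup.commutator_eq_bot_iff_le_centralizer.mp hb
      have key : ∃ a b : A, a * b ≠ b * a := by decide +kernel
      obtain ⟨a, b, hab⟩ := key
      exact hab (Subgroup.mem_centralizer_iff.mp (hcomm (Subgroup.mem_top b)) a (Subgroup.mem_top a))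
    rwa [Nat.card_eq_fintype_card, Fintype.card_subtype] at h
  have hcard : (Finset.univ : Finset (Cfsg.IrrCharacter A)).card = 5 := by
    rw [Finset.card_univ, ← Nat.card_eq_fintype_card, CharBasicOrth.card_irrCharacter, card_classes]
  have hsum : ∑ χ, d χ ^ 2 = 60 := CharKernel.sum_sq_charDegree.trans card_A5
  rw [Finset.card_eq_sum_card_fiberwise hmem] at hcard
  rw [← Finset.sum_fiberwise_of_maps_to hmem] at hsum
  have hconst : ∀ k, ∑ χ ∈ Finset.univ.filter (fun χ => d χ = k), d χ ^ 2 =
      (Finset.univ.filter (fun χ => d χ = k)).card * k ^ 2 := fun k => by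
    rw [Finset.sum_congr rfl (g := fun _ => k ^ 2) (fun χ hχ => by rw [(Finset.mem_filter.mp hχ).2]),
      Finset.sum_const, smul_eq_mul]
  simp only [hconst] at hsum
  simp at hcard hsum
  omega

variable {G : Type*} [Group G] [Finite G]

lemma no_degree (A : Subgroup G) (hA : A.Normal) (hcomm : ∀ a b : A, a * b = b * a)
    (h5 : ¬ 5 ∣ A.index) (χ : Cfsg.IrrCharacter G) : ¬ 5 ∣ Cfsg.charDegree (χ : G → ℂ) := by
  obtain ⟨n, -, hn, hdvd⟩ := DegreeDvd.degree_dvd_index_abelian χ.2 A hcomm
  rw [CharAverage.irr_apply_one χ, Nat.cast_inj] at hn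
  exact fun h => h5 ((hn ▸ h).trans hdvd)

lemma not_normal (hc : Nat.card G = 60) (h : ∀ Q : Sylow 5 G, ¬ (Q : Subgroup G).Normal)
    (x : G) (hx : x ≠ 1) : ¬ (Subgroup.zpowers x).Normal := by
  have h5f : Fact (Nat.Prime 5) := ⟨by norm_num⟩
  have : Fact (Nat.Prime 3) := ⟨Nat.prime_three⟩
  have hc5 : Nat.card G = 5 * 12 := by omega
  have hc3 : Nat.card G = 3 * 20 := by omega
  have hn5 : Nat.card (Sylow 5 G) = 6 := by
    have h1 := DicksonSmall.sylow_count_dvd 5 hc5 (by norm_num)
    have h2 : Nat.card (Sylow 5 G) ≡ 1 [MOD 5] := card_sylow_modEq_one 5 G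
    have h4 : Nat.card (Sylow 5 G) ≠ 1 := fun h1' => by
      obtain ⟨Q⟩ : Nonempty (Sylow 5 G) := inferInstance
      have : Subsingleton (Sylow 5 G) := (Nat.card_eq_one_iff_unique.mp h1').1
      exact h Q Q.normal_of_subsingleton
    have hle := Nat.le_of_dvd (by norm_num) h1
    rw [Nat.ModEq] at h2
    generalize Nat.card (Sylow 5 G) = n at h1 h2 h4 hle
    interval_cases n <;> omega
  have hN : ∀ Q : Sylow 5 G, Nat.card (Subgroup.normalizer ((Q : Subgroup G) : Set G)) = 10 := by
    intro Q
    have h' := (Subgroup.normalizer ((Q : Subgroup G) : Set G)).card_mul_index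
    rw [show (Subgroup.normalizer ((Q : Subgroup G) : Set G)).index = 6 from
      Q.card_eq_index_normalizer.symm.trans hn5, hc] at h'
    omega
  -- an element centralised by an element of order five has order dividing ten
  have hcent : ∀ z y : G, orderOf y = 5 → Commute y z → orderOf z ∣ 10 := by
    intro z y hy hyz
    have hP : Nat.card (Subgroup.zpowers y) = 5 ^ (Nat.card G).factorization 5 := by
      rw [Nat.card_zpowers, hy, hc5, Nat.factorization_mul (by norm_num) (by norm_num),
        Finsupp.add_apply, (Fact.out : Nat.Prime 5).factorization_self,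
        Nat.factorization_eq_zero_of_not_dvd (by norm_num)]
      rfl
    let Q : Sylow 5 G := Sylow.ofCard _ hP
    have hzN : z ∈ Subgroup.normalizer ((Q : Subgroup G) : Set G) := by
      refine Subgroup.centralizer_le_normalizer _ ?_
      rw [Subgroup.mem_centralizer_iff]
      intro w hw
      obtain ⟨i, rfl⟩ := Subgroup.mem_zpowers_iff.mp (show w ∈ Subgroup.zpowers y from hw)
      exact (hyz.zpow_left i).eq
    exact hN Q ▸ Subgroup.orderOf_dvd_natCard _ hzN
  obtain ⟨y, hy⟩ := exists_prime_orderOf_dvd_card' (G := G) 5 (by rw [hc]; norm_num)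
  intro hnor
  -- reduce to prime order
  obtain ⟨p, hp, hpdvd⟩ := Nat.exists_prime_and_dvd (fun h => hx (orderOf_eq_one_iff.mp h))
  have hk0 : orderOf x / p ≠ 0 :=
    (Nat.div_pos (Nat.le_of_dvd (orderOf_pos x) hpdvd) hp.pos).ne'
  set z := x ^ (orderOf x / p) with hz
  have hzo : orderOf z = p := by
    rw [hz, orderOf_pow_of_dvd hk0 (Nat.div_dvd_of_dvd hpdvd), Nat.div_div_self hpdvd (orderOf_pos x).ne']
  have hznor : ∀ g : G, g * z * g⁻¹ ∈ Subgroup.zpowers z := by
    intro g
    obtain ⟨i, hi⟩ := Subgroup.mem_zpowers_iff.mp (hnor.conj_mem x (Subgroup.mem_zpowers x) g)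
    refine Subgroup.mem_zpowers_iff.mpr ⟨i, ?_⟩
    rw [hz, ← conj_pow, ← hi, ← zpow_natCast, ← zpow_natCast (x ^ i), ← zpow_mul, ← zpow_mul,
      mul_comm]
  have hzn : (Subgroup.zpowers z).Normal := ⟨fun w hw g => by
    obtain ⟨j, rfl⟩ := Subgroup.mem_zpowers_iff.mp hw
    rw [← conj_zpow]
    exact zpow_mem (hznor g) j⟩
  have hpd : p ∣ 60 := hc ▸ hzo ▸ orderOf_dvd_natCard z
  have hp5 : p ∈ ({2, 3, 5} : Finset ℕ) := by
    have : p ∣ 2 * 2 * 3 * 5 := by norm_num; exact hpd
    rcases (Nat.Prime.dvd_mul hp).mp this with h' | h'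
    · rcases (Nat.Prime.dvd_mul hp).mp h' with h'' | h''
      · rcases (Nat.Prime.dvd_mul hp).mp h'' with h3 | h3 <;>
          simp [(Nat.prime_dvd_prime_iff_eq hp Nat.prime_two).mp h3]
      · simp [(Nat.prime_dvd_prime_iff_eq hp Nat.prime_three).mp h'']
    · simp [(Nat.prime_dvd_prime_iff_eq hp (by norm_num)).mp h']
  -- an element of order five centralises `z`
  have hyz : p ≠ 5 → Commute y z := by
    intro hp'
    have : Finite (Subgroup.zpowers z) := inferInstance
    let X := {w : G // w ∈ Subgroup.zpowers z}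
    letI : MulAction G X :=
      { smul := fun g w => ⟨g * w.1 * g⁻¹, hzn.conj_mem _ w.2 g⟩
        one_smul := fun w => Subtype.ext (by show (1 : G) * w.1 * 1⁻¹ = w.1; group)
        mul_smul := fun g g' w => Subtype.ext (by
          show g * g' * w.1 * (g * g')⁻¹ = g * (g' * w.1 * g'⁻¹) * g⁻¹; group) }
    have hX : Nat.card X < 5 := by
      show Nat.card (Subgroup.zpowers z) < 5
      rw [Nat.card_zpowers, hzo]
      simp only [Finset.mem_insert, Finset.mem_singleton] at hp5
      omega
    have := congrArg Subtype.val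
      (DicksonSmall.smul_eq_of_lt (X := X) hX hy ⟨z, Subgroup.mem_zpowers z⟩)
    show y * z = z * y
    exact mul_inv_eq_iff_eq_mul.mp this
  simp only [Finset.mem_insert, Finset.mem_singleton] at hp5
  rcases hp5 with rfl | rfl | rfl
  · -- a central involution
    have hzc : ∀ g : G, Commute g z := by
      intro g
      obtain ⟨i, hi⟩ := Subgroup.mem_zpowers_iff.mp (hznor g)
      have hi' : g * z * g⁻¹ = z := by
        rcases Int.emod_two_eq_zero_or_one i with e | e
        · exfalso
          rw [← Int.emod_add_mul_ediv i 2, e, zero_add, zpow_mul,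
            show z ^ (2 : ℤ) = 1 from (zpow_natCast z 2).trans (by rw [← hzo, pow_orderOf_eq_one]),
            one_zpow] at hi
          have : z = 1 := by
            rw [eq_comm, mul_inv_eq_one, mul_eq_left] at hi
            exact hi
          rw [this, orderOf_one] at hzo
          omega
        · rw [← hi, ← Int.emod_add_mul_ediv i 2, e, zpow_add, zpow_one, zpow_mul,
            show z ^ (2 : ℤ) = 1 from (zpow_natCast z 2).trans (by rw [← hzo, pow_orderOf_eq_one]),
            one_zpow, mul_one]
      exact mul_inv_eq_iff_eq_mul.mp hi'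
    have hno3 : ∀ P : Sylow 3 G, y ∉ Subgroup.normalizer ((P : Subgroup G) : Set G) := by
      intro P hyP
      have hPc : Nat.card (P : Subgroup G) = 3 := DicksonSmall.sylow_card 3 hc3 (by norm_num) P
      let X := {w : G // w ∈ (P : Subgroup G)}
      let N := Subgroup.normalizer ((P : Subgroup G) : Set G)
      letI : MulAction N X :=
        { smul := fun g w => ⟨g.1 * w.1 * g.1⁻¹, (Subgroup.mem_normalizer_iff.mp g.2 _).mp w.2⟩
          one_smul := fun w => Subtype.ext (by show (1 : G) * w.1 * 1⁻¹ = w.1; group)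
          mul_smul := fun g g' w => Subtype.ext (by
            show g.1 * g'.1 * w.1 * (g.1 * g'.1)⁻¹ = g.1 * (g'.1 * w.1 * g'.1⁻¹) * g.1⁻¹; group) }
      obtain ⟨t, ht⟩ := exists_prime_orderOf_dvd_card' (G := (P : Subgroup G)) 3 (by rw [hPc])
      have hfix := congrArg Subtype.val (DicksonSmall.smul_eq_of_lt (G := N) (X := X)
        (lt_of_eq_of_lt hPc (by norm_num)) (y := ⟨y, hyP⟩) (by rw [Subgroup.orderOf_mk]; exact hy)
        ⟨t, t.2⟩)
      have h10 := hcent t y hy (mul_inv_eq_iff_eq_mul.mp hfix)
      rw [Subgroup.orderOf_coe, ht] at h10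
      norm_num at h10
    have hn3 : Nat.card (Sylow 3 G) = 10 := by
      have h1 := DicksonSmall.sylow_count_dvd 3 hc3 (by norm_num)
      have h2 : Nat.card (Sylow 3 G) ≡ 1 [MOD 3] := card_sylow_modEq_one 3 G
      have hle := Nat.le_of_dvd (by norm_num) h1
      have h5' : ¬ Nat.card (Sylow 3 G) < 5 := fun hlt => by
        obtain ⟨P⟩ : Nonempty (Sylow 3 G) := inferInstance
        exact hno3 P (Sylow.smul_eq_iff_mem_normalizer.mp (DicksonSmall.smul_eq_of_lt hlt hy P))
      rw [Nat.ModEq] at h2
      generalize Nat.card (Sylow 3 G) = n at h1 h2 hle h5'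
      interval_cases n <;> omega
    obtain ⟨P⟩ : Nonempty (Sylow 3 G) := inferInstance
    have hPc : Nat.card (P : Subgroup G) = 3 := DicksonSmall.sylow_card 3 hc3 (by norm_num) P
    have hN3 : Nat.card (Subgroup.normalizer ((P : Subgroup G) : Set G)) = 6 := by
      have h' := (Subgroup.normalizer ((P : Subgroup G) : Set G)).card_mul_index
      rw [show (Subgroup.normalizer ((P : Subgroup G) : Set G)).index = 10 from
        P.card_eq_index_normalizer.symm.trans hn3, hc] at h'
      omega
    have hburn : Subgroup.normalizer ((P : Subgroup G) : Set G) ≤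
        Subgroup.centralizer ((P : Subgroup G) : Set G) := by
      have hle : (P : Subgroup G) ⊔ Subgroup.zpowers z ≤
          Subgroup.normalizer ((P : Subgroup G) : Set G) :=
        sup_le Subgroup.le_normalizer (Subgroup.zpowers_le.mpr
          (Subgroup.centralizer_le_normalizer _ (Subgroup.mem_centralizer_iff.mpr fun w _ => hzc w)))
      have h6 : 6 ∣ Nat.card ((P : Subgroup G) ⊔ Subgroup.zpowers z : Subgroup G) := by
        have a := Subgroup.card_dvd_of_le
          (le_sup_left : (P : Subgroup G) ≤ (P : Subgroup G) ⊔ Subgroup.zpowers z)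
        have b := Subgroup.card_dvd_of_le
          (le_sup_right : Subgroup.zpowers z ≤ (P : Subgroup G) ⊔ Subgroup.zpowers z)
        rw [hPc] at a
        rw [Nat.card_zpowers, hzo] at b
        omega
      rw [← Subgroup.eq_of_le_of_card_ge hle (hN3 ▸ Nat.le_of_dvd Nat.card_pos h6)]
      refine sup_le ?_ (Subgroup.zpowers_le.mpr (Subgroup.mem_centralizer_iff.mpr fun w _ => hzc w))
      have : IsCyclic (P : Subgroup G) := isCyclic_of_prime_card hPc
      intro a ha
      rw [Subgroup.mem_centralizer_iff]
      intro b hb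
      letI := IsCyclic.commGroup (α := (P : Subgroup G))
      exact congrArg Subtype.val (mul_comm (⟨b, hb⟩ : (P : Subgroup G)) ⟨a, ha⟩)
    set L := (MonoidHom.transferSylow P hburn).ker
    have hL : L.Normal := MonoidHom.normal_ker _
    have hLc : Nat.card L = 20 := by
      have h' : Nat.card L * Nat.card (P : Subgroup G) = Nat.card G :=
        (MonoidHom.ker_transferSylow_isComplement' P hburn).card_mul
      rw [hPc, hc] at h'
      omega
    have hc5L : Nat.card L = 5 * 4 := by omega
    have hL1 : Nat.card (Sylow 5 L) = 1 := by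
      have h1 := DicksonSmall.sylow_count_dvd 5 hc5L (by norm_num)
      have h2 : Nat.card (Sylow 5 L) ≡ 1 [MOD 5] := card_sylow_modEq_one 5 L
      have hle := Nat.le_of_dvd (by norm_num) h1
      rw [Nat.ModEq] at h2
      omega
    have hQL : ∀ Q : Sylow 5 G, (Q : Subgroup G) ≤ L := by
      intro Q q hq
      have hq5 : (⟨q, hq⟩ : (Q : Subgroup G)) ^ 5 = 1 := by
        have e := pow_card_eq_one' (G := (Q : Subgroup G)) (x := ⟨q, hq⟩)
        rwa [DicksonSmall.sylow_card 5 hc5 (by norm_num) Q] at e
      show MonoidHom.transferSylow P hburn q = 1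
      have h1 := orderOf_map_dvd (MonoidHom.transferSylow P hburn) q
      have h2 : orderOf q ∣ 5 := orderOf_dvd_of_pow_eq_one (congrArg Subtype.val hq5)
      have h3 : orderOf (MonoidHom.transferSylow P hburn q) ∣ 3 := (orderOf_dvd_natCard _).trans (dvd_of_eq hPc)
      exact orderOf_eq_one_iff.mp (Nat.dvd_one.mp (Nat.dvd_gcd (h1.trans h2) h3))
    have hsub : ∀ Q Q' : Sylow 5 G, Q = Q' := fun Q Q' => by
      have := (Nat.card_eq_one_iff_unique.mp hL1).1
      have he := congrArg (fun R : Sylow 5 L => (R : Subgroup L))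
        (Subsingleton.elim (Q.subtype (hQL Q)) (Q'.subtype (hQL Q')))
      exact Sylow.ext (Subgroup.subgroupOf_inj.mp he |> fun e => by
        rwa [inf_eq_left.mpr (hQL Q), inf_eq_left.mpr (hQL Q')] at e)
    have : Subsingleton (Sylow 5 G) := ⟨hsub⟩
    rw [Nat.card_of_subsingleton (Classical.arbitrary (Sylow 5 G))] at hn5
    omega
  · have := hcent z y hy (hyz (by norm_num))
    rw [hzo] at this
    norm_num at this
  · obtain ⟨Q⟩ : Nonempty (Sylow 5 G) := inferInstance
    have hQc : Nat.card (Q : Subgroup G) = 5 := DicksonSmall.sylow_card 5 hc5 (by norm_num) Q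
    have hz5 : Nat.card (Subgroup.zpowers z) = 5 := by rw [Nat.card_zpowers, hzo]
    have hP : Nat.card (Subgroup.zpowers z) = 5 ^ (Nat.card G).factorization 5 := by
      rw [hz5]; exact hQc.symm.trans Q.card_eq_multiplicity
    exact h (Sylow.ofCard _ hP) hzn

/-- The character degree graph of a finite group has as vertices the primes dividing some irreducible complex character degree, two distinct primes being joined when their product divides some irreducible character degree; two groups have the same character degree graph when they have the same vertices and the same joined pairs. A finite group of order 60 with the same character degree graph as the alternating group A₅ (whose character degrees are 1, 3, 4, 5, so the graph has vertices 2, 3, 5 and no edges) is isomorphic to A₅. -/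
theorem result {G : Type*} [Group G] [Finite G] (hcard : Nat.card G = 60)
    (hΓ : Cfsg.degreePrimes G = Cfsg.degreePrimes (alternatingGroup (Fin 5)) ∧ Cfsg.degreeGraph G = Cfsg.degreeGraph (alternatingGroup (Fin 5))) : Nonempty (G ≃* alternatingGroup (Fin 5)) := by
  apply DicksonSmall.iso_A5 hcard
  refine not_normal hcard fun Q hQ => ?_
  have h5 : 5 ∈ Cfsg.degreePrimes G := by rw [hΓ.1]; exact five_mem
  obtain ⟨-, d, ⟨χ, rfl⟩, hd⟩ := h5
  have : Fact (Nat.Prime 5) := ⟨by norm_num⟩
  have hc5 : Nat.card G = 5 * 12 := by omega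
  have hQc : Nat.card (Q : Subgroup G) = 5 := DicksonSmall.sylow_card 5 hc5 (by norm_num) Q
  refine no_degree (Q : Subgroup G) hQ ?_ ?_ χ hd
  · have : IsCyclic (Q : Subgroup G) := isCyclic_of_prime_card hQc
    letI := IsCyclic.commGroup (α := (Q : Subgroup G))
    exact mul_comm
  · have := (Q : Subgroup G).card_mul_index
    rw [hQc, hcard] at this
    omega

end Cfsg.Agent.S3669
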