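import Cfsg.Statements.S3835
import Cfsg.Agent.Lib.QdStructure56
import Cfsg.Agent.Lib.PGroupsBasic

set_option autoImplicit false
open Cfsg

namespace Cfsg.Agent.S3835

open Subgroup Cfsg.Agent.QdStructure56
open scoped Matrix
open scoped commutatorElement MatrixGroups

variable {F : Type*} [Field F]

theorem isMulCommutative_of_lt_sq {p : ℕ} [hp : Fact p.Prime] {α : Type*} [Finite α]
    (hα : Nat.card α < p ^ 2) {P : Subgroup (Equiv.Perm α)} (hP : IsPGroup p P) : IsMulCommutative P := by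
  refine ⟨⟨fun a b => ?_⟩⟩
  refine commutatorElement_eq_one_iff_mul_comm.mp (Subtype.ext (Equiv.ext fun x => ?_))
  obtain ⟨k, hk⟩ := hP.index (MulAction.stabilizer P x)
  have hle : p ^ k < p ^ 2 := by
    rw [← hk, MulAction.index_stabilizer]
    exact lt_of_le_of_lt ((Set.ncard_le_card _).trans_eq (by simp)) hα
  have hk2 := (Nat.pow_lt_pow_iff_right hp.out.one_lt).mp hle
  have hn : (MulAction.stabilizer P x).Normal ∧ commutator P ≤ MulAction.stabilizer P x := by
    interval_cases k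
    · rw [pow_zero, index_eq_one] at hk
      rw [hk]; exact ⟨inferInstance, le_top⟩
    · rw [pow_one] at hk
      have hN := Cfsg.Agent.PGroupsBasic.normal_of_index_eq hP hk
      refine ⟨hN, Cfsg.Agent.PGroupsBasic.commutator_le_of_index_le_sq hP ?_⟩
      rw [hk]; exact Nat.le_self_pow two_ne_zero p
  exact hn.2 (commutator_mem_commutator (mem_top a) (mem_top b))

def uu (x : F) : SL(2, F) := ⟨!![1, x; 0, 1], by simp [Matrix.det_fin_two]⟩
def ll (x : F) : SL(2, F) := ⟨!![1, 0; x, 1], by simp [Matrix.det_fin_two]⟩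

theorem uu_add (x y : F) : uu x * uu y = uu (x + y) := by
  apply Subtype.ext; rw [coeMul]; ext i j
  fin_cases i <;> fin_cases j <;> simp [uu, Matrix.mul_apply, Fin.sum_univ_two, add_comm]

theorem ll_add (x y : F) : ll x * ll y = ll (x + y) := by
  apply Subtype.ext; rw [coeMul]; ext i j
  fin_cases i <;> fin_cases j <;> simp [ll, Matrix.mul_apply, Fin.sum_univ_two, add_comm]

theorem hom_units_eq_one_SL (h2 : (2 : F) ≠ 0) (χ : SL(2, F) →* ℤˣ) (A : SL(2, F)) : χ A = 1 := by
  have hu : ∀ x, χ (uu x) = 1 := fun x => by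
    rw [show x = x / 2 + x / 2 by field_simp; ring, ← uu_add, map_mul, Int.units_mul_self]
  have hl : ∀ x, χ (ll x) = 1 := fun x => by
    rw [show x = x / 2 + x / 2 by field_simp; ring, ← ll_add, map_mul, Int.units_mul_self]
  have key : ∀ B : SL(2, F), B.1 1 0 ≠ 0 → χ B = 1 := by
    intro B hc
    have hdet := B.2
    rw [Matrix.det_fin_two] at hdet
    have : B = uu ((B.1 0 0 - 1) / B.1 1 0) * ll (B.1 1 0) * uu ((B.1 1 1 - 1) / B.1 1 0) := by
      apply Subtype.ext; rw [coeMul, coeMul]; ext i j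
      fin_cases i <;> fin_cases j <;> simp [uu, ll, Matrix.mul_apply, Fin.sum_univ_two] <;>
        field_simp <;> (first | linear_combination hdet | linear_combination -hdet | ring)
    rw [this, map_mul, map_mul, hu, hl, hu, one_mul, one_mul]
  by_cases hc : A.1 1 0 = 0
  · have hdet := A.2
    rw [Matrix.det_fin_two, hc, mul_zero, sub_zero] at hdet
    have h1 := key (A * ll 1) (by
      rw [coeMul]; simp [ll, Matrix.mul_apply, Fin.sum_univ_two, hc]
      intro h; simp [h] at hdet)
    rwa [map_mul, hl, mul_one] at h1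
  · exact key A hc

theorem hom_units_eq_one (h2 : (2 : F) ≠ 0) (χ : ↥(Cfsg.qdOver F) →* ℤˣ) (M : ↥(Cfsg.qdOver F)) : χ M = 1 := by
  have hv : ∀ v : Fin 2 → F, χ (mk 1 v) = 1 := fun v => by
    have e : v = (fun i => v i / 2) + (fun i => v i / 2) := by funext i; simp; field_simp; ring
    have e2 : mk 1 v = mk 1 (fun i => v i / 2) * mk 1 (fun i => v i / 2) := by
      rw [mk_mul, one_mul]; congr 1; simpa using e
    rw [e2, map_mul, Int.units_mul_self]
  have : M = mk 1 (vec M) * lift (blk M) := by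
    show M = mk 1 (vec M) * mk (blk M) 0
    rw [mk_mul, one_mul]
    simp [mk_blk_vec]
  rw [this, map_mul, hv, one_mul]
  exact hom_units_eq_one_SL h2 (χ.comp lift) _

/-- The affine action. -/
def act : ↥(Cfsg.qdOver F) →* Equiv.Perm (Fin 2 → F) :=
  @MulAction.toPermHom ↥(Cfsg.qdOver F) (Fin 2 → F) _
    { smul := fun M v => (blk M).1 *ᵥ v + vec M
      one_smul := fun v => by
        show (blk 1).1 *ᵥ v + vec 1 = v
        simp [vec_one]
      mul_smul := fun A B v => by
        show (blk (A * B)).1 *ᵥ v + vec (A * B) = (blk A).1 *ᵥ ((blk B).1 *ᵥ v + vec B) + vec A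
        rw [map_mul, coeMul, vec_mul, Matrix.mulVec_add, Matrix.mulVec_mulVec]; abel }

theorem act_apply (M : ↥(Cfsg.qdOver F)) (v : Fin 2 → F) : act M v = (blk M).1 *ᵥ v + vec M := rfl

theorem act_injective : Function.Injective (act : ↥(Cfsg.qdOver F) → _) := by
  intro A B h
  have h0 := DFunLike.congr_fun h (0 : Fin 2 → F)
  simp [act_apply] at h0
  refine ext_blk_vec (Subtype.ext (Matrix.ext_iff_mulVec.2 fun v => ?_)) h0
  have := DFunLike.congr_fun h v
  rw [act_apply, act_apply, h0] at this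
  exact add_right_cancel this

theorem exists_noncomm_pgroup (p : ℕ) [hp : Fact p.Prime] :
    ∃ W : Subgroup ↥(Cfsg.qdOver (ZMod p)), IsPGroup p W ∧ ¬ IsMulCommutative W := by
  let f : Multiplicative (ZMod p) →* SL(2, ZMod p) :=
    { toFun := fun x => uu x.toAdd
      map_one' := by apply Subtype.ext; ext i j; fin_cases i <;> fin_cases j <;> simp [uu]
      map_mul' := fun x y => by rw [toAdd_mul, uu_add] }
  have hR : IsPGroup p f.range :=
    (IsPGroup.of_card (n := 1) (by simp)).of_surjective f.rangeRestrict f.rangeRestrict_surjective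
  refine ⟨f.range.comap blk, hR.comap_of_ker_isPGroup blk transl_isPGroup, fun hc => ?_⟩
  have h := hc.is_comm.comm ⟨lift (uu (1 : ZMod p)), ⟨Multiplicative.ofAdd 1, by rw [blk_lift]; rfl⟩⟩
    ⟨mk 1 ![(0 : ZMod p), 1], ⟨1, by rw [blk_mk, map_one]⟩⟩
  have h2 : vec (lift (uu (1 : ZMod p)) * QdStructure56.mk 1 ![(0 : ZMod p), 1]) 0 = vec (QdStructure56.mk 1 ![(0 : ZMod p), 1] * lift (uu (1 : ZMod p))) 0 :=
    congrArg (fun M : ↥(f.range.comap (blk : ↥(Cfsg.qdOver (ZMod p)) →* _)) => vec M.1 0) h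
  rw [vec_mul, vec_mul, show blk (lift (uu (1 : ZMod p))) = uu 1 from blk_lift _] at h2
  simp [blk_lift, vec_mk, uu, Fin.sum_univ_two, Matrix.vecHead, Matrix.vecTail] at h2

theorem exists_noncomm_pgroup_qd (p : ℕ) [hp : Fact p.Prime] :
    ∃ W : Subgroup ↥(Cfsg.qd p), IsPGroup p W ∧ ¬ IsMulCommutative W := exists_noncomm_pgroup p

/-- Let p be an odd prime and n a natural number. The alternating group of degree n has a subgroup isomorphic to Qd(p) (the natural semidirect product of an elementary abelian group of order p² by SL₂(p)) if and only if n ≥ p²; and if n < p² then Qd(p) is not even involved in it. -/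
theorem result {p : ℕ} [Fact p.Prime] (hp : p ≠ 2) (n : ℕ) : ((∃ H : Subgroup (alternatingGroup (Fin n)), Nonempty (↥H ≃* ↥(Cfsg.qd p))) ↔ p ^ 2 ≤ n) ∧ (n < p ^ 2 → ¬ Cfsg.Involves ↥(Cfsg.qd p) ↥(alternatingGroup (Fin n))) := by
  have hp2 : (2 : ZMod p) ≠ 0 := by
    intro h
    have h' : ((2 : ℕ) : ZMod p) = 0 := by exact_mod_cast h
    rw [ZMod.natCast_eq_zero_iff] at h'
    exact hp ((Nat.prime_dvd_prime_iff_eq Fact.out Nat.prime_two).mp h')
  have hno : n < p ^ 2 → ¬ Cfsg.Involves ↥(Cfsg.qd p) ↥(alternatingGroup (Fin n)) := by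
    rintro hn ⟨K, R, hR, ⟨e⟩⟩
    obtain ⟨W, hW, hWc⟩ := exists_noncomm_pgroup_qd p
    obtain ⟨P, hP⟩ := hW.exists_le_sylow
    let π : K →* ↥(Cfsg.qd p) := e.toMonoidHom.comp (QuotientGroup.mk' _)
    have hπ : Function.Surjective π := e.surjective.comp (QuotientGroup.mk'_surjective _)
    obtain ⟨Q, hQ⟩ := Sylow.mapSurjective_surjective hπ p P
    let ι : K →* Equiv.Perm (Fin n) := (alternatingGroup (Fin n)).subtype.comp K.subtype
    have hι : Function.Injective ι := Subtype.val_injective.comp Subtype.val_injective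
    have hQc : ∀ a ∈ (Q : Subgroup K), ∀ b ∈ (Q : Subgroup K), a * b = b * a := fun a ha b hb => by
      have hc := isMulCommutative_of_lt_sq (p := p) (by simpa using hn) (Q.2.map ι)
      exact hι (by
        rw [map_mul, map_mul]
        exact Cfsg.Agent.PGroupsBasic.comm_of_isMulCommutative hc (mem_map_of_mem ι ha) (mem_map_of_mem ι hb))
    refine hWc (Cfsg.Agent.PGroupsBasic.isMulCommutative_of_forall fun x hx y hy => ?_)
    have hx' : x ∈ ((Q.mapSurjective hπ : Sylow p ↥(Cfsg.qd p)) : Subgroup ↥(Cfsg.qd p)) := by rw [hQ]; exact hP hx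
    have hy' : y ∈ ((Q.mapSurjective hπ : Sylow p ↥(Cfsg.qd p)) : Subgroup ↥(Cfsg.qd p)) := by rw [hQ]; exact hP hy
    obtain ⟨a, ha, rfl⟩ := hx'
    obtain ⟨b, hb, rfl⟩ := hy'
    rw [← map_mul, ← map_mul, hQc a ha b hb]
  refine ⟨⟨?_, fun hn => ?_⟩, hno⟩
  · rintro ⟨H, ⟨e⟩⟩
    by_contra hn
    refine hno (not_le.mp hn) ⟨H, ⊥, inferInstance, ?_⟩
    exact ⟨((QuotientGroup.quotientMulEquivOfEq (Subgroup.bot_subgroupOf (H := H))).trans
      QuotientGroup.quotientBot).trans e⟩
  · obtain ⟨emb⟩ : Nonempty ((Fin 2 → ZMod p) ↪ Fin n) :=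
      Function.Embedding.nonempty_of_card_le (by simpa using hn)
    let g : ↥(Cfsg.qdOver (ZMod p)) →* Equiv.Perm (Fin n) := (Equiv.Perm.viaEmbeddingHom emb).comp act
    have hg : Function.Injective g :=
      (Equiv.Perm.viaEmbeddingHom_injective emb).comp act_injective
    have hmem : ∀ M, g M ∈ alternatingGroup (Fin n) := fun M =>
      Equiv.Perm.mem_alternatingGroup.mpr (hom_units_eq_one hp2 (Equiv.Perm.sign.comp g) M)
    exact ⟨(g.codRestrict _ hmem).range,
      ⟨(MonoidHom.ofInjective (MonoidHom.injective_codRestrict g _ hmem |>.mpr hg)).symm⟩⟩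

end Cfsg.Agent.S3835
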