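import Cfsg.Statements.S4231
import Cfsg.Agent.S2119
import Cfsg.Agent.S3835
import Cfsg.Agent.Lib.PGroupsBasic

set_option autoImplicit false
open Cfsg

namespace Cfsg.Agent.S4231

open Equiv Equiv.Perm Cfsg.Agent.S2119

theorem exists_conjNormal_eq (n : ℕ) (hn : 4 ≤ n) (φ : MulAut ↥(alternatingGroup (Fin n))) (hφ : ∀ x : alternatingGroup (Fin n), (x : Perm (Fin n)).IsThreeCycle → (φ x : Perm (Fin n)).IsThreeCycle) : ∃ σ : Perm (Fin n), MulAut.conjNormal σ = φ := by
  obtain ⟨m, rfl⟩ : ∃ m, n = m + 4 := ⟨n - 4, by omega⟩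
  let t : Fin (m + 4) := 0
  let u : Fin (m + 4) := 1
  have htu : t ≠ u := Fin.zero_ne_one
  -- the generators
  have hXc : ∀ i : Fin (m + 4), i ≠ t → i ≠ u → (swap t u * swap u i).IsThreeCycle := by
    intro i hit hiu
    rw [swap_comm t u]
    exact isThreeCycle_swap_mul_swap_same (Ne.symm htu) (Ne.symm hiu) (Ne.symm hit)
  let X : ∀ i : Fin (m + 4), i ≠ t → i ≠ u → alternatingGroup (Fin (m + 4)) :=
    fun i hit hiu => ⟨swap t u * swap u i, (hXc i hit hiu).mem_alternatingGroup⟩
  have hXinj : ∀ i hi hi' j hj hj', i ≠ j → X i hi hi' ≠ X j hj hj' := by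
    intro i hi hi' j hj hj' hij he
    have := congrArg (fun g : alternatingGroup _ => (g : Perm (Fin (m + 4))) u) he
    simp [X, swap_apply_of_ne_of_ne hi hi', swap_apply_of_ne_of_ne hj hj', hij] at this
  let Y : ∀ i : Fin (m + 4), i ≠ t → i ≠ u → Perm (Fin (m + 4)) :=
    fun i hi hi' => φ (X i hi hi')
  have hY : ∀ i hi hi', (Y i hi hi').IsThreeCycle := fun i hi hi' =>
    hφ _ (hXc i hi hi')
  have hpair : ∀ i hi hi' j hj hj', i ≠ j → ∃ a, Y i hi hi' a ≠ a ∧ Y i hi hi' a = Y j hj hj' a := by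
    intro i hi hi' j hj hj' hij
    have hd : Disjoint (swap t i) (swap u j) := fun z => by
      by_cases h1 : z = t
      · subst h1; exact Or.inr (swap_apply_of_ne_of_ne htu (Ne.symm hj))
      by_cases h2 : z = i
      · subst h2; exact Or.inr (swap_apply_of_ne_of_ne hi' hij)
      exact Or.inl (swap_apply_of_ne_of_ne h1 h2)
    have hprod : ((X i hi hi' * X j hj hj' : alternatingGroup _) : Perm (Fin (m + 4))) =
        swap t i * swap u j := by
      show swap t u * swap u i * (swap t u * swap u j) = _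
      have e := Equiv.swap_apply_apply (swap t u) u i
      rw [swap_apply_right, swap_apply_of_ne_of_ne hi hi', swap_inv] at e
      rw [e]; simp only [mul_assoc]
    have h2 : (X i hi hi' * X j hj hj') * (X i hi hi' * X j hj hj') = 1 := by
      apply Subtype.ext
      rw [Subgroup.coe_mul, hprod, Subgroup.coe_one, mul_assoc, ← mul_assoc (swap u j),
        ← hd.commute.eq, mul_assoc, swap_mul_self, mul_one, swap_mul_self]
    refine exists_shared_edge (hY i hi hi') (hY j hj hj') ?_ ?_
    · simp only [Y, ← Subgroup.coe_mul, ← map_mul, h2, map_one, Subgroup.coe_one]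
    · simp only [Y, ← Subgroup.coe_mul, ← map_mul, ne_eq, OneMemClass.coe_eq_one,
        MulEquiv.map_eq_one_iff]
      intro he
      have := congrArg (fun g : alternatingGroup _ => (g : Perm (Fin (m + 4))) j) he
      simp only [hprod, Subgroup.coe_one, mul_apply, one_apply, swap_apply_right,
        swap_apply_of_ne_of_ne (Ne.symm htu) (Ne.symm hi')] at this
      exact hj' this.symm
  -- two distinguished indices
  let i0 : Fin (m + 4) := ⟨2, by omega⟩
  let j0 : Fin (m + 4) := ⟨3, by omega⟩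
  have hi0 : i0 ≠ t ∧ i0 ≠ u ∧ j0 ≠ t ∧ j0 ≠ u ∧ i0 ≠ j0 := by
    simp [i0, j0, t, u, Fin.ext_iff]
  obtain ⟨hi0t, hi0u, hj0t, hj0u, hij0⟩ := hi0
  obtain ⟨a, ha, haz⟩ := hpair i0 hi0t hi0u j0 hj0t hj0u hij0
  have hinjY : ∀ i hi hi' j hj hj', i ≠ j → Y i hi hi' ≠ Y j hj hj' := by
    intro i hi hi' j hj hj' hij he
    exact hXinj i hi hi' j hj hj' hij (φ.injective (Subtype.ext he))
  set b := Y i0 hi0t hi0u a with hb
  have hall : ∀ i hi hi', Y i hi hi' a = b := by
    intro i hi hi'
    by_cases h1 : i = i0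
    · subst h1; rfl
    by_cases h2 : i = j0
    · subst h2; exact haz.symm
    obtain ⟨e, he, hew⟩ := hpair i0 hi0t hi0u i hi hi' (Ne.symm h1)
    obtain ⟨f, hf, hfw⟩ := hpair j0 hj0t hj0u i hi hi' (Ne.symm h2)
    exact shared_edge_all (hY i0 hi0t hi0u) (hY j0 hj0t hj0u) (hY i hi hi')
      (hinjY i0 hi0t hi0u j0 hj0t hj0u hij0) ha haz he hew hf hfw
  have p3 : ∀ (w : Perm (Fin (m + 4))), w.IsThreeCycle → ∀ x, w (w (w x)) = x := fun w hw x => by
    have := pow_orderOf_eq_one w
    rw [hw.orderOf] at this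
    simpa [pow_succ] using congrArg (fun f : Perm _ => f x) this
  have hab : a ≠ b := Ne.symm ha
  -- the permutation
  let s : Fin (m + 4) → Fin (m + 4) := fun i =>
    if hi : i = t then a else if hi' : i = u then b else Y i hi hi' b
  have hst : s t = a := by simp [s]
  have hsu : s u = b := by simp [s, Ne.symm htu]
  have hsi : ∀ i (hi : i ≠ t) (hi' : i ≠ u), s i = Y i hi hi' b := fun i hi hi' => by simp [s, hi, hi']
  have hne_a : ∀ i, i ≠ t → i ≠ u → s i ≠ a ∧ s i ≠ b := by
    intro i hi hi'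
    rw [hsi i hi hi']
    constructor
    · intro h
      have := p3 _ (hY i hi hi') a
      rw [hall i hi hi', h, hall i hi hi'] at this
      exact hab this.symm
    · intro h
      exact hab ((Y i hi hi').injective ((hall i hi hi').trans h.symm))
  have hyeq : ∀ i (hi : i ≠ t) (hi' : i ≠ u), Y i hi hi' = swap a b * swap b (s i) := by
    intro i hi hi'
    obtain ⟨n1, n2⟩ := hne_a i hi hi'
    have hc : Y i hi hi' (s i) = a := by
      rw [hsi i hi hi', ← hall i hi hi']
      exact p3 _ (hY i hi hi') a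
    ext z : 1
    simp only [mul_apply]
    by_cases za : z = a
    · subst za; rw [hall i hi hi']; simp [swap_apply_of_ne_of_ne hab (Ne.symm n1)]
    by_cases zb : z = b
    · subst zb; rw [← hsi i hi hi']; simp [swap_apply_of_ne_of_ne n1 n2]
    by_cases zc : z = s i
    · subst zc; rw [hc]; simp
    rw [swap_apply_of_ne_of_ne zb zc, swap_apply_of_ne_of_ne za zb]
    by_contra hz
    exact four_moved (hY i hi hi') (a := a) (b := b) (c := s i) (d := z)
      (by rw [hall i hi hi']; exact Ne.symm hab) (by rw [← hsi i hi hi']; exact n2)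
      (by rw [hc]; exact Ne.symm n1) hz hab (Ne.symm n1) (Ne.symm za) (Ne.symm n2) (Ne.symm zb)
      (Ne.symm zc)
  have hs : Function.Injective s := by
    intro i j h
    by_cases hit : i = t
    · by_cases hjt : j = t
      · rw [hit, hjt]
      by_cases hju : j = u
      · rw [hit, hju, hst, hsu] at h; exact absurd h hab
      exact absurd (hit ▸ h : s t = s j) (by rw [hst]; exact Ne.symm (hne_a j hjt hju).1)
    by_cases hiu : i = u
    · by_cases hjt : j = t
      · rw [hiu, hjt, hsu, hst] at h; exact absurd h.symm hab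
      by_cases hju : j = u
      · rw [hiu, hju]
      exact absurd (hiu ▸ h : s u = s j) (by rw [hsu]; exact Ne.symm (hne_a j hjt hju).2)
    by_cases hjt : j = t
    · exact absurd (hjt ▸ h : s i = s t) (by rw [hst]; exact (hne_a i hit hiu).1)
    by_cases hju : j = u
    · exact absurd (hju ▸ h : s i = s u) (by rw [hsu]; exact (hne_a i hit hiu).2)
    by_contra hne
    exact hinjY i hit hiu j hjt hju hne (by rw [hyeq i hit hiu, hyeq j hjt hju, h])
  let σ : Perm (Fin (m + 4)) := Equiv.ofBijective s (Finite.injective_iff_bijective.1 hs)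
  refine ⟨σ, ?_⟩
  have hgen : ∀ i (hi : i ≠ t) (hi' : i ≠ u), ((MulAut.conjNormal σ : MulAut _) (X i hi hi')) = φ (X i hi hi') := by
    intro i hi hi'
    apply Subtype.ext
    show _ = Y i hi hi'
    rw [MulAut.conjNormal_apply, hyeq i hi hi']
    show σ * (swap t u * swap u i) * σ⁻¹ = _
    rw [← hst, ← hsu]
    show σ * (swap t u * swap u i) * σ⁻¹ = swap (σ t) (σ u) * swap (σ u) (σ i)
    rw [Equiv.swap_apply_apply, Equiv.swap_apply_apply]
    group
  -- the subgroup where they agree
  let E : Subgroup (Perm (Fin (m + 4))) :=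
    (MonoidHom.eqLocus ((MulAut.conjNormal σ : MulAut (alternatingGroup (Fin (m + 4)))) : _ ≃* _).toMonoidHom
      φ.toMonoidHom).map (alternatingGroup (Fin (m + 4))).subtype
  let H : Subgroup (Perm (Fin (m + 4))) :=
    Subgroup.closure {g | ∃ i, ∃ hi : i ≠ t, ∃ hi' : i ≠ u, g = (X i hi hi' : Perm (Fin (m + 4)))}
  have hHE : H ≤ E := by
    rw [Subgroup.closure_le]
    rintro _ ⟨i, hi, hi', rfl⟩
    exact ⟨X i hi hi', hgen i hi hi', rfl⟩
  have hHA : H ≤ alternatingGroup (Fin (m + 4)) := by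
    rw [Subgroup.closure_le]
    rintro _ ⟨i, hi, hi', rfl⟩
    exact (X i hi hi').2
  set τ := swap t u with hτ
  have hτ2 : τ * τ = 1 := swap_mul_self t u
  have hconj : ∀ g ∈ H, τ * g * τ ∈ H := by
    intro g hg
    induction hg using Subgroup.closure_induction with
    | mem g hg =>
      obtain ⟨i, hi, hi', rfl⟩ := hg
      have : τ * (X i hi hi' : Perm (Fin (m + 4))) * τ = (X i hi hi' : Perm (Fin (m + 4)))⁻¹ := by
        show τ * (τ * swap u i) * τ = (τ * swap u i)⁻¹
        rw [← mul_assoc τ τ, hτ2, one_mul, mul_inv_rev, swap_inv, swap_inv]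
      rw [this]
      exact H.inv_mem (Subgroup.subset_closure ⟨i, hi, hi', rfl⟩)
    | one => rw [mul_one, hτ2]; exact H.one_mem
    | mul g g' _ _ h h' =>
      have : τ * (g * g') * τ = (τ * g * τ) * (τ * g' * τ) := by
        simp only [mul_assoc]; rw [← mul_assoc τ τ, hτ2, one_mul]
      rw [this]; exact H.mul_mem h h'
    | inv g _ h =>
      have : τ * g⁻¹ * τ = (τ * g * τ)⁻¹ := by
        rw [mul_inv_rev, mul_inv_rev, inv_eq_of_mul_eq_one_right hτ2, mul_assoc]
      rw [this]; exact H.inv_mem h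
  let T : Subgroup (Perm (Fin (m + 4))) :=
    { carrier := {g | g ∈ H ∨ g * τ ∈ H}
      one_mem' := Or.inl H.one_mem
      mul_mem' := by
        rintro g g' (h | h) (h' | h')
        · exact Or.inl (H.mul_mem h h')
        · right; rw [mul_assoc]; exact H.mul_mem h h'
        · right
          have : g * g' * τ = (g * τ) * (τ * g' * τ) := by
            simp only [mul_assoc]; rw [← mul_assoc τ τ, hτ2, one_mul]
          rw [this]; exact H.mul_mem h (hconj _ h')
        · left
          have : g * g' = (g * τ) * (τ * (g' * τ) * τ) := by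
            simp only [mul_assoc, hτ2, mul_one]; rw [← mul_assoc τ τ, hτ2, one_mul]
          rw [this]; exact H.mul_mem h (hconj _ h')
      inv_mem' := by
        rintro g (h | h)
        · exact Or.inl (H.inv_mem h)
        · right
          have : g⁻¹ * τ = τ * (g * τ)⁻¹ * τ := by
            rw [mul_inv_rev, ← mul_assoc τ, inv_eq_of_mul_eq_one_right hτ2, hτ2, one_mul]
          rw [this]; exact hconj _ (H.inv_mem h) }
  have hT : T = ⊤ := by
    refine closure_swaps t u htu T fun i hi => ?_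
    by_cases hit : i = t
    · subst hit
      right
      rw [swap_comm u t, ← hτ, hτ2]
      exact H.one_mem
    · right
      have hx : (X i hit hi : Perm (Fin (m + 4))) ∈ H := Subgroup.subset_closure ⟨i, hit, hi, rfl⟩
      have := hconj _ hx
      have e : τ * (X i hit hi : Perm (Fin (m + 4))) * τ = swap u i * τ := by
        show τ * (τ * swap u i) * τ = _
        rw [← mul_assoc τ τ, hτ2, one_mul]
      rwa [e] at this
  apply MulEquiv.ext
  intro g
  have hg : (g : Perm (Fin (m + 4))) ∈ T := hT ▸ Subgroup.mem_top _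
  rcases hg with hg | hg
  · obtain ⟨g', hg', he⟩ := hHE hg
    rw [Subgroup.coe_subtype] at he
    have := Subtype.ext he
    subst this
    exact hg'
  · exfalso
    have := mem_alternatingGroup.1 (hHA hg)
    rw [Equiv.Perm.sign_mul, mem_alternatingGroup.1 g.2, hτ, sign_swap htu] at this
    norm_num at this



theorem isThreeCycle_or {σ : Perm (Fin 6)} (h : orderOf σ = 3) :
    σ.IsThreeCycle ∨ σ.cycleType = {3, 3} := by
  obtain ⟨j, hk⟩ := cycleType_prime_order (σ := σ) (by rw [h]; exact Nat.prime_three)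
  rw [h] at hk
  have hs := sum_cycleType σ
  rw [hk, Multiset.sum_replicate, smul_eq_mul] at hs
  have hle := Finset.card_le_univ σ.support
  simp only [Fintype.card_fin] at hle
  have hj : j + 1 = 1 ∨ j + 1 = 2 := by omega
  rcases hj with hj | hj <;> rw [hj] at hk
  · exact Or.inl (by simpa [IsThreeCycle] using hk)
  · exact Or.inr (by simpa [Multiset.replicate_succ] using hk)

theorem exists_conj_sq (φ : MulAut (alternatingGroup (Fin 6))) :
    ∀ x : alternatingGroup (Fin 6), (x : Perm (Fin 6)).IsThreeCycle →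
      ((φ * φ) x : Perm (Fin 6)).IsThreeCycle := by
  classical
  set C := Finset.univ.filter fun x : alternatingGroup (Fin 6) => (x : Perm (Fin 6)).IsThreeCycle
  set D := Finset.univ.filter fun x : alternatingGroup (Fin 6) => (x : Perm (Fin 6)).cycleType = {3, 3}
  have hord : ∀ (ψ : MulAut (alternatingGroup (Fin 6))) (x : alternatingGroup (Fin 6)),
      orderOf (x : Perm (Fin 6)) = 3 → orderOf (ψ x : Perm (Fin 6)) = 3 := fun ψ x h => by
    rw [Subgroup.orderOf_coe, MulEquiv.orderOf_eq, ← Subgroup.orderOf_coe, h]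
  have hside : ∀ (ψ : MulAut (alternatingGroup (Fin 6))) (x y : alternatingGroup (Fin 6)),
      x ∈ C → y ∈ C → (ψ x : Perm (Fin 6)).IsThreeCycle → (ψ y : Perm (Fin 6)).IsThreeCycle := by
    intro ψ x y hx hy h
    obtain ⟨c, hc⟩ := isConj_iff.mp (alternatingGroup.isThreeCycle_isConj (by simp)
      (Finset.mem_filter.mp hx).2 (Finset.mem_filter.mp hy).2)
    have h2 : (ψ y).1.cycleType = (ψ x).1.cycleType := by
      rw [← hc, map_mul, map_mul, map_inv, Subgroup.coe_mul, Subgroup.coe_mul, Subgroup.coe_inv,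
        cycleType_conj]
    exact h2.trans h
  intro x hx
  show (φ (φ x) : Perm (Fin 6)).IsThreeCycle
  have hxC : x ∈ C := Finset.mem_filter.mpr ⟨Finset.mem_univ _, hx⟩
  rcases isThreeCycle_or (hord φ x hx.orderOf) with h1 | h1
  · exact hside φ x _ hxC (Finset.mem_filter.mpr ⟨Finset.mem_univ _, h1⟩) h1
  by_contra h2
  have hno : ∀ y ∈ C, φ y ∈ D := by
    intro y hy
    have hy' := (Finset.mem_filter.mp hy).2
    rcases isThreeCycle_or (hord φ y hy'.orderOf) with h | h
    · exfalso
      have := hside φ y x hy hxC h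
      rw [IsThreeCycle, h1] at this
      exact absurd this (by decide)
    · exact Finset.mem_filter.mpr ⟨Finset.mem_univ _, h⟩
  have hcard : ∀ m : Multiset ℕ, (Even (m.sum + Multiset.card m)) →
      (Finset.univ.filter fun x : alternatingGroup (Fin 6) => (x : Perm (Fin 6)).cycleType = m).card =
      (Finset.univ.filter fun x : Perm (Fin 6) => x.cycleType = m).card := by
    intro m hm
    refine Finset.card_bij (fun a _ => (a : Perm (Fin 6))) (fun a ha => by simpa using ha)
      (fun a _ b _ h => Subtype.ext h) fun b hb => ⟨⟨b, ?_⟩, by simpa using hb, rfl⟩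
    rw [mem_alternatingGroup, sign_of_cycleType, (Finset.mem_filter.mp hb).2]
    exact hm.neg_one_pow
  have hCD : D.card ≤ C.card := by
    have hC3 : C = Finset.univ.filter fun x : alternatingGroup (Fin 6) =>
        (x : Perm (Fin 6)).cycleType = {3} := Finset.filter_congr fun x _ => Iff.rfl
    rw [hC3, hcard _ (by decide), hcard _ (by decide), card_of_cycleType, card_of_cycleType]
    decide
  have himg : C.image φ = D := Finset.eq_of_subset_of_card_le
    (fun z hz => by obtain ⟨y, hy, rfl⟩ := Finset.mem_image.mp hz; exact hno y hy)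
    (by rw [Finset.card_image_of_injective _ φ.injective]; exact hCD)
  rcases isThreeCycle_or (hord φ _ (hord φ x hx.orderOf)) with h3 | h3
  · exact h2 h3
  have : φ (φ x) ∈ D := Finset.mem_filter.mpr ⟨Finset.mem_univ _, h3⟩
  rw [← himg, Finset.mem_image] at this
  obtain ⟨y, hy, hye⟩ := this
  rw [← φ.injective hye] at h1
  have hy' := (Finset.mem_filter.mp hy).2
  rw [IsThreeCycle, h1] at hy'
  exact absurd hy' (by decide)

theorem mem_range_of_odd {n : ℕ} (hn : 5 ≤ n) (φ : MulAut (alternatingGroup (Fin n)))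
    (ho : Odd (orderOf φ)) : φ ∈ (MulAut.conjNormal : Perm (Fin n) →* MulAut (alternatingGroup (Fin n))).range := by
  rcases eq_or_ne n 6 with rfl | h6
  · obtain ⟨k, hk⟩ := ho
    have h2 : φ = (φ * φ) ^ (k + 1) := by
      rw [← pow_two, ← pow_mul, show 2 * (k + 1) = (2 * k + 1) + 1 by ring, pow_succ, ← hk,
        pow_orderOf_eq_one, one_mul]
    rw [h2]
    exact pow_mem (exists_conjNormal_eq 6 (by omega) (φ * φ) (exists_conj_sq φ)) _
  · exact exists_conjNormal_eq n (by omega) φ (map_threeCycle (by omega) h6 φ)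

theorem conjNormal_injective {n : ℕ} (hn : 4 ≤ n) :
    Function.Injective (MulAut.conjNormal : Perm (Fin n) →* MulAut (alternatingGroup (Fin n))) := by
  rw [injective_iff_map_eq_one]
  intro σ hσ
  refine eq_one_of_commute_threeCycles hn fun g hg => ?_
  have := congrArg (fun ψ : MulAut _ => ((ψ ⟨g, hg.mem_alternatingGroup⟩ :
    alternatingGroup (Fin n)) : Perm (Fin n))) hσ
  simpa [MulAut.conjNormal_apply] using this

theorem abelian_of_lt_sq {n : ℕ} (hn : 5 ≤ n) (G : Subgroup (MulAut (alternatingGroup (Fin n))))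
    {q : ℕ} [hq : Fact q.Prime] (hq2 : q ≠ 2) (hlt : n < q ^ 2) (Q : Sylow q G) :
    IsMulCommutative (Q : Subgroup G) := by
  let c : Perm (Fin n) →* MulAut (alternatingGroup (Fin n)) := MulAut.conjNormal
  have hc : Function.Injective c := conjNormal_injective (by omega)
  have hQp : IsPGroup q ((Q : Subgroup G).map G.subtype) := Q.isPGroup'.map _
  have hP : IsPGroup q (((Q : Subgroup G).map G.subtype).comap c) := hQp.comap_of_injective c hc
  have hab := Cfsg.Agent.S3835.isMulCommutative_of_lt_sq (p := q) (by simpa using hlt) hP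
  have hlift : ∀ a ∈ (Q : Subgroup G), ∃ σ ∈ ((Q : Subgroup G).map G.subtype).comap c, c σ = (a : G).1 := by
    intro a ha
    have hodd : Odd (orderOf (a : G).1) := by
      obtain ⟨k, hk⟩ := Q.isPGroup' ⟨a, ha⟩
      have hk' : (a : G).1 ^ q ^ k = 1 := congrArg (fun z : (Q : Subgroup G) => ((z : G) : MulAut (alternatingGroup (Fin n)))) hk
      exact Odd.of_dvd_nat ((hq.out.odd_of_ne_two hq2).pow) (orderOf_dvd_of_pow_eq_one hk')
    obtain ⟨σ, hσ⟩ := mem_range_of_odd hn _ hodd
    exact ⟨σ, ⟨a, ha, hσ.symm⟩, hσ⟩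
  refine Cfsg.Agent.PGroupsBasic.isMulCommutative_of_forall fun a ha b hb => ?_
  obtain ⟨σ, hσ, hσa⟩ := hlift a ha
  obtain ⟨τ, hτ, hτb⟩ := hlift b hb
  refine Subtype.ext ?_
  rw [Subgroup.coe_mul, Subgroup.coe_mul, ← hσa, ← hτb, ← map_mul, ← map_mul,
    Cfsg.Agent.PGroupsBasic.comm_of_isMulCommutative hab hσ hτ]

theorem exists_order {n : ℕ} (hn : 5 ≤ n) (G : Subgroup (MulAut (alternatingGroup (Fin n))))
    (hG : (MulAut.conj : alternatingGroup (Fin n) →* MulAut (alternatingGroup (Fin n))).range ≤ G)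
    {a b : ℕ} (x : Perm (Fin a)) (y : Perm (Fin b)) (hx : sign x = 1) (hy : sign y = 1) (hab : a + b ≤ n) :
    ∃ g : G, orderOf g = Nat.lcm (orderOf x) (orderOf y) := by
  let e : (Fin a ⊕ Fin b) ↪ Fin n :=
    finSumFinEquiv.toEmbedding.trans (Fin.castLEEmb hab)
  let z : Perm (Fin n) := viaEmbeddingHom e (sumCongrHom _ _ (x, y))
  have hz : z ∈ alternatingGroup (Fin n) := by
    rw [mem_alternatingGroup]
    show sign (Equiv.Perm.viaEmbedding (Equiv.sumCongr x y) e) = 1
    rw [Equiv.Perm.viaEmbedding, sign_extendDomain, sign_sumCongr, hx, hy, one_mul]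
  refine ⟨⟨MulAut.conj ⟨z, hz⟩, hG ⟨_, rfl⟩⟩, ?_⟩
  have he : MulAut.conj (⟨z, hz⟩ : alternatingGroup (Fin n)) = MulAut.conjNormal z := by
    ext w; simp [MulAut.conjNormal_apply]
  rw [Subgroup.orderOf_mk, he, orderOf_injective _ (conjNormal_injective (by omega))]
  show orderOf (viaEmbeddingHom e _) = _
  rw [orderOf_injective _ (viaEmbeddingHom_injective e), orderOf_injective _ sumCongrHom_injective,
    Prod.orderOf]

theorem exists_cycle {p : ℕ} (hp : p.Prime) (hp2 : p ≠ 2) :
    ∃ x : Perm (Fin p), sign x = 1 ∧ orderOf x = p := by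
  obtain ⟨m, rfl⟩ : ∃ m, p = m + 2 := ⟨p - 2, by have := hp.two_le; omega⟩
  refine ⟨finRotate (m + 2), ?_, ?_⟩
  · rw [sign_finRotate]
    obtain ⟨k, hk⟩ := hp.odd_of_ne_two hp2
    exact Even.neg_one_pow ⟨k, by omega⟩
  · rw [← lcm_cycleType, cycleType_finRotate]
    simp

theorem exists_double : ∃ x : Perm (Fin 4), sign x = 1 ∧ orderOf x = 2 :=
  ⟨swap 0 1 * swap 2 3, by decide, orderOf_eq_prime (by decide) (by decide)⟩
/-- Let n ≥ 5 and let G be a group of automorphisms of the alternating group of degree n containing all inner automorphisms. If p ≠ q are primes and G has no element of order pq, then every Sylow p-subgroup of G is abelian or every Sylow q-subgroup of G is abelian. -/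
theorem result (n : ℕ) (hn : 5 ≤ n) (G : Subgroup (MulAut (alternatingGroup (Fin n))))
    (hG : (MulAut.conj : alternatingGroup (Fin n) →* MulAut (alternatingGroup (Fin n))).range ≤ G)
    (p q : ℕ) [Fact p.Prime] [Fact q.Prime] (hpq : p ≠ q) (h : ∀ g : G, orderOf g ≠ p * q) :
    (∀ P : Sylow p G, IsMulCommutative (P : Subgroup G)) ∨ (∀ Q : Sylow q G, IsMulCommutative (Q : Subgroup G)) := by
  by_contra hcon
  simp only [not_or, not_forall] at hcon
  obtain ⟨⟨P, hP⟩, ⟨Q, hQ⟩⟩ := hcon
  have hlcm : ∀ a b : ℕ, a.Prime → b.Prime → a ≠ b → Nat.lcm a b = a * b := fun a b ha hb hne =>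
    ((Nat.coprime_primes ha hb).mpr hne).lcm_eq_mul
  have hpp := (Fact.out : p.Prime)
  have hqq := (Fact.out : q.Prime)
  rcases eq_or_ne p 2 with hp2 | hp2
  · have hq2 : q ≠ 2 := fun h => hpq (hp2.trans h.symm)
    obtain ⟨y, hy, hyo⟩ := exists_cycle hqq hq2
    obtain ⟨x, hx, hxo⟩ := exists_double
    have hn2 : q ^ 2 ≤ n := not_lt.mp fun hlt => hQ (abelian_of_lt_sq hn G hq2 hlt Q)
    have h3 : 3 ≤ q := by have := hqq.two_le; omega
    obtain ⟨g, hg⟩ := exists_order hn G hG x y hx hy (by nlinarith)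
    rw [hxo, hyo, hlcm 2 q Nat.prime_two hqq (Ne.symm hq2)] at hg
    exact h g (by rw [hg, hp2])
  have hn1 : p ^ 2 ≤ n := not_lt.mp fun hlt => hP (abelian_of_lt_sq hn G hp2 hlt P)
  have h3 : 3 ≤ p := by have := hpp.two_le; omega
  obtain ⟨x, hx, hxo⟩ := exists_cycle hpp hp2
  rcases eq_or_ne q 2 with hq2 | hq2
  · obtain ⟨y, hy, hyo⟩ := exists_double
    obtain ⟨g, hg⟩ := exists_order hn G hG x y hx hy (by nlinarith)
    rw [hxo, hyo, hlcm p 2 hpp Nat.prime_two hp2] at hg
    exact h g (by rw [hg, hq2])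
  · have hn2 : q ^ 2 ≤ n := not_lt.mp fun hlt => hQ (abelian_of_lt_sq hn G hq2 hlt Q)
    obtain ⟨y, hy, hyo⟩ := exists_cycle hqq hq2
    have h4 : 3 ≤ q := by have := hqq.two_le; omega
    obtain ⟨g, hg⟩ := exists_order hn G hG x y hx hy (by
      rcases le_total p q with hle | hle <;> nlinarith)
    rw [hxo, hyo, hlcm p q hpp hqq hpq] at hg
    exact h g hg

end Cfsg.Agent.S4231
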