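import Cfsg.Statements.S0981
import Cfsg.Agent.Lib.Simple4080
import Cfsg.Agent.Lib.PSLSimple
import Cfsg.Agent.Lib.PSLCard

set_option autoImplicit false
open Cfsg

namespace Cfsg.Agent.S0981

/-- A simple group of order 4080 is isomorphic to the projective special linear group of dimension 2 over the field with 16 elements. -/
theorem result {G : Type*} [Group G] [Finite G] [IsSimpleGroup G] (h : Nat.card G = 4080) {F : Type*} [Field F] [Fintype F] (hF : Fintype.card F = 16) : Nonempty (G ≃* Matrix.ProjectiveSpecialLinearGroup (Fin 2) F) := by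
  have hF' : Nat.card F = 16 := Nat.card_eq_fintype_card.trans hF
  have hs := Cfsg.Agent.PSLSimple.isSimpleGroup_PSL_fin' (F := F) (n := 2) le_rfl
    (fun _ => by omega)
  have hc : Nat.card (Matrix.ProjectiveSpecialLinearGroup (Fin 2) F) = 4080 := by
    rw [Cfsg.Agent.PSLCard.card_PSL2_even (by rw [hF']; decide), hF']
    norm_num
  obtain ⟨e⟩ := Cfsg.Agent.Simple4080.nonempty_equiv_model h
  obtain ⟨f⟩ := Cfsg.Agent.Simple4080.nonempty_equiv_model hc
  exact ⟨e.trans f.symm⟩

end Cfsg.Agent.S0981
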