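import Cfsg.Statements.S4774
import Cfsg.Agent.Lib.SL2DegreeSets

set_option autoImplicit false
open Cfsg

namespace Cfsg.Agent.S4774


/-- Let F be a finite field of odd characteristic t with q > 5 elements and let S be isomorphic to PSL(2,F) or to SL(2,F). Then the vertices of the character degree graph of S are the primes dividing q(q²−1); the prime t is adjacent to no vertex; two distinct primes dividing q² − 1 are adjacent exactly when one of them is 2, or both divide q + 1, or both divide q − 1. -/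
theorem result (F : Type*) [Field F] [Fintype F] (t : ℕ) [Fact t.Prime] [CharP F t] (ht : t ≠ 2) (q : ℕ) (hq : Fintype.card F = q) (h5 : 5 < q) {S : Type*} [Group S] [Finite S] (hS : Nonempty (S ≃* Matrix.ProjectiveSpecialLinearGroup (Fin 2) F) ∨ Nonempty (S ≃* Matrix.SpecialLinearGroup (Fin 2) F)) : Cfsg.degreePrimes S = {r : ℕ | r.Prime ∧ r ∣ q * (q ^ 2 - 1)} ∧ ∀ r s : ℕ, (Cfsg.degreeGraph S).Adj r s ↔ (r ≠ s ∧ r.Prime ∧ s.Prime ∧ r ∣ q ^ 2 - 1 ∧ s ∣ q ^ 2 - 1 ∧ (r = 2 ∨ s = 2 ∨ (r ∣ q + 1 ∧ s ∣ q + 1) ∨ (r ∣ q - 1 ∧ s ∣ q - 1))) := by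
  classical
  obtain ⟨n, hpn, hn⟩ := FiniteField.card F t
  subst hq
  have hodd : Odd (Fintype.card F) := by
    rw [hn]
    exact ((hpn.odd_of_ne_two ht)).pow
  have hall : (∀ d ∈ charDegrees S,
      d ∣ Fintype.card F ∨ d ∣ Fintype.card F + 1 ∨ d ∣ Fintype.card F - 1) ∧
      ∀ d ∈ ({Fintype.card F, Fintype.card F + 1, Fintype.card F - 1} : Set ℕ),
        d ∈ charDegrees S := by
    rcases hS with ⟨⟨e⟩⟩ | ⟨⟨e⟩⟩
    · rw [SL2DegreeSets.charDegrees_congr e]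
      exact SL2DegreeSets.odd_degrees_psl hodd h5
    · rw [SL2DegreeSets.charDegrees_congr e]
      refine ⟨(SL2DegreeSets.odd_degrees hodd h5).1, fun d hd => ?_⟩
      obtain ⟨χ, hχ, -⟩ := (SL2DegreeSets.odd_degrees hodd h5).2 d hd
      exact ⟨χ, hχ⟩
  obtain ⟨h1, h2⟩ := SL2DegreeSets.graph_of hpn n.pos hn hall.1 (hall.2 _ (by simp))
    (hall.2 _ (by simp)) (hall.2 _ (by simp))
  refine ⟨h1, fun r s => (h2 r s).trans ?_⟩
  have hfac : Fintype.card F ^ 2 - 1 = (Fintype.card F + 1) * (Fintype.card F - 1) := by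
    simpa using Nat.sq_sub_sq (Fintype.card F) 1
  obtain ⟨k, hk⟩ := hodd
  have two1 : 2 ∣ Fintype.card F + 1 := ⟨k + 1, by omega⟩
  have two2 : 2 ∣ Fintype.card F - 1 := ⟨k, by omega⟩
  rw [hfac]
  constructor
  · rintro ⟨hne, hr, hs, hc⟩
    rcases hc with ⟨a, b⟩ | ⟨a, b⟩
    · exact ⟨hne, hr, hs, a.mul_right _, b.mul_right _, Or.inr (Or.inr (Or.inl ⟨a, b⟩))⟩
    · exact ⟨hne, hr, hs, a.mul_left _, b.mul_left _, Or.inr (Or.inr (Or.inr ⟨a, b⟩))⟩
  · rintro ⟨hne, hr, hs, hr2, hs2, hc⟩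
    refine ⟨hne, hr, hs, ?_⟩
    rcases hc with rfl | rfl | hc | hc
    · rcases hs.dvd_mul.1 hs2 with h | h
      · exact Or.inl ⟨two1, h⟩
      · exact Or.inr ⟨two2, h⟩
    · rcases hr.dvd_mul.1 hr2 with h | h
      · exact Or.inl ⟨h, two1⟩
      · exact Or.inr ⟨h, two2⟩
    · exact Or.inl hc
    · exact Or.inr hc

end Cfsg.Agent.S4774
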