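import Mathlib
import Cfsg.Statements.S0672

set_option autoImplicit false
open Cfsg

namespace Cfsg.Agent.S0672


/-- Let a finite group act faithfully and doubly transitively with point stabilisers of even order, and let `K` have characteristic `p` dividing the degree. If the heart of the permutation module admits no non-zero equivariant map to the permutation module on unordered pairs (phrased: every intertwining map from the sum-zero functions vanishing on the constants is zero), the action is triply transitive. -/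
theorem result {G : Type*} [Group G] [Finite G] {K : Type*} [Field K] {p : ℕ} [Fact p.Prime] [CharP K p] {Ω : Type*} [Fintype Ω] [DecidableEq Ω] [MulAction G Ω] [FaithfulSMul G Ω] (h2 : MulAction.IsMultiplyPretransitive G Ω 2) (hp : p ∣ Fintype.card Ω) (heven : ∀ a : Ω, Even (Nat.card (MulAction.stabilizer G a))) (h : ∀ f : Representation.IntertwiningMap (Cfsg.permSumZero K G Ω).toRepresentation (Cfsg.permRep K G (Set.powersetCard Ω 2)), (∀ v : (Cfsg.permSumZero K G Ω).toSubmodule, (v : Ω → K) ∈ (Cfsg.permConstants K G Ω).toSubmodule → f v = 0) → f = 0) : MulAction.IsMultiplyPretransitive G Ω 3 := by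
  classical
  by_cases hn : Fintype.card Ω < 3
  · refine ⟨fun x _ => absurd ?_ (not_le.mpr hn)⟩
    have := Fintype.card_le_of_embedding x
    simpa using this
  push Not at hn
  haveI : MulAction.IsPretransitive G Ω :=
    MulAction.isPretransitive_of_is_two_pretransitive (h2 := h2)
  haveI : MulAction.IsPretransitive G (Set.powersetCard Ω 2) :=
    Set.powersetCard.isPretransitive_of_isMultiplyPretransitive (h := h2)
  have hmem : ∀ (g : G) (x : Ω) (Q : Set.powersetCard Ω 2),
      g • x ∈ (g • Q : Set.powersetCard Ω 2).1 ↔ x ∈ Q.1 := fun g x Q => by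
    rw [Set.powersetCard.coe_smul]
    exact Finset.smul_mem_smul_finset_iff g
  -- invariant matrices with vanishing column sums have constant columns
  have hkey : ∀ M : Ω → Set.powersetCard Ω 2 → K, (∀ (g : G) x Q, M (g • x) (g • Q) = M x Q) →
      (∀ Q, ∑ x, M x Q = 0) → ∀ x y Q, M x Q = M y Q := by
    intro M hinv hsum x y Q
    let L : (Cfsg.permSumZero K G Ω).toSubmodule →ₗ[K] (Set.powersetCard Ω 2 → K) :=
      { toFun := fun v Q => ∑ z, (v : Ω → K) z * M z Q
        map_add' := fun u v => funext fun Q => by simp [add_mul, Finset.sum_add_distrib]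
        map_smul' := fun c u => funext fun Q => by simp [Finset.mul_sum, mul_assoc] }
    let φ : Representation.IntertwiningMap (Cfsg.permSumZero K G Ω).toRepresentation
        (Cfsg.permRep K G (Set.powersetCard Ω 2)) :=
      { toLinearMap := L
        isIntertwining' := fun g => LinearMap.ext fun v => funext fun Q => by
          change ∑ z, (v : Ω → K) (g⁻¹ • z) * M z Q = ∑ z, (v : Ω → K) z * M z (g⁻¹ • Q)
          refine Fintype.sum_equiv (MulAction.toPerm g⁻¹) _ _ fun z => ?_
          rw [MulAction.toPerm_apply, hinv g⁻¹ z Q] }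
    have h0 := h φ (fun v hv => by
      obtain ⟨c, hc⟩ := Submodule.mem_span_singleton.mp hv
      funext Q
      change ∑ z, (v : Ω → K) z * M z Q = 0
      simp only [← hc, Pi.smul_apply, smul_eq_mul, mul_one, ← Finset.mul_sum, hsum, mul_zero])
    have hd : (Pi.single x 1 - Pi.single y 1 : Ω → K) ∈ (Cfsg.permSumZero K G Ω).toSubmodule := by
      change ∑ z, (Pi.single x 1 - Pi.single y 1 : Ω → K) z = 0
      simp [Finset.sum_sub_distrib]
    have h1 : φ ⟨_, hd⟩ Q = 0 := by rw [h0]; rfl
    change ∑ z, (Pi.single x 1 - Pi.single y 1 : Ω → K) z * M z Q = 0 at h1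
    simpa [sub_mul, Finset.sum_sub_distrib, Pi.single_apply, ite_mul, sub_eq_zero] using h1
  let inc : Ω → Set.powersetCard Ω 2 → K := fun x Q => if x ∈ Q.1 then 1 else 0
  have hinc : ∀ (g : G) x Q, inc (g • x) (g • Q) = inc x Q := fun g x Q =>
    if_congr (hmem g x Q) rfl rfl
  have hincsum : ∀ Q, ∑ x, inc x Q = 2 := fun Q => by
    simp only [inc, Finset.sum_boole, Finset.filter_univ_mem]
    rw [show Q.1.card = 2 from Q.2]
    norm_num
  have houtside : ∀ Q : Set.powersetCard Ω 2, ∃ z, z ∉ Q.1 := fun Q => by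
    by_contra hc
    push Not at hc
    have h1 : Fintype.card Ω ≤ Q.1.card := Finset.card_le_card fun z _ => hc z
    have h2' : Q.1.card = 2 := Q.2
    omega
  by_cases h2K : (2 : K) = 0
  · exfalso
    obtain ⟨x, y, hxy⟩ : ∃ x y : Ω, x ≠ y := Fintype.exists_pair_of_one_lt_card (by omega)
    let Q : Set.powersetCard Ω 2 := ⟨{x, y}, Finset.card_pair hxy⟩
    obtain ⟨z, hz⟩ := houtside Q
    have := hkey inc hinc (fun Q => (hincsum Q).trans h2K) x z Q
    have hx : x ∈ Q.1 := Finset.mem_insert_self _ _
    simp [inc, hx, hz] at this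
  -- transitivity on non-incident point-pair flags
  have flag : ∀ (a x : Ω) (Q R : Set.powersetCard Ω 2), a ∉ Q.1 → x ∉ R.1 →
      ∃ g : G, g • a = x ∧ g • Q = R := by
    intro a x Q R ha hx
    let O : Ω → Set.powersetCard Ω 2 → K := fun z S =>
      if ∃ g : G, g • a = z ∧ g • Q = S then 1 else 0
    have hO : ∀ (g : G) z S, O (g • z) (g • S) = O z S := fun g z S => by
      refine if_congr ⟨fun ⟨k, h1, h2⟩ => ⟨g⁻¹ * k, ?_, ?_⟩, fun ⟨k, h1, h2⟩ => ⟨g * k, ?_, ?_⟩⟩ rfl rfl
      · rw [mul_smul, h1, inv_smul_smul]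
      · rw [mul_smul, h2, inv_smul_smul]
      · rw [mul_smul, h1]
      · rw [mul_smul, h2]
    set n : K := ∑ z, O z Q with hn'
    have hOsum : ∀ S, ∑ z, O z S = n := fun S => by
      obtain ⟨g, rfl⟩ := MulAction.exists_smul_eq G Q S
      exact (Fintype.sum_equiv (MulAction.toPerm g) _ _ fun z => (hO g z Q).symm).symm
    let M : Ω → Set.powersetCard Ω 2 → K := fun z S => 2 * O z S - n * inc z S
    have hM := hkey M (fun g z S => by simp only [M, hO, hinc])
      (fun S => by simp only [M, Finset.sum_sub_distrib, ← Finset.mul_sum, hOsum, hincsum]; ring)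
    obtain ⟨y, hy⟩ : ∃ y, y ∈ Q.1 := Finset.card_pos.mp (by rw [show Q.1.card = 2 from Q.2]; norm_num)
    -- an incident flag is not in the orbit
    have hOy : ∀ z S, z ∈ S.1 → O z S = 0 := fun z S hz => by
      refine if_neg fun ⟨g, h1, h2⟩ => ha ?_
      rwa [← h1, ← h2, hmem] at hz
    have hn2 : -n = 2 := by
      have h1 := hM y a Q
      simpa [M, hOy y Q hy, inc, hy, ha, show O a Q = 1 from if_pos ⟨1, one_smul _ _, one_smul _ _⟩]
        using h1
    obtain ⟨g, hg⟩ := MulAction.exists_smul_eq G Q R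
    have h1 := hM x (g • a) R
    have hga : g • a ∉ R.1 := by rw [← hg, hmem]; exact ha
    have h3 : 2 * O x R = 2 * O (g • a) R := by
      simpa [M, inc, hx, hga] using h1
    have h4 : O x R = 1 := by
      rw [mul_left_cancel₀ h2K h3]
      exact if_pos ⟨g, rfl, hg⟩
    by_contra hcon
    rw [show O x R = 0 from if_neg hcon] at h4
    exact zero_ne_one h4
  -- an involution fixing `a` and moving `u`
  obtain ⟨a⟩ : Nonempty Ω := Fintype.card_pos_iff.mp (by omega)
  haveI : Fact (Nat.Prime 2) := ⟨Nat.prime_two⟩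
  obtain ⟨⟨t, hta⟩, ht⟩ := exists_prime_orderOf_dvd_card' 2 (even_iff_two_dvd.mp (heven a))
  rw [← Subgroup.orderOf_coe] at ht
  change orderOf t = 2 at ht
  have ht2 : t * t = 1 := by rw [← pow_two, ← ht, pow_orderOf_eq_one]
  obtain ⟨u, hu⟩ : ∃ u : Ω, t • u ≠ u := by
    by_contra hc
    push Not at hc
    have : t = 1 := FaithfulSMul.eq_of_smul_eq_smul fun z => by rw [hc z, one_smul]
    rw [this, orderOf_one] at ht
    omega
  have hau : a ≠ u := fun e => hu (e ▸ hta)
  have hatu : a ≠ t • u := fun e => hu (by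
    have := congrArg (t • ·) e
    simp only [← mul_smul, ht2, one_smul] at this
    rw [show t • a = a from hta] at this
    rw [← this, show t • a = a from hta])
  have tri : ∀ x y z : Ω, x ≠ y → x ≠ z → y ≠ z → ∃ g : G, g • a = x ∧ g • u = y ∧ g • (t • u) = z := by
    intro x y z hxy hxz hyz
    obtain ⟨g, hga, hgQ⟩ := flag a x ⟨{u, t • u}, Finset.card_pair hu.symm⟩
      ⟨{y, z}, Finset.card_pair hyz⟩ (by simp [hau, hatu]) (by simp [hxy, hxz])
    have hset : ({u, t • u} : Finset Ω).image (g • ·) = {y, z} := congrArg Subtype.val hgQ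
    rw [Finset.image_insert, Finset.image_singleton] at hset
    have h1 : g • u = y ∨ g • u = z := by
      have : g • u ∈ ({y, z} : Finset Ω) := hset ▸ by simp
      simpa using this
    have h2 : g • (t • u) = y ∨ g • (t • u) = z := by
      have : g • (t • u) ∈ ({y, z} : Finset Ω) := hset ▸ by simp
      simpa using this
    have hne : g • u ≠ g • (t • u) := fun h => hu (MulAction.injective g h).symm
    rcases h1 with h1 | h1
    · exact ⟨g, hga, h1, h2.resolve_left fun h => hne (h1.trans h.symm)⟩
    · refine ⟨g * t, ?_, ?_, ?_⟩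
      · rw [mul_smul, show t • a = a from hta, hga]
      · rw [mul_smul]
        exact h2.resolve_right fun h => hne (h1.trans h.symm)
      · rw [mul_smul, ← mul_smul t t, ht2, one_smul, h1]
  constructor
  intro x y
  have hd : ∀ (w : Fin 3 ↪ Ω), ∃ g : G, g • a = w 0 ∧ g • u = w 1 ∧ g • (t • u) = w 2 := fun w =>
    tri _ _ _ (fun e => by simpa using w.injective e) (fun e => by simpa using w.injective e)
      (fun e => by simpa using w.injective e)
  obtain ⟨g, g0, g1, g2⟩ := hd x
  obtain ⟨k, k0, k1, k2⟩ := hd y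
  refine ⟨k * g⁻¹, ?_⟩
  ext i
  change (k * g⁻¹) • x i = y i
  fin_cases i
  · change (k * g⁻¹) • x 0 = y 0
    rw [← g0, mul_smul, inv_smul_smul]; exact k0
  · change (k * g⁻¹) • x 1 = y 1
    rw [← g1, mul_smul, inv_smul_smul]; exact k1
  · change (k * g⁻¹) • x 2 = y 2
    rw [← g2, mul_smul, inv_smul_smul]; exact k2

end Cfsg.Agent.S0672
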