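import Mathlib
import Cfsg.Statements.S0676
import Cfsg.Agent.S0672
import Cfsg.Agent.Lib.PrimeDegreeCoord
import Cfsg.Agent.Lib.TranslationModules

set_option autoImplicit false
open Cfsg

namespace Cfsg.Agent.S0676


/-- A non-solvable transitive permutation group of prime degree `p` whose Sylow `p`-normaliser has even order is triply transitive. -/
theorem result {α : Type*} [Fintype α] [DecidableEq α] {p : ℕ} [Fact p.Prime] (hα : Fintype.card α = p) (G : Subgroup (Equiv.Perm α)) [MulAction.IsPretransitive G α] (hG : ¬ Group.IsSolvable G) (P : Sylow p G) (heven : Even (Nat.card (Subgroup.normalizer ((P : Subgroup G) : Set G)))) : MulAction.IsMultiplyPretransitive G α 3 := by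
  classical
  have hp : p.Prime := Fact.out
  have hα' : Nat.card α = p := Nat.card_eq_fintype_card.trans hα
  have hp2 : p ≠ 2 := by
    rintro rfl
    apply hG
    have hd : Nat.card G ∣ 2 := by
      have := Subgroup.card_subgroup_dvd_card G
      rwa [Nat.card_perm, hα'] at this
    haveI : IsCyclic G := by
      rcases (Nat.dvd_prime Nat.prime_two).mp hd with h | h
      · haveI : Subsingleton G := (Nat.card_eq_one_iff_unique.mp h).1
        infer_instance
      · exact isCyclic_of_prime_card h
    letI : CommGroup G := IsCyclic.commGroup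
    infer_instance
  have h2 : MulAction.IsMultiplyPretransitive G α 2 :=
    (Cfsg.Agent.PermPrimeDegree.solvable_or_twoTransitive (hα' ▸ hp) G).resolve_left hG
  have heven' : ∀ a : α, Even (Nat.card (MulAction.stabilizer G a)) := by
    intro a
    have h1 : Even (Nat.card G) :=
      even_iff_two_dvd.mpr ((even_iff_two_dvd.mp heven).trans (Subgroup.card_subgroup_dvd_card _))
    rw [← Cfsg.Agent.PermBasic.card_mul_card_stabilizer (G := G) a, hα', Nat.even_mul] at h1
    exact h1.resolve_left fun h => hp2 (hp.even_iff.mp h)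
  refine Cfsg.Agent.S0672.result (K := ZMod p) h2 (by rw [hα]) heven' ?_
  intro f hf
  obtain ⟨t, i, e, -, he, hi⟩ := Cfsg.Agent.PrimeDegreeCoord.exists_inversion hp2 hα' G P heven
  -- the coordinate function
  let u0 : α → ZMod p := fun x => e.symm x
  have hu0 : u0 ∈ (Cfsg.permSumZero (ZMod p) G α).toSubmodule := by
    change ∑ x, u0 x = 0
    rw [← Equiv.sum_comp e u0]
    simp only [u0, Equiv.symm_apply_apply]
    have := FiniteField.sum_pow_lt_card_sub_one (K := ZMod p) 1 (by
      rw [ZMod.card]; have := hp.two_le; omega)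
    simpa using this
  let S := (Cfsg.permSumZero (ZMod p) G α).toRepresentation
  have hone : (fun _ => (1 : ZMod p)) ∈ (Cfsg.permSumZero (ZMod p) G α).toSubmodule := by
    change ∑ x : α, (1 : ZMod p) = 0
    simp [hα]
  let v0 : (Cfsg.permSumZero (ZMod p) G α).toSubmodule := ⟨u0, hu0⟩
  let one : (Cfsg.permSumZero (ZMod p) G α).toSubmodule := ⟨_, hone⟩
  have hone0 : f one = 0 := hf one (Submodule.mem_span_singleton_self _)
  have hwt : S t v0 = v0 - one := Subtype.ext <| funext fun z => by
    obtain ⟨x, rfl⟩ := e.surjective z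
    change e.symm (((t⁻¹ : G) : Equiv.Perm α) (e x)) = e.symm (e x) - 1
    rw [InvMemClass.coe_inv, Equiv.symm_apply_apply, Equiv.symm_apply_eq, Equiv.Perm.inv_eq_iff_eq,
      ← he, sub_add_cancel]
  have hwi : S i v0 = -v0 := Subtype.ext <| funext fun z => by
    obtain ⟨x, rfl⟩ := e.surjective z
    change e.symm (((i⁻¹ : G) : Equiv.Perm α) (e x)) = - e.symm (e x)
    rw [InvMemClass.coe_inv, Equiv.symm_apply_apply, Equiv.symm_apply_eq, Equiv.Perm.inv_eq_iff_eq,
      hi, neg_neg]
  -- the image of the coordinate function vanishes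
  have hF : f v0 = 0 := by
    have ft : ∀ Q, f v0 (t⁻¹ • Q) = f v0 Q := fun Q => by
      have h1 : f (S t v0) = Cfsg.permRep (ZMod p) G _ t (f v0) :=
        LinearMap.congr_fun (f.isIntertwining' t) v0
      rw [hwt, map_sub, hone0, sub_zero] at h1
      exact (congrFun h1 Q).symm
    have fi : ∀ Q, f v0 (i⁻¹ • Q) = - f v0 Q := fun Q => by
      have h1 : f (S i v0) = Cfsg.permRep (ZMod p) G _ i (f v0) :=
        LinearMap.congr_fun (f.isIntertwining' i) v0
      rw [hwi, map_neg] at h1
      exact (congrFun h1 Q).symm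
    have ftn : ∀ (n : ℕ) Q, f v0 ((t ^ n) • Q) = f v0 Q := by
      intro n
      induction n with
      | zero => simp
      | succ n ih =>
        intro Q
        rw [← ft ((t ^ (n + 1)) • Q), ← mul_smul, pow_succ', inv_mul_cancel_left, ih]
    funext Q
    obtain ⟨x, y, hxy, hQ⟩ := Finset.card_eq_two.mp Q.2
    obtain ⟨x, rfl⟩ := e.surjective x
    obtain ⟨y, rfl⟩ := e.surjective y
    have heq : i • Q = (t ^ (-(x + y)).val) • Q := by
      apply Subtype.ext
      change Q.1.image _ = Q.1.image _
      rw [show Q.1 = {e x, e y} from hQ]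
      simp only [Finset.image_insert, Finset.image_singleton]
      have htr : ∀ z, ((t ^ (-(x + y)).val : G) : Equiv.Perm α) (e z) = e (z + -(x + y)) := fun z => by
        rw [SubmonoidClass.coe_pow, Cfsg.Agent.PermPrimeDegree.translation_pow he,
          ZMod.natCast_zmod_val]
      change ({(i : Equiv.Perm α) (e x), (i : Equiv.Perm α) (e y)} : Finset α) =
        {((t ^ (-(x + y)).val : G) : Equiv.Perm α) (e x), ((t ^ (-(x + y)).val : G) : Equiv.Perm α) (e y)}
      rw [hi, hi, htr, htr]
      rw [Finset.pair_comm]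
      congr 1
      · congr 1; ring
      · congr 2; ring
    have h1 := fi (i • Q)
    rw [inv_smul_smul, heq, ftn] at h1
    have two : (2 : ZMod p) ≠ 0 := Ring.two_ne_zero (by rw [ringChar.eq (ZMod p) p]; exact hp2)
    have h3 : (2 : ZMod p) * f v0 Q = 0 := by linear_combination h1
    exact (mul_eq_zero.mp h3).resolve_left two
  -- so the kernel is all of the sum-zero functions
  let W : Subrepresentation (Cfsg.permRep (ZMod p) G α) :=
    ⟨(LinearMap.ker f.toLinearMap).map (Cfsg.permSumZero (ZMod p) G α).toSubmodule.subtype,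
      fun g v hv => by
        obtain ⟨w, hw, rfl⟩ := hv
        refine ⟨S g w, ?_, rfl⟩
        have h1 : f (S g w) = Cfsg.permRep (ZMod p) G _ g (f w) :=
          LinearMap.congr_fun (f.isIntertwining' g) w
        have hw' : f w = 0 := hw
        change f (S g w) = 0
        rw [h1, hw', map_zero]⟩
  have hW1 : (Cfsg.permConstants (ZMod p) G α).toSubmodule ≤ W.toSubmodule :=
    Submodule.span_le.mpr (Set.singleton_subset_iff.mpr ⟨one, hone0, rfl⟩)
  have hW2 : W.toSubmodule ≤ (Cfsg.permSumZero (ZMod p) G α).toSubmodule := by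
    rintro _ ⟨w, -, rfl⟩; exact w.2
  have hu0W : u0 ∈ W.toSubmodule := ⟨v0, hF, rfl⟩
  rcases Cfsg.Agent.TranslationModules.heart_irreducible hα' G hG W hW1 hW2 with hW | hW
  · exfalso
    rw [hW] at hu0W
    obtain ⟨c, hc⟩ := Submodule.mem_span_singleton.mp hu0W
    have h0 := congrFun hc (e 0)
    have h1 := congrFun hc (e 1)
    simp [u0] at h0 h1
    exact zero_ne_one (h0.symm.trans h1)
  · refine DFunLike.ext _ _ fun v => ?_
    have hv : (v : α → ZMod p) ∈ W.toSubmodule := by rw [hW]; exact v.2
    obtain ⟨w, hw, hwv⟩ := hv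
    rw [show v = w from Subtype.ext hwv.symm]
    exact hw

end Cfsg.Agent.S0676
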