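import Mathlib
import Cfsg.Statements.S0678
import Cfsg.Agent.Lib.PermPrimeDegree
import Cfsg.Agent.Lib.PermMultiTrans
import Cfsg.Agent.Lib.PermBasic

set_option autoImplicit false
open Cfsg

namespace Cfsg.Agent.S0678

open MulAction Equiv

variable {α : Type*} [Fintype α] [DecidableEq α]

/-- A subgroup whose order is divisible by the full p-part contains a conjugate of every p-element. -/
theorem exists_conj_mem (G : Subgroup (Perm α)) {p : ℕ} [Fact p.Prime]
    (h : p ^ (Nat.card (Perm α)).factorization p ∣ Nat.card G) (c : Perm α) {j : ℕ}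
    (hc : orderOf c = p ^ j) : ∃ s : Perm α, s * c * s⁻¹ ∈ G := by
  obtain ⟨Q, hQ⟩ := Sylow.exists_subgroup_card_pow_prime p h
  let Q' : Sylow p (Perm α) := Sylow.ofCard (Q.map G.subtype)
    (by rw [Subgroup.card_map_of_injective G.subtype_injective, hQ])
  obtain ⟨P, hP⟩ := (IsPGroup.of_card (n := j) (by rw [Nat.card_zpowers, hc]) :
    IsPGroup p (Subgroup.zpowers c)).exists_le_sylow
  obtain ⟨s, hs⟩ := MulAction.exists_smul_eq (Perm α) P Q'
  refine ⟨s, ?_⟩
  have hmem : s * c * s⁻¹ ∈ (Q' : Subgroup (Perm α)) := by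
    rw [← hs, Sylow.coe_subgroup_smul, Subgroup.pointwise_smul_def]
    exact ⟨c, hP (Subgroup.mem_zpowers c), rfl⟩
  exact Subgroup.map_subtype_le Q hmem

theorem mem_zpowers_of_commute {t : Perm α} (ht : t.IsCycle) (hs : t.support = Finset.univ)
    {x : Perm α} (hx : x * t = t * x) : x ∈ Subgroup.zpowers t := by
  have hcyc := ht
  obtain ⟨b, hb, -⟩ := ht
  have hall : ∀ y, t y ≠ y := fun y => Perm.mem_support.1 (hs ▸ Finset.mem_univ y)
  obtain ⟨i, hi⟩ := hcyc.exists_zpow_eq hb (hall (x b))
  refine ⟨i, Equiv.ext fun y => ?_⟩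
  obtain ⟨j, hj⟩ := hcyc.exists_zpow_eq hb (hall y)
  have hxt : x * t ^ j = t ^ j * x := ((show Commute x t from hx).zpow_right j).eq
  have h1 := congrFun (congrArg (fun (f : Perm α) => (f : α → α)) hxt) b
  simp only [Perm.mul_apply] at h1
  rw [hj] at h1
  show (t ^ i) y = x y
  rw [h1, ← hi, ← hj, ← Perm.mul_apply, ← Perm.mul_apply, ← zpow_add, ← zpow_add, add_comm]



/-- A non-solvable transitive permutation group on 7 points that does not contain the alternating group is a simple group of order 168. -/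
theorem result {α : Type*} [Fintype α] [DecidableEq α] (hα : Fintype.card α = 7) (G : Subgroup (Equiv.Perm α)) [MulAction.IsPretransitive G α] (hG : ¬ Group.IsSolvable G) (hA : ¬ alternatingGroup α ≤ G) : Nat.card G = 168 ∧ IsSimpleGroup G := by
  classical
  haveI h7 : Fact (Nat.Prime 7) := ⟨by norm_num⟩
  haveI : Fact (Nat.Prime 3) := ⟨Nat.prime_three⟩
  haveI : Fact (Nat.Prime 2) := ⟨Nat.prime_two⟩
  have hcard : Nat.card α = 7 := by rw [Nat.card_eq_fintype_card, hα]
  have h2 : MulAction.IsMultiplyPretransitive G α 2 :=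
    (Cfsg.Agent.PermPrimeDegree.solvable_or_twoTransitive (by rw [hcard]; norm_num) G).resolve_left hG
  haveI hprim : MulAction.IsPreprimitive G α := MulAction.isPreprimitive_of_is_two_pretransitive h2
  have h42 : 42 ∣ Nat.card G := by
    have := Cfsg.Agent.PermMultiTrans.descFactorial_dvd_card (G := G) (X := α) (k := 2) (by omega)
    rwa [hcard, show Nat.descFactorial 7 2 = 42 from rfl] at this
  have hS : Nat.card (Equiv.Perm α) = 5040 := by
    rw [Nat.card_perm, hcard]; rfl
  have hdvd : Nat.card G ∣ 5040 := hS ▸ Subgroup.card_subgroup_dvd_card G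
  obtain ⟨a, b, c, hab, hac, hbc⟩ := Fintype.two_lt_card_iff.1 (by omega : 2 < Fintype.card α)
  -- no full Sylow subgroup for 2 or 3
  have h9 : ¬ 9 ∣ Nat.card G := by
    intro h
    have hf : (5040 : ℕ).factorization 3 = 2 := by
      rw [show (5040 : ℕ) = 3 ^ 2 * 560 from rfl, Nat.factorization_mul (by norm_num) (by norm_num),
        Finsupp.add_apply, Nat.prime_three.factorization_pow, Finsupp.single_eq_same,
        Nat.factorization_eq_zero_of_not_dvd (by norm_num)]
    have hcyc := Equiv.Perm.isThreeCycle_swap_mul_swap_same hab hac hbc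
    obtain ⟨s, hs⟩ := exists_conj_mem G (p := 3) (by rw [hS, hf]; exact h) _ (j := 1)
      (by rw [hcyc.orderOf, pow_one])
    exact hA (Equiv.Perm.alternatingGroup_le_of_isPreprimitive_of_isThreeCycle_mem hprim
      (card_support_eq_three_iff.1 (by
        rw [Equiv.Perm.card_support_conj, card_support_eq_three_iff]; exact hcyc)) hs)
  have h16 : ¬ 16 ∣ Nat.card G := by
    intro h
    have hf : (5040 : ℕ).factorization 2 = 4 := by
      rw [show (5040 : ℕ) = 2 ^ 4 * 315 from rfl, Nat.factorization_mul (by norm_num) (by norm_num),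
        Finsupp.add_apply, Nat.prime_two.factorization_pow, Finsupp.single_eq_same,
        Nat.factorization_eq_zero_of_not_dvd (by norm_num)]
    obtain ⟨s, hs⟩ := exists_conj_mem G (p := 2) (by rw [hS, hf]; exact h) (Equiv.swap a b) (j := 1)
      (by
        rw [pow_one]
        exact orderOf_eq_prime (by rw [pow_two, Equiv.swap_mul_self])
          (fun e => hab (Equiv.swap_eq_one_iff.1 e)))
    refine hA ?_
    rw [Equiv.Perm.subgroup_eq_top_of_isPreprimitive_of_isSwap_mem hprim _
      ⟨s a, s b, fun e => hab (s.injective e), (Equiv.swap_apply_apply s a b).symm⟩ hs]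
    exact le_top
  have h7' : ¬ 7 ^ 2 ∣ Nat.card G := fun h => by
    have := h.trans hdvd
    norm_num at this
  -- the Sylow 7-subgroup
  obtain ⟨P⟩ : Nonempty (Sylow 7 G) := Sylow.nonempty
  have hPc : Nat.card P = 7 := by
    rw [Sylow.card_eq_multiplicity]
    have h1 : (Nat.card G).factorization 7 = 1 := by
      have hne : Nat.card G ≠ 0 := Nat.card_pos.ne'
      have h71 : 7 ∣ Nat.card G := (by norm_num : 7 ∣ 42).trans h42
      have := (h7.out.pow_dvd_iff_le_factorization hne (k := 1)).1 (by rwa [pow_one])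
      have := mt (h7.out.pow_dvd_iff_le_factorization hne (k := 2)).2 h7'
      omega
    rw [h1, pow_one]
  haveI : IsCyclic P := isCyclic_of_prime_card hPc
  have hPc' : Nat.card (P : Subgroup G) = 7 := hPc
  have hnidx : Nat.card (Sylow 7 G) = (Subgroup.normalizer ((P : Subgroup G) : Set G)).index :=
    P.card_eq_index_normalizer
  obtain ⟨t, ht⟩ := IsCyclic.exists_generator (α := P)
  have htord : orderOf ((t : G) : Equiv.Perm α) = 7 := by
    rw [Subgroup.orderOf_coe, Subgroup.orderOf_coe, orderOf_eq_card_of_forall_mem_zpowers ht, hPc]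
  have htc := Equiv.Perm.isCycle_of_prime_order'' (by rw [hα]; norm_num) (by rw [htord, hα])
  have hts : ((t : G) : Equiv.Perm α).support = Finset.univ := by
    rw [← Finset.card_eq_iff_eq_univ, ← htc.orderOf, htord, hα]
  have hcent : Subgroup.centralizer ((P : Subgroup G) : Set G) ≤ P := by
    intro x hx
    obtain ⟨i, hi⟩ := mem_zpowers_of_commute htc hts (x := (x : Equiv.Perm α))
      (congrArg Subtype.val (Subgroup.mem_centralizer_iff.1 hx _ t.2)).symm
    have hx' : x = (t : G) ^ i := Subtype.ext hi.symm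
    rw [hx']
    exact (P : Subgroup G).zpow_mem t.2 i
  have hPab : (P : Subgroup G) ≤ Subgroup.centralizer ((P : Subgroup G) : Set G) := by
    intro x hx
    rw [Subgroup.mem_centralizer_iff]
    intro y hy
    obtain ⟨i, hi⟩ := Subgroup.mem_zpowers_iff.1 (ht ⟨y, hy⟩)
    obtain ⟨j, hj⟩ := Subgroup.mem_zpowers_iff.1 (ht ⟨x, hx⟩)
    have e := ((Commute.refl t).zpow_zpow i j).eq
    rw [hi, hj] at e
    exact congrArg Subtype.val e
  have hN : Nat.card (Subgroup.normalizer ((P : Subgroup G) : Set G)) ∣ 42 := by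
    let φ := (P : Subgroup G).normalizerMonoidHom
    have hk : Nat.card φ.ker = 7 := by
      rw [Subgroup.normalizerMonoidHom_ker]
      refine Eq.trans ?_ hPc'
      rw [le_antisymm hcent hPab]
      exact Nat.card_congr (Subgroup.subgroupOfEquivOfLe Subgroup.le_normalizer).toEquiv
    rw [← Subgroup.card_mul_index φ.ker, hk, Subgroup.index_ker]
    have h6 : Nat.card (MulAut (P : Subgroup G)) = 6 := by
      rw [IsCyclic.card_mulAut]
      erw [hPc]
      rfl
    exact Nat.mul_dvd_mul_left 7 (h6 ▸ Subgroup.card_subgroup_dvd_card φ.range)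
  have hn := card_sylow_modEq_one 7 G
  have hmul : Nat.card (Sylow 7 G) * Nat.card (Subgroup.normalizer ((P : Subgroup G) : Set G)) = Nat.card G := by
    rw [hnidx, mul_comm, Subgroup.card_mul_index]
  have h7N : 7 ∣ Nat.card (Subgroup.normalizer ((P : Subgroup G) : Set G)) := by
    have := Subgroup.card_dvd_of_le (Subgroup.le_normalizer : (P : Subgroup G) ≤ _)
    rwa [hPc'] at this
  -- Burnside transfer inside a normal subgroup containing P
  have hburn : ∀ (N : Subgroup G), N.Normal → (P : Subgroup G) ≤ N →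
      (∀ x ∈ N, x ∈ Subgroup.normalizer ((P : Subgroup G) : Set G) → x ∈ (P : Subgroup G)) →
      Nat.card N = 7 := by
    intro N hNn hPN hself
    have : N.Normal := hNn
    let PN : Sylow 7 N := P.subtype hPN
    have hPN' : (PN : Subgroup N) = (P : Subgroup G).subgroupOf N := rfl
    have hle : Subgroup.normalizer ((PN : Subgroup N) : Set N) ≤ Subgroup.centralizer ((PN : Subgroup N) : Set N) := by
      intro x hx
      have hx' : (x : G) ∈ (P : Subgroup G) := hself _ x.2 (by
        rw [hPN', Subgroup.mem_normalizer_iff] at hx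
        rw [Subgroup.mem_normalizer_iff]
        intro y
        constructor
        · intro hy
          exact (hx ⟨y, hPN hy⟩).1 hy
        · intro hy
          have hyN : y ∈ N := by
            have := hNn.conj_mem _ (hPN hy) ((x : G)⁻¹)
            simpa [mul_assoc] using this
          exact (hx ⟨y, hyN⟩).2 hy)
      rw [Subgroup.mem_centralizer_iff]
      intro y hy
      exact Subtype.ext (Subgroup.mem_centralizer_iff.1 (hPab hx') _ hy)
    have hcompl := MonoidHom.ker_transferSylow_isComplement' PN hle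
    set K := (MonoidHom.transferSylow PN hle).ker with hK
    have hKc := hcompl.card_mul
    have h7K := MonoidHom.not_dvd_card_ker_transferSylow PN hle
    have hPNc : Nat.card PN = 7 :=
      (Nat.card_congr (Subgroup.subgroupOfEquivOfLe hPN).toEquiv).trans hPc' 
    -- the complement is normal in the whole group
    have huniq : ∀ z : N, ¬ 7 ∣ orderOf z → z ∈ K := by
      intro z hz
      rw [hK, MonoidHom.mem_ker, ← orderOf_eq_one_iff]
      have h1 := orderOf_map_dvd (MonoidHom.transferSylow PN hle) z
      have h2 := orderOf_dvd_natCard (MonoidHom.transferSylow PN hle z)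
      rw [hPNc] at h2
      rcases (Nat.dvd_prime h7.out).1 h2 with h | h
      · exact h
      · exact absurd (h ▸ h1) hz
    have hKn : (K.map N.subtype).Normal := by
      refine ⟨fun y hy g => ?_⟩
      obtain ⟨z, hz, rfl⟩ := hy
      refine ⟨⟨g * z * g⁻¹, hNn.conj_mem _ z.2 g⟩, huniq _ fun h => h7K ?_, rfl⟩
      rw [← Subgroup.orderOf_coe] at h
      have e : orderOf (g * (z : G) * g⁻¹) = orderOf (z : G) :=
        orderOf_injective (MulAut.conj g).toMonoidHom (MulEquiv.injective _) (z : G)
      rw [e, Subgroup.orderOf_coe] at h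
      exact h.trans (Subgroup.orderOf_dvd_natCard K hz)
    have hbot : K.map N.subtype = ⊥ := by
      by_contra hne
      have := Cfsg.Agent.PermBasic.isPretransitive_of_normal (G := G) (X := α) (K.map N.subtype) hne
      haveI : Nonempty α := ⟨a⟩
      have := Cfsg.Agent.PermBasic.card_dvd_of_transitive (G := (K.map N.subtype : Subgroup G)) (X := α)
      rw [hcard, Subgroup.card_map_of_injective N.subtype_injective] at this
      exact h7K this
    rw [Subgroup.map_eq_bot_iff_of_injective _ N.subtype_injective] at hbot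
    rw [hbot, Subgroup.card_bot, one_mul, hPNc] at hKc
    exact hKc.symm
  -- squarefree orders are soluble
  have hsf : Squarefree (Nat.card G) → False := fun h => hG (by
    haveI := IsZGroup.of_squarefree h
    infer_instance)
  set n := Nat.card (Sylow 7 G) with hndef
  set m := Nat.card (Subgroup.normalizer ((P : Subgroup G) : Set G)) with hmdef
  have h840 : Nat.card G ∈ ({42, 84, 168, 210, 420, 840} : Finset ℕ) := by
    have hmem : Nat.card G ∈ (5040 : ℕ).divisors := Nat.mem_divisors.2 ⟨hdvd, by norm_num⟩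
    revert h42 h9 h16
    generalize Nat.card G = N at hmem
    revert hmem N
    decide +kernel
  have hmle : m ≤ 42 := Nat.le_of_dvd (by norm_num) hN
  have hn1 : n % 7 = 1 := hn
  have hcases : (Nat.card G = 42) ∨ (Nat.card G = 168 ∧ n = 8) ∨ Nat.card G = 210 ∨ (Nat.card G = 840 ∧ m = 7) := by
    obtain ⟨i, hi⟩ := h7N
    have hi6 : i ∣ 6 := (Nat.mul_dvd_mul_iff_left (by norm_num : 0 < 7)).1 (hi ▸ hN)
    have hi' : i ∈ Nat.divisors 6 := Nat.mem_divisors.2 ⟨hi6, by norm_num⟩
    rw [show Nat.divisors 6 = {1, 2, 3, 6} by decide +kernel] at hi'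
    simp only [Finset.mem_insert, Finset.mem_singleton] at h840 hi'
    rcases h840 with h | h | h | h | h | h <;> rcases hi' with rfl | rfl | rfl | rfl <;>
      rw [h, hi] at hmul <;> omega
  rcases hcases with h | ⟨h, hn8⟩ | h | ⟨h, hm7⟩
  · exact (hsf (by rw [h]; decide +kernel)).elim
  · refine ⟨h, ?_⟩
    haveI : Nontrivial G := by
      rw [← Finite.one_lt_card_iff_nontrivial, h]; norm_num
    refine ⟨fun N hNn => ?_⟩
    by_contra hcon
    push Not at hcon
    have hNne := hcon.1
    have : N.Normal := hNn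
    haveI := Cfsg.Agent.PermBasic.isPretransitive_of_normal (G := G) (X := α) N hNne
    haveI : Nonempty α := ⟨a⟩
    have hd7 : 7 ∣ Nat.card N := hcard ▸ Cfsg.Agent.PermBasic.card_dvd_of_transitive (G := N) (X := α)
    have hPN : (P : Subgroup G) ≤ N := by
      obtain ⟨x, hx⟩ := exists_prime_orderOf_dvd_card' 7 hd7
      obtain ⟨Q, hQ⟩ := (IsPGroup.of_card (n := 1) (by
        rw [Nat.card_zpowers, Subgroup.orderOf_coe, hx, pow_one]) :
        IsPGroup 7 (Subgroup.zpowers (x : G))).exists_le_sylow
      have hQe : Subgroup.zpowers (x : G) = (Q : Subgroup G) := Subgroup.eq_of_le_of_card_ge hQ (by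
        rw [Nat.card_zpowers, Subgroup.orderOf_coe, hx, Q.card_eq_multiplicity,
          ← P.card_eq_multiplicity, hPc])
      obtain ⟨g, hg⟩ := MulAction.exists_smul_eq G Q P
      rw [← hg, Sylow.coe_subgroup_smul, ← hQe, Subgroup.pointwise_smul_def]
      rintro _ ⟨y, hy, rfl⟩
      exact hNn.conj_mem _ (Subgroup.zpowers_le.2 x.2 hy) g
    set Nm := Subgroup.normalizer ((P : Subgroup G) : Set G)
    have hm21 : Nat.card Nm = 21 := by
      rw [hn8, h] at hmul
      omega
    have hsup : Nm ⊔ N = ⊤ := Sylow.normalizer_sup_eq_top' P hPN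
    have e1 : N.index = N.relIndex Nm := by
      rw [← Subgroup.relIndex_top_right N, ← hsup, Subgroup.relIndex_sup_right]
    have e2 : Nat.card N * N.index = 168 := h ▸ Subgroup.card_mul_index N
    have e3 : Nat.card (N ⊓ Nm : Subgroup G) * N.index = 21 := by
      rw [e1, ← hm21, ← Subgroup.inf_relIndex_right N Nm, ← Subgroup.relIndex_bot_left (N ⊓ Nm),
        Subgroup.relIndex_mul_relIndex _ _ _ bot_le inf_le_right, Subgroup.relIndex_bot_left]
    obtain ⟨i, hi⟩ : 7 ∣ Nat.card (N ⊓ Nm : Subgroup G) :=
      hPc ▸ Subgroup.card_dvd_of_le (le_inf hPN Subgroup.le_normalizer)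
    rw [hi, mul_assoc] at e3
    have e4 : i * N.index = 3 := by omega
    rcases (Nat.dvd_prime Nat.prime_three).1 ⟨N.index, e4.symm⟩ with rfl | rfl
    · have hPI : (P : Subgroup G) = N ⊓ Nm := Subgroup.eq_of_le_of_card_ge
        (le_inf hPN Subgroup.le_normalizer) (by rw [hi, hPc])
      have h7N' := hburn N hNn hPN (fun x hx hx' => by rw [hPI]; exact ⟨hx, hx'⟩)
      rw [h7N'] at e2
      omega
    · exact hcon.2 (Subgroup.index_eq_one.1 (by omega))
  · exact (hsf (by rw [h]; decide +kernel)).elim
  · have hPI : (P : Subgroup G) = Subgroup.normalizer ((P : Subgroup G) : Set G) :=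
      Subgroup.eq_of_le_of_card_ge Subgroup.le_normalizer (by rw [hPc, ← hmdef, hm7])
    have := hburn ⊤ inferInstance le_top (fun x _ hx' => by rw [hPI]; exact hx')
    rw [Subgroup.card_top, h] at this
    omega

end Cfsg.Agent.S0678
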