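import Cfsg.Statements.S5886
import Cfsg.Agent.Lib.ExtFieldMax
import Cfsg.Agent.Lib.TransvectionMax
import Cfsg.Agent.Lib.AschPrimeBasic

set_option autoImplicit false
set_option linter.style.haveILetI false
set_option maxHeartbeats 1600000
set_option synthInstance.maxHeartbeats 400000
open Cfsg

namespace Cfsg.Agent.S5886

open scoped Matrix MatrixGroups

/-- Let F be a finite field, n a positive integer and r a prime that divides n with r < n. Let K be a subalgebra of the algebra of n × n matrices over F which is a field of degree r over F (commutative, every non-zero element invertible, of dimension r over F; it contains the scalars). Then the normaliser N of K in GL_n(F) — the invertible F-linear maps that are semilinear over the field K, a group of type ΓL_{n/r}(F_{q^r}) for |F| = q — is a maximal subgroup of GL_n(F), and N ∩ SL_n(F) is a maximal subgroup of SL_n(F). No lower bound on n is assumed. -/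
theorem result {F : Type*} [Field F]
    [Fintype F] (n r : ℕ) (hr : r.Prime) (hrn : r ∣ n) (hlt : r < n) (K : Subalgebra F (Matrix (Fin n) (Fin n) F))
    (hK : Cfsg.Geo.IsFieldSubalgebra r K) :
    IsCoatom (Cfsg.Geo.subalgebraNormalizer K) ∧
      Cfsg.Geo.IsMaximalIn (Cfsg.Geo.specialLinear (Fin n) F)
        (Cfsg.Geo.subalgebraNormalizer K ⊓ Cfsg.Geo.specialLinear (Fin n) F) := by
  classical
  have h3 : 3 ≤ n := by
    obtain ⟨k, rfl⟩ := hrn
    rcases k with _ | _ | k
    · simp at hlt
    · simp at hlt
    · have := hr.two_le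
      nlinarith
  have hnle : ¬ Cfsg.Geo.specialLinear (Fin n) F ≤ Cfsg.Geo.subalgebraNormalizer K :=
    Cfsg.Agent.AschPrimeBasic.sl_not_le_subalgebraNormalizer (by simpa using h3) r hr.two_le K hK
  haveI : Nonempty (Fin n) := ⟨⟨0, by omega⟩⟩
  letI : CommRing K :=
    { (inferInstance : Ring K) with mul_comm := fun x y => Subtype.ext (hK.comm _ x.2 _ y.2) }
  have hfld : IsField K := by
    refine ⟨⟨0, 1, zero_ne_one⟩, mul_comm, fun {x} hx => ?_⟩
    obtain ⟨y, hy, hxy⟩ := hK.inv x x.2 (fun h => hx (Subtype.ext h))
    exact ⟨⟨y, hy⟩, Subtype.ext hxy⟩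
  letI : Field K := hfld.toField
  haveI : Finite K := Subtype.finite
  letI : Fintype K := Fintype.ofFinite K
  have hsmul : ∀ (e : K) (x : Fin n → F), e • x = (e : Matrix (Fin n) (Fin n) F) *ᵥ x := fun e x => rfl
  haveI : IsScalarTower F K (Fin n → F) := ⟨fun c e x => by
    rw [hsmul, hsmul, Subalgebra.coe_smul, Matrix.smul_mulVec]⟩
  haveI : FiniteDimensional K (Fin n → F) := Module.Finite.of_restrictScalars_finite F K _
  have hdim : 2 ≤ Module.finrank K (Fin n → F) := by
    have h := Module.finrank_mul_finrank F K (Fin n → F)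
    rw [show Module.finrank F K = r from hK.finrank_eq, Module.finrank_fin_fun] at h
    by_contra hc
    push Not at hc
    have : r * Module.finrank K (Fin n → F) ≤ r := by
      calc r * Module.finrank K (Fin n → F) ≤ r * 1 := Nat.mul_le_mul_left r (by omega)
        _ = r := mul_one r
    omega
  have hcomp : ∀ (f : (Fin n → F) →ₗ[F] (Fin n → F)) (x : Fin n → F), LinearMap.toMatrix' f *ᵥ x = f x :=
    LinearMap.toMatrix'_mulVec
  let toGL : ((Fin n → F) ≃ₗ[F] (Fin n → F)) → GL (Fin n) F := fun g =>
    ⟨LinearMap.toMatrix' g.toLinearMap, LinearMap.toMatrix' g.symm.toLinearMap,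
      by rw [← LinearMap.toMatrix'_comp, LinearEquiv.comp_symm, LinearMap.toMatrix'_id],
      by rw [← LinearMap.toMatrix'_comp, LinearEquiv.symm_comp, LinearMap.toMatrix'_id]⟩
  have htoGL : ∀ g x, (toGL g : Matrix (Fin n) (Fin n) F) *ᵥ x = g x := fun g x => hcomp _ x
  -- semilinear maps normalise
  have hnorm : ∀ g : (Fin n → F) ≃ₗ[F] (Fin n → F), ∀ σ : K ≃ₐ[F] K, (∀ (c : K) x, g (c • x) = σ c • g x) →
      toGL g ∈ Cfsg.Geo.subalgebraNormalizer K := by
    intro g σ hg
    have hconj : ∀ c : K, (toGL g : Matrix (Fin n) (Fin n) F) * (c : Matrix (Fin n) (Fin n) F) *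
        ((toGL g)⁻¹ : GL (Fin n) F) = (σ c : K) := by
      intro c
      rw [Units.mul_inv_eq_iff_eq_mul]
      apply Matrix.ext_iff_mulVec.mpr
      intro x
      rw [← Matrix.mulVec_mulVec, ← Matrix.mulVec_mulVec, htoGL, htoGL, ← hsmul, hg, hsmul]
    intro k
    constructor
    · intro hk
      rw [show k = ((⟨k, hk⟩ : K) : Matrix (Fin n) (Fin n) F) from rfl, hconj]
      exact (σ ⟨k, hk⟩).2
    · intro hk
      have h := hconj (σ.symm ⟨_, hk⟩)
      rw [σ.apply_symm_apply] at h
      have := (Units.mul_right_inj (toGL g)).1 ((Units.mul_left_inj (toGL g)⁻¹).1 h)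
      rw [← this]
      exact (σ.symm ⟨_, hk⟩).2
  have hdet : ∀ (φ : (Fin n → F) →ₗ[K] K) (u : Fin n → F) (g : (Fin n → F) ≃ₗ[F] (Fin n → F)),
      (∀ x, g x = x + φ x • u) → toGL g ∈ Cfsg.Geo.subalgebraNormalizer K ∧
        (toGL g : Matrix (Fin n) (Fin n) F).det = Algebra.norm F (1 + φ u) := by
    intro φ u g hg
    refine ⟨hnorm g AlgEquiv.refl fun c x => ?_, ?_⟩
    · rw [hg, hg, AlgEquiv.coe_refl, id, map_smul, smul_eq_mul, mul_smul, smul_add]
    · show (LinearMap.toMatrix' g.toLinearMap).det = _
      rw [LinearMap.det_toMatrix', show g.toLinearMap = (LinearMap.transvection φ u).restrictScalars F from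
        LinearMap.ext hg, LinearMap.det_restrictScalars, LinearMap.transvection.det]
  have main : ∀ M : Subgroup (GL (Fin n) F),
      Cfsg.Geo.subalgebraNormalizer K ⊓ Cfsg.Geo.specialLinear (Fin n) F ≤ M →
      ∀ g₀ ∈ M, g₀ ∉ Cfsg.Geo.subalgebraNormalizer K → Cfsg.Geo.specialLinear (Fin n) F ≤ M := by
    intro M hM g₀ hg₀ hg₀N
    let M' : Subgroup ((Fin n → F) ≃ₗ[F] (Fin n → F)) :=
      { carrier := {g | ∃ G ∈ M, ∀ x, (G : Matrix (Fin n) (Fin n) F) *ᵥ x = g x}
        mul_mem' := by
          rintro a b ⟨A, hA, hAx⟩ ⟨B, hB, hBx⟩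
          exact ⟨A * B, mul_mem hA hB, fun x => by rw [TransvectionMax.mul_act, hBx, hAx]; rfl⟩
        one_mem' := ⟨1, one_mem M, fun x => by rw [TransvectionMax.one_act]; rfl⟩
        inv_mem' := by
          rintro a ⟨A, hA, hAx⟩
          refine ⟨A⁻¹, inv_mem hA, fun x => ?_⟩
          apply a.injective
          rw [← hAx, TransvectionMax.act_inv_act]
          exact (a.apply_symm_apply x).symm }
    have hHyp : ExtFieldMax.Hyp K M' := by
      refine ⟨?_, hdim, fun φ u g h1 hg => ⟨toGL g, hM ⟨(hdet φ u g hg).1, ?_⟩, htoGL g⟩, fun g σ hg hF =>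
        ⟨toGL g, hM ⟨hnorm g σ hg, ?_⟩, htoGL g⟩, ?_⟩
      · rw [show Module.finrank F K = r from hK.finrank_eq]; exact hr
      · show Matrix.GeneralLinearGroup.det (toGL g) = 1
        apply Units.ext
        rw [Matrix.GeneralLinearGroup.val_det_apply, (hdet φ u g hg).2, h1, Units.val_one]
      · haveI : Subsingleton Fˣ := Finite.card_le_one_iff_subsingleton.1 (by
          rw [Nat.card_units, Nat.card_eq_fintype_card, hF])
        exact Subsingleton.elim (α := Fˣ) _ _
      · by_contra hcon
        push Not at hcon
        apply hg₀N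
        let g : (Fin n → F) ≃ₗ[F] (Fin n → F) :=
          LinearEquiv.ofBijective (Matrix.toLin' (g₀ : Matrix (Fin n) (Fin n) F))
            ((Finite.injective_iff_bijective).1 fun a b h =>
              TransvectionMax.act_injective g₀ (by simpa [Matrix.toLin'_apply] using h))
        have hgM : g ∈ M' := ⟨g₀, hg₀, fun x => (Matrix.toLin'_apply _ x).symm⟩
        have hline := hcon g hgM
        obtain ⟨v₀, hv₀⟩ := exists_ne (0 : Fin n → F)
        choose s hs using fun v c => hline v c
        -- the scalar does not depend on the vector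
        have hs0 : ∀ v c, v ≠ 0 → s v c = s v₀ c := by
          have key : ∀ v w, v ≠ 0 → w ∉ Submodule.span K {v} → ∀ c, s v c = s w c := by
            intro v w hv hw c
            have hgvw : ∀ a b : K, a • g v + b • g w = 0 → b = 0 := by
              intro a b hab
              by_contra hb
              -- the line of `v` is mapped onto the line of `g v`
              have hinj : Function.Injective (s v) := fun c c' h => by
                apply smul_left_injective K hv
                apply g.injective
                show g (c • v) = g (c' • v)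
                rw [hs, hs, h]
              obtain ⟨e, he⟩ := (Finite.injective_iff_surjective.1 hinj) (-(b⁻¹ * a))
              apply hw
              refine Submodule.mem_span_singleton.2 ⟨e, g.injective ?_⟩
              rw [hs, he, neg_smul, mul_smul, ← smul_neg, inv_smul_eq_iff₀ hb]
              exact neg_eq_of_add_eq_zero_right hab
            have hgv : g v ≠ 0 := (map_ne_zero_iff _ g.injective).2 hv
            have h := hs (v + w) c
            rw [smul_add, map_add, map_add, hs, hs, smul_add] at h
            have h' : (s v c - s (v + w) c) • g v + (s w c - s (v + w) c) • g w = 0 := by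
              rw [sub_smul, sub_smul, sub_add_sub_comm, h, sub_self]
            have hb := hgvw _ _ h'
            rw [hb, zero_smul, add_zero] at h'
            rcases smul_eq_zero.1 h' with ha | ha
            · rw [sub_eq_zero.1 ha, sub_eq_zero.1 hb]
            · exact absurd ha hgv
          intro v c hv
          by_cases h : v ∈ Submodule.span K {v₀}
          · obtain ⟨w, -, hw⟩ := SetLike.exists_of_lt
              (show Submodule.span K {v₀} < ⊤ from lt_top_iff_ne_top.2 fun hh => by
                have h1 := finrank_span_singleton (K := K) hv₀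
                rw [hh, finrank_top] at h1
                omega)
            have hwv : w ∉ Submodule.span K {v} := fun hh =>
              hw ((Submodule.span_singleton_le_iff_mem _ _).2 h hh)
            rw [key v w hv hwv c, key v₀ w hv₀ hw c]
          · exact (key v₀ v hv₀ h c).symm
        let τ : K → K := s v₀
        have hτ : ∀ (c : K) x, g (c • x) = τ c • g x := by
          intro c x
          by_cases hx : x = 0
          · simp [hx]
          · rw [hs, hs0 x c hx]
        intro k
        have hinj : Function.Injective τ := fun c c' h => by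
          apply smul_left_injective K hv₀
          apply g.injective
          show g (c • v₀) = g (c' • v₀)
          rw [hτ, hτ, h]
        have hconj : ∀ c : K, (g₀ : Matrix (Fin n) (Fin n) F) * (c : Matrix (Fin n) (Fin n) F) *
            ((g₀⁻¹ : GL (Fin n) F) : Matrix (Fin n) (Fin n) F) = (τ c : K) := by
          intro c
          rw [Units.mul_inv_eq_iff_eq_mul]
          apply Matrix.ext_iff_mulVec.mpr
          intro x
          rw [← Matrix.mulVec_mulVec, ← Matrix.mulVec_mulVec, ← hsmul, ← hsmul]
          exact (Matrix.toLin'_apply _ _).symm.trans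
            ((hτ c x).trans (congrArg (τ c • ·) (Matrix.toLin'_apply _ _)))
        constructor
        · intro hk
          rw [show k = ((⟨k, hk⟩ : K) : Matrix (Fin n) (Fin n) F) from rfl, hconj]
          exact (τ ⟨k, hk⟩).2
        · intro hk
          obtain ⟨c, hc⟩ := (Finite.injective_iff_surjective.1 hinj) ⟨_, hk⟩
          have h := hconj c
          rw [hc] at h
          have := (Units.mul_right_inj g₀).1 ((Units.mul_left_inj g₀⁻¹).1 h)
          rw [← this]
          exact c.2
    refine TransvectionMax.specialLinear_le fun v φ h => ?_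
    let χ : (Fin n → F) →ₗ[F] F :=
      { toFun := fun y => φ ⬝ᵥ y, map_add' := dotProduct_add φ, map_smul' := fun c y => dotProduct_smul c φ y }
    obtain ⟨g, ⟨G, hG, hGx⟩, hg⟩ := ExtFieldMax.all_tv hHyp χ v h
    rw [← TransvectionMax.tv_eq_of_act h (fun x => by rw [hGx, hg]; rfl)]
    exact hG
  refine ⟨⟨fun h => hnle (h ▸ le_top), fun M hM => ?_⟩,
    ⟨lt_of_le_of_ne inf_le_right (fun h => hnle (h ▸ inf_le_left)), fun M h1 h2 => ?_⟩⟩
  · obtain ⟨g₀, hg₀, hg₀N⟩ := SetLike.exists_of_lt hM
    have hSL := main M (inf_le_left.trans hM.le) g₀ hg₀ hg₀N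
    rw [eq_top_iff]
    intro G _
    obtain ⟨c, hc⟩ := FiniteField.norm_surjective F K ((G : Matrix (Fin n) (Fin n) F).det)
    obtain ⟨v, hv⟩ := exists_ne (0 : Fin n → F)
    obtain ⟨φ, hφ, -⟩ := ExtFieldMax.exists_dual_one (⊥ : Submodule K (Fin n → F)) (by simpa using hv)
    have hne : 1 + φ ((c - 1) • v) ≠ 0 := by
      rw [map_smul, hφ, smul_eq_mul, mul_one, add_sub_cancel]
      intro h
      rw [h, Algebra.norm_zero] at hc
      exact (Matrix.GeneralLinearGroup.det G).ne_zero hc.symm
    let f : (Fin n → F) →ₗ[F] (Fin n → F) := (LinearMap.transvection φ ((c - 1) • v)).restrictScalars F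
    have hf : Function.Injective f := by
      rw [injective_iff_map_eq_zero]
      intro x hx
      have hx' : x + φ x • (c - 1) • v = 0 := hx
      have h1 := congrArg φ hx'
      rw [map_add, map_smul, smul_eq_mul, map_zero, ← mul_one_add] at h1
      rcases mul_eq_zero.1 h1 with h2 | h2
      · simpa [h2] using hx'
      · exact absurd h2 hne
    obtain ⟨hN, hD⟩ := hdet φ _ (LinearEquiv.ofBijective f (Finite.injective_iff_bijective.1 hf)) (fun x => rfl)
    rw [map_smul, hφ, smul_eq_mul, mul_one, add_sub_cancel, hc] at hD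
    have h1 : (toGL (LinearEquiv.ofBijective f (Finite.injective_iff_bijective.1 hf)))⁻¹ * G ∈
        Cfsg.Geo.specialLinear (Fin n) F := by
      show Matrix.GeneralLinearGroup.det _ = 1
      rw [map_mul, map_inv, inv_mul_eq_one]
      exact Units.ext hD
    simpa using mul_mem (hM.le hN) (hSL h1)
  · by_cases h : M ≤ Cfsg.Geo.subalgebraNormalizer K
    · exact Or.inl (le_antisymm (le_inf h h2) h1)
    · obtain ⟨g₀, hg₀, hg₀N⟩ := SetLike.not_le_iff_exists.1 h
      exact Or.inr (le_antisymm h2 (main M h1 g₀ hg₀ hg₀N))

end Cfsg.Agent.S5886
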