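import Cfsg.Statements.S2426
import Cfsg.Agent.Lib.FrobeniusSteinbergSL2
-- import your own Cfsg.Agent.* helpers here

set_option autoImplicit false
open Cfsg

namespace Cfsg.Agent.S2426

/-- The rank-one Steinberg presentation of `SL₂` over a finite field `K`: generators `x(t)`, `y(t)` (`t ∈ K`; the two opposite root subgroups) subject to additivity `x(t)x(u) = x(t+u)`, `y(t)y(u) = y(t+u)` and, with `w(t) = x(t) y(−t⁻¹) x(t)` and `w'(t) = y(t) x(−t⁻¹) y(t)` for `t ≠ 0`, the relations `w(t) x(u) w(t)⁻¹ = y(−t⁻² u)` and `w'(t) y(u) w'(t)⁻¹ = x(−t⁻² u)`, present `SL₂(K)`, with `x(t) ↦ (1 t; 0 1)` and `y(t) ↦ (1 0; t 1)`. -/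
theorem result {K : Type*} [Field K] [Finite K] :
    ∃ e : PresentedGroup
        ({g : FreeGroup (Bool × K) | ∃ (b : Bool) (t u : K), g = FreeGroup.of (b, t) * FreeGroup.of (b, u) * (FreeGroup.of (b, t + u))⁻¹} ∪
          {g | ∃ (b : Bool) (t u : K), t ≠ 0 ∧
            g = (FreeGroup.of (b, t) * FreeGroup.of (!b, -t⁻¹) * FreeGroup.of (b, t)) * FreeGroup.of (b, u) *
                  (FreeGroup.of (b, t) * FreeGroup.of (!b, -t⁻¹) * FreeGroup.of (b, t))⁻¹ * (FreeGroup.of (!b, -(t⁻¹ ^ 2 * u)))⁻¹})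
        ≃* Matrix.SpecialLinearGroup (Fin 2) K,
      (∀ t : K, ((e (PresentedGroup.of (true, t)) : Matrix (Fin 2) (Fin 2) K)) = !![1, t; 0, 1]) ∧
      (∀ t : K, ((e (PresentedGroup.of (false, t)) : Matrix (Fin 2) (Fin 2) K)) = !![1, 0; t, 1]) := by
  classical
  set rels : Set (FreeGroup (Bool × K)) :=
    ({g : FreeGroup (Bool × K) | ∃ (b : Bool) (t u : K), g = FreeGroup.of (b, t) * FreeGroup.of (b, u) * (FreeGroup.of (b, t + u))⁻¹} ∪
      {g | ∃ (b : Bool) (t u : K), t ≠ 0 ∧
        g = (FreeGroup.of (b, t) * FreeGroup.of (!b, -t⁻¹) * FreeGroup.of (b, t)) * FreeGroup.of (b, u) *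
              (FreeGroup.of (b, t) * FreeGroup.of (!b, -t⁻¹) * FreeGroup.of (b, t))⁻¹ * (FreeGroup.of (!b, -(t⁻¹ ^ 2 * u)))⁻¹}) with hrels
  let R : FrobeniusSteinbergSL2.Root K (PresentedGroup rels) :=
    { x := fun b t => PresentedGroup.of (b, t)
      add := fun b t u => by
        have h := PresentedGroup.one_of_mem (rels := rels) (Or.inl ⟨b, t, u, rfl⟩)
        simp only [map_mul, map_inv] at h
        exact mul_inv_eq_one.1 h
      rel := fun b t u ht => by
        have h := PresentedGroup.one_of_mem (rels := rels) (Or.inr ⟨b, t, u, ht, rfl⟩)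
        simp only [map_mul, map_inv] at h
        exact mul_inv_eq_one.1 h
      gen := by
        rw [eq_top_iff, ← PresentedGroup.closure_range_of rels]
        refine Subgroup.closure_mono ?_
        rintro _ ⟨⟨b, t⟩, rfl⟩
        cases b
        · exact Or.inr ⟨t, rfl⟩
        · exact Or.inl ⟨t, rfl⟩ }
  let f : Bool × K → Matrix.SpecialLinearGroup (Fin 2) K := fun a =>
    if a.1 then PSL2Elements.u a.2 else PSL2Elements.mk2 1 0 a.2 1 (by ring)
  have hf : ∀ r ∈ rels, FreeGroup.lift f r = 1 := by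
    rintro r (⟨b, t, u, rfl⟩ | ⟨b, t, u, ht, rfl⟩)
    · cases b <;> simp only [map_mul, map_inv, FreeGroup.lift_apply_of, mul_inv_eq_one] <;>
        apply PSL2Elements.ext2 <;> simp [f, PSL2Elements.u, PSL2Elements.mul_apply2] <;> ring
    · cases b <;> simp only [map_mul, map_inv, FreeGroup.lift_apply_of, mul_inv_eq_one,
          mul_inv_eq_iff_eq_mul] <;>
        apply PSL2Elements.ext2 <;>
        simp [f, PSL2Elements.u, PSL2Elements.mul_apply2] <;> field_simp <;> (try simp) <;> (try ring)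
  let π : PresentedGroup rels →* Matrix.SpecialLinearGroup (Fin 2) K := PresentedGroup.toGroup hf
  have hx : ∀ t, π (R.x true t) = PSL2Elements.u t := fun t => by simp [π, R, f]
  have hy : ∀ t, π (R.x false t) = PSL2Elements.mk2 1 0 t 1 (by ring) := fun t => by simp [π, R, f]
  have hsurj : Function.Surjective π := by
    rw [← MonoidHom.range_eq_top]
    refine SL2PresData.closure_eq_top _ (fun t => ⟨_, hx t⟩) ⟨R.w 1, ?_⟩
    rw [FrobeniusSteinbergSL2.Root.w, map_mul, map_mul, hx, hy]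
    apply PSL2Elements.ext2 <;>
      simp [PSL2Elements.u, SL2PresData.W, PSL2Elements.mul_apply2]
  refine ⟨MulEquiv.ofBijective π ⟨R.injective π hx hy, hsurj⟩, fun t => ?_, fun t => ?_⟩
  · show ((π (R.x true t)) : Matrix (Fin 2) (Fin 2) K) = _
    rw [hx]; rfl
  · show ((π (R.x false t)) : Matrix (Fin 2) (Fin 2) K) = _
    rw [hy]; rfl

end Cfsg.Agent.S2426
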