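import Cfsg.Statements.S2401
import Cfsg.Agent.S2426
import Cfsg.Agent.Lib.FrobeniusSteinbergSLn
-- import your own Cfsg.Agent.* helpers here

set_option autoImplicit false
open Cfsg
open scoped Matrix

namespace Cfsg.Agent.S2401

open FrobeniusSteinbergSLn in
theorem exists_sys {ι K G : Type*} [Field K] [Finite K] [Group G] (R : Pre ι K G)
    (h3 : ∀ a b : ι, a ≠ b → ∃ c, a ≠ c ∧ b ≠ c) : ∃ S : Sys ι K G, S.x = R.x := by
  have hex : ∀ a b : ι, a ≠ b → ∃ θ : Matrix.SpecialLinearGroup (Fin 2) K →* G,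
      (∀ t, θ (PSL2Elements.u t) = R.x a b t) ∧ ∀ t, θ (lo t) = R.x b a t := by
    intro a b hab
    obtain ⟨c, hac, hbc⟩ := h3 a b hab
    obtain ⟨e, he1, he2⟩ := S2426.result (K := K)
    let f : Bool × K → G := fun z => if z.1 then R.x a b z.2 else R.x b a z.2
    have hf : ∀ r ∈ ({g : FreeGroup (Bool × K) | ∃ (b : Bool) (t u : K), g = FreeGroup.of (b, t) * FreeGroup.of (b, u) * (FreeGroup.of (b, t + u))⁻¹} ∪
          {g | ∃ (b : Bool) (t u : K), t ≠ 0 ∧
            g = (FreeGroup.of (b, t) * FreeGroup.of (!b, -t⁻¹) * FreeGroup.of (b, t)) * FreeGroup.of (b, u) *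
                  (FreeGroup.of (b, t) * FreeGroup.of (!b, -t⁻¹) * FreeGroup.of (b, t))⁻¹ * (FreeGroup.of (!b, -(t⁻¹ ^ 2 * u)))⁻¹} : Set (FreeGroup (Bool × K))),
        FreeGroup.lift f r = 1 := by
      rintro r (⟨z, t, u, rfl⟩ | ⟨z, t, u, ht, rfl⟩)
      · cases z
        · simpa [f, mul_inv_eq_one] using R.add b a hab.symm t u
        · simpa [f, mul_inv_eq_one] using R.add a b hab t u
      · cases z
        · simpa [f, mul_inv_eq_one, Pre.w] using R.rank_one hab.symm hac hbc ht u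
        · simpa [f, mul_inv_eq_one, Pre.w] using R.rank_one hab hbc hac ht u
    refine ⟨(PresentedGroup.toGroup hf).comp e.symm.toMonoidHom, fun t => ?_, fun t => ?_⟩
    · have h : e.symm (PSL2Elements.u t) = PresentedGroup.of (true, t) := by
        rw [MulEquiv.symm_apply_eq]
        exact Subtype.ext (he1 t).symm
      show PresentedGroup.toGroup hf (e.symm (PSL2Elements.u t)) = _
      rw [h]
      simp [f]
    · have h : e.symm (lo t) = PresentedGroup.of (false, t) := by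
        rw [MulEquiv.symm_apply_eq]
        exact Subtype.ext (he2 t).symm
      show PresentedGroup.toGroup hf (e.symm (lo t)) = _
      rw [h]
      simp [f]
  choose θ h1 h2 using hex
  exact ⟨{ R with θ := θ, θu := h1, θl := h2 }, rfl⟩

/-- The Steinberg presentation of `SL_n` over a finite field for `n ≥ 3`: the group generated by symbols `x_ij(t)` (`i ≠ j`, `t` in the field) subject to `x_ij(t) x_ij(u) = x_ij(t + u)` and, for `i ≠ l`, `x_ij(t) x_kl(u) x_ij(t)⁻¹ x_kl(u)⁻¹ = x_il(tu)` if `j = k` and `= 1` if `j ≠ k`, is isomorphic to `SL_n` by an isomorphism sending `x_ij(t)` to the elementary matrix `1 + t E_ij`. -/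
theorem result {K : Type*} [Field K] [Finite K] (n : ℕ) (hn : 3 ≤ n) :
    ∃ e : PresentedGroup
        ({g : FreeGroup ({ij : Fin n × Fin n // ij.1 ≠ ij.2} × K) | ∃ (a : {ij : Fin n × Fin n // ij.1 ≠ ij.2}) (t u : K),
            g = FreeGroup.of (a, t) * FreeGroup.of (a, u) * (FreeGroup.of (a, t + u))⁻¹} ∪
          {g | ∃ (a b : {ij : Fin n × Fin n // ij.1 ≠ ij.2}) (t u : K), a.1.1 ≠ b.1.2 ∧ a.1.2 ≠ b.1.1 ∧
            g = FreeGroup.of (a, t) * FreeGroup.of (b, u) * (FreeGroup.of (a, t))⁻¹ * (FreeGroup.of (b, u))⁻¹} ∪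
          {g | ∃ (a b : {ij : Fin n × Fin n // ij.1 ≠ ij.2}) (h : a.1.1 ≠ b.1.2) (t u : K), a.1.2 = b.1.1 ∧
            g = FreeGroup.of (a, t) * FreeGroup.of (b, u) * (FreeGroup.of (a, t))⁻¹ * (FreeGroup.of (b, u))⁻¹ *
              (FreeGroup.of (⟨(a.1.1, b.1.2), h⟩, t * u))⁻¹}) ≃* Matrix.SpecialLinearGroup (Fin n) K,
      ∀ (a : {ij : Fin n × Fin n // ij.1 ≠ ij.2}) (t : K), ((e (PresentedGroup.of (a, t)) : Matrix (Fin n) (Fin n) K)) = Matrix.transvection a.1.1 a.1.2 t := by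
  classical
  haveI := Fintype.ofFinite K
  set rels : Set (FreeGroup ({ij : Fin n × Fin n // ij.1 ≠ ij.2} × K)) :=
    ({g : FreeGroup ({ij : Fin n × Fin n // ij.1 ≠ ij.2} × K) | ∃ (a : {ij : Fin n × Fin n // ij.1 ≠ ij.2}) (t u : K),
        g = FreeGroup.of (a, t) * FreeGroup.of (a, u) * (FreeGroup.of (a, t + u))⁻¹} ∪
      {g | ∃ (a b : {ij : Fin n × Fin n // ij.1 ≠ ij.2}) (t u : K), a.1.1 ≠ b.1.2 ∧ a.1.2 ≠ b.1.1 ∧
        g = FreeGroup.of (a, t) * FreeGroup.of (b, u) * (FreeGroup.of (a, t))⁻¹ * (FreeGroup.of (b, u))⁻¹} ∪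
      {g | ∃ (a b : {ij : Fin n × Fin n // ij.1 ≠ ij.2}) (h : a.1.1 ≠ b.1.2) (t u : K), a.1.2 = b.1.1 ∧
        g = FreeGroup.of (a, t) * FreeGroup.of (b, u) * (FreeGroup.of (a, t))⁻¹ * (FreeGroup.of (b, u))⁻¹ *
          (FreeGroup.of (⟨(a.1.1, b.1.2), h⟩, t * u))⁻¹}) with hrels
  let R : FrobeniusSteinbergSLn.Pre (Fin n) K (PresentedGroup rels) :=
    { x := fun a b t => if h : a ≠ b then PresentedGroup.of ((⟨(a, b), h⟩ : {ij : Fin n × Fin n // ij.1 ≠ ij.2}), t) else 1
      add := fun a b h t u => by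
        rw [dif_pos h, dif_pos h, dif_pos h]
        have h1 := PresentedGroup.one_of_mem (rels := rels) (Or.inl (Or.inl ⟨⟨(a, b), h⟩, t, u, rfl⟩))
        simp only [map_mul, map_inv] at h1
        exact mul_inv_eq_one.1 h1
      comm := fun a b c d hab hcd had hbc t u => by
        rw [dif_pos hab, dif_pos hcd]
        have h1 := PresentedGroup.one_of_mem (rels := rels)
          (Or.inl (Or.inr ⟨⟨(a, b), hab⟩, ⟨(c, d), hcd⟩, t, u, had, hbc, rfl⟩))
        simp only [map_mul, map_inv] at h1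
        exact mul_inv_eq_iff_eq_mul.1 (mul_inv_eq_one.1 h1)
      chain := fun a b c hab hbc hac t u => by
        rw [dif_pos hab, dif_pos hbc, dif_pos hac]
        have h1 := PresentedGroup.one_of_mem (rels := rels)
          (Or.inr ⟨⟨(a, b), hab⟩, ⟨(b, c), hbc⟩, hac, t, u, rfl, rfl⟩)
        simp only [map_mul, map_inv] at h1
        exact mul_inv_eq_one.1 h1 }
  have h3 : ∀ a b : Fin n, a ≠ b → ∃ c, a ≠ c ∧ b ≠ c := by
    intro a b _
    obtain ⟨c, hc⟩ : ∃ c, c ∉ ({a, b} : Finset (Fin n)) := by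
      by_contra hno
      push Not at hno
      have h1 := Finset.card_le_card (fun c _ => hno c : (Finset.univ : Finset (Fin n)) ⊆ {a, b})
      rw [Finset.card_univ, Fintype.card_fin] at h1
      have h2 : ({a, b} : Finset (Fin n)).card ≤ 2 := Finset.card_le_two
      omega
    simp only [Finset.mem_insert, Finset.mem_singleton, not_or] at hc
    exact ⟨c, Ne.symm hc.1, Ne.symm hc.2⟩
  obtain ⟨S, hS⟩ := exists_sys R h3
  let f : {ij : Fin n × Fin n // ij.1 ≠ ij.2} × K → Matrix.SpecialLinearGroup (Fin n) K :=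
    fun z => Matrix.SpecialLinearGroup.transvection z.1.2 z.2
  have hf : ∀ r ∈ rels, FreeGroup.lift f r = 1 := by
    rintro r ((⟨⟨⟨a, b⟩, hab⟩, t, u, rfl⟩ | ⟨⟨⟨a, b⟩, hab⟩, ⟨⟨c, d⟩, hcd⟩, t, u, h1, h2, rfl⟩) |
      ⟨⟨⟨a, b⟩, hab⟩, ⟨⟨c, d⟩, hcd⟩, h, t, u, h2, rfl⟩)
    · simp only [map_mul, map_inv, FreeGroup.lift_apply_of, mul_inv_eq_one, f]
      refine Subtype.ext ?_
      rw [Matrix.SpecialLinearGroup.coe_mul]
      exact Matrix.transvection_mul_transvection_same a b hab t u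
    · simp only [map_mul, map_inv, FreeGroup.lift_apply_of, mul_inv_eq_iff_eq_mul, one_mul, f]
      refine Subtype.ext <| Matrix.ext_iff_mulVec.2 fun v => ?_
      simp only [Matrix.SpecialLinearGroup.coe_mul, Matrix.SpecialLinearGroup.transvection_coe,
        ← Matrix.mulVec_mulVec]
      change Matrix.transvection a b t *ᵥ (Matrix.transvection c d u *ᵥ v) =
        Matrix.transvection c d u *ᵥ (Matrix.transvection a b t *ᵥ v)
      simp only [FrobeniusSteinbergSLn.transvection_mulVec, Pi.add_apply,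
        Pi.single_eq_of_ne h2, Pi.single_eq_of_ne (Ne.symm h1), add_zero]
      abel
    · change b = c at h2
      subst h2
      simp only [map_mul, map_inv, FreeGroup.lift_apply_of, f]
      rw [mul_inv_eq_one]
      exact Cfsg.Agent.PSLSimple.commutator_transvection hab hcd h t u
  let π : PresentedGroup rels →* Matrix.SpecialLinearGroup (Fin n) K := PresentedGroup.toGroup hf
  let π' : PresentedGroup rels →* Matrix (Fin n) (Fin n) K :=
    { toFun := fun g => (π g : Matrix (Fin n) (Fin n) K)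
      map_one' := by simp
      map_mul' := fun g g' => by simp }
  have hof : ∀ (a b : Fin n) (h : a ≠ b) (t : K),
      π (PresentedGroup.of ((⟨(a, b), h⟩ : {ij : Fin n × Fin n // ij.1 ≠ ij.2}), t)) =
        Matrix.SpecialLinearGroup.transvection h t := fun a b h t => by simp [π, f]
  have hπ : ∀ a b t, a ≠ b → π' (S.x a b t) = Matrix.transvection a b t := by
    intro a b t hab
    rw [hS]
    show ((π (if h : a ≠ b then _ else 1)) : Matrix (Fin n) (Fin n) K) = _
    rw [dif_pos hab, hof a b hab t]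
    rfl
  have htop : ∀ g : PresentedGroup rels,
      g ∈ S.sub (FrobeniusSteinbergSLn.inS Finset.univ) := by
    intro g
    have hg : g ∈ Subgroup.closure (Set.range (PresentedGroup.of (rels := rels))) := by
      rw [PresentedGroup.closure_range_of]; exact Subgroup.mem_top g
    refine Subgroup.closure_mono ?_ hg
    rintro _ ⟨⟨⟨⟨a, b⟩, hab⟩, t⟩, rfl⟩
    refine ⟨a, b, t, hab, ⟨Finset.mem_univ a, Finset.mem_univ b⟩, ?_⟩
    rw [hS]
    show _ = dite _ _ _
    rw [dif_pos hab]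
  have hinj : Function.Injective π := (injective_iff_map_eq_one π).2 fun g hg =>
    S.injective π' hπ Finset.univ g (htop g) (by show (π g : Matrix (Fin n) (Fin n) K) = 1; rw [hg]; rfl)
  haveI : Nontrivial (Fin n) := Fin.nontrivial_iff_two_le.2 (by omega)
  have hsurj : Function.Surjective π := by
    rw [← MonoidHom.range_eq_top]
    exact Cfsg.Agent.PSLSimple.eq_top_of_transvection_mem _ fun a b hab c => ⟨_, hof a b hab c⟩
  refine ⟨MulEquiv.ofBijective π ⟨hinj, hsurj⟩, fun a t => ?_⟩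
  obtain ⟨⟨a, b⟩, hab⟩ := a
  show ((π _) : Matrix (Fin n) (Fin n) K) = _
  rw [hof a b hab t]
  rfl

end Cfsg.Agent.S2401
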