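import Cfsg.Statements.S4738
import Cfsg.Agent.Lib.ClassAlgebraOmega

set_option autoImplicit false
open Cfsg
open scoped Pointwise

namespace Cfsg.Agent.S4738

section

variable {G : Type*} [Group G] [Finite G]

/-- An element commuting with a nontrivial `p`-element has odd order, if no element has order `2p`. -/
theorem odd_of_commute {p : ℕ} [Fact p.Prime] (hp2 : p ≠ 2) (h2p : ∀ g : G, orderOf g ≠ 2 * p)
    {y : G} (hy1 : y ≠ 1) {k : ℕ} (hy : orderOf y = p ^ k) {g : G} (hg : Commute g y) :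
    ¬ 2 ∣ orderOf g := by
  intro h
  have hk : k ≠ 0 := by
    rintro rfl
    exact hy1 (orderOf_eq_one_iff.1 (by simpa using hy))
  have h1 : orderOf (y ^ (orderOf y / p)) = p :=
    orderOf_pow_orderOf_div (isOfFinOrder_of_finite y).orderOf_pos.ne' (hy ▸ dvd_pow_self p hk)
  have h2 : orderOf (g ^ (orderOf g / 2)) = 2 :=
    orderOf_pow_orderOf_div (isOfFinOrder_of_finite g).orderOf_pos.ne' h
  refine h2p (g ^ (orderOf g / 2) * y ^ (orderOf y / p)) ?_
  rw [(hg.pow_pow _ _).orderOf_mul_eq_mul_orderOf_of_coprime (by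
    rw [h1, h2]
    exact (Nat.coprime_primes Nat.prime_two Fact.out).2 hp2.symm), h1, h2]

/-- Two involutions with product of odd order are conjugate. -/
theorem isConj_of_odd_product {a b : G} (ha : a * a = 1) (hb : b * b = 1)
    (h : ¬ 2 ∣ orderOf (a * b)) : IsConj a b := by
  obtain ⟨k, hk⟩ := Nat.not_even_iff_odd.1 (fun e => h (even_iff_two_dvd.1 e))
  set r := a * b with hr
  have hai : a⁻¹ = a := inv_eq_of_mul_eq_one_right ha
  have hbi : b⁻¹ = b := inv_eq_of_mul_eq_one_right hb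
  have har : a * r * a⁻¹ = r⁻¹ := by
    rw [hr, hai, mul_inv_rev, hai, hbi, ← mul_assoc a a b, ha, one_mul]
  have hark : a * r ^ k * a⁻¹ = (r ^ k)⁻¹ := by rw [← conj_pow, har, inv_pow]
  refine isConj_iff.2 ⟨r ^ k, ?_⟩
  have h1 : r ^ k * a = a * (r ^ k)⁻¹ := by
    rw [← hark, ← mul_assoc, ← mul_assoc, ha, one_mul, hai]
  have h2 : (r ^ k)⁻¹ * (r ^ k)⁻¹ = r := by
    rw [← mul_inv_rev, ← pow_add, eq_comm, eq_inv_iff_mul_eq_one, ← pow_succ', ← two_mul]
    rw [← hk]; exact pow_orderOf_eq_one r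
  rw [h1, mul_assoc, h2, hr, ← mul_assoc, ha, one_mul]

/-- An involution inverting a nontrivial `p`-element inverts some Sylow subgroup of its centralizer. -/
theorem exists_inverted_sylow {p : ℕ} [Fact p.Prime] (hp2 : p ≠ 2) (h2p : ∀ g : G, orderOf g ≠ 2 * p)
    {u s : G} (hu1 : u ≠ 1) {k : ℕ} (hu : orderOf u = p ^ k) (hs : orderOf s = 2)
    (hsu : s * u * s⁻¹ = u⁻¹) :
    ∃ R : Sylow p ↥(Subgroup.centralizer ({u} : Set G)), ∀ r ∈ R, s * (r : G) * s⁻¹ = (r : G)⁻¹ := by
  have hss : s * s = 1 := by rw [← pow_two, ← hs]; exact pow_orderOf_eq_one s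
  set H := Subgroup.centralizer ({u} : Set G) with hH
  have hmem : ∀ g : G, g ∈ H → s * g * s⁻¹ ∈ H := by
    intro g hg
    rw [hH, Subgroup.mem_centralizer_singleton_iff] at hg ⊢
    have hc : Commute g u⁻¹ := Commute.inv_right hg
    have hu' : u = s * u⁻¹ * s⁻¹ := by rw [← conj_inv, hsu, inv_inv]
    calc s * g * s⁻¹ * u = s * g * s⁻¹ * (s * u⁻¹ * s⁻¹) := by rw [← hu']
      _ = s * (g * u⁻¹) * s⁻¹ := by group
      _ = s * (u⁻¹ * g) * s⁻¹ := by rw [hc.eq]
      _ = (s * u⁻¹ * s⁻¹) * (s * g * s⁻¹) := by group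
      _ = u * (s * g * s⁻¹) := by rw [← hu']
  have hinvol : ∀ g : G, s * (s * g * s⁻¹) * s⁻¹ = g := by
    intro g
    calc s * (s * g * s⁻¹) * s⁻¹ = (s * s) * g * (s * s)⁻¹ := by group
      _ = g := by rw [hss]; group
  let φ : MulAut H :=
    { toFun := fun g => ⟨s * g * s⁻¹, hmem g g.2⟩
      invFun := fun g => ⟨s * g * s⁻¹, hmem g g.2⟩
      left_inv := fun g => Subtype.ext (hinvol g)
      right_inv := fun g => Subtype.ext (hinvol g)
      map_mul' := fun g h => Subtype.ext (show s * (g * h : G) * s⁻¹ = s * g * s⁻¹ * (s * h * s⁻¹) by group) }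
  have hφ : φ * φ = 1 := MulEquiv.ext fun g => Subtype.ext (hinvol g)
  have hodd : ¬ 2 ∣ Nat.card H := by
    intro h
    have : Fact (Nat.Prime 2) := ⟨Nat.prime_two⟩
    obtain ⟨t, ht⟩ := exists_prime_orderOf_dvd_card' 2 h
    exact odd_of_commute hp2 h2p hu1 hu (g := (t : G))
      (Subgroup.mem_centralizer_singleton_iff.1 t.2) (by rw [Subgroup.orderOf_coe, ht])
  have : Fintype (Sylow p H) := Fintype.ofFinite _
  have : Fact (Nat.Prime 2) := ⟨Nat.prime_two⟩
  have hnX : ¬ 2 ∣ Fintype.card (Sylow p H) := by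
    rw [← Nat.card_eq_fintype_card]
    intro h
    exact hodd (h.trans ((Sylow.card_dvd_index (default : Sylow p H)).trans (Subgroup.index_dvd_card _)))
  obtain ⟨R, hR⟩ := Equiv.Perm.exists_fixed_point_of_prime (p := 2) (n := 1) hnX
    (σ := MulAction.toPermHom (MulAut H) (Sylow p H) φ) (by rw [pow_one, ← map_pow, pow_two, hφ, map_one])
  have hR' : φ • R = R := hR
  have hstab : ∀ r ∈ R, φ r ∈ R := by
    intro r hr
    have : φ r ∈ φ • R := by
      show φ r ∈ φ • (R : Subgroup H)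
      exact Subgroup.smul_mem_pointwise_smul r φ _ hr
    rwa [hR'] at this
  let f : ↥(R : Subgroup H) →* ↥(R : Subgroup H) :=
    { toFun := fun r => ⟨φ (r : H), hstab (r : H) r.2⟩
      map_one' := Subtype.ext (map_one φ)
      map_mul' := fun a b => Subtype.ext (map_mul φ (a : H) (b : H)) }
  have hfpf : MonoidHom.FixedPointFree f := by
    intro r hr
    have h1 : s * ((r : H) : G) * s⁻¹ = ((r : H) : G) :=
      congrArg (fun z : ↥(R : Subgroup H) => ((z : H) : G)) hr
    by_contra hne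
    obtain ⟨j, hj⟩ := (IsPGroup.iff_orderOf.1 R.isPGroup') r
    refine odd_of_commute hp2 h2p (y := ((r : H) : G)) (fun e => hne (Subtype.ext (Subtype.ext e))) (k := j)
      (by rw [Subgroup.orderOf_coe, Subgroup.orderOf_coe, hj]) (g := s) ?_ (by rw [hs])
    exact (mul_inv_eq_iff_eq_mul.1 h1)
  have hinv : Function.Involutive f := fun r => Subtype.ext (Subtype.ext (hinvol _))
  refine ⟨R, fun r hr => ?_⟩
  have := congrFun (hfpf.coe_eq_inv_of_involutive hinv) ⟨r, hr⟩
  exact congrArg (fun z : ↥(R : Subgroup H) => ((z : H) : G)) this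

/-- Transfer of inversion to a given subgroup of full `p`-order in the centralizer. -/
theorem exists_inverting {p : ℕ} [Fact p.Prime] (hp2 : p ≠ 2) (h2p : ∀ g : G, orderOf g ≠ 2 * p)
    {u s : G} (hu1 : u ≠ 1) {k : ℕ} (hu : orderOf u = p ^ k) (hs : orderOf s = 2)
    (hsu : s * u * s⁻¹ = u⁻¹) (A : Subgroup G) (hA : A ≤ Subgroup.centralizer ({u} : Set G))
    (hcard : Nat.card A = p ^ (Nat.card ↥(Subgroup.centralizer ({u} : Set G))).factorization p) :
    ∃ s' : G, IsConj s s' ∧ ∀ r ∈ A, s' * r * s'⁻¹ = r⁻¹ := by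
  set H := Subgroup.centralizer ({u} : Set G) with hH
  obtain ⟨R, hR⟩ := exists_inverted_sylow hp2 h2p hu1 hu hs hsu
  let A' : Sylow p H := Sylow.ofCard (A.subgroupOf H)
    (by rw [Nat.card_congr (Subgroup.subgroupOfEquivOfLe hA).toEquiv, hcard])
  obtain ⟨c, hc⟩ := MulAction.exists_smul_eq H R A'
  refine ⟨(c : G) * s * (c : G)⁻¹, isConj_iff.2 ⟨c, rfl⟩, fun r hr => ?_⟩
  have h1 : (⟨r, hA hr⟩ : H) ∈ c • R := by rw [hc]; exact hr
  change (⟨r, hA hr⟩ : H) ∈ ((c • R : Sylow p H) : Subgroup H) at h1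
  rw [Sylow.smul_def, Sylow.pointwise_smul_def, Subgroup.mem_pointwise_smul_iff_inv_smul_mem] at h1
  have h2 := hR _ h1
  simp only [← map_inv, MulAut.smul_def, MulAut.conj_apply, inv_inv, Subgroup.coe_mul, InvMemClass.coe_inv] at h2
  calc (c : G) * s * (c : G)⁻¹ * r * ((c : G) * s * (c : G)⁻¹)⁻¹
      = c * (s * ((c : G)⁻¹ * r * c) * s⁻¹) * (c : G)⁻¹ := by group
    _ = r⁻¹ := by rw [h2]; group

end

/-- The key consequence of the absence of characters of defect zero. -/
theorem exists_class_inverting_sylow {G : Type*} [Group G] [Fintype G] (p : ℕ) [Fact p.Prime]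
    (hp2 : p ≠ 2) (h2p : ∀ g : G, orderOf g ≠ 2 * p)
    (hno : ∀ χ : Cfsg.IrrCharacter G,
      (Cfsg.charDegree (χ : G → ℂ)).factorization p ≠ (Nat.card G).factorization p)
    (S : Sylow p G) {x : G} (hx : orderOf x = 2) :
    0 < (Nat.card G).factorization p ∧ ∃ s : G, IsConj x s ∧ ∀ r ∈ S, s * r * s⁻¹ = r⁻¹ := by
  classical
  have hp : p.Prime := Fact.out
  set a := (Nat.card G).factorization p with ha
  have hlt : ∀ χ : Cfsg.IrrCharacter G, (Cfsg.charDegree (χ : G → ℂ)).factorization p < a := fun χ =>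
    lt_of_le_of_ne (ClassAlgebraOmega.factorization_charDegree_le χ p) (hno χ)
  have ha0 : 0 < a := by
    obtain ⟨χ⟩ : Nonempty (Cfsg.IrrCharacter G) := by
      by_contra h0
      rw [not_nonempty_iff] at h0
      have := CharBasicOrth.sum_sq_apply_one (G := G)
      simp [Nat.cast_eq_zero, Fintype.card_ne_zero, eq_comm] at this
    exact (Nat.zero_le _).trans_lt (hlt χ)
  refine ⟨ha0, ?_⟩
  have hxx : x * x = 1 := by rw [← pow_two, ← hx]; exact pow_orderOf_eq_one x
  have hxi : x⁻¹ = x := inv_eq_of_mul_eq_one_right hxx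
  have hcard : Nat.card (S : Subgroup G) = p ^ a := S.card_eq_multiplicity
  have hCx : ¬ p ∣ Nat.card ↥(Subgroup.centralizer ({x} : Set G)) := by
    intro h
    obtain ⟨w, hw⟩ := exists_prime_orderOf_dvd_card' p h
    rw [← Subgroup.orderOf_coe] at hw
    refine odd_of_commute hp2 h2p (y := (w : G)) ?_ (k := 1) (by rw [hw, pow_one])
      (g := x) (Subgroup.mem_centralizer_singleton_iff.1 w.2).symm (by rw [hx])
    intro e
    rw [e, orderOf_one] at hw
    exact hp.ne_one hw.symm
  let W : G → ℕ := fun u => Nat.card (Subgroup.centralizer ({u} : Set G)) *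
    Nat.card {y : G // IsConj u (x * (y * x * y⁻¹))}
  have hsum := ClassAlgebraVal.pow_dvd_of_count hp x x (S : Subgroup G) (a - 1) a (dvd_of_eq hcard.symm)
    (fun χ => by have := hlt χ; omega)
  have hdvd : p ^ (a + 1) ∣ ∑ u : (S : Subgroup G), W u := by
    have h1 : p ^ (a - 1) * p ^ (a + 1) ∣ p ^ (a - 1) * ∑ u : (S : Subgroup G), W u := by
      rw [← pow_add]
      refine (pow_dvd_pow p ?_).trans hsum
      omega
    exact Nat.dvd_of_mul_dvd_mul_left (pow_pos hp.pos _) h1
  have hWconj : ∀ c u : G, W (c * u * c⁻¹) = W u := by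
    intro c u
    have hh : IsConj u (c * u * c⁻¹) := isConj_iff.2 ⟨c, rfl⟩
    have h1 : Nat.card (Subgroup.centralizer ({c * u * c⁻¹} : Set G)) =
        Nat.card (Subgroup.centralizer ({u} : Set G)) := by
      have e1 := CharBasicOrth.card_conj_mul_card_centralizer (c * u * c⁻¹)
      have e2 := CharBasicOrth.card_conj_mul_card_centralizer u
      have e3 : Nat.card {g : G // IsConj (c * u * c⁻¹) g} = Nat.card {g : G // IsConj u g} :=
        Nat.card_congr (Equiv.subtypeEquivRight fun g => ⟨fun e => hh.trans e, fun e => hh.symm.trans e⟩)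
      rw [e3] at e1
      have : Nonempty {g : G // IsConj u g} := ⟨⟨u, IsConj.refl u⟩⟩
      exact Nat.eq_of_mul_eq_mul_left Nat.card_pos (e1.trans e2.symm)
    have h2 : Nat.card {y : G // IsConj (c * u * c⁻¹) (x * (y * x * y⁻¹))} =
        Nat.card {y : G // IsConj u (x * (y * x * y⁻¹))} :=
      Nat.card_congr (Equiv.subtypeEquivRight fun g => ⟨fun e => hh.trans e, fun e => hh.symm.trans e⟩)
    simp only [W, h1, h2]
  have hW1 : W 1 = Nat.card G * Nat.card ↥(Subgroup.centralizer ({x} : Set G)) := by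
    have hc : Nat.card {y : G // IsConj (1 : G) (x * (y * x * y⁻¹))} =
        Nat.card ↥(Subgroup.centralizer ({x} : Set G)) := by
      refine Nat.card_congr (Equiv.subtypeEquivRight fun y => ?_)
      rw [isConj_one_right, mul_eq_one_iff_eq_inv, conj_inv, hxi, Subgroup.mem_centralizer_singleton_iff]
      constructor
      · intro hy
        calc y * x = y * x * y⁻¹ * y := by group
          _ = x * y := by rw [← hy]
      · intro hy
        rw [hy]; group
    simp only [W, hc]
    rw [Subgroup.centralizer_eq_top_iff_subset.2 (by simp), Subgroup.card_top]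
  -- some nontrivial class of the Sylow subgroup contributes
  obtain ⟨C, hC1, hC2⟩ : ∃ C : ConjClasses (S : Subgroup G), C ≠ ConjClasses.mk 1 ∧
      ¬ p ^ (a + 1) ∣ ∑ u ∈ Finset.univ.filter (fun u : (S : Subgroup G) => ConjClasses.mk u = C), W u := by
    by_contra hcon
    push Not at hcon
    rw [← Finset.sum_fiberwise (Finset.univ : Finset (S : Subgroup G)) ConjClasses.mk,
      ← Finset.add_sum_erase _ _ (Finset.mem_univ (ConjClasses.mk (1 : (S : Subgroup G))))] at hdvd
    have h1 : Finset.univ.filter (fun u : (S : Subgroup G) => ConjClasses.mk u = ConjClasses.mk 1) = {1} := by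
      ext u; simp [ConjClasses.mk_eq_mk_iff_isConj, isConj_one_left, isConj_one_right]
    rw [h1, Finset.sum_singleton, OneMemClass.coe_one, hW1,
      Nat.dvd_add_iff_left (Finset.dvd_sum fun C hC => hcon C (Finset.mem_erase.1 hC).1) |>.symm] at hdvd
    have h2 := (Nat.Coprime.pow_left (a + 1) ((hp.coprime_iff_not_dvd).2 hCx)).dvd_of_dvd_mul_right hdvd
    rw [hp.pow_dvd_iff_le_factorization Nat.card_pos.ne'] at h2
    omega
  obtain ⟨u, rfl⟩ := ConjClasses.exists_rep C
  have hu1 : (u : G) ≠ 1 := fun e => hC1 (congrArg ConjClasses.mk (Subtype.ext e))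
  set A : Subgroup G := (Subgroup.centralizer ({u} : Set (S : Subgroup G))).map (S : Subgroup G).subtype with hAdef
  have hA : A ≤ Subgroup.centralizer ({(u : G)} : Set G) := by
    rintro g ⟨g', hg', rfl⟩
    exact Subgroup.mem_centralizer_singleton_iff.2
      (congrArg (Subtype.val) (Subgroup.mem_centralizer_singleton_iff.1 hg'))
  have hAc : Nat.card A = Nat.card (Subgroup.centralizer ({u} : Set (S : Subgroup G))) :=
    Subgroup.card_map_of_injective Subtype.val_injective
  obtain ⟨j, hj⟩ : ∃ j, Nat.card A = p ^ j := IsPGroup.iff_card.1 ((S.isPGroup'.to_subgroup _).map _)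
  have hclass : (Finset.univ.filter (fun v : (S : Subgroup G) => ConjClasses.mk v = ConjClasses.mk u)).card * p ^ j = p ^ a := by
    rw [← hcard, ← hj, hAc, ← CharBasicOrth.card_conj_mul_card_centralizer u]
    congr 1
    rw [Nat.card_eq_fintype_card, Fintype.card_subtype]
    exact congrArg Finset.card (Finset.filter_congr fun v _ => by rw [ConjClasses.mk_eq_mk_iff_isConj, isConj_comm])
  have hsumC : ∑ v ∈ Finset.univ.filter (fun v : (S : Subgroup G) => ConjClasses.mk v = ConjClasses.mk u), W v =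
      (Finset.univ.filter (fun v : (S : Subgroup G) => ConjClasses.mk v = ConjClasses.mk u)).card * W u := by
    refine (Finset.sum_eq_card_nsmul fun v hv => ?_).trans (smul_eq_mul _ _)
    obtain ⟨c, hc⟩ := isConj_iff.1 (ConjClasses.mk_eq_mk_iff_isConj.1 (Finset.mem_filter.1 hv).2).symm
    rw [← hc]; push_cast
    exact hWconj (c : G) (u : G)
  rw [hsumC] at hC2
  set v := (Nat.card ↥(Subgroup.centralizer ({(u : G)} : Set G))).factorization p with hv
  have hjv : j ≤ v := by
    rw [hv, ← hp.pow_dvd_iff_le_factorization Nat.card_pos.ne', ← hj]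
    exact Subgroup.card_dvd_of_le hA
  have hvj : v ≤ j := by
    by_contra hlt'
    refine hC2 (Dvd.dvd.trans ?_ (mul_dvd_mul_left _ ((dvd_mul_right _ _) : Nat.card (Subgroup.centralizer ({(u : G)} : Set G)) ∣ W u)))
    have h1 : p ^ (j + 1) ∣ Nat.card (Subgroup.centralizer ({(u : G)} : Set G)) :=
      (hp.pow_dvd_iff_le_factorization Nat.card_pos.ne').2 (by omega)
    refine Dvd.dvd.trans ?_ (mul_dvd_mul_left _ h1)
    rw [pow_succ p j, ← mul_assoc, hclass, pow_succ]
  have hN : Nonempty {y : G // IsConj (u : G) (x * (y * x * y⁻¹))} := by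
    by_contra h0
    rw [not_nonempty_iff] at h0
    exact hC2 (by simp only [W, @Nat.card_of_isEmpty _ h0, mul_zero]; exact dvd_zero _)
  obtain ⟨⟨y, hy⟩⟩ := hN
  obtain ⟨d, hd⟩ := isConj_iff.1 hy
  have huinv : (d⁻¹ * x * d) * (u : G) * (d⁻¹ * x * d)⁻¹ = (u : G)⁻¹ := by
    have hz' : (u : G) = d⁻¹ * (x * (y * x * y⁻¹)) * d := by rw [← hd]; group
    have hyy : (y * x * y⁻¹) * (y * x * y⁻¹) = 1 := by
      calc (y * x * y⁻¹) * (y * x * y⁻¹) = y * (x * x) * y⁻¹ := by group
        _ = 1 := by rw [hxx]; group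
    calc (d⁻¹ * x * d) * (u : G) * (d⁻¹ * x * d)⁻¹
        = d⁻¹ * ((x * x) * (y * x * y⁻¹) * x⁻¹) * d := by rw [hz']; group
      _ = d⁻¹ * ((y * x * y⁻¹)⁻¹ * x⁻¹) * d := by
          rw [hxx, one_mul, inv_eq_of_mul_eq_one_right hyy]
      _ = (u : G)⁻¹ := by rw [hz']; group
  have hord : ∀ e : G, orderOf (e * x * e⁻¹) = 2 := fun e => by
    rw [show e * x * e⁻¹ = MulAut.conj e x from rfl, MulEquiv.orderOf_eq, hx]
  obtain ⟨k, hk⟩ := (IsPGroup.iff_orderOf.1 S.isPGroup') u
  rw [← Subgroup.orderOf_coe] at hk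
  obtain ⟨s', hs', hs'A⟩ := exists_inverting hp2 h2p hu1 hk (s := d⁻¹ * x * d)
    (by simpa using hord d⁻¹) huinv A hA (by rw [hj, ← hv, le_antisymm hjv hvj])
  have hxs' : IsConj x s' := (isConj_iff.2 ⟨d⁻¹, by simp⟩).trans hs'
  have hSnt : Nontrivial (S : Subgroup G) := ⟨⟨u, 1, fun e => hu1 (congrArg Subtype.val e)⟩⟩
  have : Nontrivial (Subgroup.center (S : Subgroup G)) := S.isPGroup'.center_nontrivial
  obtain ⟨⟨z, hz⟩, hz1⟩ := exists_ne (1 : Subgroup.center (S : Subgroup G))
  have hz1' : (z : G) ≠ 1 := fun e => hz1 (Subtype.ext (Subtype.ext e))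
  have hzA : (z : G) ∈ A := ⟨z, Subgroup.mem_centralizer_singleton_iff.2 (Subgroup.mem_center_iff.1 hz u).symm, rfl⟩
  have hSC : (S : Subgroup G) ≤ Subgroup.centralizer ({(z : G)} : Set G) := fun g hg =>
    Subgroup.mem_centralizer_singleton_iff.2 (congrArg Subtype.val (Subgroup.mem_center_iff.1 hz ⟨g, hg⟩))
  obtain ⟨kz, hkz⟩ := (IsPGroup.iff_orderOf.1 S.isPGroup') z
  rw [← Subgroup.orderOf_coe] at hkz
  have hs'2 : orderOf s' = 2 := by
    obtain ⟨e, rfl⟩ := isConj_iff.1 hxs'
    exact hord e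
  obtain ⟨s'', hs'', hs''S⟩ := exists_inverting hp2 h2p hz1' hkz hs'2 (hs'A _ hzA) (S : Subgroup G) hSC (by
    rw [hcard]
    congr 1
    refine le_antisymm ?_ ?_
    · rw [← hp.pow_dvd_iff_le_factorization Nat.card_pos.ne', ← hcard]
      exact Subgroup.card_dvd_of_le hSC
    · exact (Nat.factorization_le_iff_dvd Nat.card_pos.ne' Nat.card_pos.ne').2
        (Subgroup.card_subgroup_dvd_card _) p)
  exact ⟨s'', hxs'.trans hs'', hs''S⟩

/-- Let p be an odd prime and G a finite group of even order containing no element of order 2p. Then either G has an irreducible character of p-defect zero (its degree has the same p-part as the order of G), or every Sylow p-subgroup of G is abelian and all involutions of G are conjugate. -/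
theorem result {G : Type*} [Group G] [Finite G] (p : ℕ) [Fact p.Prime] (hp2 : p ≠ 2) (hG : Even (Nat.card G)) (h2p : ∀ g : G, orderOf g ≠ 2 * p) : (∃ χ : Cfsg.IrrCharacter G, (Cfsg.charDegree (χ : G → ℂ)).factorization p = (Nat.card G).factorization p) ∨ ((∀ P : Sylow p G, IsMulCommutative ↥(P : Subgroup G)) ∧ ∀ s t : G, orderOf s = 2 → orderOf t = 2 → IsConj s t) := by
  classical
  have := Fintype.ofFinite G
  rw [or_iff_not_imp_left]
  intro hno
  push Not at hno
  have hp : p.Prime := Fact.out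
  have : Fact (Nat.Prime 2) := ⟨Nat.prime_two⟩
  obtain ⟨x, hx⟩ := exists_prime_orderOf_dvd_card' 2 (even_iff_two_dvd.1 hG)
  refine ⟨fun P => ?_, fun s t hs ht => ?_⟩
  · obtain ⟨-, w, -, hw⟩ := exists_class_inverting_sylow p hp2 h2p hno P hx
    refine ⟨⟨fun g h => Subtype.ext ?_⟩⟩
    have h1 := hw _ ((P : Subgroup G).mul_mem g.2 h.2)
    have h2 : w * ((g : G) * h) * w⁻¹ = (g : G)⁻¹ * (h : G)⁻¹ := by
      rw [← hw _ g.2, ← hw _ h.2]; group
    rw [h2, ← mul_inv_rev, inv_inj] at h1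
    exact h1.symm
  · obtain ⟨S⟩ : Nonempty (Sylow p G) := inferInstance
    obtain ⟨ha, s', hs', hs'S⟩ := exists_class_inverting_sylow p hp2 h2p hno S hs
    obtain ⟨-, t', ht', ht'S⟩ := exists_class_inverting_sylow p hp2 h2p hno S ht
    obtain ⟨z, hz⟩ := exists_prime_orderOf_dvd_card' p (G := (S : Subgroup G))
      (by rw [S.card_eq_multiplicity]; exact dvd_pow_self p ha.ne')
    rw [← Subgroup.orderOf_coe] at hz
    have hord : ∀ a b : G, orderOf a = 2 → IsConj a b → b * b = 1 := by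
      intro a b ha hab
      obtain ⟨e, rfl⟩ := isConj_iff.1 hab
      have : a * a = 1 := by rw [← pow_two, ← ha]; exact pow_orderOf_eq_one a
      calc e * a * e⁻¹ * (e * a * e⁻¹) = e * (a * a) * e⁻¹ := by group
        _ = 1 := by rw [this]; group
    refine (hs'.trans (isConj_of_odd_product (hord s s' hs hs') (hord t t' ht ht') ?_)).trans ht'.symm
    refine odd_of_commute hp2 h2p (y := (z : G)) (fun e => ?_) (k := 1) (by rw [hz, pow_one]) ?_
    · rw [e, orderOf_one] at hz
      exact hp.ne_one hz.symm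
    · refine mul_inv_eq_iff_eq_mul.1 ?_
      calc s' * t' * (z : G) * (s' * t')⁻¹ = s' * (t' * (z : G) * t'⁻¹) * s'⁻¹ := by group
        _ = (s' * (z : G) * s'⁻¹)⁻¹ := by rw [ht'S _ z.2]; group
        _ = (z : G) := by rw [hs'S _ z.2, inv_inv]

end Cfsg.Agent.S4738
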