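import Cfsg.Statements.S0074
import Mathlib

set_option autoImplicit false
open Cfsg

namespace Cfsg.Agent.S0074

open scoped Pointwise commutatorElement

theorem focal_le {G : Type*} [Group G] [Finite G] {p : ℕ} [Fact p.Prime] (P : Sylow p G) (hP : IsMulCommutative P) :
    (P : Subgroup G).focalSubgroup ≤ ⁅(P : Subgroup G), Subgroup.normalizer (P : Set G)⁆ := by
  rw [Subgroup.focalSubgroup_def, Subgroup.closure_le]
  rintro g ⟨hg, x, hx, u, rfl⟩
  have h2 : u⁻¹⁻¹ * x⁻¹ * u⁻¹ ∈ (P : Subgroup G) := by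
    have e : u⁻¹⁻¹ * x⁻¹ * u⁻¹ = x⁻¹ * ⁅x, u⁆ := by rw [commutatorElement_def]; group
    rw [e]
    exact mul_mem (inv_mem hx) hg
  obtain ⟨n, hn, e⟩ := P.conj_eq_normalizer_conj_of_mem x⁻¹ u⁻¹ (inv_mem hx) h2
  have e2 : ⁅x, u⁆ = ⁅x, n⁻¹⁆ := by
    calc ⁅x, u⁆ = x * (u⁻¹⁻¹ * x⁻¹ * u⁻¹) := by rw [commutatorElement_def]; group
      _ = x * (n⁻¹ * x⁻¹ * n) := by rw [e]
      _ = ⁅x, n⁻¹⁆ := by rw [commutatorElement_def]; group
  rw [e2]
  exact Subgroup.commutator_mem_commutator hx (inv_mem hn)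

theorem comm_le {G : Type*} [Group G] {p : ℕ} (P : Sylow p G) :
    ⁅(P : Subgroup G), Subgroup.normalizer (P : Set G)⁆ ≤ (P : Subgroup G) := by
  rw [Subgroup.commutator_le]
  intro a ha b hb
  rw [commutatorElement_def, mul_assoc a b, mul_assoc]
  exact mul_mem ha ((Subgroup.mem_normalizer_iff.1 hb a⁻¹).1 (inv_mem ha))

/-- For an abelian Sylow p-subgroup P, the intersection of P with the derived subgroup of G equals its intersection with the derived subgroup of the normalizer of P. -/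
theorem result {G : Type*} [Group G] [Finite G] {p : ℕ} [Fact p.Prime] (P : Sylow p G) (hP : IsMulCommutative P) : commutator G ⊓ (P : Subgroup G) = ⁅Subgroup.normalizer (P : Set G), Subgroup.normalizer (P : Set G)⁆ ⊓ (P : Subgroup G) := by
  refine le_antisymm ?_ (inf_le_inf_right _ (Subgroup.commutator_mono le_top le_top))
  rw [Subgroup.commutator_inf_eq_focalSubgroup P]
  exact (focal_le P hP).trans (le_inf (Subgroup.commutator_mono Subgroup.le_normalizer le_rfl) (comm_le P))

end Cfsg.Agent.S0074
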