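import Cfsg.Statements.S3992
import Mathlib
import Cfsg.Agent.Lib.H74Basic
import Cfsg.Agent.Lib.HallCore
import Cfsg.Agent.Lib.HallSolvable
import Cfsg.Agent.Lib.CNGlobal
import Cfsg.Agent.Lib.CoprimeGen

set_option autoImplicit false
open Cfsg

namespace Cfsg.Agent.S3992

section
open scoped Classical

/-- Every element has prime power order. -/
def EPPO (G : Type*) [Group G] : Prop := ∀ g : G, g ≠ 1 → IsPrimePow (orderOf g)

variable {G : Type*} [Group G]

theorem no_coprime_commute (h : EPPO G) {s t : G} (hc : Commute s t) (hcop : (orderOf s).Coprime (orderOf t))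
    (hs : s ≠ 1) (ht : t ≠ 1) : False := by
  have ho := hc.orderOf_mul_eq_mul_orderOf_of_coprime hcop
  have hst : s * t ≠ 1 := fun h1 => by
    rw [h1, orderOf_one, eq_comm, mul_eq_one] at ho
    exact hs (orderOf_eq_one_iff.1 ho.1)
  obtain ⟨l, k, hl, hk, he⟩ := h _ hst
  rw [ho] at he
  have hl' := hl.nat_prime
  have key : ∀ u : G, u ≠ 1 → orderOf u ∣ l ^ k → l ∣ orderOf u := fun u hu hd => by
    obtain ⟨i, -, hi⟩ := (Nat.dvd_prime_pow hl').1 hd
    rw [hi]
    refine dvd_pow_self l fun h0 => hu (orderOf_eq_one_iff.1 ?_)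
    rw [hi, h0, pow_zero]
  exact hl'.not_dvd_one (hcop.gcd_eq_one ▸ Nat.dvd_gcd (key s hs (he ▸ dvd_mul_right _ _))
    (key t ht (he ▸ dvd_mul_left _ _)))

theorem eppo_subgroup (h : EPPO G) (H : Subgroup G) : EPPO H := fun g hg => by
  rw [← Subgroup.orderOf_coe]
  exact h g fun h1 => hg (Subtype.ext h1)

variable [Finite G]

theorem eppo_quotient (h : EPPO G) (N : Subgroup G) [N.Normal] : EPPO (G ⧸ N) := by
  intro g hg
  obtain ⟨x, rfl⟩ := QuotientGroup.mk_surjective g
  refine (h x fun h1 => hg (by rw [h1, QuotientGroup.mk_one])).dvd (orderOf_map_dvd (QuotientGroup.mk' N) x)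
    fun h1 => hg (orderOf_eq_one_iff.1 h1)

theorem ne_one_of_order {q k : ℕ} [hq : Fact q.Prime] {g : G} (hk : orderOf g = q ^ k) (hk0 : k ≠ 0) : g ≠ 1 :=
  fun h => by
    rw [h, orderOf_one] at hk
    exact hq.out.not_dvd_one (hk ▸ dvd_pow_self q hk0)

/-- The `p`-core and an abelian `q`-group above it. -/
theorem exists_fpf (h : EPPO G) {p : ℕ} [hp : Fact p.Prime] (hP : Cfsg.pCore p G ≠ ⊥)
    (M : Subgroup G) [M.Normal] (hPM : ¬ M ≤ Cfsg.pCore p G) (hM : Group.IsSolvable M) :
    ∃ (q : ℕ) (Q0 : Subgroup G), q.Prime ∧ q ≠ p ∧ IsCyclic Q0 ∧ Q0 ≠ ⊥ ∧ IsPGroup q Q0 ∧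
      Subgroup.normalizer (Q0 : Set G) ⊔ Cfsg.pCore p G = ⊤ := by
  set P := Cfsg.pCore p G
  set π := QuotientGroup.mk' P
  have hPp := HallCore.isPGroup_pCore p G
  have hne : M.map π ≠ ⊥ := fun h1 => hPM fun x hx => by
    have : π x ∈ M.map π := Subgroup.mem_map_of_mem _ hx
    rw [h1, Subgroup.mem_bot] at this
    exact (QuotientGroup.eq_one_iff x).1 this
  haveI : (M.map π).Normal := Subgroup.Normal.map inferInstance _ (QuotientGroup.mk'_surjective P)
  obtain ⟨N, hN, hNle⟩ := HallSolvable.exists_minNormal_le hne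
  haveI := hN.normal
  haveI : Group.IsSolvable (M.map π) := Group.isSolvable_of_surjective (π.subgroupMap_surjective M)
  haveI : Group.IsSolvable N := Group.isSolvable_of_isSolvable_injective (Subgroup.inclusion_injective hNle)
  obtain ⟨q, hq, -, hNq⟩ := hN.exists_prime
  have hNab := hN.commutative_of_solvable
  haveI := Fact.mk hq
  set Q1 := N.comap π with hQ1
  have hPQ1 : P ≤ Q1 := fun x hx => by
    rw [hQ1, Subgroup.mem_comap]; show π x ∈ N
    rw [show π x = 1 from (QuotientGroup.eq_one_iff x).2 hx]; exact N.one_mem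
  have hqp : q ≠ p := by
    rintro rfl
    have hQ1p : IsPGroup q Q1 := by
      refine IsPGroup.comap_of_ker_isPGroup hNq π ?_
      rw [QuotientGroup.ker_mk']; exact hPp
    have hle : Q1 ≤ P := HallCore.le_pCore hQ1p
    apply hN.ne_bot
    rw [eq_bot_iff]
    intro x hx
    obtain ⟨y, rfl⟩ := QuotientGroup.mk'_surjective P x
    exact Subgroup.mem_bot.2 ((QuotientGroup.eq_one_iff y).2 (hle hx))
  obtain ⟨R⟩ := (inferInstance : Nonempty (Sylow q Q1))
  set Q0 := (R : Subgroup Q1).map Q1.subtype with hQ0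
  have hQ0q : IsPGroup q Q0 := R.isPGroup'.map _
  have hdisj : ∀ x ∈ Q0, x ∈ P → x = 1 := fun x hx hxP => by
    obtain ⟨i, hi⟩ := IsPGroup.iff_orderOf.1 hQ0q ⟨x, hx⟩
    obtain ⟨j, hj⟩ := IsPGroup.iff_orderOf.1 hPp ⟨x, hxP⟩
    rw [Subgroup.orderOf_mk] at hi hj
    have h0 := ((Nat.coprime_primes hq hp.out).2 hqp).pow i j
    rw [← hi, ← hj, Nat.coprime_self] at h0
    exact orderOf_eq_one_iff.1 h0
  have hQ0le : Q0 ≤ Q1 := Subgroup.map_subtype_le _
  haveI : IsMulCommutative Q0 := ⟨⟨fun a b => by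
    have hc : π ((a : G) * b) = π ((b : G) * a) := by
      rw [map_mul, map_mul]
      exact congrArg Subtype.val (mul_comm' (⟨π a, hQ0le a.2⟩ : N) ⟨π b, hQ0le b.2⟩)
    have hd : ((a : G) * b)⁻¹ * ((b : G) * a) ∈ P := QuotientGroup.eq.1 hc
    exact Subtype.ext (inv_mul_eq_one.1 (hdisj _ (Q0.mul_mem (Q0.inv_mem (a * b).2) (b * a).2) hd))⟩⟩
  have hQ0ne : Q0 ≠ ⊥ := by
    intro h1
    have hR1 : (R : Subgroup Q1) = ⊥ := by
      rw [hQ0, Subgroup.map_eq_bot_iff_of_injective _ Q1.subtype_injective] at h1; exact h1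
    obtain ⟨x, hxN, hx1⟩ := N.bot_or_exists_ne_one.resolve_left hN.ne_bot
    obtain ⟨i, hi⟩ := IsPGroup.iff_orderOf.1 hNq ⟨x, hxN⟩
    rw [Subgroup.orderOf_mk] at hi
    obtain ⟨y, rfl⟩ := QuotientGroup.mk'_surjective P x
    have hd : q ∣ Nat.card Q1 := by
      refine ((dvd_pow_self q (fun h0 => hx1 (orderOf_eq_one_iff.1 (by rw [hi, h0, pow_zero])))).trans
        ((hi ▸ orderOf_map_dvd π y : q ^ i ∣ orderOf y))).trans ?_
      exact Subgroup.orderOf_dvd_natCard Q1 hxN
    exact R.ne_bot_of_dvd_card hd hR1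
  have hsub : Q1 ≤ Q0 ⊔ P := by
    intro y hy
    let f : Q1 →* N := π.subgroupComap N
    have hf : Function.Surjective f := fun z => by
      obtain ⟨w, hw⟩ := QuotientGroup.mk'_surjective P z.1
      exact ⟨⟨w, by show π w ∈ N; rw [hw]; exact z.2⟩, Subtype.ext hw⟩
    have htop : ((R.mapSurjective hf : Sylow q N) : Subgroup N) = ⊤ :=
      ((R.mapSurjective hf).is_maximal' (hNq.of_equiv Subgroup.topEquiv.symm) le_top).symm
    obtain ⟨z, hz, hzy⟩ := (htop.symm ▸ Subgroup.mem_top (f ⟨y, hy⟩) :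
      f ⟨y, hy⟩ ∈ ((R.mapSurjective hf : Sylow q N) : Subgroup N))
    have hzy' : π (z : G) = π y := congrArg Subtype.val hzy
    have hzQ : (z : G) ∈ Q0 := Subgroup.mem_map_of_mem Q1.subtype hz
    have hzP : (z : G)⁻¹ * y ∈ P := QuotientGroup.eq.1 hzy'
    have := Subgroup.mul_mem_sup hzQ hzP
    rwa [mul_inv_cancel_left] at this
  have hfix : ∀ y ∈ Q0, y ≠ 1 → P ⊓ Subgroup.centralizer ({y} : Set G) ≤ ⊥ := by
    intro y hy hy1 x ⟨hxP, hxy⟩
    rw [Subgroup.mem_bot]
    by_contra hx1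
    obtain ⟨i, hi⟩ := IsPGroup.iff_orderOf.1 hQ0q ⟨y, hy⟩
    obtain ⟨j, hj⟩ := IsPGroup.iff_orderOf.1 hPp ⟨x, hxP⟩
    rw [Subgroup.orderOf_mk] at hi hj
    exact no_coprime_commute h (Subgroup.mem_centralizer_singleton_iff.1 hxy)
      (by rw [hi, hj]; exact ((Nat.coprime_primes hp.out hq).2 (Ne.symm hqp)).pow j i) hx1 hy1
  have hcyc : IsCyclic Q0 := by
    by_contra hnc
    obtain ⟨i, hi⟩ := IsPGroup.iff_card.1 hQ0q
    obtain ⟨j, hj⟩ := IsPGroup.iff_card.1 hPp
    exact hP (eq_bot_iff.2 (CoprimeGen.le_of_centralizers hnc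
      (by rw [Subgroup.normalizer_eq_top]; exact le_top)
      (by rw [hi, hj]; exact ((Nat.coprime_primes hq hp.out).2 hqp).pow i j) hfix))
  refine ⟨q, Q0, hq, hqp, hcyc, hQ0ne, hQ0q, ?_⟩
  have hF := R.normalizer_sup_eq_top
  rw [← hQ0] at hF
  rw [eq_top_iff, ← hF]
  exact sup_le le_sup_left (hsub.trans (sup_le_sup_right Subgroup.le_normalizer _))

theorem solvable_of_fpf (h : EPPO G) {p q : ℕ} [hp : Fact p.Prime] [hq : Fact q.Prime] {Q0 : Subgroup G}
    (hcyc : IsCyclic Q0) (hne : Q0 ≠ ⊥) (hQ0 : IsPGroup q Q0)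
    (hN : Subgroup.normalizer (Q0 : Set G) ⊔ Cfsg.pCore p G = ⊤) : Group.IsSolvable G := by
  set N := Subgroup.normalizer (Q0 : Set G)
  have hC : IsPGroup q (Subgroup.centralizer (Q0 : Set G)) := by
    rw [IsPGroup.iff_orderOf]
    rintro ⟨c, hc⟩
    rw [Subgroup.orderOf_mk]
    obtain ⟨y, hy, hy1⟩ := Q0.bot_or_exists_ne_one.resolve_left hne
    obtain ⟨i, hi⟩ := IsPGroup.iff_orderOf.1 hQ0 ⟨y, hy⟩
    rw [Subgroup.orderOf_mk] at hi
    obtain ⟨s, z, hsz, hcsz, he, hz⟩ := H74Basic.exists_parts (p := q) c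
    have hyc : Commute y c := Subgroup.mem_centralizer_iff.1 hc y hy
    have hz1 : z = 1 := by
      by_contra hz1
      obtain ⟨e, he⟩ := he
      have hs' : s ^ (q ^ e) = 1 := he ▸ pow_orderOf_eq_one s
      have hzc : Commute y (z ^ q ^ e) := by
        have := hyc.pow_right (q ^ e)
        rwa [hsz, hcsz.mul_pow, hs', one_mul] at this
      obtain ⟨m, hm⟩ := exists_pow_eq_self_of_coprime (x := z) (n := q ^ e)
        (by exact (hz.pow_right e).symm)
      have hyz : Commute y z := hm ▸ hzc.pow_right m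
      exact no_coprime_commute h hyz (by rw [hi]; exact (hz.pow_right i).symm) hy1 hz1
    obtain ⟨e, he⟩ := he
    exact ⟨e, by rw [hsz, hz1, mul_one]; exact he⟩
  haveI := hC.isNilpotent
  haveI : Group.IsSolvable (Subgroup.centralizer (Q0 : Set G)) := inferInstance
  haveI : Group.IsSolvable (MulAut Q0) := Group.isSolvable_of_comm fun a b =>
    (IsCyclic.mulAutMulEquiv Q0).injective (by rw [map_mul, map_mul, mul_comm])
  haveI : Group.IsSolvable N := Group.isSolvable_of_ker_le_range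
    (Subgroup.inclusion (Subgroup.centralizer_le_normalizer (Q0 : Set G))) Q0.normalizerMonoidHom (by
      rw [Subgroup.normalizerMonoidHom_ker, Subgroup.inclusion_range])
  haveI : Group.IsSolvable (G ⧸ Cfsg.pCore p G) := by
    refine Group.isSolvable_of_surjective (f := (QuotientGroup.mk' (Cfsg.pCore p G)).comp N.subtype) fun x => ?_
    obtain ⟨g, rfl⟩ := QuotientGroup.mk'_surjective _ x
    obtain ⟨n, hn, c, hc, rfl⟩ := Subgroup.mem_sup_of_normal_right.1 (hN ▸ Subgroup.mem_top g : g ∈ N ⊔ Cfsg.pCore p G)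
    exact ⟨⟨n, hn⟩, (QuotientGroup.mk_mul_of_mem n hc).symm⟩
  haveI := (HallCore.isPGroup_pCore p G).isNilpotent
  exact (Group.isSolvable_iff_subgroup_quotient (Cfsg.pCore p G)).2 ⟨inferInstance, inferInstance⟩

theorem two_primes (h : EPPO G) [Group.IsSolvable G] : (Nat.card G).primeFactors.card ≤ 2 := by
  rcases subsingleton_or_nontrivial G with hs | hnt
  · simp
  obtain ⟨p, hp, hP⟩ := CNGlobal.exists_pCore_ne_bot (M := G)
  haveI := Fact.mk hp
  set P := Cfsg.pCore p G
  have hPp := HallCore.isPGroup_pCore p G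
  by_cases htop : (⊤ : Subgroup G) ≤ P
  · obtain ⟨k, hk⟩ := IsPGroup.iff_card.1 hPp
    have : Nat.card G = p ^ k := by
      rw [← Subgroup.card_top (G := G)]
      exact (congrArg (fun X : Subgroup G => Nat.card X) (le_antisymm htop le_top)).trans hk
    rw [this]
    refine le_trans (Finset.card_le_card (t := {p}) ?_) (by simp)
    intro r hr
    rw [Nat.mem_primeFactors] at hr
    exact Finset.mem_singleton.2 ((Nat.prime_dvd_prime_iff_eq hr.1 hp).1 (hr.1.dvd_of_dvd_pow hr.2.1))
  obtain ⟨q, Q0, hq, hqp, hcyc, hne, hQ0, hN⟩ := exists_fpf h hP ⊤ htop inferInstance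
  haveI := Fact.mk hq
  set N := Subgroup.normalizer (Q0 : Set G)
  refine le_trans (Finset.card_le_card (t := {p, q}) ?_) (Finset.card_le_two)
  intro r hr
  rw [Nat.mem_primeFactors] at hr
  obtain ⟨hr, hrG, -⟩ := hr
  haveI := Fact.mk hr
  simp only [Finset.mem_insert, Finset.mem_singleton]
  by_contra hno
  push_neg at hno
  obtain ⟨hrp, hrq⟩ := hno
  have hrN : r ∣ Nat.card N := by
    obtain ⟨k, hk⟩ := IsPGroup.iff_card.1 hPp
    have hsurj : Function.Surjective ((QuotientGroup.mk' P).comp N.subtype) := fun x => by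
      obtain ⟨g, rfl⟩ := QuotientGroup.mk'_surjective _ x
      obtain ⟨n, hn, c, hc, rfl⟩ := Subgroup.mem_sup_of_normal_right.1 (hN ▸ Subgroup.mem_top g : g ∈ N ⊔ P)
      exact ⟨⟨n, hn⟩, (QuotientGroup.mk_mul_of_mem n hc).symm⟩
    refine dvd_trans ?_ (Subgroup.card_dvd_of_surjective _ hsurj)
    rw [P.card_eq_card_quotient_mul_card_subgroup, hk] at hrG
    exact (((Nat.coprime_primes hr hp).2 hrp).pow_right k).dvd_of_dvd_mul_right hrG
  obtain ⟨⟨w, hw⟩, hwo⟩ := exists_prime_orderOf_dvd_card' r hrN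
  rw [Subgroup.orderOf_mk] at hwo
  obtain ⟨a', ha'⟩ := exists_prime_orderOf_dvd_card' q (by
    obtain ⟨k, hk⟩ := IsPGroup.iff_card.1 hQ0
    rw [hk]
    refine dvd_pow_self q fun h0 => hne ?_
    exact Subgroup.card_eq_one.1 (by rw [hk, h0, pow_zero]) : q ∣ Nat.card Q0)
  set a := (a' : G) with hadef
  have hao : orderOf a = q := by rw [hadef, Subgroup.orderOf_coe]; exact ha'
  set A := Subgroup.zpowers a
  set B := Subgroup.zpowers w
  have hAQ : A ≤ Q0 := Subgroup.zpowers_le.2 a'.2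
  have hAcard : Nat.card A = q := by rw [Nat.card_zpowers, hao]
  haveI := Fintype.ofFinite Q0
  have hnorm : ∀ n ∈ N, ∀ x ∈ A, n * x * n⁻¹ ∈ A := by
    intro n hn x hx
    have hmem : n * x * n⁻¹ ∈ Q0 := (Subgroup.mem_normalizer_iff.1 hn x).1 (hAQ hx)
    have hsub : ∀ y : Q0, y ^ q = 1 → (y : G) ∈ A := by
      intro y hy
      set K := Finset.univ.filter (fun z : Q0 => z ^ q = 1)
      have hsubK : Finset.univ.filter (fun z => z ∈ Subgroup.zpowers a') ⊆ K := fun z hz => by
        simp only [K, Finset.mem_filter, Finset.mem_univ, true_and] at hz ⊢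
        exact ha' ▸ orderOf_dvd_iff_pow_eq_one.1 (orderOf_dvd_of_mem_zpowers hz)
      have hcard : K.card ≤ (Finset.univ.filter (fun z => z ∈ Subgroup.zpowers a')).card := by
        rw [← Fintype.card_subtype (fun z => z ∈ Subgroup.zpowers a'), ← Nat.card_eq_fintype_card, Nat.card_zpowers, ha']
        exact IsCyclic.card_pow_eq_one_le hq.pos
      have heq := Finset.eq_of_subset_of_card_le hsubK hcard
      have hyK : y ∈ K := Finset.mem_filter.2 ⟨Finset.mem_univ _, hy⟩
      rw [← heq] at hyK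
      obtain ⟨i, hi⟩ := Subgroup.mem_zpowers_iff.1 (Finset.mem_filter.1 hyK).2
      exact Subgroup.mem_zpowers_iff.2 ⟨i, by rw [hadef, ← hi]; rfl⟩
    refine hsub ⟨_, hmem⟩ (Subtype.ext ?_)
    show (n * x * n⁻¹) ^ q = 1
    have hxq : x ^ q = 1 := orderOf_dvd_iff_pow_eq_one.1 (hao ▸ orderOf_dvd_of_mem_zpowers hx)
    rw [conj_pow, hxq, mul_one, mul_inv_cancel]
  have hBord : ∀ b ∈ B, b ≠ 1 → orderOf b = r := fun b hb hb1 =>
    ((Nat.dvd_prime hr).1 (hwo ▸ orderOf_dvd_of_mem_zpowers hb)).resolve_left fun h1 => hb1 (orderOf_eq_one_iff.1 h1)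
  have hAord : ∀ k ∈ A, k ≠ 1 → orderOf k = q := fun k hk hk1 =>
    ((Nat.dvd_prime hq).1 (hao ▸ orderOf_dvd_of_mem_zpowers hk)).resolve_left fun h1 => hk1 (orderOf_eq_one_iff.1 h1)
  -- the abelian normal `p`-subgroup
  haveI : Nontrivial P := (Subgroup.nontrivial_iff_ne_bot _).2 hP
  set V := (Subgroup.center P).map P.subtype with hV
  haveI : V.Normal := inferInstance
  haveI hVc : IsMulCommutative V := inferInstance
  letI : CommGroup V := { (inferInstance : Group V) with mul_comm := fun x y => mul_comm' x y }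
  have hVp : IsPGroup p V := hPp.to_le (Subgroup.map_subtype_le _)
  have hVne : V ≠ ⊥ := by
    rw [hV, Ne, Subgroup.map_eq_bot_iff_of_injective _ (Subgroup.subtype_injective _)]
    exact hPp.bot_lt_center.ne'
  obtain ⟨v₀, hv₀, hv₀1⟩ := V.bot_or_exists_ne_one.resolve_left hVne
  set φ : G →* MulAut V := MulAut.conjNormal
  have hfix : ∀ (g : G) (u : V) (s : ℕ), s.Prime → s ≠ p → g ≠ 1 → orderOf g = s → φ g u = u → u = 1 := by
    intro g u s hs hsp hg hgo hu
    by_contra hu1
    obtain ⟨j, hj⟩ := IsPGroup.iff_orderOf.1 hVp u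
    rw [← Subgroup.orderOf_coe] at hj
    have hu' : g * (u : G) * g⁻¹ = u := congrArg Subtype.val hu
    exact no_coprime_commute h (mul_inv_eq_iff_eq_mul.1 hu' : Commute g u)
      (by rw [hgo, hj]; exact ((Nat.coprime_primes hs hp).2 hsp).pow_right j) hg (fun h1 => hu1 (Subtype.ext h1))
  haveI := Fintype.ofFinite A
  haveI := Fintype.ofFinite B
  have hzero : ∀ (S : Subgroup G) [Fintype S] (g : G) (s : ℕ), g ∈ S → s.Prime → s ≠ p → g ≠ 1 →
      orderOf g = s → ∀ u : V, ∏ b : S, φ b u = 1 := by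
    intro S _ g s hgS hs hsp hg hgo u
    refine hfix g _ s hs hsp hg hgo ?_
    rw [map_prod]
    refine Fintype.prod_equiv (Equiv.mulLeft (⟨g, hgS⟩ : S)) _ _ fun b => ?_
    show φ g (φ b u) = φ (g * b) u
    rw [map_mul]; rfl
  have hw1 : w ≠ 1 := fun h1 => by rw [h1, orderOf_one] at hwo; exact hr.ne_one hwo.symm
  have ha1 : a ≠ 1 := fun h1 => by rw [h1, orderOf_one] at hao; exact hq.ne_one hao.symm
  set v : V := ⟨v₀, hv₀⟩
  have htot1 : ∏ b : B, ∏ k : A, φ ((k : G) * b * (k : G)⁻¹) v = 1 := by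
    rw [Finset.prod_comm]
    refine Finset.prod_eq_one fun k _ => ?_
    have : ∀ b : B, φ ((k : G) * b * (k : G)⁻¹) v = φ k (φ b (φ (k : G)⁻¹ v)) := fun b => by
      rw [map_mul, map_mul]; rfl
    rw [Finset.prod_congr rfl fun b _ => this b, ← map_prod,
      hzero B w r (Subgroup.mem_zpowers w) hr hrp hw1 hwo, map_one]
  have htot2 : ∀ b : B, b ≠ 1 → ∏ k : A, φ ((k : G) * b * (k : G)⁻¹) v = 1 := by
    intro b hb
    have hbN : (b : G) ∈ N := Subgroup.zpowers_le.2 hw b.2
    let f : A → A := fun k => ⟨(k : G) * b * (k : G)⁻¹ * (b : G)⁻¹, by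
      have h1 := hnorm _ hbN _ (A.inv_mem k.2)
      have h2 := A.mul_mem k.2 h1
      simpa [mul_assoc] using h2⟩
    have hinj : Function.Injective f := by
      intro j k hjk
      have h1 : (j : G) * b * (j : G)⁻¹ * (b : G)⁻¹ = (k : G) * b * (k : G)⁻¹ * (b : G)⁻¹ := congrArg Subtype.val hjk
      have h2 := mul_right_cancel h1
      by_contra hne'
      have hne2 : (k : G)⁻¹ * j ≠ 1 := fun h3 => hne' (Subtype.ext (inv_mul_eq_one.1 h3).symm)
      have hcomm : Commute ((k : G)⁻¹ * j) b := by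
        show _ = _
        calc (k : G)⁻¹ * j * b = (k : G)⁻¹ * ((j : G) * b * (j : G)⁻¹) * j := by group
          _ = b * ((k : G)⁻¹ * j) := by rw [h2]; group
      have hb' : (b : G) ≠ 1 := fun h3 => hb (Subtype.ext h3)
      exact no_coprime_commute h hcomm (by
        rw [hAord _ (A.mul_mem (A.inv_mem k.2) j.2) hne2, hBord _ b.2 hb']
        exact (Nat.coprime_primes hq hr).2 (Ne.symm hrq)) hne2 hb'
    rw [Fintype.prod_equiv (Equiv.ofBijective f (Finite.injective_iff_bijective.1 hinj))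
      (fun k => φ ((k : G) * b * (k : G)⁻¹) v) (fun k : A => φ k (φ b v)) (fun k => by
        show _ = φ ((k : G) * b * (k : G)⁻¹ * (b : G)⁻¹) (φ b v)
        rw [← MulAut.mul_apply, ← map_mul, inv_mul_cancel_right])]
    exact hzero A a q (Subgroup.mem_zpowers a) hq hqp ha1 hao _
  rw [← Finset.mul_prod_erase Finset.univ _ (Finset.mem_univ (1 : B)),
    Finset.prod_eq_one fun b hb => htot2 b (Finset.ne_of_mem_erase hb), mul_one] at htot1
  simp only [Subgroup.coe_one, mul_one, mul_inv_cancel, map_one, MulAut.one_apply, Finset.prod_const,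
    Finset.card_univ, ← Nat.card_eq_fintype_card, hAcard] at htot1
  obtain ⟨j, hj⟩ := IsPGroup.iff_orderOf.1 hVp v
  have := orderOf_dvd_of_pow_eq_one htot1
  rw [hj] at this
  rcases j with _ | j
  · rw [pow_zero, orderOf_eq_one_iff] at hj
    exact hv₀1 (congrArg Subtype.val hj)
  · exact hqp ((Nat.prime_dvd_prime_iff_eq hp hq).1 ((dvd_pow_self p j.succ_ne_zero).trans this)).symm

theorem two_primes_of_not_solvable (hns : ¬ Group.IsSolvable G) :
    ∀ q : ℕ, q.Prime → ∃ r, r.Prime ∧ r ≠ q ∧ r ∣ Nat.card G := by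
  intro q hq
  haveI := Fact.mk hq
  by_contra hno
  push_neg at hno
  apply hns
  have : IsPGroup q G := IsPGroup.of_card
    (Nat.eq_prime_pow_of_unique_prime_dvd Nat.card_pos.ne' fun {d} hd hdG => by_contra fun hne => hno d hd hne hdG)
  haveI := this.isNilpotent
  infer_instance

/-- Two commuting, trivially intersecting non-solvable subgroups contradict EPPO. -/
theorem no_commuting (h : EPPO G) {S T : Subgroup G} (hS : ¬ Group.IsSolvable S) (hT : T ≠ ⊥)
    (hc : ∀ s ∈ S, ∀ t ∈ T, Commute s t) : False := by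
  obtain ⟨t, ht, ht1⟩ := T.bot_or_exists_ne_one.resolve_left hT
  obtain ⟨q, k, hq, hk, hqk⟩ := h t ht1
  obtain ⟨r, hr, hrq, hrS⟩ := two_primes_of_not_solvable (G := S) hS q hq.nat_prime
  haveI := Fact.mk hr
  obtain ⟨⟨s, hs⟩, hso⟩ := exists_prime_orderOf_dvd_card' r hrS
  rw [Subgroup.orderOf_mk] at hso
  exact no_coprime_commute h (hc s hs t ht) (by
    rw [hso, ← hqk]; exact ((Nat.coprime_primes hr hq.nat_prime).2 hrq).pow_right k)
    (fun h1 => by rw [h1, orderOf_one] at hso; exact hr.ne_one hso.symm) ht1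

theorem simple_socle [Nontrivial G] (h : EPPO G)
    (hrad : ∀ N : Subgroup G, N.Normal → Group.IsSolvable N → N = ⊥) :
    ∃ M : Subgroup G, M.Normal ∧ IsSimpleGroup M ∧ ¬ IsMulCommutative M ∧
      ∀ N : Subgroup G, N.Normal → N ≠ ⊥ → M ≤ N := by
  obtain ⟨M, hM⟩ := HallSolvable.exists_minNormal (G := G)
  haveI := hM.normal
  have hns : ¬ Group.IsSolvable M := fun hs => hM.ne_bot (hrad M inferInstance hs)
  haveI : Nontrivial M := (Subgroup.nontrivial_iff_ne_bot M).2 hM.ne_bot
  have hMeppo : EPPO M := eppo_subgroup h M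
  refine ⟨M, inferInstance, ?_, fun hc => hns (Group.isSolvable_of_comm fun a b => mul_comm' a b), fun N hN hNne => ?_⟩
  · obtain ⟨S, hS⟩ := HallSolvable.exists_minNormal (G := M)
    haveI := hS.normal
    -- `S` is not solvable
    have hSns : ¬ Group.IsSolvable S := by
      intro hs
      obtain ⟨q, hq, -, hSq⟩ := hS.exists_prime
      haveI := Fact.mk hq
      have hne : Cfsg.pCore q M ≠ ⊥ := fun h1 => hS.ne_bot (eq_bot_iff.2 (h1 ▸ HallCore.le_pCore hSq))
      haveI := HallCore.pCore_characteristic q M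
      rcases hM.map_of_characteristic (Cfsg.pCore q M) with h1 | h1
      · exact hne h1
      · apply hns
        have : IsPGroup q M := ((HallCore.isPGroup_pCore q M).of_equiv
          ((MulEquiv.subgroupCongr h1).trans Subgroup.topEquiv))
        haveI := this.isNilpotent
        infer_instance
    have hStop : S = ⊤ := by
      set S' := S.map M.subtype with hS'
      have hSconj : ∀ g : G, ∀ x ∈ S', g * x * g⁻¹ ∈ S' := by
        intro g
        by_contra hno
        push_neg at hno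
        obtain ⟨x, hx, hxg⟩ := hno
        let T : Subgroup M := S.map (MulAut.conjNormal g : MulAut M).toMonoidHom
        haveI : T.Normal := Subgroup.Normal.map inferInstance _ (MulAut.conjNormal g : MulAut M).surjective
        have hT : T ≠ ⊥ := by
          rw [Ne, Subgroup.map_eq_bot_iff_of_injective _ (MulEquiv.injective _)]; exact hS.ne_bot
        have hdisj : S ⊓ T = ⊥ := by
          rcases hS.2.2 (S ⊓ T) inferInstance inf_le_left with h1 | h1
          · exact h1
          · exfalso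
            have hle : S ≤ T := inf_eq_left.1 h1
            have heq : S = T := Subgroup.eq_of_le_of_card_ge hle (by
              rw [Subgroup.card_map_of_injective (MulEquiv.injective _)])
            obtain ⟨y, hy, rfl⟩ := hx
            apply hxg
            refine ⟨MulAut.conjNormal g y, heq.symm ▸ Subgroup.mem_map_of_mem _ hy, ?_⟩
            simp
        exact no_commuting hMeppo hSns hT fun s hs t ht =>
          Subgroup.commute_of_normal_of_disjoint S T inferInstance inferInstance (disjoint_iff.2 hdisj) s t hs ht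
      haveI : S'.Normal := ⟨fun x hx g => hSconj g x hx⟩
      have h1 := hM.eq_of_le (K := S') (Subgroup.map_subtype_le S) (by
        rw [hS', Ne, Subgroup.map_eq_bot_iff_of_injective _ M.subtype_injective]; exact hS.ne_bot)
      apply Subgroup.map_injective M.subtype_injective
      rw [← hS', h1, ← MonoidHom.range_eq_map, M.range_subtype]
    exact ⟨fun K hK => (hS.2.2 K hK (hStop ▸ le_top)).imp id (fun h1 => h1.trans hStop)⟩
  · rcases hM.le_or_inf_eq_bot (K := N) with h1 | h1
    · exact h1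
    · exact (no_commuting h hns hNne fun s hs t ht =>
        Subgroup.commute_of_normal_of_disjoint M N inferInstance hN (disjoint_iff.2 h1) s t hs ht).elim

end

/-- Let G be a finite non-solvable group in which every element has prime-power order, and let R be its largest solvable normal subgroup. Then R is a p-group for some prime p; G/R has a non-abelian simple normal subgroup contained in every nontrivial normal subgroup of G/R (its unique minimal normal subgroup); and the order of every solvable subgroup of G has at most two prime divisors. -/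
theorem result {G : Type*} [Group G] [Finite G] (hns : ¬ Group.IsSolvable G) (hpp : ∀ g : G, g ≠ 1 → IsPrimePow (orderOf g))
    (R : Subgroup G) [R.Normal] (hRs : Group.IsSolvable ↥R) (hRmax : ∀ N : Subgroup G, N.Normal → Group.IsSolvable ↥N → N ≤ R) :
    (∃ p : ℕ, p.Prime ∧ IsPGroup p ↥R) ∧
      (∃ M : Subgroup (G ⧸ R), M.Normal ∧ IsSimpleGroup ↥M ∧ ¬ IsMulCommutative ↥M ∧
        ∀ N : Subgroup (G ⧸ R), N.Normal → N ≠ ⊥ → M ≤ N) ∧
      ∀ H : Subgroup G, Group.IsSolvable ↥H → (Nat.card ↥H).primeFactors.card ≤ 2 := by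
  classical
  have hpp' : EPPO G := hpp
  refine ⟨?_, ?_, fun H hH => two_primes (eppo_subgroup hpp' H)⟩
  · by_cases hR : R = ⊥
    · exact ⟨2, Nat.prime_two, by rw [hR]; exact IsPGroup.of_bot⟩
    haveI : Nontrivial R := (Subgroup.nontrivial_iff_ne_bot R).2 hR
    haveI := hRs
    obtain ⟨p, hp, hPR⟩ := CNGlobal.exists_pCore_ne_bot (M := R)
    haveI := Fact.mk hp
    have hP : Cfsg.pCore p G ≠ ⊥ := by
      haveI := HallCore.pCore_characteristic p R
      intro h1
      apply hPR
      have hle : (Cfsg.pCore p R).map R.subtype ≤ Cfsg.pCore p G :=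
        HallCore.le_pCore ((HallCore.isPGroup_pCore p R).map R.subtype)
      rw [h1, le_bot_iff, Subgroup.map_eq_bot_iff_of_injective _ R.subtype_injective] at hle
      exact hle
    refine ⟨p, hp, (HallCore.isPGroup_pCore p G).to_le ?_⟩
    by_contra hle
    obtain ⟨q, Q0, hq, -, hcyc, hne, hQ0, hN⟩ := exists_fpf hpp' hP R hle hRs
    haveI := Fact.mk hq
    exact hns (solvable_of_fpf hpp' hcyc hne hQ0 hN)
  · have hR : R ≠ ⊤ := fun h1 => hns (by
      subst h1
      haveI := hRs
      exact Group.isSolvable_of_surjective (f := (Subgroup.topEquiv (G := G)).toMonoidHom) Subgroup.topEquiv.surjective)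
    haveI : Nontrivial (G ⧸ R) := QuotientGroup.nontrivial_iff.2 hR
    refine simple_socle (eppo_quotient hpp' R) fun N hN hNs => ?_
    set M := N.comap (QuotientGroup.mk' R) with hM
    haveI : Group.IsSolvable N := hNs
    haveI : Group.IsSolvable R := hRs
    have hMs : Group.IsSolvable M :=
      Group.isSolvable_of_ker_le_range (Subgroup.inclusion (fun x hx => by
          show QuotientGroup.mk' R x ∈ N
          rw [QuotientGroup.mk'_apply, (QuotientGroup.eq_one_iff x).2 hx]; exact N.one_mem : R ≤ M))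
        ((QuotientGroup.mk' R).subgroupComap N) (fun x hx => by
          rw [Subgroup.inclusion_range]
          exact (QuotientGroup.eq_one_iff (x : G)).1 (congrArg Subtype.val hx))
    have hle := hRmax M inferInstance hMs
    rw [eq_bot_iff]
    intro x hx
    obtain ⟨y, rfl⟩ := QuotientGroup.mk'_surjective R x
    exact Subgroup.mem_bot.2 ((QuotientGroup.eq_one_iff y).2 (hle hx))

end Cfsg.Agent.S3992
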