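import Cfsg.Statements.S0254
import Mathlib
import Cfsg.Agent.Lib.IsoGraph
import Cfsg.Agent.Lib.PSLSimple
import Cfsg.Agent.Lib.PSLCard
import Cfsg.Agent.Lib.PSL2Elements

set_option autoImplicit false
open Cfsg

namespace Cfsg.Agent.S0254

open scoped MatrixGroups LinearAlgebra.Projectivization
open PSL2Elements

/-- The ten splittings of six points into two triples, labelled by the projective line. -/
def lab : Fin 10 → Finset (Finset (Fin 6)) := ![{{0, 1, 2}, {3, 4, 5}}, {{0, 1, 3}, {2, 4, 5}}, {{0, 1, 4}, {2, 3, 5}}, {{0, 1, 5}, {2, 3, 4}}, {{0, 2, 3}, {1, 4, 5}}, {{0, 2, 4}, {1, 3, 5}}, {{0, 2, 5}, {1, 3, 4}}, {{0, 4, 5}, {1, 2, 3}}, {{0, 3, 5}, {1, 2, 4}}, {{0, 3, 4}, {1, 2, 5}}]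

/-- The action on splittings. -/
def act (σ : alternatingGroup (Fin 6)) (P : Finset (Finset (Fin 6))) : Finset (Finset (Fin 6)) :=
  P.image (Finset.image (σ : Equiv.Perm (Fin 6)))

def σ₀ : alternatingGroup (Fin 6) :=
  ⟨⟨![0, 1, 2, 4, 5, 3], ![0, 1, 2, 5, 3, 4], by decide, by decide⟩, by rw [Equiv.Perm.mem_alternatingGroup]; decide⟩

def σ₁ : alternatingGroup (Fin 6) :=
  ⟨⟨![2, 0, 1, 3, 4, 5], ![1, 2, 0, 3, 4, 5], by decide, by decide⟩, by rw [Equiv.Perm.mem_alternatingGroup]; decide⟩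

def σ₂ : alternatingGroup (Fin 6) :=
  ⟨⟨![0, 1, 3, 2, 5, 4], ![0, 1, 3, 2, 5, 4], by decide, by decide⟩, by rw [Equiv.Perm.mem_alternatingGroup]; decide⟩

def π₀ : Fin 10 → Fin 10 := ![0, 2, 3, 1, 5, 6, 4, 8, 9, 7]
def π₁ : Fin 10 → Fin 10 := ![0, 4, 5, 6, 7, 8, 9, 1, 2, 3]
def π₂ : Fin 10 → Fin 10 := ![1, 0, 3, 2, 4, 8, 9, 7, 5, 6]

theorem act_σ₀ : ∀ k, act σ₀ (lab k) = lab (π₀ k) := by decide +kernel
theorem act_σ₁ : ∀ k, act σ₁ (lab k) = lab (π₁ k) := by decide +kernel
theorem act_σ₂ : ∀ k, act σ₂ (lab k) = lab (π₂ k) := by decide +kernel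

theorem aniso : ∀ a b : ZMod 3, a * a + b * b = 0 → a = 0 ∧ b = 0 := by decide

variable {F : Type*} [Field F]

/-- The vectors representing the ten points. -/
def rep (i : F) : Fin 10 → F × F :=
  ![(1, 0), (0, 1), (1, 1), (2, 1), (i, 1), (1 + i, 1), (2 + i, 1), (2 * i, 1), (1 + 2 * i, 1),
    (2 + 2 * i, 1)]

theorem rep_ne (i : F) (k : Fin 10) : ![(rep i k).1, (rep i k).2] ≠ 0 := by
  intro h
  have h0 := congrFun h 0
  have h1 := congrFun h 1
  fin_cases k <;> simp [rep] at h0 h1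

/-- The ten points. -/
def pt (i : F) (k : Fin 10) : ℙ F (Fin 2 → F) := Projectivization.mk F _ (rep_ne i k)

theorem smul_mk_eq (A : SL(2, F)) (v w : Fin 2 → F) (hv : v ≠ 0) (hw : w ≠ 0)
    (h : (A.1 0 0 * v 0 + A.1 0 1 * v 1) * w 1 = (A.1 1 0 * v 0 + A.1 1 1 * v 1) * w 0) :
    A • Projectivization.mk F v hv = Projectivization.mk F w hw := by
  rw [Projectivization.smul_mk, Projectivization.mk_eq_mk_iff']
  by_cases h1 : w 1 = 0
  · have h0 : w 0 ≠ 0 := fun h0 => hw (funext fun j => by fin_cases j <;> simpa)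
    rw [h1, mul_zero, eq_comm, mul_eq_zero, or_iff_left h0] at h
    refine ⟨(A.1 0 0 * v 0 + A.1 0 1 * v 1) / w 0, funext fun j => ?_⟩
    fin_cases j <;>
      simp [Matrix.SpecialLinearGroup.smul_def, Matrix.mulVec, dotProduct, Fin.sum_univ_two, h0, h1, h]
  · refine ⟨(A.1 1 0 * v 0 + A.1 1 1 * v 1) / w 1, funext fun j => ?_⟩
    fin_cases j <;>
      simp [Matrix.SpecialLinearGroup.smul_def, Matrix.mulVec, dotProduct, Fin.sum_univ_two, h1]
    field_simp
    linear_combination -h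

theorem entries_of_fix (A : SL(2, F)) (v : Fin 2 → F) (hv : v ≠ 0)
    (h : A • Projectivization.mk F v hv = Projectivization.mk F v hv) :
    (A.1 0 0 * v 0 + A.1 0 1 * v 1) * v 1 = (A.1 1 0 * v 0 + A.1 1 1 * v 1) * v 0 := by
  rw [Projectivization.smul_mk, Projectivization.mk_eq_mk_iff'] at h
  obtain ⟨c, hc⟩ := h
  have h0 := congrFun hc 0
  have h1 := congrFun hc 1
  simp [Matrix.SpecialLinearGroup.smul_def, Matrix.mulVec, dotProduct, Fin.sum_univ_two] at h0 h1
  rw [← h0, ← h1]; ring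

theorem move {i : F} (A : SL(2, F)) (π : Fin 10 → Fin 10)
    (h : ∀ k, (A.1 0 0 * (rep i k).1 + A.1 0 1 * (rep i k).2) * (rep i (π k)).2 =
      (A.1 1 0 * (rep i k).1 + A.1 1 1 * (rep i k).2) * (rep i (π k)).1) (k : Fin 10) :
    (QuotientGroup.mk A : Matrix.ProjectiveSpecialLinearGroup (Fin 2) F) • pt i k = pt i (π k) := by
  rw [Matrix.ProjectiveSpecialLinearGroup.smul_proj_mk]
  exact smul_mk_eq A _ _ _ _ (by simpa using h k)

/-- PSL_2(9) is isomorphic to A_6. -/
theorem result {F : Type*} [Field F] [Fintype F] (hF : Fintype.card F = 9) : Nonempty (Matrix.ProjectiveSpecialLinearGroup (Fin 2) F ≃* alternatingGroup (Fin 6)) := by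
  classical
  have hFn : Nat.card F = 9 := by rw [Nat.card_eq_fintype_card, hF]
  have : Fact (Nat.Prime 3) := ⟨Nat.prime_three⟩
  have h3 : (3 : F) = 0 := by
    have h9 : ((9 : ℕ) : F) = 0 := by rw [← hF]; exact Nat.cast_card_eq_zero F
    exact pow_eq_zero_iff (n := 2) (by norm_num) |>.1 (by push_cast at h9; linear_combination h9)
  have : CharP F 3 := CharP.charP_iff_prime_eq_zero Nat.prime_three |>.2 (by exact_mod_cast h3)
  obtain ⟨i, hi⟩ : ∃ i : F, i * i = -1 := by
    obtain ⟨i, hi⟩ := FiniteField.isSquare_neg_one_iff.2 (by rw [hF]; norm_num : Fintype.card F % 4 ≠ 3)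
    exact ⟨i, hi.symm⟩
  let φ := QuotientGroup.mk' (Subgroup.center SL(2, F))
  have hcover : ∀ x : F, ∃ a b : ZMod 3, (a.cast : F) + (b.cast : F) * i = x := by
    let f : ZMod 3 × ZMod 3 → F := fun p =>
      ZMod.castHom dvd_rfl F p.1 + ZMod.castHom dvd_rfl F p.2 * i
    have hf : Function.Injective f := by
      intro p r h
      have h' : ZMod.castHom dvd_rfl F (p.1 - r.1) + ZMod.castHom dvd_rfl F (p.2 - r.2) * i = 0 := by
        simp only [map_sub]; linear_combination h
      have hsq : (p.1 - r.1) * (p.1 - r.1) + (p.2 - r.2) * (p.2 - r.2) = 0 := by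
        apply (ZMod.castHom dvd_rfl F).injective
        rw [map_add, map_mul, map_mul, map_zero]
        linear_combination (ZMod.castHom dvd_rfl F (p.1 - r.1) - ZMod.castHom dvd_rfl F (p.2 - r.2) * i) * h' + (ZMod.castHom dvd_rfl F (p.2 - r.2))^2 * hi
      obtain ⟨ha, hb⟩ := aniso _ _ hsq
      exact Prod.ext (sub_eq_zero.1 ha) (sub_eq_zero.1 hb)
    intro x
    obtain ⟨p, hp⟩ := ((Fintype.bijective_iff_injective_and_card f).2
      ⟨hf, by rw [Fintype.card_prod, ZMod.card, hF]⟩).2 x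
    exact ⟨p.1, p.2, hp⟩
  refine Nonempty.map MulEquiv.symm (IsoGraph.nonempty_equiv
    (A := alternatingGroup (Fin 6)) (B := Matrix.ProjectiveSpecialLinearGroup (Fin 2) F)
    (Y := ℙ F (Fin 2 → F))
    (by rw [PSLCard.card_PSL2, hFn, nat_card_alternatingGroup, Nat.card_fin]; rfl)
    act (fun a b P => by simp [act, Finset.image_image, Function.comp_def])
    (fun P => by simp [act, show Finset.image (id : Fin 6 → Fin 6) = id from funext fun s => Finset.image_id]) lab (pt i) (by decide +kernel) ?_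
    {φ (u 1), φ (u i), φ w} ?_ ?_)
  · intro g hg
    obtain ⟨A, rfl⟩ := QuotientGroup.mk_surjective g
    have key : ∀ k, A • pt i k = pt i k := fun k => by
      have := hg k; rwa [Matrix.ProjectiveSpecialLinearGroup.smul_proj_mk] at this
    have e0 := entries_of_fix A _ _ (key 0)
    have e1 := entries_of_fix A _ _ (key 1)
    have e2 := entries_of_fix A _ _ (key 2)
    simp [rep] at e0 e1 e2
    rw [QuotientGroup.eq_one_iff, mem_center_iff]
    have hd := det_eq A
    rw [← e0, e1, mul_zero, sub_zero] at hd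
    have had : A.1 1 1 = A.1 0 0 := by linear_combination e1 + e0 - e2
    rw [had] at hd
    rcases mul_self_eq_one_iff.1 hd with h | h
    · exact Or.inl (ext2 (by simp [h]) (by simp [e1]) (by simp [← e0]) (by simp [had, h]))
    · exact Or.inr (ext2 (by simp [h]) (by simp [e1]) (by simp [← e0]) (by simp [had, h]))
  · rw [eq_top_iff]
    intro g _
    obtain ⟨A, rfl⟩ := QuotientGroup.mk_surjective g
    set S := Subgroup.closure ({φ (u 1), φ (u i), φ w} : Set (Matrix.ProjectiveSpecialLinearGroup (Fin 2) F))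
    have hu : ∀ x : F, φ (u x) ∈ S := by
      intro x
      obtain ⟨a, b, rfl⟩ := hcover x
      have hn : ∀ (n : ℕ) (y : F), φ (u y) ∈ S → φ (u (n * y)) ∈ S := by
        intro n y hy
        induction n with
        | zero => rw [Nat.cast_zero, zero_mul, u_zero, map_one]; exact one_mem _
        | succ n ih =>
          rw [Nat.cast_succ, add_mul, one_mul, ← u_mul, map_mul]
          exact mul_mem ih hy
      rw [← u_mul, map_mul, ← ZMod.natCast_val, ← ZMod.natCast_val]
      refine mul_mem ?_ (hn _ _ (Subgroup.subset_closure (by simp)))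
      simpa using hn a.val 1 (Subgroup.subset_closure (by simp))
    have hw : φ w ∈ S := Subgroup.subset_closure (by simp)
    suffices S.comap φ = ⊤ by
      exact Subgroup.mem_comap.1 (this ▸ Subgroup.mem_top A)
    refine PSLSimple.eq_top_of_transvection_mem _ fun j k hjk c => ?_
    rw [Subgroup.mem_comap]
    fin_cases j <;> fin_cases k <;> try exact absurd rfl hjk
    · have : Matrix.SpecialLinearGroup.transvection hjk c = u c := by
        apply ext2 <;> simp [Matrix.SpecialLinearGroup.transvection_coe, Matrix.single_apply, u, mk2]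
      rw [this]; exact hu c
    · have : Matrix.SpecialLinearGroup.transvection hjk c = w * u (-c) * w⁻¹ := by
        rw [eq_mul_inv_iff_mul_eq]
        apply ext2 <;> rw [mul_apply2, mul_apply2] <;>
          simp [Matrix.SpecialLinearGroup.transvection_coe, Matrix.single_apply, u, w, mk2]
      rw [this, map_mul, map_mul, map_inv]
      exact mul_mem (mul_mem hw (hu _)) (inv_mem hw)
  · intro g hg
    rcases hg with rfl | rfl | rfl
    · exact ⟨σ₀, fun k => ⟨π₀ k, act_σ₀ k, move _ π₀ (by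
        intro k; fin_cases k <;> simp [rep, π₀, u, mk2] <;> grind) k⟩⟩
    · exact ⟨σ₁, fun k => ⟨π₁ k, act_σ₁ k, move _ π₁ (by
        intro k; fin_cases k <;> simp [rep, π₁, u, mk2] <;> grind) k⟩⟩
    · exact ⟨σ₂, fun k => ⟨π₂ k, act_σ₂ k, move _ π₂ (by
        intro k; fin_cases k <;> simp [rep, π₂, w, mk2] <;> grind) k⟩⟩

end Cfsg.Agent.S0254
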