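import Mathlib
import Cfsg.Statements.S1475
-- import your own Cfsg.Agent.* helpers here

set_option autoImplicit false
open Cfsg
open scoped commutatorElement

namespace Cfsg.Agent.S1475

open scoped BigOperators in
theorem aux_avg {S N : Type*} [Group S] [CommGroup N] (φ : S →* MulAut N)
    (Q : Subgroup S) [Q.Normal] [Finite Q] (hQ : Q ≠ ⊥) (t : S) (r : ℕ) (hr : 1 < r) (htr : t ^ r = 1)
    (ht1 : t ≠ 1) (hfix : ∀ x : S, x ≠ 1 → ∀ v : N, φ x v = v → v = 1)
    (hcent : ∀ j, 0 < j → j < r → ∀ u ∈ Q, u * t ^ j = t ^ j * u → u = 1) (v : N) :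
    v ^ Nat.card Q = 1 := by
  classical
  have : Fintype Q := Fintype.ofFinite Q
  obtain ⟨x, hxQ, hx1⟩ := Q.ne_bot_iff_exists_ne_one.1 hQ |>.elim
    (fun x hx => ⟨(x : S), x.2, fun h => hx (Subtype.ext h)⟩ : ∀ x : Q, x ≠ 1 → ∃ y : S, y ∈ Q ∧ y ≠ 1)
  have hQprod : ∀ w : N, ∏ u : Q, φ (u : S) w = 1 := by
    intro w
    refine hfix x hx1 _ ?_
    rw [map_prod]
    refine Fintype.prod_equiv (Equiv.mulLeft (⟨x, hxQ⟩ : Q)) _ _ fun u => ?_
    simp [MulAut.mul_apply]
  have htprod : ∀ w : N, ∏ j ∈ Finset.range r, φ (t ^ j) w = 1 := by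
    intro w
    refine hfix t ht1 _ ?_
    rw [map_prod]
    have h1 : ∀ j, φ t (φ (t ^ j) w) = φ (t ^ (j + 1)) w := fun j => by
      rw [pow_succ', map_mul]; rfl
    simp only [h1]
    have h2 := Finset.prod_range_succ' (fun j => φ (t ^ j) w) r
    have h3 := Finset.prod_range_succ (fun j => φ (t ^ j) w) r
    simp only [htr, pow_zero] at h2 h3
    exact mul_right_cancel (h2.symm.trans h3)
  have hconj : ∀ u : Q, ∏ j ∈ Finset.range r, φ ((u : S) * t ^ j * (u : S)⁻¹) v = 1 := by
    intro u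
    have h1 : ∀ j, φ ((u : S) * t ^ j * (u : S)⁻¹) v = φ (u : S) (φ (t ^ j) (φ (u : S)⁻¹ v)) := fun j => by
      rw [map_mul, map_mul]; rfl
    simp only [h1]
    rw [← map_prod, htprod, map_one]
  have hj : ∀ j, 0 < j → j < r → ∏ u : Q, φ ((u : S) * t ^ j * (u : S)⁻¹) v = 1 := by
    intro j h0 hjr
    let ψ : Q → Q := fun u => ⟨(u : S) * t ^ j * (u : S)⁻¹ * (t ^ j)⁻¹, by
      have h : t ^ j * (u : S)⁻¹ * (t ^ j)⁻¹ ∈ Q := ‹Q.Normal›.conj_mem _ (Q.inv_mem u.2) _
      simpa [mul_assoc] using Q.mul_mem u.2 h⟩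
    have hψ : Function.Bijective ψ := by
      refine Finite.injective_iff_bijective.1 fun a b hab => ?_
      have h : (a : S) * t ^ j * (a : S)⁻¹ = (b : S) * t ^ j * (b : S)⁻¹ :=
        mul_right_cancel (congrArg Subtype.val hab)
      have := hcent j h0 hjr ((b : S)⁻¹ * a) (Q.mul_mem (Q.inv_mem b.2) a.2) (by
        calc (b : S)⁻¹ * a * t ^ j = (b : S)⁻¹ * ((a : S) * t ^ j * (a : S)⁻¹) * a := by group
          _ = t ^ j * ((b : S)⁻¹ * a) := by rw [h]; group)
      exact Subtype.ext (inv_mul_eq_one.1 this).symm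
    calc ∏ u : Q, φ ((u : S) * t ^ j * (u : S)⁻¹) v = ∏ u : Q, φ (u : S) (φ (t ^ j) v) := by
          refine Fintype.prod_equiv (Equiv.ofBijective ψ hψ) _ _ fun u => ?_
          rw [← MulAut.mul_apply, ← map_mul]
          simp [ψ]
      _ = 1 := hQprod _
  have htot : ∏ j ∈ Finset.range r, ∏ u : Q, φ ((u : S) * t ^ j * (u : S)⁻¹) v = 1 := by
    rw [Finset.prod_comm]
    exact Finset.prod_eq_one fun u _ => hconj u
  rw [Finset.prod_eq_single 0 (fun j hj' hne => hj j (Nat.pos_of_ne_zero hne) (Finset.mem_range.1 hj'))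
    (fun h => absurd (Finset.mem_range.2 (lt_trans zero_lt_one hr)) h)] at htot
  simpa [Finset.prod_const, Nat.card_eq_fintype_card] using htot

theorem exists_normal_abelian_pgroup (G : Type*) [Group G] [Finite G] [Group.IsSolvable G] [Nontrivial G] :
    ∃ (p : ℕ) (N : Subgroup G), p.Prime ∧ N.Normal ∧ N ≠ ⊥ ∧ IsPGroup p N ∧ IsMulCommutative N := by
  classical
  have hex : ∃ n, derivedSeries G n = ⊥ := (Group.isSolvable_def G).1 inferInstance
  set n := Nat.find hex with hn
  have hn0 : n ≠ 0 := by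
    intro h
    have := Nat.find_spec hex
    rw [← hn, h, derivedSeries_zero] at this
    exact top_ne_bot this
  obtain ⟨m, hm⟩ := Nat.exists_eq_succ_of_ne_zero hn0
  set A := derivedSeries G m with hA
  have hA1 : A ≠ ⊥ := Nat.find_min hex (by omega)
  have hAc : IsMulCommutative A := by
    refine ⟨⟨fun a b => Subtype.ext ?_⟩⟩
    have h := Nat.find_spec hex
    rw [← hn, hm, derivedSeries_succ] at h
    have := Subgroup.commutator_mem_commutator a.2 b.2
    rw [h, Subgroup.mem_bot, commutatorElement_eq_one_iff_mul_comm] at this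
    exact this
  obtain ⟨p, hp, hpd⟩ := Nat.exists_prime_and_dvd
    (fun h : Nat.card A = 1 => hA1 (Subgroup.card_eq_one.1 h))
  have : Fact p.Prime := ⟨hp⟩
  obtain ⟨P⟩ : Nonempty (Sylow p A) := inferInstance
  have hPn : (P : Subgroup A).Normal := ⟨fun a ha g => by
    have : g * a * g⁻¹ = a := by rw [hAc.is_comm.comm g a, mul_inv_cancel_right]
    rwa [this]⟩
  have : (P : Subgroup A).Characteristic := P.characteristic_of_normal hPn
  refine ⟨p, (P : Subgroup A).map A.subtype, hp, inferInstance, ?_, P.isPGroup'.map _, ?_⟩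
  · intro h
    rw [Subgroup.map_eq_bot_iff_of_injective _ A.subtype_injective] at h
    exact (P.ne_bot_of_dvd_card hpd) h
  · refine ⟨⟨fun a b => Subtype.ext ?_⟩⟩
    obtain ⟨a', -, ha⟩ := a.2
    obtain ⟨b', -, hb⟩ := b.2
    show (a : G) * b = b * a
    rw [← ha, ← hb]
    exact congrArg Subtype.val (hAc.is_comm.comm a' b')

theorem not_commute_of_coprime {G : Type*} [Group G] [Finite G]
    (h : ∀ g : G, IsPrimePow (orderOf g) ∨ g = 1) {a b : G} (ha : a ≠ 1) (hb : b ≠ 1)
    (hc : (orderOf a).Coprime (orderOf b)) : a * b ≠ b * a := by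
  intro hab
  have ho := (show Commute a b from hab).orderOf_mul_eq_mul_orderOf_of_coprime hc
  have ha' : orderOf a ≠ 1 := by simpa [orderOf_eq_one_iff] using ha
  have hb' : orderOf b ≠ 1 := by simpa [orderOf_eq_one_iff] using hb
  rcases h (a * b) with hpp | h1
  · rw [ho] at hpp
    rcases (Nat.Coprime.isPrimePow_dvd_mul hc hpp).1 dvd_rfl with hd | hd
    · have := Nat.le_of_dvd (orderOf_pos a) hd
      have := orderOf_pos a; have := orderOf_pos b
      nlinarith [show 2 ≤ orderOf b by omega]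
    · have := Nat.le_of_dvd (orderOf_pos b) hd
      have := orderOf_pos a; have := orderOf_pos b
      nlinarith [show 2 ≤ orderOf a by omega]
  · rw [h1, orderOf_one] at ho
    exact ha' (Nat.eq_one_of_mul_eq_one_right ho.symm)

theorem main.{w} : ∀ (n : ℕ) (G : Type w) [Group G] [Finite G] [Group.IsSolvable G], Nat.card G = n →
    (∀ g : G, IsPrimePow (orderOf g) ∨ g = 1) → (Nat.card G).primeFactors.card ≤ 2 := by
  intro n
  induction n using Nat.strong_induction_on with
  | _ n ih =>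
  intro G _ _ _ hn h
  rcases subsingleton_or_nontrivial G with hs | hnt
  · simp [Nat.card_of_subsingleton (1 : G)]
  obtain ⟨p, N, hp, hNn, hN1, hNp, hNc⟩ := exists_normal_abelian_pgroup G
  have := Fact.mk hp
  obtain ⟨k, hk⟩ := IsPGroup.iff_card.1 hNp
  have hk0 : k ≠ 0 := fun h0 => hN1 (Subgroup.card_eq_one.1 (by rw [hk, h0, pow_zero]))
  have hcard : Nat.card G = Nat.card (G ⧸ N) * p ^ k := by
    rw [← hk]; exact N.card_eq_card_quotient_mul_card_subgroup
  have hlt : Nat.card (G ⧸ N) < n := by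
    rw [← hn, hcard]
    exact lt_mul_of_one_lt_right Nat.card_pos (Nat.one_lt_pow hk0 hp.one_lt)
  have hq : ∀ g : G ⧸ N, IsPrimePow (orderOf g) ∨ g = 1 := by
    intro g
    obtain ⟨g, rfl⟩ := QuotientGroup.mk_surjective g
    rcases eq_or_ne (g : G ⧸ N) 1 with h1 | h1
    · exact Or.inr h1
    · refine Or.inl ((h g).resolve_right (fun he => h1 (by simp [he])) |>.dvd
        (orderOf_map_dvd (QuotientGroup.mk' N) g) ?_)
      simpa [orderOf_eq_one_iff] using h1
  have hQ2 := ih _ hlt (G ⧸ N) rfl hq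
  have hpf : (Nat.card G).primeFactors = (Nat.card (G ⧸ N)).primeFactors ∪ {p} := by
    rw [hcard, Nat.primeFactors_mul Nat.card_pos.ne' (pow_ne_zero _ hp.ne_zero),
      Nat.primeFactors_prime_pow hk0 hp]
  by_contra hgt
  rw [not_le, hpf] at hgt
  have hpn : p ∉ (Nat.card (G ⧸ N)).primeFactors := fun hm => by
    rw [Finset.union_singleton, Finset.insert_eq_of_mem hm] at hgt; omega
  have hpd : ¬ p ∣ N.index := fun hd => hpn (Nat.mem_primeFactors.2 ⟨hp, hd, Nat.card_pos.ne'⟩)
  have hcop : (Nat.card N).Coprime N.index := by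
    rw [hk]; exact Nat.Coprime.pow_left k ((Nat.Prime.coprime_iff_not_dvd hp).2 hpd)
  obtain ⟨K, hK⟩ := Subgroup.exists_right_complement'_of_coprime hcop
  have hKcard : Nat.card K = N.index := by
    have := hK.card_mul
    rw [← N.card_mul_index] at this
    exact Nat.eq_of_mul_eq_mul_left Nat.card_pos this
  have h2 : 2 ≤ (Nat.card K).primeFactors.card := by
    rw [hKcard]
    rw [Finset.union_singleton, Finset.card_insert_of_notMem hpn] at hgt
    exact Nat.le_of_lt_succ hgt
  have : Nontrivial K := by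
    rw [← Finite.one_lt_card_iff_nontrivial]
    by_contra h1
    have hp0 : Nat.card K = 1 := le_antisymm (not_lt.1 h1) Nat.card_pos
    rw [hp0] at h2
    simp at h2
  obtain ⟨q, Q, hq', hQn, hQ1, hQp, -⟩ := exists_normal_abelian_pgroup K
  have := Fact.mk hq'
  obtain ⟨m, hm⟩ := IsPGroup.iff_card.1 hQp
  obtain ⟨r, hr, hrq⟩ := Finset.exists_mem_ne (lt_of_lt_of_le one_lt_two h2) q
  obtain ⟨hrp, hrd, -⟩ := Nat.mem_primeFactors.1 hr
  have := Fact.mk hrp
  obtain ⟨t, ht⟩ := exists_prime_orderOf_dvd_card' r hrd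
  have hrne : r ≠ p := fun he => hpd (he ▸ hKcard ▸ hrd)
  have : IsMulCommutative N := hNc
  let _ : CommGroup N := { (inferInstance : Group N) with mul_comm := hNc.is_comm.comm }
  let φ : K →* MulAut N := (MulAut.conjNormal (H := N)).comp K.subtype
  have hKN : ∀ x : K, x ≠ 1 → ∀ v : N, φ x v = v → v = 1 := by
    intro x hx v hv
    by_contra hv1
    have hvv : (x : G) * v * (x : G)⁻¹ = v := by
      simpa [φ, MulAut.conjNormal_apply] using congrArg Subtype.val hv
    refine not_commute_of_coprime h (by simpa using hx) (b := (v : G)) (by simpa using hv1) ?_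
      (mul_inv_eq_iff_eq_mul.1 hvv)
    have h1 : orderOf (x : G) ∣ N.index := hKcard ▸ Subgroup.orderOf_dvd_natCard K x.2
    have h2 : orderOf (v : G) ∣ Nat.card N := Subgroup.orderOf_dvd_natCard N v.2
    exact Nat.Coprime.coprime_dvd_right h2 (Nat.Coprime.coprime_dvd_left h1 hcop.symm)
  have ht1 : t ≠ 1 := fun he => by rw [he, orderOf_one] at ht; exact hrp.ne_one ht.symm
  have key := aux_avg φ Q hQ1 t r hrp.one_lt (ht ▸ pow_orderOf_eq_one t) ht1 hKN
    (fun j hj hjr u hu hcomm => by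
      by_contra hu1
      have htj : t ^ j ≠ 1 := pow_ne_one_of_lt_orderOf hj.ne' (ht ▸ hjr)
      refine not_commute_of_coprime h (a := (u : G)) (b := ((t ^ j : K) : G))
        (by simpa using hu1) (fun he => htj (Subtype.ext he)) ?_ (congrArg Subtype.val hcomm)
      rw [Subgroup.orderOf_coe, Subgroup.orderOf_coe]
      have h1 : orderOf u ∣ q ^ m := hm ▸ Subgroup.orderOf_dvd_natCard Q hu
      have h2 : orderOf (t ^ j) ∣ r := ht ▸ orderOf_pow_dvd j
      exact Nat.Coprime.coprime_dvd_right h2 (Nat.Coprime.coprime_dvd_left h1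
        (Nat.Coprime.pow_left m ((Nat.coprime_primes hq' hrp).2 hrq.symm))))
  obtain ⟨v, hv⟩ := N.ne_bot_iff_exists_ne_one.1 hN1
  refine hv (orderOf_eq_one_iff.1 (Nat.Coprime.eq_one_of_dvd ?_ (orderOf_dvd_of_pow_eq_one (key v))))
  have h1 : Nat.card Q ∣ N.index := hKcard ▸ Subgroup.card_subgroup_dvd_card Q
  exact Nat.Coprime.coprime_dvd_right h1 (Nat.Coprime.coprime_dvd_left (orderOf_dvd_natCard v) hcop)

/-- Let G be a finite solvable group such that the order of every element is a prime power (1 included). Then at most two distinct primes divide the order of G. -/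
theorem result {G : Type*} [Group G] [Finite G] [Group.IsSolvable G] (h : ∀ g : G, IsPrimePow (orderOf g) ∨ g = 1) :
    (Nat.card G).primeFactors.card ≤ 2 := by
  exact main _ G rfl h

end Cfsg.Agent.S1475
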