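import Cfsg.Statements.S5748
import Mathlib
import Cfsg.Agent.S0182
import Cfsg.Agent.Lib.CAGroupProjective22
import Cfsg.Agent.Lib.PGL2SplitAxes
-- import your own Cfsg.Agent.* helpers here

set_option autoImplicit false
open Cfsg

namespace Cfsg.Agent.S5748

open scoped MatrixGroups

theorem charTwo (F : Type*) [Field F] [Fintype F] {f : ℕ} (hf : f ≠ 0)
    (hF : Fintype.card F = 2 ^ f) : CharP F 2 := by
  obtain ⟨p, hp⟩ := CharP.exists F
  obtain ⟨n, hn, hc⟩ := FiniteField.card F p
  have h2 : p ∣ 2 ^ f := hF ▸ hc ▸ dvd_pow_self p (by exact_mod_cast n.ne_zero)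
  have := (Nat.prime_dvd_prime_iff_eq hn Nat.prime_two).1 (hn.dvd_of_dvd_pow h2)
  exact this ▸ hp

theorem eq_one_of_scalar {F : Type*} [Field F] [CharP F 2] (g : SL(2, F))
    (h01 : g.1 0 1 = 0) (h10 : g.1 1 0 = 0) (hd : g.1 0 0 = g.1 1 1) : g = 1 := by
  have hdet : g.1.det = 1 := g.2
  rw [Matrix.det_fin_two, h01, h10, hd] at hdet
  have h2 : (2 : F) = 0 := CharTwo.two_eq_zero
  have h11 : g.1 1 1 = 1 := by
    have : (g.1 1 1 - 1) * (g.1 1 1 - 1) = 0 := by
      linear_combination hdet + (1 - g.1 1 1) * h2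
    exact sub_eq_zero.1 (mul_self_eq_zero.1 this)
  ext i j
  fin_cases i <;> fin_cases j <;> simp [h01, h10, hd, h11]

theorem center_bot {F : Type*} [Field F] [CharP F 2] : Subgroup.center SL(2, F) = ⊥ := by
  refine (Subgroup.eq_bot_iff_forall _).2 fun g hg => ?_
  obtain ⟨c, -, hc⟩ := Matrix.SpecialLinearGroup.mem_center_iff.1 hg
  refine eq_one_of_scalar g ?_ ?_ ?_ <;> rw [← hc] <;> simp

noncomputable def pslEquiv (F : Type*) [Field F] [CharP F 2] :
    Matrix.ProjectiveSpecialLinearGroup (Fin 2) F ≃* SL(2, F) :=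
  (QuotientGroup.quotientMulEquivOfEq center_bot).trans QuotientGroup.quotientBot

theorem ca_sl2 {F : Type*} [Field F] [CharP F 2] (a b c : SL(2, F)) (hb : b ≠ 1)
    (h1 : Commute a b) (h2 : Commute b c) : Commute a c := by
  have hns : ¬ PGL2SplitAxes.Sc b.1 := fun h => hb (eq_one_of_scalar b h.1 h.2.1 h.2.2)
  have := PGL2SplitAxes.commute_trans hns
    (show Commute b.1 a.1 from congrArg Subtype.val h1.eq.symm)
    (show Commute b.1 c.1 from congrArg Subtype.val h2.eq)
  exact Subtype.ext this.eq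

/-- A finite non-abelian simple group in which commuting is a transitive relation on the non-identity elements (equivalently, every non-identity element has abelian centraliser) is isomorphic to PSL₂ over a field with 2^f elements for some f ≥ 2; conversely these groups have that property. -/
theorem result {G : Type*} [Group G] [Finite G] [IsSimpleGroup G] (hG : ¬ IsMulCommutative G) :
    (∀ a b c : G, a ≠ 1 → b ≠ 1 → c ≠ 1 → Commute a b → Commute b c → Commute a c) ↔
    ∃ (F : Type) (_ : Field F) (_ : Fintype F) (f : ℕ), 2 ≤ f ∧ Fintype.card F = 2 ^ f ∧ Nonempty (G ≃* Matrix.ProjectiveSpecialLinearGroup (Fin 2) F) := by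
  constructor
  · intro h
    have hnc : ¬ ∀ a b : G, Commute a b := fun e => hG ⟨⟨e⟩⟩
    have heven : 2 ∣ Nat.card G := by
      by_contra h2
      have hodd : Odd (Nat.card G) := Nat.odd_iff.2 (by omega)
      have hsol : Group.IsSolvable G := S0182.result hodd fun x hx a ha b hb =>
        CAGroupStructure22.comm_cen h hx ha hb
      exact hG ⟨⟨IsSimpleGroup.comm_iff_isSolvable.2 hsol⟩⟩
    haveI : Fact (Nat.Prime 2) := ⟨Nat.prime_two⟩
    obtain ⟨t, ht⟩ := exists_prime_orderOf_dvd_card' 2 heven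
    obtain ⟨r, hr, ⟨e⟩⟩ := CAGroupProjective22.exists_equiv (t := t) (CAGroupStructure22.Cfg.of_ca h ht inferInstance hnc)
    haveI := Fintype.ofFinite (GaloisField 2 r)
    haveI : CharP (GaloisField 2 r) 2 := inferInstance
    refine ⟨GaloisField 2 r, inferInstance, inferInstance, r, hr, ?_,
      ⟨e.trans (pslEquiv (GaloisField 2 r)).symm⟩⟩
    rw [← Nat.card_eq_fintype_card, GaloisField.card 2 r (by omega)]
  · rintro ⟨F, iF, iT, f, hf, hF, ⟨e⟩⟩ a b c ha hb hc h1 h2
    haveI := charTwo F (by omega) hF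
    set E := e.trans (pslEquiv F)
    have h := ca_sl2 (E a) (E b) (E c) (fun h => hb (E.injective (h.trans E.map_one.symm)))
      (h1.map E) (h2.map E)
    exact E.injective (by rw [map_mul, map_mul, h.eq])

end Cfsg.Agent.S5748
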