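import Cfsg.Statements.S4073
import Mathlib
import Cfsg.Agent.S0182
import Cfsg.Agent.S5748
import Cfsg.Agent.Lib.CAGroupProjective22
import Cfsg.Agent.Lib.PGL2SplitAxes
import Cfsg.Agent.Lib.PSLCard
import Cfsg.Agent.Lib.NSNSimple22
import Cfsg.Agent.Lib.NSNConverse22

set_option autoImplicit false
open Cfsg

namespace Cfsg.Agent.S4073

open scoped MatrixGroups
open Cfsg.Agent.CAGroupStructure22 Cfsg.Agent.CAGroupGeometry22

theorem inv_sl2 {F : Type*} [Field F] [CharP F 2] (X N : SL(2, F)) (hX : X * X ≠ 1)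
    (hc : Commute (N * X * N⁻¹) X) : N * X * N⁻¹ = X ∨ N * X * N⁻¹ = X⁻¹ := by
  have hX1 : X ≠ 1 := fun e => hX (by rw [e, one_mul])
  have hns : ¬ PGL2SplitAxes.Sc X.1 := fun h =>
    hX1 (S5748.eq_one_of_scalar X h.1 h.2.1 h.2.2)
  obtain ⟨a, b, hY⟩ := PGL2SplitAxes.exists_span hns
    (show Commute X.1 (N * X * N⁻¹).1 from (congrArg Subtype.val hc.eq).symm)
  have h2 : (2 : F) = 0 := CharTwo.two_eq_zero
  have hdX : X.1 0 0 * X.1 1 1 - X.1 0 1 * X.1 1 0 = 1 := by
    rw [← Matrix.det_fin_two]; exact X.2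
  have hτ : X.1 0 0 + X.1 1 1 ≠ 0 := by
    intro h0
    refine hX ?_
    have hXX : X * X = X * X⁻¹ := by
      congr 1
      apply Subtype.ext
      rw [Matrix.SpecialLinearGroup.coe_inv, Matrix.adjugate_fin_two]
      ext i j
      fin_cases i <;> fin_cases j <;> simp [CharTwo.neg_eq]
      · exact CharTwo.add_eq_zero.1 h0
      · exact (CharTwo.add_eq_zero.1 h0).symm
    rw [hXX, mul_inv_cancel]
  have htr : (N * X * N⁻¹).1.trace = X.1.trace := by
    rw [Matrix.SpecialLinearGroup.coe_mul, Matrix.SpecialLinearGroup.coe_mul,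
      Matrix.trace_mul_cycle, ← Matrix.SpecialLinearGroup.coe_mul, inv_mul_cancel,
      Matrix.SpecialLinearGroup.coe_one, one_mul]
  rw [hY, Matrix.trace_fin_two, Matrix.trace_fin_two] at htr
  have hd : (N * X * N⁻¹).1.det = 1 := (N * X * N⁻¹).2
  rw [hY, Matrix.det_fin_two] at hd
  simp at htr hd
  have hb : b = 1 := by
    have : (b - 1) * (X.1 0 0 + X.1 1 1) = 0 := by linear_combination htr - a * h2
    exact sub_eq_zero.1 ((mul_eq_zero.1 this).resolve_right hτ)
  subst hb
  have ha : a * (a + (X.1 0 0 + X.1 1 1)) = 0 := by linear_combination hd - hdX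
  rcases mul_eq_zero.1 ha with h | h
  · left
    apply Subtype.ext
    rw [hY, h]
    simp
  · right
    apply Subtype.ext
    rw [hY, Matrix.SpecialLinearGroup.coe_inv, Matrix.adjugate_fin_two]
    ext i j
    fin_cases i <;> fin_cases j <;> simp [CharTwo.neg_eq]
    · linear_combination h - (X.1 1 1) * h2
    · linear_combination h - (X.1 0 0) * h2

/-- The parameter of the geometry is one less than the field order. -/
theorem kk_eq {G : Type*} [Group G] [Finite G] {t : G} (H : Cfg t) {n : ℕ} (hn : n ≠ 0)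
    (E : G ≃* SL(2, GaloisField 2 n)) : Cfg.kk t = 2 ^ n - 1 := by
  have hc := Subgroup.card_mul_index (Subgroup.normalizer (cen t : Set G))
  rw [card_points H, degree H, Cfg.card_normalizer, card_cen H, Nat.card_congr E.toEquiv,
    PSLCard.card_SL2, GaloisField.card 2 n hn] at hc
  generalize Cfg.kk t = k at hc ⊢
  generalize hq : 2 ^ n = q at hc ⊢
  have hq1 : 1 ≤ q := hq ▸ Nat.one_le_two_pow
  have hq2 : q * (q ^ 2 - 1) + q = q ^ 3 := by
    have : 1 ≤ q ^ 2 := Nat.one_le_pow _ _ hq1
    obtain ⟨j, hj⟩ := Nat.exists_eq_add_of_le this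
    rw [hj, Nat.add_sub_cancel_left, pow_succ q 2, hj]
    ring
  have h3 : (k + 1) ^ 3 + q = q ^ 3 + (k + 1) := by nlinarith
  rcases lt_trichotomy (k + 1) q with h | h | h
  · exfalso
    obtain ⟨d, hd⟩ := Nat.exists_eq_add_of_lt h
    subst hd
    nlinarith [Nat.zero_le (d * (k + 1) * (k + 1)), Nat.zero_le (d * d * (k + 1)),
      Nat.zero_le (d * d * d)]
  · omega
  · exfalso
    obtain ⟨d, hd⟩ := Nat.exists_eq_add_of_lt h
    rw [hd] at h3
    nlinarith [Nat.zero_le (d * q * q), Nat.zero_le (d * d * q), Nat.zero_le (d * d * d)]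

/-- Let G be a finite non-abelian simple group. Every non-abelian subgroup of G is self-normalizing if and only if G is isomorphic to PSL₂(2ⁿ) for some n ≥ 2 with 2ⁿ − 1 prime (this includes the alternating group of degree 5 as PSL₂(4)). -/
theorem result {G : Type*} [Group G] [Finite G] [IsSimpleGroup G]
    (hna : ¬ IsMulCommutative G) :
    (∀ H : Subgroup G, ¬ IsMulCommutative H → Subgroup.normalizer (H : Set G) = H) ↔
    ∃ n : ℕ, 2 ≤ n ∧ (2 ^ n - 1).Prime ∧ Nonempty (G ≃* Matrix.ProjectiveSpecialLinearGroup (Fin 2) (GaloisField 2 n)) := by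
  have hnc : ¬ ∀ a b : G, Commute a b := fun e => hna ⟨⟨e⟩⟩
  haveI : Fact (Nat.Prime 2) := ⟨Nat.prime_two⟩
  constructor
  · intro h
    have hca : CA G := NSNSimple22.ca h hnc
    have heven : 2 ∣ Nat.card G := by
      by_contra h2
      have hodd : Odd (Nat.card G) := Nat.odd_iff.2 (by omega)
      have hsol : Group.IsSolvable G := S0182.result hodd fun x hx a ha b hb =>
        CAGroupStructure22.comm_cen hca hx ha hb
      exact hna ⟨⟨IsSimpleGroup.comm_iff_isSolvable.2 hsol⟩⟩
    obtain ⟨t, ht⟩ := exists_prime_orderOf_dvd_card' 2 heven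
    have H : Cfg t := Cfg.of_ca hca ht inferInstance hnc
    obtain ⟨r, hr, ⟨e⟩⟩ := CAGroupProjective22.exists_equiv H
    refine ⟨r, hr, ?_, ⟨e.trans (S5748.pslEquiv (GaloisField 2 r)).symm⟩⟩
    rw [← kk_eq H (by omega) e]
    have hk3 := H.three_le_kk
    obtain ⟨p, hp⟩ := CAGroupProjective22.exists_point H
    obtain ⟨l, hl, hld⟩ := Nat.exists_prime_and_dvd (show Cfg.kk t ≠ 1 by omega)
    haveI := Fact.mk hl
    obtain ⟨⟨d, hd⟩, hdo⟩ := exists_prime_orderOf_dvd_card' (G := stab t p) l
      (by rwa [card_stab H hp])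
    rw [Subgroup.orderOf_mk] at hdo
    have hdN : d ∈ Subgroup.normalizer (cen t : Set G) := hd.1
    have hdM : d ∉ cen t := fun hm => hl.ne_one (by
      rw [mem_cen_stab H hp hm hd, orderOf_one] at hdo; exact hdo.symm)
    set S := cen t ⊔ Subgroup.zpowers d with hS
    have hSab : ¬ IsMulCommutative S := fun hab => hdM (mem_cen.2
      (congrArg Subtype.val (hab.is_comm.comm
        ⟨d, (le_sup_right : Subgroup.zpowers d ≤ S) (Subgroup.mem_zpowers d)⟩
        ⟨t, (le_sup_left : cen t ≤ S) H.t_mem⟩)))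
    have hsub : ∀ z ∈ stab t p, z ∈ Subgroup.zpowers d := by
      intro z hz
      have hzS : z ∈ S := by
        rw [← h S hSab]
        refine NSNSimple22.mem_normalizer_of_forall_mem ?_
        suffices S ≤ S.comap (MulAut.conj z).toMonoidHom from fun y hy => this hy
        refine sup_le (fun y hy => (le_sup_left : cen t ≤ S) (Cfg.conj_mem hz.1 hy))
          (Subgroup.zpowers_le.2 ?_)
        show z * d * z⁻¹ ∈ S
        rw [stab_comm H hp hz hd, mul_inv_cancel_right]
        exact (le_sup_right : Subgroup.zpowers d ≤ S) (Subgroup.mem_zpowers d)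
      rw [hS, ← SetLike.mem_coe, Subgroup.coe_mul_of_right_le_normalizer_left (cen t)
        (Subgroup.zpowers d) (Subgroup.zpowers_le.2 hdN)] at hzS
      obtain ⟨a, ha, w, hw, e⟩ := Set.mem_mul.1 hzS
      have hws : w ∈ stab t p := Subgroup.zpowers_le.2 hd hw
      have ha' : a ∈ stab t p := by
        rw [show a = z * w⁻¹ from eq_mul_inv_of_mul_eq e]
        exact mul_mem hz (inv_mem hws)
      rw [← e, mem_cen_stab H hp ha ha', one_mul]
      exact hw
    have hle := Subgroup.card_le_of_le (show stab t p ≤ Subgroup.zpowers d from hsub)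
    rw [card_stab H hp, Nat.card_zpowers, hdo] at hle
    have := Nat.le_of_dvd (by omega) hld
    rwa [show Cfg.kk t = l by omega]
  · rintro ⟨n, hn, hprime, ⟨e⟩⟩ S hS
    set E : G ≃* SL(2, GaloisField 2 n) := e.trans (S5748.pslEquiv (GaloisField 2 n))
    have hca : CA G := fun a b c _ hb _ h1 h2 => by
      have h := S5748.ca_sl2 (E a) (E b) (E c)
        (fun h => hb (E.injective (h.trans E.map_one.symm))) (h1.map E) (h2.map E)
      exact E.injective (by rw [map_mul, map_mul, h.eq])
    refine NSNConverse22.nsn (k := 2 ^ n - 1) ⟨hca, hnc, inferInstance, hprime,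
      fun t ht => kk_eq (Cfg.of_ca hca ht inferInstance hnc) (by omega) E, ?_⟩ S hS
    intro x m hx hc
    have hX : E x * E x ≠ 1 := fun h => hx (E.injective (by rw [map_mul, h, map_one]))
    have hc' : Commute (E m * E x * (E m)⁻¹) (E x) := by
      rw [← map_inv, ← map_mul, ← map_mul]
      exact hc.map E
    rcases inv_sl2 (E x) (E m) hX hc' with h | h
    · exact Or.inl (E.injective (by rw [map_mul, map_mul, map_inv, h]))
    · exact Or.inr (E.injective (by rw [map_mul, map_mul, map_inv, h, map_inv]))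

end Cfsg.Agent.S4073
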