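import Cfsg.Statements.S0088
import Mathlib
import Cfsg.Agent.Lib.TransferPow
-- import your own Cfsg.Agent.* helpers here

set_option autoImplicit false
open Cfsg

namespace Cfsg.Agent.S0088

/-- An abelian Hall subgroup meets G' ∩ Z(G) trivially. -/
theorem result {G : Type*} [Group G] [Finite G] (H : Subgroup G) (hc : IsMulCommutative H) (hHall : Nat.Coprime (Nat.card H) H.index) : H ⊓ commutator G ⊓ Subgroup.center G = ⊥ := by
  rw [Subgroup.eq_bot_iff_forall]
  rintro x ⟨⟨hxH, hxd⟩, hxc⟩
  refine TransferPow.eq_one_of_mem_center_commutator hxH hxc hxd ?_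
  refine Nat.Coprime.coprime_dvd_right ?_ hHall.symm
  exact Subgroup.orderOf_dvd_natCard _ hxH
end Cfsg.Agent.S0088
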