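import Cfsg.Statements.S2202
import Mathlib
import Cfsg.Agent.Lib.InvolAbelian22Bad
import Cfsg.Agent.Lib.InvolAbelian22Central
import Cfsg.Agent.Lib.InvolAbelian22Good
import Cfsg.Agent.Lib.FrobeniusFPF
-- import your own Cfsg.Agent.* helpers here

set_option autoImplicit false
open Cfsg

namespace Cfsg.Agent.S2202

open Cfsg.Agent.CAGroupStructure22 Cfsg.Agent.InvolAbelian22Basic
open Cfsg.Agent.SignalizerStrongEmb (involution_ne_one)

universe v

/-- The classification in the noncyclic non-normal case, by induction on the order. -/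
theorem slProd_of_base : ∀ (n : ℕ) (G : Type v) [Group G] [Finite G], Nat.card G = n →
    ∀ t : G, Base t → SLProd G := by
  intro n
  induction n using Nat.strong_induction_on with
  | _ n ih =>
    intro G _ _ hn t B
    have hIH : InvolAbelian22Bad.IH G := fun R _ _ hlt s hs => ih _ (hn ▸ hlt) R rfl s hs
    by_cases hZ : Subgroup.center G = ⊥
    · exact InvolAbelian22Good.out_good B fun x hx hx1 =>
        InvolAbelian22Bad.no_bad B hIH hZ hx hx1
    · refine InvolAbelian22Central.out_of_quot B (hIH _ ?_ _ (InvolAbelian22Central.base_quot B))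
      have h := (Subgroup.center G).card_mul_index
      have h1 : 1 < Nat.card (Subgroup.center G) := Subgroup.one_lt_card_iff_ne_bot _ |>.2 hZ
      rw [show Nat.card (G ⧸ Subgroup.center G) = (Subgroup.center G).index from rfl, ← h]
      exact lt_mul_of_one_lt_left (Nat.pos_of_ne_zero Subgroup.index_ne_zero_of_finite) h1

/-- Finite groups in which the centralizer of every involution is abelian. Let G be a finite group of even order in which the centralizer of every element of order 2 is abelian. Then the Sylow 2-subgroups of G are cyclic, or a Sylow 2-subgroup of G is normal, or G is isomorphic to the direct product of SL₂(F) for a finite field F of characteristic two and an abelian group of odd order. -/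
theorem result {G : Type*} [Group G] [Finite G] (heven : Even (Nat.card G)) (h : ∀ t : G, orderOf t = 2 → IsMulCommutative ↥(Subgroup.centralizer ({t} : Set G))) :
    (∀ P : Sylow 2 G, IsCyclic ↥P) ∨ (∀ P : Sylow 2 G, (P : Subgroup G).Normal) ∨
    (∃ (F : Type) (_ : Field F) (_ : Fintype F) (A : Type) (_ : CommGroup A) (_ : Finite A), CharP F 2 ∧ Odd (Nat.card A) ∧ Nonempty (G ≃* Matrix.SpecialLinearGroup (Fin 2) F × A)) := by
  classical
  haveI : Fact (Nat.Prime 2) := ⟨Nat.prime_two⟩
  have cm : AIC G := fun u hu a ha b hb => by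
    exact congrArg Subtype.val ((h u hu).is_comm.comm ⟨a, ha⟩ ⟨b, hb⟩)
  have hcen : ∀ P : Sylow 2 G, ∃ z : G, orderOf z = 2 ∧ z ∈ (P : Subgroup G) ∧
      (P : Subgroup G) ≤ cen z := by
    intro P
    have hd : 2 ∣ Nat.card (P : Subgroup G) := P.dvd_card_of_dvd_card (even_iff_two_dvd.1 heven)
    have : Nontrivial (P : Subgroup G) := Finite.one_lt_card_iff_nontrivial.1
      (lt_of_lt_of_le one_lt_two (Nat.le_of_dvd Nat.card_pos hd))
    have := P.isPGroup'.center_nontrivial
    obtain ⟨c, hc⟩ := exists_prime_orderOf_dvd_card' 2 (show 2 ∣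
        Nat.card (Subgroup.center (P : Subgroup G)) by
      obtain ⟨i, hi, e⟩ := (P.isPGroup'.to_subgroup
        (Subgroup.center (P : Subgroup G))).nontrivial_iff_card.1 inferInstance
      exact e ▸ dvd_pow_self 2 hi.ne')
    refine ⟨(c.1 : G), by rw [Subgroup.orderOf_coe, Subgroup.orderOf_coe]; exact hc, c.1.2,
      fun w hw => mem_cen.2 ?_⟩
    exact congrArg Subtype.val (Subgroup.mem_center_iff.1 c.2 ⟨w, hw⟩)
  have hcomm : ∀ P : Sylow 2 G, ∀ a ∈ (P : Subgroup G), ∀ b ∈ (P : Subgroup G), a * b = b * a := by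
    intro P a ha b hb
    obtain ⟨z, hz, -, hle⟩ := hcen P
    exact cm z hz a (hle ha) b (hle hb)
  by_cases hone : ∀ P : Sylow 2 G, ∀ a ∈ (P : Subgroup G), ∀ b ∈ (P : Subgroup G),
      orderOf a = 2 → orderOf b = 2 → a = b
  · left
    intro P
    letI : CommGroup (P : Subgroup G) := { (inferInstance : Group (P : Subgroup G)) with
      mul_comm := fun a b => Subtype.ext (hcomm P a a.2 b b.2) }
    refine FrobeniusFPF.isCyclic_of_unique_prime fun p hp d e hd he => ?_
    have hp2 : p = 2 := by
      obtain ⟨i, hi⟩ := IsPGroup.iff_orderOf.1 P.isPGroup' d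
      exact (Nat.prime_dvd_prime_iff_eq hp Nat.prime_two).1
        (hp.dvd_of_dvd_pow (show p ∣ 2 ^ i by rw [← hi, hd]))
    subst hp2
    rw [← Subgroup.orderOf_coe] at hd he
    rw [Subtype.ext (hone P d d.2 e e.2 hd he)]
    exact Subgroup.mem_zpowers e
  push Not at hone
  obtain ⟨P₀, t, htP, u, huP, ht, hu, htu⟩ := hone
  by_cases hn : (cen t).Normal
  · right; left
    have hP₀ : (P₀ : Subgroup G) ≤ cen t := fun w hw => mem_cen.2 (hcomm P₀ w hw t htP)
    intro P
    have hPM : (P : Subgroup G) ≤ cen t := by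
      obtain ⟨g, rfl⟩ := MulAction.exists_smul_eq G P₀ P
      rintro _ ⟨w, hw, rfl⟩
      exact hn.conj_mem w (hP₀ hw) g
    refine ⟨fun x hx g => ?_⟩
    have hy : g * x * g⁻¹ ∈ cen t := hn.conj_mem x (hPM hx) g
    have hpg : IsPGroup 2 (Subgroup.zpowers (g * x * g⁻¹)) := by
      obtain ⟨i, hi⟩ := IsPGroup.iff_orderOf.1 P.isPGroup' ⟨x, hx⟩
      rw [← Subgroup.orderOf_coe] at hi
      exact IsPGroup.of_card (n := i) (by
        rw [Nat.card_zpowers, SignalizerStrongEmb.orderOf_conj, hi])
    have hnorm : Subgroup.zpowers (g * x * g⁻¹) ≤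
        Subgroup.normalizer ((P : Subgroup G) : Set G) := by
      refine Subgroup.zpowers_le.2 (Subgroup.mem_normalizer_iff.2 fun w => ?_)
      constructor
      · intro hw
        rwa [cm t ht _ hy w (hPM hw), mul_inv_cancel_right]
      · intro hw
        have e : w = (g * x * g⁻¹)⁻¹ * (g * x * g⁻¹ * w * (g * x * g⁻¹)⁻¹) * (g * x * g⁻¹) := by
          group
        rw [e, cm t ht _ (inv_mem hy) _ (hPM hw), inv_mul_cancel_right]
        exact hw
    have hs := hpg.to_sup_of_normal_right' P.isPGroup' hnorm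
    have := P.is_maximal' hs le_sup_right
    exact this ▸ (le_sup_left : Subgroup.zpowers (g * x * g⁻¹) ≤ _) (Subgroup.mem_zpowers _)
  · right; right
    have B : Base t := ⟨cm, ht, hn, u, hu, fun e => htu e.symm,
      mem_cen.2 (hcomm P₀ u huP t htP)⟩
    obtain ⟨F, iF, iFt, A, iA, iAf, hch, hA, -, hE⟩ := slProd_of_base _ G rfl t B
    exact ⟨F, iF, iFt, A, iA, iAf, hch, hA, hE⟩

end Cfsg.Agent.S2202
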