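import Cfsg.Statements.S4025
import Cfsg.Agent.Lib.TransitiveSubspaces87
import Cfsg.Agent.Lib.ComponentsCores

set_option autoImplicit false
open Cfsg

namespace Cfsg.Agent.S4025

open Cfsg.Agent.TransitiveSubspaces87

/-- Burnside: subgroups of an abelian Sylow subgroup which are conjugate are conjugate in its
normalizer. -/
theorem burnside {G : Type*} [Group G] [Finite G] {p : ℕ} [Fact p.Prime] (P : Sylow p G)
    (hab : ∀ a ∈ (P : Subgroup G), ∀ b ∈ (P : Subgroup G), a * b = b * a)
    (U : Subgroup G) (hU : U ≤ (P : Subgroup G)) (g : G)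
    (hg : U.map (MulAut.conj g).toMonoidHom ≤ (P : Subgroup G)) :
    ∃ m ∈ Subgroup.normalizer ((P : Subgroup G) : Set G), ∀ u ∈ U, m * u * m⁻¹ = g * u * g⁻¹ := by
  let C : Subgroup G := Subgroup.centralizer ((U.map (MulAut.conj g).toMonoidHom : Subgroup G) : Set G)
  have h1 : (P : Subgroup G) ≤ C := fun x hx => Subgroup.mem_centralizer_iff.2 fun y hy =>
    hab y (hg hy) x hx
  have h2 : ((g • P : Sylow p G) : Subgroup G) ≤ C := by
    intro x hx
    rw [Sylow.coe_subgroup_smul, Subgroup.mem_pointwise_smul_iff_inv_smul_mem] at hx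
    refine Subgroup.mem_centralizer_iff.2 ?_
    rintro y ⟨u, hu, rfl⟩
    have hx' : g⁻¹ * x * g ∈ (P : Subgroup G) := by simpa [MulAut.smul_def] using hx
    have h := hab u (hU hu) _ hx'
    calc (g * u * g⁻¹) * x = g * (u * (g⁻¹ * x * g)) * g⁻¹ := by group
      _ = g * ((g⁻¹ * x * g) * u) * g⁻¹ := by rw [h]
      _ = x * (g * u * g⁻¹) := by group
  obtain ⟨c, hc⟩ := MulAction.exists_smul_eq ↥C ((g • P).subtype h2) (P.subtype h1)
  rw [Sylow.smul_subtype] at hc
  have hc' : ((c : G) * g) • P = P := by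
    rw [mul_smul]; exact Sylow.subtype_injective hc
  refine ⟨(c : G) * g, Sylow.smul_eq_iff_mem_normalizer.1 hc', fun u hu => ?_⟩
  have h := Subgroup.mem_centralizer_iff.1 c.2 (g * u * g⁻¹) ⟨u, hu, rfl⟩
  calc (c : G) * g * u * ((c : G) * g)⁻¹ = ((c : G) * (g * u * g⁻¹)) * (c : G)⁻¹ := by group
    _ = g * u * g⁻¹ := by rw [← h]; group

theorem card_semiaffine_le {F : Type*} [Field F] [Fintype F] {p n : ℕ} [Fact p.Prime] [CharP F p]
    (hF : Fintype.card F = p ^ n) :
    Nat.card ↥(Cfsg.semiaffineGroup F) ≤ p ^ n * (p ^ n - 1) * n := by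
  classical
  haveI : Finite (F ≃+* F) := Finite.of_injective (fun σ => (σ : F → F)) DFunLike.coe_injective
  let f : F × Fˣ × (F ≃+* F) → ↥(Cfsg.semiaffineGroup F) := fun t =>
    ⟨(t.2.2.toEquiv.trans (Units.mulLeft t.2.1)).trans (Equiv.addRight t.1),
      t.2.1, t.1, t.2.2, fun x => rfl⟩
  have hf : Function.Surjective f := by
    rintro ⟨s, a, b, φ, hs⟩
    exact ⟨(b, a, φ), Subtype.ext (Equiv.ext fun x => (hs x).symm)⟩
  refine (Nat.card_le_card_of_surjective f hf).trans (le_of_eq ?_)
  rw [Nat.card_prod, Nat.card_prod, Nat.card_eq_fintype_card, hF, Nat.card_eq_fintype_card,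
    Fintype.card_units, hF, ChevAutGalois.card_ringAut p n hF, mul_assoc]

theorem card_affine_le {F : Type*} [Field F] [Fintype F] {q : ℕ} (hF : Fintype.card F = q) :
    Nat.card ↥(Cfsg.affineGroup F) ≤ q * (q - 1) := by
  classical
  let f : F × Fˣ → ↥(Cfsg.affineGroup F) := fun t =>
    ⟨(Units.mulLeft t.2).trans (Equiv.addRight t.1), t.2, t.1, fun x => rfl⟩
  have hf : Function.Surjective f := by
    rintro ⟨s, a, b, hs⟩
    exact ⟨(b, a), Subtype.ext (Equiv.ext fun x => (hs x).symm)⟩
  refine (Nat.card_le_card_of_surjective f hf).trans (le_of_eq ?_)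
  rw [Nat.card_prod, Nat.card_eq_fintype_card, hF, Nat.card_eq_fintype_card,
    Fintype.card_units, hF]

/-- Let p be a prime and G a finite group in which any two p-subgroups of the same order are conjugate, and suppose a Sylow p-subgroup P of G is elementary abelian of order pⁿ with n ≥ 3. Let N be the normalizer of P and K the largest normal subgroup of N of order prime to p, and assume N/K is solvable. Then either n = 3 and N/K embeds in the one-dimensional semi-affine group over the field with p³ elements (and for p = 2 it is isomorphic to the affine or the semi-affine group over the field with 8 elements), or n = 5, p = 2 and N/K is isomorphic to the one-dimensional semi-affine group over the field with 32 elements. -/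
theorem result {G : Type*} [Group G] [Finite G]
    {p : ℕ} [Fact p.Prime] (hC : ∀ H K : Subgroup G, IsPGroup p H → IsPGroup p K → Nat.card H = Nat.card K →
      ∃ g : G, K = H.map (MulAut.conj g).toMonoidHom) (P : Sylow p G) (n : ℕ) (hn : 3 ≤ n)
    (hel : Cfsg.IsElementaryAbelian p (P : Subgroup G)) (hcard : Nat.card P = p ^ n)
    (N : Subgroup G) (hN : N = Subgroup.normalizer ((P : Subgroup G) : Set G))
    (hsolv : Group.IsSolvable (↥N ⧸ Cfsg.pPrimeCore p ↥N)) :
    (n = 3 ∧ (∃ f : ↥N ⧸ Cfsg.pPrimeCore p ↥N →* ↥(Cfsg.semiaffineGroup (GaloisField p 3)), Function.Injective f) ∧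
      (p = 2 → Nonempty (↥N ⧸ Cfsg.pPrimeCore p ↥N ≃* Cfsg.semiaffineGroup (GaloisField 2 3)) ∨
               Nonempty (↥N ⧸ Cfsg.pPrimeCore p ↥N ≃* Cfsg.affineGroup (GaloisField 2 3)))) ∨
    (n = 5 ∧ p = 2 ∧ Nonempty (↥N ⧸ Cfsg.pPrimeCore p ↥N ≃* Cfsg.semiaffineGroup (GaloisField 2 5))) := by
  classical
  have hp := (Fact.out : p.Prime)
  subst hN
  set O := Cfsg.pPrimeCore p ↥(Subgroup.normalizer ((P : Subgroup G) : Set G)) with hO
  let Pn : Subgroup ↥(Subgroup.normalizer ((P : Subgroup G) : Set G)) :=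
    (P : Subgroup G).subgroupOf _
  haveI hPn : Pn.Normal := Subgroup.normal_in_normalizer
  have hPle : (P : Subgroup G) ≤ Subgroup.normalizer ((P : Subgroup G) : Set G) :=
    Subgroup.le_normalizer
  have hPcard : Nat.card Pn = p ^ n := by
    rw [← hcard]; exact Nat.card_congr (Subgroup.subgroupOfEquivOfLe hPle).toEquiv
  have hab : ∀ a ∈ (P : Subgroup G), ∀ b ∈ (P : Subgroup G), a * b = b * a := fun a ha b hb => by
    haveI := hel.1
    exact congrArg Subtype.val (mul_comm' (⟨a, ha⟩ : ↥(P : Subgroup G)) ⟨b, hb⟩)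
  letI : CommGroup ↥Pn :=
    { (inferInstance : Group ↥Pn) with
      mul_comm := fun a b => Subtype.ext (Subtype.ext (hab _ a.2 _ b.2)) }
  have hexp : ∀ w : ↥Pn, w ^ p = 1 := fun w => Subtype.ext (Subtype.ext (by
    simpa using hel.2 _ w.2))
  haveI : Module (ZMod p) (Additive ↥Pn) :=
    AddCommGroup.zmodModule fun x => congrArg Additive.ofMul (hexp (Additive.toMul x))
  let cn : ↥(Subgroup.normalizer ((P : Subgroup G) : Set G)) → (Additive ↥Pn →+ Additive ↥Pn) :=
    fun x =>
      { toFun := fun v => Additive.ofMul (MulAut.conjNormal (H := Pn) x (Additive.toMul v))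
        map_zero' := congrArg Additive.ofMul (map_one (MulAut.conjNormal (H := Pn) x))
        map_add' := fun v w => congrArg Additive.ofMul
          (map_mul (MulAut.conjNormal (H := Pn) x) (Additive.toMul v) (Additive.toMul w)) }
  let L : ↥(Subgroup.normalizer ((P : Subgroup G) : Set G)) →*
      (Additive ↥Pn ≃ₗ[ZMod p] Additive ↥Pn) :=
    { toFun := fun x =>
        LinearEquiv.ofBijective ((cn x).toZModLinearMap p)
          ⟨fun v w h => Additive.toMul.injective
              ((MulAut.conjNormal (H := Pn) x).injective (Additive.ofMul.injective h)),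
            fun w => ⟨Additive.ofMul ((MulAut.conjNormal (H := Pn) x).symm (Additive.toMul w)),
              congrArg Additive.ofMul ((MulAut.conjNormal (H := Pn) x).apply_symm_apply _)⟩⟩
      map_one' := LinearEquiv.ext fun v => by
        show Additive.ofMul (MulAut.conjNormal (H := Pn) 1 (Additive.toMul v)) = v
        rw [map_one]; rfl
      map_mul' := fun a b => LinearEquiv.ext fun v => by
        show Additive.ofMul (MulAut.conjNormal (H := Pn) (a * b) (Additive.toMul v)) =
          Additive.ofMul (MulAut.conjNormal (H := Pn) a (MulAut.conjNormal (H := Pn) b (Additive.toMul v)))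
        rw [map_mul]; rfl }
  have hLval : ∀ x (v : Additive ↥Pn),
      ((Additive.toMul (L x v) : ↥Pn) : ↥(Subgroup.normalizer ((P : Subgroup G) : Set G))) =
        x * (Additive.toMul v : ↥Pn) * x⁻¹ := fun x v => MulAut.conjNormal_apply x _
  -- the core centralises `P`
  have hOcop : (Nat.card O).Coprime p := ComponentsCores.pPrimeCore_coprime p
  haveI hOn : O.Normal := by rw [hO]; infer_instance
  have hOP : O ⊓ Pn = ⊥ := Subgroup.inf_eq_bot_of_coprime (by
    rw [hPcard]; exact hOcop.pow_right n)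
  have hLO : O ≤ L.ker := fun x hx => by
    refine MonoidHom.mem_ker.2 (LinearEquiv.ext fun v => ?_)
    refine Additive.toMul.injective (Subtype.ext ?_)
    rw [hLval]
    have hmem : x * (Additive.toMul v : ↥Pn).1 * x⁻¹ * (Additive.toMul v : ↥Pn).1⁻¹ ∈ O ⊓ Pn :=
      Subgroup.mem_inf.2 ⟨by
        rw [show ∀ y : ↥(Subgroup.normalizer ((P : Subgroup G) : Set G)),
          x * y * x⁻¹ * y⁻¹ = x * (y * x⁻¹ * y⁻¹) from fun y => by group]
        exact O.mul_mem hx (hOn.conj_mem x⁻¹ (O.inv_mem hx) _),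
      Pn.mul_mem (hPn.conj_mem _ (Additive.toMul v).2 x) (Pn.inv_mem (Additive.toMul v).2)⟩
    rw [hOP, Subgroup.mem_bot, mul_inv_eq_one] at hmem
    exact hmem
  -- a complement
  have hPidx : ¬ p ∣ Pn.index := fun h =>
    P.not_dvd_index (h.trans (Subgroup.relIndex_dvd_index_of_le hPle))
  have hcopP : (Nat.card Pn).Coprime Pn.index := by
    rw [hPcard]; exact (hp.coprime_iff_not_dvd.2 hPidx).pow_left n
  obtain ⟨H, hH⟩ := Subgroup.exists_right_complement'_of_coprime hcopP
  have hHcop : (Nat.card H).Coprime p := by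
    rw [← hH.symm.index_eq_card]
    exact (hp.coprime_iff_not_dvd.2 hPidx).symm
  have hdec : ∀ x : ↥(Subgroup.normalizer ((P : Subgroup G) : Set G)),
      ∃ u : ↥Pn, ∃ h : ↥H, (u : ↥(Subgroup.normalizer ((P : Subgroup G) : Set G))) * h = x :=
    fun x => by
      obtain ⟨⟨u, h⟩, huh, -⟩ := hH.existsUnique x
      exact ⟨u, h, huh⟩
  have hLP : ∀ u : ↥Pn, L u = 1 := fun u => LinearEquiv.ext fun v => by
    refine Additive.toMul.injective (Subtype.ext (Subtype.ext ?_))
    rw [hLval]
    show (u : ↥(Subgroup.normalizer ((P : Subgroup G) : Set G))).1 *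
      (Additive.toMul v : ↥Pn).1.1 * (u : ↥(Subgroup.normalizer ((P : Subgroup G) : Set G))).1⁻¹ = _
    rw [hab (u : ↥(Subgroup.normalizer ((P : Subgroup G) : Set G))).1 u.2 (Additive.toMul v : ↥Pn).1.1 (Additive.toMul v).2, mul_inv_cancel_right]
    rfl
  let A : Subgroup (Additive ↥Pn ≃ₗ[ZMod p] Additive ↥Pn) := (L.comp H.subtype).range
  haveI : Group.IsSolvable ↥A := by
    have hle : A ≤ (QuotientGroup.lift O L hLO).range := by
      rintro _ ⟨h, rfl⟩
      exact ⟨QuotientGroup.mk h.1, rfl⟩
    haveI : Group.IsSolvable ↥(QuotientGroup.lift O L hLO).range :=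
      Group.isSolvable_of_surjective (MonoidHom.rangeRestrict_surjective _)
    exact Group.isSolvable_of_isSolvable_injective (Subgroup.inclusion_injective hle)
  haveI : Finite (Additive ↥Pn) := Finite.of_equiv _ Additive.ofMul
  have hV : Nat.card (Additive ↥Pn) = p ^ n := by
    rw [← hPcard]; exact Nat.card_congr Additive.toMul
  -- transitivity
  let ι : ↥Pn →* G := (Subgroup.normalizer ((P : Subgroup G) : Set G)).subtype.comp Pn.subtype
  have hι : Function.Injective ι := fun a b h => Subtype.ext (Subtype.ext h)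
  have htr : ∀ U U' : Submodule (ZMod p) (Additive ↥Pn), Nat.card U = Nat.card U' →
      ∃ a ∈ A, U.map (a : Additive ↥Pn ≃ₗ[ZMod p] Additive ↥Pn).toLinearMap = U' := by
    intro U U' hUU'
    let S : Submodule (ZMod p) (Additive ↥Pn) → Subgroup G :=
      fun W => (AddSubgroup.toSubgroup' W.toAddSubgroup).map ι
    have hSle : ∀ W, S W ≤ (P : Subgroup G) := by
      rintro W _ ⟨w, -, rfl⟩
      exact w.2
    have hScard : ∀ W, Nat.card (S W) = Nat.card W := fun W =>
      (Subgroup.card_map_of_injective hι).trans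
        (Nat.card_congr (Equiv.subtypeEquiv Additive.ofMul fun _ => Iff.rfl))
    have hSp : ∀ W, IsPGroup p (S W) := fun W => P.2.to_le (hSle W)
    obtain ⟨g, hg⟩ := hC (S U) (S U') (hSp U) (hSp U') ((hScard U).trans (hUU'.trans (hScard U').symm))
    obtain ⟨m, hm, hmu⟩ := burnside P hab (S U) (hSle U) g (hg ▸ hSle U')
    obtain ⟨u, h, huh⟩ := hdec ⟨m, hm⟩
    refine ⟨L h, ⟨h, rfl⟩, ?_⟩
    have hLm : L h = L ⟨m, hm⟩ := by rw [← huh, map_mul, hLP, one_mul]
    rw [hLm]
    refine SetLike.coe_injective (Set.eq_of_subset_of_ncard_le ?_ ?_)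
    · rintro _ ⟨v, hv, rfl⟩
      have hmem : g * ι (Additive.toMul v) * g⁻¹ ∈ S U' := by
        rw [hg]; exact ⟨_, ⟨_, hv, rfl⟩, rfl⟩
      rw [← hmu (ι (Additive.toMul v)) ⟨_, hv, rfl⟩] at hmem
      obtain ⟨w, hw, hwe⟩ := hmem
      have heq : Additive.ofMul w = L ⟨m, hm⟩ v := by
        refine Additive.toMul.injective (Subtype.ext (Subtype.ext ?_))
        rw [hLval]
        exact hwe
      exact heq ▸ hw
    · rw [← Nat.card_coe_set_eq, ← Nat.card_coe_set_eq]
      exact (hUU'.symm.trans
        (Nat.card_congr ((L ⟨m, hm⟩).submoduleMap U).toEquiv)).le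
  obtain ⟨e, he, hcases, h23, h5⟩ := core n hn hV A htr
  -- the homomorphism to permutations of the field
  let f1 : ↥Pn →* Equiv.Perm (GaloisField p n) :=
    { toFun := fun u => Equiv.addLeft (e (Additive.ofMul u))
      map_one' := Equiv.ext fun x => by simp
      map_mul' := fun u w => Equiv.ext fun x => by simp [add_assoc] }
  let f2 : ↥H →* Equiv.Perm (GaloisField p n) :=
    { toFun := fun h => e.toEquiv.permCongr (L h).toEquiv
      map_one' := Equiv.ext fun x => by simp
      map_mul' := fun a b => Equiv.ext fun x => by simp }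
  let Φ : ↥(Subgroup.normalizer ((P : Subgroup G) : Set G)) →* Equiv.Perm (GaloisField p n) :=
    MonoidHom.comp (SemidirectProduct.lift f1 f2 (fun h => by
    refine MonoidHom.ext fun u => Equiv.ext fun x => ?_
    show e (Additive.ofMul _) + x =
      e (L h (e.symm (e (Additive.ofMul u) + (f2 h).symm x)))
    have hx : (f2 h).symm x = e ((L h).symm (e.symm x)) := rfl
    rw [hx, map_add, AddEquiv.symm_apply_apply, AddEquiv.symm_apply_apply, map_add,
      LinearEquiv.apply_symm_apply, map_add, AddEquiv.apply_symm_apply]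
    congr 2)) (SemidirectProduct.mulEquivSubgroup hH).symm.toMonoidHom
  have hΦ : ∀ (u : ↥Pn) (h : ↥H) (x : GaloisField p n),
      Φ ((u : ↥(Subgroup.normalizer ((P : Subgroup G) : Set G))) * h) x =
        e (Additive.ofMul u) + e (L h (e.symm x)) := by
    intro u h x
    have he' : (u : ↥(Subgroup.normalizer ((P : Subgroup G) : Set G))) * h =
        SemidirectProduct.mulEquivSubgroup hH ⟨u, h⟩ := rfl
    simp only [Φ, MonoidHom.comp_apply, MulEquiv.coe_toMonoidHom, he', MulEquiv.symm_apply_apply]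
    rfl
  -- the kernel
  have hOH : O ≤ H := by
    have hcard_sup : Nat.card ↥(H ⊔ O) ∣ Nat.card H := by
      have h1 : (Nat.card ↥(H ⊔ O)).Coprime (Nat.card Pn) := by
        rw [hPcard]
        exact Nat.Coprime.pow_right n (Nat.Coprime.coprime_dvd_left (HallCore.card_sup_dvd H O)
          (Nat.Coprime.mul_left hHcop hOcop))
      have h2 : Nat.card ↥(H ⊔ O) ∣ Nat.card Pn * Nat.card H :=
        hH.card_mul ▸ Subgroup.card_subgroup_dvd_card _
      exact h1.dvd_of_dvd_mul_left h2
    exact le_sup_right.trans (Subgroup.eq_of_le_of_card_ge le_sup_left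
      (Nat.le_of_dvd Nat.card_pos hcard_sup)).ge
  have hker : Φ.ker = O := by
    refine le_antisymm ?_ fun x hx => ?_
    · have hle : Φ.ker ≤ H := by
        intro x hx
        obtain ⟨u, h, rfl⟩ := hdec x
        have h0 : Φ ((u : ↥(Subgroup.normalizer ((P : Subgroup G) : Set G))) * h) 0 = 0 := by
          rw [MonoidHom.mem_ker.1 hx]; rfl
        rw [hΦ, map_zero e.symm, map_zero, map_zero, add_zero] at h0
        have : u = 1 := Additive.ofMul.injective ((AddEquiv.map_eq_zero_iff e).1 h0)
        rw [this, Subgroup.coe_one, one_mul]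
        exact h.2
      exact ComponentsCores.le_pPrimeCore' (Nat.Coprime.coprime_dvd_left
        (Subgroup.card_dvd_of_le hle) hHcop)
    · refine MonoidHom.mem_ker.2 (Equiv.ext fun y => ?_)
      have h := hΦ 1 ⟨x, hOH hx⟩ y
      rw [Subgroup.coe_one, one_mul] at h
      rw [h, ofMul_one, map_zero, zero_add, MonoidHom.mem_ker.1 (hLO hx)]
      exact e.apply_symm_apply y
  have hmem : ∀ x, Φ x ∈ Cfsg.semiaffineGroup (GaloisField p n) := by
    intro x
    obtain ⟨u, h, rfl⟩ := hdec x
    obtain ⟨a, σ, hσ⟩ := he ⟨L h, h, rfl⟩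
    refine ⟨Units.mk0 a (coeff_ne_zero e hσ), e (Additive.ofMul u), σ, fun y => ?_⟩
    rw [hΦ, add_comm]
    congr 1
    have := hσ (e.symm y)
    rw [AddEquiv.apply_symm_apply] at this
    exact this
  let Ψ : ↥(Subgroup.normalizer ((P : Subgroup G) : Set G)) ⧸ O →*
      ↥(Cfsg.semiaffineGroup (GaloisField p n)) :=
    QuotientGroup.lift O (Φ.codRestrict _ hmem) fun x hx =>
      Subtype.ext (MonoidHom.mem_ker.1 (hker.ge hx))
  have hΨ : Function.Injective Ψ := by
    rw [injective_iff_map_eq_one]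
    intro q hq
    induction q using QuotientGroup.induction_on with
    | _ x =>
      exact (QuotientGroup.eq_one_iff x).2 (hker.le (MonoidHom.mem_ker.2 (congrArg Subtype.val hq)))
  have hkerA : (L.comp H.subtype).ker = O.subgroupOf H := by
    ext h
    refine ⟨fun hh => Subgroup.mem_subgroupOf.2 (hker.le (MonoidHom.mem_ker.2 (Equiv.ext fun y => ?_))),
      fun hh => hLO (Subgroup.mem_subgroupOf.1 hh)⟩
    have h1 := hΦ 1 h y
    rw [Subgroup.coe_one, one_mul] at h1
    rw [h1, ofMul_one, map_zero, zero_add, show L h = 1 from hh]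
    exact e.apply_symm_apply y
  have hcardQ : Nat.card (↥(Subgroup.normalizer ((P : Subgroup G) : Set G)) ⧸ O) =
      p ^ n * Nat.card A := by
    have h1 := Subgroup.card_eq_card_quotient_mul_card_subgroup O
    have h2 := Subgroup.card_eq_card_quotient_mul_card_subgroup ((L.comp H.subtype).ker)
    rw [Nat.card_congr (QuotientGroup.quotientKerEquivRange (L.comp H.subtype)).toEquiv, hkerA,
      Nat.card_congr (Subgroup.subgroupOfEquivOfLe hOH).toEquiv] at h2
    rw [← hH.card_mul, hPcard, h2, ← mul_assoc] at h1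
    exact (Nat.eq_of_mul_eq_mul_right Nat.card_pos h1).symm
  haveI : Fintype (GaloisField p n) := Fintype.ofFinite _
  have hGF : Fintype.card (GaloisField p n) = p ^ n := by
    rw [← Nat.card_eq_fintype_card, GaloisField.card p n (by omega)]
  have hsemi := card_semiaffine_le (F := GaloisField p n) hGF
  rcases hcases with rfl | ⟨rfl, rfl⟩
  · refine Or.inl ⟨rfl, ⟨Ψ, hΨ⟩, ?_⟩
    rintro rfl
    rcases h23 rfl rfl with hA | hA
    · refine Or.inr ?_
      have hmem' : ∀ q, (Ψ q : Equiv.Perm (GaloisField 2 3)) ∈ Cfsg.affineGroup (GaloisField 2 3) := by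
        intro q
        induction q using QuotientGroup.induction_on with
        | _ x =>
          obtain ⟨u, h, rfl⟩ := hdec x
          have hord : (orderOf (⟨L h, h, rfl⟩ : ↥A)).Coprime 3 :=
            Nat.Coprime.coprime_dvd_left (orderOf_dvd_natCard _) (hA.symm ▸ (by norm_num))
          have hauto := auto_eq_one e he hGF hord
          have hspec := auto_spec e he (⟨L h, h, rfl⟩ : ↥A)
          refine ⟨Units.mk0 _ (coeff_ne_zero e hspec), e (Additive.ofMul u), fun y => ?_⟩
          show Φ ((u : ↥(Subgroup.normalizer ((P : Subgroup G) : Set G))) * h) y = _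
          rw [hΦ, add_comm]
          congr 1
          have := hspec (e.symm y)
          rw [hauto, AddEquiv.apply_symm_apply] at this
          exact this
      let Ψ' : ↥(Subgroup.normalizer ((P : Subgroup G) : Set G)) ⧸ O →*
          ↥(Cfsg.affineGroup (GaloisField 2 3)) :=
        ((Cfsg.semiaffineGroup (GaloisField 2 3)).subtype.comp Ψ).codRestrict _ hmem'
      have hΨ' : Function.Injective Ψ' := fun a b hab =>
        hΨ (Subtype.ext (show (Ψ a : Equiv.Perm (GaloisField 2 3)) = (Ψ b : Equiv.Perm (GaloisField 2 3)) from by have h := congrArg Subtype.val hab; exact h))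
      refine ⟨MulEquiv.ofBijective Ψ' ((Nat.bijective_iff_injective_and_card _).2 ⟨hΨ',
        le_antisymm (Nat.card_le_card_of_injective _ hΨ') ?_⟩)⟩
      exact (card_affine_le hGF).trans (le_of_eq (by rw [hcardQ, hA]; norm_num))
    · refine Or.inl ⟨MulEquiv.ofBijective Ψ ((Nat.bijective_iff_injective_and_card _).2 ⟨hΨ,
        le_antisymm (Nat.card_le_card_of_injective _ hΨ) ?_⟩)⟩
      exact hsemi.trans (le_of_eq (by rw [hcardQ, hA]; norm_num))
  · refine Or.inr ⟨rfl, rfl, ⟨MulEquiv.ofBijective Ψ ((Nat.bijective_iff_injective_and_card _).2 ⟨hΨ,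
      le_antisymm (Nat.card_le_card_of_injective _ hΨ) ?_⟩)⟩⟩
    exact hsemi.trans (le_of_eq (by rw [hcardQ, h5 rfl]; norm_num))

end Cfsg.Agent.S4025
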