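import Cfsg.Statements.S4023
import Mathlib
import Cfsg.Agent.Lib.PGroupsBasic
import Cfsg.Agent.Lib.PGroupsCyclic

set_option autoImplicit false
set_option linter.all false
open Cfsg

namespace Cfsg.Agent.S4023

open Cfsg.Agent
open Subgroup
open scoped commutatorElement

universe u

/-- Subgroups of equal order are isomorphic. -/
def EqOrdIso (P : Type u) [Group P] : Prop :=
  ∀ H K : Subgroup P, Nat.card H = Nat.card K → Nonempty (H ≃* K)

theorem quaternion_excluded {n : ℕ} (hn : 2 ≤ n)
    (h : ∀ H K : Subgroup (QuaternionGroup (2 ^ n)), Nat.card H = Nat.card K → Nonempty (H ≃* K)) : False := by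
  haveI : NeZero (2 ^ n) := ⟨pow_ne_zero n two_ne_zero⟩
  haveI : Fact (Nat.Prime 2) := ⟨Nat.prime_two⟩
  have hcard : Nat.card (QuaternionGroup (2 ^ n)) = 2 ^ (n + 2) := by
    rw [Nat.card_eq_fintype_card, QuaternionGroup.card]; ring
  have hp : IsPGroup 2 (QuaternionGroup (2 ^ n)) := IsPGroup.of_card hcard
  have hne : zpowers (QuaternionGroup.xa 0 : QuaternionGroup (2 ^ n)) ≠ ⊤ := by
    intro ht
    have := congrArg (fun S : Subgroup (QuaternionGroup (2 ^ n)) => Nat.card S) ht
    simp only [Nat.card_zpowers, QuaternionGroup.orderOf_xa, card_top, hcard] at this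
    have h4 : 2 ^ 4 ≤ 2 ^ (n + 2) := Nat.pow_le_pow_right two_pos (by omega)
    omega
  obtain ⟨K, hK, hxK⟩ := PGroupsBasic.exists_isCoatom_ge hne
  have hKc : Nat.card K * 2 = 2 ^ (n + 2) := by
    have := K.card_mul_index
    rw [PGroupsBasic.index_of_isCoatom hp hK, hcard] at this
    exact this
  have hA : Nat.card (zpowers (QuaternionGroup.a 1 : QuaternionGroup (2 ^ n))) = 2 * 2 ^ n := by
    rw [Nat.card_zpowers, QuaternionGroup.orderOf_a_one]
  obtain ⟨e⟩ := h (zpowers (QuaternionGroup.a 1)) K (by rw [hA]; rw [pow_add] at hKc; omega)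
  obtain ⟨g, hg⟩ := (isCyclic_of_surjective e e.surjective : IsCyclic K).exists_generator
  have hgo : orderOf (g : QuaternionGroup (2 ^ n)) = 2 * 2 ^ n := by
    rw [Subgroup.orderOf_coe, orderOf_eq_card_of_forall_mem_zpowers hg, ← hA]
    exact (Nat.card_congr e.toEquiv).symm
  obtain ⟨i, hi⟩ : ∃ i, (g : QuaternionGroup (2 ^ n)) = QuaternionGroup.a i := by
    match hgv : (g : QuaternionGroup (2 ^ n)) with
    | QuaternionGroup.a i => exact ⟨i, rfl⟩
    | QuaternionGroup.xa i =>
      rw [hgv, QuaternionGroup.orderOf_xa] at hgo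
      have h4 : 2 ^ 2 ≤ 2 ^ n := Nat.pow_le_pow_right two_pos hn
      omega
  obtain ⟨m, hm⟩ := mem_zpowers_iff.mp (hg ⟨_, hxK (mem_zpowers _)⟩)
  have hm' := congrArg Subtype.val hm
  have hmem : (g : QuaternionGroup (2 ^ n)) ^ m ∈ zpowers (QuaternionGroup.a 1) := by
    rw [hi]
    refine zpow_mem ?_ m
    refine mem_zpowers_iff.mpr ⟨(i.val : ℤ), ?_⟩
    rw [zpow_natCast, QuaternionGroup.a_one_pow, ZMod.natCast_zmod_val]
  rw [SubgroupClass.coe_zpow] at hm'
  obtain ⟨j, hj⟩ := mem_zpowers_iff.mp hmem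
  rw [hm'] at hj
  obtain ⟨j', hj'⟩ := (isOfFinOrder_of_finite (QuaternionGroup.a 1 : QuaternionGroup (2 ^ n))).mem_powers_iff_mem_zpowers.mpr
    (mem_zpowers_iff.mpr ⟨j, hj⟩ : _ ∈ zpowers (QuaternionGroup.a 1))
  simp only [QuaternionGroup.a_one_pow] at hj'
  simp at hj'

theorem structure_of_eqOrdIso {P : Type u} [Group P] [Finite P] {p : ℕ} [Fact p.Prime] (hP : IsPGroup p P)
    (h : EqOrdIso P) :
    IsCyclic P ∨ ((∀ a b : P, a * b = b * a) ∧ ∀ a : P, a ^ p = 1) ∨
      (p = 2 ∧ Nonempty (P ≃* QuaternionGroup 2)) ∨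
      (p ≠ 2 ∧ (¬ ∀ a b : P, a * b = b * a) ∧ Nat.card P = p ^ 3 ∧ Monoid.exponent P = p) := by
  have hp : p.Prime := Fact.out
  by_cases huniq : ∀ H K : Subgroup P, Nat.card H = p → Nat.card K = p → H = K
  · rcases PGroupsCyclic.isCyclic_or_quaternion hP huniq with h1 | ⟨hp2, n, ⟨e⟩⟩
    · exact Or.inl h1
    · rcases Nat.lt_or_ge n 2 with hn | hn
      · interval_cases n
        · left
          haveI : IsCyclic (QuaternionGroup (2 ^ 0)) := by
            refine isCyclic_of_orderOf_eq_card (QuaternionGroup.xa 0) ?_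
            rw [QuaternionGroup.orderOf_xa, Nat.card_eq_fintype_card, QuaternionGroup.card]
            norm_num
          exact isCyclic_of_surjective e.symm e.symm.surjective
        · exact Or.inr (Or.inr (Or.inl ⟨hp2, ⟨e⟩⟩))
      · exfalso
        refine quaternion_excluded hn fun H K hHK => ?_
        let f := e.symm.toMonoidHom
        have hf : Function.Injective f := e.symm.injective
        obtain ⟨φ⟩ := h (H.map f) (K.map f) (by
          rw [Subgroup.card_map_of_injective hf, Subgroup.card_map_of_injective hf, hHK])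
        exact ⟨(H.equivMapOfInjective f hf).trans (φ.trans (K.equivMapOfInjective f hf).symm)⟩
  push Not at huniq
  obtain ⟨H, K, hH, hK, hne⟩ := huniq
  right
  haveI : Nontrivial P := by
    by_contra hh
    rw [not_nontrivial_iff_subsingleton] at hh
    exact hne (Subsingleton.elim _ _)
  obtain ⟨z, hzc, hzo⟩ := PGroupsBasic.exists_orderOf_eq_of_ne_bot (p := p) (hP.to_subgroup (center P))
    ((Subgroup.nontrivial_iff_ne_bot _).mp hP.center_nontrivial)
  -- an elementary subgroup of order `p ^ 2`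
  obtain ⟨X, hX, hXne⟩ : ∃ X : Subgroup P, Nat.card X = p ∧ X ≠ zpowers z := by
    by_cases h1 : H = zpowers z
    · exact ⟨K, hK, fun h2 => hne (h1.trans h2.symm)⟩
    · exact ⟨H, hH, h1⟩
  haveI : (zpowers z).Normal := PGroupsBasic.normal_of_le_center (zpowers_le.mpr hzc)
  have hzX : zpowers z ⊓ X = ⊥ := by
    have hzc' : Nat.card (zpowers z) = p := by rw [Nat.card_zpowers, hzo]
    rcases PGroupsBasic.le_or_inf_eq_bot hzc' X with h1 | h1
    · exact absurd (Subgroup.eq_of_le_of_card_ge h1 (by rw [hX, hzc'])) hXne.symm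
    · exact h1
  set E := zpowers z ⊔ X with hE
  have hEc : Nat.card E = p ^ 2 := by
    rw [hE, PGroupsBasic.card_sup_of_normal hzX, Nat.card_zpowers, hzo, hX, sq]
  have hEel : Cfsg.IsElementaryAbelian p E :=
    PGroupsBasic.isElementaryAbelian_sup (PGroupsBasic.isElementaryAbelian_of_card_eq_prime (by rw [Nat.card_zpowers, hzo]))
      (PGroupsBasic.isElementaryAbelian_of_card_eq_prime hX)
      (zpowers_le.mpr (mem_centralizer_iff.mpr fun x _ => mem_center_iff.mp hzc x))
  have hexp : ∀ a : P, a ^ p = 1 := by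
    intro a
    by_contra ha
    obtain ⟨k, hk⟩ := (IsPGroup.iff_orderOf.mp hP) a
    have hk2 : 2 ≤ k := by
      by_contra hk2
      apply ha
      rw [← orderOf_dvd_iff_pow_eq_one, hk]
      exact (pow_dvd_pow p (show k ≤ 1 by omega)).trans (dvd_of_eq (pow_one p))
    have hb : orderOf (a ^ p ^ (k - 2)) = p ^ 2 := by
      rw [orderOf_pow_of_dvd (pow_ne_zero _ hp.ne_zero) (hk ▸ pow_dvd_pow p (by omega)), hk,
        Nat.pow_div (by omega) hp.pos]
      congr 1; omega
    obtain ⟨e⟩ := h (zpowers (a ^ p ^ (k - 2))) E (by rw [Nat.card_zpowers, hb, hEc])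
    have hc : IsCyclic E := isCyclic_of_surjective e e.surjective
    have := PGroupsBasic.card_le_prime_of_isCyclic hc hEel.2
    rw [hEc] at this
    have := hp.one_lt
    nlinarith
  by_cases hab : ∀ a b : P, a * b = b * a
  · exact Or.inl ⟨hab, hexp⟩
  right; right
  have hp2 : p ≠ 2 := by
    rintro rfl
    apply hab
    intro a b
    have hi : ∀ q : P, q⁻¹ = q := fun q => inv_eq_of_mul_eq_one_left (by rw [← sq]; exact hexp q)
    calc a * b = (a * b)⁻¹ := (hi _).symm
      _ = b⁻¹ * a⁻¹ := mul_inv_rev a b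
      _ = b * a := by rw [hi, hi]
  refine ⟨hp2, hab, ?_, ?_⟩
  swap
  · exact Nat.dvd_antisymm (Monoid.exponent_dvd_of_forall_pow_eq_one hexp) (hzo ▸ Monoid.order_dvd_exponent z)
  -- a non-abelian subgroup of order `p ^ 3`
  obtain ⟨x, y, hxy, hxyc⟩ : ∃ x y : P, x * y ≠ y * x ∧ ⁅x, y⁆ ∈ center P := by
    haveI : Nontrivial (P ⧸ center P) := QuotientGroup.nontrivial_iff.mpr (fun ht => hab fun a b =>
      mem_center_iff.mp (ht ▸ mem_top b : b ∈ center P) a)
    haveI := (hP.to_quotient (center P)).center_nontrivial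
    obtain ⟨⟨w, hw⟩, hw1⟩ := exists_ne (1 : center (P ⧸ center P))
    obtain ⟨x, rfl⟩ := QuotientGroup.mk_surjective w
    have hx : x ∉ center P := fun hx => hw1 (Subtype.ext ((QuotientGroup.eq_one_iff x).mpr hx))
    rw [mem_center_iff] at hx
    push Not at hx
    obtain ⟨y, hy⟩ := hx
    refine ⟨x, y, hy.symm, ?_⟩
    rw [← QuotientGroup.eq_one_iff, commutatorElement_def]
    simp only [QuotientGroup.mk_mul, QuotientGroup.mk_inv]
    rw [← mem_center_iff.mp hw (y : P ⧸ center P)]
    group
  set c := ⁅x, y⁆ with hc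
  set T := closure ({x, y} : Set P) with hT
  haveI : (zpowers c).Normal := PGroupsBasic.normal_of_le_center (zpowers_le.mpr hxyc)
  have hTc : Nat.card T ≤ p ^ 3 := by
    set f := QuotientGroup.mk' (zpowers c)
    have hcomm : f x * f y = f y * f x := by
      rw [← commutatorElement_eq_one_iff_mul_comm, ← map_commutatorElement, QuotientGroup.mk'_apply,
        QuotientGroup.eq_one_iff]
      exact mem_zpowers c
    haveI hTab : IsMulCommutative (T.map f) := by
      rw [hT, MonoidHom.map_closure]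
      refine Subgroup.isMulCommutative_closure ?_
      rintro _ ⟨u, hu, rfl⟩ _ ⟨v, hv, rfl⟩
      rcases hu with rfl | rfl <;> rcases hv with rfl | rfl <;> first | rfl | exact hcomm | exact hcomm.symm
    have hTle : Nat.card (T.map f) ≤ p ^ 2 := by
      classical
      have hX : ∀ a : T.map f, a ^ p = 1 := by
        rintro ⟨_, ⟨a, -, rfl⟩⟩
        exact Subtype.ext (show f a ^ p = 1 by rw [← map_pow, hexp, map_one])
      have hfx : f x ∈ T.map f := mem_map_of_mem _ (subset_closure (by simp))
      have hfy : f y ∈ T.map f := mem_map_of_mem _ (subset_closure (by simp))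
      let S : Finset (T.map f) := {⟨f x, hfx⟩, ⟨f y, hfy⟩}
      have h1 := PGroupsBasic.card_closure_le_pow (fun a b => mul_comm' a b) hX S
      have h2 : closure (S : Set (T.map f)) = ⊤ := by
        apply Subgroup.map_injective (T.map f).subtype_injective
        rw [MonoidHom.map_closure, ← MonoidHom.range_eq_map, Subgroup.range_subtype]
        show _ = Subgroup.map f (closure ({x, y} : Set P))
        refine (congrArg Subgroup.closure ?_).trans (MonoidHom.map_closure f _).symm
        simp [S, Set.image_insert_eq]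
      rw [h2, Subgroup.card_top] at h1
      exact h1.trans (Nat.pow_le_pow_right hp.pos (Finset.card_le_two))
    calc Nat.card T ≤ Nat.card ((T.map f).comap f) := Subgroup.card_le_of_le (Subgroup.le_comap_map f T)
      _ = Nat.card (T.map f) * Nat.card (zpowers c) := by
          have h1 := Subgroup.relIndex_mul_relIndex ⊥ (zpowers c) ((T.map f).comap f) bot_le
            ((QuotientGroup.ker_mk' (zpowers c)).symm.le.trans (Subgroup.ker_le_comap _ _))
          rw [Subgroup.relIndex_bot_left, Subgroup.relIndex_bot_left] at h1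
          have h2 : (zpowers c).relIndex ((T.map f).comap f) = Nat.card (T.map f) := by
            conv_lhs => arg 1; rw [← QuotientGroup.ker_mk' (zpowers c), ← MonoidHom.comap_bot]
            rw [relIndex_comap, Subgroup.map_comap_eq_self_of_surjective (QuotientGroup.mk'_surjective _), relIndex_bot_left]
          rw [h2] at h1
          rw [← h1, mul_comm]
      _ ≤ p ^ 2 * p := by
          refine Nat.mul_le_mul hTle ?_
          rw [Nat.card_zpowers]
          exact Nat.le_of_dvd hp.pos (orderOf_dvd_of_pow_eq_one (hexp c))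
  have hTna : ¬ IsMulCommutative T := fun hh => hxy (congrArg Subtype.val (hh.is_comm.comm
    (⟨x, subset_closure (by simp)⟩ : T) ⟨y, subset_closure (by simp)⟩))
  obtain ⟨t, ht⟩ := IsPGroup.iff_card.mp (hP.to_subgroup T)
  have ht3 : Nat.card T = p ^ 3 := by
    rw [ht] at hTc ⊢
    have h1 : t ≤ 3 := (Nat.pow_le_pow_iff_right hp.one_lt).mp hTc
    by_contra hne3
    refine hTna (⟨⟨fun a b => ?_⟩⟩)
    exact (PGroupsBasic.isMulCommutative_of_card_le_sq (hP.to_subgroup T) (by
      rw [ht]; exact Nat.pow_le_pow_right hp.pos (by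
        by_contra h4
        exact hne3 (by rw [show t = 3 by omega])))).is_comm.comm a b
  obtain ⟨A, hAn, -, hAc, hAcent⟩ := PGroupsCyclic.exists_selfCentralizing hP ⊤
  haveI := hAn
  rw [top_inf_eq] at hAcent
  obtain ⟨α, hα⟩ := IsPGroup.iff_card.mp (hP.to_subgroup A)
  have hα2 : α ≤ 2 := by
    by_contra hh
    obtain ⟨B, hB⟩ := Sylow.exists_subgroup_card_pow_prime (G := A) p (n := 3) (hα ▸ pow_dvd_pow p (by omega))
    obtain ⟨φ⟩ := h T (B.map A.subtype) (by rw [ht3, Subgroup.card_map_of_injective A.subtype_injective, hB])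
    refine hTna ⟨⟨fun a b => φ.injective ?_⟩⟩
    rw [map_mul, map_mul]
    apply Subtype.ext
    obtain ⟨a', -, ha'⟩ := (φ a).2
    obtain ⟨b', -, hb'⟩ := (φ b).2
    simp only [Subgroup.coe_mul, ← ha', ← hb']
    exact congrArg Subtype.val (hAc.is_comm.comm a' b')
  have hcenle : center P ≤ A := hAcent ▸ Subgroup.center_le_centralizer _
  have hzA : z ∈ A := hcenle hzc
  have hAne : A ≠ zpowers z := by
    intro he
    apply hab
    intro a b
    have hall : ∀ w : P, w ∈ A := fun w => by
      rw [← hAcent, mem_centralizer_iff]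
      intro u hu
      have hu' : u ∈ zpowers z := he ▸ hu
      exact ((mem_center_iff.mp (Subgroup.zpowers_le.mpr hzc hu')) w).symm
    exact congrArg Subtype.val (hAc.is_comm.comm (⟨a, hall a⟩ : A) ⟨b, hall b⟩)
  obtain ⟨a, haA, haz⟩ : ∃ a ∈ A, a ∉ zpowers z := by
    by_contra hh
    push Not at hh
    exact hAne (le_antisymm hh (zpowers_le.mpr hzA))
  have hAgen : zpowers z ⊔ zpowers a = A := by
    refine Subgroup.eq_of_le_of_card_ge (sup_le (zpowers_le.mpr hzA) (zpowers_le.mpr haA)) ?_
    rw [PGroupsBasic.card_sup_zpowers (PGroupsBasic.orderOf_eq_of_pow_eq_one (hexp a) fun h1 => haz (h1 ▸ one_mem _)) haz,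
      Nat.card_zpowers, hzo, hα, ← sq]
    exact Nat.pow_le_pow_right hp.pos hα2
  have hCa : centralizer ({a} : Set P) ≤ A := by
    intro g hg
    rw [← hAcent, mem_centralizer_iff]
    intro u hu
    have hle : A ≤ centralizer ({g} : Set P) := hAgen ▸ sup_le
      (zpowers_le.mpr (mem_centralizer_singleton_iff.mpr (mem_center_iff.mp hzc g).symm))
      (zpowers_le.mpr (mem_centralizer_singleton_iff.mpr (mem_centralizer_singleton_iff.mp hg).symm))
    exact mem_centralizer_singleton_iff.mp (hle hu)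
  have hidx : (centralizer ({a} : Set P)).index ≤ p := by
    have h2 := MulAction.index_stabilizer (ConjAct P) a
    rw [ConjAct.stabilizer_eq_centralizer] at h2
    have h2' : (centralizer ({a} : Set P)).index = (MulAction.orbit (ConjAct P) a).ncard := h2
    obtain ⟨i, hi⟩ := hP.index (centralizer ({a} : Set P))
    have hsub : MulAction.orbit (ConjAct P) a ⊆ (A : Set P) \ {1} := by
      rintro _ ⟨g, rfl⟩
      refine ⟨hAn.conj_mem a haA _, ?_⟩
      simp only [Set.mem_singleton_iff, ConjAct.smul_def, conj_eq_one_iff]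
      exact fun h1 => haz (h1 ▸ one_mem _)
    have h3 := Set.ncard_le_ncard hsub (Set.toFinite _)
    rw [← h2', hi, Set.ncard_sdiff (by simp), Set.ncard_singleton] at h3
    have h4 : (A : Set P).ncard = p ^ α := by rw [← hα, ← Nat.card_coe_set_eq]; rfl
    rw [h4] at h3
    rw [hi]
    refine (Nat.pow_le_pow_right hp.pos (?_ : i ≤ 1)).trans (pow_one p).le
    by_contra hi1
    have h5 : p ^ α ≤ p ^ i := Nat.pow_le_pow_right hp.pos (by omega)
    have : 0 < p ^ i := Nat.pow_pos hp.pos
    omega
  have hle3 : Nat.card P ≤ p ^ 3 := by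
    rw [← (centralizer ({a} : Set P)).card_mul_index, pow_succ]
    refine Nat.mul_le_mul ?_ hidx
    exact (Subgroup.card_le_of_le hCa).trans (hα ▸ Nat.pow_le_pow_right hp.pos hα2)
  exact le_antisymm hle3 (ht3 ▸ Subgroup.card_le_card_group T)

theorem eqOrdIso_of_conj {G : Type u} [Group G] [Finite G] {p : ℕ} (P : Subgroup G) (hP : IsPGroup p P)
    (hC : ∀ H K : Subgroup G, IsPGroup p H → IsPGroup p K → Nat.card H = Nat.card K →
      ∃ g : G, K = H.map (MulAut.conj g).toMonoidHom) : EqOrdIso P := by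
  intro H K hHK
  obtain ⟨g, hg⟩ := hC (H.map P.subtype) (K.map P.subtype) ((hP.to_subgroup H).map _) ((hP.to_subgroup K).map _)
    (by rw [Subgroup.card_map_of_injective P.subtype_injective, Subgroup.card_map_of_injective P.subtype_injective, hHK])
  exact ⟨(H.equivMapOfInjective _ P.subtype_injective).trans
    (((H.map P.subtype).equivMapOfInjective _ (MulAut.conj g).injective).trans
      ((MulEquiv.subgroupCongr hg.symm).trans (K.equivMapOfInjective _ P.subtype_injective).symm))⟩

/-- Let p be a prime and G a finite group in which any two p-subgroups of the same order are conjugate, with Sylow p-subgroup P. Then P is cyclic, or elementary abelian, or p = 2 and P is a quaternion group of order 8, or p is odd and P is non-abelian of order p³ and exponent p. -/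
theorem result {G : Type*} [Group G] [Finite G]
    {p : ℕ} [Fact p.Prime] (hC : ∀ H K : Subgroup G, IsPGroup p H → IsPGroup p K → Nat.card H = Nat.card K →
      ∃ g : G, K = H.map (MulAut.conj g).toMonoidHom) (P : Sylow p G) :
    IsCyclic P ∨ Cfsg.IsElementaryAbelian p (P : Subgroup G) ∨
      (p = 2 ∧ Nonempty ((P : Subgroup G) ≃* QuaternionGroup 2)) ∨
      (p ≠ 2 ∧ ¬ IsMulCommutative P ∧ Nat.card P = p ^ 3 ∧ Monoid.exponent P = p) := by
  rcases structure_of_eqOrdIso P.isPGroup' (eqOrdIso_of_conj _ P.isPGroup' hC) with h | ⟨h1, h2⟩ | h | ⟨h1, h2, h3, h4⟩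
  · exact Or.inl h
  · exact Or.inr (Or.inl ⟨⟨⟨h1⟩⟩, fun a ha => congrArg Subtype.val (h2 ⟨a, ha⟩)⟩)
  · exact Or.inr (Or.inr (Or.inl h))
  · exact Or.inr (Or.inr (Or.inr ⟨h1, fun hh => h2 hh.is_comm.comm, h3, h4⟩))

end Cfsg.Agent.S4023
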