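import Cfsg.Statements.S4020
import Mathlib
import Cfsg.Agent.S4023
import Cfsg.Agent.Lib.PGroupsBasic

set_option autoImplicit false
set_option linter.all false
open Cfsg

namespace Cfsg.Agent.S4020

open Cfsg.Agent
open Subgroup

section Aux

variable {G : Type*} [Group G] [Finite G]

/-- In a cyclic group two elements of the same order generate the same subgroup. -/
theorem mem_zpowers_of_orderOf_eq [IsCyclic G] {a b : G} (h : orderOf b = orderOf a) :
    b ∈ zpowers a := by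
  classical
  haveI := Fintype.ofFinite G
  have hsub : (zpowers a : Set G).toFinset ⊆ Finset.univ.filter (fun x : G => x ^ orderOf a = 1) := by
    intro x hx
    rw [Set.mem_toFinset, SetLike.mem_coe] at hx
    obtain ⟨m, rfl⟩ := mem_zpowers_iff.mp hx
    refine Finset.mem_filter.mpr ⟨Finset.mem_univ _, ?_⟩
    rw [← zpow_natCast, ← zpow_mul, mul_comm, zpow_mul, zpow_natCast, pow_orderOf_eq_one, one_zpow]
  have hle := IsCyclic.card_pow_eq_one_le (α := G) (orderOf_pos a)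
  have hc : (zpowers a : Set G).toFinset.card = orderOf a := by
    rw [Set.toFinset_card, ← Nat.card_eq_fintype_card]
    exact Nat.card_zpowers a
  have heq := Finset.eq_of_subset_of_card_le hsub (by omega)
  have hb : b ∈ Finset.univ.filter (fun x : G => x ^ orderOf a = 1) :=
    Finset.mem_filter.mpr ⟨Finset.mem_univ _, by rw [← h]; exact pow_orderOf_eq_one b⟩
  rw [← heq, Set.mem_toFinset, SetLike.mem_coe] at hb
  exact hb

end Aux

section Main

variable {G : Type*} [Group G] [Finite G] {p : ℕ} [Fact p.Prime]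

/-- `x` and `y` agree modulo `Z`. -/
def R (Z : Subgroup G) (x y : G) : Prop := x * y⁻¹ ∈ Z

theorem R.symm {Z : Subgroup G} {x y : G} (h : R Z x y) : R Z y x := by
  have h' := inv_mem h
  rwa [mul_inv_rev, inv_inv] at h'

theorem R.trans {Z : Subgroup G} {x y z : G} (h : R Z x y) (h' : R Z y z) : R Z x z := by
  have h2 := mul_mem h h'
  rwa [show x * y⁻¹ * (y * z⁻¹) = x * z⁻¹ by group] at h2

/-- `n` centralises `P` modulo `Z`. -/
def Ker (P Z : Subgroup G) (n : G) : Prop := ∀ x ∈ P, R Z (n * x * n⁻¹) x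

set_option maxHeartbeats 1600000 in
theorem false_of_extraspecial (hp2 : p ≠ 2) (P : Sylow p G) (hna : ¬ IsMulCommutative P)
    (hc : Nat.card P = p ^ 3) (hexp : Monoid.exponent P = p)
    (hC : ∀ H K : Subgroup G, IsPGroup p H → IsPGroup p K → Nat.card H = Nat.card K →
      ∃ g : G, K = H.map (MulAut.conj g).toMonoidHom)
    (S : Sylow 2 G)
    (hS : IsCyclic S ∨ (∀ a b : S, a * b = b * a) ∧ (∀ a : S, a ^ 2 = 1) ∨
      Nonempty ((S : Subgroup G) ≃* QuaternionGroup 2)) : False := by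
  classical
  have hp : p.Prime := Fact.out
  haveI : Fact (Nat.Prime 2) := ⟨Nat.prime_two⟩
  have hodd : Odd p := hp.odd_of_ne_two hp2
  obtain ⟨m, hm⟩ := hodd
  -- the centre
  set C := Subgroup.center ↥(P : Subgroup G) with hCdef
  have hPp : IsPGroup p ↥(P : Subgroup G) := P.isPGroup'
  have hidx2 : C.index = p ^ 2 ∧ Nat.card C = p := by
    obtain ⟨i, hi, hi'⟩ := (Nat.dvd_prime_pow hp).mp (hc ▸ Subgroup.card_subgroup_dvd_card C)
    have hmul := C.card_mul_index
    rw [hi', hc] at hmul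
    have hne : C ≠ ⊤ := fun h => hna ⟨⟨fun a b => mem_center_iff.mp (show b ∈ C by rw [h]; exact mem_top b) a⟩⟩
    interval_cases i
    · exfalso
      have : Nontrivial ↥(P : Subgroup G) := Finite.one_lt_card_iff_nontrivial.mp
        (hc ▸ Nat.one_lt_pow (by norm_num) hp.one_lt)
      have h1 := hPp.center_nontrivial
      have := Finite.one_lt_card_iff_nontrivial.mpr h1
      rw [← hCdef, hi', pow_zero] at this
      omega
    · refine ⟨?_, by rw [hi', pow_one]⟩
      rw [pow_one, pow_succ' p 2] at hmul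
      exact Nat.eq_of_mul_eq_mul_left hp.pos hmul
    · exfalso
      have hi1 : C.index = p := by
        rw [pow_succ p 2] at hmul
        exact Nat.eq_of_mul_eq_mul_left (pow_pos hp.pos 2) hmul
      haveI : IsCyclic (↥(P : Subgroup G) ⧸ C) :=
        isCyclic_of_prime_card (p := p) (by rw [← Subgroup.index_eq_card, hi1])
      refine hna ⟨⟨fun a b => ?_⟩⟩
      exact commutative_of_cyclic_center_quotient (QuotientGroup.mk' C)
        (by rw [QuotientGroup.ker_mk']) a b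
    · exact absurd (Subgroup.card_eq_iff_eq_top C |>.mp (by rw [hi', hc])) hne
  have hcC : ∀ x y : ↥(P : Subgroup G), x * y * x⁻¹ * y⁻¹ ∈ C := by
    intro x y
    have hle := PGroupsBasic.commutator_le_of_index_le_sq hPp (N := C) (le_of_eq hidx2.1)
    have := Subgroup.commutator_mem_commutator (mem_top x) (mem_top y)
    rw [commutatorElement_def] at this
    exact hle this
  set Z := C.map (P : Subgroup G).subtype with hZdef
  have hZP : Z ≤ P := Subgroup.map_subtype_le _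
  have hZcard : Nat.card Z = p := by
    rw [hZdef, Subgroup.card_map_of_injective (Subgroup.subtype_injective _), hidx2.2]
  have hZiff : ∀ x : G, x ∈ Z ↔ x ∈ (P : Subgroup G) ∧ ∀ y ∈ (P : Subgroup G), y * x = x * y := by
    intro x
    constructor
    · rintro ⟨⟨u, hu⟩, huC, rfl⟩
      exact ⟨hu, fun y hy => congrArg Subtype.val (mem_center_iff.mp huC ⟨y, hy⟩)⟩
    · rintro ⟨hx, h⟩
      exact ⟨⟨x, hx⟩, mem_center_iff.mpr fun y => Subtype.ext (h y y.2), rfl⟩
  have hcomm : ∀ x ∈ (P : Subgroup G), ∀ y ∈ (P : Subgroup G), x * y * x⁻¹ * y⁻¹ ∈ Z := by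
    intro x hx y hy
    exact ⟨_, hcC ⟨x, hx⟩ ⟨y, hy⟩, rfl⟩
  have hpow : ∀ x ∈ (P : Subgroup G), x ^ p = 1 := by
    intro x hx
    have := Monoid.pow_exponent_eq_one (⟨x, hx⟩ : ↥(P : Subgroup G))
    rw [hexp] at this
    simpa using congrArg Subtype.val this
  obtain ⟨x0, hx0, y0, hy0, hxy0⟩ : ∃ x ∈ (P : Subgroup G), ∃ y ∈ (P : Subgroup G), x * y ≠ y * x := by
    by_contra h
    push_neg at h
    exact hna ⟨⟨fun a b => Subtype.ext (h a a.2 b b.2)⟩⟩
  set N := Subgroup.normalizer ((P : Subgroup G) : Set G) with hN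
  have hNP : ∀ n ∈ N, ∀ x ∈ (P : Subgroup G), n * x * n⁻¹ ∈ (P : Subgroup G) :=
    fun n hn x hx => (mem_normalizer_iff.mp hn x).mp hx
  have hNZ : ∀ n ∈ N, ∀ x ∈ Z, n * x * n⁻¹ ∈ Z := by
    intro n hn x hx
    obtain ⟨hxP, hxc⟩ := (hZiff x).mp hx
    refine (hZiff _).mpr ⟨hNP n hn x hxP, fun y hy => ?_⟩
    have hy' : n⁻¹ * y * n ∈ (P : Subgroup G) := by
      have := hNP n⁻¹ (inv_mem hn) y hy
      rwa [inv_inv] at this
    calc y * (n * x * n⁻¹) = n * ((n⁻¹ * y * n) * x) * n⁻¹ := by group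
      _ = n * (x * (n⁻¹ * y * n)) * n⁻¹ := by rw [hxc _ hy']
      _ = _ := by group
  have hconjR : ∀ n ∈ N, ∀ x y : G, R Z x y → R Z (n * x * n⁻¹) (n * y * n⁻¹) := by
    intro n hn x y h
    have := hNZ n hn _ h
    unfold R
    rwa [show n * x * n⁻¹ * (n * y * n⁻¹)⁻¹ = n * (x * y⁻¹) * n⁻¹ by group]
  have hmulR : ∀ x y z : G, R Z x y → R Z (x * z) (y * z) := by
    intro x y z h
    unfold R
    rwa [show x * z * (y * z)⁻¹ = x * y⁻¹ by group]
  have hmulR' : ∀ x y z : G, z ∈ (P : Subgroup G) → R Z x y → R Z (z * x) (z * y) := by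
    intro x y z hz h
    unfold R
    rwa [show z * x * (z * y)⁻¹ = z * (x * y⁻¹) * z⁻¹ by group, ((hZiff _).mp h).2 z hz,
      mul_inv_cancel_right]
  -- subgroups of order p²
  have hmid : ∀ H : Subgroup G, Z < H → H < (P : Subgroup G) → Nat.card H = p ^ 2 := by
    intro H h1 h2
    obtain ⟨i, hi, hi'⟩ := (Nat.dvd_prime_pow hp).mp (hc ▸ Subgroup.card_dvd_of_le h2.le)
    have l1 : Nat.card Z < Nat.card H := by
      rcases lt_or_ge (Nat.card Z) (Nat.card H) with h | h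
      · exact h
      · exact absurd (Subgroup.eq_of_le_of_card_ge h1.le h) h1.ne
    have l2 : Nat.card H < p ^ 3 := by
      rcases lt_or_ge (Nat.card H) (p ^ 3) with h | h
      · exact h
      · exact absurd (Subgroup.eq_of_le_of_card_ge h2.le (hc ▸ h)) h2.ne
    rw [hi'] at l1 l2 ⊢
    rw [hZcard] at l1
    interval_cases i
    · simp at l1; omega
    · simp at l1
    · rfl
    · omega
  let Om := {E : Subgroup G // E ≤ (P : Subgroup G) ∧ Nat.card E = p ^ 2}
  have hZE : ∀ E : Om, Z ≤ E.1 := by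
    intro E
    set E' := E.1.subgroupOf (P : Subgroup G) with hE'
    have hcE : Nat.card E' = p ^ 2 := by
      rw [hE', Nat.card_congr (Subgroup.subgroupOfEquivOfLe E.2.1).toEquiv, E.2.2]
    have hiE : E'.index = p := by
      have := E'.card_mul_index
      rw [hcE, hc, pow_succ p 2] at this
      exact Nat.eq_of_mul_eq_mul_left (pow_pos hp.pos 2) this
    haveI := PGroupsBasic.normal_of_index_eq hPp hiE
    have hne : E' ≠ ⊥ := fun h => by
      rw [h, Subgroup.card_bot] at hcE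
      have := Nat.one_lt_pow (n := 2) (by norm_num) hp.one_lt
      omega
    have h1 := PGroupsBasic.inf_center_ne_bot hPp hne
    have h2 : C ≤ E' := by
      rcases PGroupsBasic.le_or_inf_eq_bot hidx2.2 (K := E') with h | h
      · exact h
      · exact absurd (by rwa [inf_comm] at h) h1
    rintro _ ⟨u, hu, rfl⟩
    exact Subgroup.mem_subgroupOf.mp (h2 hu)
  have hZlt : ∀ E : Om, Z < E.1 := by
    intro E
    refine lt_of_le_of_ne (hZE E) fun h => ?_
    have := E.2.2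
    rw [← h, hZcard] at this
    have := hp.one_lt
    nlinarith
  have hPnE : ∀ E : Om, (P : Subgroup G) ≤ Subgroup.normalizer (E.1 : Set G) := by
    intro E
    have key : ∀ u ∈ (P : Subgroup G), ∀ e ∈ E.1, u * e * u⁻¹ ∈ E.1 := by
      intro u hu e he
      have h := mul_mem (hZE E (hcomm u hu e (E.2.1 he))) he
      rwa [inv_mul_cancel_right] at h
    intro u hu
    rw [mem_normalizer_iff]
    intro e
    refine ⟨key u hu e, fun h => ?_⟩
    have := key u⁻¹ (inv_mem hu) _ h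
    rwa [show u⁻¹ * (u * e * u⁻¹) * u⁻¹⁻¹ = e by group] at this
  -- conjugation action
  have hmapOm : ∀ (n : ↥N) (E : Om), E.1.map (MulAut.conj (n : G)).toMonoidHom ≤ (P : Subgroup G) ∧
      Nat.card (E.1.map (MulAut.conj (n : G)).toMonoidHom : Subgroup G) = p ^ 2 := by
    intro n E
    refine ⟨?_, ?_⟩
    · rintro _ ⟨e, he, rfl⟩
      exact hNP n n.2 e (E.2.1 he)
    · rw [Subgroup.card_map_of_injective (MulEquiv.injective _), E.2.2]
  letI act : MulAction ↥N Om :=
    { smul := fun n E => ⟨E.1.map (MulAut.conj (n : G)).toMonoidHom, hmapOm n E⟩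
      one_smul := fun E => Subtype.ext (by
        show E.1.map (MulAut.conj ((1 : ↥N) : G)).toMonoidHom = E.1
        ext x; simp)
      mul_smul := fun a b E => Subtype.ext (by
        show E.1.map (MulAut.conj ((a * b : ↥N) : G)).toMonoidHom =
          (E.1.map (MulAut.conj (b : G)).toMonoidHom).map (MulAut.conj (a : G)).toMonoidHom
        rw [Subgroup.map_map]
        congr 1
        ext x
        simp [mul_assoc]) }
  haveI htr : MulAction.IsPretransitive ↥N Om := ⟨fun E E' => by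
    obtain ⟨g, hg⟩ := hC E.1 E'.1 (P.isPGroup'.to_le E.2.1) (P.isPGroup'.to_le E'.2.1)
      (E.2.2.trans E'.2.2.symm)
    set H := Subgroup.normalizer (E'.1 : Set G) with hH
    have hle2 : ((g • P : Sylow p G) : Subgroup G) ≤ H := by
      rw [Sylow.coe_subgroup_smul]
      intro u hu
      rw [Subgroup.mem_pointwise_smul_iff_inv_smul_mem] at hu
      have hu' : g⁻¹ * u * g ∈ (P : Subgroup G) := by
        simpa [MulAut.smul_def] using hu
      have hn := mem_normalizer_iff.mp (hPnE E hu')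
      rw [hH, mem_normalizer_iff]
      intro e
      rw [hg]
      constructor
      · rintro ⟨f, hf, rfl⟩
        exact ⟨_, (hn f).mp hf, by simp [mul_assoc]⟩
      · rintro ⟨f, hf, hfe⟩
        refine ⟨g⁻¹ * e * g, (hn _).mpr ?_, by simp [mul_assoc]⟩
        have hfe' : g * f * g⁻¹ = u * e * u⁻¹ := hfe
        have : g⁻¹ * u * g * (g⁻¹ * e * g) * (g⁻¹ * u * g)⁻¹ = f := by
          calc _ = g⁻¹ * (u * e * u⁻¹) * g := by group
            _ = g⁻¹ * (g * f * g⁻¹) * g := by rw [hfe']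
            _ = f := by group
        rw [this]; exact hf
    have hle1 : ((P : Subgroup G)) ≤ H := hPnE E'
    obtain ⟨h, hh⟩ := MulAction.exists_smul_eq ↥H ((g • P).subtype hle2) (P.subtype hle1)
    rw [Sylow.smul_subtype] at hh
    have hh' := Sylow.subtype_injective hh
    have hnN : (h : G) * g ∈ N := by
      rw [hN]
      refine Sylow.smul_eq_iff_mem_normalizer.mp ?_
      rw [mul_smul]
      exact hh'
    refine ⟨⟨(h : G) * g, hnN⟩, Subtype.ext ?_⟩
    show E.1.map (MulAut.conj ((h : G) * g)).toMonoidHom = E'.1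
    have hhE : E'.1.map (MulAut.conj (h : G)).toMonoidHom = E'.1 := by
      ext e
      constructor
      · rintro ⟨f, hf, rfl⟩
        exact (mem_normalizer_iff.mp h.2 f).mp hf
      · intro he
        refine ⟨(h : G)⁻¹ * e * h, (mem_normalizer_iff.mp h.2 _).mpr ?_, by simp [mul_assoc]⟩
        rwa [show (h : G) * ((h : G)⁻¹ * e * h) * (h : G)⁻¹ = e by group]
    conv_rhs => rw [← hhE, hg, Subgroup.map_map]
    congr 1
    ext x
    simp [mul_assoc]⟩
  -- existence and number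
  have hcen : ∀ x ∈ (P : Subgroup G), x ∉ Z → ∃ E : Om, x ∈ E.1 := by
    intro x hx hxZ
    let H : Subgroup G := (P : Subgroup G) ⊓ Subgroup.centralizer {x}
    have hxH : x ∈ H := ⟨hx, mem_centralizer_singleton_iff.mpr rfl⟩
    have h1 : Z < H := by
      refine lt_of_le_of_ne (fun z hz => ⟨hZP hz, mem_centralizer_singleton_iff.mpr ?_⟩) fun h => hxZ (h ▸ hxH)
      exact (((hZiff z).mp hz).2 x hx).symm
    have h2 : H < (P : Subgroup G) := by
      refine lt_of_le_of_ne inf_le_left fun h => hxZ ((hZiff x).mpr ⟨hx, fun y hy => ?_⟩)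
      have hy' : y ∈ H := by rw [h]; exact hy
      exact mem_centralizer_singleton_iff.mp hy'.2
    exact ⟨⟨H, inf_le_left, hmid H h1 h2⟩, hxH⟩
  have huniq : ∀ (x : G) (E E' : Om), x ∉ Z → x ∈ E.1 → x ∈ E'.1 → E = E' := by
    intro x E E' hxZ h1 h2
    by_contra hne
    have hlt : E.1 ⊓ E'.1 < E.1 := by
      refine lt_of_le_of_ne inf_le_left fun h => hne (Subtype.ext ?_)
      exact Subgroup.eq_of_le_of_card_ge (inf_eq_left.mp h) (by rw [E.2.2, E'.2.2])
    have hZlt' : Z < E.1 ⊓ E'.1 :=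
      lt_of_le_of_ne (le_inf (hZE E) (hZE E')) fun h => hxZ (h ▸ ⟨h1, h2⟩)
    have h3 := hmid _ hZlt' (lt_of_lt_of_le hlt E.2.1)
    exact hlt.ne (Subgroup.eq_of_le_of_card_ge hlt.le (by rw [h3, E.2.2]))
  have hevenOm : Even (Nat.card Om) := by
    let D := {x : G // x ∈ (P : Subgroup G) ∧ x ∉ Z}
    let e : (Σ E : Om, ↥((E.1 : Set G) \ (Z : Set G))) → D :=
      fun q => ⟨q.2.1, q.1.2.1 q.2.2.1, q.2.2.2⟩
    have he : Function.Bijective e := by
      refine ⟨?_, ?_⟩
      · rintro ⟨E, x, hx⟩ ⟨E', x', hx'⟩ h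
        have hxx : x = x' := congrArg Subtype.val h
        subst hxx
        obtain rfl := huniq x E E' hx.2 hx.1 hx'.1
        rfl
      · rintro ⟨x, hx, hxZ⟩
        obtain ⟨E, hE⟩ := hcen x hx hxZ
        exact ⟨⟨E, x, hE, hxZ⟩, rfl⟩
    have hfib : ∀ E : Om, Nat.card ↥((E.1 : Set G) \ (Z : Set G)) = p ^ 2 - p := by
      intro E
      rw [Nat.card_coe_set_eq, Set.ncard_diff (hZE E) (Set.toFinite _), ← Nat.card_coe_set_eq,
        ← Nat.card_coe_set_eq]
      exact congrArg₂ (· - ·) E.2.2 hZcard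
    have hD : Nat.card D = p ^ 3 - p := by
      show Nat.card ↥(((P : Subgroup G) : Set G) \ (Z : Set G)) = _
      rw [Nat.card_coe_set_eq, Set.ncard_diff hZP (Set.toFinite _), ← Nat.card_coe_set_eq,
        ← Nat.card_coe_set_eq]
      exact congrArg₂ (· - ·) hc hZcard
    haveI : Fintype Om := Fintype.ofFinite _
    have h := Nat.card_eq_of_bijective e he
    rw [Nat.card_sigma, hD, Finset.sum_congr rfl (fun E _ => hfib E), Finset.sum_const,
      Finset.card_univ, smul_eq_mul, ← Nat.card_eq_fintype_card] at h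
    have hid : p ^ 3 - p = (p + 1) * (p ^ 2 - p) := by
      subst hm
      have e1 : (2 * m + 1) ^ 2 - (2 * m + 1) = (2 * m + 1) * (2 * m) :=
        Nat.sub_eq_of_eq_add (by ring)
      rw [e1]
      exact Nat.sub_eq_of_eq_add (by ring)
    rw [hid] at h
    have hpos : 0 < p ^ 2 - p := Nat.sub_pos_of_lt (by nlinarith [hp.one_lt])
    rw [Nat.eq_of_mul_eq_mul_right hpos h, hm]
    exact ⟨m + 1, by ring⟩
  -- a Sylow 2-subgroup of N fixes no point
  obtain ⟨T⟩ : Nonempty (Sylow 2 ↥N) := inferInstance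
  have hnofix : ∀ E : Om, ¬ ∀ t ∈ (T : Subgroup ↥N), ∀ x ∈ E.1, (t : G) * x * (t : G)⁻¹ ∈ E.1 := by
    intro E h
    have hle : (T : Subgroup ↥N) ≤ MulAction.stabilizer ↥N E := by
      intro t ht
      refine MulAction.mem_stabilizer_iff.mpr (Subtype.ext ?_)
      show E.1.map (MulAut.conj (t : G)).toMonoidHom = E.1
      refine Subgroup.eq_of_le_of_card_ge ?_ (by rw [(hmapOm t E).2, E.2.2])
      rintro _ ⟨x, hx, rfl⟩
      exact h t ht x hx
    have h1 := Subgroup.index_dvd_of_le hle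
    rw [MulAction.index_stabilizer_of_transitive] at h1
    exact T.not_dvd_index ((even_iff_two_dvd.mp hevenOm).trans h1)
  -- fixed subgroup
  have hFix : ∀ t : ↥N, t ∈ (T : Subgroup ↥N) →
      (∀ u ∈ (T : Subgroup ↥N), Ker (P : Subgroup G) Z ((u : G) * t * (u : G)⁻¹ * (t : G)⁻¹)) →
      ¬ Ker (P : Subgroup G) Z (t : G) →
      ∀ x ∈ (P : Subgroup G), R Z ((t : G) * x * (t : G)⁻¹) x → x ∈ Z := by
    intro t htT hcm hnk x hx hxf
    by_contra hxZ
    let F : Subgroup G :=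
      { carrier := {x | x ∈ (P : Subgroup G) ∧ R Z ((t : G) * x * (t : G)⁻¹) x}
        mul_mem' := fun {a b} ha hb => ⟨mul_mem ha.1 hb.1, by
          rw [show (t : G) * (a * b) * (t : G)⁻¹ = ((t : G) * a * (t : G)⁻¹) * ((t : G) * b * (t : G)⁻¹) by group]
          exact (hmulR _ _ _ ha.2).trans (hmulR' _ _ _ ha.1 hb.2)⟩
        one_mem' := ⟨one_mem _, by show _ * _ ∈ Z; simp⟩
        inv_mem' := fun {a} ha => ⟨inv_mem ha.1, by
          have h1 := hmulR' _ _ a⁻¹ (inv_mem ha.1) (hmulR _ _ ((t : G) * a⁻¹ * (t : G)⁻¹) ha.2)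
          rw [show a⁻¹ * ((t : G) * a * (t : G)⁻¹ * ((t : G) * a⁻¹ * (t : G)⁻¹)) = a⁻¹ by group,
            inv_mul_cancel_left] at h1
          exact h1.symm⟩ }
    have hxF : x ∈ F := ⟨hx, hxf⟩
    have h1 : Z < F := by
      refine lt_of_le_of_ne (fun z hz => ⟨hZP hz, ?_⟩) fun h => hxZ (h ▸ hxF)
      exact mul_mem (hNZ _ t.2 z hz) (inv_mem hz)
    have h2 : F < (P : Subgroup G) := by
      refine lt_of_le_of_ne (fun z hz => hz.1) fun h => hnk fun y hy => ?_
      have : y ∈ F := by rw [h]; exact hy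
      exact this.2
    refine hnofix ⟨F, fun z hz => hz.1, hmid F h1 h2⟩ fun u hu y hy => ⟨hNP _ u.2 y hy.1, ?_⟩
    set c := (u : G) * t * (u : G)⁻¹ * (t : G)⁻¹ with hcdef
    have hcN : c ∈ N := mul_mem (mul_mem (mul_mem u.2 t.2) (inv_mem u.2)) (inv_mem t.2)
    have hw : (t : G) * ((u : G) * y * (u : G)⁻¹) * (t : G)⁻¹ =
        c⁻¹ * ((u : G) * ((t : G) * y * (t : G)⁻¹) * (u : G)⁻¹) * c := by rw [hcdef]; group
    rw [hw]
    set w := (u : G) * ((t : G) * y * (t : G)⁻¹) * (u : G)⁻¹ with hwdef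
    have hwP : w ∈ (P : Subgroup G) := hNP _ u.2 _ (hNP _ t.2 y hy.1)
    have hwc : c⁻¹ * w * c ∈ (P : Subgroup G) := by
      have := hNP _ (inv_mem hcN) w hwP
      rwa [inv_inv] at this
    have h3 : R Z (c⁻¹ * w * c) w := by
      have := hcm u hu _ hwc
      rw [show c * (c⁻¹ * w * c) * c⁻¹ = w by group] at this
      exact this.symm
    exact h3.trans (hconjR _ u.2 _ _ hy.2)
  have hscal : ∀ t : ↥N, t ∈ (T : Subgroup ↥N) →
      (∀ u ∈ (T : Subgroup ↥N), Ker (P : Subgroup G) Z ((u : G) * t * (u : G)⁻¹ * (t : G)⁻¹)) →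
      ¬ Ker (P : Subgroup G) Z (t : G) → Ker (P : Subgroup G) Z ((t : G) * t) →
      ∀ x ∈ (P : Subgroup G), (t : G) * x * (t : G)⁻¹ * x ∈ Z := by
    intro t htT hcm hnk h2 x hx
    have htx := hNP _ t.2 x hx
    refine hFix t htT hcm hnk _ (mul_mem htx hx) ?_
    have e : (t : G) * ((t : G) * x * (t : G)⁻¹ * x) * (t : G)⁻¹ =
        ((t : G) * t * x * ((t : G) * t)⁻¹) * ((t : G) * x * (t : G)⁻¹) := by group
    rw [e]
    refine (hmulR _ _ _ (h2 x hx)).trans ?_
    show x * ((t : G) * x * (t : G)⁻¹) * ((t : G) * x * (t : G)⁻¹ * x)⁻¹ ∈ Z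
    rw [mul_inv_rev, ← mul_assoc]
    exact hcomm x hx _ htx
  have hnotexp : ¬ ((∀ t ∈ (T : Subgroup ↥N), ∀ u ∈ (T : Subgroup ↥N),
      Ker (P : Subgroup G) Z ((u : G) * t * (u : G)⁻¹ * (t : G)⁻¹)) ∧
      ∀ t ∈ (T : Subgroup ↥N), Ker (P : Subgroup G) Z ((t : G) * t)) := by
    rintro ⟨h1, h2⟩
    obtain ⟨E, -⟩ := hcen x0 hx0 fun h => hxy0 (((hZiff x0).mp h).2 y0 hy0).symm
    refine hnofix E fun t ht x hx => ?_
    by_cases hk : Ker (P : Subgroup G) Z (t : G)
    · have := mul_mem (hZE E (hk x (E.2.1 hx))) hx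
      rwa [inv_mul_cancel_right] at this
    · have := mul_mem (hZE E (hscal t ht (fun u hu => h1 t ht u hu) hk (h2 t ht) x (E.2.1 hx))) (inv_mem hx)
      rwa [mul_inv_cancel_right] at this
  have hker1 : Ker (P : Subgroup G) Z 1 := fun x hx => by show _ * _ ∈ Z; simp
  -- embedding of 2-subgroups
  have hemb : ∀ Q : Subgroup G, IsPGroup 2 Q → ∃ f : Q →* ↥(S : Subgroup G), Function.Injective f := by
    intro Q hQ
    obtain ⟨S', hS'⟩ := hQ.exists_le_sylow
    exact ⟨(S'.equiv S).toMonoidHom.comp (Subgroup.inclusion hS'),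
      (MulEquiv.injective _).comp (Subgroup.inclusion_injective hS')⟩
  set TG := (T : Subgroup ↥N).map N.subtype with hTG
  have hTGp : IsPGroup 2 TG := T.isPGroup'.map _
  obtain ⟨fT, hfT⟩ := hemb TG hTGp
  have hmemT : ∀ t ∈ (T : Subgroup ↥N), (t : G) ∈ TG := fun t ht => ⟨t, ht, rfl⟩
  -- the element w
  obtain ⟨w, hwT, hwc, hwk, hw2, hord⟩ : ∃ w : ↥N, w ∈ (T : Subgroup ↥N) ∧
      (∀ u ∈ (T : Subgroup ↥N), Ker (P : Subgroup G) Z ((u : G) * w * (u : G)⁻¹ * (w : G)⁻¹)) ∧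
      ¬ Ker (P : Subgroup G) Z (w : G) ∧ Ker (P : Subgroup G) Z ((w : G) * w) ∧
      ∀ a b : ↥(S : Subgroup G), orderOf a = orderOf (w : G) → orderOf b = orderOf (w : G) →
        b ∈ zpowers a := by
    rcases hS with hcyc | ⟨hab, hsq⟩ | ⟨⟨eQ⟩⟩
    · have hcom : ∀ t ∈ (T : Subgroup ↥N), ∀ u ∈ (T : Subgroup ↥N),
          Ker (P : Subgroup G) Z ((u : G) * t * (u : G)⁻¹ * (t : G)⁻¹) := by
        intro t ht u hu
        haveI := hcyc
        letI : CommGroup ↥(S : Subgroup G) := IsCyclic.commGroup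
        have h' : fT (⟨_, hmemT u hu⟩ * ⟨_, hmemT t ht⟩) = fT (⟨_, hmemT t ht⟩ * ⟨_, hmemT u hu⟩) := by
          rw [map_mul, map_mul, mul_comm]
        have h'' : (u : G) * t = t * u := congrArg Subtype.val (hfT h')
        rw [h'', mul_inv_cancel_right, mul_inv_cancel]
        exact hker1
      obtain ⟨t, ht, htk⟩ : ∃ t ∈ (T : Subgroup ↥N), ¬ Ker (P : Subgroup G) Z ((t : G) * t) := by
        by_contra h
        push_neg at h
        exact hnotexp ⟨hcom, h⟩
      have hex : ∃ k : ℕ, Ker (P : Subgroup G) Z ((t : G) ^ 2 ^ k) := by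
        obtain ⟨k, hk⟩ := hTGp ⟨_, hmemT t ht⟩
        refine ⟨k, ?_⟩
        have : (t : G) ^ 2 ^ k = 1 := congrArg Subtype.val hk
        rw [this]; exact hker1
      obtain ⟨k, hk⟩ : ∃ k, Nat.find hex = k + 1 := by
        refine Nat.exists_eq_succ_of_ne_zero fun h0 => htk ?_
        have h := Nat.find_spec hex
        rw [h0, pow_zero, pow_one] at h
        intro x hx
        have h1 := hconjR _ t.2 _ _ (h x hx)
        rw [show (t : G) * t * x * ((t : G) * t)⁻¹ = (t : G) * ((t : G) * x * (t : G)⁻¹) * (t : G)⁻¹ by group]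
        exact h1.trans (h x hx)
      have hspec := Nat.find_spec hex
      rw [hk, pow_succ, pow_mul, pow_two] at hspec
      refine ⟨t ^ 2 ^ k, pow_mem ht _, fun u hu => hcom _ (pow_mem ht _) u hu, ?_, by simpa using hspec, ?_⟩
      · have := Nat.find_min hex (show k < Nat.find hex by omega)
        simpa using this
      · intro a b ha hb
        haveI := hcyc
        exact mem_zpowers_of_orderOf_eq (hb.trans ha.symm)
    · refine absurd ⟨fun t ht u hu => ?_, fun t ht => ?_⟩ hnotexp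
      · have h' : fT (⟨_, hmemT u hu⟩ * ⟨_, hmemT t ht⟩) = fT (⟨_, hmemT t ht⟩ * ⟨_, hmemT u hu⟩) := by
          rw [map_mul, map_mul, hab]
        have h'' : (u : G) * t = t * u := congrArg Subtype.val (hfT h')
        rw [h'', mul_inv_cancel_right, mul_inv_cancel]
        exact hker1
      · have h' : fT (⟨_, hmemT t ht⟩ * ⟨_, hmemT t ht⟩) = fT 1 := by
          rw [map_mul, map_one, ← pow_two, hsq]
        have h'' : (t : G) * t = 1 := congrArg Subtype.val (hfT h')
        rw [h'']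
        exact hker1
    · set f : TG →* QuaternionGroup 2 := eQ.toMonoidHom.comp fT with hfdef
      have hf : Function.Injective f := eQ.injective.comp hfT
      have q1 : ∀ x : QuaternionGroup 2, x * x = 1 ∨ x * x = QuaternionGroup.a 2 := by decide
      have q2 : ∀ x y : QuaternionGroup 2,
          x * y * x⁻¹ * y⁻¹ = 1 ∨ x * y * x⁻¹ * y⁻¹ = QuaternionGroup.a 2 := by decide
      have q3 : ∀ x : QuaternionGroup 2, x * x = 1 → x = 1 ∨ x = QuaternionGroup.a 2 := by decide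
      have q4 : ∀ x : QuaternionGroup 2, x * QuaternionGroup.a 2 = QuaternionGroup.a 2 * x := by decide
      have q5 : (QuaternionGroup.a 2 : QuaternionGroup 2) * QuaternionGroup.a 2 = 1 ∧
          (QuaternionGroup.a 2 : QuaternionGroup 2) ≠ 1 := by decide
      by_cases hz : ∀ v : TG, f v = QuaternionGroup.a 2 → Ker (P : Subgroup G) Z (v : G)
      · have hv : ∀ v : TG, f v = 1 ∨ f v = QuaternionGroup.a 2 → Ker (P : Subgroup G) Z (v : G) := by
          rintro v (h | h)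
          · rw [show v = 1 from hf (h.trans (map_one f).symm)]
            exact hker1
          · exact hz v h
        refine absurd ⟨fun t ht u hu => ?_, fun t ht => ?_⟩ hnotexp
        · refine hv (⟨_, hmemT u hu⟩ * ⟨_, hmemT t ht⟩ * ⟨_, hmemT u hu⟩⁻¹ * ⟨_, hmemT t ht⟩⁻¹) ?_
          simp only [map_mul, map_inv]
          exact q2 _ _
        · refine hv (⟨_, hmemT t ht⟩ * ⟨_, hmemT t ht⟩) ?_
          rw [map_mul]
          exact q1 _
      · push_neg at hz
        obtain ⟨v, hv, hvk⟩ := hz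
        obtain ⟨v', hv', hvv⟩ := v.2
        have hvv' : (v' : G) = (v : G) := hvv
        have hsq' : (v : G) * v = 1 := congrArg Subtype.val
          (hf (show f (v * v) = f 1 by rw [map_mul, map_one, hv, q5.1]))
        refine ⟨v', hv', fun u hu => ?_, by rw [hvv']; exact hvk, ?_, ?_⟩
        · have h' : f (⟨_, hmemT u hu⟩ * v) = f (v * ⟨_, hmemT u hu⟩) := by
            rw [map_mul, map_mul, hv, q4]
          have h'' : (u : G) * v = v * u := congrArg Subtype.val (hf h')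
          rw [hvv', h'', mul_inv_cancel_right, mul_inv_cancel]
          exact hker1
        · rw [hvv', hsq']; exact hker1
        · have ho : orderOf (v : G) = 2 := by
            refine orderOf_eq_prime (by rw [pow_two]; exact hsq') fun h => q5.2 ?_
            rw [← hv, show v = 1 from Subtype.ext h, map_one]
          intro a b ha hb
          rw [hvv', ho] at ha hb
          have key : ∀ c : ↥(S : Subgroup G), orderOf c = 2 → eQ c = QuaternionGroup.a 2 := by
            intro c hc'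
            have hc2 : c * c = 1 := by
              have h2 := pow_orderOf_eq_one c
              rwa [hc', pow_two] at h2
            rcases q3 (eQ c) (by rw [← map_mul, hc2, map_one]) with h | h
            · rw [show c = 1 from eQ.injective (h.trans (map_one eQ).symm), orderOf_one] at hc'
              omega
            · exact h
          rw [show b = a from eQ.injective ((key b hb).trans (key a ha).symm)]
          exact mem_zpowers a
  have hinv : ∀ x ∈ (P : Subgroup G), (w : G) * x * (w : G)⁻¹ * x ∈ Z := hscal w hwT hwc hwk hw2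
  -- w centralises Z
  set c0 := x0 * y0 * x0⁻¹ * y0⁻¹ with hc0
  have hc0Z : c0 ∈ Z := hcomm x0 hx0 y0 hy0
  have hc0ne : c0 ≠ 1 := fun h => hxy0 (by
    rw [hc0, mul_inv_eq_one, mul_inv_eq_iff_eq_mul] at h; exact h)
  have hwc0 : (w : G) * c0 * (w : G)⁻¹ = c0 := by
    obtain ⟨u, hu, hue⟩ : ∃ u ∈ Z, (w : G) * x0 * (w : G)⁻¹ = u * x0⁻¹ :=
      ⟨_, hinv x0 hx0, by rw [mul_inv_cancel_right]⟩
    obtain ⟨v, hv, hve⟩ : ∃ v ∈ Z, (w : G) * y0 * (w : G)⁻¹ = v * y0⁻¹ :=
      ⟨_, hinv y0 hy0, by rw [mul_inv_cancel_right]⟩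
    have cu : ∀ y ∈ (P : Subgroup G), y * u = u * y := ((hZiff u).mp hu).2
    have cv : ∀ y ∈ (P : Subgroup G), y * v = v * y := ((hZiff v).mp hv).2
    calc (w : G) * c0 * (w : G)⁻¹
        = ((w : G) * x0 * (w : G)⁻¹) * ((w : G) * y0 * (w : G)⁻¹) *
          ((w : G) * x0 * (w : G)⁻¹)⁻¹ * ((w : G) * y0 * (w : G)⁻¹)⁻¹ := by rw [hc0]; group
      _ = u * (x0⁻¹ * v) * (y0⁻¹ * x0) * u⁻¹ * (y0 * v⁻¹) := by rw [hue, hve]; group
      _ = u * (v * x0⁻¹) * (y0⁻¹ * x0) * u⁻¹ * (y0 * v⁻¹) := by rw [cv _ (inv_mem hx0)]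
      _ = (u * (v * (x0⁻¹ * y0⁻¹ * x0))) * u⁻¹ * (y0 * v⁻¹) := by group
      _ = ((v * (x0⁻¹ * y0⁻¹ * x0)) * u) * u⁻¹ * (y0 * v⁻¹) := by
        rw [cu _ (mul_mem (hZP hv) (mul_mem (mul_mem (inv_mem hx0) (inv_mem hy0)) hx0))]
      _ = v * (x0⁻¹ * y0⁻¹ * x0 * y0) * v⁻¹ := by group
      _ = (x0⁻¹ * y0⁻¹ * x0 * y0) := by
        rw [← cv _ (mul_mem (mul_mem (mul_mem (inv_mem hx0) (inv_mem hy0)) hx0) hy0), mul_inv_cancel_right]
      _ = (y0 * x0)⁻¹ * (c0 * (y0 * x0)) := by rw [hc0]; group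
      _ = c0 := by rw [← ((hZiff c0).mp hc0Z).2 _ (mul_mem hy0 hx0), inv_mul_cancel_left]
  have hwZ : ∀ z ∈ Z, (w : G) * z * (w : G)⁻¹ = z := by
    intro z hz
    have hgen : zpowers c0 = Z := by
      refine Subgroup.eq_of_le_of_card_ge ((zpowers_le).mpr hc0Z) ?_
      rw [hZcard, Nat.card_zpowers,
        orderOf_eq_prime (hpow c0 (hZP hc0Z)) hc0ne]
    rw [← hgen, mem_zpowers_iff] at hz
    obtain ⟨i, rfl⟩ := hz
    calc (w : G) * c0 ^ i * (w : G)⁻¹ = ((w : G) * c0 * (w : G)⁻¹) ^ i := (conj_zpow).symm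
      _ = c0 ^ i := by rw [hwc0]
  -- an element inverted by w
  obtain ⟨a, haP, haZ, ha⟩ : ∃ a ∈ (P : Subgroup G), a ∉ Z ∧ (w : G) * a * (w : G)⁻¹ = a⁻¹ := by
    have hx0Z : x0 ∉ Z := fun h => hxy0 (((hZiff x0).mp h).2 y0 hy0).symm
    set z0 := (w : G) * x0 * (w : G)⁻¹ * x0 with hz0
    have hz0Z : z0 ∈ Z := hinv x0 hx0
    set z1 := z0 ^ m with hz1
    have hz1Z : z1 ∈ Z := pow_mem hz0Z m
    refine ⟨x0 * z1, mul_mem hx0 (hZP hz1Z), fun h => hx0Z ?_, ?_⟩
    · simpa using mul_mem h (inv_mem hz1Z)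
    · have h11 : z0 * z1 * z1 = 1 := by
        rw [hz1, mul_assoc, ← pow_add, ← pow_succ', show m + m + 1 = p by omega]
        exact hpow z0 (hZP hz0Z)
      have cz : x0 * z1 = z1 * x0 := ((hZiff z1).mp hz1Z).2 x0 hx0
      calc (w : G) * (x0 * z1) * (w : G)⁻¹
          = ((w : G) * x0 * (w : G)⁻¹) * ((w : G) * z1 * (w : G)⁻¹) := by group
        _ = z0 * x0⁻¹ * z1 := by rw [hwZ z1 hz1Z, hz0]; group
        _ = z0 * (x0⁻¹ * z1) := by group
        _ = z0 * (z1 * x0⁻¹) := by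
          rw [((hZiff z1).mp hz1Z).2 x0⁻¹ (inv_mem hx0)]
        _ = (z0 * z1 * z1) * (z1⁻¹ * x0⁻¹) := by group
        _ = (x0 * z1)⁻¹ := by rw [h11, one_mul, mul_inv_rev]
  obtain ⟨g, hg⟩ := hC (zpowers a) Z (P.isPGroup'.to_le ((zpowers_le).mpr haP)) (P.isPGroup'.to_le hZP)
    (by rw [hZcard, Nat.card_zpowers, orderOf_eq_prime (hpow a haP) (fun h => haZ (h ▸ one_mem Z))])
  set s := g * (w : G) * g⁻¹ with hs
  have hsZ : ∀ z ∈ Z, s * z * s⁻¹ = z⁻¹ := by
    intro z hz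
    rw [hg] at hz
    obtain ⟨q, hq, rfl⟩ := hz
    obtain ⟨i, rfl⟩ := mem_zpowers_iff.mp hq
    show s * (g * a ^ i * g⁻¹) * s⁻¹ = (g * a ^ i * g⁻¹)⁻¹
    calc s * (g * a ^ i * g⁻¹) * s⁻¹ = g * ((w : G) * a * (w : G)⁻¹) ^ i * g⁻¹ := by
          rw [conj_zpow, hs]; group
      _ = g * (a⁻¹) ^ i * g⁻¹ := by rw [ha]
      _ = _ := by rw [inv_zpow]; group
  set NZ := Subgroup.normalizer (Z : Set G) with hNZdef
  have hmemNZ : ∀ u : G, (∀ z ∈ Z, u * z * u⁻¹ ∈ Z) → u ∈ NZ := by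
    intro u hu
    have he : Z.map (MulAut.conj u).toMonoidHom = Z := by
      refine Subgroup.eq_of_le_of_card_ge ?_
        (le_of_eq (Subgroup.card_map_of_injective (MulEquiv.injective _)).symm)
      rintro _ ⟨z, hz, rfl⟩
      exact hu z hz
    rw [hNZdef, mem_normalizer_iff]
    intro z
    refine ⟨fun hz => hu z hz, fun hz => ?_⟩
    rw [← he] at hz
    obtain ⟨z', hz', hzz⟩ := hz
    have hzz' : u * z' * u⁻¹ = u * z * u⁻¹ := hzz
    rwa [← mul_left_cancel (mul_right_cancel hzz')]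
  have hwNZ : (w : G) ∈ NZ := hmemNZ _ fun z hz => by rw [hwZ z hz]; exact hz
  have hsNZ : s ∈ NZ := hmemNZ _ fun z hz => by rw [hsZ z hz]; exact inv_mem hz
  obtain ⟨k, hk⟩ : ∃ k : ℕ, (w : G) ^ 2 ^ k = 1 := by
    obtain ⟨k, hk⟩ := hTGp ⟨_, hmemT w hwT⟩
    exact ⟨k, congrArg Subtype.val hk⟩
  have hsk : s ^ 2 ^ k = 1 := by
    rw [hs, conj_pow, hk, mul_one, mul_inv_cancel]
  have hpz : ∀ x : ↥NZ, x ^ 2 ^ k = 1 → IsPGroup 2 ↥(zpowers x) := by
    intro x hx y
    obtain ⟨i, hi⟩ := mem_zpowers_iff.mp y.2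
    refine ⟨k, Subtype.ext ?_⟩
    show (y : ↥NZ) ^ 2 ^ k = 1
    rw [← hi, ← zpow_natCast, ← zpow_mul, mul_comm, zpow_mul, zpow_natCast, hx, one_zpow]
  obtain ⟨R1, hR1⟩ := (hpz ⟨_, hwNZ⟩ (Subtype.ext hk)).exists_le_sylow
  obtain ⟨R2, hR2⟩ := (hpz ⟨_, hsNZ⟩ (Subtype.ext hsk)).exists_le_sylow
  obtain ⟨h, hh⟩ := MulAction.exists_smul_eq ↥NZ R2 R1
  set s' : ↥NZ := h * ⟨_, hsNZ⟩ * h⁻¹ with hs'
  have hs'R : s' ∈ (R1 : Subgroup ↥NZ) := by
    rw [← hh, Sylow.coe_subgroup_smul]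
    exact Subgroup.smul_mem_pointwise_smul (⟨_, hsNZ⟩ : ↥NZ) (MulAut.conj h) _ (hR2 (mem_zpowers _))
  set RG := (R1 : Subgroup ↥NZ).map NZ.subtype with hRG
  obtain ⟨fR, hfR⟩ := hemb RG (R1.isPGroup'.map _)
  let wR : RG := ⟨(w : G), ⟨⟨_, hwNZ⟩, hR1 (mem_zpowers _), rfl⟩⟩
  let sR : RG := ⟨(s' : G), ⟨s', hs'R, rfl⟩⟩
  have os : orderOf (s' : G) = orderOf (w : G) := by
    have : (s' : G) = MulAut.conj ((h : G) * g) (w : G) := by
      rw [MulAut.conj_apply, hs']
      show (h : G) * s * (h : G)⁻¹ = _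
      rw [hs]
      group
    rw [this]
    exact MulEquiv.orderOf_eq _ _
  have hmem := hord (fR wR) (fR sR)
    (by rw [orderOf_injective fR hfR, ← Subgroup.orderOf_coe])
    (by rw [orderOf_injective fR hfR, ← Subgroup.orderOf_coe]; exact os)
  obtain ⟨i, hi⟩ := mem_zpowers_iff.mp hmem
  rw [← map_zpow] at hi
  have hi' : (w : G) ^ i = (s' : G) := congrArg Subtype.val (hfR hi)
  have hs'c : (s' : G) * c0 * (s' : G)⁻¹ = c0⁻¹ := by
    have hz : (h : G)⁻¹ * c0 * h ∈ Z := by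
      have := (mem_normalizer_iff.mp (inv_mem h.2) c0).mp hc0Z
      rwa [inv_inv] at this
    calc (s' : G) * c0 * (s' : G)⁻¹ = (h : G) * (s * ((h : G)⁻¹ * c0 * h) * s⁻¹) * (h : G)⁻¹ := by
          rw [hs']; push_cast; group
      _ = (h : G) * ((h : G)⁻¹ * c0 * h)⁻¹ * (h : G)⁻¹ := by rw [hsZ _ hz]
      _ = c0⁻¹ := by group
  have hwi : Commute ((w : G) ^ i) c0 :=
    (show Commute (w : G) c0 from mul_inv_eq_iff_eq_mul.mp hwc0).zpow_left i
  rw [← hi', hwi.eq, mul_inv_cancel_right] at hs'c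
  have hsq0 : c0 ^ 2 = 1 := by rw [pow_two]; exact mul_eq_one_iff_eq_inv.mpr hs'c
  have := (Nat.prime_dvd_prime_iff_eq hp Nat.prime_two).mp
    (by rw [← orderOf_eq_prime (hpow c0 (hZP hc0Z)) hc0ne]; exact orderOf_dvd_of_pow_eq_one hsq0)
  exact hp2 this

end Main

/-- Let G be a finite group in which, for every prime p, any two p-subgroups of the same order are conjugate. Then every Sylow subgroup of G is cyclic, elementary abelian, or a quaternion group of order 8. -/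
theorem result {G : Type*} [Group G] [Finite G]
    (hD : ∀ p : ℕ, p.Prime → ∀ H K : Subgroup G, IsPGroup p H → IsPGroup p K → Nat.card H = Nat.card K →
      ∃ g : G, K = H.map (MulAut.conj g).toMonoidHom) {p : ℕ} [Fact p.Prime] (P : Sylow p G) :
    IsCyclic P ∨ Cfsg.IsElementaryAbelian p (P : Subgroup G) ∨ Nonempty ((P : Subgroup G) ≃* QuaternionGroup 2) := by
  rcases S4023.result (hD p Fact.out) P with h | h | ⟨-, h⟩ | ⟨hp2, hna, hc, he⟩
  · exact Or.inl h
  · exact Or.inr (Or.inl h)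
  · exact Or.inr (Or.inr h)
  exfalso
  haveI : Fact (Nat.Prime 2) := ⟨Nat.prime_two⟩
  obtain ⟨S⟩ : Nonempty (Sylow 2 G) := inferInstance
  refine false_of_extraspecial hp2 P hna hc he (hD p Fact.out) S ?_
  rcases S4023.result (hD 2 Nat.prime_two) S with h | h | ⟨-, h⟩ | ⟨h2, -⟩
  · exact Or.inl h
  · obtain ⟨hab, hex⟩ := h
    exact Or.inr (Or.inl ⟨fun a b => hab.is_comm.comm a b, fun a => Subtype.ext (by simpa using hex a a.2)⟩)
  · exact Or.inr (Or.inr h)
  · exact absurd rfl h2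

end Cfsg.Agent.S4020
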