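import Cfsg.Statements.S4211
import Mathlib
import Cfsg.Agent.Lib.H74Basic
import Cfsg.Agent.Lib.HallNilpotentConj

set_option autoImplicit false
open Cfsg

namespace Cfsg.Agent.S4211

section
open scoped Classical
variable {G : Type*} [Group G]

theorem conj_mem_zpowers (hn : ∀ H : Subgroup G, H.Normal) (g x : G) :
    g * x * g⁻¹ ∈ Subgroup.zpowers x :=
  (hn (Subgroup.zpowers x)).conj_mem x (Subgroup.mem_zpowers x) g

theorem commutator_central (hn : ∀ H : Subgroup G, H.Normal) (x y g : G) :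
    Commute g (x * y * x⁻¹ * y⁻¹) := by
  -- conjugations act as commuting power maps
  have hcomm : ∀ a b z : G, a * (b * z * b⁻¹) * a⁻¹ = b * (a * z * a⁻¹) * b⁻¹ := by
    intro a b z
    obtain ⟨i, hi⟩ := Subgroup.mem_zpowers_iff.1 (conj_mem_zpowers hn a z)
    obtain ⟨j, hj⟩ := Subgroup.mem_zpowers_iff.1 (conj_mem_zpowers hn b z)
    rw [← hi, ← hj, ← conj_zpow, ← conj_zpow, ← hi, ← hj, ← zpow_mul, ← zpow_mul, mul_comm i j]
  have hfix : ∀ z, x * y * x⁻¹ * y⁻¹ * z * (x * y * x⁻¹ * y⁻¹)⁻¹ = z := by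
    intro z
    calc x * y * x⁻¹ * y⁻¹ * z * (x * y * x⁻¹ * y⁻¹)⁻¹
        = x * (y * (x⁻¹ * (y⁻¹ * z * y) * x) * y⁻¹) * x⁻¹ := by group
      _ = x * (x⁻¹ * (y * (y⁻¹ * z * y) * y⁻¹) * x) * x⁻¹ := by
          have := hcomm y x⁻¹ (y⁻¹ * z * y); rw [inv_inv] at this; rw [this]
      _ = z := by group
  exact (mul_inv_eq_iff_eq_mul.1 (hfix g)).symm

theorem comm_pow_left (hn : ∀ H : Subgroup G, H.Normal) (x y : G) (k : ℕ) :
    x ^ k * y * (x ^ k)⁻¹ * y⁻¹ = (x * y * x⁻¹ * y⁻¹) ^ k := by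
  induction k with
  | zero => simp
  | succ k ih =>
    calc x ^ (k + 1) * y * (x ^ (k + 1))⁻¹ * y⁻¹
        = x * (x ^ k * y * (x ^ k)⁻¹ * y⁻¹) * (y * x⁻¹ * y⁻¹) := by rw [pow_succ' x k]; group
      _ = (x * y * x⁻¹ * y⁻¹) ^ k * (x * y * x⁻¹ * y⁻¹) := by
          rw [ih, ((commutator_central hn x y x).pow_right k).eq]; group
      _ = _ := (pow_succ _ _).symm

theorem mul_pow_class_two {u v c : G} (hcu : Commute u c) (hcv : Commute v c) (hvu : v * u = c * u * v) (m : ℕ) :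
    (u * v) ^ m = u ^ m * v ^ m * c ^ (m.choose 2) := by
  have hpow : ∀ m : ℕ, v ^ m * u = c ^ m * u * v ^ m := by
    intro m
    induction m with
    | zero => simp
    | succ m ih =>
      calc v ^ (m + 1) * u = v * (v ^ m * u) := by rw [pow_succ', mul_assoc]
        _ = (v * c ^ m) * u * v ^ m := by rw [ih]; group
        _ = c ^ m * (v * u) * v ^ m := by rw [(hcv.pow_right m).eq]; group
        _ = c ^ (m + 1) * u * v ^ (m + 1) := by rw [hvu, pow_succ c, pow_succ' v]; group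
  induction m with
  | zero => simp
  | succ m ih =>
    rw [pow_succ, ih, Nat.choose_succ_succ, Nat.choose_one_right]
    calc u ^ m * v ^ m * c ^ m.choose 2 * (u * v)
        = u ^ m * v ^ m * ((u * v) * c ^ m.choose 2) := by rw [((hcu.mul_left hcv).pow_right _).eq]; group
      _ = u ^ m * (v ^ m * u) * v * c ^ m.choose 2 := by group
      _ = u ^ m * (c ^ m * u) * v ^ m * v * c ^ m.choose 2 := by rw [hpow]; group
      _ = u ^ m * u * (c ^ m * (v ^ m * v)) * c ^ m.choose 2 := by rw [← (hcu.pow_right m).eq]; group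
      _ = u ^ (m + 1) * v ^ (m + 1) * c ^ (m + m.choose 2) := by
          rw [← pow_succ, ← pow_succ, ← ((hcv.pow_left (m + 1)).pow_right m).eq, pow_add]; group

theorem exists_q8_pair [Finite G] (hn : ∀ H : Subgroup G, H.Normal) {p : ℕ} [hp : Fact p.Prime]
    {x₁ y₁ : G} (hx₁ : ∃ k, orderOf x₁ = p ^ k) (hy₁ : ∃ k, orderOf y₁ = p ^ k) (hne : ¬ Commute x₁ y₁) :
    p = 2 ∧ ∃ x y : G, orderOf x = 4 ∧ orderOf y = 4 ∧ x * y * x⁻¹ * y⁻¹ = x ^ 2 ∧ y ^ 2 = x ^ 2 ∧ ¬ Commute x y := by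
  classical
  have hex : ∃ N : ℕ, ∃ x y : G, (∃ k, orderOf x = p ^ k) ∧ (∃ k, orderOf y = p ^ k) ∧ ¬ Commute x y ∧
      orderOf x + orderOf y = N := ⟨_, x₁, y₁, hx₁, hy₁, hne, rfl⟩
  obtain ⟨x, y, ⟨a, ha⟩, ⟨b, hb⟩, hxy, hN, hba⟩ : ∃ x y : G, (∃ k, orderOf x = p ^ k) ∧ (∃ k, orderOf y = p ^ k) ∧
      ¬ Commute x y ∧ orderOf x + orderOf y = Nat.find hex ∧ orderOf y ≤ orderOf x := by
    obtain ⟨x, y, hx, hy, hxy, hN⟩ := Nat.find_spec hex
    rcases le_total (orderOf y) (orderOf x) with h | h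
    · exact ⟨x, y, hx, hy, hxy, hN, h⟩
    · exact ⟨y, x, hy, hx, fun h' => hxy h'.symm, by omega, h⟩
  have hmin : ∀ x' y' : G, (∃ k, orderOf x' = p ^ k) → (∃ k, orderOf y' = p ^ k) → ¬ Commute x' y' →
      orderOf x + orderOf y ≤ orderOf x' + orderOf y' := fun x' y' h1 h2 h3 =>
    hN ▸ Nat.find_le ⟨x', y', h1, h2, h3, rfl⟩
  set c := x * y * x⁻¹ * y⁻¹ with hc
  have hc1 : c ≠ 1 := fun h => hxy (by
    rw [hc, mul_inv_eq_one, mul_inv_eq_iff_eq_mul] at h; exact h)
  have hcx : c ∈ Subgroup.zpowers x := by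
    have : c = x * (y * x⁻¹ * y⁻¹) := by rw [hc]; group
    rw [this]
    refine mul_mem (Subgroup.mem_zpowers x) ?_
    have h1 := conj_mem_zpowers hn y x⁻¹
    rwa [Subgroup.zpowers_inv] at h1
  have hcy : c ∈ Subgroup.zpowers y := mul_mem (conj_mem_zpowers hn x y) (inv_mem (Subgroup.mem_zpowers y))
  have hp1 := hp.out.one_lt
  have ha1 : a ≠ 0 := fun h => hxy (by
    rw [h, pow_zero, orderOf_eq_one_iff] at ha; rw [ha]; exact Commute.one_left y)
  have hb1 : b ≠ 0 := fun h => hxy (by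
    rw [h, pow_zero, orderOf_eq_one_iff] at hb; rw [hb]; exact Commute.one_right x)
  have hxp : ∃ k, orderOf (x ^ p) = p ^ k := by
    obtain ⟨k, -, hk⟩ := (Nat.dvd_prime_pow hp.out).1 (ha ▸ orderOf_pow_dvd (x := x) p)
    exact ⟨k, hk⟩
  have hcp : c ^ p = 1 := by
    rw [hc, ← comm_pow_left hn]
    by_contra hne'
    have h1 : ¬ Commute (x ^ p) y := fun h => hne' (by rw [h.eq]; group)
    have h2 := hmin _ _ hxp ⟨b, hb⟩ h1
    have h3 : orderOf (x ^ p) < orderOf x := by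
      rw [orderOf_pow_of_dvd hp.out.ne_zero (ha.symm ▸ dvd_pow_self p ha1), ha]
      exact Nat.div_lt_self (pow_pos hp.out.pos a) hp1
    omega
  have hco : orderOf c = p := orderOf_eq_prime hcp hc1
  -- `c` generates the subgroups of order `p` of both cyclic groups
  have hroot : ∀ (u : G) (e : ℕ), e ≠ 0 → orderOf u = p ^ e → c ∈ Subgroup.zpowers u →
      ∃ i : ℤ, c ^ i = u ^ (p ^ (e - 1)) := by
    intro u e he hu hcu
    obtain ⟨k, hk⟩ := Subgroup.mem_zpowers_iff.1 hcu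
    have hd : ((p ^ (e - 1) : ℕ) : ℤ) ∣ k := by
      have h1 : u ^ (k * p) = 1 := by rw [zpow_mul, hk, zpow_natCast, hcp]
      rw [← orderOf_dvd_iff_zpow_eq_one, hu] at h1
      have h2 : ((p ^ (e - 1) : ℕ) : ℤ) * p ∣ k * p := by
        have : p ^ (e - 1) * p = p ^ e := by rw [← pow_succ, Nat.sub_add_cancel (Nat.one_le_iff_ne_zero.2 he)]
        rwa [← Nat.cast_mul, this]
      exact Int.dvd_of_mul_dvd_mul_right (by exact_mod_cast hp.out.ne_zero) h2
    obtain ⟨j, rfl⟩ := hd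
    rw [zpow_mul, zpow_natCast] at hk
    have hz : Subgroup.zpowers c = Subgroup.zpowers (u ^ (p ^ (e - 1))) := by
      refine Subgroup.eq_of_le_of_card_ge (Subgroup.zpowers_le.2 (Subgroup.mem_zpowers_iff.2 ⟨j, hk⟩)) ?_
      rw [Nat.card_zpowers, Nat.card_zpowers, hco, orderOf_pow_of_dvd (pow_ne_zero _ hp.out.ne_zero)
        (hu.symm ▸ pow_dvd_pow p (Nat.sub_le e 1)), hu, Nat.pow_div (Nat.sub_le e 1) hp.out.pos,
        Nat.sub_sub_self (Nat.one_le_iff_ne_zero.2 he), pow_one]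
    exact Subgroup.mem_zpowers_iff.1 (hz ▸ Subgroup.mem_zpowers _)
  obtain ⟨i, hi⟩ := hroot x a ha1 ha hcx
  obtain ⟨j, hj⟩ := hroot y b hb1 hb hcy
  have hba' : b ≤ a := (Nat.pow_le_pow_iff_right hp1).1 (ha ▸ hb ▸ hba)
  have hb2 : 2 ≤ b := by
    by_contra hb2
    have hb' : b = 1 := by omega
    -- a normal subgroup of prime order is central
    obtain ⟨k, hk⟩ := Subgroup.mem_zpowers_iff.1 hcy
    have hzy : Subgroup.zpowers c = Subgroup.zpowers y := Subgroup.eq_of_le_of_card_ge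
      (Subgroup.zpowers_le.2 hcy) (by rw [Nat.card_zpowers, Nat.card_zpowers, hco, hb, hb', pow_one])
    obtain ⟨k', hk'⟩ := Subgroup.mem_zpowers_iff.1 (hzy ▸ Subgroup.mem_zpowers y : y ∈ Subgroup.zpowers c)
    exact hxy (hk' ▸ (commutator_central hn x y x).zpow_right k')
  -- choose `l` with `x ^ (l p^(a-1)) * y ^ (p^(b-1)) = 1`
  obtain ⟨l, hl⟩ : ∃ l : ℕ, (x ^ (p ^ (a - 1))) ^ l = (y ^ (p ^ (b - 1)))⁻¹ := by
    have hz : Subgroup.zpowers (x ^ (p ^ (a - 1))) = Subgroup.zpowers c := by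
      refine Subgroup.eq_of_le_of_card_ge (Subgroup.zpowers_le.2 (Subgroup.mem_zpowers_iff.2 ⟨i, hi⟩)) ?_
      rw [Nat.card_zpowers, Nat.card_zpowers, hco, orderOf_pow_of_dvd (pow_ne_zero _ hp.out.ne_zero)
        (ha.symm ▸ pow_dvd_pow p (Nat.sub_le a 1)), ha, Nat.pow_div (Nat.sub_le a 1) hp.out.pos,
        Nat.sub_sub_self (Nat.one_le_iff_ne_zero.2 ha1), pow_one]
    have hm : (y ^ (p ^ (b - 1)))⁻¹ ∈ Subgroup.zpowers (x ^ (p ^ (a - 1))) := by
      rw [hz, ← hj]; exact inv_mem (Subgroup.zpow_mem _ (Subgroup.mem_zpowers c) j)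
    exact (mem_powers_iff_mem_zpowers (x := x ^ (p ^ (a - 1)))).2 hm
  set u := x ^ (l * p ^ (a - b)) with hu
  set m := p ^ (b - 1) with hm
  have hab : p ^ (a - b) * m = p ^ (a - 1) := by
    rw [hm, ← pow_add]; congr 1; omega
  have hucm : u ^ m * y ^ m = 1 := by
    rw [hu, ← pow_mul, mul_assoc, hab, mul_comm, pow_mul, hl, inv_mul_cancel]
  have hcentral : ∀ g : G, Commute g c := fun g => commutator_central hn x y g
  have huy : y * u = (c ^ (l * p ^ (a - b)))⁻¹ * u * y := by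
    have h1 := comm_pow_left hn x y (l * p ^ (a - b))
    rw [← hu, ← hc] at h1
    rw [← h1]; group
  have hpowm := mul_pow_class_two (u := u) (v := y) (c := (c ^ (l * p ^ (a - b)))⁻¹)
    ((hcentral u).pow_right _).inv_right ((hcentral y).pow_right _).inv_right huy m
  have hbad : ¬ p ∣ l * p ^ (a - b) * m.choose 2 := by
    intro hd
    have hy' : (u * y) ^ m = 1 := by
      rw [hpowm, hucm, one_mul, inv_pow, ← pow_mul,
        orderOf_dvd_iff_pow_eq_one.1 (hco.symm ▸ hd), inv_one]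
    have hne' : ¬ Commute x (u * y) := fun h => hxy (by
      have h2 := ((Commute.refl x).pow_right (l * p ^ (a - b))).inv_right.mul_right h
      rwa [← hu, inv_mul_cancel_left] at h2)
    obtain ⟨k, hk1, hk⟩ := (Nat.dvd_prime_pow hp.out).1 (orderOf_dvd_of_pow_eq_one hy')
    have h3 := hmin x (u * y) ⟨a, ha⟩ ⟨k, hk⟩ hne'
    have h4 : p ^ k < p ^ b := Nat.pow_lt_pow_right hp1 (by omega)
    omega
  have hp2 : p = 2 := by
    by_contra hp2
    apply hbad
    refine dvd_mul_of_dvd_right ?_ _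
    have hdm : p ∣ m := hm ▸ dvd_pow_self p (by omega)
    have h2 : 2 * m.choose 2 = m * (m - 1) := by
      rw [Nat.choose_two_right, Nat.mul_div_cancel' (Nat.two_dvd_mul_sub_one m)]
    have h3 : p ∣ 2 * m.choose 2 := h2 ▸ dvd_mul_of_dvd_left hdm _
    exact ((Nat.coprime_primes hp.out Nat.prime_two).2 hp2).dvd_of_dvd_mul_left h3
  subst hp2
  have hab2 : a = b := by
    by_contra hne'
    exact hbad (dvd_mul_of_dvd_left (dvd_mul_of_dvd_right (dvd_pow_self 2 (by omega)) l) _)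
  have hb22 : b = 2 := by
    by_contra hne'
    apply hbad
    refine dvd_mul_of_dvd_right ?_ _
    obtain ⟨t, ht⟩ : 4 ∣ m := by
      rw [hm, show (4 : ℕ) = 2 ^ 2 by norm_num]; exact pow_dvd_pow 2 (by omega)
    have h2 : 2 * m.choose 2 = m * (m - 1) := by
      rw [Nat.choose_two_right, Nat.mul_div_cancel' (Nat.two_dvd_mul_sub_one m)]
    obtain ⟨r, hr⟩ : 4 ∣ 2 * m.choose 2 := h2 ▸ dvd_mul_of_dvd_left ⟨t, ht⟩ _
    exact ⟨r, by omega⟩
  subst hab2
  subst hb22
  norm_num at hi hj ha hb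
  have hsq : ∀ (w : G) (s : ℤ), orderOf w = 4 → c ^ s = w ^ 2 → w ^ 2 = c := by
    intro w s hw hs
    rcases Int.even_or_odd s with ⟨t, ht⟩ | ⟨t, ht⟩
    · exfalso
      have : w ^ 2 = 1 := by rw [← hs, ht, ← two_mul, zpow_mul, zpow_ofNat, hcp, one_zpow]
      have := orderOf_dvd_of_pow_eq_one this
      rw [hw] at this; norm_num at this
    · rw [← hs, ht, zpow_add, zpow_mul, zpow_ofNat, hcp, one_zpow, one_mul, zpow_one]
  exact ⟨rfl, x, y, ha, hb, (hsq x i ha hi).symm, (hsq y j hb hj).trans (hsq x i ha hi).symm, hxy⟩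

theorem q8_structure {x y : G} (hx : orderOf x = 4) (hc : x * y * x⁻¹ * y⁻¹ = x ^ 2) (hy : y ^ 2 = x ^ 2)
    (hne : ¬ Commute x y) :
    ∃ Q : Subgroup G, Nonempty (Q ≃* QuaternionGroup 2) ∧ Q = Subgroup.closure {x, y} ∧
      ∀ q ∈ Q, ∃ i : ℕ, q = x ^ i ∨ q = y * x ^ i := by
  have hxy : x * y = y * x⁻¹ := by
    have h1 : x * y = x ^ 2 * y * x := by rw [← hc]; group
    have h2 : x ^ 2 * y = y * x ^ 2 := by rw [← hy]; exact (Commute.pow_left (Commute.refl y) 2).eq
    rw [h1, h2, mul_assoc, ← pow_succ]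
    congr 1
    refine eq_inv_of_mul_eq_one_left ?_
    rw [← pow_succ]
    show x ^ 4 = 1
    rw [← hx]; exact pow_orderOf_eq_one x
  let X : ZMod (2 * 2) → G := fun i => x ^ i.val
  have hX : ∀ i j, X (i + j) = X i * X j := fun i j => by
    show x ^ (i + j).val = x ^ i.val * x ^ j.val
    rw [← pow_add, ← pow_mod_orderOf x (i.val + j.val), hx, ZMod.val_add]
  have hX2 : X 2 = x ^ 2 := rfl
  have hXy : ∀ i, X i * y = y * X (-i) := by
    intro i
    have h1 : ∀ n : ℕ, x ^ n * y = y * (x⁻¹) ^ n := by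
      intro n
      induction n with
      | zero => simp
      | succ n ih => rw [pow_succ, mul_assoc, hxy, ← mul_assoc, ih, mul_assoc, ← pow_succ]
    have h2 : X (-i) = (X i)⁻¹ := eq_inv_of_mul_eq_one_left (by rw [← hX, neg_add_cancel]; show x ^ (0 : ZMod (2 * 2)).val = 1; rw [ZMod.val_zero, pow_zero])
    show x ^ i.val * y = _
    rw [h1, h2, inv_pow]
  let f : QuaternionGroup 2 →* G := MonoidHom.mk' (fun q => match q with
      | .a i => X i
      | .xa i => y * X i) (by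
    rintro (i | i) (j | j)
    · exact hX i j
    · show y * X (j - i) = X i * (y * X j)
      rw [← mul_assoc, hXy, mul_assoc, ← hX, neg_add_eq_sub]
    · show y * X (i + j) = y * X i * X j
      rw [hX, mul_assoc]
    · show X ((2 : ℕ) + j - i) = y * X i * (y * X j)
      rw [mul_assoc y, ← mul_assoc (X i), hXy, ← mul_assoc, ← mul_assoc, ← pow_two y, hy, mul_assoc, ← hX,
        ← hX2, ← hX]
      congr 1
      push_cast; ring)
  have hyX : ∀ i, y * X i ≠ 1 := fun i h => hne (by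
    have : y = (x ^ i.val)⁻¹ := eq_inv_of_mul_eq_one_left h
    rw [this]; exact (Commute.pow_right (Commute.refl x) _).inv_right)
  have hinj : Function.Injective f := by
    rw [injective_iff_map_eq_one]
    rintro (i | i) h
    · have h1 : x ^ i.val = 1 := h
      rw [← orderOf_dvd_iff_pow_eq_one, hx] at h1
      have : i.val = 0 := Nat.eq_zero_of_dvd_of_lt h1 i.val_lt
      rw [(ZMod.val_eq_zero i).1 this]
      rfl
    · exact absurd h (hyX i)
  refine ⟨f.range, ⟨(MonoidHom.ofInjective hinj).symm⟩, le_antisymm ?_ ((Subgroup.closure_le _).2 ?_), ?_⟩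
  · rintro _ ⟨q, rfl⟩
    rcases q with i | i
    · exact Subgroup.pow_mem _ (Subgroup.subset_closure (by simp)) _
    · exact mul_mem (Subgroup.subset_closure (by simp)) (Subgroup.pow_mem _ (Subgroup.subset_closure (by simp)) _)
  · intro w hw
    rcases hw with hw | hw
    · rw [hw]; exact ⟨QuaternionGroup.a 1, pow_one x⟩
    · rw [Set.mem_singleton_iff.1 hw]
      exact ⟨QuaternionGroup.xa 0, show y * x ^ 0 = y by rw [pow_zero, mul_one]⟩
  · rintro _ ⟨q, rfl⟩
    rcases q with i | i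
    · exact ⟨i.val, Or.inl rfl⟩
    · exact ⟨i.val, Or.inr rfl⟩

end

/-- A finite non-abelian group in which every subgroup is normal is the internal direct product of a subgroup isomorphic to the quaternion group of order `8`, an elementary abelian `2`-subgroup and an abelian subgroup of odd order. -/
theorem result {G : Type*} [Group G] [Finite G] (hna : ¬ IsMulCommutative G) (hn : ∀ H : Subgroup G, H.Normal) : ∃ Q E A : Subgroup G, Nonempty (Q ≃* QuaternionGroup 2) ∧ Cfsg.IsElementaryAbelian 2 E ∧ IsMulCommutative A ∧ Odd (Nat.card A) ∧ E ⊓ A = ⊥ ∧ Q ⊓ (E ⊔ A) = ⊥ ∧ Q ⊔ (E ⊔ A) = ⊤ := by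
  classical
  haveI hnil : Group.IsNilpotent G :=
    ((Group.isNilpotent_of_finite_tfae (G := G)).out 0 3).2 (fun p hp P => hn _)
  have hcommcop : ∀ u v : G, (orderOf u).Coprime (orderOf v) → Commute u v :=
    HallNilpotentConj.commute_of_coprime_orderOf G
  -- `p`-parts
  have hsame : ∀ {p : ℕ} [Fact p.Prime], p ≠ 2 → ∀ s t : G, (∃ k, orderOf s = p ^ k) → (∃ k, orderOf t = p ^ k) →
      Commute s t := fun {p} _ hp s t hs ht => by_contra fun h => hp (exists_q8_pair hn hs ht h).1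
  have hodd_comm : ∀ u v : G, (orderOf u).Coprime 2 → (orderOf v).Coprime 2 → Commute u v := by
    intro u v hu hv
    by_contra hne
    obtain ⟨s, k, m, hs, hsk, hm, -⟩ : ∃ (s k m : ℕ), s.Prime ∧ orderOf (u ^ m) = s ^ k ∧ ¬ Commute (u ^ m) v ∧ True := by
      haveI := hn (Subgroup.centralizer ({v} : Set G))
      obtain ⟨s, k, m, hs, hsk, hm, -⟩ := H74Basic.exists_primePart_notMem (N := Subgroup.centralizer ({v} : Set G))
        (g := u) (fun h => hne (Subgroup.mem_centralizer_singleton_iff.1 h))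
      exact ⟨s, k, m, hs, hsk, fun h => hm (Subgroup.mem_centralizer_singleton_iff.2 h.eq), trivial⟩
    haveI := Fact.mk hs
    have hs2 : s ≠ 2 := by
      rintro rfl
      rcases k with _ | k
      · rw [pow_zero, orderOf_eq_one_iff] at hsk
        exact hm (hsk.symm ▸ Commute.one_left v)
      · refine Nat.prime_two.not_dvd_one ?_
        rw [← hu.gcd_eq_one]
        exact Nat.dvd_gcd (((dvd_pow_self 2 k.succ_ne_zero).trans (hsk ▸ dvd_rfl)).trans (orderOf_pow_dvd m)) dvd_rfl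
    obtain ⟨t, z, rfl, -, ⟨e, he⟩, hz⟩ := H74Basic.exists_parts (p := s) v
    exact hm ((hsame hs2 _ t ⟨k, hsk⟩ ⟨e, he⟩).mul_right
      (hcommcop _ z (hsk ▸ (hz.pow_right k).symm)))
  have hdec : ∀ g : G, ∃ s z : G, g = s * z ∧ (∃ k, orderOf s = 2 ^ k) ∧ (orderOf z).Coprime 2 := fun g => by
    obtain ⟨s, z, hg, -, he, hz⟩ := H74Basic.exists_parts (p := 2) g
    exact ⟨s, z, hg, he, hz⟩
  have h2odd : ∀ s z : G, (∃ k, orderOf s = 2 ^ k) → (orderOf z).Coprime 2 → Commute s z := fun s z ⟨k, hk⟩ hz =>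
    hcommcop s z (hk ▸ (hz.pow_right k).symm)
  obtain ⟨x₁, y₁, hx₁, hy₁, hne₁⟩ : ∃ x₁ y₁ : G, (∃ k, orderOf x₁ = 2 ^ k) ∧ (∃ k, orderOf y₁ = 2 ^ k) ∧ ¬ Commute x₁ y₁ := by
    by_contra hall
    push_neg at hall
    refine hna ⟨⟨fun g h => ?_⟩⟩
    obtain ⟨s, z, rfl, hs, hz⟩ := hdec g
    obtain ⟨t, w, rfl, ht, hw⟩ := hdec h
    exact ((((hall s t hs ht)).mul_right (h2odd s w hs hw)).mul_left
      ((h2odd t z ht hz).symm.mul_right (hodd_comm z w hz hw))).eq
  obtain ⟨-, x, y, hx, hy, hc, hyx, hxy⟩ := exists_q8_pair hn hx₁ hy₁ hne₁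
  obtain ⟨Q, hQ, hQdef, hQmem⟩ := q8_structure hx hc hyx hxy
  have hx4 : x ^ 4 = 1 := hx ▸ pow_orderOf_eq_one x
  have hy4 : y ^ 4 = 1 := hy ▸ pow_orderOf_eq_one y
  have hxQ : x ∈ Q := hQdef ▸ Subgroup.subset_closure (by simp)
  have hyQ : y ∈ Q := hQdef ▸ Subgroup.subset_closure (by simp)
  have hxy' : y * x * y⁻¹ = x⁻¹ := by
    have h2 : x ^ 2 * y = y * x ^ 2 := by rw [← hyx]; exact (Commute.pow_left (Commute.refl y) 2).eq
    have h1 : x * y = y * x ^ 3 := by
      calc x * y = x ^ 2 * y * x := by rw [← hc]; group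
        _ = _ := by rw [h2, mul_assoc, ← pow_succ]
    have h3 : x⁻¹ = x ^ 3 := inv_eq_of_mul_eq_one_right (by rw [← pow_succ']; exact hx4)
    have h4 : x * y * x = y := by rw [h1, mul_assoc, ← pow_succ, hx4, mul_one]
    calc y * x * y⁻¹ = x⁻¹ * (x * y * x) * y⁻¹ := by group
      _ = x⁻¹ := by rw [h4]; group
  have hyx' : x * y * x⁻¹ = y⁻¹ := by
    have h1 : x * y * x⁻¹ = x ^ 2 * y := by rw [← hc]; group
    rw [h1, ← hyx, ← pow_succ]
    exact (inv_eq_of_mul_eq_one_right (by rw [← pow_succ']; exact hy4)).symm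
  -- conjugation on a cyclic group of order four
  have hpm : ∀ w g : G, orderOf w = 4 → g * w * g⁻¹ = w ∨ g * w * g⁻¹ = w⁻¹ := by
    intro w g hw
    obtain ⟨i, hi, hiw⟩ : ∃ i : ℕ, i < 4 ∧ w ^ i = g * w * g⁻¹ := by
      obtain ⟨i, hi⟩ := (mem_powers_iff_mem_zpowers (x := w) (y := g * w * g⁻¹)).2 (conj_mem_zpowers hn g w)
      exact ⟨i % 4, Nat.mod_lt _ (by norm_num), by rw [← hw, pow_mod_orderOf]; exact hi⟩
    have ho : orderOf (g * w * g⁻¹) = 4 := hw ▸ MulEquiv.orderOf_eq (MulAut.conj g) w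
    interval_cases i
    · rw [pow_zero] at hiw; rw [← hiw, orderOf_one] at ho; norm_num at ho
    · exact Or.inl (by rw [← hiw, pow_one])
    · exfalso
      rw [← hiw, orderOf_pow_of_dvd (by norm_num) (by rw [hw]; norm_num), hw] at ho
      norm_num at ho
    · right
      rw [← hiw]
      exact (inv_eq_of_mul_eq_one_right (by rw [← pow_succ']; show w ^ 4 = 1; rw [← hw]; exact pow_orderOf_eq_one w)).symm
  set C := Subgroup.centralizer (Q : Set G) with hC
  have hQC : ∀ g : G, ∃ q ∈ Q, q⁻¹ * g ∈ C := by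
    intro g
    have key : ∀ q : G, q ∈ Q → q * x * q⁻¹ = g * x * g⁻¹ → q * y * q⁻¹ = g * y * g⁻¹ → ∃ q ∈ Q, q⁻¹ * g ∈ C := by
      intro q hq h1 h2
      refine ⟨q, hq, ?_⟩
      have hf : ∀ w : G, q * w * q⁻¹ = g * w * g⁻¹ → Commute (q⁻¹ * g) w := by
        intro w hw
        show _ = _
        calc q⁻¹ * g * w = q⁻¹ * (g * w * g⁻¹) * g := by group
          _ = w * (q⁻¹ * g) := by rw [← hw]; group
      rw [hC, hQdef, Subgroup.centralizer_closure, Subgroup.mem_centralizer_iff]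
      intro w hw
      rcases hw with hw | hw
      · rw [hw]; exact (hf _ h1).eq.symm
      · rw [Set.mem_singleton_iff.1 hw]; exact (hf _ h2).eq.symm
    rcases hpm x g hx with h1 | h1 <;> rcases hpm y g hy with h2 | h2
    · exact key 1 Q.one_mem (by rw [h1]; group) (by rw [h2]; group)
    · exact key x hxQ (by rw [h1]; group) (by rw [hyx', h2])
    · exact key y hyQ (by rw [hxy', h1]) (by rw [h2]; group)
    · refine key (x * y) (Q.mul_mem hxQ hyQ) ?_ ?_
      · calc x * y * x * (x * y)⁻¹ = x * (y * x * y⁻¹) * x⁻¹ := by group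
          _ = _ := by rw [hxy', h1]; group
      · calc x * y * y * (x * y)⁻¹ = x * y * x⁻¹ := by group
          _ = _ := by rw [hyx', h2]
  -- `C` has exponent two on `2`-elements
  have hCexp : ∀ z ∈ C, (∃ k, orderOf z = 2 ^ k) → z ^ 2 = 1 := by
    rintro z hz ⟨k, hk⟩
    by_contra hne
    have hk2 : 2 ≤ k := by
      by_contra hk2
      apply hne
      apply orderOf_dvd_iff_pow_eq_one.1
      rw [hk]
      exact pow_dvd_pow 2 (by omega : k ≤ 1)
    set w := z ^ (2 ^ (k - 2)) with hw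
    have hw4 : orderOf w = 4 := by
      rw [hw, orderOf_pow_of_dvd (pow_ne_zero _ two_ne_zero) (hk.symm ▸ pow_dvd_pow 2 (Nat.sub_le k 2)), hk,
        Nat.pow_div (Nat.sub_le k 2) two_pos, Nat.sub_sub_self hk2]
      norm_num
    have hwC : w ∈ C := C.pow_mem hz _
    have hwx : Commute x w := Subgroup.mem_centralizer_iff.1 hwC x hxQ
    have hwy : Commute y w := Subgroup.mem_centralizer_iff.1 hwC y hyQ
    have hxw4 : (x * w) ^ 4 = 1 := by rw [hwx.mul_pow, hx4, ← hw4, pow_orderOf_eq_one, one_mul]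
    have hxw : (x * w) * y * (x * w)⁻¹ = y⁻¹ := by
      calc (x * w) * y * (x * w)⁻¹ = x * (w * y * w⁻¹) * x⁻¹ := by group
        _ = y⁻¹ := by rw [← hwy.eq, mul_inv_cancel_right, hyx']
    have hmem : x ^ 2 ∈ Subgroup.zpowers (x * w) := by
      have h1 : y * (x * w) * y⁻¹ * (x * w)⁻¹ ∈ Subgroup.zpowers (x * w) :=
        mul_mem (conj_mem_zpowers hn y (x * w)) (inv_mem (Subgroup.mem_zpowers _))
      have h2 : y * (x * w) * y⁻¹ * (x * w)⁻¹ = (x ^ 2)⁻¹ := by
        have e : y * (x * w) * y⁻¹ = x⁻¹ * w := by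
          calc y * (x * w) * y⁻¹ = (y * x * y⁻¹) * (y * w * y⁻¹) := by group
            _ = _ := by rw [hxy', hwy.eq, mul_inv_cancel_right]
        rw [e]; group
      rw [h2] at h1
      simpa using inv_mem h1
    obtain ⟨i, hi⟩ := (mem_powers_iff_mem_zpowers (x := x * w) (y := x ^ 2)).2 hmem
    have hi' : (x * w) ^ (i % 4) = x ^ 2 := by
      rw [← hi]
      show _ = (x * w) ^ i
      conv_rhs => rw [← Nat.mod_add_div i 4, pow_add, pow_mul, hxw4, one_pow, mul_one]
    have hyx2 : Commute (x ^ 2) y := hyx ▸ Commute.pow_left (Commute.refl y) 2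
    have hnc : ¬ Commute (x * w) y := by
      intro h
      have h1 := h.eq
      rw [mul_inv_eq_iff_eq_mul.1 hxw] at h1
      apply hxy
      have h2 : y * y = 1 := by
        have := mul_right_cancel h1
        nth_rw 1 [← this]; exact inv_mul_cancel y
      rw [← pow_two] at h2
      have := orderOf_dvd_of_pow_eq_one h2
      rw [hy] at this; norm_num at this
    have hlt : i % 4 < 4 := Nat.mod_lt _ (by norm_num)
    interval_cases hmv : i % 4
    · rw [pow_zero] at hi'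
      have := orderOf_dvd_of_pow_eq_one hi'.symm
      rw [hx] at this; norm_num at this
    · rw [pow_one] at hi'
      exact hnc (hi' ▸ hyx2)
    · rw [hwx.mul_pow, mul_eq_left] at hi'
      have := orderOf_dvd_of_pow_eq_one hi'
      rw [hw4] at this; norm_num at this
    · have h1 : Commute ((x * w) ^ 3) y := hi' ▸ hyx2
      have : (x * w) = ((x * w) ^ 3)⁻¹ := by
        refine eq_inv_of_mul_eq_one_left ?_
        rw [← pow_succ']; exact hxw4
      exact hnc (this ▸ h1.inv_left)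
  -- a complement of `⟨x²⟩` in the involutions of `C`
  let C₂ : Subgroup G :=
    { carrier := {z | z ∈ C ∧ z ^ 2 = 1}
      one_mem' := ⟨C.one_mem, one_pow 2⟩
      mul_mem' := fun {u v} hu hv => by
        refine ⟨C.mul_mem hu.1 hv.1, ?_⟩
        have h2 : ∀ w : G, w ^ 2 = 1 → ∀ g : G, Commute g w := fun w hw g => by
          obtain ⟨i, hi⟩ := Subgroup.mem_zpowers_iff.1 (conj_mem_zpowers hn g w)
          rcases Int.even_or_odd i with ⟨t, ht⟩ | ⟨t, ht⟩
          · rw [ht, ← two_mul, zpow_mul, zpow_ofNat, hw, one_zpow] at hi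
            have : w = 1 := conj_eq_one_iff.1 hi.symm
            rw [this]; exact Commute.one_right g
          · rw [ht, zpow_add, zpow_mul, zpow_ofNat, hw, one_zpow, one_mul, zpow_one] at hi
            exact (mul_inv_eq_iff_eq_mul.1 hi.symm)
        rw [(h2 v hv.2 u).mul_pow, hu.2, hv.2, one_mul]
      inv_mem' := fun {u} hu => ⟨C.inv_mem hu.1, by rw [inv_pow, hu.2, inv_one]⟩ }
  have hc2 : x ^ 2 ∈ C₂ := by
    refine ⟨?_, by rw [← pow_mul]; exact hx4⟩
    rw [hC, hQdef, Subgroup.centralizer_closure, Subgroup.mem_centralizer_iff]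
    intro w hw
    rcases hw with hw | hw
    · rw [hw]; exact (Commute.pow_right (Commute.refl x) 2).eq
    · rw [Set.mem_singleton_iff.1 hw, ← hyx]; exact (Commute.pow_right (Commute.refl y) 2).eq
  have hx21 : x ^ 2 ≠ 1 := fun h => by
    have := orderOf_dvd_of_pow_eq_one h; rw [hx] at this; norm_num at this
  obtain ⟨E, hE⟩ := (Set.toFinite {E : Subgroup G | E ≤ C₂ ∧ x ^ 2 ∉ E}).exists_maximal
    ⟨⊥, bot_le, by rwa [Subgroup.mem_bot]⟩
  have hEC : E ≤ C₂ := hE.1.1
  have hEc : x ^ 2 ∉ E := hE.1.2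
  have hsup : ∀ z ∈ C₂, z ∈ E ∨ x ^ 2 * z ∈ E := by
    intro z hz
    by_contra hno
    push_neg at hno
    haveI := hn (Subgroup.zpowers z)
    have hbig : x ^ 2 ∈ E ⊔ Subgroup.zpowers z := by
      by_contra h
      have h2 := hE.2 (⟨sup_le hEC (Subgroup.zpowers_le.2 hz), h⟩ : E ⊔ Subgroup.zpowers z ∈ {E : Subgroup G | E ≤ C₂ ∧ x ^ 2 ∉ E}) le_sup_left
      exact hno.1 (h2 (Subgroup.mem_sup_right (Subgroup.mem_zpowers z)))
    obtain ⟨e, he, w, hw, hew⟩ := Subgroup.mem_sup_of_normal_right.1 hbig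
    obtain ⟨i, rfl⟩ := Subgroup.mem_zpowers_iff.1 hw
    rcases Int.even_or_odd i with ⟨t, ht⟩ | ⟨t, ht⟩
    · rw [ht, ← two_mul, zpow_mul, zpow_ofNat, hz.2, one_zpow, mul_one] at hew
      exact hEc (hew ▸ he)
    · rw [ht, zpow_add, zpow_mul, zpow_ofNat, hz.2, one_zpow, one_mul, zpow_one] at hew
      apply hno.2
      rw [← hew, mul_assoc, ← pow_two, hz.2, mul_one]
      exact he
  let A : Subgroup G :=
    { carrier := {z | (orderOf z).Coprime 2}
      one_mem' := by show Nat.Coprime _ _; rw [orderOf_one]; exact Nat.coprime_one_left 2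
      mul_mem' := fun {u v} hu hv => (Nat.Coprime.mul_left hu hv).coprime_dvd_left (hodd_comm u v hu hv).orderOf_mul_dvd_mul_orderOf
      inv_mem' := fun {u} hu => by show Nat.Coprime _ _; rw [orderOf_inv]; exact hu }
  have hmemA : ∀ a ∈ A, ∀ k, a ^ (2 ^ k) = 1 → a = 1 := fun a ha k hak => by
    have h := Nat.Coprime.pow_right k (show (orderOf a).Coprime 2 from ha)
    exact orderOf_eq_one_iff.1 (Nat.dvd_one.1 (h.gcd_eq_one ▸ Nat.dvd_gcd dvd_rfl (orderOf_dvd_of_pow_eq_one hak)))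
  have hEsq : ∀ e ∈ E, e ^ 2 = 1 := fun e he => (hEC he).2
  refine ⟨Q, E, A, hQ, ⟨⟨⟨fun u v => ?_⟩⟩, fun e he => hEsq e he⟩, ⟨⟨fun u v => Subtype.ext (hodd_comm u v u.2 v.2).eq⟩⟩, ?_, ?_, ?_, ?_⟩
  · apply Subtype.ext
    have h1 := hEsq _ (E.mul_mem u.2 v.2)
    have hu := hEsq _ u.2
    have hv := hEsq _ v.2
    rw [pow_two] at h1 hu hv
    calc (u : G) * v = (u : G) * v * ((v : G) * ((u : G) * u) * v) := by rw [hu, mul_one, hv, mul_one]
      _ = ((u : G) * (v * v) * u) * (u * v) := by group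
      _ = v * u := by
          rw [hv, mul_one, hu, one_mul]
          calc (u : G) * v = (v * v) * ((u : G) * v) * (u * u) := by rw [hv, hu, one_mul, mul_one]
            _ = v * ((v : G) * u * v * u) * u := by group
            _ = v * u := by
                have h2 : (v : G) * u * v * u = 1 := by
                  have h3 := hEsq _ (E.mul_mem v.2 u.2)
                  rw [pow_two] at h3
                  simpa [mul_assoc] using h3
                rw [h2, mul_one]
  · rw [← Nat.not_even_iff_odd, even_iff_two_dvd]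
    intro hd
    haveI := Fact.mk Nat.prime_two
    obtain ⟨z, hz⟩ := exists_prime_orderOf_dvd_card' 2 hd
    have := z.2
    change (orderOf (z : G)).Coprime 2 at this
    rw [Subgroup.orderOf_coe, hz] at this
    exact absurd this (by decide)
  · rw [eq_bot_iff]
    rintro z ⟨hzE, hzA⟩
    exact hmemA z hzA 1 (by simpa using hEsq z hzE)
  · rw [eq_bot_iff]
    rintro q ⟨hq, hq'⟩
    haveI := hn A
    obtain ⟨e, he, a, ha, hea⟩ := Subgroup.mem_sup_of_normal_right.1 hq'
    have hcea : Commute e a := h2odd e a (by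
      obtain ⟨j, -, hj⟩ := (Nat.dvd_prime_pow Nat.prime_two).1 (orderOf_dvd_of_pow_eq_one (hEsq e he) : orderOf e ∣ 2 ^ 1)
      exact ⟨j, hj⟩) ha
    have hq4 : q ^ 4 = 1 := by
      obtain ⟨i, rfl | rfl⟩ := hQmem q hq
      · rw [← pow_mul, mul_comm, pow_mul, hx4, one_pow]
      · have hxy1 : x * y = y * x⁻¹ := by
          calc x * y = (y * x * y⁻¹)⁻¹ * y := by rw [hxy', inv_inv]
            _ = _ := by group
        have hi : ∀ n : ℕ, x ^ n * y = y * (x⁻¹) ^ n := by
          intro n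
          induction n with
          | zero => simp
          | succ n ih => rw [pow_succ, mul_assoc, hxy1, ← mul_assoc, ih, mul_assoc, ← pow_succ]
        have hsq : (y * x ^ i) ^ 2 = y ^ 2 := by
          calc (y * x ^ i) ^ 2 = y * (x ^ i * y) * x ^ i := by rw [pow_two]; group
            _ = _ := by rw [hi, inv_pow, pow_two]; group
        rw [show (4 : ℕ) = 2 * 2 from rfl, pow_mul, hsq, ← pow_mul]; exact hy4
    have ha1 : a = 1 := hmemA a ha 2 (by
      rw [← hea, hcea.mul_pow, show (4 : ℕ) = 2 * 2 from rfl, pow_mul, hEsq e he, one_pow, one_mul] at hq4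
      exact hq4)
    subst ha1
    rw [mul_one] at hea
    subst hea
    obtain ⟨heC, -⟩ := hEC he
    have hey : Commute e y := (Subgroup.mem_centralizer_iff.1 heC y hyQ).symm
    have hex : Commute e x := (Subgroup.mem_centralizer_iff.1 heC x hxQ).symm
    rw [Subgroup.mem_bot]
    obtain ⟨i, hie | hie⟩ := hQmem e hq
    · have hi' : e = x ^ (i % 4) := by rw [hie, ← hx, pow_mod_orderOf]
      have hlt : i % 4 < 4 := Nat.mod_lt _ (by norm_num)
      interval_cases hmv : i % 4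
      · rw [hi', pow_zero]
      · rw [hi', pow_one] at hey; exact absurd hey hxy
      · exact absurd (hi' ▸ he) hEc
      · have h1 : x = e⁻¹ := by rw [hi']; exact eq_inv_of_mul_eq_one_left (by rw [← pow_succ']; exact hx4)
        exact absurd (h1 ▸ hey.inv_left) hxy
    · have h1 : Commute (y * x ^ i) x := hie ▸ hex
      have h2 := h1.mul_left ((Commute.refl x).pow_left i).inv_left
      rw [mul_inv_cancel_right] at h2
      exact absurd h2.symm hxy
  · rw [eq_top_iff]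
    intro g _
    obtain ⟨s, z, rfl, hs, hz⟩ := hdec g
    obtain ⟨q, hq, hqs⟩ := hQC s
    -- `q⁻¹ s` is a `2`-element
    have hqC : Commute q (q⁻¹ * s) := Subgroup.mem_centralizer_iff.1 hqs q hq
    obtain ⟨k, hk⟩ := hs
    have hqs2 : ∃ j, orderOf (q⁻¹ * s) = 2 ^ j := by
      obtain ⟨eQ⟩ := hQ
      have hq8 : q⁻¹ ^ 8 = 1 := by
        have h1 : (⟨q⁻¹, Q.inv_mem hq⟩ : Q) ^ Nat.card Q = 1 := pow_card_eq_one'
        rw [Nat.card_congr eQ.toEquiv, Nat.card_eq_fintype_card, QuaternionGroup.card] at h1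
        exact congrArg Subtype.val h1
      have hcs : Commute q⁻¹ s := by
        have h1 := hqC.mul_right (Commute.refl q) |>.inv_left
        have h2 : Commute q⁻¹ ((q⁻¹ * s)) := hqC.inv_left
        have h3 := ((Commute.refl q⁻¹).inv_right).mul_right h2
        rwa [inv_inv, mul_inv_cancel_left] at h3
      have h3 : (q⁻¹ * s) ^ (2 ^ (k + 3)) = 1 := by
        rw [hcs.mul_pow, pow_add, show (2 : ℕ) ^ 3 = 8 from rfl, pow_mul', hq8, one_pow, one_mul,
          pow_mul, ← hk, pow_orderOf_eq_one, one_pow]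
      obtain ⟨j, -, hj⟩ := (Nat.dvd_prime_pow Nat.prime_two).1 (orderOf_dvd_of_pow_eq_one h3)
      exact ⟨j, hj⟩
    have hmem : q⁻¹ * s ∈ C₂ := ⟨hqs, hCexp _ hqs hqs2⟩
    have hz' : z ∈ Q ⊔ (E ⊔ A) := Subgroup.mem_sup_right (Subgroup.mem_sup_right hz)
    refine mul_mem ?_ hz'
    rcases hsup _ hmem with h | h
    · have := Subgroup.mul_mem_sup hq (Subgroup.mem_sup_left h : q⁻¹ * s ∈ E ⊔ A)
      rwa [mul_inv_cancel_left] at this
    · have := Subgroup.mul_mem_sup (Q.mul_mem hq (Q.inv_mem (Q.pow_mem hxQ 2))) (Subgroup.mem_sup_left h : x ^ 2 * (q⁻¹ * s) ∈ E ⊔ A)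
      rwa [mul_assoc q, inv_mul_cancel_left, mul_inv_cancel_left] at this

end Cfsg.Agent.S4211
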