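import Cfsg.Statements.S3021
import Mathlib

set_option autoImplicit false
open Cfsg

namespace Cfsg.Agent.S3021

open Subgroup

theorem conj_mem_map {G : Type*} [Group G] {H : Subgroup G} {g x : G} :
    x ∈ H.map (MulAut.conj g).toMonoidHom ↔ g⁻¹ * x * g ∈ H := by
  constructor
  · rintro ⟨y, hy, rfl⟩
    simpa [MulAut.conj_apply, mul_assoc] using hy
  · intro h
    exact ⟨_, h, by simp [MulAut.conj_apply, mul_assoc]⟩

theorem mem_of_conj_mem {G : Type*} [Group G] {H : Subgroup G} (hcl : Cfsg.IsExtremelyClosed H)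
    {g x : G} (hx : x ∈ H) (hn : g * x * g⁻¹ ∈ normalizer (H : Set G)) : g * x * g⁻¹ ∈ H :=
  (hcl g).le ⟨le_sup_right (a := H) ⟨x, hx, by simp⟩, hn⟩

theorem le_normalizer_of_le {G : Type*} [Group G] [Finite G] {p : ℕ} [Fact p.Prime] {H Q : Subgroup G}
    (hcl : Cfsg.IsExtremelyClosed H) (hQ : IsPGroup p ↥Q) (hHQ : H ≤ Q) :
    Q ≤ normalizer (H : Set G) := by
  set C : Subgroup ↥Q := (normalizer (H : Set G)).subgroupOf Q with hC
  suffices htop : C = ⊤ by
    intro y hy
    have : (⟨y, hy⟩ : ↥Q) ∈ C := htop ▸ mem_top _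
    exact this
  by_contra hne
  have : Group.IsNilpotent ↥Q := hQ.isNilpotent
  have hlt := Group.normalizerCondition_of_isNilpotent C (lt_top_iff_ne_top.2 hne)
  obtain ⟨n, hn, hnC⟩ := SetLike.exists_of_lt hlt
  apply hnC
  show (n : G) ∈ normalizer (H : Set G)
  rw [Subgroup.mem_normalizer_iff_map_conj_eq]
  refine Subgroup.eq_of_le_of_card_ge ?_
    (Subgroup.card_map_of_injective (MulAut.conj (n : G)).injective).ge
  rintro z ⟨y, hy, rfl⟩
  have h1 : (⟨y, hHQ hy⟩ : ↥Q) ∈ C := le_normalizer hy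
  exact mem_of_conj_mem hcl hy ((mem_normalizer_iff.1 hn _).1 h1)

/-- Let G be a finite group, p a prime and H a p-subgroup of G that is extremely closed (for every g, the subgroup generated by H and g H g⁻¹ meets N_G(H) exactly in H). Then every p-subgroup Q of G containing H has N_G(Q) ≤ N_G(H); in particular every Sylow p-subgroup P of G containing H normalizes H, and H is strongly closed in P with respect to G. -/
theorem result {G : Type*} [Group G] [Finite G] {p : ℕ} [Fact p.Prime] (H : Subgroup G) (hHp : IsPGroup p H) (hcl : Cfsg.IsExtremelyClosed H) : (∀ Q : Subgroup G, IsPGroup p Q → H ≤ Q → Subgroup.normalizer (Q : Set G) ≤ Subgroup.normalizer (H : Set G)) ∧ ∀ P : Sylow p G, H ≤ (P : Subgroup G) → (P : Subgroup G) ≤ Subgroup.normalizer (H : Set G) ∧ Cfsg.IsStronglyClosed H (P : Subgroup G) := by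
  refine ⟨fun Q hQ hHQ => ?_, fun P hHP => ?_⟩
  · intro n hn
    rw [Subgroup.mem_normalizer_iff_map_conj_eq]
    refine Subgroup.eq_of_le_of_card_ge ?_
      (Subgroup.card_map_of_injective (MulAut.conj n).injective).ge
    rintro z ⟨y, hy, rfl⟩
    exact mem_of_conj_mem hcl hy
      (le_normalizer_of_le hcl hQ hHQ ((mem_normalizer_iff.1 hn y).1 (hHQ hy)))
  · have h := le_normalizer_of_le hcl P.2 hHP
    exact ⟨h, hHP, fun x hx g hg => mem_of_conj_mem hcl hx (h hg)⟩

end Cfsg.Agent.S3021
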