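import Cfsg.Statements.S3020
import Cfsg.Agent.S3021

set_option autoImplicit false
open Cfsg

namespace Cfsg.Agent.S3020

open Subgroup

/-- Let G be a finite group, p a prime and H an abelian p-subgroup of G that is extremely closed (for every g, the subgroup generated by H and g H g⁻¹ meets N_G(H) exactly in H). Then for every g ∈ G, the subgroup T generated by H and g H g⁻¹ is the product of H with O_{p'}(T), and H meets O_{p'}(T) trivially; that is, O_{p'}(T) is a normal p-complement of H in T. -/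
theorem result {G : Type*} [Group G] [Finite G] {p : ℕ} [Fact p.Prime] (H : Subgroup G) (hHp : IsPGroup p H) (hHab : IsMulCommutative H) (hcl : Cfsg.IsExtremelyClosed H) (g : G) (T : Subgroup G) (hT : T = H ⊔ H.map (MulAut.conj g).toMonoidHom) : H ⊔ (Cfsg.pPrimeCore p ↥T).map T.subtype = T ∧ H ⊓ (Cfsg.pPrimeCore p ↥T).map T.subtype = ⊥ := by
  classical
  have hHT : H ≤ T := hT ▸ le_sup_left
  have hN : T ⊓ Subgroup.normalizer (H : Set G) = H := hT ▸ hcl g
  set H' : Subgroup ↥T := H.subgroupOf T with hH'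
  have hmapH : H'.map T.subtype = H := by
    rw [hH', Subgroup.subgroupOf_map_subtype, inf_eq_left.2 hHT]
  have hH'p : IsPGroup p ↥H' := hHp.of_equiv (Subgroup.subgroupOfEquivOfLe hHT).symm
  obtain ⟨P, hP⟩ := hH'p.exists_le_sylow
  have hPH : (P : Subgroup ↥T) = H' := by
    refine le_antisymm ?_ hP
    intro y hy
    show (y : G) ∈ H
    rw [← hN]
    refine ⟨y.2, S3021.le_normalizer_of_le hcl (P.2.map T.subtype) ?_ ⟨y, hy, rfl⟩⟩
    rw [← hmapH]
    exact Subgroup.map_mono hP
  have hnc : Subgroup.normalizer ((P : Subgroup ↥T) : Set ↥T) ≤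
      Subgroup.centralizer ((P : Subgroup ↥T) : Set ↥T) := by
    rw [hPH]
    intro n hn y hy
    have hnH : (n : G) ∈ H := by
      rw [← hN]
      refine ⟨n.2, ?_⟩
      show (n : G) ∈ Subgroup.normalizer (H : Set G)
      rw [Subgroup.mem_normalizer_iff_map_conj_eq]
      refine Subgroup.eq_of_le_of_card_ge ?_
        (Subgroup.card_map_of_injective (MulAut.conj (n : G)).injective).ge
      rintro z ⟨x, hx, rfl⟩
      exact (Subgroup.mem_normalizer_iff.1 hn ⟨x, hHT hx⟩).1 hx
    apply Subtype.ext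
    have e := mul_comm' (⟨(y : G), hy⟩ : ↥H) ⟨n, hnH⟩
    simpa using congrArg Subtype.val e
  set K := (MonoidHom.transferSylow P hnc).ker with hK
  have hKc : K.IsComplement' (P : Subgroup ↥T) :=
    MonoidHom.ker_transferSylow_isComplement' P hnc
  have hKcop : (Nat.card ↥K).Coprime p := (Nat.Prime.coprime_iff_not_dvd Fact.out).2
    (MonoidHom.not_dvd_card_ker_transferSylow P hnc) |>.symm
  have hKn : K.Normal := MonoidHom.normal_ker _
  have hle : K ≤ Cfsg.pPrimeCore p ↥T := le_sSup ⟨hKn, hKcop⟩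
  have hcore : Cfsg.pPrimeCore p ↥T = K := by
    refine le_antisymm (sSup_le fun N hN => ?_) hle
    intro y hy
    rw [MonoidHom.mem_ker, ← orderOf_eq_one_iff]
    obtain ⟨e, he⟩ := P.2.exists_card_eq
    refine Nat.eq_one_of_dvd_coprimes (a := Nat.card ↥N) (b := p ^ e) (hN.2.pow_right e) ?_ ?_
    · exact (orderOf_map_dvd _ y).trans (N.orderOf_dvd_natCard hy)
    · rw [← he]; exact orderOf_dvd_natCard _
  rw [hcore]
  constructor
  · rw [← hmapH, ← Subgroup.map_sup, ← hPH, sup_comm, hKc.sup_eq_top, ← MonoidHom.range_eq_map,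
      Subgroup.range_subtype]
  · rw [← hmapH, ← Subgroup.map_inf _ _ _ T.subtype_injective, ← hPH, inf_comm,
      hKc.disjoint.eq_bot, Subgroup.map_bot]

end Cfsg.Agent.S3020
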