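import Cfsg.Statements.S0868
import Mathlib
import Cfsg.Agent.Lib.CharGallagher

set_option autoImplicit false
open scoped ComplexConjugate
open Cfsg

namespace Cfsg.Agent.S0868

/-- Let N be a normal subgroup of the finite group G, χ an irreducible character of G whose restriction ϑ to N is irreducible, and ψ an irreducible character of G. Define η on G by η g = (1 / order of N) * Σ over n in N of ψ (n * g) * conj (χ (n * g)). Then: if the restriction of ψ to N has nonzero inner product with ϑ, η is an irreducible character of G; if that inner product is zero, η vanishes identically; and if ψ = χ then η is identically 1. -/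
theorem result {G : Type*} [Group G] [Fintype G] (N : Subgroup G) [N.Normal] [Fintype N] (χ : G → ℂ) (hχ : Cfsg.IsIrrCharacter G χ) (hχN : Cfsg.IsIrrCharacter N (fun n : N => χ n)) (ψ : G → ℂ) (hψ : Cfsg.IsIrrCharacter G ψ) (η : G → ℂ) (hη : η = fun g => (Nat.card N : ℂ)⁻¹ * ∑ n : N, ψ ((n : G) * g) * conj (χ ((n : G) * g))) : (Cfsg.classInner (fun n : N => ψ n) (fun n : N => χ n) ≠ 0 → Cfsg.IsIrrCharacter G η) ∧ (Cfsg.classInner (fun n : N => ψ n) (fun n : N => χ n) = 0 → η = 0) ∧ (ψ = χ → η = fun _ => 1) := by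
  classical
  letI : Fintype (G ⧸ N) := Fintype.ofFinite _
  have hGal := CharGallagher.bijOn_one N hχN hχ (fun n => rfl)
  -- average over a coset
  let av : (G → ℂ) → G → ℂ := fun ω g => (Nat.card N : ℂ)⁻¹ * ∑ n : N, ω ((n : G) * g) * conj (χ ((n : G) * g))
  have hcoset : ∀ (ω : G → ℂ) (g : G) (m : N), av ω ((m : G) * g) = av ω g := by
    intro ω g m
    simp only [av]
    congr 1
    exact Fintype.sum_equiv (Equiv.mulRight m) _ _ (fun n => by simp [mul_assoc])
  have hcl : ∀ ω : G → ℂ, Cfsg.IsClassFunction G ω → Cfsg.IsClassFunction G (av ω) := by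
    intro ω hω g h
    simp only [av]
    congr 1
    refine Fintype.sum_equiv (MulAut.conjNormal h⁻¹ : N ≃* N).toEquiv _ _ (fun n => ?_)
    have e : ((n : G) * (h * g * h⁻¹)) =
        h * ((((MulAut.conjNormal h⁻¹) n : N) : G) * g) * h⁻¹ := by
      rw [MulAut.conjNormal_apply]; simp [mul_assoc]
    rw [e, hω, CharInduced.isClassFunction_irr hχ]
    rfl
  -- `av` is characterised by inner products with characters trivial on `N`
  have hinner : ∀ (ω β : G → ℂ), (∀ (g : G) (m : N), β ((m : G) * g) = β g) →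
      Cfsg.classInner (av ω) β = Cfsg.classInner ω (β * χ) := by
    intro ω β hβ
    simp only [Cfsg.classInner, av, Pi.mul_apply, map_mul]
    congr 1
    have : ∀ n : N, ∑ g : G, ω ((n : G) * g) * conj (χ ((n : G) * g)) * conj (β g) =
        ∑ g : G, ω g * (conj (β g) * conj (χ g)) := by
      intro n
      refine Fintype.sum_equiv (Equiv.mulLeft (n : G)) _ _ (fun g => ?_)
      simp only [Equiv.coe_mulLeft, hβ g n]; ring
    simp only [Finset.sum_mul, mul_assoc ((Nat.card N : ℂ)⁻¹), ← Finset.mul_sum]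
    rw [Finset.sum_comm, Finset.sum_congr rfl fun n _ => this n, Finset.sum_const, Finset.card_univ,
      ← Nat.card_eq_fintype_card, nsmul_eq_mul, ← mul_assoc,
      inv_mul_cancel₀ (Nat.cast_ne_zero.2 Nat.card_pos.ne'), one_mul]
  have hext : ∀ f₁ f₂ : G → ℂ, Cfsg.IsClassFunction G f₁ → Cfsg.IsClassFunction G f₂ →
      (∀ (g : G) (m : N), f₁ ((m : G) * g) = f₁ g) → (∀ (g : G) (m : N), f₂ ((m : G) * g) = f₂ g) →
      (∀ β : Cfsg.IrrCharacter G, (∀ (g : G) (m : N), (β : G → ℂ) ((m : G) * g) = (β : G → ℂ) g) →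
        Cfsg.classInner f₁ β = Cfsg.classInner f₂ β) → f₁ = f₂ := by
    intro f₁ f₂ h₁ h₂ hc₁ hc₂ hip
    let p₁ : G ⧸ N → ℂ := fun q => f₁ q.out
    let p₂ : G ⧸ N → ℂ := fun q => f₂ q.out
    have hout : ∀ g : G, ∃ m : N, (QuotientGroup.mk g : G ⧸ N).out = (m : G) * g := by
      intro g
      obtain ⟨m, hm⟩ := QuotientGroup.mk_out_eq_mul N g
      exact ⟨⟨g * m * g⁻¹, (inferInstance : N.Normal).conj_mem (m : G) m.2 g⟩, by simp [hm]⟩
    have e₁ : ∀ g : G, p₁ g = f₁ g := fun g => by
      obtain ⟨m, hm⟩ := hout g; simp only [p₁, hm, hc₁]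
    have e₂ : ∀ g : G, p₂ g = f₂ g := fun g => by
      obtain ⟨m, hm⟩ := hout g; simp only [p₂, hm, hc₂]
    have hp : p₁ = p₂ := by
      refine CharBasicOrth.classFunction_ext ?_ ?_ ?_
      · intro a b
        induction a using QuotientGroup.induction_on with | H a =>
        induction b using QuotientGroup.induction_on with | H b =>
        rw [← QuotientGroup.mk_inv, ← QuotientGroup.mk_mul, ← QuotientGroup.mk_mul, e₁, e₁, h₁]
      · intro a b
        induction a using QuotientGroup.induction_on with | H a =>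
        induction b using QuotientGroup.induction_on with | H b =>
        rw [← QuotientGroup.mk_inv, ← QuotientGroup.mk_mul, ← QuotientGroup.mk_mul, e₂, e₂, h₂]
      · intro γ
        have hs : ∀ (p : G ⧸ N → ℂ),
            Cfsg.classInner p (γ : G ⧸ N → ℂ) =
              Cfsg.classInner (fun g : G => p g) (fun g : G => (γ : G ⧸ N → ℂ) g) := by
          intro p
          simp only [Cfsg.classInner]
          have e : ∑ g : G, p g * conj ((γ : G ⧸ N → ℂ) g) =
              (Nat.card N : ℂ) * ∑ q : G ⧸ N, p q * conj ((γ : G ⧸ N → ℂ) q) := by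
            rw [← Equiv.sum_comp (Subgroup.groupEquivQuotientProdSubgroup (s := N)).symm,
              Fintype.sum_prod_type, Finset.mul_sum]
            refine Finset.sum_congr rfl fun q _ => ?_
            have hq : ∀ m : N, (((Subgroup.groupEquivQuotientProdSubgroup (s := N)).symm (q, m) : G) : G ⧸ N) = q :=
              fun m => congrArg Prod.fst
                ((Subgroup.groupEquivQuotientProdSubgroup (s := N)).apply_symm_apply (q, m))
            simp only [hq, Finset.sum_const, Finset.card_univ, nsmul_eq_mul, Nat.card_eq_fintype_card]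
          rw [e, Subgroup.card_eq_card_quotient_mul_card_subgroup N, Nat.cast_mul]
          have h0 : (Nat.card N : ℂ) ≠ 0 := Nat.cast_ne_zero.2 Nat.card_pos.ne'
          field_simp
        rw [hs, hs, funext e₁, funext e₂]
        exact hip ⟨_, CharBasic.isIrrCharacter_comap (QuotientGroup.mk' N)
          (QuotientGroup.mk'_surjective N) γ.2⟩
          (fun g m => by simp [(QuotientGroup.eq_one_iff (m : G)).2 m.2])
    funext g
    rw [← e₁, ← e₂, hp]
  have htriv : ∀ β : G → ℂ, Cfsg.IsIrrCharacter G β → (∀ n : N, β n = β 1) →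
      ∀ (g : G) (m : N), β ((m : G) * g) = β g := by
    rintro β ⟨k, ρ, hρ, rfl⟩ h g m
    have : ρ (m : G) = LinearMap.id :=
      CharBasic.eq_one_of_character_eq_finrank ρ _ (by rw [h m, Representation.char_one])
    simp only [Representation.character, map_mul, this]
    rfl
  have hηcl : Cfsg.IsClassFunction G η := by rw [hη]; exact hcl ψ (CharInduced.isClassFunction_irr hψ)
  have hηco : ∀ (g : G) (m : N), η ((m : G) * g) = η g := by rw [hη]; exact hcoset ψ
  have hav : η = av ψ := hη
  have hmain : ∀ β : G → ℂ, Cfsg.IsIrrCharacter G β → (∀ n : N, β n = β 1) → ψ = β * χ → η = β := by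
    intro β hβ hβN heq
    refine hext η β hηcl (CharInduced.isClassFunction_irr hβ) hηco (htriv β hβ hβN) (fun γ hγ => ?_)
    rw [hav, hinner ψ _ hγ]
    have hγN : ∀ n : N, (γ : G → ℂ) n = (γ : G → ℂ) 1 := fun n => by simpa using hγ 1 n
    by_cases hβγ : β = (γ : G → ℂ)
    · rw [← hβγ, ← heq, CharBasicOrth.classInner_irr_self hψ, CharBasicOrth.classInner_irr_self hβ]
    · rw [CharBasicOrth.classInner_irr_ne hψ (hGal.1 ⟨γ.2, hγN⟩).1
        (fun e => hβγ (hGal.2.1 ⟨hβ, hβN⟩ ⟨γ.2, hγN⟩ (heq.symm.trans e))),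
        CharBasicOrth.classInner_irr_ne hβ γ.2 hβγ]
  refine ⟨fun h => ?_, fun h => ?_, fun h => ?_⟩
  · obtain ⟨β, ⟨hβ, hβN⟩, heq⟩ := hGal.2.2 ⟨hψ, h⟩
    rwa [hmain β hβ hβN heq.symm]
  · refine hext η 0 hηcl (fun _ _ => rfl) hηco (fun _ _ => rfl) (fun γ hγ => ?_)
    rw [hav, hinner ψ _ hγ]
    have hγN : ∀ n : N, (γ : G → ℂ) n = (γ : G → ℂ) 1 := fun n => by simpa using hγ 1 n
    rw [CharBasicOrth.classInner_irr_ne hψ (hGal.1 ⟨γ.2, hγN⟩).1 (fun e => (hGal.1 ⟨γ.2, hγN⟩).2 (by
      rw [show (fun n : N => ((γ : G → ℂ) * χ) n) = fun n : N => ψ n by rw [e]]; exact h))]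
    simp [Cfsg.classInner]
  · exact hmain _ CharBasicDecomp.isIrrCharacter_one (fun _ => rfl) (funext fun g => by simp [h])

end Cfsg.Agent.S0868
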