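import Cfsg.Statements.S0896
import Cfsg.Agent.Lib.BrauerInduction

set_option autoImplicit false
open scoped ComplexConjugate
open Cfsg

namespace Cfsg.Agent.S0896

open scoped ComplexConjugate
open Finset Cfsg.Agent.CharBasic Cfsg.Agent.CharBasicOrth Cfsg.Agent.CharBasicDecomp
open Cfsg.Agent.CharInduced Cfsg.Agent.BrauerInduction

universe u

/-- Modulo `p` only the invariant constituents count. -/
theorem dvd_sum_of_invariant {E : Type u} [Group E] [Fintype E] (p : ℕ) (hp : p.Prime)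
    (M : Subgroup E) [M.Normal] [Fintype M] (hM : ∃ k, M.index = p ^ k) (F : IrrCharacter M → ℕ)
    (hF : ∀ (φ φ' : IrrCharacter M) (e : E), (φ' : M → ℂ) = conjFun M (φ : M → ℂ) e → F φ' = F φ)
    (hfix : ∀ φ : IrrCharacter M, (∀ e : E, conjFun M (φ : M → ℂ) e = φ) → p ∣ F φ) :
    p ∣ ∑ φ, F φ := by
  classical
  rw [← Finset.sum_fiberwise_of_maps_to (t := Finset.univ.image fun φ : IrrCharacter M => orbitFin M (φ : M → ℂ))
    (g := fun φ : IrrCharacter M => orbitFin M (φ : M → ℂ)) (fun φ hφ => Finset.mem_image_of_mem _ hφ)]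
  refine Finset.dvd_sum fun O hO => ?_
  obtain ⟨φ₀, -, rfl⟩ := Finset.mem_image.1 hO
  set s := Finset.univ.filter fun φ : IrrCharacter M => orbitFin M (φ : M → ℂ) = orbitFin M (φ₀ : M → ℂ)
  have hconst : ∀ φ ∈ s, F φ = F φ₀ := by
    intro φ hφ
    have h : (φ : M → ℂ) ∈ orbitFin M (φ₀ : M → ℂ) :=
      (Finset.mem_filter.1 hφ).2 ▸ self_mem_orbitFin M _
    obtain ⟨g, hg⟩ := (mem_orbitFin M).1 h
    exact hF φ₀ φ g hg.symm
  have hcard : s.card = (orbitFin M (φ₀ : M → ℂ)).card := by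
    refine Finset.card_bij (fun φ _ => (φ : M → ℂ)) (fun φ hφ => ?_) (fun a _ b _ h => Subtype.ext h)
      fun ψ hψ => ?_
    · exact (Finset.mem_filter.1 hφ).2 ▸ self_mem_orbitFin M _
    · obtain ⟨g, rfl⟩ := (mem_orbitFin M).1 hψ
      refine ⟨⟨_, isIrrCharacter_conjFun M φ₀.2 g⟩, Finset.mem_filter.2 ⟨Finset.mem_univ _, ?_⟩, rfl⟩
      ext χ
      simp only [mem_orbitFin, conjFun_conjFun]
      exact ⟨fun ⟨a, ha⟩ => ⟨g * a, ha⟩, fun ⟨a, ha⟩ => ⟨g⁻¹ * a, by rw [mul_inv_cancel_left, ha]⟩⟩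
  rw [Finset.sum_congr rfl hconst, Finset.sum_const, smul_eq_mul, hcard]
  by_cases hI : inertia M (φ₀ : M → ℂ) = ⊤
  · refine Dvd.dvd.mul_left (hfix φ₀ fun e => ?_) _
    exact (mem_inertia M).1 (hI ▸ Subgroup.mem_top e)
  · refine Dvd.dvd.mul_right ?_ _
    have h1 := card_inertia_mul_card_orbit M (φ₀ : M → ℂ)
    rw [← (inertia M (φ₀ : M → ℂ)).card_mul_index] at h1
    rw [Nat.eq_of_mul_eq_mul_left Nat.card_pos h1]
    obtain ⟨k, hk⟩ := hM
    have h2 := Subgroup.index_dvd_of_le (le_inertia M (θ := (φ₀ : M → ℂ)) (isClassFunction_irr φ₀.2))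
    rw [hk] at h2
    obtain ⟨j, -, hj⟩ := (Nat.dvd_prime_pow hp).1 h2
    rw [hj]
    refine dvd_pow_self p fun hj0 => hI ?_
    rw [← Subgroup.index_eq_one, hj, hj0, pow_zero]

theorem dade {G : Type u} [Group G] [Fintype G] (p : ℕ) (hp : p.Prime) (N : Subgroup G) [hN : N.Normal]
    (hind : ∃ k : ℕ, N.index = p ^ k) (ϑ : N → ℂ) (hϑ : Cfsg.IsIrrCharacter N ϑ)
    (hinv : ∀ (g : G) (n : N), ϑ ⟨g * n * g⁻¹, hN.conj_mem (n : G) n.2 g⟩ = ϑ n) :
    ∃ (E : Subgroup G) (φ : ↥(E ⊓ N) → ℂ), Cfsg.IsElementary p E ∧ E ⊔ N = ⊤ ∧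
      Cfsg.IsIrrCharacter ↥(E ⊓ N) φ ∧
      (∀ (g : G) (hg : g ∈ E) (x : ↥(E ⊓ N)), φ ⟨g * x * g⁻¹, ⟨(E.mul_mem (E.mul_mem hg x.2.1) (E.inv_mem hg)), hN.conj_mem (x : G) x.2.2 g⟩⟩ = φ x) ∧
      ∃ m : ℕ, ¬ p ∣ m ∧ (Nat.card ↥(E ⊓ N) : ℂ)⁻¹ * ∑ᶠ x : ↥(E ⊓ N), ϑ ⟨(x : G), x.2.2⟩ * conj (φ x) = (m : ℂ) := by
  classical
  have : Fintype N := Fintype.ofFinite N
  by_contra hcon
  obtain ⟨m, hm, hmem⟩ := exists_const_mem_indSpan (G := G) p hp
  let L : (G → ℂ) → ℂ := fun f => (Nat.card N : ℂ)⁻¹ * ∑ n : N, f n * (ϑ n * conj (ϑ n))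
  have hLadd : ∀ f g, L (f + g) = L f + L g := fun f g => by
    simp [L, add_mul, Finset.sum_add_distrib, mul_add]
  have hLm : L (fun _ => (m : ℂ)) = (m : ℂ) := by
    have h := classInner_irr_self hϑ
    rw [classInner] at h
    simp only [L, ← Finset.mul_sum]
    rw [mul_left_comm, h, mul_one]
  suffices key : ∀ f ∈ indSpan (G := G) (fun H => IsElementary p H), ∃ z : ℤ, L f = (p : ℂ) * z by
    obtain ⟨z, hz⟩ := key _ hmem
    rw [hLm] at hz
    exact hm ⟨z, by exact_mod_cast hz⟩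
  intro f hf
  induction hf using AddSubgroup.closure_induction with
  | zero => exact ⟨0, by simp [L]⟩
  | add x y _ _ hx hy =>
    obtain ⟨a, ha⟩ := hx
    obtain ⟨b, hb⟩ := hy
    exact ⟨a + b, by rw [hLadd, ha, hb]; push_cast; ring⟩
  | neg x _ hx =>
    obtain ⟨a, ha⟩ := hx
    have h := hLadd x (-x)
    rw [add_neg_cancel, ha, show L 0 = 0 by simp [L]] at h
    exact ⟨-a, by push_cast; linear_combination -h⟩
  | mem x hx =>
  obtain ⟨E, ψ, hE, hψ, rfl⟩ := hx
  -- the value of the functional on an induced character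
  have : Fintype E := Fintype.ofFinite E
  let M : Subgroup E := N.subgroupOf E
  have hMn : M.Normal := inferInstance
  have : Fintype M := Fintype.ofFinite M
  let θM : M → ℂ := fun y => ϑ ⟨((y : E) : G), y.2⟩
  let ψM : M → ℂ := fun y => ψ (y : E)
  have hψM : IsCharacter M ψM := isCharacter_comap M.subtype hψ
  have hθMc : IsCharacter M θM := by
    let i : M →* N := { toFun := fun y => ⟨((y : E) : G), y.2⟩, map_one' := rfl, map_mul' := fun _ _ => rfl }
    exact isCharacter_comap i (isCharacter_of_isIrrCharacter hϑ)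
  have hval : L (indFun E ψ) = ((E ⊔ N).index : ℂ) * classInner (ψM * θM) θM := by
    have hswap : ∀ x : G, ∑ n : N, extendByZero E ψ (x⁻¹ * n * x) * (ϑ n * conj (ϑ n)) =
        ∑ y : M, ψM y * (θM y * conj (θM y)) := by
      intro x
      rw [← Fintype.sum_equiv (MulAut.conjNormal (H := N) x).toEquiv
        (fun n : N => extendByZero E ψ (n : G) * (ϑ n * conj (ϑ n)))
        (fun n : N => extendByZero E ψ (x⁻¹ * n * x) * (ϑ n * conj (ϑ n))) (fun n => by
          simp only [MulEquiv.toEquiv_eq_coe, EquivLike.coe_coe]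
          rw [MulAut.conjNormal_apply, show x⁻¹ * (x * (n : G) * x⁻¹) * x = n by group,
            show (MulAut.conjNormal (H := N) x n) = ⟨x * n * x⁻¹, hN.conj_mem (n : G) n.2 x⟩ from
              Subtype.ext (MulAut.conjNormal_apply x n), hinv])]
      rw [← Finset.sum_subset (Finset.subset_univ (Finset.univ.filter fun n : N => (n : G) ∈ E))
        (fun n _ hn => by rw [ext_zero_of_not_mem ψ (by simpa using hn), zero_mul])]
      refine Finset.sum_bij' (fun n hn => (⟨⟨n, (Finset.mem_filter.1 hn).2⟩, n.2⟩ : M))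
        (fun y _ => (⟨((y : E) : G), y.2⟩ : N)) (fun n hn => Finset.mem_univ _)
        (fun y _ => Finset.mem_filter.2 ⟨Finset.mem_univ _, (y : E).2⟩) (fun n hn => rfl) (fun y _ => rfl)
        fun n hn => ?_
      rw [ext_zero_of_mem ψ (Finset.mem_filter.1 hn).2]
    have h1 : L (indFun E ψ) = (Nat.card N : ℂ)⁻¹ * ((Nat.card E : ℂ)⁻¹ *
        ((Nat.card G : ℂ) * ∑ y : M, ψM y * (θM y * conj (θM y)))) := by
      simp only [L, indFun_apply, mul_assoc, Finset.sum_mul, ← Finset.mul_sum]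
      rw [Finset.sum_comm]
      simp only [← mul_assoc]
      have hsw : ∀ x : G, ∑ n : N, extendByZero E ψ (x⁻¹ * n * x) * ϑ n * conj (ϑ n) =
          ∑ y : M, ψM y * θM y * conj (θM y) := fun x => by simpa [mul_assoc] using hswap x
      rw [Finset.sum_congr rfl fun x _ => hsw x, Finset.sum_const, Finset.card_univ,
        ← Nat.card_eq_fintype_card, nsmul_eq_mul]
      ring
    have hcards : (Nat.card G : ℂ) * Nat.card M = ((E ⊔ N).index : ℂ) * ((Nat.card N : ℂ) * Nat.card E) := by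
      have h2 : N.relIndex (E ⊔ N) = N.relIndex E := Subgroup.relIndex_sup_right E N
      have h3 : Nat.card M * N.relIndex E = Nat.card E := M.card_mul_index
      have h4 : N.relIndex (E ⊔ N) * (E ⊔ N).index = N.index := Subgroup.relIndex_mul_index le_sup_right
      have h5 : Nat.card N * N.index = Nat.card G := N.card_mul_index
      have h6 : Nat.card G * Nat.card M = (E ⊔ N).index * (Nat.card N * Nat.card E) := by
        rw [← h5, ← h4, h2, ← h3]; ring
      exact_mod_cast h6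
    rw [h1, classInner]
    simp only [Pi.mul_apply, mul_assoc]
    have hE0 : (Nat.card E : ℂ) ≠ 0 := Nat.cast_ne_zero.2 Nat.card_pos.ne'
    have hN0 : (Nat.card N : ℂ) ≠ 0 := Nat.cast_ne_zero.2 Nat.card_pos.ne'
    have hM0 : (Nat.card M : ℂ) ≠ 0 := Nat.cast_ne_zero.2 Nat.card_pos.ne'
    generalize (∑ y : M, ψM y * (θM y * conj (θM y))) = S
    field_simp
    linear_combination S * hcards
  obtain ⟨u, hu⟩ := classInner_isCharacter (isCharacter_mul hψM hθMc) hθMc
  by_cases hsup : E ⊔ N = ⊤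
  swap
  · obtain ⟨k, hk⟩ := hind
    have h2 := Subgroup.index_dvd_of_le (le_sup_right : N ≤ E ⊔ N)
    rw [hk] at h2
    obtain ⟨j, -, hj⟩ := (Nat.dvd_prime_pow hp).1 h2
    obtain ⟨i, rfl⟩ : ∃ i, j = i + 1 := Nat.exists_eq_succ_of_ne_zero fun h0 => hsup
      (Subgroup.index_eq_one.1 (by rw [hj, h0, pow_zero]))
    exact ⟨(p : ℤ) ^ i * u, by rw [hval, hj, hu]; push_cast; ring⟩
  -- decompose the restriction
  obtain ⟨c, hc, hcs⟩ := exists_mult hθMc
  choose s hs using fun φ : IrrCharacter M =>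
    classInner_isCharacter (isCharacter_mul hψM (isCharacter_of_isIrrCharacter φ.2)) hθMc
  have hu' : u = ∑ φ, c φ * s φ := by
    have h1 : ψM * θM = ∑ φ : IrrCharacter M, (c φ : ℂ) • (ψM * (φ : M → ℂ)) := by
      conv_lhs => rw [hcs, Finset.mul_sum]
      exact Finset.sum_congr rfl fun φ _ => by rw [mul_smul_comm]
    have h2 := hu
    conv_lhs at h2 => rw [h1, CharInduced.inner_sum_left]
    rw [Finset.sum_congr rfl fun φ _ => by rw [CharInduced.inner_smul_left, hs, ← Nat.cast_mul],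
      ← Nat.cast_sum] at h2
    exact_mod_cast h2.symm
  have hθinv : ∀ e : E, conjFun M θM e = θM := fun e => funext fun y => by
    show ϑ ⟨((e : E) : G) * ((y : E) : G) * ((e : E) : G)⁻¹, _⟩ = _
    exact hinv (e : G) ⟨((y : E) : G), y.2⟩
  have hψinv : ∀ e : E, conjFun M ψM e = ψM := fun e =>
    conjFun_res M (CharBasic.isClassFunction_of_isCharacter hψ) e
  have hM : ∃ k, M.index = p ^ k := by
    obtain ⟨k, hk⟩ := hind
    have h2 := Subgroup.relIndex_dvd_index_of_normal N E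
    rw [hk] at h2
    obtain ⟨j, -, hj⟩ := (Nat.dvd_prime_pow hp).1 h2
    exact ⟨j, hj⟩
  have hdvd : p ∣ u := by
    rw [hu']
    refine dvd_sum_of_invariant p hp M hM _ (fun φ φ' e he => ?_) fun φ hφ => ?_
    · have h1 : c φ' = c φ := by
        have h := hc φ'
        rw [he] at h
        have h2 := CharInduced.inner_conjFun M θM (φ : M → ℂ) e
        rw [hθinv, h, hc φ] at h2
        exact_mod_cast h2
      have h2 : s φ' = s φ := by
        have h := hs φ'
        rw [he] at h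
        have h2 := CharInduced.inner_conjFun M (ψM * (φ : M → ℂ)) θM e
        rw [hθinv, show conjFun M (ψM * (φ : M → ℂ)) e = conjFun M ψM e * conjFun M (φ : M → ℂ) e from rfl,
          hψinv, h, hs φ] at h2
        exact_mod_cast h2
      rw [h1, h2]
    · refine Dvd.dvd.mul_right ?_ _
      by_contra hndvd
      apply hcon
      let e0 : ↥(E ⊓ N) ≃* M :=
        { toFun := fun x => ⟨⟨(x : G), x.2.1⟩, x.2.2⟩
          invFun := fun y => ⟨((y : E) : G), (y : E).2, y.2⟩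
          left_inv := fun _ => rfl
          right_inv := fun _ => rfl
          map_mul' := fun _ _ => rfl }
      have : Fintype ↥(E ⊓ N) := Fintype.ofFinite _
      refine ⟨E, fun x => (φ : M → ℂ) (e0 x), hE, hsup,
        isIrrCharacter_comap e0.toMonoidHom e0.surjective φ.2, fun g hg x => ?_, c φ, hndvd, ?_⟩
      · exact congrFun (hφ ⟨g, hg⟩) (e0 x)
      · rw [← hc φ, finsum_eq_sum_of_fintype]
        exact classInner_congr_equiv e0 θM φ
  obtain ⟨w, hw⟩ := hdvd
  exact ⟨w, by rw [hval, hsup, Subgroup.index_top, hu, hw]; push_cast; ring⟩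

/-- Let N be a normal subgroup of the finite group G with the index of N a power of the prime p, and ϑ an irreducible character of N invariant under conjugation by G. Then there are a p-elementary subgroup E of G with E ⊔ N = ⊤ and an irreducible character φ of the subgroup E ⊓ N, invariant under conjugation by E, such that the inner product of the restriction of ϑ to E ⊓ N with φ is an integer not divisible by p. -/
theorem result {G : Type*} [Group G] [Fintype G] (p : ℕ) (hp : p.Prime) (N : Subgroup G) [hN : N.Normal] (hind : ∃ k : ℕ, N.index = p ^ k) (ϑ : N → ℂ) (hϑ : Cfsg.IsIrrCharacter N ϑ) (hinv : ∀ (g : G) (n : N), ϑ ⟨g * n * g⁻¹, hN.conj_mem (n : G) n.2 g⟩ = ϑ n) : ∃ (E : Subgroup G) (φ : ↥(E ⊓ N) → ℂ), Cfsg.IsElementary p E ∧ E ⊔ N = ⊤ ∧ Cfsg.IsIrrCharacter ↥(E ⊓ N) φ ∧ (∀ (g : G) (hg : g ∈ E) (x : ↥(E ⊓ N)), φ ⟨g * x * g⁻¹, ⟨(E.mul_mem (E.mul_mem hg x.2.1) (E.inv_mem hg)), hN.conj_mem (x : G) x.2.2 g⟩⟩ = φ x) ∧ ∃ m : ℕ, ¬ p ∣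 m ∧ (Nat.card ↥(E ⊓ N) : ℂ)⁻¹ * ∑ᶠ x : ↥(E ⊓ N), ϑ ⟨(x : G), x.2.2⟩ * conj (φ x) = (m : ℂ) := by
  classical
  exact dade p hp N hind ϑ hϑ hinv

end Cfsg.Agent.S0896
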