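import Cfsg.Statements.S0897
import Cfsg.Agent.S0896
import Cfsg.Agent.S0887
import Cfsg.Agent.Lib.CharBasicLinear
import Cfsg.Agent.Lib.CharInducedAbelianQuot

set_option autoImplicit false
open Cfsg

namespace Cfsg.Agent.S0897

open scoped ComplexConjugate
open Finset Cfsg.Agent.CharBasic Cfsg.Agent.CharBasicOrth Cfsg.Agent.CharBasicDecomp
open Cfsg.Agent.CharInduced

universe u

/-- An elementary supplement to `N` carries an extension of every irreducible character of its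
intersection with `N`. -/
theorem exists_linear_extension {G : Type u} [Group G] [Fintype G] (p : ℕ) [Fact p.Prime]
    (N : Subgroup G) [hN : N.Normal] (hind : ∃ k : ℕ, N.index = p ^ k) (P : Sylow p G)
    (hcent : ∀ x ∈ (P : Subgroup G) ⊓ N, ∀ y ∈ (P : Subgroup G), x * y = y * x)
    (hlin : ∀ lam : ↥((P : Subgroup G) ⊓ N) → ℂ, Cfsg.IsCharacter ↥((P : Subgroup G) ⊓ N) lam →
      lam 1 = 1 → ∃ μ : ↥(P : Subgroup G) → ℂ, Cfsg.IsCharacter ↥(P : Subgroup G) μ ∧ μ 1 = 1 ∧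
        ∀ x : ↥((P : Subgroup G) ⊓ N), μ ⟨(x : G), x.2.1⟩ = lam x)
    (E : Subgroup G) (hE : Cfsg.IsElementary p E) (φ : ↥(E ⊓ N) → ℂ)
    (hφ : Cfsg.IsIrrCharacter ↥(E ⊓ N) φ) :
    ∃ ψ : E → ℂ, IsCharacter E ψ ∧ ∀ x : ↥(E ⊓ N), ψ ⟨(x : G), x.2.1⟩ = φ x := by
  classical
  have hp : p.Prime := Fact.out
  obtain ⟨x, hxc, hcop, k, hk⟩ := hE
  set C : Subgroup E := Subgroup.zpowers x with hC
  have hCc : C ≤ Subgroup.center E := Subgroup.zpowers_le.2 hxc
  have hCn : C.Normal := ⟨fun n hn g => by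
    rwa [Subgroup.mem_center_iff.1 (hCc hn) g, mul_inv_cancel_right]⟩
  obtain ⟨Q⟩ : Nonempty (Sylow p E) := inferInstance
  have hCcard : Nat.card C = orderOf x := Nat.card_zpowers x
  have hcard : Nat.card E = orderOf x * p ^ k := by rw [← hCcard, ← hk, C.card_mul_index]
  have hpQ : p ^ k ∣ Nat.card (Q : Subgroup E) := Q.pow_dvd_card_of_pow_dvd_card ⟨orderOf x, by rw [hcard, mul_comm]⟩
  have hdisj : Disjoint C (Q : Subgroup E) := by
    refine disjoint_iff.2 (Subgroup.inf_eq_bot_of_coprime ?_)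
    obtain ⟨j, hj⟩ := IsPGroup.iff_card.1 Q.isPGroup'
    rw [hCcard, hj]
    exact Nat.Coprime.pow_right j hcop
  have hgen : C ⊔ (Q : Subgroup E) = ⊤ := by
    refine Subgroup.eq_top_of_le_card _ ?_
    refine Nat.le_of_dvd Nat.card_pos ?_
    rw [hcard]
    refine Nat.Coprime.mul_dvd_of_dvd_of_dvd (Nat.Coprime.pow_right k hcop) ?_ ?_
    · rw [← hCcard]; exact Subgroup.card_dvd_of_le le_sup_left
    · exact hpQ.trans (Subgroup.card_dvd_of_le le_sup_right)
  have hxN : ((x : E) : G) ∈ N := by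
    rw [← QuotientGroup.eq_one_iff, ← orderOf_eq_one_iff]
    obtain ⟨j, hj⟩ := hind
    refine Nat.eq_one_of_dvd_coprimes (Nat.Coprime.pow_right j hcop) ?_ ?_
    · rw [← Subgroup.orderOf_coe x]
      exact orderOf_map_dvd (QuotientGroup.mk' N) (x : G)
    · rw [← hj]; exact orderOf_dvd_natCard (((x : E) : G) : G ⧸ N)
  have hCN : ∀ c ∈ C, ((c : E) : G) ∈ N := by
    intro c hc
    obtain ⟨i, rfl⟩ := Subgroup.mem_zpowers_iff.1 hc
    rw [Subgroup.coe_zpow]
    exact N.zpow_mem hxN i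
  -- move the Sylow subgroup of `E` into `P`
  obtain ⟨R, hR⟩ := (Q.isPGroup'.map E.subtype).exists_le_sylow
  obtain ⟨g, hg⟩ := MulAction.exists_smul_eq G R P
  have hQP : ∀ q ∈ (Q : Subgroup E), g * ((q : E) : G) * g⁻¹ ∈ (P : Subgroup G) := by
    intro q hq
    rw [← hg]
    exact ⟨(q : G), hR ⟨q, hq, rfl⟩, rfl⟩
  -- `E ⊓ N` is abelian
  have hdec : ∀ e : E, ∃ c ∈ C, ∃ q ∈ (Q : Subgroup E), c * q = e := fun e =>
    Subgroup.mem_sup_of_normal_left.1 (hgen ▸ Subgroup.mem_top e)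
  have hNcomm : ∀ m : E, (m : G) ∈ N → ∀ e : E, m * e = e * m := by
    intro m hm e
    obtain ⟨c, hc, q, hq, rfl⟩ := hdec m
    obtain ⟨d, hd, r, hr, rfl⟩ := hdec e
    have hqN : ((q : E) : G) ∈ N := by
      have := N.mul_mem (N.inv_mem (hCN c hc)) hm
      simpa using this
    have hqr : q * r = r * q := by
      apply Subtype.ext
      have h := hcent (g * (q : G) * g⁻¹) ⟨hQP q hq, hN.conj_mem _ hqN g⟩ _ (hQP r hr)
      simp only [mul_assoc, inv_mul_cancel_left] at h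
      have h' := mul_left_cancel h
      rw [← mul_assoc, ← mul_assoc] at h'
      exact mul_right_cancel h'
    have hcc : ∀ z : E, z * c = c * z := Subgroup.mem_center_iff.1 (hCc hc)
    have hdd : ∀ z : E, z * d = d * z := Subgroup.mem_center_iff.1 (hCc hd)
    calc c * q * (d * r) = c * (q * d) * r := by group
      _ = c * (d * q) * r := by rw [hdd q]
      _ = (c * d) * (q * r) := by group
      _ = (d * c) * (r * q) := by rw [hqr, ← hcc d]
      _ = d * (c * r) * q := by group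
      _ = d * (r * c) * q := by rw [hcc r]
      _ = d * r * (c * q) := by group
  obtain ⟨l, hl⟩ := CharBasicLinear.exists_hom_of_comm (fun a b : ↥(E ⊓ N) => Subtype.ext
    (congrArg (Subtype.val : E → G) (hNcomm ⟨(a : G), a.2.1⟩ a.2.2 ⟨(b : G), b.2.1⟩))) hφ
  -- the part on `P ⊓ N`
  let A : Subgroup G := (P : Subgroup G) ⊓ N
  let _ : CommGroup A := { (inferInstance : Group A) with
    mul_comm := fun a b => Subtype.ext (hcent a a.2 b b.2.1) }
  let B : Subgroup A := ((E ⊓ N).map (MulAut.conj g).toMonoidHom).subgroupOf A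
  have hB : ∀ b : B, g⁻¹ * ((b : A) : G) * g ∈ E ⊓ N := by
    rintro ⟨b, z, hz, hzb⟩
    have hzb' : g * z * g⁻¹ = (b : G) := hzb
    rw [← hzb']
    simpa [mul_assoc] using hz
  let lB : B →* ℂˣ :=
    { toFun := fun b => l ⟨_, hB b⟩
      map_one' := by
        rw [← map_one l]; congr 1; apply Subtype.ext; simp
      map_mul' := fun a b => by
        rw [← map_mul l]; congr 1; apply Subtype.ext; simp [mul_assoc] }
  obtain ⟨lA, hlA⟩ := MonoidHom.domRestrict_surjective (M := ℂ) B lB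
  obtain ⟨μ, hμc, hμ1, hμ⟩ := hlin (fun a => (lA a : ℂ)) (isCharacter_linear (G := A) lA) (by simp)
  obtain ⟨lP, hlP⟩ := CharBasicLinear.exists_hom_of_apply_one_eq_one hμc hμ1
  -- assemble
  let lC : C →* ℂˣ :=
    { toFun := fun c => l ⟨((c : E) : G), (c : E).2, hCN c c.2⟩
      map_one' := map_one l
      map_mul' := fun a b => map_mul l ⟨((a : E) : G), (a : E).2, hCN a a.2⟩ ⟨((b : E) : G), (b : E).2, hCN b b.2⟩ }
  let lQ : (Q : Subgroup E) →* ℂˣ :=
    { toFun := fun q => lP ⟨_, hQP q q.2⟩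
      map_one' := by
        rw [← map_one lP]; congr 1; apply Subtype.ext; simp
      map_mul' := fun a b => by
        rw [← map_mul lP]; congr 1; apply Subtype.ext; simp [mul_assoc] }
  let j : C × (Q : Subgroup E) →* E := C.subtype.noncommCoprod (Q : Subgroup E).subtype
    (fun c q => ((Subgroup.mem_center_iff.1 (hCc c.2) (q : E)).symm : Commute (c : E) (q : E)))
  have hj : Function.Bijective j := by
    refine ⟨fun a b h => Subgroup.mul_injective_of_disjoint hdisj h, fun e => ?_⟩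
    obtain ⟨c, hc, q, hq, rfl⟩ := hdec e
    exact ⟨(⟨c, hc⟩, ⟨q, hq⟩), rfl⟩
  let lE : E →* ℂˣ := (lC.coprod lQ).comp (MulEquiv.ofBijective j hj).symm.toMonoidHom
  refine ⟨fun e => (lE e : ℂ), isCharacter_linear lE, fun m => ?_⟩
  simp only [hl]
  refine congrArg Units.val ?_
  obtain ⟨c, hc, q, hq, hm⟩ := hdec ⟨(m : G), m.2.1⟩
  have hm' : (c : G) * (q : G) = (m : G) := congrArg Subtype.val hm
  have hqN : ((q : E) : G) ∈ N := by
    have := N.mul_mem (N.inv_mem (hCN c hc)) m.2.2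
    rw [← hm'] at this
    simpa using this
  have hsymm : (MulEquiv.ofBijective j hj).symm ⟨(m : G), m.2.1⟩ = (⟨c, hc⟩, ⟨q, hq⟩) := by
    rw [MulEquiv.symm_apply_eq]; exact hm.symm
  show (lC.coprod lQ) ((MulEquiv.ofBijective j hj).symm ⟨(m : G), m.2.1⟩) = l m
  rw [hsymm, MonoidHom.coprod_apply]
  have hsplit : l m = l ⟨(c : G), c.2, hCN c hc⟩ * l ⟨(q : G), q.2, hqN⟩ := by
    rw [← map_mul]; congr 1; exact Subtype.ext hm'.symm
  rw [hsplit]
  congr 1
  have hqA : g * (q : G) * g⁻¹ ∈ A := ⟨hQP q hq, hN.conj_mem _ hqN g⟩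
  have hqB : (⟨_, hqA⟩ : A) ∈ B := ⟨(q : G), ⟨q.2, hqN⟩, rfl⟩
  have e1 := DFunLike.congr_fun hlA (⟨_, hqB⟩ : B)
  have e2 : lP ⟨_, hQP q hq⟩ = lA ⟨_, hqA⟩ := by
    apply Units.ext
    have := hμ ⟨_, hqA⟩
    rw [hlP] at this
    exact this
  show lP ⟨_, hQP q hq⟩ = _
  rw [e2]
  refine e1.trans ?_
  show l _ = l _
  congr 1
  apply Subtype.ext
  show g⁻¹ * (g * (q : G) * g⁻¹) * g = q
  group

theorem extends_aux {G : Type u} [Group G] [Fintype G] (p : ℕ) [Fact p.Prime]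
    (N : Subgroup G) [hN : N.Normal] (hind : ∃ k : ℕ, N.index = p ^ k) (P : Sylow p G)
    (hcent : ∀ x ∈ (P : Subgroup G) ⊓ N, ∀ y ∈ (P : Subgroup G), x * y = y * x)
    (hlin : ∀ lam : ↥((P : Subgroup G) ⊓ N) → ℂ, Cfsg.IsCharacter ↥((P : Subgroup G) ⊓ N) lam →
      lam 1 = 1 → ∃ μ : ↥(P : Subgroup G) → ℂ, Cfsg.IsCharacter ↥(P : Subgroup G) μ ∧ μ 1 = 1 ∧
        ∀ x : ↥((P : Subgroup G) ⊓ N), μ ⟨(x : G), x.2.1⟩ = lam x)
    (ϑ : N → ℂ) (hϑ : Cfsg.IsIrrCharacter N ϑ)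
    (hinv : ∀ (g : G) (n : N), ϑ ⟨g * n * g⁻¹, hN.conj_mem (n : G) n.2 g⟩ = ϑ n) :
    ∃ χ : G → ℂ, Cfsg.IsIrrCharacter G χ ∧ ∀ n : N, χ n = ϑ n := by
  classical
  have hp : p.Prime := Fact.out
  have : Fintype N := Fintype.ofFinite N
  obtain ⟨E, φ, hE, hsup, hφ, -, m, hm, hinner⟩ := Cfsg.Agent.S0896.result p hp N hind ϑ hϑ hinv
  have : Fintype ↥(E ⊓ N) := Fintype.ofFinite _
  have : Fintype E := Fintype.ofFinite E
  obtain ⟨ψ, hψ, hψφ⟩ := exists_linear_extension p N hind P hcent hlin E hE φ hφ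
  rw [finsum_eq_sum_of_fintype] at hinner
  have hinner' : (Nat.card ↥(E ⊓ N) : ℂ)⁻¹ * ∑ y : ↥(E ⊓ N), φ y * conj (ϑ ⟨(y : G), y.2.2⟩) = (m : ℂ) := by
    have h := congrArg (starRingEnd ℂ) hinner
    simp only [map_mul, map_inv₀, Complex.conj_natCast, map_sum, Complex.conj_conj] at h
    rw [← h]
    congr 1
    exact Finset.sum_congr rfl fun y _ => mul_comm _ _
  let Φ := indFun E ψ
  have hΦ : IsCharacter G Φ := isCharacter_ind E hψ
  have hΦN : classInner (fun n : N => Φ n) ϑ = (m : ℂ) := by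
    have hswap : ∀ x : G, ∑ n : N, extendByZero E ψ (x⁻¹ * n * x) * conj (ϑ n) =
        ∑ y : ↥(E ⊓ N), φ y * conj (ϑ ⟨(y : G), y.2.2⟩) := by
      intro x
      rw [← Fintype.sum_equiv (MulAut.conjNormal (H := N) x).toEquiv
        (fun n : N => extendByZero E ψ (n : G) * conj (ϑ n))
        (fun n : N => extendByZero E ψ (x⁻¹ * n * x) * conj (ϑ n)) (fun n => by
          simp only [MulEquiv.toEquiv_eq_coe, EquivLike.coe_coe]
          rw [MulAut.conjNormal_apply, show x⁻¹ * (x * (n : G) * x⁻¹) * x = n by group,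
            show (MulAut.conjNormal (H := N) x n) = ⟨x * n * x⁻¹, hN.conj_mem (n : G) n.2 x⟩ from
              Subtype.ext (MulAut.conjNormal_apply x n), hinv])]
      rw [← Finset.sum_subset (Finset.subset_univ (Finset.univ.filter fun n : N => (n : G) ∈ E))
        (fun n _ hn => by rw [ext_zero_of_not_mem ψ (by simpa using hn), zero_mul])]
      refine Finset.sum_bij' (fun n hn => (⟨(n : G), (Finset.mem_filter.1 hn).2, n.2⟩ : ↥(E ⊓ N)))
        (fun y _ => (⟨(y : G), y.2.2⟩ : N)) (fun n hn => Finset.mem_univ _)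
        (fun y _ => Finset.mem_filter.2 ⟨Finset.mem_univ _, y.2.1⟩) (fun n hn => rfl) (fun y _ => rfl)
        fun n hn => ?_
      rw [ext_zero_of_mem ψ (Finset.mem_filter.1 hn).2]
      congr 1
      exact hψφ ⟨(n : G), (Finset.mem_filter.1 hn).2, n.2⟩
    have h1 : classInner (fun n : N => Φ n) ϑ = (Nat.card N : ℂ)⁻¹ * ((Nat.card E : ℂ)⁻¹ *
        ((Nat.card G : ℂ) * ∑ y : ↥(E ⊓ N), φ y * conj (ϑ ⟨(y : G), y.2.2⟩))) := by
      simp only [classInner, Φ, indFun_apply, mul_assoc, Finset.sum_mul, ← Finset.mul_sum]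
      rw [Finset.sum_comm]
      simp only [← mul_assoc]
      rw [Finset.sum_congr rfl fun x _ => hswap x, Finset.sum_const, Finset.card_univ,
        ← Nat.card_eq_fintype_card, nsmul_eq_mul]
      ring
    have hcards : (Nat.card G : ℂ) * Nat.card ↥(E ⊓ N) = (Nat.card N : ℂ) * Nat.card E := by
      have h2 : N.relIndex (E ⊔ N) = N.relIndex E := Subgroup.relIndex_sup_right E N
      rw [hsup, Subgroup.relIndex_top_right] at h2
      have h3 : Nat.card (N.subgroupOf E) * N.relIndex E = Nat.card E := (N.subgroupOf E).card_mul_index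
      have h4 : Nat.card (N.subgroupOf E) = Nat.card ↥(E ⊓ N) := Nat.card_congr
        { toFun := fun y => ⟨((y : E) : G), (y : E).2, y.2⟩
          invFun := fun y => ⟨⟨(y : G), y.2.1⟩, y.2.2⟩
          left_inv := fun _ => rfl
          right_inv := fun _ => rfl }
      have h5 : Nat.card N * N.index = Nat.card G := N.card_mul_index
      have h6 : Nat.card G * Nat.card ↥(E ⊓ N) = Nat.card N * Nat.card E := by
        rw [← h5, h2, ← h4, ← h3]; ring
      exact_mod_cast h6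
    rw [h1]
    have hM0 : (Nat.card ↥(E ⊓ N) : ℂ) ≠ 0 := Nat.cast_ne_zero.2 Nat.card_pos.ne'
    rw [inv_mul_eq_iff_eq_mul₀ hM0] at hinner'
    rw [hinner', ← mul_assoc (Nat.card G : ℂ), hcards]
    have hE0 : (Nat.card E : ℂ) ≠ 0 := Nat.cast_ne_zero.2 Nat.card_pos.ne'
    have hN0 : (Nat.card N : ℂ) ≠ 0 := Nat.cast_ne_zero.2 Nat.card_pos.ne'
    field_simp
  obtain ⟨c, hc, hcs⟩ := exists_mult hΦ
  choose e he using fun χ : IrrCharacter G =>
    classInner_isCharacter (isCharacter_comap N.subtype (isCharacter_of_isIrrCharacter χ.2))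
      (isCharacter_of_isIrrCharacter hϑ)
  have hsum : m = ∑ χ, c χ * e χ := by
    have h1 : (fun n : N => Φ n) = ∑ χ : IrrCharacter G, (c χ : ℂ) • ((χ : G → ℂ) ∘ N.subtype) := by
      funext n
      have := congrFun hcs (n : G)
      simpa [Finset.sum_apply] using this
    rw [h1, CharInduced.inner_sum_left, Finset.sum_congr rfl fun χ _ => by
      rw [CharInduced.inner_smul_left, he, ← Nat.cast_mul], ← Nat.cast_sum] at hΦN
    exact_mod_cast hΦN.symm
  obtain ⟨χ, hχ⟩ : ∃ χ, ¬ p ∣ e χ := by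
    by_contra hcon
    push Not at hcon
    exact hm (hsum ▸ Finset.dvd_sum fun χ _ => (hcon χ).mul_left _)
  have he0 : classInner (fun n : N => (χ : G → ℂ) n) ϑ ≠ 0 := by
    intro h
    have h' := (he χ).symm.trans h
    exact hχ (by rw [show e χ = 0 by exact_mod_cast h']; exact dvd_zero p)
  obtain ⟨d, hdpos, hd⟩ := isIrrCharacter_apply_one hϑ
  obtain ⟨n, -, hn⟩ := isIrrCharacter_apply_one χ.2
  have hres := res_eq_smul_of_invariant N hϑ (fun g => funext (hinv g)) χ.2 he0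
  rw [show classInner (fun y : N => (χ : G → ℂ) y) ϑ = (e χ : ℂ) from he χ] at hres
  have hdeg : n = e χ * d := by
    have h := congrFun hres 1
    simp only [OneMemClass.coe_one, hn, Pi.smul_apply, smul_eq_mul, hd] at h
    exact_mod_cast h
  obtain ⟨-, hdvd⟩ := Cfsg.Agent.S0887.result N (χ : G → ℂ) χ.2 ϑ hϑ he0 n d hn hd
  rw [hdeg, Nat.mul_div_cancel _ hdpos] at hdvd
  obtain ⟨k, hk⟩ := hind
  rw [hk] at hdvd
  obtain ⟨j, -, hj⟩ := (Nat.dvd_prime_pow hp).1 hdvd
  have he1 : e χ = 1 := by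
    rcases Nat.eq_zero_or_pos j with rfl | hjpos
    · simpa using hj
    · exact absurd (hj ▸ dvd_pow_self p hjpos.ne') hχ
  refine ⟨χ, χ.2, fun y => ?_⟩
  have h := congrFun hres y
  rwa [he1, Nat.cast_one, one_smul] at h

/-- Let N be a normal subgroup of the finite group G with the index of N a power of the prime p, and P a Sylow p-subgroup of G such that P ⊓ N lies in the centre of P and every character of degree 1 of P ⊓ N is the restriction of a character of degree 1 of P. Then every irreducible character of N invariant under conjugation by G is the restriction of an irreducible character of G. -/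
theorem result {G : Type*} [Group G] [Fintype G] (p : ℕ) [Fact p.Prime] (N : Subgroup G) [hN : N.Normal] (hind : ∃ k : ℕ, N.index = p ^ k) (P : Sylow p G) (hcent : ∀ x ∈ (P : Subgroup G) ⊓ N, ∀ y ∈ (P : Subgroup G), x * y = y * x) (hlin : ∀ lam : ↥((P : Subgroup G) ⊓ N) → ℂ, Cfsg.IsCharacter ↥((P : Subgroup G) ⊓ N) lam → lam 1 = 1 → ∃ μ : ↥(P : Subgroup G) → ℂ, Cfsg.IsCharacter ↥(P : Subgroup G) μ ∧ μ 1 = 1 ∧ ∀ x : ↥((P : Subgroup G) ⊓ N), μ ⟨(x : G), x.2.1⟩ = lam x) (ϑ : N → ℂ) (hϑ : Cfsg.IsIrrCharacter N ϑ) (hinv : ∀ (g : G) (n : N), ϑ ⟨g * n * g⁻¹, hN.conj_mem (n : G) n.2 g⟩ = ϑ n) : ∃ χ : G → ℂ, Cfsg.IsIrrCharacter G χ ∧ ∀ n : N, χ n = ϑ n := by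
  classical
  exact extends_aux p N hind P hcent hlin ϑ hϑ hinv

end Cfsg.Agent.S0897
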