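import Cfsg.Statements.S2372
import Cfsg.Agent.Lib.ChevCoxTorus68
import Cfsg.Agent.Lib.ChevalleyAll

set_option autoImplicit false
open Cfsg

namespace Cfsg.Agent.S2372

open Cfsg.Lie Cfsg.Agent.ChevRootCoord68

theorem orth : ∀ i j : Fin chevF4.rank, i ≠ j → ∑ s : Fin chevF4.nroots,
    ChevalleyDataF4.cert.coef s.val j.val * chevF4.cartan i.val s.val = 0 := by decide +kernel

theorem norm_pos : ∀ i : Fin chevF4.rank, 0 < ∑ s : Fin chevF4.nroots,
    ChevalleyDataF4.cert.coef s.val i.val * chevF4.cartan i.val s.val := by decide +kernel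

theorem pos_sum : ∀ i : Fin chevF4.rank, ∑ s : Fin chevF4.nroots,
    (if chevF4.nroots / 2 ≤ s.val then chevF4.cartan i.val s.val else 0) = 2 := by decide +kernel

theorem top : ∀ j : Fin chevF4.rank, 2 ≤ ChevalleyDataF4.cert.coef (chevF4.nroots - 1) j.val ∧
    ChevalleyDataF4.cert.coef (chevF4.nroots - 1) j.val ≤ ((4 : ℕ) : ℤ) := by decide +kernel

theorem le_top : ∀ (s : Fin chevF4.nroots) (j : Fin chevF4.rank), ChevalleyDataF4.cert.coef s.val j.val ≤
    ChevalleyDataF4.cert.coef (chevF4.nroots - 1) j.val := by decide +kernel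

theorem num : Num ChevalleyDataF4.cert 4 where
  rank_pos := by decide +kernel
  orth := orth
  norm_pos := norm_pos
  pos_sum := pos_sum
  two_le_top j := (top j).1
  top_le j := (top j).2
  le_top := le_top

theorem supp : ChevBruhat.suppCheck chevF4 = true := by decide +kernel

theorem poly : ChevOrder.polyOK ChevWeylData.f4.chain chevF4.rank [2, 6, 8, 12] = true := by
  decide +kernel

theorem cyclotomic_eight : Polynomial.cyclotomic 8 ℤ = Polynomial.X ^ 4 + 1 := by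
  rw [show (8 : ℕ) = 2 ^ (2 + 1) by norm_num, Polynomial.cyclotomic_prime_pow_eq_geom_sum Nat.prime_two]
  simp [Finset.sum_range_succ, add_comm]

theorem exists_prime (q : ℕ) (hq : 2 ≤ q) :
    ¬ 4 ∣ q ^ 4 + 1 ∧ ¬ 3 ∣ q ^ 4 + 1 ∧ ∃ ℓ, ℓ.Prime ∧ ℓ ∣ q ^ 4 + 1 ∧ ¬ ℓ ∣ 8 := by
  have h16 : 2 ^ 4 ≤ q ^ 4 := Nat.pow_le_pow_left hq 4
  have h4 : ¬ 4 ∣ q ^ 4 + 1 := by
    rw [Nat.dvd_iff_mod_eq_zero, Nat.add_mod, Nat.pow_mod]
    have := Nat.mod_lt q (show 4 > 0 by norm_num)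
    interval_cases q % 4 <;> norm_num
  have h3 : ¬ 3 ∣ q ^ 4 + 1 := by
    rw [Nat.dvd_iff_mod_eq_zero, Nat.add_mod, Nat.pow_mod]
    have := Nat.mod_lt q (show 3 > 0 by norm_num)
    interval_cases q % 3 <;> norm_num
  refine ⟨h4, h3, ?_⟩
  have key : ∀ M, 2 ≤ M → ¬ 2 ∣ M → ∃ ℓ, ℓ.Prime ∧ ℓ ∣ M ∧ ¬ ℓ ∣ 8 := fun M hM h2 => by
    obtain ⟨ℓ, hℓ, hd⟩ := Nat.exists_prime_and_dvd (show M ≠ 1 by omega)
    refine ⟨ℓ, hℓ, hd, fun h8 => h2 ?_⟩
    have : ℓ ∣ 2 := hℓ.dvd_of_dvd_pow (show ℓ ∣ 2 ^ 3 by norm_num; exact h8)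
    rwa [(Nat.prime_dvd_prime_iff_eq hℓ Nat.prime_two).1 this] at hd
  by_cases h2 : 2 ∣ q ^ 4 + 1
  · obtain ⟨M, hM⟩ := h2
    obtain ⟨ℓ, hℓ, hd, h8⟩ := key M (by omega) fun h => h4 (by
      obtain ⟨c, rfl⟩ := h; exact ⟨c, by omega⟩)
    exact ⟨ℓ, hℓ, hM ▸ hd.mul_left 2, h8⟩
  · exact key _ (by omega) h2

/-- The group F₄(q) contains a cyclic subgroup of order q⁴ + 1 which is its own centralizer. -/
theorem result {F : Type*} [Field F] [Fintype F] (q : ℕ) (hF : Fintype.card F = q) :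
    ∃ H : Subgroup ↥(Cfsg.Lie.chevF4.group F), IsCyclic ↥H ∧ Nat.card ↥H = q ^ 4 + 1 ∧
      Subgroup.centralizer (H : Set ↥(Cfsg.Lie.chevF4.group F)) = H := by
  subst hF
  obtain ⟨h4, h3, ℓ, hℓ, hℓN, hℓ8⟩ := exists_prime (Fintype.card F) Fintype.one_lt_card
  refine ChevCoxTorus68.exists_selfCentralizing_cyclic ChevalleyDataF4.cert
    ChevalleyTorusCard.smithF4 ChevWeylData.f4 supp num [2, 6, 8, 12] poly rfl
    (d := 8) (by decide) (by norm_num) (by decide +kernel) ?_ hℓ hℓN hℓ8 ?_ ?_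
  · rw [cyclotomic_eight]; simp
  · intro p hp h
    obtain ⟨c, hc⟩ := h
    have hc1 : 1 ≤ c := by
      by_contra hc0
      have := hp.two_le
      interval_cases c
      omega
    have h17 : 17 ≤ p := by
      rcases Nat.lt_or_ge c 2 with h2 | h2
      · obtain rfl : p = 9 := by omega
        norm_num at hp
      · omega
    refine ⟨by omega, ?_, fun e he hpe => ?_⟩
    · show 4 < p - 1
      omega
    · simp only [List.mem_cons, List.not_mem_nil, or_false] at he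
      have := Nat.le_of_dvd (by omega) hpe
      omega
  · intro p hp hpN hp4
    have := hp.two_le
    interval_cases p
    · exact ⟨rfl, h4⟩
    · exact absurd hpN h3
    · norm_num at hp

end Cfsg.Agent.S2372
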