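import Cfsg.Statements.S1686
import Cfsg.Agent.Lib.CosetCertO73Iso
import Cfsg.Agent.Lib.CosetCertFi22Simple
import Cfsg.Agent.Lib.CosetCertFi22O
-- import your own Cfsg.Agent.* helpers here

set_option autoImplicit false
open Cfsg

namespace Cfsg.Agent.S1686

open CosetCertCore CosetCertTable CosetCertPres CosetCertOrder in
theorem sub_eq : (((Subgroup.closure ({Cfsg.Spor.Fi22.b, Cfsg.Spor.Fi22.c, Cfsg.Spor.Fi22.d, Cfsg.Spor.Fi22.e, Cfsg.Spor.Fi22.f, Cfsg.Spor.Fi22.g, Cfsg.Spor.Fi22.h, Cfsg.Spor.Fi22.i} : Set (FreeGroup Cfsg.Spor.Fi22.Gen))).map (PresentedGroup.mk (Cfsg.Spor.coxRelators Cfsg.Spor.Fi22.edges ∪ {r | r ∈ Cfsg.Spor.Fi22.extra})))) = CosetCertFi22OData.pres.sub CosetCertFi22OData.subgens := by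
  refine congrArg (fun S => (Subgroup.closure S).map (PresentedGroup.mk _)) (Set.ext fun r => ?_)
  simp [CosetCertFi22OData.subgens, CosetCertFi22OData.pres, Wx.eval, Pres.gen, or_assoc]

open CosetCertCore CosetCertTable CosetCertPres CosetCertOrder in
theorem main : Nonempty (CosetCertFi22OData.pres.sub CosetCertFi22OData.subgens ≃* Cfsg.POmega (ZMod 3) (Cfsg.quadFormOdd 3 (ZMod 3))) := by
  have hspan : CosetCertFi22OData.pres.sub CosetCertFi22OData.subgens = span (Pres.gg CosetCertFi22OData.pres) [1, 2, 3, 4, 5, 6, 7, 8] := by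
    rw [CosetCertPres.sub_eq CosetCertFi22O.enumerated, span]
    congr 1
    ext k
    simp only [Set.mem_ofPred_eq]
    simp [CosetCertFi22OData.subgens, Wx.letters, val]
  obtain ⟨e⟩ := CosetCertO73Iso.equiv_pomega
  haveI : Finite (Pres.Grp CosetCertO73Data.pres) :=
    Nat.finite_of_card_ne_zero (by rw [CosetCertO73Iso.card_k]; decide)
  have hG : Nat.card (Pres.Grp CosetCertFi22OData.pres) = 64561751654400 := CosetCertFi22Simple.card_and_faithful.1
  have hH : Nat.card (span (Pres.gg CosetCertFi22OData.pres) [1, 2, 3, 4, 5, 6, 7, 8]) = 4585351680 := by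
    have h1 := Subgroup.index_mul_card (CosetCertFi22OData.pres.sub CosetCertFi22OData.subgens)
    rw [CosetCertPres.index_sub CosetCertFi22O.enumerated, hG, hspan] at h1
    have h2 : CosetCertFi22OData.table.N = 14080 := rfl
    rw [h2] at h1
    omega
  obtain ⟨e'⟩ := CosetCertO73Iso.equiv_span (Pres.gg CosetCertFi22OData.pres) (gg_sq CosetCertFi22O.good)
    (Q := CosetCertO73Data.pres) CosetCertO73.good (by decide +kernel) (by decide +kernel)
    (σ := [1, 2, 3, 4, 5, 6, 7, 8]) (by simp) (by decide +kernel)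
    (fun w hw => val_relWords CosetCertFi22O.good
      ((by decide +kernel : ∀ w ∈ Pres.relWords CosetCertO73Data.pres,
        w.map (ren [1, 2, 3, 4, 5, 6, 7, 8]) ∈ Pres.relWords CosetCertFi22OData.pres) w hw))
    (by rw [CosetCertO73Iso.card_k, hH])
  exact ⟨((MulEquiv.subgroupCongr hspan).trans e'.symm).trans e⟩

/-- In the presented Fischer group Fi₂₂, the subgroup generated by the images of b, …, i is isomorphic to PΩ(7, 3), the commutator subgroup of the isometry group of the quadratic form x₀² + x₁y₁ + x₂y₂ + x₃y₃ over the integers mod 3, modulo its centre. -/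
theorem result : Nonempty ((((Subgroup.closure ({Cfsg.Spor.Fi22.b, Cfsg.Spor.Fi22.c, Cfsg.Spor.Fi22.d, Cfsg.Spor.Fi22.e, Cfsg.Spor.Fi22.f, Cfsg.Spor.Fi22.g, Cfsg.Spor.Fi22.h, Cfsg.Spor.Fi22.i} : Set (FreeGroup Cfsg.Spor.Fi22.Gen))).map (PresentedGroup.mk (Cfsg.Spor.coxRelators Cfsg.Spor.Fi22.edges ∪ {r | r ∈ Cfsg.Spor.Fi22.extra})))) ≃* Cfsg.POmega (ZMod 3) (Cfsg.quadFormOdd 3 (ZMod 3))) := by
  rw [sub_eq]
  exact main

end Cfsg.Agent.S1686
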