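import Cfsg.Statements.S5344

set_option autoImplicit false
open Cfsg

namespace Cfsg.Agent.S5344

/-- The braid relations of type A₃. -/
abbrev a3Rels : Set (FreeGroup (Fin 3)) :=
  {FreeGroup.of 0 * FreeGroup.of 0, FreeGroup.of 1 * FreeGroup.of 1,
    FreeGroup.of 2 * FreeGroup.of 2,
    (FreeGroup.of 0 * FreeGroup.of 1) ^ 3, (FreeGroup.of 1 * FreeGroup.of 2) ^ 3,
    (FreeGroup.of 0 * FreeGroup.of 2) ^ 2}

theorem card_closure_le {H : Type*} [Group H] (a b c : H) (ha : a * a = 1) (hb : b * b = 1)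
    (hc : c * c = 1) (hab : a * b * a = b * a * b) (hbc : b * c * b = c * b * c)
    (hac : a * c = c * a) :
    (Subgroup.closure {a, b, c} : Set H) ⊆
      Set.range fun p : Fin 6 × Fin 4 =>
        ![1, a, b, a * b, b * a, a * b * a] p.1 * ![1, c, c * b, c * b * a] p.2 := by
  set K : Fin 6 → H := ![1, a, b, a * b, b * a, a * b * a] with hK
  set W : Fin 4 → H := ![1, c, c * b, c * b * a] with hW
  set R := Set.range fun p : Fin 6 × Fin 4 => K p.1 * W p.2 with hR
  have Ka : ∀ i, ∃ j, K i * a = K j := by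
    intro i; fin_cases i
    · exact ⟨1, by simp [hK]⟩
    · exact ⟨0, by simp [hK, ha]⟩
    · exact ⟨4, by simp [hK]⟩
    · exact ⟨5, by simp [hK]⟩
    · exact ⟨2, by simp [hK, mul_assoc, ha]⟩
    · exact ⟨3, by simp [hK, mul_assoc, ha]⟩
  have Kb : ∀ i, ∃ j, K i * b = K j := by
    intro i; fin_cases i
    · exact ⟨2, by simp [hK]⟩
    · exact ⟨3, by simp [hK]⟩
    · exact ⟨0, by simp [hK, hb]⟩
    · exact ⟨1, by simp [hK, mul_assoc, hb]⟩
    · exact ⟨5, by simp [hK, hab]⟩
    · exact ⟨4, by simp [hK, hab]; rw [mul_assoc _ b b, hb, mul_one]⟩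
  -- right multiplication by a generator sends `K · w` into `R`
  have key : ∀ (j : Fin 4) (g : H), g ∈ ({a, b, c} : Set H) →
      ∃ j' : Fin 4, W j * g = W j' ∨ W j * g = a * W j' ∨ W j * g = b * W j' := by
    intro j g hg
    simp only [Set.mem_insert_iff, Set.mem_singleton_iff] at hg
    have e1 : c * b * a * b = a * (c * b * a) := by
      calc c * b * a * b = c * (b * a * b) := by simp only [mul_assoc]
        _ = c * (a * b * a) := by rw [hab]
        _ = (c * a) * (b * a) := by simp only [mul_assoc]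
        _ = (a * c) * (b * a) := by rw [hac]
        _ = a * (c * b * a) := by simp only [mul_assoc]
    have e2 : c * b * a * c = b * (c * b * a) := by
      calc c * b * a * c = c * b * (a * c) := by simp only [mul_assoc]
        _ = c * b * (c * a) := by rw [hac]
        _ = (c * b * c) * a := by simp only [mul_assoc]
        _ = (b * c * b) * a := by rw [hbc]
        _ = b * (c * b * a) := by simp only [mul_assoc]
    fin_cases j <;> rcases hg with rfl | rfl | rfl
    · exact ⟨0, Or.inr (Or.inl (by simp [hW]))⟩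
    · exact ⟨0, Or.inr (Or.inr (by simp [hW]))⟩
    · exact ⟨1, Or.inl (by simp [hW])⟩
    · exact ⟨1, Or.inr (Or.inl (by simp [hW, hac]))⟩
    · exact ⟨2, Or.inl (by simp [hW])⟩
    · exact ⟨0, Or.inl (by simp [hW, hc])⟩
    · exact ⟨3, Or.inl (by simp [hW])⟩
    · exact ⟨1, Or.inl (by simp [hW, mul_assoc, hb])⟩
    · exact ⟨2, Or.inr (Or.inr (by simp [hW, ← hbc, mul_assoc]))⟩
    · exact ⟨2, Or.inl (by simp [hW, mul_assoc, ha])⟩
    · exact ⟨3, Or.inr (Or.inl (by simpa [hW] using e1))⟩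
    · exact ⟨3, Or.inr (Or.inr (by simpa [hW] using e2))⟩
  intro x hx
  induction hx using Subgroup.closure_induction_right with
  | one => exact ⟨(0, 0), by simp [hK, hW]⟩
  | mul_right x hx g hg ih =>
    obtain ⟨⟨i, j⟩, rfl⟩ := ih
    obtain ⟨j', h | h | h⟩ := key j g hg
    · exact ⟨(i, j'), by simp only [mul_assoc, h]⟩
    · obtain ⟨i', hi⟩ := Ka i
      exact ⟨(i', j'), by simp only [mul_assoc, h]; rw [← mul_assoc, hi]⟩
    · obtain ⟨i', hi⟩ := Kb i
      exact ⟨(i', j'), by simp only [mul_assoc, h]; rw [← mul_assoc, hi]⟩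
  | mul_inv_cancel x hx g hg ih =>
    have hg' : g⁻¹ = g := by
      simp only [Set.mem_insert_iff, Set.mem_singleton_iff] at hg
      rcases hg with rfl | rfl | rfl <;> apply inv_eq_of_mul_eq_one_right <;> assumption
    obtain ⟨⟨i, j⟩, rfl⟩ := ih
    rw [hg']
    obtain ⟨j', h | h | h⟩ := key j g hg
    · exact ⟨(i, j'), by simp only [mul_assoc, h]⟩
    · obtain ⟨i', hi⟩ := Ka i
      exact ⟨(i', j'), by simp only [mul_assoc, h]; rw [← mul_assoc, hi]⟩
    · obtain ⟨i', hi⟩ := Kb i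
      exact ⟨(i', j'), by simp only [mul_assoc, h]; rw [← mul_assoc, hi]⟩

theorem exists_hom {G : Type*} [Group G] (a b c : G) (ha : a * a = 1) (hb : b * b = 1)
    (hc : c * c = 1) (hab : a * b * a = b * a * b) (hbc : b * c * b = c * b * c)
    (hac : a * c = c * a) :
    ∃ φ : Equiv.Perm (Fin 4) →* G, φ (Equiv.swap 0 1) = a ∧ φ (Equiv.swap 1 2) = b ∧
      φ (Equiv.swap 2 3) = c := by
  have hG : ∀ r ∈ a3Rels, FreeGroup.lift ![a, b, c] r = 1 := by
    intro r hr
    simp only [a3Rels, Set.mem_insert_iff, Set.mem_singleton_iff] at hr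
    rcases hr with rfl | rfl | rfl | rfl | rfl | rfl <;>
      simp [pow_succ, ← mul_assoc]
    · exact ha
    · exact hb
    · exact hc
    · rw [hab, mul_assoc _ b b, hb, mul_one, mul_assoc _ a a, ha, mul_one, hb]
    · rw [hbc, mul_assoc _ c c, hc, mul_one, mul_assoc _ b b, hb, mul_one, hc]
    · rw [hac, mul_assoc _ a a, ha, mul_one, hc]
  have hS : ∀ r ∈ a3Rels, FreeGroup.lift
      ![Equiv.swap (0 : Fin 4) 1, Equiv.swap 1 2, Equiv.swap 2 3] r = 1 := by
    intro r hr
    simp only [a3Rels, Set.mem_insert_iff, Set.mem_singleton_iff] at hr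
    rcases hr with rfl | rfl | rfl | rfl | rfl | rfl <;> simp <;> decide
  set ψ := PresentedGroup.toGroup hS with hψ
  set θ := PresentedGroup.toGroup hG with hθ
  set u : Fin 3 → PresentedGroup a3Rels := PresentedGroup.of with hu
  have hrel : ∀ r ∈ a3Rels, PresentedGroup.mk a3Rels r = 1 := fun r hr =>
    PresentedGroup.one_of_mem hr
  have u00 : u 0 * u 0 = 1 := hrel (FreeGroup.of 0 * FreeGroup.of 0) (by simp)
  have u11 : u 1 * u 1 = 1 := hrel (FreeGroup.of 1 * FreeGroup.of 1) (by simp)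
  have u22 : u 2 * u 2 = 1 := hrel (FreeGroup.of 2 * FreeGroup.of 2) (by simp)
  have u01 : (u 0 * u 1) ^ 3 = 1 := hrel ((FreeGroup.of 0 * FreeGroup.of 1) ^ 3) (by simp)
  have u12 : (u 1 * u 2) ^ 3 = 1 := hrel ((FreeGroup.of 1 * FreeGroup.of 2) ^ 3) (by simp)
  have u02 : (u 0 * u 2) ^ 2 = 1 := hrel ((FreeGroup.of 0 * FreeGroup.of 2) ^ 2) (by simp)
  have braid : ∀ x y : PresentedGroup a3Rels, x * x = 1 → y * y = 1 → (x * y) ^ 3 = 1 →
      x * y * x = y * x * y := by
    intro x y hx hy h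
    have h' : (x * y * x) * (y * x * y) = 1 := by simpa [pow_succ, mul_assoc] using h
    rw [eq_inv_of_mul_eq_one_left h', mul_inv_rev, mul_inv_rev,
      inv_eq_of_mul_eq_one_right hx, inv_eq_of_mul_eq_one_right hy, ← mul_assoc]
  have hcomm : u 0 * u 2 = u 2 * u 0 := by
    calc u 0 * u 2 = (u 0 * u 2)⁻¹ :=
          (inv_eq_of_mul_eq_one_right (by rw [← pow_two]; exact u02)).symm
      _ = u 2 * u 0 := by
          rw [mul_inv_rev, inv_eq_of_mul_eq_one_right u00, inv_eq_of_mul_eq_one_right u22]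
  have htop : Subgroup.closure {u 0, u 1, u 2} = ⊤ := by
    rw [← PresentedGroup.closure_range_of]
    congr 1
    ext x
    simp only [Set.mem_insert_iff, Set.mem_singleton_iff, Set.mem_range, Fin.exists_fin_succ,
      Fin.exists_fin_zero_pi, hu]
    simp [eq_comm]
  have hsub := card_closure_le (u 0) (u 1) (u 2) u00 u11 u22 (braid _ _ u00 u11 u01)
    (braid _ _ u11 u22 u12) hcomm
  rw [htop] at hsub
  have hsurjF := fun x => hsub (Subgroup.mem_top x)
  set f : Fin 6 × Fin 4 → PresentedGroup a3Rels := fun p =>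
      ![1, u 0, u 1, u 0 * u 1, u 1 * u 0, u 0 * u 1 * u 0] p.1 *
        ![1, u 2, u 2 * u 1, u 2 * u 1 * u 0] p.2 with hf
  have hbij : Function.Bijective fun p => ψ (f p) := by
    refine (Fintype.bijective_iff_surjective_and_card _).mpr ⟨?_, by decide⟩
    intro σ
    have hall : ∀ σ : Equiv.Perm (Fin 4), ∃ p : Fin 6 × Fin 4,
        (![1, Equiv.swap (0 : Fin 4) 1, Equiv.swap 1 2, Equiv.swap 0 1 * Equiv.swap 1 2,
          Equiv.swap 1 2 * Equiv.swap 0 1,
          Equiv.swap 0 1 * Equiv.swap 1 2 * Equiv.swap 0 1] p.1 *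
        ![1, Equiv.swap 2 3, Equiv.swap 2 3 * Equiv.swap 1 2,
          Equiv.swap 2 3 * Equiv.swap 1 2 * Equiv.swap 0 1] p.2) = σ := by decide +kernel
    obtain ⟨⟨i, j⟩, hp⟩ := hall σ
    refine ⟨(i, j), ?_⟩
    rw [← hp]
    fin_cases i <;> fin_cases j <;> simp [f, hψ, hu, PresentedGroup.toGroup.of]
  have hψbij : Function.Bijective ψ := by
    refine ⟨fun x y hxy => ?_, fun σ => ?_⟩
    · obtain ⟨p, rfl⟩ := hsurjF x
      obtain ⟨q, rfl⟩ := hsurjF y
      exact congrArg f (hbij.1 hxy)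
    · obtain ⟨p, hp⟩ := hbij.2 σ
      exact ⟨_, hp⟩
  let e := MulEquiv.ofBijective ψ hψbij
  have he : ∀ i, e.symm (![Equiv.swap (0 : Fin 4) 1, Equiv.swap 1 2, Equiv.swap 2 3] i) = u i := by
    intro i
    rw [MulEquiv.symm_apply_eq]
    exact (PresentedGroup.toGroup.of hS).symm
  refine ⟨θ.comp e.symm.toMonoidHom, ?_, ?_, ?_⟩ <;>
    simp only [MonoidHom.comp_apply, MulEquiv.coe_toMonoidHom]
  · exact (congrArg θ (he 0)).trans (PresentedGroup.toGroup.of hG)
  · exact (congrArg θ (he 1)).trans (PresentedGroup.toGroup.of hG)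
  · exact (congrArg θ (he 2)).trans (PresentedGroup.toGroup.of hG)

theorem inj_of {G : Type*} [Group G] (φ : Equiv.Perm (Fin 4) →* G)
    (h : φ (Equiv.swap 0 1 * Equiv.swap 2 3) ≠ 1) : Function.Injective φ := by
  rw [injective_iff_map_eq_one]
  intro σ hσ
  by_contra hne
  -- every non-identity element has a double transposition in its normal closure
  have step1 : ∀ σ : Equiv.Perm (Fin 4), σ ≠ 1 → ∃ g, σ * g * σ⁻¹ * g⁻¹ ≠ 1 := by decide +kernel
  have step2 : ∀ σ : Equiv.Perm (Fin 4), σ ≠ 1 → Equiv.Perm.sign σ = 1 →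
      ∃ g k : Equiv.Perm (Fin 4),
        k * (σ * g * σ⁻¹ * g⁻¹) * k⁻¹ = Equiv.swap 0 1 * Equiv.swap 2 3 := by decide +kernel
  obtain ⟨g, hg⟩ := step1 σ hne
  have hτ : φ (σ * g * σ⁻¹ * g⁻¹) = 1 := by simp [hσ]
  have hsign : Equiv.Perm.sign (σ * g * σ⁻¹ * g⁻¹) = 1 := by simp [mul_comm, mul_left_comm]
  generalize σ * g * σ⁻¹ * g⁻¹ = τ at hg hτ hsign
  obtain ⟨g', k, h'⟩ := step2 τ hg hsign
  apply h
  rw [← h']
  simp [hτ]

/-- In a set of 3-transpositions, let a, b, c be members with a and c different and commuting, while neither a nor c commutes with b (a 3-string). Then there is an injective homomorphism from the symmetric group of degree 4 into the ambient group sending the transpositions (0 1), (1 2), (2 3) to a, b, c; so a, b, c generate a copy of the symmetric group of degree 4 in which they are transpositions. -/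
theorem result {G : Type*} [Group G] {D : Set G} (hD : Cfsg.IsThreeTranspositionSet D) {a b c : G} (ha : a ∈ D) (hb : b ∈ D) (hc : c ∈ D) (hac : a ≠ c) (hac' : Commute a c) (hab : ¬ Commute a b) (hbc : ¬ Commute b c) : ∃ φ : Equiv.Perm (Fin 4) →* G, Function.Injective φ ∧ φ (Equiv.swap 0 1) = a ∧ φ (Equiv.swap 1 2) = b ∧ φ (Equiv.swap 2 3) = c := by
  obtain ⟨hord, h23⟩ := hD
  have hsq : ∀ x ∈ D, x * x = 1 := by
    intro x hx
    have := pow_orderOf_eq_one x
    rwa [hord x hx, pow_two] at this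
  have hbraid : ∀ x ∈ D, ∀ y ∈ D, ¬ Commute x y → x * y * x = y * x * y := by
    intro x hx y hy hne
    have hxi : x⁻¹ = x := inv_eq_of_mul_eq_one_right (hsq x hx)
    have hyi : y⁻¹ = y := inv_eq_of_mul_eq_one_right (hsq y hy)
    rcases h23 x hx y hy with h | h
    · exfalso
      apply hne
      show x * y = y * x
      calc x * y = (x * y)⁻¹ := (inv_eq_of_mul_eq_one_right (by rw [← pow_two]; exact h)).symm
        _ = y * x := by rw [mul_inv_rev, hxi, hyi]
    · have h' : (x * y * x) * (y * x * y) = 1 := by simpa [pow_succ, mul_assoc] using h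
      have := eq_inv_of_mul_eq_one_left h'
      rw [this, mul_inv_rev, mul_inv_rev, hxi, hyi, ← mul_assoc]
  obtain ⟨φ, h1, h2, h3⟩ := exists_hom a b c (hsq a ha) (hsq b hb) (hsq c hc)
    (hbraid a ha b hb hab) (hbraid b hb c hc hbc) hac'.eq
  refine ⟨φ, inj_of φ ?_, h1, h2, h3⟩
  rw [map_mul, h1, h3]
  intro h
  apply hac
  rw [← inv_eq_of_mul_eq_one_right h, inv_eq_of_mul_eq_one_right (hsq a ha)]

end Cfsg.Agent.S5344
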