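import Cfsg.Statements.S5350
import Cfsg.Agent.Lib.ThreeTransPerp
import Cfsg.Agent.Lib.HallCore

set_option autoImplicit false
open Cfsg

namespace Cfsg.Agent.S5350

/-- Let D be a conjugacy class of 3-transpositions generating the finite group G, with at least two members, and d a member of D. Then the set of members w of D whose commuting partners in D (other than w) are exactly those of d (other than d) coincides with the set of members of D lying in the coset of d modulo the largest normal 3-subgroup of G, and also with the orbit of d under conjugation by that normal 3-subgroup. -/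
theorem result {G : Type*} [Group G] [Finite G] {D : Set G} (hD : Cfsg.IsThreeTranspositionClass D) (hD2 : ∃ a ∈ D, ∃ b ∈ D, a ≠ b) {d : G} (hd : d ∈ D) : {w : G | w ∈ D ∧ {y : G | y ∈ D ∧ y ≠ d ∧ Commute d y} = {y : G | y ∈ D ∧ y ≠ w ∧ Commute w y}} = {w : G | w ∈ D ∧ d⁻¹ * w ∈ Cfsg.pCore 3 G} ∧ {w : G | w ∈ D ∧ {y : G | y ∈ D ∧ y ≠ d ∧ Commute d y} = {y : G | y ∈ D ∧ y ≠ w ∧ Commute w y}} = {w : G | ∃ g ∈ Cfsg.pCore 3 G, w = g * d * g⁻¹} := by
  have hset := hD.1
  have hconj := Cfsg.Agent.ThreeTrans.conjInv hD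
  have hN := Cfsg.Agent.HallCore.pCore_normal 3 G
  have hP := Cfsg.Agent.HallCore.isPGroup_pCore 3 G
  have hWsub : ∀ w, Cfsg.Agent.ThreeTransPerp.SameW D d w → d⁻¹ * w ∈ Cfsg.pCore 3 G := by
    intro w h
    rw [Cfsg.Agent.ThreeTrans.inv_self hset hd]
    exact Cfsg.Agent.ThreeTransPerp.sameW_mul_mem_pCore hset hconj hd h
  have aux : ∀ a b y : G, a ∈ D → b ∈ D → a⁻¹ * b ∈ Cfsg.pCore 3 G → y ∈ D → y ≠ a →
      Commute a y → y ≠ b ∧ Commute b y := by
    intro a b y ha hb hab hy hne hay
    have heq : (QuotientGroup.mk b : G ⧸ Cfsg.pCore 3 G) = QuotientGroup.mk a :=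
      (QuotientGroup.eq.mpr hab).symm
    have hay2 : (a * y) ^ 2 = 1 := by
      rw [hay.mul_pow, pow_two, pow_two, Cfsg.Agent.ThreeTrans.mul_self hset ha,
        Cfsg.Agent.ThreeTrans.mul_self hset hy, one_mul]
    have hnot : a * y ∉ Cfsg.pCore 3 G := by
      intro hmem
      obtain ⟨k, hk⟩ := hP ⟨_, hmem⟩
      have hk' : (a * y) ^ 3 ^ k = 1 := by simpa using congrArg Subtype.val hk
      have hg := pow_gcd_eq_one.mpr ⟨hay2, hk'⟩
      have hcop : Nat.Coprime 2 (3 ^ k) := Nat.Coprime.pow_right _ (by norm_num)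
      rw [hcop, pow_one] at hg
      exact hne (((eq_inv_of_mul_eq_one_left hg).trans
        (Cfsg.Agent.ThreeTrans.inv_self hset hy)).symm)
    have hby : (b * y) ∉ Cfsg.pCore 3 G := by
      intro hmem
      apply hnot
      rw [← QuotientGroup.eq_one_iff, QuotientGroup.mk_mul, ← heq, ← QuotientGroup.mk_mul,
        QuotientGroup.eq_one_iff]
      exact hmem
    refine ⟨?_, ?_⟩
    · rintro rfl
      exact hby (by rw [Cfsg.Agent.ThreeTrans.mul_self hset hy]; exact one_mem _)
    · rcases hset.2 b hb y hy with h2 | h3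
      · exact Cfsg.Agent.ThreeTrans.commute_of_sq hset hb hy h2
      · exfalso
        apply hby
        have h2' : (b * y) ^ 2 ∈ Cfsg.pCore 3 G := by
          rw [← QuotientGroup.eq_one_iff, QuotientGroup.mk_pow, QuotientGroup.mk_mul, heq,
            ← QuotientGroup.mk_mul, ← QuotientGroup.mk_pow, hay2, QuotientGroup.mk_one]
        have : b * y = ((b * y) ^ 2)⁻¹ * (b * y) ^ 3 := by group
        rw [this, h3, mul_one]
        exact inv_mem h2'
  have hback : ∀ w ∈ D, d⁻¹ * w ∈ Cfsg.pCore 3 G → Cfsg.Agent.ThreeTransPerp.SameW D d w := by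
    intro w hw h
    have h' : w⁻¹ * d ∈ Cfsg.pCore 3 G := by
      have := inv_mem h
      rwa [mul_inv_rev, inv_inv] at this
    refine ⟨hw, ?_⟩
    ext y
    exact ⟨fun hy => ⟨hy.1, aux d w y hd hw h hy.1 hy.2.1 hy.2.2⟩,
      fun hy => ⟨hy.1, aux w d y hw hd h' hy.1 hy.2.1 hy.2.2⟩⟩
  constructor
  · ext w
    exact ⟨fun h => ⟨h.1, hWsub w h⟩, fun h => hback w h.1 h.2⟩
  · ext w
    constructor
    · intro h
      have hmem := Cfsg.Agent.ThreeTransPerp.sameW_mul_mem_pCore hset hconj hd h
      by_cases hne : w = d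
      · exact ⟨1, one_mem _, by rw [hne]; group⟩
      refine ⟨d * w, hmem, ?_⟩
      have hb := Cfsg.Agent.ThreeTrans.braid hset hd h.1
        (fun hc => hne (Cfsg.Agent.ThreeTransPerp.SameW.eq_of_commute h hc))
      rw [mul_inv_rev, Cfsg.Agent.ThreeTrans.inv_self hset hd,
        Cfsg.Agent.ThreeTrans.inv_self hset h.1]
      calc w = w * d * w * (w * d) := by
            rw [show w * d * w * (w * d) = w * d * (w * w) * d by simp only [mul_assoc],
              Cfsg.Agent.ThreeTrans.mul_self hset h.1, mul_one, mul_assoc,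
              Cfsg.Agent.ThreeTrans.mul_self hset hd, mul_one]
        _ = d * w * d * (w * d) := by rw [hb]
    · rintro ⟨g, hg, rfl⟩
      refine hback _ (hconj g d hd) ?_
      have : d⁻¹ * (g * d * g⁻¹) = (d⁻¹ * g * d) * g⁻¹ := by group
      rw [this]
      refine mul_mem ?_ (inv_mem hg)
      simpa using hN.conj_mem g hg d⁻¹

end Cfsg.Agent.S5350
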