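import Cfsg.Statements.S5349
import Cfsg.Agent.Lib.ThreeTrans
import Cfsg.Agent.Lib.HallCore

set_option autoImplicit false
open Cfsg

namespace Cfsg.Agent.S5349

open Cfsg.Agent

/-- Let D be a conjugacy class of 3-transpositions generating the finite group G, with at least two members, and d a member of D. Then the set of members of D commuting with exactly the same members of D as d coincides with the set of members of D lying in the coset of d modulo the largest normal 2-subgroup of G, and also with the orbit of d under conjugation by that normal 2-subgroup. -/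
theorem result {G : Type*} [Group G] [Finite G] {D : Set G} (hD : Cfsg.IsThreeTranspositionClass D) (hD2 : ∃ a ∈ D, ∃ b ∈ D, a ≠ b) {d : G} (hd : d ∈ D) : {v : G | v ∈ D ∧ ∀ e ∈ D, Commute v e ↔ Commute d e} = {v : G | v ∈ D ∧ d⁻¹ * v ∈ Cfsg.pCore 2 G} ∧ {v : G | v ∈ D ∧ ∀ e ∈ D, Commute v e ↔ Commute d e} = {v : G | ∃ g ∈ Cfsg.pCore 2 G, v = g * d * g⁻¹} := by
  have hset := hD.1
  have hconj := ThreeTrans.conjInv hD
  have hN := HallCore.pCore_normal 2 G
  have hP := HallCore.isPGroup_pCore 2 G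
  have hVsub : ∀ v, v ∈ D → (∀ e ∈ D, Commute v e ↔ Commute d e) → d⁻¹ * v ∈ Cfsg.pCore 2 G := by
    intro v hv h
    rw [ThreeTrans.inv_self hset hd]
    exact ThreeTrans.sameV_mul_mem_pCore hset hconj hd ⟨hv, h⟩
  have hsub : ∀ v, v ∈ D → d⁻¹ * v ∈ Cfsg.pCore 2 G → ∀ e ∈ D, Commute v e ↔ Commute d e := by
    intro v hv h
    have aux : ∀ a b : G, a ∈ D → b ∈ D → a⁻¹ * b ∈ Cfsg.pCore 2 G → ∀ e ∈ D,
        Commute a e → Commute b e := by
      intro a b ha hb hab e he hae
      have heq : (QuotientGroup.mk b : G ⧸ Cfsg.pCore 2 G) = QuotientGroup.mk a :=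
        (QuotientGroup.eq.mpr hab).symm
      have h2 : (b * e) ^ 2 ∈ Cfsg.pCore 2 G := by
        rw [← QuotientGroup.eq_one_iff, QuotientGroup.mk_pow, QuotientGroup.mk_mul, heq,
          ← QuotientGroup.mk_mul, ← QuotientGroup.mk_pow, hae.mul_pow, pow_two, pow_two,
          ThreeTrans.mul_self hset ha, ThreeTrans.mul_self hset he, one_mul, QuotientGroup.mk_one]
      obtain ⟨k, hk⟩ := hP ⟨_, h2⟩
      refine ThreeTrans.commute_of_two_pow hset hb he (k := k + 1) ?_
      have hk' : ((b * e) ^ 2) ^ 2 ^ k = 1 := by simpa using congrArg Subtype.val hk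
      rw [pow_succ', pow_mul]
      exact hk'
    have h' : v⁻¹ * d ∈ Cfsg.pCore 2 G := by
      have := inv_mem h
      rwa [mul_inv_rev, inv_inv] at this
    exact fun e he => ⟨aux v d hv hd h' e he, aux d v hd hv h e he⟩
  constructor
  · ext v
    exact ⟨fun h => ⟨h.1, hVsub v h.1 h.2⟩, fun h => ⟨h.1, hsub v h.1 h.2⟩⟩
  · ext v
    constructor
    · rintro ⟨hv, h⟩
      by_cases hne : v = d
      · exact ⟨1, one_mem _, by rw [hne]; group⟩
      obtain ⟨e, he, hde⟩ := ThreeTrans.exists_not_commute hD hD2 hd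
      have hve : ¬ Commute v e := fun hc => hde ((h e he).mp hc)
      obtain ⟨φ, -, ha, hb, hc⟩ := S5344.result hset hd he hv (Ne.symm hne)
        ((h v hv).mp (Commute.refl v)) hde (fun hc => hve hc.symm)
      have hmem : d * v ∈ Cfsg.pCore 2 G := ThreeTrans.sameV_mul_mem_pCore hset hconj hd ⟨hv, h⟩
      refine ⟨e * (d * v) * e⁻¹, hN.conj_mem _ hmem e, ?_⟩
      have hS : Equiv.swap (1 : Fin 4) 2 * (Equiv.swap 0 1 * Equiv.swap 2 3) *
          (Equiv.swap (1 : Fin 4) 2)⁻¹ * Equiv.swap 0 1 *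
          (Equiv.swap (1 : Fin 4) 2 * (Equiv.swap 0 1 * Equiv.swap 2 3) *
            (Equiv.swap (1 : Fin 4) 2)⁻¹)⁻¹ = Equiv.swap 2 3 := by decide +kernel
      have := congrArg φ hS
      simp only [map_mul, map_inv, ha, hb, hc] at this
      exact this.symm
    · rintro ⟨g, hg, rfl⟩
      refine ⟨hconj g d hd, hsub _ (hconj g d hd) ?_⟩
      rw [show d⁻¹ * (g * d * g⁻¹) = d⁻¹ * g * d⁻¹⁻¹ * g⁻¹ by group]
      exact mul_mem (hN.conj_mem g hg d⁻¹) (inv_mem hg)

end Cfsg.Agent.S5349
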