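import Cfsg.Statements.S5352
import Cfsg.Agent.Lib.ComponentsFitting
import Cfsg.Agent.Lib.ComponentsCores
import Cfsg.Agent.Lib.ThreeTrans
import Cfsg.Agent.Lib.WidthOne
import Cfsg.Agent.Lib.CharInducedBurnside

set_option autoImplicit false
open Cfsg

namespace Cfsg.Agent.S5352

open Subgroup Cfsg.Agent.ComponentsBasic Cfsg.Agent.ComponentsFitting Cfsg.Agent.ComponentsCores
open scoped commutatorElement

variable {G : Type*} [Group G] {D : Set G}

theorem comm_pow (hD : IsThreeTranspositionClass D) {d : G} (hd : d ∈ D) (x : G) :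
    ⁅d, x⁆ ^ 2 = 1 ∨ ⁅d, x⁆ ^ 3 = 1 := by
  have h : ⁅d, x⁆ = d * (x * d * x⁻¹) := by
    rw [commutatorElement_def, ThreeTrans.inv_self hD.1 hd, mul_assoc, mul_assoc, mul_assoc]
  rw [h]
  exact hD.1.2 d hd _ (ThreeTrans.conjInv hD x d hd)

theorem orderOf_le_three {c : G} (h : c ^ 2 = 1 ∨ c ^ 3 = 1) :
    orderOf c = 1 ∨ orderOf c = 2 ∨ orderOf c = 3 := by
  rcases h with h | h
  · rcases (Nat.dvd_prime Nat.prime_two).mp (orderOf_dvd_of_pow_eq_one h) with h | h <;> simp [h]
  · rcases (Nat.dvd_prime Nat.prime_three).mp (orderOf_dvd_of_pow_eq_one h) with h | h <;> simp [h]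

theorem component_eq_commutator {L : Subgroup G} (hL : IsComponent L) {d : G}
    (hn : d ∈ normalizer (L : Set G)) (hne : ⁅zpowers d, L⁆ ≠ ⊥) : L = ⁅zpowers d, L⁆ := by
  have hle : ⁅zpowers d, L⁆ ≤ L := le_normalizer_iff_commutator_le_right.mp (zpowers_le.mpr hn)
  refine le_antisymm ?_ hle
  refine (component_le_or_commute hL (isSubnormal_of_le_normalizer hle hL.1
    (normalizer_commutator_ge_right _ _))).resolve_right fun h => hne ?_
  have h1 : ⁅⁅L, zpowers d⁆, L⁆ = ⊥ := by rw [commutator_comm L, commutator_comm]; exact h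
  have h2 : ⁅⁅zpowers d, L⁆, L⁆ = ⊥ := by rw [commutator_comm]; exact h
  have := commutator_commutator_eq_bot_of_rotate (H₁ := L) (H₂ := L) (H₃ := zpowers d) h1 h2
  rwa [IsComponent.perfect hL, commutator_comm] at this

theorem eq_one_or_self [Finite G] (hD : IsThreeTranspositionClass D) {d z : G} (hd : d ∈ D)
    (hz : z ∈ zpowers d) : z = 1 ∨ z = d := by
  obtain ⟨i, rfl⟩ := mem_zpowers_iff.mp hz
  rw [← zpow_mod_orderOf, hD.1.1 d hd]
  rcases Int.emod_two_eq_zero_or_one i with h | h <;> simp [h]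

variable [Finite G]

theorem exists_orderOf_two (hD : IsThreeTranspositionClass D) {d : G} (hd : d ∈ D)
    {L : Subgroup G} (hL : IsComponent L) (hn : d ∈ normalizer (L : Set G))
    (hne : ⁅zpowers d, L⁆ ≠ ⊥) : ∃ x ∈ L, orderOf ⁅d, x⁆ = 2 := by
  by_contra h
  push Not at h
  have hLd : L ≤ normalizer (L : Set G) := le_normalizer
  set M := L ⊔ zpowers d
  set S : Set M := {s | ∃ x ∈ L, (s : G) = x * d * x⁻¹}
  have hmul : ∀ g ∈ M, ∃ l ∈ L, ∃ z ∈ zpowers d, g = l * z := by
    intro g hg
    have := (show g ∈ ((L ⊔ zpowers d : Subgroup G) : Set G) from hg)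
    rw [coe_mul_of_right_le_normalizer_left _ _ (zpowers_le.mpr hn)] at this
    obtain ⟨l, hl, z, hz, rfl⟩ := this
    exact ⟨l, hl, z, hz, rfl⟩
  have hconj : ∀ g : M, ∀ s ∈ S, g * s * g⁻¹ ∈ S := by
    rintro g s ⟨x, hx, hs⟩
    obtain ⟨l, hl, z, hz, hg⟩ := hmul _ g.2
    have hzx : z * x * z⁻¹ ∈ L :=
      (mem_normalizer_iff.mp ((zpowers_le.mpr hn) hz) x).mp hx
    refine ⟨l * (z * x * z⁻¹), L.mul_mem hl hzx, ?_⟩
    have hzd : z * d * z⁻¹ = d := by
      rcases eq_one_or_self hD hd hz with rfl | rfl <;> simp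
    conv_rhs => rw [← hzd]
    simp [hg, hs, mul_assoc]
  have hsq : ∀ s ∈ S, s * s = 1 := by
    rintro s ⟨x, hx, hs⟩
    exact Subtype.ext (by simpa [hs] using ThreeTrans.mul_self hD.1 (ThreeTrans.conjInv hD x d hd))
  have hH : WidthOne.Hyp S := by
    refine ⟨hsq, ?_, fun s hs t ht => ?_⟩
    swap
    · have h := hconj s t ht
      rwa [inv_eq_of_mul_eq_one_right (hsq s hs)] at h
    · rintro s ⟨x, hx, hs⟩ t ⟨y, hy, ht⟩
      refine Subtype.ext ?_
      have hxy : x⁻¹ * y ∈ L := L.mul_mem (L.inv_mem hx) hy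
      have e : (s : G) * t = x * ⁅d, x⁻¹ * y⁆ * x⁻¹ := by
        rw [hs, ht, commutatorElement_def, ThreeTrans.inv_self hD.1 hd]; group
      rcases orderOf_le_three (comm_pow hD hd (x⁻¹ * y)) with h1 | h1 | h1
      · simp [e, orderOf_eq_one_iff.mp h1]
      · exact absurd h1 (h _ hxy)
      · have : ⁅d, x⁻¹ * y⁆ ^ 3 = 1 := h1 ▸ pow_orderOf_eq_one _
        show ((s : G) * t) ^ 3 = 1
        rw [e, conj_pow, this, mul_one, mul_inv_cancel]
  haveI := WidthOne.even_solvable hH hconj
  haveI : Group.IsSolvable ((Subgroup.closure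
      {y : M | ∃ s ∈ S, ∃ t ∈ S, y = s * t}).map M.subtype) :=
    Group.isSolvable_of_surjective (f := (Subgroup.equivMapOfInjective
      (Subgroup.closure {y : M | ∃ s ∈ S, ∃ t ∈ S, y = s * t}) _ M.subtype_injective).toMonoidHom)
      (MulEquiv.surjective _)
  refine (IsComponent.ne_bot hL) (perfect_eq_bot_of_le_solvable (S := (Subgroup.closure
    {y : M | ∃ s ∈ S, ∃ t ∈ S, y = s * t}).map M.subtype) (IsComponent.perfect hL) ?_)
  · conv_lhs => rw [component_eq_commutator hL hn hne]
    rw [commutator_le]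
    intro z hz x hx
    rcases eq_one_or_self hD hd hz with rfl | rfl
    · simp
    · refine ⟨⟨z, mem_sup_right (mem_zpowers z)⟩ *
        ⟨x * z * x⁻¹, M.mul_mem (M.mul_mem (mem_sup_left hx) (mem_sup_right (mem_zpowers z)))
          (M.inv_mem (mem_sup_left hx))⟩,
        subset_closure ⟨_, ⟨1, L.one_mem, by simp⟩, _, ⟨x, hx, rfl⟩, rfl⟩, ?_⟩
      simp [commutatorElement_def, ThreeTrans.inv_self hD.1 hd, mul_assoc]

theorem exists_orderOf_three (hD : IsThreeTranspositionClass D) {d : G} (hd : d ∈ D)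
    {L : Subgroup G} (hL : IsComponent L) (hn : d ∈ normalizer (L : Set G))
    (hne : ⁅zpowers d, L⁆ ≠ ⊥) : ∃ x ∈ L, orderOf ⁅d, x⁆ = 3 := by
  by_contra h
  push Not at h
  set e : G → G := fun x => x * d * x⁻¹
  have hc : ∀ x ∈ L, Commute d (e x) := by
    intro x hx
    refine ThreeTrans.commute_of_sq hD.1 hd (ThreeTrans.conjInv hD x d hd) ?_
    have he : d * (x * d * x⁻¹) = ⁅d, x⁆ := by
      rw [commutatorElement_def, ThreeTrans.inv_self hD.1 hd, mul_assoc, mul_assoc, mul_assoc]
    rw [he]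
    rcases orderOf_le_three (comm_pow hD hd x) with h1 | h1 | h1
    · simp [orderOf_eq_one_iff.mp h1]
    · exact h1 ▸ pow_orderOf_eq_one _
    · exact absurd h1 (h x hx)
  have hcc : ∀ x ∈ L, ∀ y ∈ L, Commute (e x) (e y) := by
    intro x hx y hy
    have := (Commute.conj_iff x).mpr (hc (x⁻¹ * y) (L.mul_mem (L.inv_mem hx) hy))
    simpa [e, mul_assoc] using this
  set A := Subgroup.closure (e '' (L : Set G))
  haveI : IsMulCommutative A := Subgroup.isMulCommutative_closure (by
    rintro _ ⟨x, hx, rfl⟩ _ ⟨y, hy, rfl⟩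
    exact hcc x hx y hy)
  have hLA : L ≤ A := by
    conv_lhs => rw [component_eq_commutator hL hn hne]
    rw [commutator_le]
    intro z hz x hx
    rcases eq_one_or_self hD hd hz with rfl | rfl
    · simp
    · have he : ⁅z, x⁆ = e 1 * e x := by
        simp [e, commutatorElement_def, ThreeTrans.inv_self hD.1 hd, mul_assoc]
      rw [he]
      exact mul_mem (subset_closure ⟨1, L.one_mem, rfl⟩) (subset_closure ⟨x, hx, rfl⟩)
  haveI : Group.IsSolvable A := isSolvable_of_commutative
  exact (IsComponent.ne_bot hL) (perfect_eq_bot_of_le_solvable (IsComponent.perfect hL) hLA)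

theorem mem_normalizer_component (hD : IsThreeTranspositionClass D) {L : Subgroup G}
    (hL : IsComponent L) {d : G} (hd : d ∈ D) : d ∈ normalizer (L : Set G) := by
  by_contra hn
  set L' := L.map (MulAut.conj d).toMonoidHom
  have hne : L' ≠ L := fun h => hn (by
    rw [mem_normalizer_iff_map_conj_eq]; exact h)
  have hc := components_commute (isComponent_conj hL d) hL hne
  rw [commutator_eq_bot_iff_le_centralizer] at hc
  have key : ∀ x : L, x ^ 2 ∈ center L ∨ x ^ 3 ∈ center L := by
    intro x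
    have hx' : d * (x : G) * d⁻¹ ∈ L' := ⟨x, x.2, rfl⟩
    have hcm : Commute (d * (x : G) * d⁻¹) (x : G)⁻¹ :=
      (mem_centralizer_iff.mp (hc hx') _ (L.inv_mem x.2)).symm
    have h : ∀ n : ℕ, ⁅d, (x : G)⁆ ^ n = 1 → x ^ n ∈ center L := by
      intro n hn'
      rw [commutatorElement_def, hcm.mul_pow, inv_pow, mul_inv_eq_one] at hn'
      rw [mem_center_iff]
      intro y
      refine Subtype.ext ?_
      show (y : G) * (x : G) ^ n = (x : G) ^ n * y
      rw [← hn']
      exact mem_centralizer_iff.mp (hc (pow_mem hx' n)) _ y.2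
    exact (comm_pow hD hd x).imp (h 2) (h 3)
  have hp : ∀ r : ℕ, r.Prime → r ∣ Nat.card (L ⧸ center L) → r = 2 ∨ r = 3 := by
    intro r hr hdvd
    haveI := Fact.mk hr
    obtain ⟨q, hq⟩ := exists_prime_orderOf_dvd_card' r hdvd
    obtain ⟨x, rfl⟩ := QuotientGroup.mk'_surjective _ q
    rcases key x with h | h
    · refine .inl ((Nat.prime_dvd_prime_iff_eq hr Nat.prime_two).mp (hq ▸ orderOf_dvd_of_pow_eq_one ?_))
      rw [← map_pow]; exact (QuotientGroup.eq_one_iff _).mpr h
    · refine .inr ((Nat.prime_dvd_prime_iff_eq hr Nat.prime_three).mp (hq ▸ orderOf_dvd_of_pow_eq_one ?_))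
      rw [← map_pow]; exact (QuotientGroup.eq_one_iff _).mpr h
  obtain ⟨a, m, hm2, hm⟩ := Nat.exists_eq_pow_mul_and_not_dvd
    (Nat.card_pos (α := L ⧸ center L)).ne' 2 (by norm_num)
  have hm0 : m ≠ 0 := by rintro rfl; exact hm2 (dvd_zero 2)
  obtain ⟨b, k, hk3, hk⟩ := Nat.exists_eq_pow_mul_and_not_dvd hm0 3 (by norm_num)
  have hk1 : k = 1 := by
    by_contra hk1
    obtain ⟨r, hr, hrk⟩ := Nat.exists_prime_and_dvd hk1
    have hrm : r ∣ m := hk ▸ dvd_mul_of_dvd_right hrk _
    rcases hp r hr (hm ▸ dvd_mul_of_dvd_right hrm _) with rfl | rfl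
    · exact hm2 hrm
    · exact hk3 hrk
  rw [hk, hk1, mul_one] at hm
  haveI := CharInduced.solvable_of_card_two_primes 2 3 a b Nat.prime_two Nat.prime_three hm
  exact isQuasisimple_not_solvable hL.2
    ((Group.isSolvable_iff_subgroup_quotient (center L)).mpr ⟨isSolvable_of_commutative, inferInstance⟩)

theorem component_normal (hD : IsThreeTranspositionClass D) {L : Subgroup G} (hL : IsComponent L) :
    L.Normal := by
  rw [← normalizer_eq_top_iff, ← top_le_iff, ← hD.2.2, closure_le]
  exact fun d hd => mem_normalizer_component hD hL hd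

theorem zpowers_commutator_ne_bot (hD : IsThreeTranspositionClass D) {L : Subgroup G}
    (hL : IsComponent L) {d : G} (hd : d ∈ D) : ⁅zpowers d, L⁆ ≠ ⊥ := by
  intro h
  haveI := component_normal hD hL
  have hd' : d ∈ centralizer (L : Set G) :=
    commutator_eq_bot_iff_le_centralizer.mp h (mem_zpowers d)
  obtain ⟨d₀, -, hD0⟩ := hD.2.1
  have htop : centralizer (L : Set G) = ⊤ := by
    rw [← top_le_iff, ← hD.2.2, closure_le]
    intro e he
    obtain ⟨g, rfl⟩ := isConj_iff.mp
      ((by rw [hD0] at hd; exact hd : IsConj d₀ d).symm.trans (by rw [hD0] at he; exact he : IsConj d₀ e))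
    exact (inferInstance : (centralizer (L : Set G)).Normal).conj_mem d hd' g
  haveI : Group.IsSolvable (center G) := isSolvable_of_commutative
  refine (IsComponent.ne_bot hL) (perfect_eq_bot_of_le_solvable (IsComponent.perfect hL) (S := center G) ?_)
  · intro x hx
    rw [mem_center_iff]
    intro y
    exact (mem_centralizer_iff.mp (htop ▸ mem_top y : y ∈ centralizer (L : Set G)) x hx).symm

theorem component_unique (hD : IsThreeTranspositionClass D) {L L' : Subgroup G}
    (hL : IsComponent L) (hL' : IsComponent L') : L = L' := by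
  by_contra hne
  obtain ⟨d, hd, -⟩ := hD.2.1
  obtain ⟨x, hx, h2⟩ := exists_orderOf_two hD hd hL (mem_normalizer_component hD hL hd)
    (zpowers_commutator_ne_bot hD hL hd)
  obtain ⟨y, hy, h3⟩ := exists_orderOf_three hD hd hL' (mem_normalizer_component hD hL' hd)
    (zpowers_commutator_ne_bot hD hL' hd)
  have hc := commutator_eq_bot_iff_le_centralizer.mp (components_commute hL hL' hne)
  have hc1 : ⁅d, x⁆ ∈ L := by
    have := (mem_normalizer_iff.mp (mem_normalizer_component hD hL hd) x).mp hx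
    exact L.mul_mem this (L.inv_mem hx)
  have hc2 : ⁅d, y⁆ ∈ L' := by
    have := (mem_normalizer_iff.mp (mem_normalizer_component hD hL' hd) y).mp hy
    exact L'.mul_mem this (L'.inv_mem hy)
  have hcomm : Commute ⁅d, x⁆ ⁅d, y⁆ := (mem_centralizer_iff.mp (hc hc1) _ hc2).symm
  have e : ⁅d, x * y⁆ = ⁅d, x⁆ * ⁅d, y⁆ := by
    have h1 : x * ⁅d, y⁆ = ⁅d, y⁆ * x := (mem_centralizer_iff.mp (hc hx) _ hc2).symm
    calc ⁅d, x * y⁆ = ⁅d, x⁆ * (x * ⁅d, y⁆) * x⁻¹ := by simp [commutatorElement_def, mul_assoc]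
      _ = ⁅d, x⁆ * ⁅d, y⁆ := by rw [h1]; simp [mul_assoc]
  have h6 : orderOf ⁅d, x * y⁆ = 6 := by
    rw [e, hcomm.orderOf_mul_eq_mul_orderOf_of_coprime (by rw [h2, h3]; norm_num), h2, h3]
  rcases orderOf_le_three (comm_pow hD hd (x * y)) with h | h | h <;> omega

theorem fitting_eq_center (hD : IsThreeTranspositionClass D) (h2 : pCore 2 G ≤ center G)
    (h3 : pCore 3 G ≤ center G) : fittingSubgroup G = center G := by
  refine le_antisymm ?_ (le_fitting ?_)
  swap
  · open scoped IsMulCommutative in infer_instance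
  rw [fittingSubgroup_eq_iSup]
  refine iSup_le fun q => ?_
  by_cases hq2 : (q : ℕ) = 2
  · rw [hq2]; exact h2
  by_cases hq3 : (q : ℕ) = 3
  · rw [hq3]; exact h3
  intro x hx
  rw [mem_center_iff]
  have hprime := Nat.prime_of_mem_primeFactors q.2
  haveI := Fact.mk hprime
  have hle : closure D ≤ centralizer ({x} : Set G) := by
    rw [closure_le]
    intro d hd
    have hmem : ⁅d, x⁆ ∈ pCore (q : ℕ) G :=
      mul_mem ((inferInstance : (pCore (q : ℕ) G).Normal).conj_mem x hx d) (inv_mem hx)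
    obtain ⟨k, hk⟩ := IsPGroup.iff_orderOf.mp (isPGroup_pCore (G := G) (q : ℕ)) ⟨_, hmem⟩
    rw [orderOf_mk] at hk
    have h1 : ⁅d, x⁆ = 1 := by
      rw [← orderOf_eq_one_iff]
      rcases orderOf_le_three (comm_pow hD hd x) with h | h | h
      · exact h
      · exact absurd ((Nat.prime_dvd_prime_iff_eq Nat.prime_two hprime).mp
          (Nat.prime_two.dvd_of_dvd_pow (hk ▸ h.symm.dvd))) (Ne.symm hq2)
      · exact absurd ((Nat.prime_dvd_prime_iff_eq Nat.prime_three hprime).mp
          (Nat.prime_three.dvd_of_dvd_pow (hk ▸ h.symm.dvd))) (Ne.symm hq3)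
    exact mem_centralizer_singleton_iff.mpr (commutatorElement_eq_one_iff_commute.mp h1).eq
  exact fun g => mem_centralizer_singleton_iff.mp (hle (hD.2.2 ▸ mem_top g))

/-- Let D be a conjugacy class of 3-transpositions generating the finite group G, with at least two members, and suppose the largest normal 2-subgroup and the largest normal 3-subgroup of G are both central. Then G has a quasisimple normal subgroup L such that the generalized Fitting subgroup of G is the product of L and the centre; and either L = G or the image of D in G/L has width 1, in the sense that two members of D whose commutator lies in L have the same image modulo L. -/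
theorem result {G : Type*} [Group G] [Finite G] {D : Set G} (hD : Cfsg.IsThreeTranspositionClass D) (hD2 : ∃ a ∈ D, ∃ b ∈ D, a ≠ b) (h2 : Cfsg.pCore 2 G ≤ Subgroup.center G) (h3 : Cfsg.pCore 3 G ≤ Subgroup.center G) : ∃ L : Subgroup G, L.Normal ∧ Cfsg.IsQuasisimple L ∧ Cfsg.generalizedFittingSubgroup G = L ⊔ Subgroup.center G ∧ (L = ⊤ ∨ ∀ a ∈ D, ∀ b ∈ D, a * b * a⁻¹ * b⁻¹ ∈ L → a⁻¹ * b ∈ L) := by
  classical
  have hfit := fitting_eq_center hD h2 h3
  have hex : ∃ L : Subgroup G, IsComponent L := by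
    by_contra h
    have hlay : layer G = ⊥ := layer_eq_bot_iff.mpr h
    have h1 : generalizedFittingSubgroup G = center G := by
      rw [gen_eq_fitting_iff.mpr hlay, hfit]
    have htop : center G = ⊤ := by
      rw [← top_le_iff]
      refine le_trans ?_ (centralizer_gen_le.trans h1.le)
      intro g _
      rw [mem_centralizer_iff]
      intro y hy
      exact (mem_center_iff.mp (h1 ▸ hy : y ∈ center G) g).symm
    obtain ⟨d, hd, -⟩ := hD.2.1
    obtain ⟨e, he, hne⟩ := ThreeTrans.exists_not_commute hD hD2 hd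
    exact hne (mem_center_iff.mp (htop ▸ mem_top e) d)
  obtain ⟨L, hL⟩ := hex
  haveI hn := component_normal hD hL
  have hlay : layer G = L :=
    le_antisymm (sSup_le fun K hK => (component_unique hD hK hL).le) (component_le_layer hL)
  refine ⟨L, hn, hL.2, by rw [generalizedFittingSubgroup, hlay, hfit], .inr fun a ha b hb hab => ?_⟩
  by_contra hne
  have hcomm : ∀ x ∈ L, Commute b (x * a * x⁻¹) := by
    intro x hx
    have ha2 := ThreeTrans.conjInv hD x a ha
    have hbar : QuotientGroup.mk' L (x * a * x⁻¹) = QuotientGroup.mk' L a := by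
      rw [map_mul, map_mul, map_inv,
        show QuotientGroup.mk' L x = 1 from (QuotientGroup.eq_one_iff x).mpr hx]
      simp
    have hc : Commute (QuotientGroup.mk' L b) (QuotientGroup.mk' L a) := by
      refine Commute.symm (commutatorElement_eq_one_iff_commute.mp ?_)
      rw [← map_commutatorElement]
      exact (QuotientGroup.eq_one_iff _).mpr hab
    rcases hD.1.2 b hb _ ha2 with h | h
    · exact ThreeTrans.commute_of_sq hD.1 hb ha2 h
    · exfalso
      apply hne
      have h' := congrArg (QuotientGroup.mk' L) h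
      rw [map_pow, map_mul, hbar, map_one] at h'
      have hsq : (QuotientGroup.mk' L b * QuotientGroup.mk' L a) ^ 2 = 1 := by
        rw [hc.mul_pow, ← map_pow, ← map_pow, sq, sq, ThreeTrans.mul_self hD.1 hb,
          ThreeTrans.mul_self hD.1 ha, map_one, one_mul]
      rw [pow_succ, hsq, one_mul, ← map_mul] at h'
      have hbaL : b * a ∈ L := (QuotientGroup.eq_one_iff _).mp h'
      have := hn.mem_comm hbaL
      rwa [ThreeTrans.inv_self hD.1 ha]
  refine zpowers_commutator_ne_bot hD hL hb ?_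
  rw [commutator_eq_bot_iff_le_centralizer, zpowers_le]
  have hA : ⁅zpowers a, L⁆ ≤ centralizer ({b} : Set G) := by
    rw [commutator_le]
    intro z hz x hx
    rcases eq_one_or_self hD ha hz with rfl | rfl
    · simp
    · have he : ⁅z, x⁆ = (1 * z * 1⁻¹) * (x * z * x⁻¹) := by
        simp [commutatorElement_def, ThreeTrans.inv_self hD.1 ha, mul_assoc]
      rw [he]
      exact mul_mem (mem_centralizer_singleton_iff.mpr (hcomm 1 L.one_mem).eq.symm)
        (mem_centralizer_singleton_iff.mpr (hcomm x hx).eq.symm)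
  rw [← component_eq_commutator hL (mem_normalizer_component hD hL ha)
    (zpowers_commutator_ne_bot hD hL ha)] at hA
  rw [mem_centralizer_iff]
  exact fun x hx => mem_centralizer_singleton_iff.mp (hA hx)

end Cfsg.Agent.S5352
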