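import Cfsg.Statements.S5361
import Cfsg.Agent.Lib.ThreeTransPrimitive
import Cfsg.Agent.S5353
-- import your own Cfsg.Agent.* helpers here

set_option autoImplicit false
open Cfsg

namespace Cfsg.Agent.S5361

open scoped commutatorElement

/-- Let D be a conjugacy class of 3-transpositions generating the finite group G, and suppose the centre of G is trivial and some two different members of D commute. Then the following are equivalent: (1) the commutator subgroup of G is simple (possibly of prime order); (2) G acts primitively on D by conjugation; (3) the largest normal 2-subgroup and the largest normal 3-subgroup of G are trivial and the commuting graph of D is connected. -/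
theorem result {G : Type*} [Group G] [Finite G] {D : Set G} (hD : Cfsg.IsThreeTranspositionClass D) (hZ : Subgroup.center G = ⊥) (hw : ∃ a ∈ D, ∃ b ∈ D, a ≠ b ∧ Commute a b) : (IsSimpleGroup (commutator G) ↔ Cfsg.IsPrimitiveUnderConj D) ∧ (Cfsg.IsPrimitiveUnderConj D ↔ (Cfsg.pCore 2 G = ⊥ ∧ Cfsg.pCore 3 G = ⊥ ∧ (Cfsg.commutingGraph D).Connected)) := by
  classical
  obtain ⟨a, ha, b, hb, hab, hc⟩ := hw
  have hD2 : ∃ a ∈ D, ∃ b ∈ D, a ≠ b := ⟨a, ha, b, hb, hab⟩
  have hset := hD.1
  have hcomm : ∀ x ∈ D, ∀ y ∈ D, x * y ∈ commutator G := by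
    intro x hx y hy
    obtain ⟨d₀, -, hD0⟩ := hD.2.1
    rw [hD0] at hx hy
    obtain ⟨g, rfl⟩ := isConj_iff.mp ((show IsConj d₀ x from hx).symm.trans hy)
    rw [← hD0] at hx
    have : x * (g * x * g⁻¹) = ⁅x, g⁆ := by
      rw [commutatorElement_def, ThreeTrans.inv_self hset hx]; group
    rw [this]
    exact Subgroup.commutator_mem_commutator (Subgroup.mem_top _) (Subgroup.mem_top _)
  have h12 : IsSimpleGroup (commutator G) → Cfsg.IsPrimitiveUnderConj D := by
    intro hs
    haveI := hs
    refine ThreeTransPrimitive.primitive_of_dichotomy hD hD2 (commutator G) ?_ ?_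
    · obtain ⟨d, hd, -⟩ := hD.2.1
      have hle : (⊤ : Subgroup (G ⧸ commutator G)) ≤
          Subgroup.zpowers (QuotientGroup.mk' (commutator G) d) := by
        rw [← Subgroup.map_top_of_surjective _ (QuotientGroup.mk'_surjective (commutator G)),
          ← hD.2.2, MonoidHom.map_closure, Subgroup.closure_le]
        rintro _ ⟨x, hx, rfl⟩
        show QuotientGroup.mk' (commutator G) x ∈ _
        rw [show QuotientGroup.mk' (commutator G) x = QuotientGroup.mk' (commutator G) d from
          QuotientGroup.eq.mpr ((ThreeTrans.inv_self hset hx).symm ▸ hcomm x hx d hd)]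
        exact Subgroup.mem_zpowers _
      rw [Subgroup.index_eq_card, ← Subgroup.card_top, ← top_le_iff.mp hle, Nat.card_zpowers]
      refine Nat.le_of_dvd (by norm_num) (orderOf_dvd_of_pow_eq_one ?_)
      rw [← map_pow, pow_two, ThreeTrans.mul_self hset hd, map_one]
    · intro N hN
      haveI := hN
      rcases ((inferInstance : N.Normal).subgroupOf (commutator G)).eq_bot_or_eq_top with h | h
      · refine Or.inr fun n hn => Subgroup.mem_center_iff.mpr fun g => ?_
        have h1 : ⁅g, n⁆ ∈ N := mul_mem (hN.conj_mem n hn g) (inv_mem hn)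
        have h2 : ⁅g, n⁆ ∈ commutator G :=
          Subgroup.commutator_mem_commutator (Subgroup.mem_top _) (Subgroup.mem_top _)
        have h3 : (⟨_, h2⟩ : commutator G) = 1 := Subgroup.mem_bot.mp (h ▸ h1)
        exact (commutatorElement_eq_one_iff_commute.mp (congrArg Subtype.val h3)).eq
      · exact Or.inl (Subgroup.subgroupOf_eq_top.mp h)
  have h23 : Cfsg.IsPrimitiveUnderConj D →
      Cfsg.pCore 2 G = ⊥ ∧ Cfsg.pCore 3 G = ⊥ ∧ (Cfsg.commutingGraph D).Connected := fun hp =>
    ⟨le_bot_iff.mp (hZ ▸ ThreeTransPrimitive.pCore_two_le_center hD hp),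
      le_bot_iff.mp (hZ ▸ ThreeTransPrimitive.pCore_three_le_center hD hp ⟨a, ha, b, hb, hab, hc⟩),
      ThreeTransPrimitive.connected_of_primitive hD hp ⟨a, ha, b, hb, hab, hc⟩⟩
  have h31 : Cfsg.pCore 2 G = ⊥ ∧ Cfsg.pCore 3 G = ⊥ ∧ (Cfsg.commutingGraph D).Connected →
      IsSimpleGroup (commutator G) := by
    rintro ⟨h2, h3, hcon⟩
    have h2' : Cfsg.pCore 2 G ≤ Subgroup.center G := h2 ▸ bot_le
    have h3' : Cfsg.pCore 3 G ≤ Subgroup.center G := h3 ▸ bot_le
    obtain ⟨L, hn, hq, hF, -⟩ := S5352.result hD hD2 h2' h3'
    haveI := hn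
    have hidx := (S5353.result hD hD2 h2' h3' L hq hF).2 hcon
    have hLG : commutator G = L := by
      refine le_antisymm ?_ ?_
      · have : ∀ x y : G ⧸ L, x * y = y * x := by
          have hcard : Nat.card (G ⧸ L) ≤ 2 := hidx
          intro x y
          by_cases hx : x = 1
          · simp [hx]
          by_cases hy : y = 1
          · simp [hy]
          by_cases hxy : x = y
          · rw [hxy]
          exfalso
          haveI := Fintype.ofFinite (G ⧸ L)
          have h3c : ({1, x, y} : Finset (G ⧸ L)).card = 3 := by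
            simp [Ne.symm hx, Ne.symm hy, hxy]
          have := Finset.card_le_univ ({1, x, y} : Finset (G ⧸ L))
          rw [Nat.card_eq_fintype_card] at hcard
          omega
        rw [commutator_def, Subgroup.commutator_le]
        intro x _ y _
        rw [← QuotientGroup.eq_one_iff, ← QuotientGroup.mk'_apply, map_commutatorElement]
        exact commutatorElement_eq_one_iff_commute.mpr (this _ _)
      · rw [← ComponentsBasic.isQuasisimple_perfect hq, commutator_def]
        exact Subgroup.commutator_mono le_top le_top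
    rw [hLG]
    have hbot : Subgroup.center L = ⊥ := by
      have h1 : (Subgroup.center L).map L.subtype ≤ Subgroup.center G := by
        rw [← S5352.fitting_eq_center hD h2' h3']
        refine le_sSup ⟨ConjAct.normal_of_characteristic_of_normal, ?_⟩
        open scoped IsMulCommutative in infer_instance
      rw [hZ, le_bot_iff, Subgroup.map_eq_bot_iff_of_injective _ L.subtype_injective] at h1
      exact h1
    haveI := hq.2
    exact ((QuotientGroup.quotientMulEquivOfEq hbot).trans QuotientGroup.quotientBot).symm
      |>.isSimpleGroup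
  exact ⟨⟨h12, fun h => h31 (h23 h)⟩, ⟨h23, fun h => h12 (h31 h)⟩⟩

end Cfsg.Agent.S5361
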