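import Cfsg.Statements.S5354
import Cfsg.Agent.Lib.ThreeTransPrimitive
import Cfsg.Agent.S5353
-- import your own Cfsg.Agent.* helpers here

set_option autoImplicit false
open Cfsg

namespace Cfsg.Agent.S5354

open Cfsg.Agent.ThreeTransPrimitive

variable {G : Type*} [Group G] [Finite G] {D : Set G}

/-- The members of `D` commuting with `d`. -/
def cent (D : Set G) (d : G) : Set G := {y | y ∈ D ∧ Commute d y}

/-- Closed under conjugation by its own members. -/
def Closed (E : Set G) : Prop := ∀ a ∈ E, ∀ b ∈ E, a * b * a⁻¹ ∈ E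

omit [Finite G] in
theorem cj_cent (hconj : ∀ g : G, ∀ d ∈ D, g * d * g⁻¹ ∈ D) (g d : G) :
    cj g (cent D d) = cent D (g * d * g⁻¹) := by
  apply Set.Subset.antisymm
  · rintro _ ⟨y, hy, rfl⟩
    exact ⟨hconj g y hy.1, (Commute.conj_iff g).mpr hy.2⟩
  · rintro y hy
    refine ⟨g⁻¹ * y * g, ⟨by simpa using hconj g⁻¹ y hy.1, ?_⟩, by group⟩
    rw [← Commute.conj_iff g]
    simpa [mul_assoc] using hy.2

omit [Finite G] in
theorem closed_cj {E : Set G} (hE : Closed E) (g : G) : Closed (cj g E) := by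
  rintro _ ⟨a, ha, rfl⟩ _ ⟨b, hb, rfl⟩
  exact ⟨a * b * a⁻¹, hE a ha b hb, by group⟩

/-- The closure of a closed set preserves it. -/
theorem cj_closed {E : Set G} (hE : Closed E) {k : G} (hk : k ∈ Subgroup.closure E) :
    cj k E = E := by
  induction hk using Subgroup.closure_induction with
  | mem a ha =>
    refine Set.eq_of_subset_of_ncard_le (by rintro _ ⟨b, hb, rfl⟩; exact hE a ha b hb) ?_
      (Set.toFinite _)
    exact le_of_eq (Set.ncard_image_of_injective E
      fun x y e => mul_left_cancel (mul_right_cancel e)).symm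
  | one => exact cj_one E
  | mul a b _ _ iha ihb => rw [cj_mul, ihb, iha]
  | inv a _ iha =>
    conv_lhs => rw [← iha]
    rw [cj_cancel]

theorem ncard_cj (g : G) (X : Set G) : (cj g X).ncard = X.ncard :=
  Set.ncard_image_of_injective X fun x y e => mul_left_cancel (mul_right_cancel e)

theorem ncard_cent (hD : Cfsg.IsThreeTranspositionClass D) (hprim : Cfsg.IsPrimitiveUnderConj D)
    {a b : G} (ha : a ∈ D) (hb : b ∈ D) : (cent D a).ncard = (cent D b).ncard := by
  obtain ⟨g, rfl⟩ := hprim.1 a ha b hb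
  rw [← cj_cent (ThreeTrans.conjInv hD), ncard_cj]

omit [Finite G] in
theorem eq_of_conj_center {d v n : G} (hn : n ∈ Subgroup.center G) (h : v = n * d * n⁻¹) : v = d := by
  rw [h, ← Subgroup.mem_center_iff.mp hn d, mul_inv_cancel_right]

theorem eq_of_v (hD : Cfsg.IsThreeTranspositionClass D) (hprim : Cfsg.IsPrimitiveUnderConj D)
    {d v : G} (hd : d ∈ D) (hv : v ∈ D) (hsub : cent D v ⊆ cent D d) : v = d := by
  have e := Set.eq_of_subset_of_ncard_le hsub (ncard_cent hD hprim hd hv).le (Set.toFinite _)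
  obtain ⟨n, hn, h⟩ := (Set.ext_iff.mp (S5349.result hD hprim.2.1 hd).2 v).mp ⟨hv, fun u hu =>
    ⟨fun h => ((Set.ext_iff.mp e u).mp ⟨hu, h⟩).2, fun h => ((Set.ext_iff.mp e u).mpr ⟨hu, h⟩).2⟩⟩
  exact eq_of_conj_center (pCore_two_le_center hD hprim hn) h

theorem eq_of_w (hD : Cfsg.IsThreeTranspositionClass D) (hprim : Cfsg.IsPrimitiveUnderConj D)
    (hw : ∃ a ∈ D, ∃ b ∈ D, a ≠ b ∧ Commute a b)
    {d c : G} (hd : d ∈ D) (hc : c ∈ D) (hsub : cent D d \ {d} ⊆ cent D c \ {c}) : c = d := by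
  have hcard : (cent D c \ {c}).ncard = (cent D d \ {d}).ncard := by
    rw [Set.ncard_sdiff_singleton_of_mem (show c ∈ cent D c from ⟨hc, .refl _⟩),
      Set.ncard_sdiff_singleton_of_mem (show d ∈ cent D d from ⟨hd, .refl _⟩),
      ncard_cent hD hprim hc hd]
  have e := Set.eq_of_subset_of_ncard_le hsub hcard.le (Set.toFinite _)
  have hset : ∀ x : G, {y : G | y ∈ D ∧ y ≠ x ∧ Commute x y} = cent D x \ {x} := fun x =>
    Set.ext fun y => ⟨fun h => ⟨⟨h.1, h.2.2⟩, h.2.1⟩, fun h => ⟨h.1.1, h.2, h.1.2⟩⟩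
  obtain ⟨n, hn, h⟩ := (Set.ext_iff.mp (S5350.result hD hprim.2.1 hd).2 c).mp
    ⟨hc, by rw [hset, hset, e]⟩
  exact eq_of_conj_center (pCore_three_le_center hD hprim hw hn) h

/-- No closed set other than `D` strictly contains a set `cent D d`. -/
theorem closed_eq (hD : Cfsg.IsThreeTranspositionClass D) (hprim : Cfsg.IsPrimitiveUnderConj D)
    (hw : ∃ a ∈ D, ∃ b ∈ D, a ≠ b ∧ Commute a b) {d : G} (hd : d ∈ D) :
    ∀ n : ℕ, ∀ E : Set G, E.ncard = n → E ⊆ D → Closed E → cent D d ⊆ E →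
      (∃ c ∈ E, ¬ Commute d c) → E = D := by
  have hset := hD.1
  have hconj := ThreeTrans.conjInv hD
  intro n
  induction n using Nat.strong_induction_on with
  | _ n ih =>
  rintro E rfl hED hE hAE ⟨c, hc, hdc⟩
  by_contra hne
  have hmin : ∀ F : Set G, F ⊆ E → Closed F → cent D d ⊆ F → (∃ e ∈ F, ¬ Commute d e) →
      F = E := by
    intro F hFE hF h1 h2
    by_contra h
    have hlt := Set.ncard_lt_ncard (hFE.ssubset_of_ne h) (Set.toFinite _)
    exact hne (Set.Subset.antisymm hED (ih _ hlt F rfl (hFE.trans hED) hF h1 h2 ▸ hFE))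
  set M := Subgroup.closure E
  set E₀ : Set G := {x | ∃ k ∈ M, x = k * d * k⁻¹} with hE₀
  have hdE : d ∈ E := hAE ⟨hd, .refl _⟩
  have hE₀E : E₀ ⊆ E := by
    rintro _ ⟨k, hk, rfl⟩
    exact cj_closed hE hk ▸ mem_cj hdE
  have hd₀ : d ∈ E₀ := ⟨1, one_mem _, by group⟩
  have hA : ∀ x ∈ E₀, cent D x ⊆ E := by
    rintro _ ⟨k, hk, rfl⟩
    rw [← cj_cent hconj, ← cj_closed hE hk]
    exact Set.image_mono hAE
  have hout : ∀ x ∈ E₀, ∀ y ∈ E, ¬ Commute x y → y ∈ E₀ := by
    intro x hx y hy hn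
    obtain ⟨k, hk, hxk⟩ := hx
    have hxE : x ∈ E := hE₀E ⟨k, hk, hxk⟩
    refine ⟨x * y * k, mul_mem (mul_mem (Subgroup.subset_closure hxE) (Subgroup.subset_closure hy))
      hk, ?_⟩
    have e : y = x * (y * x * y) * x := by
      rw [← ThreeTrans.braid hset (hED hxE) (hED hy) hn]
      simp only [← mul_assoc, ThreeTrans.mul_self hset (hED hxE), one_mul]
      rw [mul_assoc, ThreeTrans.mul_self hset (hED hxE), mul_one]
    calc y = x * y * x * y⁻¹ * x⁻¹ := by
          rw [ThreeTrans.inv_self hset (hED hxE), ThreeTrans.inv_self hset (hED hy)]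
          conv_lhs => rw [e]
          group
      _ = x * y * k * d * (x * y * k)⁻¹ := by rw [hxk]; group
  have hmove : ∀ x ∈ E₀, ∃ y ∈ E₀, ¬ Commute x y := by
    rintro _ ⟨k, hk, rfl⟩
    obtain ⟨m, hm, hcm⟩ := hout d hd₀ c hc hdc
    refine ⟨k * c * k⁻¹, ⟨k * m, mul_mem hk hm, by rw [hcm]; group⟩, ?_⟩
    rw [Commute.conj_iff]
    exact hdc
  -- translates of the orbit are equal or disjoint
  have hblock : ∀ h : G, cj h E₀ = E₀ ∨ Disjoint (cj h E₀) E₀ := by
    intro h
    by_cases hdj : Disjoint (cj h E₀) E₀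
    · exact Or.inr hdj
    left
    obtain ⟨x, ⟨x₁, hx₁, hx₁e⟩, hx⟩ := Set.not_disjoint_iff.mp hdj
    simp only at hx₁e
    subst hx₁e
    set x := h * x₁ * h⁻¹
    have hAx : cent D x ⊆ cj h E := by
      rw [← cj_cent hconj]
      exact Set.image_mono (hA x₁ hx₁)
    by_cases hnc : ∃ e ∈ E ∩ cj h E, ¬ Commute x e
    · obtain ⟨k, hk, hxk⟩ := hx
      obtain ⟨e, he, hxe⟩ := hnc
      set F := cj k⁻¹ (E ∩ cj h E)
      have hkE : cj k⁻¹ E = E := cj_closed hE (inv_mem hk)
      have hd' : k⁻¹ * x * k⁻¹⁻¹ = d := by rw [hxk]; group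
      have hF : F = E := by
        refine hmin F ?_ ?_ ?_ ⟨k⁻¹ * e * k⁻¹⁻¹, mem_cj he, ?_⟩
        · exact (Set.image_mono Set.inter_subset_left).trans hkE.le
        · exact closed_cj (E := E ∩ cj h E)
            (fun a ha b hb => ⟨hE a ha.1 b hb.1, closed_cj hE h a ha.2 b hb.2⟩) _
        · rw [← hd', ← cj_cent hconj]
          exact Set.image_mono (Set.subset_inter (hA x ⟨k, hk, hxk⟩) hAx)
        · rw [← hd', Commute.conj_iff]
          exact hxe
      have h1 : E ∩ cj h E = E := by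
        have := congrArg (cj k) hF
        rwa [← cj_mul, mul_inv_cancel, cj_one, cj_closed hE hk] at this
      have hhE : cj h E = E := by
        refine (Set.eq_of_subset_of_ncard_le (Set.inter_eq_left.mp h1) ?_ (Set.toFinite _)).symm
        rw [ncard_cj]
      have hM : ∀ m, m ∈ M ↔ h * m * h⁻¹ ∈ M := by
        have e' : M.map (MulAut.conj h).toMonoidHom = M := by
          rw [MonoidHom.map_closure]
          exact congrArg Subgroup.closure hhE
        intro m
        constructor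
        · exact fun hm => e'.le ⟨m, hm, rfl⟩
        · intro hm
          obtain ⟨m', hm', e''⟩ := e'.ge hm
          rwa [(MulAut.conj h).injective (show MulAut.conj h m' = MulAut.conj h m from e'')] at hm'
      obtain ⟨k₁, hk₁, hxk₁⟩ := hx₁
      have e2 : h * d * h⁻¹ = (h * k₁⁻¹ * h⁻¹ * k) * d * (h * k₁⁻¹ * h⁻¹ * k)⁻¹ := by
        have : k * d * k⁻¹ = h * (k₁ * d * k₁⁻¹) * h⁻¹ := by rw [← hxk, ← hxk₁]
        rw [show h * k₁⁻¹ * h⁻¹ * k * d * (h * k₁⁻¹ * h⁻¹ * k)⁻¹ =
          h * k₁⁻¹ * h⁻¹ * (k * d * k⁻¹) * (h * k₁ * h⁻¹) by group, this]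
        group
      have hl : h * k₁⁻¹ * h⁻¹ * k ∈ M := mul_mem ((hM _).mp (inv_mem hk₁)) hk
      refine Set.eq_of_subset_of_ncard_le ?_ (ncard_cj _ _).ge (Set.toFinite _)
      rintro _ ⟨_, ⟨m, hm, rfl⟩, rfl⟩
      refine ⟨h * m * h⁻¹ * (h * k₁⁻¹ * h⁻¹ * k), mul_mem ((hM m).mp hm) hl, ?_⟩
      simp only
      rw [show h * (m * d * m⁻¹) * h⁻¹ = h * m * h⁻¹ * (h * d * h⁻¹) * (h * m * h⁻¹)⁻¹ by group,
        e2]
      group
    exfalso
    push Not at hnc
    obtain ⟨y₁, hy₁, hxy₁⟩ := hmove x₁ hx₁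
    have hxy : ¬ Commute x (h * y₁ * h⁻¹) := by rwa [Commute.conj_iff]
    have hyh : h * y₁ * h⁻¹ ∈ cj h E := mem_cj (hE₀E hy₁)
    have hyE : h * y₁ * h⁻¹ ∉ E := fun hy => hxy (hnc _ ⟨hy, hyh⟩)
    have hyD : h * y₁ * h⁻¹ ∈ D := hconj h _ (hED (hE₀E hy₁))
    -- no other member of the orbit commutes with `x`
    have hlone : ∀ z ∈ E₀, Commute x z → z = x := by
      intro z hz hxz
      have hxD : x ∈ D := hED (hE₀E hx)
      by_contra hzx
      have hzh : z ∈ cj h E := hAx ⟨hED (hE₀E hz), hxz⟩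
      obtain ⟨z₁, hz₁, rfl⟩ := hzh
      by_cases hz₀ : z₁ ∈ E₀
      · refine hzx (eq_of_v hD hprim hxD (hED (hE₀E hz)) fun u hu => ⟨hu.1, hnc u ⟨hA _ hz hu, ?_⟩⟩)
        have := hu
        rw [← cj_cent hconj] at this
        exact Set.image_mono (hA _ hz₀) this
      · refine hyE (hA _ hz ⟨hyD, (Commute.conj_iff h).mpr ?_⟩)
        by_contra hn
        exact hz₀ (hout y₁ hy₁ z₁ hz₁ fun hc' => hn hc'.symm)
    obtain ⟨k, hk, hxk⟩ := hx
    apply hdc
    rw [← eq_of_w hD hprim hw hd (hED hc) (fun u hu => ⟨⟨hu.1.1, ?_⟩, ?_⟩)]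
    · by_contra hn
      have hu0 : u ∈ E₀ := hout c (hout d hd₀ c hc hdc) u (hAE hu.1) hn
      obtain ⟨m, hm, hum⟩ := hu0
      have hz := hlone (k * u * k⁻¹) ⟨k * m, mul_mem hk hm, by rw [hum]; group⟩
        (by rw [hxk, Commute.conj_iff]; exact hu.1.2)
      rw [hxk] at hz
      exact hu.2 (mul_left_cancel (mul_right_cancel hz))
    · intro e
      exact hdc (by rw [Set.mem_singleton_iff] at e; exact e ▸ hu.1.2)
  rcases hprim.2.2 E₀ (hE₀E.trans hED) hblock with hs | hall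
  · exact hdc (hs (hout d hd₀ c hc hdc) hd₀ ▸ Commute.refl _)
  · exact hne (Set.Subset.antisymm hED (hall ▸ hE₀E))

/-- Let D be a conjugation-invariant generating set of 3-transpositions of the finite group G on which G acts primitively by conjugation, and suppose two different members of D commute (width at least 2). Then G has a quasisimple normal subgroup L of index at most 2 with the generalized Fitting subgroup of G equal to L times the centre, the commuting graph of D is connected, and for d in D the subgroup generated by the members of D commuting with d is a maximal D-subgroup: it is proper, and every subgroup generated by members of D that contains it is either it or G. -/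
theorem result {G : Type*} [Group G] [Finite G] {D : Set G} (hD : Cfsg.IsThreeTranspositionGroup D) (hprim : Cfsg.IsPrimitiveUnderConj D) (hw : ∃ a ∈ D, ∃ b ∈ D, a ≠ b ∧ Commute a b) : (∃ L : Subgroup G, L.Normal ∧ Cfsg.IsQuasisimple L ∧ L.index ≤ 2 ∧ Cfsg.generalizedFittingSubgroup G = L ⊔ Subgroup.center G) ∧ (Cfsg.commutingGraph D).Connected ∧ ∀ d ∈ D, Subgroup.closure {y : G | y ∈ D ∧ Commute d y} ≠ ⊤ ∧ ∀ H : Subgroup G, Cfsg.IsDSubgroup D H → Subgroup.closure {y : G | y ∈ D ∧ Commute d y} ≤ H → H = Subgroup.closure {y : G | y ∈ D ∧ Commute d y} ∨ H = ⊤ := by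
  have hcl : Cfsg.IsThreeTranspositionClass D := by
    refine ⟨hD.1, ?_, hD.2.2⟩
    obtain ⟨a, ha, -⟩ := hprim.2.1
    refine ⟨a, ha, Set.ext fun x => ⟨fun hx => isConj_iff.mpr (hprim.1 a ha x hx), fun hx => ?_⟩⟩
    obtain ⟨g, rfl⟩ := isConj_iff.mp (show IsConj a x from hx)
    exact hD.2.1 g a ha
  have h2 := pCore_two_le_center hcl hprim
  have h3 := pCore_three_le_center hcl hprim hw
  have hcon := connected_of_primitive hcl hprim hw
  refine ⟨?_, hcon, fun d hd => ⟨?_, fun H hH hle => ?_⟩⟩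
  · obtain ⟨L, hn, hq, hF, -⟩ := S5352.result hcl hprim.2.1 h2 h3
    haveI := hn
    exact ⟨L, hn, hq, (S5353.result hcl hprim.2.1 h2 h3 L hq hF).2 hcon, hF⟩
  · intro htop
    obtain ⟨e, he, hde⟩ := ThreeTrans.exists_not_commute hcl hprim.2.1 hd
    have hle : Subgroup.closure {y : G | y ∈ D ∧ Commute d y} ≤
        Subgroup.centralizer ({d} : Set G) :=
      (Subgroup.closure_le _).mpr fun y hy => Subgroup.mem_centralizer_singleton_iff.mpr hy.2.eq.symm
    exact hde (Subgroup.mem_centralizer_singleton_iff.mp (hle (htop ▸ Subgroup.mem_top e))).symm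
  · set E : Set G := {y | y ∈ D ∧ y ∈ H} with hE
    by_cases h : ∃ c ∈ E, ¬ Commute d c
    · right
      have he := closed_eq hcl hprim hw hd _ E rfl (fun y hy => hy.1)
        (fun a ha b hb => ⟨hD.2.1 a b hb.1, mul_mem (mul_mem ha.2 hb.2) (inv_mem ha.2)⟩)
        (fun y hy => ⟨hy.1, hle (Subgroup.subset_closure hy)⟩) h
      rw [eq_top_iff, ← hD.2.2, Subgroup.closure_le]
      exact fun y hy => (he.ge hy).2
    · left
      push Not at h
      refine le_antisymm ?_ hle
      rw [← hH]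
      exact Subgroup.closure_mono fun y hy => ⟨hy.1, h y hy⟩

end Cfsg.Agent.S5354
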