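import Cfsg.Statements.S5463
import Cfsg.Agent.Lib.ThreeTransLine

set_option autoImplicit false
open Cfsg

namespace Cfsg.Agent.S5463

open Cfsg.Agent.ThreeTransRel Cfsg.Agent.ThreeTransDescent Cfsg.Agent.ThreeTransLine

variable {G : Type*} [Group G] [Finite G] {D : Set G}

/-- Exactly two triples with a given product. -/
theorem two_triples (ht : TSys D) (hprim : Cfsg.IsPrimitiveUnderConj D)
    (hZ : Subgroup.center G = ⊥) (hline : ∀ s ∈ D, LineAt D s) {l₀ : List G} (hl : CList D l₀)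
    (hlen : l₀.length = 3) :
    ∃ l₂ : List G, CList D l₂ ∧ l₂.length = 3 ∧ l₂.prod = l₀.prod ∧ ¬ (∀ x, x ∈ l₀ ↔ x ∈ l₂) ∧
      ∀ m : List G, CList D m → m.length = 3 → m.prod = l₀.prod →
        (∀ x, x ∈ m ↔ x ∈ l₀) ∨ (∀ x, x ∈ m ↔ x ∈ l₂) := by
  classical
  obtain ⟨a, b, c, rfl⟩ := List.length_eq_three.mp hlen
  have hnd := hl.nodup
  simp only [List.nodup_cons, List.mem_cons, List.not_mem_nil, or_false, not_or, not_false_eq_true,
    List.nodup_nil, and_true] at hnd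
  obtain ⟨⟨hab, hac⟩, hbc⟩ := hnd
  have ha := hl.mem a (by simp)
  have hb := hl.mem b (by simp)
  have hc := hl.mem c (by simp)
  have cab := hl.comm a (by simp) b (by simp)
  have cac := hl.comm a (by simp) c (by simp)
  have cbc := hl.comm b (by simp) c (by simp)
  have hbn : b ∈ near D a := ⟨hb, fun e => hab e.symm, cab⟩
  have hcn : c ∈ near D a := ⟨hc, fun e => hac e.symm, cac⟩
  obtain ⟨l, h5⟩ := (hline a ha).1 b hbn c hcn cbc hbc
  have h6 := six ht hprim hZ hline ha h5 hbn hcn cbc hbc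
  set l₂ := (l.erase b).erase c with hl₂
  have hcb : c ∈ l.erase b := (h5.nodup.mem_erase_iff).mpr ⟨fun e => hbc e.symm, h5.right_mem⟩
  have hmem₂ : ∀ p, p ∈ l₂ ↔ p ∈ l ∧ p ≠ b ∧ p ≠ c := fun p => by
    rw [hl₂, (h5.nodup.erase b).mem_erase_iff, h5.nodup.mem_erase_iff]; tauto
  have hC : CList D l₂ := ⟨fun p hp => (h5.near_mem p ((hmem₂ p).mp hp).1).1,
    (h5.nodup.erase b).erase c,
    fun p hp q hq => h5.comm p ((hmem₂ p).mp hp).1 q ((hmem₂ q).mp hq).1⟩
  have hlen₂ : l₂.length = 3 := by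
    rw [hl₂, List.length_erase_of_mem hcb, List.length_erase_of_mem h5.left_mem, h5.len]
  have hperm : l.Perm (b :: c :: l₂) :=
    (List.perm_cons_erase h5.left_mem).trans ((List.perm_cons_erase hcb).cons b)
  have hprod₂ : l₂.prod = [a, b, c].prod := by
    rw [hperm.prod_eq' (List.pairwise_of_forall_mem_list fun x hx y hy => h5.comm x hx y hy),
      List.prod_cons, List.prod_cons] at h6
    have e : [a, b, c].prod * l₂.prod = 1 := by
      rw [← h6]; simp [mul_assoc]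
    rw [eq_inv_of_mul_eq_one_right e, inv_eq_of_mul_eq_one_right (hl.prod_sq ht)]
  refine ⟨l₂, hC, hlen₂, hprod₂, fun h => ?_, fun m hm hmlen hmp => ?_⟩
  · exact (h5.near_mem a ((hmem₂ a).mp ((h a).mp (by simp))).1).2.1 rfl
  by_cases hcom : ∃ x ∈ m, x ∈ [a, b, c]
  · left
    obtain ⟨x, hx, hx'⟩ := hcom
    have p1 := List.perm_cons_erase hx
    have p2 := List.perm_cons_erase hx'
    rw [hm.prod_perm p1, hl.prod_perm p2, List.prod_cons, List.prod_cons] at hmp
    have := ThreeTransPairs.pair_unique ht hprim (hm.sublist List.erase_sublist)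
      (by rw [List.length_erase_of_mem hx, hmlen]) (hl.sublist List.erase_sublist)
      (by rw [List.length_erase_of_mem hx', hlen]) (mul_left_cancel hmp)
    intro y
    rw [p1.mem_iff, p2.mem_iff, List.mem_cons, List.mem_cons, this y]
  · right
    push Not at hcom
    have hsub : ∀ p ∈ m, p ∈ l₂ := by
      intro p hp
      have hall : ∀ x ∈ [a, b, c], Commute p x := by
        have hjp : Commute p [a, b, c].prod := by
          rw [← hmp]
          exact Commute.list_prod_right _ _ fun y hy => hm.comm p hp y hy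
        exact cnt_eq_zero.mp ((key ht (hm.mem p hp) hl hlen.le).1.mp hjp)
      have hne : p ≠ a ∧ p ≠ b ∧ p ≠ c := by
        have := hcom p hp
        simp only [List.mem_cons, List.not_mem_nil, or_false, not_or] at this
        exact this
      have hpn : p ∈ near D a := ⟨hm.mem p hp, hne.1, (hall a (by simp)).symm⟩
      refine (hmem₂ p).mpr ⟨h5.maximal p hpn fun y hy hyb hyc => ?_, hne.2.1, hne.2.2⟩
      have hj : Commute y m.prod := by
        rw [hmp]
        refine Commute.list_prod_right _ _ fun x hx => ?_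
        simp only [List.mem_cons, List.not_mem_nil, or_false] at hx
        rcases hx with rfl | rfl | rfl
        · exact hy.2.2.symm
        · exact hyb
        · exact hyc
      exact cnt_eq_zero.mp ((key ht hy.1 hm hmlen.le).1.mp hj) p hp
    have hp : m.Perm l₂ :=
      (List.subperm_of_subset hm.nodup hsub).perm_of_length_le (by rw [hlen₂, hmlen])
    exact fun x => hp.mem_iff

/-- Let G be a finite group with trivial centre generated by a conjugation-invariant set D of 3-transpositions on which it acts primitively, such that for some d in D the subgroup generated by the members of D other than d commuting with d has central largest normal 2- and 3-subgroups, and suppose G with D is of type M(22). A product j of two distinct commuting members of D determines the pair: any two 2-element sets of commuting members of D with product j coincide. A product j of three distinct pairwise commuting members of D arises from exactly two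 such 3-element sets. -/
theorem result {G : Type*} [Group G] [Finite G] {D : Set G} (hD : Cfsg.IsThreeTranspositionGroup D) (hprim : Cfsg.IsPrimitiveUnderConj D) (d₀ : G) (hd₀ : d₀ ∈ D) (h3 : Cfsg.pCore 3 ↥(Subgroup.closure {y : G | y ∈ D ∧ y ≠ d₀ ∧ Commute d₀ y}) ≤ Subgroup.center ↥(Subgroup.closure {y : G | y ∈ D ∧ y ≠ d₀ ∧ Commute d₀ y})) (h2 : Cfsg.pCore 2 ↥(Subgroup.closure {y : G | y ∈ D ∧ y ≠ d₀ ∧ Commute d₀ y}) ≤ Subgroup.center ↥(Subgroup.closure {y : G | y ∈ D ∧ y ≠ d₀ ∧ Commute d₀ y})) (h22 : Cfsg.IsOfTypeM22 G D) : (∀ (j : G) (l l' : List G), (l.Nodup ∧ l.length = 2 ∧ (∀ a ∈ l, a ∈ D) ∧ (∀ a ∈ l, ∀ b ∈ l, Commute a b) ∧ l.prod = j) → (l'.Nodup ∧ l'.length = 2 ∧ (∀ a ∈ l', a ∈ D) ∧ (∀ a ∈ l', ∀ b ∈ l', Commute a b) ∧ l'.prod = j) → (∀ x : G, x ∈ l ↔ x ∈ l')) ∧ ∀ (j : G) (l₀ : List G), (l₀.Nodup ∧ l₀.length = 3 ∧ (∀ a ∈ l₀, a ∈ D) ∧ (∀ a ∈ l₀, ∀ b ∈ l₀, Commute a b) ∧ l₀.prod = j) → ∃ l₁ l₂ : List G, (l₁.Nodup ∧ l₁.length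 = 3 ∧ (∀ a ∈ l₁, a ∈ D) ∧ (∀ a ∈ l₁, ∀ b ∈ l₁, Commute a b) ∧ l₁.prod = j) ∧ (l₂.Nodup ∧ l₂.length = 3 ∧ (∀ a ∈ l₂, a ∈ D) ∧ (∀ a ∈ l₂, ∀ b ∈ l₂, Commute a b) ∧ l₂.prod = j) ∧ ¬ (∀ x : G, x ∈ l₁ ↔ x ∈ l₂) ∧ ∀ l : List G, (l.Nodup ∧ l.length = 3 ∧ (∀ a ∈ l, a ∈ D) ∧ (∀ a ∈ l, ∀ b ∈ l, Commute a b) ∧ l.prod = j) → ((∀ x : G, x ∈ l ↔ x ∈ l₁) ∨ (∀ x : G, x ∈ l ↔ x ∈ l₂)) := by
  have ht : TSys D := tsys_of_group hD
  have hline := lineAt_all ht hprim h22
  refine ⟨?_, ?_⟩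
  · rintro j l l' ⟨hn, hlen, hmem, hcomm, hp⟩ ⟨hn', hlen', hmem', hcomm', hp'⟩
    exact ThreeTransPairs.pair_unique ht hprim ⟨hmem, hn, hcomm⟩ hlen ⟨hmem', hn', hcomm'⟩ hlen'
      (hp.trans hp'.symm)
  · rintro j l₀ ⟨hn, hlen, hmem, hcomm, hp⟩
    obtain ⟨l₂, hC, hlen₂, hp₂, hne, hall⟩ :=
      two_triples ht hprim h22.1 hline ⟨hmem, hn, hcomm⟩ hlen
    refine ⟨l₀, l₂, ⟨hn, hlen, hmem, hcomm, hp⟩, ⟨hC.nodup, hlen₂, hC.mem, hC.comm, hp₂.trans hp⟩,
      hne, ?_⟩
    rintro m ⟨hnm, hlm, hmm, hcm, hpm⟩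
    exact hall m ⟨hmm, hnm, hcm⟩ hlm (hpm.trans hp.symm)

end Cfsg.Agent.S5463
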