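import Cfsg.Statements.S5377
import Cfsg.Agent.Lib.Fi22RecogMain11
import Cfsg.Agent.Lib.Fi22Refl55

set_option autoImplicit false
open Cfsg

namespace Cfsg.Agent.S5377

/-- Let G be a finite group with an involution d whose centralizer C is quasisimple with C modulo the subgroup generated by d isomorphic to the projective special unitary group of dimension 6 over the field with four elements, and suppose some conjugate of d other than d commutes with d. Then the conjugacy class of d is a class of 3-transpositions generating G, and G with this class is of type M(22). -/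
theorem result {G : Type*} [Group G] [Finite G] (d : G) (hd : orderOf d = 2) (hq : Cfsg.IsQuasisimple (Subgroup.centralizer ({d} : Set G))) [((Subgroup.zpowers d).subgroupOf (Subgroup.centralizer ({d} : Set G))).Normal] (K : Type) [Field K] [Fintype K] (hK : Fintype.card K = 4) (e : (Subgroup.centralizer ({d} : Set G)) ⧸ (Subgroup.zpowers d).subgroupOf (Subgroup.centralizer ({d} : Set G)) ≃* Cfsg.PSU 6 K 2) (hnwc : ∃ g : G, g * d * g⁻¹ ∈ Subgroup.centralizer ({d} : Set G) ∧ g * d * g⁻¹ ≠ d) : Cfsg.IsThreeTranspositionClass (conjugatesOf d) ∧ Cfsg.IsOfTypeM22 G (conjugatesOf d) := by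
  haveI : Cfsg.Agent.UnitaryF4Geo.FourField K := ⟨hK⟩
  obtain ⟨θ, S⟩ := Cfsg.Agent.Fi22RecogBridge11.exists_setup hd hq e hnwc
  obtain ⟨f, hf⟩ := Cfsg.Agent.ThreeTransM22Pres51.exists_equiv_of_hyp (Cfsg.Agent.Fi22RecogMain11.hyp S)
  obtain ⟨a, c, rfl, hc, hn, hrefl⟩ := Cfsg.Agent.Fi22Refl55.exists_clause f
  have ha : f (PresentedGroup.of Cfsg.Spor.Fi22.Gen.a) ∈ conjugatesOf d := hf _
  have he : conjugatesOf (f (PresentedGroup.of Cfsg.Spor.Fi22.Gen.a)) = conjugatesOf d :=
    (IsConj.conjugatesOf_eq ha).symm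
  rw [he] at hc hrefl
  refine ⟨Cfsg.Agent.Fi22RecogMain11.class_three S, Cfsg.Agent.Fi22RecogLocal11.center_eq_bot S,
    _, ha, c, hc, hn, ⟨K, inferInstance, inferInstance, hK, ?_⟩, 1, one_ne_zero, hrefl⟩
  exact Cfsg.Agent.Fi22RecogMain11.exists_quot_equiv S ha

end Cfsg.Agent.S5377
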