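import Cfsg.Statements.S5306
-- import your own Cfsg.Agent.* helpers here

set_option autoImplicit false
open Cfsg

namespace Cfsg.Agent.S5306

open scoped Pointwise

/-- elementary abelian subgroups of largest order inside `P` -/
def maxIn {X : Type*} [Group X] (p : ℕ) (P : Subgroup X) : Set (Subgroup X) :=
  {A | A ≤ P ∧ Cfsg.IsElementaryAbelian p A ∧
    ∀ B : Subgroup X, B ≤ P → Cfsg.IsElementaryAbelian p B → Nat.card B ≤ Nat.card A}

theorem elemAb_map {X Y : Type*} [Group X] [Group Y] (p : ℕ) (f : X →* Y) {A : Subgroup X}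
    (hA : Cfsg.IsElementaryAbelian p A) : Cfsg.IsElementaryAbelian p (A.map f) := by
  obtain ⟨hc, hp⟩ := hA
  refine ⟨⟨⟨?_⟩⟩, ?_⟩
  · rintro ⟨_, a, ha, rfl⟩ ⟨_, b, hb, rfl⟩
    apply Subtype.ext
    have := congrArg (fun z : A => f (z : X)) (hc.is_comm.comm ⟨a, ha⟩ ⟨b, hb⟩)
    simpa using this
  · rintro _ ⟨a, ha, rfl⟩
    rw [← map_pow, hp a ha, map_one]

theorem elemAb_subgroupOf {X : Type*} [Group X] (p : ℕ) {A P : Subgroup X}
    (hA : Cfsg.IsElementaryAbelian p A) : Cfsg.IsElementaryAbelian p (A.subgroupOf P) := by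
  obtain ⟨hc, hp⟩ := hA
  refine ⟨⟨⟨?_⟩⟩, ?_⟩
  · rintro ⟨a, ha⟩ ⟨b, hb⟩
    apply Subtype.ext
    apply Subtype.ext
    exact congrArg (fun z : A => (z : X)) (hc.is_comm.comm ⟨(a : X), ha⟩ ⟨(b : X), hb⟩)
  · intro a ha
    exact Subtype.ext (by simpa using hp (a : X) ha)

theorem card_map_subtype {X : Type*} [Group X] {P : Subgroup X} (A : Subgroup P) :
    Nat.card (A.map P.subtype) = Nat.card A :=
  Subgroup.card_map_of_injective P.subtype_injective

theorem thompsonOf_eq {X : Type*} [Group X] (p : ℕ) (P : Subgroup X) :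
    Cfsg.thompsonSubgroupOf p P = sSup (maxIn p P) := by
  apply le_antisymm
  · rw [Cfsg.thompsonSubgroupOf, Cfsg.thompsonSubgroup, Subgroup.map_le_iff_le_comap]
    refine sSup_le fun A hA => ?_
    rw [← Subgroup.map_le_iff_le_comap]
    refine le_sSup ⟨Subgroup.map_subtype_le A, elemAb_map p _ hA.1, fun B hB hB' => ?_⟩
    have h := hA.2 (B.subgroupOf P) (elemAb_subgroupOf p hB')
    rwa [card_map_subtype, ← Nat.card_congr (Subgroup.subgroupOfEquivOfLe hB).toEquiv]
  · refine sSup_le fun A hA => ?_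
    rw [Cfsg.thompsonSubgroupOf, ← Subgroup.map_subgroupOf_eq_of_le hA.1]
    refine Subgroup.map_mono (le_sSup ⟨elemAb_subgroupOf p hA.2.1, fun B hB => ?_⟩)
    have h := hA.2.2 (B.map P.subtype) (Subgroup.map_subtype_le B) (elemAb_map p _ hB)
    rwa [card_map_subtype, ← Nat.card_congr (Subgroup.subgroupOfEquivOfLe hA.1).toEquiv] at h

theorem maxIn_map {X Y : Type*} [Group X] [Group Y] (p : ℕ) (e : X ≃* Y) (P : Subgroup X)
    {A : Subgroup X} (hA : A ∈ maxIn p P) : A.map e.toMonoidHom ∈ maxIn p (P.map e.toMonoidHom) := by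
  refine ⟨Subgroup.map_mono hA.1, elemAb_map p _ hA.2.1, fun B hB hB' => ?_⟩
  have hB2 : B.map e.symm.toMonoidHom ≤ P := by
    refine (Subgroup.map_mono hB).trans ?_
    rintro _ ⟨_, ⟨x, hx, rfl⟩, rfl⟩
    simpa using hx
  have h := hA.2.2 _ hB2 (elemAb_map p _ hB')
  rw [Subgroup.card_map_of_injective e.injective]
  rwa [Subgroup.card_map_of_injective e.symm.injective] at h

theorem thompsonOf_le_map {X Y : Type*} [Group X] [Group Y] (p : ℕ) (e : X ≃* Y) (P : Subgroup X) :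
    (Cfsg.thompsonSubgroupOf p P).map e.toMonoidHom ≤
      Cfsg.thompsonSubgroupOf p (P.map e.toMonoidHom) := by
  rw [thompsonOf_eq, thompsonOf_eq, Subgroup.map_le_iff_le_comap]
  refine sSup_le fun A hA => ?_
  rw [← Subgroup.map_le_iff_le_comap]
  exact le_sSup (maxIn_map p e P hA)

theorem thompsonOf_map {X Y : Type*} [Group X] [Group Y] (p : ℕ) (e : X ≃* Y) (P : Subgroup X) :
    (Cfsg.thompsonSubgroupOf p P).map e.toMonoidHom =
      Cfsg.thompsonSubgroupOf p (P.map e.toMonoidHom) := by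
  refine le_antisymm (thompsonOf_le_map p e P) ?_
  have h := Subgroup.map_mono (f := e.toMonoidHom) (thompsonOf_le_map p e.symm (P.map e.toMonoidHom))
  have h' : ∀ Q : Subgroup Y, (Q.map e.symm.toMonoidHom).map e.toMonoidHom = Q := by
    intro Q; rw [Subgroup.map_map]; convert Subgroup.map_id Q; ext; simp
  have h'' : (P.map e.toMonoidHom).map e.symm.toMonoidHom = P := by
    rw [Subgroup.map_map]; convert Subgroup.map_id P; ext; simp
  rwa [h', h''] at h

/-- A Sylow subgroup containing `J(P)` has the same Thompson subgroup. -/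
theorem thompsonOf_eq_of_le {X : Type*} [Group X] [Finite X] (p : ℕ) [Fact p.Prime]
    (P Q : Sylow p X) (h : Cfsg.thompsonSubgroupOf p (P : Subgroup X) ≤ Q) :
    Cfsg.thompsonSubgroupOf p (P : Subgroup X) = Cfsg.thompsonSubgroupOf p (Q : Subgroup X) := by
  obtain ⟨k, hk⟩ := MulAction.exists_smul_eq X Q P
  have hQP : (Q : Subgroup X).map (MulAut.conj k).toMonoidHom = (P : Subgroup X) := by
    rw [← hk]; rfl
  apply Subgroup.eq_of_le_of_card_ge
  · rw [thompsonOf_eq, thompsonOf_eq]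
    refine sSup_le fun A hA => le_sSup ⟨?_, hA.2.1, fun B hB hB' => ?_⟩
    · have : A ≤ Cfsg.thompsonSubgroupOf p (P : Subgroup X) := by
        rw [thompsonOf_eq]; exact le_sSup hA
      exact this.trans h
    · have h1 := hA.2.2 _ ((Subgroup.map_mono hB).trans hQP.le) (elemAb_map p _ hB')
      rwa [Subgroup.card_map_of_injective (MulAut.conj k).injective] at h1
  · rw [← hQP, ← thompsonOf_map, Subgroup.card_map_of_injective (MulAut.conj k).injective]

/-- Let P be a Sylow p-subgroup of the finite group X and J = J(P) its Thompson subgroup (generated by the elementary abelian subgroups of P of largest order). If x and y lie in the centre of J and y = g x g⁻¹ for some g in X, then y = n x n⁻¹ for some n in the normalizer N_X(J). -/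
theorem result {X : Type*} [Group X] [Finite X] (p : ℕ) [Fact p.Prime] (P : Sylow p X) (J : Subgroup X) (hJ : J = Cfsg.thompsonSubgroupOf p (P : Subgroup X))
    (x y : X) (hx : x ∈ J ∧ ∀ j ∈ J, Commute j x) (hy : y ∈ J ∧ ∀ j ∈ J, Commute j y) (g : X) (hg : g * x * g⁻¹ = y) :
    ∃ n ∈ Subgroup.normalizer (J : Set X), n * x * n⁻¹ = y := by
  subst hJ
  obtain ⟨hxJ, hxc⟩ := hx
  obtain ⟨hyJ, hyc⟩ := hy
  set J := Cfsg.thompsonSubgroupOf p (P : Subgroup X) with hJdef
  set K := Subgroup.centralizer ({y} : Set X) with hK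
  have hJK : J ≤ K := fun j hj => Subgroup.mem_centralizer_singleton_iff.2 (hyc j hj).eq
  have hJgK : J.map (MulAut.conj g).toMonoidHom ≤ K := by
    rintro _ ⟨j, hj, rfl⟩
    rw [Subgroup.mem_centralizer_singleton_iff]
    show g * j * g⁻¹ * y = y * (g * j * g⁻¹)
    rw [← hg]
    calc g * j * g⁻¹ * (g * x * g⁻¹) = g * (j * x) * g⁻¹ := by group
      _ = g * (x * j) * g⁻¹ := by rw [(hxc j hj).eq]
      _ = g * x * g⁻¹ * (g * j * g⁻¹) := by group
  have hJle : J ≤ (P : Subgroup X) := Subgroup.map_subtype_le _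
  have hJp : IsPGroup p J := P.2.to_le hJle
  obtain ⟨T1, hT1⟩ := (hJp.comap_subtype (K := K)).exists_le_sylow
  obtain ⟨T2, hT2⟩ := ((hJp.map (MulAut.conj g).toMonoidHom).comap_subtype (K := K)).exists_le_sylow
  obtain ⟨c, hc⟩ := MulAction.exists_smul_eq K T2 T1
  obtain ⟨Q, hQ⟩ := (T1.2.map K.subtype).exists_le_sylow
  have hJQ : J ≤ (Q : Subgroup X) := fun j hj => hQ ⟨⟨j, hJK hj⟩, hT1 hj, rfl⟩
  have hJQ' : J.map (MulAut.conj ((c : X) * g)).toMonoidHom ≤ (Q : Subgroup X) := by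
    rintro _ ⟨j, hj, rfl⟩
    have hm : (⟨g * j * g⁻¹, hJgK ⟨j, hj, rfl⟩⟩ : K) ∈ (T2 : Subgroup K) := hT2 ⟨j, hj, rfl⟩
    have hm' : c * ⟨g * j * g⁻¹, hJgK ⟨j, hj, rfl⟩⟩ * c⁻¹ ∈ (T1 : Subgroup K) := by
      rw [← hc]; exact ⟨_, hm, rfl⟩
    apply hQ
    refine ⟨_, hm', ?_⟩
    simp [mul_assoc]
  obtain ⟨P', hP'⟩ : ∃ P' : Sylow p X,
      (P' : Subgroup X) = (P : Subgroup X).map (MulAut.conj ((c : X) * g)).toMonoidHom :=
    ⟨((c : X) * g) • P, rfl⟩
  have h1 := thompsonOf_eq_of_le p P Q hJQ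
  have h2 := thompsonOf_eq_of_le p P' Q (by rw [hP', ← thompsonOf_map]; exact hJQ')
  rw [hP', ← thompsonOf_map, ← h1, ← hJdef] at h2
  refine ⟨(c : X) * g, ?_, ?_⟩
  · rw [Subgroup.mem_normalizer_iff]
    intro j
    have e : ∀ z : X, (MulAut.conj ((c : X) * g)).toMonoidHom z = (c : X) * g * z * ((c : X) * g)⁻¹ :=
      fun _ => rfl
    constructor
    · intro hj; rw [← h2, ← e]; exact ⟨j, hj, rfl⟩
    · intro hj
      obtain ⟨i, hi, hie⟩ := h2.ge hj
      rw [e] at hie
      have : i = j := mul_left_cancel (mul_right_cancel hie)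
      exact this ▸ hi
  · have := Subgroup.mem_centralizer_singleton_iff.1 c.2
    calc (c : X) * g * x * ((c : X) * g)⁻¹ = (c : X) * (g * x * g⁻¹) * (c : X)⁻¹ := by group
      _ = y * (c : X) * (c : X)⁻¹ := by rw [hg, this]
      _ = y := by group

end Cfsg.Agent.S5306
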