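import Cfsg.Statements.S5440
import Cfsg.Agent.Lib.FischerFrameLocal18
-- helpers above

set_option autoImplicit false
open Cfsg

namespace Cfsg.Agent.S5440

/-- Let G be a finite group of large Fischer type at the involution z: the generalized Fitting subgroup Q of H = C_G(z) is extraspecial of order 2^13, H has normal subgroups Q ≤ H₁ ≤ H₂ with H₁/Q of order 3, H₂/H₁ the projective special unitary group of dimension 4 over the field with nine elements and H₂ of index 2 in H, and some conjugate of z other than z lies in Q. Then H has exactly two orbits, under conjugation, on the involutions of Q other than z. -/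
theorem result {G : Type*} [Group G] [Finite G] (z : G) (Q : Subgroup (Subgroup.centralizer ({z} : Set G))) [Q.Normal] (hF : Cfsg.IsOfLargeFischerTypeAt z Q) : ∃ s t : Subgroup.centralizer ({z} : Set G), s ∈ Q ∧ t ∈ Q ∧ orderOf s = 2 ∧ orderOf t = 2 ∧ (s : G) ≠ z ∧ (t : G) ≠ z ∧ (¬ ∃ h : Subgroup.centralizer ({z} : Set G), h * s * h⁻¹ = t) ∧ ∀ x : Subgroup.centralizer ({z} : Set G), x ∈ Q → orderOf x = 2 → (x : G) ≠ z → (∃ h : Subgroup.centralizer ({z} : Set G), h * s * h⁻¹ = x) ∨ ∃ h : Subgroup.centralizer ({z} : Set G), h * t * h⁻¹ = x := by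
  obtain ⟨V, _, zc, π, ρ, q, F, S⟩ := FischerFrame18.exists_setting z Q hF
  obtain ⟨k, e, B⟩ := FischerFrame18.exists_basis S.frame S.orth
  obtain ⟨j, hj, hrel, -⟩ := S.classes B
  let dA : FischerFrame18.Co := ![some 0, some 0, none, none, none, none]
  let dB : FischerFrame18.Co := ![some 0, some 0, some 0, some 0, none, none]
  have hA : FischerFrame18.Sing2 dA := by decide
  have hB : FischerFrame18.Sing2 dB := by decide
  have kA : FischerFrame18.kind dA ∈ ({0, j} : Finset (Fin 5)) := by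
    simp [show FischerFrame18.kind dA = 0 by decide]
  have kB : FischerFrame18.kind dB ∉ ({0, j} : Finset (Fin 5)) := by
    rw [show FischerFrame18.kind dB = 1 by decide]
    exact (by decide : ∀ j : Fin 5, j ∈ ({2, 3, 4} : Finset (Fin 5)) → (1 : Fin 5) ∉ ({0, j} : Finset (Fin 5))) j hj
  obtain ⟨s, hs, hsπ, hs2, hsz⟩ := S.exists_lift B dA hA
  obtain ⟨t, ht, htπ, ht2, htz⟩ := S.exists_lift B dB hB
  refine ⟨s, t, hs, ht, hs2, ht2, hsz, htz, ?_, fun x hx hx2 hxz => ?_⟩
  · rintro ⟨h, hh⟩
    have hr := S.rel_of_conj hs hh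
    rw [hsπ, htπ] at hr
    exact kB (((hrel dA dB hA hB).1 hr).1 kA)
  · obtain ⟨d, hd, hdπ⟩ := S.exists_co B hx
      (by rw [← pow_two, ← hx2]; exact pow_orderOf_eq_one x)
      (fun e1 => by rw [e1, orderOf_one] at hx2; omega) hxz
    have hx0 : π x ≠ 0 := hdπ ▸ ((B.sing_iff d).2 hd).1
    by_cases hk : FischerFrame18.kind d ∈ ({0, j} : Finset (Fin 5))
    · exact Or.inl (S.conj_of_rel hs hx hx0 (by
        rw [hsπ, ← hdπ]; exact (hrel dA d hA hd).2 (iff_of_true kA hk)))
    · exact Or.inr (S.conj_of_rel ht hx hx0 (by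
        rw [htπ, ← hdπ]; exact (hrel dB d hB hd).2 (iff_of_false kB hk)))

end Cfsg.Agent.S5440
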