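import Cfsg.Statements.S5441
import Cfsg.Agent.Lib.FischerFrameLocal18
-- helpers above

set_option autoImplicit false
open Cfsg

namespace Cfsg.Agent.S5441

/-- Let G be a finite group of large Fischer type at the involution z: the generalized Fitting subgroup Q of H = C_G(z) is extraspecial of order 2^13, H has normal subgroups Q ≤ H₁ ≤ H₂ with H₁/Q of order 3, H₂/H₁ the projective special unitary group of dimension 4 over the field with nine elements and H₂ of index 2 in H, and some conjugate of z other than z lies in Q. Then the conjugates of z lying in Q and different from z form a single orbit under conjugation by H. -/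
theorem result {G : Type*} [Group G] [Finite G] (z : G) (Q : Subgroup (Subgroup.centralizer ({z} : Set G))) [Q.Normal] (hF : Cfsg.IsOfLargeFischerTypeAt z Q) (s t : G) (hsQ : ∃ hsc : s ∈ Subgroup.centralizer ({z} : Set G), (⟨s, hsc⟩ : Subgroup.centralizer ({z} : Set G)) ∈ Q) (htQ : ∃ htc : t ∈ Subgroup.centralizer ({z} : Set G), (⟨t, htc⟩ : Subgroup.centralizer ({z} : Set G)) ∈ Q) (hs : IsConj z s) (ht : IsConj z t) (hs1 : s ≠ z) (ht1 : t ≠ z) : ∃ h ∈ Subgroup.centralizer ({z} : Set G), h * s * h⁻¹ = t := by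
  obtain ⟨V, _, zc, π, ρ, q, F, S⟩ := FischerFrame18.exists_setting z Q hF
  obtain ⟨k, e, B⟩ := FischerFrame18.exists_basis S.frame S.orth
  obtain ⟨j, hj, hrel, hno⟩ := S.classes B
  obtain ⟨hsc, hsQ⟩ := hsQ
  obtain ⟨htc, htQ⟩ := htQ
  have hz : z * z = 1 := by rw [← S.zc_val]; exact congrArg Subtype.val S.ext.zz
  have inv : ∀ u : G, IsConj z u → u * u = 1 ∧ u ≠ 1 := by
    intro u hu
    obtain ⟨c, rfl⟩ := isConj_iff.1 hu
    refine ⟨by rw [show c * z * c⁻¹ * (c * z * c⁻¹) = c * (z * z) * c⁻¹ by group, hz]; group, ?_⟩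
    rw [Ne, conj_eq_one_iff, ← S.zc_val]
    exact fun e1 => S.ext.ne_one (Subtype.ext e1)
  obtain ⟨ds, hds, hdsπ⟩ := S.exists_co B hsQ (Subtype.ext (inv s hs).1)
    (fun e1 => (inv s hs).2 (congrArg Subtype.val e1)) hs1
  obtain ⟨dt, hdt, hdtπ⟩ := S.exists_co B htQ (Subtype.ext (inv t ht).1)
    (fun e1 => (inv t ht).2 (congrArg Subtype.val e1)) ht1
  obtain ⟨c, hc⟩ := S.conj_of_rel hsQ htQ (hdtπ ▸ ((B.sing_iff dt).2 hdt).1) (by
    rw [← hdsπ, ← hdtπ]
    exact (hrel ds dt hds hdt).2 (iff_of_false (hno _ hsQ ds hds hdsπ.symm hs) (hno _ htQ dt hdt hdtπ.symm ht)))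
  exact ⟨c, c.2, congrArg Subtype.val hc⟩

end Cfsg.Agent.S5441
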