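import Cfsg.Statements.S5444
import Cfsg.Agent.Lib.LFElem89

set_option autoImplicit false
set_option linter.style.haveILetI false
open Cfsg Cfsg.Agent.LFBound89 Cfsg.Agent.LFSylow89 Cfsg.Agent.LFElem89 Cfsg.Agent.U62Mon93

namespace Cfsg.Agent.S5444

theorem ea_iff {X : Type*} [Group X] (A : Subgroup X) :
    Cfsg.IsElementaryAbelian 2 A ↔ EA A := by
  constructor
  · rintro ⟨-, h⟩
    exact ea_of_sq fun x hx => by rw [← pow_two]; exact h x hx
  · rintro ⟨h1, h2⟩
    exact ⟨⟨⟨fun a b => Subtype.ext (h2 a a.2 b b.2)⟩⟩, fun x hx => by rw [pow_two]; exact h1 x hx⟩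

theorem ea_map {X : Type*} [Group X] {T : Subgroup X} (A : Subgroup T) :
    EA (A.map T.subtype) ↔ EA A := by
  constructor
  · exact fun h => ea_of_sq fun x hx => Subtype.ext (h.1 _ ⟨x, hx, rfl⟩)
  · intro h
    refine ea_of_sq ?_
    rintro _ ⟨x, hx, rfl⟩
    rw [← map_mul, h.1 x hx, map_one]

/-- Let G be a finite group of large Fischer type at the involution z: the generalized Fitting subgroup Q of H = C_G(z) is extraspecial of order 2^13, H has normal subgroups Q ≤ H₁ ≤ H₂ with H₁/Q of order 3, H₂/H₁ the projective special unitary group of dimension 4 over the field with nine elements and H₂ of index 2 in H, and some conjugate of z other than z lies in Q. Let T be a Sylow 2-subgroup of H. Then T has exactly one elementary abelian subgroup A of largest order; A has order 2^11, it meets Q in a subgroup of order 2^7, and its image in H/Q has order 16. -/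
theorem result {G : Type*} [Group G] [Finite G] (z : G) (Q : Subgroup (Subgroup.centralizer ({z} : Set G))) [Q.Normal] (hF : Cfsg.IsOfLargeFischerTypeAt z Q) (T : Sylow 2 ↥(Subgroup.centralizer ({z} : Set G))) : ∃ A : Subgroup ↥(T : Subgroup (Subgroup.centralizer ({z} : Set G))), Cfsg.maxElementaryAbelianSubgroups 2 ↥(T : Subgroup (Subgroup.centralizer ({z} : Set G))) = {A} ∧ Nat.card A = 2 ^ 11 ∧ Nat.card ↥(A.map (T : Subgroup (Subgroup.centralizer ({z} : Set G))).subtype ⊓ Q) = 2 ^ 7 ∧ Nat.card ↥((A.map (T : Subgroup (Subgroup.centralizer ({z} : Set G))).subtype).map (QuotientGroup.mk' Q)) = 16 := by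
  classical
  obtain ⟨V, _, zc, π, ρ, q, n, Mb, D⟩ := LFSetting89.exists_data z Q hF
  haveI : Fintype (GaloisField 2 2) := Fintype.ofFinite _
  have hF4 : Fintype.card (GaloisField 2 2) = 4 := by
    rw [← Nat.card_eq_fintype_card, GaloisField.card 2 2 two_ne_zero]; norm_num
  obtain ⟨s, hs⟩ := exists_S4 hF4
  obtain ⟨ν, Φ, C⟩ := LFModel89.exists_coord (hyp D) hs
  obtain ⟨hea, hcard⟩ := AE_E1 D C
  -- a conjugate inside the Sylow subgroup
  haveI : Fact (Nat.Prime 2) := ⟨Nat.prime_two⟩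
  obtain ⟨S, hS⟩ := hea.pGroup.exists_le_sylow
  obtain ⟨t, ht⟩ := MulAction.exists_smul_eq (Subgroup.centralizer ({z} : Set G)) S T
  set P := (T : Subgroup (Subgroup.centralizer ({z} : Set G))) with hP
  set A1 := cj t (AE D (E1 (hyp D) C)) with hA1
  have hA1P : A1 ≤ P := by
    rintro _ ⟨y, hy, rfl⟩
    have h1 : t * y * t⁻¹ ∈ (t • S : Sylow 2 _) := ⟨y, hS hy, rfl⟩
    rw [ht] at h1
    exact h1
  have hA1ea : EA A1 := hea.cj t
  have hA1card : Nat.card A1 = 2 ^ 11 := by rw [hA1, card_cj, hcard]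
  -- at most one inside the Sylow subgroup
  have huniq : ∀ B : Subgroup (Subgroup.centralizer ({z} : Set G)), B ≤ P → EA B →
      2 ^ 11 ≤ Nat.card B → B = A1 := by
    intro B hBP hB hbig
    obtain ⟨-, -, -, hBM, ⟨g1, -, hg1⟩, hBeq⟩ := big D C hB hbig
    obtain ⟨-, -, -, hAM, ⟨g2, -, hg2⟩, hAeq⟩ := big D C hA1ea hA1card.ge
    have hPimg : IsPGroup 2 ↥(P.map (QuotientGroup.mk' Q) ⊓ Mb) :=
      (T.isPGroup'.map _).to_le inf_le_left
    obtain ⟨g, -, hgT⟩ := exists_conj_T0 (hyp D) C inf_le_right hPimg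
    have key : ∀ B' : Subgroup (Subgroup.centralizer ({z} : Set G)), B' ≤ P → EA B' →
        B'.map (QuotientGroup.mk' Q) ≤ Mb → ∀ g', cj g' (B'.map (QuotientGroup.mk' Q)) = E1 (hyp D) C →
        cj g (B'.map (QuotientGroup.mk' Q)) = E1 (hyp D) C := by
      intro B' hB'P hB' hM g' hg'
      have hb : EA (B'.map (QuotientGroup.mk' Q)) := ea_of_sq (by
        rintro _ ⟨b, hb, rfl⟩; rw [← map_mul, hB'.1 b hb, map_one])
      have h16 : Nat.card (B'.map (QuotientGroup.mk' Q)) = 16 := by
        rw [← card_E1 (hyp D) C, ← hg', card_cj]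
      refine eq_E1 (hyp D) C ((Subgroup.map_mono (le_inf (Subgroup.map_mono hB'P) hM)).trans hgT)
        (hb.cj g) (by rw [card_cj, h16]) (LFBound89.Fix ρ (cj g (B'.map (QuotientGroup.mk' Q)))) le_rfl ?_
      haveI := finiteV D
      refine lt_of_lt_of_le (show 4 < 64 by norm_num) ?_
      rw [← card_Fix_E1 (hyp D) C]
      have hcjcj : cj g (B'.map (QuotientGroup.mk' Q)) = cj (g * g'⁻¹) (E1 (hyp D) C) := by
        rw [← hg', cj, cj, cj, Subgroup.map_map (g := (MulAut.conj (g * g'⁻¹)).toMonoidHom)]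
        congr 1
        refine MonoidHom.ext fun x => ?_
        simp [mul_assoc]
      rw [hcjcj]
      refine Nat.card_le_card_of_injective
        (fun v => (⟨LFModel89.op ρ (g * g'⁻¹) v.1, Fix_cj v.2⟩ :
          LFBound89.Fix ρ (cj (g * g'⁻¹) (E1 (hyp D) C)))) fun a b e => Subtype.ext ?_
      have e' := congrArg (fun w : LFBound89.Fix ρ (cj (g * g'⁻¹) (E1 (hyp D) C)) =>
        LFModel89.op ρ (g * g'⁻¹)⁻¹ w.1) e
      simp only [← LFModel89.rho_mul, inv_mul_cancel, LFModel89.rho_one] at e'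
      exact e'
    have hinj := Subgroup.map_injective (f := (MulAut.conj g).toMonoidHom) (MulAut.conj g).injective
      ((key B hBP hB hBM g1 hg1).trans (key A1 hA1P hA1ea hAM g2 hg2).symm)
    rw [hBeq, hAeq, hinj]
  refine ⟨A1.subgroupOf P, ?_, ?_, ?_, ?_⟩
  · have hmap : (A1.subgroupOf P).map P.subtype = A1 := by
      rw [Subgroup.subgroupOf_map_subtype, inf_eq_left.2 hA1P]
    have hcmap : ∀ B : Subgroup P, Nat.card (B.map P.subtype) = Nat.card B := fun B =>
      Subgroup.card_map_of_injective P.subtype_injective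
    refine Set.ext fun B => ⟨fun hB => ?_, fun hB => ?_⟩
    · have hBea : EA (B.map P.subtype) := (ea_map B).2 ((ea_iff B).1 hB.1)
      have hle := hB.2 (A1.subgroupOf P) ((ea_iff _).2 ((ea_map _).1 (hmap.symm ▸ hA1ea)))
      rw [← hcmap B, ← hcmap (A1.subgroupOf P), hmap, hA1card] at hle
      refine Subgroup.map_injective P.subtype_injective ?_
      rw [hmap]
      exact huniq _ (Subgroup.map_subtype_le B) hBea hle
    · rw [Set.mem_singleton_iff] at hB
      subst hB
      refine ⟨(ea_iff _).2 ((ea_map _).1 (hmap.symm ▸ hA1ea)), fun B hB => ?_⟩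
      by_contra hlt
      push Not at hlt
      rw [← hcmap B, ← hcmap (A1.subgroupOf P), hmap, hA1card] at hlt
      exact (big D C ((ea_map B).2 ((ea_iff B).1 hB)) hlt.le).1.not_gt hlt
  · rw [Nat.card_congr (Subgroup.subgroupOfEquivOfLe hA1P).toEquiv, hA1card]
  · rw [Subgroup.subgroupOf_map_subtype, inf_eq_left.2 hA1P]
    exact (big D C hA1ea hA1card.ge).2.1
  · rw [Subgroup.subgroupOf_map_subtype, inf_eq_left.2 hA1P]
    exact (big D C hA1ea hA1card.ge).2.2.1

end Cfsg.Agent.S5444
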