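import Cfsg.Statements.S5357
import Cfsg.Agent.Lib.ReflectionThree

set_option autoImplicit false
open scoped MatrixGroups
open Cfsg

namespace Cfsg.Agent.S5357

open Matrix Cfsg.Agent.ReflectionThree

variable {n : ℕ} (Q : QuadraticForm (ZMod 3) (Fin n → ZMod 3))

theorem mat_inj {g h : ↥(Cfsg.isometryGroup (ZMod 3) (⇑Q))}
    (e : ((g : GL (Fin n) (ZMod 3)) : Matrix (Fin n) (Fin n) (ZMod 3)) =
      ((h : GL (Fin n) (ZMod 3)) : Matrix (Fin n) (Fin n) (ZMod 3))) : g = h :=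
  Subtype.ext (Units.ext e)

theorem exists_elt {c : ZMod 3} {v : Fin n → ZMod 3} (hv : Q v = c) (hc : c ≠ 0) :
    ∃ g ∈ Cfsg.reflectionsOfNorm (⇑Q) c,
      ((g : GL (Fin n) (ZMod 3)) : Matrix (Fin n) (Fin n) (ZMod 3)) =
        Cfsg.reflectionMatrix (⇑Q) v := by
  have h0 : Q v ≠ 0 := hv ▸ hc
  exact ⟨⟨⟨_, _, reflection_sq Q h0, reflection_sq Q h0⟩, fun x _ => Q_reflection Q h0 x⟩,
    ⟨v, hv, rfl⟩, rfl⟩

theorem conj_mem {c : ZMod 3} (h : ↥(Cfsg.isometryGroup (ZMod 3) (⇑Q)))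
    {g : ↥(Cfsg.isometryGroup (ZMod 3) (⇑Q))} (hg : g ∈ Cfsg.reflectionsOfNorm (⇑Q) c) :
    h * g * h⁻¹ ∈ Cfsg.reflectionsOfNorm (⇑Q) c := by
  obtain ⟨v, hv, hgv⟩ := hg
  have hh : ∀ x, Q (((h : GL (Fin n) (ZMod 3)) : Matrix (Fin n) (Fin n) (ZMod 3)) *ᵥ x) = Q x :=
    fun x => h.2 x x
  refine ⟨_, (hh v).trans hv, ?_⟩
  simp only [Subgroup.coe_mul, Subgroup.coe_inv, Units.val_mul, hgv]
  rw [mul_reflection Q hh, mul_assoc]
  simp

/-- Let Q be a non-degenerate quadratic form on the n-dimensional coordinate space over the field with three elements, n ≥ 5, and c a non-zero scalar. In the subgroup of the isometry group of Q generated by the reflections in vectors v with Q(v) = c, these reflections form a single conjugacy class of 3-transpositions generating that subgroup. -/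
theorem result (n : ℕ) (hn : 5 ≤ n) (Q : QuadraticForm (ZMod 3) (Fin n → ZMod 3)) (hQ : (QuadraticMap.polarBilin Q).Nondegenerate) (c : ZMod 3) (hc : c ≠ 0) : Cfsg.IsThreeTranspositionClass {g : ↥(Cfsg.reflectionSubgroup (⇑Q) c) | (g : ↥(Cfsg.isometryGroup (ZMod 3) (⇑Q))) ∈ Cfsg.reflectionsOfNorm (⇑Q) c} := by
  set D := {g : ↥(Cfsg.reflectionSubgroup (⇑Q) c) |
    (g : ↥(Cfsg.isometryGroup (ZMod 3) (⇑Q))) ∈ Cfsg.reflectionsOfNorm (⇑Q) c} with hD
  have hmul : ∀ (g h : ↥(Cfsg.reflectionSubgroup (⇑Q) c)),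
      (((g * h : ↥(Cfsg.reflectionSubgroup (⇑Q) c)) : ↥(Cfsg.isometryGroup (ZMod 3) (⇑Q))) :
        GL (Fin n) (ZMod 3)).val = g.1.1.val * h.1.1.val := fun g h => rfl
  have hinj : ∀ g h : ↥(Cfsg.reflectionSubgroup (⇑Q) c), g.1.1.val = h.1.1.val → g = h :=
    fun g h e => Subtype.ext (mat_inj Q e)
  have h2c : ∀ a : ZMod 3, a ≠ 0 → (2 : ZMod 3) * a ≠ 0 := by decide
  have hdata : ∀ g ∈ D, ∃ v, Q v = c ∧ g.1.1.val = Cfsg.reflectionMatrix (⇑Q) v := fun g hg => hg
  have hnz : ∀ {v : Fin n → ZMod 3}, Q v = c → Q v ≠ 0 := fun h => h ▸ hc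
  have hsq : ∀ g ∈ D, g * g = 1 := by
    intro g hg
    obtain ⟨v, hv, e⟩ := hdata g hg
    refine hinj _ _ ?_
    rw [hmul, e, reflection_sq Q (hnz hv)]
    rfl
  have hord : ∀ g ∈ D, orderOf g = 2 := by
    intro g hg
    refine orderOf_eq_prime (by rw [pow_two]; exact hsq g hg) fun h1 => ?_
    obtain ⟨v, hv, e⟩ := hdata g hg
    rw [h1] at e
    have h2 := congrArg (fun M => M *ᵥ v) e
    simp only [OneMemClass.coe_one, Units.val_one, one_mulVec, reflection_self Q (hnz hv)] at h2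
    apply hnz hv
    have h3 : v = 0 := by
      funext j
      have := congrFun h2 j
      simp only [Pi.neg_apply, Pi.zero_apply] at this ⊢
      revert this
      generalize v j = x
      revert x
      decide
    rw [h3, QuadraticMap.map_zero]
  have hconj : ∀ g ∈ D, ∀ h : ↥(Cfsg.reflectionSubgroup (⇑Q) c), h * g * h⁻¹ ∈ D :=
    fun g hg h => conj_mem Q h.1 hg
  have hpolar : ∀ g ∈ D, ∀ h ∈ D, ∀ u v, Q u = c → Q v = c →
      g.1.1.val = Cfsg.reflectionMatrix (⇑Q) u → h.1.1.val = Cfsg.reflectionMatrix (⇑Q) v →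
      QuadraticMap.polar (⇑Q) u v ≠ 0 → (g * h) ^ 3 = 1 := by
    intro g _ h _ u v hu hv eu ev hk
    refine hinj _ _ ?_
    simp only [SubmonoidClass.coe_pow, Units.val_pow_eq_pow_val, hmul, eu, ev]
    rw [braid Q (hu.trans hv.symm) (hnz hu) hk]
    rfl
  have horthne : ∀ u v, Q u = c → QuadraticMap.polar (⇑Q) u v = 0 → v ≠ u ∧ v ≠ -u := by
    intro u v hu hk
    have h2 := h2c c hc
    constructor <;> rintro rfl
    · rw [polar_self, hu] at hk; exact h2 hk
    · rw [QuadraticMap.polar_neg_right, polar_self, hu, neg_eq_zero] at hk; exact h2 hk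
  have hstep : ∀ g ∈ D, ∀ h ∈ D, ∀ u v, Q u = c → Q v = c →
      g.1.1.val = Cfsg.reflectionMatrix (⇑Q) u → h.1.1.val = Cfsg.reflectionMatrix (⇑Q) v →
      QuadraticMap.polar (⇑Q) u v ≠ 0 → IsConj g h := by
    intro g hg h hh u v hu hv eu ev hk
    have h3 := hpolar g hg h hh u v hu hv eu ev hk
    have hgg := hsq g hg
    have hhh := hsq h hh
    have gi : g⁻¹ = g := inv_eq_of_mul_eq_one_right hgg
    have hi : h⁻¹ = h := inv_eq_of_mul_eq_one_right hhh
    refine isConj_iff.mpr ⟨g * h, ?_⟩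
    rw [_root_.mul_inv_rev, gi, hi]
    calc g * h * g * (h * g) = (g * h) ^ 3 * h * (g * g) := by
          have : (g * h) ^ 3 * h * (g * g) = (g * h * g) * (h * g) * (h * h) * (g * g) := by
            rw [pow_succ, pow_two]; simp only [mul_assoc]
          rw [this, hhh, hgg, mul_one, mul_one]
      _ = h := by rw [h3, hgg, one_mul, mul_one]
  have hmk : ∀ v, Q v = c → ∃ g ∈ D, g.1.1.val = Cfsg.reflectionMatrix (⇑Q) v := by
    intro v hv
    obtain ⟨g, hg, e⟩ := exists_elt Q hv hc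
    exact ⟨⟨g, Subgroup.subset_closure hg⟩, hg, e⟩
  have hclass : ∀ g ∈ D, ∀ h ∈ D, IsConj g h := by
    intro g hg h hh
    obtain ⟨u, hu, eu⟩ := hdata g hg
    obtain ⟨v, hv, ev⟩ := hdata h hh
    by_cases hk : QuadraticMap.polar (⇑Q) u v = 0
    · obtain ⟨z, hz, hzw⟩ := exists_norm Q hQ ![u, v] (by omega)
        (fun i => by fin_cases i <;> [exact hnz hu; exact hnz hv])
        (fun i j hij => by
          fin_cases i <;> fin_cases j <;>
            first | exact absurd rfl hij | exact hk | exact (polar_comm Q v u).trans hk)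
        (neg_ne_zero.mpr hc)
      have hzu : QuadraticMap.polar (⇑Q) u z = 0 := hzw 0
      have hzv : QuadraticMap.polar (⇑Q) v z = 0 := hzw 1
      have hpu : QuadraticMap.polar (⇑Q) u (u + v + z) = 2 * c := by
        rw [QuadraticMap.polar_add_right, QuadraticMap.polar_add_right, polar_self, hk, hzu, hu,
          add_zero, add_zero]
      have hpv : QuadraticMap.polar (⇑Q) (u + v + z) v = 2 * c := by
        rw [polar_comm, QuadraticMap.polar_add_right, QuadraticMap.polar_add_right, polar_self,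
          polar_comm Q v u, hk, hzv, hv, zero_add, add_zero]
      have hw : Q (u + v + z) = c := by
        rw [QuadraticMap.map_add ⇑Q, QuadraticMap.map_add ⇑Q, QuadraticMap.polar_add_left, hk, hzu,
          hzv, hu, hv, hz]
        ring
      obtain ⟨k, hkD, ek⟩ := hmk _ hw
      have h2 := h2c c hc
      exact (hstep g hg k hkD u _ hu hw eu ek (hpu ▸ h2)).trans
        (hstep k hkD h hh _ v hw hv ek ev (hpv ▸ h2))
    · exact hstep g hg h hh u v hu hv eu ev hk
  refine ⟨⟨hord, fun g hg h hh => ?_⟩, ?_, ?_⟩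
  · obtain ⟨u, hu, eu⟩ := hdata g hg
    obtain ⟨v, hv, ev⟩ := hdata h hh
    by_cases hk : QuadraticMap.polar (⇑Q) u v = 0
    · left
      obtain ⟨h1, h2⟩ := horthne u v hu hk
      have hc' : Commute g h := by
        refine hinj _ _ ?_
        rw [hmul, hmul, eu, ev]
        exact (commute_iff Q (hu.trans hv.symm) (hnz hu) h1 h2).mpr hk
      rw [hc'.mul_pow, pow_two, pow_two, hsq g hg, hsq h hh, one_mul]
    · exact Or.inr (hpolar g hg h hh u v hu hv eu ev hk)
  · obtain ⟨v, hv, -⟩ := exists_norm Q hQ ![] (by omega) (fun i => i.elim0)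
      (fun i => i.elim0) hc
    obtain ⟨d, hd, -⟩ := hmk v hv
    refine ⟨d, hd, Set.ext fun g => ⟨fun hg => hclass d hd g hg, fun hg => ?_⟩⟩
    obtain ⟨x, rfl⟩ := isConj_iff.mp hg
    exact hconj d hd x
  · exact Subgroup.closure_closure_coe_preimage

end Cfsg.Agent.S5357
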