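import Cfsg.Statements.S5360
import Cfsg.Agent.Lib.ReflectionThreeGroup
import Cfsg.Agent.Lib.ThreeTransPrimitive
import Cfsg.Agent.S5357
-- import your own Cfsg.Agent.* helpers here

set_option autoImplicit false
open scoped MatrixGroups
open Cfsg

namespace Cfsg.Agent.S5360

/-- Let Q be a non-degenerate quadratic form on the n-dimensional coordinate space over the field with three elements, n ≥ 5, c a non-zero scalar, and R the subgroup of the isometry group generated by the reflections of norm c. Then the commutator subgroup of R is quasisimple of index at most 2, the generalized Fitting subgroup of R is the product of the centre and the commutator subgroup, and R acts primitively by conjugation on its reflections of norm c. -/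
theorem result (n : ℕ) (hn : 5 ≤ n) (Q : QuadraticForm (ZMod 3) (Fin n → ZMod 3)) (hQ : (QuadraticMap.polarBilin Q).Nondegenerate) (c : ZMod 3) (hc : c ≠ 0) : Cfsg.IsQuasisimple (commutator ↥(Cfsg.reflectionSubgroup (⇑Q) c)) ∧ (commutator ↥(Cfsg.reflectionSubgroup (⇑Q) c)).index ≤ 2 ∧ Cfsg.generalizedFittingSubgroup ↥(Cfsg.reflectionSubgroup (⇑Q) c) = Subgroup.center ↥(Cfsg.reflectionSubgroup (⇑Q) c) ⊔ commutator ↥(Cfsg.reflectionSubgroup (⇑Q) c) ∧ Cfsg.IsPrimitiveUnderConj {g : ↥(Cfsg.reflectionSubgroup (⇑Q) c) | (g : ↥(Cfsg.isometryGroup (ZMod 3) (⇑Q))) ∈ Cfsg.reflectionsOfNorm (⇑Q) c} := by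
  set R := Cfsg.reflectionSubgroup (⇑Q) c
  set e := ReflectionThreeGroup.equiv (Q := Q) hc with he
  have hmap : (commutator ↥R).map e.toMonoidHom = commutator ↥(ReflectionThreeGroup.tGroup Q c) :=
    OrthUnitaryOmega.map_commutator_equiv e
  have hcen : ∀ x, x ∈ Subgroup.center ↥R ↔
      e x ∈ Subgroup.center ↥(ReflectionThreeGroup.tGroup Q c) := by
    intro x
    simp only [Subgroup.mem_center_iff]
    refine ⟨fun h y => ?_, fun h y => e.injective (by rw [map_mul, map_mul, h])⟩
    obtain ⟨z, rfl⟩ := e.surjective y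
    rw [← map_mul, h, map_mul]
  have hmapc : (Subgroup.center ↥R).map e.toMonoidHom =
      Subgroup.center ↥(ReflectionThreeGroup.tGroup Q c) := by
    ext y
    obtain ⟨x, rfl⟩ := e.surjective y
    rw [show e x = e.toMonoidHom x from rfl, Subgroup.mem_map_iff_mem e.injective]
    exact hcen x
  have hidx : (commutator ↥R).index = 2 := by
    rw [← Subgroup.index_map_equiv (commutator ↥R) e]
    show ((commutator ↥R).map e.toMonoidHom).index = 2
    rw [hmap, ReflectionThreeGroup.commutator_tGroup hQ hn hc]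
    exact ReflectionThreeGroup.relIndex_sGroup hQ hn hc
  refine ⟨?_, hidx.le, ?_, ?_⟩
  · exact ComponentsBasic.isQuasisimple_of_mulEquiv
      ((e.subgroupMap _).trans (MulEquiv.subgroupCongr hmap)).symm
      (ReflectionThreeGroup.quasisimple_commutator hQ hn hc)
  · refine Subgroup.map_injective (f := e.toMonoidHom) e.injective ?_
    rw [ComponentsFitting.gen_map_mulEquiv, Subgroup.map_sup, hmap, hmapc,
      ReflectionThreeGroup.generalizedFitting hQ hn hc]
  · have hcl := S5357.result n hn Q hQ c hc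
    refine ThreeTransPrimitive.primitive_of_dichotomy hcl ?_ (commutator ↥R) hidx.le fun N hN => ?_
    · obtain ⟨v, hv, v', hv', h, h', hne, -⟩ := ReflectionThreeGroup.exists_pair hQ hn hc
      have hmem : ∀ w (hw : Q w ≠ 0), Q w = c → ∃ x : ↥R,
          (x : ↥(Cfsg.isometryGroup (ZMod 3) (⇑Q))) ∈ Cfsg.reflectionsOfNorm (⇑Q) c ∧
          OrthUnitaryPrelude.iso Q x = OrthUnitaryQuad.refl Q w hw := by
        intro w hw hwc
        have hmat := (OrthUnitaryPrelude.mat_eq_reflectionMatrix_iff
          ((OrthUnitaryPrelude.iso Q).symm (OrthUnitaryQuad.refl Q w hw)) hw).mpr (by simp)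
        exact ⟨⟨_, Subgroup.subset_closure ⟨w, hwc, hmat⟩⟩, ⟨w, hwc, hmat⟩, by simp⟩
      obtain ⟨a, ha, ea⟩ := hmem v hv h
      obtain ⟨b, hb, eb⟩ := hmem v' hv' h'
      refine ⟨a, ha, b, hb, fun hab => hne ?_⟩
      rw [← ea, ← eb, hab]
      have := eb
      rw [eb, OrthUnitaryRefl.refl_sq]
    · rcases ReflectionThreeGroup.dichotomy hQ hn hc (N.map e.toMonoidHom)
        (hN.map _ e.surjective) with h | h
      · exact Or.inl ((Subgroup.map_le_map_iff_of_injective e.injective).mp (hmap.le.trans h))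
      · exact Or.inr fun x hx => (hcen x).mpr (h ⟨x, hx, rfl⟩)

end Cfsg.Agent.S5360
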