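import Cfsg.Statements.S5464
import Cfsg.Agent.Lib.ThreeTransPairs

set_option autoImplicit false
open Cfsg

namespace Cfsg.Agent.S5464

open Cfsg.Agent.ThreeTransRel Cfsg.Agent.ThreeTransDescent Cfsg.Agent.ThreeTransTypes

variable {G : Type*} [Group G] [Finite G] {D : Set G}

/-- No relation of six commuting members when the local quotient has no relations of five. -/
theorem no_six (ht : TSys D) (hprim : Cfsg.IsPrimitiveUnderConj D) {d : G} (hd : d ∈ D)
    (hno : ∀ r, ThreeTransRel.Rel (imgSet D d) r → (∀ x ∈ r, x ≠ 1) → r.length ≠ 5) {l : List G} (h : ThreeTransRel.Rel D l)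
    (hlen : l.length = 6) : False := by
  classical
  obtain ⟨a, t, rfl⟩ := List.exists_cons_of_length_pos (l := l) (by omega)
  obtain ⟨g, hg⟩ := hprim.1 a (h.mem a (List.mem_cons_self ..)) d hd
  have h' := h.map_conj ht g
  rw [List.map_cons, MulAut.conj_apply, hg] at h'
  set r := t.map (MulAut.conj g)
  have hr : CList D r := h'.toCList.sublist (List.sublist_cons_self d r)
  have hdnot : d ∉ r := (List.nodup_cons.mp h'.nodup).1
  have hnear : ∀ x ∈ r, x ∈ near D d := fun x hx =>
    ⟨hr.mem x hx, fun e => hdnot (e ▸ hx),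
      h'.comm d (List.mem_cons_self ..) x (List.mem_cons_of_mem _ hx)⟩
  have hprod : r.prod = d := by
    have := h'.prod
    rw [List.prod_cons] at this
    rw [eq_inv_of_mul_eq_one_right this, ht.inv_self hd]
  rcases descend ht hr hnear (Or.inr hprod) with ⟨p, hp, hall⟩ | ⟨h1, h2⟩
  · -- `p` would have the same commuting set as `d`
    have hpD : p ∈ D := hr.mem p hp
    set A : G → Set G := fun x => {y | y ∈ D ∧ Commute x y}
    have hsub : A d ⊆ A p := by
      intro y hy
      refine ⟨hy.1, ?_⟩
      by_cases e : y = d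
      · exact e ▸ (hnear p hp).2.2.symm
      · exact (hall y ⟨hy.1, e, hy.2⟩).symm
    have hcard : (A p).ncard ≤ (A d).ncard := by
      obtain ⟨k, hk⟩ := hprim.1 p hpD d hd
      refine Set.ncard_le_ncard_of_injOn (fun y => k * y * k⁻¹) ?_
        (fun x _ y _ e => mul_left_cancel (mul_right_cancel e)) (Set.toFinite _)
      intro y hy
      refine ⟨ht.conj k y hy.1, ?_⟩
      have := (Commute.conj_iff k).mpr hy.2
      rwa [hk] at this
    have heq : A d = A p := Set.eq_of_subset_of_ncard_le hsub hcard (Set.toFinite _)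
    refine hdnot ?_
    rw [ThreeTransPairs.eq_of_same ht hprim hd hpD fun u hu => ?_]
    · exact hp
    · have := Set.ext_iff.mp heq u
      exact ⟨fun e => (this.mp ⟨hu, e.symm⟩).2.symm, fun e => (this.mpr ⟨hu, e.symm⟩).2.symm⟩
  · refine hno _ h1 h2 ?_
    rw [List.length_map, List.length_map]
    simpa using hlen

/-- Factorisation is unique for three factors. -/
theorem unique_three (ht : TSys D) (hprim : Cfsg.IsPrimitiveUnderConj D) {d : G} (hd : d ∈ D)
    (hno : ∀ r, ThreeTransRel.Rel (imgSet D d) r → (∀ x ∈ r, x ≠ 1) → r.length ≠ 5) {l l' : List G}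
    (hl : CList D l) (hlen : l.length = 3) (hl' : CList D l') (hlen' : l'.length = 3)
    (he : l.prod = l'.prod) : ∀ x, x ∈ l ↔ x ∈ l' := by
  classical
  by_cases hc : ∃ x ∈ l, x ∈ l'
  · obtain ⟨x, hx, hx'⟩ := hc
    have p1 := List.perm_cons_erase hx
    have p2 := List.perm_cons_erase hx'
    rw [hl.prod_perm p1, hl'.prod_perm p2, List.prod_cons, List.prod_cons] at he
    have := ThreeTransPairs.pair_unique ht hprim (hl.sublist List.erase_sublist)
      (by rw [List.length_erase_of_mem hx, hlen]) (hl'.sublist List.erase_sublist)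
      (by rw [List.length_erase_of_mem hx', hlen']) (mul_left_cancel he)
    intro y
    rw [p1.mem_iff, p2.mem_iff, List.mem_cons, List.mem_cons, this y]
  · push Not at hc
    exfalso
    have hcr : ∀ u ∈ l', ∀ x ∈ l, Commute u x := by
      intro u hu
      have hju : Commute u l.prod := by
        rw [he]
        exact Commute.list_prod_right _ _ fun y hy => hl'.comm u hu y hy
      exact cnt_eq_zero.mp ((key ht (hl'.mem u hu) hl hlen.le).1.mp hju)
    have hR : ThreeTransRel.Rel D (l ++ l') := by
      refine ⟨⟨?_, ?_, ?_⟩, ?_⟩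
      · intro x hx
        rcases List.mem_append.mp hx with h | h
        · exact hl.mem x h
        · exact hl'.mem x h
      · exact List.nodup_append.mpr ⟨hl.nodup, hl'.nodup, fun a ha b hb e => hc a ha (e ▸ hb)⟩
      · intro x hx y hy
        rcases List.mem_append.mp hx with h | h <;> rcases List.mem_append.mp hy with h' | h'
        · exact hl.comm x h y h'
        · exact (hcr y h' x h).symm
        · exact hcr x h y h'
        · exact hl'.comm x h y h'
      · rw [List.prod_append, ← he, hl.prod_sq ht]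
    exact no_six ht hprim hd hno hR (by rw [List.length_append]; omega)

/-- Let G be a finite group with trivial centre generated by a conjugation-invariant set D of 3-transpositions on which it acts primitively, such that for some d in D the subgroup generated by the members of D other than d commuting with d has central largest normal 2- and 3-subgroups, and suppose G with D is of type M(23) or of type M(24). Then for m ≤ 3, a product of m distinct pairwise commuting members of D determines the set of factors: any two m-element sets of pairwise commuting members of D with the same product coincide. -/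
theorem result {G : Type*} [Group G] [Finite G] {D : Set G} (hD : Cfsg.IsThreeTranspositionGroup D) (hprim : Cfsg.IsPrimitiveUnderConj D) (d₀ : G) (hd₀ : d₀ ∈ D) (h3 : Cfsg.pCore 3 ↥(Subgroup.closure {y : G | y ∈ D ∧ y ≠ d₀ ∧ Commute d₀ y}) ≤ Subgroup.center ↥(Subgroup.closure {y : G | y ∈ D ∧ y ≠ d₀ ∧ Commute d₀ y})) (h2 : Cfsg.pCore 2 ↥(Subgroup.closure {y : G | y ∈ D ∧ y ≠ d₀ ∧ Commute d₀ y}) ≤ Subgroup.center ↥(Subgroup.closure {y : G | y ∈ D ∧ y ≠ d₀ ∧ Commute d₀ y})) (h : Cfsg.IsOfTypeM23 G D ∨ Cfsg.IsOfTypeM24 G D) (m : ℕ) (hm : m ≤ 3) (j : G) (l l' : List G) (hl : (l.Nodup ∧ l.length = m ∧ (∀ a ∈ l, a ∈ D) ∧ (∀ a ∈ l, ∀ b ∈ l, Commute a b) ∧ l.prod = j)) (hl' : (l'.Nodup ∧ l'.length = m ∧ (∀ a ∈ l', a ∈ D) ∧ (∀ a ∈ l', ∀ b ∈ l', Commute a b) ∧ l'.prod = j)) : (∀ x : G, x ∈ l ↔ x ∈ l') := by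
  obtain ⟨hn, hlen, hmem, hcomm, hprod⟩ := hl
  obtain ⟨hn', hlen', hmem', hcomm', hprod'⟩ := hl'
  have ht : TSys D := tsys_of_group hD
  have hL : CList D l := ⟨hmem, hn, hcomm⟩
  have hL' : CList D l' := ⟨hmem', hn', hcomm'⟩
  have he : l.prod = l'.prod := hprod.trans hprod'.symm
  obtain ⟨d, hd, hno⟩ : ∃ d ∈ D, ∀ r, ThreeTransRel.Rel (imgSet D d) r → (∀ x ∈ r, x ≠ 1) → r.length ≠ 5 := by
    rcases h with h | h
    · obtain ⟨-, d, hd, -, -, -, h22, -⟩ := h
      exact ⟨d, hd, fun r h1 h2 =>
        (level1_of_m22 ThreeTransPairs.psu6Simple (tsys_img ht d) h22).no_five h1 h2⟩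
    · obtain ⟨-, d, hd, -, -, -, h23, -⟩ := h
      exact ⟨d, hd, fun r h1 h2 =>
        (level2_of_m23 ThreeTransPairs.psu6Simple (tsys_img ht d) h23).no_five h1 h2⟩
  obtain hm0 | hm1 | hm2 | hm3 : m = 0 ∨ m = 1 ∨ m = 2 ∨ m = 3 := by omega
  · rw [List.eq_nil_of_length_eq_zero (hlen.trans hm0),
      List.eq_nil_of_length_eq_zero (hlen'.trans hm0)]
    simp
  · obtain ⟨a, rfl⟩ := List.length_eq_one_iff.mp (hlen.trans hm1)
    obtain ⟨b, rfl⟩ := List.length_eq_one_iff.mp (hlen'.trans hm1)
    simp only [List.prod_singleton] at he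
    simp [he]
  · exact ThreeTransPairs.pair_unique ht hprim hL (hlen.trans hm2) hL' (hlen'.trans hm2) he
  · exact unique_three ht hprim hd hno hL (hlen.trans hm3) hL' (hlen'.trans hm3) he

end Cfsg.Agent.S5464
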