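import Cfsg.Statements.S1615
import Cfsg.Agent.Lib.FischerPetersen54

set_option autoImplicit false
open Cfsg

namespace Cfsg.Agent.S1615

/-- If O(⟨D_x⟩) is not central in ⟨D_x⟩ for some transposition x, the 3-transposition group is the symmetric group of degree 5. -/
theorem result {G : Type*} [Group G] [Finite G] (hsol : ∀ N : Subgroup G, N.Normal → Group.IsSolvable ↥N → N = ⊥) (hperf : ⁅commutator G, commutator G⁆ = commutator G) {D : Set G} (hD : Cfsg.IsThreeTranspositionClass D) (x : G) (hx : x ∈ D) (h : ¬ Cfsg.oddCore ↥(Subgroup.closure {y : G | y ∈ D ∧ y ≠ x ∧ Commute x y}) ≤ Subgroup.center ↥(Subgroup.closure {y : G | y ∈ D ∧ y ≠ x ∧ Commute x y})) : Nonempty (G ≃* Equiv.Perm (Fin 5)) := by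
  classical
  have hC := ThreeTransp.tc_of_class hD
  have hsol' : ∀ N : Subgroup G, N.Normal → Group.IsSolvable ↥N → N ≤ commutator G → N = ⊥ :=
    fun N hN hs _ => hsol N hN hs
  obtain ⟨y, y', hne, t⟩ := FischerTwins54.exists_twin_of_oddCore hC hx h
  refine FischerTwins54.equiv_perm_five hC hsol' hperf (fun a ha u hu => ?_) hsol hx t.1
  -- every commuting pair has a twin
  by_contra hno
  push Not at hno
  have h1 : (FischerTwins54.tcls D a u).ncard = (FischerTwins54.tcls D x y).ncard :=
    FischerTwins54.ncard_tcls hC hsol' ha hu hx t.1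
  have h2 : (FischerTwins54.tcls D a u).ncard ≤ 1 :=
    (Set.ncard_le_one (Set.toFinite _)).mpr fun p hp q hq => by
      have hp' : p = u := by_contra fun e => hno p e hp
      have hq' : q = u := by_contra fun e => hno q e hq
      rw [hp', hq']
  exact hne ((Set.ncard_le_one (Set.toFinite _)).mp (h1 ▸ h2) y' t y (FischerTwins54.tw_refl t.1))

end Cfsg.Agent.S1615
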