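import Cfsg.Statements.S1618
import Cfsg.Agent.Lib.ZStarOddP
import Cfsg.Agent.Lib.ComponentsCores

set_option autoImplicit false
open Cfsg

namespace Cfsg.Agent.S1618

/-- A group generated by a class of involutions whose pairwise products (of distinct members) have p-power order for a fixed odd prime p has nilpotent derived subgroup. -/
theorem result {G : Type*} [Group G] [Finite G] (p : ℕ) (hp : p.Prime) (hodd : p ≠ 2) {D : Set G} (hinv : ∀ d ∈ D, orderOf d = 2) (hconj : ∃ d ∈ D, D = conjugatesOf d) (hgen : Subgroup.closure D = ⊤) (hprod : ∀ x ∈ D, ∀ y ∈ D, x ≠ y → ∃ k : ℕ, orderOf (x * y) = p ^ k) : Group.IsNilpotent ↥(commutator G) := by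
  have : Fact p.Prime := ⟨hp⟩
  obtain ⟨d, hdD, rfl⟩ := hconj
  have hd := hinv d hdD
  have hall : ∀ a ∈ conjugatesOf d, ∀ b ∈ conjugatesOf d, a * b ∈ Cfsg.pCore p G := by
    refine fun a ha b hb => Cfsg.Agent.ZStarOddP.mul_mem_pCore hp hodd hd (fun x hx y hy => ?_) ha hb
    rcases eq_or_ne x y with rfl | hne
    · refine ⟨0, ?_⟩
      rw [Cfsg.Agent.IsolatedInv.sq_of_orderOf_two (hinv x hx), orderOf_one, pow_zero]
    · exact hprod x hx y hy hne
  have : (Cfsg.pCore p G).Normal := Cfsg.Agent.HallCore.pCore_normal p G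
  have hgen' : ∀ g : G, (g : G ⧸ Cfsg.pCore p G) ∈ Subgroup.zpowers (d : G ⧸ Cfsg.pCore p G) := by
    intro g
    refine Subgroup.closure_le
      (K := (Subgroup.zpowers (d : G ⧸ Cfsg.pCore p G)).comap (QuotientGroup.mk' _)) |>.2 ?_
      (hgen.symm.le (Subgroup.mem_top g))
    intro a ha
    show ((a : G) : G ⧸ Cfsg.pCore p G) ∈ Subgroup.zpowers (d : G ⧸ Cfsg.pCore p G)
    have h1 := (QuotientGroup.eq_one_iff _).2 (hall a ha d mem_conjugatesOf_self)
    rw [QuotientGroup.mk_mul, mul_eq_one_iff_eq_inv] at h1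
    rw [h1]
    exact inv_mem (Subgroup.mem_zpowers _)
  have hle : commutator G ≤ Cfsg.pCore p G := by
    rw [commutator_def, Subgroup.commutator_le]
    intro g _ h _
    rw [← QuotientGroup.eq_one_iff]
    refine (map_commutatorElement (QuotientGroup.mk' (Cfsg.pCore p G)) g h).trans ?_
    obtain ⟨i, hi⟩ := Subgroup.mem_zpowers_iff.1 (hgen' g)
    obtain ⟨j, hj⟩ := Subgroup.mem_zpowers_iff.1 (hgen' h)
    exact commutatorElement_eq_one_iff_commute.2
      (show Commute (g : G ⧸ Cfsg.pCore p G) (h : G ⧸ Cfsg.pCore p G) by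
        rw [← hi, ← hj]; exact Commute.zpow_zpow_self _ _ _)
  exact ((Cfsg.Agent.ComponentsCores.isPGroup_pCore (G := G) p).to_le hle).isNilpotent

end Cfsg.Agent.S1618
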