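import Cfsg.Statements.S5468
import Cfsg.Agent.Lib.ThreeTransM23Pair34
import Cfsg.Agent.Lib.ThreeTransM23Cent59
-- import your own Cfsg.Agent.* helpers here

set_option autoImplicit false
open Cfsg

namespace Cfsg.Agent.S5468

open Subgroup Cfsg.Agent.ThreeTransRel Cfsg.Agent.ThreeTransDescent
open Cfsg.Agent.ThreeTransM23Local59 Cfsg.Agent.UnitaryF4Geo

theorem main {G : Type*} [Group G] [Finite G] {D : Set G} {d a : G}
    (hctx : ∀ s ∈ D, Ctx D s) (hd : d ∈ D) (ha : a ∈ near D d)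
    [hn : ((closure ({d, a} : Set G)).subgroupOf (centralizer ({d * a} : Set G))).Normal] :
    centralizer ({d, a} : Set G) ≤ centralizer ({d * a} : Set G) ∧
      ((centralizer ({d, a} : Set G)).subgroupOf (centralizer ({d * a} : Set G))).index = 2 ∧
      (Subgroup.center ↥(centralizer ({d, a} : Set G))).map (centralizer ({d, a} : Set G)).subtype =
        closure ({d, a} : Set G) ∧
      Cfsg.IsQuasisimple ↥(centralizer ({d, a} : Set G)) ∧
      (∃ (F : Type) (_ : Field F) (_ : Fintype F), Fintype.card F = 4 ∧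
        Nonempty (↥(centralizer ({d, a} : Set G)) ⧸ Subgroup.center ↥(centralizer ({d, a} : Set G)) ≃*
          Cfsg.PSU 6 F 2)) ∧
      Subgroup.center (↥(centralizer ({d * a} : Set G)) ⧸
        (closure ({d, a} : Set G)).subgroupOf (centralizer ({d * a} : Set G))) = ⊥ := by
  have X := hctx d hd
  have X' := hctx a ha.1
  have ha' : d ∈ near D a := ⟨hd, ha.2.1.symm, ha.2.2.symm⟩
  set K := centralizer ({d, a} : Set G) with hK
  set C := centralizer ({d * a} : Set G) with hC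
  set V := closure ({d, a} : Set G) with hV
  have hmemK : ∀ {g}, g ∈ K ↔ Commute g d ∧ Commute g a := ThreeTransM23Pair34.mem_joint
  have hdV : d ∈ V := subset_closure (by simp)
  have haV : a ∈ V := subset_closure (by simp)
  have hdK : d ∈ K := hmemK.mpr ⟨Commute.refl d, ha.2.2⟩
  have haK : a ∈ K := hmemK.mpr ⟨ha.2.2.symm, Commute.refl a⟩
  have hVK : V ≤ K := (closure_le _).mpr (by rintro x (rfl | rfl); exacts [hdK, haK])
  have hVc : ∀ v ∈ V, ∀ g ∈ K, Commute g v := by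
    intro v hv g hg
    have : V ≤ centralizer ({g} : Set G) := (closure_le _).mpr (by
      rintro x (rfl | rfl) <;> refine mem_centralizer_singleton_iff.mpr ?_
      exacts [(hmemK.mp hg).1.symm.eq, (hmemK.mp hg).2.symm.eq])
    exact (mem_centralizer_singleton_iff.mp (this hv) : v * g = g * v).symm
  have hKC : K ≤ C := fun g hg => mem_centralizer_singleton_iff.mpr
    ((hmemK.mp hg).1.mul_right (hmemK.mp hg).2).eq
  obtain ⟨F, iF, jF, hF, ψ, hsurj, hker⟩ := ThreeTransM23Pair34.exists_proj X ha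
  have hkerV : ∀ x : ↥K, ψ x = 1 → (x : G) ∈ V := fun x hx => by
    rcases hker x hx with h | h | h | h <;> rw [h]
    exacts [one_mem _, hdV, haV, mul_mem hdV haV]
  have hU := ThreeTransPairs.psu6Simple F hF.card_eq
  haveI := hU.1
  obtain ⟨u, v, huv⟩ := hU.2
  have hPZ : Subgroup.center (Cfsg.PSU 6 F 2) = ⊥ := by
    rcases (inferInstance : (Subgroup.center (Cfsg.PSU 6 F 2)).Normal).eq_bot_or_eq_top with h | h
    · exact h
    · exact absurd (mem_center_iff.mp (h ▸ mem_top v) u) huv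
  have hcent : ∀ x : ↥K, x ∈ Subgroup.center ↥K ↔ (x : G) ∈ V := by
    refine fun x => ⟨fun hx => hkerV x (mem_bot.mp (hPZ ▸ mem_center_iff.mpr fun y => ?_)), fun hx =>
      mem_center_iff.mpr fun y => Subtype.ext (hVc _ hx _ y.2).eq⟩
    obtain ⟨y, rfl⟩ := hsurj y
    rw [← map_mul, ← map_mul, mem_center_iff.mp hx y]
  have hkereq : ψ.ker = Subgroup.center ↥K := by
    ext x
    refine ⟨fun hx => (hcent x).mpr (hkerV x hx), fun hx => mem_bot.mp (hPZ ▸ mem_center_iff.mpr fun y => ?_)⟩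
    obtain ⟨y, rfl⟩ := hsurj y
    rw [← map_mul, ← map_mul, mem_center_iff.mp hx y]
  let iso : ↥K ⧸ Subgroup.center ↥K ≃* Cfsg.PSU 6 F 2 :=
    (QuotientGroup.quotientMulEquivOfEq hkereq.symm).trans
      (QuotientGroup.quotientKerEquivOfSurjective ψ hsurj)
  have hd' : d ∈ ⁅K, K⁆ := ThreeTransM23Pair34.mem_derived X ha
  have ha'' : a ∈ ⁅K, K⁆ := by
    have h := ThreeTransM23Pair34.mem_derived X' ha'
    rwa [Set.pair_comm a d] at h
  have hV' : ∀ x : ↥K, (x : G) ∈ V → x ∈ commutator ↥K := by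
    intro x hx
    have h : V ≤ ⁅K, K⁆ := (closure_le _).mpr (by rintro y (rfl | rfl); exacts [hd', ha''])
    have h' := h hx
    rw [← Subgroup.map_subtype_commutator] at h'
    obtain ⟨y, hy, e⟩ := mem_map.mp h'
    rwa [← show y = x from Subtype.ext e]
  have hperf : Group.IsPerfect ↥K := by
    refine ⟨eq_top_iff.mpr fun x _ => ?_⟩
    have hPc : commutator (Cfsg.PSU 6 F 2) = ⊤ := by
      rcases (inferInstance : (commutator (Cfsg.PSU 6 F 2)).Normal).eq_bot_or_eq_top with h | h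
      · exact absurd (((commutator_eq_bot_iff _).mp h).1.1 u v) huv
      · exact h
    have hmap : (commutator ↥K).map ψ = ⊤ := by
      rw [map_commutator_eq, MonoidHom.range_eq_top.mpr hsurj, ← commutator_def]
      exact hPc
    obtain ⟨y, hy, e⟩ := mem_map.mp (hmap.ge (mem_top (ψ x)))
    have h1 : x * y⁻¹ ∈ commutator ↥K := hV' _ (hkerV _ (by rw [map_mul, map_inv, e, mul_inv_cancel]))
    simpa using mul_mem h1 hy
  -- the two elements of the pair
  have hperm : ∀ g ∈ C, (g * d * g⁻¹ = d ∧ g * a * g⁻¹ = a) ∨ (g * d * g⁻¹ = a ∧ g * a * g⁻¹ = d) := by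
    intro g hg
    have hl : CList D [d, a] := ⟨by simp [hd, ha.1], by simp [ha.2.1.symm],
      by simp [ha.2.2, ha.2.2.symm]⟩
    have hl' : CList D [g * d * g⁻¹, g * a * g⁻¹] := ⟨by simp [X.ts.conj g d hd, X.ts.conj g a ha.1],
      by simp [ha.2.1.symm],
      by simp [(Commute.conj_iff g).mpr ha.2.2, (Commute.conj_iff g).mpr ha.2.2.symm]⟩
    have hp : [d, a].prod = [g * d * g⁻¹, g * a * g⁻¹].prod := by
      simp only [List.prod_cons, List.prod_nil, mul_one]
      rw [show g * d * g⁻¹ * (g * a * g⁻¹) = g * (d * a) * g⁻¹ by group]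
      exact (mul_inv_eq_iff_eq_mul.mpr (mem_centralizer_singleton_iff.mp hg)).symm
    have h := ThreeTransPairs.pair_unique X.ts X.prim hl rfl hl' rfl hp
    have h1 := (h (g * d * g⁻¹)).mpr (by simp)
    have h2 := (h (g * a * g⁻¹)).mpr (by simp)
    have hne : g * d * g⁻¹ ≠ g * a * g⁻¹ := fun e =>
      ha.2.1 (mul_left_cancel (mul_right_cancel e)).symm
    simp only [List.mem_cons, List.not_mem_nil, or_false] at h1 h2
    rcases h1 with h1 | h1 <;> rcases h2 with h2 | h2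
    · exact absurd (h1.trans h2.symm) hne
    · exact Or.inl ⟨h1, h2⟩
    · exact Or.inr ⟨h1, h2⟩
    · exact absurd (h1.trans h2.symm) hne
  have hnotK : ∀ {g}, g * d * g⁻¹ = a → g ∉ K := fun {g} h hg => ha.2.1 (by
    rw [← h, mul_inv_eq_iff_eq_mul.mpr (hmemK.mp hg).1.eq])
  obtain ⟨s, hs1, hs2⟩ : ∃ s : G, s * d * s⁻¹ = a ∧ s * a * s⁻¹ = d := by
    obtain ⟨l, l', hlen, -, hall, -⟩ := ThreeTransM23Pair34.exists_six X ha
    obtain ⟨e, t, rfl⟩ := List.exists_cons_of_length_pos (l := l) (by omega)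
    obtain ⟨he, hea, hae⟩ := hall e (by simp)
    obtain ⟨k, -, h⟩ := (hctx e he.1).pair_transitive (b := d) (c := a) (b' := a) (c' := d)
      ⟨hd, he.2.1.symm, he.2.2.symm⟩ ⟨ha.1, hea.symm, hae.symm⟩ ha.2.2 ha.2.1.symm
      ⟨ha.1, hea.symm, hae.symm⟩ ⟨hd, he.2.1.symm, he.2.2.symm⟩ ha.2.2.symm ha.2.1
    exact ⟨k, h⟩
  have hsC : s ∈ C := by
    refine mem_centralizer_singleton_iff.mpr (mul_inv_eq_iff_eq_mul.mp ?_)
    rw [show s * (d * a) * s⁻¹ = s * d * s⁻¹ * (s * a * s⁻¹) by group, hs1, hs2, ha.2.2.eq]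
  haveI : Nontrivial (↥K ⧸ Subgroup.center ↥K) := iso.toEquiv.nontrivial
  refine ⟨hKC, ?_, ?_, ⟨hperf, IsSimpleGroup.isSimpleGroup_of_surjective iso.symm.toMonoidHom
    iso.symm.surjective⟩, ⟨F, iF, jF, hF.card_eq, ⟨iso⟩⟩, ?_⟩
  · rw [Subgroup.index_eq_two_iff]
    refine ⟨⟨s, hsC⟩, fun b => ?_⟩
    rcases hperm b b.2 with ⟨h1, h2⟩ | ⟨h1, h2⟩
    · refine Or.inr ⟨hmemK.mpr ⟨mul_inv_eq_iff_eq_mul.mp h1, mul_inv_eq_iff_eq_mul.mp h2⟩, fun h => ?_⟩
      rw [mem_subgroupOf] at h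
      exact hnotK hs1 ((K.mul_mem_cancel_left
        (hmemK.mpr ⟨mul_inv_eq_iff_eq_mul.mp h1, mul_inv_eq_iff_eq_mul.mp h2⟩)).mp h)
    · refine Or.inl ⟨?_, fun h => hnotK h1 h⟩
      rw [mem_subgroupOf, Subgroup.coe_mul]
      refine hmemK.mpr ⟨mul_inv_eq_iff_eq_mul.mp ?_, mul_inv_eq_iff_eq_mul.mp ?_⟩
      · rw [show (b : G) * s * d * ((b : G) * s)⁻¹ = b * (s * d * s⁻¹) * (b : G)⁻¹ by group, hs1, h2]
      · rw [show (b : G) * s * a * ((b : G) * s)⁻¹ = b * (s * a * s⁻¹) * (b : G)⁻¹ by group, hs2, h1]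
  · ext x
    constructor
    · rintro ⟨y, hy, rfl⟩; exact (hcent y).mp hy
    · exact fun hx => ⟨⟨x, hVK hx⟩, (hcent _).mpr hx, rfl⟩
  · rw [eq_bot_iff]
    intro z hz
    obtain ⟨⟨c, hc⟩, rfl⟩ := QuotientGroup.mk'_surjective _ z
    rw [mem_bot, QuotientGroup.mk'_apply, QuotientGroup.eq_one_iff, mem_subgroupOf]
    have hcomm : ∀ g ∈ C, g * c * g⁻¹ * c⁻¹ ∈ V := by
      intro g hg
      have h := mem_center_iff.mp hz (QuotientGroup.mk' _ ⟨g, hg⟩)
      rw [← mul_inv_eq_one, ← map_mul, ← map_mul, ← map_inv, ← map_mul, QuotientGroup.mk'_apply,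
        QuotientGroup.eq_one_iff, mem_subgroupOf] at h
      simp only [Subgroup.coe_mul, Subgroup.coe_inv] at h
      rwa [show g * c * g⁻¹ * c⁻¹ = g * c * (c * g)⁻¹ by group]
    by_cases hcK : c ∈ K
    · refine hkerV ⟨c, hcK⟩ (mem_bot.mp (hPZ ▸ mem_center_iff.mpr fun y => ?_))
      obtain ⟨y, rfl⟩ := hsurj y
      have hv : ψ (y * ⟨c, hcK⟩ * y⁻¹ * ⟨c, hcK⟩⁻¹) = 1 :=
        MonoidHom.mem_ker.mp (hkereq.ge ((hcent _).mpr (hcomm y (hKC y.2))))
      rw [map_mul, map_mul, map_mul, map_inv, map_inv, mul_inv_eq_one, mul_inv_eq_iff_eq_mul] at hv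
      exact hv
    exfalso
    -- `c` centralizes the perfect group `K` modulo the centre, hence `K`
    let f : ↥K →* Subgroup.center ↥K := MonoidHom.mk'
      (fun k => ⟨⟨(k : G) * c * (k : G)⁻¹ * c⁻¹, hVK (hcomm k (hKC k.2))⟩,
        (hcent _).mpr (hcomm k (hKC k.2))⟩)
      (fun k k' => Subtype.ext (Subtype.ext (by
        show (k * k' : G) * c * (k * k' : G)⁻¹ * c⁻¹ =
          ((k : G) * c * (k : G)⁻¹ * c⁻¹) * ((k' : G) * c * (k' : G)⁻¹ * c⁻¹)
        have h := (hVc _ (hcomm k' (hKC k'.2)) k k.2).eq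
        have h' := (hVc _ (hcomm k' (hKC k'.2)) _ (hVK (hcomm k (hKC k.2)))).eq
        calc (k * k' : G) * c * (k * k' : G)⁻¹ * c⁻¹
            = k * ((k' : G) * c * (k' : G)⁻¹ * c⁻¹) * c * (k : G)⁻¹ * c⁻¹ := by group
          _ = ((k' : G) * c * (k' : G)⁻¹ * c⁻¹) * ((k : G) * c * (k : G)⁻¹ * c⁻¹) := by rw [h]; group
          _ = _ := h'.symm)))
    haveI := hperf
    letI : CommGroup ↥(Subgroup.center ↥K) :=
      { (inferInstance : Group ↥(Subgroup.center ↥K)) with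
        mul_comm := fun x y => Subtype.ext (mem_center_iff.mp y.2 x.1) }
    have hf : f ⟨d, hdK⟩ = 1 := by
      have h : commutator ↥K ≤ f.ker := Abelianization.commutator_subset_ker f
      exact MonoidHom.mem_ker.mp (h ((Group.IsPerfect.commutator_eq_top (G := ↥K)).ge (mem_top _)))
    have h := congrArg (fun x : ↥(Subgroup.center ↥K) => ((x : ↥K) : G)) hf
    change d * c * d⁻¹ * c⁻¹ = 1 at h
    rw [mul_inv_eq_one, mul_inv_eq_iff_eq_mul] at h
    rcases hperm c hc with ⟨h1, h2⟩ | ⟨h1, h2⟩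
    · exact hcK (hmemK.mpr ⟨mul_inv_eq_iff_eq_mul.mp h1, mul_inv_eq_iff_eq_mul.mp h2⟩)
    · exact ha.2.1 (by rw [← h1, ← h]; group)

/-- Let G be a finite group with trivial centre generated by a conjugation-invariant set D of 3-transpositions on which it acts primitively, such that for some d in D the subgroup generated by the members of D other than d commuting with d has central largest normal 2- and 3-subgroups, and suppose G with D is of type M(23). Let d₁, d₂ be distinct commuting members of D, j = d₁ d₂, K the joint centralizer of d₁ and d₂ and C the centralizer of j. Then K has index 2 in C, the centre of K is the subgroup generated by d₁ and d₂, K is quasisimple with K modulo its centre isomorphic to the projective special unitary group of dimension 6 over the field with four elements, and C modulo the subgroup generated by d₁ and d₂ has trivial centre (so it is that unitary group extended by an outer involution). -/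
theorem result {G : Type*} [Group G] [Finite G] {D : Set G} (hD : Cfsg.IsThreeTranspositionGroup D) (hprim : Cfsg.IsPrimitiveUnderConj D) (d₀ : G) (hd₀ : d₀ ∈ D) (h3 : Cfsg.pCore 3 ↥(Subgroup.closure {y : G | y ∈ D ∧ y ≠ d₀ ∧ Commute d₀ y}) ≤ Subgroup.center ↥(Subgroup.closure {y : G | y ∈ D ∧ y ≠ d₀ ∧ Commute d₀ y})) (h2 : Cfsg.pCore 2 ↥(Subgroup.closure {y : G | y ∈ D ∧ y ≠ d₀ ∧ Commute d₀ y}) ≤ Subgroup.center ↥(Subgroup.closure {y : G | y ∈ D ∧ y ≠ d₀ ∧ Commute d₀ y})) (h23 : Cfsg.IsOfTypeM23 G D) (d₁ d₂ : G) (h₁ : d₁ ∈ D) (h₂ : d₂ ∈ D) (hne : d₁ ≠ d₂) (hc : Commute d₁ d₂) (K C V : Subgroup G) (hK : K = Subgroup.centralizer ({d₁, d₂} : Set G)) (hC : C = Subgroup.centralizer ({d₁ * d₂} : Set G)) (hV : V = Subgroup.closure ({d₁, d₂} : Set G)) [hn : (V.subgroupOf C).Normal] : K ≤ C ∧ (K.subgroupOf C).index = 2 ∧ (Subgroup.center ↥K).map K.subtype = V ∧ Cfsg.IsQuasisimple ↥K ∧ (∃ (F : Type) (_ : Field F) (_ : Fintype F), Fintype.card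 F = 4 ∧ Nonempty (↥K ⧸ Subgroup.center ↥K ≃* Cfsg.PSU 6 F 2)) ∧ Subgroup.center (↥C ⧸ V.subgroupOf C) = ⊥ := by
  subst hK hC hV
  exact main (hn := hn) (ThreeTransM23Cent59.ctx_all hD hprim h23) h₁ ⟨h₂, hne.symm, hc⟩

end Cfsg.Agent.S5468
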