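import Cfsg.Statements.S5471
import Cfsg.Agent.Lib.ThreeTransSwap
import Cfsg.Agent.S5464

set_option autoImplicit false
open Cfsg

namespace Cfsg.Agent.S5471

open Cfsg.Agent.ThreeTransRel Cfsg.Agent.ThreeTransDescent Cfsg.Agent.ThreeTransTypes

variable {G : Type*} [Group G] [Finite G] {D : Set G}

/-- Two members of a commuting triple are exchanged fixing the third. -/
theorem exists_swap (ht : TSys D) (hprim : Cfsg.IsPrimitiveUnderConj D)
    (h23 : Cfsg.IsOfTypeM23 G D) {a b c : G} (ha : a ∈ D) (hb : b ∈ D) (hc : c ∈ D) (hne : a ≠ b)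
    (hac' : a ≠ c) (hbc' : b ≠ c) (hab : Commute a b) (hac : Commute a c) (hbc : Commute b c) :
    ∃ g : G, g * a * g⁻¹ = b ∧ g * b * g⁻¹ = a ∧ g * c * g⁻¹ = c := by
  obtain ⟨-, d, hd, -, -, -, h22, -⟩ := h23
  obtain ⟨k, hk⟩ := hprim.1 c hc d hd
  have hnear : ∀ y, y ∈ D → y ≠ c → Commute c y → k * y * k⁻¹ ∈ near D d := fun y hy hyc hcy =>
    ⟨ht.conj k y hy, fun e => hyc (mul_left_cancel (mul_right_cancel (e.trans hk.symm))),
      hk ▸ (Commute.conj_iff k).mpr hcy⟩
  have hat := hnear a ha hac' hac.symm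
  have hbt := hnear b hb hbc' hbc.symm
  have habt : Commute (k * a * k⁻¹) (k * b * k⁻¹) := (Commute.conj_iff k).mpr hab
  obtain ⟨-, -, d', hd', hclass, -⟩ := level1_of_m22 ThreeTransPairs.psu6Simple (tsys_img ht d) h22
  obtain ⟨u, hu, hau, hbu⟩ := ThreeTransSwap.shorten ht (fun _ h => h.1)
    (fun u hu v hv => by
      have := near_conj ht hu.2.2.symm hv
      rwa [ht.inv_self hu.1] at this)
    habt (ThreeTransSwap.connected_of_class ht hprim hd
      (fun p hp q hq hp1 hq1 => (hclass p hp hp1).symm.trans (hclass q hq hq1)) hat hbt)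
    (fun e => hne (mul_left_cancel (mul_right_cancel e)))
  obtain ⟨e1, e2⟩ := ThreeTransSwap.exchange ht hat.1 hbt.1 hu.1 habt hau hbu
  set g := u * (k * a * k⁻¹) * (k * b * k⁻¹) * u with hg
  have hgd : g * d * g⁻¹ = d := by
    have : Commute g d := by
      rw [hg]
      exact ((hu.2.2.symm.mul_left hat.2.2.symm).mul_left hbt.2.2.symm).mul_left hu.2.2.symm
    rw [this.eq, mul_inv_cancel_right]
  have back : ∀ x y : G, g * (k * x * k⁻¹) * g⁻¹ = k * y * k⁻¹ →
      (k⁻¹ * g * k) * x * (k⁻¹ * g * k)⁻¹ = y := by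
    intro x y e
    calc (k⁻¹ * g * k) * x * (k⁻¹ * g * k)⁻¹ = k⁻¹ * (g * (k * x * k⁻¹) * g⁻¹) * k := by group
      _ = y := by rw [e]; group
  exact ⟨k⁻¹ * g * k, back a b e1, back b a e2, back c c (by rw [hk, hgd])⟩

/-- Let G be a finite group with trivial centre generated by a conjugation-invariant set D of 3-transpositions on which it acts primitively, such that for some d in D the subgroup generated by the members of D other than d commuting with d has central largest normal 2- and 3-subgroups, and suppose G with D is of type M(23). Let d₁, d₂, d₃ be distinct pairwise commuting members of D and j their product. Then the joint centralizer of d₁, d₂, d₃ is normal in the centralizer of j with quotient isomorphic to the symmetric group of degree 3. -/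
theorem result {G : Type*} [Group G] [Finite G] {D : Set G} (hD : Cfsg.IsThreeTranspositionGroup D) (hprim : Cfsg.IsPrimitiveUnderConj D) (d₀ : G) (hd₀ : d₀ ∈ D) (h3 : Cfsg.pCore 3 ↥(Subgroup.closure {y : G | y ∈ D ∧ y ≠ d₀ ∧ Commute d₀ y}) ≤ Subgroup.center ↥(Subgroup.closure {y : G | y ∈ D ∧ y ≠ d₀ ∧ Commute d₀ y})) (h2 : Cfsg.pCore 2 ↥(Subgroup.closure {y : G | y ∈ D ∧ y ≠ d₀ ∧ Commute d₀ y}) ≤ Subgroup.center ↥(Subgroup.closure {y : G | y ∈ D ∧ y ≠ d₀ ∧ Commute d₀ y})) (h23 : Cfsg.IsOfTypeM23 G D) (d₁ d₂ d₃ : G) (h₁ : d₁ ∈ D) (h₂ : d₂ ∈ D) (h₃ : d₃ ∈ D) (h12 : d₁ ≠ d₂) (h13 : d₁ ≠ d₃) (h23 : d₂ ≠ d₃) (c12 : Commute d₁ d₂) (c13 : Commute d₁ d₃) (c23 : Commute d₂ d₃) (K C : Subgroup G) (hK : K = Subgroup.centralizer ({d₁, d₂, d₃} : Set G)) (hC : C = Subgroup.centralizer ({d₁ * d₂ * d₃} : Set G)) : K ≤ C ∧ ∃ _ : (K.subgroupOf C).Normal, Nonempty (↥C ⧸ K.subgroupOf C ≃* Equiv.Perm (Fin 3)) := by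
  classical
  have htype : Cfsg.IsOfTypeM23 G D := by assumption
  have ht : TSys D := tsys_of_group hD
  set v : Fin 3 → G := ![d₁, d₂, d₃] with hv
  have hinj : Function.Injective v := by
    intro i j
    fin_cases i <;> fin_cases j <;>
      simp [hv, h12, h12.symm, h13, h13.symm, h23, h23.symm]
  have hmemD : ∀ i, v i ∈ D := by intro i; fin_cases i <;> assumption
  have hcomm : ∀ i j, Commute (v i) (v j) := by
    intro i j
    fin_cases i <;> fin_cases j <;>
      first | exact Commute.refl _ | assumption | exact Commute.symm (by assumption)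
  have hKiff : ∀ g, g ∈ K ↔ ∀ i, g * v i * g⁻¹ = v i := by
    intro g
    rw [hK, Subgroup.mem_centralizer_iff]
    constructor
    · intro h i
      rw [← h (v i) (by fin_cases i <;> simp [hv]), mul_inv_cancel_right]
    · intro h x hx
      obtain ⟨i, rfl⟩ : ∃ i, v i = x := by
        simp only [Set.mem_insert_iff, Set.mem_singleton_iff] at hx
        rcases hx with rfl | rfl | rfl
        · exact ⟨0, rfl⟩
        · exact ⟨1, rfl⟩
        · exact ⟨2, rfl⟩
      exact (mul_inv_eq_iff_eq_mul.mp (h i)).symm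
  have hprod : ∀ g : G, g * (d₁ * d₂ * d₃) * g⁻¹
      = (g * v 0 * g⁻¹) * (g * v 1 * g⁻¹) * (g * v 2 * g⁻¹) := fun g => by
    show _ = (g * d₁ * g⁻¹) * (g * d₂ * g⁻¹) * (g * d₃ * g⁻¹)
    group
  have hCiff : ∀ g, g ∈ C ↔ g * (d₁ * d₂ * d₃) * g⁻¹ = d₁ * d₂ * d₃ := fun g => by
    rw [hC, Subgroup.mem_centralizer_singleton_iff, mul_inv_eq_iff_eq_mul]
  have hKC : K ≤ C := by
    intro g hg
    rw [hCiff, hprod, (hKiff g).mp hg, (hKiff g).mp hg, (hKiff g).mp hg]
    rfl
  refine ⟨hKC, ?_⟩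
  -- the permutation induced by an element of `C`
  have hex : ∀ g : ↥C, ∀ i, ∃ j, v j = (g : G) * v i * (g : G)⁻¹ := by
    intro g i
    have hset := S5464.result hD hprim d₀ hd₀ h3 h2 (Or.inl htype) 3 le_rfl (d₁ * d₂ * d₃)
      (List.ofFn v) (List.ofFn fun i => (g : G) * v i * (g : G)⁻¹)
      ⟨List.nodup_ofFn.mpr hinj, List.length_ofFn,
        fun x hx => by obtain ⟨i, rfl⟩ := List.mem_ofFn.mp hx; exact hmemD i,
        fun x hx y hy => by
          obtain ⟨i, rfl⟩ := List.mem_ofFn.mp hx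
          obtain ⟨j, rfl⟩ := List.mem_ofFn.mp hy
          exact hcomm i j,
        by simp [List.ofFn_succ, hv, mul_assoc]⟩
      ⟨List.nodup_ofFn.mpr fun i j e => hinj (mul_left_cancel (mul_right_cancel e)),
        List.length_ofFn,
        fun x hx => by obtain ⟨i, rfl⟩ := List.mem_ofFn.mp hx; exact ht.conj g _ (hmemD i),
        fun x hx y hy => by
          obtain ⟨i, rfl⟩ := List.mem_ofFn.mp hx
          obtain ⟨j, rfl⟩ := List.mem_ofFn.mp hy
          exact (Commute.conj_iff (g : G)).mpr (hcomm i j),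
        by
          have h := (hCiff g).mp g.2
          rw [hprod] at h
          simpa [List.ofFn_succ, mul_assoc] using h⟩
      ((g : G) * v i * (g : G)⁻¹)
    exact List.mem_ofFn.mp (hset.mpr (List.mem_ofFn.mpr ⟨i, rfl⟩))
  choose σ hσ using hex
  have hσmul : ∀ g h : ↥C, ∀ i, σ (g * h) i = σ g (σ h i) := fun g h i => hinj (by
    rw [hσ, hσ, hσ, Subgroup.coe_mul]; group)
  have hσone : ∀ i, σ 1 i = i := fun i => hinj (by rw [hσ, Subgroup.coe_one]; group)
  let ψ : ↥C →* Equiv.Perm (Fin 3) :=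
    { toFun := fun g => ⟨σ g, σ g⁻¹, fun i => by rw [← hσmul, inv_mul_cancel, hσone],
        fun i => by rw [← hσmul, mul_inv_cancel, hσone]⟩
      map_one' := Equiv.ext hσone
      map_mul' := fun g h => Equiv.ext (hσmul g h) }
  have hker : K.subgroupOf C = ψ.ker := by
    ext g
    rw [Subgroup.mem_subgroupOf, hKiff, MonoidHom.mem_ker, Equiv.ext_iff]
    refine forall_congr' fun i => ?_
    constructor
    · intro h; exact hinj ((hσ g i).trans h)
    · intro h
      have : σ g i = i := h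
      rw [← hσ g i, this]
  have hswap : ∀ i j k : Fin 3, i ≠ j → i ≠ k → j ≠ k → Equiv.swap i j ∈ ψ.range := by
    intro i j k hij hik hjk
    obtain ⟨g, g1, g2, g3⟩ := exists_swap ht hprim htype (hmemD i) (hmemD j) (hmemD k)
      (hinj.ne hij) (hinj.ne hik) (hinj.ne hjk) (hcomm i j) (hcomm i k) (hcomm j k)
    have hcov : ∀ m : Fin 3, m = i ∨ m = j ∨ m = k :=
      (show ∀ i j k : Fin 3, i ≠ j → i ≠ k → j ≠ k → ∀ m, m = i ∨ m = j ∨ m = k by decide) i j k hij hik hjk
    let τ := Equiv.swap i j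
    have hτ : ∀ m, g * v m * g⁻¹ = v (τ m) := by
      intro m
      rcases hcov m with rfl | rfl | rfl
      · rw [g1, Equiv.swap_apply_left]
      · rw [g2, Equiv.swap_apply_right]
      · rw [g3, Equiv.swap_apply_of_ne_of_ne hik.symm hjk.symm]
    have hgC : g ∈ C := by
      rw [hCiff, hprod, hτ, hτ, hτ]
      have e : [v (τ 0), v (τ 1), v (τ 2)].prod = [v 0, v 1, v 2].prod := by
        have := (τ.map_finRange_perm).map v
        refine List.Perm.prod_eq' (by simpa [List.finRange_succ] using this) ?_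
        exact List.pairwise_of_forall_mem_list fun x hx y hy => by
          simp only [List.mem_cons, List.not_mem_nil, or_false] at hx hy
          rcases hx with rfl | rfl | rfl <;> rcases hy with rfl | rfl | rfl <;> exact hcomm _ _
      simpa [hv, mul_assoc] using e
    exact ⟨⟨g, hgC⟩, Equiv.ext fun m => hinj ((hσ _ m).trans (hτ m))⟩
  have hsurj : Function.Surjective ψ := by
    rw [← MonoidHom.range_eq_top, eq_top_iff, ← Equiv.Perm.closure_isSwap, Subgroup.closure_le]
    rintro τ ⟨i, j, hij, rfl⟩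
    obtain ⟨k, hik, hjk⟩ : ∃ k : Fin 3, i ≠ k ∧ j ≠ k := by
      revert i j; decide
    exact hswap i j k hij hik hjk
  haveI hn : (K.subgroupOf C).Normal := hker ▸ ψ.normal_ker
  exact ⟨hn, ⟨(QuotientGroup.quotientMulEquivOfEq hker).trans
    (QuotientGroup.quotientKerEquivOfSurjective ψ hsurj)⟩⟩

end Cfsg.Agent.S5471
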