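import Cfsg.Statements.S3761
import Mathlib
import Cfsg.Agent.Lib.PGroupsBasic
import Cfsg.Agent.Lib.PGroupsCyclic
-- import your own Cfsg.Agent.* helpers here

set_option autoImplicit false
open Cfsg

namespace Cfsg.Agent.S3761

open Subgroup Cfsg.Agent.PGroupsBasic Cfsg.Agent.PGroupsCyclic
open scoped commutatorElement

theorem int_four_dvd {r s : ℤ} (hr : ¬ (2:ℤ) ∣ r) (hs : ¬ (2:ℤ) ∣ s) (hr' : ¬ (4:ℤ) ∣ r - 1)
    (hs' : ¬ (4:ℤ) ∣ s - 1) : (4:ℤ) ∣ r * s - 1 := by
  obtain ⟨a, rfl⟩ : ∃ a, r = 4 * a + 3 := ⟨r / 4, by omega⟩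
  obtain ⟨b, rfl⟩ : ∃ b, s = 4 * b + 3 := ⟨s / 4, by omega⟩
  exact ⟨4 * a * b + 3 * a + 3 * b + 2, by ring⟩

theorem map_omegaOne_le {G : Type*} [Group G] (p : ℕ) (H : Subgroup G) (φ : G →* G)
    (h : ∀ x ∈ H, x ^ p = 1 → φ x ∈ H) : (Cfsg.omegaOne p H).map φ ≤ Cfsg.omegaOne p H := by
  rw [Cfsg.omegaOne, MonoidHom.map_closure, closure_le]
  rintro _ ⟨x, ⟨hx, hxp⟩, rfl⟩
  exact subset_closure ⟨h x hx hxp, by rw [← map_pow, hxp, map_one]⟩

/-- Let G be a finite non-abelian p-group with a cyclic normal subgroup U of order p^n such that C_G(U) = U. Then either p = 2 and G is dihedral, generalized quaternion or semidihedral of order 2^(n+1); or, writing U₁ for the subgroup generated by the p-th powers of elements of U and M = C_G(U₁), the subgroup U has index p in M and the subgroup Ω₁(M) generated by the elements of M of order dividing p is elementary abelian of order p² and characteristic in G. -/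
theorem result {G : Type*} [Group G] [Finite G] {p : ℕ} [Fact p.Prime] (hG : IsPGroup p G) (hna : ¬ IsMulCommutative G) (U : Subgroup G) [U.Normal] (hU : IsCyclic U) (n : ℕ) (hUn : Nat.card U = p ^ n) (hC : Subgroup.centralizer (U : Set G) = U) : (p = 2 ∧ Nat.card G = 2 ^ (n + 1) ∧ ((∃ m : ℕ, Nonempty (G ≃* DihedralGroup m)) ∨ (∃ m : ℕ, Nonempty (G ≃* QuaternionGroup m)) ∨ Cfsg.IsQuasiDihedral G)) ∨ (U.relIndex (Subgroup.centralizer (Cfsg.powerClosure p 1 U : Set G)) = p ∧ Cfsg.IsElementaryAbelian p (Cfsg.omegaOne p (Subgroup.centralizer (Cfsg.powerClosure p 1 U : Set G))) ∧ Nat.card ↥(Cfsg.omegaOne p (Subgroup.centralizer (Cfsg.powerClosure p 1 U : Set G))) = p ^ 2 ∧ (Cfsg.omegaOne p (Subgroup.centralizer (Cfsg.powerClosure p 1 U : Set G))).Characteristic) := by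
  classical
  have hp := (Fact.out : p.Prime)
  obtain ⟨u, rfl⟩ := (Subgroup.isCyclic_iff_exists_zpowers_eq_top U).1 hU
  have hord : orderOf u = p ^ n := by rw [← Nat.card_zpowers]; exact hUn
  choose r hr using exists_conj_eq_zpow (x := u) ‹_›
  have hmem : ∀ g, g * u * g⁻¹ = u → g ∈ zpowers u := fun g h => by
    rw [← hC, mem_centralizer_iff]
    intro a ha
    obtain ⟨k, rfl⟩ := mem_zpowers_iff.1 ha
    exact ((show Commute g u from mul_inv_eq_iff_eq_mul.1 h).zpow_right k).eq.symm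
  have hne : ∃ g, g ∉ zpowers u := by
    by_contra h
    push Not at h
    exact hna ⟨⟨fun a b => by
      obtain ⟨i, rfl⟩ := mem_zpowers_iff.1 (h a)
      obtain ⟨j, rfl⟩ := mem_zpowers_iff.1 (h b)
      exact ((Commute.refl u).zpow_zpow i j).eq⟩⟩
  have hn0 : n ≠ 0 := by
    rintro rfl
    obtain ⟨g, hg⟩ := hne
    rw [pow_zero, orderOf_eq_one_iff] at hord
    exact hg (hmem g (by rw [hord]; group))
  have hord' : (orderOf u : ℤ) = (p : ℤ) ^ n := by rw [hord]; push_cast; rfl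
  have hdn : (p : ℤ) ∣ (p : ℤ) ^ n := dvd_pow_self _ hn0
  -- every automorphism induced is congruent to one mod `p`
  have hr1 : ∀ g, (p : ℤ) ∣ r g - 1 := by
    intro g
    obtain ⟨j, hj⟩ := hG g
    have h := dvd_of_pow_mem (hr g) (m := p ^ j) (by rw [hj]; exact Commute.one_left u)
    rw [hord'] at h
    have h' := hdn.trans h
    rw [← ZMod.intCast_zmod_eq_zero_iff_dvd] at h' ⊢
    push_cast at h' ⊢
    rwa [ZMod.pow_card_pow] at h'
  obtain ⟨m, rfl⟩ := Nat.exists_eq_succ_of_ne_zero hn0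
  have hm : 1 ≤ m := by
    by_contra h
    obtain ⟨g, hg⟩ := hne
    refine hg (hmem g ?_)
    rw [hr g]
    refine ((zpow_eq_iff_dvd u (r g) 1).2 ?_).trans (zpow_one u)
    rw [hord', show m = 0 by omega]
    simpa using hr1 g
  have hord2 : (orderOf u : ℤ) = (p : ℤ) * (p : ℤ) ^ m := by rw [hord', pow_succ']
  have hpZ : (p : ℤ) ≠ 0 := by exact_mod_cast hp.ne_zero
  let U1 : Subgroup G := zpowers (u ^ p)
  have hU1 : Cfsg.powerClosure p 1 (zpowers u) = U1 := by
    refine le_antisymm ((closure_le _).2 ?_) (zpowers_le.2 (subset_closure ⟨u, mem_zpowers u, by rw [pow_one]⟩))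
    rintro _ ⟨x, hx, rfl⟩
    obtain ⟨k, rfl⟩ := mem_zpowers_iff.1 hx
    refine mem_zpowers_iff.2 ⟨k, ?_⟩
    rw [pow_one, ← zpow_natCast u p, ← zpow_natCast (u ^ k) p, ← zpow_mul, ← zpow_mul, mul_comm]
  rw [hU1]
  let M : Subgroup G := centralizer (U1 : Set G)
  have hU1U : U1 ≤ zpowers u := zpowers_le.2 (pow_mem (mem_zpowers u) p)
  have hUM : zpowers u ≤ M := fun v hv => mem_centralizer_iff.2 fun a ha => by
    obtain ⟨i, rfl⟩ := mem_zpowers_iff.1 hv
    obtain ⟨j, rfl⟩ := mem_zpowers_iff.1 (hU1U ha)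
    exact ((Commute.refl u).zpow_zpow j i).eq
  have hM : ∀ g, g ∈ M ↔ (p : ℤ) ^ m ∣ r g - 1 := by
    intro g
    have h1 : g * u ^ p * g⁻¹ = u ^ (r g * p) := by
      rw [← zpow_natCast u p]; exact conj_zpow_eq (hr g) p
    constructor
    · intro hg
      have h2 : g * u ^ p * g⁻¹ = u ^ p :=
        mul_inv_eq_iff_eq_mul.2 (mem_centralizer_iff.1 hg _ (mem_zpowers (u ^ p))).symm
      rw [h1, ← zpow_natCast u p, zpow_eq_iff_dvd, hord2, show r g * (p : ℤ) - p = p * (r g - 1) by ring] at h2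
      exact (mul_dvd_mul_iff_left hpZ).1 h2
    · intro hg
      rw [mem_centralizer_iff]
      intro a ha
      obtain ⟨j, rfl⟩ := mem_zpowers_iff.1 ha
      have h2 : g * u ^ p * g⁻¹ = u ^ p := by
        rw [h1, ← zpow_natCast u p, zpow_eq_iff_dvd, hord2, show r g * (p : ℤ) - p = p * (r g - 1) by ring]
        exact mul_dvd_mul_left _ hg
      exact ((show Commute g (u ^ p) from mul_inv_eq_iff_eq_mul.1 h2).zpow_right j).eq.symm
  have hd : ∀ g, g ^ p ∈ zpowers u → (p : ℤ) ^ (m + 1) ∣ r g ^ p - 1 := by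
    intro g hg
    obtain ⟨k, hk⟩ := mem_zpowers_iff.1 hg
    have h := dvd_of_pow_mem (hr g) (m := p) (by rw [← hk]; exact Commute.zpow_self u k)
    rwa [hord'] at h
  have hkey : ∀ g, g ^ p ∈ zpowers u → (p = 2 → (4 : ℤ) ∣ r g - 1) → g ∈ M := by
    intro g hg h4
    rw [hM]
    by_cases hp2 : p = 2
    · subst hp2
      rcases int_sq_sub_one (n := m) (r := r g) (by simpa using hd g hg) with h | h
      · simpa using h
      · have h4' := h4 rfl
        by_cases hm1 : m = 1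
        · subst hm1; simpa using hr1 g
        · exfalso
          have : (4 : ℤ) ∣ r g + 1 := (show (4 : ℤ) = 2 ^ 2 by norm_num) ▸ (pow_dvd_pow 2 (show 2 ≤ m by omega)).trans h
          omega
    · have h := (int_pow_prime_sub_one hp hp2 (hd g hg)).1
      rw [pow_succ'] at h
      exact (mul_dvd_mul_iff_left hpZ).1 h
  have hcong : ∀ g h : G, (p : ℤ) ^ (m + 1) ∣ r (g * h) - r g * r h := by
    intro g h
    rw [← hord', ← zpow_eq_iff_dvd, ← hr, ← conj_zpow_eq (hr g), ← hr]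
    group
  have h2odd : p = 2 → ∀ g, ¬ (2 : ℤ) ∣ r g := fun h g hdiv => by
    have := hr1 g
    subst h
    omega
  have h4dvd : p = 2 → (4 : ℤ) ∣ (p : ℤ) ^ (m + 1) := fun h => by
    subst h
    exact (show (4 : ℤ) = 2 ^ 2 by norm_num) ▸ pow_dvd_pow 2 (show 2 ≤ m + 1 by omega)
  have h4mul : p = 2 → ∀ g h : G, ((4 : ℤ) ∣ r (g * h) - 1 ↔ (4 : ℤ) ∣ r g * r h - 1) := by
    intro hp2 g h
    have := (h4dvd hp2).trans (hcong g h)
    omega
  -- last power outside `U`
  have hlast : ∀ g, g ∉ zpowers u → ∃ i : ℕ, g ^ p ^ i ∉ zpowers u ∧ (g ^ p ^ i) ^ p ∈ zpowers u := by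
    intro g hg
    have hex : ∃ j, g ^ p ^ j ∈ zpowers u := by
      obtain ⟨j, hj⟩ := hG g
      exact ⟨j, hj ▸ one_mem _⟩
    obtain ⟨i, hi⟩ : ∃ i, Nat.find hex = i + 1 := Nat.exists_eq_succ_of_ne_zero fun h => hg (by
      have := Nat.find_spec hex
      rwa [h, pow_zero, pow_one] at this)
    refine ⟨i, Nat.find_min hex (by omega), ?_⟩
    rw [← pow_mul, ← pow_succ, ← hi]
    exact Nat.find_spec hex
  have h4pow : p = 2 → ∀ g, (4 : ℤ) ∣ r g - 1 → ∀ k : ℕ, (4 : ℤ) ∣ r (g ^ k) - 1 := by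
    intro hp2 g hg k
    induction k with
    | zero =>
      have h := hr (1 : G)
      rw [one_mul, inv_one, mul_one] at h
      have h2 : (orderOf u : ℤ) ∣ r 1 - 1 := (zpow_eq_iff_dvd u _ _).1 (h.symm.trans (zpow_one u).symm)
      rw [hord'] at h2
      rw [pow_zero]
      exact (h4dvd hp2).trans h2
    | succ k ih =>
      rw [pow_succ, h4mul hp2]
      obtain ⟨a, ha⟩ := ih
      obtain ⟨b, hb⟩ := hg
      exact ⟨4 * a * b + a + b, by rw [show r (g ^ k) = 4 * a + 1 by omega, show r g = 4 * b + 1 by omega]; ring⟩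
  by_cases hfirst : p = 2 ∧ (m = 1 ∨ M ≤ zpowers u)
  · left
    obtain ⟨rfl, hfirst⟩ := hfirst
    refine ⟨rfl, ?_⟩
    have H : ∀ g, (4 : ℤ) ∣ r g - 1 → g ∈ zpowers u := by
      intro g hg
      rcases hfirst with h | h
      · refine hmem g ?_
        rw [hr g]
        refine ((zpow_eq_iff_dvd u (r g) 1).2 ?_).trans (zpow_one u)
        rw [hord', h]; simpa using hg
      · by_contra hgU
        obtain ⟨i, hi, hi'⟩ := hlast g hgU
        exact hi (h (hkey _ hi' fun _ => h4pow rfl g hg _))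
    obtain ⟨x, hx⟩ := hne
    have hidx : (zpowers u).index = 2 := by
      rw [index_eq_two_iff]
      refine ⟨x, fun b => ?_⟩
      by_cases hb : b ∈ zpowers u
      · exact Or.inr ⟨hb, fun h => hx (by simpa using mul_mem (inv_mem hb) h)⟩
      · exact Or.inl ⟨H _ ((h4mul rfl b x).2 (int_four_dvd (h2odd rfl b) (h2odd rfl x)
          (fun h => hb (H b h)) (fun h => hx (H x h)))), hb⟩
    have hcard : Nat.card G = 2 ^ (m + 1 + 1) := by
      rw [← (zpowers u).card_mul_index, hidx, hUn, ← pow_succ]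
    refine ⟨hcard, ?_⟩
    have hx2 : x ^ 2 ∈ zpowers u := hidx ▸ (zpowers u).pow_index_mem x
    have h4x : ¬ (4 : ℤ) ∣ r x - 1 := fun h => hx (H x h)
    have hrx : (2 : ℤ) ^ m ∣ r x + 1 := by
      rcases int_sq_sub_one (n := m) (r := r x) (by simpa using hd x hx2) with h | h
      · have hm1 : m = 1 := by
          by_contra hm'
          exact h4x ((show (4 : ℤ) = 2 ^ 2 by norm_num) ▸ (pow_dvd_pow 2 (show 2 ≤ m by omega)).trans h)
        rw [hm1, pow_one] at h ⊢
        omega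
      · exact h
    obtain ⟨i, hi⟩ := mem_zpowers_iff.1 hx2
    have hi2 : (2 : ℤ) ^ m ∣ i := by
      have h1 : x * u ^ i * x⁻¹ = u ^ i := by rw [hi]; group
      rw [conj_zpow_eq (hr x), zpow_eq_iff_dvd, hord'] at h1
      obtain ⟨c, hc⟩ : ∃ c : ℤ, r x - 1 = 2 * (2 * c + 1) := ⟨(r x - 1) / 4, by
        have := h2odd rfl x
        omega⟩
      rw [show r x * i - i = (r x - 1) * i by ring, hc, pow_succ', mul_assoc] at h1
      push_cast at h1
      have h2 : (2 : ℤ) ^ m ∣ (2 * c + 1) * i := (mul_dvd_mul_iff_left (two_ne_zero (α := ℤ))).1 h1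
      exact (IsCoprime.pow_left ⟨-c, 1, by ring⟩).dvd_of_dvd_mul_left h2
    have hx22 : x ^ 2 = 1 ∨ x ^ 2 = u ^ (2 ^ m) := by
      refine sq_eq_one_or_eq (n := m) hord hx2 ?_
      rw [← hi, ← zpow_natCast, ← zpow_mul, ← orderOf_dvd_iff_zpow_eq_one, hord']
      push_cast
      rw [pow_succ]
      exact mul_dvd_mul hi2 dvd_rfl
    obtain ⟨t, ht⟩ := hrx
    rcases Int.even_or_odd t with ⟨s, rfl⟩ | ⟨s, rfl⟩
    · have hinv : x * u * x⁻¹ = u⁻¹ := by
        rw [hr x, ← zpow_neg_one, zpow_eq_iff_dvd, hord']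
        refine ⟨s, ?_⟩
        push_cast
        rw [pow_succ]
        linear_combination ht
      rcases hx22 with h | h
      · exact Or.inl ⟨2 ^ (m + 1), nonempty_mulEquiv_dihedral hord hx hinv h (by rw [hcard]; ring)⟩
      · exact Or.inr (Or.inl ⟨2 ^ m, nonempty_mulEquiv_quaternion (by rw [hord, pow_succ]; ring) hx hinv h
          (by rw [hcard]; ring)⟩)
    · have hm2 : 2 ≤ m := by
        by_contra h
        rw [show m = 1 by omega, pow_one] at ht
        omega
      have hconj : x * u * x⁻¹ = u ^ (2 ^ m - 1 : ℕ) := by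
        rw [hr x, ← zpow_natCast, zpow_eq_iff_dvd, hord']
        refine ⟨s, ?_⟩
        push_cast [Nat.one_le_two_pow]
        rw [pow_succ]
        linear_combination ht
      refine Or.inr (Or.inr ⟨m + 1, by omega, hcard, ?_⟩)
      rw [Nat.add_sub_cancel]
      rcases hx22 with h | h
      · exact ⟨u, x, hord, orderOf_eq_prime h (fun h1 => hx (h1 ▸ one_mem _)), hconj⟩
      · refine ⟨u, x * u, hord, orderOf_eq_prime ?_ (fun h1 => hx ?_), ?_⟩
        · calc (x * u) ^ 2 = (x * u * x⁻¹) * (x ^ 2 * u) := by simp [pow_two, mul_assoc]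
            _ = u ^ ((2 : ℕ) ^ m - 1) * (u ^ (2 ^ m) * u) := by rw [hconj, h]
            _ = u ^ (2 ^ m - 1 + (2 ^ m + 1)) := by rw [← pow_succ, ← pow_add]
            _ = 1 := by
              rw [← orderOf_dvd_iff_pow_eq_one, hord]
              refine ⟨1, ?_⟩
              have := Nat.one_le_two_pow (n := m)
              rw [mul_one, pow_succ]
              omega
        · rw [mul_eq_one_iff_eq_inv.1 h1]
          exact inv_mem (mem_zpowers u)
        · calc x * u * u * (x * u)⁻¹ = x * u * x⁻¹ := by group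
            _ = _ := hconj
  right
  push Not at hfirst
  have hp2m : p = 2 → 2 ≤ m := fun h => by have := (hfirst h).1; omega
  -- an element of `M` outside `U`
  obtain ⟨g, hgM, hgU⟩ : ∃ g ∈ M, g ∉ zpowers u := by
    by_cases hp2 : p = 2
    · exact SetLike.not_le_iff_exists.1 (hfirst hp2).2
    · obtain ⟨x, hx⟩ := hne
      obtain ⟨i, hi, hi'⟩ := hlast x hx
      exact ⟨_, hkey _ hi' (fun h => absurd h hp2), hi⟩
  let z : G := u ^ p ^ m
  let Zp : Subgroup G := zpowers z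
  have hzord : orderOf z = p := by
    rw [orderOf_pow_of_dvd (pow_ne_zero _ hp.ne_zero) (hord ▸ pow_dvd_pow p (Nat.le_succ m)), hord,
      pow_succ, Nat.mul_div_cancel_left _ (pow_pos hp.pos m)]
  have hzU : z ∈ zpowers u := pow_mem (mem_zpowers u) _
  have hzp : z ∈ U1 := by
    obtain ⟨m', rfl⟩ := Nat.exists_eq_succ_of_ne_zero (by omega : m ≠ 0)
    exact mem_zpowers_iff.2 ⟨(p ^ m' : ℕ), by rw [zpow_natCast, ← pow_mul, ← pow_succ']⟩
  have hZc : ∀ c ∈ Zp, ∀ w ∈ M, Commute c w := fun c hc w hw =>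
    mem_centralizer_iff.1 hw c ((zpowers_le.2 hzp : Zp ≤ U1) hc)
  have hZp1 : ∀ c ∈ Zp, c ^ p = 1 := fun c hc => by
    obtain ⟨k, rfl⟩ := mem_zpowers_iff.1 hc
    rw [← zpow_natCast, zpow_comm, zpow_natCast, ← hzord, pow_orderOf_eq_one, one_zpow]
  have hcomm : ∀ w ∈ M, ∀ v ∈ zpowers u, ⁅w, v⁆ ∈ Zp := by
    intro w hw v hv
    obtain ⟨k, rfl⟩ := mem_zpowers_iff.1 hv
    obtain ⟨c, hc⟩ := (hM w).1 hw
    refine mem_zpowers_iff.2 ⟨c * k, ?_⟩
    show (u ^ p ^ m) ^ (c * k) = _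
    rw [commutatorElement_def, conj_zpow_eq (hr w), ← zpow_natCast u (p ^ m), ← zpow_mul, ← zpow_neg, ← zpow_add]
    congr 1
    push_cast
    linear_combination -k * hc
  have hpow : ∀ w ∈ M, ∀ v ∈ zpowers u, (w * v) ^ p = w ^ p * v ^ p * ⁅v, w⁆ ^ p.choose 2 := by
    intro w hw v hv
    have hv' := hUM hv
    have hce : ⁅(⟨v, hv'⟩ : M), (⟨w, hw⟩ : M)⁆ ∈ center M := by
      rw [mem_center_iff]
      intro a
      apply Subtype.ext
      have e : ((⁅(⟨v, hv'⟩ : M), (⟨w, hw⟩ : M)⁆ : M) : G) = ⁅v, w⁆ := map_commutatorElement M.subtype _ _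
      show (a : G) * ((⁅(⟨v, hv'⟩ : M), (⟨w, hw⟩ : M)⁆ : M) : G) = ((⁅(⟨v, hv'⟩ : M), (⟨w, hw⟩ : M)⁆ : M) : G) * a
      rw [e]
      exact (hZc _ (by rw [← commutatorElement_inv]; exact inv_mem (hcomm w hw v hv)) a a.2).eq.symm
    have h2 := congrArg M.subtype (mul_pow_of_central hce p)
    rw [map_mul, map_mul, map_pow, map_pow, map_pow, map_pow, map_mul, map_commutatorElement] at h2
    exact h2
  -- `U` has index `p` in `M`
  let ψ : M →* G := MonoidHom.mk' (fun w => ⁅(w : G), u⁆) fun a b => by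
    show ⁅(a : G) * b, u⁆ = ⁅(a : G), u⁆ * ⁅(b : G), u⁆
    have h1 := hcomm b b.2 u (mem_zpowers u)
    have h2 := hcomm a a.2 u (mem_zpowers u)
    calc ⁅(a : G) * b, u⁆ = (a : G) * ⁅(b : G), u⁆ * (a : G)⁻¹ * ⁅(a : G), u⁆ := by
          simp [commutatorElement_def, mul_assoc]
      _ = ⁅(b : G), u⁆ * ⁅(a : G), u⁆ := by rw [(hZc _ h1 a a.2).symm.eq, mul_inv_cancel_right]
      _ = _ := (hZc _ h1 _ (hUM ((zpowers_le.2 hzU : Zp ≤ zpowers u) h2))).eq
  have hker : ψ.ker = (zpowers u).subgroupOf M := by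
    ext w
    rw [MonoidHom.mem_ker, mem_subgroupOf]
    refine ⟨fun h => hmem _ ?_, fun h => ?_⟩
    · exact mul_inv_eq_one.1 h
    · obtain ⟨k, hk⟩ := mem_zpowers_iff.1 h
      show ⁅(w : G), u⁆ = 1
      rw [← hk, commutatorElement_eq_one_iff_mul_comm]
      exact (Commute.zpow_self u k).eq
  have hrel : (zpowers u).relIndex M = p := by
    have hdvd : (zpowers u).relIndex M ∣ p := by
      rw [relIndex, ← hker, index_ker, ← hzord, ← Nat.card_zpowers]
      exact card_dvd_of_le (show ψ.range ≤ Zp by rintro _ ⟨w, rfl⟩; exact hcomm w w.2 u (mem_zpowers u))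
    exact (hp.eq_one_or_self_of_dvd _ hdvd).resolve_left fun h => hgU (relIndex_eq_one.1 h hgM)
  have hgp : g ^ p ∈ zpowers u := by
    have h1 := ((zpowers u).subgroupOf M).pow_index_mem ⟨g, hgM⟩
    rwa [← relIndex, hrel, mem_subgroupOf] at h1
  -- an element of order `p` in `M` outside `U`
  obtain ⟨x, hxM, hxU, hxp⟩ : ∃ x ∈ M, x ∉ zpowers u ∧ x ^ p = 1 := by
    obtain ⟨i, hi⟩ := mem_zpowers_iff.1 hgp
    obtain ⟨c, hc⟩ := (hM g).1 hgM
    have hpc : ¬ (p : ℤ) ∣ c := fun ⟨d, hd⟩ => hgU (hmem g (by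
      rw [hr g]
      refine ((zpow_eq_iff_dvd u (r g) 1).2 ⟨d, ?_⟩).trans (zpow_one u)
      rw [hord2, hc, hd]; ring))
    have hpi : (p : ℤ) ∣ i := by
      have h1 : g * u ^ i * g⁻¹ = u ^ i := by rw [hi]; group
      rw [conj_zpow_eq (hr g), zpow_eq_iff_dvd, hord2, show r g * i - i = (r g - 1) * i by ring, hc,
        mul_comm (p : ℤ), mul_assoc] at h1
      exact ((Nat.prime_iff_prime_int.1 hp).dvd_mul.1
        ((mul_dvd_mul_iff_left (pow_ne_zero m hpZ)).1 h1)).resolve_left hpc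
    obtain ⟨j, rfl⟩ := hpi
    have hv : u ^ (-j) ∈ zpowers u := zpow_mem (mem_zpowers u) _
    have hout : ∀ v ∈ zpowers u, g * v ∉ zpowers u := fun v hv h => hgU (by
      simpa using mul_mem h (inv_mem hv))
    have hb : (g * u ^ (-j)) ^ p = ⁅u ^ (-j), g⁆ ^ p.choose 2 := by
      rw [hpow g hgM _ hv, ← hi, ← zpow_natCast (u ^ (-j)), ← zpow_mul, ← zpow_add]
      rw [show (p : ℤ) * j + -j * p = 0 by ring, zpow_zero, one_mul]
    have hcZ : ⁅u ^ (-j), g⁆ ∈ Zp := by
      rw [← commutatorElement_inv]; exact inv_mem (hcomm g hgM _ hv)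
    by_cases hp2 : p = 2
    · subst hp2
      rw [show Nat.choose 2 2 = 1 from rfl, pow_one] at hb
      rcases eq_or_ne ⁅u ^ (-j), g⁆ 1 with h | h
      · exact ⟨_, mul_mem hgM (hUM hv), hout _ hv, hb.trans h⟩
      · obtain ⟨m', rfl⟩ := Nat.exists_eq_succ_of_ne_zero (by omega : m ≠ 0)
        let w := u ^ 2 ^ m'
        have hwU : w ∈ zpowers u := pow_mem (mem_zpowers u) _
        have hw2 : w ^ 2 = z := (pow_mul u _ 2).symm.trans (by rw [← pow_succ])
        have hwU1 : w ∈ U1 := by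
          obtain ⟨m'', rfl⟩ := Nat.exists_eq_succ_of_ne_zero (show m' ≠ 0 by have := hp2m rfl; omega)
          exact mem_zpowers_iff.2 ⟨(2 ^ m'' : ℕ), by rw [zpow_natCast, ← pow_mul, ← pow_succ']⟩
        have hz : ⁅u ^ (-j), g⁆ = z := by
          obtain ⟨k, hk⟩ := mem_zpowers_iff.1 hcZ
          rw [← hk] at h ⊢
          rcases Int.even_or_odd k with ⟨s, rfl⟩ | ⟨s, rfl⟩
          · exfalso; apply h
            rw [← two_mul, zpow_mul, zpow_ofNat, hZp1 z (mem_zpowers z), one_zpow]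
          · rw [zpow_add, zpow_mul, zpow_ofNat, hZp1 z (mem_zpowers z), one_zpow, one_mul, zpow_one]
        refine ⟨g * u ^ (-j) * w, mul_mem (mul_mem hgM (hUM hv)) (hUM hwU), ?_, ?_⟩
        · rw [mul_assoc]; exact hout _ (mul_mem hv hwU)
        · have hcw : Commute (g * u ^ (-j)) w :=
            (mem_centralizer_iff.1 (mul_mem hgM (hUM hv) : g * u ^ (-j) ∈ M) w hwU1).symm
          rw [hcw.mul_pow, hb, hz, hw2, ← pow_two]
          exact hZp1 z (mem_zpowers z)
    · refine ⟨_, mul_mem hgM (hUM hv), hout _ hv, hb.trans ?_⟩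
      obtain ⟨k, hk⟩ : p ∣ p.choose 2 :=
        hp.dvd_choose_self (by norm_num) (lt_of_le_of_ne hp.two_le (Ne.symm hp2))
      rw [hk, pow_mul, hZp1 _ hcZ, one_pow]
  haveI : Zp.Normal := ⟨fun a ha b => by
    obtain ⟨k, rfl⟩ := mem_zpowers_iff.1 ha
    refine mem_zpowers_iff.2 ⟨r b * k, ?_⟩
    show (u ^ p ^ m) ^ (r b * k) = b * (u ^ p ^ m) ^ k * b⁻¹
    rw [← zpow_natCast u (p ^ m), ← zpow_mul, ← zpow_mul, conj_zpow_eq (hr b)]
    ring_nf⟩
  let E : Subgroup G := Zp ⊔ zpowers x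
  have hsupM : zpowers u ⊔ zpowers x = M := by
    have hle : zpowers u ⊔ zpowers x ≤ M := sup_le hUM (zpowers_le.2 hxM)
    refine le_antisymm hle (relIndex_eq_one.1 ?_)
    have h1 := relIndex_mul_relIndex (zpowers u) (zpowers u ⊔ zpowers x) M le_sup_left hle
    rw [hrel] at h1
    rcases hp.eq_one_or_self_of_dvd _ ⟨_, h1.symm⟩ with h | h
    · exact absurd (relIndex_eq_one.1 h (mem_sup_right (mem_zpowers x))) hxU
    · rw [h] at h1
      exact Nat.eq_of_mul_eq_mul_left hp.pos (h1.trans (mul_one p).symm)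
  have hE : ∀ w ∈ M, w ^ p = 1 → w ∈ E := by
    intro w hw hwp
    obtain ⟨v, hv, a, ha, rfl⟩ := mem_sup_of_normal_left.1 (hsupM.symm ▸ hw)
    have haM : a ∈ M := (zpowers_le.2 hxM : zpowers x ≤ M) ha
    have hap : a ^ p = 1 := by
      obtain ⟨k, rfl⟩ := mem_zpowers_iff.1 ha
      rw [← zpow_natCast, zpow_comm, zpow_natCast, hxp, one_zpow]
    have hv' : a⁻¹ * v * a ∈ zpowers u := by
      simpa using (‹(zpowers u).Normal›).conj_mem v hv a⁻¹
    have e : v * a = a * (a⁻¹ * v * a) := by group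
    rw [e] at hwp ⊢
    refine mul_mem (mem_sup_right ha) (mem_sup_left ?_)
    have h := hpow a haM _ hv'
    rw [hwp, hap, one_mul] at h
    have hc : ⁅a⁻¹ * v * a, a⁆ ∈ Zp := by
      rw [← commutatorElement_inv]; exact inv_mem (hcomm a haM _ hv')
    obtain ⟨k, hk⟩ := mem_zpowers_iff.1 hv'
    have hvp : (a⁻¹ * v * a) ^ p = 1 := by
      by_cases hp2 : p = 2
      · subst hp2
        rw [show Nat.choose 2 2 = 1 from rfl, pow_one] at h
        have h4 : (a⁻¹ * v * a) ^ 4 = 1 := by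
          rw [show (4 : ℕ) = 2 * 2 from rfl, pow_mul, eq_inv_of_mul_eq_one_left h.symm, inv_pow,
            hZp1 _ hc, inv_one]
        rw [← hk, ← zpow_natCast, ← zpow_mul, ← orderOf_dvd_iff_zpow_eq_one, hord2] at h4
        push_cast at h4
        have h2k : (2 : ℤ) ∣ k := by
          have h8 : (8 : ℤ) ∣ k * 4 := by
            refine dvd_trans ?_ h4
            rw [← pow_succ']
            exact (show (8 : ℤ) = 2 ^ 3 by norm_num) ▸ pow_dvd_pow 2 (by have := hp2m rfl; omega)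
          omega
        obtain ⟨s, rfl⟩ := h2k
        have hU1v : a⁻¹ * v * a ∈ U1 := mem_zpowers_iff.2 ⟨s, by
          rw [← hk, ← zpow_natCast u 2, ← zpow_mul]; rfl⟩
        have h1 : ⁅a⁻¹ * v * a, a⁆ = 1 :=
          commutatorElement_eq_one_iff_mul_comm.2 (mem_centralizer_iff.1 haM _ hU1v)
        rw [h1, mul_one] at h
        exact h.symm
      · obtain ⟨q, hq⟩ : p ∣ p.choose 2 :=
          hp.dvd_choose_self (by norm_num) (lt_of_le_of_ne hp.two_le (Ne.symm hp2))
        rw [hq, pow_mul, hZp1 _ hc, one_pow, mul_one] at h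
        exact h.symm
    rw [← hk, ← zpow_natCast, ← zpow_mul, ← orderOf_dvd_iff_zpow_eq_one, hord2,
      mul_comm (p : ℤ)] at hvp
    obtain ⟨q, rfl⟩ := (mul_dvd_mul_iff_right hpZ).1 hvp
    refine mem_zpowers_iff.2 ⟨q, ?_⟩
    show (u ^ p ^ m) ^ q = a⁻¹ * v * a
    rw [← hk, ← zpow_natCast u (p ^ m), ← zpow_mul, Nat.cast_pow]
  have hZE : Cfsg.IsElementaryAbelian p E :=
    isElementaryAbelian_sup (isElementaryAbelian_zpowers (by rw [← hzord]; exact pow_orderOf_eq_one z))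
      (isElementaryAbelian_zpowers hxp) fun c hc => mem_centralizer_iff.2 fun b hb =>
        (hZc c hc b ((zpowers_le.2 hxM : zpowers x ≤ M) hb)).eq.symm
  have hΩ : Cfsg.omegaOne p M = E := by
    refine le_antisymm ((closure_le _).2 fun w hw => hE w hw.1 hw.2) (sup_le ?_ ?_)
    · exact zpowers_le.2 (subset_closure ⟨hUM hzU, by rw [← hzord]; exact pow_orderOf_eq_one z⟩)
    · exact zpowers_le.2 (subset_closure ⟨hxM, hxp⟩)
  refine ⟨hrel, ?_, ?_, ?_⟩
  · show Cfsg.IsElementaryAbelian p (Cfsg.omegaOne p M)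
    rw [hΩ]; exact hZE
  · show Nat.card ↥(Cfsg.omegaOne p M) = p ^ 2
    rw [hΩ, card_sup_zpowers (p := p) (orderOf_eq_of_pow_eq_one hxp fun h => hxU (h ▸ one_mem _))
      (fun h => hxU ((zpowers_le.2 hzU : Zp ≤ zpowers u) h)), Nat.card_zpowers, hzord, pow_two]
  · show (Cfsg.omegaOne p M).Characteristic
    rw [characteristic_iff_map_le]
    intro φ
    by_cases hA : p = 2 ∧ ∃ g, ¬ (4 : ℤ) ∣ r g - 1
    · obtain ⟨rfl, g0, hg0⟩ := hA
      have hK : commutator G ≤ zpowers u := by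
        rw [_root_.commutator_def, Subgroup.commutator_le]
        intro a _ b _
        refine hmem _ ?_
        have hab : (a * b) * u * (a * b)⁻¹ = (b * a) * u * (b * a)⁻¹ := by
          rw [hr, hr, zpow_eq_iff_dvd, hord']
          have h1 := hcong a b
          have h2 := hcong b a
          rw [mul_comm (r b)] at h2
          exact (dvd_sub h1 h2).trans (dvd_of_eq (by ring))
        calc ⁅a, b⁆ * u * ⁅a, b⁆⁻¹
            = (a * b) * ((b * a)⁻¹ * u * (b * a)) * (a * b)⁻¹ := by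
              simp [commutatorElement_def, mul_assoc]
          _ = u := by
            have h3 : (b * a)⁻¹ * u * (b * a) = (a * b)⁻¹ * u * (a * b) := by
              calc (b * a)⁻¹ * u * (b * a)
                  = (b * a)⁻¹ * ((a * b) * ((a * b)⁻¹ * u * (a * b)) * (a * b)⁻¹) * (b * a) := by group
                _ = (b * a)⁻¹ * ((b * a) * ((a * b)⁻¹ * u * (a * b)) * (b * a)⁻¹) * (b * a) := by
                    obtain ⟨k, hk⟩ := mem_zpowers_iff.1 ((‹(zpowers u).Normal›).conj_mem u (mem_zpowers u) (a * b)⁻¹)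
                    rw [inv_inv] at hk
                    rw [← hk, ← conj_zpow, ← conj_zpow, hab]
                _ = (a * b)⁻¹ * u * (a * b) := by group
            rw [h3]; group
      have hu2 : u ^ 2 ∈ commutator G := by
        obtain ⟨c, hc⟩ : ∃ c : ℤ, r g0 - 1 = 2 * (2 * c + 1) := ⟨(r g0 - 1) / 4, by
          have := h2odd rfl g0
          omega⟩
        have h1 : u ^ (r g0 - 1) ∈ commutator G := by
          have : ⁅g0, u⁆ = u ^ (r g0 - 1) := by
            rw [commutatorElement_def, hr, zpow_sub, zpow_one]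
          rw [← this, _root_.commutator_def]
          exact commutator_mem_commutator (mem_top _) (mem_top _)
        obtain ⟨a, b, hab⟩ : IsCoprime (2 * c + 1) ((2 : ℤ) ^ m) :=
          IsCoprime.pow_right ⟨1, -c, by ring⟩
        have : u ^ 2 = (u ^ (r g0 - 1)) ^ a := by
          rw [← zpow_mul, ← zpow_natCast, zpow_eq_iff_dvd, hord', hc]
          refine ⟨b, ?_⟩
          push_cast
          rw [pow_succ]
          linear_combination -2 * hab
        rw [this]
        exact zpow_mem h1 a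
      have hφ2 : φ (u ^ 2) ∈ U1 := by
        by_cases hle : commutator G ≤ U1
        · have heq : commutator G = U1 := le_antisymm hle (zpowers_le.2 hu2)
          rw [← heq]
          exact ((inferInstance : (commutator G).Characteristic).fixed φ).ge hu2
        · obtain ⟨w, hwK, hw1⟩ := SetLike.not_le_iff_exists.1 hle
          obtain ⟨k, rfl⟩ := mem_zpowers_iff.1 (hK hwK)
          have hu : u ∈ commutator G := by
            rcases Int.even_or_odd k with ⟨s, rfl⟩ | ⟨s, rfl⟩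
            · exact absurd (mem_zpowers_iff.2 ⟨s, by rw [← zpow_natCast u 2, ← zpow_mul, ← two_mul]; rfl⟩) hw1
            · have := mul_mem (inv_mem (zpow_mem hu2 s)) hwK
              rwa [← zpow_natCast u 2, ← zpow_mul, zpow_add, zpow_one, ← mul_assoc, Nat.cast_ofNat,
                inv_mul_cancel, one_mul] at this
          obtain ⟨k', hk'⟩ := mem_zpowers_iff.1 (hK (((inferInstance : (commutator G).Characteristic).fixed φ).ge hu))
          refine mem_zpowers_iff.2 ⟨k', ?_⟩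
          rw [map_pow, show φ u = u ^ k' from hk'.symm, ← zpow_natCast, ← zpow_natCast, ← zpow_mul, ← zpow_mul, mul_comm]
      refine map_omegaOne_le 2 M φ.toMonoidHom fun w hw _ => ?_
      have hsurj : U1 ≤ U1.map φ.toMonoidHom := by
        refine (eq_of_le_of_card_ge (show U1.map φ.toMonoidHom ≤ U1 from ?_)
          (by rw [card_map_of_injective φ.injective])).ge
        rw [MonoidHom.map_zpowers, zpowers_le]
        exact hφ2
      refine mem_centralizer_iff.2 fun a ha => ?_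
      obtain ⟨b, hb, rfl⟩ := hsurj ha
      show φ b * φ w = φ w * φ b
      rw [← map_mul, ← map_mul, mem_centralizer_iff.1 hw b hb]
    · push Not at hA
      refine map_omegaOne_le p M φ.toMonoidHom fun w _ hwp => ?_
      exact hkey _ (by rw [← map_pow, hwp, map_one]; exact one_mem _) (fun h => hA h _)

end Cfsg.Agent.S3761
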