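import Cfsg.Statements.S3764
import Cfsg.Agent.Lib.HallHigmanRep

set_option autoImplicit false
open Cfsg

namespace Cfsg.Agent.S3764

open Module
open scoped commutatorElement
open Cfsg.Agent.HallHigman

theorem main {G : Type*} [Group G] [Finite G] {p q r : ℕ} (hp : p.Prime) (hq : q.Prime)
    (hr : r.Prime) (hpq : p ≠ q) (hqr : q ≠ r) (x : G) (Q V : Subgroup G) (hord : orderOf x = r)
    (hQp : IsPGroup q Q) (hZc : commutator Q = Subgroup.center Q)
    (hFc : frattini Q = Subgroup.center Q) (hZ : Nat.card (Subgroup.center Q) = q)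
    (hxQ : x ∈ Subgroup.normalizer (Q : Set G))
    (hCQ : Q ⊓ Subgroup.centralizer {x} = (Subgroup.center ↥Q).map Q.subtype)
    (hV : Cfsg.IsElementaryAbelian p V) (hxV : x ∈ Subgroup.normalizer (V : Set G))
    (hQV : Q ≤ Subgroup.normalizer (V : Set G))
    (hfaith : Q ⊓ Subgroup.centralizer (V : Set G) = ⊥) (hCV : V ⊓ Subgroup.centralizer {x} = ⊥) :
    q = 2 ∧ ∃ n : ℕ, r = 2 ^ n + 1 ∧ Nat.card Q = 2 ^ (2 * n + 1) := by
  have := Fact.mk hp
  have := Fact.mk hq
  set Z := (Subgroup.center ↥Q).map Q.subtype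
  have hZcard : Nat.card Z = q := by rw [Subgroup.card_map_of_injective Q.subtype_injective, hZ]
  have hQ'Z : ⁅Q, Q⁆ = Z := by
    show ⁅Q, Q⁆ = (Subgroup.center ↥Q).map Q.subtype
    rw [← hZc, commutator_def, Subgroup.map_commutator, ← MonoidHom.range_eq_map,
      Subgroup.range_subtype]
  have hZQ : Z ≤ Q := Subgroup.map_subtype_le _
  have hZcen : Z ≤ Subgroup.centralizer (Q : Set G) := by
    rintro _ ⟨z, hz, rfl⟩
    exact Subgroup.mem_centralizer_iff.mpr fun y hy =>
      congrArg Subtype.val (Subgroup.mem_center_iff.mp hz ⟨y, hy⟩)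
  have hctr : ctr Q = Z := by
    refine le_antisymm ?_ (le_inf hZQ hZcen)
    intro a ha
    exact ⟨⟨a, ha.1⟩, Subgroup.mem_center_iff.mpr fun y =>
      Subtype.ext (Subgroup.mem_centralizer_iff.mp ha.2 y y.2), rfl⟩
  have hcl : ⁅⁅Q, Q⁆, Q⁆ = ⊥ :=
    Subgroup.commutator_eq_bot_iff_le_centralizer.mpr (hQ'Z.trans_le hZcen)
  have hXQ : Subgroup.zpowers x ≤ Subgroup.normalizer (Q : Set G) := Subgroup.zpowers_le.mpr hxQ
  have hgen : ⁅Q, Subgroup.zpowers x⁆ = Q := by
    have hsup := Cfsg.Agent.CoprimeAction.commutator_sup_centralizer_eq hXQ (by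
      obtain ⟨k, hk⟩ := IsPGroup.iff_card.mp hQp
      rw [Nat.card_zpowers, hord, hk]
      exact ((Nat.coprime_primes hr hq).mpr hqr.symm).pow_right k)
      (Or.inl (Cfsg.Agent.CoprimeAction.isSolvable_zpowers x))
    rw [show Subgroup.centralizer (Subgroup.zpowers x : Set G) = Subgroup.centralizer {x} by
      rw [Subgroup.zpowers_eq_closure, Subgroup.centralizer_closure], hCQ] at hsup
    set L := ⁅Q, Subgroup.zpowers x⁆
    have hLQ : L ≤ Q := Cfsg.Agent.CoprimeAction.commutator_le_self_of_le_normalizer hXQ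
    have h1 : L.subgroupOf Q ⊔ frattini Q = ⊤ := by
      apply Subgroup.map_injective Q.subtype_injective
      rw [Subgroup.map_sup, Subgroup.map_subgroupOf_eq_of_le hLQ, hFc, ← MonoidHom.range_eq_map,
        Subgroup.range_subtype]
      exact hsup
    exact le_antisymm hLQ (Subgroup.subgroupOf_eq_top.mp (frattini_nongenerating h1))
  -- the representation
  set H := Q ⊔ Subgroup.zpowers x with hH
  have hQH : Q ≤ H := le_sup_left
  have hHV : H ≤ Subgroup.normalizer (V : Set G) := sup_le hQV (Subgroup.zpowers_le.mpr hxV)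
  let _ : CommGroup V := { (inferInstance : Group V) with mul_comm := hV.1.is_comm.comm }
  obtain ⟨d, ρ, hρ, hρN⟩ := exists_rep (fun v : V => Subtype.ext (hV.2 v v.2)) (actOn hHV)
  let x' : H := ⟨x, Subgroup.mem_sup_right (Subgroup.mem_zpowers x)⟩
  have hx'm : x' ^ r ^ 1 = 1 := Subtype.ext (by
    show x ^ r ^ 1 = 1
    rw [pow_one, ← hord, pow_orderOf_eq_one])
  have hN : ∑ k ∈ Finset.range (r ^ 1), ρ x' ^ k = 0 := by
    refine (hρN _ _).mpr (norm_trivial_of_fpf (actOn hHV) hx'm fun v hv => ?_)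
    have h5 : x * (v : G) * x⁻¹ = v := congrArg Subtype.val hv
    have : (v : G) ∈ V ⊓ Subgroup.centralizer {x} := ⟨v.2,
      Subgroup.mem_centralizer_singleton_iff.mpr (mul_inv_eq_iff_eq_mul.mp h5).symm⟩
    rw [hCV, Subgroup.mem_bot] at this
    exact Subtype.ext this
  obtain ⟨⟨z, hzZ⟩, hz⟩ := exists_prime_orderOf_dvd_card' (G := Z) q (hZcard ▸ dvd_rfl)
  rw [← Subgroup.orderOf_coe] at hz
  change orderOf z = q at hz
  have hzgen : Subgroup.zpowers z = Z := Subgroup.eq_of_le_of_card_ge (Subgroup.zpowers_le.mpr hzZ)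
    (by rw [Nat.card_zpowers, hz, hZcard])
  let z' : H := ⟨z, hQH (hZQ hzZ)⟩
  have hxz : z * x = x * z := by
    have : z ∈ Q ⊓ Subgroup.centralizer {x} := by rw [hCQ]; exact hzZ
    exact Subgroup.mem_centralizer_singleton_iff.mp this.2
  have hzcomm : ∀ g : H, Commute z' g := by
    rintro ⟨g, hg⟩
    have hle : H ≤ Subgroup.centralizer {z} := by
      refine sup_le (fun u hu => ?_) (Subgroup.zpowers_le.mpr ?_)
      · exact Subgroup.mem_centralizer_singleton_iff.mpr (Subgroup.mem_centralizer_iff.mp (hZcen hzZ) u hu)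
      · exact Subgroup.mem_centralizer_singleton_iff.mpr hxz.symm
    exact Subtype.ext (Subgroup.mem_centralizer_singleton_iff.mp (hle hg)).symm
  set T := ρ z'
  have hTc : ∀ g, Commute T (ρ g) := fun g => (hzcomm g).map ρ
  have hT1 : T - 1 ≠ 0 := by
    rw [Ne, sub_eq_zero, hρ, actOn_eq_one]
    intro h
    have : z ∈ Q ⊓ Subgroup.centralizer (V : Set G) := ⟨hZQ hzZ, h⟩
    rw [hfaith, Subgroup.mem_bot] at this
    rw [this, orderOf_one] at hz
    exact hq.one_lt.ne hz
  have hTq : T ^ q = 1 := by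
    rw [← map_pow, show z' ^ q = 1 from Subtype.ext (by
      show z ^ q = 1
      rw [← hz, pow_orderOf_eq_one]), map_one]
  have hqK : (q : AlgebraicClosure (ZMod p)) ≠ 0 := by
    rw [Ne, CharP.cast_eq_zero_iff (AlgebraicClosure (ZMod p)) p, Nat.prime_dvd_prime_iff_eq hp hq]
    exact hpq
  -- a minimal invariant subspace without fixed points of `z`
  let P : ℕ → Prop := fun n => ∃ U : Submodule (AlgebraicClosure (ZMod p))
      (Fin d → AlgebraicClosure (ZMod p)), U ≠ ⊥ ∧
    finrank (AlgebraicClosure (ZMod p)) U = n ∧ (∀ g : H, ∀ w ∈ U, ρ g w ∈ U) ∧ ∀ w ∈ U, (∑ i ∈ Finset.range q, T ^ i) w = 0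
  have hP : ∃ n, P n := by
    refine ⟨_, LinearMap.ker (∑ i ∈ Finset.range q, T ^ i), fun h => hT1 ?_, rfl, fun g w hw => ?_,
      fun w hw => hw⟩
    · refine LinearMap.ext fun w => ?_
      have hmem : (T - 1) w ∈ LinearMap.ker (∑ i ∈ Finset.range q, T ^ i) := by
        rw [LinearMap.mem_ker, ← Module.End.mul_apply, geom_sum_mul, hTq, sub_self]
        rfl
      rw [h, Submodule.mem_bot] at hmem
      exact hmem
    · have hc : Commute (∑ i ∈ Finset.range q, T ^ i) (ρ g) :=
        Commute.sum_left _ _ _ fun i _ => (hTc g).pow_left i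
      rw [LinearMap.mem_ker] at hw ⊢
      rw [← Module.End.mul_apply, hc.eq, Module.End.mul_apply, hw, map_zero]
  classical
  obtain ⟨U, hU0, hUd, hUinv, hUN⟩ := Nat.find_spec hP
  have : Nontrivial U := Submodule.nontrivial_iff_ne_bot.mpr hU0
  let σ : Representation (AlgebraicClosure (ZMod p)) H U :=
    { toFun := fun g => (ρ g).restrict (hUinv g)
      map_one' := LinearMap.ext fun w => Subtype.ext (by simp)
      map_mul' := fun a b => LinearMap.ext fun w => Subtype.ext (by simp) }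
  have hz1 : σ z' ≠ 1 := by
    intro h
    obtain ⟨w, hw, hw0⟩ := (Submodule.ne_bot_iff _).mp hU0
    have h1 : T w = w := congrArg Subtype.val (LinearMap.congr_fun h ⟨w, hw⟩)
    have h2 : ∀ i : ℕ, (T ^ i) w = w := fun i => by
      induction i with
      | zero => rfl
      | succ i ih => rw [pow_succ, Module.End.mul_apply, h1, ih]
    have := hUN w hw
    rw [LinearMap.sum_apply, Finset.sum_congr rfl fun i _ => h2 i, Finset.sum_const,
      Finset.card_range, ← Nat.cast_smul_eq_nsmul (AlgebraicClosure (ZMod p)), smul_eq_zero] at this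
    exact hw0 (this.resolve_left hqK)
  set Q' := Q.subgroupOf H
  have hmap : Q'.map H.subtype = Q := Subgroup.map_subgroupOf_eq_of_le hQH
  have hdat : HHData r q 1 σ x' Q' := by
    refine ⟨hr, hq, hqr.symm, hqK, le_rfl, hx'm, ?_, hQp.comap_subtype, ?_, ?_, ?_,
      ⟨z', hZQ hzZ, hz1⟩⟩
    · rw [Subgroup.mem_normalizer_iff]
      exact fun g => Subgroup.mem_normalizer_iff.mp hxQ (g : G)
    · apply Subgroup.map_injective H.subtype_injective
      rw [Subgroup.map_commutator, Subgroup.map_commutator, hmap, hcl, Subgroup.map_bot]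
    · apply Subgroup.map_injective H.subtype_injective
      rw [Subgroup.map_commutator, hmap, MonoidHom.map_zpowers, map_pow, Nat.sub_self, pow_zero,
        pow_one]
      exact hgen
    · refine LinearMap.ext fun w => Subtype.ext ?_
      have := LinearMap.congr_fun hN w.1
      rw [LinearMap.sum_apply, LinearMap.zero_apply] at this
      rw [LinearMap.sum_apply, Submodule.coe_sum]
      simp only [← map_pow] at this ⊢
      exact this
  -- pass to the image
  let π := QuotientGroup.mk' σ.ker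
  have hdat' := hdat.map_mk
  have hinj := imageRep_injective σ
  have hirr : ∀ W : Submodule (AlgebraicClosure (ZMod p)) U,
      (∀ u ∈ Q', ∀ w ∈ W, σ u w ∈ W) → (∀ w ∈ W, σ x' w ∈ W) → W = ⊥ ∨ W = ⊤ := by
    intro W hWQ hWx
    have hall : ∀ g : H, ∀ w ∈ W, σ g w ∈ W := by
      have hsub : H ≤ (Cfsg.Agent.HallHigman.preserving σ W).map H.subtype := sup_le
        (fun u hu => ⟨⟨u, hQH hu⟩, hWQ ⟨u, hQH hu⟩ hu, rfl⟩)
        (Subgroup.zpowers_le.mpr ⟨x', hWx, rfl⟩)
      rintro ⟨g, hg⟩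
      obtain ⟨g', hg', he⟩ := hsub hg
      obtain rfl : g' = ⟨g, hg⟩ := Subtype.ext he
      exact hg'
    by_cases hW : W = ⊥
    · exact Or.inl hW
    refine Or.inr ?_
    have h1 : W.map U.subtype = U := by
      refine Submodule.eq_of_le_of_finrank_le (Submodule.map_subtype_le U W) ?_
      refine hUd ▸ Nat.find_min' hP ⟨_, ?_, rfl, ?_, fun w hw => hUN w (Submodule.map_subtype_le U W hw)⟩
      · exact fun h => hW (Submodule.map_injective_of_injective U.subtype_injective
          (h.trans (Submodule.map_bot _).symm))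
      · rintro g _ ⟨w, hw, rfl⟩
        exact ⟨σ g w, hall g w hw, rfl⟩
    apply Submodule.map_injective_of_injective U.subtype_injective
    rw [h1, Submodule.map_subtype_top]
  have hzpow : ∀ a : H, (a : G) ∈ Subgroup.zpowers z → σ a = 1 → a = 1 := by
    intro a ha ha1
    by_contra hne
    have : Fact (Nat.card (Subgroup.zpowers z)).Prime := ⟨by rw [Nat.card_zpowers, hz]; exact hq⟩
    rcases Subgroup.eq_bot_or_eq_top_of_prime_card
      ((Subgroup.zpowers (a : G)).subgroupOf (Subgroup.zpowers z)) with h | h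
    · rw [Subgroup.subgroupOf_eq_bot, disjoint_iff] at h
      refine hne (Subtype.ext (Subgroup.mem_bot.mp (h.le ⟨Subgroup.mem_zpowers _, ha⟩)))
    · obtain ⟨k, hk⟩ := Subgroup.mem_zpowers_iff.mp
        (Subgroup.subgroupOf_eq_top.mp h (Subgroup.mem_zpowers z))
      refine hz1 ?_
      rw [show z' = a ^ k from Subtype.ext hk.symm]
      exact σ.ker.zpow_mem (ha1 : a ∈ σ.ker) k
  have hcen : ∀ u ∈ Q', (∀ y ∈ Q', σ ⁅y, u⁆ = 1) → (u : G) ∈ Subgroup.zpowers z := by
    intro u hu hall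
    rw [hzgen, ← hctr]
    refine ⟨hu, Subgroup.mem_centralizer_iff.mpr fun y hy => ?_⟩
    refine commutatorElement_eq_one_iff_mul_comm.mp (congrArg Subtype.val
      (hzpow ⁅(⟨y, hQH hy⟩ : H), u⁆ ?_ (hall _ hy)))
    rw [hzgen, ← hQ'Z]
    exact Subgroup.commutator_mem_commutator hy hu
  have hker : ∀ u ∈ Q', σ u = 1 → u = 1 := by
    intro u hu hu1
    refine hzpow u (hcen u hu fun y _ => ?_) hu1
    rw [commutatorElement_def, map_mul, map_mul, map_mul, hu1, mul_one,
      show σ u⁻¹ = 1 from σ.ker.inv_mem (hu1 : u ∈ σ.ker), mul_one, ← map_mul, mul_inv_cancel,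
      map_one]
  have hctr' : ctr (Q'.map π) = Subgroup.zpowers (π z') := by
    refine le_antisymm ?_ (Subgroup.zpowers_le.mpr ⟨⟨z', hZQ hzZ, rfl⟩, ?_⟩)
    · rintro _ ⟨⟨u, hu, rfl⟩, huc⟩
      obtain ⟨k, hk⟩ := Subgroup.mem_zpowers_iff.mp (hcen u hu fun y hy => by
        have h1 : π ⁅y, u⁆ = 1 := by
          rw [map_commutatorElement, commutatorElement_eq_one_iff_mul_comm]
          exact Subgroup.mem_centralizer_iff.mp huc _ ⟨_, hy, rfl⟩
        exact (QuotientGroup.eq_one_iff _).mp h1)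
      refine Subgroup.mem_zpowers_iff.mpr ⟨k, ?_⟩
      rw [← map_zpow]
      exact congrArg π (Subtype.ext hk)
    · refine Subgroup.mem_centralizer_iff.mpr ?_
      rintro _ ⟨y, _, rfl⟩
      exact ((hzcomm y).symm.map π).eq
  have hzc : ∀ a ∈ ctr (Q'.map π), ∃ c : AlgebraicClosure (ZMod p), imageRep σ a = c • 1 := by
    obtain ⟨c, hc⟩ : ∃ c : AlgebraicClosure (ZMod p), σ z' = c • 1 := by
      obtain ⟨c, hc⟩ := Module.End.exists_eigenvalue (σ z')
      refine ⟨c, LinearMap.ext fun w => ?_⟩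
      have hinv : ∀ g : H, ∀ w ∈ Module.End.eigenspace (σ z') c,
          σ g w ∈ Module.End.eigenspace (σ z') c := fun g w hw => by
        rw [Module.End.mem_eigenspace_iff] at hw ⊢
        rw [← Module.End.mul_apply, ← map_mul, (hzcomm g).eq, map_mul, Module.End.mul_apply, hw,
          map_smul]
      rcases hirr _ (fun u _ => hinv u) (hinv x') with h | h
      · exact absurd h hc
      · exact Module.End.mem_eigenspace_iff.mp (h ▸ Submodule.mem_top)
    intro a ha
    rw [hctr'] at ha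
    obtain ⟨k, rfl⟩ := mem_powers_iff_mem_zpowers.2 ha
    refine ⟨c ^ k, ?_⟩
    show imageRep σ (π z' ^ k) = _
    rw [map_pow, imageRep_mk, hc, smul_pow, one_pow]
  obtain ⟨j, hj, hlt, hdvd, hcard⟩ := hdat'.exceptional_of_scalar hinj
    (fun W h1 h2 => hirr W (fun u hu => h1 (π u) ⟨u, hu, rfl⟩) h2) hzc
  rw [pow_one] at hlt hdvd
  have hzord : orderOf (π z') = q := by
    refine orderOf_eq_prime ?_ fun h => hz1 ((QuotientGroup.eq_one_iff _).mp h)
    rw [← map_pow, show z' ^ q = 1 from Subtype.ext (by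
      show z ^ q = 1
      rw [← hz, pow_orderOf_eq_one]), map_one]
  have hQcard : Nat.card (Q'.map π) = Nat.card Q := by
    have hi : Function.Injective (π.subgroupMap Q') := by
      rw [injective_iff_map_eq_one]
      intro u hu
      exact Subtype.ext (hker u u.2 ((QuotientGroup.eq_one_iff _).mp (congrArg Subtype.val hu)))
    rw [← Nat.card_congr (Equiv.ofBijective _ ⟨hi, π.subgroupMap_surjective Q'⟩),
      Nat.card_congr (Subgroup.subgroupOfEquivOfLe hQH).toEquiv]
  rw [hQcard, hctr', Nat.card_zpowers, hzord] at hcard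
  set D := q ^ j with hD
  have hD2 : 2 ≤ D := hq.two_le.trans (Nat.le_self_pow (by omega) q)
  rw [show D ^ 2 - 1 = (D + 1) * (D - 1) by rw [← Nat.sq_sub_sq D 1, one_pow],
    hr.dvd_mul] at hdvd
  have hrD : r = D + 1 := by
    rcases hdvd with h | h
    · have := Nat.le_of_dvd (by omega) h
      omega
    · have := Nat.le_of_dvd (by omega) h
      omega
  have hq2 : q = 2 := by
    have hro : Odd r := hr.odd_of_ne_two (by omega)
    rw [hrD, Nat.odd_add_one, Nat.not_odd_iff_even, hD, Nat.even_pow] at hro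
    exact (Nat.Prime.even_iff hq).mp hro.1
  subst hq2
  refine ⟨rfl, j, hrD, ?_⟩
  rw [hcard, hD]
  ring

/-- Let p, q, r be distinct primes and let X, Q, V be subgroups of a finite group with X of order r, Q an extraspecial q-group normalized by X with C_Q(X) = Z(Q), and V an elementary abelian p-group normalized by X and Q on which XQ acts faithfully ((X ⊔ Q) ∩ C(V) = 1). If C_V(X) = 1, then q = 2, r = 2^n + 1 for some n, and Q has order 2^(2n+1). -/
theorem result {G : Type*} [Group G] [Finite G] {p q r : ℕ} (hp : p.Prime) (hq : q.Prime) (hr : r.Prime) (hpq : p ≠ q) (hpr : p ≠ r) (hqr : q ≠ r) (X Q V : Subgroup G) (hX : Nat.card X = r) (hQ : Cfsg.IsExtraspecial q ↥Q) (hXQ : X ≤ Subgroup.normalizer (Q : Set G)) (hCQ : Q ⊓ Subgroup.centralizer (X : Set G) = (Subgroup.center ↥Q).map Q.subtype) (hV : Cfsg.IsElementaryAbelian p V) (hXV : X ≤ Subgroup.normalizer (V : Set G)) (hQV : Q ≤ Subgroup.normalizer (V : Set G)) (hfaith : (X ⊔ Q) ⊓ Subgroup.centralizer (V : Set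 G) = ⊥) (hCV : V ⊓ Subgroup.centralizer (X : Set G) = ⊥) : q = 2 ∧ ∃ n : ℕ, r = 2 ^ n + 1 ∧ Nat.card Q = 2 ^ (2 * n + 1) := by
  have := Fact.mk hr
  have := Fact.mk hq
  have := Fact.mk hp
  have : IsCyclic X := isCyclic_of_prime_card hX
  obtain ⟨⟨x, hxX⟩, hgen⟩ := IsCyclic.exists_generator (α := X)
  have hXeq : X = Subgroup.zpowers x := by
    refine le_antisymm (fun g hg => ?_) (Subgroup.zpowers_le.mpr hxX)
    obtain ⟨k, hk⟩ := Subgroup.mem_zpowers_iff.mp (hgen ⟨g, hg⟩)
    exact Subgroup.mem_zpowers_iff.mpr ⟨k, congrArg Subtype.val hk⟩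
  have hord : orderOf x = r := by rw [← Nat.card_zpowers, ← hXeq, hX]
  have hcent : Subgroup.centralizer ({x} : Set G) = Subgroup.centralizer (X : Set G) := by
    rw [hXeq, Subgroup.zpowers_eq_closure, Subgroup.centralizer_closure]
  obtain ⟨⟨hQp, hFc, hZc⟩, hZ⟩ := hQ
  exact Cfsg.Agent.S3764.main hp hq hr hpq hqr x Q V hord hQp hZc hFc hZ (hXQ hxX) (hcent ▸ hCQ) hV
    (hXV hxX) hQV (eq_bot_iff.mpr (le_trans (inf_le_inf_right _ le_sup_right) hfaith.le)) (hcent ▸ hCV)

end Cfsg.Agent.S3764
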