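import Mathlib
import Cfsg.Statements.S3379
-- import your own Cfsg.Agent.* helpers here

set_option autoImplicit false
open Cfsg
open scoped commutatorElement

namespace Cfsg.Agent.S3379

/-- Let G be a finite group all of whose Sylow subgroups are cyclic. Then G is generated by two elements x and y of coprime orders n and m with x⁻¹yx = y^r, where gcd(r − 1, m) = 1 and r^n ≡ 1 (mod m). -/
theorem result {G : Type*} [Group G] [Finite G]
    (hZ : ∀ (p : ℕ) [Fact p.Prime] (P : Sylow p G), IsCyclic (P : Subgroup G)) :
    ∃ (x y : G) (n m r : ℕ), Subgroup.closure {x, y} = ⊤ ∧ orderOf x = n ∧ orderOf y = m ∧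
      x⁻¹ * y * x = y ^ r ∧ Nat.Coprime (r - 1) m ∧ Nat.Coprime n m ∧ 1 ≤ r ∧ r ^ n % m = 1 % m := by
  haveI hG : IsZGroup G := ⟨fun p hp P => by
    haveI := Fact.mk hp
    exact hZ p P⟩
  obtain ⟨H, hH⟩ := Subgroup.exists_right_complement'_of_coprime hG.coprime_commutator_index
  have h1 : Abelianization G ≃* H := hH.symm.QuotientMulEquiv
  haveI : IsCyclic H := isCyclic_of_surjective _ h1.surjective
  haveI : IsCyclic (commutator G) := hG.isCyclic_commutator
  obtain ⟨y, hy⟩ := (Subgroup.isCyclic_iff_exists_zpowers_eq_top (H := commutator G)).1 inferInstance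
  obtain ⟨x, hx⟩ := (Subgroup.isCyclic_iff_exists_zpowers_eq_top (H := H)).1 inferInstance
  have hgen : Subgroup.closure {x, y} = ⊤ := by
    rw [eq_top_iff, ← hH.sup_eq_top, ← hy, ← hx]
    refine sup_le ?_ ?_ <;> rw [Subgroup.zpowers_le] <;> exact Subgroup.subset_closure (by simp)
  have hcop : Nat.Coprime (orderOf x) (orderOf y) := by
    rw [← Nat.card_zpowers, ← Nat.card_zpowers, hy, hx]
    have := hG.coprime_commutator_index
    rw [hH.symm.index_eq_card] at this
    exact this.symm
  have hyN : y ∈ commutator G := hy ▸ Subgroup.mem_zpowers y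
  have hconj : x⁻¹ * y * x ∈ Subgroup.zpowers y := by
    rw [hy]
    simpa using (inferInstance : (commutator G).Normal).conj_mem y hyN x⁻¹
  obtain ⟨k, hk⟩ := (isOfFinOrder_of_finite y).mem_powers_iff_mem_zpowers.2 hconj
  have hm0 : 0 < orderOf y := orderOf_pos y
  set r := k + orderOf y with hr
  have hxy : x⁻¹ * y * x = y ^ r := by
    rw [hr, pow_add, pow_orderOf_eq_one, mul_one]; exact hk.symm
  have hcr : Nat.Coprime (r - 1) (orderOf y) := by
    set M := Subgroup.zpowers (y ^ (r - 1)) with hM
    have hMn : M.Normal := by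
      rw [← Subgroup.normalizer_eq_top_iff, eq_top_iff, ← hgen, Subgroup.closure_le]
      have hx' : (M.map (MulAut.conj x⁻¹).toMonoidHom) = M := by
        refine Subgroup.eq_of_le_of_card_ge ?_ ?_
        · rw [hM, MonoidHom.map_zpowers, Subgroup.zpowers_le]
          have : (MulAut.conj x⁻¹).toMonoidHom (y ^ (r - 1)) = (y ^ (r - 1)) ^ r := by
            rw [map_pow, ← pow_mul, mul_comm, pow_mul, ← hxy]
            simp
          rw [this]
          exact Subgroup.npow_mem_zpowers _ _
        · exact le_of_eq (Nat.card_congr (M.equivMapOfInjective _ (MulEquiv.injective _)).toEquiv)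
      have hxn : x⁻¹ ∈ Subgroup.normalizer (M : Set G) := by
        rw [Subgroup.mem_normalizer_iff]
        intro h
        have hh : (MulAut.conj x⁻¹).toMonoidHom h ∈ M.map (MulAut.conj x⁻¹).toMonoidHom ↔ h ∈ M :=
          Subgroup.mem_map_iff_mem (MulEquiv.injective _)
        rw [hx'] at hh
        simpa using hh.symm
      intro g hg
      rcases hg with hg | hg <;> rw [hg]
      · simpa using (Subgroup.normalizer (M : Set G)).inv_mem hxn
      · refine SetLike.mem_coe.2 (Subgroup.centralizer_le_normalizer _ ?_)
        rw [Subgroup.mem_centralizer_iff]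
        rintro z ⟨i, rfl⟩
        exact ((Commute.self_pow y (r - 1)).zpow_right i).eq.symm
    haveI := hMn
    have hle : commutator G ≤ M := by
      rw [← QuotientGroup.ker_mk' M]
      let f := QuotientGroup.mk' M
      have hfy : f x * f y = f y * f x := by
        have h2 : f (x⁻¹ * y * x) = f y := by
          rw [hxy, show r = r - 1 + 1 from (Nat.succ_pred_eq_of_pos (by omega)).symm, pow_succ,
            map_mul]
          have : f (y ^ (r - 1)) = 1 := by
            rw [← MonoidHom.mem_ker, QuotientGroup.ker_mk']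
            exact Subgroup.mem_zpowers _
          rw [this, one_mul]
        rw [map_mul, map_mul, map_inv] at h2
        calc f x * f y = f x * ((f x)⁻¹ * f y * f x) := by rw [h2]
          _ = f y * f x := by group
      have hcl : Subgroup.closure {f x, f y} = ⊤ := by
        have := congrArg (Subgroup.map f) hgen
        rw [MonoidHom.map_closure, Set.image_pair,
          Subgroup.map_top_of_surjective f (QuotientGroup.mk'_surjective M)] at this
        exact this
      haveI : IsMulCommutative (Subgroup.closure {f x, f y}) := Subgroup.isMulCommutative_closure (by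
        rintro a (rfl | rfl) b (rfl | rfl)
        · rfl
        · exact hfy
        · exact hfy.symm
        · rfl)
      rw [commutator_def, Subgroup.commutator_le]
      intro a _ b _
      rw [MonoidHom.mem_ker]
      show f ⁅a, b⁆ = 1
      rw [map_commutatorElement, commutatorElement_eq_one_iff_mul_comm]
      exact congrArg Subtype.val (mul_comm' (⟨f a, hcl ▸ Subgroup.mem_top _⟩ : Subgroup.closure {f x, f y}) ⟨f b, hcl ▸ Subgroup.mem_top _⟩)
    have h2 : orderOf y ∣ orderOf (y ^ (r - 1)) := by
      rw [← Nat.card_zpowers, ← Nat.card_zpowers, hy]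
      exact Subgroup.card_dvd_of_le hle
    rw [orderOf_pow] at h2
    have h3 := Nat.div_dvd_of_dvd (Nat.gcd_dvd_left (orderOf y) (r - 1))
    have h4 : orderOf y / Nat.gcd (orderOf y) (r - 1) = orderOf y := Nat.dvd_antisymm h3 h2
    rw [Nat.Coprime, Nat.gcd_comm]
    rcases Nat.lt_or_ge 1 (Nat.gcd (orderOf y) (r - 1)) with hg | hg
    · exact absurd h4 (Nat.ne_of_lt (Nat.div_lt_self hm0 hg))
    · have := Nat.gcd_pos_of_pos_left (r - 1) hm0
      omega
  refine ⟨x, y, orderOf x, orderOf y, r, hgen, rfl, rfl, hxy, hcr, hcop, by omega, ?_⟩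
  have hind : ∀ i : ℕ, (x ^ i)⁻¹ * y * x ^ i = y ^ (r ^ i) := by
    intro i
    induction i with
    | zero => simp
    | succ i ih =>
      have hp : ∀ j : ℕ, x⁻¹ * y ^ j * x = (y ^ r) ^ j := by
        intro j
        rw [← hxy]
        simpa using (conj_pow (a := x⁻¹) (b := y) (i := j)).symm
      rw [pow_succ x i, pow_succ' r i, pow_mul]
      rw [← hp, ← ih]
      group
  have := hind (orderOf x)
  rw [pow_orderOf_eq_one, inv_one, one_mul, mul_one] at this
  nth_rewrite 1 [← pow_one y] at this
  rw [pow_eq_pow_iff_modEq] at this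
  exact this.symm

end Cfsg.Agent.S3379
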