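import Mathlib
import Cfsg.Agent.Lib.FpfLift
import Cfsg.Agent.Lib.FrobeniusFPF
import Cfsg.Agent.Lib.CharInducedTI
import Cfsg.Statements.S3357
-- import your own Cfsg.Agent.* helpers here

set_option autoImplicit false
open Cfsg
open scoped IsMulCommutative

namespace Cfsg.Agent.S3357

/-- The p-torsion of an abelian group with a fixed-point-free action gives the input of the lifting. -/
theorem one_notMem_of_action {G : Type*} [Group G] [Finite G] {A : Type*} [AddCommGroup A] [Finite A]
    {p : ℕ} [Fact p.Prime] (f : G → A →+ A) (h1 : ∀ a, f 1 a = a) (hm : ∀ g h a, f (g * h) a = f g (f h a))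
    (hcop : ¬ p ∣ Nat.card G) (hpA : p ∣ Nat.card A) (hfpf : ∀ c : G, c ≠ 1 → ∀ a, f c a = a → a = 0) :
    (1 : MonoidAlgebra (AlgebraicClosure ℚ) G) ∉ Submodule.span (AlgebraicClosure ℚ)
      {x | ∃ g c g' : G, c ≠ 1 ∧ x = FpfLift.T (AlgebraicClosure ℚ) g c g'} := by
  obtain ⟨W, hWmem⟩ : ∃ W : AddSubgroup A, ∀ w : A, w ∈ W ↔ p • w = 0 :=
    ⟨(nsmulAddMonoidHom p : A →+ A).ker, fun _ => Iff.rfl⟩
  haveI : Module (ZMod p) W := AddCommGroup.zmodModule (fun w => Subtype.ext (by simpa using (hWmem _).1 w.2))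
  haveI : Nontrivial W := by
    obtain ⟨v, hv⟩ := exists_prime_addOrderOf_dvd_card' p hpA
    refine ⟨⟨v, (hWmem _).2 (by rw [← hv]; exact addOrderOf_nsmul_eq_zero v)⟩, 0, fun h => ?_⟩
    have hv0 : v = 0 := congrArg Subtype.val h
    rw [hv0, addOrderOf_zero] at hv
    exact (Fact.out : p.Prime).ne_one hv.symm
  have hWf : ∀ g, ∀ w : W, f g (w : A) ∈ W := fun g w => (hWmem _).2 (by rw [← map_nsmul, (hWmem _).1 w.2, map_zero])
  let ρ : G →* (W →ₗ[ZMod p] W) :=
    { toFun := fun g => (((f g).comp W.subtype).codRestrict W (hWf g)).toZModLinearMap p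
      map_one' := LinearMap.ext fun w => Subtype.ext (h1 w.1)
      map_mul' := fun a b => LinearMap.ext fun w => Subtype.ext (hm a b w.1) }
  exact FpfLift.one_notMem ρ hcop (fun c hc w hw => Subtype.ext (hfpf c hc _ (congrArg Subtype.val hw))) _

open MonoidAlgebra in
/-- A group whose group algebra has a proper two-sided piece killing all the `g C g'` has a faithful irreducible
fixed-point-free representation. -/
theorem exists_rep_of_notMem {G : Type*} [Group G] [Finite G] {K : Type*} [Field K] [CharZero K]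
    (h1 : (1 : MonoidAlgebra K G) ∉ Submodule.span K {x | ∃ g c g' : G, c ≠ 1 ∧ x = FpfLift.T K g c g'}) :
    ∃ (n : ℕ) (ρ : G →* GL (Fin n) K), 0 < n ∧ Function.Injective ρ ∧
      (∀ W : Submodule K (Fin n → K),
        (∀ g : G, ∀ w ∈ W, ((ρ g : GL (Fin n) K) : Matrix (Fin n) (Fin n) K).mulVec w ∈ W) → W = ⊥ ∨ W = ⊤) ∧
      ∀ g : G, g ≠ 1 → ∀ v : Fin n → K, ((ρ g : GL (Fin n) K) : Matrix (Fin n) (Fin n) K).mulVec v = v → v = 0 := by
  classical
  haveI := Fintype.ofFinite G
  set U := Submodule.span K {x | ∃ g c g' : G, c ≠ 1 ∧ x = FpfLift.T K g c g'} with hU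
  have hUl : ∀ (a : G) (x : MonoidAlgebra K G), x ∈ U → single a (1 : K) * x ∈ U := by
    intro a x hx
    induction hx using Submodule.span_induction with
    | mem x hx =>
      obtain ⟨g, c, g', hc, rfl⟩ := hx
      exact Submodule.subset_span ⟨a * g, c, g', hc, FpfLift.single_mul_T a g c g'⟩
    | zero => simp
    | add x y _ _ ihx ihy => rw [mul_add]; exact U.add_mem ihx ihy
    | smul r x _ ih => rw [mul_smul_comm]; exact U.smul_mem r ih
  have hUr : ∀ (g c g' : G), c ≠ 1 → ∀ x, FpfLift.T K g c g' * x ∈ U := by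
    intro g c g' hc x
    induction x using MonoidAlgebra.induction_on with
    | of m => rw [MonoidAlgebra.of_apply, FpfLift.T_mul_single]; exact Submodule.subset_span ⟨_, c, _, hc, rfl⟩
    | add a b iha ihb => rw [mul_add]; exact U.add_mem iha ihb
    | smul t a iha => rw [mul_smul_comm]; exact U.smul_mem t iha
  haveI : Module.Finite K (MonoidAlgebra K G) :=
    Module.Finite.equiv (MonoidAlgebra.coeffLinearEquiv K : MonoidAlgebra K G ≃ₗ[K] G →₀ K).symm
  let Q := MonoidAlgebra K G ⧸ U
  let L : G →* (Q →ₗ[K] Q) :=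
    { toFun := fun a => U.mapQ U (LinearMap.mulLeft K (single a 1)) (fun x hx => hUl a x hx)
      map_one' := by
        refine LinearMap.ext fun q => ?_
        obtain ⟨x, rfl⟩ := Submodule.Quotient.mk_surjective U q
        show Submodule.Quotient.mk (single (1 : G) (1 : K) * x) = Submodule.Quotient.mk x
        rw [← MonoidAlgebra.one_def, one_mul]
      map_mul' := fun a b => by
        refine LinearMap.ext fun q => ?_
        obtain ⟨x, rfl⟩ := Submodule.Quotient.mk_surjective U q
        show Submodule.Quotient.mk (single (a * b) (1 : K) * x)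
          = Submodule.Quotient.mk (single a (1 : K) * (single b (1 : K) * x))
        rw [← mul_assoc, single_mul_single, one_mul] }
  have hL : ∀ (a : G) (x : MonoidAlgebra K G), L a (Submodule.Quotient.mk x) = Submodule.Quotient.mk (single a (1 : K) * x) :=
    fun a x => rfl
  have hQne : (⊤ : Submodule K Q) ≠ ⊥ := by
    intro h
    apply h1
    rw [← Submodule.Quotient.mk_eq_zero U]
    exact (Submodule.mem_bot K).1 (h ▸ Submodule.mem_top)
  -- a minimal invariant subspace
  let S : Set (Submodule K Q) := {W | W ≠ ⊥ ∧ ∀ a, ∀ w ∈ W, L a w ∈ W}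
  obtain ⟨W, ⟨hW0, hWinv⟩, hWmin⟩ := wellFounded_lt.has_min S ⟨⊤, hQne, fun _ _ _ => Submodule.mem_top⟩
  let σ : G →* (W →ₗ[K] W) :=
    { toFun := fun a => (L a).restrict (hWinv a)
      map_one' := LinearMap.ext fun w => Subtype.ext (by show L 1 (w : Q) = w; rw [map_one]; rfl)
      map_mul' := fun a b => LinearMap.ext fun w => Subtype.ext (by
        show L (a * b) (w : Q) = L a (L b w); rw [map_mul]; rfl) }
  have hσfpf : ∀ g : G, g ≠ 1 → ∀ w : W, σ g w = w → w = 0 := by
    intro g hg w hw
    obtain ⟨x, hx⟩ := Submodule.Quotient.mk_surjective U (w : Q)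
    have hfix : ∀ i : ℕ, L (g ^ i) (w : Q) = w := by
      intro i
      induction i with
      | zero => rw [pow_zero, map_one]; rfl
      | succ i ih =>
        rw [pow_succ, map_mul]
        show L (g ^ i) (L g (w : Q)) = w
        rw [show L g (w : Q) = w from congrArg Subtype.val hw, ih]
    have h0 : ∑ i ∈ Finset.range (orderOf g), L (g ^ i) (w : Q) = 0 := by
      rw [← hx]
      simp only [hL]
      show ∑ i ∈ Finset.range (orderOf g), U.mkQ (single (g ^ i) (1 : K) * x) = 0
      rw [← map_sum,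
        Submodule.mkQ_apply, Submodule.Quotient.mk_eq_zero, ← Finset.sum_mul]
      have : (∑ i ∈ Finset.range (orderOf g), single (g ^ i) (1 : K)) = FpfLift.T K 1 g 1 := by simp [FpfLift.T]
      rw [this]; exact hUr 1 g 1 hg x
    rw [Finset.sum_congr rfl (fun i _ => hfix i), Finset.sum_const, Finset.card_range,
      ← Nat.cast_smul_eq_nsmul K, smul_eq_zero] at h0
    rcases h0 with h | h
    · exact absurd h (Nat.cast_ne_zero.2 (orderOf_pos g).ne')
    · exact Subtype.ext h
  have hW0' : Nontrivial W := Submodule.nontrivial_iff_ne_bot.2 hW0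
  let b := Module.finBasis K W
  let τ : G →* Matrix (Fin (Module.finrank K W)) (Fin (Module.finrank K W)) K :=
    ((LinearMap.toMatrixAlgEquiv b).toAlgHom.toMonoidHom).comp σ
  have hτ : ∀ g v, (τ g).mulVec v = b.equivFun (σ g (b.equivFun.symm v)) := by
    intro g v
    have h := LinearMap.toMatrix_mulVec_repr b b (σ g) (b.equivFun.symm v)
    rw [show ⇑(b.repr (b.equivFun.symm v)) = v from b.equivFun.apply_symm_apply v] at h
    exact h
  refine ⟨Module.finrank K W, τ.toHomUnits, Module.finrank_pos, ?_, ?_, ?_⟩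
  · rw [injective_iff_map_eq_one]
    intro g hg
    by_contra hne
    obtain ⟨w, hw⟩ := exists_ne (0 : W)
    refine hw (hσfpf g hne w ?_)
    have h2 := hτ g (b.equivFun w)
    rw [show τ g = 1 from congrArg Units.val hg, Matrix.one_mulVec, LinearEquiv.symm_apply_apply] at h2
    exact (b.equivFun.injective h2).symm
  · intro X hX
    let Y : Submodule K Q := (X.map b.equivFun.symm.toLinearMap).map W.subtype
    have hYinv : ∀ a, ∀ w ∈ Y, L a w ∈ Y := by
      rintro a _ ⟨w, ⟨v, hv, rfl⟩, rfl⟩
      refine ⟨σ a (b.equivFun.symm v), ⟨(τ a).mulVec v, hX a v hv, ?_⟩, rfl⟩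
      rw [hτ]; exact b.equivFun.symm_apply_apply _
    by_cases hY : Y = ⊥
    · left
      rw [eq_bot_iff]
      intro v hv
      have h0 : ((b.equivFun.symm v : W) : Q) ∈ Y := ⟨_, ⟨v, hv, rfl⟩, rfl⟩
      rw [hY, Submodule.mem_bot] at h0
      rw [Submodule.mem_bot]
      exact b.equivFun.symm.map_eq_zero_iff.1 (Subtype.ext h0)
    · right
      have hYW : Y = W := by
        refine (Submodule.map_subtype_le W _).antisymm ?_
        by_contra hlt
        exact hWmin Y ⟨hY, hYinv⟩ (lt_of_le_not_ge (Submodule.map_subtype_le W _) hlt)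
      rw [eq_top_iff]
      intro v _
      have hm : (b.equivFun.symm v : Q) ∈ Y := by rw [hYW]; exact (b.equivFun.symm v).2
      obtain ⟨w, ⟨v', hv', rfl⟩, hw⟩ := hm
      rwa [← b.equivFun.symm.injective (W.injective_subtype hw)]
  · intro g hg v hv
    have hv' : (τ g).mulVec v = v := hv
    rw [hτ] at hv'
    have h2 := hσfpf g hg (b.equivFun.symm v) (b.equivFun.injective (by rw [hv', LinearEquiv.apply_symm_apply]))
    exact b.equivFun.symm.map_eq_zero_iff.1 h2

/-- Let G be a finite group that occurs as a Frobenius complement. Then G has a faithful irreducible representation over an algebraic closure of the rationals in which no non-identity element of G has 1 as an eigenvalue: there are n ≥ 1 and an injective homomorphism ρ from G to GL(n) over that field, with no invariant subspace other than 0 and the whole space, such that for g ≠ 1 the only vector fixed by ρ(g) is 0. -/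
theorem result {G : Type*} [Group G] [Finite G]
    (hFC : ∃ (L : Type) (_ : Group L) (_ : Finite L) (H : Subgroup L), Cfsg.IsFrobeniusComplement H ∧ Nonempty (G ≃* H)) :
    ∃ (n : ℕ) (ρ : G →* GL (Fin n) (AlgebraicClosure ℚ)), 0 < n ∧ Function.Injective ρ ∧
      (∀ W : Submodule (AlgebraicClosure ℚ) (Fin n → AlgebraicClosure ℚ),
        (∀ g : G, ∀ w ∈ W, ((ρ g : GL (Fin n) (AlgebraicClosure ℚ)) : Matrix (Fin n) (Fin n) (AlgebraicClosure ℚ)).mulVec w ∈ W) → W = ⊥ ∨ W = ⊤) ∧
      ∀ g : G, g ≠ 1 → ∀ v : Fin n → AlgebraicClosure ℚ,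
        ((ρ g : GL (Fin n) (AlgebraicClosure ℚ)) : Matrix (Fin n) (Fin n) (AlgebraicClosure ℚ)).mulVec v = v → v = 0 := by
  obtain ⟨L, iL, iLf, H, hH, ⟨eG⟩⟩ := hFC
  haveI := Fintype.ofFinite L
  obtain ⟨N, -, hNn, hc⟩ := CharInduced.frobenius_kernel_subgroup hH
  haveI := hNn
  have hNne : N ≠ ⊥ := by
    intro h
    apply hH.2.1
    have := hc.sup_eq_top
    rwa [h, bot_sup_eq] at this
  have hfpf : ∀ h ∈ H, h ≠ 1 → N ⊓ Subgroup.centralizer ({h} : Set L) = ⊥ :=
    (FrobeniusBasic.isFrobeniusComplement_iff_fpf hc hNne hH.1).1 hH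
  obtain ⟨V, hVN, hV, hVc, hHV⟩ := FrobeniusFPF.exists_abelian_invariant hc hNne hfpf
  obtain ⟨p, hp, hpV⟩ := Nat.exists_prime_and_dvd (n := Nat.card V) (fun e => hV (Subgroup.card_eq_one.1 e))
  haveI := Fact.mk hp
  have hcop : ¬ p ∣ Nat.card G := by
    intro hpG
    rw [Nat.card_congr eG.toEquiv] at hpG
    have h1 := FrobeniusFPF.coprime_of_fpf hc hNne hH.1 hfpf
    exact hp.ne_one (Nat.eq_one_of_dvd_coprimes h1 hpG (hpV.trans (Subgroup.card_dvd_of_le hVN)))
  haveI := hVc
  letI := FrobeniusFPF.conjAction H V hHV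
  have hF : FrobeniusFPF.IsFPF H V := FrobeniusFPF.isFPF_conjAction hHV fun a ha ha1 =>
    le_bot_iff.1 (le_trans (inf_le_inf_right _ hVN) (hfpf a ha ha1).le)
  exact exists_rep_of_notMem (one_notMem_of_action (p := p) (A := Additive V)
    (fun g => MonoidHom.toAdditive (MulDistribMulAction.toMonoidHom V (eG g)))
    (fun v => congrArg Additive.ofMul (show (eG 1 : H) • v.toMul = v.toMul by rw [map_one, one_smul]))
    (fun a b v => congrArg Additive.ofMul
      (show (eG (a * b) : H) • v.toMul = eG a • eG b • v.toMul by rw [map_mul, mul_smul]))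
    hcop (by rw [Nat.card_congr Additive.toMul]; exact hpV)
    (fun c hc v hv => congrArg Additive.ofMul
      (hF (eG c) (fun h => hc ((map_eq_one_iff eG eG.injective).1 h)) v.toMul (congrArg Additive.toMul hv))))

end Cfsg.Agent.S3357
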