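import Mathlib
import Cfsg.Statements.S4118
import Cfsg.Agent.Lib.HallCore
import Cfsg.Agent.Lib.CoprimeAction
import Cfsg.Agent.Lib.CoprimeSZ
import Cfsg.Agent.Lib.CharInducedBurnside
import Cfsg.Agent.Lib.CNGlobal
import Cfsg.Agent.Lib.FrobeniusFPF
import Cfsg.Agent.Lib.PGroupsCyclic
import Cfsg.Agent.S0690

set_option autoImplicit false
open Cfsg

namespace Cfsg.Agent.S4118

/-- A group with a cyclic subgroup of index at most two. -/
def CycTwo (T : Type*) [Group T] : Prop := ∃ A : Subgroup T, IsCyclic A ∧ A.index ∣ 2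

theorem cycTwo_of_injective {B T : Type*} [Group B] [Group T] (f : B →* T)
    (hf : Function.Injective f) (h : CycTwo T) : CycTwo B := by
  obtain ⟨A, hA, hAi⟩ := h
  refine ⟨A.comap f, ?_, ?_⟩
  · exact isCyclic_of_injective ((f.domRestrict _).codRestrict A fun x => x.2) fun x y e => by
      have := congrArg Subtype.val e
      exact Subtype.ext (hf this)
  · rw [Subgroup.index_comap]
    rcases (Nat.dvd_prime Nat.prime_two).1 hAi with h1 | h2
    · rw [Subgroup.index_eq_one.1 h1, Subgroup.relIndex_top_left]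
      exact one_dvd _
    · have : A.Normal := Subgroup.normal_of_index_eq_two h2
      exact (Subgroup.relIndex_dvd_index_of_normal A f.range).trans hAi

theorem cycTwo_of_surjective {T U : Type*} [Group T] [Group U] (f : T →* U)
    (hf : Function.Surjective f) (h : CycTwo T) : CycTwo U := by
  obtain ⟨A, hA, hAi⟩ := h
  refine ⟨A.map f, isCyclic_of_surjective (f.subgroupMap A) (f.subgroupMap_surjective A), ?_⟩
  exact (Subgroup.index_map_dvd A hf).trans hAi

theorem solvable_perm_small {α : Type*} [Finite α] (h : Nat.card α ≤ 3) :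
    Group.IsSolvable (Equiv.Perm α) := by
  rw [← Nat.card_congr (Equiv.refl α)] at h
  have hc : Nat.card (Equiv.Perm α) = (Nat.card α).factorial := Nat.card_perm
  interval_cases hn : Nat.card α
  all_goals simp [Nat.factorial] at hc
  · exact CharInduced.solvable_of_card_two_primes 2 3 0 0 Nat.prime_two Nat.prime_three (by rw [hc]; rfl)
  · exact CharInduced.solvable_of_card_two_primes 2 3 0 0 Nat.prime_two Nat.prime_three (by rw [hc]; rfl)
  · exact CharInduced.solvable_of_card_two_primes 2 3 1 0 Nat.prime_two Nat.prime_three (by rw [hc]; rfl)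
  · exact CharInduced.solvable_of_card_two_primes 2 3 1 1 Nat.prime_two Nat.prime_three (by rw [hc]; rfl)

theorem mulAut_comm_of_isCyclic {A : Type*} [Group A] (hA : IsCyclic A) (f g : MulAut A) :
    f * g = g * f := by
  obtain ⟨m, hm⟩ := MonoidHom.map_cyclic f.toMonoidHom
  obtain ⟨n, hn⟩ := MonoidHom.map_cyclic g.toMonoidHom
  refine MulEquiv.ext fun x => ?_
  have hm' : ∀ y, f y = y ^ m := hm
  have hn' : ∀ y, g y = y ^ n := hn
  rw [MulAut.mul_apply, MulAut.mul_apply, hm', hn', hn', hm', ← zpow_mul, ← zpow_mul, mul_comm]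

theorem solvable_mulAut_of_cycTwo {T : Type*} [Group T] [Finite T] (h : CycTwo T) :
    Group.IsSolvable (MulAut T) := by
  classical
  obtain ⟨A, hA, hAi⟩ := h
  obtain ⟨u, hu⟩ := hA.exists_generator
  obtain ⟨v, hv⟩ : ∃ v : T, ∀ t : T, t ∈ A ∨ v⁻¹ * t ∈ A := by
    rcases (Nat.dvd_prime Nat.prime_two).1 hAi with h1 | h2
    · exact ⟨1, fun t => Or.inl (by rw [Subgroup.index_eq_one.1 h1]; exact Subgroup.mem_top t)⟩
    · obtain ⟨v, hv⟩ : ∃ v, v ∉ A := by
        by_contra! hall
        rw [(Subgroup.eq_top_iff' A).2 hall, Subgroup.index_top] at h2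
        omega
      refine ⟨v, fun t => ?_⟩
      by_cases ht : t ∈ A
      · exact Or.inl ht
      · refine Or.inr ((Subgroup.mul_mem_iff_of_index_two h2).2 (iff_of_false ?_ ht))
        exact fun hc => hv (inv_mem_iff.1 hc)
  -- the orbit of `A`
  let _ : MulAction (MulAut T) (Subgroup T) :=
    { smul := fun f M => M.map f.toMonoidHom
      one_smul := fun M => Subgroup.map_id M
      mul_smul := fun f g M => (Subgroup.map_map M f.toMonoidHom g.toMonoidHom).symm }
  have hsmul : ∀ (f : MulAut T) (M : Subgroup T), f • M = M.map f.toMonoidHom := fun _ _ => rfl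
  set Ω := MulAction.orbit (MulAut T) A with hΩ
  have hΩi : ∀ M ∈ Ω, M.index = A.index := by
    rintro M ⟨f, rfl⟩
    exact Subgroup.index_map_of_bijective (f := f.toMonoidHom) f.bijective A
  have hcard : Nat.card Ω ≤ 3 := by
    rcases (Nat.dvd_prime Nat.prime_two).1 hAi with h1 | h2
    · have : Subsingleton Ω := ⟨fun M M' => Subtype.ext (by
        rw [Subgroup.index_eq_one.1 ((hΩi M M.2).trans h1),
          Subgroup.index_eq_one.1 ((hΩi M' M'.2).trans h1)])⟩
      have := Finite.card_le_one_iff_subsingleton.2 this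
      omega
    · let c : Ω → {b : Bool × Bool // b ≠ (true, true)} := fun M =>
        ⟨(decide ((u : T) ∈ M.1), decide (v ∈ M.1)), fun e => by
          simp only [Prod.mk.injEq, decide_eq_true_eq] at e
          have htop : M.1 = ⊤ := by
            rw [eq_top_iff]
            intro t _
            rcases hv t with ht | ht
            · obtain ⟨k, hk⟩ := Subgroup.mem_zpowers_iff.1 (hu ⟨t, ht⟩)
              have := congrArg Subtype.val hk
              simp only [SubgroupClass.coe_zpow] at this
              exact this ▸ M.1.zpow_mem e.1 k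
            · obtain ⟨k, hk⟩ := Subgroup.mem_zpowers_iff.1 (hu ⟨_, ht⟩)
              have := congrArg Subtype.val hk
              simp only [SubgroupClass.coe_zpow] at this
              have hm := M.1.mul_mem e.2 (M.1.zpow_mem e.1 k)
              rwa [this, mul_inv_cancel_left] at hm
          have := hΩi M M.2
          rw [htop, Subgroup.index_top] at this
          omega⟩
      have hc : Function.Injective c := by
        intro M M' e
        simp only [c, Subtype.mk.injEq, Prod.mk.injEq, decide_eq_decide] at e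
        have hM := (hΩi M M.2).trans h2
        have hM' := (hΩi M' M'.2).trans h2
        have := Subgroup.normal_of_index_eq_two hM
        apply Subtype.ext
        ext t
        have hz : ∀ (N : Subgroup T) (_ : N.index = 2) (k : ℤ),
            ((u : T) ^ k ∈ N ↔ (Even k ∨ (u : T) ∈ N)) := by
          intro N hN k
          by_cases hk : Even k
          · obtain ⟨j, rfl⟩ := hk
            refine iff_of_true ?_ (Or.inl ⟨j, rfl⟩)
            rw [zpow_add]
            exact (Subgroup.mul_mem_iff_of_index_two hN).2 Iff.rfl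
          · obtain ⟨j, rfl⟩ := Int.not_even_iff_odd.1 hk
            rw [zpow_add_one, two_mul, zpow_add, Subgroup.mul_mem_iff_of_index_two hN,
              iff_true_left ((Subgroup.mul_mem_iff_of_index_two hN).2 Iff.rfl)]
            exact ⟨Or.inr, fun h => h.resolve_left (by rwa [two_mul] at hk)⟩
        rcases hv t with ht | ht
        · obtain ⟨k, hk⟩ := Subgroup.mem_zpowers_iff.1 (hu ⟨t, ht⟩)
          have := congrArg Subtype.val hk
          simp only [SubgroupClass.coe_zpow] at this
          rw [← this, hz _ hM, hz _ hM', e.1]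
        · obtain ⟨k, hk⟩ := Subgroup.mem_zpowers_iff.1 (hu ⟨_, ht⟩)
          have := congrArg Subtype.val hk
          simp only [SubgroupClass.coe_zpow] at this
          rw [show t = v * (u : T) ^ k by rw [this, mul_inv_cancel_left],
            Subgroup.mul_mem_iff_of_index_two hM, Subgroup.mul_mem_iff_of_index_two hM',
            hz _ hM, hz _ hM', e.1, e.2]
      refine (Nat.card_le_card_of_injective c hc).trans ?_
      rw [Nat.card_eq_fintype_card]
      decide
  have : Group.IsSolvable (Equiv.Perm Ω) := solvable_perm_small hcard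
  set ρ := MulAction.toPermHom (MulAut T) Ω with hρ
  have hstab : ∀ f : ρ.ker, ∀ t ∈ A, (f.1 : MulAut T) t ∈ A := by
    intro f t ht
    have h := Equiv.ext_iff.1 f.2 ⟨A, MulAction.mem_orbit_self A⟩
    have h' : f.1 • A = A := congrArg Subtype.val h
    rw [hsmul] at h'
    exact h' ▸ ⟨t, ht, rfl⟩
  let r : ρ.ker →* MulAut A :=
    { toFun := fun f =>
        { toFun := fun a => ⟨f.1 a, hstab f a a.2⟩
          invFun := fun a => ⟨(f⁻¹).1 a, hstab f⁻¹ a a.2⟩
          left_inv := fun a => Subtype.ext (f.1.symm_apply_apply a)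
          right_inv := fun a => Subtype.ext (f.1.apply_symm_apply a)
          map_mul' := fun a b => Subtype.ext (map_mul f.1 (a : T) b) }
      map_one' := MulEquiv.ext fun a => rfl
      map_mul' := fun f g => MulEquiv.ext fun a => rfl }
  have : Group.IsSolvable (MulAut A) := Group.isSolvable_of_comm (mulAut_comm_of_isCyclic hA)
  have : Group.IsSolvable r.ker := Group.isSolvable_of_comm fun f g => by
    have hfix : ∀ (e : r.ker) (a : T), a ∈ A → (e.1.1 : MulAut T) a = a := fun e a ha =>
      congrArg Subtype.val (MulEquiv.ext_iff.1 e.2 ⟨a, ha⟩)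
    have hv' : ∀ e : r.ker, v⁻¹ * (e.1.1 : MulAut T) v ∈ A := by
      intro e
      rcases hv ((e.1.1 : MulAut T) v) with h | h
      · have h' := hstab e.1⁻¹ _ h
        rw [show ((e.1⁻¹).1 : MulAut T) ((e.1.1 : MulAut T) v) = v from e.1.1.symm_apply_apply v] at h'
        exact A.mul_mem (A.inv_mem h') h
      · exact h
    have hcomm : ∀ a b : T, a ∈ A → b ∈ A → a * b = b * a := fun a b ha hb =>
      congrArg Subtype.val (mul_comm' (⟨a, ha⟩ : A) ⟨b, hb⟩)
    refine Subtype.ext (Subtype.ext (MulEquiv.ext fun t => ?_))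
    show f.1.1 (g.1.1 t) = g.1.1 (f.1.1 t)
    have hvv : f.1.1 (g.1.1 v) = g.1.1 (f.1.1 v) := by
      obtain ⟨a, ha, ha'⟩ : ∃ a ∈ A, f.1.1 v = v * a := ⟨_, hv' f, by group⟩
      obtain ⟨b, hb, hb'⟩ : ∃ b ∈ A, g.1.1 v = v * b := ⟨_, hv' g, by group⟩
      rw [hb', ha', map_mul, map_mul, hfix f b hb, hfix g a ha, ha', hb', mul_assoc, mul_assoc,
        hcomm a b ha hb]
    rcases hv t with ht | ht
    · rw [hfix g t ht, hfix f t ht, hfix g t ht]
    · have e : t = v * (v⁻¹ * t) := by group
      generalize hs : v⁻¹ * t = s at ht e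
      rw [e, map_mul, map_mul, map_mul, map_mul, hfix g _ ht, hfix f _ ht, hfix g _ ht, hvv]
  have : Group.IsSolvable ρ.ker := Group.isSolvable_of_ker_le_range r.ker.subtype r (by simp)
  exact Group.isSolvable_of_ker_le_range ρ.ker.subtype ρ (by simp)

/-- Every Sylow subgroup has a cyclic subgroup of index at most two. -/
def SylTwo (H : Type*) [Group H] : Prop :=
  ∀ p : ℕ, p.Prime → ∀ S : Sylow p H, CycTwo (S : Subgroup H)

theorem solvable_mulAut_aux.{u} (n : ℕ) : ∀ (H : Type u) [Group H] [Finite H], Nat.card H ≤ n →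
    Group.IsSolvable H → SylTwo H → Group.IsSolvable (MulAut H) := by
  induction n with
  | zero => intro H _ _ h; exact absurd h (by simp [Nat.card_pos.ne'])
  | succ n ih =>
    intro H _ _ hn hs hP
    rcases subsingleton_or_nontrivial H with hsub | hnt
    · exact Group.isSolvable_of_comm fun f g => MulEquiv.ext fun x => Subsingleton.elim _ _
    obtain ⟨p, hp, hK⟩ := CNGlobal.exists_pCore_ne_bot (M := H)
    have := Fact.mk hp
    set K := Cfsg.pCore p H with hKdef
    have hchar : K.Characteristic := HallCore.pCore_characteristic p H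
    have hKn : K.Normal := inferInstance
    have hKT : CycTwo K := by
      obtain ⟨S, hS⟩ := (HallCore.isPGroup_pCore p H).exists_le_sylow
      exact cycTwo_of_injective (Subgroup.inclusion hS) (Subgroup.inclusion_injective hS) (hP p hp S)
    have hq : SylTwo (H ⧸ K) := by
      intro r hr S'
      have := Fact.mk hr
      obtain ⟨S₀⟩ : Nonempty (Sylow r H) := inferInstance
      obtain ⟨g, hg⟩ := MulAction.exists_smul_eq (H ⧸ K) (S₀.mapSurjective (QuotientGroup.mk'_surjective K)) S'
      have h1 : CycTwo ((S₀.mapSurjective (QuotientGroup.mk'_surjective K) : Sylow r (H ⧸ K)) : Subgroup (H ⧸ K)) :=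
        cycTwo_of_surjective ((QuotientGroup.mk' K).subgroupMap S₀) ((QuotientGroup.mk' K).subgroupMap_surjective _) (hP r hr S₀)
      rw [← hg]
      exact cycTwo_of_injective ((Sylow.equiv _ _).symm.toMonoidHom) (MulEquiv.injective _) h1
    have hlt : Nat.card (H ⧸ K) ≤ n := by
      have h1 := Subgroup.card_eq_card_quotient_mul_card_subgroup K
      have h2 : 1 < Nat.card K := K.one_lt_card_iff_ne_bot.2 hK
      have h3 : 0 < Nat.card (H ⧸ K) := Nat.card_pos
      nlinarith
    have : Group.IsSolvable (MulAut (H ⧸ K)) := ih (H ⧸ K) hlt inferInstance hq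
    have : Group.IsSolvable (MulAut K) := solvable_mulAut_of_cycTwo hKT
    have hmap : ∀ f : MulAut H, K.map f.toMonoidHom = K := fun f =>
      Subgroup.characteristic_iff_map_eq.1 hchar f
    have hmem : ∀ (f : MulAut H) (k : H), k ∈ K → f k ∈ K := fun f k hk => hmap f ▸ ⟨k, hk, rfl⟩
    let r₁ : MulAut H →* MulAut K :=
      { toFun := fun f =>
          { toFun := fun a => ⟨f a, hmem f a a.2⟩
            invFun := fun a => ⟨f⁻¹ a, hmem f⁻¹ a a.2⟩
            left_inv := fun a => Subtype.ext (f.symm_apply_apply a)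
            right_inv := fun a => Subtype.ext (f.apply_symm_apply a)
            map_mul' := fun a b => Subtype.ext (map_mul f (a : H) b) }
        map_one' := MulEquiv.ext fun a => rfl
        map_mul' := fun f g => MulEquiv.ext fun a => rfl }
    let r₂ : MulAut H →* MulAut (H ⧸ K) :=
      { toFun := fun f => QuotientGroup.congr K K f (hmap f)
        map_one' := MulEquiv.ext fun x => by induction x using QuotientGroup.induction_on; rfl
        map_mul' := fun f g => MulEquiv.ext fun x => by induction x using QuotientGroup.induction_on; rfl }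
    let r := r₁.prod r₂
    have : Group.IsSolvable r.ker := Group.isSolvable_of_comm fun f g => by
      have hfix : ∀ (e : r.ker) (k : H), k ∈ K → (e.1 : MulAut H) k = k := fun e k hk =>
        congrArg Subtype.val (MulEquiv.ext_iff.1 (congrArg Prod.fst (e.2 : r e.1 = 1)) ⟨k, hk⟩)
      have hmod : ∀ (e : r.ker) (h : H), h⁻¹ * (e.1 : MulAut H) h ∈ K := fun e h => by
        have h1 := MulEquiv.ext_iff.1 (congrArg Prod.snd (e.2 : r e.1 = 1)) (h : H ⧸ K)
        exact QuotientGroup.eq.1 (show ((h : H) : H ⧸ K) = ((e.1 h : H) : H ⧸ K) from h1.symm)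
      have hcen : ∀ (e : r.ker) (h : H), ∀ k ∈ K, k * (h⁻¹ * (e.1 : MulAut H) h) = (h⁻¹ * (e.1 : MulAut H) h) * k := by
        intro e h k hk
        have h1 := hfix e (h * k * h⁻¹) (hKn.conj_mem k hk h)
        rw [map_mul, map_mul, map_inv, hfix e k hk] at h1
        calc k * (h⁻¹ * e.1 h) = h⁻¹ * (h * k * h⁻¹) * e.1 h := by group
          _ = h⁻¹ * (e.1 h * k * (e.1 h)⁻¹) * e.1 h := by rw [h1]
          _ = _ := by group
      refine Subtype.ext (MulEquiv.ext fun h => ?_)
      show f.1 (g.1 h) = g.1 (f.1 h)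
      obtain ⟨a, ha, ha', hac⟩ : ∃ a ∈ K, f.1 h = h * a ∧ ∀ k ∈ K, k * a = a * k :=
        ⟨_, hmod f h, by group, hcen f h⟩
      obtain ⟨b, hb, hb'⟩ : ∃ b ∈ K, g.1 h = h * b := ⟨_, hmod g h, by group⟩
      rw [hb', ha', map_mul, map_mul, hfix f b hb, hfix g a ha, ha', hb', mul_assoc, mul_assoc,
        hac b hb]
    exact Group.isSolvable_of_ker_le_range r.ker.subtype r (by simp)

theorem not_solvable_SL25 : ¬ Group.IsSolvable (Matrix.SpecialLinearGroup (Fin 2) (ZMod 5)) := by
  intro h
  have hne : (2 : ZMod 5) ≠ 0 := by decide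
  have hsq : (2 : ZMod 5) ^ 2 ≠ 1 := by decide
  have : Fact (Nat.Prime 5) := ⟨by norm_num⟩
  have : Nontrivial (Matrix.SpecialLinearGroup (Fin 2) (ZMod 5)) :=
    ⟨⟨⟨!![1, 1; 0, 1], by rw [Matrix.det_fin_two_of]; norm_num⟩, 1, fun e => by
      have h01 := congrArg (fun g : Matrix.SpecialLinearGroup (Fin 2) (ZMod 5) =>
        (g : Matrix (Fin 2) (Fin 2) (ZMod 5)) 0 1) e
      simp at h01⟩⟩
  exact (Group.IsSolvable.commutator_lt_top_of_nontrivial _).ne
    (Matrix.SL2.commutator_eq_top hne hsq)

theorem cycTwo_quaternion (n : ℕ) [NeZero n] : CycTwo (QuaternionGroup n) := by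
  refine ⟨Subgroup.zpowers (QuaternionGroup.a 1), inferInstance, ?_⟩
  have h := (Subgroup.zpowers (QuaternionGroup.a (1 : ZMod (2 * n)))).card_mul_index
  rw [Nat.card_zpowers, QuaternionGroup.orderOf_a_one, Nat.card_eq_fintype_card,
    QuaternionGroup.card] at h
  have hn : 0 < 2 * n := Nat.mul_pos (by norm_num) (Nat.pos_of_ne_zero (NeZero.ne n))
  exact dvd_of_eq (Nat.eq_of_mul_eq_mul_left hn (by rw [h]; ring))

/-- A `p`-group acting fixed-point-freely on a nontrivial finite `q`-group has a cyclic subgroup of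
index at most two. -/
theorem cycTwo_of_fpf {T E : Type*} [Group T] [Finite T] [Group E] [Finite E] [Nontrivial E]
    {p q : ℕ} [Fact p.Prime] [Fact q.Prime] (hT : IsPGroup p T) (hE : IsPGroup q E)
    (φ : T →* MulAut E) (hfpf : ∀ t : T, t ≠ 1 → ∀ e : E, φ t e = e → e = 1) : CycTwo T := by
  have : Nontrivial (Subgroup.center E) := hE.center_nontrivial
  let act : MulDistribMulAction T (Subgroup.center E) :=
    { smul := fun t z => Subgroup.centerCongr (φ t) z
      one_smul := fun z => Subtype.ext (by show φ 1 (z : E) = z; rw [map_one]; rfl)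
      mul_smul := fun s t z => Subtype.ext (by
        show φ (s * t) (z : E) = φ s (φ t (z : E))
        rw [map_mul]; rfl)
      smul_mul := fun t a b => map_mul (Subgroup.centerCongr (φ t)) a b
      smul_one := fun t => map_one (Subgroup.centerCongr (φ t)) }
  have hcyc : ∀ M : Subgroup T, IsMulCommutative M → IsCyclic M := by
    intro M hM
    let _ : MulDistribMulAction M (Subgroup.center E) :=
      MulDistribMulAction.compHom _ M.subtype
    let _ : CommGroup (Subgroup.center E) := { (inferInstance : Group (Subgroup.center E)) with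
      mul_comm := fun a b => Subtype.ext (Subgroup.mem_center_iff.1 b.2 a) }
    refine FrobeniusFPF.isCyclic_of_comm (W := Subgroup.center E) ?_ (fun a b => mul_comm' a b)
    intro m hm z hz
    exact Subtype.ext (hfpf m (fun h => hm (Subtype.ext h)) z (congrArg Subtype.val hz))
  rcases subsingleton_or_nontrivial T with hsub | hnt
  · exact ⟨⊤, inferInstance, by rw [Subgroup.index_top]; exact one_dvd _⟩
  have := hT.center_nontrivial
  obtain ⟨n, hn0, hn⟩ := (hT.to_subgroup (Subgroup.center T)).nontrivial_iff_card.1 inferInstance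
  obtain ⟨z, hz⟩ := exists_prime_orderOf_dvd_card' (G := Subgroup.center T) p
    (hn ▸ dvd_pow_self p hn0.ne')
  have hzT : orderOf (z : T) = p := by rw [Subgroup.orderOf_coe, hz]
  have hkey : ∀ A : Subgroup T, Nat.card A = p → A = Subgroup.zpowers (z : T) := by
    intro A hA
    have hAc : IsCyclic A := isCyclic_of_prime_card hA
    have hM : IsMulCommutative (A ⊔ Subgroup.zpowers (z : T) : Subgroup T) := by
      have hle : A ⊔ Subgroup.zpowers (z : T) ≤
          Subgroup.centralizer ((A ⊔ Subgroup.zpowers (z : T) : Subgroup T) : Set T) := by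
        have hz' : ∀ t : T, t * (z : T) = (z : T) * t := Subgroup.mem_center_iff.1 z.2
        have hA' : A ≤ Subgroup.centralizer (A : Set T) := fun a ha b hb =>
          congrArg Subtype.val (mul_comm' (⟨b, hb⟩ : A) ⟨a, ha⟩)
        rw [sup_le_iff, Subgroup.zpowers_le]
        refine ⟨Subgroup.le_centralizer_iff.1 (sup_le hA' (Subgroup.zpowers_le.2 ?_)), ?_⟩
        · exact fun b _ => hz' b
        · exact fun b _ => hz' b
      exact IsMulCommutative.of_comm fun a b => Subtype.ext (hle b.2 a a.2)
    exact PGroupsCyclic.eq_of_card_eq_of_isCyclic (hcyc _ hM) le_sup_left le_sup_right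
      (by rw [hA, Nat.card_zpowers, hzT])
  rcases PGroupsCyclic.isCyclic_or_quaternion hT
    (fun A B hA hB => (hkey A hA).trans (hkey B hB).symm) with h | ⟨-, n, ⟨e⟩⟩
  · exact ⟨⊤, isCyclic_of_surjective (Subgroup.topEquiv.symm : T ≃* _) (MulEquiv.surjective _),
      by rw [Subgroup.index_top]; exact one_dvd _⟩
  · have : NeZero (2 ^ n) := ⟨pow_ne_zero _ two_ne_zero⟩
    exact cycTwo_of_injective e.toMonoidHom e.injective (cycTwo_quaternion _)

/-- A finite group is solvable as soon as it has no nontrivial perfect subgroup. -/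
theorem solvable_of_no_perfect {H : Type*} [Group H] [Finite H]
    (h : ∀ L : Subgroup H, commutator L = ⊤ → L = ⊥) : Group.IsSolvable H := by
  have key : ∀ (m : ℕ) (L : Subgroup H), Nat.card L ≤ m → Group.IsSolvable L := by
    intro m
    induction m with
    | zero => intro L hL; exact absurd hL (by simp [Nat.card_pos.ne'])
    | succ m ih =>
      intro L hL
      by_cases hc : commutator L = ⊤
      · rw [h L hc]; infer_instance
      · have hlt : Nat.card ((commutator L).map L.subtype) < Nat.card L := by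
          rw [Subgroup.card_map_of_injective L.subtype_injective]
          exact lt_of_le_of_ne (Subgroup.card_le_card_group _)
            fun e => hc (Subgroup.eq_top_of_card_eq _ e)
        have := ih ((commutator L).map L.subtype) (by omega)
        have : Group.IsSolvable (commutator L) :=
          Group.isSolvable_of_isSolvable_injective
            (f := (Subgroup.equivMapOfInjective _ L.subtype L.subtype_injective).toMonoidHom)
            (MulEquiv.injective _)
        exact Group.isSolvable_of_ker_le_range (commutator L).subtype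
          (Abelianization.of (G := L)) (by simp [Abelianization.ker_of])
  have : Group.IsSolvable (⊤ : Subgroup H) := key _ ⊤ le_rfl
  exact Group.isSolvable_of_isSolvable_injective (f := (Subgroup.topEquiv (G := H)).symm.toMonoidHom)
    (Subgroup.topEquiv (G := H)).symm.injective

/-- A fixed-point-free action of a complementary group: solvable unless it contains `SL(2,5)`. -/
theorem solvable_and_sylTwo {H E : Type*} [Group H] [Finite H] [Group E] [Finite E] [Nontrivial E]
    {q : ℕ} [Fact q.Prime] (hE : IsPGroup q E) (φ : H →* MulAut E)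
    (hfpf : ∀ h : H, h ≠ 1 → ∀ e : E, φ h e = e → e = 1)
    (hno : ∀ L : Subgroup H, ¬ Nonempty (L ≃* Matrix.SpecialLinearGroup (Fin 2) (ZMod 5))) :
    Group.IsSolvable H ∧ SylTwo H := by
  refine ⟨solvable_of_no_perfect fun L hL => ?_, fun p hp S => ?_⟩
  · by_contra hne
    have hinj : Function.Injective (φ.comp L.subtype) := by
      rw [injective_iff_map_eq_one]
      intro l hl
      by_contra hl1
      obtain ⟨e, he⟩ := exists_ne (1 : E)
      exact he (hfpf l (fun h => hl1 (Subtype.ext h)) e (MulEquiv.ext_iff.1 hl e))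
    have hperf : commutator (φ.comp L.subtype).range = ⊤ := by
      rw [eq_top_iff]
      rintro x -
      obtain ⟨l, rfl⟩ := (φ.comp L.subtype).rangeRestrict_surjective x
      have hm : l ∈ commutator L := hL ▸ Subgroup.mem_top l
      have := Subgroup.mem_map_of_mem (φ.comp L.subtype).rangeRestrict hm
      rw [commutator_def, Subgroup.map_commutator] at this
      rw [commutator_def]
      exact Subgroup.commutator_mono le_top le_top this
    have hne' : (φ.comp L.subtype).range ≠ ⊥ := by
      intro hb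
      obtain ⟨l, hl, hl1⟩ := (Subgroup.nontrivial_iff_exists_ne_one L).1 ((Subgroup.nontrivial_iff_ne_bot L).2 hne)
      have : (φ.comp L.subtype) ⟨l, hl⟩ = 1 :=
        (Subgroup.mem_bot).1 (hb ▸ ⟨_, rfl⟩ : (φ.comp L.subtype) ⟨l, hl⟩ ∈ (⊥ : Subgroup (MulAut E)))
      exact hl1 (congrArg Subtype.val (hinj (this.trans (map_one _).symm)))
    obtain ⟨e⟩ := S0690.result (φ.comp L.subtype).range (by
      rintro f ⟨l, rfl⟩ hf1 e he
      exact hfpf l (fun h => hf1 (by
        rw [show l = 1 from Subtype.ext h, map_one])) e he) hperf hne'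
    exact hno L ⟨(MonoidHom.ofInjective hinj).trans e⟩
  · have := Fact.mk hp
    exact cycTwo_of_fpf S.2 hE (φ.comp (S : Subgroup H).subtype) fun t ht e he =>
      hfpf t (fun h => ht (Subtype.ext h)) e he

section main

variable {G : Type*} [Group G] [Finite G] {H : Subgroup G}

theorem mem_normalizer_of_fix (hTI : Cfsg.IsTISubset (H : Set G)) {g x : G} (hx : x ∈ H)
    (hx1 : x ≠ 1) (hg : g * x * g⁻¹ ∈ H) : g ∈ Subgroup.normalizer (H : Set G) := by
  by_contra h
  exact hx1 (hTI g h x hx hg)

/-- A subgroup of `H` other than `⊥` is normalized only inside `N(H)`. -/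
theorem normalizer_le (hTI : Cfsg.IsTISubset (H : Set G)) {X : Subgroup G} (hX : X ≤ H)
    (hX1 : X ≠ ⊥) : Subgroup.normalizer (X : Set G) ≤ Subgroup.normalizer (H : Set G) := by
  intro g hg
  obtain ⟨x, hx, hx1⟩ := (Subgroup.nontrivial_iff_exists_ne_one X).1 ((Subgroup.nontrivial_iff_ne_bot X).2 hX1)
  exact mem_normalizer_of_fix hTI (hX hx) hx1 (hX ((Subgroup.mem_normalizer_iff.1 hg x).1 hx))

theorem coprime_index (hTI : Cfsg.IsTISubset (H : Set G))
    (hHall : (Nat.card H).Coprime (H.subgroupOf (Subgroup.normalizer (H : Set G))).index) :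
    (Nat.card H).Coprime H.index := by
  refine Nat.coprime_of_dvd fun p hp hpH hpi => ?_
  have := Fact.mk hp
  obtain ⟨S⟩ : Nonempty (Sylow p H) := inferInstance
  set P0 := (S : Subgroup H).map H.subtype with hP0
  obtain ⟨k, hk⟩ := S.2.exists_card_eq
  have hP0card : Nat.card P0 = p ^ k := by
    rw [hP0, Subgroup.card_map_of_injective H.subtype_injective, hk]
  have hP0H : P0 ≤ H := Subgroup.map_subtype_le _
  have hP0ne : P0 ≠ ⊥ := by
    rw [← Subgroup.one_lt_card_iff_ne_bot, hP0, Subgroup.card_map_of_injective H.subtype_injective]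
    exact lt_of_lt_of_le hp.one_lt (Nat.le_of_dvd Nat.card_pos (S.dvd_card_of_dvd_card hpH))
  have hN := normalizer_le hTI hP0H hP0ne
  have hHN : H ≤ Subgroup.normalizer (H : Set G) := Subgroup.le_normalizer
  have hpos : p ^ (k + 1) ∣ Nat.card G := by
    rw [← H.card_mul_index, pow_succ]
    exact Nat.mul_dvd_mul (hk ▸ (S : Subgroup H).card_subgroup_dvd_card) hpi
  have hd := Sylow.prime_dvd_card_quotient_normalizer hpos hP0card
  have h1 : P0.relIndex (Subgroup.normalizer (P0 : Set G)) * (Subgroup.normalizer (P0 : Set G)).relIndex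
      (Subgroup.normalizer (H : Set G)) = P0.relIndex H * H.relIndex (Subgroup.normalizer (H : Set G)) := by
    rw [Subgroup.relIndex_mul_relIndex _ _ _ Subgroup.le_normalizer hN,
      Subgroup.relIndex_mul_relIndex _ _ _ hP0H hHN]
  have h2 : p ∣ P0.relIndex H * H.relIndex (Subgroup.normalizer (H : Set G)) := h1 ▸ dvd_mul_of_dvd_left hd _
  rcases hp.dvd_mul.1 h2 with h | h
  · have hS : P0.subgroupOf H = (S : Subgroup H) := by
      rw [hP0, Subgroup.subgroupOf, Subgroup.comap_map_eq_self_of_injective H.subtype_injective]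
    rw [Subgroup.relIndex, hS] at h
    exact S.not_dvd_index h
  · exact Nat.Prime.not_coprime_iff_dvd.2 ⟨p, hp, hpH, h⟩ hHall

/-- The structure at the level of `O`. -/
theorem structure_aux (hTI : Cfsg.IsTISubset (H : Set G)) (hnn : ¬ H.Normal)
    (hHall : (Nat.card H).Coprime (H.subgroupOf (Subgroup.normalizer (H : Set G))).index)
    (hsep : ∃ (n : ℕ) (M : Fin (n + 1) → Subgroup G), M 0 = ⊥ ∧ M (Fin.last n) = ⊤ ∧ Monotone M ∧ (∀ i, (M i).Normal) ∧
      ∀ i : Fin n, (∀ q : ℕ, q.Prime → q ∣ (M i.castSucc).relIndex (M i.succ) → q ∣ Nat.card H) ∨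
        ((M i.castSucc).relIndex (M i.succ)).Coprime (Nat.card H))
    (O : Subgroup G) (hOn : O.Normal) (hOc : (Nat.card O).Coprime (Nat.card H))
    (hmax : ∀ K : Subgroup G, K.Normal → (Nat.card K).Coprime (Nat.card H) → K ≤ O) :
    O ⊔ Subgroup.normalizer (H : Set G) = ⊤ ∧ (O ⊔ H).Normal := by
  have hcopG := coprime_index hTI hHall
  have hH1 : H ≠ ⊥ := fun h => hnn (h ▸ inferInstance)
  obtain ⟨n, M, hM0, hMl, hmono, hMn, hfac⟩ := hsep
  have hOtop : ¬ M (Fin.last n) ≤ O := by
    rw [hMl]
    intro h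
    have h1 : Nat.card H ∣ Nat.card O := Subgroup.card_dvd_of_le (le_top.trans h)
    have h2 := Nat.eq_one_of_dvd_coprimes hOc h1 dvd_rfl
    exact hH1 (Subgroup.card_eq_one.1 h2)
  obtain ⟨i, hi1, hi2⟩ : ∃ i : Fin n, M i.castSucc ≤ O ∧ ¬ M i.succ ≤ O := by
    by_contra! h
    have : ∀ i : Fin (n + 1), M i ≤ O := fun i =>
      Fin.induction (motive := fun i => M i ≤ O) (by rw [hM0]; exact bot_le) h i
    exact hOtop (this _)
  have := hMn i.succ
  set R := O ⊔ M i.succ with hR
  have hRn : R.Normal := Subgroup.sup_normal _ _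
  have hed : O.relIndex R ∣ (M i.castSucc).relIndex (M i.succ) := by
    rw [hR, sup_comm, Subgroup.relIndex_sup_right]
    exact Subgroup.relIndex_dvd_of_le_left _ hi1
  have hcardR : Nat.card O * O.relIndex R = Nat.card R := by
    have := Subgroup.relIndex_mul_relIndex ⊥ O R bot_le le_sup_left
    simpa [Subgroup.relIndex_bot_left] using this
  have hpi : ∀ q : ℕ, q.Prime → q ∣ O.relIndex R → q ∣ Nat.card H := by
    rcases hfac i with h | h
    · exact fun q hq hd => h q hq (hd.trans hed)
    · exfalso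
      refine hi2 (le_sup_right.trans (hmax R hRn ?_))
      rw [← hcardR]
      exact Nat.Coprime.mul_left hOc (h.coprime_dvd_left hed)
  have he1 : O.relIndex R ≠ 1 := fun h => hi2 (le_sup_right.trans (Subgroup.relIndex_eq_one.1 h))
  -- `R = O (R ⊓ H)`
  have hRH : Nat.card (R ⊓ H : Subgroup G) = O.relIndex R := by
    have h1 : (R ⊓ H).relIndex R ∣ H.index := by
      have e1 := Subgroup.relIndex_mul_relIndex ⊥ (R ⊓ H) R bot_le inf_le_left
      have e2 := Subgroup.relIndex_mul_relIndex ⊥ (R ⊓ H) H bot_le inf_le_right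
      have e3 := Subgroup.relIndex_mul_relIndex ⊥ R (H ⊔ R) bot_le le_sup_right
      have e4 := Subgroup.relIndex_mul_relIndex ⊥ H (H ⊔ R) bot_le le_sup_left
      simp only [Subgroup.relIndex_bot_left] at e1 e2 e3 e4
      rw [Subgroup.relIndex_sup_right, ← Subgroup.inf_relIndex_right, ← e4, ← e1, ← e2, mul_assoc,
        mul_assoc, mul_comm ((R ⊓ H).relIndex R)] at e3
      have e5 := Nat.eq_of_mul_eq_mul_left Nat.card_pos e3
      have hy : 0 < (R ⊓ H).relIndex H := Nat.pos_of_ne_zero (by
        intro h; rw [h, mul_zero] at e2; exact Nat.card_pos.ne e2)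
      rw [Nat.eq_of_mul_eq_mul_left hy e5]
      exact Dvd.intro _ (Subgroup.relIndex_mul_index le_sup_left)
    have h2 : Nat.card (R ⊓ H : Subgroup G) * (R ⊓ H).relIndex R = Nat.card R := by
      have := Subgroup.relIndex_mul_relIndex ⊥ (R ⊓ H) R bot_le inf_le_left
      simpa [Subgroup.relIndex_bot_left] using this
    apply Nat.dvd_antisymm
    · have hd : Nat.card (R ⊓ H : Subgroup G) ∣ Nat.card O * O.relIndex R := by
        rw [hcardR, ← h2]; exact Dvd.intro _ rfl
      exact Nat.Coprime.dvd_of_dvd_mul_left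
        ((hOc.symm).coprime_dvd_left (Subgroup.card_dvd_of_le inf_le_right)) hd
    · have hcop : (O.relIndex R).Coprime ((R ⊓ H).relIndex R) := Nat.coprime_of_dvd fun q hq hq1 hq2 =>
        Nat.Prime.not_coprime_iff_dvd.2 ⟨q, hq, hpi q hq hq1, hq2.trans h1⟩ hcopG
      exact hcop.dvd_of_dvd_mul_right (by rw [h2, ← hcardR]; exact dvd_mul_left _ _)
  have hdisj : O ⊓ (R ⊓ H) = ⊥ := Subgroup.inf_eq_bot_of_coprime
    (hOc.coprime_dvd_right (Subgroup.card_dvd_of_le inf_le_right))
  have hRN : R ≤ O ⊔ Subgroup.normalizer (H : Set G) := by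
    have h1 : O ⊔ (R ⊓ H) = R := by
      refine Subgroup.eq_of_le_of_card_ge (sup_le le_sup_left inf_le_left) (le_of_eq ?_)
      have h3 := Subgroup.relIndex_mul_relIndex ⊥ O (O ⊔ (R ⊓ H)) bot_le le_sup_left
      rw [Subgroup.relIndex_bot_left, Subgroup.relIndex_bot_left, sup_comm O (R ⊓ H),
        Subgroup.relIndex_sup_right, ← Subgroup.inf_relIndex_right, hdisj, Subgroup.relIndex_bot_left] at h3
      rw [sup_comm O (R ⊓ H), ← h3, hRH, hcardR]
    exact h1.ge.trans (sup_le_sup_left (inf_le_right.trans Subgroup.le_normalizer) _)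
  have hsup : O ⊔ Subgroup.normalizer (H : Set G) = ⊤ := by
    obtain ⟨q, hq, hqd⟩ := Nat.exists_prime_and_dvd he1
    have := Fact.mk hq
    obtain ⟨S⟩ : Nonempty (Sylow q (R ⊓ H : Subgroup G)) := inferInstance
    let S' : Subgroup R := ((S : Subgroup (R ⊓ H : Subgroup G)).map (Subgroup.inclusion inf_le_left))
    have hqRH : q ∣ Nat.card (R ⊓ H : Subgroup G) := hRH ▸ hqd
    have hcardS : Nat.card S' = q ^ (Nat.card R).factorization q := by
      rw [Subgroup.card_map_of_injective (Subgroup.inclusion_injective _), S.card_eq_multiplicity,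
        hRH, ← hcardR, Nat.factorization_mul Nat.card_pos.ne' (by
          rw [← hRH]; exact Nat.card_pos.ne'), Finsupp.add_apply,
        Nat.factorization_eq_zero_of_not_dvd (n := Nat.card O) (fun h =>
          Nat.Prime.not_coprime_iff_dvd.2 ⟨q, hq, h, hpi q hq hqd⟩ hOc), zero_add]
    let PR : Sylow q R := Sylow.ofCard S' hcardS
    have hfr := Sylow.normalizer_sup_eq_top (N := R) PR
    rw [← top_le_iff]
    refine hfr.ge.trans (sup_le (le_trans ?_ le_sup_right) hRN)
    refine normalizer_le hTI ?_ ?_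
    · rintro _ ⟨x, hx, rfl⟩
      obtain ⟨y, -, rfl⟩ := hx
      exact y.2.2
    · rw [← Subgroup.one_lt_card_iff_ne_bot, Subgroup.card_map_of_injective R.subtype_injective]
      exact lt_of_lt_of_le hq.one_lt (Nat.le_of_dvd Nat.card_pos (PR.dvd_card_of_dvd_card
        (hqRH.trans (Subgroup.card_dvd_of_le inf_le_left))))
  refine ⟨hsup, ?_⟩
  rw [← Subgroup.normalizer_eq_top_iff, ← top_le_iff, ← hsup]
  exact sup_le (le_sup_left.trans Subgroup.le_normalizer) (CoprimeAction.le_normalizer_of_conj_mem
    fun a ha b hb => by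
      have hmap : (O ⊔ H).map (MulAut.conj a).toMonoidHom ≤ O ⊔ H := by
        rw [Subgroup.map_sup]
        refine sup_le_sup ?_ ?_
        · rintro _ ⟨x, hx, rfl⟩; exact hOn.conj_mem x hx a
        · rintro _ ⟨x, hx, rfl⟩; exact (Subgroup.mem_normalizer_iff.1 ha x).1 hx
      exact hmap ⟨b, hb, rfl⟩)

/-- An `H`-invariant section of `O` on which `H` acts without fixed points. -/
theorem exists_fpf (hTI : Cfsg.IsTISubset (H : Set G)) (O : Subgroup G) [hOn : O.Normal]
    (hOc : (Nat.card O).Coprime (Nat.card H)) (hOs : Group.IsSolvable O)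
    (hsup : O ⊔ Subgroup.normalizer (H : Set G) = ⊤) (hnn : ¬ H.Normal) :
    ∃ (q : ℕ) (_ : Fact q.Prime) (X : Subgroup G) (Y : Subgroup X) (_ : Y.Normal)
      (φ : H →* MulAut (X ⧸ Y)), IsPGroup q (X ⧸ Y) ∧ Nontrivial (X ⧸ Y) ∧
        ∀ h : H, h ≠ 1 → ∀ e, φ h e = e → e = 1 := by
  have hD : ∀ x ∈ O, x ∈ Subgroup.normalizer (H : Set G) → ∀ h ∈ H, h * x = x * h := by
    intro x hxO hxN h hh
    have h1 : x * h * x⁻¹ * h⁻¹ ∈ H := H.mul_mem ((Subgroup.mem_normalizer_iff.1 hxN h).1 hh) (H.inv_mem hh)
    have h2 : x * h * x⁻¹ * h⁻¹ ∈ O := by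
      rw [mul_assoc, mul_assoc, ← mul_assoc h]
      exact O.mul_mem hxO (hOn.conj_mem _ (O.inv_mem hxO) h)
    have h3 : x * h * x⁻¹ * h⁻¹ ∈ O ⊓ H := ⟨h2, h1⟩
    rw [Subgroup.inf_eq_bot_of_coprime hOc, Subgroup.mem_bot] at h3
    exact (mul_inv_eq_iff_eq_mul.1 (mul_inv_eq_one.1 h3)).symm
  have hfix : ∀ x ∈ O, ∀ h ∈ H, h ≠ 1 → h * x = x * h → ∀ k ∈ H, k * x = x * k := by
    intro x hxO h hh h1 hc
    refine hD x hxO (mem_normalizer_of_fix hTI hh h1 ?_)
    rw [← hc, mul_inv_cancel_right]
    exact hh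
  have hHO : H ≤ Subgroup.normalizer (O : Set G) := by
    rw [Subgroup.normalizer_eq_top]; exact le_top
  obtain ⟨q, hq, Q, hQn, hQc⟩ : ∃ (q : ℕ) (_ : Fact q.Prime) (Q : Sylow q O),
      H ≤ Subgroup.normalizer ((Q : Subgroup O).map O.subtype : Set G) ∧
      ¬ (Q : Subgroup O).map O.subtype ≤ Subgroup.centralizer (H : Set G) := by
    by_contra! hall
    have hle : O ≤ Subgroup.centralizer (H : Set G) := by
      have hdvd : Nat.card O ∣ Nat.card (O ⊓ Subgroup.centralizer (H : Set G) : Subgroup G) := by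
        rw [← Nat.factorization_le_iff_dvd Nat.card_pos.ne' Nat.card_pos.ne', Finsupp.le_def]
        intro r
        by_cases hr : r.Prime
        · have := Fact.mk hr
          obtain ⟨Q, hQ⟩ := CoprimeAction.exists_invariant_sylow hHO hOc.symm (Or.inr hOs) r
          have hle := le_inf (Subgroup.map_subtype_le (H := O) (Q : Subgroup O)) (hall r ⟨hr⟩ Q hQ)
          have hd := Subgroup.card_dvd_of_le hle
          rw [Subgroup.card_map_of_injective O.subtype_injective, Q.card_eq_multiplicity] at hd
          exact (Nat.Prime.pow_dvd_iff_le_factorization hr Nat.card_pos.ne').1 hd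
        · simp [Nat.factorization_eq_zero_of_not_prime _ hr]
      have := Subgroup.eq_of_le_of_card_ge (inf_le_left : O ⊓ Subgroup.centralizer (H : Set G) ≤ O)
        (Nat.le_of_dvd Nat.card_pos hdvd)
      exact this.ge.trans inf_le_right
    apply hnn
    rw [← Subgroup.normalizer_eq_top_iff, ← top_le_iff, ← hsup]
    exact sup_le (hle.trans (Subgroup.centralizer_le_normalizer _)) le_rfl
  set Qg := (Q : Subgroup O).map O.subtype with hQg
  have hQO : Qg ≤ O := Subgroup.map_subtype_le _
  have hQp : IsPGroup q Qg := Q.2.map _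
  set Q0 := Qg ⊓ Subgroup.centralizer (H : Set G) with hQ0
  have hQ0lt : Q0 < Qg := lt_of_le_of_ne inf_le_left fun h => hQc (h ▸ inf_le_right)
  have hH0 : H ≤ Subgroup.normalizer (Q0 : Set G) := CoprimeAction.le_normalizer_inf hQn
    (CoprimeAction.le_normalizer_centralizer_self H)
  set X := Qg ⊓ Subgroup.normalizer (Q0 : Set G) with hX
  have hQ0X : Q0 ≤ X := le_inf inf_le_left Subgroup.le_normalizer
  have hXlt : Q0 < X := by
    have := hQp.isNilpotent
    have hlt : Q0.subgroupOf Qg < ⊤ := by
      rw [lt_top_iff_ne_top, Ne, Subgroup.subgroupOf_eq_top]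
      exact not_le_of_gt hQ0lt
    obtain ⟨y, hy, hy'⟩ := SetLike.exists_of_lt (Group.normalizerCondition_of_isNilpotent _ hlt)
    refine lt_of_le_of_ne hQ0X fun e => hy' ?_
    rw [Subgroup.mem_subgroupOf]
    refine e ▸ (⟨y.2, Subgroup.mem_normalizer_iff.2 ?_⟩ : (y : G) ∈ X)
    rw [Subgroup.mem_normalizer_iff] at hy
    intro z
    constructor
    · intro hz
      exact (hy ⟨z, hz.1⟩).1 hz
    · intro hz
      have hzQ : z ∈ Qg := by
        simpa [mul_assoc] using Qg.mul_mem (Qg.mul_mem (Qg.inv_mem y.2) hz.1) y.2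
      exact (hy ⟨z, hzQ⟩).2 hz
  have hHX : H ≤ Subgroup.normalizer (X : Set G) := CoprimeAction.le_normalizer_inf hQn (by
    intro h hh
    have h1 := Subgroup.le_normalizer (H := Subgroup.normalizer (Q0 : Set G)) (hH0 hh)
    exact h1)
  set Y := Q0.subgroupOf X with hY
  have hYn : Y.Normal := (Subgroup.normal_subgroupOf_iff_le_normalizer hQ0X).2 inf_le_right
  let c : H →* MulAut X := X.normalizerMonoidHom.comp (Subgroup.inclusion hHX)
  have hc : ∀ (h : H) (x : X), ((c h x : X) : G) = h * x * (h : G)⁻¹ := fun _ _ => rfl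
  have hcY : ∀ h : H, Y.map (c h).toMonoidHom = Y := by
    intro h
    refine Subgroup.eq_of_le_of_card_ge ?_ (le_of_eq (Subgroup.card_map_of_injective (c h).injective).symm)
    rintro _ ⟨x, hx, rfl⟩
    exact (Subgroup.mem_normalizer_iff.1 (hH0 h.2) _).1 hx
  let φ : H →* MulAut (X ⧸ Y) :=
    { toFun := fun h => QuotientGroup.congr Y Y (c h) (hcY h)
      map_one' := MulEquiv.ext fun x => by
        induction x using QuotientGroup.induction_on with
        | H x => show ((c 1 x : X) : X ⧸ Y) = (x : X ⧸ Y); rw [map_one]; rfl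
      map_mul' := fun a b => MulEquiv.ext fun x => by
        induction x using QuotientGroup.induction_on with
        | H x => show ((c (a * b) x : X) : X ⧸ Y) = ((c a (c b x) : X) : X ⧸ Y); rw [map_mul]; rfl }
  refine ⟨q, hq, X, Y, hYn, φ, (hQp.to_le inf_le_left).to_quotient Y, ?_, ?_⟩
  · rw [QuotientGroup.nontrivial_iff, Ne, hY, Subgroup.subgroupOf_eq_top]
    exact not_le_of_gt hXlt
  · intro h h1 e he
    induction e using QuotientGroup.induction_on with
    | H x =>
      have he' : (c h x)⁻¹ * x ∈ Y := QuotientGroup.eq.1 he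
      rw [hY, Subgroup.mem_subgroupOf, Subgroup.coe_mul, Subgroup.coe_inv, hc] at he'
      have hd : (x : G)⁻¹ * h * x * (h : G)⁻¹ ∈ Q0 := by
        have := Q0.inv_mem he'
        simpa [mul_assoc] using this
      have hcop : (orderOf (h : G)).Coprime (Nat.card Q0) :=
        (hOc.symm.coprime_dvd_left (H.orderOf_coe h ▸ orderOf_dvd_natCard h)).coprime_dvd_right
          (Subgroup.card_dvd_of_le (inf_le_left.trans hQO))
      obtain ⟨z, hz, hxz⟩ := CoprimeAction.exists_fixed_mem_coset_zpowers (hH0 h.2) hcop x hd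
      have hzQ : z ∈ Qg := by
        have := Qg.mul_mem x.2.1 hxz.1
        rwa [mul_inv_cancel_left] at this
      have hz0 : z ∈ Q0 := Subgroup.mem_inf.2 ⟨hzQ, Subgroup.mem_centralizer_iff.2
        (hfix z (hQO hzQ) h h.2 (fun e => h1 (Subtype.ext e)) hz)⟩
      rw [QuotientGroup.eq_one_iff, hY, Subgroup.mem_subgroupOf]
      have := Q0.mul_mem hz0 (Q0.inv_mem hxz)
      simpa [mul_assoc] using this

theorem solvable_normalizer (O : Subgroup G) [hOn : O.Normal] (hOs : Group.IsSolvable O)
    (hHs : Group.IsSolvable H) (hP : SylTwo H) (hcopG : (Nat.card H).Coprime H.index)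
    (hsup : O ⊔ Subgroup.normalizer (H : Set G) = ⊤) (hOcop : (Nat.card O).Coprime (Nat.card H))
    (hmax : ∀ K : Subgroup G, K.Normal → (Nat.card K).Coprime (Nat.card H) → K ≤ O) :
    Group.IsSolvable (Subgroup.normalizer (H : Set G)) := by
  set N := Subgroup.normalizer (H : Set G) with hN
  have : Group.IsSolvable (MulAut H) := solvable_mulAut_aux _ H le_rfl hHs hP
  set C := Subgroup.centralizer (H : Set G) with hC
  have hHN : H ≤ N := Subgroup.le_normalizer
  set Z := H ⊓ C with hZ
  have hZn : (Z.subgroupOf C).Normal := by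
    refine ⟨fun z hz c => ?_⟩
    rw [Subgroup.mem_subgroupOf] at hz ⊢
    have hcz : (c : G) * z * (c : G)⁻¹ = z := by
      rw [← (Subgroup.mem_centralizer_iff.1 c.2 z hz.1), mul_inv_cancel_right]
    rw [Subgroup.coe_mul, Subgroup.coe_mul, Subgroup.coe_inv, hcz]
    exact hz
  have hZc : (Nat.card (Z.subgroupOf C)).Coprime (Z.subgroupOf C).index := by
    rw [Nat.card_congr (Subgroup.subgroupOfEquivOfLe (inf_le_right : Z ≤ C)).toEquiv,
      ← Subgroup.relIndex, hZ, Subgroup.inf_relIndex_right]
    refine (hcopG.coprime_dvd_left (Subgroup.card_dvd_of_le inf_le_left)).coprime_dvd_right ?_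
    have hCN : C ≤ N := Subgroup.centralizer_le_normalizer _
    have : (H.subgroupOf N).Normal := (Subgroup.normal_subgroupOf_iff_le_normalizer hHN).2 le_rfl
    have h1 : H.relIndex C ∣ H.relIndex N := by
      have := Subgroup.relIndex_dvd_index_of_normal (H.subgroupOf N) (C.subgroupOf N)
      rwa [Subgroup.relIndex_subgroupOf hCN] at this
    exact h1.trans (Dvd.intro _ (Subgroup.relIndex_mul_index hHN))
  obtain ⟨K, hK⟩ := Subgroup.exists_right_complement'_of_coprime hZc
  have hKc : Nat.card K = (Z.subgroupOf C).index := (hK.symm.index_eq_card).symm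
  have hzcent : ∀ (z : C) (c : C), z ∈ Z.subgroupOf C → z * c = c * z := fun z c hz =>
    Subtype.ext (Subgroup.mem_centralizer_iff.1 c.2 z hz.1)
  have hKiff : ∀ c : C, c ∈ K ↔ (orderOf c).Coprime (Nat.card H) := by
    intro c
    have hcopK : (Nat.card K).Coprime (Nat.card (Z.subgroupOf C)) := by rw [hKc]; exact hZc.symm
    have hkH : (Nat.card K).Coprime (Nat.card H) := by
      refine Nat.coprime_of_dvd fun p hp hpK hpH => ?_
      have := Fact.mk hp
      have hdN : Nat.card K ∣ H.index := by
        rw [hKc, ← Subgroup.relIndex, hZ, Subgroup.inf_relIndex_right]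
        have hCN : C ≤ N := Subgroup.centralizer_le_normalizer _
        have : (H.subgroupOf N).Normal := (Subgroup.normal_subgroupOf_iff_le_normalizer hHN).2 le_rfl
        have h1 : H.relIndex C ∣ H.relIndex N := by
          have := Subgroup.relIndex_dvd_index_of_normal (H.subgroupOf N) (C.subgroupOf N)
          rwa [Subgroup.relIndex_subgroupOf hCN] at this
        exact h1.trans (Dvd.intro _ (Subgroup.relIndex_mul_index hHN))
      exact Nat.Prime.not_coprime_iff_dvd.2 ⟨p, hp, hpH, hpK.trans hdN⟩ hcopG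
    refine ⟨fun hc => hkH.coprime_dvd_left ((K.orderOf_mk c hc) ▸ orderOf_dvd_natCard (⟨c, hc⟩ : K)), fun hc => ?_⟩
    obtain ⟨⟨⟨z, hz⟩, ⟨k, hk⟩⟩, rfl⟩ := hK.2 c
    simp only at hc ⊢
    have hcomm : Commute z k := hzcent z k hz
    have hzo : (orderOf z) ∣ Nat.card (Z.subgroupOf C) :=
      ((Z.subgroupOf C).orderOf_mk z hz) ▸ orderOf_dvd_natCard (⟨z, hz⟩ : Z.subgroupOf C)
    have hko : orderOf k ∣ Nat.card K := (K.orderOf_mk k hk) ▸ orderOf_dvd_natCard (⟨k, hk⟩ : K)
    have ho := hcomm.orderOf_mul_eq_mul_orderOf_of_coprime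
      ((hcopK.symm.coprime_dvd_left hzo).coprime_dvd_right hko)
    rw [ho] at hc
    have hzH : orderOf z ∣ Nat.card H := by
      rw [← Subgroup.orderOf_coe, ← H.orderOf_mk (z : G) hz.1]
      exact orderOf_dvd_natCard _
    have hz1 : orderOf z = 1 :=
      Nat.eq_one_of_dvd_coprimes (Nat.Coprime.coprime_dvd_left (dvd_mul_right _ _) hc) dvd_rfl hzH
    rw [orderOf_eq_one_iff.1 hz1, one_mul]
    exact hk
  set Kg := K.map C.subtype with hKg
  have hKgc : (Nat.card Kg).Coprime (Nat.card H) := by
    rw [hKg, Subgroup.card_map_of_injective C.subtype_injective]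
    refine Nat.coprime_of_dvd fun p hp hpK hpH => ?_
    have := Fact.mk hp
    obtain ⟨k, hk⟩ := exists_prime_orderOf_dvd_card' p hpK
    have h := (hKiff k).1 k.2
    rw [Subgroup.orderOf_coe, hk] at h
    exact (hp.coprime_iff_not_dvd.1 h) hpH
  have hKO : Kg ≤ O := by
    have hnorm : ∀ a ∈ N, ∀ b ∈ Kg, a * b * a⁻¹ ∈ Kg := by
      rintro a ha _ ⟨k, hk, rfl⟩
      have hmem : a * (k : G) * a⁻¹ ∈ C := by
        refine Subgroup.mem_centralizer_iff.2 fun h hh => ?_
        have hh' : a⁻¹ * h * a ∈ H := CoprimeAction.conj_mem' ha hh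
        have := Subgroup.mem_centralizer_iff.1 k.2 _ hh'
        calc h * (a * k * a⁻¹) = a * ((a⁻¹ * h * a) * k) * a⁻¹ := by group
          _ = a * (k * (a⁻¹ * h * a)) * a⁻¹ := by rw [this]
          _ = _ := by group
      refine ⟨⟨_, hmem⟩, (hKiff _).2 ?_, rfl⟩
      rw [← Subgroup.orderOf_coe]
      show (orderOf (a * (k : G) * a⁻¹)).Coprime _
      rw [← MulAut.conj_apply, MulEquiv.orderOf_eq, Subgroup.orderOf_coe]
      exact (hKiff k).1 hk
    have hKn : (O ⊔ Kg).Normal := by
      rw [← Subgroup.normalizer_eq_top_iff, ← top_le_iff, ← hsup]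
      refine sup_le (le_sup_left.trans Subgroup.le_normalizer) (CoprimeAction.le_normalizer_of_conj_mem
        fun a ha b hb => ?_)
      have hmap : (O ⊔ Kg).map (MulAut.conj a).toMonoidHom ≤ O ⊔ Kg := by
        rw [Subgroup.map_sup]
        refine sup_le_sup ?_ ?_
        · rintro _ ⟨x, hx, rfl⟩; exact hOn.conj_mem x hx a
        · rintro _ ⟨x, hx, rfl⟩; exact hnorm a ha x hx
      exact hmap ⟨b, hb, rfl⟩
    refine le_sup_right.trans (hmax _ hKn ?_)
    have hd : Nat.card (O ⊔ Kg : Subgroup G) ∣ Nat.card O * Nat.card Kg := by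
      rw [sup_comm]
      have h3 := Subgroup.relIndex_mul_relIndex ⊥ O (Kg ⊔ O) bot_le le_sup_right
      rw [Subgroup.relIndex_bot_left, Subgroup.relIndex_bot_left, Subgroup.relIndex_sup_right] at h3
      rw [← h3]
      exact Nat.mul_dvd_mul_left _ (Subgroup.relIndex_dvd_card _ _)
    refine Nat.Coprime.coprime_dvd_left hd (Nat.Coprime.mul_left ?_ hKgc)
    exact hOcop
  have hCs : Group.IsSolvable C := by
    have : Group.IsSolvable Kg := CoprimeAction.isSolvable_of_le hKO
    have : Group.IsSolvable K := Group.isSolvable_of_isSolvable_injective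
      (f := (Subgroup.equivMapOfInjective K C.subtype C.subtype_injective).toMonoidHom)
      (MulEquiv.injective _)
    have : Group.IsSolvable (Z.subgroupOf C) := Group.isSolvable_of_comm fun a b =>
      Subtype.ext (hzcent a b a.2)
    have : Group.IsSolvable (C ⧸ Z.subgroupOf C) := Group.isSolvable_of_surjective
      (f := (QuotientGroup.mk' (Z.subgroupOf C)).comp K.subtype) (by
        intro x
        induction x using QuotientGroup.induction_on with
        | H c =>
          obtain ⟨⟨⟨z, hz⟩, k⟩, rfl⟩ := hK.2 c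
          refine ⟨k, ?_⟩
          show ((k : C) : C ⧸ Z.subgroupOf C) = ((z * (k : C) : C) : C ⧸ Z.subgroupOf C)
          rw [QuotientGroup.mk_mul, (QuotientGroup.eq_one_iff z).2 hz, one_mul])
    exact Group.isSolvable_of_ker_le_range (Z.subgroupOf C).subtype
      (QuotientGroup.mk' (Z.subgroupOf C)) (by simp)
  have : Group.IsSolvable H.normalizerMonoidHom.ker := by
    rw [Subgroup.normalizerMonoidHom_ker]
    exact Group.isSolvable_of_isSolvable_injective
      (f := (Subgroup.subgroupOfEquivOfLe (Subgroup.centralizer_le_normalizer _)).toMonoidHom)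
      (MulEquiv.injective _)
  exact Group.isSolvable_of_ker_le_range H.normalizerMonoidHom.ker.subtype H.normalizerMonoidHom (by simp)

end main

/-- Let G be a finite group and H a non-normal subgroup meeting each of its conjugates by elements outside N_G(H) trivially, with the order of H coprime to its index in N_G(H); let π be the set of primes dividing the order of H and suppose G is π-separable (it has a chain of normal subgroups from 1 to G each of whose factors has order divisible only by primes in π or coprime to the order of H). Let O be the largest normal subgroup of G of order coprime to the order of H. Then G = O·N_G(H), O·H is normal in G, and G is solvable if and only if O is solvable and H has no subgroup isomorphic to SL₂(5). -/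
theorem result {G : Type*} [Group G] [Finite G] (H : Subgroup G)
    (hTI : Cfsg.IsTISubset (H : Set G)) (hnn : ¬ H.Normal)
    (hHall : (Nat.card H).Coprime (H.subgroupOf (Subgroup.normalizer (H : Set G))).index)
    (hsep : ∃ (n : ℕ) (M : Fin (n + 1) → Subgroup G), M 0 = ⊥ ∧ M (Fin.last n) = ⊤ ∧ Monotone M ∧ (∀ i, (M i).Normal) ∧
      ∀ i : Fin n, (∀ q : ℕ, q.Prime → q ∣ (M i.castSucc).relIndex (M i.succ) → q ∣ Nat.card H) ∨
        ((M i.castSucc).relIndex (M i.succ)).Coprime (Nat.card H))
    (O : Subgroup G) (hO : O = sSup {K : Subgroup G | K.Normal ∧ (Nat.card K).Coprime (Nat.card H)}) :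
    O ⊔ Subgroup.normalizer (H : Set G) = ⊤ ∧ (O ⊔ H).Normal ∧
    (Group.IsSolvable G ↔ Group.IsSolvable O ∧
      ∀ K : Subgroup G, K ≤ H → ¬ Nonempty (K ≃* Matrix.SpecialLinearGroup (Fin 2) (ZMod 5))) := by
  obtain ⟨O', hO'n, hO'c, hmax⟩ : ∃ O' : Subgroup G, O'.Normal ∧
      (Nat.card O').Coprime (Nat.card H) ∧
      ∀ K : Subgroup G, K.Normal → (Nat.card K).Coprime (Nat.card H) → K ≤ O' := by
    have : Finite {K : Subgroup G // K.Normal ∧ (Nat.card K).Coprime (Nat.card H)} := inferInstance
    have : Nonempty {K : Subgroup G // K.Normal ∧ (Nat.card K).Coprime (Nat.card H)} :=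
      ⟨⟨⊥, inferInstance, by rw [Subgroup.card_bot]; exact Nat.coprime_one_left _⟩⟩
    obtain ⟨⟨M, hMn, hMc⟩, hM⟩ := Finite.exists_max
      (fun K : {K : Subgroup G // K.Normal ∧ (Nat.card K).Coprime (Nat.card H)} => Nat.card K.1)
    refine ⟨M, hMn, hMc, fun K hKn hKc => ?_⟩
    have hd : Nat.card (K ⊔ M : Subgroup G) ∣ Nat.card M * Nat.card K := by
      have h3 := Subgroup.relIndex_mul_relIndex ⊥ M (K ⊔ M) bot_le le_sup_right
      rw [Subgroup.relIndex_bot_left, Subgroup.relIndex_bot_left, Subgroup.relIndex_sup_right] at h3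
      rw [← h3]
      exact Nat.mul_dvd_mul_left _ (Subgroup.relIndex_dvd_card _ _)
    have h := hM ⟨K ⊔ M, Subgroup.sup_normal _ _, Nat.Coprime.coprime_dvd_left hd (hMc.mul_left hKc)⟩
    rw [Subgroup.eq_of_le_of_card_ge (le_sup_right : M ≤ K ⊔ M) h]
    exact le_sup_left
  have hOeq : O = O' := by
    rw [hO]
    exact le_antisymm (sSup_le fun K hK => hmax K hK.1 hK.2) (le_sSup ⟨hO'n, hO'c⟩)
  subst hOeq
  obtain ⟨hsup, hOH⟩ := structure_aux hTI hnn hHall hsep O hO'n hO'c hmax
  refine ⟨hsup, hOH, fun hG => ⟨inferInstance, fun K _ ⟨e⟩ => not_solvable_SL25 ?_⟩, fun ⟨hOs, hno⟩ => ?_⟩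
  · exact Group.isSolvable_of_surjective (f := e.toMonoidHom) e.surjective
  obtain ⟨q, hq, X, Y, hY, φ, hE, hnt, hfpf⟩ := exists_fpf hTI O hO'c hOs hsup hnn
  obtain ⟨hHs, hP⟩ := solvable_and_sylTwo hE φ hfpf (fun L ⟨e⟩ => hno (L.map H.subtype)
    (Subgroup.map_subtype_le L) ⟨(Subgroup.equivMapOfInjective L _ H.subtype_injective).symm.trans e⟩)
  have := solvable_normalizer O hOs hHs hP (coprime_index hTI hHall) hsup hO'c hmax
  have : Group.IsSolvable (G ⧸ O) := Group.isSolvable_of_surjective
    (f := (QuotientGroup.mk' O).comp (Subgroup.normalizer (H : Set G)).subtype) (by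
      intro x
      induction x using QuotientGroup.induction_on with
      | H g =>
        have hg : g ∈ O ⊔ Subgroup.normalizer (H : Set G) := hsup ▸ Subgroup.mem_top g
        rw [← SetLike.mem_coe, Subgroup.normal_mul] at hg
        obtain ⟨o, ho, m, hm, rfl⟩ := Set.mem_mul.1 hg
        refine ⟨⟨m, hm⟩, ?_⟩
        show (m : G ⧸ O) = ((o * m : G) : G ⧸ O)
        rw [QuotientGroup.mk_mul, (QuotientGroup.eq_one_iff o).2 ho, one_mul])
  exact Group.isSolvable_of_ker_le_range O.subtype (QuotientGroup.mk' O) (by simp)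

end Cfsg.Agent.S4118
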