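import Mathlib
import Cfsg.Statements.S5132

set_option autoImplicit false
open Cfsg

namespace Cfsg.Agent.S5132

section
variable {Ω : Type*} [Group Ω] {S : Subgroup Ω}

theorem preimageAlong_le {Ω' : Type*} [Group Ω'] (α : S →* Ω') (P' : Subgroup Ω') :
    Cfsg.FusionSystem.preimageAlong α P' ≤ S := by
  rintro _ ⟨a, _, rfl⟩; exact a.2

theorem mem_preimageAlong {Ω' : Type*} [Group Ω'] (α : S →* Ω') (P' : Subgroup Ω') (x : Ω) :
    x ∈ Cfsg.FusionSystem.preimageAlong α P' ↔ ∃ h : x ∈ S, α ⟨x, h⟩ ∈ P' := by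
  constructor
  · rintro ⟨a, ha, rfl⟩; exact ⟨a.2, ha⟩
  · rintro ⟨h, h'⟩; exact ⟨⟨x, h⟩, h', rfl⟩

variable [Finite S] (F : Cfsg.FusionSystem S) (S₀ : Subgroup Ω) [(S₀.subgroupOf S).Normal]

local notation "θ" => QuotientGroup.mk' (S₀.subgroupOf S)

/-- The map sets of the factor system. -/
def factorHom (P' : Subgroup (S ⧸ S₀.subgroupOf S)) : Set (P' →* S ⧸ S₀.subgroupOf S) :=
  {φ' | P' ≤ ⊤ ∧ ∃ φ ∈ F.Hom (Cfsg.FusionSystem.preimageAlong θ P'),
    Cfsg.FusionSystem.InducedAlong θ φ φ'}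

/-- The factor system. -/
noncomputable def factorSys (hS₀ : F.StronglyClosed S₀) :
    Cfsg.FusionSystem (⊤ : Subgroup (S ⧸ S₀.subgroupOf S)) where
  Hom := factorHom F S₀
  le_of_mem := fun _ => ⟨le_top, fun _ => trivial⟩
  injective_of_mem := by
    rintro P' φ' ⟨-, φ, hφ, hP, hφS, hP', he⟩
    rw [injective_iff_map_eq_one]
    rintro ⟨a, ha⟩ h1
    obtain ⟨s, rfl⟩ := QuotientGroup.mk'_surjective (S₀.subgroupOf S) a
    have hs : (s : Ω) ∈ Cfsg.FusionSystem.preimageAlong θ P' :=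
      (mem_preimageAlong _ _ _).2 ⟨s.2, ha⟩
    have h2 := he ⟨_, hs⟩
    have h3 : φ ⟨_, hs⟩ ∈ S₀ := by
      have : (θ) ⟨φ ⟨_, hs⟩, hφS _⟩ = 1 := h2.symm.trans h1
      rw [← MonoidHom.mem_ker, QuotientGroup.ker_mk', Subgroup.mem_subgroupOf] at this
      exact this
    obtain ⟨ψ, hψ, hψe⟩ := F.inv_mem hφ
    -- restrict `ψ` to the image meet `S₀`
    have hle : φ.range ⊓ S₀ ≤ S := inf_le_right.trans hS₀.1
    have hh : ∀ x, Cfsg.conjHom (φ.range ⊓ S₀) 1 x ∈ φ.range := fun x => by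
      simpa [Cfsg.conjHom] using x.2.1
    have h4 := hS₀.2 _ inf_le_right _ (F.comp_mem (F.conj_mem hle S.one_mem) hψ hh)
      ⟨φ ⟨_, hs⟩, ⟨⟨_, rfl⟩, h3⟩⟩
    have h5 : (s : Ω) ∈ S₀ := by
      refine (Eq.trans ?_ (hψe ⟨_, hs⟩)) ▸ h4
      exact congrArg ψ (Subtype.ext (by simp [Cfsg.conjHom]))
    apply Subtype.ext
    show (θ) s = 1
    rw [← MonoidHom.mem_ker, QuotientGroup.ker_mk']
    exact h5
  conj_mem := by
    intro P' g hP hg
    obtain ⟨s, rfl⟩ := QuotientGroup.mk'_surjective (S₀.subgroupOf S) g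
    refine ⟨le_top, Cfsg.conjHom _ (s : Ω), F.conj_mem (preimageAlong_le _ _) s.2,
      preimageAlong_le _ _, fun x => S.mul_mem (S.mul_mem s.2 (preimageAlong_le _ _ x.2)) (S.inv_mem s.2),
      fun x => ((mem_preimageAlong _ _ _).1 x.2).2, fun x => ?_⟩
    have : (⟨Cfsg.conjHom _ (s : Ω) x,
        S.mul_mem (S.mul_mem s.2 (preimageAlong_le _ _ x.2)) (S.inv_mem s.2)⟩ : S) =
        s * ⟨(x : Ω), preimageAlong_le _ _ x.2⟩ * s⁻¹ := Subtype.ext rfl
    rw [this, map_mul, map_mul, map_inv]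
    rfl
  comp_mem := by
    rintro P' Q' φ' ψ' ⟨-, φ, hφ, hP, hφS, hP', he⟩ ⟨-, ψ, hψ, hQ, hψS, hQ', ke⟩ h
    have hm : ∀ x, φ x ∈ Cfsg.FusionSystem.preimageAlong θ Q' := fun x =>
      (mem_preimageAlong _ _ _).2 ⟨hφS x, he x ▸ h _⟩
    refine ⟨le_top, _, F.comp_mem hφ hψ hm, hP, fun x => hψS _, hP', fun x => ?_⟩
    refine Eq.trans (congrArg ψ' (Subtype.ext ?_)) (ke ⟨φ x, hm x⟩)
    exact he x
  inv_mem := by
    rintro P' φ' ⟨-, φ, hφ, hP, hφS, hP', he⟩
    obtain ⟨ψ, hψ, hψe⟩ := F.inv_mem hφ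
    have hS₀le : S₀ ≤ Cfsg.FusionSystem.preimageAlong θ P' := fun y hy => by
      refine (mem_preimageAlong _ _ _).2 ⟨hS₀.1 hy, ?_⟩
      have : (θ) ⟨y, hS₀.1 hy⟩ = 1 := by
        rw [← MonoidHom.mem_ker, QuotientGroup.ker_mk']; exact hy
      rw [this]; exact P'.one_mem
    -- `φ` permutes `S₀`
    have hh : ∀ x, Cfsg.conjHom S₀ 1 x ∈ Cfsg.FusionSystem.preimageAlong θ P' := fun x => by
      simpa [Cfsg.conjHom] using hS₀le x.2
    have hr := F.comp_mem (F.conj_mem hS₀.1 S.one_mem) hφ hh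
    have hin := hS₀.2 S₀ le_rfl _ hr
    have hsurj : ∀ y ∈ S₀, y ∈ φ.range := by
      haveI : Finite S₀ := Finite.of_injective _ (Subgroup.inclusion_injective hS₀.1)
      let f : S₀ → S₀ := fun x => ⟨_, hin x⟩
      have hf : Function.Injective f := fun a b hab =>
        F.injective_of_mem hr (congrArg Subtype.val hab)
      intro y hy
      obtain ⟨x, hx⟩ := (Finite.injective_iff_surjective.1 hf) ⟨y, hy⟩
      exact ⟨_, congrArg Subtype.val hx⟩
    have hran : Cfsg.FusionSystem.preimageAlong θ φ'.range = φ.range := by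
      ext y
      rw [mem_preimageAlong]
      constructor
      · rintro ⟨hy, ⟨a, ha⟩, hay⟩
        obtain ⟨s, rfl⟩ := QuotientGroup.mk'_surjective (S₀.subgroupOf S) a
        have hs : (s : Ω) ∈ Cfsg.FusionSystem.preimageAlong θ P' :=
          (mem_preimageAlong _ _ _).2 ⟨s.2, ha⟩
        have h1 : (θ) ⟨φ ⟨_, hs⟩, hφS _⟩ = (θ) ⟨y, hy⟩ := (he ⟨_, hs⟩).symm.trans hay
        have h2 : (φ ⟨_, hs⟩)⁻¹ * y ∈ S₀ :=
          Subgroup.mem_subgroupOf.1 ((QuotientGroup.eq).1 h1)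
        have := φ.range.mul_mem (⟨_, rfl⟩ : φ ⟨_, hs⟩ ∈ φ.range) (hsurj _ h2)
        rwa [mul_inv_cancel_left] at this
      · rintro ⟨x, rfl⟩
        exact ⟨hφS x, ⟨_, he x⟩⟩
    have hle : Cfsg.FusionSystem.preimageAlong θ φ'.range ≤ S := preimageAlong_le _ _
    have hh2 : ∀ x, Cfsg.conjHom (Cfsg.FusionSystem.preimageAlong θ φ'.range) 1 x ∈ φ.range :=
      fun x => by rw [← hran]; simpa [Cfsg.conjHom] using x.2
    have hψ' := F.comp_mem (F.conj_mem hle S.one_mem) hψ hh2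
    -- the inverse of `φ'` on its range
    have hinj : Function.Injective φ' := by
      rw [injective_iff_map_eq_one]
      rintro ⟨a, ha⟩ h1
      obtain ⟨s, rfl⟩ := QuotientGroup.mk'_surjective (S₀.subgroupOf S) a
      have hs : (s : Ω) ∈ Cfsg.FusionSystem.preimageAlong θ P' :=
        (mem_preimageAlong _ _ _).2 ⟨s.2, ha⟩
      have h3 : φ ⟨_, hs⟩ ∈ S₀ := by
        have : (θ) ⟨φ ⟨_, hs⟩, hφS _⟩ = 1 := (he ⟨_, hs⟩).symm.trans h1
        rw [← MonoidHom.mem_ker, QuotientGroup.ker_mk', Subgroup.mem_subgroupOf] at this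
        exact this
      obtain ⟨x, hx⟩ : ∃ x : S₀, φ ⟨x, hS₀le x.2⟩ = φ ⟨_, hs⟩ := by
        haveI : Finite S₀ := Finite.of_injective _ (Subgroup.inclusion_injective hS₀.1)
        let f : S₀ → S₀ := fun x => ⟨φ ⟨x, hS₀le x.2⟩, by
          have := hin x
          convert this using 1
          exact congrArg φ (Subtype.ext (by simp [Cfsg.conjHom]))⟩
        have hf : Function.Injective f := fun a b hab => by
          have := congrArg Subtype.val (F.injective_of_mem hφ (congrArg Subtype.val hab))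
          exact Subtype.ext this
        obtain ⟨x, hx⟩ := (Finite.injective_iff_surjective.1 hf) ⟨_, h3⟩
        exact ⟨x, congrArg Subtype.val hx⟩
      apply Subtype.ext
      show (θ) s = 1
      rw [← MonoidHom.mem_ker, QuotientGroup.ker_mk', Subgroup.mem_subgroupOf]
      exact (congrArg Subtype.val (F.injective_of_mem hφ hx)) ▸ x.2
    let e := MonoidHom.ofInjective hinj
    refine ⟨P'.subtype.comp e.symm.toMonoidHom, ⟨le_top, _, hψ', hle, fun x => (F.le_of_mem hψ').2 x,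
      fun x => ((mem_preimageAlong _ _ _).1 x.2).2, ?_⟩, fun x => ?_⟩
    · intro y
      obtain ⟨x, hx⟩ : (y : Ω) ∈ φ.range := hran ▸ y.2
      have h1 : e.symm ⟨(θ) ⟨(y : Ω), hle y.2⟩, ((mem_preimageAlong _ _ _).1 y.2).2⟩ =
          ⟨(θ) ⟨(x : Ω), hP x.2⟩, hP' x⟩ := by
        rw [MulEquiv.symm_apply_eq]
        apply Subtype.ext
        show _ = φ' _
        rw [he x]
        exact congrArg (θ) (Subtype.ext hx.symm)
      show ((e.symm _ : P') : S ⧸ S₀.subgroupOf S) = _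
      rw [h1]
      refine congrArg (θ) (Subtype.ext ?_)
      refine Eq.trans (hψe x).symm (congrArg ψ (Subtype.ext ?_))
      simp [Cfsg.conjHom, hx]
    · show ((e.symm _ : P') : S ⧸ S₀.subgroupOf S) = _
      have : (⟨φ' x, ⟨x, rfl⟩⟩ : φ'.range) = e x := Subtype.ext rfl
      rw [this, MulEquiv.symm_apply_apply]

end

/-- Let F be a fusion system over a finite p-group S and S₀ a subgroup strongly closed in F (so S₀ is normal in S; the normality of S₀ ∩ S in S is supplied as an instance hypothesis so that the quotient can be written). Then the factor system F/S₀ exists: there is a fusion system over S/S₀ whose maps with source a subgroup P' of S/S₀ are exactly the homomorphisms induced along the quotient map by the maps of F whose source is the full preimage of P' in S. -/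
theorem result {Ω : Type*} [Group Ω] {S : Subgroup Ω} [Finite S] (p : ℕ) [Fact p.Prime] (hS : IsPGroup p S) (F : Cfsg.FusionSystem S) (S₀ : Subgroup Ω) (hS₀ : F.StronglyClosed S₀) [(S₀.subgroupOf S).Normal] : ∃ E : Cfsg.FusionSystem (⊤ : Subgroup (S ⧸ S₀.subgroupOf S)), F.IsFactorSystem S₀ (QuotientGroup.mk' (S₀.subgroupOf S)) E := by
  refine ⟨factorSys F S₀ hS₀, hS₀.1, fun s => ?_, QuotientGroup.range_mk' _, fun P' φ' => Iff.rfl⟩
  rw [← MonoidHom.mem_ker, QuotientGroup.ker_mk', Subgroup.mem_subgroupOf]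

end Cfsg.Agent.S5132
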