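import Mathlib
import Cfsg.Statements.S5134
import Cfsg.Agent.Lib.FusionPuig
import Cfsg.Agent.Lib.FusionMorph88

set_option autoImplicit false
open Cfsg

namespace Cfsg.Agent.S5134

/-- Let F be a saturated fusion system over a finite p-group S, S₀ a subgroup strongly closed in F, and E the factor system of F modulo S₀ read through θ (a homomorphism on S with kernel S₀ and image the group of E). Then θ is a surjective morphism of fusion systems from F onto E: in particular every map of F, and not only the maps whose source contains S₀, induces along θ a map of E. -/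
theorem result {Ω : Type*} [Group Ω] {S : Subgroup Ω} [Finite S] (p : ℕ) [Fact p.Prime] (hS : IsPGroup p S) (F : Cfsg.FusionSystem S) (hF : F.IsSaturated p) (S₀ : Subgroup Ω) (hS₀ : F.StronglyClosed S₀) {Ω' : Type*} [Group Ω'] {S' : Subgroup Ω'} (θ : S →* Ω') (E : Cfsg.FusionSystem S') (hE : F.IsFactorSystem S₀ θ E) : F.IsSurjectiveMorphism E θ := by
  classical
  open Cfsg.FusionSystem Cfsg.Agent.FusionSysBasic Cfsg.Agent.FusionMorph88 in
  have hrange := hE.2.2.1
  refine ⟨⟨fun s => hrange ▸ ⟨s, rfl⟩, fun P φ hφ => ?_⟩, hrange,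
    fun P' hP' φ' hφ' => ((hE.2.2.2 P' φ').1 hφ').2⟩
  have hPS := (F.le_of_mem hφ).1
  obtain ⟨f, hf, hc⟩ := FusionPuig.exists_map_mod hS hF hS₀ (mor_toFun hφ)
  have hker := factor_stronglyClosed hE
  set R := P ⊔ S₀ with hR
  have hRS : R ≤ S := sup_le hPS hS₀.1
  have hpre : preimageAlong θ (imageAlong θ R) = R :=
    preimageAlong_imageAlong hRS (hker ▸ le_sup_right)
  have himg : imageAlong θ R = imageAlong θ P := by
    refine le_antisymm ?_ (Subgroup.map_mono (fun a ha => Subgroup.mem_sup_left (T := S₀) ha))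
    intro y hy
    obtain ⟨x, hx, -, rfl⟩ := mem_imageAlong.1 hy
    obtain ⟨u, hu, t, ht, rfl⟩ := FusionPuig.exists_mul_of_mem_sup hS₀ hPS hx
    rw [app_mul (hPS hu) (hS₀.1 ht), (mem_kerAlong.1 (hker ▸ ht : t ∈ (θ.ker).map S.subtype)).2,
      mul_one]
    exact app_mem_imageAlong hu hPS
  let g : Ω' → Ω' := fun y => app θ (f (Function.invFunOn (app θ) (R : Set Ω) y))
  have hg : ∀ x ∈ R, g (app θ x) = app θ (f x) := by
    intro x hx
    have hex : ∃ a ∈ (R : Set Ω), app θ a = app θ x := ⟨x, hx, rfl⟩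
    set z := Function.invFunOn (app θ) (R : Set Ω) (app θ x) with hz
    have hzR : z ∈ R := Function.invFunOn_mem hex
    have hzx : app θ z = app θ x := Function.invFunOn_eq hex
    have h1 : z⁻¹ * x ∈ S₀ := hker ▸ mem_kerAlong.2 ⟨S.mul_mem (S.inv_mem (hRS hzR)) (hRS hx), by
      rw [app_mul (S.inv_mem (hRS hzR)) (hRS hx), app_inv (hRS hzR), hzx, inv_mul_cancel]⟩
    have h2 : f (z⁻¹ * x) ∈ S₀ := FusionSysNormal.stronglyClosed_invariant hS₀ hf
      (Subgroup.mul_mem _ (Subgroup.inv_mem _ hzR) hx) h1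
    show app θ (f z) = app θ (f x)
    have h3 : app θ (f (z * (z⁻¹ * x))) = app θ (f z) := by
      rw [hf.map_mul hzR (Subgroup.mul_mem _ (Subgroup.inv_mem _ hzR) hx), app_mul (hf.apply_mem hzR) (hS₀.1 h2),
        (mem_kerAlong.1 (hker ▸ h2 : f (z⁻¹ * x) ∈ (θ.ker).map S.subtype)).2, mul_one]
    rw [← h3, mul_inv_cancel_left]
  have hmor : Mor E (imageAlong θ R) g := (factor_mor hE).2
    ⟨hrange ▸ imageAlong_le_range R, f, hpre.symm ▸ hf, fun x hx => hg x (hpre ▸ hx)⟩
  rw [himg] at hmor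
  obtain ⟨φ', hφ', he'⟩ := hmor
  refine ⟨φ', hφ', (inducedAlong_iff hPS (F.le_of_mem hφ).2 (fun x => (toFun_coe φ x).symm) he').2
    fun x hx => ⟨app_mem_imageAlong hx hPS, ?_⟩⟩
  have hxR : x ∈ R := Subgroup.mem_sup_left hx
  rw [hg x hxR]
  have h1 : (toFun φ x)⁻¹ * f x ∈ (θ.ker).map S.subtype := hker ▸ hc x hx
  have hφS : toFun φ x ∈ S := (mor_toFun hφ).apply_mem hx
  have h2 := (mem_kerAlong.1 h1).2
  rw [app_mul (S.inv_mem hφS) (hf.apply_mem hxR), app_inv hφS, inv_mul_eq_one] at h2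
  exact h2.symm

end Cfsg.Agent.S5134
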