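import Cfsg.Statements.S2759
import Cfsg.Agent.Lib.QuadOffenderS4
import Cfsg.Agent.Lib.QdStability56
import Cfsg.Agent.Lib.CoprimeAction
import Cfsg.Agent.Lib.PGroupsBasic

set_option autoImplicit false
open Cfsg

set_option linter.all false

namespace Cfsg.Agent.S2759


open Cfsg.Agent.QuadraticMain

universe u
variable {G : Type u} [Group G] [Finite G]

theorem perm_three_facts : (∀ a : Equiv.Perm (Fin 3), Equiv.Perm.sign a = -1 → a ^ 2 = 1) ∧
    (∀ a b : Equiv.Perm (Fin 3), Equiv.Perm.sign a = -1 → Equiv.Perm.sign b = 1 → a * b * a⁻¹ = b⁻¹) := by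
  constructor <;> decide

/-- An inverted `3`-element over `S₃`. -/
theorem inverted_three {K : Subgroup G} (ψ : ↥K →* Equiv.Perm (Fin 3)) (hψ : Function.Surjective ψ) :
    ∃ x y : ↥K, (∃ k, orderOf x = 2 ^ k) ∧ (∃ k, orderOf y = 3 ^ k) ∧ x * y * x⁻¹ = y⁻¹ ∧ ψ y ≠ 1 := by
  haveI : Fact (Nat.Prime 3) := ⟨Nat.prime_three⟩
  haveI : Fact (Nat.Prime 2) := ⟨Nat.prime_two⟩
  obtain ⟨hsq, hinv⟩ := perm_three_facts
  set Rot := alternatingGroup (Fin 3)
  set N := Rot.comap ψ
  obtain ⟨Y⟩ : Nonempty (Sylow 3 ↥N) := inferInstance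
  set Y' : Subgroup ↥K := (Y : Subgroup ↥N).map N.subtype
  set r : Equiv.Perm (Fin 3) := Equiv.swap 0 1 * Equiv.swap 1 2 with hr
  have hrR : r ∈ Rot := by rw [Equiv.Perm.mem_alternatingGroup]; decide
  have hr1 : r⁻¹ * r⁻¹ ≠ 1 := by decide
  obtain ⟨n, hn, hsn⟩ : ∃ n ∈ Subgroup.normalizer (Y' : Set ↥K), Equiv.Perm.sign (ψ n) = -1 := by
    obtain ⟨k, hk⟩ := hψ (Equiv.swap 0 1)
    have h1 : ψ k ∈ (Subgroup.normalizer (Y' : Set ↥K) ⊔ N).map ψ := by
      rw [Y.normalizer_sup_eq_top]; exact Subgroup.mem_map_of_mem _ (Subgroup.mem_top k)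
    rw [Subgroup.map_sup, Subgroup.map_comap_eq_self_of_surjective hψ] at h1
    obtain ⟨_, ⟨n, hn, rfl⟩, c, hc, hnc⟩ := Subgroup.mem_sup_of_normal_right.mp h1
    refine ⟨n, hn, ?_⟩
    have h2 := congrArg Equiv.Perm.sign hnc
    rw [map_mul, Equiv.Perm.mem_alternatingGroup.mp hc, mul_one, hk, Equiv.Perm.sign_swap (by decide)] at h2
    exact h2
  obtain ⟨x, hx2, hfx, hxn⟩ : ∃ x : ↥K, (∃ k, orderOf x = 2 ^ k) ∧ ψ x = ψ n ∧ x ∈ Subgroup.zpowers n := by
    obtain ⟨e, m, hm, hnm⟩ :=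
      Nat.exists_eq_pow_mul_and_not_dvd (orderOf_pos n).ne' 2 (by norm_num)
    obtain ⟨k, rfl⟩ : Odd m := Nat.odd_iff.2 (by omega)
    refine ⟨n ^ (2 * k + 1), ?_, ?_, Subgroup.npow_mem_zpowers _ _⟩
    · have h1 : orderOf (n ^ (2 * k + 1)) ∣ 2 ^ e := by
        rw [orderOf_dvd_iff_pow_eq_one, ← pow_mul, mul_comm, ← hnm, pow_orderOf_eq_one]
      obtain ⟨i, -, hi⟩ := (Nat.dvd_prime_pow Nat.prime_two).mp h1
      exact ⟨i, hi⟩
    · rw [map_pow, pow_succ, pow_mul, hsq _ hsn, one_pow, one_mul]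
  have hxY : x ∈ Subgroup.normalizer (Y' : Set ↥K) := Subgroup.zpowers_le.mpr hn hxn
  -- a preimage of `r` in `Y'`
  obtain ⟨w0, hw0, hw0r⟩ : ∃ w ∈ Y', ψ w = r := by
    have hsurj : Function.Surjective (ψ.subgroupComap Rot) := fun ⟨d, hd⟩ => by
      obtain ⟨k, rfl⟩ := hψ d
      exact ⟨⟨k, hd⟩, rfl⟩
    have hRp : IsPGroup 3 Rot := IsPGroup.of_card (n := 1) (by
      rw [Nat.card_eq_fintype_card]; decide)
    have htop : ((Y.mapSurjective hsurj : Sylow 3 Rot) : Subgroup Rot) = ⊤ :=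
      ((Y.mapSurjective hsurj).3 (hRp.to_subgroup ⊤) le_top).symm
    obtain ⟨y, hy, hyr⟩ : (⟨r, hrR⟩ : ↥Rot) ∈ (Y : Subgroup ↥N).map (ψ.subgroupComap Rot) := by
      rw [← Sylow.coe_mapSurjective hsurj, htop]; exact Subgroup.mem_top _
    exact ⟨y, Subgroup.mem_map_of_mem N.subtype hy, congrArg Subtype.val hyr⟩
  let α := {w : ↥K // w ∈ Y' ∧ ψ w = r}
  let Z := Subgroup.zpowers (x ^ 2)
  have hψZ : ∀ g ∈ Z, ψ g = 1 := fun g hg => by
    obtain ⟨j, rfl⟩ := Subgroup.mem_zpowers_iff.mp hg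
    rw [map_zpow, map_pow, hfx, hsq _ hsn, one_zpow]
  have hZN : Z ≤ Subgroup.normalizer (Y' : Set ↥K) := Subgroup.zpowers_le.mpr (Subgroup.pow_mem _ hxY 2)
  letI : MulAction ↥Z α :=
    { smul := fun g w => ⟨(g : ↥K) * w.1 * (g : ↥K)⁻¹,
        (Subgroup.mem_normalizer_iff.mp (hZN g.2) _).mp w.2.1, by
          rw [map_mul, map_mul, map_inv, hψZ g g.2, one_mul, inv_one, mul_one]; exact w.2.2⟩
      one_smul := fun w => Subtype.ext (show (1 : ↥K) * w.1 * (1 : ↥K)⁻¹ = w.1 by group)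
      mul_smul := fun g h w => Subtype.ext (show (↑g * ↑h) * w.1 * (↑g * ↑h : ↥K)⁻¹ =
        (g : ↥K) * ((h : ↥K) * w.1 * (h : ↥K)⁻¹) * (g : ↥K)⁻¹ by group) }
  have hodd : ¬ 2 ∣ Nat.card α := by
    have e : α ≃ ↥(Y' ⊓ ψ.ker) :=
      { toFun := fun w => ⟨w0⁻¹ * w.1, Y'.mul_mem (Y'.inv_mem hw0) w.2.1, by
          simp [MonoidHom.mem_ker, hw0r, w.2.2]⟩
        invFun := fun v => ⟨w0 * v.1, Y'.mul_mem hw0 v.2.1, by
          rw [map_mul, hw0r, MonoidHom.mem_ker.mp v.2.2, mul_one]⟩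
        left_inv := fun w => Subtype.ext (mul_inv_cancel_left _ _)
        right_inv := fun v => Subtype.ext (inv_mul_cancel_left _ _) }
    rw [Nat.card_congr e]
    obtain ⟨k, hk⟩ := IsPGroup.iff_card.mp ((Y.2.map N.subtype).to_le (inf_le_left : Y' ⊓ ψ.ker ≤ Y'))
    rw [hk]
    intro hd
    exact absurd (Nat.prime_two.dvd_of_dvd_pow hd) (by norm_num)
  have hZ2 : IsPGroup 2 ↥Z := by
    obtain ⟨k, hk⟩ := hx2
    refine (IsPGroup.of_card (n := k) (by rw [Nat.card_zpowers, hk]) : IsPGroup 2 ↥(Subgroup.zpowers x)).to_le ?_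
    exact Subgroup.zpowers_le.mpr (Subgroup.npow_mem_zpowers _ _)
  obtain ⟨⟨w, hwY, hwr⟩, hwfix⟩ := hZ2.nonempty_fixed_point_of_prime_not_dvd_card α hodd
  have hfix : x ^ 2 * w * (x ^ 2)⁻¹ = w :=
    congrArg Subtype.val (hwfix ⟨x ^ 2, Subgroup.mem_zpowers _⟩)
  refine ⟨x, w⁻¹ * (x * w * x⁻¹), hx2, ?_, ?_, ?_⟩
  · have hm : w⁻¹ * (x * w * x⁻¹) ∈ Y' :=
      Y'.mul_mem (Y'.inv_mem hwY) ((Subgroup.mem_normalizer_iff.mp hxY w).mp hwY)
    obtain ⟨i, hi⟩ := IsPGroup.iff_orderOf.mp (Y.2.map N.subtype) ⟨_, hm⟩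
    exact ⟨i, by rwa [Subgroup.orderOf_mk] at hi⟩
  · have e : x * (x * w * x⁻¹) * x⁻¹ = w := by
      conv_rhs => rw [← hfix]
      rw [pow_two]; group
    calc x * (w⁻¹ * (x * w * x⁻¹)) * x⁻¹ = (x * w * x⁻¹)⁻¹ * (x * (x * w * x⁻¹) * x⁻¹) := by group
      _ = (x * w * x⁻¹)⁻¹ * w := by rw [e]
      _ = _ := by group
  · rw [map_mul, map_mul, map_mul, map_inv, map_inv, hwr, hfx,
      hinv _ _ hsn (Equiv.Perm.mem_alternatingGroup.mp hrR)]
    exact hr1

/-- The core configuration: an elementary abelian normal-ish module, inverted element of order three. -/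
theorem involves_s4_of_module {Q : Type u} [Group Q] [Finite Q] (T : Subgroup Q) (hT2 : IsPGroup 2 ↥T)
    (hexp : ∀ t ∈ T, t * t = 1) (x y : Q) (hx : ∃ k, orderOf x = 2 ^ k)
    (hxT : x ∈ Subgroup.normalizer (T : Set Q)) (hyT : y ∈ Subgroup.normalizer (T : Set Q))
    (hxy : x * y * x⁻¹ = y⁻¹) (hy3 : ∀ t ∈ T, y ^ 3 * t * (y ^ 3)⁻¹ = t)
    (hmove : ∃ t ∈ T, y * t * y⁻¹ ≠ t) :
    HasSection Q (Equiv.Perm (Fin 4)) := by
  haveI : Fact (Nat.Prime 2) := ⟨Nat.prime_two⟩
  have hcomm : ∀ s ∈ T, ∀ t ∈ T, s * t = t * s := fun s hs t ht => by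
    have h := hexp _ (T.mul_mem hs ht)
    have hs' := inv_eq_of_mul_eq_one_right (hexp s hs)
    have ht' := inv_eq_of_mul_eq_one_right (hexp t ht)
    calc s * t = (s * t)⁻¹ := (inv_eq_of_mul_eq_one_right h).symm
      _ = _ := by rw [mul_inv_rev, hs', ht']
  have hy : ∀ t ∈ T, y * t * y⁻¹ ∈ T := fun t ht => (Subgroup.mem_normalizer_iff.mp hyT t).mp ht
  have hxc : ∀ t ∈ T, x * t * x⁻¹ ∈ T := fun t ht => (Subgroup.mem_normalizer_iff.mp hxT t).mp ht
  let f : ↥T →* ↥T :=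
    { toFun := fun t => ⟨t * (y * t * y⁻¹), T.mul_mem t.2 (hy t t.2)⟩
      map_one' := Subtype.ext (by simp)
      map_mul' := fun s t => Subtype.ext (by
        show (s : Q) * t * (y * (s * t) * y⁻¹) = s * (y * s * y⁻¹) * (t * (y * t * y⁻¹))
        have h := hcomm t t.2 (y * s * y⁻¹) (hy s s.2)
        calc (s : Q) * t * (y * (s * t) * y⁻¹) = s * (t * (y * s * y⁻¹)) * (y * t * y⁻¹) := by group
          _ = s * ((y * s * y⁻¹) * t) * (y * t * y⁻¹) := by rw [h]
          _ = _ := by group) }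
  set J := f.range.map T.subtype
  have hJT : J ≤ T := Subgroup.map_subtype_le _
  have hJmem : ∀ s, s ∈ J ↔ ∃ t ∈ T, t * (y * t * y⁻¹) = s := fun s => by
    constructor
    · rintro ⟨_, ⟨t, rfl⟩, rfl⟩; exact ⟨t, t.2, rfl⟩
    · rintro ⟨t, ht, rfl⟩; exact ⟨f ⟨t, ht⟩, ⟨_, rfl⟩, rfl⟩
  have hsum : ∀ s ∈ J, s * (y * s * y⁻¹) * (y * (y * s * y⁻¹) * y⁻¹) = 1 := by
    intro s hs
    obtain ⟨t, ht, rfl⟩ := (hJmem s).mp hs
    set a := y * t * y⁻¹ with ha
    set b := y * a * y⁻¹ with hb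
    have ha' := hy t ht
    have hb' := hy a ha'
    have hc : y * b * y⁻¹ = t := by
      rw [hb, ha]; conv_rhs => rw [← hy3 t ht]
      rw [pow_succ, pow_two]; group
    have e1 : y * (t * a) * y⁻¹ = a * b := by rw [hb, ha]; group
    have e2 : y * (a * b) * y⁻¹ = b * t := by
      conv_rhs => rw [← hc]
      rw [hb]; group
    rw [e1, e2]
    calc t * a * (a * b) * (b * t) = t * (a * a) * (b * b) * t := by group
      _ = t * t := by rw [hexp a ha', hexp b hb', mul_one, mul_one]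
      _ = 1 := hexp t ht
  have hJne : J ≠ ⊥ := by
    obtain ⟨t, ht, htne⟩ := hmove
    intro h
    have h1 : t * (y * t * y⁻¹) = 1 := by
      rw [← Subgroup.mem_bot, ← h]; exact (hJmem _).mpr ⟨t, ht, rfl⟩
    exact htne ((eq_inv_of_mul_eq_one_right h1).trans (inv_eq_of_mul_eq_one_right (hexp t ht)))
  have hJx : ∀ s ∈ J, x * s * x⁻¹ ∈ J := by
    intro s hs
    obtain ⟨t, ht, rfl⟩ := (hJmem s).mp hs
    have hyi : ∀ v ∈ T, y⁻¹ * v * y ∈ T := fun v hv => (Subgroup.mem_normalizer_iff''.mp hyT v).mp hv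
    refine (hJmem _).mpr ⟨y⁻¹ * (x * t * x⁻¹) * y, hyi _ (hxc t ht), ?_⟩
    have e : x * (y * t * y⁻¹) * x⁻¹ = y⁻¹ * (x * t * x⁻¹) * y := by
      calc x * (y * t * y⁻¹) * x⁻¹ = (x * y * x⁻¹) * (x * t * x⁻¹) * (x * y * x⁻¹)⁻¹ := by group
        _ = _ := by rw [hxy, inv_inv]
    calc _ = y⁻¹ * (x * t * x⁻¹) * y * (x * t * x⁻¹) := by group
      _ = (x * t * x⁻¹) * (y⁻¹ * (x * t * x⁻¹) * y) := hcomm _ (hyi _ (hxc t ht)) _ (hxc t ht)
      _ = (x * t * x⁻¹) * (x * (y * t * y⁻¹) * x⁻¹) := by rw [e]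
      _ = _ := by group
  have hJN : x ∈ Subgroup.normalizer (J : Set Q) := Subgroup.mem_normalizer_fintype hJx
  -- a fixed point
  let X := Subgroup.zpowers x
  have hXN : X ≤ Subgroup.normalizer (J : Set Q) := Subgroup.zpowers_le.mpr hJN
  letI : MulAction ↥X ↥J :=
    { smul := fun g w => ⟨(g : Q) * w.1 * (g : Q)⁻¹, (Subgroup.mem_normalizer_iff.mp (hXN g.2) _).mp w.2⟩
      one_smul := fun w => Subtype.ext (show (1 : Q) * w.1 * (1 : Q)⁻¹ = w.1 by group)
      mul_smul := fun g h w => Subtype.ext (show (↑g * ↑h) * w.1 * (↑g * ↑h : Q)⁻¹ =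
        (g : Q) * ((h : Q) * w.1 * (h : Q)⁻¹) * (g : Q)⁻¹ by group) }
  have hX2 : IsPGroup 2 ↥X := by
    obtain ⟨k, hk⟩ := hx
    exact IsPGroup.of_card (n := k) (by rw [Nat.card_zpowers, hk])
  obtain ⟨⟨u, hu⟩, hufix, hu1⟩ := hX2.exists_fixed_point_of_prime_dvd_card_of_fixed_point ↥J
    (show 2 ∣ Nat.card ↥J by
      haveI : Nontrivial ↥J := J.nontrivial_iff_ne_bot.mpr hJne
      obtain ⟨k, hk0, hk⟩ := (IsPGroup.nontrivial_iff_card (hT2.to_le hJT)).mp ‹_›
      rw [hk]; exact dvd_pow_self 2 hk0.ne')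
    (a := 1) (fun g => Subtype.ext (show (g : Q) * 1 * (g : Q)⁻¹ = 1 by group))
  have hxu : x * u * x⁻¹ = u := congrArg Subtype.val (hufix ⟨x, Subgroup.mem_zpowers x⟩)
  have hune : u ≠ 1 := fun h => hu1 (Subtype.ext h.symm)
  set v := y * u * y⁻¹ with hv
  have huT := hJT hu
  have hvT : v ∈ T := hy u huT
  have huu := hexp u huT
  have hvv := hexp v hvT
  have huv : u * v = v * u := hcomm u huT v hvT
  have hyv : y * v * y⁻¹ = u * v := by
    have h := hsum u hu
    rw [← hv] at h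
    calc y * v * y⁻¹ = (u * v)⁻¹ := eq_inv_of_mul_eq_one_right h
      _ = u * v := inv_eq_of_mul_eq_one_right (hexp _ (T.mul_mem huT hvT))
  have hne_uv : u ≠ v := fun h => by
    rw [← h, huu, mul_inv_eq_one, mul_eq_left] at hyv
    exact hune hyv
  let U : Subgroup Q :=
    { carrier := {1, u, v, u * v}
      one_mem' := by simp
      mul_mem' := by
        intro a b ha hb
        simp only [Set.mem_insert_iff, Set.mem_singleton_iff] at ha hb ⊢
        have h1 : u * (u * v) = v := by rw [← mul_assoc, huu, one_mul]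
        have h2 : v * (u * v) = u := by rw [huv, ← mul_assoc, hvv, one_mul]
        have h3 : u * v * u = v := by rw [huv, mul_assoc, huu, mul_one]
        have h4 : u * v * v = u := by rw [mul_assoc, hvv, mul_one]
        have h5 := hexp _ (T.mul_mem huT hvT)
        rcases ha with rfl | rfl | rfl | rfl <;> rcases hb with rfl | rfl | rfl | rfl <;>
          simp [huu, hvv, h1, h2, h3, h4, h5, huv.symm]
      inv_mem' := by
        intro a ha
        simp only [Set.mem_insert_iff, Set.mem_singleton_iff] at ha ⊢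
        have : a ∈ T := by
          rcases ha with rfl | rfl | rfl | rfl
          exacts [T.one_mem, huT, hvT, T.mul_mem huT hvT]
        rw [inv_eq_of_mul_eq_one_right (hexp a this)]; exact ha }
  have hUc : Nat.card ↥U = 4 := by
    rw [← SetLike.coe_sort_coe, Nat.card_coe_set_eq]
    show ({1, u, v, u * v} : Set Q).ncard = 4
    have a1 : v ≠ 1 := fun h => hune (conj_eq_one_iff.mp h)
    have a2 : u * v ≠ 1 := fun h => hne_uv
      (((eq_inv_of_mul_eq_one_right h).trans (inv_eq_of_mul_eq_one_right huu)).symm)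
    have a3 : u * v ≠ u := fun h => a1 (mul_eq_left.mp h)
    have a4 : u * v ≠ v := fun h => hune (mul_eq_right.mp h)
    rw [Set.ncard_insert_of_notMem (by simp [hune.symm, a1.symm, a2.symm]),
      Set.ncard_insert_of_notMem (by simp [hne_uv, a3.symm]),
      Set.ncard_insert_of_notMem (by simp [a4.symm]), Set.ncard_singleton]
  have hUT : U ≤ T := by
    rintro a ha
    rcases ha with rfl | rfl | rfl | rfl
    exacts [T.one_mem, huT, hvT, T.mul_mem huT hvT]
  have hyN : y ∈ Subgroup.normalizer (U : Set Q) := by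
    refine Subgroup.mem_normalizer_fintype fun a ha => ?_
    rcases ha with rfl | rfl | rfl | rfl
    · simp
    · right; right; left; exact hv.symm
    · right; right; right; exact hyv
    · right; left
      calc y * (u * v) * y⁻¹ = (y * u * y⁻¹) * (y * v * y⁻¹) := by group
        _ = v * (v * u) := by rw [← hv, hyv, huv]
        _ = u := by rw [← mul_assoc, hvv, one_mul]
  have hxv : x * v * x⁻¹ = u * v := by
    have h3 : y * (y * (y * v * y⁻¹) * y⁻¹) * y⁻¹ = v := by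
      conv_rhs => rw [← hy3 v hvT]
      rw [pow_succ, pow_two]; group
    calc x * v * x⁻¹ = (x * y * x⁻¹) * (x * u * x⁻¹) * (x * y * x⁻¹)⁻¹ := by rw [hv]; group
      _ = y⁻¹ * u * y := by rw [hxy, hxu, inv_inv]
      _ = y * v * y⁻¹ := by
          have h4 : y ^ 3 * u * (y ^ 3)⁻¹ = u := hy3 u huT
          conv_lhs => rw [← h4]
          rw [hv, pow_succ, pow_two]; group
      _ = u * v := hyv
  have hxN : x ∈ Subgroup.normalizer (U : Set Q) := by
    refine Subgroup.mem_normalizer_fintype fun a ha => ?_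
    rcases ha with rfl | rfl | rfl | rfl
    · simp
    · right; left; exact hxu
    · right; right; right; exact hxv
    · right; right; left
      calc x * (u * v) * x⁻¹ = (x * u * x⁻¹) * (x * v * x⁻¹) := by group
        _ = u * (u * v) := by rw [hxu, hxv]
        _ = v := by rw [← mul_assoc, huu, one_mul]
  set L := U ⊔ Subgroup.closure ({x, y} : Set Q) with hL
  set D := Subgroup.closure ({x ^ 2, y ^ 3} : Set Q) with hD
  have hx2y : x ^ 2 * y * (x ^ 2)⁻¹ = y := by
    calc x ^ 2 * y * (x ^ 2)⁻¹ = x * (x * y * x⁻¹) * x⁻¹ := by rw [pow_two]; group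
      _ = y := by rw [hxy, ← conj_inv, hxy, inv_inv]
  have hx2u : x ^ 2 * u * (x ^ 2)⁻¹ = u := by
    calc x ^ 2 * u * (x ^ 2)⁻¹ = x * (x * u * x⁻¹) * x⁻¹ := by rw [pow_two]; group
      _ = u := by rw [hxu, hxu]
  have hDy : D ≤ Subgroup.centralizer ({y} : Set Q) := by
    rw [hD, Subgroup.closure_le]
    rintro g (rfl | rfl)
    · exact Subgroup.mem_centralizer_singleton_iff.mpr (mul_inv_eq_iff_eq_mul.mp hx2y)
    · exact Subgroup.mem_centralizer_singleton_iff.mpr (Commute.pow_self y 3).eq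
  have hDu : D ≤ Subgroup.centralizer ({u} : Set Q) := by
    rw [hD, Subgroup.closure_le]
    rintro g (rfl | rfl)
    · exact Subgroup.mem_centralizer_singleton_iff.mpr (mul_inv_eq_iff_eq_mul.mp hx2u)
    · exact Subgroup.mem_centralizer_singleton_iff.mpr (mul_inv_eq_iff_eq_mul.mp (hy3 u huT))
  have hUy : ∀ w ∈ U, y * w = w * y → w = 1 := by
    intro w hw h
    have h' : y * w * y⁻¹ = w := mul_inv_eq_iff_eq_mul.mpr h
    rcases hw with rfl | rfl | rfl | rfl
    · rfl
    · exact absurd (hv ▸ h').symm hne_uv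
    · rw [hyv] at h'; exact absurd (mul_eq_right.mp h') hune
    · rw [show y * (u * v) * y⁻¹ = (y * u * y⁻¹) * (y * v * y⁻¹) by group, ← hv, hyv, huv, ← mul_assoc, hvv,
        one_mul] at h'
      exact absurd (mul_eq_right.mp h'.symm) (fun h => hune (conj_eq_one_iff.mp h))
  have hLD : L ≤ Subgroup.normalizer (D : Set Q) := by
    rw [hL]
    refine sup_le ?_ ?_
    · refine le_trans ?_ (Subgroup.centralizer_le_normalizer (D : Set Q))
      intro w hw
      refine Subgroup.mem_centralizer_iff.mpr fun d hd => ?_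
      have du := Subgroup.mem_centralizer_singleton_iff.mp (hDu hd)
      have dy := Subgroup.mem_centralizer_singleton_iff.mp (hDy hd)
      have dv : d * v = v * d := (((show Commute d y from dy).mul_right (show Commute d u from du)).mul_right
        (show Commute d y from dy).inv_right).eq
      rcases hw with rfl | rfl | rfl | rfl
      · simp
      · exact du
      · exact dv
      · exact ((show Commute d u from du).mul_right dv).eq
    · rw [Subgroup.closure_le]
      intro g hg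
      refine Subgroup.mem_normalizer_fintype fun d hd => ?_
      have hgen : ∀ g : Q, g * x ^ 2 * g⁻¹ ∈ D → g * y ^ 3 * g⁻¹ ∈ D → g * d * g⁻¹ ∈ D := by
        intro g h1 h2
        have : D ≤ D.comap (MulAut.conj g).toMonoidHom := by
          rw [hD, Subgroup.closure_le]
          rintro e (rfl | rfl)
          · simpa using h1
          · simpa using h2
        simpa using this hd
      rcases hg with rfl | rfl
      · refine hgen _ ?_ ?_
        · rw [show g * g ^ 2 * g⁻¹ = g ^ 2 by group]; exact Subgroup.subset_closure (Or.inl rfl)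
        · rw [← conj_pow, hxy, inv_pow]; exact D.inv_mem (Subgroup.subset_closure (Or.inr rfl))
      · refine hgen _ ?_ ?_
        · rw [show g * x ^ 2 * g⁻¹ = x ^ 2 by
            rw [← mul_inv_eq_iff_eq_mul.mp hx2y]; group]
          exact Subgroup.subset_closure (Or.inl rfl)
        · rw [show g * g ^ 3 * g⁻¹ = g ^ 3 by group]; exact Subgroup.subset_closure (Or.inr rfl)
  haveI hN : (D.subgroupOf L).Normal := ⟨fun d hd g =>
    Subgroup.mem_subgroupOf.mpr ((Subgroup.mem_normalizer_iff.mp (hLD g.2) _).mp (Subgroup.mem_subgroupOf.mp hd))⟩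
  have hxL : x ∈ L := Subgroup.mem_sup_right (Subgroup.subset_closure (Or.inl rfl))
  have hyL : y ∈ L := Subgroup.mem_sup_right (Subgroup.subset_closure (Or.inr rfl))
  have hUL : U ≤ L := le_sup_left
  set π := QuotientGroup.mk' (D.subgroupOf L) with hπ
  have hker : ∀ g : ↥L, π g = 1 → (g : Q) ∈ D := fun g h =>
    Subgroup.mem_subgroupOf.mp ((QuotientGroup.eq_one_iff g).mp h)
  have hUinj : ∀ g : ↥L, (g : Q) ∈ U → π g = 1 → g = 1 := fun g hg h => Subtype.ext
    (hUy _ hg (Subgroup.mem_centralizer_singleton_iff.mp (hDy (hker g h))).symm)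
  have hodd : Odd (orderOf (π ⟨y, hyL⟩)) := by
    have h3 : π ⟨y, hyL⟩ ^ 3 = 1 := by
      rw [← map_pow]
      exact (QuotientGroup.eq_one_iff _).mpr (Subgroup.mem_subgroupOf.mpr
        (Subgroup.subset_closure (Or.inr rfl)))
    exact Odd.of_dvd_nat (by decide) (orderOf_dvd_of_pow_eq_one h3)
  have hxx : π ⟨x, hxL⟩ * π ⟨x, hxL⟩ = 1 := by
    rw [← map_mul]
    refine (QuotientGroup.eq_one_iff _).mpr (Subgroup.mem_subgroupOf.mpr ?_)
    show x * x ∈ D
    rw [← pow_two]; exact Subgroup.subset_closure (Or.inl rfl)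
  set U' := (U.subgroupOf L).map π with hU'
  have hc : Nat.card ↥U' = 4 := by
    have hb : Function.Bijective (π.subgroupMap (U.subgroupOf L)) := by
      refine ⟨?_, π.subgroupMap_surjective _⟩
      rw [injective_iff_map_eq_one]
      exact fun g hg => Subtype.ext (hUinj _ g.2 (congrArg Subtype.val hg))
    rw [hU', ← Nat.card_eq_of_bijective _ hb, ← hUc]
    exact Nat.card_congr (Subgroup.subgroupOfEquivOfLe hUL).toEquiv
  have hnorm : ∀ g : Q, ∀ hg : g ∈ L, g ∈ Subgroup.normalizer (U : Set Q) → π ⟨g, hg⟩ ∈ Subgroup.normalizer (U' : Set _) := by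
    intro g hg h
    refine Subgroup.le_normalizer_map π (Subgroup.mem_map_of_mem _ ?_)
    rw [Subgroup.mem_normalizer_iff]
    intro w
    exact Subgroup.mem_normalizer_iff.mp h (w : Q)
  have hinv' : π ⟨x, hxL⟩ * π ⟨y, hyL⟩ * π ⟨x, hxL⟩ = (π ⟨y, hyL⟩)⁻¹ := by
    conv_lhs => arg 2; rw [← inv_eq_of_mul_eq_one_right hxx]
    rw [← map_inv, ← map_inv, ← map_mul, ← map_mul]
    congr 1
    exact Subtype.ext hxy
  have hs := QuadOffenderS4.involves_s4 U' hc (by
      rintro _ ⟨w, hw, rfl⟩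
      rw [← map_mul, show w * w = 1 from Subtype.ext (hexp _ (hUT hw)), map_one])
    (π ⟨y, hyL⟩) (π ⟨x, hxL⟩) hxx hinv' hodd (hnorm y hyL hyN) (hnorm x hxL hxN) (by
      rintro _ ⟨w, hw, rfl⟩ h
      rw [← map_inv, ← map_mul, ← map_mul, ← mul_inv_eq_one, ← map_inv, ← map_mul] at h
      have hmem : y * (w : Q) * y⁻¹ * (w : Q)⁻¹ ∈ U :=
        U.mul_mem ((Subgroup.mem_normalizer_iff.mp hyN _).mp hw) (U.inv_mem hw)
      have h1 := congrArg Subtype.val (hUinj _ hmem h)
      have h2 : y * (w : Q) = (w : Q) * y := mul_inv_eq_iff_eq_mul.mp (mul_inv_eq_one.mp h1)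
      rw [show w = 1 from Subtype.ext (hUy _ hw h2), map_one])
    (by
      refine ⟨π ⟨v, hUL (Or.inr (Or.inr (Or.inl rfl)))⟩, ⟨_, Or.inr (Or.inr (Or.inl rfl)), rfl⟩, ?_⟩
      intro h
      rw [← map_inv, ← map_mul, ← map_mul, ← mul_inv_eq_one, ← map_inv, ← map_mul] at h
      have hmem : x * v * x⁻¹ * v⁻¹ ∈ U := by
        rw [hxv, mul_inv_cancel_right]; exact Or.inr (Or.inl rfl)
      have h1 := congrArg Subtype.val (hUinj _ hmem h)
      change x * v * x⁻¹ * v⁻¹ = 1 at h1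
      rw [hxv, mul_inv_cancel_right] at h1
      exact hune h1)
  exact QdStability56.hasSection_of_quotient _ (QdStability56.hasSection_of_involves hs)

theorem of_inverted (T : Subgroup G) (hT : IsPGroup 2 ↥T) (x : G) (hx : ∃ k, orderOf x = 2 ^ k)
    (hxT : x ∈ Subgroup.normalizer (T : Set G)) :
    ∀ (k : ℕ) (y : G), orderOf y = 3 ^ k → y ∈ Subgroup.normalizer (T : Set G) →
      x * y * x⁻¹ = y⁻¹ → y ∉ Subgroup.centralizer (T : Set G) →
      Cfsg.Involves (Equiv.Perm (Fin 4)) G := by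
  intro k
  induction k with
  | zero =>
    intro y hy _ _ hc
    rw [pow_zero, orderOf_eq_one_iff] at hy
    exact absurd (hy ▸ one_mem _) hc
  | succ k ih =>
    intro y hy hyT hxy hc
    by_cases h3 : y ^ 3 ∈ Subgroup.centralizer (T : Set G)
    · haveI : Fact (Nat.Prime 2) := ⟨Nat.prime_two⟩
      refine QuadraticQd.exists_section ?_
      set N := Subgroup.normalizer (T : Set G)
      have hTN : T ≤ N := Subgroup.le_normalizer
      set D := (frattini ↥T).map T.subtype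
      have hND : N ≤ Subgroup.normalizer (D : Set G) := by
        intro n hn
        refine Subgroup.mem_normalizer_fintype ?_
        rintro _ ⟨d, hd, rfl⟩
        refine ⟨(Subgroup.normalizerMonoidHom T ⟨n, hn⟩) d, ?_, rfl⟩
        exact Subgroup.mem_comap.mp
          ((Subgroup.characteristic_iff_comap_eq.mp (inferInstance : (frattini ↥T).Characteristic) (Subgroup.normalizerMonoidHom T ⟨n, hn⟩)).symm ▸ hd)
      haveI hDn : (D.subgroupOf N).Normal := ⟨fun d hd g => Subgroup.mem_subgroupOf.mpr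
        ((Subgroup.mem_normalizer_iff.mp (hND g.2) _).mp (Subgroup.mem_subgroupOf.mp hd))⟩
      set π := QuotientGroup.mk' (D.subgroupOf N) with hπ
      have hone : ∀ g : ↥N, π g = 1 ↔ (g : G) ∈ D := fun g =>
        (QuotientGroup.eq_one_iff g).trans Subgroup.mem_subgroupOf
      refine QdStability56.hasSection_of_quotient (D.subgroupOf N)
        (involves_s4_of_module ((T.subgroupOf N).map π) ((hT.comap_subtype).map _) ?_
          (π ⟨x, hxT⟩) (π ⟨y, hyT⟩) ?_ ?_ ?_ ?_ ?_ ?_)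
      · rintro _ ⟨t, ht, rfl⟩
        rw [← map_mul, hone, Subgroup.coe_mul, ← pow_two]
        exact ⟨(⟨t, ht⟩ : ↥T) ^ 2, PGroupsBasic.pow_mem_frattini hT _, rfl⟩
      · obtain ⟨j, hj⟩ := hx
        have h1 : orderOf (π ⟨x, hxT⟩) ∣ 2 ^ j := by
          rw [← hj, ← Subgroup.orderOf_mk x hxT]; exact orderOf_map_dvd π _
        obtain ⟨i, -, hi⟩ := (Nat.dvd_prime_pow Nat.prime_two).mp h1
        exact ⟨i, hi⟩
      · exact Subgroup.le_normalizer_map π (Subgroup.mem_map_of_mem _ (Subgroup.mem_normalizer_iff.mpr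
          fun w => Subgroup.mem_normalizer_iff.mp hxT (w : G)))
      · exact Subgroup.le_normalizer_map π (Subgroup.mem_map_of_mem _ (Subgroup.mem_normalizer_iff.mpr
          fun w => Subgroup.mem_normalizer_iff.mp hyT (w : G)))
      · rw [← map_inv, ← map_inv, ← map_mul, ← map_mul]; congr 1; exact Subtype.ext hxy
      · rintro _ ⟨t, ht, rfl⟩
        rw [← map_pow, ← map_inv, ← map_mul, ← map_mul]; congr 1
        refine Subtype.ext ?_
        show y ^ 3 * (t : G) * (y ^ 3)⁻¹ = t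
        rw [← Subgroup.mem_centralizer_iff.mp h3 (t : G) ht, mul_inv_cancel_right]
      · by_contra hno
        push Not at hno
        apply hc
        refine CoprimeAction.le_centralizer_of_frattini (A := Subgroup.zpowers y) (K := T)
          (Subgroup.zpowers_le.mpr hyT) ?_ ?_ (Subgroup.mem_zpowers y)
        · rw [Nat.card_zpowers, hy]
          obtain ⟨j, hj⟩ := IsPGroup.iff_card.mp (hT.to_subgroup (frattini ↥T))
          rw [hj]
          exact Nat.Coprime.pow _ _ (by norm_num)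
        · intro a ha t ht
          have hfix : ∀ s : ↥N, (s : G) ∈ T → Commute (π ⟨y, hyT⟩) (π s) := fun s hs =>
            mul_inv_eq_iff_eq_mul.mp (hno _ ⟨s, hs, rfl⟩)
          obtain ⟨j, rfl⟩ := Subgroup.mem_zpowers_iff.mp ha
          have h1 := ((hfix ⟨t, hTN ht⟩ ht).zpow_left j).eq
          rw [← map_zpow, ← mul_inv_eq_one, ← map_mul, ← map_mul, ← map_inv, ← map_mul, hone] at h1
          show y ^ j * t * (y ^ j)⁻¹ * t⁻¹ ∈ D
          simpa [mul_assoc, -Subgroup.mem_map, D] using h1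
    · refine ih (y ^ 3) ?_ (Subgroup.pow_mem _ hyT 3) (by rw [← conj_pow, hxy, inv_pow]) h3
      rw [orderOf_pow, hy, Nat.gcd_eq_right (dvd_pow_self 3 (Nat.succ_ne_zero k)), pow_succ,
        Nat.mul_div_cancel _ (by norm_num : 0 < 3)]

/-- Action of `S₄` on the three pairings. -/
def idx (a b : Fin 4) : Fin 3 :=
  if a = 3 then ⟨b.val % 3, by omega⟩ else if b = 3 then ⟨a.val % 3, by omega⟩ else ⟨(6 - a.val - b.val) % 3, by omega⟩

/-- Image of a pairing. -/
def pairMap (σ : Equiv.Perm (Fin 4)) (i : Fin 3) : Fin 3 := idx (σ i.castSucc) (σ 3)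

theorem pairMap_mul : ∀ σ τ : Equiv.Perm (Fin 4), ∀ i, pairMap (σ * τ) i = pairMap σ (pairMap τ i) := by
  decide

theorem pairMap_one : ∀ i, pairMap 1 i = i := by decide

/-- `S₄ → S₃`. -/
def chi : Equiv.Perm (Fin 4) →* Equiv.Perm (Fin 3) where
  toFun σ :=
    { toFun := pairMap σ
      invFun := pairMap σ⁻¹
      left_inv := fun i => by rw [← pairMap_mul, inv_mul_cancel, pairMap_one]
      right_inv := fun i => by rw [← pairMap_mul, mul_inv_cancel, pairMap_one] }
  map_one' := Equiv.ext pairMap_one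
  map_mul' σ τ := Equiv.ext (pairMap_mul σ τ)

theorem chi_surjective : Function.Surjective chi := by
  unfold Function.Surjective; decide

theorem chi_centralizer : ∀ σ : Equiv.Perm (Fin 4), (∀ v, chi v = 1 → σ * v = v * σ) → chi σ = 1 := by
  decide

theorem exists_of_involves (h : Cfsg.Involves (Equiv.Perm (Fin 4)) G) :
    ∃ T : Subgroup G, IsPGroup 2 ↥T ∧ Cfsg.Involves (Equiv.Perm (Fin 3))
      (↥(Subgroup.normalizer (T : Set G)) ⧸ (Subgroup.centralizer (T : Set G)).subgroupOf (Subgroup.normalizer (T : Set G))) := by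
  haveI : Fact (Nat.Prime 2) := ⟨Nat.prime_two⟩
  obtain ⟨K, R, hR, ⟨e⟩⟩ := h
  let ψ : ↥K →* Equiv.Perm (Fin 4) := e.toMonoidHom.comp (QuotientGroup.mk' _)
  have hψ : Function.Surjective ψ := e.surjective.comp (QuotientGroup.mk'_surjective _)
  set V := (chi : Equiv.Perm (Fin 4) →* Equiv.Perm (Fin 3)).ker with hV
  set N := V.comap ψ
  obtain ⟨Y⟩ : Nonempty (Sylow 2 ↥N) := inferInstance
  set Y' : Subgroup ↥K := (Y : Subgroup ↥N).map N.subtype
  set T := Y'.map K.subtype with hTdef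
  have hVp : IsPGroup 2 ↥V := IsPGroup.of_card (n := 2) (by
    have h1 := V.card_mul_index
    rw [hV, Subgroup.index_ker, MonoidHom.range_eq_top.mpr chi_surjective, Subgroup.card_top, Nat.card_perm,
      Nat.card_perm, Nat.card_fin, Nat.card_fin] at h1
    rw [← hV] at h1
    norm_num [Nat.factorial, -Nat.card_eq_fintype_card] at h1 ⊢
    omega)
  have hYV : Y'.map ψ = V := by
    have hsurj : Function.Surjective (ψ.subgroupComap V) := fun ⟨d, hd⟩ => by
      obtain ⟨k, rfl⟩ := hψ d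
      exact ⟨⟨k, hd⟩, rfl⟩
    have htop : ((Y.mapSurjective hsurj : Sylow 2 V) : Subgroup V) = ⊤ :=
      ((Y.mapSurjective hsurj).3 (hVp.to_subgroup ⊤) le_top).symm
    have e1 : Y'.map ψ = ((Y : Subgroup ↥N).map (ψ.subgroupComap V)).map V.subtype := by
      rw [Subgroup.map_map, Subgroup.map_map]; rfl
    rw [e1, ← Sylow.coe_mapSurjective hsurj, htop, ← MonoidHom.range_eq_map, Subgroup.range_subtype]
  refine ⟨T, (Y.2.map _).map _, ?_⟩
  set NK := Subgroup.normalizer (Y' : Set ↥K)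
  have hmem : ∀ k : ↥NK, ((k : ↥K) : G) ∈ Subgroup.normalizer (T : Set G) := fun k =>
    Subgroup.le_normalizer_map _ (Subgroup.mem_map_of_mem K.subtype k.2)
  let η : ↥NK →* ↥(Subgroup.normalizer (T : Set G)) := (K.subtype.comp NK.subtype).codRestrict _ hmem
  let q := (QuotientGroup.mk' ((Subgroup.centralizer (T : Set G)).subgroupOf (Subgroup.normalizer (T : Set G)))).comp η
  let φ : ↥NK →* Equiv.Perm (Fin 3) := chi.comp (ψ.comp NK.subtype)
  have hker : q.rangeRestrict.ker ≤ φ.ker := by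
    intro k hk
    rw [MonoidHom.ker_rangeRestrict, MonoidHom.mem_ker] at hk
    have hkC : ((k : ↥K) : G) ∈ Subgroup.centralizer (T : Set G) :=
      Subgroup.mem_subgroupOf.mp ((QuotientGroup.eq_one_iff (η k)).mp hk)
    refine MonoidHom.mem_ker.mpr (chi_centralizer _ fun v hv => ?_)
    obtain ⟨w, hw, rfl⟩ : v ∈ Y'.map ψ := hYV ▸ hv
    have h1 : w * (k : ↥K) = (k : ↥K) * w :=
      Subtype.ext (Subgroup.mem_centralizer_iff.mp hkC _ (Subgroup.mem_map_of_mem K.subtype hw))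
    show ψ (k : ↥K) * ψ w = ψ w * ψ (k : ↥K)
    rw [← map_mul, ← map_mul, h1]
  let ψ' : ↥q.range →* Equiv.Perm (Fin 3) :=
    q.rangeRestrict.liftOfSurjective q.rangeRestrict_surjective ⟨φ, hker⟩
  have hψ' : Function.Surjective ψ' := by
    intro s
    obtain ⟨σ, rfl⟩ := chi_surjective s
    obtain ⟨k, rfl⟩ := hψ σ
    obtain ⟨a, ha, b, hb, rfl⟩ := Subgroup.mem_sup_of_normal_right.mp
      (Y.normalizer_sup_eq_top ▸ Subgroup.mem_top k : k ∈ NK ⊔ N)
    refine ⟨q.rangeRestrict ⟨a, ha⟩, ?_⟩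
    rw [MonoidHom.liftOfRightInverse_comp_apply]
    show chi (ψ a) = chi (ψ (a * b))
    rw [map_mul, map_mul, show chi (ψ b) = 1 from hb, mul_one]
  exact QuadraticQd.exists_section ⟨q.range, ψ', hψ'⟩

/-- For a finite group G, the symmetric group of degree 4 is involved in G if and only if there is a 2-subgroup T of G such that the symmetric group of degree 3 is involved in N(T)/C(T). -/
theorem result {G : Type*} [Group G] [Finite G] : Cfsg.Involves (Equiv.Perm (Fin 4)) G ↔ ∃ T : Subgroup G, IsPGroup 2 ↥T ∧ Cfsg.Involves (Equiv.Perm (Fin 3)) (↥(Subgroup.normalizer (T : Set G)) ⧸ (Subgroup.centralizer (T : Set G)).subgroupOf (Subgroup.normalizer (T : Set G))) := by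
  refine ⟨exists_of_involves, fun ⟨T, hT, h⟩ => ?_⟩
  obtain ⟨K, ψ, hψ⟩ := QdStability56.hasSection_of_involves h
  set N := Subgroup.normalizer (T : Set G)
  set C := (Subgroup.centralizer (T : Set G)).subgroupOf N
  let f : ↥(K.comap (QuotientGroup.mk' C)) →* ↥K := (QuotientGroup.mk' C).subgroupComap K
  have hf : Function.Surjective f := by
    rintro ⟨q, hq⟩
    obtain ⟨n, rfl⟩ := QuotientGroup.mk'_surjective C q
    exact ⟨⟨n, hq⟩, rfl⟩
  obtain ⟨x, y, ⟨i, hx⟩, ⟨k, hy⟩, hxy, hψy⟩ := inverted_three (ψ.comp f) (hψ.comp hf)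
  refine of_inverted T hT ((x : ↥N) : G) ⟨i, by simpa [Subgroup.orderOf_coe] using hx⟩ (x : ↥N).2 k
    ((y : ↥N) : G) (by simpa [Subgroup.orderOf_coe] using hy) (y : ↥N).2
    (congrArg (fun z : ↥(K.comap (QuotientGroup.mk' C)) => ((z : ↥N) : G)) hxy) fun hc => hψy ?_
  have : f y = 1 := Subtype.ext ((QuotientGroup.eq_one_iff _).mpr (Subgroup.mem_subgroupOf.mpr hc))
  rw [MonoidHom.comp_apply, this, map_one]

end Cfsg.Agent.S2759
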