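import Cfsg.Statements.S2761
import Cfsg.Agent.Lib.QdStructure56

set_option autoImplicit false
open Cfsg

set_option linter.all false

namespace Cfsg.Agent.S2761
open Matrix hiding vec
open Cfsg.Agent.QdStructure56
open scoped MatrixGroups Pointwise

/-- The group Qd(2), the natural semidirect product of an elementary abelian group of order 4 by SL₂(2) (realised as the affine subgroup of SL₃(2)), is isomorphic to the symmetric group of degree 4. -/
theorem result : Nonempty (↥(Cfsg.qd 2) ≃* Equiv.Perm (Fin 4)) := by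
  classical
  have hq : Cfsg.qd 2 = Cfsg.qdOver (ZMod 2) := rfl
  rw [hq]
  let act : Qd (ZMod 2) → Equiv.Perm (Fin 2 → ZMod 2) := fun M =>
    { toFun := fun v => (blk M).1 *ᵥ v + vec M
      invFun := fun v => (blk M⁻¹).1 *ᵥ v + vec M⁻¹
      left_inv := fun v => by
        show (blk M⁻¹).1 *ᵥ ((blk M).1 *ᵥ v + vec M) + vec M⁻¹ = v
        rw [Matrix.mulVec_add, Matrix.mulVec_mulVec, ← coeMul, ← map_mul, inv_mul_cancel, map_one,
          coeOne, Matrix.one_mulVec, add_assoc, ← vec_mul, inv_mul_cancel, vec_one, add_zero]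
      right_inv := fun v => by
        show (blk M).1 *ᵥ ((blk M⁻¹).1 *ᵥ v + vec M⁻¹) + vec M = v
        rw [Matrix.mulVec_add, Matrix.mulVec_mulVec, ← coeMul, ← map_mul, mul_inv_cancel, map_one,
          coeOne, Matrix.one_mulVec, add_assoc, ← vec_mul, mul_inv_cancel, vec_one, add_zero] }
  let f : Qd (ZMod 2) →* Equiv.Perm (Fin 2 → ZMod 2) :=
    { toFun := act
      map_one' := by
        refine Equiv.ext fun v => ?_
        show (blk (1 : Qd (ZMod 2))).1 *ᵥ v + vec (1 : Qd (ZMod 2)) = v
        rw [map_one, coeOne, Matrix.one_mulVec, vec_one, add_zero]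
      map_mul' := fun A B => by
        refine Equiv.ext fun v => ?_
        show (blk (A * B)).1 *ᵥ v + vec (A * B) = (blk A).1 *ᵥ ((blk B).1 *ᵥ v + vec B) + vec A
        rw [map_mul, coeMul, vec_mul, Matrix.mulVec_add, Matrix.mulVec_mulVec, add_assoc] }
  have hinj : Function.Injective f := by
    intro A B h
    have hv : ∀ v, (blk A).1 *ᵥ v + vec A = (blk B).1 *ᵥ v + vec B := fun v => DFunLike.congr_fun h v
    have h0 : vec A = vec B := by simpa using hv 0
    refine ext_blk_vec (Subtype.ext (Matrix.ext_iff_mulVec.2 fun v => ?_)) h0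
    have := hv v
    rw [h0] at this
    exact add_right_cancel this
  let e : Qd (ZMod 2) ≃ SL(2, ZMod 2) × (Fin 2 → ZMod 2) :=
    { toFun := fun M => (blk M, vec M)
      invFun := fun x => QdStructure56.mk x.1 x.2
      left_inv := mk_blk_vec
      right_inv := fun x => by simp }
  have hcard : Nat.card (Qd (ZMod 2)) = Nat.card (Equiv.Perm (Fin 2 → ZMod 2)) := by
    rw [Nat.card_congr e, Nat.card_prod, PSLCard.card_SL2, Nat.card_perm]
    simp [Nat.card_eq_fintype_card, Nat.factorial]
  let e4 : (Fin 2 → ZMod 2) ≃ Fin 4 := Fintype.equivFinOfCardEq (by simp)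
  exact ⟨(MulEquiv.ofBijective f ((Nat.bijective_iff_injective_and_card f).mpr ⟨hinj, hcard⟩)).trans
    e4.permCongrHom⟩

end Cfsg.Agent.S2761
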