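import Cfsg.Statements.S1349
import Cfsg.Agent.Lib.HallSolvable
import Cfsg.Agent.Lib.CoprimeAction
import Cfsg.Agent.Lib.OddLocalBase
import Cfsg.Agent.Lib.ComponentsFitting
import Cfsg.Agent.Lib.PGroupsBasic

set_option autoImplicit false
open Cfsg

namespace Cfsg.Agent.S1349

variable {G : Type*} [Group G]

/-- `a` fixes or inverts `x`. -/
def Eig (a x : G) : Prop := a * x * a⁻¹ = x ∨ a * x * a⁻¹ = x⁻¹

theorem pow_zmod_val {n : ℕ} [NeZero n] {x : G} (hx : x ^ n = 1) (i : ZMod n) (k : ℤ)
    (hk : (k : ZMod n) = i) : x ^ k = x ^ i.val := by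
  have h2 : (n : ℤ) ∣ k - (i.val : ℤ) := by
    rw [← ZMod.intCast_zmod_eq_zero_iff_dvd, Int.cast_sub, hk, Int.cast_natCast, ZMod.natCast_zmod_val, sub_self]
  obtain ⟨m, hm⟩ := h2
  rw [show k = (i.val : ℤ) + n * m by omega, zpow_add, zpow_mul, zpow_natCast, zpow_natCast, hx, one_zpow, mul_one]

/-- A dihedral pair generates a dihedral group. -/
theorem dihedral_iso {a x : G} {n : ℕ} (hn : 3 ≤ n) (hodd : Odd n) (hx : orderOf x = n) (ha : orderOf a = 2)
    (hax : a * x * a⁻¹ = x⁻¹) :
    Nonempty (↥(Subgroup.zpowers a ⊔ Subgroup.zpowers x) ≃* DihedralGroup n) := by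
  haveI : NeZero n := ⟨by omega⟩
  have hxn : x ^ n = 1 := hx ▸ pow_orderOf_eq_one x
  have ha2 : a * a = 1 := by rw [← pow_two, ← ha]; exact pow_orderOf_eq_one a
  have hconj : ∀ k : ℤ, x ^ k * a = a * x ^ (-k) := by
    intro k
    have h1 : MulAut.conj a (x ^ (-k)) = x ^ k := by
      rw [map_zpow, MulAut.conj_apply, hax, inv_zpow', neg_neg]
    rw [MulAut.conj_apply, mul_inv_eq_iff_eq_mul] at h1
    exact h1.symm
  let f : DihedralGroup n → G := fun d => match d with
    | DihedralGroup.r i => x ^ i.val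
    | DihedralGroup.sr i => a * x ^ i.val
  have hmul : ∀ d e : DihedralGroup n, f (d * e) = f d * f e := by
    rintro (i | i) (j | j)
    · show x ^ (i + j).val = x ^ i.val * x ^ j.val
      rw [← pow_zmod_val hxn (i + j) ((i.val : ℤ) + j.val) (by simp [ZMod.natCast_zmod_val]),
        zpow_add, zpow_natCast, zpow_natCast]
    · show a * x ^ (j - i).val = x ^ i.val * (a * x ^ j.val)
      rw [← mul_assoc, ← zpow_natCast x i.val, hconj, mul_assoc, ← zpow_natCast x j.val, ← zpow_add,
        ← pow_zmod_val hxn (j - i) (-(i.val : ℤ) + j.val) (by simp [ZMod.natCast_zmod_val]; ring)]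
    · show a * x ^ (i + j).val = a * x ^ i.val * x ^ j.val
      rw [mul_assoc, ← pow_zmod_val hxn (i + j) ((i.val : ℤ) + j.val) (by simp [ZMod.natCast_zmod_val]),
        zpow_add, zpow_natCast, zpow_natCast]
    · show x ^ (j - i).val = a * x ^ i.val * (a * x ^ j.val)
      rw [mul_assoc, ← mul_assoc (x ^ i.val), ← zpow_natCast x i.val, hconj, ← mul_assoc, ← mul_assoc,
        ha2, one_mul, ← zpow_natCast x j.val, ← zpow_add,
        ← pow_zmod_val hxn (j - i) (-(i.val : ℤ) + j.val) (by simp [ZMod.natCast_zmod_val]; ring)]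
  let φ : DihedralGroup n →* G := MonoidHom.mk' f hmul
  have hnotpow : ∀ k : ℤ, a ≠ x ^ k := by
    intro k hk
    have h1 : a * x * a⁻¹ = x := by
      rw [hk, ← zpow_one x, ← zpow_mul, one_mul, ← zpow_add, ← zpow_neg, ← zpow_add]
      congr 1
      ring
    rw [hax] at h1
    have h2 : x ^ 2 = 1 := by
      rw [pow_two]
      nth_rw 1 [← h1]
      exact inv_mul_cancel x
    have := Nat.le_of_dvd (by norm_num) (orderOf_dvd_of_pow_eq_one h2)
    omega
  have hinj : Function.Injective φ := by
    rw [injective_iff_map_eq_one]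
    rintro (i | i) h
    · have h1 : x ^ i.val = 1 := h
      have hd := orderOf_dvd_of_pow_eq_one h1
      rw [hx] at hd
      have : i.val = 0 := Nat.eq_zero_of_dvd_of_lt hd (ZMod.val_lt i)
      rw [(ZMod.val_eq_zero i).mp this]
      rfl
    · have h1 : a * x ^ i.val = 1 := h
      exfalso
      apply hnotpow (-(i.val : ℤ))
      rw [zpow_neg, zpow_natCast]
      exact eq_inv_of_mul_eq_one_left h1
  have hrange : φ.range = Subgroup.zpowers a ⊔ Subgroup.zpowers x := by
    refine le_antisymm ?_ (sup_le (Subgroup.zpowers_le.mpr ⟨DihedralGroup.sr 0, ?_⟩)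
      (Subgroup.zpowers_le.mpr ⟨DihedralGroup.r 1, ?_⟩))
    · rintro _ ⟨(i | i), rfl⟩
      · exact Subgroup.mem_sup_right (Subgroup.pow_mem _ (Subgroup.mem_zpowers x) _)
      · exact Subgroup.mul_mem_sup (Subgroup.mem_zpowers a) (Subgroup.pow_mem _ (Subgroup.mem_zpowers x) _)
    · show a * x ^ (0 : ZMod n).val = a
      simp
    · show x ^ (1 : ZMod n).val = x
      haveI : Fact (1 < n) := ⟨by omega⟩
      simp [ZMod.val_one]
  exact ⟨((MonoidHom.ofInjective hinj).trans (MulEquiv.subgroupCongr hrange)).symm⟩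

/-- A weight element below a given one. -/
theorem exists_weight (W : Subgroup G) (hW : IsMulCommutative W) (s : Finset G)
    (hs : ∀ b ∈ s, b ^ 2 = 1 ∧ ∀ w ∈ W, b * w * b⁻¹ ∈ W) (hcomm : ∀ b ∈ s, ∀ c ∈ s, b * c = c * b)
    {v : G} (hv : v ∈ W) (hv1 : v ≠ 1) :
    ∃ w ∈ W, w ≠ 1 ∧ (∀ b ∈ s, Eig b w) ∧
      ∀ a : G, (∀ b ∈ s, a * b = b * a) → a * v * a⁻¹ = v⁻¹ → a * w * a⁻¹ = w⁻¹ := by
  classical
  induction s using Finset.induction_on generalizing v with
  | empty => exact ⟨v, hv, hv1, by simp, fun a _ h => h⟩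
  | @insert c t hct ih =>
    obtain ⟨w, hw, hw1, heig, hinv⟩ := ih (fun b hb => hs b (Finset.mem_insert_of_mem hb))
      (fun b hb b' hb' => hcomm b (Finset.mem_insert_of_mem hb) b' (Finset.mem_insert_of_mem hb')) hv hv1
    have hcw : c * w * c⁻¹ ∈ W := (hs c (Finset.mem_insert_self c t)).2 w hw
    have hc2 := (hs c (Finset.mem_insert_self c t)).1
    have hWc : Commute w (c * w * c⁻¹) :=
      congrArg Subtype.val (hW.is_comm.comm (⟨w, hw⟩ : W) ⟨_, hcw⟩)
    by_cases h : w * (c * w * c⁻¹) = 1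
    · refine ⟨w, hw, hw1, fun b hb => ?_, fun a ha h => hinv a (fun b hb => ha b (Finset.mem_insert_of_mem hb)) h⟩
      rcases Finset.mem_insert.mp hb with rfl | hb
      · exact Or.inr (eq_inv_of_mul_eq_one_right h)
      · exact heig b hb
    · refine ⟨w * (c * w * c⁻¹), W.mul_mem hw hcw, h, fun b hb => ?_, fun a ha hai => ?_⟩
      · rcases Finset.mem_insert.mp hb with rfl | hb
        · left
          have hb' : b⁻¹ = b := inv_eq_of_mul_eq_one_left (by rw [← pow_two, hc2])
          calc b * (w * (b * w * b⁻¹)) * b⁻¹ = b * w * b⁻¹ * (b * b * w * (b⁻¹ * b⁻¹)) := by group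
            _ = b * w * b⁻¹ * w := by rw [hb', ← pow_two, hc2]; group
            _ = w * (b * w * b⁻¹) := hWc.eq.symm
        · have hbc : Commute b c := hcomm b (Finset.mem_insert_of_mem hb) c (Finset.mem_insert_self c t)
          have hswap : b * (c * w * c⁻¹) * b⁻¹ = c * (b * w * b⁻¹) * c⁻¹ := by
            calc b * (c * w * c⁻¹) * b⁻¹ = (b * c) * w * (b * c)⁻¹ := by group
              _ = (c * b) * w * (c * b)⁻¹ := by rw [hbc.eq]
              _ = c * (b * w * b⁻¹) * c⁻¹ := by group
          have e : b * (w * (c * w * c⁻¹)) * b⁻¹ = (b * w * b⁻¹) * (b * (c * w * c⁻¹) * b⁻¹) := by group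
          rcases heig b hb with hbw | hbw
          · left; rw [e, hswap, hbw]
          · right
            rw [e, hswap, hbw, hWc.eq]
            group
      · have hac : Commute a c := ha c (Finset.mem_insert_self c t)
        have haw := hinv a (fun b hb => ha b (Finset.mem_insert_of_mem hb)) hai
        have hswap : a * (c * w * c⁻¹) * a⁻¹ = c * (a * w * a⁻¹) * c⁻¹ := by
          calc a * (c * w * c⁻¹) * a⁻¹ = (a * c) * w * (a * c)⁻¹ := by group
            _ = (c * a) * w * (c * a)⁻¹ := by rw [hac.eq]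
            _ = c * (a * w * a⁻¹) * c⁻¹ := by group
        have e : a * (w * (c * w * c⁻¹)) * a⁻¹ = (a * w * a⁻¹) * (a * (c * w * c⁻¹) * a⁻¹) := by group
        rw [e, hswap, haw, hWc.eq]
        group

variable [Finite G]

/-- A faithful abelian invariant subgroup of the Fitting subgroup. -/
theorem exists_faithful_abelian (L A : Subgroup G) (hLs : Group.IsSolvable L) (hLodd : Odd (Nat.card L))
    (hA : IsElementaryAbelian 2 A) (hAL : A ≤ Subgroup.normalizer (L : Set G))
    (hfaith : A ⊓ Subgroup.centralizer (L : Set G) = ⊥) :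
    ∃ E : Subgroup G, E ≤ L ∧ IsMulCommutative E ∧ A ≤ Subgroup.normalizer (E : Set G) ∧
      A ⊓ Subgroup.centralizer (E : Set G) = ⊥ := by
  classical
  haveI := Fintype.ofFinite G
  haveI := hLs
  set F := (fittingSubgroup L).map L.subtype with hF
  have hFL : F ≤ L := Subgroup.map_subtype_le _
  have hAF : A ≤ Subgroup.normalizer (F : Set G) :=
    hAL.trans (ComponentsCores.normalizer_le_normalizer_map_subtype L (fittingSubgroup L))
  have hAcop : ∀ D : Subgroup G, D ≤ L → ∀ a ∈ A, (Nat.card (Subgroup.zpowers a)).Coprime (Nat.card D) := by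
    intro D hD a ha
    rw [Nat.card_zpowers]
    exact Nat.Coprime.coprime_dvd_left (orderOf_dvd_of_pow_eq_one (hA.2 a ha))
      (Nat.coprime_two_left.mpr (Odd.of_dvd_nat hLodd (Subgroup.card_dvd_of_le hD)))
  obtain ⟨E, -, hE⟩ := Finite.exists_le_maximal
    (p := fun E : Subgroup G => E ≤ F ∧ IsMulCommutative E ∧ A ≤ Subgroup.normalizer (E : Set G))
    (a := ⊥) ⟨bot_le, inferInstance, fun a _ => Subgroup.mem_normalizer_iff.mpr fun x => by simp [Subgroup.mem_bot]⟩
  obtain ⟨hEF, hEc, hEA⟩ := hE.1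
  refine ⟨E, hEF.trans hFL, hEc, hEA, ?_⟩
  haveI hFn : Group.IsNilpotent F := (ComponentsCores.isNilpotent_map_subtype_iff _).mpr inferInstance
  set C := F ⊓ Subgroup.centralizer (E : Set G) with hC
  have hEC : E ≤ C := le_inf hEF fun x hx y hy =>
    congrArg Subtype.val (hEc.is_comm.comm (⟨y, hy⟩ : E) ⟨x, hx⟩)
  have hAC : A ≤ Subgroup.normalizer (C : Set G) := by
    refine CoprimeAction.le_normalizer_inf hAF (CoprimeAction.le_normalizer_of_conj_mem fun a ha b hb x hx => ?_)
    have h := hb _ (CoprimeAction.conj_mem' (hEA ha) hx)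
    calc x * (a * b * a⁻¹) = a * (a⁻¹ * x * a * b) * a⁻¹ := by group
      _ = a * (b * (a⁻¹ * x * a)) * a⁻¹ := by rw [h]
      _ = a * b * a⁻¹ * x := by group
  have hCE : C ≤ E := by
    by_contra hne
    have hEn : (E.subgroupOf C).Normal := by
      refine ⟨fun e he c => ?_⟩
      rw [Subgroup.mem_subgroupOf] at he ⊢
      have hc : (e : G) * c = c * e := c.2.2 _ he
      simp only [Subgroup.coe_mul, InvMemClass.coe_inv]
      rw [← hc, mul_inv_cancel_right]
      exact he
    haveI := hEn
    haveI : Group.IsNilpotent C := ComponentsCores.nilpotent_of_le (inf_le_left : C ≤ F) hFn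
    let q := QuotientGroup.mk' (E.subgroupOf C)
    haveI : Nontrivial (C ⧸ E.subgroupOf C) := QuotientGroup.nontrivial_iff.mpr
      (fun h => hne (Subgroup.subgroupOf_eq_top.mp h))
    haveI : Nontrivial (Subgroup.center (C ⧸ E.subgroupOf C)) :=
      (Subgroup.nontrivial_iff_ne_bot _).2 (Group.IsNilpotent.center_ne_bot _)
    obtain ⟨⟨zb, hzb⟩, hz1⟩ := exists_ne (1 : Subgroup.center (C ⧸ E.subgroupOf C))
    set W := ((Subgroup.center (C ⧸ E.subgroupOf C)).comap q) with hW
    -- work with the images, using a weight vector in the abelian quotient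
    let conjC : A → (C ≃* C) := fun a =>
      { toFun := fun u => ⟨(a : G) * u * (a : G)⁻¹, CoprimeAction.conj_mem (hAC a.2) u.2⟩
        invFun := fun u => ⟨(a : G)⁻¹ * u * a, CoprimeAction.conj_mem' (hAC a.2) u.2⟩
        left_inv := fun u => Subtype.ext (show (a : G)⁻¹ * ((a : G) * u * (a : G)⁻¹) * a = (u : G) by group)
        right_inv := fun u => Subtype.ext (show (a : G) * ((a : G)⁻¹ * u * a) * (a : G)⁻¹ = (u : G) by group)
        map_mul' := fun u v => Subtype.ext (show (a : G) * (u * v : G) * (a : G)⁻¹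
          = (a : G) * u * (a : G)⁻¹ * ((a : G) * v * (a : G)⁻¹) by group) }
    have hmapE : ∀ a : A, (E.subgroupOf C).map (conjC a).toMonoidHom = E.subgroupOf C := fun a => by
      refine le_antisymm ?_ fun u hu => ?_
      · rintro _ ⟨u, hu, rfl⟩
        exact CoprimeAction.conj_mem (hEA a.2) hu
      · exact ⟨(conjC a).symm u, CoprimeAction.conj_mem' (hEA a.2) hu, (conjC a).apply_symm_apply u⟩
    -- sequential choice of a weight element
    have key : ∀ t : Finset A, ∃ y : C, q y ∈ Subgroup.center _ ∧ q y ≠ 1 ∧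
        ∀ a ∈ t, q (conjC a y) = q y ∨ q (conjC a y) = (q y)⁻¹ := by
      intro t
      induction t using Finset.induction_on with
      | empty =>
        obtain ⟨y, rfl⟩ := QuotientGroup.mk'_surjective _ zb
        exact ⟨y, hzb, fun h => hz1 (Subtype.ext h), by simp⟩
      | @insert c t hct ih =>
        obtain ⟨y, hyc, hy1, hyw⟩ := ih
        have hqc : ∀ (a : A) (u : C), q (conjC a u) = QuotientGroup.congr _ _ (conjC a) (hmapE a) (q u) :=
          fun a u => rfl
        have hcen : q (conjC c y) ∈ Subgroup.center _ := by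
          rw [hqc]
          rw [Subgroup.mem_center_iff] at hyc ⊢
          intro u
          apply (QuotientGroup.congr _ _ (conjC c) (hmapE c)).symm.injective
          rw [map_mul, map_mul, MulEquiv.symm_apply_apply]
          exact hyc _
        by_cases h : q (y * conjC c y) = 1
        · refine ⟨y, hyc, hy1, fun a ha => ?_⟩
          rcases Finset.mem_insert.mp ha with rfl | ha
          · right
            rw [map_mul] at h
            exact eq_inv_of_mul_eq_one_right h
          · exact hyw a ha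
        · refine ⟨y * conjC c y, by rw [map_mul]; exact mul_mem hyc hcen, h, fun a ha => ?_⟩
          rcases Finset.mem_insert.mp ha with rfl | ha
          · left
            have h2 : conjC a (conjC a y) = y := by
              apply Subtype.ext
              show (a : G) * ((a : G) * y * (a : G)⁻¹) * (a : G)⁻¹ = y
              have : (a : G)⁻¹ = a := inv_eq_of_mul_eq_one_left (by rw [← pow_two, hA.2 a a.2])
              rw [this]
              calc (a : G) * (a * y * a) * a = (a * a) * y * (a * a) := by group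
                _ = y := by rw [← pow_two, hA.2 a a.2, one_mul, mul_one]
            rw [map_mul (conjC a), h2, map_mul, map_mul]
            exact (Subgroup.mem_center_iff.mp hyc _)
          · have hswap : conjC a (conjC c y) = conjC c (conjC a y) := by
              apply Subtype.ext
              show (a : G) * ((c : G) * y * (c : G)⁻¹) * (a : G)⁻¹ = (c : G) * ((a : G) * y * (a : G)⁻¹) * (c : G)⁻¹
              have hac : (a : G) * c = c * a := congrArg Subtype.val (hA.1.is_comm.comm a c)
              calc (a : G) * ((c : G) * y * (c : G)⁻¹) * (a : G)⁻¹ = (a * c : G) * y * (a * c : G)⁻¹ := by group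
                _ = (c * a : G) * y * (c * a : G)⁻¹ := by rw [hac]
                _ = _ := by group
            rw [map_mul (conjC a), hswap, map_mul, map_mul, hqc c (conjC a y), hqc c y]
            rcases hyw a ha with h | h <;> rw [h]
            · exact Or.inl rfl
            · right
              rw [map_inv, mul_inv_rev]
              exact Subgroup.mem_center_iff.mp (inv_mem (hqc c y ▸ hcen)) _
    obtain ⟨y, -, hy1, hyw⟩ := key Finset.univ
    have hyE : (y : G) ∉ E := fun h => hy1 ((QuotientGroup.eq_one_iff y).mpr h)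
    set E' := E ⊔ Subgroup.zpowers (y : G) with hE'
    have hycomm : ∀ e ∈ E, Commute e (y : G) := fun e he => y.2.2 e he
    have hE'c : IsMulCommutative E' := by
      refine PGroupsBasic.isMulCommutative_of_le_centralizer ?_
      rw [hE', sup_le_iff, Subgroup.zpowers_le]
      refine ⟨fun e he => ?_, ?_⟩ <;>
        rw [Subgroup.sup_eq_closure, Subgroup.centralizer_closure, Subgroup.mem_centralizer_iff]
      · rintro b (hb | hb)
        · exact congrArg Subtype.val (hEc.is_comm.comm (⟨b, hb⟩ : E) ⟨e, he⟩)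
        · obtain ⟨k, rfl⟩ := Subgroup.mem_zpowers_iff.mp hb
          exact ((hycomm e he).zpow_right k).symm.eq
      · rintro b (hb | hb)
        · exact (hycomm b hb).eq
        · obtain ⟨k, rfl⟩ := Subgroup.mem_zpowers_iff.mp hb
          exact ((Commute.refl (y : G)).zpow_left k).eq
    have hE'A : A ≤ Subgroup.normalizer (E' : Set G) := by
      refine CoprimeAction.le_normalizer_of_conj_mem fun a ha b hb => ?_
      have hy' : a * (y : G) * a⁻¹ ∈ E' := by
        rcases hyw ⟨a, ha⟩ (Finset.mem_univ _) with h | h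
        · have h2 := QuotientGroup.eq.mp h.symm
          have : a * (y : G) * a⁻¹ = (y : G) * ((y : G)⁻¹ * (a * (y : G) * a⁻¹)) := by group
          rw [this]
          exact mul_mem (Subgroup.mem_sup_right (Subgroup.mem_zpowers _)) (Subgroup.mem_sup_left h2)
        · rw [← map_inv] at h
          have h2 := QuotientGroup.eq.mp h.symm
          rw [inv_inv] at h2
          have : a * (y : G) * a⁻¹ = (y : G)⁻¹ * ((y : G) * (a * (y : G) * a⁻¹)) := by group
          rw [this]
          exact mul_mem (inv_mem (Subgroup.mem_sup_right (Subgroup.mem_zpowers _))) (Subgroup.mem_sup_left h2)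
      have : E'.map (MulAut.conj a).toMonoidHom ≤ E' := by
        rw [hE', Subgroup.map_sup, MonoidHom.map_zpowers, sup_le_iff, Subgroup.zpowers_le]
        refine ⟨?_, hy'⟩
        rintro _ ⟨e, he, rfl⟩
        exact Subgroup.mem_sup_left (CoprimeAction.conj_mem (hEA ha) he)
      exact this ⟨b, hb, rfl⟩
    exact hyE (hE.2 ⟨sup_le hEF (Subgroup.zpowers_le.mpr y.2.1), hE'c, hE'A⟩ le_sup_left
      (Subgroup.mem_sup_right (Subgroup.mem_zpowers _)))
  -- faithfulness
  rw [eq_bot_iff]
  rintro a ⟨ha, haE⟩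
  rw [← hfaith]
  refine ⟨ha, ?_⟩
  have hza : Subgroup.zpowers a ≤ A := Subgroup.zpowers_le.mpr ha
  have haF : Subgroup.zpowers a ≤ Subgroup.centralizer (F : Set G) := by
    refine OddLocalBase.le_centralizer_of_centralizer_le F _ hFn (hza.trans hAF) (hAcop F hFL a ha) ?_
    have hEa : E ≤ F ⊓ Subgroup.centralizer (Subgroup.zpowers a : Set G) := le_inf hEF fun e he z hz => by
      obtain ⟨k, rfl⟩ := hz
      exact ((show Commute e a from haE e he).zpow_right k).symm.eq
    exact ((inf_le_inf_left F (Subgroup.centralizer_le hEa)).trans hCE).trans hEa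
  have hl : ∀ l ∈ L, l ∈ Subgroup.centralizer (Subgroup.zpowers a : Set G) := by
    intro l hl
    refine CoprimeAction.mem_centralizer_of_stabilizes (hAcop F hFL a ha) ?_ l fun b hb => ?_
    · intro f hf z hz
      exact (haF hz f hf).symm
    · have hbL : b * l * b⁻¹ ∈ L := CoprimeAction.conj_mem (hAL (hza hb)) hl
      have hmem : l⁻¹ * b * l * b⁻¹ ∈ L := by
        have := L.mul_mem (L.inv_mem hl) hbL
        simpa [mul_assoc] using this
      have hc : (⟨l⁻¹ * b * l * b⁻¹, hmem⟩ : L) ∈ Subgroup.centralizer (fittingSubgroup L : Set L) := by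
        intro f hf
        apply Subtype.ext
        show (f : G) * (l⁻¹ * b * l * b⁻¹) = l⁻¹ * b * l * b⁻¹ * f
        have hfl : l * (f : G) * l⁻¹ ∈ F :=
          ⟨⟨l, hl⟩ * f * ⟨l, hl⟩⁻¹, (inferInstance : (fittingSubgroup L).Normal).conj_mem f hf _, rfl⟩
        have h1 : Commute b (l * (f : G) * l⁻¹) := (haF hb _ hfl).symm
        have h2 : Commute b (f : G) := (haF hb _ ⟨f, hf, rfl⟩).symm
        calc (f : G) * (l⁻¹ * b * l * b⁻¹) = l⁻¹ * ((l * f * l⁻¹) * b) * l * b⁻¹ := by group
          _ = l⁻¹ * (b * (l * f * l⁻¹)) * l * b⁻¹ := by rw [h1.eq]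
          _ = l⁻¹ * b * l * ((f : G) * b⁻¹) := by group
          _ = l⁻¹ * b * l * (b⁻¹ * f) := by rw [h2.inv_left.eq]
          _ = l⁻¹ * b * l * b⁻¹ * f := by group
      exact ⟨_, HallSolvable.centralizer_fitting_le hc, rfl⟩
  exact fun l hl' => ((hl l hl') a (Subgroup.mem_zpowers a)).symm

/-- The inductive choice of involutions and weight elements. -/
theorem exists_pairs (A E : Subgroup G) (hA : IsElementaryAbelian 2 A) (hEc : IsMulCommutative E)
    (hEodd : Odd (Nat.card E)) (hAE : A ≤ Subgroup.normalizer (E : Set G))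
    (hfaith : A ⊓ Subgroup.centralizer (E : Set G) = ⊥) :
    ∀ (m : ℕ) (B : Subgroup G), B ≤ A → Nat.card B = 2 ^ m →
      ∃ (a x : Fin m → G), (∀ i, a i ∈ B ∧ orderOf (a i) = 2 ∧ x i ∈ E ∧ x i ≠ 1 ∧
        a i * x i * (a i)⁻¹ = (x i)⁻¹ ∧ ∀ b ∈ A, Eig b (x i)) ∧
        (∀ i j, i ≠ j → Commute (a i) (x j)) ∧ (⨆ i, Subgroup.zpowers (a i)) = B := by
  classical
  haveI := Fintype.ofFinite G
  have hAc : ∀ b ∈ A, ∀ c ∈ A, b * c = c * b := fun b hb c hc =>
    congrArg Subtype.val (hA.1.is_comm.comm (⟨b, hb⟩ : A) ⟨c, hc⟩)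
  have hinvA : ∀ b ∈ A, b⁻¹ = b := fun b hb => inv_eq_of_mul_eq_one_left (by rw [← pow_two, hA.2 b hb])
  intro m
  induction m with
  | zero =>
    intro B _ hB
    refine ⟨Fin.elim0, Fin.elim0, fun i => i.elim0, fun i => i.elim0, ?_⟩
    rw [iSup_of_empty, Subgroup.eq_bot_of_card_eq B (by simpa using hB)]
  | succ m ih =>
    intro B hBA hB
    obtain ⟨a₀, ha₀, ha₀1⟩ : ∃ a ∈ B, a ≠ 1 := B.bot_or_exists_ne_one.resolve_left fun h => by
      rw [h, Subgroup.card_bot] at hB
      have := Nat.one_lt_pow (Nat.succ_ne_zero m) (show 1 < 2 by norm_num)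
      omega
    have ha₀A := hBA ha₀
    obtain ⟨e, he, hea⟩ : ∃ e ∈ E, a₀ * e * a₀⁻¹ ≠ e := by
      by_contra hcon
      apply ha₀1
      have : a₀ ∈ A ⊓ Subgroup.centralizer (E : Set G) := ⟨ha₀A, fun e he => by
        by_contra hne
        exact hcon ⟨e, he, fun h => hne (mul_inv_eq_iff_eq_mul.mp h).symm⟩⟩
      rwa [hfaith, Subgroup.mem_bot] at this
    set v := e⁻¹ * (a₀ * e * a₀⁻¹) with hv
    have hvE : v ∈ E := E.mul_mem (E.inv_mem he) (CoprimeAction.conj_mem (hAE ha₀A) he)
    have hv1 : v ≠ 1 := fun h => hea (inv_mul_eq_one.mp h).symm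
    have hvinv : a₀ * v * a₀⁻¹ = v⁻¹ := by
      rw [hv, mul_inv_rev, inv_inv, hinvA a₀ ha₀A]
      calc a₀ * (e⁻¹ * (a₀ * e * a₀)) * a₀ = (a₀ * e⁻¹ * a₀) * e * (a₀ * a₀) := by group
        _ = (a₀ * e⁻¹ * a₀) * e := by rw [← pow_two, hA.2 a₀ ha₀A, mul_one]
        _ = (a₀ * e * a₀)⁻¹ * e := by
          rw [mul_inv_rev, mul_inv_rev, hinvA a₀ ha₀A, mul_assoc a₀ e⁻¹]
    obtain ⟨x, hx, hx1, heig, hinv⟩ := exists_weight E hEc (Finset.univ.filter (fun b => b ∈ A))
      (fun b hb => by
        simp only [Finset.mem_filter] at hb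
        exact ⟨hA.2 b hb.2, fun w hw => CoprimeAction.conj_mem (hAE hb.2) hw⟩)
      (fun b hb c hc => by
        simp only [Finset.mem_filter] at hb hc
        exact hAc b hb.2 c hc.2) hvE hv1
    have heig' : ∀ b ∈ A, Eig b x := fun b hb => heig b (by simp [hb])
    have ha₀x : a₀ * x * a₀⁻¹ = x⁻¹ := hinv a₀ (fun b hb => by
      simp only [Finset.mem_filter] at hb
      exact hAc a₀ ha₀A b hb.2) hvinv
    have hx2 : x⁻¹ ≠ x := by
      intro h
      apply hx1
      have h2 : x ^ 2 = 1 := by rw [pow_two]; nth_rw 1 [← h]; exact inv_mul_cancel x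
      have hd := Nat.eq_one_of_dvd_coprimes (Nat.coprime_two_left.mpr hEodd) (orderOf_dvd_of_pow_eq_one h2)
        (Subgroup.orderOf_dvd_natCard _ hx)
      exact orderOf_eq_one_iff.mp hd
    set B' := B ⊓ Subgroup.centralizer ({x} : Set G) with hB'
    have hB'mem : ∀ b : G, b ∈ B' ↔ b ∈ B ∧ b * x * b⁻¹ = x := fun b => by
      rw [hB', Subgroup.mem_inf, Subgroup.mem_centralizer_singleton_iff, mul_inv_eq_iff_eq_mul]
    have hconj : ∀ b c : G, (b * c) * x * (b * c)⁻¹ = b * (c * x * c⁻¹) * b⁻¹ := fun b c => by group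
    have hconjinv : ∀ b : G, b * x⁻¹ * b⁻¹ = (b * x * b⁻¹)⁻¹ := fun b => by group
    have hidx : B'.relIndex B = 2 := by
      refine Subgroup.relIndex_eq_two_iff.mpr ⟨a₀, ha₀, fun b hb => ?_⟩
      rcases heig' b (hBA hb) with h | h
      · refine Or.inr ⟨(hB'mem b).mpr ⟨hb, h⟩, fun hc => ?_⟩
        have h2 := ((hB'mem _).mp hc).2
        rw [hconj, ha₀x, hconjinv, h] at h2
        exact hx2 h2
      · refine Or.inl ⟨(hB'mem _).mpr ⟨B.mul_mem hb ha₀, by rw [hconj, ha₀x, hconjinv, h, inv_inv]⟩,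
          fun hc => ?_⟩
        rw [((hB'mem b).mp hc).2] at h
        exact hx2 h.symm
    have hB'c : Nat.card B' = 2 ^ m := by
      have h1 := HallCore.card_mul_relIndex (A := B') (B := B) inf_le_left
      rw [hidx, hB, pow_succ] at h1
      omega
    obtain ⟨a, y, hay, hcomm, hgen⟩ := ih B' (inf_le_left.trans hBA) hB'c
    -- adjust the first involution
    have hadj : ∀ t : Finset (Fin m), ∃ c ∈ B, c * x * c⁻¹ = x⁻¹ ∧ ∀ j ∈ t, c * y j * c⁻¹ = y j := by
      intro t
      induction t using Finset.induction_on with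
      | empty => exact ⟨a₀, ha₀, ha₀x, by simp⟩
      | @insert j t hjt iht =>
        obtain ⟨c, hc, hcx, hcy⟩ := iht
        obtain ⟨hajB, -, -, -, hajy, hyeig⟩ := hay j
        rcases hyeig c (hBA hc) with h | h
        · refine ⟨c, hc, hcx, fun k hk => ?_⟩
          rcases Finset.mem_insert.mp hk with rfl | hk
          · exact h
          · exact hcy k hk
        · refine ⟨c * a j, B.mul_mem hc hajB.1, ?_, fun k hk => ?_⟩
          · rw [hconj, ((hB'mem _).mp hajB).2, hcx]
          · rw [show c * a j * y k * (c * a j)⁻¹ = c * (a j * y k * (a j)⁻¹) * c⁻¹ by group]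
            rcases Finset.mem_insert.mp hk with rfl | hk
            · rw [hajy, show c * (y k)⁻¹ * c⁻¹ = (c * y k * c⁻¹)⁻¹ by group, h, inv_inv]
            · have hjk : j ≠ k := fun h => hjt (h ▸ hk)
              rw [(hcomm j k hjk).eq, mul_inv_cancel_right]
              exact hcy k hk
    obtain ⟨c, hc, hcx, hcy⟩ := hadj Finset.univ
    have hc1 : c ≠ 1 := fun h => hx2 (by rw [← hcx, h]; group)
    refine ⟨Fin.cons c a, Fin.cons x y, ?_, ?_, ?_⟩
    · intro i
      refine Fin.cases ?_ ?_ i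
      · simp only [Fin.cons_zero]
        exact ⟨hc, orderOf_eq_prime (hA.2 c (hBA hc)) hc1, hx, hx1, hcx, heig'⟩
      · intro k
        simp only [Fin.cons_succ]
        exact ⟨(hay k).1.1, (hay k).2⟩
    · intro i
      refine Fin.cases ?_ ?_ i
      · intro j
        refine Fin.cases ?_ ?_ j
        · intro h; exact absurd rfl h
        · intro k _
          simp only [Fin.cons_zero, Fin.cons_succ]
          exact mul_inv_eq_iff_eq_mul.mp (hcy k (Finset.mem_univ k))
      · intro k j
        refine Fin.cases ?_ ?_ j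
        · intro _
          simp only [Fin.cons_zero, Fin.cons_succ]
          exact mul_inv_eq_iff_eq_mul.mp ((hB'mem _).mp (hay k).1).2
        · intro l hne
          simp only [Fin.cons_succ]
          exact hcomm k l fun h => hne (h ▸ rfl)
    · apply le_antisymm
      · refine iSup_le fun i => ?_
        refine Fin.cases ?_ ?_ i
        · simpa using hc
        · intro k; simpa using (hay k).1.1
      · intro b hb
        set S := ⨆ i, Subgroup.zpowers ((Fin.cons c a : Fin (m + 1) → G) i) with hS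
        have hB'le : B' ≤ S := by
          rw [← hgen]
          exact iSup_le fun k => le_trans (by simp) (le_iSup _ k.succ)
        have hcS : c ∈ S := by
          have : Subgroup.zpowers c ≤ S := le_trans (by simp) (le_iSup _ 0)
          exact this (Subgroup.mem_zpowers c)
        rcases heig' b (hBA hb) with h | h
        · exact hB'le ((hB'mem b).mpr ⟨hb, h⟩)
        · have h2 : b * c ∈ S := hB'le ((hB'mem _).mpr
            ⟨B.mul_mem hb hc, by rw [hconj, hcx, hconjinv, h, inv_inv]⟩)
          have := S.mul_mem h2 (S.inv_mem hcS)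
          rwa [mul_inv_cancel_right] at this

/-- Let G be finite, L ≤ G solvable of odd order, and A an elementary abelian 2-subgroup of order 2^d (d ≥ 1) normalizing L with C_A(L) = 1. Then there are subgroups A_1, …, A_d of A of order 2 generating A and subgroups L_1, …, L_d of L such that each A_i ⊔ L_i is dihedral of order 2 n_i with n_i odd and at least 3, and A_i ⊔ L_i commutes elementwise with A_j ⊔ L_j for i ≠ j. -/
theorem result {G : Type*} [Group G] [Finite G] (L A : Subgroup G) (hLs : Group.IsSolvable ↥L) (hLodd : Odd (Nat.card ↥L)) (hA : Cfsg.IsElementaryAbelian 2 A) (d : ℕ) (hd : 1 ≤ d) (hAd : Nat.card ↥A = 2 ^ d) (hAL : A ≤ Subgroup.normalizer (L : Set G)) (hfaith : A ⊓ Subgroup.centralizer (L : Set G) = ⊥) : ∃ (Ai : Fin d → Subgroup G) (Li : Fin d → Subgroup G) (n : Fin d → ℕ), (∀ i, Ai i ≤ A ∧ Nat.card ↥(Ai i) = 2 ∧ Li i ≤ L ∧ Odd (n i) ∧ 3 ≤ n i ∧ Nonempty (↥(Ai i ⊔ Li i) ≃* DihedralGroup (n i))) ∧ (⨆ i, Ai i) = A ∧ ∀ i j, i ≠ j → ∀ x ∈ Ai i ⊔ Li i, ∀ y ∈ Ai j ⊔ Li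 j, x * y = y * x := by
  obtain ⟨E, hEL, hEc, hAE, hEfaith⟩ := exists_faithful_abelian L A hLs hLodd hA hAL hfaith
  have hEodd : Odd (Nat.card E) := Odd.of_dvd_nat hLodd (Subgroup.card_dvd_of_le hEL)
  obtain ⟨a, x, hax, hcomm, hgen⟩ := exists_pairs A E hA hEc hEodd hAE hEfaith d A le_rfl hAd
  refine ⟨fun i => Subgroup.zpowers (a i), fun i => Subgroup.zpowers (x i), fun i => orderOf (x i),
    fun i => ?_, hgen, fun i j hij => ?_⟩
  · obtain ⟨haA, ha2, hxE, hx1, hinv, -⟩ := hax i
    have hodd : Odd (orderOf (x i)) := Odd.of_dvd_nat hEodd (Subgroup.orderOf_dvd_natCard _ hxE)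
    have h3 : 3 ≤ orderOf (x i) := by
      have h1 : orderOf (x i) ≠ 1 := fun h => hx1 (orderOf_eq_one_iff.mp h)
      obtain ⟨k, hk⟩ := hodd
      omega
    exact ⟨Subgroup.zpowers_le.mpr haA, by rw [Nat.card_zpowers, ha2], Subgroup.zpowers_le.mpr (hEL hxE),
      hodd, h3, dihedral_iso h3 hodd rfl ha2 hinv⟩
  · have hle : Subgroup.zpowers (a i) ⊔ Subgroup.zpowers (x i) ≤
        Subgroup.centralizer ((Subgroup.zpowers (a j) ⊔ Subgroup.zpowers (x j) : Subgroup G) : Set G) := by
      have hgens : ∀ g : G, Commute g (a j) → Commute g (x j) →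
          g ∈ Subgroup.centralizer ((Subgroup.zpowers (a j) ⊔ Subgroup.zpowers (x j) : Subgroup G) : Set G) := by
        intro g h1 h2
        rw [Subgroup.sup_eq_closure, Subgroup.centralizer_closure, Subgroup.mem_centralizer_iff]
        rintro b (hb | hb) <;> obtain ⟨k, rfl⟩ := Subgroup.mem_zpowers_iff.mp hb
        · exact (h1.zpow_right k).symm.eq
        · exact (h2.zpow_right k).symm.eq
      refine sup_le (Subgroup.zpowers_le.mpr (hgens _ ?_ (hcomm i j hij)))
        (Subgroup.zpowers_le.mpr (hgens _ (hcomm j i hij.symm).symm ?_))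
      · exact congrArg Subtype.val (hA.1.is_comm.comm (⟨_, (hax i).1⟩ : A) ⟨_, (hax j).1⟩)
      · exact congrArg Subtype.val (hEc.is_comm.comm (⟨_, (hax i).2.2.1⟩ : E) ⟨_, (hax j).2.2.1⟩)
    intro u hu v hv
    exact (hle hu v hv).symm

end Cfsg.Agent.S1349
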