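import Mathlib
import Cfsg.Statements.S2904

set_option autoImplicit false
open Cfsg

namespace Cfsg.Agent.S2904

open Polynomial Finset

theorem two_pow_sub_two_ge (r : ℕ) (hr : 5 ≤ r) : r ≤ 2 ^ (r - 2) := by
  induction r, hr using Nat.le_induction with
  | base => norm_num
  | succ m hm ih =>
    rw [show m + 1 - 2 = (m - 2) + 1 by omega, pow_succ]; omega

theorem big (a r : ℕ) (ha : 2 ≤ a) (hr : 5 ≤ r) : r * (a + 1) + 1 < a ^ r := by
  have h1 := two_pow_sub_two_ge r hr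
  have h2 : 2 ^ (r - 2) ≤ a ^ (r - 2) := Nat.pow_le_pow_left ha _
  have h3 : a ^ r = a * a * a ^ (r - 2) := by
    rw [← pow_two, ← pow_add]; congr 1; omega
  nlinarith [Nat.mul_le_mul ha (le_refl a)]

theorem castReal (n : ℕ) (x : ℤ) :
    (((cyclotomic n ℤ).eval x : ℤ) : ℝ) = (cyclotomic n ℝ).eval (x : ℝ) := by
  have h := eval_intCast_map (Int.castRingHom ℝ) (cyclotomic n ℤ) x
  rw [map_cyclotomic, eq_intCast] at h
  exact h.symm

/-- A prime dividing `Φₙ(a)` is primitive, or is the exceptional one. -/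
theorem prime_dvd (a n r : ℕ) (hn : n ≠ 0) (hr : r.Prime)
    (h : (r : ℤ) ∣ (cyclotomic n ℤ).eval (a : ℤ)) :
    (r ∣ a ^ n - 1 ∧ ∀ k, 0 < k → k < n → ¬ r ∣ a ^ k - 1) ∨
      ∃ k m, n = r ^ k * m ∧ 1 ≤ k ∧ ¬ r ∣ m ∧ m ∣ r - 1 ∧ IsPrimitiveRoot (a : ZMod r) m := by
  haveI := Fact.mk hr
  obtain ⟨k, m, hm, hnm⟩ := Nat.exists_eq_pow_mul_and_not_dvd hn r hr.ne_one
  have hz : ((m : ℕ) : ZMod r) ≠ 0 := by rwa [Ne, ZMod.natCast_eq_zero_iff]
  haveI : NeZero ((m : ℕ) : ZMod r) := ⟨hz⟩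
  have hroot : (cyclotomic n (ZMod r)).IsRoot (a : ZMod r) := by
    have h' := eval_intCast_map (Int.castRingHom (ZMod r)) (cyclotomic n ℤ) (a : ℤ)
    rw [map_cyclotomic, eq_intCast, Int.cast_natCast] at h'
    rw [IsRoot.def, h']
    exact (ZMod.intCast_zmod_eq_zero_iff_dvd _ _).mpr h
  rw [hnm, isRoot_cyclotomic_prime_pow_mul_iff_of_charP] at hroot
  have hm0 : m ≠ 0 := fun h0 => hm (h0 ▸ dvd_zero r)
  have hne : (a : ZMod r) ≠ 0 := hroot.ne_zero hm0
  have ha1 : 1 ≤ a := Nat.one_le_iff_ne_zero.mpr (by rintro rfl; simp at hne)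
  have hdvd : ∀ j, r ∣ a ^ j - 1 ↔ m ∣ j := by
    intro j
    rw [← ZMod.natCast_eq_zero_iff, Nat.cast_sub (Nat.one_le_pow _ _ ha1), Nat.cast_pow,
      Nat.cast_one, sub_eq_zero, hroot.pow_eq_one_iff_dvd]
  rcases Nat.eq_zero_or_pos k with rfl | hk
  · left
    rw [pow_zero, one_mul] at hnm
    refine ⟨(hdvd n).mpr (hnm ▸ dvd_rfl), fun j hj hjn hd => ?_⟩
    have := Nat.le_of_dvd hj ((hdvd j).mp hd)
    omega
  · exact Or.inr ⟨k, m, hnm, hk, hm,
      hroot.dvd_of_pow_eq_one _ (ZMod.pow_card_sub_one_eq_one hne), hroot⟩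

theorem not_sq_dvd (a n r k m : ℕ) (ha : 1 < a) (hr : r.Prime) (hnm : n = r ^ k * m) (hk : 1 ≤ k)
    (hmr : m ∣ r - 1) (hroot : IsPrimitiveRoot (a : ZMod r) m) (hn3 : 3 ≤ n) :
    ¬ (r : ℤ) ^ 2 ∣ (cyclotomic n ℤ).eval (a : ℤ) := by
  intro hsq
  obtain ⟨k, rfl⟩ : ∃ j, k = j + 1 := ⟨k - 1, by omega⟩
  have hm0 : 0 < m := Nat.pos_of_ne_zero fun h => by simp [h] at hnm; omega
  set d := r ^ k * m with hd
  have hdn : n = d * r := by rw [hnm, hd, pow_succ]; ring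
  have hd0 : 0 < d := Nat.mul_pos (pow_pos hr.pos _) hm0
  have hprop : d ∈ n.properDivisors := by
    rw [Nat.mem_properDivisors, hdn]
    exact ⟨dvd_mul_right _ _, lt_mul_of_one_lt_right hd0 hr.one_lt⟩
  have hmul := Polynomial.eval_dvd (x := (a : ℤ))
    (X_pow_sub_one_mul_cyclotomic_dvd_X_pow_sub_one_of_dvd ℤ hprop)
  simp only [eval_mul, eval_sub, eval_pow, eval_X, eval_one] at hmul
  have hb1 : ((a : ℤ) ^ d) - 1 ≠ 0 := by
    have : (1 : ℤ) < (a : ℤ) ^ d := by exact_mod_cast Nat.one_lt_pow hd0.ne' ha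
    omega
  have hgeom : (a : ℤ) ^ n - 1 = ((a : ℤ) ^ d - 1) * ∑ i ∈ range r, ((a : ℤ) ^ d) ^ i := by
    rw [mul_comm, geom_sum_mul, ← pow_mul, hdn]
  rw [hgeom] at hmul
  have hsum := hsq.trans ((mul_dvd_mul_iff_left hb1).mp hmul)
  have hrb : (r : ℤ) ∣ (a : ℤ) ^ d - 1 := by
    rw [← ZMod.intCast_zmod_eq_zero_iff_dvd]
    push_cast
    rw [sub_eq_zero, hroot.pow_eq_one_iff_dvd, hd]
    exact dvd_mul_left _ _
  rcases hr.eq_two_or_odd' with rfl | hodd
  · have hm1 : m = 1 := Nat.dvd_one.mp hmr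
    obtain ⟨c, hc⟩ := hrb
    have hk0 : k ≠ 0 := by rintro rfl; simp [hm1] at hnm; omega
    obtain ⟨e, he⟩ : 2 ∣ d := ⟨2 ^ (k - 1) * m, by
      rw [hd, ← mul_assoc, ← pow_succ', show k - 1 + 1 = k by omega]⟩
    have haodd : Odd ((a : ℤ) ^ e) := by
      by_contra hev
      rw [Int.not_odd_iff_even] at hev
      obtain ⟨u, hu⟩ := hev
      rw [he, mul_comm, pow_mul, hu] at hc
      push_cast at hc
      have : (1 : ℤ) = 2 * (2 * u * u - c) := by linarith [hc, show (u + u) ^ 2 = 2 * (2 * u * u) by ring]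
      omega
    obtain ⟨v, hv⟩ := haodd
    obtain ⟨w, hw⟩ := hsum
    simp only [sum_range_succ, range_zero, sum_empty, pow_zero, pow_one, zero_add] at hw
    rw [he, mul_comm 2 e, pow_mul, hv] at hw
    push_cast at hw
    have : (2 : ℤ) = 4 * (w - v * v - v) := by linarith [hw, show (2 * v + 1) ^ 2 = 4 * (v * v + v) + 1 by ring]
    omega
  · obtain ⟨c, hc⟩ := hrb
    have h := odd_sq_dvd_geom_sum₂_sub (R := ℤ) (p := r) 1 c hodd
    simp only [one_pow, mul_one] at h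
    rw [show (1 : ℤ) + r * c = (a : ℤ) ^ d by linarith] at h
    have h2 : (r : ℤ) ^ 2 ∣ (r : ℤ) := by simpa using dvd_sub hsum h
    have h3 : r ^ 2 ∣ r := by exact_mod_cast h2
    have h4 := Nat.le_of_dvd hr.pos h3
    nlinarith [hr.two_le]

theorem ne_prime (a n r k m : ℕ) (ha : 1 < a) (h6 : ¬ (a = 2 ∧ n = 6)) (hr : r.Prime)
    (hnm : n = r ^ k * m) (hk : 1 ≤ k) (hrm : ¬ r ∣ m) (hmr : m ∣ r - 1) (hn3 : 3 ≤ n) :
    (cyclotomic n ℤ).eval (a : ℤ) ≠ (r : ℤ) := by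
  intro heq
  obtain ⟨k, rfl⟩ : ∃ j, k = j + 1 := ⟨k - 1, by omega⟩
  have hm0 : 0 < m := Nat.pos_of_ne_zero fun h => by simp [h] at hrm
  have hn : n = r ^ k * m * r := by rw [hnm, pow_succ]; ring
  rcases Nat.eq_zero_or_pos k with rfl | hk0
  · rw [pow_zero, one_mul] at hn
    subst hn
    rcases lt_or_ge r 5 with hr5 | hr5
    · have h23 : r = 2 ∨ r = 3 := by
        have := hr.two_le
        interval_cases r <;> first | decide | norm_num at hr
      rcases h23 with rfl | rfl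
      · have := Nat.le_of_dvd (by norm_num) hmr
        omega
      · have h12 : m = 1 ∨ m = 2 := by
          have := Nat.le_of_dvd (by norm_num) hmr
          omega
        rcases h12 with rfl | rfl
        · norm_num [cyclotomic_three] at heq
          nlinarith
        · norm_num [cyclotomic_six] at heq
          apply h6
          refine ⟨?_, rfl⟩
          have : (a : ℤ) * (a - 1) = 2 := by linarith [show (a:ℤ) ^ 2 - a = a * (a - 1) by ring]
          have : a ≤ 2 := by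
            by_contra hlt
            have h3 : (3 : ℤ) ≤ a := by exact_mod_cast not_le.mp hlt
            nlinarith
          omega
    · have hexp := congrArg (eval (a : ℝ)) (cyclotomic_expand_eq_cyclotomic_mul hr hrm ℝ)
      rw [expand_eval, eval_mul] at hexp
      have h1 := castReal (m * r) (a : ℤ)
      rw [heq] at h1
      push_cast at h1
      rw [← h1] at hexp
      have ha' : (1 : ℝ) < a := by exact_mod_cast ha
      have ha'' : (1 : ℝ) < (a : ℝ) ^ r := one_lt_pow₀ ha' hr.ne_zero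
      have hlo := sub_one_pow_totient_le_cyclotomic_eval ha'' m
      have hhi := cyclotomic_eval_le_add_one_pow_totient ha' m
      have hbig : (r : ℝ) * ((a : ℝ) + 1) < (a : ℝ) ^ r - 1 := by
        have h' : ((r * (a + 1) + 1 : ℕ) : ℝ) < ((a ^ r : ℕ) : ℝ) := by exact_mod_cast big a r ha hr5
        push_cast at h'
        linarith
      have hr1 : (1 : ℝ) ≤ r := by exact_mod_cast hr.one_le
      have hpw : ((r : ℝ) * ((a : ℝ) + 1)) ^ m.totient < ((a : ℝ) ^ r - 1) ^ m.totient :=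
        pow_lt_pow_left₀ hbig (by positivity) (Nat.totient_pos.mpr hm0).ne'
      rw [mul_pow] at hpw
      have hrt : (r : ℝ) ≤ (r : ℝ) ^ m.totient := le_self_pow₀ hr1 (Nat.totient_pos.mpr hm0).ne'
      have hp : 0 ≤ ((a : ℝ) + 1) ^ m.totient := by positivity
      nlinarith [mul_le_mul_of_nonneg_right hrt hp,
        mul_le_mul_of_nonneg_left hhi (zero_le_one.trans hr1)]
  · have hdiv : r ∣ r ^ k * m := dvd_mul_of_dvd_left (dvd_pow_self r hk0.ne') _
    have hexp := congrArg (eval (a : ℤ)) (cyclotomic_expand_eq_cyclotomic hr hdiv ℤ)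
    rw [expand_eval, ← hn, heq] at hexp
    have h1 : 1 < r ^ k * m := lt_of_lt_of_le hr.one_lt (Nat.le_of_dvd (Nat.mul_pos (pow_pos hr.pos _) hm0) hdiv)
    have h2 := sub_one_lt_natAbs_cyclotomic_eval (q := a ^ r) h1 (Nat.one_lt_pow hr.ne_zero ha).ne'
    rw [Nat.cast_pow, hexp, Int.natAbs_natCast] at h2
    have h3 := Nat.lt_two_pow_self (n := r)
    have h4 : 2 ^ r ≤ a ^ r := Nat.pow_le_pow_left ha _
    omega

/-- Zsigmondy's Theorem: for natural numbers a > 1 and n > 1 there is a prime dividing aⁿ − 1 that divides aᵏ − 1 for no natural number 0 < k < n, unless a = 2 and n = 6, or n = 2 and a + 1 is a power of two. -/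
theorem result (a n : ℕ) (ha : 1 < a) (hn : 1 < n) (h6 : ¬ (a = 2 ∧ n = 6)) (h2 : ¬ (n = 2 ∧ ∃ m : ℕ, a + 1 = 2 ^ m)) : ∃ r : ℕ, r.Prime ∧ r ∣ a ^ n - 1 ∧ ∀ k : ℕ, 0 < k → k < n → ¬ r ∣ a ^ k - 1 := by
  rcases (show n = 2 ∨ 3 ≤ n by omega) with rfl | hn3
  · obtain ⟨r, hr, hrd, hr2⟩ : ∃ r : ℕ, r.Prime ∧ r ∣ a + 1 ∧ r ≠ 2 := by
      by_contra hcon
      push Not at hcon
      exact h2 ⟨rfl, _, Nat.eq_prime_pow_of_unique_prime_dvd (p := 2) (by omega)
        fun {d} hd hd' => hcon d hd hd'⟩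
    refine ⟨r, hr, ?_, ?_⟩
    · rw [show a ^ 2 - 1 = (a + 1) * (a - 1) by simpa using Nat.sq_sub_sq a 1]
      exact dvd_mul_of_dvd_left hrd _
    · intro k hk0 hk2 hd
      obtain rfl : k = 1 := by omega
      rw [pow_one] at hd
      have h := Nat.dvd_sub hrd hd
      rw [show a + 1 - (a - 1) = 2 by omega] at h
      exact hr2 ((Nat.prime_dvd_prime_iff_eq hr Nat.prime_two).mp h)
  set N := (Polynomial.cyclotomic n ℤ).eval (a : ℤ) with hN
  have hpos : 0 < N := Polynomial.cyclotomic_pos' n (by exact_mod_cast ha)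
  have h1 : a - 1 < N.natAbs := Polynomial.sub_one_lt_natAbs_cyclotomic_eval hn ha.ne'
  obtain ⟨r, hr, hrN⟩ := Nat.exists_prime_and_dvd (n := N.natAbs) (by omega)
  rcases prime_dvd a n r (by omega) hr (Int.natCast_dvd.mpr hrN) with h | ⟨k, m, hnm, hk, hrm, hmr, hroot⟩
  · exact ⟨r, hr, h⟩
  obtain ⟨c, hc⟩ := hrN
  by_cases hc1 : c = 1
  · exfalso
    subst hc1
    refine ne_prime a n r k m ha h6 hr hnm hk hrm hmr hn3 ?_
    show N = (r : ℤ)
    omega
  obtain ⟨r', hr', hr'c⟩ := Nat.exists_prime_and_dvd hc1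
  have hr'N : r' ∣ N.natAbs := hc ▸ dvd_mul_of_dvd_right hr'c r
  rcases prime_dvd a n r' (by omega) hr' (Int.natCast_dvd.mpr hr'N) with h | ⟨k', m', hnm', hk', -, hmr', hroot'⟩
  · exact ⟨r', hr', h⟩
  exfalso
  have hle : ∀ {r r' k m : ℕ}, r.Prime → r'.Prime → n = r ^ k * m → m ∣ r - 1 → r' ∣ n → r' ≤ r := by
    intro r r' k m hr hr' hnm hmr hd
    rcases (Nat.Prime.dvd_mul hr').mp (hnm ▸ hd) with h | h
    · exact le_of_eq ((Nat.prime_dvd_prime_iff_eq hr' hr).mp (hr'.dvd_of_dvd_pow h))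
    · exact le_trans (Nat.le_of_dvd (by have := hr.two_le; omega) (h.trans hmr)) (Nat.sub_le _ _)
  have hdr : r ∣ n := hnm ▸ dvd_mul_of_dvd_left (dvd_pow_self r (by omega)) m
  have hdr' : r' ∣ n := hnm' ▸ dvd_mul_of_dvd_left (dvd_pow_self r' (by omega)) m'
  obtain rfl : r = r' := le_antisymm (hle hr' hr hnm' hmr' hdr) (hle hr hr' hnm hmr hdr')
  refine not_sq_dvd a n r k m ha hr hnm hk hmr hroot hn3 ?_
  have h : r ^ 2 ∣ N.natAbs := by rw [hc, pow_two]; exact mul_dvd_mul_left r hr'c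
  have := Int.natCast_dvd.mpr h
  simpa using this

end Cfsg.Agent.S2904
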