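import Cfsg.Statements.S2010
import Cfsg.Agent.Lib.QuadOffenderS4
import Cfsg.Agent.Lib.Offenders
import Cfsg.Agent.Lib.OmegaCoprime
import Cfsg.Agent.Lib.HallSolvable
import Cfsg.Agent.Lib.FrobeniusThompson

set_option autoImplicit false
open Cfsg

namespace Cfsg.Agent.S2010

open Subgroup Cfsg.Agent.QuadOffenderS4
open scoped commutatorElement

universe u

/-- Coprime action on an abelian `2`-subgroup fixing all involutions. -/
theorem commute_of_fixed_involutions {G : Type*} [Group G] {P : Subgroup G} (hP : IsPGroup 2 P)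
    (hab : ∀ x ∈ P, ∀ y ∈ P, x * y = y * x) {a : G} (hn : ∀ x ∈ P, a * x * a⁻¹ ∈ P)
    (ha : (orderOf a).Coprime 2) (h : ∀ x ∈ P, x ^ 2 = 1 → Commute a x) :
    ∀ x ∈ P, Commute a x := by
  haveI : Fact (Nat.Prime 2) := ⟨Nat.prime_two⟩
  suffices ∀ k, ∀ x ∈ P, x ^ 2 ^ k = 1 → Commute a x by
    intro x hx
    obtain ⟨k, hk⟩ := hP ⟨x, hx⟩
    exact this k x hx (congrArg Subtype.val hk)
  intro k
  induction k with
  | zero =>
    intro x _ hk
    rw [pow_zero, pow_one] at hk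
    exact hk ▸ Commute.one_right a
  | succ k ih =>
    intro x hx hk
    have hsq : Commute a (x ^ 2) := ih _ (pow_mem hx 2) (by rw [← pow_mul, ← pow_succ']; exact hk)
    set c := x⁻¹ * (a * x * a⁻¹) with hc
    have hcP : c ∈ P := mul_mem (inv_mem hx) (hn x hx)
    have hc2 : c ^ 2 = 1 := by
      have h1 : Commute x⁻¹ (a * x * a⁻¹) := hab _ (inv_mem hx) _ (hn x hx)
      rw [hc, h1.mul_pow, conj_pow, hsq.eq, inv_pow]
      group
    have hcf : a * c * a⁻¹ = c := mul_inv_eq_of_eq_mul (h c hcP hc2).eq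
    have h1 : c = 1 := OmegaCoprime.eq_one_of_fixed_comm ha (x := x) (by rw [hc]; group) hcf
      ⟨1, by rw [pow_one]; exact hc2⟩
    rw [hc, inv_mul_eq_one] at h1
    exact mul_inv_eq_iff_eq_mul.mp h1.symm

/-- With trivial odd core, every largest elementary abelian subgroup of `S` lies in `O₂(G)`. -/
theorem max_le_pCore {G : Type u} [Group G] [Finite G] [Group.IsSolvable G]
    (hS4 : ¬ Cfsg.Involves (Equiv.Perm (Fin 4)) G) (hO : Cfsg.pPrimeCore 2 G = ⊥) (S : Sylow 2 G)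
    (hcl : ∀ x ∈ (S : Subgroup G), ∀ y ∈ (S : Subgroup G), ∀ z ∈ (S : Subgroup G),
      (x * y * x⁻¹ * y⁻¹) * z = z * (x * y * x⁻¹ * y⁻¹))
    {A : Subgroup G} (hA : Offenders.IsMaxIn 2 (S : Subgroup G) A) : A ≤ Cfsg.pCore 2 G := by
  classical
  haveI : Fact (Nat.Prime 2) := ⟨Nat.prime_two⟩
  obtain ⟨hAS, ⟨hAc, hA2⟩, hAmax⟩ := hA
  have hAc' : ∀ x ∈ A, ∀ y ∈ A, x * y = y * x := fun x hx y hy =>
    congrArg Subtype.val (hAc.is_comm.comm ⟨x, hx⟩ ⟨y, hy⟩)
  have hA2' : ∀ x ∈ A, x * x = 1 := fun x hx => by rw [← pow_two]; exact hA2 x hx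
  set Q := Cfsg.pCore 2 G with hQdef
  haveI : Q.Normal := HallCore.pCore_normal 2 G
  have hQp : IsPGroup 2 Q := HallCore.isPGroup_pCore 2 G
  have hQS : Q ≤ (S : Subgroup G) := HallCore.pCore_le_sylow S
  have hcon : centralizer (Q : Set G) ≤ Q :=
    HallSolvable.centralizer_pCore_le (HallSolvable.isPSolvable_of_solvable 2) hO
  set Z := Q ⊓ centralizer (Q : Set G) with hZdef
  haveI : Z.Normal := inferInstance
  have hZab : ∀ x ∈ Z, ∀ y ∈ Z, x * y = y * x := fun x hx y hy =>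
    mem_centralizer_iff.mp hy.2 x hx.1
  set W := Cfsg.omegaOne 2 Z with hWdef
  have hWe : Cfsg.IsElementaryAbelian 2 W := Offenders.omegaOne_ea hZab
  have hWZ : W ≤ Z := Offenders.omegaOne_le Z
  haveI : W.Normal := by
    constructor
    intro w hw g
    have h1 : w ∈ (W : Subgroup G).comap (MulAut.conj g).toMonoidHom := by
      refine (closure_le _).mpr ?_ hw
      rintro x ⟨hx, hx2⟩
      exact Offenders.mem_omegaOne (Normal.conj_mem ‹Z.Normal› x hx g)
        (show (g * x * g⁻¹) ^ 2 = 1 by rw [conj_pow, hx2, mul_one, mul_inv_cancel])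
    exact h1
  have hW2 : ∀ w ∈ W, w * w = 1 := fun w hw => by rw [← pow_two]; exact hWe.2 w hw
  -- elements of `A` move `Q` into its centre
  have hAQ : ∀ a ∈ A, ∀ q ∈ Q, q * a * q⁻¹ * a⁻¹ ∈ Z := by
    intro a ha q hq
    refine ⟨?_, mem_centralizer_iff.mpr fun y hy => (hcl q (hQS hq) a (hAS ha) y (hQS hy)).symm⟩
    have := mul_mem hq (Normal.conj_mem ‹Q.Normal› _ (inv_mem hq) a)
    simpa [mul_assoc] using this
  set π := QuotientGroup.mk' Q with hπ
  have hπs : Function.Surjective π := QuotientGroup.mk'_surjective Q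
  have hπ1 : ∀ x, π x = 1 ↔ x ∈ Q := fun x => QuotientGroup.eq_one_iff x
  set f := QuotientGroup.mk' Z
  set M := (centralizer (Q.map f : Set (G ⧸ Z))).comap f with hM
  have hMmem : ∀ g, g ∈ M ↔ ∀ q ∈ Q, q * g * q⁻¹ * g⁻¹ ∈ Z := by
    intro g
    rw [hM, mem_comap, mem_centralizer_iff]
    constructor
    · intro h q hq
      refine (QuotientGroup.eq_one_iff _).mp ?_
      show f (q * g * q⁻¹ * g⁻¹) = 1
      rw [map_mul, map_mul, map_mul, map_inv, map_inv, h _ (mem_map_of_mem f hq)]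
      group
    · rintro h _ ⟨q, hq, rfl⟩
      have h1 : f (q * g * q⁻¹ * g⁻¹) = 1 := (QuotientGroup.eq_one_iff _).mpr (h q hq)
      rw [map_mul, map_mul, map_mul, map_inv, map_inv, mul_inv_eq_one, mul_inv_eq_iff_eq_mul] at h1
      exact h1
  haveI : M.Normal := by
    haveI : (Q.map f).Normal := Normal.map inferInstance f (QuotientGroup.mk'_surjective Z)
    infer_instance
  have hAM : A ≤ M := fun a ha => (hMmem a).mpr (hAQ a ha)
  by_contra hle
  -- the module and the acting groups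
  set X := A.map π with hX
  set R := Cfsg.pPrimeCore 2 (G ⧸ Q) with hR
  haveI : R.Normal := HallCore.pPrimeCore_normal 2 (G ⧸ Q)
  have hRcop : (Nat.card R).Coprime 2 := HallCore.coprime_card_pPrimeCore 2 (G ⧸ Q)
  have hRodd : Odd (Nat.card R) := Nat.coprime_two_right.mp hRcop
  have hXne : X ≠ ⊥ := by
    rw [hX, Ne, Subgroup.map_eq_bot_iff, QuotientGroup.ker_mk']
    exact hle
  letI : CommGroup W := { (inferInstance : Group W) with mul_comm := hWe.1.is_comm.comm }
  let endHom : MulAut W →* AddMonoid.End (Additive W) :=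
    { toFun := fun e => MonoidHom.toAdditive e.toMonoidHom
      map_one' := rfl
      map_mul' := fun _ _ => rfl }
  let ρ0 : G →* MulAut W := MulAut.conjNormal
  have hQker : Q ≤ ρ0.ker := by
    intro q hq
    rw [MonoidHom.mem_ker]
    refine MulEquiv.ext fun w => Subtype.ext ?_
    show q * w * q⁻¹ = w
    rw [mem_centralizer_iff.mp (hWZ w.2).2 q hq, mul_inv_cancel_right]
  let ρ : G ⧸ Q →* AddMonoid.End (Additive W) := endHom.comp (QuotientGroup.lift Q ρ0 hQker)
  have hρ : ∀ (g : G) (v : Additive W),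
      ((Additive.toMul (ρ (π g) v) : W) : G) = g * (Additive.toMul v : W) * g⁻¹ := fun g v => rfl
  have hquad : ∀ a ∈ X, ∀ b ∈ X, ∀ v : Additive W, ρ a (ρ b v + v) = ρ b v + v := by
    rintro _ ⟨a, ha, rfl⟩ _ ⟨b, hb, rfl⟩ v
    set w : W := Additive.toMul v
    refine congrArg Additive.ofMul (Subtype.ext ?_ : Additive.toMul (ρ (π a) (ρ (π b) v + v)) =
      Additive.toMul (ρ (π b) v + v))
    show a * (b * (w : G) * b⁻¹ * w) * a⁻¹ = b * w * b⁻¹ * w
    have hwi : (w : G)⁻¹ = w := inv_eq_of_mul_eq_one_right (hW2 w w.2)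
    have := hcl b (hAS hb) w (hQS (hWZ w.2).1) a (hAS ha)
    rw [hwi] at this
    rw [← this, mul_inv_cancel_right]
  -- odd elements inverted by involutions of `A` act nontrivially on `W`
  have hkill : ∀ a ∈ A, ∀ x : G, ρ (π (a * x * a⁻¹ * x⁻¹)) = 1 →
      (orderOf (π (a * x * a⁻¹ * x⁻¹))).Coprime 2 → π (a * x * a⁻¹ * x⁻¹) = 1 := by
    intro a ha x hρ1 hcop
    set s := a * x * a⁻¹ * x⁻¹ with hs
    have hsM : s ∈ M := by
      have := M.mul_mem (hAM ha) (Normal.conj_mem ‹M.Normal› _ (M.inv_mem (hAM ha)) x)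
      simpa [hs, mul_assoc] using this
    obtain ⟨k, m, hm, hkm⟩ := Nat.exists_eq_pow_mul_and_not_dvd (orderOf_pos s).ne' 2 (by norm_num)
    set s' := s ^ 2 ^ k with hs'
    have hs'o : orderOf s' = m := by
      rw [hs', orderOf_pow' _ (by positivity), hkm, Nat.gcd_eq_right (Dvd.intro m rfl),
        Nat.mul_div_cancel_left _ (by positivity)]
    have hs'cop : (orderOf s').Coprime 2 := by
      rw [hs'o]; exact (Nat.prime_two.coprime_iff_not_dvd.mpr hm).symm
    have hs'M : s' ∈ M := pow_mem hsM _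
    have hs'W : ∀ w ∈ W, Commute s' w := by
      intro w hw
      refine Commute.pow_left ?_ _
      have h1 := congrArg (fun e : AddMonoid.End (Additive W) =>
        ((Additive.toMul (e (Additive.ofMul ⟨w, hw⟩)) : W) : G)) hρ1
      change s * w * s⁻¹ = w at h1
      exact mul_inv_eq_iff_eq_mul.mp h1
    have hs'Z : ∀ z ∈ Z, Commute s' z :=
      commute_of_fixed_involutions (hQp.to_le inf_le_left) hZab
        (fun z hz => Normal.conj_mem ‹Z.Normal› z hz s') hs'cop
        fun z hz hz2 => hs'W z (Offenders.mem_omegaOne hz hz2)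
    have hs'Q : ∀ q ∈ Q, Commute s' q :=
      OmegaCoprime.commute_of_fixed_comms hQp (fun q hq => Normal.conj_mem ‹Q.Normal› q hq s') hs'cop
        fun q hq => hs'Z _ (by
          have := (hMmem s').mp hs'M q⁻¹ (inv_mem hq)
          simpa [mul_assoc] using this)
    have h1 : π s' = 1 := (hπ1 _).mpr (hcon (mem_centralizer_iff.mpr fun q hq => (hs'Q q hq).eq.symm))
    rw [hs', map_pow] at h1
    exact orderOf_eq_one_iff.mp (Nat.eq_one_of_dvd_coprimes (hcop.pow_right k)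
      dvd_rfl (orderOf_dvd_of_pow_eq_one h1))
  have hcoreQ : Cfsg.pCore 2 (G ⧸ Q) = ⊥ := HallCore.pCore_quotient_self 2 G
  have hCR : centralizer (R : Set (G ⧸ Q)) ≤ R := by
    have h := HallSolvable.centralizer_piCore_le (G := G ⧸ Q) (π := {2}ᶜ)
      (HallSolvable.isPiSeparable_of_solvable _)
      (by rw [compl_compl, ← HallCore.pCore_eq_piCore 2 (G ⧸ Q)]; exact hcoreQ)
    rw [← HallCore.pPrimeCore_eq_piCore 2 (G ⧸ Q)] at h
    exact h
  have hfaith : ∀ a ∈ X, a ≠ 1 → ∃ r ∈ R, ρ (a * r * a⁻¹ * r⁻¹) ≠ 1 := by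
    rintro _ ⟨a, ha, rfl⟩ hane
    by_contra hno
    push Not at hno
    obtain ⟨r, hr, hr1⟩ : ∃ r ∈ R, π a * r * (π a)⁻¹ * r⁻¹ ≠ 1 := by
      by_contra h
      push Not at h
      apply hane
      have hmem : π a ∈ R := hCR (mem_centralizer_iff.mpr fun r hr => by
        have := h r hr
        rw [mul_inv_eq_one, mul_inv_eq_iff_eq_mul] at this
        exact this.symm)
      refine orderOf_eq_one_iff.mp (Nat.eq_one_of_dvd_coprimes hRcop
        (Subgroup.orderOf_dvd_natCard R hmem) (orderOf_dvd_of_pow_eq_one ?_))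
      rw [← map_pow, hA2 a ha, map_one]
    obtain ⟨x, rfl⟩ := hπs r
    have he : π a * π x * (π a)⁻¹ * (π x)⁻¹ = π (a * x * a⁻¹ * x⁻¹) := by simp
    have hmem : π (a * x * a⁻¹ * x⁻¹) ∈ R := by
      rw [← he]; exact R.mul_mem (Normal.conj_mem ‹R.Normal› _ hr _) (R.inv_mem hr)
    have h2 := hno (π x) hr
    rw [he] at h2
    rw [he] at hr1
    exact hr1 (hkill a ha x h2 (hRcop.coprime_dvd_left (Subgroup.orderOf_dvd_natCard R hmem)))
  -- the offender inequality
  have hoff : Nat.card (Additive W) ≤ Nat.card X * Nat.card (fixedPts ρ X) := by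
    set E := W ⊔ (A ⊓ Q)
    have hEe : Cfsg.IsElementaryAbelian 2 E :=
      Offenders.ea_sup hWe (Offenders.ea_mono ⟨hAc, hA2⟩ inf_le_left)
        fun w hw q hq => (mem_centralizer_iff.mp (hWZ hw).2 q hq.2).symm
    have hES : E ≤ (S : Subgroup G) := sup_le ((hWZ.trans inf_le_left).trans hQS) (inf_le_left.trans hAS)
    have h1 := hAmax E hES hEe
    have h2 := OffendersReplace.card_sup_mul_card_inf W (A ⊓ Q)
      (le_trans (fun w hw => mem_centralizer_iff.mpr fun q hq => mem_centralizer_iff.mp (hWZ hw).2 q hq.2)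
        (centralizer_le_normalizer _))
    have hcardA : Nat.card A = Nat.card X * Nat.card (A ⊓ Q : Subgroup G) := by
      have h3 := index_ker (π.comp A.subtype)
      rw [MonoidHom.range_eq_map, ← Subgroup.map_map, ← MonoidHom.range_eq_map, range_subtype,
        ← MonoidHom.comap_ker, QuotientGroup.ker_mk'] at h3
      change (Q.subgroupOf A).index = Nat.card X at h3
      rw [← h3, ← card_mul_index (Q.subgroupOf A), mul_comm]
      congr 1
      rw [← card_map_of_injective A.subtype_injective, subgroupOf_map_subtype, inf_comm]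
    have hWA : Nat.card (W ⊓ (A ⊓ Q) : Subgroup G) ≤ Nat.card (fixedPts ρ X) := by
      refine Nat.card_le_card_of_injective (fun w => ⟨Additive.ofMul ⟨(w : G), w.2.1⟩, ?_⟩) ?_
      · rintro _ ⟨a, ha, rfl⟩
        refine congrArg Additive.ofMul (Subtype.ext ?_ : Additive.toMul (ρ (π a)
          (Additive.ofMul ⟨(w : G), w.2.1⟩)) = (⟨(w : G), w.2.1⟩ : W))
        show a * (w : G) * a⁻¹ = w
        rw [hAc' a ha _ w.2.2.1, mul_inv_cancel_right]
      · intro v w h
        exact Subtype.ext (congrArg (fun u : fixedPts ρ X => ((Additive.toMul (u : Additive W) : W) : G)) h :)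
    rw [show Nat.card (Additive W) = Nat.card W from Nat.card_congr Additive.toMul]
    refine Nat.le_of_mul_le_mul_right ?_ (Nat.card_pos (α := (A ⊓ Q : Subgroup G)))
    calc Nat.card W * Nat.card (A ⊓ Q : Subgroup G)
        = Nat.card E * Nat.card (W ⊓ (A ⊓ Q) : Subgroup G) := h2.symm
      _ ≤ Nat.card A * Nat.card (fixedPts ρ X) := Nat.mul_le_mul h1 hWA
      _ = _ := by rw [hcardA]; ring
  have hXe : ∀ x ∈ X, x * x = 1 := by
    rintro _ ⟨a, ha, rfl⟩; rw [← map_mul, hA2' a ha, map_one]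
  have hXc : ∀ x ∈ X, ∀ y ∈ X, x * y = y * x := by
    rintro _ ⟨a, ha, rfl⟩ _ ⟨b, hb, rfl⟩; rw [← map_mul, hAc' a ha b hb, map_mul]
  obtain ⟨_, ⟨a, ha, rfl⟩, r, hr, U, hU4, hUa, hUt, hUfix, u₀, hu₀, hmove⟩ :=
    exists_natural ρ (fun v => congrArg Additive.ofMul (Subtype.ext (hW2 _ (Additive.toMul v).2) :
      (Additive.toMul v : W) * Additive.toMul v = 1)) X R hXe hXc hRodd
      (by rw [normalizer_eq_top]; exact le_top) hquad hfaith hXne hoff
  -- lifting to `G`
  obtain ⟨x, rfl⟩ := hπs r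
  set s := x * a * x⁻¹ * a⁻¹ with hs
  have hsπ : π s = π x * π a * (π x)⁻¹ * (π a)⁻¹ := by simp [hs]
  rw [← hsπ] at hUt hUfix
  have hsR : π s ∈ R := by
    rw [hsπ, mul_assoc, mul_assoc]
    exact R.mul_mem hr (by rw [← mul_assoc]; exact Normal.conj_mem ‹R.Normal› _ (R.inv_mem hr) _)
  obtain ⟨k, m, hm, hkm⟩ := Nat.exists_eq_pow_mul_and_not_dvd (orderOf_pos s).ne' 2 (by norm_num)
  set t := s ^ 2 ^ k with ht
  have htodd : Odd (orderOf t) := by
    rw [ht, orderOf_pow' _ (by positivity), hkm, Nat.gcd_eq_right (Dvd.intro m rfl),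
      Nat.mul_div_cancel_left _ (by positivity)]
    exact Nat.not_even_iff_odd.mp fun h => hm (even_iff_two_dvd.mp h)
  have ha2 := hA2' a ha
  have hainv : a⁻¹ = a := inv_eq_of_mul_eq_one_right ha2
  have has : a * s * a⁻¹ = s⁻¹ := by
    simp only [hs, mul_inv_rev, inv_inv, hainv, mul_assoc, ha2, mul_one]
  have hat : a * t * a = t⁻¹ := by
    conv_lhs => arg 2; rw [← hainv]
    rw [ht, ← conj_pow, has, inv_pow]
  let UG : AddSubgroup (Additive W) := U
  let U' : Subgroup G := (AddSubgroup.toSubgroup' UG).map W.subtype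
  have hU'mem : ∀ g, g ∈ U' ↔ ∃ u ∈ U, ((Additive.toMul u : W) : G) = g := fun g =>
    ⟨fun ⟨w, hw, e⟩ => ⟨Additive.ofMul w, hw, e⟩, fun ⟨u, hu, e⟩ => ⟨Additive.toMul u, hu, e⟩⟩
  have hU'card : Nat.card U' = 4 := by
    rw [← hU4]
    refine (Nat.card_eq_of_bijective (fun u : U => (⟨_, (hU'mem _).mpr ⟨u, u.2, rfl⟩⟩ : U')) ⟨?_, ?_⟩).symm
    · intro u v h
      have h' := congrArg (fun g : U' => (g : G)) h
      exact Subtype.ext (Additive.toMul.injective (Subtype.ext h'))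
    · rintro ⟨g, hg⟩
      obtain ⟨u, hu, e⟩ := (hU'mem g).mp hg
      exact ⟨⟨u, hu⟩, Subtype.ext e⟩
  have hinvn : ∀ g : G, (∀ u ∈ U, ρ (π g) u ∈ U) → g ∈ normalizer (U' : Set G) := by
    intro g hg
    refine mem_normalizer_fintype fun y hy => ?_
    obtain ⟨u, hu, rfl⟩ := (hU'mem y).mp hy
    exact (hU'mem _).mpr ⟨_, hg u hu, hρ g u⟩
  have hpow : ∀ (j : ℕ), ∀ v, (∀ u ∈ U, ρ (π (s ^ j)) u ∈ U) ∧
      (ρ (π s) v = v → ρ (π (s ^ j)) v = v) := by
    intro j
    induction j with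
    | zero => intro v; simp [map_one]
    | succ j ih =>
      intro v
      constructor
      · intro u hu
        rw [pow_succ, map_mul, map_mul]
        exact (ih u).1 _ (hUt u hu)
      · intro hv
        rw [pow_succ, map_mul, map_mul]
        show ρ (π (s ^ j)) (ρ (π s) v) = v
        rw [hv]
        exact (ih v).2 hv
  refine hS4 (involves_s4 U' hU'card (fun y hy => ?_) t a ha2 hat htodd (hinvn t ?_) (hinvn a hUa) ?_ ?_)
  · obtain ⟨u, hu, rfl⟩ := (hU'mem y).mp hy
    exact hW2 _ (Additive.toMul u).2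
  · exact (hpow _ 0).1
  · intro y hy hty
    obtain ⟨u, hu, rfl⟩ := (hU'mem y).mp hy
    have hfx : ρ (π t) u = u := congrArg Additive.ofMul (Subtype.ext ((hρ t u).trans hty) :
      Additive.toMul (ρ (π t) u) = Additive.toMul u)
    have hcop : (2 ^ k).Coprime (orderOf (π s)) :=
      Nat.Coprime.pow_left k (hRcop.coprime_dvd_left (Subgroup.orderOf_dvd_natCard R hsR)).symm
    obtain ⟨j, hj⟩ := exists_pow_eq_self_of_coprime hcop
    have hfj : ∀ i : ℕ, ρ ((π t) ^ i) u = u := by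
      intro i
      induction i with
      | zero => rw [pow_zero, map_one]; rfl
      | succ i ih =>
        rw [pow_succ, map_mul]
        show ρ ((π t) ^ i) (ρ (π t) u) = u
        rw [hfx, ih]
    have h3 := hfj j
    rw [ht, map_pow π, hj] at h3
    rw [hUfix u hu h3]
    rfl
  · refine ⟨_, (hU'mem _).mpr ⟨u₀, hu₀, rfl⟩, fun h => hmove ?_⟩
    exact congrArg Additive.ofMul (Subtype.ext ((hρ a u₀).trans h) :
      Additive.toMul (ρ (π a) u₀) = Additive.toMul u₀)

/-- The factorization. -/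
theorem result {G : Type*} [Group G] [Finite G]
    [Group.IsSolvable G] (hS4 : ¬ Cfsg.Involves (Equiv.Perm (Fin 4)) G) (S : Sylow 2 G)
    (hcl : Subgroup.lowerCentralSeries (S : Subgroup G) 2 = ⊥) :
    Subgroup.normalizer ((Cfsg.thompsonSubgroupOf 2 (S : Subgroup G)) : Set G) ⊔ Cfsg.pPrimeCore 2 G = ⊤ := by
  haveI : Fact (Nat.Prime 2) := ⟨Nat.prime_two⟩
  set N := Cfsg.pPrimeCore 2 G
  haveI : N.Normal := HallCore.pPrimeCore_normal 2 G
  set π := QuotientGroup.mk' N
  have hπs : Function.Surjective π := QuotientGroup.mk'_surjective N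
  have hNp : ¬ 2 ∣ Nat.card N := Nat.prime_two.coprime_iff_not_dvd.mp
    (HallCore.coprime_card_pPrimeCore 2 G).symm
  set T := S.mapSurjective hπs with hT
  have hS4' : ¬ Cfsg.Involves (Equiv.Perm (Fin 4)) (G ⧸ N) := by
    rintro ⟨K, R, hR, ⟨e⟩⟩
    refine hS4 (involves_of_surjective' (K := K.comap π)
      (e.toMonoidHom.comp ((QuotientGroup.mk' (R.subgroupOf K)).comp (π.subgroupComap K))) ?_)
    refine e.surjective.comp ((QuotientGroup.mk'_surjective _).comp fun y => ?_)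
    obtain ⟨g, hg⟩ := hπs y
    exact ⟨⟨g, show π g ∈ K from hg ▸ y.2⟩, Subtype.ext hg⟩
  have hcl' : ∀ x ∈ (T : Subgroup (G ⧸ N)), ∀ y ∈ (T : Subgroup (G ⧸ N)), ∀ z ∈ (T : Subgroup (G ⧸ N)),
      (x * y * x⁻¹ * y⁻¹) * z = z * (x * y * x⁻¹ * y⁻¹) := by
    rintro _ ⟨x, hx, rfl⟩ _ ⟨y, hy, rfl⟩ _ ⟨z, hz, rfl⟩
    have h1 : ⁅⁅x, y⁆, z⁆ ∈ Subgroup.lowerCentralSeries (S : Subgroup G) 2 :=
      Subgroup.commutator_mem_commutator (Subgroup.commutator_mem_commutator hx hy) hz
    rw [hcl, mem_bot, commutatorElement_eq_one_iff_mul_comm, commutatorElement_def] at h1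
    rw [← map_inv, ← map_inv, ← map_mul, ← map_mul, ← map_mul, ← map_mul, ← map_mul, h1]
  have hO : Cfsg.pPrimeCore 2 (G ⧸ N) = ⊥ := HallCore.pPrimeCore_quotient_self 2 G
  set Q := Cfsg.pCore 2 (G ⧸ N)
  have hmax : ∀ A, Offenders.IsMaxIn 2 (T : Subgroup (G ⧸ N)) A → A ≤ Q := fun A hA =>
    max_le_pCore hS4' hO T hcl' hA
  have hQT : Q ≤ (T : Subgroup (G ⧸ N)) := HallCore.pCore_le_sylow T
  have hJ : Cfsg.thompsonSubgroupOf 2 (T : Subgroup (G ⧸ N)) = Cfsg.thompsonSubgroupOf 2 Q := by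
    rw [Offenders.thompsonOf_eq, Offenders.thompsonOf_eq]
    congr 1
    ext A
    constructor
    · exact fun hA => ⟨hmax A hA, hA.2.1, fun B hB hBe => hA.2.2 B (hB.trans hQT) hBe⟩
    · intro hA
      refine ⟨hA.1.trans hQT, hA.2.1, fun B hB hBe => ?_⟩
      obtain ⟨A₀, hA₀⟩ := FrobeniusThompson.exists_isMaxIn (p := 2) (T : Subgroup (G ⧸ N))
      exact (hA₀.2.2 B hB hBe).trans (hA.2.2 A₀ (hmax A₀ hA₀) hA₀.2.1)
  have hinj : Function.Injective (π.comp (S : Subgroup G).subtype) := by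
    rw [injective_iff_map_eq_one]
    intro x hx
    have hd : (S : Subgroup G) ⊓ N = ⊥ := by
      obtain ⟨k, hk⟩ := IsPGroup.iff_card.mp S.isPGroup'
      refine Subgroup.inf_eq_bot_of_coprime ?_
      rw [hk]
      exact Nat.Coprime.pow_left k (Nat.prime_two.coprime_iff_not_dvd.mpr hNp)
    exact Subtype.ext (mem_bot.mp (hd ▸ ⟨x.2, (QuotientGroup.eq_one_iff _).mp hx⟩))
  rw [eq_top_iff]
  intro g _
  have hg : π g ∈ normalizer (Cfsg.thompsonSubgroupOf 2 (T : Subgroup (G ⧸ N)) : Set (G ⧸ N)) := by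
    rw [hJ]
    refine FrobeniusThompson.normalizer_le_normalizer_thompsonOf _ ?_
    haveI : Q.Normal := HallCore.pCore_normal 2 _
    rw [normalizer_eq_top]
    exact mem_top _
  rw [hT, Sylow.coe_mapSurjective, ← FrobeniusThompson.map_thompsonOf _ _ hinj] at hg
  obtain ⟨y, hy, hxy⟩ := FrobeniusThompson.exists_mem_normalizer_of_map N hNp
    (S.isPGroup'.to_le (Offenders.thompsonOf_le _)) hg
  have hk : y⁻¹ * g ∈ N := QuotientGroup.eq.mp hxy
  rw [← mul_inv_cancel_left y g]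
  exact mul_mem (mem_sup_left hy) (mem_sup_right hk)

end Cfsg.Agent.S2010
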