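import Cfsg.Statements.S0539
import Mathlib
import Cfsg.Agent.Lib.SubnormalJoin

set_option autoImplicit false
open Pointwise
open Cfsg

namespace Cfsg.Agent.S0539

open scoped Pointwise commutatorElement

theorem isSubnormal_sSup {G : Type*} [Group G] [Finite G] (T : Set (Subgroup G)) (hT : ∀ U ∈ T, U.IsSubnormal) :
    (sSup T).IsSubnormal := by
  induction T, Set.toFinite T using Set.Finite.induction_on with
  | empty => rw [sSup_empty]; exact Subgroup.IsSubnormal.bot
  | @insert a s _ _ ih =>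
    rw [sSup_insert]
    exact Cfsg.Agent.SubnormalJoin.isSubnormal_sup (hT a (Set.mem_insert a s)) (ih fun U hU => hT U (Set.mem_insert_of_mem a hU))

theorem exists_normalizing {G : Type*} [Group G] [Finite G] (S S₀ : Set (Subgroup G)) (hS : ∀ U ∈ S, U.IsSubnormal)
    (hconj : ∀ U ∈ S, ∀ g : G, MulAut.conj g • U ∈ S) (h₀ : S₀ ⊂ S) :
    ∃ X ∈ S, X ∉ S₀ ∧ X ≤ Subgroup.normalizer ((sSup S₀ : Subgroup G) : Set G) := by
  set J := sSup S₀ with hJ
  obtain ⟨X₀, hX₀, hX₀'⟩ := Set.exists_of_ssubset h₀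
  by_contra hc
  push Not at hc
  have hin : ∀ X ∈ S, X ≤ J → X ∈ S₀ := fun X hX hle => by
    by_contra h
    exact hc X hX h (hle.trans Subgroup.le_normalizer)
  have hJsn : J.IsSubnormal := isSubnormal_sSup S₀ fun U hU => hS U (h₀.1 hU)
  have hn : ¬ J.Normal := fun h => hc X₀ hX₀ hX₀' (by rw [Subgroup.normalizer_eq_top_iff.mpr h]; exact le_top)
  obtain ⟨g, hg1, hg2⟩ := Cfsg.Agent.SubnormalJoin.exists_conj_le_normalizer hJsn hn
  by_cases hall : ∀ X ∈ S₀, MulAut.conj g • X ≤ J
  · apply hg1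
    have hle : MulAut.conj g • J ≤ J := by
      rw [Subgroup.pointwise_smul_subset_iff]
      exact sSup_le fun X hX => Subgroup.pointwise_smul_subset_iff.1 (hall X hX)
    exact Subgroup.eq_of_le_of_card_ge hle (le_of_eq (Nat.card_congr (Subgroup.equivSMul (MulAut.conj g) J).toEquiv))
  · push Not at hall
    obtain ⟨X, hX, hXJ⟩ := hall
    refine hc _ (hconj X (h₀.1 hX) g) (fun h => hXJ (le_sSup h)) ?_
    exact (Subgroup.pointwise_smul_le_pointwise_smul_iff.2 (le_sSup hX)).trans hg2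

/-- Let S be a family of subnormal subgroups of a finite group that is closed under conjugation, and S₀ a proper subfamily. Then some member of S not in S₀ normalizes the join of S₀. -/
theorem result {G : Type*} [Group G] [Finite G] (S S₀ : Set (Subgroup G)) (hS : ∀ U ∈ S, U.IsSubnormal) (hconj : ∀ U ∈ S, ∀ g : G, MulAut.conj g • U ∈ S) (h₀ : S₀ ⊂ S) : ∃ X ∈ S, X ∉ S₀ ∧ X ≤ Subgroup.normalizer ((sSup S₀ : Subgroup G) : Set G) := by
  exact exists_normalizing S S₀ hS hconj h₀

end Cfsg.Agent.S0539
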