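import Cfsg.Statements.S1122
import Cfsg.Agent.Lib.RankOneSetup

set_option autoImplicit false
open Cfsg

namespace Cfsg.Agent.S1122

/-- In the rank-one set-up (`G` finite and doubly transitive on `Ω`, `t` an involution moving `a`, `Q` normal in `G_a` with `G_a = Q D`, `Q ⊓ D = 1` for the two-point stabiliser `D = G_a ⊓ G_{t • a}`, `|Q|` even, `|D|` odd), with `K` the set of elements of `D` inverted by `t`: `|K|` is the number of involutions of `G_a`, and for each involution `s` of `G_a` the `K`-conjugates of `s` are all the involutions of `G_a`. -/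
theorem result {G Ω : Type*} [Group G] [Finite G] [MulAction G Ω] {a : Ω} {t : G} {Q : Subgroup G}
    (hS : Cfsg.IsRankOneSetup G Ω a t Q) :
    Nat.card (Cfsg.invertedBy (MulAction.stabilizer G a ⊓ MulAction.stabilizer G (t • a)) t) = Nat.card (Cfsg.involutionsIn (MulAction.stabilizer G a : Set G)) ∧
      ∀ s ∈ Cfsg.involutionsIn (MulAction.stabilizer G a : Set G), ∀ s' ∈ Cfsg.involutionsIn (MulAction.stabilizer G a : Set G),
        ∃ k ∈ Cfsg.invertedBy (MulAction.stabilizer G a ⊓ MulAction.stabilizer G (t • a)) t, k⁻¹ * s * k = s' := by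
  open RankOneSetup in
  choose r hr hv using fun s : Cfsg.involutionsIn (MulAction.stabilizer G a : Set G) =>
    phi_exists hS s.2
  choose k hk hke using fun s => (swap_iff hS).1 (hv s)
  have hkinj : ∀ s s', k s = k s' → s = s' := fun s s' h =>
    Subtype.ext (RankOneSetup.phi_inj hS s.2 s'.2 (hr s) (hr s') (by rw [hke, hke, h])).2
  refine ⟨(Nat.card_eq_of_bijective (fun s => (⟨k s, hk s⟩ :
    Cfsg.invertedBy (RankOneSetup.twoPt G a t) t)) ⟨fun s s' h =>
      hkinj s s' (congrArg Subtype.val h), ?_⟩).symm, ?_⟩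
  · rintro ⟨i, hi⟩
    obtain ⟨s, hs, r', hr', he⟩ := RankOneSetup.phi_surj hS
      ((RankOneSetup.swap_iff hS).2 ⟨i, hi, rfl⟩)
    refine ⟨⟨s, hs⟩, Subtype.ext ?_⟩
    have hsw : RankOneSetup.IsSwap a t (r' * (t * s * t) * r'⁻¹) := by
      rw [he]; exact (RankOneSetup.swap_iff hS).2 ⟨i, hi, rfl⟩
    have := RankOneSetup.phi_unique hS hs (hr ⟨s, hs⟩) hr' (hv ⟨s, hs⟩) hsw
    have h2 := hke ⟨s, hs⟩
    rw [this] at h2
    simp only at h2
    rw [he] at h2
    exact (mul_left_cancel h2).symm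
  · intro s hs s' hs'
    obtain ⟨j, hj, hje⟩ := RankOneSetup.exists_inverted_mid hS.odd_card hS.mul_self
      (fun x hx => RankOneSetup.t_conj hS hx) (hk ⟨s, hs⟩) (hk ⟨s', hs'⟩)
    refine ⟨j, hj, ?_⟩
    have hjt : t * j * t = j⁻¹ := by simpa [RankOneSetup.t_inv hS] using hj.2
    have h1 := RankOneSetup.phi_conj hS j s (r ⟨s, hs⟩)
    rw [hjt, inv_inv, hke ⟨s, hs⟩] at h1
    have h2 : j * (t * k ⟨s, hs⟩) * j⁻¹ = t * k ⟨s', hs'⟩ := by
      have : j * t = t * j⁻¹ := by
        rw [← hjt]; simp [← mul_assoc, hS.mul_self]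
      calc j * (t * k ⟨s, hs⟩) * j⁻¹ = (j * t) * k ⟨s, hs⟩ * j⁻¹ := by group
        _ = t * k ⟨s', hs'⟩ := by rw [this, ← hje]; group
    rw [h2, ← hke ⟨s', hs'⟩] at h1
    have hmem : j⁻¹ * s * j ∈ Cfsg.involutionsIn (MulAction.stabilizer G a : Set G) := by
      simpa using RankOneSetup.conj_invol ((RankOneSetup.twoPt G a t).inv_mem hj.1) hs
    exact (RankOneSetup.phi_inj hS hmem hs'
      (RankOneSetup.twoPt_mul_q hS (hr _) hj.1) (hr _) h1).2

end Cfsg.Agent.S1122
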