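import Cfsg.Statements.S1124
import Cfsg.Agent.Lib.RankOneSetup

set_option autoImplicit false
open scoped Pointwise
open Cfsg

namespace Cfsg.Agent.S1124

/-- Let `t` be an element of order 2 of a finite group normalising a subgroup `X` of odd order, `Y = C_X(t)` and `Z` the set of elements of `X` inverted by `t`. Then `(y, z) ↦ y z` is a bijection `Y × Z → X`, so `|X| = |Y| |Z|`, and the subgroup generated by `Z` is normal in `X`. -/
theorem result {M : Type*} [Group M] [Finite M]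
    (t : M) (ht : orderOf t = 2) (X : Subgroup M) (hodd : Odd (Nat.card X))
    (hnorm : ∀ x ∈ X, t * x * t⁻¹ ∈ X) :
    (∀ x ∈ X, ∃! p : M × M, p.1 ∈ X ⊓ Subgroup.centralizer {t} ∧ p.2 ∈ Cfsg.invertedBy X t ∧ x = p.1 * p.2) ∧
      Nat.card X = Nat.card ↥(X ⊓ Subgroup.centralizer {t}) * Nat.card (Cfsg.invertedBy X t) ∧
      ∀ x ∈ X, MulAut.conj x • Subgroup.closure (Cfsg.invertedBy X t) = Subgroup.closure (Cfsg.invertedBy X t) := by
  have htt : t * t = 1 := by rw [← pow_two, ← ht, pow_orderOf_eq_one]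
  have ti : t⁻¹ = t := inv_eq_of_mul_eq_one_left htt
  have hσ : ∀ x y : M, t * (x * y) * t⁻¹ = (t * x * t⁻¹) * (t * y * t⁻¹) := fun x y => by group
  have hinvol : ∀ x : M, t * (t * x * t⁻¹) * t⁻¹ = x := fun x => by
    rw [ti]; simp only [mul_assoc, htt, mul_one]; rw [← mul_assoc, htt, one_mul]
  have huniq : ∀ x ∈ X, ∃! p : M × M, p.1 ∈ X ⊓ Subgroup.centralizer {t} ∧
      p.2 ∈ Cfsg.invertedBy X t ∧ x = p.1 * p.2 := by
    intro x hx
    have hy : (t * x * t⁻¹)⁻¹ * x ∈ X := X.mul_mem (X.inv_mem (hnorm x hx)) hx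
    obtain ⟨i, hi, hi2⟩ := RankOneSetup.exists_sqrt hodd hy
    have hiσ : t * i * t⁻¹ = i⁻¹ := by
      refine RankOneSetup.sq_inj hodd (hnorm i hi) (X.inv_mem hi) ?_
      rw [← hσ, ← mul_inv_rev, hi2, hσ]
      have h1 : t * (t * x * t⁻¹)⁻¹ * t⁻¹ = x⁻¹ := by
        calc t * (t * x * t⁻¹)⁻¹ * t⁻¹ = (t * (t * x * t⁻¹) * t⁻¹)⁻¹ := by simp [mul_inv_rev, mul_assoc]
          _ = x⁻¹ := by rw [hinvol]
      rw [h1]; group
    refine ⟨(x * i⁻¹, i), ⟨⟨X.mul_mem hx (X.inv_mem hi), ?_⟩, ⟨hi, hiσ⟩, ?_⟩, ?_⟩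
    · show x * i⁻¹ ∈ Subgroup.centralizer {t}
      rw [Subgroup.mem_centralizer_singleton_iff]
      have h : t * (x * i⁻¹) * t⁻¹ = x * i⁻¹ := by
        have hσi : t * i⁻¹ * t⁻¹ = i := by
          calc t * i⁻¹ * t⁻¹ = (t * i * t⁻¹)⁻¹ := by group
            _ = i := by rw [hiσ, inv_inv]
        rw [hσ, hσi]
        have h3 : t * x * t⁻¹ * (i * i) = x := by rw [hi2]; group
        calc t * x * t⁻¹ * i = (t * x * t⁻¹ * (i * i)) * i⁻¹ := by group
          _ = x * i⁻¹ := by rw [h3]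
      calc x * i⁻¹ * t = (t * (x * i⁻¹) * t⁻¹) * t := by rw [h]
        _ = t * (x * i⁻¹) := by group
    · exact (inv_mul_cancel_right x i).symm
    · rintro ⟨c, j⟩ ⟨⟨hcX, hc⟩, ⟨hj, hjσ⟩, he⟩
      simp only at he
      subst he
      replace hc : c ∈ Subgroup.centralizer {t} := hc
      rw [Subgroup.mem_centralizer_singleton_iff] at hc
      have hc' : t * c * t⁻¹ = c := by rw [← hc]; group
      have : i = j := by
        refine RankOneSetup.sq_inj hodd hi hj ?_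
        rw [hi2, hσ, hc', hjσ]; group
      subst this
      simp
  refine ⟨huniq, ?_, ?_⟩
  · rw [← Nat.card_prod]
    refine (Nat.card_eq_of_bijective (fun p : ↥(X ⊓ Subgroup.centralizer {t}) × Cfsg.invertedBy X t =>
      (⟨p.1 * p.2, X.mul_mem p.1.2.1 p.2.2.1⟩ : X)) ⟨?_, ?_⟩).symm
    · intro p p' h
      have h' : (p.1 : M) * p.2 = p'.1 * p'.2 := congrArg Subtype.val h
      have e := (huniq _ (X.mul_mem p.1.2.1 p.2.2.1)).unique
        (y₁ := ((p.1 : M), (p.2 : M))) (y₂ := ((p'.1 : M), (p'.2 : M)))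
        ⟨p.1.2, p.2.2, rfl⟩ ⟨p'.1.2, p'.2.2, h'⟩
      simp only [Prod.mk.injEq] at e
      exact Prod.ext (Subtype.ext e.1) (Subtype.ext e.2)
    · rintro ⟨x, hx⟩
      obtain ⟨⟨c, i⟩, ⟨hc, hi, rfl⟩, -⟩ := huniq x hx
      exact ⟨(⟨c, hc⟩, ⟨i, hi⟩), rfl⟩
  · intro x hx
    let N := Subgroup.closure (Cfsg.invertedBy X t)
    have hc : ∀ c ∈ X, t * c * t⁻¹ = c → ∀ i ∈ Cfsg.invertedBy X t,
        c * i * c⁻¹ ∈ Cfsg.invertedBy X t := fun c hcX hc i hi => by
      refine ⟨X.mul_mem (X.mul_mem hcX hi.1) (X.inv_mem hcX), ?_⟩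
      have h' : t * c⁻¹ * t⁻¹ = c⁻¹ := by
        calc t * c⁻¹ * t⁻¹ = (t * c * t⁻¹)⁻¹ := by group
          _ = c⁻¹ := by rw [hc]
      rw [hσ, hσ, hc, hi.2, h']; group
    have key : ∀ z ∈ X, ∀ n ∈ N, z * n * z⁻¹ ∈ N := by
      intro z hz n hn
      obtain ⟨⟨c, i⟩, ⟨⟨hcX, hcc⟩, hi, rfl⟩, -⟩ := huniq z hz
      replace hcc : c ∈ Subgroup.centralizer {t} := hcc
      rw [Subgroup.mem_centralizer_singleton_iff] at hcc
      have hc' : t * c * t⁻¹ = c := by rw [← hcc]; group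
      have hiN : i ∈ N := Subgroup.subset_closure hi
      suffices ∀ m ∈ N, c * m * c⁻¹ ∈ N by
        simpa [mul_assoc] using this _ (N.mul_mem (N.mul_mem hiN hn) (N.inv_mem hiN))
      intro m hm
      induction hm using Subgroup.closure_induction with
      | mem m hm => exact Subgroup.subset_closure (hc c hcX hc' m hm)
      | one => simp
      | mul a b _ _ ha hb => simpa [mul_assoc] using N.mul_mem ha hb
      | inv a _ ha => simpa [mul_assoc] using N.inv_mem ha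
    ext y
    rw [Subgroup.mem_pointwise_smul_iff_inv_smul_mem]
    refine ⟨fun h => ?_, fun h => ?_⟩
    · simpa [MulAut.smul_def, mul_assoc] using key x hx _ h
    · simpa [MulAut.smul_def, mul_assoc] using key x⁻¹ (X.inv_mem hx) _ h

end Cfsg.Agent.S1124
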