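import Cfsg.Statements.S5290
import Cfsg.Agent.Lib.FusionSysChain
import Cfsg.Agent.Lib.FusionTransport88

set_option autoImplicit false
open Cfsg

namespace Cfsg.Agent.S5290

open Cfsg.FusionSystem Cfsg.Agent.FusionSysBasic Cfsg.Agent.FusionSysSaturated
  Cfsg.Agent.FusionSysNormal

/-- The inner system of a finite `p`-group is saturated. -/
theorem saturated_inner {Ω : Type*} [Group Ω] {Q : Subgroup Ω} [Finite Q] {p : ℕ} [Fact p.Prime]
    (hQ : IsPGroup p Q) : (Cfsg.innerFusionSystem Q).IsSaturated p := by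
  have e : Cfsg.innerFusionSystem Q = Cfsg.fusionSystemOfSubgroup Q Q le_rfl := by
    refine FusionSysAlperin.ext_hom fun P => Set.ext fun φ => ?_
    exact ⟨fun h => ⟨h.1, ((Cfsg.innerFusionSystem Q).le_of_mem h).2, h.2⟩,
      fun h => ⟨h.1, h.2.2⟩⟩
  obtain ⟨R, hR⟩ := (hQ.to_subgroup ⊤).exists_le_sylow
  rw [e]
  exact FusionTransport88.saturated_subgroup le_rfl R (by rw [Subgroup.subgroupOf_self]; exact top_le_iff.1 hR)

/-- Let F be a saturated fusion system over a finite p-group S and Q a subgroup of S. Then Q is normal in F (F = N_F(Q)) if and only if the inner fusion system of Q, consisting of the conjugations by elements of Q on subgroups of Q, is a weakly normal subsystem of F (both saturated, Q strongly closed, invariant under F-conjugation, with the Frattini property). -/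
theorem result {Ω : Type*} [Group Ω] {S : Subgroup Ω} [Finite S] (p : ℕ) [Fact p.Prime] (hS : IsPGroup p S)
    (F : Cfsg.FusionSystem S) (hF : F.IsSaturated p)
    (Q : Subgroup Ω) (hQ : Q ≤ S) :
    F.IsNormal Q ↔ (Cfsg.innerFusionSystem Q).IsWeaklyNormalIn F p := by
  haveI := finite_of_le hQ
  constructor
  · intro hN
    refine ⟨saturated_inner (hS.to_le hQ), hF, ?_, stronglyClosed_of_normal hN, ?_, ?_⟩
    · rintro P φ ⟨hP, g, hg, he⟩
      have : φ = Cfsg.conjHom P g := MonoidHom.ext he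
      exact this ▸ F.conj_mem (hP.trans hQ) (hQ hg)
    · rintro P hPQ φ ⟨-, g, hg, he⟩ α hα
      refine ⟨Cfsg.conjHom _ ((α ⟨g, hg⟩ : ↥Q) : Ω),
        (Cfsg.innerFusionSystem Q).conj_mem ?_ (α ⟨g, hg⟩).2, fun x hφx hαx => ?_⟩
      · rintro _ ⟨y, -, rfl⟩
        exact (α y).2
      · have h1 : (⟨φ x, hφx⟩ : ↥Q) = ⟨g, hg⟩ * ⟨x, hPQ x.2⟩ * ⟨g, hg⟩⁻¹ := Subtype.ext (he x)
        rw [h1, map_mul, map_mul, map_inv]
        rfl
    · intro P hPQ φ hφ
      obtain ⟨f, hf, hag, him⟩ := (isNormal_iff.1 hN).2 P _ (mor_toFun hφ)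
      obtain ⟨α, hα, hαe⟩ := (hf.restrict_to (le_sup_right : Q ≤ P ⊔ Q)).exists_aut him
      refine ⟨α, hα, Cfsg.conjHom P 1, (Cfsg.innerFusionSystem Q).conj_mem hPQ Q.one_mem,
        fun x hx => ?_⟩
      rw [← toFun_coe φ x, ← hag x x.2, ← hαe x (hPQ x.2), ← afun_apply α hx]
      simp [Cfsg.conjHom]
  · intro h
    obtain ⟨-, -, -, -, -, hfr⟩ := h
    refine FusionSysChain.isNormal_of_extends hS hF hQ fun X f hX hf => ?_
    obtain ⟨φ, hφ, he⟩ := hf
    obtain ⟨α, hα, φ₀, ⟨-, g, hg, hg'⟩, hαe⟩ := hfr X hX φ hφ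
    have hc : nHom S Q ⟨g, hQ hg, Subgroup.le_normalizer hg⟩ ∈ Cfsg.autInducedBy S Q :=
      autInducedBy_eq_range S Q ▸ ⟨_, rfl⟩
    refine ⟨α * nHom S Q ⟨g, hQ hg, Subgroup.le_normalizer hg⟩,
      mul_mem hα (autInducedBy_le hQ hc), fun x hx => ?_⟩
    have hm : φ₀ ⟨x, hx⟩ ∈ Q := by
      rw [hg']; exact Q.mul_mem (Q.mul_mem hg (hX hx)) (Q.inv_mem hg)
    rw [afun_mul _ _ (hX hx), afun_nHom _ (hX hx), ← he ⟨x, hx⟩, hαe ⟨x, hx⟩ hm,
      ← afun_apply α hm, hg']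
    rfl

end Cfsg.Agent.S5290
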