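import Mathlib
import Cfsg.Statements.S5136

set_option autoImplicit false
open Cfsg

namespace Cfsg.Agent.S5136

section
variable {Ω₁ Ω₂ : Type*} [Group Ω₁] [Group Ω₂] {S₁ : Subgroup Ω₁} {S₂ : Subgroup Ω₂}
  (F₁ : Cfsg.FusionSystem S₁) (F₂ : Cfsg.FusionSystem S₂)

/-- The map sets of the product system. -/
def prodHom (P : Subgroup (Ω₁ × Ω₂)) : Set (P →* Ω₁ × Ω₂) :=
  {φ | P ≤ S₁.prod S₂ ∧
      ∃ φ₁ ∈ F₁.Hom (P.map (MonoidHom.fst Ω₁ Ω₂)), ∃ φ₂ ∈ F₂.Hom (P.map (MonoidHom.snd Ω₁ Ω₂)),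
        ∀ (x : P) (h₁ : (x : Ω₁ × Ω₂).1 ∈ P.map (MonoidHom.fst Ω₁ Ω₂))
          (h₂ : (x : Ω₁ × Ω₂).2 ∈ P.map (MonoidHom.snd Ω₁ Ω₂)),
          φ x = (φ₁ ⟨(x : Ω₁ × Ω₂).1, h₁⟩, φ₂ ⟨(x : Ω₁ × Ω₂).2, h₂⟩)}

theorem mem_fst {P : Subgroup (Ω₁ × Ω₂)} (x : P) :
    (x : Ω₁ × Ω₂).1 ∈ P.map (MonoidHom.fst Ω₁ Ω₂) := ⟨(x : Ω₁ × Ω₂), x.2, rfl⟩

theorem mem_snd {P : Subgroup (Ω₁ × Ω₂)} (x : P) :
    (x : Ω₁ × Ω₂).2 ∈ P.map (MonoidHom.snd Ω₁ Ω₂) := ⟨(x : Ω₁ × Ω₂), x.2, rfl⟩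

/-- The product system. -/
def prodSys : Cfsg.FusionSystem (S₁.prod S₂) where
  Hom := prodHom F₁ F₂
  le_of_mem := by
    rintro P φ ⟨hP, φ₁, h₁, φ₂, h₂, he⟩
    refine ⟨hP, fun x => ?_⟩
    rw [he x (mem_fst x) (mem_snd x)]
    exact ⟨(F₁.le_of_mem h₁).2 _, (F₂.le_of_mem h₂).2 _⟩
  injective_of_mem := by
    rintro P φ ⟨hP, φ₁, h₁, φ₂, h₂, he⟩ a b hab
    rw [he a (mem_fst a) (mem_snd a), he b (mem_fst b) (mem_snd b)] at hab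
    have e1 := congrArg Subtype.val (F₁.injective_of_mem h₁ (congrArg Prod.fst hab))
    have e2 := congrArg Subtype.val (F₂.injective_of_mem h₂ (congrArg Prod.snd hab))
    exact Subtype.ext (Prod.ext e1 e2)
  conj_mem := by
    intro P g hP hg
    refine ⟨hP, Cfsg.conjHom _ g.1, F₁.conj_mem ?_ hg.1, Cfsg.conjHom _ g.2, F₂.conj_mem ?_ hg.2,
      fun x _ _ => rfl⟩
    · rintro _ ⟨y, hy, rfl⟩; exact (hP hy).1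
    · rintro _ ⟨y, hy, rfl⟩; exact (hP hy).2
  comp_mem := by
    rintro P Q φ ψ ⟨hP, φ₁, h₁, φ₂, h₂, he⟩ ⟨hQ, ψ₁, k₁, ψ₂, k₂, ke⟩ h
    have m1 : ∀ y : ↥(P.map (MonoidHom.fst Ω₁ Ω₂)), φ₁ y ∈ Q.map (MonoidHom.fst Ω₁ Ω₂) := by
      rintro ⟨_, z, hz, rfl⟩
      exact ⟨φ ⟨z, hz⟩, h ⟨z, hz⟩, congrArg Prod.fst (he ⟨z, hz⟩ (mem_fst _) (mem_snd _))⟩
    have m2 : ∀ y : ↥(P.map (MonoidHom.snd Ω₁ Ω₂)), φ₂ y ∈ Q.map (MonoidHom.snd Ω₁ Ω₂) := by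
      rintro ⟨_, z, hz, rfl⟩
      exact ⟨φ ⟨z, hz⟩, h ⟨z, hz⟩, congrArg Prod.snd (he ⟨z, hz⟩ (mem_fst _) (mem_snd _))⟩
    refine ⟨hP, _, F₁.comp_mem h₁ k₁ m1, _, F₂.comp_mem h₂ k₂ m2, fun x p₁ p₂ => ?_⟩
    have e := he x p₁ p₂
    refine (ke ⟨φ x, h x⟩ (mem_fst _) (mem_snd _)).trans (Prod.ext ?_ ?_)
    · exact congrArg ψ₁ (Subtype.ext (congrArg Prod.fst e))
    · exact congrArg ψ₂ (Subtype.ext (congrArg Prod.snd e))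
  inv_mem := by
    rintro P φ ⟨hP, φ₁, h₁, φ₂, h₂, he⟩
    obtain ⟨ψ₁, k₁, i₁⟩ := F₁.inv_mem h₁
    obtain ⟨ψ₂, k₂, i₂⟩ := F₂.inv_mem h₂
    have r1 : φ.range.map (MonoidHom.fst Ω₁ Ω₂) = φ₁.range := by
      ext a; constructor
      · rintro ⟨_, ⟨x, rfl⟩, rfl⟩
        exact ⟨⟨_, mem_fst x⟩, (congrArg Prod.fst (he x (mem_fst x) (mem_snd x))).symm⟩
      · rintro ⟨⟨_, z, hz, rfl⟩, rfl⟩
        exact ⟨φ ⟨z, hz⟩, ⟨⟨z, hz⟩, rfl⟩, congrArg Prod.fst (he ⟨z, hz⟩ (mem_fst _) (mem_snd _))⟩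
    have r2 : φ.range.map (MonoidHom.snd Ω₁ Ω₂) = φ₂.range := by
      ext a; constructor
      · rintro ⟨_, ⟨x, rfl⟩, rfl⟩
        exact ⟨⟨_, mem_snd x⟩, (congrArg Prod.snd (he x (mem_fst x) (mem_snd x))).symm⟩
      · rintro ⟨⟨_, z, hz, rfl⟩, rfl⟩
        exact ⟨φ ⟨z, hz⟩, ⟨⟨z, hz⟩, rfl⟩, congrArg Prod.snd (he ⟨z, hz⟩ (mem_fst _) (mem_snd _))⟩
    let c1 : ↥(φ.range.map (MonoidHom.fst Ω₁ Ω₂)) →* ↥(φ₁.range) :=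
      Subgroup.inclusion (le_of_eq r1)
    let c2 : ↥(φ.range.map (MonoidHom.snd Ω₁ Ω₂)) →* ↥(φ₂.range) :=
      Subgroup.inclusion (le_of_eq r2)
    have t1 : ψ₁.comp c1 ∈ F₁.Hom (φ.range.map (MonoidHom.fst Ω₁ Ω₂)) := by
      have hh : ∀ x, Cfsg.conjHom (φ.range.map (MonoidHom.fst Ω₁ Ω₂)) 1 x ∈ φ₁.range := fun x => by
        rw [← r1]; simpa [Cfsg.conjHom] using x.2
      have := F₁.comp_mem (F₁.conj_mem (g := 1) (r1.le.trans (by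
        rintro _ ⟨x, rfl⟩; exact (F₁.le_of_mem h₁).2 x)) S₁.one_mem) k₁ hh
      convert this using 1
      ext x
      exact congrArg ψ₁ (Subtype.ext (by simp [c1, Cfsg.conjHom]))
    have t2 : ψ₂.comp c2 ∈ F₂.Hom (φ.range.map (MonoidHom.snd Ω₁ Ω₂)) := by
      have hh : ∀ x, Cfsg.conjHom (φ.range.map (MonoidHom.snd Ω₁ Ω₂)) 1 x ∈ φ₂.range := fun x => by
        rw [← r2]; simpa [Cfsg.conjHom] using x.2
      have := F₂.comp_mem (F₂.conj_mem (g := 1) (r2.le.trans (by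
        rintro _ ⟨x, rfl⟩; exact (F₂.le_of_mem h₂).2 x)) S₂.one_mem) k₂ hh
      convert this using 1
      ext x
      exact congrArg ψ₂ (Subtype.ext (by simp [c2, Cfsg.conjHom]))
    have hle : φ.range ≤ S₁.prod S₂ := by
      rintro _ ⟨x, rfl⟩
      rw [he x (mem_fst x) (mem_snd x)]
      exact ⟨(F₁.le_of_mem h₁).2 _, (F₂.le_of_mem h₂).2 _⟩
    refine ⟨MonoidHom.prod ((ψ₁.comp c1).comp ((MonoidHom.fst Ω₁ Ω₂).subgroupMap φ.range))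
      ((ψ₂.comp c2).comp ((MonoidHom.snd Ω₁ Ω₂).subgroupMap φ.range)),
      ⟨hle, _, t1, _, t2, fun x _ _ => rfl⟩, fun x => ?_⟩
    refine Prod.ext ?_ ?_
    · refine Eq.trans (congrArg ψ₁ (Subtype.ext ?_)) (i₁ ⟨_, mem_fst x⟩)
      exact congrArg Prod.fst (he x (mem_fst x) (mem_snd x))
    · refine Eq.trans (congrArg ψ₂ (Subtype.ext ?_)) (i₂ ⟨_, mem_snd x⟩)
      exact congrArg Prod.snd (he x (mem_fst x) (mem_snd x))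

end

/-- Let F₁ and F₂ be fusion systems over finite p-groups S₁ and S₂ (inside ambient groups Ω₁ and Ω₂). Then their direct product exists: there is a fusion system over S₁ × S₂ inside Ω₁ × Ω₂ whose maps with source P ≤ S₁ × S₂ are exactly the restrictions to P of the homomorphisms (x₁, x₂) ↦ (φ₁ x₁, φ₂ x₂) with φ₁ a map of F₁ on the first projection of P and φ₂ a map of F₂ on the second projection. -/
theorem result {Ω₁ Ω₂ : Type*} [Group Ω₁] [Group Ω₂] {S₁ : Subgroup Ω₁} {S₂ : Subgroup Ω₂} [Finite S₁] [Finite S₂] (p : ℕ) [Fact p.Prime] (h₁ : IsPGroup p S₁) (h₂ : IsPGroup p S₂) (F₁ : Cfsg.FusionSystem S₁) (F₂ : Cfsg.FusionSystem S₂) : ∃ E : Cfsg.FusionSystem (S₁.prod S₂), Cfsg.FusionSystem.IsProductSystem F₁ F₂ E := by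
  exact ⟨prodSys F₁ F₂, fun P φ => Iff.rfl⟩

end Cfsg.Agent.S5136
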