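import Mathlib
import Cfsg.Statements.S5148
import Cfsg.Agent.S5132
import Cfsg.Agent.S5290
import Cfsg.Agent.Lib.FusionSysAlperin
import Cfsg.Agent.Lib.FusionMorph88
import Cfsg.Agent.Lib.TransferPResidual

set_option autoImplicit false
open Cfsg

namespace Cfsg.Agent.S5148

section
open Cfsg.FusionSystem Cfsg.Agent.FusionSysBasic Cfsg.Agent.FusionSysSaturated
  Cfsg.Agent.FusionSysNormal Cfsg.Agent.FusionMorph88

variable {Ω : Type*} [Group Ω] {S : Subgroup Ω} [Finite S] {p : ℕ} [Fact p.Prime]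
  {F : Cfsg.FusionSystem S}

omit [Fact p.Prime] in
theorem normalizerIn_eq (hc : ∀ a ∈ S, ∀ b ∈ S, a * b = b * a) {Q : Subgroup Ω} (hQ : Q ≤ S) :
    normalizerIn S Q = S := by
  refine le_antisymm inf_le_left fun g hg => ?_
  refine mem_normalizerIn.2 ⟨hg, mem_normalizer_of_cj_le hQ fun y hy => ?_⟩
  rw [cj_apply, hc g hg y (hQ hy), mul_inv_cancel_right]
  exact hy

theorem extends_to_top (hS : IsPGroup p S) (hF : F.IsSaturated p)
    (hc : ∀ a ∈ S, ∀ b ∈ S, a * b = b * a) {P : Subgroup Ω} {f : Ω → Ω} (hf : Mor F P f) :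
    ∃ g, Mor F S g ∧ ∀ x ∈ P, g x = f x := by
  have hn : F.IsFullyNormalized (im P f) := ⟨hf.im_le, fun Q hQ => by
    rw [normalizerIn_eq hc hf.im_le, normalizerIn_eq hc (isConj_right_le hQ)]⟩
  obtain ⟨g, hg, hag⟩ := (receptive_iff.1 (receptive_of_fullyNormalized hS hF hn)).2 P f S hf rfl
    le_rfl (fun g hg => mem_normalizer_of_cj_le hf.le fun y hy => by
      rw [cj_apply, hc g hg y (hf.le hy), mul_inv_cancel_right]; exact hy)
    (fun g hg => ⟨1, S.one_mem, fun x hx => by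
      rw [cj_one, cj_apply, hc g hg x (hf.le hx), mul_inv_cancel_right]⟩)
  exact ⟨g, hg.restrict_to le_sup_right, hag⟩

theorem false_of_abelian (hS : IsPGroup p S) (hq : F.Quasisimple p)
    (hc : ∀ a ∈ S, ∀ b ∈ S, a * b = b * a) : False := by
  obtain ⟨hF, hhyp, hsimp⟩ := hq
  set Z := F.center with hZdef
  have hZc : F.IsCentral Z := center_isCentral
  have hZfix : ∀ {g : Ω → Ω}, Mor F S g → ∀ z ∈ Z, g z = z := by
    intro g hg z hz
    obtain ⟨g', hg', hag, hfix⟩ := (isCentral_iff.1 hZc).2 S g hg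
    rw [← hag z (hZc.1 hz), hfix z hz]
  have hZcl : F.StronglyClosed Z := stronglyClosed_iff.2 ⟨hZc.1, fun P f hP hf x hx => by
    obtain ⟨g', hg', hag, hfix⟩ := (isCentral_iff.1 hZc).2 P f hf
    rw [← hag x hx, hfix x (hP hx)]
    exact hP hx⟩
  set Q := Z.subgroupOf S with hQdef
  let E := S5132.factorSys F Z hZcl
  have hfac : F.IsFactorSystem Z (QuotientGroup.mk' Q) E := ⟨hZc.1, fun s => by
    rw [← MonoidHom.mem_ker, QuotientGroup.ker_mk', Subgroup.mem_subgroupOf],
    QuotientGroup.range_mk' _, fun P' φ' => Iff.rfl⟩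
  obtain ⟨hEsat, hne, hsimple⟩ := hsimp E hfac
  have hcc : ∀ a b : S ⧸ Q, a * b = b * a := fun a b => by
    obtain ⟨s, rfl⟩ := QuotientGroup.mk'_surjective Q a
    obtain ⟨t, rfl⟩ := QuotientGroup.mk'_surjective Q b
    rw [← map_mul, ← map_mul]
    exact congrArg _ (Subtype.ext (hc _ s.2 _ t.2))
  have hinner : ∀ {P' : Subgroup (S ⧸ Q)} {f'},
      Mor (Cfsg.innerFusionSystem (⊤ : Subgroup (S ⧸ Q))) P' f' → ∀ x ∈ P', f' x = x := by
    intro P' f' h x hx
    obtain ⟨-, g, -, he⟩ := FusionSysAlperin.mor_inner_iff.1 h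
    rw [he x hx, cj_apply, hcc g x, mul_inv_cancel_right]
  have hpre : preimageAlong (QuotientGroup.mk' Q) (⊤ : Subgroup (S ⧸ Q)) = S := by
    refine le_antisymm (preimageAlong_le _ _) fun x hx => mem_preimageAlong.2 ⟨hx, trivial⟩
  have hmor_top : ∀ {g : Ω → Ω}, Mor F S g → ∃ g', Mor E (⊤ : Subgroup (S ⧸ Q)) g' ∧
      ∀ x ∈ S, g' (app (QuotientGroup.mk' Q) x) = app (QuotientGroup.mk' Q) (g x) := by
    intro g hg
    have hwd : ∀ x ∈ S, ∀ y ∈ S, app (QuotientGroup.mk' Q) x = app (QuotientGroup.mk' Q) y →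
        app (QuotientGroup.mk' Q) (g x) = app (QuotientGroup.mk' Q) (g y) := by
      intro x hx y hy e
      rw [app_apply _ hx, app_apply _ hy] at e
      have hz : x⁻¹ * y ∈ Z := Subgroup.mem_subgroupOf.1 (QuotientGroup.eq.1 e)
      have hy' : g y = g x * (x⁻¹ * y) := by
        rw [← hZfix hg _ hz, ← hg.map_mul hx (hZc.1 hz), mul_inv_cancel_left]
      rw [hy', app_mul (hg.apply_mem hx) (hZc.1 hz), app_apply _ (hZc.1 hz)]
      have : (QuotientGroup.mk' Q) ⟨x⁻¹ * y, hZc.1 hz⟩ = 1 :=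
        (QuotientGroup.eq_one_iff _).2 (Subgroup.mem_subgroupOf.2 hz)
      rw [this, mul_one]
    refine ⟨fun y => app (QuotientGroup.mk' Q)
      (g (Function.surjInv (QuotientGroup.mk'_surjective Q) y : S)),
      (factor_mor hfac).2 ⟨le_rfl, g, hpre.symm ▸ hg, fun x hx => ?_⟩, fun x hx => ?_⟩
    all_goals
      first
      | (rw [hpre] at hx)
      | skip
      refine hwd _ (Subtype.coe_prop _) x hx ?_
      rw [app_apply _ (Subtype.coe_prop _)]
      exact Function.surjInv_eq (QuotientGroup.mk'_surjective Q) _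
  have hTn : E.IsNormal (⊤ : Subgroup (S ⧸ Q)) := by
    refine isNormal_iff.2 ⟨le_rfl, fun P' f' hf' => ?_⟩
    obtain ⟨-, f, hf, hff'⟩ := (factor_mor hfac).1 hf'
    obtain ⟨g, hg, hag⟩ := extends_to_top hS hF hc hf
    obtain ⟨g', hg', he⟩ := hmor_top hg
    refine ⟨g', ?_, fun y hy => ?_, ?_⟩
    · rw [sup_eq_right.2 (le_top : P' ≤ ⊤)]; exact hg'
    · obtain ⟨s, rfl⟩ := QuotientGroup.mk'_surjective Q y
      have hs : (s : Ω) ∈ preimageAlong (QuotientGroup.mk' Q) P' := mem_preimageAlong.2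
        ⟨s.2, by rw [app_apply _ s.2]; exact hy⟩
      have e1 := he s s.2
      have e2 := hff' s hs
      rw [hag s hs, ← e2, app_apply _ s.2] at e1
      exact e1
    · exact hg'.im_self fun x hx => hg'.apply_mem hx
  have hwn := (S5290.result p ((hS.to_quotient Q).to_subgroup ⊤) E hEsat ⊤ le_rfl).1 hTn
  have hnormal : (Cfsg.innerFusionSystem (⊤ : Subgroup (S ⧸ Q))).IsNormalIn E p := by
    refine ⟨hwn, fun α hα => ?_⟩
    have h1 : ∀ x ∈ (⊤ : Subgroup (S ⧸ Q)), afun α x = x :=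
      hinner ((mem_autGroup le_rfl).1 hα)
    refine ⟨1, one_mem _, fun x => ?_, fun c hc' => ?_⟩
    · exact (h1 x x.2).symm.trans (afun_coe α x)
    · show (c : S ⧸ Q)⁻¹ * c ∈ _
      rw [inv_mul_cancel]; exact one_mem _
  rcases hsimple _ _ hnormal with h | ⟨-, h⟩
  · exact hne h
  -- every map on `S` moves every element inside its coset of the centre
  have hcoset : ∀ {g : Ω → Ω}, Mor F S g → ∀ x ∈ S, x⁻¹ * g x ∈ Z := by
    intro g hg x hx
    obtain ⟨g', hg', he⟩ := hmor_top hg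
    obtain ⟨φ, hφ, heφ⟩ := hg'
    have h2 : Mor (Cfsg.innerFusionSystem (⊤ : Subgroup (S ⧸ Q))) ⊤ g' :=
      ⟨φ, (h ⊤).symm ▸ hφ, heφ⟩
    have h3 := (he x hx).symm.trans (hinner h2 _ trivial)
    rw [app_apply _ hx, app_apply _ (hg.apply_mem hx)] at h3
    exact Subgroup.mem_subgroupOf.1 (QuotientGroup.eq.1 h3.symm)
  have htriv : ∀ R ≤ S, ∀ α ∈ F.autGroup R, (orderOf α).Coprime p → α = 1 := by
    intro R hR α hα hcop
    obtain ⟨g, hg, hag⟩ := extends_to_top hS hF hc ((mem_autGroup hR).1 hα)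
    refine afun_ext fun x hx => ?_
    rw [afun_one hx]
    set z := x⁻¹ * afun α x with hz
    have hzR : z ∈ R := R.mul_mem (R.inv_mem hx) (afun_mem α hx)
    have hzZ : z ∈ Z := by
      have := hcoset hg x (hR hx)
      rwa [hag x hx] at this
    have hfixz : afun α z = z := (hag z hzR).symm.trans (hZfix hg z hzZ)
    have hpow : ∀ n : ℕ, afun (α ^ n) x = x * z ^ n := by
      intro n
      induction n with
      | zero => simp [afun_one hx]
      | succ n ih =>
        rw [pow_succ', afun_mul _ _ hx, ih, afun_map_mul α hx (R.pow_mem hzR n)]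
        have : afun α (z ^ n) = z ^ n := by
          clear ih
          induction n with
          | zero => simpa using ((mem_autGroup hR).1 hα).map_one
          | succ n ih => rw [pow_succ, afun_map_mul α (R.pow_mem hzR n) hzR, ih, hfixz]
        rw [this, pow_succ', ← mul_assoc, hz, mul_inv_cancel_left]
    have h1 := hpow (orderOf α)
    rw [pow_orderOf_eq_one, afun_one hx, left_eq_mul] at h1
    obtain ⟨k, hk⟩ := hS ⟨z, hR hzR⟩
    have hk' : z ^ p ^ k = 1 := congrArg Subtype.val hk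
    have hz1 : z = 1 := by
      rw [← pow_one z, ← (Nat.Coprime.pow_right k hcop).gcd_eq_one]
      exact pow_gcd_eq_one.2 ⟨h1, hk'⟩
    exact (inv_mul_eq_one.1 hz1).symm
  have hhyp1 : F.hyperfocalSubgroup p ≤ ⊥ := by
    refine (Subgroup.closure_le _).2 ?_
    rintro _ ⟨P, α, x, hP, hα, rfl⟩
    have hα1 : α ∈ (⊥ : Subgroup (F.autGroup P)) :=
      (Cfsg.Agent.TransferPResidual.pResidual_le_iff_coprime.2 fun β hβ => Subgroup.mem_bot.2
        (Subtype.ext (htriv P hP β β.2 (by rwa [Subgroup.orderOf_coe])))) hα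
    rw [Subgroup.mem_bot] at hα1
    simp [hα1]
  have hS1 : S = ⊥ := le_bot_iff.1 (hhyp ▸ hhyp1)
  refine hne ((Subgroup.eq_bot_iff_forall _).2 fun y _ => ?_)
  obtain ⟨s, rfl⟩ := QuotientGroup.mk'_surjective Q y
  have : s = 1 := Subtype.ext (Subgroup.mem_bot.1 (hS1.le s.2))
  rw [this, map_one]

end

/-- A quasisimple fusion system over a finite p-group S (saturated, equal to its p-residual subsystem, with simple — in particular nontrivial — factor system modulo its centre) has S nonabelian. -/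
theorem result {Ω : Type*} [Group Ω] {S : Subgroup Ω} [Finite S] (p : ℕ) [Fact p.Prime] (hS : IsPGroup p S) (F : Cfsg.FusionSystem S) (hq : F.Quasisimple p) : ¬ IsMulCommutative S := by
  intro h
  exact false_of_abelian hS hq fun a ha b hb => congrArg Subtype.val (h.is_comm.comm (⟨a, ha⟩ : S) ⟨b, hb⟩)

end Cfsg.Agent.S5148
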