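import Cfsg.Statements.S5150
import Cfsg.Agent.Lib.FusionLayerCore

set_option autoImplicit false
open Cfsg

namespace Cfsg.Agent.S5150

open Cfsg.FusionSystem Cfsg.Agent.FusionSysBasic Cfsg.Agent.FusionSysSaturated
open Cfsg.Agent.FusionSysNormal Cfsg.Agent.FusionKit88 Cfsg.Agent.FusionCentralizerSub

/-- Let F be a saturated fusion system over a finite p-group S and E its layer (over T). Then O_p(F), the largest subgroup normal in F, centralizes E: every map of E extends to a map of F on the subgroup generated by its source and O_p(F) that fixes O_p(F) elementwise (so E is a subsystem of the centralizer system of O_p(F), and T commutes with O_p(F)). -/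
theorem result {Ω : Type*} [Group Ω] {S : Subgroup Ω} [Finite S] (p : ℕ) [Fact p.Prime] (hS : IsPGroup p S) (F : Cfsg.FusionSystem S) (hF : F.IsSaturated p) {T : Subgroup Ω} (E : Cfsg.FusionSystem T) (hE : E.IsLayerOf F p) (P : Subgroup Ω) : E.Hom P ⊆ F.centralizerHom F.core P := by
  set Q := F.core
  have hQ : F.IsNormal Q := core_isNormal
  have hI := FusionComponentExists.inner_normal hS hF hQ
  obtain ⟨D, hD, hDsub, hDaut⟩ :=
    FusionCentralizerNormal.exists_normal_centralizer' hS hF hI
  have hcs : ∀ x ∈ centralizerIn S Q, x ∈ cs F (Cfsg.innerFusionSystem Q) p := fun x hx => by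
    refine valid_le_cs hS hF hI.1.2.2 (X := centralizerIn S Q) ⟨le_rfl, fun P' f hf => ?_⟩ hx
    obtain ⟨hP', g, hg, he⟩ := FusionSysAlperin.mor_inner_iff.1 hf
    refine ⟨cj g, mor_cj (sup_le (hP'.trans hQ.1) inf_le_left) (hQ.1 hg),
      fun y hy => (he y hy).symm, fun c hc => ?_⟩
    exact FusionLayerCore.cj_comm.1 ((mem_centralizerIn.1 hc).2 g hg)
  refine fun φ hφ => hDsub P (hE.2.2 _ D hD (fun U C hC P' φ' hφ' => ?_) P hφ)
  obtain ⟨hUQ, hCQ⟩ := FusionLayerCore.component_centralizes_core hC.1 inferInstance inferInstance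
    hS hF hC.2
  have hUS : U ≤ S := hUQ.trans inf_le_left
  haveI := finite_of_le hUS
  have hUY : U ≤ cs F (Cfsg.innerFusionSystem Q) p := fun x hx => hcs x (hUQ hx)
  have hcl : FusionInduct88.Closed C (U := U) (fun R f => Mor D R f) :=
    { congr := fun h he => h.congr he
      conj := fun {R g} hR hg => mor_cj (hR.trans hUY) (hUY hg)
      comp := fun _ _ _ _ hfP h1 h2 => h1.comp h2 hfP
      inv := fun {R f g} _ _ _ hgf h1 => by
        obtain ⟨χ, hχ, hχf, -, -⟩ := h1.exists_inv
        refine hχ.congr fun y hy => ?_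
        obtain ⟨x, hx, rfl⟩ := h1.mem_im.1 hy
        rw [hχf x hx, hgf x hx] }
  refine (mor_iff_hom fun x => (toFun_coe φ' x).symm).1
    (FusionInduct88.induction' (hS.to_le hUS) hC.2.1 hcl (fun R hR α hα hco => ?_) (mor_toFun hφ'))
  obtain ⟨φ₀, hφ₀, he₀⟩ := (mem_autGroup hR).1 hα
  exact hDaut (hR.trans hUY) hco ((ext_central_iff he₀).1 (hCQ R hφ₀).2.2.2)

end Cfsg.Agent.S5150
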