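import Mathlib
import Cfsg.Statements.S5139
import Cfsg.Agent.Lib.FusionInduct88
import Cfsg.Agent.Lib.FusionPPower
import Cfsg.Agent.Lib.FusionTransport88
import Cfsg.Agent.Lib.TransferTate
import Cfsg.Agent.Lib.SylowCount

set_option autoImplicit false
open Cfsg

namespace Cfsg.Agent.S5139

section
open Cfsg.FusionSystem Cfsg.Agent.FusionSysBasic Cfsg.Agent.FusionInduct88
  Cfsg.Agent.TransferPResidual

variable {G : Type*} [Group G] [Finite G] {p : ℕ} [Fact p.Prime]

omit [Fact p.Prime] in
theorem pResidual_normal : (Cfsg.pResidual p G).Normal := by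
  constructor
  intro x hx g
  have h1 : (Cfsg.pResidual p G).map (MulAut.conj g).toMonoidHom ≤ Cfsg.pResidual p G :=
    map_pResidual_le _
  exact h1 ⟨x, hx, rfl⟩

theorem coprime_aut_conj {S P : Subgroup G} (hP : P ≤ S) {α : MulAut P}
    (hα : α ∈ (Cfsg.groupFusionSystem S).autGroup P) (hc : (orderOf α).Coprime p) :
    ∃ k ∈ Cfsg.pResidual p G, ∀ x ∈ P, afun α x = cj k x := by
  obtain ⟨g, -, hgn, hge⟩ := mem_autInducedBy.1 ((FusionSysGroup.mem_autGroup_group hP).1 hα)
  obtain ⟨a, ha⟩ := exists_pow_mem_pResidual (p := p) g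
  obtain ⟨i, hi⟩ := exists_pow_eq_self_of_coprime (x := α) (n := p ^ a) (hc.symm.pow_left a)
  refine ⟨(g ^ p ^ a) ^ i, pow_mem ha i, fun x hx => ?_⟩
  have key : ∀ n : ℕ, ∀ x ∈ P, afun (α ^ n) x = cj (g ^ n) x := by
    intro n
    induction n with
    | zero => intro x hx; rw [pow_zero, pow_zero, afun_one hx, cj_one]
    | succ n ih =>
      intro x hx
      rw [pow_succ, pow_succ, afun_mul _ _ hx, ← cj_cj, hge x hx]
      exact ih _ (cj_mem_of_normalizer hgn hx)
  rw [← pow_mul, ← key _ x hx, pow_mul, hi]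

theorem sylow_inf_pResidual_eq (S : Sylow p G) :
    (Cfsg.groupFusionSystem (S : Subgroup G)).hyperfocalSubgroup p =
      (S : Subgroup G) ⊓ Cfsg.pResidual p G := by
  set F := Cfsg.groupFusionSystem (S : Subgroup G)
  set R := F.hyperfocalSubgroup p
  set K := Cfsg.pResidual p G with hK
  haveI hKn : K.Normal := pResidual_normal
  have hRn : ∀ g ∈ (S : Subgroup G), ∀ x ∈ R, cj g x ∈ R := fun g hg x hx => cj_mem_hyperfocal hg hx
  refine TransferTate.eq_inf_pResidual_of_le_sup_commutator S (fun g hg => ?_) ?_ ?_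
  · rw [Subgroup.mem_normalizer_iff]
    refine fun x => ⟨hRn g hg x, fun h => ?_⟩
    have := hRn g⁻¹ (Subgroup.inv_mem _ hg) _ h
    rwa [← cj_apply, cj_inv_cj] at this
  · refine le_inf (FusionPPower.hyperfocal_le F) ((Subgroup.closure_le _).2 ?_)
    rintro _ ⟨P, α, x, hP, hα, rfl⟩
    let M : Subgroup (F.autGroup P) :=
      { carrier := {β | ∀ x : P, (x : G)⁻¹ * ((β : MulAut P) x : P) ∈ K}
        one_mem' := fun x => by simp
        mul_mem' := fun {a b} ha hb x => by
          have := mul_mem (hb x) (ha ((b : MulAut P) x))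
          simpa [mul_assoc] using this
        inv_mem' := fun {a} ha x => by
          have h1 := inv_mem (ha ((a : MulAut P)⁻¹ x))
          have h2 : (a : MulAut P) ((a : MulAut P)⁻¹ x) = x := MulEquiv.apply_symm_apply _ _
          rw [h2] at h1
          simpa [mul_inv_rev] using h1 }
    suffices Cfsg.pResidual p (F.autGroup P) ≤ M from this hα x
    rw [pResidual_le_iff_coprime]
    intro β hβ x
    obtain ⟨k, hk, hke⟩ := coprime_aut_conj hP β.2 (by rwa [Subgroup.orderOf_coe])
    rw [← afun_coe, hke x x.2, cj_apply, ← mul_assoc, ← mul_assoc]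
    exact K.mul_mem (by simpa using hKn.conj_mem k hk (x : G)⁻¹) (K.inv_mem hk)
  · set Z := R ⊔ ⁅(S : Subgroup G), (S : Subgroup G)⁆
    have hfoc : (S : Subgroup G).focalSubgroup ≤ Z := by
      rw [Subgroup.focalSubgroup_def, Subgroup.closure_le]
      rintro _ ⟨hS, x, hx, u, rfl⟩
      have hv : cj u x⁻¹ ∈ (S : Subgroup G) := by
        have := (S : Subgroup G).mul_mem ((S : Subgroup G).inv_mem hx) hS
        simpa [commutatorElement_def, cj_apply, mul_assoc] using this
      have hm : Mor F (Subgroup.zpowers x⁻¹) (cj u) := FusionSysGroup.mor_group_iff.2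
        ⟨by rw [Subgroup.zpowers_le]; exact (S : Subgroup G).inv_mem hx, u, fun _ _ => rfl,
          fun y hy => by
            obtain ⟨n, rfl⟩ := hy
            show cj u (x⁻¹ ^ n) ∈ _
            have : cj u (x⁻¹ ^ n) = (cj u x⁻¹) ^ n := by rw [cj_apply, cj_apply, conj_zpow]
            rw [this]; exact zpow_mem hv n⟩
      have key := induction' S.2 (FusionSysGroup.saturated_group S)
        (Φ := fun P f => ∀ x ∈ P, x⁻¹ * f x ∈ Z) ⟨?_, ?_, ?_, ?_⟩ ?_ hm x⁻¹ (Subgroup.mem_zpowers _)
      · simpa [commutatorElement_def, cj_apply, mul_assoc] using key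
      · exact fun h he x hx => he x hx ▸ h x hx
      · intro P g hP hg y hy
        refine Subgroup.mem_sup_right ?_
        have := Subgroup.commutator_mem_commutator ((S : Subgroup G).inv_mem (hP hy)) hg
        simpa [commutatorElement_def, cj_apply, mul_assoc] using this
      · intro P Q f g _ _ _ _ hfQ h1 h2 y hy
        have := Z.mul_mem (h1 y hy) (h2 _ (hfQ y hy))
        simpa [mul_assoc] using this
      · intro P f g hf _ _ hgf h1 y hy
        obtain ⟨z, hz, rfl⟩ := hf.mem_im.1 hy
        rw [hgf z hz]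
        simpa using Z.inv_mem (h1 z hz)
      · intro P hP α hα hc y hy
        exact Subgroup.mem_sup_left (gen_mem_hyperfocal hP hα hc hy)
    refine le_trans ?_ hfoc
    rw [← Subgroup.commutator_inf_eq_focalSubgroup]
    rintro t ⟨htS, htK⟩
    refine ⟨?_, htS⟩
    -- `K` is generated by elements of order prime to `p`
    let π : K →* Abelianization K := Abelianization.of
    let A : Subgroup (Abelianization K) :=
      { carrier := {a | (orderOf a).Coprime p}
        one_mem' := by simp
        mul_mem' := fun {a b} ha hb =>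
          Nat.Coprime.coprime_dvd_left (Commute.orderOf_mul_dvd_mul_orderOf (Commute.all a b))
            (Nat.Coprime.mul_left ha hb)
        inv_mem' := fun {a} ha => by simpa using ha }
    have htA : π ⟨t, htK⟩ ∈ A := by
      have : K ≤ (A.comap π).map K.subtype := by
        refine hK.le.trans ((pResidual_le_iff_coprime).2 ?_)
        intro g hg
        refine ⟨⟨g, mem_pResidual_of_coprime hg⟩, ?_, rfl⟩
        show (orderOf (π _)).Coprime p
        refine Nat.Coprime.coprime_dvd_left (orderOf_map_dvd π _) ?_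
        rwa [Subgroup.orderOf_mk]
      obtain ⟨u, hu, e⟩ := this htK
      have hu' : u = ⟨t, htK⟩ := Subtype.ext e
      exact hu' ▸ hu
    obtain ⟨k, hk⟩ := IsPGroup.iff_orderOf.1 S.2 ⟨t, htS⟩
    rw [Subgroup.orderOf_mk] at hk
    have h1 : orderOf (π ⟨t, htK⟩) = 1 := by
      refine Nat.Coprime.eq_one_of_dvd (Nat.Coprime.pow_right k htA) ?_
      rw [← hk]
      exact (orderOf_map_dvd π _).trans (by rw [Subgroup.orderOf_mk])
    rw [orderOf_eq_one_iff, ← MonoidHom.mem_ker, Abelianization.ker_of] at h1
    have h2 : ((commutator K).map K.subtype : Subgroup G) ≤ commutator G := by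
      rw [commutator_def, commutator_def, Subgroup.map_commutator]
      exact Subgroup.commutator_mono le_top le_top
    exact h2 ⟨_, h1, rfl⟩

end

/-- Let G be a finite group with Sylow p-subgroup S and O^p(G) the subgroup generated by the elements of order prime to p. Then the p-residual subsystem of the fusion system of G on S — the saturated subsystem of p-power index over the hyperfocal subgroup — is the fusion system of O^p(G) on S ∩ O^p(G): its maps are exactly the conjugation maps by elements of O^p(G) between subgroups of S ∩ O^p(G). -/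
theorem result {G : Type*} [Group G] [Finite G] (p : ℕ) [Fact p.Prime] (S : Sylow p G) (E : Cfsg.FusionSystem ((Cfsg.groupFusionSystem (S : Subgroup G)).hyperfocalSubgroup p)) (hE : (Cfsg.groupFusionSystem (S : Subgroup G)).IsPResidual p E) : ∃ h : (S : Subgroup G) ⊓ Cfsg.pResidual p G ≤ Cfsg.pResidual p G, ∀ P : Subgroup G, E.Hom P = (Cfsg.fusionSystemOfSubgroup (Cfsg.pResidual p G) ((S : Subgroup G) ⊓ Cfsg.pResidual p G) h).Hom P := by
  open Cfsg.FusionSystem Cfsg.Agent.FusionSysBasic Cfsg.Agent.TransferPResidual in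
  refine ⟨inf_le_right, ?_⟩
  set F := Cfsg.groupFusionSystem (S : Subgroup G)
  haveI hKn : (Cfsg.pResidual p G).Normal := pResidual_normal
  have hhyp := sylow_inf_pResidual_eq S
  have hsat : (Cfsg.fusionSystemOfSubgroup (Cfsg.pResidual p G)
      ((S : Subgroup G) ⊓ Cfsg.pResidual p G) inf_le_right).IsSaturated p :=
    FusionTransport88.saturated_subgroup inf_le_right (SylowCount.infSylow S (Cfsg.pResidual p G)) rfl
  refine FusionPPower.pPower_unique S.2 hE.1 hsat hE.2 ⟨?_, hhyp.le, fun P hP => ?_⟩ hhyp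
  · rintro P φ ⟨hP, hφ, g, -, hg⟩
    exact ⟨hP.trans inf_le_left, fun x => (hφ x).1, g, hg⟩
  · refine FusionPPower.map_pResidual_le_of_coprime fun α hα hc => ?_
    obtain ⟨k, hk, hke⟩ := coprime_aut_conj (hP.trans inf_le_left) hα hc
    refine mem_autGroup_of_mor (FusionTransport88.mor_subgroup_iff.2
      ⟨hP, k, hk, hke, fun x hx => ?_⟩)
    rw [← hke x hx]
    exact hP (afun_mem α hx)

end Cfsg.Agent.S5139
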