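import Mathlib
import Cfsg.Statements.S5118
import Cfsg.Agent.Lib.FusionTransport88
import Cfsg.Agent.Lib.SylowCount

set_option autoImplicit false
open Cfsg

namespace Cfsg.Agent.S5118

section
open Cfsg.FusionSystem Cfsg.Agent.FusionSysBasic Cfsg.Agent.FusionSysSaturated

theorem conjHom_mem_group {G : Type*} [Group G] {S P : Subgroup G} {g : G} (hP : P ≤ S)
    (h : ∀ x ∈ P, cj g x ∈ S) : Mor (Cfsg.groupFusionSystem S) P (cj g) :=
  FusionSysGroup.mor_group_iff.2 ⟨hP, g, fun _ _ => rfl, h⟩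

theorem exists_aut_of_normalizes {G : Type*} [Group G] [Finite G] {S P : Subgroup G} {g : G}
    (hP : P ≤ S) (h : ∀ x ∈ P, cj g x ∈ P) :
    ∃ α ∈ (Cfsg.groupFusionSystem S).autGroup P, ∀ x ∈ P, afun α x = cj g x :=
  (conjHom_mem_group hP fun x hx => hP (h x hx)).exists_aut
    ((conjHom_mem_group hP fun x hx => hP (h x hx)).im_self h)

end

/-- For a finite group G with Sylow p-subgroup S and a normal subgroup H, the fusion system of H on S ∩ H is a normal subsystem of the fusion system of G on S. -/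
theorem result {G : Type*} [Group G] [Finite G] (p : ℕ) [Fact p.Prime] (S : Sylow p G) (H : Subgroup G) [H.Normal] : (Cfsg.fusionSystemOfSubgroup H ((S : Subgroup G) ⊓ H) inf_le_right).IsNormalIn (Cfsg.groupFusionSystem (S : Subgroup G)) p := by
  classical
  open Cfsg.FusionSystem Cfsg.Agent.FusionSysBasic Cfsg.Agent.FusionSysSaturated in
  set T : Subgroup G := (S : Subgroup G) ⊓ H with hTdef
  have hTS : T ≤ (S : Subgroup G) := inf_le_left
  have hTH : T ≤ H := inf_le_right
  have hsyl : (SylowCount.infSylow S H : Subgroup H) = T.subgroupOf H := rfl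
  have hFr := Sylow.normalizer_sup_eq_top (N := H) (SylowCount.infSylow S H)
  rw [hsyl, Subgroup.subgroupOf_map_subtype, inf_eq_left.2 hTH] at hFr
  have hSn : (S : Subgroup G) ≤ Subgroup.normalizer (T : Set G) :=
    Subgroup.le_normalizer.trans (SylowCount.normalizer_le_normalizer_inf _ H)
  refine ⟨⟨FusionTransport88.saturated_subgroup inf_le_right _ hsyl,
    FusionSysGroup.saturated_group S, ?_, ?_, ?_, ?_⟩, ?_⟩
  · rintro P φ ⟨hP, hφ, g, -, hg⟩
    exact ⟨hP.trans hTS, fun x => hTS (hφ x), g, hg⟩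
  · refine ⟨hTS, fun R hR φ hφ x => ?_⟩
    obtain ⟨-, hφS, g, hg⟩ := hφ
    exact ⟨hφS x, hg x ▸ ‹H.Normal›.conj_mem _ (hTH (hR x.2)) g⟩
  · rintro P hPT φ ⟨-, hφT, h, hh, he⟩ α hα
    obtain ⟨g, -, -, hge⟩ := mem_autInducedBy.1 ((FusionSysGroup.mem_autGroup_group hTS).1 hα)
    have hval : ∀ y ∈ (P.subgroupOf T).map (T.subtype.comp α.toMonoidHom),
        cj (g * h * g⁻¹) y ∈ T := by
      rintro _ ⟨x, hx, rfl⟩
      show cj (g * h * g⁻¹) ((α x : T) : G) ∈ T
      rw [← afun_coe α x, hge _ x.2, cj_cj, inv_mul_cancel_right, ← cj_cj]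
      have h1 : cj h (x : G) = φ ⟨x, hx⟩ := (he ⟨x, hx⟩).symm
      rw [h1, ← hge _ (hφT _)]
      exact afun_mem α (hφT _)
    refine ⟨Cfsg.conjHom _ (g * h * g⁻¹), ⟨?_, fun y => hval y y.2, _,
      ‹H.Normal›.conj_mem h hh g, fun y => rfl⟩, fun x hφx hαx => ?_⟩
    · rintro _ ⟨x, -, rfl⟩
      exact (α x).2
    · show cj (g * h * g⁻¹) ((α ⟨x, hPT x.2⟩ : T) : G) = _
      rw [← afun_coe, hge _ (hPT x.2), cj_cj, inv_mul_cancel_right, ← cj_cj,
        show cj h (x : G) = φ x from (he x).symm, ← afun_apply α hφx, hge _ hφx]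
  · rintro P hPT φ ⟨-, hφS, g, he⟩
    obtain ⟨n, hn, h, hh, rfl⟩ := Subgroup.mem_sup_of_normal_right.1
      (hFr.symm ▸ Subgroup.mem_top g)
    obtain ⟨α, hα, hαe⟩ := exists_aut_of_normalizes hTS (fun x hx => cj_mem_of_normalizer hn hx)
    have hval : ∀ x : P, cj h (x : G) ∈ T := fun x => by
      have h1 : cj (n * h) (x : G) ∈ T :=
        ⟨(show φ x = cj (n * h) (x : G) from he x) ▸ hφS x, ‹H.Normal›.conj_mem _ (hTH (hPT x.2)) _⟩
      rw [← cj_cj] at h1
      have := cj_mem_of_normalizer (Subgroup.inv_mem _ hn) h1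
      rwa [cj_inv_cj] at this
    refine ⟨α, hα, Cfsg.conjHom P h, ⟨hPT, hval, h, hh, fun x => rfl⟩, fun x hx => ?_⟩
    rw [← afun_apply α hx, hαe _ hx, show Cfsg.conjHom P h x = cj h (x : G) from rfl, cj_cj]
    exact he x
  · intro α hα
    obtain ⟨-, h, hh, hhe, hhT⟩ :=
      FusionTransport88.mor_subgroup_iff.1 ((mem_autGroup le_rfl).1 hα)
    set C : Subgroup G := Cfsg.FusionSystem.centralizerIn (S : Subgroup G) T with hC
    have hsylN : SylIn p (Cfsg.FusionSystem.normalizerIn (S : Subgroup G) T)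
        (Subgroup.normalizer (T : Set G)) := by
      rw [show Cfsg.FusionSystem.normalizerIn (S : Subgroup G) T = S from inf_eq_left.2 hSn]
      exact ⟨S.subtype hSn, rfl⟩
    have hCC := (FusionSysGroup.sylIn_of_normalizer S.2 hsylN).1
    set K : Subgroup G := (H ⊓ Subgroup.centralizer (T : Set G)) ⊔ C with hK
    have hKC : K ≤ Subgroup.centralizer (T : Set G) := sup_le inf_le_right inf_le_right
    have hCK : SylIn p C K := by
      have hCp : IsPGroup p C := S.2.to_le inf_le_left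
      rw [sylIn_iff_card le_sup_right]
      refine le_antisymm (FusionSysGroup.card_le_pow_factorization hCp le_sup_right) ?_
      rw [show Nat.card C = _ from (sylIn_iff_card inf_le_right).1 hCC]
      refine Nat.pow_le_pow_right (Fact.out : p.Prime).pos ?_
      exact (Nat.factorization_le_iff_dvd Nat.card_pos.ne' Nat.card_pos.ne').2
        (Subgroup.card_dvd_of_le hKC) p
    have hhn : h ∈ Subgroup.normalizer (T : Set G) := mem_normalizer_of_cj_le le_rfl hhT
    have hDK : im C (cj h) ≤ K := by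
      rw [im_le_iff]
      intro c hc
      have hcC : c ∈ Subgroup.centralizer (T : Set G) := hc.2
      have hmem : cj h c * c⁻¹ ∈ H ⊓ Subgroup.centralizer (T : Set G) := by
        refine Subgroup.mem_inf.2 ⟨?_, Subgroup.mul_mem _ ?_ (Subgroup.inv_mem _ hcC)⟩
        · have h1 : c * h⁻¹ * c⁻¹ ∈ H := ‹H.Normal›.conj_mem _ (H.inv_mem hh) c
          have := H.mul_mem hh h1
          simpa [cj_apply, mul_assoc] using this
        · rw [Subgroup.mem_centralizer_iff]
          intro y hy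
          have h1 := Subgroup.mem_centralizer_iff.1 hcC _
            (cj_mem_of_normalizer (Subgroup.inv_mem _ hhn) hy)
          have h2 := congrArg (cj h) h1
          simp only [cj_apply] at h2 ⊢
          simpa [mul_assoc] using h2
      have := mul_mem (Subgroup.mem_sup_left hmem) (Subgroup.mem_sup_right hc : c ∈ K)
      simpa [mul_assoc] using this
    obtain ⟨a, ha, haD⟩ := sylIn_absorb hCK (K := im C (cj h))
      ((im_cj C h).symm ▸ (S.2.to_le inf_le_left).map _) hDK
    have hnorm : C ≤ Subgroup.normalizer ((H ⊓ Subgroup.centralizer (T : Set G) : Subgroup G) : Set G) := by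
      intro c hc
      refine Subgroup.inf_normalizer_le_normalizer_inf ⟨?_, Subgroup.le_normalizer hc.2⟩
      rw [Subgroup.normalizer_eq_top]; trivial
    obtain ⟨k, hk, c, hc, rfl⟩ : ∃ k ∈ H ⊓ Subgroup.centralizer (T : Set G), ∃ c ∈ C, c * k = a := by
      have : a ∈ ((C ⊔ (H ⊓ Subgroup.centralizer (T : Set G)) : Subgroup G) : Set G) := by
        rw [sup_comm]; exact ha
      rw [Subgroup.coe_mul_of_left_le_normalizer_right _ _ hnorm] at this
      obtain ⟨c, hc, k, hk, e⟩ := Set.mem_mul.1 this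
      exact ⟨k, hk, c, hc, e⟩
    have hkC : ∀ x ∈ C, cj (k * h) x ∈ C := fun x hx => by
      have h1 : cj (c * k) (cj h x) ∈ C := haD _ (apply_mem_im hx)
      have h2 := C.mul_mem (C.mul_mem (C.inv_mem hc) h1) hc
      simpa [cj_apply, mul_assoc] using h2
    have hkT : ∀ x ∈ T, cj (k * h) x = afun α x := fun x hx => by
      rw [← cj_cj, hhe x hx, cj_apply k, ← Subgroup.mem_centralizer_iff.1 hk.2 _ (hhT x hx),
        mul_inv_cancel_right]
    have hTC : T ⊔ C ≤ (S : Subgroup G) := sup_le hTS inf_le_left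
    obtain ⟨β, hβ, hβe⟩ := exists_aut_of_normalizes (g := k * h) hTC (by
      intro x hx
      have : T ⊔ C ≤ (T ⊔ C).comap (MulAut.conj (k * h)).toMonoidHom := by
        refine sup_le (fun x hx => ?_) fun x hx => Subgroup.mem_sup_right (hkC x hx)
        refine Subgroup.mem_sup_left ?_
        show cj (k * h) x ∈ T
        rw [hkT x hx]; exact afun_mem α hx
      exact this hx)
    refine ⟨β, hβ, fun x => ?_, fun x hx => ?_⟩
    · rw [← afun_coe β, ← afun_coe α, show ((Subgroup.inclusion (le_sup_left : T ≤ T ⊔ C) x : ↥(T ⊔ C)) : G) = x from rfl, hβe _ (Subgroup.mem_sup_left x.2)]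
      exact hkT x x.2
    · rw [← afun_coe β, hβe _ x.2]
      have hH : (x : G)⁻¹ * cj (k * h) x ∈ H := by
        have h1 : (x : G)⁻¹ * (k * h) * (x : G)⁻¹⁻¹ ∈ H :=
          ‹H.Normal›.conj_mem _ (mul_mem hk.1 hh) _
        have := mul_mem h1 (H.inv_mem (mul_mem hk.1 hh))
        simpa [cj_apply, mul_assoc] using this
      exact ⟨⟨Subgroup.mul_mem _ (Subgroup.inv_mem _ hx.1) (hkC _ hx).1, hH⟩,
        Subgroup.mul_mem _ (Subgroup.inv_mem _ hx.2) (hkC _ hx).2⟩

end Cfsg.Agent.S5118
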