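import Mathlib
import Cfsg.Statements.S5119
import Cfsg.Agent.Lib.FusionFrattini88

set_option autoImplicit false
open Cfsg

namespace Cfsg.Agent.S5119

section
open Cfsg.FusionSystem Cfsg.Agent.FusionSysBasic Cfsg.Agent.FusionSysSaturated Cfsg.Agent.FusionKit88
  Cfsg.Agent.FusionFrattini88

variable {Ω : Type*} [Group Ω] {S T : Subgroup Ω} {F : Cfsg.FusionSystem S} {E : Cfsg.FusionSystem T}

theorem map_eq_im {P Q : Subgroup Ω} (hPQ : P ≤ Q) (ψ : Q →* Ω) {g : Ω → Ω}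
    (hg : ∀ x : Q, ψ x = g x) : (P.subgroupOf Q).map ψ = im P g := by
  apply le_antisymm
  · rintro _ ⟨x, hx, rfl⟩
    rw [hg]; exact apply_mem_im hx
  · rw [im_le_iff]
    intro x hx
    exact ⟨⟨x, hPQ hx⟩, hx, hg _⟩

variable (F E) in
/-- The strong invariance condition, for total functions. -/
def Strong : Prop :=
  ∀ (P Q : Subgroup Ω) (f g : Ω → Ω), P ≤ Q → Q ≤ T → Mor E P f → (∀ x ∈ P, f x ∈ Q) → Mor F Q g →
    ∃ k, Mor E (im P g) k ∧ ∀ x ∈ P, k (g x) = g (f x)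

variable (F E) in
/-- `g` is an automorphism of `T` after a map of `E`. -/
def Good (P : Subgroup Ω) (g : Ω → Ω) : Prop :=
  ∃ α ∈ F.autGroup T, ∃ g₀, Mor E P g₀ ∧ ∀ x ∈ P, g x = afun α (g₀ x)

variable (F E) in
/-- Invariance, for total functions. -/
def Inv : Prop :=
  ∀ (P : Subgroup Ω) (f : Ω → Ω), Mor E P f → ∀ α ∈ F.autGroup T,
    ∃ k, Mor E (im P (afun α)) k ∧ ∀ x ∈ P, k (afun α x) = afun α (f x)

theorem good_comp (hinv : Inv F E) {P Q : Subgroup Ω} {g h : Ω → Ω} (hg : Good F E P g)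
    (hh : Good F E Q h) (hgQ : ∀ x ∈ P, g x ∈ Q) : Good F E P (h ∘ g) := by
  obtain ⟨α, hα, g₀, hg₀, eg⟩ := hg
  obtain ⟨β, hβ, h₀, hh₀, eh⟩ := hh
  obtain ⟨k, hk, ek⟩ := hinv Q h₀ hh₀ α⁻¹ (inv_mem hα)
  have hmem : ∀ x ∈ P, g₀ x ∈ im Q (afun α⁻¹) := fun x hx => by
    have := apply_mem_im (f := afun α⁻¹) (hgQ x hx)
    rwa [eg x hx, afun_inv_apply α (hg₀.apply_mem hx)] at this
  refine ⟨β * α, mul_mem hβ hα, k ∘ g₀, hg₀.comp hk hmem, fun x hx => ?_⟩
  have h1 : k (g₀ x) = afun α⁻¹ (h₀ (g x)) := by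
    rw [← ek _ (hgQ x hx), eg x hx, afun_inv_apply α (hg₀.apply_mem hx)]
  show h (g x) = afun (β * α) (k (g₀ x))
  rw [eh _ (hgQ x hx), h1, afun_mul _ _ (afun_mem _ (hh₀.apply_mem (hgQ x hx))),
    afun_apply_inv α (hh₀.apply_mem (hgQ x hx))]

theorem good_of_E {P : Subgroup Ω} {g : Ω → Ω} (hg : Mor E P g) : Good F E P g :=
  ⟨1, one_mem _, g, hg, fun _ hx => (afun_one (hg.apply_mem hx)).symm⟩

theorem good_of_aut {P : Subgroup Ω} {g : Ω → Ω} (hP : P ≤ T) {α : MulAut T} (hα : α ∈ F.autGroup T)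
    (hg : ∀ x ∈ P, g x = afun α x) : Good F E P g :=
  ⟨α, hα, fun x => x, mor_id hP, hg⟩

theorem good_congr {P : Subgroup Ω} {g g' : Ω → Ω} (hg : Good F E P g) (h : ∀ x ∈ P, g x = g' x) :
    Good F E P g' := by
  obtain ⟨α, hα, g₀, hg₀, e⟩ := hg
  exact ⟨α, hα, g₀, hg₀, fun x hx => (h x hx).symm.trans (e x hx)⟩

theorem good_restrict {P Q : Subgroup Ω} {g : Ω → Ω} (hg : Good F E P g) (hQ : Q ≤ P) :
    Good F E Q g := by
  obtain ⟨α, hα, g₀, hg₀, e⟩ := hg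
  exact ⟨α, hα, g₀, hg₀.restrict_to hQ, fun x hx => e x (hQ hx)⟩

theorem good_inv (hinv : Inv F E) {P : Subgroup Ω} {g r : Ω → Ω} (hg : Good F E P g)
    (hgF : Mor F P g) (hr : ∀ x ∈ P, r (g x) = x) : Good F E (im P g) r := by
  obtain ⟨α, hα, g₀, hg₀, eg⟩ := hg
  obtain ⟨r₀, hr₀, er₀, -, -⟩ := hg₀.exists_inv
  have hmem : ∀ y ∈ im P g, afun α⁻¹ y ∈ im P g₀ := fun y hy => by
    obtain ⟨x, hx, rfl⟩ := hgF.mem_im.1 hy
    rw [eg x hx, afun_inv_apply α (hg₀.apply_mem hx)]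
    exact apply_mem_im hx
  have hle : im P g ≤ T := im_le_iff.2 fun x hx => by
    rw [eg x hx]; exact afun_mem _ (hg₀.apply_mem hx)
  refine good_congr (good_comp hinv (good_of_aut (g := afun α⁻¹) hle (inv_mem hα) fun _ _ => rfl)
    (good_of_E hr₀) hmem) fun y hy => ?_
  obtain ⟨x, hx, rfl⟩ := hgF.mem_im.1 hy
  rw [hr x hx, Function.comp_apply, eg x hx, afun_inv_apply α (hg₀.apply_mem hx), er₀ x hx]

theorem frattini [Finite S] {p : ℕ} [Fact p.Prime] (hS : IsPGroup p S) (hF : F.IsSaturated p)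
    (hsub : E.IsSubsystemOf F) (hT : F.StronglyClosed T) (hstr : Strong F E) (hinv : Inv F E) :
    ∀ (n : ℕ) (P : Subgroup Ω) (g : Ω → Ω), P ≤ T → Nat.card T - Nat.card P = n → Mor F P g →
      Good F E P g := by
  intro n
  induction n using Nat.strong_induction_on with
  | _ n ih =>
    intro P g hPT hn hg
    rcases eq_or_lt_of_le hPT with rfl | hlt
    · obtain ⟨α, hα, e⟩ := hg.exists_aut (hg.im_self fun x hx => closed_apply hT hg le_rfl hx)
      exact good_of_aut le_rfl hα fun x hx => (e x hx).symm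
    obtain ⟨R, hPR, hR⟩ := exists_fullyNormalized (F := F) (hPT.trans hT.1)
    have toR : ∀ P' : Subgroup Ω, P' ≤ T → Nat.card P' = Nat.card P → F.IsConj P' R →
        ∃ f, Mor F P' f ∧ im P' f = R ∧ Good F E P' f := by
      intro P' hP'T hc hP'R
      haveI := finite_of_le hT.1
      have hlt' : P' < T := lt_of_le_of_ne hP'T fun e => hlt.ne
        (Subgroup.eq_of_le_of_card_ge hPT (e ▸ hc).le)
      obtain ⟨f, hf, -, him⟩ := exists_map_to_fullyNormalized hS hF hR hP'R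
      have hP'le : P' ≤ normalizerIn S P' := le_normalizerIn (hP'T.trans hT.1)
      refine ⟨f, hf.restrict_to hP'le, him, good_restrict (ih _ ?_ (normalizerIn T P') f inf_le_left rfl
        (hf.restrict_to (inf_le_inf_right _ hT.1))) (le_normalizerIn hP'T)⟩
      have h1 := card_lt_normalizerIn hS hT.1 hlt'
      have h2 : Nat.card (normalizerIn T P') ≤ Nat.card T := Subgroup.card_le_of_le inf_le_left
      omega
    have hP'T : im P g ≤ T := im_le_iff.2 fun x hx => closed_apply hT hg hPT hx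
    have hc' : Nat.card (im P g) = Nat.card P := hg.card_im
    have hconj : F.IsConj P (im P g) := FusionSysBasic.isConj_iff.2 ⟨g, hg, rfl⟩
    obtain ⟨f₁, hf₁, him₁, hg₁⟩ := toR P hPT rfl hPR
    obtain ⟨f₂, hf₂, him₂, hg₂⟩ := toR (im P g) hP'T hc' (isConj_trans (isConj_symm hconj) hPR)
    have hRT : R ≤ T := him₁ ▸ im_le_iff.2 fun x hx => closed_apply hT hf₁ hPT hx
    obtain ⟨r₁, hr₁, hr₁f, -, hr₁P⟩ := hf₁.exists_inv
    obtain ⟨r₂, hr₂, hr₂f, -, hr₂P⟩ := hf₂.exists_inv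
    -- the automorphism of `R`
    have hγ : Mor F R (f₂ ∘ g ∘ r₁) := by
      have := (hr₁.comp hg hr₁P).comp hf₂ fun y hy => apply_mem_im (hr₁P y hy)
      rwa [him₁] at this
    have hγim : im R (f₂ ∘ g ∘ r₁) = R := hγ.im_self fun y hy => by
      have := apply_mem_im (f := f₂) (apply_mem_im (f := g) (hr₁P y (him₁ ▸ hy)))
      rwa [him₂] at this
    obtain ⟨γ, hγA, eγ⟩ := hγ.exists_aut hγim
    have hM : ∀ a ∈ F.autGroup R, ∀ m ∈ E.autGroup R, m ∈ F.autGroup R → a * m * a⁻¹ ∈ E.autGroup R := by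
      intro a ha m hm _
      obtain ⟨k, hk, ek⟩ := hstr R R (afun m) (afun a) le_rfl hRT ((mem_autGroup hRT).1 hm)
        (fun x hx => afun_mem m hx) ((mem_autGroup hR.1).1 ha)
      rw [im_afun] at hk
      refine mem_autGroup_of_mor (hk.congr fun y hy => ?_)
      conv_lhs => rw [← afun_apply_inv a hy]
      rw [ek _ (afun_mem _ hy), afun_mul _ _ hy, afun_mul _ _ (afun_mem _ hy)]
    obtain ⟨β, hβ, m, hm, hmF, hγeq, f, hf, hfβ⟩ := frattini_ext hS hF hR (E.autGroup R) hM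
      (N := normalizerIn T R) (inf_le_inf_right _ hT.1)
      (fun t ht => autInducedBy_le hRT (by
        rw [mem_autInducedBy]
        exact ⟨t, ht.1, ht.2, fun x hx => afun_nHom _ hx⟩)) hγA
    have hgβ : Good F E R (afun β) := by
      haveI := finite_of_le hT.1
      have hRlt : R < T := lt_of_le_of_ne hRT fun e => hlt.ne
        (Subgroup.eq_of_le_of_card_ge hPT ((isConj_card hPR).trans (e ▸ rfl)).ge)
      have hle : normalizerIn T R ≤ T := inf_le_left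
      refine good_congr (good_restrict (ih _ ?_ (normalizerIn T R) f hle rfl
        (hf.restrict_to le_sup_right)) (le_normalizerIn hRT)) hfβ
      have h1 := card_lt_normalizerIn hS hT.1 hRlt
      have h2 : Nat.card (normalizerIn T R) ≤ Nat.card T := Subgroup.card_le_of_le hle
      have h3 := isConj_card hPR
      omega
    have hgγ : Good F E R (f₂ ∘ g ∘ r₁) := by
      refine good_congr (good_comp hinv (good_of_E ((mem_autGroup hRT).1 hm)) hgβ
        fun x hx => afun_mem m hx) fun x hx => ?_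
      rw [← eγ x hx, hγeq, afun_mul _ _ hx]; rfl
    have hgr₂ : Good F E R r₂ := him₂ ▸ good_inv hinv hg₂ hf₂ hr₂f
    refine good_congr (good_comp hinv (good_comp hinv hg₁ hgγ fun x hx => ?_) hgr₂ fun x hx => ?_)
      fun x hx => ?_
    · exact him₁ ▸ apply_mem_im hx
    · show f₂ (g (r₁ (f₁ x))) ∈ R
      rw [hr₁f x hx, ← him₂]
      exact apply_mem_im (apply_mem_im hx)
    · show r₂ (f₂ (g (r₁ (f₁ x)))) = g x
      rw [hr₁f x hx, hr₂f _ (apply_mem_im hx)]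

end

/-- Let F be a saturated fusion system over a finite p-group S and E a subsystem of F over a subgroup T that is strongly closed in F. Then E is invariant in F (invariance under Aut_F(T) plus the Frattini condition) if and only if the strong invariance condition holds: for P ≤ Q ≤ T, every map φ of E from P into Q and every map ψ of F with source Q, the transported map ψ φ ψ⁻¹ on ψ(P) is a map of E. -/
theorem result {Ω : Type*} [Group Ω] {S : Subgroup Ω} [Finite S] (p : ℕ) [Fact p.Prime] (hS : IsPGroup p S) (F : Cfsg.FusionSystem S) (hF : F.IsSaturated p) {T : Subgroup Ω} (E : Cfsg.FusionSystem T) (hE : E.IsSubsystemOf F) (hT : F.StronglyClosed T) : E.IsInvariantIn F ↔ ∀ (P Q : Subgroup Ω) (hPQ : P ≤ Q) (_ : Q ≤ T) (φ : P →* Ω) (_ : φ ∈ E.Hom P) (hφQ : ∀ x : P, φ x ∈ Q) (ψ : Q →* Ω) (_ : ψ ∈ F.Hom Q), ∃ χ ∈ E.Hom ((P.subgroupOf Q).map ψ), ∀ (x : P) (hx : ψ (Subgroup.inclusion hPQ x) ∈ (P.subgroupOf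 Q).map ψ), χ ⟨ψ (Subgroup.inclusion hPQ x), hx⟩ = ψ ⟨φ x, hφQ x⟩ := by
  open Cfsg.FusionSystem Cfsg.Agent.FusionSysBasic Cfsg.Agent.FusionKit88 in
  constructor
  · rintro ⟨-, -, hI, hFr⟩ P Q hPQ hQ φ hφ hφQ ψ hψ
    obtain ⟨α, hα, ψ₀, hψ₀, eψ⟩ := hFr Q hQ ψ hψ
    have m₀ := mor_toFun hψ₀
    have mφ := mor_toFun hφ
    have hψ₀T : ∀ x : Q, ψ₀ x ∈ T := (E.le_of_mem hψ₀).2
    obtain ⟨r, hr, er, -, hrP⟩ := (m₀.restrict_to hPQ).exists_inv
    -- transport through the map of `E`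
    have hf' : Mor E (im P (toFun ψ₀)) (toFun ψ₀ ∘ toFun φ ∘ r) := by
      refine (hr.comp mφ hrP).comp m₀ fun y hy => ?_
      rw [Function.comp_apply, toFun_apply φ (hrP y hy)]
      exact hφQ _
    obtain ⟨φ', hφ', eφ'⟩ := hf'
    have hle : im P (toFun ψ₀) ≤ T := (m₀.restrict_to hPQ).im_le
    obtain ⟨χ, hχ, eχ⟩ := hI _ hle φ' hφ' α hα
    have hsrc : ((im P (toFun ψ₀)).subgroupOf T).map (T.subtype.comp α.toMonoidHom) =
        (P.subgroupOf Q).map ψ := by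
      rw [map_eq_im hle _ (g := afun α) (fun x => (afun_coe α x).symm),
        map_eq_im hPQ ψ (g := toFun ψ) (fun x => (toFun_coe ψ x).symm),
        (m₀.restrict_to hPQ).im_comp]
      refine im_congr fun x hx => ?_
      rw [Function.comp_apply, toFun_apply ψ₀ (hPQ hx), toFun_apply ψ (hPQ hx),
        eψ ⟨x, hPQ hx⟩ (hψ₀T _), afun_apply α (hψ₀T _)]
    have hm : Mor E ((P.subgroupOf Q).map ψ) (toFun χ) := hsrc ▸ mor_toFun hχ
    obtain ⟨χ', hχ', eχ'⟩ := hm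
    refine ⟨χ', hχ', fun x hx => ?_⟩
    rw [eχ']
    have hy : toFun ψ₀ (x : Ω) ∈ im P (toFun ψ₀) := apply_mem_im x.2
    have hy' : ψ₀ (Subgroup.inclusion hPQ x) = toFun ψ₀ (x : Ω) := (toFun_coe ψ₀ _).symm
    have hz : ((α ⟨toFun ψ₀ (x : Ω), hle hy⟩ : T) : Ω) = ψ (Subgroup.inclusion hPQ x) := by
      rw [eψ (Subgroup.inclusion hPQ x) (hψ₀T _)]
      congr 2
      exact Subtype.ext hy'.symm
    have hz' : ((α ⟨toFun ψ₀ (x : Ω), hle hy⟩ : T) : Ω) ∈
        ((im P (toFun ψ₀)).subgroupOf T).map (T.subtype.comp α.toMonoidHom) :=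
      ⟨⟨_, hle hy⟩, hy, rfl⟩
    have h1 := eχ ⟨_, hy⟩ ((E.le_of_mem hφ').2 _) hz'
    show toFun χ (ψ (Subgroup.inclusion hPQ x)) = _
    rw [← hz, toFun_apply χ hz', h1, eψ ⟨φ x, hφQ x⟩ (hψ₀T _)]
    congr 2
    apply Subtype.ext
    show φ' ⟨toFun ψ₀ (x : Ω), hy⟩ = ψ₀ ⟨φ x, hφQ x⟩
    rw [eφ']
    show toFun ψ₀ (toFun φ (r (toFun ψ₀ (x : Ω)))) = _
    rw [er x x.2, toFun_coe φ x, toFun_apply ψ₀ (hφQ x)]
  · intro h
    have hstr : Strong F E := by
      rintro P Q f g hPQ hQ ⟨φ, hφ, eφ⟩ hfQ ⟨ψ, hψ, eψ⟩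
      obtain ⟨χ, hχ, eχ⟩ := h P Q hPQ hQ φ hφ (fun x => eφ x ▸ hfQ x x.2) ψ hψ
      refine ⟨toFun χ, (map_eq_im hPQ ψ eψ) ▸ mor_toFun hχ, fun x hx => ?_⟩
      have e1 : ψ (Subgroup.inclusion hPQ ⟨x, hx⟩) = g x := eψ _
      have hmem : ψ (Subgroup.inclusion hPQ ⟨x, hx⟩) ∈ (P.subgroupOf Q).map ψ := ⟨_, hx, rfl⟩
      rw [← e1, toFun_apply χ hmem, eχ ⟨x, hx⟩ hmem, eψ]
      exact congrArg g (eφ _)
    have hinv : Inv F E := fun P f hf α hα => hstr P T f (afun α) hf.le le_rfl hf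
      (fun x hx => hf.apply_mem hx) ((mem_autGroup hT.1).1 hα)
    refine ⟨hE, hT, fun P hPT φ hφ α hα => ?_, fun P hPT φ hφ => ?_⟩
    · obtain ⟨k, hk, ek⟩ := hinv P _ (mor_toFun hφ) α hα
      rw [← map_eq_im hPT (T.subtype.comp α.toMonoidHom) (g := afun α)
        (fun x => (afun_coe α x).symm)] at hk
      obtain ⟨χ, hχ, eχ⟩ := hk
      refine ⟨χ, hχ, fun x hφx hαx => ?_⟩
      rw [eχ]
      show k ((α ⟨x, hPT x.2⟩ : T) : Ω) = _
      rw [← afun_apply α (hPT x.2), ek x x.2, toFun_coe φ x, afun_apply α hφx]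
    · obtain ⟨α, hα, g₀, ⟨φ₀, hφ₀, e₀⟩, e⟩ :=
        frattini hS hF hE hT hstr hinv _ P (toFun φ) hPT rfl (mor_toFun hφ)
      refine ⟨α, hα, φ₀, hφ₀, fun x hx => ?_⟩
      rw [← toFun_coe φ x, e x x.2, ← afun_apply α hx, e₀]

end Cfsg.Agent.S5119
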