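import Mathlib
import Cfsg.Statements.S5120
import Cfsg.Agent.S5119
import Cfsg.Agent.Lib.FusionInduct88
import Cfsg.Agent.Lib.FusionPPower

set_option autoImplicit false
open Cfsg

namespace Cfsg.Agent.S5120

section
open Cfsg.FusionSystem Cfsg.Agent.FusionSysBasic Cfsg.Agent.FusionSysSaturated Cfsg.Agent.FusionInduct88
  Cfsg.Agent.FusionKit88 Cfsg.Agent.TransferPResidual

variable {Ω : Type*} [Group Ω] {S T : Subgroup Ω} {F : Cfsg.FusionSystem S} {E : Cfsg.FusionSystem T}
  {p : ℕ}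

theorem coprime_mem_autGroup (hi : E.HasPPowerIndexIn F p) {P : Subgroup Ω} (hP : P ≤ T)
    {α : MulAut P} (hα : α ∈ F.autGroup P) (hc : (orderOf α).Coprime p) : α ∈ E.autGroup P :=
  hi.2.2 P hP ⟨⟨α, hα⟩, mem_pResidual_of_coprime (by rwa [Subgroup.orderOf_mk]), rfl⟩

theorem afun_pow_eq {P Q : Subgroup Ω} (hQP : Q ≤ P) {α : MulAut P} {γ : MulAut Q}
    (h : ∀ x ∈ Q, afun γ x = afun α x) : ∀ (n : ℕ), ∀ x ∈ Q, afun (γ ^ n) x = afun (α ^ n) x := by
  intro n
  induction n with
  | zero => intro x hx; rw [pow_zero, pow_zero, afun_one hx, afun_one (hQP hx)]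
  | succ n ih =>
    intro x hx
    rw [pow_succ, pow_succ, afun_mul _ _ hx, afun_mul _ _ (hQP hx), ← h x hx]
    exact ih _ (afun_mem _ hx)

theorem orderOf_dvd_of_restrict {P Q : Subgroup Ω} (hQP : Q ≤ P) {α : MulAut P} {γ : MulAut Q}
    (h : ∀ x ∈ Q, afun γ x = afun α x) : orderOf γ ∣ orderOf α :=
  orderOf_dvd_of_pow_eq_one (afun_ext fun x hx => by
    rw [afun_pow_eq hQP h _ x hx, pow_orderOf_eq_one, afun_one (hQP hx), afun_one hx])

variable [Finite S] [Fact p.Prime]

theorem inv_of_pPower (hS : IsPGroup p S) (hEs : E.IsSaturated p) (hi : E.HasPPowerIndexIn F p)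
    (hcl : F.StronglyClosed T) : S5119.Inv F E := by
  intro P f hf a ha
  have hTS := hcl.1
  have haF : Mor F T (afun a) := (mem_autGroup hTS).1 ha
  have hclosed : Closed F (U := T) (fun P f => ∃ k, Mor E (im P (afun a)) k ∧
      ∀ x ∈ P, k (afun a x) = afun a (f x)) := by
    constructor
    · rintro P f g ⟨k, hk, e⟩ he
      exact ⟨k, hk, fun x hx => (e x hx).trans (congrArg _ (he x hx))⟩
    · intro P g hP hg
      refine ⟨cj (afun a g), mor_cj (im_le_iff.2 fun x hx => afun_mem a (hP hx)) (afun_mem a hg),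
        fun x hx => ?_⟩
      exact (haF.map_cj hg (hP hx)).symm
    · rintro P Q f g - - hP hQ hfQ ⟨k₁, hk₁, e₁⟩ ⟨k₂, hk₂, e₂⟩
      refine ⟨k₂ ∘ k₁, hk₁.comp hk₂ (fun y hy => ?_), fun x hx => ?_⟩
      · obtain ⟨x, hx, rfl⟩ := (haF.restrict_to hP).mem_im.1 hy
        rw [e₁ x hx]
        exact apply_mem_im (hfQ x hx)
      · rw [Function.comp_apply, e₁ x hx, e₂ _ (hfQ x hx)]; rfl
    · rintro P f g hfm - hP hgf ⟨k, hk, e⟩
      obtain ⟨r, hr, hrk, -, -⟩ := hk.exists_inv
      refine ⟨r, hr.restrict_to ?_, fun y hy => ?_⟩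
      · rw [im_le_iff]
        intro y hy
        obtain ⟨x, hx, rfl⟩ := hfm.mem_im.1 hy
        rw [← e x hx]
        exact apply_mem_im (apply_mem_im hx)
      · obtain ⟨x, hx, rfl⟩ := hfm.mem_im.1 hy
        rw [hgf x hx, ← e x hx, hrk _ (apply_mem_im hx)]
  obtain ⟨φ, hφ, he⟩ := hf
  have hEP := FusionPPower.le_of_pPower hS hEs hi.1 (D := subSystem hTS hclosed) le_rfl
    (fun R hR β hβ hc => mem_autGroup_of_mor (mor_subSystem.2
      ⟨(mem_autGroup (hR.trans hTS)).1 hβ, hR, fun x hx => hR (afun_mem β hx),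
        afun ((haF.restrict_to hR).transport rfl β),
        (mem_autGroup (im_le_iff.2 fun x hx => afun_mem a (hR hx))).1
          (coprime_mem_autGroup hi (im_le_iff.2 fun x hx => afun_mem a (hR hx))
            ((haF.restrict_to hR).transport_mem rfl hβ)
            (by rwa [MulEquiv.orderOf_eq])),
        fun x hx => (haF.restrict_to hR).afun_transport rfl β hx⟩))
  exact (mor_subSystem.1 ⟨φ, hEP P hφ, he⟩).2.2.2

theorem frattini_of_pPower (hS : IsPGroup p S) (hF : F.IsSaturated p)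
    (hi : E.HasPPowerIndexIn F p) (hcl : F.StronglyClosed T) (hinv : S5119.Inv F E)
    {P : Subgroup Ω} {f : Ω → Ω} (hf : Mor F P f) : S5119.Good F E (P ⊓ T) f := by
  refine induction' hS hF (Φ := fun P f => S5119.Good F E (P ⊓ T) f) ⟨?_, ?_, ?_, ?_⟩ ?_ hf
  · exact fun hg h => S5119.good_congr hg fun x hx => h x hx.1
  · intro P g hP hg
    have hm : Mor F T (cj g) := mor_cj hcl.1 hg
    obtain ⟨α, hα, hαe⟩ := hm.exists_aut (hm.im_self fun x hx => closed_apply hcl hm le_rfl hx)
    exact S5119.good_of_aut inf_le_right hα fun x hx => (hαe x hx.2).symm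
  · intro P Q f g hf hg _ _ hfQ h1 h2
    exact S5119.good_comp hinv h1 h2 fun x hx => ⟨hfQ x hx.1, closed_apply' hcl hf hx.1 hx.2⟩
  · intro P f g hf hg _ hgf h1
    refine S5119.good_restrict (S5119.good_inv hinv h1 (hf.restrict_to inf_le_left)
      fun x hx => hgf x hx.1) ?_
    rintro y ⟨hy, hyT⟩
    obtain ⟨x, hx, rfl⟩ := hf.mem_im.1 hy
    have hxT : x ∈ T := hgf x hx ▸ closed_apply' hcl hg hy hyT
    exact apply_mem_im (f := f) (show x ∈ P ⊓ T from ⟨hx, hxT⟩)
  · intro R hR α hα hc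
    have hm : Mor F (R ⊓ T) (afun α) := ((mem_autGroup hR).1 hα).restrict_to inf_le_left
    obtain ⟨γ, hγ, hγe⟩ := hm.exists_aut (hm.im_self fun x hx =>
      ⟨afun_mem α hx.1, closed_apply' hcl hm hx hx.2⟩)
    have := coprime_mem_autGroup hi inf_le_right hγ
      (Nat.Coprime.coprime_dvd_left (orderOf_dvd_of_restrict inf_le_left hγe) hc)
    exact S5119.good_congr (S5119.good_of_E ((mem_autGroup inf_le_right).1 this)) hγe

theorem extension_of_pPower (hS : IsPGroup p S) (hF : F.IsSaturated p) (hEs : E.IsSaturated p)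
    (hi : E.HasPPowerIndexIn F p) (hn : ∀ g ∈ S, ∀ x ∈ T, cj g x ∈ T) (hTS : T ≤ S) :
    ∀ α ∈ E.autGroup T, ∃ β ∈ F.autGroup (T ⊔ centralizerIn S T),
      (∀ x ∈ T, afun β x = afun α x) ∧ ∀ c ∈ centralizerIn S T,
        c⁻¹ * afun β c ∈ T ⊓ Subgroup.centralizer (T : Set Ω) := by
  set C := centralizerIn S T with hC
  have hCS : C ≤ S := inf_le_left
  have hWS : T ⊔ C ≤ S := sup_le hTS hCS
  haveI := finite_of_le hTS
  haveI := finite_of_le hWS
  let A : Subgroup (MulAut T) :=
    { carrier := {α | ∃ β ∈ F.autGroup (T ⊔ C), (∀ x ∈ T, afun β x = afun α x) ∧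
        ∀ c ∈ C, c⁻¹ * afun β c ∈ T ⊓ Subgroup.centralizer (T : Set Ω)}
      one_mem' := ⟨1, one_mem _, fun x hx => by rw [afun_one hx, afun_one (Subgroup.mem_sup_left hx)],
        fun c hc => by
          rw [afun_one (Subgroup.mem_sup_right hc), inv_mul_cancel]
          exact Subgroup.one_mem _⟩
      mul_mem' := by
        rintro α₁ α₂ ⟨β₁, hβ₁, e₁, d₁⟩ ⟨β₂, hβ₂, e₂, d₂⟩
        refine ⟨β₁ * β₂, mul_mem hβ₁ hβ₂, fun x hx => ?_, fun c hc => ?_⟩
        · rw [afun_mul _ _ (Subgroup.mem_sup_left hx), afun_mul _ _ hx, e₂ x hx,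
            e₁ _ (afun_mem _ hx)]
        · have hz := d₂ c hc
          have hzT : c⁻¹ * afun β₂ c ∈ T := hz.1
          rw [afun_mul _ _ (Subgroup.mem_sup_right hc),
            show afun β₂ c = c * (c⁻¹ * afun β₂ c) from (mul_inv_cancel_left _ _).symm,
            FusionSysNormal.afun_map_mul β₁ (Subgroup.mem_sup_right hc)
              (Subgroup.mem_sup_left hzT), ← mul_assoc, e₁ _ hzT]
          refine Subgroup.mul_mem _ (d₁ c hc) ⟨afun_mem α₁ hzT, ?_⟩
          refine Subgroup.mem_centralizer_iff.2 fun y hy => ?_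
          have h1 := Subgroup.mem_centralizer_iff.1 hz.2 _ (afun_mem α₁⁻¹ hy)
          have h2 := congrArg (afun α₁) h1
          rw [FusionSysNormal.afun_map_mul α₁ (afun_mem _ hy) hzT,
            FusionSysNormal.afun_map_mul α₁ hzT (afun_mem _ hy), afun_apply_inv α₁ hy] at h2
          exact h2
      inv_mem' := by
        rintro α ⟨β, hβ, e, d⟩
        have hpow : ∀ n : ℕ, ∃ β' ∈ F.autGroup (T ⊔ C), (∀ x ∈ T, afun β' x = afun (α ^ n) x) ∧
            ∀ c ∈ C, c⁻¹ * afun β' c ∈ T ⊓ Subgroup.centralizer (T : Set Ω) := by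
          intro n
          induction n with
          | zero =>
            exact ⟨1, one_mem _, fun x hx => by
              rw [pow_zero, afun_one hx, afun_one (Subgroup.mem_sup_left hx)], fun c hc => by
              rw [afun_one (Subgroup.mem_sup_right hc), inv_mul_cancel]
              exact Subgroup.one_mem _⟩
          | succ n ih =>
            obtain ⟨β', hβ', e', d'⟩ := ih
            refine ⟨β' * β, mul_mem hβ' hβ, fun x hx => ?_, fun c hc => ?_⟩
            · rw [pow_succ, afun_mul _ _ (Subgroup.mem_sup_left hx), afun_mul _ _ hx, e x hx,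
                e' _ (afun_mem _ hx)]
            · have hz := d c hc
              have hzT : c⁻¹ * afun β c ∈ T := hz.1
              rw [afun_mul _ _ (Subgroup.mem_sup_right hc),
                show afun β c = c * (c⁻¹ * afun β c) from (mul_inv_cancel_left _ _).symm,
                FusionSysNormal.afun_map_mul β' (Subgroup.mem_sup_right hc)
                  (Subgroup.mem_sup_left hzT), ← mul_assoc, e' _ hzT]
              refine Subgroup.mul_mem _ (d' c hc) ⟨afun_mem _ hzT, ?_⟩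
              refine Subgroup.mem_centralizer_iff.2 fun y hy => ?_
              have h1 := Subgroup.mem_centralizer_iff.1 hz.2 _ (afun_mem (α ^ n)⁻¹ hy)
              have h2 := congrArg (afun (α ^ n)) h1
              rw [FusionSysNormal.afun_map_mul _ (afun_mem _ hy) hzT,
                FusionSysNormal.afun_map_mul _ hzT (afun_mem _ hy), afun_apply_inv _ hy] at h2
              exact h2
        obtain ⟨n, hn'⟩ : ∃ n : ℕ, α⁻¹ = α ^ n :=
          ⟨orderOf α - 1, inv_eq_of_mul_eq_one_right (by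
            rw [← pow_succ', Nat.sub_add_cancel (orderOf_pos α), pow_orderOf_eq_one])⟩
        show ∃ β, _
        rw [hn']
        exact hpow n }
  suffices E.autGroup T ≤ A from fun α hα => this hα
  refine FusionWeakAlperin.autGroup_le_of_fullyNormalized (hS.to_le hTS) hEs fullyNormalized_self ?_ ?_
  · rw [Subgroup.map_le_iff_le_comap, pResidual_le_iff_coprime]
    intro ⟨α, hα⟩ hco
    rw [Subgroup.orderOf_mk] at hco
    have hαF : Mor F T (afun α) := sub_mor hi.1 ((mem_autGroup le_rfl).1 hα)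
    obtain ⟨f, hf, hag, hfC⟩ := exists_extension_centralizer
      (receptive_of_fullyNormalized hS hF (FusionWeakAlperin.fullyNormalized_of_normal hTS hn))
      hαF (im_afun α)
    obtain ⟨β₀, hβ₀, hβ₀e⟩ := hf.exists_aut (hf.im_self fun x hx =>
      mor_sup_induction hf (fun a ha => Subgroup.mem_sup_left (by rw [hag a ha]; exact afun_mem α ha))
        (fun b hb => Subgroup.mem_sup_right (hfC b hb)) hx)
    obtain ⟨a, m, hm, ha⟩ :=
      Nat.exists_eq_pow_mul_and_not_dvd (orderOf_pos β₀).ne' p (Fact.out : p.Prime).ne_one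
    obtain ⟨i, hi'⟩ := exists_pow_eq_self_of_coprime (x := α) (n := p ^ a)
      (hco.symm.pow_left a)
    set β := (β₀ ^ p ^ a) ^ i with hβdef
    have hres : ∀ x ∈ T, afun α x = afun β₀ x := fun x hx =>
      (hag x hx).symm.trans (hβ₀e x (Subgroup.mem_sup_left hx)).symm
    have hβc : (orderOf β).Coprime p := by
      refine Nat.Coprime.coprime_dvd_left (orderOf_dvd_of_pow_eq_one ?_)
        ((Nat.Prime.coprime_iff_not_dvd Fact.out).2 hm).symm
      rw [hβdef, ← pow_mul, ← pow_mul, mul_comm i m, ← mul_assoc, ← ha, pow_mul,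
        pow_orderOf_eq_one, one_pow]
    have hβF : β ∈ F.autGroup (T ⊔ C) := pow_mem (pow_mem hβ₀ _) _
    refine ⟨β, hβF, fun x hx => ?_, fun c hc => ?_⟩
    · rw [hβdef, ← pow_mul, ← afun_pow_eq le_sup_left hres _ x hx, pow_mul, hi']
      rfl
    · have h1 := hi.2.1 (gen_mem_hyperfocal hWS hβF hβc (Subgroup.mem_sup_right hc))
      have hβC : ∀ (n : ℕ), ∀ c ∈ C, afun (β₀ ^ n) c ∈ C := by
        intro n
        induction n with
        | zero => intro c hc; rw [pow_zero, afun_one (Subgroup.mem_sup_right hc)]; exact hc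
        | succ n ih =>
          intro c hc
          rw [pow_succ, afun_mul _ _ (Subgroup.mem_sup_right hc)]
          refine ih _ ?_
          rw [hβ₀e c (Subgroup.mem_sup_right hc)]
          exact hfC c hc
      refine ⟨h1, ?_⟩
      refine Subgroup.mul_mem _ (Subgroup.inv_mem _ hc.2) ?_
      rw [hβdef, ← pow_mul]
      exact (hβC _ c hc).2
  · intro α hα
    obtain ⟨g, hg, -, hge⟩ := mem_autInducedBy.1 hα
    have hm : Mor F (T ⊔ C) (cj g) := mor_cj hWS (hTS hg)
    have hfix : ∀ c ∈ C, cj g c = c := fun c hc => by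
      rw [cj_apply, Subgroup.mem_centralizer_iff.1 hc.2 g hg, mul_inv_cancel_right]
    obtain ⟨β, hβ, hβe⟩ := hm.exists_aut (hm.im_self fun x hx =>
      mor_sup_induction hm (fun a ha => Subgroup.mem_sup_left (T.mul_mem (T.mul_mem hg ha) (T.inv_mem hg)))
        (fun b hb => Subgroup.mem_sup_right (by rw [hfix b hb]; exact hb)) hx)
    refine ⟨β, hβ, fun x hx => by rw [hβe x (Subgroup.mem_sup_left hx), hge x hx], fun c hc => ?_⟩
    rw [hβe c (Subgroup.mem_sup_right hc), hfix c hc, inv_mul_cancel]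
    exact Subgroup.one_mem _

end

/-- Let F be a saturated fusion system over a finite p-group S and T a subgroup of S containing the hyperfocal subgroup of F and normal in S. Then every saturated subsystem of F over T of p-power index is a normal subsystem of F. -/
theorem result {Ω : Type*} [Group Ω] {S : Subgroup Ω} [Finite S] (p : ℕ) [Fact p.Prime] (hS : IsPGroup p S) (F : Cfsg.FusionSystem S) (hF : F.IsSaturated p) (T : Subgroup Ω) (hTS : T ≤ S) (hTn : (T.subgroupOf S).Normal) (hT : F.hyperfocalSubgroup p ≤ T) (E : Cfsg.FusionSystem T) (hEs : E.IsSaturated p) (hEi : E.HasPPowerIndexIn F p) : E.IsNormalIn F p := by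
  open Cfsg.FusionSystem Cfsg.Agent.FusionSysBasic in
  have hn : ∀ g ∈ S, ∀ x ∈ T, cj g x ∈ T := fun g hg x hx =>
    hTn.conj_mem ⟨x, hTS hx⟩ hx ⟨g, hg⟩
  have hcl := FusionInduct88.stronglyClosed_of_hyperfocal_le hS hF hTS hn hT
  have hinv := inv_of_pPower hS hEs hEi hcl
  refine ⟨⟨hEs, hF, hEi.1, hcl, fun P hPT φ hφ α hα => ?_, fun P hPT φ hφ => ?_⟩, fun α hα => ?_⟩
  · obtain ⟨k, hk, ek⟩ := hinv P _ (mor_toFun hφ) α hα
    rw [← S5119.map_eq_im hPT (T.subtype.comp α.toMonoidHom) (g := afun α)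
      (fun x => (afun_coe α x).symm)] at hk
    obtain ⟨χ, hχ, eχ⟩ := hk
    refine ⟨χ, hχ, fun x hφx hαx => ?_⟩
    rw [eχ]
    show k ((α ⟨x, hPT x.2⟩ : T) : Ω) = _
    rw [← afun_apply α (hPT x.2), ek x x.2, toFun_coe φ x, afun_apply α hφx]
  · obtain ⟨α, hα, g₀, hg₀, e⟩ := frattini_of_pPower hS hF hEi hcl hinv (mor_toFun hφ)
    rw [inf_eq_left.2 hPT] at hg₀
    obtain ⟨φ₀, hφ₀, e₀⟩ := hg₀
    refine ⟨α, hα, φ₀, hφ₀, fun x hx => ?_⟩
    rw [← toFun_coe φ x, e x ⟨x.2, hPT x.2⟩, ← afun_apply α hx, e₀]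
  · obtain ⟨β, hβ, e, d⟩ := extension_of_pPower hS hF hEs hEi hn hTS α hα
    refine ⟨β, hβ, fun x => ?_, fun c hc => ?_⟩
    · rw [← afun_coe β, ← afun_coe α]
      exact e x x.2
    · rw [← afun_coe β]
      exact d c hc

end Cfsg.Agent.S5120
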