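import Cfsg.Statements.S5281
import Cfsg.Agent.Lib.FusionSysNormal
import Cfsg.Agent.Lib.FusCentric
import Cfsg.Agent.Lib.HallCore

set_option autoImplicit false
open Cfsg

namespace Cfsg.Agent.S5281

open Cfsg.FusionSystem Cfsg.Agent.FusionSysBasic Cfsg.Agent.FusionSysSaturated
  Cfsg.Agent.FusionSysNormal

variable {Ω : Type*} [Group Ω] {p : ℕ}

/-- `p`-stability at `Q` -/
def Stab {T : Subgroup Ω} (N : Cfsg.FusionSystem T) (p : ℕ) (Q : Subgroup Ω) : Prop :=
  ∀ χ : MulAut ↥Q, χ ∈ N.autGroup Q → (∀ a : ↥Q, (χ a⁻¹) * a * (χ a⁻¹) * (χ (χ a)) = 1) →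
    χ ∈ ((Cfsg.pCore p ↥(N.autGroup Q)).map (N.autGroup Q).subtype : Subgroup (MulAut ↥Q))

/-- A normal `p`-subgroup of a group of automorphisms lies in its core. -/
theorem le_core_map {G : Type*} [Group G] {A M : Subgroup G} (hMA : M ≤ A) (hMp : IsPGroup p M)
    (hn : ∀ a ∈ A, ∀ m ∈ M, a * m * a⁻¹ ∈ M) : M ≤ (Cfsg.pCore p A).map A.subtype := by
  intro m hm
  refine ⟨⟨m, hMA hm⟩, ?_, rfl⟩
  exact (le_sSup (show M.subgroupOf A ∈ {N : Subgroup A | N.Normal ∧ IsPGroup p N} from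
    ⟨⟨fun n hn' a => hn a a.2 n hn'⟩,
      hMp.of_equiv (Subgroup.subgroupOfEquivOfLe hMA).symm⟩) : _ ≤ Cfsg.pCore p A) hm

theorem core_map_conj {G : Type*} [Group G] (A : Subgroup G) :
    ∀ a ∈ A, ∀ m ∈ (Cfsg.pCore p A).map A.subtype, a * m * a⁻¹ ∈ (Cfsg.pCore p A).map A.subtype := by
  rintro a ha _ ⟨m, hm, rfl⟩
  haveI : (Cfsg.pCore p A).Normal := HallCore.pCore_normal p A
  exact ⟨⟨a, ha⟩ * m * ⟨a, ha⟩⁻¹, Subgroup.Normal.conj_mem inferInstance m hm _, rfl⟩

theorem stab_conj {T : Subgroup Ω} [Finite T] {N : Cfsg.FusionSystem T} {P Q : Subgroup Ω}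
    (hPQ : N.IsConj P Q) (hP : Stab N p P) : Stab N p Q := by
  obtain ⟨f, hf, him⟩ := FusionSysBasic.isConj_iff.1 hPQ
  intro χ hχ hcond
  haveI := finite_autGroup (F := N) P
  let e := hf.transport him
  have hmap := hf.map_transport him
  rw [← hmap] at hχ
  obtain ⟨χ', hχ', rfl⟩ := hχ
  have hK : ((Cfsg.pCore p ↥(N.autGroup P)).map (N.autGroup P).subtype).map e.toMonoidHom ≤
      (Cfsg.pCore p ↥(N.autGroup Q)).map (N.autGroup Q).subtype := by
    refine le_core_map ?_ (((HallCore.isPGroup_pCore p ↥(N.autGroup P)).map _).map _) ?_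
    · rw [← hmap]; exact Subgroup.map_mono (Subgroup.map_subtype_le _)
    · rw [← hmap]
      rintro _ ⟨a, ha, rfl⟩ _ ⟨m, hm, rfl⟩
      exact ⟨a * m * a⁻¹, core_map_conj _ a ha m hm, by simp [e]⟩
  refine hK ⟨χ', hP χ' hχ' fun a => ?_, rfl⟩
  have h := hcond (hf.iso him a)
  have he : ∀ b, (e.toMonoidHom χ') (hf.iso him b) = hf.iso him (χ' b) := by
    intro b
    simp [e, Mor.transport, MulAut.congr]
  rw [← map_inv (hf.iso him) a, he, he, he, ← map_mul, ← map_mul, ← map_mul] at h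
  exact (MulEquiv.map_eq_one_iff (hf.iso him)).1 h

/-- A centric radical fully normalized subgroup containing a conjugate of `Q` to which all
automorphisms of that conjugate extend. -/
theorem exists_radical_over {S : Subgroup Ω} [Finite S] [Fact p.Prime] (hS : IsPGroup p S)
    {F : Cfsg.FusionSystem S} (hF : F.IsSaturated p) {Q : Subgroup Ω} (hQ : F.IsFullyNormalized Q) :
    ∃ R Q' : Subgroup Ω, F.IsFullyNormalized R ∧ F.IsCentric R ∧ F.IsRadical p R ∧ Q' ≤ R ∧
      F.IsConj Q Q' ∧ ∀ α ∈ F.autGroup Q', ∃ γ ∈ F.autGroup R, ∀ x ∈ Q', afun γ x = afun α x := by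
  let Good : Subgroup Ω → Prop := fun W => F.IsCentric W ∧ ∃ Q', Q' ≤ W ∧ F.IsConj Q Q' ∧
    ∀ α ∈ F.autGroup Q', ∃ γ ∈ F.autGroup W, ∀ x ∈ Q', afun γ x = afun α x
  -- moving to a fully normalized conjugate
  have hmove : ∀ W, Good W → ∃ R, F.IsConj W R ∧ F.IsFullyNormalized R ∧ Good R := by
    rintro W ⟨hW, Q', hQ'W, hQQ', hext⟩
    obtain ⟨R, hR, hRn⟩ := exists_fullyNormalized (F := F) hW.1
    obtain ⟨e, he, heR⟩ := FusionSysBasic.isConj_iff.1 hR
    refine ⟨R, hR, hRn, FusCentric.centric_conj hW hR, im Q' e, heR ▸ im_mono hQ'W,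
      isConj_trans hQQ' (FusionSysBasic.isConj_iff.2 ⟨e, he.restrict_to hQ'W, rfl⟩), fun α hα => ?_⟩
    have he' := he.restrict_to hQ'W
    rw [← he'.map_transport rfl] at hα
    obtain ⟨α', hα', rfl⟩ := hα
    obtain ⟨γ, hγ, hγe⟩ := hext α' hα'
    refine ⟨he.transport heR γ, he.transport_mem heR hγ, fun y hy => ?_⟩
    obtain ⟨x, hx, rfl⟩ := he'.mem_im.1 hy
    rw [he.afun_transport heR γ (hQ'W hx), hγe x hx]
    exact (he'.afun_transport rfl α' hx).symm
  have hfc := fullyCentralized_of_fullyNormalized hS hF hQ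
  have hW0 : Good (Q ⊔ centralizerIn S Q) := by
    refine ⟨⟨sup_le hQ.1 inf_le_left, fun W' hW' => ?_⟩, Q, le_sup_left, isConj_refl hQ.1,
      fun α hα => ?_⟩
    · obtain ⟨g, hg, rfl⟩ := FusionSysBasic.isConj_iff.1 hW'
      have hgQ := hg.restrict_to (le_sup_left : Q ≤ _)
      have hgC := hg.restrict_to (le_sup_right : centralizerIn S Q ≤ _)
      have hle : im (centralizerIn S Q) g ≤ centralizerIn S (im Q g) := im_le_iff.2 fun c hc =>
        mem_centralizerIn.2 ⟨hgC.apply_mem hc, fun y hy => by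
          obtain ⟨x, hx, rfl⟩ := hgQ.mem_im.1 hy
          rw [← hg.map_cj (Subgroup.mem_sup_right hc) (Subgroup.mem_sup_left hx),
            (mem_centralizerIn.1 hc).2 x hx]⟩
      have heq : im (centralizerIn S Q) g = centralizerIn S (im Q g) := by
        refine eq_of_le_of_card_ge inf_le_left hle ?_
        rw [hgC.card_im]
        exact hfc.2 _ (FusionSysBasic.isConj_iff.2 ⟨g, hgQ, rfl⟩)
      intro c hc
      have hc' : c ∈ centralizerIn S (im Q g) :=
        mem_centralizerIn.2 ⟨hc.1, fun x hx => (mem_centralizerIn.1 hc).2 x (im_mono le_sup_left hx)⟩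
      rw [← heq] at hc'
      exact im_mono le_sup_right hc'
    · obtain ⟨f, hf, hag, hC⟩ := exists_extension_centralizer
        (receptive_of_fullyCentralized hS hF hfc) ((mem_autGroup hQ.1).1 hα) (im_afun α)
      obtain ⟨γ, hγ, hγe⟩ := hf.exists_aut (hf.im_self fun x hx => mor_sup_induction hf
        (fun a ha => Subgroup.mem_sup_left (by rw [hag a ha]; exact afun_mem α ha))
        (fun b hb => Subgroup.mem_sup_right (hC b hb)) hx)
      exact ⟨γ, hγ, fun x hx => by rw [hγe x (Subgroup.mem_sup_left hx), hag x hx]⟩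
  obtain ⟨R₀, hR₀, hmax⟩ := Set.exists_max_image {W | Good W} (fun W => Nat.card W)
    ((finite_le_S (S := S)).subset fun W hW => hW.1.1) ⟨_, hW0⟩
  obtain ⟨R, hR0R, hRn, hRg⟩ := hmove R₀ hR₀
  obtain ⟨hRc, Q', hQ'R, hQQ', hext⟩ := id hRg
  have hRS := hRc.1
  refine ⟨R, Q', hRn, hRc, ⟨hRS, ?_⟩, hQ'R, hQQ', hext⟩
  haveI := finite_autGroup (F := F) R
  set U := (Cfsg.pCore p ↥(F.autGroup R)).map (F.autGroup R).subtype with hU
  have hIU : Cfsg.Inn ↥R ≤ U := by
    refine le_core_map (inn_le_autGroup hRS) ?_ ?_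
    · exact ((hS.to_le hRS).of_surjective (MulAut.conj (G := R)).rangeRestrict
        (MonoidHom.rangeRestrict_surjective _))
    · intro a _ m hm
      haveI hIn : (Cfsg.Inn ↥R).Normal := inferInstance
      exact hIn.conj_mem m hm a
  refine le_antisymm ?_ hIU
  -- `U` lies in `Aut_S(R)`
  obtain ⟨T, hT⟩ := (fullyAutomized_of_fullyNormalized hS hF hRn).2
  have hUT : U ≤ Cfsg.autInducedBy S R := by
    rintro _ ⟨u, hu, rfl⟩
    haveI : (Cfsg.pCore p ↥(F.autGroup R)).Normal := HallCore.pCore_normal p _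
    obtain ⟨T', hT'⟩ := (HallCore.isPGroup_pCore p ↥(F.autGroup R)).exists_le_sylow
    obtain ⟨a, ha⟩ := MulAction.exists_smul_eq ↥(F.autGroup R) T' T
    have h1 : u ∈ (T : Subgroup ↥(F.autGroup R)) := by
      rw [← ha]
      have hn : (Cfsg.pCore p ↥(F.autGroup R)).Normal := HallCore.pCore_normal p _
      have hm := hn.conj_mem u hu a⁻¹
      rw [inv_inv] at hm
      refine ⟨a⁻¹ * u * a, hT' hm, ?_⟩
      simp [mul_assoc]
    rw [hT] at h1
    exact h1
  set R' := ((U.comap (nHom S R)).map (S ⊓ Subgroup.normalizer (R : Set Ω)).subtype) with hR'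
  have hR'S : R' ≤ S := (Subgroup.map_subtype_le _).trans inf_le_left
  have hRR' : R ≤ R' := fun r hr =>
    ⟨⟨r, hRS hr, Subgroup.le_normalizer hr⟩, hIU ⟨⟨r, hr⟩, afun_ext fun x hx => by
      rw [afun_nHom _ hx, afun_apply _ hx]; rfl⟩, rfl⟩
  by_contra hne
  obtain ⟨u, hu, huI⟩ := SetLike.not_le_iff_exists.1 hne
  obtain ⟨g, hg⟩ : ∃ g, nHom S R g = u := by
    have := hUT hu
    rwa [autInducedBy_eq_range, MonoidHom.mem_range] at this
  have hgR' : (g : Ω) ∈ R' := ⟨g, by rw [SetLike.mem_coe, Subgroup.mem_comap, hg]; exact hu, rfl⟩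
  have hgR : (g : Ω) ∉ R := fun h => huI ⟨⟨g, h⟩, afun_ext fun x hx => by
    rw [← hg, afun_nHom g hx, afun_apply _ hx]; rfl⟩
  have hgood : Good R' := by
    refine ⟨FusCentric.centric_upward hRc hRR' hR'S, Q', hQ'R.trans hRR', hQQ', fun α hα => ?_⟩
    obtain ⟨γ, hγ, hγe⟩ := hext α hα
    have hγconj : ∀ w ∈ R', ∃ h ∈ R', ∀ x ∈ R, afun γ (cj w x) = cj h (afun γ x) := by
      rintro _ ⟨w, hw, rfl⟩
      have h1 : γ * nHom S R w * γ⁻¹ ∈ U := core_map_conj _ γ hγ _ hw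
      obtain ⟨w', hw'⟩ : ∃ w', nHom S R w' = γ * nHom S R w * γ⁻¹ := by
        have := hUT h1
        rwa [autInducedBy_eq_range, MonoidHom.mem_range] at this
      refine ⟨w', ⟨w', by rw [SetLike.mem_coe, Subgroup.mem_comap, hw']; exact h1, rfl⟩, fun x hx => ?_⟩
      rw [← afun_nHom w' (afun_mem γ hx), hw', afun_mul _ _ (afun_mem γ hx), afun_inv_apply γ hx,
        afun_mul _ _ hx, afun_nHom _ hx]
      rfl
    obtain ⟨f, hf, hag⟩ := (receptive_iff.1 (receptive_of_fullyNormalized hS hF hRn)).2 R (afun γ)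
      R' ((mem_autGroup hRS).1 hγ) (im_afun γ) hR'S ((Subgroup.map_subtype_le _).trans inf_le_right)
      fun w hw => (hγconj w hw).imp fun h hh => ⟨hR'S hh.1, hh.2⟩
    rw [sup_eq_right.2 hRR'] at hf
    have hfR' : ∀ w ∈ R', f w ∈ R' := by
      intro w hw
      obtain ⟨h, hh, he⟩ := hγconj w hw
      have hwn : w ∈ Subgroup.normalizer (R : Set Ω) :=
        ((Subgroup.map_subtype_le _).trans inf_le_right : R' ≤ _) hw
      have hd : h⁻¹ * f w ∈ centralizerIn S R := mem_centralizerIn.2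
        ⟨S.mul_mem (S.inv_mem (hR'S hh)) (hf.apply_mem hw), fun y hy => by
          obtain ⟨x, hx, rfl⟩ : ∃ x ∈ R, afun γ x = y :=
            ⟨_, afun_mem γ⁻¹ hy, afun_apply_inv γ hy⟩
          rw [← cj_cj]
          conv_lhs => rw [← hag x hx, ← hf.map_cj hw (hRR' hx),
            hag _ (cj_mem_of_normalizer hwn hx), he x hx, cj_inv_cj]⟩
      have := R'.mul_mem hh (hRR' (hRc.2 R (isConj_refl hRS) hd))
      rwa [mul_inv_cancel_left] at this
    obtain ⟨γ', hγ', hγ'e⟩ := hf.exists_aut (hf.im_self hfR')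
    exact ⟨γ', hγ', fun x hx => by
      rw [hγ'e x (hRR' (hQ'R hx)), hag x (hQ'R hx), hγe x hx]⟩
  have h1 := hmax R' hgood
  have h2 : Nat.card R < Nat.card R' := by
    haveI := finite_of_le hR'S
    refine lt_of_le_of_ne (Subgroup.card_le_of_le hRR') fun e => hgR ?_
    exact (eq_of_le_of_card_ge hR'S hRR' e.ge).ge hgR'
  have h3 := isConj_card hR0R
  omega

/-- Let p be an odd prime and F a saturated fusion system over a finite p-group S. Call a fusion system E (over any subgroup) p-stable when, for every fully E-normalized subgroup Q and every χ in Aut_E(Q) with χ(a⁻¹)·a·χ(a⁻¹)·χ(χ(a)) = 1 for all a in Q (χ acts quadratically), χ lies in O_p(Aut_E(Q)). Then F is p-stable if and only if the normalizer fusion system of R in F is p-stable for every fully F-normalized, F-centric, F-radical subgroup R of S. -/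
theorem result {Ω : Type*} [Group Ω] {S : Subgroup Ω} [Finite S] (p : ℕ) [Fact p.Prime] (hS : IsPGroup p ↥S) (F : Cfsg.FusionSystem S) (hF : F.IsSaturated p) (hp : p ≠ 2) : (∀ Q : Subgroup Ω, F.IsFullyNormalized Q → ∀ χ : MulAut ↥Q, χ ∈ F.autGroup Q → (∀ a : ↥Q, (χ a⁻¹) * a * (χ a⁻¹) * (χ (χ a)) = 1) → χ ∈ ((Cfsg.pCore p ↥(F.autGroup Q)).map (F.autGroup Q).subtype : Subgroup (MulAut ↥Q))) ↔ ∀ R : Subgroup Ω, F.IsFullyNormalized R → F.IsCentric R → F.IsRadical p R → ∀ N : Cfsg.FusionSystem (Cfsg.FusionSystem.normalizerIn S R), F.IsNormalizerSystem R N → (∀ Q : Subgroup Ω, N.IsFullyNormalized Q → ∀ χ : MulAut ↥Q, χ ∈ N.autGroup Q → (∀ a : ↥Q, (χ a⁻¹) * a * (χ a⁻¹) * (χ (χ a)) = 1) → χ ∈ ((Cfsg.pCore p ↥(N.autGroup Q)).map (N.autGroup Q).subtype : Subgroup (MulAut ↥Q))) := by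
  constructor
  · intro h R hRn hRc hRr N hN Q hQ χ hχ hcond
    have hsub : N.IsSubsystemOf F := fun P φ hφ => by rw [hN P] at hφ; exact hφ.1
    have hQS : Q ≤ S := hQ.1.trans inf_le_left
    have hle : N.autGroup Q ≤ F.autGroup Q := Subgroup.closure_mono fun α hα => hsub Q hα
    obtain ⟨Q', hQQ', hQ'n⟩ := exists_fullyNormalized (F := F) hQS
    have hst : Stab F p Q := stab_conj (isConj_symm hQQ') (h Q' hQ'n)
    have hm := hst χ (hle hχ) hcond
    haveI := finite_autGroup (F := F) Q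
    refine le_core_map (M := (Cfsg.pCore p ↥(F.autGroup Q)).map (F.autGroup Q).subtype ⊓ N.autGroup Q)
      inf_le_right (((HallCore.isPGroup_pCore p ↥(F.autGroup Q)).map _).to_le inf_le_left) ?_ ⟨hm, hχ⟩
    exact fun a ha m hm' => ⟨core_map_conj _ a (hle ha) m hm'.1,
      mul_mem (mul_mem ha hm'.2) (Subgroup.inv_mem _ ha)⟩
  · intro h Q hQ
    obtain ⟨R, Q', hRn, hRc, hRr, hQ'R, hQQ', hext⟩ := exists_radical_over hS hF hQ
    let N := normalizerSystem F R hRn.1
    have hN : F.IsNormalizerSystem R N := isNormalizerSystem_normalizerSystem R hRn.1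
    haveI := finite_normalizerIn (S := S) R
    have hQ'N : Q' ≤ normalizerIn S R := hQ'R.trans (le_normalizerIn hRn.1)
    have hsub : N.IsSubsystemOf F := fun P φ hφ => by rw [hN P] at hφ; exact hφ.1
    have heq : N.autGroup Q' = F.autGroup Q' := by
      refine le_antisymm (Subgroup.closure_mono fun α hα => hsub Q' hα) fun α hα => ?_
      obtain ⟨γ, hγ, hγe⟩ := hext α hα
      refine mem_autGroup_of_mor ((mor_normalizerSystem_iff hN).2 ⟨(mem_autGroup (hQ'R.trans hRn.1)).1 hα,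
        hQ'N, fun x hx => hQ'N (afun_mem α hx), afun γ, ?_, hγe, im_afun γ⟩)
      rw [sup_eq_right.2 hQ'R]
      exact (mem_autGroup hRn.1).1 hγ
    obtain ⟨Q'', hc, hn''⟩ := exists_fullyNormalized (F := N) hQ'N
    have h1 : Stab N p Q' := stab_conj (isConj_symm hc) (h R hRn hRc hRr N hN Q'' hn'')
    have h2 : Stab F p Q' := by
      unfold Stab at h1 ⊢
      rw [← heq]
      exact h1
    exact stab_conj (isConj_symm hQQ') h2

end Cfsg.Agent.S5281
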