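import Cfsg.Statements.S5337
import Cfsg.Agent.Lib.FusionSysSaturated
import Cfsg.Agent.Lib.FusionSysAlperin

set_option autoImplicit false
open Cfsg

namespace Cfsg.Agent.S5337

open Cfsg.FusionSystem Cfsg.Agent.FusionSysBasic Cfsg.Agent.FusionSysSaturated
open Cfsg.Agent.FusionSysAlperin

variable {Ω : Type*} [Group Ω] {S T : Subgroup Ω}

theorem cj_eq (hab : ∀ x ∈ S, ∀ y ∈ S, x * y = y * x) {g x : Ω} (hg : g ∈ S) (hx : x ∈ S) :
    cj g x = x := by
  rw [cj_apply, hab g hg x hx, mul_inv_cancel_right]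

theorem mor_inner_abelian (hab : ∀ x ∈ T, ∀ y ∈ T, x * y = y * x) {P : Subgroup Ω} {f : Ω → Ω}
    (h : Mor (innerFusionSystem T) P f) {x : Ω} (hx : x ∈ P) : f x = x := by
  obtain ⟨hP, g, hg, he⟩ := mor_inner_iff.mp h
  rw [he x hx, cj_eq hab hg (hP hx)]

theorem inner_saturated [Finite T] {p : ℕ} [Fact p.Prime] (hT : IsPGroup p T)
    (hab : ∀ x ∈ T, ∀ y ∈ T, x * y = y * x) : (innerFusionSystem T).IsSaturated p := by
  have h1 : (innerFusionSystem T).autGroup T = ⊥ := by
    refine (Subgroup.eq_bot_iff_forall _).mpr fun α hα => ?_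
    exact afun_ext fun x hx =>
      (mor_inner_abelian hab ((mem_autGroup le_rfl).mp hα) hx).trans (afun_one hx).symm
  refine (saturated_iff_receptive hT).mpr ⟨⟨le_rfl, ?_⟩, fun Q hQ =>
    receptive_iff.mpr ⟨hQ.1, fun P f N hf _ hN _ _ =>
      ⟨fun x => x, mor_id (sup_le hf.le hN), fun x hx => (mor_inner_abelian hab hf hx).symm⟩⟩⟩
  haveI := finite_autGroup (F := innerFusionSystem T) T
  refine (sylIn_iff_card (autInducedBy_le le_rfl)).mpr ?_
  have h2 : autInducedBy T T = ⊥ := le_bot_iff.mp (h1 ▸ autInducedBy_le le_rfl)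
  rw [h2, h1, Subgroup.card_bot, Nat.factorization_one]
  simp

theorem inner_normal [Finite S] {p : ℕ} [Fact p.Prime] (hS : IsPGroup p S)
    {F : FusionSystem S} (hF : F.IsSaturated p) (hab : ∀ x ∈ S, ∀ y ∈ S, x * y = y * x)
    (hT : F.StronglyClosed T)
    (hext : ∀ (P : Subgroup Ω) (f : Ω → Ω), Mor F P f → P ≤ T →
      ∃ α ∈ F.autGroup T, ∀ x ∈ P, f x = afun α x) :
    (innerFusionSystem T).IsNormalIn F p := by
  haveI := finite_of_le hT.1
  have habT : ∀ x ∈ T, ∀ y ∈ T, x * y = y * x := fun x hx y hy => hab x (hT.1 hx) y (hT.1 hy)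
  have hfix : ∀ {P : Subgroup Ω} {φ : P →* Ω}, φ ∈ (innerFusionSystem T).Hom P →
      ∀ x : P, φ x = x := by
    rintro P φ ⟨hP, g, hg, he⟩ x
    rw [he, ← cj_apply, cj_eq habT hg (hP x.2)]
  refine ⟨⟨inner_saturated (hS.to_le hT.1) habT, hF, ?_, hT, ?_, ?_⟩, ?_⟩
  · rintro P φ ⟨hP, g, hg, he⟩
    exact (mor_iff_hom he).mp (mor_cj (F := F) (hP.trans hT.1) (hT.1 hg))
  · intro P hPT φ hφ α _
    refine ⟨Cfsg.conjHom _ (1 : Ω), (innerFusionSystem T).conj_mem ?_ T.one_mem, fun x hφx hαx => ?_⟩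
    · rintro _ ⟨y, -, rfl⟩
      exact (α y).2
    · have e : (⟨φ x, hφx⟩ : T) = ⟨x, hPT x.2⟩ := Subtype.ext (hfix hφ x)
      rw [e]
      show cj 1 _ = _
      rw [cj_one]
      rfl
  · intro P hP φ hφ
    obtain ⟨α, hα, he⟩ := hext P _ (mor_toFun hφ) hP
    refine ⟨α, hα, Cfsg.conjHom P (1 : Ω), (innerFusionSystem T).conj_mem hP T.one_mem,
      fun x hx => ?_⟩
    have e : (⟨Cfsg.conjHom P (1 : Ω) x, hx⟩ : T) = ⟨x, hP x.2⟩ :=
      Subtype.ext (cj_one (x : Ω))
    rw [e, ← toFun_coe φ x, he x x.2, afun_apply]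
  · intro α hα
    refine ⟨1, one_mem _, fun x => ?_, fun c _ => ?_⟩
    · have h := mor_inner_abelian habT ((mem_autGroup le_rfl).mp hα) x.2
      rw [afun_coe] at h
      rw [h]
      rfl
    · simp only [MulAut.one_apply, inv_mul_cancel]
      exact one_mem _

/-- Let F be a saturated fusion system over a finite abelian p-group S. Then F is simple if and only if S has order p and F is the inner system of S (whose only maps are the inclusions, S being abelian). -/
theorem result {Ω : Type*} [Group Ω] {S : Subgroup Ω} [Finite S] (p : ℕ) [Fact p.Prime] (hS : IsPGroup p S) (F : Cfsg.FusionSystem S) (hF : F.IsSaturated p) (hab : ∀ x ∈ S, ∀ y ∈ S, x * y = y * x) : F.IsSimple p ↔ (Nat.card S = p ∧ ∀ P : Subgroup Ω, F.Hom P = (Cfsg.innerFusionSystem S).Hom P) := by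
  have hne : ∀ {T : Subgroup Ω}, Nat.card T = p → T ≠ ⊥ := fun h hb => by
    rw [hb, Subgroup.card_bot] at h
    exact (Fact.out (p := p.Prime)).ne_one h.symm
  constructor
  · rintro ⟨-, hS1, hsimple⟩
    -- every map extends to an automorphism of S
    have hext : ∀ (P : Subgroup Ω) (f : Ω → Ω), Mor F P f → P ≤ S →
        ∃ α ∈ F.autGroup S, ∀ x ∈ P, f x = afun α x := by
      intro P f hf _
      have hfc : F.IsFullyCentralized (im P f) :=
        ⟨hf.im_le, fun Q hQ => haveI := finite_centralizerIn (S := S) (im P f); Subgroup.card_le_of_le (fun y hy =>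
          mem_centralizerIn.mpr ⟨hy.1, fun x hx => cj_eq hab hy.1 (hf.im_le hx)⟩)⟩
      obtain ⟨f', hf', hag⟩ := (receptive_iff.mp (receptive_of_fullyCentralized hS hF hfc)).2 P f S
        hf rfl le_rfl
        (fun g hg => mem_normalizer_of_cj_le hf.le fun x hx => by
          rw [cj_eq hab hg (hf.le hx)]; exact hx)
        (fun g hg => ⟨g, hg, fun x hx => by
          rw [cj_eq hab hg (hf.le hx), cj_eq hab hg (hf.apply_mem hx)]⟩)
      rw [sup_eq_right.mpr hf.le] at hf'
      obtain ⟨α, hα, he⟩ := hf'.exists_aut (hf'.im_self fun x hx => hf'.apply_mem hx)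
      exact ⟨α, hα, fun x hx => by rw [he x (hf.le hx), hag x hx]⟩
    have hFS : F.StronglyClosed S := ⟨le_rfl, fun R _ φ hφ x => (F.le_of_mem hφ).2 x⟩
    have hall : ∀ P : Subgroup Ω, F.Hom P = (Cfsg.innerFusionSystem S).Hom P :=
      fun P => (((hsimple S _ (inner_normal hS hF hab hFS hext)).resolve_left hS1).2 P).symm
    refine ⟨?_, hall⟩
    have hfix : ∀ {P : Subgroup Ω} {f : Ω → Ω}, Mor F P f → ∀ x ∈ P, f x = x := by
      rintro P f ⟨φ, hφ, he⟩ x hx
      exact mor_inner_abelian hab ⟨φ, hall P ▸ hφ, he⟩ hx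
    haveI : Nontrivial S := (Subgroup.nontrivial_iff_ne_bot S).mpr hS1
    obtain ⟨z, hz⟩ : ∃ z : S, orderOf z = p :=
      exists_prime_orderOf_dvd_card' p (by
        obtain ⟨k, hk⟩ := IsPGroup.iff_card.mp hS
        rw [hk]
        refine dvd_pow_self p fun h0 => ?_
        rw [h0, pow_zero] at hk
        exact (Finite.one_lt_card (α := S)).ne' hk)
    have hT : Subgroup.zpowers (z : Ω) ≤ S := Subgroup.zpowers_le.mpr z.2
    have hc : Nat.card (Subgroup.zpowers (z : Ω)) = p := by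
      rw [Nat.card_zpowers, Subgroup.orderOf_coe, hz]
    have hTc : F.StronglyClosed (Subgroup.zpowers (z : Ω)) := by
      refine ⟨hT, fun R hR φ hφ x => ?_⟩
      rw [← toFun_coe φ x, hfix (mor_toFun hφ) x x.2]
      exact hR x.2
    have hN := inner_normal hS hF hab hTc fun P f hf hPT =>
      ⟨1, one_mem _, fun x hx => by
        rw [hfix hf x hx, afun_one (hPT hx)]⟩
    rw [← ((hsimple _ _ hN).resolve_left (hne hc)).1, hc]
  · rintro ⟨hcard, hall⟩
    refine ⟨hF, hne hcard, fun T E hE => ?_⟩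
    obtain ⟨⟨-, -, hsub, hT, -, -⟩, -⟩ := hE
    by_cases hT1 : T = ⊥
    · exact Or.inl hT1
    obtain rfl : T = S := by
      refine eq_of_le_of_card_ge le_rfl hT.1 ?_
      haveI := finite_of_le hT.1
      rcases (Fact.out (p := p.Prime)).eq_one_or_self_of_dvd (Nat.card T)
        (hcard ▸ Subgroup.card_dvd_of_le hT.1) with h | h
      · exact absurd (Subgroup.card_eq_one.mp h) hT1
      · rw [h, hcard]
    exact Or.inr ⟨rfl, fun P => Set.Subset.antisymm (hsub P) (hall P ▸ inner_le P)⟩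

end Cfsg.Agent.S5337
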