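import Cfsg.Statements.S5198
import Cfsg.Agent.Lib.FusionPuig

open Cfsg.FusionSystem Cfsg.Agent.FusionSysBasic Cfsg.Agent.FusionPuig

set_option autoImplicit false
open Cfsg

namespace Cfsg.Agent.S5198

/-- Let F be a saturated fusion system over a finite p-group S and T a subgroup of S strongly closed in F (so T is normal in S). Then every element x of the hyperfocal subgroup of F acts on T by conjugation as an element of O^p(Aut_F(T))·Inn(T): there is an automorphism of T in the subgroup generated by the elements of Aut_F(T) of order prime to p together with the inner automorphisms of T that agrees with conjugation by x. -/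
theorem result {Ω : Type*} [Group Ω] {S : Subgroup Ω} [Finite S] (p : ℕ) [Fact p.Prime] (hS : IsPGroup p S) (F : Cfsg.FusionSystem S) (hF : F.IsSaturated p) (T : Subgroup Ω) (hT : F.StronglyClosed T) : ∀ x ∈ F.hyperfocalSubgroup p, ∃ α ∈ ((Cfsg.pResidual p ↥(F.autGroup T)).map (F.autGroup T).subtype ⊔ Cfsg.Inn ↥T : Subgroup (MulAut ↥T)), ∀ t : ↥T, ((α t : ↥T) : Ω) = x * (t : Ω) * x⁻¹ := by
  set K : Subgroup (MulAut ↥T) :=
    (Cfsg.pResidual p ↥(F.autGroup T)).map (F.autGroup T).subtype ⊔ Cfsg.Inn ↥T with hK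
  let V : Subgroup Ω :=
    { carrier := {z | z ∈ S ∧ ∃ α ∈ K, ∀ y ∈ T, afun α y = cj z y}
      one_mem' := ⟨S.one_mem, 1, K.one_mem, fun y hy => by rw [afun_one hy, cj_one]⟩
      mul_mem' := fun {a b} ⟨ha, α, hα, he⟩ ⟨hb, β, hβ, he'⟩ =>
        ⟨S.mul_mem ha hb, α * β, K.mul_mem hα hβ, fun y hy => by
          rw [afun_mul α β hy, he _ (afun_mem β hy), he' y hy, cj_cj]⟩
      inv_mem' := fun {a} ⟨ha, α, hα, he⟩ =>
        ⟨S.inv_mem ha, α⁻¹, K.inv_mem hα, fun y hy => by
          have h2 := he _ (afun_mem α⁻¹ hy)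
          rw [afun_apply_inv α hy] at h2
          exact ((congrArg (cj a⁻¹) h2).trans (cj_inv_cj a _)).symm⟩ }
  suffices hle : F.hyperfocalSubgroup p ≤ V by
    intro x hx
    obtain ⟨-, α, hα, he⟩ := hle hx
    exact ⟨α, hα, fun t => by rw [← afun_coe α t]; exact he t t.2⟩
  have hTV : T ≤ V := fun t ht => ⟨hT.1 ht, MulAut.conj (⟨t, ht⟩ : ↥T),
    Subgroup.mem_sup_right ⟨⟨t, ht⟩, rfl⟩, fun y hy => by rw [afun_apply _ hy]; rfl⟩
  refine (Subgroup.closure_le _).mpr ?_
  rintro _ ⟨P, α, x, hP, hα, rfl⟩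
  let A : Subgroup (F.autGroup P) :=
    { carrier := {β | ∀ x : P, (x : Ω)⁻¹ * ((β : MulAut P) x : P) ∈ V}
      one_mem' := fun x => by simp
      mul_mem' := fun {a b} ha hb x => by
        have := mul_mem (hb x) (ha ((b : MulAut P) x))
        simpa [mul_assoc] using this
      inv_mem' := fun {a} ha x => by
        have h1 := inv_mem (ha ((a : MulAut P)⁻¹ x))
        have h2 : (a : MulAut P) ((a : MulAut P)⁻¹ x) = x := MulEquiv.apply_symm_apply _ _
        rw [h2] at h1
        simpa [mul_inv_rev] using h1 }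
  suffices hA : Cfsg.pResidual p (F.autGroup P) ≤ A from hA hα x
  rw [Cfsg.Agent.TransferPResidual.pResidual_le_iff_coprime]
  intro β hβ x
  have hβm := (mem_autGroup hP).mp β.2
  obtain ⟨ψ, hψ, hc⟩ := exists_map_mod hS hF hT hβm
  haveI := Cfsg.Agent.FusionSysBasic.finite_of_le (S := S) hψ.le
  haveI := finite_autGroup (F := F) (P ⊔ T)
  obtain ⟨γ, hγ, hγe⟩ := hψ.exists_aut (hψ.im_self fun y hy =>
    apply_mem_sup hT hψ (fun x hx => ⟨_, afun_mem _ hx, hc x hx⟩) hy)
  have hpow : ∀ (k : ℕ) (x : Ω), x ∈ P →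
      Cong T (afun ((β : MulAut P) ^ k) x) (afun (γ ^ k) x) := by
    intro k
    induction k with
    | zero =>
      intro x hx
      rw [pow_zero, pow_zero, afun_one hx, afun_one (Subgroup.mem_sup_left hx)]
      exact cong_refl x
    | succ k ih =>
      intro x hx
      have hx' := afun_mem ((β : MulAut P) ^ k) hx
      rw [pow_succ', pow_succ', afun_mul _ _ hx, afun_mul _ _ (Subgroup.mem_sup_left hx)]
      refine cong_trans ?_ (map_cong hT ((mem_autGroup hψ.le).mp hγ) (Subgroup.mem_sup_left hx')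
        (afun_mem _ (Subgroup.mem_sup_left hx)) (ih x hx))
      rw [hγe _ (Subgroup.mem_sup_left hx')]
      exact hc _ hx'
  -- an exponent killing the p-part of `γ` and fixing `β`
  have hγpos : 0 < orderOf γ := by
    have h0 := orderOf_pos (⟨γ, hγ⟩ : F.autGroup (P ⊔ T))
    rwa [← Subgroup.orderOf_coe] at h0
  obtain ⟨j, m, hm, hjm⟩ :=
    Nat.exists_eq_pow_mul_and_not_dvd hγpos.ne' p (Fact.out (p := p.Prime)).ne_one
  have hβ' : (orderOf (β : MulAut P)).Coprime p := by rwa [Subgroup.orderOf_coe]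
  obtain ⟨i, hi⟩ := exists_pow_eq_self_of_coprime (x := (β : MulAut P)) (n := p ^ j)
    ((hβ'.pow_right j).symm)
  rw [← pow_mul] at hi
  set n := p ^ j * i with hn
  have hord : (orderOf (γ ^ n)).Coprime p := by
    refine Nat.Coprime.coprime_dvd_left (orderOf_dvd_of_pow_eq_one ?_)
      (((Fact.out (p := p.Prime)).coprime_iff_not_dvd.mpr hm).symm)
    rw [← pow_mul, show n * m = orderOf γ * i by rw [hn, hjm]; ring, pow_mul, pow_orderOf_eq_one,
      one_pow]
  set γ' := γ ^ n with hγ'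
  have hγ'A : γ' ∈ F.autGroup (P ⊔ T) := pow_mem hγ n
  have hγ'm := (mem_autGroup hψ.le).mp hγ'A
  have hTim : im T (afun γ') = T := (hγ'm.restrict_to le_sup_right).im_eq_of_le hT.1
    (im_le_iff.mpr fun s hs => Cfsg.Agent.FusionKit88.closed_apply' hT hγ'm
      (Subgroup.mem_sup_right hs) hs) le_rfl
  obtain ⟨δ, hδ, hδe⟩ := (hγ'm.restrict_to le_sup_right).exists_aut hTim
  have hδo : (orderOf δ).Coprime p := by
    refine Nat.Coprime.coprime_dvd_left (orderOf_dvd_of_pow_eq_one (afun_ext fun y hy => ?_)) hord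
    have : ∀ (k : ℕ) (y : Ω), y ∈ T → afun (δ ^ k) y = afun (γ' ^ k) y := by
      intro k
      induction k with
      | zero => intro y hy; rw [pow_zero, pow_zero, afun_one hy, afun_one (Subgroup.mem_sup_right hy)]
      | succ k ih =>
        intro y hy
        rw [pow_succ, pow_succ, afun_mul _ _ hy, afun_mul _ _ (Subgroup.mem_sup_right hy),
          ← hδe y hy]
        exact ih _ (afun_mem δ hy)
    rw [this _ y hy, pow_orderOf_eq_one, afun_one hy, afun_one (Subgroup.mem_sup_right hy)]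
  have hres : ∀ ε, ∀ h : ε ∈ F.autGroup T, (orderOf ε).Coprime p → ε ∈ K := fun ε h ho =>
    Subgroup.mem_sup_left ⟨⟨ε, h⟩, Cfsg.Agent.TransferPResidual.mem_pResidual_of_coprime
      (by rwa [Subgroup.orderOf_mk]), rfl⟩
  have hxS : (x : Ω) ∈ S := hP x.2
  have hxP : (x : Ω) ∈ P ⊔ T := Subgroup.mem_sup_left x.2
  obtain ⟨c, hcA, hce⟩ := ((mor_cj (F := F) hT.1 hxS).exists_aut
    ((mor_cj (F := F) hT.1 hxS).im_self fun y hy => cj_mem_closed hT hxS hy))
  have hz : (x : Ω)⁻¹ * afun γ' x ∈ V := by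
    refine ⟨S.mul_mem (S.inv_mem hxS) (hγ'm.apply_mem hxP), c⁻¹ * δ * c * δ⁻¹,
      K.mul_mem (hres _ (mul_mem (mul_mem (inv_mem hcA) hδ) hcA) ?_) (K.inv_mem (hres δ hδ hδo)),
      fun y hy => ?_⟩
    · rwa [show c⁻¹ * δ * c = (MulAut.conj c⁻¹).toMonoidHom δ from by simp,
        orderOf_injective _ (MulAut.conj c⁻¹).injective]
    · obtain ⟨y₀, hy₀, e⟩ := (hγ'm.restrict_to le_sup_right).mem_im.mp (hTim.symm ▸ hy)
      rw [← cj_cj, ← e, ← hγ'm.map_cj hxP (Subgroup.mem_sup_right hy₀)]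
      rw [← hδe y₀ hy₀] at e ⊢
      subst e
      have h1 : afun (c⁻¹ * δ * c * δ⁻¹) (afun δ y₀) = afun c⁻¹ (afun δ (afun c y₀)) := by
        rw [afun_mul _ _ (afun_mem δ hy₀), afun_inv_apply δ hy₀, afun_mul _ _ hy₀,
          afun_mul _ _ (afun_mem c hy₀)]
      rw [h1, hce y₀ hy₀, hδe _ (cj_mem_closed hT hxS hy₀)]
      have hw := hTim ▸ apply_mem_im (f := afun γ') (cj_mem_closed hT hxS hy₀)
      set w := afun γ' (cj x y₀)
      have h2 := hce _ (afun_mem c⁻¹ hw)
      rw [afun_apply_inv c hw] at h2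
      exact ((congrArg (cj (x : Ω)⁻¹) h2).trans (cj_inv_cj _ _)).symm
  have ht : (((β : MulAut P) x : P) : Ω)⁻¹ * afun γ' x ∈ T := by
    have := hpow n x x.2
    rw [hi, afun_coe] at this
    exact this
  have := mul_mem hz (inv_mem (hTV ht))
  simpa [mul_assoc] using this

end Cfsg.Agent.S5198
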