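import Mathlib
import Cfsg.Statements.S5186
import Cfsg.Agent.Lib.FusionSysChain
import Cfsg.Agent.Lib.PGroupsCritical
import Cfsg.Agent.Lib.PGroupsCyclic
import Cfsg.Agent.Lib.ClassTwoPow

set_option autoImplicit false
open Cfsg

universe u

namespace Cfsg.Agent.S5186

section
open scoped commutatorElement
open Cfsg.FusionSystem Cfsg.Agent.FusionSysBasic Cfsg.Agent.FusionSysSaturated
  Cfsg.Agent.FusionSysNormal Cfsg.Agent.FusionSysChain Cfsg.Agent.FusionSysAlperin

variable {Ω : Type*} [Group Ω] {S : Subgroup Ω} [Finite S] {p : ℕ} [Fact p.Prime]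
  {F : Cfsg.FusionSystem S}

omit [Finite S] [Fact p.Prime] in
theorem char_apply {H : Subgroup Ω} {K : Subgroup H} (hK : K.Characteristic) (α : MulAut H) {y : Ω}
    (hy : y ∈ K.map H.subtype) : afun α y ∈ K.map H.subtype := by
  obtain ⟨k, hk, rfl⟩ := hy
  refine ⟨α k, ?_, (afun_coe α k).symm⟩
  exact (Subgroup.characteristic_iff_map_eq.1 hK α).le ⟨k, hk, rfl⟩

theorem no_flag (hS : IsPGroup p S) (hF : F.IsSaturated p) {H : Subgroup Ω}
    (hH : F.IsEssential p H) (hcard : Nat.card H = p ^ 3) (K₁ K₂ : Subgroup H)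
    (hc₁ : K₁.Characteristic) (hc₂ : K₂.Characteristic) (hle : K₁ ≤ K₂) (h₁ : Nat.card K₁ = p)
    (h₂ : Nat.card K₂ = p ^ 2) : False := by
  have hHS := hH.1.1
  have hlt := essential_lt hS hF hH
  let N := normalizerIn S H
  have hHN : H ≤ N := le_normalizerIn hHS
  haveI := finite_normalizerIn (S := S) H
  let Y : ℕ → Subgroup Ω := fun i =>
    match i with
    | 0 => ⊥
    | 1 => K₁.map H.subtype
    | 2 => K₂.map H.subtype
    | _ + 3 => H
  have hY : ∀ i, i ≤ 3 → Nat.card (Y i) = p ^ i := by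
    intro i hi
    interval_cases i
    · simp [Y]
    · rw [show Y 1 = K₁.map H.subtype from rfl, Subgroup.card_map_of_injective H.subtype_injective, h₁, pow_one]
    · rw [show Y 2 = K₂.map H.subtype from rfl, Subgroup.card_map_of_injective H.subtype_injective, h₂]
    · exact hcard
  have hYP : ∀ i ≤ 3, Y i ≤ H := by
    intro i hi
    interval_cases i
    exacts [bot_le, Subgroup.map_subtype_le _, Subgroup.map_subtype_le _, le_rfl]
  have hinv : ∀ (α : MulAut H), ∀ i ≤ 3, ∀ y ∈ Y i, afun α y ∈ Y i := by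
    intro α i hi y hy
    interval_cases i
    · rw [show Y 0 = ⊥ from rfl, Subgroup.mem_bot] at hy ⊢
      subst hy
      rw [afun_apply α H.one_mem, show (⟨1, H.one_mem⟩ : H) = 1 from rfl, map_one]
      rfl
    · exact char_apply hc₁ α hy
    · exact char_apply hc₂ α hy
    · exact afun_mem α hy
  have hmono : ∀ i < 3, Y i ≤ Y (i + 1) := by
    intro i hi
    interval_cases i
    exacts [bot_le, Subgroup.map_mono hle, Subgroup.map_subtype_le _]
  have hnorm : ∀ i ≤ 3, ((Y i).subgroupOf N).Normal := by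
    intro i hi
    refine ⟨fun n hn g => ?_⟩
    have h := hinv (nHom S H ⟨g, g.2⟩) i hi _ hn
    rw [afun_nHom (K := S) _ (hYP i hi hn)] at h
    exact h
  have hstab : ∀ g ∈ N, ∀ i < 3, ∀ y ∈ Y (i + 1), y⁻¹ * cj g y ∈ Y i := by
    intro g hg i hi y hy
    haveI := hnorm i hi.le
    haveI := hnorm (i + 1) hi
    have hcard' : ∀ j ≤ 3, Nat.card ((Y j).subgroupOf N) = p ^ j := fun j hj => by
      rw [Nat.card_congr (Subgroup.subgroupOfEquivOfLe ((hYP j hj).trans hHN)).toEquiv, hY j hj]
    have hy' : (⟨y, hHN (hYP _ hi hy)⟩ : N) ∈ (Y (i + 1)).subgroupOf N := hy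
    have := PGroupsCritical.commutator_mem_of_succ (p := p) (G := N) (hS.to_le (inf_le_left : N ≤ S))
      (A := (Y i).subgroupOf N) (B := (Y (i + 1)).subgroupOf N) (fun x hx => hmono i hi hx)
      (by rw [hcard' i hi.le, hcard' (i + 1) hi, pow_succ]) (inv_mem hy') (⟨g, hg⟩ : N)
    have h2 : ⁅g, y⁻¹⁆ ∈ Y i := this
    rw [cj_div_eq]
    exact inv_mem h2
  have hle' : N ≤ H := by
    refine le_of_normal_pSubgroup hS hH.1 (radical_of_essential hS hH) inf_le_left ?_
      (M := stabGroup (F.autGroup H) Y 3 hYP fun α _ => hinv α) (fun α hα => hα.1)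
      (isPGroup_stabGroup hS hHS rfl rfl hmono) (fun β hβ m hm => stabGroup_normal hβ hm) fun g _ => ?_
    · exact hHN.trans Subgroup.le_normalizer
    · refine ⟨autInducedBy_le hHS (mem_autInducedBy.2 ⟨g, g.2.1, g.2.2, fun x hx => afun_nHom g hx⟩),
        fun i hi y hy => ?_⟩
      rw [afun_nHom g (hYP _ hi hy)]
      exact hstab g g.2 i hi y hy
  haveI := finite_of_le hHS
  exact absurd (Subgroup.card_le_of_le hle') (Nat.not_le.2 (normalizerIn_gt hS hlt))

end

section
variable {H : Type*} [Group H] [Finite H] {p : ℕ} [hp : Fact p.Prime]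

theorem q8_or_flag (hcard : Nat.card H = 2 ^ 3) (hne : ¬ ∀ a b : H, a * b = b * a) :
    Nonempty (H ≃* QuaternionGroup 2) ∨ ∃ K₁ K₂ : Subgroup H, K₁.Characteristic ∧ K₂.Characteristic ∧
      K₁ ≤ K₂ ∧ Nat.card K₁ = 2 ∧ Nat.card K₂ = 2 ^ 2 := by
  have hG : IsPGroup 2 H := IsPGroup.of_card hcard
  haveI : Fact (Nat.Prime 2) := ⟨Nat.prime_two⟩
  by_cases huniq : ∀ A B : Subgroup H, Nat.card A = 2 → Nat.card B = 2 → A = B
  · left
    rcases PGroupsCyclic.isCyclic_or_quaternion hG huniq with h | ⟨-, n, ⟨e⟩⟩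
    · exact absurd (fun a b => isMulCommutative_iff.1 (IsCyclic.isMulCommutative (α := H)) a b) hne
    · have h := Nat.card_congr e.toEquiv
      haveI : NeZero (2 ^ n) := ⟨by positivity⟩
      rw [hcard, Nat.card_eq_fintype_card, QuaternionGroup.card] at h
      have : n = 1 := Nat.pow_right_injective le_rfl (show 2 ^ n = 2 ^ 1 by omega)
      subst this
      exact ⟨e⟩
  right
  -- an element of order four
  obtain ⟨x, hx⟩ : ∃ x : H, x ^ 2 ≠ 1 := by
    by_contra hall
    simp only [not_exists, not_not] at hall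
    exact hne fun a b => by
      have hi : ∀ c : H, c⁻¹ = c := fun c => inv_eq_of_mul_eq_one_right (by rw [← sq]; exact hall c)
      rw [← hi (a * b), mul_inv_rev, hi, hi]
  have hx4 : orderOf x = 4 := by
    have hd : orderOf x ∣ 2 ^ 3 := hcard ▸ orderOf_dvd_natCard x
    obtain ⟨k, hk, e⟩ := (Nat.dvd_prime_pow Nat.prime_two).1 hd
    interval_cases k
    · exact absurd (by rw [orderOf_eq_one_iff.1 e, one_pow]) hx
    · exact absurd (by rw [show (2 : ℕ) = orderOf x by rw [e, pow_one]]; exact pow_orderOf_eq_one x) hx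
    · exact e
    · exfalso
      haveI : IsCyclic H := isCyclic_of_orderOf_eq_card x (e.trans hcard.symm)
      exact hne fun a b => isMulCommutative_iff.1 (IsCyclic.isMulCommutative (α := H)) a b
  set C := Subgroup.zpowers x with hC
  have hCcard : Nat.card C = 4 := by rw [hC, Nat.card_zpowers, hx4]
  have hCi : C.index = 2 := by
    have := C.card_mul_index
    rw [hcard, hCcard] at this
    omega
  haveI hCn : C.Normal := Subgroup.normal_of_index_eq_two hCi
  -- an involution outside `C`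
  obtain ⟨t, ht2, htC⟩ : ∃ t : H, t ^ 2 = 1 ∧ t ∉ C := by
    by_contra hall
    simp only [not_exists, not_and, not_not] at hall
    refine huniq fun A B hA hB => ?_
    have key : ∀ A : Subgroup H, Nat.card A = 2 → A = Subgroup.zpowers (x ^ 2) := by
      intro A hA
      have h1 : Nat.card (Subgroup.zpowers (x ^ 2)) = 2 := by
        rw [Nat.card_zpowers, orderOf_pow, hx4]; rfl
      refine Subgroup.eq_of_le_of_card_ge (fun a ha => ?_) (by rw [hA, h1])
      have ha2 := PGroupsBasic.pow_eq_one_of_card hA ha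
      obtain ⟨k, hk⟩ := hall a ha2
      have hk' : x ^ k = a := hk
      have hd : (4 : ℤ) ∣ k * 2 := by
        have : x ^ (k * 2) = 1 := by rw [zpow_mul, hk', zpow_two, ← sq, ha2]
        have := orderOf_dvd_iff_zpow_eq_one.2 this
        rwa [hx4] at this
      obtain ⟨l, hl⟩ : (2 : ℤ) ∣ k := by omega
      exact ⟨l, show (x ^ 2) ^ l = a by rw [← hk', hl, ← zpow_natCast x 2, ← zpow_mul]; rfl⟩
    rw [key A hA, key B hB]
  have htt : t⁻¹ = t := inv_eq_of_mul_eq_one_right (by rw [← sq]; exact ht2)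
  have hx4' : x ^ (4 : ℕ) = 1 := hx4 ▸ pow_orderOf_eq_one x
  have hflip : t * x * t = x⁻¹ := by
    have hmem : t * x * t⁻¹ ∈ C := hCn.conj_mem x (Subgroup.mem_zpowers x) t
    rw [htt] at hmem
    obtain ⟨i, hi, e⟩ : ∃ i, i < 4 ∧ x ^ i = t * x * t := by
      classical
      obtain ⟨i, hi, e⟩ := (IsOfFinOrder.mem_powers_iff_mem_range_orderOf (isOfFinOrder_of_finite x)).1
        ((isOfFinOrder_of_finite x : IsOfFinOrder x).mem_powers_iff_mem_zpowers.2 hmem) |> Finset.mem_image.1
      exact ⟨i, hx4 ▸ Finset.mem_range.1 hi, e⟩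
    have hsq : (t * x * t) ^ 2 = t * x ^ 2 * t := by
      rw [sq, sq, show t * x * t * (t * x * t) = t * x * (t * t) * x * t by simp only [mul_assoc],
        show t * t = 1 by rw [← sq]; exact ht2]
      simp only [mul_assoc, mul_one]
    interval_cases i
    · exfalso
      rw [pow_zero] at e
      have : x = 1 := by
        have h := congrArg (fun z => t * z * t) e
        simp only [mul_assoc, show t * t = 1 by rw [← sq]; exact ht2, mul_one] at h
        rw [← mul_assoc, show t * t = 1 by rw [← sq]; exact ht2, one_mul] at h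
        exact h.symm
      exact hx (by rw [this, one_pow])
    · exfalso
      rw [pow_one] at e
      have hcomm : t * x = x * t := by
        conv_rhs => rw [e, mul_assoc, show t * t = 1 by rw [← sq]; exact ht2, mul_one]
      refine hne fun a b => ?_
      have hall : ∀ a : H, ∃ u ∈ C, a = u ∨ a = t * u := by
        intro a
        by_cases ha : a ∈ C
        · exact ⟨a, ha, Or.inl rfl⟩
        · refine ⟨t⁻¹ * a, (Subgroup.mul_mem_iff_of_index_two hCi).2 ?_, Or.inr (mul_inv_cancel_left t a).symm⟩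
          simp [ha, htC]
      have hc : ∀ u ∈ C, Commute t u := by
        rintro u ⟨k, rfl⟩
        exact (show Commute t x from hcomm).zpow_right k
      have hcc : ∀ u ∈ C, ∀ v ∈ C, Commute u v := by
        rintro u ⟨k, rfl⟩ v ⟨l, rfl⟩
        exact Commute.zpow_zpow (Commute.refl x) k l
      obtain ⟨u, hu, ha⟩ := hall a
      obtain ⟨v, hv, hb⟩ := hall b
      rcases ha with ha | ha <;> rcases hb with hb | hb <;> rw [ha, hb]
      · exact hcc u hu v hv
      · exact ((hc u hu).symm.mul_right (hcc u hu v hv))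
      · exact ((hc v hv).mul_left (hcc u hu v hv))
      · exact ((Commute.refl t).mul_right (hc v hv)).mul_left ((hc u hu).symm.mul_right (hcc u hu v hv))
    · exfalso
      refine hx ?_
      have h := congrArg (· ^ 2) e
      rw [← pow_mul, show 2 * 2 = 4 from rfl, hx4', hsq] at h
      have h' := congrArg (fun z => t * z * t) h
      simp only [mul_assoc, show t * t = 1 by rw [← sq]; exact ht2, mul_one] at h'
      rw [← mul_assoc, show t * t = 1 by rw [← sq]; exact ht2, one_mul] at h'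
      exact h'.symm
    · rw [← e]
      exact eq_inv_of_mul_eq_one_left (by rw [← pow_succ, hx4'])
  have hout : ∀ a : H, a ∉ C → a ^ 2 = 1 := by
    intro a ha
    have hu : t * a ∈ C := (Subgroup.mul_mem_iff_of_index_two hCi).2 (by simp [ha, htC])
    obtain ⟨k, hk⟩ := hu
    have hk' : a = t * x ^ k := by
      rw [show x ^ k = t * a from hk, ← mul_assoc, show t * t = 1 by rw [← sq]; exact ht2, one_mul]
    have hc : t * x ^ k * t = (x ^ k)⁻¹ := by
      conv_lhs => rw [show t * x ^ k * t = t * x ^ k * t⁻¹ by rw [htt], ← conj_zpow, htt, hflip]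
      rw [inv_zpow]
    rw [hk', sq, ← mul_assoc, hc, inv_mul_cancel]
  have hchar : C.Characteristic := by
    refine Subgroup.characteristic_iff_map_le.2 fun φ => ?_
    rw [hC, MonoidHom.map_zpowers, Subgroup.zpowers_le]
    by_contra h
    exact hx (φ.injective (by rw [map_pow, map_one]; exact hout _ h))
  have h2c : (Subgroup.zpowers (x ^ 2)).Characteristic := by
    refine Subgroup.characteristic_iff_map_le.2 fun φ => ?_
    rw [MonoidHom.map_zpowers, Subgroup.zpowers_le]
    obtain ⟨k, hk⟩ := (Subgroup.characteristic_iff_map_le.1 hchar φ) ⟨x, Subgroup.mem_zpowers x, rfl⟩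
    refine ⟨k, ?_⟩
    show (x ^ 2) ^ k = φ (x ^ 2)
    rw [map_pow, show φ x = x ^ k from hk.symm, ← zpow_natCast x 2, ← zpow_mul, mul_comm, zpow_mul, zpow_natCast]
  exact ⟨_, C, h2c, hchar, Subgroup.zpowers_le.2 (C.pow_mem (Subgroup.mem_zpowers x) 2),
    by rw [Nat.card_zpowers, orderOf_pow, hx4]; rfl, hCcard⟩

/-- A flag of characteristic subgroups for groups of order `p^3` which are abelian or of odd order
and are not of exponent `p`. -/
theorem flag_of_pow_hom (hcard : Nat.card H = p ^ 3) (hmul : ∀ a b : H, (a * b) ^ p = a ^ p * b ^ p)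
    (hexp : ¬ ∀ a : H, a ^ p = 1) :
    ∃ K₁ K₂ : Subgroup H, K₁.Characteristic ∧ K₂.Characteristic ∧ K₁ ≤ K₂ ∧ Nat.card K₁ = p ∧
      Nat.card K₂ = p ^ 2 := by
  let φ : H →* H := MonoidHom.mk' (fun a => a ^ p) hmul
  have hchar1 : φ.range.Characteristic := Subgroup.characteristic_iff_map_le.2 fun e => by
    rintro _ ⟨_, ⟨a, rfl⟩, rfl⟩
    exact ⟨e a, (map_pow e a p).symm⟩
  have hne : φ.range ≠ ⊥ := fun e => hexp fun a => Subgroup.mem_bot.1 (e.le ⟨a, rfl⟩)
  have hchar2 : φ.ker.Characteristic := Subgroup.characteristic_iff_map_le.2 fun e => by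
    rintro _ ⟨a, ha, rfl⟩
    show (e a) ^ p = 1
    rw [← map_pow, show a ^ p = 1 from ha, map_one]
  have hp3 := hcard
  have hprod : Nat.card φ.ker * Nat.card φ.range = p ^ 3 := by
    rw [← hcard, ← φ.ker.card_mul_index, Subgroup.index_ker]
  obtain ⟨i, hi, ei⟩ := (Nat.dvd_prime_pow hp.out).1 (hcard ▸ Subgroup.card_subgroup_dvd_card φ.ker)
  obtain ⟨j, hj, ej⟩ := (Nat.dvd_prime_pow hp.out).1 (hcard ▸ Subgroup.card_subgroup_dvd_card φ.range)
  have hij : i + j = 3 := Nat.pow_right_injective hp.out.two_le (by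
    show p ^ (i + j) = p ^ 3
    rw [pow_add, ← ei, ← ej]; exact hprod)
  have hj0 : j ≠ 0 := fun e => hne (Subgroup.eq_bot_of_card_eq _ (by rw [ej, e, pow_zero]))
  by_cases hsq : ∀ a : H, (a ^ p) ^ p = 1
  · have hle : φ.range ≤ φ.ker := by rintro _ ⟨a, rfl⟩; exact hsq a
    have h := Subgroup.card_le_of_le hle
    rw [ei, ej] at h
    have := (Nat.pow_le_pow_iff_right hp.out.one_lt).1 h
    exact ⟨φ.range, φ.ker, hchar1, hchar2, hle, by rw [ej, show j = 1 by omega, pow_one],
      by rw [ei, show i = 2 by omega]⟩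
  · simp only [not_forall] at hsq
    obtain ⟨a, ha⟩ := hsq
    have hj2 : 2 ≤ j := by
      by_contra hlt
      obtain rfl : j = 1 := by omega
      exact ha (PGroupsBasic.pow_eq_one_of_card (by rw [ej, pow_one]) (⟨a, rfl⟩ : a ^ p ∈ φ.range))
    have hne2 : (a ^ p) ^ p ≠ 1 := ha
    have hp3' : ((a ^ p) ^ p) ^ p = 1 := by
      rw [← pow_mul, ← pow_mul, show p * (p * p) = p ^ 3 by ring, ← hcard]
      exact pow_card_eq_one'
    have hi0 : i ≠ 0 := by
      intro e
      have hb := Subgroup.eq_bot_of_card_eq φ.ker (by rw [ei, e, pow_zero])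
      exact hne2 (Subgroup.mem_bot.1 (hb ▸ (show ((a ^ p) ^ p) ∈ φ.ker from hp3')))
    have hi1 : i = 1 := by omega
    refine ⟨φ.ker, φ.range, hchar2, hchar1, fun x hx => ?_, by rw [ei, hi1, pow_one],
      by rw [ej, show j = 2 by omega]⟩
    rcases PGroupsBasic.le_or_inf_eq_bot (by rw [ei, hi1, pow_one] : Nat.card φ.ker = p) φ.range with h | h
    · exact h hx
    · exact absurd (Subgroup.mem_bot.1 (h.le ⟨hp3', ⟨a ^ p, rfl⟩⟩)) hne2

end

end Cfsg.Agent.S5186

namespace Cfsg.Agent.S5186

section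
open scoped commutatorElement
variable {H : Type*} [Group H] [Finite H] {p : ℕ} [hp : Fact p.Prime]

theorem nonabelian_facts (hcard : Nat.card H = p ^ 3) (hne : ¬ ∀ a b : H, a * b = b * a) :
    Nat.card (Subgroup.center H) = p ∧ commutator H = Subgroup.center H := by
  have hG : IsPGroup p H := IsPGroup.of_card hcard
  haveI : Nontrivial H := Finite.one_lt_card_iff_nontrivial.1 (by rw [hcard]; exact Nat.one_lt_pow (by norm_num) hp.out.one_lt)
  haveI := hG.center_nontrivial
  obtain ⟨i, hi, ei⟩ := (Nat.dvd_prime_pow hp.out).1 (hcard ▸ Subgroup.card_subgroup_dvd_card (Subgroup.center H))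
  have hi0 : i ≠ 0 := by
    intro e
    have := Finite.one_lt_card_iff_nontrivial.2 (inferInstance : Nontrivial (Subgroup.center H))
    rw [ei, e, pow_zero] at this
    exact lt_irrefl _ this
  have hidx : (Subgroup.center H).index = p ^ (3 - i) := by
    have := (Subgroup.center H).card_mul_index
    rw [hcard, ei, show p ^ 3 = p ^ i * p ^ (3 - i) by rw [← pow_add]; congr 1; omega] at this
    exact Nat.eq_of_mul_eq_mul_left (pow_pos hp.out.pos _) this
  have hi1 : i = 1 := by
    by_contra hne1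
    have hcyc : IsCyclic (H ⧸ Subgroup.center H) := by
      have hc : Nat.card (H ⧸ Subgroup.center H) = p ^ (3 - i) := by
        rw [← Subgroup.index_eq_card, hidx]
      rcases Nat.eq_or_lt_of_le hi with h3 | h3
      · haveI : Subsingleton (H ⧸ Subgroup.center H) := Finite.card_le_one_iff_subsingleton.1 (by
          rw [hc, show 3 - i = 0 by omega, pow_zero])
        exact isCyclic_of_subsingleton
      · exact isCyclic_of_prime_card (p := p) (by rw [hc, show 3 - i = 1 by omega, pow_one])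
    exact hne (commutative_of_cyclic_center_quotient (QuotientGroup.mk' (Subgroup.center H))
      (by rw [QuotientGroup.ker_mk']))
  have hle : commutator H ≤ Subgroup.center H :=
    PGroupsBasic.commutator_le_of_index_le_sq hG (by rw [hidx, hi1])
  have hc : Nat.card (Subgroup.center H) = p := by rw [ei, hi1, pow_one]
  refine ⟨hc, ?_⟩
  rcases PGroupsBasic.le_or_inf_eq_bot hc (commutator H) with h | h
  · exact le_antisymm hle h
  · exfalso
    refine hne fun a b => commutatorElement_eq_one_iff_mul_comm.1 (Subgroup.mem_bot.1 (h.le ⟨hle ?_, ?_⟩))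
    all_goals exact Subgroup.commutator_mem_commutator (Subgroup.mem_top a) (Subgroup.mem_top b)

theorem classify (hcard : Nat.card H = p ^ 3)
    (hnf : ∀ K₁ K₂ : Subgroup H, K₁.Characteristic → K₂.Characteristic → K₁ ≤ K₂ →
      Nat.card K₁ = p → Nat.card K₂ = p ^ 2 → False) :
    ((∀ a b : H, a * b = b * a) ∧ ∀ a : H, a ^ p = 1) ∨
      (Odd p ∧ Cfsg.IsExtraspecial p H ∧ ∀ x : H, x ^ p = 1) ∨
      (p = 2 ∧ Nonempty (H ≃* QuaternionGroup 2)) := by
  have hG : IsPGroup p H := IsPGroup.of_card hcard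
  have hexp : (∀ a b : H, (a * b) ^ p = a ^ p * b ^ p) → ∀ a : H, a ^ p = 1 := by
    intro hmul
    by_contra hne
    obtain ⟨K₁, K₂, h1, h2, h3, h4, h5⟩ := flag_of_pow_hom hcard hmul hne
    exact hnf K₁ K₂ h1 h2 h3 h4 h5
  by_cases hcomm : ∀ a b : H, a * b = b * a
  · exact Or.inl ⟨hcomm, hexp fun a b => (show Commute a b from hcomm a b).mul_pow p⟩
  right
  by_cases hp2 : p = 2
  · subst hp2
    refine Or.inr ⟨rfl, (q8_or_flag hcard hcomm).resolve_right ?_⟩
    rintro ⟨K₁, K₂, h1, h2, h3, h4, h5⟩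
    exact hnf K₁ K₂ h1 h2 h3 h4 h5
  obtain ⟨hc, hd⟩ := nonabelian_facts hcard hcomm
  have hpow : ∀ a : H, a ^ p = 1 := hexp fun a b => by
    have hm : ⁅b, a⁆ ∈ Subgroup.center H :=
      hd.le (Subgroup.commutator_mem_commutator (Subgroup.mem_top b) (Subgroup.mem_top a))
    exact ClassTwoPow.mul_pow_prime_central hp.out hp2 hm (PGroupsBasic.pow_eq_one_of_card hc hm)
  refine Or.inl ⟨hp.out.odd_of_ne_two hp2, ⟨⟨hG, ?_, hd⟩, hc⟩, hpow⟩
  exact le_antisymm (PGroupsBasic.frattini_le_of_elementary_quotient (p := p) hd.le fun x => by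
      rw [hpow x]; exact one_mem _)
    (hd.ge.trans (PGroupsBasic.commutator_le_frattini hG))

end

/-- Let F be a saturated fusion system over a finite p-group S and H an essential subgroup of order p³. Then H is elementary abelian, or p is odd and H is extraspecial of exponent p, or p = 2 and H is the quaternion group of order 8. -/
theorem result {Ω : Type u} [Group Ω] {S : Subgroup Ω} [Finite S] (p : ℕ) [Fact p.Prime] (hS : IsPGroup p S)
    (F : Cfsg.FusionSystem S) (hF : F.IsSaturated p) (H : Subgroup Ω) (hH : F.IsEssential p H) (hcard : Nat.card H = p ^ 3) :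
    Cfsg.IsElementaryAbelian p H ∨ (Odd p ∧ Cfsg.IsExtraspecial p ↥H ∧ ∀ x ∈ H, x ^ p = 1) ∨
      (p = 2 ∧ Nonempty (↥H ≃* QuaternionGroup 2)) := by
  haveI := FusionSysBasic.finite_of_le hH.1.1
  rcases classify (H := H) hcard (no_flag hS hF hH hcard) with ⟨hc, he⟩ | ⟨ho, hx, he⟩ | h
  · exact Or.inl ⟨IsMulCommutative.of_comm hc, fun a ha => congrArg Subtype.val (he ⟨a, ha⟩)⟩
  · exact Or.inr (Or.inl ⟨ho, hx, fun x hx' => congrArg Subtype.val (he ⟨x, hx'⟩)⟩)
  · exact Or.inr (Or.inr h)

end Cfsg.Agent.S5186
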