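import Cfsg.Statements.S5326
import Cfsg.Agent.Lib.FusionSysSaturated

set_option autoImplicit false
open Cfsg

namespace Cfsg.Agent.S5326

open Cfsg.FusionSystem Cfsg.Agent.FusionSysBasic Cfsg.Agent.FusionSysSaturated
open scoped Pointwise

/-- With `M` containing the normalizers of the nontrivial subgroups of the Sylow subgroup `T`,
Sylow subgroups meeting `T` nontrivially lie in `M`. -/
theorem sylow_le_of_inter {G : Type*} [Group G] [Finite G] {p : ℕ} [Fact p.Prime] (T : Sylow p G)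
    (M : Subgroup G) (hTM : (T : Subgroup G) ≤ M)
    (hM : ∀ X : Subgroup G, X ≤ T → X ≠ ⊥ → Subgroup.normalizer (X : Set G) ≤ M)
    (R₁ : Sylow p G) (hR₁ : (T : Subgroup G) ⊓ R₁ ≠ ⊥) : (R₁ : Subgroup G) ≤ M := by
  by_contra hcon
  obtain ⟨R, ⟨hne, hRM⟩, hmax⟩ := Set.exists_max_image
    {R : Sylow p G | (T : Subgroup G) ⊓ R ≠ ⊥ ∧ ¬ (R : Subgroup G) ≤ M}
    (fun R => Nat.card ↥((T : Subgroup G) ⊓ R)) (Set.toFinite _) ⟨R₁, hR₁, hcon⟩
  set D := (T : Subgroup G) ⊓ R with hD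
  have hlt : D.subgroupOf (R : Subgroup G) < ⊤ := lt_top_iff_ne_top.2 fun e => hRM
    ((Subgroup.subgroupOf_eq_top.1 e).trans (inf_le_left.trans hTM))
  haveI := R.2.isNilpotent
  obtain ⟨r, hrn, hrD⟩ := SetLike.exists_of_lt (normalizerCondition_of_isNilpotent _ hlt)
  have hrn' : (r : G) ∈ Subgroup.normalizer (D : Set G) := by
    rw [Subgroup.mem_normalizer_iff]
    refine fun x => ⟨fun hx => (Subgroup.mem_normalizer_iff.1 hrn ⟨x, hx.2⟩).1 hx,
      fun hx => ?_⟩
    have hxR : x ∈ (R : Subgroup G) := by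
      have h := (R : Subgroup G).mul_mem ((R : Subgroup G).mul_mem ((R : Subgroup G).inv_mem r.2)
        hx.2) r.2
      simpa [mul_assoc] using h
    exact (Subgroup.mem_normalizer_iff.1 hrn ⟨x, hxR⟩).2 hx
  set E := Subgroup.normalizer (D : Set G) ⊓ (R : Subgroup G) with hE
  have hEM : E ≤ M := inf_le_left.trans (hM D inf_le_left hne)
  have hEp : IsPGroup p (E.subgroupOf M) :=
    (R.2.to_le inf_le_right).of_equiv (Subgroup.subgroupOfEquivOfLe hEM).symm
  obtain ⟨W, hW⟩ := hEp.exists_le_sylow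
  obtain ⟨m, hm⟩ := MulAction.exists_smul_eq M W (T.subtype hTM)
  -- conjugating `R` by `m` gives a larger intersection with `T`
  have hsub : E.map (MulAut.conj (m : G)).toMonoidHom ≤
      (T : Subgroup G) ⊓ ((m : G) • R : Sylow p G) := by
    rintro _ ⟨x, hx, rfl⟩
    refine ⟨?_, ⟨x, hx.2, rfl⟩⟩
    have h1 : m * ⟨x, hEM hx⟩ * m⁻¹ ∈ ((T.subtype hTM : Sylow p M) : Subgroup M) := by
      rw [← hm]; exact ⟨_, hW (show (⟨x, hEM hx⟩ : M) ∈ E.subgroupOf M from hx), rfl⟩
    exact h1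
  have hlt' : Nat.card D < Nat.card ↥((T : Subgroup G) ⊓ ((m : G) • R : Sylow p G)) := by
    calc Nat.card D < Nat.card E := by
          refine lt_of_le_of_ne (Subgroup.card_le_of_le (le_inf Subgroup.le_normalizer inf_le_right))
            fun e => hrD ?_
          have : D = E := Subgroup.eq_of_le_of_card_ge
            (le_inf Subgroup.le_normalizer inf_le_right) e.ge
          show (r : G) ∈ D
          rw [this]; exact ⟨hrn', r.2⟩
      _ = Nat.card ↥(E.map (MulAut.conj (m : G)).toMonoidHom) :=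
          (Subgroup.card_map_of_injective (MulAut.conj (m : G)).injective).symm
      _ ≤ _ := Subgroup.card_le_of_le hsub
  have hle : ((((m : G) • R) : Sylow p G) : Subgroup G) ≤ M := by
    by_contra h
    refine absurd (hmax _ ⟨fun e => ?_, h⟩) (not_le.2 hlt')
    rw [e, Subgroup.card_bot] at hlt'
    have := Nat.card_pos (α := D)
    omega
  apply hRM
  intro x hx
  have h1 : (m : G) * x * (m : G)⁻¹ ∈ M := hle ⟨x, hx, rfl⟩
  have := M.mul_mem (M.mul_mem (M.inv_mem m.2) h1) m.2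
  simpa [mul_assoc] using this

/-- A strongly `p`-embedded subgroup around a given Sylow subgroup. -/
theorem strongly_embedded_ti {G : Type*} [Group G] [Finite G] {p : ℕ} [Fact p.Prime] {Y : Subgroup G}
    (hY : Cfsg.IsStronglyPEmbedded p Y) (T : Sylow p G) :
    ∃ M : Subgroup G, M ≠ ⊤ ∧ (T : Subgroup G) ≤ M ∧
      ∀ g x : G, x ∈ (T : Subgroup G) → x ≠ 1 → g * x * g⁻¹ ∈ (T : Subgroup G) → g ∈ M := by
  obtain ⟨hp, hYtop, P, hP⟩ := hY
  obtain ⟨c, hc⟩ := MulAction.exists_smul_eq G P T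
  have hc' : (P : Subgroup G).map (MulAut.conj c).toMonoidHom = (T : Subgroup G) := by rw [← hc]; rfl
  have hnorm : ∀ X : Subgroup G, X ≤ T → X ≠ ⊥ →
      Subgroup.normalizer (X : Set G) ≤ Y.map (MulAut.conj c).toMonoidHom := by
    intro X hXT hX n hn
    let X' := X.map (MulAut.conj c⁻¹).toMonoidHom
    have hX' : X' ≤ (P : Subgroup G) := by
      rintro _ ⟨x, hx, rfl⟩
      obtain ⟨y, hy, rfl⟩ := hc'.ge (hXT hx)
      simp [mul_assoc]
      exact hy
    have hrank : ¬ Cfsg.PRankLE p (1 - 1) X' := by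
      intro hle
      have hX1 : X' ≠ ⊥ := fun e => hX ((Subgroup.map_eq_bot_iff_of_injective X
        (f := (MulAut.conj c⁻¹).toMonoidHom) (MulAut.conj c⁻¹).injective).1 e)
      have hp' : IsPGroup p X' := P.2.to_le hX'
      haveI : Nontrivial X' := (Subgroup.nontrivial_iff_ne_bot _).2 hX1
      have hdvd : p ∣ Nat.card X' := by
        obtain ⟨k, hk, hcard⟩ := hp'.nontrivial_iff_card.1 inferInstance
        rw [hcard]; exact dvd_pow_self p hk.ne'
      obtain ⟨x, hx⟩ := exists_prime_orderOf_dvd_card' p hdvd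
      have h := hle (Subgroup.zpowers x) inferInstance (fun a ha => by
        obtain ⟨k, rfl⟩ := Subgroup.mem_zpowers_iff.1 ha
        rw [← zpow_natCast, ← zpow_mul, mul_comm, zpow_mul, zpow_natCast, ← hx, pow_orderOf_eq_one,
          one_zpow])
      rw [Nat.card_zpowers, hx] at h
      have := (Fact.out : p.Prime).two_le
      simp at h
      omega
    refine ⟨c⁻¹ * n * c, hP (Subgroup.mem_iSup_of_mem ⟨X', hX', hrank⟩ ?_), by simp [mul_assoc]⟩
    show _ ∈ Subgroup.normalizer (X' : Set G)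
    rw [mem_normalizer_iff_im_cj, show X' = im X (cj c⁻¹) from (im_cj X c⁻¹).symm, im_im_cj]
    rw [show c⁻¹ * n * c * c⁻¹ = c⁻¹ * n by group, ← im_im_cj, mem_normalizer_iff_im_cj.1 hn]
  have hne : Y.map (MulAut.conj c).toMonoidHom ≠ ⊤ := by
    intro e
    apply hYtop
    refine Subgroup.map_injective (f := (MulAut.conj c).toMonoidHom) (MulAut.conj c).injective ?_
    rw [e, Subgroup.map_top_of_surjective _ (MulAut.conj c).surjective]
  have hT1 : (T : Subgroup G) ≠ ⊥ := T.ne_bot_of_dvd_card hp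
  have hTM : (T : Subgroup G) ≤ Y.map (MulAut.conj c).toMonoidHom :=
    Subgroup.le_normalizer.trans (hnorm _ le_rfl hT1)
  refine ⟨_, hne, hTM, fun g x hx hx1 hgx => ?_⟩
  have hR : ((g⁻¹ • T : Sylow p G) : Subgroup G) ≤ Y.map (MulAut.conj c).toMonoidHom := by
    refine sylow_le_of_inter T _ hTM hnorm _ fun e => hx1 ?_
    have h2 : x ∈ ((g⁻¹ • T : Sylow p G) : Subgroup G) := ⟨g * x * g⁻¹, hgx, by simp [mul_assoc]⟩
    have h3 : x ∈ (T : Subgroup G) ⊓ ((g⁻¹ • T : Sylow p G) : Subgroup G) := ⟨hx, h2⟩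
    rw [e] at h3
    exact Subgroup.mem_bot.1 h3
  set M := Y.map (MulAut.conj c).toMonoidHom with hM
  obtain ⟨m, hm⟩ := MulAction.exists_smul_eq M ((g⁻¹ • T).subtype hR) (T.subtype hTM)
  have h4 : ((m : G) * g⁻¹) • T = T := by
    rw [mul_smul]
    rw [Sylow.smul_subtype] at hm
    exact Sylow.subtype_injective hm
  have h5 : (m : G) * g⁻¹ ∈ M :=
    hnorm _ le_rfl hT1 (Sylow.smul_eq_iff_mem_normalizer.1 h4)
  have h6 : g⁻¹ ∈ M := by simpa using M.mul_mem (M.inv_mem m.2) h5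
  exact inv_mem_iff.1 h6

variable {Ω : Type*} [Group Ω] {S : Subgroup Ω}

/-- `Aut_F(Q)` has a proper subgroup containing every automorphism moving a noninner element of
`Aut_S(Q)` into `Aut_S(Q)`, when `Q` is essential. -/
theorem exists_M [Finite S] {p : ℕ} [Fact p.Prime] (hS : IsPGroup p S) {F : Cfsg.FusionSystem S}
    (hF : F.IsSaturated p) {Q : Subgroup Ω} (hQ : F.IsEssential p Q) :
    Q ≠ S ∧ ∃ M : Subgroup (MulAut Q), M ≤ F.autGroup Q ∧ M ≠ F.autGroup Q ∧
      ∀ g ∈ F.autGroup Q, ∀ a ∈ autInducedBy S Q, a ∉ Inn Q → g * a * g⁻¹ ∈ autInducedBy S Q →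
        g ∈ M := by
  obtain ⟨-, hfn, hN, E, hE⟩ := hQ
  haveI := finite_autGroup (F := F) Q
  obtain ⟨R, hR⟩ := (fullyAutomized_of_fullyNormalized hS hF hfn).2
  let π := QuotientGroup.mk' ((Inn Q).subgroupOf (F.autGroup Q))
  let T := R.mapSurjective (f := π) (QuotientGroup.mk'_surjective _)
  have hT : (T : Subgroup _) = ((autInducedBy S Q).subgroupOf (F.autGroup Q)).map π := by
    rw [← hR]; exact Sylow.coe_mapSurjective _ R
  refine ⟨fun e => ?_, ?_⟩
  · subst e
    refine T.ne_bot_of_dvd_card hE.1 (hT.trans ?_)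
    rw [Subgroup.map_eq_bot_iff, QuotientGroup.ker_mk', autInducedBy_self]
  obtain ⟨M₀, hne, -, hM₀⟩ := strongly_embedded_ti hE T
  refine ⟨(M₀.comap π).map (F.autGroup Q).subtype, Subgroup.map_subtype_le _, fun e => hne ?_, ?_⟩
  · rw [eq_top_iff]
    intro z _
    obtain ⟨g, rfl⟩ := QuotientGroup.mk'_surjective _ z
    obtain ⟨g', hg', e'⟩ := e.ge g.2
    exact Subtype.ext e' ▸ hg'
  · intro g hg a ha hai hga
    have haF := autInducedBy_le (F := F) hfn.1 ha
    have hmem : ∀ (b : MulAut Q) (hb : b ∈ F.autGroup Q), b ∈ autInducedBy S Q →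
        π ⟨b, hb⟩ ∈ (T : Subgroup _) := fun b hb hbS => hT ▸ ⟨⟨b, hb⟩, hbS, rfl⟩
    refine ⟨⟨g, hg⟩, hM₀ _ (π ⟨a, haF⟩) (hmem a haF ha) ?_ ?_, rfl⟩
    · exact fun e => hai ((QuotientGroup.eq_one_iff (⟨a, haF⟩ : F.autGroup Q)).1 e)
    · rw [← map_inv, ← map_mul, ← map_mul]
      exact hmem _ _ hga

/-- Two maps from a subgroup containing `P` properly and normalizing it, both carrying `P` onto
`Q`, differ on `P` by an element of `M`. -/
theorem key [Finite S] {p : ℕ} {F : Cfsg.FusionSystem S} {Q : Subgroup Ω} (hQS : Q ≤ S)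
    (hc : centralizerIn S Q ≤ Q) {M : Subgroup (MulAut Q)}
    (hM : ∀ g ∈ F.autGroup Q, ∀ a ∈ autInducedBy S Q, a ∉ Inn Q → g * a * g⁻¹ ∈ autInducedBy S Q →
        g ∈ M)
    {P U : Subgroup Ω} {f b : Ω → Ω} (hPU : P < U) (hUn : U ≤ Subgroup.normalizer (P : Set Ω))
    (hf : Mor F U f) (hb : Mor F U b) (hfQ : im P f = Q) (hbQ : im P b = Q) :
    ∃ m ∈ M, ∀ x ∈ P, f x = afun m (b x) := by
  obtain ⟨u, huU, huP⟩ := SetLike.exists_of_lt hPU
  have hfP := hf.restrict_to hPU.le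
  have hbP := hb.restrict_to hPU.le
  obtain ⟨bi, hbi, hbib, -, hbiP⟩ := hbP.exists_inv
  rw [hbQ] at hbi hbiP
  have hθm : Mor F Q (f ∘ bi) := hbi.comp hfP hbiP
  obtain ⟨θ, hθ, hθe⟩ := hθm.exists_aut (hθm.im_self fun x hx => hfQ ▸ apply_mem_im (hbiP x hx))
  have hθb : ∀ x ∈ P, afun θ (b x) = f x := fun x hx => by
    rw [hθe _ (hbQ ▸ apply_mem_im hx)]; exact congrArg f (hbib x hx)
  refine ⟨θ, ?_, fun x hx => (hθb x hx).symm⟩
  have hn : ∀ {g : Ω → Ω} (hg : Mor F U g), im P g = Q → g u ∈ Subgroup.normalizer (Q : Set Ω) := by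
    intro g hg hgQ
    refine mem_normalizer_of_cj_le hQS fun y hy => ?_
    obtain ⟨x, hx, rfl⟩ := (hg.restrict_to hPU.le).mem_im.mp (hgQ.symm ▸ hy)
    rw [← hg.map_cj huU (hPU.le hx)]
    exact hgQ ▸ apply_mem_im (cj_mem_of_normalizer (hUn huU) hx)
  let a : MulAut Q := nHom S Q ⟨b u, hb.apply_mem huU, hn hb hbQ⟩
  have ha : a ∈ autInducedBy S Q := autInducedBy_eq_range S Q ▸ ⟨_, rfl⟩
  refine hM θ hθ a ha ?_ ?_
  · rintro ⟨q, hq⟩
    -- then `b u` lies in `Q`
    apply huP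
    have h1 : (q : Ω)⁻¹ * b u ∈ centralizerIn S Q := by
      refine mem_centralizerIn.mpr ⟨S.mul_mem (S.inv_mem (hQS q.2)) (hb.apply_mem huU),
        fun x hx => ?_⟩
      have h := congrArg (fun α => afun α x) hq
      simp only [a, afun_nHom _ hx] at h
      rw [afun_apply _ hx] at h
      rw [← cj_cj, ← h]
      show cj (q : Ω)⁻¹ (cj (q : Ω) x) = x
      rw [cj_inv_cj]
    have h2 : b u ∈ Q := by simpa using Q.mul_mem q.2 (hc h1)
    obtain ⟨x, hx, e⟩ := hbP.mem_im.mp (hbQ.symm ▸ h2)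
    exact hb.injOn (hPU.le hx) huU e ▸ hx
  · refine mem_autInducedBy.mpr ⟨f u, hf.apply_mem huU, hn hf hfQ, fun y hy => ?_⟩
    obtain ⟨x, hx, rfl⟩ := hfP.mem_im.mp (hfQ.symm ▸ hy)
    have hbx : b x ∈ Q := hbQ ▸ apply_mem_im hx
    have hcx : cj u x ∈ P := cj_mem_of_normalizer (hUn huU) hx
    have hinv : afun θ⁻¹ (f x) = b x := by rw [← hθb x hx, afun_inv_apply θ hbx]
    rw [afun_mul _ _ hy, hinv, afun_mul _ _ hbx, afun_nHom _ hbx]
    show afun θ (cj (b u) (b x)) = _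
    rw [← hb.map_cj huU (hPU.le hx), hθb _ hcx, hf.map_cj huU (hPU.le hx)]

/-- Let F be a saturated fusion system over a finite p-group S and Q an essential subgroup. Then the F-conjugacy class of Q cannot be left out of a generating family: there is a fusion system E over S whose automorphism group of every subgroup R ≤ S not F-conjugate to Q contains Aut_F(R), and yet E does not contain every map of F. -/
theorem result {Ω : Type*} [Group Ω] {S : Subgroup Ω} [Finite S] (p : ℕ) [Fact p.Prime] (hS : IsPGroup p S) (F : Cfsg.FusionSystem S) (hF : F.IsSaturated p) (Q : Subgroup Ω) (hQ : F.IsEssential p Q) : ∃ E : Cfsg.FusionSystem S, (∀ R : Subgroup Ω, R ≤ S → ¬ F.IsConj Q R → F.autGroup R ≤ E.autGroup R) ∧ ¬ F ≤ E := by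
  classical
  have hQS : Q ≤ S := hQ.1.1
  have hfn : F.IsFullyNormalized Q := hQ.2.1
  obtain ⟨hne, M, hMle, hMne, hM⟩ := exists_M hS hF hQ
  have hc : centralizerIn S Q ≤ Q := hQ.1.2 Q (isConj_refl hQS)
  -- chosen maps onto `Q`
  have hβ : ∀ P : Subgroup Ω, ∃ b : Ω → Ω,
      F.IsConj P Q → Mor F (normalizerIn S P) b ∧ im P b = Q := by
    intro P
    by_cases h : F.IsConj P Q
    · obtain ⟨b, hb, -, hbQ⟩ := exists_map_to_fullyNormalized hS hF hfn h
      exact ⟨b, fun _ => ⟨hb, hbQ⟩⟩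
    · exact ⟨id, fun h' => absurd h' h⟩
  choose β hβ using hβ
  -- a subgroup of `S` properly containing a conjugate of `Q` meets its normalizer properly
  have hgrow : ∀ {P R : Subgroup Ω}, P < R → R ≤ S → P < normalizerIn R P := by
    intro P R hPR hRS
    haveI := finite_of_le hRS
    haveI := (hS.to_le hRS).isNilpotent
    have hlt : P.subgroupOf R < ⊤ :=
      lt_top_iff_ne_top.2 fun e => hPR.not_ge (Subgroup.subgroupOf_eq_top.1 e)
    obtain ⟨r, hrn, hrP⟩ := SetLike.exists_of_lt (normalizerCondition_of_isNilpotent _ hlt)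
    refine lt_of_le_of_ne (le_inf hPR.le Subgroup.le_normalizer) fun e => hrP ?_
    show (r : Ω) ∈ P
    rw [e]
    exact ⟨r.2, mem_normalizer_of_cj_le (hPR.le.trans hRS) fun x hx =>
      (Subgroup.mem_normalizer_iff.1 hrn ⟨x, hPR.le hx⟩).1 hx⟩
  -- maps defined on a subgroup properly containing `P` are allowed
  have hbig : ∀ {P R : Subgroup Ω} {f : Ω → Ω}, Mor F R f → P < R → F.IsConj P Q →
      ∃ m ∈ M, ∀ x ∈ P, β (im P f) (f x) = afun m (β P x) := by
    intro P R f hf hPR hP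
    have hfP := hf.restrict_to hPR.le
    have hP' : F.IsConj (im P f) Q := isConj_trans (isConj_symm (isConj_iff.2 ⟨f, hfP, rfl⟩)) hP
    obtain ⟨hb, hbQ⟩ := hβ P hP
    obtain ⟨hb', hbQ'⟩ := hβ _ hP'
    have hUR : normalizerIn R P ≤ R := inf_le_left
    have hU : Mor F (normalizerIn R P) (β (im P f) ∘ f) := by
      refine (hf.restrict_to hUR).comp hb' fun x hx => ⟨hf.apply_mem hx.1, ?_⟩
      refine mem_normalizer_of_cj_le hfP.im_le fun y hy => ?_
      obtain ⟨z, hz, rfl⟩ := hfP.mem_im.mp hy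
      rw [← hf.map_cj hx.1 (hPR.le hz)]
      exact apply_mem_im (cj_mem_of_normalizer hx.2 hz)
    exact key (p := p) hQS hc hM (hgrow hPR hf.le) inf_le_right hU
      (hb.restrict_to (le_inf (hUR.trans hf.le) inf_le_right))
      (by show im P (β (im P f) ∘ f) = Q; rw [← hfP.im_comp, hbQ']) hbQ
  let good : (R : Subgroup Ω) → (Ω → Ω) → Prop := fun R f =>
    ∀ P : Subgroup Ω, P ≤ R → F.IsConj P Q → ∃ m ∈ M, ∀ x ∈ P, β (im P f) (f x) = afun m (β P x)
  let E : Cfsg.FusionSystem S :=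
    { Hom := fun R => {φ | φ ∈ F.Hom R ∧ good R (toFun φ)}
      le_of_mem := fun h => F.le_of_mem h.1
      injective_of_mem := fun h => F.injective_of_mem h.1
      conj_mem := by
        intro R g hR hg
        refine ⟨F.conj_mem hR hg, fun P hPR hP => ?_⟩
        have hPS : P < S := lt_of_le_of_ne (hPR.trans hR) fun e => hne (by
          subst e; exact isConj_self_eq hP)
        obtain ⟨m, hm, he⟩ := hbig (mor_cj le_rfl hg) hPS hP
        have e : ∀ x ∈ P, toFun (Cfsg.conjHom R g) x = cj g x := fun x hx => toFun_apply _ (hPR hx)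
        exact ⟨m, hm, fun x hx => by rw [im_congr e, e x hx, he x hx]⟩
      comp_mem := by
        intro R R' φ ψ hφ hψ h
        refine ⟨F.comp_mem hφ.1 hψ.1 h, fun P hPR hP => ?_⟩
        have hmor := (mor_toFun hφ.1).restrict_to hPR
        have hPR' : im P (toFun φ) ≤ R' := im_le_iff.2 fun x hx => by
          rw [toFun_apply φ (hPR hx)]; exact h _
        have hP' : F.IsConj (im P (toFun φ)) Q :=
          isConj_trans (isConj_symm (isConj_iff.2 ⟨_, hmor, rfl⟩)) hP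
        obtain ⟨m₁, hm₁, he₁⟩ := hφ.2 P hPR hP
        obtain ⟨m₂, hm₂, he₂⟩ := hψ.2 _ hPR' hP'
        have e : ∀ x ∈ P, toFun (ψ.comp (φ.codRestrict R' h)) x = (toFun ψ ∘ toFun φ) x := by
          intro x hx
          rw [toFun_apply _ (hPR hx), Function.comp_apply, toFun_apply φ (hPR hx),
            toFun_apply ψ (h _)]
          rfl
        refine ⟨m₂ * m₁, M.mul_mem hm₂ hm₁, fun x hx => ?_⟩
        rw [im_congr e, ← hmor.im_comp, e x hx, Function.comp_apply, he₂ _ (apply_mem_im hx),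
          he₁ x hx, afun_mul]
        exact (hβ P hP).2 ▸ apply_mem_im hx
      inv_mem := by
        intro R φ hφ
        obtain ⟨ψ, hψ, hi⟩ := F.inv_mem hφ.1
        refine ⟨ψ, ⟨hψ, fun P hPR hP => ?_⟩, hi⟩
        have hψm := (mor_toFun hψ).restrict_to hPR
        have hle : im P (toFun ψ) ≤ R := im_le_iff.2 fun y hy => by
          obtain ⟨x, rfl⟩ := hPR hy
          rw [toFun_apply ψ ⟨x, rfl⟩, hi x]; exact x.2
        have hP' : F.IsConj (im P (toFun ψ)) Q :=
          isConj_trans (isConj_symm (isConj_iff.2 ⟨_, hψm, rfl⟩)) hP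
        have hback : ∀ y ∈ P, (toFun φ ∘ toFun ψ) y = y := by
          intro y hy
          obtain ⟨x, rfl⟩ := hPR hy
          rw [Function.comp_apply, toFun_apply ψ ⟨x, rfl⟩, hi x, toFun_coe]
        obtain ⟨m, hm, he⟩ := hφ.2 _ hle hP'
        refine ⟨m⁻¹, M.inv_mem hm, fun y hy => ?_⟩
        have h := he _ (apply_mem_im hy)
        rw [hψm.im_comp, im_congr hback, im_id, show toFun φ (toFun ψ y) = y from hback y hy] at h
        rw [h, afun_inv_apply]
        exact (hβ _ hP').2 ▸ apply_mem_im (apply_mem_im hy) }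
  refine ⟨E, fun R hRS hRQ α hα => ?_, fun hFE => hMne (le_antisymm hMle fun θ hθ => ?_)⟩
  · have hm := (mem_autGroup hRS).1 hα
    refine Subgroup.subset_closure ⟨mor_afun_iff.1 hm, fun P hPR hP => ?_⟩
    exact hbig hm (lt_of_le_of_ne hPR fun e => hRQ (isConj_symm (e ▸ hP))) hP
  · obtain ⟨hb, hbQ⟩ := hβ Q (isConj_refl hQS)
    -- the chosen map of `Q` to itself lies in `M`
    obtain ⟨m₀, hm₀, he₀⟩ := key (p := p) hQS hc hM (hgrow (lt_of_le_of_ne hQS hne) le_rfl)
      inf_le_right hb (mor_id (F := F) inf_le_left) hbQ (im_id Q)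
    obtain ⟨-, hg⟩ := hFE Q ((mem_autGroup hQS).1 hθ |> mor_afun_iff.1)
    obtain ⟨m, hm, he⟩ := hg Q le_rfl (isConj_refl hQS)
    have hθm : θ = m₀⁻¹ * m * m₀ := by
      refine afun_ext fun x hx => ?_
      have h := he x hx
      change β (im Q (afun θ)) (afun θ x) = afun m (β Q x) at h
      rw [im_afun, he₀ x hx, he₀ _ (afun_mem θ hx)] at h
      rw [afun_mul _ _ hx, afun_mul _ _ (afun_mem m₀ hx), ← h, afun_inv_apply m₀ (afun_mem θ hx)]
    exact hθm ▸ M.mul_mem (M.mul_mem (M.inv_mem hm₀) hm) hm₀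

end Cfsg.Agent.S5326
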