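import Cfsg.Statements.S2475
import Cfsg.Agent.Lib.PSL2Proj52

set_option autoImplicit false
open Cfsg

namespace Cfsg.Agent.S2475

/-- The set of element orders of PSL(2,q): let F be a finite field of characteristic p with q ≥ 4 elements and d = gcd(2, q − 1). The orders of elements of PSL(2,F) are exactly the divisors of p, of (q − 1)/d and of (q + 1)/d. -/
theorem result {F : Type*} [Field F] [Fintype F] (p : ℕ) [Fact p.Prime] [CharP F p] (h4 : 4 ≤ Fintype.card F) :
    Set.range (orderOf : Matrix.ProjectiveSpecialLinearGroup (Fin 2) F → ℕ) =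
      {m : ℕ | m ∣ p ∨ m ∣ (Fintype.card F - 1) / Nat.gcd 2 (Fintype.card F - 1) ∨ m ∣ (Fintype.card F + 1) / Nat.gcd 2 (Fintype.card F - 1)} := by
  have hp' : p.Prime := Fact.out
  rw [← Nat.card_eq_fintype_card]
  ext m
  constructor
  · rintro ⟨g, rfl⟩
    rcases PSL2Proj52.pow_cases p g with h | h | h
    · exact Or.inl (orderOf_dvd_of_pow_eq_one h)
    · exact Or.inr (Or.inl (orderOf_dvd_of_pow_eq_one h))
    · exact Or.inr (Or.inr (orderOf_dvd_of_pow_eq_one h))
  · have real : ∀ (y : Matrix.ProjectiveSpecialLinearGroup (Fin 2) F) (k : ℕ),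
        k ∣ orderOf y → k ∈ Set.range (orderOf : Matrix.ProjectiveSpecialLinearGroup (Fin 2) F → ℕ) :=
      fun y k hk => ⟨y ^ (orderOf y / k), orderOf_pow_orderOf_div (orderOf_pos y).ne' hk⟩
    rintro (h | h | h)
    · refine real (PSL2Proj52.π (PSL2Elements.u 1)) m ?_
      have : orderOf (PSL2Proj52.π (PSL2Elements.u (1 : F))) = p := by
        refine orderOf_eq_prime ?_ ?_
        · rw [← map_pow, PSL2Elements.pow_char p (PSL2Elements.tr_u 1), map_one]
        · rw [Ne, PSL2Proj52.π_eq_one]
          rintro (e | e) <;>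
            have := congrArg (fun C : Matrix.SpecialLinearGroup (Fin 2) F => C.1 0 1) e <;>
            simp [PSL2Elements.u] at this
      rwa [this]
    · obtain ⟨a, ha⟩ := PSL2Proj52.exists_orderOf_card_sub_one (F := F)
      exact real (PSL2Proj52.π (PSL2Elements.d a)) m
        (by rwa [PSL2Proj52.orderOf_π PSL2Proj52.gcd_dvd.1 ha])
    · obtain ⟨A, hA⟩ := PSL2Proj52.exists_orderOf_card_add_one (F := F)
      exact real (PSL2Proj52.π A) m (by rwa [PSL2Proj52.orderOf_π PSL2Proj52.gcd_dvd.2 hA])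

end Cfsg.Agent.S2475
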