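import Cfsg.Statements.S2518
import Cfsg.Agent.Lib.G2ThreeCert50
import Cfsg.Agent.S1055
import Cfsg.Agent.S1059
import Cfsg.Agent.S2475

set_option autoImplicit false
open Cfsg

namespace Cfsg.Agent.S2518

open Matrix Cfsg.Lie Cfsg.Agent.G2ThreeCert50
open scoped Pointwise

theorem xMat_map {K F : Type*} [Field K] [Field F] (f : K →+* F) (D : ChevalleyDatum)
    (r : Fin D.nroots) (t : K) : (D.xMat K r t).map f = D.xMat F r (f t) := by
  ext a b
  rcases b with i | s <;> rcases a with i' | u <;>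
    simp only [ChevalleyDatum.xMat, Matrix.map_apply, Matrix.of_apply] <;> split_ifs <;>
    simp [map_list_sum, List.map_map, Function.comp_def]

theorem exists_theta {F : Type*} [Field F] [Fintype F] (e : ZMod 3 ≃+* F) :
    ∃ θ : ↥(chevG2.group F) →* M7,
      Function.Injective θ ∧ (∀ g, Pres (θ g)) ∧
      ∀ l : List (Fin 12 × ZMod 3), ∃ g, θ g = (l.map fun k => small (gen k.1 k.2)).prod := by
  classical
  let pull : GL chevG2.Idx F → M14 := fun g => (g : Matrix chevG2.Idx chevG2.Idx F).map e.symm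
  have pull_mul : ∀ a b : GL chevG2.Idx F, pull (a * b) = pull a * pull b := fun a b => by
    simp only [pull, Units.val_mul, Matrix.map_mul]
  have pull_one : pull 1 = 1 := by simp [pull]
  let P : GL chevG2.Idx F → Prop := fun g => Inv (pull g) ∧ Pres (small (pull g))
  have hmul : ∀ a b, P a → P b → P (a * b) := fun a b ha hb => by
    simp only [P, pull_mul, small_mul hb.1]
    exact ⟨ha.1.mul hb.1, ha.2.mul hb.2⟩
  have hone : P 1 := by simp only [P, pull_one, small_one]; exact ⟨inv_one, pres_one⟩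
  have hpow : ∀ a, P a → ∀ k : ℕ, P (a ^ k) := fun a ha k => by
    induction k with
    | zero => simpa using hone
    | succ k ih => rw [pow_succ]; exact hmul _ _ ih ha
  have hall : ∀ g ∈ chevG2.group F, P g := by
    intro g hg
    induction hg using Subgroup.closure_induction with
    | mem g hg =>
      obtain ⟨r, t, hrt⟩ := hg
      have h1 : pull g = gen r (e.symm t) := by
        simp only [pull, hrt]
        exact xMat_map (e.symm : F →+* ZMod 3) chevG2 r t
      exact ⟨h1 ▸ gen_inv r _, h1 ▸ gen_pres r _⟩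
    | one => exact hone
    | mul a b _ _ ha hb => exact hmul a b ha hb
    | inv a _ ha =>
      have h1 : a⁻¹ = a ^ (orderOf a - 1) := by
        rw [inv_eq_iff_mul_eq_one, ← pow_succ', Nat.sub_add_cancel (orderOf_pos a),
          pow_orderOf_eq_one]
      rw [h1]
      exact hpow a ha _
  let θ : ↥(chevG2.group F) →* M7 :=
    { toFun := fun g => small (pull g)
      map_one' := by rw [OneMemClass.coe_one, pull_one, small_one]
      map_mul' := fun a b => by rw [Subgroup.coe_mul, pull_mul, small_mul (hall b b.2).1] }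
  let xg : Fin 12 → ZMod 3 → GL chevG2.Idx F := fun r t =>
    ⟨(gen r t).map e, (gen r (-t)).map e,
      by rw [← Matrix.map_mul, gen_neg]; simp,
      by
        have h := gen_neg r (-t)
        rw [neg_neg] at h
        rw [← Matrix.map_mul, h]; simp⟩
  have xg_mem : ∀ r t, xg r t ∈ chevG2.group F := fun r t =>
    Subgroup.subset_closure ⟨r, e t, xMat_map (e : ZMod 3 →+* F) chevG2 r t⟩
  have xg_theta : ∀ r t, θ ⟨xg r t, xg_mem r t⟩ = small (gen r t) := fun r t => by
    change small (((gen r t).map e).map e.symm) = _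
    congr 1
    ext i j
    simp
  have hword : ∀ l : List (Fin 12 × ZMod 3),
      ∃ g, θ g = (l.map fun k => small (gen k.1 k.2)).prod := by
    intro l
    refine ⟨(l.map fun k => (⟨xg k.1 k.2, xg_mem k.1 k.2⟩ : ↥(chevG2.group F))).prod, ?_⟩
    rw [map_list_prod, List.map_map]
    simp only [Function.comp_def, xg_theta]
  refine ⟨θ, ?_, fun g => (hall g g.2).2, hword⟩
  have hsimple : IsSimpleGroup ↥(chevG2.group F) :=
    (S1055.result ⟨e 2, by rw [ne_eq, map_eq_zero_iff _ e.injective]; decide, by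
      rw [ne_eq, ← map_one e, e.injective.eq_iff]; decide⟩).1
  rw [← MonoidHom.ker_eq_bot_iff]
  rcases θ.normal_ker.eq_bot_or_eq_top with h | h
  · exact h
  · obtain ⟨g, hg⟩ := hword word7
    rw [words.2.1, MonoidHom.mem_ker.1 (h ▸ Subgroup.mem_top g : g ∈ θ.ker)] at hg
    exact absurd hg.symm orders.2.2.2.2.1

/-- No element of order `o * s` when the certified element of order `o` has centraliser `⟨X⟩`. -/
theorem no_order {G : Type*} [Group G] [Finite G] (θ : G →* M7) (hθ : Function.Injective θ)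
    (hpres : ∀ g, Pres (θ g)) {o : ℕ} (ho : o.Prime) (hsq : ¬ o ^ 2 ∣ Nat.card G) {D : Data}
    (hD : D.Valid o) (x : G) (hx : θ x = D.X) (hX : D.X ^ o = 1) (hX1 : D.X ≠ 1)
    {s : ℕ} (hs : s.Prime) (hne : s ≠ o) (z : G) : orderOf z ≠ o * s := by
  intro hz
  have : Fact o.Prime := ⟨ho⟩
  have hxo : orderOf x = o := orderOf_eq_prime (hθ (by rw [map_pow, hx, hX, map_one]))
    (fun h => hX1 (by rw [← hx, h, map_one]))
  have hfac : (Nat.card G).factorization o = 1 := by
    have h1 : 0 < (Nat.card G).factorization o :=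
      ho.factorization_pos_of_dvd Nat.card_pos.ne' (hxo ▸ orderOf_dvd_natCard x)
    have h2 : ¬ 2 ≤ (Nat.card G).factorization o := fun h =>
      hsq ((ho.pow_dvd_iff_le_factorization Nat.card_pos.ne').2 h)
    omega
  have hsyl : ∀ y : G, orderOf y = o → ∃ P : Sylow o G, (P : Subgroup G) = Subgroup.zpowers y :=
    fun y hy => ⟨Sylow.ofCard (Subgroup.zpowers y) (by rw [Nat.card_zpowers, hy, hfac, pow_one]),
      Sylow.coe_ofCard _ _⟩
  have hzs : orderOf (z ^ s) = o := by
    rw [orderOf_pow' z hs.ne_zero, hz, Nat.gcd_mul_left_left,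
      Nat.mul_div_cancel _ hs.pos]
  obtain ⟨P, hP⟩ := hsyl _ hzs
  obtain ⟨Q, hQ⟩ := hsyl _ hxo
  obtain ⟨g, hg⟩ := MulAction.exists_smul_eq G P Q
  have hx' : x ∈ Subgroup.zpowers (g * z ^ s * g⁻¹) := by
    have h1 : (MulAut.conj g • (P : Subgroup G)) = Subgroup.zpowers x := by
      rw [← Sylow.coe_subgroup_smul]
      exact (congrArg (fun S : Sylow o G => (S : Subgroup G)) hg).trans hQ
    rw [hP] at h1
    have h2 : x ∈ MulAut.conj g • Subgroup.zpowers (z ^ s) := h1 ▸ Subgroup.mem_zpowers x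
    obtain ⟨y, hy, rfl⟩ := Subgroup.mem_map.1 h2
    obtain ⟨k, rfl⟩ := Subgroup.mem_zpowers_iff.1 hy
    exact Subgroup.mem_zpowers_iff.2 ⟨k, by simp⟩
  set w := g * z ^ o * g⁻¹ with hw
  have hws : orderOf w = s := by
    rw [hw, show g * z ^ o * g⁻¹ = MulAut.conj g (z ^ o) from rfl,
      MulEquiv.orderOf_eq,
      orderOf_pow' z ho.ne_zero, hz, Nat.gcd_mul_right_left, Nat.mul_div_cancel_left _ ho.pos]
  have hcomm : Commute w x := by
    obtain ⟨k, rfl⟩ := Subgroup.mem_zpowers_iff.1 hx'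
    refine Commute.zpow_right ?_ k
    change g * z ^ o * g⁻¹ * (g * z ^ s * g⁻¹) = g * z ^ s * g⁻¹ * (g * z ^ o * g⁻¹)
    simp only [mul_assoc, inv_mul_cancel_left]
    rw [← mul_assoc (z ^ o), ← mul_assoc (z ^ s), ← pow_add, ← pow_add, add_comm]
  have hc : θ w * D.X = D.X * θ w := by rw [← hx, ← map_mul, hcomm.eq, map_mul]
  have hw0 : θ w ^ s = 1 := by rw [← map_pow, ← hws, pow_orderOf_eq_one, map_one]
  rcases hD.centralizer (hpres w) hc with h0 | ⟨k, hk⟩
  · rw [h0, zero_pow hs.ne_zero] at hw0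
    exact zero_ne_one hw0
  · rw [hk, ← hx, ← map_pow, ← map_pow, ← map_one θ, hθ.eq_iff, ← pow_mul,
      ← orderOf_dvd_iff_pow_eq_one, hxo, ho.dvd_mul] at hw0
    rcases hw0 with hdk | hdo
    · have : w = 1 := hθ (by rw [hk, map_one]; obtain ⟨c, rfl⟩ := hdk; rw [pow_mul, hX, one_pow])
      rw [this, orderOf_one] at hws
      exact hs.ne_one hws.symm
    · exact hne ((Nat.prime_dvd_prime_iff_eq ho hs).1 hdo).symm

theorem primes_of_dvd {r n : ℕ} (hn : n = 4245696 ∨ n = 1092) (hr : r.Prime) (h : r ∣ n) :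
    r = 2 ∨ r = 3 ∨ r = 7 ∨ r = 13 := by
  have h' : r ∣ 2 ^ 6 * 3 ^ 6 * 7 * 13 := h.trans (by rcases hn with rfl | rfl <;> decide +kernel)
  rcases (Nat.Prime.dvd_mul hr).1 h' with h' | h'
  rcases (Nat.Prime.dvd_mul hr).1 h' with h' | h'
  rcases (Nat.Prime.dvd_mul hr).1 h' with h' | h'
  · exact Or.inl ((Nat.prime_dvd_prime_iff_eq hr Nat.prime_two).1 (hr.dvd_of_dvd_pow h'))
  · exact Or.inr (Or.inl ((Nat.prime_dvd_prime_iff_eq hr Nat.prime_three).1 (hr.dvd_of_dvd_pow h')))
  · exact Or.inr (Or.inr (Or.inl ((Nat.prime_dvd_prime_iff_eq hr (by norm_num)).1 h')))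
  · exact Or.inr (Or.inr (Or.inr ((Nat.prime_dvd_prime_iff_eq hr (by norm_num)).1 h')))

/-- Let F₃ be the field with 3 elements and F₁₃ the field with 13 elements. The Chevalley group G₂(F₃) and PSL(2, F₁₃) have the same prime graph: the same prime divisors of their orders, and for distinct primes r, s an element of order rs in one iff in the other. -/
theorem result {F : Type*} [Field F] [Fintype F] (hF : Fintype.card F = 3) {E : Type*} [Field E] [Fintype E] (hE : Fintype.card E = 13) :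
    ((∀ r : ℕ, r.Prime → (r ∣ Nat.card ↥(Cfsg.Lie.chevG2.group F) ↔ r ∣ Nat.card (Matrix.ProjectiveSpecialLinearGroup (Fin 2) E))) ∧
      (∀ r s : ℕ, r.Prime → s.Prime → r ≠ s → ((∃ x : ↥(Cfsg.Lie.chevG2.group F), orderOf x = r * s) ↔ (∃ y : (Matrix.ProjectiveSpecialLinearGroup (Fin 2) E), orderOf y = r * s)))) := by
  classical
  have : Fact (Nat.Prime 13) := ⟨by norm_num⟩
  have : CharP E 13 := charP_of_card_eq_prime hE
  have hcG : Nat.card ↥(chevG2.group F) = 4245696 := by rw [S1059.result hF]; norm_num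
  have hcL : Nat.card (Matrix.ProjectiveSpecialLinearGroup (Fin 2) E) = 1092 := by
    have hN : Nat.card E = 13 := by rw [Nat.card_eq_fintype_card, hE]
    rw [Cfsg.Agent.PSLCard.card_PSL2_odd (by rw [hN]; decide), hN]
    norm_num
  obtain ⟨θ, hθ, hpres, hword⟩ := exists_theta (ZMod.ringEquivOfPrime F Nat.prime_three hF)
  obtain ⟨g6, hg6⟩ := hword word6
  obtain ⟨g7, hg7⟩ := hword word7
  obtain ⟨g13, hg13⟩ := hword word13
  rw [words.1] at hg6
  rw [words.2.1] at hg7
  rw [words.2.2] at hg13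
  obtain ⟨o61, o62, o63, o7, o7', o13, o13'⟩ := orders
  have h6G : orderOf g6 = 6 := by
    rw [← orderOf_injective θ hθ, hg6, orderOf_eq_iff (by norm_num)]
    refine ⟨o61, fun m hm hm0 h => ?_⟩
    have h2 : X6 ^ Nat.gcd m 6 = 1 := pow_gcd_eq_one.2 ⟨h, o61⟩
    interval_cases m <;> norm_num at h2
    all_goals first
      | exact o62 h2
      | exact o63 h2
      | (apply o62; rw [h2]; simp)
  have hL := S2475.result (F := E) 13 (by omega)
  rw [hE] at hL
  refine ⟨fun r hr => ?_, fun r s hr hs hrs => ?_⟩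
  · rw [hcG, hcL]
    constructor <;> intro h
    · rcases primes_of_dvd (Or.inl rfl) hr h with rfl | rfl | rfl | rfl <;> norm_num
    · rcases primes_of_dvd (Or.inr rfl) hr h with rfl | rfl | rfl | rfl <;> norm_num
  constructor
  · rintro ⟨x, hx⟩
    have hr' := primes_of_dvd (Or.inl rfl) hr
      (hcG ▸ (Dvd.intro s rfl).trans (hx ▸ orderOf_dvd_natCard x))
    have hs' := primes_of_dvd (Or.inl rfl) hs
      (hcG ▸ (Dvd.intro_left r rfl).trans (hx ▸ orderOf_dvd_natCard x))
    have h7 : r ≠ 7 := fun h => no_order θ hθ hpres (by norm_num) (by rw [hcG]; norm_num) valid7 g7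
      hg7 o7 o7' hs (h ▸ hrs.symm) x (by rw [hx, h])
    have h7' : s ≠ 7 := fun h => no_order θ hθ hpres (by norm_num) (by rw [hcG]; norm_num) valid7 g7
      hg7 o7 o7' hr (h ▸ hrs) x (by rw [hx, h, mul_comm])
    have h13 : r ≠ 13 := fun h => no_order θ hθ hpres (by norm_num) (by rw [hcG]; norm_num) valid13
      g13 hg13 o13 o13' hs (h ▸ hrs.symm) x (by rw [hx, h])
    have h13' : s ≠ 13 := fun h => no_order θ hθ hpres (by norm_num) (by rw [hcG]; norm_num) valid13
      g13 hg13 o13 o13' hr (h ▸ hrs) x (by rw [hx, h, mul_comm])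
    have hrs6 : r * s = 6 := by
      rcases hr' with rfl | rfl | rfl | rfl <;> rcases hs' with rfl | rfl | rfl | rfl <;> simp_all
    have : r * s ∈ Set.range (orderOf : Matrix.ProjectiveSpecialLinearGroup (Fin 2) E → ℕ) := by
      rw [hL, hrs6]
      exact Or.inr (Or.inl (by norm_num))
    exact this
  · rintro ⟨y, hy⟩
    have hr' := primes_of_dvd (Or.inr rfl) hr
      (hcL ▸ (Dvd.intro s rfl).trans (hy ▸ orderOf_dvd_natCard y))
    have hs' := primes_of_dvd (Or.inr rfl) hs
      (hcL ▸ (Dvd.intro_left r rfl).trans (hy ▸ orderOf_dvd_natCard y))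
    have hm : r * s ∈ Set.range (orderOf : Matrix.ProjectiveSpecialLinearGroup (Fin 2) E → ℕ) :=
      ⟨y, hy⟩
    rw [hL] at hm
    refine ⟨g6, h6G.trans ?_⟩
    rcases hr' with rfl | rfl | rfl | rfl <;> rcases hs' with rfl | rfl | rfl | rfl <;>
      first
      | rfl
      | exact absurd rfl hrs
      | (exfalso; norm_num at hm)

end Cfsg.Agent.S2518
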