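import Cfsg.Statements.S3662
import Cfsg.Agent.Lib.G2FourModule
import Cfsg.Agent.S1059

set_option autoImplicit false
open Cfsg

namespace Cfsg.Agent.S3662

open Cfsg.Agent.FieldFour15 Cfsg.Agent.G2FourModule
open Cfsg.Lie
open scoped Matrix

/-- A Gram matrix with zero diagonal of size three is degenerate in characteristic two. -/
theorem exists_radical (B : Fin 3 → Fin 3 → K4) (hd : ∀ i, B i i = 0) (hs : ∀ i j, B i j = B j i) :
    ∃ c : Fin 3 → K4, c ≠ 0 ∧ ∀ j, ∑ i, c i * B i j = 0 := by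
  by_cases h : B 1 2 = 0 ∧ B 0 2 = 0 ∧ B 0 1 = 0
  · obtain ⟨h12, h02, h01⟩ := h
    refine ⟨fun _ => 1, fun e => one_ne_zero (congrFun e 0), fun j => ?_⟩
    fin_cases j <;> simp [Fin.sum_univ_three, hd, hs 1 0, hs 2 0, hs 2 1, h12, h02, h01]
  · refine ⟨![B 1 2, B 0 2, B 0 1], fun e => h ⟨congrFun e 0, congrFun e 1, congrFun e 2⟩, fun j => ?_⟩
    fin_cases j <;> simp [Fin.sum_univ_three, hd, hs 1 0, hs 2 0, hs 2 1] <;> ring_nf <;>
      simp [CharTwo.two_eq_zero]

theorem J_symm : Jᵀ = J := by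
  ext i j
  simp [J, add_comm]

theorem form_comm (x y : Fin 6 → K4) : x ⬝ᵥ J *ᵥ y = y ⬝ᵥ J *ᵥ x := by
  rw [Matrix.dotProduct_mulVec, ← Matrix.mulVec_transpose, J_symm, dotProduct_comm]

theorem form_self (x : Fin 6 → K4) : x ⬝ᵥ J *ᵥ x = 0 := by
  simp [dotProduct, Matrix.mulVec, Fin.sum_univ_six, J]
  ring_nf
  simp [CharTwo.two_eq_zero]

/-- Elements of order 7 or 13 of the symplectic group have no nonzero fixed vector. -/
theorem eq_one_of_fixed {g : M6} (hJ : gᵀ * J * g = J) {s : ℕ} (hs : s = 7 ∨ s = 13)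
    (hpow : g ^ s = 1) {v : Fin 6 → K4} (hv : g *ᵥ v = v) (hv0 : v ≠ 0) : g = 1 := by
  classical
  have hsodd : (s : K4) = 1 := by rcases hs with rfl | rfl <;> decide
  have : Fact s.Prime := ⟨by rcases hs with rfl | rfl <;> norm_num⟩
  have hfix : ∀ w : Fin 6 → K4, g *ᵥ w = w → ∀ i : ℕ, g ^ i *ᵥ w = w := by
    intro w hw i
    induction i with
    | zero => simp
    | succ i ih => rw [pow_succ, ← Matrix.mulVec_mulVec, hw, ih]
  set e : M6 := ∑ i ∈ Finset.range s, g ^ i with he
  have hge : g * e = e := by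
    have h2 : g * e + 1 = e + 1 := by
      calc g * e + 1 = (∑ i ∈ Finset.range s, g ^ (i + 1)) + g ^ 0 := by
            rw [he, Finset.mul_sum, pow_zero]
            simp only [← pow_succ']
        _ = ∑ i ∈ Finset.range (s + 1), g ^ i := (Finset.sum_range_succ' _ _).symm
        _ = e + 1 := by rw [Finset.sum_range_succ, hpow, he]
    exact add_right_cancel h2
  have hfixe : ∀ w : Fin 6 → K4, g *ᵥ w = w → e *ᵥ w = w := by
    intro w hw
    rw [he, Matrix.sum_mulVec, Finset.sum_congr rfl (fun i _ => hfix w hw i), Finset.sum_const,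
      Finset.card_range, ← Nat.cast_smul_eq_nsmul K4, hsodd, one_smul]
  have hee : ∀ w : Fin 6 → K4, e *ᵥ (e *ᵥ w) = e *ᵥ w := fun w =>
    hfixe _ (by rw [Matrix.mulVec_mulVec, hge])
  set W : Submodule K4 (Fin 6 → K4) := LinearMap.ker (Matrix.mulVecLin e) with hW
  have memW : ∀ w, w ∈ W ↔ e *ᵥ w = 0 := fun w => by simp [hW]
  -- invariance and the count of points
  have hgW : ∀ w ∈ W, g *ᵥ w ∈ W := by
    intro w hw
    rw [memW] at hw ⊢
    have heg : e * g = e := by
      rw [he, Finset.sum_mul]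
      conv_rhs => rw [← he, ← hge, he, Finset.mul_sum]
      exact Finset.sum_congr rfl fun i _ => by rw [← pow_succ, pow_succ']
    rw [Matrix.mulVec_mulVec, heg, hw]
  have hcard : Nat.card W ≡ 1 [MOD s] := by
    let f : Function.End W := fun w => ⟨g *ᵥ (w : Fin 6 → K4), hgW w w.2⟩
    have hfpow : ∀ (n : ℕ) (w : W), (((f ^ n) w : W) : Fin 6 → K4) = g ^ n *ᵥ (w : Fin 6 → K4) := by
      intro n
      induction n with
      | zero => intro w; simp [Function.End.one_def]
      | succ n ih =>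
        intro w
        rw [pow_succ, pow_succ, ← Matrix.mulVec_mulVec]
        exact ih (f w)
    have hf : f ^ s ^ 1 = 1 := funext fun w => Subtype.ext (by
      rw [pow_one, hfpow, hpow, Matrix.one_mulVec]; rfl)
    have h := Equiv.Perm.card_fixedPoints_modEq hf
    have h1 : Fintype.card f.fixedPoints = 1 := by
      rw [Fintype.card_eq_one_iff]
      refine ⟨⟨0, Subtype.ext (Matrix.mulVec_zero g)⟩, fun ⟨w, hw⟩ => Subtype.ext (Subtype.ext ?_)⟩
      have hw' : g *ᵥ (w : Fin 6 → K4) = w := congrArg Subtype.val hw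
      show (w : Fin 6 → K4) = 0
      rw [← hfixe _ hw', (memW _).1 w.2]
    rw [Nat.card_eq_fintype_card]
    rwa [h1] at h
  set d := Module.finrank K4 W with hd
  have hd6 : d < 6 := by
    have hne : W ≠ ⊤ := fun h => hv0 (by
      have h2 : e *ᵥ v = 0 := (memW v).1 (h ▸ Submodule.mem_top)
      rwa [hfixe v hv] at h2)
    have := Submodule.finrank_lt hne
    simpa [hd] using this
  have hcard' : 4 ^ d ≡ 1 [MOD s] := by
    rw [Module.natCard_eq_pow_finrank (K := K4)] at hcard
    rwa [Nat.card_eq_fintype_card, K4.card_eq] at hcard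
  have hd03 : d = 0 ∨ d = 3 := by
    rcases hs with rfl | rfl <;> interval_cases d <;> revert hcard' <;> decide
  rcases hd03 with h0 | h3
  · -- no moved part
    have hbot : W = ⊥ := Submodule.finrank_eq_zero.1 h0
    apply Matrix.toLin'.injective
    refine LinearMap.ext fun w => ?_
    have hw : e *ᵥ w - w ∈ W := by
      rw [memW, Matrix.mulVec_sub, hee, sub_self]
    rw [hbot, Submodule.mem_bot, sub_eq_zero] at hw
    rw [Matrix.toLin'_apply, Matrix.toLin'_apply, Matrix.one_mulVec]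
    conv_lhs => rw [← hw]
    rw [Matrix.mulVec_mulVec, hge, hw]
  · exfalso
    let b := Module.finBasisOfFinrankEq K4 W h3
    obtain ⟨c, hc0, hc⟩ := exists_radical
      (fun i j => (b i : Fin 6 → K4) ⬝ᵥ J *ᵥ (b j : Fin 6 → K4))
      (fun i => form_self _) (fun i j => form_comm _ _)
    set z : W := ∑ i, c i • b i with hz
    have hz0 : z ≠ 0 := fun h => hc0 (funext fun i => by
      have := Fintype.linearIndependent_iff.1 b.linearIndependent c (hz ▸ h) i
      exact this)
    have horthb : ∀ j, (z : Fin 6 → K4) ⬝ᵥ J *ᵥ (b j : Fin 6 → K4) = 0 := by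
      intro j
      rw [hz]
      simp only [Submodule.coe_sum, Submodule.coe_smul, sum_dotProduct, smul_dotProduct, smul_eq_mul]
      exact hc j
    have horthW : ∀ w : W, (z : Fin 6 → K4) ⬝ᵥ J *ᵥ (w : Fin 6 → K4) = 0 := by
      intro w
      rw [← b.sum_repr w]
      simp only [Submodule.coe_sum, Submodule.coe_smul, Matrix.mulVec_sum, Matrix.mulVec_smul,
        dotProduct_sum, dotProduct_smul, horthb, smul_zero, Finset.sum_const_zero]
    have hmove : ∀ x y : Fin 6 → K4, (g *ᵥ x) ⬝ᵥ J *ᵥ (g *ᵥ y) = x ⬝ᵥ J *ᵥ y := by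
      intro x y
      calc (g *ᵥ x) ⬝ᵥ J *ᵥ (g *ᵥ y) = x ⬝ᵥ gᵀ *ᵥ (J *ᵥ (g *ᵥ y)) := by
            rw [Matrix.dotProduct_mulVec x gᵀ, Matrix.vecMul_transpose]
        _ = x ⬝ᵥ J *ᵥ y := by
            rw [Matrix.mulVec_mulVec, Matrix.mulVec_mulVec, hJ]
    have horthfix : ∀ y : Fin 6 → K4, g *ᵥ y = y → (z : Fin 6 → K4) ⬝ᵥ J *ᵥ y = 0 := by
      intro y hy
      have hi : ∀ i : ℕ, (g ^ i *ᵥ (z : Fin 6 → K4)) ⬝ᵥ J *ᵥ y = (z : Fin 6 → K4) ⬝ᵥ J *ᵥ y := by
        intro i
        induction i with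
        | zero => simp
        | succ i ih =>
          conv_lhs => rw [pow_succ', ← Matrix.mulVec_mulVec, ← hy]
          rw [hmove, ih]
      have h := congrArg (fun u : Fin 6 → K4 => u ⬝ᵥ J *ᵥ y) ((memW _).1 z.2)
      simp only [he, Matrix.sum_mulVec, sum_dotProduct, zero_dotProduct] at h
      rw [Finset.sum_congr rfl (fun i _ => hi i), Finset.sum_const, Finset.card_range,
        ← Nat.cast_smul_eq_nsmul K4, hsodd, one_smul] at h
      exact h
    have hall : ∀ x : Fin 6 → K4, (z : Fin 6 → K4) ⬝ᵥ J *ᵥ x = 0 := by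
      intro x
      have hx : x - e *ᵥ x ∈ W := by rw [memW, Matrix.mulVec_sub, hee, sub_self]
      have h1 := horthW ⟨_, hx⟩
      have h2 := horthfix (e *ᵥ x) (by rw [Matrix.mulVec_mulVec, hge])
      rw [show x = (x - e *ᵥ x) + e *ᵥ x from (sub_add_cancel _ _).symm, Matrix.mulVec_add,
        dotProduct_add]
      rw [h2, add_zero]
      exact h1
    have hzero : (z : Fin 6 → K4) = 0 := by
      have hJ2 : ∀ (u : Fin 6 → K4) (i : Fin 6), u ⬝ᵥ J *ᵥ Pi.single i 1 = u ⟨5 - i.1, by omega⟩ := by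
        intro u i
        fin_cases i <;> simp [dotProduct, Matrix.mulVec, Fin.sum_univ_six, J]
      funext i
      have := hJ2 z ⟨5 - i.1, by omega⟩
      rw [hall] at this
      rw [Pi.zero_apply, this]
      refine congrArg _ (Fin.ext ?_)
      show i.1 = 5 - (5 - i.1)
      omega
    exact hz0 (Subtype.ext hzero)

/-- The order-three element. -/
def u3 : M6 := ![![.o, .l, .o, .o, .o, .o], ![.l, .l, .o, .o, .o, .o], ![.o, .o, .o, .l, .o, .o],
  ![.o, .o, .l, .l, .o, .o], ![.o, .o, .o, .o, .o, .l], ![.o, .o, .o, .o, .l, .l]]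

/-- The order-five element. -/
def u5 : M6 := ![![.b, .l, .o, .o, .o, .o], ![.a, .l, .o, .o, .o, .o], ![.o, .o, .a, .l, .o, .o],
  ![.o, .o, .b, .l, .o, .o], ![.o, .o, .o, .o, .b, .l], ![.o, .o, .o, .o, .a, .l]]

/-- The square of the order-five element. -/
def u5sq : M6 := ![![.o, .a, .o, .o, .o, .o], ![.b, .b, .o, .o, .o, .o], ![.o, .o, .o, .b, .o, .o],
  ![.o, .o, .a, .a, .o, .o], ![.o, .o, .o, .o, .o, .a], ![.o, .o, .o, .o, .b, .b]]

theorem fact1 : ∀ e ∈ ent6, mul6 (X 7 .l) (X 4 .l) e.1 e.2 = u3 e.1 e.2 := by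
  decide +kernel

theorem fact2 : ∀ e ∈ ent6, mul6 (mul6 u3 u3) u3 e.1 e.2 = (1 : M6) e.1 e.2 := by
  decide +kernel

theorem fact3 : ∀ e ∈ ent6, mul6 (X 7 .l) (X 4 .a) e.1 e.2 = u5 e.1 e.2 := by
  decide +kernel

theorem fact4 : ∀ e ∈ ent6, mul6 u5 u5 e.1 e.2 = u5sq e.1 e.2 := by
  decide +kernel

theorem fact5 : ∀ e ∈ ent6, mul6 (mul6 u5sq u5sq) u5 e.1 e.2 = (1 : M6) e.1 e.2 := by
  decide +kernel

theorem fact6 : ∀ e ∈ ent6, mul6 u3 (X 11 .l) e.1 e.2 =
    mul6 (X 11 .l) u3 e.1 e.2 := by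
  decide +kernel

theorem fact7 : ∀ e ∈ ent6, mul6 u5 (X 11 .l) e.1 e.2 =
    mul6 (X 11 .l) u5 e.1 e.2 := by
  decide +kernel

theorem fact_ne : u3 0 1 = .l ∧ u5 0 1 = .l ∧ X 11 .l 0 4 = .l := by
  decide +kernel

theorem exists_order (p : ℕ) (hp : p = 3 ∨ p = 5) : ∃ g : ↥M, orderOf g = 2 * p := by
  obtain ⟨n3, n5, n11⟩ := fact_ne
  have h1 := fact1
  have h2 := fact2
  have h3 := fact3
  have h4 := fact4
  have h5 := fact5
  have h6 := fact6
  have h7 := fact7
  simp only [mul6_eq] at h1 h2 h3 h4 h5 h6 h7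
  have hx : orderOf (gX 11 .l) = 2 := by
    haveI : Fact (Nat.Prime 2) := ⟨Nat.prime_two⟩
    refine orderOf_eq_prime ?_ (fun h => ?_)
    · rw [sq]; exact Units.ext (gX 11 .l).val_inv
    · have := congrArg (fun u : GL (Fin 6) K4 => (u : M6) 0 4) h
      simp [gX, n11] at this
  obtain ⟨u, hu, hp', hc⟩ : ∃ u : GL (Fin 6) K4, u ∈ M ∧ orderOf u = p ∧ Commute u (gX 11 .l) := by
    rcases hp with rfl | rfl
    · refine ⟨gX 7 .l * gX 4 .l, mul_mem (gX_mem _ _) (gX_mem _ _), ?_, ?_⟩
      · haveI : Fact (Nat.Prime 3) := ⟨Nat.prime_three⟩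
        have he : X 7 .l * X 4 .l = u3 := eq_of_ent6 h1
        refine orderOf_eq_prime (Units.ext ?_) (fun h => ?_)
        · show (X 7 .l * X 4 .l) ^ 3 = 1
          rw [he, pow_succ, sq]
          exact eq_of_ent6 h2
        · have h' : X 7 .l * X 4 .l = 1 := congrArg (fun u : GL (Fin 6) K4 => (u : M6)) h
          rw [he] at h'
          simp [h'] at n3
      · refine Units.ext ?_
        show X 7 .l * X 4 .l * X 11 .l = X 11 .l * (X 7 .l * X 4 .l)
        rw [show X 7 .l * X 4 .l = u3 from eq_of_ent6 h1]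
        exact eq_of_ent6 h6
    · refine ⟨gX 7 .l * gX 4 .a, mul_mem (gX_mem _ _) (gX_mem _ _), ?_, ?_⟩
      · haveI : Fact (Nat.Prime 5) := ⟨by norm_num⟩
        have he : X 7 .l * X 4 .a = u5 := eq_of_ent6 h3
        refine orderOf_eq_prime (Units.ext ?_) (fun h => ?_)
        · show (X 7 .l * X 4 .a) ^ 5 = 1
          rw [he, pow_succ, pow_mul u5 2 2, sq (u5 ^ 2), sq, show u5 * u5 = u5sq from eq_of_ent6 h4]
          exact eq_of_ent6 h5
        · have h' : X 7 .l * X 4 .a = 1 := congrArg (fun u : GL (Fin 6) K4 => (u : M6)) h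
          rw [he] at h'
          simp [h'] at n5
      · refine Units.ext ?_
        show X 7 .l * X 4 .a * X 11 .l = X 11 .l * (X 7 .l * X 4 .a)
        rw [show X 7 .l * X 4 .a = u5 from eq_of_ent6 h3]
        exact eq_of_ent6 h7
  refine ⟨⟨u * gX 11 .l, mul_mem hu (gX_mem _ _)⟩, ?_⟩
  rw [Subgroup.orderOf_mk, hc.orderOf_mul_eq_mul_orderOf_of_coprime ?_, hx, hp', mul_comm]
  rw [hx, hp']
  rcases hp with rfl | rfl <;> decide

variable {F F' : Type*} [Field F] [Field F']

theorem xMat_map (D : ChevalleyDatum) (σ : F →+* F') (r : Fin D.nroots) (t : F) :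
    (D.xMat F r t).map σ = D.xMat F' r (σ t) := by
  ext row col
  rcases col with i | s
  · rcases row with i' | u <;> simp [ChevalleyDatum.xMat, apply_ite σ]
  · rcases row with i' | u <;> simp [ChevalleyDatum.xMat, apply_ite σ] <;> split_ifs <;>
      simp [map_list_sum, Function.comp_def]

/-- The Chevalley group depends only on the field up to isomorphism. -/
theorem nonempty_equiv (D : ChevalleyDatum) (σ : F ≃+* F') :
    Nonempty (↥(D.group F) ≃* ↥(D.group F')) := by
  let f : GL D.Idx F →* GL D.Idx F' := Matrix.GeneralLinearGroup.map σ.toRingHom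
  have hinj : Function.Injective f := fun a b h => Units.ext (Matrix.map_injective σ.injective
    (congrArg (fun u : GL D.Idx F' => (u : Matrix D.Idx D.Idx F')) h))
  have hmap : (D.group F).map f = D.group F' := by
    rw [ChevalleyDatum.group, ChevalleyDatum.group, MonoidHom.map_closure]
    refine congrArg Subgroup.closure (Set.ext fun A => ⟨?_, ?_⟩)
    · rintro ⟨g, ⟨r, t, hg⟩, rfl⟩
      refine ⟨r, σ t, ?_⟩
      show (g : Matrix D.Idx D.Idx F).map σ.toRingHom = _
      rw [hg, xMat_map]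
      rfl
    · rintro ⟨r, t, hA⟩
      refine ⟨Matrix.GeneralLinearGroup.map σ.symm.toRingHom A, ⟨r, σ.symm t, ?_⟩, ?_⟩
      · show (A : Matrix D.Idx D.Idx F').map σ.symm.toRingHom = _
        rw [hA, xMat_map]
        rfl
      · exact Units.ext (Matrix.ext fun i j => σ.apply_symm_apply _)
  exact ⟨((D.group F).equivMapOfInjective f hinj).trans (MulEquiv.subgroupCongr hmap)⟩

/-- The linear action on copies of the natural module. -/
def act (n : ℕ) : ↥M →* MulAut (Multiplicative (Fin n → Fin 6 → K4)) where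
  toFun m := AddEquiv.toMultiplicative
    { toFun := fun v i => ((m : GL (Fin 6) K4) : M6) *ᵥ v i
      invFun := fun v i => (((m : GL (Fin 6) K4)⁻¹ : GL (Fin 6) K4) : M6) *ᵥ v i
      left_inv := fun v => funext fun i => by simp [Matrix.mulVec_mulVec]
      right_inv := fun v => funext fun i => by simp [Matrix.mulVec_mulVec]
      map_add' := fun v w => funext fun i => Matrix.mulVec_add _ _ _ }
  map_one' := MulEquiv.ext fun v => congrArg Multiplicative.ofAdd
    (funext fun i => by simp)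
  map_mul' a b := MulEquiv.ext fun v => congrArg Multiplicative.ofAdd
    (funext fun i => by simp [Matrix.mulVec_mulVec])

theorem prime_of_dvd {p : ℕ} (hp : p.Prime)
    (h : p ∣ 4 ^ 6 * (4 ^ 2 - 1) * (4 ^ 6 - 1)) : p = 2 ∨ p = 3 ∨ p = 5 ∨ p = 7 ∨ p = 13 := by
  rw [show (4 ^ 6 * (4 ^ 2 - 1) * (4 ^ 6 - 1) : ℕ) = 2 ^ 12 * 3 ^ 3 * 5 ^ 2 * 7 * 13 by norm_num] at h
  rcases hp.dvd_mul.1 h with h | h
  · rcases hp.dvd_mul.1 h with h | h
    · rcases hp.dvd_mul.1 h with h | h
      · rcases hp.dvd_mul.1 h with h | h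
        · exact Or.inl ((Nat.prime_dvd_prime_iff_eq hp Nat.prime_two).1 (hp.dvd_of_dvd_pow h))
        · exact Or.inr (Or.inl
            ((Nat.prime_dvd_prime_iff_eq hp Nat.prime_three).1 (hp.dvd_of_dvd_pow h)))
      · exact Or.inr (Or.inr (Or.inl
          ((Nat.prime_dvd_prime_iff_eq hp (by norm_num)).1 (hp.dvd_of_dvd_pow h))))
    · exact Or.inr (Or.inr (Or.inr (Or.inl ((Nat.prime_dvd_prime_iff_eq hp (by norm_num)).1 h))))
  · exact Or.inr (Or.inr (Or.inr (Or.inr ((Nat.prime_dvd_prime_iff_eq hp (by norm_num)).1 h))))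

/-- The prime graph of a finite group has the prime divisors of its order as vertices, two distinct primes p, q being joined when the group has an element of order pq; two groups have the same prime graph when they have the same prime divisors and the same joined pairs. Let F be the field with 4 elements and L the Chevalley group of type G₂ over F. There are finite groups of arbitrarily large order with the same prime graph as L. -/
theorem result {F : Type*} [Field F] [Fintype F] (hF : Fintype.card F = 4) (N : ℕ) :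
    ∃ (H : Type) (_ : Group H) (_ : Finite H), N < Nat.card H ∧
      ((∀ p : ℕ, p.Prime → (p ∣ Nat.card ↥(Cfsg.Lie.chevG2.group F) ↔ p ∣ Nat.card H)) ∧
      (∀ p q : ℕ, p.Prime → q.Prime → p ≠ q → ((∃ g : ↥(Cfsg.Lie.chevG2.group F), orderOf g = p * q) ↔ (∃ g : H, orderOf g = p * q)))) := by
  obtain ⟨σ⟩ : Nonempty (K4 ≃+* F) :=
    ⟨FiniteField.ringEquivOfCardEq (by rw [K4.card_eq, hF])⟩
  obtain ⟨ψ⟩ := nonempty_equiv chevG2 σ
  let Ψ : ↥M ≃* ↥(chevG2.group F) := equivM.trans ψ
  let H := Multiplicative (Fin (N + 1) → Fin 6 → K4) ⋊[act (N + 1)] ↥M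
  have hfin : Finite H := Finite.of_equiv _ SemidirectProduct.equivProd.symm
  have hcard : Nat.card H = 4 ^ (6 * (N + 1)) * Nat.card ↥M := by
    rw [SemidirectProduct.card, pow_mul]
    congr 1
    show Nat.card (Fin (N + 1) → Fin 6 → K4) = _
    rw [Nat.card_fun, Nat.card_fun, Nat.card_fin, Nat.card_fin, Nat.card_eq_fintype_card, K4.card_eq]
  have hM : Nat.card ↥M = Nat.card ↥(chevG2.group F) := Nat.card_congr Ψ.toEquiv
  have hord : Nat.card ↥(chevG2.group F) = 4 ^ 6 * (4 ^ 2 - 1) * (4 ^ 6 - 1) :=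
    Cfsg.Agent.S1059.result hF
  refine ⟨H, inferInstance, hfin, ?_, fun p hp => ?_, fun p q hp hq hpq => ⟨?_, ?_⟩⟩
  · rw [hcard]
    calc N < 2 ^ N := Nat.lt_two_pow_self
      _ ≤ 4 ^ N := Nat.pow_le_pow_left (by norm_num) N
      _ ≤ 4 ^ (6 * (N + 1)) := Nat.pow_le_pow_right (by norm_num) (by omega)
      _ ≤ _ := Nat.le_mul_of_pos_right _ Nat.card_pos
  · rw [hcard, ← hM]
    refine ⟨fun h => h.mul_left _, fun h => ?_⟩
    rcases hp.dvd_mul.1 h with h | h
    · obtain rfl : p = 2 := (Nat.prime_dvd_prime_iff_eq hp Nat.prime_two).1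
        (hp.dvd_of_dvd_pow (show p ∣ 2 ^ (2 * (6 * (N + 1))) from by rw [pow_mul]; exact h))
      rw [hM, hord]
      norm_num
    · exact h
  · rintro ⟨g, hg⟩
    refine ⟨SemidirectProduct.inr (Ψ.symm g), ?_⟩
    rw [orderOf_injective _ SemidirectProduct.inr_injective, MulEquiv.orderOf_eq, hg]
  · rintro ⟨h, hh⟩
    have hdvd : orderOf h.right ∣ p * q :=
      hh ▸ orderOf_map_dvd (SemidirectProduct.rightHom : H →* ↥M) h
    have two_sq : ∀ z : Multiplicative (Fin (N + 1) → Fin 6 → K4), z ^ 2 = 1 := fun z => by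
      apply Multiplicative.toAdd.injective
      rw [toAdd_pow, two_nsmul, toAdd_one]
      exact funext fun i => funext fun j => CharTwo.add_self_eq_zero _
    -- an element with a fixed vector
    have key : ∀ r s : ℕ, r.Prime → s.Prime → r ≠ s → p * q = r * s → h.right ^ s = 1 →
        ∃ g : ↥(chevG2.group F), orderOf g = p * q := by
      intro r s hr hs hrs he hms
      set z := h ^ s with hz
      have hz1 : z.right = 1 := by
        rw [hz, ← SemidirectProduct.rightHom_eq_right, map_pow]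
        exact hms
      have hzl : z = SemidirectProduct.inl z.left :=
        SemidirectProduct.ext (by simp) (by simpa using hz1)
      have hzo : orderOf z = r := by
        rw [hz, orderOf_pow' _ hs.ne_zero, hh, he, Nat.gcd_eq_right (dvd_mul_left s r),
          Nat.mul_div_cancel _ hs.pos]
      have hr2 : r = 2 := by
        refine (Nat.prime_dvd_prime_iff_eq hr Nat.prime_two).1 ?_
        rw [← hzo]
        refine orderOf_dvd_of_pow_eq_one ?_
        rw [hzl, ← map_pow, two_sq, map_one]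
      subst hr2
      have hm1 : h.right ≠ 1 := fun e1 => by
        have h2 : h ^ 2 = 1 := by
          have : h = SemidirectProduct.inl h.left :=
            SemidirectProduct.ext (by simp) (by simpa using e1)
          rw [this, ← map_pow, two_sq, map_one]
        have h3 := orderOf_dvd_of_pow_eq_one h2
        rw [hh, he] at h3
        have := Nat.le_of_dvd two_pos h3
        have := hs.two_le
        omega
      haveI : Fact s.Prime := ⟨hs⟩
      have hms' : orderOf h.right = s := orderOf_eq_prime hms hm1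
      have hl : act (N + 1) h.right z.left = z.left := by
        have hc : h * z = z * h := by rw [hz, ← pow_succ, ← pow_succ']
        have hl2 := congrArg SemidirectProduct.left hc
        rw [SemidirectProduct.mul_left, SemidirectProduct.mul_left, hz1, map_one,
          MulAut.one_apply, mul_comm z.left] at hl2
        exact mul_left_cancel hl2
      have hzne : z.left ≠ 1 := fun e1 => by
        rw [hzl, e1, map_one, orderOf_one] at hzo
        omega
      obtain ⟨i, hi⟩ : ∃ i, Multiplicative.toAdd z.left i ≠ 0 := by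
        by_contra hc
        push Not at hc
        exact hzne (Multiplicative.toAdd.injective (funext fun i => hc i))
      have hfix : ((h.right : GL (Fin 6) K4) : M6) *ᵥ Multiplicative.toAdd z.left i =
          Multiplicative.toAdd z.left i :=
        congrFun (congrArg Multiplicative.toAdd hl) i
      have hsM : s ∣ Nat.card ↥M := hms' ▸ orderOf_dvd_natCard _
      rw [hM, hord] at hsM
      have hbad : ¬ (s = 7 ∨ s = 13) := fun hs' => hm1 (Subtype.ext (Units.ext
        (eq_one_of_fixed (form_of_mem h.right.2) hs'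
          (by rw [← Units.val_pow_eq_pow_val, ← SubgroupClass.coe_pow, hms]; rfl) hfix hi)))
      have hs35 : s = 3 ∨ s = 5 := by
        rcases prime_of_dvd hs hsM with h' | h' | h' | h' | h' <;> omega
      obtain ⟨m, hm⟩ := exists_order s hs35
      exact ⟨Ψ m, by rw [MulEquiv.orderOf_eq, hm, he]⟩
    obtain ⟨d₁, d₂, hd1, hd2, hd⟩ := exists_dvd_and_dvd_of_dvd_mul hdvd
    rcases (Nat.dvd_prime hp).1 hd1 with rfl | rfl
    · exact key p q hp hq hpq rfl (orderOf_dvd_iff_pow_eq_one.1 (by rw [hd, one_mul]; exact hd2))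
    · rcases (Nat.dvd_prime hq).1 hd2 with rfl | rfl
      · refine key q d₁ hq hp hpq.symm (mul_comm _ _) (orderOf_dvd_iff_pow_eq_one.1 ?_)
        rw [hd, mul_one]
      · exact ⟨Ψ h.right, by rw [MulEquiv.orderOf_eq, hd]⟩

end Cfsg.Agent.S3662
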