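import Cfsg.Statements.S0118
import Cfsg.Agent.Lib.GlaubermanFree
-- import your own Cfsg.Agent.* helpers here

set_option autoImplicit false
open Cfsg

namespace Cfsg.Agent.S0118

/-- Glauberman's ZJ-Theorem, in the case of groups with no section isomorphic to SL(2,p), p odd: conjugation of subsets of a Sylow p-subgroup P inside P is always induced from the normalizer of Z(J(P)). -/
theorem result {G : Type*} [Group G] [Finite G] {p : ℕ} [Fact p.Prime] (hp : p ≠ 2) (hfree : ¬ ∃ (H K : Subgroup G) (hK : (K.subgroupOf H).Normal), Nonempty ((H ⧸ K.subgroupOf H) ≃* Matrix.SpecialLinearGroup (Fin 2) (ZMod p))) (P : Sylow p G) (A : Set G) (hA : A ⊆ (P : Set G)) (g : G) (hAg : (fun a => g⁻¹ * a * g) '' A ⊆ (P : Set G)) : ∃ n ∈ Subgroup.normalizer (Cfsg.centerThompsonOf p (P : Subgroup G) : Set G), ∀ a ∈ A, n⁻¹ * a * n = g⁻¹ * a * g := by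
  rw [GlaubermanZJ.centerThompsonOf_eq]
  have hf : ¬ QuadraticMain.HasSection G (Matrix.SpecialLinearGroup (Fin 2) (ZMod p)) := fun h => by
    obtain ⟨K, L, hL, he⟩ := QuadraticQd.exists_section h
    exact hfree ⟨K, L, hL, he⟩
  have hctrl := GlaubermanFree.ctrl_of_free hp (Or.inr rfl) _
    (GlaubermanFree.stable_of_sl2_free hp) (GlaubermanControl.yPrime p) (fun D => le_rfl)
    G hf P (P : Subgroup G) ⟨le_rfl, fun _ _ _ h => h⟩
  have hT : TransferAlperin.cj g⁻¹ (Subgroup.closure A) ≤ (P : Subgroup G) := by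
    rw [TransferAlperin.cj, MonoidHom.map_closure, Subgroup.closure_le]
    rintro _ ⟨a, ha, rfl⟩
    simpa using hAg ⟨a, ha, rfl⟩
  obtain ⟨m, hm, hme⟩ := hctrl (Subgroup.closure A) g⁻¹ ((Subgroup.closure_le _).mpr hA) hT
  refine ⟨m⁻¹, inv_mem hm, fun a ha => ?_⟩
  have := hme a (Subgroup.subset_closure ha)
  simpa using this
end Cfsg.Agent.S0118
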