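import Cfsg.Statements.S2763
import Cfsg.Agent.Lib.QdStructure56
import Cfsg.Agent.Lib.LocGroup56
import Cfsg.Agent.Lib.ComponentsCores

set_option autoImplicit false
open Cfsg

set_option linter.all false

namespace Cfsg.Agent.S2763
open Matrix hiding vec
open Cfsg.Agent.QdStructure56
open scoped MatrixGroups Pointwise

theorem not_char {p : ℕ} [Fact p.Prime] (S : Sylow p (Qd (ZMod p)))
    (T : Subgroup ↥(S : Subgroup (Qd (ZMod p)))) (hTc : T.Characteristic)
    (hVT : T.map (S : Subgroup (Qd (ZMod p))).subtype = transl (ZMod p)) : False := by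
  classical
  obtain ⟨A, hA⟩ := PSL2Sylow.sylow_eq_conj p (S.mapSurjective (f := (blk : Qd (ZMod p) →* SL(2, ZMod p))) blk_surjective)
  set φ : Qd (ZMod p) →* SL(2, ZMod p) := blk
  have hA' : (S : Subgroup (Qd (ZMod p))).map φ = MulAut.conj A • PSL2Sylow.uSub (ZMod p) := hA
  set c : Qd (ZMod p) := lift A with hc
  have hVS : transl (ZMod p) ≤ (S : Subgroup (Qd (ZMod p))) := hVT ▸ Subgroup.map_subtype_le _
  set U : Subgroup (Qd (ZMod p)) := (PSL2Sylow.uSub (ZMod p)).comap φ with hU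
  have hS : ∀ x, x ∈ (S : Subgroup (Qd (ZMod p))) ↔ c⁻¹ * x * c ∈ U := by
    intro x
    rw [hU, Subgroup.mem_comap, map_mul, map_mul, map_inv, show φ c = A from blk_lift A]
    have h1 : x ∈ (S : Subgroup (Qd (ZMod p))) ↔ φ x ∈ (S : Subgroup (Qd (ZMod p))).map φ := by
      refine ⟨fun h => ⟨x, h, rfl⟩, fun h => ?_⟩
      have h2 : x ∈ ((S : Subgroup (Qd (ZMod p))).map φ).comap φ := h
      rwa [Subgroup.comap_map_eq_self (show φ.ker ≤ _ from hVS)] at h2
    rw [h1, hA', Subgroup.mem_pointwise_smul_iff_inv_smul_mem, ← map_inv]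
    simp [MulAut.smul_def]
  have hblkU : ∀ x : U, φ x = PSL2Elements.u (ent (x : Qd (ZMod p)) 0 1) := by
    intro x
    obtain ⟨t, ht⟩ := PSL2Sylow.mem_uSub.mp x.2
    rw [ht]
    congr 1
    have h := congrArg (fun B : SL(2, ZMod p) => B.1 0 1) ht
    obtain ⟨-, hb, -, -⟩ := blk_apply (x : Qd (ZMod p))
    rw [hb] at h
    simpa [PSL2Elements.u] using h.symm
  let θf : Qd (ZMod p) → Qd (ZMod p) := fun x =>
    QdStructure56.mk (PSL2Elements.u (ent x 1 2)) ![ent x 1 2 * ent x 0 1 - ent x 0 2, ent x 0 1]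
  have hθU : ∀ x, θf x ∈ U := fun x => by
    rw [hU, Subgroup.mem_comap]
    exact PSL2Sylow.mem_uSub.mpr ⟨ent x 1 2, blk_mk _ _⟩
  have hent : ∀ x : U, ent (x : Qd (ZMod p)) 0 0 = 1 ∧ ent (x : Qd (ZMod p)) 1 0 = 0 ∧
      ent (x : Qd (ZMod p)) 1 1 = 1 := by
    intro x
    obtain ⟨ha, -, hcc, hd⟩ := blk_apply (x : Qd (ZMod p))
    rw [hblkU x] at ha hcc hd
    exact ⟨by simpa [PSL2Elements.u] using ha.symm, by simpa [PSL2Elements.u] using hcc.symm,
      by simpa [PSL2Elements.u] using hd.symm⟩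
  let θ : ↥U ≃* ↥U :=
    { toFun := fun x => ⟨θf x, hθU _⟩
      invFun := fun x => ⟨θf x, hθU _⟩
      left_inv := fun x => Subtype.ext (by
        obtain ⟨a, b, c⟩ := hent x
        apply ext6 <;> simp [θf, QdStructure56.mk, PSL2Elements.u, ent] <;>
          (try simp only [ent] at a b c) <;> (try simp [a, b, c]) <;> ring)
      right_inv := fun x => Subtype.ext (by
        obtain ⟨a, b, c⟩ := hent x
        apply ext6 <;> simp [θf, QdStructure56.mk, PSL2Elements.u, ent] <;>
          (try simp only [ent] at a b c) <;> (try simp [a, b, c]) <;> ring)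
      map_mul' := fun x y => Subtype.ext (by
        obtain ⟨a, b, c⟩ := hent x
        obtain ⟨a', b', c'⟩ := hent y
        show θf ((x : Qd (ZMod p)) * (y : Qd (ZMod p))) = θf x * θf y
        apply ext_blk_vec
        · simp [θf, ent_mul_two, b, c, PSL2Elements.u_mul, add_comm]
        · rw [vec_mul]
          funext i
          fin_cases i <;>
            simp [θf, ent_mul_two, ent_mul_one, a, b, c, c', PSL2Elements.u, Matrix.mulVec, dotProduct,
              Fin.sum_univ_two] <;> ring) }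
  let e : ↥U ≃* ↥(S : Subgroup (Qd (ZMod p))) :=
    { toFun := fun x => ⟨c * x * c⁻¹, (hS _).mpr (by simp [mul_assoc])⟩
      invFun := fun x => ⟨c⁻¹ * x * c, (hS _).mp x.2⟩
      left_inv := fun x => Subtype.ext (by simp [mul_assoc])
      right_inv := fun x => Subtype.ext (by simp [mul_assoc])
      map_mul' := fun x y => Subtype.ext (by simp [mul_assoc]) }
  have hv : trn (Multiplicative.ofAdd (![0, 1] : Fin 2 → ZMod p)) ∈ transl (ZMod p) := by simp [mem_transl, trn]
  have hvU : trn (Multiplicative.ofAdd (![0, 1] : Fin 2 → ZMod p)) ∈ U := by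
    rw [hU, Subgroup.mem_comap, show φ _ = 1 from mem_transl.mp hv]
    exact one_mem _
  have hmem : e ⟨_, hvU⟩ ∈ T := by
    have h1 : ((e ⟨_, hvU⟩ : ↥(S : Subgroup (Qd (ZMod p)))) : Qd (ZMod p)) ∈ transl (ZMod p) :=
      transl_normal.conj_mem _ hv c
    rw [← hVT] at h1
    obtain ⟨z, hz, hze⟩ := h1
    rwa [← Subtype.ext hze]
  have h2 : ((e.symm.trans θ).trans e) (e ⟨_, hvU⟩) ∈ T := by
    have := Subgroup.mem_map_of_mem ((e.symm.trans θ).trans e).toMonoidHom hmem
    rwa [Subgroup.characteristic_iff_map_eq.mp hTc] at this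
  have h3 : (((e.symm.trans θ).trans e) (e ⟨_, hvU⟩) : Qd (ZMod p)) ∈ transl (ZMod p) := by
    rw [← hVT]; exact ⟨_, h2, rfl⟩
  simp only [MulEquiv.trans_apply, MulEquiv.symm_apply_apply] at h3
  have h4 : θf (trn (Multiplicative.ofAdd (![0, 1] : Fin 2 → ZMod p))) ∈ transl (ZMod p) := by
    have := transl_normal.conj_mem _ h3 c⁻¹
    simpa [e, θ, mul_assoc] using this
  have h5 := congrArg (fun B : SL(2, ZMod p) => B.1 0 1) (mem_transl.mp h4)
  simp [θf, trn, QdStructure56.mk, ent, PSL2Elements.u, blk] at h5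

theorem key {p : ℕ} [Fact p.Prime] (S : Sylow p (Qd (ZMod p)))
    (T : Subgroup ↥(S : Subgroup (Qd (ZMod p)))) (hT : T ≠ ⊥) (hTc : T.Characteristic) :
    Subgroup.normalizer ((T.map (S : Subgroup (Qd (ZMod p))).subtype : Subgroup (Qd (ZMod p))) : Set (Qd (ZMod p))) =
      Subgroup.normalizer ((S : Subgroup (Qd (ZMod p))) : Set (Qd (ZMod p))) ∧
      Subgroup.normalizer ((S : Subgroup (Qd (ZMod p))) : Set (Qd (ZMod p))) ≠ ⊤ := by
  classical
  set V := transl (ZMod p)
  have hVS : V ≤ (S : Subgroup (Qd (ZMod p))) := by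
    rw [show V = Cfsg.pCore p (Qd (ZMod p)) from transl_eq_pCore.symm]
    exact Cfsg.Agent.LocGroup56.pCore_le_sylow S
  let φ : Qd (ZMod p) →* SL(2, ZMod p) := blk
  let Sb : Sylow p SL(2, ZMod p) := S.mapSurjective (f := φ) blk_surjective
  have hSb : (Sb : Subgroup SL(2, ZMod p)) = (S : Subgroup (Qd (ZMod p))).map φ := rfl
  have hSb1 : (Sb : Subgroup SL(2, ZMod p)) ≠ ⊥ := by
    refine Sb.ne_bot_of_dvd_card ?_
    rw [PSLCard.card_SL2, Nat.card_zmod]
    exact dvd_mul_right p _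
  have hnt : Subgroup.normalizer ((S : Subgroup (Qd (ZMod p))) : Set (Qd (ZMod p))) ≠ ⊤ := by
    intro h
    haveI := Subgroup.normalizer_eq_top_iff.mp h
    haveI : (Sb : Subgroup SL(2, ZMod p)).Normal :=
      hSb ▸ Subgroup.Normal.map inferInstance φ blk_surjective
    exact hSb1 (normal_pGroup_eq_bot _ Sb.2)
  refine ⟨le_antisymm ?_ (haveI := hTc
    Cfsg.Agent.ComponentsCores.normalizer_le_normalizer_map_subtype _ T), hnt⟩
  set T' := T.map (S : Subgroup (Qd (ZMod p))).subtype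
  have hT1 : T' ≠ ⊥ := fun h =>
    hT ((Subgroup.map_eq_bot_iff_of_injective _ (Subgroup.subtype_injective _)).mp h)
  have hT'S : T' ≤ (S : Subgroup (Qd (ZMod p))) := Subgroup.map_subtype_le _
  set N := Subgroup.normalizer (T' : Set (Qd (ZMod p)))
  have hSN : (S : Subgroup (Qd (ZMod p))) ≤ N :=
    Subgroup.le_normalizer.trans (haveI := hTc
      Cfsg.Agent.ComponentsCores.normalizer_le_normalizer_map_subtype _ T)
  intro g hg
  by_contra hgS
  -- two Sylow subgroups in the image force `T'` to be normal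
  let S₂ : Sylow p (Qd (ZMod p)) := g • S
  have hS₂ : (S₂ : Subgroup (Qd (ZMod p))) ≤ N := by
    intro x hx
    rw [Sylow.coe_subgroup_smul] at hx
    obtain ⟨y, hy, rfl⟩ := hx
    show g * y * g⁻¹ ∈ N
    exact mul_mem (mul_mem hg (hSN hy)) (inv_mem hg)
  have hne : S₂.mapSurjective (f := φ) blk_surjective ≠ Sb := by
    intro h
    refine hgS ?_
    have h1 : (S₂ : Subgroup (Qd (ZMod p))).map φ = (S : Subgroup (Qd (ZMod p))).map φ :=
      congrArg (fun P : Sylow p SL(2, ZMod p) => (P : Subgroup SL(2, ZMod p))) h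
    have hVS₂ : V ≤ (S₂ : Subgroup (Qd (ZMod p))) := by
      rw [show V = Cfsg.pCore p (Qd (ZMod p)) from transl_eq_pCore.symm]
      exact Cfsg.Agent.LocGroup56.pCore_le_sylow S₂
    have h2 := congrArg (Subgroup.comap φ) h1
    rw [Subgroup.comap_map_eq_self hVS₂, Subgroup.comap_map_eq_self hVS] at h2
    have h3 : g • S = S := Sylow.ext h2
    exact Sylow.smul_eq_iff_mem_normalizer.mp h3
  have htop : N.map φ = ⊤ :=
    eq_top_of_two_sylow (N.map φ) _ _ hne (Subgroup.map_mono hS₂) (Subgroup.map_mono hSN)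
  have hN : N = ⊤ := by
    have := congrArg (Subgroup.comap φ) htop
    rwa [Subgroup.comap_map_eq_self (show φ.ker ≤ N from hVS.trans hSN), Subgroup.comap_top] at this
  haveI hTn : T'.Normal := Subgroup.normalizer_eq_top_iff.mp hN
  have hTV : T' ≤ V := by
    haveI : (T'.map φ).Normal := Subgroup.Normal.map hTn φ blk_surjective
    exact (Subgroup.map_eq_bot_iff T').mp (normal_pGroup_eq_bot _ (IsPGroup.map (S.2.to_le hT'S) φ))
  have hVT : T' = V := by
    refine le_antisymm hTV ?_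
    obtain ⟨m, hm, hm1⟩ := (Subgroup.bot_or_exists_ne_one T').resolve_left hT1
    intro x hx
    rw [eq_trn_of_blk (mem_transl.mp hx)]
    by_cases hv : vec x = 0
    · rw [hv]; convert T'.one_mem; exact map_one trn
    have hm0 : vec m ≠ 0 := fun h => hm1 (by
      rw [eq_trn_of_blk (mem_transl.mp (hTV hm)), h]; exact map_one trn)
    obtain ⟨A, hA⟩ := exists_mulVec_eq hm0 hv
    have h1 : lift A * m * (lift A)⁻¹ ∈ T' := hTn.conj_mem m hm _
    have h2 := conj_transl (lift A) (hTV hm)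
    rw [blk_lift, hA] at h2
    rw [eq_trn_of_blk (mem_transl.mp (hTV h1)), h2] at h1
    exact h1
  exact not_char S T hTc hVT

/-- In the group Qd(p) (p prime; the natural semidirect product of an elementary abelian group of order p² by SL₂(p)), the normalizer of every nontrivial characteristic subgroup of a Sylow p-subgroup S equals the normalizer of S, which is a proper subgroup; in particular no such characteristic subgroup is normal. -/
theorem result {p : ℕ} [Fact p.Prime] (S : Sylow p ↥(Cfsg.qd p)) (T : Subgroup ↥(S : Subgroup ↥(Cfsg.qd p))) (hT : T ≠ ⊥) (hTc : T.Characteristic) : Subgroup.normalizer ((T.map (S : Subgroup ↥(Cfsg.qd p)).subtype : Subgroup ↥(Cfsg.qd p)) : Set ↥(Cfsg.qd p)) = Subgroup.normalizer ((S : Subgroup ↥(Cfsg.qd p)) : Set ↥(Cfsg.qd p)) ∧ Subgroup.normalizer ((S : Subgroup ↥(Cfsg.qd p)) : Set ↥(Cfsg.qd p)) ≠ ⊤ := by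
  exact key S T hT hTc

end Cfsg.Agent.S2763
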