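import Cfsg.Statements.S4364
import Cfsg.Agent.Lib.H74Kazarin
import Cfsg.Agent.Lib.ComponentsFitting
import Cfsg.Agent.Lib.ClassSizeGraph76
import Cfsg.Agent.Lib.HallCore

set_option autoImplicit false
open Cfsg

namespace Cfsg.Agent.S4364

theorem commute_of_pCore_eq_bot {G : Type*} [Group G] [Finite G] (p : ℕ) [hp : Fact p.Prime]
    (h0 : Cfsg.pCore p G = ⊥) (x : G) {a : ℕ}
    (hx : (Subgroup.centralizer ({x} : Set G)).index = p ^ a) :
    ∀ u ∈ Subgroup.normalClosure ({x} : Set G), ∀ v ∈ Subgroup.normalClosure ({x} : Set G),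
      u * v = v * u := by
  set N := Subgroup.normalClosure ({x} : Set G)
  haveI : N.Normal := Subgroup.normalClosure_normal
  haveI hsol : Group.IsSolvable N :=
    Cfsg.Agent.H74Kazarin.solvable_normalClosure _ G rfl x p a hp.out hx
  have key : ∀ q : ℕ, q.Prime → N ≤ Subgroup.centralizer (Cfsg.pCore q G : Set G) ∨
      Cfsg.pCore q G = ⊥ := by
    intro q hq
    haveI : Fact q.Prime := ⟨hq⟩
    by_cases hqp : q = p
    · exact Or.inr (hqp ▸ h0)
    refine Or.inl (Subgroup.normalClosure_le_normal (Set.singleton_subset_iff.2 ?_))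
    obtain ⟨P, hP⟩ := Cfsg.Agent.ClassSizeGraph76.exists_sylow_le (p := q)
      (H := Subgroup.centralizer ({x} : Set G)) (by
        rw [hx]
        exact fun h => hqp ((Nat.prime_dvd_prime_iff_eq hq hp.out).1 (hq.dvd_of_dvd_pow h)))
    rw [SetLike.mem_coe, Subgroup.mem_centralizer_iff]
    intro c hc
    have hcP : c ∈ (P : Subgroup G) :=
      IsPGroup.le_sylow_of_normal (Cfsg.Agent.ComponentsCores.isPGroup_pCore q) P hc
    exact (Subgroup.mem_centralizer_singleton_iff.1 (hP hcP))
  have hF : (⊤ : Subgroup N) ≤ Subgroup.centralizer (Cfsg.fittingSubgroup N : Set N) := by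
    rw [Subgroup.le_centralizer_iff, Cfsg.Agent.ComponentsFitting.fittingSubgroup_eq_iSup]
    refine iSup_le fun q => ?_
    intro c hc
    rw [Subgroup.mem_centralizer_iff]
    intro w _
    have hcG : (c : G) ∈ Cfsg.pCore q G :=
      Cfsg.Agent.ComponentsCores.pCore_map_subtype_le
        (Subgroup.Normal.isSubnormal inferInstance) (Subgroup.mem_map_of_mem N.subtype hc)
    rcases key q (Nat.prime_of_mem_primeFactors q.2) with h | h
    · exact Subtype.ext (Subgroup.mem_centralizer_iff.1 (h w.2) c hcG).symm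
    · rw [h, Subgroup.mem_bot] at hcG
      rw [show c = 1 from Subtype.ext hcG, one_mul, mul_one]
  have hle : (⊤ : Subgroup N) ≤ Cfsg.fittingSubgroup N :=
    hF.trans Cfsg.Agent.ComponentsFitting.centralizer_fitting_le_of_solvable
  intro u hu v hv
  exact (congrArg Subtype.val (Subgroup.mem_centralizer_iff.1 (hF (Subgroup.mem_top (⟨v, hv⟩ : N)))
    ⟨u, hu⟩ (hle (Subgroup.mem_top _))))

/-- Let G be a finite group, p a prime and x an element whose conjugacy class has p-power size. Then for any two conjugates y and z of x, the commutator y z y⁻¹ z⁻¹ lies in O_p(G), the largest normal p-subgroup of G. -/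
theorem result {G : Type*} [Group G] [Finite G] (p : ℕ) [Fact p.Prime]
    (x : G) (hx : ∃ a : ℕ, (Subgroup.centralizer ({x} : Set G)).index = p ^ a) (g h : G) :
    (g * x * g⁻¹) * (h * x * h⁻¹) * (g * x * g⁻¹)⁻¹ * (h * x * h⁻¹)⁻¹ ∈ Cfsg.pCore p G := by
  obtain ⟨a, ha⟩ := hx
  haveI hn : (Cfsg.pCore p G).Normal := inferInstance
  have hπ := QuotientGroup.mk'_surjective (Cfsg.pCore p G)
  obtain ⟨j, -, hj⟩ := (Nat.dvd_prime_pow (Fact.out (p := p.Prime))).1
    (ha ▸ Cfsg.Agent.H74Kazarin.index_map_dvd hπ x)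
  rw [← QuotientGroup.eq_one_iff]
  set π := QuotientGroup.mk' (Cfsg.pCore p G)
  show π _ = 1
  have hmem : ∀ g : G, π (g * x * g⁻¹) ∈ Subgroup.normalClosure ({π x} : Set (G ⧸ Cfsg.pCore p G)) :=
    fun g => by
      rw [map_mul, map_mul, map_inv]
      exact Subgroup.normalClosure_normal.conj_mem _
        (Subgroup.subset_normalClosure (Set.mem_singleton _)) _
  rw [map_mul, map_mul, map_mul, map_inv π (g * x * g⁻¹), map_inv π (h * x * h⁻¹),
    commute_of_pCore_eq_bot p (Cfsg.Agent.HallCore.pCore_quotient_self p G) (π x) hj _ (hmem g) _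
      (hmem h), mul_inv_cancel_right, mul_inv_cancel]

end Cfsg.Agent.S4364
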