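import Cfsg.Statements.S0168
import Cfsg.Agent.Lib.CharBasicDecomp

set_option autoImplicit false
open Cfsg

namespace Cfsg.Agent.S0168

open Cfsg.Agent.CharBasic Cfsg.Agent.CharBasicOrth
open scoped ComplexConjugate


/-- The Burnside–Brauer Theorem. Let χ be the character of a faithful complex representation of a finite group, taking m distinct values. Then every irreducible character has nonzero inner product with χ ^ i for some i < m. -/
theorem result {G : Type*} [Group G] [Fintype G] {V : Type*} [AddCommGroup V] [Module ℂ V] [FiniteDimensional ℂ V] (ρ : Representation ℂ G V) (hfaithful : Function.Injective ρ) (ψ : G → ℂ) (hψ : Cfsg.IsIrrCharacter G ψ) : ∃ i : ℕ, i < Nat.card (Set.range ρ.character) ∧ Cfsg.classInner (fun g => ρ.character g ^ i) ψ ≠ 0 := by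
  classical
  by_contra hno
  push Not at hno
  set n : ℂ := (Module.finrank ℂ V : ℂ) with hn
  set T : Finset ℂ := (Finset.univ.image ρ.character).erase n with hT
  set P : Polynomial ℂ := ∏ a ∈ T, (Polynomial.X - Polynomial.C a) with hP
  have hmem : n ∈ Finset.univ.image ρ.character :=
    Finset.mem_image.2 ⟨1, Finset.mem_univ _, Representation.char_one ρ⟩
  have hm : Nat.card (Set.range ρ.character) = T.card + 1 := by
    rw [Nat.card_coe_set_eq, ← Set.image_univ, ← Finset.coe_univ, ← Finset.coe_image,
      Set.ncard_coe_finset, hT, Finset.card_erase_add_one hmem]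
  have hdeg : P.natDegree = T.card := by
    rw [hP, Polynomial.natDegree_prod_of_monic _ _ fun a _ => Polynomial.monic_X_sub_C a]
    simp
  have hzero : ∑ g, P.eval (ρ.character g) * conj (ψ g) = 0 := by
    simp only [Polynomial.eval_eq_sum_range, Finset.sum_mul]
    rw [Finset.sum_comm]
    refine Finset.sum_eq_zero fun i hi => ?_
    rw [Finset.mem_range, hdeg] at hi
    have h := card_mul_classInner (fun g => ρ.character g ^ i) ψ
    rw [hno i (hm ▸ hi), mul_zero] at h
    simp only [mul_assoc]
    rw [← Finset.mul_sum, ← h, mul_zero]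
  have hone : ∑ g, P.eval (ρ.character g) * conj (ψ g) = P.eval n * conj (ψ 1) := by
    rw [Finset.sum_eq_single 1 (fun g _ hg => ?_) (fun h => absurd (Finset.mem_univ _) h),
      Representation.char_one]
    have hne : ρ.character g ≠ n := fun e => hg (hfaithful (by
      rw [eq_one_of_character_eq_finrank ρ g e, map_one]; rfl))
    have hgT : ρ.character g ∈ T :=
      Finset.mem_erase.2 ⟨hne, Finset.mem_image.2 ⟨g, Finset.mem_univ _, rfl⟩⟩
    rw [hP, Polynomial.eval_prod, Finset.prod_eq_zero hgT (by simp), zero_mul]
  rw [hone, mul_eq_zero] at hzero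
  rcases hzero with h | h
  · rw [hP, Polynomial.eval_prod, Finset.prod_eq_zero_iff] at h
    obtain ⟨a, ha, ha'⟩ := h
    simp only [Polynomial.eval_sub, Polynomial.eval_X, Polynomial.eval_C, sub_eq_zero] at ha'
    exact (Finset.mem_erase.1 ha).1 ha'.symm
  · exact isIrrCharacter_apply_one_ne_zero hψ ((map_eq_zero conj).1 h)

end Cfsg.Agent.S0168
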