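import Mathlib
import Cfsg.Agent.Lib.CharBasicInt
import Cfsg.Agent.Lib.CharBasicLinear
import Cfsg.Agent.Lib.CharInducedBurnside
import Cfsg.Agent.Lib.CharInducedClifford
import Cfsg.Agent.Lib.CharInducedRep
import Cfsg.Statements.S4466

set_option autoImplicit false
set_option linter.unusedVariables false
set_option linter.unusedSectionVars false
open Cfsg

namespace Cfsg.Agent.S4466

open Cfsg.Agent.CharBasic Cfsg.Agent.CharBasicOrth Cfsg.Agent.CharBasicDecomp Cfsg.Agent.CharBasicLinear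
open Cfsg.Agent.CharBasicInt Cfsg.Agent.CharInduced
open Subgroup
open scoped ComplexConjugate commutatorElement

universe u

theorem degree_dvd_of_normal {G : Type u} [Group G] [Finite G] (N : Subgroup G) [N.Normal]
    {θ : N → ℂ} (hθ : IsIrrCharacter N θ) :
    ∃ (χ : IrrCharacter G) (a b : ℕ), (χ : G → ℂ) 1 = (a : ℂ) ∧ θ 1 = (b : ℂ) ∧ b ∣ a := by
  classical
  have := Fintype.ofFinite G
  obtain ⟨b, hb, hθ1⟩ := isIrrCharacter_apply_one hθ
  have hne : indFun N θ 1 ≠ 0 := by
    rw [ind_one_apply, hθ1]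
    exact mul_ne_zero (Nat.cast_ne_zero.2 index_ne_zero_of_finite) (Nat.cast_ne_zero.2 hb.ne')
  obtain ⟨χ, hχ⟩ : ∃ χ : IrrCharacter G, classInner (indFun N θ) (χ : G → ℂ) ≠ 0 := by
    by_contra hall
    push Not at hall
    refine hne ?_
    rw [eq_sum_classInner (isClassFunction_ind N θ)]
    simp [hall]
  have hcf := isClassFunction_irr χ.2
  have hres := isCharacter_res N (isCharacter_of_isIrrCharacter χ.2)
  have hθc := isCharacter_of_isIrrCharacter hθ
  rw [inner_ind_left N θ hcf, classInner_comm_of_isCharacter hθc hres] at hχ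
  obtain ⟨c, hc⟩ := classInner_isCharacter hres hθc
  have h := congrFun (clifford N χ.2 hθ hχ) 1
  obtain ⟨a, -, ha⟩ := isIrrCharacter_apply_one χ.2
  refine ⟨χ, a, b, ha, hθ1, ?_⟩
  rw [Pi.smul_apply, Finset.sum_apply, hc, Finset.sum_congr rfl (g := fun _ => (b : ℂ)) (fun ψ hψ => by
    obtain ⟨g, rfl⟩ := (mem_orbitFin N).1 hψ
    simp [conjFun]; exact hθ1)] at h
  simp only [Finset.sum_const, nsmul_eq_mul, smul_eq_mul, OneMemClass.coe_one, ha] at h
  refine ⟨c * (orbitFin N θ).card, ?_⟩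
  have h' : (a : ℂ) = ((b * (c * (orbitFin N θ).card) : ℕ) : ℂ) := by rw [h]; push_cast; ring
  exact_mod_cast h'

theorem charDegree_eq {G : Type u} [Group G] {χ : G → ℂ} {n : ℕ} (h : χ 1 = (n : ℂ)) :
    charDegree χ = n := by
  unfold charDegree
  rw [h]
  simp

section simple

variable {G : Type u} [Group G] [Finite G] [IsSimpleGroup G] (hab : ¬ ∀ a b : G, a * b = b * a)
  (hdeg : ∀ χ : IrrCharacter G, ∀ n : ℕ, (χ : G → ℂ) 1 = (n : ℂ) → n ≠ 1 → n.Prime)

include hab

theorem eq_one_of_apply_one_one {χ : IrrCharacter G} (h1 : (χ : G → ℂ) 1 = 1) :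
    (χ : G → ℂ) = fun _ => 1 := by
  obtain ⟨lam, hlam⟩ := exists_hom_of_apply_one_eq_one (isCharacter_of_isIrrCharacter χ.2) h1
  rcases (MonoidHom.normal_ker lam).eq_bot_or_eq_top with h | h
  · exact absurd (fun a b => (MonoidHom.ker_eq_bot_iff lam).1 h (by
      rw [map_mul, map_mul, mul_comm])) hab
  · rw [hlam]; funext g
    rw [MonoidHom.mem_ker.1 (h ▸ mem_top g), Units.val_one]

theorem apply_ne {χ : IrrCharacter G} {n : ℕ} (h1 : (χ : G → ℂ) 1 = (n : ℂ)) (hn : n ≠ 1)
    {g : G} (hg : g ≠ 1) : ‖(χ : G → ℂ) g‖ ≠ (n : ℝ) := by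
  obtain ⟨m, ρ, hi, hρ⟩ := χ.2
  have hm : Module.finrank ℂ (Fin m → ℂ) = n := by
    rw [← hρ, Representation.char_one] at h1
    exact_mod_cast h1
  have h := not_norm_eq_of_simple hab ρ (fun e => hn (by
    have h2 := congrFun e 1
    rw [hρ, h1] at h2
    exact_mod_cast h2)) g hg
  rwa [hρ, hm] at h

theorem vanish {χ : IrrCharacter G} {p : ℕ} (hp : p.Prime) (h1 : (χ : G → ℂ) 1 = (p : ℂ))
    {g : G} (hg : g ≠ 1) (hidx : ¬ p ∣ (centralizer ({g} : Set G)).index) :
    (χ : G → ℂ) g = 0 := by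
  have h := apply_ne hab h1 hp.one_lt.ne' hg
  obtain ⟨m, ρ, hi, hρ⟩ := χ.2
  have hm : Module.finrank ℂ (Fin m → ℂ) = p := by
    rw [← hρ, Representation.char_one] at h1
    exact_mod_cast h1
  have h0 := character_eq_zero_or_norm_eq ρ g (by rw [hm]; exact (Nat.Prime.coprime_iff_not_dvd hp).2 hidx)
  rw [hρ, hm] at h0
  exact h0.resolve_right h

omit hab in
/-- A character of degree `p` vanishing on a subgroup minus `1` forces its order to divide `p`. -/
theorem card_dvd_of_vanish {χ : G → ℂ} (hχ : IsCharacter G χ) {p : ℕ} (h1 : χ 1 = (p : ℂ))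
    (H : Subgroup G) (hH : ∀ g ∈ H, g ≠ 1 → χ g = 0) : Nat.card H ∣ p := by
  classical
  have := Fintype.ofFinite G
  obtain ⟨n, hn⟩ := classInner_isCharacter (isCharacter_res H hχ) (isCharacter_one (G := H))
  rw [classInner, Finset.sum_eq_single (1 : H) (fun b _ hb => by
    rw [hH b b.2 (fun e => hb (Subtype.ext e)), zero_mul]) (by simp)] at hn
  simp only [OneMemClass.coe_one, h1, map_one, mul_one] at hn
  rw [inv_mul_eq_iff_eq_mul₀ (Nat.cast_ne_zero.2 Nat.card_pos.ne'), ← Nat.cast_mul, Nat.cast_inj] at hn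
  exact ⟨n, hn⟩

theorem sylow_card {χ : IrrCharacter G} {p : ℕ} [hp : Fact p.Prime]
    (h1 : (χ : G → ℂ) 1 = (p : ℂ)) (P : Sylow p G) : Nat.card (P : Subgroup G) = p := by
  classical
  have := Fintype.ofFinite G
  have hdvd : p ∣ Nat.card G := by
    obtain ⟨n, -, hn, hd⟩ := exists_apply_one_dvd_card χ.2
    rw [h1, Nat.cast_inj] at hn
    rwa [hn]
  have hPne : (P : Subgroup G) ≠ ⊥ := P.ne_bot_of_dvd_card hdvd
  have hvan : ∀ z : (P : Subgroup G), z ∈ center (P : Subgroup G) → (z : G) ≠ 1 →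
      (χ : G → ℂ) z = 0 := fun z hz hz1 => by
    refine vanish hab hp.out h1 hz1 fun hd => P.not_dvd_index (hd.trans (index_dvd_of_le ?_))
    intro u hu
    exact mem_centralizer_singleton_iff.2 (congrArg Subtype.val (mem_center_iff.1 hz ⟨u, hu⟩))
  have hnt : Nontrivial (P : Subgroup G) := (nontrivial_iff_ne_bot _).2 hPne
  have hZcard : Nat.card (center (P : Subgroup G)) = p := by
    have h2 := card_dvd_of_vanish (isCharacter_of_isIrrCharacter χ.2) h1
      ((center (P : Subgroup G)).map (P : Subgroup G).subtype) (by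
        rintro _ ⟨z, hz, rfl⟩ hne; exact hvan z hz hne)
    rw [card_map_of_injective (Subtype.val_injective)] at h2
    refine ((Nat.dvd_prime hp.out).1 h2).resolve_left fun h3 => ?_
    have := P.isPGroup'.center_nontrivial
    exact (Finite.one_lt_card (α := center (P : Subgroup G))).ne' h3
  have hres := isCharacter_res (P : Subgroup G) (isCharacter_of_isIrrCharacter χ.2)
  obtain ⟨m, hm, hsum⟩ := exists_mult hres
  choose d hd0 hd hdd using fun θ : IrrCharacter (P : Subgroup G) => exists_apply_one_dvd_card θ.2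
  have hp1 : p = ∑ θ, m θ * d θ := by
    have h := congrFun hsum 1
    simp only [OneMemClass.coe_one, h1, Finset.sum_apply, Pi.smul_apply, hd, smul_eq_mul] at h
    exact_mod_cast h
  by_cases hlin : ∀ θ, m θ ≠ 0 → d θ = 1
  · have hcomm : ∀ a b : (P : Subgroup G), a * b = b * a := fun a b => by
      rw [← commutatorElement_eq_one_iff_mul_comm]
      by_contra hne
      refine apply_ne hab h1 hp.out.one_lt.ne' (g := ((⁅a, b⁆ : (P : Subgroup G)) : G))
        (fun e => hne (Subtype.ext e)) ?_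
      have h := congrFun hsum ⁅a, b⁆
      suffices hh : (χ : G → ℂ) ((⁅a, b⁆ : (P : Subgroup G)) : G) = ((∑ θ, m θ * d θ : ℕ) : ℂ) by
        rw [hh, Complex.norm_natCast]
        exact congrArg (Nat.cast : ℕ → ℝ) hp1.symm
      rw [h, Finset.sum_apply, Nat.cast_sum]
      refine Finset.sum_congr rfl fun θ _ => ?_
      by_cases hθ : m θ = 0
      · simp [hθ]
      obtain ⟨lam, hlam⟩ := exists_hom_of_apply_one_eq_one (isCharacter_of_isIrrCharacter θ.2)
        (by rw [hd, hlin θ hθ, Nat.cast_one])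
      rw [Pi.smul_apply, hlam, hlin θ hθ]
      simp [commutatorElement_def, mul_comm]
    have htop : center (P : Subgroup G) = ⊤ := eq_top_iff.2 fun a _ =>
      mem_center_iff.2 fun b => hcomm b a
    have hh := hZcard
    rwa [htop, card_top] at hh
  · exfalso
    push Not at hlin
    obtain ⟨θ, hθm, hθd⟩ := hlin
    obtain ⟨j, hj⟩ := IsPGroup.iff_card.1 P.isPGroup'
    obtain ⟨i, -, hi⟩ := (Nat.dvd_prime_pow hp.out).1 (hj ▸ hdd θ)
    have hi0 : i ≠ 0 := fun e => hθd (by rw [hi, e, pow_zero])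
    have hle : p ≤ d θ := by rw [hi]; exact Nat.le_self_pow hi0 p
    have h4 := Finset.single_le_sum (f := fun θ => m θ * d θ) (fun _ _ => Nat.zero_le _)
      (Finset.mem_univ θ)
    rw [← hp1] at h4
    have hm1 : m θ * d θ = p := le_antisymm h4 (hle.trans (Nat.le_mul_of_pos_left _ (Nat.pos_of_ne_zero hθm)))
    have hrest : ∀ φ, φ ≠ θ → m φ = 0 := fun φ hne => by
      have h5 : m φ * d φ + m θ * d θ ≤ ∑ θ, m θ * d θ := by
        rw [← Finset.sum_pair (f := fun θ => m θ * d θ) hne]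
        exact Finset.sum_le_sum_of_subset (Finset.subset_univ _)
      rw [← hp1] at h5
      rcases Nat.mul_eq_zero.1 (show m φ * d φ = 0 by omega) with h | h
      · exact h
      · exact absurd h (hd0 φ).ne'
    obtain ⟨z, hz, hz1⟩ := (center (P : Subgroup G)).ne_bot_iff_exists_ne_one.1 (fun e => by
      rw [e, card_bot] at hZcard; exact hp.out.one_lt.ne hZcard) |> fun ⟨⟨z, hz⟩, h⟩ =>
        (⟨z, hz, fun e => h (Subtype.ext e)⟩ : ∃ z, z ∈ center (P : Subgroup G) ∧ z ≠ 1)
    have h := congrFun hsum z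
    rw [hvan z hz (fun e => hz1 (Subtype.ext e)), Finset.sum_apply,
      Finset.sum_eq_single θ (fun φ _ hne => by simp [hrest φ hne]) (by simp), Pi.smul_apply,
      smul_eq_mul] at h
    obtain ⟨n, ρ, hirr, hρ⟩ := θ.2
    obtain ⟨c, hc⟩ := exists_scalar_of_mem_center ρ hz
    have hn : 0 < Module.finrank ℂ (Fin n → ℂ) := finrank_pos_of_irreducible ρ
    rw [← hρ, Representation.character, hc, map_smul, LinearMap.trace_id] at h
    have hc0 : c ≠ 0 := by
      rintro rfl
      rw [zero_smul] at hc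
      have h2 : ρ (z * z⁻¹) = 0 := by rw [map_mul, hc, zero_mul]
      rw [mul_inv_cancel, map_one] at h2
      have := Module.nontrivial_of_finrank_pos hn
      exact one_ne_zero h2
    simp only [smul_eq_mul, zero_eq_mul, Nat.cast_eq_zero, hθm, false_or] at h
    exact mul_ne_zero hc0 (Nat.cast_ne_zero.2 hn.ne') h

theorem factorization_card {χ : IrrCharacter G} {p : ℕ} [hp : Fact p.Prime]
    (h1 : (χ : G → ℂ) 1 = (p : ℂ)) {H : Subgroup G} (hH : p ∣ Nat.card H) : ¬ p ∣ H.index := by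
  obtain ⟨P⟩ : Nonempty (Sylow p G) := inferInstance
  intro hd
  have h2 : p * p ∣ Nat.card G := (card_mul_index H) ▸ Nat.mul_dvd_mul hH hd
  rw [← card_mul_index (P : Subgroup G), sylow_card hab h1 P] at h2
  exact P.not_dvd_index (Nat.dvd_of_mul_dvd_mul_left hp.out.pos h2)

theorem centralizer_eq {χ : IrrCharacter G} {p : ℕ} [hp : Fact p.Prime]
    (h1 : (χ : G → ℂ) 1 = (p : ℂ)) {x : G} (hx : orderOf x = p) :
    centralizer ({x} : Set G) = zpowers x ∧ (χ : G → ℂ) x = 0 := by
  have hvan : ∀ g ∈ centralizer ({x} : Set G), g ≠ 1 → (χ : G → ℂ) g = 0 := fun g hg hg1 => by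
    refine vanish hab hp.out h1 hg1 (factorization_card hab h1 ?_)
    rw [← hx, ← Nat.card_zpowers]
    refine card_dvd_of_le (zpowers_le.2 ?_)
    exact mem_centralizer_singleton_iff.2 (mem_centralizer_singleton_iff.1 hg).symm
  have hle : zpowers x ≤ centralizer ({x} : Set G) := zpowers_le.2 (mem_centralizer_singleton_iff.2 rfl)
  refine ⟨(eq_of_le_of_card_ge hle ?_).symm, hvan x (mem_centralizer_singleton_iff.2 rfl)
    (fun e => hp.out.one_lt.ne (by rw [← hx, e, orderOf_one]))⟩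
  rw [Nat.card_zpowers, hx]
  exact Nat.le_of_dvd hp.out.pos (card_dvd_of_vanish (isCharacter_of_isIrrCharacter χ.2) h1 _ hvan)

omit [IsSimpleGroup G] hab in
theorem card_irr_of_card_prime {p : ℕ} [hp : Fact p.Prime] {A : Subgroup G} (hA : Nat.card A = p) :
    (∀ θ : IrrCharacter A, (θ : A → ℂ) 1 = 1) ∧ Nat.card (IrrCharacter A) = p := by
  have hc : ∀ a b : A, a * b = b * a := fun a b => by
    have := isCyclic_of_prime_card hA
    let _ : CommGroup A := IsCyclic.commGroup
    exact mul_comm a b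
  refine ⟨fun θ => apply_one_eq_one_of_comm hc θ.2, ?_⟩
  rw [card_irrCharacter, ← hA]
  refine (Nat.card_eq_of_bijective ConjClasses.mk ⟨fun a b e => ?_, ConjClasses.mk_surjective⟩).symm
  obtain ⟨c, hcc⟩ := isConj_iff.1 (ConjClasses.mk_eq_mk_iff_isConj.1 e)
  rw [← hcc, hc c a, mul_inv_cancel_right]

theorem exceptional {p : ℕ} [hp : Fact p.Prime] {x : G} (hx : orderOf x = p)
    {χ : IrrCharacter G} (h1 : (χ : G → ℂ) 1 = (p : ℂ))
    [Fintype (zpowers x)] {lam mu : zpowers x →* ℂˣ}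
    (hlam : lam ≠ 1) (hmu : mu ≠ 1) {ψ ψ' : IrrCharacter G} (hne : ψ ≠ ψ')
    (hψ : classInner (fun t : zpowers x => (ψ : G → ℂ) t) (fun t => (lam t : ℂ)) ≠
      classInner (fun t : zpowers x => (ψ : G → ℂ) t) (fun t => (mu t : ℂ)))
    (hψ' : classInner (fun t : zpowers x => (ψ' : G → ℂ) t) (fun t => (lam t : ℂ)) ≠
      classInner (fun t : zpowers x => (ψ' : G → ℂ) t) (fun t => (mu t : ℂ)))
    {q q' : ℕ} (hq : (ψ : G → ℂ) 1 = (q : ℂ)) (hq' : (ψ' : G → ℂ) 1 = (q' : ℂ)) : q = q' := by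
  classical
  have := Fintype.ofFinite G
  have hAc : Nat.card (zpowers x) = p := by rw [Nat.card_zpowers, hx]
  set f : (zpowers x) → ℂ := (fun t => (lam t : ℂ)) - (fun t => (mu t : ℂ)) with hf
  set Φ := indFun (zpowers x) f with hΦ
  have hcf : IsClassFunction G Φ := isClassFunction_ind (zpowers x) f
  have hgen : IsGeneralizedCharacter G Φ := ⟨_, _,
    isCharacter_ind (zpowers x) (isCharacter_linear lam), isCharacter_ind (zpowers x) (isCharacter_linear mu),
    ind_sub (zpowers x) _ _⟩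
  obtain ⟨c, hc, hcsum⟩ := exists_int_coeff hgen
  have hΦ1 : Φ 1 = 0 := by rw [hΦ, ind_one_apply, hf]; simp
  -- a coefficient is the difference of two multiplicities
  have hcoef : ∀ φ : IrrCharacter G, classInner Φ (φ : G → ℂ) =
      classInner (fun t : (zpowers x) => (φ : G → ℂ) t) (fun t => (lam t : ℂ)) -
      classInner (fun t : (zpowers x) => (φ : G → ℂ) t) (fun t => (mu t : ℂ)) := fun φ => by
    have hr := isCharacter_res (zpowers x) (isCharacter_of_isIrrCharacter φ.2)
    rw [hΦ, inner_ind_left (zpowers x) f (isClassFunction_irr φ.2), hf, classInner_sub_left,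
      classInner_comm_of_isCharacter (isCharacter_linear lam) hr,
      classInner_comm_of_isCharacter (isCharacter_linear mu) hr]
  -- the normalizer part
  let S : Finset G := Finset.univ.filter fun g => ∀ t ∈ (zpowers x), g⁻¹ * t * g ∈ (zpowers x)
  have hmem : ∀ {g : G}, g ∈ S ↔ ∀ t ∈ (zpowers x), g⁻¹ * t * g ∈ (zpowers x) := fun {g} => by simp [S]
  let cj : ∀ g : G, g ∈ S → ((zpowers x) →* (zpowers x)) := fun g hg =>
    { toFun := fun t => ⟨g⁻¹ * t * g, hmem.1 hg t t.2⟩
      map_one' := Subtype.ext (by simp)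
      map_mul' := fun a b => Subtype.ext (by simp [mul_assoc]) }
  have hcj : ∀ g (hg : g ∈ S), Function.Bijective (cj g hg) := fun g hg => by
    refine Function.Injective.bijective_of_finite fun a b e => Subtype.ext ?_
    exact mul_left_cancel (mul_right_cancel (congrArg Subtype.val e))
  have hval : ∀ t : (zpowers x), Φ t = (p : ℂ)⁻¹ * ∑ g ∈ S.attach, f (cj g.1 g.2 t) := fun t => by
    by_cases ht : t = 1
    · subst ht
      simp only [map_one, OneMemClass.coe_one, hΦ1]
      simp [hf]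
    rw [hΦ, indFun_apply, hAc]
    congr 1
    rw [← Finset.sum_subset (Finset.subset_univ S), ← Finset.sum_attach S]
    · refine Finset.sum_congr rfl fun g _ => ?_
      rw [ext_zero_of_mem f (hmem.1 g.2 t t.2)]
      rfl
    · intro g _ hg
      refine ext_zero_of_not_mem f fun hin => hg (hmem.2 fun s hs => ?_)
      obtain ⟨k, hk⟩ := mem_zpowers_of_prime_card hAc ht (g' := ⟨s, hs⟩)
      have hs' : (t : G) ^ k = s := congrArg Subtype.val hk
      have hc := @conj_zpow G _ k g⁻¹ (t : G)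
      rw [inv_inv] at hc
      rw [← hs', ← hc]
      exact zpow_mem hin _
  -- orthogonality
  have horth : ∀ a b : (zpowers x) →* ℂˣ, classInner (fun t => (a t : ℂ)) (fun t => (b t : ℂ)) =
      if a = b then 1 else 0 := fun a b => by
    rw [classInner_irr _ _ (isIrrCharacter_linear a) (isIrrCharacter_linear b)]
    refine if_congr ⟨fun e => MonoidHom.ext fun t => Units.ext (congrFun e t), fun e => e ▸ rfl⟩ rfl rfl
  have hmult : ∀ g (hg : g ∈ S) (a : (zpowers x) →* ℂˣ), classInner (fun t : (zpowers x) => (ψ : G → ℂ) t)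
      (fun t => ((a.comp (cj g hg)) t : ℂ)) =
      classInner (fun t : (zpowers x) => (ψ : G → ℂ) t) (fun t => (a t : ℂ)) := fun g hg a => by
    simp only [classInner]
    congr 1
    refine Fintype.sum_bijective _ (hcj g hg) _ _ fun t => ?_
    have : (ψ : G → ℂ) (cj g hg t : G) = (ψ : G → ℂ) t := by
      have := isClassFunction_irr ψ.2 t g⁻¹
      simpa [cj] using this
    simp [this]
  have hfix : ∀ g (hg : g ∈ S) (a : (zpowers x) →* ℂˣ), a ≠ 1 → a.comp (cj g hg) = a → g ∈ (zpowers x) := by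
    intro g hg a ha he
    have hinj : Function.Injective a := by
      rw [← MonoidHom.ker_eq_bot_iff]
      have : Fact (Nat.card (zpowers x)).Prime := ⟨hAc ▸ hp.out⟩
      refine a.ker.eq_bot_or_eq_top_of_prime_card.resolve_right fun h => ha ?_
      exact MonoidHom.ker_eq_top_iff.1 h
    have h := congrArg Subtype.val (hinj (DFunLike.congr_fun he ⟨x, mem_zpowers x⟩))
    rw [← (centralizer_eq hab h1 hx).1]
    refine mem_centralizer_singleton_iff.2 ?_
    have h' : g⁻¹ * x * g = x := h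
    rw [mul_assoc, inv_mul_eq_iff_eq_mul] at h'
    exact h'.symm
  -- norm
  have hnorm : classInner Φ Φ = 2 := by
    have h : ∀ g : {g // g ∈ S}, classInner f (fun t => f (cj g.1 g.2 t)) =
        if g.1 ∈ (zpowers x) then 2 else 0 := fun g => by
      have e : (fun t => f (cj g.1 g.2 t)) = (fun t => ((lam.comp (cj g.1 g.2)) t : ℂ)) -
          (fun t => ((mu.comp (cj g.1 g.2)) t : ℂ)) := rfl
      rw [e, hf, classInner_sub_left, classInner_sub_right, classInner_sub_right, horth, horth,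
        horth, horth]
      have n1 : lam ≠ mu.comp (cj g.1 g.2) := fun e => hψ (by rw [e, hmult _ g.2])
      have n2 : mu ≠ lam.comp (cj g.1 g.2) := fun e => hψ (by rw [e, hmult _ g.2])
      rw [if_neg n1, if_neg n2]
      by_cases hg : g.1 ∈ (zpowers x)
      · have hid : ∀ t, cj g.1 g.2 t = t := fun t => by
          obtain ⟨i, hi⟩ := mem_zpowers_iff.1 hg
          obtain ⟨j, hj⟩ := mem_zpowers_iff.1 t.2
          refine Subtype.ext ?_
          show g.1⁻¹ * (t : G) * g.1 = t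
          rw [← hi, ← hj]; group
        have e1 : lam.comp (cj g.1 g.2) = lam := MonoidHom.ext fun t => by simp [hid]
        have e2 : mu.comp (cj g.1 g.2) = mu := MonoidHom.ext fun t => by simp [hid]
        rw [if_pos e1.symm, if_pos e2.symm, if_pos hg]; norm_num
      · rw [if_neg fun e => hg (hfix _ g.2 lam hlam e.symm),
          if_neg fun e => hg (hfix _ g.2 mu hmu e.symm), if_neg hg]; norm_num
    nth_rewrite 1 [hΦ]
    rw [inner_ind_left (zpowers x) f hcf,
      show (fun t : (zpowers x) => Φ t) = (p : ℂ)⁻¹ • ∑ g ∈ S.attach, (fun t => f (cj g.1 g.2 t)) from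
        funext fun t => by rw [hval]; simp, classInner_smul_right, classInner_sum_right,
      Finset.sum_congr rfl fun g _ => h g]
    rw [Finset.sum_attach S (fun g => if g ∈ (zpowers x) then (2 : ℂ) else 0), ← Finset.sum_filter,
      Finset.sum_const, nsmul_eq_mul]
    have : (S.filter fun g => g ∈ (zpowers x)).card = p := by
      rw [← hAc, Nat.card_eq_fintype_card, ← Fintype.card_coe]
      refine Fintype.card_congr (Equiv.subtypeEquivRight fun g => ?_)
      simp only [Finset.mem_filter, and_iff_right_iff_imp]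
      exact fun hg => hmem.2 fun t ht => mul_mem (mul_mem (inv_mem hg) ht) hg
    rw [this]
    simp [hp.out.ne_zero]
  have h2 : ∑ φ, c φ * c φ = 2 := by
    have h3 := classInner_eq_sum (φ := Φ) hcf
    simp only [hnorm, hc, map_intCast] at h3
    exact_mod_cast h3.symm
  have hcψ : c ψ ≠ 0 := fun e => hψ (sub_eq_zero.1 (by rw [← hcoef, hc, e, Int.cast_zero]))
  have hcψ' : c ψ' ≠ 0 := fun e => hψ' (sub_eq_zero.1 (by rw [← hcoef, hc, e, Int.cast_zero]))
  have hsub : ∑ φ ∈ ({ψ, ψ'} : Finset (IrrCharacter G)), c φ * c φ ≤ 2 := by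
    rw [← h2]
    exact Finset.sum_le_sum_of_subset_of_nonneg (Finset.subset_univ _) fun _ _ _ => mul_self_nonneg _
  rw [Finset.sum_pair hne] at hsub
  have p1 : 1 ≤ c ψ * c ψ := mul_self_pos.2 hcψ
  have p2 : 1 ≤ c ψ' * c ψ' := mul_self_pos.2 hcψ'
  have hzero : ∀ φ, φ ≠ ψ → φ ≠ ψ' → c φ = 0 := fun φ n1 n2 => by
    have h3 : ∑ φ' ∈ ({φ, ψ, ψ'} : Finset (IrrCharacter G)), c φ' * c φ' ≤ 2 := by
      rw [← h2]
      exact Finset.sum_le_sum_of_subset_of_nonneg (Finset.subset_univ _) fun _ _ _ => mul_self_nonneg _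
    rw [Finset.sum_insert (by simp [n1, n2]), Finset.sum_pair hne] at h3
    exact mul_self_eq_zero.1 (le_antisymm (by omega) (mul_self_nonneg _))
  have h := congrFun hcsum 1
  rw [hΦ1, Finset.sum_apply, Finset.sum_eq_add (a := ψ) (b := ψ') hne
    (fun φ _ hh => by simp [hzero φ hh.1 hh.2]) (by simp) (by simp), Pi.smul_apply, Pi.smul_apply,
    hq, hq', smul_eq_mul, smul_eq_mul] at h
  have hh : c ψ * q + c ψ' * q' = 0 := by exact_mod_cast h.symm
  have hh' := congrArg Int.natAbs (eq_neg_of_add_eq_zero_left hh)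
  rw [Int.natAbs_neg, Int.natAbs_mul, Int.natAbs_mul] at hh'
  have a1 : (c ψ).natAbs = 1 := by
    have hh2 : c ψ * c ψ = 1 := by omega
    rcases Int.eq_one_or_neg_one_of_mul_eq_one hh2 with e | e <;> simp [e]
  have a2 : (c ψ').natAbs = 1 := by
    have hh2 : c ψ' * c ψ' = 1 := by omega
    rcases Int.eq_one_or_neg_one_of_mul_eq_one hh2 with e | e <;> simp [e]
  simpa [a1, a2] using hh'

include hdeg

theorem false_of_simple : False := by
  classical
  have := Fintype.ofFinite G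
  choose d hd0 hd using fun χ : IrrCharacter G => isIrrCharacter_apply_one χ.2
  have hne : ∃ χ, d χ ≠ 1 := by
    by_contra h
    push Not at h
    exact hab (comm_of_forall_apply_one fun χ => by rw [hd, h, Nat.cast_one])
  obtain ⟨χ0, hχ0, hmax⟩ := Finset.exists_max_image (Finset.univ.filter fun χ => d χ ≠ 1) d
    (by obtain ⟨χ, hχ⟩ := hne; exact ⟨χ, by simp [hχ]⟩)
  simp only [Finset.mem_filter, Finset.mem_univ, true_and] at hχ0 hmax
  have hp : (d χ0).Prime := hdeg χ0 _ (hd χ0) hχ0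
  set p := d χ0 with hp_def
  have : Fact p.Prime := ⟨hp⟩
  have h1 : (χ0 : G → ℂ) 1 = (p : ℂ) := hd χ0
  have hdvd : p ∣ Nat.card G := by
    obtain ⟨n, -, hn, hdd⟩ := exists_apply_one_dvd_card χ0.2
    rw [h1, Nat.cast_inj] at hn
    rwa [hn]
  obtain ⟨x, hx⟩ := exists_prime_orderOf_dvd_card' p hdvd
  have hx1 : x ≠ 1 := fun e => hp.one_lt.ne (by rw [← hx, e, orderOf_one])
  set A := zpowers x
  have := Fintype.ofFinite A
  obtain ⟨hA1, hAcard⟩ := card_irr_of_card_prime (A := A) (p := p) (by rw [Nat.card_zpowers, hx])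
  -- multiplicities of small characters are not constant unless `p = 3`
  have hnc : ∀ ψ : IrrCharacter G, d ψ ≠ 1 → d ψ < p → p ≠ 3 →
      ∃ lam mu : A →* ℂˣ, lam ≠ 1 ∧ mu ≠ 1 ∧
      classInner (fun t : A => (ψ : G → ℂ) t) (fun t => (lam t : ℂ)) ≠
        classInner (fun t : A => (ψ : G → ℂ) t) (fun t => (mu t : ℂ)) := by
    intro ψ hψ1 hψp hp3
    by_contra hcon
    push Not at hcon
    obtain ⟨m, hm, hsum⟩ := exists_mult (isCharacter_res A (isCharacter_of_isIrrCharacter ψ.2))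
    let T : IrrCharacter A := trivIrr A
    have hhom : ∀ θ : IrrCharacter A, ∃ lam : A →* ℂˣ, (θ : A → ℂ) = fun t => (lam t : ℂ) :=
      fun θ => exists_hom_of_apply_one_eq_one (isCharacter_of_isIrrCharacter θ.2) (hA1 θ)
    have hconst : ∀ θ θ', θ ≠ T → θ' ≠ T → m θ = m θ' := fun θ θ' n1 n2 => by
      obtain ⟨a, ha⟩ := hhom θ
      obtain ⟨b, hb⟩ := hhom θ'
      have h := hcon a b (fun e => n1 (Subtype.ext (by rw [ha, e]; rfl)))
        (fun e => n2 (Subtype.ext (by rw [hb, e]; rfl)))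
      rw [← ha, ← hb, hm, hm] at h
      exact_mod_cast h
    have h := congrFun hsum 1
    simp only [OneMemClass.coe_one, hd, Finset.sum_apply, Pi.smul_apply, hA1, smul_eq_mul, mul_one] at h
    have hq : d ψ = m T + ∑ θ ∈ Finset.univ.erase T, m θ := by
      rw [Finset.add_sum_erase _ _ (Finset.mem_univ T)]; exact_mod_cast h
    by_cases hz : ∀ θ, θ ≠ T → m θ = 0
    · refine apply_ne hab (hd ψ) hψ1 hx1 ?_
      have hs := congrFun hsum ⟨x, mem_zpowers x⟩
      rw [Finset.sum_apply, Finset.sum_eq_single T (fun θ _ n1 => by simp [hz θ n1]) (by simp),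
        Pi.smul_apply] at hs
      rw [hs, hq, Finset.sum_eq_zero fun θ hθ => hz θ (Finset.mem_erase.1 hθ).1]
      simp [T, trivIrr]
    · push Not at hz
      obtain ⟨θ0, n0, hm0⟩ := hz
      rw [Finset.sum_congr rfl (g := fun _ => m θ0) fun θ hθ => hconst θ θ0 (Finset.mem_erase.1 hθ).1 n0,
        Finset.sum_const, Finset.card_erase_of_mem (Finset.mem_univ T), Finset.card_univ,
        ← Nat.card_eq_fintype_card, hAcard, smul_eq_mul] at hq
      have hm1 : p - 1 ≤ (p - 1) * m θ0 := Nat.le_mul_of_pos_right _ (Nat.pos_of_ne_zero hm0)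
      have hqe : d ψ + 1 = p := by omega
      have hqp := hdeg ψ _ (hd ψ) hψ1
      rcases hqp.eq_two_or_odd with h2 | h2
      · exact hp3 (by omega)
      · rcases hp.eq_two_or_odd with h3 | h3 <;> have := hqp.two_le <;> omega
  have key : ∀ ψ ψ', d ψ ≠ 1 → d ψ < p → d ψ' ≠ 1 → d ψ' < p → d ψ = d ψ' := by
    intro ψ ψ' a1 b1 a2 b2
    by_cases hp3 : p = 3
    · have := (hdeg ψ _ (hd ψ) a1).two_le; have := (hdeg ψ' _ (hd ψ') a2).two_le; omega
    by_cases hne' : ψ = ψ'
    · rw [hne']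
    obtain ⟨l, u, hl, hu, hlu⟩ := hnc ψ a1 b1 hp3
    by_cases h' : classInner (fun t : A => (ψ' : G → ℂ) t) (fun t => (l t : ℂ)) =
        classInner (fun t : A => (ψ' : G → ℂ) t) (fun t => (u t : ℂ))
    · obtain ⟨r, s, hr, hs, hrs⟩ := hnc ψ' a2 b2 hp3
      obtain ⟨v, hv, hv'⟩ : ∃ v : A →* ℂˣ, v ≠ 1 ∧
          classInner (fun t : A => (ψ' : G → ℂ) t) (fun t => (v t : ℂ)) ≠
          classInner (fun t : A => (ψ' : G → ℂ) t) (fun t => (l t : ℂ)) := by
        by_contra hh
        push Not at hh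
        exact hrs ((hh r hr).trans (hh s hs).symm)
      by_cases h3 : classInner (fun t : A => (ψ : G → ℂ) t) (fun t => (v t : ℂ)) =
          classInner (fun t : A => (ψ : G → ℂ) t) (fun t => (l t : ℂ))
      · exact exceptional hab hx h1 hv hu hne' (h3 ▸ hlu) (h' ▸ hv') (hd ψ) (hd ψ')
      · exact exceptional hab hx h1 hv hl hne' h3 hv' (hd ψ) (hd ψ')
    · exact exceptional hab hx h1 hl hu hne' hlu h' (hd ψ) (hd ψ')
  obtain ⟨q, hqp, hq⟩ : ∃ q : ℕ, q.Prime ∧ ∀ ψ, d ψ ≠ 1 → d ψ < p → d ψ = q := by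
    by_cases h : ∃ ψ, d ψ ≠ 1 ∧ d ψ < p
    · obtain ⟨ψ, a1, b1⟩ := h
      exact ⟨_, hdeg ψ _ (hd ψ) a1, fun ψ' a2 b2 => key ψ' ψ a2 b2 a1 b1⟩
    · exact ⟨p, hp, fun ψ a b => absurd ⟨ψ, a, b⟩ h⟩
  -- column orthogonality
  have horth := sum_irr_mul_conj (1 : G) x
  rw [if_neg (fun e => hx1 (isConj_one_right.1 e))] at horth
  have hrest : ∀ ψ ∈ Finset.univ.erase (trivIrr G), ∃ a : ℂ, IsIntegral ℤ a ∧
      (ψ : G → ℂ) 1 * conj ((ψ : G → ℂ) x) = (q : ℂ) * a := by
    intro ψ hψ
    have hψne := (Finset.mem_erase.1 hψ).1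
    have hψ1 : d ψ ≠ 1 := fun e => hψne (Subtype.ext (by
      rw [eq_one_of_apply_one_one hab (χ := ψ) (by rw [hd, e, Nat.cast_one])]; rfl))
    rcases lt_or_eq_of_le (hmax ψ hψ1) with hlt | heq
    · refine ⟨conj ((ψ : G → ℂ) x), ?_, by rw [hd, hq ψ hψ1 hlt]⟩
      rw [← isCharacter_inv (isCharacter_of_isIrrCharacter ψ.2)]
      exact isCharacter_integral (isCharacter_of_isIrrCharacter ψ.2) _
    · refine ⟨0, isIntegral_zero, ?_⟩
      rw [(centralizer_eq hab (χ := ψ) (by rw [hd, heq]) hx).2, map_zero, mul_zero, mul_zero]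
  choose! a ha hae using hrest
  rw [← Finset.add_sum_erase _ _ (Finset.mem_univ (trivIrr G)), Finset.sum_congr rfl hae,
    ← Finset.mul_sum] at horth
  have hint : IsIntegral ℤ (((1 : ℕ) : ℂ) / q) := by
    have hh : ((1 : ℕ) : ℂ) / q = -∑ ψ ∈ Finset.univ.erase (trivIrr G), a ψ := by
      rw [div_eq_iff (Nat.cast_ne_zero.2 hqp.ne_zero), Nat.cast_one]
      simp only [trivIrr, map_one, mul_one] at horth ⊢
      linear_combination horth
    rw [hh]
    exact (IsIntegral.sum _ ha).neg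
  exact hqp.one_lt.ne' (Nat.dvd_one.1 (dvd_of_isIntegral_div hqp.ne_zero hint))

end simple

theorem solvable_of_prime_degrees : ∀ (N : ℕ) (G : Type u) [Group G] [Finite G], Nat.card G = N →
    (∀ χ : IrrCharacter G, ∀ n : ℕ, (χ : G → ℂ) 1 = (n : ℂ) → n ≠ 1 → n.Prime) →
    Group.IsSolvable G := by
  intro N
  induction N using Nat.strong_induction_on with
  | _ N ih =>
    intro G _ _ hN hdeg
    by_cases hab : ∀ a b : G, a * b = b * a
    · exact Group.isSolvable_of_comm hab
    by_cases hsim : IsSimpleGroup G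
    · exact (false_of_simple hab hdeg).elim
    have : Nontrivial G := by
      by_contra hh; rw [not_nontrivial_iff_subsingleton] at hh; exact hab fun a b => Subsingleton.elim _ _
    obtain ⟨M, hMn, hMb, hMt⟩ : ∃ M : Subgroup G, M.Normal ∧ M ≠ ⊥ ∧ M ≠ ⊤ := by
      by_contra hh
      push Not at hh
      exact hsim ⟨fun M hM => (em (M = ⊥)).imp_right (hh M hM)⟩
    have := hMn
    have h1 : Group.IsSolvable M := by
      refine ih _ (hN ▸ lt_of_le_of_ne (card_le_card_group M) fun e => hMt (eq_top_of_card_eq M e)) M rfl ?_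
      intro θ n hn hn1
      obtain ⟨χ, a, b, ha, hb, hba⟩ := degree_dvd_of_normal M θ.2
      rw [hn, Nat.cast_inj] at hb
      subst hb
      by_cases ha1 : a = 1
      · exact absurd (Nat.dvd_one.1 (ha1 ▸ hba)) hn1
      · exact ((Nat.dvd_prime (hdeg χ a ha ha1)).1 hba).resolve_left hn1 ▸ hdeg χ a ha ha1
    have h2 : Group.IsSolvable (G ⧸ M) := by
      refine ih _ (hN ▸ ?_) (G ⧸ M) rfl fun θ n hn hn1 =>
        hdeg ⟨_, isIrrCharacter_comap (QuotientGroup.mk' M) (QuotientGroup.mk'_surjective M) θ.2⟩ n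
          (by simpa using hn) hn1
      rw [← Subgroup.index_eq_card, ← card_mul_index M]
      exact lt_mul_of_one_lt_left (Nat.pos_of_ne_zero index_ne_zero_of_finite) (M.one_lt_card_iff_ne_bot.2 hMb)
    exact (Group.isSolvable_iff_subgroup_quotient M).2 ⟨h1, h2⟩

theorem result {G : Type*} [Group G] [Finite G] (h : ∀ χ : Cfsg.IrrCharacter G, Cfsg.charDegree (χ : G → ℂ) ≠ 1 → (Cfsg.charDegree (χ : G → ℂ)).Prime) : Group.IsSolvable G := by
  refine solvable_of_prime_degrees _ G rfl fun χ n hn hn1 => ?_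
  have e := charDegree_eq hn
  exact e ▸ h χ (by rw [e]; exact hn1)

end Cfsg.Agent.S4466
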