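import Cfsg.Statements.S4811
import Mathlib
import Cfsg.Agent.S4466
import Cfsg.Agent.Lib.CharGallagher
import Cfsg.Agent.Lib.CharProjDegree
import Cfsg.Agent.Lib.CharInducedCorr
import Cfsg.Agent.Lib.PGroupsBasic

set_option autoImplicit false
open Cfsg

namespace Cfsg.Agent.S4811

section
open Cfsg.Agent.CharBasic Cfsg.Agent.CharBasicOrth Cfsg.Agent.CharBasicDecomp Cfsg.Agent.CharBasicLinear
open Cfsg.Agent.CharBasicInt Cfsg.Agent.CharInduced
open Subgroup
open scoped ComplexConjugate commutatorElement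

universe u

theorem sep {G : Type u} [Group G] [Finite G] (K : Subgroup G) [K.Normal]
    (hc : ∀ a b : G, ⁅a, b⁆ ∈ K) {n : G} (hn : n ∉ K) :
    ∃ lam : G →* ℂˣ, (∀ k ∈ K, lam k = 1) ∧ lam n ≠ 1 := by
  let _ : CommGroup (G ⧸ K) := { (inferInstance : Group (G ⧸ K)) with
    mul_comm := fun a b => by
      induction a using QuotientGroup.induction_on with
      | H a =>
        induction b using QuotientGroup.induction_on with
        | H b =>
          have h := (QuotientGroup.eq_one_iff _).2 (hc a b)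
          rw [← QuotientGroup.mk'_apply, map_commutatorElement,
            commutatorElement_eq_one_iff_mul_comm] at h
          exact h }
  obtain ⟨φ, hφ⟩ := CommGroup.exists_apply_ne_one_of_hasEnoughRootsOfUnity (G ⧸ K) ℂ
    (a := QuotientGroup.mk' K n) (fun h => hn ((QuotientGroup.eq_one_iff n).1 h))
  exact ⟨φ.comp (QuotientGroup.mk' K), fun k hk => by
    rw [MonoidHom.comp_apply, QuotientGroup.mk'_apply, (QuotientGroup.eq_one_iff k).2 hk, map_one], hφ⟩

/-- A constituent vanishing off `K` has degree divisible by every prime divisor of `|N : K|`. -/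
theorem prime_dvd_of_vanish {N : Type u} [Group N] [Finite N] (K' : Subgroup N) [K'.Normal]
    {ψ : N → ℂ} (hψ : IsIrrCharacter N ψ) {d : ℕ} (hd : ψ 1 = (d : ℂ))
    (hvan : ∀ x : N, x ∉ K' → ψ x = 0) {q : ℕ} (hq : q.Prime) (hqd : q ∣ K'.index) : q ∣ d := by
  classical
  have := Fintype.ofFinite N
  have := Fintype.ofFinite K'
  obtain ⟨θ, hθ, hθne⟩ := exists_constituent (isCharacter_res K' (isCharacter_of_isIrrCharacter hψ))
    (fun h => isIrrCharacter_apply_one_ne_zero hψ (by simpa using congrFun h 1))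
  have hc := clifford K' hψ hθ hθne
  obtain ⟨e, he⟩ := classInner_isCharacter (isCharacter_res K' (isCharacter_of_isIrrCharacter hψ))
    (isCharacter_of_isIrrCharacter hθ)
  obtain ⟨t, -, ht⟩ := isIrrCharacter_apply_one hθ
  set O := orbitFin K' θ with hO
  have hOirr : ∀ φ ∈ O, IsIrrCharacter K' φ := fun φ hφ => by
    obtain ⟨g, rfl⟩ := (mem_orbitFin K').1 hφ; exact isIrrCharacter_conjFun K' hθ g
  have hdeq : d = e * O.card * t := by
    have h := congrFun hc 1
    rw [Pi.smul_apply, Finset.sum_apply, he, Finset.sum_congr rfl (g := fun _ => (t : ℂ))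
      (fun φ hφ => by
        obtain ⟨g, rfl⟩ := (mem_orbitFin K').1 hφ
        simp [conjFun]; exact ht)] at h
    simp only [Finset.sum_const, nsmul_eq_mul, smul_eq_mul, OneMemClass.coe_one, hd] at h
    have h' : (d : ℂ) = ((e * O.card * t : ℕ) : ℂ) := by rw [h]; push_cast; ring
    exact_mod_cast h'
  have hnorm : classInner (fun k : K' => ψ k) (fun k : K' => ψ k) = ((e * e * O.card : ℕ) : ℂ) := by
    rw [hc, he, classInner_smul_left, classInner_smul_right, classInner_sum_left,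
      Finset.sum_congr rfl (g := fun _ => (1 : ℂ)) (fun φ hφ => by
        rw [classInner_sum_right, Finset.sum_eq_single φ
          (fun φ' hφ' hne => classInner_irr_ne (hOirr φ hφ) (hOirr φ' hφ') hne.symm)
          (fun h => absurd hφ h), classInner_irr_self (hOirr φ hφ)])]
    simp only [Finset.sum_const, nsmul_eq_mul, mul_one, map_natCast]
    push_cast; ring
  have hrel : K'.index = e * e * O.card := by
    have h1 := card_mul_classInner ψ ψ
    rw [classInner_irr_self hψ, mul_one] at h1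
    have h2 := card_mul_classInner (fun k : K' => ψ k) (fun k : K' => ψ k)
    rw [hnorm] at h2
    have h3 : (Nat.card N : ℂ) = (Nat.card K' : ℂ) * ((e * e * O.card : ℕ) : ℂ) := by
      rw [h1, h2, ← Finset.sum_subset (Finset.subset_univ (Finset.univ.filter fun x : N => x ∈ K'))
        (fun x _ hx => by rw [hvan x (by simpa using hx), zero_mul])]
      exact (Finset.sum_subtype _ (by simp) _)
    rw [← Nat.cast_mul, Nat.cast_inj, ← card_mul_index K'] at h3
    exact Nat.eq_of_mul_eq_mul_left Nat.card_pos h3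
  have hdd : q ∣ d * d := by
    refine hqd.trans ?_
    rw [hrel, hdeq]
    exact ⟨O.card * t * t, by ring⟩
  exact (hq.dvd_mul.1 hdd).elim id id

/-- Isaacs 12.4 for an invariant character. -/
theorem induce_or_dvd {G : Type u} [Group G] [Finite G] (N K : Subgroup G) [N.Normal] [K.Normal]
    (hKN : K < N) (hmin : ∀ R : Subgroup G, R.Normal → K ≤ R → R ≤ N → R = K ∨ R = N)
    (hcomm : ∀ a ∈ N, ∀ b ∈ N, ⁅a, b⁆ ∈ K) (hGN : ∀ a b : G, ⁅a, b⁆ ∈ N)
    (hfpf : ∀ x : G, x ∉ N → ∃ n ∈ N, ⁅x, n⁆ ∉ K)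
    {ψ : N → ℂ} (hψ : IsIrrCharacter N ψ) {d : ℕ} (hd : ψ 1 = (d : ℂ))
    (hψc : ∀ (g : G) (m : N), ψ (MulAut.conjNormal g m) = ψ m) :
    (∀ q : ℕ, q.Prime → q ∣ K.relIndex N → q ∣ d) ∨ N.index * d ∈ Cfsg.charDegrees G := by
  classical
  have := Fintype.ofFinite G
  have := Fintype.ofFinite N
  by_cases hvan : ∀ x : N, (x : G) ∉ K → ψ x = 0
  · exact Or.inl fun q hq hqd => prime_dvd_of_vanish (K.subgroupOf N) hψ hd
      (fun x hx => hvan x (by simpa [mem_subgroupOf] using hx)) hq hqd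
  right
  push Not at hvan
  obtain ⟨x0, hx0, hx0'⟩ := hvan
  let R : (N →* ℂˣ) → Subgroup G := fun lam =>
    { carrier := {x | ∃ hx : x ∈ N, ∀ y : G, lam (MulAut.conjNormal y ⟨x, hx⟩) = 1}
      one_mem' := ⟨one_mem N, fun y => by
        rw [show (⟨1, one_mem N⟩ : N) = 1 from rfl, map_one, map_one]⟩
      mul_mem' := fun {a b} ⟨ha, ha'⟩ ⟨hb, hb'⟩ => ⟨mul_mem ha hb, fun y => by
        rw [show (⟨a * b, mul_mem ha hb⟩ : N) = ⟨a, ha⟩ * ⟨b, hb⟩ from rfl, map_mul, map_mul, ha', hb', mul_one]⟩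
      inv_mem' := fun {a} ⟨ha, ha'⟩ => ⟨inv_mem ha, fun y => by
        rw [show (⟨a⁻¹, inv_mem ha⟩ : N) = (⟨a, ha⟩ : N)⁻¹ from rfl, map_inv, map_inv, ha', inv_one]⟩ }
  have hR : ∀ lam : N →* ℂˣ, (∀ k : N, (k : G) ∈ K → lam k = 1) → lam ≠ 1 → R lam = K := by
    intro lam hlK hlam
    have hRn : (R lam).Normal := ⟨fun x ⟨hx, hx'⟩ g => ⟨‹N.Normal›.conj_mem x hx g, fun y => by
      have h := hx' (y * g)
      rw [map_mul, MulAut.mul_apply] at h
      exact h⟩⟩
    refine (hmin _ hRn (fun x hx => ⟨hKN.le hx, fun y => hlK _ (by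
      rw [MulAut.conjNormal_apply]; exact ‹K.Normal›.conj_mem x hx y)⟩) (fun x hx => hx.1)).resolve_right
      fun h => hlam (MonoidHom.ext fun u => by
        have hu : (u : G) ∈ R lam := by rw [h]; exact u.2
        obtain ⟨_, h'⟩ := hu
        have h'' := h' 1
        rwa [map_one, MulAut.one_apply] at h'')
  have hsub : ∀ {a b : N}, (a : G) * (b : G)⁻¹ ∈ K → ∀ lam : N →* ℂˣ, (∀ k : N, (k : G) ∈ K → lam k = 1) →
      lam a = lam b := by
    intro a b hab lam hlK
    have := hlK (a * b⁻¹) hab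
    rwa [map_mul, map_inv, mul_inv_eq_one] at this
  have hstab : ∀ lam : N →* ℂˣ, (∀ k : N, (k : G) ∈ K → lam k = 1) → lam ≠ 1 → ∀ t : G,
      (∀ m : N, lam (MulAut.conjNormal t m) = lam m) → t ∈ N := by
    intro lam hlK hlam t ht
    by_contra htN
    obtain ⟨n, hn, hnK⟩ := hfpf t htN
    refine hnK (hR lam hlK hlam ▸ (show ⁅t, n⁆ ∈ R lam from ⟨hGN t n, fun y => ?_⟩))
    have e : (⟨⁅t, n⁆, hGN t n⟩ : N) = MulAut.conjNormal t ⟨n, hn⟩ * (⟨n, hn⟩ : N)⁻¹ :=
      Subtype.ext (by simp [commutatorElement_def])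
    rw [e, map_mul, map_mul, map_inv, map_inv, mul_inv_eq_one]
    refine (hsub (b := MulAut.conjNormal t (MulAut.conjNormal y ⟨n, hn⟩)) ?_ lam hlK).trans (ht _)
    simp only [MulAut.conjNormal_apply]
    have h3 := hcomm _ (hGN y t) _ (‹N.Normal›.conj_mem n hn (t * y))
    have e3 : y * (t * n * t⁻¹) * y⁻¹ * (t * (y * n * y⁻¹) * t⁻¹)⁻¹ =
        ⁅⁅y, t⁆, t * y * n * (t * y)⁻¹⁆ := by
      simp only [commutatorElement_def]; group
    rwa [e3]
  have hU : ∀ ν : N →* ℂˣ, (∀ k : N, (k : G) ∈ K → ν k = 1) → (∀ m : N, ψ m * (ν m : ℂ) = ψ m) → ν = 1 := by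
    intro ν hνK hν
    by_contra hne
    obtain ⟨y, hy⟩ : ∃ y : G, ν (MulAut.conjNormal y x0) ≠ 1 := by
      by_contra hh
      push Not at hh
      exact hx0 (hR ν hνK hne ▸ (show (x0 : G) ∈ R ν from ⟨x0.2, hh⟩))
    have h := hν (MulAut.conjNormal y x0)
    rw [hψc] at h
    exact hy (Units.ext (by simpa [hx0'] using h))
  obtain ⟨lam, hlK, hlx⟩ := sep (K.subgroupOf N) (fun u v => hcomm u u.2 v v.2) (n := x0) hx0
  replace hlK : ∀ k : N, (k : G) ∈ K → lam k = 1 := fun k hk => hlK k hk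
  have hlam : lam ≠ 1 := fun h => hlx (by rw [h]; rfl)
  have hφ : IsIrrCharacter N (fun m => ψ m * (lam m : ℂ)) := isIrrCharacter_mul_linear hψ lam
  set φ : N → ℂ := fun m => ψ m * (lam m : ℂ) with hφd
  have hT : inertia N φ = N := by
    refine le_antisymm (fun t ht => ?_) (le_inertia N (isClassFunction_irr hφ))
    refine hstab lam hlK hlam t fun m => ?_
    set ν : N →* ℂˣ := (lam.comp (MulAut.conjNormal t).toMonoidHom) * lam⁻¹ with hν
    have hν1 : ν = 1 := hU ν (fun k hk => by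
      have hk' : ((MulAut.conjNormal t k : N) : G) ∈ K := by
        rw [MulAut.conjNormal_apply]; exact ‹K.Normal›.conj_mem _ hk t
      simp [ν, hlK k hk, hlK _ hk']) (fun m => by
      have h := (mem_inertia_iff N).1 ht m
      change ψ (MulAut.conjNormal t m) * (lam (MulAut.conjNormal t m) : ℂ) = ψ m * (lam m : ℂ) at h
      rw [hψc] at h
      simp only [ν, MonoidHom.mul_apply, MonoidHom.comp_apply, MonoidHom.inv_apply, Units.val_mul,
        MulEquiv.coe_toMonoidHom]
      rw [← mul_assoc, h, mul_assoc, Units.mul_inv, mul_one])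
    have := congrArg (fun f : N →* ℂˣ => f m) hν1
    simpa [ν, mul_inv_eq_one] using this
  have h1 : IsIrrCharacter G (indFun N φ) := isIrrCharacter_iff.2
    ⟨isCharacter_ind N (isCharacter_of_isIrrCharacter hφ), by
      rw [classInner_ind_self N hφ, hT, div_self (Nat.cast_ne_zero.2 Nat.card_pos.ne')]⟩
  refine ⟨⟨_, h1⟩, S4466.charDegree_eq ?_⟩
  show indFun N φ 1 = _
  rw [ind_one_apply, hφd, Nat.cast_mul]
  simp [hd]

/-- Isaacs 12.3 for a solvable group. -/
theorem minimal_quotient {Q : Type u} [Group Q] [Finite Q] [Group.IsSolvable Q]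
    (hnc : ¬ ∀ a b : Q, a * b = b * a)
    (hmax : ∀ R : Subgroup Q, R.Normal → R ≠ ⊥ → ∀ a b : Q, ⁅a, b⁆ ∈ R) :
    (∃ p : ℕ, p.Prime ∧ IsPGroup p Q) ∨
      ((commutator Q) ≠ ⊥ ∧ (commutator Q) ≠ ⊤ ∧
        (∀ R : Subgroup Q, R.Normal → R ≤ commutator Q → R = ⊥ ∨ R = commutator Q) ∧
        (∀ a ∈ commutator Q, ∀ b ∈ commutator Q, a * b = b * a) ∧
        ∀ x : Q, x ∉ commutator Q → ∃ m ∈ commutator Q, ⁅x, m⁆ ≠ 1) := by
  classical
  set M := commutator Q with hM
  have hcm : ∀ a b : Q, ⁅a, b⁆ ∈ M := fun a b => commutator_mem_commutator (mem_top a) (mem_top b)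
  have hmin : ∀ R : Subgroup Q, R.Normal → R ≠ ⊥ → M ≤ R := fun R hR hb => by
    rw [hM, _root_.commutator_def, commutator_le]
    exact fun a _ b _ => hmax R hR hb a b
  have hMb : M ≠ ⊥ := fun h => hnc fun a b => commutatorElement_eq_one_iff_mul_comm.1 (mem_bot.1 (h ▸ hcm a b))
  have hMab : ∀ a ∈ M, ∀ b ∈ M, a * b = b * a := by
    intro a ha b hb
    by_contra hne
    have h2 : (⁅M, M⁆ : Subgroup Q) ≠ ⊥ := fun h => hne (commutatorElement_eq_one_iff_mul_comm.1
      (mem_bot.1 (h ▸ commutator_mem_commutator ha hb)))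
    exact (IsSolvable.commutator_lt_of_ne_bot hMb).not_ge (hmin _ inferInstance h2)
  by_cases hcen : M ≤ center Q
  · left
    have hnil : Group.IsNilpotent Q := by
      have h1 : Group.IsNilpotent (Q ⧸ center Q) := by
        let _ : CommGroup (Q ⧸ center Q) := { (inferInstance : Group (Q ⧸ center Q)) with
          mul_comm := fun a b => by
            induction a using QuotientGroup.induction_on with
            | H a =>
              induction b using QuotientGroup.induction_on with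
              | H b =>
                have h := (QuotientGroup.eq_one_iff _).2 (hcen (hcm a b))
                rw [← QuotientGroup.mk'_apply, map_commutatorElement,
                  commutatorElement_eq_one_iff_mul_comm] at h
                exact h }
        infer_instance
      exact Group.of_quotient_center_nilpotent h1
    have hnt : Nontrivial Q := by
      by_contra hh; rw [not_nontrivial_iff_subsingleton] at hh; exact hnc fun a b => Subsingleton.elim _ _
    set p := (Nat.card Q).minFac with hp_def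
    have hp : p.Prime := Nat.minFac_prime Finite.one_lt_card.ne'
    refine ⟨p, hp, ?_⟩
    have : Fact p.Prime := ⟨hp⟩
    obtain ⟨P⟩ : Nonempty (Sylow p Q) := inferInstance
    refine IsPGroup.of_card (n := (Nat.card Q).primeFactorsList.length) (Nat.eq_prime_pow_of_unique_prime_dvd Nat.card_pos.ne' ?_)
    intro r hr hrd
    by_contra hne
    have : Fact r.Prime := ⟨hr⟩
    obtain ⟨R⟩ : Nonempty (Sylow r Q) := inferInstance
    have hP := P.normal_of_normalizerCondition Group.normalizerCondition_of_isNilpotent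
    have hR := R.normal_of_normalizerCondition Group.normalizerCondition_of_isNilpotent
    refine hMb (eq_bot_iff.2 ((le_inf (hmin _ hP (P.ne_bot_of_dvd_card (Nat.minFac_dvd _)))
      (hmin _ hR (R.ne_bot_of_dvd_card hrd))).trans ?_))
    exact (P.isPGroup'.disjoint_of_ne p r (Ne.symm hne) _ _ R.isPGroup').le_bot
  right
  have hminM : ∀ R : Subgroup Q, R.Normal → R ≤ M → R = ⊥ ∨ R = M := fun R hR hle =>
    (em (R = ⊥)).imp_right fun hb => le_antisymm hle (hmin R hR hb)
  refine ⟨hMb, fun h => hnc fun a b => hMab a (h ▸ mem_top a) b (h ▸ mem_top b), hminM, hMab, ?_⟩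
  have hZ : center Q = ⊥ := by
    by_contra hb
    exact hcen (hmin _ inferInstance hb)
  intro c hc
  by_contra hcon
  push Not at hcon
  have hcC : ∀ m ∈ M, c * m = m * c := fun m hm => commutatorElement_eq_one_iff_mul_comm.1 (hcon m hm)
  -- an element not centralizing M
  obtain ⟨x, m0, hm0, hxm⟩ : ∃ x, ∃ m0 ∈ M, ⁅x, m0⁆ ≠ 1 := by
    by_contra hh
    push Not at hh
    exact hcen fun m hm => mem_center_iff.2 fun g => commutatorElement_eq_one_iff_mul_comm.1 (hh g m hm)
  let CM : Subgroup Q := M ⊓ centralizer {x}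
  have hCMn : CM.Normal := ⟨fun m ⟨hm, hmx⟩ y => by
    have hmy := (inferInstance : M.Normal).conj_mem m hm y
    refine ⟨hmy, mem_centralizer_singleton_iff.2 ?_⟩
    have h1 : m * x = x * m := mem_centralizer_singleton_iff.1 hmx
    have h2 := hMab _ (hcm x y) _ ((inferInstance : M.Normal).conj_mem m hm (y * x))
    have h3 : x * (y * m * y⁻¹) * x⁻¹ = y * m * y⁻¹ := by
      calc x * (y * m * y⁻¹) * x⁻¹ = ⁅x, y⁆ * (y * x * m * (y * x)⁻¹) * ⁅x, y⁆⁻¹ := by
            rw [commutatorElement_def]; group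
        _ = y * x * m * (y * x)⁻¹ := by rw [h2, mul_inv_cancel_right]
        _ = y * (x * m) * (x⁻¹ * y⁻¹) := by group
        _ = y * (m * x) * (x⁻¹ * y⁻¹) := by rw [h1]
        _ = y * m * y⁻¹ := by group
    exact (mul_inv_eq_iff_eq_mul.1 h3).symm⟩
  have hCM : CM = ⊥ := (hminM CM hCMn inf_le_left).resolve_right fun h => hxm
    (commutatorElement_eq_one_iff_mul_comm.2
      (mem_centralizer_singleton_iff.1 (h ▸ hm0 : m0 ∈ CM).2).symm)
  let f : M → M := fun m => ⟨⁅(m : Q), x⁆, hcm m x⟩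
  have hf : Function.Injective f := by
    intro a b e
    have e' := congrArg Subtype.val e
    simp only [f, commutatorElement_def, mul_left_inj] at e'
    have hmem : (b : Q)⁻¹ * a ∈ CM := by
      refine ⟨M.mul_mem (M.inv_mem b.2) a.2, mem_centralizer_singleton_iff.2 ?_⟩
      have := congrArg (fun z => (b : Q)⁻¹ * z * a) e'
      rw [show (b : Q)⁻¹ * (a * x * (a : Q)⁻¹) * a = (b : Q)⁻¹ * a * x by group,
        show (b : Q)⁻¹ * ((b : Q) * x * (b : Q)⁻¹) * a = x * ((b : Q)⁻¹ * a) by group] at this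
      exact this
    rw [hCM, mem_bot, inv_mul_eq_one] at hmem
    exact Subtype.ext hmem.symm
  obtain ⟨m, hm⟩ := (Finite.injective_iff_surjective.1 hf) ⟨⁅c, x⁆, hcm c x⟩
  have hm' : ⁅(m : Q), x⁆ = ⁅c, x⁆ := congrArg Subtype.val hm
  -- d = m⁻¹ c commutes with x and centralizes M
  set d := (m : Q)⁻¹ * c with hd
  have hdM : ∀ n ∈ M, d * n = n * d := fun n hn => by
    rw [hd, mul_assoc, hcC n hn, ← mul_assoc, hMab _ (inv_mem m.2) n hn, mul_assoc]
  have hdx : d * x = x * d := by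
    simp only [commutatorElement_def, mul_left_inj] at hm'
    have := congrArg (fun z => (m : Q)⁻¹ * z * c) hm'
    rw [show (m : Q)⁻¹ * (c * x * c⁻¹) * c = d * x by rw [hd]; group,
      show (m : Q)⁻¹ * ((m : Q) * x * (m : Q)⁻¹) * c = x * d by rw [hd]; group] at this
    exact this.symm
  have hdc : d ∈ center Q := by
    refine mem_center_iff.2 fun y => (commutatorElement_eq_one_iff_mul_comm.1 ?_).symm
    have hmem : ⁅d, y⁆ ∈ CM := by
      refine ⟨hcm d y, mem_centralizer_singleton_iff.2 ?_⟩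
      have h1 : d * ⁅x, y⁆ = ⁅x, y⁆ * d := hdM _ (hcm x y)
      have h2 : ⁅x, y⁆ * ⁅d, y⁆ = ⁅d, y⁆ * ⁅x, y⁆ := hMab _ (hcm x y) _ (hcm d y)
      have h3 : x * ⁅d, y⁆ * x⁻¹ = ⁅d, y⁆ := by
        have hdx' : x * d * x⁻¹ = d := by rw [← hdx, mul_inv_cancel_right]
        calc x * ⁅d, y⁆ * x⁻¹ = ⁅x * d * x⁻¹, ⁅x, y⁆ * y⁆ := by
              simp only [commutatorElement_def]; group
          _ = d * ⁅x, y⁆ * y * d⁻¹ * y⁻¹ * ⁅x, y⁆⁻¹ := by
              rw [hdx']; simp only [commutatorElement_def]; group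
          _ = ⁅x, y⁆ * ⁅d, y⁆ * ⁅x, y⁆⁻¹ := by
              rw [h1]; simp only [commutatorElement_def]; group
          _ = ⁅d, y⁆ := by rw [h2, mul_inv_cancel_right]
      exact (mul_inv_eq_iff_eq_mul.1 h3).symm
    rwa [hCM, mem_bot] at hmem
  rw [hZ, mem_bot, hd, inv_mul_eq_one] at hdc
  exact hc (hdc ▸ m.2)

theorem reach {G : Type u} [Group G] {r s : Cfsg.degreePrimes G}
    (h : ∃ d ∈ Cfsg.charDegrees G, (r : ℕ) ∣ d ∧ (s : ℕ) ∣ d) :
    ((Cfsg.degreeGraph G).induce (Cfsg.degreePrimes G)).Reachable r s := by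
  rcases eq_or_ne r s with rfl | hne
  · exact SimpleGraph.Reachable.refl _
  · obtain ⟨d, hd, h1, h2⟩ := h
    have hne' : (r : ℕ) ≠ s := fun e => hne (Subtype.ext e)
    refine SimpleGraph.Adj.reachable (show (Cfsg.degreeGraph G).Adj r s from ?_)
    exact ⟨hne', r.2.1, s.2.1, d, hd, ((Nat.coprime_primes r.2.1 s.2.1).2 hne').mul_dvd_of_dvd_of_dvd h1 h2⟩

theorem two_targets {G : Type u} [Group G] [Finite G] [Group.IsSolvable G]
    (hab : ¬ ∀ a b : G, a * b = b * a) :
    ∃ u w : Cfsg.degreePrimes G, ∀ r : Cfsg.degreePrimes G,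
      ((Cfsg.degreeGraph G).induce (Cfsg.degreePrimes G)).Reachable r u ∨
      ((Cfsg.degreeGraph G).induce (Cfsg.degreePrimes G)).Reachable r w := by
  classical
  have := Fintype.ofFinite G
  obtain ⟨K, ⟨hKn, hK⟩, hKmax⟩ := Finset.exists_max_image
    (Finset.univ.filter fun K : Subgroup G => K.Normal ∧ ¬ ∀ a b : G, ⁅a, b⁆ ∈ K)
    (fun K => Nat.card K) ⟨⊥, by
      simp only [Finset.mem_filter, Finset.mem_univ, true_and]
      exact ⟨inferInstance, fun h => hab fun a b => commutatorElement_eq_one_iff_mul_comm.1 (mem_bot.1 (h a b))⟩⟩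
    |> fun ⟨K, hK, hm⟩ => (⟨K, (Finset.mem_filter.1 hK).2, hm⟩ :
      ∃ K : Subgroup G, (K.Normal ∧ ¬ ∀ a b : G, ⁅a, b⁆ ∈ K) ∧ ∀ K' ∈ (Finset.univ.filter
        fun K : Subgroup G => K.Normal ∧ ¬ ∀ a b : G, ⁅a, b⁆ ∈ K), Nat.card K' ≤ Nat.card K)
  have := hKn
  haveI : Group.IsSolvable (G ⧸ K) := Group.isSolvable_of_surjective (QuotientGroup.mk'_surjective K)
  have hmemK : ∀ a b : G, ⁅QuotientGroup.mk' K a, QuotientGroup.mk' K b⁆ = 1 ↔ ⁅a, b⁆ ∈ K := fun a b => by
    rw [← map_commutatorElement]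
    exact QuotientGroup.eq_one_iff _
  have hqnc : ¬ ∀ a b : G ⧸ K, a * b = b * a := fun h => hK fun a b =>
    (hmemK a b).1 (commutatorElement_eq_one_iff_mul_comm.2 (h _ _))
  have hqmax : ∀ R : Subgroup (G ⧸ K), R.Normal → R ≠ ⊥ → ∀ a b : G ⧸ K, ⁅a, b⁆ ∈ R := by
    intro R hR hb a b
    obtain ⟨a, rfl⟩ := QuotientGroup.mk'_surjective K a
    obtain ⟨b, rfl⟩ := QuotientGroup.mk'_surjective K b
    rw [← map_commutatorElement]
    by_contra hne
    have hle : K ≤ R.comap (QuotientGroup.mk' K) := fun k hk => by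
      rw [mem_comap, (show QuotientGroup.mk' K k = 1 from (QuotientGroup.eq_one_iff k).2 hk)]; exact one_mem R
    have heq := eq_of_le_of_card_ge hle (hKmax _ (Finset.mem_filter.2 ⟨Finset.mem_univ _,
      inferInstance, fun h => hne (h a b)⟩))
    refine hb (eq_bot_iff.2 fun y hy => ?_)
    obtain ⟨y, rfl⟩ := QuotientGroup.mk'_surjective K y
    exact mem_bot.2 ((QuotientGroup.eq_one_iff y).2 (heq ▸ hy))
  have hdeg : ∀ {a : ℕ} {χ : IrrCharacter G}, (χ : G → ℂ) 1 = (a : ℂ) → a ∈ Cfsg.charDegrees G :=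
    fun {a χ} ha => ⟨χ, S4466.charDegree_eq ha⟩
  have getdeg : ∀ r : Cfsg.degreePrimes G, ∃ (χ : IrrCharacter G) (a : ℕ),
      (χ : G → ℂ) 1 = (a : ℂ) ∧ (r : ℕ) ∣ a := by
    rintro ⟨r, hr, d, ⟨χ, rfl⟩, hrd⟩
    obtain ⟨a, -, ha⟩ := isIrrCharacter_apply_one χ.2
    exact ⟨χ, a, ha, by simpa [S4466.charDegree_eq ha] using hrd⟩
  rcases minimal_quotient hqnc hqmax with ⟨p, hp, hP⟩ | ⟨hMb, hMt, hMmin, hMab, hMf⟩
  · haveI : Fact p.Prime := ⟨hp⟩
    obtain ⟨j, hj⟩ := IsPGroup.iff_card.1 hP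
    have hidx : K.index = p ^ j := by rw [Subgroup.index_eq_card, hj]
    obtain ⟨β0, hβ0⟩ : ∃ β0 : IrrCharacter (G ⧸ K), (β0 : G ⧸ K → ℂ) 1 ≠ 1 := by
      by_contra hh
      push Not at hh
      exact hqnc (comm_of_forall_apply_one hh)
    obtain ⟨b, hb, hb1⟩ := isIrrCharacter_apply_one β0.2
    obtain ⟨b', -, hb', hbd⟩ := exists_apply_one_dvd_card β0.2
    rw [hb1, Nat.cast_inj] at hb'
    subst hb'
    have hbp : p ∣ b := by
      obtain ⟨i, -, rfl⟩ := (Nat.dvd_prime_pow hp).1 (hj ▸ hbd)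
      rcases Nat.eq_zero_or_pos i with rfl | hi
      · exact absurd (by rw [hb1, pow_zero, Nat.cast_one]) hβ0
      · exact dvd_pow_self p hi.ne'
    set β : G → ℂ := fun x => (β0 : G ⧸ K → ℂ) (QuotientGroup.mk' K x)
    have hβ : IsIrrCharacter G β := isIrrCharacter_comap _ (QuotientGroup.mk'_surjective K) β0.2
    have hpV : p ∈ Cfsg.degreePrimes G :=
      ⟨hp, b, hdeg (χ := ⟨β, hβ⟩) (by simp [β, hb1]), hbp⟩
    refine ⟨⟨p, hpV⟩, ⟨p, hpV⟩, fun r => Or.inl ?_⟩
    obtain ⟨χ, a, ha, hra⟩ := getdeg r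
    by_cases hpa : p ∣ a
    · exact reach ⟨a, hdeg ha, hra, hpa⟩
    have := Fintype.ofFinite K
    obtain ⟨θ, hθ, hθne⟩ := exists_constituent (isCharacter_res K (isCharacter_of_isIrrCharacter χ.2))
      (fun h => isIrrCharacter_apply_one_ne_zero χ.2 (by simpa using congrFun h 1))
    obtain ⟨k, d, hd, hak, hk⟩ := CharProjDegree.degree_dvd K χ.2 hθ hθne
    rw [ha, Nat.cast_inj] at hak
    have hk1 : k = 1 := by
      obtain ⟨i, -, hi⟩ := (Nat.dvd_prime_pow hp).1 (hidx ▸ hk)
      rcases Nat.eq_zero_or_pos i with rfl | hi0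
      · rw [hi, pow_zero]
      · exact absurd (hak ▸ Dvd.dvd.mul_left (hi ▸ dvd_pow_self p hi0.ne') d) hpa
    rw [hk1, mul_one] at hak
    subst hak
    have hres : ∀ n : K, (χ : G → ℂ) n = θ n := congrFun (eq_of_constituent_of_apply_one_le
      (isCharacter_res K (isCharacter_of_isIrrCharacter χ.2)) hθ hθne (by simp [ha, hd]))
    have hprod := ((CharGallagher.bijOn_one K hθ χ.2 hres).mapsTo (x := β) ⟨hβ, fun n => by
      show (β0 : G ⧸ K → ℂ) _ = (β0 : G ⧸ K → ℂ) _
      rw [show QuotientGroup.mk' K (n : G) = 1 from (QuotientGroup.eq_one_iff _).2 n.2, map_one]⟩).1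
    have h1 : (⟨_, hprod⟩ : IrrCharacter G).1 1 = ((b * a : ℕ) : ℂ) := by
      show β 1 * (χ : G → ℂ) 1 = _
      simp [β, hb1, ha]
    exact reach ⟨b * a, hdeg h1, hra.mul_left b, hbp.mul_right a⟩
  · set N := (commutator (G ⧸ K)).comap (QuotientGroup.mk' K) with hN
    have hKN : K < N := lt_of_le_of_ne (fun k hk => by
      rw [hN, mem_comap, (show QuotientGroup.mk' K k = 1 from (QuotientGroup.eq_one_iff k).2 hk)]
      exact one_mem _) fun e => hMb (eq_bot_iff.2 fun y hy => by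
        obtain ⟨y, rfl⟩ := QuotientGroup.mk'_surjective K y
        exact mem_bot.2 ((QuotientGroup.eq_one_iff y).2 (e ▸ hy)))
    have hmin : ∀ R : Subgroup G, R.Normal → K ≤ R → R ≤ N → R = K ∨ R = N := fun R hR hKR hRN => by
      have hcm : (R.map (QuotientGroup.mk' K)).comap (QuotientGroup.mk' K) = R := by
        rw [comap_map_eq, QuotientGroup.ker_mk', sup_eq_left.2 hKR]
      rcases hMmin _ (hR.map _ (QuotientGroup.mk'_surjective K)) (map_le_iff_le_comap.2 hRN) with h | h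
      · left; rw [← hcm, h, MonoidHom.comap_bot, QuotientGroup.ker_mk']
      · right; rw [← hcm, h]
    have hcomm : ∀ a ∈ N, ∀ b ∈ N, ⁅a, b⁆ ∈ K := fun a ha b hb =>
      (hmemK a b).1 (commutatorElement_eq_one_iff_mul_comm.2 (hMab _ ha _ hb))
    have hGN : ∀ a b : G, ⁅a, b⁆ ∈ N := fun a b => by
      rw [hN, mem_comap, map_commutatorElement]
      exact commutator_mem_commutator (mem_top _) (mem_top _)
    have hfpf : ∀ x : G, x ∉ N → ∃ n ∈ N, ⁅x, n⁆ ∉ K := fun x hx => by
      obtain ⟨m, hm, hxm⟩ := hMf (QuotientGroup.mk' K x) hx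
      obtain ⟨n, rfl⟩ := QuotientGroup.mk'_surjective K m
      exact ⟨n, hm, fun h => hxm ((hmemK x n).2 h)⟩
    have hq1 : K.relIndex N ≠ 1 := fun h => hKN.not_ge (relIndex_eq_one.1 h)
    set q := (K.relIndex N).minFac with hqd
    have hq : q.Prime := Nat.minFac_prime hq1
    have hf1 : N.index ≠ 1 := fun h => hMt (by
      rw [← index_eq_one, ← index_comap_of_surjective _ (QuotientGroup.mk'_surjective K)]; exact h)
    have hfcd : N.index ∈ Cfsg.charDegrees G := by
      have h1 : IsIrrCharacter N (fun _ : N => (1 : ℂ)) := by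
        simpa using isIrrCharacter_linear (1 : N →* ℂˣ)
      rcases induce_or_dvd N K hKN hmin hcomm hGN hfpf h1 (d := 1) Nat.cast_one.symm (fun _ _ => rfl) with h | h
      · exact absurd (h q hq (Nat.minFac_dvd _)) hq.not_dvd_one
      · simpa using h
    set u : Cfsg.degreePrimes G := ⟨N.index.minFac, Nat.minFac_prime hf1, N.index, hfcd, Nat.minFac_dvd _⟩
    let w : Cfsg.degreePrimes G := if hqV : q ∈ Cfsg.degreePrimes G then ⟨q, hqV⟩ else u
    refine ⟨u, w, fun r => ?_⟩
    obtain ⟨χ, a, ha, hra⟩ := getdeg r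
    by_cases hcop : a.Coprime N.index
    swap
    · obtain ⟨s, hs, hsa, hsf⟩ := Nat.Prime.not_coprime_iff_dvd.1 hcop
      have hsV : s ∈ Cfsg.degreePrimes G := ⟨hs, a, hdeg ha, hsa⟩
      exact Or.inl ((reach (s := ⟨s, hsV⟩) ⟨a, hdeg ha, hra, hsa⟩).trans
        (reach ⟨N.index, hfcd, hsf, Nat.minFac_dvd _⟩))
    have := Fintype.ofFinite N
    obtain ⟨θ, hθ, hθne⟩ := exists_constituent (isCharacter_res N (isCharacter_of_isIrrCharacter χ.2))
      (fun h => isIrrCharacter_apply_one_ne_zero χ.2 (by simpa using congrFun h 1))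
    obtain ⟨k, d, hd, hak, hk⟩ := CharProjDegree.degree_dvd N χ.2 hθ hθne
    rw [ha, Nat.cast_inj] at hak
    have hk1 : k = 1 := Nat.eq_one_of_dvd_coprimes hcop (hak ▸ dvd_mul_left k d) hk
    rw [hk1, mul_one] at hak
    subst hak
    have hres : ∀ n : N, (χ : G → ℂ) n = θ n := congrFun (eq_of_constituent_of_apply_one_le
      (isCharacter_res N (isCharacter_of_isIrrCharacter χ.2)) hθ hθne (by simp [ha, hd]))
    have hinv : ∀ (g : G) (m : N), θ (MulAut.conjNormal g m) = θ m := fun g m => by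
      rw [← hres, ← hres, MulAut.conjNormal_apply]
      exact isClassFunction_irr χ.2 _ _
    rcases induce_or_dvd N K hKN hmin hcomm hGN hfpf hθ hd hinv with h | h
    · have hqa := h q hq (Nat.minFac_dvd _)
      have hqV : q ∈ Cfsg.degreePrimes G := ⟨hq, a, hdeg ha, hqa⟩
      have hw : w = ⟨q, hqV⟩ := dif_pos hqV
      exact Or.inr (hw ▸ reach ⟨a, hdeg ha, hra, hqa⟩)
    · exact Or.inl (reach ⟨_, h, hra.mul_left _, (Nat.minFac_dvd _).mul_right a⟩)

end

/-- For every finite solvable group G the character degree graph of G (vertices: the primes dividing some irreducible complex character degree; edges: distinct primes whose product divides some degree) has at most two connected components. -/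
theorem result {G : Type*} [Group G] [Finite G] [Group.IsSolvable G] : Nat.card ((Cfsg.degreeGraph G).induce (Cfsg.degreePrimes G)).ConnectedComponent ≤ 2 := by
  classical
  by_cases hab : ∀ a b : G, a * b = b * a
  · haveI : IsEmpty (Cfsg.degreePrimes G) := ⟨fun ⟨r, hr, d, ⟨χ, hd⟩, hrd⟩ => by
      subst hd
      rw [Cfsg.Agent.S4466.charDegree_eq (n := 1) (by
        rw [Cfsg.Agent.CharBasicLinear.apply_one_eq_one_of_comm hab χ.2, Nat.cast_one])] at hrd
      exact hr.not_dvd_one hrd⟩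
    haveI : IsEmpty ((Cfsg.degreeGraph G).induce (Cfsg.degreePrimes G)).ConnectedComponent :=
      ⟨fun c => c.ind fun v => isEmptyElim v⟩
    simp
  obtain ⟨u, w, huw⟩ := two_targets hab
  rw [← Set.ncard_univ]
  refine (Set.ncard_le_ncard (t := {SimpleGraph.connectedComponentMk _ u, SimpleGraph.connectedComponentMk _ w})
    (fun c _ => ?_) (Set.toFinite _)).trans ((Set.ncard_insert_le _ _).trans (by simp))
  induction c using SimpleGraph.ConnectedComponent.ind with
  | h r => exact (huw r).imp SimpleGraph.ConnectedComponent.sound SimpleGraph.ConnectedComponent.sound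

end Cfsg.Agent.S4811
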