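import Cfsg.Statements.S0857
import Mathlib
import Cfsg.Agent.Lib.CharCliffordCorr
import Cfsg.Agent.Lib.CharBasicLinear

set_option autoImplicit false
open Cfsg

namespace Cfsg.Agent.S0857
open Cfsg.Agent.CharBasic Cfsg.Agent.CharBasicOrth Cfsg.Agent.CharBasicDecomp
  Cfsg.Agent.CharInduced

universe v

section
variable {K : Type v} [Group K] [Fintype K] (N : Subgroup K) [N.Normal] [Fintype N]

theorem bessel {φ : N → ℂ} (hφ : IsIrrCharacter N φ) {ι : Type*} [Fintype ι] (f : ι → K → ℂ)
    (hf : ∀ i, IsIrrCharacter K (f i)) (hinj : Function.Injective f) (e : ℕ)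
    (he : ∀ i, classInner (fun n : N => f i n) φ = e) :
    (e : ℝ) ^ 2 * Fintype.card ι ≤ (Nat.card (inertia N φ) : ℝ) / Nat.card N := by
  classical
  have hC : ∀ i, classInner (indFun N φ) (f i) = e := fun i => by
    rw [inner_ind_left N φ (isClassFunction_irr (hf i)), ← CharInduced.inner_conj_symm, he,
      Complex.conj_natCast]
  have hC' : ∀ i, classInner (f i) (indFun N φ) = e := fun i => by
    rw [← CharInduced.inner_conj_symm, hC, Complex.conj_natCast]
  set s : K → ℂ := ∑ i, (e : ℂ) • f i with hs
  have hss : classInner s s = (e : ℂ) ^ 2 * Fintype.card ι := by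
    simp only [hs, inner_sum_left, inner_sum_right, CharInduced.inner_smul_left,
      CharInduced.inner_smul_right, Complex.conj_natCast]
    rw [Finset.sum_congr rfl (g := fun _ => (e : ℂ) ^ 2) (fun i _ => ?_)]
    · simp [mul_comm]
    rw [Finset.sum_eq_single i]
    · rw [classInner_irr_self (hf i)]; ring
    · intro j _ hji
      first
        | rw [classInner_irr_ne (hf i) (hf j) (fun h => hji (hinj h).symm)]; ring
        | rw [classInner_irr_ne (hf j) (hf i) (fun h => hji (hinj h))]; ring
    · simp
  have h1 : classInner (indFun N φ) s = (e : ℂ) ^ 2 * Fintype.card ι := by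
    simp only [hs, inner_sum_right, CharInduced.inner_smul_right, hC, Complex.conj_natCast]
    simp [mul_comm, sq]
    try ring
  have h2 : classInner s (indFun N φ) = (e : ℂ) ^ 2 * Fintype.card ι := by
    rw [← CharInduced.inner_conj_symm, h1]
    simp
  have key : classInner (indFun N φ - s) (indFun N φ - s) =
      (((Nat.card (inertia N φ) : ℝ) / Nat.card N - (e : ℝ) ^ 2 * Fintype.card ι : ℝ) : ℂ) := by
    simp only [CharInduced.inner_sub_left, CharInduced.inner_sub_right, h1, h2, hss,
      classInner_ind_self N hφ]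
    push_cast
    ring
  rw [inner_self_eq_norm, Complex.ofReal_inj] at key
  have : (0 : ℝ) ≤ (Nat.card K : ℝ)⁻¹ * ∑ g : K, ‖(indFun N φ - s) g‖ ^ 2 :=
    mul_nonneg (by positivity) (Finset.sum_nonneg fun g _ => sq_nonneg _)
  linarith [key ▸ this]

theorem case_inv (hab : ∀ a b : K, a * b * a⁻¹ * b⁻¹ ∈ N) {θ : K → ℂ} (hθ : IsIrrCharacter K θ)
    {φ : N → ℂ} (hφ : IsIrrCharacter N φ) (e : ℕ) (hinv : inertia N φ = ⊤)
    (hres : (fun n : N => θ n) = (e : ℂ) • φ)
    (hU : Subgroup.closure ((N : Set K) ∪ {x | θ x ≠ 0}) = N ∨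
      Subgroup.closure ((N : Set K) ∪ {x | θ x ≠ 0}) = ⊤) :
    e ≤ 1 ∨ e ^ 2 = N.index := by
  classical
  rcases hU with hU | hU
  · right
    have hz : ∀ x : K, x ∉ N → θ x = 0 := fun x hx => by
      by_contra h
      exact hx (hU ▸ Subgroup.subset_closure (Or.inr h))
    have h1 := classInner_irr_self hθ
    have h2 : ∑ x : K, θ x * (starRingEnd ℂ) (θ x) =
        ∑ x : N, θ x * (starRingEnd ℂ) (θ x) := by
      rw [← Finset.sum_subset (Finset.subset_univ (Finset.univ.filter (· ∈ N)))
        (fun x _ hx => by rw [hz x (by simpa using hx), zero_mul])]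
      exact Finset.sum_subtype _ (by simp) _
    have h3 : classInner (fun n : N => θ n) (fun n : N => θ n) = (e : ℂ) ^ 2 := by
      rw [hres, CharInduced.inner_smul_left, CharInduced.inner_smul_right, classInner_irr_self hφ,
        Complex.conj_natCast]
      ring
    simp only [classInner] at h1 h3
    rw [h2, ← N.card_mul_index, Nat.cast_mul, mul_inv, mul_comm (Nat.card N : ℂ)⁻¹, mul_assoc,
      h3] at h1
    have hi : (N.index : ℂ) ≠ 0 := Nat.cast_ne_zero.2 Subgroup.index_ne_zero_of_finite
    field_simp at h1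
    exact_mod_cast h1
  · left
    let : CommGroup (K ⧸ N) := CommGroup.mk (fun a b => by
      induction a using QuotientGroup.induction_on with
      | H a =>
        induction b using QuotientGroup.induction_on with
        | H b =>
          rw [← QuotientGroup.mk_mul, ← QuotientGroup.mk_mul]
          apply Quotient.sound'
          rw [QuotientGroup.leftRel_apply]
          have := hab b⁻¹ a⁻¹
          simpa [mul_assoc] using this)
    have : Finite (K ⧸ N →* ℂˣ) :=
      Finite.of_equiv _ (CommGroup.monoidHom_mulEquiv_of_hasEnoughRootsOfUnity (K ⧸ N) ℂ).some.symm.toEquiv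
    have : Fintype (K ⧸ N →* ℂˣ) := Fintype.ofFinite _
    let lift : (K ⧸ N →* ℂˣ) → (K →* ℂˣ) := fun l => l.comp (QuotientGroup.mk' N)
    have hlN : ∀ l, ∀ n : N, lift l n = 1 := fun l n => by
      simp [lift, (QuotientGroup.eq_one_iff (n : K)).2 n.2]
    let f : (K ⧸ N →* ℂˣ) → K → ℂ := fun l g => θ g * (lift l g : ℂ)
    have hf : ∀ l, IsIrrCharacter K (f l) := fun l => isIrrCharacter_mul_linear hθ _
    have hinj : Function.Injective f := by
      intro a b h
      have hE : Set.EqOn (lift a) (lift b) ((N : Set K) ∪ {x | θ x ≠ 0}) := by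
        rintro x (hx | hx)
        · rw [hlN a ⟨x, hx⟩, hlN b ⟨x, hx⟩]
        · exact Units.ext (mul_left_cancel₀ hx (congrFun h x))
      have := MonoidHom.eqOn_closure hE
      rw [hU] at this
      refine MonoidHom.ext fun q => ?_
      induction q using QuotientGroup.induction_on with
      | H x => exact this (Subgroup.mem_top x)
    have he : ∀ l, classInner (fun n : N => f l n) φ = e := fun l => by
      have : (fun n : N => f l n) = (e : ℂ) • φ := by
        rw [← hres]; funext n; simp [f, hlN]
      rw [this, CharInduced.inner_smul_left, classInner_irr_self hφ, mul_one]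
    have hb := bessel N hφ f hf hinj e he
    rw [← Nat.card_eq_fintype_card, CommGroup.card_monoidHom_of_hasEnoughRootsOfUnity, hinv,
      Subgroup.card_top, ← N.card_mul_index, Nat.cast_mul,
      mul_div_cancel_left₀ _ (Nat.cast_ne_zero.2 Nat.card_pos.ne'), ← N.index_eq_card] at hb
    have hi : (0 : ℝ) < N.index := Nat.cast_pos.2 (Nat.pos_of_ne_zero Subgroup.index_ne_zero_of_finite)
    have : (e : ℝ) ^ 2 ≤ 1 := by nlinarith
    have : e ^ 2 ≤ 1 := by exact_mod_cast this
    nlinarith

end

/-- Let L < K be normal subgroups of the finite group G with no normal subgroup of G strictly between them and with K / L abelian (the commutator subgroup of K lies in L). Let ϑ be an irreducible character of K invariant under conjugation by G. Then the restriction of ϑ to L is irreducible; or it equals e times an irreducible character of L with e ^ 2 equal to the index of L in K; or it is the sum of a family of pairwise distinct irreducible characters of L indexed by a set whose size is the index of L in K. -/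
theorem result {G : Type*} [Group G] [Fintype G] (K L : Subgroup G) [hK : K.Normal] [L.Normal] (hLK : L < K) (hchief : ∀ M : Subgroup G, M.Normal → L ≤ M → M ≤ K → M = L ∨ M = K) (hab : ⁅K, K⁆ ≤ L) (ϑ : K → ℂ) (hϑ : Cfsg.IsIrrCharacter K ϑ) (hinv : ∀ (g : G) (n : K), ϑ ⟨g * n * g⁻¹, hK.conj_mem (n : G) n.2 g⟩ = ϑ n) : Cfsg.IsIrrCharacter L (fun x : L => ϑ ⟨(x : G), hLK.le x.2⟩) ∨ (∃ (φ : L → ℂ) (e : ℕ), Cfsg.IsIrrCharacter L φ ∧ (fun x : L => ϑ ⟨(x : G), hLK.le x.2⟩) = (e : ℂ) • φ ∧ e ^ 2 = L.relIndex K) ∨ (∃ F : Finset (L → ℂ), (∀ φ ∈ F, Cfsg.IsIrrCharacter L φ) ∧ F.card = L.relIndex K ∧ (fun x : L => ϑ ⟨(x : G), hLK.le x.2⟩) = ∑ φ ∈ F, φ) := by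
  classical
  have : Fintype K := Fintype.ofFinite K
  set N := L.subgroupOf K with hN
  have : N.Normal := Subgroup.normal_subgroupOf
  have : Fintype N := Fintype.ofFinite N
  set ε : L →* N := ((Subgroup.subgroupOfEquivOfLe hLK.le).symm : L →* N) with hε
  have hεs : Function.Surjective ε := (Subgroup.subgroupOfEquivOfLe hLK.le).symm.surjective
  have hεv : ∀ x : L, (((ε x : N) : K) : G) = x := fun x => rfl
  have hθc := isCharacter_of_isIrrCharacter hϑ
  obtain ⟨φ, hφ, hne⟩ : ∃ φ : N → ℂ, IsIrrCharacter N φ ∧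
      classInner (fun n : N => ϑ n) φ ≠ 0 := by
    by_contra h
    push Not at h
    obtain ⟨m, hm, hsum⟩ := exists_mult (isCharacter_res N hθc)
    have h0 := congrFun hsum 1
    rw [Finset.sum_congr rfl (g := fun _ => (0 : N → ℂ)) (fun ψ _ => by
      rw [← hm ψ, h ψ ψ.2, zero_smul])] at h0
    simp only [Finset.sum_const_zero, Pi.zero_apply, OneMemClass.coe_one] at h0
    exact isIrrCharacter_apply_one_ne_zero hϑ h0
  obtain ⟨e, he⟩ := coeff_nat (isCharacter_res N hθc) hφ
  have hcl := clifford N hϑ hφ hne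
  set T : Subgroup K := inertia N φ with hT
  have hNT : N ≤ T := le_inertia N (isClassFunction_irr hφ)
  have hab' : ∀ a b : K, a * b * a⁻¹ * b⁻¹ ∈ N := fun a b =>
    hab (Subgroup.commutator_mem_commutator a.2 b.2)
  have hTn : T.Normal := ⟨fun a ha b => by
    have h := T.mul_mem (hNT (hab' b a)) ha
    rwa [show b * a * b⁻¹ * a⁻¹ * a = b * a * b⁻¹ by group] at h⟩
  let cK : G → K → K := fun g k => ⟨g * k * g⁻¹, hK.conj_mem (k : G) k.2 g⟩
  have hTG : ∀ g : G, ∀ t ∈ T, cK g t ∈ T := by
    intro g t ht
    let α : N →* N := MonoidHom.mk' (fun n => ⟨cK g n, Subgroup.mem_subgroupOf.2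
        (Subgroup.Normal.conj_mem inferInstance _ (Subgroup.mem_subgroupOf.1 n.2) g)⟩)
      (fun a b => Subtype.ext (Subtype.ext (by simp [cK, mul_assoc])))
    have hαs : Function.Bijective α := by
      refine Finite.injective_iff_bijective.1 fun a b h => ?_
      exact Subtype.ext (Subtype.ext (by
        simpa [α, cK] using congrArg (fun n : N => ((n : K) : G)) h))
    set φg : N → ℂ := φ ∘ α
    have hφg : IsIrrCharacter N φg := isIrrCharacter_comap α hαs.2 hφ
    have hne' : classInner (fun n : N => ϑ n) φg = classInner (fun n : N => ϑ n) φ := by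
      simp only [classInner]
      congr 1
      refine Fintype.sum_bijective α hαs _ _ fun n => ?_
      show ϑ n * _ = ϑ (α n : N) * _
      rw [show ϑ ((α n : N) : K) = ϑ n from hinv g n]
      rfl
    obtain ⟨k, hk⟩ := (mem_orbitFin N).1
      (mem_orbit_of_constituents N hϑ hφ hφg hne (hne' ▸ hne))
    -- `φg` is fixed by `g⁻¹ T g`, and by `T`
    have hk' : ∀ x ∈ T, conjFun N φg x = φg := by
      intro x hx
      rw [← hk, conjFun_conjFun]
      have := hTn.conj_mem x hx k
      exact (conjFun_eq_iff N).2 this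
    have htt := hk' t ht
    refine (mem_inertia_iff N).2 fun n => ?_
    obtain ⟨m, rfl⟩ := hαs.2 n
    have := congrFun htt m
    simp only [φg, Function.comp, conjFun] at this
    refine Eq.trans (congrArg φ (Subtype.ext (Subtype.ext ?_))) this
    simp [α, cK, mul_assoc]
  have hTT : T = N ∨ T = ⊤ := by
    have hn : (T.map K.subtype).Normal := ⟨by
      rintro _ ⟨t, ht, rfl⟩ g
      exact ⟨cK g t, hTG g t ht, rfl⟩⟩
    rcases hchief _ hn (fun x hx => ⟨⟨x, hLK.le hx⟩, hNT hx, rfl⟩)
        (Subgroup.map_subtype_le T) with h | h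
    · left
      refine le_antisymm (fun x hx => ?_) hNT
      rw [hN, Subgroup.mem_subgroupOf, ← h]
      exact ⟨x, hx, rfl⟩
    · right
      refine (Subgroup.eq_top_iff' _).2 fun x => ?_
      have hx : (x : G) ∈ T.map K.subtype := h.symm ▸ x.2
      obtain ⟨y, hy, hyx⟩ := hx
      rwa [← Subtype.ext (a1 := y) (a2 := x) hyx]
  have hidx : N.index = L.relIndex K := rfl
  have hco : (orbitFin N φ).card = T.index := by
    have e' := card_inertia_mul_card_orbit N φ
    rw [← T.card_mul_index] at e'
    exact Nat.eq_of_mul_eq_mul_left Nat.card_pos e'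
  have he1 : e ≠ 0 := fun h => hne (by rw [he, h, Nat.cast_zero])
  rcases hTT with hTN | hTop
  · -- the inertia group is `L`
    right; right
    have hb := bessel N hφ (fun _ : Unit => ϑ) (fun _ => hϑ) (fun _ _ _ => rfl) e (fun _ => he)
    rw [← hT, hTN, div_self (Nat.cast_ne_zero.2 Nat.card_pos.ne'), Fintype.card_unit,
      Nat.cast_one, mul_one] at hb
    have : e ^ 2 ≤ 1 := by exact_mod_cast hb
    have he' : e = 1 := by have := Nat.pos_of_ne_zero he1; nlinarith
    refine ⟨(orbitFin N φ).image (fun ψ => ψ ∘ ε), ?_, ?_, ?_⟩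
    · intro χ hχ
      obtain ⟨ψ, hψ, rfl⟩ := Finset.mem_image.1 hχ
      obtain ⟨g, rfl⟩ := (mem_orbitFin N).1 hψ
      exact isIrrCharacter_comap ε hεs (isIrrCharacter_conjFun N hφ g)
    · rw [Finset.card_image_of_injective _ hεs.injective_comp_right, hco, hTN, hidx]
    · rw [Finset.sum_image fun a _ b _ h => hεs.injective_comp_right h]
      funext x
      have := congrFun hcl (ε x)
      rw [he, he', Nat.cast_one, one_smul] at this
      simp only [Finset.sum_apply, Function.comp] at this ⊢
      exact this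
  · -- `φ` is invariant
    have horb : orbitFin N φ = {φ} :=
      (Finset.card_eq_one.1 (by rw [hco, hTop, Subgroup.index_top])).elim fun a ha => by
        have := self_mem_orbitFin N φ
        rw [ha, Finset.mem_singleton] at this
        rw [ha, this]
    rw [horb, Finset.sum_singleton, he] at hcl
    have hres : ∀ x : L, ϑ ⟨(x : G), hLK.le x.2⟩ = (e : ℂ) * φ (ε x) := fun x =>
      congrFun hcl (ε x)
    set U := Subgroup.closure ((N : Set K) ∪ {x | ϑ x ≠ 0}) with hUdef
    have hNU : N ≤ U := fun x hx => Subgroup.subset_closure (Or.inl hx)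
    have hUG : ∀ g : G, ∀ u ∈ U, cK g u ∈ U := by
      intro g u hu
      induction hu using Subgroup.closure_induction with
      | mem x hx =>
        refine Subgroup.subset_closure ?_
        rcases hx with hx | hx
        · exact Or.inl (Subgroup.mem_subgroupOf.2
            (Subgroup.Normal.conj_mem inferInstance _ (Subgroup.mem_subgroupOf.1 hx) g))
        · exact Or.inr (by rw [Set.mem_ofPred_eq]; exact (hinv g x).symm ▸ hx)
      | one => convert U.one_mem; ext; simp [cK]
      | mul x y _ _ hx hy =>
        convert U.mul_mem hx hy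
        ext; simp [cK, mul_assoc]
      | inv x _ hx =>
        convert U.inv_mem hx
        ext; simp [cK, mul_assoc]
    have hUU : U = N ∨ U = ⊤ := by
      have hn : (U.map K.subtype).Normal := ⟨by
        rintro _ ⟨t, ht, rfl⟩ g
        exact ⟨cK g t, hUG g t ht, rfl⟩⟩
      rcases hchief _ hn (fun x hx => ⟨⟨x, hLK.le hx⟩, hNU hx, rfl⟩)
          (Subgroup.map_subtype_le U) with h | h
      · left
        refine le_antisymm (fun x hx => ?_) hNU
        rw [hN, Subgroup.mem_subgroupOf, ← h]
        exact ⟨x, hx, rfl⟩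
      · right
        refine (Subgroup.eq_top_iff' _).2 fun x => ?_
        have hx : (x : G) ∈ U.map K.subtype := h.symm ▸ x.2
        obtain ⟨y, hy, hyx⟩ := hx
        rwa [← Subtype.ext (a1 := y) (a2 := x) hyx]
    rcases case_inv N hab' hϑ hφ e hTop hcl hUU with h | h
    · left
      have he' : e = 1 := by omega
      have : (fun x : L => ϑ ⟨(x : G), hLK.le x.2⟩) = φ ∘ ε :=
        funext fun x => by rw [hres, he', Nat.cast_one, one_mul]; rfl
      rw [this]
      exact isIrrCharacter_comap ε hεs hφ
    · exact Or.inr (Or.inl ⟨φ ∘ ε, e, isIrrCharacter_comap ε hεs hφ,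
        funext fun x => hres x, hidx ▸ h⟩)

end Cfsg.Agent.S0857
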