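import Cfsg.Statements.S0858
import Mathlib
import Cfsg.Agent.S0857
import Cfsg.Agent.Lib.CharInducedMonomial
import Cfsg.Agent.Lib.CharCliffordCorr

set_option autoImplicit false
open Cfsg

namespace Cfsg.Agent.S0858
open Cfsg.Agent.CharBasic Cfsg.Agent.CharBasicOrth Cfsg.Agent.CharBasicDecomp
  Cfsg.Agent.CharInduced

universe w

/-- The hypothesis on chief factors above `N`. -/
def ChiefHyp {G : Type w} [Group G] (N : Subgroup G) : Prop :=
  ∀ (H K L : Subgroup G), N ≤ L → L < K → K ≤ H → (∀ h ∈ H, ∀ k ∈ K, h * k * h⁻¹ ∈ K) →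
    (∀ h ∈ H, ∀ l ∈ L, h * l * h⁻¹ ∈ L) →
    (∀ M : Subgroup G, L ≤ M → M ≤ K → (∀ h ∈ H, ∀ m ∈ M, h * m * h⁻¹ ∈ M) → M = L ∨ M = K) →
    ¬ IsSquare (L.relIndex K)

/-- The conclusion. -/
def Concl {G : Type w} [Group G] [Fintype G] (N : Subgroup G) (χ : G → ℂ) : Prop :=
  ∃ (H : Subgroup G) (hNH : N ≤ H) (ψ : H → ℂ), Cfsg.IsIrrCharacter H ψ ∧
    Cfsg.indFun H ψ = χ ∧ Cfsg.IsIrrCharacter N (fun n : N => ψ ⟨(n : G), hNH n.2⟩)

theorem exists_chief {G : Type w} [Group G] [Finite G] (N : Subgroup G) [N.Normal]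
    (hsolv : Group.IsSolvable (G ⧸ N)) (hN : N ≠ ⊤) :
    ∃ K : Subgroup G, K.Normal ∧ N < K ∧ ⁅K, K⁆ ≤ N ∧
      ∀ M : Subgroup G, M.Normal → N ≤ M → M ≤ K → M = N ∨ M = K := by
  classical
  have hne : {K : Subgroup G | K.Normal ∧ N < K}.Nonempty :=
    ⟨⊤, inferInstance, lt_top_iff_ne_top.2 hN⟩
  obtain ⟨K, hK, hmin⟩ := (Set.toFinite _).exists_minimalFor (fun K : Subgroup G => Nat.card K) _ hne
  obtain ⟨hKn, hNK⟩ := hK
  have hch : ∀ M : Subgroup G, M.Normal → N ≤ M → M ≤ K → M = N ∨ M = K := by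
    intro M hM h1 h2
    rcases h1.eq_or_lt with h | h
    · exact Or.inl h.symm
    · exact Or.inr (Subgroup.eq_of_le_of_card_ge h2
        (hmin (j := M) ⟨hM, h⟩ (Subgroup.card_le_of_le h2)))
  refine ⟨K, hKn, hNK, ?_, hch⟩
  rcases hch (⁅K, K⁆ ⊔ N) inferInstance le_sup_right
      (sup_le (Subgroup.commutator_le_self K) hNK.le) with h | h
  · exact h ▸ le_sup_left
  · exfalso
    set q := QuotientGroup.mk' N
    have hKq : K.map q = ⁅K.map q, K.map q⁆ := by
      conv_lhs => rw [← h, Subgroup.map_sup, QuotientGroup.map_mk'_self, sup_bot_eq,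
        Subgroup.map_commutator]
    have hd : ∀ n, K.map q ≤ derivedSeries (G ⧸ N) n := by
      intro n
      induction n with
      | zero => simp
      | succ n ih =>
        rw [derivedSeries_succ, hKq]
        exact Subgroup.commutator_mono ih ih
    obtain ⟨n, hn⟩ := hsolv.solvable
    have hbot := (hd n).trans hn.le
    rw [le_bot_iff, Subgroup.map_eq_bot_iff, QuotientGroup.ker_mk'] at hbot
    exact hNK.not_ge hbot

theorem main (m : ℕ) : ∀ {G : Type w} [Group G] [Fintype G] (N : Subgroup G) [N.Normal],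
    Nat.card G + N.index = m → Group.IsSolvable (G ⧸ N) → ChiefHyp N →
    ∀ χ : G → ℂ, Cfsg.IsIrrCharacter G χ → Concl N χ := by
  induction m using Nat.strong_induction_on with
  | _ m ih =>
  intro G _ _ N _ hm hsolv hyp χ hχ
  classical
  have : Fintype N := Fintype.ofFinite N
  by_cases hN : N = ⊤
  · subst hN
    refine ⟨⊤, le_rfl, fun x => χ x, isIrrCharacter_comap (⊤ : Subgroup G).subtype
      (fun g => ⟨⟨g, Subgroup.mem_top g⟩, rfl⟩) hχ, ?_, ?_⟩
    · funext g
      rw [indFun_apply, Finset.sum_congr rfl (g := fun _ => χ g) (fun x _ => ?_),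
        Finset.sum_const, Finset.card_univ, ← Nat.card_eq_fintype_card, nsmul_eq_mul,
        Subgroup.card_top, inv_mul_cancel_left₀ (Nat.cast_ne_zero.2 Nat.card_pos.ne')]
      rw [ext_zero_of_mem _ (Subgroup.mem_top _)]
      exact classFunction_conj' (isClassFunction_irr hχ) g x
    · exact isIrrCharacter_comap (⊤ : Subgroup G).subtype
        (fun g => ⟨⟨g, Subgroup.mem_top g⟩, rfl⟩) hχ
  obtain ⟨K, hKn, hNK, hKK, hch⟩ := exists_chief N hsolv hN
  have : Fintype K := Fintype.ofFinite K
  -- reduction through the Clifford correspondence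
  have red : ∀ (M : Subgroup G) [M.Normal] [Fintype M] (θ : M → ℂ), N ≤ M →
      IsIrrCharacter M θ → classInner (fun n : M => χ n) θ ≠ 0 → inertia M θ ≠ ⊤ →
      Concl N χ := by
    intro M _ _ θ hNM hθ hne hproper
    set T := inertia M θ with hT
    have : Fintype T := Fintype.ofFinite T
    have hMT : M ≤ T := le_inertia M (isClassFunction_irr hθ)
    have hNT : N ≤ T := hNM.trans hMT
    obtain ⟨ψ, hψ, hind, -⟩ := CharCliffordCorr.clifford_correspondence M hχ hθ hne T hT hMT
    have hlt : Nat.card T < Nat.card G := by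
      refine lt_of_le_of_ne T.card_le_card_group fun h => hproper (Subgroup.eq_top_of_card_eq T h)
    have hidx : (N.subgroupOf T).index ≤ N.index := by
      show N.relIndex T ≤ N.index
      exact Nat.le_of_dvd (Nat.pos_of_ne_zero Subgroup.index_ne_zero_of_finite) (Subgroup.relIndex_dvd_index_of_normal N T)
    have hsolv' : Group.IsSolvable (T ⧸ N.subgroupOf T) := by
      let f : T ⧸ N.subgroupOf T →* G ⧸ N :=
        QuotientGroup.lift _ ((QuotientGroup.mk' N).comp T.subtype) fun x hx => by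
          rw [MonoidHom.mem_ker, MonoidHom.comp_apply]
          exact (QuotientGroup.eq_one_iff _).2 hx
      refine Group.isSolvable_of_isSolvable_injective (f := f) ?_
      rw [injective_iff_map_eq_one]
      intro a ha
      induction a using QuotientGroup.induction_on with
      | H x => exact (QuotientGroup.eq_one_iff _).2 ((QuotientGroup.eq_one_iff _).1 ha :)
    have hyp' : ChiefHyp (N.subgroupOf T) := by
      intro H K' L h1 h2 h3 h4 h5 h6
      have hi : Function.Injective T.subtype := T.subtype_injective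
      have hrel : L.relIndex K' = (L.map T.subtype).relIndex (K'.map T.subtype) :=
        (Subgroup.relIndex_map_map_of_injective L K' hi).symm
      rw [hrel]
      have conjmap : ∀ (X : Subgroup T), (∀ h ∈ H, ∀ k ∈ X, h * k * h⁻¹ ∈ X) →
          ∀ h ∈ H.map T.subtype, ∀ k ∈ X.map T.subtype, h * k * h⁻¹ ∈ X.map T.subtype := by
        rintro X hX _ ⟨h, hh, rfl⟩ _ ⟨k, hk, rfl⟩
        exact ⟨_, hX h hh k hk, rfl⟩
      refine hyp _ _ _ ?_ ((Subgroup.map_lt_map_iff_of_injective hi).2 h2) (Subgroup.map_mono h3)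
        (conjmap _ h4) (conjmap _ h5) ?_
      · intro x hx
        exact ⟨⟨x, hNT hx⟩, h1 hx, rfl⟩
      · intro M' hM1 hM2 hM3
        have hMT' : M' ≤ T := hM2.trans (Subgroup.map_subtype_le K')
        have hmap : (M'.subgroupOf T).map T.subtype = M' := by
          rw [Subgroup.subgroupOf_map_subtype, inf_eq_left.2 hMT']
        rcases h6 (M'.subgroupOf T) (fun x hx => hM1 ⟨x, hx, rfl⟩)
            (fun x hx => by
              obtain ⟨y, hy, hyx⟩ := hM2 hx
              rwa [← hi hyx])
            (fun h hh x hx => hM3 _ ⟨h, hh, rfl⟩ _ hx) with h | h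
        · exact Or.inl (by rw [← hmap, h])
        · exact Or.inr (by rw [← hmap, h])
    obtain ⟨H, hNH, φ, hφ, hφind, hφres⟩ :=
      ih (Nat.card T + (N.subgroupOf T).index) (by omega) (N.subgroupOf T) rfl hsolv' hyp' ψ hψ
    refine ⟨H.map T.subtype, fun x hx => ⟨⟨x, hNT hx⟩, hNH hx, rfl⟩,
      φ ∘ (H.equivMapOfInjective T.subtype T.subtype_injective).symm, ?_, ?_, ?_⟩
    · exact isIrrCharacter_comap
        (H.equivMapOfInjective T.subtype T.subtype_injective).symm.toMonoidHom
        (H.equivMapOfInjective T.subtype T.subtype_injective).symm.surjective hφ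
    · rw [← ind_map_subtype T H φ, hφind, hind]
    · refine Eq.subst (motive := IsIrrCharacter N) ?_
        (isIrrCharacter_comap (Subgroup.subgroupOfEquivOfLe hNT).symm.toMonoidHom
          (Subgroup.subgroupOfEquivOfLe hNT).symm.surjective hφres)
      funext n
      show φ _ = φ _
      congr 1
      exact ((H.equivMapOfInjective T.subtype T.subtype_injective).symm_apply_eq.2 rfl).symm
  -- a constituent on `K`
  obtain ⟨θ, hθ, hθne⟩ : ∃ θ : K → ℂ, IsIrrCharacter K θ ∧
      classInner (fun n : K => χ n) θ ≠ 0 := by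
    by_contra h
    push Not at h
    have hc := isCharacter_res K (isCharacter_of_isIrrCharacter hχ)
    obtain ⟨mm, hmm, hsum⟩ := exists_mult hc
    have h0 := congrFun hsum 1
    rw [Finset.sum_congr rfl (g := fun _ => (0 : K → ℂ)) (fun ψ _ => by
      rw [← hmm ψ, h ψ ψ.2, zero_smul])] at h0
    simp only [Finset.sum_const_zero, Pi.zero_apply, OneMemClass.coe_one] at h0
    exact isIrrCharacter_apply_one_ne_zero hχ h0
  by_cases hinv : inertia K θ = ⊤
  swap
  · exact red K θ hNK.le hθ hθne hinv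
  have hinv' : ∀ (g : G) (n : K), θ ⟨g * n * g⁻¹, hKn.conj_mem (n : G) n.2 g⟩ = θ n :=
    fun g => (mem_inertia_iff K).1 (by rw [hinv]; exact Subgroup.mem_top g)
  have hsq : ¬ IsSquare (N.relIndex K) :=
    hyp ⊤ K N le_rfl hNK le_top (fun h _ k hk => hKn.conj_mem k hk h)
      (fun h _ l hl => Subgroup.Normal.conj_mem inferInstance l hl h)
      (fun M h1 h2 h3 => hch M ⟨fun x hx g => h3 g (Subgroup.mem_top g) x hx⟩ h1 h2)
  have hres : (fun n : K => χ n) = classInner (fun n : K => χ n) θ • θ := by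
    have h := clifford K hχ hθ hθne
    have ho : orbitFin K θ = {θ} := Finset.eq_singleton_iff_unique_mem.2
      ⟨self_mem_orbitFin K θ, fun φ hφ => by
        obtain ⟨g, rfl⟩ := (mem_orbitFin K).1 hφ
        exact (mem_inertia K).1 (by rw [hinv]; exact Subgroup.mem_top g)⟩
    rwa [ho, Finset.sum_singleton] at h
  rcases S0857.result K N hNK hch hKK θ hθ hinv' with h1 | ⟨φ, e, -, -, he⟩ | ⟨F, hF, hcard, hsum⟩
  · -- irreducible restriction: apply the induction hypothesis to `(G, K)`
    have hidx : K.index < N.index := Subgroup.index_strictAnti hNK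
    have hsolv' : Group.IsSolvable (G ⧸ K) :=
      Group.isSolvable_of_surjective (f := QuotientGroup.map N K (MonoidHom.id G) hNK.le)
        (fun q => by
          induction q using QuotientGroup.induction_on with
          | H x => exact ⟨(x : G ⧸ N), rfl⟩)
    have hyp' : ChiefHyp K := fun H K' L h1 => hyp H K' L (hNK.le.trans h1)
    obtain ⟨H, hKH, ψ, hψ, hind, hψK⟩ :=
      ih (Nat.card G + K.index) (by omega) K rfl hsolv' hyp' χ hχ
    refine ⟨H, hNK.le.trans hKH, ψ, hψ, hind, ?_⟩
    -- `ψ|K = θ`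
    have hψθ : (fun n : K => ψ ⟨(n : G), hKH n.2⟩) = θ := by
      by_contra hd
      have : Fintype H := Fintype.ofFinite H
      have h0 : classInner (fun n : K => χ n) (fun n : K => ψ ⟨(n : G), hKH n.2⟩) = 0 := by
        rw [hres, CharInduced.inner_smul_left, classInner_irr_ne hθ hψK (Ne.symm hd), mul_zero]
      obtain ⟨mm, hmm, hsum⟩ := exists_mult
        (isCharacter_res H (isCharacter_of_isIrrCharacter hχ))
      have hmψ : mm ⟨ψ, hψ⟩ ≠ 0 := by
        intro hz
        have := hmm ⟨ψ, hψ⟩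
        rw [hz, Nat.cast_zero, ← CharInduced.inner_conj_symm, map_eq_zero,
          ← inner_ind_left H ψ (isClassFunction_irr hχ), hind, classInner_irr_self hχ] at this
        exact one_ne_zero this
      have hK1 : (fun n : K => χ n) = ∑ η : IrrCharacter H,
          (mm η : ℂ) • (fun n : K => (η : H → ℂ) ⟨(n : G), hKH n.2⟩) := by
        funext n
        simpa using congrFun hsum ⟨(n : G), hKH n.2⟩
      choose b hb using fun η : IrrCharacter H => classInner_isCharacter
        (isCharacter_comap (Subgroup.inclusion hKH) (isCharacter_of_isIrrCharacter η.2))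
        (isCharacter_of_isIrrCharacter hψK)
      have he : classInner (fun n : K => χ n) (fun n : K => ψ ⟨(n : G), hKH n.2⟩) =
          ((∑ η, mm η * b η : ℕ) : ℂ) := by
        rw [hK1, CharBasicOrth.classInner_sum_left, Nat.cast_sum]
        refine Finset.sum_congr rfl fun η _ => ?_
        rw [CharInduced.inner_smul_left, Nat.cast_mul, ← hb η]
        rfl
      rw [h0] at he
      have h00 : ∑ η, mm η * b η = 0 := by exact_mod_cast he.symm
      have hb1 : (b ⟨ψ, hψ⟩ : ℂ) = 1 := by
        rw [← hb]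
        exact classInner_irr_self hψK
      have hz := (Finset.sum_eq_zero_iff.1 h00) ⟨ψ, hψ⟩ (Finset.mem_univ _)
      rw [Nat.cast_eq_one.1 hb1, mul_one] at hz
      exact hmψ hz
    have : (fun n : N => ψ ⟨(n : G), (hNK.le.trans hKH) n.2⟩) =
        fun n : N => θ ⟨(n : G), hNK.le n.2⟩ :=
      funext fun n => congrFun hψθ ⟨(n : G), hNK.le n.2⟩
    rw [this]
    exact h1
  · exact absurd ⟨e, by rw [← he, sq]⟩ hsq
  · -- sum of distinct conjugates
    have hne1 : 1 < F.card := by
      rw [hcard]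
      have h0 : N.relIndex K ≠ 0 := Subgroup.index_ne_zero_of_finite
      have h1 : N.relIndex K ≠ 1 := fun h => hNK.not_ge (Subgroup.relIndex_eq_one.1 h)
      omega
    obtain ⟨φ₁, hφ₁, φ₂, hφ₂, hne⟩ := Finset.one_lt_card.1 hne1
    have hcoef : ∀ φ ∈ F, classInner (fun n : N => χ n) φ ≠ 0 := by
      intro φ hφ
      have hN1 : (fun n : N => χ n) = classInner (fun n : K => χ n) θ • ∑ η ∈ F, η := by
        rw [← hsum]
        funext n
        exact congrFun hres ⟨(n : G), hNK.le n.2⟩
      rw [hN1, CharInduced.inner_smul_left, CharInduced.inner_sum_left,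
        Finset.sum_eq_single φ (fun η hη hne' => classInner_irr_ne (hF η hη) (hF φ hφ) hne')
          (fun h => absurd hφ h), classInner_irr_self (hF φ hφ), mul_one]
      exact hθne
    refine red N φ₁ le_rfl (hF _ hφ₁) (hcoef _ hφ₁) fun htop => hne ?_
    obtain ⟨g, hg⟩ := (mem_orbitFin N).1 (mem_orbit_of_constituents N hχ (hF _ hφ₁) (hF _ hφ₂)
      (hcoef _ hφ₁) (hcoef _ hφ₂))
    rw [← hg]
    exact ((mem_inertia N).1 (by rw [htop]; exact Subgroup.mem_top g)).symm

/-- Let N be a normal subgroup of the finite group G with G / N solvable, and suppose that for every subgroup H containing N and all subgroups L < K between N and H that are normal in H with no subgroup normal in H strictly between them, the index of L in K is not a perfect square. Then every irreducible character χ of G is induced from an irreducible character ψ of some subgroup H containing N such that the restriction of ψ to N is irreducible. -/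
theorem result {G : Type*} [Group G] [Fintype G] (N : Subgroup G) [N.Normal] (hsolv : Group.IsSolvable (G ⧸ N)) (hchief : ∀ (H K L : Subgroup G), N ≤ L → L < K → K ≤ H → (∀ h ∈ H, ∀ k ∈ K, h * k * h⁻¹ ∈ K) → (∀ h ∈ H, ∀ l ∈ L, h * l * h⁻¹ ∈ L) → (∀ M : Subgroup G, L ≤ M → M ≤ K → (∀ h ∈ H, ∀ m ∈ M, h * m * h⁻¹ ∈ M) → M = L ∨ M = K) → ¬ IsSquare (L.relIndex K)) (χ : G → ℂ) (hχ : Cfsg.IsIrrCharacter G χ) : ∃ (H : Subgroup G) (hNH : N ≤ H) (ψ : H → ℂ), Cfsg.IsIrrCharacter H ψ ∧ Cfsg.indFun H ψ = χ ∧ Cfsg.IsIrrCharacter N (fun n : N => ψ ⟨(n : G), hNH n.2⟩) := by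
  exact main _ N rfl hsolv hchief χ hχ

end Cfsg.Agent.S0858
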