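import Cfsg.Statements.S0859
import Mathlib
import Cfsg.Agent.Lib.CharCliffordCorr
import Cfsg.Agent.Lib.CharInducedMonomial
import Cfsg.Agent.Lib.DegreeDvd

set_option autoImplicit false
open Cfsg

namespace Cfsg.Agent.S0859
open Cfsg.Agent.CharBasic Cfsg.Agent.CharBasicOrth Cfsg.Agent.CharBasicDecomp
  Cfsg.Agent.CharInduced

universe w

/-- all Sylow subgroups are abelian -/
def SylAb (G : Type w) [Group G] : Prop :=
  ∀ (p : ℕ) [Fact p.Prime] (P : Sylow p G), ∀ a ∈ P, ∀ b ∈ P, a * b = b * a

/-- monomial -/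
def Mono {G : Type w} [Group G] [Fintype G] (χ : G → ℂ) : Prop :=
  ∃ (U : Subgroup G) (lam : U → ℂ), Cfsg.IsCharacter U lam ∧ lam 1 = 1 ∧ Cfsg.indFun U lam = χ

theorem sylAb_of_injective {A B : Type w} [Group A] [Group B] [Finite A] [Finite B] (f : A →* B)
    (hf : Function.Injective f) (h : SylAb B) : SylAb A := by
  intro p _ P a ha b hb
  obtain ⟨Q, hQ⟩ := (P.isPGroup'.map f).exists_le_sylow
  exact hf (by rw [map_mul, map_mul]; exact h p Q _ (hQ ⟨a, ha, rfl⟩) _ (hQ ⟨b, hb, rfl⟩))

/-- class two with abelian Sylow subgroups is abelian -/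
theorem comm_of_sylAb {M : Type w} [Group M] [Finite M] (h : SylAb M)
    (hc : ∀ a b : M, a * b * a⁻¹ * b⁻¹ ∈ Subgroup.center M) (a b : M) : a * b = b * a := by
  have hnil : Group.IsNilpotent M := by
    refine of_quotient_center_nilpotent ?_
    let _ : CommGroup (M ⧸ Subgroup.center M) := CommGroup.mk (fun x y => by
      induction x using QuotientGroup.induction_on with
      | H x =>
        induction y using QuotientGroup.induction_on with
        | H y =>
          rw [← QuotientGroup.mk_mul, ← QuotientGroup.mk_mul]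
          apply Quotient.sound'
          rw [QuotientGroup.leftRel_apply]
          have := hc y⁻¹ x⁻¹
          simpa [mul_assoc] using this)
    exact CommGroup.isNilpotent
  obtain ⟨e⟩ := ((Group.isNilpotent_of_finite_tfae (G := M)).out 0 4).1 hnil
  apply e.symm.injective
  rw [map_mul, map_mul]
  funext p P
  have : Fact (p : ℕ).Prime := ⟨Nat.prime_of_mem_primeFactors p.2⟩
  exact Subtype.ext (h p P _ (e.symm a p P).2 _ (e.symm b p P).2)

theorem mono_of_linear {G : Type w} [Group G] [Fintype G] {χ : G → ℂ}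
    (hχ : Cfsg.IsIrrCharacter G χ) (h1 : χ 1 = 1) : Mono χ := by
  refine ⟨⊤, fun x => χ x, isCharacter_res ⊤ (isCharacter_of_isIrrCharacter hχ), by simpa using h1, ?_⟩
  funext g
  rw [indFun_apply, Finset.sum_congr rfl (g := fun _ => χ g) (fun x _ => ?_),
    Finset.sum_const, Finset.card_univ, ← Nat.card_eq_fintype_card, nsmul_eq_mul,
    Subgroup.card_top, inv_mul_cancel_left₀ (Nat.cast_ne_zero.2 Nat.card_pos.ne')]
  rw [ext_zero_of_mem _ (Subgroup.mem_top _)]
  exact classFunction_conj' (isClassFunction_irr hχ) g x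

theorem mono_ind {G : Type w} [Group G] [Fintype G] (T : Subgroup G) [Fintype T] {ψ : T → ℂ}
    (h : Mono ψ) : Mono (Cfsg.indFun T ψ) := by
  obtain ⟨U, lam, hlam, h1, hind⟩ := h
  refine ⟨U.map T.subtype, lam ∘ (U.equivMapOfInjective T.subtype T.subtype_injective).symm,
    isCharacter_comap (U.equivMapOfInjective T.subtype T.subtype_injective).symm.toMonoidHom hlam,
    by simp [h1], ?_⟩
  rw [← ind_map_subtype T U lam, hind]

theorem main (m : ℕ) : ∀ {G : Type w} [Group G] [Fintype G] [Group.IsSolvable G] (N : Subgroup G)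
    [N.Normal], Nat.card G = m → SylAb N → ∀ χ : G → ℂ, Cfsg.IsIrrCharacter G χ →
      Cfsg.IsIrrCharacter N (fun x : N => χ x) → Mono χ := by
  induction m using Nat.strong_induction_on with
  | _ m ih =>
  intro G _ _ _ N _ hm hab χ hχ hres
  classical
  have : Fintype N := Fintype.ofFinite N
  have hχirr := hχ
  obtain ⟨n, ρ, hρ, rfl⟩ := hχ
  have := hρ
  have hne : {K : Subgroup G | K.Normal ∧ K ≤ N ∧
      ∀ a ∈ K, ∀ b ∈ K, ρ (a * b) = ρ (b * a)}.Nonempty :=
    ⟨⊥, inferInstance, bot_le, fun a ha b hb => by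
      rw [Subgroup.mem_bot.1 ha, Subgroup.mem_bot.1 hb]⟩
  obtain ⟨K, ⟨hKn, hKN, hKc⟩, hmax⟩ :=
    (Set.toFinite _).exists_maximalFor (fun K : Subgroup G => Nat.card K) _ hne
  have : Fintype K := Fintype.ofFinite K
  have hKchar : IsCharacter K (fun x : K => ρ.character x) :=
    isCharacter_res K (isCharacter_of_isIrrCharacter hχirr)
  obtain ⟨lam, hlam, hlne⟩ : ∃ θ : K → ℂ, IsIrrCharacter K θ ∧
      classInner (fun x : K => ρ.character x) θ ≠ 0 := by
    by_contra h
    push Not at h
    obtain ⟨mm, hmm, hsum⟩ := exists_mult hKchar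
    have h0 := congrFun hsum 1
    rw [Finset.sum_congr rfl (g := fun _ => (0 : K → ℂ)) (fun ψ _ => by
      rw [← hmm ψ, h ψ ψ.2, zero_smul])] at h0
    simp only [Finset.sum_const_zero, Pi.zero_apply, OneMemClass.coe_one] at h0
    exact isIrrCharacter_apply_one_ne_zero hχirr h0
  by_cases htop : inertia K lam = ⊤
  swap
  · -- a proper inertia group
    set T := inertia K lam with hT
    have : Fintype T := Fintype.ofFinite T
    have hKT : K ≤ T := le_inertia K (isClassFunction_irr hlam)
    obtain ⟨ψ, hψ, hind, -⟩ :=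
      CharCliffordCorr.clifford_correspondence K hχirr hlam hlne T hT hKT
    rw [← hind]
    apply mono_ind
    have hlt : Nat.card T < m := hm ▸ lt_of_le_of_ne T.card_le_card_group
      fun h => htop (Subgroup.eq_top_of_card_eq T h)
    set I := N.subgroupOf T with hI
    let f : I →* N := MonoidHom.mk' (fun x => ⟨((x : T) : G), x.2⟩) (fun a b => rfl)
    have hf : Function.Injective f := fun a b h =>
      Subtype.ext (Subtype.ext (congrArg (fun y : N => (y : G)) h))
    refine ih _ hlt I rfl (sylAb_of_injective f hf hab) ψ hψ ?_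
    -- `ψ` is irreducible on `I`
    have : Fintype I := Fintype.ofFinite I
    have hψc := isCharacter_res I (isCharacter_of_isIrrCharacter hψ)
    obtain ⟨mm, hmm, hsum⟩ := exists_mult hψc
    obtain ⟨ξ, -, hξ⟩ := Finset.exists_ne_zero_of_sum_ne_zero
      (f := fun φ : IrrCharacter I => (mm φ : ℂ) * (φ : I → ℂ) 1) (s := Finset.univ) (by
        have := congrFun hsum 1
        simp only [Finset.sum_apply, Pi.smul_apply, smul_eq_mul, OneMemClass.coe_one] at this
        rw [← this]
        exact isIrrCharacter_apply_one_ne_zero hψ)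
    have hξ0 : mm ξ ≠ 0 := fun h => hξ (by rw [h]; simp)
    have hξne : classInner (fun x : I => ψ x) (ξ : I → ℂ) ≠ 0 := by
      rw [hmm]; exact Nat.cast_ne_zero.2 hξ0
    rw [CharCliffordCorr.eq_of_constituent hψc ξ.2 hξne ?_]
    · exact ξ.2
    -- degrees
    set J := (T ⊓ N).subgroupOf N with hJ
    have : Fintype J := Fintype.ofFinite J
    let g : J →* I := MonoidHom.mk' (fun x => ⟨⟨((x : N) : G), x.2.1⟩, x.2.2⟩) (fun a b => rfl)
    have hg : Function.Surjective g := fun y =>
      ⟨⟨⟨((y : T) : G), y.2⟩, ⟨(y : T).2, y.2⟩⟩, rfl⟩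
    set ξ' : J → ℂ := fun x => (ξ : I → ℂ) (g x) with hξ'
    have hξ'irr : IsIrrCharacter J ξ' := isIrrCharacter_comap g hg ξ.2
    -- `ψ` is a constituent of `χ|T`
    obtain ⟨b, hb, hbsum⟩ := exists_mult (isCharacter_res T (isCharacter_of_isIrrCharacter hχirr))
    have hbψ : b ⟨ψ, hψ⟩ ≠ 0 := by
      intro hz
      have := hb ⟨ψ, hψ⟩
      rw [hz, Nat.cast_zero, ← CharInduced.inner_conj_symm, map_eq_zero,
        ← inner_ind_left T ψ (isClassFunction_irr hχirr), hind, classInner_irr_self hχirr] at this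
      exact one_ne_zero this
    have hne' : classInner (fun x : J => ρ.character ((x : N) : G)) ξ' ≠ 0 := by
      intro hz
      have hg' : Function.Bijective g := by
        refine ⟨fun a b h => ?_, hg⟩
        exact Subtype.ext (Subtype.ext (congrArg (fun y : I => ((y : T) : G)) h))
      have hz' : classInner (fun x : I => ρ.character ((x : T) : G)) (ξ : I → ℂ) = 0 := by
        rw [← hz]
        simp only [classInner]
        rw [Nat.card_congr (Equiv.ofBijective g hg')]
        congr 1
        exact (Fintype.sum_bijective g hg' _ _ fun x => rfl).symm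
      have hI1 : (fun x : I => ρ.character ((x : T) : G)) = ∑ φ : IrrCharacter T,
          (b φ : ℂ) • (fun x : I => (φ : T → ℂ) x) := by
        funext x
        simpa using congrFun hbsum (x : T)
      choose c hc using fun φ : IrrCharacter T => classInner_isCharacter
        (isCharacter_res I (isCharacter_of_isIrrCharacter φ.2)) (isCharacter_of_isIrrCharacter ξ.2)
      have he : ((∑ φ, b φ * c φ : ℕ) : ℂ) = 0 := by
        rw [← hz', hI1, CharBasicOrth.classInner_sum_left, Nat.cast_sum]
        refine Finset.sum_congr rfl fun φ _ => ?_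
        rw [CharInduced.inner_smul_left, Nat.cast_mul, ← hc φ]
      have h00 : ∑ φ, b φ * c φ = 0 := by exact_mod_cast he
      have hz2 := (Finset.sum_eq_zero_iff.1 h00) ⟨ψ, hψ⟩ (Finset.mem_univ _)
      have hc0 : c ⟨ψ, hψ⟩ ≠ 0 := fun h => hξne (by
        have := hc ⟨ψ, hψ⟩
        rw [h, Nat.cast_zero] at this
        exact this)
      exact (mul_ne_zero hbψ hc0) hz2
    have h1 := DegreeDvd.exists_irr_inner_ne_zero hres hξ'irr hne'
    have hJidx : J.index ≤ T.index := by
      show (T ⊓ N).relIndex N ≤ T.index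
      rw [Subgroup.inf_relIndex_right]
      rw [← Subgroup.relIndex_top_right T]
      exact Subgroup.relIndex_le_of_le_right le_top (by rw [Subgroup.relIndex_top_right]; exact Subgroup.index_ne_zero_of_finite)
    have h2 : ρ.character 1 = (T.index : ℂ) * ψ 1 := by
      rw [← hind, ind_one_apply]
    obtain ⟨dξ, -, hdξ⟩ := isIrrCharacter_apply_one ξ.2
    obtain ⟨dψ, -, hdψ⟩ := isIrrCharacter_apply_one hψ
    have hg1 : ξ' 1 = dξ := by rw [hξ']; simp [hdξ]
    simp only [OneMemClass.coe_one] at h1 ⊢
    rw [hdψ] at h2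
    rw [h2, hg1] at h1
    simp only [hdψ, hdξ, Complex.natCast_re] at h1 ⊢
    rw [← Nat.cast_mul, Complex.natCast_re, ← Nat.cast_mul, Nat.cast_le] at h1
    exact_mod_cast Nat.le_of_mul_le_mul_left (h1.trans (Nat.mul_le_mul_right _ hJidx))
      (Nat.pos_of_ne_zero Subgroup.index_ne_zero_of_finite)
  -- invariant `lam`: `K` acts by scalars
  have hKres := clifford K hχirr hlam hlne
  have horb : orbitFin K lam = {lam} := Finset.eq_singleton_iff_unique_mem.2
    ⟨self_mem_orbitFin K lam, fun φ hφ => by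
      obtain ⟨x, rfl⟩ := (mem_orbitFin K).1 hφ
      exact (mem_inertia K).1 (by rw [htop]; exact Subgroup.mem_top x)⟩
  rw [horb, Finset.sum_singleton] at hKres
  set e : ℂ := classInner (fun x : K => ρ.character x) lam with he
  obtain ⟨d, σ, hσ, hlam'⟩ := hlam
  have := hσ
  have hval : ∀ x : K, ρ.character x = e * lam x := fun x => congrFun hKres x
  have hcomm : ∀ a b : K, σ a * σ b = σ b * σ a := by
    intro a b
    have h1 : ρ ((a : G) * b * ((b : G) * a)⁻¹) = 1 := by
      rw [map_mul, hKc a a.2 b b.2, ← map_mul, mul_inv_cancel, map_one]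
    have h2 : ρ.character ((a * b * (b * a)⁻¹ : K) : G) = ρ.character 1 := by
      show LinearMap.trace ℂ _ (ρ _) = LinearMap.trace ℂ _ (ρ 1)
      rw [map_one]
      simp only [Subgroup.coe_mul, Subgroup.coe_inv, h1]
    have h3 : lam (a * b * (b * a)⁻¹) = lam 1 := by
      have h4 := hval 1
      rw [OneMemClass.coe_one, ← h2, hval] at h4
      exact mul_left_cancel₀ hlne h4
    rw [← hlam'] at h3
    have h5 := eq_one_of_character_eq_finrank σ _ (h3.trans (Representation.char_one σ))
    rw [← map_mul, ← map_mul]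
    calc σ (a * b) = σ (a * b * (b * a)⁻¹) * σ (b * a) := by rw [← map_mul]; group
      _ = σ (b * a) := by rw [h5]; rfl
  have hKscal : ∀ a : K, ∃ w : ℂ, ρ a = w • (LinearMap.id : (Fin n → ℂ) →ₗ[ℂ] (Fin n → ℂ)) := by
    intro a
    obtain ⟨w, hw⟩ := exists_scalar_of_commute σ (σ a) fun x v => DFunLike.congr_fun (hcomm a x) v
    rw [← norm_eq_finrank_iff]
    have h1 : ‖σ.character a‖ = (Module.finrank ℂ (Fin d → ℂ) : ℝ) :=
      (norm_eq_finrank_iff σ a).2 ⟨w, hw.1⟩
    have h4 : (n : ℂ) = e * d := by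
      have := hval 1
      rw [← hlam', OneMemClass.coe_one, Representation.char_one, Representation.char_one] at this
      simpa using this
    rw [hval, ← hlam', norm_mul, h1]
    have := congrArg norm h4
    rw [Complex.norm_natCast, norm_mul, Complex.norm_natCast] at this
    simpa using this.symm
  by_cases hKeq : K = N
  · -- `N` acts by scalars
    refine mono_of_linear hχirr ?_
    have hn1 : (n : ℂ) ^ 2 = 1 := by
      rw [← classInner_irr_self hres]
      have hno : ∀ x : N, ρ.character x * (starRingEnd ℂ) (ρ.character x) = (n : ℂ) ^ 2 := fun x => by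
        rw [Complex.mul_conj', (norm_eq_finrank_iff ρ x).2 (hKscal ⟨x, hKeq ▸ x.2⟩)]
        simp
      simp only [classInner, hno, Finset.sum_const, Finset.card_univ, nsmul_eq_mul,
        ← Nat.card_eq_fintype_card]
      rw [inv_mul_cancel_left₀ (Nat.cast_ne_zero.2 Nat.card_pos.ne')]
    have : n ^ 2 = 1 := by exact_mod_cast hn1
    have : n = 1 := by nlinarith [Nat.zero_le n]
    rw [Representation.char_one]; simp [this]
  · exfalso
    have hKlt : K < N := lt_of_le_of_ne hKN hKeq
    obtain ⟨L, ⟨hLn, hKL, hLN⟩, hmin⟩ := (Set.toFinite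
      {L : Subgroup G | L.Normal ∧ K < L ∧ L ≤ N}).exists_minimalFor
        (fun L : Subgroup G => Nat.card L) _ ⟨N, inferInstance, hKlt, le_rfl⟩
    have hLL : ⁅L, L⁆ ≤ K := by
      have hle : ⁅L, L⁆ ⊔ K ≤ L := sup_le (Subgroup.commutator_le_self L) hKL.le
      rcases (le_sup_right : K ≤ ⁅L, L⁆ ⊔ K).eq_or_lt with h | h
      · exact h.symm ▸ le_sup_left
      · exfalso
        have heq := Subgroup.eq_of_le_of_card_ge hle
          (hmin (j := ⁅L, L⁆ ⊔ K) ⟨inferInstance, h, hle.trans hLN⟩ (Subgroup.card_le_of_le hle))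
        set q := QuotientGroup.mk' K
        have hLq : L.map q = ⁅L.map q, L.map q⁆ := by
          conv_lhs => rw [← heq, Subgroup.map_sup, QuotientGroup.map_mk'_self, sup_bot_eq,
            Subgroup.map_commutator]
        have hd : ∀ j, L.map q ≤ derivedSeries (G ⧸ K) j := by
          intro j
          induction j with
          | zero => simp
          | succ j ih => rw [derivedSeries_succ, hLq]; exact Subgroup.commutator_mono ih ih
        obtain ⟨j, hj⟩ := (inferInstance : Group.IsSolvable (G ⧸ K)).solvable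
        have hbot := (hd j).trans hj.le
        rw [le_bot_iff, Subgroup.map_eq_bot_iff, QuotientGroup.ker_mk'] at hbot
        exact hKL.not_ge hbot
    let f : L →* (Module.End ℂ (Fin n → ℂ))ˣ := (MonoidHom.toHomUnits ρ).comp L.subtype
    have hsyl : SylAb f.range := by
      intro p _ P a ha b hb
      obtain ⟨P₀⟩ := (inferInstance : Nonempty (Sylow p L))
      obtain ⟨x, hx⟩ := MulAction.exists_smul_eq f.range
        (P₀.mapSurjective (f.rangeRestrict_surjective)) P
      rw [← hx] at ha hb
      have hmem : ∀ y ∈ x • P₀.mapSurjective (f.rangeRestrict_surjective),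
          ∃ z ∈ (P₀ : Subgroup L), y = x * f.rangeRestrict z * x⁻¹ := by
        intro y hy
        have hy' : y ∈ ((x • P₀.mapSurjective (f.rangeRestrict_surjective) : Sylow p f.range) :
            Subgroup f.range) := hy
        rw [Sylow.coe_subgroup_smul, Subgroup.mem_pointwise_smul_iff_inv_smul_mem,
          Sylow.coe_mapSurjective] at hy'
        obtain ⟨z, hz, hze⟩ := hy'
        refine ⟨z, hz, ?_⟩
        rw [hze, ← map_inv, MulAut.smul_def, MulAut.conj_apply]
        group
      obtain ⟨za, hza, rfl⟩ := hmem a ha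
      obtain ⟨zb, hzb, rfl⟩ := hmem b hb
      have hL : SylAb L := sylAb_of_injective (Subgroup.inclusion hLN)
        (Subgroup.inclusion_injective hLN) hab
      have hz := congrArg f.rangeRestrict (hL p P₀ za hza zb hzb)
      simp only [map_mul] at hz
      calc x * f.rangeRestrict za * x⁻¹ * (x * f.rangeRestrict zb * x⁻¹)
          = x * (f.rangeRestrict za * f.rangeRestrict zb) * x⁻¹ := by group
        _ = x * (f.rangeRestrict zb * f.rangeRestrict za) * x⁻¹ := by rw [hz]
        _ = _ := by group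
    have hcen : ∀ a b : f.range, a * b * a⁻¹ * b⁻¹ ∈ Subgroup.center f.range := by
      intro a b
      obtain ⟨x, rfl⟩ := f.rangeRestrict_surjective a
      obtain ⟨y, rfl⟩ := f.rangeRestrict_surjective b
      rw [← map_inv, ← map_inv, ← map_mul, ← map_mul, ← map_mul]
      have hk : ((x * y * x⁻¹ * y⁻¹ : L) : G) ∈ K := by
        have := hLL (Subgroup.commutator_mem_commutator x.2 y.2)
        simpa [commutatorElement_def] using this
      obtain ⟨w, hw⟩ := hKscal ⟨_, hk⟩
      rw [Subgroup.mem_center_iff]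
      intro c
      apply Subtype.ext
      apply Units.ext
      show (c : (Module.End ℂ (Fin n → ℂ))ˣ).1 * ρ _ = ρ _ * (c : (Module.End ℂ (Fin n → ℂ))ˣ).1
      rw [show ρ (L.subtype (x * y * x⁻¹ * y⁻¹ : L)) = _ from hw]
      refine LinearMap.ext fun v => ?_
      simp
    have hLset : L.Normal ∧ L ≤ N ∧ ∀ a ∈ L, ∀ b ∈ L, ρ (a * b) = ρ (b * a) := by
      refine ⟨hLn, hLN, fun a ha b hb => ?_⟩
      have := comm_of_sylAb hsyl hcen (f.rangeRestrict ⟨a, ha⟩) (f.rangeRestrict ⟨b, hb⟩)
      rw [map_mul ρ, map_mul ρ]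
      exact congrArg (fun u : f.range => ((u : (Module.End ℂ (Fin n → ℂ))ˣ) : Module.End ℂ (Fin n → ℂ))) this
    exact hKL.ne (Subgroup.eq_of_le_of_card_ge hKL.le
      (hmax hLset (Subgroup.card_le_of_le hKL.le)))

/-- Let G be a finite solvable group and N a normal subgroup such that for every prime p every Sylow p-subgroup of N is abelian. Suppose every irreducible character of G is induced from an irreducible character of some subgroup containing N whose restriction to N is irreducible. Then every irreducible character of G is induced from a character of degree 1 of some subgroup. -/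
theorem result {G : Type*} [Group G] [Fintype G] [Group.IsSolvable G] (N : Subgroup G) [N.Normal] (hab : ∀ (p : ℕ) [Fact p.Prime] (P : Sylow p N), ∀ a ∈ P, ∀ b ∈ P, a * b = b * a) (hrel : ∀ χ : G → ℂ, Cfsg.IsIrrCharacter G χ → ∃ (H : Subgroup G) (hNH : N ≤ H) (ψ : H → ℂ), Cfsg.IsIrrCharacter H ψ ∧ Cfsg.indFun H ψ = χ ∧ Cfsg.IsIrrCharacter N (fun n : N => ψ ⟨(n : G), hNH n.2⟩)) (χ : G → ℂ) (hχ : Cfsg.IsIrrCharacter G χ) : ∃ (U : Subgroup G) (lam : U → ℂ), Cfsg.IsCharacter U lam ∧ lam 1 = 1 ∧ Cfsg.indFun U lam = χ := by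
  classical
  obtain ⟨H, hNH, ψ, hψ, hind, hψN⟩ := hrel χ hχ
  have : Fintype H := Fintype.ofFinite H
  rw [← hind]
  apply mono_ind
  let ε : N.subgroupOf H ≃* N := Subgroup.subgroupOfEquivOfLe hNH
  refine main _ (N.subgroupOf H) rfl
    (sylAb_of_injective ε.toMonoidHom ε.injective (fun p _ P => hab p P)) ψ hψ ?_
  exact CharBasic.isIrrCharacter_comap ε.toMonoidHom ε.surjective hψN

end Cfsg.Agent.S0859
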