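import Cfsg.Statements.S3779
import Cfsg.Agent.Lib.GrLie99Assoc
import Cfsg.Agent.Lib.GrLie99Fpf
import Cfsg.Agent.Lib.FrobeniusNilpotent

set_option autoImplicit false
open Cfsg

namespace Cfsg.Agent.S3779

open Cfsg.Agent.GrLie99Assoc
open Cfsg.Agent.GrLie99Kreknin (Fam Closed series series_eq_bot)
open Cfsg.Agent.GrLie99Higman (lcs)
open scoped commutatorElement

section

variable {G : Type*} [Group G]

theorem mulAut_pow_apply (α : MulAut G) (k : ℕ) (x : G) : (α ^ k) x = α^[k] x := by
  induction k generalizing x with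
  | zero => rfl
  | succ k ih => rw [pow_succ, MulAut.mul_apply, ih, Function.iterate_succ_apply]

theorem grMap_iterate (α : MulAut G) (k : ℕ) {n : ℕ} {x : G} (hx : x ∈ lc G n)
    (hy : α^[k] x ∈ lc G n) : (grMap α)^[k] (ι n x hx) = ι n (α^[k] x) hy := by
  induction k generalizing x with
  | zero => rfl
  | succ k ih =>
    rw [Function.iterate_succ_apply, grMap_ι,
      ih (map_mem_lc α hx) (by rwa [← Function.iterate_succ_apply])]
    exact ι_congr rfl (Function.iterate_succ_apply α k x).symm _ _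

theorem ι_comm_mem_C {i j : ℕ} (hj : i + j + 1 = i + 1) {a b : G} (ha : a ∈ lc G i) (hb : b ∈ lc G j)
    (hx : ⁅a, b⁆ ∈ lc G (i + 1)) (h : ι i a ha ∈ GrLie99Fpf.C (Gr G) i) :
    ι (i + 1) ⁅a, b⁆ hx ∈ GrLie99Fpf.C (Gr G) (i + 1) := by
  rw [ι_congr hj.symm rfl hx (comm_mem ha hb), ← lie_ι ha hb]
  exact GrLie99Fpf.C_lie h _

theorem ι_mem_C : ∀ (n : ℕ) (x : G) (hx : x ∈ lc G n),
    ι n x hx ∈ GrLie99Fpf.C (Gr G) n := by
  intro n
  induction n with
  | zero => exact fun _ _ => trivial
  | succ n ih =>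
    suffices H : ∀ x ∈ lc G (n + 1), ∃ h : x ∈ lc G (n + 1),
        ι (n + 1) x h ∈ GrLie99Fpf.C (Gr G) (n + 1) by
      intro x hx
      obtain ⟨_, h⟩ := H x hx
      exact h
    intro x hx
    have e : lc G (n + 1) = ⁅lc G n, (⊤ : Subgroup G)⁆ := Subgroup.lowerCentralSeries_succ _ n
    have hx' := hx
    rw [e, Subgroup.commutator_def] at hx'
    induction hx' using Subgroup.closure_induction with
    | mem z hz =>
      obtain ⟨a, ha, b, hb, rfl⟩ := hz
      have hb0 : b ∈ lc G 0 := by simp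
      refine ⟨hx, ?_⟩
      exact ι_comm_mem_C (i := n) (j := 0) (by omega) ha hb0 hx (ih a ha)
    | one => exact ⟨one_mem _, by rw [ι_one]; exact zero_mem _⟩
    | mul u v hu hv iu iv =>
      obtain ⟨u1, u2⟩ := iu (by rw [e, Subgroup.commutator_def]; exact hu)
      obtain ⟨v1, v2⟩ := iv (by rw [e, Subgroup.commutator_def]; exact hv)
      exact ⟨mul_mem u1 v1, by rw [ι_mul u1 v1]; exact add_mem u2 v2⟩
    | inv u hu iu =>
      obtain ⟨u1, u2⟩ := iu (by rw [e, Subgroup.commutator_def]; exact hu)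
      refine ⟨inv_mem u1, ?_⟩
      have := (ι_mul u1 (inv_mem u1)).symm.trans
        ((ι_congr rfl (mul_inv_cancel u) _ (one_mem _)).trans (ι_one _))
      rw [eq_neg_of_add_eq_zero_right this]
      exact neg_mem u2

theorem exp_kill [Finite G] (m : Gr G) : (Nat.card G) • m = 0 := by
  induction m using gr_induction with
  | h0 => exact smul_zero _
  | h2 a b ha hb => rw [smul_add, ha, hb, add_zero]
  | h1 n x hx =>
    have : ∀ k : ℕ, k • ι n x hx = ι n (x ^ k) (pow_mem hx k) := by
      intro k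
      induction k with
      | zero => rw [zero_smul]; exact ((ι_congr rfl (pow_zero x) _ (one_mem _)).trans (ι_one _)).symm
      | succ k ih =>
        rw [succ_nsmul, ih, ← ι_mul (pow_mem hx k) hx]
        exact ι_congr rfl (pow_succ x k).symm _ _
    rw [this, ι_congr rfl pow_card_eq_one' _ (one_mem _), ι_one]

theorem fixed_zero [Finite G] (α : MulAut G) (hfpf : ∀ g : G, α g = g → g = 1) (m : Gr G)
    (hm : grMap α m = m) : m = 0 := by
  classical
  have key : ∀ (z : Gr G) (n : ℕ),
      DirectSum.of (fun n => Additive (Sec G n)) n ((grMap α z) n) =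
        grMap α (DirectSum.of (fun n => Additive (Sec G n)) n (z n)) := by
    intro z n
    induction z using gr_induction with
    | h0 => simp only [map_zero, DirectSum.zero_apply]
    | h2 a b ha hb => simp only [map_add, DirectSum.add_apply, ha, hb]
    | h1 k x hx =>
      rw [grMap_ι]
      rcases eq_or_ne k n with rfl | h
      · rw [ι, ι, DirectSum.of_eq_same, DirectSum.of_eq_same]
        exact (grMap_ι α hx).symm
      · simp only [ι, DirectSum.of_eq_of_ne _ _ _ h.symm, map_zero]
  refine DFinsupp.ext fun n => ?_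
  obtain ⟨x, hx, e⟩ := exists_cls (m n)
  have h1 := key m n
  rw [hm, e, ← ι, grMap_ι] at h1
  change ι n x hx = ι n (α x) (map_mem_lc α hx) at h1
  have hk : x⁻¹ * α x ∈ lc G (n + 1) := by
    refine mem_of_ι_eq_zero (mul_mem (inv_mem hx) (map_mem_lc α hx)) ?_
    rw [ι_mul (inv_mem hx) (map_mem_lc α hx), ← h1, ← ι_mul (inv_mem hx) hx,
      ι_congr rfl (inv_mul_cancel x) _ (one_mem _), ι_one]
  let f : lc G (n + 1) → lc G (n + 1) :=
    fun g => ⟨(g : G)⁻¹ * α g, mul_mem (inv_mem g.2) (map_mem_lc α g.2)⟩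
  have hf : Function.Injective f := by
    intro a b hab
    have hab' : (a : G)⁻¹ * α a = (b : G)⁻¹ * α b := congrArg Subtype.val hab
    have : α ((b : G) * (a : G)⁻¹) = (b : G) * (a : G)⁻¹ := by
      rw [map_mul, map_inv, show α (a : G) = a * ((b : G)⁻¹ * α b) by rw [← hab', mul_inv_cancel_left]]
      group
    exact Subtype.ext (mul_inv_eq_one.1 (hfpf _ this)).symm
  obtain ⟨g, hg⟩ := Finite.surjective_of_injective hf ⟨_, hk⟩
  have hg' : (g : G)⁻¹ * α g = x⁻¹ * α x := congrArg Subtype.val hg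
  have hxg : x = g := by
    have : α (x * (g : G)⁻¹) = x * (g : G)⁻¹ := by
      rw [map_mul, map_inv, show α (g : G) = g * (x⁻¹ * α x) by rw [← hg', mul_inv_cancel_left]]
      group
    exact mul_inv_eq_one.1 (hfpf _ this)
  have h0 : ι n x hx = 0 := ι_eq_zero hx (hxg ▸ g.2)
  rw [ι, ← e] at h0
  exact DirectSum.of_injective n (h0.trans (map_zero _).symm)

theorem coprime_card [Finite G] {p : ℕ} (hp : p.Prime) (α : MulAut G) (hα : orderOf α = p)
    (hfpf : ∀ g : G, α g = g → g = 1) : (Nat.card G).Coprime p := by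
  have : Fact p.Prime := ⟨hp⟩
  have hP : IsPGroup p (Subgroup.zpowers α) :=
    IsPGroup.of_card (n := 1) (by rw [Nat.card_zpowers, hα, pow_one])
  have h := hP.card_modEq_card_fixedPoints (α := G)
  have : MulAction.fixedPoints (Subgroup.zpowers α) G = {1} := by
    ext g
    rw [MulAction.mem_fixedPoints, Set.mem_singleton_iff]
    refine ⟨fun hg => hfpf g (hg ⟨α, Subgroup.mem_zpowers α⟩), fun hg σ => ?_⟩
    subst hg
    show (σ : MulAut G) 1 = 1
    exact map_one _
  rw [this, Nat.card_coe_set_eq, Set.ncard_singleton] at h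
  refine (Nat.coprime_comm.1 ((hp.coprime_iff_not_dvd).2 fun hd => ?_))
  have : (Nat.card G) % p = 1 % p := h
  rw [Nat.mod_eq_zero_of_dvd hd, Nat.mod_eq_of_lt hp.one_lt] at this
  exact zero_ne_one this

universe u

theorem main {G : Type u} [Group G] [Finite G] {p : ℕ} (hp : p.Prime) (α : MulAut G)
    (hα : orderOf α = p) (hfpf : ∀ g : G, α g = g → g = 1) {N : ℕ}
    (hN : ∀ (Λ : Type u) [LieRing Λ] (A : Fam p Λ), Closed A → A 0 = ⊥ → iSupIndep A →
      ∀ i, lcs A N i = ⊥) : lc G N = ⊥ := by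
  have hpow : α ^ p = 1 := hα ▸ pow_orderOf_eq_one α
  have hiter : ∀ m : Gr G, (grMap α)^[p] m = m := by
    intro m
    induction m using gr_induction with
    | h0 => exact iterate_map_zero _ _
    | h2 a b ha hb => rw [iterate_map_add, ha, hb]
    | h1 n x hx =>
      have e : α^[p] x = x := by rw [← mulAut_pow_apply, hpow]; rfl
      rw [grMap_iterate α p hx (by rwa [e])]
      exact ι_congr rfl e _ _
  obtain ⟨q, hq⟩ : ∃ q : ℤ, ∀ m : Gr G, (q * (p : ℤ)) • m = m := by
    refine ⟨Nat.gcdB (Nat.card G) p, fun m => ?_⟩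
    have h := Nat.gcd_eq_gcd_ab (Nat.card G) p
    rw [coprime_card hp α hα hfpf, Nat.cast_one] at h
    have e : Nat.gcdB (Nat.card G) p * (p : ℤ) =
        1 - Nat.gcdA (Nat.card G) p * (Nat.card G : ℤ) := by linarith
    rw [e, sub_smul, one_smul, mul_smul, natCast_zsmul, exp_kill, smul_zero, sub_zero]
  have hC := GrLie99Fpf.C_eq_bot hp (M := Gr G) (grMap α) (grMap_lie α) hiter
    (fixed_zero α hfpf) hq hN
  have hstep : lc G N ≤ lc G (N + 1) := by
    intro x hx
    have := ι_mem_C N x hx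
    rw [hC, AddSubgroup.mem_bot] at this
    exact mem_of_ι_eq_zero hx this
  have hconst : ∀ k, lc G N ≤ lc G (N + k) := by
    intro k
    induction k with
    | zero => exact le_rfl
    | succ k ih =>
      refine hstep.trans ?_
      show (⊤ : Subgroup G).lowerCentralSeries (N + 1) ≤ (⊤ : Subgroup G).lowerCentralSeries (N + k + 1)
      rw [Subgroup.lowerCentralSeries_succ, Subgroup.lowerCentralSeries_succ]
      exact Subgroup.commutator_mono ih le_rfl
  obtain ⟨n, hn⟩ := Subgroup.nilpotent_iff_lowerCentralSeries.1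
    (FrobeniusNilpotent.isNilpotent_of_fpf α hfpf p hp hpow)
  exact le_bot_iff.1 ((hconst n).trans ((lc_anti (Nat.le_add_left n N)).trans hn.le))

end

/-- Let G be a finite group with an automorphism of prime order p fixing only the identity. Then G is nilpotent; if p = 2 then G is abelian, if p = 3 then G has class at most 2, and in general the class of G is at most ξ = 1 + (p−1) + (p−1)² + ⋯ + (p−1)^(n−1) with n = 2^(p−1) − 1 (the Higman–Kreknin–Kostrikin bound). -/
theorem result {G : Type*} [Group G] [Finite G] {p : ℕ} (hp : p.Prime) (α : MulAut G) (hα : orderOf α = p) (hfpf : ∀ g : G, α g = g → g = 1) : (p = 2 → (⊤ : Subgroup G).lowerCentralSeries 1 = ⊥) ∧ (p = 3 → (⊤ : Subgroup G).lowerCentralSeries 2 = ⊥) ∧ (⊤ : Subgroup G).lowerCentralSeries (Finset.sum (Finset.range (2 ^ (p - 1) - 1)) (fun i => (p - 1) ^ i)) = ⊥ := by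
  have gen := main hp α hα hfpf (N := GrLie99Higman.bound p (2 ^ (p - 1) - 1))
    (fun Λ _ A hA h0 hi i => by
      have : Fact p.Prime := ⟨hp⟩
      refine le_bot_iff.1 ((GrLie99Higman.lcs_eq_bot hA h0 hi _ i).trans ?_)
      rw [series_eq_bot hA h0 i])
  refine ⟨fun h2 => ?_, fun h3 => ?_, gen⟩
  · subst h2
    simpa [GrLie99Higman.bound] using gen
  · subst h3
    exact main hp α hα hfpf (N := 2) (fun Λ _ A hA h0 _ i => GrLie99Fpf.lcs_three hA h0 i)

end Cfsg.Agent.S3779
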