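import Cfsg.Statements.S0046
import Mathlib
import Cfsg.Agent.Lib.SubnormalJoin

set_option autoImplicit false
open Cfsg

namespace Cfsg.Agent.S0046

open scoped Pointwise commutatorElement

universe u

theorem solvable_aux {G : Type u} [Group G] [Finite G]
    (h : ∀ M : Subgroup G, IsCoatom M → Group.IsNilpotent M) : Group.IsSolvable G := by
  generalize hn : Nat.card G = n
  induction n using Nat.strong_induction_on generalizing G with
  | _ n ih =>
    by_cases hN : ∃ N : Subgroup G, N.Normal ∧ N ≠ ⊥ ∧ N ≠ ⊤
    · obtain ⟨N, hNn, hNb, hNt⟩ := hN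
      obtain ⟨M, hM, hNM⟩ := (eq_top_or_exists_le_coatom N).resolve_left hNt
      haveI := h M hM
      haveI : Group.IsSolvable N := Group.isSolvable_of_isSolvable_injective (f := Subgroup.inclusion hNM) (Subgroup.inclusion_injective hNM)
      let π := QuotientGroup.mk' N
      have hπ : Function.Surjective π := QuotientGroup.mk'_surjective N
      have hq : Group.IsSolvable (G ⧸ N) := by
        refine ih _ ?_ (fun B hB => ?_) rfl
        · rw [← hn, Subgroup.card_eq_card_quotient_mul_card_subgroup N]
          exact lt_mul_of_one_lt_right Nat.card_pos ((Subgroup.one_lt_card_iff_ne_bot N).2 hNb)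
        · have hco : IsCoatom (B.comap π) := Subgroup.isCoatom_comap_of_surjective hπ hB
          haveI := h _ hco
          exact Group.nilpotent_of_surjective (π.subgroupComap B) (MonoidHom.subgroupComap_surjective_of_surjective π B hπ)
      exact Group.isSolvable_of_ker_le_range N.subtype π (by rw [QuotientGroup.ker_mk', Subgroup.range_subtype])
    push Not at hN
    by_contra hns
    haveI : Nontrivial G := by
      by_contra ht
      rw [not_nontrivial_iff_subsingleton] at ht
      exact hns inferInstance
    have hnorm : ∀ H : Subgroup G, H ≠ ⊥ → H ≠ ⊤ → Subgroup.normalizer (H : Set G) ≠ ⊤ := fun H h1 h2 e =>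
      h2 (hN H (Subgroup.normalizer_eq_top_iff.mp e) h1)
    have hcyc : ∀ x : G, Subgroup.zpowers x ≠ ⊤ := fun x e => hns
      (Group.isSolvable_of_comm fun a b => by
        obtain ⟨i, rfl⟩ := Subgroup.mem_zpowers_iff.1 (e ▸ Subgroup.mem_top a)
        obtain ⟨j, rfl⟩ := Subgroup.mem_zpowers_iff.1 (e ▸ Subgroup.mem_top b)
        exact ((Commute.refl x).zpow_zpow i j).eq)
    -- two maximal subgroups meet trivially
    have hdisj : ∀ M₁ M₂ : Subgroup G, IsCoatom M₁ → IsCoatom M₂ → M₁ ≠ M₂ → M₁ ⊓ M₂ = ⊥ := by
      by_contra hc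
      push Not at hc
      obtain ⟨A, B, hA, hB, hne, hb⟩ := hc
      obtain ⟨D, ⟨M₁, M₂, hM₁, hM₂, hne', hD, hDb⟩, hmax⟩ := Set.Finite.exists_maximal
        (Set.toFinite {D : Subgroup G | ∃ M₁ M₂, IsCoatom M₁ ∧ IsCoatom M₂ ∧ M₁ ≠ M₂ ∧ D = M₁ ⊓ M₂ ∧ D ≠ ⊥})
        ⟨_, A, B, hA, hB, hne, rfl, hb⟩
      have hDlt : ∀ M X : Subgroup G, IsCoatom M → IsCoatom X → M ≠ X → D = M ⊓ X → D < M := by
        intro M X hM hX hMX e
        refine lt_of_le_of_ne (e ▸ inf_le_left) fun e' => hMX ?_
        have hle : M ≤ X := inf_eq_left.1 (e.symm.trans e')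
        exact ((hM.le_iff.1 hle).resolve_left hX.1).symm
      have hDtop : D ≠ ⊤ := (hDlt M₁ M₂ hM₁ hM₂ hne' hD).ne_top
      obtain ⟨M, hM, hNM⟩ := (eq_top_or_exists_le_coatom _).resolve_left (hnorm D hDb hDtop)
      have key : ∀ M' X : Subgroup G, IsCoatom M' → IsCoatom X → M' ≠ X → D = M' ⊓ X → M = M' := by
        intro M' X hM' hX hMX e
        by_contra hne2
        haveI := h M' hM'
        have hlt : D.subgroupOf M' < ⊤ := by
          rw [lt_top_iff_ne_top, Ne, Subgroup.subgroupOf_eq_top]
          exact (hDlt M' X hM' hX hMX e).not_ge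
        have hgt := Group.normalizerCondition_of_isNilpotent (G := M') _ hlt
        obtain ⟨y, hy, hyD⟩ := SetLike.exists_of_lt hgt
        have hyN : (y : G) ∈ Subgroup.normalizer (D : Set G) := by
          rw [Subgroup.mem_normalizer_iff] at hy ⊢
          intro x
          by_cases hx : x ∈ M'
          · simpa [Subgroup.mem_subgroupOf] using hy ⟨x, hx⟩
          · have hDM : D ≤ M' := (hDlt M' X hM' hX hMX e).le
            refine ⟨fun h' => absurd (hDM h') hx, fun h' => absurd ?_ hx⟩
            have := M'.mul_mem (M'.mul_mem (M'.inv_mem y.2) (hDM h')) y.2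
            simpa [mul_assoc] using this
        have h1 : D ≤ M ⊓ M' := le_inf ((Subgroup.le_normalizer).trans hNM) (hDlt M' X hM' hX hMX e).le
        have h2 : M ⊓ M' ≤ D := hmax ⟨M, M', hM, hM', hne2, rfl, fun e0 => hDb (eq_bot_iff.2 (e0 ▸ h1))⟩ h1
        exact hyD (h2 ⟨hNM hyN, y.2⟩)
      exact hne' ((key M₁ M₂ hM₁ hM₂ hne' hD).symm.trans
        (key M₂ M₁ hM₂ hM₁ hne'.symm (by rw [hD, inf_comm])))
    classical
    have := Fintype.ofFinite G
    let MS : Finset (Subgroup G) := Finset.univ.filter (fun M => IsCoatom M)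
    let el : Subgroup G → Finset G := fun M => (Finset.univ.filter (fun x => x ∈ M)).erase 1
    have hel : ∀ M : Subgroup G, (el M).card + 1 = Nat.card M := by
      intro M
      rw [Finset.card_erase_add_one (by simp [M.one_mem]), Nat.card_eq_fintype_card,
        Fintype.card_subtype]
    have hcover : Finset.univ.erase (1 : G) = MS.biUnion el := by
      ext x
      simp only [Finset.mem_erase, Finset.mem_univ, and_true, Finset.mem_biUnion, MS, el, Finset.mem_filter, true_and]
      refine ⟨fun hx => ?_, fun ⟨M, _, hx, _⟩ => hx⟩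
      obtain ⟨M, hM, hle⟩ := (eq_top_or_exists_le_coatom _).resolve_left (hcyc x)
      exact ⟨M, hM, hx, hle (Subgroup.mem_zpowers x)⟩
    have hdis : Set.PairwiseDisjoint (MS : Set (Subgroup G)) el := by
      intro A hA B hB hAB
      simp only [MS, Finset.coe_filter, Finset.mem_univ, true_and, Set.mem_setOf_eq] at hA hB
      refine Finset.disjoint_left.2 fun x hxA hxB => ?_
      simp only [el, Finset.mem_erase, Finset.mem_filter, Finset.mem_univ, true_and] at hxA hxB
      have : x ∈ A ⊓ B := ⟨hxA.2, hxB.2⟩
      rw [hdisj A B hA hB hAB, Subgroup.mem_bot] at this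
      exact hxA.1 this
    have htotal : ∑ M ∈ MS, (el M).card + 1 = Nat.card G := by
      rw [← Finset.card_biUnion hdis, ← hcover, Finset.card_erase_add_one (Finset.mem_univ _),
        Finset.card_univ, Nat.card_eq_fintype_card]
    let orb : Subgroup G → Finset (Subgroup G) := fun M => Finset.univ.image (fun g : G => MulAut.conj g • M)
    have hco : ∀ M : Subgroup G, IsCoatom M → M ≠ ⊥ := by
      intro M hM e
      subst e
      obtain ⟨x, hx⟩ := exists_ne (1 : G)
      rcases eq_bot_or_bot_lt (Subgroup.zpowers x) with h' | h'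
      · exact hx (Subgroup.zpowers_eq_bot.1 h')
      · exact hcyc x (hM.2 _ h')
    have horb : ∀ M : Subgroup G, IsCoatom M → orb M ⊆ MS ∧
        (∑ X ∈ orb M, (el X).card) + M.index = Nat.card G := by
      intro M hM
      have hstab : Subgroup.normalizer (M : Set G) = M := by
        rcases hM.le_iff.1 (Subgroup.le_normalizer (H := M)) with h' | h'
        · exact absurd h' (hnorm M (hco M hM) hM.1)
        · exact h'
      have hsub : orb M ⊆ MS := by
        intro X hX
        simp only [orb, Finset.mem_image, Finset.mem_univ, true_and] at hX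
        obtain ⟨g, rfl⟩ := hX
        refine Finset.mem_filter.2 ⟨Finset.mem_univ _, ?_⟩
        constructor
        · intro e
          apply hM.1
          rw [Subgroup.eq_top_iff']
          intro x
          exact (Subgroup.smul_mem_pointwise_smul_iff (a := MulAut.conj g)).1 (e ▸ Subgroup.mem_top (MulAut.conj g • x))
        · intro Y hY
          have h1 : M < (MulAut.conj g)⁻¹ • Y := by
            refine lt_of_le_of_ne ?_ ?_
            · rw [← Subgroup.pointwise_smul_le_pointwise_smul_iff (a := MulAut.conj g), smul_inv_smul]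
              exact hY.le
            · intro e
              apply hY.ne
              rw [e, smul_inv_smul]
          have h2 := hM.2 _ h1
          rw [Subgroup.eq_top_iff']
          intro y
          exact (Subgroup.smul_mem_pointwise_smul_iff (a := (MulAut.conj g)⁻¹)).1 (h2 ▸ Subgroup.mem_top ((MulAut.conj g)⁻¹ • y))
      have hfib : ∀ X ∈ orb M, (Finset.univ.filter (fun g : G => MulAut.conj g • M = X)).card = Nat.card M := by
        intro X hX
        simp only [orb, Finset.mem_image, Finset.mem_univ, true_and] at hX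
        obtain ⟨g, rfl⟩ := hX
        rw [Nat.card_eq_fintype_card, Fintype.card_subtype]
        refine Finset.card_equiv (Equiv.mulLeft g⁻¹) fun k => ?_
        simp only [Finset.mem_filter, Finset.mem_univ, true_and, Equiv.coe_mulLeft]
        have : g⁻¹ * k ∈ M ↔ MulAut.conj (g⁻¹ * k) • M = M := by
          rw [Cfsg.Agent.SubnormalJoin.conj_smul_eq_iff_mem_normalizer, hstab]
        rw [this, map_mul, mul_smul, map_inv, inv_smul_eq_iff]
      have hcard : (orb M).card * Nat.card M = Nat.card G := by
        rw [Nat.card_eq_fintype_card (α := G), ← Finset.card_univ,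
          Finset.card_eq_sum_card_image (fun g : G => MulAut.conj g • M) Finset.univ, Finset.sum_congr rfl hfib,
          Finset.sum_const, smul_eq_mul]
      have hidx : (orb M).card = M.index := by
        have h1 : (orb M).card * Nat.card M = M.index * Nat.card M := by rw [hcard, M.index_mul_card]
        exact Nat.eq_of_mul_eq_mul_right Nat.card_pos h1
      refine ⟨hsub, ?_⟩
      rw [← hidx, Finset.card_eq_sum_ones (orb M), ← Finset.sum_add_distrib, ← hcard]
      have : ∀ X ∈ orb M, (el X).card + 1 = Nat.card M := by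
        intro X hX
        simp only [orb, Finset.mem_image, Finset.mem_univ, true_and] at hX
        obtain ⟨g, rfl⟩ := hX
        rw [hel]
        exact (Nat.card_congr (Subgroup.equivSMul (MulAut.conj g) M).toEquiv).symm
      rw [Finset.sum_congr rfl this, Finset.sum_const, Finset.card_eq_sum_ones, smul_eq_mul]
    have hidx : ∀ M : Subgroup G, IsCoatom M → 2 * M.index ≤ Nat.card G := by
      intro M hM
      rw [← M.index_mul_card, mul_comm M.index]
      exact Nat.mul_le_mul_right _ ((Subgroup.one_lt_card_iff_ne_bot M).2 (hco M hM))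
    obtain ⟨M₀, hM₀, _⟩ := (eq_top_or_exists_le_coatom (⊥ : Subgroup G)).resolve_left bot_ne_top
    obtain ⟨hs₀, hc₀⟩ := horb M₀ hM₀
    have hi₀ : 1 < M₀.index := M₀.one_lt_index_of_ne_top hM₀.1
    have hex : ∃ M₁ ∈ MS, M₁ ∉ orb M₀ := by
      by_contra hc
      push Not at hc
      have : orb M₀ = MS := Finset.Subset.antisymm hs₀ hc
      rw [← this] at htotal
      omega
    obtain ⟨M₁, hM₁, hM₁'⟩ := hex
    have hM₁c : IsCoatom M₁ := (Finset.mem_filter.1 hM₁).2
    obtain ⟨hs₁, hc₁⟩ := horb M₁ hM₁c
    have hd : Disjoint (orb M₀) (orb M₁) := by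
      refine Finset.disjoint_left.2 fun X hX0 hX1 => hM₁' ?_
      simp only [orb, Finset.mem_image, Finset.mem_univ, true_and] at hX0 hX1 ⊢
      obtain ⟨a, rfl⟩ := hX0
      obtain ⟨b, hb⟩ := hX1
      exact ⟨b⁻¹ * a, by rw [map_mul, mul_smul, ← hb, map_inv, inv_smul_smul]⟩
    have hle : ∑ X ∈ orb M₀ ∪ orb M₁, (el X).card ≤ ∑ X ∈ MS, (el X).card :=
      Finset.sum_le_sum_of_subset (Finset.union_subset hs₀ hs₁)
    rw [Finset.sum_union hd] at hle
    have h0 := hidx M₀ hM₀
    have h1 := hidx M₁ hM₁c
    omega

/-- Schmidt's Theorem on minimal non-nilpotent groups: a finite group in which every maximal subgroup is nilpotent is solvable. -/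
theorem result {G : Type*} [Group G] [Finite G]
    (h : ∀ M : Subgroup G, IsCoatom M → Group.IsNilpotent M) : Group.IsSolvable G := by
  exact solvable_aux h

end Cfsg.Agent.S0046
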