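import Cfsg.Statements.S0779
import Cfsg.Agent.Lib.OrthUnitaryHerm
-- import your own Cfsg.Agent.* helpers here

set_option autoImplicit false
open Cfsg

namespace Cfsg.Agent.S0779

/-- Unitary transvections: let |F| = q², h the standard Hermitian form Σ x_i y_i^q and v ≠ 0 with h(v, v) = 0. The linear map x ↦ x + c h(x, v) v is an isometry of h if and only if c = 0 or c^(q−1) = −1. -/
theorem result {F : Type*} [Field F] [Fintype F] {q : ℕ} (hF : Fintype.card F = q ^ 2) (n : ℕ) (v : Fin n → F) (hv : v ≠ 0) (hv0 : Cfsg.hermForm n F q v v = 0) (c : F) : (∀ x y : Fin n → F, Cfsg.hermForm n F q ((Cfsg.unitaryTransvection n q v c).mulVec x) ((Cfsg.unitaryTransvection n q v c).mulVec y) = Cfsg.hermForm n F q x y) ↔ (c = 0 ∨ c ^ (q - 1) = -1) := by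
  have hq := OrthUnitaryHerm.two_le_q hF
  have key : c ^ (q - 1) * c = c ^ q := by rw [← pow_succ, Nat.sub_add_cancel (by omega)]
  constructor
  · intro h
    obtain ⟨y, hy⟩ : ∃ y, Cfsg.hermForm n F q v y ≠ 0 := by
      by_contra hc
      push Not at hc
      exact hv (OrthUnitaryHerm.eq_zero_of_herm_eq_zero hF hc)
    have h2 := h y y
    rw [OrthUnitaryHerm.herm_transvection hF, hv0, mul_zero, add_zero, add_eq_left,
      OrthUnitaryHerm.herm_conj hF v y] at h2
    have h3 : c + c ^ q = 0 := by
      rcases mul_eq_zero.1 h2 with h4 | h4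
      · exact absurd h4 (mul_ne_zero (pow_ne_zero _ hy) hy)
      · exact h4
    rcases eq_or_ne c 0 with hc | hc
    · exact Or.inl hc
    · refine Or.inr (mul_right_cancel₀ hc ?_)
      rw [key]; linear_combination h3
  · intro h x y
    refine OrthUnitaryHerm.isU_transvection hF ?_ x y
    rw [hv0, mul_zero, add_zero]
    rcases h with rfl | h
    · simp [OrthUnitaryHerm.zero_pow_q hF]
    · rw [← key, h]; ring

end Cfsg.Agent.S0779
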