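import Cfsg.Statements.S1644
import Cfsg.Agent.S0448
import Cfsg.Agent.Lib.J1MatModel91

set_option autoImplicit false
open Cfsg

namespace Cfsg.Agent.S1644

open Cfsg.Agent.J1Order91 in
/-- The first Janko group recognised by an involution centraliser, at the level of isomorphism: a finite simple group with abelian Sylow 2-subgroups of order 8 and an involution whose centraliser is isomorphic to Z/2 × A₅ is isomorphic to the subgroup of GL(7, 11) generated by the two explicit Janko matrices. -/
theorem result {G : Type*} [Group G] [Finite G] [IsSimpleGroup G] (S : Sylow 2 G) (hS : IsMulCommutative (S : Subgroup G)) (h8 : Nat.card S = 8) (t : G) (ht : orderOf t = 2) (e : (Subgroup.centralizer ({t} : Set G)) ≃* Multiplicative (ZMod 2) × alternatingGroup (Fin 5)) : Cfsg.Spor.IsoJ1 G := by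
  haveI : Fact (Nat.Prime 2) := ⟨Nat.prime_two⟩
  obtain ⟨d, hd⟩ := exists_data ht e
  subst hd
  have h3 : (Nat.card G).factorization 2 = 3 := by
    have h : 2 ^ (Nat.card G).factorization 2 = 2 ^ 3 := S.card_eq_multiplicity.symm.trans h8
    exact Nat.pow_right_injective le_rfl h
  exact isoJ1_of_data d (twoCentral d h3) (Cfsg.Agent.S0448.result d.t (twoCentral d h3) e).2

end Cfsg.Agent.S1644
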