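import Cfsg.Statements.S3035
import Cfsg.Agent.Lib.D8Centralizer
import Cfsg.Agent.Lib.SimplePSLApply
import Cfsg.Agent.Lib.Simple360

set_option autoImplicit false
open Cfsg

namespace Cfsg.Agent.S3035
open Matrix in
/-- `SL(3,2)` is simple of order 168. -/
theorem sl32 : IsSimpleGroup (SpecialLinearGroup (Fin 3) (ZMod 2)) ∧
    Nat.card (SpecialLinearGroup (Fin 3) (ZMod 2)) = 168 := by
  haveI : Fact (Nat.Prime 2) := ⟨Nat.prime_two⟩
  have hc : Nat.card (SpecialLinearGroup (Fin 3) (ZMod 2)) = 168 := by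
    have h := PSLCard.card_SL (F := ZMod 2) 3
    rw [Nat.card_zmod] at h
    simpa [Fin.prod_univ_three] using h
  have hcen : Subgroup.center (SpecialLinearGroup (Fin 3) (ZMod 2)) = ⊥ := by
    rw [← Subgroup.card_eq_one, PSLCard.card_center_SL, Nat.card_zmod]
    rfl
  refine ⟨?_, hc⟩
  haveI : IsSimpleGroup (ProjectiveSpecialLinearGroup (Fin 3) (ZMod 2)) :=
    PSLSimple.isSimpleGroup_PSL_fin' (by norm_num) (by norm_num)
  exact ((QuotientGroup.quotientMulEquivOfEq hcen).trans
    QuotientGroup.quotientBot).symm.isSimpleGroup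

/-- Let G be a finite group with an involution z whose centralizer is dihedral of order 8. Then G = C_G(z) O(G) with O(G) the largest normal subgroup of odd order, or G is isomorphic to the symmetric group of degree 4, the symmetric group of degree 5, the group SL₃(2), or the alternating group of degree 6. -/
theorem result {G : Type*} [Group G] [Finite G] (z : G) (hz : orderOf z = 2)
    (hC : Nonempty (↥(Subgroup.centralizer ({z} : Set G)) ≃* DihedralGroup 4)) :
    Subgroup.centralizer ({z} : Set G) ⊔ Cfsg.oddCore G = ⊤ ∨ Nonempty (G ≃* Equiv.Perm (Fin 4)) ∨ Nonempty (G ≃* Equiv.Perm (Fin 5)) ∨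
      Nonempty (G ≃* Matrix.SpecialLinearGroup (Fin 3) (ZMod 2)) ∨ Nonempty (G ≃* ↥(alternatingGroup (Fin 6))) := by
  classical
  haveI : Fact (Nat.Prime 2) := ⟨Nat.prime_two⟩
  obtain ⟨e⟩ := hC
  obtain ⟨φ, hs, rfl⟩ := D8Centralizer.exists_setup hz e
  by_cases hall : ∀ i, IsConj (φ (DihedralGroup.sr i)) (φ (DihedralGroup.r 2))
  · have hconj := D8Centralizer.allConj_of hs hall
    haveI := D8Centralizer.isSimpleGroup_of_allConj hs hconj
    rcases D8CharOrder.card_eq hs hconj (D8Centralizer.card_mod hs) with h | h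
    · obtain ⟨hsimp, hcard⟩ := sl32
      haveI := hsimp
      haveI := SimplePSLApply.fact_prime_seven
      obtain ⟨e1⟩ := SimplePSLApply.iso_seven (G := G) (F := ZMod 7) h (Nat.card_zmod 7)
      obtain ⟨e2⟩ := SimplePSLApply.iso_seven (G := Matrix.SpecialLinearGroup (Fin 3) (ZMod 2))
        (F := ZMod 7) hcard (Nat.card_zmod 7)
      exact Or.inr (Or.inr (Or.inr (Or.inl ⟨e1.trans e2.symm⟩)))
    · exact Or.inr (Or.inr (Or.inr (Or.inr (Simple360.nonempty_equiv_alternating h))))
  · push Not at hall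
    obtain ⟨i, hi⟩ := hall
    by_cases hj : IsConj (φ (DihedralGroup.sr (i + 1))) (φ (DihedralGroup.r 2))
    · rcases D8Centralizer.perm_four_or_five hs hi hj with h | h
      · exact Or.inr (Or.inl h)
      · exact Or.inr (Or.inr (Or.inl h))
    · have hall' : ∀ k, ¬ IsConj (φ (DihedralGroup.sr k)) (φ (DihedralGroup.r 2)) := by
        intro k hk
        rcases D8Centralizer.sr_cases i k with rfl | rfl | rfl | rfl
        exacts [hi hk, hi ((D8Centralizer.isConj_sr φ i).trans hk), hj hk,
          hj ((D8Centralizer.isConj_sr φ _).trans hk)]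
      obtain ⟨O, hOn, hOodd, hO⟩ := D8Centralizer.exists_odd_normal_of_isolated hs hall'
      refine Or.inl (top_le_iff.1 (hO.ge.trans (sup_le_sup hs.centralizer_eq.ge ?_)))
      exact le_sSup ⟨hOn, Nat.coprime_two_right.2 hOodd⟩

end Cfsg.Agent.S3035
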