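import Mathlib
import Cfsg.Statements.S0213
import Cfsg.Agent.Lib.TwoInvolutions

set_option autoImplicit false
open Cfsg

namespace Cfsg.Agent.S0213

theorem eq_half_of_orderOf_two {G : Type*} [Group G] [Finite G] {r z : G}
    (hz : z ∈ Subgroup.zpowers r) (h2 : orderOf z = 2) :
    Even (orderOf r) ∧ z = r ^ (orderOf r / 2) := by
  obtain ⟨k, hk, rfl⟩ : ∃ k < orderOf r, r ^ k = z := by
    classical
    rw [(isOfFinOrder_of_finite r).mem_zpowers_iff_mem_range_orderOf] at hz
    obtain ⟨k, hk, h⟩ := Finset.mem_image.1 hz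
    exact ⟨k, Finset.mem_range.1 hk, h⟩
  have hd : orderOf r ∣ k * 2 := orderOf_dvd_of_pow_eq_one (by
    rw [pow_mul]; simpa [h2] using pow_orderOf_eq_one (r ^ k))
  have hk0 : k ≠ 0 := by rintro rfl; simp at h2
  obtain ⟨c, hc⟩ := hd
  have hc1 : c = 1 := by
    rcases c with _ | _ | c
    · omega
    · rfl
    · exfalso; nlinarith
  subst hc1
  have h' : orderOf r / 2 = k := by omega
  exact ⟨⟨k, by omega⟩, by rw [h']⟩

/-- Thompson Order Formula, two-class case: if every involution of the finite group G is conjugate to exactly one of the non-conjugate involutions x₁, x₂, and nᵢ is the number of pairs (u, v) with u conjugate to x₁, v conjugate to x₂ and xᵢ in the cyclic group generated by uv, then |G| = |C(x₂)| n₁ + |C(x₁)| n₂. -/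
theorem result {G : Type*} [Group G] [Finite G] (x₁ x₂ : G) (h₁ : orderOf x₁ = 2) (h₂ : orderOf x₂ = 2) (hnc : ¬ IsConj x₁ x₂) (hall : ∀ t : G, orderOf t = 2 → IsConj x₁ t ∨ IsConj x₂ t) : Nat.card G = Nat.card (Subgroup.centralizer ({x₂} : Set G)) * Nat.card {p : G × G // IsConj x₁ p.1 ∧ IsConj x₂ p.2 ∧ x₁ ∈ Subgroup.zpowers (p.1 * p.2)} + Nat.card (Subgroup.centralizer ({x₁} : Set G)) * Nat.card {p : G × G // IsConj x₁ p.1 ∧ IsConj x₂ p.2 ∧ x₂ ∈ Subgroup.zpowers (p.1 * p.2)} := by
  classical
  haveI := Fintype.ofFinite G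
  let B : G × G → Prop := fun p => IsConj x₁ p.1 ∧ IsConj x₂ p.2
  let Fib : G → Type _ := fun z => {p : G × G // IsConj x₁ p.1 ∧ IsConj x₂ p.2 ∧
    z ∈ Subgroup.zpowers (p.1 * p.2)}
  have hord : ∀ {x y : G}, IsConj x y → orderOf x = 2 → orderOf y = 2 := fun {x y} h hx => by
    obtain ⟨c, rfl⟩ := isConj_iff.1 h
    exact (orderOf_injective (MulAut.conj c).toMonoidHom (MulAut.conj c).injective x).trans hx
  -- every pair has a distinguished involution
  let z : {p : G × G // B p} → G := fun p => (p.1.1 * p.1.2) ^ (orderOf (p.1.1 * p.1.2) / 2)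
  have hz : ∀ p : {p : G × G // B p}, orderOf (z p) = 2 := by
    intro p
    have hu := hord p.2.1 h₁
    have hv := hord p.2.2 h₂
    refine (TwoInvolutions.half_props hu hv ?_).1
    refine Nat.not_odd_iff_even.1 fun hodd => hnc ?_
    obtain ⟨d, -, hd⟩ := (TwoInvolutions.conj_iff_odd hu hv).2 hodd
    exact (p.2.1.trans (isConj_iff.2 ⟨d, hd⟩)).trans p.2.2.symm
  have hcard : ∀ (x : G), orderOf x = 2 →
      Nat.card {p : {p : G × G // B p} // IsConj x (z p)} =
        Nat.card {y : G // IsConj x y} * Nat.card (Fib x) := by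
    intro x hx
    have e1 : {p : {p : G × G // B p} // IsConj x (z p)} ≃ (y : {y : G // IsConj x y}) × Fib y.1 :=
      { toFun := fun p => ⟨⟨z p.1, p.2⟩, ⟨p.1.1, p.1.2.1, p.1.2.2,
          Subgroup.npow_mem_zpowers _ _⟩⟩
        invFun := fun p => ⟨⟨p.2.1, p.2.2.1, p.2.2.2.1⟩, by
          obtain ⟨⟨y, hy⟩, ⟨q, hq1, hq2, hq3⟩⟩ := p
          obtain ⟨-, h⟩ := eq_half_of_orderOf_two hq3 (hord hy hx)
          show IsConj x ((q.1 * q.2) ^ (orderOf (q.1 * q.2) / 2))
          rw [← h]; exact hy⟩
        left_inv := fun p => rfl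
        right_inv := fun p => by
          obtain ⟨⟨y, hy⟩, ⟨q, hq1, hq2, hq3⟩⟩ := p
          obtain ⟨-, h⟩ := eq_half_of_orderOf_two hq3 (hord hy hx)
          subst h
          rfl }
    rw [Nat.card_congr e1, Nat.card_sigma, Finset.sum_const_nat (m := Nat.card (Fib x)),
      Finset.card_univ, ← Nat.card_eq_fintype_card]
    intro y _
    obtain ⟨c, hc⟩ := isConj_iff.1 y.2
    refine (Nat.card_congr (Equiv.subtypeEquiv
      ((MulAut.conj c).toEquiv.prodCongr (MulAut.conj c).toEquiv) fun q => ?_)).symm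
    show (IsConj x₁ q.1 ∧ IsConj x₂ q.2 ∧ x ∈ Subgroup.zpowers (q.1 * q.2)) ↔
      (IsConj x₁ (MulAut.conj c q.1) ∧ IsConj x₂ (MulAut.conj c q.2) ∧
        (y : G) ∈ Subgroup.zpowers (MulAut.conj c q.1 * MulAut.conj c q.2))
    have hj : ∀ a b : G, IsConj a b ↔ IsConj a (MulAut.conj c b) := fun a b => by
      have : IsConj b (MulAut.conj c b) := isConj_iff.2 ⟨c, rfl⟩
      exact ⟨fun h => h.trans this, fun h => h.trans this.symm⟩
    rw [← hj, ← hj]
    refine and_congr_right fun _ => and_congr_right fun _ => ?_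
    rw [← map_mul, Subgroup.mem_zpowers_iff, Subgroup.mem_zpowers_iff]
    refine exists_congr fun k => ?_
    rw [← map_zpow, show (y : G) = MulAut.conj c x from hc.symm]
    exact (MulAut.conj c).injective.eq_iff.symm
  have hsplit : Nat.card {y : G // IsConj x₁ y} * Nat.card {y : G // IsConj x₂ y} =
      Nat.card {y : G // IsConj x₁ y} * Nat.card (Fib x₁) +
        Nat.card {y : G // IsConj x₂ y} * Nat.card (Fib x₂) := by
    rw [← hcard x₁ h₁, ← hcard x₂ h₂, ← Nat.card_prod, ← Nat.card_sum]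
    refine Nat.card_congr (Equiv.trans ?_
      ((Equiv.sumCompl (fun p : {p : G × G // B p} => IsConj x₁ (z p))).symm.trans
        (Equiv.sumCongr (Equiv.refl _) (Equiv.subtypeEquivRight fun p => ?_))))
    · exact { toFun := fun q => ⟨(q.1.1, q.2.1), q.1.2, q.2.2⟩
              invFun := fun p => (⟨p.1.1, p.2.1⟩, ⟨p.1.2, p.2.2⟩)
              left_inv := fun q => rfl
              right_inv := fun p => rfl }
    · refine ⟨fun h => (hall _ (hz p)).resolve_left h, fun h h' => hnc (h'.trans h.symm)⟩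
  have hK : ∀ x : G, Nat.card {y : G // IsConj x y} *
      Nat.card (Subgroup.centralizer ({x} : Set G)) = Nat.card G := by
    intro x
    have hs : MulAction.orbit (ConjAct G) x = {g : G | IsConj x g} := by
      ext g; rw [ConjAct.mem_orbit_conjAct]; exact isConj_comm
    have h1 : Nat.card {y : G // IsConj x y} = (Subgroup.centralizer ({x} : Set G)).index := by
      calc Nat.card {y : G // IsConj x y}
          = (MulAction.orbit (ConjAct G) x).ncard := by rw [hs]; rfl
        _ = (MulAction.stabilizer (ConjAct G) x).index := (MulAction.index_stabilizer _ _).symm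
        _ = _ := by rw [ConjAct.stabilizer_eq_centralizer]; rfl
    rw [h1, mul_comm, Subgroup.card_mul_index]
  show Nat.card G = _ * Nat.card (Fib x₁) + _ * Nat.card (Fib x₂)
  have hG : 0 < Nat.card G := Nat.card_pos
  apply Nat.eq_of_mul_eq_mul_left hG
  calc Nat.card G * Nat.card G = (Nat.card {y : G // IsConj x₁ y} *
        Nat.card {y : G // IsConj x₂ y}) * (Nat.card (Subgroup.centralizer ({x₁} : Set G)) *
        Nat.card (Subgroup.centralizer ({x₂} : Set G))) := by
        rw [mul_mul_mul_comm, hK, hK]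
    _ = _ := by
        have hd : ∀ A B : ℕ, Nat.card G * (A + B) =
            (Nat.card {y : G // IsConj x₁ y} * Nat.card (Subgroup.centralizer ({x₁} : Set G))) * A +
            (Nat.card {y : G // IsConj x₂ y} * Nat.card (Subgroup.centralizer ({x₂} : Set G))) * B :=
          fun A B => by rw [hK, hK]; ring
        rw [hsplit, hd]
        ring

end Cfsg.Agent.S0213
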