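import Cfsg.Statements.S0760
import Mathlib
import Cfsg.Agent.Lib.Witt

set_option autoImplicit false
open Cfsg

namespace Cfsg.Agent.S0760

theorem finrank_le_of_maximal {F V : Type*} [Field F] [AddCommGroup V] [Module F V]
    [FiniteDimensional F V] (Q : QuadraticForm F V) (hQ : (QuadraticMap.polarBilin Q).Nondegenerate)
    (W₁ W₂ : Submodule F V) (h₁ : ∀ w ∈ W₁, Q w = 0) (h₂ : ∀ w ∈ W₂, Q w = 0)
    (hmax : ∀ W : Submodule F V, W₁ ≤ W → (∀ w ∈ W, Q w = 0) → W = W₁) :
    Module.finrank F W₂ ≤ Module.finrank F W₁ := by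
  by_contra hlt
  obtain ⟨ι, hι⟩ : ∃ ι : W₁ →ₗ[F] W₂, Function.Injective ι := by
    let b₁ := Module.finBasis F W₁
    let b₂ := Module.finBasis F W₂
    let c : Fin (Module.finrank F W₁) → W₂ := b₂ ∘ Fin.castLE (by omega)
    refine ⟨b₁.constr ℕ c, ?_⟩
    rw [← LinearMap.ker_eq_bot, LinearMap.ker_eq_bot']
    intro w hw
    have hc : LinearIndependent F c := b₂.linearIndependent.comp _ (Fin.castLE_injective _)
    rw [b₁.constr_apply_fintype ℕ] at hw
    have := Fintype.linearIndependent_iff.mp hc _ hw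
    exact b₁.ext_elem fun i => by simpa using this i
  obtain ⟨g, hg, hgW⟩ := Cfsg.Agent.Witt.quad_extend Q hQ W₁ (W₂.subtype ∘ₗ ι)
    (W₂.injective_subtype.comp hι) (fun a => by rw [h₁ _ a.2]; exact h₂ _ (ι a).2)
  have hW := hmax (W₂.comap g.toLinearMap) (fun w hw => by
      show g w ∈ W₂
      rw [hgW ⟨w, hw⟩]
      exact (ι ⟨w, hw⟩).2) (fun w hw => by rw [← hg w]; exact h₂ _ hw)
  have := congrArg (fun U : Submodule F V => Module.finrank F U) hW
  rw [Submodule.comap_equiv_eq_map_symm, LinearEquiv.finrank_map_eq] at this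
  omega

/-- Witt index is well defined: if Q is a quadratic form on a finite-dimensional space V over a finite field with non-degenerate polar form, and W₁, W₂ are subspaces on which Q vanishes that are maximal with this property, then W₁ and W₂ have the same dimension, and twice this dimension is at most dim V. -/
theorem result {F V : Type*} [Field F] [Finite F] [AddCommGroup V] [Module F V] [FiniteDimensional F V] (Q : QuadraticForm F V) (hQ : (QuadraticMap.polarBilin Q).Nondegenerate) (W₁ W₂ : Submodule F V) (h₁ : ∀ w ∈ W₁, Q w = 0) (h₂ : ∀ w ∈ W₂, Q w = 0) (hmax₁ : ∀ W : Submodule F V, W₁ ≤ W → (∀ w ∈ W, Q w = 0) → W = W₁) (hmax₂ : ∀ W : Submodule F V, W₂ ≤ W → (∀ w ∈ W, Q w = 0) → W = W₂) : Module.finrank F W₁ = Module.finrank F W₂ ∧ 2 * Module.finrank F W₁ ≤ Module.finrank F V := by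
  have e : Module.finrank F W₁ = Module.finrank F W₂ :=
    le_antisymm (finrank_le_of_maximal Q hQ W₂ W₁ h₂ h₁ hmax₂)
      (finrank_le_of_maximal Q hQ W₁ W₂ h₁ h₂ hmax₁)
  refine ⟨e, ?_⟩
  have hd := LinearMap.BilinForm.finrank_orthogonal (B := QuadraticMap.polarBilin Q) hQ W₁
  have hle : W₁ ≤ LinearMap.BilinForm.orthogonal (QuadraticMap.polarBilin Q) W₁ := by
    intro w hw n hn
    show QuadraticMap.polar Q n w = 0
    rw [QuadraticMap.polar, h₁ _ hw, h₁ _ hn, h₁ _ (add_mem hn hw)]
    ring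
  have := Submodule.finrank_mono hle
  have := Submodule.finrank_le W₁
  omega

end Cfsg.Agent.S0760
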