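import Cfsg.Statements.S0824
import Cfsg.Agent.Lib.OrthUnitaryLowDim
import Cfsg.Agent.Lib.OrthUnitaryMinusFour
import Cfsg.Agent.Lib.OrthUnitarySmallIso
import Cfsg.Agent.S0252
-- import your own Cfsg.Agent.* helpers here

set_option autoImplicit false
open Cfsg

namespace Cfsg.Agent.S0824

open Cfsg.Agent.OrthUnitaryLowDim Cfsg.Agent.OrthUnitaryMinusFour Cfsg.Agent.OrthUnitarySmallIso
open Cfsg.Agent.OrthUnitaryQuad Cfsg.Agent.OrthUnitaryForms Cfsg.Agent.OrthUnitaryStd

/-- O⁻_4(2) ≅ S_5: the isometry group of the form x y + z_1² + z_1 z_2 + z_2² over the field with 2 elements is isomorphic to the symmetric group on 5 letters. -/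
theorem result {F : Type*} [Field F] [Fintype F] (hF : Fintype.card F = 2) : Nonempty (↥(Cfsg.isometryGroup F (Cfsg.quadFormMinus 1 F 1 1)) ≃* Equiv.Perm (Fin 5)) := by
  classical
  have hcases : ∀ x : F, x = 0 ∨ x = 1 := by
    intro x
    by_contra hx
    push Not at hx
    have h : ({0, 1, x} : Finset F).card ≤ 2 := hF ▸ Finset.card_le_univ _
    rw [Finset.card_eq_three.2 ⟨0, 1, x, zero_ne_one, Ne.symm hx.1, Ne.symm hx.2, rfl⟩] at h
    omega
  have h2 : (2 : F) = 0 := by
    have := FiniteField.cast_card_eq_zero F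
    rw [hF] at this
    exact_mod_cast this
  have hab : IsAniso (1 : F) 1 := by
    intro z₁ z₂ h
    rcases hcases z₁ with rfl | rfl <;> rcases hcases z₂ with rfl | rfl <;> simp_all
    exact one_ne_zero (by linear_combination h - h2)
  let K := GaloisField 2 2
  let := Fintype.ofFinite K
  have hK : Fintype.card K = 2 ^ 2 := by
    rw [← Nat.card_eq_fintype_card]
    exact GaloisField.card 2 2 two_ne_zero
  obtain ⟨e⟩ := (nonempty_minus_four hF hK hab).2 h2
  obtain ⟨e'⟩ := Cfsg.Agent.S0252.result hK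
  refine nonempty_isometryGroup_equiv_perm _ _
    (comp_symm_apply (withBase 1 (qfBin (1 : F) 1)) (quadFormMinus 1 F 1 1) (eqMinus 1)
      (eqMinus_isometry 1 1 1)) h2
    (nondegenerate_congr (eqMinus 1) (fun x => by simp)
      (nondegenerate_withBase (nondegenerate_qfBin hab) 1))
    (by simp) (e := Pi.single (Sum.inl (Sum.inl 0)) 1) ?_ ?_ (by norm_num) (by norm_num)
    ⟨e.trans e'⟩ ?_
  · rw [← comp_symm_apply (withBase 1 (qfBin (1 : F) 1)) (quadFormMinus 1 F 1 1) (eqMinus 1)
      (eqMinus_isometry 1 1 1)]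
    simp [quadFormMinus]
  · simp
  · rw [card_isometryGroup_minus hF hab 1]
    simp [Nat.factorial]

end Cfsg.Agent.S0824
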