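import Cfsg.Statements.S5566
import Cfsg.Agent.Lib.J4Thompson85
-- import your own Cfsg.Agent.* helpers here

set_option autoImplicit false
open Cfsg

namespace Cfsg.Agent.S5566

/-- Let G be a finite non-abelian simple group of Janko-four type (an involution z whose centralizer H has an extraspecial largest normal 2-subgroup E of order 2^13 containing its centralizer in H, a normal subgroup N ≥ E of H with N/E of order 3 and H/N the automorphism group of M₂₂, and a subgroup P ≤ N of order 3 with C_E(P) = ⟨z⟩, N_H(P) ≠ C_H(P) and P ≤ C_H(P)′). Then a Sylow 2-subgroup of G has exactly one elementary abelian subgroup of order 2^11. -/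
theorem result {G : Type*} [Group G] [Finite G] [IsSimpleGroup G] (hG : ¬ IsMulCommutative G) (hJ : Cfsg.IsOfJankoFourType G) (T : Sylow 2 G) :
    ∃! V : Subgroup G, V ≤ (T : Subgroup G) ∧ Cfsg.IsElementaryAbelian 2 V ∧ Nat.card ↥V = 2 ^ 11 := by
  classical
  obtain ⟨z, P, hJ'⟩ := hJ
  obtain ⟨V, _, zc, π, ρ, q, n, Mb, D⟩ := JFourModule85.exists_data hJ'
  letI : Fintype (GaloisField 2 2) := Fintype.ofFinite _
  have hF4 : Fintype.card (GaloisField 2 2) = 4 := by
    rw [← Nat.card_eq_fintype_card, GaloisField.card 2 2 two_ne_zero]; norm_num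
  obtain ⟨s, hs⟩ := U62Mon93.exists_S4 hF4
  obtain ⟨ν, C⟩ := J4Syl18.exists_coord D.hyp hs
  obtain ⟨hAea, hAc, -⟩ := J4Thompson85.AG_facts D C
  obtain ⟨g, hgT, hu⟩ := J4Thompson85.sylow_unique D C T
  refine ⟨_, ⟨hgT, (J4Thompson85.ea_iff _).2 (J4Elem85.ea_of_sq ?_), ?_⟩, fun B hB =>
    hu B hB.1 ((J4Thompson85.ea_iff B).1 hB.2.1) hB.2.2.ge⟩
  · rintro _ ⟨x, hx, rfl⟩
    rw [← map_mul, hAea.1 x hx, map_one]
  · rw [Subgroup.card_map_of_injective (MulAut.conj g).injective, hAc]

end Cfsg.Agent.S5566
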