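import Cfsg.Statements.S1711
import Cfsg.Agent.Lib.J4M24Iso13
import Cfsg.Agent.Lib.J4Rep13

set_option autoImplicit false
open Cfsg

namespace Cfsg.Agent.S1711

open Cfsg.Agent.J4PresGen13 Cfsg.Agent.J4PresData13 in
theorem relator_mem : ∀ w ∈ rels0, w ∈ Cfsg.Agent.J4RepData13.relW := by
  have h : (Cfsg.Agent.J4PresData13.rels0.all fun w => Cfsg.Agent.J4RepData13.relW.contains w) = true := by
    decide +kernel
  simpa [List.all_eq_true] using h

/-- The images of the two free generators in the presented group. -/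
noncomputable def qimg : Bool → Cfsg.Spor.J4
  | false => PresentedGroup.mk _ Cfsg.Spor.J4.x
  | true => PresentedGroup.mk _ Cfsg.Spor.J4.y

theorem qimg_rel : ∀ r ∈ Cfsg.Agent.J4M24Iso13.relSet, FreeGroup.lift qimg r = 1 := by
  rintro r ⟨w, hw, rfl⟩
  have hl := Cfsg.Agent.J4M24Iso13.rels0_low w hw
  have h : PresentedGroup.mk (Cfsg.Spor.coxRelators Cfsg.Spor.J4.edges ∪ {r | r ∈ Cfsg.Spor.J4.extra})
      (Cfsg.Agent.J4PresGen13.wv Cfsg.Agent.J4Rep13.fgen w) = 1 := by
    rw [PresentedGroup.mk_eq_one_iff]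
    refine Subgroup.subset_normalClosure (Or.inr ?_)
    rw [Set.mem_ofPred_eq, Cfsg.Agent.J4Rep13.extra_eq]
    exact List.mem_map_of_mem (relator_mem w hw)
  rw [← h]
  clear h hw
  induction w with
  | nil => simp [Cfsg.Agent.J4PresGen13.wv]
  | cons x w ih =>
    rw [Cfsg.Agent.J4PresGen13.wv, Cfsg.Agent.J4PresGen13.wv, map_mul, map_mul,
      ih fun l hl' => hl l (List.mem_cons_of_mem _ hl')]
    congr 1
    have := hl x List.mem_cons_self
    interval_cases x <;>
      simp [Cfsg.Agent.J4PresGen13.lv, Cfsg.Agent.J4M24Iso13.fg, Cfsg.Agent.J4Rep13.fgen, qimg]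

/-- The map onto the subgroup. -/
noncomputable def tau : Cfsg.Agent.J4M24Iso13.P →* Cfsg.Spor.J4 := PresentedGroup.toGroup qimg_rel

theorem tau_range : tau.range =
    (Subgroup.closure ({Cfsg.Spor.J4.x, Cfsg.Spor.J4.y} : Set (FreeGroup Cfsg.Spor.J4.Gen))).map
      (PresentedGroup.mk (Cfsg.Spor.coxRelators Cfsg.Spor.J4.edges ∪ {r | r ∈ Cfsg.Spor.J4.extra})) := by
  rw [MonoidHom.range_eq_map, ← PresentedGroup.closure_range_of, MonoidHom.map_closure, MonoidHom.map_closure,
    ← Set.range_comp]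
  congr 1
  ext z
  simp only [Set.mem_range, Function.comp_apply, Set.mem_image, Set.mem_insert_iff, Set.mem_singleton_iff]
  constructor
  · rintro ⟨b, rfl⟩
    cases b
    · exact ⟨_, Or.inl rfl, by simp [tau, qimg]⟩
    · exact ⟨_, Or.inr rfl, by simp [tau, qimg]⟩
  · rintro ⟨v, rfl | rfl, rfl⟩
    · exact ⟨false, PresentedGroup.toGroup.of qimg_rel⟩
    · exact ⟨true, PresentedGroup.toGroup.of qimg_rel⟩

theorem tau_injective : Function.Injective tau := by
  have := Cfsg.Agent.J4M24Iso13.P_simple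
  rw [← MonoidHom.ker_eq_bot_iff]
  refine (IsSimpleGroup.eq_bot_or_eq_top_of_normal tau.ker inferInstance).resolve_right fun h => ?_
  have hx : tau (PresentedGroup.of false) = 1 :=
    MonoidHom.mem_ker.1 (h ▸ Subgroup.mem_top _)
  have hx' : PresentedGroup.mk (Cfsg.Spor.coxRelators Cfsg.Spor.J4.edges ∪ {r | r ∈ Cfsg.Spor.J4.extra})
      Cfsg.Spor.J4.x = 1 := (PresentedGroup.toGroup.of qimg_rel).symm.trans hx
  exact Cfsg.Agent.J4Rep13.px_ne_one (by rw [← Cfsg.Agent.J4Rep13.rho_x, hx', map_one])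

/-- In the presented fourth Janko group (generators x, y, t), the subgroup generated by the images of x and y is isomorphic to the Mathieu group M₂₄. -/
theorem result : Nonempty ((((Subgroup.closure ({Cfsg.Spor.J4.x, Cfsg.Spor.J4.y} : Set (FreeGroup Cfsg.Spor.J4.Gen))).map (PresentedGroup.mk (Cfsg.Spor.coxRelators Cfsg.Spor.J4.edges ∪ {r | r ∈ Cfsg.Spor.J4.extra})))) ≃* Cfsg.M24) := by
  exact ⟨(MulEquiv.subgroupCongr tau_range).symm.trans
    ((MonoidHom.ofInjective tau_injective).symm.trans Cfsg.Agent.J4M24Iso13.presEquiv)⟩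

end Cfsg.Agent.S1711
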