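import Cfsg.Statements.S1559
import Cfsg.Agent.Lib.GolayCoatom
-- import your own Cfsg.Agent.* helpers here

set_option autoImplicit false
open scoped Pointwise
open Cfsg

namespace Cfsg.Agent.S1559

/-- A trio stabiliser has five orbits on the 3795 trios, of sizes 1, 42, 56, 1008, 2688; and the stabiliser is a maximal proper subgroup. -/
theorem result (T : Finset (Finset Cfsg.GolayPt)) (hT : T ∈ Cfsg.trios) : ∃ X₁ ∈ Cfsg.trios, ∃ X₂ ∈ Cfsg.trios, ∃ X₃ ∈ Cfsg.trios, ∃ X₄ ∈ Cfsg.trios, (MulAction.orbit ↥(MulAction.stabilizer Cfsg.M24 T) X₁).ncard = 42 ∧ (MulAction.orbit ↥(MulAction.stabilizer Cfsg.M24 T) X₂).ncard = 56 ∧ (MulAction.orbit ↥(MulAction.stabilizer Cfsg.M24 T) X₃).ncard = 1008 ∧ (MulAction.orbit ↥(MulAction.stabilizer Cfsg.M24 T) X₄).ncard = 2688 ∧ Cfsg.trios = {T} ∪ MulAction.orbit ↥(MulAction.stabilizer Cfsg.M24 T) X₁ ∪ MulAction.orbit ↥(MulAction.stabilizer Cfsg.M24 T) X₂ ∪ MulAction.orbit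 ↥(MulAction.stabilizer Cfsg.M24 T) X₃ ∪ MulAction.orbit ↥(MulAction.stabilizer Cfsg.M24 T) X₄ ∧ IsCoatom (MulAction.stabilizer Cfsg.M24 T) := by
  have hd := GolayOrbitThms.trio_trios hT
  have hd' := hd
  obtain ⟨L, hL, hsz, hU⟩ := hd
  rcases L with _ | ⟨x, _ | ⟨y, _ | ⟨z, _ | ⟨u, _ | ⟨v, _ | ⟨w, L⟩⟩⟩⟩⟩⟩ <;> simp at hsz
  obtain ⟨h0, h1, h2, h3, h4⟩ := hsz
  have hx : MulAction.orbit ↥(MulAction.stabilizer Cfsg.M24 T) x = {T} := by
    obtain ⟨r, hr, hT'⟩ := (hU T).1 hT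
    have := GolayCoatom.ncard_orbit_self hT'
    simp only [List.mem_cons, List.not_mem_nil, or_false] at hr
    rcases hr with rfl | rfl | rfl | rfl | rfl
    · exact GolayCoatom.eq_singleton_of_one (Set.ncard_eq_one.2 h0) hT'
    all_goals omega
  refine ⟨y, hL y (by simp), z, hL z (by simp), u, hL u (by simp), v, hL v (by simp), h1, h2, h3,
    h4, ?_, ?_⟩
  · ext X; simp [hU X, hx, or_assoc]
  · refine GolayCoatom.isCoatom_stab GolayOrbitThms.trios_inv hT (fun X hX => ?_)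
      GolayOrbitThms.ncard_trios hd' (by decide) (by norm_num) (by decide +kernel)
    obtain ⟨a, ha⟩ := GolayOrbitThms.exists_smul_trio hT
    obtain ⟨b, hb⟩ := GolayOrbitThms.exists_smul_trio hX
    exact ⟨b * a⁻¹, by rw [mul_smul, ← ha, inv_smul_smul, hb]⟩

end Cfsg.Agent.S1559
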