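import Cfsg.Statements.S5567
import Cfsg.Agent.Lib.J4Exists97
import Cfsg.Agent.Lib.J4Fusion18
import Cfsg.Agent.Lib.JFourFus97Model
import Cfsg.Agent.Lib.J4Mathieu22
import Cfsg.Agent.Lib.J4CocodeData22
import Cfsg.Agent.Lib.J4CompV43
import Cfsg.Agent.Lib.J4CompSplit43
-- import your own Cfsg.Agent.* helpers here

set_option autoImplicit false
open Cfsg

namespace Cfsg.Agent.S5567

/-- Let G be a finite non-abelian simple group of Janko-four type (an involution z whose centralizer H has an extraspecial largest normal 2-subgroup E of order 2^13 containing its centralizer in H, a normal subgroup N ≥ E of H with N/E of order 3 and H/N the automorphism group of M₂₂, and a subgroup P ≤ N of order 3 with C_E(P) = ⟨z⟩, N_H(P) ≠ C_H(P) and P ≤ C_H(P)′). Then every elementary abelian subgroup V of G of order 2^11 contains its centralizer, and its normalizer is a split extension of V by a complement isomorphic to the Mathieu group M₂₄. -/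
theorem result {G : Type*} [Group G] [Finite G] [IsSimpleGroup G] (hG : ¬ IsMulCommutative G) (hJ : Cfsg.IsOfJankoFourType G) (V : Subgroup G) (hV : Cfsg.IsElementaryAbelian 2 V) (hcard : Nat.card ↥V = 2 ^ 11) :
    Subgroup.centralizer (V : Set G) ≤ V ∧ ∃ K : Subgroup G, K ≤ Subgroup.normalizer (V : Set G) ∧ K ⊓ V = ⊥ ∧ K ⊔ V = Subgroup.normalizer (V : Set G) ∧ Cfsg.Spor.IsoM24 ↥K := by
  classical
  obtain ⟨z, P, hJ'⟩ := hJ
  obtain ⟨W, _, zc, π, ρ, q, n, Mb, F, _, _, s, h, ν, D, C⟩ := J4Exists97.exists_coords hJ'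
  obtain ⟨x5, x85, a', b0, -, -, -, -, h36, h240, -⟩ := J4Fusion18.classes D C hG hJ'
  have hFF : J4Coord97.FF D C := ⟨h36, h240, J4Fusion18.trans_R D C hG hJ'⟩
  obtain ⟨p, a, b, c, hgen, hfus⟩ := JFourFus97Model.fus_of_FF D C hJ' hFF
  obtain ⟨Ψ, hmul, hA, hinj, hsurj, hR⟩ := J4Coord97.model D C hFF hJ'
  have hcent : ∀ g, (∀ x ∈ J4Thompson85.AG D C, g * x = x * g) → g ∈ J4Thompson85.AG D C :=
    fun g hg => J4Thompson85.cent_AG D C hg
  obtain ⟨φ, d, hs, hk, -⟩ := J4Mathieu22.mathieu_of z (J4Thompson85.AG D C) Ψ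
    J4CocodeData22.tables_ok hmul hA hinj hsurj hR hcent (J4Fusion18.dvd_M D C hG hJ')
  obtain ⟨hea, hc, -⟩ := J4Thompson85.AG_facts D C
  obtain ⟨U, hU, hUN, hUV⟩ := J4CompV43.exists_complement_two hJ' hgen hfus
    (J4Thompson85.AG_le D C) hea.2 hea.1 hc
  obtain ⟨K, hKN, hKV, hKs, ⟨eK⟩⟩ := J4CompSplit43.exists_split hea.2 hc hU Subgroup.le_normalizer
    hUN hUV φ hs hk
  -- transport to the given subgroup
  obtain ⟨g, rfl⟩ := J4Thompson85.exists_conj D C ((J4Thompson85.ea_iff V).1 hV) hcard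
  set A := J4Thompson85.AG D C with hAdef
  set f : G →* G := (MulAut.conj g).toMonoidHom with hf
  have hfi : Function.Injective f := (MulAut.conj g).injective
  have hN : Subgroup.normalizer (A.map f : Set G) = (Subgroup.normalizer (A : Set G)).map f :=
    (Subgroup.map_equiv_normalizer_eq A (MulAut.conj g)).symm
  refine ⟨fun x hx => ?_, K.map f, ?_, ?_, ?_, ⟨((Subgroup.equivMapOfInjective K f hfi).symm).trans eK⟩⟩
  · refine ⟨g⁻¹ * x * g, hcent _ fun y hy => ?_, by simp [hf, mul_assoc]⟩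
    have h1 := Subgroup.mem_centralizer_iff.1 hx (g * y * g⁻¹) ⟨y, hy, by simp [MulAut.conj_apply]⟩
    calc g⁻¹ * x * g * y = g⁻¹ * (x * (g * y * g⁻¹)) * g := by group
      _ = g⁻¹ * (g * y * g⁻¹ * x) * g := by rw [h1]
      _ = _ := by group
  · rw [hN]; exact Subgroup.map_mono hKN
  · show K.map f ⊓ A.map f = ⊥
    rw [← Subgroup.map_inf _ _ f hfi, hKV, Subgroup.map_bot]
  · show K.map f ⊔ A.map f = _
    rw [← Subgroup.map_sup, hKs, hN]

end Cfsg.Agent.S5567
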