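import Cfsg.Statements.S5568
import Cfsg.Agent.Lib.J4SecondGroup73

set_option autoImplicit false
open Cfsg

namespace Cfsg.Agent.S5568

theorem result {G : Type*} [Group G] [Finite G] [IsSimpleGroup G] (hG : ¬ IsMulCommutative G) (z : G) (hJ : Cfsg.IsOfJankoFourTypeAt z) (V : Subgroup G) (hV : Cfsg.IsElementaryAbelian 2 V) (hcard : Nat.card ↥V = 2 ^ 11) :
    ∃ z' t : G, z' ∈ V ∧ t ∈ V ∧ t ≠ 1 ∧ IsConj z z' ∧ ¬ IsConj z t ∧
    Set.ncard {v : G | ∃ n ∈ Subgroup.normalizer (V : Set G), n * z' * n⁻¹ = v} = 1771 ∧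
    Set.ncard {v : G | ∃ n ∈ Subgroup.normalizer (V : Set G), n * t * n⁻¹ = v} = 276 ∧
    Subgroup.centralizer ({t} : Set G) ≤ Subgroup.normalizer (V : Set G) := by
  obtain ⟨P, hP⟩ := hJ
  obtain ⟨A, t, hconj, hzA, htA, ht1, htz, hz, ht, hle⟩ :=
    J4SecondGroup73.exists_second hG hP
  obtain ⟨g, rfl⟩ := hconj V ((J4Thompson85.ea_iff V).1 hV) hcard
  have hmem : ∀ x : G, x ∈ Subgroup.normalizer (A.map (MulAut.conj g).toMonoidHom : Set G) ↔
      g⁻¹ * x * g ∈ Subgroup.normalizer (A : Set G) := by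
    have hv : ∀ x : G, x ∈ A.map (MulAut.conj g).toMonoidHom ↔ g⁻¹ * x * g ∈ A := by
      intro x
      constructor
      · rintro ⟨a, ha, rfl⟩
        simpa [mul_assoc] using ha
      · intro hx
        exact ⟨_, hx, by simp [mul_assoc]⟩
    intro x
    rw [Subgroup.mem_normalizer_iff, Subgroup.mem_normalizer_iff]
    constructor
    · intro h a
      have := h (g * a * g⁻¹)
      rw [hv, hv] at this
      simpa [mul_assoc] using this
    · intro h a
      rw [hv, hv]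
      have := h (g⁻¹ * a * g)
      simpa [mul_assoc] using this
  have horb : ∀ y : G,
      {v : G | ∃ n ∈ Subgroup.normalizer (A.map (MulAut.conj g).toMonoidHom : Set G),
          n * (g * y * g⁻¹) * n⁻¹ = v} =
        (fun v => g * v * g⁻¹) '' {v : G | ∃ n ∈ Subgroup.normalizer (A : Set G), n * y * n⁻¹ = v} := by
    intro y
    ext v
    constructor
    · rintro ⟨n, hn, rfl⟩
      exact ⟨_, ⟨_, (hmem n).1 hn, rfl⟩, by group⟩
    · rintro ⟨_, ⟨n, hn, rfl⟩, rfl⟩
      refine ⟨g * n * g⁻¹, (hmem _).2 ?_, by group⟩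
      simpa [mul_assoc] using hn
  have hinj : Function.Injective fun v => g * v * g⁻¹ := (MulAut.conj g).injective
  refine ⟨g * z * g⁻¹, g * t * g⁻¹, ⟨z, hzA, rfl⟩, ⟨t, htA, rfl⟩,
    fun e => ht1 (conj_eq_one_iff.1 e), isConj_iff.2 ⟨g, rfl⟩,
    fun e => htz (e.trans (isConj_iff.2 ⟨g, rfl⟩).symm), ?_, ?_, fun x hx => ?_⟩
  · rw [horb, Set.ncard_image_of_injective _ hinj, hz]
  · rw [horb, Set.ncard_image_of_injective _ hinj, ht]
  · refine (hmem x).2 (hle (Subgroup.mem_centralizer_singleton_iff.2 ?_))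
    have := congrArg (fun y => g⁻¹ * y * g) (Subgroup.mem_centralizer_singleton_iff.1 hx)
    simpa [mul_assoc] using this

end Cfsg.Agent.S5568
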