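import Mathlib
import Cfsg.Statements.S2946
import Cfsg.Agent.Lib.Offenders
import Cfsg.Agent.Lib.LocalBasics
import Cfsg.Agent.Lib.CharPLocal

set_option autoImplicit false
open Cfsg

namespace Cfsg.Agent.S2946

open Subgroup Cfsg.Agent
open scoped commutatorElement

variable {G : Type*} [Group G]

/-- `Y` normalises `⁅X, Y⁆`. -/
theorem le_normalizer_comm (X Y : Subgroup G) : Y ≤ normalizer ((⁅X, Y⁆ : Subgroup G) : Set G) := by
  refine LocalBasics.le_normalizer_of_conj fun y hy c hc => ?_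
  have h : ⁅X, Y⁆ ≤ (⁅X, Y⁆).comap (MulAut.conj y).toMonoidHom := by
    refine Subgroup.commutator_le.mpr fun x hx z hz => ?_
    show y * ⁅x, z⁆ * y⁻¹ ∈ ⁅X, Y⁆
    have h : y * ⁅x, z⁆ * y⁻¹ = ⁅x, y⁆⁻¹ * ⁅x, y * z⁆ := by
      simp only [commutatorElement_def]; group
    rw [h]
    exact mul_mem (inv_mem (commutator_mem_commutator hx hy))
      (commutator_mem_commutator hx (mul_mem hy hz))
  exact h hc

/-- The normalizer of a subgroup normalizes its `p`-core. -/
theorem normalizer_le_pCoreOf [Finite G] (p : ℕ) [Fact p.Prime] (K : Subgroup G) :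
    normalizer (K : Set G) ≤ normalizer (Cfsg.pCoreOf p K : Set G) := by
  refine LocalBasics.le_normalizer_of_conj fun n hn q hq => ?_
  set c := (MulAut.conj n).toMonoidHom
  have h : (Cfsg.pCoreOf p K).map c ≤ Cfsg.pCoreOf p K := by
    refine LocalBasics.le_pCoreOf ?_ ?_ ((LocalBasics.isPGroup_pCoreOf p K).map c)
    · rintro _ ⟨x, hx, rfl⟩
      exact LocalBasics.conj_mem_of_le_normalizer le_rfl hn (LocalBasics.pCoreOf_le p K hx)
    · refine LocalBasics.le_normalizer_of_conj fun k hk => ?_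
      rintro _ ⟨x, hx, rfl⟩
      refine ⟨(n⁻¹ * k * n⁻¹⁻¹) * x * (n⁻¹ * k * n⁻¹⁻¹)⁻¹, LocalBasics.conj_mem_of_le_normalizer
        (LocalBasics.le_normalizer_pCoreOf p K)
        (LocalBasics.conj_mem_of_le_normalizer le_rfl (inv_mem hn) hk) hx, ?_⟩
      simp only [c, MulEquiv.coe_toMonoidHom, MulAut.conj_apply]
      group
  exact h ⟨q, hq, by simp [c]⟩

theorem normalizer_le_omegaCenter (X : Subgroup G) :
    normalizer (X : Set G) ≤ normalizer (Cfsg.omegaCenterOf X : Set G) := by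
  refine LocalBasics.le_normalizer_of_conj fun n hn v hv => ?_
  have hN := LocalBasics.le_normalizer_inf (le_refl (normalizer (X : Set G)))
    (LocalBasics.le_normalizer_centralizer le_rfl)
  have h : Cfsg.omegaCenterOf X ≤ (Cfsg.omegaCenterOf X).comap (MulAut.conj n).toMonoidHom := by
    refine (closure_le _).mpr fun x hx => ?_
    refine Subgroup.subset_closure ⟨LocalBasics.conj_mem_of_le_normalizer hN hn hx.1, ?_⟩
    show (n * x * n⁻¹) ^ 2 = 1
    rw [conj_pow, hx.2, mul_one, mul_inv_cancel]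
  exact h hv

theorem normalizer_inf_le_comm (A B : Subgroup G) :
    normalizer (A : Set G) ⊓ normalizer (B : Set G) ≤ normalizer ((⁅A, B⁆ : Subgroup G) : Set G) := by
  refine LocalBasics.le_normalizer_of_conj fun n hn c hc => ?_
  have h : ⁅A, B⁆ ≤ (⁅A, B⁆).comap (MulAut.conj n).toMonoidHom :=
    commutator_le.mpr fun a ha b hb => by
      show n * ⁅a, b⁆ * n⁻¹ ∈ ⁅A, B⁆
      rw [show n * ⁅a, b⁆ * n⁻¹ = ⁅n * a * n⁻¹, n * b * n⁻¹⁆ by simp only [commutatorElement_def]; group]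
      exact commutator_mem_commutator (LocalBasics.conj_mem_of_le_normalizer le_rfl hn.1 ha)
        (LocalBasics.conj_mem_of_le_normalizer le_rfl hn.2 hb)
  exact h hc

theorem four_elems [Finite G] {W : Subgroup G} (h4 : Nat.card ↥W = 4)
    (hexp : ∀ w ∈ W, w * w = 1) {w u : G} (hw : w ∈ W) (hu : u ∈ W) (hw1 : w ≠ 1) (hu1 : u ≠ 1)
    (huw : u ≠ w) {x : G} (hx : x ∈ W) : x = 1 ∨ x = w ∨ x = u ∨ x = w * u := by
  classical
  by_contra hx'
  simp only [not_or] at hx'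
  have hwu : w * u ≠ 1 := fun h =>
    huw ((eq_inv_of_mul_eq_one_right h).trans (inv_eq_of_mul_eq_one_right (hexp w hw)))
  have n1 : w ≠ w * u := fun h => hu1 (by simpa using h)
  have n2 : u ≠ w * u := fun h => hw1 (by simpa using h)
  have h5 : ({⟨1, one_mem W⟩, ⟨w, hw⟩, ⟨u, hu⟩, ⟨w * u, mul_mem hw hu⟩, ⟨x, hx⟩} : Finset ↥W).card = 5 := by
    rw [Finset.card_insert_of_notMem, Finset.card_insert_of_notMem, Finset.card_insert_of_notMem,
      Finset.card_pair]
    all_goals simp [Ne.symm hw1, Ne.symm hu1, Ne.symm hwu, Ne.symm huw, n1, n2,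
      Ne.symm hx'.1, Ne.symm hx'.2.1, Ne.symm hx'.2.2.1, Ne.symm hx'.2.2.2]
  haveI := Fintype.ofFinite ↥W
  have := Finset.card_le_univ
    ({⟨1, one_mem W⟩, ⟨w, hw⟩, ⟨u, hu⟩, ⟨w * u, mul_mem hw hu⟩, ⟨x, hx⟩} : Finset ↥W)
  rw [h5, ← Nat.card_eq_fintype_card, h4] at this
  omega

theorem card_two_mul_le [Finite G] {A B : Subgroup G} (h : A < B) :
    2 * Nat.card A ≤ Nat.card B := by
  obtain ⟨c, hc⟩ := Subgroup.card_dvd_of_le h.le
  have : Nat.card A < Nat.card B := by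
    by_contra hlt
    exact h.ne (Subgroup.eq_of_le_of_card_ge h.le (not_lt.mp hlt))
  rcases c with _ | _ | c
  · simp at hc; omega
  · simp at hc; omega
  · rw [hc]; nlinarith

/-- Let G be a finite group of characteristic 2 type in which every 2-local subgroup is solvable and the centralizer of Ω₁(Z(S)) lies in N_G(S) for every Sylow 2-subgroup S, and let T be a nontrivial 2-subgroup (below, J is the Thompson subgroup generated by the elementary abelian 2-subgroups of largest order), K a J(T)-component and Z₀ = Ω₁(Z(J(T))). Then Z₀ meets W_K = [Ω₁(Z(O₂(K))), K] in a subgroup of order 2, and Z₀ is the product of Z₀ ∩ Z(⟨K, J(T)⟩) and Z₀ ∩ W_K. -/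
theorem result {G : Type*} [Group G] [Finite G] (hL : Cfsg.IsCharacteristicTwoType G) (hN : ∀ N : Subgroup G, Cfsg.IsTwoLocal N → Group.IsSolvable ↥N)
    (hZ : ∀ S : Sylow 2 G, Subgroup.centralizer (Cfsg.omegaCenterOf (S : Subgroup G) : Set G) ≤ Subgroup.normalizer ((S : Subgroup G) : Set G)) (T : Subgroup G) (hT : IsPGroup 2 ↥T) (hT1 : T ≠ ⊥) (K : Subgroup G) (hK : Cfsg.IsJComponent T K)
    (Z₀ : Subgroup G) (hZ₀ : Z₀ = Cfsg.omegaCenterOf (Cfsg.thompsonSubgroupOf 2 T)) :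
    Nat.card ↥(Z₀ ⊓ Cfsg.wOf K) = 2 ∧
      (Z₀ ⊓ ((K ⊔ Cfsg.thompsonSubgroupOf 2 T) ⊓ Subgroup.centralizer ((K ⊔ Cfsg.thompsonSubgroupOf 2 T) : Set G))) ⊔ (Z₀ ⊓ Cfsg.wOf K) = Z₀ := by
  classical
  obtain ⟨hgen, hcomm, hidx, hJmax, hW4, hWexp⟩ := hK
  set J := Cfsg.thompsonSubgroupOf 2 T with hJdef
  set Q := Cfsg.pCoreOf 2 K with hQdef
  set W := Cfsg.wOf K with hWdef
  set V := Cfsg.omegaCenterOf Q with hVdef
  set H := K ⊔ J with hHdef
  have hJK : J ≤ normalizer (K : Set G) := by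
    have h := le_normalizer_comm K J
    rwa [hcomm] at h
  have hHK : H ≤ normalizer (K : Set G) := sup_le le_normalizer hJK
  have hHQ : H ≤ normalizer (Q : Set G) := hHK.trans (normalizer_le_pCoreOf 2 K)
  have hHV : H ≤ normalizer (V : Set G) := hHQ.trans (normalizer_le_omegaCenter Q)
  have hHW : H ≤ normalizer (W : Set G) := (le_inf hHV hHK).trans (normalizer_inf_le_comm V K)
  have hQK : Q ≤ K := LocalBasics.pCoreOf_le 2 K
  have hQp : IsPGroup 2 Q := LocalBasics.isPGroup_pCoreOf 2 K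
  have hKV : K ≤ normalizer (V : Set G) := le_sup_left.trans hHV
  have hVQ : V ≤ Q ⊓ centralizer (Q : Set G) := Offenders.omegaOne_le _
  have hVea : IsElementaryAbelian 2 V :=
    Offenders.omegaOne_ea fun x hx y hy => hy.2 x hx.1
  have hWV : W ≤ V := commutator_le.mpr fun v hv k hk => by
    rw [commutatorElement_def, mul_assoc, mul_assoc, ← mul_assoc k]
    exact mul_mem hv (LocalBasics.conj_mem_of_le_normalizer hKV hk (inv_mem hv))
  have hWea : IsElementaryAbelian 2 W := Offenders.ea_mono hVea hWV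
  have hWQ : W ≤ Q := hWV.trans (hVQ.trans inf_le_left)
  have hQW : ∀ q ∈ Q, ∀ w ∈ W, q * w = w * q := fun q hq w hw => (hVQ (hWV hw)).2 q hq
  have hWH : W ≤ H := hWQ.trans (hQK.trans le_sup_left)
  have hWcomm := ((Offenders.ea_iff W).mp hWea).1
  have inv2 : ∀ w ∈ W, w⁻¹ = w := fun w hw => inv_eq_of_mul_eq_one_right (hWexp w hw)
  -- an element of `K` acting fixed-point-freely on `W`
  obtain ⟨y, hyK, hyW⟩ : ∃ y ∈ K, ∃ w ∈ W, y * w ≠ w * y := by
    by_contra hall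
    push Not at hall
    have hVodd : ∀ k ∈ K, Odd (orderOf k) → ∀ v ∈ V, ⁅v, k⁆ = 1 := by
      intro k hk hodd v hv
      set c := ⁅v, k⁆ with hc
      have hcW : c ∈ W := commutator_mem_commutator hv hk
      have hck : Commute c k := (hall k hk c hcW).symm
      have h1 : v * k * v⁻¹ = c * k := by rw [hc, commutatorElement_def]; group
      have h2 : v * k ^ orderOf k * v⁻¹ = c ^ orderOf k * k ^ orderOf k := by
        rw [← conj_pow, h1, hck.mul_pow]
      rw [pow_orderOf_eq_one, mul_one, mul_inv_cancel, mul_one] at h2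
      obtain ⟨e, he⟩ := hodd
      rw [he, pow_succ, pow_mul, pow_two, hWexp c hcW, one_pow, one_mul] at h2
      exact h2.symm
    have hKC : K ≤ centralizer (V : Set G) := by
      rw [← hgen, closure_le]
      intro k hk v hv
      exact commutatorElement_eq_one_iff_mul_comm.mp (hVodd k hk.1 hk.2 v hv)
    have hW1 : W = ⊥ := commutator_eq_bot_iff_le_centralizer.mpr (le_centralizer_iff.mp hKC)
    rw [hW1] at hW4
    simp at hW4
  have hyQ : y ∉ Q := fun h => by obtain ⟨w, hw, hne⟩ := hyW; exact hne (hQW y h w hw)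
  have hC : K ⊓ centralizer (W : Set G) = Q := by
    refine le_antisymm ?_ (le_inf hQK fun q hq w hw => (hQW q hq w hw).symm)
    by_contra hne
    set C := K ⊓ centralizer (W : Set G)
    have hQC : Q ≤ C := le_inf hQK fun q hq w hw => (hQW q hq w hw).symm
    have h1 := relIndex_mul_relIndex _ _ _ hQC (inf_le_left : C ≤ K)
    rw [hidx] at h1
    rcases (Nat.dvd_prime Nat.prime_three).mp ⟨_, h1.symm⟩ with h | h
    · exact hne (relIndex_eq_one.mp h)
    · rw [h] at h1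
      have : C.relIndex K = 1 := by omega
      obtain ⟨w, hw, hne'⟩ := hyW
      exact hne' (((relIndex_eq_one.mp this) hyK).2 w hw).symm
  -- decomposition `K = Q ∪ yQ ∪ y²Q`
  haveI hQn : (Q.subgroupOf K).Normal :=
    LocalBasics.normal_subgroupOf_of_le (le_sup_left.trans hHQ)
  have hKy : ∀ k ∈ K, ∃ i : ℕ, ∃ q ∈ Q, k = y ^ i * q := by
    intro k hk
    have hcard : Nat.card (↥K ⧸ Q.subgroupOf K) = 3 := hidx
    haveI : Fact (Nat.Prime 3) := ⟨Nat.prime_three⟩
    have hy1 : (QuotientGroup.mk ⟨y, hyK⟩ : ↥K ⧸ Q.subgroupOf K) ≠ 1 := fun h =>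
      hyQ (mem_subgroupOf.mp ((QuotientGroup.eq_one_iff (N := Q.subgroupOf K) _).mp h))
    obtain ⟨i, hi⟩ := (Submonoid.mem_powers_iff _ _).mp
      (mem_powers_of_prime_card hcard hy1 (g' := (QuotientGroup.mk ⟨k, hk⟩ : ↥K ⧸ Q.subgroupOf K)))
    rw [← QuotientGroup.mk_pow] at hi
    refine ⟨i, (y ^ i)⁻¹ * k, ?_, by group⟩
    simpa [mem_subgroupOf] using QuotientGroup.eq.mp hi
  have hy3 : y ^ 3 ∈ Q := by
    have h := pow_index_mem (Q.subgroupOf K) ⟨y, hyK⟩
    rw [show (Q.subgroupOf K).index = 3 from hidx] at h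
    simpa [mem_subgroupOf] using h
  have hy_fix : ∀ w ∈ W, y * w = w * y → w = 1 := by
    intro w hw hfix
    by_contra hw1
    obtain ⟨u, hu, hune⟩ := hyW
    have hu1 : u ≠ 1 := by rintro rfl; simp at hune
    have huw : u ≠ w := by rintro rfl; exact hune hfix
    have hall : ∀ x ∈ W, x = 1 ∨ x = w ∨ x = u ∨ x = w * u := fun x hx =>
      four_elems hW4 hWexp hw hu hw1 hu1 huw hx
    have hwy : y * w * y⁻¹ = w := by rw [hfix, mul_inv_cancel_right]
    have hmem : y * u * y⁻¹ ∈ W := LocalBasics.conj_mem_of_le_normalizer hHW (le_sup_left (α := Subgroup G) hyK) hu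
    rcases hall _ hmem with h | h | h | h
    · exact hu1 (conj_eq_one_iff.mp h)
    · exact huw (mul_left_cancel (mul_right_cancel (h.trans hwy.symm)))
    · exact hune (mul_inv_eq_iff_eq_mul.mp h)
    · have h2 : y * (y * u * y⁻¹) * y⁻¹ = u := by
        rw [h, show y * (w * u) * y⁻¹ = (y * w * y⁻¹) * (y * u * y⁻¹) by group, hwy, h, ← mul_assoc,
          hWexp w hw, one_mul]
      have h3 : y ^ 3 * u * (y ^ 3)⁻¹ = u := by rw [hQW _ hy3 u hu, mul_inv_cancel_right]
      have h4 : y * u * y⁻¹ = u := by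
        calc y * u * y⁻¹ = y * (y * (y * u * y⁻¹) * y⁻¹) * y⁻¹ := by rw [h2]
          _ = y ^ 3 * u * (y ^ 3)⁻¹ := by rw [pow_three]; group
          _ = u := h3
      exact hune (mul_inv_eq_iff_eq_mul.mp h4)
  -- Sylow subgroup through `J`
  have hJp : IsPGroup 2 J := hT.to_le (Offenders.thompsonOf_le T)
  obtain ⟨P, hP⟩ := (hJp.comap_of_injective H.subtype H.subtype_injective :
    IsPGroup 2 (J.subgroupOf H)).exists_le_sylow
  set T₁ : Subgroup G := (P : Subgroup ↥H).map H.subtype with hT₁def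
  have hJT : J ≤ T₁ := fun j hj => ⟨⟨j, mem_sup_right hj⟩, hP hj, rfl⟩
  have hT₁p : IsPGroup 2 T₁ := P.2.map _
  have hT₁H : T₁ ≤ H := map_subtype_le _
  have hJT₁ : Cfsg.thompsonSubgroupOf 2 T₁ = J := by
    refine hJmax T₁ ⟨hT₁H, hT₁p, ?_⟩ hJT
    rw [hT₁def, Subgroup.relIndex, subgroupOf, comap_map_eq_self_of_injective H.subtype_injective,
      Nat.odd_iff]
    have := P.not_dvd_index
    omega
  have hnormal : ∀ R : Subgroup G, R ≤ H → H ≤ normalizer (R : Set G) → IsPGroup 2 R → R ≤ T₁ := by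
    intro R hR hRn hRp
    have hn : (R.subgroupOf H).Normal := LocalBasics.normal_subgroupOf_of_le hRn
    haveI := hn
    have h := CharPLocal.le_sylow_of_normalized (R := R.subgroupOf H)
      (hRp.comap_of_injective H.subtype H.subtype_injective : IsPGroup 2 (R.subgroupOf H)) P
      (LocalBasics.le_normalizer_of_normal _)
    exact fun r hr => ⟨⟨r, hR hr⟩, h hr, rfl⟩
  have hWT : W ≤ T₁ := hnormal W hWH hHW (Offenders.ea_isPGroup hWea)
  have hQT : Q ≤ T₁ := hnormal Q (hQK.trans le_sup_left) hHQ hQp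
  obtain ⟨w₀, hw₀, hw₀o, hw₀T⟩ := CharPLocal.exists_orderOf_eq_centralized hT₁p hWT
    (hT₁H.trans hHW) (by intro h; rw [h] at hW4; simp at hW4)
  have hw₀1 : w₀ ≠ 1 := by rintro rfl; simp at hw₀o
  have hyw₀ : y * w₀ ≠ w₀ * y := fun h => hw₀1 (hy_fix w₀ hw₀ h)
  -- the kernel `R` of the action on `W`
  set R := H ⊓ centralizer (W : Set G) with hRdef
  have hHR : H ≤ normalizer (R : Set G) :=
    LocalBasics.le_normalizer_inf le_normalizer (LocalBasics.le_normalizer_centralizer hHW)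
  have hQR : Q ≤ R := le_inf (hQK.trans le_sup_left) fun q hq w hw => (hQW q hq w hw).symm
  have hRT : R ≤ T₁ := by
    intro r hr
    obtain ⟨k, hk, j, hj, rfl⟩ : ∃ k ∈ K, ∃ j ∈ J, k * j = r := by
      have h : r ∈ ((K ⊔ J : Subgroup G) : Set G) := hr.1
      rw [coe_mul_of_right_le_normalizer_left K J hJK] at h
      exact Set.mem_mul.mp h
    have hkw : k * w₀ = w₀ * k := by
      have h1 : k * j * w₀ = w₀ * (k * j) := (hr.2 w₀ hw₀).symm
      rw [mul_assoc k, hw₀T j (hJT hj)] at h1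
      simpa [← mul_assoc] using h1
    obtain ⟨i, q, hq, rfl⟩ := hKy k hk
    refine mul_mem ?_ (hJT hj)
    refine hQT (mul_mem ?_ hq)
    have hyi : Commute (y ^ i) w₀ := by
      show y ^ i * w₀ = w₀ * y ^ i
      rw [mul_assoc, hQW q hq w₀ hw₀] at hkw
      simpa [← mul_assoc] using hkw
    have h3 : Commute (y ^ 3) w₀ := hQW _ hy3 w₀ hw₀
    obtain h | h | h : i % 3 = 0 ∨ i % 3 = 1 ∨ i % 3 = 2 := by omega
    · rw [show i = 3 * (i / 3) by omega, pow_mul]; exact pow_mem hy3 _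
    · exfalso
      rw [show i = 3 * (i / 3) + 1 by omega, pow_add, pow_one, pow_mul] at hyi
      have := ((h3.pow_left (i / 3)).inv_left).mul_left hyi
      rw [inv_mul_cancel_left] at this
      exact hyw₀ this.eq
    · exfalso
      rw [show i = 3 * (i / 3) + 2 by omega, pow_add, pow_mul] at hyi
      have := ((h3.pow_left (i / 3)).inv_left).mul_left hyi
      rw [inv_mul_cancel_left] at this
      have h5 := h3.mul_left this.inv_left
      rw [show y ^ 3 * (y ^ 2)⁻¹ = y by group] at h5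
      exact hyw₀ h5.eq
  -- maximal elementary abelian subgroups
  have hmaxT : ∀ A, Offenders.IsMaxIn 2 T₁ A → A ≤ J := fun A hA => by
    rw [← hJT₁, Offenders.thompsonOf_eq]; exact le_sSup hA
  have hJgen : J = sSup {A | Offenders.IsMaxIn 2 T₁ A} := by rw [← hJT₁, Offenders.thompsonOf_eq]
  obtain ⟨A, hA, hAR⟩ : ∃ A, Offenders.IsMaxIn 2 T₁ A ∧ ¬ A ≤ R := by
    by_contra h
    push Not at h
    have hJR : J ≤ R := hJgen ▸ sSup_le h
    have hKR : K ≤ R := by
      conv_lhs => rw [← hcomm]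
      refine commutator_le.mpr fun k hk j hj => ?_
      rw [commutatorElement_def]
      exact mul_mem (LocalBasics.conj_mem_of_le_normalizer hHR (mem_sup_left hk) (hJR hj))
        (inv_mem (hJR hj))
    obtain ⟨w, hw, hne⟩ := hyW
    exact hne ((hKR hyK).2 w hw).symm
  -- the subgroup `(A ⊓ R) ⊔ X`
  have hhalf : ∀ A, Offenders.IsMaxIn 2 T₁ A → ¬ A ≤ R →
      Nat.card A = 2 * Nat.card ↥(A ⊓ R) ∧ ∃ w₁ ∈ W, w₁ ∉ A ⊓ R := by
    intro A hA hAR
    obtain ⟨a, ha, haR⟩ := SetLike.not_le_iff_exists.mp hAR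
    have haH : a ∈ H := hT₁H (hA.1 ha)
    obtain ⟨w₁, hw₁, hne⟩ : ∃ w₁ ∈ W, a * w₁ ≠ w₁ * a := by
      by_contra h
      push Not at h
      exact haR ⟨haH, fun w hw => (h w hw).symm⟩
    refine ⟨?_, w₁, hw₁, fun h => hne (((Offenders.ea_iff A).mp hA.2.1).1 a ha w₁ h.1)⟩
    have hlt : A ⊓ R < A := lt_of_le_of_ne inf_le_left fun h => hAR (inf_eq_left.mp h)
    refine le_antisymm ?_ (card_two_mul_le hlt)
    -- two elements outside `R` differ by an element of `R`
    have hidx2 : (A ⊓ R).relIndex A ≤ 2 := by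
      rw [Subgroup.relIndex]
      refine Nat.le_of_dvd two_pos (dvd_of_eq ?_)
      refine Subgroup.index_eq_two_iff.mpr ⟨⟨a, ha⟩, fun b => ?_⟩
      by_cases hb : (b : G) ∈ R
      · refine Or.inr ⟨(mem_subgroupOf.mpr ⟨b.2, hb⟩), fun h => haR ?_⟩
        have := (mem_subgroupOf.mp h).2
        simpa using mul_mem (inv_mem hb) this
      · refine Or.inl ⟨mem_subgroupOf.mpr ⟨(b * ⟨a, ha⟩ : ↥A).2, ?_⟩, fun h => hb (mem_subgroupOf.mp h).2⟩
        refine ⟨mul_mem (hT₁H (hA.1 b.2)) haH, fun w hw => ?_⟩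
        have hsq : ∀ c ∈ A, c⁻¹ = c := fun c hc => inv_eq_of_mul_eq_one_right
          (by rw [← pow_two]; exact ((Offenders.ea_iff A).mp hA.2.1).2 c hc)
        have key : ∀ c ∈ A, c ∉ R → c * w₀ * c⁻¹ = w₀ ∧
            ∀ u ∈ W, u ≠ 1 → u ≠ w₀ → c * u * c⁻¹ = w₀ * u := by
          intro c hc hcR
          have h0 : c * w₀ * c⁻¹ = w₀ := by rw [hw₀T c (hA.1 hc), mul_inv_cancel_right]
          refine ⟨h0, fun u hu hu1 hu0 => ?_⟩
          have hcu : c * u * c⁻¹ ∈ W :=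
            LocalBasics.conj_mem_of_le_normalizer hHW (hT₁H (hA.1 hc)) hu
          by_contra hne'
          -- the only other possibility is that `c` fixes `u`, and hence all of `W`
          refine hcR ⟨hT₁H (hA.1 hc), ?_⟩
          have h4 : ∀ x ∈ W, x = 1 ∨ x = w₀ ∨ x = u ∨ x = w₀ * u := fun x hx =>
            four_elems hW4 hWexp hw₀ hu hw₀1 hu1 hu0 hx
          rcases h4 _ hcu with h | h | h | h
          · exact absurd (conj_eq_one_iff.mp h) hu1
          · exact absurd (mul_left_cancel (mul_right_cancel (h.trans h0.symm))) hu0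
          · have hcu' : c * u = u * c := mul_inv_eq_iff_eq_mul.mp h
            have hc0 : c * w₀ = w₀ * c := hw₀T c (hA.1 hc)
            intro x hx
            rcases h4 x hx with rfl | rfl | rfl | rfl
            · simp
            · exact hc0.symm
            · exact hcu'.symm
            · exact ((Commute.mul_right hc0 hcu' : Commute c (w₀ * u))).eq.symm
          · exact absurd h hne'
        by_cases hw1 : w = 1
        · subst hw1; simp
        by_cases hwe : w = w₀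
        · subst hwe
          exact (hw₀T _ (mul_mem (hA.1 b.2) (hA.1 ha))).symm
        have e1 := (key a ha haR).2 w hw hw1 hwe
        have e2 := key (b : G) b.2 hb
        have e3 := e2.2 w hw hw1 hwe
        have : (b : G) * a * w * ((b : G) * a)⁻¹ = w := by
          calc (b : G) * a * w * ((b : G) * a)⁻¹ = (b : G) * (a * w * a⁻¹) * (b : G)⁻¹ := by group
            _ = ((b : G) * w₀ * (b : G)⁻¹) * ((b : G) * w * (b : G)⁻¹) := by rw [e1]; group
            _ = w := by rw [e2.1, e3, ← mul_assoc, hWexp w₀ hw₀, one_mul]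
        exact (mul_inv_eq_iff_eq_mul.mp this).symm
    rw [← card_mul_index ((A ⊓ R).subgroupOf A)]
    rw [Nat.card_congr (subgroupOfEquivOfLe (inf_le_left : A ⊓ R ≤ A)).toEquiv]
    exact (Nat.mul_le_mul_left _ hidx2).trans_eq (mul_comm _ _)
  have hsupW : ∀ A, Offenders.IsMaxIn 2 T₁ A → ¬ A ≤ R →
      Offenders.IsMaxIn 2 T₁ ((A ⊓ R) ⊔ W) := by
    intro A hA hAR
    obtain ⟨hc, w₁, hw₁, hw₁A⟩ := hhalf A hA hAR
    refine ⟨sup_le (inf_le_left.trans hA.1) hWT, Offenders.ea_sup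
      (Offenders.ea_mono hA.2.1 inf_le_left) hWea (fun a ha w hw => (ha.2.2 w hw).symm),
      fun B hB hBea => (hA.2.2 B hB hBea).trans ?_⟩
    rw [hc]
    exact card_two_mul_le (lt_of_le_of_ne le_sup_left fun h => hw₁A (h.ge (mem_sup_right hw₁)))
  have hWR : W ≤ R := le_inf hWH fun w hw u hu => hWcomm u hu w hw
  have hWJ : W ≤ J := le_sup_right.trans (hmaxT _ (hsupW A hA hAR))
  have hJc : ∀ z ∈ Z₀, z ∈ J ∧ (∀ j ∈ J, j * z = z * j) ∧ z * z = 1 := by
    intro z hz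
    rw [hZ₀] at hz
    have h1 := Offenders.omegaOne_le _ hz
    have hea := Offenders.omegaOne_ea (p := 2) (K := J ⊓ centralizer (J : Set G))
      fun x hx y hy => hy.2 x hx.1
    exact ⟨h1.1, h1.2, by rw [← pow_two]; exact ((Offenders.ea_iff _).mp hea).2 z hz⟩
  have hw₀Z : w₀ ∈ Z₀ := by
    rw [hZ₀]
    exact Offenders.mem_omegaOne ⟨hWJ hw₀, fun j hj => hw₀T j (hJT hj)⟩
      (by rw [pow_two]; exact hWexp w₀ hw₀)
  have hZW : ∀ z ∈ Z₀, z ∈ W → z = 1 ∨ z = w₀ := by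
    intro z hz hzW
    by_contra h
    simp only [not_or] at h
    refine hAR fun a ha => ⟨hT₁H (hA.1 ha), ?_⟩
    have haJ : a ∈ J := hmaxT A hA ha
    have ha1 : a * z = z * a := (hJc z hz).2.1 a haJ
    have ha0 : a * w₀ = w₀ * a := hw₀T a (hA.1 ha)
    intro x hx
    rcases four_elems hW4 hWexp hw₀ hzW hw₀1 h.1 h.2 hx with rfl | rfl | rfl | rfl
    · simp
    · exact ha0.symm
    · exact ha1.symm
    · exact ((Commute.mul_right ha0 ha1 : Commute a (w₀ * z))).eq.symm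
  have hZAll : ∀ A, Offenders.IsMaxIn 2 T₁ A → Z₀ ≤ A := by
    intro A hA z hz
    obtain ⟨hzJ, hzc, hz2⟩ := hJc z hz
    have hea := Offenders.ea_sup hA.2.1 (Offenders.ea_zpowers (p := 2) (x := z) (by rw [pow_two, hz2]))
      (fun a ha b hb => by
        obtain ⟨i, rfl⟩ := hb
        exact (Commute.zpow_right (hzc a (hmaxT A hA ha)) i).eq)
    have hle := hA.2.2 _ (sup_le hA.1 (zpowers_le.mpr (hJT hzJ))) hea
    exact (eq_of_le_of_card_ge (le_sup_left : A ≤ A ⊔ zpowers z) hle).ge (mem_sup_right (mem_zpowers z))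
  have hJH : J ≤ H := le_sup_right
  -- the normal subgroup generated by the largest elementary abelian subgroups inside `R`
  set JR : Subgroup G := sSup {A | Offenders.IsMaxIn 2 T₁ A ∧ A ≤ R} with hJRdef
  have hJRJ : JR ≤ J := sSup_le fun A hA => hmaxT A hA.1
  have hJRR : JR ≤ R := sSup_le fun A hA => hA.2
  have hHJR : H ≤ normalizer (JR : Set G) := by
    refine LocalBasics.le_normalizer_of_conj fun h hh x hx => ?_
    set c := (MulAut.conj h).toMonoidHom
    have hle : JR ≤ JR.comap c := by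
      refine sSup_le fun B hB => ?_
      rw [← map_le_iff_le_comap]
      have hBR : B.map c ≤ R := by
        rintro _ ⟨b, hb, rfl⟩
        exact LocalBasics.conj_mem_of_le_normalizer hHR hh (hB.2 hb)
      refine le_sSup ⟨⟨hBR.trans hRT, Offenders.ea_map hB.1.2.1 c, fun D hD hDea => ?_⟩, hBR⟩
      rw [card_map_of_injective (MulAut.conj h).injective]
      exact hB.1.2.2 D hD hDea
    exact hle hx
  set Y := Cfsg.omegaCenterOf JR with hYdef
  have hHY : H ≤ normalizer (Y : Set G) := hHJR.trans (normalizer_le_omegaCenter JR)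
  have hA₀JR : ∀ A, Offenders.IsMaxIn 2 T₁ A → ¬ A ≤ R → (A ⊓ R) ⊔ W ≤ JR := fun A hA hAR =>
    le_sSup ⟨hsupW A hA hAR, sup_le inf_le_right hWR⟩
  have hWY : W ≤ Y := fun w hw => Offenders.mem_omegaOne
    ⟨hA₀JR A hA hAR (mem_sup_right hw), fun x hx => ((hJRR hx).2 w hw).symm⟩
    (by rw [pow_two]; exact hWexp w hw)
  have hZY : Z₀ ≤ Y := fun z hz => Offenders.mem_omegaOne
    ⟨hA₀JR A hA hAR
      (hZAll _ (hsupW A hA hAR) hz), fun x hx => (hJc z hz).2.1 x (hJRJ hx)⟩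
    (by rw [pow_two]; exact (hJc z hz).2.2)
  have hYea : IsElementaryAbelian 2 Y := Offenders.omegaOne_ea fun x hx y hy => hy.2 x hx.1
  have hYcomm := ((Offenders.ea_iff Y).mp hYea).1
  have hYJR : Y ≤ JR ⊓ centralizer (JR : Set G) := Offenders.omegaOne_le _
  -- the subgroup acting trivially on `Y / W`
  set D : Subgroup G :=
    { carrier := {h | h ∈ H ∧ ∀ x ∈ Y, h * x * h⁻¹ * x⁻¹ ∈ W}
      one_mem' := ⟨one_mem H, fun x _ => by simp [one_mem W]⟩
      mul_mem' := fun {g h} hg hh => ⟨mul_mem hg.1 hh.1, fun x hx => by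
        have e : g * h * x * (g * h)⁻¹ * x⁻¹ =
            (g * (h * x * h⁻¹ * x⁻¹) * g⁻¹) * (g * x * g⁻¹ * x⁻¹) := by group
        rw [e]
        exact mul_mem (LocalBasics.conj_mem_of_le_normalizer hHW hg.1 (hh.2 x hx)) (hg.2 x hx)⟩
      inv_mem' := fun {g} hg => ⟨inv_mem hg.1, fun x hx => by
        have hx' := LocalBasics.conj_mem_of_le_normalizer hHY (inv_mem hg.1) hx
        have e : g⁻¹ * x * g⁻¹⁻¹ * x⁻¹ =
            (g * (g⁻¹ * x * g⁻¹⁻¹) * g⁻¹ * (g⁻¹ * x * g⁻¹⁻¹)⁻¹)⁻¹ := by group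
        rw [e]
        exact inv_mem (hg.2 _ hx')⟩ } with hDdef
  have hJD : J ≤ D := by
    rw [hJgen]
    refine sSup_le fun B hB b hb => ⟨hT₁H (hB.1 hb), fun x hx => ?_⟩
    by_cases hBR : B ≤ R
    · have hbc : b * x = x * b :=
        (hYJR hx).2 b ((le_sSup (show B ∈ {A | Offenders.IsMaxIn 2 T₁ A ∧ A ≤ R} from ⟨hB, hBR⟩)) hb)
      rw [hbc, mul_inv_cancel_right, mul_inv_cancel]
      exact one_mem W
    obtain ⟨hc, w₁, hw₁, hw₁B⟩ := hhalf B hB hBR
    have hcomBY : ∀ c ∈ B ⊓ R, ∀ u ∈ Y, c * u = u * c := fun c hc u hu =>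
      (hYJR hu).2 c (hA₀JR B hB hBR (mem_sup_left hc))
    have hYT : Y ≤ T₁ := (hYJR.trans inf_le_left).trans (hJRJ.trans hJT)
    have hle : Nat.card ↥((B ⊓ R) ⊔ Y) ≤ Nat.card ↥((B ⊓ R) ⊔ W) := by
      refine (hB.2.2 _ (sup_le (inf_le_left.trans hB.1) hYT)
        (Offenders.ea_sup (Offenders.ea_mono hB.2.1 inf_le_left) hYea hcomBY)).trans ?_
      rw [hc]
      exact card_two_mul_le (lt_of_le_of_ne le_sup_left fun h => hw₁B (h.ge (mem_sup_right hw₁)))
    have heq := eq_of_le_of_card_ge (sup_le_sup_left hWY (B ⊓ R)) hle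
    have hxm : x ∈ ((B ⊓ R) ⊔ W : Subgroup G) := heq.ge (mem_sup_right hx)
    rw [← SetLike.mem_coe, coe_mul_of_left_le_normalizer_right (B ⊓ R) W
      (inf_le_left.trans ((hB.1.trans hT₁H).trans hHW))] at hxm
    obtain ⟨c, hc', w, hw, rfl⟩ := Set.mem_mul.mp hxm
    have hbc : b * c * b⁻¹ = c := by
      rw [((Offenders.ea_iff B).mp hB.2.1).1 b hb c hc'.1, mul_inv_cancel_right]
    have hd : b * w * b⁻¹ * w⁻¹ ∈ W :=
      mul_mem (LocalBasics.conj_mem_of_le_normalizer hHW (hT₁H (hB.1 hb)) hw) (inv_mem hw)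
    have e : b * (c * w) * b⁻¹ * (c * w)⁻¹ = (b * c * b⁻¹) * (b * w * b⁻¹ * w⁻¹) * c⁻¹ := by group
    rw [e, hbc, (hc'.2.2 _ hd).symm, mul_inv_cancel_right]
    exact hd
  have hHD : H ≤ normalizer (D : Set G) := by
    refine LocalBasics.le_normalizer_of_conj fun g hg d hd => ⟨mul_mem (mul_mem hg hd.1) (inv_mem hg), fun x hx => ?_⟩
    have hx' := LocalBasics.conj_mem_of_le_normalizer hHY (inv_mem hg) hx
    have h := LocalBasics.conj_mem_of_le_normalizer hHW hg (hd.2 _ hx')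
    have e : g * d * g⁻¹ * x * (g * d * g⁻¹)⁻¹ * x⁻¹ =
        g * (d * (g⁻¹ * x * g⁻¹⁻¹) * d⁻¹ * (g⁻¹ * x * g⁻¹⁻¹)⁻¹) * g⁻¹ := by group
    rwa [e]
  have hKD : K ≤ D := by
    conv_lhs => rw [← hcomm]
    refine commutator_le.mpr fun k hk j hj => ?_
    rw [commutatorElement_def]
    exact mul_mem (LocalBasics.conj_mem_of_le_normalizer hHD (mem_sup_left hk) (hJD hj))
      (inv_mem (hJD hj))
  refine ⟨?_, ?_⟩
  · have h : Z₀ ⊓ W = zpowers w₀ := by
      refine le_antisymm (fun z hz => ?_) (zpowers_le.mpr ⟨hw₀Z, hw₀⟩)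
      rcases hZW z hz.1 hz.2 with rfl | rfl
      · exact one_mem _
      · exact mem_zpowers _
    rw [h, Nat.card_zpowers, hw₀o]
  refine le_antisymm (sup_le inf_le_left inf_le_left) fun z hz => ?_
  obtain ⟨hzJ, hzc, -⟩ := hJc z hz
  have hzH : z ∈ H := hJH hzJ
  -- `R` centralises `z`
  have hT₁Z : T₁ ≤ normalizer (Z₀ : Set G) := by
    rw [hZ₀]
    refine le_trans ?_ (normalizer_le_omegaCenter J)
    rw [← hJT₁]
    haveI := Offenders.thompson_characteristic (p := 2) (G := ↥T₁)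
    exact LocalBasics.le_normalizer_map_normal T₁ _
  have hRz : ∀ r ∈ R, r * z = z * r := by
    have key : ∀ r ∈ R, r * z * r⁻¹ * z⁻¹ = 1 ∨ r * z * r⁻¹ * z⁻¹ = w₀ := fun r hr =>
      hZW _ (mul_mem (LocalBasics.conj_mem_of_le_normalizer hT₁Z (hRT hr) hz) (inv_mem hz))
        (((sup_le hKD hJD : H ≤ D) hr.1).2 z (hZY hz))
    intro r hr
    have hyr := key _ (LocalBasics.conj_mem_of_le_normalizer hHR (mem_sup_left (T := J) hyK) hr)
    set u := y⁻¹ * z * y⁻¹⁻¹ * z⁻¹ with hu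
    have huW : u ∈ W := (hKD (inv_mem hyK)).2 z (hZY hz)
    have e : y * r * y⁻¹ * z * (y * r * y⁻¹)⁻¹ * z⁻¹ =
        y * ((r * u * r⁻¹) * (r * z * r⁻¹ * z⁻¹) * u⁻¹) * y⁻¹ := by
      rw [hu]; group
    have hru : r * u * r⁻¹ = u := by rw [← hr.2 u huW, mul_inv_cancel_right]
    rcases key r hr with h | h
    · exact mul_inv_eq_iff_eq_mul.mp (mul_inv_eq_one.mp h)
    rw [e, hru, h, hWcomm u huW w₀ hw₀, mul_inv_cancel_right] at hyr
    rcases hyr with h' | h'
    · exact absurd (conj_eq_one_iff.mp h') hw₀1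
    · exact absurd (mul_inv_eq_iff_eq_mul.mp h') hyw₀
  -- correct `z` by an element of `W`
  have hdW : y * z * y⁻¹ * z⁻¹ ∈ W := (hKD hyK).2 z (hZY hz)
  obtain ⟨⟨w, hw⟩, hwd⟩ : ∃ w : ↥W, y * (w : G) * y⁻¹ * (w : G)⁻¹ = (y * z * y⁻¹ * z⁻¹)⁻¹ := by
    let f : ↥W → ↥W := fun w => ⟨y * (w : G) * y⁻¹ * (w : G)⁻¹,
      mul_mem (LocalBasics.conj_mem_of_le_normalizer hHW (mem_sup_left (T := J) hyK) w.2) (inv_mem w.2)⟩
    have hinj : Function.Injective f := by
      intro a b h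
      have h' : y * (a : G) * y⁻¹ * (a : G)⁻¹ = y * (b : G) * y⁻¹ * (b : G)⁻¹ := congrArg Subtype.val h
      have ha : y * (a : G) * y⁻¹ ∈ W := LocalBasics.conj_mem_of_le_normalizer hHW (mem_sup_left (T := J) hyK) a.2
      have hb : y * (b : G) * y⁻¹ ∈ W := LocalBasics.conj_mem_of_le_normalizer hHW (mem_sup_left (T := J) hyK) b.2
      have h2 : (y * (b : G) * y⁻¹)⁻¹ * (y * (a : G) * y⁻¹) = (b : G)⁻¹ * (a : G) :=
        calc (y * (b : G) * y⁻¹)⁻¹ * (y * (a : G) * y⁻¹)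
            = (y * (b : G) * y⁻¹)⁻¹ * ((y * (a : G) * y⁻¹ * (a : G)⁻¹) * (a : G)) := by group
          _ = (b : G)⁻¹ * (a : G) := by rw [h']; group
      have h3 : y * ((b : G)⁻¹ * (a : G)) = ((b : G)⁻¹ * (a : G)) * y := by
        refine mul_inv_eq_iff_eq_mul.mp ?_
        conv_rhs => rw [← h2]
        group
      exact Subtype.ext (inv_mul_eq_one.mp (hy_fix _ (mul_mem (inv_mem b.2) a.2) h3)).symm
    obtain ⟨w, hw⟩ := (Finite.surjective_of_injective hinj) ⟨_, inv_mem hdW⟩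
    exact ⟨w, congrArg Subtype.val hw⟩
  set m := z * w with hm
  have hzw : z * w = w * z := hYcomm z (hZY hz) w (hWY hw)
  have hym : y * m = m * y := by
    refine mul_inv_eq_iff_eq_mul.mp ?_
    have e : y * m * y⁻¹ = (y * z * y⁻¹ * z⁻¹) * z * (y * w * y⁻¹ * w⁻¹) * w := by rw [hm]; group
    rw [e, hwd, mul_assoc _ z, hYcomm z (hZY hz) _ (hWY (inv_mem hdW)), ← mul_assoc,
      mul_inv_cancel, one_mul]
  have hQm : ∀ q ∈ Q, q * m = m * q := fun q hq =>
    ((Commute.mul_right (hRz q (hQR hq)) (hQW q hq w hw) : Commute q m)).eq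
  have hKm : ∀ k ∈ K, k * m = m * k := by
    intro k hk
    obtain ⟨i, q, hq, rfl⟩ := hKy k hk
    exact ((Commute.pow_left hym i).mul_left (hQm q hq)).eq
  have hmY : m ∈ Y := mul_mem (hZY hz) (hWY hw)
  have hJm : ∀ j ∈ J, j * m = m * j := by
    intro j hj
    have hd : j * m * j⁻¹ * m⁻¹ ∈ W := (hJD hj).2 m hmY
    refine mul_inv_eq_iff_eq_mul.mp (mul_inv_eq_one.mp (hy_fix _ hd ?_))
    have hk : y * (j * m * j⁻¹) = (j * m * j⁻¹) * y := by
      have h := hKm _ (LocalBasics.conj_mem_of_le_normalizer hJK (inv_mem hj) hyK)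
      calc y * (j * m * j⁻¹) = j * ((j⁻¹ * y * j⁻¹⁻¹) * m) * j⁻¹ := by group
        _ = (j * m * j⁻¹) * y := by rw [h]; group
    exact ((Commute.mul_right hk (Commute.inv_right hym))).eq
  have hjw : ∀ j ∈ J, j * w = w * j := fun j hj => by
    have h := (Commute.mul_right (Commute.inv_right (hzc j hj)) (hJm j hj))
    rw [hm, inv_mul_cancel_left] at h
    exact h.eq
  have hwZ : w ∈ Z₀ := by
    rw [hZ₀]
    exact Offenders.mem_omegaOne ⟨hWJ hw, fun j hj => hjw j hj⟩ (by rw [pow_two]; exact hWexp w hw)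
  have hmC : m ∈ centralizer ((K : Set G) ∪ (J : Set G)) := by
    rintro h (hh | hh)
    · exact hKm h hh
    · exact hJm h hh
  rw [show z = m * w⁻¹ by rw [hm, mul_inv_cancel_right]]
  exact mul_mem (mem_sup_left ⟨mul_mem hz hwZ, mul_mem hzH (hWH hw), hmC⟩)
    (mem_sup_right (show w⁻¹ ∈ Z₀ ⊓ W from ⟨Z₀.inv_mem hwZ, W.inv_mem hw⟩))

end Cfsg.Agent.S2946
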