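import Mathlib
import Cfsg.Statements.S2947

set_option autoImplicit false
open Cfsg

namespace Cfsg.Agent.S2947

/-- Let G be a finite group of characteristic 2 type in which every 2-local subgroup is solvable and the centralizer of Ω₁(Z(S)) lies in N_G(S) for every Sylow 2-subgroup S; suppose O₂(G) = 1, fix a Sylow 2-subgroup S and a 2-local subgroup M containing N_G(J(S)) (J the Thompson subgroup generated by the elementary abelian 2-subgroups of largest order). Then M is strongly embedded in G (a proper subgroup of even order whose intersection with each conjugate by an element outside M has odd order) if and only if no nontrivial 2-subgroup of M lies in a 2-local subgroup of G not contained in M. -/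
theorem result {G : Type*} [Group G] [Finite G] (hL : Cfsg.IsCharacteristicTwoType G) (hN : ∀ N : Subgroup G, Cfsg.IsTwoLocal N → Group.IsSolvable ↥N)
    (hZ : ∀ S : Sylow 2 G, Subgroup.centralizer (Cfsg.omegaCenterOf (S : Subgroup G) : Set G) ≤ Subgroup.normalizer ((S : Subgroup G) : Set G)) (hO : Cfsg.pCore 2 G = ⊥) (S : Sylow 2 G) (M : Subgroup G) (hM : Cfsg.IsTwoLocal M)
    (hMJ : Subgroup.normalizer (Cfsg.thompsonSubgroupOf 2 (S : Subgroup G) : Set G) ≤ M) :
    Cfsg.IsStronglyEmbedded M ↔ Cfsg.straddlingTwoSubgroups M = ∅ := by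
  haveI : Fact (Nat.Prime 2) := ⟨Nat.prime_two⟩
  have hSN : (S : Subgroup G) ≤
      Subgroup.normalizer (Cfsg.thompsonSubgroupOf 2 (S : Subgroup G) : Set G) := by
    have hn : (Cfsg.thompsonSubgroup 2 (S : Subgroup G)).Normal := by
      refine ⟨fun x hx g => ?_⟩
      have hle : Cfsg.thompsonSubgroup 2 ↥(S : Subgroup G) ≤
          (Cfsg.thompsonSubgroup 2 ↥(S : Subgroup G)).comap (MulAut.conj g).toMonoidHom := by
        refine sSup_le fun A hA => ?_
        rw [← Subgroup.map_le_iff_le_comap]
        have hc : Nat.card (A.map (MulAut.conj g).toMonoidHom) = Nat.card A :=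
          Subgroup.card_map_of_injective (MulAut.conj g).injective
        refine le_sSup ⟨⟨⟨⟨?_⟩⟩, ?_⟩, fun B hB => hc ▸ hA.2 B hB⟩
        · rintro ⟨_, a, ha, rfl⟩ ⟨_, b, hb, rfl⟩
          have := congrArg Subtype.val (hA.1.1.is_comm.comm ⟨a, ha⟩ ⟨b, hb⟩)
          ext1
          simp only [Subgroup.coe_mul, ← map_mul] at this ⊢
          rw [this]
        · rintro _ ⟨a, ha, rfl⟩
          rw [← map_pow, hA.1.2 a ha, map_one]
      simpa [MulAut.conj_apply] using hle hx
    have := (Subgroup.le_normalizer_map (H := Cfsg.thompsonSubgroup 2 ↥(S : Subgroup G))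
      (S : Subgroup G).subtype)
    intro x hx
    refine this ⟨⟨x, hx⟩, ?_, rfl⟩
    rw [Subgroup.normalizer_eq_top_iff.mpr hn]; trivial
  have hSM : (S : Subgroup G) ≤ M := hSN.trans hMJ
  constructor
  · intro hse
    -- normalisers of nontrivial 2-subgroups of M lie in M
    have hU : ∀ U : Subgroup G, IsPGroup 2 U → U ≠ ⊥ → U ≤ M →
        Subgroup.normalizer (U : Set G) ≤ M := by
      intro U hU hU1 hUM g hg
      by_contra hgM
      have h1 := hse.2.2 g hgM
      have hUle : U ≤ M ⊓ M.map (MulAut.conj g).toMonoidHom := by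
        refine le_inf hUM fun x hx => ⟨g⁻¹ * x * g, hUM ?_, by simp [MulAut.conj_apply, mul_assoc]⟩
        simpa using (Subgroup.mem_normalizer_iff.mp (inv_mem hg) x).mp hx
      obtain ⟨k, hk⟩ := IsPGroup.iff_card.mp hU
      have hk0 : k ≠ 0 := by
        rintro rfl; exact hU1 (Subgroup.card_eq_one.mp (by simpa using hk))
      have h2 := Subgroup.card_dvd_of_le hUle
      rw [hk] at h2
      exact (Nat.not_even_iff_odd.mpr h1) (even_iff_two_dvd.mpr ((dvd_pow_self 2 hk0).trans h2))
    rw [Set.eq_empty_iff_forall_notMem]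
    rintro T ⟨hT, hT1, hTM, L, ⟨R, hR, hR1, rfl⟩, hTL, hLM⟩
    set P := R ⊔ T
    have hP : IsPGroup 2 P := hR.to_sup_of_normal_left' hT hTL
    have hne : (P ⊓ M) ≠ ⊥ := fun h => hT1 (le_bot_iff.mp (h ▸ le_inf le_sup_right hTM))
    have hPM : P ≤ M := by
      by_contra hPM
      haveI : Group.IsNilpotent P := hP.isNilpotent
      have hlt : (P ⊓ M).subgroupOf P < ⊤ := lt_top_iff_ne_top.mpr fun h =>
        hPM ((Subgroup.subgroupOf_eq_top.mp h).trans inf_le_right)
      obtain ⟨n, hn, hnM⟩ :=
        SetLike.exists_of_lt (Group.normalizerCondition_of_isNilpotent _ hlt)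
      apply hnM
      refine Subgroup.mem_subgroupOf.mpr ⟨n.2, hU (P ⊓ M) (hP.to_le inf_le_left) hne inf_le_right ?_⟩
      rw [Subgroup.mem_normalizer_iff]
      intro x
      by_cases hx : x ∈ P
      · have := Subgroup.mem_normalizer_iff.mp hn ⟨x, hx⟩
        simp only [Subgroup.mem_subgroupOf, Subgroup.mem_inf, Subgroup.coe_mul, Subgroup.coe_inv] at this
        simpa [Subgroup.mem_inf] using this
      · refine iff_of_false (fun h => hx h.1) (fun h => hx ?_)
        have := P.mul_mem (P.mul_mem (P.inv_mem n.2) h.1) n.2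
        simpa [mul_assoc] using this
    exact hLM (hU R hR hR1 (le_sup_left.trans hPM))
  · intro hemp
    rw [Set.eq_empty_iff_forall_notMem] at hemp
    have hloc : ∀ U L : Subgroup G, IsPGroup 2 U → U ≠ ⊥ → U ≤ M → Cfsg.IsTwoLocal L → U ≤ L →
        L ≤ M := by
      intro U L h1 h2 h3 h4 h5
      by_contra h6
      exact hemp U ⟨h1, h2, h3, L, h4, h5, h6⟩
    obtain ⟨R, hR, hR1, hMR⟩ := hM
    have hRM : R ≤ M := hMR ▸ Subgroup.le_normalizer
    refine ⟨?_, ?_, ?_⟩
    · intro htop
      apply hR1
      have hn : R.Normal := Subgroup.normalizer_eq_top_iff.mp (hMR ▸ htop)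
      exact le_bot_iff.mp (hO ▸ le_sSup ⟨hn, hR⟩)
    · obtain ⟨k, hk⟩ := IsPGroup.iff_card.mp hR
      have hk0 : k ≠ 0 := by
        rintro rfl; exact hR1 (Subgroup.card_eq_one.mp (by simpa using hk))
      exact even_iff_two_dvd.mpr ((hk ▸ dvd_pow_self 2 hk0).trans (Subgroup.card_dvd_of_le hRM))
    · intro g hg
      by_contra hodd
      rw [Nat.not_odd_iff_even, even_iff_two_dvd] at hodd
      obtain ⟨x, hx⟩ := exists_prime_orderOf_dvd_card' 2 hodd
      set U : Subgroup G := Subgroup.zpowers (x : G)
      have hxo : orderOf (x : G) = 2 := by rw [Subgroup.orderOf_coe, hx]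
      have hU : IsPGroup 2 U := IsPGroup.of_card (n := 1) (by rw [Nat.card_zpowers, hxo, pow_one])
      have hU1 : U ≠ ⊥ := by
        intro h
        have := congrArg (fun K : Subgroup G => Nat.card K) h
        simp [U, Nat.card_zpowers, hxo] at this
      have hM2 : Cfsg.IsTwoLocal (M.map (MulAut.conj g).toMonoidHom) := by
        refine ⟨R.map (MulAut.conj g).toMonoidHom, hR.map _, ?_, ?_⟩
        · exact fun h => hR1 ((Subgroup.map_eq_bot_iff_of_injective R (f := (MulAut.conj g).toMonoidHom) (MulAut.conj g).injective).mp h)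
        · rw [hMR, Subgroup.map_normalizer_eq_of_bijective R (f := (MulAut.conj g).toMonoidHom) (MulAut.conj g).bijective]
      have hle := hloc U _ hU hU1 (Subgroup.zpowers_le.mpr x.2.1) hM2 (Subgroup.zpowers_le.mpr x.2.2)
      have hMeq : M.map (MulAut.conj g).toMonoidHom = M :=
        Subgroup.eq_of_le_of_card_ge hle
          (le_of_eq (Subgroup.card_map_of_injective (MulAut.conj g).injective).symm)
      have hgS : ((g • S : Sylow 2 G) : Subgroup G) ≤ M := by
        rw [← hMeq, Sylow.coe_subgroup_smul]
        intro y hy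
        rw [Subgroup.mem_pointwise_smul_iff_inv_smul_mem] at hy
        exact ⟨g⁻¹ * y * g, hSM (by simpa [MulAut.smul_def, MulAut.conj_apply] using hy),
          by simp [MulAut.conj_apply, mul_assoc]⟩
      obtain ⟨m, hm⟩ := MulAction.exists_smul_eq (↥M) (S.subtype hSM) ((g • S).subtype hgS)
      have heq : (m : G) • S = g • S := by
        rw [Sylow.smul_subtype hSM m] at hm
        exact Sylow.subtype_injective hm
      have hN : (m : G)⁻¹ * g ∈ Subgroup.normalizer ((S : Subgroup G) : Set G) :=
        Sylow.smul_eq_iff_mem_normalizer.mp (by rw [mul_smul, ← heq, inv_smul_smul])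
      have hN2 : (m : G)⁻¹ * g ∈ M := by
        apply hMJ
        set m' := (m : G)⁻¹ * g
        have hmap : (S : Subgroup G).map (MulAut.conj m').toMonoidHom = (S : Subgroup G) := by
          ext y
          constructor
          · rintro ⟨w, hw, rfl⟩
            simpa [MulAut.conj_apply] using (Subgroup.mem_normalizer_iff.mp hN w).mp hw
          · intro hy
            refine ⟨m'⁻¹ * y * m', ?_, by simp [MulAut.conj_apply, mul_assoc]⟩
            have := (Subgroup.mem_normalizer_iff.mp (inv_mem hN) y).mp hy
            rw [inv_inv] at this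
            exact this
        have hA : ∀ A ∈ Cfsg.maxElementaryAbelianSubgroups 2 ↥(S : Subgroup G),
            (A.map (S : Subgroup G).subtype).map (MulAut.conj m').toMonoidHom ≤
              Cfsg.thompsonSubgroupOf 2 (S : Subgroup G) := by
          intro A hA
          have hAS : (A.map (S : Subgroup G).subtype).map (MulAut.conj m').toMonoidHom ≤
              (S : Subgroup G) := (Subgroup.map_mono (Subgroup.map_subtype_le A)).trans hmap.le
          set A' := ((A.map (S : Subgroup G).subtype).map (MulAut.conj m').toMonoidHom).subgroupOf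
            (S : Subgroup G)
          have hc : Nat.card A' = Nat.card A := by
            rw [Nat.card_congr (Subgroup.subgroupOfEquivOfLe hAS).toEquiv,
              Subgroup.card_map_of_injective (MulAut.conj m').injective,
              Subgroup.card_map_of_injective (Subgroup.subtype_injective _)]
          have hmem : A' ∈ Cfsg.maxElementaryAbelianSubgroups 2 ↥(S : Subgroup G) := by
            refine ⟨⟨⟨⟨?_⟩⟩, ?_⟩, fun B hB => hc ▸ hA.2 B hB⟩
            · rintro ⟨⟨u, huS⟩, hu⟩ ⟨⟨v, hvS⟩, hv⟩
              obtain ⟨_, ⟨a, ha, rfl⟩, hau⟩ := hu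
              obtain ⟨_, ⟨b, hb, rfl⟩, hbv⟩ := hv
              have := congrArg (fun z : ↥A => ((z : ↥(S : Subgroup G)) : G))
                (hA.1.1.is_comm.comm ⟨a, ha⟩ ⟨b, hb⟩)
              ext
              simp only [Subgroup.coe_mul, Subgroup.coe_subtype] at this hau hbv ⊢
              rw [← hau, ← hbv, ← map_mul, this, map_mul]
            · rintro ⟨u, huS⟩ hu
              obtain ⟨_, ⟨a, ha, rfl⟩, hau⟩ := hu
              have := congrArg Subtype.val (hA.1.2 a ha)
              ext
              simp only [Subgroup.coe_subtype, SubmonoidClass.coe_pow, OneMemClass.coe_one]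
                at this hau ⊢
              rw [← hau, ← map_pow, this, map_one]
          intro y hy
          exact ⟨⟨y, hAS hy⟩, le_sSup (s := Cfsg.maxElementaryAbelianSubgroups 2 ↥(S : Subgroup G))
            hmem (by simpa [A', Subgroup.mem_subgroupOf] using hy), rfl⟩
        have hJ : (Cfsg.thompsonSubgroupOf 2 (S : Subgroup G)).map (MulAut.conj m').toMonoidHom ≤
            Cfsg.thompsonSubgroupOf 2 (S : Subgroup G) := by
          rw [Cfsg.thompsonSubgroupOf, Cfsg.thompsonSubgroup, sSup_eq_iSup, Subgroup.map_iSup,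
            Subgroup.map_iSup]
          refine iSup_le fun A => ?_
          rw [Subgroup.map_iSup, Subgroup.map_iSup]
          refine iSup_le fun hA' => ?_
          refine (hA A hA').trans (le_of_eq ?_)
          rw [Cfsg.thompsonSubgroupOf, Cfsg.thompsonSubgroup, sSup_eq_iSup, Subgroup.map_iSup]
        have hJeq := Subgroup.eq_of_le_of_card_ge hJ
          (le_of_eq (Subgroup.card_map_of_injective (MulAut.conj m').injective).symm)
        rw [Subgroup.mem_normalizer_iff]
        intro y
        constructor
        · intro hy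
          exact hJ ⟨y, hy, by simp [MulAut.conj_apply]⟩
        · intro hy
          rw [← hJeq] at hy
          obtain ⟨w, hw, hwy⟩ := hy
          have : w = y := (MulAut.conj m').injective (hwy.trans (by simp [MulAut.conj_apply]))
          exact this ▸ hw
      exact hg (by simpa using M.mul_mem m.2 hN2)

end Cfsg.Agent.S2947
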