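import Cfsg.Statements.S1187
import Cfsg.Agent.Lib.ZStarTheorem
import Cfsg.Agent.Lib.CoprimeAction
-- import your own Cfsg.Agent.* helpers here

set_option autoImplicit false
open Cfsg

namespace Cfsg.Agent.S1187

/-- A `p`-subgroup normalized by an isolated involution lies in a Sylow subgroup normalized by it. -/
theorem exists_invariant_ge {G : Type*} [Group G] [Finite G] {z : G}
    (hz : Cfsg.IsIsolatedInvolution z) {p : ℕ} [Fact p.Prime] {Q : Subgroup G} (hQ : IsPGroup p Q)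
    (hzQ : z ∈ Subgroup.normalizer (Q : Set G)) :
    ∃ P : Sylow p G, Q ≤ P ∧ z ∈ Subgroup.normalizer ((P : Subgroup G) : Set G) := by
  have hzp : IsPGroup 2 (Subgroup.zpowers z) :=
    IsPGroup.of_card (n := 1) (by rw [Nat.card_zpowers, hz.1, pow_one])
  by_cases hp2 : p = 2
  · subst hp2
    obtain ⟨P, hP⟩ := (hQ.to_sup_of_normal_left' hzp (Subgroup.zpowers_le.2 hzQ)).exists_le_sylow
    exact ⟨P, le_sup_left.trans hP, Subgroup.le_normalizer (hP (Subgroup.mem_sup_right
      (Subgroup.mem_zpowers z)))⟩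
  obtain ⟨P₁, hP₁⟩ := hQ.exists_le_sylow
  obtain ⟨N, hN, hNodd, hzN⟩ := ZStarTheorem.exists_odd_normal hz
  haveI := hN
  have hodd : Odd (Nat.card ↥((P₁ : Subgroup G) ⊔ N)) := by
    obtain ⟨k, hk⟩ := IsPGroup.iff_card.1 P₁.2
    refine Odd.of_dvd_nat ?_ (HallCore.card_sup_dvd (P₁ : Subgroup G) N)
    rw [hk]
    exact ((Fact.out : p.Prime).odd_of_ne_two hp2).pow.mul hNodd
  have hAK : Subgroup.zpowers z ≤
      Subgroup.normalizer (((P₁ : Subgroup G) ⊔ N : Subgroup G) : Set G) := by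
    rw [Subgroup.zpowers_le, Subgroup.mem_normalizer_iff]
    have key : ∀ x ∈ (P₁ : Subgroup G) ⊔ N, z * x * z⁻¹ ∈ (P₁ : Subgroup G) ⊔ N := by
      intro x hx
      rw [show z * x * z⁻¹ = (z * x * z⁻¹ * x⁻¹) * x by group]
      exact mul_mem (Subgroup.mem_sup_right (hzN x)) hx
    have hzz : z * z = 1 := IsolatedInv.sq_of_orderOf_two hz.1
    refine fun x => ⟨key x, fun h => ?_⟩
    have h' := key _ h
    rwa [show z * (z * x * z⁻¹) * z⁻¹ = (z * z) * x * (z * z)⁻¹ by group, hzz, one_mul, inv_one,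
      mul_one] at h'
  have hcop : (Nat.card (Subgroup.zpowers z)).Coprime (Nat.card ↥((P₁ : Subgroup G) ⊔ N)) := by
    rw [Nat.card_zpowers, hz.1]
    exact Nat.coprime_two_left.2 hodd
  obtain ⟨R, hQR, hzR⟩ := CoprimeAction.exists_invariant_sylow_ge (p := p) hAK hcop
    (Or.inl (CoprimeAction.isSolvable_zpowers z)) (hP₁.trans le_sup_left) hQ
    (Subgroup.zpowers_le.2 hzQ)
  obtain ⟨P, hP⟩ := (R.2.map ((P₁ : Subgroup G) ⊔ N).subtype).exists_le_sylow
  have heq : (R : Subgroup ↥((P₁ : Subgroup G) ⊔ N)).map ((P₁ : Subgroup G) ⊔ N).subtype = P := by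
    refine Subgroup.eq_of_le_of_card_ge hP ?_
    rw [CoprimeAction.card_map_sylow, P.card_eq_multiplicity]
    refine Nat.pow_le_pow_right (Fact.out : p.Prime).pos ?_
    rw [← (Fact.out : p.Prime).pow_dvd_iff_le_factorization Nat.card_pos.ne',
      ← P₁.card_eq_multiplicity]
    exact Subgroup.card_dvd_of_le le_sup_left
  refine ⟨P, hQR.trans heq.le, ?_⟩
  rw [← heq]
  exact hzR (Subgroup.mem_zpowers z)

/-- Let z be an isolated involution of the finite group G and p a prime. If Q is a p-subgroup normalized by z that is maximal among p-subgroups normalized by z, then Q is a Sylow p-subgroup of G. -/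
theorem result {G : Type*} [Group G] [Finite G] (z : G) (hz : Cfsg.IsIsolatedInvolution z) {p : ℕ} [Fact p.Prime] (Q : Subgroup G) (hQ : IsPGroup p Q) (hzQ : z ∈ Subgroup.normalizer (Q : Set G)) (hmax : ∀ R : Subgroup G, IsPGroup p R → z ∈ Subgroup.normalizer (R : Set G) → Q ≤ R → R = Q) : ∃ P : Sylow p G, (P : Subgroup G) = Q := by
  obtain ⟨P, hQP, hzP⟩ := exists_invariant_ge hz hQ hzQ
  exact ⟨P, hmax P P.2 hzP hQP⟩

end Cfsg.Agent.S1187
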