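import Cfsg.Statements.S4200
import Mathlib

set_option autoImplicit false
open Cfsg

namespace Cfsg.Agent.S4200

/-- `k(G)|G|` as a sum of centraliser orders. -/
theorem card_classes_mul (G : Type*) [Group G] [Fintype G] :
    Nat.card (ConjClasses G) * Nat.card G = ∑ x : G, Nat.card {z : G // Commute x z} := by
  classical
  rw [← card_comm_eq_card_conjClasses_mul_card, Nat.card_congr (Equiv.subtypeProdEquivSigmaSubtype Commute), Nat.card_sigma]

/-- Centraliser inside a subgroup against the whole centraliser. -/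
theorem card_le_index_mul {X : Type*} [Group X] [Finite X] (Y : Subgroup X) (x : X) :
    Nat.card {z : X // Commute x z} ≤ Y.index * Nat.card {z : Y // Commute x (z : X)} ∧
    (Y.index * Nat.card {z : Y // Commute x (z : X)} ≤ Nat.card {z : X // Commute x z} →
      ∀ g : X, ∃ c : X, Commute x c ∧ g⁻¹ * c ∈ Y) := by
  classical
  set C := Subgroup.centralizer ({x} : Set X) with hC
  have e1 : Nat.card {z : X // Commute x z} = Nat.card C :=
    Nat.card_congr (Equiv.subtypeEquivRight fun z => by
      rw [Subgroup.mem_centralizer_singleton_iff]; exact ⟨fun h => h.symm, fun h => h.symm⟩)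
  have e2 : Nat.card {z : Y // Commute x (z : X)} = Nat.card (Y.subgroupOf C) := by
    refine Nat.card_congr
      { toFun := fun z => ⟨⟨(z.1 : X), Subgroup.mem_centralizer_singleton_iff.mpr z.2.symm⟩, z.1.2⟩
        invFun := fun z => ⟨⟨(z.1 : X), z.2⟩, (show ((z.1 : C) : X) * x = x * (z.1 : X) from Subgroup.mem_centralizer_singleton_iff.mp z.1.2).symm⟩
        left_inv := fun z => rfl
        right_inv := fun z => rfl }
  have e3 : Nat.card C = (Y.subgroupOf C).index * Nat.card (Y.subgroupOf C) := (Subgroup.index_mul_card _).symm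
  have hinj : Function.Injective (fun q : C ⧸ Y.subgroupOf C => (QuotientGroup.mk (q.out : X) : X ⧸ Y)) := by
    intro q q' h
    have h3 : ((q.out : C) : X)⁻¹ * ((q'.out : C) : X) ∈ Y := QuotientGroup.eq.mp h
    have h2 : (q.out)⁻¹ * q'.out ∈ Y.subgroupOf C := h3
    rw [← QuotientGroup.eq, QuotientGroup.out_eq', QuotientGroup.out_eq'] at h2
    exact h2
  have hle : (Y.subgroupOf C).index ≤ Y.index := Nat.card_le_card_of_injective _ hinj
  refine ⟨by rw [e1, e2, e3]; exact Nat.mul_le_mul_right _ hle, fun h g => ?_⟩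
  rw [e1, e2, e3] at h
  have h2 : Y.index ≤ (Y.subgroupOf C).index := Nat.le_of_mul_le_mul_right h Nat.card_pos
  obtain ⟨q, hq⟩ := (hinj.bijective_of_nat_card_le h2).2 (QuotientGroup.mk g)
  exact ⟨(q.out : X), (show ((q.out : C) : X) * x = x * (q.out : X) from Subgroup.mem_centralizer_singleton_iff.mp q.out.2).symm, QuotientGroup.eq.mp hq.symm⟩

/-- Let Y be a subgroup of the finite group X, of index m. Then the numbers of conjugacy classes satisfy k(Y) ≤ m·k(X) and k(X) ≤ m·k(Y), and the second inequality is strict unless Y is normal in X. -/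
theorem result {X : Type*} [Group X] [Finite X] (Y : Subgroup X) : Nat.card (ConjClasses Y) ≤ Y.index * Nat.card (ConjClasses X) ∧ Nat.card (ConjClasses X) ≤ Y.index * Nat.card (ConjClasses Y) ∧ (¬ Y.Normal → Nat.card (ConjClasses X) < Y.index * Nat.card (ConjClasses Y)) := by
  classical
  haveI := Fintype.ofFinite X
  haveI : Fintype Y := Fintype.ofFinite Y
  set m := Y.index
  set kX := Nat.card (ConjClasses X)
  set kY := Nat.card (ConjClasses Y)
  have hYY : ∑ y : Y, Nat.card {z : Y // Commute (y : X) (z : X)} = kY * Nat.card Y := by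
    rw [card_classes_mul]
    exact Finset.sum_congr rfl fun y _ => Nat.card_congr (Equiv.subtypeEquivRight fun z =>
      ⟨fun h => Subtype.ext h, fun h => congrArg Subtype.val h⟩)
  have hswap : ∑ x : X, Nat.card {z : Y // Commute x (z : X)} = ∑ y : Y, Nat.card {z : X // Commute (y : X) z} := by
    rw [← Nat.card_sigma, ← Nat.card_sigma]
    exact Nat.card_congr
      { toFun := fun p => ⟨p.2.1, p.1, p.2.2.symm⟩
        invFun := fun p => ⟨p.2.1, p.1, p.2.2.symm⟩
        left_inv := fun p => rfl
        right_inv := fun p => rfl }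
  have hm : m * Nat.card Y = Nat.card X := Y.index_mul_card
  have hYpos : 0 < Nat.card Y := Nat.card_pos
  have h1 : kX * Nat.card X ≤ m * ∑ y : Y, Nat.card {z : X // Commute (y : X) z} := by
    rw [card_classes_mul, ← hswap, Finset.mul_sum]
    exact Finset.sum_le_sum fun x _ => (card_le_index_mul Y x).1
  refine ⟨?_, ?_, fun hn => ?_⟩
  · have h : kY * Nat.card Y ≤ kX * Nat.card X := by
      rw [← hYY, card_classes_mul]
      calc ∑ y : Y, Nat.card {z : Y // Commute (y : X) (z : X)} ≤ ∑ y : Y, Nat.card {z : X // Commute (y : X) z} :=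
            Finset.sum_le_sum fun y _ => Nat.card_le_card_of_injective (fun z => ⟨(z.1 : X), z.2⟩)
              (fun z z' h => Subtype.ext (Subtype.ext (congrArg (fun w : {z : X // _} => (w : X)) h)))
        _ = ∑ x ∈ (Finset.univ : Finset Y).map ⟨Subtype.val, Subtype.val_injective⟩, Nat.card {z : X // Commute x z} := by
            rw [Finset.sum_map]; rfl
        _ ≤ _ := Finset.sum_le_univ_sum_of_nonneg (fun _ => Nat.zero_le _)
    rw [← hm, ← Nat.mul_assoc, Nat.mul_comm kX m] at h
    exact Nat.le_of_mul_le_mul_right h hYpos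
  · have h2 : ∑ y : Y, Nat.card {z : X // Commute (y : X) z} ≤ m * (kY * Nat.card Y) := by
      rw [← hYY, Finset.mul_sum]
      exact Finset.sum_le_sum fun y _ => (card_le_index_mul Y (y : X)).1
    have h3 : kX * Nat.card X ≤ (m * kY) * Nat.card X := by
      refine h1.trans ((Nat.mul_le_mul_left m h2).trans (le_of_eq ?_))
      rw [← hm]; ring
    exact Nat.le_of_mul_le_mul_right h3 Nat.card_pos
  · by_contra hlt
    rw [not_lt] at hlt
    apply hn
    have h2 : ∀ y ∈ (Finset.univ : Finset Y), Nat.card {z : X // Commute (y : X) z} ≤ m * Nat.card {z : Y // Commute (y : X) (z : X)} :=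
      fun y _ => (card_le_index_mul Y (y : X)).1
    have h3 : m * ∑ y : Y, m * Nat.card {z : Y // Commute (y : X) (z : X)} ≤ kX * Nat.card X := by
      rw [← Finset.mul_sum, hYY]
      calc m * (m * (kY * Nat.card Y)) = (m * kY) * (m * Nat.card Y) := by ring
        _ ≤ kX * Nat.card X := by rw [hm]; exact Nat.mul_le_mul_right _ hlt
    have h4 : ∑ y : Y, m * Nat.card {z : Y // Commute (y : X) (z : X)} ≤ ∑ y : Y, Nat.card {z : X // Commute (y : X) z} :=
      Nat.le_of_mul_le_mul_left (h3.trans h1) (Nat.pos_of_ne_zero Subgroup.index_ne_zero_of_finite)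
    have h5 := (Finset.sum_eq_sum_iff_of_le h2).mp (le_antisymm (Finset.sum_le_sum h2) h4)
    refine ⟨fun y hy g => ?_⟩
    obtain ⟨c, hc, hcy⟩ := (card_le_index_mul Y y).2 (h5 ⟨y, hy⟩ (Finset.mem_univ _)).ge g⁻¹
    rw [inv_inv] at hcy
    have e : g * y * g⁻¹ = (g * c) * (c⁻¹ * y * c) * (g * c)⁻¹ := by group
    have e2 : c⁻¹ * y * c = y := by rw [mul_assoc, hc.eq, inv_mul_cancel_left]
    rw [e, e2]
    exact mul_mem (mul_mem hcy hy) (inv_mem hcy)

end Cfsg.Agent.S4200
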