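import Cfsg.Statements.S4201
import Mathlib

set_option autoImplicit false
open Cfsg

namespace Cfsg.Agent.S4201

/-- Within one coset, an element commutes with at most as many elements as within the subgroup. -/
theorem card_coset_le {X : Type*} [Group X] [Finite X] (N : Subgroup X) [N.Normal] (c : X ⧸ N) (y : X) :
    Nat.card {x : X // (x : X ⧸ N) = c ∧ Commute x y} ≤ Nat.card {n : N // Commute (n : X) y} := by
  rcases isEmpty_or_nonempty {x : X // (x : X ⧸ N) = c ∧ Commute x y} with h | ⟨⟨x0, hx0, hc0⟩⟩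
  · simp
  refine Nat.card_le_card_of_injective (fun x => ⟨⟨x0⁻¹ * x.1, QuotientGroup.eq.mp (hx0.trans x.2.1.symm)⟩, hc0.inv_left.mul_left x.2.2⟩) ?_
  intro a b h
  exact Subtype.ext (mul_left_cancel (congrArg (fun z : {n : N // Commute (n : X) y} => ((z.1 : N) : X)) h))

/-- If N is a normal subgroup of the finite group X then k(X) ≤ k(N)·k(X ⧸ N), where k denotes the number of conjugacy classes. -/
theorem result {X : Type*} [Group X] [Finite X] (N : Subgroup X) [N.Normal] : Nat.card (ConjClasses X) ≤ Nat.card (ConjClasses N) * Nat.card (ConjClasses (X ⧸ N)) := by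
  classical
  have hX : Nat.card {p : X × X // Commute p.1 p.2} ≤
      Nat.card {p : (X ⧸ N) × (X ⧸ N) // Commute p.1 p.2} * Nat.card {p : N × N // Commute p.1 p.2} := by
    haveI := Fintype.ofFinite {p : (X ⧸ N) × (X ⧸ N) // Commute p.1 p.2}
    haveI := Fintype.ofFinite N
    let f : {p : X × X // Commute p.1 p.2} → {p : (X ⧸ N) × (X ⧸ N) // Commute p.1 p.2} :=
      fun p => ⟨((p.1.1 : X ⧸ N), (p.1.2 : X ⧸ N)), p.2.map (QuotientGroup.mk' N)⟩
    rw [← Nat.card_congr (Equiv.sigmaFiberEquiv f), Nat.card_sigma]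
    refine (Finset.sum_le_card_nsmul _ _ (Nat.card {p : N × N // Commute p.1 p.2}) fun c _ => ?_).trans
      (le_of_eq (by simp [Finset.card_univ, Nat.card_eq_fintype_card]))
    haveI := Fintype.ofFinite {x : X // (x : X ⧸ N) = c.1.1}
    calc Nat.card {p // f p = c}
        ≤ Nat.card (Σ x : {x : X // (x : X ⧸ N) = c.1.1}, {z : X // (z : X ⧸ N) = c.1.2 ∧ Commute z (x : X)}) := by
          refine Nat.card_le_card_of_injective (fun p => ⟨⟨p.1.1.1, congrArg (fun z => z.1.1) p.2⟩, ⟨p.1.1.2, congrArg (fun z => z.1.2) p.2, p.1.2.symm⟩⟩) ?_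
          rintro ⟨⟨⟨a, b⟩, _⟩, _⟩ ⟨⟨⟨a', b'⟩, _⟩, _⟩ h
          simp only [Sigma.mk.inj_iff, Subtype.mk.injEq] at h
          obtain ⟨rfl, h2⟩ := h
          obtain rfl := congrArg Subtype.val (eq_of_heq h2)
          rfl
      _ ≤ ∑ x : {x : X // (x : X ⧸ N) = c.1.1}, Nat.card {n : N // Commute (n : X) (x : X)} := by
          rw [Nat.card_sigma]; exact Finset.sum_le_sum fun x _ => card_coset_le N _ _
      _ = ∑ n : N, Nat.card {x : {x : X // (x : X ⧸ N) = c.1.1} // Commute (x : X) (n : X)} := by
          rw [← Nat.card_sigma, ← Nat.card_sigma]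
          exact Nat.card_congr
            { toFun := fun p => ⟨p.2.1, p.1, p.2.2.symm⟩
              invFun := fun p => ⟨p.2.1, p.1, p.2.2.symm⟩
              left_inv := fun p => rfl
              right_inv := fun p => rfl }
      _ ≤ ∑ n : N, Nat.card {m : N // Commute n m} := by
          refine Finset.sum_le_sum fun n _ => ?_
          refine (Nat.card_congr (Equiv.subtypeSubtypeEquivSubtypeInter (fun x : X => (x : X ⧸ N) = c.1.1) (fun x => Commute x (n : X)))).trans_le ((card_coset_le N _ _).trans (le_of_eq ?_))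
          exact Nat.card_congr (Equiv.subtypeEquivRight fun m => ⟨fun h => (Subtype.ext h : Commute m n).symm, fun h => congrArg Subtype.val h.symm⟩)
      _ = _ := by
          rw [← Nat.card_sigma]
          exact (Nat.card_congr (Equiv.subtypeProdEquivSigmaSubtype Commute)).symm
  rw [card_comm_eq_card_conjClasses_mul_card, card_comm_eq_card_conjClasses_mul_card, card_comm_eq_card_conjClasses_mul_card,
    Subgroup.card_eq_card_quotient_mul_card_subgroup N] at hX
  have h2 : Nat.card (ConjClasses X) * (Nat.card (X ⧸ N) * Nat.card N) ≤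
      (Nat.card (ConjClasses N) * Nat.card (ConjClasses (X ⧸ N))) * (Nat.card (X ⧸ N) * Nat.card N) :=
    hX.trans (le_of_eq (by ring))
  exact Nat.le_of_mul_le_mul_right h2 (Nat.mul_pos Nat.card_pos Nat.card_pos)

end Cfsg.Agent.S4201
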