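import Cfsg.Statements.S4958
import Mathlib
import Cfsg.Agent.Lib.KnorrKGV
import Cfsg.Agent.Lib.GaloisChar80
import Cfsg.Agent.Lib.CharBasicOrth
import Cfsg.Agent.Lib.CharBasicCyclic
import Cfsg.Agent.Lib.DegreeDvd
import Cfsg.Agent.S4574

set_option autoImplicit false
open Cfsg

namespace Cfsg.Agent.S4958

open Cfsg.Agent.CharBasic Cfsg.Agent.CharBasicOrth Cfsg.Agent.CharBasicDecomp Cfsg.Agent.CharBasicCyclic
open scoped ComplexConjugate

universe u

theorem sum_dual_norm_sq {A : Type u} [CommGroup A] [Fintype A] [Fintype (A →* ℂˣ)] (h : A → ℂ) :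
    ∑ l : A →* ℂˣ, ‖∑ a, h a * (l a : ℂ)‖ ^ 2 = (Nat.card A : ℝ) * ∑ a, ‖h a‖ ^ 2 := by
  classical
  have horth : ∀ a b : A, ∑ l : A →* ℂˣ, (l a : ℂ) * conj (l b : ℂ) =
      if a = b then (Nat.card A : ℂ) else 0 := by
    intro a b
    have hl : ∀ l : A →* ℂˣ, (l a : ℂ) * conj (l b : ℂ) = ((l (a * b⁻¹) : ℂˣ) : ℂ) := by
      intro l
      rw [map_mul, map_inv, Units.val_mul, Units.val_inv_eq_inv_val,
        Complex.inv_eq_conj (norm_linear l b)]
    simp only [hl]
    by_cases hab : a = b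
    · subst hab
      simp only [mul_inv_cancel, map_one, Units.val_one, Finset.sum_const, Finset.card_univ,
        nsmul_eq_mul, mul_one, if_true]
      rw [← Nat.card_eq_fintype_card, CommGroup.card_monoidHom_of_hasEnoughRootsOfUnity]
    · rw [if_neg hab]
      obtain ⟨l0, hl0⟩ := CommGroup.exists_apply_ne_one_of_hasEnoughRootsOfUnity A ℂ
        (a := a * b⁻¹) (fun h => hab (mul_inv_eq_one.1 h))
      have h1 : (l0 (a * b⁻¹) : ℂ) * ∑ l : A →* ℂˣ, ((l (a * b⁻¹) : ℂˣ) : ℂ) =
          ∑ l : A →* ℂˣ, ((l (a * b⁻¹) : ℂˣ) : ℂ) := by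
        rw [Finset.mul_sum]
        exact (Fintype.sum_equiv (Equiv.mulLeft l0) _ _ fun l => by simp).trans rfl
      have h2 : ((l0 (a * b⁻¹) : ℂ) - 1) * ∑ l : A →* ℂˣ, ((l (a * b⁻¹) : ℂˣ) : ℂ) = 0 := by
        rw [sub_mul, one_mul, h1, sub_self]
      exact (mul_eq_zero.1 h2).resolve_left (sub_ne_zero.2 (Units.val_eq_one.not.2 hl0))
  apply Complex.ofReal_injective
  push_cast
  simp only [← Complex.mul_conj', map_sum, map_mul, Finset.sum_mul_sum]
  rw [Finset.sum_comm, Finset.mul_sum]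
  refine Finset.sum_congr rfl fun a _ => ?_
  rw [Finset.sum_comm]
  calc _ = ∑ b, h a * conj (h b) * ∑ l : A →* ℂˣ, (l a : ℂ) * conj (l b : ℂ) := by
        refine Finset.sum_congr rfl fun b _ => ?_
        rw [Finset.mul_sum]
        exact Finset.sum_congr rfl fun l _ => by ring
    _ = _ := by simp [horth, mul_comm]

theorem sum_norm_sq_ge {C : Type u} [CommGroup C] [Fintype C] [DecidableEq C] {p : ℕ} [Fact p.Prime]
    (hC : Nat.card C = p) {θ : C → ℂ} (hθ : IsGeneralizedCharacter C θ) {z : ℤ} (hz : θ 1 = z)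
    (hpz : ¬ (p : ℤ) ∣ z) :
    (p : ℝ) - 1 ≤ ∑ t ∈ Finset.univ.erase (1 : C), ‖θ t‖ ^ 2 := by
  classical
  obtain ⟨a, b, ha, hb, rfl⟩ := hθ
  obtain ⟨g, hg⟩ : ∃ g : C, g ≠ 1 := by
    by_contra! h
    haveI : Subsingleton C := ⟨fun x y => (h x).trans (h y).symm⟩
    exact (Fact.out : p.Prime).one_lt.ne' (hC.symm.trans Nat.card_unique)
  have hgen : ∀ t : C, t ≠ 1 → Subgroup.zpowers t = ⊤ := fun t ht => by
    haveI : Fact (Nat.card C).Prime := ⟨hC.symm ▸ Fact.out⟩
    exact zpowers_eq_top_of_prime_card rfl ht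
  have hgens : gens (Subgroup.zpowers g) = Finset.univ.erase (1 : C) := by
    ext t
    rw [mem_gens, Finset.mem_erase, hgen g hg]
    refine ⟨fun h => ⟨fun h1 => ?_, Finset.mem_univ _⟩, fun h => hgen t h.1⟩
    subst h1
    rw [Subgroup.zpowers_one_eq_bot] at h
    exact hg (Subgroup.mem_bot.1 (h ▸ Subgroup.mem_top g))
  have hne : a g - b g ≠ 0 := by
    intro h0
    have hall : ∀ t ∈ Finset.univ.erase (1 : C), a t - b t = 0 := by
      intro t ht
      rw [← hgens, gens_eq_image] at ht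
      obtain ⟨j, hj, rfl⟩ := ht
      have hjC : j.Coprime (Nat.card C) := by
        rwa [← Nat.card_zpowers, hgen g hg, Subgroup.card_top] at hj
      obtain ⟨σ, hσ⟩ := Cfsg.Agent.GaloisChar80.exists_aut_char hjC
      rw [← hσ a ha, ← hσ b hb, ← map_sub, h0, map_zero]
    obtain ⟨m, hm⟩ := classInner_isGeneralizedCharacter (θ := a - b) (η := fun _ : C => (1 : ℂ))
      ⟨a, b, ha, hb, rfl⟩ (isGeneralizedCharacter_of_isCharacter isCharacter_one)
    rw [Cfsg.classInner, ← Finset.add_sum_erase _ _ (Finset.mem_univ (1 : C)),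
      Finset.sum_eq_zero (fun t ht => by simp [hall t ht]), add_zero, hC, hz] at hm
    simp only [map_one, mul_one] at hm
    rw [inv_mul_eq_iff_eq_mul₀ (Nat.cast_ne_zero.2 (Fact.out : p.Prime).ne_zero)] at hm
    exact hpz ⟨m, by exact_mod_cast hm⟩
  -- make it a character
  choose n hn hn1 using fun μ : Cfsg.IrrCharacter C => isIrrCharacter_apply_one μ.2
  let R : C → ℂ := fun t => ∑ μ ∈ Finset.univ.erase (trivIrr C), (n μ : ℂ) * (μ : C → ℂ) t
  have hR : Cfsg.IsCharacter C R := by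
    have := isCharacter_sum (G := C) (Finset.univ.erase (trivIrr C))
      (fun μ => ((n μ : ℂ) • (μ : C → ℂ)))
      fun μ _ => isCharacter_nsmul (isCharacter_of_isIrrCharacter μ.2) _
    convert this using 1
    ext t
    simp [R, Finset.sum_apply]
  have hRt : ∀ t : C, t ≠ 1 → R t = -1 := by
    intro t ht
    have h1 := sum_irr_mul_conj t (1 : C)
    rw [if_neg (fun h => ht (isConj_one_left.1 h)),
      ← Finset.add_sum_erase _ _ (Finset.mem_univ (trivIrr C))] at h1
    have h2 : R t = ∑ μ ∈ Finset.univ.erase (trivIrr C), (μ : C → ℂ) t * conj ((μ : C → ℂ) 1) :=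
      Finset.sum_congr rfl fun μ _ => by rw [hn1, map_natCast, mul_comm]
    rw [h2]
    simpa [trivIrr, eq_neg_iff_add_eq_zero, add_comm] using h1
  have hchar : Cfsg.IsCharacter C (a + b * R) := isCharacter_add ha (isCharacter_mul hb hR)
  have hval : ∀ t : C, t ≠ 1 → (a + b * R) t = a t - b t := fun t ht => by
    simp [hRt t ht, sub_eq_add_neg]
  have h := S4574.sum_gens_ge g hchar (by rwa [hval g hg])
  rw [hgens, Finset.card_erase_of_mem (Finset.mem_univ _), Finset.card_univ,
    ← Nat.card_eq_fintype_card, hC, Nat.cast_sub (Fact.out : p.Prime).one_lt.le, Nat.cast_one] at h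
  refine h.trans (le_of_eq (Finset.sum_congr rfl fun t ht => ?_))
  rw [hval t (Finset.mem_erase.1 ht).1]
  rfl


/-- Let X be a finite group and V a normal subgroup of X in which every element has order dividing the prime p, whose index in X is prime to p and which is its own centralizer in X; so V is an elementary abelian normal Sylow p-subgroup, and any complement G to V in X is a group of order prime to p acting faithfully on the vector space V by conjugation (the coprime linear setting of the k(GV) problem). Let G be a complement to V in X and suppose that for some v in V the centralizer of v in G is abelian. Then the number of conjugacy classes of X is at most the order of V (the abelian-stabilizer criterion for the k(GV) problem). -/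
theorem result {X : Type*} [Group X] [Finite X] (p : ℕ) [Fact p.Prime] (V : Subgroup X) [V.Normal] (hVexp : ∀ v ∈ V, v ^ p = 1) (hidx : ¬ p ∣ V.index) (hself : Subgroup.centralizer (V : Set X) = V) (G : Subgroup X) (hGV : Subgroup.IsComplement' V G) (v : X) (hv : v ∈ V) (hab : ∀ a ∈ G ⊓ Subgroup.centralizer ({v} : Set X), ∀ b ∈ G ⊓ Subgroup.centralizer ({v} : Set X), a * b = b * a) : Nat.card (ConjClasses X) ≤ Nat.card V := by
  classical
  haveI := Fintype.ofFinite X
  have hpp : p.Prime := Fact.out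
  have hVc : ∀ a ∈ V, ∀ b ∈ V, a * b = b * a := by
    intro a ha b hb
    have : b ∈ Subgroup.centralizer (V : Set X) := hself.symm ▸ hb
    exact Subgroup.mem_centralizer_iff.1 this a ha
  set A := G ⊓ Subgroup.centralizer ({v} : Set X) with hAdef
  have hcopG : ¬ p ∣ Nat.card G := by rwa [← hGV.symm.index_eq_card]
  have hcopA : ¬ p ∣ Nat.card A := fun h => hcopG (h.trans (Subgroup.card_dvd_of_le inf_le_left))
  have hdisj : ∀ x, x ∈ V → x ∈ G → x = 1 := fun x h1 h2 =>
    Subgroup.disjoint_def.1 hGV.disjoint h1 h2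
  have hN : A ≤ Subgroup.normalizer (V : Set X) := by
    rw [Subgroup.normalizer_eq_top]; exact le_top
  obtain ⟨F, hF, hFn, f, hpf, hf1, hf0⟩ := KnorrKGV.good_of_abelian (p := p) hab hVc hVexp hcopA hN
  letI : CommGroup A :=
    { (inferInstance : Group A) with mul_comm := fun x y => Subtype.ext (hab x x.2 y y.2) }
  haveI : Finite (A →* ℂˣ) :=
    Finite.of_equiv _ (CommGroup.monoidHom_mulEquiv_of_hasEnoughRootsOfUnity A ℂ).some.symm.toEquiv
  haveI : Fintype (A →* ℂˣ) := Fintype.ofFinite _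
  haveI : Fintype A := Fintype.ofFinite _
  -- the map from `C_p × A`
  have hvp : v ^ p = 1 := hVexp v hv
  let vp : Multiplicative (ZMod p) →* X := MonoidHom.mk' (fun t => v ^ (Multiplicative.toAdd t).val)
    fun s t => by
      rw [toAdd_mul, ZMod.val_add, ← pow_add, ← pow_eq_pow_mod _ hvp]
  have hcomm : ∀ (t : Multiplicative (ZMod p)) (a : A), Commute (vp t) (A.subtype a) := fun t a =>
    (show Commute v (a : X) from (Subgroup.mem_centralizer_singleton_iff.1 a.2.2).symm).pow_left _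
  let π : Multiplicative (ZMod p) × A →* X := MonoidHom.noncommCoprod vp A.subtype hcomm
  have hπ : ∀ t a, π (t, a) = v ^ (Multiplicative.toAdd t).val * (a : X) := fun t a => rfl
  let Φ : Cfsg.IrrCharacter X → Multiplicative (ZMod p) × A → ℂ :=
    fun χ z => F z * (χ : X → ℂ) (π z)
  let θ : Cfsg.IrrCharacter X → (A →* ℂˣ) → Multiplicative (ZMod p) → ℂ :=
    fun χ l t => (Nat.card A : ℂ)⁻¹ * ∑ a : A, Φ χ (t, a) * (l a : ℂ)
  have hΦ : ∀ χ, IsGeneralizedCharacter _ (Φ χ) := fun χ => isGeneralizedCharacter_mul hF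
    (isGeneralizedCharacter_of_isCharacter (isCharacter_comap π (isCharacter_of_isIrrCharacter χ.2)))
  have hθ : ∀ χ l, IsGeneralizedCharacter _ (θ χ l) := by
    intro χ l
    rw [isGeneralizedCharacter_iff]
    refine ⟨fun g h => by rw [mul_inv_cancel_comm], fun μ => ?_⟩
    let ν : Multiplicative (ZMod p) × A → ℂ := fun z => (μ : _ → ℂ) z.1 * conj (l z.2 : ℂ)
    have hν : Cfsg.IsCharacter _ ν := by
      have h1 := isCharacter_comap (MonoidHom.fst (Multiplicative (ZMod p)) A)
        (isCharacter_of_isIrrCharacter μ.2)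
      have h2 := isCharacter_conj (isCharacter_linear
        (l.comp (MonoidHom.snd (Multiplicative (ZMod p)) A)))
      exact isCharacter_mul h1 h2
    obtain ⟨m, hm⟩ := classInner_isGeneralizedCharacter (hΦ χ) (isGeneralizedCharacter_of_isCharacter hν)
    refine ⟨m, ?_⟩
    rw [← hm]
    simp only [Cfsg.classInner, θ, ν, Fintype.sum_prod_type, Nat.card_prod, Nat.cast_mul, mul_inv,
      map_mul, Complex.conj_conj, Finset.mul_sum, Finset.sum_mul]
    refine Finset.sum_congr rfl fun t _ => Finset.sum_congr rfl fun a _ => ?_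
    ring
  have hone : ∀ a : A, V ≤ Subgroup.centralizer ({(a : X)} : Set X) → a = 1 := by
    intro a ha
    refine Subtype.ext (hdisj _ (hself ▸ ?_) a.2.1)
    exact Subgroup.mem_centralizer_iff.2 fun w hw => Subgroup.mem_centralizer_singleton_iff.1 (ha hw)
  have hlower : ∀ χ l, (p : ℝ) - 1 ≤ ∑ t ∈ Finset.univ.erase (1 : Multiplicative (ZMod p)),
      ‖θ χ l t‖ ^ 2 := by
    intro χ l
    obtain ⟨a, b, ha, hb, hab'⟩ := hθ χ l
    obtain ⟨na, hna⟩ := isCharacter_apply_one ha
    obtain ⟨nb, hnb⟩ := isCharacter_apply_one hb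
    obtain ⟨n, -, hn, hdvd⟩ := DegreeDvd.degree_dvd_index_abelian χ.2 V
      (fun x y => Subtype.ext (hVc x x.2 y y.2))
    have h1 : (Nat.card A : ℂ) * θ χ l 1 = (f : ℂ) * n := by
      simp only [θ]
      rw [← mul_assoc, mul_inv_cancel₀ (Nat.cast_ne_zero.2 Nat.card_pos.ne'), one_mul,
        Finset.sum_eq_single (1 : A)]
      · show F (1, 1) * (χ : X → ℂ) (π 1) * _ = _
        rw [map_one, map_one, hn, hf1, Units.val_one, mul_one]
      · intro a _ ha1
        simp [Φ, hf0 a fun h => ha1 (hone a h)]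
      · simp
    have h2 : θ χ l 1 = ((na : ℤ) - nb : ℤ) := by
      rw [hab', Pi.sub_apply, hna, hnb]; simp
    refine sum_norm_sq_ge (by simp) (hθ χ l) h2 fun hd => ?_
    have h3 : (Nat.card A : ℤ) * ((na : ℤ) - nb) = f * n := by
      rw [h2] at h1; exact_mod_cast h1
    rcases (Nat.prime_iff_prime_int.1 hpp).dvd_mul.1 (h3 ▸ hd.mul_left (Nat.card A : ℤ)) with h | h
    · exact hpf h
    · exact hidx ((Int.natCast_dvd_natCast.1 h).trans hdvd)
  -- centralisers
  have hcent : ∀ (t : Multiplicative (ZMod p)) (a : A), t ≠ 1 →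
      Nat.card (Subgroup.centralizer ({π (t, a)} : Set X)) ≤
        Nat.card ↥(V ⊓ Subgroup.centralizer ({(a : X)} : Set X)) * Nat.card A := by
    intro t a ht
    rw [← Nat.card_prod]
    refine le_trans ?_ (Nat.card_le_card_of_surjective
      (fun z : ↥(V ⊓ Subgroup.centralizer ({(a : X)} : Set X)) × A =>
        (⟨(z.1 : X) * z.2, z.1, z.2, rfl⟩ : {x : X // ∃ (c : ↥(V ⊓ Subgroup.centralizer ({(a : X)} : Set X)))
          (b : A), x = (c : X) * b})) ?_)
    swap
    · rintro ⟨_, c, b, rfl⟩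
      exact ⟨(c, b), rfl⟩
    refine Nat.card_le_card_of_injective (fun x => ⟨x.1, ?_⟩) fun x y h =>
      Subtype.ext (congrArg (fun z => z.1) h)
    obtain ⟨x, hx⟩ := x
    have hxm : x ∈ (Set.univ : Set X) := trivial
    obtain ⟨⟨⟨w, hw⟩, ⟨h, hh⟩⟩, hwh⟩ := (hGV.existsUnique x).exists
    change w * h = x at hwh
    subst hwh
    set k := (Multiplicative.toAdd t).val with hk
    have hwk : v ^ k ∈ V := V.pow_mem hv k
    have hx' : w * h * (v ^ k * a) = v ^ k * a * (w * h) := Subgroup.mem_centralizer_singleton_iff.1 hx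
    have e1 : w * (h * v ^ k * h⁻¹) * (h * a) = v ^ k * ((a : X) * w * (a : X)⁻¹) * (a * h) := by
      calc _ = w * h * (v ^ k * a) := by group
        _ = v ^ k * a * (w * h) := hx'
        _ = _ := by group
    have hm1 : w * (h * v ^ k * h⁻¹) ∈ V := V.mul_mem hw (Subgroup.Normal.conj_mem ‹V.Normal› _ hwk h)
    have hm2 : v ^ k * ((a : X) * w * (a : X)⁻¹) ∈ V :=
      V.mul_mem hwk (Subgroup.Normal.conj_mem ‹V.Normal› _ hw a)
    have hG1 : h * (a : X) ∈ G := G.mul_mem hh a.2.1
    have hG2 : (a : X) * h ∈ G := G.mul_mem a.2.1 hh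
    have hha : h * (a : X) = a * h := by
      have := hdisj ((v ^ k * ((a : X) * w * (a : X)⁻¹))⁻¹ * (w * (h * v ^ k * h⁻¹)))
        (V.mul_mem (V.inv_mem hm2) hm1) (by
          have e1' : (v ^ k * ((a : X) * w * (a : X)⁻¹))⁻¹ * (w * (h * v ^ k * h⁻¹)) =
              (a : X) * h * (h * a)⁻¹ :=
            inv_mul_eq_iff_eq_mul.2 ((eq_mul_inv_of_mul_eq e1).trans (mul_assoc _ _ _))
          rw [e1']
          exact G.mul_mem hG2 (G.inv_mem hG1))
      rw [inv_mul_eq_one] at this
      rw [this] at e1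
      exact mul_left_cancel e1
    rw [hha] at e1
    have e2 := mul_right_cancel e1
    -- `y` is fixed by `a` and of order prime to `|A|`
    set y := w⁻¹ * ((a : X) * w * (a : X)⁻¹) with hy
    have hy2 : y = (v ^ k)⁻¹ * (h * v ^ k * h⁻¹) := by
      have hva : (v ^ k)⁻¹ * w⁻¹ = w⁻¹ * (v ^ k)⁻¹ := hVc _ (V.inv_mem hwk) _ (V.inv_mem hw)
      calc y = w⁻¹ * (v ^ k)⁻¹ * (v ^ k * ((a : X) * w * (a : X)⁻¹)) := by rw [hy]; group
        _ = w⁻¹ * (v ^ k)⁻¹ * (w * (h * v ^ k * h⁻¹)) := by rw [e2]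
        _ = _ := by rw [← hva]; group
    have hva : Commute (a : X) (v ^ k) :=
      (show Commute (a : X) v from Subgroup.mem_centralizer_singleton_iff.1 a.2.2).pow_right k
    have hay : Commute (a : X) y := by
      rw [hy2]
      exact hva.inv_right.mul_right (((show Commute (a : X) h from hha.symm).mul_right hva).mul_right
        (show Commute (a : X) h from hha.symm).inv_right)
    have hyV : y ∈ V := V.mul_mem (V.inv_mem hw) (Subgroup.Normal.conj_mem ‹V.Normal› _ hw a)
    have hit : ∀ i : ℕ, (a : X) ^ i * w * ((a : X) ^ i)⁻¹ = w * y ^ i := by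
      intro i
      induction i with
      | zero => simp
      | succ i ih =>
        calc (a : X) ^ (i + 1) * w * ((a : X) ^ (i + 1))⁻¹
            = (a : X) * ((a : X) ^ i * w * ((a : X) ^ i)⁻¹) * (a : X)⁻¹ := by
              rw [pow_succ']; group
          _ = (a : X) * w * ((a : X)⁻¹ * ((a : X) * y ^ i)) * (a : X)⁻¹ := by rw [ih]; group
          _ = (a : X) * w * (a : X)⁻¹ * y ^ i := by rw [(hay.pow_right i).eq]; group
          _ = w * y * y ^ i := by rw [hy]; group
          _ = _ := by rw [pow_succ', mul_assoc]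
    have hy1 : y = 1 := by
      have h1 := hit (orderOf (a : X))
      rw [pow_orderOf_eq_one, inv_one, mul_one, one_mul, left_eq_mul] at h1
      have h2 : orderOf y ∣ Nat.gcd (orderOf (a : X)) p := Nat.dvd_gcd
        (orderOf_dvd_of_pow_eq_one h1) (orderOf_dvd_of_pow_eq_one (hVexp y hyV))
      have h3 : Nat.gcd (orderOf (a : X)) p = 1 :=
        ((hpp.coprime_iff_not_dvd).2 fun hd => hcopA (hd.trans
          (by rw [Subgroup.orderOf_coe]; exact orderOf_dvd_natCard a))).symm
      rw [h3, Nat.dvd_one, orderOf_eq_one_iff] at h2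
      exact h2
    have hwC : w ∈ Subgroup.centralizer ({(a : X)} : Set X) := by
      rw [hy1, eq_comm, inv_mul_eq_one] at hy
      exact Subgroup.mem_centralizer_singleton_iff.2 (eq_mul_inv_iff_mul_eq.1 hy)
    have hhv : h ∈ Subgroup.centralizer ({v} : Set X) := by
      rw [hy1, eq_comm, inv_mul_eq_one] at hy2
      have hcv : Commute h (v ^ k) := (eq_mul_inv_iff_mul_eq.1 hy2).symm
      have hk0 : ¬ p ∣ k := fun hd => ht (by
        rw [hk] at hd
        exact Multiplicative.toAdd.injective ((ZMod.val_eq_zero _).1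
          (Nat.eq_zero_of_dvd_of_lt hd (ZMod.val_lt _))))
      obtain ⟨i, j, hij⟩ : IsCoprime (p : ℤ) (k : ℤ) :=
        (Nat.prime_iff_prime_int.1 hpp).coprime_iff_not_dvd.2 (by exact_mod_cast hk0)
      have hvk : v = (v ^ k) ^ j := by
        conv_lhs => rw [← zpow_one v, ← hij, zpow_add, mul_comm i, zpow_mul, zpow_natCast, hvp,
          one_zpow, one_mul, mul_comm j, zpow_mul, zpow_natCast]
      refine Subgroup.mem_centralizer_singleton_iff.2 ?_
      rw [hvk]
      exact (hcv.zpow_right j).eq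
    exact ⟨⟨w, hw, hwC⟩, ⟨h, hh, hhv⟩, rfl⟩
  -- counting
  set T := Finset.univ.erase (1 : Multiplicative (ZMod p)) with hT
  have hp1 : (0 : ℝ) < (p : ℝ) - 1 := by
    have : (1 : ℝ) < p := by exact_mod_cast hpp.one_lt
    linarith
  have hupper : ∀ t ∈ T, ∑ χ : Cfsg.IrrCharacter X, ∑ l : A →* ℂˣ, ‖θ χ l t‖ ^ 2 ≤
      (Nat.card V : ℝ) * Nat.card A := by
    intro t ht
    have hA0 : (0 : ℝ) < Nat.card A := by exact_mod_cast Nat.card_pos
    have h1 : ∀ χ : Cfsg.IrrCharacter X, ∑ l : A →* ℂˣ, ‖θ χ l t‖ ^ 2 =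
        (Nat.card A : ℝ)⁻¹ * ∑ a : A, ‖F (t, a)‖ ^ 2 * ‖(χ : X → ℂ) (π (t, a))‖ ^ 2 := by
      intro χ
      simp only [θ, norm_mul, norm_inv, Complex.norm_natCast, mul_pow, ← Finset.mul_sum,
        sum_dual_norm_sq, Φ]
      field_simp
    simp only [h1]
    rw [← Finset.mul_sum, Finset.sum_comm]
    have h2 : ∀ a : A, ∑ χ : Cfsg.IrrCharacter X, ‖F (t, a)‖ ^ 2 * ‖(χ : X → ℂ) (π (t, a))‖ ^ 2 ≤
        (Nat.card V : ℝ) * Nat.card A := by
      intro a
      rw [← Finset.mul_sum]
      have h3 : ∑ χ : Cfsg.IrrCharacter X, ‖(χ : X → ℂ) (π (t, a))‖ ^ 2 =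
          (Nat.card (Subgroup.centralizer ({π (t, a)} : Set X)) : ℝ) := by
        apply Complex.ofReal_injective
        push_cast
        rw [← (sum_irr_mul_conj (π (t, a)) (π (t, a))).trans (if_pos (IsConj.refl _))]
        simp only [Complex.mul_conj']
      rw [h3, ← hFn t a (Finset.mem_erase.1 ht).1, mul_assoc]
      refine mul_le_mul_of_nonneg_left ?_ (sq_nonneg _)
      exact_mod_cast hcent t a (Finset.mem_erase.1 ht).1
    calc _ ≤ (Nat.card A : ℝ)⁻¹ * ∑ _a : A, (Nat.card V : ℝ) * Nat.card A :=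
          mul_le_mul_of_nonneg_left (Finset.sum_le_sum fun a _ => h2 a) (inv_nonneg.2 hA0.le)
      _ = _ := by
        rw [Finset.sum_const, Finset.card_univ, ← Nat.card_eq_fintype_card, nsmul_eq_mul,
          ← mul_assoc, inv_mul_cancel₀ hA0.ne', one_mul]
  have htot : ∑ _χ : Cfsg.IrrCharacter X, ∑ _l : A →* ℂˣ, ((p : ℝ) - 1) ≤
      ∑ _t ∈ T, (Nat.card V : ℝ) * Nat.card A := by
    calc _ ≤ ∑ χ : Cfsg.IrrCharacter X, ∑ l : A →* ℂˣ, ∑ t ∈ T, ‖θ χ l t‖ ^ 2 :=
          Finset.sum_le_sum fun χ _ => Finset.sum_le_sum fun l _ => hlower χ l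
      _ = ∑ t ∈ T, ∑ χ : Cfsg.IrrCharacter X, ∑ l : A →* ℂˣ, ‖θ χ l t‖ ^ 2 := by
          rw [Finset.sum_congr rfl fun χ _ => Finset.sum_comm, Finset.sum_comm]
      _ ≤ _ := Finset.sum_le_sum hupper
  simp only [Finset.sum_const, Finset.card_univ, nsmul_eq_mul, ← Nat.card_eq_fintype_card,
    card_irrCharacter, CommGroup.card_monoidHom_of_hasEnoughRootsOfUnity] at htot
  rw [hT, Finset.card_erase_of_mem (Finset.mem_univ _), Finset.card_univ, ← Nat.card_eq_fintype_card,
    Nat.card_congr Multiplicative.toAdd, Nat.card_zmod, Nat.cast_sub hpp.one_lt.le,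
    Nat.cast_one] at htot
  have hA0 : (0 : ℝ) < Nat.card A := by exact_mod_cast Nat.card_pos
  have hfin : (Nat.card (ConjClasses X) : ℝ) * ((Nat.card A : ℝ) * ((p : ℝ) - 1)) ≤
      (Nat.card V : ℝ) * ((Nat.card A : ℝ) * ((p : ℝ) - 1)) := htot.trans (le_of_eq (by ring))
  exact_mod_cast le_of_mul_le_mul_right hfin (mul_pos hA0 hp1)

end Cfsg.Agent.S4958
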