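import Cfsg.Statements.S3430
import Mathlib
import Cfsg.Agent.S2904

set_option autoImplicit false
open Cfsg

namespace Cfsg.Agent.S3430

open Polynomial Finset

theorem ineq_one : ∀ r : ℕ, 11 ≤ r → r * (2 * r + 1) < 2 ^ (r - 2) := by
  intro r hr
  induction r, hr using Nat.le_induction with
  | base => norm_num
  | succ m hm ih =>
    rw [show m + 1 - 2 = (m - 2) + 1 by omega, pow_succ]; nlinarith

theorem ineq_two : ∀ r : ℕ, 7 ≤ r → r * (2 * r * 4 + 1) < (2 ^ (r - 2)) ^ 2 := by
  intro r hr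
  induction r, hr using Nat.le_induction with
  | base => norm_num
  | succ m hm ih =>
    rw [show m + 1 - 2 = (m - 2) + 1 by omega, pow_succ' 2 (m - 2), mul_pow]; nlinarith

theorem ineq_three : ∀ r : ℕ, 5 ≤ r → r * (2 * r * 9 + 1) < (2 ^ (r - 2)) ^ 3 := by
  intro r hr
  induction r, hr using Nat.le_induction with
  | base => norm_num
  | succ m hm ih =>
    rw [show m + 1 - 2 = (m - 2) + 1 by omega, pow_succ' 2 (m - 2), mul_pow]; nlinarith

theorem ineq_gen (r : ℕ) (hr : 5 ≤ r) : ∀ u, 3 ≤ u → r * (2 * r * u ^ 2 + 1) < (2 ^ (r - 2)) ^ u := by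
  intro u hu
  induction u, hu using Nat.le_induction with
  | base => simpa using ineq_three r hr
  | succ m hm ih =>
    have h8 : 8 ≤ 2 ^ (r - 2) := le_trans (by norm_num : 8 ≤ 2 ^ 3)
      (Nat.pow_le_pow_right (by norm_num) (by omega))
    rw [pow_succ (2 ^ (r - 2)) m]
    have h1 : (2 ^ (r - 2)) ^ m * 8 ≤ (2 ^ (r - 2)) ^ m * 2 ^ (r - 2) := Nat.mul_le_mul_left _ h8
    have h2 : (m + 1) ^ 2 ≤ 4 * m ^ 2 := by nlinarith
    nlinarith [Nat.mul_le_mul_left (r * (2 * r)) h2]

theorem primes_prod_le : ∀ S : Finset ℕ, (∀ p ∈ S, p.Prime) →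
    ∏ p ∈ S, p ≤ (if 2 ∈ S then 2 else 1) * (∏ p ∈ S, (p - 1)) ^ 2 := by
  intro S
  induction S using Finset.induction_on with
  | empty => simp
  | insert a S ha ih =>
    intro hp
    have hi := ih fun p h => hp p (mem_insert_of_mem h)
    have hpa := hp a (mem_insert_self a S)
    rw [prod_insert ha, prod_insert ha, mul_pow]
    rcases hpa.eq_two_or_odd with rfl | hodd
    · rw [if_neg ha] at hi
      rw [if_pos (mem_insert_self 2 S)]
      norm_num
      simpa using hi
    · have h2 : (2 ∈ insert a S ↔ 2 ∈ S) := by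
        rw [mem_insert]; exact or_iff_right fun h => by omega
      rw [if_congr h2 rfl rfl]
      have h3 : a ≤ (a - 1) ^ 2 := by
        obtain ⟨b, rfl⟩ : ∃ b, a = b + 3 := ⟨a - 3, by have := hpa.two_le; omega⟩
        simp; nlinarith
      calc a * ∏ p ∈ S, p ≤ (a - 1) ^ 2 * ((if 2 ∈ S then 2 else 1) * (∏ p ∈ S, (p - 1)) ^ 2) :=
            Nat.mul_le_mul h3 hi
        _ = _ := by ring

theorem eval_cyclotomic_mul (x : ℤ) : ∀ s d : ℕ, s ≠ 0 → (∀ p, p.Prime → p ∣ s → p ∣ d) →
    (cyclotomic (d * s) ℤ).eval x = (cyclotomic d ℤ).eval (x ^ s) := by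
  intro s
  induction s using Nat.strong_induction_on with
  | _ s IH =>
    intro d hs hp
    by_cases h1 : s = 1
    · simp [h1]
    obtain ⟨p, hpp, hps⟩ := Nat.exists_prime_and_dvd h1
    obtain ⟨s', rfl⟩ := hps
    have hs' : s' ≠ 0 := fun h => hs (by simp [h])
    have hlt : s' < p * s' := lt_mul_of_one_lt_left (Nat.pos_of_ne_zero hs') hpp.one_lt
    have hpd : p ∣ d := hp p hpp (dvd_mul_right p s')
    rw [show d * (p * s') = d * p * s' by ring, IH s' hlt (d * p) hs'
      (fun q hq hqs => dvd_mul_of_dvd_left (hp q hq (dvd_mul_of_dvd_right hqs p)) p),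
      ← cyclotomic_expand_eq_cyclotomic hpp hpd ℤ, expand_eval, ← pow_mul, mul_comm s' p]

theorem cyclotomic_lower (a m r : ℕ) (ha : 2 ≤ a) (hr : r.Prime) (hrm : ¬ r ∣ m) :
    ((a ^ (r - 2) * (a - 1) : ℕ) : ℝ) ^ m.totient ≤ (cyclotomic (m * r) ℝ).eval (a : ℝ) := by
  have hexp := congrArg (eval (a : ℝ)) (cyclotomic_expand_eq_cyclotomic_mul hr hrm ℝ)
  rw [expand_eval, eval_mul] at hexp
  have ha' : (1 : ℝ) < a := by exact_mod_cast (show 1 < a by omega)
  have ha'' : (1 : ℝ) < (a : ℝ) ^ r := one_lt_pow₀ ha' hr.ne_zero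
  have hlo := sub_one_pow_totient_le_cyclotomic_eval ha'' m
  have hhi := cyclotomic_eval_le_add_one_pow_totient ha' m
  have hX : 0 ≤ (cyclotomic (m * r) ℝ).eval (a : ℝ) := (cyclotomic_pos' _ ha').le
  have hk : ((a ^ (r - 2) * (a - 1) : ℕ) : ℝ) * ((a : ℝ) + 1) ≤ (a : ℝ) ^ r - 1 := by
    push_cast [Nat.cast_sub (show 1 ≤ a by omega)]
    have h1 : (a : ℝ) ^ r = (a : ℝ) ^ (r - 2) * (a : ℝ) ^ 2 := by
      rw [← pow_add]; congr 1; have := hr.two_le; omega
    have h2 : (1 : ℝ) ≤ (a : ℝ) ^ (r - 2) := one_le_pow₀ ha'.le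
    nlinarith
  have h1 : (((a ^ (r - 2) * (a - 1) : ℕ) : ℝ)) ^ m.totient * ((a : ℝ) + 1) ^ m.totient ≤
      (cyclotomic (m * r) ℝ).eval (a : ℝ) * ((a : ℝ) + 1) ^ m.totient := by
    rw [← mul_pow]
    calc _ ≤ ((a : ℝ) ^ r - 1) ^ m.totient := pow_le_pow_left₀ (by positivity) hk _
      _ ≤ _ := hlo
      _ = _ := hexp
      _ ≤ _ := mul_le_mul_of_nonneg_left hhi hX
  exact le_of_mul_le_mul_right h1 (by positivity)

/-- A prime dividing `q ^ n - 1` primitively is at least `n + 1`. -/
theorem le_primitive {q n p : ℕ} (hq : 1 ≤ q) (hn : 2 ≤ n) (hp : p.Prime) (h : p ∣ q ^ n - 1)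
    (hprim : ∀ i, 1 ≤ i → i < n → ¬ p ∣ q ^ i - 1) : n + 1 ≤ p := by
  haveI := Fact.mk hp
  have hiff : ∀ i, p ∣ q ^ i - 1 ↔ ((q : ZMod p)) ^ i = 1 := fun i => by
    rw [← ZMod.natCast_eq_zero_iff, Nat.cast_sub (Nat.one_le_pow _ _ hq), Nat.cast_pow, Nat.cast_one,
      sub_eq_zero]
  have hne : (q : ZMod p) ≠ 0 := fun h0 => by
    have := (hiff n).1 h
    rw [h0, zero_pow (by omega)] at this
    exact zero_ne_one this
  have h1 := ZMod.pow_card_sub_one_eq_one hne
  by_contra hlt
  refine hprim (p - 1) (by have := hp.two_le; omega) (by omega) ((hiff _).2 h1)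

theorem main_ineq {q n : ℕ} (hq : 2 ≤ q) (hn3 : 3 ≤ n) (heven : 2 ∣ n)
    (h2 : ¬ (q = 2 ∧ (n = 4 ∨ n = 6 ∨ n = 10 ∨ n = 12 ∨ n = 18)))
    (h3 : ¬ (q = 3 ∧ (n = 4 ∨ n = 6))) (h4 : ¬ (q = 5 ∧ n = 6))
    (hE : ¬ (q = 2 ∧ (n = 14 ∨ n = 30))) (hE' : ¬ (q = 3 ∧ n = 10)) (hnp : (n + 1).Prime)
    {r : ℕ} (hr : r ∈ n.primeFactors) (hmax : ∀ p ∈ n.primeFactors, p ≤ r) :
    ¬ (cyclotomic n ℤ).eval (q : ℤ) ∣ ((r * (n + 1) : ℕ) : ℤ) := by
  intro hdvd
  obtain ⟨hrp, hrn, -⟩ := Nat.mem_primeFactors.1 hr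
  set m := ∏ p ∈ n.primeFactors.erase r, p with hm
  have hrad : m * r = ∏ p ∈ n.primeFactors, p := by
    rw [hm, mul_comm, Finset.mul_prod_erase _ (fun p => p) hr]
  obtain ⟨s, hs⟩ := Nat.prod_primeFactors_dvd n
  rw [← hrad] at hs
  have hs0 : s ≠ 0 := by rintro rfl; simp at hs; omega
  have hm0 : m ≠ 0 := by intro h; rw [h] at hs; simp at hs; omega
  have hrm : ¬ r ∣ m := by
    rw [hm, hrp.prime.dvd_finset_prod_iff]
    rintro ⟨p, hp, hd⟩
    obtain ⟨hne, hp⟩ := Finset.mem_erase.1 hp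
    exact hne ((Nat.prime_dvd_prime_iff_eq hrp (Nat.mem_primeFactors.1 hp).1).1 hd).symm
  have hev : (cyclotomic n ℤ).eval (q : ℤ) = (cyclotomic (m * r) ℤ).eval ((q : ℤ) ^ s) := by
    rw [← eval_cyclotomic_mul _ s (m * r) hs0, ← hs]
    intro p hp hps
    rw [hrad]
    exact Finset.dvd_prod_of_mem _ (Nat.mem_primeFactors.2 ⟨hp, hs ▸ dvd_mul_of_dvd_right hps _, by omega⟩)
  set a := q ^ s with ha
  have ha2 : 2 ≤ a := le_trans hq (Nat.le_self_pow hs0 q)
  rcases Nat.lt_or_ge r 5 with hr5 | hr5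
  · have hr23 : r = 2 ∨ r = 3 := by
      have := hrp.two_le
      interval_cases r <;> first | decide | norm_num at hrp
    have h2mem : 2 ∈ n.primeFactors := Nat.mem_primeFactors.2 ⟨Nat.prime_two, heven, by omega⟩
    rcases hr23 with rfl | rfl
    · have hpf : n.primeFactors.erase 2 = ∅ := by
        rw [Finset.eq_empty_iff_forall_notMem]
        intro p hp
        obtain ⟨hne, hp⟩ := Finset.mem_erase.1 hp
        have := hmax p hp
        have := (Nat.mem_primeFactors.1 hp).1.two_le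
        omega
      rw [hpf, Finset.prod_empty] at hm
      rw [hm] at hs hev
      rw [hev, one_mul, cyclotomic_two] at hdvd
      simp only [eval_add, eval_X, eval_one] at hdvd
      have hd : a + 1 ∣ 2 * (n + 1) := by
        rw [← Int.natCast_dvd_natCast]; push_cast [ha] at hdvd ⊢; exact hdvd
      have hle := Nat.le_of_dvd (by omega) hd
      subst hs
      rcases Nat.lt_or_ge s 8 with h8 | h8
      · have hq4 : s = 2 → q ≤ 3 := by
          rintro rfl
          by_contra hq4
          have : 16 ≤ q ^ 2 := by nlinarith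
          omega
        have hodd' : ∀ p : ℕ, p.Prime → 2 < p → ¬ p ∣ 1 * 2 * s := fun p hp h2p hpd => by
          have := hmax p (Nat.mem_primeFactors.2 ⟨hp, hpd, by omega⟩)
          omega
        have hs1 : 1 ≤ s := by omega
        interval_cases s
        · omega
        · have := hq4 rfl
          interval_cases q
          · exact h2 ⟨rfl, Or.inl rfl⟩
          · exact h3 ⟨rfl, Or.inl rfl⟩
        · exact hodd' 3 (by norm_num) (by norm_num) (by norm_num)
        · norm_num at hnp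
        · exact hodd' 5 (by norm_num) (by norm_num) (by norm_num)
        · exact hodd' 3 (by norm_num) (by norm_num) (by norm_num)
        · norm_num at hnp
      · have h1 : 2 ^ s ≤ a := Nat.pow_le_pow_left hq s
        have h5 : ∀ t, 8 ≤ t → 4 * t + 2 < 2 ^ t := by
          intro t ht
          induction t, ht using Nat.le_induction with
          | base => norm_num
          | succ k hk ih => rw [pow_succ]; omega
        have := h5 s h8
        omega
    · have hpf : n.primeFactors.erase 3 = {2} := by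
        ext p
        rw [Finset.mem_erase, Finset.mem_singleton]
        refine ⟨fun ⟨hne, hp⟩ => ?_, fun h => ⟨by omega, h ▸ h2mem⟩⟩
        have := hmax p hp
        have := (Nat.mem_primeFactors.1 hp).1.two_le
        omega
      rw [hpf, Finset.prod_singleton] at hm
      rw [hm] at hs hev
      rw [hev, show (2 : ℕ) * 3 = 6 from rfl, cyclotomic_six] at hdvd
      simp only [eval_add, eval_sub, eval_pow, eval_X, eval_one] at hdvd
      have hd : a * (a - 1) + 1 ∣ 3 * (n + 1) := by
        rw [← Int.natCast_dvd_natCast]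
        rw [Nat.cast_add, Nat.cast_mul, Nat.cast_sub (show 1 ≤ a by omega)]
        push_cast [ha] at hdvd ⊢
        convert hdvd using 1
        ring
      have hle := Nat.le_of_dvd (by omega) hd
      subst hs
      rcases Nat.lt_or_ge s 4 with h8 | h8
      · have hs1 : 1 ≤ s := by omega
        interval_cases s
        · have : q ≤ 5 := by
            by_contra hq6
            have : 30 ≤ a * (a - 1) := by
              simp only [ha, pow_one] at *
              exact le_trans (by norm_num) (Nat.mul_le_mul (show 6 ≤ q by omega) (show 5 ≤ q - 1 by omega))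
            omega
          interval_cases q
          · exact h2 ⟨rfl, Or.inr (Or.inl rfl)⟩
          · exact h3 ⟨rfl, Or.inr rfl⟩
          · norm_num [ha] at hd
          · exact h4 ⟨rfl, rfl⟩
        · have : q ≤ 2 := by
            by_contra hq6
            have h9 : 9 ≤ a := by rw [ha]; nlinarith
            have : 72 ≤ a * (a - 1) := le_trans (by norm_num) (Nat.mul_le_mul h9 (show 8 ≤ a - 1 by omega))
            omega
          interval_cases q
          norm_num at h2
        · have : q ≤ 2 := by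
            by_contra hq6
            have h9 : 27 ≤ a := by
              rw [ha]; exact le_trans (by norm_num) (Nat.pow_le_pow_left (show 3 ≤ q by omega) 3)
            have : 27 * 26 ≤ a * (a - 1) := Nat.mul_le_mul h9 (show 26 ≤ a - 1 by omega)
            omega
          interval_cases q
          norm_num at h2
      · have h1 : 2 ^ s ≤ a := Nat.pow_le_pow_left hq s
        have h5 : ∀ t, 4 ≤ t → 18 * t + 3 < 2 ^ t * (2 ^ t - 1) := by
          intro t ht
          induction t, ht using Nat.le_induction with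
          | base => norm_num
          | succ k hk ih =>
            have h16 : 16 ≤ 2 ^ k := le_trans (by norm_num : 16 ≤ 2 ^ 4) (Nat.pow_le_pow_right (by norm_num) hk)
            have hstep : 4 * (2 ^ k * (2 ^ k - 1)) ≤ 2 ^ (k + 1) * (2 ^ (k + 1) - 1) := by
              rw [pow_succ, show 4 * (2 ^ k * (2 ^ k - 1)) = 2 ^ k * 2 * (2 * (2 ^ k - 1)) by ring]
              exact Nat.mul_le_mul_left _ (by omega)
            omega
        have := h5 s h8
        have h6 : 2 ^ s * (2 ^ s - 1) ≤ a * (a - 1) := Nat.mul_le_mul h1 (by omega)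
        omega
  -- the general case
  have h2m : 2 ∈ n.primeFactors.erase r :=
    Finset.mem_erase.2 ⟨by omega, Nat.mem_primeFactors.2 ⟨Nat.prime_two, heven, by omega⟩⟩
  have hprimes : ∀ p ∈ n.primeFactors.erase r, p.Prime := fun p hp =>
    (Nat.mem_primeFactors.1 (Finset.mem_of_mem_erase hp)).1
  set t := m.totient with ht
  have htprod : t = ∏ p ∈ n.primeFactors.erase r, (p - 1) := by
    rw [ht, Nat.totient_eq_div_primeFactors_mul, hm, Nat.primeFactors_prod hprimes,
      Nat.div_self (Finset.prod_pos fun p hp => (hprimes p hp).pos), one_mul]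
  have hmt : m ≤ 2 * t ^ 2 := by
    have := primes_prod_le _ hprimes
    rwa [if_pos h2m, ← hm, ← htprod] at this
  have ht0 : 0 < t := Nat.totient_pos.2 (Nat.pos_of_ne_zero hm0)
  have hlow : (a ^ (r - 2) * (a - 1)) ^ t ≤ r * (n + 1) := by
    have h1 := cyclotomic_lower a m r ha2 hrp hrm
    have h2' := S2904.castReal (m * r) ((q : ℤ) ^ s)
    have hle : (cyclotomic n ℤ).eval (q : ℤ) ≤ ((r * (n + 1) : ℕ) : ℤ) :=
      Int.le_of_dvd (by positivity) hdvd
    rw [hev] at hle
    have h3' : (((cyclotomic (m * r) ℤ).eval ((q : ℤ) ^ s) : ℤ) : ℝ) ≤ ((r * (n + 1) : ℕ) : ℝ) := by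
      exact_mod_cast hle
    rw [h2'] at h3'
    push_cast [ha] at h1 h3' ⊢
    exact_mod_cast h1.trans h3'
  have hn_le : n + 1 ≤ 2 * r * s * t ^ 2 + 1 := by
    rw [hs]; nlinarith [Nat.mul_le_mul_right (r * s) hmt]
  set u := s * t with hu
  have hu0 : 0 < u := Nat.mul_pos (Nat.pos_of_ne_zero hs0) ht0
  have hrhs : r * (n + 1) ≤ r * (2 * r * u ^ 2 + 1) := by
    refine Nat.mul_le_mul_left r (hn_le.trans ?_)
    have : s ≤ s ^ 2 := Nat.le_self_pow two_ne_zero s
    rw [hu, mul_pow]
    nlinarith [Nat.mul_le_mul_left (2 * r) (Nat.mul_le_mul_right (t ^ 2) this)]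
  have hpow : q ^ ((r - 2) * u) * (a - 1) ^ t ≤ r * (2 * r * u ^ 2 + 1) := by
    refine le_trans (le_of_eq ?_) (hlow.trans hrhs)
    rw [mul_pow, ha, ← pow_mul, ← pow_mul, hu]
    congr 2
    ring
  have hA : (2 ^ (r - 2)) ^ u ≤ q ^ ((r - 2) * u) := by
    rw [← pow_mul]; exact Nat.pow_le_pow_left hq _
  have hB : 1 ≤ (a - 1) ^ t := Nat.one_le_pow _ _ (by omega)
  have hC : (2 ^ (r - 2)) ^ u ≤ r * (2 * r * u ^ 2 + 1) :=
    le_trans (by simpa using Nat.mul_le_mul hA hB) hpow
  rcases Nat.lt_or_ge u 3 with hu3 | hu3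
  swap
  · exact absurd hC (not_le.2 (ineq_gen r hr5 u hu3))
  rcases Nat.lt_or_ge r 7 with hr7 | hr7
  · have hr5' : r = 5 := by interval_cases r; · rfl
                            · norm_num at hrp
    subst hr5'
    have hpf : ∀ p ∈ n.primeFactors.erase 5, p = 2 ∨ p = 3 := fun p hp => by
      have := hmax p (Finset.mem_of_mem_erase hp)
      have h5 := (Finset.mem_erase.1 hp).1
      have h0 := hprimes p hp
      have := h0.two_le
      interval_cases p <;> first | omega | (norm_num at h0)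
    by_cases h3m : 3 ∈ n.primeFactors.erase 5
    · have hS : n.primeFactors.erase 5 = {2, 3} := by
        ext p
        simp only [Finset.mem_insert, Finset.mem_singleton]
        exact ⟨hpf p, by rintro (rfl | rfl) <;> assumption⟩
      rw [hS] at hm htprod
      norm_num at hm htprod
      have hs1 : s = 1 := by
        rw [hu, htprod] at hu3; omega
      rw [hm, hs1] at hs
      norm_num at hs
      have hq2 : q = 2 := by
        by_contra hq2
        have h3q : 3 ≤ q := by omega
        rw [hu, hs1, htprod, ha, hs1] at hpow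
        norm_num at hpow
        nlinarith [Nat.pow_le_pow_left h3q 6, Nat.one_le_pow 2 (q - 1) (by omega)]
      exact hE ⟨hq2, Or.inr hs⟩
    · have hS : n.primeFactors.erase 5 = {2} := by
        ext p
        simp only [Finset.mem_singleton]
        exact ⟨fun h => (hpf p h).resolve_right (fun e => h3m (e ▸ h)), fun h => h ▸ h2m⟩
      rw [hS] at hm htprod
      norm_num at hm htprod
      rw [hm] at hs
      rw [htprod] at hlow
      norm_num at hs hlow
      rw [hu, htprod, mul_one] at hu3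
      have hs1 : 1 ≤ s := by omega
      interval_cases s
      · have hq4 : q ≤ 3 := by
          by_contra hq4
          simp only [ha, pow_one] at hlow
          have := Nat.mul_le_mul (Nat.pow_le_pow_left (show 4 ≤ q by omega) 3) (show 3 ≤ q - 1 by omega)
          omega
        interval_cases q
        · exact h2 ⟨rfl, by omega⟩
        · exact hE' ⟨rfl, by omega⟩
      · have h4a : 4 ≤ a := by rw [ha]; nlinarith
        have := Nat.mul_le_mul (Nat.pow_le_pow_left h4a 3) (show 3 ≤ a - 1 by omega)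
        omega
  · have hu1 : 1 ≤ u := hu0
    interval_cases u
    · rcases Nat.lt_or_ge r 11 with hr11 | hr11
      · have hr7' : r = 7 := by interval_cases r <;> first | rfl | norm_num at hrp
        subst hr7'
        have hs1 : s = 1 := Nat.eq_one_of_mul_eq_one_right hu.symm
        have ht1 : t = 1 := Nat.eq_one_of_mul_eq_one_left hu.symm
        have hm2 : m = 2 := by
          rw [ht1] at hmt
          have : 2 ∣ m := hm ▸ Finset.dvd_prod_of_mem _ h2m
          omega
        rw [hm2, hs1] at hs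
        rw [hs] at hnp
        norm_num at hnp
      · exact absurd hC (by simpa using ineq_one r hr11)
    · exact absurd hC (not_le.2 (by simpa using ineq_two r hr7))


/-- Let q, n ≥ 2 be integers. Unless (n = 2 and q + 1 = 2^s·3^t for some s ≥ 0 and t ≤ 1), or (q = 2 and n ∈ {4, 6, 10, 12, 18}), or (q = 3 and n ∈ {4, 6}), or (q, n) = (5, 6), there is a prime p dividing q^n − 1 but no q^i − 1 with 1 ≤ i < n (a primitive prime divisor), such that p > n + 1 or p² divides q^n − 1. -/
theorem result (q n : ℕ) (hq : 2 ≤ q) (hn : 2 ≤ n)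
    (h1 : ¬ (n = 2 ∧ ∃ s t : ℕ, t ≤ 1 ∧ q + 1 = 2 ^ s * 3 ^ t))
    (h2 : ¬ (q = 2 ∧ (n = 4 ∨ n = 6 ∨ n = 10 ∨ n = 12 ∨ n = 18)))
    (h3 : ¬ (q = 3 ∧ (n = 4 ∨ n = 6))) (h4 : ¬ (q = 5 ∧ n = 6)) :
    ∃ p : ℕ, p.Prime ∧ p ∣ q ^ n - 1 ∧ (∀ i : ℕ, 1 ≤ i → i < n → ¬ p ∣ q ^ i - 1) ∧ (n + 1 < p ∨ p ^ 2 ∣ q ^ n - 1) := by
  classical
  by_contra hcon
  push Not at hcon
  rcases Nat.lt_or_ge n 3 with hn3 | hn3
  · obtain rfl : n = 2 := by omega
    apply h1
    refine ⟨rfl, (q + 1).factorization 2, (q + 1).factorization 3, ?_, ?_⟩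
    · by_contra hc
      have h9 : 3 ^ 2 ∣ q + 1 :=
        (pow_dvd_pow 3 (show 2 ≤ (q + 1).factorization 3 by omega)).trans (Nat.ordProj_dvd _ _)
      have hd : q + 1 ∣ q ^ 2 - 1 := ⟨q - 1, by simpa using Nat.sq_sub_sq q 1⟩
      refine absurd (h9.trans hd) ((hcon 3 Nat.prime_three ((dvd_pow_self 3 two_ne_zero).trans (h9.trans hd)) ?_).2)
      intro i hi1 hi2 h3
      obtain rfl : i = 1 := by omega
      have h3' := Nat.dvd_sub ((dvd_pow_self 3 two_ne_zero).trans h9) (by simpa using h3 : 3 ∣ q - 1)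
      rw [show q + 1 - (q - 1) = 2 by omega] at h3'
      norm_num at h3'
    · have hsub : (q + 1).primeFactors ⊆ {2, 3} := by
        intro p hp
        obtain ⟨hpp, hpd, -⟩ := Nat.mem_primeFactors.1 hp
        rw [Finset.mem_insert, Finset.mem_singleton]
        by_contra hne
        push Not at hne
        have hd : q + 1 ∣ q ^ 2 - 1 := ⟨q - 1, by simpa using Nat.sq_sub_sq q 1⟩
        have h5 := (hcon p hpp (hpd.trans hd) (fun i hi1 hi2 h3 => ?_)).1
        · have := hpp.two_le
          omega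
        · obtain rfl : i = 1 := by omega
          have h3' := Nat.dvd_sub hpd (by simpa using h3 : p ∣ q - 1)
          rw [show q + 1 - (q - 1) = 2 by omega] at h3'
          exact hne.1 ((Nat.prime_dvd_prime_iff_eq hpp Nat.prime_two).1 h3')
      conv_lhs => rw [← Nat.prod_factorization_pow_eq_self (show q + 1 ≠ 0 by omega)]
      rw [Finsupp.prod, Nat.support_factorization,
        Finset.prod_subset hsub fun x _ hx => by
          rw [Finsupp.notMem_support_iff.1 (by simpa using hx), pow_zero],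
        Finset.prod_pair (by norm_num)]
  -- the exceptional small cases
  have hgood : ∀ p : ℕ, p.Prime → n + 1 < p → p ∣ q ^ n - 1 →
      (∀ i ∈ Finset.Ico 1 n, ¬ p ∣ q ^ i - 1) → False := fun p hp h1 h2 h3 => by
    have := (hcon p hp h2 fun i a b => h3 i (Finset.mem_Ico.2 ⟨a, b⟩)).1
    omega
  by_cases hE : q = 2 ∧ (n = 14 ∨ n = 30)
  · obtain ⟨rfl, rfl | rfl⟩ := hE
    · exact hgood 43 (by norm_num) (by norm_num) (by norm_num) (by decide)
    · exact hgood 331 (by norm_num) (by norm_num) (by norm_num) (by decide +kernel)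
  by_cases hE' : q = 3 ∧ n = 10
  · obtain ⟨rfl, rfl⟩ := hE'
    exact hgood 61 (by norm_num) (by norm_num) (by norm_num) (by decide)
  -- primitive prime divisors equal n + 1
  have hprim : ∀ p : ℕ, p.Prime → p ∣ q ^ n - 1 → (∀ k, 0 < k → k < n → ¬ p ∣ q ^ k - 1) →
      p = n + 1 ∧ ¬ p ^ 2 ∣ q ^ n - 1 := fun p hp hd hprim => by
    obtain ⟨h5, h6⟩ := hcon p hp hd fun i a b => hprim i a b
    have := le_primitive (by omega) hn hp hd fun i a b => hprim i a b
    exact ⟨by omega, h6⟩
  obtain ⟨p0, hp0, hd0, hpr0⟩ := S2904.result q n (by omega) (by omega)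
    (fun h => h2 ⟨h.1, by omega⟩) (fun h => by omega)
  have hnp : (n + 1).Prime := (hprim p0 hp0 hd0 hpr0).1 ▸ hp0
  have heven : 2 ∣ n := by
    rcases hnp.eq_two_or_odd with h | h <;> omega
  obtain ⟨r, hr, hmax⟩ := n.primeFactors.exists_max_image id
    ⟨2, Nat.mem_primeFactors.2 ⟨Nat.prime_two, heven, by omega⟩⟩
  refine main_ineq hq hn3 heven h2 h3 h4 hE hE' hnp hr hmax ?_
  set N := (Polynomial.cyclotomic n ℤ).eval (q : ℤ) with hN
  have hNpos : 0 < N := Polynomial.cyclotomic_pos' n (by exact_mod_cast (show 1 < q by omega))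
  have hNd : N ∣ ((q ^ n - 1 : ℕ) : ℤ) := by
    have := Polynomial.eval_dvd (x := (q : ℤ)) (Polynomial.cyclotomic.dvd_X_pow_sub_one n ℤ)
    push_cast [Nat.cast_sub (Nat.one_le_pow n q (by omega))]
    simpa using this
  have hpf : ∀ p : ℕ, p.Prime → p ∣ N.natAbs → (p = r ∨ p = n + 1) ∧ ¬ p ^ 2 ∣ N.natAbs := by
    intro p hp hpN
    rcases S2904.prime_dvd q n p (by omega) hp (Int.natCast_dvd.2 hpN) with h | ⟨k, m, hnm, hk, hrm, hmr, hroot⟩
    · obtain ⟨h5, h6⟩ := hprim p hp h.1 h.2
      exact ⟨Or.inr h5, fun hsq => h6 (hsq.trans (by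
        have := Int.natAbs_dvd_natAbs.2 hNd; simpa using this))⟩
    · refine ⟨Or.inl (le_antisymm (hmax p (Nat.mem_primeFactors.2 ⟨hp, hnm ▸
        dvd_mul_of_dvd_left (dvd_pow_self p (by omega)) m, by omega⟩)) ?_), fun hsq => ?_⟩
      · obtain ⟨hrp, hrn, -⟩ := Nat.mem_primeFactors.1 hr
        rcases (Nat.Prime.dvd_mul hrp).1 (hnm ▸ hrn) with h | h
        · exact le_of_eq ((Nat.prime_dvd_prime_iff_eq hrp hp).1 (hrp.dvd_of_dvd_pow h))
        · exact le_trans (Nat.le_of_dvd (by have := hp.two_le; omega) (h.trans hmr)) (Nat.sub_le _ _)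
      · exact S2904.not_sq_dvd q n p k m (by omega) hp hnm hk hmr hroot hn3 (by
          have := Int.natCast_dvd.2 hsq
          simpa using this)
  have hN0 : N.natAbs ≠ 0 := by omega
  have hsq : Squarefree N.natAbs := Nat.squarefree_iff_prime_squarefree.2 fun p hp hd =>
    (hpf p hp (dvd_of_mul_right_dvd hd)).2 (by rwa [sq])
  have hdvd : N.natAbs ∣ r * (n + 1) := by
    have hne : r ≠ n + 1 := fun h => by
      have := Nat.le_of_dvd (by omega) (Nat.mem_primeFactors.1 hr).2.1
      omega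
    rw [← Nat.prod_primeFactors_of_squarefree hsq, ← Finset.prod_pair hne (f := fun p => p)]
    refine Finset.prod_dvd_prod_of_subset _ _ (fun p => p) fun p hp => ?_
    rw [Finset.mem_insert, Finset.mem_singleton]
    exact (hpf p (Nat.mem_primeFactors.1 hp).1 (Nat.mem_primeFactors.1 hp).2.1).1
  exact Int.natAbs_dvd_natAbs.1 (by rw [Int.natAbs_natCast]; exact hdvd)

end Cfsg.Agent.S3430
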