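import Cfsg.Statements.S4434
import Cfsg.Agent.Lib.BlockQuotient78

set_option autoImplicit false
open Cfsg

namespace Cfsg.Agent.S4434


/-- Let N be a normal p-subgroup of the finite group G and write Ḡ = G/N; fix a maximal ideal M of the algebraic integers containing p. Then every block B of G contains a block B̄ of Ḡ (the inflation of every member of B̄ lies in B) whose defect groups are exactly the images in Ḡ of the defect groups of B. -/
theorem result {G : Type*} [Group G] [Finite G] (p : ℕ) [Fact p.Prime] (M : Ideal Cfsg.AlgInt) (hM : Cfsg.IsPModular p M) (N : Subgroup G) [N.Normal] (hN : IsPGroup p N) (B : Set (Cfsg.IrrCharacter G)) (hB : Cfsg.IsPBlock M B) : ∃ Bbar : Set (Cfsg.IrrCharacter (G ⧸ N)), Cfsg.IsPBlock M Bbar ∧ (∀ χ ∈ Bbar, ∀ ψ : Cfsg.IrrCharacter G, (ψ : G → ℂ) = (χ : G ⧸ N → ℂ) ∘ QuotientGroup.mk → ψ ∈ B) ∧ ∀ Dbar : Subgroup (G ⧸ N), Cfsg.IsDefectGroup p M Bbar Dbar ↔ ∃ P : Subgroup G, Cfsg.IsDefectGroup p M B P ∧ Dbar = P.map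 (QuotientGroup.mk' N) := by
  haveI := Fintype.ofFinite G
  classical
  obtain ⟨D, hD⟩ := Cfsg.Agent.BlockTheoryDefect.exists_defectGroup hM hB
  have hND : N ≤ D := Cfsg.Agent.BlockTheoryDefect.normal_le_defectGroup hM hB hD N hN
  have hD' := hD
  obtain ⟨g, ⟨hgR, hgI, hgω⟩, S, rfl⟩ := hD'
  have hgreg : ¬ p ∣ orderOf g := fun h => hgI (by
    rw [Cfsg.Agent.BlockTheoryIdem.blockCoeff_eq_zero_of_dvd hM hB h]
    exact Cfsg.Agent.BlockTheoryLocalRing.ideal_zero hM)
  have hNC : ∀ n : N, Commute g n := fun n =>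
    (Subgroup.mem_centralizer_singleton_iff.mp (Cfsg.Agent.BlockTheoryDefect.sylowIn_le S (hND n.2))).symm
  have hzero : ∀ n : N, n ≠ 1 → Cfsg.blockCoeff B (g * n) = 0 := by
    intro n hn
    refine Cfsg.Agent.BlockTheoryIdem.blockCoeff_eq_zero_of_dvd hM hB ?_
    by_contra hreg
    refine hn (orderOf_eq_one_iff.mp ?_)
    have h1 : orderOf (n : G) ∣ orderOf g * orderOf (g * n) := orderOf_dvd_of_pow_eq_one (by
      have h := pow_orderOf_eq_one (g * (n : G))
      rw [(hNC n).mul_pow] at h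
      have hg : g ^ (orderOf g * orderOf (g * (n : G))) = 1 := by rw [pow_mul, pow_orderOf_eq_one, one_pow]
      have h2 : (g ^ orderOf (g * (n : G)) * (n : G) ^ orderOf (g * (n : G))) ^ orderOf g = 1 := by rw [h, one_pow]
      rw [((hNC n).pow_pow _ _).mul_pow, ← pow_mul, ← pow_mul, mul_comm _ (orderOf g), hg, one_mul] at h2
      exact h2)
    obtain ⟨k, hk⟩ := IsPGroup.iff_orderOf.mp hN n
    rw [Subgroup.orderOf_coe, hk] at h1
    rcases k with _ | k
    · rw [hk, pow_zero]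
    · exfalso
      rcases (Fact.out : p.Prime).dvd_mul.mp ((dvd_pow_self p k.succ_ne_zero).trans h1) with h | h
      · exact hgreg h
      · exact hreg h
  have hcoef : Cfsg.blockCoeff (Cfsg.Agent.BlockQuotient78.contained N B) (QuotientGroup.mk' N g) = Cfsg.blockCoeff B g := by
    rw [Cfsg.Agent.BlockQuotient78.sum_coset, Finset.sum_eq_single (1 : N) (fun n _ hn => hzero n hn) (by simp)]
    simp
  obtain ⟨Bb, hBb, hsub, hunit⟩ :=
    Cfsg.Agent.BlockQuotient78.exists_block_unit N hM hB (x := QuotientGroup.mk' N g) (by rw [hcoef]; exact hgI)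
  refine ⟨Bb, hBb, fun χ hχ ψ hψ => ?_, ?_⟩
  · rw [show ψ = Cfsg.Agent.BlockQuotient78.infl N χ from Subtype.ext (by
      rw [hψ]; exact funext fun g => (Cfsg.Agent.BlockQuotient78.infl_apply N χ g).symm)]
    exact hsub hχ
  set q := QuotientGroup.mk' N
  set Q := Cfsg.Agent.BlockTheoryDefect.sylowIn S with hQ
  have hconjmap : ∀ (x : G) (P : Subgroup G),
      (P.map (MulAut.conj x).toMonoidHom).map q = (P.map q).map (MulAut.conj (q x)).toMonoidHom := by
    intro x P
    rw [Subgroup.map_map, Subgroup.map_map]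
    refine congrArg P.map (MonoidHom.ext fun a => ?_)
    simp
  obtain ⟨Db, hDb⟩ := Cfsg.Agent.BlockTheoryDefect.exists_defectGroup hM hBb
  have hle : Cfsg.Agent.BlockTheoryDefect.ConjLe (Q.map q) Db := by
    refine Cfsg.Agent.BlockTheoryDefect.conjLe_defect_of_coeff hM hBb hDb hunit (IsConj.refl _)
      ((Cfsg.Agent.BlockTheoryDefect.isPGroup_sylowIn S).map q) (Subgroup.mem_centralizer_iff.mpr ?_)
    rintro _ ⟨a, ha, rfl⟩
    rw [← map_mul, ← map_mul, Subgroup.mem_centralizer_singleton_iff.mp (Cfsg.Agent.BlockTheoryDefect.sylowIn_le S ha)]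
  obtain ⟨P, hP, hPle⟩ := Cfsg.Agent.BlockQuotient78.exists_defect_ge N hM hB hBb hsub hDb
  obtain ⟨x, rfl⟩ := Cfsg.Agent.BlockTheoryDefect.defectGroup_conj hM hB hD hP
  have heq : Db = (Q.map q).map (MulAut.conj (q x)).toMonoidHom := by
    rw [hconjmap] at hPle
    refine Subgroup.eq_of_le_of_card_ge hPle ?_
    rw [Subgroup.card_map_of_injective (MulAut.conj (q x)).injective]
    exact Cfsg.Agent.BlockTheoryDefect.card_le_of_conjLe hle
  intro D'
  constructor
  · intro hD'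
    obtain ⟨y, hy⟩ := Cfsg.Agent.BlockTheoryDefect.defectGroup_conj hM hBb hDb hD'
    obtain ⟨y, rfl⟩ := QuotientGroup.mk'_surjective N y
    refine ⟨(Q.map (MulAut.conj x).toMonoidHom).map (MulAut.conj y).toMonoidHom,
      Cfsg.Agent.BlockTheoryDefect.isDefectGroup_map hP y, ?_⟩
    rw [hconjmap, hconjmap, ← heq]
    exact hy.symm
  · rintro ⟨P', hP', rfl⟩
    obtain ⟨y, hy⟩ := Cfsg.Agent.BlockTheoryDefect.defectGroup_conj hM hB hP hP'
    rw [← hy, hconjmap, hconjmap, ← heq]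
    exact Cfsg.Agent.BlockTheoryDefect.isDefectGroup_map hDb (q y)

end Cfsg.Agent.S4434
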