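import Cfsg.Statements.S0078
import Mathlib
import Cfsg.Agent.Lib.TransferTate
-- import your own Cfsg.Agent.* helpers here

set_option autoImplicit false
open Cfsg

namespace Cfsg.Agent.S0078

/-- In a p-normal group, a Sylow p-subgroup P meets O^p(G) exactly where it meets O^p(V), for any subgroup V containing the normalizer of the centre of P. -/
theorem result {G : Type*} [Group G] [Finite G] {p : ℕ} [Fact p.Prime] (P : Sylow p G) (hn : ∀ Q : Sylow p G, (P : Subgroup G) ⊓ Subgroup.centralizer (P : Set G) ≤ (Q : Subgroup G) → (Q : Subgroup G) ⊓ Subgroup.centralizer (Q : Set G) = (P : Subgroup G) ⊓ Subgroup.centralizer (P : Set G)) (V : Subgroup G) (hV : Subgroup.normalizer (((P : Subgroup G) ⊓ Subgroup.centralizer (P : Set G) : Subgroup G) : Set G) ≤ V) : (P : Subgroup G) ⊓ Cfsg.pResidual p G = (P : Subgroup G) ⊓ (Cfsg.pResidual p V).map V.subtype := by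
  set Z : Subgroup G := (P : Subgroup G) ⊓ Subgroup.centralizer (P : Set G) with hZ
  have hW : Cfsg.IsWeaklyClosed Z (P : Subgroup G) := by
    refine ⟨inf_le_left, fun g hg => ?_⟩
    have hle : Z ≤ ((g⁻¹ • P : Sylow p G) : Subgroup G) := by
      intro z hz
      rw [Sylow.coe_subgroup_smul]
      exact ⟨g * z * g⁻¹, hg ⟨z, hz, rfl⟩, by simp [MulAut.smul_def]; group⟩
    have h1 := hn _ hle
    have h2 : ∀ w : G, w ∈ Z ↔ g * w * g⁻¹ ∈ Z := by
      intro w
      conv_lhs => rw [← h1]
      simp only [hZ, Subgroup.mem_inf, Subgroup.mem_centralizer_iff, SetLike.mem_coe]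
      have hm : ∀ v : G, v ∈ ((g⁻¹ • P : Sylow p G) : Subgroup G) ↔ g * v * g⁻¹ ∈ (P : Subgroup G) := by
        intro v
        rw [Sylow.coe_subgroup_smul]
        constructor
        · rintro ⟨q, hq, rfl⟩
          have h5 : g * (MulAut.conj g⁻¹ • q) * g⁻¹ = q := by simp [MulAut.smul_def]; group
          exact h5.symm ▸ hq
        · intro hv
          exact ⟨g * v * g⁻¹, hv, by simp [MulAut.smul_def]; group⟩
      constructor
      · rintro ⟨hw, hc⟩
        refine ⟨(hm w).mp hw, fun q hq => ?_⟩
        have h4 : g * (g⁻¹ * q * g) * g⁻¹ = q := by group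
        have h3 := hc (g⁻¹ * q * g) ((hm _).mpr (by rw [h4]; exact hq))
        calc q * (g * w * g⁻¹) = g * ((g⁻¹ * q * g) * w) * g⁻¹ := by group
          _ = g * (w * (g⁻¹ * q * g)) * g⁻¹ := by rw [h3]
          _ = _ := by group
      · rintro ⟨hw, hc⟩
        refine ⟨(hm w).mpr hw, fun q hq => ?_⟩
        have h3 := hc _ ((hm q).mp hq)
        calc q * w = g⁻¹ * ((g * q * g⁻¹) * (g * w * g⁻¹)) * g := by group
          _ = g⁻¹ * ((g * w * g⁻¹) * (g * q * g⁻¹)) * g := by rw [h3]
          _ = _ := by group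
    ext z
    constructor
    · rintro ⟨w, hw, rfl⟩
      simpa using (h2 w).mp hw
    · intro hz
      refine ⟨g⁻¹ * z * g, (h2 _).mpr (by convert hz using 1; group), by simp; group⟩
  exact TransferTate.inf_pResidual_eq_of_control P
    (le_trans (fun x hx => hV (by
      show x ∈ Subgroup.normalizer (Z : Set G)
      rw [Subgroup.mem_normalizer_iff]
      intro z
      constructor
      · intro hz
        rw [Subgroup.mem_centralizer_iff.mp hz.2 x hx, mul_inv_cancel_right]
        exact hz
      · intro hz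
        have h1 := Subgroup.mem_centralizer_iff.mp hz.2 x hx
        have h2 : z = x * z * x⁻¹ := by
          calc z = x⁻¹ * ((x * z * x⁻¹) * x) := by group
            _ = x⁻¹ * (x * (x * z * x⁻¹)) := by rw [← h1]
            _ = x * z * x⁻¹ := by group
        exact h2 ▸ hz)) le_rfl)
    (TransferTate.controlsFusion_mono
      (TransferTate.controlsFusion_normalizer_of_isWeaklyClosed P inf_le_right hW) hV)
end Cfsg.Agent.S0078
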