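import Cfsg.Statements.S5438
-- import your own Cfsg.Agent.* helpers here

set_option autoImplicit false
open Cfsg

namespace Cfsg.Agent.S5438

open Subgroup in
theorem conjugates_same_coset {G : Type*} [Group G] [Finite G] (z : G) (H : Subgroup G)
    (hfix : ∀ g : G, g⁻¹ * z * g ∈ H → g ∈ H) (P : Sylow 2 G) (hPH : (P : Subgroup G) ≤ H)
    (S : Subgroup G) (hS : IsPGroup 2 S) (a b : G) (ha : a * z * a⁻¹ ∈ S) (hb : b * z * b⁻¹ ∈ S) :
    a⁻¹ * b ∈ H := by
  haveI : Fact (Nat.Prime 2) := ⟨Nat.prime_two⟩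
  obtain ⟨T, hT⟩ := hS.exists_le_sylow
  obtain ⟨t, rfl⟩ := MulAction.exists_smul_eq G P T
  have key : ∀ c : G, c * z * c⁻¹ ∈ S → t⁻¹ * c ∈ H := by
    intro c hc
    have h1 := hT hc
    rw [Sylow.coe_subgroup_smul, Subgroup.mem_pointwise_smul_iff_inv_smul_mem, ← map_inv,
      MulAut.smul_def, MulAut.conj_apply, inv_inv] at h1
    have h2 := hfix (t⁻¹ * c)⁻¹ (by
      have e : (t⁻¹ * c)⁻¹⁻¹ * z * (t⁻¹ * c)⁻¹ = t⁻¹ * (c * z * c⁻¹) * t := by group
      rw [e]; exact hPH h1)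
    exact inv_mem_iff.mp h2
  have h1 := H.mul_mem (H.inv_mem (key a ha)) (key b hb)
  have e : (t⁻¹ * a)⁻¹ * (t⁻¹ * b) = a⁻¹ * b := by group
  rwa [e] at h1

/-- Let z be a 2-central involution of the finite group G (an involution central in some Sylow 2-subgroup) and H a subgroup containing z such that the coset H is the only coset of H fixed by z (in the action of G on the cosets of H). Then H has odd index in G, and for every 2-element x of H the conjugates of x lying in H form a single H-class. -/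
theorem result {G : Type*} [Group G] [Finite G] (z : G) (hz : Cfsg.IsTwoCentralInvolution z) (H : Subgroup G) (hzH : z ∈ H) (hfix : ∀ g : G, g⁻¹ * z * g ∈ H → g ∈ H) : Odd H.index ∧ ∀ x ∈ H, (∃ k : ℕ, orderOf x = 2 ^ k) → ∀ g : G, g * x * g⁻¹ ∈ H → ∃ h ∈ H, h * x * h⁻¹ = g * x * g⁻¹ := by
  classical
  obtain ⟨hz2, P, hzP, hPz⟩ := hz
  haveI : Fact (Nat.Prime 2) := ⟨Nat.prime_two⟩
  have hPH : (P : Subgroup G) ≤ H := fun p hp => hfix p (by
    have : p⁻¹ * z * p = z := by rw [mul_assoc, ← hPz p hp, inv_mul_cancel_left]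
    rw [this]; exact hzH)
  refine ⟨Nat.not_even_iff_odd.mp fun he => P.not_dvd_index
    ((even_iff_two_dvd.mp he).trans (Subgroup.index_dvd_of_le hPH)), ?_⟩
  -- every 2-element of `H` centralises a conjugate of `z` under `H`
  have hcentral : ∀ x ∈ H, (∃ k : ℕ, orderOf x = 2 ^ k) →
      ∃ h ∈ H, h * z * h⁻¹ * x = x * (h * z * h⁻¹) := by
    rintro x hx ⟨k, hk⟩
    have hp : IsPGroup 2 (Subgroup.zpowers (⟨x, hx⟩ : H)) :=
      IsPGroup.of_card (n := k) (by rw [Nat.card_zpowers, ← Subgroup.orderOf_coe]; exact hk)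
    obtain ⟨R, hR⟩ := hp.exists_le_sylow
    obtain ⟨h, rfl⟩ := MulAction.exists_smul_eq H (P.subtype hPH) R
    have h1 := hR (Subgroup.mem_zpowers _)
    rw [Sylow.coe_subgroup_smul, Subgroup.mem_pointwise_smul_iff_inv_smul_mem, ← map_inv,
      MulAut.smul_def, MulAut.conj_apply, inv_inv, Sylow.coe_subtype, Subgroup.mem_subgroupOf] at h1
    refine ⟨h, h.2, ?_⟩
    have e := hPz _ h1
    simp only [Subgroup.coe_mul, Subgroup.coe_inv] at e
    calc (h : G) * z * (h : G)⁻¹ * x = (h : G) * (z * ((h : G)⁻¹ * x * h)) * (h : G)⁻¹ := by group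
      _ = (h : G) * ((h : G)⁻¹ * x * h * z) * (h : G)⁻¹ := by rw [e]
      _ = x * ((h : G) * z * (h : G)⁻¹) := by group
  intro x hx hx2 g hy
  obtain ⟨h, hh, he⟩ := hcentral x hx hx2
  set y := g * x * g⁻¹ with hydef
  obtain ⟨h', hh', he'⟩ := hcentral y hy (by
    obtain ⟨k, hk⟩ := hx2
    exact ⟨k, by rw [hydef, ← MulAut.conj_apply, MulEquiv.orderOf_eq, hk]⟩)
  set C := Subgroup.centralizer ({y} : Set G)
  have hu : (g * h) * z * (g * h)⁻¹ ∈ C := by
    rw [Subgroup.mem_centralizer_singleton_iff, hydef]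
    calc g * h * z * (g * h)⁻¹ * (g * x * g⁻¹) = g * (h * z * h⁻¹ * x) * g⁻¹ := by group
      _ = g * (x * (h * z * h⁻¹)) * g⁻¹ := by rw [he]
      _ = _ := by group
  have hv : h' * z * h'⁻¹ ∈ C := Subgroup.mem_centralizer_singleton_iff.mpr he'
  have hp : ∀ (a : G) (ha : a * z * a⁻¹ ∈ C),
      IsPGroup 2 (Subgroup.zpowers (⟨a * z * a⁻¹, ha⟩ : C)) := fun a ha =>
    IsPGroup.of_card (n := 1) (by
      rw [Nat.card_zpowers, ← Subgroup.orderOf_coe]
      show orderOf (a * z * a⁻¹) = 2 ^ 1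
      rw [← MulAut.conj_apply, MulEquiv.orderOf_eq, hz2, pow_one])
  obtain ⟨S, hS⟩ := (hp (g * h) hu).exists_le_sylow
  obtain ⟨S₂, hS₂⟩ := (hp h' hv).exists_le_sylow
  obtain ⟨c, rfl⟩ := MulAction.exists_smul_eq C S₂ S
  have h1 := conjugates_same_coset z H hfix P hPH
    (((c • S₂ : Sylow 2 C) : Subgroup C).map C.subtype) ((c • S₂).isPGroup'.map _) (g * h) (c * h')
    ⟨_, hS (Subgroup.mem_zpowers _), rfl⟩ (by
      refine ⟨c * ⟨h' * z * h'⁻¹, hv⟩ * c⁻¹, ?_, ?_⟩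
      · rw [Sylow.coe_subgroup_smul, SetLike.mem_coe,
          Subgroup.mem_pointwise_smul_iff_inv_smul_mem, ← map_inv, MulAut.smul_def,
          MulAut.conj_apply, inv_inv]
        have e : c⁻¹ * (c * ⟨h' * z * h'⁻¹, hv⟩ * c⁻¹) * c = (⟨h' * z * h'⁻¹, hv⟩ : C) := by group
        rw [e]; exact hS₂ (Subgroup.mem_zpowers _)
      · simp only [Subgroup.coe_subtype, Subgroup.coe_mul, Subgroup.coe_inv]; group)
  refine ⟨(c : G)⁻¹ * g, ?_, ?_⟩
  · have h2 := H.mul_mem (H.mul_mem hh h1) (H.inv_mem hh')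
    have e : h * ((g * h)⁻¹ * (c * h')) * h'⁻¹ = g⁻¹ * c := by group
    rw [e] at h2
    have := H.inv_mem h2
    rwa [mul_inv_rev, inv_inv] at this
  · have hc := Subgroup.mem_centralizer_singleton_iff.mp c.2
    calc (c : G)⁻¹ * g * x * ((c : G)⁻¹ * g)⁻¹ = (c : G)⁻¹ * y * c := by rw [hydef]; group
      _ = y := by rw [mul_assoc, ← hc, inv_mul_cancel_left]

end Cfsg.Agent.S5438
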