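import Cfsg.Statements.S5439
import Cfsg.Agent.Lib.IsolatedInv
-- import your own Cfsg.Agent.* helpers here

set_option autoImplicit false
open Cfsg

namespace Cfsg.Agent.S5439

/-- Let I and J be two different conjugacy classes of involutions of the finite group G and H a subgroup such that every member of I ∪ J fixes exactly one coset in the action on the cosets of H, and such that for every a in I ∩ H and every b in (I ∪ J) ∩ H different from a and commuting with it, the centralizer of a b lies in H. Then H = G. -/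
theorem result {G : Type*} [Group G] [Finite G] (I J : Set G) (a₀ b₀ : G) (ha₀ : orderOf a₀ = 2) (hb₀ : orderOf b₀ = 2) (hI : I = {x | IsConj a₀ x}) (hJ : J = {x | IsConj b₀ x}) (hIJ : I ≠ J) (H : Subgroup G) (hfix : ∀ x ∈ I ∪ J, ∃! c : G ⧸ H, x • c = c) (hcent : ∀ a ∈ I, a ∈ H → ∀ b ∈ I ∪ J, b ∈ H → a ≠ b → a * b = b * a → Subgroup.centralizer ({a * b} : Set G) ≤ H) : H = ⊤ := by
  classical
  subst hI hJ
  simp only [Set.mem_union, Set.mem_ofPred_eq] at hfix hcent
  have hord : ∀ (c x : G), orderOf c = 2 → IsConj c x → x * x = 1 := by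
    intro c x hc hx
    obtain ⟨g, rfl⟩ := isConj_iff.mp hx
    have h2 : c * c = 1 := IsolatedInv.sq_of_orderOf_two hc
    calc g * c * g⁻¹ * (g * c * g⁻¹) = g * (c * c) * g⁻¹ := by group
      _ = 1 := by rw [h2]; group
  have huniq : ∀ x, IsConj a₀ x ∨ IsConj b₀ x → ∀ c c' : G ⧸ H, x • c = c → x • c' = c' → c = c' :=
    fun x hx c c' hc hc' => (hfix x hx).unique hc hc'
  -- a member of either class and a member of the first have the same fixed coset
  have key : ∀ a b, IsConj a₀ a → IsConj b₀ b → ∀ α : G ⧸ H, a • α = α → b • α = α := by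
    intro a b ha hb α hα
    have haa := hord _ _ ha₀ ha
    have hbb := hord _ _ hb₀ hb
    by_cases hev : Even (orderOf (a * b))
    swap
    · obtain ⟨c, -, hc⟩ := IsolatedInv.exists_conj_of_odd haa hbb (Nat.not_even_iff_odd.mp hev)
      exfalso
      apply hIJ
      ext x
      have : IsConj a₀ b₀ := (ha.trans (isConj_iff.mpr ⟨c, hc⟩)).trans hb.symm
      exact ⟨fun hx => this.symm.trans hx, fun hx => this.trans hx⟩
    obtain ⟨w, hw, hw1, hww, hwa, hwb⟩ := IsolatedInv.exists_central_of_even haa hbb hev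
    have hconj : IsConj a₀ (a * w) ∨ IsConj b₀ (a * w) := by
      obtain ⟨m, rfl⟩ := Subgroup.mem_zpowers_iff.mp hw
      have inv : ∀ j : ℤ, (a * b) ^ j * a = a * (a * b) ^ (-j) := by
        intro j
        have e : a * (a * b) * a⁻¹ = (a * b)⁻¹ := by
          rw [mul_inv_rev, IsolatedInv.inv_eq_self_of_sq haa, IsolatedInv.inv_eq_self_of_sq hbb,
            ← mul_assoc a a, haa, one_mul]
        have e2 : a * (a * b) ^ (-j) * a⁻¹ = (a * b) ^ j := by
          rw [← conj_zpow, e, inv_zpow', neg_neg]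
        rw [← e2, inv_mul_cancel_right]
      rcases Int.even_or_odd m with ⟨j, rfl⟩ | ⟨j, rfl⟩
      · left
        refine ha.trans (isConj_iff.mpr ⟨(a * b) ^ (-j), ?_⟩)
        rw [inv, neg_neg, mul_assoc, ← zpow_neg, neg_neg, ← zpow_add]
      · right
        refine hb.trans (isConj_iff.mpr ⟨(a * b) ^ (-j), ?_⟩)
        have e : b = a * (a * b) := by rw [← mul_assoc, haa, one_mul]
        conv_lhs => rw [show (a * b) ^ (-j) * b = (a * b) ^ (-j) * a * (a * b) by
          rw [mul_assoc, ← e]]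
        rw [inv, neg_neg, mul_assoc, mul_assoc, ← zpow_neg, neg_neg, ← zpow_one_add, ← zpow_add]
        congr 2
        ring
    have hwα : w • α = α := huniq a (Or.inl ha) _ _
      (by rw [← mul_smul, ← hwa.eq, mul_smul, hα]) hα
    induction α using QuotientGroup.induction_on with
    | H g =>
      have hmem : ∀ x : G, x • (g : G ⧸ H) = (g : G ⧸ H) → g⁻¹ * x * g ∈ H := by
        intro x hx
        rw [MulAction.Quotient.smul_coe, QuotientGroup.eq, smul_eq_mul] at hx
        have := H.inv_mem hx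
        have e : ((x * g)⁻¹ * g)⁻¹ = g⁻¹ * x * g := by group
        rwa [e] at this
      have hc : ∀ c x : G, IsConj c x → IsConj c (g⁻¹ * x * g) := fun c x hx =>
        hx.trans (isConj_iff.mpr ⟨g⁻¹, by group⟩)
      have hawα : (a * w) • (g : G ⧸ H) = (g : G ⧸ H) := by rw [mul_smul, hwα, hα]
      have hne : g⁻¹ * a * g ≠ g⁻¹ * (a * w) * g := fun e =>
        hw1 (mul_eq_left.mp (Eq.symm (mul_left_cancel (mul_right_cancel e))))
      have hcom : (g⁻¹ * a * g) * (g⁻¹ * (a * w) * g) = (g⁻¹ * (a * w) * g) * (g⁻¹ * a * g) := by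
        calc (g⁻¹ * a * g) * (g⁻¹ * (a * w) * g) = g⁻¹ * (a * (a * w)) * g := by group
          _ = g⁻¹ * (a * (w * a)) * g := by rw [hwa.eq]
          _ = _ := by group
      have hbC : g⁻¹ * b * g ∈ H := by
        apply hcent _ (hc _ _ ha) (hmem a hα) _ (hconj.imp (hc _ _) (hc _ _)) (hmem _ hawα) hne hcom
        rw [Subgroup.mem_centralizer_singleton_iff]
        calc g⁻¹ * b * g * ((g⁻¹ * a * g) * (g⁻¹ * (a * w) * g)) = g⁻¹ * (b * ((a * a) * w)) * g := by group
          _ = g⁻¹ * ((a * a) * w * b) * g := by rw [haa, one_mul, hwb.eq]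
          _ = _ := by group
      rw [MulAction.Quotient.smul_coe, QuotientGroup.eq, smul_eq_mul]
      have e : (b * g)⁻¹ * g = (g⁻¹ * b * g)⁻¹ := by group
      rw [e]; exact H.inv_mem hbC
  obtain ⟨α, hα, -⟩ := hfix a₀ (Or.inl (IsConj.refl _))
  induction α using QuotientGroup.induction_on with
  | H g =>
    have hb := key a₀ b₀ (IsConj.refl _) (IsConj.refl _) _ hα
    refine eq_top_iff.mpr fun y _ => ?_
    set x := g * y * g⁻¹
    -- every conjugate of `b₀` fixes `α`, so `x` maps `α` to a coset fixed by `b₀`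
    have h1 : b₀ • (x • (g : G ⧸ H)) = x • (g : G ⧸ H) := by
      have h2 := key a₀ (x⁻¹ * b₀ * x) (IsConj.refl _) (isConj_iff.mpr ⟨x⁻¹, by group⟩) _ hα
      calc b₀ • x • (g : G ⧸ H) = x • (x⁻¹ * b₀ * x) • (g : G ⧸ H) := by
            rw [← mul_smul, ← mul_smul]; congr 1; group
        _ = _ := by rw [h2]
    have h3 := huniq b₀ (Or.inr (IsConj.refl _)) _ _ h1 hb
    rw [MulAction.Quotient.smul_coe, QuotientGroup.eq, smul_eq_mul] at h3
    have e : (x * g)⁻¹ * g = y⁻¹ := by simp [x, mul_assoc]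
    rw [e] at h3
    exact inv_mem_iff.mp h3

end Cfsg.Agent.S5439
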