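import Cfsg.Statements.S5450
import Cfsg.Agent.Lib.LFU62Coord19
import Cfsg.Agent.Lib.LFU62Stab58
import Cfsg.Agent.Lib.U62RecogIdent29
import Cfsg.Agent.Lib.LFNoncentralFinal19
import Cfsg.Agent.Lib.GolayThirdFixed2
import Cfsg.Agent.Lib.FischerFrameSmall18

set_option autoImplicit false
open Cfsg
open Cfsg.Agent.U62Mon93 Cfsg.Agent.LFElem89 Cfsg.Agent.LFSetting89

namespace Cfsg.Agent.S5450

/-- Let G be a finite group of large Fischer type at the involution z: the generalized Fitting subgroup Q of H = C_G(z) is extraspecial of order 2^13, H has normal subgroups Q ≤ H₁ ≤ H₂ with H₁/Q of order 3, H₂/H₁ the projective special unitary group of dimension 4 over the field with nine elements and H₂ of index 2 in H, and some conjugate of z other than z lies in Q. Let t be an involution of Q not conjugate to z in G, and K the generalized Fitting subgroup of the centralizer of t. Then K is quasisimple of index 2 in the centralizer of t, contains t, and the centralizer of t modulo the subgroup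 generated by t is isomorphic to the full automorphism group of the Fischer group Fi₂₂ (as presented). -/
theorem result {G : Type*} [Group G] [Finite G] (z : G) (Q : Subgroup (Subgroup.centralizer ({z} : Set G))) [Q.Normal] (hF : Cfsg.IsOfLargeFischerTypeAt z Q) (t : G) (htQ : ∃ htc : t ∈ Subgroup.centralizer ({z} : Set G), (⟨t, htc⟩ : Subgroup.centralizer ({z} : Set G)) ∈ Q) (ht2 : orderOf t = 2) (ht : ¬ IsConj z t) (K : Subgroup ↥(Subgroup.centralizer ({t} : Set G))) (hK : K = Cfsg.generalizedFittingSubgroup ↥(Subgroup.centralizer ({t} : Set G))) [hn : ((Subgroup.zpowers t).subgroupOf (Subgroup.centralizer ({t} : Set G))).Normal] : Cfsg.IsQuasisimple ↥K ∧ K.index = 2 ∧ (∃ htc : t ∈ Subgroup.centralizer ({t} : Set G), (⟨t, htc⟩ : ↥(Subgroup.centralizer ({t} : Set G))) ∈ K) ∧ Nonempty (↥(Subgroup.centralizer ({t} : Set G)) ⧸ (Subgroup.zpowers t).subgroupOf (Subgroup.centralizer ({t} : Set G)) ≃* MulAut Cfsg.Spor.Fi22) := by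
  classical
  obtain ⟨V, _, zc, π, ρ, q, n, Mb, D⟩ := LFSetting89.exists_data z Q hF
  haveI : Fintype (GaloisField 2 2) := Fintype.ofFinite _
  have hF4 : Fintype.card (GaloisField 2 2) = 4 := by
    rw [← Nat.card_eq_fintype_card, GaloisField.card 2 2 two_ne_zero]; norm_num
  obtain ⟨s, hs⟩ := exists_S4 hF4
  obtain ⟨ν, Φ, C⟩ := LFModel89.exists_coord (hyp D) hs
  have S := LFU62Stab58.stab_facts D C
  obtain ⟨E, Ks⟩ := LFU62Coord19.exists_facts D C hF
  obtain ⟨hsimp, hiso⟩ := U62RecogIdent29.ident (LFU62Bridge19.setup D C S Ks) (GaloisField 2 2) hF4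
  haveI : UnitaryF4Geo.FourField (GaloisField 2 2) := ⟨hF4⟩
  obtain ⟨t0, e, p, pt, φ, a, b, c, y, W, θ, hFr, hP, x, hx, hxt, hxz⟩ :=
    LFNoncentralFrame19.exists_frame D C S Ks hF hsimp hiso
  have hgood : LFNoncentralFinal19.Good t0 := LFNoncentralFinal19.good hFr hP fun g h4 u v huv hu hv =>
    GolayThirdFixed2.exists_third_fixed g.2 (congrArg Subtype.val h4) huv hu hv
  obtain ⟨htc, htcQ⟩ := htQ
  have ht1 : t ≠ 1 := fun h => by rw [h, orderOf_one] at ht2; norm_num at ht2
  have htt : t * t = 1 := by rw [← pow_two, ← ht2, pow_orderOf_eq_one]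
  have hy : FischerFrame18.InvQ z Q ⟨t, htc⟩ :=
    ⟨htcQ, Subtype.ext htt, fun h => ht1 (congrArg Subtype.val h), fun h : t = z => ht (h ▸ IsConj.refl z)⟩
  obtain ⟨g, hg⟩ := FischerFrame18.conj_noncentral hF hx hy (by rw [hxt]; exact hxz) ht
  have hconj : (MulAut.conj (g : G)) t0 = t := by
    rw [MulAut.conj_apply, ← hxt]
    exact congrArg Subtype.val hg
  obtain ⟨K', hn', hq, hc, hi, ⟨w, hw, hwt⟩, f, hf, hk⟩ :=
    LFNoncentralFinal19.good_congr _ hconj hgood
  have hKK : K = K' := hK.trans (LFNoncentralFinal19.gen_eq_of_self_cent hn' hq hc)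
  subst hKK
  refine ⟨hq, hi, ⟨Subgroup.mem_centralizer_singleton_iff.2 rfl, ?_⟩, ?_⟩
  · have e' : w = ⟨t, Subgroup.mem_centralizer_singleton_iff.2 rfl⟩ := Subtype.ext hwt
    exact e' ▸ hw
  · have hker : f.ker = (Subgroup.zpowers t).subgroupOf (Subgroup.centralizer ({t} : Set G)) := by
      ext v
      rw [MonoidHom.mem_ker, hk, Subgroup.mem_subgroupOf]
    exact ⟨(QuotientGroup.quotientMulEquivOfEq hker.symm).trans
      (QuotientGroup.quotientKerEquivOfSurjective f hf)⟩

end Cfsg.Agent.S5450
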