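import Cfsg.Statements.S2788
import Cfsg.Agent.Lib.PSL2Sylow
import Cfsg.Agent.S2904

set_option autoImplicit false
open Cfsg

set_option linter.all false

namespace Cfsg.Agent.S2788
open Matrix
open scoped MatrixGroups Pointwise
open Cfsg.Agent.PSL2Elements

/-- An element of prime power order with no fixed points outside a subgroup forces a large index. -/
theorem free_bound {G : Type*} [Group G] [Finite G] {p : ℕ} [Fact p.Prime] (V : Subgroup G)
    (hV : IsPGroup p ↥V) (g : G) (hg : g ∈ Subgroup.normalizer (V : Set G)) {r k : ℕ} (hr : r.Prime)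
    (hord : orderOf g = r ^ (k + 1)) (hrp : r ≠ p)
    (hnc : ¬ (∀ v ∈ V, Commute (g ^ r ^ k) v)) :
    ∃ d, 0 < d ∧ (V ⊓ Subgroup.centralizer ({g ^ r ^ k} : Set G)).relIndex V = p ^ d ∧
      r ^ (k + 1) ∣ p ^ d - 1 := by
  classical
  set g' := g ^ r ^ k with hg'
  set C := V ⊓ Subgroup.centralizer ({g'} : Set G)
  have hmemC : ∀ v, v ∈ C ↔ v ∈ V ∧ Commute g' v := fun v => by
    simp only [C, Subgroup.mem_inf, Subgroup.mem_centralizer_iff, Set.mem_singleton_iff, forall_eq]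
    rfl
  have hgg' : ∀ z ∈ Subgroup.zpowers g, Commute z g' := by
    rintro z ⟨i, rfl⟩
    exact ((Commute.refl g).pow_right _).zpow_left i
  let X := {v : G // v ∈ V ∧ ¬ Commute g' v}
  letI : MulAction ↥(Subgroup.zpowers g) X :=
    { smul := fun z v => ⟨(z : G) * v.1 * (z : G)⁻¹,
        (Subgroup.mem_normalizer_iff.mp ((Subgroup.zpowers_le.mpr hg) z.2) _).mp v.2.1, fun h => v.2.2 (by
          have h1 := h.map (MulAut.conj (z : G)⁻¹).toMonoidHom
          simp [mul_assoc] at h1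
          have h2 : (z : G)⁻¹ * (g' * (z : G)) = g' := by rw [← (hgg' _ z.2).eq]; group
          rwa [h2] at h1)⟩
      one_smul := fun v => Subtype.ext (by
        show ((1 : ↥(Subgroup.zpowers g)) : G) * v.1 * _⁻¹ = v.1
        simp)
      mul_smul := fun a b v => Subtype.ext (by
        show ((a * b : ↥(Subgroup.zpowers g)) : G) * v.1 * _⁻¹ = (a : G) * ((b : G) * v.1 * (b : G)⁻¹) * (a : G)⁻¹
        simp [mul_assoc]) }
  haveI := Fact.mk hr
  have hfree : ∀ v : X, MulAction.stabilizer ↥(Subgroup.zpowers g) v = ⊥ := by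
    intro v
    by_contra hne
    have hdvd : r ∣ Nat.card (MulAction.stabilizer ↥(Subgroup.zpowers g) v) := by
      have h1 := Subgroup.card_subgroup_dvd_card (MulAction.stabilizer ↥(Subgroup.zpowers g) v)
      rw [Nat.card_zpowers, hord] at h1
      obtain ⟨i, _, hi⟩ := (Nat.dvd_prime_pow hr).mp h1
      rw [hi]
      refine dvd_pow_self r fun h0 => hne ?_
      rw [h0, pow_zero, Subgroup.card_eq_one] at hi
      exact hi
    obtain ⟨⟨⟨z, hz⟩, hzv⟩, hzo⟩ := exists_prime_orderOf_dvd_card' r hdvd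
    rw [← Subgroup.orderOf_coe, ← Subgroup.orderOf_coe] at hzo
    have hzv' : Commute z v.1 := mul_inv_eq_iff_eq_mul.mp (congrArg Subtype.val (MulAction.mem_stabilizer_iff.mp hzv))
    obtain ⟨i, rfl⟩ := hz
    simp only at hzo hzv'
    have h2 : g ^ (i * r) = 1 := by rw [_root_.zpow_mul, zpow_natCast, ← hzo, pow_orderOf_eq_one]
    rw [← orderOf_dvd_iff_zpow_eq_one, hord, pow_succ] at h2
    push_cast at h2
    obtain ⟨j, hj⟩ := (mul_dvd_mul_iff_right (by exact_mod_cast hr.ne_zero : (r : ℤ) ≠ 0)).mp h2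
    have hmem : g ^ i ∈ Subgroup.zpowers g' := ⟨j, by
      show g' ^ j = g ^ i
      rw [hg', ← zpow_natCast g (r ^ k), ← _root_.zpow_mul, hj]; push_cast; ring_nf⟩
    have ho' : orderOf g' = r := by
      rw [hg', orderOf_pow, hord, pow_succ, Nat.gcd_eq_right (dvd_mul_right _ _)]
      exact Nat.mul_div_cancel_left r (pow_pos hr.pos k)
    have heq : Subgroup.zpowers (g ^ i) = Subgroup.zpowers g' :=
      Subgroup.eq_of_le_of_card_ge (Subgroup.zpowers_le.mpr hmem) (by rw [Nat.card_zpowers, Nat.card_zpowers, ho', hzo])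
    obtain ⟨l, hl⟩ := (heq ▸ Subgroup.mem_zpowers g' : g' ∈ Subgroup.zpowers (g ^ i))
    have hl' : (g ^ i) ^ l = g' := hl
    have h3 := hzv'.zpow_left l
    rw [hl'] at h3
    exact v.2.2 h3
  have hm : r ^ (k + 1) ∣ Nat.card X := by
    rw [Nat.card_congr (MulAction.selfEquivOrbitsQuotientProd hfree), Nat.card_prod, Nat.card_zpowers, hord]
    exact dvd_mul_left _ _
  obtain ⟨c, hc⟩ := (hV.to_le (inf_le_left : C ≤ V)).exists_card_eq
  obtain ⟨d, hd⟩ : ∃ d, C.relIndex V = p ^ d := by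
    obtain ⟨a, ha⟩ := hV.exists_card_eq
    obtain ⟨d, _, hd⟩ := (Nat.dvd_prime_pow Fact.out).mp (ha ▸ Subgroup.relIndex_dvd_card (H := C) (K := V))
    exact ⟨d, hd⟩
  have hcard : Nat.card ↥V = p ^ c * p ^ d := by
    rw [← hc, ← hd, ← Nat.card_congr (Subgroup.subgroupOfEquivOfLe (inf_le_left : C ≤ V)).toEquiv,
      Subgroup.relIndex, Subgroup.card_mul_index]
  have hsplit : Nat.card X + p ^ c = Nat.card ↥V := by
    let e : X ⊕ ↥C ≃ ↥V :=
      { toFun := Sum.elim (fun x => ⟨x.1, x.2.1⟩) (fun x => ⟨x.1, x.2.1⟩)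
        invFun := fun v => if h : Commute g' (v : G) then Sum.inr ⟨v, (hmemC _).mpr ⟨v.2, h⟩⟩ else Sum.inl ⟨v, v.2, h⟩
        left_inv := by
          rintro (x | x)
          · simp [x.2.2]
          · simp [((hmemC _).mp x.2).2]
        right_inv := fun v => by dsimp; split_ifs <;> rfl }
    rw [← Nat.card_congr e, Nat.card_sum, hc]
  refine ⟨d, Nat.pos_of_ne_zero fun h0 => hnc fun v hv => ?_, hd, ?_⟩
  · rw [h0, pow_zero, Subgroup.relIndex_eq_one] at hd
    exact ((hmemC v).mp (hd hv)).2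
  · have h2 : Nat.card X = p ^ c * (p ^ d - 1) := by
      rw [Nat.mul_sub, mul_one, ← hcard, ← hsplit, Nat.add_sub_cancel]
    rw [h2] at hm
    exact (Nat.Coprime.dvd_of_dvd_mul_left (Nat.Coprime.pow _ _ ((Nat.coprime_primes hr Fact.out).mpr hrp)) hm)

theorem relIndex_conj {G : Type*} [Group G] (V : Subgroup G) (h a : G)
    (hh : h ∈ Subgroup.normalizer (V : Set G)) :
    (V ⊓ Subgroup.centralizer ({h * a * h⁻¹} : Set G)).relIndex V =
      (V ⊓ Subgroup.centralizer ({a} : Set G)).relIndex V := by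
  have hV : V.map (MulAut.conj h).toMonoidHom = V := Subgroup.mem_normalizer_iff_map_conj_eq.mp hh
  have hC : (V ⊓ Subgroup.centralizer ({a} : Set G)).map (MulAut.conj h).toMonoidHom =
      V ⊓ Subgroup.centralizer ({h * a * h⁻¹} : Set G) := by
    rw [Subgroup.map_inf _ _ _ (MulAut.conj h).injective, hV, PSL2Elements.centralizer_conj]
  have h1 := Subgroup.relIndex_map_map_of_injective (V ⊓ Subgroup.centralizer ({a} : Set G)) V
    (f := (MulAut.conj h).toMonoidHom) (MulAut.conj h).injective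
  rwa [hC, hV] at h1

/-- A prime power with the order properties of a primitive divisor of `p^(2n) - 1`. -/
theorem exists_primitive {p n : ℕ} (hp : p.Prime) (hn : 2 ≤ n) :
    ∃ r k : ℕ, r.Prime ∧ Odd r ∧ r ≠ p ∧ r ^ (k + 1) ∣ p ^ n + 1 ∧
      ∀ j, 0 < j → j < 2 * n → ¬ r ^ (k + 1) ∣ p ^ j - 1 := by
  by_cases h6 : p = 2 ∧ 2 * n = 6
  · obtain ⟨rfl, h⟩ := h6
    obtain rfl : n = 3 := by omega
    refine ⟨3, 1, Nat.prime_three, by decide, by decide, by decide, fun j hj0 hj => ?_⟩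
    interval_cases j <;> decide
  obtain ⟨r, hr, hrd, hmin⟩ := S2904.result p (2 * n) hp.one_lt (by omega) h6 (by omega)
  have hrp : r ≠ p := by
    rintro rfl
    have h1 : r ∣ r ^ (2 * n) := dvd_pow_self r (by omega)
    have h2 := Nat.dvd_sub h1 hrd
    rw [Nat.sub_sub_self (Nat.one_le_pow _ _ hr.pos)] at h2
    exact hr.not_dvd_one h2
  have hsq : p ^ (2 * n) - 1 = (p ^ n + 1) * (p ^ n - 1) := by
    rw [← Nat.sq_sub_sq, one_pow, ← pow_mul, mul_comm]
  refine ⟨r, 0, hr, ?_, hrp, ?_, by simpa using hmin⟩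
  · refine hr.odd_of_ne_two fun h2 => hmin 1 one_pos (by omega) ?_
    subst h2
    have := hp.odd_of_ne_two (fun h => hrp h.symm)
    obtain ⟨a, rfl⟩ := this
    rw [pow_one, Nat.add_sub_cancel]
    exact dvd_mul_right 2 a
  · rw [zero_add, pow_one]
    exact ((hr.dvd_mul.mp (hsq ▸ hrd)).resolve_right (hmin n (by omega) (by omega)))


/-- Let H act faithfully by conjugation on the elementary abelian p-subgroup V of a finite group with H ≅ SL₂(F), F a field with p^n elements, S a Sylow p-subgroup of H, and A ≤ S a subgroup of order at least 3 acting quadratically on V ([V, A, A] = 1). Then |V/C_V(a)| ≥ p^n for every nonidentity a ∈ A. -/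
theorem result {G : Type*} [Group G] [Finite G] {p : ℕ} [Fact p.Prime] (V H : Subgroup G) (hV : Cfsg.IsElementaryAbelian p V) (hHV : H ≤ Subgroup.normalizer (V : Set G)) (hf : H ⊓ Subgroup.centralizer (V : Set G) = ⊥) {F : Type*} [Field F] [Fintype F] (n : ℕ) (hF : Fintype.card F = p ^ n) (hiso : Nonempty (↥H ≃* Matrix.SpecialLinearGroup (Fin 2) F)) (S : Sylow p ↥H) (T : Subgroup G) (hT : T = ((S : Subgroup ↥H).map H.subtype)) (A : Subgroup G) (hA : A ≤ T) (hA3 : 3 ≤ Nat.card A) (hquad : ⁅⁅V, A⁆, A⁆ = ⊥) : ∀ a ∈ A, a ≠ 1 → p ^ n ≤ ((V ⊓ Subgroup.centralizer ({a} : Set G))).relIndex V := by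
  classical
  obtain ⟨e⟩ := hiso
  intro a ha ha1
  have hVp : IsPGroup p ↥V := fun v => ⟨1, Subtype.ext (by rw [pow_one]; exact hV.2 v v.2)⟩
  have hfaith : ∀ g ∈ H, g ≠ 1 → ¬ ∀ v ∈ V, Commute g v := by
    intro g hg hg1 hc
    have : g ∈ H ⊓ Subgroup.centralizer (V : Set G) :=
      ⟨hg, Subgroup.mem_centralizer_iff.mpr fun v hv => (hc v hv).symm.eq⟩
    rw [hf, Subgroup.mem_bot] at this
    exact hg1 this
  set i := (V ⊓ Subgroup.centralizer ({a} : Set G)).relIndex V with hi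
  obtain ⟨d₀, hd₀⟩ : ∃ d, i = p ^ d := by
    obtain ⟨c, hc⟩ := hVp.exists_card_eq
    obtain ⟨d, _, hd⟩ := (Nat.dvd_prime_pow Fact.out).mp
      (hc ▸ Subgroup.relIndex_dvd_card (H := V ⊓ Subgroup.centralizer ({a} : Set G)) (K := V))
    exact ⟨d, hd⟩
  have haT : a ∈ (S : Subgroup ↥H).map H.subtype := hT ▸ hA ha
  obtain ⟨⟨a', haH⟩, haS, rfl⟩ := haT
  simp only [Subgroup.coe_subtype] at *
  have hd₀1 : 1 ≤ d₀ := Nat.pos_of_ne_zero fun h => by
    rw [h, pow_zero] at hd₀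
    rw [hi, Subgroup.relIndex_eq_one] at hd₀
    exact hfaith a' haH ha1 fun v hv => Subgroup.mem_centralizer_iff.mp (hd₀ hv).2 a' rfl
  rw [hd₀]
  refine Nat.pow_le_pow_right (Fact.out : p.Prime).pos ?_
  by_cases hn : n ≤ 1
  · omega
  obtain ⟨r, k, hr, hrodd, hrp, hrd, hmin⟩ := exists_primitive (Fact.out : p.Prime) (by omega : 2 ≤ n)
  haveI : CharP F p := charP_of_card_eq_prime_pow hF
  have hq : Nat.card F = p ^ n := by rw [Nat.card_eq_fintype_card, hF]
  -- the trace of `e a'` is two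
  set A0 : SL(2, F) := e ⟨a', haH⟩ with hA0
  have htrA : tr A0 = 2 := by
    obtain ⟨g, hg⟩ := PSL2Sylow.sylow_eq_conj p (S.mapSurjective (f := e.toMonoidHom) e.surjective)
    have h0 : (S : Subgroup ↥H).map e.toMonoidHom = MulAut.conj g • PSL2Sylow.uSub F := hg
    have h1 : A0 ∈ MulAut.conj g • PSL2Sylow.uSub F := h0 ▸ Subgroup.mem_map_of_mem e.toMonoidHom haS
    obtain ⟨y, hy, hy2⟩ := h1
    obtain ⟨x, rfl⟩ := PSL2Sylow.mem_uSub.mp hy
    rw [← hy2]
    show tr (g * u x * g⁻¹) = 2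
    rw [tr_conj, tr_u]
  obtain ⟨x, hx⟩ := isConj_u_of_tr_two htrA
  have hx0 : x ≠ 0 := by
    rintro rfl
    rw [u_zero] at hx
    have : A0 = 1 := by
      obtain ⟨c, hc⟩ := isConj_iff.mp hx.symm
      rw [← hc]; group
    rw [hA0, EmbeddingLike.map_eq_one_iff] at this
    exact ha1 (congrArg Subtype.val this)
  -- an element of order `m`
  obtain ⟨B₀, hB₀⟩ := exists_nonsplit (F := F)
  obtain ⟨hcyc, hcard⟩ := centralizer_nonsplit hB₀
  obtain ⟨z, hz⟩ := hcyc.exists_generator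
  have hzo : orderOf z = p ^ n + 1 := by
    rw [orderOf_eq_card_of_forall_mem_zpowers hz, hcard, hq]
  obtain ⟨q, hq'⟩ := hrd
  set m := r ^ (k + 1) with hm
  have hmodd : Odd m := hrodd.pow
  set B : SL(2, F) := ((z ^ q : ↥(Subgroup.centralizer ({B₀} : Set SL(2, F)))) : SL(2, F)) with hB
  have hBo : orderOf B = m := by
    rw [hB, Subgroup.orderOf_coe, orderOf_pow, hzo, hq', Nat.gcd_eq_right (dvd_mul_left _ _)]
    exact Nat.mul_div_cancel _ (Nat.pos_of_ne_zero fun h0 => by rw [h0, mul_zero] at hq'; omega)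
  have hm3 : 3 ≤ m := by
    have h3 : 3 ≤ r := by
      rcases hrodd with ⟨b, rfl⟩
      have := hr.two_le
      omega
    exact h3.trans (Nat.le_self_pow (Nat.succ_ne_zero k) r)
  obtain ⟨b, hb⟩ := hmodd
  set C : SL(2, F) := B ^ (b + 1)
  have hCB : C ^ 2 = B := by
    rw [← pow_mul, show (b + 1) * 2 = m + 1 by omega, pow_succ, ← hBo, pow_orderOf_eq_one, one_mul]
  have htrB : tr B = tr C * tr C - 2 := by
    rw [← hCB, tr, sq, coe_mul', Matrix.mul_apply, Matrix.mul_apply, Fin.sum_univ_two, Fin.sum_univ_two, tr]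
    linear_combination 2 * (-(det_eq C))
  have hmp : ∀ j, ¬ m ∣ 2 * p ^ j := by
    intro j hdvd
    have h1 : r ∣ 2 * p ^ j := (dvd_pow_self r (Nat.succ_ne_zero k)).trans hdvd
    rcases hr.dvd_mul.mp h1 with h | h
    · have := (Nat.prime_dvd_prime_iff_eq hr Nat.prime_two).mp h
      subst this
      exact absurd hrodd (by decide)
    · exact hrp ((Nat.prime_dvd_prime_iff_eq hr Fact.out).mp (hr.dvd_of_dvd_pow h))
  have hB2 : tr B ^ 2 ≠ 4 := by
    intro h
    have h0 : (tr B - 2) * (tr B + 2) = 0 := by linear_combination h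
    rcases mul_eq_zero.mp h0 with h1 | h1
    · have := orderOf_dvd_of_pow_eq_one (pow_char p (sub_eq_zero.mp h1))
      rw [hBo] at this
      exact hmp 1 (by rw [pow_one]; exact this.mul_left 2)
    · have hneg := pow_char (A := -B) p (by rw [tr_neg, eq_neg_of_add_eq_zero_left h1, neg_neg])
      have : B ^ (p * 2) = 1 := by rw [← Even.neg_pow (even_two.mul_left p), pow_mul, hneg, one_pow]
      have h2 := orderOf_dvd_of_pow_eq_one this
      rw [hBo, mul_comm] at h2
      exact hmp 1 (by rw [pow_one]; exact h2)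
  have htC : tr C ≠ 0 := by
    intro h
    apply hB2
    rw [htrB, h]; ring
  set s : Fˣ := Units.mk0 (tr C / x) (div_ne_zero htC hx0) with hs
  set U1 : SL(2, F) := u x with hU1
  set U2 : SL(2, F) := w * (d s * u x * (d s)⁻¹) * w⁻¹ with hU2
  have hU2e : U2 = mk2 1 0 (-((s : F) ^ 2 * x)) 1 (by ring) := by
    rw [hU2, d_conj_u, mul_inv_eq_iff_eq_mul]
    apply ext2 <;> simp [w, u, mul_apply2]
  have htrP : tr (U1 * U2) = tr (-B) := by
    rw [hU2e, tr_neg, htrB, hU1]
    simp only [tr, mul_apply2]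
    simp [u, hs]
    field_simp
    simp only [tr]
    ring
  have hP2 : orderOf ((U1 * U2) ^ 2) = m := by
    obtain ⟨c, hc⟩ := isConj_iff.mp (isConj_of_tr_eq htrP (by rw [htrP, tr_neg]; simpa using hB2))
    have h2 : (c * (U1 * U2) * c⁻¹) ^ 2 = c * (U1 * U2) ^ 2 * c⁻¹ := conj_pow ..
    rw [hc, Even.neg_pow even_two] at h2
    rw [← hBo, ← Nat.Coprime.orderOf_pow (y := B) (m := 2) (by rw [hBo]; exact (Nat.coprime_two_right.mpr ⟨b, hb⟩)), h2]
    exact ((MulAut.conj c).orderOf_eq _).symm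
  -- back to `G`
  obtain ⟨c₁, hc₁⟩ := isConj_iff.mp hx
  have hconj : ∀ c : SL(2, F), (V ⊓ Subgroup.centralizer ({((e.symm (c * A0 * c⁻¹) : ↥H) : G)} : Set G)).relIndex V = i := by
    intro c
    rw [map_mul, map_mul, map_inv, hA0, MulEquiv.symm_apply_apply, Subgroup.coe_mul, Subgroup.coe_mul, Subgroup.coe_inv]
    exact relIndex_conj V _ _ (hHV (e.symm c).2)
  set g : ↥H := e.symm ((U1 * U2) ^ 2) with hg
  have hgo : orderOf (g : G) = r ^ (k + 1) := by
    rw [Subgroup.orderOf_coe, hg, MulEquiv.orderOf_eq, hP2]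
  have hg' : (g : G) ^ r ^ k ≠ 1 := by
    intro h
    have := orderOf_dvd_of_pow_eq_one h
    rw [hgo, Nat.pow_dvd_pow_iff_le_right hr.one_lt] at this
    omega
  obtain ⟨dd, hd, hdi, hdd⟩ := free_bound V hVp (g : G) (hHV g.2) hr hgo hrp
    (hfaith _ (H.pow_mem g.2 _) hg')
  have h2n : 2 * n ≤ dd := by
    by_contra h
    exact hmin dd hd (by omega) hdd
  have hle : (V ⊓ Subgroup.centralizer ({(g : G) ^ r ^ k} : Set G)).relIndex V ≤ i * i := by
    set g1 : G := ((e.symm U1 : ↥H) : G)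
    set g2 : G := ((e.symm U2 : ↥H) : G)
    have hsub : (V ⊓ Subgroup.centralizer ({g1} : Set G)) ⊓ (V ⊓ Subgroup.centralizer ({g2} : Set G)) ≤
        V ⊓ Subgroup.centralizer ({(g : G) ^ r ^ k} : Set G) := by
      rintro v ⟨⟨hv, h1⟩, -, h2⟩
      refine ⟨hv, Subgroup.mem_centralizer_iff.mpr fun y hy => ?_⟩
      rw [Set.mem_singleton_iff] at hy
      subst hy
      have c1 : Commute g1 v := Subgroup.mem_centralizer_iff.mp h1 g1 rfl
      have c2 : Commute g2 v := Subgroup.mem_centralizer_iff.mp h2 g2 rfl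
      have : (g : G) = (g1 * g2) ^ 2 := by
        rw [hg, map_pow, map_mul]; rfl
      rw [this]
      exact (((c1.mul_left c2).pow_left 2).pow_left _).eq
    refine (Nat.le_of_dvd (Nat.pos_of_ne_zero Subgroup.index_ne_zero_of_finite)
      (Subgroup.relIndex_dvd_of_le_left V hsub)).trans ((Subgroup.relIndex_inf_le).trans (le_of_eq ?_))
    have e1 : U1 = c₁ * A0 * c₁⁻¹ := hc₁.symm
    have e2 : U2 = (w * d s * c₁) * A0 * (w * d s * c₁)⁻¹ := by
      rw [hU2, show u x = c₁ * A0 * c₁⁻¹ from e1]; group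
    have hi1 := hconj c₁
    have hi2 := hconj (w * d s * c₁)
    rw [← e1] at hi1
    rw [← e2] at hi2
    simp only [g1, g2, hi1, hi2]
  rw [hdi, hd₀, ← pow_add, Nat.pow_le_pow_iff_right (Fact.out : p.Prime).one_lt] at hle
  omega

end Cfsg.Agent.S2788
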