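import Cfsg.Statements.S2830
import Mathlib
import Cfsg.Agent.Lib.LocalBasics
import Cfsg.Agent.Lib.LocCoprime56


set_option autoImplicit false
open Cfsg
open Cfsg.Agent
open scoped commutatorElement

namespace Cfsg.Agent.S2830

theorem isPClosed_equiv {A B : Type*} [Group A] [Group B] [Finite A] {p : ℕ} [Fact p.Prime]
    (e : A ≃* B) (h : Cfsg.IsPClosed p A) : Cfsg.IsPClosed p B := by
  have : Finite B := Finite.of_equiv A e.toEquiv
  refine LocalBasics.isPClosed_iff_pCore.mpr fun Q => ?_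
  intro q hq
  have hQ : IsPGroup p ((Q : Subgroup B).map e.symm.toMonoidHom) := Q.isPGroup'.map _
  obtain ⟨U, hU⟩ := hQ.exists_le_sylow
  have h1 := LocalBasics.isPClosed_iff_pCore.mp h U (hU ⟨q, hq, rfl⟩)
  rw [← HallCore.map_equiv_pCore (p := p) e]
  exact ⟨_, h1, e.apply_symm_apply q⟩

/-- Let H act by conjugation on the elementary abelian p-subgroup V of a finite group G (H ≤ N(V)), with H p-irreducible and O^p(H) not centralizing V. Then C_H(V) is p-closed and C_T(V) ≤ O_p(H) for every p-subgroup T of H. If in addition O_p(H) centralizes V, then C_T(V) = T ∩ O_p(H) for every p-subgroup T of H, and V is p-reduced for H: O_p(H/C_H(V)) = 1. -/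
theorem result {G : Type*} [Group G] [Finite G] {p : ℕ} [Fact p.Prime] (V H : Subgroup G) (hV : Cfsg.IsElementaryAbelian p V) (hHV : H ≤ Subgroup.normalizer (V : Set G)) (hH : Cfsg.IsPIrreducible p ↥H) (hnc : ¬ (Cfsg.pResidual p ↥H).map H.subtype ≤ Subgroup.centralizer (V : Set G)) [hn : ((Subgroup.centralizer (V : Set G)).subgroupOf H).Normal] : Cfsg.IsPClosed p ↥(H ⊓ Subgroup.centralizer (V : Set G)) ∧ (∀ T : Subgroup G, T ≤ H → IsPGroup p ↥T → T ⊓ Subgroup.centralizer (V : Set G) ≤ Cfsg.pCoreOf p H) ∧ (Cfsg.pCoreOf p H ≤ Subgroup.centralizer (V : Set G) → (∀ T : Subgroup G, T ≤ H → IsPGroup p ↥T → T ⊓ Subgroup.centralizer (V : Set G) = T ⊓ Cfsg.pCoreOf p H) ∧ Cfsg.pCore p (↥H ⧸ (Subgroup.centralizer (V : Set G)).subgroupOf H) = ⊥) := by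
  set C := Subgroup.centralizer (V : Set G) with hC
  set N := C.subgroupOf H with hN
  have hRN : ¬ Cfsg.pResidual p ↥H ≤ N := fun h => hnc fun x hx => by
    obtain ⟨r, hr, rfl⟩ := hx
    exact h hr
  have hNc : Cfsg.IsPClosed p ↥N := by
    by_contra h
    exact hRN (hH.2 N hn h)
  have h2 : ∀ T : Subgroup G, T ≤ H → IsPGroup p ↥T → T ⊓ C ≤ Cfsg.pCoreOf p H := by
    intro T hTH hT x hx
    have h3 : IsPGroup p ↥((T ⊓ C).subgroupOf H) := (hT.to_le inf_le_left).comap_subtype
    have h4 := LocalBasics.sylow_le_pCore (hn := hn) hNc h3 (fun y hy => hy.2)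
      (show (⟨x, hTH hx.1⟩ : ↥H) ∈ (T ⊓ C).subgroupOf H from hx)
    exact ⟨⟨x, hTH hx.1⟩, h4, rfl⟩
  refine ⟨?_, h2, fun hOC => ⟨fun T hTH hT => ?_, ?_⟩⟩
  · have e : ↥N ≃* ↥(H ⊓ C) :=
      { toFun := fun x => ⟨x.1.1, x.1.2, x.2⟩
        invFun := fun x => ⟨⟨x.1, x.2.1⟩, x.2.2⟩
        left_inv := fun _ => rfl
        right_inv := fun _ => rfl
        map_mul' := fun _ _ => rfl }
    exact isPClosed_equiv e hNc
  · exact le_antisymm (le_inf inf_le_left (h2 T hTH hT)) (inf_le_inf_left T hOC)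
  · set X := (Cfsg.pCore p (↥H ⧸ N)).comap (QuotientGroup.mk' N) with hX
    have hXn : X.Normal := inferInstance
    have hmem : ∀ g ∈ X, (orderOf g).Coprime p → g ∈ N := by
      intro g hg hco
      exact (QuotientGroup.eq_one_iff g).mp (LocCoprime56.eq_one_of_pGroup
        (HallCore.isPGroup_pCore p _) hg (hco.coprime_dvd_left (orderOf_map_dvd (QuotientGroup.mk' N) g)))
    have hXc : Cfsg.IsPClosed p ↥X := by
      by_contra h
      refine hRN (TransferPResidual.pResidual_le_iff_coprime.mpr fun g hg => hmem g ?_ hg)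
      exact hH.2 X hXn h (TransferPResidual.mem_pResidual_of_coprime hg)
    obtain ⟨P⟩ : Nonempty (Sylow p ↥X) := inferInstance
    have hXN : X ≤ N := by
      intro x hx
      have hm : (⟨x, hx⟩ : ↥X) ∈ (P : Subgroup ↥X) ⊔ Cfsg.pResidual p ↥X := by
        rw [TransferPResidual.sylow_sup_pResidual]; trivial
      refine (sup_le ?_ ?_ : (P : Subgroup ↥X) ⊔ Cfsg.pResidual p ↥X ≤ N.subgroupOf X) hm
      · intro y hy
        have h5 := LocalBasics.sylow_le_pCore (hn := hXn) hXc (P.isPGroup'.map X.subtype)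
          (Subgroup.map_subtype_le _) ⟨y, hy, rfl⟩
        exact hOC ⟨_, h5, rfl⟩
      · exact TransferPResidual.pResidual_le_iff_coprime.mpr fun g hg =>
          hmem g g.2 (by rwa [Subgroup.orderOf_coe])
    refine (Subgroup.eq_bot_iff_forall _).mpr fun x hx => ?_
    obtain ⟨g, rfl⟩ := QuotientGroup.mk_surjective x
    exact (QuotientGroup.eq_one_iff g).mpr (hXN hx)

end Cfsg.Agent.S2830
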