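import Cfsg.Statements.S2121
import Cfsg.Agent.Lib.ChevExcGraphReal
import Cfsg.Agent.Lib.ChevAutTriv

set_option autoImplicit false
open Cfsg

namespace Cfsg.Agent.S2121

/-- Outer automorphisms of the Chevalley groups of type G₂: over a field with q = p^f (p prime) ≥ 3 elements, the outer automorphism group of G₂(q) has order f when p ≠ 3 and 2f when p = 3 (field automorphisms, and in characteristic 3 also the exceptional graph automorphism). -/
theorem result {F : Type*} [Field F] [Fintype F] (p f : ℕ) [Fact p.Prime] [CharP F p] (hF : Fintype.card F = p ^ f) (hq : 3 ≤ p ^ f) : Nat.card (Cfsg.Out ↥(Cfsg.Lie.chevG2.group F)) = (if p = 3 then 2 * f else f) := by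
  obtain ⟨X⟩ := Cfsg.Agent.ChevAutOut.Ctx.exists_ctx (D := Cfsg.Lie.chevG2) (F := F) (by simp)
  rw [Cfsg.Agent.ChevAutSyms.card_out_eq X hF Cfsg.Agent.ChevalleyTorusCard.smithG2]
  simp only [pow_zero, one_mul]
  have hle := Cfsg.Agent.ChevAutSyms.card_range_le X
  rw [Cfsg.Agent.ChevAutSyms.syms_G2] at hle
  split
  · subst p
    haveI : CharP F Cfsg.Agent.ChevExcGraphData.excG2.p := by assumption
    rw [Cfsg.Agent.ChevAutSyms.card_range_eq_two X Cfsg.Agent.ChevExcGraphReal.swG2_facts.1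
      (Cfsg.Agent.ChevExcGraphReal.mem_range Cfsg.Agent.ChevExcGraphData.excG2 (Or.inr rfl)
        Cfsg.Agent.ChevExcGraphReal.onG2 Cfsg.Agent.ChevExcGraphReal.swG2_facts.2 X)
      Cfsg.Agent.ChevAutSyms.syms_G2]
  · rename_i h3
    rw [Cfsg.Agent.ChevAutTriv.trivial_G2 X p h3 (hF ▸ hq), one_mul]

end Cfsg.Agent.S2121
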