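import Cfsg.Statements.S0228
import Cfsg.Agent.Lib.InvolutionCount

set_option autoImplicit false
open Cfsg

namespace Cfsg.Agent.S0228

/-- A group of order 12 in which no involution is central is isomorphic to the alternating group on four letters. -/
theorem result {G : Type*} [Group G] [Finite G] (hG : Nat.card G = 12) (hz : ∀ z : G, orderOf z = 2 → z ∉ Subgroup.center G) : Nonempty (G ≃* alternatingGroup (Fin 4)) := by
  classical
  have : Fact (Nat.Prime 3) := ⟨Nat.prime_three⟩
  have hn3 : Nat.card (Sylow 3 G) = 1 ∨ Nat.card (Sylow 3 G) = 4 := by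
    have h1 := card_sylow_modEq_one 3 G
    obtain ⟨P⟩ : Nonempty (Sylow 3 G) := inferInstance
    have hP : Nat.card P = 3 := by
      rw [P.card_eq_multiplicity, hG, show (12 : ℕ) = 3 ^ 1 * 4 by norm_num,
        Nat.factorization_mul (by norm_num) (by norm_num), Finsupp.add_apply,
        Nat.Prime.factorization_pow Nat.prime_three, Finsupp.single_eq_same,
        Nat.factorization_eq_zero_of_not_dvd (by norm_num), add_zero, pow_one]
    have h2 := P.card_dvd_index
    have h3 := Subgroup.index_mul_card (P : Subgroup G)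
    rw [hG, hP] at h3
    rw [show (P : Subgroup G).index = 4 by omega] at h2
    have : Nat.card (Sylow 3 G) ≤ 4 := Nat.le_of_dvd (by norm_num) h2
    rw [Nat.ModEq] at h1
    omega
  have hP3 : ∀ P : Sylow 3 G, Nat.card P = 3 := fun P => by
    rw [P.card_eq_multiplicity, hG, show (12 : ℕ) = 3 ^ 1 * 4 by norm_num,
      Nat.factorization_mul (by norm_num) (by norm_num), Finsupp.add_apply,
      Nat.Prime.factorization_pow Nat.prime_three, Finsupp.single_eq_same,
      Nat.factorization_eq_zero_of_not_dvd (by norm_num), add_zero, pow_one]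
  have hnn : ∀ P : Sylow 3 G, ¬ (P : Subgroup G).Normal := by
    intro P hPn
    set C := Subgroup.centralizer (P : Set G) with hC
    obtain ⟨⟨x, hx⟩, hx3⟩ := exists_prime_orderOf_dvd_card' (G := P) 3 (by rw [hP3])
    rw [Subgroup.orderOf_mk] at hx3
    have hgen : Subgroup.zpowers x = (P : Subgroup G) :=
      Subgroup.eq_of_le_of_card_ge (Subgroup.zpowers_le.2 hx) (by rw [Nat.card_zpowers, hx3, hP3])
    have hCx : ∀ g, g ∈ C ↔ g * x = x * g := by
      intro g
      rw [hC, show ((P : Set G)) = ((Subgroup.zpowers x : Subgroup G) : Set G) from by rw [hgen]; rfl]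
      constructor
      · exact fun h => (Subgroup.mem_centralizer_iff.1 h x (Subgroup.mem_zpowers x)).symm
      · intro h
        refine Subgroup.mem_centralizer_iff.2 fun y hy => ?_
        obtain ⟨k, rfl⟩ := Subgroup.mem_zpowers_iff.1 hy
        exact ((Commute.zpow_right h k).symm).eq
    have hconj : ∀ g : G, g * x * g⁻¹ = x ∨ g * x * g⁻¹ = x⁻¹ := by
      intro g
      have hm : g * x * g⁻¹ ∈ Subgroup.zpowers x := hgen ▸ hPn.conj_mem x hx g
      obtain ⟨k, hk⟩ := Subgroup.mem_zpowers_iff.1 hm
      rw [← zpow_mod_orderOf, hx3] at hk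
      rcases (by omega : k % 3 = 0 ∨ k % 3 = 1 ∨ k % 3 = 2) with h | h | h <;>
        simp only [Nat.cast_ofNat, h] at hk
      · have : x = 1 := conj_eq_one_iff.1 (by rw [← hk]; simp)
        simp [this] at hx3
      · exact Or.inl (by simpa using hk.symm)
      · refine Or.inr (hk.symm.trans (eq_inv_of_mul_eq_one_left ?_))
        rw [zpow_two, mul_assoc, ← pow_three, ← hx3, pow_orderOf_eq_one]
    have hidx : C.index ≤ 2 := by
      rw [Subgroup.index_eq_card]
      let f : G ⧸ C → Bool := fun c => decide (c.out * x * c.out⁻¹ = x)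
      have hf : Function.Injective f := by
        intro a b h
        have h : (a.out * x * a.out⁻¹ = x) ↔ (b.out * x * b.out⁻¹ = x) := by simpa [f] using h
        have he : a.out * x * a.out⁻¹ = b.out * x * b.out⁻¹ := by
          by_cases ha : a.out * x * a.out⁻¹ = x
          · rw [ha, h.1 ha]
          · rw [(hconj a.out).resolve_left ha,
              (hconj b.out).resolve_left (fun e => ha (h.2 e))]
        rw [← QuotientGroup.out_eq' a, ← QuotientGroup.out_eq' b, QuotientGroup.eq, hCx]
        calc a.out⁻¹ * b.out * x = a.out⁻¹ * (b.out * x * b.out⁻¹) * b.out := by simp [mul_assoc]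
        _ = x * (a.out⁻¹ * b.out) := by rw [← he]; simp [mul_assoc]
      simpa using Nat.card_le_card_of_injective f hf
    have hi := Subgroup.index_mul_card C
    have hi0 : 0 < C.index := Nat.pos_of_ne_zero Subgroup.index_ne_zero_of_finite
    rw [hG] at hi
    obtain ⟨⟨t, htC⟩, ht⟩ := exists_prime_orderOf_dvd_card' (G := C) 2
      (by rcases (by omega : C.index = 1 ∨ C.index = 2) with h | h <;> rw [h] at hi <;>
          [exact ⟨6, by omega⟩; exact ⟨3, by omega⟩])
    rw [Subgroup.orderOf_mk] at ht
    refine hz t ht (Subgroup.mem_center_iff.2 fun g => ?_)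
    rcases (by omega : C.index = 1 ∨ C.index = 2) with h | h
    · -- `P` is central, and an abelian Sylow 2-subgroup containing `t` complements it
      rw [Subgroup.index_eq_one] at h
      have : Fact (Nat.Prime 2) := ⟨Nat.prime_two⟩
      have hp2 : IsPGroup 2 (Subgroup.zpowers t) :=
        IsPGroup.of_card (n := 1) (by rw [Nat.card_zpowers, ht]; norm_num)
      obtain ⟨Q, hQ⟩ := hp2.exists_le_sylow
      have hQ4 : Nat.card Q = 4 := by
        rw [Q.card_eq_multiplicity, hG, show (12 : ℕ) = 2 ^ 2 * 3 by norm_num,
          Nat.factorization_mul (by norm_num) (by norm_num), Finsupp.add_apply,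
          Nat.Prime.factorization_pow Nat.prime_two, Finsupp.single_eq_same,
          Nat.factorization_eq_zero_of_not_dvd (by norm_num)]
        norm_num
      have htQ : t ∈ Q := hQ (Subgroup.mem_zpowers t)
      let Ct := Subgroup.centralizer ({t} : Set G)
      have h1 : (Q : Subgroup G) ≤ Ct := by
        intro q hq
        have hab : ∀ a b : (Q : Subgroup G), a * b = b * a :=
          (IsPGroup.commGroupOfCardEqPrimeSq (p := 2) (G := (Q : Subgroup G))
            (by rw [hQ4]; norm_num)).mul_comm
        exact InvolutionCount.mem_centralizer_singleton.2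
          (congrArg Subtype.val (hab ⟨q, hq⟩ ⟨t, htQ⟩))
      have h2 : (P : Subgroup G) ≤ Ct := fun p hp =>
        InvolutionCount.mem_centralizer_singleton.2 (Subgroup.mem_centralizer_iff.1 htC p hp)
      have d1 := Subgroup.card_dvd_of_le h1
      have d2 := Subgroup.card_dvd_of_le h2
      rw [hQ4] at d1; rw [hP3] at d2
      have : Ct = ⊤ := Subgroup.eq_top_of_card_eq _ (Nat.dvd_antisymm
        (Subgroup.card_subgroup_dvd_card _)
        (by rw [hG]; exact Nat.Coprime.mul_dvd_of_dvd_of_dvd (by norm_num : Nat.Coprime 4 3) d1 d2))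
      exact InvolutionCount.mem_centralizer_singleton.1 (show g ∈ Ct by rw [this]; exact Subgroup.mem_top g)
    · -- `C` has order 6 and a unique involution
      rw [h] at hi
      set u := g * t * g⁻¹ with hu
      have hu2 : orderOf u = 2 := by rw [hu, InvolutionCount.orderOf_conj, ht]
      have huC : u ∈ C := (Subgroup.normal_of_index_eq_two h).conj_mem t htC g
      have hPC : (P : Subgroup G) ≤ C := hgen ▸ Subgroup.zpowers_le.2 ((hCx x).2 rfl)
      have hri : ((P : Subgroup G).subgroupOf C).index = 2 := by
        have h' := Subgroup.index_mul_card ((P : Subgroup G).subgroupOf C)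
        rw [Nat.card_congr (Subgroup.subgroupOfEquivOfLe hPC).toEquiv, hP3] at h'
        omega
      have hnot : ∀ v : G, orderOf v = 2 → v ∉ P := fun v hv hvP => by
        have := Subgroup.orderOf_dvd_natCard _ hvP
        rw [hv, hP3] at this; omega
      have hiff := Subgroup.mul_mem_iff_of_index_two hri (a := ⟨u, huC⟩) (b := ⟨t, htC⟩)
      simp only [Subgroup.mem_subgroupOf, Subgroup.coe_mul] at hiff
      replace hiff : u * t ∈ (P : Subgroup G) := hiff.2 ⟨fun h => absurd h (hnot u hu2), fun h => absurd h (hnot t ht)⟩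
      set y := u * t with hy
      have hyt : Commute y t := Subgroup.mem_centralizer_iff.1 htC y hiff
      have hy2 : y ^ 2 = 1 := by
        have hty : t * y = y * t := hyt.eq.symm
        calc y ^ 2 = u * t * y := by rw [pow_two, ← hy]
        _ = u * (y * t) := by rw [mul_assoc, hty]
        _ = u * u * (t * t) := by rw [hy]; simp [mul_assoc]
        _ = 1 := by rw [InvolutionCount.sq_self hu2, InvolutionCount.sq_self ht, one_mul]
      have hy3 : y ^ 3 = 1 := by
        rw [← hP3 P]
        exact orderOf_dvd_iff_pow_eq_one.1 (Subgroup.orderOf_dvd_natCard _ hiff)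
      have hy1 : u * t = 1 := by
        rw [← hy]; rwa [pow_succ, hy2, one_mul] at hy3
      have : u = t := by rw [eq_inv_of_mul_eq_one_left hy1, InvolutionCount.inv_self ht]
      exact mul_inv_eq_iff_eq_mul.1 this
  rcases hn3 with h1 | h4
  · obtain ⟨P⟩ : Nonempty (Sylow 3 G) := inferInstance
    have := (Nat.card_eq_one_iff_unique.1 h1).1
    exact absurd (Sylow.normal_of_subsingleton P) (hnn P)
  · let φ := MulAction.toPermHom G (Sylow 3 G)
    have hinj : Function.Injective φ := by
      rw [← MonoidHom.ker_eq_bot_iff, Subgroup.eq_bot_iff_forall]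
      intro g hg
      by_contra hg1
      have hn : ∀ P : Sylow 3 G, g • P = P := fun P => Equiv.congr_fun (MonoidHom.mem_ker.1 hg) P
      have hN : ∀ P : Sylow 3 G, Subgroup.normalizer ((P : Subgroup G) : Set G) = P := by
        intro P
        refine (Subgroup.eq_of_le_of_card_ge Subgroup.le_normalizer ?_).symm
        have := Subgroup.index_mul_card (Subgroup.normalizer ((P : Subgroup G) : Set G))
        rw [hG] at this
        have h5 : (Subgroup.normalizer ((P : Subgroup G) : Set G)).index = 4 := P.card_eq_index_normalizer.symm.trans h4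
        rw [h5] at this
        rw [hP3]
        omega
      obtain ⟨P, Q, hPQ⟩ := (Finite.one_lt_card_iff_nontrivial.1 (by omega : 1 < Nat.card (Sylow 3 G))).exists_pair_ne
      have hgP : g ∈ (P : Subgroup G) := hN P ▸ Sylow.smul_eq_iff_mem_normalizer.1 (hn P)
      have hgQ : g ∈ (Q : Subgroup G) := hN Q ▸ Sylow.smul_eq_iff_mem_normalizer.1 (hn Q)
      have ho : orderOf g = 3 := (Nat.dvd_prime Nat.prime_three).1
        (hP3 P ▸ Subgroup.orderOf_dvd_natCard _ hgP) |>.resolve_left (by simpa using hg1)
      have e : ∀ R : Sylow 3 G, g ∈ (R : Subgroup G) → Subgroup.zpowers g = R := fun R hR =>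
        Subgroup.eq_of_le_of_card_ge (Subgroup.zpowers_le.2 hR) (by rw [Nat.card_zpowers, ho, hP3])
      exact hPQ (Sylow.ext ((e P hgP).symm.trans (e Q hgQ)))
    have : Fintype (Sylow 3 G) := Fintype.ofFinite _
    let e : Sylow 3 G ≃ Fin 4 := Fintype.equivFinOfCardEq (by rw [← Nat.card_eq_fintype_card, h4])
    let ψ : G →* Equiv.Perm (Fin 4) := (Equiv.permCongrHom e).toMonoidHom.comp φ
    have hψ : Function.Injective ψ := (Equiv.permCongrHom e).injective.comp hinj
    have hcard : Nat.card ψ.range = 12 := by
      rw [← hG]; exact (Nat.card_congr (MonoidHom.ofInjective hψ).toEquiv).symm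
    have hidx : ψ.range.index = 2 := by
      have := Subgroup.index_mul_card ψ.range
      rw [hcard, Nat.card_perm, Nat.card_eq_fintype_card, Fintype.card_fin,
        show Nat.factorial 4 = 24 by rfl] at this
      omega
    exact ⟨(MonoidHom.ofInjective hψ).trans
      (MulEquiv.subgroupCongr (Equiv.Perm.eq_alternatingGroup_of_index_eq_two hidx))⟩

end Cfsg.Agent.S0228
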