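import Cfsg.Statements.S3334
import Cfsg.Agent.Lib.McLRecogAssemble21

set_option autoImplicit false
open Cfsg

namespace Cfsg.Agent.S3334

/-- Let G be a finite group with an involution t whose centralizer is a non-split double cover of the alternating group of degree 8. Then either G = C_G(t) O_{2'}(G), or G is isomorphic to the McLaughlin group. -/
theorem result {G : Type*} [Group G] [Finite G]
    (t : G) (ht : orderOf t = 2)
    (hcov : Cfsg.IsNonsplitDoubleCover (Subgroup.centralizer ({t} : Set G)) (alternatingGroup (Fin 8))) :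
    Subgroup.centralizer ({t} : Set G) ⊔ Cfsg.oddCore G = ⊤ ∨ Nonempty (G ≃* Cfsg.Spor.McL) := by
  have hCc : Cfsg.IsNonsplitDoubleCover McLInvolution.Cc (alternatingGroup (Fin 8)) :=
    McLInvolution.nonsplit_of_root (MulEquiv.refl _) (MulEquiv.refl _)
  obtain ⟨e⟩ := AltCoverUnique21.cover_unique le_rfl hCc hcov
  let φ : McLInvolution.Cc →* G := (Subgroup.centralizer ({t} : Set G)).subtype.comp e.toMonoidHom
  have hinj : Function.Injective φ := Subtype.val_injective.comp e.injective
  have hτ : φ McLInvolution.τC = t := by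
    have htC : t ∈ Subgroup.centralizer ({t} : Set G) := Subgroup.mem_centralizer_singleton_iff.2 rfl
    have htZ : (⟨t, htC⟩ : Subgroup.centralizer ({t} : Set G)) ∈ Subgroup.center _ :=
      Subgroup.mem_center_iff.2 fun x => Subtype.ext (Subgroup.mem_centralizer_singleton_iff.1 x.2)
    have hne : (⟨t, htC⟩ : Subgroup.centralizer ({t} : Set G)) ≠ 1 := fun h => by
      rw [show t = 1 from congrArg Subtype.val h, orderOf_one] at ht
      exact absurd ht (by norm_num)
    have hz : e McLInvolution.τC ∈ Subgroup.center _ := Subgroup.mem_center_iff.2 fun x => by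
      obtain ⟨c, rfl⟩ := e.surjective x
      rw [← map_mul, ← map_mul, Subgroup.mem_center_iff.1
        (McLInvolution.zpowers_le_center (Subgroup.mem_zpowers _)) c]
    rcases S2493.eq_one_or_eq hcov.1 htZ hne hz with h | h
    · exfalso
      have h2 := McLInvolution.orderOf_τC
      rw [e.injective (h.trans (map_one e).symm), orderOf_one] at h2
      exact absurd h2 (by norm_num)
    · exact congrArg Subtype.val h
  let E : McLRecogSide21.Emb G := ⟨φ, hinj, fun g hg => by
    rw [hτ] at hg
    exact ⟨e.symm ⟨g, Subgroup.mem_centralizer_singleton_iff.2 hg⟩,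
      congrArg Subtype.val (e.apply_symm_apply _)⟩⟩
  rcases McLRecogFusion21.isolated_or E McLRecogCheckSide21.okFus with hi | hc
  · have := McLRecogFusion21.sup_of_isolated E McLRecogCheckSide21.okFus hi
    change Subgroup.centralizer ({φ McLInvolution.τC} : Set G) ⊔ Cfsg.oddCore G = ⊤ at this
    rw [hτ] at this
    exact Or.inl this
  · obtain ⟨H, hG, hF, ⟨f⟩⟩ := Finite.exists_type_univ_nonempty_mulEquiv.{_, 0} G
    haveI : Finite H := @Finite.of_fintype H hF
    let E' : McLRecogSide21.Emb H := ⟨f.toMonoidHom.comp φ, f.injective.comp hinj, fun g hg => by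
      obtain ⟨c, hc⟩ := E.cent (f.symm g) (f.injective (by simpa using hg))
      exact ⟨c, show f (φ c) = g by rw [hc, f.apply_symm_apply]⟩⟩
    obtain ⟨d, hd⟩ := isConj_iff.1 hc
    obtain ⟨ψ, hψ⟩ := McLRecogAssemble21.exists_hom E' (isConj_iff.2 ⟨f d, by
      show f d * f (φ _) * (f d)⁻¹ = f (φ _)
      rw [← map_inv, ← map_mul, ← map_mul]
      exact congrArg f hd⟩)
    obtain ⟨i⟩ := McLInvolution.exists_equiv
    exact Or.inr ⟨(f.trans (MulEquiv.ofBijective ψ ⟨McLRecogAssemble21.hom_injective E' hψ,
      McLRecogAssemble21.hom_surjective E' hψ⟩).symm).trans i.symm⟩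

end Cfsg.Agent.S3334
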