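import Cfsg.Statements.S1580
import Cfsg.Agent.Lib.LeechPairs
import Cfsg.Agent.Lib.LeechCertOrbD

set_option autoImplicit false
open Cfsg
open Cfsg.Agent.LeechBasic Cfsg.Agent.LeechAut Cfsg.Agent.LeechOrbit Cfsg.Agent.LeechCert Cfsg.Agent.LeechPairs

namespace Cfsg.Agent.S1580

/-- The McLaughlin configuration: for u of customary norm 6 and v minimal with u − v minimal, there are 275 further such summands x of customary inner product 2 with v, permuted transitively by the stabiliser of u and v. -/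
theorem result (u v : ↥Cfsg.leechLattice) (hu : Cfsg.sqNorm (u : Cfsg.GolayPt → ℤ) = 48) (hv : Cfsg.sqNorm (v : Cfsg.GolayPt → ℤ) = 32 ∧ Cfsg.sqNorm ((u - v) : Cfsg.GolayPt → ℤ) = 32) : {x : ↥Cfsg.leechLattice | Cfsg.sqNorm (x : Cfsg.GolayPt → ℤ) = 32 ∧ Cfsg.sqNorm ((u - x) : Cfsg.GolayPt → ℤ) = 32 ∧ Cfsg.dotInt (v : Cfsg.GolayPt → ℤ) (x : Cfsg.GolayPt → ℤ) = 16}.ncard = 275 ∧ ∀ x ∈ {x : ↥Cfsg.leechLattice | Cfsg.sqNorm (x : Cfsg.GolayPt → ℤ) = 32 ∧ Cfsg.sqNorm ((u - x) : Cfsg.GolayPt → ℤ) = 32 ∧ Cfsg.dotInt (v : Cfsg.GolayPt → ℤ) (x : Cfsg.GolayPt → ℤ) = 16}, ∀ x' ∈ {x : ↥Cfsg.leechLattice | Cfsg.sqNorm (x : Cfsg.GolayPt → ℤ) = 32 ∧ Cfsg.sqNorm ((u - x) : Cfsg.GolayPt → ℤ) = 32 ∧ Cfsg.dotInt (v : Cfsg.GolayPt → ℤ) (x : Cfsg.GolayPt → ℤ) = 16}, ∃ g : ↥Cfsg.Co0, g • u = u ∧ g • v = v ∧ g • x = x' := by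
  obtain ⟨h, h1, h2⟩ := pair552 hu hv.1 ((sqNorm_sub_eq_iff hu hv.1).mp hv.2)
  have hr : LeechXi.isL (vec LeechCert.OrbD.root) = true := by decide +kernel
  have hiff : ∀ x : leechLattice, (sqNorm (x : GolayPt → ℤ) = 32 ∧ sqNorm ((u - x) : GolayPt → ℤ) = 32 ∧
      dotInt (v : GolayPt → ℤ) x = 16) ↔ h • x ∈ census (cV, cX, c0) 32 (24, 16, 0) := fun x => by
    rw [mem_census₂, sqNorm_smul, dotInt_eq_of_smul h1 coe_leechV, dotInt_eq_of_smul h2 coe_negU]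
    exact and_congr_right fun hx => and_congr_left fun _ => sqNorm_sub_eq_iff hu hx
  refine ⟨(ncard_of_smul h hiff).trans LeechCert.OrbD.ncard, fun x hx x' hx' => ?_⟩
  obtain ⟨g, hg, hgx⟩ := exists_fixes_smul LeechCert.OrbD.cert LeechCert.OrbD.ncard (by norm_num) (by norm_num)
    (a := Spor.leechV) (b := -Spor.leechU) (c := 0) coe_leechV coe_negU coe_zero_vec (r := ofCode _ hr) rfl
    (mem_census₂.mpr (by rw [coe_ofCode]; decide +kernel)) ((hiff x).mp hx) ((hiff x').mp hx')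
  exact ⟨h⁻¹ * g * h, by rw [mul_smul, mul_smul, h1, hg _ (Or.inl coe_leechV), inv_smul_eq_iff, h1],
    by rw [mul_smul, mul_smul, h2, hg _ (Or.inr (Or.inl coe_negU)), inv_smul_eq_iff, h2],
    by rw [mul_smul, mul_smul, hgx, inv_smul_smul]⟩

end Cfsg.Agent.S1580
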