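import Cfsg.Statements.S1581
import Cfsg.Agent.Lib.LeechPairs
import Cfsg.Agent.Lib.LeechCertOrbD
import Cfsg.Agent.Lib.LeechCertOrbEa
import Cfsg.Agent.Lib.LeechCertOrbEb

set_option autoImplicit false
open Cfsg
open Cfsg.Agent.LeechBasic Cfsg.Agent.LeechAut Cfsg.Agent.LeechOrbit Cfsg.Agent.LeechCert Cfsg.Agent.LeechPairs

namespace Cfsg.Agent.S1581

/-- The McLaughlin group acts with rank 3 and subdegrees 1, 112, 162 on its 275 points: the point stabiliser has two orbits on the remaining points, distinguished by customary inner product 1 or 2 with the fixed point. -/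
theorem result (u v x : ↥Cfsg.leechLattice) (hu : Cfsg.sqNorm (u : Cfsg.GolayPt → ℤ) = 48) (hv : Cfsg.sqNorm (v : Cfsg.GolayPt → ℤ) = 32 ∧ Cfsg.sqNorm ((u - v) : Cfsg.GolayPt → ℤ) = 32) (hx : x ∈ {x : ↥Cfsg.leechLattice | Cfsg.sqNorm (x : Cfsg.GolayPt → ℤ) = 32 ∧ Cfsg.sqNorm ((u - x) : Cfsg.GolayPt → ℤ) = 32 ∧ Cfsg.dotInt (v : Cfsg.GolayPt → ℤ) (x : Cfsg.GolayPt → ℤ) = 16}) : {y : ↥Cfsg.leechLattice | y ∈ {x : ↥Cfsg.leechLattice | Cfsg.sqNorm (x : Cfsg.GolayPt → ℤ) = 32 ∧ Cfsg.sqNorm ((u - x) : Cfsg.GolayPt → ℤ) = 32 ∧ Cfsg.dotInt (v : Cfsg.GolayPt → ℤ) (x : Cfsg.GolayPt → ℤ) = 16} ∧ Cfsg.dotInt (x : Cfsg.GolayPt → ℤ) (y : Cfsg.GolayPt → ℤ) = 8}.ncard = 112 ∧ {y : ↥Cfsg.leechLattice | y ∈ {x : ↥Cfsg.leechLattice | Cfsg.sqNorm (x : Cfsg.GolayPt → ℤ) = 32 ∧ Cfsg.sqNorm ((u - x) : Cfsg.GolayPt → ℤ) = 32 ∧ Cfsg.dotInt (v : Cfsg.GolayPt → ℤ) (x : Cfsg.GolayPt → ℤ) = 16} ∧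 y ≠ x ∧ Cfsg.dotInt (x : Cfsg.GolayPt → ℤ) (y : Cfsg.GolayPt → ℤ) = 16}.ncard = 162 ∧ ∀ y ∈ {x : ↥Cfsg.leechLattice | Cfsg.sqNorm (x : Cfsg.GolayPt → ℤ) = 32 ∧ Cfsg.sqNorm ((u - x) : Cfsg.GolayPt → ℤ) = 32 ∧ Cfsg.dotInt (v : Cfsg.GolayPt → ℤ) (x : Cfsg.GolayPt → ℤ) = 16}, ∀ y' ∈ {x : ↥Cfsg.leechLattice | Cfsg.sqNorm (x : Cfsg.GolayPt → ℤ) = 32 ∧ Cfsg.sqNorm ((u - x) : Cfsg.GolayPt → ℤ) = 32 ∧ Cfsg.dotInt (v : Cfsg.GolayPt → ℤ) (x : Cfsg.GolayPt → ℤ) = 16}, y ≠ x → y' ≠ x → Cfsg.dotInt (x : Cfsg.GolayPt → ℤ) (y : Cfsg.GolayPt → ℤ) = Cfsg.dotInt (x : Cfsg.GolayPt → ℤ) (y' : Cfsg.GolayPt → ℤ) → ∃ g : ↥Cfsg.Co0, g • u = u ∧ g • v = v ∧ g • x = x ∧ g • y = y' := by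
  obtain ⟨hx32, hxu, hxv⟩ := hx
  obtain ⟨h₀, p1, p2⟩ := pair552 hu hv.1 ((sqNorm_sub_eq_iff hu hv.1).mp hv.2)
  have hr : LeechXi.isL (vec LeechCert.OrbD.root) = true := by decide +kernel
  have hra : LeechXi.isL (vec LeechCert.OrbEa.root) = true := by decide +kernel
  have hrb : LeechXi.isL (vec LeechCert.OrbEb.root) = true := by decide +kernel
  set r : leechLattice := ofCode _ hr
  have hrm : r ∈ census (cV, cX, c0) 32 (24, 16, 0) := mem_census₂.mpr (by rw [coe_ofCode]; decide +kernel)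
  obtain ⟨g₀, q1, q2⟩ := exists_fixes_smul LeechCert.OrbD.cert LeechCert.OrbD.ncard (by norm_num) (by norm_num)
    (a := Spor.leechV) (b := -Spor.leechU) (c := 0) coe_leechV coe_negU coe_zero_vec (r := r) rfl
    hrm (x := h₀ • x) (mem_census₂.mpr ⟨by rw [sqNorm_smul]; exact hx32,
      (dotInt_eq_of_smul p1 coe_leechV _).trans ((sqNorm_sub_eq_iff hu hx32).mp hxu),
      (dotInt_eq_of_smul p2 coe_negU _).trans hxv⟩) hrm
  obtain ⟨h, h1, h2, h3⟩ : ∃ h : Co0, h • u = Spor.leechV ∧ h • v = -Spor.leechU ∧ h • x = r :=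
    ⟨g₀ * h₀, by rw [mul_smul, p1, q1 _ (Or.inl coe_leechV)],
      by rw [mul_smul, p2, q1 _ (Or.inr (Or.inl coe_negU))], by rw [mul_smul, q2]⟩
  clear g₀ q1 q2 h₀ p1 p2
  let Q : leechLattice → Prop := fun y => sqNorm (y : GolayPt → ℤ) = 32 ∧
    sqNorm ((u - y) : GolayPt → ℤ) = 32 ∧ dotInt (v : GolayPt → ℤ) y = 16
  have hiff : ∀ y, Q y ↔ h • y ∈ census (cV, cX, c0) 32 (24, 16, 0) := fun y => by
    rw [mem_census₂, sqNorm_smul, dotInt_eq_of_smul h1 coe_leechV, dotInt_eq_of_smul h2 coe_negU]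
    exact and_congr_right fun hy => and_congr_left fun _ => sqNorm_sub_eq_iff hu hy
  have hiff3 : ∀ (k : ℤ) (y : leechLattice), (Q y ∧ dotInt (x : GolayPt → ℤ) y = k) ↔
      h • y ∈ census (cV, cX, LeechCert.OrbD.root) 32 (24, 16, k) := fun k y => by
    rw [mem_census₃, hiff y, mem_census₂, dotInt_eq_of_smul h3 (coe_ofCode _ hr), and_assoc, and_assoc]
  have hA : {y : leechLattice | Q y ∧ dotInt (x : GolayPt → ℤ) y = 8}.ncard = 112 :=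
    (ncard_of_smul h (hiff3 8)).trans LeechCert.OrbEa.ncard
  have hB : {y : leechLattice | Q y ∧ dotInt (x : GolayPt → ℤ) y = 16}.ncard = 162 :=
    (ncard_of_smul h (hiff3 16)).trans LeechCert.OrbEb.ncard
  have hxx : dotInt (x : GolayPt → ℤ) x = 32 := by
    rw [← hx32, sqNorm, dotInt]; exact Finset.sum_congr rfl fun i _ => (sq _).symm
  refine ⟨hA, ?_, ?_⟩
  · rw [← hB]
    refine congrArg Set.ncard (Set.ext fun y => ?_)
    exact ⟨fun ⟨a, _, b⟩ => ⟨a, b⟩, fun ⟨a, b⟩ => ⟨a, fun e => by rw [e, hxx] at b; omega, b⟩⟩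
  · intro y hy y' hy' hne hne' heq
    have hS : {y : leechLattice | Q y}.ncard = 275 := (ncard_of_smul h hiff).trans LeechCert.OrbD.ncard
    have hcov := eq_or_of_card_split hS (x := x) (show Q x from ⟨hx32, hxu, hxv⟩)
      (fun z => dotInt (x : GolayPt → ℤ) z) 8 16 (by norm_num) (by rw [hxx]; norm_num) (by rw [hxx]; norm_num)
      hA hB (by norm_num) (by norm_num) (y := y) hy hne
    obtain ⟨g, hg, hgy⟩ : ∃ g : Co0, Fixes (cV, cX, LeechCert.OrbD.root) g ∧ g • (h • y) = h • y' := by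
      rcases hcov with e | e
      · exact exists_fixes_smul LeechCert.OrbEa.cert LeechCert.OrbEa.ncard (by norm_num) (by norm_num)
          (a := Spor.leechV) (b := -Spor.leechU) (c := r) coe_leechV coe_negU rfl (r := ofCode _ hra) rfl
          (mem_census₃.mpr (by rw [coe_ofCode]; decide +kernel))
          ((hiff3 8 y).mp ⟨hy, e⟩) ((hiff3 8 y').mp ⟨hy', heq.symm.trans e⟩)
      · exact exists_fixes_smul LeechCert.OrbEb.cert LeechCert.OrbEb.ncard (by norm_num) (by norm_num)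
          (a := Spor.leechV) (b := -Spor.leechU) (c := r) coe_leechV coe_negU rfl (r := ofCode _ hrb) rfl
          (mem_census₃.mpr (by rw [coe_ofCode]; decide +kernel))
          ((hiff3 16 y).mp ⟨hy, e⟩) ((hiff3 16 y').mp ⟨hy', heq.symm.trans e⟩)
    exact ⟨h⁻¹ * g * h, by rw [mul_smul, mul_smul, h1, hg _ (Or.inl coe_leechV), inv_smul_eq_iff, h1],
      by rw [mul_smul, mul_smul, h2, hg _ (Or.inr (Or.inl coe_negU)), inv_smul_eq_iff, h2],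
      by rw [mul_smul, mul_smul, h3, hg _ (Or.inr (Or.inr rfl)), inv_smul_eq_iff, h3],
      by rw [mul_smul, mul_smul, hgy, inv_smul_smul]⟩

end Cfsg.Agent.S1581
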