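import Cfsg.Statements.S1582
import Cfsg.Agent.Lib.LeechUnitaryStab
import Cfsg.Agent.Lib.LeechUnitary43
import Cfsg.Agent.Lib.LeechCertOrbD

set_option autoImplicit false
open Cfsg
open Cfsg.Agent.GolayBasic Cfsg.Agent.LeechBasic Cfsg.Agent.LeechAut Cfsg.Agent.LeechXi Cfsg.Agent.LeechOrbit
open Cfsg.Agent.LeechCert Cfsg.Agent.LeechPairs Cfsg.Agent.LeechImage

namespace Cfsg.Agent.S1582

/-- The point stabiliser in the rank-3 action of the McLaughlin group on 275 points is isomorphic to PSU(4, 3). -/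
theorem result (u v x : ↥Cfsg.leechLattice) (hu : Cfsg.sqNorm (u : Cfsg.GolayPt → ℤ) = 48) (hv : Cfsg.sqNorm (v : Cfsg.GolayPt → ℤ) = 32 ∧ Cfsg.sqNorm ((u - v) : Cfsg.GolayPt → ℤ) = 32) (hx : x ∈ {x : ↥Cfsg.leechLattice | Cfsg.sqNorm (x : Cfsg.GolayPt → ℤ) = 32 ∧ Cfsg.sqNorm ((u - x) : Cfsg.GolayPt → ℤ) = 32 ∧ Cfsg.dotInt (v : Cfsg.GolayPt → ℤ) (x : Cfsg.GolayPt → ℤ) = 16}) (F : Type) [Field F] [Fintype F] (hF : Fintype.card F = 9) : Nonempty (↥(MulAction.stabilizer ↥Cfsg.Co0 u ⊓ MulAction.stabilizer ↥Cfsg.Co0 v ⊓ MulAction.stabilizer ↥Cfsg.Co0 x) ≃* Cfsg.PSU 4 F 3) := by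
  obtain ⟨hx32, hxu, hxv⟩ := hx
  obtain ⟨h₀, p1, p2⟩ := pair552 hu hv.1 ((sqNorm_sub_eq_iff hu hv.1).mp hv.2)
  have hr : LeechXi.isL (vec LeechCert.OrbD.root) = true := by decide +kernel
  set r : leechLattice := ofCode _ hr with hrdef
  have hrm : r ∈ census (cV, cX, c0) 32 (24, 16, 0) := mem_census₂.mpr (by rw [hrdef, coe_ofCode]; decide +kernel)
  have htr : ∀ {x y : leechLattice}, x ∈ census (cV, cX, c0) 32 (24, 16, 0) →
      y ∈ census (cV, cX, c0) 32 (24, 16, 0) → ∃ g : Co0, Fixes (cV, cX, c0) g ∧ g • x = y := fun hx hy =>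
    exists_fixes_smul LeechCert.OrbD.cert LeechCert.OrbD.ncard (by norm_num) (by norm_num)
      (a := Spor.leechV) (b := -Spor.leechU) (c := 0) coe_leechV coe_negU coe_zero_vec (r := r) rfl hrm hx hy
  obtain ⟨g, hg, hgx⟩ := htr (x := h₀ • x) (mem_census₂.mpr ⟨by rw [sqNorm_smul]; exact hx32,
      (dotInt_eq_of_smul p1 coe_leechV _).trans ((sqNorm_sub_eq_iff hu hx32).mp hxu),
      (dotInt_eq_of_smul p2 coe_negU _).trans hxv⟩) hrm
  obtain ⟨e₁⟩ := LeechUnitaryStab.nonempty_conj (g * h₀)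
    (MulAction.stabilizer Co0 u ⊓ MulAction.stabilizer Co0 v ⊓ MulAction.stabilizer Co0 x)
    (a' := Spor.leechV) (b' := -Spor.leechU) (c' := r)
    (by rw [mul_smul, p1, hg _ (Or.inl coe_leechV)]) (by rw [mul_smul, p2, hg _ (Or.inr (Or.inl coe_negU))])
    (by rw [mul_smul, hgx]) (fun k => by simp [and_assoc])
  have hcard : Nat.card ↥(stab3 Spor.leechV (-Spor.leechU) r) = 3265920 := by
    have h1 := LeechUnitaryStab.census_mul_card (F := (cV, cX, c0)) (a := Spor.leechV) (b := -Spor.leechU)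
      (c := (0 : leechLattice)) coe_leechV coe_negU coe_zero_vec (y := r) (fun z hz => htr hrm hz) hrm
    have e₂ : stab3 Spor.leechV (-Spor.leechU) (0 : leechLattice) ⊓ MulAction.stabilizer Co0 r =
        stab3 Spor.leechV (-Spor.leechU) r := by
      ext k; simp [smul_zero_vec]
    have e₃ : stab3 Spor.leechV (-Spor.leechU) (0 : leechLattice) =
        MulAction.stabilizer Co0 Spor.leechV ⊓ MulAction.stabilizer Co0 (-Spor.leechU) := by
      ext k; simp [smul_zero_vec]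
    rw [show (census (cV, cX, c0) 32 (24, 16, 0)).ncard = 275 from LeechCert.OrbD.ncard, e₂, e₃,
      LeechCertOrders.card_stab_pair552 (u := Spor.leechV) (x := -Spor.leechU) sqNorm_leechV (by decide +kernel)
        (by decide +kernel)] at h1
    omega
  obtain ⟨e₄⟩ := LeechUnitary43.nonempty_stab_iso (a := Spor.leechV) (b := -Spor.leechU) (c := r)
    coe_leechV coe_negU rfl hcard F hF
  exact ⟨e₁.trans e₄⟩

end Cfsg.Agent.S1582
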