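import Cfsg.Statements.S0293
import Cfsg.Agent.Lib.OrthUnitaryStd
-- import your own Cfsg.Agent.* helpers here

set_option autoImplicit false
open Cfsg
open Cfsg.Agent.OrthUnitaryQuad Cfsg.Agent.OrthUnitaryRefl Cfsg.Agent.OrthUnitaryOmega Cfsg.Agent.OrthUnitaryPrelude

namespace Cfsg.Agent.S0293

/-- gcd(4, q^m - 1) |PΩ^+_{2m}(q)| = q^(m(m-1)) (q^m - 1) prod_{i=1}^{m-1} (q^(2i) - 1), m at least 4 (type D_m). -/
theorem result {F : Type*} [Field F] [Fintype F] {q : ℕ} (hF : Fintype.card F = q) (m : ℕ) (hm : 4 ≤ m) : Nat.gcd 4 (q ^ m - 1) * Nat.card (Cfsg.POmega F (Cfsg.quadFormPlus m F)) = q ^ (m * (m - 1)) * (q ^ m - 1) * ∏ i ∈ Finset.range (m - 1), (q ^ (2 * (i + 1)) - 1) := by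
  classical
  obtain ⟨m, rfl⟩ : ∃ k, m = k + 1 := ⟨m - 1, by omega⟩
  have h := OrthUnitaryStd.card_POmega_withBase (OrthUnitaryStd.nondegenerate_qfNil (F := F)) (m + 1)
    (by omega) (by omega) (Or.inl (by omega)) (Cfsg.quadFormPlus (m + 1) F)
    (OrthUnitaryForms.eqPlus (m + 1)) (OrthUnitaryForms.eqPlus_isometry (m + 1))
  rw [OrthUnitaryForms.card_isometryGroup_plus hF m] at h
  have hq : 1 < q := by rw [← hF]; exact Fintype.one_lt_card
  have hp : 1 ≤ q ^ (m + 1) := Nat.one_le_pow _ _ (by omega)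
  rw [Nat.add_sub_cancel]
  by_cases h2 : (2 : F) = 0
  · rw [if_pos h2] at h
    haveI : CharP F 2 := CharTwo.of_one_ne_zero_of_two_eq_zero one_ne_zero h2
    obtain ⟨n, -, hn⟩ := FiniteField.card F 2
    have heven : 2 ∣ q ^ (m + 1) := dvd_pow (by rw [← hF, hn]; exact dvd_pow_self 2 n.pos.ne') (by omega)
    have hg : Nat.gcd 4 (q ^ (m + 1) - 1) = 1 :=
      Nat.Coprime.pow_left 2 ((Nat.Prime.coprime_iff_not_dvd Nat.prime_two).2 (by omega))
    rw [hg, one_mul]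
    simp only [mul_assoc] at h ⊢
    omega
  · rw [if_neg h2] at h
    have hodd : Odd q := Nat.odd_iff.2 (hF ▸ card_mod_two h2)
    have hmod : q ^ (m + 1) % 2 = 1 := Nat.odd_iff.1 hodd.pow
    simp only [OrthUnitaryStd.negOne_mem_plus hF hodd (m + 1)] at h
    have h2d : q ^ (m + 1) % 4 = 1 → Nat.gcd 4 (q ^ (m + 1) - 1) = 4 := fun h4 =>
      Nat.gcd_eq_left (by omega)
    have h3d : q ^ (m + 1) % 4 = 3 → Nat.gcd 4 (q ^ (m + 1) - 1) = 2 := fun h4 => by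
      rw [Nat.gcd_rec, show (q ^ (m + 1) - 1) % 4 = 2 by omega]
      rfl
    simp only [mul_assoc] at h ⊢
    split_ifs at h with h4
    · rw [h2d h4]; omega
    · rw [h3d (by omega)]; omega

end Cfsg.Agent.S0293
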