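import Cfsg.Statements.S0296
import Cfsg.Agent.Lib.OrthUnitarySimpleStd
-- import your own Cfsg.Agent.* helpers here

set_option autoImplicit false
open Cfsg
open Cfsg.Agent.OrthUnitaryQuad Cfsg.Agent.OrthUnitaryRefl Cfsg.Agent.OrthUnitaryOmega Cfsg.Agent.OrthUnitaryPrelude

namespace Cfsg.Agent.S0296

/-- PΩ^+_{2m}(q) is simple for m at least 4. -/
theorem result {F : Type*} [Field F] [Fintype F] (m : ℕ) (hm : 4 ≤ m) : IsSimpleGroup (Cfsg.POmega F (Cfsg.quadFormPlus m F)) := by
  exact OrthUnitarySimpleStd.isSimpleGroup_POmega _ _ (OrthUnitaryForms.eqPlus m) (OrthUnitaryForms.eqPlus_isometry m)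
    (OrthUnitaryStd.nondegenerate_withBase OrthUnitaryStd.nondegenerate_qfNil m)
    (by rw [OrthUnitaryStd.finrank_withBase_space, Module.finrank_fintype_fun_eq_card]; simp; omega)

end Cfsg.Agent.S0296
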