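import Cfsg.Statements.S5515
import Cfsg.Agent.S2608
import Cfsg.Agent.S0296
import Cfsg.Agent.Lib.ComponentsFitting
-- import your own Cfsg.Agent.* helpers here

set_option autoImplicit false
open Cfsg

namespace Cfsg.Agent.S5515

theorem conj_six {H H' : Subgroup (Equiv.Perm (Fin 4))} (hH : Nat.card H = 6) (hH' : Nat.card H' = 6) :
    ∃ g : Equiv.Perm (Fin 4), H.map (MulAut.conj g).toMonoidHom = H' := by
  have h24 : Nat.card (Equiv.Perm (Fin 4)) = 24 := by
    simp [Fintype.card_perm, Nat.factorial]
  haveI : Fact (Nat.Prime 3) := ⟨by norm_num⟩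
  have key : ∀ K : Subgroup (Equiv.Perm (Fin 4)), Nat.card K = 6 →
      ∃ P : Sylow 3 (Equiv.Perm (Fin 4)),
        Subgroup.normalizer ((P : Subgroup (Equiv.Perm (Fin 4))) : Set _) = K := by
    intro K hK
    obtain ⟨x, hx⟩ := exists_prime_orderOf_dvd_card' (G := K) 3 (by rw [hK]; norm_num)
    have hx' : orderOf (x : Equiv.Perm (Fin 4)) = 3 := by rw [Subgroup.orderOf_coe]; exact hx
    set X := Subgroup.zpowers (x : Equiv.Perm (Fin 4)) with hX
    have hXc : Nat.card X = 3 := by rw [Nat.card_zpowers, hx']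
    have hPc : Nat.card X = 3 ^ (Nat.card (Equiv.Perm (Fin 4))).factorization 3 := by
      rw [hXc, h24, show (24 : ℕ) = 2 ^ 3 * 3 by norm_num,
        Nat.factorization_mul (by norm_num) (by norm_num), Finsupp.add_apply,
        Nat.Prime.factorization_pow (by norm_num), Nat.Prime.factorization_self (by norm_num)]
      simp
    let P : Sylow 3 (Equiv.Perm (Fin 4)) := Sylow.ofCard X hPc
    refine ⟨P, ?_⟩
    show Subgroup.normalizer (X : Set (Equiv.Perm (Fin 4))) = K
    have hle : K ≤ Subgroup.normalizer (X : Set (Equiv.Perm (Fin 4))) := by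
      have hXK : X ≤ K := by rw [hX, Subgroup.zpowers_le]; exact x.2
      have hidx : (X.subgroupOf K).index = 2 := by
        have h := (X.subgroupOf K).card_mul_index
        rw [Nat.card_congr (Subgroup.subgroupOfEquivOfLe hXK).toEquiv, hXc, hK] at h
        omega
      haveI := Subgroup.normal_of_index_eq_two hidx
      exact Subgroup.normal_subgroupOf_iff_le_normalizer hXK |>.mp inferInstance
    have hne : Subgroup.normalizer (X : Set (Equiv.Perm (Fin 4))) ≠ ⊤ := by
      intro htop
      haveI hn : X.Normal := Subgroup.normalizer_eq_top_iff.mp htop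
      have hsub : ∀ g : Equiv.Perm (Fin 4), g ^ 3 = 1 → g ∈ X := by
        intro g hg
        have hp : IsPGroup 3 (Subgroup.zpowers g) := by
          refine IsPGroup.of_card (n := if g = 1 then 0 else 1) ?_
          rw [Nat.card_zpowers]
          split_ifs with h
          · rw [h, orderOf_one, pow_zero]
          · rw [pow_one]; exact orderOf_eq_prime hg h
        obtain ⟨Q, hQ⟩ := hp.exists_le_sylow
        haveI := Sylow.unique_of_normal P hn
        rw [Subsingleton.elim Q P] at hQ
        exact hQ (Subgroup.mem_zpowers g)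
      have h9 : Fintype.card {g : Equiv.Perm (Fin 4) // g ^ 3 = 1} = 9 := by decide
      have hle9 : Nat.card {g : Equiv.Perm (Fin 4) // g ^ 3 = 1} ≤ Nat.card X :=
        Nat.card_le_card_of_injective (fun g => (⟨g.1, hsub g.1 g.2⟩ : X))
          fun a b h => Subtype.ext (congrArg (fun z : X => z.1) h)
      rw [Nat.card_eq_fintype_card, h9, hXc] at hle9
      omega
    symm
    refine Subgroup.eq_of_le_of_card_ge hle ?_
    rw [hK]
    by_contra hlt
    have hmod := card_sylow_modEq_one 3 (Equiv.Perm (Fin 4))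
    rw [Sylow.card_eq_index_normalizer P] at hmod
    change (Subgroup.normalizer (X : Set (Equiv.Perm (Fin 4)))).index ≡ 1 [MOD 3] at hmod
    have hmul := (Subgroup.normalizer (X : Set (Equiv.Perm (Fin 4)))).card_mul_index
    rw [h24] at hmul
    have hd : 6 ∣ Nat.card (Subgroup.normalizer (X : Set (Equiv.Perm (Fin 4)))) := hK ▸ Subgroup.card_dvd_of_le hle
    obtain ⟨k, hk⟩ := hd
    rw [hk] at hmul hlt
    set i := (Subgroup.normalizer (X : Set (Equiv.Perm (Fin 4)))).index with hi
    have hi1 : i ≠ 1 := fun h => hne (Subgroup.index_eq_one.mp h)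
    have hik : k * i = 4 := by nlinarith
    have hk2 : k ≤ 4 := Nat.le_of_dvd (by norm_num) ⟨i, hik.symm⟩
    have hi2 : i ≤ 4 := Nat.le_of_dvd (by norm_num) ⟨k, by rw [← hik, mul_comm]⟩
    unfold Nat.ModEq at hmod
    interval_cases k <;> interval_cases i <;> omega
  obtain ⟨P, hP⟩ := key H hH
  obtain ⟨P', hP'⟩ := key H' hH'
  obtain ⟨g, hg⟩ := MulAction.exists_smul_eq (Equiv.Perm (Fin 4)) P P'
  refine ⟨g, ?_⟩
  rw [← hP, ← hP', ← hg, Subgroup.map_equiv_normalizer_eq, Sylow.coe_subgroup_smul]
  rfl

theorem conj_of_equiv {A B : Type*} [Group A] [Group B] (e : A ≃* B) (H H' : Subgroup A)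
    (h : ∃ g : B, (H.map e.toMonoidHom).map (MulAut.conj g).toMonoidHom = H'.map e.toMonoidHom) :
    ∃ a : A, H.map (MulAut.conj a).toMonoidHom = H' := by
  obtain ⟨g, hg⟩ := h
  refine ⟨e.symm g, Subgroup.map_injective (f := e.toMonoidHom) e.injective ?_⟩
  rw [← hg, Subgroup.map_map, Subgroup.map_map]
  congr 1
  ext x
  simp

theorem exists_embedding {G : Type*} [Group G] [Finite G] {K : Type} [Group K]
    (hcK : Subgroup.center K = ⊥) [hn : (Cfsg.generalizedFittingSubgroup G).Normal]
    (e : ↥(Cfsg.generalizedFittingSubgroup G) ≃* K)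
    (hq : G ⧸ Cfsg.generalizedFittingSubgroup G ≃* Equiv.Perm (Fin 3)) :
    ∃ φ : G →* MulAut K, Function.Injective φ ∧ Inn K ≤ φ.range ∧
      Nat.card (φ.range.map (QuotientGroup.mk' (Inn K))) = 6 := by
  set φ : G →* MulAut K := (MulAut.congr e).toMonoidHom.comp MulAut.conjNormal with hφ
  have hcoe : ∀ f : ↥(Cfsg.generalizedFittingSubgroup G), φ (f : G) = MulAut.conj (e f) := by
    intro f
    apply MulEquiv.ext
    intro y
    show e (MulAut.conjNormal (f : G) (e.symm y)) = e f * y * (e f)⁻¹
    have h : MulAut.conjNormal (f : G) (e.symm y) = f * e.symm y * f⁻¹ :=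
      Subtype.ext (by simp [MulAut.conjNormal_apply])
    rw [h, map_mul, map_mul, map_inv, e.apply_symm_apply]
  have hinj : Function.Injective φ := by
    rw [injective_iff_map_eq_one]
    intro g hg
    have hc : g ∈ Subgroup.centralizer (Cfsg.generalizedFittingSubgroup G : Set G) := by
      rw [Subgroup.mem_centralizer_iff]
      intro f hf
      have h : e (MulAut.conjNormal g (⟨f, hf⟩ : ↥(Cfsg.generalizedFittingSubgroup G))) = e ⟨f, hf⟩ := by
        have := MulEquiv.congr_fun hg (e ⟨f, hf⟩)
        simpa [hφ] using this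
      have h2 : g * f * g⁻¹ = f := by
        simpa [MulAut.conjNormal_apply] using congrArg Subtype.val (e.injective h)
      exact (mul_inv_eq_iff_eq_mul.mp h2).symm
    have hmem := ComponentsFitting.centralizer_gen_le hc
    have hz : e ⟨g, hmem⟩ ∈ Subgroup.center K := by
      rw [Subgroup.mem_center_iff]
      intro y
      obtain ⟨x, rfl⟩ := e.surjective y
      rw [← map_mul, ← map_mul]
      exact congrArg e (Subtype.ext (Subgroup.mem_centralizer_iff.mp hc x x.2))
    rw [hcK, Subgroup.mem_bot, MulEquiv.map_eq_one_iff] at hz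
    exact congrArg Subtype.val hz
  refine ⟨φ, hinj, ?_, ?_⟩
  · rintro _ ⟨k, rfl⟩
    exact ⟨(e.symm k : G), by rw [hcoe, e.apply_symm_apply]⟩
  · rw [← MonoidHom.range_comp]
    have hker : ((QuotientGroup.mk' (Inn K)).comp φ).ker = Cfsg.generalizedFittingSubgroup G := by
      ext g
      rw [MonoidHom.mem_ker, MonoidHom.comp_apply, QuotientGroup.mk'_apply, QuotientGroup.eq_one_iff]
      constructor
      · rintro ⟨k, hk⟩
        have : φ g = φ (e.symm k : G) := by rw [hcoe, e.apply_symm_apply]; exact hk.symm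
        rw [hinj this]; exact (e.symm k).2
      · intro hg
        exact ⟨e ⟨g, hg⟩, (hcoe ⟨g, hg⟩).symm⟩
    rw [← Subgroup.index_ker, hker, Subgroup.index_eq_card, Nat.card_congr hq.toEquiv]
    simp [Fintype.card_perm, Nat.factorial]

theorem main {G G' : Type*} [Group G] [Finite G] [Group G'] [Finite G'] {K : Type} [Group K] [IsSimpleGroup K]
    [Finite K] (o : Cfsg.Out K ≃* Equiv.Perm (Fin 4))
    [hn : (Cfsg.generalizedFittingSubgroup G).Normal] [hn' : (Cfsg.generalizedFittingSubgroup G').Normal]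
    (e : ↥(Cfsg.generalizedFittingSubgroup G) ≃* K) (e' : ↥(Cfsg.generalizedFittingSubgroup G') ≃* K)
    (q : G ⧸ Cfsg.generalizedFittingSubgroup G ≃* Equiv.Perm (Fin 3))
    (q' : G' ⧸ Cfsg.generalizedFittingSubgroup G' ≃* Equiv.Perm (Fin 3)) : Nonempty (G ≃* G') := by
  have hcK : Subgroup.center K = ⊥ := by
    refine (IsSimpleGroup.eq_bot_or_eq_top_of_normal (Subgroup.center K) inferInstance).resolve_right fun htop => ?_
    -- an abelian simple group has abelian automorphism group, so abelian outer group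
    have hab : ∀ a b : K, a * b = b * a := fun a b =>
      Subgroup.mem_center_iff.mp (htop ▸ Subgroup.mem_top b) a
    letI : CommGroup K := { (inferInstance : Group K) with mul_comm := hab }
    haveI : IsCyclic K := IsSimpleGroup.isCyclic
    let ea := (IsCyclic.mulAutMulEquiv K)
    obtain ⟨a, ha⟩ := QuotientGroup.mk_surjective (o.symm (Equiv.swap 0 1))
    obtain ⟨b, hb⟩ := QuotientGroup.mk_surjective (o.symm (Equiv.swap 1 2))
    have hcomm : a * b = b * a := by
      have h : ea (a * b) = ea (b * a) := by rw [map_mul, map_mul]; exact mul_comm _ _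
      exact ea.injective h
    have : o (QuotientGroup.mk (a * b)) = o (QuotientGroup.mk (b * a)) := by rw [hcomm]
    rw [QuotientGroup.mk_mul, QuotientGroup.mk_mul, map_mul, map_mul, ha, hb, o.apply_symm_apply,
      o.apply_symm_apply] at this
    revert this
    decide
  obtain ⟨φ, hinj, hle, hcard⟩ := exists_embedding hcK e q
  obtain ⟨φ', hinj', hle', hcard'⟩ := exists_embedding hcK e' q'
  set π := QuotientGroup.mk' (Inn K) with hπ
  obtain ⟨a, ha⟩ := conj_of_equiv o (φ.range.map π) (φ'.range.map π) (conj_six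
    (by rw [Subgroup.card_map_of_injective o.injective]; exact hcard)
    (by rw [Subgroup.card_map_of_injective o.injective]; exact hcard'))
  obtain ⟨b, rfl⟩ := QuotientGroup.mk'_surjective (Inn K) a
  have hmap : φ.range.map (MulAut.conj b).toMonoidHom = φ'.range := by
    have h : (φ.range.map (MulAut.conj b).toMonoidHom).map π = φ'.range.map π := by
      rw [← ha, Subgroup.map_map, Subgroup.map_map]
      rfl
    have hn : Inn K ≤ φ.range.map (MulAut.conj b).toMonoidHom := by
      intro x hx
      refine ⟨b⁻¹ * x * b, hle ?_, by simp [mul_assoc]⟩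
      exact Subgroup.Normal.conj_mem' inferInstance x hx b
    have h' := congrArg (Subgroup.comap π) h
    rwa [Subgroup.comap_map_eq, Subgroup.comap_map_eq, hπ, QuotientGroup.ker_mk', sup_eq_left.mpr hn,
      sup_eq_left.mpr hle'] at h'
  refine ⟨(MonoidHom.ofInjective hinj).trans ((Subgroup.equivMapOfInjective φ.range _
    (MulAut.conj b).injective).trans ((MulEquiv.subgroupCongr hmap).trans
    (MonoidHom.ofInjective hinj').symm))⟩


/-- Let G and G′ be finite groups whose generalized Fitting subgroups are isomorphic to PΩ⁺(8, 3) (the commutator subgroup of the isometry group of the hyperbolic quadratic form in dimension 8 over the field with three elements, modulo its centre) with quotients isomorphic to the symmetric group of degree 3. Then G and G′ are isomorphic. -/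
theorem result {G G' : Type*} [Group G] [Finite G] [Group G'] [Finite G'] (hF : Nonempty (↥(Cfsg.generalizedFittingSubgroup G) ≃* Cfsg.POmega (ZMod 3) (Cfsg.quadFormPlus 4 (ZMod 3)))) (hF' : Nonempty (↥(Cfsg.generalizedFittingSubgroup G') ≃* Cfsg.POmega (ZMod 3) (Cfsg.quadFormPlus 4 (ZMod 3)))) [hn : (Cfsg.generalizedFittingSubgroup G).Normal] [hn' : (Cfsg.generalizedFittingSubgroup G').Normal] (hq : Nonempty (G ⧸ Cfsg.generalizedFittingSubgroup G ≃* Equiv.Perm (Fin 3))) (hq' : Nonempty (G' ⧸ Cfsg.generalizedFittingSubgroup G' ≃* Equiv.Perm (Fin 3))) : Nonempty (G ≃* G') := by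
  haveI : Fact (Nat.Prime 3) := ⟨Nat.prime_three⟩
  have hout := S2608.result (F := ZMod 3) (p := 3) (f := 1) (m := 4) le_rfl (by simp) (by norm_num) le_rfl
  rw [if_pos rfl] at hout
  obtain ⟨eo⟩ := hout
  haveI : Subsingleton (Multiplicative (ZMod 1)) := inferInstanceAs (Subsingleton (Fin 1))
  haveI : Unique (Multiplicative (ZMod 1)) := ⟨⟨1⟩, fun a => Subsingleton.elim _ _⟩
  haveI : IsSimpleGroup (Cfsg.POmega (ZMod 3) (Cfsg.quadFormPlus 4 (ZMod 3))) := S0296.result 4 le_rfl
  obtain ⟨e⟩ := hF
  obtain ⟨e'⟩ := hF'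
  obtain ⟨q⟩ := hq
  obtain ⟨q'⟩ := hq'
  haveI : Finite (Cfsg.POmega (ZMod 3) (Cfsg.quadFormPlus 4 (ZMod 3))) := Finite.of_equiv _ e.toEquiv
  exact main (eo.trans MulEquiv.prodUnique) e e' q q'

end Cfsg.Agent.S5515
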