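import Cfsg.Statements.S0102
import Cfsg.Agent.Lib.TransferPow
-- import your own Cfsg.Agent.* helpers here

set_option autoImplicit false
open Cfsg

namespace Cfsg.Agent.S0102

/-- A finite perfect group with cyclic Sylow p-subgroups has no perfect central extension whose kernel has order divisible by p. -/
theorem result {G : Type*} {H : Type*} [Group G] [Group H] [Finite G] [Finite H] (hG : commutator G = ⊤) {p : ℕ} [Fact p.Prime] (hcyc : ∀ P : Sylow p G, IsCyclic P) (σ : H →* G) (hσ : Function.Surjective σ) (hz : σ.ker ≤ Subgroup.center H) (hH : commutator H = ⊤) : ¬ p ∣ Nat.card σ.ker := by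
  intro hd
  have hzc := hz
  have _ := hG
  obtain ⟨z, hz⟩ := exists_prime_orderOf_dvd_card' p hd
  obtain ⟨P, hP⟩ := IsPGroup.exists_le_sylow (p := p) (P := Subgroup.zpowers (z : H))
    (IsPGroup.of_card (n := 1) (by rw [Nat.card_zpowers, Subgroup.orderOf_coe, hz, pow_one]))
  have hc := hcyc (P.mapSurjective hσ)
  rw [Sylow.coe_mapSurjective] at hc
  let f : (P : Subgroup H) →* (P : Subgroup H).map σ := σ.subgroupMap (P : Subgroup H)
  have hker : f.ker ≤ Subgroup.center (P : Subgroup H) := by
    intro x hx
    have h1 : (x : H) ∈ Subgroup.center H := hzc (congrArg Subtype.val hx)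
    rw [Subgroup.mem_center_iff] at h1 ⊢
    intro y
    exact Subtype.ext (h1 y)
  have : IsMulCommutative (P : Subgroup H) := ⟨⟨fun a b => commutative_of_cyclic_center_quotient f hker a b⟩⟩
  have h1 : (z : H) = 1 := TransferPow.eq_one_of_mem_center_commutator (H := (P : Subgroup H))
    (hP (Subgroup.mem_zpowers _)) (hzc z.2) (hH ▸ Subgroup.mem_top _)
    (by rw [Subgroup.orderOf_coe, hz]
        exact Nat.coprime_comm.mp ((Nat.Prime.coprime_iff_not_dvd Fact.out).mpr P.not_dvd_index))
  rw [← Subgroup.orderOf_coe, h1, orderOf_one] at hz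
  exact (Fact.out : p.Prime).one_lt.ne hz
end Cfsg.Agent.S0102
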