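import Cfsg.Statements.S2581
import Cfsg.Agent.Lib.JordanTypeBasic
import Cfsg.Agent.Lib.PSLCard

set_option autoImplicit false
open Cfsg

namespace Cfsg.Agent.S2581

open Matrix
open Cfsg.Agent.JordanType

variable {F : Type*} [Field F] {t : ℕ} {d : Fin t → ℕ}

/-- first columns -/
def W (d : Fin t → ℕ) (F : Type*) [Field F] : Type _ :=
  {w : Ix d → Fin t → F // ∀ (p : Ix d) (a : Fin t), (p.2 : ℕ) + d a < d p.1 → w p a = 0}

/-- the matrix with given first columns -/
def mkX (w : Ix d → Fin t → F) : Matrix (Ix d) (Ix d) F :=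
  Matrix.of fun p q => if (q.2 : ℕ) ≤ p.2 then w ⟨p.1, ⟨p.2 - q.2, lt_of_le_of_lt (Nat.sub_le _ _) p.2.2⟩⟩ q.1 else 0

theorem sh_mul_apply (X : Matrix (Ix d) (Ix d) F) (k : ℕ) (p q : Ix d) :
    (sh d F k * X) p q = if k ≤ (p.2 : ℕ) then X ⟨p.1, ⟨p.2 - k, lt_of_le_of_lt (Nat.sub_le _ _) p.2.2⟩⟩ q else 0 := by
  rw [Matrix.mul_apply]
  split_ifs with h
  · rw [Finset.sum_eq_single (⟨p.1, ⟨p.2 - k, lt_of_le_of_lt (Nat.sub_le _ _) p.2.2⟩⟩ : Ix d)]
    · simp [sh, Nat.sub_add_cancel h]
    · rintro ⟨a, i⟩ - hne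
      simp only [sh, Matrix.of_apply]
      rw [if_neg, zero_mul]
      rintro ⟨rfl, h'⟩
      exact hne (congrArg (Sigma.mk _) (Fin.ext (by simp only; omega)))
    · simp
  · refine Finset.sum_eq_zero fun r _ => ?_
    simp only [sh, Matrix.of_apply]
    rw [if_neg, zero_mul]
    rintro ⟨-, h'⟩
    omega

theorem mul_sh_apply (X : Matrix (Ix d) (Ix d) F) (k : ℕ) (p q : Ix d) :
    (X * sh d F k) p q = if h : (q.2 : ℕ) + k < d q.1 then X p ⟨q.1, ⟨q.2 + k, h⟩⟩ else 0 := by
  rw [Matrix.mul_apply]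
  split_ifs with h
  · rw [Finset.sum_eq_single (⟨q.1, ⟨q.2 + k, h⟩⟩ : Ix d)]
    · simp [sh]
    · rintro ⟨a, i⟩ - hne
      simp only [sh, Matrix.of_apply]
      rw [if_neg, mul_zero]
      rintro ⟨rfl, h'⟩
      exact hne (congrArg (Sigma.mk _) (Fin.ext (by simp only; omega)))
    · simp
  · refine Finset.sum_eq_zero fun r _ => ?_
    simp only [sh, Matrix.of_apply]
    rw [if_neg, mul_zero]
    rintro ⟨h0, h'⟩
    have := r.2.2
    have : d r.1 = d q.1 := by rw [h0]
    omega

theorem mkX_commute (w : W d F) : mkX w.1 * sh d F 1 = sh d F 1 * mkX w.1 := by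
  ext ⟨b, l⟩ ⟨a, i⟩
  rw [mul_sh_apply, sh_mul_apply]
  simp only [mkX, Matrix.of_apply]
  split_ifs <;> first | rfl | (exfalso; omega) | skip
  · exact congrArg (fun z => w.1 ⟨_, z⟩ _) (Fin.ext (by simp only; omega))
  · symm; refine w.2 _ _ ?_; simp only; omega

/-- first columns of a commuting matrix -/
theorem exists_mkX (hd : ∀ k, 1 ≤ d k) (X : Matrix (Ix d) (Ix d) F) (hX : X * sh d F 1 = sh d F 1 * X) :
    ∃ w : W d F, mkX w.1 = X := by
  have hk : ∀ k, X * sh d F k = sh d F k * X := fun k => by rw [← sh_pow]; exact (Commute.pow_right hX k).eq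
  let w : Ix d → Fin t → F := fun p a => X p ⟨a, ⟨0, hd a⟩⟩
  have hw : ∀ p a, (p.2 : ℕ) + d a < d p.1 → w p a = 0 := by
    intro p a h
    have := congrFun (congrFun (hk (d a)) ⟨p.1, ⟨(p.2 : ℕ) + d a, h⟩⟩) ⟨a, ⟨0, hd a⟩⟩
    rw [mul_sh_apply, sh_mul_apply, dif_neg (by simp), if_pos (Nat.le_add_left _ _)] at this
    simp only [Nat.add_sub_cancel] at this
    exact this.symm
  refine ⟨⟨w, hw⟩, ?_⟩
  ext ⟨b, l⟩ ⟨a, i⟩
  have := congrFun (congrFun (hk i) (⟨b, l⟩ : Ix d)) ⟨a, ⟨0, hd a⟩⟩
  rw [mul_sh_apply, sh_mul_apply, dif_pos (by simp only; omega)] at this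
  simp only [zero_add, Fin.eta] at this
  rw [this]
  rfl

theorem mkX_injective (hd : ∀ k, 1 ≤ d k) {w w' : W d F} (h : mkX w.1 = mkX w'.1) : w = w' := by
  refine Subtype.ext (funext fun p => funext fun a => ?_)
  have := congrFun (congrFun h p) ⟨a, ⟨0, hd a⟩⟩
  simpa [mkX] using this

/-- the socle part -/
def soc (d : Fin t → ℕ) (c : Fin t → F) : Ix d → F := fun p => if (p.2 : ℕ) + 1 = d p.1 then c p.1 else 0

/-- the action on the socle -/
def socMap (d : Fin t → ℕ) (hd : ∀ k, 1 ≤ d k) (w : Ix d → Fin t → F) (c : Fin t → F) : Fin t → F :=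
  fun b => ∑ a, if d a ≤ d b then w ⟨b, ⟨d b - d a, by have := hd a; have := hd b; omega⟩⟩ a * c a else 0

theorem mkX_soc (hd : ∀ k, 1 ≤ d k) (w : W d F) (c : Fin t → F) : mkX w.1 *ᵥ soc d c = soc d (socMap d hd w.1 c) := by
  funext p
  obtain ⟨b, l⟩ := p
  simp only [Matrix.mulVec, dotProduct]
  rw [Fintype.sum_sigma]
  simp only [soc, socMap]
  have hcol : ∀ a, ∑ i : Fin (d a), mkX w.1 ⟨b, l⟩ ⟨a, i⟩ * (if (i : ℕ) + 1 = d a then c a else 0) =
      if d a ≤ (l : ℕ) + 1 then w.1 ⟨b, ⟨(l : ℕ) + 1 - d a, by have := hd a; omega⟩⟩ a * c a else 0 := by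
    intro a
    rw [Finset.sum_eq_single (⟨d a - 1, by have := hd a; omega⟩ : Fin (d a))]
    · have := hd a
      rw [if_pos (by simp only; omega)]
      simp only [mkX, Matrix.of_apply]
      by_cases h : d a ≤ (l : ℕ) + 1
      · rw [if_pos h, if_pos (show d a - 1 ≤ (l : ℕ) by omega)]
        exact congrArg (fun z => w.1 ⟨b, z⟩ a * c a) (Fin.ext (by simp only; omega))
      · rw [if_neg h, if_neg (show ¬ d a - 1 ≤ (l : ℕ) by omega), zero_mul]
    · intro i _ hi
      rw [if_neg, mul_zero]
      exact fun h => hi (Fin.ext (by simp only; omega))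
    · simp
  simp only [hcol]
  split_ifs with hl
  · refine Finset.sum_congr rfl fun a _ => ?_
    simp only [hl]
  · refine Finset.sum_eq_zero fun a _ => ?_
    split_ifs with h
    · rw [w.2 _ _ (by simp only; omega), zero_mul]
    · rfl

theorem mkX_injective_iff (hd : ∀ k, 1 ≤ d k) (w : W d F) :
    IsUnit (mkX w.1) ↔ Function.Injective (socMap d hd w.1) := by
  rw [← Matrix.mulVec_injective_iff_isUnit]
  have hsoc : ∀ c c' : Fin t → F, soc d c = soc d c' → c = c' := by
    intro c c' h
    funext a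
    have := congrFun h ⟨a, ⟨d a - 1, by have := hd a; omega⟩⟩
    simpa [soc, Nat.sub_add_cancel (hd a)] using this
  constructor
  · intro h c c' hcc
    exact hsoc _ _ (h (by rw [mkX_soc hd w, mkX_soc hd w, hcc]))
  · intro h
    have key : ∀ k v, sh d F k *ᵥ v = 0 → mkX w.1 *ᵥ v = 0 → v = 0 := by
      intro k
      induction k with
      | zero =>
        intro v hv _
        rw [← sh_pow, pow_zero, Matrix.one_mulVec] at hv
        exact hv
      | succ k ih =>
        intro v hv hXv
        have h1 : sh d F 1 *ᵥ v = 0 := by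
          refine ih _ ?_ ?_
          · rw [Matrix.mulVec_mulVec, sh_mul_one]; exact hv
          · rw [Matrix.mulVec_mulVec, mkX_commute, ← Matrix.mulVec_mulVec, hXv, Matrix.mulVec_zero]
        have h2 : v = soc d (fun a => v ⟨a, ⟨d a - 1, by have := hd a; omega⟩⟩) := by
          funext p
          obtain ⟨a, l⟩ := p
          simp only [soc]
          split_ifs with hl
          · exact congrArg (fun z => v ⟨a, z⟩) (Fin.ext (by simp only; omega))
          · have := congrFun h1 (⟨a, ⟨l + 1, by omega⟩⟩ : Ix d)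
            rw [Matrix.mulVec, dotProduct, Pi.zero_apply, Finset.sum_eq_single (⟨a, l⟩ : Ix d)] at this
            · simpa [sh] using this
            · rintro ⟨c, i⟩ - hne
              simp only [sh, Matrix.of_apply]
              rw [if_neg, zero_mul]
              rintro ⟨rfl, h'⟩
              exact hne (congrArg (Sigma.mk _) (Fin.ext (by omega)))
            · simp
        rw [h2] at hXv ⊢
        rw [mkX_soc hd w] at hXv
        have h0 : soc d (0 : Fin t → F) = 0 := by funext p; simp [soc]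
        have hz : socMap d hd w.1 0 = 0 := by funext b; simp [socMap]
        rw [h ((hsoc _ 0 (hXv.trans h0.symm)).trans hz.symm), h0]
    intro u v huv
    refine sub_eq_zero.1 (key (∑ a, d a) _ ?_ ?_)
    · funext p
      simp only [Matrix.mulVec, dotProduct, Pi.zero_apply]
      refine Finset.sum_eq_zero fun r _ => ?_
      simp only [sh, Matrix.of_apply]
      rw [if_neg, zero_mul]
      rintro ⟨-, h'⟩
      have := Finset.single_le_sum (fun a _ => Nat.zero_le (d a)) (Finset.mem_univ p.1)
      have := p.2.2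
      omega
    · rw [Matrix.mulVec_sub, huv, sub_self]

/-- size of a fiber -/
def cnt (d : Fin t → ℕ) (j : ℕ) : ℕ := (Finset.univ.filter fun k => d k = j).card

/-- enumerating a fiber -/
noncomputable def fe (d : Fin t → ℕ) (j : ℕ) : Fin (cnt d j) ≃ {a : Fin t // d a = j} :=
  (Fintype.equivFinOfCardEq (by rw [Fintype.card_subtype]; rfl)).symm

/-- diagonal block -/
noncomputable def blockT (hd : ∀ k, 1 ≤ d k) (w : Ix d → Fin t → F) (j : ℕ) :
    Matrix (Fin (cnt d j)) (Fin (cnt d j)) F :=
  Matrix.of fun x y => w ⟨(fe d j x).1, ⟨0, hd _⟩⟩ (fe d j y).1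

theorem socMap_injective_iff [Fintype F] (hd : ∀ k, 1 ≤ d k) (w : W d F) :
    Function.Injective (socMap d hd w.1) ↔ ∀ j, IsUnit (blockT hd w.1 j) := by
  classical
  have hrow : ∀ c j x, (∀ a, d a < j → c a = 0) →
      socMap d hd w.1 c (fe d j x).1 = (blockT hd w.1 j *ᵥ fun y => c (fe d j y).1) x := by
    intro c j x hc
    obtain ⟨b, hb, hbx⟩ : ∃ b, d b = j ∧ (fe d j x).1 = b := ⟨_, (fe d j x).2, rfl⟩
    have hRHS : (blockT hd w.1 j *ᵥ fun y => c (fe d j y).1) x = ∑ y, w.1 ⟨b, ⟨0, hd b⟩⟩ (fe d j y).1 * c (fe d j y).1 := by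
      subst hbx; rfl
    rw [hbx, hRHS]
    simp only [socMap]
    rw [Equiv.sum_comp (fe d j) (fun a => w.1 ⟨b, ⟨0, hd b⟩⟩ a.1 * c a.1),
      ← Finset.sum_subtype (Finset.univ.filter fun a => d a = j) (fun a => by simp) (fun a => w.1 ⟨b, ⟨0, hd b⟩⟩ a * c a),
      Finset.sum_filter]
    refine Finset.sum_congr rfl fun a _ => ?_
    rcases lt_trichotomy (d a) (d b) with h | h | h
    · rw [if_pos h.le, if_neg (by omega), hc a (by omega), mul_zero]
    · rw [if_pos h.le, if_pos (h.trans hb)]
      exact congrArg (fun z => w.1 ⟨b, z⟩ a * c a) (Fin.ext (by simp only; omega))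
    · rw [if_neg h.not_ge, if_neg (by omega)]
  have hlin : ∀ c c', socMap d hd w.1 (c - c') = socMap d hd w.1 c - socMap d hd w.1 c' := by
    intro c c'; funext b
    simp only [socMap, Pi.sub_apply, ← Finset.sum_sub_distrib]
    exact Finset.sum_congr rfl fun a _ => by split_ifs <;> ring
  constructor
  · intro hinj j
    rw [← Matrix.mulVec_injective_iff_isUnit]
    intro z z' hzz
    let Z := {c : Fin t → F // ∀ a, d a ≤ j → c a = 0}
    have hres : ∀ c : Z, ∀ b, d b ≤ j → socMap d hd w.1 c.1 b = 0 := by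
      intro c b hb
      refine Finset.sum_eq_zero fun a _ => ?_
      split_ifs with h
      · rw [c.2 a (h.trans hb), mul_zero]
      · rfl
    let f : Z → Z := fun c => ⟨socMap d hd w.1 c.1, hres c⟩
    have hf : Function.Surjective f := Finite.injective_iff_surjective.1 fun c c' h =>
      Subtype.ext (hinj (congrArg Subtype.val h))
    let c : Fin t → F := fun a => if h : d a = j then (z - z') ((fe d j).symm ⟨a, h⟩) else 0
    have hsum : ∀ b, d b ≤ j → socMap d hd w.1 c b = 0 := by
      intro b hb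
      rcases hb.lt_or_eq with h | h
      · refine Finset.sum_eq_zero fun a _ => ?_
        split_ifs with h'
        · rw [show c a = 0 from dif_neg (by omega), mul_zero]
        · rfl
      · obtain ⟨x, hx⟩ := (fe d j).surjective ⟨b, h⟩
        rw [show b = (fe d j x).1 by rw [hx], hrow c j x fun a ha => dif_neg ha.ne]
        have : (fun y => c (fe d j y).1) = z - z' := by
          funext y
          simp only [c, dif_pos (fe d j y).2, Subtype.coe_eta, Equiv.symm_apply_apply]
        rw [this, Matrix.mulVec_sub, hzz, sub_self]; rfl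
    obtain ⟨⟨c', hc'⟩, hcc⟩ := hf ⟨socMap d hd w.1 c, hsum⟩
    have hce : c' = c := hinj (congrArg Subtype.val hcc)
    funext y
    have := hc' (fe d j y).1 (fe d j y).2.le
    rw [hce] at this
    simp only [c, dif_pos (fe d j y).2, Subtype.coe_eta, Equiv.symm_apply_apply] at this
    exact sub_eq_zero.1 this
  · intro hT c c' hcc
    have h0 : socMap d hd w.1 (c - c') = 0 := by rw [hlin, hcc, sub_self]
    suffices ∀ j a, d a = j → (c - c') a = 0 by funext a; exact sub_eq_zero.1 (this _ a rfl)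
    intro j
    induction j using Nat.strong_induction_on with
    | _ j ih =>
      intro a ha
      subst ha
      have hz : blockT hd w.1 (d a) *ᵥ (fun y => (c - c') (fe d (d a) y).1) = 0 := by
        funext x
        rw [← hrow (c - c') (d a) x fun e he => ih (d e) he e rfl, h0]
        rfl
      have := congrFun (Matrix.mulVec_injective_iff_isUnit.2 (hT (d a)) (hz.trans (Matrix.mulVec_zero _).symm))
        ((fe d (d a)).symm ⟨a, rfl⟩)
      simpa using this

theorem sum_min (d : Fin t → ℕ) (hd : ∀ k, 1 ≤ d k) :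
    (2 * (∑ i ∈ Finset.range (Finset.univ.sup d + 1), ∑ j ∈ Finset.range (Finset.univ.sup d + 1),
        if i < j then i * cnt d i * cnt d j else 0) +
      ∑ i ∈ Finset.range (Finset.univ.sup d + 1), (i - 1) * cnt d i ^ 2) +
      ∑ i ∈ Finset.range (Finset.univ.sup d + 1), cnt d i ^ 2 = ∑ a, ∑ b, min (d a) (d b) := by
  set R := Finset.range (Finset.univ.sup d + 1) with hR
  have hmem : ∀ a, d a ∈ R := fun a => Finset.mem_range.2 (Nat.lt_succ_of_le (Finset.le_sup (Finset.mem_univ a)))
  have hfib : ∀ f : ℕ → ℕ, ∑ a, f (d a) = ∑ i ∈ R, cnt d i * f i := by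
    intro f
    rw [← Finset.sum_fiberwise_of_maps_to (g := d) (t := R) fun a _ => hmem a]
    refine Finset.sum_congr rfl fun i _ => ?_
    rw [Finset.sum_congr rfl fun a ha => by rw [(Finset.mem_filter.1 ha).2], Finset.sum_const, smul_eq_mul]
    rfl
  rw [hfib (fun x => ∑ b, min x (d b))]
  simp only [hfib]
  conv_rhs => simp only [Finset.mul_sum]
  have hsym : ∑ i ∈ R, ∑ j ∈ R, (if j < i then j * cnt d j * cnt d i else 0) =
      ∑ i ∈ R, ∑ j ∈ R, (if i < j then i * cnt d i * cnt d j else 0) := Finset.sum_comm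
  have hdiag : ∀ g : ℕ → ℕ, ∑ i ∈ R, g i = ∑ i ∈ R, ∑ j ∈ R, (if i = j then g i else 0) := fun g =>
    Finset.sum_congr rfl fun i hi => by rw [Finset.sum_ite_eq, if_pos hi]
  rw [two_mul]
  nth_rewrite 1 [← hsym]
  rw [hdiag fun i => (i - 1) * cnt d i ^ 2, hdiag fun i => cnt d i ^ 2]
  simp only [← Finset.sum_add_distrib]
  refine Finset.sum_congr rfl fun i _ => Finset.sum_congr rfl fun j _ => ?_
  rcases lt_trichotomy i j with h | h | h
  · rw [if_neg h.asymm, if_pos h, if_neg h.ne, if_neg h.ne, min_eq_left h.le]; ring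
  · subst h
    rw [if_neg (lt_irrefl i), if_pos rfl, if_pos rfl, min_self]
    rcases i with _ | i
    · have : cnt d 0 = 0 := by
        rw [cnt, Finset.card_eq_zero, Finset.filter_eq_empty_iff]
        exact fun a _ => Nat.one_le_iff_ne_zero.1 (hd a)
      simp [this]
    · rw [Nat.add_sub_cancel]; ring
  · rw [if_pos h, if_neg h.asymm, if_neg h.ne', if_neg h.ne', min_eq_right h.le]; ring

theorem card_fin_window (n k : ℕ) : (Finset.univ.filter fun l : Fin n => n ≤ (l : ℕ) + k).card = min k n := by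
  rw [show (Finset.univ.filter fun l : Fin n => n ≤ (l : ℕ) + k) = Finset.univ.filter (fun l : Fin n => n - k ≤ (l : ℕ)) by
    ext l; simp only [Finset.mem_filter, Finset.mem_univ, true_and]; omega]
  rw [← Fintype.card_subtype]
  let e : {l : Fin n // n - k ≤ (l : ℕ)} ≃ Fin (min k n) :=
    { toFun := fun l => ⟨l.1 - (n - k), by have := l.1.2; omega⟩
      invFun := fun i => ⟨⟨i + (n - k), by have := i.2; omega⟩, Nat.le_add_left _ _⟩
      left_inv := fun l => by ext; have := l.2; simp only; omega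
      right_inv := fun i => by ext; simp only; omega }
  rw [Fintype.card_congr e, Fintype.card_fin]

/-- Order of the centraliser in GL of a unipotent matrix of given Jordan type over the field with q elements: if the type has a_i blocks of size i (all block sizes at least 1), the invertible matrices commuting with it number q^γ · Π_i |GL_(a_i)(q)| with γ = 2 Σ_(i<j) i a_i a_j + Σ_i (i − 1) a_i² (a group of order q^γ extended by Π GL_(a_i)(q)). -/
theorem result {F : Type*} [Field F] [Fintype F] {q : ℕ} (hF : Fintype.card F = q) {t : ℕ} (d : Fin t → ℕ) (hd : ∀ k, 1 ≤ d k) : Nat.card {g : GL ((k : Fin t) × Fin (d k)) F // (g : Matrix ((k : Fin t) × Fin (d k)) ((k : Fin t) × Fin (d k)) F) * Cfsg.jordanTypeMatrix d F = Cfsg.jordanTypeMatrix d F * (g : Matrix ((k : Fin t) × Fin (d k)) ((k : Fin t) × Fin (d k)) F)} = q ^ (2 * (∑ i ∈ Finset.range (Finset.univ.sup d + 1), ∑ j ∈ Finset.range (Finset.univ.sup d + 1), if i < j then i * (Finset.univ.filter (fun k : Fin t => d k = i)).card * (Finset.univ.filter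 (fun k : Fin t => d k = j)).card else 0) + ∑ i ∈ Finset.range (Finset.univ.sup d + 1), (i - 1) * (Finset.univ.filter (fun k : Fin t => d k = i)).card ^ 2) * ∏ i ∈ Finset.range (Finset.univ.sup d + 1), ∏ j : Fin ((Finset.univ.filter (fun k : Fin t => d k = i)).card), (q ^ (Finset.univ.filter (fun k : Fin t => d k = i)).card - q ^ (j : ℕ)) := by
  classical
  have hJ : ∀ g : Matrix (Ix d) (Ix d) F, g * Cfsg.jordanTypeMatrix d F = Cfsg.jordanTypeMatrix d F * g ↔
      g * sh d F 1 = sh d F 1 * g := fun g => by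
    rw [jordanTypeMatrix_eq, mul_add, add_mul, mul_one, one_mul, add_right_inj]
  let M := Finset.univ.sup d
  have hM : ∀ a, d a < M + 1 := fun a => Nat.lt_succ_of_le (Finset.le_sup (Finset.mem_univ a))
  -- centraliser = first columns with invertible blocks
  have hU : ∀ w : W d F, IsUnit (mkX w.1) ↔ ∀ j : Fin (M + 1), IsUnit (blockT hd w.1 j) := by
    intro w
    rw [mkX_injective_iff hd w, socMap_injective_iff hd w]
    refine ⟨fun h j => h j, fun h j => ?_⟩
    by_cases hj : j < M + 1
    · exact h ⟨j, hj⟩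
    · haveI : IsEmpty (Fin (cnt d j)) := by
        refine ⟨fun x => ?_⟩
        have := (fe d j x).2
        have := hM (fe d j x).1
        omega
      exact isUnit_of_subsingleton _
  rw [Nat.card_congr (Equiv.subtypeEquivRight fun g => hJ _)]
  let S := {w : W d F // ∀ j : Fin (M + 1), IsUnit (blockT hd w.1 j)}
  have h1 : Nat.card {g : GL (Ix d) F // (g : Matrix (Ix d) (Ix d) F) * sh d F 1 = sh d F 1 * (g : Matrix (Ix d) (Ix d) F)} = Nat.card S := by
    refine (Nat.card_eq_of_bijective (fun w : S => ⟨((hU w.1).2 w.2).unit, mkX_commute w.1⟩) ⟨?_, ?_⟩).symm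
    · intro w w' h
      have h' := congrArg (fun g => ((g : {g : GL (Ix d) F // _}).1 : Matrix (Ix d) (Ix d) F)) h
      exact Subtype.ext (mkX_injective hd h')
    · rintro ⟨g, hg⟩
      obtain ⟨w, hw⟩ := exists_mkX hd g.1 hg
      exact ⟨⟨w, (hU w).1 (hw ▸ g.isUnit)⟩, Subtype.ext (Units.ext hw)⟩
  rw [h1]
  -- coordinates
  let P : Ix d × Fin t → Prop := fun x => d x.1.1 ≤ (x.1.2 : ℕ) + d x.2
  let D : Ix d × Fin t → Prop := fun x => (x.1.2 : ℕ) = 0 ∧ d x.1.1 = d x.2
  let R := {x : Ix d × Fin t // P x ∧ ¬ D x}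
  let toW : (R → F) → (∀ j : Fin (M + 1), GL (Fin (cnt d j)) F) → Ix d → Fin t → F := fun r T p a =>
    if hD : D (p, a) then (T ⟨d a, hM a⟩ : Matrix (Fin (cnt d (d a))) (Fin (cnt d (d a))) F)
        ((fe d (d a)).symm ⟨p.1, hD.2⟩) ((fe d (d a)).symm ⟨a, rfl⟩)
    else if hP : P (p, a) then r ⟨(p, a), hP, hD⟩ else 0
  have htoW : ∀ r T p a, (p.2 : ℕ) + d a < d p.1 → toW r T p a = 0 := by
    intro r T p a h
    simp only [toW]
    rw [dif_neg (fun hD : D (p, a) => by have := hD.2; simp only at this; omega),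
      dif_neg (fun hP : P (p, a) => by simp only [P] at hP; omega)]
  have hblock : ∀ r T (j : Fin (M + 1)), blockT hd (toW r T) j = (T j : Matrix (Fin (cnt d j)) (Fin (cnt d j)) F) := by
    intro r T j
    ext x y
    have key : ∀ (j : Fin (M + 1)) (a b : {a // d a = j.1}) (hba : d b.1 = d a.1),
        (T ⟨d a.1, hM a.1⟩ : Matrix (Fin (cnt d (d a.1))) (Fin (cnt d (d a.1))) F) ((fe d (d a.1)).symm ⟨b.1, hba⟩)
          ((fe d (d a.1)).symm ⟨a.1, rfl⟩) = (T j : Matrix (Fin (cnt d j)) (Fin (cnt d j)) F) ((fe d j).symm b) ((fe d j).symm a) := by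
      rintro ⟨j, hj⟩ ⟨a, ha⟩ ⟨b, hb⟩ hba
      simp only at ha
      subst ha
      rfl
    simp only [blockT, Matrix.of_apply, toW]
    have hD : D (⟨(fe d j x).1, ⟨0, hd _⟩⟩, (fe d j y).1) := ⟨rfl, (fe d j x).2.trans (fe d j y).2.symm⟩
    rw [dif_pos hD, key j (fe d j y) (fe d j x), Equiv.symm_apply_apply, Equiv.symm_apply_apply]
  let E : S ≃ (R → F) × (∀ j : Fin (M + 1), GL (Fin (cnt d j)) F) :=
    { toFun := fun w => (fun x => w.1.1 x.1.1 x.1.2, fun j => (w.2 j).unit)
      invFun := fun rT => ⟨⟨toW rT.1 rT.2, htoW _ _⟩, fun j => by rw [hblock]; exact Units.isUnit _⟩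
      left_inv := fun w => by
        refine Subtype.ext (Subtype.ext (funext fun p => funext fun a => ?_))
        show toW _ _ p a = w.1.1 p a
        simp only [toW]
        by_cases hD : D (p, a)
        · rw [dif_pos hD]
          simp only [IsUnit.unit_spec, blockT, Matrix.of_apply, Equiv.apply_symm_apply]
          obtain ⟨b, l⟩ := p
          have hsimp : (fe d (d a) ((fe d (d a)).symm ⟨b, hD.2⟩)).1 = b := by rw [Equiv.apply_symm_apply]
          refine Eq.trans ?_ (congrArg (fun z => w.1.1 ⟨b, z⟩ a) (Fin.ext hD.1.symm : (⟨0, hd b⟩ : Fin (d b)) = l))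
          have hgen : ∀ (c : Fin t) (hc : c = b), w.1.1 ⟨c, ⟨0, hd c⟩⟩ a = w.1.1 ⟨b, ⟨0, hd b⟩⟩ a := by
            rintro c rfl; rfl
          exact hgen _ hsimp
        · rw [dif_neg hD]
          by_cases hP : P (p, a)
          · rw [dif_pos hP]
          · rw [dif_neg hP]
            exact (w.1.2 p a (not_le.1 hP)).symm
      right_inv := fun rT => by
        refine Prod.ext (funext fun x => ?_) (funext fun j => Units.ext ?_)
        · show toW _ _ _ _ = _
          simp only [toW, Prod.mk.eta]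
          rw [dif_neg x.2.2, dif_pos x.2.1]
        · simp only [IsUnit.unit_spec]
          exact hblock _ _ j }
  rw [Nat.card_congr E, Nat.card_prod, Nat.card_pi, Nat.card_pi]
  congr 1
  · rw [Finset.prod_const, Finset.card_univ, Nat.card_eq_fintype_card, hF]
    congr 1
    have hR : Fintype.card R = Fintype.card {x // P x} - Fintype.card {x // D x} := by
      simp only [R, Fintype.card_subtype]
      have hsub : Finset.univ.filter D ⊆ Finset.univ.filter P := fun x hx => by
        simp only [Finset.mem_filter, Finset.mem_univ, true_and, D, P] at hx ⊢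
        omega
      rw [← Finset.card_sdiff_of_subset hsub]
      congr 1
      ext x
      simp [and_comm]
    have hPc : Fintype.card {x // P x} = ∑ a, ∑ b, min (d a) (d b) := by
      rw [Fintype.card_subtype, Finset.card_filter, Fintype.sum_prod_type_right]
      refine Finset.sum_congr rfl fun a _ => ?_
      rw [Fintype.sum_sigma]
      refine Finset.sum_congr rfl fun b _ => ?_
      rw [← card_fin_window (d b) (d a), Finset.card_filter]
    have hDc : Fintype.card {x // D x} = ∑ i ∈ Finset.range (M + 1), cnt d i ^ 2 := by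
      rw [Fintype.card_subtype, Finset.card_filter, Fintype.sum_prod_type_right]
      have hone : ∀ a : Fin t, ∑ p : Ix d, (if D (p, a) then 1 else 0) = cnt d (d a) := by
        intro a
        rw [Fintype.sum_sigma, cnt, Finset.card_filter]
        refine Finset.sum_congr rfl fun b _ => ?_
        rw [Finset.sum_eq_single (⟨0, hd b⟩ : Fin (d b))]
        · simp [D]
        · intro i _ hi
          rw [if_neg]
          exact fun h => hi (Fin.ext h.1)
        · simp
      rw [Finset.sum_congr rfl fun a _ => hone a,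
        ← Finset.sum_fiberwise_of_maps_to (g := d) (t := Finset.range (M + 1)) fun a _ => Finset.mem_range.2 (hM a)]
      refine Finset.sum_congr rfl fun i _ => ?_
      rw [Finset.sum_congr rfl fun a ha => by rw [(Finset.mem_filter.1 ha).2], Finset.sum_const, smul_eq_mul, sq]
      rfl
    rw [hR, hPc, hDc, ← sum_min d hd]
    simp only [cnt, M]
    omega
  · rw [← Fin.prod_univ_eq_prod_range (fun i => ∏ j : Fin ((Finset.univ.filter (fun k : Fin t => d k = i)).card),
      (q ^ (Finset.univ.filter (fun k : Fin t => d k = i)).card - q ^ (j : ℕ))) (M + 1)]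
    refine Finset.prod_congr rfl fun j _ => ?_
    rw [Cfsg.Agent.PSLCard.card_GL, Nat.card_eq_fintype_card, hF]
    rfl

end Cfsg.Agent.S2581
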