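import Cfsg.Statements.S4623
import Mathlib.GroupTheory.Sylow
import Mathlib.GroupTheory.SpecificGroups.Alternating
import Mathlib.NumberTheory.Padics.PadicVal.Basic
import Mathlib.GroupTheory.Abelianization.Defs
-- import your own Cfsg.Agent.* helpers here

set_option autoImplicit false
open Cfsg

namespace Cfsg.Agent.S4623

open Equiv
open scoped Pointwise

/-- Every `p`-th power lies in the derived subgroup. -/
def Good (p : ℕ) (H : Type*) [Group H] : Prop := ∀ x : H, x ^ p ∈ commutator H

theorem good_of_mulEquiv {p : ℕ} {H K : Type*} [Group H] [Group K] (e : H ≃* K) (h : Good p H) :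
    Good p K := by
  intro x
  obtain ⟨y, rfl⟩ := e.surjective x
  have h1 : Abelianization.of (y ^ p) = 1 := MonoidHom.mem_ker.mp (by rw [Abelianization.ker_of]; exact h y)
  rw [← Abelianization.ker_of, MonoidHom.mem_ker, ← map_pow]
  have := congrArg (Abelianization.map e.toMonoidHom) h1
  rwa [Abelianization.map_of, map_one] at this

/-- The subgroup is generated by its elements killed by `p`. -/
def Gen (p : ℕ) {G : Type*} [Group G] (P : Subgroup G) : Prop :=
  P ≤ Subgroup.closure {g | g ∈ P ∧ g ^ p = 1}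

theorem good_of_gen {p : ℕ} {G : Type*} [Group G] {P : Subgroup G} (h : Gen p P) : Good p P := by
  intro x
  let φ : P →* Abelianization P := (powMonoidHom p).comp Abelianization.of
  suffices hk : ⊤ ≤ φ.ker by
    have := MonoidHom.mem_ker.mp (hk (Subgroup.mem_top x))
    rw [← Abelianization.ker_of, MonoidHom.mem_ker, map_pow]
    exact this
  rintro ⟨x, hx⟩ -
  have : P ≤ φ.ker.map P.subtype := by
    refine h.trans ((Subgroup.closure_le _).mpr ?_)
    rintro g ⟨hg, hgp⟩
    refine ⟨⟨g, hg⟩, MonoidHom.mem_ker.mpr ?_, rfl⟩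
    show (Abelianization.of (⟨g, hg⟩ : P)) ^ p = 1
    rw [← map_pow, show (⟨g, hg⟩ : P) ^ p = 1 from Subtype.ext hgp, map_one]
  obtain ⟨y, hy, hyx⟩ := this hx
  obtain rfl : y = ⟨x, hx⟩ := Subtype.ext hyx
  exact hy

theorem gen_map {p : ℕ} {G H : Type*} [Group G] [Group H] (f : G →* H) {P : Subgroup G}
    (h : Gen p P) : Gen p (P.map f) := by
  refine (Subgroup.map_mono h).trans ?_
  rw [MonoidHom.map_closure]
  refine Subgroup.closure_mono ?_
  rintro _ ⟨g, ⟨hg, hgp⟩, rfl⟩
  exact ⟨Subgroup.mem_map_of_mem f hg, by rw [← map_pow, hgp, map_one]⟩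

variable (p m r : ℕ) [Fact p.Prime]

/-- The points. -/
abbrev Pts : Type := ZMod p × Fin m ⊕ Fin r

/-- The base group of disjoint cycles. -/
def base : Multiplicative (Fin m → ZMod p) →* Perm (Pts p m r) where
  toFun v := Equiv.sumCongr
    { toFun := fun a => (a.1 + Multiplicative.toAdd v a.2, a.2)
      invFun := fun a => (a.1 - Multiplicative.toAdd v a.2, a.2)
      left_inv := fun a => by simp
      right_inv := fun a => by simp } (Equiv.refl _)
  map_one' := Equiv.ext fun a => by cases a <;> simp
  map_mul' v w := Equiv.ext fun a => by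
    cases a <;> simp [add_comm, add_left_comm]

/-- The lift of a permutation of the cycles. -/
def liftPerm : Perm (Fin m) →* Perm (Pts p m r) where
  toFun s := Equiv.sumCongr (Equiv.prodCongrRight fun _ => s) (Equiv.refl _)
  map_one' := Equiv.ext fun a => by rcases a with ⟨x, i⟩ | b <;> simp
  map_mul' s t := Equiv.ext fun a => by rcases a with ⟨x, i⟩ | b <;> simp

theorem base_pow (v : Multiplicative (Fin m → ZMod p)) : base p m r v ^ p = 1 := by
  rw [← map_pow, show v ^ p = 1 from ?_, map_one]
  refine Multiplicative.toAdd.injective (funext fun i => ?_)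
  simp

theorem conj_base (s : Perm (Fin m)) (v : Multiplicative (Fin m → ZMod p)) :
    liftPerm p m r s * base p m r v * (liftPerm p m r s)⁻¹ =
      base p m r (Multiplicative.ofAdd fun i => Multiplicative.toAdd v (s.symm i)) := by
  rw [mul_inv_eq_iff_eq_mul]
  refine Equiv.ext fun a => ?_
  cases a <;> simp [base, liftPerm]

theorem lift_le_normalizer (S : Subgroup (Perm (Fin m))) :
    S.map (liftPerm p m r) ≤ Subgroup.normalizer ((base p m r).range : Set (Perm (Pts p m r))) := by
  rintro _ ⟨s, -, rfl⟩
  rw [Subgroup.mem_normalizer_iff]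
  intro g
  constructor
  · rintro ⟨v, rfl⟩
    exact ⟨_, (conj_base p m r s v).symm⟩
  · rintro ⟨v, hv⟩
    have := conj_base p m r s⁻¹ v
    rw [hv, map_inv, inv_inv] at this
    refine ⟨_, this.symm.trans ?_⟩
    group

theorem base_lift_injective : Function.Injective
    fun x : Multiplicative (Fin m → ZMod p) × Perm (Fin m) =>
      base p m r x.1 * liftPerm p m r x.2 := by
  rintro ⟨v, s⟩ ⟨w, t⟩ h
  have hp : ∀ i, (Multiplicative.toAdd v (s i), s i) = (Multiplicative.toAdd w (t i), t i) := fun i => by
    have := congrArg (fun g : Perm (Pts p m r) => g (Sum.inl (0, i))) h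
    simpa [base, liftPerm] using this
  have hs : s = t := Equiv.ext fun i => congrArg Prod.snd (hp i)
  subst hs
  refine Prod.ext (Multiplicative.toAdd.injective (funext fun i => ?_)) rfl
  simpa using congrArg Prod.fst (hp (s.symm i))

theorem sign_liftPerm (s : Perm (Fin m)) (h : p = 2) :
    Perm.sign (liftPerm p m r s) = 1 := by
  show Perm.sign (Equiv.Perm.sumCongr (Equiv.prodCongrRight fun _ : ZMod p => s) (Equiv.refl _)) = 1
  rw [Perm.sign_sumCongr, Perm.sign_prodCongrRight, Perm.sign_refl, mul_one, Finset.prod_const,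
    Finset.card_univ, ZMod.card, h, pow_two, Int.units_mul_self]

/-- A Sylow subgroup generated by elements killed by `p`, and its even part likewise for `p = 2`. -/
def Has (n : ℕ) : Prop := ∃ P : Sylow p (Perm (Fin n)), Gen p (P : Subgroup (Perm (Fin n))) ∧
  (p = 2 → Gen p ((P : Subgroup (Perm (Fin n))) ⊓ alternatingGroup (Fin n)))

theorem has (n : ℕ) : Has p n := by
  induction n using Nat.strong_induction_on with
  | _ n ih =>
    have hp : p.Prime := Fact.out
    rcases Nat.eq_zero_or_pos n with rfl | hn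
    · obtain ⟨P⟩ : Nonempty (Sylow p (Perm (Fin 0))) := inferInstance
      have h1 : ∀ P : Subgroup (Perm (Fin 0)), Gen p P := fun P g _ => by
        rw [Subsingleton.elim g 1]; exact one_mem _
      exact ⟨P, h1 _, fun _ => h1 _⟩
    obtain ⟨m, r, hr, rfl⟩ : ∃ m r, r < p ∧ n = p * m + r :=
      ⟨n / p, n % p, Nat.mod_lt _ hp.pos, (Nat.div_add_mod n p).symm⟩
    have hm : m < p * m + r := by
      rcases Nat.eq_zero_or_pos m with rfl | hm
      · omega
      · have := Nat.mul_le_mul_right m hp.two_le; omega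
    obtain ⟨S, hS, -⟩ := ih m hm
    have hcard : Fintype.card (Pts p m r) = p * m + r := by simp [ZMod.card]
    let ε := Fintype.equivFinOfCardEq hcard
    set L := (S : Subgroup (Perm (Fin m))).map (liftPerm p m r)
    set K := (base p m r).range ⊔ L
    have hBp : IsPGroup p (base p m r).range := fun g => ⟨1, Subtype.ext (by
      obtain ⟨v, hv⟩ := g.2
      rw [pow_one, Subgroup.coe_pow, ← hv, base_pow]; rfl)⟩
    have hKp : IsPGroup p K :=
      hBp.to_sup_of_normal_left' (S.isPGroup'.map _) (lift_le_normalizer p m r _)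
    have hKc : p ^ ((p * m + r).factorial.factorization p) ≤ Nat.card K := by
      have hinj : Function.Injective
          (fun x : Multiplicative (Fin m → ZMod p) × (S : Subgroup (Perm (Fin m))) =>
            (⟨base p m r x.1 * liftPerm p m r x.2, mul_mem
              ((le_sup_left : _ ≤ K) ⟨x.1, rfl⟩)
              ((le_sup_right : L ≤ K) (Subgroup.mem_map_of_mem _ x.2.2))⟩ : K)) := by
        rintro ⟨v, s⟩ ⟨w, t⟩ h
        have := base_lift_injective p m r (a₁ := (v, (s : Perm (Fin m)))) (a₂ := (w, (t : Perm (Fin m))))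
          (congrArg Subtype.val h)
        simp only [Prod.mk.injEq] at this
        exact Prod.ext this.1 (Subtype.ext this.2)
      refine le_trans (le_of_eq ?_) (Nat.card_le_card_of_injective _ hinj)
      rw [Nat.card_prod, S.card_eq_multiplicity, Nat.card_congr Multiplicative.toAdd, Nat.card_fun,
        Nat.card_fin, Nat.card_zmod, Nat.card_perm, Nat.card_fin, ← pow_add]
      congr 1
      rw [Nat.factorization_def _ hp, Nat.factorization_def _ hp,
        padicValNat_factorial_mul_add m hr, padicValNat_factorial_mul, add_comm]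
    let φ : Perm (Pts p m r) ≃* Perm (Fin (p * m + r)) := ε.permCongrHom
    obtain ⟨P, hP⟩ := (hKp.map φ.toMonoidHom).exists_le_sylow
    have hPK : (P : Subgroup (Perm (Fin (p * m + r)))) = K.map φ.toMonoidHom := by
      refine (Subgroup.eq_of_le_of_card_ge hP ?_).symm
      rw [P.card_eq_multiplicity, Subgroup.card_map_of_injective φ.injective, Nat.card_perm,
        Nat.card_fin]
      exact hKc
    have hgenL : L ≤ Subgroup.closure {g | g ∈ L ∧ g ^ p = 1} := gen_map _ hS
    refine ⟨P, ?_, fun h2 => ?_⟩
    · rw [hPK]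
      refine gen_map _ (sup_le ?_ (hgenL.trans (Subgroup.closure_mono ?_)))
      · rintro _ ⟨v, rfl⟩
        exact Subgroup.subset_closure ⟨(le_sup_left : _ ≤ K) ⟨v, rfl⟩, base_pow p m r v⟩
      · exact fun g hg => ⟨(le_sup_right : L ≤ K) hg.1, hg.2⟩
    · have hmap : (P : Subgroup (Perm (Fin (p * m + r)))) ⊓ alternatingGroup (Fin (p * m + r)) =
          (K ⊓ alternatingGroup (Pts p m r)).map φ.toMonoidHom := by
        rw [hPK, Subgroup.map_inf _ _ _ φ.injective]
        congr 1
        ext g
        obtain ⟨g, rfl⟩ := φ.surjective g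
        rw [Perm.mem_alternatingGroup, show Perm.sign (φ g) = Perm.sign g from
          Perm.sign_permCongr ε g]
        refine ⟨fun h => ⟨g, Perm.mem_alternatingGroup.mpr h, rfl⟩, ?_⟩
        rintro ⟨g', hg', h⟩
        exact φ.injective h ▸ Perm.mem_alternatingGroup.mp hg'
      rw [hmap]
      refine gen_map _ fun g hg => ?_
      obtain ⟨hgK, hge⟩ := hg
      have hgK' : g ∈ ((base p m r).range : Set (Perm (Pts p m r))) *
          ((Subgroup.map (liftPerm p m r) (S : Subgroup (Perm (Fin m))) : Subgroup (Perm (Pts p m r))) :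
            Set (Perm (Pts p m r))) := by
        rw [← Subgroup.coe_mul_of_right_le_normalizer_left _ _ (lift_le_normalizer p m r _)]
        exact hgK
      obtain ⟨_, ⟨v, rfl⟩, _, ⟨s, hs, rfl⟩, rfl⟩ := hgK'
      have hv : Perm.sign (base p m r v) = 1 := by
        have := Perm.mem_alternatingGroup.mp hge
        rwa [map_mul, sign_liftPerm p m r s h2, mul_one] at this
      refine mul_mem (Subgroup.subset_closure ⟨⟨(le_sup_left : _ ≤ K) ⟨v, rfl⟩,
        Perm.mem_alternatingGroup.mpr hv⟩, base_pow p m r v⟩) ?_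
      refine Subgroup.closure_mono (fun g hg => ?_) (hgenL (Subgroup.mem_map_of_mem _ hs))
      obtain ⟨⟨t, ht, rfl⟩, hp1⟩ := hg
      exact ⟨⟨(le_sup_right : L ≤ K) (Subgroup.mem_map_of_mem _ ht),
        Perm.mem_alternatingGroup.mpr (sign_liftPerm p m r t h2)⟩, hp1⟩

/-- For every prime p and every n, a Sylow p-subgroup P of the symmetric group on n letters has P/P' elementary abelian (the p-th power of every element of P lies in the derived subgroup of P), and the same holds for a Sylow p-subgroup of the alternating group on n letters. -/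
theorem result (p : ℕ) [Fact p.Prime] (n : ℕ) (P : Sylow p (Equiv.Perm (Fin n))) (Q : Sylow p (alternatingGroup (Fin n))) :
    (∀ x : (P : Subgroup (Equiv.Perm (Fin n))), x ^ p ∈ commutator (P : Subgroup (Equiv.Perm (Fin n)))) ∧
    (∀ x : (Q : Subgroup (alternatingGroup (Fin n))), x ^ p ∈ commutator (Q : Subgroup (alternatingGroup (Fin n)))) := by
  have hp : p.Prime := Fact.out
  obtain ⟨P₀, hP₀, hP₀'⟩ := has p n
  refine ⟨good_of_mulEquiv (Sylow.equiv P₀ P) (good_of_gen hP₀), ?_⟩
  obtain ⟨P', hP'⟩ := Sylow.exists_comap_subtype_eq Q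
  obtain ⟨g, hg⟩ := MulAction.exists_smul_eq (Equiv.Perm (Fin n)) P₀ P'
  have hgen : Gen p ((P₀ : Subgroup (Equiv.Perm (Fin n))) ⊓ (alternatingGroup (Fin n))) := by
    by_cases h2 : p = 2
    · exact hP₀' h2
    · rintro x ⟨hx, -⟩
      refine Subgroup.closure_mono ?_ (hP₀ hx)
      rintro y ⟨hy, hyp⟩
      refine ⟨⟨hy, Equiv.Perm.mem_alternatingGroup.mpr ?_⟩, hyp⟩
      have h1 : Equiv.Perm.sign y ^ p = 1 := by rw [← map_pow, hyp, map_one]
      rwa [Int.units_pow_eq_pow_mod_two, Nat.odd_iff.mp (hp.odd_of_ne_two h2), pow_one] at h1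
  set φ := (MulAut.conj g).toMonoidHom
  have hmap : ((P₀ : Subgroup (Equiv.Perm (Fin n))) ⊓ (alternatingGroup (Fin n))).map φ =
      (Q : Subgroup (alternatingGroup (Fin n))).map (alternatingGroup (Fin n)).subtype := by
    rw [Subgroup.map_inf _ _ _ (MulAut.conj g).injective, ← hP', Subgroup.map_comap_eq,
      Subgroup.range_subtype, inf_comm (a := alternatingGroup (Fin n))]
    congr 1
    · rw [← hg, Sylow.coe_subgroup_smul]; rfl
    · exact Subgroup.Normal.map_conj_eq (alternatingGroup (Fin n)) g
  refine good_of_mulEquiv (((MulEquiv.subgroupCongr hmap).trans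
    ((Q : Subgroup (alternatingGroup (Fin n))).equivMapOfInjective (alternatingGroup (Fin n)).subtype (alternatingGroup (Fin n)).subtype_injective).symm)) (good_of_gen (gen_map φ hgen))

end Cfsg.Agent.S4623
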