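import Cfsg.Statements.S1073
import Cfsg.Agent.Lib.ReeSimple17

set_option autoImplicit false
open Cfsg

namespace Cfsg.Agent.S1073

/-- ²G₂(3^(2m+1)) is simple for `m ≥ 1`. -/
theorem result {K : Type*} [Field K] [Fintype K] {m : ℕ} (hm : 1 ≤ m) (hK : Fintype.card K = 3 ^ (2 * m + 1)) :
    IsSimpleGroup ↥(Cfsg.Lie.twistedG2 K (3 ^ m)) ∧ ¬ IsMulCommutative ↥(Cfsg.Lie.twistedG2 K (3 ^ m)) := by
  haveI : Fact (Nat.Prime 3) := ⟨Nat.prime_three⟩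
  haveI : CharP K 3 := charP_of_card_eq_prime_pow (f := 2 * m + 1) (by rw [hK])
  obtain ⟨X, hX⟩ := Cfsg.Agent.ReeInstance17.exists_ctx hK
  rw [← hX]
  have h3 : 3 < Fintype.card K := by
    rw [hK]
    calc 3 = 3 ^ 1 := rfl
      _ < 3 ^ (2 * m + 1) := Nat.pow_lt_pow_right (by norm_num) (by omega)
  exact Cfsg.Agent.ReeSimple17.simple X h3

end Cfsg.Agent.S1073
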