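import Cfsg.Statements.S0806
import Mathlib
import Cfsg.Agent.Lib.DicksonDihedralMax

set_option autoImplicit false
open Cfsg

namespace Cfsg.Agent.S0806

open Cfsg.Agent.DicksonPSL Cfsg.Agent.DicksonTorus Cfsg.Agent.DicksonDihedralMax in
theorem proper_bound {F : Type*} [Field F] [Finite F]
    (hq : Nat.card F ∉ ({2, 3, 5, 7, 9, 11} : Finset ℕ))
    (H : Subgroup (Matrix.ProjectiveSpecialLinearGroup (Fin 2) F)) (hH : H ≠ ⊤) :
    dd F * Nat.card H ≤ Nat.card F * (Nat.card F - 1) := by
  simp only [Finset.mem_insert, Finset.mem_singleton, not_or] at hq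
  obtain ⟨p, hp⟩ := CharP.exists F
  have : Fact p.Prime := ⟨CharP.char_is_prime F p⟩
  have h1 := PSLCard.one_lt_card F
  have h6 := card_ne_six (F := F)
  have hG : dd F * Nat.card (Matrix.ProjectiveSpecialLinearGroup (Fin 2) F) =
      Nat.card F * (Nat.card F ^ 2 - 1) := PSLCard.card_PSL2_mul (F := F)
  have hdvd : dd F * Nat.card H ∣ Nat.card F * (Nat.card F ^ 2 - 1) := by
    rw [← hG]; exact Nat.mul_dvd_mul_left _ (Subgroup.card_subgroup_dvd_card H)
  have h12 : 4 * 3 ≤ Nat.card F * (Nat.card F - 1) := Nat.mul_le_mul (by omega) (by omega)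
  have hlin : 3 * Nat.card F ≤ Nat.card F * (Nat.card F - 1) := by
    rw [mul_comm 3]; exact Nat.mul_le_mul le_rfl (by omega)
  have hsmall : ∀ n, Nat.card H = n → n ≤ 60 → (Nat.card F = 4 → n = 12 ∨ ¬ n ∣ 60 ∨ n = 60) →
      (Nat.card F = 8 → n ≤ 56 ∨ ¬ n ∣ 504) → dd F * Nat.card H ≤ Nat.card F * (Nat.card F - 1) := by
    intro n hn hn60 h4 h8
    rcases arith_facts (F := F) with ⟨⟨j, hj⟩, hd, -, -⟩ | ⟨⟨j, hj⟩, hd, -, -⟩ <;> rw [hd, hn]
    · have := Nat.mul_le_mul (show 13 ≤ Nat.card F by omega) (show 12 ≤ Nat.card F - 1 by omega)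
      omega
    · rw [one_mul]
      rcases Nat.lt_or_ge (Nat.card F) 9 with h9 | h9
      · have hpp : IsPrimePow (Nat.card F) := by
          cases nonempty_fintype F
          rw [Nat.card_eq_fintype_card]; exact Fintype.isPrimePow_card_of_field
        rw [hd, one_mul, hn] at hdvd
        have : Nat.card F = 4 ∨ Nat.card F = 8 := by omega
        rcases this with h | h <;> rw [h] at hdvd ⊢ <;> norm_num at hdvd ⊢
        · rcases h4 h with e | e | e
          · omega
          · exact absurd hdvd e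
          · exact absurd (Subgroup.eq_top_of_card_eq H (by
              rw [hn, e, card_psl_small (Or.inl rfl) h])) hH
        · rcases h8 h with e | e
          · omega
          · exact absurd hdvd e
      · have := Nat.mul_le_mul (show 10 ≤ Nat.card F by omega) (show 9 ≤ Nat.card F - 1 by omega)
        omega
  rcases dickson_psl p H with ⟨-, -, hk⟩ | ⟨-, a, ha⟩ | ⟨k, -, -, hk, ⟨e⟩⟩ | ⟨⟨e⟩⟩ | ⟨⟨e⟩⟩ |
      ⟨⟨e⟩⟩ | ⟨R, hR3, hR⟩
  · rcases hk with h | h <;>
      rcases arith_facts (F := F) with ⟨-, hd, e1, e2⟩ | ⟨-, hd, e1, e2⟩ <;>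
      have := Nat.le_of_dvd (by omega) h <;> rw [hd] <;> omega
  · exact Nat.le_of_dvd (by omega) (card_dvd_borel ha)
  · rw [Nat.card_congr e.toEquiv, DihedralGroup.nat_card]
    rcases hk with h | h <;>
      rcases arith_facts (F := F) with ⟨-, hd, e1, e2⟩ | ⟨-, hd, e1, e2⟩ <;>
      have := Nat.le_of_dvd (by omega) h <;> rw [hd] <;> omega
  · refine hsmall 12 ?_ (by norm_num) (fun _ => by norm_num) (fun _ => by norm_num)
    rw [Nat.card_congr e.toEquiv, nat_card_alternatingGroup, Nat.card_fin]; rfl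
  · refine hsmall 24 ?_ (by norm_num) (fun _ => by norm_num) (fun _ => by norm_num)
    rw [Nat.card_congr e.toEquiv, Nat.card_perm, Nat.card_fin]; rfl
  · refine hsmall 60 ?_ (by norm_num) (fun _ => by norm_num) (fun _ => by norm_num)
    rw [Nat.card_congr e.toEquiv, nat_card_alternatingGroup, Nat.card_fin]; rfl
  · obtain ⟨-, m, -, -, hm⟩ := exists_galoisField_equiv p R
    set s := Nat.card R
    have hM : Nat.card H = s * (s ^ 2 - 1) ∨ (Odd s ∧ 2 * Nat.card H = s * (s ^ 2 - 1)) := by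
      rcases hR with ⟨⟨e⟩⟩ | ⟨ho, ⟨e⟩⟩
      · exact Or.inl (by rw [Nat.card_congr e.toEquiv, PSLCard.card_PGL2])
      · refine Or.inr ⟨ho, ?_⟩
        rw [Nat.card_congr e.toEquiv, ← PSLCard.card_PSL2_mul (F := R)]
        congr 1
        obtain ⟨j, hj⟩ := ho
        exact (Nat.gcd_eq_left ⟨j, by omega⟩).symm
    rcases m with _ | _ | m
    · simp at hm; omega
    · exfalso
      rw [pow_one] at hm
      rw [hm] at hM
      refine card_not_top hH ?_
      rcases hM with h | ⟨ho, h⟩
      · have := Nat.le_of_dvd (Nat.mul_pos Nat.card_pos (by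
          have := Nat.pow_le_pow_left (show 2 ≤ Nat.card F by omega) 2; omega)) hdvd
        rw [h] at this ⊢
        have := Nat.le_mul_of_pos_left (Nat.card F * (Nat.card F ^ 2 - 1)) (card_pos_dd (F := F))
        omega
      · rcases arith_facts (F := F) with ⟨-, hd, -⟩ | ⟨he, -⟩
        · rw [hd]; exact h
        · exact absurd he (Nat.not_even_iff_odd.mpr ho)
    · have hs2 : s * s ≤ Nat.card F := by
        rw [← hm, ← sq]; exact Nat.pow_le_pow_right (by omega) (by omega)
      have h3s : 3 * s ≤ s * s := Nat.mul_le_mul_right s hR3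
      have hd2 : dd F * s ≤ Nat.card F - 1 := by
        have := Nat.mul_le_mul_right s (show dd F ≤ 2 from Nat.le_of_dvd two_pos (Nat.gcd_dvd_left _ _))
        omega
      have hle : Nat.card H ≤ s * (s * s) := by
        have : s * (s ^ 2 - 1) ≤ s * (s * s) := Nat.mul_le_mul le_rfl (by rw [sq]; omega)
        omega
      calc dd F * Nat.card H ≤ dd F * (s * (s * s)) := Nat.mul_le_mul le_rfl hle
        _ = (s * s) * (dd F * s) := by ring
        _ ≤ _ := Nat.mul_le_mul hs2 hd2

/-- Minimal index (Galois): if q ∉ {2, 3, 5, 7, 9, 11} then every proper subgroup of PSL_2(q) has index ≥ q + 1, and some subgroup has index exactly q + 1. -/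
theorem result {F : Type*} [Field F] [Fintype F] {q : ℕ} (hF : Fintype.card F = q) (hq : q ∉ ({2, 3, 5, 7, 9, 11} : Finset ℕ)) : (∀ H : Subgroup (Matrix.ProjectiveSpecialLinearGroup (Fin 2) F), H ≠ ⊤ → q + 1 ≤ H.index) ∧ ∃ H : Subgroup (Matrix.ProjectiveSpecialLinearGroup (Fin 2) F), H.index = q + 1 := by
  have hn : Nat.card F = q := Nat.card_eq_fintype_card.trans hF
  subst hn
  obtain ⟨p, hp⟩ := CharP.exists F
  have : Fact p.Prime := ⟨CharP.char_is_prime F p⟩
  have h1 := PSLCard.one_lt_card F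
  have hG : DicksonPSL.dd F * Nat.card (Matrix.ProjectiveSpecialLinearGroup (Fin 2) F) =
      Nat.card F * (Nat.card F ^ 2 - 1) := PSLCard.card_PSL2_mul (F := F)
  have hsq : Nat.card F ^ 2 - 1 = (Nat.card F + 1) * (Nat.card F - 1) := by
    rw [← Nat.sq_sub_sq, one_pow]
  refine ⟨fun H hH => ?_, DicksonPSL.borelPSL F, ?_⟩
  · have hb := proper_bound hq H hH
    have hpos : 0 < DicksonPSL.dd F * Nat.card H := Nat.mul_pos DicksonTorus.card_pos_dd Nat.card_pos
    refine Nat.le_of_mul_le_mul_left ?_ hpos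
    rw [mul_assoc (DicksonPSL.dd F) (Nat.card H) H.index, Subgroup.card_mul_index, hG, hsq]
    exact (Nat.mul_le_mul_right _ hb).trans (le_of_eq (by ring))
  · have hpos : 0 < Nat.card F * (Nat.card F - 1) := Nat.mul_pos Nat.card_pos (by omega)
    refine Nat.eq_of_mul_eq_mul_left hpos ?_
    rw [← DicksonTorus.card_borel, mul_assoc, Subgroup.card_mul_index, hG,
      DicksonTorus.card_borel, hsq]
    ring

end Cfsg.Agent.S0806
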