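import Cfsg.Statements.S2148
import Cfsg.Agent.Lib.MinIndexPSU3Cases89

set_option autoImplicit false
open Cfsg

namespace Cfsg.Agent.S2148

/-- Minimal index of a proper subgroup of the three-dimensional unitary groups: for a field F with q² elements, q ≥ 3 and q ≠ 5, every proper subgroup of PSU₃(q) has index at least q³ + 1, and that index is attained. -/
theorem result {F : Type*} [Field F] [Fintype F] (q : ℕ) (hF : Fintype.card F = q ^ 2) (hq : 3 ≤ q) (h5 : q ≠ 5) : (∀ H : Subgroup (Cfsg.PSU 3 F q), H ≠ ⊤ → q ^ 3 + 1 ≤ H.index) ∧ (∃ H : Subgroup (Cfsg.PSU 3 F q), H.index = q ^ 3 + 1) := by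
  set π := QuotientGroup.mk' (Subgroup.center (Cfsg.SU 3 F q)) with hπ
  have hs : Function.Surjective π := QuotientGroup.mk'_surjective _
  refine ⟨fun H hH => ?_, ?_⟩
  · rw [← Subgroup.index_comap_of_surjective H hs]
    refine MinIndexPSU3Cases89.index_ge hF (H.comap π) hq h5 (fun z hz => ?_) fun h => hH ?_
    · show π z ∈ H
      rw [show π z = 1 from (QuotientGroup.eq_one_iff z).2 hz]
      exact one_mem _
    · rw [eq_top_iff, ← Subgroup.map_top_of_surjective π hs, ← h]
      exact Subgroup.map_comap_le _ _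
  · obtain ⟨e, he0, he⟩ := OrthUnitaryTransvection.exists_isotropic (F := F) (q := q) hF
      (show 2 ≤ 3 by norm_num)
    obtain ⟨Φ, -⟩ := MinIndexPSU3Geo89.exists_frame hF he0 he
    haveI := MinIndexPSU3Geo89.transitive (q := q) hF
    refine ⟨(MulAction.stabilizer (Cfsg.SU 3 F q) Φ.line).map π, ?_⟩
    rw [Subgroup.index_map_eq _ hs ?_, MulAction.index_stabilizer_of_transitive,
      MinIndexPSU3Geo89.card_Line hF]
    rw [hπ, QuotientGroup.ker_mk']
    intro z hz
    obtain ⟨w, hw, hw1⟩ : ∃ w ∈ Φ.P, w ≠ 1 := by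
      have : Nontrivial Φ.P := Finite.one_lt_card_iff_nontrivial.1 (by
        rw [MinIndexPSU3Geo89.card_P hF Φ]; exact Nat.one_lt_pow (by norm_num) (by omega))
      obtain ⟨w, hw⟩ := exists_ne (1 : Φ.P)
      exact ⟨w.1, w.2, fun h => hw (Subtype.ext h)⟩
    exact MulAction.mem_stabilizer_iff.2
      (MinIndexPSU3Orbit89.comm_P hF Φ hw hw1 (Subgroup.mem_center_iff.1 hz w))

end Cfsg.Agent.S2148
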