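import Cfsg.Statements.S3756
import Mathlib
import Cfsg.Agent.Lib.HallCore
import Cfsg.Agent.Lib.H74Euler
import Cfsg.Agent.Lib.SolvableS4Gap
import Cfsg.Agent.Lib.SolvableS4Key
import Cfsg.Agent.Lib.SolvableS4Unique

set_option autoImplicit false
open Cfsg

namespace Cfsg.Agent.S3756

open Subgroup Cfsg.Agent.SolvableS4Key

universe u

variable {G : Type u} [Group G] [Finite G]

/-- The join of the elementary abelian subgroups of largest order. -/
def jElem (T : Subgroup G) : Subgroup G := ⨆ A : {A : Subgroup G // IsMaxElem T A}, (A : Subgroup G)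

omit [Finite G] in
theorem jElem_le (T : Subgroup G) : jElem T ≤ T := iSup_le fun A => A.2.1

omit [Finite G] in
theorem le_jElem {T A : Subgroup G} (hA : IsMaxElem T A) : A ≤ jElem T :=
  le_iSup (fun A : {A : Subgroup G // IsMaxElem T A} => (A : Subgroup G)) ⟨A, hA⟩

theorem mem_normalizer_of_map_le {H : Subgroup G} {x : G}
    (h : H.map (MulAut.conj x).toMonoidHom ≤ H) : x ∈ normalizer (H : Set G) :=
  mem_normalizer_fintype fun _ hy => h (mem_map_of_mem _ hy)

theorem mem_normalizer_jElem {T : Subgroup G} {x : G}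
    (h : ∀ A, IsMaxElem T A → IsMaxElem T (A.map (MulAut.conj x).toMonoidHom)) :
    x ∈ normalizer (jElem T : Set G) := by
  refine mem_normalizer_of_map_le ?_
  rw [jElem, Subgroup.map_iSup]
  exact iSup_le fun A => le_jElem (h _ A.2)

theorem map_isMaxElem_of_mem_normalizer {T A : Subgroup G} {x : G}
    (hx : x ∈ normalizer (jElem T : Set G)) (hA : IsMaxElem T A) :
    IsMaxElem T (A.map (MulAut.conj x).toMonoidHom) := by
  refine hA.map_conj ?_
  rintro _ ⟨a, ha, rfl⟩
  exact jElem_le T ((mem_normalizer_iff.mp hx a).mp (le_jElem hA ha))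

theorem le_normalizer_jElem (T : Subgroup G) : normalizer (T : Set G) ≤ normalizer (jElem T : Set G) :=
  fun x hx => mem_normalizer_jElem fun A hA => hA.map_conj (by
    rintro _ ⟨a, ha, rfl⟩
    exact (mem_normalizer_iff.mp hx a).mp (hA.1 ha))

theorem exists_involution {T : Subgroup G} (hT : IsPGroup 2 T) (hne : T ≠ ⊥) :
    ∃ c ∈ T, c ∈ centralizer (T : Set G) ∧ c * c = 1 ∧ c ≠ 1 := by
  haveI : Fact (Nat.Prime 2) := ⟨Nat.prime_two⟩
  haveI : Nontrivial T := T.nontrivial_iff_ne_bot.mpr hne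
  haveI := hT.center_nontrivial
  obtain ⟨c, hc⟩ := exists_prime_orderOf_dvd_card' (G := center T) 2 (by
    obtain ⟨n, hn0, hn⟩ := (IsPGroup.nontrivial_iff_card (hT.to_subgroup _)).mp
      (inferInstance : Nontrivial (center T))
    rw [hn]; exact dvd_pow_self 2 hn0.ne')
  refine ⟨((c : T) : G), (c : T).2, ?_, ?_, ?_⟩
  · exact mem_centralizer_iff.mpr fun t ht => congrArg Subtype.val (mem_center_iff.mp c.2 ⟨t, ht⟩)
  · have h : c * c = 1 := by rw [← pow_two, ← hc, pow_orderOf_eq_one]
    exact congrArg (fun z : center T => ((z : T) : G)) h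
  · intro h
    have h1 : c = 1 := Subtype.ext (Subtype.ext h)
    rw [h1, orderOf_one] at hc
    norm_num at hc

theorem jElem_ne_bot {T : Subgroup G} (hT : IsPGroup 2 T) (hne : T ≠ ⊥) : jElem T ≠ ⊥ := by
  obtain ⟨c, hcT, -, hc2, hc1⟩ := exists_involution hT hne
  obtain ⟨A, hA⟩ := exists_maxElem T
  intro h
  have h1 := hA.2.2 (zpowers c) (zpowers_le.mpr hcT) (exp2_zpowers hc2)
  have h2 : A = ⊥ := le_bot_iff.mp (h ▸ le_jElem hA)
  rw [h2, card_bot, Nat.card_zpowers] at h1
  exact hc1 (orderOf_eq_one_iff.mp (le_antisymm h1 (orderOf_pos c)))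

/-- The involutions in the centre of `T`. -/
def omegaCenter (T : Subgroup G) : Subgroup G where
  carrier := {x | x ∈ T ∧ x ∈ centralizer (T : Set G) ∧ x * x = 1}
  one_mem' := ⟨one_mem _, one_mem _, one_mul 1⟩
  mul_mem' := fun {x z} hx hz => ⟨mul_mem hx.1 hz.1, mul_mem hx.2.1 hz.2.1, by
    have h : z * x = x * z := mem_centralizer_iff.mp hx.2.1 z hz.1
    calc x * z * (x * z) = x * (z * x) * z := by group
      _ = x * x * (z * z) := by rw [h]; group
      _ = 1 := by rw [hx.2.2, hz.2.2, one_mul]⟩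
  inv_mem' := fun {x} hx => by rw [inv_eq_of_mul_eq_one_right hx.2.2]; exact hx

omit [Finite G] in
theorem omegaCenter_le (T : Subgroup G) : omegaCenter T ≤ T := fun _ h => h.1

theorem omegaCenter_ne_bot {T : Subgroup G} (hT : IsPGroup 2 T) (hne : T ≠ ⊥) : omegaCenter T ≠ ⊥ := by
  obtain ⟨c, hcT, hcC, hc2, hc1⟩ := exists_involution hT hne
  intro h
  exact hc1 (mem_bot.mp (h ▸ (⟨hcT, hcC, hc2⟩ : c ∈ omegaCenter T)))

theorem omegaCenter_le_maxElem {T A : Subgroup G} (hA : IsMaxElem T A) : omegaCenter T ≤ A := by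
  have hcomm : ∀ a ∈ A, ∀ z ∈ omegaCenter T, a * z = z * a := fun a ha z hz =>
    mem_centralizer_iff.mp hz.2.1 a (hA.1 ha)
  have h1 : Nat.card (A ⊔ omegaCenter T : Subgroup G) ≤ Nat.card A :=
    hA.2.2 _ (sup_le hA.1 (omegaCenter_le T)) (hA.2.1.sup (fun z hz => hz.2.2) hcomm)
  exact sup_eq_left.mp (eq_of_le_of_card_ge le_sup_left h1).symm

theorem le_normalizer_omegaCenter (T : Subgroup G) : T ≤ centralizer (omegaCenter T : Set G) :=
  fun _ ht => mem_centralizer_iff.mpr fun _ hz => (mem_centralizer_iff.mp hz.2.1 _ ht).symm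

/-- The central involutions give a module with the gap property. -/
theorem setup_omegaCenter {R : Subgroup G} (hR : IsPGroup 2 R) : Setup R (omegaCenter R) where
  isTwo := hR
  exp := fun _ hz => hz.2.2
  norm := (le_normalizer_omegaCenter R).trans (centralizer_le_normalizer _)
  le := fun _ hA => omegaCenter_le_maxElem hA
  gap := fun E hE _ _ => by
    rw [inf_eq_left.mpr (hE.trans (le_normalizer_omegaCenter R)), mul_comm (Nat.card (omegaCenter R))]
    exact Nat.mul_le_mul_left _ (card_le_of_le inf_le_left)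

/-- The join of the conjugates of the central involutions under the normaliser of `jElem T`. -/
def wJoin (T : Subgroup G) : Subgroup G :=
  ⨆ x : normalizer (jElem T : Set G), (omegaCenter T).map (MulAut.conj (x : G)).toMonoidHom

theorem wJoin_le_maxElem {T A : Subgroup G} (hA : IsMaxElem T A) : wJoin T ≤ A := by
  refine iSup_le fun x => ?_
  rintro _ ⟨z, hz, rfl⟩
  obtain ⟨a, ha, hae⟩ := omegaCenter_le_maxElem (map_isMaxElem_of_mem_normalizer (inv_mem x.2) hA) hz
  rw [← hae]
  have : (MulAut.conj (x : G)).toMonoidHom ((MulAut.conj (x : G)⁻¹).toMonoidHom a) = a := by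
    simp [mul_assoc]
  rw [this]
  exact ha

omit [Finite G] in
theorem omegaCenter_le_wJoin (T : Subgroup G) : omegaCenter T ≤ wJoin T := fun z hz =>
  le_iSup (fun x : normalizer (jElem T : Set G) => (omegaCenter T).map (MulAut.conj (x : G)).toMonoidHom) 1
    ⟨z, hz, by simp⟩

theorem normalizer_jElem_le (T : Subgroup G) :
    normalizer (jElem T : Set G) ≤ normalizer (wJoin T : Set G) := by
  intro y hy
  refine mem_normalizer_of_map_le ?_
  rw [wJoin, Subgroup.map_iSup]
  refine iSup_le fun x => ?_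
  rintro _ ⟨_, ⟨z, hz, rfl⟩, rfl⟩
  exact le_iSup (fun x : normalizer (jElem T : Set G) => (omegaCenter T).map (MulAut.conj (x : G)).toMonoidHom)
    (⟨y, hy⟩ * x) ⟨z, hz, by simp [mul_assoc]⟩

theorem setup_wJoin (T : Sylow 2 G)
    (hsol : Group.IsSolvable (normalizer (jElem (T : Subgroup G) : Set G)))
    (hfree : ¬ Cfsg.Involves (Equiv.Perm (Fin 4)) (normalizer (jElem (T : Subgroup G) : Set G))) :
    Setup (T : Subgroup G) (wJoin (T : Subgroup G)) := by
  set N := normalizer (jElem (T : Subgroup G) : Set G) with hN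
  set W := wJoin (T : Subgroup G) with hW
  have hTN : (T : Subgroup G) ≤ N := le_normalizer.trans (le_normalizer_jElem _)
  obtain ⟨A, hA⟩ := exists_maxElem (T : Subgroup G)
  have hWA : W ≤ A := wJoin_le_maxElem hA
  have hWT : W ≤ (T : Subgroup G) := hWA.trans hA.1
  have hWexp : Exp2 W := hA.2.1.mono hWA
  refine ⟨T.isPGroup', hWexp, hTN.trans (normalizer_jElem_le _),
    fun B hB => wJoin_le_maxElem hB, fun E hE hEc hEsq => ?_⟩
  have hWN : W ≤ N := hWT.trans hTN
  have hZN : omegaCenter (T : Subgroup G) ≤ N := (omegaCenter_le _).trans hTN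
  haveI : (W.subgroupOf N).Normal := normal_subgroupOf_of_le_normalizer (normalizer_jElem_le _)
  haveI := hsol
  have hcz := SolvableS4Unique.centralizer_subgroupOf hWN
  have h := SolvableS4Gap.gap hfree (W.subgroupOf N) ((omegaCenter (T : Subgroup G)).subgroupOf N)
    (fun x hx => Subtype.ext (hWexp x hx)) (fun x hx z hz => Subtype.ext (hWexp.comm hx hz))
    (T.subtype hTN)
    (fun z hz => mem_centralizer_iff.mpr fun t ht => Subtype.ext
      (mem_centralizer_iff.mp (mem_subgroupOf.mp hz).2.1 t (mem_subgroupOf.mp (Sylow.coe_subtype T hTN ▸ ht))))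
    ?_ (fun z hz => omegaCenter_le_wJoin _ hz) (E.subgroupOf N) (fun e he => hE he)
    (by rw [hcz]; exact fun x hx z hz => hEc x hx z hz) (by rw [hcz]; exact fun x hx => hEsq x hx)
  · have hEN : E ≤ N := hE.trans hTN
    have e1 : W.subgroupOf N ⊓ centralizer ((E.subgroupOf N : Subgroup N) : Set N) =
        (W ⊓ centralizer (E : Set G)).subgroupOf N := by
      rw [SolvableS4Unique.centralizer_subgroupOf hEN]; rfl
    have e2 : E.subgroupOf N ⊓ centralizer ((W.subgroupOf N : Subgroup N) : Set N) =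
        (E ⊓ centralizer (W : Set G)).subgroupOf N := by
      rw [hcz]; rfl
    rw [e1, e2, SolvableS4Unique.card_subgroupOf hEN, SolvableS4Unique.card_subgroupOf hWN,
      SolvableS4Unique.card_subgroupOf (inf_le_left.trans hWN),
      SolvableS4Unique.card_subgroupOf (inf_le_left.trans hEN)] at h
    exact h
  · intro K hK hZK
    have hle : W ≤ K.map N.subtype := by
      refine iSup_le fun x => ?_
      rintro _ ⟨z, hz, rfl⟩
      exact ⟨x * ⟨z, hZN hz⟩ * x⁻¹, hK.conj_mem _ (hZK (mem_subgroupOf.mpr hz)) x, rfl⟩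
    intro w hw
    obtain ⟨k, hk, hkw⟩ := hle hw
    exact (Subtype.ext hkw : k = w) ▸ hk

/-- A constrained solvable `S₄`-free subgroup with Sylow subgroup `R` lies in `M0`. -/
theorem le_of_setup_sylow {N R W M0 : Subgroup G} (hsol : Group.IsSolvable N)
    (hchar : Cfsg.IsOfCharacteristicTwo ↥N) (hfree : ¬ Cfsg.Involves (Equiv.Perm (Fin 4)) ↥N)
    (hR : IsPGroup 2 R) (hRN : R ≤ N) (hmax : ∀ P : Subgroup G, IsPGroup 2 P → R ≤ P → P ≤ N → P ≤ R)
    (S : Setup R W) (hRM : R ≤ M0) (hC : centralizer (W : Set G) ≤ M0)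
    (hJ : normalizer (jElem R : Set G) ≤ M0) : N ≤ M0 := by
  haveI := hsol
  haveI : Fact (Nat.Prime 2) := ⟨Nat.prime_two⟩
  let R' : Sylow 2 N :=
    { toSubgroup := R.subgroupOf N
      isPGroup' := hR.of_equiv (subgroupOfEquivOfLe hRN).symm
      is_maximal' := fun {P} hP hle => le_antisymm (fun x hx => hmax _ (hP.map N.subtype)
        (fun r hr => ⟨⟨r, hRN hr⟩, hle (mem_subgroupOf.mpr hr), rfl⟩)
        (map_subtype_le P) (mem_map_of_mem N.subtype hx)) hle }
  have h := SolvableS4Unique.eq_top_of_setup hfree hchar R' (W.subgroupOf N)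
    (SolvableS4Unique.setup_restrict S hRN) (M0.subgroupOf N) (fun x hx => hRM hx)
    (by rw [SolvableS4Unique.centralizer_subgroupOf (S.le_T.trans hRN)]; exact fun x hx => hC hx)
    (fun x hx => mem_subgroupOf.mpr (hJ (mem_normalizer_jElem fun A hA => by
      have h := SolvableS4Unique.isMaxElem_map hRN (hx _ (SolvableS4Unique.isMaxElem_subgroupOf hRN hA))
      rw [Subgroup.map_map, show N.subtype.comp (MulAut.conj x).toMonoidHom =
          (MulAut.conj (x : G)).toMonoidHom.comp N.subtype from MonoidHom.ext fun _ => rfl,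
        ← Subgroup.map_map, SolvableS4Unique.map_subgroupOf (hA.1.trans hRN)] at h
      exact h)))
  exact subgroupOf_eq_top.mp h

theorem exists_conj_le {P : Sylow 2 G} {H K : Subgroup G} (hPH : (P : Subgroup G) ≤ H)
    (hK : IsPGroup 2 K) (hKH : K ≤ H) :
    ∃ a ∈ H, K.map (MulAut.conj a).toMonoidHom ≤ (P : Subgroup G) := by
  haveI : Fact (Nat.Prime 2) := ⟨Nat.prime_two⟩
  obtain ⟨Q, hQ⟩ := (hK.comap_subtype (K := H)).exists_le_sylow
  obtain ⟨a, ha⟩ := MulAction.exists_smul_eq ↥H Q (P.subtype hPH)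
  refine ⟨a, a.2, ?_⟩
  rintro _ ⟨k, hk, rfl⟩
  have h1 : a * ⟨k, hKH hk⟩ * a⁻¹ ∈ (P.subtype hPH : Subgroup H) := by
    rw [← ha, Sylow.coe_subgroup_smul]
    exact ⟨⟨k, hKH hk⟩, hQ hk, rfl⟩
  exact h1

omit [Finite G] in
theorem normalizer_map_le {U M0 : Subgroup G} {a : G} (ha : a ∈ M0)
    (h : normalizer ((U.map (MulAut.conj a).toMonoidHom : Subgroup G) : Set G) ≤ M0) :
    normalizer (U : Set G) ≤ M0 := by
  intro y hy
  have h1 : a * y * a⁻¹ ∈ M0 := h (le_normalizer_map (H := U) (MulAut.conj a).toMonoidHom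
    (mem_map_of_mem (MulAut.conj a).toMonoidHom hy))
  have h2 := M0.mul_mem (M0.mul_mem (M0.inv_mem ha) h1) ha
  rwa [show a⁻¹ * (a * y * a⁻¹) * a = y by group] at h2

/-- Let G be a finite group of even order with O₂(G) = 1 such that every 2-local subgroup of G is solvable, of characteristic 2, and has no section isomorphic to the symmetric group of degree 4. Then every maximal 2-local subgroup of G is strongly embedded in G. -/
theorem result {G : Type*} [Group G] [Finite G] (heven : Even (Nat.card G)) (hO : Cfsg.pCore 2 G = ⊥) (hloc : ∀ M : Subgroup G, Cfsg.IsTwoLocal M → Group.IsSolvable M ∧ Cfsg.IsOfCharacteristicTwo ↥M ∧ ¬ Cfsg.Involves (Equiv.Perm (Fin 4)) ↥M) (M : Subgroup G) (hM : Cfsg.IsMaximalTwoLocal M) : Cfsg.IsStronglyEmbedded M := by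
  classical
  haveI : Fact (Nat.Prime 2) := ⟨Nat.prime_two⟩
  obtain ⟨D, hD, hDne, rfl⟩ := hM.1
  obtain ⟨T, hDT⟩ := hD.exists_le_sylow
  set M0 := normalizer (wJoin (T : Subgroup G) : Set G) with hM0
  have hTne : (T : Subgroup G) ≠ ⊥ := fun h => hDne (le_bot_iff.mp (h ▸ hDT))
  -- two-locals
  have hlocU : ∀ U : Subgroup G, IsPGroup 2 U → U ≠ ⊥ → Cfsg.IsTwoLocal (normalizer (U : Set G)) :=
    fun U hU hne => ⟨U, hU, hne, rfl⟩
  have hJp : IsPGroup 2 (jElem (T : Subgroup G)) := T.isPGroup'.to_le (jElem_le _)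
  have hJne := jElem_ne_bot T.isPGroup' hTne
  have hS : Setup (T : Subgroup G) (wJoin (T : Subgroup G)) :=
    setup_wJoin T (hloc _ (hlocU _ hJp hJne)).1 (hloc _ (hlocU _ hJp hJne)).2.2
  have hWne : wJoin (T : Subgroup G) ≠ ⊥ := fun h => omegaCenter_ne_bot T.isPGroup' hTne
    (le_bot_iff.mp (h ▸ omegaCenter_le_wJoin _))
  have hWp : IsPGroup 2 (wJoin (T : Subgroup G)) := T.isPGroup'.to_le hS.le_T
  have hTM0 : (T : Subgroup G) ≤ M0 := hS.norm
  have hJM0 : normalizer (jElem (T : Subgroup G) : Set G) ≤ M0 := normalizer_jElem_le _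
  have hCM0 : centralizer (wJoin (T : Subgroup G) : Set G) ≤ M0 := centralizer_le_normalizer _
  have hM0top : M0 ≠ ⊤ := by
    intro h
    haveI : (wJoin (T : Subgroup G)).Normal := normalizer_eq_top_iff.mp h
    exact hWne (le_bot_iff.mp (hO ▸ HallCore.le_pCore hWp))
  -- normalisers of nontrivial subgroups of `T`
  have key : ∀ k : ℕ, ∀ U : Subgroup G, U ≤ (T : Subgroup G) → U ≠ ⊥ →
      Nat.card (T : Subgroup G) - Nat.card ((T : Subgroup G) ⊓ normalizer (U : Set G) : Subgroup G) = k →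
      normalizer (U : Set G) ≤ M0 := by
    intro k
    induction k using Nat.strong_induction_on with
    | _ k ih =>
    intro U hUT hUne hk
    set R := (T : Subgroup G) ⊓ normalizer (U : Set G) with hR
    obtain ⟨hsol, hchar, hfree⟩ := hloc _ (hlocU U (T.isPGroup'.to_le hUT) hUne)
    have hUR : U ≤ R := le_inf hUT le_normalizer
    by_cases hRT : (T : Subgroup G) ≤ normalizer (U : Set G)
    · exact le_of_setup_sylow hsol hchar hfree T.isPGroup' hRT
        (fun P hP hTP _ => (T.is_maximal' hP hTP).le) hS hTM0 hCM0 hJM0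
    have hRp : IsPGroup 2 R := T.isPGroup'.to_le inf_le_left
    have hlt : R < (T : Subgroup G) := lt_of_le_of_ne inf_le_left fun h => hRT (h ▸ inf_le_right)
    have hcard : ∀ {X : Subgroup G}, X ≤ (T : Subgroup G) → ¬ Nat.card X ≤ Nat.card R →
        ∀ {V : Subgroup G}, X ≤ normalizer (V : Set G) → V ≤ (T : Subgroup G) → V ≠ ⊥ →
        normalizer (V : Set G) ≤ M0 := by
      intro X hXT hX V hXV hVT hVne
      refine ih _ ?_ V hVT hVne rfl
      have h1 : Nat.card X ≤ Nat.card ((T : Subgroup G) ⊓ normalizer (V : Set G) : Subgroup G) :=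
        card_le_of_le (le_inf hXT hXV)
      have h2 : Nat.card ((T : Subgroup G) ⊓ normalizer (V : Set G) : Subgroup G) ≤ Nat.card (T : Subgroup G) :=
        card_le_of_le inf_le_left
      omega
    have hRne : R ≠ ⊥ := fun h => hUne (le_bot_iff.mp (h ▸ hUR))
    have hgrow := H74Euler.lt_inf_normalizer T.isPGroup' hlt
    have hgcard : ¬ Nat.card ((T : Subgroup G) ⊓ normalizer (R : Set G) : Subgroup G) ≤ Nat.card R :=
      fun h => hgrow.ne (eq_of_le_of_card_ge hgrow.le h)
    have hNR : normalizer (R : Set G) ≤ M0 := hcard inf_le_left hgcard inf_le_right inf_le_left hRne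
    by_cases hmax : ∀ P : Subgroup G, IsPGroup 2 P → R ≤ P → P ≤ normalizer (U : Set G) → P ≤ R
    · -- `R` is a Sylow subgroup of the normaliser
      have hJR : normalizer (jElem R : Set G) ≤ M0 :=
        hcard inf_le_left hgcard (inf_le_right.trans (le_normalizer_jElem R)) ((jElem_le R).trans inf_le_left)
          (jElem_ne_bot hRp hRne)
      have hZR : omegaCenter (T : Subgroup G) ≤ omegaCenter R := fun z hz =>
        ⟨⟨hz.1, centralizer_le_normalizer _ (mem_centralizer_iff.mpr fun u hu =>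
            mem_centralizer_iff.mp hz.2.1 u (hUT hu))⟩,
          centralizer_le (fun r hr => (show r ∈ R from hr).1) hz.2.1, hz.2.2⟩
      have hCZ : centralizer (omegaCenter (T : Subgroup G) : Set G) ≤ M0 := by
        refine (centralizer_le_normalizer _).trans (hcard le_rfl ?_
          ((le_normalizer_omegaCenter _).trans (centralizer_le_normalizer _)) (omegaCenter_le _)
          (omegaCenter_ne_bot T.isPGroup' hTne))
        exact fun h => hlt.ne (eq_of_le_of_card_ge hlt.le h)
      exact le_of_setup_sylow hsol hchar hfree hRp inf_le_right hmax (setup_omegaCenter hRp)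
        (inf_le_left.trans hTM0) ((centralizer_le hZR).trans hCZ) hJR
    push Not at hmax
    obtain ⟨P, hP, hRP, hPN, hPR⟩ := hmax
    have hRP' : R < P := lt_of_le_of_ne hRP fun h => hPR h.ge
    have hgP := H74Euler.lt_inf_normalizer hP hRP'
    set X := P ⊓ normalizer (R : Set G) with hX
    obtain ⟨a, ha, haX⟩ := exists_conj_le hTM0 (hP.to_le inf_le_left) (inf_le_right.trans hNR : X ≤ M0)
    refine normalizer_map_le ha (hcard haX ?_ ?_ ((map_mono (hUR.trans hgP.le)).trans haX) ?_)
    · rw [card_map_of_injective (MulAut.conj a).injective]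
      exact fun h => hgP.ne (eq_of_le_of_card_ge hgP.le h)
    · exact (map_mono (inf_le_left.trans hPN)).trans (le_normalizer_map (H := U) (MulAut.conj a).toMonoidHom)
    · exact fun h => hUne ((map_eq_bot_iff_of_injective _ (MulAut.conj a).injective).mp h)
  have hU : ∀ U : Subgroup G, IsPGroup 2 U → U ≠ ⊥ → U ≤ M0 → normalizer (U : Set G) ≤ M0 := by
    intro U hUp hUne hUM
    obtain ⟨a, ha, haU⟩ := exists_conj_le hTM0 hUp hUM
    exact normalizer_map_le ha (key _ _ haU
      (fun h => hUne ((map_eq_bot_iff_of_injective _ (MulAut.conj a).injective).mp h)) rfl)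
  -- `M` is the chosen local
  have hMeq : M0 = normalizer (D : Set G) :=
    hM.2 M0 (hlocU _ hWp hWne) (hU D hD hDne (hDT.trans hTM0))
  rw [← hMeq]
  refine ⟨hM0top, ?_, fun g hg => ?_⟩
  · obtain ⟨c, hcT, -, hc2, hc1⟩ := exists_involution T.isPGroup' hTne
    refine even_iff_two_dvd.mpr ?_
    rw [← orderOf_eq_prime (p := 2) (by rw [pow_two]; exact hc2) hc1]
    exact Subgroup.orderOf_dvd_natCard M0 (hTM0 hcT)
  rw [← Nat.not_even_iff_odd]
  intro hev
  refine hg ?_
  set I := M0 ⊓ M0.map (MulAut.conj g).toMonoidHom with hI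
  obtain ⟨P⟩ : Nonempty (Sylow 2 I) := inferInstance
  set U := (P : Subgroup I).map I.subtype with hUdef
  have hUp : IsPGroup 2 U := P.isPGroup'.map _
  have hUI : U ≤ I := map_subtype_le _
  have hUne : U ≠ ⊥ := fun h => P.ne_bot_of_dvd_card (even_iff_two_dvd.mp hev)
    ((map_eq_bot_iff_of_injective _ I.subtype_injective).mp h)
  set U' := U.map (MulAut.conj g⁻¹).toMonoidHom with hU'def
  have hU'M : U' ≤ M0 := by
    rintro _ ⟨u, hu, rfl⟩
    obtain ⟨m, hm, hmu⟩ := (hUI hu).2
    rw [← hmu]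
    have : (MulAut.conj g⁻¹).toMonoidHom ((MulAut.conj g).toMonoidHom m) = m := by simp [mul_assoc]
    rw [this]; exact hm
  have hU'ne : U' ≠ ⊥ := fun h => hUne ((map_eq_bot_iff_of_injective _ (MulAut.conj g⁻¹).injective).mp h)
  have hNI : normalizer (U : Set G) ≤ I := by
    refine le_inf (hU U hUp hUne (hUI.trans inf_le_left)) fun x hx => ?_
    have h1 := hU U' (hUp.map _) hU'ne hU'M (le_normalizer_map (H := U) (MulAut.conj g⁻¹).toMonoidHom
      (mem_map_of_mem (MulAut.conj g⁻¹).toMonoidHom hx))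
    exact ⟨_, h1, by simp [mul_assoc]⟩
  -- so `U` is a Sylow subgroup
  have hUmax : ∀ S : Subgroup G, IsPGroup 2 S → U ≤ S → S ≤ U := by
    intro S hS' hUS
    by_contra hne
    have h1 := H74Euler.lt_inf_normalizer hS' (lt_of_le_of_ne hUS fun h => hne h.ge)
    have hle : (P : Subgroup I) ≤ (S ⊓ normalizer (U : Set G)).subgroupOf I := fun p hp =>
      h1.le (mem_map_of_mem I.subtype hp)
    have h2 := P.is_maximal' ((hS'.to_le inf_le_left).comap_of_injective I.subtype I.subtype_injective) hle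
    refine h1.not_ge fun x hx => ?_
    exact mem_map_of_mem I.subtype (show (⟨x, hNI hx.2⟩ : I) ∈ (P : Subgroup I) from h2.le hx)
  obtain ⟨a, ha, haU⟩ := exists_conj_le hTM0 hUp (hUI.trans inf_le_left)
  obtain ⟨b, hb, hbU⟩ := exists_conj_le hTM0 (hUp.map _) hU'M
  have hUc : Nat.card (T : Subgroup G) ≤ Nat.card U := by
    obtain ⟨S, hS'⟩ := hUp.exists_le_sylow
    have h1 := hUmax S S.isPGroup' hS'
    have h2 : Nat.card (T : Subgroup G) = Nat.card (S : Subgroup G) := by
      rw [Sylow.card_eq_multiplicity, Sylow.card_eq_multiplicity]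
    exact h2.le.trans (card_le_of_le h1)
  have haeq : U.map (MulAut.conj a).toMonoidHom = (T : Subgroup G) :=
    eq_of_le_of_card_ge haU (by rw [card_map_of_injective (MulAut.conj a).injective]; exact hUc)
  have hbeq : U'.map (MulAut.conj b).toMonoidHom = (T : Subgroup G) :=
    eq_of_le_of_card_ge hbU (by
      rw [card_map_of_injective (MulAut.conj b).injective, hU'def,
        card_map_of_injective (MulAut.conj g⁻¹).injective]
      exact hUc)
  -- `b g⁻¹ a⁻¹` normalises `T`
  have hx : b * g⁻¹ * a⁻¹ ∈ M0 := by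
    refine hU (T : Subgroup G) T.isPGroup' hTne hTM0 (mem_normalizer_of_map_le ?_)
    calc (T : Subgroup G).map (MulAut.conj (b * g⁻¹ * a⁻¹)).toMonoidHom
        = (U.map (MulAut.conj a).toMonoidHom).map (MulAut.conj (b * g⁻¹ * a⁻¹)).toMonoidHom := by rw [haeq]
      _ ≤ U'.map (MulAut.conj b).toMonoidHom := by
        rintro _ ⟨_, ⟨u, hu, rfl⟩, rfl⟩
        exact ⟨_, mem_map_of_mem (MulAut.conj g⁻¹).toMonoidHom hu, by simp [mul_assoc]⟩
      _ = _ := hbeq
  have h3 := M0.inv_mem (M0.mul_mem (M0.mul_mem (M0.inv_mem hb) hx) ha)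
  rwa [show (b⁻¹ * (b * g⁻¹ * a⁻¹) * a)⁻¹ = g by group] at h3

end Cfsg.Agent.S3756
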