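import Cfsg.Statements.S2299
import Cfsg.Agent.Lib.SL2Odd

set_option autoImplicit false
open Cfsg

namespace Cfsg.Agent.S2299

open Cfsg.Agent.GL2Borel Cfsg.Agent.GL2Chars Cfsg.Agent.PSL2Elements Cfsg.Agent.SL2Borel Cfsg.Agent.SL2Chars

/-- Over a finite field F with q elements, q odd, every irreducible complex character of SL₂ has degree 1, q, q + 1, q − 1, (q + 1)/2 or (q − 1)/2; and when q ≥ 5 (so that these six numbers are distinct) there are exactly one irreducible character of degree 1, one of degree q, (q − 3)/2 of degree q + 1, (q − 1)/2 of degree q − 1, two of degree (q + 1)/2 and two of degree (q − 1)/2. -/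
theorem result {F : Type*} [Field F] [Fintype F] (hodd : Odd (Fintype.card F)) :
    (∀ χ : Matrix.SpecialLinearGroup (Fin 2) F → ℂ, Cfsg.IsIrrCharacter (Matrix.SpecialLinearGroup (Fin 2) F) χ →
      χ 1 = 1 ∨ χ 1 = (Fintype.card F : ℂ) ∨ χ 1 = (Fintype.card F : ℂ) + 1 ∨ χ 1 = (Fintype.card F : ℂ) - 1 ∨
        χ 1 = (((Fintype.card F + 1) / 2 : ℕ) : ℂ) ∨ χ 1 = (((Fintype.card F - 1) / 2 : ℕ) : ℂ)) ∧
    (5 ≤ Fintype.card F →
      Nat.card {χ : Cfsg.IrrCharacter (Matrix.SpecialLinearGroup (Fin 2) F) // (χ : Matrix.SpecialLinearGroup (Fin 2) F → ℂ) 1 = 1} = 1 ∧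
      Nat.card {χ : Cfsg.IrrCharacter (Matrix.SpecialLinearGroup (Fin 2) F) // (χ : Matrix.SpecialLinearGroup (Fin 2) F → ℂ) 1 = (Fintype.card F : ℂ)} = 1 ∧
      Nat.card {χ : Cfsg.IrrCharacter (Matrix.SpecialLinearGroup (Fin 2) F) // (χ : Matrix.SpecialLinearGroup (Fin 2) F → ℂ) 1 = (Fintype.card F : ℂ) + 1} = (Fintype.card F - 3) / 2 ∧
      Nat.card {χ : Cfsg.IrrCharacter (Matrix.SpecialLinearGroup (Fin 2) F) // (χ : Matrix.SpecialLinearGroup (Fin 2) F → ℂ) 1 = (Fintype.card F : ℂ) - 1} = (Fintype.card F - 1) / 2 ∧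
      Nat.card {χ : Cfsg.IrrCharacter (Matrix.SpecialLinearGroup (Fin 2) F) // (χ : Matrix.SpecialLinearGroup (Fin 2) F → ℂ) 1 = (((Fintype.card F + 1) / 2 : ℕ) : ℂ)} = 2 ∧
      Nat.card {χ : Cfsg.IrrCharacter (Matrix.SpecialLinearGroup (Fin 2) F) // (χ : Matrix.SpecialLinearGroup (Fin 2) F → ℂ) 1 = (((Fintype.card F - 1) / 2 : ℕ) : ℂ)} = 2) := by
  classical
  obtain ⟨h, hh, hq⟩ := SL2Odd.exists_half hodd
  have e1 : (Fintype.card F + 1) / 2 = h + 1 := by omega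
  have e2 : (Fintype.card F - 1) / 2 = h := by omega
  rw [e1, e2]
  refine ⟨fun χ hχ => ?_, fun h5 => ?_⟩
  · obtain ⟨k, e, -⟩ := SL2Odd.exists_kind hodd hq hχ
    fin_cases k <;> simp [SL2Odd.tbl] at e <;> simp [e, Nat.cast_sub Fintype.card_pos]
  have key : ∀ (k : Fin 6) (χ : Cfsg.IrrCharacter (Matrix.SpecialLinearGroup (Fin 2) F)),
      (χ : Matrix.SpecialLinearGroup (Fin 2) F → ℂ) 1 = ((SL2Odd.tbl (Fintype.card F) h k).1 : ℂ) ↔
        SL2Odd.HasKind (χ : Matrix.SpecialLinearGroup (Fin 2) F → ℂ) h k := by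
    intro k χ
    refine ⟨fun he' => ?_, fun he' => he'.1⟩
    obtain ⟨l, hl⟩ := SL2Odd.exists_kind hodd hq χ.2
    have he : (SL2Odd.tbl (Fintype.card F) h k).1 = (SL2Odd.tbl (Fintype.card F) h l).1 := by
      exact_mod_cast he'.symm.trans hl.1
    suffices k = l by rwa [this]
    fin_cases k <;> fin_cases l <;> first
      | rfl
      | (simp [SL2Odd.tbl] at he <;> omega)
  have hc : ∀ k, Nat.card {χ : Cfsg.IrrCharacter (Matrix.SpecialLinearGroup (Fin 2) F) //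
      (χ : Matrix.SpecialLinearGroup (Fin 2) F → ℂ) 1 = ((SL2Odd.tbl (Fintype.card F) h k).1 : ℂ)} =
      ![1, 1, h - 1, 2, h, 2] k := fun k => by
    rw [← SL2Odd.card_kind hodd hq k]
    exact Nat.card_congr (Equiv.subtypeEquivRight (key k))
  have e3 : (Fintype.card F - 3) / 2 = h - 1 := by omega
  rw [e3]
  refine ⟨?_, ?_, ?_, ?_, ?_, ?_⟩
  · simpa [SL2Odd.tbl] using hc 0
  · simpa [SL2Odd.tbl] using hc 1
  · simpa [SL2Odd.tbl] using hc 2
  · simpa [SL2Odd.tbl, Nat.cast_sub Fintype.card_pos] using hc 4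
  · simpa [SL2Odd.tbl] using hc 3
  · simpa [SL2Odd.tbl] using hc 5

end Cfsg.Agent.S2299
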