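import Cfsg.Statements.S2300
import Cfsg.Agent.Lib.SL2Even

set_option autoImplicit false
open Cfsg

namespace Cfsg.Agent.S2300

open Cfsg.Agent.GL2Borel Cfsg.Agent.GL2Chars Cfsg.Agent.PSL2Elements Cfsg.Agent.SL2Borel Cfsg.Agent.SL2Chars

/-- Over a finite field F with q elements, q even, every irreducible complex character of SL₂ has degree 1, q − 1, q or q + 1; and when q ≥ 4 (so that these four numbers are distinct) there are exactly one irreducible character of degree 1, one of degree q, (q − 2)/2 of degree q + 1 and q/2 of degree q − 1. -/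
theorem result {F : Type*} [Field F] [Fintype F] [CharP F 2] :
    (∀ χ : Matrix.SpecialLinearGroup (Fin 2) F → ℂ, Cfsg.IsIrrCharacter (Matrix.SpecialLinearGroup (Fin 2) F) χ →
      χ 1 = 1 ∨ χ 1 = (Fintype.card F : ℂ) - 1 ∨ χ 1 = (Fintype.card F : ℂ) ∨ χ 1 = (Fintype.card F : ℂ) + 1) ∧
    (4 ≤ Fintype.card F →
      Nat.card {χ : Cfsg.IrrCharacter (Matrix.SpecialLinearGroup (Fin 2) F) // (χ : Matrix.SpecialLinearGroup (Fin 2) F → ℂ) 1 = 1} = 1 ∧
      Nat.card {χ : Cfsg.IrrCharacter (Matrix.SpecialLinearGroup (Fin 2) F) // (χ : Matrix.SpecialLinearGroup (Fin 2) F → ℂ) 1 = (Fintype.card F : ℂ)} = 1 ∧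
      Nat.card {χ : Cfsg.IrrCharacter (Matrix.SpecialLinearGroup (Fin 2) F) // (χ : Matrix.SpecialLinearGroup (Fin 2) F → ℂ) 1 = (Fintype.card F : ℂ) + 1} = (Fintype.card F - 2) / 2 ∧
      Nat.card {χ : Cfsg.IrrCharacter (Matrix.SpecialLinearGroup (Fin 2) F) // (χ : Matrix.SpecialLinearGroup (Fin 2) F → ℂ) 1 = (Fintype.card F : ℂ) - 1} = Fintype.card F / 2) := by
  classical
  refine ⟨fun χ hχ => ?_, fun hq => ?_⟩
  · rcases SL2Even.classify hχ with ⟨-, e, -⟩ | ⟨-, e, -⟩ | ⟨-, e, -⟩ | ⟨-, ⟨e, -⟩, -⟩ <;>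
      simp only [SL2Even.tbl] at e <;> simp [e, Nat.cast_sub Fintype.card_pos]
  have key : ∀ (k : Fin 4) (χ : Cfsg.IrrCharacter (Matrix.SpecialLinearGroup (Fin 2) F)),
      (χ : Matrix.SpecialLinearGroup (Fin 2) F → ℂ) 1 = ((SL2Even.tbl (Fintype.card F) k).1 : ℂ) ↔
        SL2Even.HasKind (χ : Matrix.SpecialLinearGroup (Fin 2) F → ℂ) k := by
    intro k χ
    refine ⟨fun h => ?_, fun h => h.1⟩
    obtain ⟨l, hl⟩ := SL2Even.exists_kind χ.2
    have he : (SL2Even.tbl (Fintype.card F) k).1 = (SL2Even.tbl (Fintype.card F) l).1 := by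
      exact_mod_cast h.symm.trans hl.1
    suffices k = l by rwa [this]
    fin_cases k <;> fin_cases l <;> first
      | rfl
      | (simp [SL2Even.tbl] at he <;> omega)
  have hc : ∀ k, Nat.card {χ : Cfsg.IrrCharacter (Matrix.SpecialLinearGroup (Fin 2) F) //
      (χ : Matrix.SpecialLinearGroup (Fin 2) F → ℂ) 1 = ((SL2Even.tbl (Fintype.card F) k).1 : ℂ)} =
      ![1, 1, (Fintype.card F - 2) / 2, Fintype.card F / 2] k := fun k => by
    rw [← SL2Even.card_kind k]
    exact Nat.card_congr (Equiv.subtypeEquivRight (key k))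
  refine ⟨?_, ?_, ?_, ?_⟩
  · simpa [SL2Even.tbl] using hc 0
  · simpa [SL2Even.tbl] using hc 1
  · simpa [SL2Even.tbl] using hc 2
  · simpa [SL2Even.tbl, Nat.cast_sub Fintype.card_pos] using hc 3

end Cfsg.Agent.S2300
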