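import Cfsg.Statements.S4765
import Cfsg.Agent.Lib.SL2TorusChars
import Cfsg.Agent.Lib.SL2Even
import Cfsg.Agent.Lib.CharKernel

set_option autoImplicit false
open Cfsg

namespace Cfsg.Agent.S4765

open Cfsg.Agent.GL2Borel Cfsg.Agent.GL2Chars Cfsg.Agent.PSL2Elements Cfsg.Agent.SL2Borel Cfsg.Agent.SL2Chars

/-- Let F be a finite field of characteristic p with at least 4 elements. Then PSL(2,F) has exactly one irreducible complex character of degree divisible by p, and its degree is the order of F. -/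
theorem result (p : ℕ) [Fact p.Prime] (F : Type*) [Field F] [Fintype F] [CharP F p] (hF : 4 ≤ Fintype.card F) : Nat.card {χ : Cfsg.IrrCharacter (Matrix.ProjectiveSpecialLinearGroup (Fin 2) F) // p ∣ Cfsg.charDegree (χ : Matrix.ProjectiveSpecialLinearGroup (Fin 2) F → ℂ)} = 1 ∧ ∀ χ : Cfsg.IrrCharacter (Matrix.ProjectiveSpecialLinearGroup (Fin 2) F), p ∣ Cfsg.charDegree (χ : Matrix.ProjectiveSpecialLinearGroup (Fin 2) F → ℂ) → Cfsg.charDegree (χ : Matrix.ProjectiveSpecialLinearGroup (Fin 2) F → ℂ) = Fintype.card F := by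
  classical
  have hq1 : 1 < Fintype.card F := Fintype.one_lt_card
  have hpq : p ∣ Fintype.card F := (CharP.cast_eq_zero_iff F p _).1 (FiniteField.cast_card_eq_zero F)
  have hp2 : 2 ≤ p := (Fact.out : p.Prime).two_le
  have hcd : ∀ {G : Type _} [Group G] (χ : G → ℂ) (n : ℕ), χ 1 = (n : ℂ) → Cfsg.charDegree χ = n :=
    fun χ n h => by simp [Cfsg.charDegree, h]
  -- the only irreducible character of `SL` of degree divisible by `p`
  have key : ∀ χ : Cfsg.IrrCharacter (Matrix.SpecialLinearGroup (Fin 2) F),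
      p ∣ Cfsg.charDegree (χ : Matrix.SpecialLinearGroup (Fin 2) F → ℂ) →
      (χ : Matrix.SpecialLinearGroup (Fin 2) F → ℂ) = stS F := by
    intro χ hχ
    rcases Nat.even_or_odd (Fintype.card F) with he | ho
    · have h2 : CharP F 2 := ringChar.of_eq (by
        by_contra hne
        exact Nat.not_even_iff_odd.2 (Nat.odd_iff.2 (FiniteField.odd_card_of_char_ne_two hne)) he)
      rcases SL2Even.classify χ.2 with ⟨-, e, -⟩ | ⟨e, -⟩ | ⟨-, e, -⟩ | ⟨-, ⟨e, -⟩, -⟩
      any_goals exact e
      all_goals rw [hcd _ _ e] at hχ; simp only [SL2Even.tbl] at hχ; simp at hχ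
      all_goals exfalso
      · omega
      · have := (Nat.dvd_add_right hpq).1 hχ
        exact absurd (Nat.le_of_dvd one_pos this) (by omega)
      · have := Nat.dvd_sub hpq hχ
        rw [show Fintype.card F - (Fintype.card F - 1) = 1 by omega] at this
        exact absurd (Nat.le_of_dvd one_pos this) (by omega)
    · obtain ⟨h, hh, hq⟩ := SL2Odd.exists_half ho
      have hone : p ∣ 1 → False := fun h1 => absurd (Nat.le_of_dvd one_pos h1) (by omega)
      have hp1 : p ∣ h + 1 → False := fun h1 => by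
        have h2 := dvd_mul_of_dvd_right h1 2
        rw [show 2 * (h + 1) = Fintype.card F + 1 by omega] at h2
        exact hone ((Nat.dvd_add_right hpq).1 h2)
      have hm1 : p ∣ h → False := fun h1 => by
        have h2 := dvd_mul_of_dvd_right h1 2
        have h3 := Nat.dvd_sub hpq h2
        rw [show Fintype.card F - 2 * h = 1 by omega] at h3
        exact hone h3
      rcases SL2Odd.classify ho hq χ.2 with ⟨-, e, -⟩ | ⟨e, -⟩ | ⟨-, e, -⟩ | ⟨-, e, -⟩ |
        ⟨-, ⟨⟨e, -⟩, -⟩ | ⟨e, -⟩⟩
      any_goals exact e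
      all_goals rw [hcd _ _ e] at hχ; simp [SL2Odd.tbl] at hχ
      all_goals exfalso
      · omega
      · exact hone ((Nat.dvd_add_right hpq).1 hχ)
      · exact hp1 hχ
      · refine hm1 ((Nat.Coprime.dvd_mul_left (m := 2) ?_).1 ?_)
        · refine (Nat.coprime_primes (Fact.out : p.Prime) Nat.prime_two).2 fun hp => ?_
          subst hp; omega
        · rwa [show 2 * h = Fintype.card F - 1 by omega]
      · exact hm1 hχ
  let N := Subgroup.center (Matrix.SpecialLinearGroup (Fin 2) F)
  have hneg : stS F (-1) = (Fintype.card F : ℂ) := by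
    simp [stS, SL2TorusChars.indS_neg_one, SL2TorusChars.one_neg_one]
  have hker : ∀ n ∈ N, stS F n = stS F 1 := by
    intro n hn
    rcases (mem_center_iff n).1 hn with rfl | rfl
    · rfl
    · rw [hneg, stS_one]
  let s0 : Cfsg.IrrCharacter (Matrix.ProjectiveSpecialLinearGroup (Fin 2) F) :=
    (CharKernel.quotEquiv N).symm ⟨⟨stS F, isIrr_stS⟩, hker⟩
  have hs0 : Cfsg.charDegree (s0 : Matrix.ProjectiveSpecialLinearGroup (Fin 2) F → ℂ) =
      Fintype.card F := by
    rw [← CharKernel.charDegree_quotEquiv N s0]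
    simp only [s0, Equiv.apply_symm_apply]
    exact hcd _ _ stS_one
  have huniq : ∀ χ : Cfsg.IrrCharacter (Matrix.ProjectiveSpecialLinearGroup (Fin 2) F),
      p ∣ Cfsg.charDegree (χ : Matrix.ProjectiveSpecialLinearGroup (Fin 2) F → ℂ) → χ = s0 := by
    intro χ hχ
    rw [← CharKernel.charDegree_quotEquiv N χ] at hχ
    apply (CharKernel.quotEquiv N).injective
    simp only [s0, Equiv.apply_symm_apply]
    exact Subtype.ext (Subtype.ext (key _ hχ))
  refine ⟨Nat.card_eq_one_iff_unique.2 ⟨⟨fun a b => Subtype.ext ((huniq _ a.2).trans (huniq _ b.2).symm)⟩,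
    ⟨⟨s0, by rw [hs0]; exact hpq⟩⟩⟩, fun χ hχ => by rw [huniq χ hχ]; exact hs0⟩

end Cfsg.Agent.S4765
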