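import Cfsg.Statements.S3401
import Cfsg.Agent.Lib.PermBurnside

set_option autoImplicit false
open Cfsg MulAction
open scoped Pointwise

namespace Cfsg.Agent.S3401

/-- A group whose order is twice an odd number has a subgroup of odd order consisting of all
elements of odd order. -/
theorem exists_odd_half {K : Type*} [Group K] [Finite K] (t : K) (ht : orderOf t = 2)
    (hodd : Odd (Nat.card K / 2)) (h2 : 2 ∣ Nat.card K) :
    ∃ O : Subgroup K, Odd (Nat.card O) ∧ O.index = 2 ∧
      ∀ x : K, x ∈ O ↔ Odd (orderOf x) := by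
  classical
  have := Fintype.ofFinite K
  let s : K →* ℤˣ := Equiv.Perm.sign.comp (MulAction.toPermHom K K)
  let σ : Equiv.Perm K := MulAction.toPermHom K K t
  have hσ : orderOf σ = 2 := by
    have : Function.Injective (MulAction.toPermHom K K) := MulAction.toPerm_injective
    rw [orderOf_injective _ this, ht]
  have hsupp : σ.support = Finset.univ := by
    ext x
    simp only [Equiv.Perm.mem_support, Finset.mem_univ, iff_true]
    intro h
    change t * x = x at h
    rw [mul_eq_right] at h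
    rw [h, orderOf_one] at ht
    exact absurd ht (by norm_num)
  have hst : s t = -1 := by
    obtain ⟨n, hn⟩ := Equiv.Perm.cycleType_prime_order (by rw [hσ]; exact Nat.prime_two)
    rw [hσ] at hn
    have hsum := σ.sum_cycleType
    rw [hn, hsupp, Finset.card_univ, Multiset.sum_replicate, ← Nat.card_eq_fintype_card] at hsum
    change Equiv.Perm.sign σ = -1
    rw [Equiv.Perm.sign_of_cycleType, hn, Multiset.sum_replicate, Multiset.card_replicate]
    have h3 : Nat.card K / 2 = n + 1 := by simp only [smul_eq_mul] at hsum; omega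
    rw [h3] at hodd
    have : Odd ((n + 1) • 2 + (n + 1)) := by
      simp only [smul_eq_mul, Nat.odd_iff] at hodd ⊢
      omega
    exact this.neg_one_pow
  have hsurj : Function.Surjective s := by
    intro u
    rcases Int.units_eq_one_or u with rfl | rfl
    · exact ⟨1, map_one s⟩
    · exact ⟨t, hst⟩
  have hidx : s.ker.index = 2 := by
    rw [Subgroup.index_ker, MonoidHom.range_eq_top.2 hsurj, Subgroup.card_top,
      Nat.card_eq_fintype_card]
    rfl
  have hcard : Odd (Nat.card s.ker) := by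
    have := s.ker.index_mul_card
    rw [hidx] at this
    rwa [← this, Nat.mul_div_cancel_left _ (by norm_num)] at hodd
  refine ⟨s.ker, hcard, hidx, fun x => ⟨fun hx => ?_, fun hx => ?_⟩⟩
  · exact hcard.of_dvd_nat (Subgroup.orderOf_mk x hx ▸ orderOf_dvd_natCard _)
  · rw [MonoidHom.mem_ker]
    rcases Int.units_eq_one_or (s x) with h | h
    · exact h
    · have h1 : s (x ^ orderOf x) = -1 := by rw [map_pow, h, hx.neg_one_pow]
      rw [pow_orderOf_eq_one, map_one] at h1
      exact absurd h1 (by decide)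

/-- The core step: a transitive normal subgroup of a 2-transitive group of degree `2` modulo `4`
without regular normal subgroup is 2-transitive. -/
theorem normal_twoTransitive {G : Type*} [Group G] [Finite G] {Ω : Type*} [Finite Ω]
    [MulAction G Ω] [IsMultiplyPretransitive G Ω 2]
    (hn : Nat.card Ω % 4 = 2) (M : Subgroup G) [M.Normal] [IsPretransitive M Ω] :
    IsMultiplyPretransitive M Ω 2 := by
  classical
  have : IsPretransitive G Ω := PermMultiTrans.transitive_of_two
  have : Nonempty Ω := (Nat.card_pos_iff.1 (by omega)).1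
  let a : Ω := Classical.arbitrary Ω
  obtain ⟨Q₀⟩ : Nonempty (Sylow 2 (stabilizer M a)) := inferInstance
  let Q : Subgroup M := (Q₀ : Subgroup (stabilizer M a)).map (stabilizer M a).subtype
  let R : Subgroup M := Subgroup.normalizer (Q : Set M)
  -- fixed points of `Q`
  have hQp : IsPGroup 2 Q := Q₀.2.map _
  have hQa : ∀ q ∈ Q, q • a = a := by
    rintro _ ⟨q, -, rfl⟩
    exact q.2
  let F : Set Ω := fixedPoints Q Ω
  have haF : a ∈ F := fun q => hQa q q.2
  have hFeven : Even F.ncard := by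
    have h := hQp.card_modEq_card_fixedPoints Ω
    rw [← Nat.card_coe_set_eq, Nat.even_iff]
    change Nat.card (fixedPoints Q Ω) % 2 = 0
    rw [← h]
    omega
  have hFpos : 0 < F.ncard := (Set.ncard_pos).2 ⟨a, haF⟩
  -- Witt: the normalizer is transitive on fixed points
  have hwitt : ∀ c ∈ F, ∃ r ∈ R, r • a = c := fun c hc => by
    refine PermMultiTrans.exists_mem_normalizer_smul_eq Q₀ (b := c) fun q hq => ?_
    exact hc ⟨q, q, hq, rfl⟩
  -- the image of `Q` in the whole group and its normalizer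
  let QG : Subgroup G := Q.map M.subtype
  let S : Subgroup G := Subgroup.normalizer (QG : Set G)
  have hFG : ∀ x, x ∈ F ↔ ∀ q ∈ QG, q • x = x := by
    intro x
    constructor
    · rintro hx _ ⟨q, hq, rfl⟩
      exact hx ⟨q, hq⟩
    · intro hx q
      exact hx _ ⟨q, q.2, rfl⟩
  have hSF : ∀ g ∈ S, ∀ x ∈ F, g • x ∈ F := by
    intro g hg x hx
    rw [hFG] at hx ⊢
    intro q hq
    have h1 : g⁻¹ * q * g ∈ QG := by
      have := (Subgroup.mem_normalizer_iff.1 (Subgroup.inv_mem S hg) q).1 hq
      simpa using this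
    have h2 := hx _ h1
    rw [mul_smul, mul_smul, inv_smul_eq_iff] at h2
    exact h2
  have hRS : ∀ r ∈ R, (r : G) ∈ S := by
    intro r hr
    rw [Subgroup.mem_normalizer_iff]
    intro x
    constructor
    · rintro ⟨q, hq, rfl⟩
      exact ⟨r * q * r⁻¹, (Subgroup.mem_normalizer_iff.1 hr q).1 hq, rfl⟩
    · rintro ⟨q, hq, he⟩
      refine ⟨r⁻¹ * q * r, ?_, ?_⟩
      · apply (Subgroup.mem_normalizer_iff.1 hr _).2
        rwa [show r * (r⁻¹ * q * r) * r⁻¹ = q by group]
      · simp only [Subgroup.coe_subtype, Subgroup.coe_mul, InvMemClass.coe_inv] at he ⊢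
        rw [he]; group
  let φ : S →* Equiv.Perm F :=
    { toFun := fun g =>
        { toFun := fun x => ⟨(g : G) • (x : Ω), hSF g g.2 x x.2⟩
          invFun := fun x => ⟨(g : G)⁻¹ • (x : Ω), hSF _ (S.inv_mem g.2) x x.2⟩
          left_inv := fun x => Subtype.ext (inv_smul_smul _ _)
          right_inv := fun x => Subtype.ext (smul_inv_smul _ _) }
      map_one' := Equiv.ext fun x => Subtype.ext (one_smul G (x : Ω))
      map_mul' := fun g h => Equiv.ext fun x => Subtype.ext (mul_smul (g : G) (h : G) (x : Ω)) }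
  -- the image of the normalizer in `M`
  let R' : Subgroup S := (R.map M.subtype).subgroupOf S
  have hR' : ∀ g : S, g ∈ R' ↔ (g : G) ∈ M := by
    intro g
    constructor
    · rintro ⟨r, -, hr⟩
      rw [show (g : G) = S.subtype g from rfl, ← hr]
      exact r.2
    · intro hg
      refine ⟨⟨g, hg⟩, ?_, rfl⟩
      change (⟨(g : G), hg⟩ : M) ∈ Subgroup.normalizer (Q : Set M)
      rw [Subgroup.mem_normalizer_iff]
      intro x
      have := Subgroup.mem_normalizer_iff.1 g.2 (x : G)
      constructor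
      · intro hx
        obtain ⟨q, hq, hqe⟩ := this.1 ⟨x, hx, rfl⟩
        rw [show (⟨(g : G), hg⟩ : M) * x * (⟨(g : G), hg⟩ : M)⁻¹ = q from Subtype.ext hqe.symm]
        exact hq
      · intro hx
        obtain ⟨q, hq, hqe⟩ := this.2 ⟨_, hx, rfl⟩
        rwa [show x = q from Subtype.ext hqe.symm]
  let K : Subgroup (Equiv.Perm F) := R'.map φ
  let H : Subgroup (Equiv.Perm F) := φ.range
  have hKH : ∀ h ∈ H, ∀ k ∈ K, h * k * h⁻¹ ∈ K := by
    rintro _ ⟨g, rfl⟩ _ ⟨k, hk, rfl⟩
    refine ⟨g * k * g⁻¹, ?_, by simp⟩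
    have := (hR' k).1 hk
    exact (hR' _).2 (Subgroup.Normal.conj_mem ‹M.Normal› _ this _)
  have hKtrans : IsPretransitive K F := by
    have h0 : ∀ c : F, ∃ k : K, k • (⟨a, haF⟩ : F) = c := by
      intro c
      obtain ⟨r, hr, hrc⟩ := hwitt c c.2
      have hmem : (⟨r, hRS r hr⟩ : S) ∈ R' := (hR' _).2 r.2
      exact ⟨⟨φ ⟨r, hRS r hr⟩, _, hmem, rfl⟩, Subtype.ext hrc⟩
    refine ⟨fun x y => ?_⟩
    obtain ⟨k, hk⟩ := h0 x
    obtain ⟨l, hl⟩ := h0 y
    exact ⟨l * k⁻¹, by rw [mul_smul, ← hk, inv_smul_smul, hl]⟩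
  -- the 2-part of `K`
  have hK4 : ¬ 4 ∣ Nat.card K := by
    intro h4
    let ψ : R →* Equiv.Perm F := φ.comp ((M.subtype.comp R.subtype).codRestrict S fun r => hRS r r.2)
    have hψK : ψ.range = K := by
      ext x
      constructor
      · rintro ⟨r, rfl⟩
        exact ⟨⟨(r : M), hRS r r.2⟩, (hR' _).2 (r : M).2, rfl⟩
      · rintro ⟨g, ⟨r, hr, hre⟩, rfl⟩
        refine ⟨⟨r, hr⟩, congrArg φ (Subtype.ext ?_)⟩
        exact hre
    have hQR : Q ≤ R := Subgroup.le_normalizer
    have hQker : Q.subgroupOf R ≤ ψ.ker := by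
      intro r hr
      rw [MonoidHom.mem_ker]
      exact Equiv.ext fun x => Subtype.ext (x.2 ⟨(r : M), hr⟩)
    have h1 : 4 * Nat.card Q ∣ Nat.card M := by
      refine Dvd.dvd.trans ?_ (Subgroup.card_subgroup_dvd_card R)
      rw [← ψ.ker.index_mul_card, Subgroup.index_ker, hψK]
      refine mul_dvd_mul h4 ?_
      rw [← Nat.card_congr (Subgroup.subgroupOfEquivOfLe hQR).toEquiv]
      exact Subgroup.card_dvd_of_le hQker
    have h2 : Nat.card Q = 2 ^ (Nat.card (stabilizer M a)).factorization 2 := by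
      rw [Subgroup.card_map_of_injective (stabilizer M a).subtype_injective, Q₀.card_eq_multiplicity]
    obtain ⟨c, hc⟩ := Nat.ordProj_dvd (Nat.card (stabilizer M a)) 2
    have hc2 : ¬ 2 ∣ c := by
      have := Nat.not_dvd_ordCompl Nat.prime_two (n := Nat.card (stabilizer M a))
        Nat.card_pos.ne'
      rwa [Nat.div_eq_of_eq_mul_left (by positivity) (hc.trans (mul_comm _ _))] at this
    rw [← PermBasic.card_mul_card_stabilizer (G := M) a, hc, ← h2] at h1
    obtain ⟨n', hn'⟩ : ∃ n', Nat.card Ω = 2 * n' ∧ ¬ 2 ∣ n' := ⟨Nat.card Ω / 2, by omega, by omega⟩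
    rw [hn'.1] at h1
    have h3 : 2 * 2 ∣ 2 * (n' * c) := by
      apply Nat.dvd_of_mul_dvd_mul_right (Nat.card_pos (α := Q))
      calc 2 * 2 * Nat.card Q ∣ 2 * n' * (Nat.card Q * c) := h1
        _ = 2 * (n' * c) * Nat.card Q := by ring
    have h5 : 2 ∣ n' * c := Nat.dvd_of_mul_dvd_mul_left (by norm_num) h3
    rcases Nat.prime_two.dvd_mul.1 h5 with h | h
    · exact hn'.2 h
    · exact hc2 h
  -- the group induced by the whole normalizer is primitive
  have hH2 : IsMultiplyPretransitive H F 2 := by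
    have : IsPretransitive H F := by
      refine ⟨fun x y => ?_⟩
      obtain ⟨⟨k, g, hg, rfl⟩, hk⟩ := exists_smul_eq K x y
      exact ⟨⟨φ g, g, rfl⟩, hk⟩
    refine PermMultiTrans.isTwoPretransitive_of_stabilizer (⟨a, haF⟩ : F) ?_
    rintro ⟨b, hb⟩ ⟨c, hc⟩ hba hca
    have hba' : b ≠ a := fun h => hba (Subtype.ext h)
    have hca' : c ≠ a := fun h => hca (Subtype.ext h)
    obtain ⟨g, hga, hgb⟩ := PermMultiTrans.exists_smul_two (G := G) hba'.symm hca'.symm
    -- conjugate `Q` back inside the stabilizer of `a` and `c`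
    let T : Subgroup M := stabilizer M a ⊓ stabilizer M c
    let σ : M ≃* M := MulAut.conjNormal g
    have hσ : ∀ q : M, ((σ q : M) : G) = g * q * g⁻¹ := fun q => MulAut.conjNormal_apply _ _
    have hQ'T : Q.map σ.toMonoidHom ≤ T := by
      rintro _ ⟨q, hq, rfl⟩
      refine ⟨?_, ?_⟩
      · change ((σ q : M) : G) • a = a
        rw [hσ, PermBasic.conj_smul_eq hga]
        exact (congrArg (g • ·) (hQa q hq)).trans hga
      · change ((σ q : M) : G) • c = c
        rw [hσ, ← hgb, mul_smul, mul_smul, inv_smul_smul]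
        exact congrArg (g • ·) (hb ⟨q, hq⟩)
    have hQT : Q ≤ T := fun q hq => ⟨hQa q hq, hc ⟨q, hq⟩⟩
    have hmax : ∀ W : Subgroup M, W ≤ T → IsPGroup 2 W → Nat.card W ≤ Nat.card Q := by
      intro W hW hWp
      obtain ⟨P, hP⟩ := (hWp.comap_of_injective (stabilizer M a).subtype
        (stabilizer M a).subtype_injective).exists_le_sylow
      have hWle : W ≤ (P : Subgroup (stabilizer M a)).map (stabilizer M a).subtype := fun w hw =>
        ⟨⟨w, (hW hw).1⟩, hP hw, rfl⟩
      refine (Nat.le_of_dvd Nat.card_pos (Subgroup.card_dvd_of_le hWle)).trans (le_of_eq ?_)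
      rw [Subgroup.card_map_of_injective (stabilizer M a).subtype_injective,
        Subgroup.card_map_of_injective (stabilizer M a).subtype_injective]
      exact Nat.card_congr (P.equiv Q₀).toEquiv
    obtain ⟨P₁, hP₁⟩ := (hQp.comap_of_injective T.subtype T.subtype_injective).exists_le_sylow
    obtain ⟨P₂, hP₂⟩ :=
      ((hQp.map σ.toMonoidHom).comap_of_injective T.subtype T.subtype_injective).exists_le_sylow
    have e1 : (P₁ : Subgroup T).map T.subtype = Q := (Subgroup.eq_of_le_of_card_ge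
      (fun q hq => Subgroup.mem_map.2 ⟨⟨q, hQT hq⟩, hP₁ hq, rfl⟩)
      (hmax _ (Subgroup.map_subtype_le _) (P₁.2.map _))).symm
    have e2 : (P₂ : Subgroup T).map T.subtype = Q.map σ.toMonoidHom := (Subgroup.eq_of_le_of_card_ge
      (fun q hq => Subgroup.mem_map.2 ⟨⟨q, hQ'T hq⟩, hP₂ hq, rfl⟩)
      ((hmax _ (Subgroup.map_subtype_le _) (P₂.2.map _)).trans
        (Subgroup.card_map_of_injective (K := Q) σ.injective).ge)).symm
    obtain ⟨h, hh⟩ := exists_smul_eq T P₂ P₁
    have hmem : ((h : M) : G) * g ∈ S := by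
      have key : ∀ q ∈ QG, ((h : M) : G) * g * q * (((h : M) : G) * g)⁻¹ ∈ QG := by
        rintro _ ⟨q, hq, rfl⟩
        obtain ⟨t, ht, hte⟩ := (e2.symm ▸ Subgroup.mem_map_of_mem σ.toMonoidHom hq :
          σ q ∈ (P₂ : Subgroup T).map T.subtype)
        have h1 : MulAut.conj h t ∈ (P₁ : Subgroup T) := by
          rw [← hh, Sylow.coe_subgroup_smul]
          exact Subgroup.smul_mem_pointwise_smul _ (MulAut.conj h) _ ht
        refine ⟨((MulAut.conj h t : T) : M), e1 ▸ Subgroup.mem_map_of_mem T.subtype h1, ?_⟩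
        have hte' : ((t : M) : G) = g * (q : G) * g⁻¹ := by
          rw [← hσ]; exact congrArg Subtype.val hte
        simp only [Subgroup.coe_subtype, MulAut.conj_apply, Subgroup.coe_mul, InvMemClass.coe_inv]
        rw [hte']; group
      have heq : QG.map (MulAut.conj (((h : M) : G) * g)).toMonoidHom = QG := by
        refine Subgroup.eq_of_le_of_card_ge ?_
          (Subgroup.card_map_of_injective (K := QG) (MulAut.conj _).injective).ge
        rintro _ ⟨q, hq, rfl⟩
        exact key q hq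
      rw [Subgroup.mem_normalizer_iff]
      intro x
      refine ⟨key x, fun hx => ?_⟩
      rw [← heq] at hx
      obtain ⟨q, hq, hqe⟩ := hx
      rwa [← (MulAut.conj (((h : M) : G) * g)).injective hqe]
    refine ⟨⟨φ ⟨_, hmem⟩, _, rfl⟩, Subtype.ext ?_, Subtype.ext ?_⟩
    · change (((h : M) : G) * g) • a = a
      rw [mul_smul, hga]
      exact h.2.1
    · change (((h : M) : G) * g) • b = c
      rw [mul_smul, hgb]
      exact h.2.2
  -- hence `Q` has exactly two fixed points
  have hF2 : F.ncard = 2 := by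
    have hFK : F.ncard ∣ Nat.card K := by
      rw [← Nat.card_coe_set_eq]
      exact @PermBasic.card_dvd_of_transitive _ _ _ _ hKtrans ⟨⟨a, haF⟩⟩
    have h2K : 2 ∣ Nat.card K := (even_iff_two_dvd.1 hFeven).trans hFK
    obtain ⟨t, ht⟩ := exists_prime_orderOf_dvd_card' (G := K) 2 h2K
    obtain ⟨O, hOodd, hOidx, hOiff⟩ := exists_odd_half t ht
      (Nat.odd_iff.2 (by omega)) h2K
    let O' : Subgroup H := (O.map K.subtype).subgroupOf H
    have : O'.Normal := ⟨by
      rintro ⟨x, hx⟩ ⟨y, hy, hyx⟩ ⟨h, hh⟩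
      refine ⟨⟨h * x * h⁻¹, hKH h hh _ ((show (y : Equiv.Perm F) = x from hyx) ▸ y.2)⟩, (hOiff _).2 ?_, rfl⟩
      rw [← Subgroup.orderOf_coe]
      change Odd (orderOf (h * x * h⁻¹))
      rw [← MulAut.conj_apply, MulEquiv.orderOf_eq]
      rw [← show (y : Equiv.Perm F) = x from hyx, Subgroup.orderOf_coe]
      exact (hOiff _).1 hy⟩
    have : IsPreprimitive H F := isPreprimitive_of_is_two_pretransitive hH2
    have hKleH : K ≤ H := by rintro _ ⟨g, -, rfl⟩; exact ⟨g, rfl⟩
    by_cases hO' : O' = ⊥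
    · have hO : O = ⊥ := by
        rw [Subgroup.eq_bot_iff_forall]
        intro x hx
        have : (⟨(x : Equiv.Perm F), hKleH x.2⟩ : H) ∈ O' := ⟨x, hx, rfl⟩
        rw [hO', Subgroup.mem_bot] at this
        exact Subtype.ext (congrArg (fun z : H => (z : Equiv.Perm F)) this)
      rw [hO, Subgroup.index_bot] at hOidx
      rw [hOidx] at hFK
      exact le_antisymm (Nat.le_of_dvd (by norm_num) hFK)
        (Nat.le_of_dvd hFpos (even_iff_two_dvd.1 hFeven))
    · exfalso
      have := PermBasic.isPretransitive_of_normal (X := F) O' hO'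
      have hd : F.ncard ∣ Nat.card O' := by
        rw [← Nat.card_coe_set_eq]
        exact @PermBasic.card_dvd_of_transitive _ _ _ _ this ⟨⟨a, haF⟩⟩
      have hOO' : Nat.card O' = Nat.card O := by
        rw [← Subgroup.card_map_of_injective (K := O') H.subtype_injective,
          Subgroup.subgroupOf_map_subtype,
          inf_eq_left.2 ((Subgroup.map_subtype_le O).trans hKleH),
          Subgroup.card_map_of_injective K.subtype_injective]
      rw [hOO'] at hd
      exact Nat.not_even_iff_odd.2 hOodd (hFeven.trans_dvd hd)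
  -- conclusion
  obtain ⟨b, hbF, hba⟩ : ∃ b ∈ F, b ≠ a := Set.exists_ne_of_one_lt_ncard (by omega) a
  refine PermMultiTrans.isTwoPretransitive_of_stabilizer a fun x y hx hy => ?_
  -- every point other than `a` is in the orbit of `b`
  suffices h : ∀ c, c ≠ a → ∃ m : M, m • a = a ∧ m • b = c by
    obtain ⟨m, hma, hmb⟩ := h x hx
    obtain ⟨l, hla, hlb⟩ := h y hy
    refine ⟨l * m⁻¹, ?_, ?_⟩
    · rw [mul_smul, inv_smul_eq_iff.2 hma.symm, hla]
    · rw [mul_smul, ← hmb, inv_smul_smul, hlb]
  intro c hca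
  obtain ⟨g, hga, hgb⟩ := PermMultiTrans.exists_smul_two (G := G) hba.symm hca.symm
  let σ : M ≃* M := MulAut.conjNormal g
  have hσ : ∀ q : M, ((σ q : M) : G) = g * q * g⁻¹ := fun q => MulAut.conjNormal_apply _ _
  have hQ'a : Q.map σ.toMonoidHom ≤ stabilizer M a := by
    rintro _ ⟨q, hq, rfl⟩
    change ((σ q : M) : G) • a = a
    rw [hσ, PermBasic.conj_smul_eq hga]
    exact (congrArg (g • ·) (hQa q hq)).trans hga
  obtain ⟨P₂, hP₂⟩ := ((hQp.map σ.toMonoidHom).comap_of_injective (stabilizer M a).subtype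
    (stabilizer M a).subtype_injective).exists_le_sylow
  have e2 : (P₂ : Subgroup (stabilizer M a)).map (stabilizer M a).subtype = Q.map σ.toMonoidHom :=
    (Subgroup.eq_of_le_of_card_ge
      (fun q hq => Subgroup.mem_map.2 ⟨⟨q, hQ'a hq⟩, hP₂ hq, rfl⟩) (by
        refine le_trans (le_of_eq ?_) (Subgroup.card_map_of_injective (K := Q) σ.injective).ge
        rw [Subgroup.card_map_of_injective (stabilizer M a).subtype_injective,
          Subgroup.card_map_of_injective (stabilizer M a).subtype_injective]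
        exact Nat.card_congr (P₂.equiv Q₀).toEquiv)).symm
  obtain ⟨h, hh⟩ := exists_smul_eq (stabilizer M a) P₂ Q₀
  -- `h⁻¹ • b` is fixed by the conjugate, hence equals `c`
  have hfix : ∀ q ∈ Q, q • ((h : M) • c) = (h : M) • c := by
    rintro _ ⟨q, hq, rfl⟩
    rw [← hh, Sylow.coe_subgroup_smul, SetLike.mem_coe,
      Subgroup.mem_pointwise_smul_iff_inv_smul_mem] at hq
    obtain ⟨r, hr, hre⟩ :=
      (e2 ▸ Subgroup.mem_map_of_mem (stabilizer M a).subtype hq :
        (stabilizer M a).subtype ((MulAut.conj h)⁻¹ • q) ∈ Q.map σ.toMonoidHom)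
    have h1 : (σ r : M) • c = c := by
      change ((σ r : M) : G) • c = c
      rw [hσ, ← hgb, mul_smul, mul_smul, inv_smul_smul]
      exact congrArg (g • ·) (hbF ⟨r, hr⟩)
    simp only [MulEquiv.coe_toMonoidHom] at hre
    rw [hre] at h1
    simp only [Subgroup.coe_subtype, MulAut.smul_def, MulAut.conj_inv_apply, Subgroup.coe_mul,
      InvMemClass.coe_inv] at h1 ⊢
    rw [mul_smul, mul_smul, inv_smul_eq_iff] at h1
    exact h1
  refine ⟨(h : M)⁻¹, inv_smul_eq_iff.2 h.2.symm, ?_⟩
  have hmemF : (h : M) • c ∈ F := fun q => hfix q q.2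
  have hne : (h : M) • c ≠ a := fun he => hca (by
    exact MulAction.injective (h : M) (he.trans h.2.symm))
  have hFeq : F = {a, b} := by
    refine (Set.eq_of_subset_of_ncard_le ?_ ?_).symm
    · rintro x (rfl | rfl) <;> assumption
    · rw [hF2, Set.ncard_pair hba.symm]
  rw [hFeq] at hmemF
  rcases hmemF with h1 | h1
  · exact absurd h1 hne
  · rw [inv_smul_eq_iff]; exact h1.symm

/-- Let G be a doubly transitive permutation group on a finite set Ω with |Ω| ≡ 2 mod 4 and |Ω| > 2. Then G has a unique minimal normal subgroup M (a nontrivial normal subgroup contained in every nontrivial normal subgroup); M is simple and doubly transitive on Ω, and its centralizer in G is trivial (so G embeds in Aut(M)). -/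
theorem result {G : Type*} [Group G] [Finite G] {Ω : Type*} [Fintype Ω] [MulAction G Ω] [FaithfulSMul G Ω]
    (h2 : MulAction.IsMultiplyPretransitive G Ω 2) (hn : Fintype.card Ω % 4 = 2) (hn2 : 2 < Fintype.card Ω) :
    ∃ M : Subgroup G, M.Normal ∧ M ≠ ⊥ ∧ (∀ N : Subgroup G, N.Normal → N ≠ ⊥ → M ≤ N) ∧
      IsSimpleGroup ↥M ∧ MulAction.IsMultiplyPretransitive ↥M Ω 2 ∧ Subgroup.centralizer (M : Set G) = ⊥ := by
  classical
  have hn' : Nat.card Ω % 4 = 2 := by rw [Nat.card_eq_fintype_card]; exact hn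
  have hn2' : 2 < Nat.card Ω := by rw [Nat.card_eq_fintype_card]; exact hn2
  have : Nonempty Ω := (Nat.card_pos_iff.1 (by omega)).1
  have : Nontrivial G := by
    have : Nontrivial Ω := Finite.one_lt_card_iff_nontrivial.1 (by omega)
    obtain ⟨x, y, hxy⟩ := exists_pair_ne Ω
    obtain ⟨g, hg⟩ := (PermMultiTrans.transitive_of_two (G := G) (X := Ω)).exists_smul_eq x y
    exact ⟨g, 1, fun h => hxy (by rw [← hg, h, one_smul])⟩
  obtain ⟨M, -, hM⟩ := PermMinimalNormal.exists_isMinNormal_le (G := G) ⊤ top_ne_bot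
  have := hM.1
  have : IsPreprimitive G Ω := isPreprimitive_of_is_two_pretransitive h2
  have := PermBasic.isPretransitive_of_normal (X := Ω) M hM.2.1
  have hnonab : ¬ IsMulCommutative M := by
    intro hab
    obtain ⟨p, hp, hpow⟩ := hM.exists_prime_pow_eq_one hab
    have : Fact p.Prime := ⟨hp⟩
    have hMp : IsPGroup p M := fun m => ⟨1, by rw [pow_one]; exact Subtype.ext (hpow m m.2)⟩
    obtain ⟨k, hk⟩ := IsPGroup.iff_card.1 hMp
    rw [PermBasic.card_eq_of_regular (X := Ω)
      (PermBasic.stabilizer_eq_bot_of_abelian M hab (Classical.arbitrary Ω))] at hk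
    have h2 : p = 2 := by
      have : 2 ∣ p ^ k := ⟨Nat.card Ω / 2, by omega⟩
      exact ((Nat.prime_dvd_prime_iff_eq Nat.prime_two hp).1 (Nat.prime_two.dvd_of_dvd_pow this)).symm
    subst h2
    rcases Nat.lt_or_ge k 2 with hk2 | hk2
    · have : 2 ^ k ≤ 2 := by interval_cases k <;> norm_num
      omega
    · have : 4 ∣ 2 ^ k := pow_dvd_pow 2 hk2
      omega
  rcases PermBurnside.minNormal_of_twoTransitive (X := Ω) (by omega) hM with ⟨hab, -⟩ | ⟨-, hs, hp⟩
  · exact absurd hab hnonab
  have hC : Subgroup.centralizer (M : Set G) = ⊥ := by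
    by_contra hne
    set C := Subgroup.centralizer (M : Set G) with hCdef
    have := PermBasic.isPretransitive_of_normal (X := Ω) C hne
    have hreg : ∀ a : Ω, stabilizer M a = ⊥ :=
      PermMinimalNormal.stabilizer_eq_bot_of_commuting C M fun x hx y hy =>
        ((Subgroup.mem_centralizer_iff.1 hx) y hy).symm
    let a : Ω := Classical.arbitrary Ω
    have : Nontrivial Ω := Finite.one_lt_card_iff_nontrivial.1 (by omega)
    have hco := IsPreprimitive.isCoatom_stabilizer_of_isPreprimitive (G := M) a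
    rw [hreg a] at hco
    have : Nontrivial M := (Subgroup.nontrivial_iff_ne_bot M).2 hM.2.1
    obtain ⟨x, hx⟩ := exists_ne (1 : M)
    have hcyc : IsCyclic M := by
      refine ⟨x, fun y => ?_⟩
      have hz : Subgroup.zpowers x = ⊤ := hco.2 _ (bot_lt_iff_ne_bot.2 (by simpa using hx))
      exact Subgroup.mem_zpowers_iff.1 (hz.symm ▸ Subgroup.mem_top y : y ∈ Subgroup.zpowers x)
    exact hnonab hcyc.isMulCommutative
  refine ⟨M, hM.1, hM.2.1, fun N hN hN0 => ?_, hs, normal_twoTransitive hn' M, hC⟩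
  by_contra hle
  obtain ⟨L, hLN, hL⟩ := PermMinimalNormal.exists_isMinNormal_le (G := G) N hN0
  have hne : M ≠ L := fun h => hle (h ▸ hLN)
  have h1 := PermMinimalNormal.le_centralizer_of_inf_eq_bot hM.1 hL.1
    (hM.inf_eq_bot_of_ne hL hne)
  rw [hC, le_bot_iff] at h1
  exact hL.2.1 h1


end Cfsg.Agent.S3401
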