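import Cfsg.Statements.S4106
import Mathlib

set_option autoImplicit false
open Cfsg

namespace Cfsg.Agent.S4106

theorem bound (s : Finset ℕ) : ∀ (G : Type*) [Group G] [Finite G], (∀ q ∈ s, q.Prime) →
    Nat.card {C : ConjClasses G // ∀ q : ℕ, q.Prime → (∃ g : G, ConjClasses.mk g = C ∧ q ∣ orderOf g) → q ∈ s}
      ≤ ∏ q ∈ s, q ^ (Nat.card G).factorization q := by
  classical
  induction s using Finset.induction with
  | empty =>
    intro G _ _ _
    have : ∀ C : {C : ConjClasses G // ∀ q : ℕ, q.Prime → (∃ g : G, ConjClasses.mk g = C ∧ q ∣ orderOf g) → q ∈ (∅ : Finset ℕ)},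
        C.1 = ConjClasses.mk 1 := by
      rintro ⟨C, hC⟩
      obtain ⟨g, rfl⟩ := ConjClasses.exists_rep C
      obtain rfl : g = 1 := by
        by_contra hg
        obtain ⟨q, hq, hqd⟩ := Nat.exists_prime_and_dvd (fun h => hg (orderOf_eq_one_iff.1 h))
        exact absurd (hC q hq ⟨g, rfl, hqd⟩) (by simp)
      rfl
    haveI : Subsingleton {C : ConjClasses G // ∀ q : ℕ, q.Prime → (∃ g : G, ConjClasses.mk g = C ∧ q ∣ orderOf g) → q ∈ (∅ : Finset ℕ)} :=
      ⟨fun a b => Subtype.ext ((this a).trans (this b).symm)⟩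
    rw [Finset.prod_empty]
    exact Finite.card_le_one_iff_subsingleton.2 inferInstance
  | insert p s hps ih =>
    intro G _ _ hs
    have hp : p.Prime := hs p (Finset.mem_insert_self _ _)
    haveI := Fact.mk hp
    haveI : Fintype G := Fintype.ofFinite G
    obtain ⟨P⟩ : Nonempty (Sylow p G) := inferInstance
    haveI : Fintype (P : Subgroup G) := Fintype.ofFinite _
    let T : ↥(P : Subgroup G) → Type _ := fun x =>
      {C : ConjClasses (Subgroup.centralizer ({(x : G)} : Set G)) //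
        ∀ q : ℕ, q.Prime → (∃ g, ConjClasses.mk g = C ∧ q ∣ orderOf g) → q ∈ s}
    let F : (Σ x, T x) → ConjClasses G := fun z =>
      ConjClasses.mk ((z.1 : G) * ((ConjClasses.exists_rep z.2.1).choose : G))
    have hsurj : ∀ C : ConjClasses G,
        (∀ q : ℕ, q.Prime → (∃ g : G, ConjClasses.mk g = C ∧ q ∣ orderOf g) → q ∈ insert p s) →
          C ∈ Set.range F := by
      intro C hC
      obtain ⟨g, rfl⟩ := ConjClasses.exists_rep C
      obtain ⟨n, hn⟩ : ∃ n, orderOf g = n := ⟨_, rfl⟩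
      have hn0 : n ≠ 0 := hn ▸ (orderOf_pos g).ne'
      obtain ⟨a, ha⟩ : ∃ a, p ^ n.factorization p = a := ⟨_, rfl⟩
      obtain ⟨b, hb⟩ : ∃ b, n / a = b := ⟨_, rfl⟩
      have hab : a * b = n := by rw [← hb, ← ha]; exact Nat.ordProj_mul_ordCompl_eq_self n p
      have hpb : ¬ p ∣ b := by rw [← hb, ← ha]; exact Nat.not_dvd_ordCompl hp hn0
      have hcop : a.Coprime b := by rw [← hb, ← ha]; exact (Nat.coprime_ordCompl hp hn0).pow_left _
      have hbez : (1 : ℤ) = a * a.gcdA b + b * a.gcdB b := by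
        rw [← Nat.gcd_eq_gcd_ab, hcop.gcd_eq_one]; rfl
      set x := g ^ ((b : ℤ) * a.gcdB b) with hx
      set y := g ^ ((a : ℤ) * a.gcdA b) with hy
      have hxy : x * y = g := by rw [hx, hy, ← zpow_add, add_comm, ← hbez, zpow_one]
      have hcomm : y * x = x * y := ((Commute.refl g).zpow_zpow _ _).eq
      have hxa : x ^ a = 1 := by
        rw [hx, ← zpow_natCast, ← zpow_mul, ← orderOf_dvd_iff_zpow_eq_one, hn, ← hab, Nat.cast_mul]
        exact ⟨a.gcdB b, by ring⟩
      have hyb : y ^ b = 1 := by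
        rw [hy, ← zpow_natCast, ← zpow_mul, ← orderOf_dvd_iff_zpow_eq_one, hn, ← hab, Nat.cast_mul]
        exact ⟨a.gcdA b, by ring⟩
      obtain ⟨i, -, hi⟩ := (Nat.dvd_prime_pow hp).1 (ha ▸ orderOf_dvd_of_pow_eq_one hxa)
      have hpg : IsPGroup p (Subgroup.zpowers x) := IsPGroup.of_card (n := i) (by rw [Nat.card_zpowers, hi])
      obtain ⟨R, hR⟩ := hpg.exists_le_sylow
      obtain ⟨c, rfl⟩ := MulAction.exists_smul_eq G P R
      have hxR := hR (Subgroup.mem_zpowers x)
      rw [Sylow.coe_subgroup_smul, Subgroup.mem_pointwise_smul_iff_inv_smul_mem] at hxR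
      simp only [MulAut.smul_def, ← map_inv, MulAut.conj_apply] at hxR
      set x' : (P : Subgroup G) := ⟨c⁻¹ * x * c⁻¹⁻¹, hxR⟩ with hx'
      have hyC : c⁻¹ * y * c⁻¹⁻¹ ∈ Subgroup.centralizer ({(x' : G)} : Set G) := by
        rw [Subgroup.mem_centralizer_singleton_iff]
        calc c⁻¹ * y * c⁻¹⁻¹ * (c⁻¹ * x * c⁻¹⁻¹) = c⁻¹ * (y * x) * c⁻¹⁻¹ := by group
          _ = c⁻¹ * (x * y) * c⁻¹⁻¹ := by rw [hcomm]
          _ = c⁻¹ * x * c⁻¹⁻¹ * (c⁻¹ * y * c⁻¹⁻¹) := by group
      have hq : ∀ q : ℕ, q.Prime → (∃ g', ConjClasses.mk g' = ConjClasses.mk (⟨_, hyC⟩ : Subgroup.centralizer ({(x' : G)} : Set G)) ∧ q ∣ orderOf g') → q ∈ s := by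
        rintro q hqp ⟨g', hg', hqd⟩
        obtain ⟨w, hw⟩ := isConj_iff.1 (ConjClasses.mk_eq_mk_iff_isConj.1 hg')
        have ho : orderOf g' = orderOf y := by
          have h1 : orderOf (w * g' * w⁻¹) = orderOf g' := MulEquiv.orderOf_eq (MulAut.conj w) g'
          rw [← h1, hw, ← Subgroup.orderOf_coe]
          exact MulEquiv.orderOf_eq (MulAut.conj c⁻¹) y
        rw [ho] at hqd
        have hqb : q ∣ b := hqd.trans (orderOf_dvd_of_pow_eq_one hyb)
        rcases Finset.mem_insert.1 (hC q hqp ⟨g, rfl, hn ▸ hab ▸ hqb.mul_left a⟩) with rfl | h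
        · exact absurd hqb hpb
        · exact h
      refine ⟨⟨x', ⟨_, hq⟩⟩, ?_⟩
      generalize hchoice : (ConjClasses.exists_rep (ConjClasses.mk (⟨_, hyC⟩ : Subgroup.centralizer ({(x' : G)} : Set G)))).choose = y'
      have hy' := hchoice ▸ (ConjClasses.exists_rep (ConjClasses.mk (⟨_, hyC⟩ : Subgroup.centralizer ({(x' : G)} : Set G)))).choose_spec
      show ConjClasses.mk ((x' : G) * ((ConjClasses.exists_rep (ConjClasses.mk (⟨_, hyC⟩ : Subgroup.centralizer ({(x' : G)} : Set G)))).choose : G)) = _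
      rw [hchoice, ConjClasses.mk_eq_mk_iff_isConj, isConj_iff]
      obtain ⟨w, hw⟩ := isConj_iff.1 (ConjClasses.mk_eq_mk_iff_isConj.1 hy')
      refine ⟨c * (w : G), ?_⟩
      have hw1 : (w : G) * y' * (w : G)⁻¹ = c⁻¹ * y * c⁻¹⁻¹ := congrArg Subtype.val hw
      have hw2 : (w : G) * x' = x' * w := Subgroup.mem_centralizer_singleton_iff.1 w.2
      calc c * (w : G) * ((x' : G) * y') * (c * w)⁻¹
          = c * ((w : G) * x') * (w : G)⁻¹ * ((w : G) * y' * (w : G)⁻¹) * c⁻¹ := by group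
        _ = c * (x' * w) * (w : G)⁻¹ * (c⁻¹ * y * c⁻¹⁻¹) * c⁻¹ := by rw [hw1, hw2]
        _ = x * y := by show c * ((c⁻¹ * x * c⁻¹⁻¹) * (w : G)) * (w : G)⁻¹ * (c⁻¹ * y * c⁻¹⁻¹) * c⁻¹ = x * y; group
        _ = g := hxy
    calc Nat.card {C : ConjClasses G // ∀ q : ℕ, q.Prime → (∃ g : G, ConjClasses.mk g = C ∧ q ∣ orderOf g) → q ∈ insert p s}
        ≤ Nat.card (Σ x, T x) := by
          refine Nat.card_le_card_of_injective
            (fun C => (hsurj C.1 C.2).choose) fun a b h => Subtype.ext ?_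
          rw [← (hsurj a.1 a.2).choose_spec, ← (hsurj b.1 b.2).choose_spec]
          exact congrArg F h
      _ = ∑ x, Nat.card (T x) := Nat.card_sigma
      _ ≤ ∑ _x : (P : Subgroup G), ∏ q ∈ s, q ^ (Nat.card G).factorization q := by
          refine Finset.sum_le_sum fun x _ => ?_
          refine le_trans (ih _ fun q hq => hs q (Finset.mem_insert_of_mem hq)) ?_
          refine Finset.prod_le_prod' fun q hq => ?_
          refine Nat.pow_le_pow_right (hs q (Finset.mem_insert_of_mem hq)).pos ?_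
          exact (Nat.factorization_le_iff_dvd Nat.card_pos.ne' Nat.card_pos.ne').2
            (Subgroup.card_subgroup_dvd_card _) q
      _ = ∏ q ∈ insert p s, q ^ (Nat.card G).factorization q := by
          rw [Finset.sum_const, Finset.card_univ, smul_eq_mul, Finset.prod_insert hps,
            ← Nat.card_eq_fintype_card, P.card_eq_multiplicity]

/-- Let G be a finite group, π a set of primes and m the π-part of the order of G. Then the number of conjugacy classes of G consisting of π-elements (elements whose order is divisible only by primes in π) is at most m. -/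
theorem result {G : Type*} [Group G] [Finite G]
    (π : Set ℕ) (hπ : ∀ q ∈ π, q.Prime)
    (m : ℕ) (hm : m ∣ Nat.card G) (hmπ : ∀ q : ℕ, q.Prime → q ∣ m → q ∈ π)
    (hm' : ∀ q ∈ π, ¬ q ∣ Nat.card G / m) :
    Nat.card {C : ConjClasses G // ∀ q : ℕ, q.Prime → (∃ g : G, ConjClasses.mk g = C ∧ q ∣ orderOf g) → q ∈ π} ≤ m := by
  classical
  let s := (Nat.card G).primeFactors.filter (· ∈ π)
  have hG0 : Nat.card G ≠ 0 := Nat.card_pos.ne'
  have hm0 : m ≠ 0 := fun h => hG0 (by simpa [h] using hm)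
  have hsm : s = m.primeFactors := by
    ext q
    simp only [s, Finset.mem_filter, Nat.mem_primeFactors]
    refine ⟨fun ⟨⟨hq, hqG, _⟩, hqπ⟩ => ⟨hq, ?_, hm0⟩, fun ⟨hq, hqm, _⟩ => ⟨⟨hq, hqm.trans hm, hG0⟩, hmπ q hq hqm⟩⟩
    rw [← Nat.mul_div_cancel' hm] at hqG
    exact (hq.dvd_mul.1 hqG).resolve_right (hm' q hqπ)
  have hbound := bound s G (fun q hq => (Nat.mem_primeFactors.1 (Finset.mem_filter.1 hq).1).1)
  have hprod : ∏ q ∈ s, q ^ (Nat.card G).factorization q = m := by
    have : ∏ q ∈ m.primeFactors, q ^ m.factorization q = m := Nat.prod_factorization_pow_eq_self hm0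
    rw [hsm]
    refine (Finset.prod_congr rfl fun q hq => ?_).trans this
    have hq' := Nat.mem_primeFactors.1 hq
    congr 1
    have hd := Nat.div_pos (Nat.le_of_dvd Nat.card_pos hm) (Nat.pos_of_ne_zero hm0)
    conv_lhs => rw [← Nat.mul_div_cancel' hm]
    rw [Nat.factorization_mul hm0 hd.ne', Finsupp.add_apply,
      Nat.factorization_eq_zero_of_not_dvd (hm' q (hmπ q hq'.1 hq'.2.1)), add_zero]
  refine le_trans ?_ (hprod ▸ hbound)
  refine Nat.card_le_card_of_injective
    (fun C => ⟨C.1, fun q hq ⟨g, hg, hqd⟩ => Finset.mem_filter.2 ⟨Nat.mem_primeFactors.2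
      ⟨hq, hqd.trans (orderOf_dvd_natCard g), hG0⟩, C.2 q hq ⟨g, hg, hqd⟩⟩⟩) ?_
  intro a b h
  exact Subtype.ext (Subtype.mk.inj h)

end Cfsg.Agent.S4106
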