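import Cfsg.Statements.S2239
import Cfsg.Agent.Lib.SuzukiGroupClassification

set_option autoImplicit false
open Cfsg

namespace Cfsg.Agent.S2239

/-- Subfield subgroups of the Suzuki group: let q = 2^(2m+1) and s = 2^(2k+1) with m, k ≥ 1 and 2k+1 dividing 2m+1 (so q is a power of s), both groups realised as stabilisers in SL₄ of the Suzuki–Tits ovoid. Then Sz(q) has a subgroup isomorphic to Sz(s), and any two subgroups of Sz(q) isomorphic to Sz(s) are conjugate. -/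
theorem result {F : Type*} [Field F] [Fintype F] {m : ℕ} (hm : 1 ≤ m) (hF : Fintype.card F = 2 ^ (2 * m + 1)) {K : Type*} [Field K] [Fintype K] {k : ℕ} (hk : 1 ≤ k) (hK : Fintype.card K = 2 ^ (2 * k + 1)) (hdiv : 2 * k + 1 ∣ 2 * m + 1) :
    (∃ S : Subgroup ↥(Cfsg.Sz F m), Nonempty (↥S ≃* ↥(Cfsg.Sz K k))) ∧
    ∀ S₁ S₂ : Subgroup ↥(Cfsg.Sz F m), Nonempty (↥S₁ ≃* ↥(Cfsg.Sz K k)) → Nonempty (↥S₂ ≃* ↥(Cfsg.Sz K k)) →
      ∃ g : ↥(Cfsg.Sz F m), S₂ = S₁.map (MulAut.conj g).toMonoidHom := by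
  have := SuzukiGroupBasic.Param.mk' (F := F) (m := m) hm hF
  have := SuzukiGroupBasic.Param.mk' (F := K) (m := k) hk hK
  have := SuzukiGroupBasic.finiteF (F := F) (m := m)
  obtain ⟨e⟩ := SuzukiGroupSubfield.exists_equiv_subSz (F := F) (m := m) (K := K) (k := k) hdiv
  refine ⟨⟨_, ⟨e.symm⟩⟩, ?_⟩
  suffices key : ∀ S : Subgroup ↥(Cfsg.Sz F m), Nonempty (↥S ≃* ↥(Cfsg.Sz K k)) →
      ∃ c, S = (SuzukiGroupSubfield.subSz F m k).map (MulAut.conj c).toMonoidHom by
    intro S₁ S₂ h₁ h₂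
    obtain ⟨c₁, rfl⟩ := key S₁ h₁
    obtain ⟨c₂, rfl⟩ := key S₂ h₂
    exact ⟨c₂ * c₁⁻¹, by rw [SuzukiGroupNormalizers.map_conj_map, inv_mul_cancel_right]⟩
  rintro S ⟨f⟩
  have hns : ¬ Group.IsSolvable ↥S := fun h => by
    have h2 : Group.IsSolvable ↥(Cfsg.Sz K k) :=
      Group.isSolvable_of_surjective (f := f.toMonoidHom) f.surjective
    exact SuzukiGroupClassification.not_isSolvable K k h2
  rcases SuzukiGroupClassification.classification S with ⟨p, hp, hle⟩ | ⟨V, hV, hle⟩ | ⟨j, hj, hdvd, c, hc⟩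
  · exact absurd (SuzukiGroupSolubilizer.isSolvable_of_le hle
      (SuzukiGroupNormalizers.isSolvable_stabilizer hp)) hns
  · exact absurd (SuzukiGroupSolubilizer.isSolvable_of_le hle hV.isSolvable_normalizer) hns
  · refine ⟨c, ?_⟩
    have h1 := Nat.card_congr f.toEquiv
    rw [hc, Subgroup.card_map_of_injective (MulAut.conj c).injective,
      SuzukiGroupClassification.natCard_subSz hj hdvd, SuzukiGroupStructure.natCard_Sz] at h1
    rw [← SuzukiGroupClassification.order_injective h1]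
    exact hc

end Cfsg.Agent.S2239
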