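import Cfsg.Statements.S1250
import Mathlib
-- import your own Cfsg.Agent.* helpers here

set_option autoImplicit false
open Cfsg

namespace Cfsg.Agent.S1250

/-- Let S be a Sylow p-subgroup of the finite group G, A ≤ S strongly closed in S, and N a normal subgroup. Then the image of A in G ⧸ N is strongly closed in the image of S (which is a Sylow p-subgroup of G ⧸ N). -/
theorem result {G : Type*} [Group G] [Finite G] {p : ℕ} [Fact p.Prime] (S : Sylow p G) (A : Subgroup G) (hA : Cfsg.IsStronglyClosed A (S : Subgroup G)) (N : Subgroup G) [N.Normal] : Cfsg.IsStronglyClosed (A.map (QuotientGroup.mk' N)) ((S : Subgroup G).map (QuotientGroup.mk' N)) := by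
  have hSsylow : IsPGroup p (S : Subgroup G) := S.isPGroup'
  refine ⟨Subgroup.map_mono hA.1, ?_⟩
  rintro _ ⟨x, hx, rfl⟩ gb hgb
  obtain ⟨g, rfl⟩ := QuotientGroup.mk'_surjective N gb
  have hgx : QuotientGroup.mk' N (g * x * g⁻¹) ∈ (S : Subgroup G).map (QuotientGroup.mk' N) := by
    simpa using hgb
  rw [← Subgroup.mem_comap, Subgroup.comap_map_eq, QuotientGroup.ker_mk'] at hgx
  obtain ⟨R, hR⟩ : ∃ R : Sylow p N, (R : Subgroup N) = (S : Subgroup G).subgroupOf N := by
    have h1 : IsPGroup p ((S : Subgroup G).subgroupOf N) := S.isPGroup'.comap_subtype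
    obtain ⟨R, hR⟩ := h1.exists_le_sylow
    refine ⟨R, (Subgroup.eq_of_le_of_card_ge hR ?_).symm⟩
    obtain ⟨S', hS'⟩ := (R.isPGroup'.map N.subtype).exists_le_sylow
    obtain ⟨a, ha⟩ := MulAction.exists_smul_eq G S' S
    have hsub : ∀ r : (R : Subgroup N), MulAut.conjNormal a (r : N) ∈ (S : Subgroup G).subgroupOf N := by
      intro r
      rw [Subgroup.mem_subgroupOf, ← ha, Sylow.coe_subgroup_smul, MulAut.conjNormal_apply]
      exact Subgroup.smul_mem_pointwise_smul _ (MulAut.conj a) _ (hS' ⟨r, r.2, rfl⟩)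
    refine Nat.card_le_card_of_injective (fun r => (⟨_, hsub r⟩ : (S : Subgroup G).subgroupOf N)) ?_
    intro r s hrs
    exact Subtype.ext ((MulAut.conjNormal a).injective (congrArg Subtype.val hrs))
  have hgtop : g ∈ Subgroup.normalizer (((R : Subgroup N).map N.subtype : Subgroup G) : Set G) ⊔ N := by
    rw [Sylow.normalizer_sup_eq_top R]; trivial
  rw [sup_comm, Subgroup.mem_sup_of_normal_left] at hgtop
  obtain ⟨n, hn, h, hh, rfl⟩ := hgtop
  set K := Subgroup.normalizer (((R : Subgroup N).map N.subtype : Subgroup G) : Set G) with hK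
  have hRS : (R : Subgroup N).map N.subtype = (S : Subgroup G) ⊓ N := by
    rw [hR, Subgroup.subgroupOf_map_subtype]
  have hSK : (S : Subgroup G) ≤ K := by
    intro s hs
    rw [hK, Subgroup.mem_normalizer_iff]
    intro y
    rw [hRS]
    simp only [Subgroup.mem_inf]
    refine and_congr ?_ ?_
    · exact ⟨fun hy => mul_mem (mul_mem hs hy) (inv_mem hs),
        fun hy => by simpa [mul_assoc] using mul_mem (mul_mem (inv_mem hs) hy) hs⟩
    · exact ⟨fun hy => ‹N.Normal›.conj_mem y hy s, fun hy => by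
        simpa [mul_assoc] using ‹N.Normal›.conj_mem _ hy s⁻¹⟩
  set y := h * x * h⁻¹ with hy
  have hyK : y ∈ K := mul_mem (mul_mem hh (hSK (hA.1 hx))) (inv_mem hh)
  have hdiff : n * h * x * (n * h)⁻¹ * y⁻¹ ∈ N := by
    have : n * h * x * (n * h)⁻¹ * y⁻¹ = n * (y * n⁻¹ * y⁻¹) := by rw [hy]; group
    rw [this]
    exact mul_mem hn (‹N.Normal›.conj_mem _ (inv_mem hn) y)
  have hySN : y ∈ (S : Subgroup G) ⊔ N := by
    have h1 : (n * h * x * (n * h)⁻¹ * y⁻¹)⁻¹ * (n * h * x * (n * h)⁻¹) ∈ (S : Subgroup G) ⊔ N :=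
      mul_mem (inv_mem (Subgroup.mem_sup_right hdiff)) hgx
    simpa [mul_assoc] using h1
  set M := ((S : Subgroup G) ⊔ N) ⊓ K with hM
  have hSM : (S : Subgroup G) ≤ M := le_inf le_sup_left hSK
  have hyM : y ∈ M := ⟨hySN, hyK⟩
  have hyp : IsPGroup p (Subgroup.zpowers (⟨y, hyM⟩ : M)) := by
    rw [IsPGroup.iff_orderOf]
    intro a
    obtain ⟨k, hk'⟩ := IsPGroup.iff_orderOf.1 hSsylow ⟨x, hA.1 hx⟩
    have hk : orderOf x = p ^ k := by rw [← hk', Subgroup.orderOf_mk]
    obtain ⟨i, hi⟩ := Subgroup.mem_zpowers_iff.1 a.2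
    have h1 : orderOf y = p ^ k := by
      rw [← hk, hy]
      exact orderOf_injective (MulAut.conj h).toMonoidHom (MulAut.conj h).injective x
    have h2 : orderOf (a : M) ∣ p ^ k := by
      rw [← hi, ← h1, ← Subgroup.orderOf_coe ((⟨y, hyM⟩ : M) ^ i), Subgroup.coe_zpow]
      exact orderOf_dvd_of_mem_zpowers (Subgroup.zpow_mem_zpowers y i)
    obtain ⟨j, _, hj⟩ := (Nat.dvd_prime_pow (Fact.out : p.Prime)).1 h2
    exact ⟨j, by rw [← Subgroup.orderOf_coe]; exact hj⟩
  obtain ⟨Q, hQ⟩ := hyp.exists_le_sylow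
  obtain ⟨m, hm⟩ := MulAction.exists_smul_eq M Q (S.subtype hSM)
  have hmy : (m : G) * y * (m : G)⁻¹ ∈ (S : Subgroup G) := by
    have h1 : MulAut.conj m • (⟨y, hyM⟩ : M) ∈ ((S.subtype hSM : Sylow p M) : Subgroup M) := by
      rw [← hm, Sylow.coe_subgroup_smul]
      exact Subgroup.smul_mem_pointwise_smul _ _ _ (hQ (Subgroup.mem_zpowers _))
    rw [Sylow.coe_subtype, Subgroup.mem_subgroupOf] at h1
    simpa using h1
  obtain ⟨s, hs, n', hn', hmn⟩ := Subgroup.mem_sup_of_normal_right.1 (m.2.1)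
  have hz : n' * h * x * (n' * h)⁻¹ ∈ (S : Subgroup G) := by
    have h1 : s⁻¹ * ((m : G) * y * (m : G)⁻¹) * s ∈ (S : Subgroup G) :=
      mul_mem (mul_mem (inv_mem hs) hmy) hs
    rw [← hmn, hy] at h1
    simpa [mul_assoc] using h1
  refine ⟨n' * h * x * (n' * h)⁻¹, hA.2 x hx _ hz, ?_⟩
  have e1 : QuotientGroup.mk' N n = 1 := (QuotientGroup.eq_one_iff n).2 hn
  have e2 : QuotientGroup.mk' N n' = 1 := (QuotientGroup.eq_one_iff n').2 hn'
  simp [map_mul, map_inv, e1, e2, mul_assoc]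

end Cfsg.Agent.S1250
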