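import Cfsg.Statements.S0106
-- import your own Cfsg.Agent.* helpers here
import Cfsg.Agent.Lib.DihedralSylow77
import Cfsg.Agent.Lib.SL23Model77
import Cfsg.Agent.Lib.GenQuatFacts62
import Cfsg.Agent.Lib.TransferAlperin
open Cfsg.Agent

set_option autoImplicit false
open Cfsg

namespace Cfsg.Agent.S0106

lemma quat_involution : ∀ (n : ℕ), 1 ≤ n → ∀ x : QuaternionGroup (2 ^ n), orderOf x = 2 →
    x = QuaternionGroup.a ((2 ^ n : ℕ) : ZMod (2 * 2 ^ n)) := by
  intro n _ x hx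
  haveI : NeZero (2 ^ n) := ⟨by positivity⟩
  haveI : NeZero (2 * 2 ^ n) := ⟨by positivity⟩
  cases x with
  | xa i => rw [QuaternionGroup.orderOf_xa] at hx; omega
  | a i =>
    have h2 := pow_orderOf_eq_one (QuaternionGroup.a i)
    rw [hx, pow_two] at h2
    rw [QuaternionGroup.a_mul_a, QuaternionGroup.one_def, QuaternionGroup.a.injEq] at h2
    rcases DihedralSylow77.double_eq_zero (by positivity) i h2 with h | h
    · subst h
      rw [← QuaternionGroup.one_def, orderOf_one] at hx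
      omega
    · rw [h]

lemma quat_rel : ∀ x y : QuaternionGroup 2, x * x ≠ 1 → y ≠ 1 → y ≠ x → y ≠ x * x →
    y ≠ x * x * x → x * x * (x * x) = 1 ∧ y * y = x * x ∧ y * x * y⁻¹ = x⁻¹ := by decide

set_option synthInstance.maxSize 5000 in
lemma quat_all : ∀ x y : QuaternionGroup 2, x * x ≠ 1 → y ≠ 1 → y ≠ x → y ≠ x * x →
    y ≠ x * x * x → ∀ z : QuaternionGroup 2,
      z ∈ [1, x, x * x, x⁻¹, y, y⁻¹, x * y, (x * y)⁻¹] := by decide


/-- A finite group with generalized quaternion Sylow 2-subgroups either has a normal 2-complement or has a section isomorphic to SL(2,3). -/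
theorem result {G : Type*} [Group G] [Finite G] (T : Sylow 2 G) (n : ℕ) (hn : 1 ≤ n) (hT : Nonempty ((T : Subgroup G) ≃* QuaternionGroup (2 ^ n))) : Cfsg.HasNormalPComplement 2 G ∨ ∃ (H K : Subgroup G) (hK : (K.subgroupOf H).Normal), Nonempty ((H ⧸ K.subgroupOf H) ≃* Matrix.SpecialLinearGroup (Fin 2) (ZMod 3)) := by
  classical
  haveI : Fact (Nat.Prime 2) := ⟨Nat.prime_two⟩
  by_cases hc : Cfsg.HasNormalPComplement 2 G
  · exact Or.inl hc
  right
  rw [TransferAlperin.hasNormalPComplement_iff_centralizer T] at hc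
  push Not at hc
  obtain ⟨Q, hQT, g, hgN, hcop, hgC⟩ := hc
  have hodd : Odd (orderOf g) := Nat.coprime_two_right.1 hcop
  have hQ2 : IsPGroup 2 Q := T.isPGroup'.to_le hQT
  have hgQ : ∀ x ∈ Q, g * x * g⁻¹ ∈ Q := fun x hx => (Subgroup.mem_normalizer_iff.1 hgN x).1 hx
  have hgfix : ¬ ∀ x ∈ Q, g * x * g⁻¹ = x := fun h => hgC (by
    rw [Subgroup.mem_centralizer_iff]
    intro x hx
    calc x * g = g * x * g⁻¹ * g := by rw [h x hx]
      _ = g * x := by group)
  have hQbot : Q ≠ ⊥ := fun h => hgfix fun x hx => by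
    rw [h, Subgroup.mem_bot] at hx; subst hx; simp
  -- unique involution
  obtain ⟨eT⟩ := hT
  have huniqT : ∀ a b : G, a ∈ Q → b ∈ Q → orderOf a = 2 → orderOf b = 2 → a = b := by
    intro a b ha hb hoa hob
    have h1 := quat_involution n hn (eT ⟨a, hQT ha⟩) (by rw [MulEquiv.orderOf_eq, Subgroup.orderOf_mk, hoa])
    have h2 := quat_involution n hn (eT ⟨b, hQT hb⟩) (by rw [MulEquiv.orderOf_eq, Subgroup.orderOf_mk, hob])
    exact congrArg Subtype.val (eT.injective (h1.trans h2.symm))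
  have hsqfix : ∀ x ∈ Q, x ^ 2 = 1 → g * x * g⁻¹ = x := by
    intro x hx hx2
    by_cases hx1 : x = 1
    · subst hx1; simp
    refine huniqT _ _ (hgQ x hx) hx (orderOf_eq_prime ?_ ?_) (orderOf_eq_prime hx2 hx1)
    · rw [conj_pow, hx2]; simp
    · simpa using hx1
  have hna : ¬ IsMulCommutative Q := by
    intro hab
    exact hgfix (DihedralSylow77.centralizes_of_fix_involutions Q hQ2
      (fun x hx y hy => congrArg Subtype.val (hab.is_comm.comm (⟨x, hx⟩ : Q) ⟨y, hy⟩)) g hgQ hodd hsqfix)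
  obtain ⟨k, hk⟩ := exists_prime_orderOf_dvd_card' (G := Q) 2 (by
    obtain ⟨j, hj⟩ := hQ2.exists_card_eq
    rw [hj]
    rcases Nat.eq_zero_or_pos j with rfl | h
    · exact absurd (Subgroup.card_eq_one.1 (by rw [hj, pow_zero])) hQbot
    · exact dvd_pow_self 2 (by omega))
  have huniq : ∃! x : Q, orderOf x = 2 := ⟨k, hk, fun y hy => Subtype.ext (huniqT _ _ y.2 k.2
    (by rw [Subgroup.orderOf_coe]; exact hy) (by rw [Subgroup.orderOf_coe]; exact hk))⟩
  obtain ⟨j, hj, ⟨eQ⟩⟩ := GenQuatFacts62.exists_iso hQ2 hna huniq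
  -- the order is 8
  obtain rfl : j = 1 := by
    by_contra hj1
    haveI : NeZero (2 ^ j) := ⟨by positivity⟩
    let a : Q := eQ.symm (QuaternionGroup.a 1)
    have ha : orderOf a = 2 * 2 ^ j := by
      rw [MulEquiv.orderOf_eq, QuaternionGroup.orderOf_a_one]
    have hbig : 8 ≤ 2 * 2 ^ j := by
      have : 2 ^ 2 ≤ 2 ^ j := Nat.pow_le_pow_right (by norm_num) (by omega)
      omega
    have hzp : ∀ x : Q, 4 < orderOf x → x ∈ Subgroup.zpowers a := by
      intro x hx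
      cases hx' : eQ x with
      | a i =>
        refine Subgroup.mem_zpowers_iff.2 ⟨(i.val : ℤ), eQ.injective ?_⟩
        rw [zpow_natCast, map_pow, MulEquiv.apply_symm_apply, QuaternionGroup.a_one_pow, hx',
          ZMod.natCast_zmod_val]
      | xa i =>
        exfalso
        rw [← MulEquiv.orderOf_eq eQ, hx', QuaternionGroup.orderOf_xa] at hx
        omega
    have hord : ∀ x (hx : x ∈ Q), orderOf (⟨g * x * g⁻¹, hgQ x hx⟩ : Q) = orderOf (⟨x, hx⟩ : Q) := by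
      intro x hx
      rw [Subgroup.orderOf_mk, Subgroup.orderOf_mk, ← MulAut.conj_apply, MulEquiv.orderOf_eq]
    let C : Subgroup G := (Subgroup.zpowers a).map Q.subtype
    have hCQ : C ≤ Q := by rintro _ ⟨c, -, rfl⟩; exact c.2
    have hga : g * (a : G) * g⁻¹ ∈ C := ⟨⟨_, hgQ a a.2⟩, hzp _ (by
      rw [hord a a.2, Subtype.coe_eta, ha]; omega), rfl⟩
    have hCinv : ∀ x ∈ C, g * x * g⁻¹ ∈ C := by
      rintro x ⟨c, hc, rfl⟩
      obtain ⟨i, rfl⟩ := Subgroup.mem_zpowers_iff.1 hc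
      simp only [Subgroup.subtype_apply, Subgroup.coe_zpow]
      rw [← conj_zpow]
      exact zpow_mem hga i
    have hCfix := DihedralSylow77.centralizes_of_fix_involutions C (hQ2.to_le hCQ) (by
      rintro _ ⟨c, hc, rfl⟩ _ ⟨d, hd, rfl⟩
      obtain ⟨i, rfl⟩ := Subgroup.mem_zpowers_iff.1 hc
      obtain ⟨l, rfl⟩ := Subgroup.mem_zpowers_iff.1 hd
      simp [← zpow_add, add_comm]) g hCinv hodd (fun x hx => hsqfix x (hCQ hx))
    apply hgfix
    intro x hx
    by_cases hxC : x ∈ C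
    · exact hCfix x hxC
    have hout : ∀ y : Q, (y : G) ∉ C → ∃ i, eQ y = QuaternionGroup.xa i := by
      intro y hy
      cases hy' : eQ y with
      | a i =>
        exfalso; apply hy
        refine ⟨y, Subgroup.mem_zpowers_iff.2 ⟨(i.val : ℤ), eQ.injective ?_⟩, rfl⟩
        rw [zpow_natCast, map_pow, MulEquiv.apply_symm_apply, QuaternionGroup.a_one_pow, hy',
          ZMod.natCast_zmod_val]
      | xa i => exact ⟨i, rfl⟩
    have hxC' : g * x * g⁻¹ ∉ C := by
      intro h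
      have h1 : g * (g * x * g⁻¹) * g⁻¹ = g * x * g⁻¹ := hCfix _ h
      rw [mul_left_inj, mul_right_inj] at h1
      exact hxC (h1 ▸ h)
    obtain ⟨i, hi⟩ := hout ⟨x, hx⟩ hxC
    obtain ⟨l, hl⟩ := hout ⟨_, hgQ x hx⟩ hxC'
    obtain ⟨c, hcdef⟩ : ∃ c, c = x⁻¹ * (g * x * g⁻¹) := ⟨_, rfl⟩
    have hcC : c ∈ C := by
      refine ⟨(⟨x, hx⟩ : Q)⁻¹ * ⟨_, hgQ x hx⟩, Subgroup.mem_zpowers_iff.2
        ⟨((((2 : ℕ) ^ j : ℕ) : ZMod (2 * 2 ^ j)) + l - ((((2 : ℕ) ^ j : ℕ) : ZMod (2 * 2 ^ j)) + i)).val, eQ.injective ?_⟩, ?_⟩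
      · rw [zpow_natCast, map_pow, MulEquiv.apply_symm_apply, QuaternionGroup.a_one_pow, map_mul,
          map_inv, hi, hl, show (QuaternionGroup.xa i : QuaternionGroup (2 ^ j))⁻¹ = QuaternionGroup.xa (((2 ^ j : ℕ) : ZMod (2 * 2 ^ j)) + i) from rfl, QuaternionGroup.xa_mul_xa, ZMod.natCast_zmod_val]
      · rw [hcdef]; rfl
    have hgc : g * c * g⁻¹ = c := hCfix c hcC
    have hstep : g * x * g⁻¹ = x * c := by rw [hcdef, mul_inv_cancel_left]
    have hiter : ∀ m : ℕ, g ^ m * x * (g ^ m)⁻¹ = x * c ^ m := by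
      intro m
      induction m with
      | zero => simp
      | succ m ihm =>
        calc g ^ (m + 1) * x * (g ^ (m + 1))⁻¹ = g * (g ^ m * x * (g ^ m)⁻¹) * g⁻¹ := by
              rw [pow_succ']; group
          _ = (g * x * g⁻¹) * (g * c * g⁻¹) ^ m := by rw [ihm, conj_pow]; group
          _ = x * c ^ (m + 1) := by rw [hstep, hgc, mul_assoc, ← pow_succ']
    have h1 := hiter (orderOf g)
    rw [pow_orderOf_eq_one, one_mul, inv_one, mul_one, left_eq_mul] at h1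
    obtain ⟨e, he⟩ := hQ2 ⟨c, hCQ hcC⟩
    have he' : c ^ 2 ^ e = 1 := congrArg Subtype.val he
    have hc1 : c = 1 := by
      rw [← orderOf_eq_one_iff]
      exact Nat.eq_one_of_dvd_coprimes (Nat.Coprime.pow_right e hcop) (orderOf_dvd_of_pow_eq_one h1)
        (orderOf_dvd_of_pow_eq_one he')
    rw [hstep, hc1, mul_one]
  -- the quaternion group of order 8
  have e8 : Q ≃* QuaternionGroup 2 := eQ
  obtain ⟨x, hxQ, hxg⟩ : ∃ x ∈ Q, g * x * g⁻¹ ≠ x := by push Not at hgfix; exact hgfix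
  have hx2 : ¬ x * x = 1 := fun h => hxg (hsqfix x hxQ (by rw [pow_two]; exact h))
  set y := g * x * g⁻¹ with hydef
  have hyQ : y ∈ Q := hgQ x hxQ
  have hback2 : ∀ z : G, Commute (g ^ 2) z → g * z * g⁻¹ = z := by
    intro z hz
    rw [(DihedralSylow77.fix_of_sq_fix hodd hz).eq]; group
  have hcomm2 : ∀ z : G, g * (g * z * g⁻¹) * g⁻¹ = z → Commute (g ^ 2) z := by
    intro z hz
    rw [commute_iff_eq]
    calc g ^ 2 * z = g * (g * z * g⁻¹) * g⁻¹ * g ^ 2 := by rw [pow_two]; group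
      _ = z * g ^ 2 := by rw [hz]
  have hyne : y ≠ 1 ∧ y ≠ x ∧ y ≠ x * x ∧ y ≠ x * x * x := by
    have h4 : x * x * (x * x) = 1 := by
      have : ∀ q : QuaternionGroup 2, q * q * (q * q) = 1 := by decide
      have h := congrArg e8.symm (this (e8 ⟨x, hxQ⟩))
      simp only [← map_mul, map_one, MulEquiv.symm_apply_apply] at h
      exact congrArg Subtype.val h
    refine ⟨?_, hxg, ?_, ?_⟩
    · intro h; rw [conj_eq_one_iff] at h; subst h; simp at hx2
    · intro h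
      apply hx2
      have h2 : y * y = 1 := by rw [h]; exact h4
      rw [hydef, ← pow_two, conj_pow, conj_eq_one_iff, pow_two] at h2
      exact h2
    · intro h
      apply hxg
      have hinv : y = x⁻¹ := by
        rw [h, eq_inv_iff_mul_eq_one, mul_assoc (x * x)]; exact h4
      apply hback2
      apply hcomm2
      rw [← hydef, hinv]
      calc g * x⁻¹ * g⁻¹ = y⁻¹ := by rw [hydef]; group
        _ = x := by rw [hinv, inv_inv]
  have tr : ∀ {a b : G} (ha : a ∈ Q) (hb : b ∈ Q), e8 ⟨a, ha⟩ = e8 ⟨b, hb⟩ → a = b :=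
    fun ha hb h => congrArg Subtype.val (e8.injective h)
  have hX : e8 ⟨x, hxQ⟩ * e8 ⟨x, hxQ⟩ ≠ 1 := by
    rw [← map_mul, ← map_one e8]; exact fun h => hx2 (congrArg Subtype.val (e8.injective h))
  have hY : e8 ⟨y, hyQ⟩ ≠ 1 ∧ e8 ⟨y, hyQ⟩ ≠ e8 ⟨x, hxQ⟩ ∧ e8 ⟨y, hyQ⟩ ≠ e8 ⟨x, hxQ⟩ * e8 ⟨x, hxQ⟩ ∧
      e8 ⟨y, hyQ⟩ ≠ e8 ⟨x, hxQ⟩ * e8 ⟨x, hxQ⟩ * e8 ⟨x, hxQ⟩ := by
    refine ⟨?_, fun h => hyne.2.1 (tr _ _ h), ?_, ?_⟩
    · rw [← map_one e8]; exact fun h => hyne.1 (congrArg Subtype.val (e8.injective h))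
    · rw [← map_mul]; exact fun h => hyne.2.2.1 (congrArg Subtype.val (e8.injective h))
    · rw [← map_mul, ← map_mul]; exact fun h => hyne.2.2.2 (congrArg Subtype.val (e8.injective h))
  obtain ⟨r4', rsq, rinv⟩ := quat_rel _ _ hX hY.1 hY.2.1 hY.2.2.1 hY.2.2.2
  have r4 : e8 ⟨x, hxQ⟩ ^ 4 = 1 := by
    rw [show (4 : ℕ) = 2 * 2 from rfl, pow_mul, pow_two, pow_two]; exact r4'
  have rall' := quat_all _ _ hX hY.1 hY.2.1 hY.2.2.1 hY.2.2.2
  have rall : ∀ z, z = 1 ∨ z = e8 ⟨x, hxQ⟩ ∨ z = e8 ⟨x, hxQ⟩ * e8 ⟨x, hxQ⟩ ∨ z = (e8 ⟨x, hxQ⟩)⁻¹ ∨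
      z = e8 ⟨y, hyQ⟩ ∨ z = (e8 ⟨y, hyQ⟩)⁻¹ ∨ z = e8 ⟨x, hxQ⟩ * e8 ⟨y, hyQ⟩ ∨
      z = (e8 ⟨x, hxQ⟩ * e8 ⟨y, hyQ⟩)⁻¹ := fun z => by simpa using rall' z
  have h4 : x ^ 4 = 1 := by
    have h : e8 (⟨x, hxQ⟩ ^ 4) = e8 1 := by rw [map_pow, map_one]; exact r4
    exact congrArg Subtype.val (e8.injective h)
  have hsq : y * y = x * x := by
    have h : e8 (⟨y, hyQ⟩ * ⟨y, hyQ⟩) = e8 (⟨x, hxQ⟩ * ⟨x, hxQ⟩) := by rw [map_mul, map_mul]; exact rsq
    exact congrArg Subtype.val (e8.injective h)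
  have hinv : y * x * y⁻¹ = x⁻¹ := by
    have h : e8 (⟨y, hyQ⟩ * ⟨x, hxQ⟩ * (⟨y, hyQ⟩ : Q)⁻¹) = e8 (⟨x, hxQ⟩ : Q)⁻¹ := by
      rw [map_mul, map_mul, map_inv, map_inv]; exact rinv
    exact congrArg Subtype.val (e8.injective h)
  have hall : ∀ z ∈ Q, z = 1 ∨ z = x ∨ z = x * x ∨ z = x⁻¹ ∨ z = y ∨ z = y⁻¹ ∨
      z = x * y ∨ z = (x * y)⁻¹ := by
    intro z hz
    rcases rall (e8 ⟨z, hz⟩) with h | h | h | h | h | h | h | h
    · rw [← map_one e8] at h; exact Or.inl (congrArg Subtype.val (e8.injective h))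
    · exact Or.inr (Or.inl (congrArg Subtype.val (e8.injective h)))
    · rw [← map_mul] at h; exact Or.inr (Or.inr (Or.inl (congrArg Subtype.val (e8.injective h))))
    · rw [← map_inv] at h
      exact Or.inr (Or.inr (Or.inr (Or.inl (congrArg Subtype.val (e8.injective h)))))
    · exact Or.inr (Or.inr (Or.inr (Or.inr (Or.inl (congrArg Subtype.val (e8.injective h))))))
    · rw [← map_inv] at h
      exact Or.inr (Or.inr (Or.inr (Or.inr (Or.inr (Or.inl (congrArg Subtype.val (e8.injective h)))))))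
    · rw [← map_mul] at h
      exact Or.inr (Or.inr (Or.inr (Or.inr (Or.inr (Or.inr (Or.inl
        (congrArg Subtype.val (e8.injective h))))))))
    · rw [← map_mul, ← map_inv] at h
      exact Or.inr (Or.inr (Or.inr (Or.inr (Or.inr (Or.inr (Or.inr
        (congrArg Subtype.val (e8.injective h))))))))
  -- normalise the orientation
  obtain ⟨g', hg'odd, hg'N, hrel1, hrel2, hrel3⟩ : ∃ g' : G, Odd (orderOf g') ∧
      g' ∈ Subgroup.normalizer (Q : Set G) ∧
      g' * x * g'⁻¹ * (g' * x * g'⁻¹) = x * x ∧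
      g' * x * g'⁻¹ * x * (g' * x * g'⁻¹)⁻¹ = x⁻¹ ∧
      g' * (g' * x * g'⁻¹) * g'⁻¹ = x * (g' * x * g'⁻¹) := by
    set z := g * y * g⁻¹ with hzdef
    have hy2' : ¬ y * y = 1 := fun h => hx2 (hsq ▸ h)
    have hz2 : ¬ z * z = 1 := by
      intro h
      rw [hzdef, ← pow_two, conj_pow, conj_eq_one_iff, pow_two] at h
      exact hy2' h
    have hgg : ∀ a b : G, g * a * g⁻¹ = g * b * g⁻¹ → a = b := fun a b h =>
      mul_left_cancel (mul_right_cancel h)
    have hzx : z ≠ x := fun h => hxg (hback2 x (hcomm2 x (by rw [← hydef]; exact h)))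
    have hzx' : z ≠ x⁻¹ := by
      intro h
      have h4' : Commute ((g ^ 2) ^ 2) x := by
        have hc : g ^ 2 * x * (g ^ 2)⁻¹ = x⁻¹ := by
          rw [← h, hzdef, hydef, pow_two]; group
        rw [commute_iff_eq]
        calc (g ^ 2) ^ 2 * x = g ^ 2 * (g ^ 2 * x * (g ^ 2)⁻¹) * g ^ 2 := by
              rw [pow_two (g ^ 2)]; group
          _ = (g ^ 2 * x * (g ^ 2)⁻¹)⁻¹ * (g ^ 2) ^ 2 := by
              conv_lhs => rw [hc]
              group
          _ = x * (g ^ 2) ^ 2 := by rw [hc, inv_inv]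
      have hodd2 : Odd (orderOf (g ^ 2)) := hodd.of_dvd_nat (orderOf_pow_dvd 2)
      exact hxg (hback2 x (DihedralSylow77.fix_of_sq_fix hodd2 h4'))
    have hzy : z ≠ y := fun h => hxg (hgg _ _ (show g * y * g⁻¹ = g * x * g⁻¹ from h))
    have hzy' : z ≠ y⁻¹ := by
      intro h
      have : y = x⁻¹ := hgg _ _ (h.trans (by rw [hydef]; group))
      apply hzx
      rw [h, this, inv_inv]
    have hzz : z = x * y ∨ z = (x * y)⁻¹ := by
      rcases hall z (hgQ y hyQ) with h | h | h | h | h | h | h | h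
      · exact absurd (by rw [h, one_mul]) hz2
      · exact absurd h hzx
      · exact absurd (by rw [h, ← pow_two, ← pow_two, ← pow_mul]; exact h4) hz2
      · exact absurd h hzx'
      · exact absurd h hzy
      · exact absurd h hzy'
      · exact Or.inl h
      · exact Or.inr h
    rcases hzz with h | h
    · exact ⟨g, hodd, hgN, hsq, hinv, by rw [← hydef, ← hzdef]; exact h⟩
    · have hg3 : g * z * g⁻¹ = x := by
        have hh : g * (x * y)⁻¹ * g⁻¹ = (y * z)⁻¹ :=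
          calc g * (x * y)⁻¹ * g⁻¹ = (g * x * g⁻¹ * (g * y * g⁻¹))⁻¹ := by group
            _ = (y * z)⁻¹ := rfl
        rw [h, hh, h]; group
      have e2 : g ^ 2 * x * (g ^ 2)⁻¹ = z := by rw [pow_two, hzdef, hydef]; group
      have hxi : x * x⁻¹ = 1 := mul_inv_cancel x
      refine ⟨g ^ 2, hodd.of_dvd_nat (orderOf_pow_dvd 2), pow_mem hgN 2, ?_, ?_, ?_⟩
      · rw [e2]
        have : z * z = g * (y * y) * g⁻¹ := by rw [hzdef]; group
        rw [this, hsq]
        have hfix := hsqfix (x * x) (Q.mul_mem hxQ hxQ) (by rw [← pow_two, ← pow_mul]; exact h4)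
        exact hfix
      · rw [e2, h]
        calc (x * y)⁻¹ * x * ((x * y)⁻¹)⁻¹ = y⁻¹ * x * y := by group
          _ = y⁻¹ * (y * x * y⁻¹)⁻¹ * y := by rw [hinv, inv_inv]
          _ = x⁻¹ := by group
      · rw [e2]
        have h5 : g ^ 2 * z * (g ^ 2)⁻¹ = y := by
          calc g ^ 2 * z * (g ^ 2)⁻¹ = g * (g * z * g⁻¹) * g⁻¹ := by rw [pow_two]; group
            _ = y := by rw [hg3]
        rw [h5, h]
        have hy4 : y * y * (y * y) = 1 := by
          rw [hsq]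
          calc x * x * (x * x) = x ^ 4 := by rw [pow_succ, pow_succ, pow_succ, pow_one]; group
            _ = 1 := h4
        calc y = (y * y * y)⁻¹ := by
              rw [eq_inv_iff_mul_eq_one, ← hy4]; group
          _ = (x * x * y)⁻¹ := by rw [hsq]
          _ = y⁻¹ * x⁻¹ * x⁻¹ := by group
          _ = y⁻¹ * (y * x * y⁻¹) * x⁻¹ := by rw [hinv]
          _ = x * (x * y)⁻¹ := by group
  clear hxg hyne hY hall rsq rinv rall rall' hsq hinv
  -- now `x` and `g'` generate a group with an `SL(2,3)` quotient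
  obtain ⟨y', hy'def⟩ : ∃ y', y' = g' * x * g'⁻¹ := ⟨_, rfl⟩
  rw [← hy'def] at hrel1 hrel2 hrel3
  have h3x : g' ^ 3 * x * (g' ^ 3)⁻¹ = x := by
    have hxy : y' * x = x⁻¹ * y' := mul_inv_eq_iff_eq_mul.1 hrel2
    calc g' ^ 3 * x * (g' ^ 3)⁻¹ = g' * (g' * (g' * x * g'⁻¹) * g'⁻¹) * g'⁻¹ := by
          rw [pow_succ, pow_succ, pow_one]; group
      _ = g' * (x * y') * g'⁻¹ := by rw [← hy'def, hrel3]
      _ = (g' * x * g'⁻¹) * (g' * y' * g'⁻¹) := by group
      _ = y' * x * y' := by rw [← hy'def, hrel3, mul_assoc]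
      _ = x⁻¹ * (y' * y') := by rw [hxy, mul_assoc]
      _ = x := by rw [hrel1]; group
  have hc3x : Commute (g' ^ 3) x := by
    rw [commute_iff_eq]
    calc g' ^ 3 * x = g' ^ 3 * x * (g' ^ 3)⁻¹ * g' ^ 3 := by group
      _ = x * g' ^ 3 := by rw [h3x]
  let H : Subgroup G := Subgroup.closure {x, g'}
  let K : Subgroup G := Subgroup.zpowers (g' ^ 3)
  have hxH : x ∈ H := Subgroup.subset_closure (by simp)
  have hgH : g' ∈ H := Subgroup.subset_closure (by simp)
  have hcent : ∀ h ∈ H, ∀ k ∈ K, h * k = k * h := by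
    intro h hh k hk
    have hle : H ≤ Subgroup.centralizer ({g' ^ 3} : Set G) := by
      rw [Subgroup.closure_le]
      intro z hz
      rw [SetLike.mem_coe, Subgroup.mem_centralizer_singleton_iff]
      rcases hz with rfl | rfl
      · exact hc3x.eq.symm
      · exact ((Commute.refl z).pow_right 3).eq
    obtain ⟨i, rfl⟩ := Subgroup.mem_zpowers_iff.1 hk
    exact ((show Commute h (g' ^ 3) from Subgroup.mem_centralizer_singleton_iff.1 (hle hh)).zpow_right i).eq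
  have hK : (K.subgroupOf H).Normal := ⟨fun k hk h => by
    rw [Subgroup.mem_subgroupOf, Subgroup.coe_mul, Subgroup.coe_mul, Subgroup.coe_inv,
      hcent (h : G) h.2 (k : G) hk, mul_inv_cancel_right]
    exact hk⟩
  let q := QuotientGroup.mk' (K.subgroupOf H)
  obtain ⟨f, hfx, hfg⟩ := SL23Model77.exists_hom (q ⟨x, hxH⟩) (q ⟨g', hgH⟩)
    (by rw [← map_pow, show (⟨x, hxH⟩ : H) ^ 4 = 1 from Subtype.ext h4, map_one])
    (by
      rw [← map_pow]
      exact (QuotientGroup.eq_one_iff _).2 (Subgroup.mem_zpowers _))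
    (by
      simp only [← map_mul, ← map_inv]
      congr 1
      exact Subtype.ext (show g' * x * g'⁻¹ * (g' * x * g'⁻¹) = x * x by rw [← hy'def]; exact hrel1))
    (by
      simp only [← map_mul, ← map_inv]
      congr 1
      exact Subtype.ext (show g' * x * g'⁻¹ * x * (g' * x * g'⁻¹)⁻¹ = x⁻¹ by rw [← hy'def]; exact hrel2))
    (by
      simp only [← map_mul, ← map_inv]
      congr 1
      exact Subtype.ext (show g' * (g' * x * g'⁻¹) * g'⁻¹ = x * (g' * x * g'⁻¹) by rw [← hy'def]; exact hrel3))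
  have hsurj : Function.Surjective f := by
    intro c
    obtain ⟨⟨h, hh⟩, rfl⟩ := QuotientGroup.mk'_surjective _ c
    induction hh using Subgroup.closure_induction with
    | mem z hz =>
      rcases hz with rfl | rfl
      · exact ⟨_, hfx⟩
      · exact ⟨_, hfg⟩
    | one => exact ⟨1, by rw [map_one]; exact (map_one q).symm⟩
    | mul a b ha hb iha ihb =>
      obtain ⟨s, hs⟩ := iha
      obtain ⟨t, ht⟩ := ihb
      exact ⟨s * t, by rw [map_mul, hs, ht, ← map_mul]; rfl⟩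
    | inv a ha iha =>
      obtain ⟨s, hs⟩ := iha
      exact ⟨s⁻¹, by rw [map_inv, hs, ← map_inv]; rfl⟩
  have hinj : Function.Injective f := by
    rw [injective_iff_map_eq_one]
    intro s hs
    by_contra hs1
    have hz : f (SL23Model77.w0 ^ 2) = 1 := by
      rcases SL23Model77.kernel_fact s hs1 with h | h | h | h | h <;> rw [← h] <;>
        simp [hs]
    rw [map_pow, hfx, ← map_pow] at hz
    have hmem : x ^ 2 ∈ K := (QuotientGroup.eq_one_iff ((⟨x, hxH⟩ : H) ^ 2)).1 hz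
    obtain ⟨i, hi⟩ := Subgroup.mem_zpowers_iff.1 hmem
    have ho2 : orderOf (x ^ 2) = 2 := by
      refine orderOf_eq_prime ?_ (by rw [pow_two]; exact hx2)
      rw [← pow_mul]; exact h4
    have hdvd : orderOf (x ^ 2) ∣ orderOf g' := by
      rw [← hi]
      refine orderOf_dvd_of_pow_eq_one ?_
      rw [← zpow_natCast, ← zpow_mul, mul_comm, zpow_mul, zpow_natCast, ← pow_mul, mul_comm, pow_mul,
        pow_orderOf_eq_one, one_pow, one_zpow]
    rw [ho2] at hdvd
    exact hg'odd.not_two_dvd_nat hdvd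
  exact ⟨H, K, hK, ⟨(MulEquiv.ofBijective f ⟨hinj, hsurj⟩).symm⟩⟩

end Cfsg.Agent.S0106
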