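import Cfsg.Statements.S1160
import Cfsg.Agent.Lib.PGroupsCyclic
-- import your own Cfsg.Agent.* helpers here

set_option autoImplicit false
open Cfsg

namespace Cfsg.Agent.S1160

open Subgroup

section

variable {P E : Type*} [Group P] [Finite P] [AddCommGroup E] [Finite E] [DistribMulAction P E]
  {p q : ℕ} [hp : Fact p.Prime]

/-- The sum of the translates of `x` under the first `p` powers of `g`. -/
def nsum (p : ℕ) (g : P) (x : E) : E := ∑ k ∈ Finset.range p, g ^ k • x

omit [Finite P] [Finite E] hp in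
theorem smul_nsum {g : P} (hg : g ^ p = 1) (x : E) : g • nsum p g x = nsum p g x := by
  have h1 := Finset.sum_range_succ' (fun k => g ^ k • x) p
  have h2 := Finset.sum_range_succ (fun k => g ^ k • x) p
  rw [h2, hg] at h1
  simp only [pow_zero] at h1
  rw [nsum, Finset.smul_sum]
  simp only [smul_smul, ← pow_succ']
  exact (add_right_cancel h1).symm

omit [Finite P] [Finite E] hp in
theorem nsum_fixed {g : P} {x : E} (h : g • x = x) : nsum p g x = p • x := by
  have : ∀ k : ℕ, g ^ k • x = x := fun k => by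
    induction k with
    | zero => simp
    | succ k ih => rw [pow_succ, mul_smul, h, ih]
  simp [nsum, this]

omit [Finite P] [Finite E] hp in
theorem smul_nsum_comm {g h : P} (hc : Commute h g) (x : E) :
    h • nsum p g x = nsum p g (h • x) := by
  simp only [nsum, Finset.smul_sum, smul_smul]
  exact Finset.sum_congr rfl fun k _ => by rw [(hc.pow_right k).eq]

omit [Finite P] [Finite E] hp in
theorem nsum_sub (g : P) (x y : E) : nsum p g (x - y) = nsum p g x - nsum p g y := by
  simp [nsum, smul_sub, Finset.sum_sub_distrib]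

omit [Finite P] [Finite E] hp in
theorem nsum_add (g : P) (x y : E) : nsum p g (x + y) = nsum p g x + nsum p g y := by
  simp [nsum, smul_add, Finset.sum_add_distrib]

omit [Finite E] hp in
/-- If `g` has odd order and fixes `a + c`, it cannot swap `a` and `c ≠ a`. -/
theorem no_swap (hodd : ∀ g : P, Odd (orderOf g)) {g : P} {a c : E} (h1 : g • a = c)
    (h2 : g • c = a) : a = c := by
  obtain ⟨m, hm⟩ := hodd g
  have h3 : ∀ k, (g ^ (2 * k)) • a = a := fun k => by
    induction k with
    | zero => simp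
    | succ k ih =>
      rw [show 2 * (k + 1) = 2 * k + 1 + 1 by ring, pow_succ, pow_succ, mul_smul, mul_smul, h1, h2, ih]
  have h4 : g ^ (2 * m + 1) • a = a := by rw [← hm, pow_orderOf_eq_one, one_smul]
  rw [pow_succ', mul_smul, h3 m, h1] at h4
  exact h4.symm

variable [FaithfulSMul P E]

/-- The group is cyclic. -/
theorem isCyclic_of_const (hp2 : p ≠ 2) (hP : IsPGroup p P) (hpq : ∀ e : E, p • e = 0 → e = 0)
    (hconst : ∀ a b : E, a ≠ 0 → b ≠ 0 →
      Nat.card (MulAction.stabilizer P a) = Nat.card (MulAction.stabilizer P b)) :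
    IsCyclic P ∧ ∀ z ∈ center P, z ≠ 1 → ∀ a : E, z • a = a → a = 0 := by
  have hodd : ∀ g : P, Odd (orderOf g) := fun g => by
    obtain ⟨k, hk⟩ := IsPGroup.iff_orderOf.1 hP g
    rw [hk]
    exact (hp.out.odd_of_ne_two hp2).pow
  -- equal stabilizers from an inclusion
  have hstab : ∀ a c : E, a ≠ 0 → c ≠ 0 → a + c ≠ 0 →
      (∀ g : P, g • (a + c) = a + c → g • a = a ∧ g • c = c) →
      ∀ g : P, g • a = a → g • c = c := by
    intro a c ha hc hac h g hg
    have hle : MulAction.stabilizer P (a + c) ≤ MulAction.stabilizer P a :=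
      fun g hg => (h g hg).1
    have e := Subgroup.eq_of_le_of_card_ge hle (hconst a (a + c) ha hac).le
    exact (h g (e.ge hg)).2
  -- central elements of order `p` have no fixed points
  have hcent : ∀ z ∈ center P, z ^ p = 1 → z ≠ 1 → ∀ a : E, z • a = a → a = 0 := by
    intro z hz hzp hz1 a ha
    by_contra ha0
    obtain ⟨x, hx⟩ : ∃ x : E, z • x ≠ x := by
      by_contra h
      push Not at h
      exact hz1 (eq_of_smul_eq_smul (α := E) fun x => by rw [h x, one_smul])
    have hc : ∀ g : P, Commute g z := fun g => Subgroup.mem_center_iff.1 hz g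
    have hN : nsum p z (z • x - x) = 0 := by
      rw [nsum_sub, ← smul_nsum_comm (Commute.refl z), smul_nsum hzp, sub_self]
    generalize hcdef : z • x - x = c at hN
    have hc0 : c ≠ 0 := by rw [← hcdef]; exact sub_ne_zero.2 hx
    have hac : a + c ≠ 0 := fun e => ha0 (hpq a (by
      have h1 := congrArg (nsum p z) e
      rwa [nsum_add, hN, add_zero, nsum_fixed ha,
        nsum_fixed (g := z) (x := (0 : E)) (smul_zero z), smul_zero] at h1))
    have hzc : z • c = c := by
      refine hstab a c ha0 hc0 hac (fun g hg => ?_) z ha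
      have h1 := congrArg (nsum p z) hg
      rw [← smul_nsum_comm (hc g), nsum_add, hN, add_zero, nsum_fixed ha, smul_comm g p a] at h1
      have h2 : g • a = a := sub_eq_zero.1 (hpq _ (by rw [smul_sub, h1, sub_self]))
      exact ⟨h2, by rwa [smul_add, h2, add_right_inj] at hg⟩
    exact hc0 (hpq c (by rw [← nsum_fixed hzc, hN]))
  have hcent' : ∀ z ∈ center P, z ≠ 1 → ∀ a : E, z • a = a → a = 0 := by
    intro z hz hz1 a ha
    obtain ⟨k, hk⟩ := IsPGroup.iff_orderOf.1 hP z
    have hk0 : k ≠ 0 := fun h => hz1 (orderOf_eq_one_iff.1 (by rw [hk, h, pow_zero]))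
    have hord : orderOf (z ^ p ^ (k - 1)) = p := by
      rw [orderOf_pow_of_dvd (pow_ne_zero _ hp.out.ne_zero) (hk ▸ pow_dvd_pow p (Nat.sub_le k 1)),
        hk, Nat.pow_div (Nat.sub_le k 1) hp.out.pos, show k - (k - 1) = 1 by omega, pow_one]
    refine hcent _ (pow_mem hz _) (by conv_lhs => rw [← hord]; exact pow_orderOf_eq_one _)
      (fun e => hp.out.ne_one (by rw [← hord, e, orderOf_one])) a ?_
    exact (MulAction.stabilizer P a).pow_mem ha _
  refine ⟨?_, hcent'⟩
  by_contra hnc
  obtain ⟨B, hBn, hBcard, hBel⟩ := PGroupsCyclic.exists_normal_elementary_sq hP hp2 hnc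
  have hBne : B ≠ ⊥ := fun e => by
    rw [e, Subgroup.card_bot] at hBcard
    exact (Nat.one_lt_pow two_ne_zero hp.out.one_lt).ne hBcard
  obtain ⟨z, hzB, hzC, hz1⟩ : ∃ z, z ∈ B ∧ z ∈ center P ∧ z ≠ 1 := by
    by_contra h
    push Not at h
    exact PGroupsBasic.inf_center_ne_bot hP hBne
      ((Subgroup.eq_bot_iff_forall _).2 fun x hx => h x hx.1 hx.2)
  have hzp : z ^ p = 1 := hBel.2 z hzB
  have hzord : orderOf z = p := PGroupsBasic.orderOf_eq_of_pow_eq_one hzp hz1
  obtain ⟨b, hbB, hbz⟩ : ∃ b ∈ B, b ∉ Subgroup.zpowers z := by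
    by_contra h
    push Not at h
    have := Subgroup.card_le_of_le (show B ≤ Subgroup.zpowers z from h)
    rw [hBcard, Nat.card_zpowers, hzord] at this
    nlinarith [hp.out.two_le]
  have hcomm : ∀ x ∈ B, ∀ y ∈ B, Commute x y := fun x hx y hy =>
    congrArg Subtype.val (hBel.1.is_comm.comm (⟨x, hx⟩ : B) ⟨y, hy⟩)
  have hzc : ∀ g : P, Commute g z := fun g => Subgroup.mem_center_iff.1 hzC g
  have hzfix : ∀ x : E, z • x = x → x = 0 := hcent' z hzC hz1
  let d : ℕ → P := fun i => b * z ^ i
  have hdB : ∀ i, d i ∈ B := fun i => B.mul_mem hbB (B.pow_mem hzB i)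
  have hdp : ∀ i, d i ^ p = 1 := fun i => hBel.2 _ (hdB i)
  -- two different fixed spaces meet trivially
  have hdisj : ∀ i j, i < p → j < p → i ≠ j → ∀ x : E, d i • x = x → d j • x = x → x = 0 := by
    intro i j hi hj hij x hxi hxj
    wlog hlt : i < j generalizing i j
    · exact this j i hj hi hij.symm hxj hxi (by omega)
    have e : d j = d i * z ^ (j - i) := by
      simp only [d, mul_assoc, ← pow_add]
      rw [show i + (j - i) = j by omega]
    have h1 : z ^ (j - i) • x = x := by
      rw [e, mul_smul] at hxj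
      exact (smul_left_cancel_iff (d i)).1 (hxj.trans hxi.symm)
    refine hcent' _ (pow_mem hzC _) (fun e1 => ?_) x h1
    have h2 := orderOf_dvd_of_pow_eq_one e1
    rw [hzord] at h2
    exact absurd (Nat.le_of_dvd (by omega) h2) (by omega)
  have hkill : ∀ i j, i < p → j < p → i ≠ j → ∀ x : E, d j • x = x → nsum p (d i) x = 0 := by
    intro i j hi hj hij x hx
    refine hdisj i j hi hj hij _ (smul_nsum (hdp i) x) ?_
    rw [smul_nsum_comm (hcomm _ (hdB j) _ (hdB i)), hx]
  have hid : ∀ x : E, ∑ i ∈ Finset.range p, nsum p (d i) x = p • x := by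
    intro x
    simp only [nsum]
    rw [Finset.sum_comm, Finset.sum_eq_single_of_mem 0 (Finset.mem_range.2 hp.out.pos)
      fun k hk hk0 => ?_]
    · simp
    have hk' := Finset.mem_range.1 hk
    have hkp : k.Coprime p :=
      (Nat.Coprime.symm ((hp.out.coprime_iff_not_dvd).2 fun h => absurd (Nat.le_of_dvd (Nat.pos_of_ne_zero hk0) h) (by omega)))
    have e : ∀ i, d i ^ k = b ^ k * (z ^ k) ^ i := fun i => by
      simp only [d]
      rw [((hzc b).pow_right i).mul_pow, ← pow_mul, ← pow_mul, mul_comm i k]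
    simp only [e, mul_smul, ← Finset.smul_sum]
    have hzk : z ^ k ≠ 1 := fun e1 => by
      have h2 := orderOf_dvd_of_pow_eq_one e1
      rw [hzord] at h2
      exact hp.out.not_dvd_one (hkp ▸ Nat.dvd_gcd h2 (dvd_refl p))
    rw [show ∑ i ∈ Finset.range p, (z ^ k) ^ i • x = nsum p (z ^ k) x from rfl,
      hcent' _ (pow_mem hzC _) hzk _ (smul_nsum (by rw [← pow_mul, mul_comm, pow_mul, hzp, one_pow]) x),
      smul_zero]
  -- conjugation permutes the fixed spaces
  have hperm : ∀ (g : P) (i : ℕ) (a : E), a ≠ 0 → d i • a = a →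
      ∃ m < p, d m • (g • a) = g • a := by
    intro g i a ha0 ha
    have hcB : g * d i * g⁻¹ ∈ B := hBn.conj_mem _ (hdB i) g
    have hcfix : (g * d i * g⁻¹) • (g • a) = g • a := by
      rw [mul_smul, mul_smul, inv_smul_smul, ha]
    have hga : g • a ≠ 0 := fun e => ha0 (by rw [← inv_smul_smul g a, e, smul_zero])
    haveI : (Subgroup.zpowers z).Normal :=
      PGroupsBasic.normal_of_le_center (Subgroup.zpowers_le.2 hzC)
    have hsup : Subgroup.zpowers z ⊔ Subgroup.zpowers b = B := by
      have hle : Subgroup.zpowers z ⊔ Subgroup.zpowers b ≤ B :=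
        sup_le (Subgroup.zpowers_le.2 hzB) (Subgroup.zpowers_le.2 hbB)
      refine Subgroup.eq_of_le_of_card_ge hle ?_
      rw [sup_comm, hBcard]
      obtain ⟨k, hk, hk'⟩ := (Nat.dvd_prime_pow hp.out).1
        (hBcard ▸ Subgroup.card_dvd_of_le ((sup_comm _ _).le.trans hle))
      have h1 : Nat.card (Subgroup.zpowers z) <
          Nat.card ↥(Subgroup.zpowers b ⊔ Subgroup.zpowers z) := by
        refine lt_of_le_of_ne (Subgroup.card_le_of_le le_sup_right) fun e1 => hbz ?_
        exact (Subgroup.eq_of_le_of_card_ge le_sup_right e1.ge).ge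
          (Subgroup.mem_sup_left (Subgroup.mem_zpowers b))
      rw [Nat.card_zpowers, hzord, hk'] at h1
      rw [hk']
      refine Nat.pow_le_pow_right hp.out.pos ?_
      by_contra h2
      have h3 : p ^ k ≤ p ^ 1 := Nat.pow_le_pow_right hp.out.pos (by omega)
      rw [pow_one] at h3
      omega
    obtain ⟨u, hu, v, hv, huv⟩ := Subgroup.mem_sup_of_normal_left.1 (hsup.ge hcB)
    obtain ⟨t, rfl⟩ := mem_powers_iff_mem_zpowers.2 hu
    obtain ⟨s, rfl⟩ := mem_powers_iff_mem_zpowers.2 hv
    change z ^ t * b ^ s = _ at huv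
    rw [← huv] at hcfix
    by_cases hs : p ∣ s
    · obtain ⟨w, rfl⟩ := hs
      rw [pow_mul, hBel.2 b hbB, one_pow, mul_one] at hcfix huv
      refine absurd (hcent' _ (pow_mem hzC t) (fun e1 => ?_) _ hcfix) hga
      rw [e1, eq_comm, mul_inv_eq_one, mul_eq_left] at huv
      simp only [d] at huv
      refine hbz ?_
      rw [eq_inv_of_mul_eq_one_left huv]
      exact inv_mem (Subgroup.pow_mem _ (Subgroup.mem_zpowers z) i)
    · obtain ⟨r, -, hr⟩ := Nat.exists_mul_mod_eq_one_of_coprime
        ((hp.out.coprime_iff_not_dvd.2 hs).symm) hp.out.one_lt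
      refine ⟨t * r % p, Nat.mod_lt _ hp.out.pos, ?_⟩
      have e : d (t * r % p) = (z ^ t * b ^ s) ^ r := by
        simp only [d]
        rw [((hzc b).symm.pow_pow t s).mul_pow, ← pow_mul, ← pow_mul,
          ← Nat.mod_add_div (s * r) p, hr, pow_add b, pow_one, pow_mul b p, hBel.2 b hbB, one_pow,
          mul_one, ← pow_mod_orderOf z (t * r), hzord]
        exact ((hzc b).pow_right _).eq
      rw [e]
      exact (MulAction.stabilizer P (g • a)).pow_mem hcfix r
  -- at most one fixed space is nonzero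
  have huniq : ∀ i j, i < p → j < p → i ≠ j → ∀ a c : E, a ≠ 0 → c ≠ 0 →
      d i • a = a → d j • c = c → False := by
    intro i j hi hj hij a c ha hc hai hcj
    have hac : a + c ≠ 0 := fun e => hc (hdisj i j hi hj hij c (by
      rw [eq_neg_of_add_eq_zero_left e, smul_neg, neg_inj] at hai
      exact hai) hcj)
    have hne : a ≠ c := fun e => ha (hdisj i j hi hj hij a hai (e ▸ hcj))
    refine hc (hdisj i j hi hj hij c (hstab a c ha hc hac (fun g hg => ?_) (d i) hai) hcj)
    obtain ⟨m, hm, hga⟩ := hperm g i a ha hai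
    obtain ⟨n, hn, hgc⟩ := hperm g j c hc hcj
    have hga0 : g • a ≠ 0 := fun e => ha (by rw [← inv_smul_smul g a, e, smul_zero])
    have hgc0 : g • c ≠ 0 := fun e => hc (by rw [← inv_smul_smul g c, e, smul_zero])
    have key : ∀ r, r < p → nsum p (d r) (g • a) + nsum p (d r) (g • c) =
        nsum p (d r) a + nsum p (d r) c := fun r _ => by
      rw [← nsum_add, ← smul_add, hg, nsum_add]
    have hmn : m ≠ n := by
      intro e
      subst e
      have h3 := key m hm
      rw [nsum_fixed hga, nsum_fixed hgc, ← nsmul_add, ← smul_add, hg] at h3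
      rcases eq_or_ne m i with rfl | hmi
      · rw [nsum_fixed hai, hkill m j hm hj hij c hcj, add_zero, nsmul_add, add_eq_left] at h3
        exact hc (hpq _ h3)
      rcases eq_or_ne m j with rfl | hmj
      · rw [nsum_fixed hcj, hkill m i hm hi hmi a hai, zero_add, nsmul_add, add_eq_right] at h3
        exact ha (hpq _ h3)
      rw [hkill m i hm hi hmi a hai, hkill m j hm hj hmj c hcj, add_zero] at h3
      exact hac (hpq _ h3)
    have e1 := key m hm
    rw [nsum_fixed hga, hkill m n hm hn hmn _ hgc, add_zero] at e1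
    rcases eq_or_ne m i with rfl | hmi
    · rw [nsum_fixed hai, hkill m j hm hj hij c hcj, add_zero] at e1
      have h2 : g • a = a := sub_eq_zero.1 (hpq _ (by rw [smul_sub, e1, sub_self]))
      exact ⟨h2, by rwa [smul_add, h2, add_right_inj] at hg⟩
    · rw [hkill m i hm hi hmi a hai, zero_add] at e1
      rcases eq_or_ne m j with rfl | hmj
      · rw [nsum_fixed hcj] at e1
        have h2 : g • a = c := sub_eq_zero.1 (hpq _ (by rw [smul_sub, e1, sub_self]))
        have h3 : g • c = a := by
          rw [smul_add, h2, add_comm a c, add_right_inj] at hg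
          exact hg
        exact absurd (no_swap hodd h2 h3) hne
      · rw [hkill m j hm hj hmj c hcj] at e1
        exact absurd (hpq _ e1) hga0
  -- conclude
  obtain ⟨x, hx⟩ : ∃ x : E, x ≠ 0 := by
    by_contra h
    push Not at h
    exact hz1 (eq_of_smul_eq_smul (α := E) fun x => by rw [h x, smul_zero, one_smul])
  obtain ⟨i, hi, hNi⟩ : ∃ i ∈ Finset.range p, nsum p (d i) x ≠ 0 := by
    by_contra h
    push Not at h
    exact hx (hpq x (by rw [← hid x, Finset.sum_eq_zero h]))
  have hall : ∀ y : E, d i • y = y := by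
    intro y
    have h1 : ∀ j ∈ Finset.range p, j ≠ i → nsum p (d j) y = 0 := fun j hj hji =>
      by_contra fun h => huniq j i (Finset.mem_range.1 hj) (Finset.mem_range.1 hi) hji _ _ h hNi
        (smul_nsum (hdp j) y) (smul_nsum (hdp i) x)
    have h2 := hid y
    rw [Finset.sum_eq_single_of_mem i hi h1] at h2
    have h3 := smul_nsum (hdp i) y
    rw [h2, smul_comm (d i) p y] at h3
    exact sub_eq_zero.1 (hpq _ (by rw [smul_sub, h3, sub_self]))
  have h4 : d i = 1 := eq_of_smul_eq_smul (α := E) fun y => by rw [hall y, one_smul]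
  exact hbz ((eq_inv_of_mul_eq_one_left h4) ▸
    inv_mem (Subgroup.pow_mem _ (Subgroup.mem_zpowers z) i))

end


/-- Let `p ≠ 2` be prime and `P` a finite `p`-group acting faithfully by additive automorphisms on a finite elementary abelian `q`-group `E` (`q` prime), such that `|P_a|` is the same for all `a ≠ 0`. Then `P` is cyclic and every non-identity element of `P` fixes only `0`. -/
theorem result {P E : Type*} [Group P] [Finite P]
    [AddCommGroup E] [Finite E] [DistribMulAction P E] [FaithfulSMul P E]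
    {p q : ℕ} [Fact p.Prime] (hp2 : p ≠ 2) (hP : IsPGroup p P) (hq : q.Prime) (hE : ∀ e : E, q • e = 0)
    (hconst : ∀ a b : E, a ≠ 0 → b ≠ 0 →
      Nat.card (MulAction.stabilizer P a) = Nat.card (MulAction.stabilizer P b)) :
    IsCyclic P ∧ ∀ g : P, g ≠ 1 → ∀ a : E, g • a = a → a = 0 := by
  by_cases hpq : p = q
  · have htriv : ∀ g : P, g = 1 := by
      intro g
      refine eq_of_smul_eq_smul (α := E) fun x => ?_
      rw [one_smul]
      by_cases hx : x = 0
      · rw [hx, smul_zero]
      have hdvd : p ∣ Nat.card E := by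
        refine dvd_trans (dvd_of_eq ?_) (addOrderOf_dvd_natCard x)
        exact (addOrderOf_eq_prime (hpq ▸ hE x) hx).symm
      obtain ⟨a, ha, ha0⟩ := hP.exists_fixed_point_of_prime_dvd_card_of_fixed_point E hdvd
        (show (0 : E) ∈ MulAction.fixedPoints P E from fun g => smul_zero g)
      have htop : MulAction.stabilizer P a = ⊤ := eq_top_iff.2 fun g _ => ha g
      have h2 : MulAction.stabilizer P x = ⊤ := by
        refine Subgroup.eq_top_of_card_eq _ ?_
        rw [hconst x a hx (Ne.symm ha0), htop, Subgroup.card_top]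
      exact (h2.ge (Subgroup.mem_top g) : g • x = x)
    exact ⟨⟨⟨1, fun g => ⟨0, by simp [htriv g]⟩⟩⟩, fun g hg => absurd (htriv g) hg⟩
  have hpq' : ∀ e : E, p • e = 0 → e = 0 := fun e he => by
    have h1 : addOrderOf e ∣ p := addOrderOf_dvd_of_nsmul_eq_zero he
    have h2 : addOrderOf e ∣ q := addOrderOf_dvd_of_nsmul_eq_zero (hE e)
    have := Nat.dvd_gcd h1 h2
    rw [(Nat.coprime_primes (Fact.out : p.Prime) hq).2 hpq] at this
    exact AddMonoid.addOrderOf_eq_one_iff.1 (Nat.dvd_one.1 this)
  obtain ⟨hcyc, hfpf⟩ := isCyclic_of_const hp2 hP hpq' hconst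
  refine ⟨hcyc, fun g hg a ha => hfpf g ?_ hg a ha⟩
  exact Subgroup.mem_center_iff.2 fun h => IsCyclic.commGroup.mul_comm h g

end Cfsg.Agent.S1160
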