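import Cfsg.Statements.S1127
import Cfsg.Agent.Lib.RankOneSetup

set_option autoImplicit false
open Cfsg

namespace Cfsg.Agent.S1127

/-- In the rank-one set-up (`G` finite and doubly transitive on `Ω`, `t` an involution moving `a`, `Q` normal in `G_a` with `G_a = Q D`, `Q ⊓ D = 1` for the two-point stabiliser `D = G_a ⊓ G_{t • a}`, `|Q|` even, `|D|` odd): if `s` is an involution of `G_a` and `r ∈ Q` satisfy `t s t = r⁻¹ t r`, then `C_D(t) = C_D(s)`; moreover `C_D(t) ⊓ C_D(K) = C_D(I ∩ G_a)`, where `K` is the set of elements of `D` inverted by `t` and `I ∩ G_a` the set of involutions of `G_a`. -/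
theorem result {G Ω : Type*} [Group G] [Finite G] [MulAction G Ω] {a : Ω} {t : G} {Q : Subgroup G}
    (hS : Cfsg.IsRankOneSetup G Ω a t Q) :
    (∀ s r : G, s ∈ Cfsg.involutionsIn (MulAction.stabilizer G a : Set G) → r ∈ Q → t * s * t = r⁻¹ * t * r →
        (MulAction.stabilizer G a ⊓ MulAction.stabilizer G (t • a)) ⊓ Subgroup.centralizer {t} = (MulAction.stabilizer G a ⊓ MulAction.stabilizer G (t • a)) ⊓ Subgroup.centralizer {s}) ∧
      (MulAction.stabilizer G a ⊓ MulAction.stabilizer G (t • a)) ⊓ Subgroup.centralizer {t} ⊓ Subgroup.centralizer (Cfsg.invertedBy (MulAction.stabilizer G a ⊓ MulAction.stabilizer G (t • a)) t) =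
        (MulAction.stabilizer G a ⊓ MulAction.stabilizer G (t • a)) ⊓ Subgroup.centralizer (Cfsg.involutionsIn (MulAction.stabilizer G a : Set G)) := by
  open RankOneSetup in
  have hcomm : ∀ {x y : G}, x * y * x⁻¹ = y ↔ x * y = y * x := mul_inv_eq_iff_eq_mul
  have tconj : ∀ d : G, d * t = t * d → t * d * t = d := fun d h => by
    rw [← h, mul_assoc, hS.mul_self, mul_one]
  have tcomm : ∀ d : G, t * d * t = d → d * t = t * d := fun d h => by
    calc d * t = t * d * t * t := by rw [h]
      _ = t * d := by rw [mul_assoc (t * d), hS.mul_self, mul_one]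
  refine ⟨fun s r hs hr he => ?_, ?_⟩
  · have hv : r * (t * s * t) * r⁻¹ = t := by rw [he]; group
    have hsw : IsSwap a t (r * (t * s * t) * r⁻¹) := by rw [hv]; exact ⟨hS.mul_self, rfl⟩
    ext d
    simp only [Subgroup.mem_inf, Subgroup.mem_centralizer_singleton_iff]
    constructor
    · rintro ⟨hd, hdt⟩
      have h1 := (phi_conj_fix hS hd hs hr hsw).1 (by rw [hv]; exact hcomm.2 hdt)
      rw [tconj d hdt] at h1
      exact ⟨hd, hcomm.1 h1⟩
    · rintro ⟨hd, hds⟩
      have h1 := (phi_conj_fix hS (t_conj hS hd) hs hr hsw).2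
        (by rw [t_conj_t_conj hS]; exact hcomm.2 hds)
      rw [hv] at h1
      have h2 := tconj _ (hcomm.1 h1)
      rw [t_conj_t_conj hS] at h2
      exact ⟨hd, tcomm d h2.symm⟩
  · ext d
    simp only [Subgroup.mem_inf, Subgroup.mem_centralizer_singleton_iff]
    constructor
    · rintro ⟨⟨hd, hdt⟩, hdI⟩
      refine ⟨hd, Subgroup.mem_centralizer_iff.2 fun s hs => ?_⟩
      obtain ⟨r, hr, hsw⟩ := phi_exists hS hs
      obtain ⟨i, hi, hie⟩ := (swap_iff hS).1 hsw
      have h1 := (phi_conj_fix hS hd hs hr hsw).1 (by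
        rw [hie]
        refine hcomm.2 ?_
        calc d * (t * i) = t * (d * i) := by rw [← mul_assoc, hdt, mul_assoc]
          _ = t * i * d := by rw [← Subgroup.mem_centralizer_iff.1 hdI i hi, mul_assoc])
      rw [tconj d hdt] at h1
      exact (hcomm.1 h1).symm
    · rintro ⟨hd, hdJ⟩
      have hd0 := t_conj hS hd
      have key : ∀ i ∈ Cfsg.invertedBy (twoPt G a t) t,
          (t * d * t) * (t * i) = t * i * (t * d * t) := fun i hi => by
        have hsw : IsSwap a t (t * i) := (swap_iff hS).2 ⟨i, hi, rfl⟩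
        obtain ⟨s, hs, r, hr, hv⟩ := phi_surj hS hsw
        rw [← hv] at hsw ⊢
        refine hcomm.1 ((phi_conj_fix hS hd0 hs hr hsw).2 ?_)
        rw [t_conj_t_conj hS]
        exact hcomm.2 (Subgroup.mem_centralizer_iff.1 hdJ s hs).symm
      have h0 := key 1 ⟨one_mem _, by simp⟩
      rw [mul_one] at h0
      have h2 := tconj _ h0
      rw [t_conj_t_conj hS] at h2
      have hdt := tcomm d h2.symm
      refine ⟨⟨hd, hdt⟩, Subgroup.mem_centralizer_iff.2 fun i hi => ?_⟩
      have h3 := key i hi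
      rw [← h2, ← mul_assoc d t i, hdt, mul_assoc, mul_assoc] at h3
      exact (mul_left_cancel h3).symm

end Cfsg.Agent.S1127
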