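import Cfsg.Statements.S1237
import Cfsg.Agent.Lib.RankTwoTwoGroup20
import Cfsg.Agent.Lib.SU3TwoHeisEmbed
-- import your own Cfsg.Agent.* helpers here

set_option autoImplicit false
open Cfsg

namespace Cfsg.Agent.S1237

open Cfsg.Agent.SU3TwoHeis Cfsg.Agent.RankTwoTwoGroup20

/-- Let T be a finite 2-group of 2-rank exactly 2 (it has a Klein four-subgroup but no elementary abelian subgroup of order 8) admitting an automorphism φ such that any two involutions of T are carried to one another by a power of φ. Then T ≅ Z_{2^n} × Z_{2^n} for some n ≥ 1, or T is isomorphic to a Sylow 2-subgroup of PSU(3) over the field with 16 elements. -/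
theorem result {T : Type*} [Group T] [Finite T] (hT : IsPGroup 2 T) (h2 : Cfsg.PRankLE 2 2 T) (h1 : ¬ Cfsg.PRankLE 2 1 T) (φ : MulAut T) (htrans : ∀ s t : T, orderOf s = 2 → orderOf t = 2 → ∃ k : ℕ, (φ ^ k) s = t) {F : Type*} [Field F] [Fintype F] (hF : Fintype.card F = 16) (P : Sylow 2 (Cfsg.PSU 3 F 4)) : (∃ n : ℕ, 1 ≤ n ∧ Nonempty (T ≃* Multiplicative (ZMod (2 ^ n) × ZMod (2 ^ n)))) ∨ Nonempty (T ≃* (P : Subgroup (Cfsg.PSU 3 F 4))) := by
  classical
  obtain ⟨dT⟩ := exists_data hT h2 h1 φ htrans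
  rcases structure_thm dT with hcase | ⟨u, v, t, s, rT⟩
  · exact Or.inl hcase
  refine Or.inr ?_
  obtain ⟨hc2, σ, hinv, hσ, hne, hfix, hcard, -, hPSU⟩ :=
    SU3TwoHeisEmbed.exists_model (F := F) (n := 2) (by norm_num) (by rw [hF]; norm_num)
  haveI := hc2
  haveI := hinv
  obtain ⟨e⟩ := hPSU P
  haveI : Finite (HU σ) := Nat.finite_of_card_ne_zero (by rw [hcard]; norm_num)
  have hsuz := SU3TwoHeis.isSuzukiTwoGroup hne (by rw [hfix]; norm_num)
  obtain ⟨-, hP2, hnc, -, K, hKc, hKt⟩ := hsuz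
  have hcen : Nat.card (Subgroup.center (HU σ)) = 4 := by
    rw [Nat.card_congr (centerEquiv hne), hfix]; norm_num
  have hmem : ∀ x : HU σ, x ^ 2 = 1 ↔ x ∈ Subgroup.center (HU σ) := fun x => by
    rw [pow_two, SU3TwoHeis.sq_eq_one_iff, SU3TwoHeis.mem_center_iff hne]
  have r2 : Cfsg.PRankLE 2 2 (HU σ) := fun A _ hA =>
    (Subgroup.card_le_of_le (fun a ha => (hmem a).mp (hA a ha))).trans (by rw [hcen]; norm_num)
  have r1 : ¬ Cfsg.PRankLE 2 1 (HU σ) := fun hr => by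
    have := hr (Subgroup.center (HU σ)) inferInstance fun a ha => (hmem a).mpr ha
    rw [hcen] at this
    omega
  obtain ⟨g, hg⟩ := hKc.exists_generator
  have htr : ∀ x y : HU σ, orderOf x = 2 → orderOf y = 2 → ∃ k : ℕ, ((g : MulAut (HU σ)) ^ k) x = y := by
    intro x y hx hy
    obtain ⟨hx1, hx2⟩ := orderOf_eq_prime_iff.mp hx |> fun h => (⟨h.2, h.1⟩ : x ≠ 1 ∧ x ^ 2 = 1)
    obtain ⟨hy1, hy2⟩ := orderOf_eq_prime_iff.mp hy |> fun h => (⟨h.2, h.1⟩ : y ≠ 1 ∧ y ^ 2 = 1)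
    obtain ⟨k, hk, -⟩ := hKt x y hx1 (by rw [← pow_two]; exact hx2) hy1 (by rw [← pow_two]; exact hy2)
    obtain ⟨i, hi⟩ := mem_powers_iff_mem_zpowers.mpr (hg k)
    exact ⟨i, by rw [← hk, ← hi]; rfl⟩
  obtain ⟨dP⟩ := exists_data hP2 r2 r1 (g : MulAut (HU σ)) htr
  rcases structure_thm dP with ⟨n, -, ⟨f⟩⟩ | ⟨u', v', t', s', rP⟩
  · obtain ⟨x, y, hxy⟩ := hnc
    exact absurd (f.injective (by rw [map_mul, map_mul, mul_comm])) hxy
  obtain ⟨f⟩ := rel_unique rT rP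
  exact ⟨f.trans e.symm⟩
end Cfsg.Agent.S1237
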