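import Mathlib
import Cfsg.Statements.S3863
-- import your own Cfsg.Agent.* helpers here

set_option autoImplicit false
open Cfsg

namespace Cfsg.Agent.S3863

theorem nat_card_orbit_conj {G : Type*} [Group G] [Finite G] (x : G) :
    (Subgroup.centralizer ({x} : Set G)).index = Nat.card {y : G // IsConj x y} := by
  rw [Subgroup.index]
  refine Nat.card_congr (Equiv.ofBijective (Quotient.lift (fun g : G => (⟨g * x * g⁻¹, isConj_iff.mpr ⟨g, rfl⟩⟩ : {y : G // IsConj x y})) ?_) ⟨?_, ?_⟩)
  · intro a b hab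
    have h := Subgroup.mem_centralizer_singleton_iff.mp (QuotientGroup.leftRel_apply.mp hab)
    apply Subtype.ext
    calc a * x * a⁻¹ = a * (x * (a⁻¹ * b)) * b⁻¹ := by group
      _ = a * ((a⁻¹ * b) * x) * b⁻¹ := by rw [← h]
      _ = b * x * b⁻¹ := by group
  · intro a b
    refine Quotient.inductionOn₂ a b (fun a b h => Quotient.sound ?_)
    have h' : a * x * a⁻¹ = b * x * b⁻¹ := congrArg Subtype.val h
    refine QuotientGroup.leftRel_apply.mpr (Subgroup.mem_centralizer_singleton_iff.mpr ?_)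
    calc a⁻¹ * b * x = a⁻¹ * (b * x * b⁻¹) * b := by group
      _ = a⁻¹ * (a * x * a⁻¹) * b := by rw [h']
      _ = x * (a⁻¹ * b) := by group
  · rintro ⟨y, hy⟩
    obtain ⟨c, hc⟩ := isConj_iff.mp hy
    exact ⟨Quotient.mk'' c, Subtype.ext hc⟩

/-- Let x be an element of the finite group G that is conjugate to its inverse. Then some 2-element conjugates x to its inverse; if the conjugacy class of x has odd size then x ^ 2 = 1; and x lies in, and is conjugate to its inverse inside, every normal subgroup of odd index. -/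
theorem result {G : Type*} [Group G] [Finite G] (x : G) (hx : IsConj x x⁻¹) : (∃ t : G, (∃ j : ℕ, orderOf t = 2 ^ j) ∧ t * x * t⁻¹ = x⁻¹) ∧ (Odd (Subgroup.centralizer ({x} : Set G)).index → x ^ 2 = 1) ∧ ∀ (N : Subgroup G) [N.Normal], Odd N.index → ∃ hxN : x ∈ N, IsConj (⟨x, hxN⟩ : N) (⟨x, hxN⟩ : N)⁻¹ := by
  classical
  obtain ⟨t0, ht0⟩ := isConj_iff.mp hx
  set k := (orderOf t0).factorization 2 with hk
  set m := orderOf t0 / 2 ^ k with hm
  have hmodd : Odd m := by
    rw [← Nat.not_even_iff_odd, even_iff_two_dvd]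
    exact Nat.not_dvd_ordCompl Nat.prime_two (orderOf_pos t0).ne'
  have hiter : ∀ n : ℕ, t0 ^ n * x * (t0 ^ n)⁻¹ = if Even n then x else x⁻¹ := by
    intro n
    induction n with
    | zero => simp
    | succ n ih =>
      have e : t0 ^ (n + 1) * x * (t0 ^ (n + 1))⁻¹ = t0 * (t0 ^ n * x * (t0 ^ n)⁻¹) * t0⁻¹ := by
        rw [pow_succ']; group
      rw [e, ih]
      by_cases h : Even n
      · simp [h, ht0, Nat.even_add_one]
      · simp only [h, if_false, Nat.even_add_one, not_false_eq_true, if_true]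
        have := congrArg (·⁻¹) ht0
        simpa [mul_assoc] using this
  set t := t0 ^ m with ht
  have htinv : t * x * t⁻¹ = x⁻¹ := by
    rw [ht, hiter m, if_neg (Nat.not_even_iff_odd.mpr hmodd)]
  have htpow : t ^ 2 ^ k = 1 := by
    rw [ht, ← pow_mul, mul_comm, hm, hk, Nat.mul_div_cancel' (Nat.ordProj_dvd _ 2), pow_orderOf_eq_one]
  refine ⟨⟨t, ?_, htinv⟩, ?_, ?_⟩
  · obtain ⟨j, _, hj⟩ := (Nat.dvd_prime_pow Nat.prime_two).mp (orderOf_dvd_of_pow_eq_one htpow)
    exact ⟨j, hj⟩
  · intro hodd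
    have hcl : ∀ y : {y : G // IsConj x y}, IsConj x (y.1)⁻¹ := by
      intro y
      obtain ⟨c, hc⟩ := isConj_iff.mp y.2
      exact hx.trans (isConj_iff.mpr ⟨c, by rw [← hc]; group⟩)
    let σ : Equiv.Perm {y : G // IsConj x y} :=
      Function.Involutive.toPerm (fun y => ⟨(y.1)⁻¹, hcl y⟩) (fun y => Subtype.ext (inv_inv _))
    have hcard : Nat.card {y : G // IsConj x y} = (Subgroup.centralizer ({x} : Set G)).index := by
      rw [← nat_card_orbit_conj x]
    haveI := Fintype.ofFinite {y : G // IsConj x y}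
    have hnd : ¬ 2 ∣ Fintype.card {y : G // IsConj x y} := by
      rw [← Nat.card_eq_fintype_card, hcard]
      rwa [← even_iff_two_dvd, Nat.not_even_iff_odd]
    obtain ⟨y, hy⟩ := Equiv.Perm.exists_fixed_point_of_prime (p := 2) (n := 1) hnd
      (σ := σ) (by ext z; simp [σ, pow_two, Function.Involutive.toPerm])
    have hy' : (y.1)⁻¹ = y.1 := congrArg Subtype.val hy
    obtain ⟨c, hc⟩ := isConj_iff.mp y.2
    have : y.1 ^ 2 = 1 := by rw [pow_two]; nth_rw 1 [← hy']; rw [inv_mul_cancel]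
    rw [← hc, conj_pow] at this
    simpa using this
  · intro N hN hNodd
    have hkill : ∀ z : G ⧸ N, z ^ 2 ^ k = 1 → z = 1 := by
      intro z hz
      have h1 : orderOf z ∣ 2 ^ k := orderOf_dvd_of_pow_eq_one hz
      have h2 : orderOf z ∣ N.index := orderOf_dvd_natCard z
      have hco : Nat.Coprime (2 ^ k) N.index := (Nat.coprime_two_left.mpr hNodd).pow_left _
      exact orderOf_eq_one_iff.mp (Nat.eq_one_of_dvd_coprimes hco h1 h2)
    have htN : t ∈ N := (QuotientGroup.eq_one_iff t).mp (hkill _ (by rw [← QuotientGroup.mk_pow, htpow, QuotientGroup.mk_one]))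
    have hxN : x ∈ N := by
      have h2 : ((x : G ⧸ N)) ^ 2 = 1 := by
        have := congrArg (fun g : G => (g : G ⧸ N)) htinv
        simp only [QuotientGroup.mk_mul, (QuotientGroup.eq_one_iff t).mpr htN, QuotientGroup.mk_inv, inv_one, one_mul, mul_one] at this
        rw [pow_two]; nth_rw 2 [this]; rw [mul_inv_cancel]
      refine (QuotientGroup.eq_one_iff x).mp ?_
      have h1 : orderOf (x : G ⧸ N) ∣ 2 := orderOf_dvd_of_pow_eq_one h2
      exact orderOf_eq_one_iff.mp (Nat.eq_one_of_dvd_coprimes (Nat.coprime_two_left.mpr hNodd) h1 (orderOf_dvd_natCard _))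
    exact ⟨hxN, isConj_iff.mpr ⟨⟨t, htN⟩, Subtype.ext htinv⟩⟩

end Cfsg.Agent.S3863
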