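import Cfsg.Statements.S4866
import Cfsg.Agent.Lib.RealChars

set_option autoImplicit false
open Cfsg

namespace Cfsg.Agent.S4866

/-- Let K be a normal subgroup of odd index in the finite group G. Then G has as many orbits on the real-valued irreducible complex characters of K (acting by conjugation) as it has orbits on the conjugacy classes of K that are real in K; equivalently, the number of G-orbits of real-valued irreducible characters of K equals the number of G-conjugacy classes of elements of K that are conjugate in K to their inverses. -/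
theorem result {G : Type*} [Group G] [Finite G] (K : Subgroup G) [K.Normal] (hodd : Odd K.index) : Nat.card (Quot (fun θ η : {θ : Cfsg.IrrCharacter ↥K // (∀ k : ↥K, ((θ : ↥K → ℂ) k).im = 0)} => ∃ g : G, ∀ k k' : ↥K, (k' : G) = g * (k : G) * g⁻¹ → (η.1 : ↥K → ℂ) k' = (θ.1 : ↥K → ℂ) k)) = Nat.card (Quot (fun x y : {x : ↥K // IsConj x x⁻¹} => ∃ g : G, (y.1 : G) = g * x.1 * g⁻¹)) := by
  classical
  haveI : Fintype G := Fintype.ofFinite G
  haveI : Finite (Cfsg.IrrCharacter ↥K) := CharBasicOrth.finite_irrCharacter
  let cj : G → (↥K ≃* ↥K) := fun g => MulAut.conjNormal g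
  have hcj : ∀ (g : G) (k : ↥K), ((cj g k : ↥K) : G) = g * k * g⁻¹ := fun g k =>
    MulAut.conjNormal_apply g k
  have hcjm : ∀ (a b : G) (k : ↥K), cj (a * b) k = cj a (cj b k) := fun a b k => by simp [cj]
  -- action on the real characters
  let X := {θ : Cfsg.IrrCharacter ↥K // (∀ k : ↥K, ((θ : ↥K → ℂ) k).im = 0)}
  let _ : MulAction G X :=
    { smul := fun g θ => ⟨⟨fun k => (θ.1 : ↥K → ℂ) (cj g⁻¹ k),
        CharBasic.isIrrCharacter_comap (cj g⁻¹).toMonoidHom (cj g⁻¹).surjective θ.1.2⟩,
        fun k => θ.2 _⟩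
      one_smul := fun θ => Subtype.ext (Subtype.ext (funext fun k => by
        show (θ.1 : ↥K → ℂ) (cj 1⁻¹ k) = _
        simp [cj]))
      mul_smul := fun a b θ => Subtype.ext (Subtype.ext (funext fun k => by
        show (θ.1 : ↥K → ℂ) (cj (a * b)⁻¹ k) = (θ.1 : ↥K → ℂ) (cj b⁻¹ (cj a⁻¹ k))
        rw [mul_inv_rev, hcjm])) }
  -- action on the real classes
  let Y := {C : ConjClasses ↥K // ∀ x, ConjClasses.mk x = C → IsConj x x⁻¹}
  have hY : ∀ (g : G) (C : Y) (x : ↥K),
      ConjClasses.mk x = ConjClasses.map (cj g).toMonoidHom C.1 → IsConj x x⁻¹ := by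
    rintro g ⟨C, hC⟩ x hx
    obtain ⟨c, rfl⟩ := ConjClasses.mk_surjective C
    have h1 : IsConj (cj g c) x := (ConjClasses.mk_eq_mk_iff_isConj.mp hx).symm
    have h2 := (cj g).toMonoidHom.map_isConj (hC c rfl)
    rw [map_inv] at h2
    obtain ⟨u, hu⟩ := isConj_iff.mp h1
    refine (h1.symm.trans h2).trans (isConj_iff.mpr ⟨u, ?_⟩)
    rw [MulEquiv.coe_toMonoidHom, ← hu]
    group
  let _ : MulAction G Y :=
    { smul := fun g C => ⟨ConjClasses.map (cj g).toMonoidHom C.1, hY g C⟩
      one_smul := fun C => Subtype.ext (by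
        show ConjClasses.map (cj 1).toMonoidHom C.1 = C.1
        obtain ⟨c, hc⟩ := ConjClasses.mk_surjective C.1
        rw [← hc]
        show ConjClasses.mk ((cj 1) c) = _
        simp [cj])
      mul_smul := fun a b C => Subtype.ext (by
        show ConjClasses.map (cj (a * b)).toMonoidHom C.1 =
          ConjClasses.map (cj a).toMonoidHom (ConjClasses.map (cj b).toMonoidHom C.1)
        obtain ⟨c, hc⟩ := ConjClasses.mk_surjective C.1
        rw [← hc]
        show ConjClasses.mk (cj (a * b) c) = ConjClasses.mk (cj a (cj b c))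
        rw [hcjm]) }
  -- the fixed point numbers agree
  have hfix : ∀ g : G, Nat.card (MulAction.fixedBy X g) = Nat.card (MulAction.fixedBy Y g) := by
    intro g
    let σ : ↥K → ↥K := fun k => cj g⁻¹ k⁻¹
    have hσirr : ∀ χ : Cfsg.IrrCharacter ↥K,
        Cfsg.IsIrrCharacter ↥K (fun k => (χ : ↥K → ℂ) (σ k)) := by
      intro χ
      have h := CharBasicDecomp.isIrrCharacter_conj
        (CharBasic.isIrrCharacter_comap (cj g⁻¹).toMonoidHom (cj g⁻¹).surjective χ.2)
      convert h using 1
      funext k
      show (χ : ↥K → ℂ) (cj g⁻¹ k⁻¹) = _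
      rw [map_inv, CharBasic.isCharacter_inv (CharBasic.isCharacter_of_isIrrCharacter χ.2)]
      rfl
    obtain ⟨m, hm⟩ := hodd
    have hN : g ^ K.index ∈ K := Subgroup.pow_index_mem K g
    -- iterating `σ` an odd number of times
    have hiter : ∀ (j : ℕ) (k : ↥K), σ^[2 * j] k = cj (g ^ (2 * j))⁻¹ k := by
      intro j
      induction j with
      | zero => intro k; simp [cj]
      | succ j ih =>
        intro k
        rw [show 2 * (j + 1) = (2 * j + 1) + 1 by ring, Function.iterate_succ_apply',
          Function.iterate_succ_apply', ih]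
        show cj g⁻¹ (cj g⁻¹ (cj (g ^ (2 * j))⁻¹ k)⁻¹)⁻¹ = _
        simp only [map_inv, inv_inv]
        rw [← hcjm, ← hcjm]
        congr 2
        rw [show 2 * j + 1 + 1 = 2 * j + 2 by ring, pow_add, pow_two]
        group
    have hodd' : ∀ k : ↥K, σ^[K.index] k = cj (g ^ K.index)⁻¹ k⁻¹ := by
      intro k
      rw [hm, Function.iterate_add_apply, Function.iterate_one, hiter]
      show cj (g ^ (2 * m))⁻¹ (cj g⁻¹ k⁻¹) = _
      rw [← hcjm, ← mul_inv_rev, ← pow_succ']
    have hin : ∀ k : ↥K, IsConj k (cj (g ^ K.index)⁻¹ k) := fun k =>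
      isConj_iff.mpr ⟨⟨(g ^ K.index)⁻¹, inv_mem hN⟩, Subtype.ext (by rw [hcj]; simp)⟩
    have h := RealChars.card_fixed_eq σ hσirr
    have e1 : MulAction.fixedBy X g ≃
        {χ : Cfsg.IrrCharacter ↥K // ∀ k, (χ : ↥K → ℂ) (σ k) = (χ : ↥K → ℂ) k} :=
      { toFun := fun θ => ⟨θ.1.1, fun k => by
          have h1 : (θ.1.1 : ↥K → ℂ) (cj g⁻¹ k⁻¹) = (θ.1.1 : ↥K → ℂ) k⁻¹ :=
            congrFun (congrArg (fun z : X => (z.1 : ↥K → ℂ)) θ.2) k⁻¹
          rw [h1]
          exact (RealChars.real_iff θ.1.1).mp θ.1.2 k⟩
        invFun := fun χ => by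
          have hit : ∀ (n : ℕ) (k : ↥K), (χ.1 : ↥K → ℂ) (σ^[n] k) = (χ.1 : ↥K → ℂ) k := by
            intro n
            induction n with
            | zero => intro k; rfl
            | succ n ih => intro k; rw [Function.iterate_succ_apply', χ.2, ih]
          have hreal : ∀ k, ((χ.1 : ↥K → ℂ) k).im = 0 := (RealChars.real_iff χ.1).mpr fun k => by
            rw [← hit K.index k, hodd']
            exact CharBasic.apply_eq_of_isConj (CharBasic.isClassFunction_of_isCharacter
              (CharBasic.isCharacter_of_isIrrCharacter χ.1.2)) (hin k⁻¹)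
          refine ⟨⟨χ.1, hreal⟩, ?_⟩
          refine Subtype.ext (Subtype.ext (funext fun k => ?_))
          show (χ.1 : ↥K → ℂ) (cj g⁻¹ k) = _
          have := χ.2 k⁻¹
          simp only [σ, inv_inv] at this
          rw [this]
          exact (RealChars.real_iff χ.1).mp hreal k
        left_inv := fun θ => rfl
        right_inv := fun χ => rfl }
    have e2 : MulAction.fixedBy Y g ≃
        {C : ConjClasses ↥K // ∀ k, ConjClasses.mk k = C → IsConj (σ k) k} :=
      { toFun := fun C => ⟨C.1.1, fun k hk => by
          have h1 : ConjClasses.map (cj g).toMonoidHom C.1.1 = C.1.1 :=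
            congrArg (fun z : Y => z.1) C.2
          rw [← hk] at h1
          have h2 : IsConj (cj g k) k := ConjClasses.mk_eq_mk_iff_isConj.mp h1
          have h3 := (cj g⁻¹).toMonoidHom.map_isConj h2
          simp only [MulEquiv.coe_toMonoidHom] at h3
          rw [← hcjm, inv_mul_cancel] at h3
          have h4 : IsConj k (cj g⁻¹ k) := by simpa [cj] using h3
          show IsConj (cj g⁻¹ k⁻¹) k
          rw [map_inv]
          obtain ⟨u, hu⟩ := isConj_iff.mp h4
          exact IsConj.trans (isConj_iff.mpr ⟨u⁻¹, by rw [← hu]; group⟩ : IsConj (cj g⁻¹ k)⁻¹ k⁻¹)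
            (C.1.2 k hk).symm⟩
        invFun := fun C => by
          have hstep : ∀ k k', IsConj k k' → IsConj (σ k) (σ k') := by
            intro k k' hkk
            obtain ⟨u, rfl⟩ := isConj_iff.mp hkk
            refine isConj_iff.mpr ⟨cj g⁻¹ u, ?_⟩
            show cj g⁻¹ u * cj g⁻¹ k⁻¹ * (cj g⁻¹ u)⁻¹ = cj g⁻¹ (u * k * u⁻¹)⁻¹
            rw [← map_mul, ← map_inv (cj g⁻¹), ← map_mul]
            congr 1
            group
          have hit : ∀ (n : ℕ) (k : ↥K), ConjClasses.mk k = C.1 → IsConj (σ^[n] k) k := by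
            intro n
            induction n with
            | zero => intro k _; exact IsConj.refl k
            | succ n ih =>
              intro k hk
              rw [Function.iterate_succ_apply']
              exact (hstep _ _ (ih k hk)).trans (C.2 k hk)
          have hreal : ∀ k, ConjClasses.mk k = C.1 → IsConj k k⁻¹ := fun k hk => by
            have := hit K.index k hk
            rw [hodd'] at this
            exact ((hin k⁻¹).trans this).symm
          refine ⟨⟨C.1, hreal⟩, Subtype.ext ?_⟩
          obtain ⟨c, hc⟩ := ConjClasses.mk_surjective C.1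
          show ConjClasses.map (cj g).toMonoidHom C.1 = C.1
          rw [← hc]
          show ConjClasses.mk (cj g c) = _
          rw [ConjClasses.mk_eq_mk_iff_isConj]
          have h1 : IsConj (σ c⁻¹) c⁻¹ := C.2 c⁻¹ (by
            rw [← hc, ConjClasses.mk_eq_mk_iff_isConj]; exact (hreal c hc).symm)
          simp only [σ, inv_inv] at h1
          have h2 := (cj g).toMonoidHom.map_isConj (h1.trans (hreal c hc).symm)
          simp only [MulEquiv.coe_toMonoidHom] at h2
          rw [← hcjm, mul_inv_cancel] at h2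
          have h3 : IsConj c (cj g c) := by simpa [cj] using h2
          exact h3.symm
        left_inv := fun C => rfl
        right_inv := fun C => rfl }
    rw [Nat.card_congr e1, Nat.card_congr e2, h]
  have hburn : ∀ (Z : Type _) [MulAction G Z] [Fintype Z],
      ∑ g : G, Nat.card (MulAction.fixedBy Z g) =
        Nat.card (Quotient (MulAction.orbitRel G Z)) * Nat.card G := by
    intro Z _ _
    haveI : Fintype (Quotient (MulAction.orbitRel G Z)) := Fintype.ofFinite _
    simp only [Nat.card_eq_fintype_card]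
    exact MulAction.sum_card_fixedBy_eq_card_orbits_mul_card_group G Z
  haveI : Fintype X := Fintype.ofFinite X
  haveI : Fintype Y := Fintype.ofFinite Y
  have horb : Nat.card (Quotient (MulAction.orbitRel G X)) =
      Nat.card (Quotient (MulAction.orbitRel G Y)) :=
    Nat.eq_of_mul_eq_mul_right (Nat.card_pos (α := G))
      (by rw [← hburn X, ← hburn Y]; exact Finset.sum_congr rfl fun g _ => hfix g)
  have hX : ∀ (θ η : X) (g : G), g • θ = η ↔
      ∀ k k' : ↥K, (k' : G) = g * (k : G) * g⁻¹ → (η.1 : ↥K → ℂ) k' = (θ.1 : ↥K → ℂ) k := by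
    intro θ η g
    constructor
    · rintro rfl k k' hk
      show (θ.1 : ↥K → ℂ) (cj g⁻¹ k') = _
      exact congrArg (θ.1 : ↥K → ℂ) (Subtype.ext (by rw [hcj, hk]; group))
    · intro hall
      refine Subtype.ext (Subtype.ext (funext fun k => ?_))
      show (θ.1 : ↥K → ℂ) (cj g⁻¹ k) = _
      exact (hall (cj g⁻¹ k) k (by rw [hcj]; group)).symm
  refine Eq.trans (Nat.card_congr ?_) (horb.trans (Nat.card_congr ?_))
  · exact
      { toFun := Quot.lift (fun θ => Quotient.mk'' θ) fun θ η ⟨g, hg⟩ => Quotient.sound (by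
          show θ ∈ MulAction.orbit G η
          refine ⟨g⁻¹, ?_⟩
          show g⁻¹ • η = θ
          rw [← (hX θ η g).mpr hg, inv_smul_smul])
        invFun := Quotient.lift (fun θ => Quot.mk _ θ) fun θ η hab => by
          obtain ⟨g, hg⟩ : θ ∈ MulAction.orbit G η := hab
          exact (Quot.sound ⟨g, (hX η θ g).mp hg⟩).symm
        left_inv := fun q => Quot.inductionOn q fun θ => rfl
        right_inv := fun q => Quotient.inductionOn q fun θ => rfl }
  · exact
      { toFun := Quotient.lift (fun C : Y => Quot.mk _ (⟨Quotient.out C.1,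
            C.2 _ (Quotient.out_eq C.1)⟩ : {x : ↥K // IsConj x x⁻¹})) fun C D hab => by
          obtain ⟨g, hg⟩ : C ∈ MulAction.orbit G D := hab
          have h1 : ConjClasses.mk (cj g (Quotient.out D.1)) = C.1 := by
            rw [← hg]
            exact congrArg (ConjClasses.map (cj g).toMonoidHom) (Quotient.out_eq D.1)
          have h2 : IsConj (cj g (Quotient.out D.1)) (Quotient.out C.1) :=
            ConjClasses.mk_eq_mk_iff_isConj.mp (h1.trans (Quotient.out_eq C.1).symm)
          obtain ⟨u, hu⟩ := isConj_iff.mp h2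
          refine (Quot.sound ⟨(u : G) * g, ?_⟩).symm
          show ((Quotient.out C.1 : ↥K) : G) = _
          rw [← hu]
          simp only [Subgroup.coe_mul, Subgroup.coe_inv, hcj]
          group
        invFun := Quot.lift (fun x => Quotient.mk'' (⟨ConjClasses.mk x.1, fun k hk => by
            have h1 := ConjClasses.mk_eq_mk_iff_isConj.mp hk
            obtain ⟨u, hu⟩ := isConj_iff.mp h1.symm
            refine (h1.trans x.2).trans (isConj_iff.mpr ⟨u, ?_⟩)
            rw [← hu]; group⟩ : Y)) fun x y ⟨g, hg⟩ => Quotient.sound (by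
          show _ ∈ MulAction.orbit G _
          refine ⟨g⁻¹, Subtype.ext ?_⟩
          show ConjClasses.map (cj g⁻¹).toMonoidHom (ConjClasses.mk y.1) = ConjClasses.mk x.1
          show ConjClasses.mk (cj g⁻¹ y.1) = _
          congr 1
          apply Subtype.ext
          rw [hcj, hg]; group)
        left_inv := fun q => Quotient.inductionOn q fun C => by
          apply Quotient.sound
          show _ ∈ MulAction.orbit G _
          exact ⟨1, by rw [show (fun m : G => m • C) 1 = (1 : G) • C from rfl, one_smul]; exact Subtype.ext (Quotient.out_eq C.1).symm⟩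
        right_inv := fun q => Quot.inductionOn q fun x => by
          have h2 : IsConj x.1 (Quotient.out (ConjClasses.mk x.1)) :=
            ConjClasses.mk_eq_mk_iff_isConj.mp (Quotient.out_eq (ConjClasses.mk x.1)).symm
          obtain ⟨u, hu⟩ := isConj_iff.mp h2
          refine (Quot.sound ⟨(u : G), ?_⟩).symm
          show ((Quotient.out (ConjClasses.mk x.1) : ↥K) : G) = _
          rw [← hu]
          simp }

end Cfsg.Agent.S4866
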