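import Cfsg.Statements.S4914
import Cfsg.Agent.Lib.GlaubermanRelative

set_option autoImplicit false
open Cfsg
open scoped ComplexConjugate

namespace Cfsg.Agent.S4914

open Cfsg.Agent.CharBasic Cfsg.Agent.GlaubermanP Cfsg.Agent.GlaubermanAbove
  Cfsg.Agent.GlaubermanNormalSylow Cfsg.Agent.GlaubermanRelative

/-- Let P and K be subgroups of a finite group G with P a p-group normalizing K, and suppose K has a normal Sylow p-subgroup Q. Let C be the subgroup of those k ∈ K whose commutator with every element of P lies in Q (so that C/Q is the fixed-point subgroup of P on K/Q). Then there is a bijection f from the P-invariant irreducible complex characters of K onto the P-invariant irreducible complex characters of C such that, for every P-invariant irreducible character χ of K, the multiplicity of f(χ) in the restriction of χ to C is a natural number congruent to 1 or to −1 modulo p, every other P-invariant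 irreducible character of C occurs in that restriction with multiplicity divisible by p, and the degrees of χ and f(χ) are congruent modulo p up to sign. -/
theorem result {G : Type*} [Group G] [Finite G] (p : ℕ) [Fact p.Prime] (P K Q C : Subgroup G) (hP : IsPGroup p ↥P) (hPK : P ≤ Subgroup.normalizer (K : Set G)) (hQK : Q ≤ K) (hQn : ∀ k ∈ K, ∀ q ∈ Q, k * q * k⁻¹ ∈ Q) (hQp : ∃ a : ℕ, Nat.card ↥Q = p ^ a) (hQsyl : ¬ p ∣ Q.relIndex K) (hCK : C ≤ K) (hC : ∀ k : G, k ∈ C ↔ (k ∈ K ∧ ∀ x ∈ P, x * k * x⁻¹ * k⁻¹ ∈ Q)) : ∃ f : {χ : Cfsg.IrrCharacter ↥K // (∀ x ∈ P, ∀ k k' : ↥K, (k' : G) = x * (k : G) * x⁻¹ → (χ : ↥K → ℂ) k' = (χ : ↥K → ℂ) k)} → {ξ : Cfsg.IrrCharacter ↥C // (∀ x ∈ P, ∀ k k' : ↥C, (k' : G) = x * (k : G) * x⁻¹ → (ξ : ↥C → ℂ) k' = (ξ : ↥C → ℂ) k)}, Function.Bijective f ∧ ∀ χ, (∀ ξ : {ξ : Cfsg.IrrCharacter ↥C // (∀ x ∈ P, ∀ k k' : ↥C, (k' : G) = x * (k : G) * x⁻¹ → (ξ : ↥C → ℂ) k' = (ξ : ↥C → ℂ)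 k)}, ∃ m : ℕ, (Nat.card ↥C : ℂ)⁻¹ * ∑ᶠ c : ↥C, (χ.1 : ↥K → ℂ) (Subgroup.inclusion hCK c) * (starRingEnd ℂ) ((ξ.1 : ↥C → ℂ) c) = (m : ℂ) ∧ (ξ = f χ → ((m : ZMod p) = 1 ∨ (m : ZMod p) = -1)) ∧ (ξ ≠ f χ → p ∣ m)) ∧ ((Cfsg.charDegree ((f χ).1 : ↥C → ℂ) : ZMod p) = (Cfsg.charDegree (χ.1 : ↥K → ℂ) : ZMod p) ∨ (Cfsg.charDegree ((f χ).1 : ↥C → ℂ) : ZMod p) = -(Cfsg.charDegree (χ.1 : ↥K → ℂ) : ZMod p)) := by
  classical
  haveI := Fintype.ofFinite G
  haveI := Fintype.ofFinite ↥K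
  haveI : (Q.subgroupOf K).Normal := ⟨fun n hn g => hQn _ g.2 _ hn⟩
  haveI := Fintype.ofFinite ↥(Q.subgroupOf K)
  haveI := Fintype.ofFinite ↥(C.subgroupOf K)
  haveI := Fintype.ofFinite ↥C
  have hp : p.Prime := Fact.out
  let φ : ↥P →* MulAut ↥K :=
    K.normalizerMonoidHom.comp (Subgroup.inclusion hPK)
  have hφ : ∀ (x : ↥P) (k : ↥K), ((φ x k : ↥K) : G) = (x : G) * (k : G) * (x : G)⁻¹ :=
    fun x k => rfl
  obtain ⟨a, ha⟩ := hQp
  have hQK' := Subgroup.subgroupOfEquivOfLe hQK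
  have hCmem : ∀ k : ↥K, k ∈ C.subgroupOf K ↔ ∀ x : ↥P, φ x k * k⁻¹ ∈ Q.subgroupOf K := fun k => by
    rw [Subgroup.mem_subgroupOf, hC]
    exact ⟨fun h x => h.2 x x.2, fun h => ⟨k.2, fun x hx => h ⟨x, hx⟩⟩⟩
  have hQinv : ∀ (x : ↥P), ∀ q ∈ Q.subgroupOf K, φ x q ∈ Q.subgroupOf K := by
    -- `Q` is the only Sylow subgroup
    haveI : Fact p.Prime := ⟨hp⟩
    intro x q hq
    have hpg : IsPGroup p ↥(Q.subgroupOf K) :=
      IsPGroup.of_card (n := a) (by rw [Nat.card_congr hQK'.toEquiv, ha])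
    let S : Sylow p ↥K := hpg.toSylow hQsyl
    haveI : (S : Subgroup ↥K).Normal := inferInstanceAs (Q.subgroupOf K).Normal
    obtain ⟨n, hn⟩ := IsPGroup.iff_orderOf.1 hpg ⟨q, hq⟩
    have hsub : Subgroup.zpowers (φ x q) ≤ (S : Subgroup ↥K) := by
      have hz : IsPGroup p ↥(Subgroup.zpowers (φ x q)) := IsPGroup.of_card (n := n) (by
        rw [Nat.card_zpowers, MulEquiv.orderOf_eq, ← hn]
        exact (Subgroup.orderOf_mk q hq).symm)
      obtain ⟨S', hS'⟩ := hz.exists_le_sylow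
      haveI := Sylow.unique_of_normal S (inferInstanceAs (Q.subgroupOf K).Normal)
      rwa [Subsingleton.elim S' S] at hS'
    exact hsub (Subgroup.mem_zpowers _)
  have h : Rel p φ (Q.subgroupOf K) (C.subgroupOf K) := by
    refine ⟨hp, hP, IsPGroup.of_card (n := a) ?_, hQsyl, hQinv, hCmem⟩
    rw [Nat.card_congr hQK'.toEquiv, ha]
  obtain ⟨f, hf, hprop⟩ := exists_bij h
  let e : ↥(C.subgroupOf K) ≃* ↥C := Subgroup.subgroupOfEquivOfLe hCK
  let eI : Cfsg.IrrCharacter ↥(C.subgroupOf K) ≃ Cfsg.IrrCharacter ↥C :=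
    { toFun := fun ξ => ⟨(ξ : _ → ℂ) ∘ e.symm.toMonoidHom,
        isIrrCharacter_comap _ e.symm.surjective ξ.2⟩
      invFun := fun ξ => ⟨(ξ : _ → ℂ) ∘ e.toMonoidHom,
        isIrrCharacter_comap _ e.surjective ξ.2⟩
      left_inv := fun ξ => rfl
      right_inv := fun ξ => rfl }
  let EC : {ξ : Cfsg.IrrCharacter ↥(C.subgroupOf K) //
      Inv (resSub φ (C.subgroupOf K) fun a _ hk => h.invC a hk) (ξ : _ → ℂ)} ≃
      {ξ : Cfsg.IrrCharacter ↥C // (∀ x ∈ P, ∀ k k' : ↥C, (k' : G) = x * (k : G) * x⁻¹ →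
        (ξ : ↥C → ℂ) k' = (ξ : ↥C → ℂ) k)} :=
    eI.subtypeEquiv fun ξ => by
      constructor
      · intro hi x hx k k' hk
        refine Eq.trans ?_ (hi ⟨x, hx⟩ (e.symm k))
        exact congrArg ξ.1 (Subtype.ext (Subtype.ext hk))
      · intro hi x k
        exact hi x x.2 (e k) (e (resSub φ (C.subgroupOf K) (fun a _ hk => h.invC a hk) x k)) rfl
  let EK : {χ : Cfsg.IrrCharacter ↥K // (∀ x ∈ P, ∀ k k' : ↥K, (k' : G) = x * (k : G) * x⁻¹ →
      (χ : ↥K → ℂ) k' = (χ : ↥K → ℂ) k)} ≃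
      {χ : Cfsg.IrrCharacter ↥K // Inv φ (χ : ↥K → ℂ)} :=
    Equiv.subtypeEquivRight fun χ => ⟨fun hi x k => hi x x.2 k _ (hφ x k), fun hi x hx k k' hk => by
      rw [show k' = φ ⟨x, hx⟩ k from Subtype.ext hk]
      exact hi _ k⟩
  refine ⟨fun χ => EC (f (EK χ)), (EC.bijective.comp (hf.comp EK.bijective)), fun χ => ?_⟩
  obtain ⟨h1, h2, h3⟩ := hprop (EK χ)
  refine ⟨fun ξ => ?_, ?_⟩
  · obtain ⟨η, rfl⟩ := EC.surjective ξ
    refine ⟨mult (C.subgroupOf K).subtype χ.1 η.1, ?_, fun hη => ?_, fun hη => ?_⟩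
    · rw [finsum_eq_sum_of_fintype]
      refine Eq.trans ?_ ((classInner_eq_mult (C.subgroupOf K).subtype χ.1 η.1))
      exact (CharBasicOrth.classInner_congr_equiv (G := ↥C) e
        (fun c => (χ.1 : ↥K → ℂ) (Subgroup.inclusion hCK c)) ((EC η).1 : ↥C → ℂ)).symm
    · rw [EC.injective hη]
      have e1 : ∀ m : ℤ, (mult (C.subgroupOf K).subtype χ.1 (f (EK χ)).1 : ℤ) ≡ m [ZMOD p] →
          (mult (C.subgroupOf K).subtype χ.1 (f (EK χ)).1 : ZMod p) = (m : ZMod p) := fun m hm => by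
        simpa using (ZMod.intCast_eq_intCast_iff _ _ _).2 hm
      rcases h2 with hm | hm
      · exact Or.inl (by simpa using e1 1 hm)
      · exact Or.inr (by simpa using e1 (-1) hm)
    · exact h1 η fun e' => hη (congrArg EC e')
  · obtain ⟨n, -, hn⟩ := isIrrCharacter_apply_one χ.1.2
    obtain ⟨k, -, hk⟩ := isIrrCharacter_apply_one (f (EK χ)).1.2
    have hdn : Cfsg.charDegree (χ.1 : ↥K → ℂ) = n := by simp [Cfsg.charDegree, hn]
    have hdk : Cfsg.charDegree ((EC (f (EK χ))).1 : ↥C → ℂ) = k := by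
      have : ((EC (f (EK χ))).1 : ↥C → ℂ) 1 = (k : ℂ) := hk
      simp [Cfsg.charDegree, this]
    rw [hdn, hdk]
    rcases h3 n k hn hk with hm | hm
    · exact Or.inl (by simpa using (ZMod.intCast_eq_intCast_iff _ _ _).2 hm)
    · exact Or.inr (by simpa using (ZMod.intCast_eq_intCast_iff _ _ _).2 hm)

end Cfsg.Agent.S4914
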