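import Mathlib
import Cfsg.Agent.Lib.BaerSuzuki
import Cfsg.Agent.Lib.CoprimeAction
import Cfsg.Statements.S3861
-- import your own Cfsg.Agent.* helpers here

set_option autoImplicit false
open Cfsg

namespace Cfsg.Agent.S3861

theorem lift_real {G : Type*} [Group G] [Finite G] (N : Subgroup G) [N.Normal] (hN : IsPGroup 2 N)
    (h : ∀ x : G, x ≠ 1 → Odd (orderOf x) → ¬ IsConj x x⁻¹) :
    ∀ y : G ⧸ N, y ≠ 1 → Odd (orderOf y) → ¬ IsConj y y⁻¹ := by
  classical
  haveI : Fact (Nat.Prime 2) := ⟨Nat.prime_two⟩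
  intro y hy hodd hreal
  obtain ⟨x0, rfl⟩ := QuotientGroup.mk_surjective y
  obtain ⟨j, hj⟩ := IsPGroup.iff_card.mp hN
  obtain ⟨s, hs⟩ := isConj_iff.mp hreal
  obtain ⟨t, rfl⟩ := QuotientGroup.mk_surjective s
  set m := orderOf (x0 : G ⧸ N) with hm
  have hcop : (2 ^ j).Coprime m := (Nat.coprime_two_left.mpr hodd).pow_left j
  have hx0m : x0 ^ m ∈ N := by rw [← QuotientGroup.eq_one_iff, QuotientGroup.mk_pow, hm, pow_orderOf_eq_one]
  set x := x0 ^ 2 ^ j with hx
  have hxm : orderOf x ∣ m := by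
    apply orderOf_dvd_of_pow_eq_one
    have h1 := Subgroup.orderOf_dvd_natCard N hx0m
    rw [hj] at h1
    rw [hx, ← pow_mul, mul_comm, pow_mul, orderOf_dvd_iff_pow_eq_one.mp h1]
  have hxodd : Odd (orderOf x) := hodd.of_dvd_nat hxm
  have hxcop : (orderOf x).Coprime (2 ^ j) := (Nat.coprime_two_left.mpr hxodd).pow_left j |>.symm
  have hxne : x ≠ 1 := by
    intro h1
    apply hy
    have h2 : ((x0 : G ⧸ N)) ^ 2 ^ j = 1 := by rw [← QuotientGroup.mk_pow, ← hx, h1, QuotientGroup.mk_one]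
    exact orderOf_eq_one_iff.mp (Nat.eq_one_of_dvd_coprimes hcop (orderOf_dvd_of_pow_eq_one h2) (hm ▸ dvd_rfl))
  refine h x hxne hxodd ?_
  have hx' : ((t * x * t⁻¹ : G) : G ⧸ N) = ((x⁻¹ : G) : G ⧸ N) := by
    rw [QuotientGroup.mk_mul, QuotientGroup.mk_mul, QuotientGroup.mk_inv, QuotientGroup.mk_inv, hx,
      QuotientGroup.mk_pow, ← conj_pow, hs, inv_pow]
  set v := t * x * t⁻¹ with hv
  have hxv : x * v ∈ N := by
    rw [← QuotientGroup.eq_one_iff, QuotientGroup.mk_mul, hx', ← QuotientGroup.mk_mul, mul_inv_cancel, QuotientGroup.mk_one]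
  have hA : Subgroup.zpowers x ≤ Subgroup.normalizer (N : Set G) := by
    rw [Subgroup.normalizer_eq_top_iff.mpr inferInstance]; exact le_top
  obtain ⟨n, hn, hnv⟩ := CoprimeSZ.exists_conj_of_card_eq (A := Subgroup.zpowers x) (N := N)
    (B := Subgroup.zpowers v) hA (by rw [Nat.card_zpowers, hj]; exact hxcop)
    (Or.inl (CoprimeAction.isSolvable_zpowers x))
    (Subgroup.zpowers_le.mpr (by
      rw [show v = x⁻¹ * (x * v) by group]
      exact Subgroup.mul_mem _ (Subgroup.mem_sup_right (inv_mem (Subgroup.mem_zpowers x))) (Subgroup.mem_sup_left hxv)))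
    (by rw [Nat.card_zpowers, Nat.card_zpowers, hv]
        exact orderOf_injective (MulAut.conj t).toMonoidHom (MulAut.conj t).injective x)
  have hw : n⁻¹ * v * n ∈ Subgroup.zpowers x :=
    CoprimeSZ.mem_conj_smul.mp (hnv.symm ▸ Subgroup.mem_zpowers v)
  have hn1 : (n : G ⧸ N) = 1 := (QuotientGroup.eq_one_iff n).mpr hn
  have hwN : x * (n⁻¹ * v * n) ∈ N := by
    rw [← QuotientGroup.eq_one_iff]
    simp only [QuotientGroup.mk_mul, QuotientGroup.mk_inv, hn1, inv_one, one_mul, mul_one, hx',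
      mul_inv_cancel]
  have hwx : x * (n⁻¹ * v * n) ∈ Subgroup.zpowers x := mul_mem (Subgroup.mem_zpowers x) hw
  have hdisj : Disjoint (Subgroup.zpowers x) N :=
    Subgroup.disjoint_of_coprime_natCard (by rw [Nat.card_zpowers, hj]; exact hxcop)
  have := Subgroup.disjoint_def.mp hdisj hwx hwN
  refine isConj_iff.mpr ⟨n⁻¹ * t, ?_⟩
  rw [eq_inv_iff_mul_eq_one, mul_eq_one_iff_eq_inv, ← mul_eq_one_iff_eq_inv.mp (mul_eq_one_comm.mp this), hv]
  group

theorem normal_sylow {G : Type*} [Group G] [Finite G]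
    (h : ∀ x : G, x ≠ 1 → Odd (orderOf x) → ¬ IsConj x x⁻¹) :
    ∃ N : Subgroup G, N.Normal ∧ IsPGroup 2 N ∧ ∀ x : G, (∃ k, orderOf x = 2 ^ k) → x ∈ N := by
  classical
  haveI : Fact (Nat.Prime 2) := ⟨Nat.prime_two⟩
  obtain ⟨N, -, hN⟩ := exists_maximal_ge_of_wellFoundedGT (fun N : Subgroup G => N.Normal ∧ IsPGroup 2 N) ⊥
    ⟨inferInstance, IsPGroup.of_bot⟩
  obtain ⟨hNn, hNp⟩ := hN.prop
  haveI := hNn
  refine ⟨N, hNn, hNp, fun z ⟨k, hk⟩ => by_contra fun hz => ?_⟩
  have hz1 : ((z : G ⧸ N)) ≠ 1 := fun h1 => hz ((QuotientGroup.eq_one_iff z).mp h1)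
  have hdvd : orderOf (z : G ⧸ N) ∣ 2 ^ k := hk ▸ orderOf_map_dvd (QuotientGroup.mk' N) z
  obtain ⟨i, -, hi⟩ := (Nat.dvd_prime_pow Nat.prime_two).mp hdvd
  have hi0 : i ≠ 0 := by
    rintro rfl
    exact hz1 (orderOf_eq_one_iff.mp (by simpa using hi))
  set s := (z : G ⧸ N) ^ 2 ^ (i - 1) with hs
  have hso : orderOf s = 2 := by
    rw [hs, orderOf_pow_of_dvd (by positivity) (hi ▸ pow_dvd_pow 2 (by omega)), hi, Nat.pow_div (by omega) two_pos,
      show i - (i - 1) = 1 by omega, pow_one]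
  obtain ⟨w, hw1, hwodd, hw⟩ := BaerSuzuki.exists_inverted_odd s hso (fun M hM hMp hsM => by
    have hle : M.comap (QuotientGroup.mk' N) ≤ N := by
      refine hN.2 ⟨hM.comap _, hMp.comap_of_ker_isPGroup _ (by rwa [QuotientGroup.ker_mk'])⟩ ?_
      intro n hn
      rw [Subgroup.mem_comap, show QuotientGroup.mk' N n = 1 from (QuotientGroup.eq_one_iff n).mpr hn]
      exact one_mem M
    obtain ⟨g, hg⟩ := QuotientGroup.mk_surjective s
    have hgN : g ∈ N := hle (show (g : G ⧸ N) ∈ M from hg.symm ▸ hsM)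
    rw [← hg, (QuotientGroup.eq_one_iff g).mpr hgN, orderOf_one] at hso
    omega)
  exact lift_real N hNp h w hw1 hwodd (isConj_iff.mpr ⟨s, hw⟩)

/-- A finite group G has no non-identity element of odd order that is conjugate to its inverse if and only if the Sylow 2-subgroups of G are normal. -/
theorem result {G : Type*} [Group G] [Finite G] (P : Sylow 2 G) : (∀ x : G, x ≠ 1 → Odd (orderOf x) → ¬ IsConj x x⁻¹) ↔ (P : Subgroup G).Normal := by
  classical
  constructor
  · intro h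
    haveI : Fact (Nat.Prime 2) := ⟨Nat.prime_two⟩
    obtain ⟨N, hN, hNp, hle⟩ := normal_sylow h
    obtain ⟨Q, hQ⟩ := hNp.exists_le_sylow
    have hQN : (Q : Subgroup G) = N := by
      refine le_antisymm ?_ hQ
      intro x hx
      exact hle x ((IsPGroup.iff_orderOf.mp Q.isPGroup' ⟨x, hx⟩).imp fun k hk => by rwa [Subgroup.orderOf_mk] at hk)
    have := Sylow.unique_of_normal Q (hQN ▸ hN)
    rw [Subsingleton.elim P Q, hQN]
    exact hN
  · intro hP x hx hodd hreal
    obtain ⟨t, ht⟩ := isConj_iff.mp hreal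
    have hidx : Odd (P : Subgroup G).index := by
      rw [← Nat.not_even_iff_odd, even_iff_two_dvd]
      exact P.not_dvd_index
    -- the image in the quotient of odd order is trivial
    have h1 := congrArg (QuotientGroup.mk' (P : Subgroup G)) ht
    simp only [map_mul, map_inv] at h1
    set a := QuotientGroup.mk' (P : Subgroup G) t
    set b := QuotientGroup.mk' (P : Subgroup G) x
    have h2 : b ^ 2 = 1 := by
      have hao : Odd (orderOf a) := hidx.of_dvd_nat (orderOf_dvd_natCard a)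
      have e : ∀ n : ℕ, a ^ n * b * (a ^ n)⁻¹ = if Even n then b else b⁻¹ := by
        intro n
        induction n with
        | zero => simp
        | succ n ih =>
          rw [show a ^ (n + 1) * b * (a ^ (n + 1))⁻¹ = a * (a ^ n * b * (a ^ n)⁻¹) * a⁻¹ by rw [pow_succ']; group, ih]
          by_cases hn : Even n
          · simp [hn, h1, Nat.even_add_one]
          · simp only [hn, if_false, Nat.even_add_one, not_false_eq_true, if_true]
            rw [show a * b⁻¹ * a⁻¹ = (a * b * a⁻¹)⁻¹ by group, h1, inv_inv]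
      have := e (orderOf a)
      rw [pow_orderOf_eq_one, if_neg (Nat.not_even_iff_odd.mpr hao)] at this
      rw [pow_two]
      calc b * b = b * (1 * b * 1⁻¹) := by simp
        _ = b * b⁻¹ := by rw [this]
        _ = 1 := mul_inv_cancel b
    have hb : b = 1 := by
      have h3 : orderOf b ∣ 2 := orderOf_dvd_of_pow_eq_one h2
      exact orderOf_eq_one_iff.mp (Nat.eq_one_of_dvd_coprimes (Nat.coprime_two_left.mpr hidx) h3 (orderOf_dvd_natCard b))
    have hxP : x ∈ (P : Subgroup G) := (QuotientGroup.eq_one_iff x).mp hb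
    obtain ⟨k, hk⟩ := (IsPGroup.iff_orderOf.mp P.isPGroup') ⟨x, hxP⟩
    rw [Subgroup.orderOf_mk] at hk
    rcases Nat.eq_zero_or_pos k with rfl | hk0
    · exact hx (orderOf_eq_one_iff.mp (by simpa using hk))
    · rw [hk, Nat.odd_pow_iff hk0.ne'] at hodd
      exact absurd hodd (by decide)

end Cfsg.Agent.S3861
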