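import Cfsg.Statements.S3333
import Cfsg.Agent.Lib.SelfCentNineReduce64
import Cfsg.Agent.Lib.AltSixAut64

set_option autoImplicit false
open Cfsg Cfsg.Agent.SelfCentNineLoc64 Cfsg.Agent.SelfCentNineReduce64

namespace Cfsg.Agent.S3333

theorem exp_of_dihedral {G : Type*} [Group G] [Finite G] {S : Subgroup G} (hcard : Nat.card S = 9)
    (hC : Subgroup.centralizer (S : Set G) = S)
    [hn : (S.subgroupOf (Subgroup.normalizer (S : Set G))).Normal]
    (eN : Subgroup.normalizer (S : Set G) ⧸ S.subgroupOf (Subgroup.normalizer (S : Set G)) ≃* DihedralGroup 4) :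
    ∀ a ∈ S, a ^ 3 = 1 := by
  intro a ha
  by_contra h3
  have ho : orderOf (⟨a, ha⟩ : S) = 9 := by
    have hd := hcard ▸ orderOf_dvd_natCard (⟨a, ha⟩ : S)
    obtain ⟨i, hi, he⟩ := (Nat.dvd_prime_pow Nat.prime_three).1 (show _ ∣ 3 ^ 2 from hd)
    have hne : ¬ orderOf (⟨a, ha⟩ : S) ∣ 3 := fun hd3 => h3 (by
      have e := orderOf_dvd_iff_pow_eq_one.1 hd3
      exact congrArg Subtype.val e)
    interval_cases i <;> simp_all
  haveI hcyc : IsCyclic S := isCyclic_of_orderOf_eq_card _ (by rw [ho, hcard])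
  set N := Subgroup.normalizer (S : Set G)
  -- the automiser would embed in an abelian group
  have hker : (Subgroup.normalizerMonoidHom S).ker = S.subgroupOf N := by
    rw [Subgroup.normalizerMonoidHom_ker, hC]
  let f : N ⧸ S.subgroupOf N →* MulAut S :=
    QuotientGroup.lift _ (Subgroup.normalizerMonoidHom S) hker.ge
  have hf : Function.Injective f := by
    rw [injective_iff_map_eq_one]
    intro q hq
    obtain ⟨n, rfl⟩ := QuotientGroup.mk_surjective q
    rw [QuotientGroup.eq_one_iff, ← hker]
    exact hq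
  have hab : ∀ x y : DihedralGroup 4, x * y = y * x := fun x y => by
    apply eN.symm.injective
    apply hf
    simp only [map_mul]
    exact mulAut_cyclic_comm (f (eN.symm x)) (f (eN.symm y))
  exact absurd hab (by decide)

/-- Let G be a finite group with a Sylow 3-subgroup S of order 9 that is its own centralizer, with N_G(S)/S dihedral of order 8, and such that C_G(x) ≤ N_G(S) for every non-identity x in S. Then S is normal in G or G is isomorphic to the symmetric group of degree 6. -/
theorem result {G : Type*} [Group G] [Finite G]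
    (P : Sylow 3 G) (S : Subgroup G) (hSP : S = P) (hcard : Nat.card S = 9)
    (hC : Subgroup.centralizer (S : Set G) = S)
    (eN : Subgroup.normalizer (S : Set G) ⧸ S.subgroupOf (Subgroup.normalizer (S : Set G)) ≃* DihedralGroup 4)
    (hcent : ∀ x ∈ S, x ≠ 1 → Subgroup.centralizer ({x} : Set G) ≤ Subgroup.normalizer (S : Set G)) :
    S.Normal ∨ Nonempty (G ≃* Equiv.Perm (Fin 6)) := by
  classical
  haveI := Fintype.ofFinite G
  subst hSP
  set N := Subgroup.normalizer ((P : Subgroup G) : Set G) with hNdef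
  refine or_iff_not_imp_left.2 fun hnn => ?_
  haveI hn : ((P : Subgroup G).subgroupOf N).Normal := Subgroup.normal_in_normalizer
  have hcomm : ∀ a ∈ (P : Subgroup G), ∀ b ∈ (P : Subgroup G), a * b = b * a := fun a ha b hb =>
    (Subgroup.mem_centralizer_iff.1 (hC.ge ha) b hb).symm
  have hN72 : Nat.card N = 72 := by
    rw [Subgroup.card_eq_card_quotient_mul_card_subgroup ((P : Subgroup G).subgroupOf N), Nat.card_congr eN.toEquiv,
      DihedralGroup.nat_card, Nat.card_congr (Subgroup.subgroupOfEquivOfLe Subgroup.le_normalizer).toEquiv, hcard]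
  have hexp : ∀ a ∈ (P : Subgroup G), a ^ 3 = 1 := exp_of_dihedral hcard hC eN
  have h := Loc.of_sylow P rfl hcomm hexp hcard hC hcent
  have h18 := all_eighteen h (five_involutions eN).ge
  obtain ⟨M, hMn, hSM, hMs, hMc⟩ := exists_simple h P rfl hnn
    (by rw [← hNdef, hN72]; norm_num) (by rw [← hNdef, hN72]; norm_num)
  haveI := hMs
  haveI := hMn
  have h' := h.subgroupOf hSM
  have hk := card_normalizer_subgroupOf (S := (P : Subgroup G)) hSM
  have hd : Nat.card (N ⊓ M : Subgroup G) ∣ 72 := hN72 ▸ Subgroup.card_dvd_of_le inf_le_left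
  have h9 : 9 ∣ Nat.card (N ⊓ M : Subgroup G) :=
    hcard ▸ Subgroup.card_dvd_of_le (le_inf Subgroup.le_normalizer hSM)
  have hne72 : Nat.card (N ⊓ M : Subgroup G) ≠ 72 := fun e => by
    have hNM : N ≤ M := by
      have := Subgroup.eq_of_le_of_card_ge (inf_le_left : N ⊓ M ≤ N) (by rw [e, hN72])
      exact this ▸ inf_le_right
    refine SelfCentNineD8_64.d8_false hMc h' (by rw [hk, ← hNdef, e]) fun x hx hx1 => ?_
    rw [card_centralizer_subgroupOf h hNM x hx hx1]
    exact h18 _ hx fun e => hx1 (Subtype.ext e)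
  have hcases : Nat.card (N ⊓ M : Subgroup G) = 9 ∨ Nat.card (N ⊓ M : Subgroup G) = 18 ∨ Nat.card (N ⊓ M : Subgroup G) = 36 := by
    have hle := Nat.le_of_dvd (by norm_num) hd
    obtain ⟨c, hc⟩ := h9
    rw [hc] at hd hle hne72 ⊢
    have hc8 : c ≤ 8 := by omega
    interval_cases c <;> omega
  rw [← hk] at hcases
  obtain ⟨hM360, h36, h9'⟩ := simple_small hMc h' (P.subtype hSM) (Sylow.coe_subtype P hSM).symm hcases
  have hNMtop : N ⊔ M = ⊤ := by
    have := Sylow.normalizer_sup_eq_top (P.subtype hSM)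
    rwa [Sylow.coe_subtype, Subgroup.map_subgroupOf_eq_of_le hSM] at this
  have hG720 : Nat.card G = 720 := by
    have hri : (M.relIndex N) = M.index := by
      rw [← Subgroup.relIndex_sup_right, hNMtop, Subgroup.relIndex_top_right]
    have e1 := Subgroup.card_mul_index M
    have e2 : Nat.card (N ⊓ M : Subgroup G) * M.relIndex N = Nat.card N := by
      rw [← Subgroup.inf_relIndex_left, Subgroup.relIndex, ← Subgroup.card_mul_index ((N ⊓ M).subgroupOf N),
        Nat.card_congr (Subgroup.subgroupOfEquivOfLe inf_le_left).toEquiv]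
    rw [hk, ← hNdef] at h36
    rw [h36, hN72, hri] at e2
    rw [hM360] at e1
    omega
  exact nonempty_equiv_sym_six h P rfl hSM hM360 hG720 h18 h9' (by rw [hN72]) h36

end Cfsg.Agent.S3333
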