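import Cfsg.Statements.S3805
import Cfsg.Agent.Lib.SelfCentNineReduce64

set_option autoImplicit false
open Cfsg Cfsg.Agent.SelfCentNineLoc64 Cfsg.Agent.SelfCentNineReduce64

namespace Cfsg.Agent.S3805

/-- Let G be a finite group whose Sylow 3-subgroup T is elementary abelian of order 9 and self-centralizing, with N_G(T)/T a Klein four-group, and suppose that the centralizer of every nonidentity element of T lies in N_G(T). Then T is normal in G. -/
theorem result {G : Type*} [Group G] [Finite G]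
    (T : Sylow 3 G) (hT : Cfsg.IsElementaryAbelian 3 (T : Subgroup G)) (hcard : Nat.card T = 9)
    (hC : Subgroup.centralizer ((T : Subgroup G) : Set G) = T)
    [hn : ((T : Subgroup G).subgroupOf (Subgroup.normalizer ((T : Subgroup G) : Set G))).Normal]
    (hK : IsKleinFour (↥(Subgroup.normalizer ((T : Subgroup G) : Set G)) ⧸
      (T : Subgroup G).subgroupOf (Subgroup.normalizer ((T : Subgroup G) : Set G))))
    (hloc : ∀ t ∈ (T : Subgroup G), t ≠ 1 →
      Subgroup.centralizer ({t} : Set G) ≤ Subgroup.normalizer ((T : Subgroup G) : Set G)) :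
    Subgroup.normalizer ((T : Subgroup G) : Set G) = ⊤ := by
  classical
  set N := Subgroup.normalizer ((T : Subgroup G) : Set G) with hNdef
  by_contra hne
  have hcomm : ∀ a ∈ (T : Subgroup G), ∀ b ∈ (T : Subgroup G), a * b = b * a := fun a ha b hb =>
    (Subgroup.mem_centralizer_iff.1 (hC.ge ha) b hb).symm
  have hexp : ∀ a ∈ (T : Subgroup G), a ^ 3 = 1 := exp_of_elementary hT
  have h := Loc.of_sylow T rfl hcomm hexp hcard hC hloc
  have hnn : ¬ (T : Subgroup G).Normal := fun hn' => hne (Subgroup.normalizer_eq_top_iff.2 hn')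
  have hN36 : Nat.card N = 36 := by
    rw [Subgroup.card_eq_card_quotient_mul_card_subgroup ((T : Subgroup G).subgroupOf N), hK.card_four,
      Nat.card_congr (Subgroup.subgroupOfEquivOfLe Subgroup.le_normalizer).toEquiv, hcard]
  obtain ⟨M, hMn, hTM, hMs, hMc⟩ := exists_simple h T rfl hnn
    (by rw [← hNdef, hN36]; norm_num) (by rw [← hNdef, hN36]; norm_num)
  haveI := hMs
  have h' := h.subgroupOf hTM
  have hk := card_normalizer_subgroupOf (S := (T : Subgroup G)) hTM
  have hd : Nat.card (N ⊓ M : Subgroup G) ∣ 36 := hN36 ▸ Subgroup.card_dvd_of_le inf_le_left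
  have h9 : 9 ∣ Nat.card (N ⊓ M : Subgroup G) :=
    hcard ▸ Subgroup.card_dvd_of_le (le_inf Subgroup.le_normalizer hTM)
  have hcases : Nat.card (N ⊓ M : Subgroup G) = 9 ∨ Nat.card (N ⊓ M : Subgroup G) = 18 ∨ Nat.card (N ⊓ M : Subgroup G) = 36 := by
    have hle := Nat.le_of_dvd (by norm_num) hd
    have hpos := Nat.card_pos (α := (N ⊓ M : Subgroup G))
    obtain ⟨c, hc⟩ := h9
    rw [hc] at hd hle hpos ⊢
    have : c ≤ 4 := by omega
    interval_cases c <;> omega
  rw [← hk] at hcases
  obtain ⟨-, h36, h9'⟩ := simple_small hMc h' (T.subtype hTM) (Sylow.coe_subtype T hTM).symm hcases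
  rw [hk, ← hNdef] at h36
  have hNM : N ≤ M := by
    have := Subgroup.eq_of_le_of_card_ge (inf_le_left : N ⊓ M ≤ N) (by rw [h36, hN36])
    exact this ▸ inf_le_right
  -- two involutions of the automiser
  haveI := hK
  haveI := Fintype.ofFinite (N ⧸ (T : Subgroup G).subgroupOf N)
  have hQ4 : Fintype.card (N ⧸ (T : Subgroup G).subgroupOf N) = 4 := by
    rw [← Nat.card_eq_fintype_card, hK.card_four]
  obtain ⟨a, ha⟩ := Fintype.exists_ne_of_one_lt_card (by omega) (1 : N ⧸ (T : Subgroup G).subgroupOf N)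
  obtain ⟨b, hb⟩ := Finset.exists_mem_notMem_of_card_lt_card (s := ({1, a} : Finset (N ⧸ (T : Subgroup G).subgroupOf N)))
    (t := Finset.univ) (by rw [Finset.card_univ, hQ4]; exact lt_of_le_of_lt Finset.card_le_two (by norm_num))
  simp only [Finset.mem_insert, Finset.mem_singleton, Finset.mem_univ, true_and, not_or] at hb
  have hsq : ∀ x : N ⧸ (T : Subgroup G).subgroupOf N, x * x = 1 := fun x => IsKleinFour.mul_self x
  obtain ⟨t, rfl⟩ := QuotientGroup.mk_surjective a
  obtain ⟨t', rfl⟩ := QuotientGroup.mk_surjective b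
  have e1 : (t : G) * t ∈ (T : Subgroup G) := by
    have := hsq (t : N ⧸ (T : Subgroup G).subgroupOf N)
    rw [← QuotientGroup.mk_mul, QuotientGroup.eq_one_iff] at this
    exact this
  have e2 : (t' : G) * t' ∈ (T : Subgroup G) := by
    have := hsq (t' : N ⧸ (T : Subgroup G).subgroupOf N)
    rw [← QuotientGroup.mk_mul, QuotientGroup.eq_one_iff] at this
    exact this
  obtain ⟨u, hu, hu1, hCu⟩ := exists_eighteen h t.2 t'.2 e1 e2
    (fun hm => ha ((QuotientGroup.eq_one_iff t).2 hm)) (fun hm => hb.1 ((QuotientGroup.eq_one_iff t').2 hm))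
    (fun hm => hb.2 ((QuotientGroup.eq (s := (T : Subgroup G).subgroupOf N) (a := t) (b := t')).2 hm).symm)
  have e9 := h9' ⟨u, hTM hu⟩ hu (fun e => hu1 (congrArg Subtype.val e))
  rw [card_centralizer_subgroupOf h hNM ⟨u, hTM hu⟩ hu (fun e => hu1 (congrArg Subtype.val e)), hCu] at e9
  norm_num at e9

end Cfsg.Agent.S3805
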