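import Cfsg.Statements.S4757
import Cfsg.Agent.Lib.CharKernel
import Cfsg.Agent.Lib.HallCore

set_option autoImplicit false
open Cfsg

namespace Cfsg.Agent.S4757

open scoped ComplexConjugate
open Cfsg.Agent.CharBasic Cfsg.Agent.CharBasicOrth Cfsg.Agent.CharBasicDecomp
open Cfsg.Agent.CharBasicLinear Cfsg.Agent.CharAverage

variable {G : Type*} [Group G] [Finite G]

theorem not_perfect_iff :
    commutator G ≠ ⊤ ↔ ∃ χ : Cfsg.IrrCharacter G, χ ≠ trivIrr G ∧ (χ : G → ℂ) 1 = 1 := by
  constructor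
  · intro h
    have : 1 < (commutator G).index := Subgroup.one_lt_index_of_ne_top h
    rw [← card_linear, Finite.one_lt_card_iff_nontrivial] at this
    obtain ⟨a, ha⟩ := exists_ne (⟨trivIrr G, rfl⟩ : {χ : Cfsg.IrrCharacter G // (χ : G → ℂ) 1 = 1})
    exact ⟨a.1, fun e => ha (Subtype.ext e), a.2⟩
  · rintro ⟨χ, hne, h1⟩ htop
    obtain ⟨lam, hlam⟩ := exists_hom_of_apply_one_eq_one (irr_isCharacter χ) h1
    refine hne (Subtype.ext (funext fun g => ?_))
    have : g ∈ lam.ker := Abelianization.commutator_subset_ker lam (by rw [htop]; exact Subgroup.mem_top g)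
    rw [hlam]
    simp [trivIrr, MonoidHom.mem_ker.1 this]

theorem main_facts (u : G) (hu : u ≠ 1) (c : ℂ)
    (hyp : ∀ χ : Cfsg.IrrCharacter G, (χ : G → ℂ) ≠ (fun _ => (1 : ℂ)) →
      ((χ : G → ℂ) 1 - (χ : G → ℂ) u = c ∨ (χ : G → ℂ) u = 0))
    (hG : commutator G ≠ ⊤) :
    c = 2 ∧ orderOf u = 2 ∧ Subgroup.zpowers u ⊔ Cfsg.oddCore G = ⊤ ∧
      Subgroup.centralizer ({u} : Set G) = Subgroup.zpowers u := by
  classical
  have := Fintype.ofFinite G
  have hyp' : ∀ χ : Cfsg.IrrCharacter G, χ ≠ trivIrr G →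
      ((χ : G → ℂ) 1 - (χ : G → ℂ) u = c ∨ (χ : G → ℂ) u = 0) :=
    fun χ h => hyp χ fun e => h (Subtype.ext e)
  have hcol := sum_irr_mul_conj u 1
  rw [if_neg (fun e => hu (isConj_one_left.1 e))] at hcol
  -- values of nonprincipal linear characters
  have hlin : ∀ lam : G →* ℂˣ, lam ≠ 1 → (lam u : ℂ) = 1 - c := by
    intro lam hlam
    have hne : (⟨_, isIrrCharacter_linear lam⟩ : Cfsg.IrrCharacter G) ≠ trivIrr G := fun e => by
      refine hlam (MonoidHom.ext fun g => Units.ext ?_)
      exact congrArg (fun z : Cfsg.IrrCharacter G => (z : G → ℂ) g) e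
    rcases hyp' _ hne with h | h
    · simp only [map_one, Units.val_one] at h
      linear_combination -h
    · exact absurd h (Units.ne_zero _)
  obtain ⟨χ₁, hχ₁, hχ₁'⟩ := not_perfect_iff.1 hG
  obtain ⟨lam₁, hlam₁⟩ := exists_hom_of_apply_one_eq_one (irr_isCharacter χ₁) hχ₁'
  have hlam₁' : lam₁ ≠ 1 := fun e => hχ₁ (Subtype.ext (by rw [hlam₁, e]; rfl))
  have hc0 : c ≠ 0 := by
    intro h0
    have hr : ∀ χ : Cfsg.IrrCharacter G, 0 ≤ ((χ : G → ℂ) u * conj ((χ : G → ℂ) 1)).re := by
      intro χ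
      by_cases he : χ = trivIrr G
      · simp [he, trivIrr]
      · rcases hyp' χ he with h | h
        · rw [h0, sub_eq_zero] at h
          rw [← h, irr_apply_one χ, Complex.conj_natCast, ← Nat.cast_mul, Complex.natCast_re]
          positivity
        · simp [h]
    have h1 := congrArg Complex.re hcol
    rw [Complex.re_sum, Complex.zero_re, ← Finset.add_sum_erase _ _ (Finset.mem_univ (trivIrr G))] at h1
    have h2 : ((trivIrr G : G → ℂ) u * conj ((trivIrr G : G → ℂ) 1)).re = 1 := by simp [trivIrr]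
    have h3 := Finset.sum_nonneg (s := Finset.univ.erase (trivIrr G)) fun χ _ => hr χ
    rw [h2] at h1
    linarith
  have hpair : ∀ a b : G →* ℂˣ, a ≠ 1 → b ≠ 1 → a * b = 1 := by
    intro a b ha hb
    by_contra hab
    have h1 := hlin _ hab
    rw [MonoidHom.mul_apply, Units.val_mul, hlin a ha, hlin b hb] at h1
    have h2 : (1 - c) ≠ 0 := hlin a ha ▸ Units.ne_zero _
    exact hc0 (by
      have h3 := mul_left_cancel₀ h2 (h1.trans (mul_one _).symm)
      linear_combination -h3)
  have hc : c = 2 := by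
    have h1 : (lam₁ u : ℂ) * (lam₁ u : ℂ) = 1 := by
      rw [← Units.val_mul, ← MonoidHom.mul_apply, hpair _ _ hlam₁' hlam₁']; rfl
    rw [hlin _ hlam₁'] at h1
    have : c * (c - 2) = 0 := by linear_combination h1
    exact sub_eq_zero.1 ((mul_eq_zero.1 this).resolve_left hc0)
  have hidx : (commutator G).index = 2 := by
    rw [← card_hom_units]
    have hall : ∀ a : G →* ℂˣ, a = 1 ∨ a = lam₁ := fun a => or_iff_not_imp_left.2 fun ha => by
      have := hpair a lam₁ ha hlam₁'
      rw [← hpair lam₁ lam₁ hlam₁' hlam₁'] at this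
      exact mul_right_cancel this
    have := Fintype.ofFinite (G →* ℂˣ)
    rw [Nat.card_eq_fintype_card, ← Finset.card_univ,
      show (Finset.univ : Finset (G →* ℂˣ)) = {1, lam₁} by ext a; simpa using hall a,
      Finset.card_pair (Ne.symm hlam₁')]
  -- nonlinear characters vanish at `u`
  let χl : Cfsg.IrrCharacter G := χ₁
  have hχlu : (χl : G → ℂ) u = -1 := by
    show (χ₁ : G → ℂ) u = -1
    rw [hlam₁]; simp only [hlin _ hlam₁', hc]; norm_num
  have honly : ∀ χ : Cfsg.IrrCharacter G, (χ : G → ℂ) 1 = 1 → χ = trivIrr G ∨ χ = χl := by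
    intro χ h
    obtain ⟨a, ha⟩ := exists_hom_of_apply_one_eq_one (irr_isCharacter χ) h
    by_cases h1 : a = 1
    · left; exact Subtype.ext (by rw [ha, h1]; rfl)
    · right
      refine Subtype.ext ?_
      show (χ : G → ℂ) = (χ₁ : G → ℂ)
      have h2 := hpair a lam₁ h1 hlam₁'
      rw [← hpair lam₁ lam₁ hlam₁' hlam₁'] at h2
      rw [ha, hlam₁, mul_right_cancel h2]
  have hvan : ∀ χ : Cfsg.IrrCharacter G, χ ≠ trivIrr G → χ ≠ χl → (χ : G → ℂ) u = 0 := by
    have hnn : ∀ χ ∈ (Finset.univ.erase (trivIrr G)).erase χl,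
        0 ≤ ((χ : G → ℂ) u * conj ((χ : G → ℂ) 1)).re ∧
          (((χ : G → ℂ) u * conj ((χ : G → ℂ) 1)).re = 0 → (χ : G → ℂ) u = 0) := by
      intro χ hχ
      simp only [Finset.mem_erase] at hχ
      have hd : 2 ≤ Cfsg.charDegree (χ : G → ℂ) := by
        have := irr_degree_pos χ
        by_contra hlt
        have h1 : Cfsg.charDegree (χ : G → ℂ) = 1 := by omega
        rcases honly χ (by rw [irr_apply_one χ, h1, Nat.cast_one]) with e | e
        · exact hχ.2.1 e
        · exact hχ.1 e
      rcases hyp' χ hχ.2.1 with h | h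
      · have hv : (χ : G → ℂ) u = (((Cfsg.charDegree (χ : G → ℂ) : ℝ) - 2 : ℝ) : ℂ) := by
          rw [hc, irr_apply_one χ] at h
          push_cast
          linear_combination -h
        have hd' : (2 : ℝ) ≤ (Cfsg.charDegree (χ : G → ℂ) : ℝ) := by exact_mod_cast hd
        rw [hv, irr_apply_one χ, Complex.conj_natCast,
          ← Complex.ofReal_natCast, ← Complex.ofReal_mul, Complex.ofReal_re]
        refine ⟨mul_nonneg (by linarith) (by linarith), fun h0 => ?_⟩
        rcases mul_eq_zero.1 h0 with h1 | h1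
        · rw [h1, Complex.ofReal_zero]
        · linarith
      · simp [h]
    intro χ h1 h2
    have hs := congrArg Complex.re hcol
    rw [Complex.re_sum, Complex.zero_re,
      ← Finset.add_sum_erase _ _ (Finset.mem_univ (trivIrr G)),
      ← Finset.add_sum_erase _ _ (show χl ∈ Finset.univ.erase (trivIrr G) from
        Finset.mem_erase.2 ⟨hχ₁, Finset.mem_univ _⟩)] at hs
    have e1 : ((trivIrr G : G → ℂ) u * conj ((trivIrr G : G → ℂ) 1)).re = 1 := by simp [trivIrr]
    have e2 : ((χl : G → ℂ) u * conj ((χl : G → ℂ) 1)).re = -1 := by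
      rw [hχlu, show (χl : G → ℂ) 1 = 1 from hχ₁']; simp
    rw [e1, e2] at hs
    have h0 := (Finset.sum_eq_zero_iff_of_nonneg fun χ hχ => (hnn χ hχ).1).1 (by linarith) χ
      (Finset.mem_erase.2 ⟨h2, Finset.mem_erase.2 ⟨h1, Finset.mem_univ _⟩⟩)
    exact (hnn χ (Finset.mem_erase.2 ⟨h2, Finset.mem_erase.2 ⟨h1, Finset.mem_univ _⟩⟩)).2 h0
  have hC : Nat.card (Subgroup.centralizer ({u} : Set G)) = 2 := by
    apply Nat.cast_injective (R := ℂ)
    have h := sum_irr_mul_conj u u
    rw [if_pos (IsConj.refl u)] at h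
    rw [← h, ← Finset.sum_subset (Finset.subset_univ {trivIrr G, χl}) (fun χ _ hχ => by
        simp only [Finset.mem_insert, Finset.mem_singleton, not_or] at hχ
        simp [hvan χ hχ.1 hχ.2]),
      Finset.sum_pair (fun e => hχ₁ e.symm), hχlu]
    simp [trivIrr]
    norm_num
  have hmem : u ∈ Subgroup.centralizer ({u} : Set G) := Subgroup.mem_centralizer_singleton_iff.2 rfl
  have hord : orderOf u = 2 := by
    have h1 : orderOf (⟨u, hmem⟩ : Subgroup.centralizer ({u} : Set G)) ∣ 2 :=
      hC ▸ orderOf_dvd_natCard _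
    rw [Subgroup.orderOf_mk] at h1
    rcases (Nat.dvd_prime Nat.prime_two).1 h1 with h | h
    · exact absurd (orderOf_eq_one_iff.1 h) hu
    · exact h
  have hzp : Subgroup.centralizer ({u} : Set G) = Subgroup.zpowers u :=
    (Subgroup.eq_of_le_of_card_ge (Subgroup.zpowers_le.2 hmem)
      (by rw [hC, Nat.card_zpowers, hord])).symm
  -- `|G|` is twice an odd number
  have hodd : ¬ 4 ∣ Nat.card G := by
    intro h4
    haveI : Fact (Nat.Prime 2) := ⟨Nat.prime_two⟩
    obtain ⟨P, hP⟩ := (IsPGroup.of_card (p := 2) (n := 1)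
      (show Nat.card (Subgroup.zpowers u) = 2 ^ 1 by rw [Nat.card_zpowers, hord, pow_one])).exists_le_sylow
    have huP : u ∈ (P : Subgroup G) := hP (Subgroup.mem_zpowers u)
    have hcard : 4 ∣ Nat.card (P : Subgroup G) := by
      have : 2 ^ 2 ∣ Nat.card G := h4
      simpa using P.pow_dvd_card_of_pow_dvd_card this
    have hnt : Nontrivial (P : Subgroup G) := ⟨⟨⟨u, huP⟩, 1, fun e => hu (congrArg Subtype.val e)⟩⟩
    obtain ⟨z, hz, hz1⟩ := (Subgroup.nontrivial_iff_exists_ne_one _).1 (IsPGroup.center_nontrivial P.2)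
    have hzu : (z : G) ∈ Subgroup.zpowers u := by
      rw [← hzp, Subgroup.mem_centralizer_singleton_iff]
      exact (congrArg Subtype.val (Subgroup.mem_center_iff.1 hz ⟨u, huP⟩)).symm
    have hu2 : u ^ 2 = 1 := hord ▸ pow_orderOf_eq_one u
    have hzu' : (z : G) = u := by
      obtain ⟨k, hk⟩ := hzu
      have hk' : u ^ k = (z : G) := hk
      rcases Int.even_or_odd k with ⟨m, rfl⟩ | ⟨m, rfl⟩
      · exfalso
        refine hz1 (Subtype.ext ?_)
        rw [← hk', show m + m = (2 : ℤ) * m by ring, zpow_mul, zpow_ofNat, hu2, one_zpow]; rfl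
      · rw [← hk', zpow_add, zpow_mul, zpow_ofNat, hu2, one_zpow, one_mul, zpow_one]
    have hle : (P : Subgroup G) ≤ Subgroup.centralizer ({u} : Set G) := by
      intro w hw
      rw [Subgroup.mem_centralizer_singleton_iff, ← hzu']
      exact congrArg Subtype.val (Subgroup.mem_center_iff.1 hz ⟨w, hw⟩)
    have := Subgroup.card_dvd_of_le hle
    rw [hC] at this
    exact absurd (hcard.trans this) (by norm_num)
  have hcomm : commutator G ≤ Cfsg.oddCore G := by
    refine Cfsg.Agent.HallCore.le_pPrimeCore ((Nat.prime_two.coprime_iff_not_dvd.2 ?_).symm)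
    intro h
    exact hodd (by
      rw [← Subgroup.card_mul_index (commutator G), hidx, show 4 = 2 * 2 from rfl]
      exact mul_dvd_mul_right h 2)
  have hunot : u ∉ commutator G := fun h => by
    have : lam₁ u = 1 := MonoidHom.mem_ker.1 (Abelianization.commutator_subset_ker lam₁ h)
    have h2 := hlin _ hlam₁'
    rw [this, hc] at h2
    norm_num at h2
  refine ⟨hc, hord, ?_, hzp⟩
  by_contra hne
  have h1 : commutator G ≤ Subgroup.zpowers u ⊔ Cfsg.oddCore G := hcomm.trans le_sup_right
  have h2 := Subgroup.index_dvd_of_le h1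
  rw [hidx] at h2
  rcases (Nat.dvd_prime Nat.prime_two).1 h2 with h | h
  · exact hne (Subgroup.index_eq_one.1 h)
  · have h3 : commutator G = Subgroup.zpowers u ⊔ Cfsg.oddCore G :=
      Subgroup.eq_of_le_of_card_ge h1 (le_of_eq (by
        have a := Subgroup.card_mul_index (commutator G)
        have b := Subgroup.card_mul_index (Subgroup.zpowers u ⊔ Cfsg.oddCore G)
        rw [hidx] at a; rw [h] at b
        omega))
    exact hunot (h3 ▸ Subgroup.mem_sup_left (Subgroup.mem_zpowers u))


/-- Let u ≠ 1 be an element of the finite group G and c a complex number such that every non-principal irreducible character χ satisfies χ(1) − χ(u) = c or χ(u) = 0. Then the following are equivalent: (a) u has order 2, G is generated by u together with O(G), the largest normal subgroup of G of odd order, and the centralizer of u is {1, u}; (b) G is not perfect; (c) c = 2. -/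
theorem result {G : Type*} [Group G] [Finite G] (u : G) (hu : u ≠ 1) (c : ℂ) (hyp : ∀ χ : Cfsg.IrrCharacter G, (χ : G → ℂ) ≠ (fun _ => (1 : ℂ)) → ((χ : G → ℂ) 1 - (χ : G → ℂ) u = c ∨ (χ : G → ℂ) u = 0)) : ((orderOf u = 2 ∧ Subgroup.zpowers u ⊔ Cfsg.oddCore G = ⊤ ∧ Subgroup.centralizer ({u} : Set G) = Subgroup.zpowers u) ↔ commutator G ≠ ⊤) ∧ (commutator G ≠ ⊤ ↔ c = 2) := by
  classical
  have := Fintype.ofFinite G
  refine ⟨⟨?_, fun h => (main_facts u hu c hyp h).2⟩, ⟨fun h => (main_facts u hu c hyp h).1, ?_⟩⟩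
  · rintro ⟨hord, hsup, -⟩ htop
    have h2G : 2 ∣ Nat.card G := hord ▸ orderOf_dvd_natCard u
    have hn : (Cfsg.oddCore G).Normal := Cfsg.Agent.HallCore.pPrimeCore_normal 2 G
    have hne : Cfsg.oddCore G ≠ ⊤ := fun e => by
      have := Cfsg.Agent.HallCore.coprime_card_pPrimeCore 2 G
      rw [show Cfsg.pPrimeCore 2 G = ⊤ from e, Subgroup.card_top] at this
      exact (Nat.prime_two.coprime_iff_not_dvd.1 this.symm) h2G
    refine hne (top_le_iff.1 ?_)
    rw [← htop, commutator_def, Subgroup.commutator_le]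
    intro a _ b _
    have hmem : ∀ g : G, ∃ k : ℤ, (QuotientGroup.mk' (Cfsg.oddCore G) u) ^ k =
        QuotientGroup.mk' (Cfsg.oddCore G) g := by
      intro g
      have hg : g ∈ Subgroup.zpowers u ⊔ Cfsg.oddCore G := hsup ▸ Subgroup.mem_top g
      rw [← SetLike.mem_coe, Subgroup.mul_normal, Set.mem_mul] at hg
      obtain ⟨y, hy, z, hz, rfl⟩ := hg
      obtain ⟨k, rfl⟩ := hy
      refine ⟨k, ?_⟩
      rw [map_mul, map_zpow, (QuotientGroup.eq_one_iff z).2 hz |> fun h =>
        (show QuotientGroup.mk' (Cfsg.oddCore G) z = 1 from h), mul_one]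
    obtain ⟨i, hi⟩ := hmem a
    obtain ⟨j, hj⟩ := hmem b
    rw [← QuotientGroup.eq_one_iff, ← QuotientGroup.mk'_apply, map_commutatorElement, ← hi, ← hj,
      commutatorElement_eq_one_iff_mul_comm]
    exact zpow_mul_comm _ _ _
  · intro hc htop
    have hcol := sum_irr_mul_conj u 1
    rw [if_neg (fun e => hu (isConj_one_left.1 e))] at hcol
    have hr : ∀ χ ∈ Finset.univ.erase (trivIrr G),
        0 ≤ ((χ : G → ℂ) u * conj ((χ : G → ℂ) 1)).re := by
      intro χ hχ
      rcases hyp χ (fun e => (Finset.mem_erase.1 hχ).1 (Subtype.ext e)) with h | h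
      · have hd : 2 ≤ Cfsg.charDegree (χ : G → ℂ) := by
          have := irr_degree_pos χ
          by_contra hlt
          exact (not_perfect_iff.2 ⟨χ, (Finset.mem_erase.1 hχ).1, by
            rw [irr_apply_one χ, show Cfsg.charDegree (χ : G → ℂ) = 1 by omega, Nat.cast_one]⟩) htop
        have hv : (χ : G → ℂ) u = (((Cfsg.charDegree (χ : G → ℂ) : ℝ) - 2 : ℝ) : ℂ) := by
          rw [hc, irr_apply_one χ] at h
          push_cast
          linear_combination -h
        have hd' : (2 : ℝ) ≤ (Cfsg.charDegree (χ : G → ℂ) : ℝ) := by exact_mod_cast hd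
        rw [hv, irr_apply_one χ, Complex.conj_natCast,
          ← Complex.ofReal_natCast, ← Complex.ofReal_mul, Complex.ofReal_re]
        exact mul_nonneg (by linarith) (by linarith)
      · simp [h]
    have hs := congrArg Complex.re hcol
    rw [Complex.re_sum, Complex.zero_re,
      ← Finset.add_sum_erase _ _ (Finset.mem_univ (trivIrr G))] at hs
    have e1 : ((trivIrr G : G → ℂ) u * conj ((trivIrr G : G → ℂ) 1)).re = 1 := by simp [trivIrr]
    have h3 := Finset.sum_nonneg hr
    rw [e1] at hs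
    linarith

end Cfsg.Agent.S4757
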