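import Cfsg.Statements.S2278
import Cfsg.Agent.Lib.RegUnipGen
import Cfsg.Agent.Lib.QuadraticOdd

set_option autoImplicit false
open Cfsg

namespace Cfsg.Agent.S2278


open Matrix RegUnipGen

section
variable {F : Type*} [Field F] [Fintype F]

theorem axis_top {m : ℕ} {H : Subgroup (Matrix.SpecialLinearGroup (Fin (m + 1)) F)} (hm : 1 ≤ m)
    {u : Matrix.SpecialLinearGroup (Fin (m + 1)) F}
    (huv : (u : Matrix (Fin (m + 1)) (Fin (m + 1)) F) = upper m F) (hu : u ∈ H)
    (h0 : Axis H (Pi.single 0 1)) : H = ⊤ := by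
  haveI : Nontrivial (Fin (m + 1)) := Fin.nontrivial_iff_two_le.mpr (by omega)
  refine eq_top_of_axis fun j => ?_
  induction j using Fin.induction with
  | zero => exact h0
  | succ l ih =>
    have h1 := ih.mul hu
    have hrow : (Pi.single l.castSucc 1 : Fin (m + 1) → F) ᵥ* upper m F = Pi.single l.castSucc 1 + Pi.single l.succ 1 := by
      ext r
      rw [Matrix.single_one_vecMul]
      simp [upper, shiftUp, Matrix.one_apply, Pi.single_apply, Fin.ext_iff, eq_comm]
    rw [huv, hrow] at h1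
    have hne : l.castSucc ≠ l.succ := fun h => by have := congrArg Fin.val h; simp at this
    obtain ⟨M, hM, hM'⟩ := ih (-Pi.single l.succ 1) (by simp [hne, hne.symm])
    have h2 := h1.mul hM
    rw [hM', T, Matrix.vecMul_add, Matrix.vecMul_one, vecMul_vecMulVec] at h2
    convert h2 using 1
    simp [hne, hne.symm]

/-- a subring of a finite field is closed under inverses -/
theorem inv_mem_subring (K : Subring F) : ∀ a ∈ K, a⁻¹ ∈ K := by
  intro a ha
  rcases eq_or_ne a 0 with rfl | ha0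
  · simpa using K.zero_mem
  rw [inv_eq_of_mul_eq_one_right (show a * a ^ (Fintype.card F - 2) = 1 by
    rw [← pow_succ', show Fintype.card F - 2 + 1 = Fintype.card F - 1 by
      have := Fintype.one_lt_card (α := F); omega, FiniteField.pow_card_sub_one_eq_one a ha0])]
  exact K.pow_mem ha _

/-- the cube of a generator generates the field unless it has four elements -/
theorem subring_cube (h4 : Fintype.card F ≠ 4) (g : Fˣ) (hg : ∀ y : Fˣ, y ∈ Subgroup.zpowers g)
    (K : Subring F) (hK : (g : F) ^ 3 ∈ K) : ∀ x : F, x ∈ K := by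
  classical
  let S : Subfield F := { K with inv_mem' := fun a ha => inv_mem_subring K a ha }
  haveI : Finite S := inferInstance
  have hq : Nat.card F = Nat.card S ^ Module.finrank S F := Module.natCard_eq_pow_finrank
  have hS2 : 2 ≤ Nat.card S := Finite.one_lt_card
  rcases Nat.lt_or_ge (Module.finrank S F) 2 with h | h
  · have h1 : Module.finrank S F = 1 := by
      have := Module.finrank_pos (R := S) (M := F); omega
    intro x
    by_contra hx
    have hlt : Nat.card S < Nat.card F := by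
      rw [Nat.card_eq_fintype_card (α := F), Nat.card_eq_fintype_card]
      exact Fintype.card_subtype_lt (x := x) hx
    rw [h1, pow_one] at hq
    omega
  exfalso
  set g3 : Sˣ := Units.mk0 ⟨(g : F) ^ 3, hK⟩ (fun h => pow_ne_zero 3 g.ne_zero (congrArg Subtype.val h))
  have hord : orderOf g = Nat.card F - 1 := by
    rw [orderOf_eq_card_of_forall_mem_zpowers hg, Nat.card_units]
  have h1 : orderOf g ∣ 3 * (Nat.card S - 1) := by
    apply orderOf_dvd_of_pow_eq_one
    apply Units.ext
    have hh : g3 ^ (Nat.card S - 1) = 1 := by rw [← Nat.card_units]; exact pow_card_eq_one'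
    have := congrArg (fun z : Sˣ => (((z : S)) : F)) hh
    rw [pow_mul, Units.val_pow_eq_pow_val, Units.val_pow_eq_pow_val]
    simpa [g3] using this
  have hle := Nat.le_of_dvd (by omega) h1
  have h2 : Nat.card S ^ 2 ≤ Nat.card F := hq ▸ Nat.pow_le_pow_right (by omega) h
  rw [hord] at hle
  have : Nat.card S ≤ 2 := by
    by_contra h3
    have : 3 * Nat.card S ≤ Nat.card S ^ 2 := by rw [sq]; exact Nat.mul_le_mul_right _ (by omega)
    omega
  have hS : Nat.card S = 2 := by omega
  rw [hS] at hle hq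
  have : Module.finrank S F = 2 := by
    by_contra h3
    have : 2 ^ 3 ≤ 2 ^ Module.finrank S F := Nat.pow_le_pow_right (by norm_num) (by omega)
    omega
  rw [this] at hq
  exact h4 (by rw [← Nat.card_eq_fintype_card, hq]; norm_num)

/-- The conclusion of the statement. -/
def Goal (F : Type*) [Field F] : Prop :=
  ∃ u g : Matrix.SpecialLinearGroup (Fin 3) F, IsNilpotent ((u : Matrix (Fin 3) (Fin 3) F) - 1) ∧
    ((u : Matrix (Fin 3) (Fin 3) F) - 1) ^ (3 - 1) ≠ 0 ∧
    Subgroup.closure ({u, g * u * g⁻¹} : Set (Matrix.SpecialLinearGroup (Fin 3) F)) = ⊤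

def U (F : Type*) [Field F] : Matrix.SpecialLinearGroup (Fin 3) F := ⟨upper 2 F, upper_det⟩

theorem goal_of (g : Matrix.SpecialLinearGroup (Fin 3) F)
    (h : ∀ H : Subgroup (Matrix.SpecialLinearGroup (Fin 3) F), U F ∈ H → g * U F * g⁻¹ ∈ H →
      Axis H (Pi.single 0 1)) : Goal F := by
  refine ⟨U F, g, upper_nilpotent, upper_regular, ?_⟩
  exact axis_top (m := 2) (u := U F) (by omega) rfl (Subgroup.subset_closure (by simp))
    (h _ (Subgroup.subset_closure (by simp)) (Subgroup.subset_closure (by simp)))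

theorem congrT {v v' f f' : Fin 3 → F} {H : Subgroup (Matrix.SpecialLinearGroup (Fin 3) F)}
    (h : InH H (T v f)) (ev : v = v') (ef : f = f') : InH H (T v' f') := ev ▸ ef ▸ h

theorem axisCongr {f f' : Fin 3 → F} {H : Subgroup (Matrix.SpecialLinearGroup (Fin 3) F)}
    (h : Axis H f) (e : f = f') : Axis H f' := e ▸ h

theorem vec3Ext {f g : Fin 3 → F} (h0 : f 0 = g 0) (h1 : f 1 = g 1) (h2 : f 2 = g 2) : f = g :=
  funext (Fin.forall_fin_succ.mpr ⟨h0, Fin.forall_fin_two.mpr ⟨h1, h2⟩⟩)

theorem vec3ExtRows {A B : Matrix (Fin 3) (Fin 3) F} (h0 : A 0 = B 0) (h1 : A 1 = B 1) (h2 : A 2 = B 2) : A = B :=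
  funext (Fin.forall_fin_succ.mpr ⟨h0, Fin.forall_fin_two.mpr ⟨h1, h2⟩⟩)

theorem mat3Ext {A B : Matrix (Fin 3) (Fin 3) F} (h00 : A 0 0 = B 0 0) (h01 : A 0 1 = B 0 1) (h02 : A 0 2 = B 0 2)
    (h10 : A 1 0 = B 1 0) (h11 : A 1 1 = B 1 1) (h12 : A 1 2 = B 1 2)
    (h20 : A 2 0 = B 2 0) (h21 : A 2 1 = B 2 1) (h22 : A 2 2 = B 2 2) : A = B :=
  vec3ExtRows (vec3Ext h00 h01 h02) (vec3Ext h10 h11 h12) (vec3Ext h20 h21 h22)

theorem mat2Ext {A B : Matrix (Fin 2) (Fin 2) F} (h00 : A 0 0 = B 0 0) (h01 : A 0 1 = B 0 1)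
    (h10 : A 1 0 = B 1 0) (h11 : A 1 1 = B 1 1) : A = B := by
  ext i j
  fin_cases i <;> fin_cases j <;> assumption

theorem upper3 : upper 2 F = !![1, 1, 0; 0, 1, 1; 0, 0, 1] := by
  ext i j
  fin_cases i <;> fin_cases j <;> simp [upper, shiftUp]

theorem T3 (v f : Fin 3 → F) : T v f = !![1 + v 0 * f 0, v 0 * f 1, v 0 * f 2;
    v 1 * f 0, 1 + v 1 * f 1, v 1 * f 2; v 2 * f 0, v 2 * f 1, 1 + v 2 * f 2] := by
  ext i j
  fin_cases i <;> fin_cases j <;> simp [T, vecMulVec_apply]

/-- matrices fixing the first basis vector -/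
def fixFirst (F : Type*) [Field F] [Fintype F] : Subgroup (Matrix.SpecialLinearGroup (Fin 3) F) where
  carrier := {g | g 0 0 = 1 ∧ g 1 0 = 0 ∧ g 2 0 = 0}
  one_mem' := by simp
  mul_mem' := by
    rintro a b ⟨a1, a2, a3⟩ ⟨b1, b2, b3⟩
    simp [Matrix.mul_apply, Fin.sum_univ_three, a1, a2, a3, b1, b2, b3]
  inv_mem' := by
    intro a ha
    have hpow : ∀ k : ℕ, a ^ k ∈ {g : Matrix.SpecialLinearGroup (Fin 3) F | g 0 0 = 1 ∧ g 1 0 = 0 ∧ g 2 0 = 0} := by
      intro k
      induction k with
      | zero => simp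
      | succ k ih =>
        rw [pow_succ]
        generalize a ^ k = z at ih ⊢
        obtain ⟨a1, a2, a3⟩ := ih
        obtain ⟨b1, b2, b3⟩ := ha
        simp [Matrix.mul_apply, Fin.sum_univ_three, a1, a2, a3, b1, b2, b3]
    rw [show a⁻¹ = a ^ (orderOf a - 1) by
      rw [inv_eq_iff_mul_eq_one, ← pow_succ', Nat.sub_add_cancel (orderOf_pos a), pow_orderOf_eq_one]]
    exact hpow _

theorem dot3 (f v : Fin 3 → F) : f ⬝ᵥ v = f 0 * v 0 + f 1 * v 1 + f 2 * v 2 := by
  simp [dotProduct, Fin.sum_univ_three]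

theorem case_odd (h2 : (2 : F) ≠ 0) (p : ℕ) [Fact p.Prime] [CharP F p] (hp : p ≠ 2) : Goal F := by
  classical
  obtain ⟨g0, hg0⟩ := IsCyclic.exists_generator (α := Fˣ)
  set g : F := (g0 : F) with hgdef
  have hg : g ≠ 0 := g0.ne_zero
  set t : F := g ^ 3 with htdef
  have ht : t ≠ 0 := pow_ne_zero _ hg
  let G : Matrix.SpecialLinearGroup (Fin 3) F :=
    ⟨!![2 / g ^ 2, 0, -1 / g ^ 2; g, 0, 0; 0, -g, 0], by simp [Matrix.det_fin_three]; field_simp⟩
  refine goal_of G fun H hu hv => ?_
  let M1 : Matrix (Fin 3) (Fin 3) F := !![1, 0, -2 / t; 0, 1, -1; t, -2, 1]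
  let M2 : Matrix (Fin 3) (Fin 3) F := !![-1, 4 / t, 0; 0, 1, 0; 0, t, -1]
  have hvM : ((G * U F * G⁻¹ : Matrix.SpecialLinearGroup (Fin 3) F) : Matrix (Fin 3) (Fin 3) F) = M1 := by
    have e : (G : Matrix (Fin 3) (Fin 3) F) * (U F : Matrix.SpecialLinearGroup (Fin 3) F) = M1 * G := by
      show _ * upper 2 F = _
      rw [upper3]
      simp only [G, M1, htdef]
      apply mat3Ext <;> simp [Matrix.mul_apply, Fin.sum_univ_three] <;> field_simp <;> ring
    rw [Matrix.SpecialLinearGroup.coe_mul, Matrix.SpecialLinearGroup.coe_mul, e, Matrix.mul_assoc,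
      coe_mul_inv, Matrix.mul_one]
  set v := G * U F * G⁻¹ with hvdef
  set u := U F with hudef
  have huM : (u : Matrix (Fin 3) (Fin 3) F) = !![1, 1, 0; 0, 1, 1; 0, 0, 1] := upper3
  set h := v * u * v * u with hhdef
  have hhH : h ∈ H := H.mul_mem (H.mul_mem (H.mul_mem hv hu) hv) hu
  have hhM : (h : Matrix (Fin 3) (Fin 3) F) = M2 := by
    simp only [hhdef, Matrix.SpecialLinearGroup.coe_mul, hvM, huM, M1, M2]
    apply mat3Ext <;> simp [Matrix.mul_apply, Fin.sum_univ_three] <;> field_simp <;> ring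
  -- an element inducing -1 on the quotient
  let Q : Matrix (Fin 2) (Fin 2) F := !![1, t; 0, t ^ 2]
  let Qi : Matrix (Fin 2) (Fin 2) F := !![1, -1 / t; 0, 1 / t ^ 2]
  have hQ : Qi * Q = 1 := by
    apply mat2Ext <;> simp [Qi, Q] <;> field_simp <;> ring
  have hQ' : Q * Qi = 1 := by
    apply mat2Ext <;> simp [Qi, Q] <;> field_simp <;> ring
  let blk : Matrix.SpecialLinearGroup (Fin 3) F → Matrix (Fin 2) (Fin 2) F := fun x =>
    !![x 1 1, x 1 2; x 2 1, x 2 2]
  let φ : fixFirst F →* Matrix.SpecialLinearGroup (Fin 2) F :=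
    { toFun := fun x => ⟨Qi * blk x * Q, by
        rw [Matrix.det_mul, Matrix.det_mul, mul_comm, ← mul_assoc, ← Matrix.det_mul, hQ', Matrix.det_one, one_mul]
        obtain ⟨x1, x2, x3⟩ := x.2
        have hd := (x : Matrix.SpecialLinearGroup (Fin 3) F).2
        rw [Matrix.det_fin_three, x1, x2, x3] at hd
        rw [Matrix.det_fin_two]
        simp only [blk, Matrix.of_apply, Matrix.cons_val', Matrix.cons_val_zero, Matrix.cons_val_one,
          Matrix.empty_val', Matrix.cons_val_fin_one]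
        linear_combination hd⟩
      map_one' := by
        apply Subtype.ext
        show Qi * blk 1 * Q = 1
        have : blk 1 = 1 := by apply mat2Ext <;> simp [blk]
        rw [this, Matrix.mul_one, hQ]
      map_mul' := fun x y => by
        apply Subtype.ext
        show Qi * blk ((x : Matrix.SpecialLinearGroup (Fin 3) F) * y) * Q = Qi * blk x * Q * (Qi * blk y * Q)
        have : blk ((x : Matrix.SpecialLinearGroup (Fin 3) F) * y) = blk x * blk y := by
          obtain ⟨y1, y2, y3⟩ := y.2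
          obtain ⟨x1, x2, x3⟩ := x.2
          apply mat2Ext <;>
            simp [blk, Matrix.mul_apply, Fin.sum_univ_three, Fin.sum_univ_two, x2, x3]
        rw [this]
        simp only [Matrix.mul_assoc]
        rw [← Matrix.mul_assoc Q Qi, hQ', Matrix.one_mul] }
  let Gs : Subgroup (Matrix.SpecialLinearGroup (Fin 2) F) := (H.subgroupOf (fixFirst F)).map φ
  have hu0 : u ∈ fixFirst F := by
    refine ⟨?_, ?_, ?_⟩ <;> simp [huM]
  have hhuh0 : h * u * h ∈ fixFirst F := by
    refine ⟨?_, ?_, ?_⟩ <;>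
      simp [Matrix.SpecialLinearGroup.coe_mul, hhM, huM, M2, Matrix.mul_apply, Fin.sum_univ_three]
  have hneg : (-1 : Matrix.SpecialLinearGroup (Fin 2) F) ∈ Gs := by
    by_contra hn
    refine QuadraticOdd.odd_false (p := p) hp Gs (a := φ ⟨u, hu0⟩) (b := φ ⟨h * u * h, hhuh0⟩) (c := t ^ 2)
      (pow_ne_zero _ ht) ?_ ?_ ⟨⟨u, hu0⟩, hu, rfl⟩
      ⟨⟨h * u * h, hhuh0⟩, H.mul_mem (H.mul_mem hhH hu) hhH, rfl⟩ ?_
    · show Qi * blk u * Q = _
      simp only [blk, huM, Qi, Q]
      apply mat2Ext <;> simp [Matrix.mul_apply, Fin.sum_univ_two] <;> field_simp <;> ring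
    · show Qi * blk (h * u * h) * Q = _
      simp only [blk, Matrix.SpecialLinearGroup.coe_mul, hhM, huM, Qi, Q, M2]
      apply mat2Ext <;>
        simp [Matrix.mul_apply, Fin.sum_univ_two, Fin.sum_univ_three] <;> field_simp <;> ring
    · rw [← Nat.not_even_iff_odd, even_iff_two_dvd]
      intro hd
      obtain ⟨x, hx⟩ := exists_prime_orderOf_dvd_card' 2 hd
      rcases QuadraticSL2.eq_of_sq_eq_one h2 (g := (x : Matrix.SpecialLinearGroup (Fin 2) F)) (by
        rw [← sq]
        have hh := pow_orderOf_eq_one x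
        rw [hx] at hh
        exact congrArg Subtype.val hh) with h1 | h1
      · rw [OneMemClass.coe_eq_one.mp h1, orderOf_one] at hx; omega
      · exact hn (h1 ▸ x.2)
  obtain ⟨⟨z, hz0⟩, hzH, hzφ⟩ := hneg
  have hzb : blk z = -1 := by
    have h1 : Qi * blk z * Q = -1 := congrArg Subtype.val hzφ
    calc blk z = (Q * Qi) * blk z * (Q * Qi) := by rw [hQ', Matrix.one_mul, Matrix.mul_one]
      _ = Q * (Qi * blk z * Q) * Qi := by simp only [Matrix.mul_assoc]
      _ = -1 := by rw [h1, Matrix.mul_neg, Matrix.mul_one, Matrix.neg_mul, hQ']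
  obtain ⟨z00, z10, z20⟩ := hz0
  have hzM : (z : Matrix (Fin 3) (Fin 3) F) = !![1, z 0 1, z 0 2; 0, -1, 0; 0, 0, -1] := by
    have e11 := congrFun (congrFun hzb 0) 0
    have e12 := congrFun (congrFun hzb 0) 1
    have e21 := congrFun (congrFun hzb 1) 0
    have e22 := congrFun (congrFun hzb 1) 1
    simp [blk] at e11 e12 e21 e22
    apply mat3Ext <;> simp [z00, z10, z20, e11, e12, e21, e22]
  set ρ : F := 2 - z 0 1 with hρ
  have hui : ((u⁻¹ : Matrix.SpecialLinearGroup (Fin 3) F) : Matrix (Fin 3) (Fin 3) F) = !![1, -1, 1; 0, 1, -1; 0, 0, 1] := by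
    refine left_inv_eq_right_inv (coe_inv_mul u) ?_
    rw [huM]
    apply mat3Ext <;> simp [Matrix.mul_apply, Fin.sum_univ_three]
  let e0 : Fin 3 → F := ![1, 0, 0]
  have hρm : InH H (T e0 ![0, -2, ρ]) := by
    refine ⟨z * u * z * u⁻¹, H.mul_mem (H.mul_mem (H.mul_mem hzH hu) hzH) (H.inv_mem hu), ?_⟩
    simp only [Matrix.SpecialLinearGroup.coe_mul, hui, huM, T3, e0]
    rw [hzM]
    apply mat3Ext <;> simp [Matrix.mul_apply, Fin.sum_univ_three, hρ] <;> ring
  -- additive: functionals at e0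
  let L : (Fin 3 → F) → Prop := fun f => InH H (T e0 f)
  have hLadd : ∀ f f', f 0 = 0 → f' 0 = 0 → L f → L f' → L (f + f') := by
    intro f f' h0 h0' hf hf'
    have := hf.mul hf'
    rwa [T_mul_T, show f ⬝ᵥ e0 = 0 by rw [dot3, h0]; simp [e0], zero_smul, add_zero, add_assoc, ← vecMulVec_add] at this
  have hLneg : ∀ f, f 0 = 0 → L f → L (-f) := by
    intro f h0 hf
    have := InH.neg hf (show f ⬝ᵥ e0 = 0 by rw [dot3, h0]; simp [e0])
    show InH H (T _ _)
    rwa [T, vecMulVec_neg, ← neg_vecMulVec]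
  have hLnat : ∀ (k : ℕ) f, f 0 = 0 → L f → L ((k : F) • f) := by
    intro k f h0 hf
    induction k with
    | zero => show InH H (T _ _); rw [Nat.cast_zero, zero_smul]; simp only [T, vecMulVec_zero, add_zero]; exact InH.one
    | succ k ih =>
      rw [Nat.cast_succ, add_smul, one_smul]
      exact hLadd _ _ (by simp [h0]) h0 ih hf
  obtain ⟨k, hk⟩ : ∃ k : ℕ, (k : F) * 2 = 1 := by
    refine ⟨(p + 1) / 2, ?_⟩
    have ho : p % 2 = 1 := (Fact.out : p.Prime).eq_two_or_odd.resolve_left hp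
    have : ((((p + 1) / 2 * 2 : ℕ)) : F) = ((p + 1 : ℕ) : F) := by congr 1; omega
    push_cast at this
    rw [this, CharP.cast_eq_zero, zero_add]
  have hL2 : L ![0, 0, 1] := by
    have h1 := InH.conj hρm hu
    have e : InH H (T e0 ![0, -2, ρ + 2]) := by
      refine congrT h1 ?_ ?_
      · rw [huM]; apply vec3Ext <;> simp [e0, Matrix.mulVec, dot3]
      · rw [hui]; apply vec3Ext <;> simp [Matrix.vecMul, dot3] <;> ring
    have h3 := hLnat k _ (by simp) (hLadd _ _ (by simp) (by simp) e (hLneg _ (by simp) hρm))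
    refine congrT h3 rfl ?_
    apply vec3Ext <;> simp [hk]
  have hhi : ((h⁻¹ : Matrix.SpecialLinearGroup (Fin 3) F) : Matrix (Fin 3) (Fin 3) F) = M2 := by
    refine left_inv_eq_right_inv (coe_inv_mul h) ?_
    rw [hhM]
    apply mat3Ext <;> simp [M2, Matrix.mul_apply, Fin.sum_univ_three] <;> field_simp <;> ring
  have hLh : ∀ a b : F, L ![0, a, b] → L (-![0, a + t * b, -b]) := by
    intro a b hf
    have h1 := InH.conj hf hhH
    rw [hhM, hhi] at h1
    have e1 : M2 *ᵥ e0 = -e0 := by
      apply vec3Ext <;> simp [M2, e0, Matrix.mulVec, dot3]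
    have e2 : ![0, a, b] ᵥ* M2 = ![0, a + t * b, -b] := by
      apply vec3Ext <;> simp [M2, Matrix.vecMul, dot3] <;> ring
    rw [e1, e2] at h1
    show InH H (T _ _)
    rwa [T, vecMulVec_neg, ← neg_vecMulVec]
  have hLu : ∀ a b : F, L ![0, a, b] → L ![0, a, b - a] := by
    intro a b hf
    have h1 := InH.conj hf hu
    refine congrT h1 ?_ ?_
    · rw [huM]; apply vec3Ext <;> simp [e0, Matrix.mulVec, dot3]
    · rw [hui]; apply vec3Ext <;> simp [Matrix.vecMul, dot3]; ring
  let P2 : F → Prop := fun x => L ![0, 0, x]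
  let P1 : F → Prop := fun x => L ![0, x, 0]
  have h21 : ∀ x, P2 x → P1 (t * x) := by
    intro x hx
    have h1 := hLh 0 x hx
    have h2 := hLneg _ (by simp) (hLadd _ _ (by simp) (by simp) h1 (hLneg _ (by simp) hx))
    show L _
    refine congrT h2 rfl ?_
    apply vec3Ext <;> simp
  have h12 : ∀ x, P1 x → P2 x := by
    intro x hx
    have h2 := hLneg _ (by simp) (hLadd _ _ (by simp) (by simp) (hLu x 0 hx) (hLneg _ (by simp) hx))
    show L _
    refine congrT h2 rfl ?_
    apply vec3Ext <;> simp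
  let K : Subring F :=
    { carrier := {c | ∀ x, P2 x → P2 (c * x)}
      one_mem' := fun x hx => by rwa [one_mul]
      mul_mem' := fun {a b} ha hb x hx => by rw [mul_assoc]; exact ha _ (hb x hx)
      zero_mem' := fun x hx => by
        have := hLadd _ _ (by simp) (by simp) hx (hLneg _ (by simp) hx)
        show L _
        rw [add_neg_cancel] at this
        refine congrT this rfl ?_
        apply vec3Ext <;> simp
      add_mem' := fun {a b} ha hb x hx => by
        have := hLadd _ _ (by simp) (by simp) (ha x hx) (hb x hx)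
        show L _
        refine congrT this rfl ?_
        apply vec3Ext <;> simp [add_mul]
      neg_mem' := fun {a} ha x hx => by
        have := hLneg _ (by simp) (ha x hx)
        show L _
        refine congrT this rfl ?_
        apply vec3Ext <;> simp }
  have h4 : Fintype.card F ≠ 4 := by
    intro h4
    have hd : p ∣ 4 := by
      rw [← CharP.cast_eq_zero_iff F p, ← h4]; exact Nat.cast_card_eq_zero F
    have hp2 := Nat.le_of_dvd (by norm_num) hd
    have := (Fact.out : p.Prime).two_le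
    interval_cases p
    · exact hp rfl
    · norm_num at hd
    · exact absurd (Fact.out : (4 : ℕ).Prime) (by norm_num)
  have hKall := subring_cube h4 g0 hg0 K (fun x hx => h12 _ (h21 x hx))
  have hP2 : ∀ x, P2 x := fun x => by
    have := hKall x 1 hL2
    rwa [mul_one] at this
  have hP1 : ∀ x, P1 x := fun x => by
    have := h21 (x / t) (hP2 _)
    rwa [mul_div_cancel₀ _ ht] at this
  have hLall : ∀ a b : F, L ![0, a, b] := by
    intro a b
    have := hLadd _ _ (by simp) (by simp) (hP1 a) (hP2 b)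
    refine congrT this rfl ?_
    apply vec3Ext <;> simp
  -- second centre
  have he1c : ∀ y : F, InH H (T ![0, 0, y] ![0, 1, 0]) := by
    intro y
    have hy : ![0, y / t, -(y / t)] = ![0, y / t, 0] ᵥ* M1 := by
      apply vec3Ext <;> simp [M1, Matrix.vecMul, dot3]
    have h1 := InH.conj (hLall (y / t) (-(y / t))) hv
    rw [hy, ← hvM, Matrix.vecMul_vecMul, coe_mul_inv, Matrix.vecMul_one, hvM] at h1
    have hc : M1 *ᵥ e0 = ![1, 0, t] := by
      apply vec3Ext <;> simp [M1, e0, Matrix.mulVec, dot3]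
    rw [hc] at h1
    have h2 := h1.add (InH.neg (hLall (y / t) 0) (by simp [dot3, e0])) (by simp [dot3, e0])
    have e : T (![1, 0, t] + -e0) ![0, y / t, 0] = T ![0, 0, y] ![0, 1, 0] := by
      rw [T3, T3]
      apply mat3Ext <;> simp [e0, mul_div_cancel₀ _ ht]
    rwa [e] at h2
  have hax1 : Axis H ![0, 1, 0] := by
    intro w hw
    have hw1 : w 1 = 0 := by rw [dot3] at hw; simpa using hw
    have h1 : InH H (T ![w 0, 0, 0] ![0, 1, 0]) := by
      have e : T e0 ![0, w 0, 0] = T ![w 0, 0, 0] ![0, 1, 0] := by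
        rw [T3, T3]
        apply mat3Ext <;> simp [e0]
      exact e ▸ hLall (w 0) 0
    have h2 := h1.add (he1c (w 2)) (by simp [dot3])
    refine congrT h2 ?_ rfl
    apply vec3Ext <;> simp [hw1]
  have hax2 : Axis H ![0, 0, 1] := by
    have h1 := hax1.mul hv
    obtain ⟨M, hM, hM'⟩ := hax1 ![0, 0, 1] (by simp [dot3])
    have h2 := (h1.mul hM).smul (neg_ne_zero.mpr (one_ne_zero (α := F)))
    refine axisCongr h2 ?_
    rw [hM', hvM, T3]
    apply vec3Ext <;> simp [M1, Matrix.vecMul, dot3]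
  have h1 := hax2.mul hv
  obtain ⟨A, hA, hA'⟩ := hLall (2 / t) 0
  obtain ⟨B, hB, hB'⟩ := hLall 0 (-1 / t)
  have h2 := ((h1.mul hA).mul hB).smul (inv_ne_zero ht)
  refine axisCongr h2 ?_
  rw [hA', hB', hvM, T3, T3]
  apply vec3Ext <;> simp [M1, e0, Matrix.vecMul, dot3, ht] <;> field_simp <;> ring

theorem case_two [CharP F 2] (h4 : Fintype.card F ≠ 4) : Goal F := by
  classical
  obtain ⟨g0, hg0⟩ := IsCyclic.exists_generator (α := Fˣ)
  set c : F := (g0 : F)
  have hc : c ≠ 0 := g0.ne_zero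
  let y : Matrix.SpecialLinearGroup (Fin 3) F := ⟨!![1, 0, 0; 0, 1, 0; c, 0, 1], by simp [Matrix.det_fin_three]⟩
  refine goal_of y fun H hu hv => ?_
  set u := U F with hudef
  have huM : (u : Matrix (Fin 3) (Fin 3) F) = !![1, 1, 0; 0, 1, 1; 0, 0, 1] := upper3
  have two : (2 : F) = 0 := CharTwo.two_eq_zero
  have neg : ∀ a : F, -a = a := fun a => CharTwo.neg_eq a
  have hui : ((u⁻¹ : Matrix.SpecialLinearGroup (Fin 3) F) : Matrix (Fin 3) (Fin 3) F) = !![1, 1, 1; 0, 1, 1; 0, 0, 1] := by
    refine left_inv_eq_right_inv (coe_inv_mul u) ?_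
    rw [huM]
    apply mat3Ext <;> simp [Matrix.mul_apply, Fin.sum_univ_three, CharTwo.add_self_eq_zero]
  have hyi : ((y⁻¹ : Matrix.SpecialLinearGroup (Fin 3) F) : Matrix (Fin 3) (Fin 3) F) = !![1, 0, 0; 0, 1, 0; c, 0, 1] := by
    refine left_inv_eq_right_inv (coe_inv_mul y) ?_
    show !![1, 0, 0; 0, 1, 0; c, 0, 1] * !![1, 0, 0; 0, 1, 0; c, 0, 1] = (1 : Matrix (Fin 3) (Fin 3) F)
    apply mat3Ext <;> simp [Matrix.mul_apply, Fin.sum_univ_three, CharTwo.add_self_eq_zero]
  set X := y * u * y⁻¹ * u⁻¹ with hXdef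
  have hX : X ∈ H := H.mul_mem hv (H.inv_mem hu)
  have hXM : (X : Matrix (Fin 3) (Fin 3) F) = !![1, 0, 0; c, c + 1, c; 0, c, c + 1] := by
    simp only [hXdef, Matrix.SpecialLinearGroup.coe_mul, hyi, hui, huM]
    show !![1, 0, 0; 0, 1, 0; c, 0, 1] * _ * _ * _ = _
    apply mat3Ext <;>
      simp [Matrix.mul_apply, Matrix.vecHead, Matrix.vecTail, Fin.sum_univ_three] <;> ring_nf <;> simp [two]
  have hXX : InH H (T ![0, c * c, c * c] ![1, 0, 0]) := by
    refine ⟨X * X, H.mul_mem hX hX, ?_⟩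
    rw [Matrix.SpecialLinearGroup.coe_mul, hXM, T3]
    apply mat3Ext <;>
      simp [Matrix.mul_apply, Matrix.vecHead, Matrix.vecTail, Fin.sum_univ_three] <;> ring_nf <;> simp [two]
  let P : F → Prop := fun x => InH H (T ![0, 0, x] ![1, 0, 0])
  let Q : F → Prop := fun x => InH H (T ![0, x, x] ![1, 0, 0])
  have hPs : ∀ x, P x → InH H (T ![0, x, x] ![1, 1, 1]) := by
    intro x hx
    have h1 := InH.conj hx hu
    refine congrT h1 ?_ ?_
    · rw [huM]; apply vec3Ext <;> simp [Matrix.mulVec, dot3]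
    · rw [hui]; apply vec3Ext <;> simp [Matrix.vecMul, dot3]
  have hQs : ∀ x, Q x → InH H (T ![x, 0, x] ![1, 1, 1]) := by
    intro x hx
    have h1 := InH.conj hx hu
    refine congrT h1 ?_ ?_
    · rw [huM]; apply vec3Ext <;> simp [Matrix.mulVec, dot3, CharTwo.add_self_eq_zero]
    · rw [hui]; apply vec3Ext <;> simp [Matrix.vecMul, dot3]
  have hback : ∀ x, InH H (T ![0, x, x] ![1, 1, 1]) → P x := by
    intro x hx
    have h1 := InH.conj hx (H.inv_mem hu)
    rw [inv_inv] at h1
    show InH H (T _ _)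
    refine congrT h1 ?_ ?_
    · rw [hui]; apply vec3Ext <;> simp [Matrix.mulVec, dot3, CharTwo.add_self_eq_zero]
    · rw [huM]; apply vec3Ext <;> simp [Matrix.vecMul, dot3, CharTwo.add_self_eq_zero]
  have hA : ∀ x x', Q x → Q x' → P (x * x') := by
    intro x x' hx hx'
    refine hback _ ?_
    have h1 := InH.comm hx (hQs x' hx') (by simp [dot3]) (by simp [dot3, CharTwo.add_self_eq_zero])
      (by simp [dot3, CharTwo.add_self_eq_zero])
    refine congrT h1 ?_ rfl
    apply vec3Ext <;> simp [dot3, mul_comm]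
  have hB : ∀ x x', P x → P x' → Q (x * x') := by
    intro x x' hx hx'
    have h1 := InH.comm (hPs x hx) hx' (by simp [dot3, CharTwo.add_self_eq_zero]) (by simp [dot3]) (by simp [dot3])
    show InH H (T _ _)
    refine congrT h1 ?_ rfl
    apply vec3Ext <;> simp [dot3, mul_comm]
  have hup : ∀ x, P x → Q (x * c) := by
    intro x hx
    have h1 := InH.conj hx hX
    have eX : (X : Matrix (Fin 3) (Fin 3) F) *ᵥ ![0, 0, x] = ![0, 0, x] + ![0, x * c, x * c] := by
      rw [hXM]
      apply vec3Ext <;> simp [Matrix.mulVec, dot3] <;> ring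
    have eX' : ![(1 : F), 0, 0] ᵥ* ((X⁻¹ : Matrix.SpecialLinearGroup (Fin 3) F) : Matrix (Fin 3) (Fin 3) F) = ![1, 0, 0] := by
      have e : ![(1 : F), 0, 0] ᵥ* (X : Matrix (Fin 3) (Fin 3) F) = ![1, 0, 0] := by
        rw [hXM]
        apply vec3Ext <;> simp [Matrix.vecMul, dot3]
      conv_lhs => rw [← e]
      rw [Matrix.vecMul_vecMul, coe_mul_inv, Matrix.vecMul_one]
    rw [eX, eX'] at h1
    have h2 := (InH.neg hx (by simp [dot3])).add h1 (by simp [dot3])
    rw [neg_add_cancel_left] at h2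
    exact h2
  have hadd : ∀ a b : Fin 3 → F, a 0 = 0 → b 0 = 0 → InH H (T a ![1, 0, 0]) → InH H (T b ![1, 0, 0]) →
      InH H (T (a + b) ![1, 0, 0]) := fun a b _ h ha hb => ha.add hb (by rw [dot3, h]; simp)
  have hzero : ∀ f, InH H (T (0 : Fin 3 → F) f) := fun f => by rw [T_zero]; exact InH.one
  let K : Subring F :=
    { carrier := {k | ∀ x, (P x → P (k * x)) ∧ (Q x → Q (k * x))}
      one_mem' := fun x => by rw [one_mul]; exact ⟨id, id⟩
      mul_mem' := fun {a b} ha hb x => by
        rw [mul_assoc]; exact ⟨fun h => (ha _).1 ((hb x).1 h), fun h => (ha _).2 ((hb x).2 h)⟩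
      zero_mem' := fun x => by
        rw [zero_mul]
        constructor <;> intro _ <;> show InH H (T _ _) <;>
          · refine congrT (hzero ![1, 0, 0]) ?_ rfl
            apply vec3Ext <;> simp
      add_mem' := fun {a b} ha hb x => by
        constructor <;> intro h <;> show InH H (T _ _)
        · have := hadd _ _ (by simp) (by simp) ((ha x).1 h) ((hb x).1 h)
          refine congrT this ?_ rfl
          apply vec3Ext <;> simp [add_mul]
        · have := hadd _ _ (by simp) (by simp) ((ha x).2 h) ((hb x).2 h)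
          refine congrT this ?_ rfl
          apply vec3Ext <;> simp [add_mul]
      neg_mem' := fun {a} ha x => by rw [neg]; exact ha x }
  have hQ2 : Q (c * c) := hXX
  have hP4 := hA _ _ hQ2 hQ2
  have hQ5 := hup _ hP4
  have hst : ∀ a b, P a → Q b → a * b ∈ K := by
    intro a b ha hb x
    constructor
    · intro hx
      rw [show a * b * x = a * x * b by ring]
      exact hA _ _ (hB _ _ ha hx) hb
    · intro hx
      rw [show a * b * x = a * (x * b) by ring]
      exact hB _ _ ha (hA _ _ hx hb)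
  have k1 := hst _ _ hP4 hQ2
  have k2 := hst _ _ hP4 hQ5
  have k3 : c ^ 3 ∈ K := by
    have := K.mul_mem k2 (inv_mem_subring K _ k1)
    convert this using 1
    field_simp
  have hK := subring_cube h4 g0 hg0 K k3
  intro w hw
  have hw0 : w 0 = 0 := by rw [dot3] at hw; simpa using hw
  have hP : ∀ x, P x := fun x => by
    have := (hK (x / (c * c * (c * c))) _).1 hP4
    rwa [div_mul_cancel₀ _ (by simp [hc])] at this
  have hQ : ∀ x, Q x := fun x => by
    have := (hK (x / (c * c)) _).2 hQ2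
    rwa [div_mul_cancel₀ _ (by simp [hc])] at this
  have h1 := hadd _ _ (by simp) (by simp) (hQ (w 1)) (hP (w 2 - w 1))
  refine congrT h1 ?_ ?_
  · apply vec3Ext <;> simp [hw0]
  · apply vec3Ext <;> simp

end

/-! four elements: explicit words -/

section
variable {F : Type*} [Field F] [Fintype F]

/-- multiplication table of GF(4) on `0, 1, ω, ω + 1` -/
def mul4 : Fin 4 → Fin 4 → Fin 4 :=
  ![![0, 0, 0, 0], ![0, 1, 2, 3], ![0, 2, 3, 1], ![0, 3, 1, 2]]

/-- addition table of GF(4) -/
def add4 : Fin 4 → Fin 4 → Fin 4 :=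
  ![![0, 1, 2, 3], ![1, 0, 3, 2], ![2, 3, 0, 1], ![3, 2, 1, 0]]

/-- matrices over the table -/
abbrev M4 := Fin 3 → Fin 3 → Fin 4

/-- product -/
def mm (A B : M4) : M4 := fun i j =>
  add4 (add4 (mul4 (A i 0) (B 0 j)) (mul4 (A i 1) (B 1 j))) (mul4 (A i 2) (B 2 j))

def mu4 : M4 := ![![1, 1, 0], ![0, 1, 1], ![0, 0, 1]]
def mui4 : M4 := ![![1, 1, 1], ![0, 1, 1], ![0, 0, 1]]
def mv4 : M4 := ![![0, 1, 0], ![3, 0, 1], ![2, 2, 1]]

def mvi4 : M4 := ![![2, 1, 1], ![1, 0, 0], ![1, 2, 3]]

/-- word evaluation; letters `0 1 2 3` for `u v u⁻¹ v⁻¹` -/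
def letter4 : Fin 4 → M4 := ![mu4, mv4, mui4, mvi4]

def eval4 : List (Fin 4) → M4
  | [] => ![![1, 0, 0], ![0, 1, 0], ![0, 0, 1]]
  | a :: l => mm (letter4 a) (eval4 l)

/-- elementary matrix -/
def elt4 (i j : Fin 3) (x : Fin 4) : M4 := fun a b => if a = b then 1 else if a = i ∧ b = j then x else 0

theorem case_four [CharP F 2] (h4 : Fintype.card F = 4) : Goal F := by
  classical
  have two : (2 : F) = 0 := CharTwo.two_eq_zero
  obtain ⟨ω, h0, h1⟩ : ∃ w : F, w ≠ 0 ∧ w ≠ 1 := by
    by_contra hc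
    push Not at hc
    have : Fintype.card F ≤ ({0, 1} : Finset F).card :=
      Finset.card_le_card (s := Finset.univ) fun w _ => by
        by_cases h : w = 0
        · simp [h]
        · simp [hc w h]
    rw [h4] at this
    have := this.trans Finset.card_le_two
    omega
  have hw : ω * ω = ω + 1 := by
    have h3 := FiniteField.pow_card_sub_one_eq_one ω h0
    rw [h4] at h3
    have : (ω - 1) * (ω * ω + ω + 1) = 0 := by linear_combination h3
    rcases mul_eq_zero.mp this with h | h
    · exact absurd (sub_eq_zero.mp h) h1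
    · linear_combination h - (ω + 1) * two
  let E : Fin 4 → F := ![0, 1, ω, ω + 1]
  have hEm : ∀ a b, E (mul4 a b) = E a * E b := by
    intro a b; fin_cases a <;> fin_cases b <;> simp [E, mul4] <;> grind
  have hEa : ∀ a b, E (add4 a b) = E a + E b := by
    intro a b; fin_cases a <;> fin_cases b <;> simp [E, add4] <;> grind
  let tm : M4 → Matrix (Fin 3) (Fin 3) F := fun A => Matrix.of fun i j => E (A i j)
  have hmm : ∀ A B, tm (mm A B) = tm A * tm B := by
    intro A B; ext i j
    simp [tm, mm, hEm, hEa, Matrix.mul_apply, Fin.sum_univ_three]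
  let y : Matrix.SpecialLinearGroup (Fin 3) F := ⟨!![1, 0, 0; 1, 1, 0; ω, 0, 1], by simp [Matrix.det_fin_three]⟩
  refine goal_of y fun H hu hv => ?_
  have hu' : InH H (tm mu4) := ⟨U F, hu, by
    show upper 2 F = _
    rw [upper3]; ext i j; fin_cases i <;> fin_cases j <;> simp [tm, mu4, E]⟩
  have hyu : (y : Matrix (Fin 3) (Fin 3) F) * upper 2 F = tm mv4 * y := by
    rw [upper3]
    show !![1, 0, 0; 1, 1, 0; ω, 0, 1] * _ = tm mv4 * !![1, 0, 0; 1, 1, 0; ω, 0, 1]
    ext i j
    fin_cases i <;> fin_cases j <;> simp [tm, mv4, E, Matrix.mul_apply, Fin.sum_univ_three] <;> grind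
  have hv' : InH H (tm mv4) := ⟨_, hv, by
    show (y : Matrix (Fin 3) (Fin 3) F) * upper 2 F * _ = _
    rw [hyu, Matrix.mul_assoc, coe_mul_inv, Matrix.mul_one]⟩
  have htm1 : tm (eval4 []) = 1 := by
    ext i j; fin_cases i <;> fin_cases j <;> simp [tm, eval4, E]
  have hl : ∀ a, InH H (tm (letter4 a)) := by
    intro a
    fin_cases a
    · exact hu'
    · exact hv'
    · show InH H (tm mui4)
      exact InH.of_inv hu' (by rw [← hmm, show mm mui4 mu4 = eval4 [] by decide +kernel, htm1])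
    · show InH H (tm mvi4)
      exact InH.of_inv hv' (by rw [← hmm, show mm mvi4 mv4 = eval4 [] by decide +kernel, htm1])
  have hev : ∀ l, InH H (tm (eval4 l)) := by
    intro l
    induction l with
    | nil => rw [htm1]; exact InH.one
    | cons a l ih => show InH H (tm (mm _ _)); rw [hmm]; exact (hl a).mul ih
  let X : Fin 3 → Fin 3 → F → Prop := fun i j x => InH H (T (Pi.single i x) (Pi.single j 1))
  have helt : ∀ i j x l, i ≠ j → eval4 l = elt4 i j x → X i j (E x) := by
    intro i j x l hij hl'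
    show InH H (T _ _)
    convert hl' ▸ hev l using 1
    ext a b
    simp only [T, tm, elt4, Matrix.add_apply, Matrix.one_apply, vecMulVec_apply, Pi.single_apply, Matrix.of_apply]
    by_cases hab : a = b
    · subst hab
      by_cases hai : a = i
      · subst hai; simp [hij, E]
      · simp [hai, E]
    · by_cases h : a = i ∧ b = j
      · simp [hab, h.1, h.2, hij, E]
      · rw [not_and_or] at h
        rcases h with h | h <;> simp [hab, h, E]
  have hcomm : ∀ i k j a b, i ≠ k → k ≠ j → i ≠ j → X i k a → X k j b → X i j (b * a) := by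
    intro i k j a b h1 h2 h3 ha hb
    have := InH.comm ha hb (by simp [dotProduct_single, h1, h1.symm]) (by simp [dotProduct_single, h2, h2.symm])
      (by simp [dotProduct_single, h3, h3.symm])
    show InH H (T _ _)
    refine congrT this ?_ rfl
    funext r
    simp [dotProduct_single, Pi.single_apply]
  have a01 := helt 0 1 3 [0, 0, 3, 0, 1, 1, 2, 1] (by decide) (by decide +kernel)
  have a12 := helt 1 2 3 [0, 1, 2, 1, 1, 0, 3, 2] (by decide) (by decide +kernel)
  have a02 := helt 0 2 1 [0, 0] (by decide) (by decide +kernel)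
  have a21 := helt 2 1 1 [1, 2, 3, 0, 0, 1, 0, 3] (by decide) (by decide +kernel)
  have a10 := helt 1 0 1 [2, 1, 2, 3, 2, 1, 0, 1, 2, 1] (by decide) (by decide +kernel)
  have b02 : X 0 2 ω := by
    have := hcomm 0 1 2 _ _ (by decide) (by decide) (by decide) a01 a12
    convert this using 1
    simp [E]; grind
  have hadd : ∀ i j a b, i ≠ j → X i j a → X i j b → X i j (a + b) := by
    intro i j a b hij ha hb
    show InH H (T _ _)
    rw [Pi.single_add]
    exact InH.add ha hb (by simp [dotProduct_single, hij, hij.symm])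
  have hspan : ∀ x : F, x = 0 ∨ x = 1 ∨ x = ω ∨ x = ω + 1 := by
    intro x
    have hinj : Function.Injective E := by
      intro a b; fin_cases a <;> fin_cases b <;> simp [E] <;> grind
    obtain ⟨a, rfl⟩ := ((Fintype.bijective_iff_injective_and_card E).mpr ⟨hinj, by simp [h4]⟩).2 x
    fin_cases a <;> simp [E]
  have e02 : ∀ x, X 0 2 x := by
    intro x
    rcases hspan x with rfl | rfl | rfl | rfl
    · show InH H (T _ _); rw [Pi.single_zero, T_zero]; exact InH.one
    · exact a02
    · exact b02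
    · exact hadd _ _ _ _ (by decide) b02 a02
  have e01 : ∀ x, X 0 1 x := fun x => by
    have := hcomm 0 2 1 x _ (by decide) (by decide) (by decide) (e02 x) a21
    simpa [E] using this
  intro w hw
  have h20 : X 2 0 1 := by
    have := hcomm 2 1 0 _ _ (by decide) (by decide) (by decide) a21 a10
    simpa [E] using this
  have e12 : ∀ x, X 1 2 x := fun x => by
    have := hcomm 1 0 2 _ x (by decide) (by decide) (by decide) a10 (e02 x)
    simpa [E] using this
  have e10 : ∀ x, X 1 0 x := fun x => by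
    have := hcomm 1 2 0 x _ (by decide) (by decide) (by decide) (e12 x) h20
    simpa using this
  have e21 : ∀ x, X 2 1 x := fun x => by
    have := hcomm 2 0 1 _ x (by decide) (by decide) (by decide) h20 (e01 x)
    simpa using this
  have e20 : ∀ x, X 2 0 x := fun x => by
    have := hcomm 2 1 0 x _ (by decide) (by decide) (by decide) (e21 x) a10
    simpa [E] using this
  have hw0 : w 0 = 0 := by simpa using hw
  have h := InH.add (e10 (w 1)) (e20 (w 2)) (by simp)
  refine congrT h ?_ rfl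
  funext r; fin_cases r <;> simp [hw0]

end

/-- Let F be a finite field. Then SL_3(F) is generated by two conjugate regular unipotent elements: there are u with u − 1 nilpotent and (u − 1)² ≠ 0, and g, such that u and g u g⁻¹ generate SL_3(F). -/
theorem result {F : Type*} [Field F] [Fintype F] :
    ∃ u g : Matrix.SpecialLinearGroup (Fin 3) F, IsNilpotent ((u : Matrix (Fin 3) (Fin 3) F) - 1) ∧ ((u : Matrix (Fin 3) (Fin 3) F) - 1) ^ (3 - 1) ≠ 0 ∧
      Subgroup.closure ({u, g * u * g⁻¹} : Set (Matrix.SpecialLinearGroup (Fin 3) F)) = ⊤ := by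
  obtain ⟨p, hp⟩ := CharP.exists F
  haveI : Fact p.Prime := ⟨CharP.char_is_prime F p⟩
  by_cases hp2 : p = 2
  · subst hp2
    by_cases h4 : Fintype.card F = 4
    · exact case_four h4
    · exact case_two h4
  · exact case_odd (QuadraticSL2.two_ne_zero' hp2) p hp2

end Cfsg.Agent.S2278
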