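import Cfsg.Statements.S2286
import Cfsg.Agent.Lib.SL2PresTwo

set_option autoImplicit false
open Cfsg

namespace Cfsg.Agent.S2286

open PSL2Elements SL2PresAbel SL2PresData SL2PresURels
open Multiplicative (ofAdd)
open scoped MatrixGroups

section
variable {F : Type*} [Field F] [Fintype F] {p : ℕ} [Fact p.Prime] [Algebra (ZMod p) F] {ζ : Fˣ}

theorem hconj (pb : PowerBasis (ZMod p) F) (hgen : pb.gen = (ζ : F) ^ 2) (r : F) :
    d ζ * uHom (ofAdd r) * (d ζ)⁻¹ = uHom (ofAdd (pb.gen * r)) := by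
  show d ζ * u r * (d ζ)⁻¹ = u (pb.gen * r)
  rw [hgen]; exact d_conj_u ζ r

theorem uHom_apply (r : F) : uHom (ofAdd r) = u r := rfl

theorem surj (hζ : ∀ y, y ∈ Subgroup.zpowers ζ) (pb : PowerBasis (ZMod p) F) (hgen : pb.gen = (ζ : F) ^ 2)
    {Q : Type*} [Group Q] (mk : SL(2, F) →* Q) (hmk : Function.Surjective mk) (K : Subgroup Q)
    (hu : mk (u 1) ∈ K) (hh : mk (d ζ) ∈ K) (ht : mk W ∈ K) : K = ⊤ := by
  have hall : K.comap mk = ⊤ := by
    refine SL2PresData.closure_eq_top _ (fun r => ?_) ht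
    rw [← uHom_apply, ← word_eq pb (hconj pb hgen)]
    refine word_mem pb _ fun i _ => ?_
    have hh' : d ζ ∈ K.comap mk := hh
    exact (K.comap mk).mul_mem ((K.comap mk).mul_mem ((K.comap mk).pow_mem hh' i) hu)
      ((K.comap mk).inv_mem ((K.comap mk).pow_mem hh' i))
  rw [eq_top_iff]
  intro q _
  obtain ⟨g, rfl⟩ := hmk q
  exact (hall ▸ Subgroup.mem_top g : g ∈ K.comap mk)

/-- injectivity from the derived relations -/
theorem inj (pb : PowerBasis (ZMod p) F) (hgen : pb.gen = (ζ : F) ^ 2) {G : Type} [Group G] {u0 h t : G}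
    (φ : Multiplicative F →* G) (hφ1 : φ (ofAdd 1) = u0)
    (hφ : ∀ r, h * φ (ofAdd r) * h⁻¹ = φ (ofAdd (pb.gen * r)))
    (hgenG : Subgroup.closure ({u0, h, t} : Set G) = ⊤) (hth : h * t * h = t) {n0 : ℤ} (ht2 : t * t = h ^ n0)
    (hbr : ∀ a : F, a ≠ 0 → ∃ j : ℤ, t * φ (ofAdd a) * t = φ (ofAdd (-1 / a)) * h ^ j * t * φ (ofAdd (-1 / a)))
    {Q : Type*} [Group Q] (mk : SL(2, F) →* Q)
    (hker : ∀ g, mk g = 1 → g.1 1 0 = 0 ∧ g.1 0 1 = 0)
    (hord : ∀ i : ℤ, mk (d (ζ ^ i)) = 1 → h ^ i = 1)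
    (π : G →* Q) (hu : π u0 = mk (u 1)) (hh : π h = mk (d ζ)) (ht : π t = mk W) : Function.Injective π := by
  have hμ : pb.gen ≠ 0 := by rw [hgen]; exact pow_ne_zero _ ζ.ne_zero
  have hπ : ∀ r, π (φ (ofAdd r)) = mk (u r) := by
    intro r
    rw [← word_eq pb hφ, map_word, hφ1, hu, hh, ← map_word mk, ← uHom_apply, word_eq pb (hconj pb hgen),
      uHom_apply]
  refine SL2PresWeyl.injective_of hμ ?_ hφ hth ht2 hbr π ?_ ?_
  · rw [eq_top_iff, ← hgenG]
    refine Subgroup.closure_mono ?_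
    rintro x (rfl | rfl | rfl)
    · exact Or.inl ⟨ofAdd 1, hφ1⟩
    · exact Or.inr (Or.inl rfl)
    · exact Or.inr (Or.inr rfl)
  · intro r i hri
    rw [map_mul, hπ, map_zpow, hh, ← map_zpow, d_zpow, ← map_mul] at hri
    have h01 := (hker _ hri).2
    have hr : r = 0 := by
      simp [u, d, mul_apply2] at h01
      exact h01.resolve_right (zpow_ne_zero _ ζ.ne_zero)
    subst hr
    rw [u_zero, one_mul] at hri
    exact ⟨rfl, hord i hri⟩
  · intro r s i hri
    rw [map_mul, map_mul, map_mul, hπ, hπ, map_zpow, hh, ht, ← map_zpow, d_zpow, ← map_mul, ← map_mul,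
      ← map_mul] at hri
    have h10 := (hker _ hri).1
    rw [form_apply, neg_eq_zero] at h10
    exact Units.ne_zero _ h10

/-- braid relations everywhere from two representatives -/
theorem cover (hζ : ∀ y, y ∈ Subgroup.zpowers ζ) {G : Type} [Group G] {φ : Multiplicative F →* G} {h t : G}
    (hφ : ∀ r, h * φ (ofAdd r) * h⁻¹ = φ (ofAdd ((ζ : F) ^ 2 * r))) (hth : h * t * h = t) (m : ℕ) (hm : Odd m)
    (b1 : ∃ j : ℤ, t * φ (ofAdd 1) * t = φ (ofAdd (-1 / 1)) * h ^ j * t * φ (ofAdd (-1 / 1)))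
    (b2 : ∃ j : ℤ, t * φ (ofAdd ((ζ : F) ^ m)) * t =
      φ (ofAdd (-1 / (ζ : F) ^ m)) * h ^ j * t * φ (ofAdd (-1 / (ζ : F) ^ m)))
    (a : F) (ha : a ≠ 0) :
    ∃ j : ℤ, t * φ (ofAdd a) * t = φ (ofAdd (-1 / a)) * h ^ j * t * φ (ofAdd (-1 / a)) := by
  obtain ⟨n, hn⟩ := exists_pow hζ ha
  have hμ : ((ζ : F) ^ 2) ≠ 0 := pow_ne_zero _ ζ.ne_zero
  have hz : (ζ : F) ≠ 0 := ζ.ne_zero
  obtain ⟨i, hi | hi⟩ : ∃ i : ℤ, (n : ℤ) = 2 * i ∨ (n : ℤ) = 2 * i + m := by
    obtain ⟨l, rfl⟩ := hm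
    rcases Nat.even_or_odd n with ⟨l', hl⟩ | ⟨l', hl⟩
    · exact ⟨l', Or.inl (by omega)⟩
    · exact ⟨(l' : ℤ) - l, Or.inr (by omega)⟩
  · obtain ⟨j, hj⟩ := b1
    refine ⟨j - 2 * i, ?_⟩
    have := SL2PresWeyl.braid_shift hμ hφ hth hj i
    have e : ((ζ : F) ^ 2) ^ i * 1 = a := by
      rw [mul_one, ← hn, ← zpow_natCast _ 2, ← zpow_mul, ← zpow_natCast _ n, hi]; rfl
    rwa [e] at this
  · obtain ⟨j, hj⟩ := b2
    refine ⟨j - 2 * i, ?_⟩
    have := SL2PresWeyl.braid_shift hμ hφ hth hj i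
    have e : ((ζ : F) ^ 2) ^ i * (ζ : F) ^ m = a := by
      rw [← hn, ← zpow_natCast _ 2, ← zpow_mul, ← zpow_natCast _ m, ← zpow_add₀ hz, ← zpow_natCast _ n, hi]; rfl
    rwa [e] at this

theorem gen_pow_half (hζ : ∀ y, y ∈ Subgroup.zpowers ζ) (h2 : (2 : F) ≠ 0) {k : ℕ}
    (hk : Fintype.card F - 1 = 2 * k) (hk0 : 0 < k) : ((ζ ^ k : Fˣ) : F) = -1 := by
  have h1 : ((ζ : F) ^ k) * (ζ : F) ^ k = 1 := by
    rw [← pow_add, ← two_mul, ← hk]; simpa using congrArg Units.val (pow_card_sub_one hζ)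
  rcases mul_self_eq_one_iff.mp h1 with h | h
  · exfalso
    have h' : ζ ^ k = 1 := Units.ext (by simpa using h)
    have := orderOf_le_of_pow_eq_one hk0 h'
    rw [orderOf_gen hζ] at this
    omega
  · simpa using h

/-- the Weyl relator on a nonsquare -/
noncomputable def braidRel (pb : PowerBasis (ZMod p) F) (ν : F) (j : ℕ) : FG :=
  gT * word pb gH gU ν * gT * (word pb gH gU (-1 / ν) * gH ^ j * gT * word pb gH gU (-1 / ν))⁻¹

theorem braidRel_sat (pb : PowerBasis (ZMod p) F) (hgen : pb.gen = (ζ : F) ^ 2) (j : ℕ)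
    (hj : (ζ : F) ^ j = -1 / (ζ : F)) {Q : Type*} [Group Q] (mk : SL(2, F) →* Q) :
    FreeGroup.lift ![mk (u 1), mk (d ζ), mk W] (braidRel pb (ζ : F) j) = 1 := by
  have hb := SL2PresData.braid (F := F) ζ.ne_zero (ζ ^ j) (by rw [Units.val_pow_eq_pow_val, hj])
  rw [← d_pow] at hb
  simp only [braidRel, map_mul, map_inv, map_pow, map_word, lift_gU, lift_gH, lift_gT, mul_inv_eq_one]
  rw [← map_word mk, ← map_word mk, ← uHom_apply, word_eq pb (hconj pb hgen), word_eq pb (hconj pb hgen),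
    uHom_apply, uHom_apply, ← map_pow, ← map_mul, ← map_mul, ← map_mul, ← map_mul, ← map_mul, hb]

theorem sl_odd (hζ : ∀ y, y ∈ Subgroup.zpowers ζ) (hodd : Odd (Fintype.card F)) (h2 : (2 : F) ≠ 0)
    (pb : PowerBasis (ZMod p) F) (hgen : pb.gen = (ζ : F) ^ 2) (hcard : Fintype.card F = p ^ pb.dim) :
    ∃ rels : Finset FG, rels.card ≤ 9 ∧ Nonempty (PresentedGroup (↑rels : Set FG) ≃* SL(2, F)) := by
  obtain ⟨k, hk'⟩ := hodd
  have hk : Fintype.card F - 1 = 2 * k := by omega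
  have hk0 : 0 < k := by have := Fintype.one_lt_card (α := F); omega
  have hm1 : ((ζ ^ k : Fˣ) : F) = -1 := gen_pow_half hζ h2 hk hk0
  obtain ⟨j, hj⟩ := exists_pow hζ (show -1 / (ζ : F) ≠ 0 by simp)
  obtain ⟨L, hL5, hLs, hLc⟩ := uRels hζ ⟨k, hk'⟩ h2 pb hgen hcard (φ := uHom) (T := (W : SL(2, F)))
    (hconj pb hgen)
  refine pres (L ++ [gH * gT * gH * gT⁻¹, gT * gT * (gH ^ k)⁻¹, (gT * gU) ^ 3, braidRel pb (ζ : F) j]) 9
    (by simp; omega) (u 1) (d ζ) W (hLs.append ?_) (surj hζ pb hgen (MonoidHom.id _) Function.surjective_id) ?_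
  · simp only [Sat, List.forall_mem_cons, List.not_mem_nil, false_imp_iff, implies_true, and_true,
      map_mul, map_inv, map_pow, lift_gU, lift_gH, lift_gT, mul_inv_eq_one]
    refine ⟨d_W_d ζ, ?_, cube, braidRel_sat pb hgen j hj (MonoidHom.id _)⟩
    rw [W_sq, d_pow]
    apply ext2 <;> simp [d, hm1, inv_neg]
  · intro G _ u0 h t π hu hh ht hgenG hs
    obtain ⟨φ, hφ1, hφ⟩ := hLc G u0 h t hs.left
    have hs' := hs.right
    simp only [Sat, List.forall_mem_cons, List.not_mem_nil, false_imp_iff, implies_true, and_true, braidRel,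
      map_mul, map_inv, map_pow, map_word, lift_gU, lift_gH, lift_gT, mul_inv_eq_one] at hs'
    obtain ⟨hth, ht2, h3, hb⟩ := hs'
    rw [← hφ1, word_eq pb hφ, word_eq pb hφ, ← zpow_natCast] at hb
    rw [← hφ1] at h3
    have ht2' : t * t = h ^ (k : ℤ) := by rw [zpow_natCast]; exact ht2
    have hφ' := hφ
    rw [hgen] at hφ'
    have h2k : h ^ (2 * k) = 1 := by
      have s := SL2PresWeyl.semiconj_zpow hth (k : ℤ)
      rw [zpow_neg, zpow_natCast, ← ht2] at s
      rw [two_mul, pow_add, ← ht2]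
      have s' : t * t * t = t * (t * t)⁻¹ := s.symm
      rw [mul_assoc t t t, mul_right_inj] at s'
      rw [eq_inv_iff_mul_eq_one] at s'
      exact s'
    refine inj pb hgen φ hφ1 hφ hgenG hth ht2'
      (cover hζ hφ' hth 1 odd_one ⟨_, SL2PresWeyl.braid_one ht2' h3⟩ ⟨j, by rw [pow_one]; exact hb⟩)
      (MonoidHom.id _) (fun g hg => by rw [MonoidHom.id_apply] at hg; simp [hg]) ?_ π hu hh ht
    intro i hi
    rw [MonoidHom.id_apply, ← d_one, d_injective.eq_iff] at hi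
    obtain ⟨l, hl⟩ := dvd_of_zpow_eq_one hζ hi
    rw [hl, hk, zpow_mul, zpow_natCast, h2k, one_zpow]

theorem psl_odd (hζ : ∀ y, y ∈ Subgroup.zpowers ζ) (hodd : Odd (Fintype.card F)) (h2 : (2 : F) ≠ 0)
    (pb : PowerBasis (ZMod p) F) (hgen : pb.gen = (ζ : F) ^ 2) (hcard : Fintype.card F = p ^ pb.dim) :
    ∃ rels : Finset FG, rels.card ≤ 9 ∧ Nonempty (PresentedGroup (↑rels : Set FG) ≃* PSL(2, F)) := by
  obtain ⟨k, hk'⟩ := id hodd
  have hk : Fintype.card F - 1 = 2 * k := by omega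
  have hk0 : 0 < k := by have := Fintype.one_lt_card (α := F); omega
  have hm1 : ((ζ ^ k : Fˣ) : F) = -1 := gen_pow_half hζ h2 hk hk0
  have hm1' : (ζ : F) ^ k = -1 := by rw [← hm1, Units.val_pow_eq_pow_val]
  let mk : SL(2, F) →* PSL(2, F) := QuotientGroup.mk' _
  have hφQ : ∀ r, mk (d ζ) * (mk.comp uHom) (ofAdd r) * (mk (d ζ))⁻¹ = (mk.comp uHom) (ofAdd (pb.gen * r)) :=
    fun r => by simp only [MonoidHom.comp_apply, ← hconj pb hgen r, map_mul, map_inv]
  obtain ⟨L, hL5, hLs, hLc⟩ := uRels hζ hodd h2 pb hgen hcard (φ := mk.comp uHom) (T := mk W) hφQ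
  obtain ⟨j, hj⟩ := exists_pow hζ (show -1 / (ζ : F) ≠ 0 by simp)
  obtain ⟨r9, hr9, hder⟩ : ∃ r9 : FG, FreeGroup.lift ![mk (u 1), mk (d ζ), mk W] r9 = 1 ∧
      ∀ (G : Type) [Group G] (φ : Multiplicative F →* G) (h t : G),
        (∀ r, h * φ (ofAdd r) * h⁻¹ = φ (ofAdd (pb.gen * r))) → h * t * h = t → t * t = 1 →
        (t * φ (ofAdd 1)) ^ 3 = 1 → FreeGroup.lift ![φ (ofAdd 1), h, t] r9 = 1 →
        h ^ k = 1 ∧ ∀ a : F, a ≠ 0 →
          ∃ i : ℤ, t * φ (ofAdd a) * t = φ (ofAdd (-1 / a)) * h ^ i * t * φ (ofAdd (-1 / a)) := by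
    have binv : ∀ (G : Type) [Group G] (φ : Multiplicative F →* G) (h t : G), t * t = 1 →
        (t * φ (ofAdd 1)) ^ 3 = 1 →
        t * φ (ofAdd (-1 : F)) * t = φ (ofAdd (-1 / -1)) * h ^ (0 : ℤ) * t * φ (ofAdd (-1 / -1)) := by
      intro G _ φ h t ht2 h3
      have b := SL2PresWeyl.braid_one (h := h) (n0 := 0) (by rw [ht2, zpow_zero]) h3
      rw [div_one, neg_zero, zpow_zero, mul_one, ofAdd_neg, map_inv] at b
      have hti : t⁻¹ = t := inv_eq_of_mul_eq_one_right ht2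
      rw [show (-1 : F) / -1 = 1 from div_self (neg_ne_zero.mpr one_ne_zero), zpow_zero, mul_one, ofAdd_neg,
        map_inv]
      calc t * (φ (ofAdd 1))⁻¹ * t = (t * φ (ofAdd 1) * t)⁻¹ := by
            rw [mul_inv_rev, mul_inv_rev, hti, mul_assoc]
        _ = φ (ofAdd 1) * t * φ (ofAdd 1) := by
            rw [b, mul_inv_rev, mul_inv_rev, inv_inv, hti, mul_assoc]
    rcases Nat.even_or_odd k with ⟨l, hl⟩ | hko
    · refine ⟨braidRel pb (ζ : F) j, braidRel_sat pb hgen j hj mk, fun G _ φ h t hφ hth ht2 h3 hb => ?_⟩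
      simp only [braidRel, map_mul, map_inv, map_pow, map_word, lift_gU, lift_gH, lift_gT, mul_inv_eq_one] at hb
      rw [word_eq pb hφ, word_eq pb hφ, ← zpow_natCast] at hb
      have hφ' := hφ
      rw [hgen] at hφ'
      have ht2' : t * t = h ^ (0 : ℤ) := by rw [zpow_zero, ht2]
      have b1 := SL2PresWeyl.braid_one ht2' h3
      refine ⟨?_, cover hζ hφ' hth 1 odd_one ⟨_, b1⟩ ⟨j, by rw [pow_one]; exact hb⟩⟩
      have hμ : ((ζ : F) ^ 2) ≠ 0 := pow_ne_zero _ ζ.ne_zero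
      have hs := SL2PresWeyl.braid_shift hμ hφ' hth b1 (l : ℤ)
      rw [show ((ζ : F) ^ 2) ^ (l : ℤ) * 1 = -1 by
        rw [mul_one, zpow_natCast, ← pow_mul, two_mul, ← hl, hm1'], binv G φ h t ht2 h3] at hs
      simp only [mul_left_inj, mul_right_inj, zpow_zero, neg_zero, zero_sub, zpow_neg, one_eq_inv] at hs
      rw [hl, ← zpow_natCast, Nat.cast_add, ← two_mul]
      exact hs
    · refine ⟨gH ^ k, ?_, fun G _ φ h t hφ hth ht2 h3 hb => ?_⟩
      · rw [map_pow, lift_gH, ← map_pow, d_pow]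
        refine (QuotientGroup.eq_one_iff _).mpr (Subgroup.mem_center_iff.mpr fun g => ?_)
        have e : d (ζ ^ k) = (-1 : SL(2, F)) := by
          apply ext2 <;> simp [d, hm1', inv_neg]
        rw [e, mul_neg, neg_mul, mul_one, one_mul]
      · rw [map_pow, lift_gH] at hb
        have hφ' := hφ
        rw [hgen] at hφ'
        refine ⟨hb, cover hζ hφ' hth k hko ⟨_, SL2PresWeyl.braid_one (n0 := 0) (by rw [ht2, zpow_zero]) h3⟩
          ⟨0, ?_⟩⟩
        rw [hm1']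
        exact binv G φ h t ht2 h3
  refine pres (L ++ [gH * gT * gH * gT⁻¹, gT * gT, (gT * gU) ^ 3, r9]) 9
    (by simp; omega) (mk (u 1)) (mk (d ζ)) (mk W) (hLs.append ?_)
    (surj hζ pb hgen mk (QuotientGroup.mk'_surjective _)) ?_
  · simp only [Sat, List.forall_mem_cons, List.not_mem_nil, false_imp_iff, implies_true, and_true,
      map_mul, map_inv, map_pow, lift_gU, lift_gH, lift_gT, mul_inv_eq_one]
    refine ⟨by rw [← map_mul, ← map_mul, d_W_d], ?_, by rw [MonoidHom.comp_apply, uHom_apply, ← map_mul, ← map_pow, cube, map_one], hr9⟩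
    rw [← map_mul, W_sq]
    exact (QuotientGroup.eq_one_iff _).mpr (Subgroup.mem_center_iff.mpr fun g => by
      rw [mul_neg, neg_mul, mul_one, one_mul])
  · intro G _ u0 h t π hu hh ht hgenG hs
    obtain ⟨φ, hφ1, hφ⟩ := hLc G u0 h t hs.left
    have hs' := hs.right
    simp only [Sat, List.forall_mem_cons, List.not_mem_nil, false_imp_iff, implies_true, and_true,
      map_mul, map_inv, map_pow, lift_gU, lift_gH, lift_gT, mul_inv_eq_one] at hs'
    obtain ⟨hth, ht2, h3, hb⟩ := hs'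
    rw [← hφ1] at h3 hb
    obtain ⟨hhk, hbr⟩ := hder G φ h t hφ hth ht2 h3 hb
    refine inj pb hgen φ hφ1 hφ hgenG hth (n0 := 0) (by rw [ht2, zpow_zero]) hbr mk
      (fun g hg => ?_) ?_ π hu hh ht
    · obtain ⟨a, b, -⟩ := center_scalar ((QuotientGroup.eq_one_iff g).mp hg)
      exact ⟨a, b⟩
    intro i hi
    obtain ⟨-, -, hc⟩ := center_scalar ((QuotientGroup.eq_one_iff _).mp hi)
    have hc' : ζ ^ i = (ζ ^ i)⁻¹ := Units.ext (by simpa [d] using hc)
    have h2i : ζ ^ (2 * i) = 1 := by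
      rw [two_mul, zpow_add]; nth_rw 2 [hc']; exact mul_inv_cancel _
    obtain ⟨l, hl⟩ := dvd_of_zpow_eq_one hζ h2i
    rw [hk, Nat.cast_mul, Nat.cast_two, mul_assoc] at hl
    rw [show i = k * l by omega, zpow_mul, zpow_natCast, hhk, one_zpow]

end

section
variable {F : Type*} [Field F] [Fintype F] [Algebra (ZMod 2) F]

theorem sl_two_char {ζ : Fˣ} (hζ : ∀ y, y ∈ Subgroup.zpowers ζ) (h2 : (2 : F) = 0)
    (pb : PowerBasis (ZMod 2) F) (hgen : pb.gen = (ζ : F) ^ 2) (hcard : Fintype.card F = 2 ^ pb.dim) :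
    ∃ rels : Finset FG, rels.card ≤ 5 ∧ Nonempty (PresentedGroup (↑rels : Set FG) ≃* SL(2, F)) := by
  haveI : CharP F 2 := charP_of_injective_algebraMap (algebraMap (ZMod 2) F).injective 2
  set e := Fintype.card F - 1
  have hq := Fintype.one_lt_card (α := F)
  have he : Odd e := by
    obtain ⟨l, hl⟩ := (Nat.even_pow.mpr ⟨even_two, pb.dim_pos.ne'⟩ : Even (2 ^ pb.dim))
    exact ⟨l - 1, by omega⟩
  have hze : ζ ^ e = 1 := pow_card_sub_one hζ
  have hme : pb.gen ^ e = 1 := by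
    rw [hgen, ← pow_mul, mul_comm, pow_mul]
    have : (ζ : F) ^ e = 1 := by simpa using congrArg Units.val hze
    rw [this, one_pow]
  have hde : d ζ ^ e = (1 : SL(2, F)) := by rw [d_pow, hze, d_one]
  have hWW : (W * W : SL(2, F)) = 1 := by
    rw [W_sq]; apply ext2 <;> simp [CharTwo.neg_eq]
  have finish : ∀ (G : Type) [Group G] (u0 h t : G) (π : G →* SL(2, F)) (φ : Multiplicative F →* G),
      φ (ofAdd 1) = u0 → (∀ r, h * φ (ofAdd r) * h⁻¹ = φ (ofAdd (pb.gen * r))) →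
      π u0 = u 1 → π h = d ζ → π t = W → Subgroup.closure ({u0, h, t} : Set G) = ⊤ →
      h * t * h = t → t * t = 1 → h ^ e = 1 → (t * u0) ^ 3 = 1 → Function.Injective π := by
    intro G _ u0 h t π φ hφ1 hφ hu hh ht hgenG hth ht2 hhe h3
    rw [← hφ1] at h3
    have hφ' := hφ
    rw [hgen] at hφ'
    have b1 := SL2PresWeyl.braid_one (h := h) (n0 := 0) (by rw [ht2, zpow_zero]) h3
    refine inj pb hgen φ hφ1 hφ hgenG hth (n0 := 0) (by rw [ht2, zpow_zero])
      (cover hζ hφ' hth e he ⟨_, b1⟩ ⟨-0, by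
        have : (ζ : F) ^ e = 1 := by simpa using congrArg Units.val hze
        rw [this]; exact b1⟩)
      (MonoidHom.id _) (fun g hg => by rw [MonoidHom.id_apply] at hg; simp [hg]) ?_ π hu hh ht
    intro i hi
    rw [MonoidHom.id_apply, ← d_one, d_injective.eq_iff] at hi
    obtain ⟨l, hl⟩ := dvd_of_zpow_eq_one hζ hi
    rw [hl, zpow_mul, zpow_natCast, hhe, one_zpow]
  by_cases hq2 : Fintype.card F = 2
  · have hd1 : pb.dim = 1 := by
      rw [hq2] at hcard
      exact (Nat.pow_right_injective le_rfl (show 2 ^ 1 = 2 ^ pb.dim by rw [pow_one]; exact hcard)).symm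
    have hz1 : ζ = 1 := by
      have := hze
      rwa [show e = 1 by omega, pow_one] at this
    refine pres [gU * gU, gH * gT * gH * gT⁻¹, gT * gT, (gT * gU) ^ 3, gH] 5 (by simp) (u 1) (d ζ) W ?_
      (surj hζ pb hgen (MonoidHom.id _) Function.surjective_id) ?_
    · simp only [Sat, List.forall_mem_cons, List.not_mem_nil, false_imp_iff, implies_true, and_true,
        map_mul, map_inv, map_pow, lift_gU, lift_gH, lift_gT, mul_inv_eq_one]
      exact ⟨by rw [u_mul, one_add_one_eq_two, h2, u_zero], d_W_d ζ, hWW, cube, by rw [hz1, d_one]⟩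
    · intro G _ u0 h t π hu hh ht hgenG hs
      simp only [Sat, List.forall_mem_cons, List.not_mem_nil, false_imp_iff, implies_true, and_true,
        map_mul, map_inv, map_pow, lift_gU, lift_gH, lift_gT, mul_inv_eq_one] at hs
      obtain ⟨s1, hth, ht2, h3, rfl⟩ := hs
      have hg1 : pb.gen = 1 := by rw [hgen, hz1]; simp
      have hcj : ∀ i, cj (1 : G) u0 i = u0 := fun i => by simp [cj]
      have hword : word pb (1 : G) u0 1 = u0 := by
        have h0 : (pb.basis.repr 1) ⟨0, pb.dim_pos⟩ = 1 := by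
          have e1 : pb.basis ⟨0, pb.dim_pos⟩ = 1 := by rw [PowerBasis.coe_basis]; simp
          rw [← e1, pb.basis.repr_self, Finsupp.single_eq_same]
        simp only [word, hcj]
        rw [List.ofFn_congr hd1, List.ofFn_succ, List.ofFn_zero, List.prod_singleton]
        have : (Fin.cast hd1.symm 0 : Fin pb.dim) = ⟨0, pb.dim_pos⟩ := Fin.ext rfl
        rw [this, h0, ZMod.val_one, pow_one]
      obtain ⟨φ, hφ1, hφ, -⟩ := exists_hom (p := 2) pb (show u0 ^ 2 = 1 by rw [pow_two, s1])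
        (fun n => by rw [hcj]) (show cj (1 : G) u0 pb.dim = _ by rw [hg1, one_pow, hword, hcj])
      exact finish G u0 1 t π φ hφ1 hφ hu hh ht hgenG hth ht2 (one_pow e) h3
  · have he3 : 2 ≤ e := by omega
    have hμ1 : (ζ : F) ^ 2 + 1 ≠ 0 := by
      intro h0
      have h1 : ((ζ : F) ^ 2) ^ 1 = 1 := by rw [pow_one]; linear_combination h0 - h2
      have := le_of_sq_pow hζ Nat.one_pos h1
      obtain ⟨l, hl⟩ := he
      omega
    obtain ⟨m, hm⟩ := exists_pow hζ hμ1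
    obtain ⟨b, hb⟩ : ∃ b, (ζ : F) ^ 2 = 1 + ((ζ : F) ^ 2) ^ b := by
      obtain ⟨l, hl⟩ := he
      have hz : (ζ : F) ^ e = 1 := by simpa using congrArg Units.val hze
      rcases Nat.even_or_odd m with ⟨l', hl'⟩ | ⟨l', hl'⟩
      · refine ⟨l', ?_⟩
        rw [← pow_mul ((ζ : F)) 2 l', show 2 * l' = m by omega, hm]
        linear_combination -(h2)
      · refine ⟨l + l' + 1, ?_⟩
        rw [← pow_mul ((ζ : F)) 2 (l + l' + 1), show 2 * (l + l' + 1) = e + m by omega, pow_add, hz, one_mul, hm]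
        linear_combination -(h2)
    refine pres (SL2PresTwo.twoRels pb b e) 5 (by simp [SL2PresTwo.twoRels]) (u 1) (d ζ) W ?_
      (surj hζ pb hgen (MonoidHom.id _) Function.surjective_id) ?_
    · simp only [Sat, SL2PresTwo.twoRels, List.forall_mem_cons, List.not_mem_nil, false_imp_iff, implies_true,
        and_true, map_mul, map_inv, map_pow, map_cj, map_word, lift_gU, lift_gH, lift_gT, mul_inv_eq_one]
      refine ⟨by rw [u_mul, one_add_one_eq_two, h2, u_zero], ?_, ?_, ?_, ?_⟩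
      · rw [← uHom_apply, cj_hom (hconj pb hgen), cj_hom (hconj pb hgen), ← map_mul, ← ofAdd_add, mul_one,
          mul_one, pow_one, hgen, ← hb]
      · rw [← mul_assoc, d_W_d, hWW]
      · rw [hWW, mul_comm 3 e, pow_mul, hde, one_pow]
      · rw [cube, eq_comm, mul_inv_eq_one, ← uHom_apply, word_eq pb (hconj pb hgen), cj_hom (hconj pb hgen),
          mul_one]
    · intro G _ u0 h t π hu hh ht hgenG hs
      obtain ⟨φ, hφ1, hφ, hth, ht2, hhe, h3⟩ := SL2PresTwo.two_complete pb b e he hme hgenG hs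
      exact finish G u0 h t π φ hφ1 hφ hu hh ht hgenG hth ht2 hhe h3

end


/-- For every finite field F, SL_2(F) and PSL_2(F) have presentations with 3 generators and at most 9 relations; when F has characteristic 2, PSL_2(F) has a presentation with 3 generators and at most 5 relations. -/
theorem result {F : Type*} [Field F] [Fintype F] :
    (∃ rels : Finset (FreeGroup (Fin 3)), rels.card ≤ 9 ∧ Nonempty (PresentedGroup (↑rels : Set (FreeGroup (Fin 3))) ≃* Matrix.SpecialLinearGroup (Fin 2) F)) ∧ (∃ rels : Finset (FreeGroup (Fin 3)), rels.card ≤ 9 ∧ Nonempty (PresentedGroup (↑rels : Set (FreeGroup (Fin 3))) ≃* Matrix.ProjectiveSpecialLinearGroup (Fin 2) F)) ∧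
    (CharP F 2 → ∃ rels : Finset (FreeGroup (Fin 3)), rels.card ≤ 5 ∧ Nonempty (PresentedGroup (↑rels : Set (FreeGroup (Fin 3))) ≃* Matrix.ProjectiveSpecialLinearGroup (Fin 2) F)) := by
  obtain ⟨p, hp⟩ := CharP.exists F
  haveI : Fact p.Prime := ⟨CharP.char_is_prime F p⟩
  letI : Algebra (ZMod p) F := ZMod.algebra F p
  obtain ⟨ζ, hζ⟩ := IsCyclic.exists_generator (α := Fˣ)
  obtain ⟨pb, hgen, hcard⟩ := exists_pb (p := p) (adjoin_sq hζ)
  by_cases hp2 : p = 2
  · subst hp2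
    have h2 : (2 : F) = 0 := CharTwo.two_eq_zero
    obtain ⟨rels, hr, ⟨e⟩⟩ := sl_two_char hζ h2 pb hgen hcard
    have hbij : Function.Bijective (QuotientGroup.mk' (Subgroup.center SL(2, F))) := by
      refine ⟨(injective_iff_map_eq_one _).mpr fun g hg => ?_, QuotientGroup.mk'_surjective _⟩
      obtain ⟨a, b, c⟩ := center_scalar ((QuotientGroup.eq_one_iff g).mp hg)
      have hd := det_eq g
      rw [a, b, mul_zero, sub_zero, ← c] at hd
      have h1 : g.1 0 0 = 1 := by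
        rcases mul_self_eq_one_iff.mp hd with h | h
        · exact h
        · rw [h, CharTwo.neg_eq]
      apply ext2 <;> simp [a, b, ← c, h1]
    have e' := e.trans (MulEquiv.ofBijective _ hbij)
    exact ⟨⟨rels, by omega, ⟨e⟩⟩, ⟨rels, by omega, ⟨e'⟩⟩, fun _ => ⟨rels, hr, ⟨e'⟩⟩⟩
  · have hodd : Odd (Fintype.card F) := by
      rw [hcard]; exact ((Fact.out : p.Prime).odd_of_ne_two hp2).pow
    have h2 : (2 : F) ≠ 0 := fun h => hp2 (((Nat.prime_dvd_prime_iff_eq (Fact.out : p.Prime) Nat.prime_two).mp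
      ((CharP.cast_eq_zero_iff F p 2).mp (by exact_mod_cast h))))
    refine ⟨sl_odd hζ hodd h2 pb hgen hcard, psl_odd hζ hodd h2 pb hgen hcard, fun hc => ?_⟩
    exact absurd (CharP.eq F hp hc) hp2

end Cfsg.Agent.S2286
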