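import Cfsg.Statements.S2421
import Cfsg.Agent.Lib.GLUnipotentChars
import Cfsg.Agent.Lib.CharBasicOrth
import Cfsg.Agent.Lib.CharBasicDecomp

set_option autoImplicit false
open scoped MatrixGroups
open Cfsg

namespace Cfsg.Agent.S2421

open scoped ComplexConjugate

/-- The permutation representation on complex functions. -/
def permRep (G X : Type*) [Group G] [MulAction G X] : Representation ℂ G (X → ℂ) where
  toFun g :=
    { toFun := fun f x => f (g⁻¹ • x)
      map_add' := fun _ _ => rfl
      map_smul' := fun _ _ => rfl }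
  map_one' := by
    ext f x
    simp
  map_mul' g g' := by
    ext f x
    simp [mul_smul]

theorem isCharacter_fixed {G : Type*} [Group G] [Finite G] (H : Subgroup G) :
    Cfsg.IsCharacter G (Cfsg.fixedPointCharacter H) := by
  classical
  let _ : Fintype (G ⧸ H) := Fintype.ofFinite _
  have h := Cfsg.Agent.CharBasic.isCharacter_of_rep (permRep G (G ⧸ H))
  convert h using 1
  funext g
  rw [Representation.character, LinearMap.trace_eq_matrix_trace ℂ (Pi.basisFun ℂ (G ⧸ H)),
    Matrix.trace]
  simp only [Matrix.diag, LinearMap.toMatrix_apply, Pi.basisFun_repr, Pi.basisFun_apply]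
  change _ = ∑ x : G ⧸ H, (Pi.single x (1 : ℂ) : (G ⧸ H) → ℂ) (g⁻¹ • x)
  simp only [Pi.single_apply, Finset.sum_boole]
  rw [Cfsg.fixedPointCharacter, Nat.card_eq_fintype_card, Fintype.card_subtype]
  congr 2
  refine Finset.filter_congr fun x _ => ?_
  rw [MulAction.mem_fixedBy, inv_smul_eq_iff, eq_comm]

/-- Irreducible characters of `GL_n(q)` indexed by partitions: for `ν` a partition of `n` written with `n` non-decreasing parts `ν_0 ≤ ⋯ ≤ ν_{n−1}` (zeros allowed; positions counted from 0) and `λ_i = ν_i + i`, the alternating sum over permutations `κ` of `{0, …, n−1}` of `sign κ` times the permutation character on partial flags of type `λ − κ` (terms with a negative entry omitted) is an irreducible complex character of `GL_n(q)`. For `ν = (1, …, 1)` this is the Steinberg character. -/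
theorem result {F : Type*} [Field F] [Fintype F] {n : ℕ} (ν : Fin n → ℕ) (hmono : Monotone ν) (hsum : ∑ i, ν i = n) :
    Cfsg.IsIrrCharacter (GL (Fin n) F) (Cfsg.unipotentCharacterGL n F ν) := by
  classical
  set χ := Cfsg.unipotentCharacterGL n F ν with hχ
  have hgen : Cfsg.IsGeneralizedCharacter (GL (Fin n) F) χ := by
    have e : χ = ∑ κ : Equiv.Perm (Fin n), if ∀ i : Fin n, (κ i).val ≤ ν i + i.val then
        fun g => ((Equiv.Perm.sign κ : ℤ) : ℂ) *
          Cfsg.fixedPointCharacter (Cfsg.parabolicGL n F fun i => ν i + i.val - (κ i).val) g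
        else 0 := by
      funext g
      rw [Finset.sum_apply]
      exact Finset.sum_congr rfl fun κ _ => by split_ifs <;> rfl
    rw [e]
    refine Cfsg.Agent.CharBasicDecomp.isGeneralizedCharacter_sum _ _ fun κ _ => ?_
    split_ifs
    · exact Cfsg.Agent.CharBasicDecomp.isGeneralizedCharacter_zsmul
        (Cfsg.Agent.CharBasicDecomp.isGeneralizedCharacter_of_isCharacter
          (isCharacter_fixed (Cfsg.parabolicGL n F fun i => ν i + i.val - (κ i).val))) _
    · exact Cfsg.Agent.CharBasicDecomp.isGeneralizedCharacter_zero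
  have h1 := Cfsg.Agent.GLUnipotentChars.inner_unipotent (F := F) ν ν hmono hsum hmono hsum
  rw [if_pos rfl] at h1
  have h2 := Cfsg.Agent.GLUnipotentChars.inner_unipotent_self_parabolic (F := F) ν hmono hsum
  obtain ⟨ψ, hψ, e | e⟩ := Cfsg.Agent.CharBasicDecomp.eq_or_neg_irr_of_norm_one hgen h1
  · rw [e]; exact hψ
  · exfalso
    obtain ⟨m, hm⟩ := Cfsg.Agent.CharBasicOrth.classInner_isCharacter
      (Cfsg.Agent.CharBasic.isCharacter_of_isIrrCharacter hψ)
      (isCharacter_fixed (Cfsg.parabolicGL n F ν))
    rw [← hχ, e, Cfsg.Agent.CharBasicOrth.classInner_neg_left, hm] at h2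
    have := congrArg Complex.re h2
    simp only [Complex.neg_re, Complex.natCast_re, Complex.one_re] at this
    have : (0 : ℝ) ≤ m := Nat.cast_nonneg m
    linarith

end Cfsg.Agent.S2421
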