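import Cfsg.Statements.S2424
import Cfsg.Agent.Lib.ParabolicIndexGL
import Cfsg.Agent.Lib.GLUnipotentChars

set_option autoImplicit false
open scoped MatrixGroups
open Cfsg

namespace Cfsg.Agent.S2424

open Polynomial Finset
open Cfsg.Agent.ParabolicIndexGL

/-- The falling `q`-factorial `[m][m-1]⋯[m-k+1]`. -/
def qFall (q m k : ℕ) : ℕ := ∏ t ∈ Finset.range k, qInt q (m - t)

theorem qFall_eq_zero (q m k : ℕ) (h : m < k) : qFall q m k = 0 :=
  Finset.prod_eq_zero (Finset.mem_range.2 h) (by simp [qInt])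

theorem qFact_eq (q : ℕ) : ∀ (m k : ℕ), k ≤ m → qFact q m = qFall q m k * qFact q (m - k) := by
  intro m k
  induction k with
  | zero => intro _; simp [qFall]
  | succ k ih =>
    intro hk
    rw [ih (by omega), qFall, qFall, Finset.prod_range_succ, mul_assoc]
    congr 1
    rw [show m - k = m - (k + 1) + 1 by omega, qFact, Finset.prod_range_succ, mul_comm]
    rfl

theorem qFall_poly (q m : ℕ) : ∀ k, (q : ℂ) ^ k.choose 2 * (qFall q m k : ℂ) =
    ∏ t ∈ Finset.range k, ((qInt q m : ℂ) - (qInt q t : ℂ)) := by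
  intro k
  induction k with
  | zero => simp [qFall]
  | succ k ih =>
    rw [Finset.prod_range_succ, ← ih, qFall, Finset.prod_range_succ, Nat.choose_succ_succ,
      Nat.choose_one_right, pow_add, Nat.cast_mul]
    rcases le_or_gt k m with hk | hk
    · have : (q : ℂ) ^ k * (qInt q (m - k) : ℂ) = (qInt q m : ℂ) - (qInt q k : ℂ) := by
        rw [eq_sub_iff_add_eq]
        norm_cast
        rw [qInt, qInt, qInt, Finset.mul_sum, add_comm]
        conv_rhs => rw [← Nat.add_sub_cancel' hk, Finset.sum_range_add]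
        simp [pow_add]
      rw [← this, qFall]
      ring
    · have : (qFall q m k : ℂ) = 0 := by rw [qFall_eq_zero q m k hk, Nat.cast_zero]
      rw [qFall] at this
      rw [this, qFall, this]
      ring

theorem choose_three : ∀ n : ℕ, ∑ j : Fin n, (j.val).choose 2 = n * (n - 1) * (n - 2) / 6 := by
  intro n
  have h1 : ∑ j : Fin n, (j.val).choose 2 = n.choose 3 := by
    induction n with
    | zero => rfl
    | succ n ih =>
      rw [Fin.sum_univ_castSucc, Nat.choose_succ_succ]
      simp [ih, add_comm]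
  rw [h1, Nat.choose_eq_descFactorial_div_factorial]
  congr 1
  simp [Nat.descFactorial_succ]
  ring


/-- Degrees of the partition-indexed irreducible characters of `GL_n(q)`: for `ν` a partition of `n` with `n` non-decreasing parts `ν_0 ≤ ⋯ ≤ ν_{n−1}` (zeros allowed; positions counted from 0) and `λ_i = ν_i + i`, write `Q(r)` for the q-integer `1 + q + ⋯ + q^(r−1)` and `Q!(r)` for `Q(1)Q(2)⋯Q(r)`; then the degree `γ(ν)` of the character satisfies `γ(ν) · q^(n(n−1)(n−2)/6) · ∏_i Q!(λ_i) = Q!(n) · ∏_{i<j} (Q(λ_j) − Q(λ_i))`. For `ν = (1,…,1)` this gives the Steinberg degree `q^(n(n−1)/2)`, for `ν = (0,…,0,n)` degree 1. -/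
theorem result {F : Type*} [Field F] [Fintype F] {q : ℕ} (hq : Fintype.card F = q) {n : ℕ} (ν : Fin n → ℕ) (hmono : Monotone ν) (hsum : ∑ i, ν i = n) :
    Cfsg.unipotentCharacterGL n F ν 1 * (q : ℂ) ^ (n * (n - 1) * (n - 2) / 6) *
        ∏ i : Fin n, ∏ j ∈ Finset.range (ν i + i.val), ((∑ l ∈ Finset.range (j + 1), q ^ l : ℕ) : ℂ) =
      (∏ j ∈ Finset.range n, ((∑ l ∈ Finset.range (j + 1), q ^ l : ℕ) : ℂ)) *
        ∏ i : Fin n, ∏ j ∈ Finset.univ.filter (fun j : Fin n => i < j),
          (((∑ l ∈ Finset.range (ν j + j.val), q ^ l : ℕ) : ℂ) - ((∑ l ∈ Finset.range (ν i + i.val), q ^ l : ℕ) : ℂ)) := by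
  classical
  set lam : Fin n → ℕ := fun i => ν i + i.val with hlam
  have hdef : ∀ m, ∏ j ∈ Finset.range m, ((∑ l ∈ Finset.range (j + 1), q ^ l : ℕ) : ℂ) = (qFact q m : ℂ) :=
    fun m => by simp [qFact, qInt]
  simp only [hdef]
  change _ * _ * ∏ i, (qFact q (lam i) : ℂ) = (qFact q n : ℂ) *
    ∏ i : Fin n, ∏ j ∈ Finset.univ.filter (fun j : Fin n => i < j), ((qInt q (lam j) : ℂ) - (qInt q (lam i) : ℂ))
  have hterm : Cfsg.unipotentCharacterGL n F ν 1 * ∏ i, (qFact q (lam i) : ℂ) =
      (qFact q n : ℂ) * (Matrix.of fun j i : Fin n => (qFall q (lam i) j.val : ℂ)).det := by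
    rw [Matrix.det_apply', Finset.mul_sum, Cfsg.unipotentCharacterGL, Finset.sum_mul]
    refine Finset.sum_congr rfl fun κ _ => ?_
    simp only [Matrix.of_apply]
    by_cases hκ : ∀ i : Fin n, (κ i).val ≤ ν i + i.val
    · rw [if_pos hκ]
      have hP : ∑ i : Fin n, (ν i + i.val - (κ i).val) = n :=
        Cfsg.Agent.GLUnipotentChars.sum_parts ν hsum κ hκ
      have h1 := index_mul (F := F) (fun i => ν i + i.val - (κ i).val) hP hq
      have h2 : Cfsg.fixedPointCharacter (Cfsg.parabolicGL n F fun i => ν i + i.val - (κ i).val) 1 =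
          (Nat.card (GL (Fin n) F ⧸ Cfsg.parabolicGL n F fun i => ν i + i.val - (κ i).val) : ℂ) := by
        rw [Cfsg.fixedPointCharacter, MulAction.fixedBy_one_eq_univ, Nat.card_univ]
      rw [h2, ← h1]
      simp only [fun i => qFact_eq q (lam i) (κ i).val (hκ i), Nat.cast_mul, Nat.cast_prod,
        Finset.prod_mul_distrib]
      rw [hlam]
      ring
    · rw [if_neg hκ, zero_mul]
      push Not at hκ
      obtain ⟨i, hi⟩ := hκ
      rw [Finset.prod_eq_zero (Finset.mem_univ i) (by rw [qFall_eq_zero q _ _ hi, Nat.cast_zero]),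
        mul_zero, mul_zero]
  have hdet : (q : ℂ) ^ (n * (n - 1) * (n - 2) / 6) * (Matrix.of fun j i : Fin n => (qFall q (lam i) j.val : ℂ)).det =
      (Matrix.vandermonde fun i : Fin n => (qInt q (lam i) : ℂ)).det := by
    let p : Fin n → ℂ[X] := fun j => ∏ t ∈ Finset.range j.val, (X - C (qInt q t : ℂ))
    have hdeg : ∀ j, (p j).natDegree = j.val := fun j => by
      rw [Polynomial.natDegree_prod_of_monic _ _ fun t _ => monic_X_sub_C _,
        Finset.sum_congr rfl fun t _ => natDegree_X_sub_C _]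
      simp
    rw [Matrix.det_eval_matrixOfPolynomials_eq_det_vandermonde _ p hdeg
      (fun j => monic_prod_of_monic _ _ fun t _ => monic_X_sub_C _), ← choose_three,
      ← Finset.prod_pow_eq_pow_sum]
    rw [← Matrix.det_transpose, ← Matrix.det_mul_row]
    congr 1
    ext i j
    simp [p, Polynomial.eval_prod, Matrix.transpose_apply, ← qFall_poly]
  calc Cfsg.unipotentCharacterGL n F ν 1 * (q : ℂ) ^ (n * (n - 1) * (n - 2) / 6) * ∏ i, (qFact q (lam i) : ℂ)
      = (Cfsg.unipotentCharacterGL n F ν 1 * ∏ i, (qFact q (lam i) : ℂ)) *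
          (q : ℂ) ^ (n * (n - 1) * (n - 2) / 6) := by ring
    _ = (qFact q n : ℂ) * (Matrix.vandermonde fun i : Fin n => (qInt q (lam i) : ℂ)).det := by
        rw [hterm, ← hdet]; ring
    _ = _ := by rw [Matrix.det_vandermonde]; simp [Finset.filter_lt_eq_Ioi]

end Cfsg.Agent.S2424
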