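import Mathlib
import Cfsg.Agent.Lib.PGroupsCyclic
import Cfsg.Statements.S3370
-- import your own Cfsg.Agent.* helpers here

set_option autoImplicit false
open Cfsg

namespace Cfsg.Agent.S3370

theorem pow_eq_of_pred {q n p a : ℕ} (hq : q = 2) (hn : 2 ≤ n) (hp : p.Prime) (h : q ^ n - 1 = p ^ a) :
    a = 1 := by
  subst hq
  have hpos : 1 ≤ 2 ^ n := Nat.one_le_two_pow
  have h4 : 4 ∣ 2 ^ n := by
    obtain ⟨k, rfl⟩ := Nat.exists_eq_add_of_le hn
    exact ⟨2 ^ k, by rw [pow_add]; rfl⟩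
  have hge : 4 ≤ 2 ^ n := Nat.le_of_dvd (by positivity) h4
  have hodd : ¬ Even (p ^ a) := by
    rw [← h, Nat.even_iff]
    obtain ⟨k, hk⟩ := h4
    omega
  rcases Nat.even_or_odd a with ⟨b, rfl⟩ | ⟨b, rfl⟩
  · exfalso
    rcases Nat.eq_zero_or_pos b with rfl | hb
    · simp at h; omega
    have h1 : p ^ (b + b) % 4 = 1 := by
      have hpo : Odd p := Nat.not_even_iff_odd.1 fun he => hodd ((Nat.even_pow' (by omega)).2 he)
      obtain ⟨k, hk⟩ := hpo.pow (n := b)
      rw [pow_add, hk]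
      have : (2 * k + 1) * (2 * k + 1) = 4 * (k * k + k) + 1 := by ring
      omega
    obtain ⟨k, hk⟩ := h4
    omega
  · by_contra hb
    have hp3 : 2 ≤ p := hp.two_le
    have heq : p ^ (2 * b + 1) + 1 = 2 ^ n := by omega
    -- p + 1 is a power of two dividing p ^ a + 1
    have hd : p + 1 ∣ p ^ (2 * b + 1) + 1 := by
      have := (show Odd (2 * b + 1) from ⟨b, rfl⟩).nat_add_dvd_pow_add_pow p 1
      simpa using this
    obtain ⟨j, -, hj⟩ := (Nat.dvd_prime_pow Nat.prime_two).1 (heq ▸ hd)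
    obtain ⟨i, hi⟩ : ∃ i, (p : ℤ) ^ (2 * b + 1) + 1 = ((p : ℤ) + 1) * ((2 * b + 1 : ℕ) + ((p : ℤ) + 1) * i) := by
      have key : ∀ c : ℕ, ∃ i, (p : ℤ) ^ (2 * c + 1) + 1 = ((p : ℤ) + 1) * ((2 * c + 1 : ℕ) + ((p : ℤ) + 1) * i) := by
        intro c
        induction c with
        | zero => exact ⟨0, by simp⟩
        | succ c ih =>
          obtain ⟨i, hi⟩ := ih
          refine ⟨(p : ℤ) ^ 2 * i + (2 * c + 1) * ((p : ℤ) - 1) - 1, ?_⟩
          have h1 : (p : ℤ) ^ (2 * (c + 1) + 1) + 1 = (p : ℤ) ^ 2 * ((p : ℤ) ^ (2 * c + 1) + 1) - ((p : ℤ) ^ 2 - 1) := by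
            ring
          rw [h1, hi]
          push_cast
          ring
      exact key b
    have hZ : ((p : ℤ) + 1) = 2 ^ j := by exact_mod_cast hj
    have h2n : (p : ℤ) ^ (2 * b + 1) + 1 = 2 ^ n := by exact_mod_cast heq
    rw [h2n, hZ] at hi
    have hj1 : 1 ≤ j := by
      by_contra hj0
      rw [show j = 0 by omega, pow_zero] at hj
      omega
    have hbig : 2 ^ j < 2 ^ n := by
      rw [← hj, ← heq]
      have : p ^ 1 < p ^ (2 * b + 1) := Nat.pow_lt_pow_right (by omega) (by omega)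
      rw [pow_one] at this
      omega
    have hjn : j < n := (Nat.pow_lt_pow_iff_right (by norm_num)).1 hbig
    obtain ⟨k, rfl⟩ := Nat.exists_eq_add_of_lt hjn
    rw [show j + k + 1 = j + (k + 1) by ring, pow_add] at hi
    have h5 := mul_left_cancel₀ (pow_ne_zero j (two_ne_zero (α := ℤ))) hi
    have h6 : (2 : ℤ) ∣ ((2 * b + 1 : ℕ) : ℤ) := by
      have e : ((2 * b + 1 : ℕ) : ℤ) = 2 ^ (k + 1) - 2 ^ j * i := by linarith
      rw [e]
      exact dvd_sub (dvd_pow_self 2 (Nat.succ_ne_zero k)) (Dvd.dvd.mul_right (dvd_pow_self 2 (by omega)) i)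
    omega

theorem pow_pred_two_pow {q n a : ℕ} (hq : q.Prime) (hq2 : q ≠ 2) (hn : 2 ≤ n) (h : q ^ n - 1 = 2 ^ a) :
    q = 3 ∧ n = 2 := by
  have hq3 : 3 ≤ q := by have := hq.two_le; omega
  obtain ⟨u, hu⟩ := hq.odd_of_ne_two hq2
  rcases Nat.even_or_odd n with ⟨b, rfl⟩ | ⟨b, rfl⟩
  · have hb : 1 ≤ b := by omega
    have hx : 3 ≤ q ^ b := le_trans hq3 (Nat.le_self_pow (by omega) q)
    have hfac : (q ^ b - 1) * (q ^ b + 1) = 2 ^ a := by
      rw [← h, pow_add, Nat.sub_mul, one_mul, mul_add, mul_one]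
      omega
    obtain ⟨i, -, hi⟩ := (Nat.dvd_prime_pow Nat.prime_two).1 (Dvd.intro _ hfac)
    obtain ⟨j, -, hj⟩ := (Nat.dvd_prime_pow Nat.prime_two).1 (Dvd.intro_left _ hfac)
    have hi1 : i = 1 := by
      have hij : i < j := by
        have : 2 ^ i < 2 ^ j := by omega
        exact (Nat.pow_lt_pow_iff_right (by norm_num)).1 this
      have h2 : 2 ^ i ∣ 2 := by
        have h3 : 2 ^ i ∣ 2 ^ j := Nat.pow_dvd_pow 2 hij.le
        have h4 : 2 ^ j = 2 ^ i + 2 := by omega
        rw [h4] at h3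
        exact (Nat.dvd_add_right dvd_rfl).1 h3
      have := Nat.le_of_dvd (by norm_num) h2
      rcases i with _ | _ | i
      · simp at hi; omega
      · rfl
      · rw [pow_succ, pow_succ] at this
        have := Nat.one_le_two_pow (n := i)
        omega
    subst hi1
    have hqb : q ^ b = 3 := by omega
    have hb1 : b = 1 := by
      by_contra hb1
      have : q ^ 2 ≤ q ^ b := Nat.pow_le_pow_right (by omega) (by omega)
      nlinarith
    subst hb1
    exact ⟨by simpa using hqb, rfl⟩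
  · exfalso
    obtain ⟨i, hi⟩ : ∃ i, (q : ℤ) ^ (2 * b + 1) - 1 = ((q : ℤ) - 1) * ((2 * b + 1 : ℕ) + ((q : ℤ) - 1) * i) := by
      have key : ∀ c : ℕ, ∃ i, (q : ℤ) ^ (2 * c + 1) - 1 = ((q : ℤ) - 1) * ((2 * c + 1 : ℕ) + ((q : ℤ) - 1) * i) := by
        intro c
        induction c with
        | zero => exact ⟨0, by simp⟩
        | succ c ih =>
          obtain ⟨i, hi⟩ := ih
          refine ⟨(q : ℤ) ^ 2 * i + (2 * c + 1) * ((q : ℤ) + 1) + 1, ?_⟩
          have h1 : (q : ℤ) ^ (2 * (c + 1) + 1) - 1 = (q : ℤ) ^ 2 * ((q : ℤ) ^ (2 * c + 1) - 1) + ((q : ℤ) ^ 2 - 1) := by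
            ring
          rw [h1, hi]
          push_cast
          ring
      exact key b
    have h1 : 1 ≤ q ^ (2 * b + 1) := Nat.one_le_pow _ _ (by omega)
    have hZ : (q : ℤ) ^ (2 * b + 1) - 1 = 2 ^ a := by
      have : q ^ (2 * b + 1) = 2 ^ a + 1 := by omega
      have h2 : ((q : ℤ)) ^ (2 * b + 1) = 2 ^ a + 1 := by exact_mod_cast this
      omega
    set d : ℤ := ((2 * b + 1 : ℕ) : ℤ) + ((q : ℤ) - 1) * i with hd
    rw [hZ] at hi
    have hdodd : ¬ (2 : ℤ) ∣ d := by
      intro h2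
      have hq1 : (2 : ℤ) ∣ (q : ℤ) - 1 := ⟨(u : ℤ), by rw [hu]; push_cast; ring⟩
      have h3 : (2 : ℤ) ∣ ((q : ℤ) - 1) * i := Dvd.dvd.mul_right hq1 i
      have := dvd_sub h2 h3
      rw [hd, add_sub_cancel_right] at this
      omega
    have hdu : IsUnit d := by
      have hdvd : d ∣ (2 : ℤ) ^ a := ⟨(q : ℤ) - 1, by rw [hi]; ring⟩
      exact ((Int.prime_two.coprime_iff_not_dvd.2 hdodd).pow_left (m := a)).isUnit_of_dvd' hdvd dvd_rfl
    have hqq : q < q ^ (2 * b + 1) := by
      nth_rewrite 1 [← pow_one q]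
      exact Nat.pow_lt_pow_right (by omega) (by omega)
    have h2 : (q : ℤ) - 1 < 2 ^ a := by
      rw [← hZ]
      have : (q : ℤ) < (q : ℤ) ^ (2 * b + 1) := by exact_mod_cast hqq
      linarith
    rcases Int.isUnit_iff.1 hdu with hd1 | hd1 <;> rw [hd1] at hi <;> omega

/-- the semidihedral Sylow subgroup of GL(2,3), as a finset of matrices -/
def sd16 : Finset (Matrix (Fin 2) (Fin 2) (ZMod 3)) :=
  (Finset.range 8).biUnion fun i =>
    {!![(1 : ZMod 3), 1; 1, 0] ^ i, !![(1 : ZMod 3), 1; 1, 0] ^ i * !![1, 0; 2, 2]}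

theorem sd16_mul : ∀ A ∈ sd16, ∀ B ∈ sd16, A * B ∈ sd16 := by decide +kernel

theorem sd16_card : sd16.card = 16 := by decide +kernel

theorem sd16_facts : (1 : Matrix (Fin 2) (Fin 2) (ZMod 3)) ∈ sd16 ∧ !![(1 : ZMod 3), 1; 1, 0] ∈ sd16 ∧
    !![(1 : ZMod 3), 0; 2, 2] ∈ sd16 ∧ (∀ A ∈ sd16, A.det ≠ 0) ∧
    !![(1 : ZMod 3), 1; 1, 0] ^ 8 = 1 ∧ !![(1 : ZMod 3), 1; 1, 0] ^ 4 ≠ 1 ∧
    !![(1 : ZMod 3), 0; 2, 2] * !![1, 0; 2, 2] = 1 ∧ !![(1 : ZMod 3), 0; 2, 2] ≠ 1 ∧
    !![(1 : ZMod 3), 0; 2, 2] * !![1, 1; 1, 0] = !![(1 : ZMod 3), 1; 1, 0] ^ 3 * !![1, 0; 2, 2] := by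
  decide +kernel

theorem card_GL23 : Nat.card (GL (Fin 2) (ZMod 3)) = 48 := by
  haveI : Fact (Nat.Prime 3) := ⟨by norm_num⟩
  rw [Matrix.card_GL_field, Fin.prod_univ_two, ZMod.card]
  rfl

/-- A subgroup of order 16 of GL(2,3) is semidihedral. -/
theorem isQuasiDihedral_sixteen {G : Type*} [Group G] [Finite G] (f : G →* GL (Fin 2) (ZMod 3))
    (hf : Function.Injective f) (hG : Nat.card G = 16) : Cfsg.IsQuasiDihedral G := by
  classical
  haveI : Fact (Nat.Prime 2) := ⟨Nat.prime_two⟩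
  obtain ⟨h1, hx, hy, hdet, hx8, hx4, hy2, hy1, hyx⟩ := sd16_facts
  let S : Submonoid (GL (Fin 2) (ZMod 3)) :=
    { carrier := {g | (g : Matrix (Fin 2) (Fin 2) (ZMod 3)) ∈ sd16}
      one_mem' := by simpa using h1
      mul_mem' := fun {a b} ha hb => by simpa using sd16_mul _ ha _ hb }
  let P0 : Subgroup (GL (Fin 2) (ZMod 3)) :=
    { toSubmonoid := S, inv_mem' := fun {g} hg => by
        obtain ⟨k, hk⟩ := (isOfFinOrder_of_finite g).mem_powers_iff_mem_zpowers.2
          (Subgroup.inv_mem _ (Subgroup.mem_zpowers g))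
        show g⁻¹ ∈ S
        have hk' : g ^ k = g⁻¹ := hk
        exact hk' ▸ S.pow_mem hg k }
  have hmem : ∀ g : GL (Fin 2) (ZMod 3), g ∈ P0 ↔ (g : Matrix (Fin 2) (Fin 2) (ZMod 3)) ∈ sd16 := fun g => Iff.rfl
  let mk : ∀ A ∈ sd16, GL (Fin 2) (ZMod 3) := fun A hA =>
    Matrix.GeneralLinearGroup.mkOfDetNeZero A (hdet A hA)
  have hP : Nat.card P0 = 16 := by
    rw [← sd16_card, ← Nat.card_eq_finsetCard]
    exact Nat.card_congr
      { toFun := fun g => ⟨_, (hmem g.1).1 g.2⟩
        invFun := fun A => ⟨mk A.1 A.2, (hmem _).2 (by simpa [mk] using A.2)⟩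
        left_inv := fun g => Subtype.ext (Units.ext (by simp [mk]))
        right_inv := fun A => Subtype.ext (by simp [mk]) }
  have h48 : Nat.card (GL (Fin 2) (ZMod 3)) = 2 ^ 4 * 3 := card_GL23
  have hm : (Nat.card (GL (Fin 2) (ZMod 3))).factorization 2 = 4 := by
    rw [h48, Nat.factorization_mul (by norm_num) (by norm_num), Finsupp.add_apply, Nat.Prime.factorization_pow Nat.prime_two,
      Nat.Prime.factorization (by norm_num : Nat.Prime 3)]
    simp
  have hR : Nat.card f.range = 16 := by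
    rw [← hG]; exact (Nat.card_congr (MonoidHom.ofInjective hf).toEquiv).symm
  let S1 : Sylow 2 (GL (Fin 2) (ZMod 3)) := Sylow.ofCard f.range (by rw [hR, hm]; rfl)
  let S2 : Sylow 2 (GL (Fin 2) (ZMod 3)) := Sylow.ofCard P0 (by rw [hP, hm]; rfl)
  let e : P0 ≃* G := (Sylow.equiv S2 S1).trans (MonoidHom.ofInjective hf).symm
  let X : P0 := ⟨mk _ hx, (hmem _).2 (by simpa [mk] using hx)⟩
  let Y : P0 := ⟨mk _ hy, (hmem _).2 (by simpa [mk] using hy)⟩
  refine ⟨3, le_rfl, hG, e X, e Y, ?_, ?_, ?_⟩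
  · rw [MulEquiv.orderOf_eq]
    refine orderOf_eq_prime_pow ?_ ?_
    · intro h
      exact hx4 (by simpa [X, mk] using congrArg (fun g : P0 => ((g : GL (Fin 2) (ZMod 3)) : Matrix (Fin 2) (Fin 2) (ZMod 3))) h)
    · exact Subtype.ext (Units.ext (by simpa [X, mk] using hx8))
  · rw [MulEquiv.orderOf_eq]
    refine orderOf_eq_prime ?_ ?_
    · exact Subtype.ext (Units.ext (by simpa [Y, mk, sq] using hy2))
    · intro h
      exact hy1 (by simpa [Y, mk] using congrArg (fun g : P0 => ((g : GL (Fin 2) (ZMod 3)) : Matrix (Fin 2) (Fin 2) (ZMod 3))) h)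
  · rw [← map_mul, ← map_inv, ← map_mul, ← map_pow]
    congr 1
    rw [mul_inv_eq_iff_eq_mul]
    exact Subtype.ext (Units.ext (by simpa [X, Y, mk] using hyx))

/-- Let q be a prime, V a non-trivial finite vector space over the field with q elements, and G a non-trivial finite p-group (p prime) acting faithfully and linearly on V and transitively on the non-zero vectors. Then either q = 2 and G has prime order p = |V| − 1; or p = 2, V has q elements with q = 2^m + 1 and G is cyclic of order 2^m; or p = 2, q = 3, V has 9 elements and G is cyclic of order 8, quaternion of order 8, or semidihedral of order 16. -/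
theorem result (q : ℕ) [Fact q.Prime] {V : Type*} [AddCommGroup V] [Module (ZMod q) V] [Finite V] [Nontrivial V]
    {G : Type*} [Group G] [Finite G] [Nontrivial G] (p : ℕ) [Fact p.Prime] (hG : IsPGroup p G)
    (ρ : G →* (V ≃ₗ[ZMod q] V)) (hρ : Function.Injective ρ)
    (htrans : ∀ v w : V, v ≠ 0 → w ≠ 0 → ∃ g : G, ρ g v = w) :
    (q = 2 ∧ p = Nat.card V - 1 ∧ Nat.card G = p) ∨
    (p = 2 ∧ Nat.card V = q ∧ (∃ m : ℕ, q = 2 ^ m + 1 ∧ Nat.card G = 2 ^ m) ∧ IsCyclic G) ∨
    (p = 2 ∧ q = 3 ∧ Nat.card V = 9 ∧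
      ((IsCyclic G ∧ Nat.card G = 8) ∨ Nonempty (G ≃* QuaternionGroup 2) ∨ (Cfsg.IsQuasiDihedral G ∧ Nat.card G = 16))) := by
  have hq : q.Prime := Fact.out
  have hp : p.Prime := Fact.out
  have hmul : ∀ (g h : G) (v : V), ρ (g * h) v = ρ g (ρ h v) := fun g h v => by rw [map_mul]; rfl
  let _ : MulAction G {v : V // v ≠ 0} :=
    { smul := fun g v => ⟨ρ g v.1, fun h => v.2 ((ρ g).map_eq_zero_iff.1 h)⟩
      one_smul := fun v => Subtype.ext (by show ρ 1 v.1 = v.1; rw [map_one]; rfl)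
      mul_smul := fun g h v => Subtype.ext (hmul g h v.1) }
  haveI : MulAction.IsPretransitive G {v : V // v ≠ 0} := ⟨fun v w => by
    obtain ⟨g, hg⟩ := htrans v.1 w.1 v.2 w.2
    exact ⟨g, Subtype.ext hg⟩⟩
  haveI : FaithfulSMul G {v : V // v ≠ 0} := ⟨fun {g h} hgh => hρ (LinearEquiv.ext fun v => by
    by_cases hv : v = 0
    · rw [hv, map_zero, map_zero]
    · exact congrArg Subtype.val (hgh ⟨v, hv⟩))⟩
  haveI : Nonempty {v : V // v ≠ 0} := by obtain ⟨v, hv⟩ := exists_ne (0 : V); exact ⟨⟨v, hv⟩⟩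
  have hsub : Nat.card {v : V // v ≠ 0} = Nat.card V - 1 := by
    haveI := Fintype.ofFinite V
    classical
    rw [Nat.card_eq_fintype_card, Nat.card_eq_fintype_card, Fintype.card_subtype_compl, Fintype.card_subtype_eq]
  obtain ⟨v0⟩ := ‹Nonempty {v : V // v ≠ 0}›
  obtain ⟨a, ha⟩ : ∃ a, Nat.card V - 1 = p ^ a := by
    obtain ⟨k, hk⟩ := hG.card_orbit v0
    refine ⟨k, ?_⟩
    rw [← hsub, ← hk, MulAction.orbit_eq_univ, Nat.card_univ]
  set n := Module.finrank (ZMod q) V with hn
  have hV : Nat.card V = q ^ n := by rw [Module.natCard_eq_pow_finrank (K := ZMod q), Nat.card_zmod]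
  have hn1 : 1 ≤ n := Module.finrank_pos
  have hGgt : 1 < Nat.card G := Finite.one_lt_card
  by_cases hq2 : q = 2
  · left
    subst hq2
    have hn2 : 2 ≤ n := by
      by_contra hn2
      have h2 : Nat.card {v : V // v ≠ 0} = 1 := by rw [hsub, hV, show n = 1 by omega]; norm_num
      haveI := (Nat.card_eq_one_iff_unique.1 h2).1
      obtain ⟨g, hg⟩ := exists_ne (1 : G)
      exact hg (eq_of_smul_eq_smul (α := {v : V // v ≠ 0}) fun v => Subsingleton.elim _ _)
    have ha1 := pow_eq_of_pred rfl hn2 hp (hV ▸ ha)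
    rw [ha1, pow_one] at ha
    refine ⟨rfl, ha.symm, ?_⟩
    -- G embeds in the symmetric group of degree p
    have hd : Nat.card G ∣ p.factorial := by
      rw [← ha, ← hsub, ← Nat.card_perm]
      exact Subgroup.card_dvd_of_injective (MulAction.toPermHom G {v : V // v ≠ 0})
        MulAction.toPerm_injective
    obtain ⟨e, he⟩ := IsPGroup.iff_card.1 hG
    rw [he] at hd hGgt ⊢
    have hple : e ≤ 1 := by
      by_contra hple
      have h2 : p ^ 2 ∣ p.factorial := dvd_trans (Nat.pow_dvd_pow p (by omega)) hd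
      rw [← Nat.mul_factorial_pred hp.ne_zero, sq] at h2
      have h3 := Nat.dvd_of_mul_dvd_mul_left hp.pos h2
      have := hp.dvd_factorial.1 h3
      have := hp.two_le
      omega
    rcases Nat.le_one_iff_eq_zero_or_eq_one.1 hple with rfl | rfl
    · simp at hGgt
    · rw [pow_one]
  have hodd : Odd (q ^ n) := (hq.odd_of_ne_two hq2).pow
  have ha0 : a ≠ 0 := by
    rintro rfl
    rw [hV, pow_zero] at ha
    obtain ⟨k, hk⟩ := hodd
    omega
  have hp2 : p = 2 := by
    have h2 : 2 ∣ p ^ a := by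
      rw [← ha, hV]; obtain ⟨k, hk⟩ := hodd; exact ⟨k, by omega⟩
    exact ((Nat.prime_dvd_prime_iff_eq Nat.prime_two hp).1 (Nat.prime_two.dvd_of_dvd_pow h2)).symm
  subst hp2
  right
  rcases Nat.lt_or_ge n 2 with hn2 | hn2
  · -- dimension one
    left
    have hn' : n = 1 := by omega
    have hscal : ∀ g : G, ∃ c : ZMod q, ρ g v0.1 = c • v0.1 := by
      intro g
      obtain ⟨c, hc⟩ := (finrank_eq_one_iff_of_nonzero' v0.1 v0.2).1 hn' (ρ g v0.1)
      exact ⟨c, hc.symm⟩
    have hstab : MulAction.stabilizer G v0 = ⊥ := by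
      rw [Subgroup.eq_bot_iff_forall]
      intro g hg
      apply hρ
      refine LinearEquiv.ext fun v => ?_
      obtain ⟨c, hc⟩ := (finrank_eq_one_iff_of_nonzero' v0.1 v0.2).1 hn' v
      rw [← hc, map_smul, show ρ g v0.1 = v0.1 from congrArg Subtype.val hg, map_one]
      rfl
    have hcard : Nat.card G = 2 ^ a := by
      have := MulAction.index_stabilizer_of_transitive G v0
      rw [hstab, Subgroup.index_bot, hsub, ha] at this
      exact this
    choose c hc using hscal
    let χ : G →* ZMod q :=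
      { toFun := c
        map_one' := by
          have := hc 1
          rw [map_one] at this
          exact smul_left_injective (ZMod q) v0.2 (this.symm.trans (one_smul _ _).symm)
        map_mul' := fun g h => by
          have h1 := hc (g * h)
          rw [hmul, hc h, map_smul, hc g, smul_smul, mul_comm] at h1
          exact (smul_left_injective (ZMod q) v0.2 h1).symm }
    have hχ : Function.Injective χ := by
      intro g h hgh
      have hgh' : c g = c h := hgh
      apply hρ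
      refine LinearEquiv.ext fun v => ?_
      obtain ⟨d, hd⟩ := (finrank_eq_one_iff_of_nonzero' v0.1 v0.2).1 hn' v
      rw [← hd, map_smul, map_smul, hc g, hc h, hgh']
    refine ⟨rfl, by rw [hV, hn', pow_one], ⟨a, ?_, hcard⟩, isCyclic_of_subgroup_isDomain χ hχ⟩
    rw [hV, hn', pow_one] at ha
    have := hq.two_le
    omega
  · right
    obtain ⟨rfl, hn'⟩ := pow_pred_two_pow hq hq2 hn2 (hV ▸ ha)
    have hV9 : Nat.card V = 9 := by rw [hV, hn']; norm_num
    refine ⟨rfl, rfl, hV9, ?_⟩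
    let b : Module.Basis (Fin 2) (ZMod 3) V := Module.finBasisOfFinrankEq (ZMod 3) V hn'
    let f : G →* GL (Fin 2) (ZMod 3) :=
      ((LinearMap.toMatrixAlgEquiv b).toAlgHom.toMonoidHom.comp
        ((DistribMulAction.toModuleEnd (ZMod 3) V).comp ρ)).toHomUnits
    have hf : Function.Injective f := by
      intro g h hgh
      apply hρ
      have h1 := (LinearMap.toMatrixAlgEquiv b).injective (congrArg Units.val hgh)
      exact LinearEquiv.ext fun v => LinearMap.congr_fun h1 v
    have hdvd : Nat.card G ∣ 48 := card_GL23 ▸ Subgroup.card_dvd_of_injective f hf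
    obtain ⟨e, he⟩ := IsPGroup.iff_card.1 hG
    have h8 : 8 ∣ Nat.card G := by
      have := MulAction.index_stabilizer_of_transitive G v0
      rw [hsub, hV9] at this
      have h := Subgroup.index_dvd_card (MulAction.stabilizer G v0)
      rw [this] at h
      exact h
    have hcases : Nat.card G = 8 ∨ Nat.card G = 16 := by
      rw [he] at hdvd h8 ⊢
      have he4 : e ≤ 4 := by
        by_contra h
        have h32 : 2 ^ 5 ∣ 48 := dvd_trans (Nat.pow_dvd_pow 2 (by omega)) hdvd
        norm_num at h32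
      interval_cases e <;> first | (norm_num at h8; done) | norm_num
    rcases hcases with h8G | h16
    · have hst : ∀ v : {v : V // v ≠ 0}, MulAction.stabilizer G v = ⊥ := by
        intro v
        have h1 := MulAction.index_stabilizer_of_transitive G v
        rw [hsub, hV9] at h1
        have h2 := (MulAction.stabilizer G v).card_mul_index
        rw [h1, h8G] at h2
        exact Subgroup.card_eq_one.1 (by omega)
      -- the only involution is minus the identity
      have hinv : ∀ g : G, g ^ 2 = 1 → g ≠ 1 → ∀ v, ρ g v = -v := by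
        intro g hg2 hg1 v
        refine eq_neg_of_add_eq_zero_right ?_
        by_contra h0
        apply hg1
        have hmem : g ∈ MulAction.stabilizer G (⟨_, h0⟩ : {v : V // v ≠ 0}) := by
          apply Subtype.ext
          show ρ g (v + ρ g v) = v + ρ g v
          rw [map_add, ← hmul, ← sq, hg2, map_one, add_comm]
          rfl
        rwa [hst, Subgroup.mem_bot] at hmem
      have huniq : ∀ H K : Subgroup G, Nat.card H = 2 → Nat.card K = 2 → H = K := by
        intro H K hH hK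
        have key : ∀ H : Subgroup G, Nat.card H = 2 → ∃ g ∈ H, g ^ 2 = 1 ∧ g ≠ 1 ∧ Subgroup.zpowers g = H := by
          intro H hH
          haveI : Nontrivial H := Finite.one_lt_card_iff_nontrivial.1 (by omega)
          obtain ⟨g, hg⟩ := exists_ne (1 : H)
          have h2 : (g : G) ^ 2 = 1 := by
            have h3 : g ^ 2 = 1 := by rw [← hH]; exact pow_card_eq_one'
            exact congrArg Subtype.val h3
          have hg1 : (g : G) ≠ 1 := fun h => hg (Subtype.ext h)
          refine ⟨g, g.2, h2, hg1, Subgroup.eq_of_le_of_card_ge (Subgroup.zpowers_le.2 g.2) ?_⟩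
          rw [hH, Nat.card_zpowers, orderOf_eq_prime h2 hg1]
        obtain ⟨g, -, hg2, hg1, hgH⟩ := key H hH
        obtain ⟨k, -, hk2, hk1, hkK⟩ := key K hK
        rw [← hgH, ← hkK, hρ (LinearEquiv.ext fun v => (hinv g hg2 hg1 v).trans (hinv k hk2 hk1 v).symm)]
      rcases PGroupsCyclic.isCyclic_or_quaternion hG huniq with hc | ⟨-, m, ⟨eq⟩⟩
      · exact Or.inl ⟨hc, h8G⟩
      · refine Or.inr (Or.inl ⟨eq.trans ?_⟩)
        have h4 : Nat.card G = 4 * 2 ^ m := by
          haveI : NeZero (2 ^ m) := ⟨pow_ne_zero _ (by norm_num)⟩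
          rw [Nat.card_congr eq.toEquiv, Nat.card_eq_fintype_card, QuaternionGroup.card]
        have hm : m = 1 := by
          rcases m with _ | _ | m
          · omega
          · rfl
          · rw [pow_succ, pow_succ] at h4
            have := Nat.one_le_two_pow (n := m)
            omega
        subst hm
        exact MulEquiv.refl _
    · exact Or.inr (Or.inr ⟨isQuasiDihedral_sixteen f hf h16, h16⟩)

end Cfsg.Agent.S3370
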