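import Cfsg.Statements.S2279
import Cfsg.Agent.Lib.RegUnipGen

set_option autoImplicit false
open Cfsg

namespace Cfsg.Agent.S2279


open Matrix RegUnipGen

section
variable {F : Type*} [Field F] {m : ℕ}

theorem group_identity {G : Type*} [Group G] (t0 t1 t2 z10 z21 z20 Z : G)
    (h10 : t1 * t0 = z10 * (t0 * t1)) (h21 : t2 * t1 = z21 * (t1 * t2)) (h20 : t2 * t0 = z20 * (t0 * t2))
    (hz210 : z21 * t0 = Z * (t0 * z21)) (hz102 : t2 * z10 = Z * (z10 * t2))
    (c10_0 : Commute z10 t0) (c10_1 : Commute z10 t1) (c21_1 : Commute z21 t1) (c21_2 : Commute z21 t2)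
    (c10_21 : Commute z10 z21)
    (c20_0 : Commute z20 t0) (c20_1 : Commute z20 t1) (c20_2 : Commute z20 t2) (c20_10 : Commute z20 z10)
    (c20_21 : Commute z20 z21) (cZ0 : Commute Z t0) (cZ1 : Commute Z t1) (cZ2 : Commute Z t2)
    (cZ10 : Commute Z z10) (cZ21 : Commute Z z21) (c20_Z : Commute z20 Z) :
    ((t0 * t1⁻¹) * (t1 * t2⁻¹) * (t0 * t1⁻¹)⁻¹ * (t1 * t2⁻¹)⁻¹) * (t0 * t1⁻¹) *
      ((t0 * t1⁻¹) * (t1 * t2⁻¹) * (t0 * t1⁻¹)⁻¹ * (t1 * t2⁻¹)⁻¹)⁻¹ * (t0 * t1⁻¹)⁻¹ = Z⁻¹ := by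
  have hC : (t0 * t1⁻¹) * (t1 * t2⁻¹) * (t0 * t1⁻¹)⁻¹ * (t1 * t2⁻¹)⁻¹ = z20 * Z * (z21⁻¹ * z10⁻¹) := by
    have a1 : t2⁻¹ * t1 = z21⁻¹ * (t1 * t2⁻¹) := by
      rw [inv_mul_eq_iff_eq_mul, ← mul_assoc, ← (c21_2.inv_left).eq, mul_assoc, ← mul_assoc t2, h21]
      group
    have a2 : t2⁻¹ * t0⁻¹ * t2 = z20 * t0⁻¹ := by
      have e : t0 * t2 = z20⁻¹ * (t2 * t0) := by rw [h20]; group
      calc t2⁻¹ * t0⁻¹ * t2 = (t0 * t2)⁻¹ * t2 := by group
        _ = t0⁻¹ * (t2⁻¹ * (z20 * t2)) := by rw [e]; group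
        _ = t0⁻¹ * z20 := by rw [c20_2.eq]; group
        _ = z20 * t0⁻¹ := c20_0.symm.inv_left.eq
    have a3 : t1 * t0⁻¹ * t1⁻¹ = t0⁻¹ * z10⁻¹ := by
      calc t1 * t0⁻¹ * t1⁻¹ = t1 * (t1 * t0)⁻¹ := by group
        _ = t1 * (z10 * (t0 * t1))⁻¹ := by rw [h10]
        _ = t0⁻¹ * z10⁻¹ := by
          rw [_root_.mul_inv_rev, _root_.mul_inv_rev]; group
    have a4 : t0 * z21⁻¹ * t0⁻¹ = Z * z21⁻¹ := by
      have e : t0 * z21⁻¹ = z21⁻¹ * (Z * t0) := by
        rw [eq_inv_mul_iff_mul_eq, ← mul_assoc, hz210]; group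
      rw [e, ← mul_assoc, mul_assoc _ t0, mul_inv_cancel, mul_one]
      exact (cZ21.inv_right).eq.symm
    calc (t0 * t1⁻¹) * (t1 * t2⁻¹) * (t0 * t1⁻¹)⁻¹ * (t1 * t2⁻¹)⁻¹
        = t0 * (t2⁻¹ * t1) * t0⁻¹ * t2 * t1⁻¹ := by group
      _ = t0 * z21⁻¹ * t1 * (t2⁻¹ * t0⁻¹ * t2) * t1⁻¹ := by rw [a1]; group
      _ = t0 * z21⁻¹ * (t1 * z20) * t0⁻¹ * t1⁻¹ := by rw [a2]; group
      _ = t0 * z21⁻¹ * z20 * (t1 * t0⁻¹ * t1⁻¹) := by rw [← c20_1.eq]; group
      _ = t0 * (z21⁻¹ * z20) * t0⁻¹ * z10⁻¹ := by rw [a3]; group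
      _ = t0 * z20 * z21⁻¹ * t0⁻¹ * z10⁻¹ := by rw [← (c20_21.inv_right).eq]; group
      _ = z20 * (t0 * z21⁻¹ * t0⁻¹) * z10⁻¹ := by rw [← c20_0.eq]; group
      _ = z20 * Z * (z21⁻¹ * z10⁻¹) := by rw [a4]; group
  rw [hC]
  set D := z21⁻¹ * z10⁻¹
  have d0 : D * t0 = Z⁻¹ * (t0 * D) := by
    have e : z21⁻¹ * t0 = Z⁻¹ * (t0 * z21⁻¹) := by
      rw [inv_mul_eq_iff_eq_mul, ← mul_assoc, ← (cZ21.inv_left).eq, mul_assoc, ← mul_assoc z21, hz210]
      group
    calc D * t0 = z21⁻¹ * (z10⁻¹ * t0) := by rw [mul_assoc]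
      _ = (z21⁻¹ * t0) * z10⁻¹ := by rw [c10_0.inv_left.eq]; group
      _ = Z⁻¹ * (t0 * D) := by rw [e]; simp only [D]; group
  have d1 : Commute D t1 := c21_1.inv_left.mul_left c10_1.inv_left
  have d2 : D * (t0 * t1⁻¹) = Z⁻¹ * ((t0 * t1⁻¹) * D) := by
    rw [← mul_assoc, d0, mul_assoc, mul_assoc, (d1.inv_right).eq]; group
  have cz : Commute (z20 * Z) (t0 * t1⁻¹) :=
    (c20_0.mul_left cZ0).mul_right ((c20_1.mul_left cZ1).inv_right)
  calc z20 * Z * D * (t0 * t1⁻¹) * (z20 * Z * D)⁻¹ * (t0 * t1⁻¹)⁻¹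
      = z20 * Z * (D * (t0 * t1⁻¹)) * D⁻¹ * (z20 * Z)⁻¹ * (t0 * t1⁻¹)⁻¹ := by group
    _ = z20 * Z * Z⁻¹ * ((t0 * t1⁻¹) * (z20 * Z)⁻¹) * (t0 * t1⁻¹)⁻¹ := by rw [d2]; group
    _ = z20 * Z * Z⁻¹ * ((z20 * Z)⁻¹ * (t0 * t1⁻¹)) * (t0 * t1⁻¹)⁻¹ := by rw [cz.inv_left.eq]
    _ = z20 * Z⁻¹ * z20⁻¹ := by group
    _ = Z⁻¹ := by rw [(c20_Z.inv_right).eq]; group
end

section
variable {F : Type*} [Field F] [Fintype F] {m : ℕ}

/-- unit determinant rank-one element -/
noncomputable def sT (v f : Fin (m + 1) → F) (h : f ⬝ᵥ v = 0) : Matrix.SpecialLinearGroup (Fin (m + 1)) F :=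
  ⟨T v f, by rw [T, Matrix.vecMulVec_eq Unit, Matrix.det_one_add_replicateCol_mul_replicateRow, h, add_zero]⟩

theorem T_swap {a f c g : Fin (m + 1) → F} (hfa : f ⬝ᵥ a = 0) (hga : g ⬝ᵥ a = 0) (hgc : g ⬝ᵥ c = 0) :
    T a f * T c g = T ((f ⬝ᵥ c) • a) g * (T c g * T a f) := by
  have hinv : T a f * T (-a) f = 1 := by
    rw [T_add (by rw [dotProduct_neg, hfa, neg_zero]), add_neg_cancel, T_zero]
  have e2 : T (-a) f * T a f = 1 := by rw [T_add hfa, neg_add_cancel, T_zero]
  have e1 : T a f * T c g * T (-a) f = T ((f ⬝ᵥ c) • a + c) g := by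
    rw [conj_T _ _ hinv]
    congr 1
    · rw [T, Matrix.add_mulVec, Matrix.one_mulVec, vecMulVec_mulVec, op_smul_eq_smul]
      exact add_comm _ _
    · rw [T, Matrix.vecMul_add, Matrix.vecMul_one, vecMul_vecMulVec, dotProduct_neg, hga, neg_zero,
        zero_smul, add_zero]
  calc T a f * T c g = T a f * T c g * (T (-a) f * T a f) := by rw [e2, Matrix.mul_one]
    _ = T ((f ⬝ᵥ c) • a + c) g * T a f := by rw [← Matrix.mul_assoc, e1]
    _ = T ((f ⬝ᵥ c) • a) g * (T c g * T a f) := by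
      rw [← Matrix.mul_assoc, T_add (hgc)]

theorem choose_ne_zero (p : ℕ) [Fact p.Prime] (v : ℕ) :
    ∀ e, 1 ≤ e → ¬ p ∣ e → ¬ p ∣ (p ^ v * e + (p ^ v - 1)).choose (p ^ v) := by
  induction v with
  | zero => intro e _ h; simpa using h
  | succ v ih =>
    intro e he h hd
    have hp := (Fact.out : p.Prime)
    have hp1 : 1 ≤ p ^ v := Nat.one_le_pow _ _ hp.pos
    have e1 : p ^ (v + 1) * e + (p ^ (v + 1) - 1) = (p - 1) + p * (p ^ v * e + (p ^ v - 1)) := by
      obtain ⟨Q, hQ⟩ : ∃ Q, p ^ v = Q + 1 := ⟨p ^ v - 1, by omega⟩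
      obtain ⟨r, hr⟩ : ∃ r, p = r + 1 := ⟨p - 1, by have := hp.pos; omega⟩
      have e2 : (Q + 1) * p = (Q * r + Q + r) + 1 := by rw [hr]; ring
      rw [pow_succ, hQ, e2, Nat.add_sub_cancel, Nat.add_sub_cancel, show p - 1 = r by omega, hr]
      ring
    have hmod := Choose.choose_modEq_choose_mod_mul_choose_div_nat (p := p)
      (n := p ^ (v + 1) * e + (p ^ (v + 1) - 1)) (k := p ^ (v + 1))
    rw [e1] at hmod
    rw [Nat.add_mul_mod_self_left, Nat.add_mul_div_left _ _ hp.pos, Nat.div_eq_of_lt (Nat.sub_lt hp.pos one_pos),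
      zero_add, pow_succ, Nat.mul_mod_left, Nat.choose_zero_right, one_mul, Nat.mul_div_cancel _ hp.pos] at hmod
    rw [e1, pow_succ] at hd
    exact ih e he h ((Nat.modEq_zero_iff_dvd).mp (hmod.symm.trans ((Nat.modEq_zero_iff_dvd).mpr hd)))

theorem upper_pow (k : ℕ) (r c : Fin (m + 1)) :
    (upper m F ^ k) r c = if (r : ℕ) ≤ c then ((k.choose ((c : ℕ) - r) : ℕ) : F) else 0 := by
  induction k generalizing c with
  | zero =>
    simp only [pow_zero, Matrix.one_apply, Fin.ext_iff]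
    by_cases h : (r : ℕ) = c
    · rw [if_pos h, if_pos h.le, h]; simp
    · rw [if_neg h]
      by_cases h2 : (r : ℕ) ≤ c
      · rw [if_pos h2, Nat.choose_eq_zero_of_lt (by omega)]; simp
      · rw [if_neg h2]
  | succ k ih =>
    rw [pow_succ, upper, Matrix.mul_add, Matrix.mul_one, Matrix.add_apply, Matrix.mul_apply]
    rw [← upper, ih]
    by_cases hc : (c : ℕ) = 0
    · rw [Finset.sum_eq_zero (fun b _ => by simp [shiftUp]; intro; omega)]
      simp [hc]
    rw [Finset.sum_eq_single (⟨(c : ℕ) - 1, by omega⟩ : Fin (m + 1))]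
    · rw [ih]
      simp only [shiftUp, Matrix.of_apply]
      rw [if_pos (show (c : ℕ) = (c : ℕ) - 1 + 1 by omega), mul_one]
      by_cases h : (r : ℕ) ≤ c
      · rw [if_pos h, if_pos h]
        by_cases h2 : (r : ℕ) ≤ (c : ℕ) - 1
        · rw [if_pos h2, show (c : ℕ) - r = ((c : ℕ) - 1 - r) + 1 by omega, Nat.choose_succ_succ]
          push_cast; ring
        · rw [if_neg h2, show (c : ℕ) - r = 0 by omega]; simp
      · rw [if_neg h, if_neg h, if_neg (by omega)]; simp
    · intro b _ hb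
      have : ¬ (c : ℕ) = b + 1 := fun h => hb (Fin.ext (by simp; omega))
      simp [shiftUp, this]
    · simp

theorem scalars_full {p : ℕ} [Fact p.Prime] [CharP F p] (hm : 3 ≤ m) (S : ℕ → F → Prop) (c : F) (hc : c ≠ 0)
    (hc0 : ∀ y : F, y ≠ 0 → ∃ k : ℕ, y = c ^ k) (Szero : ∀ d, S d 0)
    (Sadd : ∀ d x x', d < m → S d x → S d x' → S d (x + x'))
    (Sneg : ∀ d x, d < m → S d x → S d (-x)) (hS2 : S 2 (c ^ 3))
    (up : ∀ d x, d + 1 < m → S d x → S (d + 1) (x * c))
    (down : ∀ d x x', 1 ≤ d → d < m → S d x → S (m - 1) x' → S (d - 1) (x * x'))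
    (upc : ∀ d x y, d + 1 < m → S d x → S 0 y → S (d + 1) (x * y))
    (hbig : ∀ j, j + 2 ≤ m → ∀ x x', S (m - 1) x → S (m - 1) x' →
      S (m - 2 - j) ((((m + j).choose m : ℕ) : F) * x' * x)) :
    ∀ d x, d < m → S d x := by
  have hSup : ∀ k d x, d + k < m → S d x → S (d + k) (x * c ^ k) := by
    intro k
    induction k with
    | zero => intro d x _ h; simpa using h
    | succ k ih =>
      intro d x hd h
      have := up (d + k) _ (by omega) (ih d x (by omega) h)
      rwa [mul_assoc, ← pow_succ] at this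
  have hStop : S (m - 1) (c ^ m) := by
    have := hSup (m - 3) 2 (c ^ 3) (by omega) hS2
    rwa [← pow_add, show 2 + (m - 3) = m - 1 by omega, show 3 + (m - 3) = m by omega] at this
  have hdown : ∀ k d x t', k ≤ d → d < m → S d x → S (m - 1) t' → S (d - k) (x * t' ^ k) := by
    intro k
    induction k with
    | zero => intro d x t' _ _ h _; simpa using h
    | succ k ih =>
      intro d x t' hk hd h ht
      have := down (d - k) _ t' (by omega) (by omega) (ih d x t' (by omega) hd h ht) ht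
      rwa [mul_assoc, ← pow_succ, Nat.sub_sub] at this
  -- the multiplier field
  let K : Subring F :=
    { carrier := {k | ∀ d x, d < m → S d x → S d (k * x)}
      one_mem' := fun d x _ h => by rwa [one_mul]
      mul_mem' := fun {a b} ha hb d x hd h => by rw [mul_assoc]; exact ha d _ hd (hb d x hd h)
      zero_mem' := fun d x _ _ => by rw [zero_mul]; exact Szero d
      add_mem' := fun {a b} ha hb d x hd h => by rw [add_mul]; exact Sadd d _ _ hd (ha d x hd h) (hb d x hd h)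
      neg_mem' := fun {a} ha d x hd h => by rw [neg_mul]; exact Sneg d _ hd (ha d x hd h) }
  have hKinv : ∀ a ∈ K, a⁻¹ ∈ K := by
    intro a ha
    rcases eq_or_ne a 0 with rfl | ha0
    · simpa using K.zero_mem
    rw [inv_eq_of_mul_eq_one_right (show a * a ^ (Fintype.card F - 2) = 1 by
      rw [← pow_succ', show Fintype.card F - 2 + 1 = Fintype.card F - 1 by
        have := Fintype.one_lt_card (α := F); omega, FiniteField.pow_card_sub_one_eq_one a ha0])]
    exact K.pow_mem ha _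
  have hst : ∀ s t', S 0 s → S (m - 1) t' → s * t' ∈ K := by
    intro s t' hs ht d x hd h
    rcases Nat.lt_or_ge (d + 1) m with hd1 | hd1
    · have := down (d + 1) _ t' (by omega) hd1 (upc d x s hd1 h hs) ht
      rw [show d + 1 - 1 = d by omega] at this
      convert this using 1; ring
    · have := upc (d - 1) _ s (by omega) (down d x t' (by omega) hd h ht) hs
      rw [show d - 1 + 1 = d by omega] at this
      convert this using 1; ring
  -- exponents
  have k1 : c ^ (3 * (m + 1)) ∈ K := by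
    have := hdown 2 2 (c ^ 3) _ le_rfl (by omega) hS2 hStop
    have := hst _ _ this hStop
    rwa [← pow_mul, ← pow_add, ← pow_add, show 3 + m * 2 + m = 3 * (m + 1) by ring] at this
  have k2 : c ^ (4 * (m + 1)) ∈ K := by
    have h1 := hdown 2 2 (c ^ 3) _ le_rfl (by omega) hS2 hStop
    have h2 := down 1 _ _ le_rfl (by omega) (up 0 _ (by omega) h1) hStop
    have := hst _ _ h2 hStop
    rwa [← pow_mul, ← pow_add, ← pow_succ, ← pow_add, ← pow_add,
      show 3 + m * 2 + 1 + m + m = 4 * (m + 1) by ring] at this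
  have kn : c ^ (m + 1) ∈ K := by
    have := K.mul_mem k2 (hKinv _ k1)
    rwa [show 4 * (m + 1) = 3 * (m + 1) + (m + 1) by ring, pow_add, mul_comm (c ^ (3 * (m + 1))),
      mul_assoc, mul_inv_cancel₀ (pow_ne_zero _ hc), mul_one] at this
  set v := (m + 1).factorization p with hvdef
  obtain ⟨e, he⟩ : p ^ v ∣ m + 1 := Nat.ordProj_dvd _ _
  have hpe : ¬ p ∣ e := by
    have h := Nat.not_dvd_ordCompl (Fact.out : p.Prime) (show m + 1 ≠ 0 by omega)
    rwa [show (m + 1) / p ^ ((m + 1).factorization p) = e from Nat.div_eq_of_eq_mul_right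
      (Nat.pow_pos (Fact.out : p.Prime).pos) he] at h
  have kj : c ^ (p ^ v) ∈ K := by
    rcases Nat.lt_or_ge e 2 with he2 | he2
    · have he0 : e ≠ 0 := fun h => by simp [h] at he
      have he1 : e = 1 := by omega
      rw [he1, mul_one] at he; rw [← he]; exact kn
    set j := p ^ v
    have hj : j + 2 ≤ m := by
      by_contra hcon
      have h2j : j * 2 ≤ m + 1 := he ▸ Nat.mul_le_mul_left j he2
      have hj2 : j = 2 := by omega
      have hm3 : m = 3 := by omega
      subst hm3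
      have : e = 2 := by rw [hj2] at he; omega
      subst this
      have hv0 : v ≠ 0 := fun h => by simp [j, h] at hj2
      have hp2 : p ∣ 2 := hj2 ▸ dvd_pow_self p hv0
      exact hpe hp2
    have hC : (((m + j).choose m : ℕ) : F) ≠ 0 := by
      rw [Ne, CharP.cast_eq_zero_iff F p, Nat.choose_symm_add]
      have := choose_ne_zero p v e (by omega) hpe
      rwa [show p ^ v * e + (p ^ v - 1) = m + j by
        show j * e + (j - 1) = m + j
        have : 1 ≤ j := Nat.one_le_pow _ _ (Fact.out : p.Prime).pos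
        omega] at this
    have h1 := hbig j hj _ _ hStop hStop
    have h2 := hst _ _ (hdown (m - 2 - j) (m - 2 - j) _ _ le_rfl (by omega) h1 hStop |> fun h => by
      rwa [Nat.sub_self] at h) hStop
    have hCK : ((((m + j).choose m : ℕ) : F))⁻¹ ∈ K := hKinv _ (natCast_mem K _)
    have h3 := K.mul_mem hCK h2
    obtain ⟨r, hr⟩ : ∃ r, m - 2 - j = r := ⟨_, rfl⟩
    rw [hr] at h3
    have e1 : ∀ C : F, C ≠ 0 → C⁻¹ * (C * c ^ m * c ^ m * (c ^ m) ^ r * c ^ m) = (c ^ (m + 1)) ^ (r + 2) * c ^ j := by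
      intro C hC
      rw [← pow_mul, ← pow_mul, mul_assoc C, mul_assoc C, mul_assoc C, inv_mul_cancel_left₀ hC,
        ← pow_add, ← pow_add, ← pow_add, ← pow_add]
      congr 1
      have : m = j + r + 2 := by omega
      rw [this]; ring
    rw [e1 _ hC] at h3
    have h4 := K.mul_mem (hKinv _ (K.pow_mem kn (r + 2))) h3
    rwa [inv_mul_cancel_left₀ (pow_ne_zero _ (pow_ne_zero _ hc))] at h4
  have hKtop : ∀ x : F, x ∈ K := by
    intro x
    obtain ⟨y, rfl⟩ : ∃ y : F, y ^ p ^ v = x := by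
      have hb : Function.Bijective (iterateFrobenius F p v) :=
        ⟨(iterateFrobenius F p v).injective, Finite.surjective_of_injective (iterateFrobenius F p v).injective⟩
      obtain ⟨y, hy⟩ := hb.2 x
      exact ⟨y, by rwa [iterateFrobenius_def] at hy⟩
    rcases eq_or_ne y 0 with rfl | hy
    · rw [zero_pow (Nat.pos_iff_ne_zero.mp (Nat.pow_pos (Fact.out : p.Prime).pos))]; exact K.zero_mem
    obtain ⟨k, this⟩ := hc0 y hy
    rw [this, pow_right_comm]
    exact K.pow_mem kj k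
  intro d x hd
  have hs0 : S 0 (c ^ 3 * (c ^ m) ^ 2) := hdown 2 2 (c ^ 3) _ le_rfl (by omega) hS2 hStop
  have h := hSup d 0 _ (by omega) hs0
  rw [Nat.zero_add] at h
  have hne : c ^ 3 * (c ^ m) ^ 2 * c ^ d ≠ 0 := by simp [hc]
  have := hKtop (x / (c ^ 3 * (c ^ m) ^ 2 * c ^ d)) d _ hd h
  rwa [div_mul_cancel₀ _ hne] at this

theorem main (hm : 3 ≤ m) :
    ∃ u g : Matrix.SpecialLinearGroup (Fin (m + 1)) F,
      (IsNilpotent ((u : Matrix (Fin (m + 1)) (Fin (m + 1)) F) - 1) ∧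
        ((u : Matrix (Fin (m + 1)) (Fin (m + 1)) F) - 1) ^ m ≠ 0) ∧
      Subgroup.closure ({u, g * u * g⁻¹} : Set (Matrix.SpecialLinearGroup (Fin (m + 1)) F)) = ⊤ := by
  classical
  haveI : Nontrivial (Fin (m + 1)) := Fin.nontrivial_iff_two_le.mpr (by omega)
  obtain ⟨p, hpF⟩ := CharP.exists F
  haveI : Fact p.Prime := ⟨CharP.char_is_prime F p⟩
  let u : Matrix.SpecialLinearGroup (Fin (m + 1)) F := ⟨upper m F, upper_det⟩
  obtain ⟨c0, hc0⟩ := IsCyclic.exists_generator (α := Fˣ)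
  set c : F := (c0 : F)
  have hc : c ≠ 0 := c0.ne_zero
  have hc0' : ∀ y : F, y ≠ 0 → ∃ k : ℕ, y = c ^ k := fun y hy => by
    obtain ⟨k, hk⟩ := (mem_powers_iff_mem_zpowers).mpr (hc0 (Units.mk0 y hy))
    exact ⟨k, by simpa using (congrArg Units.val hk).symm⟩
  set e0 : Fin (m + 1) → F := Pi.single 0 1 with he0
  set en : Fin (m + 1) → F := Pi.single (Fin.last m) 1 with hen
  have h0l : (0 : Fin (m + 1)) ≠ Fin.last m := fun h => by simp [Fin.ext_iff] at h; omega
  have hpair0 : e0 ⬝ᵥ (c • en) = 0 := by simp [he0, hen, h0l, h0l.symm]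
  let y := sT (c • en) e0 hpair0
  refine ⟨u, y, ⟨upper_nilpotent, upper_regular⟩, ?_⟩
  set H := Subgroup.closure ({u, y * u * y⁻¹} : Set (Matrix.SpecialLinearGroup (Fin (m + 1)) F)) with hH
  have hu : u ∈ H := Subgroup.subset_closure (by simp)
  have hv : y * u * y⁻¹ ∈ H := Subgroup.subset_closure (by simp)
  -- centres and axes
  let vz : ℤ → (Fin (m + 1) → F) := fun k =>
    ((u ^ k : Matrix.SpecialLinearGroup (Fin (m + 1)) F) : Matrix (Fin (m + 1)) (Fin (m + 1)) F) *ᵥ en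
  let fz : ℤ → (Fin (m + 1) → F) := fun k =>
    e0 ᵥ* ((u ^ (-k) : Matrix.SpecialLinearGroup (Fin (m + 1)) F) : Matrix (Fin (m + 1)) (Fin (m + 1)) F)
  let q : ℤ → F := fun k => e0 ⬝ᵥ vz k
  have hpair : ∀ i j, fz i ⬝ᵥ vz j = q (j - i) := by
    intro i j
    simp only [fz, vz, q]
    rw [← Matrix.dotProduct_mulVec, Matrix.mulVec_mulVec, ← Matrix.SpecialLinearGroup.coe_mul, ← _root_.zpow_add,
      neg_add_eq_sub]
  have hvshift : ∀ k d, ((u ^ k : Matrix.SpecialLinearGroup (Fin (m + 1)) F) : Matrix (Fin (m + 1)) (Fin (m + 1)) F) *ᵥ vz d = vz (k + d) := by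
    intro k d
    simp only [vz]
    rw [Matrix.mulVec_mulVec, ← Matrix.SpecialLinearGroup.coe_mul, ← _root_.zpow_add]
  have hfshift : ∀ k a, fz a ᵥ* (((u ^ k)⁻¹ : Matrix.SpecialLinearGroup (Fin (m + 1)) F) : Matrix (Fin (m + 1)) (Fin (m + 1)) F) = fz (a + k) := by
    intro k a
    simp only [fz]
    rw [Matrix.vecMul_vecMul, ← Matrix.SpecialLinearGroup.coe_mul, ← _root_.zpow_neg, ← _root_.zpow_add, neg_add]
  have hqnat : ∀ k : ℕ, q k = ((k.choose m : ℕ) : F) := by
    intro k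
    simp only [q, vz, zpow_natCast, he0, hen, Matrix.SpecialLinearGroup.coe_pow]
    rw [single_one_dotProduct, Matrix.mulVec_single_one, Matrix.col_apply]
    show (upper m F ^ k) 0 (Fin.last m) = _
    rw [upper_pow, if_pos (by simp)]
    simp
  have hq0 : ∀ k : ℤ, 0 ≤ k → k < m → q k = 0 := by
    intro k h1 h2
    obtain ⟨l, rfl⟩ := Int.eq_ofNat_of_zero_le h1
    rw [hqnat, Nat.choose_eq_zero_of_lt (by omega), Nat.cast_zero]
  have hqm : q m = 1 := by rw [hqnat, Nat.choose_self, Nat.cast_one]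
  set σ : F := (-1) ^ m with hσ
  have hσ2 : σ * σ = 1 := by rw [hσ, ← pow_add, ← two_mul, pow_mul, neg_one_sq, one_pow]
  have hqneg : q (-1) = σ := by
    set r := e0 ᵥ* (((u⁻¹) : Matrix.SpecialLinearGroup (Fin (m + 1)) F) : Matrix (Fin (m + 1)) (Fin (m + 1)) F) with hr
    have hru : r ᵥ* upper m F = e0 := by
      show r ᵥ* ((u : Matrix.SpecialLinearGroup (Fin (m + 1)) F) : Matrix (Fin (m + 1)) (Fin (m + 1)) F) = e0
      rw [hr, Matrix.vecMul_vecMul, coe_inv_mul, Matrix.vecMul_one]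
    have hrl : ∀ l : Fin (m + 1), r l = (-1) ^ (l : ℕ) := by
      intro l
      induction l using Fin.induction with
      | zero =>
        have h1 : (r ᵥ* upper m F) ⬝ᵥ Pi.single 0 1 = e0 ⬝ᵥ Pi.single 0 1 := by rw [hru]
        rw [← Matrix.dotProduct_mulVec, upper_col_zero] at h1
        simpa [he0] using h1
      | succ l ih =>
        have h1 : (r ᵥ* upper m F) ⬝ᵥ Pi.single l.succ 1 = e0 ⬝ᵥ Pi.single l.succ 1 := by rw [hru]
        rw [← Matrix.dotProduct_mulVec, upper_col_succ, dotProduct_add] at h1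
        simp [he0, Fin.succ_ne_zero, (Fin.succ_ne_zero l).symm, ih] at h1
        rw [Fin.val_succ, pow_succ, mul_neg_one]
        exact eq_neg_of_add_eq_zero_left h1
    simp only [q, vz, _root_.zpow_neg_one]
    rw [Matrix.dotProduct_mulVec, ← hr, hen, dotProduct_single_one, hrl, Fin.val_last]
  -- the transvections t i and X i
  let t : ℤ → Matrix.SpecialLinearGroup (Fin (m + 1)) F := fun i => u ^ i * y * (u ^ i)⁻¹
  have htc : ∀ i, (t i : Matrix (Fin (m + 1)) (Fin (m + 1)) F) = T (c • vz i) (fz i) := by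
    intro i
    show ((u ^ i : Matrix.SpecialLinearGroup (Fin (m + 1)) F) : Matrix (Fin (m + 1)) (Fin (m + 1)) F) *
      T (c • en) e0 * _ = _
    rw [conj_T _ _ (coe_mul_inv _), Matrix.mulVec_smul]
    congr 1
    simp only [fz, _root_.zpow_neg]
  have hX : ∀ i, t i * (t (i + 1))⁻¹ ∈ H := by
    intro i
    have : t i * (t (i + 1))⁻¹ = u ^ i * ((y * u * y⁻¹) * u⁻¹) * (u ^ i)⁻¹ := by
      simp only [t, _root_.zpow_add_one]; group
    rw [this]
    exact H.mul_mem (H.mul_mem (H.zpow_mem hu i) (H.mul_mem hv (H.inv_mem hu))) (H.inv_mem (H.zpow_mem hu i))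
  have hcommT : ∀ (a f b g : Fin (m + 1) → F) (A B : Matrix.SpecialLinearGroup (Fin (m + 1)) F),
      (A : Matrix (Fin (m + 1)) (Fin (m + 1)) F) = T a f → (B : Matrix (Fin (m + 1)) (Fin (m + 1)) F) = T b g →
      f ⬝ᵥ b = 0 → g ⬝ᵥ a = 0 → Commute A B := by
    intro a f b g A B hA hB h1 h2
    apply Subtype.ext
    show (A : Matrix (Fin (m + 1)) (Fin (m + 1)) F) * B = (B : Matrix (Fin (m + 1)) (Fin (m + 1)) F) * A
    rw [hA, hB, T_mul_T, T_mul_T, h1, h2, zero_smul, zero_smul]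
    abel
  have pz : ∀ (x : F) i j, 0 ≤ j - i → j - i < (m : ℤ) → fz i ⬝ᵥ (x • vz j) = 0 := fun x i j h1 h2 => by
    rw [dotProduct_smul, hpair, hq0 _ h1 h2, smul_zero]
  let Z : Matrix.SpecialLinearGroup (Fin (m + 1)) F := sT ((c ^ 3) • vz 2) (fz 0) (pz _ _ _ (by norm_num) (by omega))
  let z10 : Matrix.SpecialLinearGroup (Fin (m + 1)) F := sT ((c * c * σ) • vz 1) (fz 0) (pz _ _ _ (by norm_num) (by omega))
  let z21 : Matrix.SpecialLinearGroup (Fin (m + 1)) F := sT ((c * c * σ) • vz 2) (fz 1) (pz _ _ _ (by norm_num) (by omega))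
  let z20 : Matrix.SpecialLinearGroup (Fin (m + 1)) F := sT ((c * c * q (-2)) • vz 2) (fz 0) (pz _ _ _ (by norm_num) (by omega))
  have hZc : (Z : Matrix (Fin (m + 1)) (Fin (m + 1)) F) = T ((c ^ 3) • vz 2) (fz 0) := rfl
  have hz10 : (z10 : Matrix (Fin (m + 1)) (Fin (m + 1)) F) = T ((c * c * σ) • vz 1) (fz 0) := rfl
  have hz21 : (z21 : Matrix (Fin (m + 1)) (Fin (m + 1)) F) = T ((c * c * σ) • vz 2) (fz 1) := rfl
  have hz20 : (z20 : Matrix (Fin (m + 1)) (Fin (m + 1)) F) = T ((c * c * q (-2)) • vz 2) (fz 0) := rfl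
  have hZ : Z⁻¹ ∈ H := by
    have key := group_identity (t 0) (t 1) (t 2) z10 z21 z20 Z ?_ ?_ ?_ ?_ ?_
      (hcommT _ _ _ _ _ _ hz10 (htc 0) (pz _ _ _ (by norm_num) (by omega)) (pz _ _ _ (by norm_num) (by omega)))
      (hcommT _ _ _ _ _ _ hz10 (htc 1) (pz _ _ _ (by norm_num) (by omega)) (pz _ _ _ (by norm_num) (by omega)))
      (hcommT _ _ _ _ _ _ hz21 (htc 1) (pz _ _ _ (by norm_num) (by omega)) (pz _ _ _ (by norm_num) (by omega)))
      (hcommT _ _ _ _ _ _ hz21 (htc 2) (pz _ _ _ (by norm_num) (by omega)) (pz _ _ _ (by norm_num) (by omega)))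
      (hcommT _ _ _ _ _ _ hz10 hz21 (pz _ _ _ (by norm_num) (by omega)) (pz _ _ _ (by norm_num) (by omega)))
      (hcommT _ _ _ _ _ _ hz20 (htc 0) (pz _ _ _ (by norm_num) (by omega)) (pz _ _ _ (by norm_num) (by omega)))
      (hcommT _ _ _ _ _ _ hz20 (htc 1) (pz _ _ _ (by norm_num) (by omega)) (pz _ _ _ (by norm_num) (by omega)))
      (hcommT _ _ _ _ _ _ hz20 (htc 2) (pz _ _ _ (by norm_num) (by omega)) (pz _ _ _ (by norm_num) (by omega)))
      (hcommT _ _ _ _ _ _ hz20 hz10 (pz _ _ _ (by norm_num) (by omega)) (pz _ _ _ (by norm_num) (by omega)))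
      (hcommT _ _ _ _ _ _ hz20 hz21 (pz _ _ _ (by norm_num) (by omega)) (pz _ _ _ (by norm_num) (by omega)))
      (hcommT _ _ _ _ _ _ hZc (htc 0) (pz _ _ _ (by norm_num) (by omega)) (pz _ _ _ (by norm_num) (by omega)))
      (hcommT _ _ _ _ _ _ hZc (htc 1) (pz _ _ _ (by norm_num) (by omega)) (pz _ _ _ (by norm_num) (by omega)))
      (hcommT _ _ _ _ _ _ hZc (htc 2) (pz _ _ _ (by norm_num) (by omega)) (pz _ _ _ (by norm_num) (by omega)))
      (hcommT _ _ _ _ _ _ hZc hz10 (pz _ _ _ (by norm_num) (by omega)) (pz _ _ _ (by norm_num) (by omega)))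
      (hcommT _ _ _ _ _ _ hZc hz21 (pz _ _ _ (by norm_num) (by omega)) (pz _ _ _ (by norm_num) (by omega)))
      (hcommT _ _ _ _ _ _ hz20 hZc (pz _ _ _ (by norm_num) (by omega)) (pz _ _ _ (by norm_num) (by omega)))
    · rw [← key]
      have h0 := hX 0
      have h1 := hX 1
      norm_num at h0 h1
      exact H.mul_mem (H.mul_mem (H.mul_mem
        (H.mul_mem (H.mul_mem (H.mul_mem h0 h1) (H.inv_mem h0)) (H.inv_mem h1)) h0)
        (H.inv_mem (H.mul_mem (H.mul_mem (H.mul_mem h0 h1) (H.inv_mem h0)) (H.inv_mem h1)))) (H.inv_mem h0)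
    · apply Subtype.ext
      show (t 1 : Matrix (Fin (m + 1)) (Fin (m + 1)) F) * t 0 = (z10 : Matrix (Fin (m + 1)) (Fin (m + 1)) F) * ((t 0 : Matrix (Fin (m + 1)) (Fin (m + 1)) F) * t 1)
      rw [htc, htc, hz10, T_swap (pz _ _ _ (by norm_num) (by omega)) (pz _ _ _ (by norm_num) (by omega)) (pz _ _ _ (by norm_num) (by omega)),
        dotProduct_smul, hpair, show ((0 : ℤ) - 1) = -1 by norm_num, hqneg, smul_smul, smul_eq_mul]
      ring_nf
    · apply Subtype.ext
      show (t 2 : Matrix (Fin (m + 1)) (Fin (m + 1)) F) * t 1 = (z21 : Matrix (Fin (m + 1)) (Fin (m + 1)) F) * ((t 1 : Matrix (Fin (m + 1)) (Fin (m + 1)) F) * t 2)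
      rw [htc, htc, hz21, T_swap (pz _ _ _ (by norm_num) (by omega)) (pz _ _ _ (by norm_num) (by omega)) (pz _ _ _ (by norm_num) (by omega)),
        dotProduct_smul, hpair, show ((1 : ℤ) - 2) = -1 by norm_num, hqneg, smul_smul, smul_eq_mul]
      ring_nf
    · apply Subtype.ext
      show (t 2 : Matrix (Fin (m + 1)) (Fin (m + 1)) F) * t 0 = (z20 : Matrix (Fin (m + 1)) (Fin (m + 1)) F) * ((t 0 : Matrix (Fin (m + 1)) (Fin (m + 1)) F) * t 2)
      rw [htc, htc, hz20, T_swap (pz _ _ _ (by norm_num) (by omega)) (pz _ _ _ (by norm_num) (by omega)) (pz _ _ _ (by norm_num) (by omega)),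
        dotProduct_smul, hpair, show ((0 : ℤ) - 2) = -2 by norm_num, smul_smul, smul_eq_mul]
      ring_nf
    · apply Subtype.ext
      show (z21 : Matrix (Fin (m + 1)) (Fin (m + 1)) F) * t 0 = (Z : Matrix (Fin (m + 1)) (Fin (m + 1)) F) * ((t 0 : Matrix (Fin (m + 1)) (Fin (m + 1)) F) * z21)
      rw [htc, hz21, hZc, T_swap (pz _ _ _ (by norm_num) (by omega)) (pz _ _ _ (by norm_num) (by omega)) (pz _ _ _ (by norm_num) (by omega)),
        dotProduct_smul, hpair, show ((0 : ℤ) - 1) = -1 by norm_num, hqneg, smul_smul, smul_eq_mul,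
        show c * σ * (c * c * σ) = c ^ 3 from by linear_combination c ^ 3 * hσ2]
    · apply Subtype.ext
      show (t 2 : Matrix (Fin (m + 1)) (Fin (m + 1)) F) * z10 = (Z : Matrix (Fin (m + 1)) (Fin (m + 1)) F) * ((z10 : Matrix (Fin (m + 1)) (Fin (m + 1)) F) * t 2)
      rw [htc, hz10, hZc, T_swap (pz _ _ _ (by norm_num) (by omega)) (pz _ _ _ (by norm_num) (by omega)) (pz _ _ _ (by norm_num) (by omega)),
        dotProduct_smul, hpair, show ((1 : ℤ) - 2) = -1 by norm_num, hqneg, smul_smul, smul_eq_mul,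
        show c * c * σ * σ * c = c ^ 3 from by linear_combination c ^ 3 * hσ2]
  -- the scalar sets
  let S : ℕ → F → Prop := fun d x => InH H (T (x • vz d) (fz 0))
  have hsh : ∀ {x : F} {i j : ℤ} (k : ℤ), InH H (T (x • vz j) (fz i)) → InH H (T (x • vz (k + j)) (fz (i + k))) := by
    intro x i j k h
    have := h.conj (H.zpow_mem hu k)
    rwa [Matrix.mulVec_smul, hvshift, hfshift] at this
  have hS2 : S 2 (c ^ 3) := ⟨Z, by simpa using H.inv_mem hZ, hZc⟩
  have Sneg : ∀ d x, d < m → S d x → S d (-x) := fun d x hd h => by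
    show InH H (T ((-x) • vz d) (fz 0))
    rw [neg_smul]
    exact InH.neg h (pz _ _ _ (by omega) (by omega))
  have Sadd : ∀ d x x', d < m → S d x → S d x' → S d (x + x') := fun d x x' hd h h' => by
    show InH H (T ((x + x') • vz d) (fz 0))
    rw [add_smul]
    exact InH.add h h' (pz _ _ _ (by omega) (by omega))
  have Szero : ∀ d, S d 0 := fun d => by
    show InH H (T _ _)
    rw [zero_smul, T_zero]; exact InH.one
  have Sσ : ∀ d x, d < m → S d (x * σ) → S d x := fun d x hd h => by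
    rcases neg_one_pow_eq_or F m with e | e
    · rwa [hσ, e, mul_one] at h
    · rw [hσ, e, mul_neg_one] at h
      simpa using Sneg d _ hd h
  have up : ∀ d x, d + 1 < m → S d x → S (d + 1) (x * c) := by
    intro d x hd h
    have h0 := hsh (-(d : ℤ)) h
    rw [neg_add_cancel, zero_add] at h0
    have hmem : t 0 * (t 1)⁻¹ ∈ H := by simpa using hX 0
    have h1 := h0.conj hmem
    have ht1 : ((t 1)⁻¹ : Matrix.SpecialLinearGroup (Fin (m + 1)) F).1 = T (-(c • vz 1)) (fz 1) := by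
      refine (left_inv_eq_right_inv (coe_inv_mul (t 1)) ?_)
      rw [htc, T_add (by rw [dotProduct_neg, pz _ _ _ (by norm_num) (by omega), neg_zero]), add_neg_cancel, T_zero]
    have ht0 : ((t 0)⁻¹ : Matrix.SpecialLinearGroup (Fin (m + 1)) F).1 = T (-(c • vz 0)) (fz 0) := by
      refine (left_inv_eq_right_inv (coe_inv_mul (t 0)) ?_)
      rw [htc, T_add (by rw [dotProduct_neg, pz _ _ _ (by norm_num) (by omega), neg_zero]), add_neg_cancel, T_zero]
    have ev : ((t 0 * (t 1)⁻¹ : Matrix.SpecialLinearGroup (Fin (m + 1)) F) : Matrix (Fin (m + 1)) (Fin (m + 1)) F) *ᵥ (x • vz 0)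
        = x • vz 0 + (-(x * c * σ)) • vz 1 := by
      rw [Matrix.SpecialLinearGroup.coe_mul, ← Matrix.mulVec_mulVec, htc, ht1]
      have i1 : fz 1 ⬝ᵥ vz 0 = σ := by rw [hpair]; exact hqneg
      have i2 : fz 0 ⬝ᵥ vz 0 = 0 := by rw [hpair, sub_self]; exact hq0 0 le_rfl (by omega)
      have i3 : fz 0 ⬝ᵥ vz 1 = 0 := by rw [hpair, sub_zero]; exact hq0 1 (by norm_num) (by omega)
      simp only [T, Matrix.add_mulVec, Matrix.one_mulVec, vecMulVec_mulVec, op_smul_eq_smul,
        dotProduct_smul, dotProduct_add, i1, i2, i3, Matrix.mulVec_smul, smul_neg, dotProduct_neg]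
      ext l
      simp
      ring
    have ef : fz (-(d : ℤ)) ᵥ* (((t 0 * (t 1)⁻¹)⁻¹ : Matrix.SpecialLinearGroup (Fin (m + 1)) F) : Matrix (Fin (m + 1)) (Fin (m + 1)) F)
        = fz (-(d : ℤ)) := by
      rw [_root_.mul_inv_rev, inv_inv, Matrix.SpecialLinearGroup.coe_mul, htc, ht0, ← Matrix.vecMul_vecMul]
      have i1 : fz (-(d : ℤ)) ⬝ᵥ (c • vz 1) = 0 := pz _ _ _ (by omega) (by omega)
      have i0 : fz (-(d : ℤ)) ⬝ᵥ (c • vz 0) = 0 := pz _ _ _ (by omega) (by omega)
      simp only [T, Matrix.vecMul_add, Matrix.vecMul_one, vecMul_vecMulVec, i1, i0, dotProduct_neg, neg_zero,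
        zero_smul, add_zero]
    rw [ev, ef] at h1
    have h2 := InH.add (InH.neg h0 (pz _ _ _ (by omega) (by omega))) h1 (by
      rw [dotProduct_add, pz _ _ _ (by omega) (by omega), pz _ _ _ (by omega) (by omega), add_zero])
    rw [neg_add_cancel_left] at h2
    have h3 := hsh (d : ℤ) h2
    rw [neg_add_cancel] at h3
    have h4 : S (d + 1) (-(x * c * σ)) := by
      show InH H (T _ _)
      convert h3 using 4
      push_cast; ring
    exact Sσ _ _ hd (by simpa using Sneg _ _ hd h4)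
  -- commutators
  have comb : ∀ (d d' : ℕ) (x x' : F) (a' : ℤ), d < m → d' < m → S d x → S d' x' →
      0 ≤ (d : ℤ) - a' → (d : ℤ) - a' < m → S ((d : ℤ) - a').toNat (q (d' + a') * x' * x) := by
    intro d d' x x' a' hd hd' h h' h1 h2
    have h'' := hsh a' h'
    rw [zero_add] at h''
    have := InH.comm h h'' (pz _ _ _ (by omega) (by omega)) (pz _ _ _ (by omega) (by omega)) (pz _ _ _ h1 h2)
    rw [dotProduct_smul, hpair, smul_smul, sub_zero] at this
    have h3 := hsh (-a') this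
    rw [add_neg_cancel] at h3
    show InH H (T _ _)
    convert h3 using 4
    · rw [smul_eq_mul, add_comm a']
      ring
    · rw [Int.toNat_of_nonneg h1]; ring
  have down : ∀ d x x', 1 ≤ d → d < m → S d x → S (m - 1) x' → S (d - 1) (x * x') := by
    intro d x x' hd1 hd h h'
    have := comb d (m - 1) x x' 1 hd (by omega) h h' (by omega) (by omega)
    rw [show (((m - 1 : ℕ) : ℤ) + 1) = (m : ℤ) by omega, hqm, one_mul, mul_comm x'] at this
    rwa [show ((d : ℤ) - 1).toNat = d - 1 by omega] at this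
  have upc : ∀ d x y, d + 1 < m → S d x → S 0 y → S (d + 1) (x * y) := by
    intro d x y hd h h'
    have := comb d 0 x y (-1) (by omega) (by omega) h h' (by omega) (by omega)
    rw [show ((0 : ℕ) : ℤ) + -1 = -1 by norm_num, hqneg, show ((d : ℤ) - -1).toNat = d + 1 by omega] at this
    exact Sσ _ _ hd (by convert this using 1; ring)
  have hfull : ∀ d x, d < m → S d x := fun d x hd =>
    scalars_full (p := p) hm S c hc hc0' Szero Sadd Sneg hS2 up down upc (fun j hj x x' h h' => by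
      have h1 := comb (m - 1) (m - 1) x x' (1 + j : ℤ) (by omega) (by omega) h h' (by omega) (by omega)
      rwa [show (((m - 1 : ℕ) : ℤ) + (1 + j)) = ((m + j : ℕ) : ℤ) by omega,
        show (((m - 1 : ℕ) : ℤ) - (1 + j)).toNat = m - 2 - j by omega, hqnat] at h1) d x hd
  -- the axis e0
  have hf0 : fz 0 = e0 := by simp [fz]
  have hlin : ∀ k : ℕ, k < m → ∀ x : F, InH H (T (x • Pi.single (⟨m - k, by omega⟩ : Fin (m + 1)) 1) e0) := by
    intro k
    induction k using Nat.strong_induction_on with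
    | _ k ih =>
      intro hk x
      have hsum : ∀ N : ℕ, N ≤ k → ∀ z : F, InH H (T (∑ i ∈ Finset.range N,
          (z * (k.choose i : F)) • Pi.single (⟨m - i, by omega⟩ : Fin (m + 1)) 1) e0) := by
        intro N
        induction N with
        | zero => intro _ z; rw [Finset.sum_range_zero, T_zero]; exact InH.one
        | succ N ihN =>
          intro hN z
          rw [Finset.sum_range_succ]
          refine (ihN (by omega) z).add (ih N (by omega) (by omega) _) ?_
          rw [dotProduct_smul, he0, single_one_dotProduct, Pi.single_eq_of_ne, smul_zero]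
          simp [Fin.ext_iff]; omega
      have hv : vz k = ∑ i ∈ Finset.range (k + 1), (k.choose i : F) • Pi.single (⟨m - i, by omega⟩ : Fin (m + 1)) 1 := by
        ext r
        simp only [vz, zpow_natCast, hen, Matrix.SpecialLinearGroup.coe_pow, Matrix.mulVec_single_one,
          Matrix.col_apply, Finset.sum_apply, Pi.smul_apply, Pi.single_apply, smul_eq_mul]
        show (upper m F ^ k) r (Fin.last m) = _
        rw [upper_pow, if_pos (by simp [Fin.last]; omega), Fin.val_last]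
        rcases Nat.lt_or_ge k (m - r) with h | h
        · rw [Nat.choose_eq_zero_of_lt h, Nat.cast_zero]
          exact (Finset.sum_eq_zero fun i hi => by
            rw [Finset.mem_range] at hi
            rw [if_neg (by simp [Fin.ext_iff]; omega), mul_zero]).symm
        · rw [Finset.sum_eq_single (m - r)]
          · rw [if_pos (by simp [Fin.ext_iff]; omega), mul_one]
          · intro i hi hne
            rw [Finset.mem_range] at hi
            rw [if_neg (by simp [Fin.ext_iff]; omega), mul_zero]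
          · intro h'; simp only [Finset.mem_range] at h'; omega
      have h1 : InH H (T (x • vz k) e0) := hf0 ▸ hfull k x hk
      have h2 := (hsum k le_rfl (-x)).add h1 (by rw [← hf0]; exact pz _ _ _ (by omega) (by omega))
      convert h2 using 2
      rw [hv, Finset.sum_range_succ, smul_add, Finset.smul_sum, Nat.choose_self, Nat.cast_one, one_smul,
        ← add_assoc, ← Finset.sum_add_distrib]
      rw [Finset.sum_eq_zero, zero_add]
      intro i _
      rw [smul_smul, ← add_smul, neg_mul, neg_add_cancel, zero_smul]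
  have haxis : Axis H e0 := by
    intro w hw
    have hw0 : w 0 = 0 := by simpa [he0] using hw
    have hsum : ∀ s : Finset (Fin (m + 1)), 0 ∉ s → InH H (T (∑ l ∈ s, w l • Pi.single l 1) e0) := by
      intro s
      induction s using Finset.induction_on with
      | empty => intro _; rw [Finset.sum_empty, T_zero]; exact InH.one
      | insert a s ha ih =>
        intro h0
        rw [Finset.mem_insert, not_or] at h0
        rw [Finset.sum_insert ha]
        have ha0 : (a : ℕ) ≠ 0 := fun h => h0.1 (Fin.ext h.symm)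
        have := hlin (m - a) (by omega) (w a)
        rw [show (⟨m - (m - a), by omega⟩ : Fin (m + 1)) = a from Fin.ext (by simp; omega)] at this
        refine this.add (ih h0.2) ?_
        rw [dotProduct_sum]
        refine Finset.sum_eq_zero fun l hl => ?_
        have : l ≠ 0 := fun h => h0.2 (h ▸ hl)
        simp [he0, this, this.symm]
    convert hsum (Finset.univ.erase 0) (by simp) using 2
    ext r
    simp only [Finset.sum_apply, Pi.smul_apply, Pi.single_apply, smul_eq_mul, mul_ite, mul_one, mul_zero,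
      Finset.sum_ite_eq, Finset.mem_erase, Finset.mem_univ, and_true]
    split_ifs with h
    · rfl
    · push Not at h; rw [h, hw0]
  refine eq_top_of_axis fun j => ?_
  induction j using Fin.induction with
  | zero => exact haxis
  | succ l ih =>
    have h1 := ih.mul hu
    have hrow : (Pi.single l.castSucc 1 : Fin (m + 1) → F) ᵥ* upper m F = Pi.single l.castSucc 1 + Pi.single l.succ 1 := by
      ext r
      rw [Matrix.single_one_vecMul]
      simp [upper, shiftUp, Matrix.one_apply, Pi.single_apply, Fin.ext_iff, eq_comm]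
    rw [show ((u : Matrix.SpecialLinearGroup (Fin (m + 1)) F) : Matrix (Fin (m + 1)) (Fin (m + 1)) F) = upper m F from rfl, hrow] at h1
    have hne : l.castSucc ≠ l.succ := fun h => by have := congrArg Fin.val h; simp at this
    obtain ⟨M, hM, hM'⟩ := ih (-Pi.single l.succ 1) (by simp [hne, hne.symm])
    have h2 := h1.mul hM
    rw [hM', T, Matrix.vecMul_add, Matrix.vecMul_one, vecMul_vecMulVec] at h2
    convert h2 using 1
    simp [hne, hne.symm]

end

/-- Let F be a finite field with q elements and n ≥ 4. Then SL_n(F) is generated by two regular unipotent elements (elements u with u − 1 nilpotent and (u − 1)^(n−1) ≠ 0); if q is prime, the two can be taken conjugate in SL_n(F). -/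
theorem result {F : Type*} [Field F] [Fintype F] (n : ℕ) (hn : 4 ≤ n) :
    (∃ u v : Matrix.SpecialLinearGroup (Fin n) F, (IsNilpotent ((u : Matrix (Fin n) (Fin n) F) - 1) ∧ ((u : Matrix (Fin n) (Fin n) F) - 1) ^ (n - 1) ≠ 0) ∧ (IsNilpotent ((v : Matrix (Fin n) (Fin n) F) - 1) ∧ ((v : Matrix (Fin n) (Fin n) F) - 1) ^ (n - 1) ≠ 0) ∧
      Subgroup.closure ({u, v} : Set (Matrix.SpecialLinearGroup (Fin n) F)) = ⊤) ∧
    ((Fintype.card F).Prime → ∃ u g : Matrix.SpecialLinearGroup (Fin n) F, (IsNilpotent ((u : Matrix (Fin n) (Fin n) F) - 1) ∧ ((u : Matrix (Fin n) (Fin n) F) - 1) ^ (n - 1) ≠ 0) ∧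
      Subgroup.closure ({u, g * u * g⁻¹} : Set (Matrix.SpecialLinearGroup (Fin n) F)) = ⊤) := by
  obtain ⟨m, rfl⟩ : ∃ m, n = m + 1 := ⟨n - 1, by omega⟩
  obtain ⟨u, g, hreg, hgen⟩ := main (F := F) (m := m) (by omega)
  refine ⟨⟨u, g * u * g⁻¹, hreg, ?_, hgen⟩, fun _ => ⟨u, g, hreg, hgen⟩⟩
  have hA := RegUnipGen.coe_mul_inv g
  have hB := RegUnipGen.coe_inv_mul g
  have e : ∀ k : ℕ, ((g * u * g⁻¹ : Matrix.SpecialLinearGroup (Fin (m + 1)) F) : Matrix (Fin (m + 1)) (Fin (m + 1)) F) - 1 =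
      (g : Matrix (Fin (m + 1)) (Fin (m + 1)) F) * ((u : Matrix (Fin (m + 1)) (Fin (m + 1)) F) - 1) *
        ((g⁻¹ : Matrix.SpecialLinearGroup (Fin (m + 1)) F) : Matrix (Fin (m + 1)) (Fin (m + 1)) F) := fun _ => by
    rw [Matrix.mul_sub, Matrix.sub_mul, Matrix.mul_one, hA]; rfl
  have hpow : ∀ (X : Matrix (Fin (m + 1)) (Fin (m + 1)) F) (k : ℕ),
      ((g : Matrix (Fin (m + 1)) (Fin (m + 1)) F) * X * ((g⁻¹ : Matrix.SpecialLinearGroup (Fin (m + 1)) F) : Matrix (Fin (m + 1)) (Fin (m + 1)) F)) ^ k =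
      (g : Matrix (Fin (m + 1)) (Fin (m + 1)) F) * X ^ k * ((g⁻¹ : Matrix.SpecialLinearGroup (Fin (m + 1)) F) : Matrix (Fin (m + 1)) (Fin (m + 1)) F) := by
    intro X k
    induction k with
    | zero => rw [pow_zero, pow_zero, Matrix.mul_one, hA]
    | succ k ih =>
      rw [pow_succ, ih, pow_succ]
      simp only [Matrix.mul_assoc]
      congr 2
      rw [← Matrix.mul_assoc _ (g : Matrix (Fin (m + 1)) (Fin (m + 1)) F), hB, Matrix.one_mul]
  obtain ⟨⟨k, hk⟩, hne⟩ := hreg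
  refine ⟨⟨k, by rw [e k, hpow, hk]; simp⟩, fun h => hne ?_⟩
  rw [e 0, hpow] at h
  have := congrArg (fun M => ((g⁻¹ : Matrix.SpecialLinearGroup (Fin (m + 1)) F) : Matrix (Fin (m + 1)) (Fin (m + 1)) F) * M *
    (g : Matrix (Fin (m + 1)) (Fin (m + 1)) F)) h
  simp only [Matrix.mul_zero, Matrix.zero_mul, ← Matrix.mul_assoc] at this
  rw [hB, Matrix.one_mul, Matrix.mul_assoc, hB, Matrix.mul_one] at this
  exact this

end Cfsg.Agent.S2279
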