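import Cfsg.Statements.S2287
import Cfsg.Agent.Lib.SL3PresChart

set_option autoImplicit false
open Cfsg

namespace Cfsg.Agent.S2287

open PSL2Elements SL2PresAbel SL2PresData SL3PresModel SL3PresDatum SL3PresChart
open Multiplicative (ofAdd)
open scoped MatrixGroups

/-- words in four letters -/
abbrev FG4 := FreeGroup (Fin 4)

def gU : FG4 := FreeGroup.of 0
def gE : FG4 := FreeGroup.of 1
def gT : FG4 := FreeGroup.of 2
def gC : FG4 := FreeGroup.of 3

/-- all relators of `L` vanish at the quadruple -/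
def Sat {G : Type*} [Group G] (L : List FG4) (U E T C : G) : Prop :=
  ∀ r ∈ L, FreeGroup.lift ![U, E, T, C] r = 1

section
variable {G : Type*} [Group G] (U E T C : G)
theorem lift_gU : FreeGroup.lift ![U, E, T, C] gU = U := by simp [gU]
theorem lift_gE : FreeGroup.lift ![U, E, T, C] gE = E := by simp [gE]
theorem lift_gT : FreeGroup.lift ![U, E, T, C] gT = T := by simp [gT]
theorem lift_gC : FreeGroup.lift ![U, E, T, C] gC = C := by simp [gC]
end

theorem pres4 {Q : Type*} [Group Q] (L : List FG4) (n : ℕ) (hn : L.length ≤ n) (U E T C : Q)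
    (hsat : Sat L U E T C) (hsurj : ∀ K : Subgroup Q, U ∈ K → E ∈ K → T ∈ K → C ∈ K → K = ⊤)
    (hinj : ∀ (G : Type) [Group G] (u e t c : G) (π : G →* Q), π u = U → π e = E → π t = T → π c = C →
      Subgroup.closure ({u, e, t, c} : Set G) = ⊤ → Sat L u e t c → Function.Injective π) :
    ∃ rels : Finset FG4, rels.card ≤ n ∧ Nonempty (PresentedGroup (↑rels : Set FG4) ≃* Q) := by
  classical
  refine ⟨L.toFinset, (List.toFinset_card_le L).trans hn, ?_⟩
  set R : Set FG4 := ↑L.toFinset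
  let π : PresentedGroup R →* Q := PresentedGroup.toGroup (f := ![U, E, T, C])
    (fun r hr => hsat r (by simpa [R] using hr))
  have hπ : ∀ x, π (PresentedGroup.of x) = ![U, E, T, C] x := fun x => PresentedGroup.toGroup.of _
  refine ⟨MulEquiv.ofBijective π
    ⟨hinj _ (.of 0) (.of 1) (.of 2) (.of 3) π (hπ 0) (hπ 1) (hπ 2) (hπ 3) ?_ ?_, ?_⟩⟩
  · rw [eq_top_iff, ← PresentedGroup.closure_range_of R]
    refine Subgroup.closure_mono ?_
    rintro _ ⟨x, rfl⟩
    fin_cases x <;> simp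
  · intro r hr
    have e : FreeGroup.lift ![(PresentedGroup.of 0 : PresentedGroup R), PresentedGroup.of 1, PresentedGroup.of 2,
        PresentedGroup.of 3] = PresentedGroup.mk R :=
      FreeGroup.ext_hom _ _ fun x => by fin_cases x <;> simp [PresentedGroup.of]
    rw [e]
    exact PresentedGroup.one_of_mem (by simpa [R] using hr)
  · rw [← MonoidHom.range_eq_top]
    exact hsurj _ ⟨_, hπ 0⟩ ⟨_, hπ 1⟩ ⟨_, hπ 2⟩ ⟨_, hπ 3⟩

section
variable {F : Type*} [Field F] [Fintype F] {p : ℕ} [Fact p.Prime] [Algebra (ZMod p) F] {ζ : Fˣ}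

/-- the torus word -/
def hpW : FG4 := gT⁻¹ * gE * gT
/-- the torus word -/
def hW : FG4 := gE * hpW⁻¹
/-- the word of a root element -/
noncomputable def rB (pb : PowerBasis (ZMod p) F) (r : F) : FG4 := gC * word pb gE gU r * gC⁻¹
/-- the word of a root element -/
noncomputable def r02 (pb : PowerBasis (ZMod p) F) (r : F) : FG4 :=
  gC⁻¹ * (gT * word pb gE gU r * gT⁻¹) * gC

/-- relators for torus, Weyl group, and monomial part -/
noncomputable def commonRels (pb : PowerBasis (ZMod p) F) (ζ : Fˣ) (k : ℕ) : List FG4 :=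
  [gE * hpW * (hpW * gE)⁻¹, hpW * gU * hpW⁻¹ * (word pb gE gU ((ζ : F)⁻¹))⁻¹, gT * gT * (hW ^ k)⁻¹,
    (gT * gU) ^ 3, gC ^ 3, gC * gT * (gC * gT), gC * gE * gC⁻¹ * hW]

/-- a commutator relator -/
noncomputable def rel1 (pb : PowerBasis (ZMod p) F) (r : F) : FG4 :=
  gU * rB pb r * (r02 pb r * rB pb r * gU)⁻¹

/-- a commutator relator -/
noncomputable def rel2 (pb : PowerBasis (ZMod p) F) : FG4 :=
  gU * r02 pb 1 * (r02 pb 1 * gU)⁻¹

/-- a commutator relator -/
noncomputable def rel3 (pb : PowerBasis (ZMod p) F) (r : F) : FG4 :=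
  rB pb 1 * r02 pb r * (r02 pb r * rB pb 1)⁻¹

theorem mconj (pb : PowerBasis (ZMod p) F) (hgen : pb.gen = (ζ : F)) (r : F) :
    E ζ * (blk.comp uHom) (ofAdd r) * (E ζ)⁻¹ = (blk.comp uHom) (ofAdd (pb.gen * r)) := by
  show E ζ * blk (u r) * (E ζ)⁻¹ = blk (u (pb.gen * r))
  rw [blk_u, blk_u, hgen, E_x01]

theorem mword (pb : PowerBasis (ZMod p) F) (hgen : pb.gen = (ζ : F)) (r : F) :
    word pb (E ζ) (x01 1) r = x01 r := by
  rw [← blk_u, show blk (u (1 : F)) = (blk.comp uHom) (ofAdd 1) from rfl,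
    SL2PresURels.word_eq pb (mconj pb hgen)]
  exact blk_u r

theorem x02_eq (r : F) : (Cm⁻¹ * (blk W * x01 r * (blk W)⁻¹) * Cm : SL(3, F)) = x02 r := by
  rw [← Cm'_x10, ← conj_W, neg_neg]

theorem h_eq : (E ζ * ((blk W)⁻¹ * E ζ * blk W)⁻¹ : SL(3, F)) = blk (d ζ) := by
  rw [hp_eq, mul_inv_rev, mul_inv_cancel_left, ← map_inv]
  congr 1
  exact inv_eq_of_mul_eq_one_right (by rw [d_mul, inv_mul_cancel, d_one])

theorem surj (hζ : ∀ y, y ∈ Subgroup.zpowers ζ) (pb : PowerBasis (ZMod p) F) (hgen : pb.gen = (ζ : F))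
    (K : Subgroup SL(3, F)) (hu : x01 1 ∈ K) (he : E ζ ∈ K) (ht : blk W ∈ K) (hc : Cm ∈ K) : K = ⊤ := by
  refine SL3PresModel.eq_top_of_mem K (fun r => ?_) hc ht
  rw [← mword pb hgen]
  refine word_mem pb _ fun i _ => ?_
  exact K.mul_mem (K.mul_mem (K.pow_mem he i) hu) (K.inv_mem (K.pow_mem he i))

theorem common_sat (hζ : ∀ y, y ∈ Subgroup.zpowers ζ) (pb : PowerBasis (ZMod p) F) (hgen : pb.gen = (ζ : F))
    {k : ℕ} (k0 : (ζ : F) ^ k = -1) : Sat (commonRels pb ζ k) (x01 1) (E ζ) (blk W) Cm := by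
  simp only [Sat, commonRels, hpW, hW, List.forall_mem_cons, List.not_mem_nil, false_imp_iff, implies_true,
    and_true, map_mul, map_inv, map_pow, map_word, lift_gU, lift_gE, lift_gT, lift_gC, mul_inv_eq_one]
  refine ⟨?_, ?_, ?_, ?_, Cm_cube, Cm_W, ?_⟩
  · rw [hp_eq]; exact (E_hp_commute ζ).eq
  · rw [hp_eq, mword pb hgen, hp_x01, mul_one, Units.val_inv_eq_inv_val]
  · rw [h_eq, ← map_pow, ← map_mul, W_sq, d_pow]
    congr 1
    apply ext2 <;> simp [d, k0, inv_neg]
  · rw [← blk_u, ← map_mul, ← map_pow, cube, map_one]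
  · rw [h_eq, Cm_E, inv_mul_cancel]

theorem rels_sat (pb : PowerBasis (ZMod p) F) (hgen : pb.gen = (ζ : F)) :
    (∀ r : F, FreeGroup.lift ![(x01 1 : SL(3, F)), E ζ, blk W, Cm] (rel1 pb r) = 1) ∧
    FreeGroup.lift ![(x01 1 : SL(3, F)), E ζ, blk W, Cm] (rel2 pb) = 1 ∧
    (∀ r : F, FreeGroup.lift ![(x01 1 : SL(3, F)), E ζ, blk W, Cm] (rel3 pb r) = 1) := by
  refine ⟨fun r => ?_, ?_, fun r => ?_⟩ <;>
    simp only [rel1, rel2, rel3, rB, r02, map_mul, map_inv, map_word, lift_gU, lift_gE, lift_gT, lift_gC,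
      mul_inv_eq_one, mword pb hgen, Cm_x01, x02_eq]
  · rw [comm_01_12, one_mul]
  · exact comm_01_02 1 1
  · exact (comm_02_12 r 1).symm

/-- the datum from the relations -/
theorem inj_of (hζ : ∀ y, y ∈ Subgroup.zpowers ζ) (pb : PowerBasis (ZMod p) F) (hgen : pb.gen = (ζ : F))
    {k : ℕ} (k0 : (ζ : F) ^ k = -1)
    (hk : 2 * k = Fintype.card F - 1 ∨ (k = 0 ∧ ∃ l : ℕ, 2 * l + 1 = Fintype.card F - 1))
    {G : Type} [Group G] {u0 e t c : G} (π : G →* SL(3, F)) (hu : π u0 = x01 1) (he' : π e = E ζ)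
    (ht : π t = blk W) (hc : π c = Cm) (hgenG : Subgroup.closure ({u0, e, t, c} : Set G) = ⊤)
    (φ : Multiplicative F →* G) (hφ1 : φ (ofAdd 1) = u0)
    (hφ : ∀ r, e * φ (ofAdd r) * e⁻¹ = φ (ofAdd (pb.gen * r)))
    (hs : Sat (commonRels pb ζ k) u0 e t c)
    (h1 : FreeGroup.lift ![u0, e, t, c] (rel1 pb 1) = 1)
    (h1z : Fintype.card F ≠ 4 ∨ FreeGroup.lift ![u0, e, t, c] (rel1 pb (ζ : F)) = 1)
    (h3 : FreeGroup.lift ![u0, e, t, c] (rel3 pb 1) = 1)
    (h3z : Fintype.card F ≠ 4 ∨ FreeGroup.lift ![u0, e, t, c] (rel3 pb (ζ : F)) = 1)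
    (h2 : CharP F 2 ∨ (Fintype.card F ≠ 4 ∧ FreeGroup.lift ![u0, e, t, c] (rel2 pb) = 1)) :
    Function.Injective π := by
  subst hφ1
  simp only [Sat, commonRels, hpW, hW, List.forall_mem_cons, List.not_mem_nil, false_imp_iff, implies_true,
    and_true, map_mul, map_inv, map_pow, map_word, lift_gU, lift_gE, lift_gT, lift_gC, mul_inv_eq_one,
    SL2PresURels.word_eq pb hφ] at hs
  obtain ⟨sT, sHP, st2, s3, sc3, sct, sQ⟩ := hs
  rw [mul_eq_one_iff_eq_inv] at sQ
  let D : Datum G F ζ :=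
    { φ := φ, e := e, t := t, c := c, k := k, hζ := hζ, hk := hk, k0 := k0, hgen := hgenG
      he := fun r => by rw [← hgen]; exact hφ r
      hT := sT, hHP := sHP, ht2 := st2, h3 := s3, c3 := sc3, ct := sct, hQ := sQ
      π := π, πu := hu, πe := he', πt := ht, πc := hc }
  have eA : ∀ r, word pb e (φ (ofAdd 1)) r = D.A r := fun r => SL2PresURels.word_eq pb hφ r
  have eB : ∀ r, c * D.A r * c⁻¹ = D.B r := fun r => rfl
  have e02 : ∀ r, c⁻¹ * (t * D.A r * t⁻¹) * c = D.A02 r := fun r => by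
    show _ = D.c⁻¹ * (D.t * D.A (- -r) * D.t⁻¹) * D.c
    rw [neg_neg]
  simp only [rel1, rel2, rel3, rB, r02, map_mul, map_inv, map_word, lift_gU, lift_gE, lift_gT, lift_gC,
    mul_inv_eq_one, eA, eB, e02] at h1 h1z h2 h3 h3z
  rw [show φ (ofAdd 1) = D.A 1 from rfl] at h1 h1z h2
  exact SL3PresChart.injective (D := D) ⟨by rw [one_mul]; exact h1, by rw [one_mul]; exact h1z, h3, h3z, h2⟩

/-- four unipotent relators -/
noncomputable def uRels (pb : PowerBasis (ZMod p) F) (b : ℕ) : List FG4 :=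
  [gU ^ p, cj gE gU 1 * (gU * cj gE gU b)⁻¹, gU * cj gE gU b * (cj gE gU b * gU)⁻¹,
    cj gE gU pb.dim * (word pb gE gU (pb.gen ^ pb.dim))⁻¹]

theorem u_complete (pb : PowerBasis (ZMod p) F) (b : ℕ) {G : Type} [Group G] {u0 e : G}
    (h1 : u0 ^ p = 1) (h2 : cj e u0 1 = u0 * cj e u0 b) (h3 : Commute u0 (cj e u0 b))
    (h4 : cj e u0 pb.dim = word pb e u0 (pb.gen ^ pb.dim)) :
    ∃ φ : Multiplicative F →* G, φ (ofAdd 1) = u0 ∧ ∀ r, e * φ (ofAdd r) * e⁻¹ = φ (ofAdd (pb.gen * r)) := by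
  have hrel : MulAut.conj e u0 = u0 * MulAut.conj (e ^ b) u0 := by
    have := h2
    rwa [cj, pow_one, ← MulAut.conj_apply] at this
  have hz : ∀ n, Commute u0 (cj e u0 n) := commute_cj_of_pair (Commute.self_pow e b) hrel h3
  obtain ⟨φ, hφ1, hφ, -⟩ := exists_hom pb h1 hz h4
  exact ⟨φ, hφ1, hφ⟩

theorem odd_case (hζ : ∀ y, y ∈ Subgroup.zpowers ζ) (hodd : Odd (Fintype.card F)) (h2 : (2 : F) ≠ 0)
    (pb : PowerBasis (ZMod p) F) (hgen : pb.gen = (ζ : F)) :
    ∃ rels : Finset FG4, rels.card ≤ 14 ∧ Nonempty (PresentedGroup (↑rels : Set FG4) ≃* SL(3, F)) := by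
  obtain ⟨k, hk'⟩ := hodd
  have hk : Fintype.card F - 1 = 2 * k := by omega
  have hk0 : 0 < k := by have := Fintype.one_lt_card (α := F); omega
  have k0 : (ζ : F) ^ k = -1 := by
    rw [← Units.val_pow_eq_pow_val]; exact S2286.gen_pow_half hζ h2 hk hk0
  have h4 : Fintype.card F ≠ 4 := by omega
  have hz1 : (ζ : F) - 1 ≠ 0 := by
    intro h
    have := orderOf_gen hζ
    rw [show ζ = 1 from Units.ext (sub_eq_zero.mp h), orderOf_one] at this
    omega
  obtain ⟨b, hb⟩ := exists_pow hζ hz1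
  obtain ⟨r1, r2, r3⟩ := rels_sat pb hgen
  refine pres4 (uRels pb b ++ commonRels pb ζ k ++ [rel1 pb 1, rel2 pb, rel3 pb 1]) 14
    (by simp [uRels, commonRels]) (x01 1) (E ζ) (blk W) Cm ?_ (surj hζ pb hgen) ?_
  · intro r hr
    rcases List.mem_append.mp hr with hr | hr
    rcases List.mem_append.mp hr with hr | hr
    · have hc := mconj pb hgen
      have hu : (x01 1 : SL(3, F)) = (blk.comp uHom) (ofAdd 1) := (blk_u 1).symm
      rcases List.mem_cons.mp hr with rfl | hr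
      · rw [map_pow, lift_gU, hu]; exact SL2PresURels.pow_p_eq_one _ _
      rcases List.mem_cons.mp hr with rfl | hr
      · rw [map_mul, map_inv, map_mul, map_cj, map_cj, lift_gU, lift_gE, mul_inv_eq_one, hu,
          SL2PresURels.cj_hom hc, SL2PresURels.cj_hom hc, ← map_mul, ← ofAdd_add, pow_one, mul_one, mul_one,
          hgen, hb, add_sub_cancel]
      rcases List.mem_cons.mp hr with rfl | hr
      · rw [map_mul, map_inv, map_mul, map_mul, map_cj, lift_gU, lift_gE, mul_inv_eq_one, hu,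
          SL2PresURels.cj_hom hc]
        exact ((Commute.all _ _).map (blk.comp uHom)).eq
      rcases List.mem_cons.mp hr with rfl | hr
      · rw [map_mul, map_inv, map_cj, map_word, lift_gU, lift_gE, mul_inv_eq_one, hu,
          SL2PresURels.cj_hom hc, SL2PresURels.word_eq pb hc, mul_one]
      · simp at hr
    · exact common_sat hζ pb hgen k0 r hr
    · rcases List.mem_cons.mp hr with rfl | hr
      · exact r1 1
      rcases List.mem_cons.mp hr with rfl | hr
      · exact r2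
      rcases List.mem_cons.mp hr with rfl | hr
      · exact r3 1
      · simp at hr
  · intro G _ u0 e t c π hu he ht hc hgenG hs
    have s1 : Sat (uRels pb b) u0 e t c := fun r hr => hs r (by simp [hr])
    simp only [Sat, uRels, List.forall_mem_cons, List.not_mem_nil, false_imp_iff, implies_true, and_true,
      map_mul, map_inv, map_pow, map_cj, map_word, lift_gU, lift_gE, mul_inv_eq_one] at s1
    obtain ⟨a1, a2, a3, a4⟩ := s1
    obtain ⟨φ, hφ1, hφ⟩ := u_complete pb b a1 a2 a3 a4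
    exact inj_of hζ pb hgen k0 (Or.inl hk.symm) π hu he ht hc hgenG φ hφ1 hφ (fun r hr => hs r (by simp [hr]))
      (hs _ (by simp)) (Or.inl h4) (hs _ (by simp)) (Or.inl h4) (Or.inr ⟨h4, hs _ (by simp)⟩)

end

section
variable {F : Type*} [Field F] [Fintype F] [Algebra (ZMod 2) F] {ζ : Fˣ}

theorem two_case (hζ : ∀ y, y ∈ Subgroup.zpowers ζ)
    (pb : PowerBasis (ZMod 2) F) (hgen : pb.gen = (ζ : F)) (hcard : Fintype.card F = 2 ^ pb.dim) :
    ∃ rels : Finset FG4, rels.card ≤ 14 ∧ Nonempty (PresentedGroup (↑rels : Set FG4) ≃* SL(3, F)) := by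
  haveI : CharP F 2 := charP_of_injective_algebraMap (algebraMap (ZMod 2) F).injective 2
  have k0 : (ζ : F) ^ 0 = -1 := by rw [pow_zero, CharTwo.neg_eq]
  have hq := Fintype.one_lt_card (α := F)
  obtain ⟨l, hl⟩ := (Nat.even_pow.mpr ⟨even_two, pb.dim_pos.ne'⟩ : Even (2 ^ pb.dim))
  have hk : 2 * 0 = Fintype.card F - 1 ∨ (0 = 0 ∧ ∃ l : ℕ, 2 * l + 1 = Fintype.card F - 1) :=
    Or.inr ⟨rfl, l - 1, by omega⟩
  obtain ⟨r1, -, r3⟩ := rels_sat pb hgen
  have hc := mconj pb hgen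
  have hu : (x01 1 : SL(3, F)) = (blk.comp uHom) (ofAdd 1) := (blk_u 1).symm
  have hsq : (x01 1 * x01 1 : SL(3, F)) = 1 := by
    rw [hu, ← pow_two]; exact SL2PresURels.pow_p_eq_one (p := 2) _ _
  -- the second unipotent relator
  obtain ⟨R2, hR2, hder⟩ : ∃ R2 : FG4,
      FreeGroup.lift ![(x01 1 : SL(3, F)), E ζ, blk W, Cm] R2 = 1 ∧
      ∀ (G : Type) [Group G] (u0 e t c : G), u0 * u0 = 1 →
        FreeGroup.lift ![u0, e, t, c] R2 = 1 → cj e u0 pb.dim = word pb e u0 (pb.gen ^ pb.dim) →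
        ∃ φ : Multiplicative F →* G, φ (ofAdd 1) = u0 ∧
          ∀ r, e * φ (ofAdd r) * e⁻¹ = φ (ofAdd (pb.gen * r)) := by
    by_cases hq2 : Fintype.card F = 2
    · have hz1 : ζ = 1 := by
        have := pow_card_sub_one hζ
        rwa [hq2, pow_one] at this
      refine ⟨gE, by rw [lift_gE, hz1]; exact map_one EHom, fun G _ u0 e t c h1 h2 h4 => ?_⟩
      rw [lift_gE] at h2
      subst h2
      obtain ⟨φ, hφ1, hφ, -⟩ := exists_hom (p := 2) pb (show u0 ^ 2 = 1 by rw [pow_two, h1])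
        (fun n => by simp [cj]) h4
      exact ⟨φ, hφ1, hφ⟩
    · have hz1 : (ζ : F) - 1 ≠ 0 := by
        intro h
        have := orderOf_gen hζ
        rw [show ζ = 1 from Units.ext (sub_eq_zero.mp h), orderOf_one] at this
        omega
      obtain ⟨b, hb⟩ := exists_pow hζ hz1
      refine ⟨cj gE gU 1 * (gU * cj gE gU b)⁻¹, ?_, fun G _ u0 e t c h1 h2 h4 => ?_⟩
      · rw [map_mul, map_inv, map_mul, map_cj, map_cj, lift_gU, lift_gE, mul_inv_eq_one, hu,
          SL2PresURels.cj_hom hc, SL2PresURels.cj_hom hc, ← map_mul, ← ofAdd_add, pow_one, mul_one, mul_one,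
          hgen, hb, add_sub_cancel]
      · simp only [map_mul, map_inv, map_cj, lift_gU, lift_gE, mul_inv_eq_one] at h2
        have hs : ∀ i, cj e u0 i * cj e u0 i = 1 := fun i => by
          rw [cj, ← MulAut.conj_apply, ← map_mul, h1, map_one]
        have hcom : Commute u0 (cj e u0 b) := by
          have := hs 1
          rw [h2] at this
          have h3 := inv_eq_of_mul_eq_one_right this
          rw [mul_inv_rev, inv_eq_of_mul_eq_one_right h1, inv_eq_of_mul_eq_one_right (hs b)] at h3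
          exact h3.symm
        exact u_complete (p := 2) pb b (by rw [pow_two, h1]) h2 hcom h4
  refine pres4 ([gU * gU, R2, cj gE gU pb.dim * (word pb gE gU (pb.gen ^ pb.dim))⁻¹] ++ commonRels pb ζ 0 ++
      [rel1 pb 1, rel1 pb (ζ : F), rel3 pb 1, rel3 pb (ζ : F)]) 14
    (by simp [commonRels]) (x01 1) (E ζ) (blk W) Cm ?_ (surj hζ pb hgen) ?_
  · intro r hr
    rcases List.mem_append.mp hr with hr | hr
    rcases List.mem_append.mp hr with hr | hr
    · rcases List.mem_cons.mp hr with rfl | hr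
      · rw [map_mul, lift_gU, hsq]
      rcases List.mem_cons.mp hr with rfl | hr
      · exact hR2
      rcases List.mem_cons.mp hr with rfl | hr
      · rw [map_mul, map_inv, map_cj, map_word, lift_gU, lift_gE, mul_inv_eq_one, hu,
          SL2PresURels.cj_hom hc, SL2PresURels.word_eq pb hc, mul_one]
      · simp at hr
    · exact common_sat hζ pb hgen k0 r hr
    · rcases List.mem_cons.mp hr with rfl | hr
      · exact r1 1
      rcases List.mem_cons.mp hr with rfl | hr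
      · exact r1 _
      rcases List.mem_cons.mp hr with rfl | hr
      · exact r3 1
      rcases List.mem_cons.mp hr with rfl | hr
      · exact r3 _
      · simp at hr
  · intro G _ u0 e t c π hu he ht hc hgenG hs
    have a1 : u0 * u0 = 1 := by simpa [lift_gU] using hs (gU * gU) (by simp)
    have a2 : FreeGroup.lift ![u0, e, t, c] R2 = 1 := hs R2 (by simp)
    have a4 : cj e u0 pb.dim = word pb e u0 (pb.gen ^ pb.dim) := by
      simpa [map_cj, map_word, lift_gU, lift_gE, mul_inv_eq_one] using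
        hs (cj gE gU pb.dim * (word pb gE gU (pb.gen ^ pb.dim))⁻¹) (by simp)
    obtain ⟨φ, hφ1, hφ⟩ := hder G u0 e t c a1 a2 a4
    exact inj_of hζ pb hgen k0 hk π hu he ht hc hgenG φ hφ1 hφ (fun r hr => hs r (by simp [hr]))
      (hs _ (by simp)) (Or.inr (hs _ (by simp))) (hs _ (by simp)) (Or.inr (hs _ (by simp))) (Or.inl inferInstance)

end


/-- For every finite field F other than the field with 9 elements, SL_3(F) has a presentation with 4 generators and at most 14 relations. -/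
theorem result {F : Type*} [Field F] [Fintype F] (hq9 : Fintype.card F ≠ 9) : ∃ rels : Finset (FreeGroup (Fin 4)), rels.card ≤ 14 ∧ Nonempty (PresentedGroup (↑rels : Set (FreeGroup (Fin 4))) ≃* Matrix.SpecialLinearGroup (Fin 3) F) := by
  obtain ⟨p, hp⟩ := CharP.exists F
  haveI : Fact p.Prime := ⟨CharP.char_is_prime F p⟩
  letI : Algebra (ZMod p) F := ZMod.algebra F p
  obtain ⟨ζ, hζ⟩ := IsCyclic.exists_generator (α := Fˣ)
  have hadj : Algebra.adjoin (ZMod p) {(ζ : F)} = ⊤ := by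
    rw [eq_top_iff, ← adjoin_sq (p := p) hζ]
    exact Algebra.adjoin_le (Set.singleton_subset_iff.mpr
      (pow_mem (Algebra.self_mem_adjoin_singleton (ZMod p) (ζ : F)) 2))
  obtain ⟨pb, hgen, hcard⟩ := SL2PresURels.exists_pb hadj
  by_cases hp2 : p = 2
  · subst hp2
    exact two_case hζ pb hgen hcard
  · have hodd : Odd (Fintype.card F) := by
      rw [hcard]; exact ((Fact.out : p.Prime).odd_of_ne_two hp2).pow
    have h2 : (2 : F) ≠ 0 := fun h => hp2 (((Nat.prime_dvd_prime_iff_eq (Fact.out : p.Prime) Nat.prime_two).mp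
      ((CharP.cast_eq_zero_iff F p 2).mp (by exact_mod_cast h))))
    exact odd_case hζ hodd h2 pb hgen

end Cfsg.Agent.S2287
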