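import Cfsg.Statements.S2290
import Cfsg.Agent.Lib.ShortPresSL
import Cfsg.Agent.S2278
import Cfsg.Agent.S2279

set_option autoImplicit false
open Cfsg

namespace Cfsg.Agent.S2290

open PSL2Elements SL2PresAbel ShortPres ShortPresSL
open Multiplicative (ofAdd)
open scoped MatrixGroups

variable {F : Type*} [Field F] [Fintype F]

/-- two generators of `SL(2, F)` -/
theorem sl2_two (ζ : Fˣ) (hζ : ∀ y, y ∈ Subgroup.zpowers ζ) (h4 : 4 ≤ Fintype.card F) :
    Subgroup.closure ({d ζ, u 1 * SL2PresData.W} : Set SL(2, F)) = ⊤ := by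
  obtain ⟨p, hp⟩ := CharP.exists F
  haveI : Fact p.Prime := ⟨CharP.char_is_prime F p⟩
  letI : Algebra (ZMod p) F := ZMod.algebra F p
  obtain ⟨pb, hgen, -⟩ := SL2PresURels.exists_pb (SL2PresData.adjoin_sq (p := p) hζ)
  set K := Subgroup.closure ({d ζ, u 1 * SL2PresData.W} : Set SL(2, F))
  set x : SL(2, F) := u 1 * SL2PresData.W
  have hd : d ζ ∈ K := Subgroup.subset_closure (Or.inl rfl)
  have hx : x ∈ K := Subgroup.subset_closure (Or.inr rfl)
  have hz : (ζ : F) ≠ 0 := ζ.ne_zero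
  set c : F := 1 - (ζ : F) ^ 2
  have hc : c ≠ 0 := by
    intro h
    have h' : ζ ^ 2 = 1 := Units.ext (by
      rw [Units.val_pow_eq_pow_val, Units.val_one]; exact (sub_eq_zero.mp h).symm)
    have := orderOf_le_of_pow_eq_one (by norm_num) h'
    rw [SL2PresData.orderOf_gen hζ] at this
    omega
  have hl : lo c ∈ K := by
    have : (lo c : SL(2, F)) = x⁻¹ * (d ζ * x * d ζ) := by
      rw [eq_inv_mul_iff_mul_eq]
      apply ext2 <;> simp [x, c, lo, d, u, SL2PresData.W, mul_apply2] <;> field_simp <;> ring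
    rw [this]
    exact K.mul_mem (K.inv_mem hx) (K.mul_mem (K.mul_mem hd hx) hd)
  let φ : Multiplicative F →* SL(2, F) :=
    { toFun := fun r => lo (c * r.toAdd)
      map_one' := by apply ext2 <;> simp [lo]
      map_mul' := fun r s => by apply ext2 <;> simp [lo, mul_apply2, mul_add] }
  have hφ : ∀ r, (d ζ)⁻¹ * φ (ofAdd r) * (d ζ)⁻¹⁻¹ = φ (ofAdd (pb.gen * r)) := fun r => by
    rw [inv_inv, mul_assoc, inv_mul_eq_iff_eq_mul]
    show lo (c * r) * d ζ = d ζ * lo (c * (pb.gen * r))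
    rw [hgen]
    apply ext2 <;> simp [lo, d, mul_apply2] <;> field_simp
  have hlo : ∀ r, lo r ∈ K := fun r => by
    have e : lo r = φ (ofAdd (r / c)) := by
      show lo r = lo (c * (r / c)); rw [mul_div_cancel₀ _ hc]
    rw [e, ← SL2PresURels.word_eq pb hφ]
    refine word_mem pb _ fun i _ => ?_
    have h1 : φ (ofAdd 1) ∈ K := by show lo (c * 1) ∈ K; rw [mul_one]; exact hl
    exact K.mul_mem (K.mul_mem (K.pow_mem (K.inv_mem hd) i) h1) (K.inv_mem (K.pow_mem (K.inv_mem hd) i))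
  refine sl2_top' K (fun r => ?_) hlo
  have : (u r : SL(2, F)) = x * lo (-r) * x⁻¹ := by
    rw [eq_mul_inv_iff_mul_eq]
    apply ext2 <;> simp [x, lo, u, SL2PresData.W, mul_apply2] <;> ring
  rw [this]
  exact K.mul_mem (K.mul_mem hx (hlo _)) (K.inv_mem hx)

/-- pass to `PSL` and two letters -/
theorem finish {n : ℕ} [NeZero n] {N : ℕ} (hS : Short SL(n, F) N) (a b : SL(n, F))
    (hab : Subgroup.closure ({a, b} : Set SL(n, F)) = ⊤) :
    ∃ rels : Finset (FreeGroup (Fin 2)), rels.card ≤ N + 1 + 2 ∧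
      Nonempty (PresentedGroup (↑rels : Set (FreeGroup (Fin 2))) ≃* PSL(n, F)) := by
  haveI : IsCyclic (Subgroup.center SL(n, F)) :=
    isCyclic_of_surjective _ (Matrix.SpecialLinearGroup.center_equiv_rootsOfUnity (n := Fin n) (R := F)).symm.surjective
  obtain ⟨z, hz⟩ := IsCyclic.exists_generator (α := Subgroup.center SL(n, F))
  let q : SL(n, F) →* PSL(n, F) := QuotientGroup.mk' _
  have hq : Function.Surjective q := QuotientGroup.mk'_surjective _
  have h1 : q z.1 = 1 := (QuotientGroup.eq_one_iff _).mpr z.2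
  have hk : q.ker ≤ Subgroup.normalClosure {z.1} := by
    intro g hg
    have hg' : g ∈ Subgroup.center SL(n, F) := (QuotientGroup.ker_mk' _).le hg
    obtain ⟨i, hi⟩ := hz ⟨g, hg'⟩
    have e : z.1 ^ i = g := (Subgroup.coe_zpow _ z i).symm.trans (congrArg Subtype.val hi)
    have hz1 : z.1 ∈ Subgroup.normalClosure ({z.1} : Set SL(n, F)) :=
      Subgroup.subset_normalClosure (Set.mem_singleton z.1)
    have hzi := Subgroup.zpow_mem _ hz1 i
    exact e ▸ hzi
  have hs := Short.quotient hS q hq z.1 h1 hk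
  refine hs.two_generators (q a) (q b) ?_
  rw [show ({q a, q b} : Set PSL(n, F)) = q '' {a, b} by rw [Set.image_pair],
    ← MonoidHom.map_closure, hab, Subgroup.map_top_of_surjective _ hq]

/-- For every finite field F with q elements and n ≥ 2, with q ≥ 4 when n = 2, the simple group PSL_n(F) has a presentation with 2 generators and at most 80 relations. -/
theorem result {F : Type*} [Field F] [Fintype F] (n : ℕ) (hn : 2 ≤ n) (h2 : n = 2 → 4 ≤ Fintype.card F) :
    ∃ rels : Finset (FreeGroup (Fin 2)), rels.card ≤ 80 ∧ Nonempty (PresentedGroup (↑rels : Set (FreeGroup (Fin 2))) ≃* Matrix.ProjectiveSpecialLinearGroup (Fin n) F) := by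
  haveI : NeZero n := ⟨by omega⟩
  rcases Nat.lt_or_ge n 4 with h | h
  · interval_cases n
    · obtain ⟨ζ, hζ⟩ := IsCyclic.exists_generator (α := Fˣ)
      obtain ⟨⟨rels, hr, ⟨e⟩⟩, -, -⟩ := S2286.result (F := F)
      obtain ⟨R, hR, he⟩ := finish (Short.of_presented rels hr e) _ _ (sl2_two ζ hζ (h2 rfl))
      exact ⟨R, by omega, he⟩
    · obtain ⟨u, g, -, -, hgen⟩ := S2278.result (F := F)
      obtain ⟨R, hR, he⟩ := finish (short_three F) _ _ hgen
      exact ⟨R, by omega, he⟩
  · obtain ⟨⟨u, v, -, -, hgen⟩, -⟩ := S2279.result (F := F) n h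
    obtain ⟨R, hR, he⟩ := finish (short_sl n h) _ _ hgen
    exact ⟨R, by omega, he⟩

end Cfsg.Agent.S2290
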