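import Cfsg.Statements.S4468
import Mathlib
import Cfsg.Agent.Lib.TIFixed
import Cfsg.Agent.Lib.CharProjDegree
import Cfsg.Agent.Lib.CharBasicLinear
import Cfsg.Agent.Lib.CharInducedCorr
import Cfsg.Agent.Lib.HallSolvable
import Cfsg.Agent.Lib.HallCore
import Cfsg.Agent.Lib.SignalizerCoprime
import Cfsg.Agent.Lib.CoprimeTools

set_option autoImplicit false
open Cfsg

namespace Cfsg.Agent.S4468
open Cfsg.Agent.CharBasic Cfsg.Agent.CharBasicOrth Cfsg.Agent.CharBasicDecomp Cfsg.Agent.CharInduced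
open scoped commutatorElement ComplexConjugate

universe w

noncomputable local instance (priority := high) fintypeOfFin' {α : Type*} [Finite α] : Fintype α :=
  Fintype.ofFinite α

theorem exists_constituent_ne {H : Type w} [Group H] [Finite H] {a : H → ℂ} (ha : IsCharacter H a)
    {g : H} (hg : a g ≠ a 1) : ∃ ψ : IrrCharacter H, classInner a (ψ : H → ℂ) ≠ 0 ∧
      (ψ : H → ℂ) g ≠ (ψ : H → ℂ) 1 ∧ charDegree (ψ : H → ℂ) ≤ charDegree a := by
  classical
  obtain ⟨m, hm, hsum⟩ := exists_mult ha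
  obtain ⟨ψ, h0, h1⟩ : ∃ ψ : IrrCharacter H, m ψ ≠ 0 ∧ (ψ : H → ℂ) g ≠ (ψ : H → ℂ) 1 := by
    by_contra hcon
    push Not at hcon
    refine hg ?_
    rw [hsum, Finset.sum_apply, Finset.sum_apply]
    refine Finset.sum_congr rfl fun ψ _ => ?_
    by_cases h : m ψ = 0
    · simp [h]
    · simp [hcon ψ h]
  refine ⟨ψ, by rw [hm]; exact Nat.cast_ne_zero.2 h0, h1, ?_⟩
  obtain ⟨k, hk⟩ := isCharacter_apply_one (isCharacter_sub_constituent ha ψ.2
    (by rw [hm]; exact Nat.cast_ne_zero.2 h0))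
  rw [Pi.sub_apply, CharAverage.irr_apply_one, CharAverage.apply_one_eq_charDegree ha,
    sub_eq_iff_eq_add, ← Nat.cast_add, Nat.cast_inj] at hk
  omega

theorem comm_of_pGroup {G : Type w} [Group G] [Finite G] {χ : G → ℂ} (hχ : IsCharacter G χ)
    (hfaith : ∀ g : G, χ g = χ 1 → g = 1) {p : ℕ} [Fact p.Prime] (hdeg : charDegree χ < p)
    (P : Subgroup G) (hP : IsPGroup p P) : ∀ a ∈ P, ∀ b ∈ P, a * b = b * a := by
  intro a ha b hb
  rw [← commutatorElement_eq_one_iff_mul_comm]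
  by_contra hne
  obtain ⟨ψ, -, hψ, hle⟩ := exists_constituent_ne (isCharacter_res P hχ)
    (g := ⁅(⟨a, ha⟩ : P), ⟨b, hb⟩⁆) (fun h => hne (hfaith _ h))
  obtain ⟨k, hk⟩ := IsPGroup.iff_card.1 hP
  obtain ⟨i, -, hi⟩ := (Nat.dvd_prime_pow (Fact.out : p.Prime)).1
    (hk ▸ CharAverage.charDegree_dvd_card ψ)
  have hres : charDegree (fun x : P => χ x) = charDegree χ := by simp [charDegree]
  have hi0 : i = 0 := by
    by_contra h0
    have h1 : p ≤ p ^ i := Nat.le_self_pow h0 p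
    omega
  obtain ⟨l, hl⟩ := CharBasicLinear.exists_hom_of_apply_one_eq_one
    (isCharacter_of_isIrrCharacter ψ.2) (by
      rw [CharAverage.irr_apply_one, hi, hi0, pow_zero, Nat.cast_one])
  refine hψ ?_
  rw [hl]
  show ((l _ : ℂˣ) : ℂ) = ((l 1 : ℂˣ) : ℂ)
  rw [map_commutatorElement, map_one, commutatorElement_eq_one_iff_mul_comm.2 (mul_comm _ _)]

theorem normal_sup {G : Type w} [Group G] [Finite G] {p : ℕ} [Fact p.Prime]
    (hsolv : IsPSolvable p G) (P : Sylow p G)
    (hcomm : ∀ a ∈ (P : Subgroup G), ∀ b ∈ (P : Subgroup G), a * b = b * a) :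
    ((P : Subgroup G) ⊔ pPrimeCore p G).Normal := by
  set N := pPrimeCore p G
  let π := QuotientGroup.mk' N
  have hπ : Function.Surjective π := QuotientGroup.mk'_surjective N
  have h := HallSolvable.centralizer_pCore_le (HallSolvable.isPSolvable_quotient hsolv N)
    (HallCore.pPrimeCore_quotient_self p G)
  let Pb := P.mapSurjective hπ
  have hle : pCore p (G ⧸ N) ≤ (Pb : Subgroup (G ⧸ N)) :=
    (HallCore.isPGroup_pCore p (G ⧸ N)).le_sylow_of_normal Pb
  have heq : (Pb : Subgroup (G ⧸ N)) = pCore p (G ⧸ N) := by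
    refine le_antisymm (fun x hx => h (Subgroup.mem_centralizer_iff.2 fun y hy => ?_)) hle
    obtain ⟨a, ha, rfl⟩ := hx
    obtain ⟨b, hb, rfl⟩ := hle hy
    rw [← map_mul, ← map_mul, hcomm a ha b hb]
  have hn : ((P : Subgroup G).map π).Normal := by
    show (Pb : Subgroup (G ⧸ N)).Normal
    rw [heq]; infer_instance
  have h2 := hn.comap π
  rwa [QuotientGroup.comap_map_mk', sup_comm] at h2

theorem exists_minimal {G : Type w} [Group G] [Finite G] {p : ℕ} [Fact p.Prime] {y : G}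
    (hy : IsPGroup p (Subgroup.zpowers y)) (N : Subgroup G) (hNp : ¬ p ∣ Nat.card N)
    (hN : Subgroup.zpowers y ≤ Subgroup.normalizer (N : Set G))
    (hne : ∃ n ∈ N, n * y ≠ y * n) :
    ∃ (q : ℕ) (Q : Subgroup G), q.Prime ∧ q ≠ p ∧ IsPGroup q Q ∧
      Subgroup.zpowers y ≤ Subgroup.normalizer (Q : Set G) ∧ (∃ u ∈ Q, u * y ≠ y * u) ∧
      (∀ c ∈ Q, c * y = y * c → ∀ u ∈ Q, c * u = u * c) ∧
      (∀ a ∈ Q, ∀ b ∈ Q, ⁅a, b⁆ * y = y * ⁅a, b⁆) := by
  classical
  let S : Finset (Subgroup G) := Finset.univ.filter fun U => U ≤ N ∧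
    Subgroup.zpowers y ≤ Subgroup.normalizer (U : Set G) ∧ ∃ u ∈ U, u * y ≠ y * u
  obtain ⟨Q, hQ, hmin⟩ := S.exists_minimal
    ⟨N, Finset.mem_filter.2 ⟨Finset.mem_univ _, le_rfl, hN, hne⟩⟩
  obtain ⟨-, hQN, hQn, hQne⟩ := Finset.mem_filter.1 hQ
  have hsmall : ∀ U ≤ Q, Subgroup.zpowers y ≤ Subgroup.normalizer (U : Set G) → U ≠ Q →
      ∀ u ∈ U, u * y = y * u := by
    intro U hUQ hUn hU u hu
    by_contra hne'
    exact hU (le_antisymm hUQ (hmin (Finset.mem_filter.2
      ⟨Finset.mem_univ _, hUQ.trans hQN, hUn, u, hu, hne'⟩) hUQ))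
  have hQp : ¬ p ∣ Nat.card Q := fun h => hNp (h.trans (Subgroup.card_dvd_of_le hQN))
  -- a prime power group
  obtain ⟨q, hq, hQq⟩ : ∃ q : ℕ, q.Prime ∧ IsPGroup q Q := by
    by_contra hcon
    push Not at hcon
    obtain ⟨u, hu, hne'⟩ := hQne
    refine hne' ?_
    have hC : ((Subgroup.centralizer ({y} : Set G)).subgroupOf Q) = ⊤ := by
      rw [← Subgroup.index_eq_one]
      by_contra hidx
      obtain ⟨r, hr, hrd⟩ := Nat.exists_prime_and_dvd hidx
      have : Fact r.Prime := ⟨hr⟩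
      obtain ⟨R, hRQ, hRc, hRn⟩ := SignalizerCoprime.exists_invariant_sylow hy hQn hQp r
      have hR : R ≠ Q := fun e => hcon r hr (e ▸ IsPGroup.of_card hRc)
      have hle : R.subgroupOf Q ≤ (Subgroup.centralizer ({y} : Set G)).subgroupOf Q := fun x hx =>
        Subgroup.mem_subgroupOf.2 (Subgroup.mem_centralizer_singleton_iff.2
          (hsmall R hRQ hRn hR x (Subgroup.mem_subgroupOf.1 hx)))
      have h1 := Subgroup.card_dvd_of_le hle
      rw [Nat.card_congr (Subgroup.subgroupOfEquivOfLe hRQ).toEquiv, hRc] at h1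
      have h2 : r ^ ((Nat.card Q).factorization r + 1) ∣ Nat.card Q :=
        (pow_succ r _).symm ▸ (mul_dvd_mul h1 hrd).trans
          (dvd_of_eq ((Subgroup.centralizer ({y} : Set G)).subgroupOf Q).card_mul_index)
      exact Nat.pow_succ_factorization_not_dvd Nat.card_pos.ne' hr h2
    have h3 : (⟨u, hu⟩ : Q) ∈ (Subgroup.centralizer ({y} : Set G)).subgroupOf Q :=
      hC ▸ Subgroup.mem_top _
    exact Subgroup.mem_centralizer_singleton_iff.1 (Subgroup.mem_subgroupOf.1 h3)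
  have : Fact q.Prime := ⟨hq⟩
  have hQ1 : Q ≠ ⊥ := fun h => by
    obtain ⟨u, hu, hne'⟩ := hQne
    rw [h, Subgroup.mem_bot] at hu
    exact hne' (by rw [hu, one_mul, mul_one])
  have hqp : q ≠ p := by
    rintro rfl
    obtain ⟨k, hk⟩ := IsPGroup.iff_card.1 hQq
    rcases Nat.eq_zero_or_pos k with rfl | hk0
    · exact hQ1 (Subgroup.eq_bot_of_card_eq _ (by rw [hk, pow_zero]))
    · exact hQp (hk ▸ dvd_pow_self q hk0.ne')
  let σ : MulAut G := MulAut.conj y
  have hσ : ∀ z ∈ Subgroup.zpowers y, ∀ v, v ∈ Q → z * v * z⁻¹ ∈ Q := fun z hz v hv =>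
    (Subgroup.mem_normalizer_iff.1 (hQn hz) v).1 hv
  -- commutators are fixed
  have hcomm : ∀ a ∈ Q, ∀ b ∈ Q, ⁅a, b⁆ * y = y * ⁅a, b⁆ := by
    intro a ha b hb
    refine hsmall ⁅Q, Q⁆ (Subgroup.commutator_le_self Q) ?_ ?_ _
      (Subgroup.commutator_mem_commutator ha hb)
    · intro z hz
      exact CoprimeTools.le_normalizer_commutator_of_le hQn hQn hz
    · intro h
      have hnil : Group.IsNilpotent Q := hQq.isNilpotent
      have h1 : commutator Q = ⊤ := by
        refine Subgroup.map_injective Q.subtype_injective ?_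
        rw [Subgroup.map_subtype_commutator, h, ← MonoidHom.range_eq_map, Subgroup.range_subtype]
      obtain ⟨v, hv, hv1⟩ := (Subgroup.bot_or_exists_ne_one Q).resolve_left hQ1
      have : Nontrivial Q := ⟨⟨⟨v, hv⟩, 1, fun e => hv1 (congrArg Subtype.val e)⟩⟩
      exact (IsSolvable.commutator_lt_top_of_nontrivial (G := Q)).ne h1
  refine ⟨q, Q, hq, hqp, hQq, hQn, hQne, ?_, hcomm⟩
  -- fixed points are central
  intro c hc hcy
  let X : Set G := {d | ∃ v ∈ Q, d = v⁻¹ * (y * v * y⁻¹)}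
  let R : Subgroup G := Subgroup.closure X
  have hyQ := hσ y (Subgroup.mem_zpowers y)
  have hRQ : R ≤ Q := (Subgroup.closure_le _).2 (by
    rintro _ ⟨v, hv, rfl⟩
    exact mul_mem (inv_mem hv) (hyQ v hv))
  have hcR : R ≤ Subgroup.centralizer ({c} : Set G) := by
    refine (Subgroup.closure_le _).2 ?_
    rintro _ ⟨v, hv, rfl⟩
    refine Subgroup.mem_centralizer_singleton_iff.2 ?_
    have hz := hcomm c hc v hv
    have hyc : y * c * y⁻¹ = c := by rw [← hcy, mul_inv_cancel_right]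
    have h1 : ⁅c, y * v * y⁻¹⁆ = ⁅c, v⁆ := by
      calc ⁅c, y * v * y⁻¹⁆ = ⁅y * c * y⁻¹, y * v * y⁻¹⁆ := by rw [hyc]
        _ = y * ⁅c, v⁆ * y⁻¹ := (conjugate_commutatorElement c v y).symm
        _ = ⁅c, v⁆ := by rw [← hz, mul_inv_cancel_right]
    rw [commutatorElement_def, commutatorElement_def] at h1
    have h5 : c * (v⁻¹ * (y * v * y⁻¹)) * c⁻¹ = v⁻¹ * (y * v * y⁻¹) := by
      calc c * (v⁻¹ * (y * v * y⁻¹)) * c⁻¹
          = (c * v * c⁻¹ * v⁻¹ * v)⁻¹ *
              (c * (y * v * y⁻¹) * c⁻¹ * (y * v * y⁻¹)⁻¹ * (y * v * y⁻¹)) := by group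
        _ = v⁻¹ * (y * v * y⁻¹) := by rw [h1]; group
    exact (mul_inv_eq_iff_eq_mul.1 h5).symm
  have hRn : Subgroup.zpowers y ≤ Subgroup.normalizer (R : Set G) := by
    intro z hz
    obtain ⟨i, rfl⟩ := Subgroup.mem_zpowers_iff.1 hz
    refine zpow_mem ?_ i
    rw [Subgroup.mem_normalizer_iff_map_conj_eq]
    refine Subgroup.eq_of_le_of_card_ge ?_ (le_of_eq
      (Subgroup.card_map_of_injective (MulAut.conj y).injective).symm)
    rw [MonoidHom.map_closure]
    refine (Subgroup.closure_le _).2 ?_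
    rintro _ ⟨_, ⟨v, hv, rfl⟩, rfl⟩
    refine Subgroup.subset_closure ⟨y * v * y⁻¹, hyQ v hv, ?_⟩
    show y * (v⁻¹ * (y * v * y⁻¹)) * y⁻¹ = _
    group
  by_cases hR : R = Q
  · intro u hu
    exact (Subgroup.mem_centralizer_singleton_iff.1 (hcR (hR ▸ hu))).symm
  exfalso
  obtain ⟨u, hu, hne'⟩ := hQne
  set d := u⁻¹ * (y * u * y⁻¹) with hd
  have hdR : d ∈ R := Subgroup.subset_closure ⟨u, hu, rfl⟩
  have hdy : d * y = y * d := hsmall R hRQ hRn hR d hdR
  have hpw : ∀ k : ℕ, y ^ k * u * (y ^ k)⁻¹ = u * d ^ k := by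
    intro k
    induction k with
    | zero => simp
    | succ k ih =>
      have hdk : y * d ^ k = d ^ k * y := ((Commute.pow_left (show Commute d y from hdy) k).eq).symm
      calc y ^ (k + 1) * u * (y ^ (k + 1))⁻¹ = y * (y ^ k * u * (y ^ k)⁻¹) * y⁻¹ := by
            rw [pow_succ']; group
        _ = y * u * y⁻¹ * (y * d ^ k) * y⁻¹ := by rw [ih]; group
        _ = y * u * y⁻¹ * (d ^ k * y) * y⁻¹ := by rw [hdk]
        _ = y * u * y⁻¹ * d ^ k := by group
        _ = u * (d * d ^ k) := by rw [← mul_assoc u d, hd, mul_inv_cancel_left]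
        _ = u * d ^ (k + 1) := by rw [pow_succ']
  have h1 : d ^ orderOf y = 1 := by
    have := hpw (orderOf y)
    rw [pow_orderOf_eq_one, one_mul, inv_one, mul_one, left_eq_mul] at this
    exact this
  have hd1 : d = 1 := by
    obtain ⟨i, hi⟩ := IsPGroup.iff_card.1 hy
    rw [Nat.card_zpowers] at hi
    obtain ⟨j, hj⟩ := IsPGroup.iff_orderOf.1 hQq ⟨d, hRQ hdR⟩
    rw [Subgroup.orderOf_mk] at hj
    refine orderOf_eq_one_iff.1 (Nat.eq_one_of_dvd_coprimes
      (Nat.Coprime.pow i j ((Nat.coprime_primes (Fact.out : p.Prime) hq).2 hqp.symm))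
      (hi ▸ orderOf_dvd_of_pow_eq_one h1) hj.dvd)
  refine hne' ?_
  rw [hd, inv_mul_eq_one] at hd1
  calc u * y = y * u * y⁻¹ * y := by rw [← hd1]
    _ = y * u := inv_mul_cancel_right _ _

theorem degree_eq {H : Type w} [Group H] [Finite H] {p q : ℕ} [Fact p.Prime] (hq : q.Prime)
    (hqp : q ≠ p) (ψ : IrrCharacter H) (hdeg : charDegree (ψ : H → ℂ) < p) (Q : Subgroup H)
    [Q.Normal] (hQ : IsPGroup q Q) {y : H} (hy : IsPGroup p (Subgroup.zpowers y))
    (hsup : Q ⊔ Subgroup.zpowers y = ⊤)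
    (hfix : ∀ c ∈ Q, c * y = y * c → ∀ u ∈ Q, c * u = u * c)
    (hcomm : ∀ a ∈ Q, ∀ b ∈ Q, ⁅a, b⁆ * y = y * ⁅a, b⁆)
    {u : H} (hu : u ∈ Q) (hne : (ψ : H → ℂ) ⁅u, y⁆ ≠ (ψ : H → ℂ) 1) :
    charDegree (ψ : H → ℂ) + 1 = p ∧ ∃ k, charDegree (ψ : H → ℂ) = 2 ^ k := by
  classical
  have : Fact q.Prime := ⟨hq⟩
  set m := charDegree (ψ : H → ℂ) with hm
  have hm2 : m ≠ 1 := by
    intro h1
    obtain ⟨l, hl⟩ := CharBasicLinear.exists_hom_of_apply_one_eq_one
      (isCharacter_of_isIrrCharacter ψ.2) (by rw [CharAverage.irr_apply_one, ← hm, h1, Nat.cast_one])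
    refine hne ?_
    rw [hl]
    show ((l _ : ℂˣ) : ℂ) = ((l 1 : ℂˣ) : ℂ)
    rw [map_commutatorElement, map_one, commutatorElement_eq_one_iff_mul_comm.2 (mul_comm _ _)]
  -- the restriction to `Q` is irreducible
  obtain ⟨θ, hθ, hc⟩ := exists_constituent
    (isCharacter_res Q (isCharacter_of_isIrrCharacter ψ.2)) (fun h => by
      have h1 := congrFun h 1
      simp only [OneMemClass.coe_one, Pi.zero_apply] at h1
      exact isIrrCharacter_apply_one_ne_zero ψ.2 h1)
  obtain ⟨k, d, hd, hψd, hk⟩ := CharProjDegree.degree_dvd Q ψ.2 hθ hc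
  rw [CharAverage.irr_apply_one, Nat.cast_inj, ← hm] at hψd
  have hdθ : charDegree θ = d := by
    have := CharAverage.apply_one_eq_charDegree (isCharacter_of_isIrrCharacter hθ)
    rw [hd, Nat.cast_inj] at this
    exact this.symm
  have hk1 : k = 1 := by
    obtain ⟨e, he⟩ := IsPGroup.iff_card.1 hy
    have h1 : Q.index ∣ p ^ e := by
      rw [← Subgroup.relIndex_top_right, ← hsup, sup_comm, Subgroup.relIndex_sup_right, ← he]
      exact Subgroup.relIndex_dvd_card _ _
    obtain ⟨i, -, rfl⟩ := (Nat.dvd_prime_pow (Fact.out : p.Prime)).1 (hk.trans h1)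
    by_contra hk1
    have h2 : i ≠ 0 := fun h => hk1 (by rw [h, pow_zero])
    have h3 : p ≤ p ^ i := Nat.le_self_pow h2 p
    have h4 : 0 < d := by
      rw [← hdθ]; exact CharAverage.irr_degree_pos ⟨θ, hθ⟩
    have := Nat.le_mul_of_pos_left (p ^ i) h4
    omega
  have hres : (fun v : Q => (ψ : H → ℂ) v) = θ := by
    refine eq_of_constituent_of_apply_one_le
      (isCharacter_res Q (isCharacter_of_isIrrCharacter ψ.2)) hθ hc (le_of_eq ?_)
    rw [OneMemClass.coe_one, CharAverage.irr_apply_one, ← hm, hψd, hk1, mul_one, hd]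
  obtain ⟨b, -, hb⟩ : ∃ b, True ∧ m = q ^ b := by
    obtain ⟨e, he⟩ := IsPGroup.iff_card.1 hQ
    obtain ⟨i, -, hi⟩ := (Nat.dvd_prime_pow hq).1
      (he ▸ CharAverage.charDegree_dvd_card (⟨θ, hθ⟩ : IrrCharacter Q))
    refine ⟨i, trivial, ?_⟩
    rw [hψd, hk1, mul_one, ← hdθ]; exact hi
  obtain ⟨n, ρ, hρi, hρ⟩ := ψ.2
  have hn : n = m := by
    have h1 := congrFun hρ 1
    rw [Representation.char_one, Module.finrank_fin_fun, CharAverage.irr_apply_one, Nat.cast_inj]
      at h1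
    exact h1
  let ρQ : Representation ℂ Q (Fin n → ℂ) := ρ.comp Q.subtype
  have hρQ : ρQ.IsIrreducible := isIrreducible_of_isIrrCharacter ρQ (by
    rw [show ρQ.character = θ from by
      rw [← hres, ← hρ]; rfl]
    exact hθ)
  let f : H →* (Module.End ℂ (Fin n → ℂ))ˣ := MonoidHom.toHomUnits ρ
  let S : Subgroup H := (Subgroup.center f.range).comap f.rangeRestrict
  have hS : ∀ {v : H}, v ∈ S ↔ ∀ g : H, ρ g * ρ v = ρ v * ρ g := by
    intro v
    constructor
    · intro hv g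
      have := Subgroup.mem_center_iff.1 hv (f.rangeRestrict g)
      exact congrArg (fun z : f.range => ((z : (Module.End ℂ (Fin n → ℂ))ˣ) : Module.End ℂ (Fin n → ℂ))) this
    · intro hv
      refine Subgroup.mem_center_iff.2 ?_
      rintro ⟨_, g, rfl⟩
      exact Subtype.ext (Units.ext (hv g))
  have hcentral : ∀ c ∈ Q, c * y = y * c → c ∈ Subgroup.center H := by
    intro c hc hcy
    refine Subgroup.mem_center_iff.2 fun g => ?_
    have h1 : Q ⊔ Subgroup.zpowers y ≤ Subgroup.centralizer ({c} : Set H) :=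
      sup_le (fun v hv => Subgroup.mem_centralizer_singleton_iff.2 (hfix c hc hcy v hv).symm)
        (Subgroup.zpowers_le.2 (Subgroup.mem_centralizer_singleton_iff.2 hcy.symm))
    exact Subgroup.mem_centralizer_singleton_iff.1 (h1 (hsup ▸ Subgroup.mem_top g))
  have hcS : ∀ c ∈ Subgroup.center H, c ∈ S := fun c hc => hS.2 fun g => by
    rw [← map_mul, ← map_mul, Subgroup.mem_center_iff.1 hc g]
  have hscal : ∀ {v : H}, v ∈ S → ∃ c : ℂ, ρ v = c • (1 : Module.End ℂ (Fin n → ℂ)) := fun {v} hv => by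
    obtain ⟨c, hc, -⟩ := exists_scalar_of_commute ρ (ρ v)
      fun g w => (LinearMap.congr_fun (hS.1 hv g) w).symm
    exact ⟨c, hc⟩
  have hvan : ∀ v : Q, (v : H) ∉ S → (ψ : H → ℂ) v = 0 := by
    intro v hv
    obtain ⟨g, hg⟩ : ∃ g : Q, ρQ v * ρQ g ≠ ρQ g * ρQ v := by
      by_contra hcon
      push Not at hcon
      obtain ⟨c, hc, -⟩ := exists_scalar_of_commute ρQ (ρQ v)
        fun g w => LinearMap.congr_fun (hcon g) w
      refine hv (hS.2 fun g => ?_)
      rw [show ρ (v : H) = c • (1 : Module.End ℂ (Fin n → ℂ)) from hc, mul_smul_comm, smul_mul_assoc,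
        mul_one, one_mul]
    set z := ⁅(g : H), (v : H)⁆ with hz
    have hzQ : z ∈ Q := by
      rw [hz, commutatorElement_def]
      exact mul_mem (mul_mem (mul_mem g.2 v.2) (inv_mem g.2)) (inv_mem v.2)
    obtain ⟨c, hc⟩ := hscal (hcS z (hcentral z hzQ (hcomm _ g.2 _ v.2)))
    have h1 : (g : H) * v * (g : H)⁻¹ = z * v := by rw [hz, commutatorElement_def]; group
    have h2 : (ψ : H → ℂ) v = c * (ψ : H → ℂ) v := by
      conv_lhs => rw [← (isClassFunction_irr ψ.2) (v : H) (g : H)]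
      rw [h1, ← hρ]
      show LinearMap.trace ℂ _ (ρ (z * v)) = c * LinearMap.trace ℂ _ (ρ v)
      rw [map_mul, hc, smul_mul_assoc, one_mul, map_smul, smul_eq_mul]
    by_contra h0
    have hc1 : c = 1 := (mul_eq_right₀ h0).1 h2.symm
    refine hg ?_
    have h3 : ρ (g : H) * ρ (v : H) = ρ (v : H) * ρ (g : H) := by
      rw [← map_mul, ← map_mul, show (g : H) * v = z * (v * g) by
        rw [hz, commutatorElement_def]; group, map_mul ρ z, hc, hc1, one_smul, one_mul]
    exact h3.symm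
  -- the norm
  have hSval : ∀ v : Q, (v : H) ∈ S → (ψ : H → ℂ) v * conj ((ψ : H → ℂ) v) = (m : ℂ) ^ 2 := by
    intro v hv
    obtain ⟨c, hc⟩ := hscal hv
    obtain ⟨c', hc'⟩ := hscal (inv_mem hv)
    rw [← hρ, ← CharBasic.character_inv]
    show LinearMap.trace ℂ _ (ρ (v : H)) * LinearMap.trace ℂ _ (ρ (v : H)⁻¹) = _
    rw [hc, hc', map_smul, map_smul, LinearMap.trace_one, Module.finrank_fin_fun, smul_eq_mul,
      smul_eq_mul, hn]
    have h1 : ρ ((v : H) * (v : H)⁻¹) = (c * c') • (1 : Module.End ℂ (Fin n → ℂ)) := by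
      rw [map_mul, hc, hc', smul_mul_assoc, one_mul, smul_smul]
    rw [mul_inv_cancel, map_one] at h1
    have h2 := congrArg (LinearMap.trace ℂ (Fin n → ℂ)) h1
    rw [map_smul, LinearMap.trace_one, Module.finrank_fin_fun, smul_eq_mul, hn] at h2
    linear_combination (-(m : ℂ)) * h2
  set Z := Nat.card {v : Q // (v : H) ∈ S} with hZdef
  have hnorm : Z * m ^ 2 = Nat.card Q := by
    have h1 := classInner_irr_self hθ
    rw [← hres, classInner, inv_mul_eq_one₀ (Nat.cast_ne_zero.2 Nat.card_pos.ne')] at h1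
    rw [← Finset.sum_filter_of_ne (p := fun v : Q => (v : H) ∈ S) (fun v _ hv => by
      by_contra h
      exact hv (by rw [hvan v h, zero_mul])), Finset.sum_congr rfl (fun v hv =>
      hSval v (Finset.mem_filter.1 hv).2), Finset.sum_const, nsmul_eq_mul] at h1
    rw [hZdef, Nat.card_eq_fintype_card, Fintype.card_subtype]
    exact_mod_cast h1.symm
  -- the fixed point free action
  have hfree : p ∣ Nat.card {v : Q // (v : H) ∉ S} := by
    let X := {v : Q // (v : H) ∉ S}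
    letI : MulAction (Subgroup.zpowers y) X :=
      { smul := fun a v => ⟨MulAut.conjNormal (a : H) v.1, fun h => v.2 (by
          rw [MulAut.conjNormal_apply] at h
          have := (inferInstance : S.Normal).conj_mem _ h (a : H)⁻¹
          simpa [mul_assoc] using this)⟩
        one_smul := fun v => Subtype.ext (by
          show MulAut.conjNormal ((1 : Subgroup.zpowers y) : H) v.1 = v.1
          rw [OneMemClass.coe_one, map_one]; rfl)
        mul_smul := fun a b v => Subtype.ext (by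
          show MulAut.conjNormal ((a * b : Subgroup.zpowers y) : H) v.1 =
            MulAut.conjNormal (a : H) (MulAut.conjNormal (b : H) v.1)
          rw [Subgroup.coe_mul, map_mul]; rfl) }
    by_contra hnd
    obtain ⟨v, hv⟩ := IsPGroup.nonempty_fixed_point_of_prime_not_dvd_card hy X hnd
    have h1 := congrArg (fun z : X => ((z.1 : Q) : H)) (hv ⟨y, Subgroup.mem_zpowers y⟩)
    change ((MulAut.conjNormal y v.1 : Q) : H) = ((v.1 : Q) : H) at h1
    rw [MulAut.conjNormal_apply] at h1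
    exact v.2 (hcS _ (hcentral _ v.1.2 (mul_inv_eq_iff_eq_mul.1 h1).symm))
  have hsplit : Z + Nat.card {v : Q // (v : H) ∉ S} = Nat.card Q := by
    rw [hZdef, ← Nat.card_sum]
    exact Nat.card_congr (Equiv.sumCompl _)
  have hpZ : ¬ p ∣ Z := by
    intro h
    obtain ⟨e, he⟩ := IsPGroup.iff_card.1 hQ
    have h1 : p ∣ q ^ e := he ▸ (h.trans ⟨_, hnorm.symm⟩)
    exact hqp ((Nat.prime_dvd_prime_iff_eq (Fact.out : p.Prime) hq).1
      ((Fact.out : p.Prime).dvd_of_dvd_pow h1)).symm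
  have hdiv : p ∣ m + 1 := by
    have h1 : (p : ℤ) ∣ (Z : ℤ) * (((m : ℤ) - 1) * ((m : ℤ) + 1)) := by
      have h2 : (Nat.card {v : Q // (v : H) ∉ S} : ℤ) = (Z : ℤ) * (((m : ℤ) - 1) * ((m : ℤ) + 1)) := by
        rw [← hnorm] at hsplit
        have := congrArg (fun z : ℕ => (z : ℤ)) hsplit
        push_cast at this
        linarith
      rw [← h2]; exact_mod_cast hfree
    have hpi := Nat.prime_iff_prime_int.1 (Fact.out : p.Prime)
    rcases hpi.dvd_or_dvd h1 with h | h
    · exact absurd (Int.natCast_dvd_natCast.1 h) hpZ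
    rcases hpi.dvd_or_dvd h with h | h
    · exfalso
      have hpos : 0 < m := CharAverage.irr_degree_pos ψ
      have := Int.le_of_dvd (by omega) h
      omega
    · exact_mod_cast h
  have hmp : m + 1 = p := le_antisymm hdeg (Nat.le_of_dvd (Nat.succ_pos _) hdiv)
  refine ⟨hmp, b, ?_⟩
  have hb0 : b ≠ 0 := fun h => hm2 (by rw [hb, h, pow_zero])
  have hq2 : q = 2 := by
    by_contra h
    have hpp := (Fact.out : p.Prime).two_le
    have hodd : Odd m := hb ▸ (hq.odd_of_ne_two h).pow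
    have hp2 : p = 2 := (Fact.out : p.Prime).eq_two_or_odd'.resolve_right fun ho => by
      obtain ⟨i, hi⟩ := hodd
      obtain ⟨j, hj⟩ := ho
      omega
    omega
  rw [hb, hq2]

theorem main {G : Type w} [Group G] [Finite G] {χ : G → ℂ} (hχ : IsCharacter G χ)
    (hfaith : ∀ g : G, χ g = χ 1 → g = 1) {p : ℕ} [Fact p.Prime] (hdeg : charDegree χ < p)
    (hsolv : IsPSolvable p G) (P : Sylow p G) (hP : ¬ (P : Subgroup G).Normal) :
    charDegree χ + 1 = p ∧ (∃ k : ℕ, charDegree χ = 2 ^ k) ∧ IsIrrCharacter G χ := by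
  classical
  have hcommP := comm_of_pGroup hχ hfaith hdeg (P : Subgroup G) P.2
  set N := pPrimeCore p G
  have hsupn := normal_sup hsolv P hcommP
  obtain ⟨y, hy, n₀, hn₀, hne⟩ : ∃ y ∈ (P : Subgroup G), ∃ n ∈ N, n * y ≠ y * n := by
    by_contra hcon
    push Not at hcon
    refine hP ⟨fun x hx g => ?_⟩
    have h1 : g * x * g⁻¹ ∈ (P : Subgroup G) ⊔ N := hsupn.conj_mem _ (Subgroup.mem_sup_left hx) g
    have h2 : (P : Subgroup G) ⊔ N ≤ Subgroup.normalizer ((P : Subgroup G) : Set G) := by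
      refine sup_le Subgroup.le_normalizer
        (le_trans ?_ (Subgroup.centralizer_le_normalizer _))
      exact fun n hn => Subgroup.mem_centralizer_iff.2 fun a ha => (hcon a ha n hn).symm
    refine TIFixed.mem_sylow_of_mem_normalizer P ?_ (h2 h1)
    obtain ⟨k, hk⟩ := IsPGroup.iff_orderOf.1 P.2 ⟨x, hx⟩
    refine ⟨k, ?_⟩
    rw [← hk, Subgroup.orderOf_mk]
    exact (MulAut.conj g).orderOf_eq x
  have hyp : IsPGroup p (Subgroup.zpowers y) := P.2.to_le (Subgroup.zpowers_le.2 hy)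
  obtain ⟨q, Q, hq, hqp, hQ, hQn, ⟨u, hu, hune⟩, hfix, hcomm⟩ := exists_minimal hyp N
    (HallCore.not_dvd_card_pPrimeCore p G) Subgroup.le_normalizer_of_normal ⟨n₀, hn₀, hne⟩
  set H := Q ⊔ Subgroup.zpowers y with hH
  have huH : u ∈ H := Subgroup.mem_sup_left hu
  have hyH : y ∈ H := Subgroup.mem_sup_right (Subgroup.mem_zpowers y)
  have hresd : charDegree (fun h : H => χ h) = charDegree χ := by simp [charDegree]
  obtain ⟨ψ, hc, hψ, hle⟩ := exists_constituent_ne (isCharacter_res H hχ)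
    (g := ⁅(⟨u, huH⟩ : H), ⟨y, hyH⟩⁆) (fun h => hune
      (commutatorElement_eq_one_iff_mul_comm.1 (hfaith _ h)))
  rw [hresd] at hle
  have hQnH : (Q.subgroupOf H).Normal := Subgroup.normal_subgroupOf_of_le_normalizer
    (sup_le Subgroup.le_normalizer hQn)
  have hyH' : IsPGroup p (Subgroup.zpowers (⟨y, hyH⟩ : H)) := by
    obtain ⟨e, he⟩ := IsPGroup.iff_card.1 hyp
    refine IsPGroup.of_card (n := e) ?_
    rw [Nat.card_zpowers, Subgroup.orderOf_mk, ← Nat.card_zpowers, he]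
  have hsup : Q.subgroupOf H ⊔ Subgroup.zpowers (⟨y, hyH⟩ : H) = ⊤ := by
    refine Subgroup.map_injective H.subtype_injective ?_
    rw [Subgroup.map_sup, Subgroup.map_subgroupOf_eq_of_le le_sup_left, MonoidHom.map_zpowers,
      ← MonoidHom.range_eq_map, Subgroup.range_subtype]
    rfl
  obtain ⟨hm1, k, hk⟩ := degree_eq hq hqp ψ (lt_of_le_of_lt hle hdeg) (Q.subgroupOf H)
    (hQ.comap_of_injective H.subtype H.subtype_injective) hyH' hsup
    (fun c hc hcy v hv => Subtype.ext (hfix c hc (congrArg Subtype.val hcy) v hv))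
    (fun a ha b hb => Subtype.ext (hcomm a ha b hb))
    (u := ⟨u, huH⟩) hu hψ
  have heq : charDegree χ = charDegree (ψ : H → ℂ) := by omega
  refine ⟨by omega, ⟨k, by omega⟩, ?_⟩
  have hres : (fun h : H => χ h) = (ψ : H → ℂ) := by
    refine eq_of_constituent_of_apply_one_le (isCharacter_res H hχ) ψ.2 hc (le_of_eq ?_)
    rw [OneMemClass.coe_one, CharAverage.irr_apply_one,
      CharAverage.apply_one_eq_charDegree hχ, heq]
  have hne0 : χ ≠ 0 := fun h => by
    have h1 := CharAverage.apply_one_eq_charDegree hχ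
    rw [congrFun h 1, Pi.zero_apply, eq_comm, Nat.cast_eq_zero] at h1
    have := CharAverage.irr_degree_pos ψ
    omega
  obtain ⟨η, hη, hηc⟩ := exists_constituent hχ hne0
  have h1 := isCharacter_sub_constituent hχ hη hηc
  have h2 := isCharacter_res H h1
  by_cases h0 : χ - η = 0
  · rwa [sub_eq_zero.1 h0]
  exfalso
  have hsum := congrArg (fun f : H → ℂ => classInner f f) hres
  have hdec : (fun h : H => χ h) = (fun h : H => (χ - η) h) + (fun h : H => η h) :=
    funext fun h => by simp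
  obtain ⟨a, ha⟩ : ∃ a : ℕ, (a : ℂ) = classInner (fun h : H => (χ - η) h) (ψ : H → ℂ) := by
    obtain ⟨a, ha⟩ := classInner_isCharacter h2 (isCharacter_of_isIrrCharacter ψ.2)
    exact ⟨a, ha.symm⟩
  obtain ⟨b, hb⟩ : ∃ b : ℕ, (b : ℂ) = classInner (fun h : H => η h) (ψ : H → ℂ) := by
    obtain ⟨b, hb⟩ := classInner_isCharacter (isCharacter_res H (isCharacter_of_isIrrCharacter hη))
      (isCharacter_of_isIrrCharacter ψ.2)
    exact ⟨b, hb.symm⟩
  have hab : a + b = 1 := by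
    have h3 := classInner_irr_self ψ.2
    nth_rw 1 [← hres, hdec] at h3
    rw [CharBasicOrth.classInner_add_left, ← ha, ← hb] at h3
    exact_mod_cast h3
  rcases Nat.add_eq_one_iff.1 hab with ⟨-, hb1⟩ | ⟨ha1, -⟩
  · have hbne : classInner (fun h : H => η h) (ψ : H → ℂ) ≠ 0 := by
      rw [← hb, hb1, Nat.cast_one]; exact one_ne_zero
    obtain ⟨c, hc'⟩ := isCharacter_apply_one (isCharacter_sub_constituent
      (isCharacter_res H (isCharacter_of_isIrrCharacter hη)) ψ.2 hbne)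
    obtain ⟨c', hc''⟩ := isCharacter_apply_one h1
    refine h0 (isCharacter_eq_zero_of_apply_one h1 ?_)
    simp only [Pi.sub_apply, OneMemClass.coe_one, CharAverage.irr_apply_one,
      CharAverage.apply_one_eq_charDegree hχ,
      CharAverage.apply_one_eq_charDegree (isCharacter_of_isIrrCharacter hη), heq] at hc' hc'' ⊢
    rw [sub_eq_iff_eq_add, ← Nat.cast_add, Nat.cast_inj] at hc' hc''
    rw [sub_eq_zero, Nat.cast_inj]
    omega
  · have hane : classInner (fun h : H => (χ - η) h) (ψ : H → ℂ) ≠ 0 := by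
      rw [← ha, ha1, Nat.cast_one]; exact one_ne_zero
    obtain ⟨c, hc'⟩ := isCharacter_apply_one (isCharacter_sub_constituent h2 ψ.2 hane)
    have hpos := CharAverage.irr_degree_pos (⟨η, hη⟩ : IrrCharacter G)
    simp only [Pi.sub_apply, OneMemClass.coe_one, CharAverage.irr_apply_one,
      CharAverage.apply_one_eq_charDegree hχ,
      CharAverage.apply_one_eq_charDegree (isCharacter_of_isIrrCharacter hη), heq] at hc'
    rw [sub_eq_iff_eq_add, sub_eq_iff_eq_add, ← Nat.cast_add, ← Nat.cast_add, Nat.cast_inj] at hc'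
    change 0 < charDegree η at hpos
    omega


/-- Let the finite p-solvable group G have a faithful character χ of degree n ≤ p − 1 and suppose that a Sylow p-subgroup of G is not normal. Then n = p − 1, n is a power of 2, and χ is irreducible. -/
theorem result {G : Type*} [Group G] [Finite G] (χ : G → ℂ) (hχ : Cfsg.IsCharacter G χ) (hfaith : ∀ g : G, χ g = χ 1 → g = 1) (n : ℕ) (hn : Cfsg.charDegree χ = n) (p : ℕ) (hp : p.Prime) (hsolv : Cfsg.IsPSolvable p G) (hnp : n + 1 ≤ p) (P : Sylow p G) (hP : ¬ (P : Subgroup G).Normal) : n + 1 = p ∧ (∃ k : ℕ, n = 2 ^ k) ∧ Cfsg.IsIrrCharacter G χ := by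
  have : Fact p.Prime := ⟨hp⟩
  obtain ⟨h1, ⟨k, hk⟩, h3⟩ := main hχ hfaith (by omega) hsolv P hP
  exact ⟨by omega, ⟨k, by omega⟩, h3⟩

end Cfsg.Agent.S4468
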