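import Cfsg.Statements.S0077
import Mathlib
import Cfsg.Agent.Lib.FocalControl
-- import your own Cfsg.Agent.* helpers here

set_option autoImplicit false
open Cfsg

namespace Cfsg.Agent.S0077

open scoped commutatorElement

/-- If a subgroup Z of the centre of a Sylow p-subgroup P is weakly closed in P, then P meets the derived subgroup of G exactly where it meets the derived subgroup of the normalizer of Z. -/
theorem result {G : Type*} [Group G] [Finite G] {p : ℕ} [Fact p.Prime] (P : Sylow p G) (Z : Subgroup G) (hZ : Z ≤ Subgroup.centralizer (P : Set G)) (hW : Cfsg.IsWeaklyClosed Z P) : commutator G ⊓ (P : Subgroup G) = ⁅Subgroup.normalizer (Z : Set G), Subgroup.normalizer (Z : Set G)⁆ ⊓ (P : Subgroup G) := by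
  set N := Subgroup.normalizer (Z : Set G) with hN
  obtain ⟨hZP, hW⟩ := hW
  have hPN : (P : Subgroup G) ≤ N := by
    intro x hx
    rw [hN, Subgroup.mem_normalizer_iff]
    intro z
    constructor
    · intro hz
      have h1 := (Subgroup.mem_centralizer_iff.mp (hZ hz)) x hx
      rw [h1, mul_inv_cancel_right]
      exact hz
    · intro hz
      have h1 := (Subgroup.mem_centralizer_iff.mp (hZ hz)) x hx
      have h2 : z = x * z * x⁻¹ := by
        calc z = x⁻¹ * ((x * z * x⁻¹) * x) := by group
          _ = x⁻¹ * (x * (x * z * x⁻¹)) := by rw [← h1]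
          _ = x * z * x⁻¹ := by group
      exact h2 ▸ hz
  -- two conjugates of `Z` inside a common Sylow subgroup coincide
  have key : ∀ (R : Sylow p G) (a b : G), (∀ z ∈ Z, a * z * a⁻¹ ∈ (R : Subgroup G)) →
      (∀ z ∈ Z, b * z * b⁻¹ ∈ (R : Subgroup G)) → b⁻¹ * a ∈ N := by
    intro R a b ha hb
    obtain ⟨k, rfl⟩ := MulAction.exists_smul_eq G P R
    have hw : ∀ a : G, (∀ z ∈ Z, a * z * a⁻¹ ∈ ((k • P : Sylow p G) : Subgroup G)) →
        k⁻¹ * a ∈ N := by
      intro a ha
      have hle : Z.map (MulAut.conj (k⁻¹ * a)).toMonoidHom ≤ (P : Subgroup G) := by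
        rintro _ ⟨z, hz, rfl⟩
        have h1 := ha z hz
        rw [Sylow.coe_subgroup_smul] at h1
        obtain ⟨w, hw, hwz⟩ := h1
        simp only [MulDistribMulAction.toMonoidEnd_apply] at hwz
        have h2 : w = k⁻¹ * a * z * (k⁻¹ * a)⁻¹ := by
          have hwz' : k * w * k⁻¹ = a * z * a⁻¹ := by simpa [MulAut.smul_def] using hwz
          calc w = k⁻¹ * (k * w * k⁻¹) * k := by group
            _ = _ := by rw [hwz']; group
        show k⁻¹ * a * z * (k⁻¹ * a)⁻¹ ∈ (P : Subgroup G)
        exact h2 ▸ hw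
      have heq := hW _ hle
      rw [hN, Subgroup.mem_normalizer_iff]
      intro z
      constructor
      · intro hz
        rw [← heq]
        exact ⟨z, hz, rfl⟩
      · intro hz
        rw [← heq] at hz
        obtain ⟨w, hw, hwz⟩ := hz
        have : w = z := mul_left_cancel (mul_right_cancel hwz)
        exact this ▸ hw
    have := mul_mem (inv_mem (hw b hb)) (hw a ha)
    simpa [mul_assoc] using this
  have fusion : ∀ x ∈ (P : Subgroup G), ∀ u : G, u * x * u⁻¹ ∈ (P : Subgroup G) →
      ∃ n ∈ N, n * x * n⁻¹ = u * x * u⁻¹ := by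
    intro x hx u hy
    set y := u * x * u⁻¹ with hydef
    set C := Subgroup.centralizer ({y} : Set G) with hC
    have h1 : Z ≤ C := by
      intro z hz
      rw [hC, Subgroup.mem_centralizer_singleton_iff]
      exact ((Subgroup.mem_centralizer_iff.mp (hZ hz)) y hy).symm
    have h2 : Z.map (MulAut.conj u).toMonoidHom ≤ C := by
      rintro _ ⟨z, hz, rfl⟩
      rw [hC, Subgroup.mem_centralizer_singleton_iff]
      have h3 := (Subgroup.mem_centralizer_iff.mp (hZ hz)) x hx
      simp only [MulEquiv.coe_toMonoidHom, MulAut.conj_apply, hydef]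
      calc u * z * u⁻¹ * (u * x * u⁻¹) = u * (z * x) * u⁻¹ := by group
        _ = u * (x * z) * u⁻¹ := by rw [h3]
        _ = _ := by group
    have hZp : IsPGroup p Z := P.isPGroup'.to_le hZP
    obtain ⟨S, hS⟩ := IsPGroup.exists_le_sylow (p := p) (P := Z.subgroupOf C)
      (hZp.of_equiv (Subgroup.subgroupOfEquivOfLe h1).symm)
    obtain ⟨T, hT⟩ := IsPGroup.exists_le_sylow (p := p)
      (P := (Z.map (MulAut.conj u).toMonoidHom).subgroupOf C)
      ((hZp.map _).of_equiv (Subgroup.subgroupOfEquivOfLe h2).symm)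
    obtain ⟨c, hc⟩ := MulAction.exists_smul_eq C T S
    obtain ⟨R, hR⟩ := IsPGroup.exists_le_sylow (p := p) (P := (S : Subgroup C).map C.subtype)
      (S.isPGroup'.map _)
    have hn := key R ((c : G) * u) 1 ?_ ?_
    · simp only [inv_one, one_mul] at hn
      refine ⟨(c : G) * u, hn, ?_⟩
      have hcy := Subgroup.mem_centralizer_singleton_iff.mp c.2
      calc (c : G) * u * x * ((c : G) * u)⁻¹ = (c : G) * y * (c : G)⁻¹ := by rw [hydef]; group
        _ = y := by rw [hcy, mul_inv_cancel_right]
    · intro z hz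
      apply hR
      have h4 : MulAut.conj u z ∈ Z.map (MulAut.conj u).toMonoidHom := ⟨z, hz, rfl⟩
      refine ⟨c * ⟨MulAut.conj u z, h2 h4⟩ * c⁻¹, ?_, by simp; group⟩
      rw [SetLike.mem_coe, ← hc, Sylow.coe_subgroup_smul]
      exact ⟨⟨MulAut.conj u z, h2 h4⟩, hT h4, by simp [MulAut.smul_def]⟩
    · intro z hz
      apply hR
      exact ⟨⟨z, h1 hz⟩, hS hz, by simp⟩
  apply le_antisymm
  · rw [Subgroup.commutator_inf_eq_focalSubgroup P]
    refine le_inf ?_ (Subgroup.focalSubgroup_le _)
    exact (FocalControl.focalSubgroup_le_commutator_of_control _ _ fusion).trans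
      (Subgroup.commutator_mono hPN le_rfl)
  · exact inf_le_inf_right _ (Subgroup.commutator_mono le_top le_top)
end Cfsg.Agent.S0077
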