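import Cfsg.Statements.S0385
import Cfsg.Agent.Lib.GolaySteiner

set_option autoImplicit false
open Cfsg

namespace Cfsg.Agent.S0385

/-- The 6-point intersections of octads with a fixed dodecad form a Steiner system S(5, 6, 12) on the dodecad. -/
theorem result (d : Finset Cfsg.GolayPt) (hd : d ∈ Cfsg.dodecads) : Cfsg.IsSteinerSystem 5 6 {h : Finset {p : Cfsg.GolayPt // p ∈ d} | ∃ o ∈ Cfsg.octads, (o ∩ d).card = 6 ∧ h = Finset.subtype (fun p => p ∈ d) o} := by
  constructor
  · rintro h ⟨o, -, hc, rfl⟩
    rw [Finset.card_subtype, ← hc]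
    congr 1
  · intro s hs
    have hs5 : (s.map (Function.Embedding.subtype _)).card = 5 := by rw [Finset.card_map]; exact hs
    obtain ⟨o, ho, hso⟩ := GolaySteiner.exists_octad_five hs5
    have hsd : s.map (Function.Embedding.subtype _) ⊆ o ∩ d := by
      refine Finset.subset_inter hso fun p hp => ?_
      obtain ⟨q, -, rfl⟩ := Finset.mem_map.1 hp
      exact q.2
    have h5 : 5 ≤ (o ∩ d).card := hs5 ▸ Finset.card_le_card hsd
    obtain ⟨r, hr⟩ := GolayBasic.even_card_inter ho.1 hd.1
    have h8 : (o ∩ d).card ≤ 8 := ho.2 ▸ Finset.card_le_card Finset.inter_subset_left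
    have hne : (o ∩ d).card ≠ 8 := by
      intro h
      have hod : o ⊆ d := by
        have := Finset.eq_of_subset_of_card_le (Finset.inter_subset_left (s₁ := o) (s₂ := d)) (by rw [h, ho.2])
        rw [← this]; exact Finset.inter_subset_right
      have hm := GolayBasic.eq_empty_of_card_lt (GolayBasic.symmDiff_mem_supports hd.1 ho.1) (by
        rw [symmDiff_of_ge hod, Finset.card_sdiff_of_subset hod, hd.2, ho.2]; norm_num)
      rw [symmDiff_of_ge hod, Finset.sdiff_eq_empty_iff_subset] at hm
      have := Finset.card_le_card hm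
      rw [hd.2, ho.2] at this
      omega
    refine ⟨Finset.subtype (fun p => p ∈ d) o, ⟨⟨o, ho, by omega, rfl⟩, fun q hq => ?_⟩, ?_⟩
    · exact Finset.mem_subtype.2 (hso (Finset.mem_map_of_mem _ hq))
    · rintro _ ⟨⟨o', ho', -, rfl⟩, hs'⟩
      have : s.map (Function.Embedding.subtype _) ⊆ o' := by
        intro p hp
        obtain ⟨q, hq, rfl⟩ := Finset.mem_map.1 hp
        exact Finset.mem_subtype.1 (hs' hq)
      rw [GolaySteiner.octad_eq_of_five ho ho' hs5.ge hso this]

end Cfsg.Agent.S0385
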