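import Cfsg.Statements.S2550
import Cfsg.Agent.Lib.PSLCard

set_option autoImplicit false
open Cfsg

namespace Cfsg.Agent.S2550

open Matrix

/-- A model of the field with four elements: `x + y w`. -/
abbrev M4 := ZMod 2 × ZMod 2

/-- Multiplication in the model. -/
def mm (p q : M4) : M4 := (p.1 * q.1 + p.2 * q.2, p.1 * q.2 + p.2 * q.1 + p.2 * q.2)

/-- Multiply a residue modulo `X^3 - aX^2 - bX - 1` by `X`. -/
def stepM (a b : M4) (c : M4 × M4 × M4) : M4 × M4 × M4 :=
  (c.2.2, c.1 + mm b c.2.2, c.2.1 + mm a c.2.2)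

/-- Residue of `X^k`. -/
def rM (a b : M4) : ℕ → M4 × M4 × M4
  | 0 => ((1, 0), 0, 0)
  | k + 1 => stepM a b (rM a b k)

set_option maxRecDepth 20000 in
theorem model_fact : ∀ a b : M4, ((rM a b 5).2.1 = 0 ∧ (rM a b 5).2.2 = 0) ∨
    ((rM a b 12).2.1 = 0 ∧ (rM a b 12).2.2 = 0) ∨ ((rM a b 21).2.1 = 0 ∧ (rM a b 21).2.2 = 0) := by
  decide +kernel

/-- The companion matrix of `X^4 + X + 1`. -/
def C15 : Matrix (Fin 4) (Fin 4) (ZMod 2) := !![0, 0, 0, 1; 1, 0, 0, 1; 0, 1, 0, 0; 0, 0, 1, 0]

set_option maxRecDepth 20000 in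
theorem C15_facts : C15.det = 1 ∧ C15 ^ 15 = 1 ∧ C15 ^ 5 ≠ 1 ∧ C15 ^ 3 ≠ 1 := by decide +kernel

/-- Let F be a field with 2 elements and K a field with 4 elements. PSL_4(F) and PSL_3(K) have the same order (20160) but are not isomorphic. -/
theorem result {F K : Type*} [Field F] [Fintype F] [Field K] [Fintype K] (hF : Fintype.card F = 2) (hK : Fintype.card K = 4) : Nat.card (Matrix.ProjectiveSpecialLinearGroup (Fin 4) F) = Nat.card (Matrix.ProjectiveSpecialLinearGroup (Fin 3) K) ∧ ¬ Nonempty (Matrix.ProjectiveSpecialLinearGroup (Fin 4) F ≃* Matrix.ProjectiveSpecialLinearGroup (Fin 3) K) := by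
  classical
  have hF' : Nat.card F = 2 := by rw [Nat.card_eq_fintype_card, hF]
  have hK' : Nat.card K = 4 := by rw [Nat.card_eq_fintype_card, hK]
  constructor
  · have h4 := Cfsg.Agent.PSLCard.card_PSL_mul (F := F) 4
    have h3 := Cfsg.Agent.PSLCard.card_PSL_mul (F := K) 3
    have s4 := Cfsg.Agent.PSLCard.card_SL (F := F) 4
    have s3 := Cfsg.Agent.PSLCard.card_SL (F := K) 3
    rw [hF'] at h4 s4
    rw [hK'] at h3 s3
    norm_num [Fin.prod_univ_four] at s4 h4
    norm_num [Fin.prod_univ_three] at s3 h3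
    rw [Nat.card_eq_fintype_card, Nat.card_eq_fintype_card]
    omega
  rintro ⟨e⟩
  haveI hF2 : CharP F 2 := charP_of_card_eq_prime hF
  haveI hK2 : CharP K 2 := by
    obtain ⟨p, _⟩ := CharP.exists K
    obtain ⟨n, hp, hpn⟩ := FiniteField.card K p
    have : p = 2 := by
      have hd : p ∣ 2 ^ 2 := by rw [show (2:ℕ) ^ 2 = Fintype.card K by rw [hK]; rfl, hpn]; exact dvd_pow_self _ n.pos.ne'
      exact (Nat.prime_dvd_prime_iff_eq hp Nat.prime_two).1 (hp.dvd_of_dvd_pow hd)
    subst this; assumption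
  -- an element of order 15
  let c : Matrix.SpecialLinearGroup (Fin 4) (ZMod 2) := ⟨C15, C15_facts.1⟩
  let j := Matrix.SpecialLinearGroup.map (n := Fin 4) (ZMod.castHom (dvd_refl 2) F)
  let c' := j c
  have hj : Function.Injective j := by
    intro x y h
    apply Subtype.ext
    exact Matrix.map_injective (ZMod.castHom_injective F) (congrArg Subtype.val h)
  have hc15 : c ^ 15 = 1 := Subtype.ext (by rw [Matrix.SpecialLinearGroup.coe_pow]; exact C15_facts.2.1)
  have hc5 : c ^ 5 ≠ 1 := fun h => C15_facts.2.2.1 (by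
    have := congrArg (fun s : Matrix.SpecialLinearGroup (Fin 4) (ZMod 2) => (s : Matrix (Fin 4) (Fin 4) (ZMod 2))) h
    simpa using this)
  have hc3 : c ^ 3 ≠ 1 := fun h => C15_facts.2.2.2 (by
    have := congrArg (fun s : Matrix.SpecialLinearGroup (Fin 4) (ZMod 2) => (s : Matrix (Fin 4) (Fin 4) (ZMod 2))) h
    simpa using this)
  have hbot : Subgroup.center (Matrix.SpecialLinearGroup (Fin 4) F) = ⊥ := by
    rw [← Subgroup.card_eq_one, Cfsg.Agent.PSLCard.card_center_SL, hF']
    rfl
  obtain ⟨g, hg⟩ := QuotientGroup.mk_surjective (e (QuotientGroup.mk c'))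
  let π := QuotientGroup.mk' (Subgroup.center (Matrix.SpecialLinearGroup (Fin 3) K))
  have key : ∀ k, c ^ k ≠ 1 → g ^ k ∉ Subgroup.center (Matrix.SpecialLinearGroup (Fin 3) K) := by
    intro k hk hmem
    apply hk
    apply hj
    rw [map_one, map_pow]
    have h : (QuotientGroup.mk c' : Matrix.ProjectiveSpecialLinearGroup (Fin 4) F) ^ k = 1 := by
      apply e.injective
      rw [map_pow, map_one, ← hg, ← QuotientGroup.mk_pow]
      exact (QuotientGroup.eq_one_iff _).2 hmem
    rw [← QuotientGroup.mk_pow, QuotientGroup.eq_one_iff, hbot, Subgroup.mem_bot] at h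
    exact h
  have h12 : c ^ 12 ≠ 1 := by
    intro h
    apply hc3
    have := pow_gcd_eq_one.2 ⟨h, hc15⟩
    exact this
  have h21 : c ^ 21 ≠ 1 := by
    intro h
    apply hc3
    have := pow_gcd_eq_one.2 ⟨h, hc15⟩
    exact this
  -- scalar powers of `g`
  obtain ⟨w, hw0, hw1⟩ : ∃ w : K, w ≠ 0 ∧ w ≠ 1 := by
    by_contra hcon
    push Not at hcon
    have : Fintype.card K ≤ 2 := by
      rw [← Finset.card_univ]
      refine (Finset.card_le_card (t := {0, 1}) fun x _ => ?_).trans Finset.card_le_two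
      by_cases hx : x = 0
      · simp [hx]
      · simp [hcon x hx]
    omega
  have h2 : (2 : K) = 0 := CharTwo.two_eq_zero
  have hw : w * w = 1 + w := by
    have h3 : w ^ 3 = 1 := by
      have := FiniteField.pow_card_sub_one_eq_one w hw0
      rwa [hK] at this
    have h' : (w - 1) * (w * w - (1 + w)) = 0 := by linear_combination h3 + (1 - w ^ 2) * h2
    exact sub_eq_zero.1 ((mul_eq_zero.1 h').resolve_left (sub_ne_zero.2 hw1))
  let φ : M4 → K := fun p => (ZMod.castHom (dvd_refl 2) K p.1) + (ZMod.castHom (dvd_refl 2) K p.2) * w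
  have hφadd : ∀ p q, φ (p + q) = φ p + φ q := by
    intro p q; simp only [φ, Prod.fst_add, Prod.snd_add, map_add]; ring
  have hφmul : ∀ p q, φ (mm p q) = φ p * φ q := by
    intro p q; simp only [φ, mm, map_add, map_mul]; linear_combination -(ZMod.castHom (dvd_refl 2) K p.2) * (ZMod.castHom (dvd_refl 2) K q.2) * hw
  have hφinj : Function.Injective φ := by
    have hz : ∀ p, φ p = 0 → p = 0 := by
      rintro ⟨x, y⟩ h
      have hd : ∀ x : ZMod 2, x = 0 ∨ x = 1 := by decide
      rcases hd x with rfl | rfl <;> rcases hd y with rfl | rfl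
      · rfl
      · exact absurd (by simpa [φ] using h) hw0
      · exact absurd (by simpa [φ] using h) (one_ne_zero (α := K))
      · refine absurd ?_ hw1
        have h' : (1 : K) + w = 0 := by simpa [φ] using h
        rw [CharTwo.add_eq_zero] at h'
        exact h'.symm
    intro p q h
    have h' : φ (p + q) = 0 := by rw [hφadd, h, CharTwo.add_self_eq_zero]
    have := hz _ h'
    exact Prod.ext (CharTwo.add_eq_zero.1 (congrArg Prod.fst this)) (CharTwo.add_eq_zero.1 (congrArg Prod.snd this))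
  have hφsurj : Function.Surjective φ := by
    refine ((Fintype.bijective_iff_injective_and_card φ).2 ⟨hφinj, ?_⟩).2
    rw [hK]; rfl
  let G : Matrix (Fin 3) (Fin 3) K := (g : Matrix (Fin 3) (Fin 3) K)
  obtain ⟨a, ha⟩ := hφsurj (G.charpoly.coeff 2)
  obtain ⟨b, hb⟩ := hφsurj (G.charpoly.coeff 1)
  have hG : G ^ 3 = φ a • G ^ 2 + φ b • G + 1 := by
    have hd : G.charpoly.natDegree = 3 := by rw [Matrix.charpoly_natDegree_eq_dim, Fintype.card_fin]
    have h := G.aeval_self_charpoly
    rw [Polynomial.aeval_eq_sum_range, hd] at h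
    have hlc : G.charpoly.coeff 3 = 1 := by
      have := G.charpoly_monic
      rw [Polynomial.Monic, Polynomial.leadingCoeff, hd] at this
      exact this
    have hc0 : G.charpoly.coeff 0 = 1 := by
      have hdet := Matrix.det_eq_sign_charpoly_coeff G
      rw [g.2, Fintype.card_fin, CharTwo.neg_eq, one_pow, one_mul] at hdet
      exact hdet.symm
    simp only [Finset.sum_range_succ, Finset.sum_range_zero, zero_add, pow_zero, pow_one, hlc, hc0, one_smul, ← ha, ← hb] at h
    ext i j
    have hij := congrFun (congrFun h i) j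
    simp only [Matrix.add_apply, Matrix.smul_apply, Matrix.zero_apply] at hij
    simp only [Matrix.add_apply, Matrix.smul_apply]
    rw [CharTwo.add_eq_zero] at hij
    rw [← hij]
    ring
  have hpow : ∀ k, G ^ k = φ (rM a b k).1 • (1 : Matrix (Fin 3) (Fin 3) K) + φ (rM a b k).2.1 • G + φ (rM a b k).2.2 • G ^ 2 := by
    intro k
    induction k with
    | zero => simp [rM, φ]
    | succ k ih =>
      rw [pow_succ, ih]
      simp only [rM, stepM, hφadd, hφmul, add_mul, Matrix.smul_mul, one_mul, ← pow_two, ← pow_succ, hG, smul_add,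
        smul_smul, add_smul]
      rw [mul_comm (φ a), mul_comm (φ b)]
      abel
  have hscal : ∀ k, (rM a b k).2.1 = 0 → (rM a b k).2.2 = 0 → g ^ k ∈ Subgroup.center (Matrix.SpecialLinearGroup (Fin 3) K) := by
    intro k h1 h2'
    rw [Subgroup.mem_center_iff]
    intro x
    apply Subtype.ext
    have hz : φ (0 : M4) = 0 := by simp [φ]
    rw [Matrix.SpecialLinearGroup.coe_mul, Matrix.SpecialLinearGroup.coe_mul, Matrix.SpecialLinearGroup.coe_pow,
      hpow k, h1, h2', hz, zero_smul, zero_smul, add_zero, add_zero, Matrix.smul_mul, Matrix.mul_smul, one_mul, mul_one]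
  rcases model_fact a b with ⟨h1, h2'⟩ | ⟨h1, h2'⟩ | ⟨h1, h2'⟩
  · exact key 5 hc5 (hscal 5 h1 h2')
  · exact key 12 h12 (hscal 12 h1 h2')
  · exact key 21 h21 (hscal 21 h1 h2')

end Cfsg.Agent.S2550
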