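import Cfsg.Statements.S4586
import Mathlib
import Cfsg.Agent.Lib.PGroupOrderFour80

set_option autoImplicit false
open Cfsg

namespace Cfsg.Agent.S4586


open scoped commutatorElement

lemma index_eq {P : Type*} [Group P] [Finite P] (p : ℕ) [Fact p.Prime] (hP : IsPGroup p P)
    (N : Subgroup P) [N.Normal] (hN : N.index = p) {x : P} (hx : x ∉ N) :
    (commutator P).index * Nat.card (commutator N) =
      p * Nat.card {n : N // x * n * x⁻¹ * (n : P)⁻¹ ∈ (commutator N).map N.subtype} := by
  classical
  set D := commutator N with hD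
  let q : N →* Abelianization N := Abelianization.of
  have hq : ∀ m : N, q m = 1 ↔ m ∈ D := fun m => QuotientGroup.eq_one_iff _
  let c : N → N := fun n => ⟨x * n * x⁻¹ * (n : P)⁻¹,
    N.mul_mem (Subgroup.Normal.conj_mem inferInstance _ n.2 x) (N.inv_mem n.2)⟩
  let f : N →* Abelianization N := MonoidHom.mk' (fun n => q (c n)) (fun a b => by
    have h : c (a * b) = c a * (a * c b * a⁻¹) := by
      apply Subtype.ext
      simp only [c, Subgroup.coe_mul, InvMemClass.coe_inv]
      group
    show q (c (a * b)) = q (c a) * q (c b)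
    rw [h, map_mul, map_mul q _ a⁻¹, map_mul q a, map_inv, mul_inv_cancel_comm])
  have hker : Nat.card {n : N // x * n * x⁻¹ * (n : P)⁻¹ ∈ D.map N.subtype} = Nat.card f.ker := by
    refine Nat.card_congr (Equiv.subtypeEquivRight fun n => ?_)
    rw [MonoidHom.mem_ker]
    show _ ↔ q (c n) = 1
    rw [hq]
    exact ⟨fun ⟨m, hm, hme⟩ => (Subtype.ext hme : m = c n) ▸ hm, fun h => ⟨c n, h, rfl⟩⟩
  set R : Subgroup N := f.range.comap q with hR
  set T : Subgroup P := R.map N.subtype with hT
  have hDR : D ≤ R := fun m hm => by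
    rw [hR, Subgroup.mem_comap, (hq m).2 hm]
    exact one_mem _
  have hTN : T ≤ N := Subgroup.map_subtype_le R
  have hcT : ∀ n : N, (c n : P) ∈ T := fun n => ⟨c n, ⟨n, rfl⟩, rfl⟩
  have hDT : ∀ a b : N, a * b * a⁻¹ * b⁻¹ ∈ R := fun a b => hDR <| (hq _).1 (by
    rw [map_mul, map_mul, map_mul, map_inv, map_inv, mul_inv_cancel_comm, mul_inv_cancel])
  have hTnorm : ∀ n : N, ∀ t ∈ T, (n : P) * t * (n : P)⁻¹ ∈ T := by
    rintro n _ ⟨t, ht, rfl⟩
    exact ⟨n * t * n⁻¹ * t⁻¹ * t, mul_mem (hDT n t) ht, by simp⟩
  have hxT : ∀ t ∈ T, x * t * x⁻¹ ∈ T := by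
    rintro _ ⟨t, ⟨n, hn⟩, rfl⟩
    have h1 : c n * t⁻¹ ∈ D := (hq _).1 (by
      rw [map_mul, map_inv, show q (c n) = f n from rfl, hn, mul_inv_cancel])
    let σ : MulAut N := MulAut.conjNormal x
    have h2 : σ (c n * t⁻¹) ∈ D := by
      haveI : D.Characteristic := inferInstanceAs (commutator N).Characteristic
      have := Subgroup.Characteristic.fixed (H := D) inferInstance σ
      rw [← this] at h1
      exact h1
    have hσ : σ (c n) = c (σ n) := by
      apply Subtype.ext
      simp only [σ, c, MulAut.conjNormal_apply]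
      group
    refine ⟨σ t, ?_, by simp [σ]⟩
    show q (σ t) ∈ f.range
    refine ⟨σ n, ?_⟩
    show q (c (σ n)) = _
    rw [← hσ, ← mul_inv_eq_one, ← map_inv, ← map_mul, hq, ← map_inv, ← map_mul]
    exact h2
  have htop : N ⊔ Subgroup.zpowers x = ⊤ :=
    Cfsg.Agent.PGroupOrderFour80.sup_zpowers_eq_top hP hN hx
  haveI hTn : T.Normal := by
    refine Subgroup.normalizer_eq_top_iff.1 (top_le_iff.1 ?_)
    rw [← htop]
    refine sup_le (fun n hn => ?_) ?_
    · exact Subgroup.mem_normalizer_fintype fun t ht => hTnorm ⟨n, hn⟩ t ht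
    · rw [Subgroup.zpowers_le]
      exact Subgroup.mem_normalizer_fintype fun t ht => hxT t ht
  let π := QuotientGroup.mk' T
  have hπ : ∀ w, π w = 1 ↔ w ∈ T := fun w => QuotientGroup.eq_one_iff _
  have hNN : ∀ a b : N, Commute (π a) (π b) := fun a b => by
    rw [← commutatorElement_eq_one_iff_commute, ← map_commutatorElement, hπ]
    exact ⟨a * b * a⁻¹ * b⁻¹, hDT a b, by simp [commutatorElement_def]⟩
  have hxN : ∀ n : N, Commute (π x) (π n) := fun n => by
    rw [← commutatorElement_eq_one_iff_commute, ← map_commutatorElement, hπ]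
    exact hcT n
  have hle : commutator P ≤ T := by
    have hcomm : ∀ w : P, (∀ n : N, Commute (π n) (π w)) → Commute (π x) (π w) →
        ∀ g, Commute (π g) (π w) := by
      intro w h1 h2 g
      have hle3 : N ⊔ Subgroup.zpowers x ≤
          (Subgroup.centralizer ({π w} : Set (P ⧸ T))).comap π := by
        refine sup_le (fun n hn => ?_) ?_
        · rw [Subgroup.mem_comap, Subgroup.mem_centralizer_singleton_iff]; exact (h1 ⟨n, hn⟩).eq
        · rw [Subgroup.zpowers_le, Subgroup.mem_comap, Subgroup.mem_centralizer_singleton_iff]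
          exact h2.eq
      have := hle3 (htop.symm ▸ Subgroup.mem_top g)
      rw [Subgroup.mem_comap, Subgroup.mem_centralizer_singleton_iff] at this
      exact this
    rw [commutator_def, Subgroup.commutator_le]
    intro a _ b _
    rw [← hπ, map_commutatorElement, commutatorElement_eq_one_iff_commute]
    exact hcomm b (fun n => (hcomm n (fun m => hNN m n) (hxN n) b).symm)
      (hcomm x (fun n => (hxN n).symm) (Commute.refl _) b).symm a
  have hge : T ≤ commutator P := by
    rintro _ ⟨t, ⟨n, hn⟩, rfl⟩
    have h1 : c n * t⁻¹ ∈ D := (hq _).1 (by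
      rw [map_mul, map_inv, show q (c n) = f n from rfl, hn, mul_inv_cancel])
    have hDP : D.map N.subtype ≤ commutator P := by
      rw [hD, Subgroup.map_subtype_commutator, commutator_def]
      exact Subgroup.commutator_mono le_top le_top
    have h2 : (c n : P) ∈ commutator P :=
      Subgroup.commutator_mem_commutator (Subgroup.mem_top x) (Subgroup.mem_top (n : P))
    have h3 := hDP ⟨_, h1, rfl⟩
    simp only [Subgroup.coe_subtype, Subgroup.coe_mul, InvMemClass.coe_inv] at h3
    have := mul_mem (inv_mem h3) h2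
    simpa using this
  have hPT : (commutator P).index = p * R.index := by
    rw [le_antisymm hle hge, Subgroup.index_map_subtype, hN, mul_comm]
  have e1 := Subgroup.card_mul_index R
  have e2 : Nat.card R = Nat.card f.range * Nat.card D := by
    have h1 := Subgroup.card_mul_index (D.subgroupOf R)
    rw [Nat.card_congr (Subgroup.subgroupOfEquivOfLe hDR).toEquiv] at h1
    have h2 : (D.subgroupOf R).index = Nat.card f.range := by
      have h3 : q.ker = D := QuotientGroup.ker_mk' _
      show D.relIndex R = _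
      rw [← h3, Subgroup.relIndex_ker, hR,
        Subgroup.map_comap_eq_self_of_surjective QuotientGroup.mk_surjective]
    rw [← h1, h2, mul_comm]
  have e3 := Subgroup.card_mul_index f.ker
  rw [Subgroup.index_ker] at e3
  rw [hker, hPT]
  rw [e2, ← e3, mul_assoc, mul_comm (Nat.card f.ker)] at e1
  have : Nat.card D * R.index = Nat.card f.ker :=
    Nat.eq_of_mul_eq_mul_left (Nat.card_pos (α := f.range)) e1
  rw [← this]
  ring

/-- Let p be a prime, P a finite p-group and N a normal subgroup of P of index p. For x ∈ P write c(x) for the number of elements n of N whose commutator x n x⁻¹ n⁻¹ lies in the derived subgroup N' (so c(x)/#N' is the order of the centralizer of x acting on N/N'). Then [P : P'] = p² if and only if c(x) = p·#N' for every x ∈ P outside N, and also if and only if c(x) = p·#N' for some x ∈ P outside N. -/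
theorem result {P : Type*} [Group P] [Finite P] (p : ℕ) [Fact p.Prime] (hP : IsPGroup p P) (N : Subgroup P) [N.Normal] (hN : N.index = p) :
    ((commutator P).index = p ^ 2 ↔ ∀ x : P, x ∉ N →
        Nat.card {n : N // x * n * x⁻¹ * (n : P)⁻¹ ∈ (commutator N).map N.subtype} = p * Nat.card (commutator N)) ∧
    ((commutator P).index = p ^ 2 ↔ ∃ x : P, x ∉ N ∧
        Nat.card {n : N // x * n * x⁻¹ * (n : P)⁻¹ ∈ (commutator N).map N.subtype} = p * Nat.card (commutator N)) := by
  classical
  have key := fun {x : P} (hx : x ∉ N) => index_eq p hP N hN hx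
  have hD : 0 < Nat.card (commutator N) := Nat.card_pos
  have hiff : ∀ x : P, x ∉ N → ((commutator P).index = p ^ 2 ↔
      Nat.card {n : N // x * n * x⁻¹ * (n : P)⁻¹ ∈ (commutator N).map N.subtype} =
        p * Nat.card (commutator N)) := by
    intro x hx
    constructor
    · intro h
      have h1 := key hx
      rw [h, sq, mul_assoc] at h1
      exact (Nat.eq_of_mul_eq_mul_left (Fact.out : p.Prime).pos h1).symm
    · intro h
      have h1 := key hx
      rw [h, ← mul_assoc, ← sq] at h1
      exact Nat.eq_of_mul_eq_mul_right hD h1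
  obtain ⟨x, hx⟩ : ∃ x, x ∉ N := by
    by_contra hall
    push Not at hall
    rw [(Subgroup.eq_top_iff' N).2 hall, Subgroup.index_top] at hN
    exact (Fact.out : p.Prime).one_lt.ne hN
  exact ⟨⟨fun h y hy => (hiff y hy).1 h, fun h => (hiff x hx).2 (h x hx)⟩,
    ⟨fun h => ⟨x, hx, (hiff x hx).1 h⟩, fun ⟨y, hy, h⟩ => (hiff y hy).2 h⟩⟩

end Cfsg.Agent.S4586
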