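import Mathlib
import Cfsg.Prelude.Def_CaseTheorems

set_option autoImplicit false
open Cfsg
namespace Cfsg.Agent.S0502

theorem four_of_pair {P : Type*} [Group P] (a c : P) (ha : a * a = 1) (hc : c * c = 1)
    (hac : a * c = c * a) (ha1 : a ≠ 1) (hc1 : c ≠ 1) (hne : a ≠ c) :
    ∃ V : Subgroup P, IsKleinFour V ∧ a ∈ V ∧ c ∈ V ∧
      ∀ x ∈ V, x = 1 ∨ x = a ∨ x = c ∨ x = a * c := by
  have hia : a⁻¹ = a := inv_eq_of_mul_eq_one_right ha
  have hic : c⁻¹ = c := inv_eq_of_mul_eq_one_right hc
  let V : Subgroup P :=
    { carrier := ({1, a, c, a * c} : Set P)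
      one_mem' := by simp
      mul_mem' := by
        intro x y hx hy
        simp only [Set.mem_insert_iff, Set.mem_singleton_iff] at hx hy ⊢
        have e1 : a * (a * c) = c := by rw [← mul_assoc, ha, one_mul]
        have e2 : (a * c) * a = c := by rw [hac, mul_assoc, ha, mul_one]
        have e3 : c * (a * c) = a := by rw [hac, ← mul_assoc, hc, one_mul]
        have e4 : (a * c) * c = a := by rw [mul_assoc, hc, mul_one]
        have e5 : (a * c) * (a * c) = 1 := by rw [mul_assoc, e3, ha]
        rcases hx with h | h | h | h <;> rcases hy with h' | h' | h' | h' <;> rw [h, h'] <;>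
          simp only [one_mul, mul_one, ha, hc, e1, e2, e3, e4, e5, ← hac, true_or, or_true]
      inv_mem' := by
        intro x hx
        simp only [Set.mem_insert_iff, Set.mem_singleton_iff] at hx ⊢
        rcases hx with h | h | h | h <;> rw [h]
        · simp
        · simp [hia]
        · simp [hic]
        · simp [mul_inv_rev, hia, hic, ← hac] }
  refine ⟨V, ⟨?_, ?_⟩, by simp [V], by simp [V], fun x hx => by simpa [V] using hx⟩
  · have h3 : a * c ≠ 1 := fun h => hne (by
      calc a = a * (c * c) := by rw [hc, mul_one]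
        _ = c := by rw [← mul_assoc, h, one_mul])
    have h4 : a * c ≠ a := fun h => hc1 (by simpa using h)
    have h5 : a * c ≠ c := fun h => ha1 (by simpa using h)
    show Nat.card ({1, a, c, a * c} : Set P) = 4
    classical
    rw [Nat.card_coe_set_eq]
    rw [show ({1, a, c, a * c} : Set P) = (({1, a, c, a * c} : Finset P) : Set P) by simp,
      Set.ncard_coe_finset]
    rw [Finset.card_insert_of_notMem (by simp [Ne.symm ha1, Ne.symm hc1, Ne.symm h3]),
      Finset.card_insert_of_notMem (by simp [hne, Ne.symm h4]),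
      Finset.card_insert_of_notMem (by simp [Ne.symm h5]), Finset.card_singleton]
  · have hdvd : Monoid.exponent V ∣ 2 := by
      apply Monoid.exponent_dvd_of_forall_pow_eq_one
      rintro ⟨x, hx⟩
      apply Subtype.ext
      have : x = 1 ∨ x = a ∨ x = c ∨ x = a * c := by simpa [V] using hx
      show x ^ 2 = 1
      rcases this with h | h | h | h <;> rw [h]
      · simp
      · simpa [pow_two] using ha
      · simpa [pow_two] using hc
      · show (a * c) ^ 2 = 1
        rw [(show Commute a c from hac).mul_pow, pow_two, pow_two, ha, hc, one_mul]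
    rcases (Nat.dvd_prime Nat.prime_two).mp hdvd with h | h
    · exfalso
      have hs := Monoid.exp_eq_one_iff.mp h
      exact ha1 (congrArg Subtype.val (@Subsingleton.elim _ hs (⟨a, by simp [V]⟩ : V) 1))
    · exact h

theorem result {P : Type*} [Group P] [Finite P] (hP : IsPGroup 2 P)
    (E : Subgroup P) [E.Normal] (hE : IsMulCommutative E) (hE2 : ∀ e ∈ E, e ^ 2 = 1) (hE8 : 8 ≤ Nat.card E) :
    Cfsg.IsFourConnected P := by
  classical
  have hEc : ∀ x ∈ E, ∀ y ∈ E, x * y = y * x := fun x hx y hy =>
    congrArg Subtype.val ((isMulCommutative_iff.mp hE) ⟨x, hx⟩ ⟨y, hy⟩)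
  have hEs : ∀ x ∈ E, x * x = 1 := fun x hx => by simpa [pow_two] using hE2 x hx
  -- centralizers in `E` of involutions have at least three elements
  have hbig : ∀ b : P, b * b = 1 → ∀ u : P, ∃ d ∈ E, b * d = d * b ∧ d ≠ 1 ∧ d ≠ u := by
    intro b hb u
    have hib : b⁻¹ = b := inv_eq_of_mul_eq_one_right hb
    have hm : ∀ e ∈ E, b * e * b⁻¹ ∈ E := fun e he => ‹E.Normal›.conj_mem e he b
    let φ : E →* E :=
      { toFun := fun e => e * ⟨b * e * b⁻¹, hm e e.2⟩
        map_one' := by apply Subtype.ext; simp
        map_mul' := by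
          intro x y
          apply Subtype.ext
          simp only [Subgroup.coe_mul]
          have h := hEc (b * x * b⁻¹) (hm x x.2) y y.2
          calc (x : P) * y * (b * (x * y) * b⁻¹)
              = x * ((y : P) * (b * x * b⁻¹)) * (b * y * b⁻¹) := by group
            _ = x * ((b * x * b⁻¹) * y) * (b * y * b⁻¹) := by rw [h]
            _ = (x * (b * x * b⁻¹)) * (y * (b * y * b⁻¹)) := by group }
    have hker : ∀ e : E, φ e = 1 ↔ b * e = e * b := by
      intro e
      constructor
      · intro h
        have h' : (e : P) * (b * e * b⁻¹) = 1 := congrArg Subtype.val h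
        have : b * e * b⁻¹ = e := by
          have := inv_eq_of_mul_eq_one_right h'
          rw [← this, inv_eq_of_mul_eq_one_right (hEs e e.2)]
        calc b * e = b * e * b⁻¹ * b := by group
          _ = e * b := by rw [this]
      · intro h
        apply Subtype.ext
        show (e : P) * (b * e * b⁻¹) = 1
        rw [h]; simp [hEs e e.2]
    have hle : φ.range ≤ φ.ker := by
      rintro x ⟨e, rfl⟩
      rw [MonoidHom.mem_ker, hker]
      show b * ((e : P) * (b * e * b⁻¹)) = (e * (b * e * b⁻¹)) * b
      rw [hEc e e.2 _ (hm e e.2), hib]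
      have h := hEc (b * e * b) (by simpa [hib] using hm e e.2) e e.2
      calc b * ((b * e * b) * e) = (b * b) * (e * b * e) := by group
        _ = ((e : P) * b * e) * (b * b) := by rw [hb]; simp
        _ = (e * (b * e * b)) * b := by group
        _ = ((b * e * b) * e) * b := by rw [h]
    have hk : 3 ≤ Nat.card φ.ker := by
      have h1 : Nat.card φ.ker * Nat.card φ.range = Nat.card E := by
        rw [mul_comm, ← Nat.card_congr (QuotientGroup.quotientKerEquivRange φ).toEquiv,
          ← Subgroup.card_eq_card_quotient_mul_card_subgroup]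
      have h2 := Subgroup.card_le_of_le hle
      by_contra hlt
      have h3 : Nat.card φ.ker ≤ 2 := by omega
      have := Nat.mul_le_mul h3 (h2.trans h3)
      omega
    by_contra hno
    push Not at hno
    have hsub : (((φ.ker).map E.subtype : Subgroup P) : Set P) ⊆ ({1, u} : Set P) := by
      rintro x ⟨e, he, rfl⟩
      have := hno e e.2 ((hker e).mp he)
      by_cases h1 : (e : P) = 1
      · left; exact h1
      · right; exact this h1
    have := Set.ncard_le_ncard hsub (Set.toFinite _)
    rw [← Nat.card_coe_set_eq] at this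
    have hcard : Nat.card ((φ.ker).map E.subtype : Subgroup P) = Nat.card φ.ker :=
      (Nat.card_congr (Subgroup.equivMapOfInjective φ.ker E.subtype E.subtype_injective).toEquiv).symm
    have h2 : ({1, u} : Set P).ncard ≤ 2 := (Set.ncard_insert_le _ _).trans (by simp)
    have h3 : Nat.card ((φ.ker).map E.subtype : Subgroup P) ≤ 2 := le_trans this h2
    omega
  -- a fixed four-subgroup inside E
  obtain ⟨e₁, he₁, -, he₁1, -⟩ := hbig 1 (one_mul 1) 1
  obtain ⟨e₂, he₂, -, he₂1, he₂ne⟩ := hbig 1 (one_mul 1) e₁
  obtain ⟨E₀, hE₀, -, -, hE₀el⟩ := four_of_pair e₂ e₁ (hEs _ he₂) (hEs _ he₁)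
    (hEc _ he₂ _ he₁) he₂1 he₁1 he₂ne
  have hE₀E : E₀ ≤ E := by
    intro x hx
    rcases hE₀el x hx with rfl | rfl | rfl | rfl
    exacts [E.one_mem, he₂, he₁, E.mul_mem he₂ he₁]
  let R := fun A B : Subgroup P => IsKleinFour A ∧ IsKleinFour B ∧ ∀ a ∈ A, ∀ b ∈ B, a * b = b * a
  have key : ∀ U : Subgroup P, IsKleinFour U → Relation.ReflTransGen R U E₀ := by
    intro U hU
    haveI := hU
    by_cases hUE : U ≤ E
    · exact .single ⟨hU, hE₀, fun a ha b hb => hEc a (hUE ha) b (hE₀E hb)⟩
    obtain ⟨b, hbU, hbE⟩ := SetLike.not_le_iff_exists.mp hUE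
    have hsq : ∀ x ∈ U, x * x = 1 := fun x hx =>
      congrArg Subtype.val (IsKleinFour.mul_self (⟨x, hx⟩ : U))
    have hUc : ∀ x ∈ U, ∀ y ∈ U, x * y = y * x := by
      intro x hx y hy
      have h := hsq (x * y) (U.mul_mem hx hy)
      calc x * y = (x * y)⁻¹ := (inv_eq_of_mul_eq_one_right h).symm
        _ = y⁻¹ * x⁻¹ := mul_inv_rev x y
        _ = y * x := by
          rw [inv_eq_of_mul_eq_one_right (hsq x hx), inv_eq_of_mul_eq_one_right (hsq y hy)]
    have hb1 : b ≠ 1 := fun h => hbE (h ▸ E.one_mem)
    -- elements of U are 1, a, b, a * b for a suitable a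
    obtain ⟨a, haU, ha1, hab, haE⟩ : ∃ a ∈ U, a ≠ 1 ∧ a ≠ b ∧
        (a ∈ E ∨ ∀ x ∈ U, x ∈ E → x = 1) := by
      by_cases hex : ∃ a ∈ U, a ∈ E ∧ a ≠ 1
      · obtain ⟨a, haU, haE, ha1⟩ := hex
        exact ⟨a, haU, ha1, fun h => hbE (h ▸ haE), Or.inl haE⟩
      · push Not at hex
        by_contra hno
        push Not at hno
        have hsub : (U : Set P) ⊆ ({1, b} : Set P) := by
          intro x hx
          by_cases h1 : x = 1
          · left; exact h1
          · by_cases h2 : x = b
            · right; exact h2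
            · obtain ⟨-, y, hy, hyE, hy1⟩ := hno x hx h1 h2
              exact absurd (hex y hy hyE) hy1
        have := Set.ncard_le_ncard hsub (Set.toFinite _)
        rw [← Nat.card_coe_set_eq] at this
        have h4 : Nat.card U = 4 := IsKleinFour.card_four
        have h2 : ({1, b} : Set P).ncard ≤ 2 := (Set.ncard_insert_le _ _).trans (by simp)
        have h5 : Nat.card U ≤ 2 := le_trans this h2
        omega
    have hel : ∀ x ∈ U, x = 1 ∨ x = a ∨ x = b ∨ x = a * b := by
      obtain ⟨V, hV, haV, hbV, hVel⟩ :=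
        four_of_pair a b (hsq a haU) (hsq b hbU) (hUc a haU b hbU) ha1 hb1 hab
      haveI := hV
      have hle : V ≤ U := by
        intro x hx
        rcases hVel x hx with rfl | rfl | rfl | rfl
        exacts [U.one_mem, haU, hbU, U.mul_mem haU hbU]
      have : V = U := Subgroup.eq_of_le_of_card_ge hle
        (by rw [hV.card_four, hU.card_four])
      exact this ▸ hVel
    -- an element of E outside U centralizing U
    obtain ⟨c, hcE, hcU, hca, hcb⟩ : ∃ c ∈ E, c ∉ U ∧ a * c = c * a ∧ b * c = c * b := by
      rcases haE with haE | htriv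
      · obtain ⟨c, hcE, hcb, hc1, hca⟩ := hbig b (hsq b hbU) a
        refine ⟨c, hcE, ?_, hEc a haE c hcE, hcb⟩
        intro hcU
        rcases hel c hcU with h | h | h | h
        · exact hc1 h
        · exact hca h
        · exact hbE (h ▸ hcE)
        · exact hbE ((E.mul_mem_cancel_left haE).mp (h ▸ hcE))
      · obtain ⟨d, hdE, hda, hd1, -⟩ := hbig a (hsq a haU) 1
        by_cases hdb : b * d = d * b
        · exact ⟨d, hdE, fun h => hd1 (htriv d h hdE), hda, hdb⟩
        · have hdE' : b * d * b⁻¹ ∈ E := ‹E.Normal›.conj_mem d hdE b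
          refine ⟨d * (b * d * b⁻¹), E.mul_mem hdE hdE', ?_, ?_, ?_⟩
          · intro h
            have h1 := htriv _ h (E.mul_mem hdE hdE')
            have h2 : b * d * b⁻¹ = d := by
              rw [← inv_eq_of_mul_eq_one_right h1, inv_eq_of_mul_eq_one_right (hEs d hdE)]
            exact hdb (by
              calc b * d = b * d * b⁻¹ * b := by group
                _ = d * b := by rw [h2])
          · have h1 : Commute a d := hda
            have h2 : Commute a b := hUc a haU b hbU
            exact h1.mul_right ((h2.mul_right h1).mul_right h2.inv_right)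
          · have hib : b⁻¹ = b := inv_eq_of_mul_eq_one_right (hsq b hbU)
            have hbb := hsq b hbU
            rw [hib] at hdE' ⊢
            calc b * (d * (b * d * b)) = ((b * d * b) * d) * b := by group
              _ = (d * (b * d * b)) * b := by rw [hEc _ hdE' d hdE]
    have hc1 : c ≠ 1 := fun h => hcU (h ▸ U.one_mem)
    obtain ⟨W, hW, hbW, hcW, hWel⟩ := four_of_pair b c (hsq b hbU) (hEs c hcE) hcb hb1 hc1
      (fun h => hbE (h ▸ hcE))
    have hstep1 : R U W := by
      refine ⟨hU, hW, ?_⟩
      intro x hx y hy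
      have hxb : Commute x b := hUc x hx b hbU
      have hxc : Commute x c := by
        rcases hel x hx with rfl | rfl | rfl | rfl
        exacts [Commute.one_left c, hca, hcb, (show Commute a c from hca).mul_left hcb]
      rcases hWel y hy with rfl | rfl | rfl | rfl
      exacts [Commute.one_right x, hxb, hxc, hxb.mul_right hxc]
    obtain ⟨d, hdE, hdb, hd1, hdc⟩ := hbig b (hsq b hbU) c
    obtain ⟨V, hV, -, -, hVel⟩ := four_of_pair d c (hEs d hdE) (hEs c hcE) (hEc d hdE c hcE) hd1 hc1 hdc
    have hVE : V ≤ E := by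
      intro x hx
      rcases hVel x hx with rfl | rfl | rfl | rfl
      exacts [E.one_mem, hdE, hcE, E.mul_mem hdE hcE]
    have hstep2 : R W V := by
      refine ⟨hW, hV, ?_⟩
      intro x hx y hy
      have hyb : Commute b y := by
        rcases hVel y hy with rfl | rfl | rfl | rfl
        exacts [Commute.one_right b, hdb, hcb, (show Commute b d from hdb).mul_right hcb]
      have hyc : Commute c y := hEc c hcE y (hVE hy)
      rcases hWel x hx with rfl | rfl | rfl | rfl
      exacts [Commute.one_left y, hyb, hyc, hyb.mul_left hyc]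
    exact ((Relation.ReflTransGen.single hstep1).tail hstep2).tail
      ⟨hV, hE₀, fun x hx y hy => hEc x (hVE hx) y (hE₀E hy)⟩
  have hsymm : ∀ A B, Relation.ReflTransGen R A B → Relation.ReflTransGen R B A := by
    intro A B h
    induction h with
    | refl => exact .refl
    | tail _ h2 ih =>
      exact Relation.ReflTransGen.head
        ⟨h2.2.1, h2.1, fun a ha b hb => (h2.2.2 b hb a ha).symm⟩ ih
  intro U V hU hV
  exact (key U hU).trans (hsymm _ _ (key V hV))

end Cfsg.Agent.S0502
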