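import Cfsg.Statements.S0012
import Mathlib

set_option autoImplicit false
open Cfsg

namespace Cfsg.Agent.S0012

open scoped Pointwise commutatorElement



/-- In a finite p-group every commutator and every p-th power lies in the Frattini subgroup, so the Frattini quotient is elementary abelian. -/
theorem result {G : Type*} [Group G] [Finite G] (p : ℕ) [Fact p.Prime]
    (hG : IsPGroup p G) : commutator G ≤ frattini G ∧ ∀ x : G, x ^ p ∈ frattini G := by
  have key : ∀ M : Subgroup G, IsCoatom M → commutator G ≤ M ∧ ∀ x : G, x ^ p ∈ M := by
    intro M hM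
    have := hG.isNilpotent
    have hn : M.Normal := ((Group.isNilpotent_of_finite_tfae (G := G)).out 0 2 rfl rfl).1 hG.isNilpotent M hM
    have : Finite (G ⧸ M) := inferInstance
    have hidx : M.index = p := by
      obtain ⟨k, hk⟩ := hG.index M
      obtain ⟨n, hn'⟩ := IsPGroup.iff_card.1 (hG.to_subgroup M)
      have hk0 : k ≠ 0 := by
        rintro rfl
        rw [pow_zero, Subgroup.index_eq_one] at hk
        exact hM.1 hk
      have hcard : Nat.card G = p ^ n * p ^ k := by rw [← hn', ← hk, Subgroup.card_mul_index]
      have hdvd : p ^ (n + 1) ∣ Nat.card G := by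
        rw [hcard, ← pow_add]; exact pow_dvd_pow p (by omega)
      obtain ⟨K, hK, hMK⟩ := Sylow.exists_subgroup_card_pow_succ hdvd hn'
      have hlt : M < K := by
        refine lt_of_le_of_ne hMK ?_
        rintro rfl
        rw [hn'] at hK
        have := Nat.pow_right_injective (Fact.out : p.Prime).two_le hK
        omega
      have htop := hM.2 K hlt
      rw [htop, Subgroup.card_top, hcard, ← pow_add] at hK
      have := Nat.pow_right_injective (Fact.out : p.Prime).two_le hK
      rw [hk, show k = 1 by omega, pow_one]
    have hc : Nat.card (G ⧸ M) = p := hidx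
    have : IsCyclic (G ⧸ M) := isCyclic_of_prime_card hc
    constructor
    · rw [commutator_def, Subgroup.commutator_le]
      intro a _ b _
      rw [← QuotientGroup.eq_one_iff (N := M)]
      show (QuotientGroup.mk' M) ⁅a, b⁆ = 1
      rw [map_commutatorElement, commutatorElement_eq_one_iff_mul_comm]
      exact (IsCyclic.isMulCommutative (α := G ⧸ M)).is_comm.comm _ _
    · intro x
      rw [← QuotientGroup.eq_one_iff, QuotientGroup.mk_pow, ← hc, pow_card_eq_one']
  unfold frattini Order.radical
  simp only [le_iInf_iff, Subgroup.mem_iInf]
  exact ⟨fun M hM => (key M hM).1, fun x M hM => (key M hM).2 x⟩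

end Cfsg.Agent.S0012
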