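import Cfsg.Statements.S0013
import Mathlib

set_option autoImplicit false
open Cfsg

namespace Cfsg.Agent.S0013

open scoped Pointwise commutatorElement



/-- In a finite p-group the Frattini subgroup is the smallest normal subgroup with elementary abelian quotient: it lies below any normal subgroup containing all commutators and all p-th powers. -/
theorem result {G : Type*} [Group G] [Finite G] (p : ℕ) [Fact p.Prime]
    (hG : IsPGroup p G) (N : Subgroup G) [N.Normal] (hcomm : commutator G ≤ N) (hpow : ∀ x : G, x ^ p ∈ N) :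
    frattini G ≤ N := by
  intro x hxΦ
  by_contra hxN
  obtain ⟨M, ⟨hNM, hxM⟩, hmax⟩ := Set.Finite.exists_maximal (Set.toFinite {M : Subgroup G | N ≤ M ∧ x ∉ M}) ⟨N, le_rfl, hxN⟩
  have hMn : M.Normal := Subgroup.Normal.mk fun m hm g => by
    have h1 : ⁅g, m⁆ ∈ M := hNM (hcomm (Subgroup.commutator_mem_commutator (Subgroup.mem_top g) (Subgroup.mem_top m)))
    have h2 : g * m * g⁻¹ = ⁅g, m⁆ * m := by rw [commutatorElement_def]; group
    rw [h2]; exact M.mul_mem h1 hm
  have hgt : ∀ K : Subgroup G, M < K → x ∈ K := by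
    intro K hK
    by_contra hx
    exact hK.not_ge (hmax ⟨hNM.trans hK.le, hx⟩ hK.le)
  have hco : IsCoatom M := by
    refine ⟨fun h => hxM (h ▸ Subgroup.mem_top x), fun K hK => ?_⟩
    rw [Subgroup.eq_top_iff']
    intro y
    by_cases hy : y ∈ M
    · exact hK.le hy
    have hlt : M < M ⊔ Subgroup.zpowers y := by
      refine lt_of_le_of_ne le_sup_left (fun h => hy ?_)
      rw [h]; exact Subgroup.mem_sup_right (Subgroup.mem_zpowers y)
    obtain ⟨m, hm, z, hz, hmz⟩ := Subgroup.mem_sup_of_normal_left.1 (hgt _ hlt)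
    obtain ⟨k, rfl⟩ := Subgroup.mem_zpowers_iff.1 hz
    have hyp : y ^ (p : ℤ) ∈ M := by rw [zpow_natCast]; exact hNM (hpow y)
    have hk : ¬ (p : ℤ) ∣ k := by
      rintro ⟨j, rfl⟩
      apply hxM
      rw [← hmz, zpow_mul]
      exact M.mul_mem hm (M.zpow_mem hyp j)
    obtain ⟨a, b, hab⟩ : IsCoprime (p : ℤ) k :=
      ((Nat.prime_iff_prime_int.1 Fact.out).coprime_iff_not_dvd).2 hk
    have hz2 : y ^ k ∈ K := by
      have : y ^ k = m⁻¹ * x := by rw [← hmz]; group
      rw [this]; exact K.mul_mem (hK.le (M.inv_mem hm)) (hgt K hK)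
    have : y = (y ^ (p : ℤ)) ^ a * (y ^ k) ^ b := by
      rw [← zpow_mul, ← zpow_mul, ← zpow_add, mul_comm _ a, mul_comm k b, hab, zpow_one]
    rw [this]
    exact K.mul_mem (K.zpow_mem (hK.le hyp) a) (K.zpow_mem hz2 b)
  exact hxM (frattini_le_coatom hco hxΦ)

end Cfsg.Agent.S0013
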