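import Cfsg.Statements.S1614
import Cfsg.Agent.S1615
import Cfsg.Agent.Lib.FischerSolvU42_99
import Cfsg.Agent.Lib.FischerSolvU52_99

set_option autoImplicit false
open Cfsg

namespace Cfsg.Agent.S1614

/-- If the commuting transpositions of one transposition generate a solvable group, a Fischer 3-transposition group is S5, S6, PSU(4, 2) or PSU(5, 2). -/
theorem result {G : Type*} [Group G] [Finite G] (hsol : ∀ N : Subgroup G, N.Normal → Group.IsSolvable ↥N → N = ⊥) (hperf : ⁅commutator G, commutator G⁆ = commutator G) {D : Set G} (hD : Cfsg.IsThreeTranspositionClass D) (x : G) (hx : x ∈ D) (hs : Group.IsSolvable ↥(Subgroup.closure {y : G | y ∈ D ∧ y ≠ x ∧ Commute x y})) : Nonempty (G ≃* Equiv.Perm (Fin 5)) ∨ Nonempty (G ≃* Equiv.Perm (Fin 6)) ∨ ∃ (F : Type) (_ : Field F) (_ : Fintype F), Fintype.card F = 4 ∧ (Nonempty (G ≃* Cfsg.PSU 4 F 2) ∨ Nonempty (G ≃* Cfsg.PSU 5 F 2)) := by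
  classical
  by_cases hodd : ∀ y ∈ D, Cfsg.oddCore ↥(Subgroup.closure {w : G | w ∈ D ∧ w ≠ y ∧ Commute y w}) ≤
      Subgroup.center ↥(Subgroup.closure {w : G | w ∈ D ∧ w ≠ y ∧ Commute y w})
  swap
  · push Not at hodd
    obtain ⟨y, hy, hy'⟩ := hodd
    exact Or.inl (S1615.result hsol hperf hD y hy hy')
  have tc := ThreeTransp.tc_of_class hD
  have hloc : ∀ y ∈ D, Group.IsSolvable ↥(FischerSolvClasses99.Hx D y) := by
    intro y hy
    obtain ⟨g, rfl⟩ := tc.trans x hx y hy
    haveI : Group.IsSolvable ↥(FischerSolvClasses99.Hx D x) := hs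
    set e := MulAut.conj g
    have hmap : (FischerSolvClasses99.Hx D x).map e.toMonoidHom =
        FischerSolvClasses99.Hx D (g * x * g⁻¹) := by
      rw [FischerSolvClasses99.Hx, MonoidHom.map_closure, FischerSolvClasses99.Hx, tc.dx_conj]
      rfl
    rw [← hmap]
    exact Group.isSolvable_of_surjective (e.toMonoidHom.subgroupMap_surjective _)
  have hne : ∀ a ∈ D, a ≠ 1 := by
    obtain ⟨⟨ho, -⟩, -⟩ := hD
    intro a ha e
    have h2 := ho a ha
    rw [e, orderOf_one] at h2
    exact absurd h2 (by norm_num)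
  have C : FischerSolvClasses99.Ctx D := ⟨tc, hne, hsol, hperf, hloc, hodd⟩
  haveI : Nontrivial G := ⟨⟨x, 1, hne x hx⟩⟩
  let F := GaloisField 2 2
  haveI : Fintype F := Fintype.ofFinite F
  have h4 : Fintype.card F = 4 := by
    rw [← Nat.card_eq_fintype_card, GaloisField.card 2 2 (by norm_num)]
    norm_num
  haveI : UnitaryF4Geo.FourField F := ⟨h4⟩
  rcases FischerSolvShape99.shape C hx with h | ⟨g, hg⟩ | ⟨g, hg⟩
  · exact Or.inr (Or.inl h)
  · exact Or.inr (Or.inr ⟨F, inferInstance, inferInstance, h4,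
      Or.inl (FischerSolvU42_99.recognise hg)⟩)
  · exact Or.inr (Or.inr ⟨F, inferInstance, inferInstance, h4,
      Or.inr (FischerSolvU52_99.recognise hg)⟩)

end Cfsg.Agent.S1614
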