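import Cfsg.Statements.S4138
import Mathlib
import Cfsg.Agent.Lib.ClassSizeGraph76
import Cfsg.Agent.Lib.FrobeniusBasic

set_option autoImplicit false
open Cfsg

namespace Cfsg.Agent.S4138

open Cfsg.Agent.ClassSizeGraph76
open scoped Pointwise

variable {G : Type*} [Group G]

local notation "Cn" g => Subgroup.centralizer ({g} : Set G)

theorem cent_le_pow (g : G) (k : ℕ) : (Cn g) ≤ Cn (g ^ k) := fun c hc =>
  mem_cent.mpr (Commute.pow_right (mem_cent.mp hc) k)

theorem cs_eq_one [Finite G] {g : G} (hg : g ∈ Subgroup.center G) : cs g = 1 := by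
  show Subgroup.index (Cn g) = 1
  rw [Subgroup.index_eq_one, eq_top_iff]
  exact fun c _ => mem_cent.mpr (Subgroup.mem_center_iff.mp hg c)

theorem mem_center_of_cs {g : G} (hg : cs g = 1) : g ∈ Subgroup.center G := by
  have h : (Cn g) = ⊤ := Subgroup.index_eq_one.mp hg
  exact Subgroup.mem_center_iff.mpr fun c => mem_cent.mp (h ▸ Subgroup.mem_top c)

/-- `x` is a power of `x * y` for commuting elements of coprime order. -/
theorem cent_mul_le [Finite G] {a b : G} (hc : Commute a b) (hcop : (orderOf a).Coprime (orderOf b)) :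
    (Cn (a * b)) ≤ (Cn a) ⊓ (Cn b) := by
  obtain ⟨k, hk1, hk2⟩ := Nat.chineseRemainder hcop 1 0
  have hx : a ^ k = a := by
    conv_rhs => rw [← pow_one a]
    exact pow_eq_pow_iff_modEq.2 hk1
  have hy : b ^ k = 1 := by
    rw [← pow_zero b]; exact pow_eq_pow_iff_modEq.2 hk2
  intro c hc'
  have h1 : (Cn (a * b)) ≤ Cn a := by
    have := cent_le_pow (a * b) k
    rwa [hc.mul_pow, hx, hy, mul_one] at this
  have h2 : Commute c b := by
    have hca : Commute c a := mem_cent.mp (h1 hc')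
    have := hca.inv_right.mul_right (mem_cent.mp hc' : Commute c (a * b))
    rwa [inv_mul_cancel_left] at this
  exact ⟨h1 hc', mem_cent.mpr h2⟩

/-- A subgroup containing every prime power order power of `g` contains `g`. -/
theorem mem_of_primePow [Finite G] (H : Subgroup G) : ∀ g : G,
    (∀ k r i : ℕ, r.Prime → orderOf (g ^ k) = r ^ i → g ^ k ∈ H) → g ∈ H := by
  suffices key : ∀ d : ℕ, ∀ g : G, orderOf g = d →
      (∀ k r i : ℕ, r.Prime → orderOf (g ^ k) = r ^ i → g ^ k ∈ H) → g ∈ H from fun g => key _ g rfl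
  intro d
  induction d using Nat.recOnPrimeCoprime with
  | zero => intro g hg; exact absurd hg (orderOf_pos g).ne'
  | prime_pow r n hr =>
    intro g hg h
    simpa using h 1 r n hr (by simpa using hg)
  | coprime a b ha hb hab iha ihb =>
    intro g hg h
    have h1 : g ^ b ∈ H := iha (g ^ b) (by
      rw [orderOf_pow, hg, Nat.gcd_eq_right (dvd_mul_left b a), Nat.mul_div_cancel _ (by omega)]) fun k r i hr e => by
      rw [← pow_mul] at e ⊢
      exact h _ r i hr e
    have h2 : g ^ a ∈ H := ihb (g ^ a) (by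
      rw [orderOf_pow, hg, Nat.gcd_eq_right (dvd_mul_right a b), Nat.mul_div_cancel_left _ (by omega)]) fun k r i hr e => by
      rw [← pow_mul] at e ⊢
      exact h _ r i hr e
    obtain ⟨u, v, huv⟩ := Nat.isCoprime_iff_coprime.mpr hab
    have h3 : (g ^ a) ^ u * (g ^ b) ^ v = g := by
      rw [← zpow_natCast g a, ← zpow_natCast g b, ← zpow_mul, ← zpow_mul, ← zpow_add,
        mul_comm (a : ℤ) u, mul_comm (b : ℤ) v, huv, zpow_one]
    rw [← h3]
    exact H.mul_mem (H.zpow_mem h2 u) (H.zpow_mem h1 v)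

/-- If a `G`-class has `m` elements, `n` another coprime size, the standing hypotheses. -/
structure Setup (G : Type*) [Group G] (m n : ℕ) (x : G) : Prop where
  hmn : n < m
  hn : 1 < n
  hcop : m.Coprime n
  htop : ∀ z : G, cs z ≤ m
  hsecond : ∀ z : G, cs z < m → cs z ≤ n
  hx : cs x = n
  hex : ∃ y : G, cs y = m

variable [Finite G] {m n : ℕ} {x : G} (H : Setup G m n x)

/-- The elements of class size coprime to `m`. -/
def Y (G : Type*) [Group G] (m : ℕ) : Set G := {b | (cs b).Coprime m}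

omit [Finite G] in
theorem Y_conj : ∀ b ∈ Y G m, ∀ g : G, g * b * g⁻¹ ∈ Y G m := by
  intro b hb g
  show (cs (g * b * g⁻¹)).Coprime m
  rwa [cs_conj]

include H in
theorem hYa {y : G} (hy : cs y = m) : ∀ b ∈ Y G m, (cs y).Coprime (cs b) ∧ cs (y * b) ≤ cs y :=
  fun b hb => ⟨hy.symm ▸ (hb : (cs b).Coprime m).symm, hy.symm ▸ H.htop _⟩

include H in
theorem x_mem : x ∈ Subgroup.closure (Y G m) :=
  Subgroup.subset_closure (show (cs x).Coprime m by rw [H.hx]; exact H.hcop.symm)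

include H in
theorem L_dvd : Nat.card ↥(⁅Subgroup.closure (Y G m), (⊤ : Subgroup G)⁆) ∣ m := by
  obtain ⟨y, hy⟩ := H.hex
  have := card_commutator_dvd (hYa H hy)
  rwa [hy] at this

include H in
theorem M_comm {a b : G} (ha : a ∈ Subgroup.closure (Y G m)) (hb : b ∈ Subgroup.closure (Y G m)) :
    a * b = b * a := by
  obtain ⟨y, hy⟩ := H.hex
  exact Subgroup.mem_centralizer_iff.mp (closure_comm Y_conj (hYa H hy) hb) a ha

include H in
theorem M_center {g : G} (hg : g ∈ Subgroup.closure (Y G m)) {k : ℕ} (hk : g ^ k = 1) (hco : k.Coprime m) :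
    g ∈ Subgroup.center G := by
  obtain ⟨y, hy⟩ := H.hex
  exact mem_center_of_pow Y_conj (hYa H hy) hg hk (hy.symm ▸ hco)

include H in
/-- minimality of the centraliser of `x` -/
theorem min_x {g : G} (hle : (Cn g) ≤ Cn x) : (Cn g) = Cn x := by
  have hd : n ∣ cs g := H.hx ▸ Subgroup.index_dvd_of_le hle
  have h1 : cs g < m := lt_of_le_of_ne (H.htop g) fun e => by
    have := Nat.eq_one_of_dvd_coprimes H.hcop.symm dvd_rfl (e ▸ hd)
    exact absurd this H.hn.ne'
  have h2 : cs g = n := le_antisymm (H.hsecond g h1) (Nat.le_of_dvd (cs_pos g) hd)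
  refine Subgroup.eq_of_le_of_card_ge hle (le_of_eq ?_)
  apply Nat.eq_of_mul_eq_mul_right (cs_pos g)
  show _ * cs g = Nat.card (Cn g) * Subgroup.index (Cn g)
  rw [h2, ← H.hx, Subgroup.card_mul_index, Subgroup.card_mul_index]

include H in
/-- minimality of the centraliser of an element of class size `m` -/
theorem min_y {y g : G} (hy : cs y = m) (hle : (Cn g) ≤ Cn y) : (Cn g) = Cn y := by
  refine Subgroup.eq_of_le_of_card_ge hle (Nat.le_of_mul_le_mul_right ?_ (cs_pos g))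
  calc Nat.card (Cn y) * cs g ≤ Nat.card (Cn y) * cs y := Nat.mul_le_mul_left _ (hy.symm ▸ H.htop g)
    _ = Nat.card G := Subgroup.card_mul_index _
    _ = _ := (Subgroup.card_mul_index _).symm

include H in
theorem cs_eq_m {g : G} (hco : (cs g).Coprime n) (hg : g ∉ Subgroup.center G) : cs g = m := by
  by_contra hne
  have hlt : cs g < m := lt_of_le_of_ne (H.htop g) hne
  have hco' : (cs x).Coprime (cs g) := H.hx.symm ▸ hco.symm
  have hle : cs (x * g) ≤ cs x := by
    rw [H.hx]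
    refine H.hsecond _ (lt_of_le_of_ne (H.htop _) fun e => ?_)
    have hd := cs_mul_dvd hco'
    rw [e, H.hx] at hd
    exact absurd (Nat.le_of_dvd (cs_pos g) (H.hcop.dvd_of_dvd_mul_left hd)) (not_le.mpr hlt)
  refine hg (Subgroup.mem_center_iff.mpr fun k => ?_)
  set l := k * g * k⁻¹ * g⁻¹ with hl
  have hlK : l ∈ clsStab x := absorb hco' hle k
  have hn' : l ^ n = 1 := orderOf_dvd_iff_pow_eq_one.mp
    (H.hx ▸ (Subgroup.orderOf_dvd_natCard _ hlK).trans (card_clsStab_dvd x))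
  have hlL : l ∈ ⁅Subgroup.closure (Y G m), (⊤ : Subgroup G)⁆ := by
    obtain ⟨u, hu⟩ := mem_clsStab.mp hlK x (self_mem_cls x)
    have hn'' : (⁅Subgroup.closure (Y G m), (⊤ : Subgroup G)⁆).Normal := by
      have := closure_normal (Y_conj (G := G) (m := m))
      exact Subgroup.commutator_normal _ _
    have h1 := hn''.conj_mem _ (comm_mem _ (x_mem H) u) x⁻¹
    have : l = x⁻¹ * (u * x * u⁻¹ * x⁻¹) * x⁻¹⁻¹ := by
      calc l = x⁻¹ * (x * l) := by group
        _ = x⁻¹ * (u * x * u⁻¹) := by rw [show u * x * u⁻¹ = x * l from hu]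
        _ = _ := by group
    rwa [← this] at h1
  have hm' : l ^ m = 1 := orderOf_dvd_iff_pow_eq_one.mp ((Subgroup.orderOf_dvd_natCard _ hlL).trans (L_dvd H))
  have h2 := pow_gcd_eq_one.mpr ⟨hn', hm'⟩
  rw [H.hcop.symm, pow_one, hl, mul_inv_eq_one, mul_inv_eq_iff_eq_mul] at h2
  exact h2

include H in
/-- For each prime `t ∣ n` there is a `t`-element with centraliser `C(y)`. -/
theorem exists_t {y : G} (hy : cs y = m) (t : ℕ) [ht : Fact t.Prime] (htn : t ∣ n) :
    ∃ z : G, (∃ i, orderOf z = t ^ i) ∧ (Cn z) = Cn y := by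
  have hynz : y ∉ Subgroup.center G := fun h => by
    have := cs_eq_one h; rw [hy] at this; have := H.hmn; have := H.hn; omega
  obtain ⟨k, r, i, hr, hord, hwnz⟩ : ∃ k r i : ℕ, r.Prime ∧ orderOf (y ^ k) = r ^ i ∧ y ^ k ∉ Subgroup.center G := by
    by_contra hcon
    push Not at hcon
    exact hynz (mem_of_primePow _ y hcon)
  have hwm : cs (y ^ k) = m := cs_eq_m H
    (Nat.Coprime.coprime_dvd_left (hy ▸ Subgroup.index_dvd_of_le (cent_le_pow y k)) H.hcop) hwnz
  have hw : (Cn (y ^ k)) = Cn y := (min_y H hwm (cent_le_pow y k)).symm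
  by_cases hrt : r = t
  · exact ⟨y ^ k, ⟨i, hrt ▸ hord⟩, hw⟩
  have htm : ¬ t ∣ cs y := fun hd => ht.out.ne_one (Nat.eq_one_of_dvd_coprimes H.hcop (hy ▸ hd) htn)
  obtain ⟨T, hT⟩ := exists_sylow_le (p := t) (H := Cn y) htm
  obtain ⟨z, hzT, hznz⟩ : ∃ z ∈ (T : Subgroup G), z ∉ Subgroup.center G := by
    by_contra hcon
    push Not at hcon
    refine not_dvd_index_of_sylow_le T (H := Cn x) ?_ (show t ∣ cs x by rw [H.hx]; exact htn)
    intro c hc
    exact mem_cent.mpr (Subgroup.mem_center_iff.mp (hcon c hc) x).symm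
  obtain ⟨j, hj⟩ := IsPGroup.iff_orderOf.mp T.2 ⟨z, hzT⟩
  rw [Subgroup.orderOf_mk] at hj
  have hzw : Commute z (y ^ k) := mem_cent.mp (hw.ge (hT hzT))
  have hcop : (orderOf z).Coprime (orderOf (y ^ k)) := by
    rw [hj, hord]
    exact Nat.Coprime.pow _ _ ((Nat.coprime_primes ht.out hr).mpr (Ne.symm hrt))
  have hle := cent_mul_le hzw hcop
  have heq : (Cn (z * y ^ k)) = Cn y := min_y H hy ((hle.trans inf_le_right).trans hw.le)
  have hAz : (Cn y) ≤ Cn z := heq ▸ hle.trans inf_le_left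
  have hzm : cs z = m := cs_eq_m H
    (Nat.Coprime.coprime_dvd_left (hy ▸ Subgroup.index_dvd_of_le hAz) H.hcop) hznz
  exact ⟨z, ⟨j, hj⟩, (min_y H hzm hAz).symm⟩

include H in
theorem L_fix {y : G} (hy : cs y = m) {l : G} (hl : l ∈ ⁅Subgroup.closure (Y G m), (⊤ : Subgroup G)⁆)
    (hc : l ∈ Cn y) : l = 1 := by
  obtain ⟨t, ht, htn⟩ := Nat.exists_prime_and_dvd H.hn.ne'
  have : Fact t.Prime := ⟨ht⟩
  obtain ⟨z, ⟨i, hz⟩, hzy⟩ := exists_t H hy t htn
  have hzm : cs z = m := by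
    show Subgroup.index (Cn z) = m
    rw [hzy]; exact hy
  obtain ⟨g, hg⟩ := mem_clsStab.mp (commutator_le_clsStab (hYa H hzm) hl) z (self_mem_cls z)
  have hzi : z ^ t ^ i = 1 := hz ▸ pow_orderOf_eq_one z
  have h1 : (z * l) ^ t ^ i = 1 := by
    rw [← hg]; show (g * z * g⁻¹) ^ t ^ i = 1
    rw [conj_pow, hzi, mul_one, mul_inv_cancel]
  have hzl : Commute z l := (mem_cent.mp (hzy.ge hc) : Commute l z).symm
  rw [hzl.mul_pow, hzi, one_mul] at h1
  have h2 : l ^ m = 1 := orderOf_dvd_iff_pow_eq_one.mp ((Subgroup.orderOf_dvd_natCard _ hl).trans (L_dvd H))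
  have h3 := pow_gcd_eq_one.mpr ⟨h1, h2⟩
  have hco : (t ^ i).Coprime m := Nat.Coprime.pow_left _ (ht.coprime_iff_not_dvd.mpr fun hd =>
    ht.ne_one (Nat.eq_one_of_dvd_coprimes H.hcop hd htn))
  rwa [hco, pow_one] at h3

include H in
/-- In `M`, the centraliser of a power prime to the order of the centre part is unchanged. -/
theorem cent_pow_eq {g : G} (hg : g ∈ Subgroup.closure (Y G m)) {r : ℕ} (hr : r.Prime) (hrm : ¬ r ∣ m) (i : ℕ) :
    (Cn (g ^ r ^ i)) = Cn g := by
  refine le_antisymm (fun w hw => ?_) (cent_le_pow g _)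
  obtain ⟨e, n', hn', hgi⟩ := Nat.exists_eq_pow_mul_and_not_dvd (orderOf_pos g).ne' r hr.ne_one
  have hqn : (r ^ i).Coprime n' := Nat.Coprime.pow_left _ (hr.coprime_iff_not_dvd.mpr hn')
  have hcen : g ^ n' ∈ Subgroup.center G := by
    refine M_center H (Subgroup.pow_mem _ hg n') (k := r ^ e) ?_ (Nat.Coprime.pow_left _ (hr.coprime_iff_not_dvd.mpr hrm))
    rw [← pow_mul, mul_comm, ← hgi, pow_orderOf_eq_one]
  have h1 : Commute w (g ^ r ^ i) := mem_cent.mp hw
  have h2 : Commute w (g ^ n') := Subgroup.mem_center_iff.mp hcen w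
  obtain ⟨u, v, huv⟩ := (Nat.isCoprime_iff_coprime.mpr hqn : IsCoprime ((r ^ i : ℕ) : ℤ) (n' : ℤ))
  have h3 : g = (g ^ r ^ i) ^ u * (g ^ n') ^ v := by
    rw [← zpow_natCast g (r ^ i), ← zpow_natCast g n', ← zpow_mul, ← zpow_mul, ← zpow_add,
      mul_comm ((r ^ i : ℕ) : ℤ) u, mul_comm (n' : ℤ) v, huv, zpow_one]
  apply mem_cent.mpr
  rw [h3]
  exact ((h1.zpow_right u).mul_right (h2.zpow_right v)).eq

include H in
theorem x_r_central {r : ℕ} (hr : r.Prime) (hrn : r ∣ n) {u : G} (hu : u ∈ Cn x) {i : ℕ}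
    (hord : orderOf u = r ^ i) : u ∈ Subgroup.center G := by
  have hrm : ¬ r ∣ m := fun hd => hr.ne_one (Nat.eq_one_of_dvd_coprimes H.hcop hd hrn)
  obtain ⟨e, n', hn', hxi⟩ := Nat.exists_eq_pow_mul_and_not_dvd (orderOf_pos x).ne' r hr.ne_one
  set x₀ := x ^ r ^ e with hx₀
  have hC : (Cn x₀) = Cn x := cent_pow_eq H (x_mem H) hr hrm e
  have hux0 : Commute u x := mem_cent.mp hu
  have hux : Commute x₀ u := hux0.symm.pow_left _
  have hco : (orderOf x₀).Coprime (orderOf u) := by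
    rw [hord, hx₀, orderOf_pow, hxi, Nat.gcd_eq_right (dvd_mul_right _ _), Nat.mul_div_cancel_left _ (pow_pos hr.pos e)]
    exact Nat.Coprime.pow_right _ ((hr.coprime_iff_not_dvd.mpr hn').symm)
  have hle := cent_mul_le hux hco
  have heq := min_x H ((hle.trans inf_le_left).trans hC.le)
  have hCu : (Cn x) ≤ Cn u := heq ▸ hle.trans inf_le_right
  have hcs : (cs u).Coprime m :=
    Nat.Coprime.coprime_dvd_left (H.hx ▸ Subgroup.index_dvd_of_le hCu) H.hcop.symm
  refine M_center H (Subgroup.subset_closure hcs) (k := r ^ i) (hord ▸ pow_orderOf_eq_one u) ?_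
  exact Nat.Coprime.pow_left _ (hr.coprime_iff_not_dvd.mpr hrm)

include H in
theorem y_r_central {y : G} (hy : cs y = m) {r : ℕ} (hr : r.Prime) (hrn : ¬ r ∣ n) {u : G} (hu : u ∈ Cn y)
    {i : ℕ} (hord : orderOf u = r ^ i) : u ∈ Subgroup.center G := by
  by_contra hunz
  have : Fact r.Prime := ⟨hr⟩
  obtain ⟨t, ht, htn⟩ := Nat.exists_prime_and_dvd H.hn.ne'
  have : Fact t.Prime := ⟨ht⟩
  obtain ⟨z, ⟨j, hz⟩, hzy⟩ := exists_t H hy t htn
  have hzm : cs z = m := by
    show Subgroup.index (Cn z) = m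
    rw [hzy]; exact hy
  have hzu : Commute u z := mem_cent.mp (hzy.ge hu)
  have hco : (orderOf u).Coprime (orderOf z) := by
    rw [hord, hz]
    exact Nat.Coprime.pow _ _ ((Nat.coprime_primes hr ht).mpr fun e => hrn (e ▸ htn))
  have hle := cent_mul_le hzu hco
  have heq := min_y H hzm (hle.trans inf_le_right)
  have hAu : (Cn z) ≤ Cn u := heq ▸ hle.trans inf_le_left
  have hum : cs u = m := cs_eq_m H
    (Nat.Coprime.coprime_dvd_left (hzm ▸ Subgroup.index_dvd_of_le hAu) H.hcop) hunz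
  have hCu : (Cn u) = Cn y := ((min_y H hum hAu).symm.trans hzy)
  -- a non-central component of `x`
  have hxnz : x ∉ Subgroup.center G := fun h => by
    have := cs_eq_one h; rw [H.hx] at this; have := H.hn; omega
  obtain ⟨k, q, e, hq, hw, hwnz⟩ : ∃ k q e : ℕ, q.Prime ∧ orderOf (x ^ k) = q ^ e ∧ x ^ k ∉ Subgroup.center G := by
    by_contra hcon
    push Not at hcon
    exact hxnz (mem_of_primePow _ x hcon)
  have : Fact q.Prime := ⟨hq⟩
  by_cases hqr : q = r
  · subst hqr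
    have hLn : (⁅Subgroup.closure (Y G m), (⊤ : Subgroup G)⁆).Normal := by
      have := closure_normal (Y_conj (G := G) (m := m))
      exact Subgroup.commutator_normal _ _
    set L := ⁅Subgroup.closure (Y G m), (⊤ : Subgroup G)⁆ with hL
    obtain ⟨g, hg⟩ : ∃ g : G, g * x ^ k * g⁻¹ * (x ^ k)⁻¹ ≠ 1 := by
      by_contra hcon
      push Not at hcon
      refine hwnz (Subgroup.mem_center_iff.mpr fun g => ?_)
      have := hcon g
      rwa [mul_inv_eq_one, mul_inv_eq_iff_eq_mul] at this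
    set h := g * x ^ k * g⁻¹ * (x ^ k)⁻¹ with hh
    have hxk : x ^ k ∈ Subgroup.closure (Y G m) := Subgroup.pow_mem _ (x_mem H) k
    have hgx : g * x ^ k * g⁻¹ ∈ Subgroup.closure (Y G m) :=
      (closure_normal (Y_conj (G := G) (m := m))).conj_mem _ hxk g
    have hhL : h ∈ L := comm_mem _ hxk g
    have hhq : h ^ q ^ e = 1 := by
      rw [hh, (Commute.inv_right (show Commute (g * x ^ k * g⁻¹) (x ^ k) from M_comm H hgx hxk)).mul_pow,
        inv_pow, conj_pow, ← hw, pow_orderOf_eq_one]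
      simp
    obtain ⟨P⟩ : Nonempty (Sylow q L) := inferInstance
    have hrL : q ∣ Nat.card L := by
      obtain ⟨d, hd, hd'⟩ := (Nat.dvd_prime_pow hq).mp (orderOf_dvd_of_pow_eq_one hhq)
      rcases Nat.eq_zero_or_pos d with h0 | h0
      · exact absurd (orderOf_eq_one_iff.mp (by rw [hd', h0, pow_zero])) hg
      · exact (dvd_pow_self q h0.ne').trans (hd' ▸ Subgroup.orderOf_dvd_natCard _ hhL)
    let R : Subgroup G :=
      { carrier := {l | l ∈ L ∧ ∃ d : ℕ, l ^ q ^ d = 1}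
        one_mem' := ⟨L.one_mem, 0, one_pow _⟩
        mul_mem' := by
          rintro a b ⟨ha, i, hi⟩ ⟨hb, j, hj⟩
          have hab : Commute a b := by
            have hLM : L ≤ Subgroup.closure (Y G m) := by
              have := closure_normal (Y_conj (G := G) (m := m))
              exact Subgroup.commutator_le_left _ _
            exact M_comm H (hLM ha) (hLM hb)
          refine ⟨L.mul_mem ha hb, i + j, ?_⟩
          rw [hab.mul_pow, pow_add, pow_mul, hi, one_pow, one_mul, mul_comm (q ^ i), pow_mul, hj, one_pow]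
        inv_mem' := by
          rintro a ⟨ha, i, hi⟩
          exact ⟨L.inv_mem ha, i, by rw [inv_pow, hi, inv_one]⟩ }
    have hRinv : ∀ (c : G) (l : G), l ∈ R → c * l * c⁻¹ ∈ R := by
      rintro c l ⟨hl, d, hd⟩
      refine ⟨hLn.conj_mem l hl _, d, ?_⟩
      rw [conj_pow, hd, mul_one, mul_inv_cancel]
    let _ : MulAction (Subgroup.zpowers u) R :=
      { smul := fun c l => ⟨(c : G) * (l : G) * (c : G)⁻¹, hRinv c l l.2⟩
        one_smul := fun l => Subtype.ext (show (1 : G) * (l : G) * (1 : G)⁻¹ = l by group)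
        mul_smul := fun a b l => Subtype.ext (show ((a : G) * b) * (l : G) * ((a : G) * b)⁻¹ =
          (a : G) * ((b : G) * (l : G) * (b : G)⁻¹) * (a : G)⁻¹ by group) }
    have hpg : IsPGroup q (Subgroup.zpowers u) :=
      IsPGroup.of_card (n := i) (by rw [Nat.card_zpowers, hord])
    have hRdvd : q ∣ Nat.card R := by
      obtain ⟨d, hd, hd'⟩ := (Nat.dvd_prime_pow hq).mp (orderOf_dvd_of_pow_eq_one hhq)
      rcases Nat.eq_zero_or_pos d with h0 | h0
      · exact absurd (orderOf_eq_one_iff.mp (by rw [hd', h0, pow_zero])) hg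
      · exact (dvd_pow_self q h0.ne').trans (hd' ▸ Subgroup.orderOf_dvd_natCard _ (show h ∈ R from ⟨hhL, e, hhq⟩))
    have hone : (1 : R) ∈ MulAction.fixedPoints (Subgroup.zpowers u) R :=
      fun c => Subtype.ext (show (c : G) * 1 * (c : G)⁻¹ = 1 by group)
    obtain ⟨l, hlfix, hlne⟩ := hpg.exists_fixed_point_of_prime_dvd_card_of_fixed_point R hRdvd hone
    have hfix : u * (l : G) * u⁻¹ = l := congrArg Subtype.val (hlfix ⟨u, Subgroup.mem_zpowers u⟩)
    refine hlne (Subtype.ext (L_fix H hy l.2.1 (hCu.le (mem_cent.mpr ?_))).symm)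
    rw [mul_inv_eq_iff_eq_mul] at hfix
    exact hfix.symm
  · have hrx : ¬ r ∣ cs x := by rw [H.hx]; exact hrn
    obtain ⟨T, hT⟩ := exists_sylow_le (p := r) (H := Cn x) hrx
    have hpg : IsPGroup r (Subgroup.zpowers u) :=
      IsPGroup.of_card (n := i) (by rw [Nat.card_zpowers, hord])
    obtain ⟨S, hS⟩ := hpg.exists_le_sylow
    obtain ⟨c, hc⟩ := MulAction.exists_smul_eq G S T
    set u' := c * u * c⁻¹ with hu'
    have hu'x : u' ∈ Cn x := by
      refine hT ?_
      rw [← hc, Sylow.coe_subgroup_smul]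
      exact ⟨u, hS (Subgroup.mem_zpowers u), rfl⟩
    have hu'm : cs u' = m := by rw [hu', cs_conj, hum]
    have hcw0 : Commute u' x := mem_cent.mp hu'x
    have hcw : Commute u' (x ^ k) := hcw0.pow_right k
    have hco' : (orderOf u').Coprime (orderOf (x ^ k)) := by
      rw [hw, hu', show c * u * c⁻¹ = MulAut.conj c u from rfl, MulEquiv.orderOf_eq, hord]
      exact Nat.Coprime.pow _ _ ((Nat.coprime_primes hr hq).mpr fun e => hqr e.symm)
    have hle' := cent_mul_le hcw hco'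
    have heq' := min_y H hu'm (hle'.trans inf_le_left)
    have hd1 : cs (x ^ k) ∣ m := hu'm ▸ Subgroup.index_dvd_of_le (heq' ▸ hle'.trans inf_le_right)
    have hd2 : cs (x ^ k) ∣ n := H.hx ▸ Subgroup.index_dvd_of_le (cent_le_pow x k)
    exact hwnz (mem_center_of_cs (Nat.eq_one_of_dvd_coprimes H.hcop hd1 hd2))

include H in
theorem inf_center {y : G} (hy : cs y = m) {g : G} (h1 : g ∈ Cn x) (h2 : g ∈ Cn y) :
    g ∈ Subgroup.center G := by
  refine mem_of_primePow _ g fun k r i hr hord => ?_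
  by_cases hrn : r ∣ n
  · exact x_r_central H hr hrn (Subgroup.pow_mem _ h1 k) hord
  · exact y_r_central H hy hr hrn (Subgroup.pow_mem _ h2 k) hord

include H in
theorem center_index : (Subgroup.center G).index = n * m := by
  obtain ⟨y, hy⟩ := H.hex
  have he : (Cn x) ⊓ (Cn y) = Subgroup.center G := by
    refine le_antisymm (fun g hg => inf_center H hy hg.1 hg.2) fun g hg => ⟨?_, ?_⟩
    · exact mem_cent.mpr (Subgroup.mem_center_iff.mp hg x).symm
    · exact mem_cent.mpr (Subgroup.mem_center_iff.mp hg y).symm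
  rw [← he, index_inf_eq (by rw [H.hx, hy]; exact H.hcop.symm), H.hx, hy]

include H in
theorem cs_m_of_primePow {z : G} (hz : z ∉ Subgroup.center G) {r : ℕ} (hr : r.Prime) (hrn : r ∣ n) {i : ℕ}
    (hord : orderOf z = r ^ i) : cs z = m := by
  have hrm : ¬ r ∣ m := fun hd => hr.ne_one (Nat.eq_one_of_dvd_coprimes H.hcop hd hrn)
  set M := Subgroup.closure (Y G m) with hM
  have hMn : M.Normal := closure_normal Y_conj
  let ψ : M →* M := MonoidHom.mk'
    (fun a => ⟨z * (a : G) * z⁻¹ * (a : G)⁻¹, M.mul_mem (hMn.conj_mem _ a.2 z) (M.inv_mem a.2)⟩)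
    fun a b => by
      refine Subtype.ext ?_
      show z * ((a : G) * b) * z⁻¹ * ((a : G) * b)⁻¹ =
        z * (a : G) * z⁻¹ * (a : G)⁻¹ * (z * (b : G) * z⁻¹ * (b : G)⁻¹)
      have e : (z * (b : G) * z⁻¹ * (b : G)⁻¹) * (a : G)⁻¹ = (a : G)⁻¹ * (z * (b : G) * z⁻¹ * (b : G)⁻¹) :=
        M_comm H (M.mul_mem (hMn.conj_mem _ b.2 z) (M.inv_mem b.2)) (M.inv_mem a.2)
      calc z * ((a : G) * b) * z⁻¹ * ((a : G) * b)⁻¹
          = z * (a : G) * z⁻¹ * ((z * (b : G) * z⁻¹ * (b : G)⁻¹) * (a : G)⁻¹) := by group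
        _ = _ := by rw [e]; group
  have hψ : ∀ a : M, a ∈ ψ.ker → z * (a : G) = (a : G) * z := by
    intro a ha
    have h1 : z * (a : G) * z⁻¹ * (a : G)⁻¹ = 1 := congrArg Subtype.val (MonoidHom.mem_ker.mp ha)
    rwa [mul_inv_eq_one, mul_inv_eq_iff_eq_mul] at h1
  have hzi : z ^ r ^ i = 1 := hord ▸ pow_orderOf_eq_one z
  have hdis : Disjoint ψ.ker ψ.range := by
    rw [Subgroup.disjoint_def]
    rintro e he ⟨a, rfl⟩
    have hez : Commute z ((ψ a : M) : G) := hψ _ he
    have hpow : ∀ j : ℕ, z ^ j * (a : G) * (z ^ j)⁻¹ = ((ψ a : M) : G) ^ j * (a : G) := by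
      intro j
      induction j with
      | zero => simp
      | succ j ih =>
        have e1 : z * (a : G) * z⁻¹ = ((ψ a : M) : G) * (a : G) := by
          show z * (a : G) * z⁻¹ = z * (a : G) * z⁻¹ * (a : G)⁻¹ * (a : G); group
        calc z ^ (j + 1) * (a : G) * (z ^ (j + 1))⁻¹ = z * (z ^ j * (a : G) * (z ^ j)⁻¹) * z⁻¹ := by
              rw [pow_succ']; group
          _ = (z * ((ψ a : M) : G) ^ j * z⁻¹) * (z * (a : G) * z⁻¹) := by rw [ih]; group
          _ = ((ψ a : M) : G) ^ j * (((ψ a : M) : G) * (a : G)) := by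
              rw [(hez.pow_right j).eq, mul_inv_cancel_right, e1]
          _ = _ := by rw [← mul_assoc, pow_succ]
    have h1 := hpow (r ^ i)
    rw [hzi, one_mul, inv_one, mul_one] at h1
    have h2 : ((ψ a : M) : G) ^ r ^ i = 1 := mul_eq_right.mp h1.symm
    have h3 : ((ψ a : M) : G) ^ m = 1 := orderOf_dvd_iff_pow_eq_one.mp
      ((Subgroup.orderOf_dvd_natCard _ (comm_mem M a.2 z)).trans (L_dvd H))
    have h4 := pow_gcd_eq_one.mpr ⟨h2, h3⟩
    rw [Nat.Coprime.pow_left _ (hr.coprime_iff_not_dvd.mpr hrm), pow_one] at h4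
    exact Subtype.ext h4
  have hcompl : Subgroup.IsComplement' ψ.ker ψ.range :=
    Subgroup.isComplement'_of_card_mul_and_disjoint (by rw [← Subgroup.index_ker, Subgroup.card_mul_index]) hdis
  obtain ⟨⟨⟨l₀, hl₀⟩, ⟨l₁, hl₁⟩⟩, hl⟩ := hcompl.2 ⟨x, x_mem H⟩
  have hxl : x = (l₀ : G) * (l₁ : G) := (congrArg Subtype.val hl).symm
  have hzl₀ : Commute z (l₀ : G) := hψ _ hl₀
  -- the centraliser `D` of `z * l₀`
  set D := (Cn z) ⊓ Cn (l₀ : G) with hD
  have hCzl : (Cn (z * (l₀ : G))) ≤ D := by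
    intro c hc
    have hc1 : Commute c (z * (l₀ : G)) := mem_cent.mp hc
    have h2 := hc1.pow_right (r ^ i)
    rw [hzl₀.mul_pow, hzi, one_mul] at h2
    have h3 : Commute c (l₀ : G) := mem_cent.mp ((cent_pow_eq H l₀.2 hr hrm i).le (mem_cent.mpr h2))
    refine ⟨mem_cent.mpr ?_, mem_cent.mpr h3⟩
    have := hc1.mul_right h3.inv_right
    rwa [mul_inv_cancel_right] at this
  have hdvd : Subgroup.index D ∣ cs (z * (l₀ : G)) := Subgroup.index_dvd_of_le hCzl
  set E := D ⊓ Cn x with hE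
  have hKinv : ∀ d : D, ∀ a : M, a ∈ ψ.range → (⟨(d : G) * a * (d : G)⁻¹, hMn.conj_mem _ a.2 _⟩ : M) ∈ ψ.range := by
    rintro d a ⟨b, rfl⟩
    refine ⟨⟨(d : G) * b * (d : G)⁻¹, hMn.conj_mem _ b.2 _⟩, Subtype.ext ?_⟩
    have hdz : Commute (d : G) z := mem_cent.mp d.2.1
    show z * ((d : G) * b * (d : G)⁻¹) * z⁻¹ * ((d : G) * b * (d : G)⁻¹)⁻¹ =
      (d : G) * (z * (b : G) * z⁻¹ * (b : G)⁻¹) * (d : G)⁻¹
    calc z * ((d : G) * b * (d : G)⁻¹) * z⁻¹ * ((d : G) * b * (d : G)⁻¹)⁻¹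
        = (z * (d : G)) * b * ((z * (d : G))⁻¹) * (d : G) * (b : G)⁻¹ * (d : G)⁻¹ := by group
      _ = ((d : G) * z) * b * (((d : G) * z)⁻¹) * (d : G) * (b : G)⁻¹ * (d : G)⁻¹ := by rw [hdz.eq]
      _ = _ := by group
  -- the orbit of `l₁`
  let f : D → M := fun d => ⟨(d : G) * (l₁ : G) * (d : G)⁻¹, hMn.conj_mem _ l₁.2 _⟩
  have horb : (Set.range f).ncard = E.relIndex D := by
    refine ncard_range_eq_index (E.subgroupOf D) f fun a b => ?_
    rw [Subgroup.mem_subgroupOf, Subtype.ext_iff]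
    show (a : G) * (l₁ : G) * (a : G)⁻¹ = (b : G) * (l₁ : G) * (b : G)⁻¹ ↔ (a : G)⁻¹ * (b : G) ∈ E
    rw [conj_eq_iff, hE, Subgroup.mem_inf]
    have hD' : (a : G)⁻¹ * (b : G) ∈ D := D.mul_mem (D.inv_mem a.2) b.2
    have hl0 : Commute ((a : G)⁻¹ * (b : G)) (l₀ : G) := mem_cent.mp hD'.2
    constructor
    · intro h
      exact ⟨hD', mem_cent.mpr (hxl ▸ hl0.mul_right (mem_cent.mp h))⟩
    · rintro ⟨-, h⟩
      have h1 : Commute ((a : G)⁻¹ * (b : G)) x := mem_cent.mp h
      have h2 := hl0.inv_right.mul_right h1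
      rw [hxl, inv_mul_cancel_left] at h2
      exact mem_cent.mpr h2
  have hzD : z ∈ D := ⟨mem_cent.mpr rfl, mem_cent.mpr hzl₀.eq⟩
  have hl₁ne : (l₁ : G) ≠ 1 := by
    intro h1
    rw [h1, mul_one] at hxl
    exact hz (x_r_central H hr hrn (mem_cent.mpr (hxl ▸ hzl₀.eq)) hord)
  have hlt : E.relIndex D < Nat.card ψ.range := by
    rw [← horb]
    have hc' : Nat.card ψ.range = (ψ.range : Set M).ncard := Nat.card_coe_set_eq _
    rw [hc']
    refine Set.ncard_lt_ncard ?_
    refine (Set.ssubset_iff_of_subset ?_).mpr ⟨1, Subgroup.one_mem _, ?_⟩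
    · rintro _ ⟨d, rfl⟩
      exact hKinv d l₁ hl₁
    · rintro ⟨d, hd⟩
      have h1 : (d : G) * (l₁ : G) * (d : G)⁻¹ = 1 := congrArg Subtype.val hd
      exact hl₁ne (conj_eq_one_iff.mp h1)
  have hME : Nat.card ψ.range ≤ E.relIndex (Cn x) := by
    have h1 : (E ⊓ M).relIndex M ≤ E.relIndex (Cn x) := by
      rw [Subgroup.inf_relIndex_right]
      refine Nat.le_of_dvd (Nat.pos_of_ne_zero Subgroup.index_ne_zero_of_finite) ?_
      have hMx : M ≤ Cn x := fun a ha => mem_cent.mpr (M_comm H ha (x_mem H))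
      have : (M.subgroupOf (Cn x)).Normal := inferInstance
      have h2 := relIndex_dvd_index (E.subgroupOf (Cn x)) (M.subgroupOf (Cn x))
      rwa [Subgroup.relIndex_subgroupOf hMx] at h2
    refine le_trans (le_of_eq ?_) h1
    rw [← Subgroup.index_ker]
    show ψ.ker.index = ((E ⊓ M).subgroupOf M).index
    congr 1
    ext a
    rw [Subgroup.mem_subgroupOf, Subgroup.mem_inf, hE, hD, Subgroup.mem_inf, Subgroup.mem_inf]
    constructor
    · intro ha
      exact ⟨⟨⟨mem_cent.mpr (hψ a ha).symm, mem_cent.mpr (M_comm H a.2 l₀.2)⟩,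
        mem_cent.mpr (M_comm H a.2 (x_mem H))⟩, a.2⟩
    · rintro ⟨⟨⟨h1, -⟩, -⟩, -⟩
      refine MonoidHom.mem_ker.mpr (Subtype.ext ?_)
      show z * (a : G) * z⁻¹ * (a : G)⁻¹ = 1
      rw [← mem_cent.mp h1]; group
  have hbig : n < Subgroup.index D := by
    have e1 := Subgroup.relIndex_mul_index (inf_le_left : E ≤ D)
    have e2 := Subgroup.relIndex_mul_index (inf_le_right : E ≤ Cn x)
    have hxn : Subgroup.index (Cn x) = n := H.hx
    rw [hxn] at e2
    have hn0 : 0 < n := by have := H.hn; omega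
    have hd0 : 0 < E.relIndex D := Nat.pos_of_ne_zero Subgroup.index_ne_zero_of_finite
    by_contra hle
    push Not at hle
    have h3 : E.relIndex D * Subgroup.index D < E.relIndex (Cn x) * n :=
      calc E.relIndex D * Subgroup.index D ≤ E.relIndex D * n := Nat.mul_le_mul_left _ hle
        _ < Nat.card ψ.range * n := Nat.mul_lt_mul_of_pos_right hlt hn0
        _ ≤ _ := Nat.mul_le_mul_right _ hME
    rw [e1, ← e2] at h3
    exact lt_irrefl _ h3
  have hcm : cs (z * (l₀ : G)) = m := by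
    by_contra hne
    have := H.hsecond _ (lt_of_le_of_ne (H.htop _) hne)
    have := Nat.le_of_dvd (cs_pos _) hdvd
    omega
  refine cs_eq_m H (Nat.Coprime.coprime_dvd_left ?_ H.hcop) hz
  exact hcm ▸ Subgroup.index_dvd_of_le (hCzl.trans inf_le_left)

include H in
theorem mem_M_of_primePow {v : G} {r : ℕ} (hr : r.Prime) (hrn : ¬ r ∣ n) {i : ℕ} (hord : orderOf v = r ^ i) :
    v ∈ Subgroup.closure (Y G m) := by
  by_cases hvZ : v ∈ Subgroup.center G
  · exact Subgroup.subset_closure (show (cs v).Coprime m by rw [cs_eq_one hvZ]; exact Nat.coprime_one_left m)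
  refine Subgroup.subset_closure (show (cs v).Coprime m from ?_)
  by_cases hvm : cs v = m
  · exact absurd (y_r_central H hvm hr hrn (mem_cent.mpr rfl) hord) hvZ
  have hle := H.hsecond v (lt_of_le_of_ne (H.htop v) hvm)
  by_cases hnd : n ∣ cs v
  · rw [le_antisymm hle (Nat.le_of_dvd (cs_pos v) hnd)]
    exact H.hcop.symm
  exfalso
  obtain ⟨q, e, hq, hqe, hqv⟩ : ∃ q e : ℕ, q.Prime ∧ q ^ e ∣ n ∧ ¬ q ^ e ∣ cs v := by
    by_contra hcon
    push Not at hcon
    exact hnd ((Nat.dvd_iff_prime_pow_dvd_dvd (cs v) n).mpr hcon)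
  have : Fact q.Prime := ⟨hq⟩
  have hqn : q ∣ n := by
    rcases Nat.eq_zero_or_pos e with h0 | h0
    · exact absurd (by rw [h0, pow_zero]; exact one_dvd _) hqv
    · exact (dvd_pow_self q h0.ne').trans hqe
  obtain ⟨w, hwv, hwZ, j, hwj⟩ : ∃ w ∈ Cn v, w ∉ Subgroup.center G ∧ ∃ j, orderOf w = q ^ j := by
    by_contra hcon
    push Not at hcon
    obtain ⟨S⟩ : Nonempty (Sylow q (Cn v)) := inferInstance
    have hS : ((S : Subgroup (Cn v)).map (Cn v).subtype) ≤ Subgroup.center G := by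
      rintro _ ⟨w, hw, rfl⟩
      by_contra hwc
      obtain ⟨j, hj⟩ := IsPGroup.iff_orderOf.mp S.2 ⟨w, hw⟩
      rw [Subgroup.orderOf_mk, ← Subgroup.orderOf_coe] at hj
      exact hcon _ w.2 hwc j hj
    have h1 := Subgroup.index_dvd_of_le hS
    rw [Subgroup.index_map_subtype, center_index H] at h1
    have hcop1 : (q ^ e).Coprime (S : Subgroup (Cn v)).index :=
      Nat.Coprime.pow_left _ (hq.coprime_iff_not_dvd.mpr S.not_dvd_index)
    exact hqv (hcop1.dvd_of_dvd_mul_left ((dvd_mul_of_dvd_left hqe m).trans h1))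
  have hwm := cs_m_of_primePow H hwZ hq hqn hwj
  exact hvZ (y_r_central H hwm hr hrn (mem_cent.mpr (mem_cent.mp hwv).symm) hord)

include H in
theorem main {y : G} (hy : cs y = m) :
    IsMulCommutative (Cn x) ∧ IsMulCommutative (Cn y) ∧
    Cfsg.IsFrobeniusComplement ((Cn y).map (QuotientGroup.mk' (Subgroup.center G))) ∧
    Cfsg.frobeniusKernel ((Cn y).map (QuotientGroup.mk' (Subgroup.center G))) =
      ((Cn x).map (QuotientGroup.mk' (Subgroup.center G)) : Set (G ⧸ Subgroup.center G)) := by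
  set M := Subgroup.closure (Y G m) with hM
  have hMn : M.Normal := closure_normal Y_conj
  have hMx : (Cn x) = M := by
    refine le_antisymm (fun g hg => mem_of_primePow _ g fun k r i hr hord => ?_)
      fun a ha => mem_cent.mpr (M_comm H ha (x_mem H))
    by_cases hrn : r ∣ n
    · exact Subgroup.subset_closure (show (cs (g ^ k)).Coprime m by
        rw [cs_eq_one (x_r_central H hr hrn (Subgroup.pow_mem _ hg k) hord)]; exact Nat.coprime_one_left m)
    · exact mem_M_of_primePow H hr hrn hord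
  have hinf : ∀ w' : G, cs w' = m → ∀ g : G, g ∈ M → g ∈ (Cn w') → g ∈ Subgroup.center G :=
    fun w' hw' g h1 h2 => inf_center H hw' (hMx.ge h1) h2
  have hprod : ∀ {y' : G}, cs y' = m → ∀ g : G, ∃ a ∈ M, ∃ b ∈ Cn y', g = a * b := by
    intro y' hy' g
    obtain ⟨d, h1, h2⟩ := exists_conj_pair (a := x) (b := y') (by rw [H.hx, hy']; exact H.hcop.symm)
      (self_mem_cls x) (show g * y' * g⁻¹ ∈ cls y' from ⟨g, rfl⟩)
    refine ⟨d, hMx.le (mem_cent.mpr (mul_inv_eq_iff_eq_mul.mp h1)), d⁻¹ * g, ?_, by group⟩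
    exact conj_eq_iff.mp h2
  have habelA : ∀ a ∈ Cn y, ∀ w ∈ Cn y, a * w = w * a := by
    intro a ha w hw
    refine (mem_cent.mp (mem_of_primePow (Cn a) w (fun k r i hr hord => mem_cent.mpr ?_))).symm
    set u := w ^ k with hu
    have huy : u ∈ Cn y := Subgroup.pow_mem _ hw k
    by_cases huZ : u ∈ Subgroup.center G
    · exact (Subgroup.mem_center_iff.mp huZ a).symm
    have hrn : r ∣ n := by_contra fun hrn => huZ (y_r_central H hy hr hrn huy hord)
    have hum := cs_m_of_primePow H huZ hr hrn hord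
    obtain ⟨c, hc, b, hb, rfl⟩ := hprod hum a
    have hbu : Commute b u := mem_cent.mp hb
    have hl : c * u * c⁻¹ * u⁻¹ ∈ ⁅M, (⊤ : Subgroup G)⁆ := by
      have : c * u * c⁻¹ * u⁻¹ = (u * c * u⁻¹ * c⁻¹)⁻¹ := by group
      rw [this]
      exact Subgroup.inv_mem _ (comm_mem M hc u)
    have e : (c * b) * u * (c * b)⁻¹ = c * u * c⁻¹ := by
      calc (c * b) * u * (c * b)⁻¹ = c * (b * u) * b⁻¹ * c⁻¹ := by group
        _ = c * (u * b) * b⁻¹ * c⁻¹ := by rw [hbu.eq]
        _ = _ := by group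
    have h1 : c * u * c⁻¹ * u⁻¹ = 1 := by
      refine L_fix H hy hl ?_
      rw [← e]
      exact Subgroup.mul_mem _ (Subgroup.mul_mem _ (Subgroup.mul_mem _ ha huy) (Subgroup.inv_mem _ ha))
        (Subgroup.inv_mem _ huy)
    rw [← e, mul_inv_eq_one, mul_inv_eq_iff_eq_mul] at h1
    exact h1.symm
  refine ⟨IsMulCommutative.mk ⟨fun a b => Subtype.ext (M_comm H (hMx.le a.2) (hMx.le b.2))⟩,
    IsMulCommutative.mk ⟨fun a b => Subtype.ext (habelA a a.2 b b.2)⟩, ?_⟩
  rw [hMx]
  set π := QuotientGroup.mk' (Subgroup.center G) with hπ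
  have hπs : Function.Surjective π := QuotientGroup.mk'_surjective _
  have hKn : (M.map π).Normal := hMn.map π hπs
  have hmem : ∀ (K : Subgroup G) (g : G), π g ∈ K.map π → g ∈ K ⊔ Subgroup.center G := by
    intro K g hg
    obtain ⟨c, hc, hcg⟩ := hg
    obtain ⟨z, hz, rfl⟩ := (QuotientGroup.mk'_eq_mk' _).mp hcg
    exact Subgroup.mul_mem_sup hc hz
  have hcenA : Subgroup.center G ≤ Cn y := fun z hz => mem_cent.mpr (Subgroup.mem_center_iff.mp hz y).symm
  have hdisj : Disjoint (M.map π) ((Cn y).map π) := by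
    rw [Subgroup.disjoint_def]
    rintro q ⟨a, ha, rfl⟩ hq
    have := hmem _ a hq
    rw [sup_eq_left.mpr hcenA] at this
    exact (QuotientGroup.eq_one_iff a).mpr (hinf _ hy _ ha this)
  have hcompl : Subgroup.IsComplement' (M.map π) ((Cn y).map π) := by
    refine Subgroup.isComplement'_of_disjoint_and_mul_eq_univ hdisj ?_
    refine Set.eq_univ_of_forall fun q => ?_
    obtain ⟨g, rfl⟩ := hπs q
    obtain ⟨a, ha, b, hb, rfl⟩ := hprod hy g
    exact ⟨π a, ⟨a, ha, rfl⟩, π b, ⟨b, hb, rfl⟩, (map_mul π a b).symm⟩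
  have hKbot : M.map π ≠ ⊥ := by
    intro h
    rw [Subgroup.map_eq_bot_iff, QuotientGroup.ker_mk'] at h
    have := cs_eq_one (h (x_mem H))
    rw [H.hx] at this
    have := H.hn
    omega
  have hHbot : (Cn y).map π ≠ ⊥ := by
    intro h
    rw [Subgroup.map_eq_bot_iff, QuotientGroup.ker_mk'] at h
    have h1 := cs_eq_one (h (mem_cent.mpr rfl : y ∈ Cn y))
    rw [hy] at h1
    have := H.hn
    have := H.hmn
    omega
  have hFC : Cfsg.IsFrobeniusComplement ((Cn y).map π) := by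
    refine Cfsg.Agent.FrobeniusBasic.isFrobeniusComplement_of_fpf hcompl hKbot hHbot ?_
    rintro _ ⟨b, hb, rfl⟩ hb1
    rw [Subgroup.eq_bot_iff_forall]
    rintro q ⟨⟨a, ha, rfl⟩, hq⟩
    have he : π a * π b = π b * π a := mem_cent (G := G ⧸ Subgroup.center G).mp hq
    refine (QuotientGroup.eq_one_iff a).mpr ?_
    have hz : b * a * b⁻¹ * a⁻¹ ∈ Subgroup.center G := by
      rw [← QuotientGroup.eq_one_iff]
      show π (b * a * b⁻¹ * a⁻¹) = 1
      rw [map_mul, map_mul, map_mul, map_inv, map_inv, ← he]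
      group
    have h1 := L_fix H hy (comm_mem M ha b) (hcenA hz)
    rw [mul_inv_eq_one, mul_inv_eq_iff_eq_mul] at h1
    have hba : Commute a b := h1.symm
    -- a non-central prime power part of `b`
    have hbnz : b ∉ Subgroup.center G := fun h => hb1 ((QuotientGroup.eq_one_iff b).mpr h)
    obtain ⟨k, r, i, hr, hord, hw⟩ : ∃ k r i : ℕ, r.Prime ∧ orderOf (b ^ k) = r ^ i ∧ b ^ k ∉ Subgroup.center G := by
      by_contra hcon
      push Not at hcon
      exact hbnz (mem_of_primePow _ b hcon)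
    have hby : b ^ k ∈ Cn y := Subgroup.pow_mem _ hb k
    have hrn : r ∣ n := by_contra fun hrn => hw (y_r_central H hy hr hrn hby hord)
    exact hinf _ (cs_m_of_primePow H hw hr hrn hord) _ ha (mem_cent.mpr (hba.pow_right k))
  exact ⟨hFC, Cfsg.Agent.FrobeniusBasic.frobeniusKernel_eq hFC hcompl⟩
/-- Let G be a finite group whose two largest conjugacy class sizes m > n > 1 are coprime, and let x, y ∈ G have classes of sizes n and m respectively. Then C_G(x) and C_G(y) are abelian, and G/Z(G) is a Frobenius group with kernel C_G(x)/Z(G) and complement C_G(y)/Z(G). -/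
theorem result {G : Type*} [Group G] [Finite G] (m n : ℕ) (hmn : n < m) (hn : 1 < n)
    (hcop : m.Coprime n) (htop : ∀ z : G, (Subgroup.centralizer ({z} : Set G)).index ≤ m) (hsecond : ∀ z : G, (Subgroup.centralizer ({z} : Set G)).index < m → (Subgroup.centralizer ({z} : Set G)).index ≤ n)
    (x y : G) (hx : (Subgroup.centralizer ({x} : Set G)).index = n) (hy : (Subgroup.centralizer ({y} : Set G)).index = m) :
    IsMulCommutative (Subgroup.centralizer ({x} : Set G)) ∧ IsMulCommutative (Subgroup.centralizer ({y} : Set G)) ∧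
    Cfsg.IsFrobeniusComplement ((Subgroup.centralizer ({y} : Set G)).map (QuotientGroup.mk' (Subgroup.center G))) ∧
    Cfsg.frobeniusKernel ((Subgroup.centralizer ({y} : Set G)).map (QuotientGroup.mk' (Subgroup.center G))) =
      ((Subgroup.centralizer ({x} : Set G)).map (QuotientGroup.mk' (Subgroup.center G)) : Set (G ⧸ Subgroup.center G)) := by
  exact main (x := x) ⟨hmn, hn, hcop, htop, hsecond, hx, ⟨y, hy⟩⟩ hy

end Cfsg.Agent.S4138
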