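import Cfsg.Statements.S4127
import Mathlib
import Cfsg.Agent.Lib.HallCore
import Cfsg.Agent.Lib.TransferPResidual

set_option autoImplicit false
open Cfsg

namespace Cfsg.Agent.S4127

open scoped Pointwise

theorem exists_parts {G : Type*} [Group G] [Finite G] {p : ℕ} [hp : Fact p.Prime] (u : G) :
    ∃ s z : G, u = s * z ∧ Commute s z ∧ (∃ k, orderOf s = p ^ k) ∧ Nat.Coprime (orderOf z) p := by
  obtain ⟨n, hn⟩ : ∃ n, orderOf u = n := ⟨_, rfl⟩
  have hn0 : n ≠ 0 := hn ▸ (orderOf_pos u).ne'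
  obtain ⟨a, ha⟩ : ∃ a, p ^ n.factorization p = a := ⟨_, rfl⟩
  obtain ⟨b, hb⟩ : ∃ b, n / a = b := ⟨_, rfl⟩
  have hab : a * b = n := by rw [← hb, ← ha]; exact Nat.ordProj_mul_ordCompl_eq_self n p
  have hpb : ¬ p ∣ b := by rw [← hb, ← ha]; exact Nat.not_dvd_ordCompl hp.out hn0
  have hcop : a.Coprime b := by rw [← hb, ← ha]; exact (Nat.coprime_ordCompl hp.out hn0).pow_left _
  have hbez : (1 : ℤ) = a * a.gcdA b + b * a.gcdB b := by
    rw [← Nat.gcd_eq_gcd_ab, hcop.gcd_eq_one]; rfl
  refine ⟨u ^ ((b : ℤ) * a.gcdB b), u ^ ((a : ℤ) * a.gcdA b), ?_, (Commute.refl u).zpow_zpow _ _, ?_, ?_⟩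
  · rw [← zpow_add, add_comm, ← hbez, zpow_one]
  · have hxa : (u ^ ((b : ℤ) * a.gcdB b)) ^ a = 1 := by
      rw [← zpow_natCast, ← zpow_mul, ← orderOf_dvd_iff_zpow_eq_one, hn, ← hab, Nat.cast_mul]
      exact ⟨a.gcdB b, by ring⟩
    obtain ⟨i, -, hi⟩ := (Nat.dvd_prime_pow hp.out).1 (ha ▸ orderOf_dvd_of_pow_eq_one hxa)
    rw [← ha]
    exact ⟨i, by rw [← hi, ha]⟩
  · have hyb : (u ^ ((a : ℤ) * a.gcdA b)) ^ b = 1 := by
      rw [← zpow_natCast, ← zpow_mul, ← orderOf_dvd_iff_zpow_eq_one, hn, ← hab, Nat.cast_mul]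
      exact ⟨a.gcdA b, by ring⟩
    exact Nat.Coprime.coprime_dvd_left (orderOf_dvd_of_pow_eq_one hyb)
      ((hp.out.coprime_iff_not_dvd.2 hpb).symm)

/-- A finite group is not covered by the conjugates of a proper subgroup. -/
theorem eq_top_of_conj_cover {G : Type*} [Group G] [Finite G] (T : Subgroup G)
    (h : ∀ u : G, ∃ c : G, c⁻¹ * u * c ∈ T) : T = ⊤ := by
  classical
  haveI := Fintype.ofFinite G
  let f : (G ⧸ T) × {t : T // t ≠ 1} → {g : G // g ≠ 1} := fun z =>
    ⟨z.1.out * ((z.2 : T) : G) * z.1.out⁻¹, fun he => z.2.2 (Subtype.ext (conj_eq_one_iff.1 he))⟩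
  have hf : Function.Surjective f := by
    rintro ⟨u, hu⟩
    obtain ⟨c, hc⟩ := h u
    obtain ⟨t, ht⟩ := QuotientGroup.mk_out_eq_mul T c
    have hmem : (c * (t : G))⁻¹ * u * (c * t) ∈ T := by
      have : (c * (t : G))⁻¹ * u * (c * t) = (t : G)⁻¹ * (c⁻¹ * u * c) * t := by group
      rw [this]; exact T.mul_mem (T.mul_mem (T.inv_mem t.2) hc) t.2
    refine ⟨((c : G ⧸ T), ⟨⟨_, hmem⟩, fun he => hu ?_⟩), Subtype.ext ?_⟩
    · have h1 := congrArg Subtype.val he
      have : u = (c * (t : G)) * ((c * (t : G))⁻¹ * u * (c * t)) * (c * (t : G))⁻¹ := by group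
      rw [this, show (c * (t : G))⁻¹ * u * (c * t) = 1 from h1]; group
    · simp only [f, ht]
      group
  have hcard := Nat.card_le_card_of_surjective f hf
  have h1 : ∀ (X : Type _) [Group X] [Fintype X], Nat.card {g : X // g ≠ 1} = Nat.card X - 1 := by
    intro X _ _
    rw [Nat.card_eq_fintype_card, Nat.card_eq_fintype_card]
    simp
  haveI := Fintype.ofFinite T
  rw [Nat.card_prod, h1 G, h1 T, ← Subgroup.index_eq_card, Nat.mul_sub, mul_one, T.index_mul_card] at hcard
  have hpos : 0 < T.index := Nat.pos_of_ne_zero T.index_ne_zero_of_finite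
  have hle : T.index ≤ Nat.card G := Nat.le_of_dvd Nat.card_pos (Subgroup.index_dvd_card T)
  exact Subgroup.index_eq_one.1 (by omega)

/-- If `p` divides no class size of a `p'`-element then `p`-elements and `p'`-elements commute. -/
theorem direct_factor {C : Type*} [Group C] [Finite C] {p : ℕ} [hp : Fact p.Prime]
    (hz : ∀ z : C, Nat.Coprime (orderOf z) p → ¬ p ∣ (Subgroup.centralizer ({z} : Set C)).index) :
    Cfsg.HasNormalPComplement p C ∧
      ∀ s z : C, (∃ k, orderOf s = p ^ k) → Nat.Coprime (orderOf z) p → Commute s z := by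
  obtain ⟨Q⟩ : Nonempty (Sylow p C) := inferInstance
  set T := (Q : Subgroup C) ⊔ Subgroup.centralizer ((Q : Subgroup C) : Set C) with hT
  have hTN : T ≤ Subgroup.normalizer ((Q : Subgroup C) : Set C) :=
    sup_le Subgroup.le_normalizer (Subgroup.centralizer_le_normalizer _)
  have key : ∀ s z : C, (∃ k, orderOf s = p ^ k) → Nat.Coprime (orderOf z) p → Commute s z →
      ∃ c : C, c⁻¹ * s * c ∈ (Q : Subgroup C) ∧ c⁻¹ * z * c ∈ Subgroup.centralizer ((Q : Subgroup C) : Set C) := by
    rintro s z ⟨k, hk⟩ hzc hsz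
    set D := Subgroup.centralizer ({z} : Set C) with hD
    have hsD : s ∈ D := Subgroup.mem_centralizer_singleton_iff.2 hsz.eq
    have hpg : IsPGroup p (Subgroup.zpowers (⟨s, hsD⟩ : D)) :=
      IsPGroup.of_card (n := k) (by rw [Nat.card_zpowers, Subgroup.orderOf_mk, hk])
    obtain ⟨S₀, hS₀⟩ := hpg.exists_le_sylow
    have hnd : ¬ p ∣ ((S₀ : Subgroup D).map D.subtype).index := by
      rw [Subgroup.index_map_subtype]
      intro h
      rcases hp.out.dvd_mul.1 h with h | h
      · exact S₀.not_dvd_index h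
      · exact hz z hzc h
    obtain ⟨c, hc⟩ := MulAction.exists_smul_eq C Q ((S₀.isPGroup'.map D.subtype).toSylow hnd)
    have hmem : ∀ y : C, y ∈ (S₀ : Subgroup D).map D.subtype ↔ c⁻¹ * y * c ∈ (Q : Subgroup C) := by
      intro y
      have e : (S₀ : Subgroup D).map D.subtype = ((c • Q : Sylow p C) : Subgroup C) := by rw [hc]; rfl
      rw [e, Sylow.coe_subgroup_smul, Subgroup.mem_pointwise_smul_iff_inv_smul_mem]
      simp only [MulAut.smul_def, ← map_inv, MulAut.conj_apply, inv_inv]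
    refine ⟨c, (hmem s).1 ⟨⟨s, hsD⟩, hS₀ (Subgroup.mem_zpowers _), rfl⟩, ?_⟩
    rw [Subgroup.mem_centralizer_iff]
    intro y hy
    have h1 : c * y * c⁻¹ ∈ D := by
      obtain ⟨w, -, hw⟩ := (hmem (c * y * c⁻¹)).2 ((show c⁻¹ * (c * y * c⁻¹) * c = y by group).symm ▸ hy)
      exact hw ▸ w.2
    have h2 := Subgroup.mem_centralizer_singleton_iff.1 h1
    calc y * (c⁻¹ * z * c) = c⁻¹ * ((c * y * c⁻¹) * z) * c := by group
      _ = c⁻¹ * (z * (c * y * c⁻¹)) * c := by rw [h2]
      _ = c⁻¹ * z * c * y := by group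
  have hTtop : T = ⊤ := by
    refine eq_top_of_conj_cover T fun u => ?_
    obtain ⟨s, z, rfl, hsz, hs, hzc⟩ := exists_parts (p := p) u
    obtain ⟨c, h1, h2⟩ := key s z hs hzc hsz
    refine ⟨c, ?_⟩
    rw [show c⁻¹ * (s * z) * c = (c⁻¹ * s * c) * (c⁻¹ * z * c) by group]
    exact T.mul_mem (Subgroup.mem_sup_left h1) (Subgroup.mem_sup_right h2)
  haveI hQn : (Q : Subgroup C).Normal := Subgroup.normalizer_eq_top_iff.1 (top_le_iff.1 (hTtop ▸ hTN))
  have hcomm : ∀ s z : C, (∃ k, orderOf s = p ^ k) → Nat.Coprime (orderOf z) p → Commute s z := by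
    intro s z hs hzc
    obtain ⟨c, -, h2⟩ := key 1 z ⟨0, by simp⟩ hzc (Commute.one_left z)
    have hz' : z ∈ Subgroup.centralizer ((Q : Subgroup C) : Set C) := by
      have := (inferInstance : (Subgroup.centralizer ((Q : Subgroup C) : Set C)).Normal).conj_mem _ h2 c
      simpa [mul_assoc] using this
    obtain ⟨k, hk⟩ := hs
    have hpg : IsPGroup p (Subgroup.zpowers s) := IsPGroup.of_card (n := k) (by rw [Nat.card_zpowers, hk])
    obtain ⟨S, hS⟩ := hpg.exists_le_sylow
    haveI := Sylow.unique_of_normal Q hQn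
    obtain rfl : S = Q := Subsingleton.elim _ _
    exact Subgroup.mem_centralizer_iff.1 hz' s (hS (Subgroup.mem_zpowers s))
  refine ⟨?_, hcomm⟩
  obtain ⟨A, hA⟩ := Subgroup.exists_right_complement'_of_coprime (N := (Q : Subgroup C)) Q.card_coprime_index
  have hAc : ∀ z ∈ A, Nat.Coprime (orderOf z) p := by
    intro z hzA
    refine Nat.Coprime.coprime_dvd_left (Subgroup.orderOf_dvd_natCard A hzA) ?_
    have h1 : Nat.card A = (Q : Subgroup C).index := hA.symm.index_eq_card.symm
    rw [h1]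
    exact (hp.out.coprime_iff_not_dvd.2 Q.not_dvd_index).symm
  have hAn : A.Normal := by
    rw [← Subgroup.normalizer_eq_top_iff, ← top_le_iff, ← hA.sup_eq_top]
    refine sup_le ?_ Subgroup.le_normalizer
    refine le_trans ?_ (Subgroup.centralizer_le_normalizer _)
    intro s hs
    rw [Subgroup.mem_centralizer_iff]
    intro z hzA
    obtain ⟨k, hk⟩ := IsPGroup.iff_orderOf.1 Q.isPGroup' ⟨s, hs⟩
    exact (hcomm s z ⟨k, by rw [← hk, Subgroup.orderOf_mk]⟩ (hAc z hzA)).eq.symm
  exact ⟨Q, A, hAn, hA.symm⟩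

/-- Let G be a finite group, p a prime and p^a the largest power of p dividing the size of any conjugacy class of G. If some element of p-power order has a conjugacy class of size exactly p^a, then G has a normal p-complement. -/
theorem result {G : Type*} [Group G] [Finite G] (p : ℕ) [Fact p.Prime]
    (a : ℕ) (hmax : ∀ y : G, ¬ p ^ (a + 1) ∣ (Subgroup.centralizer ({y} : Set G)).index)
    (hx : ∃ x : G, (∃ k : ℕ, orderOf x = p ^ k) ∧ (Subgroup.centralizer ({x} : Set G)).index = p ^ a) :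
    Cfsg.HasNormalPComplement p G := by
  classical
  have hp : p.Prime := Fact.out
  obtain ⟨x, ⟨kx, hkx⟩, hxi⟩ := hx
  set C := Subgroup.centralizer ({x} : Set G) with hCdef
  have hxC : x ∈ C := Subgroup.mem_centralizer_singleton_iff.2 rfl
  have hhyp : ∀ z : C, Nat.Coprime (orderOf z) p → ¬ p ∣ (Subgroup.centralizer ({z} : Set C)).index := by
    intro z hz hd
    have hc : Commute x (z : G) := (Subgroup.mem_centralizer_singleton_iff.1 z.2).symm
    rw [← Subgroup.orderOf_coe] at hz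
    have hcop : (orderOf (z : G)).Coprime (orderOf x) := hkx ▸ hz.pow_right kx
    have hle : Subgroup.centralizer ({x * (z : G)} : Set G) ≤ (Subgroup.centralizer ({z} : Set C)).map C.subtype := by
      intro y hy
      have hcy : Commute y (x * (z : G)) := Subgroup.mem_centralizer_singleton_iff.1 hy
      have hA : Commute y x := by
        obtain ⟨m, hm⟩ : ∃ m : ℕ, (x * (z : G)) ^ m = x := by
          obtain ⟨m, hm⟩ := Nat.chineseRemainder hcop.symm 1 0
          refine ⟨m, ?_⟩
          rw [hc.mul_pow, ← pow_mod_orderOf x m, show m % orderOf x = 1 % orderOf x from hm.1,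
            pow_mod_orderOf, pow_one, orderOf_dvd_iff_pow_eq_one.1 (Nat.modEq_zero_iff_dvd.1 hm.2), mul_one]
        exact hm ▸ hcy.pow_right m
      have hB : Commute y (z : G) := by
        have := (hA.inv_right).mul_right hcy
        simpa using this
      exact ⟨⟨y, Subgroup.mem_centralizer_singleton_iff.2 hA.eq⟩,
        Subgroup.mem_centralizer_singleton_iff.2 (Subtype.ext hB.eq), rfl⟩
    apply hmax (x * (z : G))
    refine Dvd.dvd.trans ?_ (Subgroup.index_dvd_of_le hle)
    rw [Subgroup.index_map_subtype, hxi, pow_succ']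
    exact Nat.mul_dvd_mul hd dvd_rfl
  obtain ⟨⟨S, A₀, hA₀n, hA₀⟩, hcomm⟩ := direct_factor (p := p) hhyp
  haveI := hA₀n
  set A := A₀.map C.subtype with hA
  have hAmem : ∀ u : G, u ∈ A ↔ u ∈ C ∧ Nat.Coprime (orderOf u) p := by
    intro u
    constructor
    · rintro ⟨z, hz, rfl⟩
      refine ⟨z.2, ?_⟩
      rw [C.coe_subtype, Subgroup.orderOf_coe]
      exact (Cfsg.Agent.TransferPResidual.mem_iff_coprime_of_isComplement' hA₀ z).1 hz
    · rintro ⟨huC, hu⟩
      exact ⟨⟨u, huC⟩, (Cfsg.Agent.TransferPResidual.mem_iff_coprime_of_isComplement' hA₀ _).2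
        (by rwa [← Subgroup.orderOf_coe]), rfl⟩
  -- a Sylow subgroup containing `x`
  have hSp : IsPGroup p ((S : Subgroup C).map C.subtype) := S.isPGroup'.map _
  obtain ⟨P, hP⟩ := hSp.exists_le_sylow
  have hxP : x ∈ (P : Subgroup G) := by
    apply hP
    refine ⟨⟨x, hxC⟩, ?_, rfl⟩
    have hpg : IsPGroup p (Subgroup.zpowers (⟨x, hxC⟩ : C)) :=
      IsPGroup.of_card (n := kx) (by rw [Nat.card_zpowers, Subgroup.orderOf_mk, hkx])
    have hmem : (⟨x, hxC⟩ : C) ∈ Subgroup.normalizer ((S : Subgroup C) : Set C) := by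
      rw [Subgroup.mem_normalizer_iff]
      intro y
      have e : (⟨x, hxC⟩ : C) * y * (⟨x, hxC⟩ : C)⁻¹ = y := by
        refine Subtype.ext ?_
        show x * (y : G) * x⁻¹ = y
        rw [← Subgroup.mem_centralizer_singleton_iff.1 y.2, mul_inv_cancel_right]
      rw [e]
    have h2 : (⟨x, hxC⟩ : C) ∈ Subgroup.zpowers (⟨x, hxC⟩ : C) ⊓ Subgroup.normalizer ((S : Subgroup C) : Set C) :=
      ⟨Subgroup.mem_zpowers _, hmem⟩
    have e : Subgroup.zpowers (⟨x, hxC⟩ : C) ⊓ Subgroup.normalizer ((S : Subgroup C) : Set C) =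
        Subgroup.zpowers (⟨x, hxC⟩ : C) ⊓ S := hpg.inf_normalizer_sylow S
    rw [e] at h2
    exact h2.2
  have hprod : ∀ g : G, ∃ π ∈ (P : Subgroup G), ∃ c ∈ C, g = π * c := by
    have hcop : (Subgroup.relIndex C ⊤).Coprime (P : Subgroup G).index := by
      rw [Subgroup.relIndex_top_right, hxi]
      exact Nat.Coprime.pow_left a (hp.coprime_iff_not_dvd.2 P.not_dvd_index)
    have hrel : C.relIndex P = C.index := by
      have h1 := Subgroup.relIndex_mul_index (inf_le_right : C ⊓ (P : Subgroup G) ≤ P)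
      rw [Subgroup.inf_relIndex_right] at h1
      have h2 : C.index ∣ C.relIndex P * (P : Subgroup G).index :=
        h1 ▸ Subgroup.index_dvd_of_le inf_le_left
      rw [Subgroup.relIndex_top_right] at hcop
      refine le_antisymm ?_ ?_
      · rw [← Subgroup.relIndex_top_right]
        exact Subgroup.relIndex_le_of_le_right le_top (by rw [Subgroup.relIndex_top_right]; exact Subgroup.index_ne_zero_of_finite)
      · exact Nat.le_of_dvd (Nat.pos_of_ne_zero (Subgroup.index_ne_zero_of_finite : (C.subgroupOf P).index ≠ 0)) (hcop.dvd_of_dvd_mul_right h2)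
    intro g
    have hsurj : Function.Surjective (fun q : (P : Subgroup G) ⧸ C.subgroupOf P => Quotient.map' (Subtype.val) (fun u v huv => by
        rw [QuotientGroup.leftRel_apply] at huv ⊢
        exact huv) q : _ → G ⧸ C) := by
      apply ((Nat.bijective_iff_injective_and_card _).2 ⟨?_, ?_⟩).2
      · intro u v
        induction u using Quotient.inductionOn'
        induction v using Quotient.inductionOn'
        rename_i u v
        intro h
        apply Quotient.sound'
        have h' := Quotient.exact' h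
        rw [QuotientGroup.leftRel_apply] at h' ⊢
        exact h'
      · rw [← Subgroup.index_eq_card]
        exact hrel.trans C.index_eq_card
    obtain ⟨q, hq⟩ := hsurj (g : G ⧸ C)
    induction q using Quotient.inductionOn'
    rename_i q
    refine ⟨q, q.2, (q : G)⁻¹ * g, ?_, by group⟩
    exact QuotientGroup.eq.1 hq
  set N := Subgroup.normalClosure ({x} : Set G) with hN
  have hNP : N ≤ (P : Subgroup G) := by
    refine (Subgroup.closure_le _).2 ?_
    intro y hy
    rw [Group.mem_conjugatesOfSet_iff] at hy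
    obtain ⟨x', rfl, hconj⟩ := hy
    obtain ⟨g, rfl⟩ := isConj_iff.1 hconj
    obtain ⟨π, hπ, c, hc, rfl⟩ := hprod g
    have : π * c * x' * (π * c)⁻¹ = π * x' * π⁻¹ := by
      calc π * c * x' * (π * c)⁻¹ = π * (c * x') * c⁻¹ * π⁻¹ := by group
        _ = π * (x' * c) * c⁻¹ * π⁻¹ := by rw [Subgroup.mem_centralizer_singleton_iff.1 hc]
        _ = π * x' * π⁻¹ := by group
    rw [this]
    exact (P : Subgroup G).mul_mem ((P : Subgroup G).mul_mem hπ hxP) ((P : Subgroup G).inv_mem hπ)
  set R := Cfsg.pCore p G with hR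
  haveI : R.Normal := Cfsg.Agent.HallCore.pCore_normal p G
  have hRp : IsPGroup p R := Cfsg.Agent.HallCore.isPGroup_pCore p G
  have hxR : x ∈ R := Cfsg.Agent.HallCore.le_pCore (P.isPGroup'.to_le hNP)
    (Subgroup.subset_normalClosure rfl)
  have hAC : A ≤ C := Subgroup.map_subtype_le _
  -- elements of `R` fixed by `x` are fixed by `A`
  have hRC : ∀ r ∈ R, r ∈ C → r ∈ Subgroup.centralizer (A : Set G) := by
    intro r hr hrC
    rw [Subgroup.mem_centralizer_iff]
    intro b hb
    obtain ⟨hbC, hb'⟩ := (hAmem b).1 hb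
    obtain ⟨k, hk⟩ := IsPGroup.iff_orderOf.1 hRp ⟨r, hr⟩
    rw [Subgroup.orderOf_mk] at hk
    have h := hcomm ⟨r, hrC⟩ ⟨b, hbC⟩ ⟨k, by rw [Subgroup.orderOf_mk, hk]⟩ (by rwa [Subgroup.orderOf_mk])
    exact (congrArg Subtype.val h.eq).symm
  have hRA : R ≤ Subgroup.centralizer (A : Set G) := by
    set T := R ⊓ Subgroup.centralizer (A : Set G) with hT
    by_contra hcon
    have hlt : T.subgroupOf R < ⊤ := lt_top_iff_ne_top.2 fun h => hcon fun r hr =>
      (Subgroup.subgroupOf_eq_top.1 h hr).2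
    haveI : Group.IsNilpotent R := hRp.isNilpotent
    obtain ⟨n, hn, hn'⟩ := SetLike.exists_of_lt (Group.normalizerCondition_of_isNilpotent _ hlt)
    apply hn'
    rw [Subgroup.mem_subgroupOf]
    refine ⟨n.2, ?_⟩
    show (n : G) ∈ Subgroup.centralizer (A : Set G)
    rw [Subgroup.mem_centralizer_iff]
    intro b hb
    obtain ⟨hbC, hb'⟩ := (hAmem b).1 hb
    set d := b * (n : G) * b⁻¹ * (n : G)⁻¹ with hd
    have hdR : d ∈ R := R.mul_mem (‹R.Normal›.conj_mem _ n.2 b) (R.inv_mem n.2)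
    have hxT : x ∈ T := ⟨hxR, Subgroup.mem_centralizer_iff.2 fun c hc => Subgroup.mem_centralizer_singleton_iff.1 (hAC hc)⟩
    have hnx : (n : G)⁻¹ * x * n ∈ T := by
      have := (Subgroup.mem_normalizer_iff''.1 hn ⟨x, hxT.1⟩).1 (Subgroup.mem_subgroupOf.2 hxT)
      simpa [Subgroup.mem_subgroupOf] using this
    have hdC : d ∈ C := by
      rw [hCdef, Subgroup.mem_centralizer_singleton_iff]
      have e1 := Subgroup.mem_centralizer_iff.1 hnx.2 b hb
      have e2 : b * x = x * b := Subgroup.mem_centralizer_iff.1 hxT.2 b hb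
      have e2' : b⁻¹ * x = x * b⁻¹ := (Commute.inv_left (show Commute b x from e2)).eq
      calc d * x = b * (n : G) * b⁻¹ * ((n : G)⁻¹ * x * n) * (n : G)⁻¹ := by rw [hd]; group
        _ = b * (n : G) * (((n : G)⁻¹ * x * n) * b⁻¹) * (n : G)⁻¹ := by
          rw [← (Commute.inv_left (show Commute b _ from e1)).eq]; group
        _ = b * x * (n : G) * b⁻¹ * (n : G)⁻¹ := by group
        _ = x * b * (n : G) * b⁻¹ * (n : G)⁻¹ := by rw [e2]
        _ = x * d := by rw [hd]; group
    have hdA := Subgroup.mem_centralizer_iff.1 (hRC d hdR hdC) b hb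
    have hbn : b * (n : G) * b⁻¹ = d * n := by rw [hd]; group
    have hpow : ∀ k : ℕ, b ^ k * (n : G) * (b ^ k)⁻¹ = d ^ k * n := by
      intro k
      induction k with
      | zero => simp
      | succ k ih =>
        rw [pow_succ' b k]
        calc b * b ^ k * (n : G) * (b * b ^ k)⁻¹ = b * (b ^ k * (n : G) * (b ^ k)⁻¹) * b⁻¹ := by group
          _ = (b * d ^ k) * (n : G) * b⁻¹ := by rw [ih]; group
          _ = (d ^ k * b) * (n : G) * b⁻¹ := by rw [(Commute.pow_right (show Commute b d from hdA) k).eq]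
          _ = d ^ k * (b * (n : G) * b⁻¹) := by group
          _ = d ^ (k + 1) * n := by rw [hbn, pow_succ]; group
    have h1 := hpow (orderOf b)
    rw [pow_orderOf_eq_one, one_mul, inv_one, mul_one, right_eq_mul] at h1
    obtain ⟨k, hk⟩ := IsPGroup.iff_orderOf.1 hRp ⟨d, hdR⟩
    rw [Subgroup.orderOf_mk] at hk
    have hd1 : d = 1 := by
      rw [← orderOf_eq_one_iff]
      exact Nat.eq_one_of_dvd_coprimes (hb'.pow_right k) (orderOf_dvd_of_pow_eq_one h1) hk.dvd
    rw [hd1, one_mul] at hbn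
    exact mul_inv_eq_iff_eq_mul.1 hbn
  set D := Subgroup.centralizer (R : Set G) with hD
  have hAD : A ≤ D := Subgroup.le_centralizer_iff.1 hRA
  have hDC : D ≤ C := fun y hy => Subgroup.mem_centralizer_singleton_iff.2
    (Subgroup.mem_centralizer_iff.1 hy x hxR).symm
  haveI : A.Normal := ⟨fun b hb g => by
    refine (hAmem _).2 ⟨hDC ((inferInstance : D.Normal).conj_mem _ (hAD hb) g), ?_⟩
    rw [← MulAut.conj_apply, MulEquiv.orderOf_eq]
    exact ((hAmem b).1 hb).2⟩
  refine Cfsg.Agent.TransferPResidual.hasNormalPComplement_of_normal (N := A) ?_ ?_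
  · obtain ⟨k, hk⟩ := IsPGroup.iff_card.1 S.isPGroup'
    refine IsPGroup.of_card (n := k + a) ?_
    rw [← Subgroup.index_eq_card, hA, Subgroup.index_map_subtype, hA₀.symm.index_eq_card, hk, hxi, pow_add]
  · intro hd
    obtain ⟨u, hu⟩ := exists_prime_orderOf_dvd_card' p hd
    have := ((hAmem u).1 u.2).2
    rw [Subgroup.orderOf_coe, hu] at this
    exact hp.ne_one ((Nat.coprime_self p).1 this)

end Cfsg.Agent.S4127
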