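import Cfsg.Statements.S1629
import Cfsg.Agent.Lib.OrthUnitaryForms
import Cfsg.Agent.Lib.OrthUnitaryStd
import Cfsg.Agent.Lib.OrthUnitaryTranspositions
-- import your own Cfsg.Agent.* helpers here

set_option autoImplicit false
open scoped MatrixGroups
open Cfsg

namespace Cfsg.Agent.S1629

open Cfsg.Agent.OrthUnitaryForms
open Cfsg.Agent.OrthUnitaryStd
open Cfsg.Agent.OrthUnitaryTranspositions

/-- The orthogonal transvections of the plus-type orthogonal group in dimension 2m ≥ 6 over the field with two elements form a generating conjugacy class of 3-transpositions. -/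
theorem result (m : ℕ) (hm : 3 ≤ m) : Cfsg.IsThreeTranspositionClass {g : ↥(Cfsg.isometryGroup (ZMod 2) (Cfsg.quadFormPlus m (ZMod 2))) | (((g : GL (Fin m ⊕ Fin m) (ZMod 2)) : Matrix (Fin m ⊕ Fin m) (Fin m ⊕ Fin m) (ZMod 2)) - 1).rank = 1} := by
  refine isThreeTranspositionClass _ (comp_symm_apply _ _ (eqPlus m) (eqPlus_isometry m))
    (nondegenerate_congr (eqPlus m) (fun x => by simp) (nondegenerate_withBase nondegenerate_qfNil m)) ?_ ?_
  all_goals simp [Module.finrank_fintype_fun_eq_card]
  all_goals omega

end Cfsg.Agent.S1629
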