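import Mathlib
import Cfsg.Statements.S3612
import Cfsg.Agent.Lib.PrimeDegreeHalfAction28
import Cfsg.Agent.Lib.PrimeDegreeHalfNetto28

set_option autoImplicit false
open Cfsg
open scoped Pointwise

namespace Cfsg.Agent.S3612


/-- Let G be an insoluble group acting faithfully and transitively on a finite set of prime size p, and suppose the normalizer of a Sylow p-subgroup of G has order p(p-1)/2. If p > 7, then the stabilizer of a point acts primitively on the remaining p - 1 points. -/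
theorem result {G Ω : Type*} [Group G] [Finite G] [MulAction G Ω] [FaithfulSMul G Ω] [Finite Ω]
    (p : ℕ) (hp : p.Prime) (hΩ : Nat.card Ω = p) (htrans : MulAction.IsPretransitive G Ω)
    (hins : ¬ Group.IsSolvable G) (P : Sylow p G)
    (hN : 2 * Nat.card ↥(Subgroup.normalizer ((P : Subgroup G) : Set G)) = p * (p - 1))
    (hp7 : 7 < p) (α : Ω) :
    MulAction.IsPreprimitive ↥(MulAction.stabilizer G α) ↥(SubMulAction.ofStabilizer G α) := by
  classical
  haveI : Fact p.Prime := ⟨hp⟩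
  have hN' : p * (p - 1) ∣ 2 * Nat.card ↥(Subgroup.normalizer ((P : Subgroup G) : Set G)) :=
    dvd_of_eq hN.symm
  haveI : MulAction.IsPretransitive ↥(MulAction.stabilizer G α) ↥(SubMulAction.ofStabilizer G α) :=
    ⟨fun x y => by
      obtain ⟨g, h1, h2⟩ := Cfsg.Agent.PrimeDegreeHalfAction28.two_trans hΩ htrans hins P hN'
        ((show (x : Ω) ≠ α from x.2)).symm ((show (y : Ω) ≠ α from y.2)).symm
      exact ⟨⟨g, h1⟩, Subtype.ext h2⟩⟩
  refine ⟨fun {B} hB => ?_⟩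
  by_contra hcon
  simp only [MulAction.IsTrivialBlock, not_or, Set.not_subsingleton_iff] at hcon
  obtain ⟨⟨b, hb, c, hc, hbc⟩, hBu⟩ := hcon
  obtain ⟨d, hd⟩ := (Set.ne_univ_iff_exists_notMem B).mp hBu
  obtain ⟨e, φ, -, hact, hS⟩ := Cfsg.Agent.PrimeDegreeHalfBound28.exists_setting
    (by omega) hΩ htrans hins P hN'
  have hbα : (b : Ω) ≠ α := (show (b : Ω) ≠ α from b.2)
  obtain ⟨k, hk, k0, k1⟩ := hS.twoTrans (zero_ne_one : (0 : ZMod p) ≠ 1)
    (e.symm.injective.ne hbα.symm)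
  let f : ZMod p ≃ Ω := Equiv.trans k e
  have hf0 : f 0 = α := by simp [f, k0]
  have hf1 : f 1 = b := by simp [f, k1]
  let B' : Finset (ZMod p) := Finset.univ.filter fun x => f x ∈ Subtype.val '' B
  have hmem : ∀ x, x ∈ B' ↔ f x ∈ Subtype.val '' B := fun x => by simp [B']
  refine Cfsg.Agent.PrimeDegreeHalfNetto28.no_block hS hp7 B' ?_ ?_
    (c := f.symm (c : Ω)) (d := f.symm (d : Ω)) ?_ ?_ ?_ ?_ ?_
  · rw [hmem, hf0]
    rintro ⟨z, -, hz⟩
    exact (show (z : Ω) ≠ α from z.2) hz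
  · rw [hmem, hf1]; exact ⟨b, hb, rfl⟩
  · rw [hmem, Equiv.apply_symm_apply]; exact ⟨c, hc, rfl⟩
  · rw [Ne, Equiv.symm_apply_eq, hf1]; exact fun h => hbc (Subtype.ext h.symm)
  · rw [Ne, Equiv.symm_apply_eq, hf0]; exact (show (d : Ω) ≠ α from d.2)
  · rw [hmem, Equiv.apply_symm_apply]
    rintro ⟨z, hz, hzd⟩
    exact hd (Subtype.ext hzd ▸ hz)
  · intro g hg g0 x hx hgx y hy
    obtain ⟨g₁, hg₁⟩ := φ.range.mul_mem (φ.range.mul_mem hk hg) (φ.range.inv_mem hk)
    have hfg : ∀ z, f (g z) = g₁ • f z := fun z => by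
      simp only [f, Equiv.trans_apply]
      rw [← hact, hg₁]; simp
    have hg₁α : g₁ • α = α := by rw [← hf0, ← hfg, g0]
    rw [hmem] at hx hy hgx ⊢
    obtain ⟨x', hx', hxx⟩ := hx
    obtain ⟨y', hy', hyy⟩ := hy
    obtain ⟨z', hz', hzz⟩ := hgx
    rw [hfg, ← hxx] at hzz
    have he : (⟨g₁, hg₁α⟩ : ↥(MulAction.stabilizer G α)) • x' = z' := Subtype.ext hzz.symm
    have hsame : (⟨g₁, hg₁α⟩ : ↥(MulAction.stabilizer G α)) • B = B := by
      refine ((MulAction.isBlock_iff_smul_eq_or_disjoint.mp hB) _).resolve_right fun hdis => ?_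
      exact Set.disjoint_left.mp hdis ⟨x', hx', he⟩ hz'
    exact ⟨_, hsame ▸ Set.smul_mem_smul_set hy', by rw [hfg, ← hyy]; rfl⟩

end Cfsg.Agent.S3612
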