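import Mathlib
import Cfsg.Statements.S3616
import Cfsg.Agent.Lib.PrimeDegreeHalfDihedral28
import Cfsg.Agent.Lib.PslActionCoord28

set_option autoImplicit false
open Cfsg

namespace Cfsg.Agent.S3616
open scoped commutatorElement
open Cfsg.Agent in
/-- A solvable transitive group of prime degree normalises its translations. -/
theorem affine_of_solvable {p : ℕ} [hp : Fact p.Prime] (K : Subgroup (Equiv.Perm (ZMod p)))
    (hT : Equiv.addRight (1 : ZMod p) ∈ K) (hK : Group.IsSolvable K) :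
    ∀ g ∈ K, ∃ a b : ZMod p, a ≠ 0 ∧ ∀ x, g x = a * x + b := by
  classical
  haveI htr : MulAction.IsPretransitive K (ZMod p) := ⟨fun x y => by
    refine ⟨⟨_, K.pow_mem hT (y - x).val⟩, ?_⟩
    change ((Equiv.addRight (1 : ZMod p)) ^ (y - x).val) x = y
    rw [PrimeDegreeHalfBound28.addRight_pow, ZMod.natCast_zmod_val]; ring⟩
  have hKne : derivedSeries K 0 ≠ ⊥ := by
    rw [derivedSeries_zero]
    intro h
    have h1 : (⟨_, hT⟩ : K) = 1 := by rw [← Subgroup.mem_bot, ← h]; exact Subgroup.mem_top _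
    simpa using DFunLike.congr_fun (congrArg Subtype.val h1) 0
  obtain ⟨m, hm⟩ := (Group.isSolvable_def K).mp hK
  obtain ⟨k, hk, hk1⟩ : ∃ k, derivedSeries K k ≠ ⊥ ∧ derivedSeries K (k + 1) = ⊥ := by
    by_contra hc
    push Not at hc
    have hall : ∀ j, derivedSeries K j ≠ ⊥ := fun j => by
      induction j with
      | zero => exact hKne
      | succ j ih => exact hc j ih
    exact hall m hm
  let A : Subgroup K := derivedSeries K k
  haveI hAn : A.Normal := derivedSeries_normal K k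
  have hcomm : ∀ x ∈ A, ∀ y ∈ A, x * y = y * x := fun x hx y hy => by
    have : ⁅x, y⁆ ∈ derivedSeries K (k + 1) := by
      rw [derivedSeries_succ]; exact Subgroup.commutator_mem_commutator hx hy
    rw [hk1, Subgroup.mem_bot, commutatorElement_eq_one_iff_mul_comm] at this
    exact this
  -- the orbit of `0` under `A` is everything
  have horb : MulAction.orbit A (0 : ZMod p) = Set.univ := by
    have hB : MulAction.IsBlock K (MulAction.orbit A (0 : ZMod p)) := MulAction.IsBlock.orbit_of_normal _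
    have hdvd := hB.ncard_dvd_card ⟨0, MulAction.mem_orbit_self _⟩
    rw [Nat.card_zmod, Nat.dvd_prime hp.out] at hdvd
    rcases hdvd with h1 | h1
    · exfalso
      apply hk
      rw [Subgroup.eq_bot_iff_forall]
      intro x hx
      obtain ⟨z, hz⟩ := Set.ncard_eq_one.mp h1
      have fix0 : ∀ y : A, y • (0 : ZMod p) = 0 := fun y => by
        have a1 : y • (0 : ZMod p) ∈ MulAction.orbit A (0 : ZMod p) := MulAction.mem_orbit _ y
        have a2 : (0 : ZMod p) ∈ MulAction.orbit A (0 : ZMod p) := MulAction.mem_orbit_self _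
        rw [hz, Set.mem_singleton_iff] at a1 a2
        rw [a1, ← a2]
      refine Subtype.ext (Equiv.ext fun w => ?_)
      obtain ⟨g, rfl⟩ := htr.exists_smul_eq (0 : ZMod p) w
      have h2 : (g⁻¹ * x * g) ∈ A := by simpa using hAn.conj_mem x hx g⁻¹
      have h3 := fix0 ⟨_, h2⟩
      change (g⁻¹ * x * g : K) • (0 : ZMod p) = 0 at h3
      rw [mul_smul, mul_smul, inv_smul_eq_iff] at h3
      exact h3
    · exact Set.eq_of_subset_of_ncard_le (Set.subset_univ _) (by rw [h1, Set.ncard_univ, Nat.card_zmod])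
  have hcardA : Nat.card A = p := by
    have hinj : Function.Injective fun y : A => y • (0 : ZMod p) := by
      intro y z hyz
      refine Subtype.ext (Subtype.ext (Equiv.ext fun w => ?_))
      obtain ⟨u, hu⟩ := (horb ▸ Set.mem_univ w : w ∈ MulAction.orbit A (0 : ZMod p))
      rw [← hu]
      change ((y : K) * (u : K)) • (0 : ZMod p) = ((z : K) * (u : K)) • (0 : ZMod p)
      rw [hcomm _ y.2 _ u.2, hcomm _ z.2 _ u.2, mul_smul, mul_smul]
      exact congrArg _ hyz
    have hsurj : Function.Surjective fun y : A => y • (0 : ZMod p) := fun w =>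
      (horb ▸ Set.mem_univ w : w ∈ MulAction.orbit A (0 : ZMod p))
    rw [Nat.card_eq_of_bijective _ ⟨hinj, hsurj⟩, Nat.card_zmod]
  have hord : orderOf (⟨_, hT⟩ : K) = p := by
    refine orderOf_eq_prime (Subtype.ext (Equiv.ext fun x => ?_)) (fun h => ?_)
    · rw [SubmonoidClass.coe_pow, PrimeDegreeHalfBound28.addRight_pow, ZMod.natCast_self, add_zero]; rfl
    · simpa using DFunLike.congr_fun (congrArg Subtype.val h) 0
  obtain ⟨P⟩ : Nonempty (Sylow p K) := inferInstance
  have hPc : Nat.card P = p := PrimeDegreeCoord.card_sylow (Nat.card_zmod p) K P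
  let SA : Sylow p K := Sylow.ofCard A (by rw [hcardA, ← P.card_eq_multiplicity, hPc])
  let ST : Sylow p K := Sylow.ofCard (Subgroup.zpowers (⟨_, hT⟩ : K))
    (by rw [Nat.card_zpowers, hord, ← P.card_eq_multiplicity, hPc])
  haveI : (SA : Subgroup K).Normal := hAn
  haveI := Sylow.unique_of_normal SA this
  have heq : SA = ST := Subsingleton.elim _ _
  have hA' : A = Subgroup.zpowers (⟨_, hT⟩ : K) := congrArg (fun S : Sylow p K => (S : Subgroup K)) heq
  intro g hg
  obtain ⟨a, b, ha, hab⟩ := PrimeDegreeCoord.affine_of_normalizes (Equiv.refl (ZMod p))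
    (t := Equiv.addRight 1) (fun x => rfl) (g := g) (by
      have h2 := hAn.conj_mem _ (hA'.symm ▸ Subgroup.mem_zpowers (⟨_, hT⟩ : K)) ⟨g, hg⟩
      rw [hA'] at h2
      obtain ⟨j, hj⟩ := h2
      exact ⟨j, congrArg Subtype.val hj⟩)
  exact ⟨a, b, ha, hab⟩

/-- Multiplication by a generator is an odd permutation. -/
theorem sign_mulLeft {p : ℕ} [hp : Fact p.Prime] (hp2 : p ≠ 2) {g : (ZMod p)ˣ}
    (hg : ∀ u : (ZMod p)ˣ, u ∈ Subgroup.zpowers g) :
    Equiv.Perm.sign (Equiv.mulLeft₀ (g : ZMod p) g.ne_zero) = -1 := by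
  classical
  have hp3 : 3 ≤ p := by have := hp.out.two_le; omega
  have hg1 : (g : ZMod p) ≠ 1 := by
    intro e
    have e' : g = 1 := Units.ext e
    have h1 : (-1 : (ZMod p)ˣ) = 1 := by simpa [e'] using hg (-1)
    have h2 := congrArg Units.val h1
    rw [Units.val_neg, Units.val_one] at h2
    have h3 : ((2 : ℕ) : ZMod p) = 0 := by push_cast; linear_combination -h2
    rw [ZMod.natCast_eq_zero_iff] at h3
    have := Nat.le_of_dvd (by norm_num) h3
    omega
  set σ := Equiv.mulLeft₀ (g : ZMod p) g.ne_zero with hσ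
  have hpow : ∀ n : ℕ, ∀ x, (σ ^ n) x = (g : ZMod p) ^ n * x := by
    intro n
    induction n with
    | zero => simp
    | succ n ih => intro x; rw [pow_succ', Equiv.Perm.mul_apply, ih, pow_succ']; simp [σ, mul_assoc]
  have hsupp : σ.support = Finset.univ.erase 0 := by
    ext x
    simp only [Equiv.Perm.mem_support, Finset.mem_erase, Finset.mem_univ, and_true, σ,
      Equiv.mulLeft₀_apply, ne_eq, mul_left_eq_self₀]
    exact ⟨fun h e => h (Or.inr e), fun h h' => h'.elim hg1 h⟩
  have hc : σ.IsCycle := by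
    refine ⟨1, by simp [σ, hg1], fun y hy => ?_⟩
    have hy0 : y ≠ 0 := by
      rw [← Equiv.Perm.mem_support, hsupp] at hy
      exact Finset.ne_of_mem_erase hy
    obtain ⟨n, hn⟩ := (mem_powers_iff_mem_zpowers (x := g)).mpr (hg (Units.mk0 y hy0))
    refine ⟨n, ?_⟩
    rw [zpow_natCast, hpow, mul_one, ← Units.val_pow_eq_pow_val]
    exact congrArg Units.val hn
  rw [hc.sign, hsupp, Finset.card_erase_of_mem (Finset.mem_univ _), Finset.card_univ, ZMod.card]
  have he : Even (p - 1) := by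
    obtain ⟨j, hj⟩ := hp.out.odd_of_ne_two hp2
    exact ⟨j, by omega⟩
  rw [he.neg_one_pow]



/-- Let p > 7 be prime and let X be a finite group acting faithfully on a set of p + 1 points by even permutations. Suppose X has a proper subgroup isomorphic to PSL(2, p) that acts doubly transitively on the set (such an action is necessarily the natural one on the projective line). Then X is 4-fold transitive. -/
theorem result {X Ω : Type*} [Group X] [Finite X] [MulAction X Ω] [FaithfulSMul X Ω] [Fintype Ω] [DecidableEq Ω]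
    (p : ℕ) (hp : p.Prime) (hp7 : 7 < p) (hΩ : Fintype.card Ω = p + 1)
    (heven : ∀ x : X, Equiv.Perm.sign (MulAction.toPerm x : Equiv.Perm Ω) = 1)
    (L : Subgroup X) (hL : Nonempty (↥L ≃* Matrix.ProjectiveSpecialLinearGroup (Fin 2) (ZMod p)))
    (hLt : MulAction.IsMultiplyPretransitive ↥L Ω 2) (hLX : L ≠ ⊤) :
    MulAction.IsMultiplyPretransitive X Ω 4 := by
  classical
  haveI : Fact p.Prime := ⟨hp⟩
  obtain ⟨ψ⟩ := hL
  have hΩ' : Nat.card Ω = p + 1 := by rw [Nat.card_eq_fintype_card, hΩ]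
  haveI : MulAction.IsPretransitive L Ω :=
    MulAction.isPretransitive_of_is_two_pretransitive (h2 := hLt)
  obtain ⟨o, f, hinj, hfo, hsurj, htb, hsq, s, hsL, hso, hs0, hsx⟩ :=
    Cfsg.Agent.PslActionCoord28.exists_coord hΩ' L ψ inferInstance
  let H : Subgroup X := MulAction.stabilizer X o
  have hH : ∀ h : H, (h : X) • o = o := fun h => h.2
  have hstay : ∀ (h : H) x, (h : X) • f x ≠ o := fun h x e =>
    hfo x (MulAction.injective (h : X) (e.trans (hH h).symm))
  have hch : ∀ (h : H) x, ∃ y, f y = (h : X) • f x := fun h x => hsurj _ (hstay h x)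
  choose F hF using hch
  let φ : H → Equiv.Perm (ZMod p) := fun h =>
    { toFun := F h
      invFun := F h⁻¹
      left_inv := fun x => hinj (by rw [hF, hF, Subgroup.coe_inv, inv_smul_smul])
      right_inv := fun x => hinj (by rw [hF, hF, Subgroup.coe_inv, smul_inv_smul]) }
  let Φ : H →* Equiv.Perm (ZMod p) := MonoidHom.mk' φ fun g h => Equiv.ext fun x => hinj (by
    change f (F (g * h) x) = f (F g (F h x))
    rw [hF, hF, hF, Subgroup.coe_mul, mul_smul])
  have hΦ : ∀ (h : H) x, f (Φ h x) = (h : X) • f x := fun h x => hF h x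
  have hext : ∀ g k : X, g • o = k • o → (∀ x, g • f x = k • f x) → g = k := fun g k h0 hx =>
    FaithfulSMul.eq_of_smul_eq_smul fun y : Ω => by
      by_cases hy : y = o
      · rw [hy]; exact h0
      · obtain ⟨x, rfl⟩ := hsurj y hy; exact hx x
  have hΦinj : Function.Injective Φ := fun g h e => Subtype.ext (hext _ _
    ((hH g).trans (hH h).symm) fun x => by rw [← hΦ, ← hΦ, e])
  let e : Option (ZMod p) ≃ Ω := Equiv.ofBijective (fun z => z.elim o f) ⟨by
    rintro (_ | x) (_ | y) hxy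
    · rfl
    · exact absurd hxy.symm (hfo y)
    · exact absurd hxy (hfo x)
    · exact congrArg some (hinj hxy), fun y => by
    by_cases hy : y = o
    · exact ⟨none, hy.symm⟩
    · obtain ⟨x, hx⟩ := hsurj y hy; exact ⟨some x, hx⟩⟩
  have hsign : ∀ h : H, Equiv.Perm.sign (Φ h) = 1 := fun h => by
    rw [← Equiv.optionCongr_sign, ← Equiv.Perm.sign_permCongr e, ← heven (h : X)]
    congr 1
    ext y
    obtain ⟨z, rfl⟩ := e.surjective y
    rw [Equiv.permCongr_apply, Equiv.symm_apply_apply, MulAction.toPerm_apply]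
    cases z with
    | none => exact (hH h).symm
    | some x => exact hΦ h x
  -- elements of `L` in the stabiliser
  have hLt' : ∀ b : ZMod p, ∃ h : H, (h : X) ∈ L ∧ ∀ x, Φ h x = x + b := fun b => by
    obtain ⟨g, hg, hgo, hgx⟩ := htb b
    exact ⟨⟨g, hgo⟩, hg, fun x => hinj (by rw [hΦ]; exact hgx x)⟩
  have hLs : ∀ a : ZMod p, a ≠ 0 → ∃ h : H, (h : X) ∈ L ∧ ∀ x, Φ h x = a ^ 2 * x := fun a ha => by
    obtain ⟨g, hg, hgo, hgx⟩ := hsq a ha
    exact ⟨⟨g, hgo⟩, hg, fun x => hinj (by rw [hΦ]; exact hgx x)⟩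
  obtain ⟨g₀, hg₀⟩ := IsCyclic.exists_generator (α := (ZMod p)ˣ)
  have hp2 : p ≠ 2 := by omega
  have hg₀ns : ¬ IsSquare (g₀ : ZMod p) := by
    rintro ⟨r, hr⟩
    have hs : Equiv.Perm.sign (Equiv.mulLeft₀ (g₀ : ZMod p) g₀.ne_zero) = 1 := by
      obtain ⟨h, -, hh⟩ := hLs r (fun e => g₀.ne_zero (by rw [hr, e, mul_zero]))
      rw [← show Φ h = Equiv.mulLeft₀ (g₀ : ZMod p) g₀.ne_zero from Equiv.ext fun x => by
        rw [hh, Equiv.mulLeft₀_apply, hr, sq]]
      exact hsign h
    rw [sign_mulLeft hp2 hg₀] at hs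
    exact absurd hs (by decide)
  have hT : Equiv.addRight (1 : ZMod p) ∈ Φ.range := by
    obtain ⟨h, -, hh⟩ := hLt' 1
    exact ⟨h, Equiv.ext hh⟩
  have hins : ¬ Group.IsSolvable Φ.range := by
    intro hs
    apply hLX
    have hHL : H ≤ L := by
      intro h hh
      obtain ⟨a, b, ha, hab⟩ := affine_of_solvable Φ.range hT hs (Φ ⟨h, hh⟩) ⟨_, rfl⟩
      obtain ⟨tb, htbL, htb'⟩ := hLt' b
      have hasq : IsSquare a := by
        by_contra hns
        obtain ⟨r, hr, hd⟩ :=
          Cfsg.Agent.PrimeDegreeHalfBound28.exists_sq_mul hns (d := (g₀ : ZMod p)) g₀.ne_zero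
        rcases hd with hd | hd
        · exact hg₀ns ⟨r, by rw [hd, sq]⟩
        obtain ⟨tn, -, htn⟩ := hLt' (-b)
        obtain ⟨sr, -, hsr⟩ := hLs r hr
        have hm : Φ (sr * (tn * ⟨h, hh⟩)) = Equiv.mulLeft₀ (g₀ : ZMod p) g₀.ne_zero :=
          Equiv.ext fun x => by
            rw [map_mul, map_mul, Equiv.Perm.mul_apply, Equiv.Perm.mul_apply, hab, htn, hsr,
              Equiv.mulLeft₀_apply, hd]
            ring
        have := hsign (sr * (tn * ⟨h, hh⟩))
        rw [hm, sign_mulLeft hp2 hg₀] at this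
        exact absurd this (by decide)
      obtain ⟨r, hr⟩ := hasq
      obtain ⟨sr, hsrL, hsr⟩ := hLs r (fun e => ha (by rw [hr, e, mul_zero]))
      have heq : (⟨h, hh⟩ : H) = tb * sr := hΦinj (Equiv.ext fun x => by
        rw [hab, map_mul, Equiv.Perm.mul_apply, hsr, htb', hr, sq])
      have := congrArg Subtype.val heq
      rw [show h = (tb : X) * sr from this]
      exact L.mul_mem htbL hsrL
    rw [eq_top_iff]
    intro x _
    obtain ⟨⟨l, hl⟩, hlx⟩ := (inferInstance : MulAction.IsPretransitive L Ω).exists_smul_eq o (x • o)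
    have hxH : l⁻¹ * x ∈ H := by
      change (l⁻¹ * x) • o = o
      rw [mul_smul, inv_smul_eq_iff]
      exact hlx.symm
    have := L.mul_mem hl (hHL hxH)
    rwa [mul_inv_cancel_left] at this
  have hS : Cfsg.Agent.PrimeDegreeHalfBound28.Setting p Φ.range :=
    ⟨by omega, hT, fun a ha => by
      obtain ⟨h, -, hh⟩ := hLs a ha
      exact ⟨Φ h, ⟨h, rfl⟩, hh⟩, hins⟩
  let S' : Equiv.Perm (ZMod p) := Function.Involutive.toPerm (fun x => -x⁻¹) fun x => by simp
  have hS' : ∀ x, S' x = -x⁻¹ := fun x => rfl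
  have hnorm : ∀ g ∈ Φ.range, g 0 = 0 → S' * g * S' ∈ Φ.range := by
    rintro _ ⟨h, rfl⟩ h0
    have hh0 : (h : X) • f 0 = f 0 := by rw [← hΦ, h0]
    have hm : s * (h : X) * s ∈ H := by
      change (s * (h : X) * s) • o = o
      rw [mul_smul, mul_smul, hso, hh0, hs0]
    refine ⟨⟨_, hm⟩, Equiv.ext fun x => hinj ?_⟩
    rw [hΦ]
    change (s * (h : X) * s) • f x = f (S' (Φ h (S' x)))
    rw [mul_smul, mul_smul]
    rcases eq_or_ne x 0 with rfl | hx
    · rw [hs0, hH h, hso, hS' 0, inv_zero, neg_zero, h0, hS', inv_zero, neg_zero]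
    · rw [hsx x hx, ← hΦ, hS' x]
      have hne : Φ h (-x⁻¹) ≠ 0 := fun e => neg_ne_zero.mpr (inv_ne_zero hx)
        ((Φ h).injective (e.trans h0.symm))
      rw [hsx _ hne, hS']
  have key : ∀ a b : ZMod p, a ≠ 0 → a ≠ 1 → b ≠ 0 → b ≠ 1 →
      ∃ g : X, g • o = o ∧ g • f 0 = f 0 ∧ g • f 1 = f 1 ∧ g • f a = f b := by
    intro a b a0 a1 b0 b1
    obtain ⟨_, ⟨h, rfl⟩, h0, h1, hab⟩ := Cfsg.Agent.PrimeDegreeHalfDihedral28.three_trans hS hp7 S'
      (fun x _ => hS' x) (by rw [hS', inv_zero, neg_zero]) hnorm a b a0 a1 b0 b1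
    exact ⟨h, hH h, by rw [← hΦ, h0], by rw [← hΦ, h1], by rw [← hΦ, hab]⟩
  -- move any three points to the standard ones
  have three : ∀ a b c : Ω, a ≠ b → a ≠ c → b ≠ c →
      ∃ g : X, g • a = o ∧ g • b = f 0 ∧ g • c = f 1 := by
    intro a b c hab hac hbc
    obtain ⟨⟨l, hl⟩, hla⟩ := (inferInstance : MulAction.IsPretransitive L Ω).exists_smul_eq a o
    change l • a = o at hla
    obtain ⟨x, hx⟩ := hsurj (l • b) (hla ▸ (MulAction.injective l).ne hab.symm)
    obtain ⟨y, hy⟩ := hsurj (l • c) (hla ▸ (MulAction.injective l).ne hac.symm)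
    obtain ⟨_, ⟨h, rfl⟩, h0, h1⟩ := hS.twoTrans
      (fun e => hbc (MulAction.injective l (hx.symm.trans ((congrArg f e).trans hy))))
      (zero_ne_one : (0 : ZMod p) ≠ 1)
    exact ⟨h * l, by rw [mul_smul, hla, hH h], by rw [mul_smul, ← hx, ← hΦ, h0],
      by rw [mul_smul, ← hy, ← hΦ, h1]⟩
  refine ⟨fun x y => ?_⟩
  have nx : ∀ i j : Fin 4, i ≠ j → x i ≠ x j := fun i j h => x.injective.ne h
  have ny : ∀ i j : Fin 4, i ≠ j → y i ≠ y j := fun i j h => y.injective.ne h
  obtain ⟨g, g0, g1, g2⟩ := three (x 0) (x 1) (x 2) (nx _ _ (by decide)) (nx _ _ (by decide))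
    (nx _ _ (by decide))
  obtain ⟨k, k0, k1, k2⟩ := three (y 0) (y 1) (y 2) (ny _ _ (by decide)) (ny _ _ (by decide))
    (ny _ _ (by decide))
  obtain ⟨a, ha⟩ := hsurj (g • x 3) (g0 ▸ (MulAction.injective g).ne (nx _ _ (by decide)))
  obtain ⟨b, hb⟩ := hsurj (k • y 3) (k0 ▸ (MulAction.injective k).ne (ny _ _ (by decide)))
  obtain ⟨m, m0, m1, m2, m3⟩ := key a b
    (fun e => nx 3 1 (by decide) (MulAction.injective g (by dsimp only; rw [← ha, g1, e])))
    (fun e => nx 3 2 (by decide) (MulAction.injective g (by dsimp only; rw [← ha, g2, e])))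
    (fun e => ny 3 1 (by decide) (MulAction.injective k (by dsimp only; rw [← hb, k1, e])))
    (fun e => ny 3 2 (by decide) (MulAction.injective k (by dsimp only; rw [← hb, k2, e])))
  refine ⟨k⁻¹ * m * g, DFunLike.ext _ _ fun i => ?_⟩
  change (k⁻¹ * m * g) • x i = y i
  rw [mul_smul, mul_smul, inv_smul_eq_iff]
  fin_cases i
  · change m • g • x 0 = k • y 0; rw [g0, m0, k0]
  · change m • g • x 1 = k • y 1; rw [g1, m1, k1]
  · change m • g • x 2 = k • y 2; rw [g2, m2, k2]
  · change m • g • x 3 = k • y 3; rw [← ha, m3, hb]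

end Cfsg.Agent.S3616
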