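import Cfsg.Statements.S3815
import Mathlib

set_option autoImplicit false
open Cfsg

namespace Cfsg.Agent.S3815

/-- Let G be a finite group, p a prime and d ∈ G an element of order prime to p. If dg has order prime to p for every element g ∈ G of order prime to p, then d ∈ O_{p'}(G). -/
theorem result {G : Type*} [Group G] [Finite G] {p : ℕ} [Fact p.Prime]
    (d : G) (hd : (orderOf d).Coprime p)
    (h : ∀ g : G, (orderOf g).Coprime p → (orderOf (d * g)).Coprime p) :
    d ∈ Cfsg.pPrimeCore p G := by
  classical
  have hp := (Fact.out : p.Prime)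
  let D : Submonoid G :=
    { carrier := {e | ∀ g : G, (orderOf g).Coprime p → (orderOf (e * g)).Coprime p}
      one_mem' := by intro g hg; simpa using hg
      mul_mem' := by
        intro a b ha hb g hg
        rw [mul_assoc]
        exact ha _ (hb g hg) }
  let E : Subgroup G :=
    { D with
      inv_mem' := by
        intro x hx
        show x⁻¹ ∈ D
        have : x ^ (orderOf x - 1) = x⁻¹ := by
          apply eq_inv_of_mul_eq_one_left
          rw [← pow_succ, Nat.sub_add_cancel (orderOf_pos x), pow_orderOf_eq_one]
        rw [← this]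
        exact pow_mem hx _ }
  have hE : E.Normal := ⟨fun e he x g hg => by
    have h1 := he (x⁻¹ * g * x) (by
      have : orderOf (x⁻¹ * g * x) = orderOf g := by
        simpa using (MulAut.conj x⁻¹).orderOf_eq g
      rwa [this])
    have h2 : orderOf (x * e * x⁻¹ * g) = orderOf (e * (x⁻¹ * g * x)) := by
      rw [← (MulAut.conj x).orderOf_eq (e * (x⁻¹ * g * x))]
      congr 1
      simp [mul_assoc]
    rwa [h2]⟩
  have hcard : (Nat.card E).Coprime p := by
    rw [Nat.coprime_comm, hp.coprime_iff_not_dvd]
    intro hdvd
    obtain ⟨y, hy⟩ := exists_prime_orderOf_dvd_card' p hdvd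
    have h1 := y.2 1 (by simp)
    rw [mul_one, Subgroup.orderOf_coe, hy] at h1
    exact hp.ne_one (Nat.coprime_self p |>.mp h1)
  have : E ≤ Cfsg.pPrimeCore p G := le_sSup ⟨hE, hcard⟩
  exact this h

end Cfsg.Agent.S3815
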