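import Cfsg.Statements.S4478
import Cfsg.Agent.Lib.SchurBound79
import Cfsg.Agent.Lib.BlockTheoryIdem
import Cfsg.Agent.Lib.RealRep79
import Cfsg.Agent.Lib.CharAverage
import Cfsg.Agent.Lib.BrauerBlocksCentral
import Cfsg.Agent.Lib.CharBasicDecomp
import Cfsg.Agent.Lib.CharBasicOrth

set_option autoImplicit false
open Cfsg

namespace Cfsg.Agent.S4478


open scoped ComplexConjugate
open BlockTheoryLocalRing BlockTheoryCentre BlockTheoryIdem

variable {G : Type*} [Group G] [Fintype G]

/-- A character with degree divisible by the full `p`-part vanishes on `p`-singular elements. -/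
theorem vanish {p : ℕ} (hp : p.Prime) (χ : Cfsg.IrrCharacter G)
    (hfull : p ^ (Nat.card G).factorization p ∣ charDegree (χ : G → ℂ)) {g : G}
    (hg : p ∣ orderOf g) : (χ : G → ℂ) g = 0 := by
  classical
  obtain ⟨M, hM⟩ := SchurBound79.exists_modular p hp
  have hint : IsInt M (idem ({χ} : Set (Cfsg.IrrCharacter G))) := by
    intro x
    rw [coeff_idem, blockCoeff_eq_sum]
    simp only [Set.mem_singleton_iff, Finset.sum_ite_eq', Finset.mem_univ, if_true]
    rw [← irr_inv, CharAverage.irr_apply_one, ← mul_assoc]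
    refine (localRing hM).mul_mem ?_ (of_isIntegral hM (BrauerBlocksCentral.isIntegral_irr χ _))
    obtain ⟨e, he⟩ := hfull
    obtain ⟨c, hc⟩ := Nat.ordProj_dvd (Nat.card G) p
    have hc0 : ¬ p ∣ c := fun hd => by
      refine (Nat.pow_succ_factorization_not_dvd (Nat.card_pos (α := G)).ne' hp) ?_
      refine dvd_trans ?_ (dvd_of_eq hc.symm)
      rw [pow_succ]
      exact Nat.mul_dvd_mul_left _ hd
    have hv : ((Nat.card G : ℕ) : ℂ)⁻¹ * ((charDegree (χ : G → ℂ) : ℕ) : ℂ) = (c : ℂ)⁻¹ * (e : ℂ) := by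
      have h0 : (p : ℂ) ^ (Nat.card G).factorization p ≠ 0 :=
        pow_ne_zero _ (Nat.cast_ne_zero.2 hp.ne_zero)
      have hcC : (c : ℂ) ≠ 0 := Nat.cast_ne_zero.2 fun h => hc0 (h ▸ dvd_zero p)
      have e1 : (Nat.card G : ℂ) = (p : ℂ) ^ (Nat.card G).factorization p * (c : ℂ) := by exact_mod_cast hc
      rw [e1, he]; push_cast; field_simp
    rw [hv]
    exact (localRing hM).mul_mem (inv_natCast_mem hM hc0) (natCast_mem (localRing hM) _)
  have hsub := blockOf_subset_of_isInt hM hint (Set.mem_singleton χ)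
  have h := weak_orthogonality hM (isPBlock_blockOf χ (M := M)) (x := (1 : G)) (y := g)
    (by simp [hp.ne_one]) hg
  rw [Finset.sum_eq_single χ (fun ψ _ hne => if_neg fun hm => hne (hsub hm)) (by simp),
    if_pos (self_mem_blockOf hM χ), mul_eq_zero] at h
  exact (map_eq_zero _).1 (h.resolve_left (CharAverage.irr_one_ne_zero χ))

theorem exists_orderOf_eq {g : G} {d : ℕ} (hd : d ∣ orderOf g) : ∃ u : G, orderOf u = d := by
  obtain ⟨m, hm⟩ := hd
  have hm0 : m ≠ 0 := fun h => by simp [h, (orderOf_pos g).ne'] at hm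
  exact ⟨g ^ m, by rw [orderOf_pow_of_dvd hm0 ⟨d, by rw [hm, mul_comm]⟩, hm,
    Nat.mul_div_cancel _ (Nat.pos_of_ne_zero hm0)]⟩


/-- Let G be a finite group of even order and χ an irreducible character of G whose degree x is divisible by the full power of 2 dividing the order of G and, for every odd prime p such that G has an element of order 2p, by the full power of p dividing the order of G. Then all involutions of G are conjugate, the centralizer of every involution has order exactly x with x coprime to its index, and the Frobenius–Schur indicator of χ equals 1. -/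
theorem result {G : Type*} [Group G] [Fintype G] (heven : Even (Nat.card G)) (χ : Cfsg.IrrCharacter G) (h2 : 2 ^ (Nat.card G).factorization 2 ∣ Cfsg.charDegree (χ : G → ℂ)) (hp : ∀ p : ℕ, p.Prime → p ≠ 2 → (∃ g : G, orderOf g = 2 * p) → p ^ (Nat.card G).factorization p ∣ Cfsg.charDegree (χ : G → ℂ)) : (∀ s t : G, orderOf s = 2 → orderOf t = 2 → IsConj s t) ∧ (∀ s : G, orderOf s = 2 → Nat.card (Subgroup.centralizer ({s} : Set G)) = Cfsg.charDegree (χ : G → ℂ) ∧ (Nat.card (Subgroup.centralizer ({s} : Set G))).Coprime (Subgroup.centralizer ({s} : Set G)).index) ∧ (Nat.card G : ℂ)⁻¹ * ∑ g : G, (χ : G → ℂ) (g * g) = 1 := by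
  classical
  set x := Cfsg.charDegree (χ : G → ℂ) with hx
  have hv2 : ∀ g : G, 2 ∣ orderOf g → (χ : G → ℂ) g = 0 := fun g => vanish Nat.prime_two χ h2
  have hsq : ∀ g : G, 2 ∣ orderOf g → g * g ≠ 1 → (χ : G → ℂ) (g * g) = 0 := by
    intro g hg hne
    have h1 : orderOf (g * g) ≠ 1 := fun h => hne (orderOf_eq_one_iff.1 h)
    obtain ⟨q, hq, hqd⟩ := Nat.exists_prime_and_dvd h1
    rcases eq_or_ne q 2 with rfl | hq2
    · exact hv2 _ hqd
    refine vanish hq χ (hp q hq hq2 ?_) hqd
    have hqg : q ∣ orderOf g := hqd.trans (by rw [← pow_two]; exact orderOf_pow_dvd 2)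
    exact exists_orderOf_eq ((Nat.coprime_primes Nat.prime_two hq).2 hq2.symm |>.mul_dvd_of_dvd_of_dvd hg hqg)
  obtain ⟨s0, hs0⟩ := exists_prime_orderOf_dvd_card' 2 (even_iff_two_dvd.1 heven)
  set I := Finset.univ.filter (fun g : G => orderOf g = 2) with hI
  have hIpos : 0 < I.card := Finset.card_pos.2 ⟨s0, by simp [hI, hs0]⟩
  have hx2 : 2 ∣ x := (dvd_pow_self 2 ((Nat.prime_two.factorization_pos_of_dvd Nat.card_pos.ne'
    (even_iff_two_dvd.1 heven)).ne')).trans h2
  have hx1 : x ≠ 1 := fun h => by omega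
  have hne1 : (χ : G → ℂ) ≠ fun _ => 1 := fun h => hx1 (by simp [hx, h, charDegree])
  have hzero : ∑ g : G, (χ : G → ℂ) g = 0 := by
    have h := CharBasicOrth.classInner_irr_ne χ.2 (CharBasicDecomp.isIrrCharacter_one (G := G)) hne1
    rw [classInner, mul_eq_zero] at h
    simpa using h.resolve_left (inv_ne_zero (Nat.cast_ne_zero.2 Nat.card_pos.ne'))
  set O := Finset.univ.filter (fun g : G => Odd (orderOf g) ∧ g ≠ 1) with hO
  have hOsum : ∑ g ∈ O, (χ : G → ℂ) g = -(x : ℂ) := by
    have h : ∑ g ∈ insert 1 O, (χ : G → ℂ) g = 0 := by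
      rw [← hzero]
      refine Finset.sum_subset (Finset.subset_univ _) fun g _ hg => hv2 g ?_
      simp only [Finset.mem_insert, hO, Finset.mem_filter, Finset.mem_univ, true_and, not_or] at hg
      exact even_iff_two_dvd.1 (Nat.not_odd_iff_even.1 fun h => hg.2 ⟨h, hg.1⟩)
    rw [Finset.sum_insert (by simp [hO]), CharAverage.irr_apply_one, ← hx] at h
    linear_combination h
  have hOsq : ∑ g ∈ O, (χ : G → ℂ) (g * g) = ∑ g ∈ O, (χ : G → ℂ) g := by
    refine Finset.sum_nbij' (fun g => g * g) (fun g => g ^ ((orderOf g + 1) / 2)) ?_ ?_ ?_ ?_ (fun _ _ => rfl)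
    · intro g hg
      simp only [hO, Finset.mem_univ, true_and, Finset.mem_filter] at hg ⊢
      have : orderOf (g * g) = orderOf g := by
        rw [← pow_two]; exact Nat.Coprime.orderOf_pow (Nat.coprime_two_right.2 hg.1)
      refine ⟨by rw [this]; exact hg.1, fun h => hg.2 ?_⟩
      rwa [← orderOf_eq_one_iff, this, orderOf_eq_one_iff] at h
    · intro g hg
      simp only [hO, Finset.mem_univ, true_and, Finset.mem_filter] at hg ⊢
      obtain ⟨k, hk⟩ := hg.1
      have : orderOf (g ^ ((orderOf g + 1) / 2)) = orderOf g := by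
        refine Nat.Coprime.orderOf_pow ?_
        rw [show (orderOf g + 1) / 2 = k + 1 by omega, hk,
          Nat.coprime_comm, show 2 * k + 1 = k + 1 + k by ring, Nat.coprime_self_add_right,
          Nat.coprime_comm, show k + 1 = 1 + k by ring, Nat.coprime_add_self_right]
        exact Nat.coprime_one_right k
      refine ⟨by rw [this]; exact hg.1, fun h => hg.2 ?_⟩
      rwa [← orderOf_eq_one_iff, this, orderOf_eq_one_iff] at h
    · intro g hg
      simp only [hO, Finset.mem_univ, true_and, Finset.mem_filter] at hg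
      have ho : orderOf (g * g) = orderOf g := by
        rw [← pow_two]; exact Nat.Coprime.orderOf_pow (Nat.coprime_two_right.2 hg.1)
      obtain ⟨k, hk⟩ := hg.1
      rw [ho, ← pow_two, ← pow_mul, show 2 * ((orderOf g + 1) / 2) = orderOf g + 1 by omega, pow_succ,
        pow_orderOf_eq_one, one_mul]
    · intro g hg
      simp only [hO, Finset.mem_univ, true_and, Finset.mem_filter] at hg
      obtain ⟨k, hk⟩ := hg.1
      rw [← pow_two, ← pow_mul, show (orderOf g + 1) / 2 * 2 = orderOf g + 1 by omega, pow_succ,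
        pow_orderOf_eq_one, one_mul]
  have htot : ∑ g : G, (χ : G → ℂ) (g * g) = (I.card : ℂ) * (x : ℂ) := by
    have hdisj : Disjoint (insert (1 : G) I) O := by
      rw [Finset.disjoint_left]
      intro g hg hgO
      simp only [Finset.mem_insert, hI, hO, Finset.mem_filter, Finset.mem_univ, true_and] at hg hgO
      rcases hg with h | h
      · exact hgO.2 h
      · rw [h] at hgO; exact absurd hgO.1 (by decide)
    have h : ∑ g ∈ insert (1 : G) I ∪ O, (χ : G → ℂ) (g * g) = ∑ g : G, (χ : G → ℂ) (g * g) := by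
      refine Finset.sum_subset (Finset.subset_univ _) fun g _ hg => ?_
      simp only [Finset.mem_union, Finset.mem_insert, hI, hO, Finset.mem_filter, Finset.mem_univ,
        true_and, not_or] at hg
      have he : 2 ∣ orderOf g := even_iff_two_dvd.1 (Nat.not_odd_iff_even.1 fun h => hg.2 ⟨h, hg.1.1⟩)
      refine hsq g he fun h => ?_
      have : orderOf g ∣ 2 := orderOf_dvd_of_pow_eq_one (by rw [pow_two, h])
      exact hg.1.2 (Nat.dvd_antisymm this he)
    rw [← h, Finset.sum_union hdisj, hOsq, hOsum, Finset.sum_insert (by simp [hI]), one_mul,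
      Finset.sum_congr rfl (g := fun _ => (χ : G → ℂ) 1) fun g hg => ?_]
    · rw [Finset.sum_const, nsmul_eq_mul, CharAverage.irr_apply_one, ← hx]; ring
    · rw [← pow_two, (orderOf_eq_iff two_pos).1 (Finset.mem_filter.1 hg).2 |>.1]
  have hxpos : 0 < x := CharAverage.irr_degree_pos χ
  have hν : (Nat.card G : ℂ)⁻¹ * ∑ g : G, (χ : G → ℂ) (g * g) = 1 := by
    have h3 := (RealRep79.nu_trichotomy χ.2).1
    rw [FSIndicatorSum.nu] at h3
    rw [htot] at h3 ⊢
    have hpos : (0 : ℝ) < ((Nat.card G : ℝ)⁻¹ * ((I.card : ℝ) * (x : ℝ))) := by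
      have : 0 < Nat.card G := Nat.card_pos
      positivity
    rw [show (Nat.card G : ℂ)⁻¹ * ((I.card : ℂ) * (x : ℂ)) =
      (((Nat.card G : ℝ)⁻¹ * ((I.card : ℝ) * (x : ℝ)) : ℝ) : ℂ) by push_cast; rfl] at h3 ⊢
    rcases h3 with h3 | h3 | h3
    · rw [Complex.ofReal_eq_zero] at h3; linarith
    · exact h3
    · rw [← Complex.ofReal_one, ← Complex.ofReal_neg, Complex.ofReal_inj] at h3; linarith
  have hn : I.card * x = Nat.card G := by
    rw [htot, inv_mul_eq_iff_eq_mul₀ (Nat.cast_ne_zero.2 Nat.card_pos.ne'), mul_one] at hν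
    exact_mod_cast hν
  have hCdvd : ∀ s : G, orderOf s = 2 → Nat.card (Subgroup.centralizer ({s} : Set G)) ∣ x := by
    intro s hs
    rw [← Nat.factorization_prime_le_iff_dvd Nat.card_pos.ne' hxpos.ne']
    intro q hq
    rcases Nat.eq_zero_or_pos ((Nat.card (Subgroup.centralizer ({s} : Set G))).factorization q) with h0 | h0
    · omega
    refine le_trans ((Nat.factorization_le_iff_dvd Nat.card_pos.ne' Nat.card_pos.ne').2
      (Subgroup.card_subgroup_dvd_card _) q) ((hq.pow_dvd_iff_le_factorization hxpos.ne').1 ?_)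
    rcases eq_or_ne q 2 with rfl | hq2
    · exact h2
    have : Fact q.Prime := ⟨hq⟩
    obtain ⟨u, hu⟩ := exists_prime_orderOf_dvd_card' q (Nat.dvd_of_factorization_pos h0.ne')
    refine hp q hq hq2 ⟨s * (u : G), ?_⟩
    have hc : Commute s (u : G) := (Subgroup.mem_centralizer_singleton_iff.1 u.2).symm
    rw [hc.orderOf_mul_eq_mul_orderOf_of_coprime (by rw [hs, Subgroup.orderOf_coe, hu]; exact (Nat.coprime_primes Nat.prime_two hq).2 hq2.symm),
      hs, Subgroup.orderOf_coe, hu]
  have hkey : ∀ s : G, orderOf s = 2 → Nat.card (Subgroup.centralizer ({s} : Set G)) = x ∧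
      ∀ t : G, orderOf t = 2 → IsConj s t := by
    intro s hs
    have h1 := Subgroup.card_mul_index (Subgroup.centralizer ({s} : Set G))
    rw [← hn] at h1
    have hsubset : Finset.univ.filter (IsConj s) ⊆ I := by
      intro t ht
      obtain ⟨c, rfl⟩ := isConj_iff.1 (Finset.mem_filter.1 ht).2
      rw [hI, Finset.mem_filter, show c * s * c⁻¹ = MulAut.conj c s from rfl, MulEquiv.orderOf_eq]
      exact ⟨Finset.mem_univ _, hs⟩
    have hidx : (Subgroup.centralizer ({s} : Set G)).index = (Finset.univ.filter (IsConj s)).card := by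
      rw [index_centralizer_eq, Nat.card_eq_fintype_card, Fintype.card_subtype]
    have hle : (Subgroup.centralizer ({s} : Set G)).index ≤ I.card := hidx ▸ Finset.card_le_card hsubset
    obtain ⟨k, hk⟩ := hCdvd s hs
    set C := Nat.card (Subgroup.centralizer ({s} : Set G)) with hC
    have hCpos : 0 < C := Nat.card_pos
    have hidk : (Subgroup.centralizer ({s} : Set G)).index = I.card * k := by
      rw [hk, ← mul_assoc, mul_comm I.card C, mul_assoc] at h1
      exact Nat.eq_of_mul_eq_mul_left hCpos h1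
    have hk1 : k = 1 := by
      rcases k with _ | _ | k
      · simp at hk; omega
      · rfl
      · rw [hidk] at hle; exfalso; nlinarith
    refine ⟨by rw [hk, hk1, mul_one], fun t ht => ?_⟩
    have heq := Finset.eq_of_subset_of_card_le hsubset (by rw [← hidx, hidk, hk1, mul_one])
    exact (Finset.mem_filter.1 (heq ▸ (by simp [hI, ht] : t ∈ I))).2
  refine ⟨fun s t hs ht => (hkey s hs).2 t ht, fun s hs => ⟨(hkey s hs).1, ?_⟩, hν⟩
  refine Nat.coprime_of_dvd fun q hq hq1 hq2 => ?_
  have h1 := Subgroup.card_mul_index (Subgroup.centralizer ({s} : Set G))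
  have hfull : (Nat.card G).factorization q ≤ x.factorization q := by
    refine (hq.pow_dvd_iff_le_factorization hxpos.ne').1 ?_
    rcases eq_or_ne q 2 with rfl | hq2'
    · exact h2
    have : Fact q.Prime := ⟨hq⟩
    obtain ⟨u, hu⟩ := exists_prime_orderOf_dvd_card' q hq1
    refine hp q hq hq2' ⟨s * (u : G), ?_⟩
    have hc : Commute s (u : G) := (Subgroup.mem_centralizer_singleton_iff.1 u.2).symm
    rw [hc.orderOf_mul_eq_mul_orderOf_of_coprime (by rw [hs, Subgroup.orderOf_coe, hu]; exact (Nat.coprime_primes Nat.prime_two hq).2 hq2'.symm),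
      hs, Subgroup.orderOf_coe, hu]
  rw [← h1, Nat.factorization_mul Nat.card_pos.ne' Subgroup.index_ne_zero_of_finite, Finsupp.add_apply,
    (hkey s hs).1] at hfull
  have := hq.factorization_pos_of_dvd Subgroup.index_ne_zero_of_finite hq2
  omega

end Cfsg.Agent.S4478
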