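import Cfsg.Statements.S4503
import Cfsg.Agent.Lib.SmallFaithfulDegree86
import Cfsg.Agent.Lib.SmallFaithfulCentral86
import Cfsg.Agent.Lib.SchurBound79
-- import your own Cfsg.Agent.* helpers here

set_option autoImplicit false
open Cfsg

namespace Cfsg.Agent.S4503

open Cfsg.Agent.BlockTheoryLocalRing Cfsg.Agent.CharBasic Cfsg.Agent.SmallFaithful86

universe u

attribute [local instance] Classical.propDecidable

/-- A faithful representation of small degree of a group generated by the conjugates of its Sylow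
subgroup of prime order forces that subgroup to be normal. -/
theorem main {G : Type u} [Group G] [Fintype G] {p : ℕ} [hp : Fact p.Prime] (P : Sylow p G)
    [Fintype ↥(P : Subgroup G)] [Fintype (↥(P : Subgroup G) →* ℂˣ)]
    (hP : Nat.card (P : Subgroup G) = p) (hsq : ¬ p ^ 2 ∣ Nat.card G)
    (hgen : Subgroup.normalClosure ((P : Subgroup G) : Set G) = ⊤)
    (hnn : ∀ H : Subgroup G, H.Normal → Nat.card H ≠ p)
    {n : ℕ} (ρ : Representation ℂ G (Fin n → ℂ)) (hfaith : ∀ g : G, ρ.character g = ρ.character 1 → g = 1)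
    (hn : 2 * n + 2 ≤ p) : False := by
  obtain ⟨M, hM⟩ := SchurBound79.exists_modular p hp.out
  obtain ⟨k, _, _, red, hred, R, hR⟩ := exists_reduction hM ρ
  have hRinj : ∀ g : G, R g = 1 → g = 1 := by
    have hreg : ∀ g ∈ R.ker, ¬ p ∣ orderOf g → g = 1 := fun g hg hgp =>
      hfaith g (by rw [Representation.character, Representation.character, hR g hg hgp, map_one ρ])
    have hpg : IsPGroup p R.ker := by
      refine IsPGroup.iff_card.2 ⟨_, Nat.eq_prime_pow_of_unique_prime_dvd Nat.card_pos.ne' fun {q} hq hqd => ?_⟩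
      haveI := Fact.mk hq
      obtain ⟨x, hx⟩ := exists_prime_orderOf_dvd_card' q hqd
      by_contra hqp
      have h1 : ((x : G)) = 1 := hreg x x.2 (by
        rw [Subgroup.orderOf_coe, hx]
        exact fun h => hqp ((Nat.prime_dvd_prime_iff_eq hp.out hq).1 h).symm)
      rw [← Subgroup.orderOf_coe, h1, orderOf_one] at hx
      exact hq.ne_one hx.symm
    obtain ⟨j, hj⟩ := IsPGroup.iff_card.1 hpg
    have hj0 : j = 0 := by
      by_contra hj0
      rcases Nat.lt_or_ge j 2 with h | h
      · exact hnn R.ker (MonoidHom.normal_ker R) (by rw [hj, show j = 1 by omega, pow_one])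
      · exact hsq ((pow_dvd_pow p h).trans (hj ▸ Subgroup.card_subgroup_dvd_card R.ker))
    intro g hg
    have := Subgroup.card_eq_one.1 (by rw [hj, hj0, pow_zero] : Nat.card R.ker = 1)
    exact Subgroup.mem_bot.1 (this ▸ MonoidHom.mem_ker.2 hg)
  obtain ⟨K, hK, hKc⟩ := exists_regular_subgroup P
  haveI : Fintype K := Fintype.ofFinite _
  have hcen : ∀ c ∈ Subgroup.centralizer ((P : Subgroup G) : Set G), ¬ p ∣ orderOf c →
      c ∈ Subgroup.center G := by
    intro c hc hcr
    have hle : Subgroup.normalClosure ((P : Subgroup G) : Set G) ≤ Subgroup.centralizer {c} := by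
      refine (Subgroup.closure_le _).2 fun z hz => ?_
      obtain ⟨x, hx, hxz⟩ := Group.mem_conjugatesOfSet_iff.1 hz
      obtain ⟨g, rfl⟩ := isConj_iff.1 hxz
      have h := commute_conj hP hM red hred K hK hKc (by simp only [Module.finrank_fin_fun]; omega) R
        (c := ⟨c, hc⟩) ((hK _).2 hcr) hx g
      refine Subgroup.mem_centralizer_singleton_iff.2 ?_
      have hinj : Function.Injective R := (injective_iff_map_eq_one R).2 hRinj
      exact hinj ((map_mul R _ _).trans (h.eq.symm.trans (map_mul R _ _).symm))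
    rw [hgen] at hle
    exact Subgroup.mem_center_iff.2 fun g =>
      Subgroup.mem_centralizer_singleton_iff.1 (hle (Subgroup.mem_top g))
  have hχ : IsCharacter G ρ.character := ⟨n, ρ, rfl⟩
  obtain ⟨b, -, hb⟩ := CharBasicDecomp.exists_mult hχ
  choose d hd0 using fun ψ : IrrCharacter G => isCharacter_apply_one (isCharacter_of_isIrrCharacter ψ.2)
  have hsum : ∀ g, ρ.character g = ∑ ψ : IrrCharacter G, (b ψ : ℂ) * (ψ : G → ℂ) g := fun g => by
    conv_lhs => rw [hb]
    simp [Finset.sum_apply]
  have hdeg : ∑ ψ : IrrCharacter G, b ψ * d ψ = n := by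
    have h := hsum 1
    rw [Representation.character, map_one, LinearMap.trace_one, Module.finrank_fin_fun] at h
    simp only [hd0] at h
    exact_mod_cast h.symm
  obtain ⟨ψ, hψb, hψd⟩ : ∃ ψ, b ψ ≠ 0 ∧ 2 ≤ d ψ := by
    by_contra hno
    push Not at hno
    have hab : ∀ g h : G, g * h = h * g := by
      intro g h
      refine commutatorElement_eq_one_iff_mul_comm.1 (hfaith _ ?_)
      rw [hsum, hsum]
      refine Finset.sum_congr rfl fun ψ _ => ?_
      rcases eq_or_ne (b ψ) 0 with h0 | h0
      · simp [h0]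
      congr 1
      obtain ⟨l, σ, hσi, hσ⟩ := ψ.2
      have hl : l = 1 := by
        have h1 : (ψ : G → ℂ) 1 = (l : ℂ) := by
          rw [← hσ, Representation.character, map_one, LinearMap.trace_one, Module.finrank_fin_fun]
        rw [hd0] at h1
        have h2 := Nat.cast_injective h1
        have h3 := hno ψ h0
        haveI := hσi
        have h4 := finrank_pos_of_irreducible σ
        rw [Module.finrank_fin_fun] at h4
        omega
      subst hl
      rw [← hσ]
      have hcomm : ∀ A B : Module.End ℂ (Fin 1 → ℂ), A * B = B * A := fun A B =>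
        LinearMap.toMatrix'.injective (by
          rw [LinearMap.toMatrix'_mul, LinearMap.toMatrix'_mul]
          ext i j
          fin_cases i
          fin_cases j
          simp [Matrix.mul_apply, mul_comm])
      simp only [Representation.character, commutatorElement_def, map_mul]
      rw [hcomm (σ g) (σ h), mul_assoc (σ h), ← map_mul σ g g⁻¹, mul_inv_cancel, map_one, mul_one,
        ← map_mul σ h h⁻¹, mul_inv_cancel, map_one]
    have hnorm : (P : Subgroup G).Normal := ⟨fun x hx g => by
      rw [hab g x, mul_assoc, mul_inv_cancel, mul_one]; exact hx⟩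
    exact hnn _ hnorm hP
  refine degree_small hP hM hgen hcen ψ (d ψ) (hd0 ψ) hψd ?_
  have h1 : b ψ * d ψ ≤ ∑ ψ : IrrCharacter G, b ψ * d ψ :=
    Finset.single_le_sum (f := fun ψ => b ψ * d ψ) (fun _ _ => Nat.zero_le _) (Finset.mem_univ ψ)
  rw [hdeg] at h1
  have h2 : d ψ ≤ b ψ * d ψ := Nat.le_mul_of_pos_left _ (Nat.pos_of_ne_zero hψb)
  omega

/-- Let G be a finite group whose order is divisible by the prime p exactly once and which has no normal subgroup of order p. Then every faithful character χ of G has degree at least (p − 1)/2: 2·χ(1) + 1 ≥ p. -/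
theorem result {G : Type*} [Group G] [Finite G] (p : ℕ) (hp : p.Prime) (hdiv : p ∣ Nat.card G) (hsq : ¬ p ^ 2 ∣ Nat.card G) (hnn : ∀ H : Subgroup G, H.Normal → Nat.card H ≠ p) (χ : G → ℂ) (hχ : Cfsg.IsCharacter G χ) (hfaith : ∀ g : G, χ g = χ 1 → g = 1) : p ≤ 2 * Cfsg.charDegree χ + 1 := by
  haveI := Fact.mk hp
  haveI : Fintype G := Fintype.ofFinite G
  by_contra hcon
  obtain ⟨n, ρ, rfl⟩ := hχ
  have hdeg : Cfsg.charDegree ρ.character = n := by
    simp [Cfsg.charDegree, Representation.character]
  rw [hdeg] at hcon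
  have hn0 : 0 < n := by
    rcases Nat.eq_zero_or_pos n with rfl | h
    · exfalso
      obtain ⟨g, hg⟩ := exists_prime_orderOf_dvd_card' p hdiv
      have : g = 1 := hfaith g (by simp [Representation.character, Subsingleton.elim (ρ g) (ρ 1)])
      rw [this, orderOf_one] at hg
      exact hp.ne_one hg.symm
    · exact h
  have hn : 2 * n + 2 ≤ p := by omega
  have P : Sylow p G := default
  have hP : Nat.card (P : Subgroup G) = p := by
    rw [Sylow.card_eq_multiplicity]
    have h1 : (Nat.card G).factorization p = 1 := by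
      have hge := hp.factorization_pos_of_dvd Nat.card_pos.ne' hdiv
      rcases Nat.lt_or_ge ((Nat.card G).factorization p) 2 with h | h
      · omega
      · exact absurd ((pow_dvd_pow p h).trans (Nat.ordProj_dvd (Nat.card G) p)) hsq
    rw [h1, pow_one]
  set N := Subgroup.normalClosure ((P : Subgroup G) : Set G) with hN
  have hPN : (P : Subgroup G) ≤ N := Subgroup.subset_normalClosure
  set P' := P.subtype hPN with hP'
  haveI : Fintype N := Fintype.ofFinite _
  haveI : Fintype ↥(P' : Subgroup N) := Fintype.ofFinite _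
  haveI : Fintype (↥(P' : Subgroup N) →* ℂˣ) := Fintype.ofFinite _
  have hP'c : Nat.card (P' : Subgroup N) = p :=
    (Nat.card_congr (Subgroup.subgroupOfEquivOfLe hPN).toEquiv).trans hP
  have hgen : Subgroup.normalClosure ((P' : Subgroup N) : Set N) = ⊤ := by
    set T := Subgroup.normalClosure ((P' : Subgroup N) : Set N) with hT
    have hsyl : ∀ Q : Sylow p N, (Q : Subgroup N) ≤ T := by
      intro Q
      obtain ⟨g, rfl⟩ := MulAction.exists_smul_eq N P' Q
      intro z hz
      rw [Sylow.coe_subgroup_smul, Subgroup.mem_pointwise_smul_iff_inv_smul_mem] at hz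
      have h1 := Subgroup.subset_normalClosure (s := ((P' : Subgroup N) : Set N)) hz
      have h2 := Subgroup.Normal.conj_mem (Subgroup.normalClosure_normal) _ h1 g
      simpa [hT, mul_assoc] using h2
    have hle : N ≤ T.map N.subtype := by
      refine (Subgroup.closure_le _).2 fun z hz => ?_
      have hzN : z ∈ N := Subgroup.subset_closure hz
      obtain ⟨x, hx, hxz⟩ := Group.mem_conjugatesOfSet_iff.1 hz
      obtain ⟨g, rfl⟩ := isConj_iff.1 hxz
      have hpg : IsPGroup p (Subgroup.zpowers (⟨g * x * g⁻¹, hzN⟩ : N)) := by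
        obtain ⟨j, hj⟩ := (IsPGroup.iff_orderOf.1 P.isPGroup') ⟨x, hx⟩
        refine IsPGroup.iff_card.2 ⟨j, ?_⟩
        rw [Nat.card_zpowers, Subgroup.orderOf_mk, ← MulAut.conj_apply, MulEquiv.orderOf_eq, ← hj,
          Subgroup.orderOf_mk]
      obtain ⟨Q, hQ⟩ := hpg.exists_le_sylow
      exact ⟨_, hsyl Q (hQ (Subgroup.mem_zpowers _)), rfl⟩
    refine top_le_iff.1 fun z _ => ?_
    obtain ⟨w, hw, hwz⟩ := hle z.2
    rwa [← Subtype.ext hwz]
  have hnnN : ∀ H : Subgroup N, H.Normal → Nat.card H ≠ p := by
    intro H hH hHc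
    have hHpg : IsPGroup p H := IsPGroup.iff_card.2 ⟨1, by rw [hHc, pow_one]⟩
    obtain ⟨Q, hQ⟩ := hHpg.exists_le_sylow
    obtain ⟨g, hg⟩ := MulAction.exists_smul_eq N Q P'
    have hHP : H ≤ (P' : Subgroup N) := by
      rw [← hg, Sylow.coe_subgroup_smul]
      intro z hz
      rw [Subgroup.mem_pointwise_smul_iff_inv_smul_mem]
      refine hQ ?_
      have := hH.conj_mem z hz g⁻¹
      simpa [mul_assoc] using this
    have heq : H = (P' : Subgroup N) :=
      SetLike.coe_injective (Set.eq_of_subset_of_ncard_le hHP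
        (by rw [← Nat.card_coe_set_eq, ← Nat.card_coe_set_eq]; exact (hP'c.trans hHc.symm).le))
    have htop : H = ⊤ := top_le_iff.1 (hgen ▸ Subgroup.normalClosure_le_normal (N := H) (by rw [heq]))
    rw [htop, Subgroup.card_top] at hHc
    exact hnn N Subgroup.normalClosure_normal hHc
  refine main P' hP'c (fun h => hsq (h.trans (Subgroup.card_subgroup_dvd_card N))) hgen hnnN
    (ρ.comp N.subtype) (fun g hg => Subtype.ext (hfaith g ?_)) hn
  simpa [Representation.character] using hg

end Cfsg.Agent.S4503
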