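import Cfsg.Statements.S4504
import Cfsg.Agent.Lib.SmallDegreeFaithful86
-- import your own Cfsg.Agent.* helpers here

set_option autoImplicit false
open Cfsg

namespace Cfsg.Agent.S4504

/-- Let G be a finite group whose order is divisible by the prime p exactly once and which has no normal subgroup of order p. If G has a faithful character of degree exactly (p − 1)/2, then G modulo its centre is isomorphic to PSL(2, p). -/
theorem result {G : Type*} [Group G] [Finite G] (p : ℕ) (hp : p.Prime) (hdiv : p ∣ Nat.card G) (hsq : ¬ p ^ 2 ∣ Nat.card G) (hnn : ∀ H : Subgroup G, H.Normal → Nat.card H ≠ p) (χ : G → ℂ) (hχ : Cfsg.IsCharacter G χ) (hfaith : ∀ g : G, χ g = χ 1 → g = 1) (hdeg : 2 * Cfsg.charDegree χ + 1 = p) : Nonempty ((G ⧸ Subgroup.center G) ≃* Matrix.ProjectiveSpecialLinearGroup (Fin 2) (ZMod p)) := by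
  haveI := Fact.mk hp
  haveI : Fintype G := Fintype.ofFinite G
  obtain ⟨n, ρ, rfl⟩ := hχ
  have hd : Cfsg.charDegree ρ.character = n := by
    simp [Cfsg.charDegree, Representation.character]
  rw [hd] at hdeg
  obtain ⟨x, hx⟩ := exists_prime_orderOf_dvd_card' p hdiv
  have hfac : (Nat.card G).factorization p = 1 := by
    have hge := hp.factorization_pos_of_dvd Nat.card_pos.ne' hdiv
    by_contra hne
    exact hsq ((pow_dvd_pow p (show 2 ≤ _ by omega)).trans (Nat.ordProj_dvd (Nat.card G) p))
  let P : Sylow p G := Sylow.ofCard (Subgroup.zpowers x) (by rw [Nat.card_zpowers, hx, hfac, pow_one])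
  have hP : (P : Subgroup G) = Subgroup.zpowers x := Sylow.coe_ofCard _ _
  refine Cfsg.Agent.SmallDegree86.quotient_center_psl hP hx hsq ?_ hdeg.le ρ ?_ hdeg
  · intro hN
    exact hnn _ hN (by rw [hP, Nat.card_zpowers, hx])
  · intro a b hab
    refine inv_mul_eq_one.1 (hfaith _ ?_)
    have h1 : ρ (a⁻¹ * b) = ρ 1 := by rw [map_mul, ← hab, ← map_mul, inv_mul_cancel]
    simp only [Representation.character, h1]


end Cfsg.Agent.S4504
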