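import Cfsg.Statements.S2288
import Cfsg.Agent.Lib.ShortPresSLFive

set_option autoImplicit false
open Cfsg

namespace Cfsg.Agent.S2288

open ShortPres ShortPresTracked ShortPresCarmichael ShortPresGlue ShortPresSLFive
open scoped MatrixGroups

/-- two letters, three relators for the even permutations of four points -/
theorem alt_four_pres : PresBy (altOn (Finset.univ : Finset (Fin 4))) 2 3 := by
  classical
  have hab : (0 : Fin 4) ≠ 1 := by decide
  let i : Fin 2 → Fin 4 := ![2, 3]
  have hi : ∀ k, i k ≠ 0 ∧ i k ≠ 1 := by decide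
  let x : Fin 2 → altOn (Finset.univ : Finset (Fin 4)) := fun k => el _ (cyc 0 1 (i k))
  have mk : ∀ g : Equiv.Perm (Fin 4), Equiv.Perm.sign g = 1 → g ∈ altOn (Finset.univ : Finset (Fin 4)) :=
    fun g h => ⟨h, fun z hz => absurd (Finset.mem_univ z) hz⟩
  have hx : ∀ k, (x k : Equiv.Perm (Fin 4)) = cyc 0 1 (i k) := fun k => el_coe (mk _ (sign_cyc hab (hi k).2))
  let A : FreeGroup (Fin 2) := FreeGroup.of 0
  let B : FreeGroup (Fin 2) := FreeGroup.of 1
  refine ⟨x, [A * A * A, B * B * B, A * B * (A * B)], by simp, Pres.of_inj ?_ ?_ ?_⟩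
  · simp only [List.forall_mem_cons, List.not_mem_nil, false_imp_iff, implies_true, and_true]
    refine ⟨?_, ?_, ?_⟩ <;> apply Subtype.ext <;> simp [A, B, hx, i] <;> decide
  · apply Subgroup.map_injective (altOn _).subtype_injective
    rw [MonoidHom.map_closure, ← MonoidHom.range_eq_map, Subgroup.range_subtype]
    refine le_antisymm ((Subgroup.closure_le _).mpr ?_) fun g hg => ?_
    · rintro _ ⟨y, -, rfl⟩; exact y.2
    · refine Subgroup.closure_mono ?_
        (mem_closure_cyc hab {2, 3} (by decide) (by decide) g hg.1 fun z hz => absurd hz (by revert z; decide))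
      rintro _ ⟨k, hk, rfl⟩
      simp only [Finset.coe_insert, Finset.coe_singleton, Set.mem_insert_iff, Set.mem_singleton_iff] at hk
      rcases hk with rfl | rfl
      · exact ⟨_, ⟨0, rfl⟩, hx 0⟩
      · exact ⟨_, ⟨1, rfl⟩, hx 1⟩
  · intro H _ y π hπ hgen hy
    simp only [List.forall_mem_cons, List.not_mem_nil, false_imp_iff, implies_true, and_true, A, B, map_mul,
      FreeGroup.lift_apply_of] at hy
    obtain ⟨h0, h1, h01⟩ := hy
    let y' : Fin 4 → H := ![1, 1, y 0, y 1]
    have h10 : y 1 * y 0 * (y 1 * y 0) = 1 := by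
      calc y 1 * y 0 * (y 1 * y 0) = (y 0)⁻¹ * (y 0 * y 1 * (y 0 * y 1)) * y 0 := by group
        _ = 1 := by rw [h01]; group
    have htop : Subgroup.closure (y' '' (({2, 3} : Finset (Fin 4)) : Set (Fin 4))) = ⊤ := by
      rw [eq_top_iff, ← hgen]
      refine Subgroup.closure_mono ?_
      rintro _ ⟨k, rfl⟩
      fin_cases k
      · exact ⟨2, by simp, rfl⟩
      · exact ⟨3, by simp, rfl⟩
    refine (injective_iff_map_eq_one π).mpr fun g hg => eq_one_of_map hab y' ((altOn _).subtype.comp π) {2, 3}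
      (by decide) (by decide) ?_ ?_ ?_ g (htop ▸ Subgroup.mem_top g) (by simp [hg])
    · simp only [Finset.mem_insert, Finset.mem_singleton, forall_eq_or_imp, forall_eq, MonoidHom.comp_apply]
      exact ⟨by show ((π (y 0)) : Equiv.Perm (Fin 4)) = _; rw [hπ]; exact hx 0,
        by show ((π (y 1)) : Equiv.Perm (Fin 4)) = _; rw [hπ]; exact hx 1⟩
    · simp only [Finset.mem_insert, Finset.mem_singleton, forall_eq_or_imp, forall_eq]
      exact ⟨h0, h1⟩
    · simp only [Finset.mem_insert, Finset.mem_singleton, forall_eq_or_imp, forall_eq]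
      exact ⟨⟨fun h => absurd rfl h, fun _ => h01⟩, fun _ => h10, fun h => absurd rfl h⟩

/-- the amalgam -/
theorem sl_pres {F : Type*} [Field F] [Fintype F] (m : ℕ) (hm : 1 ≤ m) {k N : ℕ}
    (hA : PresBy (altOn (Finset.univ : Finset (Fin (3 + m)))) k N) : PresBy SL(3 + m, F) (k + 4) (N + 18) := by
  obtain ⟨ρ, ι, cA, E, hE, hc3, hci, hgen, hsat, hinj⟩ := sl_five (F := F) m hm
  obtain ⟨x, L, hx, hL, hC, hP⟩ := ShortPresSL3Tracked.three_tracked F
  refine PresBy.mono (amalgam_drop hA x L 3 3 hC hP ρ ι hgen cA hc3 (by rw [hx]; exact hci) E hsat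
    fun H _ fA fB π h1 h2 h3 h4 h5 => hinj H fA fB π h1 h2 h3 (by rw [← hx]; exact h4) h5)
    (by split_ifs at hE <;> omega)

/-- passing to the projective group -/
theorem to_psl {F : Type*} [Field F] [Fintype F] {n k N : ℕ} (h : PresBy SL(n, F) k N) :
    PresBy (Matrix.ProjectiveSpecialLinearGroup (Fin n) F) k (N + 1) := by
  have hcyc : IsCyclic (Subgroup.center SL(n, F)) := by
    rcases Nat.eq_zero_or_pos n with h0 | h0
    · subst h0; exact isCyclic_of_subsingleton
    haveI : NeZero n := ⟨by omega⟩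
    let e := Matrix.SpecialLinearGroup.center_equiv_rootsOfUnity (n := Fin n) (R := F)
    exact isCyclic_of_injective e.toMonoidHom e.injective
  obtain ⟨⟨z, hz⟩, hgen⟩ := hcyc.exists_generator
  refine h.quotient (QuotientGroup.mk' _) (QuotientGroup.mk'_surjective _) z
    ((QuotientGroup.eq_one_iff _).mpr hz) fun g hg => ?_
  obtain ⟨i, hi⟩ := hgen ⟨g, (QuotientGroup.ker_mk' _).le hg⟩
  have : g = z ^ i := by have := congrArg Subtype.val hi; simpa using this.symm
  rw [this]
  exact Subgroup.zpow_mem _ (Subgroup.subset_normalClosure (Set.mem_singleton _)) i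

/-- two letters, four relators for the even permutations of five points -/
theorem alt_five_pres : PresBy (altOn (Finset.univ : Finset (Fin 5))) 2 4 := by
  classical
  haveI : Fact (Nat.Prime 3) := ⟨by norm_num⟩
  have e : pts (0 : Fin 5) 1 {2, 3, 4} = Finset.univ := by decide
  obtain ⟨x, R, hR, hP, -⟩ := ShortPresSeven.block_four (α := Fin 5) (a := 0) (b := 1) (by decide) {2, 3, 4}
    (by decide) (by decide) 3 (by norm_num) (by decide) 2 (by decide)
  exact PresBy.congr ⟨x, R, hR, hP⟩ (MulEquiv.subgroupCongr (by rw [e]))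

/-- three letters, seven relators, at least five points -/
theorem alt_big_pres (n : ℕ) (hn : 5 ≤ n) : PresBy (altOn (Finset.univ : Finset (Fin n))) 3 7 := by
  obtain ⟨x, R, hR, hP, -⟩ := ShortPresSeven.alt_seven n hn
  exact PresBy.congr ⟨x, R, hR, hP⟩ (ShortPresSeven.univEquiv n).symm

/-- For every finite field F and n ≥ 4: SL_n(F) has a presentation with 7 generators and at most 25 relations, and PSL_n(F) one with 7 generators and at most 26 relations; moreover SL_4(F) has one with 6 generators and at most 21 relations and SL_5(F) one with 6 generators and at most 22 relations. -/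
theorem result {F : Type*} [Field F] [Fintype F] (n : ℕ) (hn : 4 ≤ n) :
    (∃ rels : Finset (FreeGroup (Fin 7)), rels.card ≤ 25 ∧ Nonempty (PresentedGroup (↑rels : Set (FreeGroup (Fin 7))) ≃* Matrix.SpecialLinearGroup (Fin n) F)) ∧ (∃ rels : Finset (FreeGroup (Fin 7)), rels.card ≤ 26 ∧ Nonempty (PresentedGroup (↑rels : Set (FreeGroup (Fin 7))) ≃* Matrix.ProjectiveSpecialLinearGroup (Fin n) F)) ∧
    (∃ rels : Finset (FreeGroup (Fin 6)), rels.card ≤ 21 ∧ Nonempty (PresentedGroup (↑rels : Set (FreeGroup (Fin 6))) ≃* Matrix.SpecialLinearGroup (Fin 4) F)) ∧ (∃ rels : Finset (FreeGroup (Fin 6)), rels.card ≤ 22 ∧ Nonempty (PresentedGroup (↑rels : Set (FreeGroup (Fin 6))) ≃* Matrix.SpecialLinearGroup (Fin 5) F)) := by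
  have h4 : PresBy SL(4, F) 6 21 := sl_pres (F := F) 1 le_rfl alt_four_pres
  have h5 : PresBy SL(5, F) 6 22 := sl_pres (F := F) 2 (by omega) alt_five_pres
  have h7 : PresBy SL(n, F) 7 25 := by
    rcases Nat.lt_or_ge n 5 with h | h
    · obtain rfl : n = 4 := by omega
      exact h4.pad.mono (by omega)
    · obtain ⟨m, rfl⟩ : ∃ m, n = 3 + m := ⟨n - 3, by omega⟩
      exact sl_pres (F := F) m (by omega) (alt_big_pres _ h)
  exact ⟨h7.presented, (to_psl h7).presented, h4.presented, h5.presented⟩

end Cfsg.Agent.S2288
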