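import Cfsg.Statements.S3710
import Cfsg.Agent.Lib.PhanSmall47
import Cfsg.Agent.Lib.PhanFourThree47

set_option autoImplicit false
open Cfsg

namespace Cfsg.Agent.S3710

/-- Recognition of unitary groups over the field with 9 elements from a weak Phan system. Let F be a field with 9 elements and n ≥ 4. Let G be a group with subgroups U_0, …, U_{n−1}, each isomorphic to SU(2, 9), and, for consecutive indices, subgroups V_{i,i+1} in which U_i and U_{i+1} form a standard pair (via an isomorphism from SU(3, 9) or PSU(3, 9) carrying the block-diagonal subgroups, or their images, onto U_i and U_{i+1}); suppose U_i and U_j commute elementwise whenever the indices differ by at least 2, that G is generated by the U_i and the V_{i,i+1}, and moreover that for each i the subgroup generated by V_{i,i+1} and V_{i+1,i+2} is a homomorphic image of SU(4, 9). Then G is a homomorphic image of SU(n+1, 9). (G is not assumed finite.) -/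
theorem result {G : Type*} [Group G] (n : ℕ) (hn : 4 ≤ n)
    (F : Type*) [Field F] [Fintype F] (hF : Fintype.card F = 9)
    (U : Fin n → Subgroup G) (e : ∀ i, ↥(Cfsg.SU 2 F 3) ≃* ↥(U i))
    (V : Fin n → Fin n → Subgroup G)
    (h1 : ∀ i j : Fin n, (i : ℕ) + 2 ≤ j → ∀ x ∈ U i, ∀ y ∈ U j, x * y = y * x)
    (h2 : ∀ i j : Fin n, (i : ℕ) + 1 = j → Cfsg.IsStandardUnitaryPair (V i j) (U i) (U j) F 3)
    (hgen : (⨆ i, U i) ⊔ (⨆ (i : Fin n) (j : Fin n) (_ : (i : ℕ) + 1 = j), V i j) = ⊤)
    (h4 : ∀ i j k : Fin n, (i : ℕ) + 1 = j → (j : ℕ) + 1 = k →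
      ∃ g : ↥(Cfsg.SU 4 F 3) →* ↥(V i j ⊔ V j k), Function.Surjective g) :
    ∃ f : ↥(Cfsg.SU (n + 1) F 3) →* G, Function.Surjective f := by
  have hF' : Fintype.card F = 3 ^ 2 := by rw [hF]; norm_num
  obtain ⟨C, hψ, hf, hstd⟩ := PhanAlign47.exists_chain hF' (by omega) U V h1 h2 (Or.inl le_rfl)
  refine PhanAlign47.exists_surjection (by omega) U V hgen C hψ hf (Or.inr fun a ha => ?_)
  set W : Subgroup G := V ⟨a, by omega⟩ ⟨a + 1, by omega⟩ ⊔ V ⟨a + 1, by omega⟩ ⟨a + 2, by omega⟩ with hW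
  obtain ⟨g0, hg0⟩ : ∃ g0 : SU 4 F 3 →* W, Function.Surjective g0 :=
    h4 ⟨a, by omega⟩ ⟨a + 1, by omega⟩ ⟨a + 2, by omega⟩ rfl rfl
  set g := W.subtype.comp g0 with hg
  have hr : g.range = W := by
    rw [hg, MonoidHom.range_comp, MonoidHom.range_eq_top.2 hg0, ← MonoidHom.range_eq_map, Subgroup.range_subtype]
  have m0 : ∀ x, C.f a (by omega) x ∈ g.range := fun x => by
    rw [hr]; exact le_sup_left (a := V _ _) ((hf ⟨a, _⟩ ⟨a + 1, _⟩ rfl).le ⟨x, rfl⟩)
  have m1 : ∀ x, C.f (a + 1) (by omega) x ∈ g.range := fun x => by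
    rw [hr]; exact le_sup_right (b := V _ _) ((hf ⟨a + 1, _⟩ ⟨a + 2, _⟩ rfl).le ⟨x, rfl⟩)
  have s0 := hstd a (by omega)
  obtain ⟨y, hy⟩ := m0 (PhanAlign47.B0 (PhanFourThree47.mm hF'))
  have hyne : g y ≠ 1 := fun h => by
    rw [hy] at h
    have h1 : PhanFourThree47.mm hF' = 1 := s0.inj0 (h.trans (map_one _).symm)
    exact PhanFourThree47.mm_ne hF' (by rw [h1]; rfl)
  let D : PhanFourThree47.Data F G :=
    { hF := hF'
      g := g
      hg := PhanFourBase47.ker_le_center hF' g hyne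
      f0 := C.f a (by omega)
      f1 := C.f (a + 1) (by omega)
      s0 := s0
      s1 := hstd (a + 1) (by omega)
      agree := fun x => (C.h1 a (by omega) x).trans (C.h0 (a + 1) (by omega) x).symm
      comm := fun x y => by
        rw [C.h0, C.h1]
        exact C.c22 a (a + 1 + 1) (by omega) (by omega) (by omega) x y
      r0 := m0
      r1 := m1 }
  obtain ⟨φ, p0, p1⟩ := D.exists_hom
  exact ⟨φ, PhanAlign47.good_four C ha _ p0 p1⟩

end Cfsg.Agent.S3710
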