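import Cfsg.Statements.S3711
import Cfsg.Agent.Lib.PhanSmall47
import Cfsg.Agent.Lib.PhanFourTwo47

set_option autoImplicit false
open Cfsg

namespace Cfsg.Agent.S3711

/-- Recognition of unitary groups over the field with 4 elements from a weak Phan system. Let F be a field with 4 elements and n ≥ 4. Let G be a group with subgroups U_0, …, U_{n−1}, each isomorphic to SU(2, 4), and, for consecutive indices, subgroups V_{i,i+1} in which U_i and U_{i+1} form a standard pair (via an isomorphism from SU(3, 4) or PSU(3, 4) carrying the block-diagonal subgroups, or their images, onto U_i and U_{i+1}); suppose U_i and U_j commute elementwise whenever the indices differ by at least 2, that G is generated by the U_i and the V_{i,i+1}, that for each i the subgroup generated by V_{i,i+1} and V_{i+1,i+2} is a homomorphic image of SU(4, 4), that U_i and V_{j,j+1} commute elementwise whenever i ≤ j − 2 or i ≥ j + 3, and that V_{i,i+1} and V_{k,k+1} commute elementwise whenever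 k ≥ i + 3. Then G is a homomorphic image of SU(n+1, 4). (G is not assumed finite.) -/
theorem result {G : Type*} [Group G] (n : ℕ) (hn : 4 ≤ n)
    (F : Type*) [Field F] [Fintype F] (hF : Fintype.card F = 4)
    (U : Fin n → Subgroup G) (e : ∀ i, ↥(Cfsg.SU 2 F 2) ≃* ↥(U i))
    (V : Fin n → Fin n → Subgroup G)
    (h1 : ∀ i j : Fin n, (i : ℕ) + 2 ≤ j → ∀ x ∈ U i, ∀ y ∈ U j, x * y = y * x)
    (h2 : ∀ i j : Fin n, (i : ℕ) + 1 = j → Cfsg.IsStandardUnitaryPair (V i j) (U i) (U j) F 2)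
    (hgen : (⨆ i, U i) ⊔ (⨆ (i : Fin n) (j : Fin n) (_ : (i : ℕ) + 1 = j), V i j) = ⊤)
    (h4 : ∀ i j k : Fin n, (i : ℕ) + 1 = j → (j : ℕ) + 1 = k →
      ∃ g : ↥(Cfsg.SU 4 F 2) →* ↥(V i j ⊔ V j k), Function.Surjective g)
    (h5 : ∀ i j k : Fin n, (j : ℕ) + 1 = k → ((i : ℕ) + 2 ≤ j ∨ (k : ℕ) + 2 ≤ i) →
      ∀ x ∈ U i, ∀ y ∈ V j k, x * y = y * x)
    (h6 : ∀ i j k l : Fin n, (i : ℕ) + 1 = j → (k : ℕ) + 1 = l → (j : ℕ) + 2 ≤ k →
      ∀ x ∈ V i j, ∀ y ∈ V k l, x * y = y * x) :
    ∃ f : ↥(Cfsg.SU (n + 1) F 2) →* G, Function.Surjective f := by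
  have hF' : Fintype.card F = 2 ^ 2 := by rw [hF]; norm_num
  obtain ⟨C, hψ, hf, hstd⟩ := PhanAlign47.exists_chain hF' (by omega) U V h1 h2 (Or.inr ⟨h5, h6⟩)
  refine PhanAlign47.exists_surjection (by omega) U V hgen C hψ hf (Or.inr fun a ha => ?_)
  set W : Subgroup G := V ⟨a, by omega⟩ ⟨a + 1, by omega⟩ ⊔ V ⟨a + 1, by omega⟩ ⟨a + 2, by omega⟩ with hW
  obtain ⟨g0, hg0⟩ : ∃ g0 : SU 4 F 2 →* W, Function.Surjective g0 := h4 ⟨a, by omega⟩ ⟨a + 1, by omega⟩ ⟨a + 2, by omega⟩ rfl rfl
  set g := W.subtype.comp g0 with hg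
  have hr : g.range = W := by
    rw [hg, MonoidHom.range_comp, MonoidHom.range_eq_top.2 hg0, ← MonoidHom.range_eq_map, Subgroup.range_subtype]
  have m0 : ∀ x, C.f a (by omega) x ∈ g.range := fun x => by
    rw [hr]; exact le_sup_left (a := V _ _) ((hf ⟨a, _⟩ ⟨a + 1, _⟩ rfl).le ⟨x, rfl⟩)
  have m1 : ∀ x, C.f (a + 1) (by omega) x ∈ g.range := fun x => by
    rw [hr]; exact le_sup_right (b := V _ _) ((hf ⟨a + 1, _⟩ ⟨a + 2, _⟩ rfl).le ⟨x, rfl⟩)
  have s0 := hstd a (by omega)
  have s1 := hstd (a + 1) (by omega)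
  obtain ⟨w, hw⟩ := PhanFrame47.exists_root (q := 2) hF'
  obtain ⟨y, hy⟩ := m0 (PhanAlign47.B0 (PhanFourTwo47.dd hF' hw))
  have hyne : g y ≠ 1 := fun h => by
    rw [hy] at h
    have h1 : PhanFourTwo47.dd hF' hw = 1 := s0.inj0 (h.trans (map_one _).symm)
    exact PhanFourTwo47.dd_ne hF' hw (by rw [h1]; rfl)
  have hinj : Function.Injective g := by
    rw [injective_iff_map_eq_one]
    intro z hz
    obtain ⟨χ, hχ⟩ := PhanFourStd47.act_scalar hF' (by omega) (PhanFourBase47.ker_le_center hF' g hyne hz)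
    have h3 : χ ^ 3 = 1 := by
      have h := OrthUnitaryTransvection.herm_act z (Pi.single 0 1) (Pi.single 0 1)
      rw [hχ, PhanBlocks47.herm_smul_self, PhanBlocks47.herm_single_self hF', mul_one] at h
      linear_combination h
    have h4' : χ ^ 4 = 1 := by
      have hd : (PhanAut47.mat z).det = 1 := z.1.2
      have hm : PhanAut47.mat z = Matrix.diagonal fun _ => χ := Matrix.ext fun i j => by
        rw [PhanAlign47.mat_apply, hχ, Matrix.diagonal_apply]
        by_cases hij : i = j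
        · subst hij; simp
        · simp [hij]
      simpa [hm, Matrix.det_diagonal] using hd
    have hx1 : χ = 1 := by linear_combination h4' - χ * h3
    exact OrthUnitaryTransvection.su_ext fun v => by rw [OrthUnitaryTransvection.act_one, hχ, hx1, one_smul]
  let eg := MonoidHom.ofInjective hinj
  let F0 : SU 3 F 2 →* SU 4 F 2 := eg.symm.toMonoidHom.comp ((C.f a (by omega)).codRestrict g.range m0)
  let F1 : SU 3 F 2 →* SU 4 F 2 := eg.symm.toMonoidHom.comp ((C.f (a + 1) (by omega)).codRestrict g.range m1)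
  have e0 : ∀ x, g (F0 x) = C.f a (by omega) x := fun x => congrArg Subtype.val (eg.apply_symm_apply ⟨_, m0 x⟩)
  have e1 : ∀ x, g (F1 x) = C.f (a + 1) (by omega) x := fun x => congrArg Subtype.val (eg.apply_symm_apply ⟨_, m1 x⟩)
  let D : PhanFourTwo47.Data F :=
    { F0 := F0
      F1 := F1
      s0 := PhanAlign47.std_of_ker hF' fun z hz => s0.ker_le (by
        rw [MonoidHom.mem_ker, ← e0, show F0 z = 1 from hz, map_one])
      s1 := PhanAlign47.std_of_ker hF' fun z hz => s1.ker_le (by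
        rw [MonoidHom.mem_ker, ← e1, show F1 z = 1 from hz, map_one])
      agree := fun x => hinj (by rw [e0, e1, C.h1, C.h0])
      comm := fun x y => hinj (by
        rw [map_mul, map_mul, e0, e1, C.h0, C.h1]
        exact (C.c22 a (a + 1 + 1) (by omega) (by omega) (by omega) x y).eq) }
  obtain ⟨φ, p0, p1⟩ := PhanFourTwo47.exists_hom hF' D
  exact ⟨g.comp φ, PhanAlign47.good_four C ha _ (fun x => (congrArg g (p0 x)).trans (e0 x))
    (fun x => (congrArg g (p1 x)).trans (e1 x))⟩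

end Cfsg.Agent.S3711
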