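import Cfsg.Statements.S0173
import Cfsg.Agent.Lib.CharBasicPerm

set_option autoImplicit false
open Cfsg

namespace Cfsg.Agent.S0173

open Cfsg.Agent.CharBasic Cfsg.Agent.CharBasicOrth Cfsg.Agent.CharBasicDecomp


/-- Brauer's permutation lemma for a single automorphism: the number of conjugacy classes mapped to themselves equals the number of irreducible complex characters χ with χ ∘ α = χ. -/
theorem result {G : Type*} [Group G] [Finite G] (α : G ≃* G) : Nat.card {C : ConjClasses G // ConjClasses.map α.toMonoidHom C = C} = Nat.card {χ : Cfsg.IrrCharacter G // (χ : G → ℂ) ∘ α = (χ : G → ℂ)} := by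
  have h := CharBasicPerm.card_fixed (fun g : G => α g)
    (fun C => ConjClasses.map α.toMonoidHom C = C)
    (fun g => by rw [show ConjClasses.map α.toMonoidHom (ConjClasses.mk g) = ConjClasses.mk (α g) from rfl,
      ConjClasses.mk_eq_mk_iff_isConj])
    (fun χ => ⟨(χ : G → ℂ) ∘ α, isIrrCharacter_comap α.toMonoidHom α.surjective χ.2⟩)
    (fun χ g => rfl)
  rw [h]
  exact Nat.card_congr (Equiv.subtypeEquivRight fun χ => Subtype.ext_iff)

end Cfsg.Agent.S0173
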