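import Cfsg.Statements.S0191
import Cfsg.Agent.Lib.CharBasicInt
import Cfsg.Agent.Lib.CharBasicCyclic

set_option autoImplicit false
open Cfsg

namespace Cfsg.Agent.S0191

open Cfsg.Agent.CharBasic Cfsg.Agent.CharBasicOrth Cfsg.Agent.CharBasicDecomp Cfsg.Agent.CharBasicCyclic
open scoped ComplexConjugate

theorem prod_norm_sq_ge_one {G : Type*} [Group G] [Fintype G] (g : G) {χ : G → ℂ}
    (hχ : Cfsg.IsCharacter G χ) (hne : ∀ x, χ x ≠ 0) :
    (1 : ℝ) ≤ ∏ a ∈ gens (Subgroup.zpowers g), ‖χ a‖ ^ 2 := by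
  classical
  set A := Subgroup.zpowers g with hA
  have hcomm : ∀ a b : A, a * b = b * a := fun a b => Std.Commutative.comm a b
  let M := (Finset.range (orderOf g)).filter fun m => m.Coprime (orderOf g)
  have hM : gens A = M.image (fun m => g ^ m) := by
    ext a
    rw [gens_eq_image, Finset.mem_image]
    constructor
    · rintro ⟨m, hm, rfl⟩
      refine ⟨m % orderOf g, ?_, pow_mod_orderOf g m⟩
      simp only [M, Finset.mem_filter, Finset.mem_range]
      exact ⟨Nat.mod_lt _ (isOfFinOrder_of_finite g).orderOf_pos,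
        (Nat.ModEq.gcd_eq (Nat.mod_modEq m _)).trans hm⟩
    · rintro ⟨m, hm, rfl⟩
      exact ⟨m, (Finset.mem_filter.1 hm).2, rfl⟩
  have hinjM : Set.InjOn (fun m => g ^ m) M := by
    intro i hi j hj h
    rw [Finset.mem_coe, Finset.mem_filter, Finset.mem_range] at hi hj
    exact pow_injOn_Iio_orderOf hi.1 hj.1 h
  let θ : A → ℂ := ∏ m ∈ M, fun a : A => χ ((a : G) ^ m) * conj (χ ((a : G) ^ m))
  have hθ : Cfsg.IsCharacter A θ := by
    refine Finset.prod_induction _ (Cfsg.IsCharacter A) (fun _ _ h h' => isCharacter_mul h h')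
      isCharacter_one fun m _ => ?_
    let f : A →* G := A.subtype.comp
      { toFun := fun a => a ^ m, map_one' := one_pow m,
        map_mul' := fun a b => (show Commute a b from hcomm a b).mul_pow m }
    exact isCharacter_comap f (isCharacter_mul hχ (isCharacter_conj hχ))
  have hval : ∀ a (ha : a ∈ gens A), ∀ (haA : a ∈ A),
      θ ⟨a, haA⟩ = ((∏ x ∈ gens A, ‖χ x‖ ^ 2 : ℝ) : ℂ) := by
    intro a ha haA
    simp only [θ, Finset.prod_apply, Complex.ofReal_prod]
    have haeq : gens A = M.image (fun m => a ^ m) := by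
      rw [hM]
      obtain ⟨j, hj, rfl⟩ := (gens_eq_image g a).1 ha
      refine (Finset.eq_of_subset_of_card_le ?_ ?_).symm
      · intro x hx
        obtain ⟨m, hm, rfl⟩ := Finset.mem_image.1 hx
        rw [← hM, gens_eq_image]
        exact ⟨j * m, Nat.Coprime.mul_left hj (Finset.mem_filter.1 hm).2, pow_mul g j m⟩
      · rw [Finset.card_image_of_injOn hinjM, Finset.card_image_of_injOn]
        intro i hi k hk h
        rw [Finset.mem_coe, Finset.mem_filter, Finset.mem_range] at hi hk
        have hord : orderOf (g ^ j) = orderOf g := Nat.Coprime.orderOf_pow hj.symm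
        exact pow_injOn_Iio_orderOf (x := g ^ j) (by simpa [hord] using hi.1)
          (by simpa [hord] using hk.1) h
    have hinja : Set.InjOn (fun m => a ^ m) M := by
      rw [← Finset.card_image_iff, ← haeq, hM, Finset.card_image_of_injOn hinjM]
    rw [haeq, Finset.prod_image hinja]
    refine Finset.prod_congr rfl fun m _ => ?_
    rw [Complex.mul_conj', Complex.ofReal_pow]
  obtain ⟨z, hz⟩ := exists_int_sum_gens_char A (Subgroup.isCyclic_zpowers g) θ
    (isGeneralizedCharacter_of_isCharacter hθ) (fun x => if h : x ∈ A then θ ⟨x, h⟩ else 0)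
    (fun a => dif_pos a.2)
  have hmem : ∀ a ∈ gens A, a ∈ A := fun a ha => mem_gens.1 ha ▸ Subgroup.mem_zpowers a
  rw [Finset.sum_congr rfl fun a ha => by rw [dif_pos (hmem a ha), hval a ha (hmem a ha)],
    Finset.sum_const, nsmul_eq_mul] at hz
  set P : ℝ := ∏ x ∈ gens A, ‖χ x‖ ^ 2 with hP
  have hpos : 0 < P := Finset.prod_pos fun x _ => pow_pos (norm_pos_iff.2 (hne x)) 2
  have hcard : 0 < (gens A).card := Finset.card_pos.2 ⟨g, mem_gens.2 rfl⟩
  have hint : IsIntegral ℤ (P : ℂ) := by
    have hgA : g ∈ A := Subgroup.mem_zpowers g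
    rw [← hval g (mem_gens.2 rfl) hgA]
    exact isCharacter_integral hθ _
  have hPq : (P : ℂ) = algebraMap ℚ ℂ ((z : ℚ) / (gens A).card) := by
    rw [map_div₀, eq_div_iff (by simpa using hcard.ne')]
    simpa [mul_comm] using hz
  rw [hPq, isIntegral_algebraMap_iff (algebraMap ℚ ℂ).injective] at hint
  obtain ⟨w, hw⟩ := IsIntegrallyClosed.isIntegral_iff.1 hint
  rw [← hw] at hPq
  have hPw : P = (w : ℝ) := by
    apply Complex.ofReal_injective
    rw [hPq]; simp
  rw [hPw] at hpos ⊢
  exact_mod_cast (show (0 : ℤ) < w from by exact_mod_cast hpos)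


/-- An irreducible complex representation of a finite group of degree greater than 1 has a character that vanishes somewhere. -/
theorem result {G : Type*} [Group G] [Finite G] {V : Type*} [AddCommGroup V] [Module ℂ V] [FiniteDimensional ℂ V] (ρ : Representation ℂ G V) [ρ.IsIrreducible] (hdeg : 1 < Module.finrank ℂ V) : ∃ g : G, ρ.character g = 0 := by
  classical
  have := Fintype.ofFinite G
  by_contra hno
  push Not at hno
  have hχ := isCharacter_of_rep ρ
  have hsum : ∑ g, ‖ρ.character g‖ ^ 2 = (Nat.card G : ℝ) := by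
    have h := classInner_self_re ρ.character
    rw [classInner_character_irreducible_self, Complex.one_re] at h
    field_simp at h
    linarith
  have hgens : ∀ B : Subgroup G,
      ((gens B).card : ℝ) ≤ ∑ a ∈ gens B, ‖ρ.character a‖ ^ 2 := by
    intro B
    rcases (gens B).eq_empty_or_nonempty with h0 | ⟨g, hg⟩
    · simp [h0]
    · rw [← mem_gens.1 hg]
      set s := gens (Subgroup.zpowers g) with hs
      have hc : 0 < s.card := Finset.card_pos.2 ⟨g, mem_gens.2 rfl⟩
      have hw : ∑ _a ∈ s, (1 / (s.card : ℝ)) = 1 := by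
        rw [Finset.sum_const, nsmul_eq_mul, mul_one_div, div_self]
        exact_mod_cast hc.ne'
      have h2 := Real.geom_mean_le_arith_mean_weighted s (fun _ => 1 / (s.card : ℝ))
        (fun a => ‖ρ.character a‖ ^ 2) (fun _ _ => by positivity) hw (fun _ _ => sq_nonneg _)
      have h3 : (1 : ℝ) ≤ ∏ a ∈ s, (‖ρ.character a‖ ^ 2) ^ (1 / (s.card : ℝ)) := by
        rw [Real.finsetProd_rpow _ _ (fun _ _ => sq_nonneg _)]
        exact Real.one_le_rpow (prod_norm_sq_ge_one g hχ hno) (by positivity)
      have h4 := h3.trans h2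
      rw [← Finset.mul_sum, one_div, inv_mul_eq_div, le_div_iff₀ (by exact_mod_cast hc), one_mul] at h4
      exact h4
  have h1 : ‖ρ.character 1‖ ^ 2 = (Module.finrank ℂ V : ℝ) ^ 2 := by simp
  have hbot : gens (⊥ : Subgroup G) = {1} := by
    ext a; simp [mem_gens, Subgroup.zpowers_eq_bot]
  have htot : ∀ f : G → ℝ, ∑ B : Subgroup G, ∑ a ∈ gens B, f a = ∑ a, f a := by
    intro f
    exact Finset.sum_fiberwise_of_maps_to (fun a _ => Finset.mem_univ (Subgroup.zpowers a)) f
  have hlt : ∑ B : Subgroup G, ((gens B).card : ℝ) <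
      ∑ B : Subgroup G, ∑ a ∈ gens B, ‖ρ.character a‖ ^ 2 := by
    refine Finset.sum_lt_sum (fun B _ => hgens B) ⟨⊥, Finset.mem_univ _, ?_⟩
    rw [hbot, Finset.card_singleton, Finset.sum_singleton, h1, Nat.cast_one]
    have : (2 : ℝ) ≤ (Module.finrank ℂ V : ℝ) := by exact_mod_cast hdeg
    nlinarith
  have hcount := htot fun _ => 1
  simp only [Finset.sum_const, nsmul_eq_mul, mul_one, Finset.card_univ] at hcount
  rw [htot, hsum, hcount, Nat.card_eq_fintype_card] at hlt
  exact lt_irrefl _ hlt

end Cfsg.Agent.S0191
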