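import Cfsg.Statements.S4558
import Mathlib
import Cfsg.Agent.Lib.CharBasic

set_option autoImplicit false
open Cfsg

namespace Cfsg.Agent.S4558


/-- Let χ be a character of the finite group G and g an element of p-power order for the prime p. If χ g = 0, then p divides the degree of χ. -/
theorem result {G : Type*} [Group G] [Finite G] (p : ℕ) [Fact p.Prime] (χ : G → ℂ) (hχ : Cfsg.IsCharacter G χ) (g : G) (hg : ∃ j : ℕ, orderOf g = p ^ j) (h0 : χ g = 0) : p ∣ Cfsg.charDegree χ := by
  classical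
  obtain ⟨n, ρ, rfl⟩ := hχ
  obtain ⟨b, μ, -, hμ, -, hpow⟩ := Cfsg.Agent.CharBasic.exists_rep_eigenbasis ρ g
  obtain ⟨j, hj⟩ := hg
  have hdeg : Cfsg.charDegree ρ.character = n := by
    simp [Cfsg.charDegree, Representation.char_one]
  rw [hdeg]
  have hcard : Module.finrank ℂ (Fin n → ℂ) = n := by simp
  rcases j with _ | j
  · have h1 : g = 1 := orderOf_eq_one_iff.1 (by simpa using hj)
    rw [h1, Representation.char_one, Nat.cast_eq_zero, hcard] at h0
    simp [h0]
  · haveI : NeZero (p ^ (j + 1)) := ⟨pow_ne_zero _ (Fact.out : p.Prime).ne_zero⟩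
    set ζ : ℂ := Complex.exp (2 * Real.pi * Complex.I / ((p ^ (j + 1) : ℕ) : ℂ)) with hζ
    have hprim : IsPrimitiveRoot ζ (p ^ (j + 1)) :=
      Complex.isPrimitiveRoot_exp _ (pow_ne_zero _ (Fact.out : p.Prime).ne_zero)
    choose k _ hk using fun i => hprim.eq_pow_of_pow_eq_one (hj ▸ hμ i)
    let f : Polynomial ℤ := ∑ i, Polynomial.X ^ k i
    have hf : Polynomial.aeval ζ f = 0 := by
      have h1 := hpow 1
      rw [pow_one] at h1
      simp only [f, map_sum, map_pow, Polynomial.aeval_X, hk]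
      simpa [h0] using h1.symm
    have hdvd : Polynomial.cyclotomic (p ^ (j + 1)) ℤ ∣ f := by
      rw [Polynomial.cyclotomic_eq_minpoly hprim (pow_pos (Fact.out : p.Prime).pos _)]
      exact minpoly.isIntegrallyClosed_dvd (hprim.isIntegral (pow_pos (Fact.out : p.Prime).pos _)) hf
    have h2 := Polynomial.eval_dvd (x := (1 : ℤ)) hdvd
    simp [f, Polynomial.eval_one_cyclotomic_prime_pow, Polynomial.eval_finset_sum, hcard] at h2
    exact_mod_cast h2

end Cfsg.Agent.S4558
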