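import Mathlib
import Cfsg.Statements.S0719
import Cfsg.Agent.Lib.PermOrbital28

set_option autoImplicit false
open Cfsg

namespace Cfsg.Agent.S0719

open Cfsg.Agent.CharBasic Cfsg.Agent.CharBasicOrth Cfsg.Agent.CharBasicDecomp
open Cfsg.Agent.PermCentralizer28 Cfsg.Agent.PermOrbital28

/-- The arithmetic of a rank three group of Wielandt type. -/
theorem arith {m d u : ℤ} (hd : 1 < d) (hdm : d ≤ m - 1)
    (h : 2 * (d + (m - 1) * u) ^ 2 + (m - 1) * u ^ 2 = 2 * d) :
    ∃ a : ℕ, 0 < a ∧ m = 2 * (a : ℤ) ^ 2 + 2 * a + 1 ∧ d = (a : ℤ) * (2 * a + 1) := by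
  have hm : 0 < m - 1 := by omega
  have hu : u ^ 2 ≤ 2 := by
    by_contra hc
    have := mul_le_mul_of_nonneg_left (show (3 : ℤ) ≤ u ^ 2 by omega) hm.le
    nlinarith [sq_nonneg (d + (m - 1) * u)]
  have h1 : -1 ≤ u := by nlinarith
  have h2 : u ≤ 1 := by nlinarith
  interval_cases u
  · refine ⟨(m - 1 - d).toNat, ?_, ?_, ?_⟩
    · rcases (show 0 ≤ m - 1 - d by omega).lt_or_eq with ht | ht
      · omega
      · exfalso
        have : d = m - 1 := by omega
        subst this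
        simp at h
        nlinarith
    all_goals rw [Int.toNat_of_nonneg (by omega)]
    · nlinarith
    · nlinarith
  · exfalso
    simp at h
    rcases mul_left_cancel₀ (show (2 : ℤ) ≠ 0 by norm_num) (show 2 * (d * d) = 2 * (d * 1) by nlinarith) with h'
    have := mul_left_cancel₀ (show d ≠ 0 by omega) h'
    omega
  · exfalso
    nlinarith



/-- Groups of Wielandt type: if a primitive group of degree `2m` has rank 3 and permutation character `1 + χ₁ + χ₂` with irreducible `χ₁, χ₂` of degrees `m - 1` and `m`, then `m = 2a² + 2a + 1` for some positive integer `a` and the two non-trivial subdegrees are `a(2a+1)` and `(a+1)(2a+1)`. -/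
theorem result {G : Type*} [Group G] [Fintype G] {Ω : Type*} [Fintype Ω] [MulAction G Ω] (hprim : MulAction.IsPreprimitive G Ω) {m : ℕ} (hm : Fintype.card Ω = 2 * m) (a₀ : Ω) (hrank : Nat.card (MulAction.orbitRel.Quotient (MulAction.stabilizer G a₀) Ω) = 3) (χ₁ χ₂ : G → ℂ) (h₁ : Cfsg.IsIrrCharacter G χ₁) (h₂ : Cfsg.IsIrrCharacter G χ₂) (hπ : (fun g : G => (Nat.card (MulAction.fixedBy Ω g) : ℂ)) = fun g => 1 + χ₁ g + χ₂ g) (hd₁ : χ₁ 1 = (m : ℂ) - 1) (hd₂ : χ₂ 1 = m) : ∃ a : ℕ, 0 < a ∧ m = 2 * a ^ 2 + 2 * a + 1 ∧ ∀ b : Ω, b ≠ a₀ → Nat.card (MulAction.orbit (MulAction.stabilizer G a₀) b) = a * (2 * a + 1) ∨ Nat.card (MulAction.orbit (MulAction.stabilizer G a₀) b) = (a + 1) * (2 * a + 1) := by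
  classical
  haveI := hprim
  haveI : Nonempty Ω := ⟨a₀⟩
  set H := MulAction.stabilizer G a₀ with hH
  set Q := MulAction.orbitRel.Quotient H Ω with hQ
  set ρ := Cfsg.permRep ℂ G Ω with hρ
  have hmpos : 2 ≤ m := by
    have : Nat.card Q ≤ Fintype.card Ω := by
      rw [← Nat.card_eq_fintype_card]
      exact Nat.card_le_card_of_surjective _ Quotient.mk_surjective
    rw [hrank, hm] at this
    omega
  -- the multiplicities
  have hπ' : pc G Ω = (fun _ => 1) + χ₁ + χ₂ := hπ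
  have hc1 := isCharacter_of_isIrrCharacter h₁
  have hc2 := isCharacter_of_isIrrCharacter h₂
  have h1triv : Cfsg.IsIrrCharacter G (fun _ : G => (1 : ℂ)) := isIrrCharacter_one
  have hne12 : χ₁ ≠ χ₂ := fun e => by
    have := congrFun e 1
    rw [hd₁, hd₂] at this
    exact one_ne_zero (sub_eq_self.1 this)
  obtain ⟨hne1, hne2⟩ : χ₁ ≠ (fun _ => 1) ∧ χ₂ ≠ (fun _ => 1) := by
    have h := classInner_pc_one (G := G) (Ω := Ω)
    rw [hπ', classInner_add_left, classInner_add_left, classInner_irr_self h1triv] at h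
    constructor
    · intro e
      rw [e, classInner_irr_self h1triv,
        classInner_irr_ne h₂ h1triv (fun e' => hne12 (e.trans e'.symm))] at h
      norm_num at h
    · intro e
      rw [e, classInner_irr_self h1triv,
        classInner_irr_ne h₁ h1triv (fun e' => hne12 (e'.trans e.symm))] at h
      norm_num at h
  have hp1 : Cfsg.classInner ρ.character χ₁ = 1 := by
    rw [character_eq, hπ', classInner_add_left, classInner_add_left, classInner_irr_self h₁,
      classInner_irr_ne h1triv h₁ hne1.symm, classInner_irr_ne h₂ h₁ hne12.symm, zero_add, add_zero]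
  have hp2 : Cfsg.classInner ρ.character χ₂ = 1 := by
    rw [character_eq, hπ', classInner_add_left, classInner_add_left, classInner_irr_self h₂,
      classInner_irr_ne h1triv h₂ hne2.symm, classInner_irr_ne h₁ h₂ hne12, zero_add, zero_add]
  have hp0 : ∀ ψ : Cfsg.IrrCharacter G, (ψ : G → ℂ) ≠ (fun _ => 1) → (ψ : G → ℂ) ≠ χ₁ → (ψ : G → ℂ) ≠ χ₂ →
      Cfsg.classInner ρ.character (ψ : G → ℂ) = 0 := fun ψ e0 e1 e2 => by
    rw [character_eq, hπ', classInner_add_left, classInner_add_left, classInner_irr_ne h1triv ψ.2 e0.symm,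
      classInner_irr_ne h₁ ψ.2 e1.symm, classInner_irr_ne h₂ ψ.2 e2.symm, add_zero, add_zero]
  have hdeg : ∀ {A : Module.End ℂ (Ω → ℂ)}, Commutes ρ A →
      tf ρ A 1 = Cfsg.classInner (tf ρ A) (fun _ => 1) + Cfsg.classInner (tf ρ A) χ₁ * ((m : ℂ) - 1) +
        Cfsg.classInner (tf ρ A) χ₂ * (m : ℂ) := by
    intro A hA
    have h := congrFun (eq_sum_classInner (isClassFunction_tf ρ hA)) 1
    rw [Finset.sum_apply] at h
    have hsub : ({⟨_, h1triv⟩, ⟨χ₁, h₁⟩, ⟨χ₂, h₂⟩} : Finset (Cfsg.IrrCharacter G)) ⊆ Finset.univ :=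
      Finset.subset_univ _
    rw [← Finset.sum_subset hsub (fun ψ _ hψ => by
      simp only [Finset.mem_insert, Finset.mem_singleton, not_or, Subtype.ext_iff] at hψ
      rw [Pi.smul_apply, classInner_tf_eq_zero ρ hA (isCharacter_of_isIrrCharacter ψ.2)
        (hp0 ψ hψ.1 hψ.2.1 hψ.2.2), zero_smul])] at h
    rw [Finset.sum_insert (by simp [Subtype.ext_iff, hne1.symm, hne2.symm]),
      Finset.sum_insert (by simp [Subtype.ext_iff, hne12]), Finset.sum_singleton] at h
    simp only [Pi.smul_apply, smul_eq_mul, hd₁, hd₂, mul_one] at h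
    rw [h]
    ring
  -- the suborbits
  have hmk : ∀ x y : Ω, (Quotient.mk _ x : Q) = Quotient.mk _ y ↔ ∃ k : H, k • y = x := fun x y =>
    ⟨fun e => Quotient.exact e, fun e => Quotient.sound e⟩
  have hq0 : ∀ x : Ω, (Quotient.mk _ x : Q) = Quotient.mk _ a₀ → x = a₀ := fun x e => by
    obtain ⟨k, hk⟩ := (hmk x a₀).1 e
    exact hk.symm.trans (MulAction.mem_stabilizer_iff.1 k.2)
  let dd : Ω → ℕ := fun x => Nat.card (MulAction.orbit H x)
  haveI : Fintype Q := Fintype.ofFinite Q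
  have hQc : ((Finset.univ : Finset Q).erase (Quotient.mk _ a₀)).card = 2 := by
    rw [Finset.card_erase_of_mem (Finset.mem_univ _), Finset.card_univ, ← Nat.card_eq_fintype_card, hrank]
  obtain ⟨q₁, q₂, hq12, hQe⟩ := Finset.card_eq_two.1 hQc
  obtain ⟨b₁, rfl⟩ := Quotient.mk_surjective q₁
  obtain ⟨b₂, rfl⟩ := Quotient.mk_surjective q₂
  have hb₁ : b₁ ≠ a₀ := fun e => (Finset.mem_erase.1 (hQe ▸ Finset.mem_insert_self _ _ :
    (Quotient.mk _ b₁ : Q) ∈ (Finset.univ : Finset Q).erase (Quotient.mk _ a₀))).1 (by rw [e])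
  have hb₂ : b₂ ≠ a₀ := fun e => (Finset.mem_erase.1 (hQe ▸ Finset.mem_insert_of_mem (Finset.mem_singleton_self _) :
    (Quotient.mk _ b₂ : Q) ∈ (Finset.univ : Finset Q).erase (Quotient.mk _ a₀))).1 (by rw [e])
  have hcases : ∀ x, x ≠ a₀ → (∃ k : H, k • b₁ = x) ∨ ∃ k : H, k • b₂ = x := by
    intro x hx
    have : (Quotient.mk _ x : Q) ∈ (Finset.univ : Finset Q).erase (Quotient.mk _ a₀) :=
      Finset.mem_erase.2 ⟨fun e => hx (hq0 x e), Finset.mem_univ _⟩
    rw [hQe, Finset.mem_insert, Finset.mem_singleton] at this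
    exact this.imp (fun e => (hmk _ _).1 e) (fun e => (hmk _ _).1 e)
  have hsum : dd b₁ + dd b₂ + 1 = 2 * m := by
    have h1 : Fintype.card Ω = ∑ q : Q, Nat.card (MulAction.orbitRel.Quotient.orbit q) := by
      rw [← Nat.card_eq_fintype_card, Nat.card_congr (MulAction.selfEquivSigmaOrbits' H Ω), Nat.card_sigma]
    rw [← Finset.add_sum_erase _ _ (Finset.mem_univ (Quotient.mk _ a₀ : Q)), hQe, Finset.sum_pair hq12, hm] at h1
    have h0 : Nat.card (MulAction.orbitRel.Quotient.orbit (Quotient.mk _ a₀ : Q)) = 1 := by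
      refine Nat.card_eq_one_iff_unique.2 ⟨⟨fun x y => Subtype.ext ?_⟩,
        ⟨⟨a₀, MulAction.mem_orbit_self a₀⟩⟩⟩
      obtain ⟨k, hk⟩ := (x.2 : (x : Ω) ∈ MulAction.orbit H a₀)
      obtain ⟨l, hl⟩ := (y.2 : (y : Ω) ∈ MulAction.orbit H a₀)
      rw [← hk, ← hl]
      exact (MulAction.mem_stabilizer_iff.1 k.2).trans (MulAction.mem_stabilizer_iff.1 l.2).symm
    have e1 : Nat.card (MulAction.orbitRel.Quotient.orbit (Quotient.mk _ b₁ : Q)) = dd b₁ := rfl
    have e2 : Nat.card (MulAction.orbitRel.Quotient.orbit (Quotient.mk _ b₂ : Q)) = dd b₂ := rfl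
    rw [h0, e1, e2] at h1
    omega
  -- the main computation, for the smaller suborbit
  suffices key : ∀ b b' : Ω, b ≠ a₀ → b' ≠ a₀ → (Quotient.mk _ b : Q) ≠ Quotient.mk _ b' →
      (∀ x, x ≠ a₀ → (∃ k : H, k • b = x) ∨ ∃ k : H, k • b' = x) → dd b + dd b' + 1 = 2 * m →
      dd b ≤ m - 1 → ∃ a : ℕ, 0 < a ∧ m = 2 * a ^ 2 + 2 * a + 1 ∧ dd b = a * (2 * a + 1) ∧
        dd b' = (a + 1) * (2 * a + 1) by
    have hfin : ∀ b b', (∀ x, x ≠ a₀ → (∃ k : H, k • b = x) ∨ ∃ k : H, k • b' = x) →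
        (∃ a : ℕ, 0 < a ∧ m = 2 * a ^ 2 + 2 * a + 1 ∧ dd b = a * (2 * a + 1) ∧
          dd b' = (a + 1) * (2 * a + 1)) →
        ∃ a : ℕ, 0 < a ∧ m = 2 * a ^ 2 + 2 * a + 1 ∧ ∀ c : Ω, c ≠ a₀ →
          Nat.card (MulAction.orbit H c) = a * (2 * a + 1) ∨
            Nat.card (MulAction.orbit H c) = (a + 1) * (2 * a + 1) := by
      rintro b b' hc ⟨a, ha, hma, hb, hb'⟩
      refine ⟨a, ha, hma, fun c hca => ?_⟩
      rcases hc c hca with ⟨k, rfl⟩ | ⟨k, rfl⟩
      · left; rw [MulAction.orbit_eq_iff.2 (MulAction.mem_orbit b k)]; exact hb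
      · right; rw [MulAction.orbit_eq_iff.2 (MulAction.mem_orbit b' k)]; exact hb'
    rcases le_or_gt (dd b₁) (m - 1) with hle | hgt
    · exact hfin b₁ b₂ hcases (key b₁ b₂ hb₁ hb₂ hq12 hcases hsum hle)
    · exact hfin b₂ b₁ (fun x hx => (hcases x hx).symm)
        (key b₂ b₁ hb₂ hb₁ hq12.symm (fun x hx => (hcases x hx).symm) (by omega) (by omega))
  intro b b' hb hb' hbb hcov hdsum hdle
  set R : Ω → Ω → ℤ := orbital G a₀ b with hRdef
  set R' : Ω → Ω → ℤ := orbital G a₀ b' with hR'def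
  have hRv : ∀ x y, R x y = if ∃ g : G, g • a₀ = x ∧ g • b = y then 1 else 0 := fun x y => by
    simp only [hRdef, orbital]; congr
  have hR'v : ∀ x y, R' x y = if ∃ g : G, g • a₀ = x ∧ g • b' = y then 1 else 0 := fun x y => by
    simp only [hR'def, orbital]; congr
  have hdis : ∀ x y, (∃ g : G, g • a₀ = x ∧ g • b = y) → ¬ ∃ g : G, g • a₀ = x ∧ g • b' = y := by
    rintro x y ⟨g, h1, h2⟩ ⟨g', h1', h2'⟩
    refine hbb ((hmk _ _).2 ⟨⟨g⁻¹ * g', ?_⟩, ?_⟩)
    · rw [MulAction.mem_stabilizer_iff, mul_smul, h1', ← h1, inv_smul_smul]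
    · show (g⁻¹ * g') • b' = b
      rw [mul_smul, h2', ← h2, inv_smul_smul]
  have hdiag : ∀ x c, c ≠ a₀ → ¬ ∃ g : G, g • a₀ = x ∧ g • c = x := by
    rintro x c hc ⟨g, h1, h2⟩
    exact hc (MulAction.injective g (h2.trans h1.symm))
  have htot : ∀ x y, x ≠ y → (∃ g : G, g • a₀ = x ∧ g • b = y) ∨ ∃ g : G, g • a₀ = x ∧ g • b' = y := by
    intro x y hxy
    obtain ⟨g, hg⟩ := MulAction.exists_smul_eq G a₀ x
    have hne : g⁻¹ • y ≠ a₀ := fun e => hxy (by rw [← hg, ← e, smul_inv_smul])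
    rcases hcov _ hne with ⟨k, hk⟩ | ⟨k, hk⟩
    · exact Or.inl ⟨g * k, by rw [mul_smul, MulAction.mem_stabilizer_iff.1 k.2, hg],
        by rw [mul_smul, show (k : G) • b = g⁻¹ • y from hk, smul_inv_smul]⟩
    · exact Or.inr ⟨g * k, by rw [mul_smul, MulAction.mem_stabilizer_iff.1 k.2, hg],
        by rw [mul_smul, show (k : G) • b' = g⁻¹ • y from hk, smul_inv_smul]⟩
  have hrow : ∀ x, ∑ y, (R x y : ℂ) = (dd b : ℂ) := fun x => sum_orbital a₀ b x
  have hrow' : ∀ x, ∑ y, (R' x y : ℂ) = (dd b' : ℂ) := fun x => sum_orbital a₀ b' x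
  -- the two suborbits are self-paired
  have hsym : ∀ x y, R x y = R y x := by
    obtain ⟨g, hg⟩ := MulAction.exists_smul_eq G b a₀
    have hza : g • a₀ ≠ a₀ := fun e => hb (MulAction.injective g (hg.trans e.symm))
    rcases hcov _ hza with ⟨k, hk⟩ | ⟨k, hk⟩
    · have hk1 : ((k : G)⁻¹ * g) • a₀ = b := by
        rw [mul_smul, inv_smul_eq_iff]; exact hk.symm
      have hk2 : ((k : G)⁻¹ * g) • b = a₀ := by
        rw [mul_smul, hg, inv_smul_eq_iff]; exact (MulAction.mem_stabilizer_iff.1 k.2).symm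
      intro x y
      have key : ∀ x y, (∃ l : G, l • a₀ = x ∧ l • b = y) → ∃ l : G, l • a₀ = y ∧ l • b = x := by
        rintro x y ⟨l, h1, h2⟩
        exact ⟨l * ((k : G)⁻¹ * g), by rw [mul_smul, hk1, h2], by rw [mul_smul, hk2, h1]⟩
      rw [hRv, hRv]
      exact if_congr ⟨key x y, key y x⟩ rfl rfl
    · exfalso
      set q : G := ((k : G)⁻¹ * g)⁻¹ with hq
      have hk1 : q • a₀ = b := by
        rw [hq, inv_smul_eq_iff, mul_smul, hg, eq_inv_smul_iff]
        exact MulAction.mem_stabilizer_iff.1 k.2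
      have hk2 : q • b' = a₀ := by
        rw [hq, inv_smul_eq_iff, mul_smul, eq_inv_smul_iff]
        exact hk
      have hrev : ∀ x y, R y x = R' x y := by
        intro x y
        rw [hRv, hR'v]
        refine if_congr ⟨?_, ?_⟩ rfl rfl
        · rintro ⟨l, h1, h2⟩
          exact ⟨l * q, by rw [mul_smul, hk1, h2], by rw [mul_smul, hk2, h1]⟩
        · rintro ⟨l, h1, h2⟩
          exact ⟨l * q⁻¹, by rw [mul_smul, inv_smul_eq_iff.2 hk2.symm, h2],
            by rw [mul_smul, inv_smul_eq_iff.2 hk1.symm, h1]⟩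
      have h1 : ∑ x, ∑ y, (R y x : ℂ) = ∑ x, ∑ y, (R' x y : ℂ) := by simp only [hrev]
      rw [Finset.sum_comm] at h1
      simp only [hrow, hrow', Finset.sum_const, Finset.card_univ, nsmul_eq_mul] at h1
      have h2 : dd b = dd b' := Nat.cast_injective
        (mul_left_cancel₀ (Nat.cast_ne_zero.2 Fintype.card_ne_zero) h1)
      omega
  -- the square
  set Rc : Ω → Ω → ℂ := fun x y => (R x y : ℂ) with hRc
  set Rc' : Ω → Ω → ℂ := fun x y => (R' x y : ℂ) with hRc'
  set Id : Ω → Ω → ℂ := fun x y => if x = y then 1 else 0 with hId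
  set J : Ω → Ω → ℂ := fun _ _ => 1 with hJ
  have hRi : Inv G Rc := orbital_inv a₀ b
  have hA := op_commutes hRi
  let M : Ω → Ω → ℤ := fun x z => ∑ y, R x y * R y z
  have hMi : ∀ (g : G) x z, M (g • x) (g • z) = M x z := fun g x z => by
    refine (Fintype.sum_equiv (MulAction.toPerm g) _ _ fun y => ?_).symm
    have e1 : R (g • x) (g • y) = R x y := Int.cast_injective (α := ℂ) (hRi g x y)
    have e2 : R (g • y) (g • z) = R y z := Int.cast_injective (α := ℂ) (hRi g y z)
    rw [MulAction.toPerm_apply, e1, e2]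
  set lam := M a₀ b with hlam
  set mu := M a₀ b' with hmu
  have hMdiag : ∀ x, (M x x : ℂ) = (dd b : ℂ) := by
    intro x
    rw [← hrow x, ← Int.cast_sum]
    congr 1
    refine Finset.sum_congr rfl fun y _ => ?_
    rw [← hsym x y, hRv]
    split_ifs <;> simp
  have hsq : op Rc * op Rc = (dd b : ℂ) • op Id + (lam : ℂ) • op Rc + (mu : ℂ) • op Rc' := by
    rw [op_mul]
    refine LinearMap.ext fun v => funext fun x => ?_
    simp only [LinearMap.add_apply, LinearMap.smul_apply, Pi.add_apply, Pi.smul_apply, op_apply,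
      smul_eq_mul, Finset.mul_sum, ← Finset.sum_add_distrib]
    refine Finset.sum_congr rfl fun z _ => ?_
    have e : ∑ y, Rc x y * Rc y z = (M x z : ℂ) := by simp [hRc, M]
    rw [e]
    by_cases hxz : x = z
    · subst hxz
      simp only [hId, hRc, hRc', hRv, hR'v, if_neg (hdiag x b hb), if_neg (hdiag x b' hb'), hMdiag,
        if_true, Int.cast_zero, zero_mul, mul_zero, add_zero, one_mul]
    · rcases htot x z hxz with ⟨g, h1, h2⟩ | ⟨g, h1, h2⟩
      · simp only [hId, hRc, hRc', hRv, hR'v, if_neg hxz,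
          if_pos (⟨g, h1, h2⟩ : ∃ g : G, g • a₀ = x ∧ g • b = z), if_neg (hdis x z ⟨g, h1, h2⟩),
          Int.cast_zero, Int.cast_one, zero_mul, mul_zero, add_zero, zero_add, one_mul]
        rw [hlam, ← hMi g a₀ b, h1, h2]
      · simp only [hId, hRc, hRc', hRv, hR'v, if_neg hxz,
          if_pos (⟨g, h1, h2⟩ : ∃ g : G, g • a₀ = x ∧ g • b' = z),
          if_neg (fun h => hdis x z h ⟨g, h1, h2⟩),
          Int.cast_zero, Int.cast_one, zero_mul, mul_zero, add_zero, zero_add, one_mul]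
        rw [hmu, ← hMi g a₀ b', h1, h2]
  have hall : op J = op Id + op Rc + op Rc' := by
    refine LinearMap.ext fun v => funext fun x => ?_
    simp only [LinearMap.add_apply, Pi.add_apply, op_apply, ← Finset.sum_add_distrib]
    refine Finset.sum_congr rfl fun z _ => ?_
    by_cases hxz : x = z
    · subst hxz
      simp [hJ, hId, hRc, hRc', hRv, hR'v, hdiag x b hb, hdiag x b' hb']
    · rcases htot x z hxz with h | h
      · simp [hJ, hId, hRc, hRc', hRv, hR'v, hxz, h, hdis x z h]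
      · have h3 : ¬ ∃ g : G, g • a₀ = x ∧ g • b = z := fun h' => hdis x z h' h
        simp only [hJ, hId, hRc, hRc', hRv, hR'v, if_neg hxz, if_pos h, if_neg h3, Int.cast_zero, Int.cast_one]
        ring
  have hIdone : op Id = 1 := by
    refine LinearMap.ext fun v => funext fun x => ?_
    simp [op_apply, hId]
  have hquad : ∀ {χ : G → ℂ}, Cfsg.IsIrrCharacter G χ → χ ≠ (fun _ => 1) →
      Cfsg.classInner ρ.character χ = 1 →
      (IsIntegral ℤ (Cfsg.classInner (tf ρ (op Rc)) χ)) ∧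
      Cfsg.classInner (tf ρ (op Rc * op Rc)) χ = Cfsg.classInner (tf ρ (op Rc)) χ ^ 2 ∧
      Cfsg.classInner (tf ρ (op Rc)) χ ^ 2 =
        (dd b : ℂ) + (lam : ℂ) * Cfsg.classInner (tf ρ (op Rc)) χ +
          (mu : ℂ) * (-1 - Cfsg.classInner (tf ρ (op Rc)) χ) := by
    intro χ hχ hne h1
    refine ⟨isIntegral_classInner_tf ρ hA (isIntegral_op R) (isCharacter_of_isIrrCharacter hχ), ?_⟩
    obtain ⟨U, hU, rfl⟩ := exists_sub ρ hχ (by rw [h1]; exact one_ne_zero)
    haveI := hU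
    obtain ⟨l, hl⟩ := exists_scalar_sub ρ U h1 hA
    have e1 := classInner_tf_eq_scalar ρ hA U h1 hl
    have e2 : Cfsg.classInner (tf ρ (op Rc * op Rc)) U.toRepresentation.character = l ^ 2 := by
      refine classInner_tf_eq_scalar ρ (fun g v => ?_) U h1 fun v hv => ?_
      · rw [Module.End.mul_apply, Module.End.mul_apply, hA g, hA g]
      · rw [Module.End.mul_apply, hl v hv, map_smul, hl v hv, smul_smul, sq]
    have e3 : Cfsg.classInner (tf ρ (op J)) U.toRepresentation.character = 0 := by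
      have ej : tf ρ (op J) = (Fintype.card Ω : ℂ) • (fun _ : G => (1 : ℂ)) := by
        funext g
        simp [hρ, tf_op, hJ]
      rw [ej, classInner_smul_left, classInner_irr_ne h1triv hχ hne.symm, mul_zero]
    rw [hall, tf_add, tf_add, classInner_add_left, classInner_add_left, hIdone, tf_id, h1, e1] at e3
    have e4 : Cfsg.classInner (tf ρ (op Rc')) U.toRepresentation.character = -1 - l := by
      linear_combination e3
    refine ⟨by rw [e1, e2], ?_⟩
    rw [hsq, tf_add, tf_add, tf_smul, tf_smul, tf_smul, classInner_add_left, classInner_add_left,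
      classInner_smul_left, classInner_smul_left, classInner_smul_left, hIdone, tf_id, h1, e1, e4,
      mul_one] at e2
    rw [e1]
    exact e2.symm
  set r := Cfsg.classInner (tf ρ (op Rc)) χ₁ with hr
  set s := Cfsg.classInner (tf ρ (op Rc)) χ₂ with hs
  obtain ⟨hri, hr2, hrq⟩ := hquad h₁ hne1 hp1
  obtain ⟨-, hs2, hsq'⟩ := hquad h₂ hne2 hp2
  rw [← hr] at hr2 hrq hri
  rw [← hs] at hs2 hsq'
  have hlin : (dd b : ℂ) + r * ((m : ℂ) - 1) + s * (m : ℂ) = 0 := by
    have h := hdeg hA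
    rw [classInner_tf_op_one hrow, ← hr, ← hs, hρ, tf_op] at h
    rw [← h]
    refine Finset.sum_eq_zero fun x _ => ?_
    simp only [hRc, one_smul, hRv, if_neg (hdiag x b hb), Int.cast_zero]
  have hsquare : (dd b : ℂ) ^ 2 + r ^ 2 * ((m : ℂ) - 1) + s ^ 2 * (m : ℂ) = 2 * (m : ℂ) * (dd b : ℂ) := by
    have hAA : Commutes ρ (op Rc * op Rc) := fun g v => by
      rw [Module.End.mul_apply, Module.End.mul_apply, hA g, hA g]
    have h := hdeg hAA
    rw [hr2, hs2] at h
    have e1 : Cfsg.classInner (tf ρ (op Rc * op Rc)) (fun _ => 1) = (dd b : ℂ) ^ 2 := by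
      rw [op_mul]
      refine classInner_tf_op_one fun x => ?_
      rw [Finset.sum_comm]
      simp only [← Finset.mul_sum, hRc, hrow, ← Finset.sum_mul, sq]
    rw [e1] at h
    rw [← h, op_mul, hρ, tf_op]
    have e2 : ∀ x, ∑ y, Rc x y * Rc y ((1 : G) • x) = (dd b : ℂ) := fun x => by
      rw [← hMdiag x]
      simp [hRc, M]
    simp only [e2, Finset.sum_const, Finset.card_univ, nsmul_eq_mul, hm, Nat.cast_mul, Nat.cast_ofNat]
  have hd0 : 0 < dd b := by
    haveI : Nonempty (MulAction.orbit H b) := ⟨⟨b, MulAction.mem_orbit_self b⟩⟩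
    exact Nat.card_pos
  have hrs : r ≠ s := by
    intro e
    rw [← e] at hlin
    have e2 : ((2 * m - 1 : ℕ) : ℂ) = 2 * (m : ℂ) - 1 := by
      rw [Nat.cast_sub (by omega)]; simp
    have hne : ((2 * m - 1 : ℕ) : ℂ) ≠ 0 := Nat.cast_ne_zero.2 (by omega)
    have hdiv : ((dd b : ℕ) : ℂ) / ((2 * m - 1 : ℕ) : ℂ) = -r := by
      rw [div_eq_iff hne, e2]
      linear_combination hlin
    have := Nat.le_of_dvd hd0 (CharBasicInt.dvd_of_isIntegral_div (by omega) (hdiv ▸ hri.neg))
    omega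
  have hu : r + s = ((lam - mu : ℤ) : ℂ) := by
    refine mul_left_cancel₀ (sub_ne_zero.2 hrs) ?_
    push_cast
    linear_combination hrq - hsq'
  set u : ℤ := lam - mu with hudef
  have hrval : r = (dd b : ℂ) + (m : ℂ) * (u : ℂ) := by
    linear_combination (-1 : ℂ) * hlin + (m : ℂ) * hu
  have hsval : s = -(dd b : ℂ) - ((m : ℂ) - 1) * (u : ℂ) := by
    linear_combination hu - hrval
  have hdio : 2 * ((dd b : ℤ) + ((m : ℤ) - 1) * u) ^ 2 + ((m : ℤ) - 1) * u ^ 2 = 2 * (dd b : ℤ) := by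
    refine mul_left_cancel₀ (show (m : ℤ) ≠ 0 by omega) ?_
    apply Int.cast_injective (α := ℂ)
    push_cast
    rw [hrval, hsval] at hsquare
    linear_combination hsquare
  rcases Nat.lt_or_ge 1 (dd b) with hd1 | hd1
  · obtain ⟨a, ha, hma, hda⟩ := arith (m := (m : ℤ)) (d := (dd b : ℤ)) (by omega) (by omega) hdio
    have hma' : m = 2 * a ^ 2 + 2 * a + 1 := by exact_mod_cast hma
    have hda' : dd b = a * (2 * a + 1) := by exact_mod_cast hda
    refine ⟨a, ha, hma', hda', ?_⟩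
    rw [hma'] at hdsum
    rw [hda'] at hdsum
    ring_nf at hdsum ⊢
    omega
  -- a suborbit of length one contradicts primitivity
  exfalso
  have hone : dd b = 1 := by omega
  haveI : Nontrivial Ω := Fintype.one_lt_card_iff_nontrivial.1 (by omega)
  have hco : IsCoatom H := MulAction.IsPreprimitive.isCoatom_stabilizer_of_isPreprimitive G a₀
  have hle : H ≤ MulAction.stabilizer G b := by
    intro k hk
    have hss := (Nat.card_eq_one_iff_unique.1 hone).1
    exact congrArg Subtype.val (hss.elim (⟨_, MulAction.mem_orbit b (⟨k, hk⟩ : H)⟩ : MulAction.orbit H b)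
      ⟨b, MulAction.mem_orbit_self b⟩)
  have hHb : MulAction.stabilizer G b = H := by
    rcases hco.le_iff.1 hle with h | h
    · exfalso
      obtain ⟨g, hg⟩ := MulAction.exists_smul_eq G b a₀
      have : g ∈ MulAction.stabilizer G b := h ▸ Subgroup.mem_top g
      exact hb ((MulAction.mem_stabilizer_iff.1 this).symm.trans hg)
    · exact h
  obtain ⟨g, hg⟩ := MulAction.exists_smul_eq G a₀ b
  have hgN : g ∈ Subgroup.normalizer (H : Set G) := by
    rw [Subgroup.mem_normalizer_iff]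
    intro k
    conv_rhs => rw [← hHb, MulAction.mem_stabilizer_iff, mul_smul, mul_smul, inv_smul_eq_iff.2 hg.symm,
      smul_eq_iff_eq_inv_smul, inv_smul_eq_iff.2 hg.symm]
    exact MulAction.mem_stabilizer_iff
  have hlt : H < Subgroup.normalizer (H : Set G) := lt_of_le_of_ne Subgroup.le_normalizer
    fun e => hb (hg.symm.trans (MulAction.mem_stabilizer_iff.1 (e ▸ hgN : g ∈ H)))
  have htop := hco.2 _ hlt
  have hfixall : ∀ k : H, ∀ x : Ω, k • x = x := by
    intro k x
    obtain ⟨g', rfl⟩ := MulAction.exists_smul_eq G a₀ x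
    have hN : g'⁻¹ ∈ Subgroup.normalizer (H : Set G) := htop ▸ Subgroup.mem_top _
    have := MulAction.mem_stabilizer_iff.1 ((Subgroup.mem_normalizer_iff.1 hN (k : G)).1 k.2)
    rw [inv_inv, mul_smul, mul_smul, inv_smul_eq_iff] at this
    exact this
  have : Nat.card Q = Fintype.card Ω := by
    rw [← Nat.card_eq_fintype_card]
    refine (Nat.card_eq_of_bijective (fun x => (Quotient.mk _ x : Q)) ⟨fun x y e => ?_, Quotient.mk_surjective⟩).symm
    obtain ⟨k, hk⟩ := (hmk x y).1 e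
    exact hk.symm.trans (hfixall k y)
  omega

end Cfsg.Agent.S0719
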