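import Cfsg.Statements.S0802
import Mathlib
import Cfsg.Agent.Lib.DicksonExistence
import Cfsg.Agent.Lib.DicksonTorus

set_option autoImplicit false
open Cfsg

namespace Cfsg.Agent.S0802

/-- PSL_2(p^n) has a subgroup isomorphic to A_4 if and only if it is not the case that p = 2 and n is odd. -/
theorem result {F : Type*} [Field F] [Fintype F] (p n : ℕ) [Fact p.Prime] [CharP F p] (hF : Fintype.card F = p ^ n) : (∃ H : Subgroup (Matrix.ProjectiveSpecialLinearGroup (Fin 2) F), Nonempty (H ≃* alternatingGroup (Fin 4))) ↔ ¬ (p = 2 ∧ Odd n) := by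
  have hn : Nat.card F = p ^ n := Nat.card_eq_fintype_card.trans hF
  have hq1 := PSLCard.one_lt_card F
  constructor
  · rintro ⟨H, ⟨e⟩⟩ ⟨rfl, hodd⟩
    have hH : Nat.card H = 12 := by
      rw [Nat.card_congr e.toEquiv, nat_card_alternatingGroup, Nat.card_fin]; rfl
    have hd : DicksonPSL.dd F = 1 := by
      rw [DicksonPSL.dd, hn]
      have hev : Even (2 ^ n) := Nat.even_pow.mpr ⟨even_two, by rintro rfl; simp at hodd⟩
      obtain ⟨j, hj⟩ := hev
      exact Nat.Coprime.gcd_eq_one (Nat.coprime_two_left.mpr ⟨j - 1, by omega⟩)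
    rcases DicksonPSL.dickson_psl_strong 2 H with ⟨-, h, -⟩ | ⟨-, a, ha⟩ | ⟨k, -, hk, -, ⟨e'⟩⟩ |
      ⟨h, -⟩ | ⟨h, -⟩ | ⟨h, ⟨e'⟩⟩ | ⟨R, h3, -, hR⟩
    · exact h (hH ▸ by norm_num)
    · have h12 := DicksonTorus.card_dvd_borel ha
      rw [hd, one_mul, hH, hn] at h12
      have h3 : 3 ∣ 2 ^ n * (2 ^ n - 1) := (by norm_num : 3 ∣ 12).trans h12
      have := (Nat.Coprime.pow_right n (by decide : Nat.Coprime 3 2)).dvd_of_dvd_mul_left h3
      obtain ⟨t, rfl⟩ := hodd
      have h4 : 2 ^ (2 * t + 1) % 3 = 2 := by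
        rw [pow_succ, pow_mul, Nat.mul_mod, Nat.pow_mod]; norm_num
      generalize 2 ^ (2 * t + 1) = Q at *
      omega
    · rw [Nat.card_congr e'.toEquiv, DihedralGroup.nat_card] at hH
      exact hk ⟨3, by omega⟩
    · exact h (hH ▸ by norm_num)
    · exact h (hH ▸ by norm_num)
    · rw [Nat.card_congr e'.toEquiv, nat_card_alternatingGroup, Nat.card_fin] at hH
      norm_num [Nat.factorial] at hH
    · obtain ⟨-, u, -, -, hu⟩ := DicksonPSL.exists_galoisField_equiv 2 R
      have hdvd : Nat.card R ∣ 2 ^ n := hn ▸ hu ▸ dvd_pow_self _ (by rintro rfl; simp at hu; omega)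
      obtain ⟨j, -, hj⟩ := (Nat.dvd_prime_pow Nat.prime_two).mp hdvd
      rcases hR with ⟨⟨e'⟩⟩ | ⟨ho, -⟩
      · rw [Nat.card_congr e'.toEquiv, PSLCard.card_PGL2] at hH
        have h4 : 4 ≤ Nat.card R := by
          rcases j with _ | _ | j <;> simp only [hj] at h3 ⊢
          · simp at h3
          · simp at h3
          · exact Nat.pow_le_pow_right (n := 2) two_pos (by omega : 2 ≤ j + 1 + 1)
        have := Nat.mul_le_mul h4 (show 15 ≤ Nat.card R ^ 2 - 1 by
          have := Nat.pow_le_pow_left h4 2; omega)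
        omega
      · rw [hj] at ho
        have := Nat.odd_pow_iff (n := 2) (e := j) (by rintro rfl; simp at hj; omega) |>.mp ho
        exact absurd this (by decide)
  · intro hne
    have key : ∃ ψ : alternatingGroup (Fin 4) →* Matrix.ProjectiveSpecialLinearGroup (Fin 2) F,
        Function.Injective ψ := by
      rcases DicksonExistence.char_cases (F := F) p with ⟨rfl, -⟩ | ⟨-, h2⟩
      · obtain ⟨t, rfl⟩ := Nat.not_odd_iff_even.mp fun h => hne ⟨rfl, h⟩
        obtain ⟨ψ, hψ⟩ := DicksonExistence.exists_A5_four (F := F) (m := t)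
          (by rw [hn, ← two_mul, pow_mul]; rfl)
        obtain ⟨φ, hφ⟩ := DicksonExistence.exists_A4_A5
        exact ⟨ψ.comp φ, hψ.comp hφ⟩
      · exact DicksonExceptional.exists_A4 h2
    obtain ⟨ψ, hψ⟩ := key
    exact ⟨ψ.range, ⟨(MonoidHom.ofInjective hψ).symm⟩⟩

end Cfsg.Agent.S0802
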