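import Cfsg.Statements.S0805
import Mathlib
import Cfsg.Agent.Lib.DicksonSubfieldMax

set_option autoImplicit false
open Cfsg

namespace Cfsg.Agent.S0805

/-- Subfield subgroups: let F be a finite field of odd order q and K a finite field with |K|^m = q, m ≥ 1. Then PSL_2(F) has a subgroup isomorphic to PSL_2(K), and has a subgroup isomorphic to PGL_2(K) if and only if m is even. -/
theorem result {F K : Type*} [Field F] [Fintype F] [Field K] [Fintype K] {q : ℕ} (hF : Fintype.card F = q) (hodd : Odd q) (m : ℕ) (hm : 1 ≤ m) (hK : Fintype.card K ^ m = q) : (∃ H : Subgroup (Matrix.ProjectiveSpecialLinearGroup (Fin 2) F), Nonempty (H ≃* Matrix.ProjectiveSpecialLinearGroup (Fin 2) K)) ∧ ((∃ H : Subgroup (Matrix.ProjectiveSpecialLinearGroup (Fin 2) F), Nonempty (H ≃* Matrix.ProjGenLinGroup (Fin 2) K)) ↔ Even m) := by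
  have hn : Nat.card F = q := Nat.card_eq_fintype_card.trans hF
  have hK' : Nat.card K ^ m = Nat.card F := by rw [Nat.card_eq_fintype_card, hn, hK]
  subst hn
  obtain ⟨f⟩ := DicksonSubfieldEmbed.exists_ringHom hK'
  refine ⟨?_, ⟨fun ⟨H, ⟨e⟩⟩ => ?_, fun hev => ?_⟩⟩
  · obtain ⟨ψ, hψ⟩ := DicksonSubfieldEmbed.exists_psl_embedding f
    exact ⟨ψ.range, ⟨(MonoidHom.ofInjective hψ).symm⟩⟩
  · by_contra hodd'
    obtain ⟨t, rfl⟩ := Nat.not_even_iff_odd.mp hodd'
    have ho : Odd (Nat.card K) := by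
      rw [← hK', Nat.odd_pow_iff (by omega)] at hodd
      exact hodd
    have hd : Nat.gcd 2 (Nat.card F - 1) = 2 := by
      obtain ⟨j, hj⟩ := hodd
      exact Nat.gcd_eq_left ⟨j, by omega⟩
    have hdvd : 2 * (Nat.card K * (Nat.card K ^ 2 - 1)) ∣ Nat.card F * (Nat.card F ^ 2 - 1) := by
      rw [← PSLCard.card_PSL2_mul (F := F), hd, ← PSLCard.card_PGL2 (F := K),
        ← Nat.card_congr e.toEquiv]
      exact Nat.mul_dvd_mul_left 2 (Subgroup.card_subgroup_dvd_card H)
    have h1 := PSLCard.one_lt_card K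
    have hcop : Nat.Coprime (2 * (Nat.card K ^ 2 - 1)) (Nat.card F) := by
      rw [← hK']
      refine Nat.Coprime.pow_right _ (Nat.Coprime.mul_left (Nat.coprime_two_left.mpr ho) ?_)
      exact (Nat.Coprime.coprime_dvd_left (dvd_pow_self _ two_ne_zero)
        (Nat.coprime_self_sub_right (Nat.one_le_pow _ _ (by omega)) |>.mpr
          (Nat.coprime_one_right _))).symm
    have h2 : 2 * (Nat.card K ^ 2 - 1) ∣ Nat.card F ^ 2 - 1 := hcop.dvd_of_dvd_mul_left
      ((Nat.mul_dvd_mul_left 2 (dvd_mul_left _ (Nat.card K))).trans hdvd)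
    rw [← hK', pow_right_comm] at h2
    exact DicksonSubfieldMax.not_two_mul_dvd ho.pow (Nat.one_lt_pow two_ne_zero h1) h2
  · obtain ⟨ψ, hψ⟩ := DicksonSubfieldEmbed.exists_pgl_embedding f hK' (Or.inl hev)
    exact ⟨ψ.range, ⟨(MonoidHom.ofInjective hψ).symm⟩⟩

end Cfsg.Agent.S0805
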