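import Cfsg.Statements.S2916
import Cfsg.Agent.Lib.GL23Recog95Plane
import Cfsg.Agent.Lib.M11Unique99Main
import Cfsg.Agent.Lib.GolaySimple
import Cfsg.Agent.Lib.GolayM24

set_option autoImplicit false
open Cfsg

namespace Cfsg.Agent.S2916

/-- Let G be a finite group with O²(G) = G (no proper normal subgroup of 2-power index), and let t be an involution of G whose centralizer C_G(t) is isomorphic to GL₂(3). Then G is isomorphic to PSL₃(3) or to the Mathieu group M₁₁. -/
theorem result {G : Type*} [Group G] [Finite G] (hO : Cfsg.pResidual 2 G = ⊤) (t : G) (ht : orderOf t = 2) (hC : Nonempty (↥(Subgroup.centralizer ({t} : Set G)) ≃* GL (Fin 2) (ZMod 3))) : (∃ (F : Type) (_ : Field F) (_ : Fintype F), Fintype.card F = 3 ∧ Nonempty (G ≃* Matrix.ProjectiveSpecialLinearGroup (Fin 3) F)) ∨ Cfsg.Spor.IsoM11 G := by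
  obtain ⟨e⟩ := hC
  obtain ⟨f, hs⟩ := GL23CentOrder.exists_setup ht e
  have h2 := GL23Recog95.no_index_two hO
  have hconj := GL23CentOrder.allConj_of_no_index_two hs h2
  have : IsSimpleGroup G := GL23Recog95.isSimple hs hconj
  rcases GL23CentOrder.card_eq hs h2 with hcard | hcard
  · left
    obtain ⟨P, hP, hC54, hmem⟩ := GL23Recog95.big_cent hs hcard hconj
    obtain ⟨M₁, M₂, h1, h2', h12⟩ := GL23Recog95.exists_two hs hcard hconj hP hC54 hmem
    obtain ⟨e'⟩ := GL23Recog95.nonempty_iso_of_two hcard h1 h2' h12 fun s hs13 =>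
      GL23Recog95.card13_aux hcard (GL23Recog95.no_commute13 hs hcard hconj) hs13
    exact ⟨ZMod 3, inferInstance, inferInstance, ZMod.card 3,
      ⟨e'.trans CommGraphL33.projEquiv⟩⟩
  · right
    have := GolaySimple.isSimpleGroup_M11
    have : Finite Spor.M11 := Nat.finite_of_card_ne_zero (by rw [GolayM24.card_M11]; norm_num)
    exact M11Unique99.iso_of_card hcard GolayM24.card_M11

end Cfsg.Agent.S2916
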