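import Cfsg.Statements.S0803
import Mathlib
import Cfsg.Agent.Lib.DicksonExistence
import Cfsg.Agent.Lib.DicksonTorus

set_option autoImplicit false
open Cfsg

namespace Cfsg.Agent.S0803

/-- PSL_2(q) has a subgroup isomorphic to S_4 iff q² ≡ 1 (mod 16). -/
theorem result {F : Type*} [Field F] [Fintype F] {q : ℕ} (hF : Fintype.card F = q) : (∃ H : Subgroup (Matrix.ProjectiveSpecialLinearGroup (Fin 2) F), Nonempty (H ≃* Equiv.Perm (Fin 4))) ↔ q ^ 2 % 16 = 1 := by
  have hn : Nat.card F = q := Nat.card_eq_fintype_card.trans hF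
  subst hn
  have hq1 := PSLCard.one_lt_card F
  have hmod : Nat.card F ^ 2 % 16 = (Nat.card F % 16) ^ 2 % 16 := by rw [Nat.pow_mod]
  obtain ⟨p, hp⟩ := CharP.exists F
  have : Fact p.Prime := ⟨CharP.char_is_prime F p⟩
  constructor
  · rintro ⟨H, ⟨e⟩⟩
    obtain ⟨x, hx⟩ : ∃ x : Equiv.Perm (Fin 4), x ^ 4 = 1 ∧ x ^ 2 ≠ 1 := by decide +kernel
    set g : Matrix.ProjectiveSpecialLinearGroup (Fin 2) F := Subtype.val (e.symm x)
    have hg4 : orderOf g = 4 := by
      have hinj : Function.Injective (fun y => ((e.symm y : H) :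
          Matrix.ProjectiveSpecialLinearGroup (Fin 2) F)) :=
        Subtype.val_injective.comp e.symm.injective
      have h1 : g ^ 4 = 1 ∧ g ^ 2 ≠ 1 := by
        refine ⟨?_, fun h => hx.2 (hinj ?_)⟩
        · simp only [g, ← SubmonoidClass.coe_pow, ← map_pow, hx.1, map_one, OneMemClass.coe_one]
        · simpa only [g, ← SubmonoidClass.coe_pow, ← map_pow, map_one, OneMemClass.coe_one] using h
      exact orderOf_eq_prime_pow (p := 2) (n := 1) (by simpa using h1.2) (by simpa using h1.1)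
    rcases DicksonExistence.char_cases (F := F) p with ⟨rfl, -⟩ | ⟨hp2, -⟩
    · exfalso
      rcases PSL2Proj52.pow_cases 2 g with h | h | h <;>
        have h4 := orderOf_dvd_of_pow_eq_one h <;> rw [hg4] at h4
      · norm_num at h4
      all_goals
        obtain ⟨n, hn0, hn⟩ := PSL2Sylow.card_field_eq (F := F) 2
        have hev : Even (Nat.card F) := hn ▸ Nat.even_pow.mpr ⟨even_two, by omega⟩
        rcases PSL2Proj52.gcd_eq (F := F) with ⟨ho, -⟩ | ⟨-, hd⟩
        · exact absurd hev (Nat.not_even_iff_odd.mpr ho)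
        · rw [hd, Nat.div_one] at h4
          obtain ⟨j, hj⟩ := hev
          omega
    · have hcop : Nat.Coprime 4 p := Nat.Coprime.pow_left 2
        ((Nat.coprime_primes Nat.prime_two Fact.out).mpr (Ne.symm hp2))
      rcases PSL2Proj52.pow_cases p g with h | h | h <;>
        have h4 := orderOf_dvd_of_pow_eq_one h <;> rw [hg4] at h4
      · exact absurd (hcop.eq_one_of_dvd h4) (by norm_num)
      all_goals
        rcases PSL2Proj52.gcd_eq (F := F) with ⟨⟨j, hj⟩, hd⟩ | ⟨he, -⟩
        · rw [hd] at h4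
          have h8 : Nat.card F % 16 = 1 ∨ Nat.card F % 16 = 7 ∨ Nat.card F % 16 = 9 ∨
              Nat.card F % 16 = 15 := by omega
          rcases h8 with h8 | h8 | h8 | h8 <;> rw [hmod, h8] <;> norm_num
        · obtain ⟨n, hn0, hn⟩ := PSL2Sylow.card_field_eq (F := F) p
          have ho : Odd (Nat.card F) := hn ▸ ((Fact.out : p.Prime).odd_of_ne_two hp2).pow
          exact absurd he (Nat.not_even_iff_odd.mpr ho)
  · intro hq16
    rw [hmod] at hq16
    have hlt : Nat.card F % 16 < 16 := Nat.mod_lt _ (by norm_num)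
    have h8 : Nat.card F % 8 = 1 ∨ Nat.card F % 8 = 7 := by
      have e8 : Nat.card F % 8 = Nat.card F % 16 % 8 := by omega
      rw [e8]
      interval_cases h : Nat.card F % 16 <;> simp at hq16 ⊢
    have h2 : (2 : F) ≠ 0 := PSL2Proj52.two_ne_of_odd (Nat.odd_iff.mpr (by omega))
    obtain ⟨s, hs⟩ : IsSquare (2 : F) := FiniteField.isSquare_two_iff.mpr (by
      rw [← Nat.card_eq_fintype_card]; omega)
    obtain ⟨ψ, hψ⟩ := DicksonExceptional.exists_S4 h2 (s := s) (by rw [sq, ← hs])
    exact ⟨ψ.range, ⟨(MonoidHom.ofInjective hψ).symm⟩⟩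

end Cfsg.Agent.S0803
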