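import Cfsg.Statements.S1208
import Mathlib
import Cfsg.Agent.Lib.QDWreathWrLocal
-- import your own Cfsg.Agent.* helpers here

set_option autoImplicit false
open Cfsg
open Cfsg.Agent.QDWreathWr Cfsg.Agent.QDWreathWrSub Cfsg.Agent.QDWreathWrAut Cfsg.Agent.QDWreathWrQZ
open Cfsg.Agent.QDWreathWrLocal Cfsg.Agent.QDWreathLocal

namespace Cfsg.Agent.S1208

theorem idx {G : Type*} [Group G] [Finite G] (S : Sylow 2 G) (H : Subgroup G) (hHS : H ≤ S)
    (hC : ∀ c ∈ (S : Subgroup G), c ∈ Subgroup.centralizer (H : Set G) → c ∈ H)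
    (h2 : H.relIndex ((S : Subgroup G) ⊓ Subgroup.normalizer (H : Set G)) = 2)
    (hFN : ∀ T : Subgroup G, IsPGroup 2 T → H ≤ T → T ≤ Subgroup.normalizer (H : Set G) →
      Nat.card T ≤ Nat.card ↥((S : Subgroup G) ⊓ Subgroup.normalizer (H : Set G)))
    (hA : ∃ j, Nat.card (MulAut H) ∣ 2 ^ j * 3) :
    (H ⊔ Subgroup.centralizer (H : Set G)).relIndex (Subgroup.normalizer (H : Set G)) = 2 ∨
      (H ⊔ Subgroup.centralizer (H : Set G)).relIndex (Subgroup.normalizer (H : Set G)) = 6 := by
  set N := Subgroup.normalizer (H : Set G) with hN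
  set P := (S : Subgroup G) ⊓ N with hP
  set K : Subgroup N := (H ⊔ Subgroup.centralizer (H : Set G)).subgroupOf N with hK
  have hKn : K.Normal := by
    have hn : ((MulAut.conj : H →* MulAut H).range).Normal := by
      refine ⟨?_⟩
      rintro _ ⟨h, rfl⟩ φ
      exact ⟨φ h, by ext y; simp⟩
    rw [hK, hN, sup_centralizer_subgroupOf]
    exact hn.comap _
  have hPN : P ≤ N := inf_le_right
  obtain ⟨T, hT⟩ := ((S.2.to_le inf_le_left).of_equiv
    (Subgroup.subgroupOfEquivOfLe hPN).symm).exists_le_sylow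
  have hHP : H ≤ P := le_inf hHS Subgroup.le_normalizer
  have hPT : P ≤ (T : Subgroup N).map N.subtype := by
    intro x hx
    exact ⟨⟨x, hPN hx⟩, hT (Subgroup.mem_subgroupOf.2 hx), rfl⟩
  have hTP : (T : Subgroup N) = P.subgroupOf N := by
    refine (Subgroup.eq_of_le_of_card_ge hT ?_).symm
    rw [Nat.card_congr (Subgroup.subgroupOfEquivOfLe hPN).toEquiv,
      ← Subgroup.card_map_of_injective (f := N.subtype) N.subtype_injective]
    exact hFN _ (T.2.map N.subtype) (hHP.trans hPT) (Subgroup.map_subtype_le _)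
  have hodd : ¬ 2 ∣ (P.subgroupOf N ⊔ K).index := by
    intro h
    refine T.not_dvd_index ?_
    rw [hTP]
    exact h.trans (Subgroup.index_dvd_of_le le_sup_left)
  have h1 : K.relIndex (P.subgroupOf N ⊔ K) = 2 := by
    rw [Subgroup.relIndex_sup_right, hK, Subgroup.relIndex_subgroupOf hPN, ← Subgroup.inf_relIndex_right,
      ← h2]
    congr 1
    refine le_antisymm ?_ (le_inf le_sup_left hHP)
    rintro x ⟨hx, hxP⟩
    have hx' : (⟨x, hPN hxP⟩ : N) ∈ K := by
      rw [hK, Subgroup.mem_subgroupOf]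
      exact hx
    replace hx' : (⟨x, hPN hxP⟩ : Subgroup.normalizer (H : Set G)) ∈
        (H ⊔ Subgroup.centralizer (H : Set G)).subgroupOf (Subgroup.normalizer (H : Set G)) := hx'
    rw [sup_centralizer_subgroupOf] at hx'
    obtain ⟨q, hq⟩ := hx'
    have hc : (q : G)⁻¹ * x ∈ Subgroup.centralizer (H : Set G) := by
      rw [Subgroup.mem_centralizer_iff]
      intro y hy
      have h1 : (q : G) * y * (q : G)⁻¹ = x * y * x⁻¹ :=
        congrArg Subtype.val (DFunLike.congr_fun hq (⟨y, hy⟩ : H))
      have h3 : x * y = q * y * (q : G)⁻¹ * x := by rw [h1, inv_mul_cancel_right]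
      symm
      rw [mul_assoc, h3]
      simp [mul_assoc]
    have := mul_mem q.2 (hC _ (mul_mem (inv_mem (hHS q.2)) hxP.1) hc)
    simpa using this
  have h3 := Subgroup.relIndex_mul_index (show K ≤ P.subgroupOf N ⊔ K from le_sup_right)
  rw [h1] at h3
  obtain ⟨j, hj⟩ := hA
  have hdvd : K.index ∣ 2 ^ j * 3 :=
    ((relIndex_sup_dvd H).trans (Subgroup.index_dvd_card _)).trans hj
  rw [← h3] at hdvd
  have hm : (P.subgroupOf N ⊔ K).index ∣ 3 := by
    have hco : Nat.Coprime (P.subgroupOf N ⊔ K).index (2 ^ j) :=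
      Nat.Coprime.pow_right _ ((Nat.prime_two.coprime_iff_not_dvd.2 hodd).symm)
    exact hco.dvd_of_dvd_mul_left ((dvd_mul_left _ 2).trans hdvd)
  show K.index = 2 ∨ K.index = 6
  rcases (Nat.dvd_prime Nat.prime_three).1 hm with h | h <;> rw [h] at h3 <;> omega

/-- Let G be a finite group whose Sylow 2-subgroup S is wreathed of order 2^(2n+1), U the commutative subgroup of index 2 in S, Q a quaternion subgroup of order 8 of S and V = Q Z(S). Then |N_G(U) : C_G(U)| ∈ {2, 6} and |N_G(V) : V C_G(V)| ∈ {2, 6}. -/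
theorem result {G : Type*} [Group G] [Finite G] (S : Sylow 2 G) (hS : Cfsg.IsWreathed (S : Subgroup G)) (n : ℕ) (hn : Nat.card S = 2 ^ (2 * n + 1)) (U : Subgroup G) (hUS : U ≤ S) (hUab : IsMulCommutative U) (hUcard : Nat.card U = 2 ^ (2 * n)) (Q : Subgroup G) (hQS : Q ≤ S) (eQ : Q ≃* QuaternionGroup 2) : ((Subgroup.centralizer (U : Set G)).relIndex (Subgroup.normalizer (U : Set G)) = 2 ∨ (Subgroup.centralizer (U : Set G)).relIndex (Subgroup.normalizer (U : Set G)) = 6) ∧ (((Q ⊔ ((Subgroup.center (S : Subgroup G)).map (S : Subgroup G).subtype)) ⊔ Subgroup.centralizer ((Q ⊔ ((Subgroup.center (S : Subgroup G)).map (S : Subgroup G).subtype) : Subgroup G) : Set G)).relIndex (Subgroup.normalizer ((Q ⊔ ((Subgroup.center (S : Subgroup G)).map (S : Subgroup G).subtype) : Subgroup G) : Set G)) = 2 ∨ ((Q ⊔ ((Subgroup.center (S : Subgroup G)).map (S : Subgroup G).subtype)) ⊔ Subgroup.centralizer ((Q ⊔ ((Subgroup.center (S : Subgroup G)).map (S : Subgroup G).subtype) : Subgroup G) : Set G)).relIndex (Subgroup.normalizer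 ((Q ⊔ ((Subgroup.center (S : Subgroup G)).map (S : Subgroup G).subtype) : Subgroup G) : Set G)) = 6) := by
  obtain ⟨n', hn', hcard, l, hl0, hl, ⟨E⟩⟩ := exists_equiv hS
  have hcardS : Nat.card (S : Subgroup G) = 32 * l ^ 2 := by rw [← card_eq, Nat.card_congr E.toEquiv]
  -- embedding of the model
  let ι : WM l →* G := (S : Subgroup G).subtype.comp E.toMonoidHom
  have hι : Function.Injective ι := (S : Subgroup G).subtype_injective.comp E.injective
  have hιS : ι.range = (S : Subgroup G) := by
    rw [MonoidHom.range_comp, MonoidHom.range_eq_top_of_surjective _ E.surjective,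
      ← MonoidHom.range_eq_map, Subgroup.range_subtype]
  have pull : ∀ H : Subgroup G, H ≤ S → H = (H.comap ι).map ι := fun H hH => by
    rw [Subgroup.map_comap_eq, hιS, inf_eq_right.2 hH]
  have hZ : (Subgroup.center (S : Subgroup G)).map (S : Subgroup G).subtype = (Subgroup.center (WM l)).map ι := by
    rw [← Subgroup.map_map]
    congr 1
    ext b
    obtain ⟨a, rfl⟩ := E.surjective b
    constructor
    · intro h
      refine ⟨a, Subgroup.mem_center_iff.2 fun g => E.injective ?_, rfl⟩
      rw [map_mul, map_mul, Subgroup.mem_center_iff.1 h (E g)]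
    · rintro ⟨a', ha', h⟩
      obtain rfl : a' = a := E.injective h
      rw [Subgroup.mem_center_iff]
      intro g
      obtain ⟨g', rfl⟩ := E.surjective g
      rw [← map_mul, ← map_mul, Subgroup.mem_center_iff.1 ha' g']
  have quat : ∀ R : Subgroup G, R ≤ S → ∀ _ : R ≃* QuaternionGroup 2,
      ∃ c : WM l, R = ((Q0 l).map (MulAut.conj c).toMonoidHom).map ι := by
    intro R hR e
    let f : QuaternionGroup 2 →* WM l := (E.symm.toMonoidHom.comp (Subgroup.inclusion hR)).comp e.symm.toMonoidHom
    have hf : Function.Injective f :=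
      (E.symm.injective.comp (Subgroup.inclusion_injective hR)).comp e.symm.injective
    obtain ⟨c, hc⟩ := q8_conj f hf
    refine ⟨c, ?_⟩
    rw [← hc]
    ext x
    constructor
    · intro hx
      exact ⟨f (e ⟨x, hx⟩), ⟨_, rfl⟩, by simp [ι, f]⟩
    · rintro ⟨_, ⟨r, rfl⟩, rfl⟩
      simp only [ι, f, MonoidHom.coe_comp, Subgroup.coe_subtype, MulEquiv.coe_toMonoidHom,
        Function.comp_apply, MulEquiv.apply_symm_apply, Subgroup.coe_inclusion]
      exact (e.symm r).2
  constructor
  · have hU' := pull U hUS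
    have hUW : U.comap ι = AS l := by
      refine comm_half ⟨⟨fun a b => Subtype.ext (hι ?_)⟩⟩ ?_
      · rw [Subgroup.coe_mul, Subgroup.coe_mul, map_mul, map_mul]
        exact congrArg Subtype.val (hUab.1.comm ⟨_, a.2⟩ ⟨_, b.2⟩)
      · have h1 : Nat.card U = Nat.card (U.comap ι) := by
          conv_lhs => rw [hU']
          exact Subgroup.card_map_of_injective hι
        rw [hn] at hcard
        have := Nat.pow_right_injective (by norm_num) hcard
        obtain rfl : n = n' := by omega
        rw [← h1, hUcard, hl, ← pow_mul]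
        obtain ⟨c, rfl⟩ : ∃ c, n = c + 2 := ⟨n - 2, by omega⟩
        rw [show c + 2 - 2 = c by omega, show 2 * (c + 2) = c * 2 + 4 by ring, pow_add]
        ring
    rw [hUW] at hU'
    have hle : U ≤ Subgroup.centralizer (U : Set G) := fun x hx => Subgroup.mem_centralizer_iff.2
      fun y hy => congrArg Subtype.val (hUab.1.comm ⟨y, hy⟩ ⟨x, hx⟩)
    have hnorm : (S : Subgroup G) ≤ Subgroup.normalizer (U : Set G) := by
      intro x hx
      rw [← hιS] at hx
      obtain ⟨p, rfl⟩ := hx
      rw [hU']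
      refine Subgroup.le_normalizer_map ι ⟨p, ?_, rfl⟩
      rw [SetLike.mem_coe, Subgroup.mem_normalizer_iff]
      rintro ⟨a, b, e⟩
      obtain ⟨c, d, e'⟩ := p
      simp only [mem_AS]
      cases e <;> cases e' <;> simp
    rw [← sup_eq_right.2 hle]
    refine idx S U hUS ?_ ?_ ?_ ?_
    · intro c hc hcc
      rw [← hιS] at hc
      obtain ⟨p, rfl⟩ := hc
      rw [hU']
      refine Subgroup.mem_map_of_mem ι (mem_AS.2 ?_)
      by_contra hp
      rw [Bool.not_eq_false] at hp
      have h1 := hι (show ι (p * ⟨1, 0, false⟩) = ι (⟨1, 0, false⟩ * p) by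
        rw [map_mul, map_mul]
        exact (Subgroup.mem_centralizer_iff.1 hcc _
          (by rw [hU']; exact Subgroup.mem_map_of_mem ι (mem_AS.2 rfl))).symm)
      obtain ⟨a, b, e⟩ := p
      simp only at hp; subst hp
      simp only [mk_mul_true, mk_mul_false, WM.ext_iff, add_zero] at h1
      exact hh_ne (l := l) (by
        rw [hh]; linear_combination (2 * (l : ZMod (4 * l))) * h1.2.1)
    · rw [inf_eq_left.2 hnorm, hU', ← hιS, MonoidHom.range_eq_map,
        Subgroup.relIndex_map_map_of_injective _ _ hι, Subgroup.relIndex_top_right]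
      have h1 := (AS l).card_mul_index
      rw [AS_card, card_eq] at h1
      have : 0 < 16 * l ^ 2 := by have := NeZero.pos l; positivity
      exact Nat.eq_of_mul_eq_mul_left this (by rw [h1]; ring)
    · intro T hT _ _
      rw [inf_eq_left.2 hnorm]
      obtain ⟨R, hR⟩ := hT.exists_le_sylow
      exact (Subgroup.card_le_of_le hR).trans (le_of_eq (Nat.card_congr (Sylow.equiv R S).toEquiv))
    · obtain ⟨j, hj⟩ := AS_aut (l := l) hl
      refine ⟨j, ?_⟩
      rwa [hU', ← Nat.card_congr (MulAut.congr (Subgroup.equivMapOfInjective (AS l) ι hι)).toEquiv]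
  · set Zg := (Subgroup.center (S : Subgroup G)).map (S : Subgroup G).subtype with hZg
    set V := Q ⊔ Zg with hVdef
    obtain ⟨c, hc⟩ := quat Q hQS eQ
    have hfixZ : ∀ d : WM l, (Subgroup.center (WM l)).map (MulAut.conj d).toMonoidHom = Subgroup.center (WM l) :=
      fun d => Subgroup.characteristic_iff_map_eq.1 inferInstance (MulAut.conj d)
    have hV : V = ((QZ l).map (MulAut.conj c).toMonoidHom).map ι := by
      rw [QZ_eq, Subgroup.map_sup, Subgroup.map_sup, hfixZ, hVdef, hc, hZ]
    have hVS : V ≤ S := by rw [hV, ← hιS]; exact Subgroup.map_le_range _ _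
    have hcent : ∀ (R : Subgroup G) (d : WM l), R = ((Q0 l).map (MulAut.conj d).toMonoidHom).map ι →
        ∀ x ∈ (S : Subgroup G), x ∈ Subgroup.centralizer (R : Set G) → x ∈ Zg := by
      intro R d hR x hx hxc
      rw [← hιS] at hx
      obtain ⟨p, rfl⟩ := hx
      rw [hZ]
      refine Subgroup.mem_map_of_mem ι ?_
      rw [← hfixZ d]
      refine ⟨d⁻¹ * p * d, Q0_centralizer (Subgroup.mem_centralizer_iff.2 fun q hq => ?_), by simp [mul_assoc]⟩
      have h1 := hι (show ι ((d * q * d⁻¹) * p) = ι (p * (d * q * d⁻¹)) by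
        rw [map_mul ι (d * q * d⁻¹) p, map_mul ι p]
        refine Subgroup.mem_centralizer_iff.1 hxc _ ?_
        rw [hR]
        exact Subgroup.mem_map_of_mem ι ⟨q, hq, rfl⟩)
      calc q * (d⁻¹ * p * d) = d⁻¹ * ((d * q * d⁻¹) * p) * d := by group
        _ = d⁻¹ * (p * (d * q * d⁻¹)) * d := by rw [h1]
        _ = d⁻¹ * p * d * q := by group
    refine idx S V hVS ?_ ?_ ?_ ?_
    · intro x hx hxc
      exact Subgroup.mem_sup_right (hcent Q c hc x hx (Subgroup.centralizer_le (show (Q : Set G) ⊆ V from (le_sup_left : Q ≤ V)) hxc))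
    · have hinf : (S : Subgroup G) ⊓ Subgroup.normalizer (V : Set G) =
          (Subgroup.normalizer (((QZ l).map (MulAut.conj c).toMonoidHom : Subgroup (WM l)) : Set (WM l))).map ι := by
        apply le_antisymm
        · rintro x ⟨hx, hxN⟩
          rw [SetLike.mem_coe, ← hιS] at hx
          obtain ⟨p, rfl⟩ := hx
          refine Subgroup.mem_map_of_mem ι (Subgroup.mem_normalizer_iff.2 fun q => ?_)
          rw [← Subgroup.mem_map_iff_mem hι, ← Subgroup.mem_map_iff_mem hι (x := p * q * p⁻¹), ← hV,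
            map_mul, map_mul, map_inv]
          exact Subgroup.mem_normalizer_iff.1 hxN _
        · refine le_inf (by rw [← hιS]; exact Subgroup.map_le_range _ _) ?_
          rw [hV]
          exact Subgroup.le_normalizer_map ι
      rw [hinf]
      nth_rewrite 1 [hV]
      rw [Subgroup.relIndex_map_map_of_injective _ _ hι, ← Subgroup.map_equiv_normalizer_eq,
        Subgroup.relIndex_map_map_of_injective _ _ (f := (MulAut.conj c).toMonoidHom) (MulAut.conj c).injective,
        QZ_relIndex]
    · intro T hT hVT hTN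
      obtain ⟨R, hR⟩ := hT.exists_le_sylow
      obtain ⟨g, rfl⟩ := MulAction.exists_smul_eq G S R
      have hTg : ∀ x ∈ T, g⁻¹ * x * g ∈ (S : Subgroup G) := by
        intro x hx
        have h1 := hR hx
        rw [Sylow.coe_subgroup_smul, Subgroup.mem_smul_pointwise_iff_exists] at h1
        obtain ⟨y, hy, rfl⟩ := h1
        simpa [mul_assoc] using hy
      let φ := (MulAut.conj g⁻¹).toMonoidHom
      have hφ : ∀ x, φ x = g⁻¹ * x * g := fun x => by simp [φ]
      have hQ'S : Q.map φ ≤ S := by
        rintro _ ⟨x, hx, rfl⟩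
        rw [hφ]; exact hTg x (hVT (le_sup_left (b := Zg) hx))
      have hZ'S : Zg.map φ ≤ S := by
        rintro _ ⟨x, hx, rfl⟩
        rw [hφ]; exact hTg x (hVT (le_sup_right (a := Q) hx))
      obtain ⟨d, hd⟩ := quat (Q.map φ) hQ'S
        ((Subgroup.equivMapOfInjective Q φ (MulAut.conj g⁻¹).injective).symm.trans eQ)
      have hZeq : Zg.map φ = Zg := by
        refine Subgroup.eq_of_le_of_card_ge ?_
          (Subgroup.card_map_of_injective (f := φ) (MulAut.conj g⁻¹).injective).ge
        intro x hx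
        refine hcent _ d hd x (hZ'S hx) (Subgroup.mem_centralizer_iff.2 ?_)
        rintro _ ⟨q, hq, rfl⟩
        obtain ⟨z, hz, rfl⟩ := hx
        rw [← map_mul, ← map_mul]
        congr 1
        obtain ⟨z', hz', rfl⟩ := hz
        exact congrArg Subtype.val (Subgroup.mem_center_iff.1 hz' ⟨q, hQS hq⟩)
      have hV' : V.map φ = V.map (MulAut.conj (ι (d * c⁻¹))).toMonoidHom := by
        have hcomp : (MulAut.conj (ι (d * c⁻¹))).toMonoidHom.comp ι = ι.comp (MulAut.conj (d * c⁻¹)).toMonoidHom := by
          ext p; simp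
        rw [show V.map φ = ((QZ l).map (MulAut.conj d).toMonoidHom).map ι by
          rw [QZ_eq, hVdef, Subgroup.map_sup, Subgroup.map_sup, Subgroup.map_sup, hfixZ, hd, hZeq, hZ],
          hV, Subgroup.map_map ((QZ l).map (MulAut.conj c).toMonoidHom), hcomp,
          ← Subgroup.map_map ((QZ l).map (MulAut.conj c).toMonoidHom), Subgroup.map_map (QZ l) (MulAut.conj (d * c⁻¹)).toMonoidHom]
        congr 2
        ext p <;> simp [mul_assoc]
      set k := g * ι (d * c⁻¹) with hk
      have hVk : V.map (MulAut.conj k).toMonoidHom = V := by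
        have h2 := congrArg (Subgroup.map (MulAut.conj g).toMonoidHom) hV'
        rw [Subgroup.map_map, Subgroup.map_map] at h2
        convert h2.symm using 1
        · congr 1; ext p; simp [k, mul_assoc]
        · rw [show (MulAut.conj g).toMonoidHom.comp φ = MonoidHom.id G by ext p; simp [φ, mul_assoc],
            Subgroup.map_id]
      refine (Subgroup.card_map_of_injective (f := (MulAut.conj k⁻¹).toMonoidHom)
        (MulAut.conj k⁻¹).injective).ge.trans
          (Subgroup.card_le_of_le (H := T.map (MulAut.conj k⁻¹).toMonoidHom) ?_)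
      rintro _ ⟨x, hx, rfl⟩
      simp only [MulEquiv.coe_toMonoidHom, MulAut.conj_apply, inv_inv]
      have hs : ι (d * c⁻¹) ∈ (S : Subgroup G) := by rw [← hιS]; exact ⟨_, rfl⟩
      refine Subgroup.mem_inf.2 ⟨?_, ?_⟩
      · have := mul_mem (mul_mem (inv_mem hs) (hTg x hx)) hs
        simpa [k, mul_assoc] using this
      · have hkN : k ∈ Subgroup.normalizer (V : Set G) := by
          rw [Subgroup.mem_normalizer_iff]
          intro y
          conv_rhs => rw [← hVk]
          rw [show k * y * k⁻¹ = (MulAut.conj k).toMonoidHom y from rfl,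
            Subgroup.mem_map_iff_mem (MulAut.conj k).injective]
        exact mul_mem (mul_mem (inv_mem hkN) (hTN hx)) hkN
    · obtain ⟨j, hj⟩ := QZ_aut (l := l) hl
      refine ⟨j, ?_⟩
      rw [hV, ← Nat.card_congr (MulAut.congr (Subgroup.equivMapOfInjective _ ι hι)).toEquiv,
        ← Nat.card_congr (MulAut.congr (Subgroup.equivMapOfInjective (QZ l) _ (MulAut.conj c).injective)).toEquiv]
      exact hj

end Cfsg.Agent.S1208
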