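import Cfsg.Statements.S0003
import Cfsg.Agent.Lib.HallTheorem
-- import your own Cfsg.Agent.* helpers here

set_option autoImplicit false
open Cfsg

namespace Cfsg.Agent.S0003

open Cfsg.Agent.HallCore Cfsg.Agent.HallSolvable Cfsg.Agent.HallTheorem

/-- Hall's Theorem, existence: a finite solvable group of order m * n with m and n coprime has a subgroup of order m. -/

theorem result {G : Type*} [Group G] [Finite G] [Group.IsSolvable G] (m n : ℕ)
    (hG : Nat.card G = m * n) (hmn : m.Coprime n) : ∃ H : Subgroup G, Nat.card H = m := by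
  obtain ⟨H, hH⟩ := exists_isPiHall_of_solvable (G := G) {q | q ∣ m}
  exact ⟨H, card_isPiHall_of_eq hG hmn hH⟩

end Cfsg.Agent.S0003
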