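import Cfsg.Statements.S0005
import Cfsg.Agent.Lib.HallTheorem
-- import your own Cfsg.Agent.* helpers here

set_option autoImplicit false
open Cfsg

namespace Cfsg.Agent.S0005

open Cfsg.Agent.HallCore Cfsg.Agent.HallSolvable Cfsg.Agent.HallTheorem

/-- Hall's Theorem, containment: in a finite solvable group of order m * n with m and n coprime, every subgroup of order coprime to n is contained in a subgroup of order m. -/

theorem result {G : Type*} [Group G] [Finite G] [Group.IsSolvable G] (m n : ℕ)
    (hG : Nat.card G = m * n) (hmn : m.Coprime n) (K : Subgroup G) (hK : (Nat.card K).Coprime n) :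
    ∃ H : Subgroup G, Nat.card H = m ∧ K ≤ H := by
  obtain ⟨H, hH, hle⟩ := exists_isPiHall_ge_of_solvable (π := {q | q ∣ m}) (U := K)
    (fun q hq hd => show q ∣ m from (hq.dvd_mul.mp (hd.trans (hG ▸ K.card_subgroup_dvd_card))).resolve_right
      (fun hn => hq.not_dvd_one (hK ▸ Nat.dvd_gcd hd hn)))
  exact ⟨H, card_isPiHall_of_eq hG hmn hH, hle⟩

end Cfsg.Agent.S0005
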