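import Cfsg.Statements.S0043
import Mathlib

set_option autoImplicit false
open Cfsg

namespace Cfsg.Agent.S0043

open scoped Pointwise commutatorElement



/-- A minimal normal subgroup of a finite solvable group is abelian, and for some prime p all of its elements have order dividing p. -/
theorem result {G : Type*} [Group G] [Finite G] [Group.IsSolvable G]
    (N : Subgroup G) [N.Normal] (hN : N ≠ ⊥) (hmin : ∀ M : Subgroup G, M.Normal → M ≤ N → M = ⊥ ∨ M = N) :
    IsMulCommutative N ∧ ∃ p : ℕ, p.Prime ∧ ∀ x ∈ N, x ^ p = 1 := by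
  have hNN : ⁅N, N⁆ = ⊥ := by
    rcases hmin ⁅N, N⁆ inferInstance (Subgroup.commutator_le_left N N) with h | h
    · exact h
    exfalso
    apply hN
    obtain ⟨n, hn⟩ := (Group.isSolvable_def G).1 inferInstance
    suffices ∀ k, N ≤ derivedSeries G k by simpa [hn] using this n
    intro k
    induction k with
    | zero => simp
    | succ k ih => rw [derivedSeries_succ, ← h]; exact Subgroup.commutator_mono ih ih
  have hcomm : ∀ a ∈ N, ∀ b ∈ N, a * b = b * a := fun a ha b hb => by
    have : ⁅a, b⁆ ∈ (⊥ : Subgroup G) := hNN ▸ Subgroup.commutator_mem_commutator ha hb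
    exact commutatorElement_eq_one_iff_mul_comm.1 this
  refine ⟨⟨⟨fun a b => Subtype.ext (hcomm a a.2 b b.2)⟩⟩, ?_⟩
  obtain ⟨p, hp, hpd⟩ := Nat.exists_prime_and_dvd (n := Nat.card N) (fun h => hN (Subgroup.card_eq_one.1 h))
  haveI : Fact p.Prime := ⟨hp⟩
  let M : Subgroup G :=
    { carrier := {x | x ∈ N ∧ x ^ p = 1}
      mul_mem' := fun {a b} ha hb => ⟨N.mul_mem ha.1 hb.1, by
        rw [Commute.mul_pow (hcomm a ha.1 b hb.1), ha.2, hb.2, one_mul]⟩
      one_mem' := ⟨N.one_mem, one_pow p⟩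
      inv_mem' := fun {a} ha => ⟨N.inv_mem ha.1, by rw [inv_pow, ha.2, inv_one]⟩ }
  have hMn : M.Normal := Subgroup.Normal.mk fun x hx g =>
    ⟨Subgroup.Normal.conj_mem inferInstance x hx.1 g, by rw [conj_pow, hx.2, mul_one, mul_inv_cancel]⟩
  refine ⟨p, hp, fun x hx => ?_⟩
  rcases hmin M hMn (fun y hy => hy.1) with h | h
  · exfalso
    obtain ⟨a, ha⟩ := exists_prime_orderOf_dvd_card' p hpd
    have haM : (a : G) ∈ M := ⟨a.2, by rw [← SubmonoidClass.coe_pow, ← ha, pow_orderOf_eq_one]; rfl⟩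
    rw [h, Subgroup.mem_bot] at haM
    rw [show a = 1 from Subtype.ext haM, orderOf_one] at ha
    exact hp.one_lt.ne ha
  · exact (h.symm ▸ hx : x ∈ M).2

end Cfsg.Agent.S0043
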