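import Cfsg.Statements.S0019
import Mathlib
import Cfsg.Agent.S0043

set_option autoImplicit false
open Cfsg

namespace Cfsg.Agent.S0019

open scoped Pointwise commutatorElement

universe u

theorem solvable_aux {G : Type u} [Group G] [Finite G] (H₁ H₂ H₃ : Subgroup G)
    (h₁ : Group.IsSolvable H₁) (h₂ : Group.IsSolvable H₂) (h₃ : Group.IsSolvable H₃)
    (h12 : ∀ g : G, ∃ x ∈ H₁, ∃ y ∈ H₂, g = x * y) (h13 : ∀ g : G, ∃ x ∈ H₁, ∃ y ∈ H₃, g = x * y)
    (hcop : H₂.index.Coprime H₃.index) : Group.IsSolvable G := by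
  generalize hn : Nat.card G = n
  induction n using Nat.strong_induction_on generalizing G with
  | _ n ih =>
    by_cases hb : H₁ = ⊥
    · refine Group.isSolvable_of_surjective (f := H₂.subtype) (fun g => ?_)
      obtain ⟨x, hx, y, hy, rfl⟩ := h12 g
      rw [hb, Subgroup.mem_bot] at hx
      exact ⟨⟨y, hy⟩, by simp [hx]⟩
    haveI := h₁
    haveI : Nontrivial H₁ := (Subgroup.nontrivial_iff_ne_bot H₁).2 hb
    obtain ⟨N, ⟨hNn, hNb⟩, hNmin⟩ := Set.Finite.exists_minimal
      (Set.toFinite {L : Subgroup H₁ | L.Normal ∧ L ≠ ⊥}) ⟨⊤, inferInstance, top_ne_bot⟩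
    obtain ⟨_, p, hp, hpow⟩ := Cfsg.Agent.S0043.result N hNb fun M hM hle => by
      by_cases h : M = ⊥
      · exact Or.inl h
      · exact Or.inr (le_antisymm hle (hNmin ⟨hM, h⟩ hle))
    haveI : Fact p.Prime := ⟨hp⟩
    have hNp : IsPGroup p N := fun x => ⟨1, Subtype.ext (by simpa using hpow x x.2)⟩
    set N' : Subgroup G := N.map H₁.subtype with hN'
    have hN'p : IsPGroup p N' := hNp.map _
    have key : ∀ H : Subgroup G, Group.IsSolvable H → (∀ g : G, ∃ x ∈ H₁, ∃ y ∈ H, g = x * y) →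
        ¬ p ∣ H.index → ∃ L : Subgroup G, L.Normal ∧ L ≠ ⊥ ∧ Group.IsSolvable L := by
      intro H hHs hfac hpH
      have hconj : ∀ a ∈ H₁, ∀ x ∈ N', a * x * a⁻¹ ∈ N' := by
        rintro a ha _ ⟨x, hx, rfl⟩
        exact ⟨⟨a, ha⟩ * x * ⟨a, ha⟩⁻¹, hNn.conj_mem x hx _, rfl⟩
      have hfac' : ∀ g : G, ∃ b ∈ H, ∃ a ∈ H₁, g = b * a := fun g => by
        obtain ⟨a, ha, b, hb', h⟩ := hfac g⁻¹
        exact ⟨b⁻¹, H.inv_mem hb', a⁻¹, H₁.inv_mem ha, by rw [← mul_inv_rev, ← h, inv_inv]⟩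
      obtain ⟨P₀⟩ := (inferInstance : Nonempty (Sylow p H))
      have hP : ¬ p ∣ ((P₀ : Subgroup H).map H.subtype).index := by
        rw [Subgroup.index_map_subtype]
        exact fun h => (hp.dvd_mul.1 h).elim P₀.not_dvd_index hpH
      let P : Sylow p G := (P₀.2.map H.subtype).toSylow hP
      have hPH : (P : Subgroup G) ≤ H := Subgroup.map_subtype_le _
      obtain ⟨Q, hQ⟩ := hN'p.exists_le_sylow
      obtain ⟨g, hg⟩ := MulAction.exists_smul_eq G Q P
      obtain ⟨b, hb', a, ha, rfl⟩ := hfac' g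
      have hNH : N' ≤ H := by
        intro x hx
        have hx' : a⁻¹ * x * a ∈ N' := by simpa using hconj a⁻¹ (H₁.inv_mem ha) x hx
        have h1 : (b * a) * (a⁻¹ * x * a) * (b * a)⁻¹ ∈ H := by
          apply hPH
          rw [← hg]
          show _ ∈ ((b * a) • Q : Sylow p G).toSubgroup
          rw [Sylow.coe_subgroup_smul, Subgroup.mem_pointwise_smul_iff_inv_smul_mem, MulAut.smul_def,
            MulAut.conj_inv_apply]
          have := hQ hx'
          simpa [mul_assoc] using this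
        have := H.mul_mem (H.mul_mem (H.inv_mem hb') h1) hb'
        simpa [mul_assoc] using this
      have hle : Subgroup.normalClosure (N' : Set G) ≤ H := by
        refine (Subgroup.closure_le _).2 fun y hy => ?_
        obtain ⟨x, hx, hc⟩ := Group.mem_conjugatesOfSet_iff.1 hy
        obtain ⟨g, rfl⟩ := isConj_iff.1 hc
        obtain ⟨c, hc', e, he, rfl⟩ := hfac' g
        have := H.mul_mem (H.mul_mem hc' (hNH (hconj e he x hx))) (H.inv_mem hc')
        simpa [mul_assoc] using this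
      refine ⟨_, inferInstance, fun e => hNb ?_, Group.isSolvable_of_isSolvable_injective (f := Subgroup.inclusion hle) (Subgroup.inclusion_injective hle)⟩
      have h0 : N' ≤ ⊥ := e ▸ Subgroup.subset_normalClosure
      rw [hN', le_bot_iff, Subgroup.map_eq_bot_iff_of_injective _ H₁.subtype_injective] at h0
      exact h0
    obtain ⟨L, hLn, hLb, hLs⟩ : ∃ L : Subgroup G, L.Normal ∧ L ≠ ⊥ ∧ Group.IsSolvable L := by
      by_cases hp2 : p ∣ H₂.index
      · exact key H₃ h₃ h13 fun hp3 => hp.one_lt.ne' (Nat.dvd_one.1 (hcop ▸ Nat.dvd_gcd hp2 hp3))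
      · exact key H₂ h₂ h12 hp2
    let π := QuotientGroup.mk' L
    have hπ : Function.Surjective π := QuotientGroup.mk'_surjective L
    have hq : Group.IsSolvable (G ⧸ L) := by
      refine ih _ ?_ (H₁.map π) (H₂.map π) (H₃.map π) ?_ ?_ ?_ ?_ ?_ ?_ rfl
      · rw [← hn, Subgroup.card_eq_card_quotient_mul_card_subgroup L]
        exact lt_mul_of_one_lt_right Nat.card_pos ((Subgroup.one_lt_card_iff_ne_bot L).2 hLb)
      · exact Group.isSolvable_of_surjective (f := π.subgroupMap H₁) (π.subgroupMap_surjective H₁)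
      · exact Group.isSolvable_of_surjective (f := π.subgroupMap H₂) (π.subgroupMap_surjective H₂)
      · exact Group.isSolvable_of_surjective (f := π.subgroupMap H₃) (π.subgroupMap_surjective H₃)
      · intro q
        obtain ⟨g, rfl⟩ := hπ q
        obtain ⟨x, hx, y, hy, rfl⟩ := h12 g
        exact ⟨π x, ⟨x, hx, rfl⟩, π y, ⟨y, hy, rfl⟩, map_mul π x y⟩
      · intro q
        obtain ⟨g, rfl⟩ := hπ q
        obtain ⟨x, hx, y, hy, rfl⟩ := h13 g
        exact ⟨π x, ⟨x, hx, rfl⟩, π y, ⟨y, hy, rfl⟩, map_mul π x y⟩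
      · exact (hcop.coprime_dvd_left (Subgroup.index_map_dvd _ hπ)).coprime_dvd_right (Subgroup.index_map_dvd _ hπ)
    exact Group.isSolvable_of_ker_le_range L.subtype π (by rw [QuotientGroup.ker_mk', Subgroup.range_subtype])

/-- A finite group that factorises as H₁H₂ and as H₁H₃ with all three subgroups solvable and the indices of H₂ and H₃ coprime is solvable. -/
theorem result {G : Type*} [Group G] [Finite G] (H₁ H₂ H₃ : Subgroup G)
    (h₁ : Group.IsSolvable H₁) (h₂ : Group.IsSolvable H₂) (h₃ : Group.IsSolvable H₃)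
    (h12 : ∀ g : G, ∃ x ∈ H₁, ∃ y ∈ H₂, g = x * y) (h13 : ∀ g : G, ∃ x ∈ H₁, ∃ y ∈ H₃, g = x * y)
    (hcop : H₂.index.Coprime H₃.index) : Group.IsSolvable G := by
  exact solvable_aux H₁ H₂ H₃ h₁ h₂ h₃ h12 h13 hcop

end Cfsg.Agent.S0019
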