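import Cfsg.Statements.S0006
import Mathlib
import Cfsg.Agent.S0007
import Cfsg.Agent.S0019
import Cfsg.Agent.Lib.CharInducedBurnside

set_option autoImplicit false
open Cfsg

namespace Cfsg.Agent.S0006

open scoped Pointwise commutatorElement

universe u

theorem solvable_aux {G : Type u} [Group G] [Finite G]
    (h : ∀ p : ℕ, p.Prime → ∃ H : Subgroup G, H.index = p ^ (Nat.card G).factorization p) :
    Group.IsSolvable G := by
  generalize hn : Nat.card G = n
  induction n using Nat.strong_induction_on generalizing G with
  | _ n ih =>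
    rw [← hn] at ih
    by_cases hsmall : ∃ p q : ℕ, p.Prime ∧ q.Prime ∧ ∀ r : ℕ, r.Prime → r ∣ Nat.card G → r = p ∨ r = q
    · obtain ⟨p, q, hp, hq, hpq⟩ := hsmall
      have hne : Nat.card G ≠ 0 := Nat.card_pos.ne'
      by_cases heq : p = q
      · subst heq
        refine Cfsg.Agent.CharInduced.solvable_of_card_two_primes p p ((Nat.card G).factorization p) 0 hp hp ?_
        rw [pow_zero, mul_one]
        refine Nat.eq_of_factorization_eq hne (pow_ne_zero _ hp.ne_zero) fun r => ?_
        rw [hp.factorization_pow]
        by_cases hr : r.Prime ∧ r ∣ Nat.card G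
        · rcases hpq r hr.1 hr.2 with rfl | rfl <;> simp
        · have h0 : (Nat.card G).factorization r = 0 := by
            rcases not_and_or.1 hr with h' | h'
            · exact Nat.factorization_eq_zero_of_not_prime _ h'
            · exact Nat.factorization_eq_zero_of_not_dvd h'
          rcases eq_or_ne r p with rfl | hrp
          · simp
          · rw [Finsupp.single_eq_of_ne hrp, h0]
      refine Cfsg.Agent.CharInduced.solvable_of_card_two_primes p q ((Nat.card G).factorization p) ((Nat.card G).factorization q) hp hq ?_
      refine Nat.eq_of_factorization_eq hne (mul_ne_zero (pow_ne_zero _ hp.ne_zero) (pow_ne_zero _ hq.ne_zero)) fun r => ?_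
      rw [Nat.factorization_mul (pow_ne_zero _ hp.ne_zero) (pow_ne_zero _ hq.ne_zero), hp.factorization_pow, hq.factorization_pow, Finsupp.add_apply]
      rcases eq_or_ne r p with rfl | hrp
      · simp [Ne.symm heq, heq]
      rcases eq_or_ne r q with rfl | hrq
      · simp [heq, Ne.symm heq]
      rw [Finsupp.single_eq_of_ne hrp, Finsupp.single_eq_of_ne hrq, add_zero]
      by_cases hr : r.Prime
      · refine Nat.factorization_eq_zero_of_not_dvd fun hd => ?_
        exact (hpq r hr hd).elim hrp hrq
      · rw [Nat.factorization_eq_zero_of_not_prime _ hr]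
    push Not at hsmall
    -- three distinct primes dividing the order
    obtain ⟨p, hp, hpd, -⟩ : ∃ r : ℕ, r.Prime ∧ r ∣ Nat.card G ∧ (r ≠ 2 ∧ r ≠ 2) := hsmall 2 2 Nat.prime_two Nat.prime_two
    obtain ⟨q, hq, hqd, hqp, -⟩ := hsmall p p hp hp
    obtain ⟨r, hr, hrd, hrp, hrq⟩ := hsmall p q hp hq
    have hpos : ∀ s : ℕ, s.Prime → s ∣ Nat.card G → 0 < (Nat.card G).factorization s := fun s hs hd =>
      hs.factorization_pos_of_dvd Nat.card_pos.ne' hd
    have hidx : ∀ s : ℕ, s.Prime → s ∣ Nat.card G → ∀ H : Subgroup G,
        H.index = s ^ (Nat.card G).factorization s → Group.IsSolvable H := by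
      intro s hs hsd H hH
      have hmul := H.card_mul_index
      rw [hH] at hmul
      have hlt : Nat.card H < Nat.card G := by
        rw [← hmul]
        exact lt_mul_of_one_lt_right Nat.card_pos (Nat.one_lt_pow (hpos s hs hsd).ne' hs.one_lt)
      refine ih _ hlt (fun t ht => ?_) rfl
      have hfac : (Nat.card H).factorization t = if t = s then 0 else (Nat.card G).factorization t := by
        have h1 := congrArg (fun k : ℕ => k.factorization t) hmul
        simp only [Nat.factorization_mul Nat.card_pos.ne' (pow_ne_zero _ hs.ne_zero), hs.factorization_pow, Finsupp.add_apply] at h1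
        split_ifs with hts
        · subst hts; rw [Finsupp.single_eq_same] at h1; omega
        · rw [Finsupp.single_eq_of_ne hts, add_zero] at h1; exact h1
      rw [hfac]
      split_ifs with hts
      · exact ⟨⊤, by rw [pow_zero, Subgroup.index_top]⟩
      · obtain ⟨K, hK⟩ := h t ht
        refine ⟨K.subgroupOf H, ?_⟩
        have hcop : H.index.Coprime K.index := by
          rw [hH, hK]; exact Nat.Coprime.pow _ _ ((Nat.coprime_primes hs ht).2 (Ne.symm hts))
        have h2 := (Cfsg.Agent.S0007.result H K hcop).1
        rw [← Subgroup.relIndex_mul_index (inf_le_left : H ⊓ K ≤ H), Subgroup.inf_relIndex_left,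
          mul_comm H.index] at h2
        rw [show (K.subgroupOf H).index = K.relIndex H from rfl,
          Nat.eq_of_mul_eq_mul_right (Nat.pos_of_ne_zero Subgroup.index_ne_zero_of_finite) h2, hK]
    obtain ⟨A, hA⟩ := h p hp
    obtain ⟨B, hB⟩ := h q hq
    obtain ⟨C, hC⟩ := h r hr
    have hc : ∀ {s t : ℕ} {X Y : Subgroup G}, s.Prime → t.Prime → s ≠ t → X.index = s ^ (Nat.card G).factorization s →
        Y.index = t ^ (Nat.card G).factorization t → X.index.Coprime Y.index := by
      intro s t X Y hs ht hne hX hY
      rw [hX, hY]; exact Nat.Coprime.pow _ _ ((Nat.coprime_primes hs ht).2 hne)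
    exact Cfsg.Agent.S0019.result A B C (hidx p hp hpd A hA) (hidx q hq hqd B hB) (hidx r hr hrd C hC)
      (Cfsg.Agent.S0007.result A B (hc hp hq (Ne.symm hqp) hA hB)).2
      (Cfsg.Agent.S0007.result A C (hc hp hr (Ne.symm hrp) hA hC)).2
      (hc hq hr (Ne.symm hrq) hB hC)

/-- Converse of Hall's Theorem: if for every prime p a finite group has a subgroup of index equal to the p-part of the group order (a Hall p-complement), then the group is solvable. -/
theorem result {G : Type*} [Group G] [Finite G]
    (h : ∀ p : ℕ, p.Prime → ∃ H : Subgroup G, H.index = p ^ (Nat.card G).factorization p) :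
    Group.IsSolvable G := by
  exact solvable_aux h

end Cfsg.Agent.S0006
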