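import Cfsg.Statements.S0010
import Mathlib

set_option autoImplicit false
open Cfsg

namespace Cfsg.Agent.S0010

open scoped Pointwise



/-- The largest normal p-subgroup of a finite group is the intersection of all its Sylow p-subgroups. -/
theorem result {G : Type*} [Group G] [Finite G] (p : ℕ) [Fact p.Prime] :
    Cfsg.pCore p G = ⨅ P : Sylow p G, (P : Subgroup G) := by
  have hall : ∀ (N : Subgroup G), N.Normal → IsPGroup p N → ∀ P : Sylow p G, N ≤ P := by
    intro N hN hNp P
    obtain ⟨Q, hQ⟩ := hNp.exists_le_sylow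
    obtain ⟨g, rfl⟩ := MulAction.exists_smul_eq G Q P
    intro x hx
    rw [Sylow.coe_subgroup_smul]
    rw [Subgroup.mem_pointwise_smul_iff_inv_smul_mem]
    apply hQ
    simpa [MulAut.smul_def, MulAut.conj_inv_apply] using hN.conj_mem x hx g⁻¹
  apply le_antisymm
  · exact sSup_le fun N hN => le_iInf fun P => hall N hN.1 hN.2 P
  · apply le_sSup
    refine ⟨⟨fun x hx g => ?_⟩, ?_⟩
    · rw [Subgroup.mem_iInf] at hx ⊢
      intro P
      have h' := hx (g⁻¹ • P)
      rw [Sylow.coe_subgroup_smul, Subgroup.mem_pointwise_smul_iff_inv_smul_mem] at h'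
      simpa [MulAut.smul_def, MulAut.conj_inv_apply] using h'
    · obtain ⟨P⟩ := (inferInstance : Nonempty (Sylow p G))
      exact P.2.to_le (iInf_le (fun P : Sylow p G => (P : Subgroup G)) P)

end Cfsg.Agent.S0010
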