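import Cfsg.Statements.S0011
import Mathlib

set_option autoImplicit false
open Cfsg

namespace Cfsg.Agent.S0011

open scoped Pointwise



/-- If the Frattini quotient of a finite group is nilpotent then the group is nilpotent. -/
theorem result {G : Type*} [Group G] [Finite G]
    (h : Group.IsNilpotent (G ⧸ frattini G)) : Group.IsNilpotent G := by
  have t : ∀ (H : Type _) [Group H] [Finite H], (Group.IsNilpotent H ↔ ∀ M : Subgroup H, IsCoatom M → M.Normal) :=
    fun H _ _ => Group.isNilpotent_of_finite_tfae.out 0 2
  rw [t]
  intro M hM
  have hle : frattini G ≤ M := frattini_le_coatom hM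
  let π := QuotientGroup.mk' (frattini G)
  have hπ : Function.Surjective π := QuotientGroup.mk'_surjective _
  have hc : (M.map π).comap π = M := by
    rw [Subgroup.comap_map_eq, QuotientGroup.ker_mk', sup_eq_left.2 hle]
  have hco : IsCoatom (M.map π) := by
    constructor
    · intro htop
      apply hM.1
      rw [← hc, htop, Subgroup.comap_top]
    · intro B hB
      have h1 : M < B.comap π := by
        rw [← hc]
        exact (Subgroup.comap_lt_comap_of_surjective hπ).2 hB
      have h2 := hM.2 _ h1
      rw [← Subgroup.map_comap_eq_self_of_surjective hπ B, h2, Subgroup.map_top_of_surjective π hπ]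
  have := (t _).1 h _ hco
  rw [← hc]
  infer_instance

end Cfsg.Agent.S0011
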