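import Cfsg.Statements.S0065
import Mathlib

set_option autoImplicit false
open Cfsg

namespace Cfsg.Agent.S0065

open scoped Pointwise commutatorElement



/-- A nontrivial normal subgroup of a nilpotent group intersects the centre nontrivially. -/
theorem result {G : Type*} [Group G] [Finite G] [Group.IsNilpotent G]
    (N : Subgroup G) [N.Normal] (hN : N ≠ ⊥) : N ⊓ Subgroup.center G ≠ ⊥ := by
  intro h
  apply hN
  obtain ⟨n, hn⟩ := Group.IsNilpotent.nilpotent G
  suffices hk : ∀ k, N ⊓ Subgroup.upperCentralSeries G k = ⊥ by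
    simpa [hn] using hk n
  intro k
  induction k with
  | zero => simp
  | succ k ih =>
    rw [eq_bot_iff]
    intro x hx
    rw [← h]
    refine ⟨hx.1, Subgroup.mem_center_iff.2 fun y => ?_⟩
    have h1 : x * y * x⁻¹ * y⁻¹ ∈ N ⊓ Subgroup.upperCentralSeries G k := by
      refine ⟨?_, Subgroup.mem_upperCentralSeries_succ_iff.1 hx.2 y⟩
      rw [mul_assoc x, mul_assoc x]
      exact N.mul_mem hx.1 (Subgroup.Normal.conj_mem inferInstance _ (N.inv_mem hx.1) y)
    rw [ih, Subgroup.mem_bot, mul_inv_eq_one, mul_inv_eq_iff_eq_mul] at h1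
    exact h1.symm

end Cfsg.Agent.S0065
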