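import Cfsg.Statements.S0015
import Mathlib
import Cfsg.Agent.S0065

set_option autoImplicit false
open Cfsg

namespace Cfsg.Agent.S0015

open scoped Pointwise commutatorElement



/-- In a finite nilpotent group, an abelian normal subgroup that is maximal among abelian normal subgroups equals its own centralizer. -/
theorem result {G : Type*} [Group G] [Finite G] [Group.IsNilpotent G]
    (N : Subgroup G) [N.Normal] [IsMulCommutative N]
    (hmax : ∀ M : Subgroup G, M.Normal → IsMulCommutative M → N ≤ M → M = N) :
    Subgroup.centralizer (N : Set G) = N := by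
  have hNC : N ≤ Subgroup.centralizer (N : Set G) := by
    intro a ha
    rw [Subgroup.mem_centralizer_iff]
    intro b hb
    exact congrArg Subtype.val (IsMulCommutative.is_comm.comm (⟨b, hb⟩ : N) ⟨a, ha⟩)
  refine le_antisymm ?_ hNC
  by_contra hne
  let π := QuotientGroup.mk' N
  have hπ : Function.Surjective π := QuotientGroup.mk'_surjective _
  have hbar : (Subgroup.centralizer (N : Set G)).map π ≠ ⊥ := by
    rw [Ne, Subgroup.map_eq_bot_iff, QuotientGroup.ker_mk']
    exact hne
  haveI : ((Subgroup.centralizer (N : Set G)).map π).Normal :=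
    Subgroup.Normal.map inferInstance π hπ
  have h := Cfsg.Agent.S0065.result ((Subgroup.centralizer (N : Set G)).map π) hbar
  obtain ⟨q, hq, hq1⟩ := (Subgroup.bot_or_exists_ne_one _).resolve_left h
  obtain ⟨⟨x, hxC, rfl⟩, hqZ⟩ := hq
  have hxN : x ∉ N := fun hx => hq1 ((QuotientGroup.eq_one_iff x).2 hx)
  have hMn : ((Subgroup.zpowers (π x)).comap π).Normal := by
    have : (Subgroup.zpowers (π x)).Normal := Subgroup.Normal.mk fun z hz g => by
      have hzc : z ∈ Subgroup.center _ := (Subgroup.zpowers_le.2 hqZ) hz
      rw [Subgroup.mem_center_iff.1 hzc g, mul_inv_cancel_right]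
      exact hz
    infer_instance
  have hM : (Subgroup.zpowers (π x)).comap π = N ⊔ Subgroup.zpowers x := by
    rw [← MonoidHom.map_zpowers, Subgroup.comap_map_eq, QuotientGroup.ker_mk', sup_comm]
  rw [hM] at hMn
  set M := N ⊔ Subgroup.zpowers x
  have hMC : M ≤ Subgroup.centralizer (M : Set G) := by
    have h1 : M ≤ Subgroup.centralizer (N : Set G) := sup_le hNC (Subgroup.zpowers_le.2 hxC)
    have h2 : M ≤ Subgroup.centralizer ({x} : Set G) := by
      refine sup_le ?_ (Subgroup.zpowers_le.2 ?_)
      · intro a ha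
        rw [Subgroup.mem_centralizer_singleton_iff]
        exact Subgroup.mem_centralizer_iff.1 hxC a ha
      · rw [Subgroup.mem_centralizer_singleton_iff]
    refine sup_le ?_ (Subgroup.zpowers_le.2 ?_)
    · exact Subgroup.le_centralizer_iff.1 h1
    · rw [Subgroup.mem_centralizer_iff]
      intro m hm
      exact Subgroup.mem_centralizer_singleton_iff.1 (h2 hm)
  have hMcomm : IsMulCommutative M := ⟨⟨fun a b => Subtype.ext
    (Subgroup.mem_centralizer_iff.1 (hMC b.2) a.1 a.2)⟩⟩
  have hMN : M = N := hmax M hMn hMcomm le_sup_left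
  exact hxN (hMN ▸ (Subgroup.mem_sup_right (Subgroup.mem_zpowers x) : x ∈ M))

end Cfsg.Agent.S0015
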