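import Cfsg.Statements.S0018
import Cfsg.Agent.Lib.HallConstrained
import Cfsg.Agent.Lib.HallTheorem
-- import your own Cfsg.Agent.* helpers here

set_option autoImplicit false
open Cfsg

namespace Cfsg.Agent.S0018

open Cfsg.Agent.HallCore Cfsg.Agent.HallSolvable Cfsg.Agent.HallConstrained

/-- A finite solvable group whose Sylow p-subgroups are abelian has p-length one: a Sylow p-subgroup together with the largest normal subgroup of order prime to p generates a normal subgroup. -/

theorem result {G : Type*} [Group G] [Finite G] [Group.IsSolvable G]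
    (p : ℕ) [Fact p.Prime] (P : Sylow p G) (hP : IsMulCommutative P) :
    ((P : Subgroup G) ⊔ Cfsg.pPrimeCore p G).Normal := by
  set N := Cfsg.pPrimeCore p G with hN
  set q := QuotientGroup.mk' N
  set U := Cfsg.pPrimePCore p G with hU
  have hq : Function.Surjective q := QuotientGroup.mk'_surjective N
  have hPU : (P : Subgroup G) ≤ U := by
    intro x hx
    refine centralizer_pCore_le (isPSolvable_quotient (isPSolvable_of_solvable p) N)
      (pPrimeCore_quotient_self p G) ?_
    intro y hy
    obtain ⟨z, hz, rfl⟩ := pCore_le_sylow (P.mapSurjective hq) hy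
    rw [← map_mul, ← map_mul]
    exact congrArg q (congrArg Subtype.val (hP.is_comm.comm ⟨z, hz⟩ ⟨x, hx⟩))
  suffices (P : Subgroup G) ⊔ N = U by rw [this]; infer_instance
  have e := sylImg_sup (P.subtype hPU)
  rw [sylImg, Sylow.coe_subtype, Subgroup.map_subgroupOf_eq_of_le hPU] at e
  exact e

end Cfsg.Agent.S0018
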