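import Cfsg.Statements.S0021
import Mathlib
import Cfsg.Agent.S0006

set_option autoImplicit false
open Pointwise
open Cfsg

namespace Cfsg.Agent.S0021

open scoped Pointwise commutatorElement

/-- The subgroup formed by two permuting subgroups. -/
def prodSubgroup {G : Type*} [Group G] (H K : Subgroup G) (h : (H : Set G) * (K : Set G) = (K : Set G) * (H : Set G)) : Subgroup G where
  carrier := (H : Set G) * (K : Set G)
  one_mem' := ⟨1, H.one_mem, 1, K.one_mem, mul_one 1⟩
  mul_mem' := by
    intro a b ha hb
    have e : (H : Set G) * (K : Set G) * ((H : Set G) * (K : Set G)) = (H : Set G) * (K : Set G) := by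
      rw [mul_assoc, ← mul_assoc (K : Set G), ← h, mul_assoc (H : Set G) (K : Set G), coe_mul_coe, ← mul_assoc, coe_mul_coe]
    exact e ▸ Set.mul_mem_mul ha hb
  inv_mem' := by
    intro a ha
    obtain ⟨x, hx, y, hy, rfl⟩ := ha
    rw [h, mul_inv_rev]
    exact Set.mul_mem_mul (K.inv_mem hy) (H.inv_mem hx)

theorem exists_prod {G : Type*} [Group G] [Finite G]
    (S : (p : Nat.Primes) → Sylow (p : ℕ) G)
    (hS : ∀ p q : Nat.Primes, (S p : Set G) * (S q : Set G) = (S q : Set G) * (S p : Set G))
    (s : Finset Nat.Primes) :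
    ∃ K : Subgroup G, Nat.card K = ∏ p ∈ s, Nat.card (S p) ∧
      ∀ q : Nat.Primes, (S q : Set G) * (K : Set G) = (K : Set G) * (S q : Set G) := by
  classical
  induction s using Finset.induction_on with
  | empty => exact ⟨⊥, by simp, fun q => by simp⟩
  | insert p t hp ih =>
    obtain ⟨K, hK, hKc⟩ := ih
    refine ⟨prodSubgroup (S p).1 K (hKc p), ?_, fun q => ?_⟩
    · rw [Finset.prod_insert hp, ← hK]
      haveI : Fact (p : ℕ).Prime := ⟨p.2⟩
      obtain ⟨a, ha⟩ := IsPGroup.iff_card.1 (S p).2
      have hcop : (Nat.card (S p).1).Coprime (Nat.card K) := by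
        rw [hK]
        refine Nat.Coprime.prod_right fun q hq => ?_
        haveI : Fact (q : ℕ).Prime := ⟨q.2⟩
        obtain ⟨b, hb⟩ := IsPGroup.iff_card.1 (S q).2
        show (Nat.card (S p).1).Coprime (Nat.card (S q).1)
        rw [ha, hb]
        exact Nat.Coprime.pow _ _ ((Nat.coprime_primes p.2 q.2).2 fun e => hp (by rwa [show p = q from Subtype.ext e]))
      rw [← Nat.card_prod]
      refine (Nat.card_congr (Equiv.ofBijective (fun x : (S p).1 × K => (⟨x.1 * x.2, x.1, x.1.2, x.2, x.2.2, rfl⟩ : prodSubgroup (S p).1 K (hKc p))) ⟨?_, ?_⟩)).symm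
      · intro x y hxy
        exact Subgroup.mul_injective_of_disjoint (Subgroup.disjoint_of_coprime_natCard hcop) (congrArg Subtype.val hxy)
      · rintro ⟨g, x, hx, y, hy, rfl⟩
        exact ⟨(⟨x, hx⟩, ⟨y, hy⟩), rfl⟩
    · show (S q : Set G) * ((S p : Set G) * (K : Set G)) = ((S p : Set G) * (K : Set G)) * (S q : Set G)
      rw [← mul_assoc, hS, mul_assoc, hKc, ← mul_assoc]

/-- A finite group with a family of pairwise permuting Sylow subgroups, one for each prime, is solvable (this direction rests on Burnside's two-prime Theorem). -/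
theorem result {G : Type*} [Group G] [Finite G]
    (S : (p : Nat.Primes) → Sylow (p : ℕ) G)
    (hS : ∀ p q : Nat.Primes, (S p : Set G) * (S q : Set G) = (S q : Set G) * (S p : Set G)) :
    Group.IsSolvable G := by
  classical
  apply Cfsg.Agent.S0006.result
  intro p hp
  let P : Finset Nat.Primes := ((Nat.card G).primeFactors.erase p).subtype Nat.Prime
  obtain ⟨K, hK, -⟩ := exists_prod S hS P
  refine ⟨K, ?_⟩
  have hcard : ∀ q : Nat.Primes, Nat.card (S q) = (q : ℕ) ^ (Nat.card G).factorization q := fun q => by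
    haveI : Fact (q : ℕ).Prime := ⟨q.2⟩
    exact (S q).card_eq_multiplicity
  have h1 : Nat.card K = ∏ x ∈ (Nat.card G).primeFactors.erase p, x ^ (Nat.card G).factorization x := by
    rw [hK]
    refine (Finset.prod_congr rfl fun q _ => hcard q).trans ?_
    refine (Finset.prod_subtype_eq_prod_filter (p := Nat.Prime) (fun x : ℕ => x ^ (Nat.card G).factorization x)).trans ?_
    rw [Finset.filter_true_of_mem fun x hx => Nat.prime_of_mem_primeFactors (Finset.mem_of_mem_erase hx)]
  have h2 : Nat.card G = p ^ (Nat.card G).factorization p * Nat.card K := by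
    rw [h1]
    by_cases hd : p ∈ (Nat.card G).primeFactors
    · rw [Finset.mul_prod_erase _ (fun x => x ^ (Nat.card G).factorization x) hd]
      conv_lhs => rw [← Nat.prod_factorization_pow_eq_self (n := Nat.card G) Nat.card_pos.ne']
      rfl
    · rw [Finset.erase_eq_of_notMem hd]
      have h0 : (Nat.card G).factorization p = 0 := Finsupp.notMem_support_iff.1 (by rwa [Nat.support_factorization])
      rw [h0, pow_zero, one_mul]
      conv_lhs => rw [← Nat.prod_factorization_pow_eq_self (n := Nat.card G) Nat.card_pos.ne']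
      rfl
  have h3 := K.card_mul_index
  rw [h2, mul_comm] at h3
  exact Nat.eq_of_mul_eq_mul_right Nat.card_pos h3

end Cfsg.Agent.S0021
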