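import Cfsg.Statements.S0037
import Cfsg.Agent.Lib.FrobeniusBasic
-- import your own Cfsg.Agent.* helpers here

set_option autoImplicit false
open Pointwise
open Cfsg

namespace Cfsg.Agent.S0037

/-- Of two Frobenius complements in one finite group, the one of smaller (or equal) order is conjugate to a subgroup of the other. -/
theorem result {G : Type*} [Group G] [Finite G] (H H₀ : Subgroup G)
    (hH : Cfsg.IsFrobeniusComplement H) (hH₀ : Cfsg.IsFrobeniusComplement H₀) (hle : Nat.card H₀ ≤ Nat.card H) :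
    ∃ g : G, MulAut.conj g • H₀ ≤ H := by
  rcases Cfsg.Agent.FrobeniusBasic.exists_le_conj_or H hH₀ hH with ⟨g, hg⟩ | ⟨g, hg⟩
  · refine ⟨g⁻¹, fun x hx => ?_⟩
    rw [Cfsg.Agent.FrobeniusBasic.mem_conj_smul_iff, inv_inv] at hx
    have := Cfsg.Agent.FrobeniusBasic.mem_conj_smul_iff.1 (hg hx)
    have h : g⁻¹ * (g * x * g⁻¹) * g = x := by group
    rwa [h] at this
  · have hc : Nat.card (MulAut.conj g • H₀ : Subgroup G) = Nat.card H₀ :=
      (Nat.card_congr (Subgroup.equivSMul (MulAut.conj g) H₀).toEquiv).symm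
    exact ⟨g, (Subgroup.eq_of_le_of_card_ge hg (by rw [hc]; exact hle)).ge⟩

end Cfsg.Agent.S0037
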