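import Cfsg.Statements.S0038
import Cfsg.Agent.Lib.FrobeniusComplement
import Cfsg.Agent.Lib.CharInducedTI
-- import your own Cfsg.Agent.* helpers here

set_option autoImplicit false
open Pointwise
open Cfsg

namespace Cfsg.Agent.S0038

/-- All Frobenius complements of a finite group are conjugate to one another. -/
theorem result {G : Type*} [Group G] [Finite G] (H H₀ : Subgroup G)
    (hH : Cfsg.IsFrobeniusComplement H) (hH₀ : Cfsg.IsFrobeniusComplement H₀) :
    ∃ g : G, MulAut.conj g • H₀ = H := by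
  classical
  have := Fintype.ofFinite G
  -- it suffices that neither is properly inside a conjugate of the other
  have key : ∀ A B : Subgroup G, Cfsg.IsFrobeniusComplement A → Cfsg.IsFrobeniusComplement B →
      A ≤ B → A = B := by
    intro A B hA hB hAB
    by_contra hne
    obtain ⟨N, hN, hNn, hc⟩ := Cfsg.Agent.CharInduced.frobenius_kernel_subgroup hB
    have hNb : N ≠ ⊥ := Cfsg.Agent.FrobeniusBasic.kernel_ne_bot hB hN
    obtain ⟨z, hz, hz1⟩ := (Subgroup.center B).bot_or_exists_ne_one.resolve_left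
      (Cfsg.Agent.FrobeniusComplement.center_ne_bot hc hNb hB.1
        (Cfsg.Agent.FrobeniusBasic.fpf_of_complement hB hc.disjoint))
    obtain ⟨a, ha, ha1⟩ := A.bot_or_exists_ne_one.resolve_left hA.1
    obtain ⟨b, hb, hbA⟩ := SetLike.exists_of_lt (lt_of_le_of_ne hAB hne)
    have hz1' : (z : G) ≠ 1 := fun e => hz1 (Subtype.ext e)
    have hza : (z : G) ∈ A := by
      refine Cfsg.Agent.FrobeniusBasic.centralizer_le hA ha ha1 ?_
      rw [Subgroup.mem_centralizer_iff]
      rintro y rfl
      exact congrArg Subtype.val (Subgroup.mem_center_iff.1 hz ⟨y, hAB ha⟩)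
    apply hbA
    refine Cfsg.Agent.FrobeniusBasic.mem_of_conj_mem' hA hza hz1' ?_
    have hbz : b * (z : G) = z * b := congrArg Subtype.val (Subgroup.mem_center_iff.1 hz ⟨b, hb⟩)
    rw [hbz, mul_inv_cancel_right]
    exact hza
  rcases Cfsg.Agent.FrobeniusBasic.exists_le_conj_or H₀ hH hH₀ with ⟨g, hg⟩ | ⟨g, hg⟩
  · exact ⟨g, (key _ _ hH (Cfsg.Agent.FrobeniusBasic.conj_smul hH₀ g) hg).symm⟩
  · refine ⟨g⁻¹, ?_⟩
    rw [key _ _ hH₀ (Cfsg.Agent.FrobeniusBasic.conj_smul hH g) hg, ← mul_smul, ← map_mul,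
      inv_mul_cancel, map_one, one_smul]

end Cfsg.Agent.S0038
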