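import Cfsg.Statements.S0047
import Mathlib

set_option autoImplicit false
open Cfsg

namespace Cfsg.Agent.S0047

open scoped Pointwise commutatorElement



/-- A finite group which is the product AB of two abelian subgroups A and B is solvable. -/
theorem result {G : Type*} [Group G] [Finite G] (A B : Subgroup G)
    [IsMulCommutative A] [IsMulCommutative B] (hAB : ∀ g : G, ∃ a ∈ A, ∃ b ∈ B, g = a * b) :
    Group.IsSolvable G := by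
  have hA : ∀ a ∈ A, ∀ a' ∈ A, a * a' = a' * a := fun a ha a' ha' =>
    congrArg Subtype.val (IsMulCommutative.is_comm.comm (⟨a, ha⟩ : A) ⟨a', ha'⟩)
  have hB : ∀ b ∈ B, ∀ b' ∈ B, b * b' = b' * b := fun b hb b' hb' =>
    congrArg Subtype.val (IsMulCommutative.is_comm.comm (⟨b, hb⟩ : B) ⟨b', hb'⟩)
  have hBA : ∀ g : G, ∃ b ∈ B, ∃ a ∈ A, g = b * a := fun g => by
    obtain ⟨a, ha, b, hb, h⟩ := hAB g⁻¹
    exact ⟨b⁻¹, B.inv_mem hb, a⁻¹, A.inv_mem ha, by rw [← mul_inv_rev, ← h, inv_inv]⟩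
  have conjA : ∀ a' ∈ A, ∀ b ∈ B, ∃ b₂ ∈ B, ∀ a ∈ A, a' * ⁅a, b⁆ * a'⁻¹ = ⁅a, b₂⁆ := by
    intro a' ha' b hb
    obtain ⟨b₂, hb₂, a₂, ha₂, e⟩ := hBA (a' * b)
    refine ⟨b₂, hb₂, fun a ha => ?_⟩
    have e1 : a' * a * a'⁻¹ = a := by rw [hA a' ha' a ha]; group
    have e2 : a' * b * a'⁻¹ = b₂ * (a₂ * a'⁻¹) := by rw [e]; group
    have e3 : (a₂ * a'⁻¹) * a⁻¹ = a⁻¹ * (a₂ * a'⁻¹) := hA _ (A.mul_mem ha₂ (A.inv_mem ha')) _ (A.inv_mem ha)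
    calc a' * ⁅a, b⁆ * a'⁻¹ = ⁅a' * a * a'⁻¹, a' * b * a'⁻¹⁆ := conjugate_commutatorElement a b a'
      _ = a * b₂ * ((a₂ * a'⁻¹) * a⁻¹) * (a₂ * a'⁻¹)⁻¹ * b₂⁻¹ := by rw [e1, e2, commutatorElement_def]; group
      _ = ⁅a, b₂⁆ := by rw [e3, commutatorElement_def]; group
  have conjB : ∀ b' ∈ B, ∀ a ∈ A, ∃ a₁ ∈ A, ∀ b ∈ B, b' * ⁅a, b⁆ * b'⁻¹ = ⁅a₁, b⁆ := by
    intro b' hb' a ha
    obtain ⟨a₁, ha₁, b₁, hb₁, e⟩ := hAB (b' * a)
    refine ⟨a₁, ha₁, fun b hb => ?_⟩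
    have e1 : b' * b * b'⁻¹ = b := by rw [hB b' hb' b hb]; group
    have e2 : b' * a * b'⁻¹ = a₁ * (b₁ * b'⁻¹) := by rw [e]; group
    have e3 : (b₁ * b'⁻¹) * b = b * (b₁ * b'⁻¹) := hB _ (B.mul_mem hb₁ (B.inv_mem hb')) _ hb
    calc b' * ⁅a, b⁆ * b'⁻¹ = ⁅b' * a * b'⁻¹, b' * b * b'⁻¹⁆ := conjugate_commutatorElement a b b'
      _ = a₁ * ((b₁ * b'⁻¹) * b) * (b₁ * b'⁻¹)⁻¹ * a₁⁻¹ * b⁻¹ := by rw [e1, e2, commutatorElement_def]; group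
      _ = ⁅a₁, b⁆ := by rw [e3, commutatorElement_def]; group
  set S : Set G := {g | ∃ a ∈ A, ∃ b ∈ B, ⁅a, b⁆ = g} with hS
  have hc : ∀ s ∈ S, ∀ t ∈ S, s * t = t * s := by
    rintro _ ⟨a', ha', b', hb', rfl⟩ _ ⟨a, ha, b, hb, rfl⟩
    obtain ⟨b₂, hb₂, h2⟩ := conjA a' ha' b hb
    obtain ⟨a₁, ha₁, h1⟩ := conjB b' hb' a ha
    have p1 : b' * a' * ⁅a, b⁆ * (b' * a')⁻¹ = ⁅a₁, b₂⁆ := by
      rw [← h1 b₂ hb₂, ← h2 a ha]; group
    have p2 : a' * b' * ⁅a, b⁆ * (a' * b')⁻¹ = ⁅a₁, b₂⁆ := by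
      rw [← h2 a₁ ha₁, ← h1 b hb]; group
    -- apply the same to the preimage
    have p4 : ∀ x ∈ A, ∀ y ∈ B, ⁅a', b'⁆ * (b' * a' * ⁅x, y⁆ * (b' * a')⁻¹) * ⁅a', b'⁆⁻¹ = b' * a' * ⁅x, y⁆ * (b' * a')⁻¹ := by
      intro x hx y hy
      obtain ⟨y₂, hy₂, q2⟩ := conjA a' ha' y hy
      obtain ⟨x₁, hx₁, q1⟩ := conjB b' hb' x hx
      have r1 : b' * a' * ⁅x, y⁆ * (b' * a')⁻¹ = ⁅x₁, y₂⁆ := by
        rw [← q1 y₂ hy₂, ← q2 x hx]; group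
      have r2 : a' * b' * ⁅x, y⁆ * (a' * b')⁻¹ = ⁅x₁, y₂⁆ := by
        rw [← q2 x₁ hx₁, ← q1 y hy]; group
      refine Eq.trans ?_ (r2.trans r1.symm)
      rw [commutatorElement_def a' b']; group
    obtain ⟨a₀, ha₀, q1⟩ := conjB b'⁻¹ (B.inv_mem hb') a ha
    obtain ⟨b₀, hb₀, q2⟩ := conjA a'⁻¹ (A.inv_mem ha') b hb
    have q3 : b' * a' * ⁅a₀, b₀⁆ * (b' * a')⁻¹ = ⁅a, b⁆ := by
      rw [← q2 a₀ ha₀, ← q1 b hb]; group
    have := p4 a₀ ha₀ b₀ hb₀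
    rw [q3, mul_inv_eq_iff_eq_mul] at this
    exact this
  set N := Subgroup.closure S with hN
  haveI hNc : IsMulCommutative N := Subgroup.isMulCommutative_closure hc
  have hgen : ∀ x : G, ∀ s ∈ S, x * s * x⁻¹ ∈ S := by
    rintro x _ ⟨a, ha, b, hb, rfl⟩
    obtain ⟨a', ha', b', hb', rfl⟩ := hAB x
    obtain ⟨a₁, ha₁, h1⟩ := conjB b' hb' a ha
    obtain ⟨b₂, hb₂, h2⟩ := conjA a' ha' b hb
    exact ⟨a₁, ha₁, b₂, hb₂, by rw [← h2 a₁ ha₁, ← h1 b hb]; group⟩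
  have hNn : N.Normal := Subgroup.Normal.mk fun n hn x => by
    have h : N.map (MulAut.conj x).toMonoidHom ≤ N := by
      rw [hN, MonoidHom.map_closure, Subgroup.closure_le]
      rintro _ ⟨s, hs, rfl⟩
      exact Subgroup.subset_closure (hgen x s hs)
    exact h ⟨n, hn, rfl⟩
  let π := QuotientGroup.mk' N
  have hπc : ∀ a ∈ A, ∀ b ∈ B, π a * π b = π b * π a := fun a ha b hb => by
    rw [← commutatorElement_eq_one_iff_mul_comm, ← map_commutatorElement]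
    exact (QuotientGroup.eq_one_iff _).2 (Subgroup.subset_closure ⟨a, ha, b, hb, rfl⟩)
  have hG' : commutator G ≤ N := by
    rw [commutator_def, Subgroup.commutator_le]
    intro g _ h _
    rw [← QuotientGroup.eq_one_iff (N := N)]
    show π ⁅g, h⁆ = 1
    rw [map_commutatorElement, commutatorElement_eq_one_iff_mul_comm]
    obtain ⟨a, ha, b, hb, rfl⟩ := hAB g
    obtain ⟨a', ha', b', hb', rfl⟩ := hAB h
    have c1 : Commute (π a) (π a') := (show Commute a a' from hA a ha a' ha').map π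
    have c2 : Commute (π b) (π b') := (show Commute b b' from hB b hb b' hb').map π
    have c3 : Commute (π a) (π b') := hπc a ha b' hb'
    have c4 : Commute (π b) (π a') := (show Commute (π a') (π b) from hπc a' ha' b hb).symm
    simp only [map_mul]
    exact ((c1.mul_right c3).mul_left (c4.mul_right c2)).eq
  refine (Group.isSolvable_def G).2 ⟨2, ?_⟩
  rw [derivedSeries_succ, derivedSeries_one, eq_bot_iff, Subgroup.commutator_le]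
  intro x hx y hy
  rw [Subgroup.mem_bot, commutatorElement_eq_one_iff_mul_comm]
  exact congrArg Subtype.val (hNc.is_comm.comm ⟨x, hG' hx⟩ ⟨y, hG' hy⟩)

end Cfsg.Agent.S0047
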