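import Cfsg.Statements.S0048
import Cfsg.Agent.Lib.HallTheorem
-- import your own Cfsg.Agent.* helpers here

set_option autoImplicit false
open Cfsg

namespace Cfsg.Agent.S0048

open Cfsg.Agent.HallCore Cfsg.Agent.HallSolvable Cfsg.Agent.HallTheorem

/-- In a finite solvable group every maximal subgroup has index a prime power. -/

theorem result {G : Type*} [Group G] [Finite G] [Group.IsSolvable G]
    (M : Subgroup G) (hM : IsCoatom M) : IsPrimePow M.index := by
  set q := QuotientGroup.mk' M.normalCore
  have hMt : M.normalCore ≠ ⊤ := fun h => hM.1 (top_le_iff.mp (h ▸ M.normalCore_le))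
  have : Nontrivial (G ⧸ M.normalCore) := QuotientGroup.nontrivial_iff.mpr hMt
  obtain ⟨L, hL⟩ := exists_minNormal (G := G ⧸ M.normalCore)
  have := hL.normal
  obtain ⟨p, k, hp, hk0, hk, -⟩ := hL.card_eq_pow
  have hidx : (M.map q).index = M.index := index_map_mk'_of_le M.normalCore_le
  have hnot : ¬ L ≤ M.map q := by
    intro h
    have h1 : L.comap q ≤ M := by
      have := Subgroup.comap_mono (f := q) h
      rwa [comap_mk'_map_of_le M.normalCore_le] at this
    have h2 : L.comap q ≤ M.normalCore := Subgroup.normal_le_normalCore.mpr h1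
    apply hL.ne_bot
    rw [← Subgroup.map_comap_eq_self_of_surjective (QuotientGroup.mk'_surjective _) L]
    exact map_mk'_eq_bot.mpr h2
  have htop : M.map q ⊔ L = ⊤ := by
    by_contra hne
    have hlt : M < (M.map q ⊔ L).comap q := by
      refine lt_of_le_of_ne (Subgroup.map_le_iff_le_comap.mp le_sup_left) fun heq => hnot ?_
      intro x hx
      obtain ⟨y, rfl⟩ := QuotientGroup.mk'_surjective M.normalCore x
      refine ⟨y, ?_, rfl⟩
      rw [heq]
      exact Subgroup.mem_sup_right hx
    refine hne ?_
    have := hM.2 _ hlt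
    rw [← Subgroup.map_comap_eq_self_of_surjective (QuotientGroup.mk'_surjective _) (M.map q ⊔ L),
      this, Subgroup.map_top_of_surjective _ (QuotientGroup.mk'_surjective _)]
  have hd : (M.map q).index ∣ Nat.card L := by
    refine ⟨Nat.card ↥(M.map q ⊓ L), ?_⟩
    have h1 := card_mul_relIndex (inf_le_left : M.map q ⊓ L ≤ M.map q)
    rw [Subgroup.inf_relIndex_left, ← Subgroup.relIndex_sup_right, htop,
      Subgroup.relIndex_top_right] at h1
    refine Nat.eq_of_mul_eq_mul_left (Nat.card_pos (α := M.map q)) ?_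
    rw [← mul_assoc, Subgroup.card_mul_index, ← L.card_mul_index]
    rw [← h1]; ring
  rw [hidx, hk, Nat.dvd_prime_pow hp] at hd
  obtain ⟨j, -, hj⟩ := hd
  refine ⟨p, j, hp.prime, Nat.pos_of_ne_zero ?_, hj.symm⟩
  rintro rfl
  exact hM.1 (Subgroup.index_eq_one.mp (by simpa using hj))

end Cfsg.Agent.S0048
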