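import Cfsg.Statements.S0049
import Mathlib

set_option autoImplicit false
open Cfsg

namespace Cfsg.Agent.S0049

open scoped Pointwise commutatorElement



/-- A prime divisor of the order of a finite group also divides the index of the Frattini subgroup. -/
theorem result {G : Type*} [Group G] [Finite G] (p : ℕ) (hp : p.Prime) (hdvd : p ∣ Nat.card G) :
    p ∣ (frattini G).index := by
  haveI : Fact p.Prime := ⟨hp⟩
  by_contra hidx
  obtain ⟨P⟩ := (inferInstance : Nonempty (Sylow p (frattini G)))
  set P' : Subgroup G := (P : Subgroup (frattini G)).map (frattini G).subtype with hP'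
  have hn : P'.Normal :=
    Subgroup.normalizer_eq_top_iff.mp (frattini_nongenerating (Sylow.normalizer_sup_eq_top P))
  obtain ⟨k, hk⟩ := IsPGroup.iff_card.1 (P.2.map (frattini G).subtype)
  have hidx' : ¬ p ∣ P'.index := by
    rw [hP', Subgroup.index_map_subtype]
    exact fun h => (hp.dvd_mul.1 h).elim P.not_dvd_index hidx
  have hcop : (Nat.card P').Coprime P'.index := by
    rw [show Nat.card P' = p ^ k from hk]
    exact Nat.Coprime.pow_left _ ((hp.coprime_iff_not_dvd).2 hidx')
  obtain ⟨H, hH⟩ := Subgroup.exists_right_complement'_of_coprime hcop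
  have hle : P' ≤ frattini G := Subgroup.map_subtype_le _
  have htop : H = ⊤ := by
    apply frattini_nongenerating
    rw [eq_top_iff, ← hH.sup_eq_top, sup_comm P']
    exact sup_le_sup_left hle _
  subst htop
  rw [Subgroup.isComplement'_top_right] at hH
  rw [hH, Subgroup.index_bot] at hidx'
  exact hidx' hdvd

end Cfsg.Agent.S0049
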