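import Cfsg.Statements.S0050
import Cfsg.Agent.Lib.HallTheorem
-- import your own Cfsg.Agent.* helpers here

set_option autoImplicit false
open Cfsg

namespace Cfsg.Agent.S0050

open Cfsg.Agent.HallCore Cfsg.Agent.HallSolvable Cfsg.Agent.HallTheorem
open scoped Pointwise

/-- Frattini argument for Hall subgroups: if L is a solvable normal subgroup and H a subgroup of L of order coprime to its index in L, then L together with the normaliser of H generates the whole group. -/

theorem result {G : Type*} [Group G] [Finite G] (L : Subgroup G) [L.Normal] (hL : Group.IsSolvable L)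
    (H : Subgroup G) (hHL : H ≤ L) (hHall : (Nat.card H).Coprime (H.relIndex L)) :
    L ⊔ Subgroup.normalizer (H : Set G) = ⊤ := by
  rw [eq_top_iff]
  intro g _
  set π : Set ℕ := {q | q ∣ Nat.card H} with hπ
  have hgH : MulAut.conj g • H ≤ L := by
    rw [← conj_smul_normal g L]
    exact Subgroup.pointwise_smul_le_pointwise_smul_iff.mpr hHL
  have hcard : Nat.card L = Nat.card H * H.relIndex L := (card_mul_relIndex hHL).symm
  have h1 : Cfsg.IsPiHall π (H.subgroupOf L) :=
    isPiHall_of_card hcard hHall (Nat.card_congr (Subgroup.subgroupOfEquivOfLe hHL).toEquiv)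
  have h2 : Cfsg.IsPiHall π ((MulAut.conj g • H).subgroupOf L) :=
    isPiHall_of_card hcard hHall ((Nat.card_congr (Subgroup.subgroupOfEquivOfLe hgH).toEquiv).trans
      (card_conj_smul g H))
  obtain ⟨l, hl⟩ := isPiHall_conjugate_of_solvable h1 h2
  have h3 := congrArg (Subgroup.map L.subtype) hl
  rw [map_conj_smul, Subgroup.map_subgroupOf_eq_of_le hHL,
    Subgroup.map_subgroupOf_eq_of_le hgH] at h3
  have h4 : (l : G)⁻¹ * g ∈ Subgroup.normalizer (H : Set G) := by
    rw [Subgroup.mem_normalizer_iff_map_conj_eq]
    have h5 : MulAut.conj ((l : G)⁻¹ * g) • H = H := by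
      rw [map_mul, mul_smul, ← h3, ← mul_smul, ← map_mul]
      simp
    rw [conj_smul_eq_map] at h5
    exact h5
  have : g = l * ((l : G)⁻¹ * g) := by group
  rw [this]
  exact Subgroup.mul_mem_sup l.2 h4

end Cfsg.Agent.S0050
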