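import Cfsg.Statements.S0053
import Mathlib

set_option autoImplicit false
open Cfsg

namespace Cfsg.Agent.S0053

open scoped Pointwise commutatorElement



/-- An abelian minimal normal subgroup N of a finite group is complemented exactly when N is not inside the Frattini subgroup. -/
theorem result {G : Type*} [Group G] [Finite G]
    (N : Subgroup G) [N.Normal] [IsMulCommutative N] (hN : N ≠ ⊥)
    (hmin : ∀ M : Subgroup G, M.Normal → M ≤ N → M = ⊥ ∨ M = N) :
    (∃ H : Subgroup G, Subgroup.IsComplement' N H) ↔ ¬ N ≤ frattini G := by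
  constructor
  · rintro ⟨H, hH⟩ hle
    have htop : H = ⊤ := by
      apply frattini_nongenerating
      rw [eq_top_iff, ← hH.sup_eq_top, sup_comm N]
      exact sup_le_sup_left hle _
    subst htop
    exact hN (Subgroup.isComplement'_top_right.1 hH)
  · intro hle
    obtain ⟨M, hM, hNM⟩ : ∃ M : Subgroup G, IsCoatom M ∧ ¬ N ≤ M := by
      by_contra h
      push Not at h
      exact hle (by unfold frattini Order.radical; exact le_iInf₂ fun M hM => h M hM)
    have htop : N ⊔ M = ⊤ := hM.2 _ (lt_of_le_of_ne le_sup_right (fun h => hNM (h ▸ le_sup_left)))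
    have hn : (N ⊓ M).Normal := Subgroup.normalizer_eq_top_iff.mp (by
      rw [eq_top_iff, ← htop]
      refine sup_le ?_ ?_
      · intro n hn
        refine Subgroup.centralizer_le_normalizer _ ?_
        rw [Subgroup.mem_centralizer_iff]
        intro a ha
        exact congrArg Subtype.val (IsMulCommutative.is_comm.comm (⟨a, ha.1⟩ : N) ⟨n, hn⟩)
      · intro m hm
        rw [Subgroup.mem_normalizer_iff]
        intro a
        constructor
        · intro ha
          exact ⟨Subgroup.Normal.conj_mem inferInstance a ha.1 m, M.mul_mem (M.mul_mem hm ha.2) (M.inv_mem hm)⟩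
        · intro ha
          have e : a = m⁻¹ * (m * a * m⁻¹) * m := by group
          rw [e]
          exact ⟨by simpa using Subgroup.Normal.conj_mem inferInstance _ ha.1 m⁻¹, M.mul_mem (M.mul_mem (M.inv_mem hm) ha.2) hm⟩)
    rcases hmin _ hn inf_le_left with h | h
    · refine ⟨M, Subgroup.isComplement'_of_disjoint_and_mul_eq_univ (disjoint_iff.2 h) ?_⟩
      rw [← Subgroup.normal_mul, htop, Subgroup.coe_top]
    · exact absurd (inf_eq_left.1 h) hNM

end Cfsg.Agent.S0053
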