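import Cfsg.Statements.S0054
import Mathlib

set_option autoImplicit false
open Cfsg

namespace Cfsg.Agent.S0054

open scoped Pointwise commutatorElement



/-- A regular normal subgroup of a finite 2-transitive group is elementary abelian: it is commutative and all its elements have order dividing one prime. -/
theorem result {G : Type*} [Group G] [Finite G]
    {X : Type*} [Nonempty X] [MulAction G X] (h2 : MulAction.IsMultiplyPretransitive G X 2)
    (N : Subgroup G) [N.Normal] (htrans : MulAction.IsPretransitive N X) (hreg : ∀ x : X, MulAction.stabilizer N x = ⊥) :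
    IsMulCommutative N ∧ ∃ p : ℕ, p.Prime ∧ ∀ n ∈ N, n ^ p = 1 := by
  obtain ⟨x⟩ := (inferInstance : Nonempty X)
  have hfree : ∀ n : G, n ∈ N → ∀ y : X, n • y = y → n = 1 := by
    intro n hn y hy
    have h1 : (⟨n, hn⟩ : N) ∈ MulAction.stabilizer N y := hy
    rw [hreg y, Subgroup.mem_bot] at h1
    exact congrArg Subtype.val h1
  have hinj : ∀ a ∈ N, ∀ b ∈ N, a • x = b • x → a = b := by
    intro a ha b hb h
    have : (b⁻¹ * a) • x = x := by rw [mul_smul, h, inv_smul_smul]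
    exact (inv_mul_eq_one.1 (hfree _ (N.mul_mem (N.inv_mem hb) ha) x this)).symm
  have hconj : ∀ a ∈ N, a ≠ 1 → ∀ b ∈ N, b ≠ 1 → ∃ g : G, g * a * g⁻¹ = b := by
    intro a ha ha1 b hb hb1
    have h2' : ∀ {a b c d : X}, a ≠ b → c ≠ d → ∃ g : G, g • a = c ∧ g • b = d := MulAction.is_two_pretransitive_iff.1 h2
    obtain ⟨g, hgx, hga⟩ := @h2' x (a • x) x (b • x)
      (fun h => ha1 (hfree a ha x h.symm)) (fun h => hb1 (hfree b hb x h.symm))
    refine ⟨g, hinj _ (Subgroup.Normal.conj_mem inferInstance a ha g) b hb ?_⟩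
    have hgx' : g⁻¹ • x = x := by rw [inv_smul_eq_iff, hgx]
    rw [mul_smul, hgx', mul_smul, hga]
  by_cases hbot : N = ⊥
  · subst hbot
    exact ⟨⟨⟨fun a b => Subsingleton.elim _ _⟩⟩, 2, Nat.prime_two, fun n hn => by simp [Subgroup.mem_bot.1 hn]⟩
  obtain ⟨p, hp, hpd⟩ := Nat.exists_prime_and_dvd (n := Nat.card N)
    (fun h => hbot ((Subgroup.card_eq_one).1 h))
  haveI : Fact p.Prime := ⟨hp⟩
  obtain ⟨a₀, ha₀⟩ := exists_prime_orderOf_dvd_card' p hpd
  have ha1 : (a₀ : G) ≠ 1 := by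
    intro h
    have : a₀ = 1 := Subtype.ext h
    rw [this, orderOf_one] at ha₀
    exact hp.one_lt.ne ha₀
  have hpow : ∀ n ∈ N, n ^ p = 1 := by
    intro n hn
    rcases eq_or_ne n 1 with rfl | hn1
    · simp
    obtain ⟨g, rfl⟩ := hconj _ a₀.2 ha1 n hn hn1
    have : (a₀ : G) ^ p = 1 := by rw [← SubmonoidClass.coe_pow, ← ha₀, pow_orderOf_eq_one]; rfl
    rw [conj_pow, this]; group
  refine ⟨?_, p, hp, hpow⟩
  have hpg : IsPGroup p N := fun n => ⟨1, Subtype.ext (by simpa using hpow n n.2)⟩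
  haveI : Nontrivial N := (Subgroup.nontrivial_iff_ne_bot N).2 hbot
  obtain ⟨z, hz, hz1⟩ := (Subgroup.bot_or_exists_ne_one (Subgroup.center N)).resolve_left (ne_of_gt hpg.bot_lt_center)
  refine ⟨⟨fun a b => ?_⟩⟩
  rcases eq_or_ne a 1 with rfl | ha
  · simp
  have hne : (a : G) ≠ 1 := fun h => ha (Subtype.ext h)
  obtain ⟨g, hg⟩ := hconj _ z.2 (fun h => hz1 (Subtype.ext h)) a a.2 hne
  have key : ∀ c : N, (c : G) * z = z * c := fun c => congrArg Subtype.val (Subgroup.mem_center_iff.1 hz c)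
  apply Subtype.ext
  show (a : G) * b = b * a
  have hb' : g⁻¹ * (b : G) * g ∈ N := by simpa using Subgroup.Normal.conj_mem (inferInstance : N.Normal) _ b.2 g⁻¹
  have h3 := key ⟨_, hb'⟩
  rw [← hg]
  calc g * z * g⁻¹ * (b : G) = g * ((z : G) * (g⁻¹ * b * g)) * g⁻¹ := by group
    _ = g * ((g⁻¹ * b * g) * (z : G)) * g⁻¹ := by rw [h3]
    _ = (b : G) * (g * z * g⁻¹) := by group

end Cfsg.Agent.S0054
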