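import Cfsg.Statements.S0055
import Mathlib

set_option autoImplicit false
open Cfsg

namespace Cfsg.Agent.S0055

open scoped Pointwise commutatorElement



/-- If A normalises an abelian subgroup V of coprime order, then V is the internal direct product of its A-fixed points and its commutator with A: the two meet trivially and generate V. -/
theorem result {G : Type*} [Group G] [Finite G] (A V : Subgroup G) [IsMulCommutative V]
    (hAV : A ≤ Subgroup.normalizer (V : Set G)) (hcop : (Nat.card A).Coprime (Nat.card V)) :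
    (V ⊓ Subgroup.centralizer (A : Set G)) ⊓ ⁅V, A⁆ = ⊥ ∧ (V ⊓ Subgroup.centralizer (A : Set G)) ⊔ ⁅V, A⁆ = V := by
  classical
  have := Fintype.ofFinite A
  have hnorm : ∀ a : A, ∀ v ∈ V, (a : G) * v * (a : G)⁻¹ ∈ V := fun a v hv => (Subgroup.mem_normalizer_iff.1 (hAV a.2) v).1 hv
  let σ : A → V →* V := fun a =>
    { toFun := fun v => ⟨(a : G) * v * (a : G)⁻¹, hnorm a v v.2⟩
      map_one' := Subtype.ext (by simp)
      map_mul' := fun u v => Subtype.ext (by simp [mul_assoc]) }
  letI : CommGroup V := { (inferInstance : Group V) with mul_comm := IsMulCommutative.is_comm.comm }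
  let T : V →* V := ∏ a : A, σ a
  have hT : ∀ v : V, T v = ∏ a : A, σ a v := fun v => MonoidHom.finsetProd_apply σ Finset.univ v
  have hσmul : ∀ (a b : A) (v : V), σ a (σ b v) = σ (a * b) v := fun a b v =>
    Subtype.ext (by simp [σ, mul_assoc])
  have hinv : ∀ (b : A) (v : V), T (σ b v) = T v := fun b v => by
    rw [hT, hT]
    simp only [hσmul]
    exact Fintype.prod_equiv (Equiv.mulRight b) _ _ (fun a => rfl)
  have hfix : ∀ (b : A) (v : V), σ b (T v) = T v := fun b v => by
    rw [hT, map_prod]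
    simp only [hσmul]
    exact Fintype.prod_equiv (Equiv.mulLeft b) _ _ (fun a => rfl)
  have hconst : ∀ c : V, (∀ a : A, σ a c = c) → T c = c ^ Nat.card A := fun c hc => by
    rw [hT]
    simp only [hc, Finset.prod_const, Finset.card_univ, Nat.card_eq_fintype_card]
  have hkey : ∀ v : V, (∃ k : ℕ, (v ^ Nat.card A) ^ k = v) := fun v =>
    exists_pow_eq_self_of_coprime (hcop.coprime_dvd_right (orderOf_dvd_natCard v))
  have hcommV : ∀ (v : V) (a : A), (v : G) * ((a : G) * (v : G) * (a : G)⁻¹)⁻¹ ∈ ⁅V, A⁆ := fun v a => by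
    have := Subgroup.commutator_mem_commutator v.2 a.2
    convert this using 1
    rw [commutatorElement_def]; group
  have hle : ⁅V, A⁆ ≤ T.ker.map V.subtype := by
    rw [Subgroup.commutator_le]
    intro v hv a ha
    refine ⟨⟨v, hv⟩ * (σ ⟨a, ha⟩ ⟨v, hv⟩)⁻¹, ?_, ?_⟩
    · show T _ = 1
      rw [map_mul, map_inv, hinv, mul_inv_cancel]
    · show v * (a * v * a⁻¹)⁻¹ = ⁅v, a⁆
      rw [commutatorElement_def]; group
  constructor
  · rw [eq_bot_iff]
    rintro x ⟨⟨hxV, hxC⟩, hxW⟩
    obtain ⟨c, hc, rfl⟩ := hle hxW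
    have h1 : T c = c ^ Nat.card A := hconst c fun a => Subtype.ext (by
      show (a : G) * c * (a : G)⁻¹ = c
      have h2 : (a : G) * (c : G) = (c : G) * a := Subgroup.mem_centralizer_iff.1 hxC a a.2
      rw [h2, mul_inv_cancel_right])
    have h3 : c ^ Nat.card A = 1 := h1.symm.trans hc
    obtain ⟨k, hk⟩ := hkey c
    rw [h3, one_pow] at hk
    rw [← hk]; simp
  · refine le_antisymm (sup_le inf_le_left (hle.trans (Subgroup.map_subtype_le _))) ?_
    intro x hx
    obtain ⟨k, hk⟩ := hkey ⟨x, hx⟩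
    have hsplit : (⟨x, hx⟩ : V) ^ Nat.card A = T ⟨x, hx⟩ * ∏ a : A, (⟨x, hx⟩ * (σ a ⟨x, hx⟩)⁻¹) := by
      rw [Finset.prod_mul_distrib, Finset.prod_inv_distrib, ← hT, Finset.prod_const, Finset.card_univ,
        Nat.card_eq_fintype_card]
      rw [mul_comm (T _), inv_mul_cancel_right]
    set U : Subgroup G := (V ⊓ Subgroup.centralizer (A : Set G)) ⊔ ⁅V, A⁆ with hU
    have hmem : (⟨x, hx⟩ : V) ^ Nat.card A ∈ U.subgroupOf V := by
      rw [hsplit]
      refine Subgroup.mul_mem _ ?_ (Subgroup.prod_mem _ fun a _ => ?_)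
      · refine Subgroup.mem_sup_left ⟨(T ⟨x, hx⟩).2, ?_⟩
        show _ ∈ Subgroup.centralizer (A : Set G)
        rw [Subgroup.mem_centralizer_iff]
        intro a ha
        have h4 : a * (T ⟨x, hx⟩ : G) * a⁻¹ = (T ⟨x, hx⟩ : G) := congrArg Subtype.val (hfix ⟨a, ha⟩ ⟨x, hx⟩)
        exact mul_inv_eq_iff_eq_mul.1 h4
      · exact Subgroup.mem_sup_right (hcommV _ a)
    have h5 := (U.subgroupOf V).pow_mem hmem k
    rw [hk] at h5
    exact h5

end Cfsg.Agent.S0055
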