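import Cfsg.Statements.S0057
import Cfsg.Agent.Lib.CoprimeGen
-- import your own Cfsg.Agent.* helpers here

set_option autoImplicit false
open Cfsg

namespace Cfsg.Agent.S0057

open Cfsg.Agent.CoprimeAction
open scoped commutatorElement

theorem card_mul_relIndex' {G : Type*} [Group G] {H K : Subgroup G} (h : H ≤ K) :
    Nat.card H * H.relIndex K = Nat.card K := by
  rw [← Subgroup.relIndex_bot_left, ← Subgroup.relIndex_bot_left,
    Subgroup.relIndex_mul_relIndex _ _ _ bot_le h]

/-- Under coprime action, if the centraliser of A in K has prime index p in K then the commutator subgroup [K, A] has order exactly p. -/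
theorem result {G : Type*} [Group G] [Finite G] (A K : Subgroup G) (hAK : A ≤ Subgroup.normalizer (K : Set G))
    (hcop : (Nat.card A).Coprime (Nat.card K)) (hsolv : Group.IsSolvable A ∨ Group.IsSolvable K)
    (p : ℕ) (hp : p.Prime) (hidx : (K ⊓ Subgroup.centralizer (A : Set G)).relIndex K = p) :
    Nat.card (⁅K, A⁆ : Subgroup G) = p := by
  have := Fact.mk hp
  set C := Subgroup.centralizer (A : Set G) with hC
  set D : Subgroup G := ⁅K, A⁆ with hD
  have hDK : D ≤ K := commutator_le_self_of_le_normalizer hAK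
  have hDA : ⁅D, A⁆ = D := commutator_commutator_eq hAK hcop hsolv
  have hAD : A ≤ Subgroup.normalizer (D : Set G) := Subgroup.normalizer_commutator_ge_right K A
  have hcopD : (Nat.card A).Coprime (Nat.card D) := coprime_of_le_right hDK hcop
  have hdec : ∀ k ∈ K, ∃ d ∈ D, ∃ c ∈ K ⊓ C, k = d * c :=
    fun k hk => exists_mul_fixed hAK hcop hsolv hk
  -- the index of `C_D(A)` in `D`
  have hidxD : (D ⊓ C).relIndex D = p := by
    have e1 : (D ⊓ C).relIndex D = ((K ⊓ C).subgroupOf K).relIndex (D.subgroupOf K) := by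
      rw [Subgroup.inf_relIndex_left, Subgroup.relIndex_subgroupOf hDK,
        ← Subgroup.inf_relIndex_right C D, ← Subgroup.inf_relIndex_right (K ⊓ C) D]
      congr 1
      rw [inf_assoc, inf_comm C D, ← inf_assoc, inf_eq_right.2 hDK, inf_comm]
    have hDn : (D.subgroupOf K).Normal :=
      Subgroup.normal_subgroupOf_of_le_normalizer (Subgroup.normalizer_commutator_ge_left K A)
    have e2 : D.subgroupOf K ⊔ (K ⊓ C).subgroupOf K = ⊤ := by
      rw [← Subgroup.subgroupOf_sup hDK inf_le_left, Subgroup.subgroupOf_eq_top]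
      intro k hk
      obtain ⟨d, hd, c, hc, rfl⟩ := hdec k hk
      exact mul_mem (Subgroup.mem_sup_left hd) (Subgroup.mem_sup_right hc)
    rw [e1]
    -- product formula
    have h1 := Subgroup.relIndex_sup_left (H := (K ⊓ C).subgroupOf K) (K := D.subgroupOf K)
    rw [e2, Subgroup.relIndex_top_right] at h1
    have h2 := Subgroup.card_mul_index (D.subgroupOf K)
    have h3 := Subgroup.card_mul_index ((K ⊓ C).subgroupOf K)
    rw [show ((K ⊓ C).subgroupOf K).index = p from hidx] at h3
    rw [← Subgroup.inf_relIndex_right]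
    have h4 := card_mul_relIndex'
      (inf_le_right : (K ⊓ C).subgroupOf K ⊓ D.subgroupOf K ≤ D.subgroupOf K)
    have h5 := card_mul_relIndex'
      (inf_le_left : (K ⊓ C).subgroupOf K ⊓ D.subgroupOf K ≤ (K ⊓ C).subgroupOf K)
    rw [Subgroup.inf_relIndex_left, ← h1] at h5
    have key : Nat.card ↥((K ⊓ C).subgroupOf K ⊓ D.subgroupOf K : Subgroup K) * (D.subgroupOf K).index
        * ((K ⊓ C).subgroupOf K ⊓ D.subgroupOf K).relIndex (D.subgroupOf K)
        = Nat.card ↥((K ⊓ C).subgroupOf K ⊓ D.subgroupOf K : Subgroup K) * (D.subgroupOf K).index * p := by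
      rw [mul_right_comm, h4, h2, ← h3, h5]
    exact Nat.eq_of_mul_eq_mul_left
      (Nat.mul_pos Nat.card_pos (Nat.pos_of_ne_zero Subgroup.index_ne_zero_of_finite)) key
  -- an invariant Sylow subgroup of `D` is all of `D`
  obtain ⟨P, hP⟩ := exists_invariant_sylow hAD hcopD (isSolvable_or_of_le hDK hsolv) p
  set P' := (P : Subgroup D).map D.subtype with hP'
  have hPD : P' ≤ D := Subgroup.map_subtype_le _
  have hPC : ¬ P' ≤ C := by
    intro hle
    have h1 : Nat.card P' ∣ Nat.card (D ⊓ C : Subgroup G) := Subgroup.card_dvd_of_le (le_inf hPD hle)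
    rw [card_map_sylow P, Nat.Prime.pow_dvd_iff_le_factorization hp Nat.card_pos.ne'] at h1
    have h2 := card_mul_relIndex' (inf_le_left : D ⊓ C ≤ D)
    rw [hidxD] at h2
    rw [← h2, Nat.factorization_mul Nat.card_pos.ne' hp.pos.ne', Finsupp.add_apply,
      Nat.Prime.factorization_self hp] at h1
    omega
  have hsub : (P' ⊓ C).relIndex P' = p := by
    have h1 : (P' ⊓ C).relIndex P' ≤ p := by
      rw [Subgroup.inf_relIndex_left, ← hidxD, Subgroup.inf_relIndex_left]
      exact Subgroup.relIndex_le_of_le_right hPD Subgroup.index_ne_zero_of_finite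
    have h2 : (P' ⊓ C).relIndex P' ∣ Nat.card P' := Subgroup.relIndex_dvd_card _ _
    rw [card_map_sylow P] at h2
    obtain ⟨i, -, hi⟩ := (Nat.dvd_prime_pow hp).1 h2
    rcases i with _ | i
    · rw [pow_zero, Subgroup.inf_relIndex_left, Subgroup.relIndex_eq_one] at hi
      exact absurd hi hPC
    · rw [hi] at h1 ⊢
      rcases i with _ | i
      · simp
      · exfalso
        have : p ^ 1 < p ^ (i + 1 + 1) := Nat.pow_lt_pow_right hp.one_lt (by omega)
        rw [pow_one] at this
        omega
  have hDP : D = P' := by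
    refine le_antisymm ?_ hPD
    conv_lhs => rw [← hDA]
    rw [Subgroup.commutator_le]
    intro d hd a ha
    -- `d ∈ P' * C`
    have hcos : Function.Surjective
        (Subgroup.quotientSubgroupOfEmbeddingOfLE C hPD) := by
      refine (Nat.bijective_iff_injective_and_card _).2 ⟨Function.Embedding.injective _, ?_⟩ |>.2
      change C.relIndex P' = C.relIndex D
      rw [← Subgroup.inf_relIndex_left P' C, hsub, ← Subgroup.inf_relIndex_left D C, hidxD]
    obtain ⟨q, hq⟩ := hcos (QuotientGroup.mk (⟨d, hd⟩ : D))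
    obtain ⟨⟨x, hx⟩, rfl⟩ := QuotientGroup.mk_surjective q
    rw [Subgroup.quotientSubgroupOfEmbeddingOfLE_apply_mk, QuotientGroup.eq] at hq
    have hc : x⁻¹ * d ∈ C := hq
    have hca : (x⁻¹ * d) * a * (x⁻¹ * d)⁻¹ = a := by
      rw [← Subgroup.mem_centralizer_iff.1 hc a ha, mul_inv_cancel_right]
    have h1 : ⁅d, a⁆ = ⁅x, a⁆ := by
      calc ⁅d, a⁆ = x * (x⁻¹ * d * a * (x⁻¹ * d)⁻¹) * x⁻¹ * a⁻¹ := by
            simp [commutatorElement_def, mul_assoc]
        _ = ⁅x, a⁆ := by rw [hca, commutatorElement_def]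
    rw [h1]
    exact commutator_le_self_of_le_normalizer hP (Subgroup.commutator_mem_commutator hx ha)
  have hDp : IsPGroup p D := hDP ▸ P.2.map D.subtype
  -- `C_D(A)` is normal in `D`, hence central, and `D` is abelian
  set Z := D ⊓ C with hZ
  obtain ⟨m, hm⟩ := IsPGroup.iff_card.1 hDp
  have hZn : D ≤ Subgroup.normalizer (Z : Set G) := by
    have hZidx : (Z.subgroupOf D).index = p := hidxD
    rcases m with _ | m
    · exfalso
      have hd1 := Subgroup.relIndex_dvd_card Z D
      rw [hidxD, hm, pow_zero, Nat.dvd_one] at hd1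
      exact hp.one_lt.ne' hd1
    · have hmin : (Nat.card D).minFac = p := by
        rw [hm]; exact Nat.Prime.pow_minFac hp (Nat.succ_ne_zero m)
      have := Subgroup.normal_of_index_eq_minFac_card (H := Z.subgroupOf D) (hZidx.trans hmin.symm)
      exact (Subgroup.normal_subgroupOf_iff_le_normalizer inf_le_left).1 this
  have hZc : D ≤ Subgroup.centralizer (Z : Set G) := by
    have h1 : ⁅⁅A, D⁆, Z⁆ = ⊥ := by
      have hZA : ⁅Z, A⁆ = ⊥ :=
        Subgroup.commutator_eq_bot_iff_le_centralizer.2 (inf_le_right.trans le_rfl)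
      refine Subgroup.commutator_commutator_eq_bot_of_rotate ?_ ?_
      · rw [eq_bot_iff, ← hZA]
        exact Subgroup.commutator_mono (commutator_le_self_of_le_normalizer
          (K := Z) hZn |> fun h => (Subgroup.commutator_comm D Z).le.trans h) le_rfl
      · rw [hZA, Subgroup.commutator_bot_left]
    rw [Subgroup.commutator_comm A D, hDA] at h1
    exact Subgroup.commutator_eq_bot_iff_le_centralizer.1 h1
  have hcomm : IsMulCommutative D := by
    have hZn' : (Z.subgroupOf D).Normal := Subgroup.normal_subgroupOf_of_le_normalizer hZn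
    have hcyc : IsCyclic (D ⧸ Z.subgroupOf D) := isCyclic_of_prime_card (p := p) hidxD
    have hker : (QuotientGroup.mk' (Z.subgroupOf D)).ker ≤ Subgroup.center D := by
      rw [QuotientGroup.ker_mk']
      intro z hz
      rw [Subgroup.mem_center_iff]
      intro g
      exact Subtype.ext (Subgroup.mem_centralizer_iff.1 (hZc g.2) (z : G) hz).symm
    exact ⟨⟨commutative_of_cyclic_center_quotient _ hker⟩⟩
  -- Fitting
  have hbot := inf_centralizer_inf_commutator_eq_bot hAD hcopD
  rw [hDA, inf_assoc, inf_comm C D, ← inf_assoc, inf_idem] at hbot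
  have h2 := card_mul_relIndex' (inf_le_left : D ⊓ C ≤ D)
  rw [hidxD, hbot, Subgroup.card_bot, one_mul] at h2
  exact h2.symm

end Cfsg.Agent.S0057
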