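import Cfsg.Statements.S0060
import Mathlib
import Cfsg.Agent.S0010

set_option autoImplicit false
open Pointwise
open Cfsg

namespace Cfsg.Agent.S0060

open scoped Pointwise commutatorElement



/-- Brodkey's Theorem: in a finite group with abelian Sylow p-subgroups and no nontrivial normal p-subgroup, some conjugate of a Sylow p-subgroup meets it trivially. -/
theorem result {G : Type*} [Group G] [Finite G] (p : ℕ) [Fact p.Prime]
    (S : Sylow p G) (hS : IsMulCommutative S) (hOp : Cfsg.pCore p G = ⊥) :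
    ∃ g : G, (S : Subgroup G) ⊓ MulAut.conj g • (S : Subgroup G) = ⊥ := by
  have habel : ∀ (U : Sylow p G), IsMulCommutative (U : Subgroup G) := by
    intro U
    obtain ⟨g, rfl⟩ := MulAction.exists_smul_eq G S U
    refine ⟨⟨fun a b => ?_⟩⟩
    have ha := a.2
    have hb := b.2
    simp only [Sylow.coe_subgroup_smul, Subgroup.mem_pointwise_smul_iff_inv_smul_mem, MulAut.smul_def, MulAut.conj_inv_apply] at ha hb
    apply Subtype.ext
    show (a : G) * b = b * a
    have hc : g⁻¹ * (a : G) * g * (g⁻¹ * (b : G) * g) = g⁻¹ * (b : G) * g * (g⁻¹ * (a : G) * g) :=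
      congrArg Subtype.val (hS.is_comm.comm (⟨_, ha⟩ : (S : Subgroup G)) ⟨_, hb⟩)
    calc (a : G) * b = g * (g⁻¹ * (a : G) * g * (g⁻¹ * (b : G) * g)) * g⁻¹ := by group
      _ = g * (g⁻¹ * (b : G) * g * (g⁻¹ * (a : G) * g)) * g⁻¹ := by rw [hc]
      _ = (b : G) * a := by group
  have : Nonempty (Sylow p G) := ⟨S⟩
  obtain ⟨T, hT⟩ := Finite.exists_min (fun U : Sylow p G => Nat.card ((S : Subgroup G) ⊓ (U : Subgroup G) : Subgroup G))
  set D := (S : Subgroup G) ⊓ (T : Subgroup G) with hD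
  set L := Subgroup.normalizer (D : Set G) with hL
  have hle : ∀ U : Sylow p G, D ≤ (U : Subgroup G) → (U : Subgroup G) ≤ L := by
    intro U hU u hu
    refine Subgroup.centralizer_le_normalizer _ ?_
    rw [Subgroup.mem_centralizer_iff]
    intro a ha
    exact congrArg Subtype.val ((habel U).is_comm.comm (⟨a, hU ha⟩ : (U : Subgroup G)) ⟨u, hu⟩)
  have hSL : (S : Subgroup G) ≤ L := hle S inf_le_left
  have hTL : (T : Subgroup G) ≤ L := hle T inf_le_right
  have hall : ∀ R : Sylow p G, D ≤ (R : Subgroup G) := by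
    intro R
    obtain ⟨Q, hQ⟩ := (R.2.comap_subtype (K := L)).exists_le_sylow
    obtain ⟨x, hx⟩ := MulAction.exists_smul_eq L Q (T.subtype hTL)
    set R' : Sylow p G := (x : G) • R with hR'
    have h1 : ∀ y : G, y ∈ (R' : Subgroup G) → y ∈ L → y ∈ (T : Subgroup G) := by
      intro y hy hyL
      rw [hR', Sylow.coe_subgroup_smul, Subgroup.mem_pointwise_smul_iff_inv_smul_mem] at hy
      simp only [MulAut.smul_def, MulAut.conj_inv_apply] at hy
      have hy' : x⁻¹ * ⟨y, hyL⟩ * x ∈ (Q : Subgroup L) := hQ (by simpa [Subgroup.mem_subgroupOf] using hy)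
      have : (⟨y, hyL⟩ : L) ∈ ((x • Q : Sylow p L) : Subgroup L) := by
        rw [Sylow.coe_subgroup_smul, Subgroup.mem_pointwise_smul_iff_inv_smul_mem]
        simpa using hy'
      rw [hx] at this
      simpa [Sylow.coe_subtype, Subgroup.mem_subgroupOf] using this
    have h2 : (S : Subgroup G) ⊓ (R' : Subgroup G) ≤ D := fun y hy => ⟨hy.1, h1 y hy.2 (hSL hy.1)⟩
    have h3 : (S : Subgroup G) ⊓ (R' : Subgroup G) = D := Subgroup.eq_of_le_of_card_ge h2 (hT R')
    intro d hd
    have hd' : (x : G) * d * (x : G)⁻¹ ∈ D := (Subgroup.mem_normalizer_iff.1 x.2 d).1 hd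
    rw [← h3] at hd'
    have h4 : _ ∈ (R' : Subgroup G) := hd'.2
    rw [hR', Sylow.coe_subgroup_smul, Subgroup.mem_pointwise_smul_iff_inv_smul_mem] at h4
    simpa [MulAut.smul_def, MulAut.conj_inv_apply, mul_assoc] using h4
  have hDbot : D = ⊥ := by
    rw [eq_bot_iff]
    calc D ≤ ⨅ R : Sylow p G, (R : Subgroup G) := le_iInf hall
      _ = ⊥ := by rw [← Cfsg.Agent.S0010.result p, hOp]
  obtain ⟨g, hg⟩ := MulAction.exists_smul_eq G S T
  refine ⟨g, ?_⟩
  rw [← Sylow.coe_subgroup_smul, hg]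
  exact hDbot

end Cfsg.Agent.S0060
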