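import Cfsg.Statements.S0061
import Mathlib
import Cfsg.Agent.S0007

set_option autoImplicit false
open Cfsg

namespace Cfsg.Agent.S0061

open scoped Pointwise commutatorElement

universe u

theorem pgroup_solvable {G : Type u} [Group G] [Finite G] {p : ℕ} [Fact p.Prime] (h : IsPGroup p G) :
    Group.IsSolvable G := by
  haveI := h.isNilpotent
  infer_instance

theorem solvable_of_normal {G : Type u} [Group G] (L : Subgroup G) [L.Normal]
    (hL : Group.IsSolvable L) (hq : Group.IsSolvable (G ⧸ L)) : Group.IsSolvable G :=
  Group.isSolvable_of_ker_le_range L.subtype (QuotientGroup.mk' L)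
    (by rw [QuotientGroup.ker_mk', Subgroup.range_subtype])

theorem solvable_aux {G : Type u} [Group G] [Finite G] {p q m : ℕ} (hp : p.Prime) (hq : q.Prime)
    (hdvd : Nat.card G ∣ p ^ m * q) : Group.IsSolvable G := by
  generalize hn : Nat.card G = n
  induction n using Nat.strong_induction_on generalizing G with
  | _ n ih =>
    haveI : Fact p.Prime := ⟨hp⟩
    haveI : Fact q.Prime := ⟨hq⟩
    by_cases hqG : ¬ q ∣ Nat.card G ∨ p = q
    · rcases hqG with h | h
      · refine pgroup_solvable (p := p) (IsPGroup.of_card_dvd_pow (n := m) ?_)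
        exact (Nat.Coprime.dvd_of_dvd_mul_right ((hq.coprime_iff_not_dvd).2 h).symm hdvd)
      · subst h
        exact pgroup_solvable (p := p) (IsPGroup.of_card_dvd_pow (n := m + 1) (by rwa [pow_succ]))
    push Not at hqG
    obtain ⟨hqG, hpq⟩ := hqG
    have hquot : ∀ L : Subgroup G, L.Normal → L ≠ ⊥ → Group.IsSolvable L → Group.IsSolvable G := by
      intro L hLn hLb hLs
      refine solvable_of_normal L hLs (ih _ ?_ ((L.index_dvd_card).trans hdvd) rfl)
      rw [← hn, Subgroup.card_eq_card_quotient_mul_card_subgroup L]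
      exact lt_mul_of_one_lt_right Nat.card_pos ((Subgroup.one_lt_card_iff_ne_bot L).2 hLb)
    have hnq : ¬ q ^ 2 ∣ Nat.card G := fun h => by
      have := (((Nat.coprime_primes hq hp).2 hpq.symm).pow 2 m).dvd_of_dvd_mul_left (h.trans hdvd)
      have := Nat.le_of_dvd hq.pos this
      nlinarith [hq.two_le]
    obtain ⟨S⟩ := (inferInstance : Nonempty (Sylow p G))
    obtain ⟨a, ha⟩ := IsPGroup.iff_card.1 S.2
    obtain ⟨Q⟩ := (inferInstance : Nonempty (Sylow q G))
    have hQc : ∀ R : Sylow q G, Nat.card R = q := by
      intro R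
      obtain ⟨b, hb⟩ := IsPGroup.iff_card.1 R.2
      have hdb : q ^ b ∣ Nat.card G := hb ▸ R.1.card_subgroup_dvd_card
      have : b < 2 := by
        by_contra h
        exact hnq ((pow_dvd_pow q (not_lt.1 h)).trans hdb)
      have hb0 : b ≠ 0 := by
        rintro rfl
        have h1 := R.dvd_card_of_dvd_card hqG
        rw [show Nat.card R = 1 from by rw [hb, pow_zero]] at h1
        exact hq.one_lt.ne' (Nat.dvd_one.1 h1)
      rw [hb, show b = 1 by omega, pow_one]
    have hidx : S.1.index = q := by
      have h1 : S.1.index ∣ p ^ m * q := S.1.index_dvd_card.trans hdvd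
      have h2 : S.1.index ∣ q := (Nat.Coprime.pow_right m ((hp.coprime_iff_not_dvd).2 S.not_dvd_index).symm).dvd_of_dvd_mul_left h1
      refine ((Nat.dvd_prime hq).1 h2).resolve_left fun h1 => ?_
      have := hqG
      rw [← Subgroup.card_mul_index S.1, h1, mul_one, ha] at this
      exact hpq ((Nat.prime_dvd_prime_iff_eq hq hp).1 (hq.dvd_of_dvd_pow this)).symm
    have hcardG : Nat.card G = p ^ a * q := by rw [← Subgroup.card_mul_index S.1, hidx, ha]
    have hnp : Nat.card (Sylow p G) ∣ q := hidx ▸ S.card_dvd_index
    by_cases hS : S.1.Normal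
    · by_cases hSb : (S : Subgroup G) = ⊥
      · have : Nat.card G = q ^ 1 := by
          rw [hcardG, ← ha, Subgroup.card_eq_one.2 hSb, one_mul, pow_one]
        exact pgroup_solvable (IsPGroup.of_card this)
      · exact hquot _ hS hSb (pgroup_solvable S.2)
    have hnpq : Nat.card (Sylow p G) = q := by
      refine ((Nat.dvd_prime hq).1 hnp).resolve_left fun h => hS ?_
      rw [Nat.card_eq_one_iff_unique] at h
      haveI := h.1
      exact Sylow.normal_of_subsingleton S
    by_cases hD : ∃ A B : Sylow p G, A ≠ B ∧ (A : Subgroup G) ⊓ (B : Subgroup G) ≠ ⊥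
    · obtain ⟨A₀, B₀, hne₀, hb₀⟩ := hD
      obtain ⟨D, ⟨A, B, hne, hDeq, hDb⟩, hmax⟩ := Set.Finite.exists_maximal
        (Set.toFinite {D : Subgroup G | ∃ A B : Sylow p G, A ≠ B ∧ D = (A : Subgroup G) ⊓ (B : Subgroup G) ∧ D ≠ ⊥})
        ⟨_, A₀, B₀, hne₀, rfl, hb₀⟩
      set N := Subgroup.normalizer (D : Set G) with hN
      have hgrow : ∀ A B : Sylow p G, A ≠ B → D = (A : Subgroup G) ⊓ (B : Subgroup G) →
          ∀ R : Sylow p G, N ≤ (R : Subgroup G) → R = A := by
        intro A B hne hDeq R hR
        by_contra hRA
        haveI := A.2.isNilpotent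
        have hDA : D ≤ (A : Subgroup G) := hDeq ▸ inf_le_left
        have hlt : D.subgroupOf A < ⊤ := by
          rw [lt_top_iff_ne_top, Ne, Subgroup.subgroupOf_eq_top]
          intro hle
          have h3 : (A : Subgroup G) ≤ (B : Subgroup G) := hle.trans (hDeq ▸ inf_le_right)
          exact hne (Sylow.ext (A.3 B.2 h3).symm)
        obtain ⟨y, hy, hyD⟩ := SetLike.exists_of_lt (Group.normalizerCondition_of_isNilpotent (G := A) _ hlt)
        have hyN : (y : G) ∈ N := by
          rw [hN, Subgroup.mem_normalizer_iff]
          rw [Subgroup.mem_normalizer_iff] at hy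
          intro x
          by_cases hx : x ∈ (A : Subgroup G)
          · simpa [Subgroup.mem_subgroupOf] using hy ⟨x, hx⟩
          · refine ⟨fun h' => absurd (hDA h') hx, fun h' => absurd ?_ hx⟩
            have := A.1.mul_mem (A.1.mul_mem (A.1.inv_mem y.2) (hDA h')) y.2
            simpa [mul_assoc] using this
        have h1 : D ≤ (R : Subgroup G) ⊓ (A : Subgroup G) := le_inf ((Subgroup.le_normalizer).trans hR) hDA
        have h2 := hmax ⟨R, A, hRA, rfl, fun e0 => hDb (eq_bot_iff.2 (e0 ▸ h1))⟩ h1
        exact hyD (h2 ⟨hR hyN, y.2⟩)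
      have hqN : q ∣ Nat.card N := by
        by_contra h
        have hNp : IsPGroup p N := IsPGroup.of_card_dvd_pow (n := a)
          (((hq.coprime_iff_not_dvd).2 h).symm.dvd_of_dvd_mul_right (hcardG ▸ N.card_subgroup_dvd_card))
        obtain ⟨R, hR⟩ := hNp.exists_le_sylow
        exact hne ((hgrow A B hne hDeq R hR).symm.trans (hgrow B A hne.symm (by rw [hDeq, inf_comm]) R hR))
      obtain ⟨x, hx⟩ := exists_prime_orderOf_dvd_card' q hqN
      have hxc : Nat.card (Subgroup.zpowers (x : G)) = q := by rw [Nat.card_zpowers, Subgroup.orderOf_coe, hx]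
      have hzidx : (Subgroup.zpowers (x : G)).index = p ^ a := by
        have h1 := Subgroup.card_mul_index (Subgroup.zpowers (x : G))
        rw [hxc, hcardG, mul_comm (p ^ a)] at h1
        exact Nat.eq_of_mul_eq_mul_left hq.pos h1
      have hAidx : A.1.index = q := by
        rw [← hidx]
        have hc : Nat.card A.1 = Nat.card S.1 := Nat.card_congr (Sylow.equiv A S).toEquiv
        have h1 := A.1.card_mul_index
        rw [← S.1.card_mul_index, hc] at h1
        exact Nat.eq_of_mul_eq_mul_left Nat.card_pos h1
      have hfac := (Cfsg.Agent.S0007.result A.1 (Subgroup.zpowers (x : G)) (by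
        rw [hAidx, hzidx]
        exact Nat.Coprime.pow_right a ((Nat.coprime_primes hq hp).2 hpq.symm))).2
      have hDA : D ≤ (A : Subgroup G) := hDeq ▸ inf_le_left
      have hle : Subgroup.normalClosure (D : Set G) ≤ (A : Subgroup G) := by
        refine (Subgroup.closure_le _).2 fun y hy => ?_
        obtain ⟨d, hd, hc⟩ := Group.mem_conjugatesOfSet_iff.1 hy
        obtain ⟨g, rfl⟩ := isConj_iff.1 hc
        obtain ⟨s, hs, z, hz, rfl⟩ := hfac g
        have hzN : z ∈ N := (Subgroup.zpowers_le.2 x.2) hz
        have h1 := hDA ((Subgroup.mem_normalizer_iff.1 hzN d).1 hd)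
        have := A.1.mul_mem (A.1.mul_mem hs h1) (A.1.inv_mem hs)
        show _ ∈ (A : Subgroup G)
        simpa [mul_assoc] using this
      refine hquot _ inferInstance (fun e => hDb (le_bot_iff.1 (e ▸ Subgroup.subset_normalClosure))) ?_
      exact pgroup_solvable (A.2.to_le hle)
    · push Not at hD
      classical
      haveI := Fintype.ofFinite G
      haveI := Fintype.ofFinite (Sylow p G)
      let el : Sylow p G → Finset G := fun R => (Finset.univ.filter (fun x => x ∈ (R : Subgroup G))).erase 1
      have hel : ∀ R : Sylow p G, (el R).card + 1 = p ^ a := by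
        intro R
        rw [Finset.card_erase_add_one (by simp [R.1.one_mem]), ← ha, ← Fintype.card_subtype, ← Nat.card_eq_fintype_card]
        exact Nat.card_congr (Sylow.equiv R S).toEquiv
      have hdis : Set.PairwiseDisjoint ((Finset.univ : Finset (Sylow p G)) : Set (Sylow p G)) el := by
        intro A _ B _ hAB
        refine Finset.disjoint_left.2 fun x hxA hxB => ?_
        simp only [el, Finset.mem_erase, Finset.mem_filter, Finset.mem_univ, true_and] at hxA hxB
        have : x ∈ (A : Subgroup G) ⊓ (B : Subgroup G) := ⟨hxA.2, hxB.2⟩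
        rw [hD A B hAB, Subgroup.mem_bot] at this
        exact hxA.1 this
      set U := Finset.univ.biUnion el with hU
      have hUc : U.card + q = Nat.card G := by
        rw [hU, Finset.card_biUnion hdis, hcardG]
        have : ∑ R : Sylow p G, (el R).card + (Finset.univ : Finset (Sylow p G)).card = (Finset.univ : Finset (Sylow p G)).card * p ^ a := by
          rw [Finset.card_eq_sum_ones (Finset.univ : Finset (Sylow p G)), ← Finset.sum_add_distrib,
            Finset.sum_congr rfl (fun R _ => hel R), Finset.sum_const, Finset.card_eq_sum_ones, smul_eq_mul]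
        rw [Finset.card_univ, ← Nat.card_eq_fintype_card, hnpq] at this
        rw [this, mul_comm]
      have hsub : ∀ R : Sylow q G, Finset.univ.filter (fun x => x ∈ (R : Subgroup G)) = Uᶜ := by
        intro R
        refine Finset.eq_of_subset_of_card_le (fun x hx => ?_) ?_
        · simp only [Finset.mem_filter, Finset.mem_univ, true_and] at hx
          simp only [hU, Finset.mem_compl, Finset.mem_biUnion, Finset.mem_univ, true_and, not_exists, el, Finset.mem_erase, Finset.mem_filter, not_and]
          intro A hx1 hxA
          apply hx1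
          have : x ∈ (A : Subgroup G) ⊓ (R : Subgroup G) := ⟨hxA, hx⟩
          rw [disjoint_iff.1 (IsPGroup.disjoint_of_ne p q hpq _ _ A.2 R.2), Subgroup.mem_bot] at this
          exact this
        · rw [Finset.card_compl, ← Fintype.card_subtype, ← Nat.card_eq_fintype_card, ← Nat.card_eq_fintype_card]
          have := hQc R
          change Nat.card (R : Subgroup G) = q at this
          omega
      haveI : Subsingleton (Sylow q G) := ⟨fun R R' => by
        refine Sylow.ext (Subgroup.ext fun x => ?_)
        simpa using Finset.ext_iff.1 ((hsub R).trans (hsub R').symm) x⟩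
      refine hquot _ (Sylow.normal_of_subsingleton Q) (fun e => ?_) (pgroup_solvable Q.2)
      have := hQc Q
      rw [show Nat.card Q = Nat.card ((Q : Subgroup G)) from rfl, e, Subgroup.card_bot] at this
      exact hq.one_lt.ne this

/-- A finite group whose order is a prime power times a prime is solvable. -/
theorem result {G : Type*} [Group G] [Finite G] (p q m : ℕ) (hp : p.Prime) (hq : q.Prime)
    (hG : Nat.card G = p ^ m * q) : Group.IsSolvable G := by
  exact solvable_aux hp hq (dvd_of_eq hG)

end Cfsg.Agent.S0061
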