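import Cfsg.Statements.S0062
import Mathlib
import Cfsg.Agent.S0061

set_option autoImplicit false
open Cfsg

namespace Cfsg.Agent.S0062

open scoped Pointwise commutatorElement

universe u

theorem solvable_aux {G : Type u} [Group G] [Finite G] {p q : ℕ} (hp : p.Prime) (hq : q.Prime) (hlt : p < q)
    (hG : Nat.card G = p ^ 2 * q ^ 2) : Group.IsSolvable G := by
  haveI : Fact p.Prime := ⟨hp⟩
  haveI : Fact q.Prime := ⟨hq⟩
  have hp2 := hp.two_le
  have hq2 := hq.two_le
  obtain ⟨Q⟩ := (inferInstance : Nonempty (Sylow q G))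
  have hQc : Nat.card (Q : Subgroup G) = q ^ 2 := by
    obtain ⟨b, hb⟩ := IsPGroup.iff_card.1 Q.2
    have h1 : q ^ b ∣ p ^ 2 * q ^ 2 := hG ▸ hb ▸ Q.1.card_subgroup_dvd_card
    have hcop : (q ^ b).Coprime (p ^ 2) := Nat.Coprime.pow b 2 ((Nat.coprime_primes hq hp).2 hlt.ne')
    have hle : b ≤ 2 := (Nat.pow_dvd_pow_iff_le_right hq.one_lt).1 (hcop.dvd_of_dvd_mul_left h1)
    have hge : 2 ≤ b := by
      by_contra h
      apply Q.not_dvd_index
      have h2 := Q.1.card_mul_index
      rw [hb, hG] at h2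
      have h3 : q ^ b * q ∣ q ^ b * Q.1.index := by
        rw [h2, ← pow_succ]
        exact (pow_dvd_pow q (by omega)).trans (Dvd.intro_left _ rfl)
      exact Nat.dvd_of_mul_dvd_mul_left (pow_pos hq.pos b) h3
    rw [hb, show b = 2 by omega]
  have hQi : Q.1.index = p ^ 2 := by
    have h2 := Q.1.card_mul_index
    rw [hQc, hG, mul_comm (p ^ 2)] at h2
    exact Nat.eq_of_mul_eq_mul_left (pow_pos hq.pos 2) h2
  have hdvd : Nat.card (Sylow q G) ∣ p ^ 2 := hQi ▸ Q.card_dvd_index
  have hmod := card_sylow_modEq_one q G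
  obtain ⟨i, hi, hcard⟩ := (Nat.dvd_prime_pow hp).1 hdvd
  rw [hcard] at hmod
  interval_cases i
  · haveI : Subsingleton (Sylow q G) := by
      rw [pow_zero] at hcard
      exact (Nat.card_eq_one_iff_unique.1 hcard).1
    haveI := Sylow.normal_of_subsingleton Q
    refine Cfsg.Agent.S0061.solvable_of_normal _ (Cfsg.Agent.S0061.pgroup_solvable Q.2) ?_
    exact Cfsg.Agent.S0061.pgroup_solvable (p := p) (IsPGroup.of_card (n := 2) hQi)
  · exfalso
    rw [pow_one] at hmod
    have := Nat.le_of_dvd (by omega) ((Nat.modEq_iff_dvd' hp.one_le).1 hmod.symm)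
    omega
  · have hd : q ∣ (p + 1) * (p - 1) := by
      rw [← Nat.sq_sub_sq p 1]
      exact (Nat.modEq_iff_dvd' (Nat.one_le_pow _ _ hp.pos)).1 hmod.symm
    have hq1 : q = p + 1 := by
      rcases hq.dvd_mul.1 hd with h | h
      · have := Nat.le_of_dvd (by omega) h; omega
      · have := Nat.le_of_dvd (by omega) h; omega
    have hpe : p = 2 := by
      by_contra hne
      have hpo := hp.odd_of_ne_two hne
      have := hq.odd_of_ne_two (by omega)
      rw [hq1, Nat.odd_add_one] at this
      exact this hpo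
    have hqe : q = 3 := by omega
    classical
    let K := (MulAction.toPermHom G (G ⧸ Q.1)).ker
    have hK : K ≤ Q.1 := by
      show (MulAction.toPermHom G (G ⧸ Q.1)).ker ≤ _
      rw [← Subgroup.normalCore_eq_ker]
      exact Subgroup.normalCore_le _
    have hKb : K ≠ ⊥ := by
      intro e
      have hinj := (MonoidHom.ker_eq_bot_iff _).1 e
      have h1 := Nat.card_le_card_of_injective _ hinj
      have hX : Nat.card (G ⧸ Q.1) = 4 := by rw [← Subgroup.index, hQi, hpe]; rfl
      have h36 : Nat.card G = 36 := by rw [hG, hpe, hqe]; rfl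
      have h24 : Nat.card (Equiv.Perm (G ⧸ Q.1)) = 24 := by
        rw [Nat.card_perm, hX]; rfl
      omega
    haveI : K.Normal := MonoidHom.normal_ker _
    have hKp : IsPGroup q K := Q.2.to_le hK
    refine Cfsg.Agent.S0061.solvable_of_normal K (Cfsg.Agent.S0061.pgroup_solvable hKp) ?_
    obtain ⟨c, hc⟩ := IsPGroup.iff_card.1 hKp
    have hc0 : c ≠ 0 := by
      rintro rfl
      exact hKb (Subgroup.card_eq_one.1 (by rw [hc, pow_zero]))
    refine Cfsg.Agent.S0061.solvable_aux hp hq (m := 2) ?_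
    show K.index ∣ _
    have h2 := K.card_mul_index
    rw [hc, hG] at h2
    have h3 : q ^ c * K.index ∣ q ^ c * (p ^ 2 * q) := by
      rw [h2]
      obtain ⟨d, rfl⟩ : ∃ d, c = d + 1 := ⟨c - 1, by omega⟩
      exact ⟨q ^ d, by ring⟩
    exact Nat.dvd_of_mul_dvd_mul_left (pow_pos hq.pos c) h3

/-- A finite group of order p^2 * q^2 with p and q prime is solvable. -/
theorem result {G : Type*} [Group G] [Finite G] (p q : ℕ) (hp : p.Prime) (hq : q.Prime)
    (hG : Nat.card G = p ^ 2 * q ^ 2) : Group.IsSolvable G := by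
  rcases lt_trichotomy p q with h | h | h
  · exact solvable_aux hp hq h hG
  · subst h
    haveI : Fact p.Prime := ⟨hp⟩
    exact Cfsg.Agent.S0061.pgroup_solvable (p := p) (IsPGroup.of_card (n := 4) (by rw [hG, ← pow_add]))
  · exact solvable_aux hq hp h (by rw [hG, mul_comm])

end Cfsg.Agent.S0062
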