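import Cfsg.Statements.S0063
import Mathlib

set_option autoImplicit false
open Cfsg

namespace Cfsg.Agent.S0063

open scoped Pointwise commutatorElement



/-- A finite group of prime-power order p ^ m with m > 1 is nilpotent of class at most m - 1. -/
theorem result {G : Type*} [Group G] [Finite G] (p m : ℕ) [Fact p.Prime]
    (hG : Nat.card G = p ^ m) (hm : 1 < m) : Group.nilpotencyClass G ≤ m - 1 := by
  suffices key : ∀ (k : ℕ) (H : Type _) [Group H] [Finite H], Nat.card H = p ^ k →
      Group.nilpotencyClass H ≤ max 1 (k - 1) by
    have := key m G hG
    omega
  intro k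
  induction k using Nat.strong_induction_on with
  | _ k ih =>
    intro H _ _ hH
    have hp := IsPGroup.of_card hH
    haveI : Group.IsNilpotent H := hp.isNilpotent
    by_cases hab : Subgroup.center H = ⊤
    · have : Group.nilpotencyClass H ≤ 1 := by
        rw [Group.IsNilpotent.nilpotencyClass_le_one_iff]
        exact ⟨⟨fun a b => Subgroup.mem_center_iff.1 (hab ▸ Subgroup.mem_top b) a⟩⟩
      omega
    · haveI : Nontrivial H := by
        by_contra h
        rw [not_nontrivial_iff_subsingleton] at h
        exact hab (Subsingleton.elim _ _)
      obtain ⟨j, hj⟩ := hp.index (Subgroup.center H)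
      have hj1 : 1 < j := by
        by_contra hle
        have hc : IsCyclic (H ⧸ Subgroup.center H) := by
          rcases Nat.le_one_iff_eq_zero_or_eq_one.1 (not_lt.1 hle) with rfl | rfl
          · rw [pow_zero, Subgroup.index_eq_one] at hj
            exact absurd hj hab
          · exact isCyclic_of_prime_card (p := p) (by rw [pow_one] at hj; exact hj)
        apply hab
        rw [Subgroup.eq_top_iff']
        intro x
        rw [Subgroup.mem_center_iff]
        intro y
        have hcomm := isMulCommutative_of_isCyclic_quotient_center_self H
        exact hcomm.is_comm.comm y x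
      have hjk : j < k := by
        obtain ⟨n, hn⟩ := IsPGroup.iff_card.1 (hp.to_subgroup (Subgroup.center H))
        have hmul := Subgroup.card_mul_index (Subgroup.center H)
        rw [hn, hj, hH, ← pow_add] at hmul
        have := Nat.pow_right_injective (Fact.out : p.Prime).two_le hmul
        have hn0 : n ≠ 0 := by
          rintro rfl
          exact (ne_of_gt hp.bot_lt_center) (Subgroup.card_eq_one.1 (by rw [hn, pow_zero]))
        omega
      have h1 := ih j hjk (H ⧸ Subgroup.center H) hj
      rw [Group.nilpotencyClass_quotient_center] at h1
      omega

end Cfsg.Agent.S0063
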