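import Cfsg.Statements.S0064
import Mathlib

set_option autoImplicit false
open Cfsg

namespace Cfsg.Agent.S0064

open scoped Pointwise commutatorElement



/-- A finite group is nilpotent exactly when each of its subgroups is subnormal. -/
theorem result {G : Type*} [Group G] [Finite G] :
    Group.IsNilpotent G ↔ ∀ H : Subgroup G, H.IsSubnormal := by
  have htfae := Group.isNilpotent_of_finite_tfae (G := G)
  constructor
  · intro hnil H
    have hnc : NormalizerCondition G := (htfae.out 0 1 rfl rfl).1 hnil
    induction H using WellFoundedGT.induction with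
    | _ H ih =>
      by_cases h : H = ⊤
      · rw [h]; exact Subgroup.Normal.isSubnormal inferInstance
      · exact Subgroup.IsSubnormal.step H _ (le_of_lt (hnc H (lt_top_iff_ne_top.2 h))) (ih _ (hnc H (lt_top_iff_ne_top.2 h))) inferInstance
  · intro hall
    refine (htfae.out 0 2 rfl rfl).2 fun M hM => ?_
    rcases (hall M).lt_normal with h | ⟨K, hK, hle, hlt⟩
    · exact absurd h hM.1
    · rcases hle.eq_or_lt with rfl | h
      · exact hK
      · exact absurd (hM.2 K h) hlt.ne

end Cfsg.Agent.S0064
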