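import Cfsg.Statements.S0067
import Mathlib
import Cfsg.Agent.S0064
import Cfsg.Agent.Lib.SubnormalJoin
import Cfsg.Agent.Lib.ComponentsFitting

set_option autoImplicit false
open Pointwise
open Cfsg

namespace Cfsg.Agent.S0067

open scoped Pointwise commutatorElement



/-- If the join of a subgroup A with each of its conjugates is nilpotent, then A is subnormal in the finite group and contained in the Fitting subgroup. -/
theorem result {G : Type*} [Group G] [Finite G] (A : Subgroup G)
    (h : ∀ g : G, Group.IsNilpotent (A ⊔ MulAut.conj g • A : Subgroup G)) : A.IsSubnormal ∧ A ≤ Cfsg.fittingSubgroup G := by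
  have hsub : ∀ g : G, (A.subgroupOf (A ⊔ MulAut.conj g • A)).IsSubnormal := fun g => by
    haveI := h g
    exact (Cfsg.Agent.S0064.result.1 this) _
  have hA := Cfsg.Agent.SubnormalJoin.isSubnormal_of_forall_sup_conj A hsub
  refine ⟨hA, Cfsg.Agent.ComponentsFitting.subnormal_nilpotent_le_fitting hA ?_⟩
  have h1 := h 1
  have e : A ⊔ MulAut.conj (1 : G) • A = A := by rw [map_one, one_smul, sup_idem]
  rw [e] at h1
  exact h1

end Cfsg.Agent.S0067
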