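import Cfsg.Statements.S0070
import Mathlib
import Cfsg.Agent.Lib.ComponentsFitting

set_option autoImplicit false
open Cfsg

namespace Cfsg.Agent.S0070

open scoped Pointwise commutatorElement



/-- The Fitting subgroup commutes with passing to the Frattini quotient: the Fitting subgroup of G modulo its Frattini subgroup is the image of the Fitting subgroup of G. -/
theorem result {G : Type*} [Group G] [Finite G] :
    Cfsg.fittingSubgroup (G ⧸ frattini G) = (Cfsg.fittingSubgroup G).map (QuotientGroup.mk' (frattini G)) := by
  let π := QuotientGroup.mk' (frattini G)
  have hπ : Function.Surjective π := QuotientGroup.mk'_surjective _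
  set F := Cfsg.fittingSubgroup (G ⧸ frattini G) with hF
  refine le_antisymm ?_ ?_
  · have hFn : Group.IsNilpotent F := Cfsg.Agent.ComponentsFitting.fittingSubgroup_isNilpotent
    haveI : F.Normal := Cfsg.Agent.ComponentsCores.fittingSubgroup_normal
    have hH : Group.IsNilpotent (F.comap π) := by
      refine ((Group.isNilpotent_of_finite_tfae (G := F.comap π)).out 0 3 rfl rfl).2 fun p hp P => ?_
      let P' : Sylow p F := P.mapSurjective (f := π.subgroupComap F) (MonoidHom.subgroupComap_surjective_of_surjective π F hπ)
      haveI : Group.IsNilpotent F := hFn
      haveI : (P' : Subgroup F).Normal := (Group.isNilpotent_of_finite_tfae.out 0 3 rfl rfl).1 hFn p hp P'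
      haveI : (P' : Subgroup F).Characteristic := Sylow.characteristic_of_normal P' inferInstance
      set PG : Subgroup G := (P : Subgroup (F.comap π)).map (F.comap π).subtype with hPG
      have hmap : PG.map π = (P' : Subgroup F).map F.subtype := by
        rw [hPG, Subgroup.map_map]
        show _ = ((P : Subgroup (F.comap π)).map (π.subgroupComap F)).map F.subtype
        rw [Subgroup.map_map]
        rfl
      have hnorm : (PG.map π).Normal := by rw [hmap]; infer_instance
      have hM : (PG ⊔ frattini G).Normal := by
        have := hnorm.comap π
        rwa [Subgroup.comap_map_eq, QuotientGroup.ker_mk'] at this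
      have hMle : PG ⊔ frattini G ≤ F.comap π := by
        refine sup_le (Subgroup.map_subtype_le _) ?_
        intro x hx
        show π x ∈ F
        rw [show π x = 1 from (QuotientGroup.eq_one_iff x).2 hx]
        exact one_mem _
      set M := PG ⊔ frattini G with hMdef
      have hPp : IsPGroup p (PG.subgroupOf M) := (P.2.map (F.comap π).subtype).comap_subtype
      have hidx : ¬ p ∣ (PG.subgroupOf M).index := by
        intro h
        apply P.not_dvd_index
        have e : (P : Subgroup (F.comap π)).index = PG.relIndex (F.comap π) := by
          show _ = (PG.subgroupOf (F.comap π)).index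
          rw [hPG]; exact congrArg Subgroup.index (Subgroup.comap_map_eq_self_of_injective (F.comap π).subtype_injective _).symm
        rw [e]
        exact h.trans (dvd_of_mul_right_eq _ (Subgroup.relIndex_mul_relIndex PG M (F.comap π) le_sup_left hMle))
      have htop := Sylow.normalizer_sup_eq_top (hPp.toSylow hidx)
      have e2 : ((hPp.toSylow hidx : Sylow p M) : Subgroup M).map M.subtype = PG := by
        show (PG.subgroupOf M).map M.subtype = PG
        exact Subgroup.map_subgroupOf_eq_of_le le_sup_left
      rw [e2] at htop
      have htop2 : Subgroup.normalizer (PG : Set G) ⊔ frattini G = ⊤ := by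
        rw [eq_top_iff, ← htop]
        exact sup_le le_sup_left (sup_le (Subgroup.le_normalizer.trans le_sup_left) le_sup_right)
      haveI : PG.Normal := Subgroup.normalizer_eq_top_iff.mp (frattini_nongenerating htop2)
      exact (inferInstance : PG.Normal).of_map_subtype
    have hle : F.comap π ≤ Cfsg.fittingSubgroup G := le_sSup ⟨inferInstance, hH⟩
    rw [← Subgroup.map_comap_eq_self_of_surjective hπ F]
    exact Subgroup.map_mono hle
  · refine le_sSup ⟨Subgroup.Normal.map Cfsg.Agent.ComponentsCores.fittingSubgroup_normal π hπ, ?_⟩
    haveI := Cfsg.Agent.ComponentsFitting.fittingSubgroup_isNilpotent (G := G)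
    exact Group.nilpotent_of_surjective (π.subgroupMap _) (π.subgroupMap_surjective _)

end Cfsg.Agent.S0070
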