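import Cfsg.Statements.S0073
import Mathlib

set_option autoImplicit false
open Cfsg

namespace Cfsg.Agent.S0073

open scoped Pointwise commutatorElement



/-- For a finite non-abelian simple group, either the cube of the least prime divisor of the order divides the order, or 12 does. -/
theorem result {G : Type*} [Group G] [Finite G] [IsSimpleGroup G] (hG : ∃ x y : G, x * y ≠ y * x) : (Nat.card G).minFac ^ 3 ∣ Nat.card G ∨ 12 ∣ Nat.card G := by
  classical
  obtain ⟨x, y, hxy⟩ := hG
  have hnt : Nat.card G ≠ 1 := fun h => by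
    rw [Nat.card_eq_one_iff_unique] at h
    haveI := h.1
    exact hxy (Subsingleton.elim _ _)
  have hp : (Nat.card G).minFac.Prime := Nat.minFac_prime hnt
  generalize hpdef : (Nat.card G).minFac = p at hp ⊢
  by_contra hcon
  push Not at hcon
  haveI : Fact p.Prime := ⟨hp⟩
  obtain ⟨P⟩ := (inferInstance : Nonempty (Sylow p G))
  obtain ⟨a, ha⟩ := IsPGroup.iff_card.1 P.2
  have hpG : p ∣ Nat.card G := hpdef ▸ Nat.minFac_dvd _
  have ha2 : a ≤ 2 := by
    by_contra h
    exact hcon.1 ((pow_dvd_pow p (by omega : 3 ≤ a)).trans (ha ▸ P.1.card_subgroup_dvd_card))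
  have ha0 : a ≠ 0 := by
    rintro rfl
    have h1 := P.dvd_card_of_dvd_card hpG
    rw [show Nat.card P = 1 from by rw [ha, pow_zero]] at h1
    exact hp.one_lt.ne' (Nat.dvd_one.1 h1)
  haveI hPc : IsMulCommutative (P : Subgroup G) := by
    interval_cases a
    · exact absurd rfl ha0
    · haveI := isCyclic_of_prime_card (p := p) (by simpa using ha)
      exact IsCyclic.isMulCommutative
    · exact IsPGroup.isMulCommutative_of_card_eq_prime_sq ha
  have hnotall : (P : Subgroup G) ≠ ⊤ := by
    intro e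
    exact hxy (congrArg Subtype.val (hPc.is_comm.comm (⟨x, e ▸ trivial⟩ : (P : Subgroup G)) ⟨y, e ▸ trivial⟩))
  have hnc : ¬ Subgroup.normalizer ((P : Subgroup G) : Set G) ≤ Subgroup.centralizer ((P : Subgroup G) : Set G) := by
    intro hle
    have hc := MonoidHom.ker_transferSylow_isComplement' P hle
    rcases IsSimpleGroup.eq_bot_or_eq_top_of_normal (MonoidHom.transferSylow P hle).ker inferInstance with h | h
    · rw [h, Subgroup.isComplement'_bot_left] at hc
      exact hnotall hc
    · rw [h, Subgroup.isComplement'_top_left] at hc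
      have h2 := Nat.card_congr (Equiv.setCongr (congrArg (fun K : Subgroup G => (K : Set G)) hc))
      simp only [SetLike.coe_sort_coe, Subgroup.card_bot] at h2
      rw [ha] at h2
      exact absurd h2 (Nat.one_lt_pow ha0 hp.one_lt).ne'
  obtain ⟨g, hgN, hgC⟩ := Set.not_subset.1 hnc
  set N := Subgroup.normalizer ((P : Subgroup G) : Set G) with hN
  set C := (Subgroup.centralizer ((P : Subgroup G) : Set G)).subgroupOf N with hC
  have hCne : C.index ≠ 1 := by
    rw [Ne, Subgroup.index_eq_one]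
    intro e
    exact hgC (Subgroup.mem_subgroupOf.1 (e ▸ Subgroup.mem_top (⟨g, hgN⟩ : N)))
  obtain ⟨r, hr, hrd⟩ := Nat.exists_prime_and_dvd hCne
  haveI : Fact r.Prime := ⟨hr⟩
  have hPN : (P : Subgroup G) ≤ N := Subgroup.le_normalizer
  have hpC : ¬ p ∣ C.index := by
    intro h
    apply (P.subtype hPN).not_dvd_index
    refine h.trans (Subgroup.index_dvd_of_le ?_)
    intro z hz
    rw [hC, Subgroup.mem_subgroupOf]
    exact Subgroup.le_centralizer (P : Subgroup G) (by simpa [Sylow.coe_subtype, Subgroup.mem_subgroupOf] using hz)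
  have hrp : r ≠ p := fun e => hpC (e ▸ hrd)
  have hrG : r ∣ Nat.card G := hrd.trans (C.index_dvd_card.trans N.card_subgroup_dvd_card)
  have hlt : p < r := lt_of_le_of_ne (hpdef ▸ Nat.minFac_le_of_dvd hr.two_le hrG) hrp.symm
  obtain ⟨R⟩ := (inferInstance : Nonempty (Sylow r N))
  let act : MulAction R (P : Subgroup G) :=
    { smul := fun s v => ⟨(s.1 : G) * v * (s.1 : G)⁻¹, (Subgroup.mem_normalizer_iff.1 s.1.2 _).1 v.2⟩
      one_smul := fun v => Subtype.ext (by show _ * (v : G) * _ = _; simp)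
      mul_smul := fun s t v => Subtype.ext (by
        show ((s * t).1 : G) * (v : G) * ((s * t).1 : G)⁻¹ = (s.1 : G) * ((t.1 : G) * v * (t.1 : G)⁻¹) * (s.1 : G)⁻¹
        simp [mul_assoc]) }
  have hmod := R.2.card_modEq_card_fixedPoints (P : Subgroup G)
  let Fx : Subgroup G := (P : Subgroup G) ⊓ Subgroup.centralizer (((R : Subgroup N).map N.subtype : Subgroup G) : Set G)
  have hfx : Nat.card (MulAction.fixedPoints R (P : Subgroup G)) = Nat.card Fx := by
    refine Nat.card_congr
      { toFun := fun v => ⟨(v.1 : G), v.1.2, ?_⟩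
        invFun := fun v => ⟨⟨v, v.2.1⟩, ?_⟩
        left_inv := fun v => rfl
        right_inv := fun v => rfl }
    · rintro _ ⟨s, hs, rfl⟩
      have h1 : (s : G) * v.1 * (s : G)⁻¹ = v.1 := congrArg Subtype.val (v.2 ⟨s, hs⟩)
      exact mul_inv_eq_iff_eq_mul.1 h1
    · intro s
      apply Subtype.ext
      show (s.1 : G) * v * (s.1 : G)⁻¹ = v
      have h1 : (s.1 : G) * (v : G) = (v : G) * (s.1 : G) := Subgroup.mem_centralizer_iff.1 v.2.2 _ ⟨s.1, s.2, rfl⟩
      rw [h1, mul_inv_cancel_right]
  obtain ⟨b, hb⟩ := IsPGroup.iff_card.1 (P.2.to_le (inf_le_left : Fx ≤ (P : Subgroup G)))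
  have hba : b < a := by
    by_contra hba
    have heq : Fx = (P : Subgroup G) := Subgroup.eq_of_le_of_card_ge inf_le_left (by rw [hb, ha]; exact Nat.pow_le_pow_right hp.pos (not_lt.1 hba))
    apply R.not_dvd_index
    refine hrd.trans (Subgroup.index_dvd_of_le fun s hs => ?_)
    rw [hC, Subgroup.mem_subgroupOf, Subgroup.mem_centralizer_iff]
    intro v hv
    exact (Subgroup.mem_centralizer_iff.1 (heq.symm ▸ hv : v ∈ Fx).2 _ ⟨s, hs, rfl⟩).symm
  rw [show Nat.card (P : Subgroup G) = p ^ a from ha, hfx, hb] at hmod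
  have hdiv : r ∣ p ^ a - p ^ b := (Nat.modEq_iff_dvd' (Nat.pow_le_pow_right hp.pos hba.le)).1 hmod.symm
  have e : p ^ a - p ^ b = p ^ b * (p ^ (a - b) - 1) := by
    rw [Nat.mul_sub, ← pow_add, mul_one, Nat.add_sub_cancel' hba.le]
  rw [e] at hdiv
  have hdiv2 : r ∣ p ^ (a - b) - 1 := (Nat.Coprime.pow_right b ((Nat.coprime_primes hr hp).2 hrp)).dvd_of_dvd_mul_left hdiv
  have hab : a - b = 2 := by
    by_contra h
    rw [show a - b = 1 by omega, pow_one] at hdiv2
    have := Nat.le_of_dvd (by have := hp.two_le; omega) hdiv2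
    omega
  rw [hab] at hdiv2
  have hfac : p ^ 2 - 1 = (p + 1) * (p - 1) := Nat.sq_sub_sq p 1
  rw [hfac] at hdiv2
  rcases hr.dvd_mul.1 hdiv2 with h | h
  · have := Nat.le_of_dvd (by omega) h
    have hr1 : r = p + 1 := by omega
    have hp2 : p = 2 := by
      by_contra hne
      have hpo := hp.odd_of_ne_two hne
      have := hr.odd_of_ne_two (by have := hp.two_le; omega)
      rw [hr1, Nat.odd_add_one] at this
      exact this hpo
    apply hcon.2
    have h4 : 4 ∣ Nat.card G := by
      have := ha ▸ P.1.card_subgroup_dvd_card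
      rw [hp2, show a = 2 by omega] at this
      simpa using this
    have h3 : 3 ∣ Nat.card G := by rw [hr1, hp2] at hrG; exact hrG
    exact Nat.Coprime.mul_dvd_of_dvd_of_dvd (by norm_num : Nat.Coprime 4 3) h4 h3
  · have := Nat.le_of_dvd (by have := hp.two_le; omega) h
    omega

end Cfsg.Agent.S0073
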