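import Cfsg.Statements.S0075
import Mathlib
import Cfsg.Agent.S0074
import Cfsg.Agent.Lib.TransferPResidual

set_option autoImplicit false
open Cfsg

namespace Cfsg.Agent.S0075

open scoped Pointwise commutatorElement



/-- For an abelian Sylow p-subgroup T, its intersection with the subgroup generated by the elements of order prime to p is the commutator of T with its normalizer. -/
theorem result {G : Type*} [Group G] [Finite G] {p : ℕ} [Fact p.Prime] (T : Sylow p G) (hT : IsMulCommutative T) : (T : Subgroup G) ⊓ Cfsg.pResidual p G = ⁅(T : Subgroup G), Subgroup.normalizer (T : Set G)⁆ := by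
  refine le_antisymm ((Cfsg.Agent.TransferPResidual.inf_pResidual_le_focal T).trans (Cfsg.Agent.S0074.focal_le T hT)) ?_
  refine le_inf (Cfsg.Agent.S0074.comm_le T) ?_
  rw [Subgroup.commutator_le]
  intro t ht n _
  haveI : (Cfsg.pResidual p G).Normal := inferInstance
  have hn : n ∈ (T : Subgroup G) ⊔ Cfsg.pResidual p G := by
    rw [Cfsg.Agent.TransferPResidual.sylow_sup_pResidual T]; trivial
  obtain ⟨a, ha, b, hb, rfl⟩ := Subgroup.mem_sup_of_normal_right.1 hn
  have hta : t * a = a * t := congrArg Subtype.val (hT.is_comm.comm (⟨t, ht⟩ : (T : Subgroup G)) ⟨a, ha⟩)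
  have e : ⁅t, a * b⁆ = (t * a) * b * t⁻¹ * b⁻¹ * a⁻¹ := by rw [commutatorElement_def]; group
  rw [e, hta, show a * t * b * t⁻¹ * b⁻¹ * a⁻¹ = a * (t * b * t⁻¹ * b⁻¹) * a⁻¹ by group]
  exact Subgroup.Normal.conj_mem inferInstance _ (mul_mem (Subgroup.Normal.conj_mem inferInstance b hb t) (inv_mem hb)) a

end Cfsg.Agent.S0075
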