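import Cfsg.Statements.S0076
import Mathlib
-- import your own Cfsg.Agent.* helpers here

set_option autoImplicit false
open Cfsg

namespace Cfsg.Agent.S0076

/-- Two P-invariant subsets of a Sylow p-subgroup P that are conjugate in G are conjugate under the normalizer of P. -/
theorem result {G : Type*} [Group G] [Finite G] {p : ℕ} [Fact p.Prime] (P : Sylow p G) (X Y : Set G) (hXP : X ⊆ P) (hYP : Y ⊆ P) (hX : ∀ x ∈ P, (fun y => x * y * x⁻¹) '' X = X) (hY : ∀ x ∈ P, (fun y => x * y * x⁻¹) '' Y = Y) (g : G) (hg : (fun y => g * y * g⁻¹) '' X = Y) : ∃ n ∈ Subgroup.normalizer (P : Set G), (fun y => n * y * n⁻¹) '' X = Y := by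
  classical
  let c : G → G → G := fun g y => g * y * g⁻¹
  have hc : ∀ a b : G, ∀ S : Set G, c (a * b) '' S = c a '' (c b '' S) := by
    intro a b S
    rw [Set.image_image]
    apply Set.image_congr'
    intro y; simp [c]; group
  have hc1 : ∀ S : Set G, c 1 '' S = S := by
    intro S; simp [c]
  let N : Subgroup G :=
    { carrier := {x | c x '' Y = Y}
      one_mem' := hc1 Y
      mul_mem' := fun {a b} (ha : c a '' Y = Y) (hb : c b '' Y = Y) => by
        show c (a * b) '' Y = Y
        rw [hc, hb, ha]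
      inv_mem' := fun {a} (ha : c a '' Y = Y) => by
        show c a⁻¹ '' Y = Y
        conv_lhs => rw [← ha]
        rw [← hc, inv_mul_cancel, hc1] }
  have hPN : (P : Subgroup G) ≤ N := fun x hx => hY x hx
  have hgX : c g '' X = Y := hg
  have hQN : ((g • P : Sylow p G) : Subgroup G) ≤ N := by
    rw [Sylow.coe_subgroup_smul]
    rintro _ ⟨w, hw, rfl⟩
    show c (MulAut.conj g w) '' Y = Y
    conv_lhs => rw [← hgX]
    rw [← hc, show MulAut.conj g w * g = g * w by simp, hc, show c w '' X = X from hX w hw, hgX]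
  obtain ⟨k, hk⟩ := MulAction.exists_smul_eq N ((g • P).subtype hQN) (P.subtype hPN)
  simp_rw [Sylow.smul_subtype, Subgroup.smul_def, smul_smul] at hk
  refine ⟨(k : G) * g, Sylow.smul_eq_iff_mem_normalizer.mp (Sylow.subtype_injective hk), ?_⟩
  show c ((k : G) * g) '' X = Y
  rw [hc, hgX]
  exact k.2
end Cfsg.Agent.S0076
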