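import Cfsg.Statements.S0079
import Mathlib
import Cfsg.Agent.Lib.HallNilpotentConj
-- import your own Cfsg.Agent.* helpers here

set_option autoImplicit false
open Cfsg

namespace Cfsg.Agent.S0079

/-- A nilpotent Hall subgroup has a normal complement exactly when elements of it that are conjugate in the whole group are already conjugate inside it. -/
theorem result {G : Type*} [Group G] [Finite G] (H : Subgroup G) (hH : Group.IsNilpotent H) (hHall : Nat.Coprime (Nat.card H) H.index) : (∃ N : Subgroup G, N.Normal ∧ N.IsComplement' H) ↔ ∀ x ∈ H, ∀ y ∈ H, (∃ g : G, g * x * g⁻¹ = y) → ∃ h ∈ H, h * x * h⁻¹ = y := by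
  constructor
  · rintro ⟨N, hN, hc⟩ x hx y hy ⟨g, rfl⟩
    obtain ⟨⟨⟨n, hn⟩, ⟨h, hh⟩⟩, hnh⟩ := hc.2 g
    simp only at hnh
    subst hnh
    refine ⟨h, hh, ?_⟩
    set z := h * x * h⁻¹ with hz
    have hzH : z ∈ H := mul_mem (mul_mem hh hx) (inv_mem hh)
    have h1 : n * h * x * (n * h)⁻¹ = n * z * n⁻¹ := by rw [hz]; group
    have h2 : n * z * n⁻¹ * z⁻¹ ∈ N ⊓ H := by
      refine ⟨?_, mul_mem (h1 ▸ hy) (H.inv_mem hzH)⟩
      rw [mul_assoc n z n⁻¹, mul_assoc n]
      exact mul_mem hn (hN.conj_mem _ (inv_mem hn) z)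
    rw [hc.disjoint.eq_bot, Subgroup.mem_bot, mul_inv_eq_one] at h2
    rw [h1, h2]
  · intro h
    exact HallNilpotentConj.exists_complement_of_control hHall h
end Cfsg.Agent.S0079
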