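import Cfsg.Statements.S0080
import Mathlib
-- import your own Cfsg.Agent.* helpers here

set_option autoImplicit false
open Cfsg

namespace Cfsg.Agent.S0080

/-- When the index of H is prime to the order of H/H', the focal subgroup of H is G' ∩ H, and H/(G' ∩ H) has a normal complement. -/
theorem result {G : Type*} [Group G] [Finite G] (H : Subgroup G) (h : Nat.Coprime H.index (⁅H, H⁆.relIndex H)) : Subgroup.focalSubgroup H = commutator G ⊓ H ∧ ∃ N : Subgroup G, N.Normal ∧ N ⊓ H = commutator G ⊓ H ∧ N ⊔ H = ⊤ := by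
  have hcomm : commutator H = ⁅H, H⁆.subgroupOf H := by
    rw [← Subgroup.map_subtype_commutator, Subgroup.subgroupOf,
      Subgroup.comap_map_eq_self_of_injective H.subtype_injective]
  have hkill : ∀ q : H ⧸ H.focalSubgroupOf, q ^ (⁅H, H⁆.relIndex H) = 1 := by
    intro q
    obtain ⟨x, rfl⟩ := QuotientGroup.mk_surjective q
    rw [← QuotientGroup.mk_pow, QuotientGroup.eq_one_iff]
    apply H.commutator_le_focalSubgroupOf
    rw [Subgroup.relIndex, ← hcomm]
    exact Subgroup.pow_index_mem _ x
  have hinj : ∀ q : H ⧸ H.focalSubgroupOf, q ^ H.index = 1 → q = 1 := by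
    intro q hq
    have := (pow_gcd_eq_one (m := H.index) (n := ⁅H, H⁆.relIndex H)).mpr ⟨hq, hkill q⟩
    rwa [h.gcd_eq_one, pow_one] at this
  have hinf : H.transferFocal.ker ⊓ H = H.focalSubgroup := by
    ext x
    constructor
    · rintro ⟨hx, hxH⟩
      have h1 : H.transferFocal ((⟨x, hxH⟩ : H) : G) = 1 := hx
      rw [Subgroup.transferFocal_eq_pow] at h1
      have h2 := (QuotientGroup.eq_one_iff (N := H.focalSubgroupOf) (⟨x, hxH⟩ : H)).mp (hinj _ h1)
      exact Subgroup.mem_subgroupOf.mp h2
    · intro hx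
      refine ⟨?_, H.focalSubgroup_le hx⟩
      show H.transferFocal ((⟨x, H.focalSubgroup_le hx⟩ : H) : G) = 1
      rw [Subgroup.transferFocal_eq_pow]
      have h2 : ((⟨x, H.focalSubgroup_le hx⟩ : H) : H ⧸ H.focalSubgroupOf) = 1 :=
        (QuotientGroup.eq_one_iff _).mpr hx
      rw [h2, one_pow]
  have hd : commutator G ≤ H.transferFocal.ker := by
    open scoped IsMulCommutative in
    exact Abelianization.commutator_subset_ker H.transferFocal
  have heq : H.focalSubgroup = commutator G ⊓ H :=
    le_antisymm (le_inf H.focalSubgroup_le_commutator H.focalSubgroup_le)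
      (hinf ▸ inf_le_inf_right H hd)
  refine ⟨heq, H.transferFocal.ker, inferInstance, hinf.trans heq, ?_⟩
  rw [eq_top_iff]
  intro g _
  set q := H.transferFocal g with hq
  have hbij : Function.Surjective (fun y : H ⧸ H.focalSubgroupOf => y ^ H.index) := by
    apply Finite.surjective_of_injective
    intro a b hab
    open scoped IsMulCommutative in
    have : (a / b) ^ H.index = 1 := by rw [div_pow, div_eq_one]; exact hab
    exact div_eq_one.mp (hinj _ this)
  obtain ⟨y, hy⟩ := hbij q
  obtain ⟨x, rfl⟩ := QuotientGroup.mk_surjective y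
  rw [Subgroup.mem_sup_of_normal_left]
  refine ⟨g * (x : G)⁻¹, ?_, x, x.2, by group⟩
  rw [MonoidHom.mem_ker, map_mul, map_inv, Subgroup.transferFocal_eq_pow, ← hq]
  simp only at hy
  rw [hy, mul_inv_cancel]
end Cfsg.Agent.S0080
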