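import Cfsg.Statements.S0082
import Mathlib
import Cfsg.Agent.Lib.ClassTwoPow
import Cfsg.Agent.Lib.TransferTate
-- import your own Cfsg.Agent.* helpers here

set_option autoImplicit false
open Cfsg

namespace Cfsg.Agent.S0082

/-- With a cyclic Sylow p-subgroup, either there is a normal p-complement or the elements of order prime to p generate the whole group. -/
theorem result {G : Type*} [Group G] [Finite G] {p : ℕ} [Fact p.Prime] (P : Sylow p G) (hP : IsCyclic P) : Cfsg.HasNormalPComplement p G ∨ Cfsg.pResidual p G = ⊤ := by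
  by_cases hle : (P : Subgroup G) ≤ Cfsg.pResidual p G
  · exact Or.inr (top_le_iff.mp ((TransferPResidual.sylow_sup_pResidual P).ge.trans (sup_le hle le_rfl)))
  left
  apply TransferTate.hasNormalPComplement_of_le_frattini P
  rintro x ⟨hxP, hxR⟩
  refine ⟨⟨x, hxP⟩, ?_, rfl⟩
  obtain ⟨g, hg⟩ := IsCyclic.exists_zpow_surjective (G := (P : Subgroup G))
  obtain ⟨k, hk⟩ := hg ⟨x, hxP⟩
  simp only at hk
  by_cases hdvd : (p : ℤ) ∣ k
  · obtain ⟨j, rfl⟩ := hdvd
    rw [SetLike.mem_coe, ← hk, mul_comm, zpow_mul, zpow_natCast]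
    exact ClassTwoPow.pow_mem_frattini P.isPGroup' _
  · exfalso
    apply hle
    obtain ⟨a, ha⟩ := IsPGroup.iff_orderOf.mp P.isPGroup' g
    have hcop : IsCoprime k ((p : ℤ) ^ a) :=
      ((Nat.prime_iff_prime_int.mp Fact.out).coprime_iff_not_dvd.mpr hdvd).symm.pow_right
    obtain ⟨u, v, huv⟩ := hcop
    have hgx : g = (⟨x, hxP⟩ : (P : Subgroup G)) ^ u := by
      have h1 : g ^ ((p : ℤ) ^ a) = 1 := by
        have := pow_orderOf_eq_one g
        rw [ha] at this
        exact_mod_cast this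
      calc g = g ^ (u * k + v * (p : ℤ) ^ a) := by rw [huv, zpow_one]
        _ = g ^ (u * k) := by rw [zpow_add, mul_comm v, zpow_mul g _ v, h1, one_zpow, mul_one]
        _ = _ := by rw [← hk, ← zpow_mul, mul_comm]
    intro y hy
    obtain ⟨i, hi⟩ := hg ⟨y, hy⟩
    have h2 : (g : G) ∈ Cfsg.pResidual p G := by
      rw [hgx]; simpa using Subgroup.zpow_mem _ hxR u
    have := Subgroup.zpow_mem _ h2 i
    have h3 := congrArg Subtype.val hi
    simp only [SubgroupClass.coe_zpow] at h3
    rwa [h3] at this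
end Cfsg.Agent.S0082
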