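import Cfsg.Statements.S0083
import Cfsg.Agent.Lib.BurnsideSmall
import Cfsg.Agent.Lib.TransferPResidual
-- import your own Cfsg.Agent.* helpers here

set_option autoImplicit false
open Cfsg

namespace Cfsg.Agent.S0083

/-- For an abelian Sylow p-subgroup P, a normal p-complement exists exactly when the normalizer of P is an internal direct product of P with some subgroup. -/
theorem result {G : Type*} [Group G] [Finite G] {p : ℕ} [Fact p.Prime] (P : Sylow p G) (hP : IsMulCommutative P) : Cfsg.HasNormalPComplement p G ↔ ∃ Q : Subgroup G, Q ≤ Subgroup.centralizer (P : Set G) ∧ Q ⊓ (P : Subgroup G) = ⊥ ∧ Q ⊔ (P : Subgroup G) = Subgroup.normalizer (P : Set G) := by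
  constructor
  · intro h
    obtain ⟨N, hN, hc⟩ := (TransferPResidual.hasNormalPComplement_iff_exists P).mp h
    set M := Subgroup.normalizer (P : Set G) with hM
    have hcent : M ⊓ N ≤ Subgroup.centralizer (P : Set G) := by
      intro n hn
      rw [Subgroup.mem_centralizer_iff]
      intro x hx
      have hd : n * x * n⁻¹ * x⁻¹ ∈ N ⊓ (P : Subgroup G) := by
        refine ⟨?_, ?_⟩
        · rw [mul_assoc n x n⁻¹, mul_assoc n]
          exact mul_mem hn.2 (hN.conj_mem _ (inv_mem hn.2) x)
        · exact mul_mem ((Subgroup.mem_normalizer_iff.mp (show n ∈ Subgroup.normalizer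
            ((P : Subgroup G) : Set G) from hn.1) x).mp hx) ((P : Subgroup G).inv_mem hx)
      rw [hc.disjoint.eq_bot, Subgroup.mem_bot, mul_inv_eq_one, mul_inv_eq_iff_eq_mul] at hd
      exact hd.symm
    refine ⟨M ⊓ N, hcent, ?_, ?_⟩
    · rw [inf_assoc, hc.disjoint.eq_bot, inf_bot_eq]
    · refine le_antisymm (sup_le inf_le_left Subgroup.le_normalizer) ?_
      intro g hg
      obtain ⟨⟨⟨n, hn⟩, ⟨x, hx⟩⟩, hnx⟩ := hc.2 g
      simp only at hnx
      subst hnx
      refine Subgroup.mul_mem_sup ⟨?_, hn⟩ hx
      have := mul_mem hg (inv_mem (Subgroup.le_normalizer (H := (P : Subgroup G)) hx))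
      simpa using this
  · rintro ⟨Q, hQc, -, hsup⟩
    refine BurnsideSmall.hasNormalPComplement_of_normalizer_le_centralizer P ?_
    rw [← hsup]
    exact sup_le hQc (Subgroup.le_centralizer _)
end Cfsg.Agent.S0083
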