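import Cfsg.Statements.S0084
import Cfsg.Agent.Lib.BurnsideSmall
-- import your own Cfsg.Agent.* helpers here

set_option autoImplicit false
open Cfsg

namespace Cfsg.Agent.S0084

/-- A group whose Sylow 2-subgroups are Klein four-groups and whose order is prime to 3 has a normal 2-complement. -/
theorem result {G : Type*} [Group G] [Finite G] (T : Sylow 2 G) (hT : IsKleinFour T) (h3 : ¬ 3 ∣ Nat.card G) : Cfsg.HasNormalPComplement 2 G := by
  have : IsMulCommutative (T : Subgroup G) := IsKleinFour.isMulCommutative
  have hc : Nat.card (T : Subgroup G) = 4 := IsKleinFour.card_four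
  refine BurnsideSmall.hasNormalPComplement_two T (hc ▸ by norm_num) ?_
  rintro q (rfl | rfl) hd φ hφ
  · exact h3 hd
  · have h1 : orderOf φ ∣ Nat.card (Equiv.Perm (T : Subgroup G)) := by
      have h0 := orderOf_dvd_natCard (MulAction.toPermHom (MulAut (T : Subgroup G)) (T : Subgroup G) φ)
      rw [orderOf_injective _ MulAction.toPerm_injective] at h0
      exact h0
    rw [hφ, Nat.card_perm, hc] at h1
    exact absurd h1 (by decide)
end Cfsg.Agent.S0084
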