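import Cfsg.Statements.S0085
import Cfsg.Agent.Lib.BurnsideSmall
-- import your own Cfsg.Agent.* helpers here

set_option autoImplicit false
open Cfsg

namespace Cfsg.Agent.S0085

/-- A group whose Sylow 2-subgroups are elementary abelian of order 8 and whose order is prime to 3 and to 7 has a normal 2-complement. -/
theorem result {G : Type*} [Group G] [Finite G] (T : Sylow 2 G) (h8 : Nat.card T = 8) (he : ∀ x : T, x * x = 1) (h3 : ¬ 3 ∣ Nat.card G) (h7 : ¬ 7 ∣ Nat.card G) : Cfsg.HasNormalPComplement 2 G := by
  have : IsMulCommutative (T : Subgroup G) := by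
    constructor; constructor
    intro a b
    have h1 : ∀ x : (T : Subgroup G), x⁻¹ = x := fun x => inv_eq_of_mul_eq_one_right (he x)
    calc a * b = (a * b)⁻¹ := (h1 _).symm
      _ = b⁻¹ * a⁻¹ := mul_inv_rev a b
      _ = b * a := by rw [h1, h1]
  refine BurnsideSmall.hasNormalPComplement_two T (h8 ▸ dvd_rfl) ?_
  rintro q (rfl | rfl) hd
  · exact absurd hd h3
  · exact absurd hd h7
end Cfsg.Agent.S0085
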