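import Cfsg.Statements.S0086
import Mathlib
-- import your own Cfsg.Agent.* helpers here

set_option autoImplicit false
open Cfsg

namespace Cfsg.Agent.S0086

/-- A normal complement to a Sylow p-subgroup is exactly the set of elements of order prime to p. -/
theorem result {G : Type*} [Group G] [Finite G] {p : ℕ} [Fact p.Prime] (P : Sylow p G) (N : Subgroup G) [N.Normal] (hN : N.IsComplement' (P : Subgroup G)) (x : G) : x ∈ N ↔ Nat.Coprime (orderOf x) p := by
  have hidx : N.index = Nat.card (P : Subgroup G) := hN.symm.index_eq_card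
  have hcard : Nat.card N * Nat.card (P : Subgroup G) = Nat.card G := hN.card_mul
  have hNcop : ¬ p ∣ Nat.card N := by
    intro hd
    apply P.not_dvd_index
    rwa [hN.index_eq_card]
  constructor
  · intro hx
    have hdvd : orderOf x ∣ Nat.card N := by
      exact Subgroup.orderOf_dvd_natCard _ hx
    exact Nat.Coprime.coprime_dvd_left hdvd
      (Nat.coprime_comm.mp ((Nat.Prime.coprime_iff_not_dvd Fact.out).mpr hNcop))
  · intro hx
    obtain ⟨k, hk⟩ := P.2.exists_card_eq
    have h1 : x ^ N.index ∈ N := Subgroup.pow_index_mem N x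
    rw [hidx, hk] at h1
    rw [← QuotientGroup.eq_one_iff]
    have h2 : (x : G ⧸ N) ^ (p ^ k) = 1 := by
      rw [← QuotientGroup.mk_pow, QuotientGroup.eq_one_iff]; exact h1
    have h3 : (x : G ⧸ N) ^ orderOf x = 1 := by
      rw [← QuotientGroup.mk_pow, pow_orderOf_eq_one, QuotientGroup.mk_one]
    have h4 : (x : G ⧸ N) ^ Nat.gcd (orderOf x) (p ^ k) = 1 := pow_gcd_eq_one.mpr ⟨h3, h2⟩
    rwa [(Nat.Coprime.pow_right k hx).gcd_eq_one, pow_one] at h4
end Cfsg.Agent.S0086
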