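import Cfsg.Statements.S0087
import Mathlib
import Cfsg.Agent.Lib.HallNilpotentConj
-- import your own Cfsg.Agent.* helpers here

set_option autoImplicit false
open Cfsg

namespace Cfsg.Agent.S0087

/-- A Hall subgroup that is central in its normalizer has a normal complement. -/
theorem result {G : Type*} [Group G] [Finite G] (H : Subgroup G) (hHall : Nat.Coprime (Nat.card H) H.index) (h : Subgroup.normalizer (H : Set G) ≤ Subgroup.centralizer (H : Set G)) : ∃ N : Subgroup G, N.Normal ∧ N.IsComplement' H := by
  have hHc : H ≤ Subgroup.centralizer (H : Set G) := le_trans Subgroup.le_normalizer h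
  have hnil : Group.IsNilpotent H := by
    have : H.subtype.ker ≤ Subgroup.center H := by rw [Subgroup.ker_subtype]; exact bot_le
    have hcomm : ∀ a b : H, a * b = b * a := fun a b =>
      Subtype.ext (Subgroup.mem_centralizer_iff.mp (hHc b.2) a a.2)
    let : CommGroup H := { (inferInstance : Group H) with mul_comm := hcomm }
    infer_instance
  refine HallNilpotentConj.exists_complement_of_control hHall ?_
  rintro x hx y hy ⟨g, rfl⟩
  refine ⟨1, one_mem H, ?_⟩
  set C := Subgroup.centralizer ({g * x * g⁻¹} : Set G) with hC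
  have h1 : H ≤ C := by
    intro a ha
    rw [hC, Subgroup.mem_centralizer_singleton_iff]
    exact Subgroup.mem_centralizer_iff.mp (hHc hy) a ha
  have h2 : H.map (MulAut.conj g).toMonoidHom ≤ C := by
    rintro _ ⟨a, ha, rfl⟩
    rw [hC, Subgroup.mem_centralizer_singleton_iff]
    have h3 := Subgroup.mem_centralizer_iff.mp (hHc hx) a ha
    simp only [MulEquiv.coe_toMonoidHom, MulAut.conj_apply]
    calc g * a * g⁻¹ * (g * x * g⁻¹) = g * (a * x) * g⁻¹ := by group
      _ = g * (x * a) * g⁻¹ := by rw [h3]
      _ = _ := by group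
  have hcardg : Nat.card (H.map (MulAut.conj g).toMonoidHom) = Nat.card H :=
    Subgroup.card_map_of_injective (MulAut.conj g).injective
  obtain ⟨c, hc, hceq⟩ := HallNilpotentConj.wielandt_aux (Nat.card H) C
    (H.map (MulAut.conj g).toMonoidHom) H hcardg h2 h1
    (Group.nilpotent_of_mulEquiv
      (H.equivMapOfInjective (MulAut.conj g).toMonoidHom (MulAut.conj g).injective)) hnil hcardg.symm
    (by
      rw [hcardg]
      refine hHall.coprime_dvd_right ?_
      have e1 := Subgroup.card_mul_index (H.map (MulAut.conj g).toMonoidHom)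
      rw [hcardg, ← H.card_mul_index] at e1
      rw [← Nat.eq_of_mul_eq_mul_left Nat.card_pos e1]
      exact ⟨C.index, (Subgroup.relIndex_mul_index h2).symm⟩)
  rw [Subgroup.map_map] at hceq
  have hn : c * g ∈ Subgroup.normalizer (H : Set G) := by
    rw [Subgroup.mem_normalizer_iff]
    intro z
    constructor
    · intro hz
      rw [← hceq]
      exact ⟨z, hz, by simp [mul_assoc]⟩
    · intro hz
      rw [← hceq] at hz
      obtain ⟨w, hw, hwz⟩ := hz
      have : w = z := by
        simp only [MonoidHom.comp_apply, MulEquiv.coe_toMonoidHom, MulAut.conj_apply] at hwz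
        have h5 : c * g * w * (c * g)⁻¹ = c * g * z * (c * g)⁻¹ := by rw [← hwz]; group
        exact mul_left_cancel (mul_right_cancel h5)
      exact this ▸ hw
  have h6 := Subgroup.mem_centralizer_iff.mp (h hn) x hx
  have h7 := Subgroup.mem_centralizer_singleton_iff.mp hc
  calc (1 : G) * x * 1⁻¹ = (c * g)⁻¹ * ((c * g) * x) := by group
    _ = (c * g)⁻¹ * (x * (c * g)) := by rw [h6]
    _ = g⁻¹ * c⁻¹ * x * (c * g) := by group
    _ = g * x * g⁻¹ := by
      have h8 : c * g * x * (c * g)⁻¹ = x := by rw [← h6, mul_inv_cancel_right]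
      have h9 : c * g * x * (c * g)⁻¹ = g * x * g⁻¹ := by
        calc c * g * x * (c * g)⁻¹ = c * (g * x * g⁻¹) * c⁻¹ := by group
          _ = g * x * g⁻¹ := by rw [h7, mul_inv_cancel_right]
      calc g⁻¹ * c⁻¹ * x * (c * g) = (c * g)⁻¹ * (c * g * x * (c * g)⁻¹) * (c * g) := by rw [h8]; group
        _ = x := by group
        _ = g * x * g⁻¹ := by rw [← h9, h8]
end Cfsg.Agent.S0087
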