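import Cfsg.Statements.S0089
import Mathlib
import Cfsg.Agent.Lib.TransferPow
-- import your own Cfsg.Agent.* helpers here

set_option autoImplicit false
open Cfsg

namespace Cfsg.Agent.S0089

/-- When all Sylow subgroups are abelian, the derived subgroup meets the centre trivially. -/
theorem result {G : Type*} [Group G] [Finite G] (h : ∀ p : ℕ, p.Prime → ∀ P : Sylow p G, IsMulCommutative P) : commutator G ⊓ Subgroup.center G = ⊥ := by
  rw [Subgroup.eq_bot_iff_forall]
  intro x hx
  by_contra hne
  obtain ⟨p, hp, hpd⟩ : ∃ p, p.Prime ∧ p ∣ orderOf x :=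
    Nat.exists_prime_and_dvd (fun h1 => hne (orderOf_eq_one_iff.mp h1))
  have := Fact.mk hp
  set y := x ^ (orderOf x / p) with hy
  have hord : orderOf y = p := by
    rw [hy]
    exact orderOf_pow_orderOf_div (orderOf_pos x).ne' hpd
  obtain ⟨P, hP⟩ := IsPGroup.exists_le_sylow (p := p) (P := Subgroup.zpowers y)
    (IsPGroup.of_card (n := 1) (by rw [Nat.card_zpowers, hord, pow_one]))
  have := h p hp P
  have hy1 : y = 1 := TransferPow.eq_one_of_mem_center_commutator (H := (P : Subgroup G))
    (hP (Subgroup.mem_zpowers y)) (pow_mem hx.2 _) (pow_mem hx.1 _)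
    (by rw [hord]; exact Nat.coprime_comm.mp ((Nat.Prime.coprime_iff_not_dvd hp).mpr P.not_dvd_index))
  rw [hy1, orderOf_one] at hord
  exact hp.one_lt.ne hord
end Cfsg.Agent.S0089
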