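import Cfsg.Statements.S0090
import Mathlib
import Cfsg.Agent.S0080
import Cfsg.Agent.S0088
import Cfsg.Agent.Lib.TransferAbelianNormal
-- import your own Cfsg.Agent.* helpers here

set_option autoImplicit false
open Cfsg

namespace Cfsg.Agent.S0090

open scoped commutatorElement

/-- An abelian normal Hall subgroup A splits as the internal direct product of G' ∩ A and Z(G) ∩ A, and [A, G] = G' ∩ A. -/
theorem result {G : Type*} [Group G] [Finite G] (A : Subgroup G) [A.Normal] (hc : IsMulCommutative A) (hHall : Nat.Coprime (Nat.card A) A.index) : ⁅A, (⊤ : Subgroup G)⁆ = commutator G ⊓ A ∧ (commutator G ⊓ A) ⊓ (Subgroup.center G ⊓ A) = ⊥ ∧ (commutator G ⊓ A) ⊔ (Subgroup.center G ⊓ A) = A := by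
  have hfoc : A.focalSubgroup = ⁅A, (⊤ : Subgroup G)⁆ := by
    rw [Subgroup.focalSubgroup_def, Subgroup.commutator_def]
    congr 1
    ext g
    constructor
    · rintro ⟨-, x, hx, u, rfl⟩
      exact ⟨x, hx, u, Subgroup.mem_top u, rfl⟩
    · rintro ⟨x, hx, u, -, rfl⟩
      refine ⟨?_, x, hx, u, rfl⟩
      rw [commutatorElement_def, mul_assoc, mul_assoc, ← mul_assoc u]
      exact mul_mem hx (Subgroup.Normal.conj_mem ‹A.Normal› _ (inv_mem hx) u)
  have h1 : ⁅A, (⊤ : Subgroup G)⁆ = commutator G ⊓ A := by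
    rw [← hfoc]
    exact (S0080.result A (hHall.symm.coprime_dvd_right (Subgroup.relIndex_dvd_card _ _))).1
  refine ⟨h1, ?_, le_antisymm (sup_le inf_le_right inf_le_right) ?_⟩
  · rw [eq_bot_iff, ← S0088.result A hc hHall]
    exact fun x hx => ⟨⟨hx.1.2, hx.1.1⟩, hx.2.1⟩
  · intro a ha
    obtain ⟨c, ⟨hcA, hcZ⟩, hc'⟩ := TransferAbelianNormal.exists_central_congr A a ha
    have hmem : a ^ A.index ∈ (commutator G ⊓ A) ⊔ (Subgroup.center G ⊓ A) := by
      have h2 : a ^ A.index = c * ((a ^ A.index)⁻¹ * c)⁻¹ := by group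
      rw [h2]
      exact mul_mem (Subgroup.mem_sup_right ⟨hcZ, hcA⟩)
        (Subgroup.mem_sup_left (inv_mem (h1 ▸ hc')))
    have hcop : (orderOf a).Coprime A.index :=
      hHall.coprime_dvd_left (Subgroup.orderOf_dvd_natCard _ ha)
    obtain ⟨m, hm⟩ := exists_pow_eq_self_of_coprime (hcop.symm : A.index.Coprime (orderOf a))
    rw [← hm]
    exact pow_mem hmem m
end Cfsg.Agent.S0090
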