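import Cfsg.Statements.S0091
import Mathlib
import Cfsg.Agent.Lib.FocalControl
-- import your own Cfsg.Agent.* helpers here

set_option autoImplicit false
open Cfsg

namespace Cfsg.Agent.S0091

open scoped commutatorElement

/-- If a nontrivial Sylow p-subgroup controls its own fusion then it is not contained in the derived subgroup. -/
theorem result {G : Type*} [Group G] [Finite G] {p : ℕ} [Fact p.Prime] (P : Sylow p G) (hp : p ∣ Nat.card G) (h : ∀ x ∈ P, ∀ y ∈ P, (∃ g : G, g * x * g⁻¹ = y) → ∃ z ∈ P, z * x * z⁻¹ = y) : ¬ (P : Subgroup G) ≤ commutator G := by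
  intro hle
  have hfoc : (P : Subgroup G).focalSubgroup ≤ ⁅(P : Subgroup G), (P : Subgroup G)⁆ :=
    FocalControl.focalSubgroup_le_commutator_of_control _ _ fun x hx u hu => by
      obtain ⟨z, hz, hzx⟩ := h x hx _ hu ⟨u, rfl⟩
      exact ⟨z, hz, hzx⟩
  have h2 : (P : Subgroup G) ≤ ⁅(P : Subgroup G), (P : Subgroup G)⁆ :=
    (le_inf hle le_rfl).trans ((Subgroup.commutator_inf_eq_focalSubgroup P).le.trans hfoc)
  have hnb : (P : Subgroup G) ≠ ⊥ := P.ne_bot_of_dvd_card hp
  have : Nontrivial (P : Subgroup G) := (Subgroup.nontrivial_iff_ne_bot _).mpr hnb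
  have : Group.IsNilpotent (P : Subgroup G) := P.isPGroup'.isNilpotent
  have h3 : commutator (P : Subgroup G) = ⊤ := by
    rw [eq_top_iff]
    intro x _
    have := h2 x.2
    rw [← Subgroup.map_subtype_commutator] at this
    obtain ⟨y, hy, hyx⟩ := this
    exact (Subtype.ext hyx : y = x) ▸ hy
  exact (Group.IsSolvable.commutator_lt_top_of_nontrivial (P : Subgroup G)).ne h3
end Cfsg.Agent.S0091
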