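import Cfsg.Statements.S0092
import Cfsg.Agent.Lib.TransferTate
import Cfsg.Agent.Lib.CoprimeSZ
import Cfsg.Agent.S0088

set_option autoImplicit false
open Cfsg

namespace Cfsg.Agent.S0092

/-- If the Sylow p-subgroups of O^p(G) are abelian then G splits over O^p(G). -/
theorem result {G : Type*} [Group G] [Finite G] {p : ℕ} [Fact p.Prime] (h : ∀ Q : Sylow p (Cfsg.pResidual p G), IsMulCommutative Q) : ∃ K : Subgroup G, K.IsComplement' (Cfsg.pResidual p G) := by
  classical
  set K := Cfsg.pResidual p G with hK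
  obtain ⟨Q₀⟩ : Nonempty (Sylow p K) := inferInstance
  set Q : Subgroup G := (Q₀ : Subgroup K).map K.subtype with hQ
  have hQc : IsMulCommutative Q :=
    ⟨⟨by
      rintro ⟨_, x, hx, rfl⟩ ⟨_, y, hy, rfl⟩
      exact Subtype.ext (congrArg (fun z : (Q₀ : Subgroup K) => ((z : K) : G))
        ((h Q₀).is_comm.comm ⟨x, hx⟩ ⟨y, hy⟩))⟩⟩
  have hQp : IsPGroup p Q := Q₀.isPGroup'.map _
  set N := Subgroup.normalizer (Q : Set G) with hN
  have hfr : N ⊔ K = ⊤ := Q₀.normalizer_sup_eq_top
  set NK := N ⊓ K with hNK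
  have hQNK : Q ≤ NK := le_inf Subgroup.le_normalizer (Subgroup.map_subtype_le _)
  haveI hQn : (Q.subgroupOf NK).Normal :=
    (Subgroup.normal_subgroupOf_iff_le_normalizer hQNK).mpr inf_le_left
  have hidx : ¬ p ∣ (Q.subgroupOf NK).index := by
    intro hd
    refine Q₀.not_dvd_index (hd.trans ?_)
    have h3 : Q.relIndex K = (Q₀ : Subgroup K).index := by
      rw [Subgroup.relIndex, hQ, Subgroup.subgroupOf,
        Subgroup.comap_map_eq_self_of_injective K.subtype_injective]
    rw [← h3, ← Subgroup.relIndex_mul_relIndex Q NK K hQNK inf_le_right]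
    exact dvd_mul_right _ _
  have hQcard : ∃ n, Nat.card (Q.subgroupOf NK) = p ^ n :=
    IsPGroup.iff_card.mp (hQp.comap_subtype)
  have hcop : (Nat.card (Q.subgroupOf NK)).Coprime (Q.subgroupOf NK).index := by
    obtain ⟨n, hn⟩ := hQcard
    rw [hn]
    exact ((Nat.Prime.coprime_iff_not_dvd Fact.out).mpr hidx).pow_left n
  obtain ⟨L₀, hL₀⟩ := Subgroup.exists_right_complement'_of_coprime hcop
  set L : Subgroup G := L₀.map NK.subtype with hL
  have hLcard : Nat.card L = (Q.subgroupOf NK).index := by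
    rw [hL, Subgroup.card_map_of_injective NK.subtype_injective, hL₀.symm.index_eq_card]
  have hQL : Q ⊔ L = NK := by
    have h4 := congrArg (Subgroup.map NK.subtype) hL₀.sup_eq_top
    rwa [Subgroup.map_sup, Subgroup.map_subgroupOf_eq_of_le hQNK, ← hL, ← MonoidHom.range_eq_map,
      Subgroup.range_subtype] at h4
  have hLN : L ≤ N := (le_sup_right.trans hQL.le).trans inf_le_left
  have hcopQL : (Nat.card L).Coprime (Nat.card Q) := by
    rw [hLcard, ← Nat.card_congr (Subgroup.subgroupOfEquivOfLe hQNK).toEquiv]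
    exact hcop.symm
  -- only the identity of `Q` commutes with `L`
  have hfix : ∀ x ∈ Q, (∀ l ∈ L, x * l = l * x) → x = 1 := by
    intro x hx hl
    have hxNK := hQNK hx
    have hxz : (⟨x, hxNK⟩ : NK) ∈ Subgroup.center NK := by
      rw [Subgroup.mem_center_iff]
      intro y
      have hy : (y : G) ∈ Q ⊔ L := hQL.symm ▸ y.2
      have hcl : Q ⊔ L ≤ Subgroup.centralizer ({x} : Set G) := by
        refine sup_le (fun z hz => ?_) (fun z hz => ?_) <;> rw [Subgroup.mem_centralizer_iff] <;>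
          intro w hw <;> rw [Set.mem_singleton_iff.mp hw]
        · exact congrArg Subtype.val (hQc.is_comm.comm ⟨x, hx⟩ ⟨z, hz⟩)
        · exact hl z hz
      exact Subtype.ext (Subgroup.mem_centralizer_iff.mp (hcl hy) x rfl).symm
    have hxd : (⟨x, hxNK⟩ : NK) ∈ commutator NK := by
      -- `Q = [N_K(Q), N_K(Q)] ∩ Q` as `O^p(K) = K`
      have hKK : Cfsg.pResidual p K = ⊤ := TransferPResidual.pResidual_pResidual
      have h5 := TransferTate.inf_pResidual_eq_inf_commutator Q₀ (h Q₀)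
      rw [hKK, inf_top_eq] at h5
      have h6 := TransferTate.commutator_inf_eq_of_control Q₀ Subgroup.le_normalizer
        (TransferTate.controlsFusion_normalizer_of_comm Q₀ (h Q₀))
      obtain ⟨y, hy, rfl⟩ := hx
      have h7 : y ∈ commutator K ⊓ (Q₀ : Subgroup K) := h5 ▸ hy
      rw [h6] at h7
      have h8 : ⁅Subgroup.normalizer ((Q₀ : Subgroup K) : Set K),
          Subgroup.normalizer ((Q₀ : Subgroup K) : Set K)⁆.map K.subtype ≤
          ⁅NK, NK⁆ := by
        rw [Subgroup.map_commutator]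
        refine Subgroup.commutator_mono ?_ ?_ <;>
        · refine le_inf ?_ (Subgroup.map_subtype_le _)
          exact Subgroup.le_normalizer_map _
      have h9 : K.subtype y ∈ (commutator NK).map NK.subtype := by
        rw [Subgroup.map_subtype_commutator]
        exact h8 ⟨y, (Subgroup.mem_inf.mp h7).1, rfl⟩
      obtain ⟨z, hz, he⟩ := h9
      have hz' : z = ⟨K.subtype y, hxNK⟩ := Subtype.ext he
      rwa [hz'] at hz
    have h10 := Cfsg.Agent.S0088.result (Q.subgroupOf NK)
      ⟨⟨fun a b => Subtype.ext (Subtype.ext (congrArg (fun t : Q => (t : G))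
        (hQc.is_comm.comm ⟨((a : NK) : G), a.2⟩ ⟨((b : NK) : G), b.2⟩)))⟩⟩ hcop
    have h11 : (⟨x, hxNK⟩ : NK) ∈ Q.subgroupOf NK ⊓ commutator NK ⊓ Subgroup.center NK :=
      ⟨⟨Subgroup.mem_subgroupOf.mpr hx, hxd⟩, hxz⟩
    rw [h10, Subgroup.mem_bot] at h11
    exact congrArg Subtype.val h11
  -- `M = N_N(L)`
  set M := N ⊓ Subgroup.normalizer (L : Set G) with hM
  have hMK : M ⊓ K ≤ L := by
    intro y hy
    obtain ⟨hyM, hyK⟩ := Subgroup.mem_inf.mp hy
    obtain ⟨hyN, hyL⟩ := Subgroup.mem_inf.mp hyM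
    have hy2 : y ∈ Q ⊔ L := hQL.symm ▸ Subgroup.mem_inf.mpr ⟨hyN, hyK⟩
    rw [← SetLike.mem_coe, Subgroup.coe_mul_of_right_le_normalizer_left Q L hLN] at hy2
    obtain ⟨u, hu, l, hl, rfl⟩ := hy2
    have hu1 : u = 1 := by
      refine hfix u hu fun m hm => ?_
      have huL : u ∈ Subgroup.normalizer (L : Set G) := by
        have := mul_mem hyL (inv_mem (Subgroup.le_normalizer hl))
        simpa using this
      have hcm : u * m * u⁻¹ * m⁻¹ ∈ Q ⊓ L := by
        refine Subgroup.mem_inf.mpr ⟨?_, mul_mem ((Subgroup.mem_normalizer_iff.mp huL m).mp hm) (inv_mem hm)⟩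
        have : u * (m * u⁻¹ * m⁻¹) ∈ Q :=
          mul_mem hu ((Subgroup.mem_normalizer_iff.mp (hLN hm) _).mp (inv_mem hu))
        simpa [mul_assoc] using this
      rw [(Subgroup.disjoint_of_coprime_natCard hcopQL.symm).eq_bot, Subgroup.mem_bot,
        mul_inv_eq_one, mul_inv_eq_iff_eq_mul] at hcm
      exact hcm
    simpa [hu1] using hl
  have hsolv : Group.IsSolvable Q := by
    haveI := hQp.isNilpotent
    infer_instance
  have hN' : N ≤ M ⊔ K := by
    intro n hn
    have hLn : L.map (MulAut.conj n).toMonoidHom ≤ Q ⊔ L := by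
      rw [hQL]
      rintro _ ⟨l, hl, rfl⟩
      have hl' : l ∈ NK := (le_sup_right.trans hQL.le) hl
      exact Subgroup.mem_inf.mpr ⟨mul_mem (mul_mem hn hl'.1) (inv_mem hn),
        (inferInstance : K.Normal).conj_mem l hl'.2 n⟩
    obtain ⟨u, hu, he⟩ := CoprimeSZ.exists_conj_of_card_eq (N := Q) (A := L) hLN hcopQL
      (Or.inr hsolv) hLn (Subgroup.card_map_of_injective (MulAut.conj n).injective)
    have huK : u ∈ K := Subgroup.map_subtype_le _ hu
    have hm : u⁻¹ * n ∈ Subgroup.normalizer (L : Set G) := by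
      rw [CoprimeSZ.conj_smul_eq_map] at he
      rw [Subgroup.mem_normalizer_iff]
      intro y
      constructor
      · intro hy
        have h12 : n * y * n⁻¹ ∈ L.map (MulAut.conj n).toMonoidHom := ⟨y, hy, rfl⟩
        rw [← he] at h12
        obtain ⟨z, hz, hze⟩ := h12
        have : z = u⁻¹ * n * y * (u⁻¹ * n)⁻¹ := by
          have hze' : u * z * u⁻¹ = n * y * n⁻¹ := hze
          calc z = u⁻¹ * (u * z * u⁻¹) * u := by group
            _ = u⁻¹ * n * y * (u⁻¹ * n)⁻¹ := by rw [hze']; group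
        exact this ▸ hz
      · intro hy
        have h12 : u * (u⁻¹ * n * y * (u⁻¹ * n)⁻¹) * u⁻¹ ∈ L.map (MulAut.conj u).toMonoidHom :=
          ⟨_, hy, rfl⟩
        rw [he] at h12
        obtain ⟨z, hz, hze⟩ := h12
        have hze' : n * z * n⁻¹ = u * (u⁻¹ * n * y * (u⁻¹ * n)⁻¹) * u⁻¹ := hze
        have : z = y := by
          calc z = n⁻¹ * (n * z * n⁻¹) * n := by group
            _ = y := by rw [hze']; group
        exact this ▸ hz
    have hmM : u⁻¹ * n ∈ M := Subgroup.mem_inf.mpr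
      ⟨mul_mem (inv_mem (Subgroup.le_normalizer hu)) hn, hm⟩
    have : n = u * (u⁻¹ * n) := by group
    rw [this]
    exact mul_mem (Subgroup.mem_sup_right huK) (Subgroup.mem_sup_left hmM)
  obtain ⟨S⟩ : Nonempty (Sylow p M) := inferInstance
  have hMS : M ≤ (S : Subgroup M).map M.subtype ⊔ K := by
    have h13 := congrArg (Subgroup.map M.subtype) (TransferPResidual.sylow_sup_pResidual S)
    rw [Subgroup.map_sup, ← MonoidHom.range_eq_map, Subgroup.range_subtype] at h13
    exact h13.ge.trans (sup_le_sup_left (TransferPResidual.map_pResidual_subtype_le M) _)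
  refine ⟨(S : Subgroup M).map M.subtype, Subgroup.isComplement'_of_disjoint_and_mul_eq_univ ?_ ?_⟩
  · rw [disjoint_iff, eq_bot_iff]
    intro y hy
    obtain ⟨hyS, hyK⟩ := Subgroup.mem_inf.mp hy
    have hyL : y ∈ L := hMK (Subgroup.mem_inf.mpr ⟨Subgroup.map_subtype_le _ hyS, hyK⟩)
    obtain ⟨i, hi⟩ := IsPGroup.iff_orderOf.mp (S.isPGroup'.map M.subtype) ⟨y, hyS⟩
    rw [Subgroup.orderOf_mk] at hi
    have h14 : Nat.Coprime (Nat.card L) p :=
      hLcard ▸ ((Nat.Prime.coprime_iff_not_dvd Fact.out).mpr hidx).symm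
    have h15 : orderOf y ∣ Nat.card L := Subgroup.orderOf_dvd_natCard _ hyL
    rw [hi] at h15
    rcases i.eq_zero_or_pos with h0 | h0
    · rw [h0, pow_zero, orderOf_eq_one_iff] at hi
      exact hi ▸ one_mem _
    · exact absurd ((dvd_pow_self p h0.ne').trans h15)
        ((Nat.Prime.coprime_iff_not_dvd Fact.out).mp h14.symm)
  · rw [← Subgroup.mul_normal]
    rw [← Subgroup.coe_top, SetLike.coe_set_eq, ← top_le_iff, ← hfr]
    exact sup_le (hN'.trans (sup_le hMS le_sup_right)) le_sup_right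

end Cfsg.Agent.S0092
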