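import Cfsg.Statements.S0094
import Cfsg.Agent.Lib.ClassTwoPow
-- import your own Cfsg.Agent.* helpers here

set_option autoImplicit false
open Cfsg

namespace Cfsg.Agent.S0094

open scoped commutatorElement

/-- In a special p-group every central element has order dividing p. -/
theorem result {P : Type*} [Group P] [Finite P] {p : ℕ} [Fact p.Prime] (h : Cfsg.IsSpecial p P) (z : P) (hz : z ∈ Subgroup.center P) : z ^ p = 1 := by
  obtain ⟨hP, hF, hC⟩ := h
  rw [← hC, commutator_def, Subgroup.commutator_def] at hz
  have h2 : ∀ a b : P, ⁅a, b⁆ ∈ Subgroup.center P := fun a b =>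
    hC ▸ Subgroup.commutator_mem_commutator (Subgroup.mem_top a) (Subgroup.mem_top b)
  have key : z ^ p = 1 ∧ z ∈ Subgroup.center P := by
    induction hz using Subgroup.closure_induction with
    | mem w hw =>
      obtain ⟨a, -, b, -, rfl⟩ := hw
      refine ⟨?_, h2 a b⟩
      rw [← ClassTwoPow.commutator_pow_left (h2 a b)]
      have ha : a ^ p ∈ Subgroup.center P := hF ▸ ClassTwoPow.pow_mem_frattini hP a
      rw [commutatorElement_eq_one_iff_mul_comm]
      exact ((Subgroup.mem_center_iff.mp ha) b).symm
    | one => exact ⟨one_pow p, one_mem _⟩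
    | mul a b _ _ ha hb =>
      refine ⟨?_, mul_mem ha.2 hb.2⟩
      have hcomm : Commute a b := ((Subgroup.mem_center_iff.mp ha.2) b).symm
      rw [hcomm.mul_pow, ha.1, hb.1, one_mul]
    | inv a _ ha => exact ⟨by rw [inv_pow, ha.1, inv_one], inv_mem ha.2⟩
  exact key.1
end Cfsg.Agent.S0094
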