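import Cfsg.Statements.S0097
import Cfsg.Agent.Lib.ClassTwoPow
-- import your own Cfsg.Agent.* helpers here

set_option autoImplicit false
open Cfsg

namespace Cfsg.Agent.S0097

/-- For odd p and E extraspecial, the subgroup generated by the elements of order dividing p has exponent dividing p and index at most p. -/
theorem result {E : Type*} [Group E] [Finite E] {p : ℕ} [Fact p.Prime] (hp : p ≠ 2) (h : Cfsg.IsExtraspecial p E) : (Subgroup.closure {x : E | x ^ p = 1}).index ≤ p ∧ ∀ g ∈ Subgroup.closure {x : E | x ^ p = 1}, g ^ p = 1 := by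
  obtain ⟨⟨hP, hF, hC⟩, hcard⟩ := h
  have h2 : ⁅commutator E, (⊤ : Subgroup E)⁆ = ⊥ := by
    rw [Subgroup.commutator_eq_bot_iff_le_centralizer, hC, Subgroup.coe_top,
      Subgroup.centralizer_univ]
  refine ⟨?_, fun g hg => ClassTwoPow.pow_eq_one_of_mem_closure hp h2 hg⟩
  have hz : ∀ x : E, x ^ p ∈ Subgroup.center E := fun x => hF ▸ ClassTwoPow.pow_mem_frattini hP x
  have hzp : ∀ z ∈ Subgroup.center E, z ^ p = 1 := by
    intro z hz
    have := pow_card_eq_one' (x := (⟨z, hz⟩ : Subgroup.center E))
    rw [hcard] at this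
    exact congrArg Subtype.val this
  let f : E →* Subgroup.center E :=
    { toFun := fun x => ⟨x ^ p, hz x⟩
      map_one' := Subtype.ext (one_pow p)
      map_mul' := fun x y => Subtype.ext (by
        have hc := ClassTwoPow.commutatorElement_mem_center h2 y x
        exact ClassTwoPow.mul_pow_prime_central Fact.out hp hc (hzp _ hc)) }
  have hle : f.ker ≤ Subgroup.closure {x : E | x ^ p = 1} := fun x hx =>
    Subgroup.subset_closure (congrArg Subtype.val hx)
  calc (Subgroup.closure {x : E | x ^ p = 1}).index ≤ f.ker.index :=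
        Nat.le_of_dvd (Nat.pos_of_ne_zero Subgroup.index_ne_zero_of_finite) (Subgroup.index_dvd_of_le hle)
    _ = Nat.card f.range := Subgroup.index_ker f
    _ ≤ Nat.card (Subgroup.center E) :=
        Nat.card_le_card_of_injective _ (Subgroup.subtype_injective f.range)
    _ = p := hcard
end Cfsg.Agent.S0097
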