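import Cfsg.Statements.S0098
import Cfsg.Agent.Lib.PGroupsExtraspecial

set_option autoImplicit false
open Cfsg

namespace Cfsg.Agent.S0098

open Cfsg.Agent.PGroupsExtraspecial
open scoped commutatorElement

/-- For odd p, extraspecial p-groups of exponent p are determined up to isomorphism by their order. -/
theorem result {E₁ : Type*} {E₂ : Type*} [Group E₁] [Group E₂] [Finite E₁] [Finite E₂] {p : ℕ} [Fact p.Prime] (hp : p ≠ 2) (h₁ : Cfsg.IsExtraspecial p E₁) (h₂ : Cfsg.IsExtraspecial p E₂) (he₁ : Monoid.exponent E₁ = p) (he₂ : Monoid.exponent E₂ = p) (hc : Nat.card E₁ = Nat.card E₂) : Nonempty (E₁ ≃* E₂) := by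
  obtain ⟨z₁, hz₁, hc₁⟩ := extraspecial_exists_z h₁
  obtain ⟨z₂, hz₂, hc₂⟩ := extraspecial_exists_z h₂
  obtain ⟨n, -, hn⟩ := extraspecial_card h₁
  have d₁ := exists_decomp_exponent hz₁ (extraspecial_commInto h₁ hc₁ ⊤)
    (extraspecial_nondeg_top hc₁) (fun g _ => he₁ ▸ Monoid.pow_exponent_eq_one g) n
    (by rw [Subgroup.card_top, hn])
  have d₂ := exists_decomp_exponent hz₂ (extraspecial_commInto h₂ hc₂ ⊤)
    (extraspecial_nondeg_top hc₂) (fun g _ => he₂ ▸ Monoid.pow_exponent_eq_one g) n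
    (by rw [Subgroup.card_top, ← hc, hn])
  obtain ⟨Γ⟩ := d₁.iso hz₁ hz₂ d₂
  obtain ⟨e⟩ := Γ.nonempty_mulEquiv
  exact ⟨Subgroup.topEquiv.symm.trans (e.trans Subgroup.topEquiv)⟩

end Cfsg.Agent.S0098
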