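import Cfsg.Statements.S0099
import Cfsg.Agent.Lib.PGroupsExtraspecial

set_option autoImplicit false
open Cfsg

namespace Cfsg.Agent.S0099

open Cfsg.Agent.PGroupsExtraspecial
open scoped commutatorElement

/-- Among three extraspecial 2-groups of equal order, some two are isomorphic. -/
theorem result {E₁ : Type*} {E₂ : Type*} {E₃ : Type*} [Group E₁] [Group E₂] [Group E₃] [Finite E₁] [Finite E₂] [Finite E₃] (h₁ : Cfsg.IsExtraspecial 2 E₁) (h₂ : Cfsg.IsExtraspecial 2 E₂) (h₃ : Cfsg.IsExtraspecial 2 E₃) (h12 : Nat.card E₁ = Nat.card E₂) (h23 : Nat.card E₂ = Nat.card E₃) : Nonempty (E₁ ≃* E₂) ∨ Nonempty (E₂ ≃* E₃) ∨ Nonempty (E₁ ≃* E₃) := by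
  obtain ⟨z₁, hz₁, hc₁⟩ := extraspecial_exists_z h₁
  obtain ⟨z₂, hz₂, hc₂⟩ := extraspecial_exists_z h₂
  obtain ⟨z₃, hz₃, hc₃⟩ := extraspecial_exists_z h₃
  obtain ⟨n, -, hn⟩ := extraspecial_card h₁
  have d₁ := exists_decomp_two hz₁ (extraspecial_commInto h₁ hc₁ ⊤) (extraspecial_nondeg_top hc₁)
    (fun g _ => hc₁ ▸ special_pow_mem_center h₁.1 g) n (by rw [Subgroup.card_top, hn])
  have d₂ := exists_decomp_two hz₂ (extraspecial_commInto h₂ hc₂ ⊤) (extraspecial_nondeg_top hc₂)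
    (fun g _ => hc₂ ▸ special_pow_mem_center h₂.1 g) n (by rw [Subgroup.card_top, ← h12, hn])
  have d₃ := exists_decomp_two hz₃ (extraspecial_commInto h₃ hc₃ ⊤) (extraspecial_nondeg_top hc₃)
    (fun g _ => hc₃ ▸ special_pow_mem_center h₃.1 g) n (by rw [Subgroup.card_top, ← h23, ← h12, hn])
  rcases d₁ with d₁ | d₁ <;> rcases d₂ with d₂ | d₂ <;> rcases d₃ with d₃ | d₃ <;>
    first
    | (obtain ⟨Γ⟩ := d₁.iso hz₁ hz₂ d₂; obtain ⟨e⟩ := Γ.nonempty_mulEquiv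
       exact Or.inl ⟨Subgroup.topEquiv.symm.trans (e.trans Subgroup.topEquiv)⟩)
    | (obtain ⟨Γ⟩ := d₂.iso hz₂ hz₃ d₃; obtain ⟨e⟩ := Γ.nonempty_mulEquiv
       exact Or.inr (Or.inl ⟨Subgroup.topEquiv.symm.trans (e.trans Subgroup.topEquiv)⟩))
    | (obtain ⟨Γ⟩ := d₁.iso hz₁ hz₃ d₃; obtain ⟨e⟩ := Γ.nonempty_mulEquiv
       exact Or.inr (Or.inr ⟨Subgroup.topEquiv.symm.trans (e.trans Subgroup.topEquiv)⟩))

end Cfsg.Agent.S0099
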