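import Cfsg.Statements.S0101
import Cfsg.Agent.Lib.ClassTwoPow
import Cfsg.Agent.Lib.TransferPow
-- import your own Cfsg.Agent.* helpers here

set_option autoImplicit false
open Cfsg

namespace Cfsg.Agent.S0101

/-- In a perfect central extension, the kernel meets each Sylow p-subgroup P inside the Frattini subgroup of P. -/
theorem result {H : Type*} {G : Type*} [Group H] [Group G] [Finite H] (σ : H →* G) (hσ : Function.Surjective σ) (hc : σ.ker ≤ Subgroup.center H) (hH : commutator H = ⊤) {p : ℕ} [Fact p.Prime] (P : Sylow p H) : σ.ker ⊓ (P : Subgroup H) ≤ (frattini P).map (P : Subgroup H).subtype := by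
  rintro z ⟨hzk, hzP⟩
  refine ⟨⟨z, hzP⟩, ?_, rfl⟩
  simp only [frattini, Order.radical, SetLike.mem_coe, Subgroup.mem_iInf, Set.mem_setOf_eq]
  intro K hK
  obtain ⟨hn, hi⟩ := ClassTwoPow.coatom_normal_index P.isPGroup' hK
  have hcyc : IsCyclic ((P : Subgroup H) ⧸ K) := isCyclic_of_prime_card (p := p) hi
  let : CommGroup ((P : Subgroup H) ⧸ K) := hcyc.commGroup
  have h1 := TransferPow.central_pow_index_eq_one (QuotientGroup.mk' K) ⟨z, hzP⟩ (hc hzk)
    (hH ▸ Subgroup.mem_top z)
  have h2 : (QuotientGroup.mk' K) ⟨z, hzP⟩ ^ p = 1 := by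
    have := Subgroup.pow_index_mem K (⟨z, hzP⟩ : (P : Subgroup H))
    rw [hi] at this
    rw [← map_pow]
    exact (QuotientGroup.eq_one_iff _).mpr this
  have h3 := TransferPow.eq_one_of_pow_eq_one_of_coprime h2 h1
    ((Nat.Prime.coprime_iff_not_dvd Fact.out).mpr P.not_dvd_index)
  exact (QuotientGroup.eq_one_iff _).mp h3
end Cfsg.Agent.S0101
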