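import Cfsg.Statements.S0104
import Mathlib
-- import your own Cfsg.Agent.* helpers here

set_option autoImplicit false
open Cfsg

namespace Cfsg.Agent.S0104

/-- A subgroup Z of a Sylow p-subgroup P that is normalized by N_G(P) is weakly closed in P exactly when it is normal in every Sylow p-subgroup containing it. -/
theorem result {G : Type*} [Group G] [Finite G] {p : ℕ} [Fact p.Prime] (P : Sylow p G) (Z : Subgroup G) (hZP : Z ≤ (P : Subgroup G)) (hZN : Subgroup.normalizer (P : Set G) ≤ Subgroup.normalizer (Z : Set G)) : Cfsg.IsWeaklyClosed Z P ↔ ∀ R : Sylow p G, Z ≤ (R : Subgroup G) → (R : Subgroup G) ≤ Subgroup.normalizer (Z : Set G) := by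
  have hPN : (P : Subgroup G) ≤ Subgroup.normalizer (Z : Set G) :=
    le_trans Subgroup.le_normalizer hZN
  constructor
  · rintro ⟨-, hw⟩ R hR
    obtain ⟨g, rfl⟩ := MulAction.exists_smul_eq G P R
    have hg : ∀ z ∈ Z, g⁻¹ * z * g ∈ (P : Subgroup G) := by
      intro z hz
      have h1 := hR hz
      rw [Sylow.coe_subgroup_smul] at h1
      obtain ⟨w, hw', hwz⟩ := h1
      simp only [MulDistribMulAction.toMonoidEnd_apply] at hwz
      have : w = g⁻¹ * z * g := by
        rw [← hwz]; simp [MulAut.smul_def]; group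
      exact this ▸ hw'
    have hle : Z.map (MulAut.conj g⁻¹).toMonoidHom ≤ (P : Subgroup G) := by
      rintro _ ⟨z, hz, rfl⟩
      simpa using hg z hz
    have heq := hw _ hle
    have hgN : g⁻¹ ∈ Subgroup.normalizer (Z : Set G) := by
      rw [Subgroup.mem_normalizer_iff]
      intro z
      constructor
      · intro hz
        rw [← heq]
        exact ⟨z, hz, by simp⟩
      · intro hz
        rw [← heq] at hz
        obtain ⟨w, hw', hwz⟩ := hz
        have : w = z := (MulAut.conj g⁻¹).injective (by simpa using hwz)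
        exact this ▸ hw'
    rw [Sylow.coe_subgroup_smul]
    rintro _ ⟨w, hw', rfl⟩
    simp only [MulDistribMulAction.toMonoidEnd_apply, MulAut.smul_def, MulAut.conj_apply]
    have hgN' : g ∈ Subgroup.normalizer (Z : Set G) := inv_mem_iff.mp hgN
    exact mul_mem (mul_mem hgN' (hPN hw')) hgN
  · intro h
    refine ⟨hZP, fun u hu => ?_⟩
    set N := Subgroup.normalizer (Z : Set G) with hNdef
    have hR : Z ≤ ((u⁻¹ • P : Sylow p G) : Subgroup G) := by
      intro z hz
      rw [Sylow.coe_subgroup_smul]
      refine ⟨u * z * u⁻¹, hu ⟨z, hz, rfl⟩, ?_⟩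
      simp [MulAut.smul_def]
      group
    have hRN := h _ hR
    obtain ⟨k, hk⟩ := MulAction.exists_smul_eq N ((u⁻¹ • P).subtype hRN) (P.subtype hPN)
    simp_rw [Sylow.smul_subtype, Subgroup.smul_def, smul_smul] at hk
    have hk' := Sylow.smul_eq_iff_mem_normalizer.mp (Sylow.subtype_injective hk)
    have huN : u ∈ N := by
      have h1 : (k : G) * u⁻¹ ∈ N := hZN hk'
      have h2 := mul_mem (inv_mem h1) k.2
      simpa [mul_assoc] using h2
    ext z
    rw [hNdef, Subgroup.mem_normalizer_iff] at huN
    constructor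
    · rintro ⟨w, hw, rfl⟩
      simpa using (huN w).mp hw
    · intro hz
      refine ⟨u⁻¹ * z * u, ?_, by simp; group⟩
      exact (huN _).mpr (by simpa [mul_assoc] using hz)
end Cfsg.Agent.S0104
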