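import Cfsg.Statements.S0105
import Mathlib
import Cfsg.Agent.Lib.FocalControl
import Cfsg.Agent.Lib.TransferAbelianNormal
import Cfsg.Agent.Lib.TransferPow
-- import your own Cfsg.Agent.* helpers here

set_option autoImplicit false
open Cfsg

namespace Cfsg.Agent.S0105

open scoped commutatorElement

/-- With an abelian Sylow p-subgroup P, some quotient of G is isomorphic to the part of P central in N_G(P). -/
theorem result {G : Type*} [Group G] [Finite G] {p : ℕ} [Fact p.Prime] (P : Sylow p G) (hP : IsMulCommutative P) : ∃ (N : Subgroup G) (hN : N.Normal), Nonempty (G ⧸ N ≃* ((P : Subgroup G) ⊓ Subgroup.centralizer (Subgroup.normalizer (P : Set G) : Set G) : Subgroup G)) := by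
  open scoped IsMulCommutative in
  set N := Subgroup.normalizer (P : Set G) with hNdef
  have hPN : (P : Subgroup G) ≤ N := Subgroup.le_normalizer
  set C : Subgroup G := (P : Subgroup G) ⊓ Subgroup.centralizer (N : Set G) with hC
  set A : Subgroup N := (P : Subgroup G).subgroupOf N with hA
  have hAn : A.Normal := Subgroup.normal_in_normalizer
  have hAc : IsMulCommutative A := ⟨⟨fun a b => Subtype.ext (Subtype.ext (by
    simpa using congrArg Subtype.val
      (hP.is_comm.comm (⟨((a : N) : G), a.2⟩ : (P : Subgroup G)) ⟨((b : N) : G), b.2⟩)))⟩⟩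
  have hAi : ¬ p ∣ A.index := fun h =>
    P.not_dvd_index (h.trans (Subgroup.relIndex_dvd_index_of_le hPN))
  -- elements of `[A, N]` are in the focal subgroup
  have hfoc1 : ∀ z ∈ ⁅A, (⊤ : Subgroup N)⁆, (z : G) ∈ (P : Subgroup G).focalSubgroup := by
    intro z hz
    rw [Subgroup.commutator_def] at hz
    induction hz using Subgroup.closure_induction with
    | mem w hw =>
      obtain ⟨a, ha, u, -, rfl⟩ := hw
      refine Subgroup.subset_closure ⟨?_, (a : G), ha, (u : G), ?_⟩
      · have : ⁅a, u⁆ ∈ A := by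
          rw [commutatorElement_def, mul_assoc, mul_assoc, ← mul_assoc u]
          exact mul_mem ha (hAn.conj_mem _ (inv_mem ha) u)
        exact this
      · simp [commutatorElement_def]
    | one => exact one_mem _
    | mul a b _ _ ha hb => exact mul_mem ha hb
    | inv a _ ha => exact inv_mem ha
  have hctrl : ∀ x ∈ (P : Subgroup G), ∀ u : G, u * x * u⁻¹ ∈ (P : Subgroup G) →
      ∃ n ∈ N, n * x * n⁻¹ = u * x * u⁻¹ := by
    intro x hx u hu
    obtain ⟨n, hn, hnx⟩ := P.conj_eq_normalizer_conj_of_mem x u⁻¹ hx (by rw [inv_inv]; exact hu)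
    rw [inv_inv] at hnx
    exact ⟨n⁻¹, inv_mem hn, by rw [inv_inv]; exact hnx.symm⟩
  have hfoc2 : ∀ z ∈ (P : Subgroup G).focalSubgroup, ∃ h : z ∈ N,
      (⟨z, h⟩ : N) ∈ commutator N := by
    intro z hz
    have h1 := (FocalControl.focalSubgroup_le_commutator_of_control _ _ hctrl).trans
      (Subgroup.commutator_mono hPN le_rfl) hz
    rw [← Subgroup.map_subtype_commutator] at h1
    obtain ⟨w, hw, rfl⟩ := h1
    exact ⟨w.2, hw⟩
  let ι : C →* (P : Subgroup G) ⧸ (P : Subgroup G).focalSubgroupOf :=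
    (QuotientGroup.mk' _).comp (Subgroup.inclusion inf_le_left)
  have hinj : Function.Injective ι := by
    rw [injective_iff_map_eq_one]
    intro c hc
    have h1 : (c : G) ∈ (P : Subgroup G).focalSubgroup := Subgroup.mem_subgroupOf.mp
      ((QuotientGroup.eq_one_iff (Subgroup.inclusion inf_le_left c)).mp hc)
    obtain ⟨hN', hd⟩ := hfoc2 _ h1
    have hcZ : (⟨(c : G), hN'⟩ : N) ∈ Subgroup.center N := by
      rw [Subgroup.mem_center_iff]
      intro g
      exact Subtype.ext ((Subgroup.mem_centralizer_iff.mp c.2.2) g g.2)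
    have h2 := TransferPow.eq_one_of_mem_center_commutator (H := A) (x := ⟨(c : G), hN'⟩) c.2.1
      hcZ hd (by
        obtain ⟨k, hk⟩ := IsPGroup.iff_orderOf.mp P.isPGroup' ⟨(c : G), c.2.1⟩
        rw [Subgroup.orderOf_mk] at hk ⊢
        rw [hk]
        exact (Nat.Coprime.pow_left k ((Nat.Prime.coprime_iff_not_dvd Fact.out).mpr hAi)).symm)
    exact Subtype.ext (congrArg (fun t : N => (t : G)) h2)
  have hsurj : Function.Surjective ι := by
    intro q
    have hb := ((P.2.to_quotient (P : Subgroup G).focalSubgroupOf).powEquiv' hAi).surjective q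
    obtain ⟨y, hy⟩ := hb
    obtain ⟨x, rfl⟩ := QuotientGroup.mk_surjective y
    obtain ⟨c, ⟨hcA, hcZ⟩, hc⟩ :=
      TransferAbelianNormal.exists_central_congr A ⟨(x : G), hPN x.2⟩ x.2
    refine ⟨⟨(c : G), hcA, ?_⟩, ?_⟩
    · show (c : G) ∈ Subgroup.centralizer (N : Set G)
      rw [Subgroup.mem_centralizer_iff]
      intro g hg
      exact congrArg Subtype.val ((Subgroup.mem_center_iff.mp hcZ) ⟨g, hg⟩)
    · rw [← hy]
      symm
      show (x : (P : Subgroup G) ⧸ (P : Subgroup G).focalSubgroupOf) ^ A.index = _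
      rw [← QuotientGroup.mk_pow]
      apply QuotientGroup.eq.mpr
      have := hfoc1 _ hc
      rw [Subgroup.focalSubgroupOf_def, Subgroup.mem_subgroupOf]
      simpa using this
  exact ⟨(P : Subgroup G).transferFocal.ker, inferInstance,
    ⟨(Subgroup.transferFocal.quotientKerMulEquivQuotientFocalSubroupOf P).trans
      (MulEquiv.ofBijective ι ⟨hinj, hsurj⟩).symm⟩⟩
end Cfsg.Agent.S0105
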