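import Cfsg.Statements.S0107
import Cfsg.Agent.Lib.TransferThompson

set_option autoImplicit false
open Cfsg

namespace Cfsg.Agent.S0107

/-- A finite group with no nontrivial 2-group quotient and dihedral Sylow 2-subgroups of order at least 8 has a single class of involutions. -/
theorem result {G : Type*} [Group G] [Finite G] (T : Sylow 2 G) (n : ℕ) (hn : 2 ≤ n) (hT : Nonempty ((T : Subgroup G) ≃* DihedralGroup (2 ^ n))) (hO : Cfsg.pResidual 2 G = ⊤) (x y : G) (hx : orderOf x = 2) (hy : orderOf y = 2) : ∃ g : G, g * x * g⁻¹ = y := by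
  classical
  obtain ⟨e⟩ := hT
  let C : Subgroup (DihedralGroup (2 ^ n)) := Subgroup.zpowers (DihedralGroup.r 1)
  let Q : Subgroup G := (C.map e.symm.toMonoidHom).map (T : Subgroup G).subtype
  have hmemC : ∀ d : DihedralGroup (2 ^ n), d ∈ C ↔ ∃ i, d = DihedralGroup.r i := by
    intro d
    constructor
    · rintro ⟨i, rfl⟩
      exact ⟨_, DihedralGroup.r_one_zpow i⟩
    · rintro ⟨i, rfl⟩
      exact ⟨(ZMod.cast i : ℤ), by simp⟩
  have hQi : Q.relIndex (T : Subgroup G) = 2 := by
    have hCi : C.index = 2 := by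
      have h1 := C.card_mul_index
      rw [Nat.card_zpowers, DihedralGroup.orderOf_r_one, DihedralGroup.nat_card, mul_comm 2] at h1
      exact mul_left_cancel₀ (pow_ne_zero n two_ne_zero) h1
    rw [Subgroup.relIndex, Subgroup.subgroupOf,
      Subgroup.comap_map_eq_self_of_injective (T : Subgroup G).subtype_injective]
    exact (Subgroup.index_map_equiv C e.symm).trans hCi
  haveI : NeZero (2 ^ n) := ⟨pow_ne_zero n two_ne_zero⟩
  -- any two involutions of `Q` coincide
  have huniq : ∀ a ∈ Q, ∀ b ∈ Q, orderOf a = 2 → orderOf b = 2 → a = b := by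
    intro a ha b hb ha2 hb2
    have hcyc : IsCyclic Q := by
      exact (Subgroup.equivMapOfInjective _ _ (T : Subgroup G).subtype_injective).isCyclic.mp
        ((Subgroup.equivMapOfInjective C e.symm.toMonoidHom e.symm.injective).isCyclic.mp
          inferInstance)
    haveI := hcyc
    haveI := Fintype.ofFinite Q
    have hcard : (Finset.univ.filter fun x : Q => x ^ 2 = 1).card ≤ 2 :=
      IsCyclic.card_pow_eq_one_le two_pos
    by_contra hne
    have h2 : ∀ c : G, orderOf c = 2 → c ^ 2 = 1 := fun c hc => hc ▸ pow_orderOf_eq_one c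
    have hsub : ({⟨a, ha⟩, ⟨b, hb⟩, 1} : Finset Q) ⊆ Finset.univ.filter fun x : Q => x ^ 2 = 1 := by
      intro x hx
      simp only [Finset.mem_insert, Finset.mem_singleton] at hx
      refine Finset.mem_filter.mpr ⟨Finset.mem_univ _, Subtype.ext ?_⟩
      rcases hx with rfl | rfl | rfl
      · simpa using h2 a ha2
      · simpa using h2 b hb2
      · simp
    have := (Finset.card_le_card hsub).trans hcard
    rw [Finset.card_insert_of_notMem, Finset.card_pair] at this
    · omega
    · intro h
      have : b = 1 := congrArg Subtype.val h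
      rw [this, orderOf_one] at hb2
      omega
    · simp only [Finset.mem_insert, Finset.mem_singleton, Subtype.ext_iff, Subgroup.coe_one]
      rintro (h | h)
      · exact hne h
      · rw [h, orderOf_one] at ha2
        omega
  have hord : ∀ (g w : G), orderOf (g * w * g⁻¹) = orderOf w := fun g w =>
    MulEquiv.orderOf_eq (MulAut.conj g) w
  -- every involution has a conjugate in `Q`
  have hQ : ∀ w : G, orderOf w = 2 → ∃ g : G, g * w * g⁻¹ ∈ Q := by
    intro w hw
    obtain ⟨R, hR⟩ := (IsPGroup.of_card (n := 1) (by rw [Nat.card_zpowers, hw, pow_one]) :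
      IsPGroup 2 (Subgroup.zpowers w)).exists_le_sylow
    obtain ⟨a, ha⟩ := MulAction.exists_smul_eq G R T
    have haT : a * w * a⁻¹ ∈ (T : Subgroup G) := by
      rw [← ha]
      exact ⟨w, hR (Subgroup.mem_zpowers w), rfl⟩
    by_contra hno
    push Not at hno
    obtain ⟨M, hM, hMi, -⟩ := TransferThompson.thompson_transfer T Q
      (Subgroup.map_subtype_le _) hQi ((hord a w).trans hw) haT (fun g hg => hno (g * a) (by
        have e : g * a * w * (g * a)⁻¹ = g * (a * w * a⁻¹) * g⁻¹ := by group
        rw [e]; exact hg))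
    haveI := hM
    exact TransferThompson.pResidual_ne_top_of_index hMi hO
  obtain ⟨a, ha⟩ := hQ x hx
  obtain ⟨b, hb⟩ := hQ y hy
  have hab := huniq _ ha _ hb ((hord a x).trans hx) ((hord b y).trans hy)
  refine ⟨b⁻¹ * a, ?_⟩
  calc b⁻¹ * a * x * (b⁻¹ * a)⁻¹ = b⁻¹ * (a * x * a⁻¹) * b := by group
    _ = y := by rw [hab]; group

end Cfsg.Agent.S0107
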