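import Cfsg.Statements.S0109
import Cfsg.Agent.Lib.GlaubermanFactor
import Cfsg.Agent.Lib.GlaubermanQuotient
import Cfsg.Agent.Lib.QuadraticMain
import Cfsg.Agent.Lib.HallSolvable
-- import your own Cfsg.Agent.* helpers here

set_option autoImplicit false
open Cfsg

namespace Cfsg.Agent.S0109

universe u

theorem stable_of_solvable {p : ℕ} [Fact p.Prime] (hp : p ≠ 2) :
    ∀ (Y : Type u) [Group Y] [Finite Y],
      (Group.IsSolvable Y ∧ (p = 3 → ∀ T : Sylow 2 Y, IsMulCommutative T)) →
      ∀ (P : Subgroup Y) [P.Normal], IsPGroup p P → Cfsg.IsPStableOn p P := by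
  refine GlaubermanStable.isPStableOn_of_elementary
    (fun Y _ => Group.IsSolvable Y ∧ (p = 3 → ∀ T : Sylow 2 Y, IsMulCommutative T))
    (fun Y _ _ N _ _ h => ⟨haveI := h.1; inferInstance, fun h3 =>
      QuadraticMain.abelian_sylow_of_surjective (QuotientGroup.mk'_surjective N) (h.2 h3)⟩) ?_
  intro Y _ _ h V _ hV
  haveI := h.1
  by_cases h3 : p = 3
  · exact QuadraticMain.isPStableOn_of_abelian hp (h.2 h3) V hV
  · refine QuadraticMain.isPStableOn_of_psolvable ?_ (HallSolvable.isPSolvable_of_solvable p) V hV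
    have h2 := (Fact.out : p.Prime).two_le
    by_contra hlt
    have h4 : p = 4 := by omega
    have hpr := (Fact.out : p.Prime)
    rw [h4] at hpr
    exact absurd hpr (by decide)

/-- The Thompson factorization Theorem for solvable groups states that, with p odd (and abelian Sylow 2-subgroups when p = 3) and no nontrivial normal subgroup of order prime to p, every element of G is a product of an element normalizing J(P) and an element centralizing the elements of order dividing p in the centre of P. -/
theorem result {G : Type*} [Group G] [Finite G] {p : ℕ} [Fact p.Prime] (hp : p ≠ 2) (hs : Group.IsSolvable G) (h3 : p = 3 → ∀ T : Sylow 2 G, IsMulCommutative T) (hF : ∀ N : Subgroup G, N.Normal → Nat.Coprime (Nat.card N) p → N = ⊥) (P : Sylow p G) (g : G) : ∃ a ∈ Subgroup.normalizer (Cfsg.thompsonSubgroupOf p (P : Subgroup G) : Set G), ∃ c ∈ Subgroup.centralizer {x : G | x ∈ (P : Subgroup G) ∧ (∀ y ∈ (P : Subgroup G), x * y = y * x) ∧ x ^ p = 1}, g = a * c := by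
  haveI := hs
  have h0 : Cfsg.pPrimeCore p G = ⊥ :=
    hF _ (HallCore.pPrimeCore_normal p G) (HallCore.coprime_card_pPrimeCore p G)
  rw [GlaubermanZJ.thompsonSubgroupOf_eq]
  exact GlaubermanFactor.thompson_factor hp
    (fun B _ hB => stable_of_solvable hp G ⟨hs, h3⟩ B hB)
    (HallSolvable.centralizer_pCore_le (HallSolvable.isPSolvable_of_solvable p) h0) P g
end Cfsg.Agent.S0109
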