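import Cfsg.Statements.S0110
import Cfsg.Agent.Lib.PGroupsExtraspecial

set_option autoImplicit false
open Cfsg

namespace Cfsg.Agent.S0110

open Cfsg.Agent.PGroupsExtraspecial
open scoped commutatorElement

/-- In a p-group G, an extraspecial subgroup E with [G, E] ≤ Z(E) satisfies G = E C_G(E). -/
theorem result {G : Type*} [Group G] [Finite G] {p : ℕ} [Fact p.Prime] (hG : IsPGroup p G) (E : Subgroup G) (hE : Cfsg.IsExtraspecial p E) (h : ⁅(⊤ : Subgroup G), E⁆ ≤ E ⊓ Subgroup.centralizer (E : Set G)) : E ⊔ Subgroup.centralizer (E : Set G) = ⊤ := by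
  obtain ⟨z, hz, hzc⟩ := extraspecial_exists_z hE
  have hZ : E ⊓ Subgroup.centralizer (E : Set G) = Subgroup.zpowers (z : G) := by
    rw [show (z : G) = E.subtype z from rfl, ← MonoidHom.map_zpowers, hzc]
    ext g
    simp only [Subgroup.mem_inf, Subgroup.mem_map, Subgroup.mem_center_iff,
      Subgroup.mem_centralizer_iff, Subgroup.coe_subtype, SetLike.mem_coe]
    constructor
    · rintro ⟨hg, hc⟩
      exact ⟨⟨g, hg⟩, fun a => Subtype.ext (hc a a.2), rfl⟩
    · rintro ⟨a, ha, rfl⟩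
      exact ⟨a.2, fun b hb => congrArg Subtype.val (ha ⟨b, hb⟩)⟩
  haveI : (Subgroup.zpowers (z : G)).Normal := ⟨fun n hn g => by
    have hgn : ⁅g, n⁆ ∈ Subgroup.zpowers (z : G) := hZ ▸ h (Subgroup.commutator_mem_commutator
      (Subgroup.mem_top g) ((hZ.symm ▸ hn : n ∈ E ⊓ Subgroup.centralizer (E : Set G)).1))
    have := mul_mem hgn hn
    simpa [commutatorElement_def, mul_assoc] using this⟩
  have ho : orderOf (z : G) = p := by rw [Subgroup.orderOf_coe]; exact hz.2
  have hzG : IsCentralPrime p (z : G) := ⟨Cfsg.Agent.PGroupsBasic.le_center_of_card_eq_prime hG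
    (by rw [Nat.card_zpowers, ho]) (Subgroup.mem_zpowers _), ho⟩
  refine sup_centralizer_eq_top hzG (fun g e he => ?_) ⟨hZ ▸ inf_le_left, hZ.le⟩
  exact hZ ▸ h (Subgroup.commutator_mem_commutator (Subgroup.mem_top g) he)

end Cfsg.Agent.S0110
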