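import Cfsg.Statements.S0119
import Cfsg.Agent.Lib.PGroupsBasic
-- import your own Cfsg.Agent.* helpers here

set_option autoImplicit false
open Cfsg

namespace Cfsg.Agent.S0119

open scoped commutatorElement

/-- Elements fixed by a coprime group of automorphisms `A` with `G = [G, A]`. -/
theorem mem_commutator_of_fixed {G : Type*} [Group G] [Finite G] {p : ℕ} [Fact p.Prime]
    (hG : IsPGroup p G) (A : Subgroup (MulAut G)) (hA : Nat.Coprime (Nat.card A) p)
    (hGA : Subgroup.closure {x : G | ∃ g : G, ∃ a ∈ A, x = g⁻¹ * a g} = ⊤) {x : G}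
    (hx : ∀ a ∈ A, a x = x) : x ∈ commutator G := by
  classical
  have : Finite (MulAut G) := Finite.of_injective _ DFunLike.coe_injective
  have : Fintype A := Fintype.ofFinite _
  let N : G →* Abelianization G :=
    { toFun := fun g => ∏ a : A, Abelianization.of ((a : MulAut G) g)
      map_one' := by simp
      map_mul' := fun g h => by simp [Finset.prod_mul_distrib] }
  have hinv : ∀ (b : A) (g : G), N ((b : MulAut G) g) = N g := fun b g =>
    Fintype.prod_equiv (Equiv.mulRight b) _ _ fun a => by simp
  have hN : N = 1 := by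
    refine MonoidHom.eq_of_eqOn_dense hGA ?_
    rintro _ ⟨g, a, ha, rfl⟩
    rw [map_mul, map_inv, hinv ⟨a, ha⟩, inv_mul_cancel, MonoidHom.one_apply]
  have h1 : Abelianization.of x ^ Fintype.card A = 1 := by
    have h2 : N x = Abelianization.of x ^ Fintype.card A := by
      show ∏ a : A, Abelianization.of ((a : MulAut G) x) = _
      rw [Finset.prod_congr rfl fun a _ => by rw [hx a a.2], Finset.prod_const, Finset.card_univ]
    rw [← h2, hN, MonoidHom.one_apply]
  obtain ⟨k, hk⟩ := (hG.to_quotient (commutator G)) (Abelianization.of x)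
  rw [← Nat.card_eq_fintype_card] at h1
  have h3 := pow_gcd_eq_one.mpr ⟨h1, hk⟩
  rw [(hA.pow_right k).gcd_eq_one, pow_one] at h3
  rwa [← Abelianization.ker_of G, MonoidHom.mem_ker]

/-- Characteristic abelian subgroups are central. -/
theorem char_abelian_central {G : Type*} [Group G] (A : Subgroup (MulAut G))
    (hGA : Subgroup.closure {x : G | ∃ g : G, ∃ a ∈ A, x = g⁻¹ * a g} = ⊤)
    (hchar : ∀ H : Subgroup G, H.Characteristic → IsMulCommutative H → ∀ a ∈ A, ∀ h ∈ H, a h = h)
    (H : Subgroup G) (hH : H.Characteristic) (hc : IsMulCommutative H) :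
    H ≤ Subgroup.center G := by
  intro h hh
  rw [Subgroup.mem_center_iff]
  intro g
  have hle : Subgroup.closure {x : G | ∃ g : G, ∃ a ∈ A, x = g⁻¹ * a g} ≤
      Subgroup.centralizer {h} := by
    rw [Subgroup.closure_le]
    rintro _ ⟨g, a, ha, rfl⟩
    rw [SetLike.mem_coe, Subgroup.mem_centralizer_singleton_iff]
    have h1 : g * h * g⁻¹ ∈ H := (inferInstance : H.Normal).conj_mem h hh g
    have h2 := hchar H hH hc a ha _ h1
    rw [map_mul, map_mul, map_inv, hchar H hH hc a ha h hh] at h2
    calc g⁻¹ * a g * h = g⁻¹ * (a g * h * (a g)⁻¹) * a g := by group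
      _ = g⁻¹ * (g * h * g⁻¹) * a g := by rw [h2]
      _ = h * (g⁻¹ * a g) := by group
  exact Subgroup.mem_centralizer_singleton_iff.mp (hle (hGA ▸ Subgroup.mem_top g))

/-- Class at most two. -/
theorem commutator_le_center {G : Type*} [Group G] [Group.IsNilpotent G]
    (hc : ∀ H : Subgroup G, H.Characteristic → IsMulCommutative H → H ≤ Subgroup.center G) :
    commutator G ≤ Subgroup.center G := by
  have key : ∀ n, (⊤ : Subgroup G).lowerCentralSeries (n + 2) = ⊥ →
      (⊤ : Subgroup G).lowerCentralSeries 2 = ⊥ := by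
    intro n
    induction n with
    | zero => exact id
    | succ n ih =>
      intro h
      apply ih
      set L := (⊤ : Subgroup G).lowerCentralSeries (n + 1) with hL
      have h1 : ⁅⁅L, (⊤ : Subgroup G)⁆, (⊤ : Subgroup G)⁆ = ⊥ := h
      have h2 : ⁅⁅(⊤ : Subgroup G), (⊤ : Subgroup G)⁆, L⁆ = ⊥ :=
        Subgroup.commutator_commutator_eq_bot_of_rotate
          (by rw [Subgroup.commutator_comm (⊤ : Subgroup G) L]; exact h1) h1
      have hle : L ≤ commutator G := by
        rw [hL, ← Subgroup.top_lowerCentralSeries_one (G := G)]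
        exact Subgroup.lowerCentralSeries_antitone _ (by omega)
      have hab : IsMulCommutative L := PGroupsBasic.isMulCommutative_of_le_centralizer
        (hle.trans ((Subgroup.commutator_eq_bot_iff_le_centralizer).mp h2))
      have h3 := hc L inferInstance hab
      show ⁅L, (⊤ : Subgroup G)⁆ = ⊥
      rw [Subgroup.commutator_eq_bot_iff_le_centralizer, Subgroup.coe_top,
        Subgroup.centralizer_univ]
      exact h3
  obtain ⟨n, hn⟩ := Subgroup.nilpotent_iff_lowerCentralSeries.mp ‹Group.IsNilpotent G›
  have h2 : (⊤ : Subgroup G).lowerCentralSeries 2 = ⊥ := key n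
    (le_bot_iff.mp (hn ▸ Subgroup.lowerCentralSeries_antitone _ (by omega)))
  rw [show (2 : ℕ) = 1 + 1 from rfl, Subgroup.lowerCentralSeries_succ,
    Subgroup.top_lowerCentralSeries_one, Subgroup.commutator_eq_bot_iff_le_centralizer,
    Subgroup.coe_top, Subgroup.centralizer_univ] at h2
  exact h2

/-- The derived subgroup has exponent `p`. -/
theorem commutator_pow_eq_one {G : Type*} [Group G] [Finite G] {p : ℕ} [Fact p.Prime]
    (hG : IsPGroup p G)
    (hc : ∀ H : Subgroup G, H.Characteristic → IsMulCommutative H → H ≤ Subgroup.center G)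
    (h2 : commutator G ≤ Subgroup.center G) (x y : G) : ⁅x, y⁆ ^ p = 1 := by
  have hcz : ∀ a b : G, ⁅a, b⁆ ∈ Subgroup.center G := fun a b =>
    h2 (Subgroup.commutator_mem_commutator (Subgroup.mem_top a) (Subgroup.mem_top b))
  have key : ∀ k, 1 ≤ k → (∀ a b : G, ⁅a, b⁆ ^ p ^ k = 1) → ∀ a b : G, ⁅a, b⁆ ^ p = 1 := by
    intro k hk
    induction k, hk using Nat.le_induction with
    | base => simp
    | succ k hk ih =>
      intro h
      apply ih
      set K := Subgroup.closure (Set.range fun x : G => x ^ p ^ k) with hK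
      have hab : IsMulCommutative K := by
        refine Subgroup.isMulCommutative_closure ?_
        rintro _ ⟨a, rfl⟩ _ ⟨b, rfl⟩
        rw [← commutatorElement_eq_one_iff_mul_comm, PGroupsBasic.commutatorElement_pow_left (hcz _ _),
          PGroupsBasic.commutatorElement_pow_right (hcz _ _), ← pow_mul, ← pow_add]
        obtain ⟨j, hj⟩ := Nat.exists_eq_add_of_le (show k + 1 ≤ k + k by omega)
        rw [hj, pow_add, pow_mul, h, one_pow]
      have hchar : K.Characteristic := by
        refine Subgroup.characteristic_iff_le_comap.mpr fun φ => (Subgroup.closure_le _).mpr ?_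
        rintro _ ⟨a, rfl⟩
        exact Subgroup.subset_closure ⟨φ a, by simp⟩
      have h3 := hc K hchar hab
      intro a b
      rw [← PGroupsBasic.commutatorElement_pow_left (hcz a b), commutatorElement_eq_one_iff_mul_comm]
      exact (Subgroup.mem_center_iff.mp (h3 (Subgroup.subset_closure ⟨a, rfl⟩)) b).symm
  obtain ⟨k, hk⟩ := isPGroup_iff_exponent_dvd_pow.mp hG
  refine key (k + 1) (by omega) (fun a b => ?_) x y
  exact orderOf_dvd_iff_pow_eq_one.mp
    ((Monoid.order_dvd_exponent _).trans (hk.trans (pow_dvd_pow p k.le_succ)))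

/-- If a p'-group A of automorphisms of a p-group G satisfies G = [G, A] and acts trivially on every characteristic abelian subgroup, then G is special with centre equal to the fixed points of A. -/
theorem result {G : Type*} [Group G] [Finite G] {p : ℕ} [Fact p.Prime] (hG : IsPGroup p G) (A : Subgroup (MulAut G)) (hA : Nat.Coprime (Nat.card A) p) (hGA : Subgroup.closure {x : G | ∃ g : G, ∃ a ∈ A, x = g⁻¹ * a g} = ⊤) (hchar : ∀ H : Subgroup G, H.Characteristic → IsMulCommutative H → ∀ a ∈ A, ∀ h ∈ H, a h = h) : Cfsg.IsSpecial p G ∧ (∀ g : G, (g ∈ Subgroup.center G ↔ ∀ a ∈ A, a g = g)) := by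
  have : Group.IsNilpotent G := hG.isNilpotent
  have hcent := char_abelian_central A hGA hchar
  have h2 := commutator_le_center hcent
  have hfix : ∀ z ∈ Subgroup.center G, ∀ a ∈ A, a z = z := fun z hz a ha =>
    hchar (Subgroup.center G) inferInstance inferInstance a ha z hz
  have hmem : ∀ g : G, (∀ a ∈ A, a g = g) → g ∈ commutator G :=
    fun g hg => mem_commutator_of_fixed hG A hA hGA hg
  have hZ : commutator G = Subgroup.center G :=
    le_antisymm h2 fun z hz => hmem z (hfix z hz)
  refine ⟨⟨hG, le_antisymm ?_ ?_, hZ⟩, fun g => ⟨fun hg => hfix g hg, fun hg => h2 (hmem g hg)⟩⟩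
  · refine PGroupsBasic.frattini_le_of_elementary_quotient (p := p) hZ.le fun x => ?_
    rw [Subgroup.mem_center_iff]
    intro y
    have h3 : ⁅x ^ p, y⁆ = 1 := by
      rw [PGroupsBasic.commutatorElement_pow_left
        (h2 (Subgroup.commutator_mem_commutator (Subgroup.mem_top x) (Subgroup.mem_top y)))]
      exact commutator_pow_eq_one hG hcent h2 x y
    exact (commutatorElement_eq_one_iff_mul_comm.mp h3).symm
  · exact hZ.ge.trans (PGroupsBasic.commutator_le_frattini hG)
end Cfsg.Agent.S0119
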