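import Cfsg.Statements.S0120
import Mathlib
import Cfsg.Agent.Lib.OmegaCoprime

set_option autoImplicit false
open Cfsg

namespace Cfsg.Agent.S0120

/-- For odd p, a p'-automorphism of a p-group acting trivially on the elements of order dividing p is trivial. -/
theorem result {G : Type*} [Group G] [Finite G] {p : ℕ} [Fact p.Prime] (hp : p ≠ 2) (hG : IsPGroup p G) (a : MulAut G) (ha : Nat.Coprime (orderOf a) p) (h : ∀ x : G, x ^ p = 1 → a x = x) : a = 1 := by
  let φ : Subgroup.zpowers a →* MulAut G := (Subgroup.zpowers a).subtype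
  have : Finite (G ⋊[φ] Subgroup.zpowers a) := Finite.of_equiv _ SemidirectProduct.equivProd.symm
  let i : G →* G ⋊[φ] Subgroup.zpowers a := SemidirectProduct.inl
  let a' : G ⋊[φ] Subgroup.zpowers a := SemidirectProduct.inr ⟨a, Subgroup.mem_zpowers a⟩
  have hconj : ∀ g : G, a' * i g * a'⁻¹ = i (a g) := fun g =>
    ((SemidirectProduct.inl_aut (φ := φ) ⟨a, Subgroup.mem_zpowers a⟩ g).trans (by rw [map_inv])).symm
  have hord : (orderOf a').Coprime p := by
    rwa [orderOf_injective SemidirectProduct.inr SemidirectProduct.inr_injective, Subgroup.orderOf_mk]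
  have key := Cfsg.Agent.OmegaCoprime.commute_of_forall_pow_eq_one hp hord i.range
    (hG.of_surjective i.rangeRestrict i.rangeRestrict_surjective)
    (by rintro _ ⟨g, rfl⟩; exact ⟨a g, (hconj g).symm⟩)
    (by
      rintro _ ⟨g, rfl⟩ hg
      have hg' : g ^ p = 1 := SemidirectProduct.inl_injective (φ := φ) (by rw [map_pow, map_one]; exact hg)
      have := hconj g
      rw [h g hg', mul_inv_eq_iff_eq_mul] at this
      exact this)
  ext g
  apply SemidirectProduct.inl_injective (φ := φ)
  show i (a g) = i g
  rw [← hconj g, (key (i g) ⟨g, rfl⟩).eq, mul_inv_cancel_right]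

end Cfsg.Agent.S0120
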