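import Cfsg.Statements.S0121
import Mathlib
-- import your own Cfsg.Agent.* helpers here

set_option autoImplicit false
open Cfsg

namespace Cfsg.Agent.S0121

/-- A p'-automorphism of a p-group acting trivially on a critical subgroup is trivial. -/
theorem result {G : Type*} [Group G] [Finite G] {p : ℕ} [Fact p.Prime] (hG : IsPGroup p G) (H : Subgroup G) (hH : H.Characteristic) (h1 : (frattini H).map H.subtype ≤ Subgroup.centralizer (H : Set G)) (h2 : ⁅H, (⊤ : Subgroup G)⁆ ≤ H ⊓ Subgroup.centralizer (H : Set G)) (h3 : Subgroup.centralizer (H : Set G) ≤ H) (a : MulAut G) (ha : Nat.Coprime (orderOf a) p) (h : ∀ x ∈ H, a x = x) : a = 1 := by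
  have _ := h1
  have _ := h2
  have : H.Normal := inferInstance
  ext g
  simp only [MulAut.one_apply]
  have hmem : g⁻¹ * a g ∈ H := by
    apply h3
    rw [Subgroup.mem_centralizer_iff]
    intro x hx
    have hconj : g * x * g⁻¹ ∈ H := Subgroup.Normal.conj_mem ‹H.Normal› x hx g
    have h4 := h _ hconj
    rw [map_mul, map_mul, map_inv, h x hx] at h4
    calc x * (g⁻¹ * a g) = g⁻¹ * (g * x * g⁻¹) * a g := by group
      _ = g⁻¹ * (a g * x * (a g)⁻¹) * a g := by rw [h4]
      _ = g⁻¹ * a g * x := by group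
  set c := g⁻¹ * a g with hc
  have hag : a g = g * c := by rw [hc]; group
  have hn : ∀ n : ℕ, (a ^ n) g = g * c ^ n := by
    intro n
    induction n with
    | zero => simp
    | succ n ih => rw [pow_succ', MulAut.mul_apply, ih, map_mul, map_pow, h c hmem, hag, mul_assoc, ← pow_succ']
  have h5 := hn (orderOf a)
  rw [pow_orderOf_eq_one, MulAut.one_apply] at h5
  have h6 : c ^ orderOf a = 1 := by
    simpa using h5.symm
  obtain ⟨k, hk⟩ := hG c
  have hone : c = 1 := by
    have h7 : c ^ Nat.gcd (orderOf a) (p ^ k) = 1 := pow_gcd_eq_one.mpr ⟨h6, hk⟩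
    rwa [(Nat.Coprime.pow_right k ha).gcd_eq_one, pow_one] at h7
  rw [hag, hone, mul_one]
end Cfsg.Agent.S0121
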