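import Cfsg.Statements.S0122
import Cfsg.Agent.Lib.PGroupsCritical
import Cfsg.Agent.Lib.OmegaCoprime

set_option autoImplicit false
open Cfsg

namespace Cfsg.Agent.S0122

open Subgroup Cfsg.Agent.PGroupsBasic
open scoped commutatorElement

variable {G : Type*} [Group G] [Finite G] {p : ℕ} [hp : Fact p.Prime]

theorem card_sup_zpowers' {A : Subgroup G} (hA : IsElementaryAbelian p A) {B : Subgroup G}
    (hB : B ≤ A) {n : G} (hn : n ∈ A) (hnB : n ∉ B) :
    B ⊔ zpowers n ≤ A ∧ Nat.card (B ⊔ zpowers n : Subgroup G) = Nat.card B * p := by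
  have ho : orderOf n = p := orderOf_eq_of_pow_eq_one (hA.2 n hn) fun h => hnB (h ▸ one_mem B)
  refine ⟨sup_le hB (zpowers_le.mpr hn), ?_⟩
  haveI : (B.subgroupOf A).Normal :=
    ⟨fun a ha b => by
      rwa [show b * a * b⁻¹ = a from Subtype.ext (by
        simp [comm_of_isMulCommutative hA.1 b.2 a.2])]⟩
  have h := card_sup_of_normal (A := B.subgroupOf A) (B := (zpowers n).subgroupOf A) (by
    rw [eq_bot_iff]
    intro a ha
    have h1 : (a : G) ∈ B ⊓ zpowers n := ha
    rw [inf_zpowers_eq_bot ho hnB] at h1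
    exact mem_bot.mpr (Subtype.ext (mem_bot.mp h1)))
  rw [← subgroupOf_sup hB (zpowers_le.mpr hn)] at h
  rwa [Nat.card_congr (subgroupOfEquivOfLe (sup_le hB (zpowers_le.mpr hn))).toEquiv,
    Nat.card_congr (subgroupOfEquivOfLe hB).toEquiv,
    Nat.card_congr (subgroupOfEquivOfLe (zpowers_le.mpr hn)).toEquiv, Nat.card_zpowers, ho] at h

/-- The action of `E` on `N` by commutators with one element `n`. -/
theorem exists_hom {E N : Subgroup G} (hE : IsElementaryAbelian p E) [hN : N.Normal]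
    (hNE : N ≤ normalizer (E : Set G)) {n : G} (hn : n ∈ N) :
    ∃ t : E →* (N ⊓ E : Subgroup G),
      ∀ e : E, ((t e : (N ⊓ E : Subgroup G)) : G) = (e : G)⁻¹ * n * e * n⁻¹ := by
  have hmem : ∀ e : E, (e : G)⁻¹ * n * e * n⁻¹ ∈ N ⊓ E := fun e => by
    refine mem_inf.mpr ⟨mul_mem ?_ (inv_mem hn), ?_⟩
    · simpa using hN.conj_mem n hn (e : G)⁻¹
    · rw [show (e : G)⁻¹ * n * e * n⁻¹ = (e : G)⁻¹ * (n * e * n⁻¹) by group]
      exact mul_mem (inv_mem e.2) ((mem_normalizer_iff.mp (hNE hn) _).mp e.2)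
  refine ⟨MonoidHom.mk' (fun e => ⟨_, hmem e⟩) fun e f => Subtype.ext ?_, fun e => rfl⟩
  show ((e * f : E) : G)⁻¹ * n * (e * f : E) * n⁻¹ =
    (e : G)⁻¹ * n * e * n⁻¹ * ((f : G)⁻¹ * n * f * n⁻¹)
  have hc : (f : G)⁻¹ * ((e : G)⁻¹ * n * e * n⁻¹) = ((e : G)⁻¹ * n * e * n⁻¹) * (f : G)⁻¹ :=
    comm_of_isMulCommutative hE.1 (inv_mem f.2) (hmem e).2
  calc ((e * f : E) : G)⁻¹ * n * (e * f : E) * n⁻¹
      = (f : G)⁻¹ * ((e : G)⁻¹ * n * e * n⁻¹) * n * f * n⁻¹ := by push_cast; group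
    _ = _ := by rw [hc]; group

theorem basic {E N : Subgroup G} (hE : IsElementaryAbelian p E) (hE4 : Nat.card E = p ^ 4)
    [hN : N.Normal] (hNe : IsElementaryAbelian p N) (hN3 : Nat.card N = p ^ 3)
    (hNE : N ≤ normalizer (E : Set G))
    (hAlp : ∀ x ∈ centralizer (N : Set G), x ^ p = 1 → x ∈ N) :
    Nat.card (N ⊓ E : Subgroup G) = p ^ 2 ∧ ∀ n ∈ N, n ∉ N ⊓ E → ∀ b ∈ N ⊓ E, ∃ e ∈ E,
      e⁻¹ * n * e * n⁻¹ = b := by
  set B := N ⊓ E with hB
  have hp1 := hp.out.one_lt
  have hcE : E ⊓ centralizer (N : Set G) ≤ B := fun e he =>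
    ⟨hAlp e he.2 (hE.2 e he.1), he.1⟩
  obtain ⟨b, hb, hb'⟩ := (Nat.dvd_prime_pow hp.out).mp (hN3 ▸ card_dvd_of_le (inf_le_left : B ≤ N))
  have hker : ∀ n ∈ N, ∀ (t : E →* (B : Subgroup G)),
      (∀ e : E, ((t e : B) : G) = (e : G)⁻¹ * n * e * n⁻¹) →
      t.ker = (centralizer ({n} : Set G)).subgroupOf E ∧ t.ker.index ∣ Nat.card B := by
    refine fun n _ t ht => ⟨ext fun e => ?_, ?_⟩
    · rw [MonoidHom.mem_ker, mem_subgroupOf, mem_centralizer_singleton_iff, Subtype.ext_iff, ht,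
        OneMemClass.coe_one, mul_inv_eq_one, mul_assoc, inv_mul_eq_iff_eq_mul]
      exact eq_comm
    · rw [index_ker]
      exact card_subgroup_dvd_card _
  have hgen : ∀ T : Subgroup G, N ≤ B ⊔ T → (centralizer (T : Set G)).subgroupOf E ≤
      B.subgroupOf E := by
    intro T hT e he
    refine hcE ⟨e.2, mem_centralizer_iff.mpr fun m hm => ?_⟩
    have : B ⊔ T ≤ centralizer ({(e : G)} : Set G) := sup_le
      (fun c hc => mem_centralizer_singleton_iff.mpr (comm_of_isMulCommutative hE.1 hc.2 e.2))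
      (fun c hc => mem_centralizer_singleton_iff.mpr (mem_centralizer_iff.mp he c hc))
    exact mem_centralizer_singleton_iff.mp (this (hT hm))
  have hBE : Nat.card (B.subgroupOf E) * (B.subgroupOf E).index = p ^ 4 := by
    rw [card_mul_index, hE4]
  rw [Nat.card_congr (subgroupOfEquivOfLe (inf_le_right : B ≤ E)).toEquiv, hb'] at hBE
  have hb2 : b = 2 := by
    rcases (show b = 3 ∨ b ≤ 1 ∨ b = 2 by omega) with rfl | hb1 | rfl
    · exfalso
      have hBN : B = N := eq_of_le_of_card_ge inf_le_left (by rw [hb', hN3])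
      have hEC : E ≤ B := fun e he => hcE ⟨he, mem_centralizer_iff.mpr fun m hm =>
        comm_of_isMulCommutative hE.1 (hBN.ge hm).2 he⟩
      have := card_le_of_le hEC
      rw [hE4, hb'] at this
      have := (Nat.pow_le_pow_iff_right hp1).mp this
      omega
    · exfalso
      have hlt : ∀ T : Subgroup G, Nat.card T ≤ p ^ 2 → ∃ n ∈ N, n ∉ T := fun T hT => by
        refine SetLike.not_le_iff_exists.mp fun h => ?_
        have := (card_le_of_le h).trans hT
        rw [hN3] at this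
        have := (Nat.pow_le_pow_iff_right hp1).mp this
        omega
      rcases Nat.eq_zero_or_pos b with rfl | hbp
      · have hB0 : B = ⊥ := eq_bot_of_card_eq _ (by rw [hb', pow_zero])
        have hEC : E ≤ B := fun e he => hcE ⟨he, mem_centralizer_iff.mpr fun m hm => by
          obtain ⟨t, ht⟩ := exists_hom hE hNE hm
          have h1 : ((t ⟨e, he⟩ : B) : G) = 1 := mem_bot.mp (hB0 ▸ (t ⟨e, he⟩).2)
          rw [ht, mul_inv_eq_one, mul_assoc, inv_mul_eq_iff_eq_mul] at h1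
          exact h1⟩
        have := card_le_of_le hEC
        rw [hE4, hb'] at this
        have := (Nat.pow_le_pow_iff_right hp1).mp this
        omega
      obtain rfl : b = 1 := by omega
      obtain ⟨n1, hn1, hn1'⟩ := hlt B (hb' ▸ Nat.pow_le_pow_right hp.out.pos (by omega))
      obtain ⟨hle1, hc1⟩ := card_sup_zpowers' hNe (inf_le_left : B ≤ N) hn1 hn1'
      rw [hb', ← pow_succ] at hc1
      obtain ⟨n2, hn2, hn2'⟩ := hlt _ hc1.le
      obtain ⟨hle2, hc2⟩ := card_sup_zpowers' hNe hle1 hn2 hn2'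
      rw [hc1, ← pow_succ] at hc2
      have hNeq : B ⊔ zpowers n1 ⊔ zpowers n2 = N := eq_of_le_of_card_ge hle2 (by rw [hN3, hc2])
      obtain ⟨t1, ht1⟩ := exists_hom hE hNE hn1
      obtain ⟨t2, ht2⟩ := exists_hom hE hNE hn2
      have h1 := hker n1 hn1 t1 ht1
      have h2 := hker n2 hn2 t2 ht2
      rw [hb', pow_one] at h1 h2
      have h12 : t1.ker ⊓ t2.ker ≤ B.subgroupOf E := by
        refine le_trans ?_ (hgen (zpowers n1 ⊔ zpowers n2) (by rw [← sup_assoc, hNeq]))
        rintro e ⟨he1, he2⟩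
        rw [SetLike.mem_coe, h1.1] at he1
        rw [SetLike.mem_coe, h2.1] at he2
        refine mem_subgroupOf.mpr (mem_centralizer_iff.mpr fun c hc => ?_)
        have : zpowers n1 ⊔ zpowers n2 ≤ centralizer ({(e : G)} : Set G) := sup_le
          (zpowers_le.mpr (mem_centralizer_singleton_iff.mpr
            (mem_centralizer_singleton_iff.mp (mem_subgroupOf.mp he1)).symm))
          (zpowers_le.mpr (mem_centralizer_singleton_iff.mpr
            (mem_centralizer_singleton_iff.mp (mem_subgroupOf.mp he2)).symm))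
        exact mem_centralizer_singleton_iff.mp (this hc)
      have h3 := Nat.le_of_dvd (by
        rcases Nat.eq_zero_or_pos (t1.ker ⊓ t2.ker).index with h | h
        · exact absurd h FiniteIndex.index_ne_zero
        · exact h) (index_dvd_of_le h12)
      have h4 : (t1.ker ⊓ t2.ker).index ≤ p * p := index_inf_le.trans
        (Nat.mul_le_mul (Nat.le_of_dvd hp.out.pos h1.2) (Nat.le_of_dvd hp.out.pos h2.2))
      have h5 : p ^ 4 ≤ p ^ 3 := by
        rw [← hBE, show p ^ 3 = p ^ 1 * (p * p) by ring]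
        exact Nat.mul_le_mul_left _ (h3.trans h4)
      have := (Nat.pow_le_pow_iff_right hp1).mp h5
      omega
    · rfl
  subst hb2
  refine ⟨hb', fun n hn hnB c hc => ?_⟩
  obtain ⟨t, ht⟩ := exists_hom hE hNE hn
  obtain ⟨hle1, hc1⟩ := card_sup_zpowers' hNe (inf_le_left : B ≤ N) hn hnB
  rw [hb', ← pow_succ] at hc1
  have hNeq : B ⊔ zpowers n = N := eq_of_le_of_card_ge hle1 (by rw [hN3, hc1])
  have h1 := hker n hn t ht
  have hkle : t.ker ≤ B.subgroupOf E := by
    refine le_trans (fun e he => ?_) (hgen (zpowers n) hNeq.symm.le)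
    rw [h1.1] at he
    refine mem_subgroupOf.mpr (mem_centralizer_iff.mpr fun d hd => ?_)
    obtain ⟨k, rfl⟩ := mem_zpowers_iff.mp hd
    exact (Commute.zpow_left (mem_centralizer_singleton_iff.mp (mem_subgroupOf.mp he)).symm k).eq
  have hsurj : t.range = ⊤ := by
    refine eq_top_of_le_card _ ?_
    rw [← index_ker, hb']
    refine le_trans ?_ (Nat.le_of_dvd (Nat.pos_of_ne_zero FiniteIndex.index_ne_zero)
      (index_dvd_of_le hkle))
    refine Nat.le_of_mul_le_mul_left ?_ (pow_pos hp.out.pos 2)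
    rw [hBE, ← pow_add]
  obtain ⟨e, he⟩ := MonoidHom.range_eq_top.mp hsurj ⟨c, hc⟩
  exact ⟨e, e.2, (ht e).symm.trans (congrArg Subtype.val he)⟩

/-- The heart of the Alperin–Kornfeld theorem. -/
theorem normal_of_setting (hG : IsPGroup p G) (hp2 : p ≠ 2) (M : Subgroup G) [M.Normal]
    (E : Subgroup G) (hEM : E ≤ M) (hMnE : M ≤ normalizer (E : Set G))
    (hE : IsElementaryAbelian p E) (hE4 : Nat.card E = p ^ 4)
    (N : Subgroup G) [hN : N.Normal] (hNM : N ≤ M) (hNe : IsElementaryAbelian p N)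
    (hN3 : Nat.card N = p ^ 3) (hAlp : ∀ x ∈ centralizer (N : Set G), x ^ p = 1 → x ∈ N) :
    E.Normal := by
  obtain ⟨hB2, hsurj⟩ := basic hE hE4 hNe hN3 (hNM.trans hMnE) hAlp
  refine normalizer_eq_top_iff.mp (eq_top_iff.mpr fun g _ => ?_)
  set φ := MulAut.conj g with hφ
  set E' := E.map φ.toMonoidHom with hE'
  suffices E' ≤ E by
    have he : E' = E := eq_of_le_of_card_ge this (card_map_of_injective φ.injective).ge
    refine mem_normalizer_iff.mpr fun y => ⟨fun hy => he ▸ mem_map_of_mem _ hy, fun hy => ?_⟩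
    rw [← he] at hy
    obtain ⟨z, hz, hze⟩ := hy
    exact (φ.injective hze) ▸ hz
  have hNmap : N.map φ.toMonoidHom = N := eq_of_le_of_card_ge
    (by rintro _ ⟨y, hy, rfl⟩; exact hN.conj_mem y hy g) (card_map_of_injective φ.injective).ge
  have hMmap : M.map φ.toMonoidHom = M := eq_of_le_of_card_ge
    (by rintro _ ⟨y, hy, rfl⟩; exact (inferInstance : M.Normal).conj_mem y hy g)
    (card_map_of_injective φ.injective).ge
  have hE'M : E' ≤ M := hMmap ▸ map_mono hEM
  have hMnE' : M ≤ normalizer (E' : Set G) := by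
    intro m hm
    rw [← hMmap] at hm
    obtain ⟨m0, hm0, rfl⟩ := hm
    refine mem_normalizer_iff.mpr fun y => ?_
    obtain ⟨y0, rfl⟩ := φ.surjective y
    rw [show φ.toMonoidHom m0 * φ y0 * (φ.toMonoidHom m0)⁻¹ = φ (m0 * y0 * m0⁻¹) by simp]
    rw [hE']
    simp only [mem_map_equiv]
    exact (by simpa using mem_normalizer_iff.mp (hMnE hm0) y0)
  have hE'e : IsElementaryAbelian p E' := isElementaryAbelian_map_hom hE _
  have hE'4 : Nat.card E' = p ^ 4 := by rw [hE', card_map_of_injective φ.injective, hE4]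
  obtain ⟨hB'2, hsurj'⟩ := basic hE'e hE'4 hNe hN3 (hNM.trans hMnE') hAlp
  have hBM : ∀ F : Subgroup G, M ≤ normalizer (F : Set G) → Nat.card (N ⊓ F : Subgroup G) = p ^ 2 →
      ∀ m ∈ M, ∀ n ∈ N, ⁅m, n⁆ ∈ N ⊓ F := by
    intro F hF hc m hm n hn
    haveI : (N.subgroupOf M).Normal := inferInstance
    haveI : ((N ⊓ F).subgroupOf M).Normal := by
      refine (normal_subgroupOf_iff_le_normalizer (inf_le_left.trans hNM)).mpr ?_
      exact (le_inf (normalizer_eq_top N ▸ le_top) hF).trans (inf_normalizer_le_normalizer_inf)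
    have h := Cfsg.Agent.PGroupsCritical.commutator_mem_of_succ (hG.to_subgroup M)
      (A := (N ⊓ F).subgroupOf M) (B := N.subgroupOf M) (comap_mono inf_le_left) (by
        rw [Nat.card_congr (subgroupOfEquivOfLe (inf_le_left.trans hNM)).toEquiv,
          Nat.card_congr (subgroupOfEquivOfLe hNM).toEquiv, hc, hN3, ← pow_succ])
      (b := ⟨n, hNM hn⟩) hn ⟨m, hm⟩
    exact h
  have hBB : N ⊓ E' = N ⊓ E := by
    by_contra hne
    obtain ⟨n, hn, hnB⟩ : ∃ n ∈ N, n ∉ N ⊓ E := SetLike.not_le_iff_exists.mp fun h => by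
      have := card_le_of_le h
      rw [hN3, hB2] at this
      exact absurd this (not_le.mpr (Nat.pow_lt_pow_right hp.out.one_lt (by omega)))
    refine hne (eq_of_le_of_card_ge (fun b hb => ?_) (by rw [hB2, hB'2])).symm
    obtain ⟨e, he, rfl⟩ := hsurj n hn hnB b hb
    have h := hBM E' hMnE' hB'2 e⁻¹ (inv_mem (hEM he)) n hn
    rwa [commutatorElement_def, inv_inv] at h
  obtain ⟨n, hn, hnB⟩ : ∃ n ∈ N, n ∉ N ⊓ E := SetLike.not_le_iff_exists.mp fun h => by
    have := card_le_of_le h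
    rw [hN3, hB2] at this
    exact absurd this (not_le.mpr (Nat.pow_lt_pow_right hp.out.one_lt (by omega)))
  obtain ⟨hle1, hc1⟩ := card_sup_zpowers' hNe (inf_le_left : N ⊓ E ≤ N) hn hnB
  rw [hB2, ← pow_succ] at hc1
  have hNeq : (N ⊓ E) ⊔ zpowers n = N := eq_of_le_of_card_ge hle1 (by rw [hN3, hc1])
  obtain ⟨t, ht⟩ := exists_hom hE (hNM.trans hMnE) hn
  -- every element of `E'` is `n ^ k * f` with `f ∈ E`
  have hdec : ∀ e' ∈ E', ∃ (k : ℤ) (f : E), e' = n ^ k * f ∧
      ((t f : (N ⊓ E : Subgroup G)) : G) = e'⁻¹ * n * e' * n⁻¹ := by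
    intro e' he'
    obtain ⟨t', ht'⟩ := exists_hom hE'e (hNM.trans hMnE') hn
    have hval : e'⁻¹ * n * e' * n⁻¹ ∈ N ⊓ E := hBB ▸ (ht' ⟨e', he'⟩ ▸ (t' ⟨e', he'⟩).2)
    obtain ⟨e, he, hee⟩ := hsurj n hn hnB _ hval
    have heq : e'⁻¹ * n * e' = e⁻¹ * n * e := mul_right_cancel hee.symm
    have hcB : ∀ b ∈ N ⊓ E, Commute b (e' * e⁻¹) := fun b hb =>
      (show Commute b e' from comm_of_isMulCommutative hE'e.1 (hBB ▸ hb : b ∈ N ⊓ E').2 he').mul_right
        (show Commute b e⁻¹ from comm_of_isMulCommutative hE.1 hb.2 (inv_mem he))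
    have hcn : Commute n (e' * e⁻¹) := by
      have : (e' * e⁻¹)⁻¹ * n * (e' * e⁻¹) = n := by
        rw [show (e' * e⁻¹)⁻¹ * n * (e' * e⁻¹) = e * (e'⁻¹ * n * e') * e⁻¹ by group, heq]; group
      rw [mul_assoc, inv_mul_eq_iff_eq_mul] at this
      exact this
    have hC : e' * e⁻¹ ∈ centralizer (N : Set G) := by
      have h1 : (N ⊓ E) ⊔ zpowers n ≤ centralizer ({e' * e⁻¹} : Set G) := sup_le
        (fun b hb => mem_centralizer_singleton_iff.mpr (hcB b hb).eq)
        (zpowers_le.mpr (mem_centralizer_singleton_iff.mpr hcn.eq))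
      rw [hNeq] at h1
      exact mem_centralizer_iff.mpr fun m hm => mem_centralizer_singleton_iff.mp (h1 hm)
    have hord : (e' * e⁻¹) ^ p = 1 := by
      set z := e * e'⁻¹ * e⁻¹ * e' with hz
      have hzE : z ∈ E := by
        rw [hz, show e * e'⁻¹ * e⁻¹ * e' = e * (e'⁻¹ * e⁻¹ * e'⁻¹⁻¹) by group]
        exact mul_mem he ((mem_normalizer_iff.mp (inv_mem (hMnE (hE'M he'))) _).mp (inv_mem he))
      have hzE' : z ∈ E' := by
        rw [hz]
        exact mul_mem ((mem_normalizer_iff.mp (hMnE' (hEM he)) _).mp (inv_mem he')) he'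
      have h := Cfsg.Agent.OmegaCoprime.mul_pow_class_two (x := e') (y := e⁻¹) (z := z)
        (by rw [hz]; group) (comm_of_isMulCommutative hE'e.1 hzE' he')
        (comm_of_isMulCommutative hE.1 hzE (inv_mem he)) p
      obtain ⟨m, hm⟩ : p ∣ p.choose 2 := hp.out.dvd_choose_self (by norm_num)
        (by have := hp.out.two_le; omega)
      rw [hE'e.2 _ he', hE.2 _ (inv_mem he), hm, pow_mul, hE.2 z hzE] at h
      simpa using h
    have hcN := hAlp _ hC hord
    have hd : e' * e⁻¹ ∈ (N ⊓ E) ⊔ zpowers n := hNeq.symm ▸ hcN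
    rw [← SetLike.mem_coe, sup_comm, sup_eq_closure] at hd
    haveI : (N ⊓ E).subgroupOf N |>.Normal :=
      ⟨fun a ha b => by
        rwa [show b * a * b⁻¹ = a from Subtype.ext (by simp [comm_of_isMulCommutative hNe.1 b.2 a.2])]⟩
    obtain ⟨k, b, hb, hkb⟩ : ∃ (k : ℤ), ∃ b ∈ N ⊓ E, n ^ k * b = e' * e⁻¹ := by
      clear hord hC hcn hcN
      generalize e' * e⁻¹ = y at hd ⊢
      induction hd using closure_induction with
      | mem y hy =>
        rcases hy with hy | hy
        · obtain ⟨k, hk⟩ := mem_zpowers_iff.mp hy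
          exact ⟨k, 1, one_mem _, by rw [mul_one, hk]⟩
        · exact ⟨0, y, hy, by simp⟩
      | one => exact ⟨0, 1, one_mem _, by simp⟩
      | mul y z _ _ ihy ihz =>
        obtain ⟨k, b, hb, rfl⟩ := ihy
        obtain ⟨l, c, hc, rfl⟩ := ihz
        refine ⟨k + l, b * c, mul_mem hb hc, ?_⟩
        have h1 : b * n ^ l = n ^ l * b :=
          comm_of_isMulCommutative hNe.1 hb.1 (zpow_mem hn l)
        rw [zpow_add, mul_assoc (n ^ k) b, ← mul_assoc b, h1]; group
      | inv y _ ih =>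
        obtain ⟨k, b, hb, rfl⟩ := ih
        refine ⟨-k, b⁻¹, inv_mem hb, ?_⟩
        rw [mul_inv_rev, zpow_neg]
        exact comm_of_isMulCommutative hNe.1 (inv_mem (zpow_mem hn k)) (inv_mem hb.1)
    refine ⟨k, ⟨b * e, mul_mem hb.2 he⟩, ?_, ?_⟩
    · show e' = n ^ k * (b * e)
      rw [← mul_assoc, hkb, inv_mul_cancel_right]
    · rw [ht, ← hee]
      show (b * e)⁻¹ * n * (b * e) * n⁻¹ = _
      have h1 : b⁻¹ * n * b = n := by
        rw [mul_assoc, comm_of_isMulCommutative hNe.1 hn hb.1, inv_mul_cancel_left]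
      rw [show (b * e)⁻¹ * n * (b * e) = e⁻¹ * (b⁻¹ * n * b) * e by group, h1]
  have hmove : ∀ (k : ℤ) (f : E), (f : G) * n ^ k =
      ((t f : (N ⊓ E : Subgroup G)) : G) ^ (-k) * n ^ k * f := by
    intro k f
    have hc : Commute ((t f : (N ⊓ E : Subgroup G)) : G) n :=
      comm_of_isMulCommutative hNe.1 (t f).2.1 hn
    have hc2 : Commute ((t f : (N ⊓ E : Subgroup G)) : G) f :=
      comm_of_isMulCommutative hE.1 (t f).2.2 f.2
    have h1 : (f : G)⁻¹ * n ^ k * f = ((t f : (N ⊓ E : Subgroup G)) : G) ^ k * n ^ k := by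
      rw [← hc.mul_zpow, ht, inv_mul_cancel_right]
      simpa using (conj_zpow (a := (f : G)⁻¹) (b := n) (i := k)).symm
    have h2 : n ^ k * f = f * ((t f : (N ⊓ E : Subgroup G)) : G) ^ k * n ^ k := by
      rw [mul_assoc (f : G), ← h1]; group
    rw [mul_assoc, h2, ← (hc2.zpow_left k).eq, ← mul_assoc, ← mul_assoc, zpow_neg, inv_mul_cancel,
      one_mul]
  intro e' he'
  obtain ⟨k₁, f₁, h₁, ht₁⟩ := hdec e' he'
  by_cases hk : (p : ℤ) ∣ k₁
  · obtain ⟨m, rfl⟩ := hk
    rw [zpow_mul, zpow_natCast, hNe.2 n hn, one_zpow, one_mul] at h₁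
    exact h₁ ▸ f₁.2
  exfalso
  set t₁ := ((t f₁ : (N ⊓ E : Subgroup G)) : G) with ht₁'
  obtain ⟨c, hc, hct⟩ : ∃ c ∈ N ⊓ E, c ∉ zpowers t₁ := SetLike.not_le_iff_exists.mp fun h => by
    have h1 := card_le_of_le h
    rw [hB2, Nat.card_zpowers] at h1
    have h2 := Nat.le_of_dvd hp.out.pos (orderOf_dvd_of_pow_eq_one (hE.2 t₁ (t f₁).2.2))
    have h3 := Nat.pow_lt_pow_right hp.out.one_lt (show 1 < 2 by omega)
    rw [pow_one] at h3
    omega
  obtain ⟨e2, he2, he2c⟩ := hsurj' n hn (hBB.symm ▸ hnB) c (hBB.symm ▸ hc)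
  obtain ⟨k₂, f₂, h₂, ht₂⟩ := hdec e2 he2
  rw [he2c] at ht₂
  have hcomm := comm_of_isMulCommutative hE'e.1 he' he2
  rw [h₁, h₂, mul_assoc (n ^ k₁), ← mul_assoc (f₁ : G), hmove k₂ f₁, mul_assoc (n ^ k₂),
    ← mul_assoc (f₂ : G), hmove k₁ f₂, ← ht₁', ht₂] at hcomm
  have hn1 : Commute (n ^ k₁) (t₁ ^ (-k₂)) :=
    comm_of_isMulCommutative hNe.1 (zpow_mem hn _) (zpow_mem (show t₁ ∈ N from (t f₁).2.1) _)
  have hn2 : Commute (n ^ k₂) (c ^ (-k₁)) :=
    comm_of_isMulCommutative hNe.1 (zpow_mem hn _) (zpow_mem (show c ∈ N from hc.1) _)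
  simp only [← mul_assoc] at hcomm
  rw [hn1.eq, hn2.eq, mul_assoc _ (n ^ k₁) (n ^ k₂), mul_assoc _ (n ^ k₂) (n ^ k₁),
    ← zpow_add, ← zpow_add, add_comm k₂ k₁, mul_assoc _ (f₁ : G) (f₂ : G),
    mul_assoc _ (f₂ : G) (f₁ : G), comm_of_isMulCommutative hE.1 f₁.2 f₂.2] at hcomm
  have h3 : t₁ ^ (-k₂) = c ^ (-k₁) := mul_right_cancel (mul_right_cancel hcomm)
  refine hct ?_
  have hco : IsCoprime k₁ (p : ℤ) :=
    ((Nat.prime_iff_prime_int.mp hp.out).coprime_iff_not_dvd.mpr hk).symm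
  obtain ⟨u, v, huv⟩ := hco
  have h4 : c ^ k₁ = t₁ ^ k₂ := by simpa [zpow_neg] using (congrArg (·⁻¹) h3).symm
  rw [← zpow_one c, ← huv, zpow_add, mul_comm u, zpow_mul, h4, mul_comm v, zpow_mul, zpow_natCast,
    hE.2 c hc.2, one_zpow, mul_one]
  exact zpow_mem (zpow_mem (mem_zpowers t₁) k₂) u

/-- For odd p, a p-group containing an elementary abelian subgroup of order p^4 has a normal elementary abelian subgroup of order p^4. -/
theorem result {G : Type*} [Group G] [Finite G] {p : ℕ} [Fact p.Prime] (hp : p ≠ 2) (hG : IsPGroup p G) (E : Subgroup G) (hE : Cfsg.IsElementaryAbelian p E) (hE4 : Nat.card E = p ^ 4) : ∃ A : Subgroup G, A.Normal ∧ Cfsg.IsElementaryAbelian p A ∧ Nat.card A = p ^ 4 := by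
  induction hn : Nat.card G using Nat.strong_induction_on generalizing G with
  | _ n ih =>
  by_cases hEtop : E = ⊤
  · exact ⟨E, hEtop ▸ inferInstance, hE, hE4⟩
  obtain ⟨M, hMn, hMi, hEM⟩ := exists_normal_index_eq hG hEtop
  haveI := hMn
  have hEM4 : Nat.card (E.subgroupOf M) = p ^ 4 := by
    rw [Nat.card_congr (subgroupOfEquivOfLe hEM).toEquiv, hE4]
  have hMlt : Nat.card M < n := by
    rw [← hn, ← card_mul_index M, hMi]
    exact lt_mul_of_one_lt_right Nat.card_pos (Fact.out : p.Prime).one_lt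
  obtain ⟨E₁, hE₁n, hE₁, hE₁4⟩ := ih _ hMlt (G := M) (hG.to_subgroup M) (E.subgroupOf M)
    (isElementaryAbelian_comap_injective hE M.subtype_injective) hEM4 rfl
  set F := E₁.map M.subtype with hF
  have hFe : IsElementaryAbelian p F := isElementaryAbelian_map_hom hE₁ _
  have hF4 : Nat.card F = p ^ 4 := by rw [hF, card_map_of_injective M.subtype_injective, hE₁4]
  have hFM : F ≤ M := map_subtype_le E₁
  have hMF : M ≤ normalizer (F : Set G) := by
    refine (normal_subgroupOf_iff_le_normalizer hFM).mp ?_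
    rw [hF]
    rw [show (E₁.map M.subtype).subgroupOf M = E₁ from comap_map_eq_self_of_injective M.subtype_injective E₁]
    exact hE₁n
  by_contra hno
  push Not at hno
  have hsmall : ∀ A : Subgroup G, A.Normal → IsElementaryAbelian p A → Nat.card A < p ^ 4 := by
    intro A hA hAe
    by_contra hlt
    haveI := hA
    obtain ⟨L, hL, hLA, hLc⟩ := exists_normal_card_pow hG A 4 (not_lt.mp hlt)
    exact hno L hL (isElementaryAbelian_mono hAe hLA) hLc
  have hAlp : ∀ N : Subgroup G, N.Normal → IsElementaryAbelian p N →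
      (∀ B : Subgroup G, B.Normal → IsElementaryAbelian p B → N ≤ B → B = N) →
      ∀ x ∈ centralizer (N : Set G), x ^ p = 1 → x ∈ N := by
    intro N hN hNe hmax x hx hxp
    haveI := hN
    exact Cfsg.Agent.PGroupsCritical.mem_of_maximal_exponent hG 1 (by rwa [pow_one]) N hNe.1
      (fun a ha => by rw [pow_one]; exact hNe.2 a ha)
      (fun B hB hBc hBe hle => hmax B hB ⟨hBc, fun b hb => by simpa using hBe b hb⟩ hle) hx
      (by rwa [pow_one])
  -- a maximal normal elementary abelian subgroup has order `p ^ 3`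
  have hcard3 : ∀ N : Subgroup G, N.Normal → IsElementaryAbelian p N →
      (∀ B : Subgroup G, B.Normal → IsElementaryAbelian p B → N ≤ B → B = N) →
      Nat.card N = p ^ 3 := by
    intro N hN hNe hmax
    haveI := hN
    obtain ⟨a, ha⟩ := IsPGroup.iff_card.mp (hG.to_subgroup N)
    have ha3 : a ≤ 3 := by
      have := hsmall N hN hNe
      rw [ha] at this
      have := (Nat.pow_lt_pow_iff_right (Fact.out : p.Prime).one_lt).mp this
      omega
    by_contra hne
    have ha2 : a ≤ 2 := by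
      rcases (show a ≤ 2 ∨ a = 3 by omega) with h | h
      · exact h
      · exact absurd (h ▸ ha) hne
    have hi := Cfsg.Agent.PGroupsCritical.index_centralizer_le hG a N hN hNe.1 ha
    have hs : ∑ i ∈ Finset.range a, i ≤ 1 := by interval_cases a <;> decide
    have h1 : E ⊓ centralizer (N : Set G) ≤ N := fun e he => hAlp N hN hNe hmax e he.2 (hE.2 e he.1)
    have h2 := Nat.card_le_card_of_injective _ (Subgroup.inclusion_injective h1)
    have h3 : Nat.card ((centralizer (N : Set G)).subgroupOf E) *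
        ((centralizer (N : Set G)).subgroupOf E).index = p ^ 4 := by rw [card_mul_index, hE4]
    have h4 : ((centralizer (N : Set G)).subgroupOf E).index ≤ p := by
      refine le_trans ?_ (hi.trans (le_of_le_of_eq (Nat.pow_le_pow_right (Fact.out : p.Prime).pos hs)
        (pow_one p)))
      exact relIndex_top_right (centralizer (N : Set G)) ▸
        relIndex_le_of_le_right le_top (by rw [relIndex_top_right]; exact FiniteIndex.index_ne_zero)
    rw [← inf_subgroupOf_left (centralizer (N : Set G)) E,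
      Nat.card_congr (subgroupOfEquivOfLe (inf_le_left : E ⊓ centralizer (N : Set G) ≤ E)).toEquiv,
      inf_subgroupOf_left] at h3
    have h5 : p ^ 4 ≤ p ^ 2 * p := h3 ▸ Nat.mul_le_mul
      (h2.trans (ha ▸ Nat.pow_le_pow_right (Fact.out : p.Prime).pos ha2)) h4
    rw [← pow_succ] at h5
    have := (Nat.pow_le_pow_iff_right (Fact.out : p.Prime).one_lt).mp h5
    omega
  have hmax3 : ∀ N : Subgroup G, N.Normal → IsElementaryAbelian p N → Nat.card N = p ^ 3 →
      ∀ B : Subgroup G, B.Normal → IsElementaryAbelian p B → N ≤ B → B = N := by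
    intro N _ _ hc B hB hBe hle
    obtain ⟨b, hb⟩ := IsPGroup.iff_card.mp (hG.to_subgroup B)
    have hb4 := hsmall B hB hBe
    rw [hb] at hb4
    have := (Nat.pow_lt_pow_iff_right (Fact.out : p.Prime).one_lt).mp hb4
    refine (eq_of_le_of_card_ge hle ?_).symm
    rw [hc, hb]
    exact Nat.pow_le_pow_right (Fact.out : p.Prime).pos (by omega)
  obtain ⟨N₀, hN₀⟩ := Set.Finite.exists_maximal
    (Set.toFinite {N : Subgroup G | N.Normal ∧ IsElementaryAbelian p N})
    ⟨⊥, inferInstance, isElementaryAbelian_bot⟩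
  have hN₀max : ∀ B : Subgroup G, B.Normal → IsElementaryAbelian p B → N₀ ≤ B → B = N₀ :=
    fun B hB hBe hle => le_antisymm (hN₀.2 ⟨hB, hBe⟩ hle) hle
  have hN₀3 := hcard3 N₀ hN₀.prop.1 hN₀.prop.2 hN₀max
  suffices hex : ∃ N : Subgroup G, N.Normal ∧ IsElementaryAbelian p N ∧ Nat.card N = p ^ 3 ∧ N ≤ M by
    obtain ⟨N, hN, hNe, hN3, hNM⟩ := hex
    haveI := hN
    exact hno F (normal_of_setting hG hp M F hFM hMF hFe hF4 N hNM hNe hN3
      (hAlp N hN hNe (hmax3 N hN hNe hN3))) hFe hF4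
  by_cases hN₀M : N₀ ≤ M
  · exact ⟨N₀, hN₀.prop.1, hN₀.prop.2, hN₀3, hN₀M⟩
  haveI := hN₀.prop.1
  set N1 := N₀ ⊓ M with hN1
  have hN1e : IsElementaryAbelian p N1 := isElementaryAbelian_mono hN₀.prop.2 inf_le_left
  have hN1c : Nat.card N1 ≤ p ^ 2 := by
    have hlt : N1 < N₀ := lt_of_le_not_ge inf_le_left fun h => hN₀M (h.trans inf_le_right)
    obtain ⟨a, ha⟩ := IsPGroup.iff_card.mp (hG.to_subgroup N1)
    have := Set.Finite.card_lt_card (Set.toFinite _) (SetLike.coe_ssubset_coe.mpr hlt)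
    rw [SetLike.coe_sort_coe, SetLike.coe_sort_coe, hN₀3, ha] at this
    rw [ha]
    exact Nat.pow_le_pow_right (Fact.out : p.Prime).pos
      (by have := (Nat.pow_lt_pow_iff_right (Fact.out : p.Prime).one_lt).mp this; omega)
  obtain ⟨a, ha, ha'⟩ := (Nat.dvd_prime_pow (Fact.out : p.Prime)).mp
    (show Nat.card N1 ∣ p ^ 2 by
      obtain ⟨c, hc⟩ := IsPGroup.iff_card.mp (hG.to_subgroup N1)
      rw [hc] at hN1c ⊢
      exact pow_dvd_pow p ((Nat.pow_le_pow_iff_right (Fact.out : p.Prime).one_lt).mp hN1c))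
  set D := F ⊓ centralizer (N1 : Set G) with hD
  have hDe : IsElementaryAbelian p D := isElementaryAbelian_mono hFe inf_le_left
  have hsup : IsElementaryAbelian p (D ⊔ N1) :=
    isElementaryAbelian_sup hDe hN1e inf_le_right
  have hnorm : (D ⊔ N1).Normal := by
    refine normalizer_eq_top_iff.mp (eq_top_iff.mpr ?_)
    have hMN : (⊤ : Subgroup G) ≤ M ⊔ N₀ :=
      ((isCoatom_of_index_eq hMi).2 _ (left_lt_sup.mpr hN₀M)).ge
    refine hMN.trans (sup_le ?_ ?_)
    · refine (le_inf ?_ ?_).trans (normalizer_inf_normalizer_le_normalizer_sup D N1)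
      · exact (le_inf hMF (normalizer_eq_top (centralizer (N1 : Set G)) ▸ le_top)).trans
          inf_normalizer_le_normalizer_inf
      · exact normalizer_eq_top N1 ▸ le_top
    · rw [le_normalizer_iff_commutator_le_right]
      refine le_trans ?_ le_sup_right
      rw [Subgroup.commutator_le]
      intro x hx y hy
      refine mem_inf.mpr ⟨?_, ?_⟩
      · rw [commutatorElement_def, show x * y * x⁻¹ * y⁻¹ = x * (y * x⁻¹ * y⁻¹) by group]
        exact mul_mem hx (hN₀.prop.1.conj_mem _ (inv_mem hx) y)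
      · have hyM : y ∈ M := (sup_le (inf_le_left.trans hFM) inf_le_right) hy
        rw [commutatorElement_def]
        exact mul_mem (hMn.conj_mem y hyM x) (inv_mem hyM)
  have hge : p ^ 3 ≤ Nat.card (D ⊔ N1 : Subgroup G) := by
    refine le_trans ?_ (card_le_of_le (le_sup_left : D ≤ D ⊔ N1))
    have hi := Cfsg.Agent.PGroupsCritical.index_centralizer_le hG a N1 inferInstance hN1e.1 ha'
    have hs : ∑ i ∈ Finset.range a, i ≤ 1 := by interval_cases a <;> decide
    have h3 : Nat.card ((centralizer (N1 : Set G)).subgroupOf F) *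
        ((centralizer (N1 : Set G)).subgroupOf F).index = p ^ 4 := by rw [card_mul_index, hF4]
    have h4 : ((centralizer (N1 : Set G)).subgroupOf F).index ≤ p := by
      refine le_trans ?_ (hi.trans (le_of_le_of_eq (Nat.pow_le_pow_right (Fact.out : p.Prime).pos hs)
        (pow_one p)))
      exact relIndex_top_right (centralizer (N1 : Set G)) ▸
        relIndex_le_of_le_right le_top (by rw [relIndex_top_right]; exact FiniteIndex.index_ne_zero)
    rw [← inf_subgroupOf_left (centralizer (N1 : Set G)) F,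
      Nat.card_congr (subgroupOfEquivOfLe (inf_le_left : D ≤ F)).toEquiv, inf_subgroupOf_left] at h3
    refine Nat.le_of_mul_le_mul_right ?_ (Fact.out : p.Prime).pos
    rw [← pow_succ, ← h3]
    exact Nat.mul_le_mul_left _ h4
  obtain ⟨L, hL, hLle, hLc⟩ := @exists_normal_card_pow G _ p _ _ hG (D ⊔ N1) hnorm 3 hge
  exact ⟨L, hL, isElementaryAbelian_mono hsup hLle, hLc,
    hLle.trans (sup_le (inf_le_left.trans hFM) inf_le_right)⟩

end Cfsg.Agent.S0122
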