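import Cfsg.Statements.S0125
import Mathlib
import Cfsg.Agent.Lib.CentralSylow
-- import your own Cfsg.Agent.* helpers here

set_option autoImplicit false
open Cfsg

namespace Cfsg.Agent.S0125

/-- The centralizer of a self-centralizing normal subgroup A of a Sylow p-subgroup is the direct product of A with a normal p'-subgroup. -/
theorem result {G : Type*} [Group G] [Finite G] {p : ℕ} [Fact p.Prime] (R : Sylow p G) (A : Subgroup G) (hAR : A ≤ (R : Subgroup G)) (hAn : (R : Subgroup G) ≤ Subgroup.normalizer (A : Set G)) (hC : (R : Subgroup G) ⊓ Subgroup.centralizer (A : Set G) = A) : ∃ H : Subgroup G, H ≤ Subgroup.centralizer (A : Set G) ∧ Nat.Coprime (Nat.card H) p ∧ Subgroup.centralizer (A : Set G) ≤ Subgroup.normalizer (H : Set G) ∧ H ⊓ A = ⊥ ∧ H ⊔ A = Subgroup.centralizer (A : Set G) := by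
  set N := Subgroup.normalizer (A : Set G) with hN
  set C := Subgroup.centralizer (A : Set G) with hCdef
  have hCN : C ≤ N := Subgroup.centralizer_le_normalizer _
  have hAC : A ≤ C := hC ▸ inf_le_right
  have hnorm : (C.subgroupOf N).Normal := by
    rw [hCdef, hN, ← Subgroup.normalizerMonoidHom_ker]
    exact MonoidHom.normal_ker _
  let S : Sylow p N := R.subtype hAn
  have h1 := CentralSylow.not_dvd_relIndex_normal S (C.subgroupOf N)
  rw [Sylow.coe_subtype, Subgroup.subgroupOf, Subgroup.subgroupOf, ← Subgroup.comap_inf, hC] at h1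
  change ¬ p ∣ (A.subgroupOf N).relIndex (C.subgroupOf N) at h1
  rw [Subgroup.relIndex_subgroupOf hCN] at h1
  have hc : A.subgroupOf C ≤ Subgroup.center C := by
    intro a ha
    rw [Subgroup.mem_center_iff]
    intro c
    exact Subtype.ext ((Subgroup.mem_centralizer_iff.mp c.2) _ ha).symm
  obtain ⟨O, -, hOn, hOc, hOA, -⟩ := CentralSylow.central_sylow (p := p) (A.subgroupOf C) hc
    ((R.isPGroup'.to_le hAR).of_equiv (Subgroup.subgroupOfEquivOfLe hAC).symm) h1
  refine ⟨O.map C.subtype, Subgroup.map_subtype_le O, ?_, ?_, ?_, ?_⟩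
  · rwa [Subgroup.card_map_of_injective C.subtype_injective]
  · intro c hc'
    rw [Subgroup.mem_normalizer_iff]
    intro z
    constructor
    · rintro ⟨w, hw, rfl⟩
      exact ⟨⟨c, hc'⟩ * w * ⟨c, hc'⟩⁻¹, hOn.conj_mem _ hw _, by simp⟩
    · rintro ⟨w, hw, hwz⟩
      refine ⟨⟨c, hc'⟩⁻¹ * w * ⟨c, hc'⟩, ?_, ?_⟩
      · simpa using hOn.conj_mem _ hw (⟨c, hc'⟩ : C)⁻¹
      · have : (w : G) = c * z * c⁻¹ := hwz
        simp [this]; group
  · have h2 : A = (A.subgroupOf C).map C.subtype := (Subgroup.map_subgroupOf_eq_of_le hAC).symm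
    rw [h2, ← Subgroup.map_inf _ _ _ C.subtype_injective, hOA.disjoint.eq_bot, Subgroup.map_bot]
  · have h2 : A = (A.subgroupOf C).map C.subtype := (Subgroup.map_subgroupOf_eq_of_le hAC).symm
    conv_lhs => rw [h2]
    rw [← Subgroup.map_sup, hOA.sup_eq_top, ← MonoidHom.range_eq_map, Subgroup.range_subtype]
end Cfsg.Agent.S0125
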