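import Cfsg.Statements.S0131
import Mathlib
-- import your own Cfsg.Agent.* helpers here

set_option autoImplicit false
open Cfsg

namespace Cfsg.Agent.S0131

/-- P/P' has a normal complement in G exactly when the focal subgroup G' ∩ P is as small as possible, namely P'. -/
theorem result {G : Type*} [Group G] [Finite G] {p : ℕ} [Fact p.Prime] (P : Sylow p G) : (∃ N : Subgroup G, N.Normal ∧ N ⊓ (P : Subgroup G) = ⁅(P : Subgroup G), (P : Subgroup G)⁆ ∧ N ⊔ (P : Subgroup G) = ⊤) ↔ commutator G ⊓ (P : Subgroup G) = ⁅(P : Subgroup G), (P : Subgroup G)⁆ := by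
  constructor
  · rintro ⟨N, hN, hNP, hsup⟩
    refine le_antisymm ?_ (le_inf ?_ ?_)
    · rw [← hNP]
      apply inf_le_inf_right
      have hsurj : Function.Surjective ((QuotientGroup.mk' N).comp (P : Subgroup G).subtype) := by
        intro q
        obtain ⟨g, rfl⟩ := QuotientGroup.mk'_surjective N q
        have hg : g ∈ N ⊔ (P : Subgroup G) := hsup ▸ Subgroup.mem_top g
        rw [Subgroup.mem_sup_of_normal_left] at hg
        obtain ⟨n, hn, q, hq, rfl⟩ := hg
        exact ⟨⟨q, hq⟩, by simp [(QuotientGroup.eq_one_iff n).mpr hn]⟩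
      rw [← Subgroup.Normal.quotient_commutative_iff_commutator_le]
      constructor
      constructor
      intro a b
      obtain ⟨a, rfl⟩ := hsurj a
      obtain ⟨b, rfl⟩ := hsurj b
      open scoped commutatorElement in
      rw [← commutatorElement_eq_one_iff_mul_comm, ← map_commutatorElement, MonoidHom.comp_apply]
      apply (QuotientGroup.eq_one_iff _).mpr
      open scoped commutatorElement in
      have hm : (P : Subgroup G).subtype ⁅a, b⁆ ∈ ⁅(P : Subgroup G), (P : Subgroup G)⁆ := by
        rw [map_commutatorElement]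
        exact Subgroup.commutator_mem_commutator a.2 b.2
      rw [← hNP] at hm
      exact hm.1
    · exact Subgroup.commutator_mono le_top le_top
    · exact Subgroup.commutator_le_self _
  · intro h
    have := Subgroup.ker_transferFocal_inf_eq_focalSubgroup P
    rw [← Subgroup.commutator_inf_eq_focalSubgroup P, h] at this
    refine ⟨MonoidHom.ker (P : Subgroup G).transferFocal, inferInstance, this, ?_⟩
    rw [eq_top_iff]
    intro g _
    obtain ⟨q, hq⟩ := Subgroup.focalSubgroupOf.pow_index_surjective P
      ((P : Subgroup G).transferFocal g)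
    obtain ⟨x, rfl⟩ := QuotientGroup.mk'_surjective _ q
    rw [Subgroup.mem_sup_of_normal_left]
    refine ⟨g * (x : G)⁻¹, ?_, x, x.2, by group⟩
    rw [MonoidHom.mem_ker, map_mul, map_inv, Subgroup.transferFocal_eq_pow]
    rw [← hq]
    simp
end Cfsg.Agent.S0131
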