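import Cfsg.Statements.S0132
import Cfsg.Agent.Lib.TransferAlperin

set_option autoImplicit false
open Cfsg

namespace Cfsg.Agent.S0132

/-- A minimal non-p-nilpotent finite group is a minimal non-nilpotent group with a normal Sylow p-subgroup. -/
theorem result {G : Type*} [Group G] [Finite G] {p : ℕ} [Fact p.Prime] (h1 : ¬ Cfsg.HasNormalPComplement p G) (h2 : ∀ H : Subgroup G, H ≠ ⊤ → Cfsg.HasNormalPComplement p H) : (∀ H : Subgroup G, H ≠ ⊤ → Group.IsNilpotent H) ∧ ¬ Group.IsNilpotent G ∧ ∀ P : Sylow p G, (P : Subgroup G).Normal := by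
  classical
  obtain ⟨Q, hQp, hQ1, hQN⟩ : ∃ Q : Subgroup G, IsPGroup p Q ∧ Q ≠ ⊥ ∧
      ¬ Cfsg.HasNormalPComplement p (Subgroup.normalizer (Q : Set G)) := by
    by_contra hno
    push Not at hno
    exact h1 (TransferAlperin.hasNormalPComplement_iff_normalizer.mpr hno)
  have hQn : Q.Normal := Subgroup.normalizer_eq_top_iff.mp (by_contra fun h => hQN (h2 _ h))
  -- some `p'`-element acts non-trivially on some `p`-subgroup
  obtain ⟨R, hRp, g, hgR, hgc, hgn⟩ : ∃ R : Subgroup G, IsPGroup p R ∧ ∃ g ∈ Subgroup.normalizer (R : Set G),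
      Nat.Coprime (orderOf g) p ∧ g ∉ Subgroup.centralizer (R : Set G) := by
    obtain ⟨P⟩ : Nonempty (Sylow p G) := inferInstance
    by_contra hno
    push Not at hno
    exact h1 ((TransferAlperin.hasNormalPComplement_iff_centralizer P).mpr
      fun R hR g hg hc => hno R (P.isPGroup'.to_le hR) g hg hc)
  -- one of least order
  have hex : ∃ n, ∃ g ∈ Subgroup.normalizer (R : Set G),
      Nat.Coprime (orderOf g) p ∧ g ∉ Subgroup.centralizer (R : Set G) ∧ orderOf g = n :=
    ⟨_, g, hgR, hgc, hgn, rfl⟩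
  obtain ⟨b, hbR, hbc, hbn, hbo⟩ := Nat.find_spec hex
  have hmin : ∀ c : G, c ∈ Subgroup.zpowers b → orderOf c < orderOf b →
      c ∈ Subgroup.centralizer (R : Set G) := by
    intro c hc hlt
    by_contra hcn
    refine Nat.find_min hex (hbo ▸ hlt) ⟨c, (Subgroup.zpowers_le.mpr hbR) hc, ?_, hcn, rfl⟩
    exact hbc.coprime_dvd_left (orderOf_dvd_of_mem_zpowers hc)
  obtain ⟨q, k, hq, hb⟩ : ∃ q k, q.Prime ∧ orderOf b = q ^ k := by
    have hb1 : orderOf b ≠ 1 := fun h => hbn (by
      rw [orderOf_eq_one_iff.mp h]; exact one_mem _)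
    have hq := Nat.minFac_prime hb1
    obtain ⟨k, m, hm, hb⟩ := Nat.exists_eq_pow_mul_and_not_dvd (orderOf_pos b).ne' _ hq.ne_one
    refine ⟨_, k, hq, ?_⟩
    by_contra hne
    have hm0 : m ≠ 0 := by rintro rfl; simp at hm
    have hm1 : m ≠ 1 := by rintro rfl; rw [mul_one] at hb; exact hne hb
    have hk0 : k ≠ 0 := by
      rintro rfl
      refine hm ?_
      rw [pow_zero, one_mul] at hb
      exact hb ▸ Nat.minFac_dvd _
    set e := (orderOf b).minFac ^ k with he
    have he1 : 1 < e := Nat.one_lt_pow hk0 hq.one_lt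
    have hm2 : 1 < m := by omega
    have hx : b ^ e ∈ Subgroup.centralizer (R : Set G) := hmin _ (Subgroup.npow_mem_zpowers b e) (by
      rw [orderOf_pow' b (by omega), hb, Nat.gcd_mul_right_left, Nat.mul_div_cancel_left _ (by omega)]
      exact lt_mul_of_one_lt_left (by omega) he1)
    have hy : b ^ m ∈ Subgroup.centralizer (R : Set G) := hmin _ (Subgroup.npow_mem_zpowers b m) (by
      rw [orderOf_pow' b hm0, hb, Nat.gcd_mul_left_left, Nat.mul_div_cancel _ (by omega)]
      exact lt_mul_of_one_lt_right (by omega) hm2)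
    refine hbn ?_
    have hcop : Nat.gcd e m = 1 := ((Nat.Prime.coprime_iff_not_dvd hq).mpr hm).pow_left k
    have : b = (b ^ (e : ℤ)) ^ Nat.gcdA e m * (b ^ (m : ℤ)) ^ Nat.gcdB e m := by
      rw [← zpow_mul, ← zpow_mul, ← zpow_add, ← Nat.gcd_eq_gcd_ab, hcop, Nat.cast_one, zpow_one]
    rw [this, zpow_natCast, zpow_natCast]
    exact mul_mem (zpow_mem hx _) (zpow_mem hy _)
  haveI : Fact q.Prime := ⟨hq⟩
  -- `G = R⟨b⟩`
  have htop : R ⊔ Subgroup.zpowers b = ⊤ := by
    by_contra hne
    refine hbn ?_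
    have hle : R ⊔ Subgroup.zpowers b ≤ Subgroup.normalizer (R : Set G) :=
      sup_le Subgroup.le_normalizer (Subgroup.zpowers_le.mpr hbR)
    set H := R ⊔ Subgroup.zpowers b
    haveI : (R.subgroupOf H).Normal :=
      (Subgroup.normal_subgroupOf_iff_le_normalizer le_sup_left).mpr hle
    have hb' : (⟨b, Subgroup.mem_sup_right (Subgroup.mem_zpowers b)⟩ : H) ∈ Cfsg.pResidual p H :=
      TransferPResidual.mem_pResidual_of_coprime (by rwa [Subgroup.orderOf_mk])
    have := TransferPResidual.le_centralizer_of_normal_pGroup (h2 H hne) (Q := R.subgroupOf H)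
      hRp.comap_subtype hb'
    rw [Subgroup.mem_centralizer_iff] at this ⊢
    intro t ht
    exact congrArg Subtype.val (this ⟨t, Subgroup.mem_sup_left ht⟩ (Subgroup.mem_subgroupOf.mpr ht))
  have hRn : R.Normal := by
    rw [← Subgroup.normalizer_eq_top_iff, eq_top_iff, ← htop]
    exact sup_le Subgroup.le_normalizer (Subgroup.zpowers_le.mpr hbR)
  have hqp : q ≠ p := by
    rintro rfl
    rcases k.eq_zero_or_pos with hk | hk
    · exact hbn (by rw [hk, pow_zero, orderOf_eq_one_iff] at hb; rw [hb]; exact one_mem _)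
    · rw [hb, Nat.coprime_pow_left_iff hk, Nat.coprime_self] at hbc
      exact hq.ne_one hbc
  have hidx : R.index ∣ q ^ k := by
    rw [← Subgroup.relIndex_top_right, ← htop, Subgroup.relIndex_sup_left, ← hb, ← Nat.card_zpowers]
    exact Subgroup.relIndex_dvd_card _ _
  have hsyl : ∀ P : Sylow p G, (P : Subgroup G) = R := by
    intro P
    refine le_antisymm ?_ ((hRp.le_sylow_of_normal (N := R)) P)
    intro x hx
    obtain ⟨i, hi⟩ := IsPGroup.iff_orderOf.mp P.isPGroup' ⟨x, hx⟩
    rw [Subgroup.orderOf_mk] at hi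
    have h5 : orderOf (QuotientGroup.mk' R x) = 1 := by
      refine Nat.eq_one_of_dvd_coprimes (a := p ^ i) (b := q ^ k) ?_ ?_ ?_
      · exact Nat.Coprime.pow _ _ ((Nat.coprime_primes Fact.out hq).mpr (Ne.symm hqp))
      · exact hi ▸ orderOf_map_dvd _ x
      · exact (orderOf_dvd_natCard (QuotientGroup.mk' R x)).trans hidx
    exact (QuotientGroup.eq_one_iff x).mp (orderOf_eq_one_iff.mp h5)
  refine ⟨fun H hH => ?_, fun hnil => ?_, fun P => hsyl P ▸ hRn⟩
  · haveI : (R.subgroupOf H).Normal := Subgroup.normal_subgroupOf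
    have hK := h2 H hH
    haveI hA : IsPGroup p (H ⧸ Cfsg.pResidual p H) := TransferPResidual.isPGroup_quotient_pResidual
    haveI hB : IsPGroup q (H ⧸ R.subgroupOf H) := by
      have h3 : (R.subgroupOf H).index ∣ q ^ k := (Subgroup.relIndex_dvd_index_of_normal R H).trans hidx
      obtain ⟨i, -, hi⟩ := (Nat.dvd_prime_pow hq).mp h3
      exact IsPGroup.of_card hi
    haveI := hA.isNilpotent
    haveI := hB.isNilpotent
    let f : H →* (H ⧸ Cfsg.pResidual p H) × (H ⧸ R.subgroupOf H) :=
      (QuotientGroup.mk' _).prod (QuotientGroup.mk' _)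
    have hf : Function.Injective f := by
      rw [injective_iff_map_eq_one]
      intro x hx
      have hx1 : x ∈ Cfsg.pResidual p H := (QuotientGroup.eq_one_iff x).mp (congrArg Prod.fst hx)
      have hx2 : (x : G) ∈ R := Subgroup.mem_subgroupOf.mp ((QuotientGroup.eq_one_iff x).mp (congrArg Prod.snd hx))
      have hc := (TransferPResidual.mem_pResidual_iff_coprime hK x).mp hx1
      obtain ⟨i, hi⟩ := IsPGroup.iff_orderOf.mp hRp ⟨_, hx2⟩
      rw [Subgroup.orderOf_mk, Subgroup.orderOf_coe] at hi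
      rcases i.eq_zero_or_pos with h0 | h0
      · rwa [h0, pow_zero, orderOf_eq_one_iff] at hi
      · rw [hi, Nat.coprime_pow_left_iff h0, Nat.coprime_self] at hc
        exact absurd hc (Fact.out : p.Prime).ne_one
    exact Subgroup.isNilpotent_of_ker_le_center f ((MonoidHom.ker_eq_bot_iff f).mpr hf ▸ bot_le)
  · -- a nilpotent group has a normal `p`-complement
    refine h1 ?_
    obtain ⟨T⟩ : Nonempty (Sylow q G) := inferInstance
    haveI hTn : (T : Subgroup G).Normal := by
      have h3 := (Group.isNilpotent_of_finite_tfae (G := G)).out 0 3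
      exact (h3.mp hnil) q inferInstance T
    refine TransferPResidual.hasNormalPComplement_of_normal (N := (T : Subgroup G)) ?_ ?_
    · have h3 : (T : Subgroup G).index ∣ Nat.card R := by
        have h4 : (T : Subgroup G).index ∣ Nat.card R * q ^ k :=
          ((T : Subgroup G).index_dvd_card).trans
            (by rw [← R.card_mul_index]; exact mul_dvd_mul_left _ hidx)
        exact (Nat.Coprime.pow_right k
          ((Nat.Prime.coprime_iff_not_dvd hq).mpr T.not_dvd_index).symm).dvd_of_dvd_mul_right h4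
      obtain ⟨i, hi⟩ := IsPGroup.iff_card.mp hRp
      obtain ⟨j, -, hj⟩ := (Nat.dvd_prime_pow (Fact.out : p.Prime)).mp (hi ▸ h3)
      exact IsPGroup.of_card hj
    · intro hd
      obtain ⟨i, hi⟩ := IsPGroup.iff_card.mp T.isPGroup'
      rw [hi] at hd
      exact hqp ((Nat.prime_dvd_prime_iff_eq Fact.out hq).mp ((Fact.out : p.Prime).dvd_of_dvd_pow hd)).symm

end Cfsg.Agent.S0132
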