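import Mathlib
import Cfsg.Statements.S0149
import Cfsg.Agent.Lib.CharInducedBasic

set_option autoImplicit false
open Cfsg

namespace Cfsg.Agent.S0149

/-- Let T be a subset of G meeting each of its conjugates by elements outside its normalizer N only in the identity, and let ψ be a class function of N vanishing on N away from T. Then the function induced from ψ agrees with ψ at every non-identity element of T. -/
theorem result {G : Type*} [Group G] [Fintype G] (T : Set G) (hTI : ∀ g : G, g ∉ Subgroup.normalizer T → ∀ t ∈ T, g * t * g⁻¹ ∈ T → t = 1) (hTN : T ⊆ Subgroup.normalizer T) (ψ : Subgroup.normalizer T → ℂ) (hψ : Cfsg.IsClassFunction (Subgroup.normalizer T) ψ) (hψT : ∀ x : Subgroup.normalizer T, (x : G) ∉ T → ψ x = 0) (t : Subgroup.normalizer T) (htT : (t : G) ∈ T) (ht1 : t ≠ 1) : Cfsg.indFun (Subgroup.normalizer T) ψ t = ψ t := by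
  classical
  rw [CharInduced.indFun_apply]
  have hterm : ∀ x : G, extendByZero (Subgroup.normalizer T) ψ (x⁻¹ * t * x) =
      if x ∈ Subgroup.normalizer T then ψ t else 0 := by
    intro x
    by_cases hx : x ∈ Subgroup.normalizer T
    · rw [if_pos hx, CharInduced.ext_zero_of_mem ψ
        (mul_mem (mul_mem (inv_mem hx) t.2) hx)]
      have := hψ t (⟨x, hx⟩ : Subgroup.normalizer T)⁻¹
      rw [← this]
      exact congrArg ψ (Subtype.ext (by simp))
    · rw [if_neg hx]
      by_cases hm : x⁻¹ * t * x ∈ Subgroup.normalizer T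
      · rw [CharInduced.ext_zero_of_mem ψ hm]
        refine hψT _ fun hT => ht1 (Subtype.ext ?_)
        exact hTI x⁻¹ (fun h => hx (inv_inv x ▸ inv_mem h)) t htT (by simpa using hT)
      · exact CharInduced.ext_zero_of_not_mem ψ hm
  rw [Finset.sum_congr rfl fun x _ => hterm x, Finset.sum_ite, Finset.sum_const_zero, add_zero,
    Finset.sum_const, nsmul_eq_mul, ← Fintype.card_subtype, ← Nat.card_eq_fintype_card,
    ← mul_assoc]
  rw [inv_mul_cancel₀ (Nat.cast_ne_zero.2 Nat.card_pos.ne'), one_mul]

end Cfsg.Agent.S0149
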