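import Mathlib
import Cfsg.Statements.S0154
import Cfsg.Agent.Lib.CharBasicDecomp

set_option autoImplicit false
open Cfsg

namespace Cfsg.Agent.S0154

/-- A finite group has exactly as many irreducible complex characters of degree 1 as the index of its commutator subgroup. -/
theorem result {G : Type*} [Group G] [Finite G] : Nat.card {χ : Cfsg.IrrCharacter G // (χ : G → ℂ) 1 = 1} = (commutator G).index := by
  classical
  have hlin : ∀ χ : {χ : Cfsg.IrrCharacter G // (χ : G → ℂ) 1 = 1},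
      ∃ f : G →* ℂˣ, ∀ g, (f g : ℂ) = (χ.1 : G → ℂ) g := by
    rintro ⟨⟨χ, n, ρ, hρ, rfl⟩, h1⟩
    have hn : Module.finrank ℂ (Fin n → ℂ) = 1 := by
      have h1' : (ρ.character 1 : ℂ) = 1 := h1
      rw [Representation.char_one] at h1'
      exact_mod_cast h1'
    refine ⟨((LinearMap.det : Module.End ℂ (Fin n → ℂ) →* ℂ).comp ρ).toHomUnits, fun g => ?_⟩
    show LinearMap.det (ρ g) = LinearMap.trace ℂ _ (ρ g)
    let b := Module.finBasisOfFinrankEq ℂ (Fin n → ℂ) hn
    rw [← LinearMap.det_toMatrix b, LinearMap.trace_eq_matrix_trace ℂ b, Matrix.det_fin_one,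
      Matrix.trace_fin_one]
  choose f hf using hlin
  have e1 : Nat.card {χ : Cfsg.IrrCharacter G // (χ : G → ℂ) 1 = 1} = Nat.card (G →* ℂˣ) := by
    refine Nat.card_congr (Equiv.ofBijective f ⟨fun a b h => ?_, fun φ => ?_⟩)
    · exact Subtype.ext (Subtype.ext (funext fun g => by rw [← hf a g, ← hf b g, h]))
    · refine ⟨⟨⟨fun g => (φ g : ℂ), CharBasicDecomp.isIrrCharacter_linear φ⟩, by simp⟩, ?_⟩
      ext g
      exact hf _ g
  rw [e1, Subgroup.index]
  let e2 : (Abelianization G →* ℂˣ) ≃ (G →* ℂˣ) := Abelianization.lift.symm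
  rw [← Nat.card_congr e2]
  exact CommGroup.card_monoidHom_of_hasEnoughRootsOfUnity (Abelianization G) ℂ

end Cfsg.Agent.S0154
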