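import Mathlib
import Cfsg.Statements.S0156
import Cfsg.Agent.Lib.CharBasicOrth
import Cfsg.Agent.S0155

set_option autoImplicit false
open Cfsg

namespace Cfsg.Agent.S0156

/-- The character of the left regular representation is the sum over the irreducible characters χ of χ 1 • χ. -/
theorem result {G : Type*} [Group G] [Fintype G] : (Representation.leftRegular ℂ G).character = ∑ᶠ χ : Cfsg.IrrCharacter G, (χ : G → ℂ) 1 • (χ : G → ℂ) := by
  classical
  funext g
  rw [S0155.result, finsum_eq_sum_of_fintype, Finset.sum_apply]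
  have h := CharBasicOrth.sum_irr_mul_conj g 1
  have hreal : ∀ χ : Cfsg.IrrCharacter G,
      (starRingEnd ℂ) ((χ : G → ℂ) 1) = (χ : G → ℂ) 1 := fun χ => by
    obtain ⟨n, -, hn⟩ := CharBasic.isIrrCharacter_apply_one χ.2
    rw [hn, map_natCast]
  simp only [hreal] at h
  have h' : ∑ χ : Cfsg.IrrCharacter G, ((χ : G → ℂ) 1 • (χ : G → ℂ)) g =
      if IsConj g 1 then (Nat.card (Subgroup.centralizer ({g} : Set G)) : ℂ) else 0 := by
    rw [← h]
    refine Finset.sum_congr rfl fun χ _ => ?_
    exact mul_comm _ _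
  rw [h']
  by_cases hg : g = 1
  · subst hg
    rw [if_pos rfl, if_pos (IsConj.refl _), Subgroup.centralizer_eq_top_iff_subset.2 (by simp),
      Subgroup.card_top]
  · rw [if_neg hg, if_neg (fun hc => hg (isConj_one_left.1 hc))]

end Cfsg.Agent.S0156
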