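import Cfsg.Statements.S0157
import Cfsg.Agent.Lib.CharBasicPerm

set_option autoImplicit false
open Cfsg

namespace Cfsg.Agent.S0157

open Cfsg.Agent.CharBasic Cfsg.Agent.CharBasicOrth Cfsg.Agent.CharBasicDecomp Cfsg.Agent.CharBasicPerm


/-- For a transitive action of a finite group on a finite set with at least two points: the action is 2-transitive if and only if the function sending g to (number of fixed points of g) − 1 is an irreducible character. -/
theorem result {G : Type*} [Group G] [Finite G] (X : Type*) [MulAction G X] [Finite X] [MulAction.IsPretransitive G X] (hX : 2 ≤ Nat.card X) : Cfsg.IsIrrCharacter G (fun g => (Nat.card (MulAction.fixedBy X g) : ℂ) - 1) ↔ MulAction.IsMultiplyPretransitive G X 2 := by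
  classical
  have := Fintype.ofFinite G
  have : Nontrivial X := Finite.one_lt_card_iff_nontrivial.1 hX
  obtain ⟨x₀, y₀, hxy⟩ := exists_pair_ne X
  set π : G → ℂ := fun g => (Nat.card (MulAction.fixedBy X g) : ℂ) with hπ
  set Ω := MulAction.orbitRel.Quotient G (X × X) with hΩ
  have hπc : Cfsg.IsCharacter G π := isCharacter_fixedBy X
  have h1 : Cfsg.classInner π (fun _ => 1) = 1 := by
    rw [hπ, classInner_fixedBy_one]
    have : Subsingleton (MulAction.orbitRel.Quotient G X) :=
      (MulAction.pretransitive_iff_subsingleton_quotient G X).1 inferInstance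
    have : Nonempty (MulAction.orbitRel.Quotient G X) := ⟨Quotient.mk'' x₀⟩
    rw [Nat.card_unique, Nat.cast_one]
  have hsub : (fun g => (Nat.card (MulAction.fixedBy X g) : ℂ) - 1) = π - fun _ => 1 := rfl
  have hchar : Cfsg.IsCharacter G (π - fun _ => 1) := by
    rw [isCharacter_iff]
    refine ⟨fun g h => ?_, fun ψ => ?_⟩
    · simp only [Pi.sub_apply]; rw [isClassFunction_of_isCharacter hπc g h]
    · obtain ⟨n, hn⟩ := classInner_isCharacter hπc (isCharacter_of_isIrrCharacter ψ.2)
      rw [classInner_sub_left, hn, classInner_irr _ _ isIrrCharacter_one ψ.2]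
      split_ifs with h
      · rw [← h, h1] at hn
        exact ⟨0, by rw [← hn, Nat.cast_zero, sub_self]⟩
      · exact ⟨n, sub_zero _⟩
  have h1' : Cfsg.classInner (fun _ => 1) π = 1 := by rw [← conj_classInner, h1, map_one]
  have hnorm : Cfsg.classInner (π - fun _ => 1) (π - fun _ => 1) = (Nat.card Ω : ℂ) - 1 := by
    rw [classInner_sub_left, classInner_sub_right, classInner_sub_right, h1, h1',
      classInner_irr_self isIrrCharacter_one, sub_self, sub_zero, hπ, classInner_fixedBy_self]
  rw [hsub, isIrrCharacter_iff, and_iff_right hchar, hnorm, sub_eq_iff_eq_add, one_add_one_eq_two,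
    show (2 : ℂ) = ((2 : ℕ) : ℂ) by norm_num, Nat.cast_inj, MulAction.is_two_pretransitive_iff]
  let d : Ω → Prop := Quotient.lift (fun p : X × X => p.1 = p.2) (by
    rintro a b ⟨g, hg⟩
    rw [← hg]
    simp)
  have hd : Function.Surjective d := by
    intro P
    by_cases h : P
    · exact ⟨Quotient.mk'' (x₀, x₀), propext ⟨fun _ => h, fun _ => rfl⟩⟩
    · exact ⟨Quotient.mk'' (x₀, y₀), propext ⟨fun e => absurd e hxy, fun e => absurd e h⟩⟩
  constructor
  · intro h2 a b c e hab hce
    have hinj : Function.Injective d :=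
      (Nat.bijective_iff_surjective_and_card d).2 ⟨hd, h2.trans (by simp)⟩ |>.1
    have h := hinj (a₁ := Quotient.mk'' (c, e)) (a₂ := Quotient.mk'' (a, b))
      (propext ⟨fun x => absurd x hce, fun x => absurd x hab⟩)
    obtain ⟨g, hg⟩ := Quotient.eq''.1 h
    exact ⟨g, congrArg Prod.fst hg, congrArg Prod.snd hg⟩
  · intro h2
    have hinj : Function.Injective d := by
      intro p q hpq
      induction p using Quotient.inductionOn' with | _ p => ?_
      induction q using Quotient.inductionOn' with | _ q => ?_
      obtain ⟨a, b⟩ := p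
      obtain ⟨c, e⟩ := q
      have hiff : a = b ↔ c = e := Iff.of_eq hpq
      refine Quotient.eq''.2 ?_
      by_cases hce : c = e
      · obtain rfl := hiff.2 hce
        subst hce
        obtain ⟨g, hg⟩ := MulAction.exists_smul_eq G c a
        exact ⟨g, by simp [hg]⟩
      · obtain ⟨g, hg1, hg2⟩ := h2 hce (fun x => hce (hiff.1 x))
        exact ⟨g, by simp [hg1, hg2]⟩
    rw [Nat.card_eq_of_bijective d ⟨hinj, hd⟩]
    simp

end Cfsg.Agent.S0157
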