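import Mathlib
import Cfsg.Statements.S0159
import Cfsg.Agent.Lib.CharBasicOrth
import Cfsg.Agent.S0155
import Cfsg.Agent.S0156

set_option autoImplicit false
open Cfsg

namespace Cfsg.Agent.S0159

/-- The number of solutions of s * s = 1 in a finite group equals the sum, over the irreducible characters χ, of (the average over s of χ (s * s)) times χ 1. -/
theorem result {G : Type*} [Group G] [Fintype G] : (Nat.card {s : G // s * s = 1} : ℂ) = ∑ᶠ χ : Cfsg.IrrCharacter G, ((Nat.card G : ℂ)⁻¹ * ∑ s : G, (χ : G → ℂ) (s * s)) * (χ : G → ℂ) 1 := by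
  classical
  have hG : (Nat.card G : ℂ) ≠ 0 := Nat.cast_ne_zero.2 Nat.card_pos.ne'
  have h : ∀ s : G, ∑ χ : Cfsg.IrrCharacter G, (χ : G → ℂ) 1 * (χ : G → ℂ) (s * s) =
      if s * s = 1 then (Nat.card G : ℂ) else 0 := by
    intro s
    have h1 := congrFun (S0156.result (G := G)) (s * s)
    rw [S0155.result, finsum_eq_sum_of_fintype, Finset.sum_apply] at h1
    exact h1.symm
  rw [finsum_eq_sum_of_fintype]
  calc (Nat.card {s : G // s * s = 1} : ℂ)
      = (Nat.card G : ℂ)⁻¹ * ∑ s : G, if s * s = 1 then (Nat.card G : ℂ) else 0 := by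
        rw [Finset.sum_ite, Finset.sum_const_zero, add_zero, Finset.sum_const, nsmul_eq_mul,
          ← Fintype.card_subtype, ← Nat.card_eq_fintype_card]
        field_simp
    _ = _ := by
        rw [Finset.sum_congr rfl fun s _ => (h s).symm, Finset.sum_comm, Finset.mul_sum]
        refine Finset.sum_congr rfl fun χ _ => ?_
        rw [← Finset.mul_sum]
        ring

end Cfsg.Agent.S0159
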