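import Cfsg.Statements.S0160
import Cfsg.Agent.Lib.CharBasicPerm

set_option autoImplicit false
open Cfsg

namespace Cfsg.Agent.S0160

open Cfsg.Agent.CharBasic Cfsg.Agent.CharBasicOrth Cfsg.Agent.CharBasicDecomp
open scoped ComplexConjugate


/-- A finite group has as many real-valued irreducible complex characters as conjugacy classes closed under taking inverses. -/
theorem result {G : Type*} [Group G] [Finite G] : Nat.card {χ : Cfsg.IrrCharacter G // ∀ g : G, ((χ : G → ℂ) g).im = 0} = Nat.card {C : ConjClasses G // ∀ g : G, ConjClasses.mk g = C → IsConj g g⁻¹} := by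
  let p : ConjClasses G → Prop := fun C => ∀ g : G, ConjClasses.mk g = C → IsConj g g⁻¹
  have hp : ∀ g, p (ConjClasses.mk g) ↔ IsConj g⁻¹ g := by
    refine fun g => ⟨fun h => (h g rfl).symm, fun h x hx => ?_⟩
    have hxg := ConjClasses.mk_eq_mk_iff_isConj.1 hx
    have hinv : IsConj g⁻¹ x⁻¹ := by
      obtain ⟨c, rfl⟩ := isConj_iff.1 hxg
      exact (isConj_iff.2 ⟨c, by group⟩ : IsConj x⁻¹ _).symm
    exact hxg.trans (h.symm.trans hinv)
  let σ : Cfsg.IrrCharacter G → Cfsg.IrrCharacter G :=
    fun χ => ⟨fun g => conj ((χ : G → ℂ) g), isIrrCharacter_conj χ.2⟩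
  have h := CharBasicPerm.card_fixed (fun g : G => g⁻¹) p hp σ
    fun χ g => (isCharacter_inv (isCharacter_of_isIrrCharacter χ.2) g).symm
  rw [h]
  refine Nat.card_congr (Equiv.subtypeEquivRight fun χ => ?_)
  rw [Subtype.ext_iff, funext_iff]
  exact forall_congr' fun g => Complex.conj_eq_iff_im.symm

end Cfsg.Agent.S0160
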