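import Cfsg.Statements.S0162
import Cfsg.Agent.Lib.CharBasicInt
import Cfsg.Agent.Lib.CharBasicDecomp
import Cfsg.Agent.S0161

set_option autoImplicit false
open Cfsg

namespace Cfsg.Agent.S0162

open Cfsg.Agent.CharBasic Cfsg.Agent.CharBasicOrth Cfsg.Agent.CharBasicDecomp
open scoped ComplexConjugate


/-- If a finite group has odd order, its order is congruent to its number of conjugacy classes modulo 16. -/
theorem result {G : Type*} [Group G] [Finite G] (hodd : Odd (Nat.card G)) : Nat.card G ≡ Nat.card (ConjClasses G) [MOD 16] := by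
  classical
  have := Fintype.ofFinite G
  rw [← card_irrCharacter]
  have hsum : ∃ d : Cfsg.IrrCharacter G → ℕ, (∀ χ : Cfsg.IrrCharacter G, (χ : G → ℂ) 1 = d χ) ∧
      ∀ χ, d χ ∣ Nat.card G := by
    choose d _ h1 h2 using fun χ : Cfsg.IrrCharacter G => CharBasicInt.exists_apply_one_dvd_card χ.2
    exact ⟨d, h1, h2⟩
  obtain ⟨d, hd, hdvd⟩ := hsum
  have hG : Nat.card G = ∑ χ, d χ * d χ := by
    have h := sum_sq_apply_one (G := G)
    simp only [hd, sq, ← Nat.cast_mul, ← Nat.cast_sum] at h
    exact (Nat.cast_injective h).symm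
  let e := Fintype.equivFin (Cfsg.IrrCharacter G)
  let c : Cfsg.IrrCharacter G → Cfsg.IrrCharacter G :=
    fun χ => ⟨fun g => conj ((χ : G → ℂ) g), isIrrCharacter_conj χ.2⟩
  have hc : ∀ χ, c (c χ) = χ := fun χ => Subtype.ext (funext fun g => Complex.conj_conj _)
  have hfix : ∀ χ, c χ = χ → χ = trivIrr G := fun χ h => by
    refine Subtype.ext (S0161.real_eq_one hodd χ.2 fun g => ?_)
    rw [isCharacter_inv (isCharacter_of_isIrrCharacter χ.2)]
    exact congrFun (congrArg Subtype.val h) g
  have htriv : c (trivIrr G) = trivIrr G := Subtype.ext (funext fun g => by simp [c, trivIrr])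
  let S := Finset.univ.filter fun χ => e χ < e (c χ)
  have hsplit : (Finset.univ : Finset (Cfsg.IrrCharacter G)) = {trivIrr G} ∪ (S ∪ S.image c) := by
    ext χ
    simp only [Finset.mem_univ, Finset.mem_union, Finset.mem_singleton, Finset.mem_image, true_iff]
    rcases lt_trichotomy (e χ) (e (c χ)) with h' | h' | h'
    · exact Or.inr (Or.inl (by simp [S, h']))
    · exact Or.inl (hfix χ (e.injective h').symm)
    · exact Or.inr (Or.inr ⟨c χ, by simp [S, hc, h'], hc χ⟩)
  have hd1 : Disjoint ({trivIrr G} : Finset _) (S ∪ S.image c) := by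
    rw [Finset.disjoint_singleton_left, Finset.mem_union, Finset.mem_image]
    rintro (h | ⟨χ, hχ, h⟩)
    · simp [S, htriv] at h
    · rw [← hc χ, h, htriv] at hχ; simp [S, htriv] at hχ
  have hd2 : Disjoint S (S.image c) := by
    rw [Finset.disjoint_left]
    rintro χ hχ hχ'
    obtain ⟨x, hx, rfl⟩ := Finset.mem_image.1 hχ'
    simp only [S, Finset.mem_filter, hc] at hx hχ
    exact absurd hx.2 (not_lt.2 hχ.2.le)
  have hinj : Set.InjOn c S := fun a _ b _ h => by rw [← hc a, h, hc]
  have hk : Nat.card (Cfsg.IrrCharacter G) = 1 + (S.card + S.card) := by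
    rw [Nat.card_eq_fintype_card, ← Finset.card_univ, hsplit, Finset.card_union_of_disjoint hd1,
      Finset.card_singleton, Finset.card_union_of_disjoint hd2, Finset.card_image_of_injOn hinj]
  have hdc : ∀ χ, d (c χ) = d χ := fun χ => by
    have h := hd (c χ)
    simp only [c, hd χ, map_natCast] at h
    exact (Nat.cast_injective h).symm
  rw [hsplit, Finset.sum_union hd1, Finset.sum_singleton, Finset.sum_union hd2,
    Finset.sum_image hinj] at hG
  simp only [hdc] at hG
  have h1 : d (trivIrr G) = 1 := by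
    have h := hd (trivIrr G)
    simp only [trivIrr] at h
    exact_mod_cast h.symm
  have hmod : (∑ χ ∈ S, d χ * d χ) % 8 = S.card % 8 := by
    rw [Finset.sum_nat_mod, Finset.card_eq_sum_ones, Finset.sum_nat_mod S 8 (fun _ => 1)]
    refine congrArg (· % 8) (Finset.sum_congr rfl fun χ _ => ?_)
    have ho : d χ % 2 = 1 := Nat.odd_iff.1 (hodd.of_dvd_nat (hdvd χ))
    have h8 : d χ % 8 = 1 ∨ d χ % 8 = 3 ∨ d χ % 8 = 5 ∨ d χ % 8 = 7 := by omega
    rw [Nat.mul_mod]
    rcases h8 with h | h | h | h <;> rw [h]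
  rw [h1] at hG
  unfold Nat.ModEq
  rw [hk]
  omega

end Cfsg.Agent.S0162
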