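import Cfsg.Statements.S0166
import Cfsg.Agent.Lib.BrauerInduction

set_option autoImplicit false
open Cfsg

namespace Cfsg.Agent.S0166

open scoped ComplexConjugate IntermediateField
open Finset Cfsg.Agent.CharBasic Cfsg.Agent.CharBasicOrth Cfsg.Agent.CharBasicDecomp
open Cfsg.Agent.CharInduced

universe u v

variable {G : Type u} [Group G] {K : IntermediateField ℚ ℂ}

/-- The complex function of a character over `K`. -/
noncomputable def cc {V : Type v} [AddCommGroup V] [Module K V] (ρ : Representation K G V) :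
    G → ℂ := fun g => ((ρ.character g : K) : ℂ)

/-- Characters of representations over `K`. -/
def Rlz (K : IntermediateField ℚ ℂ) (χ : G → ℂ) : Prop :=
  ∃ (n : ℕ) (σ : Representation K G (Fin n → K)), cc σ = χ

/-- Characters of irreducible representations over `K`. -/
def IrrK (K : IntermediateField ℚ ℂ) (χ : G → ℂ) : Prop :=
  ∃ (n : ℕ) (σ : Representation K G (Fin n → K)), σ.IsIrreducible ∧ cc σ = χ

/-- Transport to coordinates. -/
noncomputable def coordRep {V : Type v} [AddCommGroup V] [Module K V] [FiniteDimensional K V]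
    (ρ : Representation K G V) : Representation K G (Fin (Module.finrank K V) → K) where
  toFun g := (Module.finBasis K V).equivFun.conj (ρ g)
  map_one' := by
    rw [map_one, Module.End.one_eq_id, LinearEquiv.conj_id]; rfl
  map_mul' a b := by
    rw [map_mul]; ext; simp [LinearEquiv.conj_apply]

theorem rlz_of_rep {V : Type v} [AddCommGroup V] [Module K V] [FiniteDimensional K V]
    (ρ : Representation K G V) : Rlz K (cc ρ) :=
  ⟨_, coordRep ρ, funext fun g => congrArg (Subtype.val : K → ℂ)
    (LinearMap.trace_conj' (ρ g) (Module.finBasis K V).equivFun)⟩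

theorem rlz_zero : Rlz (G := G) K 0 :=
  ⟨0, 1, funext fun g => by simp [cc, Representation.character]⟩

theorem rlz_add {a b : G → ℂ} (ha : Rlz K a) (hb : Rlz K b) : Rlz K (a + b) := by
  obtain ⟨n, σ, rfl⟩ := ha
  obtain ⟨m, τ, rfl⟩ := hb
  have h := rlz_of_rep (σ.prod τ)
  have e : cc (σ.prod τ) = cc σ + cc τ := funext fun g => by
    show (((σ.prod τ).character g : K) : ℂ) = _
    rw [Representation.character, show (σ.prod τ) g = (σ g).prodMap (τ g) from rfl, LinearMap.trace_prodMap']
    rfl
  rwa [e] at h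

/-- A representation in coordinates with entries in `K`. -/
noncomputable def baseChange {n : ℕ} (σ : Representation K G (Fin n → K)) :
    Representation ℂ G (Fin n → ℂ) where
  toFun g := Matrix.toLin' ((LinearMap.toMatrix' (σ g)).map (fun x : K => (x : ℂ)))
  map_one' := by
    rw [map_one, Module.End.one_eq_id, LinearMap.toMatrix'_id,
      Matrix.map_one _ (by simp) (by simp), Matrix.toLin'_one]
    rfl
  map_mul' a b := by
    rw [map_mul, Module.End.mul_eq_comp (σ a), LinearMap.toMatrix'_comp,
      show (fun x : K => (x : ℂ)) = ⇑(algebraMap K ℂ) from rfl, Matrix.map_mul, Matrix.toLin'_mul]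
    rfl

theorem baseChange_character {n : ℕ} (σ : Representation K G (Fin n → K)) :
    (baseChange σ).character = cc σ := by
  funext g
  show LinearMap.trace ℂ _ (baseChange σ g) = ((LinearMap.trace K _ (σ g) : K) : ℂ)
  rw [LinearMap.trace_eq_matrix_trace ℂ (Pi.basisFun ℂ (Fin n)),
    LinearMap.trace_eq_matrix_trace K (Pi.basisFun K (Fin n))]
  rw [LinearMap.toMatrix_eq_toMatrix', LinearMap.toMatrix_eq_toMatrix']
  simp [baseChange, Matrix.trace]

/-- Monomial representations over `K`. -/
noncomputable def monRep (H : Subgroup G) (μ : H →* K) : Representation K G (G ⧸ H → K) where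
  toFun g :=
    { toFun := fun f q => μ (indCocycle H g q) * f (g⁻¹ • q)
      map_add' := fun f₁ f₂ => by funext q; simp [mul_add]
      map_smul' := fun c f => by funext q; simp [mul_left_comm] }
  map_one' := by
    refine LinearMap.ext fun f => funext fun q => ?_
    show μ (indCocycle H 1 q) * f ((1 : G)⁻¹ • q) = f q
    rw [indCocycle_one, map_one, inv_one, one_smul, one_mul]
  map_mul' g k := by
    refine LinearMap.ext fun f => funext fun q => ?_
    show μ (indCocycle H (g * k) q) * f ((g * k)⁻¹ • q) =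
      μ (indCocycle H g q) * (μ (indCocycle H k (g⁻¹ • q)) * f (k⁻¹ • g⁻¹ • q))
    rw [indCocycle_mul, map_mul, mul_inv_rev, mul_smul, mul_assoc]

theorem rlz_ind [Fintype G] (H : Subgroup G) (lam : H →* ℂˣ) (hK : ∀ h, (lam h : ℂ) ∈ K) :
    Rlz K (indFun H fun h => (lam h : ℂ)) := by
  classical
  let μ : H →* K :=
    { toFun := fun h => ⟨(lam h : ℂ), hK h⟩
      map_one' := Subtype.ext (by simp)
      map_mul' := fun a b => Subtype.ext (by simp) }
  have : Fintype (G ⧸ H) := Fintype.ofFinite _
  have e : cc (monRep H μ) = indFun H fun h => (lam h : ℂ) := by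
    funext g
    rw [ind_eq_sum_quotient H (fun a h => by simp [mul_comm (lam h)])]
    show ((LinearMap.trace K (G ⧸ H → K) (monRep H μ g) : K) : ℂ) = _
    rw [LinearMap.trace_eq_matrix_trace K (Pi.basisFun K (G ⧸ H)), Matrix.trace]
    rw [AddSubmonoidClass.coe_finset_sum]
    refine Finset.sum_congr rfl fun q _ => ?_
    rw [Matrix.diag_apply, LinearMap.toMatrix_apply]
    simp only [Pi.basisFun_repr, Pi.basisFun_apply]
    show ((μ (indCocycle H g q) * (Pi.single q (1 : K) : G ⧸ H → K) (g⁻¹ • q) : K) : ℂ) = _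
    by_cases hq : g⁻¹ • q = q
    · rw [ext_zero_of_mem _ ((smul_inv_eq_iff_mem g q).1 hq), congrArg (Pi.single q (1 : K) : G ⧸ H → K) hq, Pi.single_eq_same, mul_one]
      show ((lam _ : ℂˣ) : ℂ) = _
      congr 2
      ext
      simp [indCocycle, hq]
    · rw [ext_zero_of_not_mem _ fun h => hq ((smul_inv_eq_iff_mem g q).2 h), Pi.single_eq_of_ne hq,
        mul_zero]
      rfl
  exact e ▸ rlz_of_rep (monRep H μ)

theorem irrK_mem_closure [Finite G] (d : ℕ) : ∀ (n : ℕ) (σ : Representation K G (Fin n → K)), n = d →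
    cc σ ∈ Submodule.span ℤ {χ : G → ℂ | IrrK K χ} := by
  induction d using Nat.strong_induction_on with
  | _ d ih =>
  intro n σ hn
  by_cases h0 : n = 0
  · subst h0
    rw [show cc σ = 0 from funext fun g => by
      show ((LinearMap.trace K _ (σ g) : K) : ℂ) = 0
      rw [Subsingleton.elim (σ g) 0, map_zero]; rfl]
    exact Submodule.zero_mem _
  by_cases hirr : σ.IsIrreducible
  · exact Submodule.subset_span ⟨n, σ, hirr, rfl⟩
  have : Nontrivial (Fin n → K) := by
    have : Nonempty (Fin n) := ⟨⟨0, Nat.pos_of_ne_zero h0⟩⟩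
    infer_instance
  have : Nontrivial (Subrepresentation σ) :=
    ⟨⊥, ⊤, fun e => bot_ne_top (α := Submodule K (Fin n → K)) (congrArg Subrepresentation.toSubmodule e)⟩
  obtain ⟨U, hb, ht⟩ : ∃ U : Subrepresentation σ, U ≠ ⊥ ∧ U ≠ ⊤ := by
    by_contra hc
    push Not at hc
    exact hirr ⟨fun U => or_iff_not_imp_left.2 (hc U)⟩
  have : NeZero (Nat.card G : K) := ⟨Nat.cast_ne_zero.2 Nat.card_pos.ne'⟩
  obtain ⟨U', h⟩ := ComplementedLattice.exists_isCompl U
  have hUU' : IsCompl U.toSubmodule U'.toSubmodule := by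
    refine ⟨?_, ?_⟩
    · rw [disjoint_iff, ← Subrepresentation.toSubmodule_inf, disjoint_iff.1 h.1]; rfl
    · rw [codisjoint_iff, ← Subrepresentation.toSubmodule_sup, codisjoint_iff.1 h.2]; rfl
  have hsum := Submodule.finrank_add_eq_of_isCompl hUU'
  rw [Module.finrank_fin_fun] at hsum
  have h1 : 0 < Module.finrank K U.toSubmodule := Nat.pos_of_ne_zero fun h0 => hb
    (Subrepresentation.toSubmodule_injective (Submodule.finrank_eq_zero.1 h0))
  have h2 : Module.finrank K U.toSubmodule < n := by
    have := Submodule.finrank_lt (s := U.toSubmodule) fun e => ht (Subrepresentation.toSubmodule_injective e)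
    rwa [Module.finrank_fin_fun] at this
  have hcc : cc σ = cc (coordRep U.toRepresentation) + cc (coordRep U'.toRepresentation) := by
    funext g
    show ((LinearMap.trace K _ (σ g) : K) : ℂ) = ((LinearMap.trace K _ _ : K) : ℂ) + ((LinearMap.trace K _ _ : K) : ℂ)
    rw [coordRep, coordRep]
    simp only [MonoidHom.coe_mk, OneHom.coe_mk, LinearMap.trace_conj']
    have he : (Submodule.prodEquivOfIsCompl _ _ hUU').conj ((U.toRepresentation g).prodMap (U'.toRepresentation g)) = σ g := by
      refine LinearMap.ext fun x => ?_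
      obtain ⟨⟨a, b⟩, rfl⟩ := (Submodule.prodEquivOfIsCompl _ _ hUU').surjective x
      simp only [LinearEquiv.conj_apply, LinearMap.comp_apply, LinearEquiv.coe_coe, LinearEquiv.symm_apply_apply]
      show ((U.toRepresentation g a : Fin n → K) + (U'.toRepresentation g b : Fin n → K)) = σ g ((a : Fin n → K) + (b : Fin n → K))
      rw [map_add]
      rfl
    rw [← he, LinearMap.trace_conj', LinearMap.trace_prodMap']
    rfl
  rw [hcc]
  exact Submodule.add_mem _ (ih _ (hn ▸ h2) _ _ rfl) (ih _ (by omega) _ _ rfl)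

theorem rlz_of_mem_span [Fintype G] {χ : G → ℂ} (hχ : IsIrrCharacter G χ)
    (hmem : χ ∈ Submodule.span ℤ {χ : G → ℂ | IrrK K χ}) : Rlz K χ := by
  classical
  obtain ⟨c, hsupp, hcsum⟩ := Submodule.mem_span_set.1 hmem
  -- inner products over `K`
  have : Invertible (Nat.card G : K) := invertibleOfNonzero (Nat.cast_ne_zero.2 Nat.card_pos.ne')
  have hinner : ∀ {n m : ℕ} (σ : Representation K G (Fin n → K)) (τ : Representation K G (Fin m → K)),
      classInner (cc σ) (cc τ) = (Module.finrank K (Representation.IntertwiningMap τ σ) : ℂ) := by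
    intro n m σ τ
    have h := congrArg (algebraMap K ℂ) (Representation.card_inv_mul_sum_char_mul_char_eq_finrank τ σ)
    simp only [map_mul, map_inv₀, map_natCast, map_sum] at h
    rw [← h, classInner]
    congr 1
    refine Finset.sum_congr rfl fun g _ => ?_
    congr 1
    rw [← baseChange_character τ, ← CharBasic.character_inv (baseChange τ) g, baseChange_character]
    rfl
  have horth : ∀ a ∈ c.support, ∀ b ∈ c.support, a ≠ b → classInner a b = 0 := by
    intro a ha b hb hab
    obtain ⟨n, σ, hσ, rfl⟩ := hsupp ha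
    obtain ⟨m, τ, hτ, rfl⟩ := hsupp hb
    have : IsEmpty (τ.Equiv σ) := ⟨fun φ => hab (funext fun g => by
      show ((σ.character g : K) : ℂ) = ((τ.character g : K) : ℂ)
      rw [Representation.char_iso φ])⟩
    rw [hinner, Module.finrank_zero_of_subsingleton, Nat.cast_zero]
  have hself : ∀ a ∈ c.support, ∃ k : ℕ, 0 < k ∧ classInner a a = (k : ℂ) := by
    intro a ha
    obtain ⟨n, σ, hσ, rfl⟩ := hsupp ha
    refine ⟨_, ?_, hinner σ σ⟩
    have hne : Representation.IntertwiningMap.id σ ≠ 0 := by
      intro h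
      have : Nontrivial (Fin n → K) := by
        by_contra hc
        rw [not_nontrivial_iff_subsingleton] at hc
        exact (bot_ne_top (α := Subrepresentation σ)) (Subrepresentation.toSubmodule_injective (Subsingleton.elim _ _))
      obtain ⟨v, hv⟩ := exists_ne (0 : Fin n → K)
      exact hv (congrArg (fun f => f.toLinearMap v) h)
    exact Module.finrank_pos_iff_exists_ne_zero.2 ⟨_, hne⟩
  choose k hkpos hk using hself
  have hχ' : χ = ∑ a ∈ c.support, (c a : ℂ) • a := by
    rw [← hcsum, Finsupp.sum]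
    exact Finset.sum_congr rfl fun a _ => (Int.cast_smul_eq_zsmul ℂ (c a) a).symm
  have hnorm : ∑ a ∈ c.support.attach, (c a) ^ 2 * (k a a.2 : ℤ) = 1 := by
    have h := classInner_irr_self hχ
    rw [hχ', CharInduced.inner_sum_left, ← Finset.sum_attach] at h
    rw [Finset.sum_congr rfl (g := fun a : {x // x ∈ c.support} => (((c a) ^ 2 * (k a a.2 : ℤ) : ℤ) : ℂ))
      (fun a _ => by
        rw [CharInduced.inner_smul_left, CharInduced.inner_sum_right, Finset.sum_eq_single (a : G → ℂ)
          (fun b hb hne => by rw [CharInduced.inner_smul_right, horth _ a.2 b hb hne.symm, mul_zero])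
          (fun h => absurd a.2 h), CharInduced.inner_smul_right, hk _ a.2, map_intCast]
        push_cast; ring), ← Int.cast_sum] at h
    exact_mod_cast h
  have hone : ∀ a : {x // x ∈ c.support}, 1 ≤ (c a) ^ 2 * (k a a.2 : ℤ) := by
    intro a
    have h1 : 1 ≤ (c a) ^ 2 := (sq_pos_iff.2 (Finsupp.mem_support_iff.1 a.2))
    have h2 : (1 : ℤ) ≤ (k a a.2 : ℤ) := by exact_mod_cast hkpos a a.2
    nlinarith
  have hcard : c.support.card ≤ 1 := by
    have h := Finset.card_nsmul_le_sum c.support.attach (fun a => (c a) ^ 2 * (k a a.2 : ℤ)) 1 (fun a _ => hone a)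
    rw [hnorm, Finset.card_attach, nsmul_one] at h
    exact_mod_cast h
  rcases Nat.le_one_iff_eq_zero_or_eq_one.1 hcard with h0 | h1
  · exfalso
    rw [Finset.card_eq_zero] at h0
    rw [h0, Finset.sum_empty] at hχ'
    exact CharBasic.isIrrCharacter_apply_one_ne_zero hχ (congrFun hχ' 1)
  obtain ⟨a, ha⟩ := Finset.card_eq_one.1 h1
  rw [ha, Finset.sum_singleton] at hχ'
  have hmem' : a ∈ c.support := ha ▸ Finset.mem_singleton_self a
  have hc1 : c a = 1 ∨ c a = -1 := by
    have h := Finset.single_le_sum (f := fun b : {x // x ∈ c.support} => (c b) ^ 2 * (k b b.2 : ℤ))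
      (fun b _ => le_trans zero_le_one (hone b)) (Finset.mem_attach _ ⟨a, hmem'⟩)
    rw [hnorm] at h
    have h2 : (1 : ℤ) ≤ (k a hmem' : ℤ) := by exact_mod_cast hkpos a hmem'
    have h3 : (c a) ^ 2 ≤ 1 := by nlinarith [sq_nonneg (c a)]
    have h4 : c a ≠ 0 := Finsupp.mem_support_iff.1 hmem'
    have h5 : -1 ≤ c a := by nlinarith
    have h6 : c a ≤ 1 := by nlinarith
    omega
  obtain ⟨n, σ, -, rfl⟩ := hsupp hmem'
  rcases hc1 with h | h
  · rw [h, Int.cast_one, one_smul] at hχ'
    exact ⟨n, σ, hχ'.symm⟩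
  · exfalso
    obtain ⟨d, hd, hd1⟩ := CharBasic.isIrrCharacter_apply_one hχ
    have h2 := congrFun hχ' 1
    rw [hd1, h, Pi.smul_apply, smul_eq_mul, ← baseChange_character, Representation.char_one] at h2
    push_cast at h2
    have h3 : (d : ℂ) + (Module.finrank ℂ (Fin n → ℂ) : ℂ) = 0 := by linear_combination h2
    rw [← Nat.cast_add, Nat.cast_eq_zero] at h3
    omega

theorem splitting [Finite G] (n : ℕ) (ρ : Representation ℂ G (Fin n → ℂ)) :
    ∃ σ : Representation ℂ G (Fin n → ℂ), Nonempty (ρ.Equiv σ) ∧ ∀ g : G, ∀ i j : Fin n,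
      LinearMap.toMatrix' (σ g) i j ∈ Algebra.adjoin ℚ
        ({Complex.exp (2 * Real.pi * Complex.I / (Monoid.exponent G : ℂ))} : Set ℂ) := by
  classical
  have := Fintype.ofFinite G
  set m := Monoid.exponent G with hm
  set ζ := Complex.exp (2 * Real.pi * Complex.I / (m : ℂ)) with hζ
  have hm0 : m ≠ 0 := Monoid.exponent_ne_zero_of_finite
  have hprim : IsPrimitiveRoot ζ m := Complex.isPrimitiveRoot_exp m hm0
  have halg : IsAlgebraic ℚ ζ := (hprim.isIntegral (Nat.pos_of_ne_zero hm0)).tower_top.isAlgebraic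
  let K : IntermediateField ℚ ℂ := ℚ⟮ζ⟯
  have hroot : ∀ z : ℂ, z ^ m = 1 → z ∈ K := by
    intro z hz
    haveI : NeZero m := ⟨hm0⟩
    obtain ⟨i, -, rfl⟩ := hprim.eq_pow_of_pow_eq_one hz
    exact pow_mem (IntermediateField.mem_adjoin_simple_self ℚ ζ) i
  have hirr : ∀ η : IrrCharacter G, Rlz K (η : G → ℂ) := by
    intro η
    refine rlz_of_mem_span η.2 ?_
    obtain ⟨l, -, hl⟩ := BrauerInduction.brauer_induction (CharBasic.isCharacter_of_isIrrCharacter η.2)
    rw [hl]
    refine list_sum_mem fun f hf => ?_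
    obtain ⟨t, -, rfl⟩ := List.mem_map.1 hf
    rw [Int.cast_smul_eq_zsmul]
    refine Submodule.smul_mem _ _ ?_
    obtain ⟨k, σ, hσ⟩ := rlz_ind (K := K) t.1 t.2.1 (fun h => hroot _ (by
      rw [← Units.val_pow_eq_pow_val, ← map_pow, show h ^ m = 1 from Subtype.ext (by
        rw [Subgroup.coe_pow, hm, Monoid.pow_exponent_eq_one]; rfl), map_one, Units.val_one]))
    exact hσ ▸ irrK_mem_closure k k σ rfl
  obtain ⟨c, -, hc⟩ := exists_mult (CharBasic.isCharacter_of_rep ρ)
  have hρ : Rlz K ρ.character := by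
    rw [hc]
    refine Finset.sum_induction _ (Rlz K) (fun a b => rlz_add) rlz_zero fun η _ => ?_
    rw [Nat.cast_smul_eq_nsmul]
    induction c η with
    | zero => rw [zero_smul]; exact rlz_zero
    | succ i hi => rw [succ_nsmul]; exact rlz_add hi (hirr η)
  obtain ⟨d, σ, hσ⟩ := hρ
  have hdn : d = n := by
    have h := congrFun ((baseChange_character σ).trans hσ) 1
    rw [Representation.char_one, Representation.char_one, Module.finrank_fin_fun, Module.finrank_fin_fun] at h
    exact_mod_cast h
  subst hdn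
  refine ⟨baseChange σ, nonempty_equiv_of_character_eq ρ _ ((baseChange_character σ).trans hσ).symm,
    fun g i j => ?_⟩
  have h : LinearMap.toMatrix' (baseChange σ g) i j ∈ K := by
    show LinearMap.toMatrix' (Matrix.toLin' _) i j ∈ K
    rw [LinearMap.toMatrix'_toLin']
    exact SetLike.coe_mem _
  rw [← IntermediateField.adjoin_simple_toSubalgebra_of_isAlgebraic halg]
  exact h

/-- Brauer's splitting field Theorem: a complex representation of a finite group of exponent m is equivalent to a representation by matrices with entries in ℚ adjoined exp(2πi/m). -/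
theorem result {G : Type*} [Group G] [Finite G] (n : ℕ) (ρ : Representation ℂ G (Fin n → ℂ)) : ∃ σ : Representation ℂ G (Fin n → ℂ), Nonempty (ρ.Equiv σ) ∧ ∀ g : G, ∀ i j : Fin n, LinearMap.toMatrix' (σ g) i j ∈ Algebra.adjoin ℚ ({Complex.exp (2 * Real.pi * Complex.I / (Monoid.exponent G : ℂ))} : Set ℂ) := by
  classical
  exact splitting n ρ

end Cfsg.Agent.S0166
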