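import Cfsg.Statements.S0167
import Cfsg.Agent.Lib.CharBasicPerm
import Cfsg.Agent.Lib.CharBasicInt

set_option autoImplicit false
open Cfsg

namespace Cfsg.Agent.S0167

open Cfsg.Agent.CharBasic Cfsg.Agent.CharBasicOrth Cfsg.Agent.CharBasicDecomp
open scoped ComplexConjugate

theorem conv_eq {G : Type*} [Group G] [Fintype G] (χ : Cfsg.IrrCharacter G) (g : G) :
    ∑ a, (χ : G → ℂ) a * (χ : G → ℂ) (a⁻¹ * g) =
      (Nat.card G : ℂ) * ((χ : G → ℂ) g / (χ : G → ℂ) 1) := by
  obtain ⟨χ, n, ρ, hρ, rfl⟩ := χ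
  have hf : Cfsg.IsClassFunction G fun a => ρ.character a⁻¹ := fun a h => by
    have h1 : (h * a * h⁻¹)⁻¹ = h * a⁻¹ * h⁻¹ := by group
    simp only [h1, isClassFunction_character ρ a⁻¹ h]
  have hs : ∑ a, ρ.character a⁻¹ * ρ.character a = (Nat.card G : ℂ) := by
    have h2 := card_mul_classInner ρ.character ρ.character
    rw [classInner_character_irreducible_self, mul_one] at h2
    rw [h2]
    exact Finset.sum_congr rfl fun a _ => by rw [character_inv, mul_comm]
  have h := CharBasicInt.sum_smul_rep_eq ρ hf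
  rw [hs] at h
  have h2 := congrArg (fun T => LinearMap.trace ℂ _ (T * ρ g)) h
  simp only [Finset.sum_mul, map_sum, smul_mul_assoc, map_smul, ← map_mul] at h2
  rw [show (LinearMap.id : Module.End ℂ (Fin n → ℂ)) = 1 from rfl, one_mul] at h2
  change _ = _ * (ρ.character g / ρ.character 1)
  rw [Representation.char_one]
  calc ∑ a, ρ.character a * ρ.character (a⁻¹ * g)
      = ∑ a, ρ.character a⁻¹ * ρ.character (a * g) := by
        refine Fintype.sum_equiv (Equiv.inv G) _ _ fun a => ?_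
        simp
    _ = _ := by
        simp only [smul_eq_mul] at h2
        refine h2.trans ?_
        rw [show LinearMap.trace ℂ (Fin n → ℂ) (ρ g) = ρ.character g from rfl]
        ring

theorem count_eq {G : Type*} [Group G] [Fintype G] (g : G) :
    (Nat.card {p : G × G // g = p.1 * p.2 * p.1⁻¹ * p.2⁻¹} : ℂ) =
      (Nat.card G : ℂ) * ∑ χ : Cfsg.IrrCharacter G, (χ : G → ℂ) g / (χ : G → ℂ) 1 := by
  classical
  rw [Nat.card_eq_fintype_card, Fintype.card_subtype, Finset.card_filter, Fintype.sum_prod_type,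
    Nat.cast_sum, Finset.mul_sum]
  have h : ∀ a : G, ((∑ b : G, if g = a * b * a⁻¹ * b⁻¹ then 1 else 0 : ℕ) : ℂ) =
      ∑ χ : Cfsg.IrrCharacter G, (χ : G → ℂ) a * (χ : G → ℂ) (a⁻¹ * g) := by
    intro a
    rw [← Finset.card_filter, ← Fintype.card_subtype, ← Nat.card_eq_fintype_card]
    have e : {b : G // g = a * b * a⁻¹ * b⁻¹} ≃ {b : G // b * a⁻¹ * b⁻¹ = a⁻¹ * g} :=
      Equiv.subtypeEquivRight fun b => by
        constructor
        · intro h; rw [h]; group
        · intro h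
          calc g = a * (a⁻¹ * g) := by group
            _ = _ := by rw [← h]; group
    rw [Nat.card_congr e, CharBasicPerm.card_conjugators]
    rw [Nat.cast_ite, Nat.cast_zero, ← sum_irr_mul_conj a⁻¹ (a⁻¹ * g)]
    have hc : ∀ χ : Cfsg.IrrCharacter G,
        (χ : G → ℂ) a⁻¹ = conj ((χ : G → ℂ) a) :=
      fun χ => isCharacter_inv (isCharacter_of_isIrrCharacter χ.2) a
    have hreal : conj (∑ χ : Cfsg.IrrCharacter G,
        (χ : G → ℂ) a⁻¹ * conj ((χ : G → ℂ) (a⁻¹ * g))) =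
        ∑ χ : Cfsg.IrrCharacter G, (χ : G → ℂ) a⁻¹ * conj ((χ : G → ℂ) (a⁻¹ * g)) := by
      rw [sum_irr_mul_conj]; split_ifs <;> simp
    rw [← hreal, map_sum]
    simp only [map_mul, hc, Complex.conj_conj]
  simp only [h]
  rw [Finset.sum_comm]
  exact Finset.sum_congr rfl fun χ _ => conv_eq χ g


/-- An element g of a finite group is a commutator if and only if the sum over the irreducible characters χ of χ g / χ 1 is nonzero. -/
theorem result {G : Type*} [Group G] [Finite G] (g : G) : (∃ a b : G, g = a * b * a⁻¹ * b⁻¹) ↔ ∑ᶠ χ : Cfsg.IrrCharacter G, (χ : G → ℂ) g / (χ : G → ℂ) 1 ≠ 0 := by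
  have := Fintype.ofFinite G
  rw [finsum_eq_sum_of_fintype]
  constructor
  · rintro ⟨a, b, h⟩ h0
    have hc := count_eq g
    rw [h0, mul_zero, Nat.cast_eq_zero] at hc
    have : Nonempty {p : G × G // g = p.1 * p.2 * p.1⁻¹ * p.2⁻¹} := ⟨⟨(a, b), h⟩⟩
    exact Nat.card_pos.ne' hc
  · intro hne
    by_contra hno
    have : IsEmpty {p : G × G // g = p.1 * p.2 * p.1⁻¹ * p.2⁻¹} :=
      ⟨fun p => hno ⟨p.1.1, p.1.2, p.2⟩⟩
    have hc := count_eq g
    rw [Nat.card_of_isEmpty, Nat.cast_zero] at hc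
    exact hne ((mul_eq_zero.1 hc.symm).resolve_left (Nat.cast_ne_zero.2 Nat.card_pos.ne'))

end Cfsg.Agent.S0167
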