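import Cfsg.Agent.Lib.DegreeDvd

set_option autoImplicit false

namespace Cfsg.Agent.S0169

/-- Itô's theorem for an irreducible representation. -/
theorem result {G : Type*} [Group G] [Finite G] {V : Type*} [AddCommGroup V] [Module ℂ V] [FiniteDimensional ℂ V] (ρ : Representation ℂ G V) [ρ.IsIrreducible] (H : Subgroup G) [H.Normal] (hH : ∀ a ∈ H, ∀ b ∈ H, a * b = b * a) : Module.finrank ℂ V ∣ H.index := by
  obtain ⟨n, -, hn, hdvd⟩ := DegreeDvd.degree_dvd_index_abelian (CharBasic.isIrrCharacter_of_rep ρ) H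
    (fun a b => Subtype.ext (hH a a.2 b b.2))
  rw [Representation.char_one, Nat.cast_inj] at hn
  rwa [hn]

end Cfsg.Agent.S0169
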