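import Mathlib
import Cfsg.Statements.S0198
import Cfsg.Agent.Lib.CharBasicDecomp

set_option autoImplicit false
open Cfsg

namespace Cfsg.Agent.S0198

open Cfsg.Agent.CharBasicOrth Cfsg.Agent.CharBasicDecomp

/-- A generalized character of norm two vanishing at the identity is a difference of two
irreducible characters. -/
theorem exists_eq_sub {G : Type*} [Group G] [Fintype G] {θ : G → ℂ}
    (hg : Cfsg.IsGeneralizedCharacter G θ) (h2 : Cfsg.classInner θ θ = 2) (h1 : θ 1 = 0) :
    ∃ p q : Cfsg.IrrCharacter G, p ≠ q ∧ θ = (p : G → ℂ) - (q : G → ℂ) := by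
  classical
  obtain ⟨m, hm, hsum⟩ := exists_int_coeff hg
  have hsq : ∑ ψ, m ψ * m ψ = 2 := by
    have h3 := classInner_eq_sum (φ := θ) (isClassFunction_of_isGeneralizedCharacter hg)
    simp only [h2, hm, map_intCast] at h3
    exact_mod_cast h3.symm
  have hone : ∀ ψ, m ψ = 0 ∨ m ψ = 1 ∨ m ψ = -1 := fun ψ => by
    have h := Finset.single_le_sum (fun x _ => mul_self_nonneg (m x)) (Finset.mem_univ ψ)
    rw [hsq] at h
    have ha : -1 ≤ m ψ := by nlinarith
    have hb : m ψ ≤ 1 := by nlinarith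
    omega
  let A := Finset.univ.filter (fun ψ => m ψ ≠ 0)
  have hA : A.card = 2 := by
    have h : ∑ ψ, m ψ * m ψ = ∑ ψ, if m ψ ≠ 0 then (1 : ℤ) else 0 :=
      Finset.sum_congr rfl fun ψ _ => by rcases hone ψ with h | h | h <;> simp [h]
    rw [hsq, Finset.sum_boole] at h
    exact_mod_cast h.symm
  obtain ⟨p, q, hpq, hAeq⟩ := Finset.card_eq_two.1 hA
  have hsum' : θ = (m p : ℂ) • (p : G → ℂ) + (m q : ℂ) • (q : G → ℂ) := by
    conv_lhs => rw [hsum]
    rw [← Finset.sum_subset (Finset.subset_univ A) (fun x _ hx => by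
      have : m x = 0 := by simpa [A] using hx
      simp [this]), hAeq, Finset.sum_pair hpq]
  obtain ⟨a, ha, hpa⟩ := CharBasic.isIrrCharacter_apply_one p.2
  obtain ⟨b, hb, hqb⟩ := CharBasic.isIrrCharacter_apply_one q.2
  have h0 : (m p : ℤ) * a + m q * b = 0 := by
    have h := congrFun hsum' 1
    rw [h1] at h
    simp only [Pi.add_apply, Pi.smul_apply, smul_eq_mul, hpa, hqb] at h
    exact_mod_cast h.symm
  have hp : m p ≠ 0 := by
    have : p ∈ A := by rw [hAeq]; simp
    simpa [A] using this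
  have hq : m q ≠ 0 := by
    have : q ∈ A := by rw [hAeq]; simp
    simpa [A] using this
  rcases hone p with hp' | hp' | hp'
  · exact absurd hp' hp
  · rcases hone q with hq' | hq' | hq'
    · exact absurd hq' hq
    · exfalso; rw [hp', hq'] at h0; omega
    · exact ⟨p, q, hpq, funext fun x => by simp [hsum', hp', hq', sub_eq_add_neg]⟩
  · rcases hone q with hq' | hq' | hq'
    · exact absurd hq' hq
    · exact ⟨q, p, hpq.symm, funext fun x => by simp [hsum', hp', hq', sub_eq_add_neg, add_comm]⟩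
    · exfalso; rw [hp', hq'] at h0; omega

/-- The isometry lemma behind exceptional characters. Let τ be a family of generalized characters of a finite group G indexed by Fin n, with τ i₀ = 0, every τ i vanishing at the identity, and inner products ⟨τ i, τ j⟩ = 2 if i = j and 1 otherwise for i, j ≠ i₀. Then there are a sign ε and pairwise distinct irreducible characters μ i with τ i = ε (μ i − μ i₀) for all i. -/
theorem result {G : Type*} [Group G] [Fintype G] (n : ℕ) (i₀ : Fin n) (τ : Fin n → (G → ℂ)) (h0 : τ i₀ = 0) (hgen : ∀ i, Cfsg.IsGeneralizedCharacter G (τ i)) (hone : ∀ i, τ i 1 = 0) (hgram : ∀ i j, i ≠ i₀ → j ≠ i₀ → Cfsg.classInner (τ i) (τ j) = if i = j then 2 else 1) : ∃ ε : ℂ, (ε = 1 ∨ ε = -1) ∧ ∃ μ : Fin n → (G → ℂ), (∀ i, Cfsg.IsIrrCharacter G (μ i)) ∧ Function.Injective μ ∧ ∀ i, τ i = ε • (μ i - μ i₀) := by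
  classical
  by_cases hall : ∀ i, i = i₀
  · refine ⟨1, .inl rfl, fun _ _ => 1, fun i => CharBasicDecomp.isIrrCharacter_one,
      fun i j _ => (hall i).trans (hall j).symm, fun i => ?_⟩
    rw [hall i, h0]; simp
  push Not at hall
  obtain ⟨i₁, hi₁⟩ := hall
  have hex : ∀ i : {i : Fin n // i ≠ i₀}, ∃ p q : Cfsg.IrrCharacter G,
      p ≠ q ∧ τ i = (p : G → ℂ) - (q : G → ℂ) := fun i =>
    exists_eq_sub (hgen i) (by rw [hgram i i i.2 i.2, if_pos rfl]) (hone i)
  choose p q hpq hτ using hex
  have hrel : ∀ i j : {i : Fin n // i ≠ i₀}, i ≠ j →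
      (p i = p j ∧ q i ≠ q j) ∨ (q i = q j ∧ p i ≠ p j) := by
    intro i j hij
    have h := hgram i j i.2 j.2
    rw [if_neg (fun e => hij (Subtype.ext e)), hτ, hτ, classInner_sub_left, classInner_sub_right,
      classInner_sub_right] at h
    simp only [classInner_irrCharacter] at h
    by_cases a : p i = p j <;> by_cases b : q i = q j
    · exfalso
      rw [if_pos a, if_pos b, if_neg (fun e => hpq j (a.symm.trans e)),
        if_neg (fun e => hpq i (e.trans a.symm).symm)] at h
      norm_num at h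
    · exact .inl ⟨a, b⟩
    · exact .inr ⟨b, a⟩
    · exfalso
      rw [if_neg a, if_neg b] at h
      split_ifs at h <;> norm_num at h
  let I := {i : Fin n // i ≠ i₀}
  -- all pairs share the same side
  have hside : (∀ i j : I, p i = p j ∧ (i ≠ j → q i ≠ q j)) ∨
      (∀ i j : I, q i = q j ∧ (i ≠ j → p i ≠ p j)) := by
    by_cases hc : ∃ i j : I, i ≠ j ∧ p i = p j
    · left
      obtain ⟨i, j, hij, hp⟩ := hc
      have hq : q i ≠ q j := ((hrel i j hij).resolve_right fun h => h.2 hp).2
      have key : ∀ k : I, p k = p i := by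
        intro k
        by_contra hk
        have hki : k ≠ i := fun e => hk (by rw [e])
        have hkj : k ≠ j := fun e => hk (by rw [e]; exact hp.symm)
        have h1 := ((hrel k i hki).resolve_left fun h => hk h.1).1
        have h2 := ((hrel k j hkj).resolve_left fun h => hk (h.1.trans hp.symm)).1
        exact hq (h1.symm.trans h2)
      intro a b
      have hab : p a = p b := (key a).trans (key b).symm
      exact ⟨hab, fun hne => ((hrel a b hne).resolve_right fun h => h.2 hab).2⟩
    · right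
      push Not at hc
      intro a b
      by_cases hab : a = b
      · subst hab; exact ⟨rfl, fun h => absurd rfl h⟩
      · exact ⟨((hrel a b hab).resolve_left fun h => hc a b hab h.1).1, fun h => hc a b h⟩
  rcases hside with hs | hs
  · refine ⟨-1, .inr rfl, fun i => if h : i = i₀ then (p ⟨i₁, hi₁⟩ : G → ℂ) else (q ⟨i, h⟩ : G → ℂ),
      fun i => ?_, ?_, fun i => ?_⟩
    · dsimp only; split
      · exact (p _).2
      · exact (q _).2
    · intro i j hij
      dsimp only at hij
      by_cases hi : i = i₀ <;> by_cases hj : j = i₀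
      · rw [hi, hj]
      · rw [dif_pos hi, dif_neg hj] at hij
        exact absurd ((hs ⟨i₁, hi₁⟩ ⟨j, hj⟩).1.symm.trans (Subtype.ext hij)) (hpq _)
      · rw [dif_neg hi, dif_pos hj] at hij
        exact absurd ((hs ⟨i₁, hi₁⟩ ⟨i, hi⟩).1.symm.trans (Subtype.ext hij.symm)) (hpq _)
      · rw [dif_neg hi, dif_neg hj] at hij
        by_contra hne
        exact (hs ⟨i, hi⟩ ⟨j, hj⟩).2 (fun e => hne (congrArg Subtype.val e)) (Subtype.ext hij)
    · by_cases hi : i = i₀
      · subst hi; simp [h0]
      · simp only [dif_pos, dif_neg hi]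
        rw [hτ ⟨i, hi⟩, (hs ⟨i, hi⟩ ⟨i₁, hi₁⟩).1]
        simp
  · refine ⟨1, .inl rfl, fun i => if h : i = i₀ then (q ⟨i₁, hi₁⟩ : G → ℂ) else (p ⟨i, h⟩ : G → ℂ),
      fun i => ?_, ?_, fun i => ?_⟩
    · dsimp only; split
      · exact (q _).2
      · exact (p _).2
    · intro i j hij
      dsimp only at hij
      by_cases hi : i = i₀ <;> by_cases hj : j = i₀
      · rw [hi, hj]
      · rw [dif_pos hi, dif_neg hj] at hij
        exact absurd ((hs ⟨i₁, hi₁⟩ ⟨j, hj⟩).1.symm.trans (Subtype.ext hij)).symm (hpq _)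
      · rw [dif_neg hi, dif_pos hj] at hij
        exact absurd ((hs ⟨i₁, hi₁⟩ ⟨i, hi⟩).1.symm.trans (Subtype.ext hij.symm)).symm (hpq _)
      · rw [dif_neg hi, dif_neg hj] at hij
        by_contra hne
        exact (hs ⟨i, hi⟩ ⟨j, hj⟩).2 (fun e => hne (congrArg Subtype.val e)) (Subtype.ext hij)
    · by_cases hi : i = i₀
      · subst hi; simp [h0]
      · simp only [dif_pos, dif_neg hi]
        rw [hτ ⟨i, hi⟩, (hs ⟨i, hi⟩ ⟨i₁, hi₁⟩).1]
        simp

end Cfsg.Agent.S0198
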