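import Cfsg.Statements.S0170
import Cfsg.Agent.Lib.CharInducedTI
import Cfsg.Agent.Lib.CharInducedClifford
import Cfsg.Agent.S0198

set_option autoImplicit false
open Cfsg

namespace Cfsg.Agent.S0170

/-- Exceptional characters. Let S be a subset of a finite group contained in its normalizer N and meeting its conjugates by elements outside N only in the identity. Given n ≥ 2 distinct irreducible characters of N of equal degree that vanish on N away from S, there exist a sign ε and n distinct irreducible characters θ_i of G such that inducing χ_i − χ_j to G gives ε (θ_i − θ_j) for all i, j. -/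
theorem result {G : Type*} [Group G] [Fintype G] (S : Set G) (hSN : S ⊆ Subgroup.normalizer S) (hTI : ∀ g : G, g ∉ Subgroup.normalizer S → ∀ s ∈ S, g * s * g⁻¹ ∈ S → s = 1) (n : ℕ) (hn : 2 ≤ n) (χ : Fin n → (Subgroup.normalizer S → ℂ)) (hirr : ∀ i, Cfsg.IsIrrCharacter (Subgroup.normalizer S) (χ i)) (hinj : Function.Injective χ) (hvan : ∀ i, ∀ x : Subgroup.normalizer S, (x : G) ∉ S → χ i x = 0) (hdeg : ∀ i j, χ i 1 = χ j 1) : ∃ ε : ℂ, (ε = 1 ∨ ε = -1) ∧ ∃ θ : Fin n → (G → ℂ), (∀ i, Cfsg.IsIrrCharacter G (θ i)) ∧ Function.Injective θ ∧ ∀ i j, Cfsg.indFun (Subgroup.normalizer S) (χ i) - Cfsg.indFun (Subgroup.normalizer S) (χ j) = ε • (θ i - θ j) := by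
  classical
  have : Fintype (Subgroup.normalizer S) := Fintype.ofFinite _
  let i₀ : Fin n := ⟨0, by omega⟩
  let α : Fin n → (Subgroup.normalizer S → ℂ) := fun i => χ i - χ i₀
  let τ : Fin n → (G → ℂ) := fun i => Cfsg.indFun (Subgroup.normalizer S) (α i)
  have hαvan : ∀ i, ∀ x : Subgroup.normalizer S, (x : G) ∉ S → α i x = 0 := fun i x hx => by
    simp [α, hvan i x hx, hvan i₀ x hx]
  have hα1 : ∀ i, α i 1 = 0 := fun i => by simp [α, hdeg i i₀]
  have hαc : ∀ i, Cfsg.IsClassFunction (Subgroup.normalizer S) (α i) := fun i a b => by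
    simp [α, Cfsg.Agent.CharInduced.isClassFunction_irr (hirr i) a b,
      Cfsg.Agent.CharInduced.isClassFunction_irr (hirr i₀) a b]
  have h0 : τ i₀ = 0 := by simp [τ, α]
  have hgen : ∀ i, Cfsg.IsGeneralizedCharacter G (τ i) := fun i =>
    Cfsg.Agent.CharInduced.isGenChar_ind _ ⟨χ i, χ i₀,
      Cfsg.Agent.CharBasic.isCharacter_of_isIrrCharacter (hirr i),
      Cfsg.Agent.CharBasic.isCharacter_of_isIrrCharacter (hirr i₀), rfl⟩
  have hone : ∀ i, τ i 1 = 0 := fun i => by
    simp [τ, Cfsg.Agent.CharInduced.ind_one_apply, hα1 i]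
  have hgram : ∀ i j, i ≠ i₀ → j ≠ i₀ →
      Cfsg.classInner (τ i) (τ j) = if i = j then 2 else 1 := by
    intro i j hi hj
    show Cfsg.classInner (Cfsg.indFun _ (α i)) (Cfsg.indFun _ (α j)) = _
    rw [Cfsg.Agent.CharInduced.classInner_ind_of_ti S _ hTI (α i) (α j) (hαc j) (hαvan i) (hαvan j)
      (hα1 i)]
    simp only [α, Cfsg.Agent.CharInduced.inner_sub_left, Cfsg.Agent.CharInduced.inner_sub_right,
      Cfsg.Agent.CharBasicOrth.classInner_irr_self (hirr i₀),
      Cfsg.Agent.CharBasicOrth.classInner_irr_ne (hirr i) (hirr i₀) (hinj.ne hi),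
      Cfsg.Agent.CharBasicOrth.classInner_irr_ne (hirr i₀) (hirr j) (hinj.ne (Ne.symm hj))]
    by_cases h : i = j
    · subst h
      rw [if_pos rfl, Cfsg.Agent.CharBasicOrth.classInner_irr_self (hirr i)]
      norm_num
    · rw [if_neg h, Cfsg.Agent.CharBasicOrth.classInner_irr_ne (hirr i) (hirr j) (hinj.ne h)]
      norm_num
  obtain ⟨ε, hε, μ, hμ, hμinj, hτ⟩ := Cfsg.Agent.S0198.result n i₀ τ h0 hgen hone hgram
  refine ⟨ε, hε, μ, hμ, hμinj, fun i j => ?_⟩
  have h1 : Cfsg.indFun (Subgroup.normalizer S) (χ i) - Cfsg.indFun (Subgroup.normalizer S) (χ j) =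
      τ i - τ j := by
    simp [τ, α, Cfsg.Agent.CharInduced.ind_sub]
  rw [h1, hτ i, hτ j, ← smul_sub, sub_sub_sub_cancel_right]

end Cfsg.Agent.S0170
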