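import Mathlib
import Cfsg.Statements.S0172

set_option autoImplicit false
open Cfsg

namespace Cfsg.Agent.S0172

open scoped Pointwise

theorem card_comm_eq_sum {G : Type*} [Group G] [Fintype G] :
    Nat.card (ConjClasses G) * Nat.card G =
      ∑ g : G, Nat.card (Subgroup.centralizer ({g} : Set G)) := by
  rw [← card_comm_eq_card_conjClasses_mul_card, ← Nat.card_congr
    (Equiv.subtypeProdEquivSigmaSubtype (fun a b : G => Commute a b)).symm, Nat.card_sigma]
  refine Finset.sum_congr rfl fun g _ => Nat.card_congr (Equiv.subtypeEquivRight fun b => ?_)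
  rw [Subgroup.mem_centralizer_singleton_iff]
  exact ⟨fun h => h.eq.symm, fun h => h.symm⟩

/-- Class number of a Frobenius group: if G = K H with K normal, K ⊓ H trivial and no non-identity element of H commuting with a non-identity element of K, then |H| * k(G) + 1 = |H| * k(H) + k(K), where k denotes the number of conjugacy classes. -/
theorem result {G : Type*} [Group G] [Finite G] (K H : Subgroup G) [K.Normal] (hKH : K ⊓ H = ⊥) (hKH' : K ⊔ H = ⊤) (hfpf : ∀ h ∈ H, h ≠ 1 → ∀ k ∈ K, h * k = k * h → k = 1) : Nat.card H * Nat.card (ConjClasses G) + 1 = Nat.card H * Nat.card (ConjClasses H) + Nat.card (ConjClasses K) := by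
  classical
  haveI := Fintype.ofFinite G
  haveI := Fintype.ofFinite K
  haveI := Fintype.ofFinite H
  have hdis : ∀ g, g ∈ K → g ∈ H → g = 1 := fun g hk hh => by
    have : g ∈ K ⊓ H := ⟨hk, hh⟩
    rwa [hKH, Subgroup.mem_bot] at this
  have hfac : ∀ g : G, ∃ (k : K) (h : H), (k : G) * h = g := fun g => by
    have hg : g ∈ ((K : Set G) * (H : Set G)) := by
      rw [← Subgroup.normal_mul, hKH']; exact Set.mem_univ g
    obtain ⟨k, hk, h, hh, rfl⟩ := hg
    exact ⟨⟨k, hk⟩, ⟨h, hh⟩, rfl⟩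
  have huniq : ∀ (k k' : K) (h h' : H), (k : G) * h = k' * h' → k = k' ∧ h = h' := by
    intro k k' h h' e
    have e2 : (k' : G)⁻¹ * k = h' * (h : G)⁻¹ := by
      calc (k' : G)⁻¹ * k = (k' : G)⁻¹ * ((k : G) * h) * (h : G)⁻¹ := by group
        _ = _ := by rw [e]; group
    have h1 : (k' : G)⁻¹ * k = 1 := hdis _ (mul_mem (inv_mem k'.2) k.2)
      (by rw [e2]; exact mul_mem h'.2 (inv_mem h.2))
    rw [h1] at e2
    exact ⟨Subtype.ext (inv_mul_eq_one.1 h1).symm, Subtype.ext (mul_inv_eq_one.1 e2.symm).symm⟩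
  -- conjugation of a complement element by `K`
  have hfpf' : ∀ h : H, (h : G) ≠ 1 → ∀ k k' : K,
      (k : G) * h * (k : G)⁻¹ = k' * h * (k' : G)⁻¹ → k = k' := by
    intro h hne k k' e
    refine Subtype.ext (inv_mul_eq_one.1 (hfpf h h.2 hne _ (mul_mem (inv_mem k'.2) k.2) ?_)).symm
    calc (h : G) * ((k' : G)⁻¹ * k) = (k' : G)⁻¹ * ((k' : G) * h * (k' : G)⁻¹) * k := by group
      _ = (k' : G)⁻¹ * ((k : G) * h * (k : G)⁻¹) * k := by rw [e]
      _ = _ := by group
  have hsurj : ∀ h : H, (h : G) ≠ 1 → ∀ k₀ : K, ∃ k : K,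
      (k : G) * h * (k : G)⁻¹ = k₀ * h := by
    intro h hne k₀
    let φ : K → K := fun k => ⟨(k : G) * ((h : G) * (k : G)⁻¹ * (h : G)⁻¹),
      mul_mem k.2 (Subgroup.Normal.conj_mem inferInstance _ (inv_mem k.2) h)⟩
    have hφ : ∀ k : K, (φ k : G) * h = k * h * (k : G)⁻¹ := fun k => by
      show (k : G) * ((h : G) * (k : G)⁻¹ * (h : G)⁻¹) * h = _
      group
    have hinj : Function.Injective φ := fun a b e => hfpf' h hne a b (by rw [← hφ, ← hφ, e])
    obtain ⟨k, rfl⟩ := Finite.surjective_of_injective hinj k₀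
    exact ⟨k, (hφ k).symm⟩
  let e : K × {h : H // h ≠ 1} ⊕ K → G :=
    Sum.elim (fun p => (p.1 : G) * p.2.1 * (p.1 : G)⁻¹) (fun k => k)
  have hne : ∀ h : {h : H // h ≠ 1}, ((h.1 : H) : G) ≠ 1 := fun h e => h.2 (Subtype.ext e)
  have he : Function.Bijective e := by
    constructor
    · have hmix : ∀ (p : K × {h : H // h ≠ 1}) (k : K), (p.1 : G) * p.2.1 * (p.1 : G)⁻¹ ≠ k := by
        intro p k h
        apply hne p.2
        refine hdis _ ?_ p.2.1.2
        have : ((p.2.1 : H) : G) = (p.1 : G)⁻¹ * k * p.1 := by rw [← h]; group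
        rw [this]
        exact mul_mem (mul_mem (inv_mem p.1.2) k.2) p.1.2
      rintro (⟨k, h⟩ | k) (⟨k', h'⟩ | k') hh
      · have hq : h.1 = h'.1 := by
          have hm : ∀ (k : K) (h : H), (k : G) * h * (k : G)⁻¹ =
              ((k * ⟨(h : G) * (k : G)⁻¹ * (h : G)⁻¹,
                Subgroup.Normal.conj_mem inferInstance _ (inv_mem k.2) h⟩ : K) : G) * h := by
            intro k h; simp only [Subgroup.coe_mul]; group
          have hh' : (k : G) * h.1 * (k : G)⁻¹ = k' * h'.1 * (k' : G)⁻¹ := hh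
          rw [hm, hm] at hh'
          exact (huniq _ _ _ _ hh').2
        have hh' : (k : G) * h.1 * (k : G)⁻¹ = k' * h'.1 * (k' : G)⁻¹ := hh
        rw [← hq] at hh'
        rw [hfpf' h.1 (hne h) k k' hh', Subtype.ext hq]
      · exact absurd hh (hmix _ _)
      · exact absurd hh.symm (hmix _ _)
      · exact congrArg Sum.inr (Subtype.ext hh)
    · intro g
      obtain ⟨k, h, rfl⟩ := hfac g
      by_cases h1 : h = 1
      · exact ⟨.inr k, by simp [e, h1]⟩
      · obtain ⟨k', hk'⟩ := hsurj h (fun e => h1 (Subtype.ext e)) k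
        exact ⟨.inl (k', ⟨h, h1⟩), hk'⟩
  have hCH : ∀ (k : K) (h : {h : H // h ≠ 1}),
      Nat.card (Subgroup.centralizer ({(k : G) * h.1 * (k : G)⁻¹} : Set G)) =
        Nat.card (Subgroup.centralizer ({h.1} : Set H)) := by
    intro k h
    refine (Nat.card_eq_of_bijective (fun a : Subgroup.centralizer ({h.1} : Set H) => (⟨(k : G) * ((a : H) : G) * (k : G)⁻¹, ?_⟩ :
      Subgroup.centralizer ({(k : G) * h.1 * (k : G)⁻¹} : Set G))) ⟨?_, ?_⟩).symm
    · have ha : ((a : H) : G) * h.1 = h.1 * (a : H) :=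
        congrArg Subtype.val (Subgroup.mem_centralizer_singleton_iff.1 a.2)
      rw [Subgroup.mem_centralizer_singleton_iff]
      calc (k : G) * (a : H) * (k : G)⁻¹ * ((k : G) * h.1 * (k : G)⁻¹)
          = (k : G) * (((a : H) : G) * h.1) * (k : G)⁻¹ := by group
        _ = _ := by rw [ha]; group
    · intro a b hab
      have h1 := congrArg Subtype.val hab
      simp only [mul_left_inj, mul_right_inj] at h1
      exact Subtype.ext (Subtype.ext h1)
    · rintro ⟨g, hg⟩
      rw [Subgroup.mem_centralizer_singleton_iff] at hg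
      obtain ⟨k₀, h₀, hk₀⟩ := hfac ((k : G)⁻¹ * g * k)
      have hc : (k₀ : G) * h₀ * h.1 = h.1 * ((k₀ : G) * h₀) := by
        rw [hk₀]
        calc (k : G)⁻¹ * g * k * h.1 = (k : G)⁻¹ * (g * ((k : G) * h.1 * (k : G)⁻¹)) * k := by group
          _ = _ := by rw [hg]; group
      have hc' : (k₀ : G) * ((h₀ * h.1 : H) : G) =
          ((⟨(h.1 : G) * k₀ * (h.1 : G)⁻¹, Subgroup.Normal.conj_mem inferInstance _ k₀.2 _⟩ : K) : G) *
            ((h.1 * h₀ : H) : G) := by
        simp only [Subgroup.coe_mul]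
        rw [← mul_assoc, hc]; group
      obtain ⟨e1, e2⟩ := huniq _ _ _ _ hc'
      have e1' : (k₀ : G) = (h.1 : G) * k₀ * (h.1 : G)⁻¹ := congrArg Subtype.val e1
      have hk1 : (k₀ : G) = 1 := hfpf h.1 h.1.2 (hne h) k₀ k₀.2 (by
        calc (h.1 : G) * k₀ = (h.1 : G) * k₀ * (h.1 : G)⁻¹ * h.1 := by group
          _ = _ := by rw [← e1'])
      refine ⟨⟨h₀, Subgroup.mem_centralizer_singleton_iff.2 e2⟩, Subtype.ext ?_⟩
      rw [hk1, one_mul] at hk₀
      show (k : G) * h₀ * (k : G)⁻¹ = g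
      rw [hk₀]; group
  have hCK : ∀ k : K, k ≠ 1 → Nat.card (Subgroup.centralizer ({(k : G)} : Set G)) =
      Nat.card (Subgroup.centralizer ({k} : Set K)) := by
    intro k hk
    refine (Nat.card_eq_of_bijective (fun a : Subgroup.centralizer ({k} : Set K) => (⟨((a : K) : G), ?_⟩ :
      Subgroup.centralizer ({(k : G)} : Set G))) ⟨?_, ?_⟩).symm
    · rw [Subgroup.mem_centralizer_singleton_iff]
      exact congrArg Subtype.val (Subgroup.mem_centralizer_singleton_iff.1 a.2)
    · intro a b hab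
      exact Subtype.ext (Subtype.ext
        (congrArg (fun z : Subgroup.centralizer ({(k : G)} : Set G) => (z : G)) hab))
    · rintro ⟨g, hg⟩
      rw [Subgroup.mem_centralizer_singleton_iff] at hg
      obtain ⟨x, hx⟩ := he.2 g
      rcases x with ⟨k₁, h⟩ | k₁
      · exfalso
        have hg' : (k₁ : G) * h.1 * (k₁ : G)⁻¹ * k = k * ((k₁ : G) * h.1 * (k₁ : G)⁻¹) := by
          have : (k₁ : G) * h.1 * (k₁ : G)⁻¹ = g := hx
          rw [this]; exact hg
        have hk1 := hfpf h.1 h.1.2 (hne h) ((k₁ : G)⁻¹ * k * k₁)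
          (mul_mem (mul_mem (inv_mem k₁.2) k.2) k₁.2) (by
            calc (h.1 : G) * ((k₁ : G)⁻¹ * k * k₁)
                = (k₁ : G)⁻¹ * ((k₁ : G) * h.1 * (k₁ : G)⁻¹ * k) * k₁ := by group
              _ = _ := by rw [hg']; group)
        apply hk
        refine Subtype.ext ?_
        have : (k : G) = (k₁ : G) * ((k₁ : G)⁻¹ * k * k₁) * (k₁ : G)⁻¹ := by group
        rw [this, hk1]
        simp
      · have hx' : (k₁ : G) = g := hx
        exact ⟨⟨k₁, Subgroup.mem_centralizer_singleton_iff.2 (Subtype.ext (by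
          simp only [Subgroup.coe_mul, hx', hg]))⟩, Subtype.ext hx'⟩
  have hcard : Nat.card G = Nat.card K * Nat.card H := by
    rw [← Nat.card_prod]
    exact (Nat.card_eq_of_bijective (fun p : K × H => (p.1 : G) * p.2)
      ⟨fun a b h => Prod.ext (huniq _ _ _ _ h).1 (huniq _ _ _ _ h).2,
        fun g => let ⟨k, h, hh⟩ := hfac g; ⟨(k, h), hh⟩⟩).symm
  have hG := card_comm_eq_sum (G := G)
  have hKs := card_comm_eq_sum (G := K)
  have hHs := card_comm_eq_sum (G := H)
  rw [← Equiv.sum_comp (Equiv.ofBijective e he), Fintype.sum_sum_type, Fintype.sum_prod_type] at hG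
  have e1 : ∀ {M : Type _} [Group M] [Fintype M] [DecidableEq M],
      Nat.card (Subgroup.centralizer ({(1 : M)} : Set M)) = Nat.card M := fun {M} _ _ _ => by
    rw [Subgroup.centralizer_eq_top_iff_subset.2 (by simp), Subgroup.card_top]
  have hH' : ∑ h : {h : H // h ≠ 1}, Nat.card (Subgroup.centralizer ({h.1} : Set H)) + Nat.card H
      = ∑ h : H, Nat.card (Subgroup.centralizer ({h} : Set H)) := by
    rw [← Finset.sum_erase_add _ _ (Finset.mem_univ (1 : H)), e1]
    congr 1
    exact (Finset.sum_subtype (Finset.univ.erase (1 : H)) (p := fun h : H => h ≠ 1) (by simp)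
      (fun h : H => Nat.card (Subgroup.centralizer ({h} : Set H)))).symm
  have hL : ∑ x : K, ∑ h : {h : H // h ≠ 1},
      Nat.card (Subgroup.centralizer ({(x : G) * h.1 * (x : G)⁻¹} : Set G)) =
        Nat.card K * ∑ h : {h : H // h ≠ 1}, Nat.card (Subgroup.centralizer ({h.1} : Set H)) := by
    simp only [hCH, Finset.sum_const, Finset.card_univ, smul_eq_mul, Nat.card_eq_fintype_card]
  have hR : ∑ k : K, Nat.card (Subgroup.centralizer ({(k : G)} : Set G)) + Nat.card K =
      ∑ k : K, Nat.card (Subgroup.centralizer ({k} : Set K)) + Nat.card G := by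
    rw [← Finset.add_sum_erase _ _ (Finset.mem_univ (1 : K))]
    conv_rhs => rw [← Finset.add_sum_erase _ _ (Finset.mem_univ (1 : K))]
    rw [Subgroup.coe_one, e1, e1, Finset.sum_congr rfl fun k hk => hCK k (Finset.ne_of_mem_erase hk)]
    ring
  simp only [Equiv.ofBijective_apply, e, Sum.elim_inl, Sum.elim_inr] at hG
  rw [hL] at hG
  have hpos : 0 < Nat.card K := Nat.card_pos
  refine Nat.eq_of_mul_eq_mul_left hpos ?_
  have h1 : Nat.card K * (∑ h : {h : H // h ≠ 1},
      Nat.card (Subgroup.centralizer ({h.1} : Set H))) + Nat.card K * Nat.card H =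
      Nat.card K * (Nat.card (ConjClasses H) * Nat.card H) := by
    rw [← mul_add, hH', hHs]
  rw [← hKs] at hR
  rw [hcard] at hG hR
  linarith [h1, hR, hG]

end Cfsg.Agent.S0172
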