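import Cfsg.Statements.S0177
import Cfsg.Agent.Lib.CharBasicCyclic
import Cfsg.Agent.Lib.CharInducedBasic

set_option autoImplicit false
open Cfsg

namespace Cfsg.Agent.S0177

open Cfsg.Agent.CharBasic Cfsg.Agent.CharBasicOrth Cfsg.Agent.CharBasicDecomp
  Cfsg.Agent.CharBasicLinear Cfsg.Agent.CharBasicCyclic
open scoped ComplexConjugate

open scoped Classical in
/-- The function `|A|` on the generators of `A` and `0` elsewhere. -/
noncomputable def theta {G : Type*} [Group G] (A : Subgroup G) (a : A) : ℂ :=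
  if Subgroup.zpowers (a : G) = A then (Nat.card A : ℂ) else 0

theorem theta_gen {G : Type*} [Group G] [Fintype G] {A : Subgroup G}
    (hA : ∀ a b : A, a * b = b * a) :
    Cfsg.IsGeneralizedCharacter A (theta A) := by
  classical
  rw [isGeneralizedCharacter_iff]
  refine ⟨fun a b => ?_, fun ψ => ?_⟩
  · rw [hA b a, mul_inv_cancel_right]
  · obtain ⟨lam, hlam⟩ := exists_hom_of_comm hA (isIrrCharacter_conj ψ.2)
    let F : G → ℂ := fun g => if h : g ∈ A then (lam ⟨g, h⟩ : ℂ) else 0
    obtain ⟨z, hz⟩ := exists_int_sum_gens A ((Units.coeHom ℂ).comp lam) F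
      (fun a => dif_pos a.2)
    refine ⟨z, ?_⟩
    have hA' : (Nat.card A : ℂ) ≠ 0 := Nat.cast_ne_zero.2 Nat.card_pos.ne'
    refine mul_left_cancel₀ hA' ?_
    rw [card_mul_classInner, ← hz, Finset.mul_sum]
    have hsub : ∑ a : A, theta A a * conj ((ψ : A → ℂ) a) =
        ∑ g ∈ Finset.univ.filter (fun g : G => g ∈ A),
          (if Subgroup.zpowers g = A then (Nat.card A : ℂ) else 0) * F g := by
      rw [Finset.sum_subtype (p := fun g : G => g ∈ A)
        (Finset.univ.filter fun g : G => g ∈ A) (fun g => by simp)]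
      refine Finset.sum_congr rfl fun a _ => ?_
      have hF : F a = conj ((ψ : A → ℂ) a) := by
        simp only [F, dif_pos a.2]
        exact (congrFun hlam a).symm
      rw [hF]; rfl
    rw [hsub]
    simp only [ite_mul, zero_mul]
    rw [← Finset.sum_filter, Finset.filter_filter]
    refine Finset.sum_congr ?_ fun _ _ => rfl
    ext g
    rw [Finset.mem_filter, mem_gens]
    exact ⟨fun h => h.2.2, fun h => ⟨Finset.mem_univ _, h ▸ Subgroup.mem_zpowers g, h⟩⟩

open scoped Classical in
theorem sum_ind_theta {G : Type*} [Group G] [Fintype G] (χ : G → ℂ)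
    (hχ : Cfsg.IsClassFunction G χ) :
    ∑ A ∈ Finset.univ.filter (fun A : Subgroup G => IsCyclic A),
      Cfsg.indFun A (fun a => theta A a * χ a) = (Nat.card G : ℂ) • χ := by
  funext g
  rw [Finset.sum_apply, Pi.smul_apply, smul_eq_mul, Nat.card_eq_fintype_card, ← Finset.card_univ,
    Finset.card_eq_sum_ones, Nat.cast_sum, Finset.sum_mul]
  simp only [Cfsg.indFun, Finset.mul_sum]
  rw [Finset.sum_comm]
  refine Finset.sum_congr rfl fun x _ => ?_
  set y := x⁻¹ * g * x with hy
  have hχy : χ y = χ g := by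
    have h := hχ g x⁻¹
    rwa [inv_inv] at h
  rw [Finset.sum_eq_single (Subgroup.zpowers y)]
  · rw [Cfsg.extendByZero, ← show ((⟨y, Subgroup.mem_zpowers y⟩ : Subgroup.zpowers y) : G) = y from rfl,
      Subtype.val_injective.extend_apply, theta, if_pos rfl]
    change _ * (_ * χ y) = _
    rw [hχy, ← mul_assoc, inv_mul_cancel₀ (Nat.cast_ne_zero.2 Nat.card_pos.ne'), Nat.cast_one]
  · intro A _ hA
    refine mul_eq_zero_of_right _ ?_
    rw [Cfsg.extendByZero]
    by_cases h : y ∈ A
    · rw [← show ((⟨y, h⟩ : A) : G) = y from rfl, Subtype.val_injective.extend_apply, theta,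
        if_neg (Ne.symm hA), zero_mul]
    · rw [Function.extend_apply' _ _ _ fun ⟨a, ha⟩ => h (ha ▸ a.2)]
      rfl
  · intro h
    exact absurd (by simp [Subgroup.isCyclic_zpowers y]) h


/-- The Artin induction Theorem: for a character χ of a finite group, |G| • χ is a ℤ-linear combination of functions induced from homomorphisms of cyclic subgroups into ℂˣ. -/
theorem result {G : Type*} [Group G] [Fintype G] (χ : G → ℂ) (hχ : Cfsg.IsCharacter G χ) : ∃ l : List ((A : Subgroup G) × ((A →* ℂˣ) × ℤ)), (∀ t ∈ l, IsCyclic t.1) ∧ (Nat.card G : ℂ) • χ = (l.map fun t => (t.2.2 : ℂ) • Cfsg.indFun t.1 (fun a => (t.2.1 a : ℂ))).sum := by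
  classical
  have key : ∀ A ∈ Finset.univ.filter (fun A : Subgroup G => IsCyclic A),
      ∃ l : List ((A : Subgroup G) × ((A →* ℂˣ) × ℤ)), (∀ t ∈ l, IsCyclic t.1) ∧
        Cfsg.indFun A (fun a => theta A a * χ a) =
          (l.map fun t => (t.2.2 : ℂ) • Cfsg.indFun t.1 (fun a => (t.2.1 a : ℂ))).sum := by
    intro A hA
    rw [Finset.mem_filter] at hA
    have hcomm : ∀ a b : A, a * b = b * a := fun a b => hA.2.isMulCommutative.is_comm.comm a b
    obtain ⟨c, -, hc⟩ := exists_int_coeff (isGeneralizedCharacter_mul (theta_gen hcomm)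
      (isGeneralizedCharacter_comap A.subtype (isGeneralizedCharacter_of_isCharacter hχ)))
    choose lam hlam using fun ψ : Cfsg.IrrCharacter A => exists_hom_of_comm hcomm ψ.2
    refine ⟨(Finset.univ : Finset (Cfsg.IrrCharacter A)).toList.map
      (fun ψ => ⟨A, lam ψ, c ψ⟩), fun t ht => ?_, ?_⟩
    · obtain ⟨ψ, -, rfl⟩ := List.mem_map.1 ht
      exact hA.2
    · rw [List.map_map, Finset.sum_map_toList]
      rw [show (fun a : A => theta A a * χ a) = theta A * χ ∘ ⇑A.subtype from rfl, hc,
        CharInduced.ind_sum]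
      refine Finset.sum_congr rfl fun ψ _ => ?_
      rw [CharInduced.ind_smul, hlam ψ]
      rfl
  choose l hl1 hl2 using key
  refine ⟨(Finset.univ.filter fun A : Subgroup G => IsCyclic A).attach.toList.flatMap
    (fun A => l A.1 A.2), fun t ht => ?_, ?_⟩
  · obtain ⟨A, -, ht⟩ := List.mem_flatMap.1 ht
    exact hl1 A.1 A.2 t ht
  · rw [← sum_ind_theta χ (isClassFunction_of_isCharacter hχ), List.map_flatMap,
      List.flatMap_def, List.sum_flatten, List.map_map, Finset.sum_map_toList, ← Finset.sum_attach]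
    exact Finset.sum_congr rfl fun A _ => hl2 A.1 A.2

end Cfsg.Agent.S0177
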