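import Mathlib
import Cfsg.Statements.S0178
import Cfsg.Agent.Lib.CharBasic

set_option autoImplicit false
open Cfsg

namespace Cfsg.Agent.S0178

/-- The degree of an irreducible complex representation of a finite group is at most the index of any abelian subgroup. -/
theorem result {G : Type*} [Group G] [Finite G] {V : Type*} [AddCommGroup V] [Module ℂ V] [FiniteDimensional ℂ V] (ρ : Representation ℂ G V) [ρ.IsIrreducible] (A : Subgroup G) (hA : ∀ a ∈ A, ∀ b ∈ A, a * b = b * a) : Module.finrank ℂ V ≤ A.index := by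
  classical
  haveI : Nontrivial V := CharBasic.nontrivial_of_irreducible ρ
  obtain ⟨U, hU⟩ := CharBasic.exists_irreducible_sub (CharBasic.repComap A.subtype ρ)
  haveI := hU
  haveI : IsMulCommutative A := ⟨⟨fun a b => Subtype.ext (hA a a.2 b b.2)⟩⟩
  have h1 : Module.finrank ℂ U.toSubmodule = 1 :=
    Representation.IsIrreducible.finrank_eq_one_of_isMulCommutative (ρ := U.toRepresentation)
  let W : G ⧸ A → Submodule ℂ V := fun q => Submodule.map (ρ q.out) U.toSubmodule
  have hinv : ∀ g : G, ∀ q : G ⧸ A, Submodule.map (ρ g) (W q) ≤ W (g • q) := by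
    intro g q
    rintro _ ⟨_, ⟨u, hu, rfl⟩, rfl⟩
    have hmk : ((g • q).out : G ⧸ A) = ((g * q.out : G) : G ⧸ A) := by
      rw [QuotientGroup.out_eq']
      conv_lhs => rw [← QuotientGroup.out_eq' q]
      rfl
    obtain ⟨a, ha⟩ : ∃ a : A, (g • q).out * a = g * q.out :=
      ⟨⟨_, QuotientGroup.eq.1 hmk⟩, mul_inv_cancel_left _ _⟩
    refine ⟨ρ a u, U.apply_mem_toSubmodule a hu, ?_⟩
    rw [← Module.End.mul_apply, ← map_mul, ha, map_mul, Module.End.mul_apply]
  let S : Subrepresentation ρ :=
    ⟨⨆ q, W q, fun g v hv => by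
      have : Submodule.map (ρ g) (⨆ q, W q) ≤ ⨆ q, W q := by
        rw [Submodule.map_iSup]
        exact iSup_le fun q => (hinv g q).trans (le_iSup W (g • q))
      exact this (Submodule.mem_map_of_mem hv)⟩
  rcases IsSimpleOrder.eq_bot_or_eq_top S with h | h
  · exfalso
    have h2 : W ((1 : G) : G ⧸ A) = ⊥ :=
      le_bot_iff.1 ((le_iSup W _).trans (le_of_eq (congrArg Subrepresentation.toSubmodule h)))
    have hinj : Function.Injective (ρ ((1 : G) : G ⧸ A).out) := fun a b hab => by
      simpa using congrArg (ρ (((1 : G) : G ⧸ A).out)⁻¹) hab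
    have h3 : U.toSubmodule = ⊥ := Submodule.map_injective_of_injective hinj (by
      rw [Submodule.map_bot]; exact h2)
    rw [h3, finrank_bot] at h1
    exact zero_ne_one h1
  · have h2 : (⨆ q, W q) = ⊤ := congrArg Subrepresentation.toSubmodule h
    haveI := Fintype.ofFinite (G ⧸ A)
    calc Module.finrank ℂ V = Module.finrank ℂ (⊤ : Submodule ℂ V) := (finrank_top ℂ V).symm
      _ = Module.finrank ℂ (⨆ q, W q : Submodule ℂ V) := by rw [h2]
      _ ≤ ∑ q, Module.finrank ℂ (W q) := by
          rw [← Finset.sup_univ_eq_iSup]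
          induction (Finset.univ : Finset (G ⧸ A)) using Finset.induction with
          | empty => simp
          | insert a s ha ih =>
            rw [Finset.sup_insert, Finset.sum_insert ha]
            exact (Submodule.finrank_add_le_finrank_add_finrank _ _).trans (by omega)
      _ ≤ ∑ _q : G ⧸ A, 1 := Finset.sum_le_sum fun q _ => h1 ▸ Submodule.finrank_map_le _ _
      _ = A.index := by simp [Subgroup.index, Nat.card_eq_fintype_card]

end Cfsg.Agent.S0178
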