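import Cfsg.Statements.S0180
import Cfsg.Agent.Lib.CharBasicCyclic

set_option autoImplicit false
open Cfsg

namespace Cfsg.Agent.S0180

open Cfsg.Agent.CharBasic Cfsg.Agent.CharBasicOrth Cfsg.Agent.CharBasicDecomp Cfsg.Agent.CharBasicCyclic
open scoped ComplexConjugate

theorem eval_pow_eq {G : Type*} [Group G] [Finite G] (ρn : ℕ) (ρ : Representation ℂ G (Fin ρn → ℂ))
    (g : G) {ζ : ℂ} (hζ : IsPrimitiveRoot ζ (Nat.card G)) :
    ∃ P : Polynomial ℚ, ∀ m : ℕ, ρ.character (g ^ m) = Polynomial.aeval (ζ ^ m) P := by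
  obtain ⟨b, μ, -, h2, -, h4⟩ := exists_rep_eigenbasis ρ g
  have : NeZero (Nat.card G) := ⟨Nat.card_pos.ne'⟩
  have hk : ∀ i, ∃ k : ℕ, ζ ^ k = μ i := fun i => by
    obtain ⟨j, hj⟩ := orderOf_dvd_natCard g
    obtain ⟨k, -, hk⟩ := hζ.eq_pow_of_pow_eq_one (ξ := μ i) (by rw [hj, pow_mul, h2, one_pow])
    exact ⟨k, hk⟩
  choose k hk using hk
  refine ⟨∑ i, Polynomial.X ^ k i, fun m => ?_⟩
  rw [h4, map_sum]
  exact Finset.sum_congr rfl fun i _ => by
    rw [map_pow, Polynomial.aeval_X, ← pow_mul, mul_comm, pow_mul, hk]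


/-- Every irreducible complex character of a finite group takes only rational values if and only if g is conjugate to g ^ m for every element g and every m coprime to the group order. -/
theorem result {G : Type*} [Group G] [Finite G] : (∀ χ : Cfsg.IrrCharacter G, ∀ g : G, ∃ q : ℚ, (χ : G → ℂ) g = (q : ℂ)) ↔ ∀ m : ℕ, m.Coprime (Nat.card G) → ∀ g : G, IsConj g (g ^ m) := by
  classical
  have := Fintype.ofFinite G
  constructor
  · intro h m hm g
    rw [isConj_iff_forall_irr]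
    intro χ
    obtain ⟨q, hq⟩ := h χ g
    obtain ⟨χ, n, ρ, hρ, rfl⟩ := χ
    change ρ.character g = (q : ℂ) at hq
    have hζ := Complex.isPrimitiveRoot_exp (Nat.card G) Nat.card_pos.ne'
    set ζ := Complex.exp (2 * Real.pi * Complex.I / (Nat.card G : ℂ))
    obtain ⟨P, hP⟩ := eval_pow_eq n ρ g hζ
    have h1 : Polynomial.aeval ζ (P - Polynomial.C q) = 0 := by
      rw [map_sub, Polynomial.aeval_C, ← pow_one ζ, ← hP, pow_one, hq]
      simp
    have hmin : minpoly ℚ (ζ ^ m) = minpoly ℚ ζ := by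
      rw [← Polynomial.cyclotomic_eq_minpoly_rat hζ Nat.card_pos,
        ← Polynomial.cyclotomic_eq_minpoly_rat (hζ.pow_of_coprime m hm) Nat.card_pos]
    obtain ⟨Q, hQ⟩ : minpoly ℚ (ζ ^ m) ∣ P - Polynomial.C q := hmin ▸ minpoly.dvd ℚ ζ h1
    have h2 := congrArg (Polynomial.aeval (ζ ^ m)) hQ
    rw [map_sub, map_mul, minpoly.aeval, zero_mul, Polynomial.aeval_C, sub_eq_zero, ← hP] at h2
    change ρ.character g = ρ.character (g ^ m)
    rw [h2, hq]
    simp
  · intro h χ g
    have hχ := isCharacter_of_isIrrCharacter χ.2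
    have hconst : ∀ a ∈ gens (Subgroup.zpowers g), (χ : G → ℂ) a = (χ : G → ℂ) g := by
      intro a ha
      obtain ⟨m, hm, rfl⟩ := (gens_eq_image g a).1 ha
      have : NeZero (Nat.card G) := ⟨Nat.card_pos.ne'⟩
      obtain ⟨u, hu⟩ := ZMod.unitsMap_surjective (orderOf_dvd_natCard g) (ZMod.unitOfCoprime m hm)
      have h2 : (ZMod.val (u : ZMod (Nat.card G))).Coprime (Nat.card G) := ZMod.val_coe_unit_coprime u
      have h3 : g ^ ZMod.val (u : ZMod (Nat.card G)) = g ^ m := by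
        rw [pow_eq_pow_iff_modEq, ← ZMod.natCast_eq_natCast_iff]
        have h5 := congrArg Units.val hu
        rw [ZMod.unitsMap_def, Units.coe_map, ZMod.coe_unitOfCoprime] at h5
        rw [← h5]
        simp [ZMod.natCast_val]
      exact (apply_eq_of_isConj (isClassFunction_of_isCharacter hχ) (h3 ▸ h _ h2 g)).symm
    obtain ⟨z, hz⟩ := exists_int_sum_gens_zpowers g (isGeneralizedCharacter_of_isCharacter hχ)
    rw [Finset.sum_congr rfl hconst, Finset.sum_const, nsmul_eq_mul] at hz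
    have hne : ((gens (Subgroup.zpowers g)).card : ℂ) ≠ 0 :=
      Nat.cast_ne_zero.2 (Finset.card_ne_zero.2 ⟨g, mem_gens.2 rfl⟩)
    exact ⟨(z : ℚ) / (gens (Subgroup.zpowers g)).card, by
      push_cast; rw [eq_div_iff hne, mul_comm, hz]⟩

end Cfsg.Agent.S0180
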