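import Mathlib
import Cfsg.Statements.S0181
import Cfsg.Agent.Lib.CharBasic

set_option autoImplicit false
open Cfsg

namespace Cfsg.Agent.S0181

/-- Let H be a normal subgroup of a finite group G and ρ an irreducible complex representation whose kernel does not contain H. If g commutes with no non-identity element of H, then the character of ρ vanishes at g. -/
theorem result {G : Type*} [Group G] [Finite G] {V : Type*} [AddCommGroup V] [Module ℂ V] [FiniteDimensional ℂ V] (ρ : Representation ℂ G V) [ρ.IsIrreducible] (H : Subgroup G) [H.Normal] (hker : ∃ h ∈ H, ρ h ≠ LinearMap.id) (g : G) (hg : ∀ h ∈ H, h * g = g * h → h = 1) : ρ.character g = 0 := by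
  classical
  haveI := Fintype.ofFinite H
  -- the sum over `H` is the zero map
  let T : V →ₗ[ℂ] V := ∑ h : H, ρ h
  have hTl : ∀ (a : G) (ha : a ∈ H), ρ a * T = T := by
    intro a ha
    show ρ a * ∑ h : H, ρ h = ∑ h : H, ρ h
    rw [Finset.mul_sum]
    exact Fintype.sum_equiv (Equiv.mulLeft (⟨a, ha⟩ : H)) _ _ fun h => by simp [map_mul]
  have hT : T = 0 := by
    let S : Subrepresentation ρ :=
      ⟨{ carrier := {v | ∀ h ∈ H, ρ h v = v}
         add_mem' := fun ha hb h hh => by rw [map_add, ha h hh, hb h hh]
         zero_mem' := fun h _ => map_zero _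
         smul_mem' := fun c a ha h hh => by rw [map_smul, ha h hh] },
        fun a v hv h hh => by
          show ρ h (ρ a v) = ρ a v
          have := hv (a⁻¹ * h * a) (by simpa using Subgroup.Normal.conj_mem ‹H.Normal› h hh a⁻¹)
          calc ρ h (ρ a v) = ρ (a * (a⁻¹ * h * a)) v := by
                rw [← Module.End.mul_apply, ← map_mul]; congr 2; group
            _ = ρ a v := by rw [map_mul, Module.End.mul_apply, this]⟩
    rcases IsSimpleOrder.eq_bot_or_eq_top S with hS | hS
    · refine LinearMap.ext fun v => ?_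
      have : T v ∈ S.toSubmodule := fun h hh => by
        rw [← Module.End.mul_apply, hTl h hh]
      rw [hS] at this
      exact (Submodule.mem_bot ℂ).1 this
    · exfalso
      obtain ⟨h, hh, hne⟩ := hker
      refine hne (LinearMap.ext fun v => ?_)
      have : v ∈ S.toSubmodule := by rw [hS]; exact Submodule.mem_top
      exact this h hh
  -- all elements of `g H` are `H`-conjugate to `g`
  let φ : H → H := fun h => ⟨g⁻¹ * h * g * (h : G)⁻¹, by
    refine mul_mem ?_ (inv_mem h.2)
    simpa using Subgroup.Normal.conj_mem ‹H.Normal› h h.2 g⁻¹⟩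
  have hφ : Function.Injective φ := by
    intro a b hab
    have h1 : g⁻¹ * a * g * (a : G)⁻¹ = g⁻¹ * b * g * (b : G)⁻¹ := congrArg Subtype.val hab
    refine Subtype.ext (inv_mul_eq_one.1 (hg _ (mul_mem (inv_mem b.2) a.2) ?_)).symm
    have h2 : (a : G) * g * (a : G)⁻¹ = (b : G) * g * (b : G)⁻¹ := by
      have h3 := congrArg (fun z => g * z) h1
      simpa [mul_assoc] using h3
    calc (b : G)⁻¹ * a * g = (b : G)⁻¹ * ((a : G) * g * (a : G)⁻¹) * a := by group
      _ = (b : G)⁻¹ * ((b : G) * g * (b : G)⁻¹) * a := by rw [h2]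
      _ = g * ((b : G)⁻¹ * a) := by group
  have hsur : Function.Surjective φ := Finite.surjective_of_injective hφ
  have hval : ∀ h : H, LinearMap.trace ℂ V (ρ g * ρ h) = ρ.character g := by
    intro h
    obtain ⟨k, hk⟩ := hsur h
    have hk' : g * (h : G) = (k : G) * g * (k : G)⁻¹ := by
      rw [← hk]
      show g * (g⁻¹ * k * g * (k : G)⁻¹) = _
      group
    rw [← map_mul, hk']
    exact Representation.char_conj ρ g k
  have h0 : LinearMap.trace ℂ V (ρ g * T) = 0 := by rw [hT, mul_zero, map_zero]
  rw [Finset.mul_sum, map_sum, Finset.sum_congr rfl fun h _ => hval h, Finset.sum_const,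
    nsmul_eq_mul] at h0
  exact (mul_eq_zero.1 h0).resolve_left (Nat.cast_ne_zero.2 (by simp))

end Cfsg.Agent.S0181
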