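import Cfsg.Statements.S0184
import Cfsg.Agent.Lib.CharBasicLinear
import Cfsg.Agent.Lib.PGroupsBasic

set_option autoImplicit false
open Cfsg

namespace Cfsg.Agent.S0184

open Cfsg.Agent.CharBasic Cfsg.Agent.CharBasicOrth Cfsg.Agent.CharBasicDecomp Cfsg.Agent.CharBasicLinear


/-- A finite p-group admits a faithful irreducible complex representation if and only if its centre is cyclic. -/
theorem result {G : Type*} [Group G] [Finite G] (p : ℕ) [Fact p.Prime] (hG : IsPGroup p G) : (∃ (n : ℕ) (ρ : Representation ℂ G (Fin n → ℂ)), ρ.IsIrreducible ∧ Function.Injective ρ) ↔ IsCyclic (Subgroup.center G) := by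
  classical
  constructor
  · rintro ⟨n, ρ, hi, hinj⟩
    choose c hc using fun z : Subgroup.center G => exists_scalar_of_mem_center ρ z.2
    have := nontrivial_of_irreducible ρ
    obtain ⟨v, hv⟩ := exists_ne (0 : Fin n → ℂ)
    refine isCyclic_of_injective_ringHom
      { toFun := c, map_one' := ?_, map_mul' := ?_ } fun x y hxy => ?_
    · have h := LinearMap.congr_fun (hc 1) v
      rw [OneMemClass.coe_one, map_one, LinearMap.smul_apply, LinearMap.id_apply,
        Module.End.one_apply] at h
      exact (smul_left_injective ℂ hv (((one_smul ℂ v).trans h).symm))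
    · intro x y
      have h := LinearMap.congr_fun (hc (x * y)) v
      rw [Subgroup.coe_mul, map_mul, hc x, hc y] at h
      simp only [Module.End.mul_apply, LinearMap.smul_apply, LinearMap.id_apply, smul_smul] at h
      exact (smul_left_injective ℂ hv h).symm
    · refine Subtype.ext (hinj ?_)
      rw [hc x, hc y]
      exact congrArg (· • LinearMap.id) hxy
  · intro hcyc
    rcases subsingleton_or_nontrivial G with hs | hs
    · exact ⟨1, linRep (1 : G →* ℂˣ), isIrreducible_of_finrank_one _ (by simp),
        fun x y _ => Subsingleton.elim x y⟩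
    have : Nontrivial (Subgroup.center G) := hG.center_nontrivial
    have hdvd : ∀ H : Subgroup G, H ≠ ⊥ → p ∣ Nat.card H := by
      intro H hH
      obtain ⟨k, hk⟩ := IsPGroup.iff_card.1 (hG.to_subgroup H)
      rw [hk]
      refine dvd_pow_self _ ?_
      rintro rfl
      exact hH (Subgroup.eq_bot_of_card_eq _ (by simpa using hk))
    obtain ⟨z, hz⟩ := exists_prime_orderOf_dvd_card' (G := Subgroup.center G) p
      (hdvd _ (Subgroup.nontrivial_iff_ne_bot _ |>.1 this))
    have hz1 : (z : G) ≠ 1 := fun h => by
      rw [← Subgroup.orderOf_coe, h, orderOf_one] at hz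
      exact (Fact.out : p.Prime).one_lt.ne hz
    have hex : ∃ χ : Cfsg.IrrCharacter G, (χ : G → ℂ) (z : G) ≠ (χ : G → ℂ) 1 := by
      by_contra h
      push Not at h
      exact hz1 (isConj_one_left.1 ((isConj_iff_forall_irr _ _).2 h))
    obtain ⟨⟨χ, n, ρ, hi, rfl⟩, hχ⟩ := hex
    refine ⟨n, ρ, hi, ?_⟩
    set K := charKer ρ.character (isCharacter_of_rep ρ) with hK
    have hKn : K.Normal := charKer_normal _ _
    have hbot : K = ⊥ := by
      by_contra hne
      obtain ⟨w, hw⟩ := exists_prime_orderOf_dvd_card'
        (G := (K ⊓ Subgroup.center G : Subgroup G)) p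
        (hdvd _ (PGroupsBasic.inf_center_ne_bot hG hne))
      have hwZ : (w : G) ∈ Subgroup.center G := (Subgroup.mem_inf.1 w.2).2
      set w' : Subgroup.center G := ⟨w, hwZ⟩ with hw'def
      have hw' : orderOf w' = p := by
        rw [← Subgroup.orderOf_coe, hw'def]; exact (Subgroup.orderOf_coe w).trans hw
      have hzK : z ∈ K.subgroupOf (Subgroup.center G) := by
        have hle : Subgroup.zpowers w' ≤ K.subgroupOf (Subgroup.center G) :=
          Subgroup.zpowers_le.2 (Subgroup.mem_subgroupOf.2 (Subgroup.mem_inf.1 w.2).1)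
        refine hle ?_
        have := Fintype.ofFinite (Subgroup.center G)
        let F := Finset.univ.filter fun x : Subgroup.center G => x ^ p = 1
        let T := Finset.univ.filter fun x : Subgroup.center G => x ∈ Subgroup.zpowers w'
        have hTF : T ⊆ F := fun x hx => by
          obtain ⟨k, rfl⟩ := mem_powers_iff_mem_zpowers.2 (Finset.mem_filter.1 hx).2
          refine Finset.mem_filter.2 ⟨Finset.mem_univ _, ?_⟩
          rw [← pow_mul, mul_comm, pow_mul, ← hw', pow_orderOf_eq_one, one_pow]
        have hT : T.card = p := by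
          rw [← hw', ← Nat.card_zpowers, Nat.card_eq_fintype_card]
          exact (Fintype.card_subtype _).symm
        have hF : F.card ≤ p := IsCyclic.card_pow_eq_one_le (Fact.out : p.Prime).pos
        have hzF : z ∈ F := Finset.mem_filter.2 ⟨Finset.mem_univ _, by rw [← hz, pow_orderOf_eq_one]⟩
        rw [← Finset.eq_of_subset_of_card_le hTF (hT ▸ hF)] at hzF
        exact (Finset.mem_filter.1 hzF).2
      exact hχ (Subgroup.mem_subgroupOf.1 hzK)
    intro x y hxy
    have : x * y⁻¹ ∈ K := by
      rw [hK, mem_charKer_rep, map_mul, hxy, ← map_mul, mul_inv_cancel, map_one]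
    rw [hbot, Subgroup.mem_bot, mul_inv_eq_one] at this
    exact this

end Cfsg.Agent.S0184
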