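import Cfsg.Statements.S0185
import Cfsg.Agent.Lib.CharBasicInt
import Cfsg.Agent.Lib.CharBasicLinear

set_option autoImplicit false
open Cfsg

namespace Cfsg.Agent.S0185

open Cfsg.Agent.CharBasic Cfsg.Agent.CharBasicOrth Cfsg.Agent.CharBasicDecomp Cfsg.Agent.CharBasicLinear

theorem comm_of_small {G : Type*} [Group G] [Finite G] {V : Type*} [AddCommGroup V] [Module ℂ V]
    [FiniteDimensional ℂ V] (ρ : Representation ℂ G V)
    (hdeg : ∀ p : ℕ, p.Prime → p ∣ Nat.card G → Module.finrank ℂ V < p) (a b : G) :
    ρ (a * b) = ρ (b * a) := by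
  have := Fintype.ofFinite G
  obtain ⟨m, -, hm⟩ := exists_mult (isCharacter_of_rep ρ)
  choose d hd0 hd1 hd2 using fun ψ : Cfsg.IrrCharacter G =>
    CharBasicInt.exists_apply_one_dvd_card ψ.2
  have h1 : Module.finrank ℂ V = ∑ ψ, m ψ * d ψ := by
    have h := congrFun hm 1
    simp only [Representation.char_one, Finset.sum_apply, Pi.smul_apply, hd1, smul_eq_mul,
      ← Nat.cast_mul, ← Nat.cast_sum] at h
    exact Nat.cast_injective h
  set c := a * b * a⁻¹ * b⁻¹ with hc
  have h2 : ρ.character c = ρ.character 1 := by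
    rw [hm, Finset.sum_apply, Finset.sum_apply]
    refine Finset.sum_congr rfl fun ψ _ => ?_
    rcases Nat.eq_zero_or_pos (m ψ) with h0 | h0
    · simp [h0]
    · have hd : d ψ = 1 := by
        by_contra hne
        have hle : m ψ * d ψ ≤ ∑ φ, m φ * d φ :=
          Finset.single_le_sum (f := fun φ => m φ * d φ) (fun _ _ => Nat.zero_le _) (Finset.mem_univ ψ)
        have hlt := hdeg _ (Nat.minFac_prime hne) ((Nat.minFac_dvd _).trans (hd2 ψ))
        have hmin := Nat.minFac_le (hd0 ψ)
        have hmd : d ψ ≤ m ψ * d ψ := Nat.le_mul_of_pos_left _ h0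
        omega
      obtain ⟨lam, hlam⟩ := exists_hom_of_apply_one_eq_one
        (isCharacter_of_isIrrCharacter ψ.2) (by rw [hd1, hd, Nat.cast_one])
      simp only [Pi.smul_apply, hlam, hc, map_mul, map_inv, map_one]
      rw [mul_comm (lam a) (lam b), mul_inv_cancel_right, mul_inv_cancel, Units.val_one]
  have h3 := eq_one_of_character_eq_finrank ρ c (h2.trans (Representation.char_one ρ))
  rw [show a * b = c * (b * a) by rw [hc]; group, map_mul, h3]
  rfl


/-- If a finite group has a faithful complex representation of degree less than the smallest prime dividing its order, the group is abelian. -/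
theorem result {G : Type*} [Group G] [Finite G] {V : Type*} [AddCommGroup V] [Module ℂ V] [FiniteDimensional ℂ V] (ρ : Representation ℂ G V) (hfaithful : Function.Injective ρ) (hdeg : ∀ p : ℕ, p.Prime → p ∣ Nat.card G → Module.finrank ℂ V < p) (a b : G) : a * b = b * a := by
  exact hfaithful (comm_of_small ρ hdeg a b)

end Cfsg.Agent.S0185
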