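import Cfsg.Statements.S0186
import Cfsg.Agent.Lib.CharBasicInt
import Cfsg.Agent.Lib.CharBasicLinear
import Cfsg.Agent.S0185

set_option autoImplicit false
open Cfsg

namespace Cfsg.Agent.S0186

open Cfsg.Agent.CharBasic Cfsg.Agent.CharBasicOrth Cfsg.Agent.CharBasicDecomp Cfsg.Agent.CharBasicLinear


theorem mul_comm' {H : Type*} [Group H] [IsCyclic H] (x y : H) : x * y = y * x :=
  (inferInstance : IsMulCommutative H).is_comm.comm x y

/-- Let G be a finite simple group of order n and p a prime dividing n. If G has more than n / p^2 conjugacy classes, then every Sylow p-subgroup of G is abelian. -/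
theorem result {G : Type*} [Group G] [Finite G] [IsSimpleGroup G] (p : ℕ) [Fact p.Prime] (hp : p ∣ Nat.card G) (hmany : Nat.card G < p ^ 2 * Nat.card (ConjClasses G)) (P : Sylow p G) (a b : G) (ha : a ∈ P) (hb : b ∈ P) : a * b = b * a := by
  classical
  have := Fintype.ofFinite G
  have hp' := (Fact.out : p.Prime)
  by_contra hab
  have hZ : Subgroup.center G = ⊥ := by
    rcases (Subgroup.center G).normal_of_characteristic.eq_bot_or_eq_top with h | h
    · exact h
    · exact absurd ((Subgroup.mem_center_iff.1 (h ▸ Subgroup.mem_top a) b).symm) hab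
  choose d hd0 hd1 hd2 using fun ψ : Cfsg.IrrCharacter G =>
    CharBasicInt.exists_apply_one_dvd_card ψ.2
  have hinj : ∀ (n : ℕ) (ρ : Representation ℂ G (Fin n → ℂ)),
      ρ.character ≠ (fun _ => 1) → ρ.IsIrreducible → Function.Injective ρ := by
    intro n ρ hne hi
    rcases (charKer_normal _ (isCharacter_of_rep ρ)).eq_bot_or_eq_top with h | h
    · intro x y hxy
      have : x * y⁻¹ ∈ charKer ρ.character (isCharacter_of_rep ρ) := by
        rw [mem_charKer_rep, map_mul, hxy, ← map_mul, mul_inv_cancel, map_one]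
      rw [h, Subgroup.mem_bot, mul_inv_eq_one] at this
      exact this
    · exfalso
      refine hne ?_
      have hc : ∀ g, ρ.character g = ρ.character 1 := fun g => by
        have hg : g ∈ charKer ρ.character (isCharacter_of_rep ρ) := h ▸ Subgroup.mem_top g
        exact hg
      have h1 := classInner_character_irreducible_self ρ
      have hr := card_mul_classInner ρ.character ρ.character
      rw [h1, mul_one] at hr
      simp only [hc, Representation.char_one, map_natCast, Finset.sum_const, Finset.card_univ,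
        nsmul_eq_mul, Nat.card_eq_fintype_card] at hr
      have hF : (Fintype.card G : ℂ) ≠ 0 := Nat.cast_ne_zero.2 Fintype.card_pos.ne'
      have hn1 : (Module.finrank ℂ (Fin n → ℂ) : ℂ) * Module.finrank ℂ (Fin n → ℂ) = 1 :=
        mul_left_cancel₀ hF (by rw [mul_one]; exact hr.symm)
      have hn : Module.finrank ℂ (Fin n → ℂ) = 1 :=
        Nat.eq_one_of_mul_eq_one_right (by exact_mod_cast hn1)
      funext g
      rw [hc g, Representation.char_one, hn, Nat.cast_one]
  have hbig : ∀ ψ : Cfsg.IrrCharacter G, ψ ≠ trivIrr G → p + 1 ≤ d ψ := by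
    intro ψ hψ
    by_contra hlt
    have hdψ := hd1 ψ
    obtain ⟨χ, n, ρ, hi, rfl⟩ := ψ
    have hfn : Module.finrank ℂ (Fin n → ℂ) = d ⟨ρ.character, n, ρ, hi, rfl⟩ := by
      change ρ.character 1 = _ at hdψ
      rw [Representation.char_one] at hdψ
      exact Nat.cast_injective hdψ
    have hfaith := hinj n ρ (fun h => hψ (Subtype.ext h)) hi
    let τ := repComap P.toSubgroup.subtype ρ
    have hτinj : Function.Injective τ := hfaith.comp Subtype.val_injective
    have hP : ∀ q : ℕ, q.Prime → q ∣ Nat.card P.toSubgroup → q = p := fun q hq hqd => by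
      obtain ⟨k, hk⟩ := IsPGroup.iff_card.1 P.isPGroup'
      rw [hk] at hqd
      exact (Nat.prime_dvd_prime_iff_eq hq hp').1 (hq.dvd_of_dvd_pow hqd)
    have hcomm : (∀ q : ℕ, q.Prime → q ∣ Nat.card P.toSubgroup → Module.finrank ℂ (Fin n → ℂ) < q) →
        False := fun h => hab (congrArg Subtype.val
      (hτinj (S0185.comm_of_small τ h ⟨a, ha⟩ ⟨b, hb⟩)))
    rcases Nat.lt_or_ge (Module.finrank ℂ (Fin n → ℂ)) p with hsm | hge
    · exact hcomm fun q hq hqd => (hP q hq hqd).symm ▸ hsm
    · have hdp : Module.finrank ℂ (Fin n → ℂ) = p := by omega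
      by_cases hirr : τ.IsIrreducible
      · have hnt : Nontrivial P.toSubgroup :=
          ⟨⟨⟨a, ha⟩, ⟨b, hb⟩, fun h => hab (by have e : a = b := congrArg Subtype.val h; rw [e])⟩⟩
        have : Nontrivial (Subgroup.center P.toSubgroup) := P.isPGroup'.center_nontrivial
        obtain ⟨⟨z, hz⟩, hz1⟩ := exists_ne (1 : Subgroup.center P.toSubgroup)
        obtain ⟨c, hc⟩ := exists_scalar_of_mem_center τ hz
        have hzc : (z : G) ∈ Subgroup.center G := by
          refine Subgroup.mem_center_iff.2 fun g => hfaith ?_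
          rw [map_mul, map_mul, show ρ z = c • LinearMap.id from hc]
          refine LinearMap.ext fun v => ?_
          simp
        rw [hZ, Subgroup.mem_bot] at hzc
        exact hz1 (Subtype.ext (Subtype.ext hzc))
      · have : Nontrivial (Fin n → ℂ) := nontrivial_of_irreducible ρ
        obtain ⟨U, U', hU, -, -, h1, h2⟩ := exists_decomposition hirr
        have hsmall : ∀ U : Subrepresentation τ, Module.finrank ℂ U.toSubmodule < p →
            U.toSubmodule ≤ LinearMap.eqLocus (τ (⟨a, ha⟩ * ⟨b, hb⟩)) (τ (⟨b, hb⟩ * ⟨a, ha⟩)) := by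
          intro U hU v hv
          exact congrArg (fun T => ((T ⟨v, hv⟩ : U.toSubmodule) : Fin n → ℂ))
            (S0185.comm_of_small U.toRepresentation
              (fun q hq hqd => (hP q hq hqd).symm ▸ hU) ⟨a, ha⟩ ⟨b, hb⟩)
        have heq : τ (⟨a, ha⟩ * ⟨b, hb⟩) = τ (⟨b, hb⟩ * ⟨a, ha⟩) := by
          refine LinearMap.ext fun v => ?_
          have hv : v ∈ U.toSubmodule ⊔ U'.toSubmodule := hU.sup_eq_top ▸ Submodule.mem_top
          exact sup_le (hsmall U (hdp ▸ h1)) (hsmall U' (hdp ▸ h2)) hv
        exact hab (congrArg Subtype.val (hτinj heq))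
  have hp3 : p ^ 3 ≤ Nat.card G := by
    obtain ⟨k, hk⟩ := IsPGroup.iff_card.1 P.isPGroup'
    have hk3 : 3 ≤ k := by
      by_contra hk2
      refine hab (congrArg Subtype.val ((?_ : ∀ x y : P.toSubgroup, x * y = y * x) ⟨a, ha⟩ ⟨b, hb⟩))
      interval_cases k
      · intro x y
        rw [pow_zero] at hk
        have := (Nat.card_eq_one_iff_unique.1 hk).1
        exact Subsingleton.elim _ _
      · have := isCyclic_of_prime_card (α := P.toSubgroup) (p := p) (by simpa using hk)
        exact fun x y => mul_comm' x y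
      · exact fun x y => (IsPGroup.isMulCommutative_of_card_eq_prime_sq hk).is_comm.comm x y
    exact le_trans (Nat.pow_le_pow_right hp'.pos hk3) (hk ▸ Nat.le_of_dvd Nat.card_pos
      (Subgroup.card_subgroup_dvd_card _))
  have hsum : ∑ ψ, d ψ * d ψ = Nat.card G := by
    have h := sum_sq_apply_one (G := G)
    simp only [hd1, sq, ← Nat.cast_mul, ← Nat.cast_sum] at h
    exact Nat.cast_injective h
  rw [← card_irrCharacter, Nat.card_eq_fintype_card (α := Cfsg.IrrCharacter G)] at hmany
  have hge : (Fintype.card (Cfsg.IrrCharacter G) - 1) * ((p + 1) * (p + 1)) + 1 ≤ Nat.card G := by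
    rw [← hsum, ← Finset.sum_erase_add _ _ (Finset.mem_univ (trivIrr G))]
    refine Nat.add_le_add ?_ (Nat.mul_pos (hd0 _) (hd0 _))
    rw [← Finset.card_univ, ← Finset.card_erase_of_mem (Finset.mem_univ (trivIrr G)), ← smul_eq_mul,
      ← Finset.sum_const]
    exact Finset.sum_le_sum fun ψ hψ =>
      Nat.mul_le_mul (hbig ψ (Finset.mem_erase.1 hψ).1) (hbig ψ (Finset.mem_erase.1 hψ).1)
  have hk1 : 1 ≤ Fintype.card (Cfsg.IrrCharacter G) := Fintype.card_pos_iff.2 ⟨trivIrr G⟩
  obtain ⟨j, hj⟩ := Nat.exists_eq_add_of_le hk1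
  rw [hj] at hmany hge
  simp only [add_tsub_cancel_left] at hge
  have h2 := hp'.two_le
  nlinarith

end Cfsg.Agent.S0186
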