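import Mathlib
import Cfsg.Statements.S0187
import Cfsg.Agent.Lib.CharBasicOrth

set_option autoImplicit false
open Cfsg

namespace Cfsg.Agent.S0187

/-- A finite group is commutative if and only if every irreducible complex character has degree 1. -/
theorem result {G : Type*} [Group G] [Finite G] : (∀ a b : G, a * b = b * a) ↔ ∀ χ : Cfsg.IrrCharacter G, (χ : G → ℂ) 1 = 1 := by
  classical
  constructor
  · intro hab χ
    obtain ⟨n, ρ, hρ, h⟩ := χ.2
    haveI := hρ
    haveI : IsMulCommutative G := ⟨⟨hab⟩⟩
    rw [← h, Representation.char_one, Representation.IsIrreducible.finrank_eq_one_of_isMulCommutative (ρ := ρ)]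
    simp
  · intro h a b
    have hC : ∀ g : G, ∀ χ : Cfsg.IrrCharacter G, ∀ x : G, (χ : G → ℂ) (g * x) =
        (χ : G → ℂ) g * (χ : G → ℂ) x := by
      intro g χ x
      have h1 := h χ
      obtain ⟨n, ρ, hρ, hχ⟩ := χ.2
      rw [← hχ] at h1 ⊢
      have hn : Module.finrank ℂ (Fin n → ℂ) = 1 := by
        rw [Representation.char_one] at h1
        exact_mod_cast h1
      let bb := Module.finBasisOfFinrankEq ℂ (Fin n → ℂ) hn
      simp only [Representation.character, LinearMap.trace_eq_matrix_trace ℂ bb,
        Matrix.trace_fin_one]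
      rw [map_mul, LinearMap.toMatrix_mul, Matrix.mul_apply, Fin.sum_univ_one]
    have hconj : IsConj (a * b) (b * a) := isConj_iff.2 ⟨b, by group⟩
    -- all classes are singletons
    have hcls : ∀ g : G, Nat.card (Subgroup.centralizer ({g} : Set G)) = Nat.card G := by
      intro g
      have h1 := CharBasicOrth.sum_irr_mul_conj g g
      rw [if_pos (IsConj.refl g)] at h1
      have h2 : ∀ χ : Cfsg.IrrCharacter G,
          (χ : G → ℂ) g * (starRingEnd ℂ) ((χ : G → ℂ) g) = (χ : G → ℂ) 1 ^ 2 := by
        intro χ
        rw [← CharBasic.isCharacter_inv (CharBasic.isCharacter_of_isIrrCharacter χ.2) g, ← hC,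
          mul_inv_cancel, h χ]
        simp
      rw [Finset.sum_congr rfl fun χ _ => h2 χ, CharBasicOrth.sum_sq_apply_one] at h1
      exact_mod_cast h1.symm
    have := Subgroup.eq_top_of_card_eq _ (hcls a)
    exact (Subgroup.mem_centralizer_singleton_iff.1 (this ▸ Subgroup.mem_top b)).symm

end Cfsg.Agent.S0187
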