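import Cfsg.Statements.S0188
import Cfsg.Agent.Lib.CharBasicDecomp

set_option autoImplicit false
open Cfsg

namespace Cfsg.Agent.S0188

open Cfsg.Agent.CharBasic Cfsg.Agent.CharBasicOrth Cfsg.Agent.CharBasicDecomp
open scoped ComplexConjugate

theorem isIrr_prod {G H : Type*} [Group G] [Fintype G] [Group H] [Fintype H]
    {φ : G → ℂ} {ψ : H → ℂ} (hφ : Cfsg.IsIrrCharacter G φ) (hψ : Cfsg.IsIrrCharacter H ψ) :
    Cfsg.IsIrrCharacter (G × H) (fun x => φ x.1 * ψ x.2) := by
  rw [isIrrCharacter_iff]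
  refine ⟨isCharacter_mul
    (isCharacter_comap (MonoidHom.fst G H) (isCharacter_of_isIrrCharacter hφ))
    (isCharacter_comap (MonoidHom.snd G H) (isCharacter_of_isIrrCharacter hψ)), ?_⟩
  have h1 := classInner_irr_self hφ
  have h2 := classInner_irr_self hψ
  rw [Cfsg.classInner] at h1 h2 ⊢
  rw [Nat.card_prod, Nat.cast_mul, mul_inv, Fintype.sum_prod_type]
  simp only [map_mul]
  calc (Nat.card G : ℂ)⁻¹ * (Nat.card H : ℂ)⁻¹ *
        ∑ g : G, ∑ h : H, φ g * ψ h * (conj (φ g) * conj (ψ h))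
      = ((Nat.card G : ℂ)⁻¹ * ∑ g, φ g * conj (φ g)) *
          ((Nat.card H : ℂ)⁻¹ * ∑ h, ψ h * conj (ψ h)) := by
        rw [mul_mul_mul_comm, Finset.sum_mul_sum]
        simp only [mul_mul_mul_comm]
    _ = 1 := by rw [h1, h2, one_mul]


/-- The irreducible complex characters of G × H are precisely the functions (g, h) ↦ φ g * ψ h with φ, ψ irreducible characters of G and H. -/
theorem result {G : Type*} [Group G] [Finite G] {H : Type*} [Group H] [Finite H] (θ : G × H → ℂ) : Cfsg.IsIrrCharacter (G × H) θ ↔ ∃ (φ : G → ℂ) (ψ : H → ℂ), Cfsg.IsIrrCharacter G φ ∧ Cfsg.IsIrrCharacter H ψ ∧ θ = fun x => φ x.1 * ψ x.2 := by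
  have := Fintype.ofFinite G
  have := Fintype.ofFinite H
  refine ⟨fun hθ => ?_, fun ⟨φ, ψ, hφ, hψ, h⟩ => h ▸ isIrr_prod hφ hψ⟩
  by_contra hno
  push Not at hno
  have h0 : ∀ φ ψ, Cfsg.IsIrrCharacter G φ → Cfsg.IsIrrCharacter H ψ →
      ∑ g, ∑ h, θ (g, h) * conj (φ g * ψ h) = 0 := by
    intro φ ψ hφ hψ
    have h := card_mul_classInner θ (fun x : G × H => φ x.1 * ψ x.2)
    rw [classInner_irr_ne hθ (isIrr_prod hφ hψ) (hno φ ψ hφ hψ), mul_zero,
      Fintype.sum_prod_type] at h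
    exact h.symm
  have hcl := isClassFunction_of_isCharacter (isCharacter_of_isIrrCharacter hθ)
  have hG : (Nat.card G : ℂ) ≠ 0 := Nat.cast_ne_zero.2 Nat.card_pos.ne'
  have h1 : ∀ φ, Cfsg.IsIrrCharacter G φ → (fun h : H => ∑ g, θ (g, h) * conj (φ g)) = 0 := by
    intro φ hφ
    refine eq_zero_of_forall_classInner ?_ fun ψ hψ => ?_
    · intro h x
      refine Finset.sum_congr rfl fun g _ => ?_
      congr 1
      simpa using hcl (g, h) (1, x)
    · rw [Cfsg.classInner]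
      refine mul_eq_zero_of_right _ ?_
      rw [← h0 φ ψ hφ hψ]
      simp only [Finset.sum_mul, map_mul, mul_assoc]
      exact Finset.sum_comm
  have h2 : (fun g : G => θ (g, 1)) = 0 := by
    refine eq_zero_of_forall_classInner ?_ fun φ hφ => ?_
    · intro g x
      simpa using hcl (g, 1) (x, 1)
    · rw [Cfsg.classInner]
      exact mul_eq_zero_of_right _ (congrFun (h1 φ hφ) 1)
  exact isIrrCharacter_apply_one_ne_zero hθ (congrFun h2 1)

end Cfsg.Agent.S0188
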