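import Mathlib
import Cfsg.Statements.S0190
import Cfsg.Agent.Lib.CharInducedBasic

set_option autoImplicit false
open Cfsg

namespace Cfsg.Agent.S0190

/-- For a transitive action of a finite group on X, the permutation character g ↦ (number of fixed points of g) is the function induced from the principal character of the stabilizer of any point. -/
theorem result {G : Type*} [Group G] [Fintype G] (X : Type*) [MulAction G X] [Finite X] [MulAction.IsPretransitive G X] (x : X) : (fun g : G => (Nat.card (MulAction.fixedBy X g) : ℂ)) = Cfsg.indFun (MulAction.stabilizer G x) (fun _ => 1) := by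
  classical
  funext g
  rw [CharInduced.indFun_apply]
  let S := MulAction.stabilizer G x
  have hterm : ∀ y : G, extendByZero S (fun _ => (1 : ℂ)) (y⁻¹ * g * y) =
      if g • (y • x) = y • x then 1 else 0 := by
    intro y
    have hiff : y⁻¹ * g * y ∈ S ↔ g • (y • x) = y • x := by
      rw [MulAction.mem_stabilizer_iff, mul_smul, mul_smul, inv_smul_eq_iff]
    by_cases hy : y⁻¹ * g * y ∈ S
    · rw [CharInduced.ext_zero_of_mem _ hy, if_pos (hiff.1 hy)]
    · rw [CharInduced.ext_zero_of_not_mem _ hy, if_neg (hy ∘ hiff.2)]
  rw [Finset.sum_congr rfl fun y _ => hterm y, Finset.sum_boole, ← Fintype.card_subtype,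
    ← Nat.card_eq_fintype_card]
  haveI := Fintype.ofFinite X
  have e : {y : G // g • (y • x) = y • x} ≃ MulAction.fixedBy X g × S :=
    { toFun := fun y => (⟨y.1 • x, y.2⟩,
        ⟨((MulAction.exists_smul_eq G x (y.1 • x)).choose)⁻¹ * y.1, by
          rw [MulAction.mem_stabilizer_iff, mul_smul, inv_smul_eq_iff]
          exact (MulAction.exists_smul_eq G x (y.1 • x)).choose_spec.symm⟩)
      invFun := fun p => ⟨(MulAction.exists_smul_eq G x p.1.1).choose * p.2.1, by
          rw [mul_smul, MulAction.mem_stabilizer_iff.1 p.2.2,
            (MulAction.exists_smul_eq G x p.1.1).choose_spec]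
          exact p.1.2⟩
      left_inv := fun y => Subtype.ext (by simp)
      right_inv := fun p => by
        have h1 : ((MulAction.exists_smul_eq G x p.1.1).choose * p.2.1) • x = p.1.1 := by
          rw [mul_smul, MulAction.mem_stabilizer_iff.1 p.2.2,
            (MulAction.exists_smul_eq G x p.1.1).choose_spec]
        refine Prod.ext (Subtype.ext h1) (Subtype.ext ?_)
        simp only [h1]
        simp }
  rw [Nat.card_congr e, Nat.card_prod, Nat.cast_mul, mul_comm (Nat.card (MulAction.fixedBy X g) : ℂ),
    ← mul_assoc, inv_mul_cancel₀ (Nat.cast_ne_zero.2 Nat.card_pos.ne'), one_mul]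

end Cfsg.Agent.S0190
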