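import Mathlib
import Cfsg.Statements.S0192
import Cfsg.Agent.Lib.CharBasicOrth

set_option autoImplicit false
open Cfsg

namespace Cfsg.Agent.S0192

/-- Brauer's generation criterion. Let G be a finite simple group, H₁ and H₂ subgroups, and χ a non-principal irreducible character. If the multiplicity of the principal character in χ restricted to H₁ ⊓ H₂ is less than the sum of the corresponding multiplicities for H₁ and H₂, then H₁ and H₂ do not generate G. -/
theorem result {G : Type*} [Group G] [Fintype G] [IsSimpleGroup G] (H₁ H₂ : Subgroup G) [Fintype H₁] [Fintype H₂] [Fintype ↥(H₁ ⊓ H₂)] (χ : G → ℂ) (hχ : Cfsg.IsIrrCharacter G χ) (hχ1 : χ ≠ fun _ => 1) (hlt : (Cfsg.classInner (fun x : ↥(H₁ ⊓ H₂) => χ x) (fun _ => 1)).re < (Cfsg.classInner (fun x : H₁ => χ x) (fun _ => 1)).re + (Cfsg.classInner (fun x : H₂ => χ x) (fun _ => 1)).re) : H₁ ⊔ H₂ ≠ ⊤ := by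
  classical
  intro htop
  obtain ⟨n, ρ, hρ, rfl⟩ := hχ
  let F : Subgroup G → Submodule ℂ (Fin n → ℂ) := fun K =>
    (CharBasic.repComap K.subtype ρ).invariants
  have hF : ∀ (K : Subgroup G) [Fintype K],
      (Cfsg.classInner (fun x : K => ρ.character x) (fun _ => 1)).re =
        (Module.finrank ℂ (F K) : ℝ) := by
    intro K _
    haveI : Invertible (Nat.card K : ℂ) :=
      invertibleOfNonzero (Nat.cast_ne_zero.2 Nat.card_pos.ne')
    have h := Representation.card_inv_mul_sum_char_eq_finrank (CharBasic.repComap K.subtype ρ)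
    have h' : Cfsg.classInner (fun x : K => ρ.character x) (fun _ => 1) =
        (Module.finrank ℂ (F K) : ℂ) := by
      rw [← h]
      simp [Cfsg.classInner, CharBasic.character_repComap]
    rw [h']
    simp
  rw [hF, hF, hF] at hlt
  have hlt' : Module.finrank ℂ (F (H₁ ⊓ H₂)) <
      Module.finrank ℂ (F H₁) + Module.finrank ℂ (F H₂) := by exact_mod_cast hlt
  have hle : F H₁ ⊔ F H₂ ≤ F (H₁ ⊓ H₂) := by
    refine sup_le (fun v hv => ?_) (fun v hv => ?_) <;> intro g
    · exact hv ⟨g, g.2.1⟩
    · exact hv ⟨g, g.2.2⟩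
  have hdim := Submodule.finrank_sup_add_finrank_inf_eq (F H₁) (F H₂)
  have hmono := Submodule.finrank_mono hle
  have hne : F H₁ ⊓ F H₂ ≠ ⊥ := by
    intro h
    rw [h, finrank_bot] at hdim
    omega
  obtain ⟨v, hv, hv0⟩ := Submodule.exists_mem_ne_zero_of_ne_bot hne
  have hfix : ∀ g : G, ρ g v = v := by
    intro g
    have hg : g ∈ H₁ ⊔ H₂ := htop ▸ Subgroup.mem_top g
    rw [Subgroup.sup_eq_closure] at hg
    induction hg using Subgroup.closure_induction with
    | mem a ha =>
      rcases ha with ha | ha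
      · exact hv.1 ⟨a, ha⟩
      · exact hv.2 ⟨a, ha⟩
    | one => simp
    | mul a b _ _ iha ihb => rw [map_mul, Module.End.mul_apply, ihb, iha]
    | inv a _ iha =>
      conv_lhs => rw [← iha]
      rw [← Module.End.mul_apply, ← map_mul, inv_mul_cancel, map_one]
      rfl
  let S : Subrepresentation ρ :=
    ⟨Submodule.span ℂ {v}, fun g w hw => by
      obtain ⟨c, rfl⟩ := Submodule.mem_span_singleton.1 hw
      rw [map_smul, hfix]
      exact hw⟩
  rcases IsSimpleOrder.eq_bot_or_eq_top S with hS | hS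
  · have : v ∈ S.toSubmodule := Submodule.mem_span_singleton_self v
    rw [hS] at this
    exact hv0 ((Submodule.mem_bot ℂ).1 this)
  · have hspan : Submodule.span ℂ {v} = ⊤ := congrArg Subrepresentation.toSubmodule hS
    apply hχ1
    funext g
    have hid : ρ g = LinearMap.id := LinearMap.ext fun w => by
      obtain ⟨c, rfl⟩ := Submodule.mem_span_singleton.1 (hspan ▸ Submodule.mem_top : w ∈ _)
      rw [map_smul, hfix]
      rfl
    have h1 : Module.finrank ℂ (Fin n → ℂ) = 1 := by
      rw [← finrank_top ℂ (Fin n → ℂ), ← hspan, finrank_span_singleton hv0]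
    show LinearMap.trace ℂ _ (ρ g) = 1
    rw [hid, LinearMap.trace_id, h1, Nat.cast_one]

end Cfsg.Agent.S0192
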