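import Cfsg.Statements.S0194
import Cfsg.Agent.Lib.CharInducedClifford
import Cfsg.Agent.S0161

set_option autoImplicit false
open scoped ComplexConjugate
open Cfsg

namespace Cfsg.Agent.S0194

/-- Let G have odd order, H be a normal subgroup and θ a non-principal irreducible character of H. Then the function induced from θ is orthogonal to its complex conjugate. -/
theorem result {G : Type*} [Group G] [Fintype G] (hodd : Odd (Nat.card G)) (H : Subgroup G) [H.Normal] (θ : H → ℂ) (hθ : Cfsg.IsIrrCharacter H θ) (hθ1 : θ ≠ fun _ => 1) : Cfsg.classInner (fun g => conj (Cfsg.indFun H θ g)) (Cfsg.indFun H θ) = 0 := by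
  classical
  have := Fintype.ofFinite H
  have hθc : Cfsg.IsIrrCharacter H (fun h => (starRingEnd ℂ) (θ h)) :=
    Cfsg.Agent.CharBasicDecomp.isIrrCharacter_conj hθ
  rw [← Cfsg.Agent.CharInduced.ind_conj H θ]
  refine Cfsg.Agent.CharInduced.classInner_ind_ind_eq_zero H hθc hθ fun hmem => hθ1 ?_
  obtain ⟨g, hg⟩ := (Cfsg.Agent.CharInduced.mem_orbitFin H).1 hmem
  have hconj : ∀ a : G, Cfsg.Agent.CharInduced.conjFun H (fun h => (starRingEnd ℂ) (θ h)) a =
      fun h => (starRingEnd ℂ) (Cfsg.Agent.CharInduced.conjFun H θ a h) := fun a => rfl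
  -- `g ^ 2` fixes `θ`, hence so does `g`
  have h1 : Cfsg.Agent.CharInduced.conjFun H θ g = fun h => (starRingEnd ℂ) (θ h) := by
    funext h
    have := congrArg (starRingEnd ℂ) (congrFun hg h)
    rw [hconj, Complex.conj_conj] at this
    exact this
  have h2 : g * g ∈ Cfsg.Agent.CharInduced.inertia H θ := by
    rw [Cfsg.Agent.CharInduced.mem_inertia, ← Cfsg.Agent.CharInduced.conjFun_conjFun, h1, hg]
  have h3 : g ∈ Cfsg.Agent.CharInduced.inertia H θ := by
    obtain ⟨j, hj⟩ : Odd (orderOf g) := Odd.of_dvd_nat hodd (orderOf_dvd_natCard g)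
    have hpow := pow_mem h2 (j + 1)
    rwa [← sq, ← pow_mul, show 2 * (j + 1) = 2 * j + 1 + 1 by ring, ← hj, pow_succ,
      pow_orderOf_eq_one, one_mul] at hpow
  rw [Cfsg.Agent.CharInduced.mem_inertia] at h3
  have hreal : ∀ x : H, θ x⁻¹ = θ x := fun x => by
    rw [Cfsg.Agent.CharBasic.isCharacter_inv
      (Cfsg.Agent.CharBasic.isCharacter_of_isIrrCharacter hθ) x]
    exact (congrFun (h3.symm.trans h1) x).symm
  refine Cfsg.Agent.S0161.real_eq_one (Odd.of_dvd_nat hodd ?_) hθ hreal
  exact Subgroup.card_subgroup_dvd_card H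

end Cfsg.Agent.S0194
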