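import Mathlib
import Cfsg.Statements.S0196

set_option autoImplicit false
open Cfsg

namespace Cfsg.Agent.S0196

/-- Let A be a subgroup of a finite group G that equals the centralizer of each of its non-identity elements, and let N be its normalizer. Then the index of A in N divides |A| − 1 (N/A permutes the non-identity elements of A in orbits of full length). -/
theorem result {G : Type*} [Group G] [Finite G] (A : Subgroup G) (hA : ∀ x ∈ A, x ≠ 1 → Subgroup.centralizer ({x} : Set G) = A) : (A.subgroupOf (Subgroup.normalizer (A : Set G))).index ∣ Nat.card A - 1 := by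
  classical
  let N := Subgroup.normalizer (A : Set G)
  let B : Subgroup N := A.subgroupOf N
  let X := {a : A // (a : G) ≠ 1}
  haveI : B.Normal := Subgroup.normal_in_normalizer
  have hmem : ∀ (g : N) (a : A), (g : G) * a * (g : G)⁻¹ ∈ A := fun g a =>
    (Subgroup.mem_normalizer_iff.1 g.2 a).1 a.2
  letI act : MulAction N X :=
    { smul := fun g a => ⟨⟨(g : G) * a.1 * (g : G)⁻¹, hmem g a.1⟩, fun h => a.2 (by simpa using h)⟩
      one_smul := fun a => Subtype.ext (Subtype.ext (by
        show (1 : G) * (a.1 : G) * (1 : G)⁻¹ = _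
        group))
      mul_smul := fun g h a => Subtype.ext (Subtype.ext (by
        show ((g : G) * h) * (a.1 : G) * ((g : G) * h)⁻¹ = (g : G) * ((h : G) * a.1 * (h : G)⁻¹) * (g : G)⁻¹
        group)) }
  have hstab : ∀ a : X, MulAction.stabilizer N a = B := by
    intro a
    ext g
    rw [MulAction.mem_stabilizer_iff, Subgroup.mem_subgroupOf, ← hA a.1 a.1.2 a.2,
      Subgroup.mem_centralizer_singleton_iff]
    constructor
    · intro h
      have h' : (g : G) * a.1 * (g : G)⁻¹ = a.1 := congrArg (fun z : X => (z.1 : G)) h
      calc (g : G) * a.1 = (g : G) * a.1 * (g : G)⁻¹ * g := by group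
        _ = a.1 * g := by rw [h']
    · intro h
      refine Subtype.ext (Subtype.ext ?_)
      show (g : G) * a.1 * (g : G)⁻¹ = a.1
      rw [h]; group
  have hcard : Nat.card X = Nat.card A - 1 := by
    haveI := Fintype.ofFinite A
    rw [Nat.card_eq_fintype_card, Nat.card_eq_fintype_card, Fintype.card_subtype_compl]
    congr 1
    rw [Fintype.card_eq_one_iff]
    exact ⟨⟨1, rfl⟩, fun y => Subtype.ext (Subtype.ext y.2)⟩
  rw [← hcard, Nat.card_congr (MulAction.selfEquivSigmaOrbits N X)]
  haveI := Fintype.ofFinite (MulAction.orbitRel.Quotient N X)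
  haveI : ∀ ω : MulAction.orbitRel.Quotient N X, Finite (MulAction.orbit N ω.out) := fun ω =>
    Subtype.finite
  rw [Nat.card_sigma]
  refine Finset.dvd_sum fun ω _ => ?_
  rw [Nat.card_coe_set_eq, ← MulAction.index_stabilizer, hstab]

end Cfsg.Agent.S0196
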