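import Cfsg.Statements.S0197
import Cfsg.Agent.Lib.GL23CentOrder

set_option autoImplicit false
open Cfsg

namespace Cfsg.Agent.S0197

/-- If a finite simple group has an involution whose centralizer is isomorphic to the general linear group GL(2, 3), then the group has order 5616 or 7920. -/
theorem result {G : Type*} [Group G] [Finite G] [IsSimpleGroup G] (t : G) (ht : orderOf t = 2) (e : Subgroup.centralizer ({t} : Set G) ≃* Matrix.GeneralLinearGroup (Fin 2) (ZMod 3)) : Nat.card G = 5616 ∨ Nat.card G = 7920 := by
  obtain ⟨f, hs⟩ := GL23CentOrder.exists_setup ht e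
  refine GL23CentOrder.card_eq hs fun H hH => ?_
  have hN : H.Normal := Subgroup.normal_of_index_eq_two hH
  rcases hN.eq_bot_or_eq_top with h | h
  · have h1 := hs.card_centralizer ▸
      (Subgroup.centralizer ({f GL23CentModel.tC} : Set G)).card_subgroup_dvd_card
    rw [h, Subgroup.index_bot] at hH
    rw [hH] at h1
    norm_num at h1
  · rw [h, Subgroup.index_top] at hH
    norm_num at hH

end Cfsg.Agent.S0197
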