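import Mathlib
import Cfsg.Statements.S0212
import Cfsg.Agent.Lib.InvolutionCount

set_option autoImplicit false
open Cfsg

namespace Cfsg.Agent.S0212

/-- The Brauer–Fowler bound: if G is a finite simple group and t an involution of G whose centralizer has order n, then |G| ≤ (2n^2)!. -/
theorem result {G : Type*} [Group G] [Finite G] [IsSimpleGroup G] (t : G) (ht : orderOf t = 2) : Nat.card G ≤ Nat.factorial (2 * (Nat.card (Subgroup.centralizer ({t} : Set G))) ^ 2) := by
  classical
  set n := Nat.card (Subgroup.centralizer ({t} : Set G)) with hn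
  have hn1 : 1 ≤ n := Nat.card_pos
  have two : Nat.card G = 2 → Nat.card G ≤ Nat.factorial (2 * n ^ 2) := fun h => by
    rw [h]
    calc 2 = Nat.factorial 2 := rfl
      _ ≤ _ := Nat.factorial_le (by nlinarith)
  have hdvd : 2 ∣ Nat.card G := ht ▸ orderOf_dvd_natCard t
  by_cases hcomm : ∀ a b : G, a * b = b * a
  · letI : CommGroup G := { (inferInstance : Group G) with mul_comm := hcomm }
    exact two ((Nat.prime_dvd_prime_iff_eq Nat.prime_two IsSimpleGroup.prime_card).1 hdvd).symm
  have hcent : Subgroup.center G = ⊥ := by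
    rcases (inferInstance : (Subgroup.center G).Normal).eq_bot_or_eq_top with h | h
    · exact h
    · exact absurd (fun a b => Subgroup.mem_center_iff.1 (h ▸ Subgroup.mem_top b) a) hcomm
  by_cases h2 : ∃ H : Subgroup G, H.index = 2
  · obtain ⟨H, hH⟩ := h2
    haveI := Subgroup.normal_of_index_eq_two hH
    rcases (inferInstance : H.Normal).eq_bot_or_eq_top with rfl | rfl
    · exact two (by rw [← hH, Subgroup.index_bot])
    · simp at hH
  push Not at h2
  have hz : ∀ s : G, orderOf s = 2 → s ∉ Subgroup.center G := fun s hs hmem => by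
    rw [hcent, Subgroup.mem_bot] at hmem
    exact InvolutionCount.ne_one hs hmem
  obtain ⟨H, hH, hbound⟩ := InvolutionCount.exists_large_subgroup h2 hz ht
  have hle := InvolutionCount.card_le_mul_centralizer ht
  rw [← hn] at hle
  have hidx : H.index ≤ 2 * n ^ 2 := by
    have h1 := H.card_mul_index
    set k := Nat.card {u : G // orderOf u = 2}
    have hk : 0 < k := by
      haveI : Nonempty {u : G // orderOf u = 2} := ⟨⟨t, ht⟩⟩
      exact Nat.card_pos
    by_contra hc
    push Not at hc
    have h3 : Nat.card H * (Nat.card G + k) ≤ Nat.card H * (k * (n + 1)) :=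
      Nat.mul_le_mul_left _ (by rw [mul_add, mul_one]; omega)
    have h4 : 2 * k < Nat.card H * (n + 1) := by
      have h5 : k * (2 * k) < k * (Nat.card H * (n + 1)) := by
        calc k * (2 * k) = 2 * k ^ 2 := by ring
          _ < _ := hbound
          _ ≤ _ := h3
          _ = _ := by ring
      exact Nat.lt_of_mul_lt_mul_left h5
    have h6 : Nat.card H * (2 * n ^ 2 + 1) ≤ k * n := le_trans (le_trans
      (Nat.mul_le_mul_left _ hc) h1.le) hle
    have h7 : 2 * (Nat.card H * (2 * n ^ 2 + 1)) < Nat.card H * (n + 1) * n := by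
      calc 2 * (Nat.card H * (2 * n ^ 2 + 1)) ≤ 2 * (k * n) := by omega
        _ = 2 * k * n := by ring
        _ < _ := Nat.mul_lt_mul_of_pos_right h4 hn1
    have h8 : Nat.card H * (2 * (2 * n ^ 2 + 1)) < Nat.card H * ((n + 1) * n) := by
      calc Nat.card H * (2 * (2 * n ^ 2 + 1)) = 2 * (Nat.card H * (2 * n ^ 2 + 1)) := by ring
        _ < _ := h7
        _ = _ := by ring
    have h9 := Nat.lt_of_mul_lt_mul_left h8
    nlinarith
  have hker : (MulAction.toPermHom G (G ⧸ H)).ker = ⊥ := by
    rcases ((MulAction.toPermHom G (G ⧸ H)).normal_ker).eq_bot_or_eq_top with h | h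
    · exact h
    · exfalso
      apply hH
      rw [eq_top_iff, ← h, ← Subgroup.normalCore_eq_ker]
      exact Subgroup.normalCore_le H
  calc Nat.card G ≤ Nat.card (Equiv.Perm (G ⧸ H)) :=
        Nat.card_le_card_of_injective _ ((MonoidHom.ker_eq_bot_iff _).1 hker)
    _ = H.index.factorial := by rw [Nat.card_perm]; rfl
    _ ≤ _ := Nat.factorial_le hidx

end Cfsg.Agent.S0212
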