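import Cfsg.Statements.S0214
import Cfsg.Agent.Lib.SignalizerStrongEmb

set_option autoImplicit false
open Cfsg

namespace Cfsg.Agent.S0214

open scoped Pointwise

variable {G' : Type*} [Group G']

theorem eq_of_normalizer_le [Finite G'] (K L : Subgroup G') (T U : Subgroup G')
    (hTU : T ≤ U) (hU : IsPGroup 2 U) (hUK : U ≤ K)
    (hmax : ∀ V : Subgroup G', V ≤ K → V ≤ L → T ≤ V → IsPGroup 2 V → V = T)
    (hN : Subgroup.normalizer (T : Set G') ≤ L) : U = T := by
  haveI : Fact (Nat.Prime 2) := ⟨Nat.prime_two⟩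
  by_contra hne
  haveI : Group.IsNilpotent ↥U := hU.isNilpotent
  have hlt : T.subgroupOf U < ⊤ := by
    refine lt_top_iff_ne_top.2 fun h => hne (le_antisymm ?_ hTU)
    exact Subgroup.subgroupOf_eq_top.1 h
  have hgrow := Group.normalizerCondition_of_isNilpotent (G := ↥U) _ hlt
  obtain ⟨x, hxN, hxT⟩ := SetLike.exists_of_lt hgrow
  have hxN' : (x : G') ∈ Subgroup.normalizer (T : Set G') := by
    rw [Subgroup.mem_normalizer_iff]
    intro y
    constructor
    · intro hy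
      exact (Subgroup.mem_normalizer_iff.1 hxN ⟨y, hTU hy⟩).1 hy
    · intro hy
      have hyU : y ∈ U := by
        have := mul_mem (mul_mem (inv_mem x.2) (hTU hy)) x.2
        simpa [mul_assoc] using this
      exact (Subgroup.mem_normalizer_iff.1 hxN ⟨y, hyU⟩).2 hy
  have heq := hmax (U ⊓ Subgroup.normalizer (T : Set G')) (inf_le_left.trans hUK)
    (inf_le_right.trans hN) (le_inf hTU Subgroup.le_normalizer) (hU.to_le inf_le_left)
  apply hxT
  rw [Subgroup.mem_subgroupOf, ← heq]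
  exact ⟨x.2, hxN'⟩

theorem isStronglyEmbedded_of_normalizers [Finite G'] (H : Subgroup G') (hH : H ≠ ⊤)
    (P : Sylow 2 ↥H) (hP : (P : Subgroup ↥H) ≠ ⊥)
    (h : ∀ X : Subgroup ↥H, X ≤ (P : Subgroup ↥H) → X ≠ ⊥ →
      Subgroup.normalizer ((X.map H.subtype : Subgroup G') : Set G') ≤ H) :
    Cfsg.IsStronglyEmbedded H := by
  haveI : Fact (Nat.Prime 2) := ⟨Nat.prime_two⟩
  have heven : Even (Nat.card H) := by
    obtain ⟨k, hk0, hk⟩ := P.isPGroup'.nontrivial_iff_card.1
      ((Subgroup.nontrivial_iff_ne_bot _).2 hP)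
    rw [even_iff_two_dvd]
    refine dvd_trans ?_ (Subgroup.card_subgroup_dvd_card (P : Subgroup ↥H))
    rw [hk]
    exact dvd_pow_self 2 hk0.ne'
  have hN : ∀ T : Subgroup G', T ≠ ⊥ → T ≤ H → IsPGroup 2 T →
      Subgroup.normalizer (T : Set G') ≤ H := by
    intro T hT hTH hTp g hg
    obtain ⟨Q, hQ⟩ := (hTp.comap_subtype (K := H)).exists_le_sylow
    obtain ⟨c, hc⟩ := MulAction.exists_smul_eq ↥H Q P
    have hcP : ∀ x ∈ (Q : Subgroup ↥H), c * x * c⁻¹ ∈ (P : Subgroup ↥H) := by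
      intro x hx
      rw [← hc, Sylow.coe_subgroup_smul]
      exact Subgroup.mem_map.2 ⟨x, hx, rfl⟩
    let X : Subgroup ↥H := (T.subgroupOf H).map (MulAut.conj c).toMonoidHom
    have hXP : X ≤ (P : Subgroup ↥H) := by
      rintro _ ⟨x, hx, rfl⟩
      exact hcP x (hQ hx)
    have hXm : ∀ y, y ∈ X.map H.subtype ↔ (c : G')⁻¹ * y * c ∈ T := by
      intro y
      constructor
      · rintro ⟨_, ⟨x, hx, rfl⟩, rfl⟩
        simpa [mul_assoc] using (show (x : G') ∈ T from hx)
      · intro hy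
        refine ⟨c * ⟨_, hTH hy⟩ * c⁻¹, ⟨⟨_, hTH hy⟩, hy, rfl⟩, ?_⟩
        simp [mul_assoc]
    have hX : X ≠ ⊥ := by
      intro hX0
      apply hT
      rw [Subgroup.eq_bot_iff_forall]
      intro x hx
      have h1 : (c : G') * x * (c : G')⁻¹ ∈ X.map H.subtype :=
        (hXm _).2 (by simpa [mul_assoc] using hx)
      rw [hX0, Subgroup.map_bot, Subgroup.mem_bot, mul_inv_eq_one] at h1
      exact mul_eq_left.1 h1
    have hcg : (c : G') * g * (c : G')⁻¹ ∈
        Subgroup.normalizer ((X.map H.subtype : Subgroup G') : Set G') := by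
      rw [Subgroup.mem_normalizer_iff]
      intro y
      rw [hXm, hXm, Subgroup.mem_normalizer_iff.1 hg]
      simp [mul_assoc]
    have hmem := h X hXP hX hcg
    have := mul_mem (mul_mem (inv_mem c.2) hmem) c.2
    simpa [mul_assoc] using this
  refine ⟨hH, heven, fun g hg => ?_⟩
  by_contra hodd
  set L := H.map (MulAut.conj g).toMonoidHom with hL
  obtain ⟨S, -⟩ := (IsPGroup.of_bot (p := 2) (G := ↥(H ⊓ L))).exists_le_sylow
  set T : Subgroup G' := (S : Subgroup ↥(H ⊓ L)).map (H ⊓ L).subtype with hTdef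
  have hTle : T ≤ H ⊓ L := Subgroup.map_subtype_le _
  have hTp : IsPGroup 2 T := S.isPGroup'.map _
  have hT1 : T ≠ ⊥ := by
    intro h0
    rw [hTdef, Subgroup.map_eq_bot_iff_of_injective _ (Subgroup.subtype_injective _)] at h0
    exact Sylow.ne_bot_of_dvd_card S (even_iff_two_dvd.1 (Nat.not_odd_iff_even.1 hodd)) h0
  have hTH : T ≤ H := hTle.trans inf_le_left
  have hmax : ∀ V : Subgroup G', V ≤ H → V ≤ L → T ≤ V → IsPGroup 2 V → V = T := by
    intro V hVH hVL hTV hVp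
    have hVS : V.subgroupOf (H ⊓ L) = (S : Subgroup ↥(H ⊓ L)) :=
      S.is_maximal' hVp.comap_subtype fun x hx => hTV (Subgroup.mem_map_of_mem _ hx)
    rw [hTdef, ← hVS, Subgroup.map_subgroupOf_eq_of_le (le_inf hVH hVL)]
  have hT2 : T.map (MulAut.conj g⁻¹).toMonoidHom ≤ H := by
    rintro _ ⟨x, hx, rfl⟩
    have := SignalizerStrongEmb.mem_conj_iff.1 (hTle hx).2
    simpa using this
  have hNL : Subgroup.normalizer (T : Set G') ≤ L := by
    intro n hn
    have hT'1 : T.map (MulAut.conj g⁻¹).toMonoidHom ≠ ⊥ := fun h0 =>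
      hT1 ((Subgroup.map_eq_bot_iff_of_injective _ (MulAut.conj g⁻¹).injective).1 h0)
    have hn' : g⁻¹ * n * g ∈ Subgroup.normalizer
        ((T.map (MulAut.conj g⁻¹).toMonoidHom : Subgroup G') : Set G') := by
      rw [Subgroup.mem_normalizer_iff]
      intro y
      rw [SignalizerStrongEmb.mem_conj_iff, SignalizerStrongEmb.mem_conj_iff,
        Subgroup.mem_normalizer_iff.1 hn]
      simp [mul_assoc]
    exact SignalizerStrongEmb.mem_conj_iff.2 (hN _ hT'1 hT2 (hTp.map _) hn')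
  -- `T` is maximal among the 2-subgroups of `H` and of `L`
  have hmaxH : ∀ U : Subgroup G', U ≤ H → IsPGroup 2 U → T ≤ U → U = T := fun U hUH hUp hTU =>
    eq_of_normalizer_le H L T U hTU hUp hUH hmax hNL
  have hmaxL : ∀ U : Subgroup G', U ≤ L → IsPGroup 2 U → T ≤ U → U = T := fun U hUL hUp hTU =>
    eq_of_normalizer_le L H T U hTU hUp hUL (fun V h1 h2 => hmax V h2 h1) (hN T hT1 hTH hTp)
  obtain ⟨Q, hQ⟩ := (hTp.comap_subtype (K := H)).exists_le_sylow
  have hQT : (Q : Subgroup ↥H).map H.subtype = T := by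
    refine hmaxH _ (Subgroup.map_subtype_le _) (Q.isPGroup'.map _) ?_
    intro x hx
    exact ⟨⟨x, hTH hx⟩, hQ hx, rfl⟩
  obtain ⟨R, hR⟩ := ((hTp.map (MulAut.conj g⁻¹).toMonoidHom).comap_subtype (K := H)).exists_le_sylow
  have hRT : ((R : Subgroup ↥H).map H.subtype).map (MulAut.conj g).toMonoidHom = T := by
    refine hmaxL _ (Subgroup.map_mono (Subgroup.map_subtype_le _)) ((R.isPGroup'.map _).map _) ?_
    intro x hx
    refine SignalizerStrongEmb.mem_conj_iff.2 ?_
    have h1 : g⁻¹ * x * g ∈ T.map (MulAut.conj g⁻¹).toMonoidHom :=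
      SignalizerStrongEmb.mem_conj_iff.2 (by simpa [mul_assoc] using hx)
    exact ⟨⟨_, hT2 h1⟩, hR h1, rfl⟩
  obtain ⟨c, hc⟩ := MulAction.exists_smul_eq ↥H Q R
  have hgc : g * (c : G') ∈ Subgroup.normalizer (T : Set G') := by
    rw [Subgroup.mem_normalizer_iff]
    intro y
    conv_rhs => rw [← hRT, SignalizerStrongEmb.mem_conj_iff]
    rw [← hc, Sylow.coe_subgroup_smul]
    conv_lhs => rw [← hQT]
    constructor
    · rintro ⟨x, hx, rfl⟩
      refine ⟨c * x * c⁻¹, Subgroup.mem_map.2 ⟨x, hx, rfl⟩, ?_⟩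
      simp [mul_assoc]
    · rintro ⟨_, ⟨x, hx, rfl⟩, hxy⟩
      refine ⟨x, hx, ?_⟩
      simpa [mul_assoc] using hxy
  exact hg (by simpa using mul_mem (hN T hT1 hTH hTp hgc) (inv_mem c.2))


/-- Let H be a proper subgroup of the finite group G and P a nontrivial Sylow 2-subgroup of H. Then H is strongly embedded in G if and only if N_G(X) ≤ H for every nontrivial subgroup X of P. -/
theorem result {G : Type*} [Group G] [Finite G] (H : Subgroup G) (hH : H ≠ ⊤) (P : Sylow 2 ↥H) (hP : (P : Subgroup ↥H) ≠ ⊥) : Cfsg.IsStronglyEmbedded H ↔ (∀ X : Subgroup ↥H, X ≤ (P : Subgroup ↥H) → X ≠ ⊥ → Subgroup.normalizer ((X.map H.subtype : Subgroup G) : Set G) ≤ H) := by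
  haveI : Fact (Nat.Prime 2) := ⟨Nat.prime_two⟩
  constructor
  · intro hSE X hXP hX g hg
    obtain ⟨k, hk0, hk⟩ := (P.isPGroup'.to_le hXP).nontrivial_iff_card.1
      ((Subgroup.nontrivial_iff_ne_bot _).2 hX)
    obtain ⟨t, ht, ht2⟩ := SignalizerStrongEmb.exists_involution_of_even (H := X)
      (by rw [hk, even_iff_two_dvd]; exact dvd_pow_self 2 hk0.ne')
    have htX : (t : G) ∈ X.map H.subtype := Subgroup.mem_map_of_mem _ ht
    exact SignalizerStrongEmb.mem_of_conj_mem hSE (by rw [Subgroup.orderOf_coe, ht2]) t.2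
      (Subgroup.map_subtype_le _ ((Subgroup.mem_normalizer_iff.1 hg (t : G)).1 htX))
  · exact isStronglyEmbedded_of_normalizers H hH P hP

end Cfsg.Agent.S0214
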