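import Mathlib
import Cfsg.Statements.S0216
import Cfsg.Agent.Lib.TwoInvolutions

set_option autoImplicit false
open Cfsg

namespace Cfsg.Agent.S0216

/-- For an involution u in a Sylow 2-subgroup P of a finite group G, the following are equivalent: no G-conjugate of u other than u lies in P; every commutator of u with an element of G has odd order. -/
theorem result {G : Type*} [Group G] [Finite G] (P : Sylow 2 G) (u : G) (hu : orderOf u = 2) (huP : u ∈ P) : (∀ g : G, g * u * g⁻¹ ∈ P → g * u * g⁻¹ = u) ↔ (∀ g : G, Odd (orderOf (u * g * u⁻¹ * g⁻¹))) := by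
  constructor
  · intro hiso g
    have hv : IsConj u (g * u⁻¹ * g⁻¹) := by
      rw [TwoInvolutions.inv_eq_of_orderOf hu]
      exact isConj_iff.2 ⟨g, rfl⟩
    have hv2 : orderOf (g * u⁻¹ * g⁻¹) = 2 := by
      have h := orderOf_injective (MulAut.conj g).toMonoidHom (MulAut.conj g).injective u⁻¹
      rw [orderOf_inv, hu] at h
      exact h
    rw [show u * g * u⁻¹ * g⁻¹ = u * (g * u⁻¹ * g⁻¹) by group]
    generalize g * u⁻¹ * g⁻¹ = v at hv hv2
    by_contra hodd
    rw [Nat.not_odd_iff_even] at hodd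
    obtain ⟨h2, hc, -⟩ := TwoInvolutions.half_props hu hv2 hodd
    obtain ⟨d, -, hd⟩ := TwoInvolutions.x_mul_half_conj hu hv2 hodd
    have hcj : IsConj u (u * (u * v) ^ (orderOf (u * v) / 2)) := by
      rcases hd with hd | hd
      · exact isConj_iff.2 ⟨d, hd.symm⟩
      · exact hv.trans (isConj_iff.2 ⟨d, hd.symm⟩)
    have h3 := TwoInvolutions.eq_of_commute_of_isolated P hu hiso huP hcj
      ((Commute.refl u).mul_right hc.symm)
    have h4 : (u * v) ^ (orderOf (u * v) / 2) = 1 := mul_eq_left.1 h3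
    simp [h4] at h2
  · intro hodd g hg
    have hgu : u * (g * u⁻¹ * g⁻¹) ∈ P := by
      refine mul_mem huP ?_
      rw [TwoInvolutions.inv_eq_of_orderOf hu]
      exact hg
    obtain ⟨k, hk⟩ := P.2 ⟨_, hgu⟩
    have hk' : (u * g * u⁻¹ * g⁻¹) ^ 2 ^ k = 1 := by
      rw [show u * g * u⁻¹ * g⁻¹ = u * (g * u⁻¹ * g⁻¹) by group]
      exact congrArg Subtype.val hk
    have h1 : u * g * u⁻¹ * g⁻¹ = 1 := by
      rw [← orderOf_eq_one_iff]
      exact Nat.eq_one_of_dvd_coprimes ((Nat.Coprime.pow_right k (hodd g).coprime_two_right))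
        dvd_rfl (orderOf_dvd_of_pow_eq_one hk')
    have h2 : g * u⁻¹ * g⁻¹ = u⁻¹ := by
      rw [← mul_right_inj u, mul_inv_cancel, ← h1]; group
    rwa [TwoInvolutions.inv_eq_of_orderOf hu] at h2

end Cfsg.Agent.S0216
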