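import Mathlib
import Cfsg.Statements.S0218

set_option autoImplicit false
open Cfsg

namespace Cfsg.Agent.S0218

/-- The generalized quaternion group of order 2^(n+3) contains exactly one element of order 2. -/
theorem result (n : ℕ) : Nat.card {x : QuaternionGroup (2 ^ (n + 1)) // orderOf x = 2} = 1 := by
  rw [Nat.card_eq_one_iff_unique]
  refine ⟨⟨?_⟩, ⟨⟨.a ((2 ^ (n + 1) : ℕ) : ZMod (2 * 2 ^ (n + 1))), ?_⟩⟩⟩
  · have key : ∀ x : QuaternionGroup (2 ^ (n + 1)), orderOf x = 2 →
        x = .a ((2 ^ (n + 1) : ℕ) : ZMod (2 * 2 ^ (n + 1))) := by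
      intro x hx
      rcases x with i | i
      · have h := pow_orderOf_eq_one (QuaternionGroup.a i)
        rw [hx, pow_two, QuaternionGroup.a_mul_a, QuaternionGroup.one_def] at h
        injection h with h
        have hi : i ≠ 0 := by
          rintro rfl
          rw [QuaternionGroup.a_zero, orderOf_one] at hx
          simp at hx
        rw [← ZMod.natCast_zmod_val i, ← Nat.cast_add, ZMod.natCast_eq_zero_iff] at h
        have hlt := ZMod.val_lt i
        have hv : i.val ≠ 0 := fun h => hi ((ZMod.val_eq_zero i).1 h)
        obtain ⟨c, hc⟩ := h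
        have hc1 : c = 1 := by
          rcases c with _ | _ | c
          · omega
          · rfl
          · nlinarith
        subst hc1
        rw [← ZMod.natCast_zmod_val i]
        congr 2
        omega
      · rw [QuaternionGroup.orderOf_xa] at hx
        omega
    intro x y
    exact Subtype.ext ((key x x.2).trans (key y y.2).symm)
  · refine orderOf_eq_prime (p := 2) ?_ ?_
    · rw [pow_two, QuaternionGroup.a_mul_a, QuaternionGroup.one_def, ← Nat.cast_add,
        (ZMod.natCast_eq_zero_iff _ _).2 ⟨1, by omega⟩]
    · rw [QuaternionGroup.one_def]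
      intro h
      injection h with h
      rw [ZMod.natCast_eq_zero_iff] at h
      exact absurd (Nat.le_of_dvd (by positivity) h) (by have := Nat.two_pow_pos (n + 1); omega)

end Cfsg.Agent.S0218
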