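import Mathlib
import Cfsg.Statements.S0219

set_option autoImplicit false
open Cfsg

namespace Cfsg.Agent.S0219

/-- If a finite group has even order and a cyclic Sylow 2-subgroup, then it has a subgroup of index 2 (consider the parity of permutations in the regular representation). -/
theorem result {G : Type*} [Group G] [Finite G] (heven : Even (Nat.card G)) (T : Sylow 2 G) (hT : IsCyclic (T : Subgroup G)) : ∃ H : Subgroup G, H.index = 2 := by
  have hmin : (Nat.card G).minFac = 2 := (Nat.minFac_eq_two_iff _).2 heven.two_dvd
  have hc := hT.isComplement' hmin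
  haveI := hT
  have hcard : (MonoidHom.transferSylow T (hT.normalizer_le_centralizer hmin)).ker.index =
      Nat.card (T : Subgroup G) := (Subgroup.IsComplement'.symm hc).index_eq_card
  obtain ⟨t, ht⟩ := hT.exists_generator
  have h2 : 2 ∣ Nat.card (T : Subgroup G) := T.dvd_card_of_dvd_card heven.two_dvd
  let f : G →* (T : Subgroup G) := MonoidHom.transferSylow T (hT.normalizer_le_centralizer hmin)
  have hf : Function.Surjective f := by
    rw [← MonoidHom.range_eq_top]
    apply Subgroup.eq_top_of_card_eq
    rw [← Subgroup.index_ker]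
    exact hcard
  refine ⟨(Subgroup.zpowers (t ^ 2)).comap f, ?_⟩
  rw [Subgroup.index_comap_of_surjective _ hf]
  have h3 : Nat.card (Subgroup.zpowers (t ^ 2)) = Nat.card (T : Subgroup G) / 2 := by
    rw [Nat.card_zpowers, orderOf_pow' _ (by norm_num), orderOf_eq_card_of_forall_mem_zpowers ht,
      Nat.gcd_eq_right h2]
  have h4 := Subgroup.card_mul_index (Subgroup.zpowers (t ^ 2))
  rw [h3] at h4
  obtain ⟨c, hc'⟩ := h2
  have hpos : 0 < Nat.card (T : Subgroup G) := Nat.card_pos
  rw [hc', Nat.mul_div_cancel_left _ (by norm_num)] at h4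
  have : c ≠ 0 := by rintro rfl; omega
  exact mul_left_cancel₀ this (h4.trans (mul_comm _ _))

end Cfsg.Agent.S0219
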