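import Mathlib
import Cfsg.Statements.S0220
import Cfsg.Agent.S0219

set_option autoImplicit false
open Cfsg

namespace Cfsg.Agent.S0220

/-- If x is an involution of a finite group G and a Sylow 2-subgroup of the centralizer of x is cyclic, then G has a subgroup of index 2; in particular G is not simple unless it has order 2. -/
theorem result {G : Type*} [Group G] [Finite G] (x : G) (hx : orderOf x = 2) (S : Sylow 2 ↥(Subgroup.centralizer ({x} : Set G))) (hS : IsCyclic (S : Subgroup ↥(Subgroup.centralizer ({x} : Set G)))) : ∃ H : Subgroup G, H.index = 2 := by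
  let C := Subgroup.centralizer ({x} : Set G)
  let S' : Subgroup G := (S : Subgroup C).map C.subtype
  have e : (S : Subgroup C) ≃* S' := Subgroup.equivMapOfInjective _ _ C.subtype_injective
  have hS' : IsCyclic S' := isCyclic_of_surjective e.toMonoidHom e.surjective
  have hSp : IsPGroup 2 S' := S.2.map _
  have hxC : x ∈ C := Subgroup.mem_centralizer_singleton_iff.2 rfl
  -- x lies in S'
  have hxS : x ∈ S' := by
    have hcen : (⟨x, hxC⟩ : C) ∈ Subgroup.center C := by
      rw [Subgroup.mem_center_iff]
      intro c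
      exact Subtype.ext (Subgroup.mem_centralizer_singleton_iff.1 c.2)
    have hpg : IsPGroup 2 (Subgroup.zpowers (⟨x, hxC⟩ : C)) := by
      refine IsPGroup.of_card (n := 1) ?_
      rw [Nat.card_zpowers, ← Subgroup.orderOf_coe, pow_one]
      exact hx
    have hnorm : (Subgroup.zpowers (⟨x, hxC⟩ : C)).Normal := by
      constructor
      intro a ha c
      have ha' : a ∈ Subgroup.center C := (Subgroup.zpowers_le.2 hcen) ha
      rwa [Subgroup.mem_center_iff.1 ha' c, mul_inv_cancel_right]
    obtain ⟨Q, hQ⟩ := hpg.exists_le_sylow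
    obtain ⟨c, hc⟩ := MulAction.exists_smul_eq C Q S
    have h1 : c * ⟨x, hxC⟩ * c⁻¹ ∈ S := by
      rw [← hc, ← SetLike.mem_coe, Sylow.coe_smul]
      exact ⟨_, hQ (Subgroup.mem_zpowers _), rfl⟩
    rw [Subgroup.mem_center_iff.1 hcen c, mul_inv_cancel_right] at h1
    exact ⟨_, h1, rfl⟩
  obtain ⟨T, hT⟩ := hSp.exists_le_sylow
  -- no element of T outside S' normalises S'
  have key : (T : Subgroup G) ≤ S' := by
    by_contra hle
    haveI : Group.IsNilpotent (T : Subgroup G) := T.2.isNilpotent
    have hlt : S'.subgroupOf T < ⊤ := lt_top_iff_ne_top.2 fun h =>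
      hle (Subgroup.subgroupOf_eq_top.1 h)
    obtain ⟨a, ha, ha'⟩ := SetLike.exists_of_lt (normalizerCondition_of_isNilpotent _ hlt)
    have hnorm : ∀ s ∈ S', (a : G) * s * (a : G)⁻¹ ∈ S' := by
      intro s hs
      have := (Subgroup.mem_normalizer_iff.1 ha ⟨s, hT hs⟩).1 hs
      exact this
    -- a fixes x
    have hax : (a : G) * x * (a : G)⁻¹ = x := by
      classical
      have _ := Fintype.ofFinite S'
      have hcount := IsCyclic.card_orderOf_eq_totient (α := S') (d := 2)
        (by rw [← Nat.card_eq_fintype_card, ← hx]; exact Subgroup.orderOf_dvd_natCard S' hxS)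
      rw [Nat.totient_two, Finset.card_eq_one] at hcount
      obtain ⟨z, hz⟩ := hcount
      have hxz : (⟨x, hxS⟩ : S') ∈ ({z} : Finset S') := by
        rw [← hz, Finset.mem_filter]
        exact ⟨Finset.mem_univ _, by rw [← Subgroup.orderOf_coe]; exact hx⟩
      have hyz : (⟨_, hnorm x hxS⟩ : S') ∈ ({z} : Finset S') := by
        rw [← hz, Finset.mem_filter]
        refine ⟨Finset.mem_univ _, ?_⟩
        rw [← Subgroup.orderOf_coe]
        exact (orderOf_injective (MulAut.conj (a : G)).toMonoidHom (MulAut.conj (a : G)).injective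
          x).trans hx
      rw [Finset.mem_singleton] at hxz hyz
      exact congrArg Subtype.val (hyz.trans hxz.symm)
    have haC : (a : G) ∈ C := Subgroup.mem_centralizer_singleton_iff.2 (by
      calc (a : G) * x = (a : G) * x * (a : G)⁻¹ * a := by group
        _ = x * a := by rw [hax])
    -- a 2-subgroup of C containing S
    have hR : IsPGroup 2 ((T : Subgroup G).comap C.subtype) :=
      T.2.comap_of_injective _ C.subtype_injective
    have hRS : (T : Subgroup G).comap C.subtype = S := S.3 hR (fun s hs => hT ⟨s, hs, rfl⟩)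
    have haS : (⟨a, haC⟩ : C) ∈ (S : Subgroup C) := hRS ▸ a.2
    exact ha' ⟨_, haS, rfl⟩
  have hTeq : (T : Subgroup G) = S' := le_antisymm key hT
  refine S0219.result ?_ T (by rw [hTeq]; exact hS')
  refine (even_iff_two_dvd).2 ?_
  rw [← hx]
  exact orderOf_dvd_natCard x

end Cfsg.Agent.S0220
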