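import Cfsg.Statements.S0224
import Cfsg.Agent.Lib.InvolutionCount

set_option autoImplicit false
open Cfsg

namespace Cfsg.Agent.S0224

/-- Let H be a proper subgroup of even order of the finite group G. Then H is strongly embedded if and only if each involution of H fixes exactly one point (namely the coset H) in the action of G on the cosets of H. -/
theorem result {G : Type*} [Group G] [Finite G] (H : Subgroup G) (hH : H ≠ ⊤) (heven : Even (Nat.card H)) : Cfsg.IsStronglyEmbedded H ↔ ∀ t ∈ H, orderOf t = 2 → Nat.card {c : G ⧸ H // t • c = c} = 1 := by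
  classical
  have := Fintype.ofFinite G
  have hfix : ∀ (t g : G), t • (g : G ⧸ H) = (g : G ⧸ H) ↔ g⁻¹ * t * g ∈ H := fun t g => by
    rw [MulAction.Quotient.smul_coe, eq_comm, QuotientGroup.eq, smul_eq_mul, mul_assoc]
  have hone : ∀ t ∈ H, t • ((1 : G) : G ⧸ H) = ((1 : G) : G ⧸ H) := fun t ht => by
    rw [hfix]; simpa using ht
  have hmem : ∀ (g x : G), x ∈ H.map (MulAut.conj g).toMonoidHom ↔ g⁻¹ * x * g ∈ H := fun g x => by
    rw [Subgroup.mem_map_equiv]; simp
  constructor
  · rintro ⟨-, -, hodd⟩ t ht ht2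
    rw [Nat.card_eq_one_iff_unique]
    have key : ∀ c : {c : G ⧸ H // t • c = c}, c.1 = ((1 : G) : G ⧸ H) := by
      rintro ⟨c, hc⟩
      obtain ⟨g, rfl⟩ := QuotientGroup.mk_surjective c
      by_contra hg
      have hgH : g ∉ H := fun h => hg (QuotientGroup.eq.2 (by simpa using inv_mem h))
      have hd := Subgroup.orderOf_dvd_natCard _
        (Subgroup.mem_inf.2 ⟨ht, (hmem g t).2 ((hfix t g).1 hc)⟩)
      rw [ht2] at hd
      exact Nat.not_even_iff_odd.2 (hodd g hgH) (even_iff_two_dvd.2 hd)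
    exact ⟨⟨fun a b => Subtype.ext ((key a).trans (key b).symm)⟩, ⟨⟨_, hone t ht⟩⟩⟩
  · intro h
    refine ⟨hH, heven, fun g hg => Nat.not_even_iff_odd.1 fun he => ?_⟩
    obtain ⟨⟨t, ht⟩, ht2⟩ := exists_prime_orderOf_dvd_card' 2 (even_iff_two_dvd.1 he)
    rw [Subgroup.orderOf_mk] at ht2
    obtain ⟨htH, htg⟩ := Subgroup.mem_inf.1 ht
    have hcard := h t htH ht2
    rw [Nat.card_eq_one_iff_unique] at hcard
    have e := congrArg Subtype.val (hcard.1.elim ⟨_, hone t htH⟩
      ⟨_, (hfix t g).2 ((hmem g t).1 htg)⟩)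
    exact hg (by simpa using QuotientGroup.eq.1 e)

end Cfsg.Agent.S0224
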