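import Cfsg.Statements.S0225
import Cfsg.Agent.Lib.ZStarTheorem

set_option autoImplicit false
open Cfsg

namespace Cfsg.Agent.S0225

/-- If a finite group G has even order but contains no Klein four-subgroup (2-rank 1), then some involution z of G is central modulo a normal subgroup of odd order: there is a normal subgroup N of odd order containing every commutator z g z⁻¹ g⁻¹. -/
theorem result {G : Type*} [Group G] [Finite G] (heven : Even (Nat.card G)) (hrank : ∀ E : Subgroup G, ¬ IsKleinFour E) : ∃ z : G, orderOf z = 2 ∧ ∃ N : Subgroup G, N.Normal ∧ Odd (Nat.card N) ∧ ∀ g : G, z * g * z⁻¹ * g⁻¹ ∈ N := by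
  classical
  have : Fact (Nat.Prime 2) := ⟨Nat.prime_two⟩
  obtain ⟨z, hz⟩ := exists_prime_orderOf_dvd_card' (G := G) 2 heven.two_dvd
  refine ⟨z, hz, Cfsg.Agent.ZStarTheorem.exists_odd_normal
    (Cfsg.Agent.ZStarBasic.Solitary.isolated ⟨hz, fun t ht hc => by_contra fun hne => ?_⟩)⟩
  have hz2 := Cfsg.Agent.IsolatedInv.sq_of_orderOf_two hz
  have ht2 := Cfsg.Agent.IsolatedInv.sq_of_orderOf_two ht
  have hz1 := Cfsg.Agent.IsolatedInv.ne_one_of_orderOf_two hz
  have ht1 := Cfsg.Agent.IsolatedInv.ne_one_of_orderOf_two ht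
  have htz : t * z = z * t := hc.eq
  let E : Subgroup G :=
    { carrier := {1, z, t, z * t}
      one_mem' := by simp
      mul_mem' := by
        have e1 : z * (z * t) = t := by rw [← mul_assoc, hz2, one_mul]
        have e2 : t * (z * t) = z := by rw [← mul_assoc, htz, mul_assoc, ht2, mul_one]
        have e3 : z * t * z = t := by rw [mul_assoc, htz, e1]
        have e4 : z * t * t = z := by rw [mul_assoc, ht2, mul_one]
        have e5 : z * t * (z * t) = 1 := by rw [← mul_assoc, e3, ht2]
        intro a b ha hb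
        simp only [Set.mem_insert_iff, Set.mem_singleton_iff] at ha hb ⊢
        rcases ha with ha | ha | ha | ha <;> rcases hb with hb | hb | hb | hb <;>
          subst a b <;> simp [hz2, ht2, htz, e1, e2, e3, e4, e5]
      inv_mem' := by
        rintro a (rfl | rfl | rfl | rfl) <;>
          simp [Cfsg.Agent.IsolatedInv.inv_eq_self_of_sq hz2,
            Cfsg.Agent.IsolatedInv.inv_eq_self_of_sq ht2, htz] }
  refine hrank E ⟨?_, ?_⟩
  · show Nat.card ({1, z, t, z * t} : Set G) = 4
    rw [Nat.card_coe_set_eq, Set.ncard_insert_of_notMem, Set.ncard_insert_of_notMem,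
      Set.ncard_pair]
    · intro e; exact hz1 (mul_eq_right.1 e.symm)
    · simp only [Set.mem_insert_iff, Set.mem_singleton_iff, not_or]
      exact ⟨Ne.symm hne, fun e => ht1 (mul_eq_left.1 e.symm)⟩
    · simp only [Set.mem_insert_iff, Set.mem_singleton_iff, not_or]
      exact ⟨hz1.symm, ht1.symm, fun e => hne (by
        rw [eq_comm, mul_eq_one_iff_inv_eq, Cfsg.Agent.IsolatedInv.inv_eq_self_of_sq hz2] at e
        exact e.symm)⟩
  · have h2 : ∀ x : E, x ^ 2 = 1 := by
      rintro ⟨x, (rfl | rfl | rfl | rfl)⟩ <;> apply Subtype.ext <;>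
        simp [pow_two, hz2, ht2]
      exact (by rw [hc.mul_mul_mul_comm, hz2, ht2, one_mul])
    have : Nontrivial E := ⟨⟨⟨z, by simp [E]⟩, 1, fun e => hz1 (congrArg Subtype.val e)⟩⟩
    exact (Monoid.exponent_eq_prime_iff Nat.prime_two).2 fun x hx => orderOf_eq_prime (h2 x) hx


end Cfsg.Agent.S0225
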