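import Cfsg.Statements.S0226
import Cfsg.Agent.Lib.InvolutionCount

set_option autoImplicit false
open Cfsg

namespace Cfsg.Agent.S0226

/-- A finite group of even order has an odd number of involutions. -/
theorem result {G : Type*} [Group G] [Finite G] (heven : Even (Nat.card G)) : Odd (Nat.card {t : G // orderOf t = 2}) := by
  classical
  have := Fintype.ofFinite G
  have hs : Even (Finset.univ.filter fun g : G => g⁻¹ ≠ g).card := by
    have h : ∑ g ∈ Finset.univ.filter (fun g : G => g⁻¹ ≠ g), (1 : ZMod 2) = 0 :=
      Finset.sum_involution (fun g _ => g⁻¹) (fun _ _ => by decide)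
        (fun g hg _ => (Finset.mem_filter.1 hg).2)
        (fun g hg => by simpa [eq_comm] using (Finset.mem_filter.1 hg).2)
        (fun g _ => inv_inv g)
    rw [Finset.sum_const, nsmul_one, ZMod.natCast_eq_zero_iff_even] at h
    exact h
  have h1 := Finset.card_filter_add_card_filter_not (s := (Finset.univ : Finset G)) (fun g => g⁻¹ = g)
  have h2 : Finset.univ.filter (fun g : G => g⁻¹ = g) =
      insert 1 (Finset.univ.filter fun g : G => orderOf g = 2) := by
    ext g
    simp only [Finset.mem_filter, Finset.mem_univ, true_and, Finset.mem_insert]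
    constructor
    · intro h
      by_cases hg : g = 1
      · exact Or.inl hg
      · exact Or.inr (InvolutionCount.orderOf_eq_two (mul_eq_one_iff_inv_eq.2 h) hg)
    · rintro (rfl | h)
      · simp
      · exact InvolutionCount.inv_self h
  rw [h2, Finset.card_insert_of_notMem (by simp), Finset.card_univ,
    ← Nat.card_eq_fintype_card] at h1
  simp only [ne_eq] at hs
  rw [Nat.card_eq_fintype_card, Fintype.card_subtype]
  rw [Nat.odd_iff]
  rw [Nat.even_iff] at hs heven
  omega

end Cfsg.Agent.S0226
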