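import Cfsg.Statements.S0229
import Cfsg.Agent.Lib.InvolutionCount

set_option autoImplicit false
open Cfsg

namespace Cfsg.Agent.S0229

/-- Let t be an involution of a Sylow 2-subgroup S of a finite group G, conjugate in G to no other element of S, and let s be an involution of G not conjugate to t. Then the order of st is twice an odd number. -/
theorem result {G : Type*} [Group G] [Finite G] (S : Sylow 2 G) (t : G) (ht : orderOf t = 2) (htS : t ∈ S) (hiso : ∀ g : G, g * t * g⁻¹ ∈ S → g * t * g⁻¹ = t) (s : G) (hs : orderOf s = 2) (hns : ¬ IsConj s t) : orderOf (s * t) % 4 = 2 := by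
  have hne : s * t ≠ 1 := fun e => hns <| by
    rw [eq_inv_of_mul_eq_one_left e, InvolutionCount.inv_self ht]
  set r := s * t with hr
  have htr : t * r * t⁻¹ = r⁻¹ := InvolutionCount.right_inverts hs ht hr.symm
  have htrj : ∀ j : ℕ, r ^ j * t = t * (r ^ j)⁻¹ := by
    intro j
    rw [← inv_pow, ← htr, conj_pow]
    simp only [← mul_assoc, InvolutionCount.inv_self ht, InvolutionCount.sq_self ht, one_mul]
  have hconj : ∀ j : ℕ, r ^ j * t * (r ^ j)⁻¹ = t * (r ^ (2 * j))⁻¹ := fun j => by
    rw [htrj, two_mul, pow_add, mul_inv_rev, mul_assoc]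
  by_contra hmod
  rcases Nat.even_or_odd (orderOf r) with ⟨k, hk⟩ | ⟨k, hk⟩
  · have h4 : orderOf r % 4 = 0 := by omega
    have hpos := orderOf_pos r
    set j := orderOf r / 4
    set y := r ^ (2 * j) with hy
    have hy2 : y * y = 1 := by
      rw [hy, ← pow_add, show 2 * j + 2 * j = orderOf r by omega, pow_orderOf_eq_one]
    have hy1 : y ≠ 1 := pow_ne_one_of_lt_orderOf (by omega) (by omega)
    have hyinv : y⁻¹ = y := inv_eq_of_mul_eq_one_left hy2
    have hyt : y * t = t * y := by
      conv_rhs => rw [← hyinv]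
      rw [hy]; exact htrj (2 * j)
    -- the Klein four group generated by `t` and `y`
    let P : Subgroup G := Subgroup.closure {t, y}
    have hP : ∀ g ∈ P, g = 1 ∨ g = t ∨ g = y ∨ g = t * y := by
      intro g hg
      induction hg using Subgroup.closure_induction with
      | mem g hg => rcases hg with h | h <;> simp [show g = _ from h]
      | one => simp
      | mul a b _ _ ha hb =>
        rcases ha with ha | ha | ha | ha <;> rcases hb with hb | hb | hb | hb <;> rw [ha, hb] <;>
          simp [mul_assoc, InvolutionCount.sq_self ht, hy2, hyt, ← mul_assoc t t,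
            ← mul_assoc y t, ← mul_assoc y y]
      | inv a _ ha =>
        rcases ha with ha | ha | ha | ha <;> rw [ha] <;>
          simp [InvolutionCount.inv_self ht, hyinv, hyt]
    have hP2 : IsPGroup 2 P := by
      intro g
      refine ⟨1, Subtype.ext ?_⟩
      rcases hP g g.2 with h | h | h | h <;> simp [pow_two, h, InvolutionCount.sq_self ht, hy2]
      calc t * y * (t * y) = t * (y * t) * y := by simp [mul_assoc]
      _ = 1 := by rw [hyt, ← mul_assoc t t y, InvolutionCount.sq_self ht, one_mul, hy2]
    obtain ⟨Q, hQ⟩ := hP2.exists_le_sylow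
    obtain ⟨g, hg⟩ := MulAction.exists_smul_eq G Q S
    have hmem : ∀ a ∈ P, g * a * g⁻¹ ∈ S := fun a ha => by
      rw [← hg]
      exact (Subgroup.mem_smul_pointwise_iff_exists _ _ _).2 ⟨a, hQ ha, rfl⟩
    have htP : t ∈ P := Subgroup.subset_closure (by simp)
    have hyP : y ∈ P := Subgroup.subset_closure (by simp)
    have e1 := hiso g (hmem t htP)
    have hc : r ^ j * t * (r ^ j)⁻¹ = t * y := by rw [hconj, ← hy, hyinv]
    have e : g * r ^ j * t * (g * r ^ j)⁻¹ = g * (t * y) * g⁻¹ := by
      rw [← hc]; simp [mul_assoc]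
    have e2 := hiso (g * r ^ j) (by rw [e]; exact hmem _ (mul_mem htP hyP))
    rw [e] at e2
    exact hy1 (by simpa using e2.trans e1.symm)
  · refine hns (isConj_comm.1 (isConj_iff.2 ⟨r ^ (k + 1), ?_⟩))
    have : r ^ (2 * (k + 1)) = r := by
      rw [show 2 * (k + 1) = orderOf r + 1 by omega, pow_succ, pow_orderOf_eq_one, one_mul]
    rw [hconj, this, hr]
    simp [mul_inv_rev, InvolutionCount.inv_self ht, InvolutionCount.inv_self hs, ← mul_assoc,
      InvolutionCount.sq_self ht]

end Cfsg.Agent.S0229
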