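import Cfsg.Statements.S0230
import Cfsg.Agent.Lib.InvolutionCount

set_option autoImplicit false
open Cfsg

namespace Cfsg.Agent.S0230

/-- Let G be a finite group with two non-conjugate involutions, and let t be an involution whose centralizer has maximal order among centralizers of involutions. Then |G| < |C_G(t)|^3. -/
theorem result {G : Type*} [Group G] [Finite G] (s t : G) (hs : orderOf s = 2) (ht : orderOf t = 2) (hnc : ¬ IsConj s t) (hmax : ∀ u : G, orderOf u = 2 → Nat.card (Subgroup.centralizer ({u} : Set G)) ≤ Nat.card (Subgroup.centralizer ({t} : Set G))) : Nat.card G < Nat.card (Subgroup.centralizer ({t} : Set G)) ^ 3 := by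
  classical
  set M := Nat.card (Subgroup.centralizer ({t} : Set G)) with hM
  set Cs := Subgroup.centralizer ({s} : Set G)
  have hM1 : 0 < M := Nat.card_pos
  let Z := {z : Cs // orderOf (z : G) = 2}
  have hex : ∀ c : G ⧸ Subgroup.centralizer ({t} : Set G),
      ∃ z : Z, Commute (z.1 : G) (c.out * t * c.out⁻¹) := by
    intro c
    have hct : orderOf (c.out * t * c.out⁻¹) = 2 := by rw [InvolutionCount.orderOf_conj, ht]
    obtain ⟨z, hz, hzs, hzt⟩ := InvolutionCount.exists_commuting_involution hs hct
      (fun h => hnc (h.trans (isConj_comm.1 (isConj_iff.2 ⟨c.out, rfl⟩))))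
    exact ⟨⟨⟨z, InvolutionCount.mem_centralizer_singleton.2 hzs⟩, hz⟩, hzt⟩
  choose z hz using hex
  let f : G ⧸ Subgroup.centralizer ({t} : Set G) →
      Σ w : Z, Subgroup.centralizer ({(w.1 : G)} : Set G) := fun c =>
    ⟨z c, ⟨c.out * t * c.out⁻¹, InvolutionCount.mem_centralizer_singleton.2 (hz c).symm⟩⟩
  have hinj : Function.Injective f := by
    intro a b h
    have h : a.out * t * a.out⁻¹ = b.out * t * b.out⁻¹ :=
      congrArg (fun p : Σ w : Z, Subgroup.centralizer ({(w.1 : G)} : Set G) => (p.2 : G)) h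
    rw [← QuotientGroup.out_eq' a, ← QuotientGroup.out_eq' b, QuotientGroup.eq]
    refine InvolutionCount.mem_centralizer_singleton.2 ?_
    calc a.out⁻¹ * b.out * t = a.out⁻¹ * (b.out * t * b.out⁻¹) * b.out := by simp [mul_assoc]
    _ = t * (a.out⁻¹ * b.out) := by rw [← h]; simp [mul_assoc]
  have hle := Nat.card_le_card_of_injective f hinj
  have := Fintype.ofFinite Z
  rw [Nat.card_sigma] at hle
  have hle2 : (Subgroup.centralizer ({t} : Set G)).index ≤ Nat.card Z * M := by
    refine hle.trans ?_
    rw [Nat.card_eq_fintype_card (α := Z), ← smul_eq_mul, ← Finset.card_univ, ← Finset.sum_const]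
    exact Finset.sum_le_sum fun w _ => hmax _ w.2
  have hZ : Nat.card Z < M := by
    refine lt_of_lt_of_le ?_ (hmax s hs)
    exact Finite.card_subtype_lt (x := (1 : Cs)) (by simp)
  calc Nat.card G = (Subgroup.centralizer ({t} : Set G)).index * M :=
        (Subgroup.index_mul_card _).symm
  _ ≤ Nat.card Z * M * M := Nat.mul_le_mul_right _ hle2
  _ < M * M * M := Nat.mul_lt_mul_of_pos_right (Nat.mul_lt_mul_of_pos_right hZ hM1) hM1
  _ = M ^ 3 := by ring

end Cfsg.Agent.S0230
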