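import Cfsg.Statements.S0231
import Cfsg.Agent.Lib.InvolutionCount

set_option autoImplicit false
open scoped Pointwise
open Cfsg

namespace Cfsg.Agent.S0231

/-- Let T be a Sylow 2-subgroup of the finite group G which is not normal and which intersects every other Sylow 2-subgroup trivially. Then G has a single conjugacy class of involutions. -/
theorem result {G : Type*} [Group G] [Finite G] (T : Sylow 2 G) (hnn : ¬ (T : Subgroup G).Normal) (hTI : ∀ g : G, MulAut.conj g • (T : Subgroup G) ≠ T → MulAut.conj g • (T : Subgroup G) ⊓ T = ⊥) (s t : G) (hs : orderOf s = 2) (ht : orderOf t = 2) : IsConj s t := by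
  have huniq : ∀ (P Q : Sylow 2 G) (u : G), orderOf u = 2 → u ∈ P → u ∈ Q → P = Q := by
    intro P Q u hu hP hQ
    obtain ⟨h, rfl⟩ := MulAction.exists_smul_eq G T P
    obtain ⟨k, rfl⟩ := MulAction.exists_smul_eq G T Q
    by_contra hne
    have hne' : MulAut.conj (h⁻¹ * k) • (T : Subgroup G) ≠ T := fun e => hne <| by
      have e' : (h⁻¹ * k) • T = T := Sylow.ext e
      rw [eq_comm, ← inv_smul_eq_iff, smul_smul, e']
    have hu1 : h⁻¹ * u * h ∈ MulAut.conj (h⁻¹ * k) • (T : Subgroup G) ⊓ T := by
      have hP' : u ∈ MulAut.conj h • (T : Subgroup G) := hP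
      have hQ' : u ∈ MulAut.conj k • (T : Subgroup G) := hQ
      rw [Subgroup.mem_pointwise_smul_iff_inv_smul_mem] at hP' hQ'
      refine Subgroup.mem_inf.2 ⟨?_, ?_⟩
      · rw [Subgroup.mem_pointwise_smul_iff_inv_smul_mem]
        simpa [MulAut.smul_def, mul_assoc] using hQ'
      · simpa [MulAut.smul_def, mul_assoc] using hP'
    rw [hTI _ hne', Subgroup.mem_bot] at hu1
    have : u = 1 := by
      have := congrArg (fun a => h * a * h⁻¹) hu1
      simpa [mul_assoc] using this
    exact InvolutionCount.ne_one hu this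
  have hpair : ∀ a b : G, Commute a b → orderOf a = 2 → orderOf b = 2 →
      ∃ P : Sylow 2 G, a ∈ P ∧ b ∈ P := by
    intro a b hab ha hb
    have hP2 : IsPGroup 2 (Subgroup.closure {a, b}) := by
      intro g
      refine ⟨1, Subtype.ext ?_⟩
      have hc : ∀ x ∈ Subgroup.closure {a, b}, Commute x a ∧ Commute x b ∧ x * x = 1 := by
        intro x hx
        induction hx using Subgroup.closure_induction with
        | mem x hx =>
          rcases hx with h | h <;> rw [show x = _ from h]
          · exact ⟨Commute.refl a, hab, InvolutionCount.sq_self ha⟩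
          · exact ⟨hab.symm, Commute.refl b, InvolutionCount.sq_self hb⟩
        | one => simp
        | mul x y _ hy' hx hy =>
          refine ⟨hx.1.mul_left hy.1, hx.2.1.mul_left hy.2.1, ?_⟩
          have hxy : Commute x y := by
            clear hy
            induction hy' using Subgroup.closure_induction with
            | mem y hy => rcases hy with h | h <;> rw [show y = _ from h]
                          exacts [hx.1, hx.2.1]
            | one => simp
            | mul y z _ _ h1 h2 => exact h1.mul_right h2
            | inv y _ h1 => exact h1.inv_right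
          calc x * y * (x * y) = x * (y * x) * y := by simp [mul_assoc]
          _ = (x * x) * (y * y) := by rw [← hxy.eq]; simp [mul_assoc]
          _ = 1 := by rw [hx.2.2, hy.2.2, one_mul]
        | inv x _ hx =>
          refine ⟨hx.1.inv_left, hx.2.1.inv_left, ?_⟩
          rw [← mul_inv_rev, hx.2.2, inv_one]
      simpa [pow_two] using (hc g g.2).2.2
    obtain ⟨Q, hQ⟩ := hP2.exists_le_sylow
    exact ⟨Q, hQ (Subgroup.subset_closure (by simp)), hQ (Subgroup.subset_closure (by simp))⟩
  by_contra hst
  obtain ⟨P, hsP, -⟩ := hpair s s (Commute.refl s) hs hs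
  have hmem : ∀ u, orderOf u = 2 → ¬ IsConj s u → u ∈ P := by
    intro u hu hns
    obtain ⟨z, hz, hzs, hzu⟩ := InvolutionCount.exists_commuting_involution hs hu hns
    obtain ⟨Q, hzQ, hsQ⟩ := hpair z s hzs hz hs
    obtain ⟨R, hzR, huR⟩ := hpair z u hzu hz hu
    rw [huniq P Q s hs hsP hsQ, huniq Q R z hz hzQ hzR]
    exact huR
  have hfix : ∀ g : G, g • P = P := by
    intro g
    refine huniq _ _ (g * t * g⁻¹) (by rw [InvolutionCount.orderOf_conj, ht]) ?_
      (hmem _ (by rw [InvolutionCount.orderOf_conj, ht])
        (fun h => hst (h.trans (isConj_comm.1 (isConj_iff.2 ⟨g, rfl⟩)))))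
    exact (Subgroup.mem_smul_pointwise_iff_exists _ _ _).2 ⟨t, hmem t ht hst, rfl⟩
  obtain ⟨h, rfl⟩ := MulAction.exists_smul_eq G T P
  refine hnn (Subgroup.normalizer_eq_top_iff.1 (eq_top_iff.2 fun g _ => ?_))
  refine Sylow.smul_eq_iff_mem_normalizer.1 ?_
  have := hfix (h * g * h⁻¹)
  rw [smul_smul, inv_mul_cancel_right, mul_smul] at this
  exact MulAction.injective h this

end Cfsg.Agent.S0231
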