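import Cfsg.Statements.S0232
import Cfsg.Agent.Lib.InvolutionCount

set_option autoImplicit false
open Cfsg

namespace Cfsg.Agent.S0232

universe u

/-- Induction on the order. -/
theorem large_subgroup (N : ℕ) (G : Type u) [Group G] [Finite G] (hN : Nat.card G = N)
    (heven : Even (Nat.card G)) (hgt : 2 < Nat.card G) :
    ∃ H : Subgroup G, H ≠ ⊤ ∧ Nat.card G < (Nat.card H) ^ 3 := by
  classical
  induction N using Nat.strong_induction_on generalizing G with
  | _ N ih =>
  by_cases hz : ∃ z : G, orderOf z = 2 ∧ z ∈ Subgroup.center G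
  · obtain ⟨z, hz, hzc⟩ := hz
    let Z := Subgroup.zpowers z
    have : Z.Normal := ⟨fun a ha g => by
      have : a ∈ Subgroup.center G := Subgroup.zpowers_le.2 hzc ha
      rw [Subgroup.mem_center_iff.1 this g, mul_inv_cancel_right]
      exact ha⟩
    have hZ : Nat.card Z = 2 := by rw [Nat.card_zpowers, hz]
    have hcard : Nat.card G = Nat.card (G ⧸ Z) * 2 := by
      rw [← hZ]; exact (Subgroup.card_eq_card_quotient_mul_card_subgroup Z)
    rcases Nat.even_or_odd (Nat.card (G ⧸ Z)) with he | ho
    · by_cases h2 : Nat.card (G ⧸ Z) = 2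
      · refine ⟨Z, fun e => ?_, by rw [hcard, h2, hZ]; norm_num⟩
        rw [e, Subgroup.card_top] at hZ; omega
      · have hpos : 0 < Nat.card (G ⧸ Z) := Nat.card_pos
        obtain ⟨H', hH', hlt⟩ := ih _ (by omega) (G ⧸ Z) rfl he
          (by obtain ⟨k, hk⟩ := he; omega)
        refine ⟨H'.comap (QuotientGroup.mk' Z), fun e => hH' ?_, ?_⟩
        · rw [← Subgroup.map_comap_eq_self_of_surjective (QuotientGroup.mk'_surjective Z) H', e,
            Subgroup.map_top_of_surjective _ (QuotientGroup.mk'_surjective Z)]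
        · have hc : Nat.card (H'.comap (QuotientGroup.mk' Z)) = 2 * Nat.card H' := by
            have h1 := Subgroup.index_comap_of_surjective H' (QuotientGroup.mk'_surjective Z)
            have h2 := Subgroup.index_mul_card (H'.comap (QuotientGroup.mk' Z))
            have h3 := Subgroup.index_mul_card H'
            have hi : 0 < H'.index := Nat.pos_of_ne_zero Subgroup.index_ne_zero_of_finite
            rw [h1, hcard, ← h3, mul_assoc] at h2
            have := Nat.eq_of_mul_eq_mul_left hi h2
            omega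
          rw [hc, hcard, mul_pow]; omega
    · have hco : Nat.Coprime (Nat.card Z) Z.index := by
        rw [hZ, Subgroup.index_eq_card]; exact Nat.coprime_two_left.2 ho
      obtain ⟨K, hK⟩ := Subgroup.exists_right_complement'_of_coprime hco
      have hK' := hK.card_mul
      rw [hZ] at hK'
      have hk2 : 1 < Nat.card K := by omega
      refine ⟨K, fun e => ?_, ?_⟩
      · rw [e, Subgroup.card_top] at hK'; omega
      · rw [← hK']
        nlinarith [Nat.mul_le_mul hk2 hk2]
  · push_neg at hz
    by_cases h2 : ∃ H : Subgroup G, H.index = 2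
    · obtain ⟨H, hH⟩ := h2
      refine ⟨H, fun e => by simp [e] at hH, ?_⟩
      have hc := Subgroup.index_mul_card H
      rw [hH] at hc
      have h2' : 2 ≤ Nat.card H := by omega
      rw [← hc]
      nlinarith [Nat.mul_le_mul h2' h2']
    push_neg at h2
    obtain ⟨t, ht⟩ := exists_prime_orderOf_dvd_card' (G := G) 2 (even_iff_two_dvd.1 heven)
    obtain ⟨H, hH, hlt⟩ := InvolutionCount.exists_large_subgroup h2 hz ht
    obtain ⟨K, hK, hmax⟩ := Set.exists_max_image _ (fun H : Subgroup G => Nat.card H)
      (Set.toFinite {H : Subgroup G | H ≠ ⊤}) ⟨H, hH⟩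
    refine ⟨K, hK, ?_⟩
    set n := Nat.card {u : G // orderOf u = 2}
    set M := Nat.card K
    have hMH : Nat.card H ≤ M := hmax H hH
    have hMC : Nat.card (Subgroup.centralizer ({t} : Set G)) ≤ M :=
      hmax _ (InvolutionCount.centralizer_ne_top (hz t ht))
    have hnG : n ≤ Nat.card G := Finite.card_subtype_le _
    have h1 : Nat.card G ≤ n * M :=
      (InvolutionCount.card_le_mul_centralizer ht).trans (Nat.mul_le_mul_left n hMC)
    have h3 : n ^ 2 < M * Nat.card G := by nlinarith
    have h4 : Nat.card G ^ 2 < M ^ 3 * Nat.card G := by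
      calc Nat.card G ^ 2 ≤ (n * M) ^ 2 := Nat.pow_le_pow_left h1 2
      _ = n ^ 2 * M ^ 2 := mul_pow _ _ _
      _ < M * Nat.card G * M ^ 2 := Nat.mul_lt_mul_of_pos_right h3 (pow_pos Nat.card_pos 2)
      _ = M ^ 3 * Nat.card G := by ring
    rw [pow_two] at h4
    exact Nat.lt_of_mul_lt_mul_right h4

/-- A finite group G of even order greater than 2 has a proper subgroup H with |G| < |H|^3. -/
theorem result {G : Type*} [Group G] [Finite G] (heven : Even (Nat.card G)) (hgt : 2 < Nat.card G) : ∃ H : Subgroup G, H ≠ ⊤ ∧ Nat.card G < (Nat.card H) ^ 3 := by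
  exact large_subgroup (Nat.card G) G rfl heven hgt

end Cfsg.Agent.S0232
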