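import Cfsg.Statements.S0233
import Cfsg.Agent.Lib.InvolutionCount

set_option autoImplicit false
open Cfsg

namespace Cfsg.Agent.S0233

/-- Let G be a finite group of even order with exactly n involutions whose centre has odd order, and put a = |G|/n. Then G has a proper subgroup H with |G : H| = 2 or |G : H| < a(a+1)/2; over ℕ the latter reads 2·|G:H|·n² < |G|·(|G| + n). -/
theorem result {G : Type*} [Group G] [Finite G] (heven : Even (Nat.card G)) (hZ : Odd (Nat.card (Subgroup.center G))) : ∃ H : Subgroup G, H ≠ ⊤ ∧ (H.index = 2 ∨ 2 * H.index * (Nat.card {t : G // orderOf t = 2}) ^ 2 < Nat.card G * (Nat.card G + Nat.card {t : G // orderOf t = 2})) := by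
  classical
  by_cases h2 : ∃ H : Subgroup G, H.index = 2
  · obtain ⟨H, hH⟩ := h2
    exact ⟨H, fun e => by simp [e] at hH, Or.inl hH⟩
  push_neg at h2
  obtain ⟨t, ht⟩ := exists_prime_orderOf_dvd_card' (G := G) 2 (even_iff_two_dvd.1 heven)
  obtain ⟨H, hH, hlt⟩ := InvolutionCount.exists_large_subgroup h2
    (fun u hu hc => Nat.not_even_iff_odd.2 hZ (even_iff_two_dvd.2
      (hu ▸ Subgroup.orderOf_dvd_natCard _ hc))) ht
  refine ⟨H, hH, Or.inr ?_⟩
  have hi : 0 < H.index := Nat.pos_of_ne_zero Subgroup.index_ne_zero_of_finite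
  have := Nat.mul_lt_mul_of_pos_left hlt hi
  rw [← mul_assoc H.index (Nat.card H), Subgroup.index_mul_card] at this
  calc 2 * H.index * Nat.card {t : G // orderOf t = 2} ^ 2
      = H.index * (2 * Nat.card {t : G // orderOf t = 2} ^ 2) := by ring
  _ < _ := this

end Cfsg.Agent.S0233
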