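import Cfsg.Statements.S0234
import Cfsg.Agent.Lib.InvolutionCount
import Cfsg.Agent.S0228

set_option autoImplicit false
open Cfsg

namespace Cfsg.Agent.S0234

/-- In a finite simple group G of even order greater than 2, the number n of involutions satisfies 3n < |G|. -/
theorem result {G : Type*} [Group G] [Finite G] [IsSimpleGroup G] (heven : Even (Nat.card G)) (hgt : 2 < Nat.card G) : 3 * Nat.card {t : G // orderOf t = 2} < Nat.card G := by
  classical
  set n := Nat.card {t : G // orderOf t = 2} with hn
  set N := Nat.card G with hN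
  have hprop : ∀ K : Subgroup G, K.Normal → Nat.card K = 1 ∨ Nat.card K = N := fun K hK => by
    rcases hK.eq_bot_or_eq_top with h | h <;> simp [h, hN]
  have hidx2 : ∀ H : Subgroup G, H.index ≠ 2 := by
    intro H h
    have := Subgroup.index_mul_card H
    rw [h, ← hN] at this
    rcases hprop H (Subgroup.normal_of_index_eq_two h) with h1 | h1 <;> omega
  have hcen : ∀ t : G, orderOf t = 2 → t ∉ Subgroup.center G := by
    intro t ht hc
    have hnorm : (Subgroup.zpowers t).Normal := ⟨fun a ha g => by
      have : a ∈ Subgroup.center G := Subgroup.zpowers_le.2 hc ha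
      rw [Subgroup.mem_center_iff.1 this g, mul_inv_cancel_right]
      exact ha⟩
    have := hprop _ hnorm
    rw [Nat.card_zpowers, ht] at this
    omega
  obtain ⟨t₀, ht₀⟩ := exists_prime_orderOf_dvd_card' (G := G) 2 (even_iff_two_dvd.1 heven)
  obtain ⟨H, hH, hlt⟩ := InvolutionCount.exists_large_subgroup hidx2 hcen ht₀
  rw [← hn, ← hN] at hlt
  by_contra hge
  have hnN : n ≤ N := Finite.card_subtype_le _
  have hidx : H.index ≤ 5 := by
    have h1 := Subgroup.index_mul_card H
    rw [← hN] at h1
    by_contra h5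
    have h6 : 6 * Nat.card H ≤ N := h1 ▸ Nat.mul_le_mul_right _ (by omega)
    have h7 : 2 * n ^ 2 < Nat.card H * (4 * n) :=
      lt_of_lt_of_le hlt (Nat.mul_le_mul_left _ (by omega))
    have h8 : n < 2 * Nat.card H := by nlinarith
    omega
  -- embed `G` into the alternating group of degree 5
  let φ := MulAction.toPermHom G (G ⧸ H)
  have hker : φ.ker = ⊥ := (Subgroup.Normal.eq_bot_or_eq_top φ.normal_ker).resolve_right fun h => by
    apply hH
    rw [eq_top_iff, ← h, ← Subgroup.normalCore_eq_ker]
    exact Subgroup.normalCore_le H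
  let e : G ⧸ H ↪ Fin 5 :=
    (Finite.equivFin (G ⧸ H)).toEmbedding.trans (Fin.castLEEmb (by simpa [← Subgroup.index_eq_card]))
  let ψ : G →* Equiv.Perm (Fin 5) := (Equiv.Perm.viaEmbeddingHom e).comp φ
  have hψ : Function.Injective ψ :=
    (Equiv.Perm.viaEmbeddingHom_injective e).comp ((MonoidHom.ker_eq_bot_iff φ).1 hker)
  have hsign : ψ.range ≤ alternatingGroup (Fin 5) := by
    rintro _ ⟨g, rfl⟩
    rw [Equiv.Perm.mem_alternatingGroup]
    let σ : G →* ℤˣ := Equiv.Perm.sign.comp ψ
    rcases Subgroup.Normal.eq_bot_or_eq_top σ.normal_ker with h | h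
    · have := Nat.card_le_card_of_injective σ ((MonoidHom.ker_eq_bot_iff σ).1 h)
      rw [Nat.card_eq_fintype_card (α := ℤˣ), Fintype.card_units_int, ← hN] at this
      omega
    · exact MonoidHom.mem_ker.1 (h ▸ Subgroup.mem_top g : g ∈ σ.ker)
  let χ : G →* alternatingGroup (Fin 5) :=
    ψ.codRestrict _ fun g => hsign ⟨g, rfl⟩
  have hχ : Function.Injective χ := fun a b h => hψ (congrArg Subtype.val h)
  have h60 : Nat.card (alternatingGroup (Fin 5)) = 60 := by
    rw [nat_card_alternatingGroup, Nat.card_eq_fintype_card, Fintype.card_fin]; rfl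
  have hdvd : N ∣ 60 := h60 ▸ Subgroup.card_dvd_of_injective χ hχ
  have hcount : ∀ (k : ℕ) (K : Type) [Group K] [Fintype K] [DecidableEq K], (G ≃* K) →
      (Finset.univ.filter fun x : K => x * x = 1 ∧ x ≠ 1).card = k → n = k := by
    intro k K _ _ _ f hk
    rw [hn, ← hk, ← Fintype.card_subtype, ← Nat.card_eq_fintype_card]
    refine Nat.card_congr (Equiv.subtypeEquiv f.toEquiv fun a => ?_)
    constructor
    · intro h
      exact ⟨show f a * f a = 1 by rw [← map_mul, InvolutionCount.sq_self h, map_one],
        fun e => InvolutionCount.ne_one h ((MulEquiv.map_eq_one_iff f).1 e)⟩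
    · rintro ⟨h1, h2⟩
      exact InvolutionCount.orderOf_eq_two
        ((MulEquiv.map_eq_one_iff f).1 (by rw [map_mul]; exact h1))
        fun e => h2 (by simp [e])
  have hsyl : ∀ p : ℕ, p.Prime → ∀ m : ℕ, N = p * m → ¬ p ∣ m → m < p + 1 → 1 < m → False := by
    intro p hp m hm hpm hmp hm1
    have : Fact p.Prime := ⟨hp⟩
    obtain ⟨P⟩ : Nonempty (Sylow p G) := inferInstance
    have hP : Nat.card P = p := by
      rw [P.card_eq_multiplicity, ← hN, hm, Nat.factorization_mul hp.ne_zero (by omega),
        Finsupp.add_apply, hp.factorization_self, Nat.factorization_eq_zero_of_not_dvd hpm,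
        add_zero, pow_one]
    have h3 := Subgroup.index_mul_card (P : Subgroup G)
    rw [← hN, hP, hm, mul_comm p m] at h3
    have hd := P.card_dvd_index
    rw [Nat.eq_of_mul_eq_mul_right hp.pos h3] at hd
    have hle : Nat.card (Sylow p G) ≤ m := Nat.le_of_dvd (by omega) hd
    have hmod := card_sylow_modEq_one p G
    have h1 : Nat.card (Sylow p G) = 1 := by
      have hpos : 0 < Nat.card (Sylow p G) := Nat.card_pos
      have hd1 : p ∣ Nat.card (Sylow p G) - 1 := (Nat.modEq_iff_dvd' hpos).1 hmod.symm
      rcases Nat.eq_zero_or_pos (Nat.card (Sylow p G) - 1) with h | h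
      · omega
      · exact absurd (Nat.le_of_dvd h hd1) (by omega)
    have := (Nat.card_eq_one_iff_unique.1 h1).1
    have hpp := hp.two_le
    have hlt : p < p * m := lt_mul_of_one_lt_right hp.pos hm1
    rcases hprop P (Sylow.normal_of_subsingleton P) with h | h
    · rw [hP] at h; omega
    · rw [hP, hm] at h; omega
  have hmem : N ∈ Nat.divisors 60 := Nat.mem_divisors.2 ⟨hdvd, by norm_num⟩
  rw [show Nat.divisors 60 = {1, 2, 3, 4, 5, 6, 10, 12, 15, 20, 30, 60} by decide] at hmem
  simp only [Finset.mem_insert, Finset.mem_singleton] at hmem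
  have hev := Nat.even_iff.1 heven
  rcases hmem with h | h | h | h | h | h | h | h | h | h | h | h
  · omega
  · omega
  · omega
  · have : Fact (Nat.Prime 2) := ⟨Nat.prime_two⟩
    have hne : Nontrivial G := ⟨t₀, 1, InvolutionCount.ne_one ht₀⟩
    have hp : IsPGroup 2 G := IsPGroup.of_card (n := 2) (h.trans (by norm_num))
    have hc := hp.center_nontrivial
    rcases (inferInstance : (Subgroup.center G).Normal).eq_bot_or_eq_top with hb | ht
    · rw [Subgroup.nontrivial_iff_ne_bot] at hc; exact hc hb
    · exact hcen t₀ ht₀ (ht ▸ Subgroup.mem_top t₀)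
  · omega
  · exact hsyl 3 Nat.prime_three 2 (by omega) (by norm_num) (by norm_num) (by norm_num)
  · exact hsyl 5 Nat.prime_five 2 (by omega) (by norm_num) (by norm_num) (by norm_num)
  · obtain ⟨f⟩ := S0228.result (G := G) h hcen
    have := hcount 3 _ f (by decide +kernel)
    omega
  · omega
  · exact hsyl 5 Nat.prime_five 4 (by omega) (by norm_num) (by norm_num) (by norm_num)
  · have hc : Nat.card χ.range = 30 := by
      rw [← h, hN]; exact (Nat.card_congr (MonoidHom.ofInjective hχ).toEquiv).symm
    have hi := Subgroup.index_mul_card χ.range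
    rw [hc, h60] at hi
    have := alternatingGroup.isSimpleGroup_five
    have hnorm : χ.range.Normal := Subgroup.normal_of_index_eq_two (by omega)
    rcases hnorm.eq_bot_or_eq_top with hb | ht
    · rw [hb, Subgroup.card_bot] at hc; omega
    · rw [ht, Subgroup.card_top, h60] at hc; omega
  · have hb : Function.Bijective χ :=
      (Nat.bijective_iff_injective_and_card χ).2 ⟨hχ, by rw [h60, ← hN, h]⟩
    have := hcount 15 _ (MulEquiv.ofBijective χ hb) (by decide +kernel)
    omega

end Cfsg.Agent.S0234
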