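import Cfsg.Statements.S0235
import Cfsg.Agent.Lib.InvolutionCount

set_option autoImplicit false
open Cfsg

namespace Cfsg.Agent.S0235

/-- If x² ≠ 1, the ordered pairs (u, v) of involutions with uv = x correspond bijectively to the involutions t with t x t⁻¹ = x⁻¹ (via (u, v) ↦ u), so the two counts agree. -/
theorem result {G : Type*} [Group G] [Finite G] (x : G) (hx : x ^ 2 ≠ 1) : Nat.card {p : G × G // orderOf p.1 = 2 ∧ orderOf p.2 = 2 ∧ p.1 * p.2 = x} = Nat.card {t : G // orderOf t = 2 ∧ t * x * t⁻¹ = x⁻¹} := by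
  have hx' : x * x ≠ 1 := by rwa [← pow_two]
  refine Nat.card_congr
    { toFun := fun p => ⟨p.1.1, p.2.1, InvolutionCount.left_inverts p.2.1 p.2.2.1 p.2.2.2⟩
      invFun := fun t => ⟨(t.1, t.1 * x), t.2.1, ?_, ?_⟩
      left_inv := ?_
      right_inv := fun t => rfl }
  · obtain ⟨t, ht, htx⟩ := t
    refine InvolutionCount.orderOf_eq_two ?_ ?_
    · rw [InvolutionCount.inv_self ht] at htx
      calc t * x * (t * x) = (t * x * t) * x := by simp [mul_assoc]
      _ = 1 := by rw [htx, inv_mul_cancel]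
    · intro h
      have : x = t := by
        rw [eq_inv_of_mul_eq_one_right h, InvolutionCount.inv_self ht]
      exact hx' (this ▸ InvolutionCount.sq_self ht)
  · rw [← mul_assoc, InvolutionCount.sq_self t.2.1, one_mul]
  · rintro ⟨⟨u, v⟩, hu, hv, huv⟩
    subst huv
    simp [← mul_assoc, InvolutionCount.sq_self hu]

end Cfsg.Agent.S0235
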