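import Cfsg.Statements.S0236
import Cfsg.Agent.Lib.InvolutionCount

set_option autoImplicit false
open Cfsg

namespace Cfsg.Agent.S0236

/-- If x is an involution, the number of ordered pairs (u, v) of involutions with uv = x, plus one, equals the number of involutions in the centralizer of x. -/
theorem result {G : Type*} [Group G] [Finite G] (x : G) (hx : orderOf x = 2) : Nat.card {p : G × G // orderOf p.1 = 2 ∧ orderOf p.2 = 2 ∧ p.1 * p.2 = x} + 1 = Nat.card {t : G // orderOf t = 2 ∧ Commute t x} := by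
  classical
  have := Fintype.ofFinite G
  let f : {p : G × G // orderOf p.1 = 2 ∧ orderOf p.2 = 2 ∧ p.1 * p.2 = x} →
      {t : {t : G // orderOf t = 2 ∧ Commute t x} // t.1 ≠ x} := fun p =>
    ⟨⟨p.1.1, p.2.1, by
      have e := InvolutionCount.left_inverts p.2.1 p.2.2.1 p.2.2.2
      rwa [InvolutionCount.inv_self hx, mul_inv_eq_iff_eq_mul] at e⟩, fun e => by
      have h := p.2.2.2; rw [show p.1.1 = x from e] at h
      exact InvolutionCount.ne_one p.2.2.1 (mul_eq_left.1 h)⟩
  have hf : Function.Bijective f := by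
    constructor
    · rintro ⟨⟨u, v⟩, hu, hv, huv⟩ ⟨⟨u', v'⟩, hu', hv', huv'⟩ h
      obtain rfl : u = u' := congrArg (fun t => (t.1.1 : G)) h
      simp only [Subtype.mk.injEq, Prod.mk.injEq, true_and]
      exact mul_left_cancel (huv.trans huv'.symm)
    · rintro ⟨⟨t, ht, htx⟩, hne⟩
      refine ⟨⟨(t, t * x), ht, InvolutionCount.orderOf_eq_two ?_ ?_, ?_⟩, rfl⟩
      · calc t * x * (t * x) = (t * t) * (x * x) := by
              rw [mul_assoc, ← mul_assoc x t x, ← htx.eq]; simp [mul_assoc]
        _ = 1 := by rw [InvolutionCount.sq_self ht, InvolutionCount.sq_self hx, one_mul]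
      · intro h
        exact hne ((eq_inv_of_mul_eq_one_right h).trans (InvolutionCount.inv_self ht)).symm
      · simp [← mul_assoc, InvolutionCount.sq_self ht]
  rw [Nat.card_congr (Equiv.ofBijective f hf), Nat.card_eq_fintype_card, Nat.card_eq_fintype_card,
    Fintype.card_subtype_compl (fun t : {t : G // orderOf t = 2 ∧ Commute t x} => t.1 = x)]
  have : Fintype.card {t : {t : G // orderOf t = 2 ∧ Commute t x} // t.1 = x} = 1 := by
    rw [Fintype.card_eq_one_iff]
    exact ⟨⟨⟨x, hx, Commute.refl x⟩, rfl⟩, fun y => Subtype.ext (Subtype.ext y.2)⟩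
  have : 0 < Fintype.card {t : G // orderOf t = 2 ∧ Commute t x} :=
    Fintype.card_pos_iff.2 ⟨⟨x, hx, Commute.refl x⟩⟩
  omega

end Cfsg.Agent.S0236
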