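import Cfsg.Statements.S0239
import Mathlib

set_option autoImplicit false
open Cfsg

namespace Cfsg.Agent.S0239

/-- If some nontrivial element x of a finite group G is conjugate to x⁻¹, then |G| is even. -/
theorem result {G : Type*} [Group G] [Finite G] (x : G) (hx : x ≠ 1) (hreal : IsConj x x⁻¹) : Even (Nat.card G) := by
  obtain ⟨g, hg⟩ := hreal
  by_contra hc
  rw [Nat.not_even_iff_odd] at hc
  have h1 : (g : G) * x = x⁻¹ * g := hg
  have h2 : Commute ((g : G) ^ 2) x := by
    have h3 : (g : G) * x⁻¹ = x * g := by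
      calc (g : G) * x⁻¹ = x * (x⁻¹ * g) * x⁻¹ := by group
        _ = x * ((g : G) * x) * x⁻¹ := by rw [h1]
        _ = x * g := by group
    calc (g : G) ^ 2 * x = g * (g * x) := by rw [pow_two, mul_assoc]
      _ = g * (x⁻¹ * g) := by rw [h1]
      _ = (g * x⁻¹) * g := by rw [mul_assoc]
      _ = x * g * g := by rw [h3]
      _ = x * (g : G) ^ 2 := by rw [pow_two, mul_assoc]
  obtain ⟨k, hk⟩ := hc
  have h4 : Commute (g : G) x := by
    have : (g : G) = ((g : G) ^ 2) ^ (k + 1) := by
      rw [← pow_mul, show 2 * (k + 1) = Nat.card G + 1 by omega, pow_succ, pow_card_eq_one', one_mul]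
    rw [this]; exact h2.pow_left _
  have h5 : x = x⁻¹ := by
    have := h4.eq.symm.trans h1
    exact mul_right_cancel this
  have h6 : x ^ 2 = 1 := by rw [pow_two]; nth_rewrite 1 [h5]; exact inv_mul_cancel x
  apply hx
  calc x = x ^ (Nat.card G + 1) * 1 := by rw [mul_one, pow_succ, pow_card_eq_one', one_mul]
    _ = (x ^ 2) ^ (k + 1) := by rw [mul_one, ← pow_mul]; congr 1; omega
    _ = 1 := by rw [h6, one_pow]

end Cfsg.Agent.S0239
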