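import Cfsg.Statements.S0240
import Cfsg.Agent.Lib.InvolutionCount

set_option autoImplicit false
open Cfsg

namespace Cfsg.Agent.S0240

/-- Let G be a finite group with n involutions and H a subgroup with |H|·(n+1) > |G|. Then some nontrivial h ∈ H is strongly real in G: an involution t of G satisfies t h t⁻¹ = h⁻¹. -/
theorem result {G : Type*} [Group G] [Finite G] (H : Subgroup G) (hH : Nat.card G < Nat.card H * (Nat.card {t : G // orderOf t = 2} + 1)) : ∃ h : G, h ∈ H ∧ h ≠ 1 ∧ ∃ t : G, orderOf t = 2 ∧ t * h * t⁻¹ = h⁻¹ := by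
  classical
  have hlt : Nat.card (G ⧸ H) < Nat.card (Option {t : G // orderOf t = 2}) := by
    rw [Finite.card_option]
    rw [← Subgroup.index_mul_card H, mul_comm H.index] at hH
    exact Nat.lt_of_mul_lt_mul_left hH
  let f : Option {t : G // orderOf t = 2} → G ⧸ H :=
    fun o => ((o.elim 1 Subtype.val : G) : G ⧸ H)
  obtain ⟨a, b, hne, hab⟩ : ∃ a b, a ≠ b ∧ f a = f b := by
    by_contra hc
    push_neg at hc
    have hinj : Function.Injective f := fun a b h => by
      by_contra hne; exact hc a b hne h
    exact absurd (Nat.card_le_card_of_injective f hinj) (not_le.2 hlt)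
  have hab' := QuotientGroup.eq.1 hab
  match a, b with
  | none, none => exact absurd rfl hne
  | none, some ⟨t, ht⟩ =>
    exact ⟨t, by simpa using hab', InvolutionCount.ne_one ht, t, ht, by
      rw [InvolutionCount.inv_self ht, InvolutionCount.sq_self ht, one_mul]⟩
  | some ⟨t, ht⟩, none =>
    exact ⟨t, by simpa using hab', InvolutionCount.ne_one ht, t, ht, by
      rw [InvolutionCount.inv_self ht, InvolutionCount.sq_self ht, one_mul]⟩
  | some ⟨s, hs⟩, some ⟨t, ht⟩ =>
    refine ⟨s⁻¹ * t, hab', fun e => hne ?_, s, hs, ?_⟩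
    · simp [inv_mul_eq_one.1 e]
    · exact InvolutionCount.left_inverts hs ht (by rw [InvolutionCount.inv_self hs])

end Cfsg.Agent.S0240
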