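import Cfsg.Statements.S0241
import Cfsg.Agent.Lib.InvolutionCount

set_option autoImplicit false
open Cfsg

namespace Cfsg.Agent.S0241

/-- If x ≠ 1 is conjugate to x⁻¹ in a finite group G and |C_G(x)| is odd, then some involution t satisfies t x t⁻¹ = x⁻¹. -/
theorem result {G : Type*} [Group G] [Finite G] (x : G) (hx : x ≠ 1) (hreal : IsConj x x⁻¹) (hodd : Odd (Nat.card (Subgroup.centralizer ({x} : Set G)))) : ∃ t : G, orderOf t = 2 ∧ t * x * t⁻¹ = x⁻¹ := by
  obtain ⟨g, hg⟩ := isConj_iff.1 hreal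
  have hxx : x ≠ x⁻¹ := by
    intro e
    have h2 : orderOf x = 2 := InvolutionCount.orderOf_eq_two (mul_eq_one_iff_eq_inv.2 e) hx
    have hd := Subgroup.orderOf_dvd_natCard (Subgroup.centralizer ({x} : Set G))
      (InvolutionCount.mem_centralizer_singleton.2 (rfl : x * x = x * x))
    rw [h2] at hd
    exact (Nat.not_even_iff_odd.2 hodd) (even_iff_two_dvd.2 hd)
  have hpow : ∀ n : ℕ, g ^ n * x * (g ^ n)⁻¹ = if Even n then x else x⁻¹ := by
    intro n
    induction n with
    | zero => simp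
    | succ n ih =>
      have e : g ^ (n + 1) * x * (g ^ (n + 1))⁻¹ = g * (g ^ n * x * (g ^ n)⁻¹) * g⁻¹ := by
        rw [pow_succ']; simp [mul_assoc]
      rw [e, ih]
      by_cases h : Even n
      · rw [if_pos h, if_neg (by rw [Nat.even_add_one]; exact not_not_intro h), hg]
      · rw [if_neg h, if_pos (by rw [Nat.even_add_one]; exact h), ← conj_inv, hg, inv_inv]
  set C := Subgroup.centralizer ({x} : Set G)
  set m := Nat.card C
  have hcm : ∀ c ∈ C, c ^ m = 1 := fun c hc =>
    orderOf_dvd_iff_pow_eq_one.1 (Subgroup.orderOf_dvd_natCard C hc)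
  have ht : g ^ m * x * (g ^ m)⁻¹ = x⁻¹ := by
    rw [hpow, if_neg (Nat.not_even_iff_odd.2 hodd)]
  refine ⟨g ^ m, InvolutionCount.orderOf_eq_two ?_ ?_, ht⟩
  · rw [← pow_two, ← pow_mul, mul_comm, pow_mul]
    refine hcm _ (InvolutionCount.mem_centralizer_singleton.2 ?_)
    rw [← mul_inv_eq_iff_eq_mul, hpow, if_pos even_two]
  · intro e
    rw [e] at ht
    exact hxx (by simpa using ht)

end Cfsg.Agent.S0241
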