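import Cfsg.Statements.S0826
import Cfsg.Agent.Lib.SymplecticAlt
import Cfsg.Agent.Lib.SymplecticDecomp

set_option autoImplicit false
open Cfsg

namespace Cfsg.Agent.S0826

open Matrix Cfsg.Agent.SymplecticBasic

/-- The dot product as a bilinear map. -/
def dotB (N : ℕ) : (Fin N → ZMod 2) →ₗ[ZMod 2] (Fin N → ZMod 2) →ₗ[ZMod 2] ZMod 2 :=
  LinearMap.mk₂ (ZMod 2) (fun u v => u ⬝ᵥ v) add_dotProduct (fun a u v => smul_dotProduct a u v)
    dotProduct_add (fun a u v => dotProduct_smul a u v)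

/-- Moving a vector by a permutation. -/
def permMap {N : ℕ} (σ : Equiv.Perm (Fin N)) : (Fin N → ZMod 2) →ₗ[ZMod 2] (Fin N → ZMod 2) :=
  LinearMap.funLeft (ZMod 2) (ZMod 2) σ.symm

theorem permMap_dot {N : ℕ} (σ : Equiv.Perm (Fin N)) (u v : Fin N → ZMod 2) :
    permMap σ u ⬝ᵥ permMap σ v = u ⬝ᵥ v :=
  Fintype.sum_equiv σ.symm (fun i => permMap σ u i * permMap σ v i) (fun i => u i * v i)
    (fun _ => rfl)

theorem permMap_one {N : ℕ} (σ : Equiv.Perm (Fin N)) :
    permMap σ (1 : Fin N → ZMod 2) = 1 := rfl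

theorem exists_emb (N k : ℕ) (hN : N = 2 * k + 2) (hk : 2 ≤ k) :
    ∃ f : Equiv.Perm (Fin N) →* Matrix.symplecticGroup (Fin k) (ZMod 2), Function.Injective f := by
  classical
  have hsq : ∀ x : ZMod 2, x * x = x := by decide
  let S : (Fin N → ZMod 2) →ₗ[ZMod 2] ZMod 2 := dotB N 1
  let W := LinearMap.ker S
  have hS : ∀ v, S v = (1 : Fin N → ZMod 2) ⬝ᵥ v := fun v => rfl
  have hone : (1 : Fin N → ZMod 2) ∈ W := by
    show S 1 = 0
    simp [hS, dotProduct, hN, show (2 : ZMod 2) = 0 from rfl]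
  have hS1 : ∀ v, v ⬝ᵥ (1 : Fin N → ZMod 2) = S v := fun v => by rw [hS, dotProduct_comm]
  have halt : ∀ v ∈ W, v ⬝ᵥ v = 0 := fun v hv => by
    rw [← (show S v = 0 from hv), hS]
    simp [dotProduct, hsq]
  have hperp : ∀ u : Fin N → ZMod 2, (∀ v ∈ W, u ⬝ᵥ v = 0) → ∃ t : ZMod 2, u = t • 1 := by
    intro u hu
    refine ⟨u ⟨0, by omega⟩, funext fun i => ?_⟩
    by_cases hi : i = ⟨0, by omega⟩
    · simp [hi]
    have hmem : (Pi.single i 1 + Pi.single ⟨0, by omega⟩ 1 : Fin N → ZMod 2) ∈ W := by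
      show S _ = 0
      simp [hS, dotProduct_add]
      decide
    have := hu _ hmem
    simp [dotProduct_add] at this
    rw [CharTwo.add_eq_zero] at this
    simp [this]
  have hone0 : (1 : Fin N → ZMod 2) ≠ 0 := fun h => by
    simpa using congrFun h ⟨0, by omega⟩
  have hWdim : Module.finrank (ZMod 2) W = 2 * k + 1 := by
    have h := S.finrank_range_add_finrank_ker
    rw [LinearMap.range_eq_top.mpr (fun c => ⟨Pi.single ⟨0, by omega⟩ c, by simp [hS]⟩),
      finrank_top, Module.finrank_self, Module.finrank_pi, Fintype.card_fin] at h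
    show Module.finrank (ZMod 2) (LinearMap.ker S) = _
    omega
  obtain ⟨C0, hC0⟩ := (Submodule.span (ZMod 2) {(1 : Fin N → ZMod 2)}).exists_isCompl
  let C := W ⊓ C0
  have hsplit : ∀ v ∈ W, ∃ t : ZMod 2, ∃ c ∈ C, v = t • 1 + c := by
    intro v hv
    obtain ⟨a, ha, b, hb, rfl⟩ := Submodule.mem_sup.mp
      (show v ∈ Submodule.span (ZMod 2) {(1 : Fin N → ZMod 2)} ⊔ C0 by
        rw [hC0.sup_eq_top]; exact Submodule.mem_top)
    obtain ⟨t, rfl⟩ := Submodule.mem_span_singleton.mp ha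
    exact ⟨t, b, ⟨by simpa using sub_mem hv (W.smul_mem t hone), hb⟩, rfl⟩
  have hCnd : ∀ u ∈ C, (∀ v ∈ C, u ⬝ᵥ v = 0) → u = 0 := by
    intro u hu h
    obtain ⟨t, ht⟩ := hperp u fun v hv => by
      obtain ⟨t, c, hc, rfl⟩ := hsplit v hv
      rw [dotProduct_add, dotProduct_smul, h c hc, hS1, show S u = 0 from hu.1]
      simp
    refine Submodule.disjoint_def.mp hC0.disjoint u ?_ hu.2
    rw [ht]; exact Submodule.smul_mem _ _ (Submodule.mem_span_singleton_self _)
  have hCdim : Module.finrank (ZMod 2) C = 2 * k := by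
    have hsup : Submodule.span (ZMod 2) {(1 : Fin N → ZMod 2)} ⊔ C = W := by
      refine le_antisymm (sup_le ?_ inf_le_left) fun v hv => ?_
      · rw [Submodule.span_singleton_le_iff_mem]; exact hone
      · obtain ⟨t, c, hc, rfl⟩ := hsplit v hv
        exact Submodule.add_mem_sup
          (Submodule.smul_mem _ _ (Submodule.mem_span_singleton_self _)) hc
    have hinf : Submodule.span (ZMod 2) {(1 : Fin N → ZMod 2)} ⊓ C = ⊥ :=
      le_bot_iff.mp ((inf_le_inf_left _ inf_le_right).trans (le_of_eq hC0.disjoint.eq_bot))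
    have h := Submodule.finrank_sup_add_finrank_inf_eq
      (Submodule.span (ZMod 2) {(1 : Fin N → ZMod 2)}) C
    rw [hsup, hinf, finrank_bot, hWdim, finrank_span_singleton hone0] at h
    omega
  have hbasis : ∃ e : Fin k ⊕ Fin k → (Fin N → ZMod 2), (∀ s, e s ∈ W) ∧
      (∀ s t, e s ⬝ᵥ e t = sympForm k (ZMod 2) (Pi.single s 1) (Pi.single t 1)) ∧
      ∀ v ∈ C, (∀ s, e s ⬝ᵥ v = 0) → v = 0 := by
    have halt' : ∀ v : C, (dotB N v.1) v.1 = 0 := fun v => halt _ v.2.1
    obtain ⟨k', hk', e, -, hform⟩ := SymplecticAlt.exists_symp_basis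
      ((dotB N).compl₁₂ C.subtype C.subtype) halt' _ ⊤ rfl
      (fun u _ h => Subtype.ext (hCnd u.1 u.2 fun v hv => h ⟨v, hv⟩ Submodule.mem_top))
    rw [finrank_top, hCdim] at hk'
    obtain rfl : k' = k := by omega
    have hli : LinearIndependent (ZMod 2) e := by
      rw [Fintype.linearIndependent_iff]
      intro c hc
      have hz : (J (Fin k') (ZMod 2) *ᵥ c) = 0 := by
        funext r
        have : (dotB N (e r).1) (∑ t, c t • e t).1 = 0 := by rw [hc]; simp
        rw [Submodule.coe_sum, map_sum] at this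
        rw [Pi.zero_apply, ← this, Matrix.mulVec, dotProduct]
        refine Finset.sum_congr rfl fun t _ => ?_
        rw [Submodule.coe_smul, map_smul, smul_eq_mul, show (dotB N (e r).1) (e t).1 = _ from hform r t,
          sympForm, mul_comm]
        simp [Matrix.mulVec_single_one]
      have h2 := congrArg (fun w => J (Fin k') (ZMod 2) *ᵥ w) hz
      simp only [Matrix.mulVec_mulVec, Matrix.J_squared, Matrix.neg_mulVec, Matrix.one_mulVec,
        Matrix.mulVec_zero, neg_eq_zero] at h2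
      exact congrFun h2
    have hspan := hli.span_eq_top_of_card_eq_finrank' (by
      rw [hCdim, Fintype.card_sum, Fintype.card_fin, two_mul])
    refine ⟨fun s => (e s).1, fun s => (e s).2.1, hform, fun v hv h => hCnd v hv fun w hw => ?_⟩
    obtain ⟨c, hc⟩ := (Submodule.mem_span_range_iff_exists_fun (ZMod 2)).mp
      (show (⟨w, hw⟩ : C) ∈ Submodule.span (ZMod 2) (Set.range e) by
        rw [hspan]; exact Submodule.mem_top)
    rw [show w = (∑ t, c t • e t : C).1 from (congrArg Subtype.val hc).symm, Submodule.coe_sum,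
      dotProduct_sum]
    exact Finset.sum_eq_zero fun t _ => by
      rw [Submodule.coe_smul, dotProduct_smul, dotProduct_comm, h t, smul_zero]
  obtain ⟨e, heW, hform, hdetect⟩ := hbasis
  let ev : (Fin k ⊕ Fin k → ZMod 2) →ₗ[ZMod 2] (Fin N → ZMod 2) :=
    Fintype.linearCombination (ZMod 2) e
  let L : (Fin N → ZMod 2) →ₗ[ZMod 2] (Fin k ⊕ Fin k → ZMod 2) :=
    (-(J (Fin k) (ZMod 2))).mulVecLin ∘ₗ LinearMap.pi fun r => dotB N (e r)
  have hev : ∀ c, ev c ∈ W := fun c => by
    show Fintype.linearCombination (ZMod 2) e c ∈ W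
    rw [Fintype.linearCombination_apply]
    exact Submodule.sum_mem _ fun i _ => W.smul_mem _ (heW i)
  have hdot : ∀ r c, e r ⬝ᵥ ev c = (J (Fin k) (ZMod 2) *ᵥ c) r := fun r c => by
    show e r ⬝ᵥ Fintype.linearCombination (ZMod 2) e c = _
    rw [Fintype.linearCombination_apply, dotProduct_sum]
    refine Finset.sum_congr rfl fun t _ => ?_
    rw [dotProduct_smul, smul_eq_mul, hform, sympForm, mul_comm]
    simp [Matrix.mulVec_single_one]
  have hLev : ∀ c, L (ev c) = c := fun c => by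
    show -(J (Fin k) (ZMod 2)) *ᵥ (fun r => e r ⬝ᵥ ev c) = c
    rw [show (fun r => e r ⬝ᵥ ev c) = J (Fin k) (ZMod 2) *ᵥ c from funext fun r => hdot r c,
      Matrix.mulVec_mulVec, Matrix.neg_mul, Matrix.J_squared, neg_neg, Matrix.one_mulVec]
  have hL1 : L 1 = 0 := by
    show -(J (Fin k) (ZMod 2)) *ᵥ (fun r => e r ⬝ᵥ (1 : Fin N → ZMod 2)) = 0
    rw [show (fun r => e r ⬝ᵥ (1 : Fin N → ZMod 2)) = 0 from funext fun r => (hS1 _).trans (heW r),
      Matrix.mulVec_zero]
  have hdecomp : ∀ v ∈ W, ∃ t : ZMod 2, v = t • 1 + ev (L v) := by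
    intro v hv
    obtain ⟨t, c, hc, hvc⟩ := hsplit _ (sub_mem hv (hev (L v)))
    have h0 : ∀ r, e r ⬝ᵥ (v - ev (L v)) = 0 := fun r => by
      have : J (Fin k) (ZMod 2) *ᵥ L v = fun r => e r ⬝ᵥ v := by
        show J (Fin k) (ZMod 2) *ᵥ (-(J (Fin k) (ZMod 2)) *ᵥ (fun r => e r ⬝ᵥ v)) = _
        rw [Matrix.mulVec_mulVec, Matrix.mul_neg, Matrix.J_squared, neg_neg, Matrix.one_mulVec]
      rw [dotProduct_sub, hdot, this, sub_self]
    refine ⟨t, ?_⟩
    have hc0 : c = 0 := hdetect c hc fun r => by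
      have := h0 r
      rw [hvc, dotProduct_add, dotProduct_smul, hS1, show S (e r) = 0 from heW r] at this
      simpa using this
    rw [hc0, add_zero] at hvc
    rw [← hvc, sub_add_cancel]
  have hLform : ∀ v ∈ W, ∀ w ∈ W, sympForm k (ZMod 2) (L v) (L w) = v ⬝ᵥ w := by
    intro v hv w hw
    obtain ⟨t, ht⟩ := hdecomp v hv
    obtain ⟨t', ht'⟩ := hdecomp w hw
    have h1 : ∀ c, S (ev c) = 0 := hev
    conv_rhs => rw [ht, ht']
    rw [add_dotProduct, dotProduct_add, dotProduct_add, smul_dotProduct, smul_dotProduct,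
      dotProduct_smul, dotProduct_smul, hS1, hS1, ← hS, h1, h1, show S 1 = 0 from hone]
    simp only [smul_zero, zero_add]
    show L v ⬝ᵥ (J (Fin k) (ZMod 2) *ᵥ L w) = Fintype.linearCombination (ZMod 2) e (L v) ⬝ᵥ ev (L w)
    rw [Fintype.linearCombination_apply, sum_dotProduct]
    exact Finset.sum_congr rfl fun r _ => by rw [smul_dotProduct, hdot, smul_eq_mul]
  have hpermW : ∀ (σ : Equiv.Perm (Fin N)), ∀ v ∈ W, permMap σ v ∈ W := fun σ v hv => by
    show S _ = 0
    rw [hS, ← permMap_one σ, permMap_dot, ← hS]; exact hv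
  let A : Equiv.Perm (Fin N) → Matrix (Fin k ⊕ Fin k) (Fin k ⊕ Fin k) (ZMod 2) := fun σ =>
    Matrix.of fun r s => L (permMap σ (e s)) r
  have hA : ∀ σ c, A σ *ᵥ c = L (permMap σ (ev c)) := fun σ c => by
    funext r
    show _ = L (permMap σ (Fintype.linearCombination (ZMod 2) e c)) r
    rw [Fintype.linearCombination_apply, map_sum, map_sum, Finset.sum_apply, Matrix.mulVec, dotProduct]
    refine Finset.sum_congr rfl fun s _ => ?_
    rw [map_smul, map_smul, Pi.smul_apply, smul_eq_mul, mul_comm]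
    rfl
  have hAmem : ∀ σ, A σ ∈ symplecticGroup (Fin k) (ZMod 2) := fun σ => by
    rw [mem_sp_iff_form]
    intro u v
    rw [hA, hA, hLform _ (hpermW σ _ (hev u)) _ (hpermW σ _ (hev v)), permMap_dot,
      ← hLform _ (hev u) _ (hev v), hLev, hLev]
  have hmul : ∀ σ τ, A (σ * τ) = A σ * A τ := fun σ τ => by
    refine Matrix.mulVec_injective (funext fun c => ?_)
    rw [← Matrix.mulVec_mulVec, hA, hA, hA]
    obtain ⟨t, ht⟩ := hdecomp _ (hpermW τ _ (hev c))
    have h2 : permMap (σ * τ) (ev c) = permMap σ (permMap τ (ev c)) := rfl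
    conv_lhs => rw [h2, ht, map_add, map_smul, permMap_one, map_add, map_smul, hL1, smul_zero,
      zero_add]
  refine ⟨MonoidHom.mk' (fun σ => ⟨A σ, hAmem σ⟩) (fun σ τ => Subtype.ext (hmul σ τ)), ?_⟩
  rw [injective_iff_map_eq_one]
  intro σ hσ
  have hA1 : A σ = 1 := congrArg Subtype.val hσ
  by_contra hne
  obtain ⟨i, hi⟩ : ∃ i, σ i ≠ i := by
    by_contra h; push Not at h; exact hne (Equiv.ext h)
  obtain ⟨j, hj⟩ : ∃ j, j ∉ ({i, σ i, σ.symm i} : Finset (Fin N)) := by
    by_contra h; push Not at h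
    have := Finset.card_le_card (fun a _ => h a :
      (Finset.univ : Finset (Fin N)) ⊆ {i, σ i, σ.symm i})
    rw [Finset.card_univ, Fintype.card_fin] at this
    have := Finset.card_le_three (a := i) (b := σ i) (c := σ.symm i)
    omega
  simp only [Finset.mem_insert, Finset.mem_singleton, not_or] at hj
  set v : Fin N → ZMod 2 := Pi.single i 1 + Pi.single j 1
  have hv : v ∈ W := by
    show S _ = 0
    simp [v, hS, dotProduct_add]
    decide
  obtain ⟨t, ht⟩ := hdecomp v hv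
  obtain ⟨t', ht'⟩ := hdecomp _ (hpermW σ v hv)
  have hLv : L (permMap σ v) = L v := by
    conv_lhs => rw [ht, map_add, map_smul, permMap_one, map_add, map_smul, ← hA, hA1,
      Matrix.one_mulVec, hL1, smul_zero, zero_add]
  rw [hLv] at ht'
  have hdiff : permMap σ v - v = (t' - t) • 1 := by
    nth_rewrite 2 [ht]; rw [ht']; module
  obtain ⟨l, hl⟩ : ∃ l, l ∉ ({i, j, σ i, σ j} : Finset (Fin N)) := by
    by_contra h; push Not at h
    have := Finset.card_le_card (fun a _ => h a :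
      (Finset.univ : Finset (Fin N)) ⊆ {i, j, σ i, σ j})
    rw [Finset.card_univ, Fintype.card_fin] at this
    have := Finset.card_le_four (a := i) (b := j) (c := σ i) (d := σ j)
    omega
  simp only [Finset.mem_insert, Finset.mem_singleton, not_or] at hl
  have e1 := congrFun hdiff l
  have e2 := congrFun hdiff i
  have hji : σ.symm i ≠ j := Ne.symm hj.2.2
  have hli : σ.symm l ≠ i := fun h => hl.2.2.1 (by rw [← h, Equiv.apply_symm_apply])
  have hlj : σ.symm l ≠ j := fun h => hl.2.2.2 (by rw [← h, Equiv.apply_symm_apply])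
  have hii : σ.symm i ≠ i := fun h => hi (by nth_rewrite 1 [← h]; exact σ.apply_symm_apply i)
  simp [v, permMap, hl.1, hl.2.1, hli, hlj] at e1
  simp [v, permMap, hii, hji, hj.1, Ne.symm hj.1, ← e1] at e2

theorem result (n : ℕ) (hn : 3 ≤ n) : ∃ f : Equiv.Perm (Fin (2 * n)) →* Matrix.symplecticGroup (Fin (n - 1)) (ZMod 2), Function.Injective f :=
  exists_emb (2 * n) (n - 1) (by omega) (by omega)

end Cfsg.Agent.S0826
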