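import Cfsg.Statements.S0247
import Cfsg.Agent.Lib.SymplecticOrder
import Cfsg.Agent.S0826

set_option autoImplicit false
open Cfsg

namespace Cfsg.Agent.S0247

/-- Sp_4(2) is isomorphic to the symmetric group S_6. -/
theorem result {F : Type*} [Field F] [Fintype F] (hF : Fintype.card F = 2) : Nonempty (Matrix.symplecticGroup (Fin 2) F ≃* Equiv.Perm (Fin 6)) := by
  obtain ⟨f, hf⟩ := Cfsg.Agent.S0826.exists_emb 6 2 (by norm_num) le_rfl
  have hc2 : Fintype.card F = Fintype.card (ZMod 2) := by rw [hF, ZMod.card]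
  have hcard : Nat.card (Matrix.symplecticGroup (Fin 2) (ZMod 2)) = Nat.card (Equiv.Perm (Fin 6)) := by
    rw [Cfsg.Agent.SymplecticOrder.card_symplectic (q := 2) (ZMod.card 2), Nat.card_perm, Nat.card_fin]
    decide
  have hbij : Function.Bijective f := by
    refine ⟨hf, ?_⟩
    have := Fintype.ofFinite (Matrix.symplecticGroup (Fin 2) (ZMod 2))
    exact (hf.bijective_of_nat_card_le (le_of_eq hcard)).2
  have : CharP F 2 := charP_of_card_eq_prime (R := F) hF
  let e : ZMod 2 ≃+* F := RingEquiv.ofBijective (ZMod.castHom dvd_rfl F)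
    ((Fintype.bijective_iff_injective_and_card _).mpr
      ⟨(ZMod.castHom dvd_rfl F).injective, hc2.symm⟩)
  let φ : Matrix.symplecticGroup (Fin 2) F ≃* Matrix.symplecticGroup (Fin 2) (ZMod 2) :=
    { toFun := fun A => ⟨A.1.map e.symm, SymplecticGroup.map_mem A.2 e.symm⟩
      invFun := fun A => ⟨A.1.map e, SymplecticGroup.map_mem A.2 e⟩
      left_inv := fun A => Subtype.ext (Matrix.ext fun i j => e.apply_symm_apply _)
      right_inv := fun A => Subtype.ext (Matrix.ext fun i j => e.symm_apply_apply _)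
      map_mul' := fun A B => Subtype.ext (Matrix.map_mul) }
  exact ⟨φ.trans (MulEquiv.ofBijective f hbij).symm⟩

end Cfsg.Agent.S0247
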