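import Cfsg.Statements.S0255
import Mathlib
import Cfsg.Agent.Lib.SimplePSLApply
import Cfsg.Agent.Lib.PSLSimple
import Cfsg.Agent.Lib.PSLCard

set_option autoImplicit false
open Cfsg

namespace Cfsg.Agent.S0255

/-- PSL_2(7) is isomorphic to PSL_3(2). -/
theorem result {F K : Type*} [Field F] [Fintype F] [Field K] [Fintype K] (hF : Fintype.card F = 7) (hK : Fintype.card K = 2) : Nonempty (Matrix.ProjectiveSpecialLinearGroup (Fin 2) F ≃* Matrix.ProjectiveSpecialLinearGroup (Fin 3) K) := by
  have := PSLSimple.isSimpleGroup_PSL_fin' (F := K) (n := 3) (by norm_num) (by norm_num)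
  have hK' : Nat.card K = 2 := by rw [Nat.card_eq_fintype_card, hK]
  have h := PSLCard.card_PSL_mul (F := K) 3
  have h' := PSLCard.card_SL (F := K) 3
  rw [hK'] at h h'
  norm_num [Fin.prod_univ_three] at h h'
  obtain ⟨e⟩ := SimplePSLApply.iso_seven (F := F)
    (G := Matrix.ProjectiveSpecialLinearGroup (Fin 3) K) (by linarith)
    (by rw [Nat.card_eq_fintype_card, hF])
  exact ⟨e.symm⟩

end Cfsg.Agent.S0255
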