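import Cfsg.Statements.S0259
import Cfsg.Agent.Lib.PSL2Sylow

set_option autoImplicit false
open Cfsg

namespace Cfsg.Agent.S0259

open scoped Pointwise

/-- Distinct Sylow p-subgroups of GL_2(q), p the characteristic, intersect trivially. -/
theorem result {F : Type*} [Field F] [Fintype F] (p : ℕ) [Fact p.Prime] [CharP F p] (P Q : Sylow p (Matrix.GeneralLinearGroup (Fin 2) F)) (h : P ≠ Q) : (P : Subgroup (Matrix.GeneralLinearGroup (Fin 2) F)) ⊓ (Q : Subgroup (Matrix.GeneralLinearGroup (Fin 2) F)) = ⊥ := by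
  rw [eq_bot_iff]
  intro a ha
  rw [Subgroup.mem_inf] at ha
  by_contra ha1
  obtain ⟨g, hg⟩ := PSL2Sylow.sylowGL_eq_conj p P
  obtain ⟨k, hk⟩ := PSL2Sylow.sylowGL_eq_conj p Q
  obtain ⟨haP, haQ⟩ := ha
  rw [hg, Subgroup.mem_pointwise_smul_iff_inv_smul_mem] at haP
  rw [hk, Subgroup.mem_pointwise_smul_iff_inv_smul_mem] at haQ
  obtain ⟨x, hx⟩ := PSL2Sylow.mem_uSubGL.1 haP
  obtain ⟨y, hy⟩ := PSL2Sylow.mem_uSubGL.1 haQ
  simp only [MulAut.smul_def, MulAut.inv_apply, MulAut.conj_symm_apply] at hx hy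
  have hx0 : x ≠ 0 := by
    rintro rfl
    rw [PSL2Elements.u_zero, map_one] at hx
    apply ha1
    rw [Subgroup.mem_bot]
    calc a = g * (g⁻¹ * a * g) * g⁻¹ := by group
      _ = 1 := by rw [hx]; group
  have hB : k⁻¹ * g ∈ PSL2Sylow.borelGL F := by
    refine PSL2Sylow.mem_borelGL_of_conj (y := y) hx0 ?_
    rw [← hx, ← hy]; group
  rw [← PSL2Sylow.normalizer_uSubGL] at hB
  apply h
  refine Sylow.ext ?_
  rw [hg, hk, show g = k * (k⁻¹ * g) by group, map_mul, mul_smul]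
  congr 1
  exact Subgroup.mem_normalizer_iff_map_conj_eq.1 hB

end Cfsg.Agent.S0259
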