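import Cfsg.Statements.S0260
import Cfsg.Agent.Lib.PSL2Sylow
import Cfsg.Agent.Lib.PSLSimple

set_option autoImplicit false
open Cfsg

namespace Cfsg.Agent.S0260

open Matrix
open PSL2Elements PSL2Sylow
open scoped Pointwise MatrixGroups

variable {F : Type*} [Field F]

theorem uSub_sup_conj {g : SL(2, F)} (hg : g ∉ borel F) :
    uSub F ⊔ MulAut.conj g • uSub F = ⊤ := by
  rw [mem_borel] at hg
  set H := uSub F ⊔ MulAut.conj g • uSub F with hH
  have hu : ∀ x, u x ∈ H := fun x => Subgroup.mem_sup_left (mem_uSub.2 ⟨x, rfl⟩)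
  have hlow : ∀ c : F, mk2 1 0 c 1 (by ring) ∈ H := by
    intro c
    -- move the second factor to the lower unitriangular group by an element of `U`
    let s := g.1 0 0 / g.1 1 0
    have hm : g * u (-c / g.1 1 0 ^ 2) * g⁻¹ ∈ H := Subgroup.mem_sup_right <| by
      rw [Subgroup.mem_pointwise_smul_iff_inv_smul_mem]
      simp only [MulAut.smul_def, MulAut.inv_apply, MulAut.conj_symm_apply]
      exact mem_uSub.2 ⟨-c / g.1 1 0 ^ 2, by group⟩
    have := H.mul_mem (H.mul_mem (hu (-s)) hm) (hu s)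
    convert this using 1
    have hd := det_eq g
    obtain ⟨e00, e01, e10, e11⟩ := inv_apply g
    apply ext2 <;> simp only [mul_apply2, e00, e01, e10, e11] <;> simp [u, mk2, s] <;>
      field_simp <;> grind
  refine PSLSimple.eq_top_of_transvection_mem _ fun i j hij c => ?_
  fin_cases i <;> fin_cases j
  · exact absurd rfl hij
  · convert hu c
    apply ext2 <;> simp [u, SpecialLinearGroup.transvection_coe]
  · convert hlow c
    apply ext2 <;> simp [mk2, SpecialLinearGroup.transvection_coe]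
  · exact absurd rfl hij


/-- Any two distinct Sylow p-subgroups of SL_2(q), p the characteristic, generate SL_2(q). -/
theorem result {F : Type*} [Field F] [Fintype F] (p : ℕ) [Fact p.Prime] [CharP F p] (P Q : Sylow p (Matrix.SpecialLinearGroup (Fin 2) F)) (h : P ≠ Q) : (P : Subgroup (Matrix.SpecialLinearGroup (Fin 2) F)) ⊔ (Q : Subgroup (Matrix.SpecialLinearGroup (Fin 2) F)) = ⊤ := by
  obtain ⟨g, hg⟩ := PSL2Sylow.sylow_eq_conj p P
  obtain ⟨k, hk⟩ := PSL2Sylow.sylow_eq_conj p Q
  have hne : g⁻¹ * k ∉ PSL2Sylow.borel F := by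
    intro hB
    rw [← PSL2Sylow.normalizer_uSub] at hB
    apply h
    refine Sylow.ext ?_
    rw [hg, hk, show k = g * (g⁻¹ * k) by group, map_mul, mul_smul]
    congr 1
    exact (Subgroup.mem_normalizer_iff_map_conj_eq.1 hB).symm
  have key := uSub_sup_conj hne
  have hcalc : MulAut.conj g • (PSL2Sylow.uSub F ⊔ MulAut.conj (g⁻¹ * k) • PSL2Sylow.uSub F) =
      (P : Subgroup (Matrix.SpecialLinearGroup (Fin 2) F)) ⊔ Q := by
    rw [Subgroup.smul_sup, ← mul_smul, ← map_mul, mul_inv_cancel_left, ← hg, ← hk]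
  rw [← hcalc, key, Subgroup.eq_top_iff']
  intro z
  rw [Subgroup.mem_pointwise_smul_iff_inv_smul_mem]
  trivial

end Cfsg.Agent.S0260
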