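import Cfsg.Statements.S0263
import Cfsg.Agent.Lib.PSL2Sylow

set_option autoImplicit false
open Cfsg

namespace Cfsg.Agent.S0263

/-- A Sylow p-subgroup of GL_n(q), p the characteristic, has order q^(n(n-1)/2). -/
theorem result {F : Type*} [Field F] [Fintype F] {q : ℕ} (hF : Fintype.card F = q) (p : ℕ) [Fact p.Prime] [CharP F p] (n : ℕ) (P : Sylow p (Matrix.GeneralLinearGroup (Fin n) F)) : Nat.card P = q ^ (n * (n - 1) / 2) := by
  subst hF
  obtain ⟨e, -, he⟩ := FiniteField.card F p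
  have he0 := e.pos
  rcases Nat.eq_zero_or_pos n with rfl | hn
  · have : Subsingleton (GL (Fin 0) F) := inferInstance
    simp
  have hfac : Nat.card (GL (Fin n) F) =
      p ^ (e * (n * (n - 1) / 2)) * ∏ i : Fin n, ((p ^ (e : ℕ)) ^ (n - i) - 1) := by
    rw [PSLCard.card_GL, Nat.card_eq_fintype_card, he, pow_mul,
      show n * (n - 1) / 2 = ∑ i : Fin n, (i : ℕ) by
        rw [Fin.sum_univ_eq_sum_range (fun i => i), Finset.sum_range_id],
      ← Finset.prod_pow_eq_pow_sum, ← Finset.prod_mul_distrib]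
    refine Finset.prod_congr rfl fun i _ => ?_
    rw [Nat.mul_sub, ← pow_add, mul_one, Nat.add_sub_cancel' i.2.le]
  rw [PSL2Sylow.sylow_card_eq hfac ?_ P, he, pow_mul]
  intro hd
  obtain ⟨i, -, hi⟩ := (Nat.Prime.prime Fact.out).exists_mem_finset_dvd hd
  exact PSL2Sylow.not_dvd_pow_sub_one Fact.out (by omega) he0 hi

end Cfsg.Agent.S0263
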