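import Cfsg.Statements.S0264
import Cfsg.Agent.Lib.PSLCard
import Cfsg.Agent.Lib.PSLSimple

set_option autoImplicit false
open Cfsg

namespace Cfsg.Agent.S0264

open Matrix
open scoped commutatorElement

theorem transvection_mem {F : Type*} [Field F] {a : F} (ha0 : a ≠ 0) (ha1 : a ≠ 1)
    {i j : Fin 2} (hij : i ≠ j) (c : F) :
    SpecialLinearGroup.toGL (SpecialLinearGroup.transvection hij c) ∈ commutator (GL (Fin 2) F) := by
  let d : Fin 2 → F := fun k => if k = i then a else 1
  have hd : IsUnit (diagonal d).det := by
    rw [det_diagonal, Fin.prod_univ_two]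
    fin_cases i <;> simp [d, ha0]
  let D : GL (Fin 2) F := GeneralLinearGroup.mk'' (diagonal d) hd
  have hD : (D : Matrix (Fin 2) (Fin 2) F) = diagonal d := rfl
  clear_value D
  let T : GL (Fin 2) F := SpecialLinearGroup.toGL (SpecialLinearGroup.transvection hij (c / (a - 1)))
  let S : GL (Fin 2) F := SpecialLinearGroup.toGL (SpecialLinearGroup.transvection hij c)
  have key : D * T = S * (T * D) := by
    have : a - 1 ≠ 0 := sub_ne_zero.2 ha1
    refine Units.ext ?_
    ext k l
    fin_cases i <;> fin_cases j <;> first | exact absurd rfl hij | skip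
    all_goals fin_cases k <;> fin_cases l <;>
      simp [hD, T, S, d, SpecialLinearGroup.transvection_coe,
        Matrix.mul_apply, Fin.sum_univ_two, Matrix.single_apply]
    all_goals field_simp
    all_goals ring
  have : S = ⁅D, T⁆ := by
    rw [commutatorElement_def, key]
    group
  change S ∈ _
  rw [this]
  exact Subgroup.commutator_mem_commutator trivial trivial


/-- GL_n(F)' = SL_n(F) (as the kernel of det), for every field F and every n, except n = 2 over the field of two elements. -/
theorem result {F : Type*} [Field F] (n : ℕ) (h : n = 2 → ∃ a : F, a ≠ 0 ∧ a ≠ 1) : commutator (Matrix.GeneralLinearGroup (Fin n) F) = (Matrix.GeneralLinearGroup.det : Matrix.GeneralLinearGroup (Fin n) F →* Fˣ).ker := by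
  rcases Nat.lt_or_ge n 2 with hn | hn
  · have : Subsingleton (Fin n) := Fin.subsingleton_iff_le_one.2 (by omega)
    have hc : ∀ a b : GL (Fin n) F, a * b = b * a := fun a b => Units.ext <| by
      ext i j
      obtain rfl := Subsingleton.elim i j
      simp [Matrix.mul_apply, Finset.sum_eq_single i (fun b _ hb => absurd (Subsingleton.elim b i) hb),
        mul_comm]
    have h1 : commutator (GL (Fin n) F) = ⊥ := by
      rw [commutator_eq_closure, Subgroup.closure_eq_bot_iff]
      rintro x ⟨a, b, rfl⟩
      exact commutatorElement_eq_one_iff_mul_comm.2 (hc a b)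
    rw [h1, eq_comm, Subgroup.eq_bot_iff_forall]
    intro A hA
    refine Units.ext ?_
    ext i j
    obtain rfl := Subsingleton.elim i j
    have hd : (A : Matrix (Fin n) (Fin n) F).det = 1 := by
      simpa [Units.ext_iff] using hA
    rw [det_eq_elem_of_subsingleton _ i] at hd
    simp [hd]
  · refine le_antisymm ?_ ?_
    · exact Abelianization.commutator_subset_ker _
    · have : Nontrivial (Fin n) := Fin.nontrivial_iff_two_le.2 hn
      rw [← PSLCard.range_toGL_eq_ker_det, MonoidHom.range_eq_map, Subgroup.map_le_iff_le_comap,
        top_le_iff]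
      refine PSLSimple.eq_top_of_transvection_mem _ fun i j hij c => ?_
      rw [Subgroup.mem_comap]
      rcases eq_or_lt_of_le hn with rfl | hlt
      · obtain ⟨a, ha0, ha1⟩ := h rfl
        exact transvection_mem ha0 ha1 hij c
      · have hc : SpecialLinearGroup.transvection hij c ∈
            commutator (SpecialLinearGroup (Fin n) F) := by
          rw [PSLSimple.commutator_SL_eq_top (by simp; omega)]; trivial
        have hle : (commutator (SpecialLinearGroup (Fin n) F)).map SpecialLinearGroup.toGL ≤
            commutator (GL (Fin n) F) := by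
          rw [map_commutator_eq]
          exact Subgroup.commutator_mono le_top le_top
        exact hle (Subgroup.mem_map_of_mem _ hc)

end Cfsg.Agent.S0264
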