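import Cfsg.Statements.S0266
import Mathlib
import Cfsg.Agent.Lib.PermMultiTrans

set_option autoImplicit false
open scoped MatrixGroups
open Cfsg

namespace Cfsg.Agent.S0266
open scoped LinearAlgebra.Projectivization

local notation "e₀" => Projectivization.mk _ ![1, 0] (fun h => one_ne_zero (congrFun h 0))
local notation "e₁" => Projectivization.mk _ ![0, 1] (fun h => one_ne_zero (congrFun h 1))
local notation "e₂" => Projectivization.mk _ ![1, 1] (fun h => one_ne_zero (congrFun h 0))


/-- PGL_2(F) is sharply 3-transitive on the projective line: it is 3-transitive and the stabiliser of three distinct points is trivial. -/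
theorem result {F : Type*} [Field F] : MulAction.IsMultiplyPretransitive (Matrix.ProjGenLinGroup (Fin 2) F) (Projectivization F (Fin 2 → F)) 3 ∧ ∀ (g : Matrix.ProjGenLinGroup (Fin 2) F) (a b c : Projectivization F (Fin 2 → F)), a ≠ b → a ≠ c → b ≠ c → g • a = a → g • b = b → g • c = c → g = 1 := by
  have key : ∀ a b c : ℙ F (Fin 2 → F), a ≠ b → a ≠ c → b ≠ c →
      ∃ g : GL (Fin 2) F, g • e₀ = a ∧ g • e₁ = b ∧ g • e₂ = c := by
    intro a b c
    induction a using Projectivization.ind with | _ va hva => ?_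
    induction b using Projectivization.ind with | _ vb hvb => ?_
    induction c using Projectivization.ind with | _ vc hvc => ?_
    intro hab hac hbc
    rw [Ne, Projectivization.mk_eq_mk_iff'] at hab hac hbc
    set D := va 0 * vb 1 - va 1 * vb 0 with hD
    have hD0 : D ≠ 0 := by
      intro h
      rw [hD] at h
      apply hab
      by_cases hb0 : vb 0 = 0
      · have hb1 : vb 1 ≠ 0 := fun h1 => hvb (funext fun i => by fin_cases i <;> simpa)
        refine ⟨va 1 / vb 1, funext fun i => ?_⟩
        fin_cases i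
        · simp [hb0, hb1] at h ⊢; exact h.symm
        · simp [hb1]
      · refine ⟨va 0 / vb 0, funext fun i => ?_⟩
        fin_cases i
        · simp [hb0]
        · simp; field_simp; linear_combination h
    set α := (vc 0 * vb 1 - vc 1 * vb 0) / D with hα
    set β := (va 0 * vc 1 - va 1 * vc 0) / D with hβ
    have hc : ∀ i, α * va i + β * vb i = vc i := by
      intro i; rw [hα, hβ]; fin_cases i <;> · simp; field_simp; rw [hD]; ring
    have hα0 : α ≠ 0 := fun h => by
      refine hbc ?_
      have hβ0 : β ≠ 0 := fun h' => hvc (funext fun i => by simp [← hc i, h, h'])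
      exact ⟨β⁻¹, funext fun i => by simp [← hc i, h, hβ0]⟩
    have hβ0 : β ≠ 0 := fun h => by
      refine hac ?_
      exact ⟨α⁻¹, funext fun i => by simp [← hc i, h, hα0]⟩
    let M : Matrix (Fin 2) (Fin 2) F := !![α * va 0, β * vb 0; α * va 1, β * vb 1]
    have hM : M.det ≠ 0 := by
      have : M.det = α * β * D := by simp [M, Matrix.det_fin_two_of, hD]; ring
      rw [this]; exact mul_ne_zero (mul_ne_zero hα0 hβ0) hD0
    refine ⟨Matrix.GeneralLinearGroup.mkOfDetNeZero M hM, ?_, ?_, ?_⟩
    all_goals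
      rw [Projectivization.smul_mk, Projectivization.mk_eq_mk_iff']
    · exact ⟨α, funext fun i => by
        fin_cases i <;> simp [Units.smul_def, Matrix.GeneralLinearGroup.mkOfDetNeZero, M, Matrix.vecHead, Matrix.vecTail]⟩
    · exact ⟨β, funext fun i => by
        fin_cases i <;> simp [Units.smul_def, Matrix.GeneralLinearGroup.mkOfDetNeZero, M, Matrix.vecHead, Matrix.vecTail]⟩
    · exact ⟨1, funext fun i => by
        fin_cases i <;> simp [Units.smul_def, Matrix.GeneralLinearGroup.mkOfDetNeZero, M, Matrix.vecHead, Matrix.vecTail, ← hc]⟩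
  have key0 : ∀ g : GL (Fin 2) F, g • e₀ = (e₀ : ℙ F (Fin 2 → F)) → g • e₁ = (e₁ : ℙ F (Fin 2 → F)) →
      g • e₂ = (e₂ : ℙ F (Fin 2 → F)) → g ∈ Subgroup.center (GL (Fin 2) F) := by
    intro g h0 h1 h2
    rw [Projectivization.smul_mk, Projectivization.mk_eq_mk_iff'] at h0 h1 h2
    obtain ⟨a, ha⟩ := h0
    obtain ⟨b, hb⟩ := h1
    obtain ⟨c, hc⟩ := h2
    have a0 := congrFun ha 0
    have a1 := congrFun ha 1
    have b0 := congrFun hb 0
    have b1 := congrFun hb 1
    have c0 := congrFun hc 0
    have c1 := congrFun hc 1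
    simp [Units.smul_def, Matrix.vecHead, Matrix.vecTail] at a0 a1 b0 b1 c0 c1
    rw [Matrix.GeneralLinearGroup.center_eq_range_scalar]
    have hc0 : c ≠ 0 := fun h => by
      have hd := g.det.ne_zero
      rw [Matrix.GeneralLinearGroup.val_det_apply, Matrix.det_fin_two] at hd
      apply hd
      linear_combination (g.1 1 1) * (h - c0 + b0) + (g.1 0 1) * a1
    refine ⟨Units.mk0 c hc0, Matrix.GeneralLinearGroup.ext fun i j => ?_⟩
    fin_cases i <;> fin_cases j <;> simp [Matrix.scalar_apply] <;>
      first | linear_combination a1 | linear_combination b0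
            | linear_combination c0 - b0 | linear_combination c1 - a1
  refine ⟨?_, ?_⟩
  · rw [PermMultiTrans.isMultiplyPretransitive_iff_fun]
    intro x y hx hy
    obtain ⟨g, g0, g1, g2⟩ := key _ _ _ (hx.ne (by decide : (0 : Fin 3) ≠ 1))
      (hx.ne (by decide : (0 : Fin 3) ≠ 2)) (hx.ne (by decide : (1 : Fin 3) ≠ 2))
    obtain ⟨h, h0, h1, h2⟩ := key _ _ _ (hy.ne (by decide : (0 : Fin 3) ≠ 1))
      (hy.ne (by decide : (0 : Fin 3) ≠ 2)) (hy.ne (by decide : (1 : Fin 3) ≠ 2))
    refine ⟨Matrix.ProjGenLinGroup.mk (h * g⁻¹), fun i => ?_⟩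
    show (h * g⁻¹) • x i = y i
    have hi : ∀ p, (h * g⁻¹) • (g • p) = h • (p : ℙ F (Fin 2 → F)) := fun p => by
      rw [mul_smul, inv_smul_smul]
    fin_cases i
    · exact (congrArg ((h * g⁻¹) • ·) g0.symm).trans ((hi _).trans h0)
    · exact (congrArg ((h * g⁻¹) • ·) g1.symm).trans ((hi _).trans h1)
    · exact (congrArg ((h * g⁻¹) • ·) g2.symm).trans ((hi _).trans h2)
  · intro g
    induction g using Matrix.ProjGenLinGroup.induction_on with | mk g => ?_
    intro a b c hab hac hbc ha hb hc
    replace ha : g • a = a := ha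
    replace hb : g • b = b := hb
    replace hc : g • c = c := hc
    obtain ⟨k, k0, k1, k2⟩ := key a b c hab hac hbc
    have hz : k⁻¹ * g * k ∈ Subgroup.center (GL (Fin 2) F) := by
      refine key0 _ ?_ ?_ ?_ <;> rw [mul_smul, mul_smul]
      · rw [k0, ha, ← k0, inv_smul_smul]
      · rw [k1, hb, ← k1, inv_smul_smul]
      · rw [k2, hc, ← k2, inv_smul_smul]
    have e : g = k⁻¹ * g * k := by
      have h := Subgroup.mem_center_iff.1 hz k
      calc g = k * (k⁻¹ * g * k) * k⁻¹ := by simp [mul_assoc]
      _ = _ := by rw [h, mul_inv_cancel_right]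
    rw [e]
    exact (QuotientGroup.eq_one_iff _).2 hz

end Cfsg.Agent.S0266
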