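import Cfsg.Statements.S0267
import Cfsg.Agent.Lib.PermMultiTrans
import Cfsg.Agent.S0266

set_option autoImplicit false
open Cfsg

namespace Cfsg.Agent.S0267

open scoped MatrixGroups

theorem smul_scaled {F : Type*} [Field F] (g : GL (Fin 2) F) (M : SL(2, F)) {c : F} (hc : c ≠ 0)
    (hM : (M : Matrix (Fin 2) (Fin 2) F) = c • (g : Matrix (Fin 2) (Fin 2) F))
    (a : Projectivization F (Fin 2 → F)) : M • a = g • a := by
  induction a using Projectivization.ind with | _ v hv => ?_
  rw [Projectivization.smul_mk, Projectivization.smul_mk, Projectivization.mk_eq_mk_iff']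
  refine ⟨c, funext fun i => ?_⟩
  fin_cases i <;>
    simp [Units.smul_def, Matrix.SpecialLinearGroup.smul_def, hM, Matrix.mulVec, dotProduct,
      Fin.sum_univ_two] <;> ring

/-- SL_2(q) is 3-transitive on the q+1 points of the projective line if and only if q is even. -/
theorem result {F : Type*} [Field F] [Fintype F] : MulAction.IsMultiplyPretransitive (Matrix.SpecialLinearGroup (Fin 2) F) (Projectivization F (Fin 2 → F)) 3 ↔ ringChar F = 2 := by
  constructor
  · intro h
    by_contra h2
    obtain ⟨ν, hν⟩ := FiniteField.exists_nonsquare h2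
    have hν0 : ν ≠ 0 := fun e => hν (e ▸ IsSquare.zero)
    let e0 : Projectivization F (Fin 2 → F) :=
      Projectivization.mk F ![1, 0] (fun h => one_ne_zero (congrFun h 0))
    let e1 : Projectivization F (Fin 2 → F) :=
      Projectivization.mk F ![0, 1] (fun h => one_ne_zero (congrFun h 1))
    let pt : F → Projectivization F (Fin 2 → F) := fun t =>
      Projectivization.mk F ![1, t] (fun h => one_ne_zero (congrFun h 0))
    have hinj : ∀ t : F, t ≠ 0 → Function.Injective ![e0, e1, pt t] := by
      intro t ht i j hij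
      fin_cases i <;> fin_cases j <;> first | rfl | (
        exfalso
        simp [e0, e1, pt, Projectivization.mk_eq_mk_iff', funext_iff, Fin.forall_fin_two, eq_comm] at hij
        try simp_all)
    obtain ⟨g, hg⟩ := (PermMultiTrans.isMultiplyPretransitive_iff_fun.1 h)
      ![e0, e1, pt 1] ![e0, e1, pt ν] (hinj 1 one_ne_zero) (hinj ν hν0)
    have h0 : g • e0 = e0 := hg 0
    have h1 : g • e1 = e1 := hg 1
    have h3 : g • pt 1 = pt ν := hg 2
    simp only [e0, e1, pt, Projectivization.smul_mk, Projectivization.mk_eq_mk_iff'] at h0 h1 h3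
    obtain ⟨a, ha⟩ := h0
    obtain ⟨b, hb⟩ := h1
    obtain ⟨c, hc⟩ := h3
    have a1 := congrFun ha 1
    have b0 := congrFun hb 0
    have c0 := congrFun hc 0
    have c1 := congrFun hc 1
    simp [Matrix.SpecialLinearGroup.smul_def, Matrix.mulVec, dotProduct, Fin.sum_univ_two] at a1 b0 c0 c1
    have hd := g.2
    rw [Matrix.det_fin_two] at hd
    have g10 : g.1 1 0 = 0 := by linear_combination -a1
    have g01 : g.1 0 1 = 0 := by linear_combination -b0
    simp [g10, g01] at c0 c1
    rw [g10, g01, ← c0, ← c1] at hd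
    refine hν ⟨ν * c, ?_⟩
    linear_combination -ν * hd
  · intro h2
    rw [PermMultiTrans.isMultiplyPretransitive_iff_fun]
    intro x y hx hy
    obtain ⟨g, hg⟩ := (PermMultiTrans.isMultiplyPretransitive_iff_fun.1
      (S0266.result (F := F)).1) x y hx hy
    induction g using Matrix.ProjGenLinGroup.induction_on with | mk g => ?_
    have hd : (g : Matrix (Fin 2) (Fin 2) F).det ≠ 0 := Matrix.GeneralLinearGroup.det_ne_zero g
    obtain ⟨c, hc⟩ := FiniteField.isSquare_of_char_two h2 (g : Matrix (Fin 2) (Fin 2) F).det⁻¹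
    have hc0 : c ≠ 0 := fun e => by
      rw [e, mul_zero] at hc
      exact inv_ne_zero hd hc
    refine ⟨⟨c • (g : Matrix (Fin 2) (Fin 2) F), ?_⟩, fun i => ?_⟩
    · rw [Matrix.det_smul, Fintype.card_fin, pow_two, ← hc, inv_mul_cancel₀ hd]
    · exact (smul_scaled g _ hc0 rfl (x i)).trans (hg i)

end Cfsg.Agent.S0267
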