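import Cfsg.Statements.S0268
import Mathlib


set_option autoImplicit false
open Cfsg

namespace Cfsg.Agent.S0268

/-- For q odd, -1 is the unique involution of SL_2(q). -/
theorem result {F : Type*} [Field F] [Fintype F] (hF : Odd (Fintype.card F)) (g : Matrix.SpecialLinearGroup (Fin 2) F) (h1 : g ≠ 1) (h2 : g * g = 1) : (g : Matrix (Fin 2) (Fin 2) F) = -1 := by
  have hg2 := h2
  clear h2
  have h2 : (2 : F) ≠ 0 := by
    refine Ring.two_ne_zero ?_
    intro h
    exact Nat.not_even_iff_odd.2 hF (Nat.even_iff.2 (FiniteField.even_card_of_char_two h))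
  have hinv : g⁻¹ = g := inv_eq_of_mul_eq_one_left hg2
  have e : (g : Matrix (Fin 2) (Fin 2) F).adjugate = g := congrArg Subtype.val hinv
  have e00 := congrFun (congrFun e 0) 0
  have e01 := congrFun (congrFun e 0) 1
  have e10 := congrFun (congrFun e 1) 0
  simp [Matrix.adjugate_fin_two] at e00 e01 e10
  have hb : (g : Matrix (Fin 2) (Fin 2) F) 0 1 = 0 :=
    mul_left_cancel₀ h2 (by linear_combination -e01)
  have hc : (g : Matrix (Fin 2) (Fin 2) F) 1 0 = 0 :=
    mul_left_cancel₀ h2 (by linear_combination -e10)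
  have hd := g.2
  rw [Matrix.det_fin_two, hb, hc, mul_zero, sub_zero, e00] at hd
  rcases mul_self_eq_one_iff.1 hd with h | h
  · exact absurd (Subtype.ext (Matrix.ext fun i j => by
      fin_cases i <;> fin_cases j <;> simp [hb, hc, h, e00])) h1
  · exact Matrix.ext fun i j => by
      fin_cases i <;> fin_cases j <;> simp [hb, hc, h, e00]

end Cfsg.Agent.S0268
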