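import Cfsg.Statements.S0272
import Cfsg.Agent.Lib.PSL2Sylow

set_option autoImplicit false
open Cfsg

namespace Cfsg.Agent.S0272

/-- The normaliser in GL_2(q) of a Sylow p-subgroup, p the characteristic, has order q (q-1)^2. -/
theorem result {F : Type*} [Field F] [Fintype F] {q : ℕ} (hF : Fintype.card F = q) (p : ℕ) [Fact p.Prime] [CharP F p] (P : Sylow p (Matrix.GeneralLinearGroup (Fin 2) F)) : Nat.card (Subgroup.normalizer ((P : Subgroup (Matrix.GeneralLinearGroup (Fin 2) F)) : Set (Matrix.GeneralLinearGroup (Fin 2) F))) = q * (q - 1) ^ 2 := by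
  subst hF
  have h := (Subgroup.normalizer ((P : Subgroup (GL (Fin 2) F)) : Set (GL (Fin 2) F))).card_mul_index
  have hn : (Subgroup.normalizer ((P : Subgroup (GL (Fin 2) F)) : Set (GL (Fin 2) F))).index =
      Nat.card F + 1 := by
    rw [← PSL2Sylow.card_sylow_GL (F := F) p]
    exact P.card_eq_index_normalizer.symm
  rw [hn, PSL2Sylow.card_GL2_eq, show Nat.card F ^ 2 - 1 = (Nat.card F + 1) * (Nat.card F - 1) by
    rw [← Nat.sq_sub_sq, one_pow]] at h
  rw [← Nat.card_eq_fintype_card]
  refine Nat.eq_of_mul_eq_mul_right (show 0 < Nat.card F + 1 by omega) (h.trans ?_)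
  ring

end Cfsg.Agent.S0272
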