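import Cfsg.Statements.S0273
import Cfsg.Agent.Lib.PSL2Sylow

set_option autoImplicit false
open Cfsg

namespace Cfsg.Agent.S0273

open Matrix
open scoped Pointwise MatrixGroups

variable {F : Type*} [Field F]

theorem mem_cent {x : F} (hx : x ≠ 0) (g : GL (Fin 2) F) :
    g ∈ Subgroup.centralizer ({SpecialLinearGroup.toGL (PSL2Elements.u x)} : Set (GL (Fin 2) F)) ↔
      (g : Matrix (Fin 2) (Fin 2) F) 1 0 = 0 ∧
        (g : Matrix (Fin 2) (Fin 2) F) 0 0 = (g : Matrix (Fin 2) (Fin 2) F) 1 1 := by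
  rw [Subgroup.mem_centralizer_singleton_iff, Units.ext_iff, ← Matrix.ext_iff]
  simp [Fin.forall_fin_two, PSL2Elements.u, Matrix.mul_apply, Fin.sum_univ_two]
  constructor
  · rintro ⟨⟨h1, h2⟩, h3⟩
    have h10 : (g : Matrix (Fin 2) (Fin 2) F) 1 0 = 0 := by
      simp_all
    refine ⟨h10, mul_right_cancel₀ hx ?_⟩
    linear_combination h2
  · rintro ⟨h10, h00⟩
    simp [h10, h00]
    ring

/-- Entries of the centraliser of a nontrivial unitriangular element. -/
noncomputable def centEquiv {x : F} (hx : x ≠ 0) :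
    Subgroup.centralizer ({SpecialLinearGroup.toGL (PSL2Elements.u x)} : Set (GL (Fin 2) F)) ≃
      Fˣ × F where
  toFun g := (Units.mk0 ((g.1 : Matrix (Fin 2) (Fin 2) F) 0 0) (by
      have h := (mem_cent hx g.1).1 g.2
      have := g.1.det_ne_zero
      rw [Matrix.det_fin_two, h.1, mul_zero, sub_zero] at this
      exact left_ne_zero_of_mul this), (g.1 : Matrix (Fin 2) (Fin 2) F) 0 1)
  invFun z := ⟨GeneralLinearGroup.mk'' !![(z.1 : F), z.2; 0, (z.1 : F)]
      (by rw [Matrix.det_fin_two_of]; simp),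
    (mem_cent hx _).2 (by simp [PSL2Sylow.coe_mk''])⟩
  left_inv g := by
    have h := (mem_cent hx g.1).1 g.2
    refine Subtype.ext (Units.ext ?_)
    ext i j
    fin_cases i <;> fin_cases j <;> simp [PSL2Sylow.coe_mk'', h.1, h.2]
  right_inv z := by
    refine Prod.ext (Units.ext ?_) ?_ <;> simp [PSL2Sylow.coe_mk'']


/-- In GL_2(q) the centraliser of a non-trivial element of a Sylow p-subgroup (p the characteristic) has order q (q-1): the Sylow subgroup times the scalars. -/
theorem result {F : Type*} [Field F] [Fintype F] {q : ℕ} (hF : Fintype.card F = q) (p : ℕ) [Fact p.Prime] [CharP F p] (P : Sylow p (Matrix.GeneralLinearGroup (Fin 2) F)) (a : Matrix.GeneralLinearGroup (Fin 2) F) (ha : a ∈ P) (ha1 : a ≠ 1) : Nat.card (Subgroup.centralizer ({a} : Set (Matrix.GeneralLinearGroup (Fin 2) F))) = q * (q - 1) := by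
  subst hF
  obtain ⟨g, hg⟩ := PSL2Sylow.sylowGL_eq_conj p P
  have haP : a ∈ (P : Subgroup (GL (Fin 2) F)) := ha
  rw [hg, Subgroup.mem_pointwise_smul_iff_inv_smul_mem] at haP
  obtain ⟨x, hx⟩ := PSL2Sylow.mem_uSubGL.1 haP
  simp only [MulAut.smul_def, MulAut.inv_apply, MulAut.conj_symm_apply] at hx
  have hax : a = g * SpecialLinearGroup.toGL (PSL2Elements.u x) * g⁻¹ := by
    rw [← hx]; group
  have hx0 : x ≠ 0 := by
    rintro rfl
    rw [PSL2Elements.u_zero, map_one, mul_one, mul_inv_cancel] at hax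
    exact ha1 hax
  rw [hax, PSL2Elements.centralizer_conj,
    Subgroup.card_map_of_injective (f := (MulAut.conj g).toMonoidHom) (MulAut.conj g).injective,
    Nat.card_congr (centEquiv hx0), Nat.card_prod, PSLCard.card_units_field,
    Nat.card_eq_fintype_card, mul_comm]

end Cfsg.Agent.S0273
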