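import Cfsg.Statements.S0275
import Mathlib
import Cfsg.Agent.Lib.SL2TwoUnipotent
import Cfsg.Agent.Lib.PSL2SylowTwo
import Cfsg.Agent.Lib.PGroupsCyclic

set_option autoImplicit false
open Cfsg

namespace Cfsg.Agent.S0275

/-- If p is odd and H is a subgroup of SL_2(q), q a power of p, with more than one Sylow p-subgroup, then the Sylow 2-subgroups of H are generalised quaternion. -/
theorem result {F : Type*} [Field F] [Fintype F] (p : ℕ) [Fact p.Prime] [CharP F p] (hp : p ≠ 2) (H : Subgroup (Matrix.SpecialLinearGroup (Fin 2) F)) (hH : 1 < Nat.card (Sylow p H)) (S : Sylow 2 H) : ∃ k : ℕ, 1 ≤ k ∧ Nonempty ((S : Subgroup H) ≃* QuaternionGroup (2 ^ k)) := by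
  obtain ⟨a, b, ha, hb, hap, hbp, hab⟩ := SL2TwoUnipotent.exists_noncomm_of_sylow H hH
  obtain ⟨K, hKH, ⟨e⟩⟩ := SL2TwoUnipotent.exists_le_equiv hp H ha hb hap hbp hab
  have : Fact (Nat.Prime 2) := ⟨Nat.prime_two⟩
  obtain ⟨T⟩ : Nonempty (Sylow 2 (Matrix.SpecialLinearGroup (Fin 2) (ZMod p))) := inferInstance
  obtain ⟨m, hm, ⟨f⟩⟩ := PSL2SylowTwo.sylow_two_quaternion
    (by rw [Nat.card_zmod]; exact (Fact.out : p.Prime).odd_of_ne_two hp) T
  let ι : Matrix.SpecialLinearGroup (Fin 2) (ZMod p) →* H :=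
    (Subgroup.inclusion hKH).comp e.symm.toMonoidHom
  have hι : Function.Injective ι := (Subgroup.inclusion_injective hKH).comp e.symm.injective
  let ef := (T : Subgroup (Matrix.SpecialLinearGroup (Fin 2) (ZMod p))).equivMapOfInjective ι hι
  obtain ⟨S', hS'⟩ := (T.isPGroup'.map ι).exists_le_sylow
  have hncyc : ¬ IsCyclic (S : Subgroup H) := by
    intro hc
    let es : (S' : Subgroup H) ≃* (S : Subgroup H) := S'.equiv S
    have : IsCyclic (S' : Subgroup H) := isCyclic_of_surjective es.symm es.symm.surjective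
    let g : QuaternionGroup (2 ^ m) →* (S' : Subgroup H) :=
      (Subgroup.inclusion hS').comp (ef.toMonoidHom.comp f.symm.toMonoidHom)
    have hg : Function.Injective g :=
      (Subgroup.inclusion_injective hS').comp (ef.injective.comp f.symm.injective)
    have hcomm : ∀ x y : QuaternionGroup (2 ^ m), x * y = y * x := fun x y => hg (by
      rw [map_mul, map_mul]; exact IsMulCommutative.is_comm.comm _ _)
    have h := hcomm (QuaternionGroup.a 1) (QuaternionGroup.xa 0)
    rw [QuaternionGroup.a_mul_xa, QuaternionGroup.xa_mul_a, QuaternionGroup.xa.injEq, zero_sub,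
      zero_add] at h
    have h2 : ((2 : ℕ) : ZMod (2 * 2 ^ m)) = 0 := by push_cast; linear_combination -h
    rw [ZMod.natCast_eq_zero_iff] at h2
    have := Nat.le_of_dvd (by norm_num) h2
    have : 2 ≤ 2 ^ m := Nat.le_self_pow (by omega) 2
    omega
  have huniq : ∀ A B : Subgroup (S : Subgroup H), Nat.card A = 2 → Nat.card B = 2 → A = B := by
    intro A B hA hB
    have key : ∀ x : (S : Subgroup H), orderOf x = 2 →
        ((x : H) : Matrix.SpecialLinearGroup (Fin 2) F) = -1 := by
      intro x hx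
      have hx2 : x * x = 1 := by
        have := pow_orderOf_eq_one x
        rwa [hx, pow_two] at this
      rcases QuadraticSL2.eq_of_sq_eq_one (QuadraticSL2.two_ne_zero' hp)
        (congrArg (fun t : (S : Subgroup H) => ((t : H) : Matrix.SpecialLinearGroup (Fin 2) F)) hx2)
        with h | h
      · exfalso
        have : x = 1 := Subtype.ext (Subtype.ext h)
        simp [this] at hx
      · exact h
    obtain ⟨⟨x, hxA⟩, hx⟩ := exists_prime_orderOf_dvd_card' (G := A) 2 (by rw [hA])
    obtain ⟨⟨y, hyB⟩, hy⟩ := exists_prime_orderOf_dvd_card' (G := B) 2 (by rw [hB])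
    rw [Subgroup.orderOf_mk] at hx hy
    have hxy : x = y := Subtype.ext (Subtype.ext ((key x hx).trans (key y hy).symm))
    rw [← Subgroup.eq_of_le_of_card_ge (Subgroup.zpowers_le.2 hxA)
        (by rw [Nat.card_zpowers, hx, hA]),
      ← Subgroup.eq_of_le_of_card_ge (Subgroup.zpowers_le.2 hyB)
        (by rw [Nat.card_zpowers, hy, hB]), hxy]
  rcases PGroupsCyclic.isCyclic_or_quaternion S.isPGroup' huniq with h | ⟨-, n, ⟨en⟩⟩
  · exact absurd h hncyc
  · refine ⟨n, Nat.one_le_iff_ne_zero.2 fun h0 => hncyc ?_, ⟨en⟩⟩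
    subst h0
    have : IsCyclic (QuaternionGroup (2 ^ 0)) := by rw [pow_zero]; exact QuaternionGroup.quaternionGroup_one_isCyclic
    exact isCyclic_of_surjective en.symm en.symm.surjective

end Cfsg.Agent.S0275
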