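import Cfsg.Statements.S0281
import Mathlib
import Cfsg.Agent.Lib.OrthUnitaryHerm
import Cfsg.Agent.Lib.PSLCard

set_option autoImplicit false
open Cfsg

namespace Cfsg.Agent.S0281

/-- SU_2(q) is isomorphic to SL_2(q). -/
theorem result {F K : Type*} [Field F] [Fintype F] [Field K] [Fintype K] {q : ℕ} (hF : Fintype.card F = q ^ 2) (hK : Fintype.card K = q) : Nonempty (Cfsg.SU 2 F q ≃* Matrix.SpecialLinearGroup (Fin 2) K) := by
  classical
  have hq := OrthUnitaryHerm.two_le_q hF
  -- the embedding of the field with `q` elements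
  obtain ⟨p, hp⟩ := CharP.exists K
  have : Fact p.Prime := ⟨CharP.char_is_prime K p⟩
  obtain ⟨k, -, hk⟩ := FiniteField.card K p
  have hFp : CharP F p := by
    obtain ⟨p', hp'⟩ := CharP.exists F
    obtain ⟨k', hp'', hk'⟩ := FiniteField.card F p'
    have hd : p' ∣ p := hp''.dvd_of_dvd_pow (n := 2 * k) (by
      rw [pow_mul', ← hk, hK, ← hF, hk']; exact dvd_pow_self _ k'.ne_zero)
    rw [(Nat.prime_dvd_prime_iff_eq hp'' Fact.out).1 hd] at hp'
    exact hp'
  let _ : Algebra (ZMod p) K := ZMod.algebra K p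
  let _ : Algebra (ZMod p) F := ZMod.algebra F p
  obtain ⟨ι⟩ : Nonempty (K →ₐ[ZMod p] F) := by
    refine FiniteField.nonempty_algHom_of_finrank_dvd ?_
    have h1 := Module.card_eq_pow_finrank (K := ZMod p) (V := K)
    have h2 := Module.card_eq_pow_finrank (K := ZMod p) (V := F)
    rw [ZMod.card] at h1 h2
    refine ⟨2, Nat.pow_right_injective (Fact.out : p.Prime).two_le ?_⟩
    show p ^ Module.finrank (ZMod p) F = p ^ (Module.finrank (ZMod p) K * 2)
    rw [← h2, pow_mul, ← h1, hF, hK]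
  have hfix : ∀ x : K, ι x ^ q = ι x := fun x => by rw [← map_pow, ← hK, FiniteField.pow_card]
  -- an isotropic pair
  obtain ⟨δ, hδ0, hδ⟩ := OrthUnitaryHerm.exists_skew (F := F) hF
  obtain ⟨a, ha⟩ := OrthUnitaryHerm.exists_norm_eq (F := F) hF (a := -1)
    (by rw [OrthUnitaryHerm.neg_pow_q hF, one_pow])
  obtain ⟨w, hw1, hw2⟩ := OrthUnitaryHerm.exists_normOne_sq_ne_one (F := F) hF
  have hw : (w : F) ^ (q + 1) = 1 := by rw [← Units.val_pow_eq_pow_val, hw1, Units.val_one]
  have hw' : (w : F) ≠ 1 := fun h => hw2 (by simp [Units.val_eq_one.1 h])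
  have ha0 : a ≠ 0 := fun h => by simp [h] at ha
  set b := a * (w : F) with hb
  have hbN : b ^ (q + 1) = -1 := by rw [hb, mul_pow, ha, hw, mul_one]
  have hne : 1 + a * b ^ q ≠ 0 := by
    intro h
    rw [pow_succ'] at hbN
    have : (b - a) * b ^ q = 0 := by linear_combination hbN - h
    rcases mul_eq_zero.1 this with h' | h'
    · refine hw' (mul_left_cancel₀ ha0 ?_)
      rw [mul_one]; linear_combination h'
    · rw [h', mul_zero] at hbN
      exact one_ne_zero (neg_eq_zero.1 hbN.symm)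
  set β := (δ / (1 + a * b ^ q)) ^ q with hβd
  have hβ : β ^ q = δ / (1 + a * b ^ q) := OrthUnitaryHerm.pow_q_q hF _
  have hδq : δ ^ q = -δ := by linear_combination hδ
  rw [pow_succ'] at ha hbN
  let P : Matrix (Fin 2) (Fin 2) F := !![1, β; a, β * b]
  have h11 : hermForm 2 F q ![1, a] ![1, a] = 0 := by
    simp [hermForm, Fin.sum_univ_two]; linear_combination ha
  have h22 : hermForm 2 F q ![β, β * b] ![β, β * b] = 0 := by
    simp [hermForm, Fin.sum_univ_two, mul_pow]
    linear_combination (β * β ^ q) * hbN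
  have h12 : hermForm 2 F q ![1, a] ![β, β * b] = δ := by
    simp [hermForm, Fin.sum_univ_two, mul_pow, hβ]
    field_simp
  have h21 : hermForm 2 F q ![β, β * b] ![1, a] = -δ := by
    rw [← hδq, ← h12, ← OrthUnitaryHerm.herm_conj hF]
  have hPv : ∀ v : Fin 2 → F, P.mulVec v = v 0 • ![1, a] + v 1 • ![β, β * b] := by
    intro v; funext i
    fin_cases i <;> simp [P, Matrix.mulVec, dotProduct, Fin.sum_univ_two, mul_comm]
  have hP : ∀ u v : Fin 2 → F, hermForm 2 F q (P.mulVec u) (P.mulVec v)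
      = δ * (u 0 * v 1 ^ q - u 1 * v 0 ^ q) := by
    intro u v
    simp only [hPv, OrthUnitaryHerm.herm_add_left, OrthUnitaryHerm.herm_add_right hF,
      OrthUnitaryHerm.herm_smul_left, OrthUnitaryHerm.herm_smul_right, h11, h22, h12, h21]
    ring
  have hβ0 : β ≠ 0 := fun h => by
    rw [h, zero_pow (by omega : q ≠ 0)] at hβ
    exact (div_ne_zero hδ0 hne) hβ.symm
  have hPdet : IsUnit P.det := by
    rw [isUnit_iff_ne_zero]
    simp only [P, Matrix.det_fin_two_of]
    intro h
    rcases mul_eq_zero.1 (show β * (a * ((w : F) - 1)) = 0 by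
      rw [hb] at h; linear_combination h) with h' | h'
    · exact hβ0 h'
    · rcases mul_eq_zero.1 h' with h'' | h''
      · exact ha0 h''
      · exact hw' (sub_eq_zero.1 h'')
  let T : Matrix.SpecialLinearGroup (Fin 2) K →* Matrix.SpecialLinearGroup (Fin 2) F :=
    Matrix.SpecialLinearGroup.map ι.toRingHom
  let mat : Matrix.SpecialLinearGroup (Fin 2) K → Matrix (Fin 2) (Fin 2) F :=
    fun g => P * (T g : Matrix (Fin 2) (Fin 2) F) * P⁻¹
  have hdet : ∀ g, (mat g).det = 1 := fun g => by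
    simp only [mat, Matrix.det_mul, Matrix.SpecialLinearGroup.det_coe, mul_one]
    rw [← Matrix.det_mul, Matrix.mul_nonsing_inv _ hPdet, Matrix.det_one]
  have hU : ∀ g, OrthUnitaryHerm.IsU q (mat g) := by
    intro g u v
    obtain ⟨u', rfl⟩ : ∃ u', P.mulVec u' = u :=
      ⟨P⁻¹.mulVec u, by rw [Matrix.mulVec_mulVec, Matrix.mul_nonsing_inv _ hPdet, Matrix.one_mulVec]⟩
    obtain ⟨v', rfl⟩ : ∃ v', P.mulVec v' = v :=
      ⟨P⁻¹.mulVec v, by rw [Matrix.mulVec_mulVec, Matrix.mul_nonsing_inv _ hPdet, Matrix.one_mulVec]⟩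
    simp only [mat, Matrix.mulVec_mulVec, Matrix.mul_assoc, Matrix.nonsing_inv_mul _ hPdet,
      Matrix.mul_one]
    rw [← Matrix.mulVec_mulVec, ← Matrix.mulVec_mulVec, hP, hP]
    have hd := (T g).2
    rw [Matrix.det_fin_two] at hd
    have he : ∀ i j, (T g : Matrix (Fin 2) (Fin 2) F) i j ^ q = (T g : Matrix (Fin 2) (Fin 2) F) i j :=
      fun i j => hfix _
    simp only [Matrix.mulVec, dotProduct, Fin.sum_univ_two, OrthUnitaryHerm.add_pow_q hF, mul_pow, he]
    linear_combination (δ * (u' 0 * v' 1 ^ q - u' 1 * v' 0 ^ q)) * hd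
  let φ : Matrix.SpecialLinearGroup (Fin 2) K →* Cfsg.SU 2 F q :=
    { toFun := fun g => OrthUnitaryHerm.mkSU (mat g) (hdet g) (hU g)
      map_one' := Subtype.ext (Subtype.ext (by
        simp [OrthUnitaryHerm.mkSU, mat, Matrix.mul_nonsing_inv _ hPdet]))
      map_mul' := fun g h => Subtype.ext (Subtype.ext (show mat (g * h) = mat g * mat h by
        simp [mat, Matrix.mul_assoc, Matrix.nonsing_inv_mul_cancel_left _ _ hPdet])) }
  have hinj : Function.Injective φ := by
    intro g h e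
    have e : mat g = mat h :=
      congrArg (fun x : Cfsg.SU 2 F q => ((x : Matrix.SpecialLinearGroup (Fin 2) F) :
        Matrix (Fin 2) (Fin 2) F)) e
    have e2 : (T g : Matrix (Fin 2) (Fin 2) F) = (T h : Matrix (Fin 2) (Fin 2) F) := by
      have h' := congrArg (fun M => P⁻¹ * M * P) e
      simpa [mat, Matrix.mul_assoc, Matrix.nonsing_inv_mul _ hPdet,
        Matrix.nonsing_inv_mul_cancel_left _ _ hPdet] using h'
    refine Subtype.ext (Matrix.ext fun i j => ι.toRingHom.injective ?_)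
    exact congrFun (congrFun e2 i) j
  refine ⟨(MulEquiv.ofBijective φ ((Nat.bijective_iff_injective_and_card φ).2 ⟨hinj, ?_⟩)).symm⟩
  have hc := OrthUnitaryHerm.card_GU_eq_mul_card_SU (F := F) (q := q) (n := 2) hF (by norm_num)
  rw [OrthUnitaryHerm.card_GU hF 2] at hc
  norm_num [Finset.prod_range_succ, Nat.even_iff] at hc
  rw [PSLCard.card_SL2, Nat.card_eq_fintype_card, hK]
  have : (q + 1) * (q * (q ^ 2 - 1)) = (q + 1) * Nat.card (Cfsg.SU 2 F q) := by
    simp only [Nat.card_eq_fintype_card] at *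
    linarith
  exact Nat.eq_of_mul_eq_mul_left (by omega) this

end Cfsg.Agent.S0281
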