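import Cfsg.Statements.S0304
import Cfsg.Agent.Lib.SymplecticBasic

set_option autoImplicit false
open Cfsg

namespace Cfsg.Agent.S0304

open Matrix Cfsg.Agent.SymplecticBasic

variable {F : Type*} [Field F] [Fintype F] [CharP F 2] {m : ℕ}

/-- The quadratic form on the non-radical part. -/
def q0 (x : Fin m ⊕ Fin m → F) : F := ∑ i, x (Sum.inl i) * x (Sum.inr i)

omit [Fintype F] [CharP F 2] in
theorem quad_elim (z : Unit → F) (x : Fin m ⊕ Fin m → F) :
    quadFormOdd m F (Sum.elim z x) = z () ^ 2 + q0 x := rfl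

omit [Fintype F] in
theorem q0_add (x y : Fin m ⊕ Fin m → F) :
    q0 (x + y) = q0 x + q0 y + sympForm m F x y := by
  simp only [q0, form_eq_sum, Pi.add_apply, CharTwo.sub_eq_add, ← Finset.sum_add_distrib]
  exact Finset.sum_congr rfl fun i _ => by ring

omit [Fintype F] [CharP F 2] in
theorem q0_smul (a : F) (x : Fin m ⊕ Fin m → F) : q0 (a • x) = a ^ 2 * q0 x := by
  simp only [q0, Pi.smul_apply, smul_eq_mul, Finset.mul_sum]
  exact Finset.sum_congr rfl fun i _ => by ring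

/-- The matrix of an isometry. -/
abbrev mat (g : isometryGroup F (quadFormOdd m F)) :
    Matrix (Unit ⊕ (Fin m ⊕ Fin m)) (Unit ⊕ (Fin m ⊕ Fin m)) F :=
  ((g : GL (Unit ⊕ (Fin m ⊕ Fin m)) F) : Matrix (Unit ⊕ (Fin m ⊕ Fin m)) (Unit ⊕ (Fin m ⊕ Fin m)) F)

theorem iso_blocks (g : isometryGroup F (quadFormOdd m F)) :
    (mat g).toBlocks₂₁ = 0 ∧
    (mat g).toBlocks₁₁ = 1 := by
  set M := (mat g) with hM
  have hQ : ∀ u, quadFormOdd m F (M *ᵥ u) = quadFormOdd m F u := fun u => g.2 u u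
  set e : Unit ⊕ (Fin m ⊕ Fin m) → F := Sum.elim 1 0 with he
  obtain ⟨z, x, hzx⟩ : ∃ z x, M *ᵥ e = Sum.elim z x :=
    ⟨(M *ᵥ e) ∘ Sum.inl, (M *ᵥ e) ∘ Sum.inr, (Sum.elim_comp_inl_inr _).symm⟩
  have key : ∀ y, sympForm m F x y = 0 := by
    intro y
    obtain ⟨u, hu⟩ : ∃ u, M *ᵥ u = Sum.elim (0 : Unit → F) y :=
      ⟨((g⁻¹ : isometryGroup F (quadFormOdd m F)) : GL (Unit ⊕ (Fin m ⊕ Fin m)) F).val *ᵥ Sum.elim (0 : Unit → F) y,
        by rw [Matrix.mulVec_mulVec, hM, ← Units.val_mul, ← Subgroup.coe_mul, mul_inv_cancel,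
          Subgroup.coe_one, Units.val_one, Matrix.one_mulVec]⟩
    obtain ⟨z', x', rfl⟩ : ∃ z' x', u = Sum.elim z' x' :=
      ⟨u ∘ Sum.inl, u ∘ Sum.inr, (Sum.elim_comp_inl_inr _).symm⟩
    have h1 := hQ (e + Sum.elim z' x')
    have h2 := hQ e
    have h3 := hQ (Sum.elim z' x')
    rw [Matrix.mulVec_add, hzx, hu, he] at h1
    rw [hzx, he] at h2
    rw [hu] at h3
    have hq00 : q0 (0 : Fin m ⊕ Fin m → F) = 0 := by simp [q0]
    simp only [← Sum.elim_add_add, quad_elim, q0_add, Pi.add_apply, Pi.zero_apply, add_zero,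
      zero_add, Pi.one_apply, CharTwo.add_sq, hq00, zero_pow two_ne_zero] at h1 h2 h3
    linear_combination h1 - h2 - h3
  have hx : x = 0 := form_nondeg key
  have hz : z () = 1 := by
    have h2 := hQ e
    rw [hzx, he, hx] at h2
    simp [quad_elim, q0] at h2
    exact CharTwo.sq_inj.mp (by rw [one_pow]; simpa using h2)
  have hcol : ∀ i, M i (Sum.inl ()) = Sum.elim z x i := by
    intro i
    rw [← hzx]
    simp [he, Matrix.mulVec, dotProduct, Fintype.sum_sum_type]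
  refine ⟨Matrix.ext fun i j => ?_, Matrix.ext fun i j => ?_⟩
  · simpa [Matrix.toBlocks₂₁, hx] using hcol (Sum.inr i)
  · simpa [Matrix.toBlocks₁₁, hz] using hcol (Sum.inl i)

omit [CharP F 2] [Fintype F] in
theorem blocks_apply (c : Matrix Unit (Fin m ⊕ Fin m) F) (A : Matrix (Fin m ⊕ Fin m) (Fin m ⊕ Fin m) F)
    (z : Unit → F) (x : Fin m ⊕ Fin m → F) :
    Matrix.fromBlocks 1 c 0 A *ᵥ Sum.elim z x = Sum.elim (z + c *ᵥ x) (A *ᵥ x) := by
  simp [Matrix.fromBlocks_mulVec]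

theorem iso_eq (g : isometryGroup F (quadFormOdd m F)) :
    (mat g) = Matrix.fromBlocks 1
      (mat g).toBlocks₁₂ 0
      (mat g).toBlocks₂₂ := by
  conv_lhs => rw [← Matrix.fromBlocks_toBlocks (mat g),
    (iso_blocks g).1, (iso_blocks g).2]

theorem iso_quad (g : isometryGroup F (quadFormOdd m F)) (x : Fin m ⊕ Fin m → F) :
    ((mat g).toBlocks₁₂ *ᵥ x) () ^ 2 +
      q0 ((mat g).toBlocks₂₂ *ᵥ x) = q0 x := by
  have h : quadFormOdd m F ((mat g) *ᵥ Sum.elim 0 x) =
      quadFormOdd m F (Sum.elim 0 x) := g.2 _ (Sum.elim 0 x)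
  rw [iso_eq g, blocks_apply, quad_elim, quad_elim] at h
  simpa using h

theorem iso_mem (g : isometryGroup F (quadFormOdd m F)) :
    (mat g).toBlocks₂₂ ∈ symplecticGroup (Fin m) F := by
  rw [mem_sp_iff_form]
  intro u v
  have h1 := iso_quad g (u + v)
  have h2 := iso_quad g u
  have h3 := iso_quad g v
  rw [Matrix.mulVec_add, Matrix.mulVec_add, q0_add, q0_add, Pi.add_apply, CharTwo.add_sq] at h1
  linear_combination h1 - h2 - h3

/-- Restriction to the non-radical part. -/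
def toSp : isometryGroup F (quadFormOdd m F) →* symplecticGroup (Fin m) F :=
  MonoidHom.mk' (fun g => ⟨_, iso_mem g⟩) fun g h => Subtype.ext (by
    have e : mat (g * h) = mat g * mat h := by simp [mat]
    show Matrix.toBlocks₂₂ _ = Matrix.toBlocks₂₂ _ * Matrix.toBlocks₂₂ _
    conv_lhs => rw [e, iso_eq g, iso_eq h, Matrix.fromBlocks_multiply, Matrix.toBlocks_fromBlocks₂₂]
    simp)

theorem toSp_injective : Function.Injective (toSp : isometryGroup F (quadFormOdd m F) → _) := by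
  rw [injective_iff_map_eq_one]
  intro g hg
  have hA : (mat g).toBlocks₂₂ = 1 :=
    congrArg Subtype.val hg
  have hc : (mat g).toBlocks₁₂ = 0 := by
    refine Matrix.ext fun i j => ?_
    have := iso_quad g (Pi.single j 1)
    rw [hA, Matrix.one_mulVec, add_eq_right] at this
    simpa [Matrix.mulVec_single_one] using pow_eq_zero_iff two_ne_zero |>.mp this
  refine Subtype.ext (Units.ext ?_)
  show mat g = 1
  rw [iso_eq g, hA, hc, Matrix.fromBlocks_one]

theorem toSp_surjective : Function.Surjective (toSp : isometryGroup F (quadFormOdd m F) → _) := by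
  rintro ⟨A, hA⟩
  let r : F → F := fun a => (frobeniusEquiv F 2).symm a
  have hr : ∀ a, r a ^ 2 = a := fun a => frobeniusEquiv_symm_pow_p F 2 a
  let D : (Fin m ⊕ Fin m → F) →+ F := AddMonoidHom.mk' (fun x => q0 x + q0 (A *ᵥ x)) fun x y => by
    show q0 (x + y) + q0 (A *ᵥ (x + y)) = q0 x + q0 (A *ᵥ x) + (q0 y + q0 (A *ᵥ y))
    rw [Matrix.mulVec_add, q0_add, q0_add, mem_sp_iff_form.mp hA]
    linear_combination CharTwo.add_self_eq_zero (sympForm m F x y)
  let c : Matrix Unit (Fin m ⊕ Fin m) F := Matrix.of fun _ j => r (D (Pi.single j 1))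
  have hc : ∀ x, (c *ᵥ x) () ^ 2 = q0 x + q0 (A *ᵥ x) := by
    intro x
    have h1 : D x = ∑ j, x j ^ 2 * D (Pi.single j 1) := by
      conv_lhs => rw [pi_eq_sum_univ' x, map_sum]
      refine Finset.sum_congr rfl fun j _ => ?_
      simp only [D, AddMonoidHom.mk'_apply, q0_smul, Matrix.mulVec_smul]
      ring
    change _ = D x
    rw [h1]
    simp only [c, Matrix.mulVec, dotProduct, Matrix.of_apply, CharTwo.sum_sq, mul_pow, hr]
    exact Finset.sum_congr rfl fun j _ => mul_comm _ _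
  have hdet : IsUnit (Matrix.fromBlocks (1 : Matrix Unit Unit F) c 0 A).det := by
    rw [Matrix.det_fromBlocks_zero₂₁, Matrix.det_one, one_mul, SymplecticGroup.det_eq_one hA]
    exact isUnit_one
  let U : GL (Unit ⊕ (Fin m ⊕ Fin m)) F := Matrix.GeneralLinearGroup.mk'' _ hdet
  have hU : U ∈ isometryGroup F (quadFormOdd m F) := by
    intro u _
    obtain ⟨z, x, rfl⟩ : ∃ z x, u = Sum.elim z x :=
      ⟨u ∘ Sum.inl, u ∘ Sum.inr, (Sum.elim_comp_inl_inr _).symm⟩
    show quadFormOdd m F (Matrix.fromBlocks 1 c 0 A *ᵥ Sum.elim z x) = _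
    beta_reduce
    rw [blocks_apply, quad_elim, quad_elim, Pi.add_apply, CharTwo.add_sq, hc]
    linear_combination CharTwo.add_self_eq_zero (q0 (A *ᵥ x))
  refine ⟨⟨U, hU⟩, Subtype.ext ?_⟩
  show (Matrix.fromBlocks (1 : Matrix Unit Unit F) c 0 A).toBlocks₂₂ = A
  exact Matrix.toBlocks_fromBlocks₂₂ _ _ _ _


/-- In characteristic 2, O_{2m+1}(q) is isomorphic to Sp_{2m}(q). -/
theorem result {F : Type*} [Field F] [Fintype F] [CharP F 2] (m : ℕ) : Nonempty (Cfsg.isometryGroup F (Cfsg.quadFormOdd m F) ≃* Matrix.symplecticGroup (Fin m) F) := by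
  exact ⟨MulEquiv.ofBijective toSp ⟨toSp_injective, toSp_surjective⟩⟩

end Cfsg.Agent.S0304
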