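import Cfsg.Statements.S0305
import Cfsg.Agent.Lib.OrthUnitaryForms
import Cfsg.Agent.Lib.TwoInvolutions
-- import your own Cfsg.Agent.* helpers here

set_option autoImplicit false
open Cfsg

namespace Cfsg.Agent.S0305

/-- The matrix of `(u, v) ↦ (c v, c⁻¹ u)`. -/
def swapMat {F : Type*} [Field F] (c : Fˣ) : Matrix (Fin 1 ⊕ Fin 1) (Fin 1 ⊕ Fin 1) F :=
  Matrix.of fun i j => match i, j with
    | .inl _, .inl _ => 0
    | .inl _, .inr _ => (c : F)
    | .inr _, .inl _ => ((c⁻¹ : Fˣ) : F)
    | .inr _, .inr _ => 0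

theorem swapMat_sq {F : Type*} [Field F] (c : Fˣ) : swapMat c * swapMat c = 1 := by
  ext i j
  rcases i with i | i <;> rcases j with j | j <;>
    simp [swapMat, Matrix.mul_apply, Matrix.one_apply, Subsingleton.elim i j]

theorem swapMat_mulVec {F : Type*} [Field F] (c : Fˣ) (v : Fin 1 ⊕ Fin 1 → F) :
    Cfsg.quadFormPlus 1 F (Matrix.mulVec (swapMat c) v) = Cfsg.quadFormPlus 1 F v := by
  simp [Cfsg.quadFormPlus, swapMat, Matrix.mulVec, dotProduct]
  field_simp

/-- GO^+_2(q) is dihedral of order 2(q-1). -/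
theorem result {F : Type*} [Field F] [Fintype F] {q : ℕ} (hF : Fintype.card F = q) : Nonempty (Cfsg.isometryGroup F (Cfsg.quadFormPlus 1 F) ≃* DihedralGroup (q - 1)) := by
  classical
  let R : Fˣ → Cfsg.isometryGroup F (Cfsg.quadFormPlus 1 F) := fun c =>
    ⟨⟨swapMat c, swapMat c, swapMat_sq c, swapMat_sq c⟩, fun u _ => swapMat_mulVec c u⟩
  have hcard : Nat.card (Cfsg.isometryGroup F (Cfsg.quadFormPlus 1 F)) = 2 * (q - 1) := by
    have := OrthUnitaryForms.card_isometryGroup_plus hF 0
    simpa using this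
  rcases eq_or_ne q 2 with rfl | hq
  · haveI : Fact (Nat.Prime 2) := ⟨Nat.prime_two⟩
    exact ⟨mulEquivOfPrimeCardEq (p := 2) (by simpa using hcard)
      (by rw [DihedralGroup.nat_card])⟩
  obtain ⟨c, hc⟩ := IsCyclic.exists_ofOrder_eq_natCard (α := Fˣ)
  rw [Nat.card_units, Nat.card_eq_fintype_card, hF] at hc
  have hq2 : 2 < q := by
    have := Fintype.one_lt_card (α := F)
    omega
  have hR : ∀ c, orderOf (R c) = 2 := fun c => by
    refine orderOf_eq_prime ?_ ?_
    · rw [pow_two]
      exact Subtype.ext (Units.ext (swapMat_sq c))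
    · intro h
      have h' : swapMat c = 1 := congrArg Units.val (congrArg Subtype.val h)
      have := congrFun (congrFun h' (Sum.inl 0)) (Sum.inl 0)
      simp [swapMat] at this
  let m : Cfsg.isometryGroup F (Cfsg.quadFormPlus 1 F) →*
      Matrix (Fin 1 ⊕ Fin 1) (Fin 1 ⊕ Fin 1) F :=
    (Units.coeHom _).comp (Subgroup.subtype _)
  have hm : Function.Injective m := fun g g' h => Subtype.ext (Units.ext h)
  have hmR : ∀ c, m (R c) = swapMat c := fun c => rfl
  have hpow : ∀ k : ℕ, m ((R c * R 1) ^ k) =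
      Matrix.diagonal (Sum.elim (fun _ => ((c ^ k : Fˣ) : F)) fun _ => (((c ^ k)⁻¹ : Fˣ) : F)) := by
    intro k
    induction k with
    | zero =>
      rw [pow_zero, map_one]
      ext i j
      rcases i with i | i <;> rcases j with j | j <;>
        simp [Matrix.diagonal, Matrix.one_apply, Subsingleton.elim i j]
    | succ k ih =>
      rw [pow_succ, map_mul, ih, map_mul, hmR, hmR]
      ext i j
      rw [Matrix.diagonal_mul]
      rcases i with i | i <;> rcases j with j | j <;>
        simp [swapMat, Matrix.mul_apply, Matrix.diagonal, Subsingleton.elim i j, pow_succ,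
          mul_comm]
  have hord : orderOf (R c * R 1) = q - 1 := by
    rw [← hc]
    refine orderOf_eq_orderOf_iff.2 fun k => ⟨fun h => ?_, fun h => ?_⟩
    · have := congrFun (congrFun (hpow k) (Sum.inl 0)) (Sum.inl 0)
      rw [h, map_one] at this
      exact Units.ext (by simpa using this.symm)
    · refine hm ?_
      rw [hpow k, h, map_one]
      ext i j
      rcases i with i | i <;> rcases j with j | j <;>
        simp [Matrix.diagonal, Matrix.one_apply, Subsingleton.elim i j]
  have hne : R c ≠ R 1 := by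
    intro h
    rw [h, ← pow_two, ← hR 1, pow_orderOf_eq_one, orderOf_one] at hord
    omega
  obtain ⟨e⟩ := TwoInvolutions.nonempty_mulEquiv_dihedral (hR c) (hR 1) hne
  have htop : Subgroup.closure ({R c, R 1} : Set _) = ⊤ := by
    apply Subgroup.eq_top_of_card_eq
    rw [Nat.card_congr e.toEquiv, DihedralGroup.nat_card, hord, hcard]
  exact ⟨((Subgroup.topEquiv.symm.trans (MulEquiv.subgroupCongr htop.symm)).trans e).trans
    (hord ▸ MulEquiv.refl _)⟩

end Cfsg.Agent.S0305
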