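import Cfsg.Statements.S0306
import Cfsg.Agent.Lib.OrthUnitaryForms
import Cfsg.Agent.Lib.TwoInvolutions
-- import your own Cfsg.Agent.* helpers here

set_option autoImplicit false
open Cfsg

namespace Cfsg.Agent.S0306

section
variable {F : Type*} [Field F]

/-- Multiplication by `z₁ + z₂ ω`. -/
def rotMat (a b x y : F) : Matrix (Fin 2) (Fin 2) F := !![x, -(b * y); y, x + a * y]

/-- The conjugation. -/
def conjMat (a : F) : Matrix (Fin 2) (Fin 2) F := !![1, a; 0, -1]

theorem rotMat_mul (a b x y u v : F) :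
    rotMat a b x y * rotMat a b u v =
      rotMat a b (x * u - b * y * v) (x * v + y * u + a * y * v) := by
  ext i j
  fin_cases i <;> fin_cases j <;> simp [rotMat, Matrix.mul_apply, Fin.sum_univ_two] <;> ring

theorem rotMat_eq_one {a b X Y : F} (hX : X = 1) (hY : Y = 0) : rotMat a b X Y = 1 := by
  subst hX hY
  ext i j
  fin_cases i <;> fin_cases j <;> simp [rotMat]

/-- The quadratic extension as a matrix ring. -/
def rotRing (a b : F) : Subring (Matrix (Fin 2) (Fin 2) F) where
  carrier := {M | ∃ x y, M = rotMat a b x y}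
  zero_mem' := ⟨0, 0, by ext i j; fin_cases i <;> fin_cases j <;> simp [rotMat]⟩
  one_mem' := ⟨1, 0, by ext i j; fin_cases i <;> fin_cases j <;> simp [rotMat]⟩
  add_mem' := by
    rintro _ _ ⟨x, y, rfl⟩ ⟨u, v, rfl⟩
    exact ⟨x + u, y + v, by ext i j; fin_cases i <;> fin_cases j <;> simp [rotMat] <;> ring⟩
  neg_mem' := by
    rintro _ ⟨x, y, rfl⟩
    exact ⟨-x, -y, by ext i j; fin_cases i <;> fin_cases j <;> simp [rotMat] <;> ring⟩
  mul_mem' := by
    rintro _ _ ⟨x, y, rfl⟩ ⟨u, v, rfl⟩
    exact ⟨_, _, rotMat_mul a b x y u v⟩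

instance rotCommRing (a b : F) : CommRing (rotRing a b) :=
  { (inferInstance : Ring (rotRing a b)) with
    mul_comm := by
      rintro ⟨_, x, y, rfl⟩ ⟨_, u, v, rfl⟩
      refine Subtype.ext ?_
      show rotMat a b x y * rotMat a b u v = rotMat a b u v * rotMat a b x y
      rw [rotMat_mul, rotMat_mul]
      congr 1 <;> ring }

theorem rot_isDomain {a b : F}
    (hab : ∀ z₁ z₂ : F, z₁ ^ 2 + a * z₁ * z₂ + b * z₂ ^ 2 = 0 → z₁ = 0 ∧ z₂ = 0) :
    IsDomain (rotRing a b) := by
  have key : ∀ M : rotRing a b, M ≠ 0 → Matrix.det (M : Matrix (Fin 2) (Fin 2) F) ≠ 0 := by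
    rintro ⟨_, x, y, rfl⟩ hM h
    have : x ^ 2 + a * x * y + b * y ^ 2 = 0 := by
      rw [← h]
      simp [rotMat, Matrix.det_fin_two]
      ring
    obtain ⟨rfl, rfl⟩ := hab x y this
    exact hM (Subtype.ext (by ext i j; fin_cases i <;> fin_cases j <;> simp [rotMat]))
  haveI : Nontrivial (rotRing a b) :=
    ⟨⟨0, 1, fun h => zero_ne_one (congrArg (fun M : rotRing a b => (M : Matrix (Fin 2) (Fin 2) F) 0 0) h)⟩⟩
  haveI : NoZeroDivisors (rotRing a b) := ⟨fun {M N} h => by
    by_contra hc
    push Not at hc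
    have := congrArg (fun M : rotRing a b => Matrix.det (M : Matrix (Fin 2) (Fin 2) F)) h
    simp only [Subring.coe_mul, Matrix.det_mul, Subring.coe_zero, Matrix.det_zero] at this
    exact mul_ne_zero (key M hc.1) (key N hc.2) this⟩
  exact NoZeroDivisors.to_isDomain _

/-- The coordinates on `Unit`-free index type. -/
def ι0 : Fin 2 ≃ (Fin 0 ⊕ Fin 0) ⊕ Fin 2 :=
  (Equiv.emptySum (Fin 0 ⊕ Fin 0) (Fin 2)).symm

theorem quad_reindex (a b : F) (M : Matrix (Fin 2) (Fin 2) F) (w : (Fin 0 ⊕ Fin 0) ⊕ Fin 2 → F) :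
    Cfsg.quadFormMinus 0 F a b (Matrix.mulVec (Matrix.reindexAlgEquiv F F ι0 M) w) =
      (M 0 0 * w (.inr 0) + M 0 1 * w (.inr 1)) ^ 2
        + a * (M 0 0 * w (.inr 0) + M 0 1 * w (.inr 1)) *
          (M 1 0 * w (.inr 0) + M 1 1 * w (.inr 1))
        + b * (M 1 0 * w (.inr 0) + M 1 1 * w (.inr 1)) ^ 2 := by
  simp [Cfsg.quadFormMinus, Matrix.mulVec, dotProduct, ι0, Fintype.sum_sum_type, Fin.sum_univ_two]

end

/-- GO^-_2(q) is dihedral of order 2(q+1). -/
theorem result {F : Type*} [Field F] [Fintype F] {q : ℕ} (hF : Fintype.card F = q) (a b : F) (hab : ∀ z₁ z₂ : F, z₁ ^ 2 + a * z₁ * z₂ + b * z₂ ^ 2 = 0 → z₁ = 0 ∧ z₂ = 0) : Nonempty (Cfsg.isometryGroup F (Cfsg.quadFormMinus 0 F a b) ≃* DihedralGroup (q + 1)) := by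
  classical
  set G := Cfsg.isometryGroup F (Cfsg.quadFormMinus 0 F a b)
  have hcard : Nat.card G = 2 * (q + 1) := by
    have := OrthUnitaryForms.card_isometryGroup_minus hF hab 0
    simpa using this
  let ρ : Matrix (Fin 2) (Fin 2) F ≃ₐ[F] Matrix ((Fin 0 ⊕ Fin 0) ⊕ Fin 2) ((Fin 0 ⊕ Fin 0) ⊕ Fin 2) F :=
    Matrix.reindexAlgEquiv F F ι0
  let m : G →* Matrix (Fin 2) (Fin 2) F :=
    (ρ.symm.toMonoidHom).comp ((Units.coeHom _).comp G.subtype)
  have hm : Function.Injective m := fun g g' h =>
    Subtype.ext (Units.ext (ρ.symm.injective h))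
  have mk : ∀ M N : Matrix (Fin 2) (Fin 2) F, M * N = 1 → N * M = 1 →
      (∀ u v : F, (M 0 0 * u + M 0 1 * v) ^ 2
        + a * (M 0 0 * u + M 0 1 * v) * (M 1 0 * u + M 1 1 * v)
        + b * (M 1 0 * u + M 1 1 * v) ^ 2 = u ^ 2 + a * u * v + b * v ^ 2) →
      ∃ g : G, m g = M := by
    intro M N h1 h2 hQ
    refine ⟨⟨⟨ρ M, ρ N, by rw [← map_mul, h1, map_one], by rw [← map_mul, h2, map_one]⟩,
      fun w _ => ?_⟩, ρ.symm_apply_apply M⟩
    show Cfsg.quadFormMinus 0 F a b (Matrix.mulVec (ρ M) w) = _
    rw [quad_reindex, hQ]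
    simp [Cfsg.quadFormMinus]
  have hmQ : ∀ g : G, ∀ u v : F, (m g 0 0 * u + m g 0 1 * v) ^ 2
      + a * (m g 0 0 * u + m g 0 1 * v) * (m g 1 0 * u + m g 1 1 * v)
      + b * (m g 1 0 * u + m g 1 1 * v) ^ 2 = u ^ 2 + a * u * v + b * v ^ 2 := by
    intro g u v
    have h := g.2 (fun i => Sum.elim (fun _ => 0) ![u, v] i) 0
    have e : ((g : Matrix.GeneralLinearGroup ((Fin 0 ⊕ Fin 0) ⊕ Fin 2) F) :
        Matrix ((Fin 0 ⊕ Fin 0) ⊕ Fin 2) ((Fin 0 ⊕ Fin 0) ⊕ Fin 2) F) = ρ (m g) :=
      (ρ.apply_symm_apply _).symm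
    change Cfsg.quadFormMinus 0 F a b (Matrix.mulVec
      ((g : Matrix.GeneralLinearGroup ((Fin 0 ⊕ Fin 0) ⊕ Fin 2) F) :
        Matrix ((Fin 0 ⊕ Fin 0) ⊕ Fin 2) ((Fin 0 ⊕ Fin 0) ⊕ Fin 2) F) _) = _ at h
    rw [e, quad_reindex] at h
    simpa [Cfsg.quadFormMinus] using h
  obtain ⟨C, hC⟩ := mk (conjMat a) (conjMat a)
    (by ext i j; fin_cases i <;> fin_cases j <;> simp [conjMat, Matrix.mul_apply, Fin.sum_univ_two])
    (by ext i j; fin_cases i <;> fin_cases j <;> simp [conjMat, Matrix.mul_apply, Fin.sum_univ_two])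
    (fun u v => by simp [conjMat]; ring)
  haveI := rot_isDomain hab
  let T : Subgroup G :=
    { carrier := {g | m g ∈ rotRing a b}
      one_mem' := by
        show m 1 ∈ rotRing a b
        rw [map_one]
        exact one_mem _
      mul_mem' := fun {g g'} hg hg' => by
        show m (g * g') ∈ rotRing a b
        rw [map_mul]
        exact mul_mem hg hg'
      inv_mem' := fun {g} hg => by
        have hpos := orderOf_pos g
        have : g⁻¹ = g ^ (orderOf g - 1) := inv_eq_of_mul_eq_one_left (by
          rw [← pow_succ, Nat.sub_add_cancel hpos, pow_orderOf_eq_one])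
        show m g⁻¹ ∈ rotRing a b
        rw [this, map_pow]
        exact pow_mem hg _ }
  haveI : Finite G := inferInstance
  have hcyc : IsCyclic T := by
    let f : T →* rotRing a b :=
      { toFun := fun g => ⟨m (g : G), g.2⟩
        map_one' := Subtype.ext (map_one m)
        map_mul' := fun g g' => Subtype.ext (map_mul m (g : G) (g' : G)) }
    exact isCyclic_of_injective_ringHom f fun g g' h =>
      Subtype.ext (hm (congrArg Subtype.val h))
  have hconj : ∀ x y : F,
      conjMat a * rotMat a b x y * conjMat a = rotMat a b (x + a * y) (-y) := by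
    intro x y
    ext i j
    fin_cases i <;> fin_cases j <;>
      simp [conjMat, rotMat, Matrix.mul_apply, Fin.sum_univ_two] <;> ring
  -- the rotations have index two
  have hCT : C ∉ T := by
    rintro ⟨x, y, h⟩
    rw [hC] at h
    have h00 := congrFun (congrFun h 0) 0
    have h10 := congrFun (congrFun h 1) 0
    have h11 := congrFun (congrFun h 1) 1
    have h01 := congrFun (congrFun h 0) 1
    simp [conjMat, rotMat] at h00 h10 h11 h01
    subst h10
    simp only [mul_zero, add_zero] at h11
    simp only [mul_zero, neg_zero] at h01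
    subst h00
    obtain ⟨r, hr⟩ : ∃ r, r ^ 2 = -b := by
      have : CharP F 2 := by
        refine CharTwo.of_one_ne_zero_of_two_eq_zero one_ne_zero ?_
        linear_combination -h11
      haveI : Fact (Nat.Prime 2) := ⟨Nat.prime_two⟩
      obtain ⟨r, hr⟩ := (PerfectRing.bijective_frobenius (R := F) (p := 2)).2 (-b)
      exact ⟨r, by simpa [frobenius_def] using hr⟩
    exact one_ne_zero (hab r 1 (by rw [h01, hr]; ring)).2
  have hTcard : Nat.card T = q + 1 := by
    -- the column map has fibres of size at most two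
    let S := {p : F × F // p.1 ^ 2 + a * p.1 * p.2 + b * p.2 ^ 2 = 1}
    have hS : Nat.card G ≤ Nat.card S * 2 := by
      let f : G → S := fun g => ⟨(m g 0 0, m g 1 0), by simpa using hmQ g 1 0⟩
      haveI := Fintype.ofFinite G
      haveI := Fintype.ofFinite S
      rw [Nat.card_eq_fintype_card, Nat.card_eq_fintype_card, ← Finset.card_univ,
        ← Finset.card_univ (α := S), mul_comm]
      refine (Finset.card_le_mul_card_image Finset.univ 2 fun z hz => ?_).trans
        (Nat.mul_le_mul_left 2 (Finset.card_le_univ (Finset.univ.image f)))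
      obtain ⟨g0, -, rfl⟩ := Finset.mem_image.1 hz
      let Y : Finset (F × F) :=
        if (2 : F) = 0 then {(0, 1), (-a, 1)} else {(0, 1), (a, -1)}
      have hY : Y.card ≤ 2 := by
        simp only [Y]
        split_ifs <;> exact Finset.card_le_two
      refine le_trans ?_ hY
      refine Finset.card_le_card_of_injOn (fun g => (m (g0⁻¹ * g) 0 1, m (g0⁻¹ * g) 1 1)) ?_ ?_
      · intro g hg
        simp only [Finset.coe_filter, Finset.mem_univ, true_and, Set.mem_setOf_eq] at hg
        have hz := congrArg Subtype.val hg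
        simp only [f, Prod.mk.injEq] at hz
        have hcol : m (g0⁻¹ * g) 0 0 = 1 ∧ m (g0⁻¹ * g) 1 0 = 0 := by
          have e : m g0⁻¹ * m g0 = 1 := by rw [← map_mul, inv_mul_cancel, map_one]
          rw [map_mul]
          simp only [Matrix.mul_apply, Fin.sum_univ_two, hz.1, hz.2]
          constructor
          · simpa [Matrix.mul_apply, Fin.sum_univ_two] using congrFun (congrFun e 0) 0
          · simpa [Matrix.mul_apply, Fin.sum_univ_two] using congrFun (congrFun e 1) 0
        have e1 := hmQ (g0⁻¹ * g) 0 1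
        have e2 := hmQ (g0⁻¹ * g) 1 1
        rw [hcol.1, hcol.2] at e1 e2
        show (m (g0⁻¹ * g) 0 1, m (g0⁻¹ * g) 1 1) ∈ (Y : Set (F × F))
        generalize m (g0⁻¹ * g) 0 1 = x at e1 e2 ⊢
        generalize m (g0⁻¹ * g) 1 1 = y at e1 e2 ⊢
        simp only [mul_zero, zero_add, mul_one, one_pow, add_zero, one_mul] at e1 e2
        have hlin : 2 * x + a * y = a := by linear_combination e2 - e1
        simp only [Finset.mem_coe, Y]
        split_ifs with h2
        · have ha : a ≠ 0 := by
            intro ha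
            obtain ⟨r, hr⟩ : ∃ r, r ^ 2 = -b := by
              have : CharP F 2 := CharTwo.of_one_ne_zero_of_two_eq_zero one_ne_zero h2
              haveI : Fact (Nat.Prime 2) := ⟨Nat.prime_two⟩
              obtain ⟨r, hr⟩ := (PerfectRing.bijective_frobenius (R := F) (p := 2)).2 (-b)
              exact ⟨r, by simpa [frobenius_def] using hr⟩
            exact one_ne_zero (hab r 1 (by rw [ha, hr]; ring)).2
          have hy : y = 1 := mul_left_cancel₀ ha (by linear_combination hlin - x * h2)
          rw [hy] at e1 ⊢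
          have : x * (x + a) = 0 := by linear_combination e1
          rcases mul_eq_zero.1 this with hx | hx
          · simp [hx]
          · simp [eq_neg_of_add_eq_zero_left hx]
        · have hD : a ^ 2 - 4 * b ≠ 0 := by
            intro hD
            have := (hab (-a) 2 (by linear_combination -hD)).2
            exact h2 this
          have hy : (a ^ 2 - 4 * b) * ((y - 1) * (y + 1)) = 0 := by
            linear_combination (2 * x + a * y + a) * hlin - 4 * e1
          rcases mul_eq_zero.1 ((mul_eq_zero.1 hy).resolve_left hD) with hy | hy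
          · have hy' : y = 1 := sub_eq_zero.1 hy
            have hx : x = 0 := by
              rw [hy'] at hlin
              exact (mul_eq_zero.1 (by linear_combination hlin : (2 : F) * x = 0)).resolve_left h2
            simp [hx, hy']
          · have hy' : y = -1 := eq_neg_of_add_eq_zero_left hy
            have hx : x = a := by
              rw [hy'] at hlin
              exact mul_left_cancel₀ h2 (by linear_combination hlin)
            simp [hx, hy']
      · intro g hg g' hg' e
        simp only [Finset.coe_filter, Finset.mem_univ, true_and, Set.mem_setOf_eq] at hg hg'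
        simp only [Prod.mk.injEq] at e
        have e' : m (g0⁻¹ * g) = m (g0⁻¹ * g') := by
          have h1 := congrArg Subtype.val hg
          have h2 := congrArg Subtype.val hg'
          simp only [f, Prod.mk.injEq] at h1 h2
          ext i j
          fin_cases j
          · rw [map_mul, map_mul]
            simp [Matrix.mul_apply, Fin.sum_univ_two, h1.1, h1.2, h2.1, h2.2]
          · fin_cases i
            · exact e.1
            · exact e.2
        exact mul_left_cancel (hm e')
    have hST : Nat.card S ≤ Nat.card T := by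
      choose g hg using fun p : S => mk (rotMat a b p.1.1 p.1.2) (rotMat a b (p.1.1 + a * p.1.2) (-p.1.2))
        (by
          rw [rotMat_mul]
          exact rotMat_eq_one (by linear_combination p.2) (by ring))
        (by
          rw [rotMat_mul]
          exact rotMat_eq_one (by linear_combination p.2) (by ring))
        (fun u v => by
          simp [rotMat]
          linear_combination (u ^ 2 + a * u * v + b * v ^ 2) * p.2)
      refine Nat.card_le_card_of_injective (fun p : S => (⟨g p, _, _, hg p⟩ : T)) fun p p' h => ?_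
      have h' : rotMat a b p.1.1 p.1.2 = rotMat a b p'.1.1 p'.1.2 := by
        rw [← hg p, ← hg p']
        exact congrArg m (congrArg Subtype.val h)
      exact Subtype.ext (Prod.ext (by simpa [rotMat] using congrFun (congrFun h' 0) 0)
        (by simpa [rotMat] using congrFun (congrFun h' 1) 0))
    have hlt : 2 * Nat.card T ≤ Nat.card G := by
      have h0 : T.index ≠ 0 := Subgroup.index_ne_zero_of_finite
      have h1 : T.index ≠ 1 := fun h => hCT (Subgroup.index_eq_one.1 h ▸ Subgroup.mem_top C)
      rw [← Subgroup.card_mul_index T, mul_comm]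
      exact Nat.mul_le_mul_left _ (by omega)
    omega
  obtain ⟨⟨g, hg⟩, hgord⟩ := hcyc.exists_ofOrder_eq_natCard
  rw [Subgroup.orderOf_mk, hTcard] at hgord
  have hC2 : C * C = 1 := hm (by
    rw [map_mul, map_one, hC]
    ext i j
    fin_cases i <;> fin_cases j <;> simp [conjMat, Matrix.mul_apply, Fin.sum_univ_two])
  have hCg : (C * g) * (C * g) = 1 := by
    apply hm
    obtain ⟨x, y, e⟩ := hg
    have hQ := hmQ g 1 0
    rw [e] at hQ
    simp [rotMat] at hQ
    rw [map_mul, map_mul, map_one, hC, e]
    calc conjMat a * rotMat a b x y * (conjMat a * rotMat a b x y)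
        = conjMat a * rotMat a b x y * conjMat a * rotMat a b x y := by simp [Matrix.mul_assoc]
      _ = 1 := by
          rw [hconj, rotMat_mul]
          exact rotMat_eq_one (by linear_combination hQ) (by ring)
  haveI : Fact (Nat.Prime 2) := ⟨Nat.prime_two⟩
  have hx : orderOf C = 2 := orderOf_eq_prime (by rw [pow_two]; exact hC2)
    fun h => hCT (h ▸ T.one_mem)
  have hy : orderOf (C * g) = 2 := orderOf_eq_prime (by rw [pow_two]; exact hCg) fun h => hCT (by
    rw [show C = g⁻¹ from mul_eq_one_iff_eq_inv.1 h]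
    exact T.inv_mem hg)
  have hprod : orderOf (C * (C * g)) = q + 1 := by rw [← mul_assoc, hC2, one_mul, hgord]
  have hne : C ≠ C * g := fun h => by
    rw [left_eq_mul.1 h, orderOf_one] at hgord
    have := Fintype.one_lt_card (α := F)
    omega
  obtain ⟨e⟩ := TwoInvolutions.nonempty_mulEquiv_dihedral hx hy hne
  have htop : Subgroup.closure ({C, C * g} : Set G) = ⊤ := by
    apply Subgroup.eq_top_of_card_eq
    rw [Nat.card_congr e.toEquiv, DihedralGroup.nat_card, hprod, hcard]
  exact ⟨((Subgroup.topEquiv.symm.trans (MulEquiv.subgroupCongr htop.symm)).trans e).trans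
    (hprod ▸ MulEquiv.refl _)⟩

end Cfsg.Agent.S0306
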