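import Cfsg.Statements.S0307
import Cfsg.Agent.Lib.PSLCard

set_option autoImplicit false
open Cfsg

namespace Cfsg.Agent.S0307

open Matrix

/-- PSL_n(q) is normal in PGL_n(q) with cyclic quotient of order gcd(n, q-1): the image of the natural map PSL_n → PGL_n is the kernel of a surjective homomorphism onto the cyclic group of that order. -/
theorem result {F : Type*} [Field F] [Fintype F] {q : ℕ} (hF : Fintype.card F = q) (n : ℕ) (hn : 1 ≤ n) : ∃ g : Matrix.ProjGenLinGroup (Fin n) F →* Multiplicative (ZMod (Nat.gcd n (q - 1))), Function.Surjective g ∧ g.ker = (Matrix.ProjectiveSpecialLinearGroup.toPGL : Matrix.ProjectiveSpecialLinearGroup (Fin n) F →* Matrix.ProjGenLinGroup (Fin n) F).range := by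
  subst hF
  have : NeZero n := ⟨by omega⟩
  have : Nonempty (Fin n) := ⟨0⟩
  let π : Fˣ →* Fˣ ⧸ (powMonoidHom n : Fˣ →* Fˣ).range := QuotientGroup.mk' _
  let f : GL (Fin n) F →* Fˣ ⧸ (powMonoidHom n : Fˣ →* Fˣ).range :=
    π.comp GeneralLinearGroup.det
  have hdet : ∀ u : Fˣ, GeneralLinearGroup.det (GeneralLinearGroup.scalar (Fin n) u) = u ^ n :=
    fun u => Units.ext (by simp)
  have hf : f.comp (GeneralLinearGroup.scalar (Fin n)) = 1 := MonoidHom.ext fun u =>
    (congrArg π (hdet u)).trans ((QuotientGroup.eq_one_iff _).2 ⟨u, rfl⟩)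
  have hcard : Nat.card (Fˣ ⧸ (powMonoidHom n : Fˣ →* Fˣ).range) =
      Nat.gcd n (Fintype.card F - 1) := by
    rw [← Subgroup.index, IsCyclic.index_powMonoidHom_range, PSLCard.card_units_field,
      Nat.card_eq_fintype_card, Nat.gcd_comm]
  have hcyc : IsCyclic (Fˣ ⧸ (powMonoidHom n : Fˣ →* Fˣ).range) :=
    isCyclic_of_surjective π (QuotientGroup.mk'_surjective _)
  let e : (Fˣ ⧸ (powMonoidHom n : Fˣ →* Fˣ).range) ≃*
      Multiplicative (ZMod (Nat.gcd n (Fintype.card F - 1))) :=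
    hcard ▸ (zmodCyclicMulEquiv hcyc).symm
  refine ⟨e.toMonoidHom.comp (ProjGenLinGroup.lift f hf), e.surjective.comp fun x => ?_, ?_⟩
  · obtain ⟨u, rfl⟩ := QuotientGroup.mk'_surjective _ x
    obtain ⟨A, hA⟩ := PSLCard.det_surjective (ι := Fin n) u
    exact ⟨ProjGenLinGroup.mk A, congrArg π hA⟩
  · rw [← MonoidHom.comap_ker, (MonoidHom.ker_eq_bot_iff e.toMonoidHom).2 e.injective, MonoidHom.comap_bot]
    ext x
    induction x using ProjGenLinGroup.induction_on with | mk A =>
    rw [MonoidHom.mem_ker, ProjGenLinGroup.lift_mk, MonoidHom.mem_range]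
    change π (GeneralLinearGroup.det A) = 1 ↔ _
    constructor
    · intro h
      obtain ⟨c, hc⟩ := (QuotientGroup.eq_one_iff _).1 h
      obtain ⟨B, hB⟩ : A * GeneralLinearGroup.scalar (Fin n) c⁻¹ ∈
          (SpecialLinearGroup.toGL : SpecialLinearGroup (Fin n) F →* GL (Fin n) F).range := by
        rw [PSLCard.range_toGL_eq_ker_det, MonoidHom.mem_ker, map_mul, hdet, ← hc,
          powMonoidHom_apply, inv_pow, mul_inv_cancel]
      exact ⟨QuotientGroup.mk B, by
        rw [ProjectiveSpecialLinearGroup.toPGL_mk, hB, map_mul, ProjGenLinGroup.mk_scalar,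
          mul_one]⟩
    · rintro ⟨y, hy⟩
      obtain ⟨B, rfl⟩ := QuotientGroup.mk_surjective y
      rw [ProjectiveSpecialLinearGroup.toPGL_mk, ProjGenLinGroup.mk_eq_mk_iff] at hy
      obtain ⟨u, hu⟩ := hy
      refine (QuotientGroup.eq_one_iff _).2 ⟨u, ?_⟩
      have hB : GeneralLinearGroup.det (SpecialLinearGroup.toGL B) = 1 := Units.ext (by simp)
      rw [← hu, map_mul, hB, one_mul, hdet, powMonoidHom_apply]

end Cfsg.Agent.S0307
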