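import Cfsg.Statements.S0310
import Cfsg.Agent.Lib.BNPair
-- import your own Cfsg.Agent.* helpers here

set_option autoImplicit false
open Cfsg

namespace Cfsg.Agent.S0310

/-- For a set `J` of distinguished generators, the subgroup generated by `B` and `J` is exactly the union of
the double cosets `B n B` with `n` in the subgroup generated by `J` (so `B W_J B` is a subgroup). -/
theorem result {G : Type*} [Group G] (P : Cfsg.BNPair G) {J : Set G}
    (hJ : J ⊆ P.S) (g : G) :
    g ∈ P.parabolic J ↔ ∃ n ∈ Subgroup.closure J, g ∈ DoubleCoset.doubleCoset n (P.B : Set G) P.B := by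
  constructor
  · intro hg
    obtain ⟨w, hw, hg⟩ := (BNPairLib.mem_parabolic P hJ).1 hg
    suffices ∀ w ∈ BNPairLib.WJ P {s : P.S | (s : G) ∈ J},
        ∃ n : P.N, BNPairLib.π P n = w ∧ (n : G) ∈ Subgroup.closure J by
      obtain ⟨n, rfl, hn⟩ := this w hw
      exact ⟨n, hn, by rwa [BNPairLib.cell_π] at hg⟩
    intro w hw
    obtain ⟨l, hl, rfl⟩ := BNPairLib.exists_wd_of_mem_closure P hw
    clear hg hw
    induction l with
    | nil => exact ⟨1, map_one _, Subgroup.one_mem _⟩
    | cons s l ih =>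
      obtain ⟨n, hn, hnJ⟩ := ih fun x hx => hl x (List.mem_cons_of_mem _ hx)
      exact ⟨⟨(s : G), P.subset s.2⟩ * n, by rw [map_mul, hn, BNPairLib.wd_cons]; rfl,
        Subgroup.mul_mem _ (Subgroup.subset_closure (k := J) (Set.mem_ofPred_eq ▸ hl s List.mem_cons_self)) hnJ⟩
  · rintro ⟨n, hn, hg⟩
    obtain ⟨a, ha, b, hb, rfl⟩ := DoubleCoset.mem_doubleCoset.1 hg
    have hB := BNPairLib.B_le_parabolic P J
    exact Subgroup.mul_mem _ (Subgroup.mul_mem _ (hB ha)
      ((le_sup_right : _ ≤ P.parabolic J) hn)) (hB hb)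

end Cfsg.Agent.S0310
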