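import Cfsg.Statements.S0312
import Cfsg.Agent.Lib.BNPair
-- import your own Cfsg.Agent.* helpers here

set_option autoImplicit false
open Cfsg

namespace Cfsg.Agent.S0312

/-- Every standard parabolic subgroup of a group with a (B,N)-pair equals its own normaliser. -/
theorem result {G : Type*} [Group G] (P : Cfsg.BNPair G) {J : Set G}
    (hJ : J ⊆ P.S) : Subgroup.normalizer (P.parabolic J : Set G) = P.parabolic J := by
  refine le_antisymm (fun g hg => ?_) Subgroup.le_normalizer
  obtain ⟨w, n, _, hgn⟩ := BNPairLib.exists_cell P g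
  obtain ⟨a, ha, b, hb, rfl⟩ := DoubleCoset.mem_doubleCoset.1 hgn
  have hB := BNPairLib.B_le_parabolic P J
  have ha' := Subgroup.le_normalizer (hB ha)
  have hb' := Subgroup.le_normalizer (hB hb)
  have hn : (n : G) ∈ Subgroup.normalizer (P.parabolic J : Set G) := by
    have := Subgroup.mul_mem _ (Subgroup.mul_mem _ (Subgroup.inv_mem _ ha') hg)
      (Subgroup.inv_mem _ hb')
    simpa [mul_assoc] using this
  refine Subgroup.mul_mem _ (Subgroup.mul_mem _ (hB ha) ?_) (hB hb)
  exact BNPairLib.mem_of_conj_le' P hB n.2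
    fun c hc => (Subgroup.mem_normalizer_iff.1 hn c).1 (hB hc)

end Cfsg.Agent.S0312
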