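import Cfsg.Statements.S0313
import Cfsg.Agent.Lib.BNPair
-- import your own Cfsg.Agent.* helpers here

set_option autoImplicit false
open Cfsg

namespace Cfsg.Agent.S0313

/-- Two standard parabolic subgroups of a group with a (B,N)-pair which are conjugate in `G` coincide. -/
theorem result {G : Type*} [Group G] (P : Cfsg.BNPair G) {J K : Set G}
    (hJ : J ⊆ P.S) (hK : K ⊆ P.S) (g : G)
    (h : (P.parabolic J).map (MulAut.conj g).toMonoidHom = P.parabolic K) :
    P.parabolic J = P.parabolic K := by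
  obtain ⟨w, n, _, hgn⟩ := BNPairLib.exists_cell P g
  obtain ⟨a, ha, b, hb, rfl⟩ := DoubleCoset.mem_doubleCoset.1 hgn
  have hBJ := BNPairLib.B_le_parabolic P J
  have hBK := BNPairLib.B_le_parabolic P K
  have key : ∀ x, x ∈ P.parabolic J → (n : G) * x * (n : G)⁻¹ ∈ P.parabolic K := by
    intro x hx
    have h1 : b⁻¹ * x * b ∈ P.parabolic J :=
      Subgroup.mul_mem _ (Subgroup.mul_mem _ (Subgroup.inv_mem _ (hBJ hb)) hx) (hBJ hb)
    have h2 : (a * (n : G) * b) * (b⁻¹ * x * b) * (a * (n : G) * b)⁻¹ ∈ P.parabolic K := by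
      rw [← h]
      exact Subgroup.mem_map.2 ⟨_, h1, rfl⟩
    have := Subgroup.mul_mem _ (Subgroup.mul_mem _ (Subgroup.inv_mem _ (hBK ha)) h2) (hBK ha)
    simpa [mul_assoc] using this
  have hn : (n : G) ∈ P.parabolic K :=
    BNPairLib.mem_of_conj_le' P hBK n.2 fun c hc => key c (hBJ hc)
  have hg : a * (n : G) * b ∈ P.parabolic K :=
    Subgroup.mul_mem _ (Subgroup.mul_mem _ (hBK ha) hn) (hBK hb)
  ext x
  constructor
  · intro hx
    have h2 : (a * (n : G) * b) * x * (a * (n : G) * b)⁻¹ ∈ P.parabolic K := by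
      rw [← h]
      exact Subgroup.mem_map.2 ⟨_, hx, rfl⟩
    have := Subgroup.mul_mem _ (Subgroup.mul_mem _ (Subgroup.inv_mem _ hg) h2) hg
    simpa [mul_assoc] using this
  · intro hx
    have h2 := Subgroup.mul_mem _ (Subgroup.mul_mem _ hg hx) (Subgroup.inv_mem _ hg)
    rw [← h] at h2
    obtain ⟨y, hy, e⟩ := Subgroup.mem_map.1 h2
    have : y = x := mul_left_cancel (mul_right_cancel e)
    exact this ▸ hy

end Cfsg.Agent.S0313
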