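import Cfsg.Statements.S0315
import Cfsg.Agent.Lib.BNPair
-- import your own Cfsg.Agent.* helpers here

set_option autoImplicit false
open Cfsg

namespace Cfsg.Agent.S0315

/-- Standard parabolic subgroups intersect as the index sets do: `P_J ⊓ P_K = P_{J ∩ K}`. -/
theorem result {G : Type*} [Group G] (P : Cfsg.BNPair G) {J K : Set G}
    (hJ : J ⊆ P.S) (hK : K ⊆ P.S) : P.parabolic J ⊓ P.parabolic K = P.parabolic (J ∩ K) := by
  apply le_antisymm
  · rintro g ⟨hg1, hg2⟩
    obtain ⟨w, hw, hg⟩ := (BNPairLib.mem_parabolic P hJ).1 hg1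
    obtain ⟨v, hv, hg'⟩ := (BNPairLib.mem_parabolic P hK).1 hg2
    obtain rfl := BNPairLib.cell_unique P hg hg'
    refine (BNPairLib.mem_parabolic P (Set.inter_subset_left.trans hJ)).2 ⟨w, ?_, hg⟩
    have : w ∈ BNPairLib.WJ P {s : P.S | (s : G) ∈ J} ⊓ BNPairLib.WJ P {s : P.S | (s : G) ∈ K} :=
      ⟨hw, hv⟩
    rw [BNPairLib.WJ_inf] at this
    exact this
  · exact le_inf (sup_le_sup_left (Subgroup.closure_mono Set.inter_subset_left) _)
      (sup_le_sup_left (Subgroup.closure_mono Set.inter_subset_right) _)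

end Cfsg.Agent.S0315
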