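import Cfsg.Statements.S0316
import Cfsg.Agent.Lib.BNPair
-- import your own Cfsg.Agent.* helpers here

set_option autoImplicit false
open Cfsg

namespace Cfsg.Agent.S0316

/-- The map `J ↦ P_J` is a lattice isomorphism from the power set of the set of distinguished generators onto the
subgroups containing `B`. -/
theorem result {G : Type*} [Group G] (P : Cfsg.BNPair G) :
    ∃ e : Set P.S ≃o {M : Subgroup G // P.B ≤ M},
      ∀ J : Set P.S, ((e J : {M : Subgroup G // P.B ≤ M}) : Subgroup G) = P.parabolic (Subtype.val '' J) := by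
  classical
  have key : ∀ J : Set P.S, ∀ s : P.S, (s : G) ∈ P.parabolic (Subtype.val '' J) ↔ s ∈ J := by
    intro J s
    rw [BNPairLib.rep_mem_parabolic_iff P (by rintro _ ⟨x, _, rfl⟩; exact x.2)]
    exact Subtype.val_injective.mem_set_image
  refine ⟨{ toFun := fun J => ⟨P.parabolic (Subtype.val '' J), BNPairLib.B_le_parabolic P _⟩
            invFun := fun M => {s : P.S | (s : G) ∈ (M : Subgroup G)}
            left_inv := fun J => Set.ext fun s => key J s
            right_inv := fun M => Subtype.ext ?_
            map_rel_iff' := ?_ }, fun J => rfl⟩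
  · show P.parabolic (Subtype.val '' {s : P.S | (s : G) ∈ (M : Subgroup G)}) = M
    conv_rhs => rw [BNPairLib.eq_parabolic P M.2]
    congr 1
    ext x
    simp only [Set.mem_image, Set.mem_setOf_eq]
    exact ⟨fun ⟨s, hs, e⟩ => e ▸ ⟨s.2, hs⟩, fun h => ⟨⟨x, h.1⟩, h.2, rfl⟩⟩
  · intro J K
    constructor
    · intro h s hs
      exact (key K s).1 ((Subtype.mk_le_mk.1 h) ((key J s).2 hs))
    · intro h
      exact sup_le_sup_left (Subgroup.closure_mono (Set.image_mono h)) _

end Cfsg.Agent.S0316
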