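import Cfsg.Statements.S0321
import Cfsg.Agent.Lib.BNPair
-- import your own Cfsg.Agent.* helpers here

set_option autoImplicit false
open Cfsg

namespace Cfsg.Agent.S0321

/-- For `n ∈ N` not in `B`, the union `B ∪ B n B` is (the underlying set of) a subgroup exactly when `n` agrees
modulo `B ⊓ N` with one of the distinguished representatives; thus the distinguished involutions are
determined by `B` and `N`. -/
theorem result {G : Type*} [Group G] (P : Cfsg.BNPair G) {n : G}
    (hn : n ∈ P.N) (hnB : n ∉ P.B) :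
    (∃ H : Subgroup G, (H : Set G) = (P.B : Set G) ∪ DoubleCoset.doubleCoset n (P.B : Set G) P.B) ↔ ∃ s ∈ P.S, s⁻¹ * n ∈ P.B := by
  constructor
  · rintro ⟨H, hH⟩
    have hB : P.B ≤ H := fun x hx => by
      show x ∈ (H : Set G)
      rw [hH]
      exact Or.inl hx
    have hne : ∃ s : P.S, (s : G) ∈ H := by
      by_contra hc
      push Not at hc
      have e := BNPairLib.eq_parabolic P hB
      have he : {s | s ∈ P.S ∧ s ∈ H} = (∅ : Set G) :=
        Set.eq_empty_of_forall_notMem fun x hx => hc ⟨x, hx.1⟩ hx.2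
      rw [he, Cfsg.BNPair.parabolic, Subgroup.closure_empty, sup_bot_eq] at e
      have : n ∈ (H : Set G) := by
        rw [hH]
        exact Or.inr (DoubleCoset.mem_doubleCoset_self P.B P.B n)
      rw [e] at this
      exact hnB this
    obtain ⟨s, hs⟩ := hne
    refine ⟨s, s.2, ?_⟩
    have hs' : (s : G) ∈ (H : Set G) := hs
    rw [hH] at hs'
    rcases hs' with hs' | hs'
    · exact absurd hs' (BNPairLib.rep_not_mem P s)
    · refine (BNPairLib.π_eq P ⟨(s : G), P.subset s.2⟩ ⟨n, hn⟩).1 ?_
      refine BNPairLib.cell_unique P (BNPairLib.rep_mem_cell P s) ?_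
      rwa [BNPairLib.cell_π]
  · rintro ⟨s, hs, hsn⟩
    refine ⟨P.parabolic {s}, ?_⟩
    rw [← BNPairLib.doubleCoset_congr P hsn]
    ext g
    rw [SetLike.mem_coe, BNPairLib.mem_parabolic P (Set.singleton_subset_iff.2 hs)]
    have hW : ∀ w ∈ BNPairLib.WJ P {t : P.S | (t : G) ∈ ({s} : Set G)},
        w = 1 ∨ w = BNPairLib.σ P ⟨s, hs⟩ := by
      intro w hw
      induction hw using Subgroup.closure_induction with
      | mem x hx =>
        obtain ⟨t, ht, rfl⟩ := hx
        exact Or.inr (congrArg _ (Subtype.ext ht))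
      | one => exact Or.inl rfl
      | mul x y _ _ hx hy =>
        rcases hx with rfl | rfl <;> rcases hy with rfl | rfl <;>
          simp [BNPairLib.σ_mul_self]
      | inv x _ hx => rcases hx with rfl | rfl <;> simp [BNPairLib.σ_inv]
    constructor
    · rintro ⟨w, hw, hg⟩
      rcases hW w hw with rfl | rfl
      · exact Or.inl ((BNPairLib.mem_cell_one P).1 hg)
      · refine Or.inr ?_
        rwa [BNPairLib.σ, BNPairLib.cell_π] at hg
    · rintro (hg | hg)
      · exact ⟨1, Subgroup.one_mem _, (BNPairLib.mem_cell_one P).2 hg⟩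
      · refine ⟨_, BNPairLib.σ_mem_WJ P (s := ⟨s, hs⟩) rfl, ?_⟩
        rwa [BNPairLib.σ, BNPairLib.cell_π]

end Cfsg.Agent.S0321
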