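import Cfsg.Statements.S0322
import Cfsg.Agent.Lib.BNPair
-- import your own Cfsg.Agent.* helpers here

set_option autoImplicit false
open Cfsg

namespace Cfsg.Agent.S0322

/-- A group with a (B,N)-pair of rank one acts doubly transitively on the left cosets of `B`. -/
theorem result {G : Type*} [Group G] (P : Cfsg.BNPair G) (h : P.rank = 1) : MulAction.IsMultiplyPretransitive G (G ⧸ P.B) 2 := by
  rw [Cfsg.BNPair.rank, Nat.card_eq_one_iff_unique] at h
  obtain ⟨hsub, ⟨s⟩⟩ := h
  have hW : ∀ w : BNPairLib.W P, w = 1 ∨ w = BNPairLib.σ P s := by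
    intro w
    obtain ⟨l, rfl⟩ := BNPairLib.exists_wd P w
    induction l with
    | nil => exact Or.inl rfl
    | cons t l ih =>
      obtain rfl : t = s := Subsingleton.elim _ _
      rcases ih with e | e <;> simp [e, BNPairLib.σ_mul_self]
  have htrans : ∀ g : G, g ∉ P.B → ∃ b ∈ P.B, ∃ b' ∈ P.B, g = b * s * b' := by
    intro g hg
    obtain ⟨w, hw⟩ := BNPairLib.exists_cell P g
    rcases hW w with rfl | rfl
    · exact absurd ((BNPairLib.mem_cell_one P).1 hw) hg
    · exact BNPairLib.exists_eq_mul P ⟨(s : G), P.subset s.2⟩ rfl hw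
  rw [MulAction.is_two_pretransitive_iff]
  suffices key : ∀ x y : G ⧸ P.B, x ≠ y →
      ∃ g : G, g • ((1 : G) : G ⧸ P.B) = x ∧ g • ((s : G) : G ⧸ P.B) = y by
    intro a b c d hab hcd
    obtain ⟨g, hg1, hg2⟩ := key a b hab
    obtain ⟨g', hg1', hg2'⟩ := key c d hcd
    refine ⟨g' * g⁻¹, ?_, ?_⟩
    · rw [mul_smul, inv_smul_eq_iff.2 hg1.symm, hg1']
    · rw [mul_smul, inv_smul_eq_iff.2 hg2.symm, hg2']
  intro x y hxy
  induction x using QuotientGroup.induction_on with
  | H a =>
  induction y using QuotientGroup.induction_on with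
  | H c =>
  have : a⁻¹ * c ∉ P.B := fun h => hxy (QuotientGroup.eq.2 h)
  obtain ⟨b, hb, b', hb', e⟩ := htrans _ this
  refine ⟨a * b, ?_, ?_⟩
  · show ((a * b * 1 : G) : G ⧸ P.B) = _
    rw [QuotientGroup.eq]
    simpa using P.B.inv_mem hb
  · show ((a * b * s : G) : G ⧸ P.B) = _
    rw [QuotientGroup.eq]
    have : (a * b * (s : G))⁻¹ * c = (b * (s : G))⁻¹ * (a⁻¹ * c) := by group
    rw [this, e]
    simpa [mul_assoc] using hb'

end Cfsg.Agent.S0322
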