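import Cfsg.Statements.S0323
import Cfsg.Agent.Lib.BNPair
-- import your own Cfsg.Agent.* helpers here

set_option autoImplicit false
open scoped Pointwise
open Cfsg

namespace Cfsg.Agent.S0323

/-- A doubly transitive action on a set with at least three points yields a (B,N)-pair of rank one:
`B` is the stabiliser of a point `x`, `N` the setwise stabiliser of a pair `{x, y}`. -/
theorem result {G Ω : Type*} [Group G] [MulAction G Ω]
    (h2 : MulAction.IsMultiplyPretransitive G Ω 2) {x y z : Ω} (hxy : x ≠ y) (hyz : y ≠ z) (hxz : x ≠ z) :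
    ∃ P : Cfsg.BNPair G, P.B = MulAction.stabilizer G x ∧
      P.N = MulAction.stabilizer G ({x, y} : Set Ω) ∧ P.rank = 1 := by
  classical
  rw [MulAction.is_two_pretransitive_iff] at h2
  obtain ⟨s, hsx, hsy⟩ := h2 hxy hxy.symm
  have hN : ∀ n : G, n ∈ MulAction.stabilizer G ({x, y} : Set Ω) ↔
      (n • x = x ∧ n • y = y) ∨ (n • x = y ∧ n • y = x) := by
    intro n
    rw [MulAction.mem_stabilizer_iff]
    have e : n • ({x, y} : Set Ω) = {n • x, n • y} := by
      simp [← Set.image_smul, Set.image_insert_eq]
    rw [e, Set.pair_eq_pair_iff]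
  have hsN : s ∈ MulAction.stabilizer G ({x, y} : Set Ω) := (hN s).2 (Or.inr ⟨hsx, hsy⟩)
  have hB : ∀ b : G, b ∈ MulAction.stabilizer G x ↔ b • x = x := fun b =>
    MulAction.mem_stabilizer_iff
  have move : ∀ u : Ω, u ≠ x → ∃ b : G, b • x = x ∧ b • y = u := fun u hu => h2 hxy hu.symm
  have big : ∀ g m : G, (g • x = x ↔ m • x = x) →
      g ∈ DoubleCoset.doubleCoset m (MulAction.stabilizer G x : Set G)
        (MulAction.stabilizer G x) := by
    intro g m hgm
    by_cases hg : g • x = x
    · refine DoubleCoset.mem_doubleCoset.2 ⟨g * m⁻¹, ?_, 1, Subgroup.one_mem _, by group⟩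
      exact Subgroup.mul_mem _ ((hB g).2 hg) (Subgroup.inv_mem _ ((hB m).2 (hgm.1 hg)))
    · have hm : m • x ≠ x := fun h => hg (hgm.2 h)
      obtain ⟨b, hb1, hb2⟩ := h2 (Ne.symm hm) (Ne.symm hg)
      refine DoubleCoset.mem_doubleCoset.2 ⟨b, (hB b).2 hb1, (b * m)⁻¹ * g, ?_, by group⟩
      refine (hB _).2 ?_
      rw [mul_smul, inv_smul_eq_iff, mul_smul, hb2]
  have hsX : s • x ≠ x := by rw [hsx]; exact hxy.symm
  let P : Cfsg.BNPair G :=
    { B := MulAction.stabilizer G x
      N := MulAction.stabilizer G ({x, y} : Set Ω)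
      S := {s}
      sup_eq_top := by
        rw [eq_top_iff]
        intro g _
        by_cases hg : g • x = x
        · exact (le_sup_left : MulAction.stabilizer G x ≤ _) ((hB g).2 hg)
        · obtain ⟨b, hb1, hb2⟩ := move _ hg
          have hbs : b * s ∈ MulAction.stabilizer G x ⊔ MulAction.stabilizer G ({x, y} : Set Ω) :=
            Subgroup.mul_mem _ ((le_sup_left : MulAction.stabilizer G x ≤ _) ((hB b).2 hb1))
              ((le_sup_right : MulAction.stabilizer G ({x, y} : Set Ω) ≤ _) hsN)
          have h' : (b * s)⁻¹ * g ∈ MulAction.stabilizer G x := (hB _).2 (by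
            rw [mul_smul, inv_smul_eq_iff, mul_smul, hsx, hb2])
          have := Subgroup.mul_mem _ hbs ((le_sup_left : MulAction.stabilizer G x ≤ _) h')
          simpa [mul_assoc] using this
      conj_mem := by
        rintro n hn t ⟨ht1, ht2⟩
        have htx := (hB t).1 ht1
        have hty : t • y = y := by
          rcases (hN t).1 ht2 with ⟨-, h⟩ | ⟨h, -⟩
          · exact h
          · exact absurd (htx.symm.trans h) hxy
        refine (hB _).2 ?_
        rw [mul_smul, mul_smul]
        rcases (hN n).1 hn with ⟨h1, h2'⟩ | ⟨h1, h2'⟩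
        · rw [inv_smul_eq_iff.2 h1.symm, htx, h1]
        · rw [inv_smul_eq_iff.2 h2'.symm, hty, h2']
      subset := Set.singleton_subset_iff.2 hsN
      sq_mem := by
        rintro _ rfl
        exact (hB _).2 (by rw [mul_smul, hsx, hsy])
      inj := by
        rintro _ rfl _ rfl _
        rfl
      closure_sup := by
        apply le_antisymm
        · exact sup_le ((Subgroup.closure_le _).2 (Set.singleton_subset_iff.2 hsN)) inf_le_right
        · intro n hn
          rcases (hN n).1 hn with ⟨h1, -⟩ | ⟨h1, -⟩
          · exact (le_sup_right : MulAction.stabilizer G x ⊓ _ ≤ _) ⟨(hB n).2 h1, hn⟩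
          · have h' : s⁻¹ * n ∈ MulAction.stabilizer G x ⊓ MulAction.stabilizer G ({x, y} : Set Ω) :=
              ⟨(hB _).2 (by rw [mul_smul, h1, inv_smul_eq_iff, hsx]),
                Subgroup.mul_mem _ (Subgroup.inv_mem _ hsN) hn⟩
            have := Subgroup.mul_mem _
              ((le_sup_left : Subgroup.closure {s} ≤ Subgroup.closure {s} ⊔ _)
                (Subgroup.subset_closure rfl))
              ((le_sup_right : MulAction.stabilizer G x ⊓ _ ≤ _) h')
            simpa using this
      mul_mem_union := by
        intro t ht n hn b _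
        obtain rfl : t = s := ht
        by_cases h : ((t * b * n) • x = x ↔ n • x = x)
        · exact Or.inr (big _ _ h)
        · refine Or.inl (big _ _ ?_)
          have : (t * n) • x = x ↔ ¬ n • x = x := by
            rw [mul_smul]
            rcases (hN n).1 hn with ⟨h1, -⟩ | ⟨h1, -⟩
            · simp [h1, hsX]
            · simp [h1, hsy, hxy.symm]
          tauto
      conj_ne := by
        intro t ht e
        obtain rfl : t = s := ht
        obtain ⟨b, hb1, hb2⟩ := move z (Ne.symm hxz)
        have : t * b * t ∈ (MulAction.stabilizer G x : Set G) := by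
          rw [← e]
          exact ⟨b, (hB b).2 hb1, rfl⟩
        have h' := (hB _).1 this
        rw [mul_smul, mul_smul, hsx, hb2] at h'
        have : z = y := smul_left_cancel t (h'.trans hsy.symm)
        exact hyz this.symm }
  exact ⟨P, rfl, rfl, by simp [Cfsg.BNPair.rank, P]⟩

end Cfsg.Agent.S0323
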