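import Cfsg.Statements.S0327
import Cfsg.Agent.Lib.SuzukiGroupStructure

set_option autoImplicit false
open Cfsg

namespace Cfsg.Agent.S0327

open scoped Pointwise


/-- The Suzuki group (`m ≥ 1`) is a Zassenhaus group on the `q² + 1` points of the Suzuki–Tits ovoid. -/
theorem result {F : Type*} [Field F] [Fintype F] {m : ℕ} (hm : 1 ≤ m)
    (hF : Fintype.card F = 2 ^ (2 * m + 1)) :
    Cfsg.IsZassenhausGroup (Cfsg.Sz F m) (Cfsg.suzukiOvoid F m) := by
  have := SuzukiGroupBasic.Param.mk' (F := F) (m := m) hm hF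
  refine ⟨⟨fun {g h} hgh => ?_⟩, ?_, ?_, ?_, ?_⟩
  · refine inv_mul_eq_one.mp (SuzukiGroupStructure.eq_one_of_fix_all (g := h⁻¹ * g) fun p hp => ?_) |>.symm
    have := congrArg Subtype.val (hgh ⟨p, hp⟩)
    rw [mul_smul, inv_smul_eq_iff]
    exact this
  · rw [MulAction.is_two_pretransitive_iff]
    intro p q p' q' hne hne'
    obtain ⟨g, h1, h2⟩ := SuzukiGroupStructure.two_trans p.2 q.2 p'.2 q'.2
      (fun h => hne (Subtype.ext h)) (fun h => hne' (Subtype.ext h))
    exact ⟨g, Subtype.ext h1, Subtype.ext h2⟩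
  · intro g a b c hab hbc hac ha hb hc
    exact SuzukiGroupStructure.eq_one_of_fix_three a.2 b.2 c.2 (fun h => hab (Subtype.ext h))
      (fun h => hbc (Subtype.ext h)) (fun h => hac (Subtype.ext h))
      (congrArg Subtype.val ha) (congrArg Subtype.val hb) (congrArg Subtype.val hc)
  · obtain ⟨k, hk0, hk1⟩ := SuzukiGroupBasic.exists_ne_zero_one (F := F) (m := m)
    refine ⟨SuzukiGroupStructure.Hs (Units.mk0 k hk0), fun h => hk1 ?_, ⟨_, SuzukiGroupBasic.inf_mem⟩,
      ⟨_, SuzukiGroupBasic.zero_mem⟩, fun h => SuzukiGroupStructure.inf_ne_zero (congrArg Subtype.val h),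
      Subtype.ext (SuzukiGroupStructure.Hs_smul_inf _), Subtype.ext (SuzukiGroupStructure.Hs_smul_zero _)⟩
    exact congrArg Units.val (SuzukiGroupStructure.Hs_injective (h.trans SuzukiGroupStructure.Hs_one.symm))
  · intro N hN htr
    refine ⟨⟨_, SuzukiGroupBasic.inf_mem⟩, fun hbot => ?_⟩
    have hne : N ≠ ⊥ := by
      rintro rfl
      obtain ⟨x, hx⟩ := htr.exists_smul_eq
        (⟨_, SuzukiGroupBasic.inf_mem⟩ : Cfsg.suzukiOvoid F m) ⟨_, SuzukiGroupBasic.zero_mem⟩
      rw [show x = 1 from Subtype.ext (Subgroup.mem_bot.mp x.2), one_smul] at hx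
      exact SuzukiGroupStructure.inf_ne_zero (congrArg Subtype.val hx)
    have htop := SuzukiGroupStructure.eq_top_of_normal N hne
    have : (⟨SuzukiGroupStructure.Ts 1 0, htop ▸ Subgroup.mem_top _⟩ : N) = 1 :=
      Subgroup.mem_bot.mp (hbot ▸ MulAction.mem_stabilizer_iff.mpr
        (Subtype.ext (SuzukiGroupStructure.Ts_smul_inf 1 0)))
    exact one_ne_zero (SuzukiGroupStructure.Ts_eq_one (congrArg Subtype.val this)).1

end Cfsg.Agent.S0327
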