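import Cfsg.Statements.S0330
import Cfsg.Agent.Lib.SuzukiGroupStructure

set_option autoImplicit false
open Cfsg

namespace Cfsg.Agent.S0330

open scoped Pointwise


/-- A Sylow 2-subgroup `P` of the Suzuki group (field with `q = 2^(2m+1)` elements, `m ≥ 1`) has order `q²` and
exponent `4`; its centre coincides with its commutator subgroup and has order `q`. -/
theorem result {F : Type*} [Field F] [Fintype F] {m : ℕ} (hm : 1 ≤ m)
    (hF : Fintype.card F = 2 ^ (2 * m + 1)) (P : Sylow 2 (Cfsg.Sz F m)) :
    Nat.card P = (2 ^ (2 * m + 1)) ^ 2 ∧ Monoid.exponent P = 4 ∧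
      Subgroup.center P = commutator P ∧ Nat.card (Subgroup.center P) = 2 ^ (2 * m + 1) := by
  have := SuzukiGroupBasic.Param.mk' (F := F) (m := m) hm hF
  obtain ⟨e⟩ := SuzukiGroupStructure.exists_sylow_equiv P
  refine ⟨?_, ?_, ?_, ?_⟩
  · rw [← Nat.card_congr e.toEquiv, SuzukiGroupStructure.natCard_unipotent]
  · rw [← Monoid.exponent_eq_of_mulEquiv e, SuzukiGroupStructure.exponent_unipotent]
  · have h1 : (commutator ↥SuzukiGroupStructure.unipotent).map e.toMonoidHom = commutator ↥(P : Subgroup (Cfsg.Sz F m)) := by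
      rw [commutator_def, Subgroup.map_commutator,
        Subgroup.map_top_of_surjective e.toMonoidHom e.surjective, ← commutator_def]
    rw [← h1, ← SuzukiGroupStructure.center_eq_commutator]
    ext x
    rw [Subgroup.mem_map]
    constructor
    · intro hx
      refine ⟨e.symm x, Subgroup.mem_center_iff.mpr fun y => e.injective ?_, by simp⟩
      simp [Subgroup.mem_center_iff.mp hx (e y)]
    · rintro ⟨y, hy, rfl⟩
      refine Subgroup.mem_center_iff.mpr fun z => e.symm.injective ?_
      simp [Subgroup.mem_center_iff.mp hy (e.symm z)]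
  · rw [← SuzukiGroupStructure.natCard_center_unipotent (F := F) (m := m)]
    exact (Nat.card_congr (Subgroup.centerCongr e).toEquiv).symm

end Cfsg.Agent.S0330
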