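import Cfsg.Statements.S0334
import Cfsg.Agent.Lib.SuzukiGroupLie

set_option autoImplicit false
open Cfsg

namespace Cfsg.Agent.S0334

open scoped Pointwise


/-- Every element of the Suzuki group preserves the alternating form with antidiagonal matrix:
`gᵀ J g = J`. Hence the Suzuki group is a subgroup of a 4-dimensional symplectic group. -/
theorem result {F : Type*} [Field F] [Fintype F] {m : ℕ} (hm : 1 ≤ m)
    (hF : Fintype.card F = 2 ^ (2 * m + 1)) {g : Matrix.SpecialLinearGroup (Fin 4) F}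
    (hg : g ∈ Cfsg.Sz F m) :
    (g : Matrix (Fin 4) (Fin 4) F).transpose * Cfsg.suzukiForm F * (g : Matrix (Fin 4) (Fin 4) F) =
      Cfsg.suzukiForm F := by
  have := SuzukiGroupBasic.Param.mk' (F := F) (m := m) hm hF
  have := SuzukiGroupBasic.charTwo (F := F) (m := m)
  let gg : GL (Fin 4) F := Matrix.SpecialLinearGroup.toGL g
  have hmem : gg ∈ Cfsg.Lie.Sp4 F := by
    have h : gg ∈ Cfsg.Lie.Sz F (2 ^ (m + 1)) := by
      rw [SuzukiGroupLie.lieSz_eq]; exact ⟨g, hg, rfl⟩
    exact (Subgroup.closure_le (Cfsg.Lie.Sp4 F)).mpr (fun x hx => hx.1) h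
  ext i j
  rw [SuzukiGroupLie.gram_cols]
  have h := hmem (Pi.single i 1) (Pi.single j 1)
  have e : ∀ k : Fin 4, (g : Matrix (Fin 4) (Fin 4) F).mulVec (Pi.single k 1) =
      fun l => (g : Matrix (Fin 4) (Fin 4) F) l k := fun k => by ext l; simp
  change Cfsg.Lie.altForm4 ((g : Matrix (Fin 4) (Fin 4) F).mulVec (Pi.single i 1))
    ((g : Matrix (Fin 4) (Fin 4) F).mulVec (Pi.single j 1)) = _ at h
  rw [e i, e j] at h
  rw [h]
  fin_cases i <;> fin_cases j <;> simp [Cfsg.Lie.altForm4, Cfsg.suzukiForm]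

end Cfsg.Agent.S0334
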