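import Cfsg.Statements.S0335
import Cfsg.Agent.Lib.SuzukiGroupStructure

set_option autoImplicit false
open Cfsg

namespace Cfsg.Agent.S0335

open scoped Pointwise


/-- The Suzuki–Tits point set is an ovoid: any three distinct points of it are projectively independent
(no line of projective 3-space meets it in more than two points). -/
theorem result {F : Type*} [Field F] [Fintype F] {m : ℕ} (hm : 1 ≤ m)
    (hF : Fintype.card F = 2 ^ (2 * m + 1)) (p : Fin 3 ↪ Cfsg.suzukiOvoid F m) :
    Projectivization.Independent (fun i => (p i : Projectivization F (Fin 4 → F))) := by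
  have := SuzukiGroupBasic.Param.mk' (F := F) (m := m) hm hF
  obtain ⟨c, h1, h2⟩ := SuzukiGroupStructure.two_trans (m := m) (p 0).2 (p 1).2
    SuzukiGroupBasic.inf_mem SuzukiGroupBasic.zero_mem
    (fun h => absurd (p.injective (Subtype.ext h)) (by decide)) SuzukiGroupStructure.inf_ne_zero
  have h3ne : c • (p 2 : Projectivization F (Fin 4 → F)) ≠ Cfsg.suzukiPointInfinity F := fun h => by
    have := p.injective (Subtype.ext (MulAction.injective c (h.trans h1.symm)))
    exact absurd this (by decide)
  obtain ⟨x, y, hxy⟩ := SuzukiGroupStructure.eq_pt_of_ne (SuzukiGroupStructure.smul_mem_ovoid c (p 2).2) h3ne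
  have hxy0 : x ≠ 0 ∨ y ≠ 0 := by
    by_contra h
    push Not at h
    obtain ⟨rfl, rfl⟩ := h
    rw [← SuzukiGroupBasic.zero_eq_pt, ← h2] at hxy
    exact absurd (p.injective (Subtype.ext (MulAction.injective c hxy))) (by decide)
  set g := (c : Matrix.SpecialLinearGroup (Fin 4) F) with hg
  have key : LinearIndependent F
      ![(![1, 0, 0, 0] : Fin 4 → F), ![0, 0, 0, 1], SuzukiGroupBasic.pv m x y] := by
    rw [Fintype.linearIndependent_iff]
    intro w hw
    have e := fun i => congrFun hw i
    have e0 := e 0; have e1 := e 1; have e2 := e 2; have e3 := e 3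
    simp [Fin.sum_univ_three, SuzukiGroupBasic.pv] at e0 e1 e2 e3
    have hw2 : w 2 = 0 := by
      rcases hxy0 with h | h
      · exact e2.resolve_right h
      · exact e1.resolve_right h
    rw [hw2] at e0 e3
    simp at e0 e3
    intro i; fin_cases i
    exacts [e0, e3, hw2]
  rw [Projectivization.independent_iff]
  let L : (Fin 4 → F) ≃ₗ[F] (Fin 4 → F) := g.toLin'
  have hL : ∀ i, g • (p i : Projectivization F (Fin 4 → F)) =
      Projectivization.mk F (L ((p i : Projectivization F (Fin 4 → F)).rep))
        (L.map_ne_zero_iff.mpr (Projectivization.rep_nonzero _)) := by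
    intro i
    conv_lhs => rw [← (p i : Projectivization F (Fin 4 → F)).mk_rep]
    rfl
  obtain ⟨a0, ha0⟩ := (Projectivization.mk_eq_mk_iff F _ _ _ _).mp ((hL 0).symm.trans h1)
  obtain ⟨a1, ha1⟩ := (Projectivization.mk_eq_mk_iff F _ _ _ _).mp ((hL 1).symm.trans h2)
  obtain ⟨a2, ha2⟩ := (Projectivization.mk_eq_mk_iff F _ _ _ _).mp ((hL 2).symm.trans hxy)
  refine LinearIndependent.of_comp L.toLinearMap ?_
  have e : (L.toLinearMap ∘ (Projectivization.rep ∘ fun i => (p i : Projectivization F (Fin 4 → F)))) =
      (![a0, a1, a2] : Fin 3 → Fˣ) • ![(![1, 0, 0, 0] : Fin 4 → F), ![0, 0, 0, 1], SuzukiGroupBasic.pv m x y] := by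
    funext i
    fin_cases i
    · exact ha0.symm
    · exact ha1.symm
    · exact ha2.symm
  rw [e]
  exact key.units_smul _

end Cfsg.Agent.S0335
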