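import Cfsg.Statements.S0337
import Cfsg.Agent.Lib.CIT21Main
import Cfsg.Agent.Lib.CIT21Frobenius
import Cfsg.Agent.Lib.CIT21CN

set_option autoImplicit false
open Cfsg

namespace Cfsg.Agent.S0337

/-- Classification of simple CN-groups, order-level form: a finite non-abelian simple group in which every
non-identity element has nilpotent centraliser is isomorphic to `PSL₂(F)` with `|F| = 9`, `|F|` a power of `2`, or
`|F|` a prime of the form `2^k ± 1`; or to `PSL₃` over the field with `4` elements; or is simple of Suzuki order. -/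
theorem result {G : Type*} [Group G] [Finite G] [IsSimpleGroup G]
    (hG : ∃ a b : G, a * b ≠ b * a) (hCN : Cfsg.IsCNGroup G) :
    (∃ (F : Type) (_ : Field F) (_ : Fintype F),
        (Fintype.card F = 9 ∨ (∃ n : ℕ, Fintype.card F = 2 ^ n) ∨
          ((Fintype.card F).Prime ∧ ∃ k : ℕ, Fintype.card F = 2 ^ k + 1 ∨ Fintype.card F + 1 = 2 ^ k)) ∧
        Nonempty (G ≃* Matrix.ProjectiveSpecialLinearGroup (Fin 2) F)) ∨
    (∃ (F : Type) (_ : Field F) (_ : Fintype F), Fintype.card F = 4 ∧
        Nonempty (G ≃* Matrix.ProjectiveSpecialLinearGroup (Fin 3) F)) ∨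
    Cfsg.IsSuzuki G := by
  by_cases hCIT : CIT21.IsCIT G
  · exact CIT21.classification CIT21.frobenius inferInstance hG hCIT
  obtain ⟨t, ot, hnp⟩ : ∃ t : G, orderOf t = 2 ∧
      ¬ IsPGroup 2 (Subgroup.centralizer ({t} : Set G)) := by
    by_contra hne
    exact hCIT fun t ot => by
      by_contra h
      exact hne ⟨t, ot, h⟩
  obtain ⟨c, hc⟩ : ∃ c : Subgroup.centralizer ({t} : Set G), ¬ ∃ k, orderOf c = 2 ^ k := by
    haveI := Fact.mk Nat.prime_two
    by_contra hne
    exact hnp (IsPGroup.iff_orderOf.2 fun c => by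
      by_contra h
      exact hne ⟨c, h⟩)
  obtain ⟨r, hr, hrd, hr2⟩ : ∃ r : ℕ, r.Prime ∧ r ∣ orderOf c ∧ r ≠ 2 := by
    by_contra hne
    exact hc ⟨_, Nat.eq_prime_pow_of_unique_prime_dvd (orderOf_pos c).ne' fun {d} hd hdd => by
      by_contra h
      exact hne ⟨d, hd, hdd, h⟩⟩
  have ho : orderOf ((c ^ (orderOf c / r) : Subgroup.centralizer ({t} : Set G)) : G) = r := by
    rw [Subgroup.orderOf_coe]
    exact orderOf_pow_orderOf_div (orderOf_pos c).ne' hrd
  rcases CIT21CN.classification hG hCN ot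
      (x := ((c ^ (orderOf c / r) : Subgroup.centralizer ({t} : Set G)) : G))
      (Subgroup.mem_centralizer_singleton_iff.1 (SetLike.coe_mem _))
      (by rw [ho]; exact hr.odd_of_ne_two hr2)
      (fun e => hr.ne_one (by rw [← ho, e, orderOf_one])) with ⟨F, i, i', hn, e⟩ | h
  · exact Or.inl ⟨F, i, i', Or.inr (Or.inl hn), e⟩
  · exact Or.inr (Or.inr h)

end Cfsg.Agent.S0337
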