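import Cfsg.Statements.S0341
import Cfsg.Agent.Lib.ZassenhausRegularNormal
-- import your own Cfsg.Agent.* helpers here

set_option autoImplicit false
open Cfsg

namespace Cfsg.Agent.S0341

/-- If a finite group acts faithfully and doubly transitively, no non-identity element fixes three points, some
non-identity element fixes two points, and some normal subgroup acts regularly, then the number of points
is `2^p` with `p` prime. -/
theorem result {G Ω : Type*} [Group G]
    [MulAction G Ω] [Fintype Ω] [FaithfulSMul G Ω] (h2 : MulAction.IsMultiplyPretransitive G Ω 2)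
    (h3 : ∀ g : G, ∀ a b c : Ω, a ≠ b → b ≠ c → a ≠ c → g • a = a → g • b = b → g • c = c → g = 1)
    (hfix : ∃ g : G, g ≠ 1 ∧ ∃ a b : Ω, a ≠ b ∧ g • a = a ∧ g • b = b)
    (N : Subgroup G) [N.Normal] (hNt : MulAction.IsPretransitive N Ω)
    (hNr : ∀ a : Ω, MulAction.stabilizer N a = ⊥) :
    ∃ p : ℕ, p.Prime ∧ Fintype.card Ω = 2 ^ p := by
  classical
  haveI : Finite G := Finite.of_injective (MulAction.toPerm : G → Equiv.Perm Ω) MulAction.toPerm_injective
  obtain ⟨g₀, hg₀, a, b, hab, hga, hgb⟩ := hfix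
  have htw : ∀ p q r s : Ω, p ≠ q → r ≠ s → ∃ g : G, g • p = r ∧ g • q = s :=
    fun p q r s hpq hrs => (MulAction.is_two_pretransitive_iff.1 h2) hpq hrs
  let f : N → Ω := fun n => (n : G) • a
  have hf : Function.Bijective f := by
    refine ⟨fun x y e => ?_, fun y => ?_⟩
    · have e' : (x : G) • a = (y : G) • a := e
      have hm : x⁻¹ * y ∈ MulAction.stabilizer N a := by
        show ((x : G)⁻¹ * y) • a = a
        rw [mul_smul, ← e', inv_smul_smul]
      rw [hNr a, Subgroup.mem_bot] at hm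
      exact inv_mul_eq_one.1 hm
    · obtain ⟨n, hn⟩ := hNt.exists_smul_eq a y
      exact ⟨n, hn⟩
  have hconjsmul : ∀ g : G, g • a = a → ∀ n : N, f (MulAut.conjNormal g n) = g • f n := by
    intro g hg n
    show ((MulAut.conjNormal g n : N) : G) • a = g • (n : G) • a
    rw [MulAut.conjNormal_apply, mul_smul, mul_smul, inv_smul_eq_iff.2 hg.symm]
  -- all non-trivial elements are conjugate under the stabiliser
  have htr : ∀ u w : N, u ≠ 1 → w ≠ 1 → ∃ g : MulAction.stabilizer G a,
      MulAut.conjNormal (g : G) u = w := by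
    intro u w hu hw
    have hne : ∀ v : N, v ≠ 1 → a ≠ f v := fun v hv h => hv (hf.1 (h.symm.trans (one_smul G a).symm))
    obtain ⟨g, hg1, hg2⟩ := htw a (f u) a (f w) (hne u hu) (hne w hw)
    exact ⟨⟨g, hg1⟩, hf.1 ((hconjsmul g hg1 u).trans hg2)⟩
  obtain ⟨n₀, hn₀⟩ := hf.2 b
  have hn₀1 : n₀ ≠ 1 := fun h => hab (by rw [← hn₀, h]; exact (one_smul G a).symm)
  haveI : Nontrivial N := ⟨n₀, 1, hn₀1⟩
  obtain ⟨p, hp, hpd⟩ := Nat.exists_prime_and_dvd (Finite.one_lt_card (α := N)).ne'
  haveI := Fact.mk hp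
  obtain ⟨u₀, hu₀⟩ := exists_prime_orderOf_dvd_card' (G := N) p hpd
  have hu₀1 : u₀ ≠ 1 := fun h => hp.ne_one (by rw [← hu₀, h, orderOf_one])
  have hord : ∀ w : N, w ≠ 1 → orderOf w = p := fun w hw => by
    obtain ⟨g, rfl⟩ := htr u₀ w hu₀1 hw
    rw [← hu₀]
    exact MulEquiv.orderOf_eq _ u₀
  have hP : IsPGroup p N := fun w => by
    rcases eq_or_ne w 1 with rfl | hw
    · exact ⟨0, by simp⟩
    · exact ⟨1, by rw [pow_one, ← hord w hw]; exact pow_orderOf_eq_one w⟩
  haveI := hP.center_nontrivial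
  obtain ⟨z, hz⟩ := exists_ne (1 : Subgroup.center N)
  have hcomm : ∀ x y : N, x * y = y * x := by
    intro x y
    rcases eq_or_ne x 1 with rfl | hx
    · simp
    obtain ⟨g, rfl⟩ := htr (z : N) x (fun h => hz (Subtype.ext h)) hx
    have := congrArg (MulAut.conjNormal (g : G))
      (Subgroup.mem_center_iff.1 z.2 ((MulAut.conjNormal (g : G)).symm y))
    rw [map_mul, map_mul, MulEquiv.apply_symm_apply] at this
    exact this.symm
  have hg₀n : MulAut.conjNormal g₀ n₀ = n₀ := hf.1 (by rw [hconjsmul g₀ hga, hn₀, hgb])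
  have hp2 : p = 2 := by
    by_contra hne
    have hnn : MulAut.conjNormal g₀ (n₀ * n₀) = n₀ * n₀ := by rw [map_mul, hg₀n]
    have h1 : n₀ * n₀ ≠ 1 := fun h => hne (by
      have hd : orderOf n₀ ∣ 2 := orderOf_dvd_of_pow_eq_one (by rw [pow_two]; exact h)
      rw [hord n₀ hn₀1] at hd
      exact (Nat.prime_dvd_prime_iff_eq hp Nat.prime_two).1 hd)
    refine hg₀ (h3 g₀ a b (f (n₀ * n₀)) hab ?_ ?_ hga hgb ?_)
    · intro h
      exact hn₀1 (mul_left_cancel (a := n₀) (by rw [mul_one]; exact hf.1 (h.symm.trans hn₀.symm)))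
    · exact fun h => h1 (hf.1 (h.symm.trans (one_smul G a).symm))
    · rw [← hconjsmul g₀ hga, hnn]
  subst hp2
  obtain ⟨k, hk⟩ := hP.exists_card_eq
  have hcard : Fintype.card Ω = 2 ^ k := by
    rw [← hk, ← Nat.card_eq_fintype_card, Nat.card_congr (Equiv.ofBijective f hf)]
  refine ⟨k, ?_, hcard⟩
  have hΩ3 : 3 ≤ Fintype.card Ω := by
    by_contra hlt
    refine hg₀ (eq_of_smul_eq_smul (α := Ω) fun c => ?_)
    rw [one_smul]
    have huniv : ({a, b} : Finset Ω) = Finset.univ :=
      Finset.eq_univ_of_card _ (by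
        rw [Finset.card_pair hab]
        have : ({a, b} : Finset Ω).card ≤ Fintype.card Ω := Finset.card_le_univ _
        rw [Finset.card_pair hab] at this
        omega)
    have := huniv ▸ Finset.mem_univ c
    rcases Finset.mem_insert.1 this with rfl | h
    · exact hga
    · rw [Finset.mem_singleton.1 h, hgb]
  rcases k with _ | _ | _ | k
  · rw [pow_zero] at hcard; omega
  · norm_num at hcard; omega
  · exact Nat.prime_two
  let cg : CommGroup N := { (inferInstance : Group N) with mul_comm := hcomm }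
  refine @ZassenhausRegularNormal.prime_exponent (MulAction.stabilizer G a) _ _ N cg _
    ((MulAut.conjNormal (H := N)).comp (MulAction.stabilizer G a).subtype) ?_ htr ?_ ?_ _ hk (by omega)
  · intro w
    rcases eq_or_ne w 1 with rfl | hw
    · exact one_mul 1
    · rw [← pow_two, ← hord w hw]
      exact pow_orderOf_eq_one w
  · intro g u w hu hw huw hgu hgw
    refine Subtype.ext (h3 g a (f u) (f w) ?_ (fun h => huw (hf.1 h)) ?_ g.2 ?_ ?_)
    · exact fun h => hu (hf.1 (h.symm.trans (one_smul G a).symm))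
    · exact fun h => hw (hf.1 (h.symm.trans (one_smul G a).symm))
    · exact (hconjsmul g g.2 u).symm.trans (congrArg f hgu)
    · exact (hconjsmul g g.2 w).symm.trans (congrArg f hgw)
  · exact ⟨⟨g₀, hga⟩, fun h => hg₀ (congrArg Subtype.val h), n₀, hn₀1, hg₀n⟩

end Cfsg.Agent.S0341
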