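import Cfsg.Statements.S0346
import Cfsg.Agent.Lib.FeitMain
import Cfsg.Agent.S0738
import Cfsg.Agent.S0741
-- import your own Cfsg.Agent.* helpers here

set_option autoImplicit false
open Cfsg

namespace Cfsg.Agent.S0346

/-- The number of points of a finite simple Zassenhaus group is `p^k + 1` for some prime power `p^k` (the regular normal
subgroup of a point stabiliser is a `p`-group). -/
theorem result {G Ω : Type*} [Group G] [Finite G] [MulAction G Ω] [Fintype Ω]
    (hZ : Cfsg.IsZassenhausGroup G Ω) [IsSimpleGroup G] :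
    IsPrimePow (Fintype.card Ω - 1) := by
  classical
  obtain ⟨a, b, -, hab, -, -⟩ := Zassenhaus.exists_triple hZ
  obtain ⟨H, hHa, hHcard, hHfix⟩ := Feit.exists_kernel_subgroup hZ hab
  have hn := Feit.three_le_card hZ
  have hcard : Fintype.card Ω = Nat.card Ω := Nat.card_eq_fintype_card.symm
  have key : Fintype.card Ω - 2 ≤ 2 * Nat.card (Zassenhaus.two G a b) →
      IsPrimePow (Fintype.card Ω - 1) := by
    intro hd
    have hHn : (H.subgroupOf (MulAction.stabilizer G a)).Normal :=
      ⟨fun k hk g => Feit.kernel_conj_mem hZ hHa hHcard hHfix g.2 hk⟩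
    have hreg : ∀ y z : Ω, y ≠ a → z ≠ a → ∃! u : H, (u : G) • y = z := by
      intro y z hy hz
      obtain ⟨k, hk, e⟩ := Feit.kernel_transitive hZ hHa hHcard hHfix hy hz
      refine ⟨⟨k, hk⟩, e, fun u hu => Subtype.ext (inv_mul_eq_one.1 (Feit.kernel_free hHa hHfix
        (H.mul_mem (H.inv_mem hk) u.2) hy ?_)).symm⟩
      rw [mul_smul, show (u : G) • y = z from hu, ← e, inv_smul_smul]
    obtain ⟨-, p, f, hp, -, hc⟩ := Cfsg.Agent.S0738.result hZ hab hd H hHa hHn hreg
    rw [hc, Nat.add_sub_cancel, isPrimePow_nat_iff]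
    refine ⟨p, f, hp, Nat.pos_of_ne_zero ?_, rfl⟩
    rintro rfl
    rw [pow_zero] at hc
    omega
  rcases Nat.even_or_odd (Nat.card (Zassenhaus.two G a b)) with he | ho
  · exact key (Cfsg.Agent.S0741.result hZ hab he)
  · rcases Feit.feit_inequality (Nat.card G) rfl hZ hab (Nat.card H) _ hHcard.symm rfl ho H hHa rfl
      hHfix with h1 | ⟨hP, -, -⟩
    · exact key (by omega)
    · obtain ⟨k, hk⟩ := hP.exists_card_eq
      rw [isPrimePow_nat_iff]
      refine ⟨2, k, Nat.prime_two, Nat.pos_of_ne_zero ?_, by omega⟩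
      rintro rfl
      rw [pow_zero] at hk
      omega

end Cfsg.Agent.S0346
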