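import Cfsg.Statements.S0350
-- import your own Cfsg.Agent.* helpers here

set_option autoImplicit false
open Cfsg

namespace Cfsg.Agent.S0350


/-- Counting pairs (t-subset, block containing it) in two ways: the number of blocks of a Steiner system with parameters (t, k, v), multiplied by C(k, t), equals C(v, t). -/
theorem result {α : Type*} [Fintype α] [DecidableEq α] {t k : ℕ} {B : Set (Finset α)} (hB : Cfsg.IsSteinerSystem t k B) : B.ncard * Nat.choose k t = Nat.choose (Fintype.card α) t := by
  classical
  obtain ⟨hk, hu⟩ := hB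
  have hfin : B.Finite := Set.toFinite B
  rw [Set.ncard_eq_toFinset_card B hfin]
  have hdisj : (↑hfin.toFinset : Set (Finset α)).PairwiseDisjoint (fun b => b.powersetCard t) := by
    intro b hb c hc hbc
    simp only [Function.onFun, Finset.disjoint_left]
    intro s hs hs'
    rw [Finset.mem_powersetCard] at hs hs'
    exact hbc ((hu s hs.2).unique ⟨hfin.mem_toFinset.1 hb, hs.1⟩ ⟨hfin.mem_toFinset.1 hc, hs'.1⟩)
  have heq : hfin.toFinset.biUnion (fun b => b.powersetCard t) =
      (Finset.univ : Finset α).powersetCard t := by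
    ext s
    simp only [Finset.mem_biUnion, Finset.mem_powersetCard, Set.Finite.mem_toFinset]
    constructor
    · rintro ⟨b, -, -, h⟩
      exact ⟨Finset.subset_univ _, h⟩
    · rintro ⟨-, h⟩
      obtain ⟨b, ⟨hb, hsb⟩, -⟩ := hu s h
      exact ⟨b, hb, hsb, h⟩
  have h1 := Finset.card_biUnion hdisj
  rw [heq, Finset.card_powersetCard, Finset.card_univ] at h1
  rw [h1, Finset.sum_congr rfl (fun b hb => by
    rw [Finset.card_powersetCard, hk b (hfin.mem_toFinset.1 hb)]), Finset.sum_const, smul_eq_mul]

end Cfsg.Agent.S0350
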