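import Cfsg.Statements.S0351
-- import your own Cfsg.Agent.* helpers here

set_option autoImplicit false
open Cfsg

namespace Cfsg.Agent.S0351


/-- Derived design: removing a point p from the blocks through p of an S(t+1, k+1, v) yields an S(t, k, v-1) on the points other than p. -/
theorem result {α : Type*} [Fintype α] [DecidableEq α] {t k : ℕ} {B : Set (Finset α)} (hB : Cfsg.IsSteinerSystem (t + 1) (k + 1) B) (p : α) : Cfsg.IsSteinerSystem t k {b' : Finset {a : α // a ≠ p} | ∃ b ∈ B, p ∈ b ∧ b' = Finset.subtype (fun a => a ≠ p) b} := by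
  classical
  obtain ⟨hk, hu⟩ := hB
  refine ⟨?_, ?_⟩
  · rintro b' ⟨b, hb, hp, rfl⟩
    rw [Finset.card_subtype, Finset.filter_ne', Finset.card_erase_of_mem hp, hk b hb]
    rfl
  · intro s hs
    let e : {a : α // a ≠ p} ↪ α := Function.Embedding.subtype _
    have hps : p ∉ s.map e := by
      simp [e]
    have hcard : (insert p (s.map e)).card = t + 1 := by
      rw [Finset.card_insert_of_notMem hps, Finset.card_map, hs]
    obtain ⟨b, ⟨hb, hsub⟩, huniq⟩ := hu _ hcard
    have hp : p ∈ b := hsub (Finset.mem_insert_self _ _)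
    refine ⟨Finset.subtype (fun a => a ≠ p) b, ⟨⟨b, hb, hp, rfl⟩, ?_⟩, ?_⟩
    · intro x hx
      rw [Finset.mem_subtype]
      exact hsub (Finset.mem_insert_of_mem (Finset.mem_map_of_mem e hx))
    · rintro c ⟨⟨b₁, hb₁, hp₁, rfl⟩, hsc⟩
      have : b₁ = b := by
        refine huniq b₁ ⟨hb₁, Finset.insert_subset hp₁ ?_⟩
        intro x hx
        rw [Finset.mem_map] at hx
        obtain ⟨y, hy, rfl⟩ := hx
        exact Finset.mem_subtype.1 (hsc hy)
      rw [this]

end Cfsg.Agent.S0351
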