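import Cfsg.Statements.S0354
import Cfsg.Agent.Lib.SteinerTriangle

set_option autoImplicit false
open Cfsg

namespace Cfsg.Agent.S0354

/-- In an S(5, 8, 24), each block is disjoint from exactly 30 blocks. -/
theorem result {α : Type*} [Fintype α] [DecidableEq α] (hα : Fintype.card α = 24) {B : Set (Finset α)} (hB : Cfsg.IsSteinerSystem 5 8 B) {b : Finset α} (hb : b ∈ B) : {c : Finset α | c ∈ B ∧ Disjoint b c}.ncard = 30 := by
  classical
  have h := SteinerTriangle.meet8 (B := (Set.toFinite B).toFinset) (by simpa using hB) hα (b := b) (by simpa using hb) (Finset.empty_subset b)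
  simp only [Finset.card_empty, SteinerTriangle.tri8] at h
  rw [← h, ← Set.ncard_coe_finset]
  congr 1
  ext c
  simp only [SteinerTriangle.meetIn, Set.mem_ofPred_eq, Finset.coe_filter, Finset.mem_erase, Set.Finite.mem_toFinset, Finset.disjoint_iff_inter_eq_empty]
  constructor
  · rintro ⟨h1, h2⟩
    refine ⟨⟨?_, h1⟩, h2⟩
    rintro rfl
    rw [Finset.inter_self] at h2
    have := hB.1 _ h1
    rw [h2] at this
    simp at this
  · rintro ⟨⟨-, h1⟩, h2⟩
    exact ⟨h1, h2⟩


end Cfsg.Agent.S0354
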