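import Cfsg.Statements.S0357
import Cfsg.Agent.Lib.SteinerSmall

set_option autoImplicit false
open Cfsg

namespace Cfsg.Agent.S0357

/-- In a Steiner system S(5, 6, 12), the complement of every block is again a block. -/
theorem result {α : Type*} [Fintype α] [DecidableEq α] (hα : Fintype.card α = 12) {B : Set (Finset α)} (hB : Cfsg.IsSteinerSystem 5 6 B) {b : Finset α} (hb : b ∈ B) : bᶜ ∈ B := by
  classical
  have h : SteinerSmall.IsS56 (Finset.univ : Finset α) (Set.toFinite B).toFinset :=
    ⟨by rw [Finset.card_univ, hα], fun _ _ => Finset.subset_univ _,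
      fun c hc => hB.1 c (by simpa using hc), fun s _ hs => by simpa using hB.2 s hs⟩
  have := h.compl_mem (b := b) (by simpa using hb)
  simpa [Finset.compl_eq_univ_sdiff] using this


end Cfsg.Agent.S0357
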