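import Cfsg.Statements.S0371
import Cfsg.Agent.Lib.GolayPerm

set_option autoImplicit false
open Cfsg
open scoped Pointwise

namespace Cfsg.Agent.S0371

/-- Multiplication by a nonzero square residue modulo 23, fixing the extra point, lies in the group of the length-24 code. -/
theorem result (u : (ZMod 23)ˣ) (hu : IsSquare u) : Equiv.optionCongr (Units.mulLeft u) ∈ Cfsg.M24 := by
  have key : ∀ v : (ZMod 23)ˣ, IsSquare v → ∀ b ∈ GolayBasic.basisRows,
      Equiv.optionCongr (Units.mulLeft v) • GolayBasic.mset b ∈
        Cfsg.supports (Cfsg.golayCode : Set (Cfsg.GolayPt → ZMod 2)) := by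
    intro v hv b hb
    rw [GolayBasic.mem_supports_mask]
    revert b v
    decide +kernel
  exact GolayPerm.mem_M24_of_rows (key u hu)

end Cfsg.Agent.S0371
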