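import Cfsg.Statements.S0372
import Cfsg.Agent.Lib.GolayPerm

set_option autoImplicit false
open Cfsg

namespace Cfsg.Agent.S0372

/-- The involution x ↦ -1/x of the projective line over ZMod 23 lies in the group of the length-24 code. -/
theorem result : Cfsg.projInv ∈ Cfsg.M24 := by
  have e : Cfsg.projInv = GolayPerm.permOf 1795248432537898728475572672376535 := by
    ext p : 1
    rw [GolayPerm.permOf_apply (by decide +kernel)]
    revert p; decide +kernel
  rw [e]
  exact GolayPerm.permOf_mem_M24 (by decide +kernel)

end Cfsg.Agent.S0372
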