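import Cfsg.Statements.S0373
import Cfsg.Agent.Lib.GolayPerm

set_option autoImplicit false
open Cfsg

namespace Cfsg.Agent.S0373

/-- The cube-twist permutation (squares t ↦ t^3/9, non-squares t ↦ 9t^3, extra point fixed) lies in the group of the length-24 code. -/
theorem result : Cfsg.cubeTwist ∈ Cfsg.M24 := by
  have e : Cfsg.cubeTwist = GolayPerm.permOf 974380510768821363662145534143076928 := by
    ext p : 1
    rw [GolayPerm.permOf_apply (by decide +kernel), Cfsg.cubeTwist, Equiv.ofBijective_apply]
    revert p; decide +kernel
  rw [e]
  exact GolayPerm.permOf_mem_M24 (by decide +kernel)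

end Cfsg.Agent.S0373
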