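import Cfsg.Statements.S0374
import Cfsg.Agent.Lib.GolayGenData

set_option autoImplicit false
open Cfsg

namespace Cfsg.Agent.S0374

set_option maxHeartbeats 2000000 in
/-- The group of the length-24 code is generated by x ↦ x+1, x ↦ -1/x and the cube-twist permutation. -/
theorem result : Subgroup.closure {Equiv.optionCongr (Equiv.addRight (1 : ZMod 23)), Cfsg.projInv, Cfsg.cubeTwist} = Cfsg.M24 := by
  set K := Subgroup.closure ({Equiv.optionCongr (Equiv.addRight (1 : ZMod 23)), Cfsg.projInv,
    Cfsg.cubeTwist} : Set (Equiv.Perm Cfsg.GolayPt)) with hK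
  have hgood : ∀ P ∈ GolayGenData.gen3, GolayPerm.good P = true := fun P hP =>
    List.all_eq_true.1 (by decide +kernel : GolayGenData.gen3.all GolayPerm.good = true) P hP
  have h1 : GolayPerm.permOf (GolayGenData.gen3.getD 0 0) =
      Equiv.optionCongr (Equiv.addRight (1 : ZMod 23)) := by
    ext p : 1
    rw [GolayPerm.permOf_apply (by decide +kernel)]
    revert p; decide +kernel
  have h2 : GolayPerm.permOf (GolayGenData.gen3.getD 1 0) = Cfsg.projInv := by
    ext p : 1
    rw [GolayPerm.permOf_apply (by decide +kernel)]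
    revert p; decide +kernel
  have h3 : GolayPerm.permOf (GolayGenData.gen3.getD 2 0) = Cfsg.cubeTwist := by
    ext p : 1
    rw [GolayPerm.permOf_apply (by decide +kernel), Cfsg.cubeTwist, Equiv.ofBijective_apply]
    revert p; decide +kernel
  have hmem : ∀ P ∈ GolayGenData.gen3, GolayPerm.permOf P ∈ K ∧ GolayPerm.permOf P ∈ Cfsg.M24 := by
    intro P hP
    refine ⟨Subgroup.subset_closure ?_, GolayPerm.permOf_mem_M24 (hgood P hP)⟩
    simp only [GolayGenData.gen3, List.mem_cons, List.not_mem_nil, or_false] at hP
    rcases hP with rfl | rfl | rfl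
    · exact Or.inl h1
    · exact Or.inr (Or.inl h2)
    · exact Or.inr (Or.inr h3)
  have hsub : ∀ T ∈ GolayChain.elts GolayGenData.lv, GolayPerm.good T = true ∧
      T ∈ GolayGenData.gen3 ++ GolayGenData.steps.map (fun s => s.2.2) := by
    intro T hT
    have := List.all_eq_true.1 (by decide +kernel : (GolayChain.elts GolayGenData.lv).all
      (fun T => GolayPerm.good T && (GolayGenData.gen3 ++ GolayGenData.steps.map fun s => s.2.2).elem T)
        = true) T hT
    simpa only [Bool.and_eq_true, List.elem_iff] using this
  apply le_antisymm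
  · rw [hK, Subgroup.closure_le]
    intro g hg
    rcases hg with rfl | rfl | rfl
    · exact h1 ▸ (hmem _ (by decide +kernel)).2
    · exact h2 ▸ (hmem _ (by decide +kernel)).2
    · exact h3 ▸ (hmem _ (by decide +kernel)).2
  · refine GolayChain.le_of_elts (lv := GolayGenData.lv) (by decide +kernel)
      (fun T hT => GolayPerm.permOf_mem_M24 (hsub T hT).1) ?_
      (fun T hT => GolayPerm.valid_of_good (hsub T hT).1) fun T hT => ?_
    · rw [GolayM24.card_M24]; decide +kernel
    · have hs : GolayChain.slpCheck GolayGenData.gen3 GolayGenData.steps = true := by decide +kernel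
      exact GolayChain.mem_of_slp (K := K) GolayGenData.steps GolayGenData.gen3
        (fun P hP => ⟨GolayPerm.valid_of_good (hgood P hP), (hmem P hP).1⟩) hs T (hsub T hT).2

end Cfsg.Agent.S0374
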