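import Cfsg.Statements.S0380
import Cfsg.Agent.Lib.GolayPlaneFour

set_option autoImplicit false
open Cfsg

namespace Cfsg.Agent.S0380

/-- A three-point stabiliser in the group of the length-24 code is isomorphic to PSL(3, F) for the field F with 4 elements. -/
theorem result (p q r : Cfsg.GolayPt) (hpq : p ≠ q) (hpr : p ≠ r) (hqr : q ≠ r) (F : Type) [Field F] [Fintype F] (hF : Fintype.card F = 4) : Nonempty (↥(MulAction.stabilizer Cfsg.M24 p ⊓ MulAction.stabilizer Cfsg.M24 q ⊓ MulAction.stabilizer Cfsg.M24 r) ≃* Matrix.ProjectiveSpecialLinearGroup (Fin 3) F) := by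
  classical
  obtain ⟨t, ht⟩ : ∃ t : Cfsg.GolayPt, t ∉ ({p, q, r} : Finset Cfsg.GolayPt) := by
    by_contra hc
    simp only [not_exists, not_not] at hc
    have h1 : (Finset.univ : Finset Cfsg.GolayPt) ⊆ {p, q, r} := fun x _ => hc x
    have h2 := Finset.card_le_card h1
    have h3 : ({p, q, r} : Finset Cfsg.GolayPt).card ≤ 3 := Finset.card_le_three
    rw [Finset.card_univ, show Fintype.card Cfsg.GolayPt = 24 from Fintype.card_congr GolayBasic.idxEquiv] at h2
    omega
  obtain ⟨t', ht'⟩ : ∃ t' : Cfsg.GolayPt, t' ∉ ({p, q, r, t} : Finset Cfsg.GolayPt) := by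
    by_contra hc
    simp only [not_exists, not_not] at hc
    have h1 : (Finset.univ : Finset Cfsg.GolayPt) ⊆ {p, q, r, t} := fun x _ => hc x
    have h2 := Finset.card_le_card h1
    have h3 : ({p, q, r, t} : Finset Cfsg.GolayPt).card ≤ 4 := Finset.card_le_four
    rw [Finset.card_univ, show Fintype.card Cfsg.GolayPt = 24 from Fintype.card_congr GolayBasic.idxEquiv] at h2
    omega
  simp only [Finset.mem_insert, Finset.mem_singleton, not_or] at ht ht'
  obtain ⟨g, hg, e0, e1, e2, -, -⟩ := GolayM24.exists_map_five ![p, q, r, t, t'] (by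
    intro i j hij
    fin_cases i <;> fin_cases j <;> simp at hij <;>
      first
        | rfl
        | exact absurd hij (by tauto)
        | exact absurd hij.symm (by tauto))
  obtain ⟨e⟩ := GolayPlaneFour.equiv_plane (F := F) hF
  let c : ↥Cfsg.M24 ≃* ↥Cfsg.M24 := MulAut.conj ⟨g, hg⟩
  have hbase : MulAction.stabilizer Cfsg.M24 p ⊓ MulAction.stabilizer Cfsg.M24 q ⊓ MulAction.stabilizer Cfsg.M24 r =
      ((GolayPerm.fixList Cfsg.M24 [23, 0, 12]).subgroupOf Cfsg.M24).map c.toMonoidHom := by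
    ext x
    rw [Subgroup.mem_map_equiv, Subgroup.mem_subgroupOf, GolayPerm.mem_fixList,
      Subgroup.mem_inf, Subgroup.mem_inf, MulAction.mem_stabilizer_iff, MulAction.mem_stabilizer_iff,
      MulAction.mem_stabilizer_iff]
    have hx : ∀ b, ((c.symm x : ↥Cfsg.M24) : Equiv.Perm Cfsg.GolayPt) (GolayBasic.pt b) = GolayBasic.pt b ↔
        x • g (GolayBasic.pt b) = g (GolayBasic.pt b) := fun b => by
      show (g⁻¹ * x.1 * g) (GolayBasic.pt b) = _ ↔ x.1 (g (GolayBasic.pt b)) = _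
      rw [Equiv.Perm.mul_apply, Equiv.Perm.mul_apply, Equiv.Perm.inv_eq_iff_eq]
    simp only [List.forall_mem_cons, List.not_mem_nil, false_implies, implies_true, and_true, hx, e0, e1, e2]
    exact ⟨fun ⟨⟨h1, h2⟩, h3⟩ => ⟨Subtype.property _, h1, h2, h3⟩, fun ⟨_, h1, h2, h3⟩ => ⟨⟨h1, h2⟩, h3⟩⟩
  have hle : GolayPerm.fixList Cfsg.M24 [23, 0, 12] ≤ Cfsg.M24 := fun x hx => (GolayPerm.mem_fixList.1 hx).1
  exact ⟨(MulEquiv.subgroupCongr hbase).trans ((Subgroup.equivMapOfInjective _ c.toMonoidHom c.injective).symm.trans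
    ((Subgroup.subgroupOfEquivOfLe hle).trans e))⟩


end Cfsg.Agent.S0380
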