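import Cfsg.Statements.S0381
import Cfsg.Agent.Lib.GolayM24

set_option autoImplicit false
open Cfsg

namespace Cfsg.Agent.S0381

open Cfsg.Agent.GolayBasic Cfsg.Agent.GolayPerm Cfsg.Agent.GolayData Cfsg.Agent.GolayM24
open scoped Pointwise

/-- The base octad. -/
theorem base_mem : mset 13062145 ∈ Cfsg.octads := octad_five_mem

theorem six_eq_transversal {g : Equiv.Perm GolayPt}
    (hg : g ∈ fixList Cfsg.M24 [23, 0, 12, 14, 16, 17]) :
    ∃ P ∈ tr24_6, valid P = true ∧ g = permOf P := by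
  obtain ⟨hgm, hfix⟩ := mem_fixList.1 hg
  have hmem : g (pt 1) ∈ mset 3715070 := by
    have ho := smul_octad_five hgm (fun b hb => hfix b (List.mem_append_left [17] hb))
    rw [show (3715070 : ℕ) = 16777215 ^^^ 13062145 by decide +kernel, mset_compl,
      Finset.mem_compl, ← ho, ← Equiv.Perm.smul_def, Finset.smul_mem_smul_finset_iff]
    decide +kernel
  have hc : tcheck 16777215 [23, 0, 12, 14, 16, 17] 1 3715070 tr24_6 = true := by decide +kernel
  simp only [tcheck, Bool.and_eq_true, List.all_eq_true, beq_iff_eq] at hc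
  have : idx (g (pt 1)) ∈ tr24_6.map fun P => pimg P 1 := by
    rw [hc.2, List.mem_filter]; exact ⟨mem_pts.2 (idx_lt _), mem_mset.1 hmem⟩
  obtain ⟨P, hP, hPy⟩ := List.mem_map.1 this
  obtain ⟨⟨hgood, hf⟩, -⟩ := hc.1 P hP
  have hv := valid_of_good hgood
  refine ⟨P, hP, hv, ?_⟩
  have hap : ∀ f < 24, permOf P (pt f) = pt (pimg P f) := fun f hf => by
    rw [permOf_apply hv, pfun, idx_pt hf]
  have h7 : (permOf P)⁻¹ * g ∈ fixList Cfsg.M24 [23, 0, 12, 14, 16, 17, 1] := by
    refine mem_fixList.2 ⟨mul_mem (inv_mem (permOf_mem_M24 hgood)) hgm, fun b hb => ?_⟩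
    rw [Equiv.Perm.mul_apply, Equiv.Perm.inv_eq_iff_eq,
      hap b ((by decide : ∀ b ∈ [23, 0, 12, 14, 16, 17, 1], b < 24) b hb)]
    rcases List.mem_append.1 (show b ∈ [23, 0, 12, 14, 16, 17] ++ [1] from hb) with h | h
    · rw [hfix b h, hf b h]
    · rw [List.mem_singleton.1 h, hPy, pt_idx]
  rw [fixList_base_eq_bot, Subgroup.mem_bot] at h7
  exact (inv_mul_eq_one.1 h7).symm

theorem six_props {g : Equiv.Perm GolayPt}
    (hg : g ∈ fixList Cfsg.M24 [23, 0, 12, 14, 16, 17]) :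
    (∀ p ∈ mset 13062145, g p = p) ∧ g * g = 1 := by
  obtain ⟨P, hP, hv, rfl⟩ := six_eq_transversal hg
  have hc : tr24_6.all (fun P => pts.all fun i =>
      (!(13062145 : ℕ).testBit i || pimg P i == i) && pimg P (pimg P i) == i) = true := by
    decide +kernel
  simp only [List.all_eq_true, Bool.and_eq_true, Bool.or_eq_true, beq_iff_eq,
    Bool.not_eq_true'] at hc
  have hap : ∀ p, permOf P p = pt (pimg P (idx p)) := fun p => by rw [permOf_apply hv, pfun]
  constructor
  · intro p hp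
    rcases (hc P hP (idx p) (mem_pts.2 (idx_lt p))).1 with h | h
    · rw [mem_mset.1 hp] at h; simp at h
    · rw [hap, h, pt_idx]
  · ext p : 1
    rw [Equiv.Perm.mul_apply, hap, hap, idx_pt (pimg_lt hv (idx_lt p)),
      (hc P hP (idx p) (mem_pts.2 (idx_lt p))).2, pt_idx, Equiv.Perm.one_apply]

theorem fixing_base : Cfsg.M24 ⊓ fixingSubgroup (Equiv.Perm GolayPt) (mset 13062145 : Set GolayPt) =
    fixList Cfsg.M24 [23, 0, 12, 14, 16, 17] := by
  ext g
  rw [Subgroup.mem_inf, mem_fixingSubgroup_iff]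
  constructor
  · rintro ⟨h1, h2⟩
    exact mem_fixList.2 ⟨h1, fun b hb => h2 _ (Finset.mem_coe.2 ((by decide +kernel :
      ∀ b ∈ [23, 0, 12, 14, 16, 17], pt b ∈ mset 13062145) b hb))⟩
  · intro hg
    exact ⟨(mem_fixList.1 hg).1, fun p hp => (six_props hg).1 p (Finset.mem_coe.1 hp)⟩

/-- The pointwise stabiliser of an octad in the group of the length-24 code has order 16 and every element of it squares to the identity. -/
theorem result (o : Finset Cfsg.GolayPt) (ho : o ∈ Cfsg.octads) : Nat.card ↥(Cfsg.M24 ⊓ fixingSubgroup (Equiv.Perm Cfsg.GolayPt) (o : Set Cfsg.GolayPt)) = 16 ∧ ∀ g ∈ Cfsg.M24 ⊓ fixingSubgroup (Equiv.Perm Cfsg.GolayPt) (o : Set Cfsg.GolayPt), g * g = 1 := by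
  classical
  obtain ⟨a, ha, hao⟩ := exists_smul_eq_of_octads base_mem ho
  have heq : Cfsg.M24 ⊓ fixingSubgroup (Equiv.Perm GolayPt) (o : Set GolayPt) =
      (fixList Cfsg.M24 [23, 0, 12, 14, 16, 17]).map (MulAut.conj a).toMonoidHom := by
    rw [← fixing_base]
    ext g
    rw [Subgroup.mem_map_equiv, MulAut.conj_symm_apply, Subgroup.mem_inf, Subgroup.mem_inf,
      mem_fixingSubgroup_iff, mem_fixingSubgroup_iff]
    refine and_congr ⟨fun h => mul_mem (mul_mem (inv_mem ha) h) ha,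
      fun h => by simpa [mul_assoc] using mul_mem (mul_mem ha h) (inv_mem ha)⟩ ?_
    rw [← hao]
    constructor
    · intro h p hp
      have := h (a p) (Finset.mem_coe.2 (Finset.smul_mem_smul_finset (a := a) (Finset.mem_coe.1 hp)))
      rw [Equiv.Perm.smul_def] at this
      rw [Equiv.Perm.smul_def, Equiv.Perm.mul_apply, Equiv.Perm.mul_apply,
        Equiv.Perm.inv_eq_iff_eq, this]
    · intro h q hq
      obtain ⟨p, hp, rfl⟩ := Finset.mem_smul_finset.1 (Finset.mem_coe.1 hq)
      have := h p (Finset.mem_coe.2 hp)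
      rw [Equiv.Perm.smul_def, Equiv.Perm.mul_apply, Equiv.Perm.mul_apply,
        Equiv.Perm.inv_eq_iff_eq] at this
      rw [Equiv.Perm.smul_def, Equiv.Perm.smul_def, this]
  rw [heq]
  refine ⟨?_, ?_⟩
  · rw [Subgroup.card_map_of_injective (MulAut.conj a).injective, card_chain6, card_chain7]
  · rintro _ ⟨g, hg, rfl⟩
    rw [← map_mul, (six_props hg).2, map_one]


end Cfsg.Agent.S0381
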