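import Cfsg.Statements.S0384
import Cfsg.Agent.Lib.GolayStab

set_option autoImplicit false
open scoped Pointwise
open Cfsg
open scoped Pointwise

namespace Cfsg.Agent.S0384

/-- A dodecad stabiliser is sharply 5-transitive on the dodecad. -/
theorem result (d : Finset Cfsg.GolayPt) (hd : d ∈ Cfsg.dodecads) (x y : Fin 5 ↪ Cfsg.GolayPt) (hx : ∀ i, x i ∈ d) (hy : ∀ i, y i ∈ d) : ∃! g : MulAction.stabilizer Cfsg.M24 d, ∀ i, ((g : Cfsg.M24) : Equiv.Perm Cfsg.GolayPt) (x i) = y i := by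

  obtain ⟨a, ha, rfl⟩ := GolayM24.exists_smul_eq_dodecad hd
  have inD : ∀ z, z ∈ a • Cfsg.Spor.squareDodecad → a⁻¹ z ∈ Cfsg.Spor.squareDodecad := fun z hz => by
    rwa [← Finset.inv_smul_mem_iff] at hz
  obtain ⟨g, ⟨hg, hgxy⟩, huniq⟩ := GolayStab.existsUnique_M12 (fun i => a⁻¹ (x i)) (fun i => a⁻¹ (y i))
    (fun i j h => x.injective (a⁻¹.injective h)) (fun i j h => y.injective (a⁻¹.injective h))
    (fun i => inD _ (hx i)) (fun i => inD _ (hy i))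
  obtain ⟨hg24, hgD⟩ := GolayM24.mem_M12.1 hg
  rw [← GolayM24.squareDodecad_eq] at hgD
  have hm : a * g * a⁻¹ ∈ Cfsg.M24 := mul_mem (mul_mem ha hg24) (inv_mem ha)
  refine ⟨⟨⟨_, hm⟩, ?_⟩, fun i => ?_, fun k hk => ?_⟩
  · rw [MulAction.mem_stabilizer_iff]
    show (a * g * a⁻¹) • a • Cfsg.Spor.squareDodecad = a • Cfsg.Spor.squareDodecad
    rw [mul_smul, mul_smul, inv_smul_smul, hgD]
  · show (a * g * a⁻¹) (x i) = y i
    have hgi : g (a⁻¹ (x i)) = a⁻¹ (y i) := hgxy i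
    rw [Equiv.Perm.mul_apply, Equiv.Perm.mul_apply, hgi, ← Equiv.Perm.mul_apply, mul_inv_cancel,
      Equiv.Perm.one_apply]
  · obtain ⟨⟨k, hk24⟩, hkd⟩ := k
    have hkd' : k • a • Cfsg.Spor.squareDodecad = a • Cfsg.Spor.squareDodecad := hkd
    have := huniq (a⁻¹ * k * a) ⟨?_, fun i => ?_⟩
    · apply Subtype.ext
      apply Subtype.ext
      show k = a * g * a⁻¹
      rw [← this, mul_assoc, mul_assoc, mul_assoc, mul_inv_cancel, mul_one, mul_inv_cancel_left]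
    · rw [GolayM24.mem_M12, ← GolayM24.squareDodecad_eq]
      exact ⟨mul_mem (mul_mem (inv_mem ha) hk24) ha, by rw [mul_smul, mul_smul, hkd', inv_smul_smul]⟩
    · show a⁻¹ (k (a (a⁻¹ (x i)))) = a⁻¹ (y i)
      rw [← Equiv.Perm.mul_apply a, mul_inv_cancel, Equiv.Perm.one_apply]
      exact congrArg _ (hk i)

end Cfsg.Agent.S0384
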