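import Cfsg.Statements.S0386
import Cfsg.Agent.Lib.GolayM24

set_option autoImplicit false
open Cfsg
open scoped Pointwise

namespace Cfsg.Agent.S0386

/-- For a fixed dodecad, 132 octads meet it in 6 points, 132 in 2 points and 495 in 4 points. -/
theorem result (d : Finset Cfsg.GolayPt) (hd : d ∈ Cfsg.dodecads) : {o : Finset Cfsg.GolayPt | o ∈ Cfsg.octads ∧ (o ∩ d).card = 6}.ncard = 132 ∧ {o : Finset Cfsg.GolayPt | o ∈ Cfsg.octads ∧ (o ∩ d).card = 2}.ncard = 132 ∧ {o : Finset Cfsg.GolayPt | o ∈ Cfsg.octads ∧ (o ∩ d).card = 4}.ncard = 495 := by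
  obtain ⟨σ, hσ, hσd⟩ := GolayM24.exists_smul_eq_of_dodecads GolayM24.squareDodecad_mem hd
  subst hσd
  have key : ∀ k : ℕ, {o : Finset Cfsg.GolayPt | o ∈ Cfsg.octads ∧ (o ∩ σ • Cfsg.Spor.squareDodecad).card = k}.ncard
      = ((GolayBasic.ofWeight 8).filter fun x => GolayBasic.wt (GolayBasic.enc x &&& 340831) == k).length := by
    intro k
    have hsub : {x | x ∈ (GolayBasic.ofWeight 8).filter fun x =>
        GolayBasic.wt (GolayBasic.enc x &&& 340831) == k} ⊆ {x | x < 4096} := fun x hx =>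
      List.mem_range.1 (List.mem_filter.1 (List.mem_filter.1 hx).1).1
    have e : {o : Finset Cfsg.GolayPt | o ∈ Cfsg.octads ∧ (o ∩ σ • Cfsg.Spor.squareDodecad).card = k} =
        (fun s => σ • s) '' ((fun x => GolayBasic.mset (GolayBasic.enc x)) ''
          {x | x ∈ (GolayBasic.ofWeight 8).filter fun x =>
            GolayBasic.wt (GolayBasic.enc x &&& 340831) == k}) := by
      ext o
      constructor
      · rintro ⟨ho, hk⟩
        have ho' : σ⁻¹ • o ∈ Cfsg.octads := GolayPerm.smul_mem_octads (inv_mem hσ) ho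
        obtain ⟨x, hx, e⟩ := GolayBasic.mem_wordsOfWeight.1 ho'
        refine ⟨σ⁻¹ • o, ⟨x, ?_, e⟩, smul_inv_smul σ o⟩
        rw [Set.mem_ofPred_eq, List.mem_filter, beq_iff_eq, ← GolayBasic.card_mset,
          GolayBasic.mset_and, e, ← GolayM24.squareDodecad_eq]
        refine ⟨hx, ?_⟩
        rw [← hk, ← Finset.card_smul_finset σ (σ⁻¹ • o ∩ _), Finset.smul_finset_inter, smul_inv_smul]
      · rintro ⟨_, ⟨x, hx, rfl⟩, rfl⟩
        rw [Set.mem_ofPred_eq, List.mem_filter, beq_iff_eq, ← GolayBasic.card_mset,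
          GolayBasic.mset_and, ← GolayM24.squareDodecad_eq] at hx
        refine ⟨GolayPerm.smul_mem_octads hσ (GolayBasic.mem_wordsOfWeight.2 ⟨x, hx.1, rfl⟩), ?_⟩
        rw [← hx.2, ← Finset.smul_finset_inter, Finset.card_smul_finset]
    rw [e, Set.ncard_image_of_injective _ (MulAction.injective σ),
      Set.InjOn.ncard_image (GolayBasic.injOn_mset_enc.mono hsub)]
    rw [show {x | x ∈ (GolayBasic.ofWeight 8).filter fun x =>
        GolayBasic.wt (GolayBasic.enc x &&& 340831) == k} = (((GolayBasic.ofWeight 8).filter fun x =>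
        GolayBasic.wt (GolayBasic.enc x &&& 340831) == k).toFinset : Set ℕ) from
        (List.coe_toFinset _).symm, Set.ncard_coe_finset, List.toFinset_card_of_nodup]
    exact (List.nodup_range.filter _).filter _
  refine ⟨?_, ?_, ?_⟩ <;> rw [key] <;> decide +kernel

end Cfsg.Agent.S0386
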