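import Cfsg.Statements.S0389
import Cfsg.Agent.Lib.GolayStab

set_option autoImplicit false
open scoped Pointwise
open Cfsg
open scoped Pointwise

namespace Cfsg.Agent.S0389

/-- The stabiliser of a dodecad and a point on it is 3-transitive on the complementary dodecad. -/
theorem result (d : Finset Cfsg.GolayPt) (hd : d ∈ Cfsg.dodecads) (p : Cfsg.GolayPt) (hp : p ∈ d) (x y : Fin 3 ↪ Cfsg.GolayPt) (hx : ∀ i, x i ∉ d) (hy : ∀ i, y i ∉ d) : ∃ g ∈ MulAction.stabilizer Cfsg.M24 d ⊓ MulAction.stabilizer Cfsg.M24 p, ∀ i, (g : Equiv.Perm Cfsg.GolayPt) (x i) = y i := by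

  obtain ⟨a, ha, had, hap⟩ := GolayStab.exists_map_dodecad_point hd hp
  have outD : ∀ z, z ∉ d → a⁻¹ z ∉ Cfsg.Spor.squareDodecad := fun z hz hc => hz <| by
    rw [← had, ← Finset.inv_smul_mem_iff]; exact hc
  obtain ⟨g1, hg1, e10, e11, e12⟩ := GolayStab.exists_M11_three (fun i => a⁻¹ (x i))
    (fun i j h => x.injective (a⁻¹.injective h)) (fun i => outD _ (hx i))
  obtain ⟨g2, hg2, e20, e21, e22⟩ := GolayStab.exists_M11_three (fun i => a⁻¹ (y i))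
    (fun i j h => y.injective (a⁻¹.injective h)) (fun i => outD _ (hy i))
  have hg : g2 * g1⁻¹ ∈ Cfsg.Spor.M11 := mul_mem hg2 (inv_mem hg1)
  obtain ⟨hg12, hgp⟩ := hg
  obtain ⟨hg24, hgD⟩ := GolayM24.mem_M12.1 hg12
  rw [← GolayM24.squareDodecad_eq] at hgD
  have hgp' : (g2 * g1⁻¹) • (some 0 : Cfsg.GolayPt) = some 0 := hgp
  refine ⟨⟨a * (g2 * g1⁻¹) * a⁻¹, mul_mem (mul_mem ha hg24) (inv_mem ha)⟩, ⟨?_, ?_⟩, fun i => ?_⟩
  · show (a * (g2 * g1⁻¹) * a⁻¹) • d = d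
    rw [← had, mul_smul, mul_smul a (g2 * g1⁻¹), inv_smul_smul, hgD]
  · show (a * (g2 * g1⁻¹) * a⁻¹) • p = p
    rw [← hap, mul_smul, mul_smul a (g2 * g1⁻¹), inv_smul_smul, hgp']
  · show (a * (g2 * g1⁻¹) * a⁻¹) (x i) = y i
    simp only [Equiv.Perm.mul_apply]
    fin_cases i
    · show a (g2 (g1⁻¹ (a⁻¹ (x 0)))) = y 0
      rw [← e10, ← Equiv.Perm.mul_apply g1⁻¹, inv_mul_cancel, Equiv.Perm.one_apply, e20,
        ← Equiv.Perm.mul_apply, mul_inv_cancel, Equiv.Perm.one_apply]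
    · show a (g2 (g1⁻¹ (a⁻¹ (x 1)))) = y 1
      rw [← e11, ← Equiv.Perm.mul_apply g1⁻¹, inv_mul_cancel, Equiv.Perm.one_apply, e21,
        ← Equiv.Perm.mul_apply, mul_inv_cancel, Equiv.Perm.one_apply]
    · show a (g2 (g1⁻¹ (a⁻¹ (x 2)))) = y 2
      rw [← e12, ← Equiv.Perm.mul_apply g1⁻¹, inv_mul_cancel, Equiv.Perm.one_apply, e22,
        ← Equiv.Perm.mul_apply, mul_inv_cancel, Equiv.Perm.one_apply]

end Cfsg.Agent.S0389
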