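import Cfsg.Statements.S0406
-- import your own Cfsg.Agent.* helpers here
import Cfsg.Agent.Lib.LeechRecognition23

set_option autoImplicit false
open Matrix
open Cfsg

namespace Cfsg.Agent.S0406

/-- A rank-24 even lattice with no roots and the stated numbers of vectors of norms 4, 6, 8 is isomorphic to the Leech lattice. -/
theorem result (B : Matrix (Fin 24) (Fin 24) ℤ) (hsymm : B.IsSymm) (hpos : ∀ x : Fin 24 → ℤ, x ≠ 0 → 0 < x ⬝ᵥ (B *ᵥ x)) (heven : ∀ x : Fin 24 → ℤ, (2 : ℤ) ∣ x ⬝ᵥ (B *ᵥ x)) (h2 : ∀ x : Fin 24 → ℤ, x ⬝ᵥ (B *ᵥ x) ≠ 2) (h4 : {x : Fin 24 → ℤ | x ⬝ᵥ (B *ᵥ x) = 4}.ncard = 196560) (h6 : {x : Fin 24 → ℤ | x ⬝ᵥ (B *ᵥ x) = 6}.ncard = 16773120) (h8 : {x : Fin 24 → ℤ | x ⬝ᵥ (B *ᵥ x) = 8}.ncard = 398034000) : ∃ f : (Fin 24 → ℤ) ≃+ Cfsg.leechLattice, ∀ x : Fin 24 → ℤ, Cfsg.sqNorm ((f x : Cfsg.leechLattice) : Cfsg.GolayPt → ℤ) = 8 * (x ⬝ᵥ (B *ᵥ x)) := by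
  have h4le : ∀ x : Fin 24 → ℤ, x ≠ 0 → 4 ≤ LeechRecognition23.bf B x x := fun x hx => by
    have h1 := hpos x hx
    have h2' := h2 x
    have h3 := heven x
    simp only [LeechRecognition23.bf] at *
    omega
  obtain ⟨e, he8, heo, hcong⟩ := LeechRecognition23.exists_frame hsymm h4le h4 h6 h8
  let φ := LeechRecognition23.coord B e
  have hdot : ∀ x y, φ x ⬝ᵥ φ y = 8 * LeechRecognition23.bf B x y :=
    LeechRecognition23.coord_dot he8 heo
  have hinj : Function.Injective φ := by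
    rw [injective_iff_map_eq_zero]
    intro x hx
    by_contra hne
    have := h4le x hne
    have e0 := hdot x x
    rw [hx] at e0
    simp at e0
    omega
  have hei : ∀ i, φ (e i) = Pi.single i 8 := fun i => by
    funext j
    by_cases hji : j = i
    · subst hji; simpa [φ, LeechRecognition23.coord] using he8 j
    · simpa [φ, LeechRecognition23.coord, hji] using heo j i hji
  have hL : LeechRecognition23.Framed φ.range := by
    refine ⟨?_, ?_, ?_, fun i => ⟨e i, hei i⟩, ?_, ?_⟩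
    · rintro _ ⟨x, rfl⟩
      rw [hdot]
      obtain ⟨k, hk⟩ := heven x
      exact ⟨k, by simp only [LeechRecognition23.bf]; omega⟩
    · rintro _ ⟨x, rfl⟩ _ ⟨y, rfl⟩
      rw [hdot]; exact dvd_mul_right _ _
    · rintro _ ⟨x, rfl⟩ hne
      rw [hdot]
      have := h4le x (fun e => hne (by rw [e, map_zero]))
      omega
    · intro i j
      obtain ⟨z, hz⟩ := hcong i j
      refine ⟨z, ?_⟩
      have e2 : 2 • φ z = Pi.single i 8 - Pi.single j 8 := by
        rw [← map_nsmul, ← hz, map_sub, hei, hei]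
      funext k
      have := congrFun e2 k
      simp only [Pi.smul_apply, Pi.sub_apply, Pi.single_apply, nsmul_eq_mul] at this ⊢
      split_ifs at this ⊢ <;> omega
    · rw [← h4, show {v | v ∈ φ.range ∧ v ⬝ᵥ v = 32} = φ '' {x | x ⬝ᵥ (B *ᵥ x) = 4} from ?_]
      · exact Set.ncard_image_of_injective _ hinj
      ext v
      constructor
      · rintro ⟨⟨x, rfl⟩, hv⟩
        rw [hdot] at hv
        exact ⟨x, by simp only [Set.mem_ofPred_eq, LeechRecognition23.bf] at *; omega, rfl⟩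
      · rintro ⟨x, hx, rfl⟩
        refine ⟨⟨x, rfl⟩, ?_⟩
        rw [hdot]
        simp only [Set.mem_ofPred_eq, LeechRecognition23.bf] at *
        omega
  obtain ⟨ψ, hψinj, hψnorm, hψmem, hψsurj⟩ := LeechRecognition23.exists_signed_relabel hL
  refine ⟨AddEquiv.ofBijective ((ψ.comp φ).codRestrict Cfsg.leechLattice fun x => hψmem _ ⟨x, rfl⟩)
    ⟨fun x y h => hinj (hψinj (congrArg Subtype.val h)), fun y => ?_⟩, fun x => ?_⟩
  · obtain ⟨v, ⟨x, rfl⟩, hx⟩ := hψsurj y y.2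
    exact ⟨x, Subtype.ext hx⟩
  · change Cfsg.sqNorm (ψ (φ x)) = _
    rw [hψnorm, hdot]
    rfl

end Cfsg.Agent.S0406
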