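import Cfsg.Statements.S0423
import Cfsg.Agent.Lib.J2Hundred76

set_option autoImplicit false
open Cfsg

namespace Cfsg.Agent.S0423

/-- Existence of a simple group of order 604800. -/
theorem result : ∃ G : Subgroup (Equiv.Perm (Fin 100)), Cfsg.IsJ2 G := by
  refine ⟨J2Hundred76.act.range, ?_, ?_⟩
  · exact (MonoidHom.ofInjective J2Hundred76.act_injective).symm.isSimpleGroup_congr.mpr
      J2Simple.lineGroup_simple
  · rw [← Nat.card_congr (MonoidHom.ofInjective J2Hundred76.act_injective).toEquiv]
    exact J2Chain.card_lineGroup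

end Cfsg.Agent.S0423
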