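import Cfsg.Statements.S0427
import Cfsg.Agent.Lib.SteinerSRG

set_option autoImplicit false
open Cfsg

namespace Cfsg.Agent.S0427

/-- The block graph (adjacent = disjoint) of an S(3, 6, 22) is strongly regular with parameters (77, 16, 0, 4). -/
theorem result {α : Type*} [Fintype α] (hα : Fintype.card α = 22) {B : Set (Finset α)} (hB : Cfsg.IsSteinerSystem 3 6 B) [Fintype B] [DecidableRel (Cfsg.blockGraph B).Adj] : (Cfsg.blockGraph B).IsSRGWith 77 16 0 4 := by
  classical
  obtain ⟨S, hS⟩ : ∃ S : Finset (Finset α), (S : Set (Finset α)) = B := ⟨_, (Set.toFinite B).coe_toFinset⟩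
  subst hS
  have hm : ∀ b, b ∈ S ↔ b ∈ (S : Set (Finset α)) := fun b => Finset.mem_coe.symm
  have hadj : ∀ b c : (S : Set (Finset α)), (blockGraph (S : Set (Finset α))).Adj b c ↔
      Disjoint (b : Finset α) c := fun b c => by
    simp only [blockGraph, SimpleGraph.fromRel_adj, disjoint_comm (a := (c : Finset α)), or_self]
    refine ⟨And.right, fun hd => ⟨fun e => ?_, hd⟩⟩
    subst e
    simpa [disjoint_self.1 hd] using hB.1 _ b.2
  refine ⟨?_, fun b => ?_, fun b c hbc => ?_, fun b c hne hbc => ?_⟩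
  · rw [← Nat.card_eq_fintype_card, Nat.card_coe_set_eq, Set.ncard_coe_finset]
    exact Agent.SteinerSRG.card22 hB hα
  · rw [Agent.SteinerSRG.card_nbr, Finset.filter_congr (fun c _ => hadj b c),
      Agent.SteinerSRG.card_sub (fun d => Disjoint (b : Finset α) d) S hm]
    exact Agent.SteinerSRG.disj_card hB hα b.2
  · rw [Agent.SteinerSRG.card_common, Finset.filter_congr (fun d _ => and_congr (hadj b d) (hadj c d)),
      Agent.SteinerSRG.card_sub (fun d => Disjoint (b : Finset α) d ∧ Disjoint (c : Finset α) d) S hm]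
    exact Agent.SteinerSRG.triple hB hα b.2 c.2 ((hadj b c).1 hbc)
  · rw [Agent.SteinerSRG.card_common, Finset.filter_congr (fun d _ => and_congr (hadj b d) (hadj c d)),
      Agent.SteinerSRG.card_sub (fun d => Disjoint (b : Finset α) d ∧ Disjoint (c : Finset α) d) S hm]
    exact Agent.SteinerSRG.both_disj hB hα b.2 c.2 (fun e => hne (Subtype.ext e))
      (fun hd => hbc ((hadj b c).2 hd))

end Cfsg.Agent.S0427
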