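import Cfsg.Statements.S0428
import Cfsg.Agent.Lib.SteinerSRG
import Cfsg.Agent.Lib.PointBlockGraph70

set_option autoImplicit false
open Cfsg

namespace Cfsg.Agent.S0428

/-- The point-block graph of an S(3, 6, 22) is strongly regular with parameters (100, 22, 0, 6). -/
theorem result {α : Type*} [Fintype α] (hα : Fintype.card α = 22) {B : Set (Finset α)} (hB : Cfsg.IsSteinerSystem 3 6 B) [Fintype B] [DecidableRel (Cfsg.pointBlockGraph B).Adj] : (Cfsg.pointBlockGraph B).IsSRGWith 100 22 0 6 := by
  classical
  obtain ⟨S, hS⟩ : ∃ S : Finset (Finset α), (S : Set (Finset α)) = B := ⟨_, (Set.toFinite B).coe_toFinset⟩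
  subst hS
  have hm : ∀ b, b ∈ S ↔ b ∈ (S : Set (Finset α)) := fun b => Finset.mem_coe.symm
  have hself : ∀ b : (S : Set (Finset α)), ¬ Disjoint (b : Finset α) b := fun b hd => by
    simpa [disjoint_self.1 hd] using hB.1 _ b.2
  have a0 : ∀ a, (pointBlockGraph (S : Set (Finset α))).Adj none (some (Sum.inl a)) := fun a => Agent.PointBlockGraph70.adj_none_inl a
  have b0 : ∀ b, ¬ (pointBlockGraph (S : Set (Finset α))).Adj none (some (Sum.inr b)) := fun b => Agent.PointBlockGraph70.not_adj_none_inr b
  have aa : ∀ a c, ¬ (pointBlockGraph (S : Set (Finset α))).Adj (some (Sum.inl a)) (some (Sum.inl c)) :=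
    fun a c => Agent.PointBlockGraph70.not_adj_inl_inl a c
  have ab : ∀ a b, (pointBlockGraph (S : Set (Finset α))).Adj (some (Sum.inl a)) (some (Sum.inr b)) ↔ a ∈ (b : Finset α) :=
    fun a b => Agent.PointBlockGraph70.adj_inl_inr
  have ba : ∀ a b, (pointBlockGraph (S : Set (Finset α))).Adj (some (Sum.inr b)) (some (Sum.inl a)) ↔ a ∈ (b : Finset α) :=
    fun a b => ((pointBlockGraph (S : Set (Finset α))).adj_comm _ _).trans (ab a b)
  have bb : ∀ b c, (pointBlockGraph (S : Set (Finset α))).Adj (some (Sum.inr b)) (some (Sum.inr c)) ↔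
      Disjoint (b : Finset α) (c : Finset α) := fun b c =>
    Agent.PointBlockGraph70.adj_inr_inr.trans
      ⟨And.right, fun hd => ⟨fun e => hself b (e ▸ hd), hd⟩⟩
  have a0' : ∀ a, (pointBlockGraph (S : Set (Finset α))).Adj (some (Sum.inl a)) none := fun a => (a0 a).symm
  have b0' : ∀ b, ¬ (pointBlockGraph (S : Set (Finset α))).Adj (some (Sum.inr b)) none := fun b h => b0 b h.symm
  refine ⟨?_, fun v => ?_, fun v w hvw => ?_, fun v w hne hvw => ?_⟩
  · rw [← Nat.card_eq_fintype_card, Finite.card_option, Nat.card_sum, Nat.card_eq_fintype_card, hα,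
      Nat.card_coe_set_eq, Set.ncard_coe_finset, Agent.SteinerSRG.card22 hB hα]
  · rw [Agent.SteinerSRG.card_nbr, Agent.SteinerSRG.card_split]
    rcases v with _ | (a | b)
    · simp [a0, b0, hα, Finset.card_univ]
    · simp only [a0', aa, ab, if_true, Finset.filter_false, Finset.card_empty]
      rw [Agent.SteinerSRG.card_sub (fun d => a ∈ d) S hm, Agent.SteinerSRG.through1 hB hα]
    · simp only [b0', ba, bb, if_false]
      rw [Agent.SteinerSRG.card_sub (fun d => Disjoint (b : Finset α) d) S hm,
        Agent.SteinerSRG.disj_card hB hα b.2, Finset.filter_univ_mem, hB.1 _ b.2]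
  · rw [Agent.SteinerSRG.card_common, Agent.SteinerSRG.card_split]
    rcases v with _ | (a | b) <;> rcases w with _ | (c | d)
    · exact absurd rfl hvw.ne
    · simp [a0, b0, aa, a0']
    · exact absurd hvw (b0 d)
    · simp [a0, b0, aa, a0']
    · exact absurd hvw (aa a c)
    · simp only [a0', aa, ab, b0', bb, false_and, and_false, if_false, Finset.filter_false,
        Finset.card_empty, zero_add]
      rw [Agent.SteinerSRG.card_sub (fun e => a ∈ e ∧ Disjoint (d : Finset α) e) S hm,
        Finset.card_eq_zero, Finset.filter_eq_empty_iff]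
      exact fun e _ he => Finset.disjoint_left.1 he.2 ((ab a d).1 hvw) he.1
    · exact absurd hvw (b0' b)
    · simp only [b0', aa, ab, bb, false_and, and_false, if_false, Finset.filter_false,
        Finset.card_empty, zero_add]
      rw [Agent.SteinerSRG.card_sub (fun e => Disjoint (b : Finset α) e ∧ c ∈ e) S hm,
        Finset.card_eq_zero, Finset.filter_eq_empty_iff]
      exact fun e _ he => Finset.disjoint_left.1 he.1 ((ba c b).1 hvw) he.2
    · have hd := (bb b d).1 hvw
      simp only [b0', ba, bb, false_and, if_false, zero_add]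
      rw [Agent.SteinerSRG.card_sub (fun e => Disjoint (b : Finset α) e ∧ Disjoint (d : Finset α) e) S hm,
        Agent.SteinerSRG.triple hB hα b.2 d.2 hd, add_zero, Finset.card_eq_zero,
        Finset.filter_eq_empty_iff]
      exact fun e _ he => Finset.disjoint_left.1 hd he.1 he.2
  · rw [Agent.SteinerSRG.card_common, Agent.SteinerSRG.card_split]
    rcases v with _ | (a | b) <;> rcases w with _ | (c | d)
    · exact absurd rfl hne
    · exact absurd (a0 c) hvw
    · simp only [a0, b0, b0', ba, and_false, false_and, true_and, if_false, Finset.filter_false,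
        Finset.card_empty, zero_add, add_zero, (pointBlockGraph (S : Set (Finset α))).irrefl]
      rw [Finset.filter_univ_mem, hB.1 _ d.2]
    · exact absurd (a0' a) hvw
    · have hac : a ≠ c := fun e => hne (by rw [e])
      simp only [a0', aa, ab, and_false, false_and, true_and, if_true, Finset.filter_false,
        Finset.card_empty, zero_add]
      rw [Agent.SteinerSRG.card_sub (fun e => a ∈ e ∧ c ∈ e) S hm,
        Agent.SteinerSRG.through2 hB hα hac]
    · simp only [a0', aa, ab, b0', bb, false_and, and_false, if_false, Finset.filter_false,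
        Finset.card_empty, zero_add]
      rw [Agent.SteinerSRG.card_sub (fun e => a ∈ e ∧ Disjoint (d : Finset α) e) S hm]
      exact Agent.SteinerSRG.through_disj hB hα d.2 fun h => hvw ((ab a d).2 h)
    · simp only [a0, b0, b0', ba, and_false, false_and, and_true, if_false, Finset.filter_false,
        Finset.card_empty, zero_add, add_zero, (pointBlockGraph (S : Set (Finset α))).irrefl]
      rw [Finset.filter_univ_mem, hB.1 _ b.2]
    · simp only [b0', aa, ab, bb, false_and, and_false, if_false, Finset.filter_false,
        Finset.card_empty, zero_add]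
      rw [Agent.SteinerSRG.card_sub (fun e => Disjoint (b : Finset α) e ∧ c ∈ e) S hm,
        Finset.filter_congr (fun e _ => and_comm)]
      exact Agent.SteinerSRG.through_disj hB hα b.2 fun h => hvw ((ba c b).2 h)
    · have hnd : ¬ Disjoint (b : Finset α) (d : Finset α) := fun hd => hvw ((bb b d).2 hd)
      have hne' : (b : Finset α) ≠ d := fun e => hne (by rw [Subtype.ext e])
      simp only [b0', ba, bb, false_and, if_false, zero_add]
      rw [Agent.SteinerSRG.card_sub (fun e => Disjoint (b : Finset α) e ∧ Disjoint (d : Finset α) e) S hm,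
        Agent.SteinerSRG.both_disj hB hα b.2 d.2 hne' hnd,
        show (Finset.univ.filter fun x => x ∈ (b : Finset α) ∧ x ∈ (d : Finset α)) = (b : Finset α) ∩ d by
          ext; simp,
        Agent.SteinerSRG.inter_two hB hα b.2 d.2 hne' hnd]

end Cfsg.Agent.S0428
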