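import Cfsg.Statements.S0436
-- import your own Cfsg.Agent.* helpers here

set_option autoImplicit false
open Cfsg

namespace Cfsg.Agent.S0436

/-- For distinct commuting members a, b of a set of 3-transpositions E, a member e of E centralises the product a * b if and only if it centralises both a and b. -/
theorem result {G : Type*} [Group G] {E : Set G} (hE : Cfsg.IsThreeTranspositionSet E) {a b e : G} (ha : a ∈ E) (hb : b ∈ E) (he : e ∈ E) (hab : a ≠ b) (hcomm : Commute a b) : Commute e (a * b) ↔ (Commute e a ∧ Commute e b) := by
  have inv : ∀ x ∈ E, x * x = 1 := fun x hx => by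
    have := pow_orderOf_eq_one x; rw [hE.1 x hx, pow_two] at this; exact this
  have key : ∀ x ∈ E, Commute e x ∨ e * x * e = x * e * x := fun x hx => by
    rcases hE.2 e he x hx with h | h
    · left
      rw [pow_two] at h
      have h1 := mul_eq_one_iff_eq_inv.mp h
      rw [mul_inv_rev, inv_eq_of_mul_eq_one_right (inv e he), inv_eq_of_mul_eq_one_right (inv x hx)] at h1
      exact h1
    · right
      rw [pow_succ, pow_two] at h
      have h1 : e * x * e * (x * e * x) = 1 := by rw [← h]; group
      have h2 := mul_eq_one_iff_eq_inv.mp h1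
      rwa [mul_inv_rev, mul_inv_rev, inv_eq_of_mul_eq_one_right (inv e he),
        inv_eq_of_mul_eq_one_right (inv x hx), ← mul_assoc] at h2
  refine ⟨fun h => ?_, fun h => h.1.mul_right h.2⟩
  rcases key a ha with h1 | h1
  · refine ⟨h1, ?_⟩
    have := (h1.inv_right.mul_right h)
    rwa [inv_mul_cancel_left] at this
  rcases key b hb with h2 | h2
  · refine ⟨?_, h2⟩
    have := (h.mul_right h2.inv_right)
    rwa [mul_inv_cancel_right] at this
  exfalso
  apply hab
  have e1 : e * (a * b) * e = a * b := by rw [h.eq, mul_assoc, inv e he, mul_one]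
  have e2 : a * b = (e * a * e) * (e * b * e) := by
    calc a * b = e * (a * b) * e := e1.symm
      _ = e * a * (e * e) * b * e := by rw [inv e he]; group
      _ = (e * a * e) * (e * b * e) := by group
  rw [h1, h2] at e2
  have e3 : a * b = a * (e * (a * b) * e) * b := by
    calc a * b = _ := e2
      _ = _ := by group
  rw [e1] at e3
  have e4 : a * (a * b) * b = 1 := by rw [← mul_assoc, inv a ha, one_mul, inv b hb]
  rw [e4] at e3
  exact (mul_eq_one_iff_eq_inv.mp e3).trans (inv_eq_of_mul_eq_one_right (inv b hb))

end Cfsg.Agent.S0436
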