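import Cfsg.Statements.S0437
import Cfsg.Agent.S0436

set_option autoImplicit false
open Cfsg

namespace Cfsg.Agent.S0437

/-- For three distinct, pairwise commuting members a, b, c of a set of 3-transpositions E, a member e of E centralises a * b * c if and only if it centralises each of a, b and c. -/
theorem result {G : Type*} [Group G] {E : Set G} (hE : Cfsg.IsThreeTranspositionSet E) {a b c e : G} (ha : a ∈ E) (hb : b ∈ E) (hc : c ∈ E) (he : e ∈ E) (hab : a ≠ b) (hac : a ≠ c) (hbc : b ≠ c) (h₁ : Commute a b) (h₂ : Commute a c) (h₃ : Commute b c) : Commute e (a * b * c) ↔ (Commute e a ∧ Commute e b ∧ Commute e c) := by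
  have inv : ∀ x ∈ E, x * x = 1 := fun x hx => by
    have := pow_orderOf_eq_one x; rw [hE.1 x hx, pow_two] at this; exact this
  have key : ∀ x ∈ E, Commute e x ∨ e * x * e = x * e * x := fun x hx => by
    rcases hE.2 e he x hx with h | h
    · left
      rw [pow_two] at h
      have h1 := mul_eq_one_iff_eq_inv.mp h
      rw [mul_inv_rev, inv_eq_of_mul_eq_one_right (inv e he), inv_eq_of_mul_eq_one_right (inv x hx)] at h1
      exact h1
    · right
      rw [pow_succ, pow_two] at h
      have h1 : e * x * e * (x * e * x) = 1 := by rw [← h]; group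
      have h2 := mul_eq_one_iff_eq_inv.mp h1
      rwa [mul_inv_rev, mul_inv_rev, inv_eq_of_mul_eq_one_right (inv e he),
        inv_eq_of_mul_eq_one_right (inv x hx), ← mul_assoc] at h2
  refine ⟨fun h => ?_, fun h => (h.1.mul_right h.2.1).mul_right h.2.2⟩
  have two : ∀ {p q : G}, p ∈ E → q ∈ E → p ≠ q → Commute p q → Commute e (p * q) → Commute e p ∧ Commute e q :=
    fun hp hq hpq hc hpc => (Cfsg.Agent.S0436.result hE hp hq he hpq hc).mp hpc
  by_cases h₁' : Commute e a
  · have : Commute e (b * c) := by
      have := h₁'.inv_right.mul_right h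
      rwa [mul_assoc a b c, inv_mul_cancel_left] at this
    exact ⟨h₁', two hb hc hbc h₃ this⟩
  by_cases h₂' : Commute e b
  · have : Commute e (a * c) := by
      have := h₂'.inv_right.mul_right h
      rwa [h₁.eq, mul_assoc b a c, inv_mul_cancel_left] at this
    obtain ⟨x, y⟩ := two ha hc hac h₂ this
    exact ⟨x, h₂', y⟩
  by_cases h₃' : Commute e c
  · have : Commute e (a * b) := by
      have := h.mul_right h₃'.inv_right
      rwa [mul_inv_cancel_right] at this
    obtain ⟨x, y⟩ := two ha hb hab h₁ this
    exact ⟨x, y, h₃'⟩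
  exfalso
  apply h₃'
  have ra : e * a * e = a * e * a := (key a ha).resolve_left h₁'
  have rb : e * b * e = b * e * b := (key b hb).resolve_left h₂'
  have rc : e * c * e = c * e * c := (key c hc).resolve_left h₃'
  have ia := inv_eq_of_mul_eq_one_right (inv a ha)
  have ib := inv_eq_of_mul_eq_one_right (inv b hb)
  have ic := inv_eq_of_mul_eq_one_right (inv c hc)
  have m1 : b * (a * e * a) * b = c * e * c := by
    have hx : (a * b * c) * e * (a * b * c)⁻¹ = e := by rw [← h.eq, mul_inv_cancel_right]
    rw [mul_inv_rev, mul_inv_rev, ia, ib, ic] at hx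
    calc b * (a * e * a) * b
        = b * (a * ((a * b * c) * e * (c * (b * a))) * a) * b := by rw [hx]
      _ = b * (a * a) * b * (c * e * c) * (b * (a * a) * b) := by group
      _ = c * e * c := by simp [inv a ha, inv b hb]
  have m2 : b * e * a * e * b = e * c * e := by rw [rc, ← m1, ← ra]; group
  have m3 : (e * b * e) * a * (e * b * e) = c := by
    calc (e * b * e) * a * (e * b * e) = e * (b * e * a * e * b) * e := by group
      _ = (e * e) * c * (e * e) := by rw [m2]; group
      _ = c := by simp [inv e he]
  rw [rb] at m3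
  have m4 : b * e * a * e * b = c := by
    have hbab : b * a * b = a := by rw [h₁.symm.eq, mul_assoc, inv b hb, mul_one]
    calc b * e * a * e * b = b * e * (b * a * b) * e * b := by rw [hbab]
      _ = b * e * b * a * (b * e * b) := by group
      _ = c := m3
  rw [m2] at m4
  calc e * c = e * c * (e * e) := by rw [inv e he, mul_one]
    _ = (e * c * e) * e := by group
    _ = c * e := by rw [m4]

end Cfsg.Agent.S0437
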