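import Cfsg.Statements.S0438
-- import your own Cfsg.Agent.* helpers here

set_option autoImplicit false
open Cfsg

namespace Cfsg.Agent.S0438

/-- Let E be a set of 3-transpositions closed under conjugation, and x an involutory automorphism of the group mapping E to itself. If some a in E fails to commute with its image x a, then x fixes an element of E. -/
theorem result {G : Type*} [Group G] {E : Set G} (hE : Cfsg.IsThreeTranspositionSet E) (hconj : ∀ g : G, ∀ d ∈ E, g * d * g⁻¹ ∈ E) (x : G ≃* G) (hx : ∀ g : G, x (x g) = g) (hxE : ∀ d ∈ E, x d ∈ E) {a : G} (ha : a ∈ E) (h : ¬ Commute a (x a)) : ∃ d ∈ E, x d = d := by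
  have inv : ∀ x ∈ E, x * x = 1 := fun x hx => by
    have := pow_orderOf_eq_one x; rw [hE.1 x hx, pow_two] at this; exact this
  have hb := hxE a ha
  have ia := inv_eq_of_mul_eq_one_right (inv a ha)
  have ib := inv_eq_of_mul_eq_one_right (inv (x a) hb)
  refine ⟨a * x a * a, ?_, ?_⟩
  · have := hconj a (x a) hb
    rwa [ia] at this
  · rcases hE.2 a ha (x a) hb with h2 | h3
    · exfalso
      apply h
      rw [pow_two] at h2
      have h1 := mul_eq_one_iff_eq_inv.mp h2
      rw [mul_inv_rev, ia, ib] at h1
      exact h1
    · rw [map_mul, map_mul, hx]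
      rw [pow_succ, pow_two] at h3
      have h1 : a * x a * a * (x a * a * x a) = 1 := by rw [← h3]; group
      have h2 := mul_eq_one_iff_eq_inv.mp h1
      rw [mul_inv_rev, mul_inv_rev, ia, ib, ← mul_assoc] at h2
      exact h2.symm

end Cfsg.Agent.S0438
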