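import Cfsg.Statements.S0439
-- import your own Cfsg.Agent.* helpers here

set_option autoImplicit false
open Cfsg

namespace Cfsg.Agent.S0439

/-- In the symmetric group of degree n ≥ 2, the set of transpositions is a conjugacy class of 3-transpositions which generates the group. -/
theorem result (n : ℕ) (hn : 2 ≤ n) : Cfsg.IsThreeTranspositionClass {σ : Equiv.Perm (Fin n) | σ.IsSwap} := by
  have h2 : ∀ σ : Equiv.Perm (Fin n), σ.IsSwap → orderOf σ = 2 := by
    rintro σ ⟨x, y, hxy, rfl⟩
    refine orderOf_eq_prime (by rw [pow_two, Equiv.swap_mul_self]) ?_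
    intro h
    exact hxy (by simpa using (Equiv.ext_iff.mp h x).symm)
  refine ⟨⟨fun d hd => h2 d hd, ?_⟩, ?_, ?_⟩
  · rintro d ⟨x, y, hxy, rfl⟩ e ⟨z, w, hzw, rfl⟩
    by_cases hd : Disjoint ({x, y} : Finset (Fin n)) {z, w}
    · left
      have hdis : (Equiv.swap x y).Disjoint (Equiv.swap z w) := by
        rw [Equiv.Perm.disjoint_iff_disjoint_support, Equiv.Perm.support_swap hxy, Equiv.Perm.support_swap hzw]
        exact hd
      rw [hdis.commute.mul_pow, pow_two, pow_two, Equiv.swap_mul_self, Equiv.swap_mul_self, one_mul]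
    · -- a common point `p`
      obtain ⟨p, hp1, hp2⟩ := Finset.not_disjoint_iff.mp hd
      obtain ⟨q, hq, e1⟩ : ∃ q, p ≠ q ∧ Equiv.swap x y = Equiv.swap p q := by
        simp only [Finset.mem_insert, Finset.mem_singleton] at hp1
        rcases hp1 with rfl | rfl
        · exact ⟨y, hxy, rfl⟩
        · exact ⟨x, hxy.symm, Equiv.swap_comm _ _⟩
      obtain ⟨r, hr, e2⟩ : ∃ r, p ≠ r ∧ Equiv.swap z w = Equiv.swap p r := by
        simp only [Finset.mem_insert, Finset.mem_singleton] at hp2
        rcases hp2 with rfl | rfl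
        · exact ⟨w, hzw, rfl⟩
        · exact ⟨z, hzw.symm, Equiv.swap_comm _ _⟩
      rw [e1, e2]
      by_cases hqr : q = r
      · left; subst hqr; rw [Equiv.swap_mul_self, one_pow]
      · right
        have h3 : (Equiv.swap p q * Equiv.swap p r).IsThreeCycle :=
          Equiv.Perm.isThreeCycle_swap_mul_swap_same hq hr hqr
        rw [← h3.orderOf, pow_orderOf_eq_one]
  · refine ⟨Equiv.swap ⟨0, by omega⟩ ⟨1, by omega⟩, ⟨_, _, by simp, rfl⟩, ?_⟩
    ext σ
    simp only [conjugatesOf, Set.mem_setOf_eq]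
    constructor
    · rintro ⟨x, y, hxy, rfl⟩
      exact Equiv.Perm.isConj_swap (by simp) hxy
    · intro h
      obtain ⟨c, hc⟩ := isConj_iff.mp h
      refine ⟨c ⟨0, by omega⟩, c ⟨1, by omega⟩, by simp [c.injective.ne_iff], ?_⟩
      rw [← hc, Equiv.mul_swap_eq_swap_mul, mul_inv_cancel_right]
  · exact Equiv.Perm.closure_isSwap

end Cfsg.Agent.S0439
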