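import Cfsg.Statements.S0440
import Cfsg.Agent.Lib.SymplecticTransv

set_option autoImplicit false
open Cfsg

namespace Cfsg.Agent.S0440

/-- In the symplectic group in dimension 2n ≥ 2 over the field with two elements, the elements g for which g - 1 has rank one (the symplectic transvections) form a conjugacy class of 3-transpositions generating the group. -/
theorem result (n : ℕ) (hn : 1 ≤ n) : Cfsg.IsThreeTranspositionClass {g : Matrix.symplecticGroup (Fin n) (ZMod 2) | ((g : Matrix (Fin n ⊕ Fin n) (Fin n ⊕ Fin n) (ZMod 2)) - 1).rank = 1} := by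
  have h2 : (2 : ZMod 2) = 0 := rfl
  have hne1 : ∀ c : ZMod 2, c ≠ 0 → c = 1 := by decide
  have hD : ∀ d : Matrix.symplecticGroup (Fin n) (ZMod 2),
      ((d : Matrix (Fin n ⊕ Fin n) (Fin n ⊕ Fin n) (ZMod 2)) - 1).rank = 1 ↔
        ∃ v, v ≠ 0 ∧ d = SymplecticBasic.transv v 1 := by
    intro d
    constructor
    · intro h
      obtain ⟨v, c, hv, hc, rfl⟩ := SymplecticTransv.exists_transv_of_rank h
      exact ⟨v, hv, by rw [hne1 c hc]⟩
    · rintro ⟨v, hv, rfl⟩
      exact SymplecticTransv.rank_transv_sub_one hv one_ne_zero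
  refine ⟨⟨?_, ?_⟩, ?_, ?_⟩
  · intro d hd
    obtain ⟨v, hv, rfl⟩ := (hD d).mp hd
    have : Fact (Nat.Prime 2) := ⟨Nat.prime_two⟩
    refine orderOf_eq_prime ?_ (SymplecticTransv.transv_ne_one hv one_ne_zero)
    rw [pow_two, SymplecticBasic.transv_add, show (1 : ZMod 2) + 1 = 0 from rfl,
      SymplecticBasic.transv_zero]
  · intro d hd e he
    obtain ⟨v, -, rfl⟩ := (hD d).mp hd
    obtain ⟨w, -, rfl⟩ := (hD e).mp he
    by_cases h : Cfsg.sympForm n (ZMod 2) v w = 0
    · exact Or.inl (SymplecticTransv.transv_mul_sq_of_perp h2 h)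
    · exact Or.inr (SymplecticTransv.transv_mul_cube h2 (hne1 _ h))
  · have he : (Pi.single (Sum.inl ⟨0, hn⟩) 1 : Fin n ⊕ Fin n → ZMod 2) ≠ 0 := by simp
    refine ⟨_, (hD _).mpr ⟨_, he, rfl⟩, Set.ext fun d => ?_⟩
    rw [Set.mem_ofPred_eq, hD, conjugatesOf, Set.mem_ofPred_eq, isConj_iff]
    constructor
    · rintro ⟨v, hv, rfl⟩
      obtain ⟨g, rfl⟩ := SymplecticBasic.exists_smul_eq he hv
      exact ⟨g, SymplecticBasic.transv_conj g _ 1⟩
    · rintro ⟨g, rfl⟩
      rw [SymplecticBasic.transv_conj]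
      exact ⟨_, fun h => he (MulAction.injective g (show g • _ = g • (0 : Fin n ⊕ Fin n → ZMod 2) by rw [h]; simp [SymplecticBasic.smul_def])), rfl⟩
  · refine SymplecticBasic.eq_top_of_transv fun v c => ?_
    by_cases hv : v = 0
    · rw [hv, SymplecticBasic.transv_vec_zero]; exact one_mem _
    by_cases hc : c = 0
    · rw [hc, SymplecticBasic.transv_zero]; exact one_mem _
    exact Subgroup.subset_closure ((hD _).mpr ⟨v, hv, by rw [hne1 c hc]⟩)

end Cfsg.Agent.S0440
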