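import Cfsg.Agent.Lib.ThreeTranspRank3
-- import your own Cfsg.Agent.* helpers here

set_option autoImplicit false
open Cfsg

namespace Cfsg.Agent.S0441

/-- Fischer's rank-three property. Let a finite group be generated by a conjugacy class D of 3-transpositions, with non-abelian simple commutator subgroup. Then for a in D there are members of D other than a commuting with a and members not commuting with a, and the centraliser of a acts transitively on each of these two sets. -/
theorem result {G : Type*} [Group G] [Finite G] {D : Set G} (hD : Cfsg.IsThreeTranspositionClass D) (hsimple : IsSimpleGroup (commutator G)) (hnonab : ∃ x y : commutator G, x * y ≠ y * x) {a : G} (ha : a ∈ D) : (∃ b ∈ D, b ≠ a ∧ Commute a b) ∧ (∃ c ∈ D, ¬ Commute a c) ∧ (∀ b ∈ D, ∀ b' ∈ D, b ≠ a → b' ≠ a → Commute a b → Commute a b' → ∃ g : G, Commute g a ∧ g * b * g⁻¹ = b') ∧ (∀ c ∈ D, ∀ c' ∈ D, ¬ Commute a c → ¬ Commute a c' → ∃ g : G, Commute g a ∧ g * c * g⁻¹ = c') := by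
  have h := ThreeTransp.tc_of_class hD
  haveI := hsimple
  obtain ⟨x0, y0, hxy⟩ := hnonab
  have hnsol : ¬ Group.IsSolvable ↥(commutator G) := fun hs =>
    hxy ((IsSimpleGroup.comm_iff_isSolvable.mpr hs) x0 y0)
  have hsol : ∀ N : Subgroup G, N.Normal → Group.IsSolvable ↥N → N ≤ commutator G → N = ⊥ := by
    intro N hN hs hle
    have hn : (N.subgroupOf (commutator G)).Normal :=
      ⟨fun n hn g => hN.conj_mem _ hn g⟩
    rcases hn.eq_bot_or_eq_top with e | e
    · rw [Subgroup.subgroupOf_eq_bot, disjoint_iff, inf_eq_left.mpr hle] at e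
      exact e
    · exfalso
      rw [Subgroup.subgroupOf_eq_top] at e
      haveI := hs
      exact hnsol (Group.isSolvable_of_isSolvable_injective (f := Subgroup.inclusion e)
        (Subgroup.inclusion_injective e))
  have hperf : ⁅commutator G, commutator G⁆ = commutator G := by
    have hle : ⁅commutator G, commutator G⁆ ≤ commutator G :=
      Subgroup.commutator_le_self _
    haveI : ⁅commutator G, commutator G⁆.Normal := Subgroup.commutator_normal _ _
    haveI hn : (⁅commutator G, commutator G⁆.subgroupOf (commutator G)).Normal :=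
      Subgroup.normal_subgroupOf
    rcases hn.eq_bot_or_eq_top with e | e
    · exfalso
      rw [Subgroup.subgroupOf_eq_bot, disjoint_iff, inf_eq_left.mpr hle] at e
      apply hxy
      have := Subgroup.commutator_mem_commutator x0.2 y0.2
      rw [e, Subgroup.mem_bot, commutatorElement_eq_one_iff_mul_comm] at this
      exact Subtype.ext this
    · rw [Subgroup.subgroupOf_eq_top] at e
      exact le_antisymm hle e
  have hA : ∃ c ∈ D, ¬ Commute a c := by
    by_contra hno
    push Not at hno
    apply hnsol
    have hall : ∀ u ∈ D, ∀ v ∈ D, Commute u v := by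
      intro u hu v hv
      obtain ⟨g, rfl⟩ := h.trans a ha u hu
      have h1 := hno _ (h.conj g⁻¹ v hv)
      rw [← ThreeTransp.commute_conj_iff (g := g)] at h1
      convert h1 using 1
      group
    haveI := Subgroup.isMulCommutative_closure fun u hu v hv => (hall u hu v hv).eq
    haveI : Group.IsSolvable ↥(Subgroup.closure D) := by
      open scoped IsMulCommutative in infer_instance
    exact Group.isSolvable_of_isSolvable_injective
      (f := Subgroup.inclusion ((h.gen ▸ le_top) : commutator G ≤ Subgroup.closure D))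
      (Subgroup.inclusion_injective _)
  refine ⟨?_, hA, fun b hb b' hb' hba hb'a hab hab' => ?_,
    fun c hc c' hc' hac hac' => ?_⟩
  · obtain ⟨c, hc, hac⟩ := hA
    obtain ⟨d, hd, hda, hdc⟩ := ThreeTransp.near_all h hperf ha hc
    exact ⟨d, hd, fun e => hac (e ▸ hdc), hda.symm⟩
  · obtain ⟨g, hg, hgb⟩ := ThreeTransp.dx_transitive h hsol ha
      (⟨hb, hba, hab⟩ : b ∈ ThreeTransp.Dx D a) (⟨hb', hb'a, hab'⟩ : b' ∈ ThreeTransp.Dx D a)
    refine ⟨g, ?_, hgb⟩
    have : Subgroup.closure (ThreeTransp.Dx D a) ≤ Subgroup.centralizer {a} :=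
      (Subgroup.closure_le _).mpr fun z hz =>
        Subgroup.mem_centralizer_singleton_iff.mpr hz.2.2.symm.eq
    exact Subgroup.mem_centralizer_singleton_iff.mp (this hg)
  · obtain ⟨g, hga, hgc⟩ := ThreeTransp.ax_transitive h hsol hperf ha hc hc' hac hac'
    exact ⟨g, mul_inv_eq_iff_eq_mul.mp hga, hgc⟩

end Cfsg.Agent.S0441
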