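import Cfsg.Statements.S0442
import Mathlib

set_option autoImplicit false
open Cfsg

namespace Cfsg.Agent.S0442

/-- A standard trick for producing elements of an involution centraliser: for an involution a and an element g, let b be the conjugate g⁻¹ * a * g. If a * b has odd order 2m + 1 then g * (a * b) ^ m commutes with a; if a * b has even order 2m then (a * b) ^ m and (a * (g * a * g⁻¹)) ^ m commute with a. -/
theorem result {G : Type*} [Group G] (a g : G) (ha : orderOf a = 2) : (∀ m : ℕ, orderOf (a * (g⁻¹ * a * g)) = 2 * m + 1 → Commute (g * (a * (g⁻¹ * a * g)) ^ m) a) ∧ (∀ m : ℕ, orderOf (a * (g⁻¹ * a * g)) = 2 * m → Commute ((a * (g⁻¹ * a * g)) ^ m) a ∧ Commute ((a * (g * a * g⁻¹)) ^ m) a) := by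
  have haa : a * a = 1 := by
    have := pow_orderOf_eq_one a; rwa [ha, pow_two] at this
  have hai : a⁻¹ = a := inv_eq_of_mul_eq_one_right haa
  set b := g⁻¹ * a * g with hb
  have hbb : b * b = 1 := by
    calc b * b = g⁻¹ * (a * a) * g := by rw [hb]; group
      _ = 1 := by rw [haa]; group
  have hbi : b⁻¹ = b := inv_eq_of_mul_eq_one_right hbb
  have conj : ∀ (c d : G), c * c = 1 → d * d = 1 → ∀ k : ℕ, c * (c * d) ^ k = ((c * d) ^ k)⁻¹ * c := by
    intro c d hc hd k
    have hci := inv_eq_of_mul_eq_one_right hc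
    have hdi := inv_eq_of_mul_eq_one_right hd
    have hsc : SemiconjBy c (c * d) (c * d)⁻¹ := by
      show c * (c * d) = (c * d)⁻¹ * c
      rw [mul_inv_rev, hci, hdi, ← mul_assoc, hc, one_mul, mul_assoc, hc, mul_one]
    have := hsc.pow_right k
    rw [inv_pow] at this
    exact this
  constructor
  · intro m hm
    set z := (a * b) ^ m with hz
    have hzz : z * z * (a * b) = 1 := by
      rw [hz, ← pow_add, ← pow_succ]
      rw [show m + m + 1 = 2 * m + 1 by omega, ← hm, pow_orderOf_eq_one]
    show g * z * a = a * (g * z)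
    have hzc : z * (a * b) = (a * b) * z := ((Commute.refl (a * b)).pow_left m).eq
    have hz2 : (a * b) * z = z⁻¹ := by
      apply eq_inv_of_mul_eq_one_right
      rw [← hzc, ← mul_assoc, hzz]
    have hza : z * a = b * z := by
      have h1 : a * z = z⁻¹ * a := conj a b haa hbb m
      calc z * a = (a * a) * z * a := by rw [haa, one_mul]
        _ = a * (z⁻¹ * a) * a := by rw [← h1]; group
        _ = a * z⁻¹ := by rw [mul_assoc (a : G) (z⁻¹ * a), mul_assoc z⁻¹, haa, mul_one]
        _ = (a * a) * (b * z) := by rw [← hz2]; group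
        _ = b * z := by rw [haa, one_mul]
    calc g * z * a = g * (b * z) := by rw [mul_assoc, hza]
      _ = a * (g * z) := by rw [hb]; group
  · intro m hm
    have hc : ∀ (c d : G), c * c = 1 → d * d = 1 → (c * d) ^ (2 * m) = 1 → Commute ((c * d) ^ m) c := by
      intro c d h1 h2 h3
      show _ = _
      rw [two_mul, pow_add] at h3
      rw [conj c d h1 h2 m, inv_eq_of_mul_eq_one_right h3]
    refine ⟨hc a b haa hbb (hm ▸ pow_orderOf_eq_one _), hc a (g * a * g⁻¹) haa ?_ ?_⟩
    · calc (g * a * g⁻¹) * (g * a * g⁻¹) = g * (a * a) * g⁻¹ := by group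
        _ = 1 := by rw [haa]; group
    · have : a * (g * a * g⁻¹) = g * ((a * b)⁻¹) * g⁻¹ := by
        rw [mul_inv_rev, hai, hbi, hb]; group
      rw [this, conj_pow, inv_pow, ← hm, pow_orderOf_eq_one]
      group

end Cfsg.Agent.S0442
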