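import Cfsg.Statements.S0443
-- import your own Cfsg.Agent.* helpers here

set_option autoImplicit false
open Cfsg

namespace Cfsg.Agent.S0443

/-- Two definitions of a 2-central involution agree: an element t of order 2 of a finite group lies in the centre of some Sylow 2-subgroup if and only if its centraliser contains some Sylow 2-subgroup. -/
theorem result {G : Type*} [Group G] [Finite G] (t : G) (ht : orderOf t = 2) : Cfsg.IsTwoCentralInvolution t ↔ ∃ P : Sylow 2 G, (P : Subgroup G) ≤ Subgroup.centralizer ({t} : Set G) := by
  constructor
  · rintro ⟨_, P, _, hP⟩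
    exact ⟨P, fun x hx => Subgroup.mem_centralizer_singleton_iff.mpr (hP x hx)⟩
  · rintro ⟨P, hP⟩
    have hc : ∀ x ∈ P, x * t = t * x := fun x hx => Subgroup.mem_centralizer_singleton_iff.mp (hP hx)
    refine ⟨ht, P, ?_, hc⟩
    have hcl : IsPGroup 2 (Subgroup.zpowers t) :=
      IsPGroup.of_card (n := 1) (by rw [Nat.card_zpowers, ht, pow_one])
    have hn : Subgroup.zpowers t ≤ Subgroup.normalizer ((P : Subgroup G) : Set G) := by
      rw [Subgroup.zpowers_le, Subgroup.mem_normalizer_iff]
      intro x
      constructor
      · intro hx
        rw [← hc x hx, mul_inv_cancel_right]; exact hx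
      · intro hx
        have h1 := hc _ hx
        have : t * x * t⁻¹ = x := by
          have h2 : t * x = t * (t * x * t⁻¹) := by
            calc t * x = (t * x * t⁻¹) * t := by group
              _ = t * (t * x * t⁻¹) := h1
          exact (mul_left_cancel h2).symm
        rwa [this] at hx
    have := P.is_maximal' (IsPGroup.to_sup_of_normal_right' hcl P.isPGroup' hn) le_sup_right
    exact (this ▸ (Subgroup.mem_sup_left (Subgroup.mem_zpowers t)) : t ∈ (P : Subgroup G))

end Cfsg.Agent.S0443
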