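import Cfsg.Statements.S0444
import Mathlib

set_option autoImplicit false
open Cfsg

namespace Cfsg.Agent.S0444

/-- Two members of a set of 3-transpositions which do not commute generate a subgroup isomorphic to the symmetric group on three letters. -/
theorem result {G : Type*} [Group G] {E : Set G} (hE : Cfsg.IsThreeTranspositionSet E) {d e : G} (hd : d ∈ E) (he : e ∈ E) (h : ¬ Commute d e) : Nonempty (Subgroup.closure ({d, e} : Set G) ≃* Equiv.Perm (Fin 3)) := by
  have dd : d * d = 1 := by
    have := pow_orderOf_eq_one d; rw [hE.1 d hd, pow_two] at this; exact this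
  have ee : e * e = 1 := by
    have := pow_orderOf_eq_one e; rw [hE.1 e he, pow_two] at this; exact this
  have di := inv_eq_of_mul_eq_one_right dd
  have ei := inv_eq_of_mul_eq_one_right ee
  have ed : e * d * e = d * e * d := by
    rcases hE.2 d hd e he with h2 | h3
    · exfalso; apply h
      rw [pow_two] at h2
      have h1 := mul_eq_one_iff_eq_inv.mp h2
      rw [mul_inv_rev, ei, di] at h1
      exact h1
    · rw [pow_succ, pow_two] at h3
      have h1 : d * e * d * (e * d * e) = 1 := by rw [← h3]; group
      have h2 := mul_eq_one_iff_eq_inv.mp h1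
      rw [mul_inv_rev, mul_inv_rev, di, ei, ← mul_assoc] at h2
      exact h2.symm
  let p : Equiv.Perm (Fin 3) := Equiv.swap 0 1
  let q : Equiv.Perm (Fin 3) := Equiv.swap 1 2
  let f : Equiv.Perm (Fin 3) → G := fun σ => if σ = 1 then 1 else if σ = p then d else if σ = q then e
    else if σ = p * q then d * e else if σ = q * p then e * d else d * e * d
  have cases6 : ∀ σ : Equiv.Perm (Fin 3), σ = 1 ∨ σ = p ∨ σ = q ∨ σ = p * q ∨ σ = q * p ∨ σ = p * q * p := by decide
  have f1 : f 1 = 1 := if_pos rfl
  have fp : f p = d := (if_neg (by decide)).trans (if_pos rfl)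
  have fq : f q = e := ((if_neg (by decide)).trans (if_neg (by decide))).trans (if_pos rfl)
  have fpq : f (p * q) = d * e :=
    (((if_neg (by decide)).trans (if_neg (by decide))).trans (if_neg (by decide))).trans (if_pos rfl)
  have fqp : f (q * p) = e * d :=
    ((((if_neg (by decide)).trans (if_neg (by decide))).trans (if_neg (by decide))).trans (if_neg (by decide))).trans (if_pos rfl)
  have fpqp : f (p * q * p) = d * e * d :=
    ((((if_neg (by decide)).trans (if_neg (by decide))).trans (if_neg (by decide))).trans (if_neg (by decide))).trans (if_neg (by decide))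
  have lp : ∀ σ, f (p * σ) = d * f σ := by
    intro σ
    rcases cases6 σ with rfl | rfl | rfl | rfl | rfl | rfl
    · rw [mul_one, fp, f1, mul_one]
    · rw [show p * p = 1 by decide, f1, fp, dd]
    · rw [fpq, fq]
    · rw [show p * (p * q) = q by decide, fq, fpq, ← mul_assoc, dd, one_mul]
    · rw [show p * (q * p) = p * q * p by decide, fpqp, fqp, mul_assoc]
    · rw [show p * (p * q * p) = q * p by decide, fqp, fpqp, ← mul_assoc, ← mul_assoc, dd, one_mul]
  have lq : ∀ σ, f (q * σ) = e * f σ := by
    intro σ
    rcases cases6 σ with rfl | rfl | rfl | rfl | rfl | rfl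
    · rw [mul_one, fq, f1, mul_one]
    · rw [fqp, fp]
    · rw [show q * q = 1 by decide, f1, fq, ee]
    · rw [show q * (p * q) = p * q * p by decide, fpqp, fpq, ← mul_assoc, ed]
    · rw [show q * (q * p) = p by decide, fp, fqp, ← mul_assoc, ee, one_mul]
    · rw [show q * (p * q * p) = p * q by decide, fpq, fpqp, ← ed, ← mul_assoc, ← mul_assoc, ee, one_mul]
  let φ : Equiv.Perm (Fin 3) →* G := MonoidHom.mk' f (by
    intro σ τ
    rcases cases6 σ with rfl | rfl | rfl | rfl | rfl | rfl
    · rw [one_mul, f1, one_mul]
    · rw [lp, fp]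
    · rw [lq, fq]
    · rw [mul_assoc p, lp, lq, fpq, mul_assoc]
    · rw [mul_assoc q, lq, lp, fqp, mul_assoc]
    · rw [mul_assoc (p * q), mul_assoc p, lp, lq, lp, fpqp]; group)
  have hinj : Function.Injective φ := by
    rw [injective_iff_map_eq_one]
    intro σ hσ
    change f σ = 1 at hσ
    have nd : d ≠ 1 := fun hx => h (hx ▸ Commute.one_left e)
    have ne' : e ≠ 1 := fun hx => h (hx ▸ Commute.one_right d)
    rcases cases6 σ with rfl | rfl | rfl | rfl | rfl | rfl
    · rfl
    · exact absurd (fp ▸ hσ) nd
    · exact absurd (fq ▸ hσ) ne'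
    · rw [fpq] at hσ
      have := mul_eq_one_iff_eq_inv.mp hσ
      rw [ei] at this
      exact absurd (this ▸ Commute.refl d) h
    · rw [fqp] at hσ
      have := mul_eq_one_iff_eq_inv.mp hσ
      rw [di] at this
      exact absurd (this ▸ Commute.refl d) h
    · rw [fpqp] at hσ
      exfalso
      apply ne'
      calc e = d * (d * e * d) * d := by
            rw [← mul_assoc, ← mul_assoc, dd, one_mul, mul_assoc, dd, mul_one]
        _ = 1 := by rw [hσ, mul_one, dd]
  have hr : φ.range = Subgroup.closure ({d, e} : Set G) := by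
    apply le_antisymm
    · rintro _ ⟨σ, rfl⟩
      change f σ ∈ _
      have h1 : d ∈ Subgroup.closure ({d, e} : Set G) := Subgroup.subset_closure (by simp)
      have h2 : e ∈ Subgroup.closure ({d, e} : Set G) := Subgroup.subset_closure (by simp)
      rcases cases6 σ with rfl | rfl | rfl | rfl | rfl | rfl
      · rw [f1]; exact one_mem _
      · rwa [fp]
      · rwa [fq]
      · rw [fpq]; exact mul_mem h1 h2
      · rw [fqp]; exact mul_mem h2 h1
      · rw [fpqp]; exact mul_mem (mul_mem h1 h2) h1
    · rw [Subgroup.closure_le]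
      rintro x (rfl | rfl)
      · exact ⟨p, fp⟩
      · exact ⟨q, fq⟩
  exact ⟨((MonoidHom.ofInjective hinj).trans (MulEquiv.subgroupCongr hr)).symm⟩

end Cfsg.Agent.S0444
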