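import Cfsg.Statements.S2572
import Cfsg.Agent.Lib.TransvectionForm

set_option autoImplicit false
open Cfsg

namespace Cfsg.Agent.S2572

open Cfsg.Agent.TransvectionForm

/-- Centraliser of a transvection in GL_n(q), n ≥ 2: if t − 1 has rank one and square zero, the centraliser of t in GL_n(q) has order q^(2n−3) (q − 1) |GL_(n−2)(q)| (a group of order q^(2n−3) extended by GL_1(q) × GL_(n−2)(q)). -/
theorem result {F : Type*} [Field F] [Fintype F] {q n : ℕ} (hF : Fintype.card F = q) (hn : 2 ≤ n) (t : GL (Fin n) F) (ht : Cfsg.IsTransvection (t : Matrix (Fin n) (Fin n) F)) : Nat.card ↥(Subgroup.centralizer ({t} : Set (GL (Fin n) F))) = q ^ (2 * n - 3) * (q - 1) * ∏ i : Fin (n - 2), (q ^ (n - 2) - q ^ (i : ℕ)) := by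
  classical
  subst hF
  obtain ⟨k, rfl⟩ : ∃ k, n = 2 + k := ⟨n - 2, by omega⟩
  obtain ⟨P, hP, htP⟩ := exists_normal_form _ ht.1 ht.2
  let M := (t : Matrix (Fin (2 + k)) (Fin (2 + k)) F) - 1
  let R := Matrix.reindexAlgEquiv F F (finSumFinEquiv (m := 2) (n := k))
  obtain ⟨U, hU⟩ := hP
  let φ : Matrix (Fin 2 ⊕ Fin k) (Fin 2 ⊕ Fin k) F ≃* Matrix (Fin (2 + k)) (Fin (2 + k)) F :=
    { toFun := fun X => U.1 * R X * (U⁻¹ : GL (Fin (2 + k)) F).1
      invFun := fun Y => R.symm ((U⁻¹ : GL (Fin (2 + k)) F).1 * Y * U.1)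
      left_inv := fun X => by simp [mul_assoc]
      right_inv := fun Y => by simp [mul_assoc]
      map_mul' := fun X Y => by simp [mul_assoc] }
  have hφ : φ (std F k) = M := by
    show U.1 * R (std F k) * (U⁻¹ : GL (Fin (2 + k)) F).1 = M
    rw [hU, show P * R (std F k) = M * P from htP.symm, ← hU, mul_assoc, Units.mul_inv, mul_one]
  rw [← (show Nat.card {g : GL (Fin 2 ⊕ Fin k) F // std F k * (g : Matrix (Fin 2 ⊕ Fin k) (Fin 2 ⊕ Fin k) F) = (g : Matrix (Fin 2 ⊕ Fin k) (Fin 2 ⊕ Fin k) F) * std F k}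
      = Nat.card ↥(Subgroup.centralizer ({t} : Set (GL (Fin (2 + k)) F))) from ?_), card_cent,
    show 2 * (2 + k) - 3 = 2 * k + 1 by omega, show 2 + k - 2 = k by omega]
  refine Nat.card_congr ((Units.mapEquiv φ).toEquiv.subtypeEquiv fun g => ?_)
  rw [Subgroup.mem_centralizer_singleton_iff, ← φ.injective.eq_iff, map_mul, map_mul, hφ, Units.ext_iff]
  show M * φ g = φ g * M ↔ φ g * (t : Matrix (Fin (2 + k)) (Fin (2 + k)) F) = (t : Matrix (Fin (2 + k)) (Fin (2 + k)) F) * φ g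
  simp only [M, sub_mul, mul_sub, one_mul, mul_one, sub_left_inj]
  exact eq_comm

end Cfsg.Agent.S2572
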