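import Cfsg.Statements.S0445
import Cfsg.Agent.S2572

set_option autoImplicit false
open Cfsg

namespace Cfsg.Agent.S0445

/-- In the special linear group of dimension 5 over the field with two elements, the centraliser of a transvection has order 21504 = 2 ^ 7 · 168 (it is an extension of an extraspecial group of order 2 ^ 7 by the simple group of order 168). -/
theorem result (s : Matrix.SpecialLinearGroup (Fin 5) (ZMod 2)) (hs : (s : Matrix (Fin 5) (Fin 5) (ZMod 2)) = Matrix.transvection 0 1 1) : Nat.card (Subgroup.centralizer ({s} : Set (Matrix.SpecialLinearGroup (Fin 5) (ZMod 2)))) = 21504 := by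
  classical
  have hone : ∀ g : GL (Fin 5) (ZMod 2), (g : Matrix (Fin 5) (Fin 5) (ZMod 2)).det = 1 := fun g => by
    have h := ((Matrix.isUnit_iff_isUnit_det _).1 g.isUnit)
    rw [isUnit_iff_ne_zero] at h
    revert h
    generalize (g : Matrix (Fin 5) (Fin 5) (ZMod 2)).det = x
    revert x
    decide
  let e : Matrix.SpecialLinearGroup (Fin 5) (ZMod 2) ≃* GL (Fin 5) (ZMod 2) :=
    MulEquiv.ofBijective Matrix.SpecialLinearGroup.toGL
      ⟨Matrix.SpecialLinearGroup.toGL_injective, fun g =>
        ⟨(⟨(g : Matrix (Fin 5) (Fin 5) (ZMod 2)), hone g⟩ : Matrix.SpecialLinearGroup (Fin 5) (ZMod 2)),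
          Units.ext (Matrix.ext fun i j => Eq.refl _)⟩⟩
  have hs1 : (s : Matrix (Fin 5) (Fin 5) (ZMod 2)) - 1 = Matrix.single 0 1 1 := by
    rw [hs, Matrix.transvection, add_sub_cancel_left]
  have ht : IsTransvection ((e s : GL (Fin 5) (ZMod 2)) : Matrix (Fin 5) (Fin 5) (ZMod 2)) := by
    show ((s : Matrix (Fin 5) (Fin 5) (ZMod 2)) - 1).rank = 1 ∧ _
    refine ⟨?_, ?_⟩
    · rw [hs1]
      refine le_antisymm ?_ ?_
      · rw [Matrix.single_eq_single_vecMulVec_single]
        exact Matrix.rank_vecMulVec_le _ _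
      · rw [Matrix.rank, Nat.one_le_iff_ne_zero, ne_eq, Submodule.finrank_eq_zero, LinearMap.range_eq_bot]
        intro h
        have := congrFun (LinearMap.congr_fun h (Pi.single 1 1)) 0
        simp at this
    · show ((s : Matrix (Fin 5) (Fin 5) (ZMod 2)) - 1) * ((s : Matrix (Fin 5) (Fin 5) (ZMod 2)) - 1) = 0
      rw [hs1]
      simp
  have h := Agent.S2572.result (ZMod.card 2) (by norm_num) (e s) ht
  rw [show Nat.card ↥(Subgroup.centralizer ({s} : Set (Matrix.SpecialLinearGroup (Fin 5) (ZMod 2)))) =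
      Nat.card ↥(Subgroup.centralizer ({e s} : Set (GL (Fin 5) (ZMod 2)))) from ?_, h]
  · decide
  · refine Nat.card_congr (e.toEquiv.subtypeEquiv fun g => ?_)
    simp only [Subgroup.mem_centralizer_singleton_iff]
    show g * s = s * g ↔ e g * e s = e s * e g
    rw [← map_mul, ← map_mul, e.injective.eq_iff]

end Cfsg.Agent.S0445
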