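import Mathlib
import Cfsg.Prelude.Def_SporadicB

set_option autoImplicit false
open Cfsg
namespace Cfsg.Agent.S0446

theorem result {G : Type*} [Group G] [Finite G] (h : Even (Nat.card G)) : ∃ t : G, Cfsg.IsTwoCentralInvolution t := by
  haveI : Fact (Nat.Prime 2) := ⟨Nat.prime_two⟩
  obtain ⟨P⟩ := (Sylow.nonempty : Nonempty (Sylow 2 G))
  have hne : Nontrivial (P : Subgroup G) := by
    rw [Subgroup.nontrivial_iff_ne_bot]
    exact P.ne_bot_of_dvd_card (even_iff_two_dvd.mp h)
  have hZ : Nontrivial (Subgroup.center (P : Subgroup G)) := P.isPGroup'.center_nontrivial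
  have hZp : IsPGroup 2 (Subgroup.center (P : Subgroup G)) :=
    P.isPGroup'.to_subgroup _
  obtain ⟨n, hn, hc⟩ := hZp.nontrivial_iff_card.mp hZ
  have h2 : 2 ∣ Nat.card (Subgroup.center (P : Subgroup G)) := by
    rw [hc]; exact dvd_pow_self 2 hn.ne'
  obtain ⟨z, hz⟩ := exists_prime_orderOf_dvd_card' 2 h2
  refine ⟨((z : (P : Subgroup G)) : G), ?_, P, (z : (P : Subgroup G)).2, ?_⟩
  · rw [Subgroup.orderOf_coe, Subgroup.orderOf_coe]; exact hz
  · intro x hx
    have := Subgroup.mem_center_iff.mp z.2 ⟨x, hx⟩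
    exact congrArg Subtype.val this

end Cfsg.Agent.S0446
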