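import Cfsg.Statements.S0454
import Cfsg.Agent.Lib.LyCentCover46
import Cfsg.Agent.Lib.LyCentAction46

set_option autoImplicit false
open Cfsg

namespace Cfsg.Agent.S0454

/-- Existence of the Lyons group: there is a transitive permutation group of degree 8835156, simple of order 51765179004000000, whose point stabiliser is simple of the order of a group of type G2, and which has an involution whose centraliser is a non-split double cover of the alternating group of degree 11. -/
theorem result : ∃ H : Subgroup (Equiv.Perm (Fin 8835156)), Cfsg.IsLy H ∧ MulAction.IsPretransitive H (Fin 8835156) ∧ Cfsg.IsG2 (MulAction.stabilizer H (0 : Fin 8835156)) ∧ ∃ t : H, orderOf t = 2 ∧ Cfsg.IsNonsplitDoubleCover (Subgroup.centralizer ({t} : Set H)) (alternatingGroup (Fin 11)) := by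
  obtain ⟨-, ho, hcover⟩ := LyCentCover46.cover
  have hidx : Nat.card (LyOrbitCore41.L ⧸ LyG2Five64.HLy) = 8835156 :=
    (Subgroup.index_eq_card _).symm.trans LyOrbitIndex41.index_value
  exact LyCentAction46.exists_action LyG2Five64.HLy (⟨LyOrbitIndex41.simple, LyOrbitIndex41.order⟩) hidx
    ⟨LyOrbitCount41.simple_H, 5, Nat.Prime.isPrimePow (by norm_num), by norm_num,
      LyOrbitCount41.card_H.trans (by norm_num)⟩ LyCentRep46.tt ho hcover

end Cfsg.Agent.S0454
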