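import Cfsg.Statements.S0459
import Cfsg.Agent.Lib.RuAction66
import Cfsg.Agent.Lib.RuPermTitsSimple66

set_option autoImplicit false
open Cfsg

namespace Cfsg.Agent.S0459

/-- The Rudvalis group exists as a transitive permutation group of degree 4060: simple of order 145926144000, with point stabiliser of order 35942400 containing a simple subgroup of order 17971200 (the order of the Tits group). -/
theorem result : ∃ H : Subgroup (Equiv.Perm (Fin 4060)), Cfsg.IsRu H ∧ MulAction.IsPretransitive H (Fin 4060) ∧ Nat.card (MulAction.stabilizer H (0 : Fin 4060)) = 35942400 ∧ ∃ T : Subgroup (MulAction.stabilizer H (0 : Fin 4060)), Cfsg.IsTits T := by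
  have hcard := Cfsg.Agent.RuAction66.card_GG
  obtain ⟨T, hT, hTc⟩ := Cfsg.Agent.RuPermGroup66.exists_subgroup hcard
  refine ⟨Cfsg.Agent.RuPermGroup66.GG,
    ⟨Cfsg.Agent.RuPermGroup66.isSimpleGroup_GG hcard, hcard⟩, ⟨fun x y => ?_⟩,
    Cfsg.Agent.RuPermGroup66.card_stab hcard, T, hT, hTc⟩
  obtain ⟨σ, hσ, h1⟩ := Cfsg.Agent.RuPermGroup66.transitive_GG x
  obtain ⟨τ, hτ, h2⟩ := Cfsg.Agent.RuPermGroup66.transitive_GG y
  refine ⟨⟨τ, hτ⟩ * ⟨σ, hσ⟩⁻¹, ?_⟩
  show τ (σ⁻¹ x) = y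
  rw [← h1, Equiv.Perm.inv_eq_iff_eq.mpr rfl, h2]

end Cfsg.Agent.S0459
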