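import Cfsg.Statements.S0460
import Cfsg.Agent.Lib.ONM11Sub90
import Cfsg.Agent.Lib.ONJ1Sub90

set_option autoImplicit false
open Cfsg

namespace Cfsg.Agent.S0460

/-- The O'Nan group exists as a transitive permutation group of degree 122760: simple of order 460815505920, point stabiliser of order 3753792, and containing simple subgroups of orders 175560 and 7920. -/
theorem result : ∃ H : Subgroup (Equiv.Perm (Fin 122760)), Cfsg.IsON H ∧ MulAction.IsPretransitive H (Fin 122760) ∧ Nat.card (MulAction.stabilizer H (0 : Fin 122760)) = 3753792 ∧ (∃ K : Subgroup H, Cfsg.IsJ1 K) ∧ (∃ K : Subgroup H, Cfsg.IsM11 K) := by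
  haveI := Cfsg.Agent.ONGroup90.finite_ON
  haveI := Cfsg.Agent.ONGroup90.simple_ON
  let rep := Cfsg.Agent.ONRep64.rep
  let e : Cfsg.Spor.ON ≃* rep.range := MonoidHom.ofInjective Cfsg.Agent.ONGroup90.rep_injective
  refine ⟨rep.range, ⟨e.symm.isSimpleGroup, ?_⟩, ⟨fun i j => ?_⟩, ?_, ?_, ?_⟩
  · rw [← Nat.card_congr e.toEquiv, Cfsg.Agent.ONGroup90.card_ON]
  · obtain ⟨k, hk⟩ := Cfsg.Agent.ONIndex90.exists_rep_eq i
    obtain ⟨l, hl⟩ := Cfsg.Agent.ONIndex90.exists_rep_eq j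
    refine ⟨⟨rep (l * k⁻¹), ⟨_, rfl⟩⟩, ?_⟩
    show rep (l * k⁻¹) i = j
    rw [map_mul, map_inv, Equiv.Perm.mul_apply, ← hk, Equiv.Perm.inv_def, Equiv.symm_apply_apply, hl]
  · rw [← Cfsg.Agent.ONGroup90.card_HH]
    let f : Cfsg.Agent.ONSubgroup64.HH → MulAction.stabilizer rep.range (0 : Fin 122760) := fun k =>
      ⟨e (k : Cfsg.Spor.ON), MulAction.mem_stabilizer_iff.2 (Cfsg.Agent.ONIndex90.rep_fix k.2)⟩
    refine Nat.card_congr (Equiv.ofBijective f ⟨?_, ?_⟩).symm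
    · intro a b h
      exact Subtype.ext (e.injective (congrArg Subtype.val h))
    · rintro ⟨p, hp⟩
      obtain ⟨k, rfl⟩ := e.surjective p
      exact ⟨⟨k, Cfsg.Agent.ONGroup90.rep_eq_zero (MulAction.mem_stabilizer_iff.1 hp)⟩, rfl⟩
  · obtain ⟨K, hs, hc⟩ := Cfsg.Agent.ONJ1Sub90.exists_J1
    haveI := hs
    exact ⟨K.map e.toMonoidHom, (K.equivMapOfInjective _ e.injective).symm.isSimpleGroup,
      (Nat.card_congr (K.equivMapOfInjective _ e.injective).toEquiv).symm.trans hc⟩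
  · obtain ⟨K, hs, hc⟩ := Cfsg.Agent.ONM11Sub90.exists_M11
    haveI := hs
    exact ⟨K.map e.toMonoidHom, (K.equivMapOfInjective _ e.injective).symm.isSimpleGroup,
      (Nat.card_congr (K.equivMapOfInjective _ e.injective).toEquiv).symm.trans hc⟩

end Cfsg.Agent.S0460
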