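import Cfsg.Statements.S0462
import Cfsg.Agent.Lib.CosetCertSp44
-- import your own Cfsg.Agent.* helpers here

set_option autoImplicit false
open Cfsg

namespace Cfsg.Agent.S0462

open CosetCertCore CosetCertTable CosetCertPres CosetCertOrder in
open CosetCertSp44 (PH TH HH) in
theorem main : ∃ H : Subgroup (Equiv.Perm (Fin TH.N)), Cfsg.IsHe H ∧
    MulAction.IsPretransitive H (Fin TH.N) ∧
      Nonempty (HH ≃* MulAction.stabilizer H (⟨0, CosetCertHeH.enumerated.table.npos⟩ : Fin TH.N)) := by
  haveI := CosetCertHeSimple.simple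
  set ρ := rho CosetCertHeH.enumerated with hρ
  have hinj : Function.Injective ρ := CosetCertHeSimple.card_and_faithful.2
  let e := MonoidHom.ofInjective hinj
  obtain ⟨φ, hφ0, hφ⟩ := exists_coset_equiv CosetCertHeH.enumerated
  have hmem : ∀ k, ρ k ⟨0, CosetCertHeH.enumerated.table.npos⟩ = ⟨0, CosetCertHeH.enumerated.table.npos⟩ →
      k ∈ HH := by
    intro k hk
    have h := congrArg φ hk
    rw [hφ, hφ0] at h
    have h1 : ((k * 1 : Pres.Grp PH) : Pres.Grp PH ⧸ HH) = ((1 : Pres.Grp PH) : Pres.Grp PH ⧸ HH) := h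
    rwa [mul_one, QuotientGroup.eq, mul_one, inv_mem_iff] at h1
  haveI : Nontrivial ρ.range := e.toEquiv.symm.nontrivial
  refine ⟨ρ.range, ⟨IsSimpleGroup.isSimpleGroup_of_surjective e.toMonoidHom e.surjective, ?_⟩, ⟨?_⟩, ⟨?_⟩⟩
  · rw [← Nat.card_congr e.toEquiv]
    exact CosetCertHeSimple.card_and_faithful.1
  · intro i j
    induction hi : φ i using QuotientGroup.induction_on with | H a => ?_
    induction hj : φ j using QuotientGroup.induction_on with | H b => ?_
    refine ⟨e (b * a⁻¹), φ.injective ?_⟩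
    show φ (ρ (b * a⁻¹) i) = φ j
    rw [hφ, hi, hj]
    show (((b * a⁻¹) * a : Pres.Grp PH) : Pres.Grp PH ⧸ HH) = _
    rw [inv_mul_cancel_right]
  · refine MulEquiv.ofBijective
      ((((e.toMonoidHom).comp HH.subtype)).codRestrict _ fun k => ?_) ⟨?_, ?_⟩
    · rw [MulAction.mem_stabilizer_iff]
      exact rho_sub_zero CosetCertHeH.enumerated k k.2
    · intro a b h
      exact Subtype.ext (e.injective (congrArg Subtype.val h))
    · rintro ⟨x, hx⟩
      obtain ⟨k, rfl⟩ := e.surjective x
      exact ⟨⟨k, hmem k hx⟩, rfl⟩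

/-- The Held group exists as a transitive permutation group of degree 2058: simple of order 4030387200, with point stabiliser containing, with index 2, a copy of the 4-dimensional symplectic group over the field with four elements. -/
theorem result : ∃ H : Subgroup (Equiv.Perm (Fin 2058)), Cfsg.IsHe H ∧ MulAction.IsPretransitive H (Fin 2058) ∧ ∃ (F : Type) (_ : Field F) (_ : Fintype F), Fintype.card F = 4 ∧ ∃ N : Subgroup (MulAction.stabilizer H (0 : Fin 2058)), N.index = 2 ∧ Nonempty (N ≃* Matrix.symplecticGroup (Fin 2) F) := by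
  letI : Fintype (GaloisField 2 2) := Fintype.ofFinite _
  have h4 : Fintype.card (GaloisField 2 2) = 4 := by
    rw [← Nat.card_eq_fintype_card, GaloisField.card 2 2 (by norm_num)]
    norm_num
  haveI : UnitaryF4Geo.FourField (GaloisField 2 2) := ⟨h4⟩
  obtain ⟨w, hw⟩ := UnitaryF4Geo.exists_omega (F := GaloisField 2 2)
  obtain ⟨hidx, ⟨e⟩⟩ := CosetCertSp44.fstR_range hw
  obtain ⟨H, hH, hT, ⟨f⟩⟩ := main
  refine ⟨H, hH, hT, GaloisField 2 2, inferInstance, inferInstance, h4,
    (CosetCertSp44.fstR w).range.map f.toMonoidHom, ?_, ⟨?_⟩⟩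
  · exact (Subgroup.index_map_of_bijective f.bijective _).trans hidx
  · exact ((Subgroup.equivMapOfInjective _ _ f.injective).symm).trans e

end Cfsg.Agent.S0462
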