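import Cfsg.Statements.S0471
import Cfsg.Agent.Lib.CosetCertU62
import Cfsg.Agent.Lib.CosetCertThreeTrans
-- import your own Cfsg.Agent.* helpers here

set_option autoImplicit false
open Cfsg

namespace Cfsg.Agent.S0471

open Cfsg.Agent.CosetCertCore Cfsg.Agent.CosetCertTable Cfsg.Agent.CosetCertPres Cfsg.Agent.CosetCertOrder
open Cfsg.Agent.CosetCertRestrict Cfsg.Agent.CosetCertThreeTrans
open Cfsg.Agent.CosetCertU62 (P22 T22 HH g9)

/-- Words leading to the three suborbit roots. -/
abbrev KS : List (List Nat) := [[], [1], [1, 0, 2, 1]]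

theorem g9_zero : ((g9 0 : HH) : Pres.Grp P22) = P22.gg 0 := by
  show val P22.gg (CosetCertU62.W9.getD 0 []) = _
  rw [show CosetCertU62.W9.getD 0 [] = [0] from by decide +kernel, val_cons, val_nil, mul_one]

theorem z_facts {F : Type} [Field F] [Fintype F] [UnitaryF4Geo.FourField F] {w : F}
    (hw : w ^ 2 = w + 1) : orderOf (P22.gg 0) = 2 ∧
    Subgroup.centralizer ({P22.gg 0} : Set (Pres.Grp P22)) = HH := by
  haveI : Finite (Pres.Grp P22) := CosetCertFi22Simple.upper.1
  haveI := CosetCertFi22Simple.simple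
  have h1 : P22.gg 0 ≠ 1 := by
    intro h
    have h2 := rho_gg CosetCertFi22U.enumerated 0 (by decide +kernel)
    rw [h, map_one] at h2
    have h3 := congrArg (fun p : Equiv.Perm (Fin T22.N) => ((p ⟨1, by decide +kernel⟩) : Nat)) h2
    simp only [Equiv.Perm.one_apply] at h3
    rw [perm_apply CosetCertFi22U.enumerated.table (by decide +kernel : 0 < T22.NG)] at h3
    exact absurd h3 (by decide +kernel)
  refine ⟨?_, centralizer_eq ?_ h1 ?_ CosetCertFi22Simple.maximal⟩
  · exact orderOf_eq_prime (by rw [pow_two]; exact CosetCertFi22Simple.invol 0) h1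
  · rw [CosetCertFi22Simple.card_and_faithful.1]
    intro hp
    exact absurd (hp.eq_one_or_self_of_dvd 2 (by norm_num)) (by norm_num)
  · intro u hu
    rw [Subgroup.mem_centralizer_singleton_iff, ← g9_zero]
    exact congrArg Subtype.val (central_of_card_two (CosetCertU62.ker_two hw) (CosetCertU62.theta_zero hw)
      (fun h => h1 (by rw [← g9_zero, h]; rfl)) ⟨u, hu⟩)

theorem check : ∀ j < 3, T22.run ((KS.getD j []).reverse ++ [0] ++ KS.getD j []) 0 = 0 ∨
    T22.run (KS.getD j [] ++ [0]) 0 = T22.run ((KS.getD j []).reverse ++ [0] ++ KS.getD j []) 0 ∧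
      T22.run (KS.getD j [] ++ [0]) 0 < T22.N := by
  decide +kernel

theorem roots_ok : ∀ k < CosetCertFi22UData.roots.length,
    CosetCertFi22UData.roots.getD k 0 < T22.N ∧
    oLabel (entry CosetCertFi22UData.orbTbl 48 (CosetCertFi22UData.roots.getD k 0)) = k ∧
    (∀ x ∈ KS.getD k [], x < T22.NG) ∧
    T22.run (KS.getD k []) 0 = CosetCertFi22UData.roots.getD k 0 := by
  decide +kernel

theorem main {F : Type} [Field F] [Fintype F] [UnitaryF4Geo.FourField F] {w : F}
    (hw : w ^ 2 = w + 1) : Cfsg.IsFi22 (Pres.Grp P22) ∧ ∃ D : Set (Pres.Grp P22),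
    Cfsg.IsThreeTranspositionClass D ∧ Nat.card D = 3510 ∧
      ∀ d ∈ D, Cfsg.IsNonsplitDoubleCover (Subgroup.centralizer ({d} : Set (Pres.Grp P22))) (Cfsg.PSU 6 F 2) := by
  haveI : Finite (Pres.Grp P22) := CosetCertFi22Simple.upper.1
  haveI := CosetCertFi22Simple.simple
  obtain ⟨hord, hC⟩ := z_facts hw
  have hz1 : P22.gg 0 ≠ 1 := fun h => by rw [h, orderOf_one] at hord; omega
  have hrev : ∀ u : List Nat, val P22.gg u.reverse = (val P22.gg u)⁻¹ :=
    val_reverse _ CosetCertFi22Simple.invol
  have hz : val P22.gg [0] = P22.gg 0 := by rw [val_cons, val_nil, mul_one]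
  have hzi : (P22.gg 0)⁻¹ = P22.gg 0 := inv_eq_of_mul_eq_one_left (CosetCertFi22Simple.invol 0)
  refine ⟨⟨CosetCertFi22Simple.simple, CosetCertFi22Simple.card_and_faithful.1⟩,
    conjugatesOf (P22.gg 0), ⟨three_trans_set hord hC _ (cover_reps CosetCertFi22U.enumerated
      CosetCertFi22U.orbits (by decide +kernel) KS roots_ok) ?_, ⟨_, mem_conjugatesOf_self, rfl⟩,
      closure_conjugates hz1⟩,
    (card_conjugates hC).trans ((index_sub CosetCertFi22U.enumerated).trans rfl), fun d hd => ?_⟩
  · rintro k ⟨j, hj, rfl⟩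
    have hj : j < 3 := hj
    have hK : ∀ x ∈ KS.getD j [], x < T22.NG :=
      (by decide +kernel : ∀ j < 3, ∀ x ∈ KS.getD j [], x < T22.NG) j hj
    have hl1 : ∀ x ∈ (KS.getD j []).reverse ++ [0] ++ KS.getD j [], x < T22.NG := by
      intro x hx
      simp only [List.mem_append, List.mem_reverse, List.mem_singleton] at hx
      rcases hx with (h | rfl) | h
      exacts [hK x h, (by decide +kernel), hK x h]
    have hl2 : ∀ x ∈ KS.getD j [] ++ [0], x < T22.NG := by
      intro x hx
      simp only [List.mem_append, List.mem_singleton] at hx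
      rcases hx with h | rfl
      exacts [hK x h, (by decide +kernel)]
    rcases check j hj with h | ⟨h, hlt⟩
    · left
      have h2 := coset_eq CosetCertFi22U.enumerated _ [] hl1 (by simp)
        (by rw [h]; exact CosetCertFi22U.enumerated.table.npos) h
      rw [val_nil, inv_one, QuotientGroup.eq, mul_one, inv_inv, val_append, val_append, hrev, hz] at h2
      rw [inv_inv]
      exact h2
    · right
      have h2 := coset_eq CosetCertFi22U.enumerated _ _ hl2 hl1 hlt h
      simp only [val_append, hrev, hz, mul_inv_rev, inv_inv, hzi] at h2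
      simpa [mul_assoc] using h2
  · obtain ⟨e⟩ := centralizer_iso hd
    exact doubleCover_congr ((MulEquiv.subgroupCongr hC.symm).trans e) (CosetCertU62.double_cover hw)

/-- The Fischer group of order 64561751654400 exists as a 3-transposition group: a simple group of that order generated by a conjugacy class of 3510 3-transpositions, the centraliser of each being a non-split double cover of PSU(6, 2). -/
theorem result : ∃ (G : Type) (_ : Group G) (_ : Finite G), Cfsg.IsFi22 G ∧ ∃ D : Set G, Cfsg.IsThreeTranspositionClass D ∧ Nat.card D = 3510 ∧ ∀ d ∈ D, ∃ (F : Type) (_ : Field F) (_ : Fintype F), Fintype.card F = 4 ∧ Cfsg.IsNonsplitDoubleCover (Subgroup.centralizer ({d} : Set G)) (Cfsg.PSU 6 F 2) := by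
  letI : Fintype (GaloisField 2 2) := Fintype.ofFinite _
  have h4 : Fintype.card (GaloisField 2 2) = 4 := by
    rw [← Nat.card_eq_fintype_card, GaloisField.card 2 2 (by norm_num)]
    norm_num
  haveI : UnitaryF4Geo.FourField (GaloisField 2 2) := ⟨h4⟩
  obtain ⟨w, hw⟩ := UnitaryF4Geo.exists_omega (F := GaloisField 2 2)
  obtain ⟨h22, D, hD, hc, hall⟩ := main hw
  exact ⟨Pres.Grp P22, inferInstance, CosetCertFi22Simple.upper.1, h22, D, hD, hc,
    fun d hd => ⟨GaloisField 2 2, inferInstance, inferInstance, h4, hall d hd⟩⟩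

end Cfsg.Agent.S0471
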