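import Cfsg.Statements.S0472
import Cfsg.Agent.Lib.CosetCertFi23Simple
import Cfsg.Agent.Lib.CosetCertThreeTrans
-- import your own Cfsg.Agent.* helpers here

set_option autoImplicit false
open Cfsg

namespace Cfsg.Agent.S0472

open Cfsg.Agent.CosetCertCore Cfsg.Agent.CosetCertTable Cfsg.Agent.CosetCertPres Cfsg.Agent.CosetCertOrder
open Cfsg.Agent.CosetCertRestrict Cfsg.Agent.CosetCertThreeTrans
open Cfsg.Agent.CosetCertFi23Simple (P23 Q22 SIG ZW)

/-- The word of the central involution of the point stabiliser. -/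
abbrev ZZ : List Nat := ZW.map (ren SIG)

/-- Words leading to the three suborbit roots. -/
abbrev KS : List (List Nat) := [[], [7], [7, 6, 5, 4, 3, 2, 8, 3, 4, 5, 6, 7]]

theorem z_facts : orderOf (val P23.gg ZZ) = 2 ∧
    Subgroup.centralizer ({val P23.gg ZZ} : Set (Pres.Grp P23)) = P23.sub CosetCertFi23FData.subgens := by
  haveI : Finite (Pres.Grp P23) := CosetCertFi23Simple.upper.1
  haveI := CosetCertFi23Simple.simple
  obtain ⟨ψ, he, hzk, hz1, -⟩ := CosetCertFi23Simple.cover
  have hker := CosetCertFi23Simple.ker_cases ψ he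
  set zs := val (spanGen (Pres.gg P23) SIG (by simp)) ZW with hzs
  have hzval : (zs : Pres.Grp P23) = val P23.gg ZZ := spanGen_val _ _ _ _
  have hzs1 : zs ≠ 1 := fun h => hz1 (by
    show rho CosetCertFi23F.enumerated (zs : Pres.Grp P23) = 1
    rw [h]; exact map_one _)
  have hord : orderOf zs = 2 := by
    have h := orderOf_dvd_natCard (⟨zs, hzk⟩ : ψ.ker)
    rw [hker, ← orderOf_injective ψ.ker.subtype Subtype.coe_injective ⟨zs, hzk⟩] at h
    exact ((Nat.dvd_prime Nat.prime_two).mp h).resolve_left fun h1 => hzs1 (orderOf_eq_one_iff.mp h1)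
  refine ⟨?_, centralizer_eq ?_ ?_ ?_ CosetCertFi23Simple.maximal⟩
  · rw [← hzval, Subgroup.orderOf_coe, hord]
  · rw [CosetCertFi23Simple.card_p]
    intro hp
    exact absurd (hp.eq_one_or_self_of_dvd 2 (by norm_num)) (by norm_num)
  · intro h1
    exact hzs1 (Subtype.ext (hzval.trans h1))
  · intro u hu
    rw [CosetCertFi23Simple.sub_eq_span] at hu
    rw [Subgroup.mem_centralizer_singleton_iff, ← hzval]
    exact congrArg Subtype.val (central_of_card_two hker hzk hzs1 ⟨u, hu⟩)

theorem check : ∀ j < 3, CosetCertFi23FData.table.run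
      ((KS.getD j []).reverse ++ ZZ ++ KS.getD j []) 0 = 0 ∨
    CosetCertFi23FData.table.run (KS.getD j [] ++ ZZ.reverse) 0 =
      CosetCertFi23FData.table.run ((KS.getD j []).reverse ++ ZZ.reverse ++ KS.getD j []) 0 ∧
    CosetCertFi23FData.table.run (KS.getD j [] ++ ZZ.reverse) 0 < CosetCertFi23FData.table.N := by
  decide +kernel

theorem letters_ok : ∀ j < 3, (∀ x ∈ KS.getD j [], x < CosetCertFi23FData.table.NG) ∧
    (∀ x ∈ ZZ, x < CosetCertFi23FData.table.NG) := by
  decide +kernel

theorem roots_ok : ∀ k < CosetCertFi23FData.roots.length,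
    CosetCertFi23FData.roots.getD k 0 < CosetCertFi23FData.table.N ∧
    oLabel (entry CosetCertFi23FData.orbTbl 48 (CosetCertFi23FData.roots.getD k 0)) = k ∧
    (∀ x ∈ KS.getD k [], x < CosetCertFi23FData.table.NG) ∧
    CosetCertFi23FData.table.run (KS.getD k []) 0 = CosetCertFi23FData.roots.getD k 0 := by
  decide +kernel

theorem main : Cfsg.IsFi23 (Pres.Grp P23) ∧ ∃ D : Set (Pres.Grp P23),
    Cfsg.IsThreeTranspositionClass D ∧ Nat.card D = 31671 ∧
      ∀ d ∈ D, ∃ (K : Type) (_ : Group K), Cfsg.IsFi22 K ∧
        Cfsg.IsNonsplitDoubleCover (Subgroup.centralizer ({d} : Set (Pres.Grp P23))) K := by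
  haveI : Finite (Pres.Grp P23) := CosetCertFi23Simple.upper.1
  haveI := CosetCertFi23Simple.simple
  obtain ⟨hord, hC⟩ := z_facts
  have hz1 : val P23.gg ZZ ≠ 1 := fun h => by rw [h, orderOf_one] at hord; omega
  have hrev : ∀ w : List Nat, val P23.gg w.reverse = (val P23.gg w)⁻¹ :=
    val_reverse _ CosetCertFi23Simple.invol
  refine ⟨⟨CosetCertFi23Simple.simple, CosetCertFi23Simple.card_p⟩, conjugatesOf (val P23.gg ZZ),
    ⟨three_trans_set hord hC _ (cover_reps CosetCertFi23F.enumerated CosetCertFi23F.orbits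
      (by decide +kernel) KS roots_ok) ?_, ⟨_, mem_conjugatesOf_self, rfl⟩, closure_conjugates hz1⟩,
    (card_conjugates hC).trans ((index_sub CosetCertFi23F.enumerated).trans rfl), fun d hd => ?_⟩
  · rintro k ⟨j, hj, rfl⟩
    have hj : j < 3 := hj
    obtain ⟨hK, hZ⟩ := letters_ok j hj
    have hl : ∀ x ∈ (KS.getD j []).reverse ++ ZZ ++ KS.getD j [], x < CosetCertFi23FData.table.NG := by
      intro x hx
      simp only [List.mem_append, List.mem_reverse] at hx
      rcases hx with (h | h) | h
      exacts [hK x h, hZ x h, hK x h]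
    rcases check j hj with h | ⟨h, hlt⟩
    · left
      have := coset_eq CosetCertFi23F.enumerated _ [] hl (by simp) (by rw [h]; exact CosetCertFi23F.enumerated.table.npos) h
      rw [val_nil, inv_one, QuotientGroup.eq, mul_one, inv_inv, val_append, val_append, hrev] at this
      have h2 : (val P23.gg (KS.getD j []))⁻¹ * val P23.gg ZZ * val P23.gg (KS.getD j []) ∈
        P23.sub CosetCertFi23FData.subgens := this
      rwa [inv_inv]
    · right
      have := coset_eq CosetCertFi23F.enumerated _ _ (by
          intro x hx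
          simp only [List.mem_append, List.mem_reverse] at hx
          rcases hx with h | h
          exacts [hK x h, hZ x h]) (by
          intro x hx
          simp only [List.mem_append, List.mem_reverse] at hx
          rcases hx with (h | h) | h
          exacts [hK x h, hZ x h, hK x h]) hlt h
      simp only [val_append, hrev, mul_inv_rev, inv_inv] at this
      simpa [mul_assoc] using this
  · obtain ⟨e⟩ := centralizer_iso hd
    refine ⟨Pres.Grp Q22, inferInstance, ⟨CosetCertFi22Simple.simple, CosetCertFi23Simple.card_q⟩,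
      doubleCover_congr ?_ (show Cfsg.IsNonsplitDoubleCover _ _ from CosetCertFi23Simple.double_cover)⟩
    exact (MulEquiv.subgroupCongr (CosetCertFi23Simple.sub_eq_span.symm.trans hC.symm)).trans e

/-- The Fischer group of order 4089470473293004800 exists as a 3-transposition group: a simple group of that order generated by a conjugacy class of 31671 3-transpositions, the centraliser of each being a non-split double cover of a simple group of order 64561751654400. -/
theorem result : ∃ (G : Type) (_ : Group G) (_ : Finite G), Cfsg.IsFi23 G ∧ ∃ D : Set G, Cfsg.IsThreeTranspositionClass D ∧ Nat.card D = 31671 ∧ ∀ d ∈ D, ∃ (K : Type) (_ : Group K), Cfsg.IsFi22 K ∧ Cfsg.IsNonsplitDoubleCover (Subgroup.centralizer ({d} : Set G)) K := by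
  exact ⟨Pres.Grp P23, inferInstance, CosetCertFi23Simple.upper.1, main⟩

end Cfsg.Agent.S0472
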