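import Cfsg.Statements.S0476
import Cfsg.Agent.Lib.J4XCentCore12
import Cfsg.Agent.Lib.J4XCentTop12
import Cfsg.Agent.Lib.J4XCentReps12
import Cfsg.Agent.Lib.J4XCentCode12
import Cfsg.Agent.Lib.J4XCentQ12

set_option autoImplicit false
set_option maxRecDepth 100000
open Cfsg

namespace Cfsg.Agent.S0476

/-- In some simple group of the order of Janko's fourth group there is an involution whose centraliser C has a normal extraspecial subgroup Q of order 2 ^ 13, a normal subgroup N of order 3 · 2 ^ 13 containing Q, and a subgroup M of index 2 containing N as a normal subgroup with M / N simple of order 443520. -/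
theorem result : ∃ (G : Type) (_ : Group G) (_ : Finite G), Cfsg.IsJ4 G ∧ ∃ z : G, orderOf z = 2 ∧ ∃ (Q N M : Subgroup (Subgroup.centralizer ({z} : Set G))), Q.Normal ∧ N.Normal ∧ Q ≤ N ∧ N ≤ M ∧ Nat.card Q = 2 ^ 13 ∧ Cfsg.IsExtraspecial 2 Q ∧ Nat.card N = 3 * 2 ^ 13 ∧ M.index = 2 ∧ ∃ (_ : (N.subgroupOf M).Normal), Cfsg.IsM22 (M ⧸ N.subgroupOf M) := by
  have hfin : Finite Cfsg.Spor.J4 := J4XCentTop12.finite
  obtain ⟨hsize, hcover⟩ := J4XCentTop12.orbits
  have h77 := J4XCentCount12.carried_cosets_le J4XDe23.setup J4XCentTop12.genBase J4XCentTop12.psiInj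
    (J4XFacts18.rep J4XDe23.setup) hsize hcover
    (J4XCentReps12.rep_le J4XDe23.setup J4XCentTop12.repHyp J4XCentTop12.genBase J4XLaws10.laws)
  exact ⟨Cfsg.Spor.J4, inferInstance, hfin, J4XConcrete18.facts.2.2,
    J4XCentCore12.core J4XDe23.setup J4XCentTop12.repHyp J4XLaws10.laws J4XCentTop12.genBase
      J4XCentTop12.psiInj J4XCentTop12.card_base h77
      (fun i hi => J4XCentCode12.gperm_mem hi) J4XCentCode12.hex_act
      (fun g hg h => J4XCentCode12.eq_one_of_hexes hg h) J4XCentCode12.le_card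
      (fun _ => ⟨J4XCentCode12.m22, J4XCentCode12.m22_normal.2⟩)
      (J4XCentQ12.card_q J4XDe23.setup J4XLaws10.laws J4XCentTop12.psiInj)
      (J4XCentQ12.extra J4XDe23.setup J4XLaws10.laws J4XCentTop12.psiInj)
      (J4XCentQ12.c_order J4XDe23.setup J4XLaws10.laws J4XCentTop12.psiInj)
      (J4XCentQ12.c_norm J4XDe23.setup J4XLaws10.laws)⟩

end Cfsg.Agent.S0476
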