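import Cfsg.Statements.S0477
import Cfsg.Agent.Lib.LyMcL73Cent

set_option autoImplicit false
open Cfsg

namespace Cfsg.Agent.S0477

open Cfsg.Agent.LyOrbitCore41 Cfsg.Agent.LyMcL73Groups Cfsg.Agent.LyMcL73Local Cfsg.Agent.LyMcL73Cent in
/-- The centre and the quotient, for the centraliser of the chosen element. -/
theorem center_quot : Nat.card (Subgroup.center C) = 3 ∧ Cfsg.IsMcL (C ⧸ Subgroup.center C) := by
  haveI := LyOrbitIndex41.finite_L
  have hlift : ∀ N : Subgroup C, N.Normal → (⟨x, x_C⟩ : C) ∈ N →
      N = Subgroup.zpowers (⟨x, x_C⟩ : C) ∨ N = ⊤ := by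
    intro N hN hx
    have hinj := Subgroup.map_injective C.subtype_injective
    rcases normal_C (M := N.map C.subtype) (Subgroup.map_subtype_le N)
      (by
        rintro c hc _ ⟨m, hm, rfl⟩
        exact ⟨⟨c, hc⟩ * m * ⟨c, hc⟩⁻¹, hN.conj_mem m hm ⟨c, hc⟩, rfl⟩)
      ⟨_, hx, rfl⟩ with h | h
    · left
      exact hinj (h.trans (MonoidHom.map_zpowers C.subtype (⟨x, x_C⟩ : C)).symm)
    · right
      refine hinj (h.trans ?_)
      rw [← MonoidHom.range_eq_map, Subgroup.range_subtype]
  have hxc : (⟨x, x_C⟩ : C) ∈ Subgroup.center C :=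
    Subgroup.mem_center_iff.mpr fun c => Subtype.ext (mem_C.mp c.2)
  have hzc : Subgroup.center C = Subgroup.zpowers (⟨x, x_C⟩ : C) := by
    rcases hlift _ inferInstance hxc with h | h
    · exact h
    · exfalso
      obtain ⟨q, -, -, c, hc, hne⟩ := CH_moves
      have hab : ∀ a b : L, a ∈ CH → b ∈ CH → a * b = b * a := fun a b ha hb =>
        congrArg Subtype.val (Subgroup.mem_center_iff.mp (h ▸ Subgroup.mem_top (⟨b, CH_le_C hb⟩ : C))
          ⟨a, CH_le_C ha⟩)
      have hbot : ⁅CH, CH⁆ = ⊥ := by
        rw [eq_bot_iff, Subgroup.commutator_le]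
        intro a ha b hb
        rw [Subgroup.mem_bot, commutatorElement_eq_one_iff_commute]
        exact hab a b ha hb
      have := perfect hc
      rw [hbot, Subgroup.mem_bot] at this
      exact hne (by rw [this, one_smul])
  have hcz : Nat.card (Subgroup.center C) = 3 := by
    rw [hzc, Nat.card_zpowers, Subgroup.orderOf_mk, order_x]
  have hcard : Nat.card (C ⧸ Subgroup.center C) = 898128000 := by
    have h := Subgroup.card_eq_card_quotient_mul_card_subgroup (Subgroup.center C)
    rw [card_C, hcz] at h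
    omega
  refine ⟨hcz, ?_, hcard⟩
  haveI : Nontrivial (C ⧸ Subgroup.center C) := Finite.one_lt_card_iff_nontrivial.mp (by rw [hcard]; norm_num)
  refine ⟨fun N hN => ?_⟩
  have hs := QuotientGroup.mk'_surjective (Subgroup.center C)
  rcases hlift (N.comap (QuotientGroup.mk' _)) (hN.comap _)
    (by rw [Subgroup.mem_comap, QuotientGroup.mk'_apply, (QuotientGroup.eq_one_iff _).mpr hxc]; exact one_mem N)
    with h | h
  · left
    rw [← Subgroup.map_comap_eq_self_of_surjective hs N, h, ← hzc, Subgroup.map_eq_bot_iff,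
      QuotientGroup.ker_mk']
  · right
    rw [← Subgroup.map_comap_eq_self_of_surjective hs N, h, Subgroup.map_top_of_surjective _ hs]

/-- In some simple group of the Lyons group's order there is an element of order 3 whose centraliser has centre of order 3 with quotient by the centre simple of order 898128000 (a triple cover of a group of McLaughlin's order). -/
theorem result : ∃ (G : Type) (_ : Group G) (_ : Finite G), Cfsg.IsLy G ∧ ∃ x : G, orderOf x = 3 ∧ Nat.card (Subgroup.center (Subgroup.centralizer ({x} : Set G))) = 3 ∧ Cfsg.IsMcL ((Subgroup.centralizer ({x} : Set G)) ⧸ Subgroup.center (Subgroup.centralizer ({x} : Set G))) := by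
  exact ⟨Cfsg.Spor.Ly, inferInstance, LyOrbitIndex41.finite_L, ⟨LyOrbitIndex41.simple, LyOrbitIndex41.order⟩,
    LyMcL73Groups.x, LyMcL73Groups.order_x, center_quot⟩

end Cfsg.Agent.S0477
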