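import Mathlib
import Cfsg.Prelude.Def_SporadicB

set_option autoImplicit false
open Cfsg
namespace Cfsg.Agent.S0481

theorem result {G : Type*} [Group G] [Finite G] (z : G) (hz : orderOf z = 2) (Q : Subgroup G) (hQC : Q ≤ Subgroup.centralizer ({z} : Set G)) (hQn : ∀ g ∈ Subgroup.centralizer ({z} : Set G), ∀ q ∈ Q, g * q * g⁻¹ ∈ Q) (hQ2 : IsPGroup 2 Q) (hZ : Nat.card (Subgroup.center Q) = 2) (hsq : ∀ x : Q, x ^ 2 ∈ Subgroup.center Q) (hlarge : Subgroup.centralizer (Q : Set G) ≤ Q) : (∃ P : Sylow 2 G, (P : Subgroup G) ≤ Subgroup.centralizer ({z} : Set G)) ∧ ∀ u : G, orderOf u = 2 → (∃ P : Sylow 2 G, (P : Subgroup G) ≤ Subgroup.centralizer ({u} : Set G)) → IsConj z u := by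
  haveI : Fact (Nat.Prime 2) := ⟨Nat.prime_two⟩
  set C := Subgroup.centralizer ({z} : Set G) with hC
  have hz1 : z ≠ 1 := fun h => by rw [h, orderOf_one] at hz; omega
  have hzQ : z ∈ Q := hlarge (Subgroup.mem_centralizer_iff.mpr fun q hq =>
    (Subgroup.mem_centralizer_singleton_iff.mp (hQC hq)))
  -- central elements of Q are 1 or z
  have hzc : (⟨z, hzQ⟩ : Q) ∈ Subgroup.center Q := by
    rw [Subgroup.mem_center_iff]; intro q
    exact Subtype.ext (Subgroup.mem_centralizer_singleton_iff.mp (hQC q.2))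
  have hcen : ∀ x : G, x ∈ Subgroup.centralizer (Q : Set G) → x = 1 ∨ x = z := by
    intro x hx
    have hxc : (⟨x, hlarge hx⟩ : Q) ∈ Subgroup.center Q := by
      rw [Subgroup.mem_center_iff]; intro q
      exact Subtype.ext (Subgroup.mem_centralizer_iff.mp hx q q.2)
    obtain ⟨a, b, hab, hall⟩ := Nat.card_eq_two_iff.mp hZ
    have hm : ∀ w : Subgroup.center Q, w = 1 ∨ w = ⟨_, hzc⟩ := by
      intro w
      have h1 : (1 : Subgroup.center Q) ≠ ⟨_, hzc⟩ := fun h =>
        hz1 (congrArg (fun t : Subgroup.center Q => ((t : Q) : G)) h).symm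
      have mem : ∀ t : Subgroup.center Q, t = a ∨ t = b := by
        intro t
        have : t ∈ ({a, b} : Set (Subgroup.center Q)) := hall ▸ Set.mem_univ t
        simpa using this
      rcases mem 1 with h | h <;> rcases mem ⟨_, hzc⟩ with h' | h' <;> rcases mem w with h'' | h'' <;>
        grind
    rcases hm ⟨_, hxc⟩ with h | h
    · left; exact congrArg (fun t : Subgroup.center Q => ((t : Q) : G)) h
    · right; exact congrArg (fun t : Subgroup.center Q => ((t : Q) : G)) h
  -- a Sylow of C containing Q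
  obtain ⟨R⟩ := (Sylow.nonempty : Nonempty (Sylow 2 C))
  haveI hn : (Q.subgroupOf C).Normal := ⟨fun q hq g => hQn g g.2 q hq⟩
  have hQR : Q.subgroupOf C ≤ R := by
    have hp : IsPGroup 2 (Q.subgroupOf C) := hQ2.of_equiv (Subgroup.subgroupOfEquivOfLe hQC).symm
    obtain ⟨R', hR'⟩ := hp.exists_le_sylow
    obtain ⟨c, rfl⟩ := MulAction.exists_smul_eq C R' R
    intro q hq
    refine ⟨c⁻¹ * q * c, hR' ?_, by simp [mul_assoc]⟩
    simpa using hn.conj_mem q hq c⁻¹
  obtain ⟨P, hP⟩ := (R.isPGroup'.map C.subtype).exists_le_sylow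
  have hQP : Q ≤ (P : Subgroup G) := by
    intro q hq
    exact hP ⟨⟨q, hQC hq⟩, hQR hq, rfl⟩
  have hne : Nontrivial (P : Subgroup G) := by
    rw [Subgroup.nontrivial_iff_ne_bot]
    intro h; exact hz1 (by simpa [h] using hQP hzQ)
  have hcp : ∀ x : G, (∀ y ∈ (P : Subgroup G), y * x = x * y) → x = 1 ∨ x = z := fun x h =>
    hcen x (Subgroup.mem_centralizer_iff.mpr fun q hq => h q (hQP hq))
  have hPz : ∀ y ∈ (P : Subgroup G), y * z = z * y := by
    haveI : Nontrivial (Subgroup.center (P : Subgroup G)) := P.isPGroup'.center_nontrivial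
    obtain ⟨w, hw⟩ := exists_ne (1 : Subgroup.center (P : Subgroup G))
    have hwc : ∀ y ∈ (P : Subgroup G), y * (w : (P : Subgroup G)).1 = (w : (P : Subgroup G)).1 * y :=
      fun y hy => congrArg Subtype.val (Subgroup.mem_center_iff.mp w.2 ⟨y, hy⟩)
    rcases hcp _ hwc with h | h
    · exact absurd (Subtype.ext (Subtype.ext h)) hw
    · exact fun y hy => h ▸ hwc y hy
  refine ⟨⟨P, fun y hy => Subgroup.mem_centralizer_singleton_iff.mpr (hPz y hy)⟩, ?_⟩
  rintro u hu ⟨P', hP'⟩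
  obtain ⟨g, hg⟩ := MulAction.exists_smul_eq G P' P
  have : g * u * g⁻¹ = 1 ∨ g * u * g⁻¹ = z := by
    apply hcp
    intro y hy
    have hy' : g⁻¹ * y * g ∈ (P' : Subgroup G) := by
      rw [← hg] at hy
      obtain ⟨t, ht, rfl⟩ := hy
      simpa [mul_assoc] using show t ∈ (P' : Subgroup G) from ht
    have := Subgroup.mem_centralizer_singleton_iff.mp (hP' hy')
    calc y * (g * u * g⁻¹) = g * ((g⁻¹ * y * g) * u) * g⁻¹ := by group
      _ = g * (u * (g⁻¹ * y * g)) * g⁻¹ := by rw [this]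
      _ = (g * u * g⁻¹) * y := by group
  rcases this with h | h
  · have : u = 1 := by
      calc u = g⁻¹ * (g * u * g⁻¹) * g := by group
        _ = 1 := by rw [h]; group
    rw [this, orderOf_one] at hu; omega
  · exact IsConj.symm (isConj_iff.mpr ⟨g, h⟩)

end Cfsg.Agent.S0481
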