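import Mathlib
import Cfsg.Agent.Lib.TransferAlperin
import Cfsg.Agent.Lib.TransferPResidual

set_option autoImplicit false
open Cfsg
namespace Cfsg.Agent.S0499

open Subgroup

theorem aut_trivial {Q : Type*} [Group Q] [Finite Q] (hQ : Nat.card Q ∣ 8) (σ : MulAut Q)
    (h2 : ¬ 2 ∣ orderOf σ) (h3 : Nat.card Q ≤ 2 ∨ ¬ 3 ∣ orderOf σ)
    (h7 : Nat.card Q ≤ 4 ∨ ¬ 7 ∣ orderOf σ) : σ = 1 := by
  by_contra hσ
  obtain ⟨q, hq, hqd⟩ := Nat.exists_prime_and_dvd (n := orderOf σ) (by rwa [Ne, orderOf_eq_one_iff])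
  haveI : Fact q.Prime := ⟨hq⟩
  set τ := σ ^ (orderOf σ / q) with hτ
  have hτo : orderOf τ = q := by
    rw [hτ, orderOf_pow_of_dvd _ (Nat.div_dvd_of_dvd hqd), Nat.div_div_self hqd (orderOf_pos σ).ne']
    exact (Nat.div_pos (Nat.le_of_dvd (orderOf_pos σ) hqd) hq.pos).ne'
  let F : Subgroup Q :=
    { carrier := {x | τ x = x}
      one_mem' := map_one τ
      mul_mem' := fun {a b} ha hb => by simp only [Set.mem_setOf_eq, map_mul] at *; rw [ha, hb]
      inv_mem' := fun {a} ha => by simp only [Set.mem_setOf_eq, map_inv] at *; rw [ha] }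
  have hZ : IsPGroup q (zpowers τ) :=
    IsPGroup.of_card (n := 1) (by rw [Nat.card_zpowers, hτo, pow_one])
  have hmod := hZ.card_modEq_card_fixedPoints Q
  have hfix : MulAction.fixedPoints (zpowers τ) Q = (F : Set Q) := by
    ext x
    constructor
    · intro h; exact h ⟨τ, mem_zpowers τ⟩
    · intro (h : τ x = x) ⟨ρ, hρ⟩
      show ρ x = x
      have : zpowers τ ≤ MulAction.stabilizer (MulAut Q) x := zpowers_le.mpr h
      exact this hρ
  rw [hfix] at hmod
  have hlt : Nat.card F < Nat.card Q := by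
    refine lt_of_le_of_ne (card_le_card_group F) fun h => ?_
    have hF := eq_top_of_card_eq F h
    have : τ = 1 := MulEquiv.ext fun x => (hF ▸ mem_top x : x ∈ F)
    rw [this, orderOf_one] at hτo
    exact hq.ne_one hτo.symm
  have hdvd := (Nat.modEq_iff_dvd' hlt.le).mp hmod.symm
  have hcases : ∀ k : ℕ, k ∣ 8 → k = 1 ∨ k = 2 ∨ k = 4 ∨ k = 8 := by
    intro k hk
    have := Nat.le_of_dvd (by norm_num) hk
    have hk0 : 8 % k = 0 := Nat.dvd_iff_mod_eq_zero.mp hk
    interval_cases k <;> omega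
  have hle : q ≤ 7 := by
    have h1 := Nat.le_of_dvd (by omega) hdvd
    rcases hcases _ hQ with h | h | h | h <;> have := Nat.card_pos (α := F) <;> omega
  have hq2 : q ≠ 2 := fun h => h2 (h ▸ hqd)
  have hfdvd := card_subgroup_dvd_card F
  have hQ3 : Nat.card Q ≤ 2 ∨ q ≠ 3 := h3.imp_right fun h e => h (e ▸ hqd)
  have hQ7 : Nat.card Q ≤ 4 ∨ q ≠ 7 := h7.imp_right fun h e => h (e ▸ hqd)
  have h2le := hq.two_le
  rcases hcases _ hQ with h | h | h | h <;>
    rcases hcases _ (hfdvd.trans hQ) with h' | h' | h' | h' <;>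
    rw [h, h'] at hdvd <;> interval_cases q <;> norm_num at hdvd <;>
    first
      | omega
      | exact absurd hq (by norm_num)

theorem result {G : Type*} [Group G] [Finite G] [IsSimpleGroup G]
    (hG : ¬ IsMulCommutative G) (h2 : Even (Nat.card G)) :
    12 ∣ Nat.card G ∨ 16 ∣ Nat.card G ∨ 56 ∣ Nat.card G := by
  haveI : Fact (Nat.Prime 2) := ⟨Nat.prime_two⟩
  by_contra hno
  push Not at hno
  obtain ⟨h12, h16, h56⟩ := hno
  obtain ⟨P⟩ := (Sylow.nonempty : Nonempty (Sylow 2 G))
  have hP8 : Nat.card P ∣ 8 := by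
    obtain ⟨k, hk⟩ := IsPGroup.iff_card.mp P.isPGroup'
    rw [hk]
    have : k ≤ 3 := by
      by_contra hk4
      exact h16 (dvd_trans (show 16 ∣ 2 ^ k from pow_dvd_pow 2 (show 4 ≤ k by omega))
        (hk ▸ card_subgroup_dvd_card (P : Subgroup G)))
    exact pow_dvd_pow 2 this
  have hcomp : Cfsg.HasNormalPComplement 2 G := by
    rw [TransferAlperin.hasNormalPComplement_iff_centralizer P]
    intro Q hQ g hg hgo
    let σ : MulAut Q := Q.normalizerMonoidHom ⟨g, hg⟩
    have hσ : orderOf σ ∣ orderOf g := by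
      have h := orderOf_map_dvd Q.normalizerMonoidHom ⟨g, hg⟩
      rwa [Subgroup.orderOf_mk] at h
    have hσG : orderOf σ ∣ Nat.card G := hσ.trans (orderOf_dvd_natCard g)
    have hQd : Nat.card Q ∣ 8 := (card_dvd_of_le hQ).trans hP8
    have hQG : Nat.card Q ∣ Nat.card G := card_subgroup_dvd_card Q
    have hcases : Nat.card Q ≤ 2 ∨ (4 ∣ Nat.card Q) := by
      have := Nat.le_of_dvd (by norm_num) hQd
      interval_cases h : Nat.card Q <;> simp_all
    have h1 := aut_trivial hQd σ
      (fun h => by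
        have h2 := Nat.Coprime.eq_one_of_dvd (Nat.Coprime.symm hgo) (h.trans hσ)
        omega)
      (hcases.imp_right fun h4 h => h12 (Nat.Coprime.mul_dvd_of_dvd_of_dvd
        (by norm_num : Nat.Coprime 4 3) (h4.trans hQG) (h.trans hσG)))
      (by
        by_cases h8 : Nat.card Q ≤ 4
        · exact Or.inl h8
        · refine Or.inr fun h => h56 ?_
          have : Nat.card Q = 8 := by
            have := Nat.le_of_dvd (by norm_num) hQd
            interval_cases hc : Nat.card Q <;> simp_all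
          exact Nat.Coprime.mul_dvd_of_dvd_of_dvd
            (by norm_num : Nat.Coprime 8 7) (this ▸ hQG) (h.trans hσG))
    rw [mem_centralizer_iff]
    intro q hq
    have h := congrArg (fun τ : MulAut Q => ((τ ⟨q, hq⟩ : Q) : G)) h1
    have h' : g * q * g⁻¹ = q := h
    calc q * g = (g * q * g⁻¹) * g := by rw [h']
      _ = g * q := by group
  haveI hn : (Cfsg.pResidual 2 G).Normal := inferInstance
  have hndvd := TransferPResidual.hasNormalPComplement_iff_not_dvd.mp hcomp
  rcases hn.eq_bot_or_eq_top with hbot | htop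
  · obtain ⟨k, hk⟩ := TransferPResidual.index_pResidual (p := 2) (G := G)
    rw [hbot, index_bot] at hk
    have hpG : IsPGroup 2 G := IsPGroup.of_card hk
    haveI : Nontrivial (center G) := hpG.center_nontrivial
    rcases (inferInstance : (center G).Normal).eq_bot_or_eq_top with h | h
    · exact (center G).nontrivial_iff_ne_bot.mp inferInstance h
    · exact hG ⟨⟨fun a b => (mem_center_iff.mp (h ▸ mem_top b : b ∈ center G) a)⟩⟩
  · rw [htop, card_top] at hndvd
    exact hndvd h2.two_dvd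

end Cfsg.Agent.S0499
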