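import Mathlib
import Cfsg.Prelude.Def_CaseTheorems
import Cfsg.Agent.Lib.HallSolvable
import Cfsg.Agent.Lib.HallCore
import Cfsg.Agent.Lib.CharPBasic

set_option autoImplicit false
open Cfsg
namespace Cfsg.Agent.S0505

open Subgroup

theorem result {G : Type*} [Group G] [Finite G]
    (h2 : Even (Nat.card G))
    (hs : ∀ t : G, orderOf t = 2 → Group.IsSolvable (Subgroup.centralizer ({t} : Set G)))
    (hc : ∀ t : G, orderOf t = 2 → Cfsg.oddCore (Subgroup.centralizer ({t} : Set G)) = ⊥) :
    Cfsg.IsCharacteristicTwoType G := by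
  haveI : Fact (Nat.Prime 2) := ⟨Nat.prime_two⟩
  refine ⟨h2, fun T hT hT1 => ?_⟩
  set N := normalizer (T : Set G) with hN
  -- a central involution of T
  haveI : Nontrivial T := T.nontrivial_iff_ne_bot.mpr hT1
  haveI : Nontrivial (center T) := hT.center_nontrivial
  obtain ⟨k, hk, hkc⟩ := (hT.to_subgroup (center T)).nontrivial_iff_card.mp inferInstance
  obtain ⟨z, hz⟩ := exists_prime_orderOf_dvd_card' (G := center T) 2
    (by rw [hkc]; exact dvd_pow_self 2 hk.ne')
  set t : G := ((z : T) : G) with ht
  have hto : orderOf t = 2 := by rw [ht, orderOf_coe, orderOf_coe]; exact hz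
  set C := centralizer ({t} : Set G) with hC
  haveI : Group.IsSolvable C := hs t hto
  have hCO : pPrimeCore 2 C = ⊥ := hc t hto
  have hCp := HallSolvable.centralizer_pCore_le (HallSolvable.isPSolvable_of_solvable 2) hCO
  have htc : ∀ y ∈ T, t * y = y * t := fun y hy =>
    congrArg Subtype.val ((mem_center_iff.mp z.2) ⟨y, hy⟩).symm
  have hTC : T ≤ C := fun y hy => mem_centralizer_singleton_iff.mpr (htc y hy).symm
  -- T as a normal 2-subgroup of N
  set TN := T.subgroupOf N with hTN
  haveI : TN.Normal := normal_in_normalizer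
  have hTle : TN ≤ pCore 2 N :=
    HallCore.le_pCore (hT.of_equiv (subgroupOfEquivOfLe le_normalizer).symm)
  set Q := pCore 2 N with hQ
  -- the odd core of N is trivial
  have hNO : pPrimeCore 2 N = ⊥ := by
    haveI := HallCore.pPrimeCore_normal 2 N
    rw [eq_bot_iff]
    intro x hx
    have hxT : ∀ y ∈ T, Commute (x : G) y := fun y hy => by
      have h := HallCore.commute_pCore_pPrimeCore (p := 2) (hTle (show (⟨y, le_normalizer hy⟩ : N) ∈ TN from hy)) hx
      exact (congrArg Subtype.val h).symm
    have hxC : (x : G) ∈ C := mem_centralizer_singleton_iff.mpr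
      (hxT t ((z : T)).2)
    set P := (pCore 2 C).map C.subtype with hP
    have hPn : ∀ g ∈ C, g ∈ normalizer (P : Set G) := by
      intro g hg
      rw [mem_normalizer_iff]
      intro y
      haveI := HallCore.pCore_normal 2 C
      constructor
      · rintro ⟨y', hy', rfl⟩
        exact ⟨⟨g, hg⟩ * y' * (⟨g, hg⟩)⁻¹, Normal.conj_mem inferInstance y' hy' _, rfl⟩
      · rintro ⟨y', hy', h⟩
        refine ⟨(⟨g, hg⟩)⁻¹ * y' * ⟨g, hg⟩, Normal.conj_mem' inferInstance y' hy' _, ?_⟩
        simp only [map_mul, map_inv, coe_subtype] at h ⊢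
        rw [h]; group
    have hxo : (orderOf (x : G)).Coprime 2 := by
      rw [orderOf_coe]
      exact (HallCore.coprime_card_pPrimeCore 2 N).coprime_dvd_left
        (orderOf_dvd_natCard _ hx)
    have hfix := CharPBasic.commute_of_centralizes_fixed (p := 2) (P := P) (Q := T)
      ((HallCore.isPGroup_pCore 2 C).map _) hT (fun y hy => hPn y (hTC hy)) hxo (hPn _ hxC) hxT (by
        intro y hy hyT
        have hyN : y ∈ N := by
          rw [hN, mem_normalizer_iff]
          intro w
          constructor
          · intro hw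
            rw [← (hyT w hw).eq]; simpa using hw
          · intro hw
            have : w = y * w * y⁻¹ := by
              have h1 := (hyT _ hw).eq
              calc w = y⁻¹ * ((y * w * y⁻¹) * y) := by group
                _ = y⁻¹ * (y * (y * w * y⁻¹)) := by rw [h1]
                _ = y * w * y⁻¹ := by group
            rw [this]; exact hw
        -- the commutator lies in both cores
        set c := (x : G) * y * (x : G)⁻¹ * y⁻¹ with hcdef
        have h1 : c ∈ P := mul_mem ((mem_normalizer_iff.mp (hPn _ hxC) y).mp hy) (inv_mem hy)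
        have h2 : (⟨c, mul_mem (mul_mem (mul_mem x.2 hyN) (inv_mem x.2)) (inv_mem hyN)⟩ : N) ∈
            pPrimeCore 2 N := by
          have h3 := (HallCore.pPrimeCore_normal 2 N).conj_mem _ (inv_mem hx) ⟨y, hyN⟩
          have h4 := mul_mem hx h3
          convert h4 using 1
          exact Subtype.ext (by simp [hcdef, mul_assoc])
        have h5 : (orderOf c).Coprime 2 := by
          have h6 := orderOf_dvd_natCard _ h2
          rw [← orderOf_coe] at h6
          exact (HallCore.coprime_card_pPrimeCore 2 N).coprime_dvd_left h6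
        have h7 := CharPBasic.eq_one_of_coprime_of_mem ((HallCore.isPGroup_pCore 2 C).map C.subtype) h1 h5
        rw [hcdef] at h7
        show (x : G) * y = y * x
        calc (x : G) * y = ((x : G) * y * (x : G)⁻¹ * y⁻¹) * y * x := by group
          _ = y * x := by rw [h7, one_mul])
    have hxP : (⟨(x : G), hxC⟩ : C) ∈ pCore 2 C := by
      refine hCp (mem_centralizer_iff.mpr fun y hy => Subtype.ext ?_)
      exact (hfix y ⟨y, hy, rfl⟩).eq.symm
    have hx1 := CharPBasic.eq_one_of_coprime_of_mem ((HallCore.isPGroup_pCore 2 C).map C.subtype)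
      (mem_map_of_mem C.subtype hxP) hxo
    exact mem_bot.mpr (Subtype.ext hx1)
  -- the centraliser K of Q in N
  haveI := HallCore.pCore_normal 2 N
  set K := centralizer (Q : Set N) with hK
  haveI : K.Normal := by rw [hK]; infer_instance
  have hKC : ∀ x : K, ((x : N) : G) ∈ C := fun x => by
    refine mem_centralizer_singleton_iff.mpr ?_
    have h := mem_centralizer_iff.mp x.2 ⟨t, le_normalizer (z : T).2⟩ (hTle (z : T).2)
    exact (congrArg Subtype.val h).symm
  haveI : Group.IsSolvable K :=
    solvable_of_solvable_injective (f := (N.subtype.comp K.subtype).codRestrict C hKC)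
      (fun a b h => Subtype.ext (Subtype.ext (congrArg (fun c : C => (c : G)) h :)))
  have hKO : pPrimeCore 2 K = ⊥ := by
    have h := HallCore.map_subtype_pPrimeCore (p := 2) K
    rw [hNO, bot_inf_eq, map_eq_bot_iff_of_injective _ K.subtype_injective] at h
    exact h
  have hKc := HallSolvable.centralizer_pCore_le (HallSolvable.isPSolvable_of_solvable 2) hKO
  show K ≤ Q
  intro x hx
  have hsub : (pCore 2 K).map K.subtype ≤ Q := by
    rw [HallCore.map_subtype_pCore]; exact inf_le_left
  have : (⟨x, hx⟩ : K) ∈ pCore 2 K := by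
    refine hKc (mem_centralizer_iff.mpr fun y hy => Subtype.ext ?_)
    exact mem_centralizer_iff.mp hx y (hsub (mem_map_of_mem K.subtype hy))
  exact hsub (mem_map_of_mem K.subtype this)

end Cfsg.Agent.S0505
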