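import Cfsg.Statements.S0516
import Cfsg.Agent.Lib.RankTwoSylowApply4
import Cfsg.Agent.S0204
import Cfsg.Agent.S0215
import Cfsg.Agent.S0949

set_option autoImplicit false
open Cfsg

namespace Cfsg.Agent.S0516

/-- In a non-abelian finite simple group of 2-rank at most 2, a Sylow 2-subgroup is dihedral (of order at least 4),
quasi-dihedral, wreathed, or isomorphic to a Sylow 2-subgroup of the projective special unitary group of dimension 3
over the field with 16 elements. -/
theorem result {G : Type*} [Group G] [Finite G] [IsSimpleGroup G]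
    (hG : ¬ IsMulCommutative G) (h2 : Cfsg.PRankLE 2 2 G) (S : Sylow 2 G) {F : Type*} [Field F] [Fintype F]
    (hF : Fintype.card F = 16) (P : Sylow 2 (Cfsg.PSU 3 F 4)) :
    (∃ n : ℕ, 2 ≤ n ∧ Nonempty ((S : Subgroup G) ≃* DihedralGroup n)) ∨ Cfsg.IsQuasiDihedral (S : Subgroup G) ∨
      Cfsg.IsWreathed (S : Subgroup G) ∨ Nonempty ((S : Subgroup G) ≃* (P : Subgroup (Cfsg.PSU 3 F 4))) := by
  haveI : Fact (Nat.Prime 2) := ⟨Nat.prime_two⟩
  have hnc : ¬ IsCyclic G := fun h => hG ⟨⟨fun a b => by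
    haveI := h
    exact IsCyclic.isMulCommutative.is_comm.comm a b⟩⟩
  obtain ⟨E, hE⟩ := Cfsg.Agent.S0204.result hnc
  haveI := hE
  have h1 : ¬ Cfsg.PRankLE 2 1 G := by
    intro h
    haveI := hE
    have hEc : IsMulCommutative E := ⟨⟨mul_comm_of_exponent_two hE.exponent_two⟩⟩
    have := h E hEc fun a ha => by
      rw [pow_two]
      exact congrArg Subtype.val (IsKleinFour.mul_self (⟨a, ha⟩ : E))
    rw [IsKleinFour.card_four] at this
    omega
  have heven : ¬ Odd (Nat.card G) := by
    have h := E.card_subgroup_dvd_card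
    rw [IsKleinFour.card_four] at h
    exact Nat.not_odd_iff_even.mpr (even_iff_two_dvd.mpr (dvd_trans (by norm_num) h))
  have hO : ∀ N : Subgroup G, N.Normal → Odd (Nat.card N) → N = ⊥ := by
    intro N hN hodd
    rcases hN.eq_bot_or_eq_top with h | h
    · exact h
    · exact absurd (by rwa [h, Subgroup.card_top] at hodd) heven
  have hiso : ∀ z : G, ¬ Cfsg.IsIsolatedInvolution z := by
    intro z hz
    have hp : IsPGroup 2 (Subgroup.zpowers z) :=
      IsPGroup.of_card (n := 1) (by rw [Nat.card_zpowers, pow_one]; exact hz.1)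
    obtain ⟨Q, hQ⟩ := hp.exists_le_sylow
    have hzQ : z ∈ Q := hQ (Subgroup.mem_zpowers z)
    have hc := Cfsg.Agent.RankTwoSylowApply4.isolated_central hz Q hzQ
    obtain ⟨N, hN, hodd, hcomm⟩ := Cfsg.Agent.S0215.result Q z hz.1 hzQ fun g hg =>
      hz.2 g (hc _ hg).symm
    have hN1 := hO N hN hodd
    have hzc : z ∈ Subgroup.center G := Subgroup.mem_center_iff.mpr fun g => by
      have := hcomm g
      rw [hN1, Subgroup.mem_bot, mul_inv_eq_one, mul_inv_eq_iff_eq_mul] at this
      exact this.symm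
    rcases (inferInstance : (Subgroup.center G).Normal).eq_bot_or_eq_top with h | h
    · rw [h, Subgroup.mem_bot] at hzc
      have := hz.1
      rw [hzc, orderOf_one] at this
      omega
    · exact hG ⟨⟨fun a b => (Subgroup.mem_center_iff.mp (h ▸ Subgroup.mem_top a) b).symm⟩⟩
  rcases Cfsg.Agent.RankTwoSylowApply4.group_list h2 h1 hiso S hF P with h | h | h | ⟨m, hm, ⟨e⟩⟩ | h
  · exact Or.inl h
  · exact Or.inr (Or.inl h)
  · exact Or.inr (Or.inr (Or.inl h))
  · exfalso
    obtain ⟨hSn, -, -⟩ := Cfsg.Agent.S0949.result S m hm e hO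
    rcases hSn.eq_bot_or_eq_top with h | h
    · have := Nat.card_congr e.toEquiv
      rw [h, Subgroup.card_bot, Nat.card_congr Multiplicative.toAdd, Nat.card_prod, Nat.card_zmod] at this
      have h4 : 2 ^ 2 ≤ 2 ^ m := Nat.pow_le_pow_right (by norm_num) hm
      nlinarith
    · refine hG ⟨⟨fun a b => ?_⟩⟩
      have hc : (⟨a, h ▸ Subgroup.mem_top a⟩ : (S : Subgroup G)) * ⟨b, h ▸ Subgroup.mem_top b⟩ =
          ⟨b, h ▸ Subgroup.mem_top b⟩ * ⟨a, h ▸ Subgroup.mem_top a⟩ :=
        e.injective (by rw [map_mul, map_mul, mul_comm])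
      exact congrArg Subtype.val hc
  · exact Or.inr (Or.inr (Or.inr h))

end Cfsg.Agent.S0516
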