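import Mathlib
import Cfsg.Prelude.Def_CaseTheorems
import Cfsg.Agent.Lib.PGroupsBasic
import Cfsg.Agent.Lib.PGroupsCyclic

set_option autoImplicit false
open Cfsg
namespace Cfsg.Agent.S0519

open Subgroup

variable {P : Type*} [Group P]

theorem zpow_eq_iff {a : P} {N : ℕ} (ha : orderOf a = N) (k l : ℤ) :
    a ^ k = a ^ l ↔ (N : ℤ) ∣ k - l := by
  rw [PGroupsCyclic.zpow_eq_iff_dvd, ha]

theorem zpow_cases {a : P} {m : ℕ} (ha : orderOf a = 2 ^ (m + 1)) {l : ℤ} (h : (2 : ℤ) ^ m ∣ l) :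
    a ^ l = 1 ∨ a ^ l = a ^ (2 ^ m) := by
  obtain ⟨e, rfl⟩ := h
  rcases Int.even_or_odd e with ⟨f, rfl⟩ | ⟨f, rfl⟩
  · left
    rw [← orderOf_dvd_iff_zpow_eq_one, ha]; push_cast
    exact ⟨f, by ring⟩
  · right
    rw [← zpow_natCast a (2 ^ m), zpow_eq_iff ha]; push_cast
    exact ⟨f, by ring⟩

theorem sq_mul {g a : P} {r k : ℤ} (h : g * a * g⁻¹ = a ^ r) (hk : g * g = a ^ k) (i : ℤ) :
    (a ^ i * g) * (a ^ i * g) = a ^ (i + r * i + k) := by
  calc (a ^ i * g) * (a ^ i * g) = a ^ i * (g * a ^ i * g⁻¹) * (g * g) := by group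
    _ = a ^ (i + r * i + k) := by rw [PGroupsCyclic.conj_zpow_eq h, hk, ← zpow_add, ← zpow_add]

theorem fixed_exp {g a : P} {m : ℕ} {r k : ℤ} (ha : orderOf a = 2 ^ (m + 1))
    (h : g * a * g⁻¹ = a ^ r) (hk : g * g = a ^ k) : (2 : ℤ) ^ (m + 1) ∣ r * k - k := by
  have h1 : a ^ (r * k) = a ^ k := by
    rw [← PGroupsCyclic.conj_zpow_eq h, ← hk]; group
  have h2 := (zpow_eq_iff ha _ _).mp h1
  push_cast at h2
  exact h2

theorem result {P : Type*} [Group P] [Finite P] (p : ℕ) [Fact p.Prime]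
    (hP : IsPGroup p P) (hn : ∀ A : Subgroup P, A.Normal → IsMulCommutative A → IsCyclic A)
    (hm : ∃ B : Subgroup P, IsMulCommutative B ∧ ¬ IsCyclic B) :
    p = 2 ∧ ((∃ n : ℕ, Nonempty (P ≃* QuaternionGroup n)) ∨ (∃ n : ℕ, 8 ≤ n ∧ Nonempty (P ≃* DihedralGroup n)) ∨
      Cfsg.IsQuasiDihedral P) := by
  obtain ⟨B, hB, hBnc⟩ := hm
  have hPnc : ¬ IsCyclic P := fun h => hBnc inferInstance
  have hp2 : p = 2 := by
    by_contra hp
    obtain ⟨E, hEn, hEcard, hEe⟩ := PGroupsCyclic.exists_normal_elementary_sq hP hp hPnc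
    have hle := PGroupsBasic.card_le_prime_of_isCyclic (p := p) (hn E hEn hEe.1) hEe.2
    rw [hEcard] at hle
    have := (Fact.out : p.Prime).two_le
    nlinarith
  subst hp2
  refine ⟨rfl, ?_⟩
  obtain ⟨A, hAn, -, hAc, hCA⟩ := PGroupsCyclic.exists_selfCentralizing hP (⊤ : Subgroup P)
  rw [top_inf_eq] at hCA
  obtain ⟨a, rfl⟩ : ∃ a, zpowers a = A := by
    obtain ⟨g, hg⟩ := (hn A hAn hAc).exists_generator
    exact ⟨g, le_antisymm (zpowers_le.mpr g.2) fun x hx => by
      obtain ⟨k, hk⟩ := mem_zpowers_iff.mp (hg ⟨x, hx⟩)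
      exact mem_zpowers_iff.mpr ⟨k, congrArg Subtype.val hk⟩⟩
  haveI := hAn
  have hr : ∀ g : P, ∃ r : ℤ, g * a * g⁻¹ = a ^ r := PGroupsCyclic.exists_conj_eq_zpow hAn
  have hcent : ∀ g : P, g * a * g⁻¹ = a → g ∈ zpowers a := by
    intro g hg
    rw [← hCA, mem_centralizer_iff]
    intro x hx
    obtain ⟨k, rfl⟩ := mem_zpowers_iff.mp hx
    have hc : Commute g a := mul_inv_eq_iff_eq_mul.mp hg
    exact ((hc.zpow_right k).symm).eq
  obtain ⟨N, hN⟩ := IsPGroup.iff_orderOf.mp hP a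
  obtain ⟨m, rfl⟩ : ∃ m, N = m + 1 := by
    refine Nat.exists_eq_succ_of_ne_zero fun h0 => hPnc ?_
    rw [h0, pow_zero, orderOf_eq_one_iff] at hN
    exact isCyclic_iff_exists_zpowers_eq_top.mpr
      ⟨a, eq_top_iff.mpr fun g _ => hcent g (by simp [hN])⟩
  have hcent' : ∀ (g : P) (r : ℤ), g * a * g⁻¹ = a ^ r → (2 : ℤ) ^ (m + 1) ∣ r - 1 →
      g ∈ zpowers a := by
    intro g r hg hd
    refine hcent g ?_
    rw [hg]
    conv_rhs => rw [← zpow_one a]
    exact (zpow_eq_iff hN r 1).mpr (by push_cast; exact hd)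
  have h2n : ∀ t : ℕ, ¬ (2 : ℤ) ∣ 2 * (t : ℤ) + 1 := fun t h => by omega
  have hodd : ∀ (g : P) (r : ℤ), g * a * g⁻¹ = a ^ r → Odd r := by
    intro g r hg
    by_contra hev
    rw [Int.not_odd_iff_even] at hev
    obtain ⟨s, rfl⟩ := hev
    have h1 : g * a ^ ((2 : ℤ) ^ m) * g⁻¹ = 1 := by
      rw [PGroupsCyclic.conj_zpow_eq hg, ← orderOf_dvd_iff_zpow_eq_one, hN]
      push_cast
      exact ⟨s, by ring⟩
    have h2 : a ^ ((2 : ℤ) ^ m) = 1 := conj_eq_one_iff.mp h1
    rw [← orderOf_dvd_iff_zpow_eq_one, hN] at h2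
    push_cast at h2
    obtain ⟨e, he⟩ := h2
    have hpos : (0 : ℤ) < 2 ^ m := by positivity
    rw [pow_succ, mul_assoc] at he
    have : (1 : ℤ) = 2 * e := by
      have := mul_left_cancel₀ hpos.ne' (a := (2 : ℤ) ^ m) (b := 1) (c := 2 * e) (by linear_combination he)
      exact this
    omega
  set z := a ^ (2 ^ m) with hz
  have hz2 : z ^ 2 = 1 := by
    rw [hz, ← pow_mul, ← pow_succ, ← hN, pow_orderOf_eq_one]
  have hz1 : z ≠ 1 := by
    intro h
    have := orderOf_dvd_of_pow_eq_one (hz ▸ h : a ^ (2 ^ m) = 1)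
    rw [hN] at this
    have := Nat.le_of_dvd (pow_pos two_pos m) this
    have : 2 ^ (m + 1) = 2 * 2 ^ m := by ring
    have := pow_pos (two_pos : (0 : ℕ) < 2) m
    omega
  have hzA : z ∈ zpowers a := pow_mem (mem_zpowers a) _
  have hzc : ∀ g : P, g * z = z * g := by
    intro g
    obtain ⟨r, hg⟩ := hr g
    obtain ⟨s, rfl⟩ := hodd g r hg
    have : g * z * g⁻¹ = z := by
      rw [hz, ← zpow_natCast, PGroupsCyclic.conj_zpow_eq hg, zpow_eq_iff hN]
      push_cast
      exact ⟨s, by ring⟩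
    exact mul_inv_eq_iff_eq_mul.mp this
  -- no noncyclic normal four-group
  have hfour : ∀ w : P, w * w = 1 → w ∉ zpowers a → ¬ (closure ({z, w} : Set P)).Normal := by
    intro w hw hwA hnorm
    have he : IsElementaryAbelian 2 (closure ({z, w} : Set P)) := by
      refine PGroupsBasic.isElementaryAbelian_closure ?_ ?_
      · intro x hx y hy
        simp only [Set.mem_insert_iff, Set.mem_singleton_iff] at hx hy
        rcases hx with hx | hx <;> rcases hy with hy | hy <;> rw [hx, hy]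
        · exact (hzc w).symm
        · exact hzc w
      · intro x hx
        simp only [Set.mem_insert_iff, Set.mem_singleton_iff] at hx
        rcases hx with hx | hx <;> rw [hx]
        · exact hz2
        · rw [pow_two]; exact hw
    have hle := PGroupsBasic.card_le_prime_of_isCyclic (p := 2) (hn _ hnorm he.1) he.2
    have hsub : ({1, z, w} : Set P) ⊆ (closure ({z, w} : Set P) : Subgroup P) := by
      intro x hx
      simp only [Set.mem_insert_iff, Set.mem_singleton_iff] at hx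
      rcases hx with hx | hx | hx <;> rw [hx]
      · exact one_mem _
      · exact subset_closure (by simp)
      · exact subset_closure (by simp)
    have hw1 : (1 : P) ≠ w := fun h => hwA (h ▸ one_mem _)
    have hwz : z ≠ w := fun h => hwA (h ▸ hzA)
    have h3 : ({1, z, w} : Set P).ncard = 3 := by
      rw [Set.ncard_eq_three]
      exact ⟨1, z, w, Ne.symm hz1, hw1, hwz, rfl⟩
    have := Set.ncard_le_ncard hsub (Set.toFinite _)
    rw [h3, ← Nat.card_coe_set_eq] at this
    have : 3 ≤ Nat.card (closure ({z, w} : Set P)) := this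
    omega
  -- commutators lie in A
  have hcomm : ∀ g h : P, h * g * h⁻¹ * g⁻¹ ∈ zpowers a := by
    intro g h
    obtain ⟨r, hg⟩ := hr g
    obtain ⟨s, hh⟩ := hr h
    refine hcent _ ?_
    have e1 : g * h * a * (g * h)⁻¹ = a ^ (r * s) := by
      rw [← PGroupsCyclic.conj_zpow_eq hg, ← hh]; group
    have e2 : h * g * a * (h * g)⁻¹ = a ^ (r * s) := by
      rw [mul_comm r s, ← PGroupsCyclic.conj_zpow_eq hh, ← hg]; group
    have e3 : a = (g * h)⁻¹ * a ^ (r * s) * (g * h) := by rw [← e1]; group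
    calc h * g * h⁻¹ * g⁻¹ * a * (h * g * h⁻¹ * g⁻¹)⁻¹
        = (h * g) * ((g * h)⁻¹ * a * (g * h)) * (h * g)⁻¹ := by group
      _ = (h * g) * ((g * h)⁻¹ * a * (g * h)) * (h * g)⁻¹ := rfl
      _ = a := by
        have e4 : (g * h)⁻¹ * a * (g * h) = (h * g)⁻¹ * a * (h * g) := by
          obtain ⟨u, hu⟩ := hr (g * h)⁻¹
          rw [inv_inv] at hu
          rw [hu]
          have e5 : h * g * a ^ u * (h * g)⁻¹ = a := by
            rw [PGroupsCyclic.conj_zpow_eq e2, ← PGroupsCyclic.conj_zpow_eq e1, ← hu]; group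
          calc a ^ u = (h * g)⁻¹ * (h * g * a ^ u * (h * g)⁻¹) * (h * g) := by group
            _ = _ := by rw [e5]
        rw [e4]; group
  -- the modular case is impossible
  have hnomod : ∀ (g : P) (r : ℤ), g * a * g⁻¹ = a ^ r → g ∉ zpowers a → g * g ∈ zpowers a →
      2 ≤ m → (2 : ℤ) ^ m ∣ r - 1 → False := by
    intro g r hg hgA hg2 hm2 hd
    obtain ⟨u, hu⟩ := hd
    obtain ⟨k, hk⟩ := mem_zpowers_iff.mp hg2
    obtain ⟨l, rfl⟩ : ∃ l, m = l + 2 := ⟨m - 2, by omega⟩
    have hu2 : ¬ 2 ∣ u := by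
      rintro ⟨v, rfl⟩
      exact hgA (hcent' g r hg ⟨v, by rw [hu]; ring⟩)
    obtain ⟨j, rfl⟩ : (2 : ℤ) ∣ k := by
      have h1 := fixed_exp hN hg hk.symm
      rw [show r * k - k = 2 ^ (l + 2) * (u * k) by linear_combination k * hu,
        pow_succ] at h1
      exact (Int.prime_two.dvd_or_dvd ((mul_dvd_mul_iff_left (by positivity)).mp h1)).resolve_left hu2
    set s : ℤ := 1 + 2 ^ (l + 1) * u with hs
    have hr1 : r + 1 = 2 * s := by rw [hs]; linear_combination hu
    set i : ℤ := -j * (2 - s) with hi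
    set w := a ^ i * g with hw
    have hw2 : w * w = 1 := by
      rw [hw, sq_mul hg hk.symm, ← orderOf_dvd_iff_zpow_eq_one, hN]
      push_cast
      refine ⟨2 ^ l * j * u * u, ?_⟩
      have : i + r * i + 2 * j = (r + 1) * i + 2 * j := by ring
      rw [this, hr1, hi, hs]; ring
    have hwA : w ∉ zpowers a := fun h => hgA (by
      have := mul_mem (inv_mem (zpow_mem (mem_zpowers a) i)) h
      simpa [hw] using this)
    have hwr : w * a * w⁻¹ = a ^ r := by
      calc w * a * w⁻¹ = a ^ i * (g * a * g⁻¹) * (a ^ i)⁻¹ := by rw [hw]; group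
        _ = a ^ r := by rw [hg]; group
    refine hfour w hw2 hwA ⟨fun x hx h => ?_⟩
    have hle : closure ({z, w} : Set P) ≤
        (closure ({z, w} : Set P)).comap (MulAut.conj h).toMonoidHom := by
      rw [closure_le]
      intro y hy
      simp only [Set.mem_insert_iff, Set.mem_singleton_iff] at hy
      show h * y * h⁻¹ ∈ closure ({z, w} : Set P)
      rcases hy with hy | hy <;> rw [hy]
      · rw [hzc h, mul_inv_cancel_right]; exact subset_closure (by simp)
      · obtain ⟨c, hc⟩ := mem_zpowers_iff.mp (hcomm w h)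
        have hcw : h * w * h⁻¹ = a ^ c * w := by rw [hc]; group
        have h1 : a ^ (c + r * c + 0) = 1 := by
          rw [← sq_mul hwr (k := 0) (by rw [hw2, zpow_zero]) c, ← hcw]
          calc h * w * h⁻¹ * (h * w * h⁻¹) = h * (w * w) * h⁻¹ := by group
            _ = 1 := by rw [hw2]; group
        rw [← orderOf_dvd_iff_zpow_eq_one, hN] at h1
        push_cast at h1
        have h2 : (2 : ℤ) ^ (l + 2) ∣ c * s := by
          rw [show c + r * c + 0 = 2 * (c * s) by linear_combination c * hr1, pow_succ' _ (l + 2)] at h1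
          exact (mul_dvd_mul_iff_left (two_ne_zero)).mp h1
        have h3 : IsCoprime ((2 : ℤ) ^ (l + 2)) s :=
          IsCoprime.pow_left ⟨-(2 ^ l * u), 1, by rw [hs]; ring⟩
        rw [hcw]
        rcases zpow_cases hN (h3.dvd_of_dvd_mul_right h2) with h4 | h4 <;> rw [h4]
        · rw [one_mul]; exact subset_closure (by simp)
        · exact mul_mem (subset_closure (by simp [hz])) (subset_closure (by simp))
    exact hle hx
  -- P/A has exponent two
  have hstep : ∀ g : P, g ^ 4 ∈ zpowers a → g ^ 2 ∈ zpowers a := by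
    intro g hg4
    by_contra hg2
    obtain ⟨r, hg⟩ := hr g
    have hg' : g ^ 2 * a * (g ^ 2)⁻¹ = a ^ (r ^ 2) := PGroupsCyclic.conj_iterate hg 2
    obtain ⟨s, hs⟩ := hodd g r hg
    have h4 : g ^ 2 * g ^ 2 ∈ zpowers a := by rwa [← pow_add]
    obtain ⟨k, hk⟩ := mem_zpowers_iff.mp h4
    have hd : (2 : ℤ) ^ (m + 1) ∣ (r ^ 2) ^ 2 - 1 := by
      have h' := PGroupsCyclic.dvd_of_pow_mem hg' (m := 2) (by
        rw [pow_two (g ^ 2), ← hk]; exact Commute.zpow_self a k)
      rw [hN] at h'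
      push_cast at h'
      exact h'
    rcases Nat.lt_or_ge m 2 with hm2 | hm2
    · refine hg2 (hcent' _ _ hg' ?_)
      have h4d : (4 : ℤ) ∣ r ^ 2 - 1 := ⟨s * s + s, by rw [hs]; ring⟩
      have : (2 : ℤ) ^ (m + 1) ∣ 4 := by
        interval_cases m <;> norm_num
      exact this.trans h4d
    rcases PGroupsCyclic.int_sq_sub_one hd with h | h
    · exact hnomod _ _ hg' hg2 h4 hm2 h
    · obtain ⟨l, rfl⟩ : ∃ l, m = l + 2 := ⟨m - 2, by omega⟩
      have h1 : (4 : ℤ) ∣ r ^ 2 + 1 := dvd_trans (⟨2 ^ l, by ring⟩ : (4 : ℤ) ∣ 2 ^ (l + 2)) h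
      rw [hs, show (2 * s + 1) ^ 2 + 1 = 4 * (s * s + s) + 2 by ring] at h1
      omega
  have hexp : ∀ (k : ℕ) (g : P), g ^ 2 ^ k ∈ zpowers a → g ^ 2 ∈ zpowers a := by
    intro k
    induction k with
    | zero => intro g hg; rw [pow_zero, pow_one] at hg; exact pow_mem hg 2
    | succ k ih =>
      intro g hg
      refine hstep g ?_
      have h := ih (g ^ 2) (by rw [← pow_mul, ← pow_succ']; exact hg)
      rwa [← pow_mul] at h
  have hsq : ∀ g : P, g * g ∈ zpowers a := by
    intro g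
    obtain ⟨k, hk⟩ := hP g
    rw [← pow_two]
    exact hexp k g (by rw [hk]; exact one_mem _)
  -- elements outside A invert a modulo 2^m
  have hout : ∀ (g : P) (r : ℤ), g * a * g⁻¹ = a ^ r → g ∉ zpowers a →
      (2 : ℤ) ^ m ∣ r + 1 ∧ (m = 1 → (2 : ℤ) ^ (m + 1) ∣ r + 1) ∧ m ≠ 0 := by
    intro g r hg hgA
    obtain ⟨k, hk⟩ := mem_zpowers_iff.mp (hsq g)
    have hd : (2 : ℤ) ^ (m + 1) ∣ r ^ 2 - 1 := by
      have h' := PGroupsCyclic.dvd_of_pow_mem hg (m := 2) (by
        rw [pow_two, ← hk]; exact Commute.zpow_self a k)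
      rw [hN] at h'
      push_cast at h'
      exact h'
    have hne : ¬ (2 : ℤ) ^ (m + 1) ∣ r - 1 := fun h => hgA (hcent' g r hg h)
    obtain ⟨s, hs⟩ := hodd g r hg
    rcases Nat.lt_or_ge m 2 with hm2 | hm2
    · interval_cases m
      · exact absurd ⟨s, by rw [hs]; ring⟩ hne
      · norm_num at hne ⊢
        constructor <;> omega
    · rcases PGroupsCyclic.int_sq_sub_one hd with h | h
      · exact absurd h (fun h => hnomod g r hg hgA (hsq g) hm2 h)
      · exact ⟨h, fun h' => by omega, by omega⟩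
  obtain ⟨x, hx⟩ : ∃ x, x ∉ zpowers a := by
    by_contra h
    push Not at h
    exact hPnc (isCyclic_iff_exists_zpowers_eq_top.mpr ⟨a, eq_top_iff.mpr fun g _ => h g⟩)
  obtain ⟨r, hxr⟩ := hr x
  obtain ⟨hr1, hr1', hm0⟩ := hout x r hxr hx
  have hidx : (zpowers a).index = 2 := by
    rw [index_eq_two_iff]
    refine ⟨x, fun y => ?_⟩
    by_cases hy : y ∈ zpowers a
    · right; exact ⟨hy, fun h => hx ((Subgroup.mul_mem_cancel_left _ hy).mp h)⟩
    · left
      refine ⟨?_, hy⟩
      by_contra hyx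
      obtain ⟨r', hyr⟩ := hr y
      obtain ⟨hr2, hr2', -⟩ := hout y r' hyr hy
      have hprod : y * x * a * (y * x)⁻¹ = a ^ (r' * r) := by
        rw [← PGroupsCyclic.conj_zpow_eq hyr, ← hxr]; group
      obtain ⟨h3, h3', -⟩ := hout _ _ hprod hyx
      by_cases hm1 : m = 1
      · obtain ⟨b1, hb1⟩ := hr1' hm1
        obtain ⟨b2, hb2⟩ := hr2' hm1
        refine hyx (hcent' _ _ hprod ⟨b2 * r - b1, ?_⟩)
        linear_combination r * hb2 - hb1
      · obtain ⟨b1, hb1⟩ := hr1
        obtain ⟨b2, hb2⟩ := hr2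
        obtain ⟨b3, hb3⟩ := h3
        have : (2 : ℤ) ^ m ∣ 2 := ⟨b3 - r * b2 + b1, by linear_combination hb3 - r * hb2 + hb1⟩
        have h4 : (4 : ℤ) ∣ 2 ^ m := by
          rw [show m = (m - 2) + 2 by omega, pow_add]; exact Dvd.intro_left _ rfl
        exact absurd (h4.trans this) (by norm_num)
  have hcard : Nat.card P = 2 * 2 ^ (m + 1) := by
    rw [← (zpowers a).card_mul_index, hidx, Nat.card_zpowers, hN, mul_comm]
  obtain ⟨k, hk⟩ := mem_zpowers_iff.mp (hsq x)
  have hfix := fixed_exp hN hxr hk.symm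
  by_cases hinv : (2 : ℤ) ^ (m + 1) ∣ r + 1
  · have hxinv : x * a * x⁻¹ = a⁻¹ := by
      rw [hxr, ← zpow_neg_one]
      exact (zpow_eq_iff hN _ _).mpr (by push_cast; simpa using hinv)
    have hk2 : (2 : ℤ) ^ m ∣ k := by
      obtain ⟨b, hb⟩ := hinv
      obtain ⟨c, hc⟩ := hfix
      refine ⟨k * b - c, mul_left_cancel₀ (two_ne_zero (α := ℤ)) ?_⟩
      linear_combination k * hb - hc
    rcases zpow_cases hN hk2 with h | h
    · have hx2 : x * x = 1 := by rw [← hk, h]
      right; left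
      refine ⟨2 ^ (m + 1), ?_, PGroupsCyclic.nonempty_mulEquiv_dihedral hN hx hxinv
        (by rw [pow_two]; exact hx2) hcard⟩
      by_contra hlt
      have hm1 : m = 1 := by
        by_contra hm1
        have : 2 ^ 3 ≤ 2 ^ (m + 1) := Nat.pow_le_pow_right two_pos (by omega)
        omega
      refine hfour x hx2 hx (normal_of_index_eq_two ?_)
      have hV : Nat.card P = 8 := by rw [hcard, hm1]; rfl
      have hge : 3 ≤ Nat.card (closure ({z, x} : Set P)) := by
        have hsub : ({1, z, x} : Set P) ⊆ (closure ({z, x} : Set P) : Subgroup P) := by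
          intro y hy
          simp only [Set.mem_insert_iff, Set.mem_singleton_iff] at hy
          rcases hy with hy | hy | hy <;> rw [hy]
          · exact one_mem _
          · exact subset_closure (by simp)
          · exact subset_closure (by simp)
        have h3 : ({1, z, x} : Set P).ncard = 3 := by
          rw [Set.ncard_eq_three]
          exact ⟨1, z, x, Ne.symm hz1, fun h => hx (h ▸ one_mem _), fun h => hx (h ▸ hzA), rfl⟩
        have := Set.ncard_le_ncard hsub (Set.toFinite _)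
        rw [h3, ← Nat.card_coe_set_eq] at this
        exact this
      have hne : closure ({z, x} : Set P) ≠ ⊤ := by
        intro ht
        have hle : closure ({z, x} : Set P) ≤ centralizer ({x} : Set P) := by
          rw [closure_le]
          intro y hy
          simp only [Set.mem_insert_iff, Set.mem_singleton_iff] at hy
          rcases hy with hy | hy <;> rw [hy] <;> apply mem_centralizer_singleton_iff.mpr
          · exact (hzc x).symm
          · rfl
        have hax : a * x = x * a := mem_centralizer_singleton_iff.mp (hle (ht ▸ mem_top a))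
        exact hx (hcent x (by rw [← hax, mul_inv_cancel_right]))
      have hdvd := (closure ({z, x} : Set P)).card_mul_index
      rw [hV] at hdvd
      have hne1 : (closure ({z, x} : Set P)).index ≠ 1 := fun h => hne (index_eq_one.mp h)
      have h0 : (closure ({z, x} : Set P)).index ≠ 0 := index_ne_zero_of_finite
      have hle2 : (closure ({z, x} : Set P)).index ≤ 2 := by
        by_contra h
        have := Nat.mul_le_mul hge (show 3 ≤ (closure ({z, x} : Set P)).index by omega)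
        omega
      omega
    · left
      refine ⟨2 ^ m, PGroupsCyclic.nonempty_mulEquiv_quaternion (by rw [hN]; ring) hx hxinv
        (by rw [pow_two, ← hk, h]) (by rw [hcard]; ring)⟩
  · right; right
    obtain ⟨b, hb⟩ := hr1
    have hb2 : Odd b := by
      by_contra h
      obtain ⟨c, rfl⟩ := Int.not_odd_iff_even.mp h
      exact hinv ⟨c, by rw [hb]; ring⟩
    have hm2 : 2 ≤ m := by
      by_contra h
      exact hinv (hr1' (by omega))
    obtain ⟨l, rfl⟩ : ∃ l, m = l + 2 := ⟨m - 2, by omega⟩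
    have hk2 : (2 : ℤ) ^ (l + 2) ∣ k := by
      have h1 : (2 : ℤ) ^ (l + 2) ∣ k * (1 - 2 ^ (l + 1) * b) := by
        refine (mul_dvd_mul_iff_left (two_ne_zero (α := ℤ))).mp ?_
        rw [← pow_succ', show 2 * (k * (1 - 2 ^ (l + 1) * b)) = -(r * k - k) by
          linear_combination k * hb]
        exact dvd_neg.mpr hfix
      exact (IsCoprime.pow_left ⟨2 ^ l * b, 1, by ring⟩ :
        IsCoprime ((2 : ℤ) ^ (l + 2)) (1 - 2 ^ (l + 1) * b)).dvd_of_dvd_mul_right h1
    have hrel : a ^ r = a ^ (2 ^ (l + 3 - 1) - 1 : ℕ) := by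
      rw [← zpow_natCast, zpow_eq_iff hN, Nat.cast_sub Nat.one_le_two_pow]
      push_cast
      obtain ⟨c, rfl⟩ := hb2
      exact ⟨c, by linear_combination hb⟩
    obtain ⟨y, hyA, hy2, hyr⟩ : ∃ y, y ∉ zpowers a ∧ y * y = 1 ∧ y * a * y⁻¹ = a ^ r := by
      rcases zpow_cases hN hk2 with h | h
      · exact ⟨x, hx, by rw [← hk, h], hxr⟩
      · refine ⟨a ^ (1 : ℤ) * x, fun h' => hx ((Subgroup.mul_mem_cancel_left _
          (zpow_mem (mem_zpowers a) 1)).mp h'), ?_, ?_⟩
        · rw [sq_mul hxr (k := (2 : ℤ) ^ (l + 2)) (by rw [← hk, h, ← zpow_natCast]; norm_num) 1,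
            ← orderOf_dvd_iff_zpow_eq_one, hN]
          push_cast
          obtain ⟨c, rfl⟩ := hb2
          exact ⟨c + 1, by linear_combination hb⟩
        · calc a ^ (1 : ℤ) * x * a * (a ^ (1 : ℤ) * x)⁻¹
              = a ^ (1 : ℤ) * (x * a * x⁻¹) * (a ^ (1 : ℤ))⁻¹ := by group
            _ = a ^ r := by rw [hxr]; group
    refine ⟨l + 3, by omega, by rw [hcard]; ring, a, y, hN, ?_, hyr.trans hrel⟩
    exact orderOf_eq_prime (by rw [pow_two]; exact hy2) (fun h => hyA (h ▸ one_mem _))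

end Cfsg.Agent.S0519
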