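import Mathlib
import Cfsg.Agent.Lib.PGroupsBasic
import Cfsg.Statements.S0520

set_option autoImplicit false
set_option linter.unusedVariables false
set_option linter.unusedSectionVars false
open Cfsg

namespace Cfsg.Agent.S0520

open Pointwise

/-- A conjugate of a Klein four subgroup is a Klein four subgroup. -/
theorem four_conj {G : Type*} [Group G] {U : Subgroup G} (hU : IsKleinFour U) (g : G) :
    IsKleinFour (MulAut.conj g • U : Subgroup G) :=
  { card_four := (Nat.card_congr (Subgroup.equivSMul (MulAut.conj g) U).toEquiv).symm.trans hU.card_four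
    exponent_two := (Monoid.exponent_eq_of_mulEquiv (Subgroup.equivSMul (MulAut.conj g) U)).symm.trans
      hU.exponent_two }

theorem four_map {S G : Type*} [Group S] [Group G] (f : S →* G) (hf : Function.Injective f)
    {U : Subgroup S} (hU : IsKleinFour U) : IsKleinFour (U.map f : Subgroup G) :=
  { card_four := (Subgroup.card_map_of_injective hf).trans hU.card_four
    exponent_two := (Monoid.exponent_eq_of_mulEquiv (Subgroup.equivMapOfInjective U f hf)).symm.trans
      hU.exponent_two }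

theorem four_of_subgroupOf {G : Type*} [Group G] {U T : Subgroup G} (hU : IsKleinFour U) (h : U ≤ T) :
    IsKleinFour (U.subgroupOf T) :=
  { card_four := (Nat.card_congr (Subgroup.subgroupOfEquivOfLe h).toEquiv).trans hU.card_four
    exponent_two := (Monoid.exponent_eq_of_mulEquiv (Subgroup.subgroupOfEquivOfLe h)).trans
      hU.exponent_two }

theorem not_rank_of_four {G : Type*} [Group G] {U Q : Subgroup G} (hU : IsKleinFour U) (h : U ≤ Q) :
    ¬ Cfsg.PRankLE 2 1 Q := by
  intro hr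
  haveI := four_of_subgroupOf hU h
  have h1 := hr (U.subgroupOf Q) ⟨⟨fun a b => mul_comm_of_exponent_two IsKleinFour.exponent_two a b⟩⟩
    (fun a ha => by
      have e := Monoid.pow_exponent_eq_one (⟨a, ha⟩ : U.subgroupOf Q)
      rw [IsKleinFour.exponent_two] at e
      exact congrArg Subtype.val e)
  rw [IsKleinFour.card_four] at h1
  norm_num at h1

theorem exists_four {G : Type*} [Group G] [Finite G] (h : ¬ Cfsg.PRankLE 2 1 G) :
    ∃ U : Subgroup G, IsKleinFour U := by
  unfold Cfsg.PRankLE at h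
  push Not at h
  obtain ⟨A, hA, hA2, hcard⟩ := h
  haveI : Fact (Nat.Prime 2) := ⟨Nat.prime_two⟩
  have hp : IsPGroup 2 A := fun a => ⟨1, Subtype.ext (by simpa using hA2 a a.2)⟩
  obtain ⟨k, hk⟩ := IsPGroup.iff_card.mp hp
  have hk2 : 2 ≤ k := by
    by_contra h'
    interval_cases k <;> rw [hk] at hcard <;> norm_num at hcard
  obtain ⟨K, hK⟩ := Sylow.exists_subgroup_card_pow_prime 2 (n := 2) (hk ▸ pow_dvd_pow 2 hk2)
  refine ⟨K.map A.subtype, four_map A.subtype A.subtype_injective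
    { card_four := hK.trans (by norm_num), exponent_two := ?_ }⟩
  have hd : Monoid.exponent K ∣ 2 := Monoid.exponent_dvd_of_forall_pow_eq_one fun a =>
    Subtype.ext (Subtype.ext (by simpa using hA2 (a : A).1 (a : A).2))
  rcases (Nat.dvd_prime Nat.prime_two).mp hd with h1 | h1
  · rw [Monoid.exp_eq_one_iff] at h1
    have := Nat.card_eq_one_iff_unique.mpr ⟨h1, ⟨(1 : K)⟩⟩
    rw [hK] at this
    norm_num at this
  · exact h1

theorem lt_inf_normalizer {G : Type*} [Group G] [Finite G] {p : ℕ} [Fact p.Prime] {P Q : Subgroup G}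
    (hP : IsPGroup p P) (hQP : Q < P) : Q < P ⊓ Subgroup.normalizer (Q : Set G) := by
  haveI := hP.isNilpotent
  have h1 : Q.subgroupOf P < ⊤ := lt_top_iff_ne_top.mpr fun h =>
    hQP.not_ge (Subgroup.subgroupOf_eq_top.mp h)
  obtain ⟨-, u, hu, huQ⟩ := SetLike.lt_iff_le_and_exists.mp
    (Group.normalizerCondition_of_isNilpotent (G := P) _ h1)
  refine lt_of_le_of_ne (le_inf hQP.le Subgroup.le_normalizer) fun he => huQ ?_
  rw [Subgroup.mem_subgroupOf, he]
  refine ⟨u.2, Subgroup.mem_normalizer_iff.mpr fun x => ⟨fun hx => ?_, fun hx => ?_⟩⟩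
  · have := (Subgroup.mem_normalizer_iff.mp hu ⟨x, hQP.le hx⟩).mp (by simpa [Subgroup.mem_subgroupOf] using hx)
    simpa [Subgroup.mem_subgroupOf] using this
  · have hxP : x ∈ P := by
      have := mul_mem (mul_mem (inv_mem u.2) (hQP.le hx)) u.2
      simpa [mul_assoc] using this
    have := (Subgroup.mem_normalizer_iff.mp hu ⟨x, hxP⟩).mpr (by simpa [Subgroup.mem_subgroupOf] using hx)
    simpa [Subgroup.mem_subgroupOf] using this

theorem conj_normalizer {G : Type*} [Group G] {D : Subgroup G} {m x : G}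
    (hx : x ∈ Subgroup.normalizer (D : Set G)) :
    m⁻¹ * x * m ∈ Subgroup.normalizer ((MulAut.conj m⁻¹ • D : Subgroup G) : Set G) := by
  rw [Subgroup.mem_normalizer_iff] at hx ⊢
  intro a
  have hm : ∀ b : G, b ∈ (MulAut.conj m⁻¹ • D : Subgroup G) ↔ m * b * m⁻¹ ∈ D := by
    intro b
    rw [Subgroup.mem_pointwise_smul_iff_inv_smul_mem]
    simp [MulAut.smul_def]
  rw [hm, hm, hx (m * a * m⁻¹)]
  simp [mul_assoc]

theorem coe_smul' {G : Type*} [Group G] {p : ℕ} (g : G) (P : Sylow p G) :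
    ((g • P : Sylow p G) : Subgroup G) = MulAut.conj g • (P : Subgroup G) := rfl

section Good

variable {G : Type*} [Group G] [Finite G]

/-- The Sylow subgroup `T` is an `M`-conjugate of `S`. -/
def Good (M : Subgroup G) (S T : Sylow 2 G) : Prop := ∃ m ∈ M, T = m • S

theorem good_of_inter {M : Subgroup G} {S : Sylow 2 G}
    (hM : ∀ Q : Subgroup G, Q ≤ (S : Subgroup G) → ¬ Cfsg.PRankLE 2 1 Q →
      Subgroup.normalizer (Q : Set G) ≤ M) :
    ∀ k, ∀ T₁ T₂ : Sylow 2 G, ∀ U : Subgroup G, IsKleinFour U →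
      U ≤ (T₁ : Subgroup G) ⊓ (T₂ : Subgroup G) →
      Nat.card G - Nat.card ↥((T₁ : Subgroup G) ⊓ (T₂ : Subgroup G)) = k →
      Good M S T₁ → Good M S T₂ := by
  haveI : Fact (Nat.Prime 2) := ⟨Nat.prime_two⟩
  intro k
  induction k using Nat.strong_induction_on with
  | _ k ih =>
    intro T₁ T₂ U hU hUle hk hg1
    set D := (T₁ : Subgroup G) ⊓ (T₂ : Subgroup G) with hD
    by_cases h1 : D = (T₁ : Subgroup G)
    · have hle : (T₁ : Subgroup G) ≤ (T₂ : Subgroup G) := h1 ▸ inf_le_right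
      rw [Sylow.ext (T₁.3 T₂.2 hle) ]
      exact hg1
    have h2 : D ≠ (T₂ : Subgroup G) := fun h2 =>
      h1 (inf_eq_left.mpr (T₂.3 T₁.2 (h2 ▸ inf_le_left)).le)
    have hDT₁ := lt_inf_normalizer T₁.2 (lt_of_le_of_ne inf_le_left h1 : D < _)
    have hDT₂ := lt_inf_normalizer T₂.2 (lt_of_le_of_ne inf_le_right h2 : D < _)
    obtain ⟨m, hm, hT⟩ := id hg1
    have hN : Subgroup.normalizer (D : Set G) ≤ M := by
      intro x hx
      have hle : (MulAut.conj m⁻¹ • D : Subgroup G) ≤ (S : Subgroup G) := by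
        rw [map_inv, ← Subgroup.subset_pointwise_smul_iff, ← coe_smul', ← hT]
        exact inf_le_left
      have hr : ¬ Cfsg.PRankLE 2 1 ↥(MulAut.conj m⁻¹ • D : Subgroup G) :=
        not_rank_of_four (four_conj hU m⁻¹) (Subgroup.pointwise_smul_le_pointwise_smul_iff.mpr hUle)
      have := mul_mem (mul_mem hm (hM _ hle hr (conj_normalizer hx))) (inv_mem hm)
      simpa [mul_assoc] using this
    set N := Subgroup.normalizer (D : Set G) with hNd
    obtain ⟨R₁, hR₁⟩ := ((T₁.2.to_le inf_le_left : IsPGroup 2 ↥((T₁ : Subgroup G) ⊓ N)).comap_subtype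
      (K := N)).exists_le_sylow
    obtain ⟨R, hR⟩ := ((T₂.2.to_le inf_le_left : IsPGroup 2 ↥((T₂ : Subgroup G) ⊓ N)).comap_subtype
      (K := N)).exists_le_sylow
    obtain ⟨⟨n, hn⟩, hnR⟩ := MulAction.exists_smul_eq N R₁ R
    obtain ⟨T₃, hT₃⟩ := (R₁.2.map N.subtype).exists_le_sylow
    have hsub₁ : (T₁ : Subgroup G) ⊓ N ≤ (R₁ : Subgroup N).map N.subtype := by
      intro x hx
      exact ⟨⟨x, hx.2⟩, hR₁ hx, rfl⟩
    have hsub₂ : (T₂ : Subgroup G) ⊓ N ≤ ((n • T₃ : Sylow 2 G) : Subgroup G) := by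
      intro x hx
      have hxR : (⟨x, hx.2⟩ : N) ∈ ((⟨n, hn⟩ : N) • R₁ : Sylow 2 N).toSubgroup := hnR ▸ hR hx
      rw [coe_smul', Subgroup.mem_pointwise_smul_iff_inv_smul_mem] at hxR ⊢
      exact hT₃ ⟨_, hxR, by simp [MulAut.smul_def]⟩
    have hg3 : Good M S T₃ := by
      have hle : (T₁ : Subgroup G) ⊓ N ≤ (T₁ : Subgroup G) ⊓ (T₃ : Subgroup G) :=
        le_inf inf_le_left (hsub₁.trans hT₃)
      refine ih _ ?_ T₁ T₃ U hU (hUle.trans (hDT₁.le.trans hle)) rfl hg1
      have h3 : Nat.card D < Nat.card ↥((T₁ : Subgroup G) ⊓ (T₃ : Subgroup G)) :=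
        Set.ncard_lt_ncard (lt_of_lt_of_le hDT₁ hle) (Set.toFinite _)
      have h4 := Subgroup.card_le_card_group ((T₁ : Subgroup G) ⊓ (T₃ : Subgroup G))
      omega
    obtain ⟨m₃, hm₃, hT₃'⟩ := hg3
    have hg4 : Good M S (n • T₃) := ⟨n * m₃, mul_mem (hN hn) hm₃, by rw [mul_smul, hT₃']⟩
    have hle : (T₂ : Subgroup G) ⊓ N ≤ ((n • T₃ : Sylow 2 G) : Subgroup G) ⊓ (T₂ : Subgroup G) :=
      le_inf hsub₂ inf_le_left
    refine ih _ ?_ (n • T₃) T₂ U hU (hUle.trans (hDT₂.le.trans hle)) rfl hg4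
    have h3 : Nat.card D < Nat.card ↥(((n • T₃ : Sylow 2 G) : Subgroup G) ⊓ (T₂ : Subgroup G)) :=
      Set.ncard_lt_ncard (lt_of_lt_of_le hDT₂ hle) (Set.toFinite _)
    have h4 := Subgroup.card_le_card_group (((n • T₃ : Sylow 2 G) : Subgroup G) ⊓ (T₂ : Subgroup G))
    omega

theorem conn_symm {U V : Subgroup G} (h : Relation.ReflTransGen (fun A B : Subgroup G =>
      IsKleinFour A ∧ IsKleinFour B ∧ ∀ a ∈ A, ∀ b ∈ B, a * b = b * a) U V) :
    Relation.ReflTransGen (fun A B : Subgroup G =>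
      IsKleinFour A ∧ IsKleinFour B ∧ ∀ a ∈ A, ∀ b ∈ B, a * b = b * a) V U := by
  induction h with
  | refl => exact Relation.ReflTransGen.refl
  | tail _ hAB ih =>
    exact Relation.ReflTransGen.head ⟨hAB.2.1, hAB.1, fun a ha b hb => (hAB.2.2 b hb a ha).symm⟩ ih

theorem conn_conj {U V : Subgroup G} (g : G) (h : Relation.ReflTransGen (fun A B : Subgroup G =>
      IsKleinFour A ∧ IsKleinFour B ∧ ∀ a ∈ A, ∀ b ∈ B, a * b = b * a) U V) :
    Relation.ReflTransGen (fun A B : Subgroup G =>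
      IsKleinFour A ∧ IsKleinFour B ∧ ∀ a ∈ A, ∀ b ∈ B, a * b = b * a)
      (MulAut.conj g • U) (MulAut.conj g • V) := by
  refine h.lift (fun W => MulAut.conj g • W) ?_
  rintro A B ⟨hA, hB, hc⟩
  refine ⟨four_conj hA g, four_conj hB g, ?_⟩
  rintro _ ⟨a, ha, rfl⟩ _ ⟨b, hb, rfl⟩
  simp only [MulDistribMulAction.toMonoidEnd_apply, MulDistribMulAction.toMonoidHom_apply,
    ← smul_mul', hc a ha b hb]

theorem conn_of_le_sylow {S : Sylow 2 G} (hS : Cfsg.IsFourConnected (S : Subgroup G))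
    {U V : Subgroup G} (hU : IsKleinFour U) (hV : IsKleinFour V)
    (hUS : U ≤ (S : Subgroup G)) (hVS : V ≤ (S : Subgroup G)) :
    Relation.ReflTransGen (fun A B : Subgroup G =>
      IsKleinFour A ∧ IsKleinFour B ∧ ∀ a ∈ A, ∀ b ∈ B, a * b = b * a) U V := by
  have h := (hS _ _ (four_of_subgroupOf hU hUS) (four_of_subgroupOf hV hVS)).lift
    (fun W => W.map (S : Subgroup G).subtype)
    (p := fun A B : Subgroup G => IsKleinFour A ∧ IsKleinFour B ∧ ∀ a ∈ A, ∀ b ∈ B, a * b = b * a) ?_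
  · simpa only [Function.onFun, Subgroup.map_subgroupOf_eq_of_le hUS, Subgroup.map_subgroupOf_eq_of_le hVS] using h
  rintro A B ⟨hA, hB, hc⟩
  refine ⟨four_map _ (Subgroup.subtype_injective _) hA, four_map _ (Subgroup.subtype_injective _) hB, ?_⟩
  rintro _ ⟨a, ha, rfl⟩ _ ⟨b, hb, rfl⟩
  rw [← map_mul, hc a ha b hb, map_mul]

end Good

theorem result {G : Type*} [Group G] [Finite G] (h2 : ¬ Cfsg.PRankLE 2 1 G)
    (S : Sylow 2 G) (hS : Cfsg.IsFourConnected (S : Subgroup G)) :
    ¬ Cfsg.IsFourConnected G ↔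
      (⨆ Q : {Q : Subgroup G // Q ≤ (S : Subgroup G) ∧ ¬ Cfsg.PRankLE 2 1 Q},
          Subgroup.normalizer ((Q : Subgroup G) : Set G)) ≠ ⊤ := by
  haveI : Fact (Nat.Prime 2) := ⟨Nat.prime_two⟩
  set M : Subgroup G := ⨆ Q : {Q : Subgroup G // Q ≤ (S : Subgroup G) ∧ ¬ Cfsg.PRankLE 2 1 Q},
    Subgroup.normalizer ((Q : Subgroup G) : Set G) with hMd
  have hM : ∀ Q : Subgroup G, Q ≤ (S : Subgroup G) → ¬ Cfsg.PRankLE 2 1 Q →
      Subgroup.normalizer (Q : Set G) ≤ M := fun Q h1 h2 =>
    le_iSup (fun Q : {Q : Subgroup G // Q ≤ (S : Subgroup G) ∧ ¬ Cfsg.PRankLE 2 1 Q} =>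
      Subgroup.normalizer ((Q : Subgroup G) : Set G)) ⟨Q, h1, h2⟩
  -- every four-group is conjugate into `S`
  have hinto : ∀ V : Subgroup G, IsKleinFour V → ∃ g : G, (MulAut.conj g⁻¹ • V : Subgroup G) ≤ S := by
    intro V hV
    obtain ⟨T, hT⟩ := (IsPGroup.of_card (p := 2) (n := 2) hV.card_four).exists_le_sylow
    obtain ⟨g, hg⟩ := MulAction.exists_smul_eq G S T
    refine ⟨g, ?_⟩
    rw [map_inv, ← Subgroup.subset_pointwise_smul_iff, ← coe_smul', hg]
    exact hT
  obtain ⟨V₀, hV₀⟩ := exists_four h2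
  obtain ⟨g₀, hg₀⟩ := hinto V₀ hV₀
  set U := (MulAut.conj g₀⁻¹ • V₀ : Subgroup G) with hUd
  have hU : IsKleinFour U := four_conj hV₀ g₀⁻¹
  constructor
  · intro hdis htop
    apply hdis
    let r : Subgroup G → Subgroup G → Prop := fun A B : Subgroup G =>
      IsKleinFour A ∧ IsKleinFour B ∧ ∀ a ∈ A, ∀ b ∈ B, a * b = b * a
    let K : Subgroup G :=
      { carrier := {g : G | Relation.ReflTransGen r U (MulAut.conj g • U)}
        one_mem' := by simp [Relation.ReflTransGen.refl]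
        mul_mem' := fun {a b} ha hb => by
          show Relation.ReflTransGen r U (MulAut.conj (a * b) • U)
          rw [map_mul, mul_smul]
          exact ha.trans (conn_conj a hb)
        inv_mem' := fun {a} ha => by
          show Relation.ReflTransGen r U (MulAut.conj a⁻¹ • U)
          have h := conn_symm (conn_conj a⁻¹ ha)
          rwa [map_inv, inv_smul_smul, ← map_inv] at h }
    have hK : ⊤ ≤ K := by
      rw [← htop]
      refine iSup_le ?_
      rintro ⟨Q, hQS, hQr⟩ g hg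
      obtain ⟨V', hV'⟩ := exists_four hQr
      set V := V'.map Q.subtype with hVd
      have hV : IsKleinFour V := four_map _ Q.subtype_injective hV'
      have hVQ : V ≤ Q := Subgroup.map_subtype_le _
      have hgV : (MulAut.conj g • V : Subgroup G) ≤ Q := by
        rintro _ ⟨v, hv, rfl⟩
        simpa [MulAut.smul_def] using (Subgroup.mem_normalizer_iff.mp hg v).mp (hVQ hv)
      show Relation.ReflTransGen r U (MulAut.conj g • U)
      exact (conn_of_le_sylow hS hU (four_conj hV g) hg₀ (hgV.trans hQS)).trans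
        (conn_conj g (conn_of_le_sylow hS hV hU (hVQ.trans hQS) hg₀))
    have hall : ∀ V : Subgroup G, IsKleinFour V → Relation.ReflTransGen r U V := by
      intro V hV
      obtain ⟨g, hg⟩ := hinto V hV
      have h := conn_conj g (conn_of_le_sylow hS hU (four_conj hV g⁻¹) hg₀ hg)
      rw [map_inv, smul_inv_smul] at h
      exact (hK (Subgroup.mem_top g)).trans h
    exact fun V W hV hW => (conn_symm (hall V hV)).trans (hall W hW)
  · intro hne hconn
    apply hne
    have hgood : ∀ V, Relation.ReflTransGen (fun A B : Subgroup G =>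
        IsKleinFour A ∧ IsKleinFour B ∧ ∀ a ∈ A, ∀ b ∈ B, a * b = b * a) U V →
        ∀ T : Sylow 2 G, V ≤ (T : Subgroup G) → Good M S T := by
      intro V hV
      induction hV with
      | refl => exact fun T hT => good_of_inter hM _ S T U hU (le_inf hg₀ hT) rfl ⟨1, one_mem _, (one_smul _ _).symm⟩
      | @tail A B _ hAB ih =>
        obtain ⟨hA, hB, hc⟩ := hAB
        intro T hT
        have hn : B ≤ Subgroup.normalizer (A : Set G) := fun b hb =>
          Subgroup.mem_normalizer_iff.mpr fun a => ⟨fun ha => by rwa [← hc a ha b hb, mul_inv_cancel_right],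
            fun ha => by
              have := hc _ ha b hb
              have e : b * a * b⁻¹ = a := by
                have h' := congrArg (fun z => b⁻¹ * z) this
                simp only [mul_assoc, inv_mul_cancel, mul_one, inv_mul_cancel_left] at h'
                rw [mul_assoc]; exact h'.symm
              rwa [e] at ha⟩
        obtain ⟨T', hT'⟩ := ((IsPGroup.of_card (p := 2) (n := 2) hB.card_four).to_sup_of_normal_right'
          (IsPGroup.of_card (p := 2) (n := 2) hA.card_four) hn).exists_le_sylow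
        exact good_of_inter hM _ T' T B hB (le_inf (le_sup_left.trans hT') hT) rfl
          (ih T' (le_sup_right.trans hT'))
    rw [eq_top_iff]
    intro g _
    obtain ⟨m, hm, hgm⟩ := hgood _ (hconn _ _ hU (four_conj hU g)) (g • S)
      (by rw [coe_smul']; exact Subgroup.pointwise_smul_le_pointwise_smul_iff.mpr hg₀)
    have : m⁻¹ * g ∈ M := by
      apply hM S le_rfl (not_rank_of_four hU hg₀)
      exact Sylow.smul_eq_iff_mem_normalizer.mp (by rw [mul_smul, hgm, inv_smul_smul])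
    simpa using mul_mem hm this

end Cfsg.Agent.S0520
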