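import Mathlib
import Cfsg.Statements.S0585

set_option autoImplicit false
set_option linter.unusedVariables false
set_option linter.unusedSectionVars false
open Cfsg

namespace Cfsg.Agent.S0585



theorem result {G : Type*} [Group G] [Finite G] (hΦ : frattini G = ⊥) (A : Subgroup G) [A.Normal] [IsMulCommutative A] : ∃ H : Subgroup G, Subgroup.IsComplement' A H := by
  obtain ⟨H, hH, hmin⟩ := WellFounded.has_min (wellFounded_lt : WellFounded ((· < ·) : Subgroup G → Subgroup G → Prop))
    {H : Subgroup G | A ⊔ H = ⊤} ⟨⊤, sup_top_eq A⟩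
  have hH' : A ⊔ H = ⊤ := hH
  set D := A ⊓ H with hD
  have hDn : D.Normal := by
    rw [← Subgroup.normalizer_eq_top_iff, eq_top_iff, ← hH']
    refine sup_le (fun a ha => ?_) (fun h hh => ?_) <;> rw [Subgroup.mem_normalizer_iff] <;> intro x
    · constructor <;> intro hx
      · have h1 : a * x * a⁻¹ = x := by
          rw [setLike_mul_comm ha hx.1, mul_inv_cancel_right]
        rwa [h1]
      · have hxA : x ∈ A := by simpa [mul_assoc] using mul_mem (mul_mem (inv_mem ha) hx.1) ha
        have h1 : a * x * a⁻¹ = x := by rw [setLike_mul_comm ha hxA, mul_inv_cancel_right]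
        rwa [h1] at hx
    · exact and_congr (Subgroup.mem_normalizer_iff.mp (Subgroup.normalizer_eq_top (H := A) ▸ Subgroup.mem_top h) x)
        (Subgroup.mem_normalizer_iff.mp (Subgroup.le_normalizer hh) x)
  refine ⟨H, Subgroup.isComplement'_of_disjoint_and_mul_eq_univ ?_ ?_⟩
  · rw [disjoint_iff]
    by_contra hne
    obtain ⟨M, hM, hnle⟩ : ∃ M : Subgroup G, IsCoatom M ∧ ¬ D ≤ M := by
      by_contra hc
      push Not at hc
      have : D ≤ frattini G := le_iInf₂ hc
      exact hne (le_bot_iff.mp (hΦ ▸ this))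
    have hMD : M ⊔ D = ⊤ := hM.2 _ (lt_of_le_of_ne le_sup_left (fun e => hnle (e ▸ le_sup_right)))
    have hsup : A ⊔ (M ⊓ H) = ⊤ := by
      rw [eq_top_iff, ← hH']
      refine sup_le le_sup_left fun h hh => ?_
      obtain ⟨m, hm, d, hd, e⟩ := Subgroup.mem_sup_of_normal_right.mp
        (hMD ▸ Subgroup.mem_top h : h ∈ M ⊔ D)
      have hmH : m ∈ H := by
        have : m = h * d⁻¹ := by rw [← e, mul_inv_cancel_right]
        rw [this]; exact mul_mem hh (inv_mem hd.2)
      rw [← e]
      exact mul_mem (Subgroup.mem_sup_right ⟨hm, hmH⟩) (Subgroup.mem_sup_left hd.1)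
    have : ¬ M ⊓ H < H := hmin _ hsup
    exact hnle ((inf_le_right : D ≤ H).trans
      (inf_eq_right.mp (eq_of_le_of_not_lt inf_le_right this)))
  · rw [← Subgroup.normal_mul, hH', Subgroup.coe_top]

end Cfsg.Agent.S0585
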