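import Mathlib
import Cfsg.Statements.S0575

set_option autoImplicit false
set_option linter.unusedVariables false
open Cfsg

namespace Cfsg.Agent.S0575



theorem result {G : Type*} [Group G] [Finite G] (H : Subgroup G) [H.Normal] : (frattini ↥H).map H.subtype ≤ frattini G := by
  refine le_iInf₂ fun M hM => ?_
  by_contra hle
  have : (frattini ↥H).Characteristic := frattini_characteristic
  set F := (frattini ↥H).map H.subtype
  have htop : M ⊔ F = ⊤ := hM.2 _ (lt_of_le_of_ne le_sup_left (fun e => hle (e ▸ le_sup_right)))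
  have h1 : M.subgroupOf H ⊔ frattini ↥H = ⊤ := by
    rw [eq_top_iff]
    rintro ⟨x, hx⟩ _
    have hxx : x ∈ M ⊔ F := htop ▸ Subgroup.mem_top _
    obtain ⟨m, hm, _, ⟨f, hf, rfl⟩, e⟩ := Subgroup.mem_sup_of_normal_right.mp hxx
    have hmH : m ∈ H := by
      have : m = x * (f : G)⁻¹ := by rw [← e]; simp
      rw [this]; exact mul_mem hx (inv_mem f.2)
    exact Subgroup.mem_sup_of_normal_right.mpr ⟨⟨m, hmH⟩, hm, f, hf, Subtype.ext e⟩
  have h2 : H ≤ M := Subgroup.subgroupOf_eq_top.mp (frattini_nongenerating h1)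
  exact hle ((Subgroup.map_subtype_le _).trans h2)

end Cfsg.Agent.S0575
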