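import Mathlib
import Cfsg.Agent.Lib.ComponentsFitting
import Cfsg.Agent.Lib.HallSolvable
import Cfsg.Agent.S0575
import Cfsg.Agent.S0585
import Cfsg.Agent.Lib.PGroupsBasic
import Cfsg.Statements.S0586

set_option autoImplicit false
set_option linter.unusedVariables false
set_option linter.unusedSectionVars false
open Cfsg

namespace Cfsg.Agent.S0586

open scoped commutatorElement
open Subgroup

theorem commutator_le_frattini_of_nilpotent {F : Type*} [Group F] [Finite F] (hF : Group.IsNilpotent F) :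
    commutator F ≤ frattini F := by
  refine le_iInf₂ fun M hM => ?_
  have hall : ∀ K : Subgroup F, IsCoatom K → K.Normal :=
    ((Group.isNilpotent_of_finite_tfae (G := F)).out 0 2).mp hF
  have hMn : M.Normal := hall M hM
  by_contra hle
  have htop : commutator F ⊔ M = ⊤ := hM.2 _ (lt_of_le_of_ne le_sup_right (fun e => hle (e ▸ le_sup_left)))
  have h1 : (⊤ : Subgroup (F ⧸ M)) ≤ ⁅(⊤ : Subgroup (F ⧸ M)), (⊤ : Subgroup (F ⧸ M))⁆ := by
    have := congrArg (Subgroup.map (QuotientGroup.mk' M)) htop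
    rw [Subgroup.map_sup, _root_.commutator_def, Subgroup.map_commutator,
      Subgroup.map_top_of_surjective _ (QuotientGroup.mk'_surjective M),
      (Subgroup.map_eq_bot_iff _).mpr (le_of_eq (QuotientGroup.ker_mk' M).symm), sup_bot_eq] at this
    exact this.ge
  have : Group.IsNilpotent (F ⧸ M) := Group.nilpotent_of_surjective _ (QuotientGroup.mk'_surjective M)
  obtain ⟨k, hk⟩ := _root_.nilpotent_iff_lowerCentralSeries.mp this
  have hall : ∀ j, (⊤ : Subgroup (F ⧸ M)) ≤ (⊤ : Subgroup (F ⧸ M)).lowerCentralSeries j := by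
    intro j
    induction j with
    | zero => simp
    | succ j ih =>
      rw [Subgroup.lowerCentralSeries_succ]
      exact h1.trans (Subgroup.commutator_mono ih le_rfl)
  apply hM.1
  rw [eq_top_iff]
  intro x _
  rw [← QuotientGroup.eq_one_iff]
  exact Subgroup.mem_bot.mp (hk ▸ hall k (Subgroup.mem_top _))

theorem result {G : Type*} [Group G] [Finite G] (hΦ : frattini G = ⊥) : Cfsg.fittingSubgroup G = sSup {N : Subgroup G | N.Normal ∧ N ≠ ⊥ ∧ IsMulCommutative N ∧ ∀ K : Subgroup G, K.Normal → K ≤ N → K = ⊥ ∨ K = N} := by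
  set F := Cfsg.fittingSubgroup G with hFd
  have hFn : F.Normal := Subgroup.sSup_normal _ (fun _ h => h.1)
  have hFab : IsMulCommutative F := by
    have h1 : (commutator F).map F.subtype ≤ ⊥ :=
      hΦ ▸ (Subgroup.map_mono (commutator_le_frattini_of_nilpotent inferInstance)).trans (Cfsg.Agent.S0575.result F)
    have h2 : commutator F = ⊥ := by
      rw [le_bot_iff, Subgroup.map_eq_bot_iff_of_injective _ F.subtype_injective] at h1
      exact h1
    refine ⟨⟨fun a b => commutatorElement_eq_one_iff_mul_comm.mp (Subgroup.mem_bot.mp (h2 ▸ ?_))⟩⟩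
    exact Subgroup.commutator_mem_commutator (Subgroup.mem_top a) (Subgroup.mem_top b)
  set S : Subgroup G := sSup {N : Subgroup G | N.Normal ∧ N ≠ ⊥ ∧ IsMulCommutative N ∧ ∀ K : Subgroup G, K.Normal → K ≤ N → K = ⊥ ∨ K = N} with hS
  have hSF : S ≤ F := sSup_le fun N hN => le_sSup ⟨hN.1, by
    have := hN.2.2.1
    letI : CommGroup N := { (inferInstance : Group N) with mul_comm := this.is_comm.comm }
    exact CommGroup.isNilpotent⟩
  have : S.Normal := Subgroup.sSup_normal _ (fun _ h => h.1)
  have : IsMulCommutative S := PGroupsBasic.isMulCommutative_mono hFab hSF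
  obtain ⟨H, hH⟩ := Cfsg.Agent.S0585.result hΦ S
  have htop : S ⊔ H = ⊤ := hH.sup_eq_top
  refine le_antisymm ?_ hSF
  have hD : F ⊓ H = ⊥ := by
    have hn : (F ⊓ H).Normal := by
      rw [← normalizer_eq_top_iff, eq_top_iff, ← htop]
      refine sup_le (fun a ha => ?_) (fun m hm => ?_) <;> rw [mem_normalizer_iff] <;> intro x
      · have hcc : ∀ y ∈ F, a * y * a⁻¹ = y := fun y hy => by
          rw [PGroupsBasic.comm_of_isMulCommutative hFab (hSF ha) hy, mul_inv_cancel_right]
        constructor <;> intro hx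
        · rwa [hcc x hx.1]
        · have hxF : x ∈ F := by simpa [mul_assoc] using mul_mem (mul_mem (inv_mem (hSF ha)) hx.1) (hSF ha)
          rwa [hcc x hxF] at hx
      · exact and_congr (mem_normalizer_iff.mp (normalizer_eq_top (H := F) ▸ mem_top m) x)
          (mem_normalizer_iff.mp (le_normalizer hm) x)
    by_contra hne
    obtain ⟨N, hN, hle⟩ := Cfsg.Agent.HallSolvable.exists_minNormal_le (M := F ⊓ H) hne
    have hNS : N ≤ S := le_sSup ⟨hN.1, hN.2.1, PGroupsBasic.isMulCommutative_mono hFab (hle.trans inf_le_left), hN.2.2⟩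
    exact hN.2.1 (le_bot_iff.mp ((le_inf hNS (hle.trans inf_le_right)).trans (disjoint_iff.mp hH.disjoint).le))
  intro f hf
  obtain ⟨s, hs, h, hh, e⟩ := Subgroup.mem_sup_of_normal_left.mp (htop ▸ Subgroup.mem_top f : f ∈ S ⊔ H)
  have : h ∈ F := by
    have : h = s⁻¹ * f := by rw [← e, inv_mul_cancel_left]
    rw [this]; exact mul_mem (inv_mem (hSF hs)) hf
  have : h = 1 := Subgroup.mem_bot.mp (hD ▸ ⟨this, hh⟩)
  rw [← e, this, mul_one]; exact hs

end Cfsg.Agent.S0586
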