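import Mathlib
import Cfsg.Agent.Lib.HallSolvable
import Cfsg.Agent.Lib.ComponentsFitting
import Cfsg.Agent.Lib.CoprimeSZ
import Cfsg.Agent.Lib.PGroupsBasic
import Cfsg.Agent.S0585
import Cfsg.Agent.S0586
import Cfsg.Agent.S0593
import Cfsg.Statements.S0521

set_option autoImplicit false
set_option linter.unusedVariables false
set_option linter.unusedSectionVars false
open Cfsg

namespace Cfsg.Agent.S0521

universe u

open Subgroup Pointwise
open scoped commutatorElement

theorem cyclic_commutator_image {A B : Type*} [Group A] [Group B] (f : A →* B)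
    (hf : Function.Surjective f) (h : IsCyclic (commutator A)) : IsCyclic (commutator B) := by
  have e : (commutator A).map f = commutator B := by
    rw [_root_.commutator_def, Subgroup.map_commutator, map_top_of_surjective f hf,
      ← _root_.commutator_def]
  rw [← e]
  exact isCyclic_of_surjective _ (f.subgroupMap_surjective _)

theorem conj_quadratic {G : Type*} [Group G] (V : Subgroup G) [hV : V.Normal] (x g : G)
    (h : ⁅⁅V, zpowers x⁆, zpowers x⁆ = ⊥) :
    ⁅⁅V, zpowers (g * x * g⁻¹)⁆, zpowers (g * x * g⁻¹)⁆ = ⊥ := by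
  have eV : V.map (MulAut.conj g).toMonoidHom = V := by
    apply le_antisymm
    · rintro _ ⟨v, hv, rfl⟩; exact hV.conj_mem v hv g
    · intro v hv; exact ⟨g⁻¹ * v * g, by simpa using hV.conj_mem v hv g⁻¹, by simp [mul_assoc]⟩
  have ez : (zpowers x).map (MulAut.conj g).toMonoidHom = zpowers (g * x * g⁻¹) := by
    rw [MonoidHom.map_zpowers]; rfl
  have := congrArg (Subgroup.map (MulAut.conj g).toMonoidHom) h
  rw [Subgroup.map_commutator, Subgroup.map_commutator, eV, ez, Subgroup.map_bot] at this
  exact this

theorem aux : ∀ (n : ℕ) (X : Type u) [Group X] [Finite X] [Group.IsSolvable X], Nat.card X = n →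
    Odd (Nat.card X) → ∀ (p : ℕ) [Fact p.Prime] (S : Sylow p X),
    IsCyclic (commutator (S : Subgroup X)) →
    (Cfsg.pPrimeCore p X ⊔ (S : Subgroup X)).Normal := by
  intro n
  induction n using Nat.strong_induction_on with
  | _ n ih =>
    intro X _ _ _ hn hodd p hpf S hS
    set O := Cfsg.pPrimeCore p X with hOd
    have hOn : O.Normal := HallCore.pPrimeCore_normal p X
    have quot : ∀ (N : Subgroup X) [N.Normal], N ≠ ⊥ →
        (Cfsg.pPrimeCore p (X ⧸ N) ⊔ (S : Subgroup X).map (QuotientGroup.mk' N)).Normal := by
      intro N _ hN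
      have hsur := QuotientGroup.mk'_surjective N
      refine ih _ (hn ▸ HallSolvable.card_quotient_lt hN) (X ⧸ N) rfl ?_ p (S.mapSurjective hsur) ?_
      · exact hodd.of_dvd_nat (card_quotient_dvd_card N)
      · rw [Sylow.coe_mapSurjective]
        exact cyclic_commutator_image _ ((QuotientGroup.mk' N).subgroupMap_surjective _) hS
    by_cases hO : O ≠ ⊥
    · have h1 := @quot (Cfsg.pPrimeCore p X) (HallCore.pPrimeCore_normal p X) hO
      rw [HallCore.pPrimeCore_quotient_self, bot_sup_eq] at h1
      have h2 := h1.comap (QuotientGroup.mk' (Cfsg.pPrimeCore p X))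
      rw [HallSolvable.comap_mk'_map, sup_comm] at h2
      exact h2
    push Not at hO
    rw [hO, bot_sup_eq]
    rcases subsingleton_or_nontrivial X with hs | hs
    · exact ⟨fun a ha g => by rwa [Subsingleton.elim (g * a * g⁻¹) a]⟩
    set V := Cfsg.pCore p X with hVd
    have hVn : V.Normal := HallCore.pCore_normal p X
    have hF : Cfsg.fittingSubgroup X = V := by
      refine le_antisymm ?_ (ComponentsFitting.pCore_le_fitting hpf.out)
      rw [ComponentsFitting.fittingSubgroup_eq_iSup]
      refine iSup_le fun q => ?_
      by_cases hqp : (q : ℕ) = p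
      · rw [hqp]
      · haveI : Fact (q : ℕ).Prime := ⟨Nat.prime_of_mem_primeFactors q.2⟩
        obtain ⟨k, hk⟩ := HallCore.card_pCore (q : ℕ) X
        have : Cfsg.pCore (q : ℕ) X ≤ O := HallCore.le_pPrimeCore (by
          rw [hk]; exact ((Nat.coprime_primes (Fact.out) hpf.out).mpr hqp).pow_left k)
        rw [hO] at this
        exact this.trans bot_le
    have hVS : V ≤ (S : Subgroup X) := HallCore.pCore_le_sylow S
    by_cases hΦ : frattini X ≠ ⊥
    · -- reduce modulo the Frattini subgroup
      have hΦn : (frattini X).Normal := inferInstance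
      have hnil : Group.IsNilpotent (frattini X) := frattini_nilpotent
      have hΦV : frattini X ≤ V := hF ▸ le_sSup ⟨hΦn, hnil⟩
      have hΦS := hΦV.trans hVS
      have hΦp : IsPGroup p (frattini X) := (HallCore.isPGroup_pCore p X).to_le hΦV
      have h1 := quot (frattini X) hΦ
      set π := QuotientGroup.mk' (frattini X)
      have hbot : Cfsg.pPrimeCore p (X ⧸ frattini X) = ⊥ := by
        set K := (Cfsg.pPrimeCore p (X ⧸ frattini X)).comap π with hKd
        have hKn : K.Normal := (HallCore.pPrimeCore_normal p _).comap _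
        have hle : frattini X ≤ K := QuotientGroup.le_comap_mk' _ _
        have hKc := HallCore.card_comap_mk' (frattini X) (Cfsg.pPrimeCore p (X ⧸ frattini X))
        have hc := HallCore.coprime_card_pPrimeCore p (X ⧸ frattini X)
        obtain ⟨e, he⟩ := IsPGroup.iff_card.mp hΦp
        have hidx : ((frattini X).subgroupOf K).index = Nat.card (Cfsg.pPrimeCore p (X ⧸ frattini X)) := by
          have h2 := card_mul_index ((frattini X).subgroupOf K)
          rw [Nat.card_congr (subgroupOfEquivOfLe hle).toEquiv, ← hKc, mul_comm (Nat.card (Cfsg.pPrimeCore p _))] at h2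
          exact Nat.eq_of_mul_eq_mul_left Nat.card_pos h2
        obtain ⟨R0, hR0⟩ := exists_right_complement'_of_coprime (N := (frattini X).subgroupOf K) (by
          rw [Nat.card_congr (subgroupOfEquivOfLe hle).toEquiv, hidx, he]
          exact (hc.pow_right e).symm)
        set R := R0.map K.subtype with hRd
        have hRc : Nat.card R = Nat.card (Cfsg.pPrimeCore p (X ⧸ frattini X)) := by
          rw [hRd, card_map_of_injective K.subtype_injective, ← hR0.symm.index_eq_card, hidx]
        have hRK : frattini X ⊔ R = K := by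
          have := congrArg (Subgroup.map K.subtype) hR0.sup_eq_top
          rwa [Subgroup.map_sup, map_subgroupOf_eq_of_le hle, ← MonoidHom.range_eq_map,
            range_subtype] at this
        have hN : normalizer (R : Set X) ⊔ frattini X = ⊤ := by
          rw [eq_top_iff]
          intro g _
          have hle' : MulAut.conj g • R ≤ frattini X ⊔ R := by
            rw [hRK]
            rintro _ ⟨r, hr, rfl⟩
            exact hKn.conj_mem r (map_subtype_le _ hr) g
          obtain ⟨v, hv, hve⟩ := CoprimeSZ.exists_conj_of_card_eq (N := frattini X) (A := R)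
            (B := MulAut.conj g • R) (fun a _ => by rw [normalizer_eq_top]; exact mem_top a)
            (by rw [hRc, he]; exact hc.pow_right e) (Or.inl inferInstance) hle'
            (CoprimeSZ.card_conj_smul g R)
          have hmem : v⁻¹ * g ∈ normalizer (R : Set X) := by
            have h2 : MulAut.conj (v⁻¹ * g) • R = R := by
              rw [CoprimeSZ.conj_smul_mul, ← hve, ← CoprimeSZ.conj_smul_mul, inv_mul_cancel, map_one,
                one_smul]
            rw [mem_normalizer_iff]
            intro a
            rw [← Subgroup.smul_mem_pointwise_smul_iff (a := MulAut.conj (v⁻¹ * g)) (S := R), h2]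
            simp [MulAut.smul_def, MulAut.conj_apply, mul_assoc]
          have hg := mul_mem (mem_sup_right hv : v ∈ normalizer (R : Set X) ⊔ frattini X)
            (mem_sup_left hmem)
          simpa using hg
        have hRn : R.Normal := normalizer_eq_top_iff.mp (frattini_nongenerating hN)
        have hRbot : R ≤ O := HallCore.le_pPrimeCore (by rw [hRc]; exact hc)
        rw [hO, le_bot_iff] at hRbot
        apply eq_bot_of_card_eq
        rw [← hRc, hRbot, Subgroup.card_bot]
      rw [hbot, bot_sup_eq] at h1
      have h2 := h1.comap π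
      rwa [HallSolvable.comap_mk'_map_of_le hΦS] at h2
    push Not at hΦ
    -- `V` is elementary abelian and self-centralizing
    have hVmem : ∀ v ∈ V, v ^ p = 1 ∧ ∀ w ∈ V, v * w = w * v := by
      have hVab : IsMulCommutative V := by
        have h1 : (commutator V).map V.subtype ≤ ⊥ := by
          haveI : Group.IsNilpotent V := (HallCore.isPGroup_pCore p X).isNilpotent
          exact hΦ ▸ (Subgroup.map_mono (S0586.commutator_le_frattini_of_nilpotent inferInstance)).trans
            (S0575.result V)
        have h2 : commutator V = ⊥ := by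
          rw [le_bot_iff, Subgroup.map_eq_bot_iff_of_injective _ V.subtype_injective] at h1
          exact h1
        refine ⟨⟨fun a b => commutatorElement_eq_one_iff_mul_comm.mp (mem_bot.mp (h2 ▸ ?_))⟩⟩
        exact commutator_mem_commutator (mem_top a) (mem_top b)
      have hexp : (frattini V).map V.subtype ≤ ⊥ := hΦ ▸ S0575.result V
      intro v hv
      refine ⟨?_, fun w hw => setLike_mul_comm hv hw⟩
      have h1 := PGroupsBasic.pow_mem_frattini (HallCore.isPGroup_pCore p X) (⟨v, hv⟩ : V)
      exact mem_bot.mp (hexp ⟨_, h1, rfl⟩)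
    have hVea : Cfsg.IsElementaryAbelian p V :=
      ⟨PGroupsBasic.isMulCommutative_of_forall fun v hv w hw => (hVmem v hv).2 w hw,
        fun v hv => (hVmem v hv).1⟩
    have hCV : centralizer (V : Set X) ≤ V := by
      rw [← hF]; exact ComponentsFitting.centralizer_fitting_le_of_solvable
    by_cases hSV : (S : Subgroup X) = V
    · rw [hSV]; exact hVn
    exfalso
    haveI := hVea.1
    obtain ⟨M, hM⟩ := S0585.result hΦ V
    obtain ⟨s, hs, hsV⟩ := SetLike.exists_of_lt (lt_of_le_of_ne hVS (Ne.symm hSV))
    obtain ⟨v, hv, x, hxM, rfl⟩ := mem_sup_of_normal_left.mp (hM.sup_eq_top ▸ mem_top s : s ∈ V ⊔ M)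
    have hxS : x ∈ (S : Subgroup X) := by
      simpa using mul_mem (inv_mem (hVS hv)) hs
    have hx1 : x ≠ 1 := fun e => hsV (by rw [e, mul_one]; exact hv)
    have hpdvd : p ∣ Nat.card X := by
      obtain ⟨k, hk⟩ := IsPGroup.iff_card.mp S.2
      rcases k with _ | k
      · exact absurd (eq_bot_of_card_eq _ (by simpa using hk) ▸ hxS) (by simpa using hx1)
      · exact (dvd_pow_self p k.succ_ne_zero).trans (hk ▸ card_subgroup_dvd_card _)
    have hp2 : p ≠ 2 := fun e => (Nat.not_even_iff_odd.mpr hodd) (even_iff_two_dvd.mpr (e ▸ hpdvd))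
    -- `x` acts quadratically
    have hquad : ⁅⁅V, zpowers x⁆, zpowers x⁆ = ⊥ := by
      set D := ⁅V, (S : Subgroup X)⁆ with hD
      have hDV : D ≤ V := Subgroup.commutator_le_left V _
      have hDS : D ≤ ⁅(S : Subgroup X), (S : Subgroup X)⁆ := commutator_mono hVS le_rfl
      have hcyc : IsCyclic (⁅(S : Subgroup X), (S : Subgroup X)⁆ : Subgroup X) := by
        rw [← Subgroup.map_subtype_commutator]
        exact isCyclic_of_surjective _ ((S : Subgroup X).subtype.subgroupMap_surjective _)
      have hDc : IsCyclic D := isCyclic_of_injective (inclusion hDS) (inclusion_injective hDS)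
      have hDcard := PGroupsBasic.card_le_prime_of_isCyclic hDc fun a ha => (hVmem a (hDV ha)).1
      have hcen : ⁅D, (S : Subgroup X)⁆ = ⊥ := by
        by_cases h0 : D = ⊥
        · rw [h0, Subgroup.commutator_bot_left]
        have hDS' : D ≤ (S : Subgroup X) := hDV.trans hVS
        have hc : Nat.card (D.subgroupOf (S : Subgroup X)) = p := by
          rw [Nat.card_congr (subgroupOfEquivOfLe hDS').toEquiv]
          obtain ⟨k, hk⟩ := IsPGroup.iff_card.mp (S.2.to_le hDS')
          rcases k with _ | _ | k
          · exact absurd (eq_bot_of_card_eq _ (by simpa using hk)) h0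
          · simpa using hk
          · rw [hk] at hDcard
            exact absurd hDcard (not_le.mpr (by
              calc p = p ^ 1 := (pow_one p).symm
                _ < _ := Nat.pow_lt_pow_right hpf.out.one_lt (by omega)))
        have hnorm : (D.subgroupOf (S : Subgroup X)).Normal := by
          refine (normal_subgroupOf_iff_le_normalizer hDS').mpr ?_
          intro t ht
          have hconj : ∀ t ∈ (S : Subgroup X), ∀ d ∈ D, t * d * t⁻¹ ∈ D := by
            intro t ht d hd
            have h1 : D.map (MulAut.conj t).toMonoidHom ≤ D := by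
              rw [hD, Subgroup.map_commutator]
              refine commutator_mono ?_ ?_
              · rintro _ ⟨a, ha, rfl⟩; exact hVn.conj_mem a ha t
              · rintro _ ⟨a, ha, rfl⟩; exact mul_mem (mul_mem ht ha) (inv_mem ht)
            exact h1 ⟨d, hd, rfl⟩
          rw [mem_normalizer_iff]
          exact fun d => ⟨hconj t ht d, fun h => by simpa [mul_assoc] using hconj t⁻¹ (inv_mem ht) _ h⟩
        have hz := PGroupsBasic.le_center_of_card_eq_prime S.2 hc
        rw [commutator_eq_bot_iff_le_centralizer]
        intro d hd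
        exact mem_centralizer_iff.mpr fun t ht => congrArg Subtype.val
          (mem_center_iff.mp (hz (show (⟨d, hDS' hd⟩ : (S : Subgroup X)) ∈ D.subgroupOf _ from hd)) ⟨t, ht⟩)
      rw [eq_bot_iff, ← hcen]
      exact commutator_mono (commutator_mono le_rfl (zpowers_le.mpr hxS)) (zpowers_le.mpr hxS)
    -- find an element of `F(M)` not commuting with `x`
    have hMp : Cfsg.pCore p M = ⊥ := by
      set R := (Cfsg.pCore p M).map M.subtype with hR
      have hRM : M ≤ normalizer (R : Set X) := by
        intro m hm
        refine le_normalizer_map M.subtype ⟨⟨m, hm⟩, ?_, rfl⟩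
        rw [normalizer_eq_top_iff.mpr (HallCore.pCore_normal p M)]; exact mem_top _
      have hn : (V ⊔ R).Normal := by
        rw [← normalizer_eq_top_iff, eq_top_iff, ← hM.sup_eq_top]
        refine sup_le (le_sup_left.trans le_normalizer) fun m hm => ?_
        have key : ∀ c ∈ M, ∀ z ∈ V ⊔ R, c * z * c⁻¹ ∈ V ⊔ R := by
          intro c hc z hz
          have h2 : V ⊔ R ≤ (V ⊔ R).comap (MulAut.conj c).toMonoidHom :=
            sup_le (fun w hw => mem_sup_left (hVn.conj_mem w hw c))
              (fun w hw => mem_sup_right ((mem_normalizer_iff.mp (hRM hc) w).mp hw))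
          exact h2 hz
        rw [mem_normalizer_iff]
        exact fun z => ⟨key m hm z, fun h => by simpa [mul_assoc] using key m⁻¹ (inv_mem hm) _ h⟩
      have hle : V ⊔ R ≤ V := HallCore.le_pCore
        ((HallCore.isPGroup_pCore p X).to_sup_of_normal_left ((HallCore.isPGroup_pCore p M).map _))
      have : R = ⊥ := by
        rw [eq_bot_iff, ← disjoint_iff.mp hM.disjoint]
        exact le_inf (le_sup_right.trans hle) (map_subtype_le _)
      rwa [hR, map_eq_bot_iff_of_injective _ M.subtype_injective] at this
    haveI : Group.IsSolvable M := inferInstance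
    set F := Cfsg.fittingSubgroup M with hFMd
    have hFO : F ≤ Cfsg.pPrimeCore p M := by
      rw [hFMd, ComponentsFitting.fittingSubgroup_eq_iSup]
      refine iSup_le fun q => ?_
      by_cases hqp : (q : ℕ) = p
      · rw [hqp, hMp]; exact bot_le
      · haveI : Fact (q : ℕ).Prime := ⟨Nat.prime_of_mem_primeFactors q.2⟩
        obtain ⟨k, hk⟩ := HallCore.card_pCore (q : ℕ) M
        exact HallCore.le_pPrimeCore (by
          rw [hk]; exact ((Nat.coprime_primes (Fact.out) hpf.out).mpr hqp).pow_left k)
    have hFcop : (Nat.card F).Coprime p :=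
      (HallCore.coprime_card_pPrimeCore p M).coprime_dvd_left (card_dvd_of_le hFO)
    set xm : M := ⟨x, hxM⟩
    obtain ⟨jx, hjx⟩ := IsPGroup.iff_orderOf.mp S.2 ⟨x, hxS⟩
    rw [Subgroup.orderOf_mk] at hjx
    obtain ⟨f, hf, hfx⟩ : ∃ f ∈ F, ¬ xm * f = f * xm := by
      by_contra hc
      push Not at hc
      have hxF : xm ∈ F := ComponentsFitting.centralizer_fitting_le_of_solvable
        (mem_centralizer_iff.mpr fun f hf => (hc f hf).symm)
      have h1 : orderOf xm ∣ Nat.card F := Subgroup.orderOf_dvd_natCard F hxF
      have h2 : orderOf xm = p ^ jx := by rw [← hjx, ← Subgroup.orderOf_mk x hxM]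
      have h3 : orderOf xm = 1 := Nat.eq_one_of_dvd_coprimes (hFcop.pow_right jx) h1 (dvd_of_eq h2)
      exact hx1 (congrArg Subtype.val (orderOf_eq_one_iff.mp h3))
    set y : X := (f : X) * x * (f : X)⁻¹ with hy
    set H : Subgroup X := closure {x, y}
    have hyM : y ∈ M := mul_mem (mul_mem f.2 hxM) (inv_mem f.2)
    have hHM : H ≤ M := (closure_le _).mpr fun z hz => by
      rcases hz with rfl | rfl
      · exact hxM
      · exact hyM
    have hfaith : H ⊓ centralizer (V : Set X) = ⊥ := by
      rw [eq_bot_iff, ← disjoint_iff.mp hM.disjoint]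
      exact le_inf (inf_le_right.trans hCV) (inf_le_left.trans hHM)
    have hHV : H ≤ normalizer (V : Set X) := fun a _ => by rw [normalizer_eq_top]; exact mem_top a
    have hnp : ¬ IsPGroup p H := by
      intro hHp
      have hfn : F.Normal := ComponentsCores.fittingSubgroup_normal
      have hcF : ⁅xm, f⁆ ∈ F := by
        rw [commutatorElement_def]
        exact mul_mem (hfn.conj_mem f hf xm) (inv_mem hf)
      have hcH : ((⁅xm, f⁆ : M) : X) ∈ H := by
        have e : ((⁅xm, f⁆ : M) : X) = x * y⁻¹ := by
          simp only [commutatorElement_def, Subgroup.coe_mul, Subgroup.coe_inv, hy]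
          simp only [xm]; group
        rw [e]
        exact mul_mem (subset_closure (Or.inl rfl)) (inv_mem (subset_closure (Or.inr rfl)))
      obtain ⟨k, hk⟩ := IsPGroup.iff_orderOf.mp hHp ⟨_, hcH⟩
      rw [Subgroup.orderOf_mk, Subgroup.orderOf_coe] at hk
      have h1 : orderOf ⁅xm, f⁆ = 1 := Nat.eq_one_of_dvd_coprimes (hFcop.pow_right k)
        (Subgroup.orderOf_dvd_natCard F hcF) (dvd_of_eq hk)
      exact hfx (commutatorElement_eq_one_iff_mul_comm.mp (orderOf_eq_one_iff.mp h1))
    haveI : Fact (Nat.Prime 2) := ⟨Nat.prime_two⟩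
    obtain ⟨T⟩ := (inferInstance : Nonempty (Sylow 2 H))
    refine S0593.result hp2 V H hVea hHV hfaith x y rfl hquad
      (conj_quadratic V x f hquad) hnp T ?_
    have : (T : Subgroup H) = ⊥ := by
      rw [eq_bot_iff_card]
      obtain ⟨k, hk⟩ := IsPGroup.iff_card.mp T.2
      rcases k with _ | k
      · simpa using hk
      · exfalso
        refine (Nat.not_even_iff_odd.mpr hodd) (even_iff_two_dvd.mpr ?_)
        exact ((dvd_pow_self 2 k.succ_ne_zero).trans (hk ▸ card_subgroup_dvd_card _)).trans
          (card_subgroup_dvd_card H)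
    refine ⟨⟨fun a b => ?_⟩⟩
    have : Subsingleton (T : Subgroup H) := by rw [this]; infer_instance
    exact Subsingleton.elim _ _

theorem result {X : Type*} [Group X] [Finite X] [Group.IsSolvable X]
    (hX : Odd (Nat.card X)) (p : ℕ) [Fact p.Prime] (S : Sylow p X) (hS : IsCyclic (commutator (S : Subgroup X))) :
    (Cfsg.pPrimeCore p X ⊔ (S : Subgroup X)).Normal := by
  exact aux _ X rfl hX p S hS

end Cfsg.Agent.S0521
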