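import Cfsg.Statements.S0522
import Cfsg.Agent.S1480
import Cfsg.Agent.Lib.BGTransitivity
import Cfsg.Agent.Lib.HallSolvable

set_option autoImplicit false
open Cfsg
open scoped Pointwise

namespace Cfsg.Agent.S0522

/-- Transitivity Theorem (odd-order setting). Let X be a finite group of odd order in which the normalizer of every
nontrivial p-subgroup is solvable, P a Sylow p-subgroup, and B an abelian subgroup of P, normalized by P, with
C_P(B) = B and containing an elementary abelian subgroup of order p^3. Then for every prime q ≠ p, any two q-subgroups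
that are maximal among the q-subgroups normalized by B are conjugate by an element of the centralizer of B. -/
theorem result {X : Type*} [Group X] [Finite X] (hX : Odd (Nat.card X)) (p : ℕ)
    [Fact p.Prime] (hloc : ∀ T : Subgroup X, IsPGroup p T → T ≠ ⊥ → Group.IsSolvable (Subgroup.normalizer (T : Set X)))
    (P : Sylow p X) (B : Subgroup X) (hBP : B ≤ (P : Subgroup X))
    (hBn : ∀ x ∈ (P : Subgroup X), ∀ b ∈ B, x * b * x⁻¹ ∈ B) (hBa : IsMulCommutative B)
    (hBc : (P : Subgroup X) ⊓ Subgroup.centralizer (B : Set X) = B)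
    (hB3 : ∃ E : Subgroup X, E ≤ B ∧ (∀ e ∈ E, e ^ p = 1) ∧ p ^ 3 ≤ Nat.card E)
    (q : ℕ) [Fact q.Prime] (hqp : q ≠ p) (Q₁ Q₂ : Subgroup X)
    (h₁ : IsPGroup q Q₁ ∧ B ≤ Subgroup.normalizer (Q₁ : Set X) ∧
      ∀ R : Subgroup X, IsPGroup q R → B ≤ Subgroup.normalizer (R : Set X) → Q₁ ≤ R → R = Q₁)
    (h₂ : IsPGroup q Q₂ ∧ B ≤ Subgroup.normalizer (Q₂ : Set X) ∧
      ∀ R : Subgroup X, IsPGroup q R → B ≤ Subgroup.normalizer (R : Set X) → Q₂ ≤ R → R = Q₂) :
    ∃ c ∈ Subgroup.centralizer (B : Set X), Q₂ = Q₁.map (MulAut.conj c).toMonoidHom := by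
  have hp : p.Prime := Fact.out
  obtain ⟨E, hEB, hEexp, hEcard⟩ := hB3
  have hBp : IsPGroup p B := P.2.to_le hBP
  -- p = 2 is impossible
  have hp2 : p = 2 → False := by
    rintro rfl
    have h8 : 2 ∣ Nat.card E := by
      obtain ⟨k, hk⟩ := IsPGroup.iff_card.1 (hBp.to_le hEB)
      rcases Nat.eq_zero_or_pos k with rfl | hk0
      · simp [hk] at hEcard
      · rw [hk]; exact dvd_pow_self 2 hk0.ne'
    exact (Nat.not_even_iff_odd.2 hX) (even_iff_two_dvd.2 (h8.trans (Subgroup.card_subgroup_dvd_card E)))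
  have hBcomm : ∀ x ∈ B, ∀ y ∈ B, x * y = y * x := fun x hx y hy =>
    congrArg Subtype.val (hBa.is_comm.comm (⟨x, hx⟩ : B) ⟨y, hy⟩)
  have hBC : B ≤ Subgroup.centralizer (B : Set X) := fun x hx y hy => hBcomm y hy x hx
  -- every p-element of C(B) lies in B
  set C := Subgroup.centralizer (B : Set X) with hC
  set N := Subgroup.normalizer (B : Set X) with hN
  have hCN : C ≤ N := Subgroup.centralizer_le_normalizer _
  have hPN : (P : Subgroup X) ≤ N := by
    intro x hx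
    rw [hN, Subgroup.mem_normalizer_iff]
    refine fun b => ⟨fun hb => hBn x hx b hb, fun hb => ?_⟩
    have := hBn x⁻¹ ((P : Subgroup X).inv_mem hx) _ hb
    simpa [mul_assoc] using this
  have key : ∀ g ∈ N, ∀ c ∈ C, g * c * g⁻¹ ∈ C := by
    intro g hg c hc b hb
    have hb' : g⁻¹ * b * g ∈ B := by
      have := (Subgroup.mem_normalizer_iff.1 (N.inv_mem hg) b).1 hb
      simpa [mul_assoc] using this
    have := hc _ hb'
    calc b * (g * c * g⁻¹) = g * ((g⁻¹ * b * g) * c) * g⁻¹ := by group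
      _ = g * (c * (g⁻¹ * b * g)) * g⁻¹ := by rw [this]
      _ = g * c * g⁻¹ * b := by group
  have hfull : ∀ x ∈ C, IsPGroup p (Subgroup.zpowers x) → x ∈ B := by
    intro x hx hxp
    obtain ⟨S, hS⟩ := (hxp.comap_subtype (K := N)).exists_le_sylow
    obtain ⟨g, hg⟩ := MulAction.exists_smul_eq N (P.subtype hPN) S
    have hxS : (⟨x, hCN hx⟩ : N) ∈ (S : Subgroup N) := hS (Subgroup.mem_zpowers x)
    rw [← hg, Sylow.coe_subgroup_smul, Subgroup.mem_pointwise_smul_iff_inv_smul_mem,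
      ← map_inv, MulAut.smul_def] at hxS
    simp only [Sylow.coe_subtype, Subgroup.mem_subgroupOf, MulAut.conj_apply, inv_inv,
      Subgroup.coe_mul, Subgroup.coe_inv] at hxS
    have hyC : (g : X)⁻¹ * x * g ∈ C := by
      have := key _ (N.inv_mem g.2) x hx
      simpa using this
    have hyB : (g : X)⁻¹ * x * g ∈ B := hBc ▸ (⟨hxS, hyC⟩ : _ ∈ (P : Subgroup X) ⊓ C)
    have := (Subgroup.mem_normalizer_iff.1 g.2 _).1 hyB
    simpa [mul_assoc] using this
  have hEc : IsMulCommutative E := ⟨⟨fun a b => Subtype.ext (hBcomm a (hEB a.2) b (hEB b.2))⟩⟩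
  have hE3 : ¬ Cfsg.PRankLE p 2 B := by
    intro h
    have hc := h (E.subgroupOf B) ⟨⟨fun a b => Subtype.ext (Subtype.ext (hBcomm _ a.1.2 _ b.1.2))⟩⟩
      (fun a ha => Subtype.ext (by simpa using hEexp _ ha))
    rw [Nat.card_congr (Subgroup.subgroupOfEquivOfLe hEB).toEquiv] at hc
    have h1 : p ^ 2 < p ^ 3 := Nat.pow_lt_pow_right hp.one_lt (by norm_num)
    omega
  have hloc' : ∀ T : Subgroup X, IsPGroup p T → T ≠ ⊥ →
      Cfsg.IsPConstrained p ↥(Subgroup.normalizer (T : Set X)) := fun T hT hT1 => by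
    have := hloc T hT hT1
    exact HallSolvable.isPConstrained_of_isPSolvable (HallSolvable.isPSolvable_of_solvable p)
  have hmax : ∀ Q : Subgroup X, (IsPGroup q Q ∧ B ≤ Subgroup.normalizer (Q : Set X) ∧
      ∀ R : Subgroup X, IsPGroup q R → B ≤ Subgroup.normalizer (R : Set X) → Q ≤ R → R = Q) →
      Q ∈ Cfsg.maxInvSubgroups ⊤ B {q} := by
    rintro Q ⟨hQ, hBQ, hQm⟩
    have e : ∀ R : Subgroup X, R ∈ Cfsg.invSubgroups ⊤ B {q} ↔
        IsPGroup q R ∧ B ≤ Subgroup.normalizer (R : Set X) := fun R =>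
      ⟨fun h => ⟨BGTransitivity.piNat_singleton_iff_isPGroup.1 h.2.1, h.2.2⟩,
        fun h => ⟨le_top, BGTransitivity.piNat_singleton_iff_isPGroup.2 h.1, h.2⟩⟩
    exact ⟨(e Q).2 ⟨hQ, hBQ⟩, fun R hR hle => hQm R ((e R).1 hR).1 ((e R).1 hR).2 hle⟩
  obtain ⟨k, hk, hk'⟩ := S1480.result p hloc' (fun h => (hp2 h).elim) B hBp hBa hE3 hfull q hqp
    Q₁ (hmax Q₁ h₁) Q₂ (hmax Q₂ h₂)
  exact ⟨k, BGTransitivity.piCoreOf_le _ _ hk, hk'⟩

end Cfsg.Agent.S0522
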