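import Mathlib
import Cfsg.Agent.Lib.Supersolvable
import Cfsg.Agent.Lib.SupersolvableCriteria
import Cfsg.Statements.S0526

set_option autoImplicit false
set_option linter.unusedVariables false
set_option linter.unusedSectionVars false
open Cfsg

namespace Cfsg.Agent.S0526



theorem result {G : Type*} [Group G] [Finite G] (hG : Cfsg.IsSupersolvable G) : Group.IsNilpotent (commutator G) := by
  exact Supersolvable.commutator_isNilpotent hG

end Cfsg.Agent.S0526
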