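import Mathlib
import Cfsg.Agent.Lib.Supersolvable
import Cfsg.Agent.Lib.SupersolvableCriteria
import Cfsg.Statements.S0527

set_option autoImplicit false
set_option linter.unusedVariables false
set_option linter.unusedSectionVars false
open Cfsg

namespace Cfsg.Agent.S0527



theorem result {G : Type*} [Group G] [Finite G] (hG : Cfsg.IsSupersolvable G) (M : Subgroup G) (hM : IsCoatom M) : M.index.Prime := by
  exact Supersolvable.index_prime_of_isCoatom hG M hM

end Cfsg.Agent.S0527
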