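import Mathlib
import Cfsg.Statements.S0532

set_option autoImplicit false
set_option linter.unusedVariables false
open Cfsg

namespace Cfsg.Agent.S0532

universe u

theorem hered {G : Type u} [Group G] (h : ∀ H : Subgroup G, Cfsg.HasSubgroupOfEveryOrder H)
    (H : Subgroup G) (K : Subgroup H) : Cfsg.HasSubgroupOfEveryOrder K := by
  intro d hd
  let e : K ≃* ↥(K.map H.subtype) := Subgroup.equivMapOfInjective K H.subtype H.subtype_injective
  obtain ⟨L, hL⟩ := h (K.map H.subtype) d (by rwa [← Nat.card_congr e.toEquiv])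
  refine ⟨L.map e.symm.toMonoidHom, ?_⟩
  rw [Subgroup.card_map_of_injective e.symm.injective, hL]

theorem aux : ∀ (n : ℕ) (G : Type u) [Group G] [Finite G], Nat.card G = n →
    (∀ H : Subgroup G, Cfsg.HasSubgroupOfEveryOrder H) → ∀ (p : ℕ) [Fact p.Prime],
    (∀ q : ℕ, q.Prime → q ∣ Nat.card G → q ≤ p) → ∀ P : Sylow p G, (P : Subgroup G).Normal := by
  intro n
  induction n using Nat.strong_induction_on with
  | _ n ih =>
    intro G _ _ hn h p hpf hmax P
    have hp : p.Prime := hpf.out
    by_cases h1 : Nat.card G = 1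
    · have : Subsingleton G := (Nat.card_eq_one_iff_unique.mp h1).1
      exact ⟨fun x hx g => by rwa [Subsingleton.elim (g * x * g⁻¹) x]⟩
    set q := (Nat.card G).minFac with hq
    have hqp : q.Prime := Nat.minFac_prime h1
    have hqd : q ∣ Nat.card G := Nat.minFac_dvd _
    by_cases hpq : p = q
    · have hpg : IsPGroup p G := by
        refine IsPGroup.of_card (n := (Nat.card G).primeFactorsList.length) ?_
        apply Nat.eq_prime_pow_of_unique_prime_dvd Nat.card_pos.ne'
        intro r hr hrd
        exact le_antisymm (hmax r hr hrd) (hpq ▸ Nat.minFac_le_of_dvd hr.two_le hrd)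
      have := P.3 (hpg.to_subgroup ⊤) le_top
      rw [← this]; infer_instance
    obtain ⟨d, hd⟩ := hqd
    obtain ⟨K, hK⟩ := h ⊤ d (by rw [Subgroup.card_top, hd]; exact Dvd.intro_left q rfl)
    set H : Subgroup G := K.map (⊤ : Subgroup G).subtype with hH
    have hHc : Nat.card H = d := by
      rw [hH, Subgroup.card_map_of_injective (⊤ : Subgroup G).subtype_injective, hK]
    have hd0 : 0 < d := hHc ▸ Nat.card_pos
    have hHi : H.index = q := by
      have := H.card_mul_index
      rw [hHc, hd, mul_comm q d] at this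
      exact Nat.eq_of_mul_eq_mul_left hd0 this
    have : H.Normal := Subgroup.normal_of_index_eq_minFac_card hHi
    have hlt : Nat.card H < n := by
      rw [hHc, ← hn, hd]; exact lt_mul_of_one_lt_left hd0 hqp.one_lt
    have hPH : (P : Subgroup G) ≤ H := by
      obtain ⟨k, hk⟩ := IsPGroup.iff_card.mp P.2
      intro x hx
      rw [← QuotientGroup.eq_one_iff, ← orderOf_eq_one_iff]
      have h1 : orderOf (x : G ⧸ H) ∣ p ^ k :=
        (orderOf_map_dvd (QuotientGroup.mk' H) x).trans (hk ▸ Subgroup.orderOf_dvd_natCard _ hx)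
      have h2 : orderOf (x : G ⧸ H) ∣ q := hHi ▸ orderOf_dvd_natCard _
      exact Nat.eq_one_of_dvd_coprimes (((Nat.coprime_primes hp hqp).mpr hpq).pow_left k) h1 h2
    have hQn := ih _ hlt H rfl (hered h H) p
      (fun r hr hrd => hmax r hr (hrd.trans H.card_subgroup_dvd_card)) (P.subtype hPH)
    have := Sylow.characteristic_of_normal (P.subtype hPH) hQn
    have e : ((P.subtype hPH : Sylow p H) : Subgroup H).map H.subtype = P := by
      rw [Sylow.coe_subtype]; exact Subgroup.map_subgroupOf_eq_of_le hPH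
    rw [← e]
    infer_instance


theorem result {G : Type*} [Group G] [Finite G] (h : ∀ H : Subgroup G, Cfsg.HasSubgroupOfEveryOrder H) (p : ℕ) [Fact p.Prime] (hdvd : p ∣ Nat.card G) (hmax : ∀ q : ℕ, q.Prime → q ∣ Nat.card G → q ≤ p) (P : Sylow p G) : (P : Subgroup G).Normal := by
  exact aux _ G rfl h p hmax P

end Cfsg.Agent.S0532
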