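import Mathlib
import Cfsg.Agent.Lib.Supersolvable
import Cfsg.Agent.Lib.SupersolvableCriteria
import Cfsg.Agent.S0532
import Cfsg.Statements.S0533

set_option autoImplicit false
set_option linter.unusedVariables false
set_option linter.unusedSectionVars false
open Cfsg

namespace Cfsg.Agent.S0533

universe u

open Subgroup

theorem aux : ∀ (n : ℕ) (G : Type u) [Group G] [Finite G], Nat.card G = n →
    (∀ H : Subgroup G, Cfsg.HasSubgroupOfEveryOrder H) → Cfsg.IsSupersolvable G := by
  intro n
  induction n using Nat.strong_induction_on with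
  | _ n ih =>
    intro G _ _ hn h
    rcases subsingleton_or_nontrivial G with hs | hs
    · exact Supersolvable.of_subsingleton
    have hne : (Nat.card G).primeFactors.Nonempty := Nat.nonempty_primeFactors.mpr Finite.one_lt_card
    set p := (Nat.card G).primeFactors.max' hne
    have hpm := Nat.mem_primeFactors.mp ((Nat.card G).primeFactors.max'_mem hne)
    haveI : Fact p.Prime := ⟨hpm.1⟩
    have hmax : ∀ q : ℕ, q.Prime → q ∣ Nat.card G → q ≤ p := fun q hq hd =>
      Finset.le_max' _ _ (Nat.mem_primeFactors.mpr ⟨hq, hd, hpm.2.2⟩)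
    obtain ⟨P⟩ := (inferInstance : Nonempty (Sylow p G))
    have hPn : (P : Subgroup G).Normal := S0532.result h p hpm.2.1 hmax P
    have hP0 : (P : Subgroup G) ≠ ⊥ := P.ne_bot_of_dvd_card hpm.2.1
    have sub : ∀ L : Subgroup G, L ≠ ⊤ → Cfsg.IsSupersolvable L := fun L hL => by
      refine ih _ ?_ L rfl (S0532.hered h L)
      rw [← hn]
      exact HallSolvable.card_subgroup_lt hL
    -- the quotient by `P` is isomorphic to a complement
    obtain ⟨K, hK⟩ := exists_right_complement'_of_coprime (N := (P : Subgroup G)) P.card_coprime_index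
    have hKtop : K ≠ ⊤ := fun e => hP0 (by
      have := disjoint_iff.mp hK.disjoint
      rwa [e, inf_top_eq] at this)
    have hq : Cfsg.IsSupersolvable (G ⧸ (P : Subgroup G)) := by
      refine Supersolvable.of_surjective ((QuotientGroup.mk' (P : Subgroup G)).comp K.subtype) ?_ (sub K hKtop)
      intro x
      obtain ⟨g, rfl⟩ := QuotientGroup.mk'_surjective _ x
      obtain ⟨y, hy, k, hk, rfl⟩ := mem_sup_of_normal_left.mp
        (hK.sup_eq_top ▸ mem_top g : g ∈ (P : Subgroup G) ⊔ K)
      refine ⟨⟨k, hk⟩, ?_⟩
      simp [(QuotientGroup.eq_one_iff y).mpr hy]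
    obtain ⟨d, hd⟩ := hpm.2.1
    obtain ⟨L0, hL0⟩ := h ⊤ d (by rw [Subgroup.card_top, hd]; exact Dvd.intro_left p rfl)
    set L : Subgroup G := L0.map (⊤ : Subgroup G).subtype with hLd
    have hLc : Nat.card L = d := by
      rw [hLd, card_map_of_injective (⊤ : Subgroup G).subtype_injective, hL0]
    have hLi : L.index = p := by
      have := L.card_mul_index
      rw [hLc, hd, mul_comm p d] at this
      exact Nat.eq_of_mul_eq_mul_left (hLc ▸ Nat.card_pos) this
    have hLtop : L ≠ ⊤ := fun e => hpm.1.ne_one (hLi.symm.trans (index_eq_one.mpr e))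
    have htop : (P : Subgroup G) ⊔ L = ⊤ := by
      rw [← index_eq_one]
      have h1 : ((P : Subgroup G) ⊔ L).index ∣ p := (index_dvd_of_le le_sup_right).trans (dvd_of_eq hLi)
      rcases (Nat.dvd_prime hpm.1).mp h1 with h2 | h2
      · exact h2
      · have h3 := index_dvd_of_le (le_sup_left : (P : Subgroup G) ≤ (P : Subgroup G) ⊔ L)
        rw [h2] at h3
        exact absurd h3 P.not_dvd_index
    have hrel : L.relIndex (P : Subgroup G) = p := by
      have h1 : L.relIndex (P : Subgroup G) ≤ L.index := by
        rw [← relIndex_top_right L]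
        exact relIndex_le_of_le_right le_top (by rw [relIndex_top_right]; exact index_ne_zero_of_finite)
      obtain ⟨j, hj⟩ := IsPGroup.iff_card.mp P.2
      have h2 : L.relIndex (P : Subgroup G) ∣ p ^ j := hj ▸ (L.subgroupOf (P : Subgroup G)).index_dvd_card
      obtain ⟨i, -, hi⟩ := (Nat.dvd_prime_pow hpm.1).mp h2
      rcases i with _ | _ | i
      · exfalso
        rw [pow_zero, relIndex_eq_one] at hi
        exact hLtop (by rwa [sup_eq_right.mpr hi] at htop)
      · simpa using hi
      · rw [hLi, hi] at h1
        exact absurd h1 (not_le.mpr (by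
          calc p = p ^ 1 := (pow_one p).symm
            _ < p ^ (i + 1 + 1) := Nat.pow_lt_pow_right hpm.1.one_lt (by omega)))
    exact SupersolvableCriteria.of_supplement (P : Subgroup G) L P.2 (sub L hLtop) htop hq hrel

theorem result {G : Type*} [Group G] [Finite G] (h : ∀ H : Subgroup G, Cfsg.HasSubgroupOfEveryOrder H) : Cfsg.IsSupersolvable G := by
  exact aux _ G rfl h

end Cfsg.Agent.S0533
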