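import Cfsg.Statements.S0534
import Mathlib
import Cfsg.Agent.S0003

set_option autoImplicit false
open Cfsg

namespace Cfsg.Agent.S0534

open scoped Pointwise commutatorElement

universe v

theorem exists_subgroup_of_dvd {A : Type v} [CommGroup A] [Finite A] (d : ℕ) (hd : d ∣ Nat.card A) :
    ∃ B : Subgroup A, Nat.card B = d := by
  induction d using Nat.strong_induction_on generalizing A with
  | _ d ih =>
    by_cases h1 : d = 1
    · exact ⟨⊥, by rw [h1, Subgroup.card_bot]⟩
    obtain ⟨p, hp, hpd⟩ := Nat.exists_prime_and_dvd h1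
    haveI : Fact p.Prime := ⟨hp⟩
    obtain ⟨x, hx⟩ := exists_prime_orderOf_dvd_card' p (hpd.trans hd)
    obtain ⟨e, rfl⟩ := hpd
    set Z := Subgroup.zpowers x
    have hZ : Nat.card Z = p := by rw [Nat.card_zpowers, hx]
    have hA : Nat.card A = Nat.card (A ⧸ Z) * p := by
      rw [Subgroup.card_eq_card_quotient_mul_card_subgroup Z, hZ]
    have he : e ∣ Nat.card (A ⧸ Z) := by
      rw [hA, mul_comm p e] at hd
      exact Nat.dvd_of_mul_dvd_mul_right hp.pos hd
    have he0 : 0 < e := Nat.pos_of_ne_zero fun h => by
      rw [h] at he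
      exact Nat.card_pos.ne' (Nat.eq_zero_of_zero_dvd he)
    obtain ⟨B, hB⟩ := ih e (lt_mul_of_one_lt_left he0 hp.one_lt) he
    refine ⟨B.comap (QuotientGroup.mk' Z), ?_⟩
    have h2 := (B.comap (QuotientGroup.mk' Z)).card_mul_index
    rw [Subgroup.index_comap_of_surjective B (QuotientGroup.mk'_surjective Z), hA, ← B.card_mul_index, hB] at h2
    have h3 : B.index ≠ 0 := Subgroup.index_ne_zero_of_finite
    exact mul_right_cancel₀ h3 (h2.trans (by ring))

/-- Let G be a finite solvable group and A a finite abelian group such that every prime dividing the order of A divides the order of G and, for each prime p dividing the order of G, the exponent of p in the order of A is one less than its exponent in the order of G. Then G × A has a subgroup of every order dividing its order. -/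
theorem result {G A : Type*} [Group G] [CommGroup A] [Finite G] [Finite A] [Group.IsSolvable G] (hA : ∀ p : ℕ, p.Prime → p ∣ Nat.card A → p ∣ Nat.card G) (hexp : ∀ p : ℕ, p.Prime → p ∣ Nat.card G → (Nat.card A).factorization p + 1 = (Nat.card G).factorization p) : Cfsg.HasSubgroupOfEveryOrder (G × A) := by
  classical
  intro d hd
  rw [Nat.card_prod] at hd
  have hG0 : Nat.card G ≠ 0 := Nat.card_pos.ne'
  have hA0 : Nat.card A ≠ 0 := Nat.card_pos.ne'
  have hd0 : d ≠ 0 := fun h => mul_ne_zero hG0 hA0 (Nat.eq_zero_of_zero_dvd (h ▸ hd))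
  have hle : ∀ r, d.factorization r ≤ (Nat.card G).factorization r + (Nat.card A).factorization r := fun r => by
    have := (Nat.factorization_le_iff_dvd hd0 (mul_ne_zero hG0 hA0)).2 hd r
    rwa [Nat.factorization_mul hG0 hA0, Finsupp.add_apply] at this
  have heq : ∀ r, (Nat.card A).factorization r < d.factorization r →
      (Nat.card A).factorization r + 1 = (Nat.card G).factorization r := by
    intro r hr
    have hrp : r.Prime := by
      by_contra h
      rw [Nat.factorization_eq_zero_of_not_prime d h] at hr
      omega
    refine hexp r hrp ?_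
    by_contra h
    have h0 := Nat.factorization_eq_zero_of_not_dvd h
    have := hle r
    omega
  set f := (Nat.card G).factorization.filter (fun r => (Nat.card A).factorization r < d.factorization r) with hf
  set m := f.prod (fun a b => a ^ b) with hm
  have hfp : ∀ r ∈ f.support, r.Prime := fun r hr => by
    rw [hf, Finsupp.support_filter, Finset.mem_filter, Nat.support_factorization] at hr
    exact Nat.prime_of_mem_primeFactors hr.1
  have hmf : m.factorization = f := Nat.prod_pow_factorization_eq_self hfp
  have hm0 : m ≠ 0 := by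
    rw [hm, Finsupp.prod, Finset.prod_ne_zero_iff]
    exact fun r hr => pow_ne_zero _ (hfp r hr).ne_zero
  have hfr : ∀ r, m.factorization r = if (Nat.card A).factorization r < d.factorization r then (Nat.card G).factorization r else 0 := fun r => by
    rw [hmf, hf, Finsupp.filter_apply]
  have hmG : m ∣ Nat.card G := (Nat.factorization_le_iff_dvd hm0 hG0).1 fun r => by
    rw [hfr]; split_ifs <;> omega
  have hmd : m ∣ d := (Nat.factorization_le_iff_dvd hm0 hd0).1 fun r => by
    rw [hfr]
    split_ifs with h
    · have := heq r h; omega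
    · omega
  obtain ⟨b, hb⟩ := hmd
  have hb0 : b ≠ 0 := fun h => hd0 (by rw [hb, h, mul_zero])
  have hbA : b ∣ Nat.card A := (Nat.factorization_le_iff_dvd hb0 hA0).1 fun r => by
    have h1 : d.factorization r = m.factorization r + b.factorization r := by
      rw [hb, Nat.factorization_mul hm0 hb0, Finsupp.add_apply]
    rw [hfr] at h1
    have := hle r
    split_ifs at h1 with h <;> omega
  obtain ⟨n, hn⟩ := hmG
  have hn0 : n ≠ 0 := fun h => hG0 (by rw [hn, h, mul_zero])
  have hcop : m.Coprime n := by
    rw [Nat.coprime_iff_gcd_eq_one]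
    by_contra hne
    obtain ⟨r, hr, hrd⟩ := Nat.exists_prime_and_dvd hne
    have h1 : (Nat.card G).factorization r = m.factorization r + n.factorization r := by
      rw [hn, Nat.factorization_mul hm0 hn0, Finsupp.add_apply]
    have h2 := hr.factorization_pos_of_dvd hm0 (hrd.trans (Nat.gcd_dvd_left _ _))
    have h3 := hr.factorization_pos_of_dvd hn0 (hrd.trans (Nat.gcd_dvd_right _ _))
    rw [hfr] at h1 h2
    split_ifs at h1 h2 with h <;> omega
  obtain ⟨H, hH⟩ := Cfsg.Agent.S0003.result m n hn hcop
  obtain ⟨B, hB⟩ := exists_subgroup_of_dvd b hbA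
  refine ⟨H.prod B, ?_⟩
  rw [Nat.card_congr (Subgroup.prodEquiv H B).toEquiv, Nat.card_prod, hH, hB, hb]

end Cfsg.Agent.S0534
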