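import Cfsg.Statements.S0540
import Mathlib
import Cfsg.Agent.S0539

set_option autoImplicit false
open Pointwise
open Cfsg

namespace Cfsg.Agent.S0540

open scoped Pointwise commutatorElement

theorem smul_sSup_le {G : Type*} [Group G] (T : Set (Subgroup G)) (g : G) (h : ∀ B ∈ T, MulAut.conj g • B ≤ sSup T) :
    MulAut.conj g • sSup T ≤ sSup T := by
  rw [Subgroup.pointwise_smul_subset_iff]
  exact sSup_le fun X hX => Subgroup.pointwise_smul_subset_iff.1 (h X hX)

/-- A uniqueness lemma of zipper type. Let A be a subgroup of a finite group G and U a nonempty family of subgroups. For V in U write S(V) for the set of conjugates of A that lie in V and are subnormal in V. Assume: A belongs to S(V) for every V in U; a member of some S(W) that lies in V belongs to S(V); and for all V, W in U the normalizer of the join of S(V) ∩ S(W) lies in some member of U. Then U has a greatest element. -/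
theorem result {G : Type*} [Group G] [Finite G] (A : Subgroup G) (U : Set (Subgroup G)) (hU : U.Nonempty) (S : Subgroup G → Set (Subgroup G)) (hS : ∀ V B : Subgroup G, B ∈ S V ↔ (∃ g : G, B = MulAut.conj g • A) ∧ B ≤ V ∧ (B.subgroupOf V).IsSubnormal) (h1 : ∀ V ∈ U, A ∈ S V) (h2 : ∀ V ∈ U, ∀ W ∈ U, ∀ B ∈ S W, B ≤ V → B ∈ S V) (h3 : ∀ V ∈ U, ∀ W ∈ U, ∃ X ∈ U, Subgroup.normalizer ((sSup (S V ∩ S W) : Subgroup G) : Set G) ≤ X) : ∃ M ∈ U, ∀ V ∈ U, V ≤ M := by
  classical
  have hfin : U.Finite := Set.toFinite U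
  obtain ⟨M, hM, hMmax⟩ := hfin.exists_maximal hU
  refine ⟨M, hM, fun V hV => ?_⟩
  obtain ⟨W, hVW, ⟨hW, hWmax⟩⟩ := hfin.exists_le_maximal hV
  refine hVW.trans (le_of_eq ?_)
  by_contra hne
  -- a pair of distinct maximal members with the largest common set of conjugates
  have hP : {P : Subgroup G × Subgroup G | Maximal (· ∈ U) P.1 ∧ Maximal (· ∈ U) P.2 ∧ P.1 ≠ P.2}.Nonempty :=
    ⟨(W, M), ⟨hW, hWmax⟩, ⟨hM, hMmax⟩, hne⟩
  obtain ⟨⟨V₁, V₂⟩, ⟨hV₁, hV₂, hne'⟩, hmax⟩ := Set.Finite.exists_maximalFor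
    (fun P : Subgroup G × Subgroup G => S P.1 ∩ S P.2) _ (Set.toFinite _) hP
  set T := S V₁ ∩ S V₂ with hT
  obtain ⟨X₀, hX₀, hDX₀⟩ := h3 V₁ hV₁.1 V₂ hV₂.1
  obtain ⟨X, hX₀X, hX⟩ := hfin.exists_le_maximal hX₀
  have hDX : Subgroup.normalizer ((sSup T : Subgroup G) : Set G) ≤ X := hDX₀.trans hX₀X
  have key : ∀ V' W' : Subgroup G, Maximal (· ∈ U) V' → Maximal (· ∈ U) W' → S V' ∩ S W' = T → X = V' := by
    intro V' W' hV' hW' hTeq
    by_contra hXV
    have hTV : T ⊆ S V' := hTeq ▸ Set.inter_subset_left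
    have hconjV : ∀ v ∈ V', ∀ B ∈ S V', MulAut.conj v • B ∈ S V' := by
      intro v hv B hB
      obtain ⟨⟨g, rfl⟩, hle, hsn⟩ := (hS V' B).1 hB
      have hle' : MulAut.conj v • MulAut.conj g • A ≤ V' := by
        rintro _ ⟨x, hx, rfl⟩
        exact V'.mul_mem (V'.mul_mem hv (hle hx)) (V'.inv_mem hv)
      refine (hS V' _).2 ⟨⟨v * g, by rw [map_mul, mul_smul]⟩, hle', ?_⟩
      have e : (MulAut.conj v • MulAut.conj g • A).subgroupOf V' =
          MulAut.conj (⟨v, hv⟩ : V') • (MulAut.conj g • A).subgroupOf V' :=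
        (Subgroup.conj_smul_subgroupOf hle ⟨v, hv⟩).symm
      rw [e]
      exact hsn.smul _
    rcases hTV.eq_or_ssubset with heq | hss
    · have hVX : V' ≤ X := by
        refine le_trans (fun v hv => ?_) hDX
        rw [heq, ← Cfsg.Agent.SubnormalJoin.conj_smul_eq_iff_mem_normalizer]
        refine Subgroup.eq_of_le_of_card_ge (smul_sSup_le _ v fun B hB => le_sSup (hconjV v hv B hB))
          (le_of_eq (Nat.card_congr (Subgroup.equivSMul (MulAut.conj v) _).toEquiv))
      exact hXV (le_antisymm (hV'.2 hX.1 hVX) hVX)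
    · let f : Subgroup G → Subgroup V' := fun B => B.subgroupOf V'
      have hinj : Set.InjOn f (S V') := fun a ha b hb h => by
        have h' := congrArg (Subgroup.map V'.subtype) h
        simpa [f, Subgroup.map_subgroupOf_eq_of_le ((hS V' a).1 ha).2.1, Subgroup.map_subgroupOf_eq_of_le ((hS V' b).1 hb).2.1] using h'
      obtain ⟨B', ⟨B, hB, rfl⟩, hBT, hBN⟩ := Cfsg.Agent.S0539.exists_normalizing (f '' S V') (f '' T)
        (by rintro _ ⟨B, hB, rfl⟩; exact ((hS V' B).1 hB).2.2)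
        (by
          rintro _ ⟨B, hB, rfl⟩ v
          exact ⟨_, hconjV v v.2 B hB, (Subgroup.conj_smul_subgroupOf ((hS V' B).1 hB).2.1 v).symm⟩)
        (by
          refine ⟨Set.image_mono hss.1, fun h => hss.2 fun B hB => ?_⟩
          obtain ⟨B', hB', e⟩ := h ⟨B, hB, rfl⟩
          exact hinj (hTV hB') hB e ▸ hB')
      have hBnT : B ∉ T := fun h => hBT ⟨B, h, rfl⟩
      have hsupV : sSup T ≤ V' := sSup_le fun C hC => ((hS V' C).1 (hTV hC)).2.1
      have hsup : sSup (f '' T) = (sSup T).subgroupOf V' := by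
        refine Subgroup.map_injective V'.subtype_injective ?_
        rw [Subgroup.map_subgroupOf_eq_of_le hsupV, sSup_image, sSup_eq_iSup]
        simp only [Subgroup.map_iSup]
        exact iSup_congr fun C => iSup_congr fun hC => Subgroup.map_subgroupOf_eq_of_le ((hS V' C).1 (hTV hC)).2.1
      rw [hsup] at hBN
      have hBX : B ≤ X := by
        refine le_trans (fun b hb => ?_) hDX
        have hb' := hBN (x := ⟨b, ((hS V' B).1 hB).2.1 hb⟩) (Subgroup.mem_subgroupOf.2 hb)
        rw [← Cfsg.Agent.SubnormalJoin.conj_smul_eq_iff_mem_normalizer] at hb' ⊢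
        rw [Subgroup.conj_smul_subgroupOf hsupV] at hb'
        have hle : MulAut.conj b • sSup T ≤ V' := by
          rintro _ ⟨x, hx, rfl⟩
          exact V'.mul_mem (V'.mul_mem (((hS V' B).1 hB).2.1 hb) (hsupV hx)) (V'.inv_mem (((hS V' B).1 hB).2.1 hb))
        have h' := congrArg (Subgroup.map V'.subtype) hb'
        rwa [Subgroup.map_subgroupOf_eq_of_le hle, Subgroup.map_subgroupOf_eq_of_le hsupV] at h'
      have hsub : T ⊂ S V' ∩ S X := by
        refine ⟨fun C hC => ⟨hTV hC, h2 X hX.1 V' hV'.1 C (hTV hC) ((le_sSup hC).trans (Subgroup.le_normalizer.trans hDX))⟩, fun h => hBnT (h ⟨hB, h2 X hX.1 V' hV'.1 B hB hBX⟩)⟩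
      exact hsub.2 (hmax (j := (V', X)) ⟨hV', hX, Ne.symm hXV⟩ hsub.1)
  exact hne' ((key V₁ V₂ hV₁ hV₂ rfl).symm.trans (key V₂ V₁ hV₂ hV₁ (Set.inter_comm _ _)))

end Cfsg.Agent.S0540
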