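import Cfsg.Statements.S0541
import Mathlib
import Cfsg.Agent.S0539
import Cfsg.Agent.S0064

set_option autoImplicit false
open Pointwise
open Cfsg

namespace Cfsg.Agent.S0541

open scoped Pointwise commutatorElement

theorem mem_sup_normalizer {G : Type*} [Group G] {W : Subgroup G} {Y : Subgroup G} (hY : Y ≤ Subgroup.normalizer (W : Set G))
    {Z : Subgroup G} {g : G} (hg : MulAut.conj g • Z ≤ Subgroup.normalizer (W : Set G)) {y : G} (hy : y ∈ Y) :
    MulAut.conj (y * g) • Z ≤ Subgroup.normalizer (W : Set G) := by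
  rintro _ ⟨z, hz, rfl⟩
  show y * g * z * (y * g)⁻¹ ∈ _
  have h1 := mul_mem (mul_mem (hY hy) (hg ⟨z, hz, rfl⟩)) (inv_mem (hY hy))
  simpa [mul_assoc] using h1

/-- Let Z and Y be subgroups of a finite group G and p a prime. Suppose that for every g in G the subgroup generated by the conjugates of g Z g⁻¹ under Y is a p-group. Then there is a Sylow p-subgroup P of G such that Y normalizes the subgroup generated by all conjugates of Z contained in P. -/
theorem result {G : Type*} [Group G] [Finite G] (p : ℕ) [Fact p.Prime] (Z Y : Subgroup G) (h : ∀ g : G, IsPGroup p ↥(⨆ y ∈ Y, MulAut.conj (y * g) • Z)) : ∃ P : Sylow p G, Y ≤ Subgroup.normalizer ((⨆ g ∈ {g : G | MulAut.conj g • Z ≤ (P : Subgroup G)}, MulAut.conj g • Z : Subgroup G) : Set G) := by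
  classical
  set C : Set (Subgroup G) := {W : Subgroup G | IsPGroup p W ∧ Y ≤ Subgroup.normalizer (W : Set G) ∧
    ∃ s : Set G, W = ⨆ g ∈ s, MulAut.conj g • Z} with hC
  have hne : C.Nonempty := by
    refine ⟨⊥, IsPGroup.of_bot, fun y _ => ?_, ∅, by simp⟩
    rw [Subgroup.normalizer_eq_top_iff.mpr (inferInstance : (⊥ : Subgroup G).Normal)]
    trivial
  obtain ⟨W, ⟨hWp, hYW, s, hs⟩, hmax⟩ := (Set.toFinite C).exists_maximal hne
  obtain ⟨P, hWP⟩ := hWp.exists_le_sylow
  refine ⟨P, ?_⟩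
  set J := (⨆ g ∈ {g : G | MulAut.conj g • Z ≤ (P : Subgroup G)}, MulAut.conj g • Z : Subgroup G) with hJ
  suffices hJW : J = W by rw [hJW]; exact hYW
  have hWJ : W ≤ J := by
    rw [hs]
    refine iSup₂_le fun g hg => le_iSup₂ (f := fun g (_ : g ∈ {g : G | MulAut.conj g • Z ≤ (P : Subgroup G)}) => MulAut.conj g • Z) g ?_
    exact le_trans (hs ▸ le_iSup₂ (f := fun g (_ : g ∈ s) => MulAut.conj g • Z) g hg) hWP
  refine le_antisymm ?_ hWJ
  by_contra hJW
  -- work inside the p-group P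
  haveI := P.2.isNilpotent
  set Sf : Set (Subgroup (P : Subgroup G)) := {B | ∃ g : G, MulAut.conj g • Z ≤ (P : Subgroup G) ∧ B = (MulAut.conj g • Z).subgroupOf P} with hSf
  set S₀ : Set (Subgroup (P : Subgroup G)) := {B ∈ Sf | B ≤ W.subgroupOf P} with hS₀
  have hss : S₀ ⊂ Sf := by
    refine ⟨fun B hB => hB.1, fun h => hJW (iSup₂_le fun g hg => ?_)⟩
    have := (h (show (MulAut.conj g • Z).subgroupOf P ∈ Sf from ⟨g, hg, rfl⟩)).2
    intro x hx
    exact this (x := ⟨x, hg hx⟩) hx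
  have hsn : ∀ B : Subgroup (P : Subgroup G), B.IsSubnormal := Cfsg.Agent.S0064.result.1 inferInstance
  obtain ⟨B, ⟨g, hgP, rfl⟩, hB0, hBN⟩ := Cfsg.Agent.S0539.exists_normalizing Sf S₀ (fun B _ => hsn B)
    (by
      rintro _ ⟨g, hg, rfl⟩ v
      refine ⟨v * g, ?_, ?_⟩
      · rintro _ ⟨z, hz, rfl⟩
        have := P.1.mul_mem (P.1.mul_mem v.2 (hg ⟨z, hz, rfl⟩)) (P.1.inv_mem v.2)
        show (v : G) * g * z * ((v : G) * g)⁻¹ ∈ (P : Subgroup G)
        simpa [mul_assoc] using this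
      · rw [Subgroup.conj_smul_subgroupOf hg, map_mul, mul_smul])
    hss
  have hgW : ¬ MulAut.conj g • Z ≤ W := fun h => hB0 ⟨⟨g, hgP, rfl⟩, fun x hx => h hx⟩
  have hsup : sSup S₀ = W.subgroupOf P := by
    refine le_antisymm (sSup_le fun B hB => hB.2) ?_
    have hmap : W ≤ (sSup S₀).map (P : Subgroup G).subtype := by
      rw [hs]
      refine iSup₂_le fun a ha => ?_
      have haW : MulAut.conj a • Z ≤ W := hs ▸ le_iSup₂ (f := fun a (_ : a ∈ s) => MulAut.conj a • Z) a ha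
      intro x hx
      refine ⟨⟨x, hWP (haW hx)⟩, ?_, rfl⟩
      exact le_sSup (show (MulAut.conj a • Z).subgroupOf P ∈ S₀ from ⟨⟨a, haW.trans hWP, rfl⟩, fun y hy => haW hy⟩) hx
    intro x hx
    obtain ⟨x', hx', e⟩ := hmap hx
    exact (Subtype.ext e : x' = x) ▸ hx'
  rw [hsup] at hBN
  have hgN : MulAut.conj g • Z ≤ Subgroup.normalizer (W : Set G) := by
    intro b hb
    have hb' := hBN (x := ⟨b, hgP hb⟩) (Subgroup.mem_subgroupOf.2 hb)
    rw [← Cfsg.Agent.SubnormalJoin.conj_smul_eq_iff_mem_normalizer] at hb' ⊢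
    rw [Subgroup.conj_smul_subgroupOf hWP] at hb'
    have hle : MulAut.conj b • W ≤ (P : Subgroup G) := by
      rintro _ ⟨x, hx, rfl⟩
      exact P.1.mul_mem (P.1.mul_mem (hgP hb) (hWP hx)) (P.1.inv_mem (hgP hb))
    have h' := congrArg (Subgroup.map (P : Subgroup G).subtype) hb'
    rwa [Subgroup.map_subgroupOf_eq_of_le hle, Subgroup.map_subgroupOf_eq_of_le hWP] at h'
  set K := (⨆ y ∈ Y, MulAut.conj (y * g) • Z : Subgroup G) with hK
  have hKN : K ≤ Subgroup.normalizer (W : Set G) := iSup₂_le fun y hy => mem_sup_normalizer hYW hgN hy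
  have hYK : Y ≤ Subgroup.normalizer (K : Set G) := by
    intro y hy
    rw [← Cfsg.Agent.SubnormalJoin.conj_smul_eq_iff_mem_normalizer]
    refine Subgroup.eq_of_le_of_card_ge ?_ (le_of_eq (Nat.card_congr (Subgroup.equivSMul (MulAut.conj y) K).toEquiv))
    rw [Subgroup.pointwise_smul_subset_iff]
    refine iSup₂_le fun y' hy' => ?_
    rw [← Subgroup.pointwise_smul_subset_iff, ← mul_smul, ← map_mul, ← mul_assoc]
    exact le_iSup₂ (f := fun y (_ : y ∈ Y) => MulAut.conj (y * g) • Z) (y * y') (mul_mem hy hy')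
  have hnew : W ⊔ K ∈ C := by
    refine ⟨hWp.to_sup_of_normal_left' (h g) hKN, ?_, s ∪ ((fun y => y * g) '' (Y : Set G)), ?_⟩
    · exact (le_inf hYW hYK).trans (Cfsg.Agent.SubnormalJoin.inf_normalizer_le_normalizer_sup W K)
    · rw [iSup_union, ← hs, iSup_image]
      rfl
  apply hgW
  refine le_trans ?_ (hmax hnew le_sup_left)
  refine le_trans ?_ le_sup_right
  have := le_iSup₂ (f := fun y (_ : y ∈ Y) => MulAut.conj (y * g) • Z) 1 Y.one_mem
  rw [one_mul] at this
  exact this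

end Cfsg.Agent.S0541
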