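import Mathlib
import Cfsg.Statements.S0542

set_option autoImplicit false
set_option linter.unusedVariables false
set_option linter.unusedSectionVars false
open Cfsg

namespace Cfsg.Agent.S0542



theorem result {G : Type*} [Group G] [Finite G] (p : ℕ) [Fact p.Prime] (H : Subgroup G) (hH : H.IsSubnormal) (S : Sylow p G) : ∃ Q : Sylow p H, (Q : Subgroup H) = (S : Subgroup G).subgroupOf H := by
  revert S
  suffices h : ∀ S : Sylow p G, ¬ p ∣ ((S : Subgroup G).subgroupOf H).index by
    intro S
    have hS : IsPGroup p ((S : Subgroup G).subgroupOf H) :=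
      S.2.comap_of_injective H.subtype H.subtype_injective
    exact ⟨hS.toSylow (h S), hS.toSylow_coe (h S)⟩
  intro S
  induction hH with
  | top =>
      show ¬ p ∣ (S : Subgroup G).relIndex ⊤
      rw [Subgroup.relIndex_top_right]; exact S.not_dvd_index
  | step A K hle hK hn ih =>
    intro hd
    apply ih
    -- `[S ∩ A : A]` equals the index of `S ∩ K` in `(S ∩ K) A`
    have h1 : ((S : Subgroup G).subgroupOf K).relIndex (A.subgroupOf K) ∣
        ((S : Subgroup G).subgroupOf K).index := by
      rw [← Subgroup.inf_relIndex_right]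
      have e : ((S : Subgroup G).subgroupOf K ⊓ A.subgroupOf K).relIndex (A.subgroupOf K) =
          ((S : Subgroup G).subgroupOf K).relIndex ((S : Subgroup G).subgroupOf K ⊔ A.subgroupOf K) := by
        set X := (S : Subgroup G).subgroupOf K
        set N := A.subgroupOf K
        have h1 := Subgroup.relIndex_mul_relIndex (X ⊓ N) N (X ⊔ N) inf_le_right le_sup_right
        have h2 := Subgroup.relIndex_mul_relIndex (X ⊓ N) X (X ⊔ N) inf_le_left le_sup_left
        rw [Subgroup.relIndex_sup_right] at h1
        rw [inf_comm X N, Subgroup.inf_relIndex_right N X] at h2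
        rw [inf_comm X N] at h1 ⊢
        have hpos : N.relIndex X ≠ 0 := by
          rw [Subgroup.relIndex]; exact Subgroup.index_ne_zero_of_finite
        exact Nat.eq_of_mul_eq_mul_left (Nat.pos_of_ne_zero hpos)
          (by rw [h2, ← h1, mul_comm])
      rw [e]
      exact dvd_of_mul_right_eq _ (Subgroup.relIndex_mul_index le_sup_left)
    rw [Subgroup.relIndex_subgroupOf hle] at h1
    exact dvd_trans (by exact hd) h1

end Cfsg.Agent.S0542
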