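import Mathlib
import Cfsg.Agent.Lib.PermBasic
import Cfsg.Agent.Lib.HallSolvable
import Cfsg.Agent.Lib.PGroupsBasic
import Cfsg.Statements.S0548

set_option autoImplicit false
set_option linter.unusedVariables false
set_option linter.unusedSectionVars false
open Cfsg

namespace Cfsg.Agent.S0548

open Subgroup MulAction

theorem result {G : Type*} [Group G] [Finite G] [Group.IsSolvable G] {Ω : Type*} [MulAction G Ω] [FaithfulSMul G Ω] (hprim : MulAction.IsPreprimitive G Ω) (M : Subgroup G) [M.Normal] (hM : M ≠ ⊥) (hmin : ∀ K : Subgroup G, K.Normal → K ≤ M → K = ⊥ ∨ K = M) (ω : Ω) : Subgroup.IsComplement' M (MulAction.stabilizer G ω) ∧ MulAction.stabilizer G ω ⊓ Subgroup.centralizer (M : Set G) = ⊥ ∧ ∀ K : Subgroup G, K ≤ M → MulAction.stabilizer G ω ≤ Subgroup.normalizer (K : Set G) → K = ⊥ ∨ K = M := by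
  have := hprim
  have hmn : HallSolvable.IsMinNormal M := ⟨inferInstance, hM, hmin⟩
  obtain ⟨p, k, hp, hk, hc, he⟩ := hmn.card_eq_pow
  haveI : MulAction.IsPretransitive M Ω := PermBasic.isPretransitive_of_normal M hM
  set H := MulAction.stabilizer G ω with hH
  refine ⟨PermBasic.isComplement_of_regular M (PermBasic.stabilizer_eq_bot_of_abelian M he.1 ω),
    PermBasic.stabilizer_inf_centralizer_eq_bot M ω, fun K hK hN => hmin K ?_ hK⟩
  rw [← normalizer_eq_top_iff, eq_top_iff, ← PermBasic.sup_stabilizer_eq_top M ω]
  refine sup_le ?_ hN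
  exact le_trans (PGroupsBasic.le_centralizer_of_isMulCommutative he.1)
    ((centralizer_le (SetLike.coe_subset_coe.mpr hK)).trans
      (fun x hx => by
        rw [mem_normalizer_iff]
        intro y
        have hc := mem_centralizer_iff.mp hx
        constructor <;> intro hy
        · rwa [← hc y hy, mul_inv_cancel_right]
        · have := hc _ hy
          have e : y = x * y * x⁻¹ := mul_left_cancel (by
            calc x * y = x * y * x⁻¹ * x := by group
              _ = x * (x * y * x⁻¹) := this)
          rwa [e]))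

end Cfsg.Agent.S0548
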