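import Mathlib
import Cfsg.Statements.S0549

set_option autoImplicit false
set_option linter.unusedVariables false
set_option linter.unusedSectionVars false
open Cfsg

namespace Cfsg.Agent.S0549



theorem result {G : Type*} [Group G] [Finite G] (U : Subgroup G) (hU : IsCoatom U) (hcore : U.normalCore = ⊥) (N : Subgroup G) [N.Normal] (hN : N ≠ ⊥) : Subgroup.centralizer (N : Set G) ⊓ U = ⊥ ∧ (Subgroup.centralizer (N : Set G) = ⊥ ∨ (Subgroup.centralizer (N : Set G) ≠ ⊥ ∧ ∀ K : Subgroup G, K.Normal → K ≤ Subgroup.centralizer (N : Set G) → K = ⊥ ∨ K = Subgroup.centralizer (N : Set G))) := by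
  set C := Subgroup.centralizer (N : Set G) with hC
  have : C.Normal := by rw [hC]; infer_instance
  have notle : ∀ K : Subgroup G, K.Normal → K ≠ ⊥ → U ⊔ K = ⊤ := by
    intro K hK hne
    refine hU.2 _ (lt_of_le_of_ne le_sup_left fun e => hne (le_bot_iff.mp ?_))
    have hKU : K ≤ U := e ▸ le_sup_right
    exact hcore ▸ (Subgroup.normal_le_normalCore.mpr hKU)
  have hbot : C ⊓ U = ⊥ := by
    have hn : (C ⊓ U).Normal := by
      rw [← Subgroup.normalizer_eq_top_iff, eq_top_iff, ← notle N inferInstance hN]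
      refine sup_le (fun u hu => ?_) (fun n hn => ?_) <;> rw [Subgroup.mem_normalizer_iff] <;> intro x
      · exact and_congr (Subgroup.mem_normalizer_iff.mp (Subgroup.normalizer_eq_top (H := C) ▸ Subgroup.mem_top u) x)
          (Subgroup.mem_normalizer_iff.mp (Subgroup.le_normalizer hu) x)
      · constructor <;> intro hx
        · have h1 : n * x * n⁻¹ = x := by
            rw [(Subgroup.mem_centralizer_iff.mp hx.1 n hn), mul_inv_cancel_right]
          rwa [h1]
        · have hxC : x ∈ C := by
            have := (inferInstance : C.Normal).conj_mem _ hx.1 n⁻¹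
            simpa [mul_assoc] using this
          have h1 : n * x * n⁻¹ = x := by
            rw [(Subgroup.mem_centralizer_iff.mp hxC n hn), mul_inv_cancel_right]
          rwa [h1] at hx
    exact le_bot_iff.mp (hcore ▸ Subgroup.normal_le_normalCore.mpr inf_le_right)
  refine ⟨hbot, (em (C = ⊥)).imp_right fun hne => ⟨hne, fun K hK hle => ?_⟩⟩
  refine (em (K = ⊥)).imp_right fun hK0 => le_antisymm hle fun c hc => ?_
  obtain ⟨u, hu, k, hk, e⟩ := Subgroup.mem_sup_of_normal_right.mp
    (notle K hK hK0 ▸ Subgroup.mem_top c : c ∈ U ⊔ K)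
  have : u ∈ C := by
    have h : u = c * k⁻¹ := by rw [← e, mul_inv_cancel_right]
    rw [h]; exact mul_mem hc (inv_mem (hle hk))
  have : u = 1 := Subgroup.mem_bot.mp (hbot ▸ ⟨this, hu⟩)
  rw [← e, this, one_mul]; exact hk

end Cfsg.Agent.S0549
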