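import Cfsg.Statements.S0550
import Mathlib
import Cfsg.Agent.Lib.PermMinimalNormal

set_option autoImplicit false
open Cfsg

namespace Cfsg.Agent.S0550

open scoped Pointwise commutatorElement

theorem mulEquiv_of_sup_eq {G : Type*} [Group G] (A D B : Subgroup G) [B.Normal] (hA : A ⊓ B = ⊥) (hD : D ⊓ B = ⊥)
    (h : A ⊔ B = D ⊔ B) : Nonempty (A ≃* D) := by
  let π := QuotientGroup.mk' B
  have key : ∀ E : Subgroup G, E ⊓ B = ⊥ → Nonempty (E ≃* (E.map π)) := by
    intro E hE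
    refine ⟨MulEquiv.ofBijective (π.subgroupMap E) ⟨?_, π.subgroupMap_surjective E⟩⟩
    rw [← MonoidHom.ker_eq_bot_iff, eq_bot_iff]
    intro x hx
    have h1 : (x : G) ∈ E ⊓ B := ⟨x.2, (QuotientGroup.eq_one_iff (x : G)).1 (congrArg Subtype.val hx)⟩
    rw [hE, Subgroup.mem_bot] at h1
    exact Subgroup.mem_bot.2 (Subtype.ext h1)
  have hmap : A.map π = D.map π := by
    have h1 := congrArg (Subgroup.map π) h
    rwa [Subgroup.map_sup, Subgroup.map_sup, QuotientGroup.map_mk'_self, sup_bot_eq, sup_bot_eq] at h1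
  obtain ⟨eA⟩ := key A hA
  obtain ⟨eD⟩ := key D hD
  exact ⟨(eA.trans (MulEquiv.subgroupCongr hmap)).trans eD.symm⟩

/-- Let U be a maximal subgroup with trivial normal core in a finite group G, and A ≠ B two minimal normal subgroups. Then A is the centralizer of B and B that of A, U complements each of them, A and B are non-abelian, and A, B and (A ⊔ B) ∩ U are pairwise isomorphic. -/
theorem result {G : Type*} [Group G] [Finite G] (U : Subgroup G) (hU : IsCoatom U) (hcore : U.normalCore = ⊥) (A B : Subgroup G) [A.Normal] [B.Normal] (hA : A ≠ ⊥) (hB : B ≠ ⊥) (hAmin : ∀ K : Subgroup G, K.Normal → K ≤ A → K = ⊥ ∨ K = A) (hBmin : ∀ K : Subgroup G, K.Normal → K ≤ B → K = ⊥ ∨ K = B) (hAB : A ≠ B) : Subgroup.centralizer (B : Set G) = A ∧ Subgroup.centralizer (A : Set G) = B ∧ Subgroup.IsComplement' A U ∧ Subgroup.IsComplement' B U ∧ ¬ IsMulCommutative A ∧ Nonempty (A ≃* B) ∧ Nonempty (A ≃* ↥((A ⊔ B) ⊓ U)) := by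
  classical
  have hfaith : FaithfulSMul G (G ⧸ U) := by
    refine ⟨fun {g₁ g₂} h => ?_⟩
    have h1 : g₁⁻¹ * g₂ ∈ (MulAction.toPermHom G (G ⧸ U)).ker := by
      rw [MonoidHom.mem_ker]
      ext x
      simp [mul_smul, ← h x]
    rw [← Subgroup.normalCore_eq_ker, hcore, Subgroup.mem_bot, inv_mul_eq_one] at h1
    exact h1
  haveI : Nontrivial (G ⧸ U) := QuotientGroup.nontrivial_iff.2 hU.1
  haveI hpre : MulAction.IsPreprimitive G (G ⧸ U) :=
    (MulAction.isCoatom_stabilizer_iff_preprimitive G ((1 : G) : G ⧸ U)).1 (by rw [MulAction.stabilizer_quotient]; exact hU)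
  have hMA : Cfsg.Agent.PermMinimalNormal.IsMinNormal A := ⟨inferInstance, hA, hAmin⟩
  have hMB : Cfsg.Agent.PermMinimalNormal.IsMinNormal B := ⟨inferInstance, hB, hBmin⟩
  obtain ⟨hAt, hBt, hcA, hcB, hnab⟩ :=
    Cfsg.Agent.PermMinimalNormal.primitive_two_minNormal (X := G ⧸ U) hMA hMB hAB
  have hcomm : ∀ x ∈ A, ∀ y ∈ B, x * y = y * x := fun x hx y hy =>
    Cfsg.Agent.PermMinimalNormal.commute_of_inf_eq_bot hMA.1 hMB.1 (hMA.inf_eq_bot_of_ne hMB hAB) x y hx hy
  have hcompl : ∀ N : Subgroup G, N.Normal → N ≠ ⊥ → (∀ x ∈ N, x • ((1 : G) : G ⧸ U) = ((1 : G) : G ⧸ U) → x = 1) → Subgroup.IsComplement' N U := by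
    intro N hN hNb hfree
    haveI := hN
    have hinf : N ⊓ U = ⊥ := by
      rw [eq_bot_iff]
      intro x hx
      refine Subgroup.mem_bot.2 (hfree x hx.1 ?_)
      refine MulAction.mem_stabilizer_iff.1 ?_
      rw [MulAction.stabilizer_quotient]
      exact hx.2
    refine Subgroup.isComplement'_of_disjoint_and_mul_eq_univ (disjoint_iff.2 hinf) ?_
    have htop : N ⊔ U = ⊤ := by
      refine hU.2 _ (lt_of_le_of_ne le_sup_right fun e => hNb (eq_bot_iff.2 ?_))
      rw [← hcore]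
      exact Subgroup.normal_le_normalCore.2 (e ▸ le_sup_left)
    rw [← Subgroup.normal_mul, htop, Subgroup.coe_top]
  have hfreeA : ∀ x ∈ A, x • ((1 : G) : G ⧸ U) = ((1 : G) : G ⧸ U) → x = 1 := by
    haveI := hBt
    exact (Cfsg.Agent.PermBasic.stabilizer_subgroup_eq_bot_iff' A ((1 : G) : G ⧸ U)).1
      (Cfsg.Agent.PermMinimalNormal.stabilizer_eq_bot_of_commuting B A (fun x hx y hy => (hcomm y hy x hx).symm) _)
  have hfreeB : ∀ x ∈ B, x • ((1 : G) : G ⧸ U) = ((1 : G) : G ⧸ U) → x = 1 := by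
    haveI := hAt
    exact (Cfsg.Agent.PermBasic.stabilizer_subgroup_eq_bot_iff' B ((1 : G) : G ⧸ U)).1
      (Cfsg.Agent.PermMinimalNormal.stabilizer_eq_bot_of_commuting A B hcomm _)
  have hAU := hcompl A inferInstance hA hfreeA
  have hBU := hcompl B inferInstance hB hfreeB
  refine ⟨hcB, hcA, hAU, hBU, hnab, ?_, ?_⟩
  · haveI := hAt; haveI := hBt
    exact Cfsg.Agent.PermMinimalNormal.nonempty_mulEquiv_of_commuting (X := G ⧸ U) A B hcomm
  · refine mulEquiv_of_sup_eq A _ B (hMA.inf_eq_bot_of_ne hMB hAB) ?_ ?_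
    · rw [eq_bot_iff]
      exact fun x hx => hBU.disjoint.le_bot ⟨hx.2, hx.1.2⟩
    · refine le_antisymm (sup_le (fun a ha => ?_) le_sup_right) (sup_le inf_le_left le_sup_right)
      have : a ∈ B ⊔ U := hBU.sup_eq_top ▸ Subgroup.mem_top a
      obtain ⟨b, hb, u, hu, rfl⟩ := Subgroup.mem_sup_of_normal_left.1 this
      have huAB : u ∈ A ⊔ B := by
        have h1 : b⁻¹ * (b * u) ∈ A ⊔ B := mul_mem (Subgroup.mem_sup_right (inv_mem hb)) (Subgroup.mem_sup_left ha)
        rwa [inv_mul_cancel_left] at h1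
      exact mul_mem (Subgroup.mem_sup_right hb) (Subgroup.mem_sup_left ⟨huAB, hu⟩)

end Cfsg.Agent.S0550
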