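import Cfsg.Statements.S0551
import Cfsg.Agent.Lib.HallTheorem
import Cfsg.Agent.Lib.HallCarter
import Cfsg.Agent.Lib.PGroupsBasic
-- import your own Cfsg.Agent.* helpers here

set_option autoImplicit false
open Pointwise
open Cfsg

namespace Cfsg.Agent.S0551

open scoped Pointwise
open Cfsg.Agent.HallCore Cfsg.Agent.HallSolvable Cfsg.Agent.HallTheorem

/-- Basic facts about a core-free maximal subgroup and an abelian minimal normal subgroup. -/
theorem maximal_facts {G : Type*} [Group G] [Finite G] {U N : Subgroup G} (hU : IsCoatom U)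
    (hUc : U.normalCore = ⊥) (hN : IsMinNormal N) (hab : IsMulCommutative N) :
    U ⊔ N = ⊤ ∧ U ⊓ N = ⊥ ∧ Subgroup.centralizer (N : Set G) = N := by
  have := hN.normal
  have hnle : ¬ N ≤ U := fun h =>
    hN.ne_bot (le_bot_iff.mp (hUc ▸ Subgroup.normal_le_normalCore.mpr h))
  have hsup : U ⊔ N = ⊤ := hU.2 _ (lt_of_le_of_ne le_sup_left fun e => hnle (e ▸ le_sup_right))
  have key : ∀ X : Subgroup G, U ≤ Subgroup.normalizer (X : Set G) →
      N ≤ Subgroup.normalizer (X : Set G) → X ≤ U → X = ⊥ := by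
    intro X h1 h2 h3
    have : X.Normal := Subgroup.normalizer_eq_top_iff.mp (top_le_iff.mp (hsup ▸ sup_le h1 h2))
    exact le_bot_iff.mp (hUc ▸ Subgroup.normal_le_normalCore.mpr h3)
  have hUN : U ⊓ N = ⊥ := by
    refine key _ ?_ ?_ inf_le_left
    · exact (le_inf Subgroup.le_normalizer Subgroup.le_normalizer_of_normal).trans
        (Subgroup.inf_normalizer_le_normalizer_inf)
    · intro n hn
      rw [Subgroup.mem_normalizer_iff]
      intro x
      have hc : ∀ y ∈ N, n * y * n⁻¹ = y := fun y hy => by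
        have h := congrArg Subtype.val (hab.is_comm.comm (⟨n, hn⟩ : N) ⟨y, hy⟩)
        rw [show n * y = y * n from h, mul_inv_cancel_right]
      constructor
      · intro hx
        rw [hc x hx.2]
        exact hx
      · intro hx
        have h1 := hc _ hx.2
        have h2 : n * x * n⁻¹ = x := mul_left_cancel (mul_right_cancel h1)
        rwa [h2] at hx
  refine ⟨hsup, hUN, le_antisymm ?_ ?_⟩
  · have hCU : Subgroup.centralizer (N : Set G) ⊓ U = ⊥ := by
      refine key _ ?_ ?_ inf_le_right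
      · exact (le_inf Subgroup.le_normalizer_of_normal Subgroup.le_normalizer).trans
          (Subgroup.inf_normalizer_le_normalizer_inf)
      · intro n hn
        rw [Subgroup.mem_normalizer_iff]
        intro x
        constructor
        · intro hx
          have h1 : n * x * n⁻¹ = x := by rw [hx.1 n hn, mul_inv_cancel_right]
          rw [h1]; exact hx
        · intro hx
          have h1 := hx.1 n hn
          have h2 : n * x * n⁻¹ = x := by
            have h3 : n * (n * x * n⁻¹) = n * x * n⁻¹ * n := h1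
            rw [inv_mul_cancel_right] at h3
            exact mul_left_cancel h3
          rwa [h2] at hx
    intro x hx
    obtain ⟨u, hu, n, hn, rfl⟩ := Subgroup.mem_sup_of_normal_right.mp (hsup.ge (Subgroup.mem_top x))
    have hnc : n ∈ Subgroup.centralizer (N : Set G) := fun y hy =>
      congrArg Subtype.val (hab.is_comm.comm (⟨y, hy⟩ : N) ⟨n, hn⟩)
    have : u ∈ Subgroup.centralizer (N : Set G) ⊓ U :=
      ⟨by simpa using Subgroup.mul_mem _ hx (Subgroup.inv_mem _ hnc), hu⟩
    rw [hCU, Subgroup.mem_bot] at this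
    simpa [this] using hn
  · intro n hn y hy
    exact congrArg Subtype.val (hab.is_comm.comm (⟨y, hy⟩ : N) ⟨n, hn⟩)


/-- In a finite solvable group all core-free maximal subgroups are conjugate. -/
theorem result {G : Type*} [Group G] [Finite G] [Group.IsSolvable G] (U V : Subgroup G) (hU : IsCoatom U) (hV : IsCoatom V) (hUc : U.normalCore = ⊥) (hVc : V.normalCore = ⊥) : ∃ g : G, MulAut.conj g • U = V := by
  rcases subsingleton_or_nontrivial G with h | h
  · exact ⟨1, Subsingleton.elim _ _⟩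
  obtain ⟨N, hN⟩ := exists_minNormal (G := G)
  have := hN.normal
  have hab := hN.commutative_of_solvable
  obtain ⟨p, hp, -, hNp⟩ := hN.exists_prime
  have : Fact p.Prime := ⟨hp⟩
  obtain ⟨hUN, hUN', hCN⟩ := maximal_facts hU hUc hN hab
  obtain ⟨hVN, hVN', -⟩ := maximal_facts hV hVc hN hab
  by_cases hNt : N = ⊤
  · subst hNt
    rw [inf_top_eq] at hUN' hVN'
    exact ⟨1, by rw [map_one, one_smul, hUN', hVN']⟩
  have : Nontrivial (G ⧸ N) := QuotientGroup.nontrivial_iff.mpr hNt
  obtain ⟨L', hL'⟩ := exists_minNormal (G := G ⧸ N)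
  have := hL'.normal
  obtain ⟨r, k, hr, hk0, hk, -⟩ := hL'.card_eq_pow
  set L := L'.comap (QuotientGroup.mk' N)
  have hNL : N ≤ L := QuotientGroup.le_comap_mk' N L'
  have hLcard : r ^ k * Nat.card N = Nat.card L := by rw [← hk]; exact card_comap_mk' N L'
  obtain ⟨a, ha⟩ := IsPGroup.iff_card.mp hNp
  have hrp : r ≠ p := by
    rintro rfl
    have hLp : IsPGroup r L := IsPGroup.of_card (n := k + a) (by rw [← hLcard, ha, pow_add])
    have hne : N.subgroupOf L ≠ ⊥ := fun e =>
      hN.ne_bot (disjoint_self.mp ((Subgroup.subgroupOf_eq_bot.mp e).mono_right hNL))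
    have hz := Cfsg.Agent.PGroupsBasic.inf_center_ne_bot hLp hne
    have hne2 : N ⊓ Subgroup.centralizer (L : Set G) ≠ ⊥ := by
      intro e
      refine hz ((Subgroup.eq_bot_iff_forall _).mpr fun x hx => Subtype.ext ?_)
      have hm : (x : G) ∈ N ⊓ Subgroup.centralizer (L : Set G) :=
        ⟨hx.1, fun y hy => congrArg Subtype.val (Subgroup.mem_center_iff.mp hx.2 ⟨y, hy⟩)⟩
      rw [e, Subgroup.mem_bot] at hm
      exact hm
    have hle : L ≤ Subgroup.centralizer (N : Set G) := by
      rw [Subgroup.le_centralizer_iff]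
      exact inf_eq_left.mp (hN.eq_of_le inf_le_left hne2)
    rw [hCN] at hle
    apply hL'.ne_bot
    rw [← Subgroup.map_comap_eq_self_of_surjective (QuotientGroup.mk'_surjective N) L']
    exact map_mk'_eq_bot.mpr hle
  have key : ∀ W : Subgroup G, IsCoatom W → W.normalCore = ⊥ → W ⊔ N = ⊤ → W ⊓ N = ⊥ →
      (L ⊓ W) ⊔ N = L ∧ (Nat.card N).Coprime (Nat.card ↥(L ⊓ W)) ∧
        Subgroup.normalizer ((L ⊓ W : Subgroup G) : Set G) = W := by
    intro W hW hWc hs hd
    have h1 : (L ⊓ W) ⊔ N = L := by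
      refine le_antisymm (sup_le inf_le_left hNL) fun x hx => ?_
      obtain ⟨w, hw, n, hn, rfl⟩ := Subgroup.mem_sup_of_normal_right.mp (hs.ge (Subgroup.mem_top x))
      refine Subgroup.mul_mem_sup ⟨?_, hw⟩ hn
      simpa using L.mul_mem hx (L.inv_mem (hNL hn))
    have h2 : Nat.card ↥(L ⊓ W) = r ^ k := by
      have h3 := card_mul_relIndex (le_sup_right : N ≤ (L ⊓ W) ⊔ N)
      rw [Subgroup.relIndex_sup_right, ← Subgroup.inf_relIndex_right,
        show N ⊓ (L ⊓ W) = ⊥ from le_bot_iff.mp (hd ▸ le_inf (inf_le_right.trans inf_le_right)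
          inf_le_left), Subgroup.relIndex_bot_left, h1, ← hLcard] at h3
      exact Nat.eq_of_mul_eq_mul_left (Nat.card_pos (α := N)) (by rw [h3, mul_comm])
    refine ⟨h1, ?_, ?_⟩
    · rw [h2, ha]; exact ((Nat.coprime_primes hp hr).mpr (Ne.symm hrp)).pow _ _
    · have hle : W ≤ Subgroup.normalizer ((L ⊓ W : Subgroup G) : Set G) :=
        (le_inf Subgroup.le_normalizer_of_normal Subgroup.le_normalizer).trans
          (Subgroup.inf_normalizer_le_normalizer_inf)
      by_contra hne
      have htop := hW.2 _ (lt_of_le_of_ne hle (Ne.symm hne))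
      have : (L ⊓ W).Normal := Subgroup.normalizer_eq_top_iff.mp htop
      have hb : L ⊓ W = ⊥ := le_bot_iff.mp (hWc ▸ Subgroup.normal_le_normalCore.mpr inf_le_right)
      rw [hb, Subgroup.card_bot] at h2
      exact absurd h2.symm (Nat.one_lt_pow hk0.ne' hr.one_lt).ne'
  obtain ⟨a1, a2, a3⟩ := key U hU hUc hUN hUN'
  obtain ⟨b1, b2, b3⟩ := key V hV hVc hVN hVN'
  obtain ⟨n, -, hn⟩ := conj_of_sup_eq a2 b2 (a1.trans b1.symm)
  refine ⟨n, ?_⟩
  rw [← a3, ← b3, ← Cfsg.Agent.HallCarter.normalizer_conj_smul, hn]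

end Cfsg.Agent.S0551
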