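import Mathlib
import Cfsg.Agent.Lib.ComponentsFitting
import Cfsg.Statements.S0552

set_option autoImplicit false
set_option linter.unusedVariables false
set_option linter.unusedSectionVars false
open Cfsg

namespace Cfsg.Agent.S0552



theorem result {G : Type*} [Group G] [Finite G] [Group.IsSolvable G] (σ : G ≃* G) (hσ : ∀ x ∈ Cfsg.fittingSubgroup G, σ x = x) (hne : σ ≠ MulEquiv.refl G) : ¬ (orderOf σ).Coprime (Nat.card G) := by
  have hF : Subgroup.centralizer (Cfsg.fittingSubgroup G : Set G) ≤ Cfsg.fittingSubgroup G :=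
    Cfsg.Agent.ComponentsFitting.centralizer_fitting_le_of_solvable
  intro hcop
  apply hne
  ext x
  set c := x⁻¹ * σ x with hc
  have hn : (Cfsg.fittingSubgroup G).Normal := Subgroup.sSup_normal _ (fun _ h => h.1)
  have hcF : c ∈ Cfsg.fittingSubgroup G := by
    refine hF (Subgroup.mem_centralizer_iff.mpr fun f hf => ?_)
    have h1 := hσ _ (hn.conj_mem f hf x)
    rw [map_mul, map_mul, map_inv, hσ f hf] at h1
    have h2 : σ x * f = x * f * x⁻¹ * σ x := by rw [← h1]; group
    calc f * c = x⁻¹ * (x * f * x⁻¹ * σ x) := by rw [hc]; group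
      _ = c * f := by rw [← h2, hc, mul_assoc]
  have hx : σ x = x * c := by rw [hc, mul_inv_cancel_left]
  have hiter : ∀ k : ℕ, (σ : MulAut G) ^ k • x = x * c ^ k := by
    intro k
    induction k with
    | zero => simp
    | succ k ih =>
      rw [pow_succ', mul_smul, ih]
      show σ (x * c ^ k) = _
      rw [map_mul, map_pow, hσ c hcF, hx, mul_assoc, ← pow_succ']
  have h1 := hiter (orderOf σ)
  rw [pow_orderOf_eq_one σ, one_smul, left_eq_mul] at h1
  have hc1 : c = 1 := orderOf_eq_one_iff.mp (Nat.eq_one_of_dvd_coprimes hcop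
    (orderOf_dvd_of_pow_eq_one h1) (orderOf_dvd_natCard c))
  simp [hx, hc1]

end Cfsg.Agent.S0552
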