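import Mathlib
import Cfsg.Agent.Lib.HallSolvable
import Cfsg.Agent.Lib.PGroupsBasic
import Cfsg.Statements.S0553

set_option autoImplicit false
set_option linter.unusedVariables false
set_option linter.unusedSectionVars false
open Cfsg

namespace Cfsg.Agent.S0553

universe u

open Subgroup

theorem aux : ∀ (n : ℕ) (G : Type u) [Group G] [Finite G] [Group.IsSolvable G] [Nontrivial G],
    Nat.card G = n → (∀ M : Subgroup G, IsCoatom M → (Nat.card M).Coprime M.index) →
    ∃ p : ℕ, p.Prime ∧ p ∣ Nat.card G ∧ ∀ P : Sylow p G, (P : Subgroup G).Normal := by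
  intro n
  induction n using Nat.strong_induction_on with
  | _ n ih =>
    intro G _ _ _ _ hn h
    obtain ⟨N, hN⟩ := Cfsg.Agent.HallSolvable.exists_minNormal (G := G)
    have hNn : N.Normal := hN.normal
    obtain ⟨p, k, hp, hk, hcard, helem⟩ := hN.card_eq_pow
    haveI : Fact p.Prime := ⟨hp⟩
    have hNp : IsPGroup p N := IsPGroup.of_card hcard
    have hpd : p ∣ Nat.card G := (dvd_pow_self p hk.ne').trans (hcard ▸ N.card_subgroup_dvd_card)
    by_cases hsome : ∀ M : Subgroup G, IsCoatom M → N ≤ M
    · have hNF : N ≤ frattini G := le_iInf₂ hsome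
      obtain ⟨M0, hM0, -⟩ := (IsCoatomic.eq_top_or_exists_le_coatom (⊥ : Subgroup G)).resolve_left bot_ne_top
      have hntop : N ≠ ⊤ := fun e => hM0.1 (top_le_iff.mp (e ▸ hsome M0 hM0))
      have : Nontrivial (G ⧸ N) := (QuotientGroup.nontrivial_iff (N := N)).mpr hntop
      have hlt : Nat.card (G ⧸ N) < n := hn ▸ Cfsg.Agent.HallSolvable.card_quotient_lt hN.ne_bot
      obtain ⟨q, hq, hqd, hall⟩ := ih _ hlt (G ⧸ N) rfl (fun M hM => by
        have hsur := QuotientGroup.mk'_surjective N
        have hc : IsCoatom (M.comap (QuotientGroup.mk' N)) :=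
          ⟨fun e => hM.1 (by rw [← map_comap_eq_self_of_surjective hsur M, e, map_top_of_surjective _ hsur]),
           fun K hK => by
            have hker : (QuotientGroup.mk' N).ker ≤ K := le_trans (ker_le_comap _ _) hK.le
            rw [← comap_map_eq_self hker] at hK ⊢
            rw [hM.2 _ ((comap_lt_comap_of_surjective hsur).mp hK), comap_top]⟩
        have := h _ hc
        rw [index_comap_of_surjective M hsur] at this
        exact this.coprime_dvd_left ⟨Nat.card N, (Cfsg.Agent.HallCore.card_comap_mk' N M).symm⟩)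
      haveI : Fact q.Prime := ⟨hq⟩
      refine ⟨q, hq, hqd.trans (Subgroup.card_quotient_dvd_card N), fun P => ?_⟩
      have hPN : ((P : Subgroup G) ⊔ N).Normal := by
        have := hall (P.mapSurjective (QuotientGroup.mk'_surjective N))
        rw [← Cfsg.Agent.HallSolvable.comap_mk'_map]
        exact this.comap _
      have hfr := Sylow.normalizer_sup_eq_top' P (N := (P : Subgroup G) ⊔ N) le_sup_left
      replace hfr : normalizer ((P : Subgroup G) : Set G) ⊔ ((P : Subgroup G) ⊔ N) = ⊤ := hfr
      rw [← sup_assoc, sup_eq_left.mpr (le_normalizer (H := (P : Subgroup G)))] at hfr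
      by_contra hnn
      obtain ⟨M, hM, hle⟩ := (IsCoatomic.eq_top_or_exists_le_coatom
        (normalizer ((P : Subgroup G) : Set G))).resolve_left (fun e => hnn (normalizer_eq_top_iff.mp e))
      exact hM.1 (top_le_iff.mp (hfr ▸ sup_le hle (hsome M hM)))
    · push Not at hsome
      obtain ⟨M, hM, hnle⟩ := hsome
      refine ⟨p, hp, hpd, fun P => ?_⟩
      have htop : N ⊔ M = ⊤ := hM.2 _ (lt_of_le_of_ne le_sup_right (fun e => hnle (e ▸ le_sup_left)))
      have hcompl : N ⊓ M = ⊥ := by
        have hnorm : (N ⊓ M).Normal := by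
          rw [← normalizer_eq_top_iff, eq_top_iff, ← htop]
          refine sup_le (fun a ha => ?_) (fun m hm => ?_) <;> rw [mem_normalizer_iff] <;> intro x
          · have hcc : ∀ y ∈ N, a * y * a⁻¹ = y := fun y hy => by
              rw [PGroupsBasic.comm_of_isMulCommutative helem.1 ha hy, mul_inv_cancel_right]
            constructor <;> intro hx
            · rwa [hcc x hx.1]
            · have hxN : x ∈ N := by simpa [mul_assoc] using mul_mem (mul_mem (inv_mem ha) hx.1) ha
              rwa [hcc x hxN] at hx
          · exact and_congr (mem_normalizer_iff.mp (normalizer_eq_top (H := N) ▸ mem_top m) x)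
              (mem_normalizer_iff.mp (le_normalizer hm) x)
        rcases hN.2.2 _ hnorm inf_le_left with h0 | h0
        · exact h0
        · exact absurd (h0 ▸ inf_le_right) hnle
      have hc : IsComplement' N M := isComplement'_of_disjoint_and_mul_eq_univ (disjoint_iff.mpr hcompl)
        (by rw [← Subgroup.normal_mul, htop, coe_top])
      have hidx : M.index = p ^ k := hc.index_eq_card.trans hcard
      have hcop : (Nat.card M).Coprime (p ^ k) := hidx ▸ h M hM
      have hNP : N ≤ (P : Subgroup G) := hNp.le_sylow_of_normal P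
      have heq : (P : Subgroup G) = N := by
        refine (eq_of_le_of_card_ge hNP ?_).symm
        obtain ⟨e, he⟩ := IsPGroup.iff_card.mp P.2
        have h1 : p ^ e ∣ Nat.card M * p ^ k := by
          rw [← he, ← hidx, M.card_mul_index]; exact card_subgroup_dvd_card _
        rw [he, hcard]
        exact Nat.le_of_dvd (pow_pos hp.pos k)
          ((((Nat.coprime_pow_right_iff hk _ _).mp hcop).symm.pow_left e).dvd_of_dvd_mul_left h1)
      rw [heq]; exact hNn

theorem result {G : Type*} [Group G] [Finite G] [Group.IsSolvable G] [Nontrivial G] (h : ∀ M : Subgroup G, IsCoatom M → (Nat.card M).Coprime M.index) : ∃ p : ℕ, p.Prime ∧ p ∣ Nat.card G ∧ ∀ P : Sylow p G, (P : Subgroup G).Normal := by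
  exact aux _ G rfl h

end Cfsg.Agent.S0553
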