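import Mathlib
import Cfsg.Statements.S0555

set_option autoImplicit false
set_option linter.unusedVariables false
set_option linter.unusedSectionVars false
open Cfsg
open scoped commutatorElement

namespace Cfsg.Agent.S0555

theorem commutator_le_centralizer_cyclic {G : Type*} [Group G] (C : Subgroup G) [C.Normal]
    (hC : IsCyclic C) : commutator G ≤ Subgroup.centralizer (C : Set G) := by
  rw [commutator_def, Subgroup.commutator_le]
  intro g _ h _
  rw [Subgroup.mem_centralizer_iff]
  intro c hc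
  have hcomm : ∀ φ ψ : MulAut C, φ * ψ = ψ * φ := by
    let e := IsCyclic.mulAutMulEquiv C
    intro φ ψ
    exact e.injective (by rw [map_mul, map_mul]; exact mul_comm _ _)
  have h1 : MulAut.conjNormal (H := C) ⁅g, h⁆ = 1 := by
    rw [map_commutatorElement, commutatorElement_eq_one_iff_mul_comm]
    exact hcomm _ _
  have h2 := congrArg Subtype.val (DFunLike.congr_fun h1 ⟨c, hc⟩)
  rw [MulAut.conjNormal_apply] at h2
  simp only [MulAut.one_apply] at h2
  calc c * ⁅g, h⁆ = ⁅g, h⁆ * c * ⁅g, h⁆⁻¹ * ⁅g, h⁆ := by rw [h2]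
    _ = ⁅g, h⁆ * c := by group

theorem result {G : Type*} [Group G] (i : ℕ) (hi : 1 ≤ i) (h₁ : IsCyclic (↥(derivedSeries G i) ⧸ (derivedSeries G (i + 1)).subgroupOf (derivedSeries G i))) (h₂ : IsCyclic (↥(derivedSeries G (i + 1)) ⧸ (derivedSeries G (i + 2)).subgroupOf (derivedSeries G (i + 1)))) : derivedSeries G (i + 1) = derivedSeries G (i + 2) := by
  refine le_antisymm ?_ (derivedSeries_antitone G (Nat.le_succ _))
  set X := derivedSeries G i
  set Y := derivedSeries G (i + 1) with hY
  set Z := derivedSeries G (i + 2) with hZ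
  let π := QuotientGroup.mk' Z
  let C := Y.map π
  have hCn : C.Normal := (derivedSeries_normal G (i + 1)).map π (QuotientGroup.mk'_surjective Z)
  have hYX : Y ≤ X := derivedSeries_antitone G (Nat.le_succ i)
  have hCc : IsCyclic C := by
    let f : (↥Y ⧸ Z.subgroupOf Y) →* ↥C := QuotientGroup.lift _ (π.subgroupMap Y) (fun y hy => by
      rw [MonoidHom.mem_ker]
      exact Subtype.ext ((QuotientGroup.eq_one_iff _).mpr hy))
    refine isCyclic_of_surjective f fun c => ?_
    obtain ⟨y, hy⟩ := π.subgroupMap_surjective Y c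
    exact ⟨y, hy⟩
  have hXc : ∀ x ∈ X, ∀ y ∈ Y, Commute (π x) (π y) := by
    intro x hx y hy
    have hx' : π x ∈ commutator (G ⧸ Z) := by
      have h1 : x ∈ commutator G := derivedSeries_one G ▸ derivedSeries_antitone G hi hx
      have h2 : (commutator G).map π ≤ commutator (G ⧸ Z) := by
        rw [commutator_def, Subgroup.map_commutator]
        exact Subgroup.commutator_mono le_top le_top
      exact h2 ⟨x, h1, rfl⟩
    exact (Subgroup.mem_centralizer_iff.mp (commutator_le_centralizer_cyclic C hCc hx') (π y) ⟨y, hy, rfl⟩).symm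
  obtain ⟨g, hg⟩ := h₁.exists_zpow_surjective
  obtain ⟨g, rfl⟩ := QuotientGroup.mk_surjective g
  have hdec : ∀ x ∈ X, ∃ (k : ℤ) (y : G), y ∈ Y ∧ x = (g : G) ^ k * y := by
    intro x hx
    obtain ⟨k, hk⟩ := hg (QuotientGroup.mk ⟨x, hx⟩)
    simp only [← QuotientGroup.mk_zpow] at hk
    rw [QuotientGroup.eq] at hk
    refine ⟨k, ((g : G) ^ k)⁻¹ * x, hk, by group⟩
  show ⁅X, X⁆ ≤ Z
  rw [Subgroup.commutator_le]
  intro x hx x' hx'
  obtain ⟨k, y, hy, rfl⟩ := hdec x hx
  obtain ⟨l, y', hy', rfl⟩ := hdec x' hx'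
  rw [← QuotientGroup.eq_one_iff]
  show π _ = 1
  rw [map_commutatorElement, commutatorElement_eq_one_iff_mul_comm, map_mul, map_mul]
  have e1 : Commute (π ((g : G) ^ k)) (π ((g : G) ^ l)) := by
    rw [map_zpow, map_zpow]; exact Commute.zpow_zpow_self (π g) k l
  have e2 : Commute (π ((g : G) ^ k)) (π y') := hXc _ (zpow_mem g.2 k) y' hy'
  have e3 : Commute (π y) (π ((g : G) ^ l)) := (hXc _ (zpow_mem g.2 l) y hy).symm
  have e4 : Commute (π y) (π y') := hXc y (hYX hy) y' hy'
  exact Commute.mul_left (e1.mul_right e2) (e3.mul_right e4)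

end Cfsg.Agent.S0555
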