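import Mathlib
import Cfsg.Statements.S0557

set_option autoImplicit false
set_option linter.unusedVariables false
set_option linter.unusedSectionVars false
open Cfsg
open scoped commutatorElement IsMulCommutative

namespace Cfsg.Agent.S0557

universe u

open Subgroup

theorem normal_of_hall {G : Type u} [Group G] [Finite G] (G1 : Subgroup G) [G1.Normal] (N : Subgroup G1)
    [N.Normal] (hcop : (Nat.card N).Coprime N.index) : (N.map G1.subtype).Normal := by
  have hN : ∀ φ : MulAut G1, N.map φ.toMonoidHom ≤ N := by
    intro φ y hy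
    obtain ⟨x, hx, rfl⟩ := hy
    rw [← QuotientGroup.eq_one_iff, ← orderOf_eq_one_iff]
    refine Nat.eq_one_of_dvd_coprimes hcop ?_ ?_
    · exact ((orderOf_map_dvd (QuotientGroup.mk' N) _).trans
        (dvd_of_eq (MulEquiv.orderOf_eq φ x))).trans (Subgroup.orderOf_dvd_natCard N hx)
    · exact orderOf_dvd_natCard _
  constructor
  rintro _ ⟨x, hx, rfl⟩ g
  exact ⟨MulAut.conjNormal g x, hN (MulAut.conjNormal g) ⟨x, hx, rfl⟩, MulAut.conjNormal_apply g x⟩

theorem focal_map_le {G : Type u} [Group G] {G1 : Subgroup G} (K : Subgroup G1) :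
    K.focalSubgroup.map G1.subtype ≤ (K.map G1.subtype).focalSubgroup := by
  rw [focalSubgroup_def, focalSubgroup_def, MonoidHom.map_closure]
  refine closure_mono ?_
  rintro _ ⟨g, ⟨hg, x, hx, u, rfl⟩, rfl⟩
  exact ⟨⟨_, hg, rfl⟩, x, ⟨x, hx, rfl⟩, u, by simp [commutatorElement_def]⟩

theorem focal_mono {G : Type u} [Group G] {A B : Subgroup G} (h : A ≤ B) :
    A.focalSubgroup ≤ B.focalSubgroup := by
  rw [focalSubgroup_def, focalSubgroup_def]
  refine closure_mono ?_
  rintro g ⟨hg, x, hx, u, rfl⟩
  exact ⟨h hg, x, h hx, u, rfl⟩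

theorem aux : ∀ (n : ℕ) (G : Type u) [Group G] [Finite G] (H : Subgroup G),
    (Nat.card H).Coprime H.index → (fun K : Subgroup G => Subgroup.focalSubgroup K)^[n] H = ⊥ →
    ∃ N : Subgroup G, N.Normal ∧ Subgroup.IsComplement' N H := by
  intro n
  induction n with
  | zero =>
    intro G _ _ H _ h
    simp only [Function.iterate_zero, id_eq] at h
    subst h
    exact ⟨⊤, inferInstance, isComplement'_top_bot⟩
  | succ n ih =>
    intro G _ _ H hHall hfoc
    rw [Function.iterate_succ_apply] at hfoc
    set G1 := H.transferFocal.ker with hG1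
    have hbij : Function.Bijective fun y : (H ⧸ H.focalSubgroupOf) => y ^ H.index := by
      have hc : (Nat.card (H ⧸ H.focalSubgroupOf)).Coprime H.index :=
        hHall.coprime_dvd_left H.focalSubgroupOf.card_quotient_dvd_card
      exact (powCoprime hc).bijective
    have hinf : G1 ⊓ H = H.focalSubgroup := by
      ext x
      constructor
      · rintro ⟨hx, hxH⟩
        have h1 : H.transferFocal ((⟨x, hxH⟩ : H) : G) = 1 := hx
        rw [transferFocal_eq_pow] at h1
        have h2 := (QuotientGroup.eq_one_iff _).mp (hbij.1 (h1.trans (one_pow _).symm))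
        exact h2
      · intro hx
        have hxH := focalSubgroup_le H hx
        refine ⟨?_, hxH⟩
        show H.transferFocal ((⟨x, hxH⟩ : H) : G) = 1
        rw [transferFocal_eq_pow, (QuotientGroup.eq_one_iff _).mpr (show (⟨x, hxH⟩ : H) ∈ H.focalSubgroupOf from hx), one_pow]
    have hsup : G1 ⊔ H = ⊤ := by
      rw [eq_top_iff]
      intro g _
      obtain ⟨y, hy⟩ := hbij.2 (H.transferFocal g)
      obtain ⟨h, rfl⟩ := QuotientGroup.mk_surjective y
      have hk : g * (h : G)⁻¹ ∈ G1 := by
        rw [hG1, MonoidHom.mem_ker, map_mul, map_inv, transferFocal_eq_pow, mul_inv_eq_one]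
        exact hy.symm
      simpa using mul_mem (mem_sup_left hk : _ ∈ G1 ⊔ H) (mem_sup_right h.2)
    set H1 := H.focalSubgroup.subgroupOf G1
    have hFG : H.focalSubgroup ≤ G1 := hinf ▸ inf_le_left
    have hH1c : Nat.card H1 = Nat.card H.focalSubgroup :=
      Nat.card_congr (subgroupOfEquivOfLe hFG).toEquiv
    have hindex : H1.index = H.index := by
      have h1 : H.focalSubgroup.relIndex G1 = H.relIndex G1 := by
        rw [← hinf, inf_comm, inf_relIndex_right]
      calc H1.index = H.relIndex G1 := h1
        _ = H.index := by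
          rw [← relIndex_top_right, ← hsup]
          have e1 := relIndex_mul_relIndex (G1 ⊓ H) G1 (G1 ⊔ H) inf_le_left le_sup_left
          have e2 := relIndex_mul_relIndex (G1 ⊓ H) H (G1 ⊔ H) inf_le_right le_sup_right
          rw [inf_relIndex_right] at e2
          rw [inf_comm G1 H, inf_relIndex_right H G1] at e1
          rw [relIndex_sup_left] at e1
          rw [inf_comm G1 H] at e2
          have hpos : G1.relIndex H ≠ 0 := by rw [relIndex]; exact index_ne_zero_of_finite
          refine Nat.eq_of_mul_eq_mul_left (Nat.pos_of_ne_zero hpos) ?_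
          rw [mul_comm, e1, ← e2]
    have hHall1 : (Nat.card H1).Coprime H1.index := by
      rw [hH1c, hindex]
      exact hHall.coprime_dvd_left (card_dvd_of_le (focalSubgroup_le H))
    have hfoc1 : (fun K : Subgroup G1 => Subgroup.focalSubgroup K)^[n] H1 = ⊥ := by
      have key : ∀ m, ((fun K : Subgroup G1 => Subgroup.focalSubgroup K)^[m] H1).map G1.subtype ≤
          (fun K : Subgroup G => Subgroup.focalSubgroup K)^[m] H.focalSubgroup := by
        intro m
        induction m with
        | zero => simp [H1]
        | succ m ihm =>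
          rw [Function.iterate_succ_apply', Function.iterate_succ_apply']
          exact (focal_map_le _).trans (focal_mono ihm)
      rw [← map_eq_bot_iff_of_injective _ G1.subtype_injective]
      exact le_bot_iff.mp (hfoc ▸ key n)
    obtain ⟨N, hN, hNc⟩ := ih G1 H1 hHall1 hfoc1
    have hNcard : Nat.card N = H.index := hNc.index_eq_card.symm.trans hindex
    have hcop : (Nat.card N).Coprime N.index := by
      rw [hNcard, hNc.symm.index_eq_card, hH1c]
      exact (hHall.coprime_dvd_left (card_dvd_of_le (focalSubgroup_le H))).symm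
    refine ⟨N.map G1.subtype, normal_of_hall G1 N hcop, ?_⟩
    refine isComplement'_of_coprime ?_ ?_
    · rw [card_map_of_injective G1.subtype_injective, hNcard, mul_comm, H.card_mul_index]
    · rw [card_map_of_injective G1.subtype_injective, hNcard]; exact hHall.symm

theorem result {G : Type*} [Group G] [Finite G] (H : Subgroup G) (hHall : (Nat.card H).Coprime H.index) (n : ℕ) (hfoc : (fun K : Subgroup G => Subgroup.focalSubgroup K)^[n] H = ⊥) : ∃ N : Subgroup G, N.Normal ∧ Subgroup.IsComplement' N H := by
  exact aux n G H hHall hfoc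

end Cfsg.Agent.S0557
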