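import Mathlib
import Cfsg.Agent.Lib.HallNilpotentConj
import Cfsg.Statements.S0558

set_option autoImplicit false
set_option linter.unusedVariables false
set_option linter.unusedSectionVars false
open Cfsg

namespace Cfsg.Agent.S0558

open Subgroup
open Pointwise

theorem pow_factor_dvd {n d : ℕ} (hn : n ≠ 0) (hd : d ≠ 0)
    (h : ∀ p : ℕ, p.Prime → p ∣ n → p ^ n.factorization p ∣ d) : n ∣ d := by
  rw [← Nat.factorization_le_iff_dvd hn hd]
  intro p
  by_cases hp : p.Prime ∧ p ∣ n
  · exact (hp.1.pow_dvd_iff_le_factorization hd).mp (h p hp.1 hp.2)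
  · rw [Nat.factorization_eq_zero_iff n p |>.mpr (by tauto)]
    exact Nat.zero_le _

theorem result {G : Type*} [Group G] [Finite G] (H : Subgroup G) (hnot : ∀ p : ℕ, p.Prime → ∀ P : Sylow p G, (P : Subgroup G) ≠ H) (hnorm : ∀ p : ℕ, p.Prime → p ∣ Nat.card H → ∀ P : Sylow p H, Subgroup.normalizer (((P : Subgroup H).map H.subtype : Subgroup G) : Set G) = H) : ∃ N : Subgroup G, N.Normal ∧ Subgroup.IsComplement' N H := by
  -- the Sylow subgroups of `H` are normal in `H` and are Sylow subgroups of `G`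
  have hnorm' : ∀ p : ℕ, p.Prime → p ∣ Nat.card H → ∀ P : Sylow p H,
      normalizer (((P : Subgroup H).map H.subtype : Subgroup G) : Set G) = H := hnorm
  have hsyl : ∀ p : ℕ, p.Prime → p ∣ Nat.card H → ∀ P : Sylow p H,
      ∀ R : Sylow p G, (P : Subgroup H).map H.subtype ≤ R →
        (R : Subgroup G) = (P : Subgroup H).map H.subtype := by
    intro p hp hpd P R hPR
    haveI : Fact p.Prime := ⟨hp⟩
    set A := (P : Subgroup H).map H.subtype with hA
    by_contra hne
    have hlt : A.subgroupOf (R : Subgroup G) < ⊤ := lt_top_iff_ne_top.mpr fun e =>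
      hne (le_antisymm (subgroupOf_eq_top.mp e) hPR)
    have hnc := normalizerCondition_of_isNilpotent (h := R.2.isNilpotent) _ hlt
    obtain ⟨⟨x, hxR⟩, hx, hxn⟩ := SetLike.exists_of_lt hnc
    apply hxn
    rw [← subgroupOf_normalizer_eq hPR] at hx
    have hxH : x ∈ H := hnorm' p hp hpd P ▸ (hx : x ∈ normalizer (A : Set G))
    have hle : (P : Subgroup H) ≤ (R : Subgroup G).subgroupOf H := map_le_iff_le_comap.mp hPR
    have heq := P.3 (R.2.comap_of_injective H.subtype H.subtype_injective) hle
    have hxP : (⟨x, hxH⟩ : H) ∈ (P : Subgroup H) := by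
      rw [← heq]; exact hxR
    exact ⟨⟨x, hxH⟩, hxP, rfl⟩
  have hnil : Group.IsNilpotent H := by
    refine ((Group.isNilpotent_of_finite_tfae (G := H)).out 0 3).mpr ?_
    intro p hpf P
    by_cases hpd : p ∣ Nat.card H
    · rw [← normalizer_eq_top_iff, eq_top_iff]
      intro x _
      rw [mem_normalizer_iff]
      intro y
      have hx : (x : G) ∈ normalizer (((P : Subgroup H).map H.subtype : Subgroup G) : Set G) := by
        rw [hnorm' p hpf.out hpd P]; exact x.2
      have := mem_normalizer_iff.mp hx (y : G)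
      constructor
      · intro hy
        obtain ⟨z, hz, e⟩ := this.mp ⟨y, hy, rfl⟩
        rwa [show x * y * x⁻¹ = z from Subtype.ext e.symm]
      · intro hy
        obtain ⟨z, hz, e⟩ := this.mpr ⟨_, hy, rfl⟩
        rwa [show y = z from Subtype.ext e.symm]
    · have : (P : Subgroup H) = ⊥ := by
        rw [eq_bot_iff_card]
        obtain ⟨k, hk⟩ := IsPGroup.iff_card.mp P.2
        rcases k with _ | k
        · simpa using hk
        · exact absurd ((dvd_pow_self p k.succ_ne_zero).trans (hk ▸ card_subgroup_dvd_card _)) hpd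
      rw [this]; infer_instance
  have hHall : (Nat.card H).Coprime H.index := by
    refine Nat.coprime_of_dvd fun p hp h1 h2 => ?_
    haveI : Fact p.Prime := ⟨hp⟩
    obtain ⟨P⟩ := (inferInstance : Nonempty (Sylow p H))
    obtain ⟨R, hR⟩ := (P.2.map H.subtype).exists_le_sylow
    have := hsyl p hp h1 P R hR
    have hle : (R : Subgroup G) ≤ H := this ▸ map_subtype_le _
    exact R.not_dvd_index (h2.trans (index_dvd_of_le hle))
  -- two primes at least divide the order of `H`
  have htwo : ∀ p : ℕ, p.Prime → p ∣ Nat.card H → ∃ q : ℕ, q.Prime ∧ q ∣ Nat.card H ∧ q ≠ p := by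
    intro p hp hpd
    by_contra hc
    push Not at hc
    haveI : Fact p.Prime := ⟨hp⟩
    have hHp : IsPGroup p H := IsPGroup.of_card (n := (Nat.card H).primeFactorsList.length)
      (Nat.eq_prime_pow_of_unique_prime_dvd Nat.card_pos.ne' fun {q} hq hqd => hc q hq hqd)
    obtain ⟨R, hR⟩ := hHp.exists_le_sylow
    obtain ⟨P⟩ := (inferInstance : Nonempty (Sylow p H))
    have h1 := hsyl p hp hpd P R ((map_subtype_le _).trans hR)
    exact hnot p hp R (le_antisymm (h1 ▸ map_subtype_le _) hR)
  have := hnil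
  refine HallNilpotentConj.exists_complement_of_control hHall ?_
  rintro x hx y hy ⟨g, rfl⟩
  have key : ∀ s : Finset ℕ, (∀ p ∈ s, p.Prime) → ∃ h ∈ H, ∀ p ∈ s, ∀ z ∈ zpowers x,
      (∃ k, orderOf z = p ^ k) → h * z * h⁻¹ = g * z * g⁻¹ := by
    intro s
    induction s using Finset.induction with
    | empty => exact fun _ => ⟨1, one_mem H, by simp⟩
    | @insert p s hps ih =>
      intro hprime
      obtain ⟨h, hh, hagree⟩ := ih fun r hr => hprime r (Finset.mem_insert_of_mem hr)
      have hp := hprime p (Finset.mem_insert_self p s)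
      by_cases hpd : p ∣ Nat.card H
      swap
      · refine ⟨h, hh, fun r hr z hz => ?_⟩
        rcases Finset.mem_insert.mp hr with hr' | hr
        · subst r
          rintro ⟨k, hk⟩
          rcases k with _ | k
          · simp only [pow_zero, orderOf_eq_one_iff] at hk; simp [hk]
          · exact absurd ((dvd_pow_self _ k.succ_ne_zero).trans
              (hk ▸ Subgroup.orderOf_dvd_natCard H ((zpowers_le.mpr hx) hz))) hpd
        · exact hagree r hr z hz
      obtain ⟨q, hq, hqd, hqp⟩ := htwo p hp hpd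
      haveI : Fact p.Prime := ⟨hp⟩
      haveI : Fact q.Prime := ⟨hq⟩
      have hcomm : ∀ {u v : G}, u ∈ H → v ∈ H → (orderOf u).Coprime (orderOf v) → u * v = v * u := by
        intro u v hu hv huv
        have := HallNilpotentConj.commute_of_coprime_orderOf H ⟨u, hu⟩ ⟨v, hv⟩
          (by rwa [Subgroup.orderOf_mk, Subgroup.orderOf_mk])
        exact congrArg Subtype.val this.eq
      -- the elements of `p`-power order in `zpowers x`
      set xp := x ^ (orderOf x / p ^ (orderOf x).factorization p) with hxp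
      have hxpH : xp ∈ H := pow_mem hx _
      have hpd' : p ^ (orderOf x).factorization p ∣ orderOf x := Nat.ordProj_dvd _ _
      have hopos : orderOf x ≠ 0 := (orderOf_pos x).ne'
      have hoxp : orderOf xp = p ^ (orderOf x).factorization p := by
        rw [hxp, orderOf_pow, Nat.gcd_eq_right (Nat.div_dvd_of_dvd hpd'), Nat.div_div_self hpd' hopos]
      obtain ⟨Q⟩ := (inferInstance : Nonempty (Sylow q H))
      obtain ⟨R, hR⟩ := (Q.2.map H.subtype).exists_le_sylow
      have hRQ := hsyl q hq hqd Q R hR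
      have hRH : (R : Subgroup G) ≤ H := hRQ ▸ map_subtype_le _
      set z0 := g * xp * g⁻¹ with hz0
      have hz0H : z0 ∈ H := by
        rw [hz0, hxp, ← conj_pow]; exact pow_mem hy _
      have hR1 : ∀ w ∈ H, orderOf w = p ^ (orderOf x).factorization p →
          (R : Subgroup G) ≤ centralizer ({w} : Set G) := by
        intro w hw how r hr
        rw [mem_centralizer_singleton_iff]
        obtain ⟨j, hj⟩ := IsPGroup.iff_orderOf.mp R.2 ⟨r, hr⟩
        rw [Subgroup.orderOf_mk] at hj
        exact (hcomm hw (hRH hr) (by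
          rw [how, hj]; exact (((Nat.coprime_primes hp hq).mpr hqp.symm).pow_left _).pow_right _)).symm
      have hc1 := hR1 xp hxpH hoxp
      have hc2 : MulAut.conj g⁻¹ • (R : Subgroup G) ≤ centralizer ({xp} : Set G) := by
        rintro _ ⟨r, hr, rfl⟩
        have h2 := mem_centralizer_singleton_iff.mp
          (hR1 z0 hz0H (by rw [hz0, ← MulAut.conj_apply, MulEquiv.orderOf_eq, hoxp]) hr)
        show MulAut.conj g⁻¹ r ∈ _
        rw [mem_centralizer_singleton_iff, MulAut.conj_apply, inv_inv]
        calc g⁻¹ * r * g * xp = g⁻¹ * (r * z0) * g := by rw [hz0]; group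
          _ = g⁻¹ * (z0 * r) * g := by rw [h2]
          _ = xp * (g⁻¹ * r * g) := by rw [hz0]; group
      obtain ⟨c, hc⟩ := MulAction.exists_smul_eq (centralizer ({xp} : Set G))
        (R.subtype hc1) ((g⁻¹ • R).subtype hc2)
      rw [Sylow.smul_subtype] at hc
      have hc' : (c : G) • R = g⁻¹ • R := Sylow.subtype_injective hc
      have hgc : g * c ∈ H := by
        have h1 : (g * c) • R = R := by rw [mul_smul, hc', smul_inv_smul]
        have h2 := Sylow.smul_eq_iff_mem_normalizer.mp h1
        rw [← hnorm' q hq hqd Q, ← hRQ]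
        exact h2
      have hn : (g * c) * xp * (g * c)⁻¹ = g * xp * g⁻¹ := by
        have := mem_centralizer_singleton_iff.mp c.2
        calc (g * c) * xp * (g * c)⁻¹ = g * ((c : G) * xp) * (c : G)⁻¹ * g⁻¹ := by group
          _ = g * xp * g⁻¹ := by rw [this]; group
      -- split `h` and `g * c` into `p`- and `p'`-parts
      have : Group.IsNilpotent H := hnil
      obtain ⟨A, B, hA, hAB, hBA, hBp, hAc, hHN⟩ := HallNilpotentConj.exists_split H p
      have hAH : A ≤ H := hAB ▸ le_sup_left
      have hBH : B ≤ H := hAB ▸ le_sup_right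
      have hdec : ∀ u ∈ H, ∃ a ∈ A, ∃ b ∈ B, u = a * b := by
        intro u hu
        rw [← hAB] at hu
        have hn' : B ≤ normalizer (A : Set G) := hBH.trans hHN
        have hu2 : u ∈ ((A ⊔ B : Subgroup G) : Set G) := hu
        rw [Subgroup.coe_mul_of_right_le_normalizer_left A B hn'] at hu2
        obtain ⟨a, ha, b, hb, e⟩ := hu2
        exact ⟨a, ha, b, hb, e.symm⟩
      obtain ⟨a1, ha1, b1, hb1, he1⟩ := hdec h hh
      obtain ⟨a2, ha2, b2, hb2, he2⟩ := hdec (g * c) hgc
      refine ⟨a2 * b1, mul_mem (hAH ha2) (hBH hb1), fun r hr z hz hzo => ?_⟩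
      obtain ⟨k, hk⟩ := hzo
      have hzH : z ∈ H := (zpowers_le.mpr hx) hz
      rcases Finset.mem_insert.mp hr with hr' | hr
      · -- a power of `xp`
        subst r
        have hzx : z ∈ zpowers xp := by
          obtain ⟨j, rfl⟩ := mem_zpowers_iff.mp hz
          have h2 : x ^ j ∈ zpowers x := zpow_mem (mem_zpowers x) j
          rw [mem_zpowers_iff]
          have h3 : ((orderOf x / p ^ (orderOf x).factorization p : ℕ) : ℤ) ∣ j := by
            have h4 : (x ^ j) ^ (p ^ k) = 1 := hk ▸ pow_orderOf_eq_one _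
            rw [← zpow_natCast, ← zpow_mul] at h4
            have h5 := orderOf_dvd_iff_zpow_eq_one.mpr h4
            refine Int.dvd_of_dvd_mul_left_of_gcd_one ((Int.natCast_dvd_natCast.mpr (Nat.div_dvd_of_dvd hpd')).trans h5) ?_
            rw [Int.gcd_natCast_natCast]
            exact ((Nat.coprime_ordCompl hp hopos).pow_left k).symm
          obtain ⟨i, rfl⟩ := h3
          exact ⟨i, by rw [hxp, ← zpow_natCast, ← zpow_mul]⟩
        obtain ⟨i, rfl⟩ := mem_zpowers_iff.mp hzx
        rw [← conj_zpow, ← conj_zpow]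
        congr 1
        have hb : ∀ b ∈ B, b * xp * b⁻¹ = xp := fun b hb => by
          rw [hcomm (hBH hb) hxpH (by
            rw [hoxp]
            exact ((hBp.coprime_dvd_left (Subgroup.orderOf_dvd_natCard B hb))).pow_right _),
            mul_inv_cancel_right]
        rw [← hn, he2]
        calc a2 * b1 * xp * (a2 * b1)⁻¹ = a2 * (b1 * xp * b1⁻¹) * a2⁻¹ := by group
          _ = a2 * (b2 * xp * b2⁻¹) * a2⁻¹ := by rw [hb b1 hb1, hb b2 hb2]
          _ = _ := by group
      · rw [← hagree r hr z hz ⟨k, hk⟩, he1]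
        have hrp : r ≠ p := fun e => hps (e ▸ hr)
        have hconj : b1 * z * b1⁻¹ ∈ H := mul_mem (mul_mem (hBH hb1) hzH) (inv_mem (hBH hb1))
        have ha : ∀ a ∈ A, a * (b1 * z * b1⁻¹) * a⁻¹ = b1 * z * b1⁻¹ := fun a ha => by
          obtain ⟨j, hj⟩ := IsPGroup.iff_orderOf.mp hA ⟨a, ha⟩
          rw [Subgroup.orderOf_mk] at hj
          rw [hcomm (hAH ha) hconj (by
            rw [hj, ← MulAut.conj_apply, MulEquiv.orderOf_eq, hk]
            exact (((Nat.coprime_primes hp (hprime r (Finset.mem_insert_of_mem hr))).mpr hrp.symm).pow_left _).pow_right _),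
            mul_inv_cancel_right]
        calc a2 * b1 * z * (a2 * b1)⁻¹ = a2 * (b1 * z * b1⁻¹) * a2⁻¹ := by group
          _ = a1 * (b1 * z * b1⁻¹) * a1⁻¹ := by rw [ha a1 ha1, ha a2 ha2]
          _ = _ := by group
  obtain ⟨h, hh, hagree⟩ := key (orderOf x).primeFactors fun p hp => Nat.prime_of_mem_primeFactors hp
  refine ⟨h, hh, ?_⟩
  let K : Subgroup G :=
    { carrier := {z | z ∈ zpowers x ∧ h * z * h⁻¹ = g * z * g⁻¹}
      one_mem' := ⟨one_mem _, by simp⟩
      mul_mem' := by
        rintro a b ⟨ha, ha'⟩ ⟨hb, hb'⟩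
        refine ⟨mul_mem ha hb, ?_⟩
        calc h * (a * b) * h⁻¹ = (h * a * h⁻¹) * (h * b * h⁻¹) := by group
          _ = _ := by rw [ha', hb']; group
      inv_mem' := by
        rintro a ⟨ha, ha'⟩
        refine ⟨inv_mem ha, ?_⟩
        calc h * a⁻¹ * h⁻¹ = (h * a * h⁻¹)⁻¹ := by group
          _ = _ := by rw [ha']; group }
  have hKle : K ≤ zpowers x := fun z hz => hz.1
  have hdvd : orderOf x ∣ Nat.card K := by
    refine pow_factor_dvd (orderOf_pos x).ne' Nat.card_pos.ne' fun p hp hpd => ?_
    have hpd' : p ^ (orderOf x).factorization p ∣ orderOf x := Nat.ordProj_dvd _ _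
    have ho : orderOf (x ^ (orderOf x / p ^ (orderOf x).factorization p)) = p ^ (orderOf x).factorization p := by
      rw [orderOf_pow, Nat.gcd_eq_right (Nat.div_dvd_of_dvd hpd'), Nat.div_div_self hpd' (orderOf_pos x).ne']
    rw [← ho]
    refine Subgroup.orderOf_dvd_natCard K ⟨pow_mem (mem_zpowers x) _, ?_⟩
    exact hagree p (Nat.mem_primeFactors.mpr ⟨hp, hpd, (orderOf_pos x).ne'⟩) _ (pow_mem (mem_zpowers x) _) ⟨_, ho⟩
  have hKeq : K = zpowers x := eq_of_le_of_card_ge hKle (by
    rw [Nat.card_zpowers]; exact Nat.le_of_dvd Nat.card_pos hdvd)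
  exact (hKeq.symm ▸ mem_zpowers x : x ∈ K).2

end Cfsg.Agent.S0558
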