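import Mathlib
import Cfsg.Statements.S0559

set_option autoImplicit false
set_option linter.unusedVariables false
open Pointwise
open Cfsg

namespace Cfsg.Agent.S0559



theorem result {G : Type*} [Group G] [Finite G] (H K A B : Subgroup G) (hHK : ∀ g : G, ∃ h ∈ H, ∃ k ∈ K, g = h * k) (hA : ∃ x : G, A = MulAut.conj x • H) (hB : ∃ y : G, B = MulAut.conj y • K) : (∀ g : G, ∃ a ∈ A, ∃ b ∈ B, g = a * b) ∧ ∃ g : G, A = MulAut.conj g • H ∧ B = MulAut.conj g • K := by
  obtain ⟨x, rfl⟩ := hA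
  obtain ⟨y, rfl⟩ := hB
  obtain ⟨h, hh, k, hk, hxy⟩ := hHK (x⁻¹ * y)
  have e1 : MulAut.conj (x * h) • H = MulAut.conj x • H := by
    rw [map_mul, mul_smul, Subgroup.conj_smul_eq_self_of_mem hh]
  have e2 : MulAut.conj (x * h) • K = MulAut.conj y • K := by
    have : y = x * h * k := by rw [mul_assoc, ← hxy]; group
    rw [this, map_mul _ (x * h) k, mul_smul, Subgroup.conj_smul_eq_self_of_mem hk]
  refine ⟨fun g => ?_, x * h, e1.symm, e2.symm⟩
  obtain ⟨a, ha, b, hb, hg⟩ := hHK ((x * h)⁻¹ * g * (x * h))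
  refine ⟨(x * h) * a * (x * h)⁻¹, ?_, (x * h) * b * (x * h)⁻¹, ?_, ?_⟩
  · rw [← e1]; exact Subgroup.smul_mem_pointwise_smul a (MulAut.conj (x * h)) H ha
  · rw [← e2]; exact Subgroup.smul_mem_pointwise_smul b (MulAut.conj (x * h)) K hb
  · have hge : g = (x * h) * (a * b) * (x * h)⁻¹ := by rw [← hg]; group
    rw [hge]; group

end Cfsg.Agent.S0559
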