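import Mathlib
import Cfsg.Agent.Lib.CoprimeSZ
import Cfsg.Statements.S0560

set_option autoImplicit false
set_option linter.unusedVariables false
set_option linter.unusedSectionVars false
open Pointwise
open Cfsg

namespace Cfsg.Agent.S0560

open Subgroup Cfsg.Agent.CoprimeSZ

theorem subgroupOf_eq_sylow {G : Type*} [Group G] [Finite G] {p : ℕ} [Fact p.Prime] {H : Subgroup G}
    (P : Sylow p H) (R : Sylow p G) (h : (P : Subgroup H).map H.subtype ≤ R) :
    (R : Subgroup G).subgroupOf H = P := by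
  refine P.3 (R.2.comap_of_injective H.subtype H.subtype_injective) ?_
  exact map_le_iff_le_comap.mp h

theorem result {G : Type*} [Group G] [Finite G] (H K : Subgroup G) (hHK : ∀ g : G, ∃ h ∈ H, ∃ k ∈ K, g = h * k) (p : ℕ) [Fact p.Prime] : ∃ (P : Sylow p H) (Q : Sylow p K) (R : Sylow p G), ((R : Subgroup G) : Set G) = (((P : Subgroup H).map H.subtype : Subgroup G) : Set G) * (((Q : Subgroup K).map K.subtype : Subgroup G) : Set G) := by
  obtain ⟨P0⟩ := (inferInstance : Nonempty (Sylow p H))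
  obtain ⟨Q0⟩ := (inferInstance : Nonempty (Sylow p K))
  obtain ⟨R1, hR1⟩ := (P0.2.map H.subtype).exists_le_sylow
  obtain ⟨R2, hR2⟩ := (Q0.2.map K.subtype).exists_le_sylow
  obtain ⟨g, hg⟩ := MulAction.exists_smul_eq G R1 R2
  obtain ⟨h0, hh0, k0, hk0, hgi⟩ := hHK g⁻¹
  have hgkh : g = k0⁻¹ * h0⁻¹ := by rw [← inv_inv g, hgi]; group
  -- `R` meets both factors in Sylow subgroups
  set R : Sylow p G := h0⁻¹ • R1 with hR
  have hRk : k0⁻¹ • R = R2 := by rw [hR, ← mul_smul, ← hgkh, hg]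
  set P : Sylow p H := (⟨h0⁻¹, inv_mem hh0⟩ : H) • P0 with hP
  set Q : Sylow p K := (⟨k0, hk0⟩ : K) • Q0 with hQ
  have hPR : (P : Subgroup H).map H.subtype ≤ R := by
    rintro _ ⟨x, hx, rfl⟩
    obtain ⟨y, hy, rfl⟩ := hx
    exact Subgroup.smul_mem_pointwise_smul _ (MulAut.conj h0⁻¹) (R1 : Subgroup G) (hR1 ⟨y, hy, rfl⟩)
  have hQR : (Q : Subgroup K).map K.subtype ≤ R := by
    rintro _ ⟨x, hx, rfl⟩
    obtain ⟨y, hy, rfl⟩ := hx
    have h1 : ((y : K) : G) ∈ (k0⁻¹ • R : Sylow p G) := hRk ▸ hR2 ⟨y, hy, rfl⟩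
    have h2 : ((y : K) : G) ∈ MulAut.conj k0⁻¹ • (R : Subgroup G) := h1
    rw [mem_conj_smul, inv_inv] at h2
    exact h2
  have hPe := subgroupOf_eq_sylow P R hPR
  have hQe := subgroupOf_eq_sylow Q R hQR
  refine ⟨P, Q, R, Set.Subset.antisymm ?_ ?_⟩
  swap
  · rintro _ ⟨a, ha, b, hb, rfl⟩
    exact mul_mem (hPR ha) (hQR hb)
  set S := (R : Subgroup G) with hS
  -- compare the two coset spaces
  set T := ((K ⊓ S).subgroupOf (S : Subgroup G)) with hT
  let φ : (↥(H ⊓ S) ⧸ (K ⊓ (H ⊓ S)).subgroupOf (H ⊓ S)) → (↥S ⧸ (K ⊓ S).subgroupOf S) :=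
    Quotient.map' (fun x => ⟨x.1, x.2.2⟩) (fun a b hab => by
      rw [QuotientGroup.leftRel_apply] at hab ⊢
      exact ⟨hab.1, hab.2.2⟩)
  have hinj : Function.Injective φ := by
    intro a b hab
    induction a using Quotient.inductionOn' with
    | h a =>
      induction b using Quotient.inductionOn' with
      | h b =>
        have h1 := QuotientGroup.eq.mp hab
        exact QuotientGroup.eq.mpr ⟨h1.1, (a⁻¹ * b).2⟩
  have hcard : Nat.card (↥S ⧸ (K ⊓ S).subgroupOf S) ≤
      Nat.card (↥(H ⊓ S) ⧸ (K ⊓ (H ⊓ S)).subgroupOf (H ⊓ S)) := by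
    rw [← index_eq_card, ← index_eq_card, ← relIndex, ← relIndex, inf_relIndex_right, inf_relIndex_right]
    have hp : p.Prime := Fact.out
    obtain ⟨i, hi⟩ : ∃ i, K.relIndex S = p ^ i := by
      obtain ⟨j, hj⟩ := IsPGroup.iff_card.mp R.2
      obtain ⟨i, -, hi⟩ := (Nat.dvd_prime_pow hp).mp (hj ▸ (K.subgroupOf S).index_dvd_card)
      exact ⟨i, hi⟩
    obtain ⟨l, hl⟩ : ∃ l, K.relIndex (H ⊓ S) = p ^ l := by
      have h1 : IsPGroup p ↥(H ⊓ S) := R.2.to_le inf_le_right
      obtain ⟨j, hj⟩ := IsPGroup.iff_card.mp h1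
      obtain ⟨l, -, hl⟩ := (Nat.dvd_prime_pow hp).mp (hj ▸ (K.subgroupOf (H ⊓ S)).index_dvd_card)
      exact ⟨l, hl⟩
    have hGK : K.index = K.relIndex H := by
      rw [relIndex, index_eq_card, index_eq_card]
      symm
      let ψ : (↥H ⧸ K.subgroupOf H) → (G ⧸ K) := Quotient.map' (fun x => x.1) (fun a b hab => by
        rw [QuotientGroup.leftRel_apply] at hab ⊢; exact hab)
      refine Nat.card_eq_of_bijective ψ ⟨?_, ?_⟩
      · intro a b hab
        induction a using Quotient.inductionOn' with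
        | h a =>
          induction b using Quotient.inductionOn' with
          | h b => exact QuotientGroup.eq.mpr (QuotientGroup.eq.mp hab : (a : G)⁻¹ * b ∈ K)
      · intro x
        induction x using Quotient.inductionOn' with
        | h x =>
          obtain ⟨h, hh, k, hk, rfl⟩ := hHK x
          refine ⟨QuotientGroup.mk ⟨h, hh⟩, QuotientGroup.eq.mpr ?_⟩
          simpa [← mul_assoc] using hk
    have hd1 : p ^ i ∣ K.index := by
      have e : (K ⊓ S).relIndex K * K.index = K.relIndex S * S.index := by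
        have e1 := relIndex_mul_index (inf_le_left : K ⊓ S ≤ K)
        have e2 := relIndex_mul_index (inf_le_right : K ⊓ S ≤ S)
        rw [inf_relIndex_right] at e2
        rw [e1, e2]
      rw [inf_comm, inf_relIndex_right] at e
      have hc : Nat.Coprime (p ^ i) (S.relIndex K) := by
        refine ((hp.coprime_iff_not_dvd).mpr ?_).pow_left i
        have : S.relIndex K = ((Q : Subgroup K)).index := by rw [relIndex, hQe]
        rw [this]; exact Q.not_dvd_index
      exact hc.dvd_of_dvd_mul_left ⟨S.index, by rw [e, hi]⟩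
    have hd2 : p ^ i ∣ (H ⊓ S).relIndex H * K.relIndex (H ⊓ S) := by
      have e2 : (K ⊓ (H ⊓ S)).relIndex (H ⊓ S) * (H ⊓ S).relIndex H = (K ⊓ (H ⊓ S)).relIndex H :=
        relIndex_mul_relIndex _ _ _ inf_le_right inf_le_left
      rw [inf_relIndex_right] at e2
      rw [mul_comm, e2]
      refine (hGK ▸ hd1).trans ?_
      exact relIndex_dvd_of_le_left H inf_le_left
    have hc2 : Nat.Coprime (p ^ i) ((H ⊓ S).relIndex H) := by
      refine ((hp.coprime_iff_not_dvd).mpr ?_).pow_left i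
      have : (H ⊓ S).relIndex H = ((P : Subgroup H)).index := by
        rw [inf_comm, inf_relIndex_right, relIndex, hPe]
      rw [this]; exact P.not_dvd_index
    rw [hi, hl]
    exact Nat.le_of_dvd (pow_pos hp.pos l) (hl ▸ hc2.dvd_of_dvd_mul_left hd2)
  have hsurj := ((Nat.bijective_iff_injective_and_card φ).mpr
    ⟨hinj, le_antisymm (Nat.card_le_card_of_injective φ hinj) hcard⟩).2
  intro r hr
  obtain ⟨x, hx⟩ := hsurj (QuotientGroup.mk ⟨r, hr⟩)
  induction x using Quotient.inductionOn' with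
  | h x =>
    have h1 := QuotientGroup.eq.mp hx
    have h2 : (x : G)⁻¹ * r ∈ K ⊓ S := h1
    refine ⟨x, ?_, (x : G)⁻¹ * r, ?_, by group⟩
    · exact ⟨⟨x, x.2.1⟩, hPe ▸ (x.2.2 : (x : G) ∈ S), rfl⟩
    · exact ⟨⟨_, h2.1⟩, hQe ▸ (h2.2 : _ ∈ S), rfl⟩

end Cfsg.Agent.S0560
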