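import Cfsg.Statements.S0561
import Cfsg.Agent.Lib.HallSystem
import Cfsg.Agent.Lib.HallCarter

set_option autoImplicit false
open Pointwise
open Cfsg

namespace Cfsg.Agent.S0561

open scoped Pointwise
open Subgroup Cfsg.Agent.HallCore Cfsg.Agent.HallTheorem Cfsg.Agent.HallSystem

/-- The primes of `G` not dividing `|A|`. -/
noncomputable def compPrimes {G : Type*} [Group G] (A : Subgroup G) : Finset Nat.Primes :=
  (primesOf G).filter fun p => ¬ (p : ℕ) ∣ Nat.card A

theorem isPiHall_compPrimes {G : Type*} [Group G] [Finite G] (A : Subgroup G)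
    (hA : (Nat.card A).Coprime A.index) :
    Cfsg.IsPiHall {n | ∀ p ∈ compPrimes A, (p : ℕ) ≠ n} A := by
  rw [isPiHall_iff]
  refine ⟨fun q _ hd p hp hpq => ?_, fun q hq hd hmem => ?_⟩
  · exact (Finset.mem_filter.mp hp).2 (hpq ▸ hd)
  · refine hmem ⟨q, hq⟩ (Finset.mem_filter.mpr ⟨mem_primesOf.mpr (hd.trans A.index_dvd_card), fun h => ?_⟩) rfl
    exact hq.ne_one (Nat.eq_one_of_dvd_coprimes hA h hd)

theorem exists_permutable_conj {G : Type*} [Group G] [Finite G] [Group.IsSolvable G]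
    (A B : Subgroup G) (hA : (Nat.card A).Coprime A.index) (hB : (Nat.card B).Coprime B.index) :
    ∃ (g h : G) (W : Subgroup G), (W : Set G) =
      ((MulAut.conj g • A : Subgroup G) : Set G) * ((MulAut.conj h • B : Subgroup G) : Set G) := by
  obtain ⟨K, hK⟩ := exists_complementSystem (G := G)
  set s := compPrimes A
  set t := compPrimes B
  set W := Kinf K (s ∩ t)
  obtain ⟨g, hg⟩ := isPiHall_conjugate_of_solvable (isPiHall_compPrimes A hA) (isPiHall_Kinf hK s)
  obtain ⟨h, hh⟩ := isPiHall_conjugate_of_solvable (isPiHall_compPrimes B hB) (isPiHall_Kinf hK t)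
  refine ⟨g, h, W, ?_⟩
  rw [hg, hh]
  have hPW : Kinf K s ≤ W := Finset.inf_mono Finset.inter_subset_left
  have hQW : Kinf K t ≤ W := Finset.inf_mono Finset.inter_subset_right
  refine Set.Subset.antisymm ?_ ?_
  · intro w hw
    have hcop : ((Kinf K s).subgroupOf W).index.Coprime ((Kinf K t).subgroupOf W).index := by
      refine Nat.coprime_of_dvd fun q hq h1 h2 => ?_
      have h1' := (isPiHall_iff.mp (isPiHall_Kinf hK s)).2 q hq (h1.trans (Subgroup.relIndex_dvd_index_of_le hPW))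
      have h2' := (isPiHall_iff.mp (isPiHall_Kinf hK t)).2 q hq (h2.trans (Subgroup.relIndex_dvd_index_of_le hQW))
      have h3 := (isPiHall_iff.mp (isPiHall_Kinf hK (s ∩ t))).1 q hq
        (h1.trans (Subgroup.index_dvd_card _))
      simp only [Set.mem_compl_iff, Set.mem_ofPred_eq, not_forall, not_not] at h1' h2'
      obtain ⟨p, hp, rfl⟩ := h1'
      obtain ⟨p', hp', he⟩ := h2'
      exact h3 p (Finset.mem_inter.mpr ⟨hp, (Subtype.ext he : p' = p) ▸ hp'⟩) rfl
    obtain ⟨a, ha, b, hb, hab⟩ := exists_mul_of_coprime_index hcop ⟨w, hw⟩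
    exact Set.mem_mul.mpr ⟨(a : G), ha, (b : G), hb, (congrArg Subtype.val hab).symm⟩
  · rintro _ ⟨a, ha, b, hb, rfl⟩
    exact W.mul_mem (hPW ha) (hQW hb)

/-- Let the finite solvable group G be the product HK of subgroups, and let A be normal in H and B normal in K, where A and B are Hall subgroups of G (order coprime to index). Then for all x, y the product set of xAx⁻¹ and yBy⁻¹ is a subgroup of G. -/
theorem result {G : Type*} [Group G] [Finite G] [Group.IsSolvable G] (H K A B : Subgroup G) (hHK : ∀ g : G, ∃ h ∈ H, ∃ k ∈ K, g = h * k) (hA : A ≤ H) (hAn : (A.subgroupOf H).Normal) (hB : B ≤ K) (hBn : (B.subgroupOf K).Normal) (hAh : (Nat.card A).Coprime A.index) (hBh : (Nat.card B).Coprime B.index) (x y : G) : ∃ S : Subgroup G, (S : Set G) = ((MulAut.conj x • A : Subgroup G) : Set G) * ((MulAut.conj y • B : Subgroup G) : Set G) := by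
  have key : ∀ x y : G, ∃ z : G,
      ((MulAut.conj x • A : Subgroup G) : Set G) * ((MulAut.conj y • B : Subgroup G) : Set G) =
        MulAut.conj z • ((A : Set G) * (B : Set G)) := by
    intro x y
    obtain ⟨h, hh, k, hk, e⟩ := hHK (y⁻¹ * x)⁻¹
    have hx : x = y * k⁻¹ * h⁻¹ := by
      rw [mul_assoc, ← mul_inv_rev, ← e, inv_inv, mul_inv_cancel_left]
    refine ⟨y * k⁻¹, ?_⟩
    have h1 : MulAut.conj h⁻¹ • A = A := (Cfsg.Agent.HallCarter.mem_normalizer_iff_smul _ _).mp
      ((Subgroup.normal_subgroupOf_iff_le_normalizer hA).mp hAn (H.inv_mem hh))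
    have h2 : MulAut.conj k⁻¹ • B = B := (Cfsg.Agent.HallCarter.mem_normalizer_iff_smul _ _).mp
      ((Subgroup.normal_subgroupOf_iff_le_normalizer hB).mp hBn (K.inv_mem hk))
    rw [smul_mul', ← Subgroup.coe_pointwise_smul, ← Subgroup.coe_pointwise_smul]
    congr 2
    · rw [hx, map_mul, mul_smul, h1]
    · rw [map_mul, mul_smul, h2]
  obtain ⟨g, h, W, hW⟩ := exists_permutable_conj A B hAh hBh
  obtain ⟨z, hz⟩ := key g h
  obtain ⟨z', hz'⟩ := key x y
  refine ⟨MulAut.conj z' • (MulAut.conj z)⁻¹ • W, ?_⟩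
  rw [hz', Subgroup.coe_pointwise_smul, Subgroup.coe_pointwise_smul, hW, hz, inv_smul_smul]

end Cfsg.Agent.S0561
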