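import Mathlib
import Cfsg.Statements.S0562

set_option autoImplicit false
set_option linter.unusedVariables false
open Cfsg

namespace Cfsg.Agent.S0562



theorem result {G : Type*} [Group G] [Finite G] (H K A B : Subgroup G) (hHK : ∀ g : G, ∃ h ∈ H, ∃ k ∈ K, g = h * k) (hA : A ≤ H) (hAn : (A.subgroupOf H).Normal) (hB : B ≤ K) (hBn : (B.subgroupOf K).Normal) : ∀ g ∈ Subgroup.normalizer ((A ⊔ B : Subgroup G) : Set G), ∃ h ∈ Subgroup.normalizer ((A ⊔ B : Subgroup G) : Set G) ⊓ H, ∃ k ∈ Subgroup.normalizer ((A ⊔ B : Subgroup G) : Set G) ⊓ K, g = h * k := by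
  intro g hg
  obtain ⟨h, hh, k, hk, rfl⟩ := hHK g
  have hA' := hAn; have hB' := hBn
  rw [Subgroup.normal_subgroupOf_iff_le_normalizer hA] at hA'
  rw [Subgroup.normal_subgroupOf_iff_le_normalizer hB] at hB'
  set J := A ⊔ B with hJ
  -- M = k J k⁻¹ = h⁻¹ J h contains A and B
  set M := J.map (MulAut.conj k).toMonoidHom with hM
  have hkk : M = J.map (MulAut.conj h⁻¹).toMonoidHom := by
    ext x
    simp only [hM, Subgroup.mem_map, MulEquiv.coe_toMonoidHom, MulAut.conj_apply, inv_inv]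
    rw [Subgroup.mem_normalizer_iff] at hg
    constructor
    · rintro ⟨y, hy, rfl⟩
      exact ⟨h * k * y * (h * k)⁻¹, (hg y).mp hy, by group⟩
    · rintro ⟨y, hy, rfl⟩
      refine ⟨(h * k)⁻¹ * y * (h * k), (hg _).mpr (by convert hy using 1; group), by group⟩
  have hMB : B ≤ M := by
    intro b hb
    refine ⟨k⁻¹ * b * k, Subgroup.mem_sup_right ?_, by simp [MulAut.conj_apply]; group⟩
    simpa using (Subgroup.mem_normalizer_iff.mp (inv_mem (hB' hk)) b).mp hb
  have hMA : A ≤ M := by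
    intro a ha
    rw [hkk]
    refine ⟨h * a * h⁻¹, Subgroup.mem_sup_left ((Subgroup.mem_normalizer_iff.mp (hA' hh) a).mp ha), ?_⟩
    simp [MulAut.conj_apply]; group
  have hJM : J = M := Subgroup.eq_of_le_of_card_ge (sup_le hMA hMB)
    (le_of_eq (Subgroup.card_map_of_injective (MulAut.conj k).injective))
  have hkN : k ∈ Subgroup.normalizer (J : Set G) := by
    rw [Subgroup.mem_normalizer_iff]
    intro y
    constructor
    · intro hy; rw [hJM]; exact ⟨y, hy, rfl⟩
    · intro hy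
      rw [hJM] at hy
      obtain ⟨z, hz, hzy⟩ := hy
      have : z = y := by simpa [MulAut.conj_apply] using hzy
      exact this ▸ hz
  refine ⟨h, ⟨?_, hh⟩, k, ⟨hkN, hk⟩, rfl⟩
  simpa using mul_mem hg (inv_mem hkN)

end Cfsg.Agent.S0562
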