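import Mathlib
import Cfsg.Agent.Lib.KegelWielandt
import Cfsg.Agent.Lib.HallTheorem
import Cfsg.Statements.S0563

set_option autoImplicit false
set_option linter.unusedVariables false
set_option linter.unusedSectionVars false
open Pointwise
open Cfsg

namespace Cfsg.Agent.S0563

open Subgroup Cfsg.Agent.KegelWielandtBasic

theorem sy_eq {G : Type*} [Group G] [Finite G] {A : Subgroup G} (hA : Group.IsNilpotent A) {p : ℕ}
    [Fact p.Prime] (P : Sylow p A) : (P : Subgroup A).map A.subtype = sy A p := by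
  haveI := hA
  haveI : (P : Subgroup A).Normal := inferInstance
  haveI := P.unique_of_normal inferInstance
  rw [sy, Subsingleton.elim (Classical.arbitrary (Sylow p A)) P]

/-- Inside a solvable group the Sylow subgroups of the two factors permute. -/
theorem permute {G : Type*} [Group G] [Finite G] [Group.IsSolvable G] {A B : Subgroup G}
    (hA : Group.IsNilpotent A) (hB : Group.IsNilpotent B)
    (hcop : (Nat.card A).Coprime (Nat.card B)) (hAB : ∀ g : G, ∃ a ∈ A, ∃ b ∈ B, g = a * b)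
    {p q : ℕ} [Fact p.Prime] [Fact q.Prime] (hpA : p ∣ Nat.card A) (hqB : q ∣ Nat.card B) :
    ∃ S : Subgroup G, (S : Set G) = (sy A p : Set G) * (sy B q : Set G) := by
  have hidx : A.index = Nat.card B := by
    refine Nat.eq_of_mul_eq_mul_left (Nat.card_pos (α := A)) ?_
    rw [A.card_mul_index, ← Nat.card_prod]
    refine (Nat.card_eq_of_bijective (fun x : A × B => (x.1 : G) * x.2) ⟨?_, ?_⟩).symm
    · exact Subgroup.mul_injective_of_disjoint (disjoint_of_coprime_natCard hcop)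
    · intro g
      obtain ⟨a, ha, b, hb, rfl⟩ := hAB g
      exact ⟨(⟨a, ha⟩, ⟨b, hb⟩), rfl⟩
  have hG : Nat.card G = Nat.card A * Nat.card B := by rw [← hidx, A.card_mul_index]
  have hpB : ¬ p ∣ Nat.card B := fun h =>
    (Fact.out : p.Prime).one_lt.ne' (Nat.eq_one_of_dvd_coprimes hcop hpA h)
  have hqA : ¬ q ∣ Nat.card A := fun h =>
    (Fact.out : q.Prime).one_lt.ne' (Nat.eq_one_of_dvd_coprimes hcop h hqB)
  have hBidx : B.index = Nat.card A := by
    refine Nat.eq_of_mul_eq_mul_left (Nat.card_pos (α := B)) ?_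
    rw [B.card_mul_index, hG, mul_comm]
  obtain ⟨W₀, hW₀⟩ := HallTheorem.exists_isPiHall_of_solvable (G := G) ({p, q} : Set ℕ)
  -- every `r`-group, `r ∈ {p, q}`, lies in a conjugate of a Hall subgroup
  have hin : ∀ (r : ℕ) [Fact r.Prime] (W R : Subgroup G), ¬ r ∣ W.index → IsPGroup r R →
      ∃ g : G, R ≤ (MulAut.conj g • W : Subgroup G) := by
    intro r _ W R hWi hR
    obtain ⟨T⟩ := (inferInstance : Nonempty (Sylow r W))
    have hTi : ¬ r ∣ ((T : Subgroup W).map W.subtype).index := by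
      rw [index_map_subtype]
      exact Nat.Prime.not_dvd_mul Fact.out T.not_dvd_index hWi
    let T' : Sylow r G := (T.2.map W.subtype).toSylow hTi
    obtain ⟨Q, hQ⟩ := hR.exists_le_sylow
    obtain ⟨g, hg⟩ := MulAction.exists_smul_eq G T' Q
    refine ⟨g, hQ.trans ?_⟩
    rw [← hg]
    exact Subgroup.pointwise_smul_le_pointwise_smul_iff.mpr (map_subtype_le _)
  obtain ⟨g, hg⟩ := hin p W₀ (sy A p) (hW₀.2 p Fact.out (Or.inl rfl)) sy_isPGroup
  have hW := HallTheorem.isPiHall_conj hW₀ g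
  set W := (MulAut.conj g • W₀ : Subgroup G)
  obtain ⟨k, hk⟩ := hin q W (sy B q) (hW.2 q Fact.out (Or.inr rfl)) sy_isPGroup
  obtain ⟨a, ha, b, hb, hab⟩ := hAB k⁻¹
  have hk' : k = b⁻¹ * a⁻¹ := by rw [← inv_inv k, hab, mul_inv_rev]
  have h1 : sy A p ≤ (MulAut.conj a⁻¹ • W : Subgroup G) := by
    rw [← CoprimeSZ.conj_smul_eq_self (le_normalizer_sy hA (inv_mem ha) : a⁻¹ ∈ _)]
    exact Subgroup.pointwise_smul_le_pointwise_smul_iff.mpr hg
  have h2 : sy B q ≤ (MulAut.conj a⁻¹ • W : Subgroup G) := by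
    rw [← CoprimeSZ.conj_smul_eq_self (le_normalizer_sy hB hb : b ∈ _)]
    calc (MulAut.conj b • sy B q : Subgroup G) ≤ MulAut.conj b • MulAut.conj k • W :=
          Subgroup.pointwise_smul_le_pointwise_smul_iff.mpr hk
      _ = MulAut.conj a⁻¹ • W := by rw [← mul_smul, ← map_mul, hk', mul_inv_cancel_left]
  have hW' := HallTheorem.isPiHall_conj hW a⁻¹
  set W' := (MulAut.conj a⁻¹ • W : Subgroup G)
  refine ⟨W', ((Set.eq_of_subset_of_ncard_le ?_ ?_ (Set.toFinite _))).symm⟩
  · rintro _ ⟨x, hx, y, hy, rfl⟩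
    exact mul_mem (h1 hx) (h2 hy)
  show Nat.card W' ≤ Nat.card ((sy A p : Set G) * (sy B q : Set G) : Set G)
  have hc := KegelWielandt.card_set_mul (sy A p) (sy B q)
  have hdisj : sy A p ⊓ sy B q = ⊥ := by
    rw [eq_bot_iff, ← HallCore.disjoint_of_coprime_card hcop]
    exact inf_le_inf sy_le sy_le
  rw [hdisj, card_bot, mul_one] at hc
  rw [hc]
  obtain ⟨i, hi, hAi⟩ := KegelWielandt.card_eq_sy_mul A p
  obtain ⟨j, hj, hBj⟩ := KegelWielandt.card_eq_sy_mul B q
  refine Nat.le_of_dvd (Nat.mul_pos Nat.card_pos Nat.card_pos) ?_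
  have hd : Nat.card W' ∣ Nat.card (sy A p) * Nat.card (sy B q) * (i * j) := by
    have h := card_subgroup_dvd_card W'
    rw [hG, hAi, hBj] at h
    convert h using 1
    ring
  refine Nat.Coprime.dvd_of_dvd_mul_right (Nat.coprime_of_dvd fun r hr e1 e2 => ?_) hd
  rcases hW'.1 r hr e1 with rfl | rfl <;> rcases hr.dvd_mul.mp e2 with h | h
  · exact hi h
  · exact hpB (hBj ▸ dvd_mul_of_dvd_right h _)
  · exact hqA (hAi ▸ dvd_mul_of_dvd_right h _)
  · exact hj h

theorem result {G : Type*} [Group G] [Finite G] (A B : Subgroup G) (hA : Group.IsNilpotent A) (hB : Group.IsNilpotent B) (hcop : (Nat.card A).Coprime (Nat.card B)) (hAB : ∀ g : G, ∃ a ∈ A, ∃ b ∈ B, g = a * b) : Group.IsSolvable G ∧ ∀ (p q : ℕ) [Fact p.Prime] [Fact q.Prime] (P : Sylow p A) (Q : Sylow q B), ∃ S : Subgroup G, (S : Set G) = (((P : Subgroup A).map A.subtype : Subgroup G) : Set G) * (((Q : Subgroup B).map B.subtype : Subgroup G) : Set G) := by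
  have hsol := Cfsg.Agent.KegelWielandt.isSolvable_of_mul A B hA hB hAB
  refine ⟨hsol, ?_⟩
  intro p q _ _ P Q
  haveI := hsol
  rw [sy_eq hA P, sy_eq hB Q]
  by_cases hp : p ∣ Nat.card A
  · by_cases hq : q ∣ Nat.card B
    · exact permute hA hB hcop hAB hp hq
    · refine ⟨sy A p, ?_⟩
      have : sy B q = ⊥ := by
        obtain ⟨k, hk⟩ := IsPGroup.iff_card.mp (sy_isPGroup (A := B) (p := q))
        rcases k with _ | k
        · exact eq_bot_of_card_eq _ (by simpa using hk)
        · exact absurd ((hk ▸ dvd_pow_self q k.succ_ne_zero : q ∣ Nat.card (sy B q)).trans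
            (card_dvd_of_le sy_le)) hq
      rw [this, coe_bot]
      simp
  · refine ⟨sy B q, ?_⟩
    have : sy A p = ⊥ := by
      obtain ⟨k, hk⟩ := IsPGroup.iff_card.mp (sy_isPGroup (A := A) (p := p))
      rcases k with _ | k
      · exact eq_bot_of_card_eq _ (by simpa using hk)
      · exact absurd ((hk ▸ dvd_pow_self p k.succ_ne_zero : p ∣ Nat.card (sy A p)).trans
          (card_dvd_of_le sy_le)) hp
    rw [this, coe_bot]
    simp

end Cfsg.Agent.S0563
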