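import Mathlib
import Cfsg.Agent.Lib.KegelWielandt
import Cfsg.Agent.Lib.PGroupsBasic
import Cfsg.Statements.S0565

set_option autoImplicit false
set_option linter.unusedVariables false
set_option linter.unusedSectionVars false
open Cfsg

namespace Cfsg.Agent.S0565

universe u

open Subgroup Pointwise Cfsg.Agent.KegelWielandtBasic

theorem aux : ∀ (n : ℕ) (G : Type u) [Group G] [Finite G], Nat.card G = n → ∀ A B : Subgroup G,
    Group.IsNilpotent A → Group.IsNilpotent B → (∀ g : G, ∃ a ∈ A, ∃ b ∈ B, g = a * b) →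
    (A ≠ ⊤ ∨ B ≠ ⊤) → ∃ N : Subgroup G, N.Normal ∧ N ≠ ⊤ ∧ (A ≤ N ∨ B ≤ N) := by
  intro n
  induction n using Nat.strong_induction_on with
  | _ n ih =>
  intro G _ _ hn A B hA hB hAB hproper
  have hswap : ∀ g : G, ∃ b ∈ B, ∃ a ∈ A, g = b * a := fun g => by
    obtain ⟨a, ha, b, hb, h⟩ := hAB g⁻¹
    exact ⟨b⁻¹, inv_mem hb, a⁻¹, inv_mem ha, by rw [← inv_inv g, h, mul_inv_rev]⟩
  have hnilG : ∀ (X Y : Subgroup G), Group.IsNilpotent X → X = ⊤ → Y ≠ ⊤ →
      ∃ N : Subgroup G, N.Normal ∧ N ≠ ⊤ ∧ Y ≤ N := by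
    intro X Y hX e hY
    subst e
    haveI := hX
    haveI : Group.IsNilpotent G := nilpotent_of_mulEquiv (topEquiv (G := G))
    obtain ⟨M, hM, hle⟩ := (eq_top_or_exists_le_coatom Y).resolve_left hY
    exact ⟨M, NormalizerCondition.normal_of_coatom M
      Group.normalizerCondition_of_isNilpotent hM, hM.1, hle⟩
  by_cases hAt : A = ⊤
  · obtain ⟨N, h1, h2, h3⟩ := hnilG A B hA hAt (hproper.resolve_left (fun h => h hAt))
    exact ⟨N, h1, h2, Or.inr h3⟩
  by_cases hBt : B = ⊤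
  · obtain ⟨N, h1, h2, h3⟩ := hnilG B A hB hBt hAt
    exact ⟨N, h1, h2, Or.inl h3⟩
  have lift : ∀ N : Subgroup G, ∀ [N.Normal], N ≠ ⊥ → (A ⊔ N ≠ ⊤ ∨ B ⊔ N ≠ ⊤) →
      ∃ M : Subgroup G, M.Normal ∧ M ≠ ⊤ ∧ (A ≤ M ∨ B ≤ M) := by
    intro N _ hN h
    have hsur := QuotientGroup.mk'_surjective N
    have ht : ∀ X : Subgroup G, X ⊔ N ≠ ⊤ → X.map (QuotientGroup.mk' N) ≠ ⊤ := by
      intro X hX e
      apply hX
      have := congrArg (Subgroup.comap (QuotientGroup.mk' N)) e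
      rwa [HallSolvable.comap_mk'_map, Subgroup.comap_top] at this
    obtain ⟨M, hMn, hMt, hM⟩ := ih _ (hn ▸ HallSolvable.card_quotient_lt hN) (G ⧸ N) rfl _ _
      (KegelWielandt.isNilpotent_map _ hA) (KegelWielandt.isNilpotent_map _ hB)
      (KegelWielandt.mul_image _ hsur hAB) (h.imp (ht A) (ht B))
    refine ⟨M.comap (QuotientGroup.mk' N), hMn.comap _, fun e => hMt ?_, ?_⟩
    · rw [← map_comap_eq_self_of_surjective hsur M, e, map_top_of_surjective _ hsur]
    · exact hM.imp map_le_iff_le_comap.mp map_le_iff_le_comap.mp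
  haveI : Group.IsSolvable G := KegelWielandt.isSolvable_of_mul A B hA hB hAB
  haveI : Nontrivial G := by
    by_contra h
    rw [not_nontrivial_iff_subsingleton] at h
    exact hAt (Subsingleton.elim _ _)
  obtain ⟨N, hN⟩ := HallSolvable.exists_minNormal (G := G)
  haveI := hN.normal
  by_cases hl : A ⊔ N ≠ ⊤ ∨ B ⊔ N ≠ ⊤
  · exact lift N hN.ne_bot hl
  push Not at hl
  obtain ⟨p, hp, ⟨hNc, -⟩, hNp⟩ := hN.exists_prime
  haveI := Fact.mk hp
  have hab : ∀ x ∈ N, ∀ y ∈ N, x * y = y * x := fun x hx y hy =>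
    PGroupsBasic.comm_of_isMulCommutative hNc hx hy
  have hNsol : Group.IsSolvable N := inferInstance
  -- a subgroup of `N` invariant under a supplement is normal
  have hnorm : ∀ X R : Subgroup G, X ⊔ N = ⊤ → R ≤ N → X ≤ normalizer (R : Set G) → R.Normal := by
    intro X R hX hR hXR
    rw [← normalizer_eq_top_iff, eq_top_iff, ← hX]
    refine sup_le hXR fun n hn => ?_
    rw [Subgroup.mem_normalizer_iff]
    refine fun r => ⟨fun hr => ?_, fun hr => ?_⟩
    · rwa [hab n hn r (hR hr), mul_inv_cancel_right]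
    · have h1 : n⁻¹ * (n * r * n⁻¹) * n = n * r * n⁻¹ := by
        rw [hab _ (inv_mem hn) _ (hR hr)]; group
      have h2 : n * r * n⁻¹ = r := by
        rw [← h1]; group
      rwa [h2] at hr
  have hdis : ∀ X : Subgroup G, X ≠ ⊤ → X ⊔ N = ⊤ → X ⊓ N = ⊥ := by
    intro X hX hXN
    refine (hN.2.2 _ (hnorm X _ hXN inf_le_right ?_) inf_le_right).resolve_right fun e => hX ?_
    · refine CoprimeAction.le_normalizer_of_conj_mem fun x hx r hr => ?_
      exact mem_inf.mpr ⟨mul_mem (mul_mem hx (mem_inf.mp hr).1) (inv_mem hx),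
        hN.normal.conj_mem r (mem_inf.mp hr).2 x⟩
    · rwa [sup_eq_left.mpr (e.ge.trans inf_le_left)] at hXN
  -- if `p` divides the order of a factor, its Sylow subgroup is normal
  have hpdvd : ∀ X : Subgroup G, Group.IsNilpotent X → X ≠ ⊤ → X ⊔ N = ⊤ → p ∣ Nat.card X →
      ∃ N₂ : Subgroup G, N₂.Normal ∧ N₂ ≠ ⊥ ∧ X ⊔ N₂ ≠ ⊤ := by
    intro X hX hXt hXN hpX
    set R := sy X p with hR
    have hXR : X ≤ normalizer (R : Set G) := le_normalizer_sy hX
    have hC : (N ⊓ centralizer (R : Set G)).Normal := by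
      refine hnorm X _ hXN inf_le_left (CoprimeAction.le_normalizer_of_conj_mem fun x hx c hc => ?_)
      refine mem_inf.mpr ⟨hN.normal.conj_mem c hc.1 x, mem_centralizer_iff.mpr fun r hr => ?_⟩
      have hr' : x⁻¹ * r * x ∈ R := by
        simpa using (Subgroup.mem_normalizer_iff.mp (hXR (inv_mem hx)) r).mp hr
      calc r * (x * c * x⁻¹) = x * (x⁻¹ * r * x * c) * x⁻¹ := by group
        _ = x * (c * (x⁻¹ * r * x)) * x⁻¹ := by rw [mem_centralizer_iff.mp hc.2 _ hr']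
        _ = _ := by group
    have hCne : N ⊓ centralizer (R : Set G) ≠ ⊥ := by
      have hP : IsPGroup p ↥(N ⊔ R) := hNp.to_sup_of_normal_left sy_isPGroup
      have hne : N.subgroupOf (N ⊔ R) ≠ ⊥ := by
        rw [ne_eq, subgroupOf_eq_bot, disjoint_iff, inf_eq_left.mpr le_sup_left]
        exact hN.ne_bot
      intro h0
      apply PGroupsBasic.inf_center_ne_bot hP hne
      rw [eq_bot_iff]
      rintro z ⟨hz1, hz2⟩
      refine mem_bot.mpr (Subtype.ext (mem_bot.mp (h0 ▸ mem_inf.mpr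
        ⟨hz1, mem_centralizer_iff.mpr fun c hc => ?_⟩)))
      exact congrArg Subtype.val (mem_center_iff.mp hz2 ⟨c, mem_sup_right hc⟩)
    have hCN := (hN.2.2 _ hC inf_le_left).resolve_left hCne
    refine ⟨R, ?_, sy_ne_bot hpX, fun e => hXt ?_⟩
    · rw [← normalizer_eq_top_iff, eq_top_iff, ← hXN]
      refine sup_le hXR fun n hn => ?_
      rw [Subgroup.mem_normalizer_iff]
      have hc : ∀ r ∈ R, r * n = n * r := fun r hr =>
        mem_centralizer_iff.mp ((hCN.symm ▸ hn : n ∈ N ⊓ centralizer (R : Set G)).2) r hr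
      refine fun r => ⟨fun hr => ?_, fun hr => ?_⟩
      · rwa [← hc r hr, mul_inv_cancel_right]
      · have h1 := hc _ hr
        have h2 : n * r * n⁻¹ = r := by
          have h3 : n * (n * r * n⁻¹) = n * r := by rw [← h1]; group
          exact mul_left_cancel h3
        rwa [h2] at hr
    · rwa [sup_eq_left.mpr sy_le] at e
  by_cases hpA : p ∣ Nat.card A
  · obtain ⟨N₂, h1, h2, h3⟩ := hpdvd A hA hAt hl.1 hpA
    exact lift N₂ h2 (Or.inl h3)
  by_cases hpB : p ∣ Nat.card B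
  · obtain ⟨N₂, h1, h2, h3⟩ := hpdvd B hB hBt hl.2 hpB
    exact lift N₂ h2 (Or.inr h3)
  exfalso
  have hcard : ∀ X : Subgroup G, X ≠ ⊤ → X ⊔ N = ⊤ → Nat.card X * Nat.card N = Nat.card G := by
    intro X hX hXN
    have h := OffendersReplace.card_sup_mul_card_inf X N (fun x _ => by
      rw [normalizer_eq_top]; exact mem_top x)
    rwa [hdis X hX hXN, card_bot, mul_one, hXN, card_top, eq_comm] at h
  obtain ⟨k, hk⟩ := IsPGroup.iff_card.mp hNp
  have heq : Nat.card B = Nat.card A := Nat.eq_of_mul_eq_mul_right (Nat.card_pos (α := N))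
    ((hcard B hBt hl.2).trans (hcard A hAt hl.1).symm)
  obtain ⟨g, -, hg⟩ := CoprimeSZ.exists_conj_of_card_eq (N := N) (A := A) (B := B)
    (fun a _ => by rw [normalizer_eq_top]; exact mem_top a)
    (by rw [hk]; exact ((hp.coprime_iff_not_dvd.mpr hpA).pow_left k).symm) (Or.inr hNsol)
    (by rw [sup_comm, hl.1]; exact le_top) heq
  obtain ⟨b, hb, a, ha, rfl⟩ := hswap g
  rw [map_mul, mul_smul, CoprimeSZ.conj_smul_eq_self (le_normalizer ha)] at hg
  have hBA : A = B := by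
    have h1 := CoprimeSZ.conj_smul_eq_self (le_normalizer (inv_mem hb) : b⁻¹ ∈ normalizer (B : Set G))
    rw [← hg, map_inv, inv_smul_smul] at h1
    exact h1.trans hg
  apply hAt
  rw [eq_top_iff]
  intro x _
  obtain ⟨a', ha', b', hb', rfl⟩ := hAB x
  exact mul_mem ha' (hBA ▸ hb')

theorem result {G : Type*} [Group G] [Finite G] (A B : Subgroup G) (hA : Group.IsNilpotent A) (hB : Group.IsNilpotent B) (hAB : ∀ g : G, ∃ a ∈ A, ∃ b ∈ B, g = a * b) (hproper : A ≠ ⊤ ∨ B ≠ ⊤) : ∃ N : Subgroup G, N.Normal ∧ N ≠ ⊤ ∧ (A ≤ N ∨ B ≤ N) := by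
  exact aux _ G rfl A B hA hB hAB hproper

end Cfsg.Agent.S0565
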