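import Mathlib
import Cfsg.Statements.S0567

set_option autoImplicit false
set_option linter.unusedVariables false
set_option linter.unusedSectionVars false
open Cfsg

namespace Cfsg.Agent.S0567

open Subgroup
open scoped commutatorElement

theorem le_normalizer_commutator {G : Type*} [Group G] (K H : Subgroup G)
    (hH : H ≤ normalizer (K : Set G)) :
    K ⊔ H ≤ normalizer ((⁅K, H⁆ : Subgroup G) : Set G) := by
  have hK : ∀ k ∈ K, ∀ z ∈ ⁅K, H⁆, k * z * k⁻¹ ∈ ⁅K, H⁆ := by
    intro k hk z hz
    rw [Subgroup.commutator_def] at hz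
    induction hz using Subgroup.closure_induction with
    | mem y hy =>
      obtain ⟨a, ha, h, hh, rfl⟩ := hy
      have e : k * ⁅a, h⁆ * k⁻¹ = ⁅k * a, h⁆ * ⁅k, h⁆⁻¹ := by
        simp only [commutatorElement_def]; group
      rw [e]
      exact mul_mem (commutator_mem_commutator (mul_mem hk ha) hh)
        (inv_mem (commutator_mem_commutator hk hh))
    | one => simp
    | mul y z _ _ hy hz => simpa [mul_assoc] using mul_mem hy hz
    | inv y _ hy => simpa [mul_assoc] using inv_mem hy
  have hH' : ∀ h ∈ H, ∀ z ∈ ⁅K, H⁆, h * z * h⁻¹ ∈ ⁅K, H⁆ := by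
    intro h hh z hz
    rw [Subgroup.commutator_def] at hz
    induction hz using Subgroup.closure_induction with
    | mem y hy =>
      obtain ⟨a, ha, b, hb, rfl⟩ := hy
      have e : h * ⁅a, b⁆ * h⁻¹ = ⁅h * a * h⁻¹, h * b * h⁻¹⁆ := by
        simp only [commutatorElement_def]; group
      rw [e]
      exact commutator_mem_commutator ((mem_normalizer_iff.mp (hH hh) a).mp ha)
        (mul_mem (mul_mem hh hb) (inv_mem hh))
    | one => simp
    | mul y z _ _ hy hz => simpa [mul_assoc] using mul_mem hy hz
    | inv y _ hy => simpa [mul_assoc] using inv_mem hy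
  refine sup_le (fun k hk => ?_) (fun h hh => ?_) <;> rw [mem_normalizer_iff] <;> intro z
  · exact ⟨hK k hk z, fun h => by simpa [mul_assoc] using hK _ (inv_mem hk) _ h⟩
  · exact ⟨hH' h hh z, fun h' => by simpa [mul_assoc] using hH' _ (inv_mem hh) _ h'⟩

theorem result {G : Type*} [Group G] (H : Subgroup G) : H.IsSubnormal ↔ ∃ m : ℕ, (fun K : Subgroup G => ⁅K, H⁆)^[m] ⊤ ≤ H := by
  constructor
  · intro hs
    obtain ⟨n, f, hmono, hnorm, h0, hn⟩ := Subgroup.IsSubnormal.exists_chain hs
    refine ⟨n, ?_⟩
    have key : ∀ m, m ≤ n → (fun K : Subgroup G => ⁅K, H⁆)^[m] ⊤ ≤ f (n - m) := by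
      intro m
      induction m with
      | zero => intro _; simp [hn]
      | succ m ih =>
        intro hm
        rw [Function.iterate_succ_apply']
        refine (commutator_mono (ih (by omega)) (h0 ▸ hmono (Nat.zero_le (n - (m + 1))))).trans ?_
        have h1 := hnorm (n - (m + 1))
        rw [show n - (m + 1) + 1 = n - m by omega] at h1
        have h2 : f (n - m) ≤ normalizer (f (n - (m + 1)) : Set G) :=
          (normal_subgroupOf_iff_le_normalizer (hmono (by omega))).mp h1
        rw [Subgroup.commutator_comm, Subgroup.commutator_le]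
        intro a ha b hb
        rw [commutatorElement_def, show a * b * a⁻¹ * b⁻¹ = a * (b * a⁻¹ * b⁻¹) by group]
        exact mul_mem ha ((mem_normalizer_iff.mp (h2 hb) _).mp (inv_mem ha))
    have := key n le_rfl
    rwa [Nat.sub_self, h0] at this
  · rintro ⟨m, hm⟩
    set F := fun j => (fun K : Subgroup G => ⁅K, H⁆)^[j] ⊤ with hF
    have hHN : ∀ j, H ≤ normalizer (F j : Set G) := by
      intro j
      induction j with
      | zero => intro h _; rw [mem_normalizer_iff]; simp [hF]
      | succ j ih =>
        simp only [hF, Function.iterate_succ_apply']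
        exact le_sup_right.trans (le_normalizer_commutator _ H ih)
    have hle : ∀ j, F (j + 1) ≤ F j ⊔ H := by
      intro j
      simp only [hF, Function.iterate_succ_apply']
      rw [Subgroup.commutator_le]
      intro a ha b hb
      rw [commutatorElement_def]
      exact mul_mem (mul_mem (mul_mem (mem_sup_left ha) (mem_sup_right hb))
        (inv_mem (mem_sup_left ha))) (inv_mem (mem_sup_right hb))
    have key : ∀ j, (F j ⊔ H).IsSubnormal := by
      intro j
      induction j with
      | zero => simp [hF]
      | succ j ih =>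
        refine .step _ (F j ⊔ H) (sup_le (hle j) le_sup_right) ih
          ((normal_subgroupOf_iff_le_normalizer (sup_le (hle j) le_sup_right)).mpr ?_)
        refine sup_le (fun k hk => ?_) (le_sup_right.trans le_normalizer)
        have hN : k ∈ normalizer (F (j + 1) : Set G) := by
          simp only [hF, Function.iterate_succ_apply']
          exact le_normalizer_commutator _ H (hHN j) (mem_sup_left hk)
        have hconj : ∀ h ∈ H, k * h * k⁻¹ ∈ F (j + 1) ⊔ H := by
          intro h hh
          rw [show k * h * k⁻¹ = ⁅k, h⁆ * h by rw [commutatorElement_def]; group]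
          refine mul_mem (mem_sup_left ?_) (mem_sup_right hh)
          simp only [hF, Function.iterate_succ_apply']
          exact commutator_mem_commutator hk hh
        have hk' : k⁻¹ ∈ normalizer (F (j + 1) : Set G) := inv_mem hN
        have hconj' : ∀ h ∈ H, k⁻¹ * h * k ∈ F (j + 1) ⊔ H := by
          intro h hh
          rw [show k⁻¹ * h * k = ⁅k⁻¹, h⁆ * h by rw [commutatorElement_def]; group]
          refine mul_mem (mem_sup_left ?_) (mem_sup_right hh)
          simp only [hF, Function.iterate_succ_apply']
          exact commutator_mem_commutator (inv_mem hk) hh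
        have hmap : ∀ c : G, c ∈ normalizer (F (j + 1) : Set G) →
            (∀ h ∈ H, c * h * c⁻¹ ∈ F (j + 1) ⊔ H) →
            ∀ z ∈ F (j + 1) ⊔ H, c * z * c⁻¹ ∈ F (j + 1) ⊔ H := by
          intro c hc hch z hz
          have h1 : F (j + 1) ⊔ H ≤ (F (j + 1) ⊔ H).comap (MulAut.conj c).toMonoidHom :=
            sup_le (fun y hy => mem_sup_left ((mem_normalizer_iff.mp hc y).mp hy)) hch
          exact h1 hz
        rw [mem_normalizer_iff]
        intro z
        refine ⟨hmap k hN hconj z, fun hz => ?_⟩
        have := hmap k⁻¹ hk' (fun h hh => by simpa using hconj' h hh) _ hz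
        simpa [mul_assoc] using this
    have := key m
    rwa [sup_eq_right.mpr hm] at this

end Cfsg.Agent.S0567
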