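import Cfsg.Statements.S0571
import Mathlib
import Cfsg.Agent.Lib.Supersolvable

set_option autoImplicit false
open Cfsg

namespace Cfsg.Agent.S0571

open scoped Pointwise commutatorElement

theorem core {G : Type*} [Group G] [Finite G] [Nontrivial G] (A B : Subgroup G) [IsCyclic A] [IsCyclic B]
    (hAB : ∀ g : G, ∃ a ∈ A, ∃ b ∈ B, g = a * b) (hle : Nat.card B ≤ Nat.card A) :
    ∃ X : Subgroup G, X.Normal ∧ (Nat.card X).Prime := by
  classical
  obtain ⟨⟨x, hxB⟩, hx⟩ := IsCyclic.exists_generator (α := B)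
  let A' := A.map (MulAut.conj x).toMonoidHom
  have hA : A ≠ ⊥ := by
    intro h
    have hB : Nat.card B = 1 := le_antisymm (by simpa [h] using hle) Nat.card_pos
    obtain ⟨g, hg⟩ := exists_ne (1 : G)
    obtain ⟨a, ha, b, hb, rfl⟩ := hAB g
    rw [h, Subgroup.mem_bot] at ha
    rw [Subgroup.eq_bot_of_card_eq B hB, Subgroup.mem_bot] at hb
    exact hg (by rw [ha, hb, mul_one])
  have hne : A ⊓ A' ≠ ⊥ := by
    intro h
    have hf : Function.Injective fun z : A × A' => (z.1 : G) * z.2 := by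
      rintro ⟨a, a'⟩ ⟨c, c'⟩ e
      change (a : G) * a' = c * c' at e
      have e1 : (c : G)⁻¹ * a = c' * (a' : G)⁻¹ := by
        rw [eq_mul_inv_iff_mul_eq, mul_assoc, e, inv_mul_cancel_left]
      have : (c : G)⁻¹ * a ∈ A ⊓ A' :=
        ⟨A.mul_mem (A.inv_mem c.2) a.2, by rw [e1]; exact A'.mul_mem c'.2 (A'.inv_mem a'.2)⟩
      rw [h, Subgroup.mem_bot, inv_mul_eq_one] at this
      have h2 : (c : G) = a := this
      rw [h2] at e
      exact Prod.ext (Subtype.ext h2.symm) (Subtype.ext (mul_left_cancel e))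
    have hA' : Nat.card A' = Nat.card A := Subgroup.card_map_of_injective (MulAut.conj x).injective
    have hsurj : Function.Surjective fun z : A × B => (z.1 : G) * z.2 := fun g => by
      obtain ⟨a, ha, b, hb, rfl⟩ := hAB g
      exact ⟨(⟨a, ha⟩, ⟨b, hb⟩), rfl⟩
    have h1 : Nat.card G ≤ Nat.card A * Nat.card B :=
      (Nat.card_le_card_of_surjective _ hsurj).trans_eq (Nat.card_prod _ _)
    have h2 : Nat.card G ≤ Nat.card (A × A') := by
      rw [Nat.card_prod, hA']; exact h1.trans (Nat.mul_le_mul_left _ hle)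
    obtain ⟨⟨a1, a2⟩, ha⟩ := (hf.bijective_of_nat_card_le h2).2 x⁻¹
    obtain ⟨a, ha2, ha2e⟩ := a2.2
    have h3 : (a1 : G) * x * a = 1 := by
      change (a1 : G) * a2 = x⁻¹ at ha
      rw [← ha2e] at ha
      change (a1 : G) * (x * a * x⁻¹) = x⁻¹ at ha
      rw [← mul_assoc, ← mul_assoc] at ha
      exact mul_eq_right.1 ha
    have hxA : x ∈ A := by
      have : x = (a1 : G)⁻¹ * a⁻¹ := by
        rw [eq_mul_inv_iff_mul_eq, eq_inv_iff_mul_eq_one, mul_eq_one_comm, ← mul_assoc]
        exact h3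
      rw [this]; exact mul_mem (inv_mem a1.2) (inv_mem ha2)
    apply hA
    refine le_bot_iff.1 (h ▸ le_inf le_rfl fun g hg => ?_)
    exact ⟨x⁻¹ * g * x, mul_mem (mul_mem (inv_mem hxA) hg) hxA, by simp [mul_assoc]⟩
  obtain ⟨p, hp, hpd⟩ := Nat.exists_prime_and_dvd (fun e => hne (Subgroup.eq_bot_of_card_eq _ e))
  haveI : Fact p.Prime := ⟨hp⟩
  obtain ⟨⟨y, hyA, z, hzA, hzy⟩, hy⟩ := exists_prime_orderOf_dvd_card' p hpd
  rw [← Subgroup.orderOf_coe] at hy
  change orderOf y = p at hy
  change x * z * x⁻¹ = y at hzy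
  have hz : orderOf z = p := by
    rw [← hy, ← hzy]
    exact (MulEquiv.orderOf_eq (MulAut.conj x) z).symm
  refine ⟨Subgroup.zpowers y, Subgroup.normalizer_eq_top_iff.1 (top_le_iff.1 fun g _ => ?_), by
    rw [Nat.card_zpowers, hy]; exact hp⟩
  have hzmem : z ∈ Subgroup.zpowers y := by
    haveI : Fintype A := Fintype.ofFinite _
    have h1 : (Finset.univ.filter fun w : A => w ^ p = 1).card ≤ p := IsCyclic.card_pow_eq_one_le hp.pos
    let ey : Fin p → A := fun i => (⟨y, hyA⟩ : A) ^ (i : ℕ)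
    have hey : Function.Injective ey := fun i j e => by
      have e' : y ^ (i : ℕ) = y ^ (j : ℕ) := congrArg Subtype.val e
      rw [pow_eq_pow_iff_modEq, hy] at e'
      exact Fin.ext (Nat.ModEq.eq_of_lt_of_lt e' i.2 j.2)
    have h2 : Finset.univ.image ey = Finset.univ.filter fun w : A => w ^ p = 1 := by
      refine Finset.eq_of_subset_of_card_le ?_ ?_
      · intro w hw
        obtain ⟨i, -, rfl⟩ := Finset.mem_image.1 hw
        simp only [Finset.mem_filter, Finset.mem_univ, true_and]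
        refine Subtype.ext ?_
        show (y ^ (i : ℕ)) ^ p = 1
        rw [← pow_mul, mul_comm, pow_mul, show y ^ p = 1 from orderOf_dvd_iff_pow_eq_one.1 (dvd_of_eq hy), one_pow]
      · rwa [Finset.card_image_of_injective _ hey, Finset.card_univ, Fintype.card_fin]
    have h3 : (⟨z, hzA⟩ : A) ∈ Finset.univ.filter fun w : A => w ^ p = 1 := by
      simp only [Finset.mem_filter, Finset.mem_univ, true_and]
      refine Subtype.ext ?_
      show z ^ p = 1
      exact orderOf_dvd_iff_pow_eq_one.1 (dvd_of_eq hz)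
    rw [← h2] at h3
    obtain ⟨i, -, hi⟩ := Finset.mem_image.1 h3
    rw [show z = y ^ (i : ℕ) from (congrArg Subtype.val hi).symm]
    exact pow_mem (Subgroup.mem_zpowers y) _
  have hxN : x ∈ Subgroup.normalizer (Subgroup.zpowers y : Set G) := by
    have hzp : Subgroup.zpowers z = Subgroup.zpowers y :=
      Subgroup.eq_of_le_of_card_ge (Subgroup.zpowers_le.2 hzmem) (by rw [Nat.card_zpowers, Nat.card_zpowers, hy, hz])
    refine Subgroup.mem_normalizer_iff.2 fun w => ?_
    have hm : (Subgroup.zpowers z).map (MulAut.conj x).toMonoidHom = Subgroup.zpowers y := by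
      rw [MonoidHom.map_zpowers]; exact congrArg _ hzy
    constructor
    · intro hw
      rw [← hm]
      exact ⟨w, hzp ▸ hw, rfl⟩
    · intro hw
      rw [← hm] at hw
      obtain ⟨w', hw', he⟩ := hw
      have : w' = w := (MulAut.conj x).injective he
      rw [← hzp, ← this]; exact hw'
  obtain ⟨a, ha, b, hb, rfl⟩ := hAB g
  refine mul_mem ?_ ?_
  · have hA : ∀ w ∈ Subgroup.zpowers y, a * w * a⁻¹ = w := fun w hw => by
      letI := IsCyclic.commGroup (α := A)
      rw [mul_inv_eq_iff_eq_mul]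
      exact congrArg Subtype.val (mul_comm (⟨a, ha⟩ : A) ⟨w, Subgroup.zpowers_le.2 hyA hw⟩)
    refine Subgroup.mem_normalizer_iff.2 fun w => ⟨fun hw => (hA w hw).symm ▸ hw, fun hw => ?_⟩
    have h4 := hA _ hw
    rw [mul_left_inj, mul_right_inj] at h4
    rwa [h4] at hw
  · obtain ⟨k, hk⟩ := hx ⟨b, hb⟩
    have : x ^ k = b := congrArg Subtype.val hk
    exact this ▸ zpow_mem hxN k

theorem aux.{v} : ∀ (n : ℕ) (G : Type v) [Group G] [Finite G], Nat.card G ≤ n → ∀ (A B : Subgroup G) [IsCyclic A]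
    [IsCyclic B], (∀ g : G, ∃ a ∈ A, ∃ b ∈ B, g = a * b) → Cfsg.IsSupersolvable G := by
  intro n
  induction n with
  | zero => intro G _ _ h; exact absurd h (Nat.not_le.2 Nat.card_pos)
  | succ n ih =>
    intro G _ _ hcard A B _ _ hAB
    rcases subsingleton_or_nontrivial G with hs | hnt
    · exact Cfsg.Agent.Supersolvable.of_subsingleton
    have hX : ∃ X : Subgroup G, X.Normal ∧ (Nat.card X).Prime := by
      rcases le_total (Nat.card B) (Nat.card A) with h | h
      · exact core A B hAB h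
      · refine core B A (fun g => ?_) h
        obtain ⟨a, ha, b, hb, e⟩ := hAB g⁻¹
        exact ⟨b⁻¹, inv_mem hb, a⁻¹, inv_mem ha, by rw [← mul_inv_rev, ← e, inv_inv]⟩
    obtain ⟨X, hXn, hXp⟩ := hX
    haveI := hXn
    refine Cfsg.Agent.Supersolvable.of_prime_normal X hXp ?_
    haveI : IsCyclic (A.map (QuotientGroup.mk' X)) :=
      isCyclic_of_surjective ((QuotientGroup.mk' X).subgroupMap A) ((QuotientGroup.mk' X).subgroupMap_surjective A)
    haveI : IsCyclic (B.map (QuotientGroup.mk' X)) :=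
      isCyclic_of_surjective ((QuotientGroup.mk' X).subgroupMap B) ((QuotientGroup.mk' X).subgroupMap_surjective B)
    refine ih _ ?_ (A.map (QuotientGroup.mk' X)) (B.map (QuotientGroup.mk' X)) fun g => ?_
    · have := Cfsg.Agent.Supersolvable.card_quotient_lt X (Cfsg.Agent.Supersolvable.ne_bot_of_prime hXp)
      omega
    · obtain ⟨g, rfl⟩ := QuotientGroup.mk'_surjective X g
      obtain ⟨a, ha, b, hb, rfl⟩ := hAB g
      exact ⟨_, ⟨a, ha, rfl⟩, _, ⟨b, hb, rfl⟩, map_mul _ a b⟩

/-- If a finite group G is the product AB of two cyclic subgroups (every element is a product ab), then G is supersolvable. -/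
theorem result {G : Type*} [Group G] [Finite G] (A B : Subgroup G) [IsCyclic A] [IsCyclic B] (hAB : ∀ g : G, ∃ a ∈ A, ∃ b ∈ B, g = a * b) : Cfsg.IsSupersolvable G := by
  exact aux _ G le_rfl A B hAB

end Cfsg.Agent.S0571
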