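import Mathlib
import Cfsg.Statements.S0572

set_option autoImplicit false
set_option linter.unusedVariables false
set_option linter.unusedSectionVars false
open Cfsg
open scoped commutatorElement

namespace Cfsg.Agent.S0572

open Subgroup in
theorem conj_comm {G : Type*} [Group G] (A B : Subgroup G) [IsMulCommutative A] [IsMulCommutative B]
    (hAB : ∀ g : G, ∃ a ∈ A, ∃ b ∈ B, g = a * b) {a1 b1 a b : G}
    (ha1 : a1 ∈ A) (hb1 : b1 ∈ B) (ha : a ∈ A) (hb : b ∈ B) :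
    (a1 * b1) * ⁅a, b⁆ * (a1 * b1)⁻¹ = (b1 * a1) * ⁅a, b⁆ * (b1 * a1)⁻¹ ∧
    (∃ x ∈ A, ∃ y ∈ B, a1 * ⁅a, b⁆ * a1⁻¹ = ⁅x, y⁆) ∧
    (∃ x ∈ A, ∃ y ∈ B, b1 * ⁅a, b⁆ * b1⁻¹ = ⁅x, y⁆) := by
  have hBA : ∀ g : G, ∃ y ∈ B, ∃ x ∈ A, g = y * x := by
    intro g
    obtain ⟨x, hx, y, hy, e⟩ := hAB g⁻¹
    exact ⟨y⁻¹, inv_mem hy, x⁻¹, inv_mem hx, by rw [← inv_inv g, e]; group⟩
  obtain ⟨a3, ha3, b3, hb3, e3⟩ := hAB (b1 * a * b1⁻¹)
  obtain ⟨b2, hb2, a2, ha2, e2⟩ := hBA (a1 * b * a1⁻¹)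
  have cA : ∀ {x y : G}, x ∈ A → y ∈ A → x * y = y * x := fun hx hy => setLike_mul_comm hx hy
  have cB : ∀ {x y : G}, x ∈ B → y ∈ B → x * y = y * x := fun hx hy => setLike_mul_comm hx hy
  have hB : ∀ y ∈ B, b1 * ⁅a, y⁆ * b1⁻¹ = ⁅a3, y⁆ := by
    intro y hy
    calc b1 * ⁅a, y⁆ * b1⁻¹ = (b1 * a * b1⁻¹) * (b1 * y * b1⁻¹) * (b1 * a * b1⁻¹)⁻¹ * (b1 * y * b1⁻¹)⁻¹ := by
          rw [commutatorElement_def]; group
      _ = a3 * (b3 * y * b3⁻¹) * a3⁻¹ * y⁻¹ := by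
          rw [cB hb1 hy, mul_inv_cancel_right, e3]; group
      _ = ⁅a3, y⁆ := by rw [cB hb3 hy, mul_inv_cancel_right, commutatorElement_def]
  have hA : ∀ x ∈ A, a1 * ⁅x, b⁆ * a1⁻¹ = ⁅x, b2⁆ := by
    intro x hx
    calc a1 * ⁅x, b⁆ * a1⁻¹ = (a1 * x * a1⁻¹) * (a1 * b * a1⁻¹) * (a1 * x * a1⁻¹)⁻¹ * (a1 * b * a1⁻¹)⁻¹ := by
          rw [commutatorElement_def]; group
      _ = x * b2 * (a2 * x⁻¹ * a2⁻¹) * b2⁻¹ := by
          rw [cA ha1 hx, mul_inv_cancel_right, e2]; group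
      _ = ⁅x, b2⁆ := by rw [cA ha2 (inv_mem hx), mul_inv_cancel_right, commutatorElement_def]
  refine ⟨?_, ⟨a, ha, b2, hb2, hA a ha⟩, ⟨a3, ha3, b, hb, hB b hb⟩⟩
  calc (a1 * b1) * ⁅a, b⁆ * (a1 * b1)⁻¹ = a1 * (b1 * ⁅a, b⁆ * b1⁻¹) * a1⁻¹ := by group
    _ = ⁅a3, b2⁆ := by rw [hB b hb, hA a3 ha3]
    _ = b1 * (a1 * ⁅a, b⁆ * a1⁻¹) * b1⁻¹ := by rw [hA a ha, hB b2 hb2]
    _ = _ := by group

theorem result {G : Type*} [Group G] (A B : Subgroup G) [IsMulCommutative A] [IsMulCommutative B] (hAB : ∀ g : G, ∃ a ∈ A, ∃ b ∈ B, g = a * b) : derivedSeries G 2 = ⊥ := by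
  set T : Set G := {g | ∃ a ∈ A, ∃ b ∈ B, g = ⁅a, b⁆} with hT
  have hcomm : ∀ x ∈ T, ∀ y ∈ T, x * y = y * x := by
    rintro _ ⟨a, ha, b, hb, rfl⟩ _ ⟨a1, ha1, b1, hb1, rfl⟩
    have h := (conj_comm A B hAB (inv_mem ha1) (inv_mem hb1) ha hb).1
    symm
    calc ⁅a1, b1⁆ * ⁅a, b⁆
        = a1 * b1 * ((a1⁻¹ * b1⁻¹) * ⁅a, b⁆ * (a1⁻¹ * b1⁻¹)⁻¹) * (a1⁻¹ * b1⁻¹) := by
          simp only [commutatorElement_def]; group
      _ = a1 * b1 * ((b1⁻¹ * a1⁻¹) * ⁅a, b⁆ * (b1⁻¹ * a1⁻¹)⁻¹) * (a1⁻¹ * b1⁻¹) := by rw [h]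
      _ = ⁅a, b⁆ * ⁅a1, b1⁆ := by simp only [commutatorElement_def]; group
  set N := Subgroup.closure T with hN
  have : N.Normal := by
    rw [← Subgroup.normalizer_eq_top_iff, eq_top_iff]
    intro g _
    obtain ⟨a1, ha1, b1, hb1, rfl⟩ := hAB g
    refine mul_mem ?_ ?_
    · rw [Subgroup.mem_normalizer_iff]
      intro x
      have key : ∀ c ∈ A, ∀ x ∈ N, c * x * c⁻¹ ∈ N := by
        intro c hc x hx
        induction hx using Subgroup.closure_induction with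
        | mem y hy =>
          obtain ⟨a, ha, b, hb, rfl⟩ := hy
          obtain ⟨u, hu, v, hv, e⟩ := (conj_comm A B hAB hc (one_mem B) ha hb).2.1
          exact Subgroup.subset_closure ⟨u, hu, v, hv, e⟩
        | one => simp
        | mul y z _ _ hy hz => simpa [mul_assoc] using mul_mem hy hz
        | inv y _ hy => simpa [mul_assoc] using inv_mem hy
      exact ⟨key a1 ha1 x, fun h => by simpa [mul_assoc] using key a1⁻¹ (inv_mem ha1) _ h⟩
    · rw [Subgroup.mem_normalizer_iff]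
      intro x
      have key : ∀ c ∈ B, ∀ x ∈ N, c * x * c⁻¹ ∈ N := by
        intro c hc x hx
        induction hx using Subgroup.closure_induction with
        | mem y hy =>
          obtain ⟨a, ha, b, hb, rfl⟩ := hy
          obtain ⟨u, hu, v, hv, e⟩ := (conj_comm A B hAB (one_mem A) hc ha hb).2.2
          exact Subgroup.subset_closure ⟨u, hu, v, hv, e⟩
        | one => simp
        | mul y z _ _ hy hz => simpa [mul_assoc] using mul_mem hy hz
        | inv y _ hy => simpa [mul_assoc] using inv_mem hy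
      exact ⟨key b1 hb1 x, fun h => by simpa [mul_assoc] using key b1⁻¹ (inv_mem hb1) _ h⟩
  have hle : commutator G ≤ N := by
    rw [commutator_def, Subgroup.commutator_le]
    intro g _ h _
    obtain ⟨a, ha, b, hb, rfl⟩ := hAB g
    obtain ⟨c, hc, d, hd, rfl⟩ := hAB h
    let π := QuotientGroup.mk' N
    have hab : ∀ {x y : G}, x ∈ A → y ∈ B → π x * π y = π y * π x := by
      intro x y hx hy
      have : π ⁅x, y⁆ = 1 :=
        (QuotientGroup.eq_one_iff _).mpr (Subgroup.subset_closure ⟨x, hx, y, hy, rfl⟩)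
      rw [map_commutatorElement, commutatorElement_eq_one_iff_mul_comm] at this
      exact this
    have hac : Commute (π a) (π c) := by
      show π a * π c = π c * π a
      rw [← map_mul, ← map_mul, setLike_mul_comm ha hc]
    have hbd : Commute (π b) (π d) := by
      show π b * π d = π d * π b
      rw [← map_mul, ← map_mul, setLike_mul_comm hb hd]
    rw [← QuotientGroup.eq_one_iff]
    show π ⁅a * b, c * d⁆ = 1
    rw [map_commutatorElement, commutatorElement_eq_one_iff_mul_comm, map_mul, map_mul]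
    have h1 : Commute (π a * π b) (π c) := hac.mul_left (hab hc hb).symm
    have h2 : Commute (π a * π b) (π d) := Commute.mul_left (hab ha hd) hbd
    exact h1.mul_right h2
  show ⁅derivedSeries G 1, derivedSeries G 1⁆ = ⊥
  rw [derivedSeries_one, eq_bot_iff, Subgroup.commutator_le]
  intro x hx y hy
  have hx' := hle hx
  have hy' := hle hy
  have : IsMulCommutative N := Subgroup.isMulCommutative_closure hcomm
  rw [Subgroup.mem_bot, commutatorElement_eq_one_iff_mul_comm]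
  exact setLike_mul_comm hx' hy'

end Cfsg.Agent.S0572
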