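import Mathlib
import Cfsg.Agent.Lib.HallSolvable
import Cfsg.Agent.Lib.PGroupsBasic
import Cfsg.Agent.S0572
import Cfsg.Statements.S0573

set_option autoImplicit false
set_option linter.unusedVariables false
set_option linter.unusedSectionVars false
open Cfsg

namespace Cfsg.Agent.S0573

open Subgroup
open scoped commutatorElement

/-- If `G = AB` then the index of `A` divides the order of `B`. -/
theorem index_dvd_of_mul {G : Type*} [Group G] [Finite G] (A B : Subgroup G)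
    (hAB : ∀ g : G, ∃ a ∈ A, ∃ b ∈ B, g = a * b) : A.index ∣ Nat.card B := by
  haveI : MulAction.IsPretransitive B (G ⧸ A) := by
    refine (MulAction.isPretransitive_iff_base ((1 : G) : G ⧸ A)).mpr ?_
    intro x
    obtain ⟨g, rfl⟩ := QuotientGroup.mk_surjective x
    obtain ⟨a, ha, b, hb, h⟩ := hAB g⁻¹
    refine ⟨⟨b, hb⟩⁻¹, ?_⟩
    show ((b⁻¹ * 1 : G) : G ⧸ A) = (g : G ⧸ A)
    rw [QuotientGroup.eq, show g = b⁻¹ * a⁻¹ by rw [← mul_inv_rev, ← h, inv_inv]]
    simpa [mul_assoc] using ha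
  have h := MulAction.index_stabilizer_of_transitive B ((1 : G) : G ⧸ A)
  rw [← A.index_eq_card] at h
  exact ⟨_, by rw [← h, mul_comm]; exact ((MulAction.stabilizer B ((1 : G) : G ⧸ A)).card_mul_index).symm⟩

theorem metabelian_conj {G : Type*} [Group G] {M : Subgroup G} [M.Normal]
    (hN : derivedSeries G 2 = ⊥) (hM : M ≤ commutator G) (g h : G) {m : G} (hm : m ∈ M) :
    g * h * m * (g * h)⁻¹ = h * g * m * (h * g)⁻¹ := by
  have hc : ⁅g, h⁆ ∈ commutator G := commutator_mem_commutator (mem_top g) (mem_top h)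
  have hx : h * g * m * (h * g)⁻¹ ∈ commutator G := hM ((‹M.Normal›).conj_mem m hm _)
  rw [show derivedSeries G 2 = ⁅commutator G, commutator G⁆ by
    rw [derivedSeries_succ, derivedSeries_one]] at hN
  have h1 := commutator_eq_bot_iff_le_centralizer.mp hN hc
  have h2 := mem_centralizer_iff.mp h1 _ hx
  rw [commutatorElement_def] at h2
  calc g * h * m * (g * h)⁻¹ =
      (g * h * g⁻¹ * h⁻¹) * (h * g * m * (h * g)⁻¹) * (g * h * g⁻¹ * h⁻¹)⁻¹ := by group
    _ = h * g * m * (h * g)⁻¹ := by rw [← h2]; group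

theorem inf_centralizer_normal {G : Type*} [Group G] {M : Subgroup G} [M.Normal]
    (hN : derivedSeries G 2 = ⊥) (hM : M ≤ commutator G) (C : Subgroup G) :
    (M ⊓ centralizer (C : Set G)).Normal := by
  refine ⟨fun m hm g => ?_⟩
  obtain ⟨hm, hc⟩ := mem_inf.mp hm
  refine mem_inf.mpr ⟨(‹M.Normal›).conj_mem m hm g, mem_centralizer_iff.mpr fun c hcC => ?_⟩
  have h1 := metabelian_conj hN hM c g hm
  have h2 : c * m * c⁻¹ = m := by rw [mem_centralizer_iff.mp hc c hcC, mul_inv_cancel_right]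
  have h3 : c * (g * m * g⁻¹) * c⁻¹ = g * m * g⁻¹ := by
    calc c * (g * m * g⁻¹) * c⁻¹ = c * g * m * (c * g)⁻¹ := by group
      _ = g * c * m * (g * c)⁻¹ := h1
      _ = g * (c * m * c⁻¹) * g⁻¹ := by group
      _ = g * m * g⁻¹ := by rw [h2]
  exact mul_inv_eq_iff_eq_mul.mp h3

theorem key {G : Type*} [Group G] [Finite G] (A B : Subgroup G) (hA : IsMulCommutative A)
    (hZ : center G = ⊥) (hAB : ∀ g : G, ∃ a ∈ A, ∃ b ∈ B, g = a * b) (hB : IsMulCommutative B)
    (hno : ∀ N : Subgroup G, N.Normal → N ≠ ⊥ → ¬ N ≤ A) {M : Subgroup G}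
    (hMm : HallSolvable.IsMinNormal M) [M.Normal]
    (hN : derivedSeries G 2 = ⊥) (hM : M ≤ commutator G) : A ⊓ M = ⊥ := by
  haveI := hA
  have h0 : M ⊓ centralizer (A : Set G) = ⊥ := by
    haveI := inf_centralizer_normal hN hM A
    by_contra hne
    have he := hMm.eq_of_le (K := M ⊓ centralizer (A : Set G)) inf_le_left hne
    refine hno M inferInstance hMm.ne_bot fun m hm => ?_
    have hmA : ∀ c ∈ A, c * m = m * c := fun c hc =>
      mem_centralizer_iff.mp (mem_inf.mp (he.symm ▸ hm : m ∈ M ⊓ centralizer (A : Set G))).2 c hc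
    obtain ⟨a, ha, b, hb, rfl⟩ := hAB m
    have hbc : b ∈ center G := by
      rw [mem_center_iff]
      intro g
      obtain ⟨a', ha', b', hb', rfl⟩ := hAB g
      have h1 : a' * b = b * a' := by
        have := hmA a' ha'
        rw [← mul_assoc, setLike_mul_comm ha' ha, mul_assoc, mul_assoc] at this
        exact mul_left_cancel this
      haveI := hB
      rw [mul_assoc, setLike_mul_comm hb' hb, ← mul_assoc, h1, mul_assoc]
    rw [hZ, mem_bot] at hbc
    rw [hbc, mul_one]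
    exact ha
  rw [eq_bot_iff, ← h0]
  exact le_inf inf_le_right (inf_le_left.trans fun a ha =>
    mem_centralizer_iff.mpr fun c hc => setLike_mul_comm hc ha)

theorem aut_coprime {G W : Type*} [Group G] [Finite G] [Group W] (p : ℕ) [Fact p.Prime] (A : Subgroup G)
    (φ : G →* W) (h : ∀ a ∈ A, ∀ k : ℕ, a ^ p ^ k = 1 → φ a = 1) : ¬ p ∣ Nat.card (A.map φ) := by
  intro hd
  haveI : Finite (A.map φ) := Finite.of_surjective _ (φ.subgroupMap_surjective A)
  obtain ⟨⟨x, hx⟩, hord⟩ := exists_prime_orderOf_dvd_card' p hd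
  obtain ⟨a, ha, rfl⟩ := hx
  replace hord : orderOf (φ a) = p := (Subgroup.orderOf_coe _).trans hord
  obtain ⟨k, r, hr, hkr⟩ := Nat.exists_eq_pow_mul_and_not_dvd (n := orderOf a) (orderOf_pos a).ne' p
    (Fact.out : p.Prime).ne_one
  have h1 : φ (a ^ r) = 1 := h _ (pow_mem ha r) k (by
    rw [← pow_mul, mul_comm, ← hkr, pow_orderOf_eq_one])
  rw [map_pow] at h1
  exact hr (hord ▸ orderOf_dvd_of_pow_eq_one h1)

theorem result {G : Type*} [Group G] [Finite G] [Nontrivial G] (A B : Subgroup G) [IsMulCommutative A] [IsMulCommutative B] (hAB : ∀ g : G, ∃ a ∈ A, ∃ b ∈ B, g = a * b) : ∃ N : Subgroup G, N.Normal ∧ N ≠ ⊥ ∧ (N ≤ A ∨ N ≤ B) := by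
  by_contra hc
  push Not at hc
  have hno : ∀ N : Subgroup G, N.Normal → N ≠ ⊥ → ¬ N ≤ A ∧ ¬ N ≤ B := fun N h1 h2 => hc N h1 h2
  have hAi : IsMulCommutative A := inferInstance
  have hBi : IsMulCommutative B := inferInstance
  have hZ : center G = ⊥ := by
    have hA' : ∀ a ∈ A, a ∈ center G → a = 1 := fun a ha hac => by
      by_contra h1
      exact (hno (zpowers a) (PGroupsBasic.normal_of_le_center (zpowers_le.mpr hac))
        (by simpa using h1)).1 (zpowers_le.mpr ha)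
    have hB' : ∀ a ∈ B, a ∈ center G → a = 1 := fun a ha hac => by
      by_contra h1
      exact (hno (zpowers a) (PGroupsBasic.normal_of_le_center (zpowers_le.mpr hac))
        (by simpa using h1)).2 (zpowers_le.mpr ha)
    rw [eq_bot_iff]
    intro z hz
    rw [mem_bot]
    obtain ⟨a, ha, b, hb, rfl⟩ := hAB z
    have hac : a ∈ center G := by
      rw [mem_center_iff]
      intro g
      obtain ⟨a', ha', b', hb', rfl⟩ := hAB g
      have h1 : b' * a = a * b' := by
        have h2 := mem_center_iff.mp hz b'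
        calc b' * a = b' * (a * b) * b⁻¹ := by group
          _ = a * b * b' * b⁻¹ := by rw [h2]
          _ = a * (b' * b) * b⁻¹ := by rw [setLike_mul_comm hb' hb]; group
          _ = a * b' := by group
      rw [mul_assoc, h1, ← mul_assoc, setLike_mul_comm ha' ha, mul_assoc]
    have hbc : b ∈ center G := by simpa using mul_mem (inv_mem hac) hz
    rw [hA' a ha hac, hB' b hb hbc, one_mul]
  have hABd : A ⊓ B = ⊥ := by
    rw [eq_bot_iff, ← hZ]
    rintro x ⟨hxA, hxB⟩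
    rw [mem_center_iff]
    intro g
    obtain ⟨a, ha, b, hb, rfl⟩ := hAB g
    rw [mul_assoc, setLike_mul_comm hb hxB, ← mul_assoc, setLike_mul_comm ha hxA, mul_assoc]
  have hN := S0572.result A B hAB
  have hNne : commutator G ≠ ⊥ := by
    intro h0
    apply (top_ne_bot : (⊤ : Subgroup G) ≠ ⊥)
    rw [← hZ]
    refine (eq_top_iff.mpr fun x _ => mem_center_iff.mpr fun g => ?_).symm
    exact commutatorElement_eq_one_iff_mul_comm.mp
      (mem_bot.mp (h0 ▸ commutator_mem_commutator (mem_top g) (mem_top x)))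
  haveI : Group.IsSolvable G := ⟨⟨2, hN⟩⟩
  obtain ⟨M, hMm, hMN⟩ := HallSolvable.exists_minNormal_le hNne
  haveI := hMm.normal
  obtain ⟨p, hp, ⟨hMcomm, hMp⟩, hMpg⟩ := hMm.exists_prime
  have hMab : ∀ x ∈ M, ∀ y ∈ M, x * y = y * x := fun x hx y hy => PGroupsBasic.comm_of_isMulCommutative hMcomm hx hy
  haveI := Fact.mk hp
  have hAM := key A B hAi hZ hAB hBi (fun N h1 h2 => (hno N h1 h2).1) hMm hN hMN
  have hBM := key B A hBi hZ (fun g => by
    obtain ⟨a, ha, b, hb, h⟩ := hAB g⁻¹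
    exact ⟨b⁻¹, inv_mem hb, a⁻¹, inv_mem ha, by rw [← inv_inv g, h, mul_inv_rev]⟩) hAi
    (fun N h1 h2 => (hno N h1 h2).2) hMm hN hMN
  -- `p`-elements centralise `M`
  have hpM : ∀ x : G, (∃ k : ℕ, x ^ p ^ k = 1) → ∀ m ∈ M, x * m = m * x := by
    rintro x ⟨k, hk⟩
    haveI := inf_centralizer_normal hN hMN (zpowers x)
    have hne : M ⊓ centralizer (zpowers x : Set G) ≠ ⊥ := by
      have hx : IsPGroup p (zpowers x) := by
        rintro ⟨y, i, rfl⟩
        exact ⟨k, Subtype.ext (by simp only [coe_pow, OneMemClass.coe_one]; rw [← zpow_natCast (x ^ i), ← zpow_mul,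
          mul_comm, zpow_mul, zpow_natCast, hk, one_zpow])⟩
      have hP : IsPGroup p ↥(M ⊔ zpowers x) := hMpg.to_sup_of_normal_left hx
      have hMne : M.subgroupOf (M ⊔ zpowers x) ≠ ⊥ := by
        rw [ne_eq, subgroupOf_eq_bot, disjoint_iff, inf_eq_left.mpr le_sup_left]
        exact hMm.ne_bot
      have h2 := PGroupsBasic.inf_center_ne_bot hP hMne
      intro h0
      apply h2
      rw [eq_bot_iff]
      rintro z ⟨hz1, hz2⟩
      refine mem_bot.mpr (Subtype.ext (mem_bot.mp (h0 ▸ mem_inf.mpr ⟨hz1, mem_centralizer_iff.mpr fun c hc => ?_⟩)))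
      exact congrArg Subtype.val (mem_center_iff.mp hz2 ⟨c, mem_sup_right hc⟩)
    have he := hMm.eq_of_le (K := M ⊓ centralizer (zpowers x : Set G)) inf_le_left hne
    exact fun m hm => mem_centralizer_iff.mp
      (mem_inf.mp (he.symm ▸ hm : m ∈ M ⊓ centralizer (zpowers x : Set G))).2 x (mem_zpowers x)
  set Y := (A ⊔ M) ⊓ (B ⊔ M) with hYd
  have hYM : M ≤ Y := le_inf le_sup_right le_sup_right
  have hYn : Y.Normal := by
    have hstep : ∀ (C : Subgroup G), IsMulCommutative C → Y ≤ C ⊔ M →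
        ∀ c ∈ C, ∀ y ∈ Y, c * y * c⁻¹ ∈ Y := by
      intro C hC hle c hcC y hy
      haveI := hC
      obtain ⟨a, ha, m, hm, e⟩ := mem_sup_of_normal_right.mp (hle hy)
      have : c * y * c⁻¹ = y * (m⁻¹ * (c * m * c⁻¹)) := by
        rw [← e]
        calc c * (a * m) * c⁻¹ = c * a * (m * c⁻¹) := by group
          _ = a * c * (m * c⁻¹) := by rw [setLike_mul_comm hcC ha]
          _ = _ := by group
      rw [this]
      exact mul_mem hy (hYM (mul_mem (inv_mem hm) (hMm.normal.conj_mem m hm c)))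
    refine ⟨fun y hy g => ?_⟩
    obtain ⟨a, ha, b, hb, rfl⟩ := hAB g
    rw [show a * b * y * (a * b)⁻¹ = a * (b * y * b⁻¹) * a⁻¹ by group]
    exact hstep A hAi inf_le_left a ha _ (hstep B hBi inf_le_right b hb y hy)
  set B₁ := B ⊓ (A ⊔ M) with hB₁
  have hB₁c : Nat.card B₁ = Nat.card M := by
    have h1 : Nat.card A * Nat.card B₁ = Nat.card ↥(A ⊔ M) := by
      rw [← Nat.card_prod]
      refine Nat.card_eq_of_bijective (fun x : A × B₁ =>
        (⟨x.1.1 * x.2.1, mul_mem (mem_sup_left x.1.2) x.2.2.2⟩ : ↥(A ⊔ M))) ⟨?_, ?_⟩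
      · rintro ⟨⟨a, ha⟩, ⟨b, hb⟩⟩ ⟨⟨a', ha'⟩, ⟨b', hb'⟩⟩ h
        have h' : a * b = a' * b' := congrArg Subtype.val h
        have h2 : a'⁻¹ * a = b' * b⁻¹ := by
          calc a'⁻¹ * a = a'⁻¹ * (a * b) * b⁻¹ := by group
            _ = _ := by rw [h']; group
        have h3 : a'⁻¹ * a = 1 := mem_bot.mp (hABd ▸ mem_inf.mpr
          ⟨mul_mem (inv_mem ha') ha, h2 ▸ mul_mem hb'.1 (inv_mem hb.1)⟩)
        obtain rfl := (inv_mul_eq_one.mp h3).symm
        obtain rfl := mul_left_cancel h'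
        rfl
      · rintro ⟨z, hz⟩
        obtain ⟨a, ha, b, hb, rfl⟩ := hAB z
        exact ⟨(⟨a, ha⟩, ⟨b, hb, by simpa using mul_mem (inv_mem (mem_sup_left ha : a ∈ A ⊔ M)) hz⟩), rfl⟩
    have h2 : Nat.card ↥(A ⊔ M) = Nat.card M * Nat.card A := by
      rw [sup_comm, PGroupsBasic.card_sup_of_normal (by rw [inf_comm]; exact hAM)]
    rw [h2, mul_comm (Nat.card M)] at h1
    exact Nat.eq_of_mul_eq_mul_left Nat.card_pos h1
  have hYle : Y ≤ B₁ ⊔ M := by
    intro y hy
    obtain ⟨b, hb, m, hm, e⟩ := mem_sup_of_normal_right.mp hy.2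
    have : b ∈ A ⊔ M := by
      have h := mul_mem (mem_inf.mp hy).1 (inv_mem (mem_sup_right hm : m ∈ A ⊔ M))
      rwa [← e, mul_inv_cancel_right] at h
    exact e ▸ mul_mem (mem_sup_left ⟨hb, this⟩) (mem_sup_right hm)
  have hYp : IsPGroup p Y := by
    obtain ⟨k, hk⟩ := IsPGroup.iff_card.mp hMpg
    exact ((IsPGroup.of_card (hB₁c.trans hk)).to_sup_of_normal_right hMpg).to_le hYle
  have hYdec : ∀ (C : Subgroup G), Y ≤ C ⊔ M → ∀ y ∈ Y, ∃ a ∈ C, ∃ m ∈ M,
      (∀ m' ∈ M, a * m' = m' * a) ∧ a * m = y := by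
    intro C hle y hy
    obtain ⟨a, ha, m, hm, e⟩ := mem_sup_of_normal_right.mp (hle hy)
    refine ⟨a, ha, m, hm, hpM a ?_, e⟩
    have haY : a ∈ Y := by
      have h := mul_mem hy (inv_mem (hYM hm))
      rwa [← e, mul_inv_cancel_right] at h
    obtain ⟨k, hk⟩ := hYp ⟨a, haY⟩
    exact ⟨k, congrArg Subtype.val hk⟩
  have hYcen : ∀ (C : Subgroup G), IsMulCommutative C → Y ≤ C ⊔ M → ∀ x ∈ C,
      (∀ m ∈ M, x * m = m * x) → ∀ y ∈ Y, x * y = y * x := by
    intro C hC hle x hx hxm y hy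
    haveI := hC
    obtain ⟨a, ha, m, hm, -, rfl⟩ := hYdec C hle y hy
    rw [← mul_assoc, setLike_mul_comm hx ha, mul_assoc, hxm m hm, mul_assoc]
  have hYab : ∀ x ∈ Y, ∀ y ∈ Y, x * y = y * x := by
    intro x hx y hy
    obtain ⟨a, ha, m, hm, hac, rfl⟩ := hYdec A inf_le_left x hx
    have hmy : m * y = y * m := by
      obtain ⟨a', ha', m', hm', hac', rfl⟩ := hYdec A inf_le_left y hy
      rw [← mul_assoc, ← hac' m hm, mul_assoc, (hMab m hm m' hm'), mul_assoc]
    rw [mul_assoc, hmy, ← mul_assoc, hYcen A hAi inf_le_left a ha hac y hy, mul_assoc]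
  obtain ⟨b, hbB, hb1⟩ : ∃ b ∈ B₁, b ≠ 1 := by
    refine B₁.bot_or_exists_ne_one.resolve_left fun h0 => ?_
    rw [h0, card_bot] at hB₁c
    exact hMm.ne_bot (eq_bot_of_card_eq M hB₁c.symm)
  have hbY : b ∈ Y := ⟨hbB.2, mem_sup_left hbB.1⟩
  have hbM : b ∉ M := fun h => hb1 (mem_bot.mp (hBM ▸ mem_inf.mpr ⟨hbB.1, h⟩))
  -- the action on `Y`
  haveI := hYn
  let φ : G →* MulAut Y := MulAut.conjNormal
  have hker : ∀ (C : Subgroup G), IsMulCommutative C → Y ≤ C ⊔ M → ∀ a ∈ C, ∀ k : ℕ,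
      a ^ p ^ k = 1 → φ a = 1 := by
    intro C hC hle a ha k hk
    ext y
    show (MulAut.conjNormal a y : G) = y
    rw [MulAut.conjNormal_apply, hYcen C hC hle a ha (hpM a ⟨k, hk⟩) y y.2, mul_inv_cancel_right]
  haveI : Finite (MulAut Y) := Finite.of_injective (fun f => (f : Y → Y)) DFunLike.coe_injective
  set R := φ.range with hR
  have hRcop : ¬ p ∣ Nat.card R := by
    have h1 := index_dvd_of_mul ((A.map φ.rangeRestrict)) (B.map φ.rangeRestrict) (by
      rintro ⟨_, g, rfl⟩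
      obtain ⟨a, ha, b, hb, rfl⟩ := hAB g
      exact ⟨φ.rangeRestrict a, ⟨a, ha, rfl⟩, φ.rangeRestrict b, ⟨b, hb, rfl⟩,
        Subtype.ext (map_mul φ a b)⟩)
    intro hd
    rw [← (A.map φ.rangeRestrict).card_mul_index] at hd
    have hh : ∀ (C : Subgroup G), IsMulCommutative C → Y ≤ C ⊔ M →
        ¬ p ∣ Nat.card (C.map φ.rangeRestrict) := fun C hC hle =>
      aut_coprime p C φ.rangeRestrict fun a ha k hk => Subtype.ext (hker C hC hle a ha k hk)
    rcases hp.dvd_mul.mp hd with h | h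
    · exact hh A hAi inf_le_left h
    · exact hh B hBi inf_le_right (h.trans h1)
  letI : CommGroup Y :=
    { (inferInstance : Group Y) with mul_comm := fun x y => Subtype.ext (hYab x x.2 y y.2) }
  haveI : Fintype R := Fintype.ofFinite R
  let y₀ : Y := ⟨b, hbY⟩
  let z : Y := ∏ r : R, (r : MulAut Y) y₀
  have hzfix : ∀ r : R, (r : MulAut Y) z = z := by
    intro r
    show (r : MulAut Y) (∏ s : R, (s : MulAut Y) y₀) = _
    rw [map_prod]
    exact Fintype.prod_equiv (Equiv.mulLeft r) _ _ fun s => rfl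
  have hzc : (z : G) ∈ center G := by
    rw [mem_center_iff]
    intro g
    have := congrArg Subtype.val (hzfix ⟨φ g, g, rfl⟩)
    rw [show ((φ g) z : G) = g * (z : G) * g⁻¹ from MulAut.conjNormal_apply g z] at this
    exact mul_inv_eq_iff_eq_mul.mp this
  rw [hZ, mem_bot] at hzc
  have hmemM : (y₀ ^ Nat.card R : Y) ∈ M.subgroupOf Y := by
    have h1 : z * (y₀ ^ Nat.card R)⁻¹ ∈ M.subgroupOf Y := by
      have : z * (y₀ ^ Nat.card R)⁻¹ = ∏ r : R, (r : MulAut Y) y₀ * y₀⁻¹ := by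
        rw [Finset.prod_mul_distrib, Finset.prod_const, Finset.card_univ, ← Nat.card_eq_fintype_card,
          inv_pow]
      rw [this]
      refine prod_mem fun r _ => ?_
      obtain ⟨g, hg⟩ := r.2
      rw [← hg]
      obtain ⟨a, ha, b', hb', rfl⟩ := hAB g
      rw [mem_subgroupOf]
      show (MulAut.conjNormal (a * b') y₀ : G) * b⁻¹ ∈ M
      rw [MulAut.conjNormal_apply]
      obtain ⟨c, hc, m, hm, hcc, he⟩ := hYdec A inf_le_left b hbY
      haveI := hBi
      show a * b' * b * (a * b')⁻¹ * b⁻¹ ∈ M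
      have e1 : b' * b * b'⁻¹ = b := by rw [setLike_mul_comm hb' hbB.1, mul_inv_cancel_right]
      have e2 : a * b' * b * (a * b')⁻¹ * b⁻¹ = a * m * a⁻¹ * m⁻¹ := by
        calc a * b' * b * (a * b')⁻¹ * b⁻¹ = a * (b' * b * b'⁻¹) * a⁻¹ * b⁻¹ := by group
          _ = a * b * a⁻¹ * b⁻¹ := by rw [e1]
          _ = a * (c * m) * a⁻¹ * (c * m)⁻¹ := by rw [he]
          _ = (a * c) * (m * a⁻¹ * m⁻¹) * c⁻¹ := by group
          _ = (c * a) * (m * a⁻¹ * m⁻¹) * c⁻¹ := by rw [setLike_mul_comm ha hc]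
          _ = c * (a * m * a⁻¹ * m⁻¹) * c⁻¹ := by group
          _ = a * m * a⁻¹ * m⁻¹ := by
            rw [hcc _ (mul_mem (hMm.normal.conj_mem m hm a) (inv_mem hm)), mul_inv_cancel_right]
      rw [e2]
      exact mul_mem (hMm.normal.conj_mem m hm a) (inv_mem hm)
    rw [show z = 1 from Subtype.ext hzc, one_mul] at h1
    exact inv_mem_iff.mp h1
  obtain ⟨k, hk⟩ := hYp y₀
  apply hbM
  have hco : (orderOf y₀).Coprime (Nat.card R) :=
    ((hp.coprime_iff_not_dvd.mpr hRcop).pow_left k).coprime_dvd_left (orderOf_dvd_of_pow_eq_one hk)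
  obtain ⟨t, ht⟩ := exists_pow_eq_self_of_coprime hco.symm
  have hzp : y₀ ∈ zpowers (y₀ ^ Nat.card R) := ⟨(t : ℤ), by simpa using ht⟩
  have := zpowers_le.mpr hmemM hzp
  exact this

end Cfsg.Agent.S0573
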