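import Mathlib
import Cfsg.Agent.S0572
import Cfsg.Agent.Lib.KegelWielandt
import Cfsg.Agent.Lib.HallSolvable
import Cfsg.Statements.S0574

set_option autoImplicit false
set_option linter.unusedVariables false
set_option linter.unusedSectionVars false
open Cfsg

namespace Cfsg.Agent.S0574

universe u

open Subgroup HallSolvable
open scoped commutatorElement

/-- A nontrivial central commutator subgroup meets a metabelian normal subgroup. -/
theorem exists_metabelian {G : Type u} [Group G] [Finite G] [Group.IsSolvable G] (A B : Subgroup G)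
    [IsMulCommutative A] (hAB : ∀ g : G, ∃ a ∈ A, ∃ b ∈ B, g = a * b)
    (hc : ∀ b ∈ B, ∀ z ∈ ⁅B, B⁆, Commute b z) (hne : ⁅B, B⁆ ≠ ⊥) :
    ∃ N : Subgroup G, N.Normal ∧ N ⊓ ⁅B, B⁆ ≠ ⊥ ∧
      ⁅⁅N, N⁆, ⁅N, N⁆⁆ = ⊥ := by
  obtain ⟨R, ⟨hRn, hRC⟩, hmax⟩ :=
    (Set.toFinite {K : Subgroup G | K.Normal ∧ K ⊓ ⁅B, B⁆ = ⊥}).exists_maximal
      ⟨⊥, inferInstance, bot_inf_eq _⟩
  haveI := hRn
  set f := QuotientGroup.mk' R with hf
  have hfs : Function.Surjective f := QuotientGroup.mk'_surjective R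
  haveI : Group.IsSolvable (G ⧸ R) := Group.isSolvable_of_surjective hfs
  have hker : ∀ x : G, f x = 1 ↔ x ∈ R := fun x => QuotientGroup.eq_one_iff x
  have htop : (⊤ : Subgroup (G ⧸ R)) ≠ ⊥ := by
    intro h
    apply hne
    rw [← hRC, right_eq_inf]
    intro x _
    have hx : f x ∈ (⊥ : Subgroup (G ⧸ R)) := h ▸ mem_top _
    exact (hker x).mp (mem_bot.mp hx)
  obtain ⟨V, hV, -⟩ := exists_minNormal_le htop
  haveI := hV.normal
  haveI := hV.commutative_of_solvable
  set N := V.comap f with hN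
  haveI hNn : N.Normal := hV.normal.comap f
  have hRN : R ≤ N := fun x hx => by
    rw [hN, mem_comap, (hker x).mpr hx]; exact one_mem _
  have hNC : N ⊓ ⁅B, B⁆ ≠ ⊥ := by
    intro h
    apply hV.ne_bot
    rw [eq_bot_iff]
    intro v hv
    obtain ⟨x, rfl⟩ := hfs v
    exact mem_bot.mpr ((hker x).mpr (hmax ⟨hNn, h⟩ hRN (mem_comap.mpr hv)))
  refine ⟨N, hNn, hNC, ?_⟩
  obtain ⟨⟨z, hz⟩, hz1⟩ := Subgroup.ne_bot_iff_exists_ne_one.mp hNC
  obtain ⟨hzN, hzC⟩ := mem_inf.mp hz
  have hzR : f z ≠ 1 := fun h => hz1 (Subtype.ext (by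
    have h' : z ∈ R ⊓ ⁅B, B⁆ := mem_inf.mpr ⟨(hker z).mp h, hzC⟩
    rw [hRC] at h'; exact mem_bot.mp h'))
  set T := A ⊔ N with hT
  have hTset : ∀ t ∈ T, ∃ a ∈ A, ∃ n ∈ N, t = a * n := by
    intro t ht
    have ht' : t ∈ (↑(A ⊔ N) : Set G) := ht
    rw [Subgroup.mul_normal A N] at ht'
    obtain ⟨a, ha, n, hn, rfl⟩ := ht'
    exact ⟨a, ha, n, hn, rfl⟩
  set W : Subgroup G := B ⊓ T with hW
  have key : ∀ x ∈ W, ∃ a ∈ A, ∃ v ∈ V, f x = f a * v ∧ ∀ w ∈ V, Commute (f a) w := by
    intro x hx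
    obtain ⟨hxB, hxT⟩ := mem_inf.mp hx
    obtain ⟨a, ha, n, hn, rfl⟩ := hTset x hxT
    refine ⟨a, ha, f n, mem_comap.mp hn, map_mul f a n, ?_⟩
    have h1 : Commute (f a) (f z) := by
      have h2 : Commute (f (a * n)) (f z) := (hc _ hxB z hzC).map f
      have h3 : Commute (f n) (f z) :=
        congrArg Subtype.val (mul_comm' (⟨f n, mem_comap.mp hn⟩ : V) ⟨f z, mem_comap.mp hzN⟩)
      rw [map_mul] at h2
      have := h2.mul_left h3.inv_left
      rwa [mul_inv_cancel_right] at this
    have hsub : Subgroup.normalClosure ({f z} : Set (G ⧸ R)) ≤ Subgroup.centralizer {f a} := by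
      refine Subgroup.closure_le _ |>.mpr ?_
      intro w hw
      obtain ⟨s, hs, hw⟩ := Group.mem_conjugatesOfSet_iff.mp hw
      rw [Set.mem_singleton_iff] at hs
      subst hs
      obtain ⟨q, rfl⟩ := isConj_iff.mp hw
      obtain ⟨g, rfl⟩ := hfs q
      obtain ⟨a', ha', b, hb, rfl⟩ := hAB g
      rw [SetLike.mem_coe, mem_centralizer_singleton_iff]
      have h4 : f b * f z * (f b)⁻¹ = f z := by
        rw [((hc b hb z hzC).map f).eq, mul_inv_cancel_right]
      have h5 : Commute (f a) (f a') := by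
        have := congrArg Subtype.val (mul_comm' (⟨a, ha⟩ : A) ⟨a', ha'⟩)
        exact Commute.map (this : a * a' = a' * a) f
      have h6 : f (a' * b) * f z * (f (a' * b))⁻¹ = f a' * f z * (f a')⁻¹ := by
        calc f (a' * b) * f z * (f (a' * b))⁻¹ = f a' * (f b * f z * (f b)⁻¹) * (f a')⁻¹ := by
              rw [map_mul, mul_inv_rev]; group
          _ = _ := by rw [h4]
      rw [h6]
      exact (((h5.mul_right h1).mul_right h5.inv_right).symm).eq
    have hVeq : Subgroup.normalClosure ({f z} : Set (G ⧸ R)) = V := by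
      refine hV.eq_of_le (Subgroup.normalClosure_le_normal ?_) ?_
      · simpa using mem_comap.mp hzN
      · intro h
        exact hzR (mem_bot.mp (h ▸ Subgroup.subset_normalClosure rfl))
    intro w hw
    rw [← hVeq] at hw
    exact (mem_centralizer_singleton_iff.mp (hsub hw) : w * f a = f a * w).symm
  haveI hWc : IsMulCommutative (W.subgroupOf T) := by
    refine ⟨⟨fun x y => ?_⟩⟩
    have hx : ((x : T) : G) ∈ W := x.2
    have hy : ((y : T) : G) ∈ W := y.2
    obtain ⟨a, ha, v, hv, hxe, hac⟩ := key _ hx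
    obtain ⟨b, hb, w, hw, hye, hbc⟩ := key _ hy
    have hab : Commute (f a) (f b) := by
      have := congrArg Subtype.val (mul_comm' (⟨a, ha⟩ : A) ⟨b, hb⟩)
      exact Commute.map (this : a * b = b * a) f
    have hvw : Commute v w := congrArg Subtype.val (mul_comm' (⟨v, hv⟩ : V) ⟨w, hw⟩)
    have hcomm : Commute (f ((x : T) : G)) (f ((y : T) : G)) := by
      rw [hxe, hye]
      exact (hab.mul_right (hac w hw)).mul_left (((hbc v hv).symm).mul_right hvw)
    have h7 : ⁅((x : T) : G), ((y : T) : G)⁆ ∈ R ⊓ ⁅B, B⁆ := by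
      refine mem_inf.mpr ⟨(hker _).mp ?_, ?_⟩
      · rw [map_commutatorElement, commutatorElement_eq_one_iff_commute.mpr hcomm]
      · exact commutator_mem_commutator (mem_inf.mp hx).1 (mem_inf.mp hy).1
    rw [hRC, mem_bot, commutatorElement_eq_one_iff_mul_comm] at h7
    exact Subtype.ext (Subtype.ext h7)
  haveI : IsMulCommutative (A.subgroupOf T) := by
    refine ⟨⟨fun x y => ?_⟩⟩
    exact Subtype.ext (Subtype.ext
      (congrArg Subtype.val (mul_comm' (⟨_, x.2⟩ : A) ⟨_, y.2⟩) :))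
  have hTfac : ∀ t : T, ∃ a ∈ A.subgroupOf T, ∃ b ∈ W.subgroupOf T, t = a * b := by
    intro t
    obtain ⟨a, ha, b, hb, hab⟩ := hAB t
    have haT : a ∈ T := (le_sup_left : A ≤ T) ha
    have hbT : b ∈ T := by
      have : a⁻¹ * (t : G) ∈ T := mul_mem (inv_mem haT) t.2
      rwa [hab, inv_mul_cancel_left] at this
    exact ⟨⟨a, haT⟩, ha, ⟨b, hbT⟩, mem_inf.mpr ⟨hb, hbT⟩, Subtype.ext hab⟩
  have hT2 := Cfsg.Agent.S0572.result (A.subgroupOf T) (W.subgroupOf T) hTfac
  have h8 : ⁅⁅T, T⁆, ⁅T, T⁆⁆ = ⊥ := by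
    have := congrArg (Subgroup.map T.subtype) hT2
    simpa [derivedSeries_succ, map_commutator, map_subtype_commutator] using this
  rw [eq_bot_iff, ← h8]
  exact commutator_mono (commutator_mono le_sup_right le_sup_right)
    (commutator_mono le_sup_right le_sup_right)

theorem derivedSeries_le_of_quotient {G : Type u} [Group G] (N : Subgroup G) [N.Normal] (k : ℕ)
    (h : derivedSeries (G ⧸ N) k = ⊥) : derivedSeries G k ≤ N := by
  intro x hx
  have := map_derivedSeries_le_derivedSeries (QuotientGroup.mk' N) k (mem_map_of_mem _ hx)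
  rw [h, mem_bot] at this
  exact (QuotientGroup.eq_one_iff x).mp this

theorem aux (n : ℕ) : ∀ (G : Type u) [Group G] [Finite G] [Group.IsSolvable G] (A B : Subgroup G),
    IsMulCommutative A → (∀ g : G, ∃ a ∈ A, ∃ b ∈ B, g = a * b) →
    (∀ b ∈ B, ∀ z ∈ ⁅B, B⁆, Commute b z) →
    (Nat.card ↥⁅B, B⁆).primeFactorsList.length ≤ n → derivedSeries G (2 * (1 + n)) = ⊥ := by
  induction n using Nat.strong_induction_on with
  | _ n ih =>
  intro G _ _ _ A B hA hAB hc hn
  by_cases hC : ⁅B, B⁆ = ⊥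
  · haveI : IsMulCommutative B := by
      refine ⟨⟨fun x y => Subtype.ext (commutatorElement_eq_one_iff_mul_comm.mp ?_)⟩⟩
      have := commutator_mem_commutator x.2 y.2
      rwa [hC, mem_bot] at this
    rw [eq_bot_iff, ← Cfsg.Agent.S0572.result A B hAB]
    exact derivedSeries_antitone G (by omega)
  obtain ⟨N, hNn, hNC, hN2⟩ := exists_metabelian A B hAB hc hC
  set f := QuotientGroup.mk' N with hf
  have hfs : Function.Surjective f := QuotientGroup.mk'_surjective N
  haveI : Group.IsSolvable (G ⧸ N) := Group.isSolvable_of_surjective hfs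
  have hmapC : ⁅B.map f, B.map f⁆ = ⁅B, B⁆.map f := (map_commutator B B f).symm
  -- the image of the commutator subgroup of B is smaller
  have hcard : Nat.card (⁅B, B⁆.map f) * Nat.card (N.subgroupOf ⁅B, B⁆) = Nat.card ↥⁅B, B⁆ := by
    have h1 : Nat.card (⁅B, B⁆.map f) = (N.subgroupOf ⁅B, B⁆).index := by
      have h3 : ⁅B, B⁆.map f = (f.domRestrict ⁅B, B⁆).range := (MonoidHom.domRestrict_range ⁅B, B⁆ f).symm
      rw [h3, ← Subgroup.index_ker]
      congr 1
      ext x
      simp [hf, Subgroup.mem_subgroupOf, MonoidHom.domRestrict_apply]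
    rw [h1, mul_comm, card_mul_index]
  have hk : Nat.card (N.subgroupOf ⁅B, B⁆) ≠ 1 := by
    intro h1
    apply hNC
    rw [card_eq_one, subgroupOf_eq_bot, disjoint_iff] at h1
    exact h1
  have hlt : (Nat.card ↥⁅B.map f, B.map f⁆).primeFactorsList.length < n := by
    have hm : ⁅B.map f, B.map f⁆ = ⁅B, B⁆.map f := hmapC
    rw [show Nat.card ↥⁅B.map f, B.map f⁆ = Nat.card (⁅B, B⁆.map f) by rw [hm]]
    rw [← hcard, (Nat.perm_primeFactorsList_mul Nat.card_pos.ne' Nat.card_pos.ne').length_eq,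
      List.length_append] at hn
    have : 0 < (Nat.card (N.subgroupOf ⁅B, B⁆)).primeFactorsList.length := by
      rw [List.length_pos_iff, Ne, Nat.primeFactorsList_eq_nil]
      have := Nat.card_pos (α := N.subgroupOf ⁅B, B⁆)
      omega
    omega
  have hq : derivedSeries (G ⧸ N) (2 * n) = ⊥ := by
    have h := ih (n - 1) (by omega) (G ⧸ N) (A.map f) (B.map f) ⟨⟨by
        rintro ⟨_, a, ha, rfl⟩ ⟨_, b, hb, rfl⟩
        refine Subtype.ext ?_
        show f a * f b = f b * f a
        rw [← map_mul, ← map_mul]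
        exact congrArg f (congrArg Subtype.val (mul_comm' (⟨a, ha⟩ : A) ⟨b, hb⟩))⟩⟩
      (fun q => by
        obtain ⟨g, rfl⟩ := hfs q
        obtain ⟨a, ha, b, hb, rfl⟩ := hAB g
        exact ⟨f a, mem_map_of_mem f ha, f b, mem_map_of_mem f hb, map_mul f a b⟩)
      (fun b hb z hz => by
        rw [hmapC] at hz
        obtain ⟨b, hb', rfl⟩ := hb
        obtain ⟨z, hz', rfl⟩ := hz
        exact (hc b hb' z hz').map f) (by omega)
    rwa [show 2 * (1 + (n - 1)) = 2 * n by omega] at h
  have hle := derivedSeries_le_of_quotient N (2 * n) hq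
  rw [show 2 * (1 + n) = 2 * n + 1 + 1 by omega, derivedSeries_succ, derivedSeries_succ,
    eq_bot_iff, ← hN2]
  exact commutator_mono (commutator_mono hle hle) (commutator_mono hle hle)

theorem result {G : Type*} [Group G] [Finite G] (A B : Subgroup G) [IsMulCommutative A] (hB : commutator ↥B ≤ Subgroup.center ↥B) (hAB : ∀ g : G, ∃ a ∈ A, ∃ b ∈ B, g = a * b) : derivedSeries G (2 * (1 + (Nat.card ↥(commutator ↥B)).primeFactorsList.length)) = ⊥ := by
  have hnil : Group.IsNilpotent B := by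
    haveI : Group.IsNilpotent (↥B ⧸ Subgroup.center ↥B) := by
      letI : CommGroup (↥B ⧸ Subgroup.center ↥B) :=
        { (inferInstance : Group (↥B ⧸ Subgroup.center ↥B)) with
          mul_comm := by
            intro x y
            induction x using QuotientGroup.induction_on with | _ x =>
            induction y using QuotientGroup.induction_on with | _ y =>
            rw [← QuotientGroup.mk_mul, ← QuotientGroup.mk_mul, QuotientGroup.eq]
            have := hB (Subgroup.commutator_mem_commutator (Subgroup.mem_top y⁻¹) (Subgroup.mem_top x⁻¹))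
            simpa [commutatorElement_def, mul_assoc] using this }
      infer_instance
    exact Group.of_quotient_center_nilpotent this
  have hAnil : Group.IsNilpotent A := by
    letI : CommGroup A := { (inferInstance : Group A) with mul_comm := mul_comm' }
    infer_instance
  haveI : Group.IsSolvable G := KegelWielandt.isSolvable_of_mul A B hAnil hnil hAB
  have hmap : (commutator ↥B).map B.subtype = ⁅B, B⁆ := map_subtype_commutator B
  refine aux _ G A B inferInstance hAB ?_ ?_
  · intro b hb z hz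
    rw [← hmap] at hz
    obtain ⟨w, hw, rfl⟩ := hz
    exact congrArg Subtype.val (Subgroup.mem_center_iff.mp (hB hw) ⟨b, hb⟩)
  · rw [← hmap, Subgroup.card_map_of_injective B.subtype_injective]

end Cfsg.Agent.S0574
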