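import Mathlib
import Cfsg.Statements.S0576

set_option autoImplicit false
set_option linter.unusedVariables false
open Cfsg

namespace Cfsg.Agent.S0576

theorem conjNormal_coe {G : Type*} [Group G] (H : Subgroup G) [H.Normal] (h : H) :
    MulAut.conjNormal (H := H) (h : G) = MulAut.conj h := by
  ext x; simp [MulAut.conjNormal_apply]


theorem result {G : Type*} [Group G] [Finite G] (H : Subgroup G) [H.Normal] (hH : H ≤ frattini G) : (MulAut.conj : ↥H →* MulAut ↥H).range ≤ frattini (MulAut ↥H) := by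
  refine le_iInf₂ fun M hM => ?_
  by_contra hle
  let I := (MulAut.conj : ↥H →* MulAut ↥H).range
  have : I.Normal := by
    constructor
    rintro _ ⟨h, rfl⟩ φ
    exact ⟨φ h, by ext x; simp [MulAut.conj_apply]⟩
  have htop : M ⊔ I = ⊤ := hM.2 _ (lt_of_le_of_ne le_sup_left
    (fun e => hle (e ▸ le_sup_right)))
  let M0 := M.comap (MulAut.conjNormal (H := H))
  have h0 : M0 ⊔ H = ⊤ := by
    rw [eq_top_iff]
    intro g _
    have hg : MulAut.conjNormal (H := H) g ∈ M ⊔ I := htop ▸ Subgroup.mem_top _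
    obtain ⟨m, hm, i, ⟨h, rfl⟩, hmi⟩ := Subgroup.mem_sup_of_normal_right.mp hg
    refine Subgroup.mem_sup_of_normal_right.mpr ⟨g * (h : G)⁻¹, ?_, (h : G), h.2, by group⟩
    show MulAut.conjNormal (H := H) (g * (h : G)⁻¹) ∈ M
    rw [map_mul, map_inv, conjNormal_coe, ← hmi, mul_inv_cancel_right]
    exact hm
  have hM0 : M0 = ⊤ := by
    by_contra hne
    obtain ⟨K, hK, hK2⟩ := (IsCoatomic.eq_top_or_exists_le_coatom M0).resolve_left hne
    exact hK.1 (top_le_iff.mp (h0 ▸ sup_le hK2 (hH.trans (frattini_le_coatom hK))))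
  apply hle
  rintro _ ⟨h, rfl⟩
  have : (h : G) ∈ M0 := hM0 ▸ Subgroup.mem_top _
  rw [← conjNormal_coe]
  exact this

end Cfsg.Agent.S0576
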