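import Mathlib
import Cfsg.Statements.S0578

set_option autoImplicit false
set_option linter.unusedVariables false
set_option linter.unusedSectionVars false
open Cfsg

namespace Cfsg.Agent.S0578

theorem sylow_comm {G : Type*} [Group G] [Finite G] (h : ∀ A : Subgroup G, IsMulCommutative A →
    Subgroup.normalizer (A : Set G) = Subgroup.centralizer (A : Set G)) (p : ℕ) [Fact p.Prime]
    (P : Sylow p G) : IsMulCommutative (P : Subgroup G) := by
  set S := (P : Subgroup G)
  by_contra hne
  have : Group.IsNilpotent S := P.2.isNilpotent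
  set Z := Subgroup.center S with hZ
  have hnt : Nontrivial (↥S ⧸ Z) := by
    by_contra hs
    rw [not_nontrivial_iff_subsingleton] at hs
    refine hne ⟨⟨fun a b => ?_⟩⟩
    exact (Subgroup.mem_center_iff.mp ((QuotientGroup.eq_one_iff (N := Z) a).mp (Subsingleton.elim _ _)) b).symm
  obtain ⟨xb, hxb, hxb1⟩ := (Subgroup.bot_or_exists_ne_one _).resolve_left
    (Group.IsNilpotent.center_ne_bot (G := ↥S ⧸ Z))
  let A := (Subgroup.zpowers xb).comap (QuotientGroup.mk' Z)
  let f : ↥A →* ↥(Subgroup.zpowers xb) := (QuotientGroup.mk' Z).subgroupComap _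
  have hA : IsMulCommutative A := f.isMulCommutative_of_isCyclic_of_ker_le_center (fun a ha => by
    rw [Subgroup.mem_center_iff]
    intro b
    exact Subtype.ext (Subgroup.mem_center_iff.mp
      ((QuotientGroup.eq_one_iff (N := Z) (a : ↥S)).mp (congrArg Subtype.val ha)) b))
  have hAn : A.Normal := by
    have : (Subgroup.zpowers xb).Normal := ⟨fun y hy g => by
      have hyc : y ∈ Subgroup.center (↥S ⧸ Z) := Subgroup.zpowers_le.mpr hxb hy
      rwa [Subgroup.mem_center_iff.mp hyc g, mul_inv_cancel_right]⟩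
    exact this.comap _
  let A' := A.map S.subtype
  have hA' : IsMulCommutative A' := by
    refine ⟨⟨fun a b => ?_⟩⟩
    obtain ⟨a', ha', ea⟩ := a.2
    obtain ⟨b', hb', eb⟩ := b.2
    apply Subtype.ext
    show (a : G) * b = b * a
    rw [← ea, ← eb, ← map_mul, ← map_mul, setLike_mul_comm ha' hb']
  have hN : S ≤ Subgroup.centralizer (A' : Set G) := by
    rw [← h A' hA']
    intro s hs
    rw [Subgroup.mem_normalizer_iff]
    intro y
    constructor
    · rintro ⟨a, ha, rfl⟩
      exact ⟨⟨s, hs⟩ * a * ⟨s, hs⟩⁻¹, hAn.conj_mem a ha _, by simp⟩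
    · rintro ⟨a, ha, e⟩
      exact ⟨⟨s, hs⟩⁻¹ * a * ⟨s, hs⟩, by simpa using hAn.conj_mem a ha (⟨s, hs⟩ : ↥S)⁻¹, by
        have : (a : G) = s * y * s⁻¹ := e
        simp [this, mul_assoc]⟩
  obtain ⟨x, rfl⟩ := QuotientGroup.mk'_surjective Z xb
  apply hxb1
  refine (QuotientGroup.eq_one_iff (N := Z) x).mpr (Subgroup.mem_center_iff.mpr fun g => Subtype.ext ?_)
  have hx : (x : G) ∈ A' := ⟨x, Subgroup.mem_zpowers _, rfl⟩
  exact (Subgroup.mem_centralizer_iff.mp (hN g.2) (x : G) hx).symm

theorem result {G : Type*} [Group G] [Finite G] (h : ∀ A : Subgroup G, IsMulCommutative A → Subgroup.normalizer (A : Set G) = Subgroup.centralizer (A : Set G)) : IsMulCommutative G := by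
  have hbot : commutator G = ⊥ := by
    rw [Subgroup.eq_bot_iff_card]
    by_contra hne
    obtain ⟨p, hp, hd⟩ := Nat.exists_prime_and_dvd hne
    haveI : Fact p.Prime := ⟨hp⟩
    obtain ⟨P⟩ := (inferInstance : Nonempty (Sylow p G))
    have hPc := sylow_comm h p P
    have hP : Subgroup.normalizer ((P : Subgroup G) : Set G) ≤ Subgroup.centralizer ((P : Subgroup G) : Set G) :=
      le_of_eq (h _ hPc)
    have hle : commutator G ≤ (MonoidHom.transferSylow P hP).ker := by
      rw [commutator_def, Subgroup.commutator_le]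
      intro a _ b _
      rw [MonoidHom.mem_ker, map_commutatorElement, commutatorElement_eq_one_iff_mul_comm]
      exact hPc.is_comm.comm _ _
    exact MonoidHom.not_dvd_card_ker_transferSylow P hP (hd.trans (Subgroup.card_dvd_of_le hle))
  refine ⟨⟨fun a b => commutatorElement_eq_one_iff_mul_comm.mp (Subgroup.mem_bot.mp (hbot ▸ ?_))⟩⟩
  exact Subgroup.commutator_mem_commutator (Subgroup.mem_top a) (Subgroup.mem_top b)

end Cfsg.Agent.S0578
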