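import Mathlib
import Cfsg.Statements.S0580

set_option autoImplicit false
set_option linter.unusedVariables false
set_option linter.unusedSectionVars false
open Cfsg

namespace Cfsg.Agent.S0580

universe u

theorem aux : ∀ (n : ℕ) (G : Type u) [Group G] [Finite G], Nat.card G = n →
    (∀ M : Subgroup G, IsCoatom M → M.index.Prime) → Group.IsSolvable G := by
  intro n
  induction n using Nat.strong_induction_on with
  | _ n ih =>
    intro G _ _ hn h
    by_cases h1 : Nat.card G = 1
    · have : Subsingleton G := (Nat.card_eq_one_iff_unique.mp h1).1
      infer_instance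
    have hne : (Nat.card G).primeFactors.Nonempty := Nat.nonempty_primeFactors.mpr (by
      have := Nat.card_pos (α := G); omega)
    set p := (Nat.card G).primeFactors.max' hne with hp
    have hpm := Nat.mem_primeFactors.mp ((Nat.card G).primeFactors.max'_mem hne)
    have : Fact p.Prime := ⟨hpm.1⟩
    obtain ⟨P⟩ := (inferInstance : Nonempty (Sylow p G))
    have hPn : (P : Subgroup G).Normal := by
      by_contra hnn
      obtain ⟨M, hM, hle⟩ := (IsCoatomic.eq_top_or_exists_le_coatom
        (Subgroup.normalizer ((P : Subgroup G) : Set G))).resolve_left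
        (fun e => hnn (Subgroup.normalizer_eq_top_iff.mp e))
      have hPM : (P : Subgroup G) ≤ M := Subgroup.le_normalizer.trans hle
      have hq := h M hM
      have hm := card_sylow_modEq_one p M
      rw [(P.subtype hPM).card_eq_index_normalizer] at hm
      replace hm : (Subgroup.normalizer (((P : Subgroup G).subgroupOf M : Subgroup M) : Set M)).index ≡ 1 [MOD p] := hm
      rw [← Subgroup.subgroupOf_normalizer_eq hPM] at hm
      have hg := card_sylow_modEq_one p G
      rw [P.card_eq_index_normalizer] at hg
      replace hg : (Subgroup.normalizer ((P : Subgroup G) : Set G)).index ≡ 1 [MOD p] := hg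
      rw [← Subgroup.relIndex_mul_index hle, Subgroup.relIndex] at hg
      have hq1 : M.index ≡ 1 [MOD p] := by
        have := (hm.mul_right M.index).symm.trans hg
        rwa [one_mul] at this
      have hqp : M.index ≤ p := Finset.le_max' _ _
        (Nat.mem_primeFactors.mpr ⟨hq, M.index_dvd_card, hpm.2.2⟩)
      rcases lt_or_eq_of_le hqp with hlt | heq
      · unfold Nat.ModEq at hq1
        rw [Nat.mod_eq_of_lt hlt, Nat.mod_eq_of_lt hpm.1.one_lt] at hq1
        exact hq.ne_one hq1
      · unfold Nat.ModEq at hq1
        rw [heq, Nat.mod_self, Nat.mod_eq_of_lt hpm.1.one_lt] at hq1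
        exact absurd hq1 zero_ne_one
    have hlt : Nat.card (G ⧸ (P : Subgroup G)) < n := by
      rw [← hn, Subgroup.card_eq_card_quotient_mul_card_subgroup (P : Subgroup G)]
      refine lt_mul_of_one_lt_right Nat.card_pos (Subgroup.one_lt_card_iff_ne_bot _ |>.mpr ?_)
      exact P.ne_bot_of_dvd_card hpm.2.1
    have hs : Group.IsSolvable (G ⧸ (P : Subgroup G)) := ih _ hlt _ rfl (fun M hM => by
      have hc : IsCoatom (M.comap (QuotientGroup.mk' (P : Subgroup G))) := by
        constructor
        · exact fun e => hM.1 (by rw [← Subgroup.map_comap_eq_self_of_surjective (QuotientGroup.mk'_surjective (P : Subgroup G)) M, e, Subgroup.map_top_of_surjective _ (QuotientGroup.mk'_surjective _)])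
        · intro K hK
          have hker : (QuotientGroup.mk' (P : Subgroup G)).ker ≤ K :=
            le_trans (Subgroup.ker_le_comap _ _) hK.le
          have hlt : M < K.map (QuotientGroup.mk' (P : Subgroup G)) := by
            have h1 : K = (K.map (QuotientGroup.mk' (P : Subgroup G))).comap (QuotientGroup.mk' (P : Subgroup G)) :=
              (Subgroup.comap_map_eq_self hker).symm
            rw [h1] at hK
            exact (Subgroup.comap_lt_comap_of_surjective (QuotientGroup.mk'_surjective _)).mp hK
          rw [← Subgroup.comap_map_eq_self hker, hM.2 _ hlt, Subgroup.comap_top]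
      have := h _ hc
      rwa [Subgroup.index_comap_of_surjective M (QuotientGroup.mk'_surjective _)] at this)
    have : Group.IsSolvable (P : Subgroup G) := by
      have := P.2.isNilpotent
      infer_instance
    exact Group.isSolvable_of_ker_le_range (P : Subgroup G).subtype (QuotientGroup.mk' (P : Subgroup G))
      (by simp)

theorem result {G : Type*} [Group G] [Finite G] (h : ∀ M : Subgroup G, IsCoatom M → M.index.Prime) : Group.IsSolvable G := by
  exact aux _ G rfl h

end Cfsg.Agent.S0580
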