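import Mathlib
import Cfsg.Agent.Lib.Supersolvable
import Cfsg.Agent.Lib.SupersolvableCriteria
import Cfsg.Agent.S0580
import Cfsg.Statements.S0579

set_option autoImplicit false
set_option linter.unusedVariables false
set_option linter.unusedSectionVars false
open Cfsg

namespace Cfsg.Agent.S0579

universe u

open Subgroup

theorem aux : ∀ (n : ℕ) (G : Type u) [Group G] [Finite G], Nat.card G = n →
    (∀ M : Subgroup G, IsCoatom M → M.index.Prime) → Cfsg.IsSupersolvable G := by
  intro n
  induction n using Nat.strong_induction_on with
  | _ n ih =>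
    intro G _ _ hn h
    have := Cfsg.Agent.S0580.result h
    rcases subsingleton_or_nontrivial G with hs | hs
    · exact Supersolvable.of_subsingleton
    obtain ⟨N, hN⟩ := HallSolvable.exists_minNormal (G := G)
    have := hN.normal
    have hsur := QuotientGroup.mk'_surjective N
    have hq : Cfsg.IsSupersolvable (G ⧸ N) :=
      ih _ (hn ▸ Supersolvable.card_quotient_lt N hN.ne_bot) _ rfl fun M hM => by
        have hc : IsCoatom (M.comap (QuotientGroup.mk' N)) :=
          ⟨fun e => hM.1 (by rw [← map_comap_eq_self_of_surjective hsur M, e, map_top_of_surjective _ hsur]),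
           fun K hK => by
            have hker : (QuotientGroup.mk' N).ker ≤ K := le_trans (ker_le_comap _ _) hK.le
            rw [← comap_map_eq_self hker] at hK ⊢
            rw [hM.2 _ ((comap_lt_comap_of_surjective hsur).mp hK), comap_top]⟩
        have := h _ hc
        rwa [index_comap_of_surjective M hsur] at this
    by_cases hsome : ∀ M : Subgroup G, IsCoatom M → N ≤ M
    · exact SupersolvableCriteria.of_quotient_le_frattini N (le_iInf₂ hsome) hq
    push Not at hsome
    obtain ⟨M, hM, hnle⟩ := hsome
    obtain ⟨p, k, hp, hk, hc, he⟩ := hN.card_eq_pow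
    have htop : N ⊔ M = ⊤ := hM.2 _ (lt_of_le_of_ne le_sup_right (fun e => hnle (e ▸ le_sup_left)))
    have hn' : (N ⊓ M).Normal := by
      rw [← normalizer_eq_top_iff, eq_top_iff, ← htop]
      refine sup_le (fun a ha => ?_) (fun m hm => ?_) <;> rw [mem_normalizer_iff] <;> intro x
      · have hcc : ∀ y ∈ N, a * y * a⁻¹ = y := fun y hy => by
          rw [PGroupsBasic.comm_of_isMulCommutative he.1 ha hy, mul_inv_cancel_right]
        constructor <;> intro hx
        · rwa [hcc x hx.1]
        · have hxN : x ∈ N := by simpa [mul_assoc] using mul_mem (mul_mem (inv_mem ha) hx.1) ha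
          rwa [hcc x hxN] at hx
      · exact and_congr (mem_normalizer_iff.mp (normalizer_eq_top (H := N) ▸ mem_top m) x)
          (mem_normalizer_iff.mp (le_normalizer hm) x)
    have hbot : N ⊓ M = ⊥ := (hN.2.2 _ hn' inf_le_left).resolve_right
      fun e => hnle (e ▸ inf_le_right)
    have hcomp : IsComplement' N M := isComplement'_of_disjoint_and_mul_eq_univ
      (disjoint_iff.mpr hbot) (by rw [← Subgroup.normal_mul, htop, coe_top])
    exact Supersolvable.of_prime_normal N (hcomp.index_eq_card ▸ h M hM) hq

theorem result {G : Type*} [Group G] [Finite G] (h : ∀ M : Subgroup G, IsCoatom M → M.index.Prime) : Cfsg.IsSupersolvable G := by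
  exact aux _ G rfl h

end Cfsg.Agent.S0579
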