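import Cfsg.Statements.S0581
import Cfsg.Agent.S0046
import Cfsg.Agent.Lib.HallCarter
import Cfsg.Agent.Lib.HallNilpotentConj
-- import your own Cfsg.Agent.* helpers here

set_option autoImplicit false
open Pointwise
open Cfsg

namespace Cfsg.Agent.S0581

open scoped Pointwise
open Cfsg.Agent.HallCore Cfsg.Agent.HallSolvable Cfsg.Agent.HallTheorem

/-- Wielandt: π-subgroups lie in conjugates of a nilpotent Hall π-subgroup. -/
theorem aux {G : Type*} [Group G] [Finite G] (H : Subgroup G) (hH : Group.IsNilpotent H)
    (hHall : (Nat.card H).Coprime H.index) :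
    ∀ (n : ℕ) (K : Subgroup G), Nat.card K = n →
      (∀ p : ℕ, p.Prime → p ∣ Nat.card K → p ∣ Nat.card H) → ∃ x : G, K ≤ MulAut.conj x • H := by
  intro n
  induction n using Nat.strong_induction_on with
  | _ n ih =>
    intro K hn hK
    rcases subsingleton_or_nontrivial K with h | h
    · exact ⟨1, fun x hx => by
        rw [show x = 1 from congrArg Subtype.val (Subsingleton.elim (⟨x, hx⟩ : K) 1)]
        exact Subgroup.one_mem _⟩
    have hsub : ∀ L : Subgroup K, L ≠ ⊤ → ∃ x : G, L.map K.subtype ≤ MulAut.conj x • H := by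
      intro L hL
      have h1 : Nat.card (L.map K.subtype) < n := by
        rw [Subgroup.card_map_of_injective K.subtype_injective, ← hn]
        exact card_subgroup_lt hL
      refine ih _ h1 _ rfl fun q hq hd => hK q hq ?_
      rw [Subgroup.card_map_of_injective K.subtype_injective] at hd
      exact hd.trans (Subgroup.card_subgroup_dvd_card L)
    have hnil : ∀ L : Subgroup K, L ≠ ⊤ → Group.IsNilpotent L := by
      intro L hL
      obtain ⟨x, hx⟩ := hsub L hL
      have : Group.IsNilpotent ↥(MulAut.conj x • H) :=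
        Group.nilpotent_of_mulEquiv
          (Subgroup.equivMapOfInjective H (MulAut.conj x).toMonoidHom (MulAut.conj x).injective)
      have : Group.IsNilpotent (L.map K.subtype) :=
        Group.nilpotent_of_mulEquiv (Subgroup.subgroupOfEquivOfLe hx)
      exact Group.nilpotent_of_mulEquiv
        (Subgroup.equivMapOfInjective L K.subtype K.subtype_injective).symm
    have hsolv : Group.IsSolvable K := Cfsg.Agent.S0046.result (fun M hM => hnil M hM.1)
    obtain ⟨M, hMt, hMc⟩ :=
      (eq_top_or_exists_le_coatom (commutator K)).resolve_left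
        (Group.IsSolvable.commutator_lt_top_of_nontrivial (G := K)).ne
    have hMn : M.Normal := by
      refine ⟨fun a ha g => ?_⟩
      have h1 : g * a * g⁻¹ * a⁻¹ ∈ M :=
        hMc (Subgroup.commutator_mem_commutator (Subgroup.mem_top g) (Subgroup.mem_top a))
      simpa using M.mul_mem h1 ha
    -- the index of `M` is a prime power
    have hq : Nontrivial (K ⧸ M) := QuotientGroup.nontrivial_iff.mpr hMt.1
    obtain ⟨L, hL⟩ := exists_minNormal (G := K ⧸ M)
    have := hL.normal
    obtain ⟨p, e, hp, he, hLc, -⟩ := hL.card_eq_pow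
    have : Fact p.Prime := ⟨hp⟩
    have hLt : L = ⊤ := by
      have h1 : M < L.comap (QuotientGroup.mk' M) := by
        refine lt_of_le_of_ne (QuotientGroup.le_comap_mk' M L) fun heq => hL.ne_bot ?_
        rw [← Subgroup.map_comap_eq_self_of_surjective (QuotientGroup.mk'_surjective M) L, ← heq,
          QuotientGroup.map_mk'_self]
      rw [← Subgroup.map_comap_eq_self_of_surjective (QuotientGroup.mk'_surjective M) L,
        hMt.2 _ h1, Subgroup.map_top_of_surjective _ (QuotientGroup.mk'_surjective M)]
    have hidx : M.index = p ^ e := by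
      rw [Subgroup.index_eq_card, ← hLc, hLt, Subgroup.card_top]
    have := hnil M hMt.1
    obtain ⟨x, hx⟩ := hsub M hMt.1
    set H₁ := MulAut.conj x • H
    have hH₁ : Group.IsNilpotent H₁ :=
      Group.nilpotent_of_mulEquiv
        (Subgroup.equivMapOfInjective H (MulAut.conj x).toMonoidHom (MulAut.conj x).injective)
    have hH₁i : ¬ p ∣ H₁.index := by
      rw [index_conj_smul]
      intro hd
      have hpH : p ∣ Nat.card H := by
        refine hK p hp ((dvd_pow_self p he.ne').trans ?_)
        rw [← hidx]
        exact M.index_dvd_card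
      exact hp.not_dvd_one (hHall ▸ Nat.dvd_gcd hpH hd)
    -- the normal `p`-complement of `M`
    obtain ⟨Q₀, hQ₀⟩ := exists_isPiHall_of_solvable (G := M) ({p}ᶜ : Set ℕ)
    have hQ₀' := isPiHall_iff.mp hQ₀
    have hQ₀eq : Q₀ = Cfsg.piCore ({p}ᶜ : Set ℕ) M := by
      have : Q₀.Normal := Subgroup.normalizer_eq_top_iff.mp
        (Cfsg.Agent.HallCarter.eq_top_of_normalizer_eq
          (Cfsg.Agent.HallCarter.normalizer_normalizer_hall (PiNat.coprime hQ₀'.1 hQ₀'.2)))
      exact eq_of_isPiHall_le hQ₀ (le_piCore hQ₀'.1) (piNat_card_piCore _ _)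
    set QK := (Cfsg.piCore ({p}ᶜ : Set ℕ) M).map M.subtype
    have hQKn : QK.Normal :=
      have := piCore_characteristic ({p}ᶜ : Set ℕ) M
      inferInstance
    set Q := QK.map K.subtype
    have hQH : Q ≤ H₁ := le_trans (Subgroup.map_mono (Subgroup.map_subtype_le _)) hx
    have hQc : (Nat.card Q).Coprime p := by
      rw [Subgroup.card_map_of_injective K.subtype_injective,
        Subgroup.card_map_of_injective M.subtype_injective]
      exact (piNat_compl_singleton_iff hp).mp (piNat_card_piCore _ _)
    obtain ⟨S₀⟩ : Nonempty (Sylow p H₁) := inferInstance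
    set P := (S₀ : Subgroup H₁).map H₁.subtype
    have hPN : P ≤ Subgroup.normalizer (Q : Set G) := by
      rintro _ ⟨s, hs, rfl⟩
      rw [Subgroup.mem_normalizer_iff]
      have hcomm : ∀ y ∈ Q, (s : G) * y = y * s := by
        intro y hy
        refine congrArg Subtype.val (Cfsg.Agent.HallNilpotentConj.commute_of_coprime_orderOf H₁
          s ⟨y, hQH hy⟩ ?_).eq
        obtain ⟨k, hk⟩ := IsPGroup.iff_orderOf.mp S₀.2 ⟨s, hs⟩
        rw [← Subgroup.orderOf_coe (H := (S₀ : Subgroup H₁))] at hk
        rw [show orderOf s = p ^ k from hk, ← Subgroup.orderOf_coe]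
        exact Nat.Coprime.pow_left _ (hQc.coprime_dvd_left (Subgroup.orderOf_dvd_natCard Q hy)).symm
      intro y
      constructor
      · intro hy
        rw [Subgroup.coe_subtype, hcomm y hy, mul_inv_cancel_right]
        exact hy
      · intro hy
        rw [Subgroup.coe_subtype] at hy
        have h2 := hcomm _ hy
        rw [inv_mul_cancel_right] at h2
        rwa [mul_left_cancel h2] at hy
    set N := Subgroup.normalizer (Q : Set G)
    have hKN : K ≤ N := by
      intro k hk
      rw [Cfsg.Agent.HallCarter.mem_normalizer_iff_smul]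
      have h2 := congrArg (Subgroup.map K.subtype) (conj_smul_normal (⟨k, hk⟩ : K) QK)
      rwa [map_conj_smul] at h2
    have hPidx : ¬ p ∣ P.index := by
      rw [Subgroup.index_map_subtype]
      exact hp.prime.not_dvd_mul S₀.not_dvd_index hH₁i
    let PN : Sylow p N := (IsPGroup.toSylow (P := P.subgroupOf N)
      ((S₀.2.map _).comap_of_injective N.subtype N.subtype_injective) (fun hd => hPidx (hd.trans
        ⟨N.index, (Subgroup.relIndex_mul_index hPN).symm⟩)))
    obtain ⟨R⟩ : Nonempty (Sylow p K) := inferInstance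
    set R' := (R : Subgroup K).map K.subtype
    have hR'N : R' ≤ N := (Subgroup.map_subtype_le _).trans hKN
    obtain ⟨T, hT⟩ :=
      ((R.2.map K.subtype).comap_of_injective N.subtype N.subtype_injective).exists_le_sylow
    obtain ⟨g, hg⟩ := MulAction.exists_smul_eq N T PN
    have hRP : MulAut.conj (g : G) • R' ≤ P := by
      intro y hy
      obtain ⟨z, hz, rfl⟩ := hy
      have h1 : (⟨z, hR'N hz⟩ : N) ∈ (T : Subgroup N) := hT hz
      have h2 : MulAut.conj g • (⟨z, hR'N hz⟩ : N) ∈ (PN : Subgroup N) := by
        rw [← hg, Sylow.coe_subgroup_smul]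
        exact Subgroup.smul_mem_pointwise_smul _ _ _ h1
      exact h2
    have hQR : QK ⊔ (R : Subgroup K) = ⊤ := by
      rw [← Subgroup.index_eq_one]
      refine Nat.eq_one_of_dvd_coprimes ?_ (Subgroup.index_dvd_of_le le_sup_left)
        (Subgroup.index_dvd_of_le le_sup_right)
      rw [show QK.index = Q₀.index * M.index by rw [← Subgroup.index_map_subtype, hQ₀eq]]
      obtain ⟨a, ha⟩ := (piNat_singleton_iff hp Subgroup.index_ne_zero_of_finite).mp
        (compl_compl ({p} : Set ℕ) ▸ hQ₀'.2)
      rw [ha, hidx, ← pow_add]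
      exact ((Nat.Prime.coprime_iff_not_dvd hp).mpr R.not_dvd_index).pow_left _
    refine ⟨(g : G)⁻¹ * x, ?_⟩
    rw [map_mul, mul_smul, map_inv, ← Subgroup.pointwise_smul_subset_iff]
    have hKe : K = Q ⊔ R' := by
      rw [← Subgroup.map_sup, hQR, ← MonoidHom.range_eq_map, K.range_subtype]
    rw [hKe, Subgroup.smul_sup, sup_le_iff]
    refine ⟨?_, hRP.trans (Subgroup.map_subtype_le _)⟩
    rw [(Cfsg.Agent.HallCarter.mem_normalizer_iff_smul _ _).mp g.2]
    exact hQH


/-- Let H be a nilpotent subgroup of a finite group G whose order is coprime to its index, and K a subgroup every prime divisor of whose order divides the order of H. Then K lies in some conjugate of H. -/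
theorem result {G : Type*} [Group G] [Finite G] (H K : Subgroup G) (hH : Group.IsNilpotent H) (hHall : (Nat.card H).Coprime H.index) (hK : ∀ p : ℕ, p.Prime → p ∣ Nat.card K → p ∣ Nat.card H) : ∃ x : G, K ≤ MulAut.conj x • H := by
  exact aux H hH hHall _ K rfl hK

end Cfsg.Agent.S0581
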