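import Mathlib
import Cfsg.Statements.S0583

set_option autoImplicit false
set_option linter.unusedVariables false
open Cfsg

namespace Cfsg.Agent.S0583



theorem result {G : Type*} [Group G] [Finite G] (M : Subgroup G) [M.Normal] (hM : M ≠ ⊥) (hmin : ∀ K : Subgroup G, K.Normal → K ≤ M → K = ⊥ ∨ K = M) : Cfsg.fittingSubgroup G ≤ Subgroup.centralizer (M : Set G) := by
  refine sSup_le fun N hN => ?_
  obtain ⟨hNn, hNnil⟩ := hN
  rcases hmin (M ⊓ N) inferInstance inf_le_left with h0 | h0
  · intro n hn m hm
    exact Subgroup.commute_of_normal_of_disjoint M N inferInstance hNn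
      (disjoint_iff.mpr h0) m n hm hn
  have hMN : M ≤ N := h0 ▸ inf_le_right
  have hn1 : ⁅M, N⁆.Normal := inferInstance
  rcases hmin ⁅M, N⁆ hn1 (Subgroup.commutator_le_left M N) with h1 | h1
  · rw [← Subgroup.commutator_eq_bot_iff_le_centralizer, Subgroup.commutator_comm]
    exact h1
  exfalso
  obtain ⟨k, hk⟩ := (Subgroup.isNilpotent_iff_lowerCentralSeries (S := N)).mp hNnil
  have : ∀ j, M ≤ N.lowerCentralSeries j := by
    intro j
    induction j with
    | zero => simpa using hMN
    | succ j ihj =>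
      rw [Subgroup.lowerCentralSeries_succ]
      calc M = ⁅M, N⁆ := h1.symm
        _ ≤ _ := Subgroup.commutator_mono ihj le_rfl
  exact hM (le_bot_iff.mp (hk ▸ this k))

end Cfsg.Agent.S0583
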