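import Mathlib
import Cfsg.Statements.S0584

set_option autoImplicit false
set_option linter.unusedVariables false
set_option linter.unusedSectionVars false
open Cfsg

namespace Cfsg.Agent.S0584



theorem result {G : Type*} [Group G] [Finite G] (A B : Subgroup G) [A.Normal] [B.Normal] (hBA : B ≤ A) (hB : B ≤ frattini G) (h : Group.IsNilpotent (↥A ⧸ B.subgroupOf A)) : Group.IsNilpotent A := by
  refine ((Group.isNilpotent_of_finite_tfae (G := A)).out 0 3).mpr ?_
  intro p _ P
  let π := QuotientGroup.mk' (B.subgroupOf A)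
  have hsur : Function.Surjective π := QuotientGroup.mk'_surjective _
  have hall : ∀ (q : ℕ) (_ : Fact q.Prime) (R : Sylow q (↥A ⧸ B.subgroupOf A)), (R : Subgroup (↥A ⧸ B.subgroupOf A)).Normal :=
    ((Group.isNilpotent_of_finite_tfae (G := ↥A ⧸ B.subgroupOf A)).out 0 3).mp h
  have hnorm : (P.mapSurjective hsur : Subgroup (↥A ⧸ B.subgroupOf A)).Normal := hall p ‹_› _
  have := Sylow.unique_of_normal (P.mapSurjective hsur) hnorm
  set K0 : Subgroup A := (P : Subgroup A) ⊔ B.subgroupOf A with hK0d
  have hK0 : ∀ Q : Sylow p A, (Q : Subgroup A) ≤ K0 := by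
    intro Q
    have he : Q.mapSurjective hsur = P.mapSurjective hsur := Subsingleton.elim _ _
    have hle : (Q : Subgroup A) ≤ ((P : Subgroup A).map π).comap π := by
      rw [← Subgroup.map_le_iff_le_comap]
      exact le_of_eq (congrArg Sylow.toSubgroup he)
    rwa [Subgroup.comap_map_eq, QuotientGroup.ker_mk'] at hle
  set PG := (P : Subgroup A).map A.subtype
  have htop : Subgroup.normalizer (PG : Set G) ⊔ B = ⊤ := by
    rw [eq_top_iff]
    intro g _
    let φ : MulAut A := MulAut.conjNormal g
    obtain ⟨k, hk⟩ := MulAction.exists_smul_eq K0 (P.subtype le_sup_left) ((φ • P).subtype (hK0 _))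
    rw [Sylow.smul_subtype] at hk
    have hk' : (k : ↥A) • P = φ • P := Sylow.subtype_injective hk
    have hmem : ((k : ↥A) : G)⁻¹ * g ∈ Subgroup.normalizer (PG : Set G) := by
      have hmap : PG.map (MulAut.conj (((k : ↥A) : G)⁻¹ * g)).toMonoidHom = PG := by
        refine Subgroup.eq_of_le_of_card_ge ?_
          (le_of_eq (Subgroup.card_map_of_injective (MulAut.conj _).injective).symm)
        rintro _ ⟨_, ⟨y, hy, rfl⟩, rfl⟩
        have h1 : φ y ∈ ((k : ↥A) • P : Sylow p A) := hk' ▸ Subgroup.smul_mem_pointwise_smul y φ (P : Subgroup A) hy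
        obtain ⟨z, hz, hzy⟩ := h1
        refine ⟨z, hz, ?_⟩
        have h2 : ((k : ↥A) : G) * z * ((k : ↥A) : G)⁻¹ = g * y * g⁻¹ := by
          have := congrArg Subtype.val hzy
          simpa [φ, MulAut.conjNormal_apply] using this
        simp only [Subgroup.coe_subtype, MulEquiv.coe_toMonoidHom, MulAut.conj_apply]
        calc (z : G) = ((k : ↥A) : G)⁻¹ * (g * y * g⁻¹) * (k : ↥A) := by rw [← h2]; group
          _ = _ := by group
      rw [Subgroup.mem_normalizer_iff]
      intro x
      constructor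
      · intro hx; rw [← hmap]; exact ⟨x, hx, rfl⟩
      · intro hx
        rw [← hmap] at hx
        obtain ⟨y, hy, e⟩ := hx
        rwa [← (MulAut.conj _).injective e]
    have hkK : ((k : ↥A) : G) ∈ Subgroup.normalizer (PG : Set G) ⊔ B := by
      have hle : K0.map A.subtype ≤ Subgroup.normalizer (PG : Set G) ⊔ B := by
        rw [hK0d, Subgroup.map_sup, Subgroup.map_subgroupOf_eq_of_le hBA]
        exact sup_le_sup_right Subgroup.le_normalizer _
      exact hle ⟨k, k.2, rfl⟩
    simpa using mul_mem hkK (Subgroup.mem_sup_left hmem : _ ∈ Subgroup.normalizer (PG : Set G) ⊔ B)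
  have hn : Subgroup.normalizer (PG : Set G) = ⊤ :=
    frattini_nongenerating (top_le_iff.mp (htop ▸ sup_le_sup_left hB _))
  rw [Subgroup.normalizer_eq_top_iff] at hn
  constructor
  intro y hy a
  obtain ⟨z, hz, e⟩ := hn.conj_mem (y : G) ⟨y, hy, rfl⟩ (a : G)
  have : z = a * y * a⁻¹ := Subtype.ext e
  exact this ▸ hz

end Cfsg.Agent.S0584
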