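import Mathlib
import Cfsg.Agent.Lib.HallSolvable
import Cfsg.Agent.Lib.PGroupsBasic
import Cfsg.Agent.S0549
import Cfsg.Agent.S0583
import Cfsg.Statements.S0587

set_option autoImplicit false
set_option linter.unusedVariables false
set_option linter.unusedSectionVars false
open Cfsg

namespace Cfsg.Agent.S0587

open Subgroup Pointwise

theorem result {G : Type*} [Group G] [Finite G] (p : ℕ) [Fact p.Prime] (hL : Cfsg.pCore p G ≠ ⊥) (M : Subgroup G) (hM : IsCoatom M) (hcore : M.normalCore = ⊥) : Cfsg.IsElementaryAbelian p (Cfsg.pCore p G) ∧ Subgroup.IsComplement' (Cfsg.pCore p G) M ∧ (∀ K : Subgroup G, K.Normal → K ≤ Cfsg.pCore p G → K = ⊥ ∨ K = Cfsg.pCore p G) ∧ Subgroup.centralizer ((Cfsg.pCore p G : Subgroup G) : Set G) = Cfsg.pCore p G ∧ ∀ (q : ℕ) [Fact q.Prime], Cfsg.pCore q ↥M ≠ ⊥ → Nat.card (Cfsg.pCore p G) % q = 1 % q ∧ q ≠ p := by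
  set L := Cfsg.pCore p G with hLd
  have hLn : L.Normal := HallCore.pCore_normal p G
  have hLp : IsPGroup p L := HallCore.isPGroup_pCore p G
  obtain ⟨N, hN, hNL⟩ := HallSolvable.exists_minNormal_le hL
  have := hN.normal
  have hNp : IsPGroup p N := hLp.to_le hNL
  have : Group.IsNilpotent N := hNp.isNilpotent
  obtain ⟨r, hr, hNe, hNr⟩ := hN.exists_prime
  have hrp : r = p := by
    obtain ⟨a, b, ha⟩ : ∃ a b, Nat.card N = p ^ a ∧ Nat.card N = r ^ b := by
      haveI : Fact r.Prime := ⟨hr⟩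
      obtain ⟨a, ha⟩ := IsPGroup.iff_card.mp hNp
      obtain ⟨b, hb⟩ := IsPGroup.iff_card.mp hNr
      exact ⟨a, b, ha, hb⟩
    rcases a with _ | a
    · exact absurd (eq_bot_of_card_eq N (by simpa using ha.1)) hN.ne_bot
    · have h1 : p ∣ r ^ b := ha.2 ▸ ha.1 ▸ dvd_pow_self p a.succ_ne_zero
      exact ((Nat.prime_dvd_prime_iff_eq Fact.out hr).mp ((Fact.out : p.Prime).dvd_of_dvd_pow h1)).symm
  subst hrp
  obtain ⟨hCU, -⟩ := Cfsg.Agent.S0549.result M hM hcore N hN.ne_bot
  have htop : N ⊔ M = ⊤ := hM.2 _ (lt_of_le_of_ne le_sup_right fun e => hN.ne_bot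
    (le_bot_iff.mp (hcore ▸ normal_le_normalCore.mpr (e ▸ le_sup_left))))
  have hNC : N ≤ centralizer (N : Set G) := PGroupsBasic.le_centralizer_of_isMulCommutative hNe.1
  have hLF : L ≤ Cfsg.fittingSubgroup G := le_sSup ⟨hLn, hLp.isNilpotent⟩
  have hLC : L ≤ centralizer (N : Set G) :=
    hLF.trans (Cfsg.Agent.S0583.result N hN.ne_bot fun K hK hle => hN.2.2 K hK hle)
  have hsplit : ∀ x : G, ∃ n ∈ N, ∃ m ∈ M, x = n * m := fun x => by
    obtain ⟨n, hn, m, hm, e⟩ := mem_sup_of_normal_left.mp (htop ▸ mem_top x : x ∈ N ⊔ M)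
    exact ⟨n, hn, m, hm, e.symm⟩
  have hCN : centralizer (N : Set G) ≤ N := by
    intro x hx
    obtain ⟨n, hn, m, hm, rfl⟩ := hsplit x
    have hmC : m ∈ centralizer (N : Set G) := by
      simpa using mul_mem (inv_mem (hNC hn)) hx
    rw [mem_bot.mp (hCU ▸ ⟨hmC, hm⟩ : m ∈ (⊥ : Subgroup G)), mul_one]
    exact hn
  have hLN : L = N := le_antisymm (hLC.trans hCN) hNL
  have hcompl : IsComplement' L M := by
    rw [hLN]
    refine isComplement'_of_disjoint_and_mul_eq_univ ?_ (by rw [← Subgroup.normal_mul, htop, coe_top])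
    rw [disjoint_iff, eq_bot_iff]
    exact fun x hx => hCU ▸ ⟨hNC hx.1, hx.2⟩
  refine ⟨hLN ▸ hNe, hcompl, fun K hK hle => ?_, ?_, ?_⟩
  · rw [hLN] at hle ⊢; exact hN.2.2 K hK hle
  · rw [hLN]; exact le_antisymm hCN hNC
  intro q _ hQ
  set Q := (Cfsg.pCore q M).map M.subtype with hQd
  have hQp : IsPGroup q Q := (HallCore.isPGroup_pCore q M).map M.subtype
  have hQ0 : Q ≠ ⊥ := by rw [hQd, ne_eq, map_eq_bot_iff_of_injective _ M.subtype_injective]; exact hQ
  have hQM : M ≤ normalizer (Q : Set G) := by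
    intro m hm
    refine le_normalizer_map M.subtype ⟨⟨m, hm⟩, ?_, rfl⟩
    rw [normalizer_eq_top_iff.mpr (HallCore.pCore_normal q M)]; exact mem_top _
  have hQdisj : ∀ x ∈ Q, x ∈ L → x = 1 := fun x hx hxL =>
    mem_bot.mp (disjoint_iff.mp hcompl.disjoint ▸ ⟨hxL, map_subtype_le _ hx⟩)
  have hqp : q ≠ r := by
    rintro rfl
    have hn : (L ⊔ Q).Normal := by
      rw [← normalizer_eq_top_iff, eq_top_iff]
      intro x _
      obtain ⟨n, hn, m, hm, rfl⟩ := hsplit x
      refine mul_mem (le_normalizer (mem_sup_left (hLN ▸ hn))) ?_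
      · have h1 : m ∈ normalizer ((L : Subgroup G) : Set G) := normalizer_eq_top (H := L) ▸ mem_top m
        rw [mem_normalizer_iff]
        intro y
        have key : ∀ c : G, c ∈ normalizer (L : Set G) → c ∈ normalizer (Q : Set G) →
            ∀ z ∈ L ⊔ Q, c * z * c⁻¹ ∈ L ⊔ Q := by
          intro c hc1 hc2 z hz
          have h2 : L ⊔ Q ≤ (L ⊔ Q).comap (MulAut.conj c).toMonoidHom :=
            sup_le (fun w hw => mem_sup_left ((mem_normalizer_iff.mp hc1 w).mp hw))
              (fun w hw => mem_sup_right ((mem_normalizer_iff.mp hc2 w).mp hw))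
          exact h2 hz
        refine ⟨key m h1 (hQM hm) y, fun hy => ?_⟩
        simpa [mul_assoc] using key m⁻¹ (inv_mem h1) (inv_mem (hQM hm)) _ hy
    have hp : IsPGroup q ↥(L ⊔ Q) := hLp.to_sup_of_normal_left hQp
    have hle : L ⊔ Q ≤ L := HallCore.le_pCore hp
    exact hQ0 ((eq_bot_iff_forall Q).mpr fun x hx => hQdisj x hx (hle (mem_sup_right hx)))
  refine ⟨?_, hqp⟩
  let φ : Q →* MulAut L := (MulAut.conjNormal (H := L)).comp Q.subtype
  letI : MulAction Q L := MulAction.compHom L φ
  have hfix : MulAction.fixedPoints Q L = {1} := by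
    ext x
    constructor
    · intro hx
      set C := L ⊓ centralizer (Q : Set G) with hC
      have hxC : (x : G) ∈ C := by
        refine ⟨x.2, mem_centralizer_iff.mpr fun y hy => ?_⟩
        have h1 : (MulAut.conjNormal (H := L) y x : G) = x := congrArg Subtype.val (hx ⟨y, hy⟩)
        rw [MulAut.conjNormal_apply] at h1
        exact mul_inv_eq_iff_eq_mul.mp h1
      have hCn : C.Normal := by
        rw [← normalizer_eq_top_iff, eq_top_iff]
        intro g _
        obtain ⟨n, hn, m, hm, rfl⟩ := hsplit g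
        refine mul_mem ?_ ?_ <;> rw [mem_normalizer_iff] <;> intro y
        · have hcc : ∀ z ∈ L, n * z * n⁻¹ = z := fun z hz => by
            rw [(mem_centralizer_iff.mp (hLC hz) n hn), mul_inv_cancel_right]
          constructor <;> intro hy
          · rwa [hcc y hy.1]
          · have hyL : y ∈ L := by
              have := hLn.conj_mem _ hy.1 n⁻¹
              simpa [mul_assoc] using this
            rwa [hcc y hyL] at hy
        · have hmQ := mem_normalizer_iff.mp (hQM hm)
          refine and_congr (mem_normalizer_iff.mp (normalizer_eq_top (H := L) ▸ mem_top m) y) ?_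
          constructor
          · intro hy
            refine mem_centralizer_iff.mpr fun z hz => ?_
            have h1 : m⁻¹ * z * m ∈ Q := (hmQ _).mpr (by simpa [mul_assoc] using hz)
            have h2 := mem_centralizer_iff.mp hy _ h1
            calc z * (m * y * m⁻¹) = m * ((m⁻¹ * z * m) * y) * m⁻¹ := by group
              _ = _ := by rw [h2]; group
          · intro hy
            refine mem_centralizer_iff.mpr fun z hz => ?_
            have h2 := mem_centralizer_iff.mp hy _ ((hmQ z).mp hz)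
            calc z * y = m⁻¹ * ((m * z * m⁻¹) * (m * y * m⁻¹)) * m := by group
              _ = _ := by rw [h2]; group
      rcases hN.2.2 C hCn (hLN ▸ inf_le_left) with h0 | h0
      · exact Subtype.ext (mem_bot.mp (h0 ▸ hxC))
      · exfalso
        refine hQ0 ((eq_bot_iff_forall Q).mpr fun y hy => ?_)
        have hyC : y ∈ centralizer (N : Set G) := by
          refine mem_centralizer_iff.mpr fun z hz => ?_
          exact (mem_centralizer_iff.mp (h0.symm ▸ hz : z ∈ C).2 y hy).symm
        exact hQdisj y hy (hLN ▸ hCN hyC)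
    · rintro rfl y
      exact map_one (φ y)
  have hmod := hQp.card_modEq_card_fixedPoints (α := L)
  rw [hfix, Nat.card_coe_set_eq, Set.ncard_singleton] at hmod
  exact hmod

end Cfsg.Agent.S0587
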