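import Mathlib
import Cfsg.Statements.S0588

set_option autoImplicit false
set_option linter.unusedVariables false
open Cfsg

namespace Cfsg.Agent.S0588



theorem result {G : Type*} [Group G] [Finite G] (H : Subgroup G) (h : ∀ x ∈ H, x ≠ 1 → Subgroup.centralizer ({x} : Set G) ≤ H) : (Nat.card H).Coprime H.index := by
  refine Nat.coprime_of_dvd fun p hp h1 h2 => ?_
  haveI : Fact p.Prime := ⟨hp⟩
  obtain ⟨P⟩ := (inferInstance : Nonempty (Sylow p H))
  have hP := IsPGroup.map P.2 H.subtype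
  obtain ⟨S, hS⟩ := hP.exists_le_sylow
  have hbot : (P : Subgroup H) ≠ ⊥ := Sylow.ne_bot_of_dvd_card P h1
  obtain ⟨⟨x, hxH⟩, hxP, hx1⟩ := (Subgroup.bot_or_exists_ne_one _).resolve_left hbot
  have hx1' : x ≠ 1 := fun e => hx1 (Subtype.ext e)
  have hxS : x ∈ (S : Subgroup G) := hS ⟨⟨x, hxH⟩, hxP, rfl⟩
  have : Nontrivial (S : Subgroup G) := ⟨⟨⟨x, hxS⟩, 1, fun e => hx1' (congrArg Subtype.val e)⟩⟩
  obtain ⟨⟨z, hzS⟩, hzc, hz1⟩ := (Subgroup.bot_or_exists_ne_one _).resolve_left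
    S.2.bot_lt_center.ne'
  rw [Subgroup.mem_center_iff] at hzc
  have hz1' : z ≠ 1 := fun e => hz1 (Subtype.ext e)
  have hzH : z ∈ H := h x hxH hx1' (Subgroup.mem_centralizer_singleton_iff.mpr
    (congrArg Subtype.val (hzc ⟨x, hxS⟩)).symm)
  have hSH : (S : Subgroup G) ≤ H := fun s hs => h z hzH hz1'
    (Subgroup.mem_centralizer_singleton_iff.mpr (congrArg Subtype.val (hzc ⟨s, hs⟩)))
  exact S.not_dvd_index (h2.trans (Subgroup.index_dvd_of_le hSH))

end Cfsg.Agent.S0588
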