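import Mathlib
import Cfsg.Statements.S0590

set_option autoImplicit false
set_option linter.unusedVariables false
set_option linter.unusedSectionVars false
open Cfsg
open scoped commutatorElement

namespace Cfsg.Agent.S0590

theorem d_mem {G : Type*} [Group G] {V H : Subgroup G} {a v : G} (ha : a ∈ H) (hv : v ∈ V) :
    v⁻¹ * (a * v * a⁻¹) ∈ ⁅V, H⁆ := by
  have h := Subgroup.commutator_mem_commutator (inv_mem hv) ha
  rwa [commutatorElement_def, inv_inv, ← mul_assoc v⁻¹, ← mul_assoc v⁻¹] at *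

theorem result {G : Type*} [Group G] [Finite G] {p : ℕ} [Fact p.Prime] (V H : Subgroup G) (hV : Cfsg.IsElementaryAbelian p V) (hHV : H ≤ Subgroup.normalizer (V : Set G)) (hq : ⁅⁅V, H⁆, H⁆ = ⊥) : ⁅H, H⁆ ≤ Subgroup.centralizer (V : Set G) ∧ ∀ a ∈ H, a ^ p ∈ Subgroup.centralizer (V : Set G) := by
  obtain ⟨hab, hexp⟩ := hV
  rw [Subgroup.commutator_eq_bot_iff_le_centralizer] at hq
  have hVn : ∀ a ∈ H, ∀ v ∈ V, a * v * a⁻¹ ∈ V := fun a ha v hv =>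
    (Subgroup.mem_normalizer_iff.mp (hHV ha) v).mp hv
  -- `a` moves `v` by a factor `d a v` fixed by `H`
  have hd : ∀ a ∈ H, ∀ v ∈ V, ∀ b ∈ H,
      b * (v⁻¹ * (a * v * a⁻¹)) * b⁻¹ = v⁻¹ * (a * v * a⁻¹) := by
    intro a ha v hv b hb
    rw [Subgroup.mem_centralizer_iff.mp (hq (d_mem ha hv)) b hb, mul_inv_cancel_right]
  refine ⟨Subgroup.commutator_le.mpr fun a ha b hb => ?_, fun a ha => ?_⟩
  · rw [Subgroup.mem_centralizer_iff]
    intro v hv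
    have key : ∀ c ∈ H, ∀ e ∈ H, (c * e) * v * (c * e)⁻¹ =
        (c * v * c⁻¹) * (v⁻¹ * (e * v * e⁻¹)) := by
      intro c hc e he
      calc (c * e) * v * (c * e)⁻¹
          = (c * v * c⁻¹) * (c * (v⁻¹ * (e * v * e⁻¹)) * c⁻¹) := by group
        _ = _ := by rw [hd e he v hv c hc]
    have hcomm : (a * b) * v * (a * b)⁻¹ = (b * a) * v * (b * a)⁻¹ := by
      rw [key a ha b hb, key b hb a ha]
      have hA := hVn a ha v hv
      have hB := hVn b hb v hv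
      calc (a * v * a⁻¹) * (v⁻¹ * (b * v * b⁻¹))
          = ((a * v * a⁻¹) * v⁻¹) * (b * v * b⁻¹) := by group
        _ = (b * v * b⁻¹) * ((a * v * a⁻¹) * v⁻¹) :=
            setLike_mul_comm (mul_mem hA (inv_mem hv)) hB
        _ = (b * v * b⁻¹) * (v⁻¹ * (a * v * a⁻¹)) := by
            rw [setLike_mul_comm hA (inv_mem hv)]
    have h2 : ⁅a, b⁆ * ((b * a) * v * (b * a)⁻¹) * ⁅a, b⁆⁻¹ = (a * b) * v * (a * b)⁻¹ := by
      simp only [commutatorElement_def]; group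
    rw [← hcomm] at h2
    -- every element of `V` is of the form `(a b) v (a b)⁻¹`
    have hgen : ∀ u ∈ V, ∀ a' ∈ H, ∀ b' ∈ H,
        ⁅a', b'⁆ * u * ⁅a', b'⁆⁻¹ = u → u * ⁅a', b'⁆ = ⁅a', b'⁆ * u := by
      intro u hu a' _ b' _ h
      calc u * ⁅a', b'⁆ = ⁅a', b'⁆ * u * ⁅a', b'⁆⁻¹ * ⁅a', b'⁆ := by rw [h]
        _ = _ := by group
    have hc : ⁅a, b⁆ ∈ H := by
      rw [commutatorElement_def]
      exact mul_mem (mul_mem (mul_mem ha hb) (inv_mem ha)) (inv_mem hb)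
    set x := (a * b) * v * (a * b)⁻¹ with hx
    have hxV : x ∈ V := hVn _ (mul_mem ha hb) v hv
    -- the commutator fixes `v` as well, as its displacement is fixed by `H`
    have hvd := hd _ hc v hv (a * b) (mul_mem ha hb)
    have h3 : (a * b) * (⁅a, b⁆ * v * ⁅a, b⁆⁻¹) * (a * b)⁻¹
        = x * (v⁻¹ * (⁅a, b⁆ * v * ⁅a, b⁆⁻¹)) := by
      calc _ = ((a * b) * v * (a * b)⁻¹) * ((a * b) * (v⁻¹ * (⁅a, b⁆ * v * ⁅a, b⁆⁻¹)) * (a * b)⁻¹) := by group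
        _ = _ := by rw [hvd]
    have h4 : ⁅a, b⁆ * x * ⁅a, b⁆⁻¹ = ((a * b) * v * (a * b)⁻¹) * (v⁻¹ * (⁅a, b⁆ * v * ⁅a, b⁆⁻¹)) := by
      have h5 := key _ hc (a * b) (mul_mem ha hb)
      calc ⁅a, b⁆ * x * ⁅a, b⁆⁻¹ = (⁅a, b⁆ * (a * b)) * v * (⁅a, b⁆ * (a * b))⁻¹ := by rw [hx]; group
        _ = (⁅a, b⁆ * v * ⁅a, b⁆⁻¹) * (v⁻¹ * x) := h5
        _ = (⁅a, b⁆ * v * ⁅a, b⁆⁻¹ * v⁻¹) * x := by group
        _ = x * (⁅a, b⁆ * v * ⁅a, b⁆⁻¹ * v⁻¹) :=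
            setLike_mul_comm (mul_mem (hVn _ hc v hv) (inv_mem hv)) hxV
        _ = x * (v⁻¹ * (⁅a, b⁆ * v * ⁅a, b⁆⁻¹)) := by
            rw [setLike_mul_comm (hVn _ hc v hv) (inv_mem hv)]
    rw [h2] at h4
    have h6 : v⁻¹ * (⁅a, b⁆ * v * ⁅a, b⁆⁻¹) = 1 := left_eq_mul.mp h4
    exact hgen v hv a ha b hb (by rwa [inv_mul_eq_one, eq_comm] at h6)
  · rw [Subgroup.mem_centralizer_iff]
    intro v hv
    set d := v⁻¹ * (a * v * a⁻¹) with hdd
    have hit : ∀ n : ℕ, a ^ n * v * (a ^ n)⁻¹ = v * d ^ n := by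
      intro n
      induction n with
      | zero => simp
      | succ n ih =>
        rw [pow_succ' a]
        calc a * a ^ n * v * (a * a ^ n)⁻¹ = a * (a ^ n * v * (a ^ n)⁻¹) * a⁻¹ := by group
          _ = (a * v * a⁻¹) * (a * d * a⁻¹) ^ n := by rw [ih, conj_pow]; group
          _ = v * d ^ (n + 1) := by
            rw [hd a ha v hv a ha, ← hdd, pow_succ', ← mul_assoc v, hdd, mul_inv_cancel_left]
    have h := hit p
    rw [hexp d (mul_mem (inv_mem hv) (hVn a ha v hv)), mul_one] at h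
    calc v * a ^ p = a ^ p * v * (a ^ p)⁻¹ * a ^ p := by rw [h]
      _ = _ := by group

end Cfsg.Agent.S0590
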