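import Mathlib
import Cfsg.Statements.S0591

set_option autoImplicit false
set_option linter.unusedVariables false
set_option linter.unusedSectionVars false
open Cfsg
open scoped commutatorElement

namespace Cfsg.Agent.S0591



theorem result {G : Type*} [Group G] [Finite G] {p : ℕ} [Fact p.Prime] (V : Subgroup G) (hV : Cfsg.IsElementaryAbelian p V) (a : G) (ha : a ∈ Subgroup.normalizer (V : Set G)) (hq : ⁅⁅V, Subgroup.zpowers a⁆, Subgroup.zpowers a⁆ = ⊥) : Nat.card V ≤ Nat.card ↥(V ⊓ Subgroup.centralizer (Subgroup.zpowers a : Set G)) ^ 2 := by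
  obtain ⟨hab, hexp⟩ := hV
  rw [Subgroup.commutator_eq_bot_iff_le_centralizer] at hq
  set X := V ⊓ Subgroup.centralizer (Subgroup.zpowers a : Set G) with hX
  have hVn : ∀ v ∈ V, a * v * a⁻¹ ∈ V := fun v hv => (Subgroup.mem_normalizer_iff.mp ha v).mp hv
  let f : V →* V :=
    { toFun := fun v => ⟨(v : G)⁻¹ * (a * v * a⁻¹), mul_mem (inv_mem v.2) (hVn v v.2)⟩
      map_one' := Subtype.ext (by simp)
      map_mul' := fun u w => Subtype.ext (by
        simp only [Subgroup.coe_mul, mul_inv_rev]
        calc (w : G)⁻¹ * (u : G)⁻¹ * (a * (u * w) * a⁻¹)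
            = (w : G)⁻¹ * ((u : G)⁻¹ * (a * u * a⁻¹) * (a * w * a⁻¹)) := by group
          _ = (w : G)⁻¹ * ((a * w * a⁻¹) * ((u : G)⁻¹ * (a * u * a⁻¹))) := by
              rw [setLike_mul_comm (mul_mem (inv_mem u.2) (hVn u u.2)) (hVn w w.2)]
          _ = _ := by
              rw [← mul_assoc]
              exact setLike_mul_comm (mul_mem (inv_mem w.2) (hVn w w.2)) (mul_mem (inv_mem u.2) (hVn u u.2))) }
  have hker : Nat.card f.ker ≤ Nat.card X := by
    refine Nat.card_le_card_of_injective (fun v => ⟨((v : V) : G), (v : V).2, ?_⟩)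
      fun u w h => Subtype.ext (Subtype.ext (congrArg (fun x : X => (x : G)) h :))
    have h1 : ((v : V) : G)⁻¹ * (a * (v : V) * a⁻¹) = 1 := congrArg Subtype.val (v.2 : f (v : V) = 1)
    rw [inv_mul_eq_one] at h1
    have h2 : Commute a ((v : V) : G) := (mul_inv_eq_iff_eq_mul.mp h1.symm)
    show ((v : V) : G) ∈ Subgroup.centralizer _
    rw [Subgroup.mem_centralizer_iff]
    intro h hh
    obtain ⟨k, rfl⟩ := Subgroup.mem_zpowers_iff.mp hh
    exact (h2.zpow_left k).eq
  have hran : Nat.card f.range ≤ Nat.card X := by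
    refine Nat.card_le_card_of_injective (fun v => ⟨((v : V) : G), (v : V).2, ?_⟩)
      fun u w h => Subtype.ext (Subtype.ext (congrArg (fun x : X => (x : G)) h :))
    obtain ⟨u, hu⟩ := v.2
    rw [← hu]
    refine hq ?_
    have h := Subgroup.commutator_mem_commutator (H₁ := V) (inv_mem u.2) (Subgroup.mem_zpowers a)
    rw [commutatorElement_def, inv_inv] at h
    show (u : G)⁻¹ * (a * u * a⁻¹) ∈ _
    simpa [mul_assoc] using h
  calc Nat.card V = Nat.card f.ker * Nat.card f.range := by
        rw [← Subgroup.index_ker, Subgroup.card_mul_index]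
    _ ≤ Nat.card X * Nat.card X := Nat.mul_le_mul hker hran
    _ = _ := (sq _).symm

end Cfsg.Agent.S0591
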