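import Mathlib
import Cfsg.Agent.Lib.QuadraticRep
import Cfsg.Statements.S0592

set_option autoImplicit false
set_option linter.unusedVariables false
set_option linter.unusedSectionVars false
open Cfsg

namespace Cfsg.Agent.S0592

universe u v

theorem mem_range_of_pow_card_eq {K L : Type*} [Field K] [Fintype K] [Field L] (ι : K →+* L) {x : L}
    (hx : x ^ Fintype.card K = x) : ∃ c, ι c = x := by
  classical
  have hq : 1 < Fintype.card K := Fintype.one_lt_card
  let f : Polynomial L := Polynomial.X ^ Fintype.card K - Polynomial.X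
  have hf : f ≠ 0 := FiniteField.X_pow_card_sub_X_ne_zero L hq
  by_contra h
  push Not at h
  have hsub : insert x (Finset.univ.image ι) ⊆ f.roots.toFinset := by
    intro y hy
    rw [Multiset.mem_toFinset, Polynomial.mem_roots hf]
    rcases Finset.mem_insert.mp hy with rfl | hy
    · simp [f, hx]
    · obtain ⟨c, -, rfl⟩ := Finset.mem_image.mp hy
      simp [f, ← map_pow, FiniteField.pow_card]
  have h1 := Finset.card_le_card hsub
  rw [Finset.card_insert_of_notMem (by simpa using h), Finset.card_image_of_injective _ ι.injective,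
    Finset.card_univ] at h1
  have h2 := (Multiset.toFinset_card_le _).trans (Polynomial.card_roots' f)
  rw [FiniteField.X_pow_card_sub_X_natDegree_eq L hq] at h2
  omega

theorem trace_mem {p : ℕ} [Fact p.Prime] {K L : Type*} [Field K] [Fintype K] [CharP K p]
    [Field L] [CharP L p] [IsAlgClosed L] (ι : K →+* L) (c : L) {e k : ℕ}
    (hk : k ∣ Fintype.card K - 1)
    (hM : (!![1 + c, c; 1, 1] : Matrix (Fin 2) (Fin 2) L) ^ (p ^ e * k) = 1) :
    ∃ c₀, ι c₀ = c := by
  obtain ⟨l, hl⟩ := IsAlgClosed.exists_root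
    (Polynomial.C 1 * Polynomial.X ^ 2 + Polynomial.C (-(2 + c)) * Polynomial.X + Polynomial.C 1)
    (by rw [Polynomial.degree_quadratic one_ne_zero]; decide)
  have hl' : l ^ 2 - (2 + c) * l + 1 = 0 := by
    have h1 : l ^ 2 + -(2 + c) * l + 1 = 0 := by simpa [Polynomial.IsRoot] using hl
    linear_combination h1
  have hMv : ∀ n : ℕ, Matrix.mulVec ((!![1 + c, c; 1, 1] : Matrix (Fin 2) (Fin 2) L) ^ n) ![l - 1, 1] =
      l ^ n • ![l - 1, 1] := by
    intro n
    induction n with
    | zero => simp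
    | succ n ih =>
      rw [pow_succ', ← Matrix.mulVec_mulVec, ih, Matrix.mulVec_smul, pow_succ, mul_smul]
      congr 1
      funext i
      fin_cases i
      · simp [Matrix.mulVec, dotProduct, Fin.sum_univ_two]
        linear_combination -hl'
      · simp [Matrix.mulVec, dotProduct, Fin.sum_univ_two]
  have hlN : l ^ (p ^ e * k) = 1 := by
    have := congrFun (hMv (p ^ e * k)) 1
    rw [hM] at this
    simpa using this.symm
  have hlk : l ^ k = 1 := by
    have h1 : (l ^ k) ^ p ^ e = 1 ^ p ^ e := by rw [one_pow, ← pow_mul, mul_comm]; exact hlN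
    exact iterateFrobenius_inj L p e h1
  obtain ⟨n, hp, hn⟩ := FiniteField.card K p
  have hl0 : l ≠ 0 := by
    rintro rfl
    simp at hl'
  have hlq : l ^ Fintype.card K = l := by
    obtain ⟨m, hm⟩ := hk
    have : Fintype.card K = k * m + 1 := by
      have := (Fintype.card_pos : 0 < Fintype.card K)
      omega
    rw [this, pow_succ, pow_mul, hlk, one_pow, one_mul]
  have hc : c = l + l⁻¹ - 2 := by
    field_simp
    linear_combination -hl'
  apply mem_range_of_pow_card_eq
  have hfr : ∀ x : L, iterateFrobenius L p n x = x ^ Fintype.card K := by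
    intro x; rw [iterateFrobenius_def, hn]
  rw [← hfr, hc, map_sub, map_add, map_inv₀, map_ofNat, hfr, hlq]

theorem exists_field_hom (p : ℕ) [Fact p.Prime] (K : Type*) [Field K] [Finite K] [CharP K p]
    (L : Type*) [Field L] [CharP L p] [IsAlgClosed L] : Nonempty (K →+* L) := by
  letI := ZMod.algebra K p
  letI := ZMod.algebra L p
  exact ⟨(IsAlgClosed.lift : K →ₐ[ZMod p] L).toRingHom⟩

theorem sl_map_injective {K L : Type*} [Field K] [Field L] (ι : K →+* L) :
    Function.Injective (Matrix.SpecialLinearGroup.map (n := Fin 2) ι) := by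
  intro A B h
  apply Subtype.ext
  ext i j
  exact ι.injective (congrFun (congrFun (congrArg Subtype.val h) i) j)

theorem map_coe {K L : Type*} [Field K] [Field L] (ι : K →+* L)
    (A : Matrix.SpecialLinearGroup (Fin 2) K) (i i' : Fin 2) :
    (Matrix.SpecialLinearGroup.map ι A).1 i i' = ι (A.1 i i') := rfl

theorem main {p : ℕ} [Fact p.Prime] {K : Type u} [Field K] [Fintype K] [CharP K p]
    {H : Type v} [Group H] [Finite H] {a b : H} (hgen : Subgroup.closure {a, b} = ⊤)
    {g : H} {q : ℕ} (hq : q.Prime) (hqp : q ≠ p) (hgq : orderOf g = q)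
    (hI : Cfsg.Agent.QuadraticRep.SL2Image p a b g) {e k : ℕ}
    (hord : (a * b) ^ (p ^ e * k) = 1) (hk : k ∣ Fintype.card K - 1) :
    ∃ φ : H →* Matrix.SpecialLinearGroup (Fin 2) K, ¬ IsPGroup p φ.range := by
  obtain ⟨F, φ, c, hc, ha, hb, hg⟩ := hI
  rename_i _ _ _
  haveI : CharP (AlgebraicClosure F) p :=
    charP_of_injective_algebraMap (algebraMap F (AlgebraicClosure F)).injective p
  obtain ⟨ι⟩ := exists_field_hom p K (AlgebraicClosure F)
  let j : F →+* AlgebraicClosure F := algebraMap F _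
  let φL : H →* Matrix.SpecialLinearGroup (Fin 2) (AlgebraicClosure F) :=
    (Matrix.SpecialLinearGroup.map j).comp φ
  have hmap : ∀ h : H, (φL h).1 = (φ h).1.map j := fun h => rfl
  obtain ⟨c₀, hc₀⟩ := trace_mem (p := p) ι (j c) hk (e := e) (by
    have h1 : (φL ((a * b) ^ (p ^ e * k))).1 = 1 := by rw [hord, map_one]; rfl
    rw [map_pow, Matrix.SpecialLinearGroup.coe_pow] at h1
    rw [← h1]
    congr 1
    rw [map_mul, Matrix.SpecialLinearGroup.coe_mul, hmap, hmap, ha, hb]
    ext i i'
    fin_cases i <;> fin_cases i' <;> simp [Matrix.mul_apply, Fin.sum_univ_two])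
  have hrange : ∀ h : H, φL h ∈ (Matrix.SpecialLinearGroup.map (n := Fin 2) ι).range := by
    intro h
    have h1 : h ∈ Subgroup.closure {a, b} := hgen ▸ Subgroup.mem_top h
    induction h1 using Subgroup.closure_induction with
    | mem x hx =>
      rcases hx with rfl | rfl
      · refine ⟨⟨!![1, c₀; 0, 1], by simp [Matrix.det_fin_two]⟩, Subtype.ext ?_⟩
        rw [hmap, ha]
        show (!![1, c₀; 0, 1] : Matrix (Fin 2) (Fin 2) K).map ι = (!![1, c; 0, 1] : Matrix (Fin 2) (Fin 2) F).map j
        ext i i'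
        fin_cases i <;> fin_cases i' <;> simp [hc₀]
      · refine ⟨⟨!![1, 0; 1, 1], by simp [Matrix.det_fin_two]⟩, Subtype.ext ?_⟩
        rw [hmap, hb]
        show (!![1, 0; 1, 1] : Matrix (Fin 2) (Fin 2) K).map ι = (!![1, 0; 1, 1] : Matrix (Fin 2) (Fin 2) F).map j
        ext i i'
        fin_cases i <;> fin_cases i' <;> simp
    | one => rw [map_one]; exact one_mem _
    | mul x y _ _ ihx ihy => rw [map_mul]; exact mul_mem ihx ihy
    | inv x _ ih => rw [map_inv]; exact inv_mem ih
  choose ψ hψ using hrange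
  let ψ' : H →* Matrix.SpecialLinearGroup (Fin 2) K :=
    MonoidHom.mk' ψ fun x y => sl_map_injective ι (by rw [map_mul, hψ, hψ, hψ, map_mul])
  refine ⟨ψ', fun hP => ?_⟩
  have hne : ψ' g ≠ 1 := by
    intro h1
    apply hg
    apply sl_map_injective j
    rw [map_one]
    show φL g = 1
    rw [← hψ g, show ψ g = ψ' g from rfl, h1, map_one]
  obtain ⟨m, hm⟩ := hP ⟨ψ' g, g, rfl⟩
  have h2 : orderOf (ψ' g) ∣ p ^ m :=
    orderOf_dvd_of_pow_eq_one (congrArg Subtype.val hm)
  have h3 : orderOf (ψ' g) ∣ q := hgq ▸ orderOf_map_dvd ψ' g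
  rcases (Nat.dvd_prime hq).mp h3 with h4 | h4
  · exact hne (orderOf_eq_one_iff.mp h4)
  · rw [h4] at h2
    exact hqp ((Nat.prime_dvd_prime_iff_eq hq Fact.out).mp (hq.dvd_of_dvd_pow h2))

theorem result {K : Type*} [Field K] [Fintype K] {p : ℕ} [Fact p.Prime] [CharP K p] {W : Type*} [AddCommGroup W] [Module K W] [FiniteDimensional K W] [Finite W] [Nontrivial W] (H : Subgroup (W ≃ₗ[K] W)) (a b : W ≃ₗ[K] W) (hH : H = Subgroup.closure {a, b}) (ha : ∀ w : W, a (a w - w) = a w - w) (hb : ∀ w : W, b (b w - w) = b w - w) (hnp : ¬ IsPGroup p H) (hk : ∃ e k : ℕ, orderOf (a * b) = p ^ e * k ∧ k ∣ Fintype.card K - 1) : ∃ φ : H →* Matrix.SpecialLinearGroup (Fin 2) K, ¬ IsPGroup p φ.range := by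
  haveI : Finite (W ≃ₗ[K] W) := Finite.of_injective (fun f => (f : W → W)) DFunLike.coe_injective
  haveI : CharP K p := inferInstance
  haveI : Module (ZMod p) W := AddCommGroup.zmodModule fun x => by
    rw [← Nat.cast_smul_eq_nsmul K, CharP.cast_eq_zero, zero_smul]
  let ρ : H →* Module.End (ZMod p) W :=
    { toFun := fun h => AddMonoidHom.toZModLinearMap p (h.1 : W →ₗ[K] W).toAddMonoidHom
      map_one' := LinearMap.ext fun w => rfl
      map_mul' := fun x y => LinearMap.ext fun w => rfl }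
  have hρ : Function.Injective ρ := fun x y h =>
    Subtype.ext (LinearEquiv.ext fun w => LinearMap.congr_fun h w)
  have haH : a ∈ H := hH ▸ Subgroup.subset_closure (Or.inl rfl)
  have hbH : b ∈ H := hH ▸ Subgroup.subset_closure (Or.inr rfl)
  let a' : H := ⟨a, haH⟩
  let b' : H := ⟨b, hbH⟩
  have hgen : Subgroup.closure {a', b'} = ⊤ := by
    apply Subgroup.map_injective H.subtype_injective
    rw [MonoidHom.map_closure, ← MonoidHom.range_eq_map, H.range_subtype, Set.image_pair]
    exact hH.symm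
  have hsq : ∀ x : H, (∀ w : W, x.1 (x.1 w - w) = x.1 w - w) → (ρ x - 1) * (ρ x - 1) = 0 := by
    intro x hx
    refine LinearMap.ext fun w => ?_
    show x.1 (x.1 w - w) - (x.1 w - w) = 0
    rw [hx, sub_self]
  obtain ⟨q, hq, hqp, hqd⟩ : ∃ q : ℕ, q.Prime ∧ q ≠ p ∧ q ∣ Nat.card H := by
    by_contra h
    push Not at h
    apply hnp
    refine IsPGroup.of_card (n := (Nat.card H).primeFactorsList.length)
      (Nat.eq_prime_pow_of_unique_prime_dvd Nat.card_pos.ne' fun {q} hq hqd => ?_)
    by_contra hne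
    exact h q hq hne hqd
  haveI := Fact.mk hq
  obtain ⟨g, hg⟩ := exists_prime_orderOf_dvd_card' q hqd
  have hg1 : g ≠ 1 := by
    intro h
    rw [h, orderOf_one] at hg
    exact hq.one_lt.ne hg
  obtain ⟨hI⟩ := Cfsg.Agent.QuadraticRep.exists_image hgen ρ hρ (hsq a' ha) (hsq b' hb) hg1
    (by rw [hg]; exact (Nat.coprime_primes hq Fact.out).2 hqp)
  obtain ⟨e, k, hord, hk⟩ := hk
  refine main hgen hq hqp hg hI (e := e) (k := k) ?_ hk
  apply Subtype.ext
  show (a * b) ^ (p ^ e * k) = 1
  rw [← hord, pow_orderOf_eq_one]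

end Cfsg.Agent.S0592
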