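import Cfsg.Statements.S0594
import Mathlib
import Cfsg.Agent.Lib.QuadraticMain
import Cfsg.Agent.Lib.QuadraticGroup

set_option autoImplicit false
open Cfsg

namespace Cfsg.Agent.S0594

/-- For odd p, two quadratic generators of a faithful group that is not a p-group, one of which acts nontrivially on a normal subgroup of order prime to p, force p = 3 and a section isomorphic to SL(2,3). -/
theorem result {G : Type*} [Group G] [Finite G] {p : ℕ} [Fact p.Prime] (hp : p ≠ 2) (V H : Subgroup G) (hV : Cfsg.IsElementaryAbelian p V) (hHV : H ≤ Subgroup.normalizer (V : Set G)) (hf : H ⊓ Subgroup.centralizer (V : Set G) = ⊥) (a b : G) (hab : H = Subgroup.closure {a, b}) (ha : ⁅⁅V, Subgroup.zpowers a⁆, Subgroup.zpowers a⁆ = ⊥) (hb : ⁅⁅V, Subgroup.zpowers b⁆, Subgroup.zpowers b⁆ = ⊥) (hnp : ¬ IsPGroup p H) (Q : Subgroup G) (hQH : Q ≤ H) (hQn : H ≤ Subgroup.normalizer (Q : Set G)) (hQ : (Nat.card Q).Coprime p) (hQa : ⁅Q, Subgroup.zpowers a⁆ ≠ ⊥) : p = 3 ∧ ∃ (K L : Subgroup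 G) (hL : (L.subgroupOf K).Normal), K ≤ H ∧ Nonempty ((K ⧸ L.subgroupOf K) ≃* Matrix.SpecialLinearGroup (Fin 2) (ZMod 3)) := by
  subst hab
  obtain ⟨i1, i2, ρ, hρ, hq⟩ := QuadraticGroup.exists_rep V _ hV hHV hf
  letI := i1
  letI := i2
  haveI : (Q.subgroupOf (Subgroup.closure ({a, b} : Set G))).Normal :=
    Subgroup.normal_subgroupOf_iff_le_normalizer hQH |>.2 hQn
  have hQc : (Nat.card (Q.subgroupOf (Subgroup.closure ({a, b} : Set G)))).Coprime p := by
    rwa [Nat.card_congr (Subgroup.subgroupOfEquivOfLe hQH).toEquiv]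
  have hne : ¬ Q.subgroupOf (Subgroup.closure ({a, b} : Set G)) ≤
      Subgroup.centralizer {(⟨a, Subgroup.subset_closure (Or.inl rfl)⟩ : Subgroup.closure ({a, b} : Set G))} := by
    intro hle
    apply hQa
    rw [Subgroup.commutator_eq_bot_iff_le_centralizer, Subgroup.le_centralizer_iff,
      Subgroup.zpowers_le]
    intro q hq'
    exact congrArg Subtype.val (Subgroup.mem_centralizer_singleton_iff.1
      (hle (show (⟨q, hQH hq'⟩ : ↥(Subgroup.closure ({a, b} : Set G))) ∈
        Q.subgroupOf (Subgroup.closure ({a, b} : Set G)) from hq')))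
  obtain ⟨h3, hs⟩ := QuadraticMain.section_of_normal ρ hp hρ (QuadraticGroup.closure_pair a b)
    (hq ⟨a, Subgroup.subset_closure (Or.inl rfl)⟩ ha)
    (hq ⟨b, Subgroup.subset_closure (Or.inr rfl)⟩ hb)
    (Q.subgroupOf (Subgroup.closure ({a, b} : Set G))) hQc hne
  exact ⟨h3, QuadraticMain.exists_section_sub hs⟩

end Cfsg.Agent.S0594
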