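import Cfsg.Statements.S0599
import Mathlib
import Cfsg.Agent.Lib.Offenders
import Cfsg.Agent.Lib.OffendersReplace

set_option autoImplicit false
open Cfsg

namespace Cfsg.Agent.S0599

open scoped commutatorElement

/-- The Timmesfeld replacement Theorem: replacing a best offender A by C_A([U, A]) gives a best offender with fixed points [U, A]C_V(A), still nontrivial on V if A was. -/
theorem result {G : Type*} [Group G] [Finite G] {p : ℕ} [Fact p.Prime] (V A : Subgroup G) (hV : Cfsg.IsElementaryAbelian p V) (hAV : A ≤ Subgroup.normalizer (V : Set G)) (hA : Cfsg.IsBestOffenderOn p V A) (U : Subgroup G) (hU : U ≤ V) : Cfsg.IsBestOffenderOn p V (A ⊓ Subgroup.centralizer ((⁅U, A⁆ : Subgroup G) : Set G)) ∧ V ⊓ Subgroup.centralizer ((A ⊓ Subgroup.centralizer ((⁅U, A⁆ : Subgroup G) : Set G) : Subgroup G) : Set G) = ⁅U, A⁆ ⊔ (V ⊓ Subgroup.centralizer (A : Set G)) ∧ (⁅V, A⁆ ≠ ⊥ → ⁅V, A ⊓ Subgroup.centralizer ((⁅U, A⁆ : Subgroup G) : Set G)⁆ ≠ ⊥) := by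
  have hVc := ((Offenders.ea_iff V).1 hV).1
  obtain ⟨hmax, hab, hpow⟩ := hA
  obtain ⟨hatt, hfix⟩ := OffendersReplace.attains_commutator hVc hAV hab hmax hU
  set B := A ⊓ Subgroup.centralizer ((⁅U, A⁆ : Subgroup G) : Set G) with hB
  refine ⟨⟨fun D hD => ?_, (Subgroup.commutator_mono inf_le_left inf_le_left).trans hab,
    fun b hb => hpow b hb.1⟩, hfix, ?_⟩
  · exact (hmax D (hD.trans inf_le_left)).trans hatt.2.ge
  · intro hne h0
    apply hne
    have hBV : V ≤ Subgroup.centralizer (B : Set G) :=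
      Subgroup.commutator_eq_bot_iff_le_centralizer.1 h0
    have hXV : ⁅V, A⁆ ≤ V := Subgroup.le_normalizer_iff_commutator_le_left.1 hAV
    have hV' : V ≤ ⁅V, A⁆ ⊔ OffendersReplace.fixedIn V A :=
      (le_inf le_rfl hBV).trans (hfix.le.trans (sup_le_sup_right (Subgroup.commutator_mono hU le_rfl) _))
    refine OffendersReplace.eq_bot_of_le_commutator (Offenders.ea_isPGroup hV) hAV
      (fun a ha => ⟨1, by rw [pow_one]; exact hpow a ha⟩) hXV ?_
    rw [Subgroup.commutator_le]
    intro v hv a ha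
    have hn : ⁅V, A⁆ ≤ Subgroup.normalizer (OffendersReplace.fixedIn V A : Set G) :=
      OffendersReplace.le_normalizer_of_commute fun x hx y hy => hVc x (hXV hx) y hy.1
    have hv' := hV' hv
    rw [← SetLike.mem_coe, Subgroup.coe_mul_of_left_le_normalizer_right _ _ hn] at hv'
    obtain ⟨x, hx, c, hc, rfl⟩ := hv'
    have e : ⁅x * c, a⁆ = x * ⁅c, a⁆ * x⁻¹ * ⁅x, a⁆ := by
      simp only [commutatorElement_def]; group
    rw [e, commutatorElement_eq_one_iff_mul_comm.2 (hc.2 a ha).symm, mul_one, mul_inv_cancel,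
      one_mul]
    exact Subgroup.commutator_mem_commutator hx ha

end Cfsg.Agent.S0599
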