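import Cfsg.Statements.S0600
import Mathlib
import Cfsg.Agent.Lib.Offenders
import Cfsg.Agent.Lib.OffendersReplace
import Cfsg.Agent.Lib.OffendersCore

set_option autoImplicit false
open Cfsg

namespace Cfsg.Agent.S0600

/-- A normal elementary abelian p-subgroup generated by the fixed points of the Sylow p-subgroups admits no nontrivial normal p-subgroup of G modulo its centralizer. -/
theorem result {G : Type*} [Group G] [Finite G] {p : ℕ} [Fact p.Prime] (V : Subgroup G) [V.Normal] (hV : Cfsg.IsElementaryAbelian p V) (hgen : V = ⨆ S : Sylow p G, V ⊓ Subgroup.centralizer ((S : Subgroup G) : Set G)) : Cfsg.pCore p (G ⧸ Subgroup.centralizer (V : Set G)) = ⊥ := by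
  refine OffendersCore.pCore_eq_bot fun N hN hNp => ?_
  set C := Subgroup.centralizer (V : Set G) with hC
  have hs := QuotientGroup.mk'_surjective C
  haveI : (N.comap (QuotientGroup.mk' C)).Normal := hN.comap _
  have hD : IsPGroup p ↥((N.comap (QuotientGroup.mk' C)).map (QuotientGroup.mk' C)) := by
    rw [Subgroup.map_comap_eq_self_of_surjective hs]; exact hNp
  have h := Subgroup.map_mono (f := QuotientGroup.mk' C)
    (OffendersCore.le_centralizer_of_fixed hD hgen.le)
  rw [Subgroup.map_comap_eq_self_of_surjective hs, ← hC, QuotientGroup.map_mk'_self] at h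
  exact le_bot_iff.1 h

end Cfsg.Agent.S0600
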