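import Cfsg.Statements.S0604
import Mathlib
import Cfsg.Agent.Lib.Offenders

set_option autoImplicit false
open Cfsg

namespace Cfsg.Agent.S0604

/-- The Thompson subgroup of G is the join of the Thompson subgroups of its Sylow p-subgroups. -/
theorem result {G : Type*} [Group G] [Finite G] {p : ℕ} [Fact p.Prime] : Cfsg.thompsonSubgroup p G = ⨆ S : Sylow p G, Cfsg.thompsonSubgroupOf p (S : Subgroup G) := by
  refine le_antisymm (sSup_le fun A hA => ?_) (iSup_le fun S => Offenders.thompsonOf_sylow_le S)
  obtain ⟨S, hS⟩ := Offenders.exists_mem_sylow hA.1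
  refine le_trans ?_ (le_iSup (fun S : Sylow p G => Cfsg.thompsonSubgroupOf p (S : Subgroup G)) S)
  rw [Offenders.thompsonOf_eq]
  exact le_sSup (Offenders.max_maxIn hA hS)

end Cfsg.Agent.S0604
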