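import Cfsg.Statements.S0608
import Mathlib
import Cfsg.Agent.Lib.Offenders
import Cfsg.Agent.Lib.OffendersReplace
import Cfsg.Agent.Lib.OffendersCore

set_option autoImplicit false
open Cfsg

namespace Cfsg.Agent.S0608

/-- With trivial p'-core, Thompson factorizability is equivalent to J(G) centralizing the subgroup generated by all Ω₁(Z(S)), S Sylow. -/
theorem result {G : Type*} [Group G] [Finite G] {p : ℕ} [Fact p.Prime] (hO : Cfsg.pPrimeCore p G = ⊥) : Cfsg.IsThompsonFactorizable p G ↔ Cfsg.thompsonSubgroup p G ≤ Subgroup.centralizer ((⨆ S : Sylow p G, Cfsg.omegaOne p (((S : Subgroup G)) ⊓ Subgroup.centralizer ((S : Subgroup G) : Set G)) : Subgroup G) : Set G) := by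
  set V := ⨆ S : Sylow p G, Cfsg.omegaOne p (((S : Subgroup G)) ⊓
    Subgroup.centralizer ((S : Subgroup G) : Set G)) with hV
  haveI hVn : V.Normal := OffendersCore.normal_iSup_omegaZ
  set C := Subgroup.centralizer (V : Set G) with hC
  constructor
  · intro hf
    have hJZ : ∀ S T : Sylow p G, OffendersCore.omegaZ T ≤
        Subgroup.centralizer (Cfsg.thompsonSubgroupOf p (S : Subgroup G) : Set G) := by
      intro S T
      obtain ⟨g, rfl⟩ := MulAction.exists_smul_eq G S T
      obtain ⟨x, hx, c, hc, n, hn, hg⟩ := hf S g⁻¹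
      rw [hO, Subgroup.mem_bot] at hx
      subst hx
      rw [one_mul] at hg
      rw [← OffendersCore.omegaZ_map_conj]
      rintro _ ⟨z, hz, rfl⟩ j hj
      have hg' : g = n⁻¹ * c⁻¹ := by rw [← inv_inv g, hg, mul_inv_rev]
      have hjn : n * j * n⁻¹ ∈ Cfsg.thompsonSubgroupOf p (S : Subgroup G) :=
        (Subgroup.mem_normalizer_iff.1 hn j).1 hj
      have hjS : n * j * n⁻¹ ∈ (S : Subgroup G) := Offenders.thompsonOf_le _ hjn
      have h1 : z * c = c * z := hc z hz
      have h2 : (n * j * n⁻¹) * z = z * (n * j * n⁻¹) :=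
        (Offenders.omegaOne_le _ hz).2 _ hjS
      have h3 : c⁻¹ * z * c = z := by rw [mul_assoc, h1, inv_mul_cancel_left]
      show j * (g * z * g⁻¹) = g * z * g⁻¹ * j
      rw [hg', show n⁻¹ * c⁻¹ * z * (n⁻¹ * c⁻¹)⁻¹ = n⁻¹ * (c⁻¹ * z * c) * n by group, h3]
      calc j * (n⁻¹ * z * n) = n⁻¹ * ((n * j * n⁻¹) * z) * n := by group
        _ = n⁻¹ * (z * (n * j * n⁻¹)) * n := by rw [h2]
        _ = n⁻¹ * z * n * j := by group
    refine sSup_le fun A hA => ?_
    obtain ⟨S, hS⟩ := Offenders.exists_mem_sylow hA.1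
    have hAJ : A ≤ Cfsg.thompsonSubgroupOf p (S : Subgroup G) := by
      rw [Offenders.thompsonOf_eq]; exact le_sSup (Offenders.max_maxIn hA hS)
    refine hAJ.trans (Subgroup.le_centralizer_iff.1 ?_)
    exact iSup_le fun T => hJZ S T
  · intro hJ S g
    have h := OffendersCore.sup_normalizer_thompson (C := C) S
      ((Offenders.thompsonOf_sylow_le S).trans hJ)
    have hg : g ∈ C ⊔ Subgroup.normalizer (Cfsg.thompsonSubgroupOf p (S : Subgroup G) : Set G) :=
      h ▸ Subgroup.mem_top g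
    rw [← SetLike.mem_coe, Subgroup.normal_mul] at hg
    obtain ⟨c, hc, n, hn, rfl⟩ := hg
    refine ⟨1, one_mem _, c, ?_, n, hn, by rw [one_mul]⟩
    exact Subgroup.centralizer_le (fun x hx => (le_iSup (fun S : Sylow p G => Cfsg.omegaOne p
      (((S : Subgroup G)) ⊓ Subgroup.centralizer ((S : Subgroup G) : Set G))) S) hx) hc

end Cfsg.Agent.S0608
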