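import Cfsg.Statements.S0609
import Cfsg.Agent.Lib.OffendersQuot
-- import your own Cfsg.Agent.* helpers here

set_option autoImplicit false
open Cfsg

namespace Cfsg.Agent.S0609

/-- Thompson factorizability passes to and from the quotient by the largest normal subgroup of order prime to p. -/
theorem result {G : Type*} [Group G] [Finite G] {p : ℕ} [Fact p.Prime] : Cfsg.IsThompsonFactorizable p G ↔ Cfsg.IsThompsonFactorizable p (G ⧸ Cfsg.pPrimeCore p G) := by
  set π := QuotientGroup.mk' (Cfsg.pPrimeCore p G) with hπd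
  have hπ : Function.Surjective π := QuotientGroup.mk'_surjective _
  have hker : π.ker = Cfsg.pPrimeCore p G := QuotientGroup.ker_mk' _
  have hK : (Nat.card π.ker).Coprime p := by
    rw [hker]; exact HallCore.coprime_card_pPrimeCore p G
  have hbot : Cfsg.pPrimeCore p (G ⧸ Cfsg.pPrimeCore p G) = ⊥ :=
    HallCore.pPrimeCore_quotient_self p G
  have hC : ∀ S : Sylow p G, (Subgroup.centralizer (Cfsg.omegaOne p ((S : Subgroup G) ⊓
      Subgroup.centralizer ((S : Subgroup G) : Set G)) : Set G)).map π =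
      Subgroup.centralizer (Cfsg.omegaOne p ((S : Subgroup G).map π ⊓
        Subgroup.centralizer (((S : Subgroup G).map π : Subgroup _) : Set _)) : Set _) := fun S => by
    rw [OffendersQuot.map_centralizer hπ hK
      (S.isPGroup'.to_le ((Offenders.omegaOne_le _).trans inf_le_left)),
      OffendersQuot.map_omegaZ hK S.isPGroup']
  have hN : ∀ S : Sylow p G, (Subgroup.normalizer
      (Cfsg.thompsonSubgroupOf p (S : Subgroup G) : Set G)).map π =
      Subgroup.normalizer (Cfsg.thompsonSubgroupOf p ((S : Subgroup G).map π) : Set _) := fun S => by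
    rw [OffendersQuot.map_normalizer hπ hK (S.isPGroup'.to_le (Offenders.thompsonOf_le _)),
      OffendersQuot.map_thompsonOf hK S.isPGroup']
  constructor
  · intro h T y
    obtain ⟨S, rfl⟩ := Sylow.mapSurjective_surjective hπ p T
    obtain ⟨g, rfl⟩ := hπ y
    obtain ⟨x, hx, c, hc, n, hn, rfl⟩ := h S g
    refine ⟨1, one_mem _, π c, ?_, π n, ?_, ?_⟩
    · rw [Sylow.coe_mapSurjective, ← hC S]; exact ⟨c, hc, rfl⟩
    · rw [Sylow.coe_mapSurjective, ← hN S]; exact ⟨n, hn, rfl⟩
    · rw [map_mul, map_mul, show π x = 1 from (QuotientGroup.eq_one_iff x).2 hx]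
  · intro h S g
    obtain ⟨x, hx, c, hc, n, hn, e⟩ := h (S.mapSurjective hπ) (π g)
    rw [hbot, Subgroup.mem_bot] at hx
    subst hx
    rw [Sylow.coe_mapSurjective, ← hC S] at hc
    rw [Sylow.coe_mapSurjective, ← hN S] at hn
    obtain ⟨c, hc, rfl⟩ := hc
    obtain ⟨n, hn, rfl⟩ := hn
    refine ⟨g * n⁻¹ * c⁻¹, ?_, c, hc, n, hn, by group⟩
    rw [← hker, MonoidHom.mem_ker, map_mul, map_mul, map_inv, map_inv, e]
    group

end Cfsg.Agent.S0609
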