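import Cfsg.Statements.S0618
import Mathlib
import Cfsg.Agent.S0608
import Cfsg.Agent.Lib.OffendersGlobal
import Cfsg.Agent.Lib.OffendersStructure
-- import your own Cfsg.Agent.* helpers here

set_option autoImplicit false
open Cfsg

namespace Cfsg.Agent.S0618

/-- A p-separable group with trivial p'-core in which the Thompson factorization fails has p = 2 or 3, and J(G) induces on the normal closure of Ω₁(Z(S)) a group containing a normal SL(2, p). -/
theorem result {G : Type*} [Group G] [Finite G] {p : ℕ} [Fact p.Prime] (hsep : Cfsg.IsPSolvable p G) (hO : Cfsg.pPrimeCore p G = ⊥) (hnf : ¬ Cfsg.IsThompsonFactorizable p G) : (p = 2 ∨ p = 3) ∧ ∃ E : Subgroup G, Subgroup.centralizer ((⨆ S : Sylow p G, Cfsg.omegaOne p ((S : Subgroup G) ⊓ Subgroup.centralizer ((S : Subgroup G) : Set G))) : Set G) ≤ E ∧ E ≤ Cfsg.thompsonSubgroup p G ⊔ Subgroup.centralizer ((⨆ S : Sylow p G, Cfsg.omegaOne p ((S : Subgroup G) ⊓ Subgroup.centralizer ((S : Subgroup G) : Set G))) : Set G) ∧ Cfsg.thompsonSubgroup p G ⊔ Subgroup.centralizer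 ((⨆ S : Sylow p G, Cfsg.omegaOne p ((S : Subgroup G) ⊓ Subgroup.centralizer ((S : Subgroup G) : Set G))) : Set G) ≤ Subgroup.normalizer (E : Set G) ∧ ∃ hn : ((Subgroup.centralizer ((⨆ S : Sylow p G, Cfsg.omegaOne p ((S : Subgroup G) ⊓ Subgroup.centralizer ((S : Subgroup G) : Set G))) : Set G)).subgroupOf E).Normal, Nonempty ((↥E ⧸ (Subgroup.centralizer ((⨆ S : Sylow p G, Cfsg.omegaOne p ((S : Subgroup G) ⊓ Subgroup.centralizer ((S : Subgroup G) : Set G))) : Set G)).subgroupOf E) ≃* Matrix.SpecialLinearGroup (Fin 2) (ZMod p)) := by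
  set V := ⨆ S : Sylow p G, Cfsg.omegaOne p ((S : Subgroup G) ⊓
    Subgroup.centralizer ((S : Subgroup G) : Set G)) with hVdef
  haveI hVn : V.Normal := OffendersCore.normal_iSup_omegaZ
  have hV : Cfsg.IsElementaryAbelian p V :=
    OffendersCore.ea_iSup_omegaZ (HallSolvable.centralizer_pCore_le hsep hO)
  set C := Subgroup.centralizer (V : Set G) with hC
  set J := Cfsg.thompsonSubgroup p G with hJ
  haveI : J.Characteristic := Offenders.thompson_characteristic
  have hJN : J ≤ Subgroup.normalizer (V : Set G) := by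
    rw [Subgroup.normalizer_eq_top V]; exact le_top
  have hgenV : V ≤ ⨆ S : Sylow p G, V ⊓ Subgroup.centralizer ((S : Subgroup G) : Set G) :=
    iSup_le fun S => le_iSup_of_le S (le_inf
      (le_iSup (fun S : Sylow p G => Cfsg.omegaOne p ((S : Subgroup G) ⊓
        Subgroup.centralizer ((S : Subgroup G) : Set G))) S)
      ((Offenders.omegaOne_le _).trans inf_le_right))
  have hpc : Cfsg.pCore p ↥(OffendersGlobal.img V J) = ⊥ :=
    OffendersGlobal.pCore_img V fun D hD hDp => haveI := hD;
      OffendersCore.le_centralizer_of_fixed hDp hgenV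
  have hyp := OffendersGlobal.hyp_img V hV (HallSolvable.isPSolvable_subgroup hsep J) hJN hpc
  have hgen := OffendersGlobal.gen_thompson V (p := p) hV
  have hne : OffendersGlobal.img V J ≠ ⊥ := fun h =>
    hnf ((S0608.result hO).2 ((OffendersGlobal.img_eq_bot V hJN).1 h))
  obtain ⟨A, hA⟩ : Nonempty {A : Subgroup (OffendersGlobal.Amb V) //
      A ≤ OffendersGlobal.img V J ∧ OffendersFF.IsMinimal p (OffendersGlobal.vImg V) A} := by
    by_contra hn
    rw [not_nonempty_iff] at hn
    refine hne (le_bot_iff.1 ((hyp.le_iSup_minimal hgen).trans ?_))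
    exact iSup_le fun i => (hn.false i).elim
  obtain ⟨a, m⟩ := OffendersPlane.exists_min hyp hA.1 hA.2
  have bl := OffendersBlocks.block_of_min m
  set E' := OffendersBlocks.blockE p (OffendersGlobal.img V J) A with hE'
  set f := OffendersGlobal.fTop V with hf
  have hker : f.ker = C := OffendersGlobal.fTop_ker V
  have hJmap : OffendersGlobal.img V J = J.map f := OffendersGlobal.img_eq_map V J
  have hCeq : Subgroup.centralizer (⨆ S : Sylow p G, ((Cfsg.omegaOne p ((S : Subgroup G) ⊓
      Subgroup.centralizer ((S : Subgroup G) : Set G)) : Subgroup G) : Set G)) = C := by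
    rw [hC, hVdef, Subgroup.iSup_eq_closure, Subgroup.centralizer_closure]
    rfl
  rw [hCeq]
  refine ⟨bl.prime, E'.comap f, ?_, ?_, ?_, inferInstance, ?_⟩
  · rw [← hker]; exact Subgroup.ker_le_comap f E'
  · refine (Subgroup.comap_mono (bl.le.trans hJmap.le)).trans ?_
    rw [Subgroup.comap_map_eq, hker]
  · refine le_trans ?_ (Subgroup.le_normalizer_comap (H := E') f)
    rw [← hker, ← Subgroup.comap_map_eq]
    exact Subgroup.comap_mono (hJmap.ge.trans (OffendersStructure.normalizes hgen m))
  · obtain ⟨θ⟩ := bl.equiv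
    let g : ↥(E'.comap f) →* ↥E' := (f.comp (E'.comap f).subtype).codRestrict E' fun x => x.2
    have hg : Function.Surjective g := by
      rintro ⟨y, hy⟩
      obtain ⟨x, -, rfl⟩ := hJmap.le (bl.le hy)
      exact ⟨⟨x, hy⟩, rfl⟩
    have hgk : g.ker = C.subgroupOf (E'.comap f) := by
      ext x
      rw [Subgroup.mem_subgroupOf, ← hker, MonoidHom.mem_ker, MonoidHom.mem_ker, Subtype.ext_iff]
      rfl
    exact ⟨((QuotientGroup.quotientMulEquivOfEq hgk.symm).trans
      (QuotientGroup.quotientKerEquivOfSurjective g hg)).trans θ⟩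

end Cfsg.Agent.S0618
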