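import Cfsg.Statements.S0619
import Mathlib
import Cfsg.Agent.Lib.OffendersGlobal
import Cfsg.Agent.Lib.OffendersCore
-- import your own Cfsg.Agent.* helpers here

set_option autoImplicit false
open Cfsg
open scoped commutatorElement

namespace Cfsg.Agent.S0619

/-- For a p-separable group and a normal elementary abelian p-subgroup V with no nontrivial normal p-subgroup modulo its centralizer C, the Thompson subgroup J(G) moves Ω₁(Z(J(C))) only inside V. -/
theorem result {G : Type*} [Group G] [Finite G] {p : ℕ} [Fact p.Prime] (hsep : Cfsg.IsPSolvable p G) (V : Subgroup G) [V.Normal] (hV : Cfsg.IsElementaryAbelian p V) (hO : Cfsg.pCore p (G ⧸ Subgroup.centralizer (V : Set G)) = ⊥) : ⁅Cfsg.omegaOne p (Cfsg.centerThompsonOf p (Subgroup.centralizer (V : Set G))), Cfsg.thompsonSubgroup p G⁆ ≤ V := by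
  set C := Subgroup.centralizer (V : Set G) with hC
  set Y := Cfsg.omegaOne p (Cfsg.centerThompsonOf p C) with hY
  have hYc : ∀ x ∈ Cfsg.centerThompsonOf p C, ∀ y ∈ Cfsg.centerThompsonOf p C, x * y = y * x :=
    fun x hx y hy => (hx.2 y hy.1).symm
  have hYe : Cfsg.IsElementaryAbelian p Y := Offenders.omegaOne_ea hYc
  have hYle : Y ≤ Cfsg.centerThompsonOf p C := Offenders.omegaOne_le _
  have hNV : ∀ H : Subgroup G, H ≤ Subgroup.normalizer (V : Set G) := fun H => by
    rw [Subgroup.normalizer_eq_top V]; exact le_top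
  haveI : (⊤ : Subgroup G).Normal := inferInstance
  have hpc : Cfsg.pCore p ↥(OffendersGlobal.img V (⊤ : Subgroup G)) = ⊥ := by
    refine OffendersGlobal.pCore_img V fun D hD hDp => ?_
    haveI := hD
    have hs := QuotientGroup.mk'_surjective C
    haveI : (D.map (QuotientGroup.mk' C)).Normal := Subgroup.Normal.map hD _ hs
    have h : D.map (QuotientGroup.mk' C) ≤ ⊥ := hO ▸ HallCore.le_pCore hDp
    rw [le_bot_iff, Subgroup.map_eq_bot_iff, QuotientGroup.ker_mk'] at h
    exact h
  have hyp := OffendersGlobal.hyp_img V hV (HallSolvable.isPSolvable_subgroup hsep ⊤) (hNV _) hpc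
  have hJC : ∀ A ∈ Cfsg.maxElementaryAbelianSubgroups p G, A ≤ C →
      A ≤ Cfsg.thompsonSubgroupOf p C := fun A hA h => by
    rw [Offenders.thompsonOf_eq]; exact le_sSup (Offenders.max_maxIn hA h)
  rw [Subgroup.commutator_le]
  intro y hy g hg
  have hyp1 : y ^ p = 1 := hYe.2 y hy
  suffices h : Cfsg.thompsonSubgroup p G ≤
      (Subgroup.centralizer {QuotientGroup.mk' V y}).comap (QuotientGroup.mk' V) by
    have h1 := Subgroup.mem_centralizer_singleton_iff.1 (h hg)
    rw [← QuotientGroup.eq_one_iff]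
    show QuotientGroup.mk' V ⁅y, g⁆ = 1
    rw [map_commutatorElement]
    exact commutatorElement_eq_one_iff_mul_comm.2 h1.symm
  refine sSup_le fun A hA a ha => Subgroup.mem_centralizer_singleton_iff.2 ?_
  suffices hya : ⁅y, a⁆ ∈ V by
    have h1 : QuotientGroup.mk' V ⁅y, a⁆ = 1 := (QuotientGroup.eq_one_iff _).2 hya
    rw [map_commutatorElement] at h1
    exact (commutatorElement_eq_one_iff_mul_comm.1 h1).symm
  have hAc := ((Offenders.ea_iff A).1 hA.1).1
  by_cases hAC : A ≤ C
  · rw [commutatorElement_eq_one_iff_mul_comm.2 (((hYle hy).2 a (hJC A hA hAC ha)).symm)]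
    exact one_mem _
  have hb := OffendersGlobal.bestOffender_img V (hNV A) (OffendersReplace.max_bestOffender hV hA)
  have hne : OffendersGlobal.img V A ≠ ⊥ := fun h =>
    hAC ((OffendersGlobal.img_eq_bot V (hNV A)).1 h)
  have hcard := hyp.card_eq (OffendersGlobal.img_mono V le_top) hb hne
  rw [OffendersGlobal.fixed_img V (hNV A), OffendersReplace.fixedIn_eq_inf hV hA,
    show Nat.card ↥(OffendersGlobal.vImg V) = Nat.card V from
      (Nat.card_congr (MonoidHom.ofInjective (OffendersGlobal.incl_injective V)).toEquiv).symm]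
    at hcard
  have hcA := OffendersGlobal.card_img V (hNV A)
  have hVC : V ≤ C := fun v hv w hw => ((Offenders.ea_iff V).1 hV).1 w hw v hv
  have hAs : Cfsg.IsElementaryAbelian p ((A ⊓ C) ⊔ V : Subgroup G) :=
    Offenders.ea_sup (Offenders.ea_mono hA.1 inf_le_left) hV fun b hb v hv => (hb.2 v hv).symm
  have hcs := OffendersReplace.card_sup_mul_card_inf (A ⊓ C) V (hNV _)
  rw [show A ⊓ C ⊓ V = V ⊓ A by rw [inf_assoc, inf_eq_right.2 hVC, inf_comm]] at hcs
  have heq : Nat.card A = Nat.card ↥((A ⊓ C) ⊔ V) := by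
    refine Nat.eq_of_mul_eq_mul_right (Nat.card_pos : 0 < Nat.card ↥(V ⊓ A)) ?_
    rw [hcs, ← hcA, mul_assoc, hcard]
  have hmax := Offenders.max_of_card_le hA hAs heq.le
  have hy' : y ∈ (A ⊓ C) ⊔ V := Offenders.mem_max_of_commute hmax hyp1
    fun b hb => (hYle hy).2 b (hJC _ hmax (sup_le inf_le_right hVC) hb)
  rw [← SetLike.mem_coe, Subgroup.mul_normal] at hy'
  obtain ⟨b, hb, v, hv, rfl⟩ := hy'
  have e : ⁅b * v, a⁆ = b * (v * (a * v⁻¹ * a⁻¹)) * b⁻¹ * ⁅b, a⁆ := by
    simp only [commutatorElement_def]; group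
  rw [e, commutatorElement_eq_one_iff_mul_comm.2 (hAc b hb.1 a ha), mul_one]
  exact ‹V.Normal›.conj_mem _ (mul_mem hv (‹V.Normal›.conj_mem _ (inv_mem hv) a)) b

end Cfsg.Agent.S0619
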