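import Cfsg.Statements.S0621
import Mathlib
import Cfsg.Agent.S0608
import Cfsg.Agent.Lib.OffendersOperated
-- import your own Cfsg.Agent.* helpers here

set_option autoImplicit false
open Cfsg

namespace Cfsg.Agent.S0621

/-- Let K be p-separable with O_p'(K) = 1, normalized by an elementary abelian q-group X for a prime q not dividing the order of K. If the Thompson factorization fails in K, then p is 2 or 3 and the fixed points of X contain a plane W of order p² and a subgroup inducing SL(2, p) on it. -/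
theorem result {G : Type*} [Group G] [Finite G] {p : ℕ} [Fact p.Prime] {q : ℕ} [Fact q.Prime] (K X : Subgroup G) (hXK : X ≤ Subgroup.normalizer (K : Set G)) (hX : Cfsg.IsElementaryAbelian q X) (hq : ¬ q ∣ Nat.card K) (hsep : Cfsg.IsPSolvable p ↥K) (hO : Cfsg.pPrimeCore p ↥K = ⊥) (hnf : ¬ Cfsg.IsThompsonFactorizable p ↥K) : (p = 2 ∨ p = 3) ∧ ∃ W D : Subgroup G, W ≤ K ⊓ Subgroup.centralizer (X : Set G) ∧ D ≤ K ⊓ Subgroup.centralizer (X : Set G) ∧ Cfsg.IsElementaryAbelian p W ∧ Nat.card W = p ^ 2 ∧ D ≤ Subgroup.normalizer (W : Set G) ∧ ∃ hn : ((Subgroup.centralizer (W : Set G)).subgroupOf D).Normal, Nonempty ((↥D ⧸ (Subgroup.centralizer (W : Set G)).subgroupOf D) ≃* Matrix.SpecialLinearGroup (Fin 2) (ZMod p)) := by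
  have hyp := OffendersOperated.hyp K hsep hO
  have hgen := OffendersOperated.gen K hsep hO
  set V' := OffendersOperated.zcG K p with hV'
  have hne : OffendersOperated.hImg K p ≠ ⊥ := by
    intro h
    rw [OffendersOperated.hImg_eq, Subgroup.map_eq_bot_iff, OffendersOperated.kHom_ker] at h
    exact hnf ((S0608.result hO).2 h)
  obtain ⟨A, hA⟩ : Nonempty {A : Subgroup (OffendersGlobal.Amb (OffendersOperated.zcG K p)) //
      A ≤ OffendersOperated.hImg K p ∧
        OffendersFF.IsMinimal p (OffendersGlobal.vImg (OffendersOperated.zcG K p)) A} := by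
    by_contra hn
    rw [not_nonempty_iff] at hn
    refine hne (le_bot_iff.1 ((hyp.le_iSup_minimal hgen).trans ?_))
    exact iSup_le fun i => (hn.false i).elim
  obtain ⟨a, m⟩ := OffendersPlane.exists_min hyp hA.1 hA.2
  obtain ⟨W', hW'V, hW'c, hW'X, π, hπ, hπW⟩ :=
    OffendersCoprime.exists_diagonal hgen (OffendersOperated.op K X hXK hX hq) m
  have hXV : X ≤ Subgroup.normalizer (V' : Set G) :=
    hXK.trans (OffendersOperated.normalizer_le K)
  have hV'K : V' ≤ K := Subgroup.map_subtype_le _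
  set W := (W'.comap (OffendersGlobal.incl V')).map V'.subtype with hW
  have hWV : W ≤ V' := Subgroup.map_subtype_le _
  have hmemW : ∀ v : V', (v : G) ∈ W ↔ OffendersGlobal.incl V' v ∈ W' := fun v => by
    constructor
    · rintro ⟨v', hv', e⟩; rwa [show v = v' from Subtype.ext e.symm]
    · intro h; exact ⟨v, h, rfl⟩
  have hWX : W ≤ Subgroup.centralizer (X : Set G) := by
    intro w hw x hx
    exact ((OffendersGlobal.commute_iff V' ⟨x, hXV hx⟩ ⟨w, hWV hw⟩).1
      (hW'X _ ((hmemW ⟨w, hWV hw⟩).1 hw) _ ((OffendersGlobal.mem_img _).2 ⟨_, hx, rfl⟩))).eq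
  set D := OffendersOperated.jG K p ⊓ Subgroup.centralizer (X : Set G) with hD
  have hJK : OffendersOperated.jG K p ≤ K := Subgroup.map_subtype_le _
  have hDV : D ≤ Subgroup.normalizer (V' : Set G) :=
    (inf_le_left.trans (hJK.trans Subgroup.le_normalizer)).trans
      (OffendersOperated.normalizer_le K)
  let g : D →* ↥(OffendersOperated.hImg K p ⊓
      Subgroup.centralizer (OffendersOperated.xImg K X p : Set (OffendersGlobal.Amb V'))) :=
    ((OffendersGlobal.toAmb V').comp (Subgroup.inclusion hDV)).codRestrict _ fun d => by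
      refine ⟨(OffendersGlobal.mem_img _).2 ⟨_, d.2.1, rfl⟩, fun y hy => ?_⟩
      obtain ⟨n, hn, rfl⟩ := (OffendersGlobal.mem_img _).1 hy
      show OffendersGlobal.toAmb V' n * OffendersGlobal.toAmb V' (Subgroup.inclusion hDV d) =
        OffendersGlobal.toAmb V' (Subgroup.inclusion hDV d) * OffendersGlobal.toAmb V' n
      rw [← map_mul, ← map_mul]
      exact congrArg _ (Subtype.ext (d.2.2 n hn))
  have hg : Function.Surjective g := by
    rintro ⟨y, hy, hyX⟩
    obtain ⟨k, hk, hkX, rfl⟩ := OffendersOperated.lift K X hXK hX hq hy hyX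
    exact ⟨⟨k, ⟨k, hk, rfl⟩, hkX⟩, rfl⟩
  have hiff : ∀ d : D, π (g d) = 1 ↔ (d : G) ∈ Subgroup.centralizer (W : Set G) := fun d => by
    rw [(hπW (g d)).2]
    constructor
    · intro h w hw
      exact ((OffendersGlobal.commute_iff V' (Subgroup.inclusion hDV d) ⟨w, hWV hw⟩).1
        (h _ ((hmemW ⟨w, hWV hw⟩).1 hw)).symm).symm.eq
    · intro h y hy
      obtain ⟨v, rfl⟩ := hW'V hy
      exact ((OffendersGlobal.commute_iff V' (Subgroup.inclusion hDV d) v).2
        (h v ((hmemW v).2 hy)).symm).symm.eq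
  refine ⟨(OffendersBlocks.block_of_min m).prime, W, D, le_inf (hWV.trans hV'K) hWX,
    inf_le_inf_right _ hJK, ?_, ?_, ?_, ?_⟩
  · exact Offenders.ea_mono (Offenders.ea_map (OffendersOperated.ea_zc K hsep hO) K.subtype) hWV
  · rw [hW, Subgroup.card_map_of_injective V'.subtype_injective, ← hW'c,
      ← Subgroup.card_map_of_injective (OffendersGlobal.incl_injective V'),
      Subgroup.map_comap_eq_self hW'V]
  · intro d hd
    refine OffendersCoprime.cj_eq_iff.1 (Subgroup.eq_of_le_of_card_ge ?_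
      (Subgroup.card_map_of_injective (MulAut.conj d).injective).ge)
    intro y hy
    obtain ⟨w, hw, rfl⟩ := OffendersPlane.mem_cj.1 hy
    have h1 := (Subgroup.mem_normalizer_iff.1 (hπW (g ⟨d, hd⟩)).1 _).1
      ((hmemW ⟨w, hWV hw⟩).1 hw)
    change OffendersGlobal.toAmb V' ⟨d, hDV hd⟩ * OffendersGlobal.incl V' ⟨w, hWV hw⟩ *
      (OffendersGlobal.toAmb V' ⟨d, hDV hd⟩)⁻¹ ∈ W' at h1
    rw [OffendersGlobal.toAmb_conj] at h1
    exact (hmemW _).2 h1
  · have hk : (π.comp g).ker = (Subgroup.centralizer (W : Set G)).subgroupOf D :=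
      Subgroup.ext fun d => hiff d
    obtain ⟨θ⟩ := (OffendersBlocks.block_of_min m).equiv
    haveI hn : ((Subgroup.centralizer (W : Set G)).subgroupOf D).Normal := hk ▸ inferInstance
    exact ⟨hn, ⟨((QuotientGroup.quotientMulEquivOfEq hk.symm).trans
      (QuotientGroup.quotientKerEquivOfSurjective (π.comp g) (hπ.comp hg))).trans θ⟩⟩

end Cfsg.Agent.S0621
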