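import Cfsg.Statements.S0627
import Mathlib
import Cfsg.Agent.Lib.QuadraticStable
import Cfsg.Agent.Lib.StableClosureZJ
import Cfsg.Agent.Lib.HallSolvable


set_option autoImplicit false
open Cfsg

namespace Cfsg.Agent.S0627

open Cfsg.Agent.HallCore Cfsg.Agent.HallSolvable in
/-- Supplement form of `stable_normal`: pass to `G / O_{p'}(G)` and apply the Frattini argument. -/
lemma stable_supplement {G : Type*} [Group G] [Finite G] {p : ℕ} [Fact p.Prime]
    (hst : Cfsg.IsActionPStable p (G ⧸ Cfsg.pPrimeCore p G))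
    (hc : Subgroup.centralizer (Cfsg.pCore p (G ⧸ Cfsg.pPrimeCore p G) : Set (G ⧸ Cfsg.pPrimeCore p G))
      ≤ Cfsg.pCore p (G ⧸ Cfsg.pPrimeCore p G)) (S : Sylow p G) :
    Cfsg.pPrimeCore p G ⊔
      Subgroup.normalizer (((Cfsg.stableNormalClosure p ↥(S : Subgroup G)).map (S : Subgroup G).subtype) : Set G) = ⊤ := by
  set O := Cfsg.pPrimeCore p G with hO
  set π := QuotientGroup.mk' O with hπ
  have hsur : Function.Surjective π := QuotientGroup.mk'_surjective O
  set Sb := S.mapSurjective hsur
  have hSb : (Sb : Subgroup (G ⧸ O)) = (S : Subgroup G).map π := S.coe_mapSurjective hsur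
  set W := (Cfsg.stableNormalClosure p ↥(S : Subgroup G)).map (S : Subgroup G).subtype with hW
  have hker : Function.Injective (π.subgroupMap (S : Subgroup G)) := by
    rw [← MonoidHom.ker_eq_bot_iff, Subgroup.eq_bot_iff_forall]
    intro x hx
    have h1 : π (x : G) = 1 := congrArg Subtype.val hx
    have h2 : (x : G) ∈ O := (QuotientGroup.eq_one_iff _).1 h1
    obtain ⟨k, hk⟩ := IsPGroup.iff_card.1 S.isPGroup'
    have h3 : orderOf (x : G) ∣ p ^ k := hk ▸ Subgroup.orderOf_dvd_natCard _ x.2
    have h4 := Subgroup.orderOf_dvd_natCard O h2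
    exact Subtype.ext (orderOf_eq_one_iff.1 (Nat.eq_one_of_dvd_coprimes
      ((Nat.Coprime.pow_left k (coprime_card_pPrimeCore p G).symm)) h3 h4))
  let η : ↥(S : Subgroup G) ≃* ↥((S : Subgroup G).map π) :=
    MulEquiv.ofBijective (π.subgroupMap (S : Subgroup G)) ⟨hker, π.subgroupMap_surjective _⟩
  have himg : W.map π = (Cfsg.stableNormalClosure p ↥(Sb : Subgroup (G ⧸ O))).map (Sb : Subgroup (G ⧸ O)).subtype := by
    rw [hW, Subgroup.map_map]
    have h1 := Cfsg.Agent.StableClosure.stable_map (p := p) η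
    rw [hSb, ← h1, Subgroup.map_map]
    rfl
  have hn : (W.map π).Normal := himg ▸ Cfsg.Agent.StableClosureZJ.stable_normal hst hc Sb
  haveI : (W ⊔ O).Normal := by
    rw [← QuotientGroup.ker_mk' O, ← Subgroup.comap_map_eq]
    exact hn.comap π
  have hWS : W ≤ (S : Subgroup G) := Subgroup.map_subtype_le _
  have hint : (S : Subgroup G) ⊓ (W ⊔ O) = W := by
    refine le_antisymm ?_ (le_inf hWS le_sup_left)
    rintro x ⟨hxS, hx⟩
    rw [SetLike.mem_coe] at hxS hx
    obtain ⟨w, hw, o, ho, rfl⟩ := Subgroup.mem_sup_of_normal_right.1 hx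
    have hoS : o ∈ (S : Subgroup G) := by
      have := (S : Subgroup G).mul_mem ((S : Subgroup G).inv_mem (hWS hw)) hxS
      rwa [inv_mul_cancel_left] at this
    have h1 : o = 1 := congrArg Subtype.val (hker (a₁ := ⟨o, hoS⟩) (a₂ := 1) (Subtype.ext (by
      show π o = π 1
      rw [map_one]
      exact (QuotientGroup.eq_one_iff o).2 ho)))
    rw [h1, mul_one]
    exact hw
  have hfr := Cfsg.Agent.StableClosure.sup_normalizer_inf S (W ⊔ O)
  rw [hint] at hfr
  rw [eq_top_iff, ← hfr]
  exact sup_le (sup_le (le_sup_of_le_right Subgroup.le_normalizer) le_sup_left) le_sup_right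

/-- In a p-separable group with p at least 5, the normalizer of W(S) supplements the largest normal subgroup of order prime to p. -/
theorem result {G : Type*} [Group G] [Finite G] {p : ℕ} [Fact p.Prime] (hp : 5 ≤ p) (hsep : Cfsg.IsPSolvable p G) (S : Sylow p G) : Cfsg.pPrimeCore p G ⊔ Subgroup.normalizer (((Cfsg.stableNormalClosure p ↥(S : Subgroup G)).map (S : Subgroup G).subtype) : Set G) = ⊤ := by
  have hq := Cfsg.Agent.HallSolvable.isPSolvable_quotient hsep (Cfsg.pPrimeCore p G)
  exact stable_supplement (Cfsg.Agent.QuadraticStable.isActionPStable_of_psolvable hp hq)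
    (Cfsg.Agent.HallSolvable.centralizer_pCore_le hq (Cfsg.Agent.HallCore.pPrimeCore_quotient_self p G)) S

end Cfsg.Agent.S0627
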