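import Cfsg.Statements.S0628
import Mathlib
import Cfsg.Agent.Lib.NormalPComplementFunctor62
import Cfsg.Agent.Lib.StableClosureZJ
import Cfsg.Agent.Lib.QuadraticStable


set_option autoImplicit false
open Cfsg

namespace Cfsg.Agent.S0628

universe u

open Subgroup Cfsg.Agent.TransferPResidual Cfsg.Agent.TransferTate
open scoped commutatorElement

theorem stable_functor {p : ℕ} [Fact p.Prime] :
    Cfsg.IsCharPFunctor.{u} p (fun Q _ => Cfsg.stableNormalClosure p Q) :=
  ⟨fun _ _ _ hQ hne => by haveI := hne; exact StableClosure.stable_ne_bot hQ,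
    fun _ _ _ _ _ _ φ => StableClosure.stable_map φ⟩

/-- If the `p`-residual is abelian modulo `O_p`, then the Sylow `2`-subgroups are abelian. -/
theorem abelian_sylow_two {p : ℕ} [hpf : Fact p.Prime] (hp : p ≠ 2) {X : Type u} [Group X] [Finite X]
    (hyp : ⁅Cfsg.pResidual p X, Cfsg.pResidual p X⁆ ≤ Cfsg.pCore p X) (T : Sylow 2 X) :
    IsMulCommutative T := by
  have hcop : ∀ N : Subgroup X, IsPGroup p N → ((T : Subgroup X) ⊓ N) = ⊥ := by
    intro N hN
    refine (IsPGroup.disjoint_of_ne 2 p (Ne.symm hp) _ N T.isPGroup' hN).eq_bot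
  have hres : (T : Subgroup X) ≤ Cfsg.pResidual p X := by
    intro x hx
    have hsurj := QuotientGroup.mk'_surjective (Cfsg.pResidual p X)
    obtain ⟨k, hk⟩ := index_pResidual (G := X) (p := p)
    have hP : IsPGroup p (X ⧸ Cfsg.pResidual p X) :=
      IsPGroup.of_card (n := k) (by rw [← Subgroup.index_eq_card]; exact hk)
    have h1 : IsPGroup 2 ((T : Subgroup X).map (QuotientGroup.mk' (Cfsg.pResidual p X))) :=
      T.isPGroup'.map _
    have h2 := (IsPGroup.disjoint_of_ne 2 p (Ne.symm hp) _ _ h1 (hP.to_subgroup ⊤)).eq_bot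
    rw [inf_top_eq, Subgroup.map_eq_bot_iff, QuotientGroup.ker_mk'] at h2
    exact h2 hx
  refine ⟨⟨fun a b => Subtype.ext (commutatorElement_eq_one_iff_commute.mp ?_)⟩⟩
  have h : ⁅(a : X), (b : X)⁆ ∈ (T : Subgroup X) ⊓ Cfsg.pCore p X :=
    ⟨(T : Subgroup X).mul_mem ((T : Subgroup X).mul_mem ((T : Subgroup X).mul_mem a.2 b.2)
      ((T : Subgroup X).inv_mem a.2)) ((T : Subgroup X).inv_mem b.2),
      hyp (commutator_mem_commutator (hres a.2) (hres b.2))⟩
  rwa [hcop _ (HallCore.isPGroup_pCore p X), mem_bot] at h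

/-- The normal p-complement Theorem of Thompson in the form with W(S): for odd p, G has a normal p-complement as soon as the normalizer of the characteristic subgroup W(S) of a Sylow p-subgroup S has one. -/
theorem result {G : Type*} [Group G] [Finite G] {p : ℕ} [Fact p.Prime] (hp : p ≠ 2) (S : Sylow p G) (hN : Cfsg.HasNormalPComplement p ↥(Subgroup.normalizer (((Cfsg.stableNormalClosure p ↥(S : Subgroup G)).map (S : Subgroup G).subtype) : Set G))) : Cfsg.HasNormalPComplement p G := by
  refine NormalPComplementFunctor62.main (W := fun Q _ => Cfsg.stableNormalClosure p Q) stable_functor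
    (fun X _ _ hC hyp T => StableClosureZJ.stable_normal
      (QuadraticStable.isActionPStable_of_abelian hp (abelian_sylow_two hp hyp)) hC T)
    (Nat.card G) G rfl S hN

end Cfsg.Agent.S0628
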