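import Cfsg.Statements.S0629
import Cfsg.Agent.Lib.HallConstrained
-- import your own Cfsg.Agent.* helpers here

set_option autoImplicit false
open Cfsg

namespace Cfsg.Agent.S0629

open Cfsg.Agent.HallCore Cfsg.Agent.HallSolvable Cfsg.Agent.HallConstrained

/-- A group in which the centralizer of a Sylow p-subgroup of O_{p',p}(G) is p-solvable is p-constrained. -/

theorem result {G : Type*} [Group G] [Finite G] {p : ℕ} [Fact p.Prime] (P : Sylow p ↥(Cfsg.pPrimePCore p G)) (hsol : Cfsg.IsPSolvable p ↥(Subgroup.centralizer (((P : Subgroup ↥(Cfsg.pPrimePCore p G)).map (Cfsg.pPrimePCore p G).subtype : Subgroup G) : Set G))) : Cfsg.IsPConstrained p G := by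
  rw [isPConstrained_iff]
  set N := Cfsg.pPrimeCore p G
  set Q := Cfsg.pCore p (G ⧸ N) with hQ
  set C := Subgroup.centralizer (Q : Set (G ⧸ N))
  have hC : Cfsg.IsPSolvable p C := by
    have h := map_centralizer_sylImg P
    have h2 := isPSolvable_of_surjective hsol
      ((QuotientGroup.mk' N).subgroupMap_surjective (Subgroup.centralizer (sylImg P : Set G)))
    rwa [h] at h2
  have hO : Cfsg.pPrimeCore p C = ⊥ := by
    have h1 : (Cfsg.pPrimeCore p C).map C.subtype = ⊥ := by
      rw [map_subtype_pPrimeCore, pPrimeCore_quotient_self, bot_inf_eq]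
    exact (Subgroup.map_eq_bot_iff_of_injective _ C.subtype_injective).mp h1
  have h1 := centralizer_pCore_le hC hO
  have h2 := map_subtype_pCore (p := p) C
  intro x hx
  have hmem : (⟨x, hx⟩ : C) ∈ Cfsg.pCore p C := by
    refine h1 fun y hy => Subtype.ext (hx (y : G ⧸ N) ?_)
    exact ((SetLike.ext_iff.mp h2 _).mp (Subgroup.mem_map_of_mem C.subtype hy)).1
  exact ((SetLike.ext_iff.mp h2 _).mp (Subgroup.mem_map_of_mem C.subtype hmem)).1

end Cfsg.Agent.S0629
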