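import Cfsg.Statements.S0632
import Cfsg.Agent.Lib.OffendersQuot
-- import your own Cfsg.Agent.* helpers here

set_option autoImplicit false
open Cfsg
open scoped commutatorElement

namespace Cfsg.Agent.S0632

/-- For a group with a nontrivial normal p-subgroup, p-stability passes to and from the quotient by the largest normal subgroup of order prime to p. -/
theorem result {G : Type*} [Group G] [Finite G] {p : ℕ} [Fact p.Prime] (hO : Cfsg.pCore p G ≠ ⊥) : Cfsg.IsPStable p G ↔ Cfsg.IsPStable p (G ⧸ Cfsg.pPrimeCore p G) := by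
  set K := Cfsg.pPrimeCore p G with hKd
  set π := QuotientGroup.mk' K with hπd
  have hπ : Function.Surjective π := QuotientGroup.mk'_surjective _
  have hker : π.ker = K := QuotientGroup.ker_mk' _
  have hK : (Nat.card π.ker).Coprime p := by
    rw [hker]; exact HallCore.coprime_card_pPrimeCore p G
  have hbot : Cfsg.pPrimeCore p (G ⧸ K) = ⊥ := HallCore.pPrimeCore_quotient_self p G
  have hO' : Cfsg.pCore p (G ⧸ K) ≠ ⊥ := by
    intro h
    apply hO
    have h1 := HallCore.map_pCore_le (p := p) hπ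
    rw [h, le_bot_iff, Subgroup.map_eq_bot_iff] at h1
    rw [← le_bot_iff, ← GlaubermanStable.inf_eq_bot_of_isPGroup (HallCore.isPGroup_pCore p G) hK]
    exact le_inf le_rfl h1
  constructor
  · rintro ⟨hp2, -, hs⟩
    refine ⟨hp2, hO', fun A P hA hP hAP hPU hPn hq => ?_⟩
    rw [hbot, bot_sup_eq] at hPn
    obtain ⟨P₀, hP₀, rfl⟩ := GlaubermanStable.exists_isPGroup_map_eq' hπ P hP
    set f := π.comp (Subgroup.normalizer (P₀ : Set G)).subtype with hf
    have hfs : Function.Surjective f := by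
      intro y
      have hy : y ∈ Subgroup.normalizer ((P₀.map π : Subgroup (G ⧸ K)) : Set (G ⧸ K)) := by
        rw [Subgroup.normalizer_eq_top (H := P₀.map π)]; exact Subgroup.mem_top y
      rw [← OffendersQuot.map_normalizer hπ hK hP₀] at hy
      obtain ⟨g, hg, rfl⟩ := hy
      exact ⟨⟨g, hg⟩, rfl⟩
    obtain ⟨A₀, hA₀, rfl⟩ := GlaubermanStable.exists_isPGroup_map_eq' hfs A hA
    set A₁ := A₀.map (Subgroup.normalizer (P₀ : Set G)).subtype with hA₁
    have hmapA : A₁.map π = A₀.map f := Subgroup.map_map _ _ _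
    have hA₁N : A₁ ≤ Subgroup.normalizer (P₀ : Set G) := Subgroup.map_subtype_le _
    have hA₁P : ∀ a ∈ A₁, ∀ x ∈ P₀, a * x * a⁻¹ ∈ P₀ := fun a ha x hx =>
      (Subgroup.mem_normalizer_iff.1 (hA₁N ha) x).1 hx
    have hU : P₀ ≤ Cfsg.pPrimePCore p G := fun x hx =>
      HallCore.le_pCore (hN := hPn) hP (⟨x, hx, rfl⟩ : π x ∈ P₀.map π)
    have hn : (K ⊔ P₀).Normal := by
      have e : K ⊔ P₀ = (P₀.map π).comap π := by rw [Subgroup.comap_map_eq, hker, sup_comm]
      rw [e]; exact hPn.comap _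
    have hq' : ⁅⁅P₀, A₁⁆, A₁⁆ = ⊥ := by
      have h1 : ⁅⁅P₀, A₁⁆, A₁⁆ ≤ π.ker := by
        rw [← Subgroup.map_eq_bot_iff, Subgroup.map_commutator, Subgroup.map_commutator, hmapA]
        exact hq
      have h2 : ⁅P₀, A₁⁆ ≤ P₀ := Subgroup.le_normalizer_iff_commutator_le_left.1 hA₁N
      rw [← le_bot_iff, ← GlaubermanStable.inf_eq_bot_of_isPGroup hP₀ hK]
      exact le_inf ((Subgroup.commutator_mono h2 le_rfl).trans h2) h1
    have hconc := hs A₁ P₀ (hA₀.map _) hP₀ hA₁P hU hn hq'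
    rintro _ ⟨⟨y, hy⟩, hya, rfl⟩
    obtain ⟨a₀, ha₀, hy'⟩ := hya
    have h3 := hconc ⟨⟨a₀, a₀.2⟩, ⟨a₀, ha₀, rfl⟩, rfl⟩
    have h4 := HallCore.map_pCore_le (OffendersQuot.autMap_bijective hπ hK hP₀).2
      (Subgroup.mem_map_of_mem (OffendersQuot.autMap π P₀) h3)
    convert h4 using 1
    show QuotientGroup.mk' _ _ = QuotientGroup.mk' _ _
    exact congrArg _ (Subtype.ext hy'.symm)
  · rintro ⟨hp2, -, hs⟩
    refine ⟨hp2, hO, fun A P hA hP hAP hPU hPn hq => ?_⟩
    have hn : (P.map π).Normal := by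
      have h1 := Subgroup.Normal.map hPn π hπ
      have h2 : K.map π = ⊥ := by rw [Subgroup.map_eq_bot_iff, hker]
      rwa [Subgroup.map_sup, h2, bot_sup_eq] at h1
    have hU : P.map π ≤ Cfsg.pPrimePCore p (G ⧸ K) := by
      intro y hy
      refine HallCore.map_pCore_le (QuotientGroup.mk'_surjective _) ⟨y, ?_, rfl⟩
      exact HallCore.le_pCore (hN := hn) (hP.map π) hy
    have hn' : (Cfsg.pPrimeCore p (G ⧸ K) ⊔ P.map π).Normal := by rw [hbot, bot_sup_eq]; exact hn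
    have hq' : ⁅⁅P.map π, A.map π⁆, A.map π⁆ = ⊥ := by
      rw [← Subgroup.map_commutator, ← Subgroup.map_commutator, hq, Subgroup.map_bot]
    have hAP' : ∀ a ∈ A.map π, ∀ x ∈ P.map π, a * x * a⁻¹ ∈ P.map π := by
      rintro _ ⟨a, ha, rfl⟩ _ ⟨x, hx, rfl⟩
      exact ⟨_, hAP a ha x hx, by rw [map_mul, map_mul, map_inv]⟩
    have hconc := hs (A.map π) (P.map π) (hA.map π) (hP.map π) hAP' hU hn' hq'
    rintro _ ⟨⟨a, han⟩, ha, rfl⟩
    have h3 : OffendersQuot.autMap π P (QuotientGroup.mk' _ ⟨a, han⟩) ∈ Cfsg.pCore p _ :=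
      hconc ⟨⟨π a, Subgroup.le_normalizer_map π ⟨a, han, rfl⟩⟩, ⟨a, ha, rfl⟩, rfl⟩
    let e := MulEquiv.ofBijective (OffendersQuot.autMap π P)
      (OffendersQuot.autMap_bijective hπ hK hP)
    rw [← HallCore.map_equiv_pCore e] at h3
    obtain ⟨q, hq1, hq2⟩ := h3
    have h4 : q = QuotientGroup.mk' _ (⟨a, han⟩ : ↥(Subgroup.normalizer (P : Set G))) :=
      (OffendersQuot.autMap_bijective hπ hK hP).1 hq2
    rwa [← h4]

end Cfsg.Agent.S0632
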