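import Cfsg.Statements.S0633
import Cfsg.Agent.Lib.HallHigmanDegree
import Cfsg.Agent.Lib.HallSolvable

set_option autoImplicit false
open Cfsg

namespace Cfsg.Agent.S0633

open Cfsg.Agent.HallHigman Cfsg.Agent.HallHigmanDegree

/-- A `p`-element outside `C(N)` for coprime normal `N` moves a Sylow subgroup of `N` invariant
under it. -/
theorem exists_moved_sylow {G : Type*} [Group G] [Finite G] {p : ℕ}
    (N : Subgroup G) [N.Normal] (hN : (Nat.card N).Coprime p) {x x₀ : G} {n : ℕ}
    (hx : x ^ p ^ n = 1) (hx₀ : ¬ N ≤ Subgroup.centralizer ({x₀} : Set G)) :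
    ∃ (q : ℕ) (_ : Fact q.Prime) (S : Subgroup G), q ≠ p ∧ IsPGroup q S ∧
      x ∈ Subgroup.normalizer (S : Set G) ∧ ¬ S ≤ Subgroup.centralizer ({x₀} : Set G) := by
  by_contra hno
  push Not at hno
  refine hx₀ ?_
  set C := Subgroup.centralizer ({x₀} : Set G)
  have hdvd : Nat.card N ∣ Nat.card (N ⊓ C : Subgroup G) := by
    rw [← Nat.factorization_le_iff_dvd Nat.card_pos.ne' Nat.card_pos.ne']
    intro q
    by_cases hq : q.Prime
    swap
    · simp [Nat.factorization_eq_zero_of_not_prime _ hq]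
    have := Fact.mk hq
    by_cases hqN : q ∣ Nat.card N
    swap
    · simp [Nat.factorization_eq_zero_of_not_dvd hqN]
    have hqp : q ≠ p := fun h => hq.not_dvd_one (by
      have := Nat.dvd_gcd hqN (dvd_refl q)
      rwa [show Nat.gcd (Nat.card N) q = 1 from h ▸ hN] at this)
    have hcop : (Nat.card (Subgroup.zpowers x)).Coprime (Nat.card N) := by
      rw [Nat.card_zpowers]
      exact (hN.symm.pow_left n).coprime_dvd_left (orderOf_dvd_of_pow_eq_one hx)
    obtain ⟨S, hS⟩ := CoprimeAction.exists_invariant_sylow (A := Subgroup.zpowers x) (K := N)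
      (by rw [Subgroup.normalizer_eq_top N]; exact le_top) hcop
      (Or.inl (CoprimeAction.isSolvable_zpowers x)) q
    have hle : (S : Subgroup N).map N.subtype ≤ N ⊓ C :=
      le_inf (Subgroup.map_subtype_le _)
        (hno q ⟨hq⟩ _ hqp (S.isPGroup'.map _) (hS (Subgroup.mem_zpowers x)))
    have h2 := Subgroup.card_dvd_of_le hle
    rw [Subgroup.card_map_of_injective N.subtype_injective, S.card_eq_multiplicity] at h2
    exact (Nat.Prime.pow_dvd_iff_le_factorization hq Nat.card_pos.ne').1 h2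
  exact inf_eq_left.1 (Subgroup.eq_of_le_of_card_ge inf_le_left (Nat.le_of_dvd Nat.card_pos hdvd))

/-- Theorem B of Hall and Higman on the minimal polynomial of a p-element of order p^n in a p-solvable linear group on a nonzero vector space in characteristic p with no nontrivial normal p-subgroup: its degree is p^n, except when some p^n₀ - 1 (n₀ ≤ n) is a power of a prime q for which the Sylow q-subgroups are non-abelian, in which case the degree is at least p^(n-n₀)(p^n₀ - 1). -/
theorem result {F : Type*} [Field F] {p : ℕ} [Fact p.Prime] [CharP F p] {V : Type*} [AddCommGroup V] [Module F V] [FiniteDimensional F V] [Nontrivial V] (H : Subgroup (V ≃ₗ[F] V)) [Finite H] (hsol : Cfsg.IsPSolvable p H) (hOp : Cfsg.pCore p H = ⊥) (x : V ≃ₗ[F] V) (hx : x ∈ H) (n : ℕ) (hn : orderOf x = p ^ n) (r : ℕ) (hr : minpoly F (x : Module.End F V) = (Polynomial.X - 1) ^ r) : r = p ^ n ∨ ∃ n₀ q m : ℕ, 1 ≤ n₀ ∧ n₀ ≤ n ∧ q.Prime ∧ 1 ≤ m ∧ p ^ n₀ - 1 = q ^ m ∧ (∀ Q : Sylow q H, ¬ IsMulCommutative Q) ∧ p ^ (n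 - n₀) * (p ^ n₀ - 1) ≤ r := by
  classical
  have hp : p.Prime := Fact.out
  let x' : H := ⟨x, hx⟩
  have hx' : x' ^ p ^ n = 1 := Subtype.ext (by
    rw [SubmonoidClass.coe_pow, ← hn]; exact pow_orderOf_eq_one x)
  let L' : (V ≃ₗ[F] V) →* Module.End F V :=
    { toFun := fun g => (g : Module.End F V), map_one' := rfl, map_mul' := fun _ _ => rfl }
  have hxV : (x : Module.End F V) ^ p ^ n = 1 := by
    show L' x ^ p ^ n = 1
    rw [← map_pow, ← hn, pow_orderOf_eq_one, map_one]
  have hr0 : r ≠ 0 := by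
    rintro rfl
    exact minpoly.ne_one F (x : Module.End F V) (by rw [hr, pow_zero])
  have hrle : r ≤ p ^ n := by
    have hd : minpoly F (x : Module.End F V) ∣ (Polynomial.X - 1) ^ p ^ n := by
      refine minpoly.dvd F _ ?_
      rw [sub_pow_char_pow, one_pow, map_sub, map_pow, Polynomial.aeval_X, map_one, hxV, sub_self]
    rw [hr] at hd
    have h2 := Polynomial.natDegree_le_of_dvd hd (pow_ne_zero _ (by
      simpa using Polynomial.X_sub_C_ne_zero (1 : F)))
    rw [← map_one (Polynomial.C : F →+* Polynomial F), Polynomial.natDegree_pow,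
      Polynomial.natDegree_pow, Polynomial.natDegree_X_sub_C, mul_one, mul_one] at h2
    exact h2
  rcases hrle.eq_or_lt with h | hlt
  · exact Or.inl h
  refine Or.inr ?_
  have hn1 : 1 ≤ n := by
    rcases n with _ | n
    · simp at hlt; omega
    · omega
  -- `O_{p'}` is self-centralising
  have := HallCore.pPrimeCore_normal p H
  set N := Cfsg.pPrimeCore p H with hN
  have hC : Subgroup.centralizer (N : Set H) ≤ N := by
    rw [hN, HallCore.pPrimeCore_eq_piCore]
    refine HallSolvable.centralizer_piCore_le ((HallSolvable.isPSolvable_iff p).1 hsol).compl ?_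
    rw [compl_compl, ← HallCore.pCore_eq_piCore]
    exact hOp
  have hNc : (Nat.card N).Coprime p := HallCore.coprime_card_pPrimeCore p H
  set x₀ := x' ^ p ^ (n - 1) with hx₀
  have hordx' : orderOf x' = p ^ n := by rw [← hn]; exact (Subgroup.orderOf_coe x').symm
  have hord0 : orderOf x₀ = p := by
    rw [hx₀, orderOf_pow_of_dvd (pow_ne_zero _ hp.ne_zero) (hordx' ▸ pow_dvd_pow p (Nat.sub_le _ _)),
      hordx', Nat.pow_div (Nat.sub_le _ _) hp.pos, show n - (n - 1) = 1 by omega, pow_one]
  have hx₀N : ¬ N ≤ Subgroup.centralizer ({x₀} : Set H) := by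
    intro hle
    have h1 : x₀ ∈ N := hC fun g hg => Subgroup.mem_centralizer_singleton_iff.1 (hle hg)
    have h2 : p ∣ Nat.card N := hord0 ▸ N.orderOf_dvd_natCard h1
    exact hp.coprime_iff_not_dvd.1 hNc.symm h2
  obtain ⟨q, hqF, S, hqp, hSp, hxS, hSnc⟩ := exists_moved_sylow N hNc hx' hx₀N
  obtain ⟨Q, hQS, hxQ, hcl, hgen, hQnc⟩ := HallHigman.exists_class_two hSp
    (x₀ := x₀) ⟨p ^ (n - 1), zpow_natCast x' _⟩ hxS
    (by rw [hord0]; exact (Nat.coprime_primes hp hqF.out).2 hqp.symm) hSnc
  -- the representation over the algebraic closure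
  let K := AlgebraicClosure F
  have : CharP K p := charP_of_injective_algebraMap (algebraMap F K).injective p
  let d := Module.finrank F V
  let bV := Module.finBasis F V
  let Φ : Module.End F V →+* Module.End K (Fin d → K) :=
    (((Matrix.toLinAlgEquiv' (R := K) (n := Fin d)).toRingEquiv.toRingHom).comp
      (algebraMap F K).mapMatrix).comp (LinearMap.toMatrixAlgEquiv bV).toRingEquiv.toRingHom
  have hΦ : Function.Injective Φ := by
    intro A B h
    have h1 := (Matrix.toLinAlgEquiv' (R := K) (n := Fin d)).injective h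
    exact (LinearMap.toMatrixAlgEquiv bV).injective
      (Matrix.map_injective (algebraMap F K).injective h1)
  let L : H →* Module.End F V :=
    { toFun := fun g => ((g : V ≃ₗ[F] V) : Module.End F V)
      map_one' := rfl
      map_mul' := fun a b => rfl }
  let ρ : Representation K H (Fin d → K) := Φ.toMonoidHom.comp L
  have hρ : Function.Injective ρ := fun a b h =>
    Subtype.ext (LinearEquiv.toLinearMap_injective (hΦ h))
  have hρr : (ρ x' - 1) ^ r = 0 := by
    have h1 : ((x : Module.End F V) - 1) ^ r = 0 := by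
      have := minpoly.aeval F (x : Module.End F V)
      rwa [hr, map_pow, map_sub, Polynomial.aeval_X, map_one] at this
    show (Φ (x : Module.End F V) - 1) ^ r = 0
    rw [← map_one Φ, ← map_sub, ← map_pow, h1, map_zero]
  have hqK : (q : K) ≠ 0 := by
    rw [Ne, CharP.cast_eq_zero_iff K p, Nat.prime_dvd_prime_iff_eq hp hqF.out]
    exact hqp.symm
  have hdat : HHData p q n ρ x' Q := by
    refine ⟨hp, hqF.out, hqp.symm, hqK, hn1, hx', hxQ, hSp.to_le hQS, hcl, hgen, ?_, ?_⟩
    · rw [HallHigmanDegree.sum_pow_eq]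
      exact pow_eq_zero_of_le (by omega) hρr
    · by_contra hall
      push Not at hall
      refine hQnc fun u hu => ?_
      rw [show u = 1 from hρ ((hall u hu).trans (map_one ρ).symm)]
      exact one_mem _
  obtain ⟨a, j, ha1, han, hj, hD, hle⟩ :=
    HallHigmanDegree.sharp_aux (q := q) _ H (Fin d → K) ρ x' Q n r le_rfl hdat hlt hρr
  refine ⟨a, q, j, ha1, han, hqF.out, hj, hD, fun Q' hc => ?_, hle⟩
  refine hdat.degree_bound.2 ?_
  obtain ⟨T, hT⟩ := (hSp.to_le hQS).exists_le_sylow
  obtain ⟨g, hg⟩ := MulAction.exists_smul_eq H T Q'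
  refine ⟨⟨fun u v => Subtype.ext ?_⟩⟩
  have hm : ∀ w ∈ Q, g * w * g⁻¹ ∈ (Q' : Subgroup H) := fun w hw => by
    rw [← hg]; exact Subgroup.smul_mem_pointwise_smul _ (MulAut.conj g) _ (hT hw)
  have h := congrArg Subtype.val (hc.is_comm.comm
    (⟨_, hm u u.2⟩ : (Q' : Subgroup H)) ⟨_, hm v v.2⟩)
  exact (MulAut.conj g).injective (by rw [Subgroup.coe_mul, Subgroup.coe_mul, map_mul, map_mul]; exact h)

end Cfsg.Agent.S0633
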