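import Cfsg.Statements.S0641
import Mathlib

set_option autoImplicit false
open Cfsg

namespace Cfsg.Agent.S0641

/-- Regularity of a p-group passes to quotient groups. -/
theorem result {G : Type*} [Group G] {p : ℕ} [Fact p.Prime] (hG : Cfsg.IsRegularPGroup p G) (N : Subgroup G) [N.Normal] : Cfsg.IsRegularPGroup p (G ⧸ N) := by
  refine ⟨hG.1.to_quotient N, fun a b n => ?_⟩
  induction a using QuotientGroup.induction_on with | _ a
  induction b using QuotientGroup.induction_on with | _ b
  obtain ⟨c, hc, habc⟩ := hG.2 a b n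
  refine ⟨QuotientGroup.mk' N c, ?_, ?_⟩
  · have h1 : (Subgroup.closure ({a, b} : Set G)).map (QuotientGroup.mk' N) =
        Subgroup.closure ({(a : G ⧸ N), (b : G ⧸ N)} : Set (G ⧸ N)) := by
      rw [MonoidHom.map_closure, Set.image_pair]; rfl
    have h2 : (⁅Subgroup.closure ({a, b} : Set G), Subgroup.closure ({a, b} : Set G)⁆).map
        (QuotientGroup.mk' N) = ⁅Subgroup.closure ({(a : G ⧸ N), (b : G ⧸ N)} : Set (G ⧸ N)),
          Subgroup.closure ({(a : G ⧸ N), (b : G ⧸ N)} : Set (G ⧸ N))⁆ := by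
      rw [Subgroup.map_commutator, h1]
    rw [← h2]
    have h3 : (Cfsg.powerClosure p n ⁅Subgroup.closure ({a, b} : Set G),
        Subgroup.closure ({a, b} : Set G)⁆).map (QuotientGroup.mk' N) ≤
        Cfsg.powerClosure p n ((⁅Subgroup.closure ({a, b} : Set G),
          Subgroup.closure ({a, b} : Set G)⁆).map (QuotientGroup.mk' N)) := by
      rw [Cfsg.powerClosure, MonoidHom.map_closure]
      refine Subgroup.closure_mono ?_
      rintro _ ⟨y, ⟨x, hx, rfl⟩, rfl⟩
      exact ⟨QuotientGroup.mk' N x, ⟨x, hx, rfl⟩, map_pow _ _ _⟩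
    exact h3 ⟨c, hc, rfl⟩
  · have := congrArg (QuotientGroup.mk' N) habc
    simpa using this

end Cfsg.Agent.S0641
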