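import Cfsg.Statements.S0637
import Cfsg.Agent.Lib.PGroupsHuppert
import Cfsg.Agent.S0641

set_option autoImplicit false
open Cfsg

namespace Cfsg.Agent.S0637

open Cfsg.Agent.PGroupsHuppert Cfsg.Agent.PGroupsRegular

/-- For p greater than 3, the bound p² on the order of the subgroup generated by the elements of order dividing p passes from a p-group to all its quotients. -/
theorem result {R : Type*} [Group R] [Finite R] {p : ℕ} [Fact p.Prime] (hp : 3 < p) (hR : IsPGroup p R) (hO : Nat.card ↥(Cfsg.omegaOne p (⊤ : Subgroup R)) ≤ p ^ 2) (T : Subgroup R) [T.Normal] : Nat.card ↥(Cfsg.omegaOne p (⊤ : Subgroup (R ⧸ T))) ≤ p ^ 2 := by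
  have hreg := regular_of_omega_le hp hR hO
  have hR1 := regAt_of_regular hreg 1
  have hQ : Cfsg.IsRegularPGroup p (R ⧸ T) := Cfsg.Agent.S0641.result hreg T
  rw [omegaOne_top_eq hQ.1 (regAt_of_regular hQ 1), card_omega_eq_index hQ.1 (regAt_of_regular hQ 1)]
  rw [omegaOne_top_eq hR hR1, card_omega_eq_index hR hR1] at hO
  have hmap : (powerClosure p 1 (⊤ : Subgroup R)).map (QuotientGroup.mk' T) ≤
      powerClosure p 1 (⊤ : Subgroup (R ⧸ T)) := by
    rw [powerClosure, MonoidHom.map_closure, Subgroup.closure_le]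
    rintro _ ⟨_, ⟨x, -, rfl⟩, rfl⟩
    exact Subgroup.subset_closure ⟨(x : R ⧸ T), Subgroup.mem_top _, by simp⟩
  refine le_trans (Nat.le_of_dvd (Nat.pos_of_ne_zero Subgroup.FiniteIndex.index_ne_zero) ?_) hO
  exact (Subgroup.index_dvd_of_le hmap).trans
    (Subgroup.index_map_dvd _ (QuotientGroup.mk'_surjective T))

end Cfsg.Agent.S0637
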