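import Cfsg.Statements.S0638
import Cfsg.Agent.Lib.PGroupsCyclic

set_option autoImplicit false
open Cfsg

namespace Cfsg.Agent.S0638

/-- For odd p, in a non-cyclic metacyclic p-group the elements of order dividing p generate an elementary abelian subgroup of order p². -/
theorem result {R : Type*} [Group R] [Finite R] {p : ℕ} [Fact p.Prime] (hp : p ≠ 2) (hR : IsPGroup p R) (hm : Cfsg.IsMetacyclic R) (hnc : ¬ IsCyclic R) : Cfsg.IsElementaryAbelian p (Cfsg.omegaOne p (⊤ : Subgroup R)) ∧ Nat.card ↥(Cfsg.omegaOne p (⊤ : Subgroup R)) = p ^ 2 := by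
  obtain ⟨N, hNn, hN, hQ⟩ := hm
  obtain ⟨E, hEn, hEcard, hEel⟩ :=
    Cfsg.Agent.PGroupsCyclic.exists_normal_elementary_sq hR hp hnc
  have hQpow : ∀ x : R, x ^ p = 1 → x ∈ E ⊔ N := by
    have hEN : ¬ E ≤ N := fun h => by
      have hc : IsCyclic E :=
        isCyclic_of_surjective (Subgroup.subgroupOfEquivOfLe h)
          (Subgroup.subgroupOfEquivOfLe h).surjective
      have := Cfsg.Agent.PGroupsBasic.card_le_prime_of_isCyclic hc hEel.2
      rw [hEcard] at this
      nlinarith [(Fact.out : p.Prime).two_le]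
    obtain ⟨e, he, heN⟩ := SetLike.not_le_iff_exists.mp hEN
    intro x hx
    have hcl : (QuotientGroup.mk' N x) ∈ Subgroup.zpowers (QuotientGroup.mk' N e) := by
      by_cases hxN : QuotientGroup.mk' N x = 1
      · rw [hxN]; exact one_mem _
      have hxo := Cfsg.Agent.PGroupsBasic.orderOf_eq_of_pow_eq_one
        (show (QuotientGroup.mk' N x) ^ p = 1 by rw [← map_pow, hx, map_one]) hxN
      have heo := Cfsg.Agent.PGroupsBasic.orderOf_eq_of_pow_eq_one
        (show (QuotientGroup.mk' N e) ^ p = 1 by rw [← map_pow, hEel.2 e he, map_one])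
        (fun h => heN ((QuotientGroup.eq_one_iff e).mp h))
      have heq := Cfsg.Agent.PGroupsCyclic.eq_of_card_eq_of_isCyclic
        (H := Subgroup.zpowers (QuotientGroup.mk' N x)) (K := Subgroup.zpowers (QuotientGroup.mk' N e))
        (isCyclic_of_surjective (Subgroup.topEquiv (G := R ⧸ N)).symm
          (Subgroup.topEquiv (G := R ⧸ N)).symm.surjective : IsCyclic (⊤ : Subgroup (R ⧸ N)))
        le_top le_top (by rw [Nat.card_zpowers, Nat.card_zpowers, hxo, heo])
      exact heq ▸ Subgroup.mem_zpowers _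
    obtain ⟨k, hk⟩ := Subgroup.mem_zpowers_iff.mp hcl
    rw [← map_zpow] at hk
    have h0 := Subgroup.mul_mem_sup (S := E) (T := N) (zpow_mem he k)
      ((QuotientGroup.eq (s := N)).mp hk)
    rwa [mul_inv_cancel_left] at h0
  haveI := hNn
  haveI := hEn
  have hMc : ¬ IsCyclic ↥(E ⊔ N) := fun hc => by
    have hc' : IsCyclic E :=
      isCyclic_of_surjective (Subgroup.subgroupOfEquivOfLe (le_sup_left : E ≤ E ⊔ N))
        (Subgroup.subgroupOfEquivOfLe le_sup_left).surjective
    have := Cfsg.Agent.PGroupsBasic.card_le_prime_of_isCyclic hc' hEel.2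
    rw [hEcard] at this
    nlinarith [(Fact.out : p.Prime).two_le]
  haveI : IsCyclic (N.subgroupOf (E ⊔ N)) :=
    isCyclic_of_surjective _ (Subgroup.subgroupOfEquivOfLe (le_sup_right : N ≤ E ⊔ N)).symm.surjective
  have hidx : (N.subgroupOf (E ⊔ N)).index = p := by
    have h1 : N.relIndex (E ⊔ N) = N.relIndex E := Subgroup.relIndex_sup_right E N
    have h2 : N.relIndex E ∣ p ^ 2 := hEcard ▸ Subgroup.relIndex_dvd_card N E
    obtain ⟨k, hk, hk2⟩ := (Nat.dvd_prime_pow Fact.out).mp h2
    have hcard := Subgroup.relIndex_mul_relIndex ⊥ (N ⊓ E) E bot_le inf_le_right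
    rw [Subgroup.relIndex_bot_left, Subgroup.relIndex_bot_left, Subgroup.inf_relIndex_right, hk2,
      hEcard] at hcard
    have hle : Nat.card ↥(N ⊓ E) ≤ p :=
      Cfsg.Agent.PGroupsBasic.card_le_prime_of_isCyclic
        (isCyclic_of_surjective (Subgroup.subgroupOfEquivOfLe (inf_le_left : N ⊓ E ≤ N))
          (Subgroup.subgroupOfEquivOfLe inf_le_left).surjective)
        (fun a ha => hEel.2 a ha.2)
    show N.relIndex (E ⊔ N) = p
    rw [h1, hk2]
    interval_cases k
    · exfalso
      rw [pow_zero, mul_one] at hcard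
      rw [hcard] at hle
      nlinarith [(Fact.out : p.Prime).two_le]
    · exact pow_one p
    · exfalso
      have h3 : Nat.card ↥(N ⊓ E) = 1 :=
        Nat.eq_of_mul_eq_mul_right (pow_pos (Fact.out : p.Prime).pos 2) (hcard.trans (one_mul _).symm)
      have h5 : Nat.card ↥(E.map (QuotientGroup.mk' N)) = p ^ 2 := by
        rw [← Subgroup.relIndex_bot_left, ← Subgroup.relIndex_comap, MonoidHom.comap_bot,
          QuotientGroup.ker_mk', hk2]
      have h6 := Cfsg.Agent.PGroupsBasic.card_le_prime_of_isCyclic (p := p)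
        (inferInstance : IsCyclic ↥(E.map (QuotientGroup.mk' N)))
        (by rintro _ ⟨e, he, rfl⟩; rw [← map_pow, hEel.2 e he, map_one])
      rw [h5] at h6
      nlinarith [(Fact.out : p.Prime).two_le]
  obtain ⟨F, hF, hFcard, hFel⟩ := Cfsg.Agent.PGroupsCyclic.exists_omega_of_cyclic_index
    (hR.to_subgroup _) hp hMc ‹_› hidx
  have hO : Cfsg.omegaOne p (⊤ : Subgroup R) = F.map (E ⊔ N).subtype := by
    refine le_antisymm ((Subgroup.closure_le _).mpr fun x hx => ?_) ?_
    · exact ⟨⟨x, hQpow x hx.2⟩, (hF _).mpr (Subtype.ext hx.2), rfl⟩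
    · rintro _ ⟨f, hf, rfl⟩
      exact Subgroup.subset_closure ⟨Subgroup.mem_top _, congrArg Subtype.val ((hF f).mp hf)⟩
  rw [hO]
  exact ⟨Cfsg.Agent.PGroupsBasic.isElementaryAbelian_map_hom hFel _,
    by rw [Subgroup.card_map_of_injective (Subgroup.subtype_injective _), hFcard]⟩

end Cfsg.Agent.S0638
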