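import Cfsg.Statements.S0642
import Mathlib

set_option autoImplicit false
open Cfsg

namespace Cfsg.Agent.S0642

/-- Among finite 2-groups the regular ones are exactly the abelian ones. -/
theorem result {G : Type*} [Group G] [Finite G] (hG : IsPGroup 2 G) : Cfsg.IsRegularPGroup 2 G ↔ ∀ a b : G, a * b = b * a := by
  constructor
  · intro hreg a b
    set K := Subgroup.closure ({a, b} : Set G) with hK
    set D := ⁅K, K⁆ with hD
    obtain ⟨c, hc, habc⟩ := hreg.2 a b 1
    rw [← hK, ← hD] at hc
    set P := Cfsg.powerClosure 2 1 D with hP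
    have haK : a ∈ K := Subgroup.subset_closure (Or.inl rfl)
    have hbK : b ∈ K := Subgroup.subset_closure (Or.inr rfl)
    have hPD : P ≤ D := by
      refine (Subgroup.closure_le _).2 ?_
      rintro _ ⟨x, hx, rfl⟩; exact pow_mem hx _
    have hKD : ∀ k ∈ K, ∀ x ∈ D, k * x * k⁻¹ ∈ D := by
      intro k hk x hx
      have h := Subgroup.commutator_mem_commutator hk (show x ∈ K from ?_)
      · have h2 := mul_mem h hx
        rw [commutatorElement_def] at h2
        group at h2 ⊢
        exact h2
      · exact (Subgroup.commutator_le_self K) hx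
    have hKP : ∀ k ∈ K, ∀ x ∈ P, k * x * k⁻¹ ∈ P := by
      intro k hk x hx
      have : P ≤ P.comap (MulAut.conj k).toMonoidHom := by
        refine (Subgroup.closure_le _).2 ?_
        rintro _ ⟨y, hy, rfl⟩
        refine Subgroup.subset_closure ⟨k * y * k⁻¹, hKD k hk y hy, ?_⟩
        simp [conj_pow]
      exact this hx
    -- the commutator `⁅a⁻¹, b⁻¹⁆`-type element lies in `P`
    have hcomm : a⁻¹ * b * a * b⁻¹ ∈ P := by
      have h1 : (a * b) ^ 2 = a ^ 2 * b ^ 2 * c := by simpa using habc
      have h2 : c = b⁻¹ * (b⁻¹ * a⁻¹ * b * a) * b := by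
        have : c = (a ^ 2 * b ^ 2)⁻¹ * (a * b) ^ 2 := by rw [h1]; group
        rw [this, pow_two, pow_two, pow_two]; group
      have h3 := hKP b hbK c hc
      rw [h2] at h3
      have h4 := hKP b hbK _ h3
      group at h4 ⊢
      exact h4
    have hDP : D ≤ P := by
      -- in `K ⧸ P` the two generators commute
      have hPK : P ≤ K := hPD.trans (Subgroup.commutator_le_self K)
      let Q : Subgroup K := P.subgroupOf K
      have hQn : Q.Normal := ⟨fun x hx k => hKP k k.2 x hx⟩
      have hab : ((⟨a, haK⟩ : K) : K ⧸ Q) * ((⟨b, hbK⟩ : K) : K ⧸ Q) =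
          ((⟨b, hbK⟩ : K) : K ⧸ Q) * ((⟨a, haK⟩ : K) : K ⧸ Q) := by
        rw [← QuotientGroup.mk_mul, ← QuotientGroup.mk_mul, QuotientGroup.eq]
        show (a * b)⁻¹ * (b * a) ∈ P
        have := hKP b⁻¹ (inv_mem hbK) _ hcomm
        group at this ⊢
        exact this
      have htop : Subgroup.closure ({(⟨a, haK⟩ : K), ⟨b, hbK⟩} : Set K) = ⊤ := by
        refine (Subgroup.map_injective K.subtype_injective) ?_
        rw [MonoidHom.map_closure, ← MonoidHom.range_eq_map, Subgroup.range_subtype,
          Set.image_pair]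
        exact hK.symm
      have hcl : Subgroup.closure ({((⟨a, haK⟩ : K) : K ⧸ Q), ((⟨b, hbK⟩ : K) : K ⧸ Q)} :
          Set (K ⧸ Q)) = ⊤ := by
        have := congrArg (Subgroup.map (QuotientGroup.mk' Q)) htop
        rw [MonoidHom.map_closure, Set.image_pair,
          Subgroup.map_top_of_surjective _ (QuotientGroup.mk'_surjective Q)] at this
        exact this
      have hcom : IsMulCommutative ↥(Subgroup.closure
          ({((⟨a, haK⟩ : K) : K ⧸ Q), ((⟨b, hbK⟩ : K) : K ⧸ Q)} : Set (K ⧸ Q))) := by
        refine Subgroup.isMulCommutative_closure ?_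
        rintro x hx y hy
        rcases hx with rfl | hx <;> rcases hy with rfl | hy <;>
          simp_all only [Set.mem_singleton_iff]
      rw [hD, Subgroup.commutator_le]
      intro x hx y hy
      have h : ((⟨x, hx⟩ : K) : K ⧸ Q) * ((⟨y, hy⟩ : K) : K ⧸ Q) =
          ((⟨y, hy⟩ : K) : K ⧸ Q) * ((⟨x, hx⟩ : K) : K ⧸ Q) := congrArg Subtype.val (hcom.is_comm.comm
        (⟨((⟨x, hx⟩ : K) : K ⧸ Q), hcl ▸ Subgroup.mem_top _⟩)
        ⟨((⟨y, hy⟩ : K) : K ⧸ Q), hcl ▸ Subgroup.mem_top _⟩)
      have h' : (((⟨x, hx⟩ : K) * ⟨y, hy⟩ * (⟨x, hx⟩ : K)⁻¹ * (⟨y, hy⟩ : K)⁻¹ : K) : K ⧸ Q) =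
          1 := by
        simp only [QuotientGroup.mk_mul, QuotientGroup.mk_inv]
        rw [h]
        group
      have h'' := (QuotientGroup.eq_one_iff _).1 h'
      exact h''
    -- a finite 2-group generated by its squares is trivial
    have hDbot : D = ⊥ := by
      by_contra hne
      haveI : Nontrivial D := (Subgroup.nontrivial_iff_ne_bot D).2 hne
      have hD2 : IsPGroup 2 D := hG.to_subgroup D
      haveI := hD2.isNilpotent
      obtain h0 | ⟨M, hM, -⟩ := IsCoatomic.eq_top_or_exists_le_coatom (⊥ : Subgroup D)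
      · exact absurd h0 bot_ne_top
      have hMn : M.Normal := Subgroup.NormalizerCondition.normal_of_coatom M (Group.normalizerCondition_of_isNilpotent (G := D)) hM
      obtain ⟨k, hk⟩ := (hD2.to_quotient M).exists_card_eq
      have hsimple : ∀ L : Subgroup (D ⧸ M), L ≠ ⊥ → L = ⊤ := by
        intro L hL
        have hle : M < L.comap (QuotientGroup.mk' M) := by
          refine lt_of_le_of_ne (fun x hx => ?_) ?_
          · show (x : D ⧸ M) ∈ L
            rw [(QuotientGroup.eq_one_iff x).2 hx]; exact one_mem L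
          · intro he
            apply hL
            rw [← Subgroup.map_comap_eq_self_of_surjective (QuotientGroup.mk'_surjective M) L, ← he,
              QuotientGroup.map_mk'_self]
        have := hM.2 _ hle
        rw [← Subgroup.map_comap_eq_self_of_surjective (QuotientGroup.mk'_surjective M) L, this,
          Subgroup.map_top_of_surjective _ (QuotientGroup.mk'_surjective M)]
      have hsq : ∀ x : D, x ^ 2 ∈ M := by
        intro x
        by_contra hx
        have hne' : (x : D ⧸ M) ^ 2 ≠ 1 := by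
          rw [← QuotientGroup.mk_pow]; exact fun h => hx ((QuotientGroup.eq_one_iff _).1 h)
        have htop := hsimple (Subgroup.zpowers ((x : D ⧸ M) ^ 2))
          (fun h => hne' (Subgroup.zpowers_eq_bot.1 h))
        have hmem : (x : D ⧸ M) ∈ Subgroup.zpowers ((x : D ⧸ M) ^ 2) := htop ▸ Subgroup.mem_top _
        obtain ⟨i, hi⟩ := hmem
        have ho : ((orderOf (x : D ⧸ M) : ℤ)) ∣ 2 * i - 1 := by
          rw [orderOf_dvd_iff_zpow_eq_one, zpow_sub, zpow_mul, zpow_one]
          simp only at hi
          rw [show ((x : D ⧸ M) ^ (2 : ℤ)) = (x : D ⧸ M) ^ 2 from by norm_cast, hi, mul_inv_cancel]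
        have hdvd : orderOf (x : D ⧸ M) ∣ 2 ^ k := hk ▸ orderOf_dvd_natCard _
        obtain ⟨j, _, hj⟩ := (Nat.dvd_prime_pow Nat.prime_two).1 hdvd
        rcases Nat.eq_zero_or_pos j with rfl | hj0
        · exact hne' (by
            rw [pow_zero] at hj
            rw [orderOf_eq_one_iff.1 hj, one_pow])
        · have h2 : (2 : ℤ) ∣ 2 * i - 1 := by
            refine dvd_trans ?_ ho
            rw [hj]; push_cast; exact dvd_pow_self _ (by omega)
          omega
      have : P ≤ M.map D.subtype := by
        refine (Subgroup.closure_le _).2 ?_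
        rintro _ ⟨x, hx, rfl⟩
        exact ⟨⟨x, hx⟩ ^ 2, hsq _, by simp⟩
      have htop : M = ⊤ := by
        rw [eq_top_iff]; intro x _
        obtain ⟨y, hy, hyx⟩ := this (hDP x.2)
        rwa [← Subtype.ext hyx]
      exact hM.1 htop
    have h := Subgroup.commutator_mem_commutator haK hbK
    rw [← hD, hDbot, Subgroup.mem_bot, commutatorElement_eq_one_iff_mul_comm] at h
    exact h
  · intro hab
    refine ⟨hG, fun a b n => ⟨1, one_mem _, ?_⟩⟩
    rw [mul_one, (show Commute a b from hab a b).mul_pow]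

end Cfsg.Agent.S0642
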