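import Cfsg.Statements.S0645
import Cfsg.Agent.Lib.PGroupsCyclic

set_option autoImplicit false
open Cfsg

namespace Cfsg.Agent.S0645

open Cfsg.Agent.PGroupsCyclic Cfsg.Agent.PGroupsBasic
open scoped commutatorElement

/-- Classification of p-groups with a cyclic maximal subgroup, odd p: a non-abelian one of order p^n has generators a of order p^(n-1) and b of order p, b outside the cyclic subgroup generated by a, with b a b⁻¹ = a^(1 + p^(n-2)). -/
theorem result {G : Type*} [Group G] [Finite G] {p : ℕ} [Fact p.Prime] (hp : p ≠ 2) (n : ℕ) (hn : 3 ≤ n) (hG : Nat.card G = p ^ n) (C : Subgroup G) (hC : IsCyclic C) (hCi : C.index = p) (hna : ∃ x y : G, x * y ≠ y * x) : ∃ a b : G, orderOf a = p ^ (n - 1) ∧ orderOf b = p ∧ b ∉ Subgroup.zpowers a ∧ b * a * b⁻¹ = a ^ (1 + p ^ (n - 2)) := by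
  obtain ⟨x, rfl⟩ : ∃ x, Subgroup.zpowers x = C := by
    obtain ⟨g, hg⟩ := hC.exists_generator
    exact ⟨g, le_antisymm (Subgroup.zpowers_le.mpr g.2) fun a ha => by
      obtain ⟨k, hk⟩ := Subgroup.mem_zpowers_iff.mp (hg ⟨a, ha⟩)
      exact Subgroup.mem_zpowers_iff.mpr ⟨k, congrArg Subtype.val hk⟩⟩
  have hp' : p.Prime := Fact.out
  have hP : IsPGroup p G := IsPGroup.of_card hG
  have hxo : orderOf x = p ^ (n - 1) := by
    have h1 := Subgroup.card_mul_index (Subgroup.zpowers x)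
    rw [Nat.card_zpowers, hCi, hG] at h1
    obtain ⟨m, rfl⟩ : ∃ m, n = m + 1 := ⟨n - 1, by omega⟩
    rw [pow_succ] at h1
    simpa using Nat.eq_of_mul_eq_mul_right hp'.pos h1
  have hnc : ¬ IsCyclic G := fun h => by
    obtain ⟨u, v, huv⟩ := hna
    exact huv ((IsCyclic.isMulCommutative (α := G)).is_comm.comm u v)
  obtain ⟨hz, he⟩ := commutator_facts_of_cyclic_index hP hp hCi
  obtain ⟨E, hEmem, hEcard, hEel⟩ := exists_omega_of_cyclic_index hP hp hnc hC hCi
  obtain ⟨y, hyE, hy⟩ : ∃ y ∈ E, y ∉ Subgroup.zpowers x := by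
    refine SetLike.not_le_iff_exists.mp fun hle => ?_
    have := card_le_prime_of_isCyclic (isCyclic_of_surjective (Subgroup.subgroupOfEquivOfLe hle)
      (Subgroup.subgroupOfEquivOfLe hle).surjective) hEel.2
    rw [hEcard] at this
    nlinarith [hp'.two_le]
  haveI hn' := normal_of_index_eq hP hCi
  have hcmem : ⁅y, x⁆ ∈ Subgroup.zpowers x := by
    rw [commutatorElement_def]
    exact mul_mem (hn'.conj_mem x (Subgroup.mem_zpowers x) y) (inv_mem (Subgroup.mem_zpowers x))
  have hc1 : ⁅y, x⁆ ≠ 1 := fun h => by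
    have hgen : Subgroup.closure ({x, y} : Set G) = ⊤ := by
      refine (isCoatom_of_index_eq hCi).2 _ (lt_of_le_not_ge ?_ fun hle => hy (hle ?_))
      · exact Subgroup.zpowers_le.mpr (Subgroup.subset_closure (by simp))
      · exact Subgroup.subset_closure (by simp)
    have hcomm : y * x = x * y := commutatorElement_eq_one_iff_mul_comm.mp h
    have hab : IsMulCommutative (⊤ : Subgroup G) := hgen ▸ isMulCommutative_of_le_centralizer (by
      rw [Subgroup.closure_le, Subgroup.centralizer_closure]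
      rintro u (rfl | rfl) <;> refine Subgroup.mem_centralizer_iff.mpr ?_ <;> rintro v (rfl | rfl)
      · rfl
      · exact hcomm
      · exact hcomm.symm
      · rfl)
    obtain ⟨u, v, huv⟩ := hna
    exact huv (comm_of_isMulCommutative hab (Subgroup.mem_top u) (Subgroup.mem_top v))
  have hco : orderOf ⁅y, x⁆ = p := orderOf_eq_of_pow_eq_one (he y x) hc1
  have hzo : orderOf (x ^ (p ^ (n - 2))) = p := by
    rw [orderOf_pow_of_dvd (pow_ne_zero _ hp'.ne_zero) (by
      rw [hxo]; exact Nat.pow_dvd_pow p (by omega)), hxo, Nat.pow_div (by omega) hp'.pos,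
      show n - 1 - (n - 2) = 1 by omega, pow_one]
  have heq := eq_of_card_eq_of_isCyclic hC (H := Subgroup.zpowers ⁅y, x⁆)
    (K := Subgroup.zpowers (x ^ (p ^ (n - 2)))) (Subgroup.zpowers_le.mpr hcmem)
    (Subgroup.zpowers_le.mpr (pow_mem (Subgroup.mem_zpowers x) _))
    (by rw [Nat.card_zpowers, Nat.card_zpowers, hco, hzo])
  obtain ⟨j, hj : ⁅y, x⁆ ^ j = x ^ (p ^ (n - 2))⟩ :=
    (isOfFinOrder_of_finite ⁅y, x⁆).mem_powers_iff_mem_zpowers.mpr
      (show x ^ (p ^ (n - 2)) ∈ Subgroup.zpowers ⁅y, x⁆ by rw [heq]; exact Subgroup.mem_zpowers _)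
  rw [← commutatorElement_pow_left (hz (Subgroup.commutator_mem_commutator (Subgroup.mem_top _)
    (Subgroup.mem_top _)))] at hj
  have hb : y ^ j ∉ Subgroup.zpowers x := fun hmem => by
    obtain ⟨i, hi⟩ := Subgroup.mem_zpowers_iff.mp hmem
    rw [← hi, commutatorElement_eq_one_iff_mul_comm.mpr (Commute.zpow_self x i).eq] at hj
    rw [← hj, orderOf_one] at hzo
    exact hp'.one_lt.ne hzo
  refine ⟨x, y ^ j, hxo, orderOf_eq_of_pow_eq_one
    (by rw [← pow_mul, mul_comm, pow_mul, hEel.2 y hyE, one_pow])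
    (fun h => hb (h ▸ one_mem _)), hb, ?_⟩
  rw [add_comm, pow_succ, ← hj, commutatorElement_def, inv_mul_cancel_right]

end Cfsg.Agent.S0645
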