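import Cfsg.Statements.S0646
import Cfsg.Agent.Lib.PGroupsCyclic

set_option autoImplicit false
open Cfsg

namespace Cfsg.Agent.S0646

open Cfsg.Agent.PGroupsCyclic Cfsg.Agent.PGroupsBasic
open scoped commutatorElement

/-- Classification of non-abelian 2-groups with a cyclic maximal subgroup: dihedral, generalized quaternion, and for order at least 16 the modular group and the semidihedral group, each given by generators a (of index 2) and b with the stated relations. -/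
theorem result {G : Type*} [Group G] [Finite G] (n : ℕ) (hn : 3 ≤ n) (hG : Nat.card G = 2 ^ n) (C : Subgroup G) (hC : IsCyclic C) (hCi : C.index = 2) (hna : ∃ x y : G, x * y ≠ y * x) : ∃ a b : G, orderOf a = 2 ^ (n - 1) ∧ b ∉ Subgroup.zpowers a ∧ ((b ^ 2 = 1 ∧ b * a * b⁻¹ = a⁻¹) ∨ (b ^ 2 = a ^ (2 ^ (n - 2)) ∧ b * a * b⁻¹ = a⁻¹) ∨ (4 ≤ n ∧ b ^ 2 = 1 ∧ b * a * b⁻¹ = a ^ (1 + 2 ^ (n - 2))) ∨ (4 ≤ n ∧ b ^ 2 = 1 ∧ b * a * b⁻¹ = a ^ (2 ^ (n - 2) - 1))) := by
  obtain ⟨N, rfl⟩ : ∃ N, n = N + 3 := ⟨n - 3, by omega⟩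
  have hP : IsPGroup 2 G := IsPGroup.of_card hG
  obtain ⟨x, rfl⟩ : ∃ x, Subgroup.zpowers x = C := by
    obtain ⟨g, hg⟩ := hC.exists_generator
    exact ⟨g, le_antisymm (Subgroup.zpowers_le.mpr g.2) fun a ha => by
      obtain ⟨k, hk⟩ := Subgroup.mem_zpowers_iff.mp (hg ⟨a, ha⟩)
      exact Subgroup.mem_zpowers_iff.mpr ⟨k, congrArg Subtype.val hk⟩⟩
  have hxo : orderOf x = 2 ^ (N + 2) := by
    have h1 := Subgroup.card_mul_index (Subgroup.zpowers x)
    rw [Nat.card_zpowers, hCi, hG] at h1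
    exact Nat.eq_of_mul_eq_mul_right two_pos (h1.trans (pow_succ 2 (N + 2)))
  haveI hn' := normal_of_index_eq hP hCi
  obtain ⟨g, hg⟩ : ∃ g, g ∉ Subgroup.zpowers x := by
    by_contra h
    push Not at h
    exact (isCoatom_of_index_eq hCi).1 (eq_top_iff.mpr fun g _ => h g)
  obtain ⟨r, hr⟩ := exists_conj_eq_zpow hn' g
  obtain ⟨m, hm⟩ := Subgroup.mem_zpowers_iff.mp (show g ^ 2 ∈ Subgroup.zpowers x by
    rw [← hCi]; exact (Subgroup.zpowers x).pow_index_mem g)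
  have hd := dvd_of_pow_mem hr (m := 2) (hm ▸ Commute.zpow_self x m)
  rw [hxo] at hd
  push_cast at hd
  have hne : ¬ ((2 : ℤ) ^ (N + 2) ∣ r - 1) := by
    intro h1
    have hcomm : g * x = x * g := by
      rw [← mul_inv_eq_iff_eq_mul, hr]
      conv_rhs => rw [← zpow_one x]
      rw [zpow_eq_iff_dvd, hxo]; exact_mod_cast h1
    have hgen : Subgroup.closure ({x, g} : Set G) = ⊤ := by
      refine (isCoatom_of_index_eq hCi).2 _ (lt_of_le_not_ge ?_ fun hle => hg (hle ?_))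
      · exact Subgroup.zpowers_le.mpr (Subgroup.subset_closure (by simp))
      · exact Subgroup.subset_closure (by simp)
    have hab : IsMulCommutative (⊤ : Subgroup G) := hgen ▸ isMulCommutative_of_le_centralizer (by
      rw [Subgroup.closure_le, Subgroup.centralizer_closure]
      rintro u (rfl | rfl) <;> refine Subgroup.mem_centralizer_iff.mpr ?_ <;> rintro v (rfl | rfl)
      · rfl
      · exact hcomm
      · exact hcomm.symm
      · rfl)
    obtain ⟨u, v, huv⟩ := hna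
    exact huv (comm_of_isMulCommutative hab (Subgroup.mem_top u) (Subgroup.mem_top v))
  have hfix : (2 : ℤ) ^ (N + 2) ∣ (r - 1) * m := by
    have h1 : g * x ^ m * g⁻¹ = x ^ m := by
      rw [hm, mul_inv_eq_iff_eq_mul, ← pow_succ, ← pow_succ']
    rw [conj_zpow_eq hr, zpow_eq_iff_dvd, hxo] at h1
    push_cast at h1
    convert h1 using 1; ring
  have hx1 : orderOf x = 2 ^ (N + 3 - 1) := hxo
  have hnotin : ∀ i : ℤ, g * x ^ i ∉ Subgroup.zpowers x := fun i h => hg (by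
    have := mul_mem h (zpow_mem (Subgroup.mem_zpowers x) (-i))
    rwa [mul_assoc, ← zpow_add, add_neg_cancel, zpow_zero, mul_one] at this)
  have hconj : ∀ i : ℤ, (g * x ^ i) * x * (g * x ^ i)⁻¹ = x ^ r := by
    intro i
    rw [← hr, mul_inv_rev, mul_assoc g, ← (Commute.self_zpow x i).eq]
    group
  have hsq : ∀ i : ℤ, (2 : ℤ) ^ (N + 2) ∣ r * i + (m + i) → (g * x ^ i) ^ 2 = 1 := by
    intro i hi
    have : (g * x ^ i) ^ 2 = x ^ (r * i + (m + i)) := by
      calc (g * x ^ i) ^ 2 = (g * x ^ i * g⁻¹) * (g ^ 2 * x ^ i) := by simp [pow_two, mul_assoc]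
        _ = _ := by rw [conj_zpow_eq hr, ← hm, ← zpow_add, ← zpow_add]
    rw [this, ← orderOf_dvd_iff_zpow_eq_one, hxo]
    exact_mod_cast hi
  refine ⟨x, ?_⟩
  by_cases hrinv : (2 : ℤ) ^ (N + 2) ∣ r + 1
  · have hgx : g * x * g⁻¹ = x⁻¹ := by
      rw [hr, ← zpow_neg_one, zpow_eq_iff_dvd, hxo]
      push_cast
      rwa [sub_neg_eq_add]
    refine ⟨g, hx1, hg, ?_⟩
    rcases sq_eq_one_or_eq (n := N + 1) hxo (hm ▸ zpow_mem (Subgroup.mem_zpowers x) m) (by
        rw [← hm, pow_two, ← zpow_add, ← orderOf_dvd_iff_zpow_eq_one, hxo]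
        push_cast
        obtain ⟨q, hq⟩ := hfix
        obtain ⟨q', hq'⟩ := hrinv
        exact ⟨q' * m - q, by linear_combination m * hq' - hq⟩) with h | h
    · exact Or.inl ⟨h, hgx⟩
    · exact Or.inr (Or.inl ⟨h, hgx⟩)
  rcases int_sq_sub_one hd with ⟨a, ha⟩ | ⟨a, ha⟩
  · obtain ⟨b, rfl⟩ : Odd a := by
      rcases Int.even_or_odd a with ⟨b, hb⟩ | h
      · exact absurd ⟨b, by rw [ha, hb]; ring⟩ hne
      · exact h
    obtain ⟨k, rfl⟩ : ∃ k, N = k + 1 := by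
      rcases Nat.eq_zero_or_pos N with rfl | h
      · exact absurd ⟨b + 1, by linear_combination ha⟩ hrinv
      · exact ⟨N - 1, by omega⟩
    obtain ⟨t, rfl⟩ : Even m := by
      by_contra hmo
      rw [Int.not_even_iff_odd] at hmo
      obtain ⟨q, hq⟩ := hfix
      have h2 : (2 * b + 1) * m = 2 * q := by
        refine mul_left_cancel₀ (pow_ne_zero (k + 2) (two_ne_zero (α := ℤ))) ?_
        linear_combination hq - m * ha
      have := (odd_two_mul_add_one b).mul hmo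
      rw [h2] at this
      exact Int.not_odd_iff_even.mpr (even_two_mul q) this
    obtain ⟨u, v, huv⟩ : IsCoprime ((2 : ℤ) ^ (k + 3)) (1 + 2 ^ (k + 1) * (2 * b + 1)) :=
      IsCoprime.pow_left ⟨-(2 ^ k * (2 * b + 1)), 1, by ring⟩
    have hr' : r = 1 + 2 ^ (k + 2) * (2 * b + 1) := by linear_combination ha
    refine ⟨g * x ^ (-(t * v)), hx1, hnotin _, Or.inr (Or.inr (Or.inl ⟨by omega,
      hsq _ ⟨2 * t * u, ?_⟩, ?_⟩))⟩
    · rw [hr']
      linear_combination (-(2 * t)) * huv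
    · rw [hconj, ← zpow_natCast x, zpow_eq_iff_dvd, hxo]
      exact ⟨b, by simp only [show k + 1 + 3 - 2 = k + 2 by omega]; push_cast; rw [hr']; ring⟩
  · obtain ⟨b, rfl⟩ : Odd a := by
      rcases Int.even_or_odd a with ⟨b, hb⟩ | h
      · exact absurd ⟨b, by rw [ha, hb]; ring⟩ hrinv
      · exact h
    obtain ⟨k, rfl⟩ : ∃ k, N = k + 1 := by
      rcases Nat.eq_zero_or_pos N with rfl | h
      · exact absurd ⟨b, by linear_combination ha⟩ hne
      · exact ⟨N - 1, by omega⟩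
    have hcop : IsCoprime ((2 : ℤ) ^ (k + 2)) (2 ^ (k + 1) * (2 * b + 1) - 1) :=
      IsCoprime.pow_left ⟨2 ^ k * (2 * b + 1), -1, by ring⟩
    obtain ⟨q, hq⟩ := hfix
    obtain ⟨c, hc⟩ : (2 : ℤ) ^ (k + 2) ∣ m := by
      refine hcop.dvd_of_dvd_mul_left ⟨q, ?_⟩
      refine mul_left_cancel₀ (two_ne_zero (α := ℤ)) ?_
      linear_combination hq - m * ha
    have hr' : r = 2 ^ (k + 2) * (2 * b + 1) - 1 := by linear_combination ha
    obtain ⟨i, hi⟩ : ∃ i : ℤ, (2 : ℤ) ^ (k + 1 + 2) ∣ r * i + (m + i) := by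
      rcases Int.even_or_odd c with ⟨d, hd'⟩ | ⟨d, hd'⟩
      · exact ⟨0, d, by rw [hc, hd']; ring⟩
      · exact ⟨1, b + d + 1, by rw [hc, hd', hr']; ring⟩
    refine ⟨g * x ^ i, hx1, hnotin _, Or.inr (Or.inr (Or.inr ⟨by omega, hsq _ hi, ?_⟩))⟩
    rw [hconj, ← zpow_natCast x, zpow_eq_iff_dvd, hxo]
    refine ⟨b, ?_⟩
    simp only [show k + 1 + 3 - 2 = k + 2 by omega]
    rw [Nat.cast_sub (Nat.one_le_two_pow)]
    push_cast
    rw [hr']; ring

end Cfsg.Agent.S0646
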