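import Cfsg.Statements.S0647
import Mathlib

set_option autoImplicit false
open Cfsg

namespace Cfsg.Agent.S0647

/-- For a nonempty family of maximal abelian subgroups of a finite group, the intersection of the family is the centre of the subgroup it generates, which is also the full centralizer of that subgroup. -/
theorem result {S : Type*} [Group S] [Finite S] (𝒜 : Set (Subgroup S)) (hne : 𝒜.Nonempty) (hab : ∀ A ∈ 𝒜, IsMulCommutative A) (hmax : ∀ A ∈ 𝒜, ∀ B : Subgroup S, IsMulCommutative B → A ≤ B → B = A) : sInf 𝒜 = sSup 𝒜 ⊓ Subgroup.centralizer ((sSup 𝒜 : Subgroup S) : Set S) ∧ sInf 𝒜 = Subgroup.centralizer ((sSup 𝒜 : Subgroup S) : Set S) := by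
  classical
  have hA : ∀ A ∈ 𝒜, Subgroup.centralizer (A : Set S) ≤ A := by
    intro A hA x hx
    have hab' : ∀ y ∈ A, ∀ z ∈ A, y * z = z * y := fun y hy z hz =>
      congrArg Subtype.val ((hab A hA).is_comm.comm (⟨y, hy⟩ : A) ⟨z, hz⟩)
    have hc : IsMulCommutative ↥(Subgroup.closure ((A : Set S) ∪ {x})) := by
      refine Subgroup.isMulCommutative_closure ?_
      rintro y (hy | hy) z (hz | hz)
      · exact hab' y hy z hz
      · obtain rfl := Set.mem_singleton_iff.1 hz
        exact hx y hy
      · obtain rfl := Set.mem_singleton_iff.1 hy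
        exact (hx z hz).symm
      · rw [Set.mem_singleton_iff.1 hy, Set.mem_singleton_iff.1 hz]
    have h := hmax A hA _ hc (fun y hy => Subgroup.subset_closure (Or.inl hy))
    rw [← h]; exact Subgroup.subset_closure (Or.inr rfl)
  have heq : sInf 𝒜 = Subgroup.centralizer ((sSup 𝒜 : Subgroup S) : Set S) := by
    apply le_antisymm
    · rw [Subgroup.le_centralizer_iff]
      refine sSup_le fun A hA' y hy z hz => ?_
      exact congrArg Subtype.val ((hab A hA').is_comm.comm
        (⟨z, (sInf_le hA' : sInf 𝒜 ≤ A) hz⟩ : A) ⟨y, hy⟩)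
    · refine le_sInf fun A hA' => le_trans ?_ (hA A hA')
      exact Subgroup.centralizer_le (fun y hy => (le_sSup hA' : A ≤ sSup 𝒜) hy)
  refine ⟨?_, heq⟩
  rw [← heq]
  obtain ⟨A, hA'⟩ := hne
  exact (inf_eq_right.2 ((sInf_le hA').trans (le_sSup hA'))).symm

end Cfsg.Agent.S0647
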