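import Cfsg.Statements.S0648
import Cfsg.Agent.Lib.GlaubermanClassFree

open scoped commutatorElement

set_option autoImplicit false
open Cfsg

namespace Cfsg.Agent.S0648

/-- If A acts on B centralizing [B, B], then [B, A] has derived subgroup central in B, and for abelian A and b ∈ B with [[b, A], A, A] = 1 the derived subgroup of the subgroup [b, A] generated by the commutators of b with A has exponent dividing 2. -/
theorem result {G : Type*} [Group G] [Finite G] (A B : Subgroup G) (hAB : A ≤ Subgroup.normalizer (B : Set G)) (hc : ⁅⁅B, B⁆, A⁆ = ⊥) : ⁅⁅B, A⁆, ⁅B, A⁆⁆ ≤ B ⊓ Subgroup.centralizer (B : Set G) ∧ (IsMulCommutative A → ∀ b ∈ B, ⁅⁅(Subgroup.closure {g : G | ∃ a ∈ A, g = b⁻¹ * a * b * a⁻¹}), A⁆, A⁆ = ⊥ → ∀ w ∈ ⁅(Subgroup.closure {g : G | ∃ a ∈ A, g = b⁻¹ * a * b * a⁻¹}), (Subgroup.closure {g : G | ∃ a ∈ A, g = b⁻¹ * a * b * a⁻¹})⁆, w ^ 2 = 1) := by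
  refine ⟨le_inf ?_ (Subgroup.commutator_eq_bot_iff_le_centralizer.mp
    (Cfsg.Agent.GlaubermanClassFree.der_comm_central hAB hc)), ?_⟩
  · exact (Subgroup.commutator_le_self _).trans (Cfsg.Agent.GlaubermanClassFree.comm_le_left hAB)
  intro hA b hb hH
  set s := {g : G | ∃ a ∈ A, g = b⁻¹ * a * b * a⁻¹} with hs
  set H := Subgroup.closure s with hHdef
  have hgen : ∀ a ∈ A, ⁅b⁻¹, a⁆ ∈ H := fun a ha =>
    Subgroup.subset_closure ⟨a, ha, by rw [commutatorElement_def, inv_inv]⟩
  have h : Cfsg.Agent.GlaubermanClassFree.Hyp A B b⁻¹ :=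
    ⟨fun a ha c hc => congrArg Subtype.val (hA.is_comm.comm (⟨a, ha⟩ : A) ⟨c, hc⟩), hAB, hc,
      inv_mem hb, fun a ha c hc y hy => commutatorElement_eq_one_iff_commute.mp
        (Subgroup.mem_bot.mp (hH ▸ Subgroup.commutator_mem_commutator
          (Subgroup.commutator_mem_commutator (hgen a ha) hc) hy))⟩
  have hHle : ∀ g ∈ H, g ∈ ⁅B, A⁆ := by
    refine (Subgroup.closure_le _).mpr ?_
    rintro g ⟨a, ha, rfl⟩
    simpa [commutatorElement_def] using Subgroup.commutator_mem_commutator (inv_mem hb) ha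
  have key : ∀ g ∈ H, ∀ k ∈ H, ⁅g, k⁆ ^ 2 = 1 := by
    have hcen : ∀ g ∈ H, ∀ k ∈ H, ∀ y ∈ H, Commute ⁅g, k⁆ y := fun g hg k hk y hy =>
      Cfsg.Agent.GlaubermanClassFree.central hAB hc (hHle g hg) (hHle k hk)
        (Cfsg.Agent.GlaubermanClassFree.comm_le_left hAB (hHle y hy))
    have step : ∀ g ∈ H, ∀ k ∈ H, ∀ l ∈ H, ⁅g * k, l⁆ = ⁅k, l⁆ * ⁅g, l⁆ := by
      intro g hg k hk l hl
      have h0 : ⁅g * k, l⁆ = g * ⁅k, l⁆ * g⁻¹ * ⁅g, l⁆ := by
        simp only [commutatorElement_def]; group
      rw [h0, ← (hcen k hk l hl g hg).eq, mul_inv_cancel_right]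
    have base : ∀ u ∈ s, ∀ k ∈ H, ⁅k, u⁆ ^ 2 = 1 := by
      intro u hu k hk
      induction hk using Subgroup.closure_induction with
      | mem y hy =>
        obtain ⟨a, ha, rfl⟩ := hu
        obtain ⟨c, hc', rfl⟩ := hy
        simpa [commutatorElement_def] using Cfsg.Agent.GlaubermanClassFree.e_sq h hc' ha
      | one => simp
      | mul y z hy hz ihy ihz =>
        rw [step y hy z hz u (Subgroup.subset_closure hu), Commute.mul_pow, ihy, ihz, one_mul]
        exact hcen z hz u (Subgroup.subset_closure hu) _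
          ((fun hu' : _ ∈ H => by
            rw [commutatorElement_def]
            exact mul_mem (mul_mem (mul_mem hy hu') (inv_mem hy)) (inv_mem hu'))
            (Subgroup.subset_closure hu))
      | inv y hy ih =>
        have h0 := step y⁻¹ (inv_mem hy) y hy u (Subgroup.subset_closure hu)
        rw [inv_mul_cancel, commutatorElement_one_left] at h0
        rw [← inv_eq_of_mul_eq_one_right h0.symm, inv_pow, ih, inv_one]
    intro g hg k hk
    induction hg using Subgroup.closure_induction with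
    | mem y hy => rw [← commutatorElement_inv, inv_pow, base y hy k hk, inv_one]
    | one => simp
    | mul y z hy hz ihy ihz =>
      rw [step y hy z hz k hk, Commute.mul_pow, ihy, ihz, one_mul]
      exact hcen z hz k hk _ (by
        rw [commutatorElement_def]
        exact mul_mem (mul_mem (mul_mem hy hk) (inv_mem hy)) (inv_mem hk))
    | inv y hy ih =>
      have h0 := step y⁻¹ (inv_mem hy) y hy k hk
      rw [inv_mul_cancel, commutatorElement_one_left] at h0
      rw [← inv_eq_of_mul_eq_one_right h0.symm, inv_pow, ih, inv_one]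
  intro w hw
  rw [Subgroup.commutator_def] at hw
  induction hw using Subgroup.closure_induction with
  | mem y hy => obtain ⟨g, hg, k, hk, rfl⟩ := hy; exact key g hg k hk
  | one => simp
  | mul y z hy hz ihy ihz =>
    rw [← Subgroup.commutator_def] at hy hz
    rw [Commute.mul_pow, ihy, ihz, one_mul]
    have hyB : z ∈ B := Cfsg.Agent.GlaubermanClassFree.comm_le_left hAB
      (hHle z (Subgroup.commutator_le_self H hz))
    exact commutatorElement_eq_one_iff_commute.mp (Subgroup.mem_bot.mp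
      (Cfsg.Agent.GlaubermanClassFree.der_comm_central hAB hc ▸
        Subgroup.commutator_mem_commutator (Subgroup.commutator_mono hHle hHle hy) hyB))
  | inv y hy ih => rw [inv_pow, ih, inv_one]

end Cfsg.Agent.S0648
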