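import Cfsg.Statements.S0649


set_option autoImplicit false
open Cfsg

namespace Cfsg.Agent.S0649

/-- In the Glauberman replacement situation, if B does not normalize A then some element of B normalizes N_S(A) without normalizing A. -/
theorem result {S : Type*} [Group S] [Finite S] {p : ℕ} [Fact p.Prime] (hS : IsPGroup p S) (B : Subgroup S) [B.Normal] (hB2 : p = 2 → IsMulCommutative B) (A : Subgroup S) (hA : IsMulCommutative A) (hBA : ⁅B, B⁆ ≤ A) (hnot : ¬ B ≤ Subgroup.normalizer (A : Set S)) : ∃ b ∈ B, b ∈ Subgroup.normalizer ((Subgroup.normalizer (A : Set S)) : Set S) ∧ b ∉ Subgroup.normalizer (A : Set S) := by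
  by_contra hno
  push Not at hno
  set N := Subgroup.normalizer (A : Set S) with hN
  have hne : N.subgroupOf (B ⊔ N) ≠ ⊤ := fun h =>
    hnot (le_sup_left.trans (Subgroup.subgroupOf_eq_top.mp h))
  haveI := (hS.to_subgroup (B ⊔ N)).isNilpotent
  have hlt := Group.normalizerCondition_of_isNilpotent _ (lt_top_iff_ne_top.mpr hne)
  obtain ⟨g, hg, hgn⟩ := SetLike.exists_of_lt hlt
  have hgN : (g : S) ∈ Subgroup.normalizer (N : Set S) := by
    refine Subgroup.mem_normalizer_iff.mpr fun h => ⟨fun hh => ?_, fun hh => ?_⟩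
    · exact (Subgroup.mem_normalizer_iff.mp hg ⟨h, le_sup_right (a := B) hh⟩).mp hh
    · have hm : h ∈ B ⊔ N := by
        have h1 : (g : S) * h * (g : S)⁻¹ ∈ B ⊔ N := le_sup_right (a := B) hh
        simpa [mul_assoc] using mul_mem (mul_mem (inv_mem g.2) h1) g.2
      exact (Subgroup.mem_normalizer_iff.mp hg ⟨h, hm⟩).mpr hh
  obtain ⟨b, hb, m, hm, hbm⟩ : ∃ b ∈ B, ∃ m ∈ N, b * m = (g : S) :=
    Subgroup.mem_sup_of_normal_left.mp g.2
  have hb' : b = (g : S) * m⁻¹ := by rw [← hbm, mul_inv_cancel_right]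
  have hbN : b ∈ Subgroup.normalizer (N : Set S) :=
    hb' ▸ mul_mem hgN (inv_mem (Subgroup.le_normalizer hm))
  exact hgn (Subgroup.mem_subgroupOf.mpr (hbm ▸ mul_mem (hno b hb hbN) hm))

end Cfsg.Agent.S0649
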