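import Cfsg.Statements.S0650
import Cfsg.Agent.Lib.GlaubermanReplace

open scoped commutatorElement

set_option autoImplicit false
open Cfsg

namespace Cfsg.Agent.S0650

/-- The Glauberman replacement Theorem: from an abelian A ⊇ [B, B] not normalized by the normal subgroup B and a suitable b ∈ B one gets the abelian subgroup A* = (A ∩ b⁻¹Ab)[A, b] of the same order, containing [B, B], meeting B strictly more than A does but not containing B, mutually normalizing with A, with strictly larger normalizer containing b, and (p odd) of no larger exponent. -/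
theorem result {S : Type*} [Group S] [Finite S] {p : ℕ} [Fact p.Prime] (hS : IsPGroup p S) (B : Subgroup S) [B.Normal] (hB2 : p = 2 → IsMulCommutative B) (A : Subgroup S) (hA : IsMulCommutative A) (hBA : ⁅B, B⁆ ≤ A) (hnot : ¬ B ≤ Subgroup.normalizer (A : Set S)) (b : S) (hb : b ∈ B) (hbN : b ∈ Subgroup.normalizer ((Subgroup.normalizer (A : Set S)) : Set S)) (hbA : b ∉ Subgroup.normalizer (A : Set S)) : Nat.card ↥((A ⊓ A.map (MulAut.conj (b⁻¹)).toMonoidHom) ⊔ Subgroup.closure {g : S | ∃ a ∈ A, g = a * b⁻¹ * a⁻¹ * b}) = Nat.card A ∧ IsMulCommutative ↥((A ⊓ A.map (MulAut.conj (b⁻¹)).toMonoidHom) ⊔ Subgroup.closure {g : S | ∃ a ∈ A, g = a * b⁻¹ * a⁻¹ * b}) ∧ ⁅B, B⁆ ≤ ((A ⊓ A.map (MulAut.conj (b⁻¹)).toMonoidHom) ⊔ Subgroup.closure {g : S | ∃ a ∈ A, g = a * b⁻¹ * a⁻¹ * b}) ∧ A ⊓ B < ((A ⊓ A.map (MulAut.conj (b⁻¹)).toMonoidHom) ⊔ Subgroup.closure {g : S | ∃ a ∈ A, g = a * b⁻¹ * a⁻¹ * b}) ⊓ B ∧ ((A ⊓ A.map (MulAut.conj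 (b⁻¹)).toMonoidHom) ⊔ Subgroup.closure {g : S | ∃ a ∈ A, g = a * b⁻¹ * a⁻¹ * b}) ⊓ B < B ∧ A ≤ Subgroup.normalizer (((A ⊓ A.map (MulAut.conj (b⁻¹)).toMonoidHom) ⊔ Subgroup.closure {g : S | ∃ a ∈ A, g = a * b⁻¹ * a⁻¹ * b} : Subgroup S) : Set S) ∧ ((A ⊓ A.map (MulAut.conj (b⁻¹)).toMonoidHom) ⊔ Subgroup.closure {g : S | ∃ a ∈ A, g = a * b⁻¹ * a⁻¹ * b}) ≤ Subgroup.normalizer (A : Set S) ∧ b ∈ Subgroup.normalizer (((A ⊓ A.map (MulAut.conj (b⁻¹)).toMonoidHom) ⊔ Subgroup.closure {g : S | ∃ a ∈ A, g = a * b⁻¹ * a⁻¹ * b} : Subgroup S) : Set S) ∧ Subgroup.normalizer (A : Set S) < Subgroup.normalizer (((A ⊓ A.map (MulAut.conj (b⁻¹)).toMonoidHom) ⊔ Subgroup.closure {g : S | ∃ a ∈ A, g = a * b⁻¹ * a⁻¹ * b} : Subgroup S) : Set S) ∧ (p ≠ 2 → Monoid.exponent ↥((A ⊓ A.map (MulAut.conj (b⁻¹)).toMonoidHom) ⊔ Subgroup.closure {g : S | ∃ a ∈ A, g = a * b⁻¹ * a⁻¹ * b}) ∣ Monoid.exponent A) := by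
  set N := Subgroup.normalizer (A : Set S) with hN
  set x := b⁻¹ with hx
  have hxN : x ∈ Subgroup.normalizer (N : Set S) := inv_mem hbN
  have hnB : ∀ g : S, ∀ y ∈ B, g * y * g⁻¹ ∈ B := fun g y hy =>
    Subgroup.Normal.conj_mem ‹B.Normal› y hy g
  have hcA : ∀ a ∈ A, ∀ c ∈ A, a * c = c * a := fun a ha c hc =>
    congrArg Subtype.val (hA.is_comm.comm (⟨a, ha⟩ : A) ⟨c, hc⟩)
  have hconjN : ∀ n ∈ N, ∀ a ∈ A, n * a * n⁻¹ ∈ A := fun n hn a ha =>
    (Subgroup.mem_normalizer_iff.mp hn a).mp ha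
  have hxu : ∀ a ∈ A, ⁅x, a⁆ ∈ N := by
    intro a ha
    rw [commutatorElement_def]
    exact mul_mem ((Subgroup.mem_normalizer_iff.mp hxN a).mp (Subgroup.le_normalizer ha))
      (inv_mem (Subgroup.le_normalizer ha))
  have h : Cfsg.Agent.GlaubermanReplace.Data A B x :=
    ⟨hcA, hBA, Subgroup.normalizer_eq_top B ▸ le_top, inv_mem hb,
      fun hh => hbA (by simpa [hx] using inv_mem hh), hxu⟩
  have hp' : p ≠ 2 ∨ IsMulCommutative B := by
    by_cases hp2 : p = 2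
    · exact Or.inr (hB2 hp2)
    · exact Or.inl hp2
  obtain ⟨R, hRc, hRcard, hReq⟩ := Cfsg.Agent.GlaubermanReplace.exists_image h hp'
    (hS.to_subgroup _) le_rfl inf_le_right
  have hu : ∀ a ∈ A, ⁅x, a⁆ ∈ R := fun a ha =>
    hReq ▸ Subgroup.subset_closure (Or.inl ⟨a, ha, rfl⟩)
  have hk : ∀ a ∈ A, ⁅x, a⁆ ∈ A → a ∈ R := fun a ha hua =>
    hReq ▸ Subgroup.subset_closure (Or.inr ⟨ha, hua⟩)
  have hAB_R : A ⊓ B ≤ R := fun c hc =>
    hk c hc.1 (hBA (Subgroup.commutator_mem_commutator (inv_mem hb) hc.2))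
  have hle : ∀ T : Subgroup S, (∀ a ∈ A, ⁅x, a⁆ ∈ T) → (∀ a ∈ A, ⁅x, a⁆ ∈ A → a ∈ T) →
      R ≤ T := by
    intro T h1 h2
    rw [hReq, Subgroup.closure_le]
    rintro y (⟨a, ha, rfl⟩ | ⟨ha, hua⟩)
    · exact h1 a ha
    · exact h2 y ha hua
  have hT : (A ⊓ A.map (MulAut.conj (b⁻¹)).toMonoidHom) ⊔
      Subgroup.closure {g : S | ∃ a ∈ A, g = a * b⁻¹ * a⁻¹ * b} = R := by
    have he : ∀ a : S, a * b⁻¹ * a⁻¹ * b = ⁅x, a⁆⁻¹ := fun a => by
      rw [commutatorElement_def, hx]; group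
    refine le_antisymm (sup_le ?_ ((Subgroup.closure_le _).mpr ?_)) (hle _ ?_ ?_)
    · rintro c ⟨hc, d, hd, hdc⟩
      have hdc' : x * d * x⁻¹ = c := hdc
      have h1 : ⁅x, d⁆ = c * d⁻¹ := by rw [commutatorElement_def, hdc']
      rw [show c = ⁅x, d⁆ * d by rw [h1, inv_mul_cancel_right]]
      exact mul_mem (hu d hd) (hk d hd (h1 ▸ mul_mem hc (inv_mem hd)))
    · rintro g ⟨a, ha, rfl⟩
      rw [he]
      exact inv_mem (hu a ha)
    · intro a ha
      exact Subgroup.mem_sup_right (inv_mem_iff.mp (Subgroup.subset_closure ⟨a, ha, (he a).symm⟩))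
    · intro a ha hua
      rw [show a = ⁅x, a⁆⁻¹ * (x * a * x⁻¹) by rw [commutatorElement_def]; group]
      refine mul_mem (Subgroup.mem_sup_right (Subgroup.subset_closure ⟨a, ha, (he a).symm⟩))
        (Subgroup.mem_sup_left ⟨?_, a, ha, rfl⟩)
      rw [show x * a * x⁻¹ = ⁅x, a⁆ * a by rw [commutatorElement_def]; group]
      exact mul_mem hua ha
  rw [hT]
  have hRN : R ≤ N := hle _ hxu fun a ha _ => Subgroup.le_normalizer ha
  have hnorm : ∀ g : S, (∀ a ∈ A, g * ⁅x, a⁆ * g⁻¹ ∈ R) →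
      (∀ a ∈ A, ⁅x, a⁆ ∈ A → g * a * g⁻¹ ∈ R) →
      g ∈ Subgroup.normalizer (R : Set S) := by
    intro g h1 h2
    have hsub : ∀ y ∈ R, g * y * g⁻¹ ∈ R := fun y hy =>
      hle (R.comap (MulAut.conj g).toMonoidHom) h1 h2 hy
    refine Subgroup.mem_normalizer_iff.mpr fun y => ⟨hsub y, fun hy => ?_⟩
    have hmap : R.map (MulAut.conj g).toMonoidHom = R := by
      refine Subgroup.eq_of_le_of_card_ge ?_
        (Subgroup.card_map_of_injective (MulAut.conj g).injective).ge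
      rintro _ ⟨z, hz, rfl⟩
      exact hsub z hz
    rw [← hmap] at hy
    obtain ⟨z, hz, hze⟩ := hy
    exact ((MulAut.conj g).injective hze) ▸ hz
  have huB : ∀ a ∈ A, ⁅x, a⁆ ∈ B := fun a ha =>
    Cfsg.Agent.GlaubermanReplace.u_memB h ha
  have hbR : b ∈ Subgroup.normalizer (R : Set S) := by
    suffices x ∈ Subgroup.normalizer (R : Set S) by simpa [hx] using inv_mem this
    refine hnorm x (fun a ha => ?_) (fun a ha hua => ?_)
    · rw [show x * ⁅x, a⁆ * x⁻¹ = ⁅x, ⁅x, a⁆⁆ * ⁅x, a⁆ by simp only [commutatorElement_def]; group]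
      refine mul_mem (hAB_R ?_) (hu a ha)
      exact le_inf hBA (Subgroup.commutator_le_self B)
        (Subgroup.commutator_mem_commutator (inv_mem hb) (huB a ha))
    · rw [show x * a * x⁻¹ = ⁅x, a⁆ * a by rw [commutatorElement_def]; group]
      exact mul_mem (hu a ha) (hk a ha hua)
  have hzN : ∀ n ∈ N, ⁅n, x⁆ ∈ B ∧ ⁅n, x⁆ ∈ N := by
    intro n hn
    constructor
    · rw [commutatorElement_def]
      exact mul_mem (hnB n x (inv_mem hb)) (inv_mem (inv_mem hb))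
    · rw [show ⁅n, x⁆ = n * (x * n⁻¹ * x⁻¹) by rw [commutatorElement_def]; group]
      exact mul_mem hn ((Subgroup.mem_normalizer_iff.mp hxN _).mp (inv_mem hn))
  have hzA : ∀ z ∈ B, z ∈ N → ∀ a ∈ A, ⁅z, a⁆ ∈ A ⊓ B := by
    intro z hzB hz a ha
    refine Subgroup.mem_inf.mpr ⟨?_, ?_⟩
    · rw [commutatorElement_def]
      exact mul_mem (hconjN z hz a ha) (inv_mem ha)
    · rw [show ⁅z, a⁆ = z * (a * z⁻¹ * a⁻¹) by rw [commutatorElement_def]; group]
      exact mul_mem hzB (hnB a _ (inv_mem hzB))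
  have hNR : N ≤ Subgroup.normalizer (R : Set S) := by
    intro n hn
    obtain ⟨hzB, hz⟩ := hzN n hn
    have hexp : ∀ a, n * ⁅x, a⁆ * n⁻¹ =
        ⁅⁅n, x⁆, ⁅x, n * a * n⁻¹⁆⁆ * ⁅x, n * a * n⁻¹⁆ * ⁅⁅n, x⁆, n * a * n⁻¹⁆ := fun a => by
      simp only [commutatorElement_def]; group
    refine hnorm n (fun a ha => ?_) (fun a ha hua => ?_)
    · have ha' := hconjN n hn a ha
      rw [hexp]
      refine mul_mem (mul_mem (hAB_R ?_) (hu _ ha')) (hAB_R (hzA _ hzB hz _ ha'))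
      exact le_inf hBA (Subgroup.commutator_le_self B)
        (Subgroup.commutator_mem_commutator hzB (huB _ ha'))
    · have ha' := hconjN n hn a ha
      refine hk _ ha' ?_
      have h1 := hconjN n hn _ hua
      rw [hexp] at h1
      have h2 : ⁅⁅n, x⁆, ⁅x, n * a * n⁻¹⁆⁆ ∈ A :=
        hBA (Subgroup.commutator_mem_commutator hzB (huB _ ha'))
      have h3 := (hzA _ hzB hz _ ha').1
      rw [mul_assoc] at h1
      exact (Subgroup.mul_mem_cancel_right A h3).mp ((Subgroup.mul_mem_cancel_left A h2).mp h1)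
  have hltN : A ⊓ B < R ⊓ B := by
    refine lt_of_le_of_ne (le_inf hAB_R inf_le_right) fun heq => hbA ?_
    suffices x ∈ N by simpa [hx] using inv_mem this
    refine Subgroup.mem_normalizer_iff.mpr fun y => ?_
    have hcl : ∀ a ∈ A, x * a * x⁻¹ ∈ A := by
      intro a ha
      have hua : ⁅x, a⁆ ∈ A := by
        have h1 : ⁅x, a⁆ ∈ R ⊓ B := ⟨hu a ha, huB a ha⟩
        exact (heq ▸ h1 : ⁅x, a⁆ ∈ A ⊓ B).1
      have := mul_mem hua ha
      rwa [commutatorElement_def, inv_mul_cancel_right] at this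
    refine ⟨hcl y, fun hy => ?_⟩
    have hmap : A.map (MulAut.conj x).toMonoidHom = A := by
      refine Subgroup.eq_of_le_of_card_ge ?_
        (Subgroup.card_map_of_injective (MulAut.conj x).injective).ge
      rintro _ ⟨a, ha, rfl⟩
      exact hcl a ha
    rw [← hmap] at hy
    obtain ⟨a, ha, hae⟩ := hy
    exact ((MulAut.conj x).injective hae) ▸ ha
  refine ⟨hRcard, ⟨⟨fun u v => Subtype.ext (hRc u u.2 v v.2)⟩⟩,
    fun y hy => hAB_R ⟨hBA hy, Subgroup.commutator_le_self B hy⟩, hltN,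
    lt_of_le_of_ne inf_le_right fun h1 => hnot ((inf_eq_right.mp h1).trans hRN),
    (Subgroup.le_normalizer).trans hNR, hRN, hbR, lt_of_le_of_ne hNR fun h1 => hbA (h1 ▸ hbR),
    fun hp2 => ?_⟩
  have heodd : Odd (Monoid.exponent A) := by
    obtain ⟨k, hk⟩ := IsPGroup.iff_card.mp (hS.to_subgroup A)
    exact (((Fact.out : p.Prime).odd_of_ne_two hp2).pow (n := k)).of_dvd_nat
      (hk ▸ Group.exponent_dvd_nat_card)
  have hApow : ∀ a ∈ A, a ^ Monoid.exponent A = 1 := fun a ha =>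
    congrArg Subtype.val (Monoid.pow_exponent_eq_one (⟨a, ha⟩ : A))
  refine Monoid.exponent_dvd_of_forall_pow_eq_one fun r => Subtype.ext ?_
  have key : ∀ y ∈ R, y ^ Monoid.exponent A = 1 := by
    intro y hy
    have hy' := hy
    rw [hReq] at hy'
    induction hy' using Subgroup.closure_induction with
    | mem z hz =>
      rcases hz with ⟨a, ha, rfl⟩ | ⟨hz, -⟩
      · exact Cfsg.Agent.GlaubermanReplace.u_pow_eq_one h ha heodd hApow
      · exact hApow z hz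
    | one => exact one_pow _
    | mul u v hu' hv' ihu ihv =>
      rw [← hReq] at hu' hv'
      rw [Commute.mul_pow (hRc u hu' v hv'), ihu hu', ihv hv', one_mul]
    | inv u hu' ihu =>
      rw [← hReq] at hu'
      rw [inv_pow, ihu hu', inv_one]
  exact key r r.2

end Cfsg.Agent.S0650
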