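import Cfsg.Statements.S0652
import Cfsg.Agent.Lib.GlaubermanReplace

set_option autoImplicit false
open Cfsg

namespace Cfsg.Agent.S0652

/-- For odd p and D normal in the p-group S, the elementary abelian subgroups of D of largest order satisfy the replacement property for class-2 normal subgroups of S. -/
theorem result {S : Type*} [Group S] [Finite S] {p : ℕ} [Fact p.Prime] (hS : IsPGroup p S) (hp : p ≠ 2) (D : Subgroup S) [D.Normal] : ∀ (B : Subgroup S) [B.Normal], ⁅⁅B, B⁆, B⁆ = ⊥ → (∃ U ∈ (Set.image (fun A : Subgroup ↥D => A.map D.subtype) (Cfsg.maxElementaryAbelianSubgroups p ↥D)), ⁅B, B⁆ ≤ U ∧ ¬ B ≤ U) → ∃ A ∈ (Set.image (fun A : Subgroup ↥D => A.map D.subtype) (Cfsg.maxElementaryAbelianSubgroups p ↥D)), ⁅B, B⁆ ≤ A ∧ ¬ B ≤ A ∧ B ≤ Subgroup.normalizer (A : Set S) := by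
  intro B _ hB hU
  obtain ⟨U, hUM, hU⟩ := hU
  obtain ⟨A, ⟨hAM, hA1, hA2⟩, hmax⟩ :=
    Set.exists_max_image
      {A : Subgroup S | A ∈ Set.image (fun A : Subgroup ↥D => A.map D.subtype) (Cfsg.maxElementaryAbelianSubgroups p ↥D) ∧
        ⁅B, B⁆ ≤ A ∧ ¬ B ≤ A} (fun A => Nat.card (A ⊓ B : Subgroup S))
      (Set.toFinite _) ⟨U, hUM, hU⟩
  refine ⟨A, hAM, hA1, hA2, ?_⟩
  by_contra hBnA
  obtain ⟨A0, hA0, rfl⟩ := hAM
  haveI := hA0.1.1
  obtain ⟨As, hc, hcard, hlt, hAsN, hAsnc, -, hpow, -⟩ :=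
    Cfsg.Agent.GlaubermanReplace.replacement hp (hS.to_subgroup _)
      (show IsMulCommutative ↥(A0.map D.subtype) from inferInstance) hB hA1
      (Subgroup.normalizer_eq_top B ▸ le_top) hBnA
  have hAsD : As ≤ D :=
    hAsnc.trans (Subgroup.normalClosure_le_normal fun _ h => Subgroup.map_subtype_le A0 h)
  have hmap : (As.subgroupOf D).map D.subtype = As := Subgroup.map_subgroupOf_eq_of_le hAsD
  have hc' : IsMulCommutative ↥(As.subgroupOf D) :=
    ⟨⟨fun a b => Subtype.ext (Subtype.ext (congrArg Subtype.val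
      (hc.is_comm.comm (⟨_, a.2⟩ : As) ⟨_, b.2⟩) : ((a : D) : S) * _ = _))⟩⟩
  have hp' : ∀ a ∈ As.subgroupOf D, a ^ p = 1 := by
    intro a ha
    refine Subtype.ext (hpow p ?_ _ ha)
    rintro _ ⟨c, hc', rfl⟩
    exact congrArg Subtype.val (hA0.1.2 c hc')
  refine absurd (hmax As ⟨⟨As.subgroupOf D, ⟨⟨hc', hp'⟩, fun T hT => (hA0.2 T hT).trans (le_of_eq (by rw [← Subgroup.card_map_of_injective D.subtype_injective (K := A0), ← hcard, ← Subgroup.card_map_of_injective D.subtype_injective (K := As.subgroupOf D), hmap]))⟩, hmap⟩, ?_, fun hBAs => hBnA (hBAs.trans hAsN)⟩)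
    (not_le.mpr ?_)
  · exact (le_inf hA1 (Subgroup.commutator_le_self B)).trans (hlt.le.trans inf_le_left)
  · exact lt_of_not_ge fun h => hlt.ne (Subgroup.eq_of_le_of_card_ge hlt.le h)

end Cfsg.Agent.S0652
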