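import Cfsg.Statements.S0655
import Mathlib
import Cfsg.Agent.Lib.Offenders

set_option autoImplicit false
open Cfsg

namespace Cfsg.Agent.S0655

/-- In a p-group the intersection of all elementary abelian subgroups of largest order is the subgroup generated by the elements of order dividing p in the centre (equivalently the centralizer) of the elementary-version Thompson subgroup. -/
theorem result {S : Type*} [Group S] [Finite S] {p : ℕ} [Fact p.Prime] (hS : IsPGroup p S) : sInf (Cfsg.maxElementaryAbelianSubgroups p S) = Cfsg.omegaCenterThompson p S ∧ Cfsg.omegaCenterThompson p S = Cfsg.omegaOne p (Subgroup.centralizer (Cfsg.thompsonSubgroup p S : Set S)) := by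
  have hC : ∀ A ∈ Cfsg.maxElementaryAbelianSubgroups p S, ∀ x : S, x ^ p = 1 →
      x ∈ Subgroup.centralizer (Cfsg.thompsonSubgroup p S : Set S) → x ∈ A :=
    fun A hA x hx hc => Offenders.mem_max_of_commute hA hx
      (fun a ha => hc a (Offenders.max_le_thompson hA ha))
  obtain ⟨A₀, hA₀⟩ := Offenders.exists_max (G := S) p
  have h1 : Cfsg.omegaCenterThompson p S =
      Cfsg.omegaOne p (Subgroup.centralizer (Cfsg.thompsonSubgroup p S : Set S)) := by
    refine le_antisymm (Offenders.omegaOne_mono inf_le_right) ((Subgroup.closure_le _).2 ?_)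
    rintro x ⟨hx, hp⟩
    exact Offenders.mem_omegaOne ⟨Offenders.max_le_thompson hA₀ (hC A₀ hA₀ x hp hx), hx⟩ hp
  refine ⟨?_, h1⟩
  apply le_antisymm
  · intro x hx
    rw [h1]
    rw [Subgroup.mem_sInf] at hx
    refine Offenders.mem_omegaOne ?_ (hA₀.1.2 x (hx A₀ hA₀))
    have : Cfsg.thompsonSubgroup p S ≤ Subgroup.centralizer {x} := by
      refine sSup_le fun A hA a ha => ?_
      rw [Subgroup.mem_centralizer_singleton_iff]
      exact ((Offenders.isMulCommutative_iff A).1 hA.1.1 a ha x (hx A hA))
    intro a ha
    exact Subgroup.mem_centralizer_singleton_iff.1 (this ha)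
  · refine le_sInf fun A hA => ?_
    rw [h1]
    exact (Subgroup.closure_le _).2 fun x ⟨hx, hp⟩ => hC A hA x hp hx

end Cfsg.Agent.S0655
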