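import Cfsg.Statements.S0657
import Mathlib
import Cfsg.Agent.Lib.QuadraticFree

set_option autoImplicit false
open Cfsg

namespace Cfsg.Agent.S0657

/-- For odd p, a group that fails to be p-stable modulo its largest normal subgroup of order prime to p, and whose upper p-series does not stop there, has a section isomorphic to SL(2, p). -/
theorem result {G : Type*} [Group G] [Finite G] {p : ℕ} [Fact p.Prime] (hp : p ≠ 2) (hO : Cfsg.pPrimeCore p G < Cfsg.pPrimePCore p G) (hns : ¬ Cfsg.IsPStable p (G ⧸ Cfsg.pPrimeCore p G)) : ∃ (K L : Subgroup G) (hL : (L.subgroupOf K).Normal), K ≤ ⊤ ∧ Nonempty ((K ⧸ L.subgroupOf K) ≃* Matrix.SpecialLinearGroup (Fin 2) (ZMod p)) := by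
  refine QuadraticMain.exists_section_sub (H := (⊤ : Subgroup G)) ?_
  haveI := HallCore.pPrimeCore_normal p G
  by_contra hfree
  refine hns (QuadraticFree.isPStable_of_sl2_free hp (fun h => hfree ?_)
    (HallCore.pPrimeCore_quotient_self p G) fun h => ?_)
  · exact QuadraticQd.hasSection_lift (f := (QuotientGroup.mk' _).comp (⊤ : Subgroup G).subtype)
      (fun q => by
        obtain ⟨g, rfl⟩ := QuotientGroup.mk'_surjective _ q
        exact ⟨⟨g, Subgroup.mem_top g⟩, rfl⟩) h
  · refine hO.ne (le_antisymm hO.le fun x hx => ?_)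
    have hx' : QuotientGroup.mk' (Cfsg.pPrimeCore p G) x ∈
        Cfsg.pCore p (G ⧸ Cfsg.pPrimeCore p G) := hx
    rw [h, Subgroup.mem_bot] at hx'
    exact (QuotientGroup.eq_one_iff x).1 hx'

end Cfsg.Agent.S0657
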