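import Cfsg.Statements.S0658
import Mathlib
import Cfsg.Agent.Lib.GlaubermanZJ
import Cfsg.Agent.Lib.AlperinTame
import Cfsg.Agent.S0667


set_option autoImplicit false
open Cfsg

namespace Cfsg.Agent.S0658

open Cfsg.Agent.GlaubermanZJ in
lemma zj_conj {G : Type*} [Group G] (D : Subgroup G) (g : G) :
    Cfsg.centerThompsonAOf (D.map (MulAut.conj g).toMonoidHom) =
      (Cfsg.centerThompsonAOf D).map (MulAut.conj g).toMonoidHom := by
  rw [centerThompsonAOf_eq, centerThompsonAOf_eq]
  exact thomY_map (n := 0) (MulAut.conj g).injective D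

open Cfsg.Agent.GlaubermanZJ in
lemma zj_local {G : Type*} [Group G] [Finite G] {p : ℕ} [Fact p.Prime] (hp : p ≠ 2) (M T : Subgroup G)
    (hc : Cfsg.IsPConstrained p ↥M) (hs : Cfsg.IsPStable p ↥M) (hO : Cfsg.pPrimeCore p ↥M = ⊥)
    (hTM : T ≤ M) (P : Sylow p ↥M) (hP : (P : Subgroup ↥M) = T.subgroupOf M) :
    M ≤ Subgroup.normalizer (Cfsg.centerThompsonAOf T : Set G) := by
  have hn := (Cfsg.Agent.S0667.result hp hc hs P).2 hO
  rw [centerThompsonAOf_eq] at hn ⊢
  have hmap := thomY_map (n := 0) (f := M.subtype) M.subtype_injective (P : Subgroup ↥M)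
  rw [hP, Subgroup.map_subgroupOf_eq_of_le hTM] at hmap
  rw [hP] at hn
  rw [hmap]
  intro m hm
  rw [Subgroup.mem_normalizer_iff]
  intro x
  constructor
  · rintro ⟨y, hy, rfl⟩
    exact ⟨⟨m, hm⟩ * y * ⟨m, hm⟩⁻¹, hn.conj_mem y hy _, rfl⟩
  · rintro ⟨y, hy, hxy⟩
    refine ⟨⟨m, hm⟩⁻¹ * y * ⟨m, hm⟩, by simpa using hn.conj_mem y hy (⟨m, hm⟩ : ↥M)⁻¹, ?_⟩
    simp only [Subgroup.coe_subtype, Subgroup.coe_mul, Subgroup.coe_inv] at hxy ⊢
    rw [hxy]; group

/-- In a group of characteristic p type all of whose p-locals are p-stable (p odd), the normalizer of Z(J(P)) contains the normalizer of every nontrivial subgroup of the Sylow p-subgroup P. -/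
theorem result {G : Type*} [Group G] [Finite G] {p : ℕ} [Fact p.Prime] (hp : p ≠ 2) (hloc : ∀ Q : Subgroup G, IsPGroup p Q → Q ≠ ⊥ → Cfsg.pPrimeCore p ↥(Subgroup.normalizer (Q : Set G)) = ⊥ ∧ Cfsg.IsPConstrained p ↥(Subgroup.normalizer (Q : Set G)) ∧ Cfsg.IsPStable p ↥(Subgroup.normalizer (Q : Set G))) (P : Sylow p G) (Q : Subgroup G) (hQP : Q ≤ (P : Subgroup G)) (hQ1 : Q ≠ ⊥) : Subgroup.normalizer (Q : Set G) ≤ Subgroup.normalizer (Cfsg.centerThompsonAOf ((P : Subgroup G)) : Set G) := by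
  classical
  set Z := Cfsg.centerThompsonAOf ((P : Subgroup G)) with hZ
  set N := Subgroup.normalizer (Z : Set G) with hN
  have hPN : (P : Subgroup G) ≤ N := by
    rw [hN, hZ, GlaubermanZJ.centerThompsonAOf_eq]
    exact Subgroup.le_normalizer.trans (GlaubermanZJ.normalizer_le_thomY _)
  suffices key : ∀ (k : ℕ) (Q : Subgroup G), IsPGroup p Q → Q ≠ ⊥ → Q ≤ N →
      (∀ T : Subgroup G, IsPGroup p T → T ≤ Subgroup.normalizer (Q : Set G) ⊓ N →
        (∀ T' : Subgroup G, IsPGroup p T' → T' ≤ Subgroup.normalizer (Q : Set G) ⊓ N → Nat.card T' ≤ Nat.card T) →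
        Nat.card (P : Subgroup G) - Nat.card T ≤ k) →
      Subgroup.normalizer (Q : Set G) ≤ N from
    key (Nat.card (P : Subgroup G)) Q (P.isPGroup'.to_le hQP) hQ1 (hQP.trans hPN)
      (fun T _ _ _ => Nat.sub_le _ _)
  intro k
  induction k using Nat.strong_induction_on with
  | _ k ih =>
    intro Q hQp hQne hQN hk
    set M := Subgroup.normalizer (Q : Set G) with hM
    obtain ⟨T, hT⟩ := (Set.toFinite {T : Subgroup G | IsPGroup p T ∧ T ≤ M ⊓ N}).exists_maximalFor
      (fun T : Subgroup G => Nat.card T) _ ⟨Q, hQp, le_inf Subgroup.le_normalizer hQN⟩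
    obtain ⟨⟨hTp, hTMN⟩, hTmax⟩ := hT
    have hmax : ∀ T' : Subgroup G, IsPGroup p T' → T' ≤ M ⊓ N → Nat.card T' ≤ Nat.card T := by
      intro T' h1 h2
      rcases le_total (Nat.card T') (Nat.card T) with h | h
      · exact h
      · exact hTmax (j := T') ⟨h1, h2⟩ h
    have hkT := hk T hTp hTMN hmax
    have hTM : T ≤ M := hTMN.trans inf_le_left
    have hTN : T ≤ N := hTMN.trans inf_le_right
    have hT1 : T ≠ ⊥ := by
      intro h
      have h2 := hmax Q hQp (le_inf Subgroup.le_normalizer hQN)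
      rw [h, Subgroup.card_bot] at h2
      exact hQne (Subgroup.eq_bot_of_card_le Q h2)
    -- a Sylow subgroup of `N` above `T`
    obtain ⟨PN, hPN'⟩ := (hTp.comap_of_injective N.subtype N.subtype_injective).exists_le_sylow
    obtain ⟨c, hc⟩ := MulAction.exists_smul_eq ↥N (P.subtype hPN) PN
    set R : Subgroup G := (P : Subgroup G).map (MulAut.conj (c : G)).toMonoidHom with hR
    have hTR : T ≤ R := by
      intro t ht
      have h1 : (⟨t, hTN ht⟩ : ↥N) ∈ (PN : Subgroup ↥N) := hPN' ht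
      rw [← hc] at h1
      obtain ⟨y, hy, hye⟩ := h1
      exact ⟨(y : G), hy, congrArg Subtype.val hye⟩
    have hRN : R ≤ N := by
      rintro _ ⟨y, hy, rfl⟩
      exact N.mul_mem (N.mul_mem c.2 (hPN hy)) (N.inv_mem c.2)
    have hRp : IsPGroup p R := P.isPGroup'.map _
    have hRcard : Nat.card R = Nat.card (P : Subgroup G) :=
      Subgroup.card_map_of_injective (MulAut.conj (c : G)).injective
    -- bigger normalizers are handled by induction
    have up : ∀ Q' : Subgroup G, IsPGroup p Q' → Q' ≠ ⊥ → Q' ≤ N →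
        (∃ T' : Subgroup G, IsPGroup p T' ∧ T' ≤ Subgroup.normalizer (Q' : Set G) ⊓ N ∧
          Nat.card T < Nat.card T') → Subgroup.normalizer (Q' : Set G) ≤ N := by
      rintro Q' h1 h2 h3 ⟨T', hT'1, hT'2, hT'3⟩
      have hle : Nat.card T' ≤ Nat.card (P : Subgroup G) := by
        obtain ⟨U, hU⟩ := hT'1.exists_le_sylow
        refine (Subgroup.card_le_of_le hU).trans ?_
        rw [U.card_eq_multiplicity, P.card_eq_multiplicity]
      refine ih (Nat.card (P : Subgroup G) - Nat.card T') (by omega) Q' h1 h2 h3 fun U _ _ hUmax => ?_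
      have := hUmax T' hT'1 hT'2
      omega
    -- `T` is a Sylow subgroup of `M`
    obtain ⟨PM, hPM⟩ := (hTp.comap_of_injective M.subtype M.subtype_injective).exists_le_sylow
    have hPMeq : (PM : Subgroup ↥M) = T.subgroupOf M := by
      rcases eq_or_lt_of_le hTR with hRT | hRT
      · refine le_antisymm (fun x hx => ?_) hPM
        have h1 : T ≤ (PM : Subgroup ↥M).map M.subtype := fun t ht =>
          ⟨⟨t, hTM ht⟩, hPM ht, rfl⟩
        have h2 : Nat.card ((PM : Subgroup ↥M).map M.subtype) ≤ Nat.card T := by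
          obtain ⟨U, hU⟩ := ((PM.isPGroup'.map M.subtype)).exists_le_sylow
          refine (Subgroup.card_le_of_le hU).trans ?_
          rw [hRT, hRcard, U.card_eq_multiplicity, P.card_eq_multiplicity]
        have h3 := Subgroup.eq_of_le_of_card_ge h1 h2
        show (x : G) ∈ T
        rw [h3]
        exact ⟨x, hx, rfl⟩
      · refine le_antisymm ?_ hPM
        by_contra hne
        have hlt : T < (PM : Subgroup ↥M).map M.subtype := by
          refine lt_of_le_of_ne (fun t ht => ⟨⟨t, hTM ht⟩, hPM ht, rfl⟩) fun h => hne ?_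
          intro x hx
          show (x : G) ∈ T
          rw [h]
          exact ⟨x, hx, rfl⟩
        have h1 := AlperinTame.lt_normalizer_inf (PM.isPGroup'.map M.subtype) hlt
        have h2 := AlperinTame.lt_normalizer_inf hRp hRT
        have hNT : Subgroup.normalizer (T : Set G) ≤ N := up T hTp hT1 hTN
          ⟨_, hRp.to_le inf_le_left, le_inf inf_le_right (inf_le_left.trans hRN),
            Set.Finite.card_lt_card (Set.toFinite _) h2⟩
        have h3 := hmax _ ((PM.isPGroup'.map M.subtype).to_le inf_le_left)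
          (le_inf (inf_le_left.trans (Subgroup.map_subtype_le _)) (inf_le_right.trans hNT))
        exact absurd (Set.Finite.card_lt_card (Set.toFinite _) h1) (not_lt.2 h3)
    obtain ⟨hO, hcn, hst⟩ := hloc Q hQp hQne
    refine (zj_local hp M T hcn hst hO hTM PM hPMeq).trans ?_
    rcases eq_or_lt_of_le hTR with hRT | hRT
    · intro x hx
      rw [hRT, hR, zj_conj] at hx
      have hcN : (Cfsg.centerThompsonAOf (P : Subgroup G)).map (MulAut.conj (c : G)).toMonoidHom = Z :=
        TransferAlperin.cj_eq_self c.2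
      rwa [hcN] at hx
    · have hY : Cfsg.centerThompsonAOf T = GlaubermanZJ.thomY 0 T := GlaubermanZJ.centerThompsonAOf_eq T
      refine up _ (hTp.to_le ?_) ?_ (le_trans ?_ hTN)
        ⟨_, hRp.to_le inf_le_left, le_inf (inf_le_right.trans ?_) (inf_le_left.trans hRN),
          Set.Finite.card_lt_card (Set.toFinite _) (AlperinTame.lt_normalizer_inf hRp hRT)⟩
      · rw [hY]; exact GlaubermanZJ.thomY_le T
      · rw [hY]; exact GlaubermanZJ.thomY_ne_bot (Or.inl rfl) hTp hT1
      · rw [hY]; exact GlaubermanZJ.thomY_le T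
      · rw [hY]; exact GlaubermanZJ.normalizer_le_thomY T

end Cfsg.Agent.S0658
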