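import Cfsg.Statements.S0659
import Mathlib
import Cfsg.Agent.Lib.NormalPComplementFunctor62
import Cfsg.Agent.Lib.TransferQuadratic
import Cfsg.Agent.Lib.GlaubermanZJ


set_option autoImplicit false
open Cfsg

namespace Cfsg.Agent.S0659

universe u

open Subgroup GlaubermanZJ

/-- `Z(J(P))` as a functor. -/
noncomputable abbrev zj (Q : Type u) [Group Q] : Subgroup Q := Cfsg.centerThompsonAOf (⊤ : Subgroup Q)

theorem induced_eq {X : Type u} [Group X] (D : Subgroup X) :
    NormalPComplementFunctor62.WW zj D = Cfsg.centerThompsonAOf D := by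
  change (Cfsg.centerThompsonAOf (⊤ : Subgroup D)).map D.subtype = _
  rw [centerThompsonAOf_eq, centerThompsonAOf_eq, ← thomY_map D.subtype_injective,
    ← MonoidHom.range_eq_map, range_subtype]

theorem zj_functor {p : ℕ} [Fact p.Prime] : Cfsg.IsCharPFunctor.{u} p zj := by
  refine ⟨fun Q _ _ hQ hne => ?_, fun Q R _ _ _ _ φ => ?_⟩
  · change Cfsg.centerThompsonAOf (⊤ : Subgroup Q) ≠ ⊥
    rw [centerThompsonAOf_eq]
    exact thomY_ne_bot (p := p) (Or.inl rfl) (hQ.to_subgroup _) top_ne_bot
  · change (Cfsg.centerThompsonAOf (⊤ : Subgroup Q)).map φ.toMonoidHom =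
      Cfsg.centerThompsonAOf (⊤ : Subgroup R)
    rw [centerThompsonAOf_eq, centerThompsonAOf_eq,
      ← thomY_map (f := φ.toMonoidHom) φ.injective, map_top_of_surjective φ.toMonoidHom φ.surjective]

/-- Glauberman's normal p-complement Theorem with the abelian-version Thompson subgroup: for odd p, G has a normal p-complement whenever the normalizer of Z(J(P)) does. -/
theorem result {G : Type*} [Group G] [Finite G] {p : ℕ} [Fact p.Prime] (hp : p ≠ 2) (P : Sylow p G) (hN : Cfsg.HasNormalPComplement p ↥(Subgroup.normalizer (Cfsg.centerThompsonAOf ((P : Subgroup G)) : Set G))) : Cfsg.HasNormalPComplement p G := by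
  refine NormalPComplementFunctor62.main (W := zj) zj_functor (fun X _ _ hC hyp T => ?_)
    (Nat.card G) G rfl P (by rw [induced_eq]; exact hN)
  rw [induced_eq, centerThompsonAOf_eq]
  exact thomY_normal hp (Or.inl rfl)
    (fun B _ hB => isPStableOn_of_isNormalizerPStable
      (TransferQuadratic.isNormalizerPStable_of_hyp p hp hyp) B hB)
    hC T T ⟨le_rfl, fun _ _ _ h => h⟩

end Cfsg.Agent.S0659
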