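import Mathlib
import Cfsg.Prelude.Def_CaseTheorems
import Cfsg.Statements.S0661
import Cfsg.Agent.Lib.HallCore
import Cfsg.Agent.Lib.CharPBasic
import Cfsg.Agent.Lib.CoprimeAction

set_option autoImplicit false
open Cfsg

namespace Cfsg.Agent.S0661

open Subgroup

theorem result {G : Type*} [Group G] [Finite G] {p : ℕ} [Fact p.Prime] (hc : Subgroup.centralizer (Cfsg.pCore p (G ⧸ Cfsg.pPrimeCore p G) : Set (G ⧸ Cfsg.pPrimeCore p G)) ≤ Cfsg.pCore p (G ⧸ Cfsg.pPrimeCore p G)) (P : Subgroup G) (hP : IsPGroup p P) : (Cfsg.pPrimeCore p ↥(Subgroup.normalizer (P : Set G))).map (Subgroup.normalizer (P : Set G)).subtype = Cfsg.pPrimeCore p G ⊓ Subgroup.normalizer (P : Set G) := by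
  set N := normalizer (P : Set G) with hN
  set O := pPrimeCore p G with hO
  haveI : O.Normal := HallCore.pPrimeCore_normal p G
  refine le_antisymm ?_ ?_
  · rintro _ ⟨x, hx, rfl⟩
    refine ⟨?_, x.2⟩
    show (x : G) ∈ O
    haveI := HallCore.pPrimeCore_normal p N
    set π := QuotientGroup.mk' O with hπ
    set Q := pCore p (G ⧸ O) with hQ
    haveI : Q.Normal := HallCore.pCore_normal p (G ⧸ O)
    have hQp : IsPGroup p Q := HallCore.isPGroup_pCore p _
    have hxP : ∀ y ∈ P, Commute (x : G) y := fun y hy => by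
      haveI : (P.subgroupOf N).Normal := normal_in_normalizer
      have h : (⟨y, le_normalizer hy⟩ : N) ∈ pCore p N :=
        HallCore.le_pCore (hP.of_equiv (subgroupOfEquivOfLe le_normalizer).symm)
          (show (⟨y, le_normalizer hy⟩ : N) ∈ P.subgroupOf N from hy)
      exact (congrArg Subtype.val (HallCore.commute_pCore_pPrimeCore h hx)).symm
    have hxo : (orderOf (x : G)).Coprime p := by
      rw [orderOf_coe]
      exact (HallCore.coprime_card_pPrimeCore p N).coprime_dvd_left (orderOf_dvd_natCard _ hx)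
    have hxo' : (orderOf (π x)).Coprime p := hxo.coprime_dvd_left (orderOf_map_dvd π _)
    have hnQ : ∀ g, g ∈ normalizer (Q : Set (G ⧸ O)) := fun g => by
      rw [normalizer_eq_top]; exact mem_top g
    have hfix : ∀ y ∈ Q, Commute (π x) y := by
      refine CharPBasic.commute_of_centralizes_fixed (p := p) (P := Q) (Q := P.map π)
        hQp (hP.map π) (fun g _ => hnQ g) hxo' (hnQ _) ?_ ?_
      · rintro _ ⟨a, ha, rfl⟩
        exact (hxP a ha).map π
      intro y hy hyP
      obtain ⟨k, rfl⟩ := QuotientGroup.mk'_surjective O y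
      haveI : Group.IsNilpotent P := hP.isNilpotent
      obtain ⟨c, hcP, hkc⟩ := CoprimeAction.exists_fixed_mem_coset (A := P) (D := O)
        (by rw [normalizer_eq_top]; exact le_top)
        (by
          obtain ⟨n, hn⟩ := hP.exists_card_eq
          rw [hn]
          exact Nat.Coprime.pow_left _ (HallCore.coprime_card_pPrimeCore p G).symm)
        (Or.inl inferInstance) k (fun a ha => by
          rw [← QuotientGroup.ker_mk' O, MonoidHom.mem_ker]
          have h1 : Commute (π a) (π k) := hyP _ (mem_map_of_mem π ha)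
          rw [← hπ, map_mul, map_mul, map_mul, map_inv, map_inv, mul_assoc (π k)⁻¹, h1.eq]
          group)
      have hcN : c ∈ N := centralizer_le_normalizer _ hcP
      have hck : π k = π c := (QuotientGroup.mk'_eq_mk' (N := O)).mpr ⟨k⁻¹ * c, hkc, by group⟩
      rw [hck] at hy ⊢
      set d := (x : G) * c * (x : G)⁻¹ * c⁻¹ with hd
      have h1 : π d ∈ Q := by
        rw [hd, map_mul, map_mul, map_mul, map_inv, map_inv]
        exact mul_mem (Normal.conj_mem inferInstance _ hy _) (inv_mem hy)
      have h2 : (⟨d, mul_mem (mul_mem (mul_mem x.2 hcN) (inv_mem x.2)) (inv_mem hcN)⟩ : N) ∈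
          pPrimeCore p N := by
        have h3 := (HallCore.pPrimeCore_normal p N).conj_mem _ (inv_mem hx) ⟨c, hcN⟩
        have h4 := mul_mem hx h3
        convert h4 using 1
        exact Subtype.ext (by simp [hd, mul_assoc])
      have h5 : (orderOf d).Coprime p := by
        have h6 := orderOf_dvd_natCard _ h2
        rw [← orderOf_coe] at h6
        exact (HallCore.coprime_card_pPrimeCore p N).coprime_dvd_left h6
      have h7 := CharPBasic.eq_one_of_coprime_of_mem hQp h1
        (h5.coprime_dvd_left (orderOf_map_dvd π _))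
      rw [hd, map_mul, map_mul, map_mul, map_inv, map_inv] at h7
      show π x * π c = π c * π x
      calc π x * π c = (π x * π c * (π x)⁻¹ * (π c)⁻¹) * π c * π x := by group
        _ = π c * π x := by rw [h7, one_mul]
    have hxQ : π x ∈ Q := hc (mem_centralizer_iff.mpr fun y hy => (hfix y hy).eq.symm)
    have h8 := CharPBasic.eq_one_of_coprime_of_mem hQp hxQ hxo'
    rw [← QuotientGroup.ker_mk' O]
    exact h8
  · rintro x ⟨hxO, hxN⟩
    haveI : ((O ⊓ N).subgroupOf N).Normal := by
      rw [inf_subgroupOf_right]; infer_instance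
    refine ⟨⟨x, hxN⟩, HallCore.le_pPrimeCore (N := (O ⊓ N).subgroupOf N) ?_ ⟨hxO, hxN⟩, rfl⟩
    exact (HallCore.coprime_card_pPrimeCore p G).coprime_dvd_left
      ((HallCore.card_subgroupOf_dvd _ _).trans (card_dvd_of_le inf_le_left))

end Cfsg.Agent.S0661
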