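import Cfsg.Statements.S3807
import Cfsg.Agent.Lib.PGroupsBasic

set_option autoImplicit false
open Cfsg

namespace Cfsg.Agent.S3807

open Subgroup Cfsg.Agent.PGroupsBasic
open scoped commutatorElement

theorem card_orderP_subgroups {Q : Type*} [Group Q] [Finite Q] {p : ℕ} [hp : Fact p.Prime]
    (hc : Nat.card Q = p ^ 2) (he : ∀ g : Q, g ^ p = 1) :
    Nat.card {K : Subgroup Q // Nat.card K = p} = p + 1 := by
  classical
  have := Fintype.ofFinite Q
  have := Fintype.ofFinite {K : Subgroup Q // Nat.card K = p}
  have hfib : ∀ K : {K : Subgroup Q // Nat.card K = p}, Nat.card {g : K.1 // g ≠ 1} = p - 1 := by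
    intro K
    rw [Nat.card_eq_fintype_card, Fintype.card_subtype_compl, Fintype.card_subtype_eq,
      ← Nat.card_eq_fintype_card, K.2]
  let f : (Σ K : {K : Subgroup Q // Nat.card K = p}, {g : K.1 // g ≠ 1}) → {g : Q // g ≠ 1} :=
    fun a => ⟨a.2.1, fun h => a.2.2 (Subtype.ext h)⟩
  have hf : Function.Bijective f := by
    constructor
    · rintro ⟨⟨K, hK⟩, ⟨⟨g, hg⟩, hg1⟩⟩ ⟨⟨K', hK'⟩, ⟨⟨g', hg'⟩, hg1'⟩⟩ h
      obtain rfl : g = g' := congrArg Subtype.val h
      have hne : g ≠ 1 := fun h => hg1 (Subtype.ext h)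
      have e : ∀ L : Subgroup Q, Nat.card L = p → g ∈ L → zpowers g = L := fun L hL hgL =>
        eq_of_le_of_card_ge (zpowers_le.mpr hgL)
          (by rw [hL, Nat.card_zpowers, orderOf_eq_of_pow_eq_one (he g) hne])
      obtain rfl : K = K' := (e K hK hg).symm.trans (e K' hK' hg')
      rfl
    · rintro ⟨g, hg⟩
      exact ⟨⟨⟨zpowers g, by rw [Nat.card_zpowers, orderOf_eq_of_pow_eq_one (he g) hg]⟩,
        ⟨⟨g, mem_zpowers g⟩, fun h => hg (congrArg Subtype.val h)⟩⟩, rfl⟩
  have h := Nat.card_congr (Equiv.ofBijective f hf)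
  rw [Nat.card_sigma, Finset.sum_congr rfl (fun K _ => hfib K), Finset.sum_const, Finset.card_univ,
    smul_eq_mul, ← Nat.card_eq_fintype_card, Nat.card_eq_fintype_card (α := {g : Q // g ≠ 1}),
    Fintype.card_subtype_compl, Fintype.card_subtype_eq, ← Nat.card_eq_fintype_card, hc] at h
  have h2 : p ^ 2 - 1 = (p + 1) * (p - 1) := by
    simpa using Nat.sq_sub_sq p 1
  rw [h2] at h
  exact Nat.eq_of_mul_eq_mul_right (by have := hp.out.one_lt; omega) h

theorem center_le_of_index {S : Type*} [Group S] [Finite S] {p : ℕ} [Fact p.Prime]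
    (hna : ¬ IsMulCommutative S) {B : Subgroup S} (hB : IsMulCommutative B) (hBi : B.index = p) :
    center S ≤ B := by
  by_contra h
  have ht : B ⊔ center S = ⊤ :=
    (isCoatom_of_index_eq hBi).2 _ (lt_of_le_of_ne le_sup_left fun e => h (sup_eq_left.mp e.symm))
  have h1 : B ⊔ center S ≤ centralizer (B : Set S) :=
    sup_le (le_centralizer_of_isMulCommutative hB) (center_le_centralizer _)
  rw [ht] at h1
  have h2 : B ⊔ center S ≤ center S := sup_le (fun b hb => mem_center_iff.mpr fun g =>
    (mem_centralizer_iff.mp (h1 (mem_top g)) b hb).symm) le_rfl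
  rw [ht] at h2
  exact hna ⟨⟨fun a b => mem_center_iff.mp (h2 (mem_top b)) a⟩⟩

/-- Let S be a non-abelian finite p-group with an abelian subgroup A of index p. Then [S : Z(S)] = p·#[S,S], and either [S,S] has order p, S/Z(S) is elementary abelian of order p², and S has exactly p + 1 abelian subgroups of index p; or [S,S] has order at least p² and A is the only abelian subgroup of index p in S. -/
theorem result {S : Type*} [Group S] [Finite S] (p : ℕ) [Fact p.Prime] (hS : IsPGroup p S) (hna : ¬ IsMulCommutative S)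
    (A : Subgroup S) (hA : IsMulCommutative ↥A) (hAi : A.index = p) :
    (Subgroup.center S).index = p * Nat.card (commutator S) ∧
      ((Nat.card (commutator S) = p ∧ Cfsg.IsElementaryAbelian p (⊤ : Subgroup (S ⧸ Subgroup.center S)) ∧
          Nat.card (S ⧸ Subgroup.center S) = p ^ 2 ∧
          Nat.card {B : Subgroup S // IsMulCommutative ↥B ∧ B.index = p} = p + 1) ∨
        (p ^ 2 ≤ Nat.card (commutator S) ∧ ∀ B : Subgroup S, IsMulCommutative ↥B → B.index = p → B = A)) := by
  classical
  have hp1 := (Fact.out : p.Prime).one_lt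
  have hAn := normal_of_index_eq hS hAi
  obtain ⟨x, -, hx⟩ := SetLike.exists_of_lt (lt_top_iff_ne_top.mpr (isCoatom_of_index_eq hAi).1)
  have htop : A ⊔ zpowers x = ⊤ :=
    (isCoatom_of_index_eq hAi).2 _ (lt_of_le_of_ne le_sup_left fun e =>
      hx (sup_eq_left.mp e.symm (mem_zpowers x)))
  have hmemA : ∀ a ∈ A, ⁅x, a⁆ ∈ A := fun a ha => by
    rw [commutatorElement_def]; exact mul_mem (hAn.conj_mem a ha x) (inv_mem ha)
  let ψ : A →* S :=
    { toFun := fun a => ⁅x, (a : S)⁆
      map_one' := by simp [commutatorElement_def]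
      map_mul' := fun a b => by
        show ⁅x, (a : S) * b⁆ = ⁅x, (a : S)⁆ * ⁅x, (b : S)⁆
        have h1 := comm_of_isMulCommutative hA (hmemA b b.2) (inv_mem a.2)
        calc ⁅x, (a : S) * b⁆ = x * a * x⁻¹ * (⁅x, (b : S)⁆ * (a : S)⁻¹) := by
              simp only [commutatorElement_def]; group
          _ = x * a * x⁻¹ * ((a : S)⁻¹ * ⁅x, (b : S)⁆) := by rw [h1]
          _ = _ := by simp only [commutatorElement_def]; group }
  have hψ : ∀ a : A, ψ a = ⁅x, (a : S)⁆ := fun a => rfl
  have hZA : center S ≤ A := center_le_of_index hna hA hAi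
  have hker : ψ.ker = (center S).subgroupOf A := by
    ext a
    rw [MonoidHom.mem_ker, hψ, commutatorElement_eq_one_iff_mul_comm, mem_subgroupOf]
    refine ⟨fun h => mem_center_iff.mpr fun g => ?_, fun h => mem_center_iff.mp h x⟩
    have hle : A ⊔ zpowers x ≤ centralizer {(a : S)} := sup_le
      (fun b hb => mem_centralizer_singleton_iff.mpr (comm_of_isMulCommutative hA hb a.2))
      (zpowers_le.mpr (mem_centralizer_singleton_iff.mpr h))
    exact mem_centralizer_singleton_iff.mp (hle (htop ▸ mem_top g))
  set J := ψ.range with hJ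
  have hJA : J ≤ A := by rintro _ ⟨a, rfl⟩; exact hmemA a a.2
  have hJn : J.Normal := by
    rw [← normalizer_eq_top_iff, eq_top_iff, ← htop]
    refine sup_le (le_normalizer_iff.mpr fun a ha k hk => ?_) (zpowers_le.mpr ?_)
    · rw [comm_of_isMulCommutative hA ha (hJA hk), mul_inv_cancel_right]; exact hk
    · refine mem_normalizer_iff_map_conj_eq.mpr (eq_of_le_of_card_ge ?_ ?_)
      · rintro _ ⟨_, ⟨a, rfl⟩, rfl⟩
        refine ⟨⟨x * a * x⁻¹, hAn.conj_mem a a.2 x⟩, ?_⟩
        simp only [hψ, MonoidHom.coe_coe, MulAut.conj_apply, commutatorElement_def]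
        group
      · exact (card_map_of_injective (MulAut.conj x).injective).ge
  have hcomm : commutator S = J := by
    refine le_antisymm ?_ ?_
    · have hxc : QuotientGroup.mk' J x ∈ center (S ⧸ J) := by
        have hle : A ⊔ zpowers x ≤ (centralizer {QuotientGroup.mk' J x}).comap (QuotientGroup.mk' J) :=
          sup_le (fun a ha => mem_centralizer_singleton_iff.mpr (Eq.symm (commutatorElement_eq_one_iff_mul_comm.mp (by
            rw [← map_commutatorElement]
            exact (QuotientGroup.eq_one_iff (N := J) _).mpr ⟨⟨a, ha⟩, rfl⟩))))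
          (zpowers_le.mpr (mem_centralizer_singleton_iff.mpr rfl))
        refine mem_center_iff.mpr fun g => ?_
        obtain ⟨g, rfl⟩ := QuotientGroup.mk'_surjective J g
        exact mem_centralizer_singleton_iff.mp (hle (htop ▸ mem_top g))
      rw [_root_.commutator_def, commutator_le]
      intro u _ v _
      refine (QuotientGroup.eq_one_iff (N := J) _).mp ?_
      show QuotientGroup.mk' J ⁅u, v⁆ = 1
      rw [map_commutatorElement, commutatorElement_eq_one_iff_mul_comm]
      have hA2 : ∀ a ∈ A, QuotientGroup.mk' J a ∈ center (S ⧸ J) := fun a ha => by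
        refine mem_center_iff.mpr fun g => ?_
        obtain ⟨g, rfl⟩ := QuotientGroup.mk'_surjective J g
        have hle : A ⊔ zpowers x ≤ (centralizer {QuotientGroup.mk' J a}).comap (QuotientGroup.mk' J) :=
          sup_le (fun b hb => mem_centralizer_singleton_iff.mpr
            (by rw [← map_mul, ← map_mul, comm_of_isMulCommutative hA hb ha]))
          (zpowers_le.mpr (mem_centralizer_singleton_iff.mpr (mem_center_iff.mp hxc _).symm))
        exact mem_centralizer_singleton_iff.mp (hle (htop ▸ mem_top g))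
      have : A ⊔ zpowers x ≤ (center (S ⧸ J)).comap (QuotientGroup.mk' J) :=
        sup_le hA2 (zpowers_le.mpr hxc)
      exact mem_center_iff.mp (this (htop ▸ mem_top v)) _
    · rintro _ ⟨a, rfl⟩
      exact commutator_mem_commutator (mem_top x) (mem_top (a : S))
  have hidx : (center S).index = p * Nat.card (commutator S) := by
    rw [← relIndex_mul_index hZA, hAi, hcomm, mul_comm, relIndex, ← hker, index_ker]
  refine ⟨hidx, ?_⟩
  obtain ⟨k, hk⟩ := IsPGroup.iff_card.mp (hS.to_subgroup (commutator S))
  rcases Nat.lt_or_ge k 2 with hk2 | hk2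
  · left
    have hk1 : k = 1 := by
      rcases Nat.eq_zero_or_pos k with rfl | h
      · refine absurd ?_ hna
        rw [pow_zero, card_eq_one, _root_.commutator_def, commutator_eq_bot_iff_le_centralizer] at hk
        exact ⟨⟨fun a b => (mem_centralizer_iff.mp (hk (mem_top a)) b (mem_top b)).symm⟩⟩
      · omega
    rw [hk1, pow_one] at hk
    have hQc : Nat.card (S ⧸ center S) = p ^ 2 := by rw [← index_eq_card, hidx, hk, sq]
    have hcom : IsMulCommutative (⊤ : Subgroup (S ⧸ center S)) :=
      isMulCommutative_of_card_le_sq ((hS.to_quotient _).to_subgroup ⊤) (by rw [card_top, hQc])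
    have hexp : ∀ g : S ⧸ center S, g ^ p = 1 := by
      intro g
      by_contra hg
      have hnc : ¬ IsCyclic (S ⧸ center S) := fun _ => hna
        ⟨⟨commutative_of_cyclic_center_quotient (QuotientGroup.mk' (center S)) (le_of_eq (QuotientGroup.ker_mk' _))⟩⟩
      refine hnc (isCyclic_of_orderOf_eq_card g ?_)
      rw [hQc, show 2 = 1 + 1 from rfl]
      refine orderOf_eq_prime_pow (by rwa [pow_one]) ?_
      rw [← hQc]; exact pow_card_eq_one'
    refine ⟨hk, ⟨hcom, fun g _ => hexp g⟩, hQc, ?_⟩
    rw [← card_orderP_subgroups hQc hexp]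
    let π := QuotientGroup.mk' (center S)
    have hidxK : ∀ K : Subgroup (S ⧸ center S), Nat.card K = p → K.index = p := fun K hK => by
      have h := card_mul_index K
      rw [hK, hQc, sq] at h
      exact Nat.eq_of_mul_eq_mul_left (by omega) h
    refine Nat.card_congr
      { toFun := fun B => ⟨B.1.map π, ?_⟩
        invFun := fun K => ⟨K.1.comap π, ?_, ?_⟩
        left_inv := fun B => Subtype.ext ?_
        right_inv := fun K => Subtype.ext
          (map_comap_eq_self_of_surjective (QuotientGroup.mk'_surjective _) _) }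
    · have hZB := center_le_of_index hna B.2.1 B.2.2
      have h1 : (B.1.map π).index = p := by
        rw [← index_comap_of_surjective _ (QuotientGroup.mk'_surjective _),
          comap_map_eq_self (by rwa [QuotientGroup.ker_mk']), B.2.2]
      have h := card_mul_index (B.1.map π)
      rw [h1, hQc, sq] at h
      exact Nat.eq_of_mul_eq_mul_right (by omega) h
    · have : IsCyclic K.1 := isCyclic_of_prime_card K.2
      let f : K.1.comap π →* K.1 := (π.comp (K.1.comap π).subtype).codRestrict K.1 fun b => b.2
      refine ⟨⟨commutative_of_cyclic_center_quotient f ?_⟩⟩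
      intro b hb
      have hb' : π b.1 = 1 := congrArg Subtype.val hb
      exact mem_center_iff.mpr fun c => Subtype.ext
        (mem_center_iff.mp ((QuotientGroup.eq_one_iff (N := center S) _).mp hb') _)
    · rw [index_comap_of_surjective _ (QuotientGroup.mk'_surjective _), hidxK _ K.2]
    · exact comap_map_eq_self (by rw [QuotientGroup.ker_mk']; exact center_le_of_index hna B.2.1 B.2.2)
  · right
    refine ⟨hk ▸ Nat.pow_le_pow_right (by omega) hk2, fun B hB hBi => ?_⟩
    by_contra hne
    have ht : A ⊔ B = ⊤ := by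
      refine (isCoatom_of_index_eq hAi).2 _ (lt_of_le_of_ne le_sup_left fun e => hne ?_)
      exact ((isCoatom_of_index_eq hBi).le_iff.mp (sup_eq_left.mp e.symm)).resolve_left
        (isCoatom_of_index_eq hAi).1 |>.symm
    have hle : A ⊓ B ≤ center S := fun c hc => mem_center_iff.mpr fun g => by
      have : A ⊔ B ≤ centralizer {c} := sup_le
        (fun a ha => mem_centralizer_singleton_iff.mpr (comm_of_isMulCommutative hA ha hc.1))
        (fun a ha => mem_centralizer_singleton_iff.mpr (comm_of_isMulCommutative hB ha hc.2))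
      exact mem_centralizer_singleton_iff.mp (this (ht ▸ mem_top g))
    have h1 : (center S).index ≤ p * p := by
      refine (Nat.le_of_dvd (Nat.pos_of_ne_zero ?_) (index_dvd_of_le hle)).trans (index_inf_le.trans ?_)
      · exact index_ne_zero_of_finite
      · rw [hAi, hBi]
    rw [hidx] at h1
    have h2 : p ^ 2 ≤ Nat.card (commutator S) := hk ▸ Nat.pow_le_pow_right (by omega) hk2
    nlinarith

end Cfsg.Agent.S3807
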