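import Cfsg.Statements.S0662
import Cfsg.Agent.Lib.PGroupsUniserial
import Cfsg.Agent.S3807

set_option autoImplicit false
open Cfsg

namespace Cfsg.Agent.S0662

/-- In a p-group of maximal class of order at least p³ the normal subgroups of index at least p² are exactly the terms of the lower central series, and there are exactly p + 1 normal subgroups of index p. -/
theorem result {G : Type*} [Group G] [Finite G] {p : ℕ} [Fact p.Prime] (n : ℕ) (hG : Nat.card G = p ^ n) (hcl : Group.nilpotencyClass G = n - 1) (hn : 3 ≤ n) : (∀ (N : Subgroup G) [N.Normal] (r : ℕ), 2 ≤ r → N.index = p ^ r → N = (⊤ : Subgroup G).lowerCentralSeries (r - 1)) ∧ Nat.card {N : Subgroup G // N.Normal ∧ N.index = p} = p + 1 := by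
  have hP : IsPGroup p G := IsPGroup.of_card hG
  refine ⟨fun N _ r hr hN =>
    Cfsg.Agent.PGroupsUniserial.eq_lowerCentralSeries_of_index hG hcl N hr hN, ?_⟩
  have hi : (commutator G).index = p ^ 2 := by
    rw [← Subgroup.top_lowerCentralSeries_one]
    have h := Cfsg.Agent.PGroupsUniserial.index_lowerCentralSeries (r := 2) hG hcl le_rfl (by omega)
    rwa [show (2 : ℕ) - 1 = 1 from rfl] at h
  have hsurj := QuotientGroup.mk'_surjective (commutator G)
  have hcard : Nat.card (G ⧸ commutator G) = p ^ 2 := by rw [← Subgroup.index_eq_card, hi]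
  have hle : ∀ M : Subgroup G, M.index = p → commutator G ≤ M := fun M hM =>
    (Cfsg.Agent.PGroupsBasic.commutator_le_frattini hP).trans
      (frattini_le_coatom (Cfsg.Agent.PGroupsBasic.isCoatom_of_index_eq hM))
  have he : ∀ g : G ⧸ commutator G, g ^ p = 1 := by
    intro g
    by_contra hne
    have ho : orderOf g = p ^ 2 := by
      obtain ⟨k, hk, hk'⟩ := (Nat.dvd_prime_pow (Fact.out : p.Prime)).mp
        (hcard ▸ orderOf_dvd_natCard g)
      rcases (show k ≤ 1 ∨ k = 2 by omega) with h | rfl
      · exact absurd (orderOf_dvd_iff_pow_eq_one.mp (hk' ▸ pow_dvd_pow p h) ) (by simpa using hne)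
      · exact hk'
    have htop : Subgroup.zpowers g = ⊤ :=
      Subgroup.eq_top_of_card_eq _ (by rw [Nat.card_zpowers, ho, hcard])
    obtain ⟨x, rfl⟩ := hsurj g
    have hsup : Subgroup.zpowers x ⊔ frattini G = ⊤ := by
      refine top_le_iff.mp (le_trans ?_ (sup_le_sup_left
        (Cfsg.Agent.PGroupsBasic.commutator_le_frattini hP) _))
      intro y _
      obtain ⟨m, hm⟩ := Subgroup.mem_zpowers_iff.mp (htop ▸ Subgroup.mem_top (QuotientGroup.mk' _ y))
      rw [← map_zpow, QuotientGroup.mk'_eq_mk'] at hm
      obtain ⟨z, hz, hzy⟩ := hm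
      rw [← hzy]
      exact mul_mem (Subgroup.mem_sup_left (zpow_mem (Subgroup.mem_zpowers x) m)) (Subgroup.mem_sup_right hz)
    have hx : Subgroup.zpowers x = ⊤ := frattini_nongenerating hsup
    have hbot : commutator G = ⊥ := by
      rw [commutator_def, Subgroup.commutator_eq_bot_iff_le_centralizer, ← hx]
      exact Cfsg.Agent.PGroupsBasic.le_centralizer_of_isMulCommutative
        (Cfsg.Agent.PGroupsBasic.isMulCommutative_zpowers x)
    rw [hbot, Subgroup.index_bot, hG] at hi
    have := Nat.pow_right_injective (Fact.out : p.Prime).two_le hi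
    omega
  rw [← Cfsg.Agent.S3807.card_orderP_subgroups hcard he]
  have hidx : ∀ M : Subgroup G, commutator G ≤ M →
      M.index = (M.map (QuotientGroup.mk' (commutator G))).index := fun M hM =>
    (Subgroup.index_map_eq M hsurj (by rwa [QuotientGroup.ker_mk'])).symm
  have hpK : ∀ K : Subgroup (G ⧸ commutator G), (Nat.card K = p ↔ K.index = p) := by
    intro K
    have h := Subgroup.card_mul_index K
    rw [hcard, pow_two] at h
    constructor <;> intro h' <;> rw [h'] at h
    · exact Nat.eq_of_mul_eq_mul_left (Fact.out : p.Prime).pos h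
    · exact Nat.eq_of_mul_eq_mul_right (Fact.out : p.Prime).pos h
  refine Nat.card_congr (Equiv.ofBijective (fun M =>
    (⟨M.1.map (QuotientGroup.mk' (commutator G)),
      (hpK _).mpr ((hidx M.1 (hle M.1 M.2.2)).symm.trans M.2.2)⟩ :
        {K : Subgroup (G ⧸ commutator G) // Nat.card K = p})) ⟨?_, ?_⟩)
  · intro M M' h
    have h' : M.1.map (QuotientGroup.mk' (commutator G)) = M'.1.map (QuotientGroup.mk' (commutator G)) :=
      congrArg Subtype.val h
    have := congrArg (Subgroup.comap (QuotientGroup.mk' (commutator G))) h'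
    rw [Subgroup.comap_map_eq, Subgroup.comap_map_eq, QuotientGroup.ker_mk',
      sup_eq_left.mpr (hle M.1 M.2.2), sup_eq_left.mpr (hle M'.1 M'.2.2)] at this
    exact Subtype.ext this
  · intro K
    have hi' : (K.1.comap (QuotientGroup.mk' (commutator G))).index = p := by
      rw [Subgroup.index_comap_of_surjective _ hsurj, (hpK K.1).mp K.2]
    exact ⟨⟨_, Cfsg.Agent.PGroupsBasic.normal_of_index_eq hP hi', hi'⟩,
      Subtype.ext (Subgroup.map_comap_eq_self_of_surjective hsurj K.1)⟩

end Cfsg.Agent.S0662
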