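import Cfsg.Statements.S0663
import Cfsg.Agent.Lib.PGroupsUniserial

set_option autoImplicit false
open Cfsg

namespace Cfsg.Agent.S0663

/-- A p-group acts uniserially on a p-group N of order p^n exactly when the iterated commutator chain from N has length n; in that case the chain terms are all the invariant subgroups of N and they are normal in N. -/
theorem result {L : Type*} [Group L] [Finite L] {p : ℕ} [Fact p.Prime] (N G : Subgroup L) (hN : IsPGroup p N) (hG : IsPGroup p G) (hGN : G ≤ Subgroup.normalizer (N : Set L)) (n : ℕ) (hn : Nat.card N = p ^ n) : ((∀ H : Subgroup L, H ≤ N → G ≤ Subgroup.normalizer (H : Set L) → H ≠ ⊥ → (⁅H, G⁆).relIndex H = p) ↔ Cfsg.iterCommutator N G (n - 1) ≠ ⊥ ∨ n = 0) ∧ ((∀ H : Subgroup L, H ≤ N → G ≤ Subgroup.normalizer (H : Set L) → H ≠ ⊥ → (⁅H, G⁆).relIndex H = p) → ∀ H : Subgroup L, H ≤ N → G ≤ Subgroup.normalizer (H : Set L) → (∃ i ≤ n, H = Cfsg.iterCommutator N G i) ∧ N ≤ Subgroup.normalizer (H : Set L)) := by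
  set W := N ⊔ G with hW
  have hWp : IsPGroup p W := by
    exact hN.to_sup_of_normal_left' hG hGN
  have hWN : W ≤ Subgroup.normalizer (N : Set L) := sup_le Subgroup.le_normalizer hGN
  set N' := N.subgroupOf W with hN'
  set G' := G.subgroupOf W with hG'
  haveI : N'.Normal := (Subgroup.normal_subgroupOf_iff_le_normalizer le_sup_left).mpr hWN
  have hmN : N'.map W.subtype = N := Subgroup.map_subgroupOf_eq_of_le le_sup_left
  have hmG : G'.map W.subtype = G := Subgroup.map_subgroupOf_eq_of_le le_sup_right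
  have hn' : Nat.card N' = p ^ n := by
    rw [hN', Nat.card_congr (Subgroup.subgroupOfEquivOfLe le_sup_left).toEquiv, hn]
  have hT : ∀ i, (Cfsg.iterCommutator N' G' i).map W.subtype = Cfsg.iterCommutator N G i := fun i => by
    rw [Cfsg.Agent.PGroupsUniserial.map_iter, hmN, hmG]
  have hnorm : ∀ H : Subgroup L, H ≤ N →
      (G ≤ Subgroup.normalizer (H : Set L) ↔ G' ≤ Subgroup.normalizer ((H.subgroupOf W : Subgroup W) : Set W)) := by
    intro H hH
    constructor
    · intro h g hg
      refine Subgroup.mem_normalizer_iff.mpr fun y => ?_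
      exact Subgroup.mem_normalizer_iff.mp (h hg) (y : L)
    · intro h g hg
      refine Subgroup.mem_normalizer_iff.mpr fun y => ?_
      by_cases hy : y ∈ W
      · exact Subgroup.mem_normalizer_iff.mp (h (x := ⟨g, le_sup_right (a := N) hg⟩) hg) ⟨y, hy⟩
      · refine ⟨fun hh => absurd (le_sup_left (b := G) (hH hh)) hy, fun hh => absurd ?_ hy⟩
        have hgW : g ∈ W := le_sup_right (a := N) hg
        simpa [mul_assoc] using mul_mem (mul_mem (inv_mem hgW) (le_sup_left (b := G) (hH hh))) hgW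
  have hrel : ∀ H : Subgroup L, H ≤ N → (⁅H.subgroupOf W, G'⁆).map W.subtype = ⁅H, G⁆ := fun H hH => by
    rw [Subgroup.map_commutator, hmG, Subgroup.map_subgroupOf_eq_of_le (hH.trans le_sup_left)]
  have hrel' : ∀ H : Subgroup L, H ≤ N →
      (⁅H, G⁆).relIndex H = (⁅H.subgroupOf W, G'⁆).relIndex (H.subgroupOf W) := fun H hH => by
    rw [← hrel H hH]
    conv_lhs => arg 2; rw [← Subgroup.map_subgroupOf_eq_of_le (hH.trans (le_sup_left : N ≤ W))]
    exact Subgroup.relIndex_map_map_of_injective _ _ W.subtype_injective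
  have huni : (∀ H : Subgroup L, H ≤ N → G ≤ Subgroup.normalizer (H : Set L) → H ≠ ⊥ →
        (⁅H, G⁆).relIndex H = p) ↔
      (∀ H : Subgroup W, H ≤ N' → G' ≤ Subgroup.normalizer (H : Set W) → H ≠ ⊥ →
        (⁅H, G'⁆).relIndex H = p) := by
    constructor
    · intro h H hH hHn hH0
      have hle : H.map W.subtype ≤ N := (Subgroup.map_mono hH).trans_eq hmN
      have heq : (H.map W.subtype).subgroupOf W = H :=
        Subgroup.comap_map_eq_self_of_injective W.subtype_injective H
      have := h (H.map W.subtype) hle ((hnorm _ hle).mpr (by rw [heq]; exact hHn))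
        (fun he => hH0 ((Subgroup.map_eq_bot_iff_of_injective _ W.subtype_injective).mp he))
      rwa [hrel' _ hle, heq] at this
    · intro h H hH hHn hH0
      rw [hrel' H hH]
      refine h _ (Subgroup.comap_mono hH) ((hnorm H hH).mp hHn) fun he => hH0 ?_
      rw [← Subgroup.map_subgroupOf_eq_of_le (hH.trans (le_sup_left : N ≤ W)), he, Subgroup.map_bot]
  have hne : Cfsg.iterCommutator N' G' (n - 1) ≠ ⊥ ↔ Cfsg.iterCommutator N G (n - 1) ≠ ⊥ := by
    rw [← hT, Ne, Ne, Subgroup.map_eq_bot_iff_of_injective _ W.subtype_injective]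
  have hmain : _ ↔ _ := huni.trans (Cfsg.Agent.PGroupsUniserial.uniserial hWp hn')
  rw [hne] at hmain
  refine ⟨hmain, fun hu H hH hHn => ?_⟩
  have hch : Cfsg.iterCommutator N' G' (n - 1) ≠ ⊥ ∨ n = 0 :=
    (Cfsg.Agent.PGroupsUniserial.uniserial hWp hn').mp (huni.mp hu)
  obtain ⟨i, hi, he⟩ := Cfsg.Agent.PGroupsUniserial.eq_iter_of_invariant hWp hn' hch
    (Subgroup.comap_mono hH : H.subgroupOf W ≤ N') ((hnorm H hH).mp hHn)
  have hH' : H = Cfsg.iterCommutator N G i := by
    rw [← hT, ← he]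
    exact (Subgroup.map_subgroupOf_eq_of_le (hH.trans (le_sup_left : N ≤ W))).symm
  refine ⟨⟨i, hi, hH'⟩, ?_⟩
  haveI : (H.subgroupOf W).Normal := by
    rw [show H.subgroupOf W = Cfsg.iterCommutator N' G' i from he]
    exact Cfsg.Agent.PGroupsUniserial.iter_normal hWp hn' hch i hi
  exact (le_sup_left : N ≤ W).trans
    ((Subgroup.normal_subgroupOf_iff_le_normalizer (hH.trans le_sup_left)).mp inferInstance)

end Cfsg.Agent.S0663
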