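import Cfsg.Statements.S0666
import Cfsg.Agent.Lib.FrobeniusBasic
import Cfsg.Agent.Lib.CharInducedTI

set_option autoImplicit false
open Cfsg

namespace Cfsg.Agent.S0666

/-- A Frobenius group acting on a nontrivial abelian group of order prime to that of its kernel, with the kernel acting without nontrivial fixed points, has a complement with a nontrivial fixed point. -/
theorem result {G : Type*} [Group G] [Finite G] (V F : Subgroup G) (hVab : IsMulCommutative V) (hV1 : V ≠ ⊥) (hFV : F ≤ Subgroup.normalizer (V : Set G)) (H : Subgroup ↥F) (hH : Cfsg.IsFrobeniusComplement H) (hcop : (Nat.card V).Coprime (Nat.card (Cfsg.frobeniusKernel H))) (hCK : V ⊓ Subgroup.centralizer (Subtype.val '' Cfsg.frobeniusKernel H : Set G) = ⊥) : V ⊓ Subgroup.centralizer ((H.map F.subtype : Subgroup G) : Set G) ≠ ⊥ := by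
  classical
  have := Fintype.ofFinite G
  have := Fintype.ofFinite ↥F
  obtain ⟨K, hKc, hKn, hKH⟩ := Cfsg.Agent.CharInduced.frobenius_kernel_subgroup hH
  intro hbot
  apply hV1
  have := Fintype.ofFinite G
  have := Fintype.ofFinite ↥F
  have := Fintype.ofFinite ↥K
  have := Fintype.ofFinite ↥H
  let act : ↥F → ↥V →* ↥V := fun m =>
    { toFun := fun v => ⟨(m : G) * (v : G) * (m : G)⁻¹,
        (Subgroup.mem_normalizer_iff.mp (hFV m.2) v).mp v.2⟩
      map_one' := Subtype.ext (by simp)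
      map_mul' := fun a b => Subtype.ext (by simp [mul_assoc]) }
  let _ : CommGroup ↥V := { (inferInstance : Group ↥V) with mul_comm := fun a b => hVab.is_comm.comm a b }
  have hmul : ∀ a b v, act (a * b) v = act a (act b v) := fun a b v =>
    Subtype.ext (by simp [act, mul_assoc])
  have hone : ∀ v, act 1 v = v := fun v => Subtype.ext (by simp [act])
  have hfix : ∀ w : ↥V, (∀ h ∈ H, act h w = w) → w = 1 := by
    intro w hw
    apply Subtype.ext
    have : (w : G) ∈ V ⊓ Subgroup.centralizer ((H.map F.subtype : Subgroup G) : Set G) := by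
      refine ⟨w.2, Subgroup.mem_centralizer_iff.mpr ?_⟩
      rintro _ ⟨h, hh, rfl⟩
      have := congrArg Subtype.val (hw h hh)
      exact mul_inv_eq_iff_eq_mul.mp this
    rwa [hbot, Subgroup.mem_bot] at this
  have hfixK : ∀ w : ↥V, (∀ k ∈ K, act k w = w) → w = 1 := by
    intro w hw
    apply Subtype.ext
    have : (w : G) ∈ V ⊓ Subgroup.centralizer (Subtype.val '' Cfsg.frobeniusKernel H : Set G) := by
      refine ⟨w.2, Subgroup.mem_centralizer_iff.mpr ?_⟩
      rintro _ ⟨k, hk, rfl⟩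
      rw [← hKc] at hk
      have := congrArg Subtype.val (hw k hk)
      exact mul_inv_eq_iff_eq_mul.mp this
    rwa [hCK, Subgroup.mem_bot] at this
  rw [Subgroup.eq_bot_iff_forall]
  intro v0 hv0
  let v : ↥V := ⟨v0, hv0⟩
  suffices v = 1 from congrArg Subtype.val this
  have hF1 : ∏ m : ↥F, act m v = 1 := hfix _ fun h _ => by
    rw [map_prod]
    exact Fintype.prod_equiv (Equiv.mulLeft h) _ _ fun m => (hmul h m v).symm
  have hK1 : ∏ k : ↥K, act (k : ↥F) v = 1 := hfixK _ fun x hx => by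
    rw [map_prod]
    exact Fintype.prod_equiv (Equiv.mulLeft (⟨x, hx⟩ : ↥K)) _ _ fun m => (hmul x m v).symm
  have hH1 : ∀ k : ↥F, ∏ h : ↥H, act (k * h * k⁻¹) v = 1 := fun k => by
    have h1 : ∏ h : ↥H, act (h : ↥F) (act k⁻¹ v) = 1 := hfix _ fun x hx => by
      rw [map_prod]
      exact Fintype.prod_equiv (Equiv.mulLeft (⟨x, hx⟩ : ↥H)) _ _ fun m => (hmul x m _).symm
    simp only [hmul]
    rw [← map_prod, h1, map_one]
  let φ : ↥K × {h : ↥H // h ≠ 1} → ↥F := fun p => (p.1 : ↥F) * ((p.2 : ↥H) : ↥F) * (p.1 : ↥F)⁻¹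
  have hφinj : Function.Injective φ := by
    rintro ⟨k, h, hh⟩ ⟨k', h', hh'⟩ e
    simp only [φ] at e
    have hh1 : (h : ↥F) ≠ 1 := fun e => hh (Subtype.ext e)
    have hmem : ((k' : ↥F)⁻¹ * k) * h * ((k' : ↥F)⁻¹ * k)⁻¹ ∈ H := by
      have : ((k' : ↥F)⁻¹ * k) * h * ((k' : ↥F)⁻¹ * k)⁻¹ = h' := by
        calc _ = (k' : ↥F)⁻¹ * (k * h * (k : ↥F)⁻¹) * k' := by group
          _ = h' := by rw [e]; group
      rw [this]; exact h'.2
    have hin := Cfsg.Agent.FrobeniusBasic.mem_of_conj_mem' hH h.2 hh1 hmem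
    have hkk : (k' : ↥F)⁻¹ * k = 1 :=
      Subgroup.disjoint_def.mp hKH.disjoint (K.mul_mem (K.inv_mem k'.2) k.2) hin
    have hk : k = k' := Subtype.ext (inv_mul_eq_one.mp hkk).symm
    subst hk
    have : (h : ↥F) = h' := mul_left_cancel (mul_right_cancel e)
    simp only [Prod.mk.injEq, Subtype.mk.injEq, true_and]
    exact Subtype.ext this
  have himg : Finset.univ.image φ = Finset.univ.filter (fun m : ↥F => m ∉ K) := by
    refine Finset.eq_of_subset_of_card_le (fun m hm => ?_) ?_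
    · obtain ⟨⟨k, h, hh⟩, -, rfl⟩ := Finset.mem_image.mp hm
      rw [Finset.mem_filter]
      refine ⟨Finset.mem_univ _, fun hmem => hh (Subtype.ext ?_)⟩
      have : (h : ↥F) ∈ K := by
        have := K.mul_mem (K.mul_mem (K.inv_mem k.2) hmem) k.2
        simpa [φ, mul_assoc] using this
      exact Subgroup.disjoint_def.mp hKH.disjoint this h.2
    · rw [Finset.card_image_of_injective _ hφinj, Finset.card_univ, Fintype.card_prod]
      rw [show Fintype.card {h : ↥H // h ≠ 1} = Fintype.card ↥H - 1 from Set.card_ne_eq 1]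
      rw [← Fintype.card_subtype, Fintype.card_subtype_compl]
      have h1 := hKH.card_mul
      simp only [Nat.card_eq_fintype_card] at h1
      rw [Nat.mul_sub, mul_one]
      exact le_of_eq (by rw [← h1])
  have htot : ∏ p : ↥K × {h : ↥H // h ≠ 1}, act (φ p) v = 1 := by
    have hsplit := Finset.prod_filter_mul_prod_filter_not Finset.univ (fun m : ↥F => m ∈ K) (fun m => act m v)
    rw [hF1, ← himg, Finset.prod_image fun a _ b _ h => hφinj h] at hsplit
    rw [show (∏ m ∈ Finset.univ.filter (fun m : ↥F => m ∈ K), act m v) = 1 from by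
      rw [← hK1]; exact Finset.prod_subtype _ (fun x => by simp) _, one_mul] at hsplit
    exact hsplit
  have hpow : v ^ Nat.card ↥K = 1 := by
    have h2 : ∏ k : ↥K, ∏ h : ↥H, act ((k : ↥F) * h * (k : ↥F)⁻¹) v = 1 :=
      Finset.prod_eq_one fun k _ => hH1 k
    have h3 : ∀ k : ↥K, ∏ h : ↥H, act ((k : ↥F) * h * (k : ↥F)⁻¹) v =
        v * ∏ h : {h : ↥H // h ≠ 1}, act (φ (k, h)) v := by
      intro k
      rw [Fintype.prod_eq_mul_prod_subtype_ne (fun h : ↥H => act ((k : ↥F) * h * (k : ↥F)⁻¹) v) 1]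
      simp [φ, hone]
    rw [Finset.prod_congr rfl (fun k _ => h3 k), Finset.prod_mul_distrib, ← Fintype.prod_prod_type',
      htot, mul_one, Finset.prod_const, Finset.card_univ] at h2
    rwa [Nat.card_eq_fintype_card]
  have hcop' : (Nat.card ↥V).Coprime (Nat.card ↥K) := by
    rw [← hKc] at hcop; exact hcop
  have h1 : orderOf v ∣ Nat.gcd (Nat.card ↥V) (Nat.card ↥K) :=
    Nat.dvd_gcd (orderOf_dvd_natCard v) (orderOf_dvd_of_pow_eq_one hpow)
  rw [hcop', Nat.dvd_one] at h1
  exact orderOf_eq_one_iff.mp h1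

end Cfsg.Agent.S0666
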