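import Mathlib
import Cfsg.Statements.S0668

set_option autoImplicit false
open Cfsg

namespace Cfsg.Agent.S0668


/-- The equivariant linear maps between the permutation modules of two finite `G`-sets form a space whose dimension is the number of `G`-orbits on the product of the two sets. -/
theorem result {G : Type*} [Group G] {K : Type*} [Field K] {Ω₁ Ω₂ : Type*} [Fintype Ω₁] [Fintype Ω₂] [MulAction G Ω₁] [MulAction G Ω₂] : Module.finrank K ((Cfsg.permRep K G Ω₁).linHom (Cfsg.permRep K G Ω₂)).invariants = Nat.card (MulAction.orbitRel.Quotient G (Ω₁ × Ω₂)) := by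
  classical
  let ρ := (Cfsg.permRep K G Ω₁).linHom (Cfsg.permRep K G Ω₂)
  -- the matrix of an invariant map is constant on orbits
  have key : ∀ f : (Ω₁ → K) →ₗ[K] (Ω₂ → K), f ∈ ρ.invariants → ∀ (g : G) x y,
      f (Pi.single (g • x) 1) (g • y) = f (Pi.single x 1) y := by
    intro f hf g x y
    have h1 := congrFun (LinearMap.congr_fun (hf g) (Pi.single (g • x) 1)) (g • y)
    change f (fun z => (Pi.single (g • x) 1 : Ω₁ → K) ((g⁻¹)⁻¹ • z)) (g⁻¹ • g • y) = _ at h1
    rw [← h1, inv_smul_smul, inv_inv]
    rw [show (fun z => (Pi.single (g • x) 1 : Ω₁ → K) (g • z)) = Pi.single x 1 from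
      funext fun z => by simp [Pi.single_apply]]
  let toFun : ρ.invariants → (MulAction.orbitRel.Quotient G (Ω₁ × Ω₂) → K) := fun f q =>
    Quotient.liftOn' q (fun v => f.1 (Pi.single v.1 1) v.2) (by
      rintro ⟨x, y⟩ ⟨x', y'⟩ ⟨g, hg⟩
      simp only [Prod.smul_mk, Prod.mk.injEq] at hg
      obtain ⟨rfl, rfl⟩ := hg
      exact key f.1 f.2 g x' y')
  let L : ρ.invariants →ₗ[K] (MulAction.orbitRel.Quotient G (Ω₁ × Ω₂) → K) :=
    { toFun := toFun
      map_add' := fun f f' => funext fun q => Quotient.inductionOn' q fun v => rfl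
      map_smul' := fun c f => funext fun q => Quotient.inductionOn' q fun v => rfl }
  have hinj : Function.Injective L := by
    intro f f' h
    apply Subtype.ext
    apply LinearMap.pi_ext
    intro x c
    have h1 : f.1 (Pi.single x 1) = f'.1 (Pi.single x 1) := funext fun y =>
      congrFun h (Quotient.mk'' (x, y))
    rw [show (Pi.single x c : Ω₁ → K) = c • Pi.single x 1 by rw [← Pi.single_smul]; simp,
      map_smul, map_smul, h1]
  have hsurj : Function.Surjective L := by
    intro φ
    let f : (Ω₁ → K) →ₗ[K] (Ω₂ → K) :=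
      { toFun := fun u y => ∑ x, u x * φ (Quotient.mk'' (x, y))
        map_add' := fun u v => funext fun y => by simp [add_mul, Finset.sum_add_distrib]
        map_smul' := fun c u => funext fun y => by simp [Finset.mul_sum, mul_assoc] }
    refine ⟨⟨f, fun g => ?_⟩, ?_⟩
    · refine LinearMap.ext fun u => funext fun y => ?_
      change ∑ x, u ((g⁻¹)⁻¹ • x) * φ (Quotient.mk'' (x, g⁻¹ • y)) = ∑ x, u x * φ (Quotient.mk'' (x, y))
      refine Fintype.sum_equiv (MulAction.toPerm g) _ _ fun x => ?_
      simp only [inv_inv, MulAction.toPerm_apply]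
      congr 2
      exact Quotient.sound' ⟨g⁻¹, by simp⟩
    · funext q
      induction q using Quotient.inductionOn' with
      | h v =>
        change ∑ x, (Pi.single v.1 1 : Ω₁ → K) x * φ (Quotient.mk'' (x, v.2)) = φ (Quotient.mk'' v)
        simp [Pi.single_apply, ite_mul]
  letI : Fintype (MulAction.orbitRel.Quotient G (Ω₁ × Ω₂)) := Fintype.ofFinite _
  rw [(LinearEquiv.ofBijective L ⟨hinj, hsurj⟩).finrank_eq, Module.finrank_pi, Nat.card_eq_fintype_card]

end Cfsg.Agent.S0668
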