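import Mathlib
import Cfsg.Statements.S0670

set_option autoImplicit false
open Cfsg

namespace Cfsg.Agent.S0670
theorem transitive_of_sylow {G : Type*} [Group G] [Finite G] {p : ℕ} [hp : Fact p.Prime]
    {Ω : Type*} [Fintype Ω] [MulAction G Ω] [MulAction.IsPretransitive G Ω] (P : Sylow p G)
    (h : ∃ f : ℕ, Fintype.card Ω = p ^ f) : MulAction.IsPretransitive P Ω := by
  obtain ⟨f, hf⟩ := h
  constructor
  intro a b
  have hidx : (MulAction.stabilizer G a).index = p ^ f := by
    rw [MulAction.index_stabilizer_of_transitive, Nat.card_eq_fintype_card, hf]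
  -- compare orders
  have h1 : Nat.card (MulAction.orbit P a) * Nat.card (MulAction.stabilizer P a) = Nat.card P := by
    rw [← Nat.card_prod, Nat.card_congr (MulAction.orbitProdStabilizerEquivGroup P a)]
  obtain ⟨e, he⟩ := (IsPGroup.iff_card (p := p)).mp (P.isPGroup'.to_subgroup (MulAction.stabilizer P a))
  have h2 : Nat.card (MulAction.stabilizer P a) ∣ Nat.card (MulAction.stabilizer G a) :=
    Subgroup.card_dvd_of_injective
      ({ toFun := fun x => ⟨((x : P) : G), x.2⟩, map_one' := rfl, map_mul' := fun _ _ => rfl } :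
        MulAction.stabilizer P a →* MulAction.stabilizer G a)
      (fun x y hxy => Subtype.ext (Subtype.ext (congrArg Subtype.val hxy :)))
  have h3 : Nat.card (MulAction.stabilizer G a) * p ^ f = Nat.card G := by
    rw [← hidx]; exact Subgroup.card_mul_index _
  rw [P.card_eq_multiplicity] at h1
  rw [he] at h1 h2
  have h4 : p ^ (e + f) ∣ Nat.card G := by
    rw [← h3, pow_add]; exact Nat.mul_dvd_mul h2 dvd_rfl
  have h5 : e + f ≤ (Nat.card G).factorization p :=
    (hp.out.pow_dvd_iff_le_factorization Nat.card_pos.ne').mp h4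
  have h6 : p ^ f ≤ Nat.card (MulAction.orbit P a) := by
    refine Nat.le_of_mul_le_mul_right ?_ (pow_pos hp.out.pos e)
    rw [h1, ← pow_add, add_comm]
    exact Nat.pow_le_pow_right hp.out.pos h5
  have huniv : MulAction.orbit P a = Set.univ := by
    apply Set.eq_of_subset_of_ncard_le (Set.subset_univ _) _ (Set.toFinite _)
    rw [Set.ncard_univ, Nat.card_eq_fintype_card, hf, ← Nat.card_coe_set_eq]
    exact h6
  exact MulAction.mem_orbit_iff.mp (huniv ▸ Set.mem_univ b)



/-- In characteristic `p`, the permutation module of a transitive action of degree `p ^ f` has the line of constant functions as its only irreducible submodule: every non-zero subrepresentation contains it. -/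
theorem result {G : Type*} [Group G] [Finite G] {K : Type*} [Field K] {p f : ℕ} [Fact p.Prime] [CharP K p] {Ω : Type*} [Fintype Ω] [MulAction G Ω] [MulAction.IsPretransitive G Ω] (hf : 1 ≤ f) (hcard : Fintype.card Ω = p ^ f) (W : Subrepresentation (Cfsg.permRep K G Ω)) (hW : W.toSubmodule ≠ ⊥) : (Cfsg.permConstants K G Ω).toSubmodule ≤ W.toSubmodule := by
  classical
  have hpos : 0 < Fintype.card Ω := hcard ▸ pow_pos (Nat.Prime.pos Fact.out) f
  obtain ⟨a⟩ : Nonempty Ω := Fintype.card_pos_iff.mp hpos
  obtain ⟨P⟩ : Nonempty (Sylow p G) := inferInstance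
  -- `P` is transitive
  have htr : MulAction.IsPretransitive P Ω := transitive_of_sylow P ⟨f, hcard⟩
  obtain ⟨w, hw, hw0⟩ := (Submodule.ne_bot_iff _).mp hW
  -- the additive group generated by the translates of `w`
  let B : AddSubgroup (Ω → K) := AddSubgroup.closure (Set.range fun g : P => Cfsg.permRep K G Ω g w)
  have hBW : (B : Set (Ω → K)) ⊆ W.toSubmodule := by
    intro v hv
    refine AddSubgroup.closure_induction (p := fun v _ => v ∈ W.toSubmodule) ?_ ?_ ?_ ?_ hv
    · rintro _ ⟨g, rfl⟩
      exact W.apply_mem_toSubmodule _ hw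
    · exact zero_mem _
    · intro x y _ _ hx hy; exact add_mem hx hy
    · intro x _ hx; exact neg_mem hx
  have hexp : ∀ v : Ω → K, p • v = 0 := fun v => funext fun x => by
    simp [CharP.cast_eq_zero]
  haveI : AddGroup.FG B := AddGroup.closure_finite_fg _
  haveI hBfin : Finite B := by
    haveI : AddGroup.FG B := inferInstance
    exact AddCommGroup.finite_of_fg_torsion B (fun v => by
      rw [isOfFinAddOrder_iff_nsmul_eq_zero]
      exact ⟨p, Nat.Prime.pos Fact.out, Subtype.ext (hexp v)⟩)
  letI : MulAction P B :=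
    { smul := fun g v => ⟨Cfsg.permRep K G Ω g v, by
        refine AddSubgroup.closure_induction (p := fun v _ => Cfsg.permRep K G Ω g v ∈ B)
          ?_ ?_ ?_ ?_ v.2
        · rintro _ ⟨h, rfl⟩
          apply AddSubgroup.subset_closure
          exact ⟨g * h, by simp⟩
        · rw [map_zero]; exact zero_mem _
        · intro x y _ _ hx hy; rw [map_add]; exact add_mem hx hy
        · intro x _ hx; rw [map_neg]; exact neg_mem hx⟩
      one_smul := fun v => Subtype.ext (by change Cfsg.permRep K G Ω (1 : G) v = v; simp)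
      mul_smul := fun g h v => Subtype.ext (by
        change Cfsg.permRep K G Ω ((g : G) * h) v = Cfsg.permRep K G Ω g (Cfsg.permRep K G Ω h v)
        simp) }
  have hw' : w ∈ B := AddSubgroup.subset_closure ⟨1, by simp⟩
  have hdvd : p ∣ Nat.card B := by
    have h0 : addOrderOf (⟨w, hw'⟩ : B) = p :=
      addOrderOf_eq_prime (Subtype.ext (hexp w)) (fun h => hw0 (congrArg Subtype.val h))
    rw [← h0]
    exact addOrderOf_dvd_natCard _
  have hfix0 : (0 : B) ∈ MulAction.fixedPoints P B := fun g => Subtype.ext (map_zero _)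
  obtain ⟨v, hv, hv0⟩ := P.isPGroup'.exists_fixed_point_of_prime_dvd_card_of_fixed_point B hdvd hfix0
  -- a fixed vector is constant
  have hc : ∀ x, (v : Ω → K) x = (v : Ω → K) a := by
    intro x
    obtain ⟨g, hg⟩ := htr.exists_smul_eq a x
    have := congrFun (congrArg Subtype.val (hv g⁻¹)) a
    change (v : Ω → K) (((g⁻¹ : P) : G)⁻¹ • a) = (v : Ω → K) a at this
    rw [← this]
    simp [← hg, Subgroup.smul_def]
  have hva : (v : Ω → K) a ≠ 0 := fun h => hv0 (Subtype.ext (funext fun x => by
    simp [hc x, h])).symm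
  refine Submodule.span_le.mpr (Set.singleton_subset_iff.mpr ?_)
  have : (fun _ => (1 : K)) = ((v : Ω → K) a)⁻¹ • (v : Ω → K) := funext fun x => by
    simp [hc x, hva]
  rw [this]
  exact Submodule.smul_mem _ _ (hBW v.2)

end Cfsg.Agent.S0670
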