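import Mathlib
import Cfsg.Statements.S0671
import Cfsg.Agent.S0670

set_option autoImplicit false
open Cfsg

namespace Cfsg.Agent.S0671
open Classical in
theorem main {G : Type*} [Group G] [Finite G] {K : Type*} [Field K] {p f : ℕ} [Fact p.Prime] [CharP K p] {Ω : Type*} [Fintype Ω] [MulAction G Ω] [MulAction.IsPretransitive G Ω] (hf : 1 ≤ f) (hcard : Fintype.card Ω = p ^ f) (h : ∀ W W' : Subrepresentation (Cfsg.permRep K G Ω), (Cfsg.permConstants K G Ω).toSubmodule ≤ W.toSubmodule → W.toSubmodule < W'.toSubmodule → W'.toSubmodule ≤ (Cfsg.permSumZero K G Ω).toSubmodule → ∃ g : G, ∃ v ∈ W'.toSubmodule, Cfsg.permRep K G Ω g v - v ∉ W.toSubmodule) (a b : Ω) (hab : a ≠ b) :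
    ∀ x y : Ω, x ≠ y → ∃ g : G, g • a = x ∧ g • b = y := by
  let ρ := Cfsg.permRep K G Ω
  let S := (Cfsg.permSumZero K G Ω).toSubmodule
  let C := (Cfsg.permConstants K G Ω).toSubmodule
  have hρ : ∀ (g : G) (u : Ω → K) (x : Ω), ρ g u x = u (g⁻¹ • x) := fun g u x => rfl
  have hC : ∀ u, u ∈ C ↔ ∃ c : K, c • (fun _ : Ω => (1 : K)) = u :=
    fun u => Submodule.mem_span_singleton
  -- proper invariant subspaces consist of functions with sum zero
  have hprop : ∀ W : Subrepresentation ρ, W.toSubmodule ≠ ⊤ → W.toSubmodule ≤ S := by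
    intro W hW u hu
    let D : Submodule K (Ω → K) :=
      { carrier := {v | ∀ w ∈ W.toSubmodule, ∑ x, w x * v x = 0}
        add_mem' := fun {v v'} hv hv' w hw => by
          simp [mul_add, Finset.sum_add_distrib, hv w hw, hv' w hw]
        zero_mem' := fun w _ => by simp
        smul_mem' := fun c v hv w hw => by
          simp only [Pi.smul_apply, smul_eq_mul, mul_left_comm _ c, ← Finset.mul_sum, hv w hw,
            mul_zero] }
    let D' : Subrepresentation ρ :=
      ⟨D, fun g v hv w hw => by
        have := hv _ (W.apply_mem_toSubmodule g⁻¹ hw)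
        rw [← this]
        refine Fintype.sum_equiv (MulAction.toPerm g⁻¹) _ _ fun x => ?_
        simp only [hρ, MulAction.toPerm_apply, inv_inv, smul_inv_smul]⟩
    have hD : D'.toSubmodule ≠ ⊥ := by
      obtain ⟨φ, hφ0, hφ⟩ := Submodule.exists_dual_map_eq_bot_of_lt_top (lt_top_iff_ne_top.mpr hW) inferInstance
      refine (Submodule.ne_bot_iff _).mpr ⟨fun x => φ (Pi.single x 1), fun w hw => ?_, fun h0 => ?_⟩
      · have h1 : φ w = 0 := by
          have : φ w ∈ Submodule.map φ W.toSubmodule := Submodule.mem_map_of_mem hw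
          rw [hφ] at this
          exact (Submodule.mem_bot K).mp this
        rw [← h1, LinearMap.pi_apply_eq_sum_univ φ w]
        exact Finset.sum_congr rfl fun x _ => by
          rw [smul_eq_mul, show (fun j => if x = j then (1 : K) else 0) = Pi.single x 1 from
            funext fun j => by simp [Pi.single_apply, eq_comm]]
      · apply hφ0
        exact LinearMap.pi_ext fun x c => by
          rw [show (Pi.single x c : Ω → K) = c • Pi.single x 1 by rw [← Pi.single_smul]; simp,
            map_smul, show φ (Pi.single x 1) = 0 from congrFun h0 x, smul_zero, LinearMap.zero_apply]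
    have h1 := Cfsg.Agent.S0670.result hf hcard D' hD (Submodule.mem_span_singleton_self _) u hu
    change ∑ x, u x = 0
    simpa using h1
  have hne : S ≠ ⊤ := fun h0 => by
    have h1 : (Pi.single a 1 : Ω → K) ∈ S := h0 ▸ Submodule.mem_top
    exact one_ne_zero (α := K) ((Fintype.sum_pi_single' a (1 : K)).symm.trans h1)
  -- the orbital of `(a, b)` and its matrix, shifted to have image in the sum-zero functions
  let R : Ω → Ω → Prop := fun x y => ∃ g : G, g • a = x ∧ g • b = y
  have hR : ∀ (g : G) x y, R (g • x) (g • y) ↔ R x y := fun g x y =>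
    ⟨fun ⟨k, h1, h2⟩ => ⟨g⁻¹ * k, by rw [mul_smul, h1, inv_smul_smul],
      by rw [mul_smul, h2, inv_smul_smul]⟩,
     fun ⟨k, h1, h2⟩ => ⟨g * k, by rw [mul_smul, h1], by rw [mul_smul, h2]⟩⟩
  let k' : K := ∑ x, if R x b then (1 : K) else 0
  have hk' : ∀ y, (∑ x, if R x y then (1 : K) else 0) = k' := fun y => by
    obtain ⟨g, rfl⟩ := MulAction.exists_smul_eq G b y
    exact (Fintype.sum_equiv (MulAction.toPerm g) _ _ fun x =>
      (if_congr (hR g x b) rfl rfl).symm).symm
  let T : (Ω → K) →ₗ[K] (Ω → K) :=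
    { toFun := fun u x => (∑ y, (if R x y then (1 : K) else 0) * u y) - k' * u x
      map_add' := fun u v => funext fun x => by
        simp [mul_add, Finset.sum_add_distrib]; ring
      map_smul' := fun c u => funext fun x => by
        simp only [RingHom.id_apply, Pi.smul_apply, smul_eq_mul, mul_sub, Finset.mul_sum]
        congr 1
        · exact Finset.sum_congr rfl fun y _ => mul_left_comm _ _ _
        · exact mul_left_comm _ _ _ }
  have hT : ∀ u x, T u x = (∑ y, (if R x y then (1 : K) else 0) * u y) - k' * u x := fun u x => rfl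
  have hTg : ∀ (g : G) u, T (ρ g u) = ρ g (T u) := by
    intro g u
    funext x
    simp only [hρ, hT]
    congr 1
    refine Fintype.sum_equiv (MulAction.toPerm g⁻¹) _ _ fun y => ?_
    simp only [MulAction.toPerm_apply]
    rw [if_congr (hR g⁻¹ x y) rfl rfl]
  have hTS : ∀ u, T u ∈ S := by
    intro u
    change ∑ x, T u x = 0
    simp only [hT, Finset.sum_sub_distrib]
    rw [Finset.sum_comm]
    simp only [← Finset.sum_mul, hk', ← Finset.mul_sum, sub_self]
  have hT1 : T (fun _ => 1) = 0 := by
    let kerT : Subrepresentation ρ := ⟨LinearMap.ker T, fun g v hv => by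
      rw [LinearMap.mem_ker] at hv ⊢
      rw [hTg, hv, map_zero]⟩
    by_cases h0 : kerT.toSubmodule = ⊥
    · exfalso
      have hsurj := (LinearMap.injective_iff_surjective (f := T)).mp (LinearMap.ker_eq_bot.mp h0)
      refine hne (eq_top_iff.mpr fun u _ => ?_)
      obtain ⟨v, rfl⟩ := hsurj u
      exact hTS v
    · exact Cfsg.Agent.S0670.result hf hcard kerT h0 (Submodule.mem_span_singleton_self _)
  have hCS : C ≤ S := Submodule.span_le.mpr (Set.singleton_subset_iff.mpr (by
    change ∑ x : Ω, (1 : K) = 0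
    simp [hcard, CharP.cast_eq_zero, Nat.one_le_iff_ne_zero.mp hf]))
  -- the quotient of the two images is trivial
  let W' : Subrepresentation ρ := ⟨LinearMap.range T ⊔ C, fun g v hv => by
    obtain ⟨_, ⟨u, rfl⟩, c, hc, rfl⟩ := Submodule.mem_sup.mp hv
    rw [map_add]
    exact Submodule.add_mem_sup ⟨ρ g u, hTg g u⟩
      ((Cfsg.permConstants K G Ω).apply_mem_toSubmodule g hc)⟩
  let W : Subrepresentation ρ := ⟨S.map T ⊔ C, fun g v hv => by
    obtain ⟨_, ⟨u, hu, rfl⟩, c, hc, rfl⟩ := Submodule.mem_sup.mp hv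
    rw [map_add]
    exact Submodule.add_mem_sup ⟨ρ g u, (Cfsg.permSumZero K G Ω).apply_mem_toSubmodule g hu, hTg g u⟩
      ((Cfsg.permConstants K G Ω).apply_mem_toSubmodule g hc)⟩
  have hWle : W.toSubmodule ≤ W'.toSubmodule := sup_le_sup_right LinearMap.map_le_range _
  have hWW : W.toSubmodule = W'.toSubmodule := by
    rcases hWle.eq_or_lt with heq | hlt
    · exact heq
    exfalso
    obtain ⟨g, v, hv, hgv⟩ := h W W' le_sup_right hlt
      (sup_le (by rintro _ ⟨u, rfl⟩; exact hTS u) hCS)
    apply hgv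
    obtain ⟨_, ⟨u, rfl⟩, c, hc, rfl⟩ := Submodule.mem_sup.mp hv
    obtain ⟨c₀, rfl⟩ := (hC c).mp hc
    have e1 : Cfsg.permRep K G Ω g (T u + c₀ • fun _ => 1) - (T u + c₀ • fun _ => 1) =
        T (ρ g u - u) := by
      rw [map_sub, hTg, map_add]
      have : Cfsg.permRep K G Ω g (c₀ • fun _ : Ω => (1 : K)) = c₀ • fun _ => 1 := funext fun x => rfl
      rw [this, add_sub_add_right_eq_sub]
    rw [e1]
    refine Submodule.mem_sup_left ⟨_, ?_, rfl⟩
    change ∑ x, (u (g⁻¹ • x) - u x) = 0
    rw [Finset.sum_sub_distrib, sub_eq_zero]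
    exact Fintype.sum_equiv (MulAction.toPerm g⁻¹) _ _ fun x => rfl
  obtain ⟨_, ⟨s, hs, rfl⟩, c, hc, hsc⟩ := Submodule.mem_sup.mp
    (show T (Pi.single a 1) ∈ W.toSubmodule from hWW ▸ Submodule.mem_sup_left ⟨_, rfl⟩)
  let V : Subrepresentation ρ := ⟨C.comap T, fun g v hv => by
    rw [Submodule.mem_comap] at hv ⊢
    rw [hTg]
    exact (Cfsg.permConstants K G Ω).apply_mem_toSubmodule g hv⟩
  have hVtop : V.toSubmodule = ⊤ := by
    by_contra hV
    have h1 : (Pi.single a 1 - s : Ω → K) ∈ V.toSubmodule := by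
      change T _ ∈ C
      rw [map_sub, ← hsc, add_sub_cancel_left]
      exact hc
    have h2 : ∑ x, (Pi.single a 1 - s : Ω → K) x = 0 := hprop V hV h1
    have h3 : ∑ x, s x = 0 := hs
    simp [Finset.sum_sub_distrib, h3] at h2
  -- every column of the matrix is constant
  have hcol : ∀ x, x ≠ b → R x b := by
    intro x hx
    have h1 : T (Pi.single b 1) ∈ C := (hVtop.symm ▸ Submodule.mem_top : _ ∈ V.toSubmodule)
    obtain ⟨c, hc'⟩ := (hC _).mp h1
    have e : ∀ z, z ≠ b → (if R z b then (1 : K) else 0) = c := fun z hz => by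
      have h2 := congrFun hc' z
      rw [hT] at h2
      simpa [Pi.single_apply, hz] using h2.symm
    have ea := e a hab
    rw [if_pos ⟨1, one_smul _ _, one_smul _ _⟩] at ea
    have ex := e x hx
    rw [← ea] at ex
    by_contra hcon
    rw [if_neg hcon] at ex
    exact zero_ne_one ex
  intro x y hxy
  obtain ⟨g, rfl⟩ := MulAction.exists_smul_eq G b y
  obtain ⟨k, hk1, hk2⟩ := hcol (g⁻¹ • x) (fun e => hxy (by rw [← e, smul_inv_smul]))
  exact ⟨g * k, by rw [mul_smul, hk1, smul_inv_smul], by rw [mul_smul, hk2]⟩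



/-- If the heart of the permutation module in characteristic `p` of a transitive action of degree `p ^ f` has no trivial composition factor, the action is doubly transitive. The hypothesis is phrased without composition series: no invariant subspaces `W < W'` between the constants and the sum-zero functions with trivial action on the quotient. -/
theorem result {G : Type*} [Group G] [Finite G] {K : Type*} [Field K] {p f : ℕ} [Fact p.Prime] [CharP K p] {Ω : Type*} [Fintype Ω] [MulAction G Ω] [MulAction.IsPretransitive G Ω] (hf : 1 ≤ f) (hcard : Fintype.card Ω = p ^ f) (h : ∀ W W' : Subrepresentation (Cfsg.permRep K G Ω), (Cfsg.permConstants K G Ω).toSubmodule ≤ W.toSubmodule → W.toSubmodule < W'.toSubmodule → W'.toSubmodule ≤ (Cfsg.permSumZero K G Ω).toSubmodule → ∃ g : G, ∃ v ∈ W'.toSubmodule, Cfsg.permRep K G Ω g v - v ∉ W.toSubmodule) : MulAction.IsMultiplyPretransitive G Ω 2 := by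
  rw [MulAction.is_two_pretransitive_iff]
  intro a b c d hab hcd
  exact main hf hcard h a b hab c d hcd

end Cfsg.Agent.S0671
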