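import Mathlib
import Cfsg.Statements.S0677
import Cfsg.Agent.Lib.PrimeDegreeCoord

set_option autoImplicit false
open Cfsg

namespace Cfsg.Agent.S0677
open Pointwise

/-- The number of elements of an involution-invariant set has the parity of the fixed ones. -/
theorem card_parity {β : Type*} [DecidableEq β] (S : Finset β) (σ : β → β)
    (hmem : ∀ a ∈ S, σ a ∈ S) (hinv : ∀ a ∈ S, σ (σ a) = a) :
    (S.card : ZMod 2) = ((S.filter fun a => σ a = a).card : ZMod 2) := by
  have h0 : ∑ a ∈ S, (if σ a = a then (0 : ZMod 2) else 1) = 0 := by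
    refine Finset.sum_involution (fun a _ => σ a) ?_ ?_ hmem hinv
    · intro a ha
      by_cases h : σ a = a
      · simp [h]
      · rw [if_neg h, if_neg (by rw [hinv a ha]; exact Ne.symm h)]
        exact CharTwo.add_self_eq_zero 1
    · intro a _ h hσ
      exact h (if_pos hσ)
  have h1 : (S.card : ZMod 2) = ∑ a ∈ S, (1 : ZMod 2) := by simp
  have h2 : ((S.filter fun a => σ a = a).card : ZMod 2) =
      ∑ a ∈ S, (if σ a = a then (1 : ZMod 2) else 0) := by simp
  rw [h1, h2, ← sub_eq_zero, ← Finset.sum_sub_distrib]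
  exact (Finset.sum_congr rfl fun a _ => by split_ifs <;> simp).trans h0

/-- An invariant set of residues in which all non-zero differences occur equally often. -/
theorem symmetric_difference_set {p : ℕ} [hp : Fact p.Prime] (hp2 : p ≠ 2) (D : Finset (ZMod p))
    (hneg : ∀ x ∈ D, -x ∈ D) (lam : ℕ)
    (hlam : ∀ d : ZMod p, d ≠ 0 → (D.filter fun x => x - d ∈ D).card = lam) :
    D.card ≤ 1 ∨ p - 1 ≤ D.card := by
  classical
  haveI : Fact (2 < p) := ⟨lt_of_le_of_ne hp.out.two_le (Ne.symm hp2)⟩
  have two : (2 : ZMod p) ≠ 0 := Ring.two_ne_zero (by rw [ringChar.eq (ZMod p) p]; exact hp2)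
  -- membership of all non-zero residues is the parity of `lam`
  have key : ∀ c : ZMod p, c ≠ 0 → ((lam : ZMod 2) = if c ∈ D then 1 else 0) := by
    intro c hc
    rw [← hlam (2 * c) (mul_ne_zero two hc),
      card_parity _ (fun x => 2 * c - x) (fun x hx => ?_) (fun x _ => sub_sub_cancel _ _)]
    · have he : ((D.filter fun x => x - 2 * c ∈ D).filter fun x => 2 * c - x = x) =
          if c ∈ D then {c} else ∅ := by
        ext x
        have hx : (2 * c - x = x) ↔ x = c := by
          rw [sub_eq_iff_eq_add, ← two_mul, mul_right_inj' two, eq_comm]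
        simp only [Finset.mem_filter, hx]
        constructor
        · rintro ⟨⟨h1, -⟩, rfl⟩
          simp [h1]
        · intro h
          split_ifs at h with hcD
          · rw [Finset.mem_singleton] at h
            subst h
            refine ⟨⟨hcD, ?_⟩, rfl⟩
            rw [two_mul, sub_add_cancel_left]
            exact hneg _ hcD
          · simp at h
      rw [he]
      split_ifs <;> simp
    · rw [Finset.mem_filter] at hx ⊢
      refine ⟨?_, ?_⟩
      · rw [← neg_sub]
        exact hneg _ hx.2
      · rw [sub_sub_cancel_left]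
        exact hneg _ hx.1
  by_cases h : ∃ c ∈ D, c ≠ 0
  · obtain ⟨c, hcD, hc⟩ := h
    right
    have hsub : Finset.univ.erase (0 : ZMod p) ⊆ D := by
      intro x hx
      rw [Finset.mem_erase] at hx
      have h1 := key c hc
      have h2 := key x hx.1
      rw [h1, if_pos hcD] at h2
      by_contra hxD
      rw [if_neg hxD] at h2
      exact one_ne_zero h2
    have := Finset.card_le_card hsub
    rwa [Finset.card_erase_of_mem (Finset.mem_univ _), Finset.card_univ, ZMod.card] at this
  · left
    push Not at h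
    exact Finset.card_le_one.mpr fun x hx y hy => (h x hx).trans (h y hy).symm

/-- The case in which the involution lies in the subgroup of index `p`. -/
theorem main_case {α : Type*} [Fintype α] [DecidableEq α] {p : ℕ} [hp : Fact p.Prime]
    (hp2 : p ≠ 2) (hα : Nat.card α = p) (G : Subgroup (Equiv.Perm α))
    [MulAction.IsPretransitive G α] (t : G) (ht : orderOf t = p) (e : ZMod p ≃ α)
    (he : ∀ x : ZMod p, e (x + 1) = (t : Equiv.Perm α) (e x)) (i : G)
    (hi : ∀ x : ZMod p, (i : Equiv.Perm α) (e x) = e (-x)) (H : Subgroup G) (hH : H.index = p)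
    (hiH : i ∈ H) : ∃ a : α, ∀ h ∈ H, h • a = a := by
  classical
  have hpH : ¬ p ∣ Nat.card H := by
    intro h
    apply Cfsg.Agent.PrimeDegreeCoord.not_sq_dvd_card hα G
    rw [← Subgroup.card_mul_index H, hH, pow_two]
    exact Nat.mul_dvd_mul_right h p
  have htH : ∀ d : ZMod p, d ≠ 0 → t ^ d.val ∉ H := by
    intro d hd hmem
    have h1 : orderOf (t ^ d.val) = p := by
      refine (Nat.Coprime.orderOf_pow ?_).trans ht
      rw [ht]
      refine (hp.out.coprime_iff_not_dvd).mpr fun h => ?_
      have hv : d.val < p := ZMod.val_lt d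
      have hv0 : d.val ≠ 0 := fun h0 => hd ((ZMod.val_eq_zero d).mp h0)
      exact absurd (Nat.le_of_dvd (Nat.pos_of_ne_zero hv0) h) (not_le.mpr hv)
    apply hpH
    rw [← h1]
    exact Subgroup.orderOf_dvd_natCard _ hmem
  by_cases hnorm : ∀ g : G, g * t * g⁻¹ ∈ Subgroup.zpowers t
  · -- affine case
    have aff : ∀ g : G, ∃ a b : ZMod p, a ≠ 0 ∧
        ∀ x, (g : Equiv.Perm α) (e x) = e (a * x + b) := fun g => by
      apply Cfsg.Agent.PrimeDegreeCoord.affine_of_normalizes e he
      obtain ⟨k, hk⟩ := hnorm g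
      exact ⟨k, congrArg Subtype.val hk⟩
    refine ⟨e 0, fun h hh => ?_⟩
    obtain ⟨a, b, ha, hab⟩ := aff h
    -- `(i h)² ...` the commutator is a translation inside `H`
    have hc : h * i * h⁻¹ * i ∈ H :=
      H.mul_mem (H.mul_mem (H.mul_mem hh hiH) (H.inv_mem hh)) hiH
    have hcx : ∀ x : ZMod p, ((h * i * h⁻¹ * i : G) : Equiv.Perm α) (e x) = e (x + 2 * b) := by
      intro x
      have hinv : ((h⁻¹ : G) : Equiv.Perm α) (e (-x)) = e (a⁻¹ * (-x - b)) := by
        rw [InvMemClass.coe_inv, Equiv.Perm.inv_eq_iff_eq, hab, ← mul_assoc,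
          mul_inv_cancel₀ ha, one_mul, sub_add_cancel]
      simp only [Subgroup.coe_mul, Equiv.Perm.mul_apply, hi, hinv, hab]
      congr 1
      rw [mul_neg, ← mul_assoc, mul_inv_cancel₀ ha]
      ring
    have hb : b = 0 := by
      by_contra hb
      have two : (2 : ZMod p) ≠ 0 := Ring.two_ne_zero (by rw [ringChar.eq (ZMod p) p]; exact hp2)
      apply htH (2 * b) (mul_ne_zero two hb)
      convert hc using 1
      apply Subtype.ext
      ext y
      obtain ⟨x, rfl⟩ := e.surjective y
      rw [hcx, SubmonoidClass.coe_pow, Cfsg.Agent.PermPrimeDegree.translation_pow he,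
        ZMod.natCast_zmod_val]
    change (h : Equiv.Perm α) (e 0) = e 0
    rw [hab, hb, mul_zero, add_zero]
  -- otherwise `G` is 2-transitive on the cosets of `H`
  haveI : MulAction.IsPreprimitive G α := MulAction.IsPreprimitive.of_prime_card (hα ▸ hp.out)
  have hker : (MulAction.toPermHom G (G ⧸ H)).ker = ⊥ := by
    rw [← Subgroup.normalCore_eq_ker]
    by_contra hK
    have := Cfsg.Agent.PermBasic.isPretransitive_of_normal (X := α) H.normalCore hK
    haveI : Nonempty α := ⟨e 0⟩
    apply hpH
    rw [← hα]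
    exact (Cfsg.Agent.PermBasic.card_dvd_of_transitive (G := H.normalCore) (X := α)).trans
      (Subgroup.card_dvd_of_le (Subgroup.normalCore_le H))
  have hq : Nat.card (G ⧸ H) = p := hH
  set R := (MulAction.toPermHom G (G ⧸ H)).range with hR
  haveI : MulAction.IsPretransitive R (G ⧸ H) := ⟨fun x y => by
    obtain ⟨g, hg⟩ := MulAction.exists_smul_eq G x y
    exact ⟨⟨_, g, rfl⟩, hg⟩⟩
  rcases Cfsg.Agent.PermPrimeDegree.affine_or_twoTransitive hq R with h2 | ⟨e', he'⟩
  swap
  · exfalso
    apply hnorm
    have hd := Cfsg.Agent.PrimeDegreeCoord.card_dvd_of_affine R e' he'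
    rw [← Nat.card_congr (MonoidHom.ofInjective ((MonoidHom.ker_eq_bot_iff _).mp hker)).toEquiv] at hd
    have hTp : IsPGroup p (Subgroup.zpowers t) :=
      IsPGroup.of_card (n := 1) (by rw [Nat.card_zpowers, ht, pow_one])
    obtain ⟨P, hP⟩ := hTp.exists_le_sylow
    have hPc := Cfsg.Agent.PrimeDegreeCoord.card_sylow hα G P
    have hPT : Subgroup.zpowers t = (P : Subgroup G) :=
      Subgroup.eq_of_le_of_card_ge hP (le_of_eq (by rw [Nat.card_zpowers, ht]; exact hPc))
    have h1 : Nat.card (Sylow p G) ∣ (P : Subgroup G).index := Sylow.card_dvd_index P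
    have h2 : (P : Subgroup G).index ∣ p - 1 := by
      apply (Nat.mul_dvd_mul_iff_left hp.out.pos).mp
      have h := Subgroup.card_mul_index (P : Subgroup G)
      rw [show Nat.card (P : Subgroup G) = p from hPc] at h
      rw [h]
      exact hd
    have h3 : Nat.card (Sylow p G) = 1 := by
      have hlt : Nat.card (Sylow p G) < p := lt_of_le_of_lt
        (Nat.le_of_dvd (by have := hp.out.two_le; omega) (h1.trans h2)) (by have := hp.out.pos; omega)
      have := card_sylow_modEq_one p G
      rwa [Nat.ModEq, Nat.mod_eq_of_lt hlt, Nat.mod_eq_of_lt hp.out.one_lt] at this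
    haveI : Subsingleton (Sylow p G) := (Nat.card_eq_one_iff_unique.mp h3).1
    haveI := P.normal_of_subsingleton
    intro g
    rw [hPT]
    exact Subgroup.Normal.conj_mem inferInstance t (hPT ▸ Subgroup.mem_zpowers t) g
  -- intersection numbers are constant
  have hconst : ∀ (O : Set α), (∀ h ∈ H, h • O = O) → ∀ g u : G, g ∉ H → u ∉ H →
      (O ∩ g • O).ncard = (O ∩ u • O).ncard := by
    intro O hO g u hg hu
    have hg' : ((1 : G) : G ⧸ H) ≠ (g : G ⧸ H) := by
      rw [Ne, QuotientGroup.eq]; simpa using hg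
    have hu' : ((1 : G) : G ⧸ H) ≠ (u : G ⧸ H) := by
      rw [Ne, QuotientGroup.eq]; simpa using hu
    obtain ⟨⟨_, k, rfl⟩, hk1, hk2⟩ := (MulAction.is_two_pretransitive_iff.mp h2) hg' hu'
    have hk1' : ((k * 1 : G) : G ⧸ H) = ((1 : G) : G ⧸ H) := hk1
    have hk2' : ((k * g : G) : G ⧸ H) = (u : G ⧸ H) := hk2
    rw [QuotientGroup.eq] at hk1' hk2'
    have hkH : k ∈ H := by simpa using hk1'
    have h3 : u⁻¹ * (k * g) ∈ H := by simpa [mul_assoc] using H.inv_mem hk2'
    have : k • (O ∩ g • O) = O ∩ u • O := by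
      rw [Set.smul_set_inter, hO k hkH, ← mul_smul]
      congr 1
      conv_rhs => rw [← hO _ h3, ← mul_smul, mul_inv_cancel_left]
    rw [← this, Set.ncard_smul_set]
  have horb : ∀ a : α, (MulAction.orbit H a).ncard ≤ 1 ∨ p - 1 ≤ (MulAction.orbit H a).ncard := by
    intro a
    set O := MulAction.orbit H a with hOdef
    have hO : ∀ h ∈ H, h • O = O := fun h hh => MulAction.smul_orbit (⟨h, hh⟩ : H) a
    let D : Finset (ZMod p) := Finset.univ.filter fun x => e x ∈ O
    have hD : ∀ x, x ∈ D ↔ e x ∈ O := fun x => by simp [D]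
    have hcard : D.card = O.ncard := by
      rw [← Set.ncard_coe_finset, ← Set.ncard_image_of_injective _ e.injective]
      congr 1
      ext y
      obtain ⟨x, rfl⟩ := e.surjective y
      simp [hD]
    rw [← hcard]
    obtain hone : (1 : ZMod p) ≠ 0 := one_ne_zero
    refine symmetric_difference_set hp2 D (fun x hx => ?_) (O ∩ (t ^ (1 : ZMod p).val) • O).ncard
      (fun d hd => ?_)
    · rw [hD] at hx ⊢
      rw [← hi, ← hO i hiH]
      exact Set.smul_mem_smul_set hx
    · rw [hconst O hO _ _ (htH _ hone) (htH d hd), ← Set.ncard_coe_finset,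
        ← Set.ncard_image_of_injective _ e.injective]
      congr 1
      ext y
      obtain ⟨x, rfl⟩ := e.surjective y
      simp only [e.injective.mem_set_image, Finset.coe_filter, Set.mem_ofPred_eq, hD, Set.mem_inter_iff]
      have : e x ∈ t ^ d.val • O ↔ e (x - d) ∈ O := by
        rw [Set.mem_smul_set]
        constructor
        · rintro ⟨y, hy, hyx⟩
          obtain ⟨z, rfl⟩ := e.surjective y
          change ((t ^ d.val : G) : Equiv.Perm α) (e z) = e x at hyx
          rw [SubmonoidClass.coe_pow, Cfsg.Agent.PermPrimeDegree.translation_pow he,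
            ZMod.natCast_zmod_val] at hyx
          rw [← e.injective hyx, add_sub_cancel_right]
          exact hy
        · intro h
          refine ⟨_, h, ?_⟩
          change ((t ^ d.val : G) : Equiv.Perm α) (e (x - d)) = e x
          rw [SubmonoidClass.coe_pow, Cfsg.Agent.PermPrimeDegree.translation_pow he,
            ZMod.natCast_zmod_val, sub_add_cancel]
      rw [this]
  by_contra hcon
  push Not at hcon
  have hge : ∀ a : α, p - 1 ≤ (MulAction.orbit H a).ncard := by
    intro a
    refine (horb a).resolve_left fun h => ?_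
    obtain ⟨h', hh', hne⟩ := hcon a
    exact hne ((Set.ncard_le_one (Set.toFinite _)).mp h _ ⟨⟨h', hh'⟩, rfl⟩ _
      (MulAction.mem_orbit_self a))
  have hne : MulAction.orbit H (e 0) ≠ Set.univ := by
    intro h
    apply hpH
    have := Cfsg.Agent.PermBasic.card_orbit_dvd (G := H) (e 0)
    rwa [Nat.card_coe_set_eq, h, Set.ncard_univ, hα] at this
  obtain ⟨b, hb⟩ := (Set.ne_univ_iff_exists_notMem _).mp hne
  have hdis : Disjoint (MulAction.orbit H (e 0)) (MulAction.orbit H b) := by
    rw [Set.disjoint_left]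
    intro y hy hy'
    apply hb
    rw [← MulAction.orbit_eq_iff.mpr hy, MulAction.orbit_eq_iff.mpr hy']
    exact MulAction.mem_orbit_self b
  have := Set.ncard_union_eq hdis
  have h4 := Set.ncard_le_ncard (Set.subset_univ (MulAction.orbit H (e 0) ∪ MulAction.orbit H b))
    (Set.toFinite _)
  rw [Set.ncard_univ, hα] at h4
  have := hge (e 0)
  have := hge b
  have := hp.out.two_le
  omega



/-- In a transitive permutation group of prime degree `p` whose Sylow `p`-normaliser has even order, the point stabilisers are the only subgroups of index `p`. -/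
theorem result {α : Type*} [Fintype α] [DecidableEq α] {p : ℕ} [Fact p.Prime] (hα : Fintype.card α = p) (G : Subgroup (Equiv.Perm α)) [MulAction.IsPretransitive G α] (P : Sylow p G) (heven : Even (Nat.card (Subgroup.normalizer ((P : Subgroup G) : Set G)))) (H : Subgroup G) (hH : H.index = p) : ∃ a : α, H = MulAction.stabilizer G a := by
  classical
  rw [← Nat.card_eq_fintype_card] at hα
  have hp : p.Prime := Fact.out
  obtain ⟨t₀, htG, ht₀, e₀, he₀⟩ := Cfsg.Agent.PermPrimeDegree.exists_translation hα G
  -- equal orders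
  have hstab : ∀ a : α, Nat.card H = Nat.card (MulAction.stabilizer G a) := fun a => by
    have h1 := Subgroup.card_mul_index H
    rw [hH, ← Cfsg.Agent.PermBasic.card_mul_card_stabilizer (G := G) a, hα, mul_comm p] at h1
    exact Nat.eq_of_mul_eq_mul_right hp.pos h1
  rcases eq_or_ne p 2 with rfl | hp2
  · refine ⟨e₀ 0, ?_⟩
    have hG : Nat.card G ∣ 2 := by
      have := Subgroup.card_subgroup_dvd_card G
      rwa [Nat.card_perm, hα] at this
    have h1 : Nat.card H = 1 := by
      have hc := Subgroup.card_mul_index H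
      rw [hH] at hc
      have := Nat.le_of_dvd (by norm_num) hG
      have : 0 < Nat.card H := Nat.card_pos
      omega
    have h2 : Nat.card (MulAction.stabilizer G (e₀ 0)) = 1 := hstab (e₀ 0) ▸ h1
    rw [Subgroup.eq_bot_of_card_eq H h1, Subgroup.eq_bot_of_card_eq _ h2]
  -- an involution normalising the translations
  let t : G := ⟨t₀, htG⟩
  have ht : orderOf t = p := by rw [← Subgroup.orderOf_coe]; exact ht₀
  let T : Sylow p G := Sylow.ofCard (Subgroup.zpowers t) (by
    rw [Nat.card_zpowers, ← P.card_eq_multiplicity,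
      Cfsg.Agent.PrimeDegreeCoord.card_sylow hα G P]
    exact ht)
  have hNT : Even (Nat.card (Subgroup.normalizer ((T : Subgroup G) : Set G))) := by
    have e1 : (Subgroup.normalizer ((P : Subgroup G) : Set G)).index =
        (Subgroup.normalizer ((T : Subgroup G) : Set G)).index :=
      P.card_eq_index_normalizer.symm.trans T.card_eq_index_normalizer
    have h2 := Subgroup.card_mul_index (Subgroup.normalizer ((P : Subgroup G) : Set G))
    rw [e1, ← Subgroup.card_mul_index (Subgroup.normalizer ((T : Subgroup G) : Set G))] at h2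
    rwa [Nat.eq_of_mul_eq_mul_right (Nat.pos_of_ne_zero Subgroup.index_ne_zero_of_finite) h2] at heven
  haveI : Fact (Nat.Prime 2) := ⟨Nat.prime_two⟩
  obtain ⟨⟨i, hiN⟩, hio⟩ := exists_prime_orderOf_dvd_card' 2 (even_iff_two_dvd.mp hNT)
  rw [← Subgroup.orderOf_coe] at hio
  change orderOf i = 2 at hio
  have hi2 : i * i = 1 := by rw [← pow_two, ← hio, pow_orderOf_eq_one]
  obtain ⟨a, b, ha, hab⟩ := Cfsg.Agent.PrimeDegreeCoord.affine_of_normalizes e₀ he₀
    (g := (i : Equiv.Perm α)) (by
      obtain ⟨k, hk⟩ := (Subgroup.mem_normalizer_iff.mp hiN t).mp (Subgroup.mem_zpowers t)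
      exact ⟨k, congrArg Subtype.val hk⟩)
  have hcomp : ∀ x : ZMod p, a * (a * x + b) + b = x := fun x => by
    apply e₀.injective
    rw [← hab, ← hab, ← Equiv.Perm.mul_apply, ← Subgroup.coe_mul, hi2]
    rfl
  have two : (2 : ZMod p) ≠ 0 := Ring.two_ne_zero (by rw [ringChar.eq (ZMod p) p]; exact hp2)
  have ha1 : a = -1 := by
    have h1 : a * a = 1 := by linear_combination hcomp 1 - hcomp 0
    rcases mul_self_eq_one_iff.mp h1 with rfl | h
    · exfalso
      have h0 := hcomp 0
      have hb : b = 0 := by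
        have : (2 : ZMod p) * b = 0 := by linear_combination h0
        exact (mul_eq_zero.mp this).resolve_left two
      have : i = 1 := Subtype.ext (Equiv.ext fun y => by
        obtain ⟨x, rfl⟩ := e₀.surjective y
        rw [hab, hb, one_mul, add_zero]; rfl)
      rw [this, orderOf_one] at hio
      omega
    · exact h
  subst ha1
  let e : ZMod p ≃ α := (Equiv.addRight (b / 2)).trans e₀
  have he : ∀ x : ZMod p, e (x + 1) = (t : Equiv.Perm α) (e x) := fun x => by
    change e₀ (x + 1 + b / 2) = t₀ (e₀ (x + b / 2))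
    rw [← he₀, add_right_comm]
  have hie : ∀ x : ZMod p, (i : Equiv.Perm α) (e x) = e (-x) := fun x => by
    change (i : Equiv.Perm α) (e₀ (x + b / 2)) = e₀ (-x + b / 2)
    rw [hab]
    congr 1
    field_simp
    ring
  -- `i` fixes a coset
  obtain ⟨q, hq⟩ : ∃ q : G ⧸ H, i • q = q := by
    by_contra h
    push Not at h
    have hq : Nat.card (G ⧸ H) = p := hH
    letI : Fintype (G ⧸ H) := Fintype.ofFinite _
    have h1 := card_parity (Finset.univ : Finset (G ⧸ H)) (i • ·) (fun _ _ => Finset.mem_univ _)
      (fun x _ => by rw [← mul_smul, hi2, one_smul])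
    rw [Finset.filter_false_of_mem (fun x _ => h x), Finset.card_empty, Nat.cast_zero,
      Finset.card_univ, ← Nat.card_eq_fintype_card, hq, ZMod.natCast_eq_zero_iff] at h1
    exact hp2 ((Nat.prime_dvd_prime_iff_eq Nat.prime_two hp).mp h1).symm
  obtain ⟨g, rfl⟩ := QuotientGroup.mk_surjective q
  have hgi : g⁻¹ * i * g ∈ H := by
    have h1 : ((i * g : G) : G ⧸ H) = (g : G ⧸ H) := hq
    rw [QuotientGroup.eq] at h1
    have := H.inv_mem h1
    simpa [mul_assoc] using this
  obtain ⟨c, hc⟩ := main_case hp2 hα G t ht e he i hie (H.map (MulEquiv.toMonoidHom (MulAut.conj g)))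
    (by
      have h2 := Subgroup.card_mul_index H
      rw [← Subgroup.card_mul_index (H.map (MulEquiv.toMonoidHom (MulAut.conj g))),
        Subgroup.card_map_of_injective (MulAut.conj g).injective] at h2
      rw [← hH]
      exact (Nat.eq_of_mul_eq_mul_left Nat.card_pos h2).symm)
    ⟨_, hgi, by simp [mul_assoc]⟩
  refine ⟨g⁻¹ • c, Subgroup.eq_of_le_of_card_ge ?_ (hstab _).ge⟩
  intro h hh
  have := hc _ ⟨h, hh, rfl⟩
  change (g * h * g⁻¹) • c = c at this
  rw [MulAction.mem_stabilizer_iff, eq_inv_smul_iff, ← mul_smul, ← mul_smul]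
  exact this

end Cfsg.Agent.S0677
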