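import Mathlib
import Cfsg.Statements.S0680
import Cfsg.Agent.Lib.SharplyTwoTransitive

set_option autoImplicit false
open Cfsg

namespace Cfsg.Agent.S0680
/-- Sharpness in terms of pairs of points. -/
theorem sharp_pairs {α : Type*} (G : Subgroup (Equiv.Perm α))
    (hsharp : ∀ x : Fin 2 ↪ α, MulAction.stabilizer G x = ⊥) (g : G) (a b : α) (hab : a ≠ b)
    (ha : g • a = a) (hb : g • b = b) : g = 1 := by
  let x : Fin 2 ↪ α := ⟨![a, b], fun i j => by
    fin_cases i <;> fin_cases j <;> simp [hab, hab.symm]⟩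
  have hx : g ∈ MulAction.stabilizer G x := by
    rw [MulAction.mem_stabilizer_iff]
    ext i
    fin_cases i
    · exact ha
    · exact hb
  rw [hsharp] at hx
  exact Subgroup.mem_bot.mp hx



/-- A finite sharply doubly transitive permutation group has degree a prime power `p ^ j`; a Sylow `p`-subgroup is normal, elementary abelian and regular, and consists of the identity together with the elements without fixed points. (Frobenius' Theorem is not needed.) -/
theorem result {α : Type*} [Fintype α] [DecidableEq α] (G : Subgroup (Equiv.Perm α)) [MulAction.IsMultiplyPretransitive G α 2] (hsharp : ∀ x : Fin 2 ↪ α, MulAction.stabilizer G x = ⊥) (h2 : 2 ≤ Fintype.card α) : ∃ p j : ℕ, p.Prime ∧ 1 ≤ j ∧ Fintype.card α = p ^ j ∧ ∀ (hp : Fact p.Prime) (P : Sylow p G), (P : Subgroup G).Normal ∧ IsMulCommutative (P : Subgroup G) ∧ (∀ x ∈ (P : Subgroup G), x ^ p = 1) ∧ MulAction.IsPretransitive (P : Subgroup G) α ∧ (∀ a : α, MulAction.stabilizer (P : Subgroup G) a = ⊥) ∧ ∀ g : G, g ∈ (P : Subgroup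 G) ↔ g = 1 ∨ ∀ a : α, g • a ≠ a := by
  rw [← Nat.card_eq_fintype_card] at h2 ⊢
  obtain ⟨K, p, j, hp, hj, hn, hK, hG, hKn, hcomm, hpow, hmem, htr⟩ :=
    Cfsg.Agent.SharplyTwoTransitive.kernel_exists (G := G) (X := α) inferInstance
      (sharp_pairs G hsharp) h2
  refine ⟨p, j, hp, hj, hn, fun hpf P => ?_⟩
  haveI := hpf
  have hKS : Nat.card K = p ^ (Nat.card G).factorization p := by
    rw [hK]
    congr 1
    have hnd : ¬ p ∣ p ^ j - 1 := fun h => by
      have h1 := Nat.dvd_sub (dvd_pow_self p (by omega : j ≠ 0)) h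
      rw [show p ^ j - (p ^ j - 1) = 1 by have := hp.pos; have := pow_pos this j; omega] at h1
      exact hp.one_lt.ne' (Nat.dvd_one.mp h1)
    have hne : p ^ j - 1 ≠ 0 := fun e => hnd (e ▸ dvd_zero p)
    rw [hG, Nat.factorization_mul (pow_ne_zero _ hp.ne_zero) hne, Finsupp.add_apply,
      Nat.factorization_eq_zero_of_not_dvd hnd, add_zero, hp.factorization_pow,
      Finsupp.single_eq_same]
  let Q : Sylow p G := Sylow.ofCard K hKS
  haveI : (Q : Subgroup G).Normal := hKn
  haveI : Subsingleton (Sylow p G) := by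
    have := Sylow.card_eq_index_normalizer Q
    rw [show Subgroup.normalizer (Q : Set G) = ⊤ from Subgroup.normalizer_eq_top_iff.mpr hKn,
      Subgroup.index_top] at this
    exact (Nat.card_eq_one_iff_unique.mp this).1
  have hPK : (P : Subgroup G) = K := congrArg Sylow.toSubgroup (Subsingleton.elim P Q)
  rw [hPK]
  refine ⟨hKn, ⟨⟨fun a b => Subtype.ext (hcomm a a.2 b b.2)⟩⟩, hpow, htr, fun a => ?_, hmem⟩
  apply Cfsg.Agent.PermBasic.stabilizer_eq_bot_of_card_eq
  rw [hK, hn]

end Cfsg.Agent.S0680
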