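import Mathlib
import Cfsg.Statements.S0681

set_option autoImplicit false
open Cfsg

namespace Cfsg.Agent.S0681


/-- The affine maps `x ↦ x * a + b`, `a ≠ 0`, of a near-field form a sharply doubly transitive permutation group. -/
theorem result {F : Type*} [Cfsg.NearField F] : ∃ H : Subgroup (Equiv.Perm F), (∀ σ : Equiv.Perm F, σ ∈ H ↔ ∃ a b : F, a ≠ 0 ∧ ∀ x : F, σ x = x * a + b) ∧ MulAction.IsMultiplyPretransitive H F 2 ∧ ∀ x : Fin 2 ↪ F, MulAction.stabilizer H x = ⊥ := by
  classical
  let affine : (a : F) → a ≠ 0 → (b : F) → Equiv.Perm F := fun a ha b =>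
    { toFun := fun x => x * a + b
      invFun := fun y => (y + -b) * (Cfsg.NearField.exists_inv a ha).choose
      left_inv := fun x => by
        have h := (Cfsg.NearField.exists_inv a ha).choose_spec.1
        simp only [add_neg_cancel_right, mul_assoc, h, mul_one]
      right_inv := fun y => by
        have h := (Cfsg.NearField.exists_inv a ha).choose_spec.2
        simp only [mul_assoc, h, mul_one, neg_add_cancel_right] }
  have mne : ∀ a c : F, a ≠ 0 → c ≠ 0 → a * c ≠ 0 := by
    intro a c ha hc h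
    obtain ⟨d, hd, -⟩ := Cfsg.NearField.exists_inv c hc
    apply ha
    have h0 : (0 : F) * d = 0 := by
      have := Cfsg.NearField.right_distrib (0 : F) 0 d
      rw [add_zero] at this
      exact left_eq_add.mp this
    calc a = a * c * d := by rw [mul_assoc, hd, mul_one]
      _ = 0 := by rw [h, h0]
  let H : Subgroup (Equiv.Perm F) :=
    { carrier := {σ | ∃ a b : F, a ≠ 0 ∧ ∀ x : F, σ x = x * a + b}
      one_mem' := ⟨1, 0, fun h => Cfsg.NearField.zero_ne_one h.symm, fun x => by simp⟩
      mul_mem' := by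
        rintro σ τ ⟨a, b, ha, hσ⟩ ⟨c, d, hc, hτ⟩
        refine ⟨c * a, d * a + b, mne c a hc ha, fun x => ?_⟩
        rw [Equiv.Perm.mul_apply, hτ, hσ, Cfsg.NearField.right_distrib, mul_assoc, add_assoc]
      inv_mem' := by
        rintro σ ⟨a, b, ha, hσ⟩
        obtain ⟨c, hc1, hc2⟩ := Cfsg.NearField.exists_inv a ha
        refine ⟨c, -b * c, ?_, fun x => σ.injective ?_⟩
        · rintro rfl
          exact Cfsg.NearField.zero_ne_one ((Cfsg.NearField.mul_zero a).symm.trans hc1)
        · rw [Equiv.Perm.inv_def, Equiv.apply_symm_apply, hσ, ← Cfsg.NearField.right_distrib,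
            mul_assoc, hc2, mul_one, neg_add_cancel_right] }
  have neq : ∀ c d : F, c ≠ d → d + -c ≠ 0 := by
    intro c d h h'
    exact h (eq_of_sub_eq_zero ((sub_eq_add_neg d c).trans h')).symm
  refine ⟨H, fun σ => Iff.rfl, ?_, ?_⟩
  · rw [MulAction.is_two_pretransitive_iff]
    -- send (0,1) to any pair
    have key : ∀ c d : F, c ≠ d → ∃ h : H, h • (0 : F) = c ∧ h • (1 : F) = d := by
      intro c d hcd
      refine ⟨⟨affine (d + -c) (neq c d hcd) c, d + -c, c, neq c d hcd, fun x => rfl⟩, ?_, ?_⟩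
      · change (0 : F) * (d + -c) + c = c
        have := Cfsg.NearField.right_distrib (0 : F) 0 (d + -c)
        rw [add_zero] at this
        rw [left_eq_add.mp this, zero_add]
      · change (1 : F) * (d + -c) + c = d
        rw [one_mul, neg_add_cancel_right]
    intro a b c d hab hcd
    obtain ⟨h1, h1a, h1b⟩ := key a b hab
    obtain ⟨h2, h2a, h2b⟩ := key c d hcd
    exact ⟨h2 * h1⁻¹, by rw [← h1a, mul_smul, inv_smul_smul, h2a],
      by rw [← h1b, mul_smul, inv_smul_smul, h2b]⟩
  · intro x
    rw [eq_bot_iff]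
    rintro ⟨σ, a, b, ha, hσ⟩ hfix
    rw [Subgroup.mem_bot]
    have h0 : σ (x 0) = x 0 := DFunLike.congr_fun hfix 0
    have h1 : σ (x 1) = x 1 := DFunLike.congr_fun hfix 1
    rw [hσ] at h0 h1
    have hne : x 0 + -x 1 ≠ 0 := neq (x 1) (x 0) (fun h => by simpa using x.injective h)
    have e : (x 0 + -x 1) * a = x 0 + -x 1 := by
      have e1 : (x 0 + -x 1) * a + (x 1 * a + b) = x 0 * a + b := by
        rw [← add_assoc, ← Cfsg.NearField.right_distrib, neg_add_cancel_right]
      rw [h0, h1] at e1
      rw [← eq_add_neg_iff_add_eq] at e1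
      exact e1
    have ha1 : a = 1 := by
      obtain ⟨d, -, hd⟩ := Cfsg.NearField.exists_inv _ hne
      calc a = d * (x 0 + -x 1) * a := by rw [hd, one_mul]
        _ = 1 := by rw [mul_assoc, e, hd]
    subst ha1
    rw [mul_one] at h0
    have hb : b = 0 := add_eq_left.mp h0
    apply Subtype.ext
    ext y
    simp [hσ, hb]

end Cfsg.Agent.S0681
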