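import Mathlib
import Cfsg.Statements.S0682

set_option autoImplicit false
open Cfsg

namespace Cfsg.Agent.S0682


/-- A finite near-field has prime-power order; its additive group is commutative of prime exponent. -/
theorem result {F : Type*} [Cfsg.NearField F] [Finite F] : ∃ p j : ℕ, p.Prime ∧ 1 ≤ j ∧ Nat.card F = p ^ j ∧ (∀ x y : F, x + y = y + x) ∧ ∀ x : F, p • x = 0 := by
  classical
  -- right multiplication is an additive endomorphism
  let mulR : F → F →+ F := fun c => AddMonoidHom.mk' (fun x => x * c)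
    (fun a b => Cfsg.NearField.right_distrib a b c)
  have sameOrd : ∀ x y : F, x ≠ 0 → y ≠ 0 → addOrderOf y ∣ addOrderOf x := by
    intro x y hx hy
    obtain ⟨d, hd, hd'⟩ := Cfsg.NearField.exists_inv x hx
    have : mulR (d * y) x = y := by
      change x * (d * y) = y
      rw [← mul_assoc, hd, one_mul]
    rw [← this]
    exact addOrderOf_map_dvd _ x
  haveI : Nontrivial F := ⟨0, 1, Cfsg.NearField.zero_ne_one⟩
  let p := Nat.minFac (Nat.card F)
  have hcard : 1 < Nat.card F := Finite.one_lt_card
  have hp : p.Prime := Nat.minFac_prime (by omega)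
  haveI : Fact p.Prime := ⟨hp⟩
  obtain ⟨x₀, hx₀⟩ := exists_prime_addOrderOf_dvd_card' (G := F) p (Nat.minFac_dvd _)
  have hord : ∀ y : F, y ≠ 0 → addOrderOf y = p := by
    intro y hy
    have hx0 : x₀ ≠ 0 := by
      rintro rfl
      rw [addOrderOf_zero] at hx₀
      exact hp.ne_one hx₀.symm
    rw [← hx₀]
    exact Nat.dvd_antisymm (sameOrd x₀ y hx0 hy) (sameOrd y x₀ hy hx0)
  have hexp : ∀ y : F, p • y = 0 := by
    intro y
    rcases eq_or_ne y 0 with rfl | hy
    · exact nsmul_zero p
    · rw [← hord y hy]; exact addOrderOf_nsmul_eq_zero y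
  have hpg : IsPGroup p (Multiplicative F) := fun g => ⟨1, by
    rw [pow_one]; exact hexp g.toAdd⟩
  obtain ⟨n, hn⟩ := IsPGroup.iff_card.mp hpg
  have hn' : Nat.card F = p ^ n := hn
  have hn1 : 1 ≤ n := by
    rcases Nat.eq_zero_or_pos n with rfl | h
    · rw [pow_zero] at hn'; omega
    · exact h
  -- the centre is non-trivial, and right multiplications are transitive
  have hz : Nontrivial (Subgroup.center (Multiplicative F)) := hpg.center_nontrivial
  obtain ⟨⟨z, hz1⟩, hz2⟩ := exists_ne (1 : Subgroup.center (Multiplicative F))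
  have hz0 : z.toAdd ≠ 0 := fun h => hz2 (Subtype.ext (Multiplicative.toAdd.injective h))
  have hcomm : ∀ w : F, z.toAdd + w = w + z.toAdd := fun w =>
    congrArg Multiplicative.toAdd (Subgroup.mem_center_iff.mp hz1 (Multiplicative.ofAdd w)).symm
  refine ⟨p, n, hp, hn1, hn', fun x y => ?_, hexp⟩
  rcases eq_or_ne x 0 with rfl | hx
  · rw [zero_add, add_zero]
  obtain ⟨d, hd, -⟩ := Cfsg.NearField.exists_inv _ hz0
  obtain ⟨e, he, he'⟩ := Cfsg.NearField.exists_inv x hx
  have hzx : z.toAdd * (d * x) = x := by rw [← mul_assoc, hd, one_mul]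
  have := congrArg (fun w => w * (d * x)) (hcomm (y * (e * z.toAdd)))
  simp only [Cfsg.NearField.right_distrib, hzx] at this
  have h2 : y * (e * z.toAdd) * (d * x) = y := by
    rw [mul_assoc, mul_assoc, ← mul_assoc z.toAdd, hd, one_mul, he', mul_one]
  rw [h2] at this
  exact this

end Cfsg.Agent.S0682
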