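import Mathlib
import Cfsg.Statements.S0683
import Cfsg.Agent.S0680

set_option autoImplicit false
open Cfsg

namespace Cfsg.Agent.S0683


/-- A finite sharply doubly transitive permutation group is the affine group of a near-field: the permuted set carries a near-field structure for which the group consists exactly of the maps `x ↦ x * a + b` with `a ≠ 0`. -/
theorem result {α : Type*} [Fintype α] [DecidableEq α] (H : Subgroup (Equiv.Perm α)) [MulAction.IsMultiplyPretransitive H α 2] (hsharp : ∀ x : Fin 2 ↪ α, MulAction.stabilizer H x = ⊥) (h2 : 2 ≤ Fintype.card α) : ∃ _ : Cfsg.NearField α, ∀ σ : Equiv.Perm α, σ ∈ H ↔ ∃ a b : α, a ≠ 0 ∧ ∀ x : α, σ x = x * a + b := by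
  rw [← Nat.card_eq_fintype_card] at h2
  have hs := Cfsg.Agent.S0680.sharp_pairs H hsharp
  obtain ⟨K, p, j, -, -, hn, hK, -, hKn, hcomm, -, -, htr⟩ :=
    Cfsg.Agent.SharplyTwoTransitive.kernel_exists (G := H) (X := α) inferInstance hs h2
  haveI : Nontrivial α := Finite.one_lt_card_iff_nontrivial.mp (by omega)
  obtain ⟨o, u, hou⟩ := exists_pair_ne α
  have hKfree : MulAction.stabilizer K o = ⊥ :=
    Cfsg.Agent.PermBasic.stabilizer_eq_bot_of_card_eq (by rw [hK, hn]) o
  have hKbij := Cfsg.Agent.PermBasic.orbitMap_bijective hKfree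
  -- the translations
  choose k hk using hKbij.2
  have hkuniq : ∀ c d : K, c • o = d • o → c = d := fun c d e => hKbij.1 e
  have hk' : ∀ x, k x • o = x := hk
  let add : α → α → α := fun x y => (k x * k y) • o
  have hkadd : ∀ x y, k (add x y) = k x * k y := fun x y => hkuniq _ _ (hk' _)
  -- the multiplications
  have hex : ∀ a : α, a ≠ o → ∃ h : H, h • o = o ∧ h • u = a := fun a ha =>
    (MulAction.is_two_pretransitive_iff.mp ‹_›) hou (Ne.symm ha)
  choose m hmo hmu using hex
  have huniq : ∀ (h h' : H), h • o = o → h' • o = o → h • u = h' • u → h = h' := fun h h' e1 e2 e3 => by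
    have h1 : h'⁻¹ * h = 1 := hs _ o u hou (by rw [mul_smul, e1, inv_smul_eq_iff]; exact e2.symm)
      (by rw [mul_smul, e3, inv_smul_smul])
    exact (inv_mul_eq_one.mp h1).symm
  classical
  let mul : α → α → α := fun y a => if ha : a = o then o else m a ha • y
  have hmul0 : ∀ y, mul y o = o := fun y => dif_pos rfl
  have hmul : ∀ y a (ha : a ≠ o), mul y a = m a ha • y := fun y a ha => dif_neg ha
  have hne : ∀ (h : H), h • o = o → ∀ a, a ≠ o → h • a ≠ o := fun h e a ha e' =>
    ha (MulAction.injective h (e'.trans e.symm))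
  have hdist : ∀ (h : H), h • o = o → ∀ y z, h • add y z = add (h • y) (h • z) := by
    intro h e y z
    have hconj : ∀ y, (⟨h * (k y : H) * h⁻¹, hKn.conj_mem _ (k y).2 h⟩ : K) = k (h • y) := fun y => by
      refine hkuniq _ _ ?_
      rw [hk']
      change (h * (k y : H) * h⁻¹) • o = h • y
      rw [mul_smul, mul_smul, inv_smul_eq_iff.mpr e.symm]
      exact congrArg (h • ·) (hk' y)
    change h • (k y * k z) • o = (k (h • y) * k (h • z)) • o
    rw [← hconj, ← hconj]
    change h • ((k y : H) * (k z : H)) • o = ((h * (k y : H) * h⁻¹) * (h * (k z : H) * h⁻¹)) • o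
    rw [show (h * (k y : H) * h⁻¹) * (h * (k z : H) * h⁻¹) = h * ((k y : H) * (k z : H)) * h⁻¹ by group]
    simp only [mul_smul, inv_smul_eq_iff.mpr e.symm]
  letI izero : Zero α := ⟨o⟩
  letI iaddop : Add α := ⟨add⟩
  letI ineg : Neg α := ⟨fun x => (k x)⁻¹ • o⟩
  letI ione : One α := ⟨u⟩
  letI imulop : Mul α := ⟨mul⟩
  letI iadd : AddGroup α :=
    { add := add
      zero := o
      neg := fun x => (k x)⁻¹ • o
      nsmul := nsmulRec
      zsmul := zsmulRec
      nsmul_zero := fun _ => rfl
      nsmul_succ := fun _ _ => rfl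
      zsmul_zero' := fun _ => rfl
      zsmul_succ' := fun _ _ => rfl
      zsmul_neg' := fun _ _ => rfl
      add_assoc := fun x y z => by
        change (k (add x y) * k z) • o = (k x * k (add y z)) • o
        rw [hkadd, hkadd, mul_assoc]
      zero_add := fun x => by
        change (k o * k x) • o = x
        rw [hkuniq (k o) 1 (by rw [hk', one_smul]), one_mul, hk']
      add_zero := fun x => by
        change (k x * k o) • o = x
        rw [hkuniq (k o) 1 (by rw [hk', one_smul]), mul_one, hk']
      neg_add_cancel := fun x => by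
        change (k ((k x)⁻¹ • o) * k x) • o = o
        rw [hkuniq (k ((k x)⁻¹ • o)) (k x)⁻¹ (hk' _), inv_mul_cancel, one_smul] }
  letI imul : Monoid α :=
    { mul := mul
      one := u
      npow := npowRec
      npow_zero := fun _ => rfl
      npow_succ := fun _ _ => rfl
      mul_assoc := fun y a b => by
        change mul (mul y a) b = mul y (mul a b)
        rcases eq_or_ne b o with hb | hb
        · rw [hb, hmul0, hmul0, hmul0]
        rcases eq_or_ne a o with ha | ha
        · rw [ha, hmul0, hmul _ _ hb, hmo, hmul0]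
        have hab : mul a b ≠ o := hmul a b hb ▸ hne _ (hmo b hb) a ha
        rw [hmul _ _ ha, hmul _ _ hb, hmul _ _ hab, ← mul_smul]
        congr 1
        refine huniq _ _ (by rw [mul_smul, hmo, hmo]) (hmo _ _) ?_
        rw [mul_smul, hmu, hmu, hmul _ _ hb]
      one_mul := fun a => by
        change mul u a = a
        rcases eq_or_ne a o with ha | ha
        · rw [ha]; exact hmul0 u
        · rw [hmul _ _ ha, hmu]
      mul_one := fun y => by
        change mul y u = y
        rw [hmul _ _ hou.symm, huniq (m u hou.symm) 1 (hmo _ _) (one_smul _ _)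
          (by rw [hmu, one_smul]), one_smul] }
  refine ⟨{ iadd, imul with
    right_distrib := fun y z a => ?_
    mul_zero := fun y => hmul0 y
    zero_ne_one := hou
    exists_inv := fun a ha => ?_ }, ?_⟩
  · change mul (add y z) a = add (mul y a) (mul z a)
    rcases eq_or_ne a o with ha | ha
    · rw [ha, hmul0, hmul0, hmul0]
      change o = (k o * k o) • o
      rw [hkuniq (k o) 1 (by rw [hk', one_smul]), one_mul, one_smul]
    · rw [hmul _ _ ha, hmul _ _ ha, hmul _ _ ha, hdist _ (hmo a ha)]
  · replace ha : a ≠ o := ha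
    have e : (m a ha)⁻¹ • o = o := inv_smul_eq_iff.mpr (hmo a ha).symm
    have hb : (m a ha)⁻¹ • u ≠ o := hne _ e u hou.symm
    refine ⟨(m a ha)⁻¹ • u, ?_, ?_⟩
    · change mul a ((m a ha)⁻¹ • u) = u
      rw [hmul _ _ hb, huniq (m _ hb) (m a ha)⁻¹ (hmo _ _) e (hmu _ _), inv_smul_eq_iff]
      exact (hmu a ha).symm
    · change mul ((m a ha)⁻¹ • u) a = u
      rw [hmul _ _ ha, smul_inv_smul]
  · intro σ
    change σ ∈ H ↔ ∃ a b : α, a ≠ o ∧ ∀ x, σ x = add (mul x a) b
    have hform : ∀ a b (ha : a ≠ o) x, add (mul x a) b = ((k b : H) * m a ha) • x := by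
      intro a b ha x
      change (k (mul x a) * k b) • o = _
      rw [show k (mul x a) * k b = k b * k (mul x a) from
        Subtype.ext (hcomm _ (k (mul x a)).2 _ (k b).2), mul_smul, hk', hmul _ _ ha, mul_smul]
      rfl
    constructor
    · intro hσ
      let g : H := (k (σ o) : H)⁻¹ * ⟨σ, hσ⟩
      have hgo : g • o = o := by
        rw [mul_smul, inv_smul_eq_iff]
        exact (hk' (σ o)).symm
      refine ⟨g • u, σ o, hne g hgo u hou.symm, fun x => ?_⟩
      rw [hform _ _ (hne g hgo u hou.symm), huniq (m _ (hne g hgo u hou.symm)) g (hmo _ _) hgo (hmu _ _),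
        mul_inv_cancel_left]
      rfl
    · rintro ⟨a, b, ha, hx⟩
      have : σ = (((k b : H) * m a ha : H) : Equiv.Perm α) := Equiv.ext fun x => by
        rw [hx, hform a b ha]; rfl
      rw [this]
      exact SetLike.coe_mem _

end Cfsg.Agent.S0683
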