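import Mathlib
import Cfsg.Statements.S0685
import Cfsg.Agent.Lib.RegularLinear

set_option autoImplicit false
open Cfsg

namespace Cfsg.Agent.S0685


/-- In a linear group over the prime field that is regular on non-zero vectors and has no irreducible cyclic normal subgroup, a maximal normal abelian subgroup is properly contained in its centraliser, which is non-abelian. -/
theorem result {p : ℕ} [Fact p.Prime] {V : Type*} [AddCommGroup V] [Module (ZMod p) V] [Finite V] (H : Subgroup (V ≃ₗ[ZMod p] V)) (hreg : ∀ v w : V, v ≠ 0 → w ≠ 0 → ∃! h : H, (h : V ≃ₗ[ZMod p] V) v = w) (hI : ∀ A : Subgroup H, A.Normal → IsCyclic A → ∃ W : Submodule (ZMod p) V, W ≠ ⊥ ∧ W ≠ ⊤ ∧ ∀ a ∈ A, ∀ v ∈ W, ((a : H) : V ≃ₗ[ZMod p] V) v ∈ W) (A : Subgroup H) (hAn : A.Normal) (hAc : IsMulCommutative A) (hAmax : ∀ B : Subgroup H, B.Normal → IsMulCommutative B → A ≤ B → B = A) : A < Subgroup.centralizer (A : Set H) ∧ ¬ IsMulCommutative (Subgroup.centralizer (A : Set H)) := by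
  haveI := hAn
  set C := Subgroup.centralizer (A : Set H) with hC
  have hAC : A ≤ C := fun a ha b hb =>
    congrArg Subtype.val (hAc.is_comm.comm ⟨b, hb⟩ ⟨a, ha⟩)
  have hCA : IsMulCommutative C → C = A := fun h => hAmax C (by rw [hC]; infer_instance) h hAC
  suffices C ≠ A from ⟨lt_of_le_of_ne hAC (Ne.symm this), fun h => this (hCA h)⟩
  intro hEq
  rcases subsingleton_or_nontrivial V with hV | hV
  · haveI : Subsingleton H := ⟨fun a b => Subtype.ext (LinearEquiv.ext fun v => Subsingleton.elim _ _)⟩
    haveI : IsCyclic (⊥ : Subgroup H) := inferInstance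
    obtain ⟨W, hW, -⟩ := hI ⊥ inferInstance this
    exact hW (Subsingleton.elim _ _)
  haveI : Finite (V ≃ₗ[ZMod p] V) :=
    Finite.of_injective (fun e => (e : V → V)) DFunLike.coe_injective
  haveI : Finite (Module.End (ZMod p) V) :=
    Finite.of_injective (fun e => (e : V → V)) DFunLike.coe_injective
  let R := Cfsg.Agent.RegularLinear.envelope A
  haveI : Finite R := Subtype.finite
  have hinj : ∀ r ∈ R, ∀ v : V, v ≠ 0 → r v = 0 → r = 0 := fun r hr v hv h =>
    Cfsg.Agent.RegularLinear.envelope_injective hreg A hAc hr hv h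
  letI : CommRing R :=
    { (inferInstance : Ring R) with
      mul_comm := fun x y => by
        apply Subtype.ext
        refine Algebra.commute_of_mem_adjoin_of_forall_mem_commute (R := ZMod p)
          (s := Set.range fun a : A => (((a : H) : V ≃ₗ[ZMod p] V) : V →ₗ[ZMod p] V)) y.2 ?_
        rintro _ ⟨b, rfl⟩
        refine (Algebra.commute_of_mem_adjoin_of_forall_mem_commute (R := ZMod p)
          (s := Set.range fun a : A => (((a : H) : V ≃ₗ[ZMod p] V) : V →ₗ[ZMod p] V)) x.2 ?_).symm
        rintro _ ⟨a, rfl⟩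
        exact LinearMap.ext fun u => congrArg (fun z : A => ((z : H) : V ≃ₗ[ZMod p] V) u)
          (hAc.is_comm.comm b a) }
  haveI : Nontrivial R := by
    obtain ⟨v, hv⟩ := exists_ne (0 : V)
    exact ⟨⟨0, 1, fun e => hv (LinearMap.congr_fun (congrArg Subtype.val e) v).symm⟩⟩
  haveI : IsDomain R := by
    haveI : NoZeroDivisors R := ⟨fun {x y} h => by
      by_contra hc
      push Not at hc
      obtain ⟨v, hv⟩ : ∃ v, (y : Module.End (ZMod p) V) v ≠ 0 := by
        by_contra h0
        push Not at h0
        exact hc.2 (Subtype.ext (LinearMap.ext h0))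
      exact hc.1 (Subtype.ext (hinj x x.2 _ hv (LinearMap.congr_fun (congrArg Subtype.val h) v)))⟩
    exact NoZeroDivisors.to_isDomain R
  letI : Field R := (Finite.isDomain_to_isField R).toField
  letI : Module R V := Module.compHom V R.val.toRingHom
  haveI : Module.Finite R V := Module.Finite.of_finite
  set q := Nat.card R with hq
  have hV' : Nat.card V = q ^ Module.finrank R V := Module.natCard_eq_pow_finrank
  -- `V` is not one-dimensional over the envelope
  have hm : 2 ≤ Module.finrank R V := by
    by_contra hlt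
    obtain ⟨W, hW, hWtop, hWinv⟩ := hI A hAn (Cfsg.Agent.RegularLinear.isCyclic_of_comm hreg A hAc)
    obtain ⟨w, hw, hw0⟩ := (Submodule.ne_bot_iff _).mp hW
    apply hWtop
    rw [eq_top_iff]
    intro v _
    have h1 : Module.finrank R V = 1 := by
      have : 0 < Module.finrank R V := Module.finrank_pos
      omega
    obtain ⟨c, rfl⟩ := exists_smul_eq_of_finrank_eq_one h1 hw0 v
    have hle : ∀ x ∈ R, ∀ u ∈ W, (x : Module.End (ZMod p) V) u ∈ W := by
      intro x hx
      induction hx using Algebra.adjoin_induction with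
      | mem x hx =>
        obtain ⟨a, rfl⟩ := hx
        exact fun u hu => hWinv a a.2 u hu
      | algebraMap c =>
        intro u hu
        simpa [Module.algebraMap_end_apply] using W.smul_mem c hu
      | add x y _ _ hx hy => exact fun u hu => W.add_mem (hx u hu) (hy u hu)
      | mul x y _ _ hx hy => exact fun u hu => hx _ (hy u hu)
    exact hle _ c.2 w hw
  -- `H` acts on the field with kernel `A`
  let φ : H →* (R ≃ₐ[ZMod p] R) :=
    { toFun := fun h =>
        { toFun := fun r => ⟨_, Cfsg.Agent.RegularLinear.conjEnd_mem A h r.2⟩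
          invFun := fun r => ⟨_, Cfsg.Agent.RegularLinear.conjEnd_mem A h⁻¹ r.2⟩
          left_inv := fun r => Subtype.ext (LinearMap.ext fun v => by
            change (h : V ≃ₗ[ZMod p] V).symm ((h : V ≃ₗ[ZMod p] V) (r.1 ((h : V ≃ₗ[ZMod p] V).symm
              ((h : V ≃ₗ[ZMod p] V) v)))) = r.1 v
            simp)
          right_inv := fun r => Subtype.ext (LinearMap.ext fun v => by
            change (h : V ≃ₗ[ZMod p] V) ((h : V ≃ₗ[ZMod p] V).symm (r.1 ((h : V ≃ₗ[ZMod p] V)
              ((h : V ≃ₗ[ZMod p] V).symm v)))) = r.1 v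
            simp)
          map_mul' := fun x y => Subtype.ext (map_mul _ _ _)
          map_add' := fun x y => Subtype.ext (map_add _ _ _)
          commutes' := fun c => Subtype.ext (AlgEquiv.commutes _ c) }
      map_one' := AlgEquiv.ext fun r => rfl
      map_mul' := fun g k => AlgEquiv.ext fun r => rfl }
  have hker : φ.ker ≤ A := by
    intro h hh
    rw [← hEq]
    intro a ha
    apply Subtype.ext
    apply LinearEquiv.ext
    intro v
    have h1 : φ h ⟨_, Cfsg.Agent.RegularLinear.mem_envelope A ha⟩ =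
        ⟨_, Cfsg.Agent.RegularLinear.mem_envelope A ha⟩ := by rw [MonoidHom.mem_ker.mp hh]; rfl
    have h2 := LinearMap.congr_fun (congrArg Subtype.val h1) ((h : V ≃ₗ[ZMod p] V) v)
    change (h : V ≃ₗ[ZMod p] V) ((a : V ≃ₗ[ZMod p] V) ((h : V ≃ₗ[ZMod p] V).symm
      ((h : V ≃ₗ[ZMod p] V) v))) = (a : V ≃ₗ[ZMod p] V) ((h : V ≃ₗ[ZMod p] V) v) at h2
    rw [LinearEquiv.symm_apply_apply] at h2
    exact h2.symm
  have hAq : Nat.card A ≤ q - 1 := by
    letI : Fintype R := Fintype.ofFinite R
    classical
    have hne : ∀ a : A, (⟨_, Cfsg.Agent.RegularLinear.mem_envelope A a.2⟩ : R) ≠ 0 := fun a e => by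
      obtain ⟨v, hv⟩ := exists_ne (0 : V)
      exact hv (((a : H) : V ≃ₗ[ZMod p] V).injective
        ((LinearMap.congr_fun (congrArg Subtype.val e) v).trans (map_zero _).symm))
    refine le_trans (Nat.card_le_card_of_injective
      (fun a : A => (⟨_, hne a⟩ : {r : R // r ≠ 0})) ?_) ?_
    · intro a b e
      apply Subtype.ext
      apply Subtype.ext
      apply LinearEquiv.ext
      intro v
      exact LinearMap.congr_fun (congrArg Subtype.val (congrArg Subtype.val e)) v
    · rw [Nat.card_eq_fintype_card, Fintype.card_subtype_compl, Fintype.card_subtype_eq, hq,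
        Nat.card_eq_fintype_card]
  have haut : Nat.card (R ≃ₐ[ZMod p] R) = Module.finrank (ZMod p) R := IsGalois.card_aut_eq_finrank _ _
  have hqp : q = p ^ Module.finrank (ZMod p) R := by
    rw [hq, Module.natCard_eq_pow_finrank (K := ZMod p), Nat.card_zmod]
  have h1 : Nat.card H ≤ Nat.card A * Module.finrank (ZMod p) R := by
    rw [← Subgroup.card_mul_index φ.ker, ← haut]
    refine Nat.mul_le_mul (Nat.card_le_card_of_injective _ (Subgroup.inclusion_injective hker)) ?_
    rw [Subgroup.index_ker]
    exact Nat.card_le_card_of_injective _ Subtype.val_injective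
  rw [Cfsg.Agent.RegularLinear.card_eq_card_sub_one hreg, hV'] at h1
  set k := Module.finrank (ZMod p) R with hk
  have hkq : k < q := hqp ▸ Nat.lt_pow_self (Fact.out : p.Prime).one_lt
  have h2 : q ^ 2 ≤ q ^ Module.finrank R V := Nat.pow_le_pow_right (by omega) hm
  have h3 : Nat.card A * k ≤ (q - 1) * q := Nat.mul_le_mul hAq hkq.le
  have h4 : (q - 1) * q + q = q ^ 2 := by
    rw [pow_two]
    conv_rhs => rw [show q = (q - 1) + 1 by omega]
    rw [show q - 1 + 1 = q by omega]
    nlinarith [Nat.sub_add_cancel (show 1 ≤ q by omega)]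
  have h5 : 2 ≤ q := Finite.one_lt_card
  omega

end Cfsg.Agent.S0685
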