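import Mathlib
import Cfsg.Statements.S0687
import Cfsg.Agent.Lib.FpfRegular

set_option autoImplicit false
open Cfsg

namespace Cfsg.Agent.S0687


/-- In a linear group over the prime field that is regular on non-zero vectors and has no irreducible cyclic normal subgroup, a normal subgroup `N` minimal among the non-abelian normal subgroups centralising a maximal normal abelian subgroup `A` is irreducible on `V`, and its centraliser is `A`. -/
theorem result {p : ℕ} [Fact p.Prime] {V : Type*} [AddCommGroup V] [Module (ZMod p) V] [Finite V] (H : Subgroup (V ≃ₗ[ZMod p] V)) (hreg : ∀ v w : V, v ≠ 0 → w ≠ 0 → ∃! h : H, (h : V ≃ₗ[ZMod p] V) v = w) (hI : ∀ A : Subgroup H, A.Normal → IsCyclic A → ∃ W : Submodule (ZMod p) V, W ≠ ⊥ ∧ W ≠ ⊤ ∧ ∀ a ∈ A, ∀ v ∈ W, ((a : H) : V ≃ₗ[ZMod p] V) v ∈ W) (A : Subgroup H) (hAn : A.Normal) (hAc : IsMulCommutative A) (hAmax : ∀ B : Subgroup H, B.Normal → IsMulCommutative B → A ≤ B → B = A) (N : Subgroup H) (hNn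 : N.Normal) (hNle : N ≤ Subgroup.centralizer (A : Set H)) (hNna : ¬ IsMulCommutative N) (hNmin : ∀ M : Subgroup H, M.Normal → M ≤ N → ¬ IsMulCommutative M → M = N) : (∀ W : Submodule (ZMod p) V, (∀ n ∈ N, ∀ v ∈ W, ((n : H) : V ≃ₗ[ZMod p] V) v ∈ W) → W = ⊥ ∨ W = ⊤) ∧ Subgroup.centralizer (N : Set H) = A := by
  haveI : Finite (V ≃ₗ[ZMod p] V) := Finite.of_injective (fun e => (e : V → V)) DFunLike.coe_injective
  haveI : Nontrivial V := FpfRegular.nontrivial_of_irred H hI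
  haveI := hNn
  have h := FpfRegular.regular_subtype H hreg
  have hA := FpfRegular.maxAbelian_of hAn hAc hAmax
  obtain ⟨hV, -, hC⟩ := FpfRegular.master h hA N hNle (FpfRegular.minimal_shape h hA N hNle
    (FpfRegular.nonabelian_iff.1 hNna) (fun M hM hMN hMna => hNmin M hM hMN (FpfRegular.nonabelian_iff.2 hMna)))
  refine ⟨fun W hW => ?_, hC⟩
  by_contra hcon
  push Not at hcon
  obtain ⟨a, ha, b, hb, hab⟩ := FpfRegular.nonabelian_iff.1 hNna
  have hdim : Module.finrank (ZMod p) V = 2 := by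
    refine Nat.pow_right_injective (Fact.out : p.Prime).two_le ?_
    show p ^ Module.finrank (ZMod p) V = p ^ 2
    rw [← hV, Module.natCard_eq_pow_finrank (K := ZMod p) (V := V), Nat.card_zmod]
  have h1 : Module.finrank (ZMod p) W = 1 := by
    have := Submodule.finrank_lt hcon.2
    have : Module.finrank (ZMod p) W ≠ 0 := fun e0 => hcon.1 (Submodule.finrank_eq_zero.1 e0)
    omega
  haveI : Nontrivial W := Module.nontrivial_of_finrank_eq_succ h1
  obtain ⟨w, hw⟩ := exists_ne (0 : W)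
  obtain ⟨r, hr⟩ := exists_smul_eq_of_finrank_eq_one h1 hw ⟨_, hW a ha (w : V) w.2⟩
  obtain ⟨s, hs⟩ := exists_smul_eq_of_finrank_eq_one h1 hw ⟨_, hW b hb (w : V) w.2⟩
  have hr' : ((a : H) : V ≃ₗ[ZMod p] V) (w : V) = r • (w : V) := (congrArg Subtype.val hr).symm
  have hs' : ((b : H) : V ≃ₗ[ZMod p] V) (w : V) = s • (w : V) := (congrArg Subtype.val hs).symm
  have key : ((a * b : H) : V ≃ₗ[ZMod p] V) (w : V) = ((b * a : H) : V ≃ₗ[ZMod p] V) (w : V) := by
    show ((a : H) : V ≃ₗ[ZMod p] V) (((b : H) : V ≃ₗ[ZMod p] V) (w : V)) =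
      ((b : H) : V ≃ₗ[ZMod p] V) (((a : H) : V ≃ₗ[ZMod p] V) (w : V))
    rw [hs', map_smul, hr', map_smul, hs', smul_smul, smul_smul, mul_comm]
  apply hab
  obtain ⟨g, -, hg⟩ := hreg (w : V) (((a * b : H) : V ≃ₗ[ZMod p] V) (w : V)) (fun e0 => hw (Subtype.ext e0))
    (fun e0 => hw (Subtype.ext (((a * b : H) : V ≃ₗ[ZMod p] V).map_eq_zero_iff.1 e0)))
  exact (hg (a * b) rfl).trans (hg (b * a) key.symm).symm

end Cfsg.Agent.S0687
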