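import Mathlib
import Cfsg.Statements.S0689
import Cfsg.Agent.Lib.FpfRegular

set_option autoImplicit false
open Cfsg

namespace Cfsg.Agent.S0689


/-- The insoluble sharply doubly transitive groups: a non-solvable linear group over the prime field that is regular on the non-zero vectors of `V` occurs only for `|V| = 11², 29², 59²`, and is `SL(2,5) × C_m` with `m = 1, 7, 29` respectively. -/
theorem result {p : ℕ} [Fact p.Prime] {V : Type*} [AddCommGroup V] [Module (ZMod p) V] [Finite V] (H : Subgroup (V ≃ₗ[ZMod p] V)) (hreg : ∀ v w : V, v ≠ 0 → w ≠ 0 → ∃! h : H, (h : V ≃ₗ[ZMod p] V) v = w) (hsolv : ¬ Group.IsSolvable H) : (Nat.card V = 121 ∧ Nonempty (H ≃* Matrix.SpecialLinearGroup (Fin 2) (ZMod 5))) ∨ (Nat.card V = 841 ∧ Nonempty (H ≃* Matrix.SpecialLinearGroup (Fin 2) (ZMod 5) × Multiplicative (ZMod 7))) ∨ (Nat.card V = 3481 ∧ Nonempty (H ≃* Matrix.SpecialLinearGroup (Fin 2) (ZMod 5) × Multiplicative (ZMod 29))) := by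
  haveI : Finite (V ≃ₗ[ZMod p] V) := Finite.of_injective (fun e => (e : V → V)) DFunLike.coe_injective
  haveI : Nontrivial V := by
    by_contra hnt
    rw [not_nontrivial_iff_subsingleton] at hnt
    haveI : Subsingleton H := ⟨fun a b => Subtype.ext (LinearEquiv.ext fun v => Subsingleton.elim _ _)⟩
    exact hsolv (Group.isSolvable_of_comm fun a b => Subsingleton.elim _ _)
  obtain ⟨D, M, ⟨eD⟩, hM, ⟨f⟩, hcases⟩ := FpfRegular.nonsolvable (FpfRegular.regular_subtype H hreg) hsolv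
  have hcyc : ∀ k : ℕ, Nat.card M = k → Nonempty (H ≃* Matrix.SpecialLinearGroup (Fin 2) (ZMod 5) × Multiplicative (ZMod k)) := by
    intro k hk
    subst hk
    exact ⟨f.symm.trans (MulEquiv.prodCongr eD (zmodCyclicMulEquiv hM).symm)⟩
  rcases hcases with ⟨hV, hc⟩ | ⟨hV, hc⟩ | ⟨hV, hc⟩
  · obtain ⟨g⟩ := hcyc 1 hc
    haveI : Unique (Multiplicative (ZMod 1)) := { default := 1, uniq := fun _ => Subsingleton.elim _ _ }
    exact .inl ⟨hV, ⟨g.trans MulEquiv.prodUnique⟩⟩
  · exact .inr (.inl ⟨hV, hcyc 7 hc⟩)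
  · exact .inr (.inr ⟨hV, hcyc 29 hc⟩)

end Cfsg.Agent.S0689
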