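import Mathlib
import Cfsg.Statements.S0691
import Cfsg.Agent.Lib.RegularMatrixGroup

set_option autoImplicit false
open Cfsg

namespace Cfsg.Agent.S0691
/-- The generators. -/
def gens : List Cfsg.Agent.RegularMatrixGroup.Tup := [(2, 0, 0, 3), (0, 4, 1, 0), (1, 2, 1, 3)]

/-- How the elements arise from the generators. -/
def steps : List (ℕ × ℕ) := [(0, 0), (0, 1), (0, 2), (1, 0), (1, 1), (1, 2), (2, 0), (2, 2), (3, 0), (3, 2), (4, 0),
    (4, 1), (4, 2), (5, 2), (6, 2), (8, 0), (8, 2), (9, 1), (9, 2), (13, 2), (14, 2), (16, 2),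
    (18, 2)]

/-- The elements of the group generated. -/
def elems : List Cfsg.Agent.RegularMatrixGroup.Tup := [(1, 0, 0, 1), (2, 0, 0, 3), (0, 4, 1, 0), (1, 2, 1, 3), (4, 0, 0, 4), (0, 3, 3, 0),
    (2, 4, 3, 4), (0, 2, 2, 0), (4, 2, 1, 2), (2, 1, 2, 4), (3, 3, 4, 1), (3, 0, 0, 2),
    (0, 1, 4, 0), (4, 3, 4, 2), (3, 4, 3, 1), (1, 1, 2, 3), (3, 1, 2, 1), (1, 4, 3, 3),
    (1, 3, 4, 3), (3, 2, 1, 1), (2, 2, 1, 4), (2, 3, 4, 4), (4, 4, 3, 2), (4, 1, 2, 2)]

open Cfsg.Agent.RegularMatrixGroup in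
theorem elems_eq : elems = build 5 gens steps [(1, 0, 0, 1)] := by decide +kernel

open Cfsg.Agent.RegularMatrixGroup in
theorem elems_good : goodList 5 elems = true := by decide +kernel

open Cfsg.Agent.RegularMatrixGroup in
theorem elems_closed : closedList 5 gens elems = true := by decide +kernel

open Cfsg.Agent.RegularMatrixGroup in
theorem elems_free : ∀ x ∈ elems, x ≠ (1, 0, 0, 1) → detSubOne 5 x ≠ 0 ∧ detSubOne 5 x < 5 := by
  decide +kernel



/-- An exceptional sharply doubly transitive group of degree 5^2: the listed matrices generate a subgroup of GL(2,5) of order 24 acting regularly on the non-zero vectors. -/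
theorem result (A : Matrix.GeneralLinearGroup (Fin 2) (ZMod 5)) (B : Matrix.GeneralLinearGroup (Fin 2) (ZMod 5)) (C : Matrix.GeneralLinearGroup (Fin 2) (ZMod 5)) (hA : (A : Matrix (Fin 2) (Fin 2) (ZMod 5)) = !![2, 0; 0, -2]) (hB : (B : Matrix (Fin 2) (Fin 2) (ZMod 5)) = !![0, -1; 1, 0]) (hC : (C : Matrix (Fin 2) (Fin 2) (ZMod 5)) = !![1, 2; 1, -2]) : Nat.card (Subgroup.closure ({A, B, C} : Set (Matrix.GeneralLinearGroup (Fin 2) (ZMod 5)))) = 24 ∧ ∀ v w : Fin 2 → ZMod 5, v ≠ 0 → w ≠ 0 → ∃! h : Subgroup.closure ({A, B, C} : Set (Matrix.GeneralLinearGroup (Fin 2) (ZMod 5))), Matrix.mulVec ((h : Matrix.GeneralLinearGroup (Fin 2) (ZMod 5)) : Matrix (Fin 2) (Fin 2) (ZMod 5)) v = w := by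
  haveI : Fact (Nat.Prime 5) := ⟨by norm_num⟩
  have eA : (A : Matrix (Fin 2) (Fin 2) (ZMod 5)) = Cfsg.Agent.RegularMatrixGroup.toMat 5 (2, 0, 0, 3) := by
    rw [hA]; decide +kernel
  have eB : (B : Matrix (Fin 2) (Fin 2) (ZMod 5)) = Cfsg.Agent.RegularMatrixGroup.toMat 5 (0, 4, 1, 0) := by
    rw [hB]; decide +kernel
  have eC : (C : Matrix (Fin 2) (Fin 2) (ZMod 5)) = Cfsg.Agent.RegularMatrixGroup.toMat 5 (1, 2, 1, 3) := by
    rw [hC]; decide +kernel
  have hG1 : ∀ X ∈ ({A, B, C} : Set (Matrix.GeneralLinearGroup (Fin 2) (ZMod 5))), ∃ g ∈ gens,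
      (X : Matrix (Fin 2) (Fin 2) (ZMod 5)) = Cfsg.Agent.RegularMatrixGroup.toMat 5 g := by
    intro X hX
    rcases hX with rfl | rfl | rfl
    · exact ⟨(2, 0, 0, 3), by decide +kernel, eA⟩
    · exact ⟨(0, 4, 1, 0), by decide +kernel, eB⟩
    · exact ⟨(1, 2, 1, 3), by decide +kernel, eC⟩
  have hG2 : ∀ g ∈ gens, ∃ X ∈ ({A, B, C} : Set (Matrix.GeneralLinearGroup (Fin 2) (ZMod 5))),
      (X : Matrix (Fin 2) (Fin 2) (ZMod 5)) = Cfsg.Agent.RegularMatrixGroup.toMat 5 g := by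
    intro g hg
    simp only [gens, List.mem_cons, List.not_mem_nil, or_false] at hg
    rcases hg with rfl | rfl | rfl
    · exact ⟨A, by simp, eA⟩
    · exact ⟨B, by simp, eB⟩
    · exact ⟨C, by simp, eC⟩
  have hcard := Cfsg.Agent.RegularMatrixGroup.card_closure gens steps _ hG1 hG2 elems elems_eq
    elems_closed elems_good
  rw [show elems.length = 24 from rfl] at hcard
  refine ⟨hcard, Cfsg.Agent.RegularMatrixGroup.regular_of_free _ hcard fun X hX hX1 => ?_⟩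
  obtain ⟨x, hx, hxe⟩ := (Cfsg.Agent.RegularMatrixGroup.mem_closure_iff gens steps _ hG1 hG2
    elems elems_eq elems_closed X).mp hX
  have hne : x ≠ (1, 0, 0, 1) := by
    rintro rfl
    exact hX1 (Units.ext (hxe.trans (Cfsg.Agent.RegularMatrixGroup.toMat_one 5)))
  obtain ⟨h0, hlt⟩ := elems_free x hx hne
  rw [hxe, ← Cfsg.Agent.RegularMatrixGroup.det_sub_one, Ne, ZMod.natCast_eq_zero_iff]
  exact fun hd => h0 (Nat.eq_zero_of_dvd_of_lt hd hlt)

end Cfsg.Agent.S0691
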