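import Mathlib
import Cfsg.Statements.S0692
import Cfsg.Agent.Lib.RegularMatrixGroup

set_option autoImplicit false
open Cfsg

namespace Cfsg.Agent.S0692
/-- The generators. -/
def gens : List Cfsg.Agent.RegularMatrixGroup.Tup := [(0, 10, 1, 0), (2, 4, 1, 8)]

/-- How the elements arise from the generators. -/
def steps : List (ℕ × ℕ) := [(0, 0), (0, 1), (1, 0), (1, 1), (2, 0), (2, 1), (3, 0), (3, 1), (4, 0), (4, 1), (5, 1),
    (6, 0), (7, 1), (8, 0), (8, 1), (9, 1), (10, 0), (11, 0), (11, 1), (12, 1), (13, 0),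
    (13, 1), (14, 1), (15, 0), (16, 0), (16, 1), (17, 1), (18, 1), (19, 0), (20, 0), (20, 1),
    (21, 1), (22, 0), (23, 0), (23, 1), (24, 1), (25, 1), (26, 0), (27, 0), (27, 1), (28, 1),
    (29, 1), (30, 1), (32, 0), (32, 1), (33, 1), (34, 1), (35, 0), (36, 0), (36, 1), (37, 1),
    (38, 1), (39, 1), (41, 0), (42, 0), (42, 1), (43, 1), (44, 1), (45, 0), (46, 0), (46, 1),
    (47, 1), (48, 1), (49, 1), (51, 0), (52, 0), (52, 1), (53, 1), (54, 1), (55, 1), (57, 0),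
    (58, 1), (59, 1), (60, 1), (62, 0), (63, 0), (63, 1), (64, 1), (65, 1), (66, 1), (68, 0),
    (69, 0), (69, 1), (70, 1), (71, 1), (72, 0), (73, 0), (73, 1), (74, 1), (75, 1), (76, 1),
    (78, 0), (79, 0), (79, 1), (80, 1), (81, 1), (82, 1), (84, 0), (85, 0), (86, 1), (87, 1),
    (90, 0), (90, 1), (91, 1), (92, 1), (95, 0), (96, 0), (97, 1), (98, 1), (99, 1), (100, 0),
    (100, 1), (101, 1), (105, 0), (106, 1), (107, 1), (108, 0), (109, 0), (110, 1)]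

/-- The elements of the group generated. -/
def elems : List Cfsg.Agent.RegularMatrixGroup.Tup := [(1, 0, 0, 1), (0, 10, 1, 0), (2, 4, 1, 8), (10, 0, 0, 10), (10, 3, 2, 4), (4, 9, 8, 10),
    (8, 7, 10, 2), (0, 1, 10, 0), (9, 7, 10, 3), (3, 1, 4, 9), (1, 9, 8, 7), (6, 0, 4, 2),
    (7, 3, 2, 1), (1, 8, 9, 7), (7, 2, 3, 1), (3, 4, 1, 9), (7, 9, 6, 0), (9, 10, 7, 3),
    (0, 5, 2, 7), (1, 2, 10, 10), (6, 8, 5, 5), (8, 10, 7, 2), (10, 2, 3, 4), (5, 0, 7, 9),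
    (4, 8, 9, 10), (9, 4, 0, 5), (1, 1, 1, 2), (6, 6, 6, 8), (5, 7, 0, 9), (2, 10, 10, 1),
    (8, 5, 5, 6), (9, 0, 4, 5), (4, 2, 5, 0), (2, 1, 4, 8), (0, 6, 9, 4), (10, 9, 1, 1),
    (5, 3, 6, 6), (0, 2, 5, 7), (1, 10, 2, 10), (6, 5, 8, 5), (7, 6, 9, 0), (6, 10, 9, 6),
    (3, 0, 10, 4), (10, 6, 5, 2), (2, 7, 0, 6), (10, 10, 10, 9), (5, 5, 5, 3), (6, 4, 0, 2),
    (9, 1, 1, 10), (3, 6, 6, 5), (2, 0, 7, 6), (2, 5, 6, 10), (1, 7, 3, 0), (6, 9, 10, 6),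
    (10, 5, 6, 2), (0, 8, 4, 1), (6, 1, 2, 6), (4, 0, 1, 3), (0, 9, 6, 4), (10, 1, 9, 1),
    (5, 6, 3, 6), (4, 5, 2, 0), (5, 1, 2, 5), (8, 0, 1, 7), (1, 5, 6, 9), (5, 9, 10, 5),
    (7, 10, 0, 8), (9, 5, 6, 1), (10, 8, 4, 0), (3, 3, 3, 7), (8, 9, 9, 2), (0, 7, 3, 10),
    (9, 6, 5, 1), (10, 4, 8, 0), (5, 2, 1, 5), (1, 6, 5, 9), (0, 3, 7, 10), (5, 10, 9, 5),
    (7, 0, 10, 8), (8, 4, 3, 3), (2, 9, 8, 9), (8, 1, 0, 7), (3, 8, 7, 8), (9, 3, 2, 2),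
    (3, 5, 9, 8), (7, 1, 5, 4), (6, 2, 1, 6), (4, 1, 0, 3), (2, 6, 5, 10), (1, 3, 7, 0),
    (8, 8, 8, 4), (3, 2, 2, 9), (0, 4, 8, 1), (4, 3, 3, 8), (9, 9, 9, 3), (2, 3, 3, 5),
    (6, 7, 7, 1), (3, 10, 0, 4), (5, 8, 8, 2), (1, 4, 4, 6), (3, 7, 8, 8), (9, 2, 3, 2),
    (8, 3, 4, 3), (2, 8, 9, 9), (8, 6, 2, 3), (4, 10, 6, 7), (3, 9, 5, 8), (7, 5, 1, 4),
    (5, 4, 4, 10), (7, 7, 7, 4), (6, 3, 3, 9), (7, 8, 8, 3), (2, 2, 2, 8), (9, 8, 8, 6),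
    (10, 7, 7, 5), (4, 7, 7, 7), (8, 2, 6, 3), (4, 6, 10, 7), (7, 4, 4, 4), (4, 4, 4, 7)]

open Cfsg.Agent.RegularMatrixGroup in
theorem elems_eq : elems = build 11 gens steps [(1, 0, 0, 1)] := by decide +kernel

open Cfsg.Agent.RegularMatrixGroup in
theorem elems_good : goodList 11 elems = true := by decide +kernel

open Cfsg.Agent.RegularMatrixGroup in
theorem elems_closed : closedList 11 gens elems = true := by decide +kernel

open Cfsg.Agent.RegularMatrixGroup in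
theorem elems_free : ∀ x ∈ elems, x ≠ (1, 0, 0, 1) → detSubOne 11 x ≠ 0 ∧ detSubOne 11 x < 11 := by
  decide +kernel



/-- An exceptional sharply doubly transitive group of degree 11^2: the listed matrices generate a subgroup of GL(2,11) of order 120 acting regularly on the non-zero vectors. -/
theorem result (A : Matrix.GeneralLinearGroup (Fin 2) (ZMod 11)) (B : Matrix.GeneralLinearGroup (Fin 2) (ZMod 11)) (hA : (A : Matrix (Fin 2) (Fin 2) (ZMod 11)) = !![0, -1; 1, 0]) (hB : (B : Matrix (Fin 2) (Fin 2) (ZMod 11)) = !![2, 4; 1, -3]) : Nat.card (Subgroup.closure ({A, B} : Set (Matrix.GeneralLinearGroup (Fin 2) (ZMod 11)))) = 120 ∧ ∀ v w : Fin 2 → ZMod 11, v ≠ 0 → w ≠ 0 → ∃! h : Subgroup.closure ({A, B} : Set (Matrix.GeneralLinearGroup (Fin 2) (ZMod 11))), Matrix.mulVec ((h : Matrix.GeneralLinearGroup (Fin 2) (ZMod 11)) : Matrix (Fin 2) (Fin 2) (ZMod 11)) v = w := by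
  haveI : Fact (Nat.Prime 11) := ⟨by norm_num⟩
  have eA : (A : Matrix (Fin 2) (Fin 2) (ZMod 11)) = Cfsg.Agent.RegularMatrixGroup.toMat 11 (0, 10, 1, 0) := by
    rw [hA]; decide +kernel
  have eB : (B : Matrix (Fin 2) (Fin 2) (ZMod 11)) = Cfsg.Agent.RegularMatrixGroup.toMat 11 (2, 4, 1, 8) := by
    rw [hB]; decide +kernel
  have hG1 : ∀ X ∈ ({A, B} : Set (Matrix.GeneralLinearGroup (Fin 2) (ZMod 11))), ∃ g ∈ gens,
      (X : Matrix (Fin 2) (Fin 2) (ZMod 11)) = Cfsg.Agent.RegularMatrixGroup.toMat 11 g := by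
    intro X hX
    rcases hX with rfl | rfl
    · exact ⟨(0, 10, 1, 0), by decide +kernel, eA⟩
    · exact ⟨(2, 4, 1, 8), by decide +kernel, eB⟩
  have hG2 : ∀ g ∈ gens, ∃ X ∈ ({A, B} : Set (Matrix.GeneralLinearGroup (Fin 2) (ZMod 11))),
      (X : Matrix (Fin 2) (Fin 2) (ZMod 11)) = Cfsg.Agent.RegularMatrixGroup.toMat 11 g := by
    intro g hg
    simp only [gens, List.mem_cons, List.not_mem_nil, or_false] at hg
    rcases hg with rfl | rfl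
    · exact ⟨A, by simp, eA⟩
    · exact ⟨B, by simp, eB⟩
  have hcard := Cfsg.Agent.RegularMatrixGroup.card_closure gens steps _ hG1 hG2 elems elems_eq
    elems_closed elems_good
  rw [show elems.length = 120 from rfl] at hcard
  refine ⟨hcard, Cfsg.Agent.RegularMatrixGroup.regular_of_free _ hcard fun X hX hX1 => ?_⟩
  obtain ⟨x, hx, hxe⟩ := (Cfsg.Agent.RegularMatrixGroup.mem_closure_iff gens steps _ hG1 hG2
    elems elems_eq elems_closed X).mp hX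
  have hne : x ≠ (1, 0, 0, 1) := by
    rintro rfl
    exact hX1 (Units.ext (hxe.trans (Cfsg.Agent.RegularMatrixGroup.toMat_one 11)))
  obtain ⟨h0, hlt⟩ := elems_free x hx hne
  rw [hxe, ← Cfsg.Agent.RegularMatrixGroup.det_sub_one, Ne, ZMod.natCast_eq_zero_iff]
  exact fun hd => h0 (Nat.eq_zero_of_dvd_of_lt hd hlt)

end Cfsg.Agent.S0692
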