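import Mathlib
import Cfsg.Statements.S0693
import Cfsg.Agent.Lib.RegularMatrixGroup

set_option autoImplicit false
open Cfsg

namespace Cfsg.Agent.S0693
/-- The generators. -/
def gens : List Cfsg.Agent.RegularMatrixGroup.Tup := [(0, 58, 1, 0), (9, 15, 49, 49)]

/-- How the elements arise from the generators. -/
def steps : List (ℕ × ℕ) := [(0, 0), (0, 1), (1, 0), (1, 1), (2, 0), (2, 1), (3, 0), (3, 1), (4, 0), (4, 1), (5, 1),
    (6, 0), (7, 1), (8, 0), (8, 1), (9, 1), (10, 0), (11, 0), (11, 1), (12, 1), (13, 0),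
    (13, 1), (14, 1), (15, 0), (16, 0), (16, 1), (17, 1), (18, 1), (19, 0), (20, 0), (20, 1),
    (21, 1), (22, 0), (23, 0), (23, 1), (24, 1), (25, 1), (26, 0), (27, 0), (27, 1), (28, 1),
    (29, 1), (30, 1), (32, 0), (32, 1), (33, 1), (34, 1), (35, 0), (36, 0), (36, 1), (37, 1),
    (38, 1), (39, 1), (41, 0), (42, 0), (42, 1), (43, 1), (44, 1), (45, 0), (46, 0), (46, 1),
    (47, 1), (48, 1), (49, 1), (51, 0), (52, 0), (52, 1), (53, 1), (54, 1), (55, 1), (57, 0),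
    (58, 1), (59, 1), (60, 1), (62, 0), (63, 0), (63, 1), (64, 1), (65, 1), (66, 1), (68, 0),
    (69, 0), (69, 1), (70, 1), (71, 1), (72, 0), (73, 0), (73, 1), (74, 1), (75, 1), (76, 1),
    (78, 0), (79, 0), (79, 1), (80, 1), (81, 1), (82, 1), (84, 0), (85, 0), (86, 1), (87, 1),
    (90, 0), (90, 1), (91, 1), (92, 1), (95, 0), (96, 0), (97, 1), (98, 1), (99, 1), (100, 0),
    (100, 1), (101, 1), (105, 0), (106, 1), (107, 1), (108, 0), (109, 0), (110, 1)]

/-- The elements of the group generated. -/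
def elems : List Cfsg.Agent.RegularMatrixGroup.Tup := [(1, 0, 0, 1), (0, 58, 1, 0), (9, 15, 49, 49), (58, 0, 0, 58), (10, 10, 9, 15),
    (15, 50, 49, 10), (49, 44, 10, 9), (0, 1, 58, 0), (50, 44, 10, 10), (10, 49, 15, 50),
    (49, 50, 49, 44), (48, 20, 46, 45), (44, 10, 9, 49), (49, 49, 50, 44), (44, 9, 10, 49),
    (10, 15, 49, 50), (13, 14, 48, 20), (50, 10, 44, 10), (20, 11, 45, 13), (55, 48, 23, 4),
    (1, 29, 4, 58), (49, 10, 44, 9), (10, 9, 10, 15), (11, 39, 13, 14), (15, 49, 50, 10),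
    (14, 46, 20, 11), (36, 55, 55, 48), (55, 1, 1, 29), (11, 13, 39, 14), (48, 4, 4, 36),
    (29, 58, 58, 55), (14, 20, 46, 11), (46, 45, 11, 39), (9, 49, 15, 49), (39, 48, 14, 46),
    (4, 11, 36, 55), (58, 30, 55, 1), (20, 45, 11, 13), (55, 23, 48, 4), (1, 4, 29, 58),
    (13, 48, 14, 20), (28, 35, 34, 32), (38, 31, 30, 54), (35, 32, 31, 25), (45, 13, 39, 48),
    (23, 4, 4, 11), (4, 58, 58, 30), (48, 46, 20, 45), (11, 55, 55, 23), (30, 1, 1, 4),
    (45, 39, 13, 48), (25, 27, 28, 35), (29, 5, 38, 31), (28, 34, 35, 32), (35, 31, 32, 25),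
    (31, 21, 54, 29), (32, 24, 25, 28), (54, 28, 29, 38), (39, 14, 48, 46), (4, 36, 11, 55),
    (58, 55, 30, 1), (46, 11, 45, 39), (31, 24, 25, 27), (21, 28, 29, 5), (24, 27, 28, 34),
    (27, 34, 35, 31), (5, 30, 31, 21), (34, 31, 32, 24), (30, 21, 54, 28), (5, 38, 38, 53),
    (10, 19, 19, 48), (28, 5, 38, 30), (34, 32, 31, 24), (30, 54, 21, 28), (31, 25, 24, 27),
    (24, 28, 27, 34), (28, 38, 5, 30), (27, 35, 34, 31), (5, 31, 30, 21), (21, 6, 5, 38),
    (40, 11, 10, 19), (21, 29, 28, 5), (38, 54, 53, 21), (19, 49, 48, 40), (18, 19, 45, 41),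
    (25, 16, 42, 34), (32, 25, 24, 28), (54, 29, 28, 38), (25, 28, 27, 35), (29, 38, 5, 31),
    (54, 21, 21, 6), (49, 40, 40, 11), (31, 54, 21, 29), (6, 38, 38, 54), (11, 19, 19, 49),
    (14, 18, 18, 19), (17, 25, 25, 16), (38, 30, 31, 54), (19, 41, 41, 14), (16, 34, 34, 17),
    (38, 53, 54, 21), (19, 48, 49, 40), (21, 5, 6, 38), (40, 10, 11, 19), (41, 40, 14, 18),
    (34, 43, 17, 25), (18, 45, 19, 41), (25, 42, 16, 34), (42, 34, 34, 43), (56, 52, 52, 3),
    (40, 18, 18, 45), (53, 21, 21, 5), (48, 40, 40, 10), (45, 41, 41, 40), (43, 25, 25, 42),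
    (7, 56, 56, 52), (41, 14, 40, 18), (34, 17, 43, 25), (52, 3, 3, 7), (3, 7, 7, 56)]

open Cfsg.Agent.RegularMatrixGroup in
theorem elems_eq : elems = build 59 gens steps [(1, 0, 0, 1)] := by decide +kernel

open Cfsg.Agent.RegularMatrixGroup in
theorem elems_good : goodList 59 elems = true := by decide +kernel

open Cfsg.Agent.RegularMatrixGroup in
theorem elems_closed : closedList 59 gens elems = true := by decide +kernel

/-- The scalar tuples. -/
def scal (k : ℕ) : Cfsg.Agent.RegularMatrixGroup.Tup := (4 ^ k % 59, 0, 0, 4 ^ k % 59)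

open Cfsg.Agent.RegularMatrixGroup in
theorem prods_free : ∀ k ∈ List.range 29, ∀ x ∈ elems,
    (k = 0 ∧ x = (1, 0, 0, 1)) ∨ (detSubOne 59 (mulT 59 x (scal k)) ≠ 0 ∧
      detSubOne 59 (mulT 59 x (scal k)) < 59) := by
  decide +kernel

theorem four_ne_one : (4 : ZMod 59) ≠ 1 := by decide



/-- An exceptional sharply doubly transitive group of degree 59^2: the listed matrices generate a subgroup of GL(2,59) of order 3480 acting regularly on the non-zero vectors. -/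
theorem result (A : Matrix.GeneralLinearGroup (Fin 2) (ZMod 59)) (B : Matrix.GeneralLinearGroup (Fin 2) (ZMod 59)) (C : Matrix.GeneralLinearGroup (Fin 2) (ZMod 59)) (hA : (A : Matrix (Fin 2) (Fin 2) (ZMod 59)) = !![0, -1; 1, 0]) (hB : (B : Matrix (Fin 2) (Fin 2) (ZMod 59)) = !![9, 15; -10, -10]) (hC : (C : Matrix (Fin 2) (Fin 2) (ZMod 59)) = !![4, 0; 0, 4]) : Nat.card (Subgroup.closure ({A, B, C} : Set (Matrix.GeneralLinearGroup (Fin 2) (ZMod 59)))) = 3480 ∧ ∀ v w : Fin 2 → ZMod 59, v ≠ 0 → w ≠ 0 → ∃! h : Subgroup.closure ({A, B, C} : Set (Matrix.GeneralLinearGroup (Fin 2) (ZMod 59))), Matrix.mulVec ((h : Matrix.GeneralLinearGroup (Fin 2) (ZMod 59)) : Matrix (Fin 2) (Fin 2) (ZMod 59)) v = w := by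
  haveI : Fact (Nat.Prime 59) := ⟨by norm_num⟩
  haveI : Fact (Nat.Prime 29) := ⟨by norm_num⟩
  have eA : (A : Matrix (Fin 2) (Fin 2) (ZMod 59)) = Cfsg.Agent.RegularMatrixGroup.toMat 59 (0, 58, 1, 0) := by
    rw [hA]; decide +kernel
  have eB : (B : Matrix (Fin 2) (Fin 2) (ZMod 59)) = Cfsg.Agent.RegularMatrixGroup.toMat 59 (9, 15, 49, 49) := by
    rw [hB]; decide +kernel
  set S : Set (Matrix.GeneralLinearGroup (Fin 2) (ZMod 59)) := {A, B} with hS
  have hG1 : ∀ X ∈ S, ∃ g ∈ gens,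
      (X : Matrix (Fin 2) (Fin 2) (ZMod 59)) = Cfsg.Agent.RegularMatrixGroup.toMat 59 g := by
    intro X hX
    rcases hX with rfl | rfl
    · exact ⟨(0, 58, 1, 0), by decide +kernel, eA⟩
    · exact ⟨(9, 15, 49, 49), by decide +kernel, eB⟩
  have hG2 : ∀ g ∈ gens, ∃ X ∈ S,
      (X : Matrix (Fin 2) (Fin 2) (ZMod 59)) = Cfsg.Agent.RegularMatrixGroup.toMat 59 g := by
    intro g hg
    simp only [gens, List.mem_cons, List.not_mem_nil, or_false] at hg
    rcases hg with rfl | rfl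
    · exact ⟨A, by simp [hS], eA⟩
    · exact ⟨B, by simp [hS], eB⟩
  set K := Subgroup.closure S with hK
  have hKc : Nat.card K = 120 :=
    Cfsg.Agent.RegularMatrixGroup.card_closure gens steps _ hG1 hG2 elems elems_eq
      elems_closed elems_good
  have hmem := Cfsg.Agent.RegularMatrixGroup.mem_closure_iff gens steps _ hG1 hG2
    elems elems_eq elems_closed
  have hCs : (C : Matrix (Fin 2) (Fin 2) (ZMod 59)) = (4 : ZMod 59) • 1 := by
    rw [hC]; ext i j; fin_cases i <;> fin_cases j <;> simp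
  have hCk : ∀ k : ℕ, ((C ^ k : Matrix.GeneralLinearGroup (Fin 2) (ZMod 59)) :
      Matrix (Fin 2) (Fin 2) (ZMod 59)) = Cfsg.Agent.RegularMatrixGroup.toMat 59 (scal k) := by
    intro k
    rw [Units.val_pow_eq_pow_val, hCs, smul_pow, one_pow]
    ext i j
    fin_cases i <;> fin_cases j <;>
      simp [Cfsg.Agent.RegularMatrixGroup.toMat, scal, ZMod.natCast_mod]
  have hcomm : ∀ X : Matrix.GeneralLinearGroup (Fin 2) (ZMod 59), C * X = X * C := fun X =>
    Units.ext (by simp [hCs])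
  haveI : (Subgroup.zpowers C).Normal := by
    refine ⟨fun c hc g => ?_⟩
    obtain ⟨k, rfl⟩ := Subgroup.mem_zpowers_iff.mp hc
    rw [show g * C ^ k * g⁻¹ = C ^ k by
      rw [← (Commute.zpow_left (hcomm g) k).eq, mul_inv_cancel_right]]
    exact Subgroup.zpow_mem _ (Subgroup.mem_zpowers C) k
  have hord : orderOf C = 29 := by
    refine orderOf_eq_prime (Units.ext ?_) (fun h => ?_)
    · rw [hCk]; decide +kernel
    · have h1 := congrFun (congrFun (congrArg
        (fun X : Matrix.GeneralLinearGroup (Fin 2) (ZMod 59) =>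
          (X : Matrix (Fin 2) (Fin 2) (ZMod 59))) h) 0) 0
      rw [hC] at h1
      simp at h1
      exact four_ne_one h1
  -- freeness
  have hfree : ∀ a ∈ K, ∀ k < 29, a * C ^ k ≠ 1 →
      (((a * C ^ k : Matrix.GeneralLinearGroup (Fin 2) (ZMod 59)) :
        Matrix (Fin 2) (Fin 2) (ZMod 59)) - 1).det ≠ 0 := by
    intro a ha k hk hne
    obtain ⟨x, hx, hxe⟩ := (hmem a).mp ha
    rw [Matrix.GeneralLinearGroup.coe_mul, hxe, hCk, ← Cfsg.Agent.RegularMatrixGroup.toMat_mulT,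
      ← Cfsg.Agent.RegularMatrixGroup.det_sub_one, Ne, ZMod.natCast_eq_zero_iff]
    rcases prods_free k (List.mem_range.mpr hk) x hx with ⟨rfl, rfl⟩ | ⟨h0, hlt⟩
    · exfalso
      apply hne
      rw [pow_zero, mul_one]
      exact Units.ext (hxe.trans (Cfsg.Agent.RegularMatrixGroup.toMat_one 59))
    · exact fun hd => h0 (Nat.eq_zero_of_dvd_of_lt hd hlt)
  have hone : ∀ a ∈ K, ∀ k < 29, a * C ^ k = 1 → a = 1 ∧ k = 0 := by
    intro a ha k hk he
    obtain ⟨x, hx, hxe⟩ := (hmem a).mp ha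
    rcases prods_free k (List.mem_range.mpr hk) x hx with ⟨rfl, rfl⟩ | ⟨h0, hlt⟩
    · exact ⟨Units.ext (hxe.trans (Cfsg.Agent.RegularMatrixGroup.toMat_one 59)), rfl⟩
    · exfalso
      apply h0
      refine Nat.eq_zero_of_dvd_of_lt ((ZMod.natCast_eq_zero_iff _ 59).mp ?_) hlt
      rw [Cfsg.Agent.RegularMatrixGroup.det_sub_one, Cfsg.Agent.RegularMatrixGroup.toMat_mulT,
        ← hxe, ← hCk, ← Matrix.GeneralLinearGroup.coe_mul, he, Matrix.GeneralLinearGroup.coe_one,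
        sub_self, Matrix.det_zero]
  have hmod : ∀ n : ℕ, C ^ (n % 29) = C ^ n := fun n => by
    conv_lhs => rw [show (29 : ℕ) = orderOf C from hord.symm, pow_mod_orderOf]
  set H := Subgroup.closure ({A, B, C} : Set (Matrix.GeneralLinearGroup (Fin 2) (ZMod 59))) with hH
  have hsplit : H = K ⊔ Subgroup.zpowers C := by
    rw [hH, hK, Subgroup.zpowers_eq_closure, ← Subgroup.closure_union]
    congr 1
    ext X
    simp [hS]
    tauto
  have hdec : ∀ X ∈ H, ∃ a ∈ K, ∃ k < 29, X = a * C ^ k := by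
    intro X hX
    rw [hsplit, Subgroup.mem_sup_of_normal_right] at hX
    obtain ⟨a, ha, c, hc, rfl⟩ := hX
    obtain ⟨k, rfl⟩ := (isOfFinOrder_of_finite C).mem_powers_iff_mem_zpowers.mpr hc
    exact ⟨a, ha, k % 29, Nat.mod_lt _ (by norm_num), by simp only [hmod]⟩
  let F : K × Fin 29 → H := fun v => ⟨v.1.1 * C ^ (v.2 : ℕ), by
    rw [hsplit]
    exact mul_mem (Subgroup.mem_sup_left v.1.2)
      (Subgroup.mem_sup_right (Subgroup.pow_mem _ (Subgroup.mem_zpowers C) _))⟩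
  have hF : Function.Bijective F := by
    constructor
    · rintro ⟨⟨a, ha⟩, i⟩ ⟨⟨b, hb⟩, j⟩ e
      have e' : a * C ^ (i : ℕ) = b * C ^ (j : ℕ) := congrArg Subtype.val e
      have e'' : b⁻¹ * a * C ^ (((i : ℕ) + (29 - (j : ℕ))) % 29) = 1 := by
        rw [hmod, pow_add, mul_assoc b⁻¹, ← mul_assoc a, e', ← mul_assoc,
          ← mul_assoc, inv_mul_cancel, one_mul, ← pow_add]
        have hj := j.isLt
        rw [show (j : ℕ) + (29 - (j : ℕ)) = orderOf C by omega, pow_orderOf_eq_one]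
      obtain ⟨h1, h2⟩ := hone _ (mul_mem (inv_mem hb) ha) _ (Nat.mod_lt _ (by norm_num)) e''
      obtain rfl := (inv_mul_eq_one.mp h1).symm
      have : i = j := Fin.ext (by have := i.isLt; have := j.isLt; omega)
      rw [this]
    · rintro ⟨X, hX⟩
      obtain ⟨a, ha, k, hk, rfl⟩ := hdec X hX
      exact ⟨(⟨a, ha⟩, ⟨k, hk⟩), rfl⟩
  have hcard : Nat.card H = 3480 := by
    rw [← Nat.card_eq_of_bijective F hF, Nat.card_prod, hKc, Nat.card_fin]
  refine ⟨hcard, Cfsg.Agent.RegularMatrixGroup.regular_of_free _ hcard fun X hX hX1 => ?_⟩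
  obtain ⟨a, ha, k, hk, rfl⟩ := hdec X hX
  exact hfree a ha k hk hX1

end Cfsg.Agent.S0693
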