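import Mathlib
import Cfsg.Statements.S0694

set_option autoImplicit false
open Cfsg

namespace Cfsg.Agent.S0694
theorem dvd_pow_sub_one (x : ℕ) (hx : 1 ≤ x) : ∀ n : ℕ, 0 < n → (∀ r, r.Prime → r ∣ n → r ∣ x - 1) →
    n * (x - 1) ∣ x ^ n - 1 := by
  intro n
  induction n using Nat.strong_induction_on with
  | _ n ih =>
    intro hn hdiv
    by_cases h1 : n = 1
    · subst h1; simp
    obtain ⟨r, hr, m, rfl⟩ := Nat.exists_prime_and_dvd h1
    have hm : 0 < m := Nat.pos_of_mul_pos_left hn
    have h2 := ih m ((lt_mul_iff_one_lt_left hm).2 hr.one_lt) hm (fun s hs hd => hdiv s hs (hd.mul_left r))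
    set Q := x ^ m with hQ
    have hQ1 : 1 ≤ Q := Nat.one_le_pow _ _ hx
    have hrQ : r ∣ ∑ i ∈ Finset.range r, Q ^ i := by
      haveI := Fact.mk hr
      rw [← ZMod.natCast_eq_zero_iff]
      have hQ' : ((Q : ℕ) : ZMod r) = 1 := by
        have hd : r ∣ Q - 1 := (hdiv r hr (dvd_mul_right r m)).trans ((Dvd.intro_left m rfl).trans h2)
        rw [← ZMod.natCast_eq_zero_iff, Nat.cast_sub hQ1, sub_eq_zero] at hd
        simpa using hd
      push_cast
      simp [hQ']
    rw [show x ^ (r * m) = Q ^ r by rw [hQ, ← pow_mul, mul_comm], ← geom_sum_mul_of_one_le hQ1 r, mul_assoc]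
    exact mul_dvd_mul hrQ h2

theorem val_pow_sub_one {r x m : ℕ} (hr : r.Prime) (hx : 1 < x) (hrx : r ∣ x - 1) (hm : m ≠ 0)
    (h2 : r = 2 → 4 ∣ x - 1 ∨ ¬ 2 ∣ m) :
    padicValNat r (x ^ m - 1) = padicValNat r (x - 1) + padicValNat r m := by
  haveI := Fact.mk hr
  have hnx : ¬ r ∣ x := fun h => hr.not_dvd_one (by
    have := Nat.dvd_sub h hrx; rwa [show x - (x - 1) = 1 by omega] at this)
  rcases hr.eq_two_or_odd' with rfl | hodd
  · rcases Nat.even_or_odd m with he | ho
    · have h4 : 4 ∣ x - 1 := (h2 rfl).resolve_right fun h => h (even_iff_two_dvd.1 he)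
      have h := padicValNat.pow_two_sub_one hx hnx hm he
      have h1 : padicValNat 2 (x + 1) = 1 := by
        obtain ⟨k, hk⟩ := h4
        rw [show x + 1 = 2 * (2 * k + 1) by omega, padicValNat.mul (by norm_num) (by omega),
          padicValNat.self (by norm_num), padicValNat.eq_zero_of_not_dvd (by omega)]
      omega
    · rw [padicValNat.eq_zero_of_not_dvd (n := m) (fun h => (Nat.not_even_iff_odd.2 ho) (even_iff_two_dvd.2 h)),
        add_zero, ← geom_sum_mul_of_one_le hx.le m]
      have hS : ¬ 2 ∣ ∑ i ∈ Finset.range m, x ^ i := by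
        rw [← ZMod.natCast_eq_zero_iff]
        push_cast
        have : ((x : ℕ) : ZMod 2) = 1 := by
          obtain ⟨k, hk⟩ := hrx
          rw [show x = 2 * k + 1 by omega]; push_cast; rw [show (2 : ZMod 2) = 0 from rfl]; simp
        obtain ⟨k, rfl⟩ := ho
        simp only [this, one_pow, Finset.sum_const, Finset.card_range, nsmul_eq_mul, mul_one]
        push_cast
        rw [show (2 : ZMod 2) = 0 from rfl]
        simp
      rw [padicValNat.mul (fun h => hS (by rw [h]; exact dvd_zero 2)) (by omega),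
        padicValNat.eq_zero_of_not_dvd hS, zero_add]
  · simpa using padicValNat.pow_sub_pow hodd (y := 1) hx hrx hnx hm

theorem dvd_div_prime {n g r : ℕ} (hn : 0 < n) (hr : r.Prime) (hg : g ∣ n)
    (hv : ¬ r ^ (n.factorization r) ∣ g) : g ∣ n / r := by
  obtain ⟨c, hc⟩ := hg
  have hrc : r ∣ c := by
    by_contra hrc
    refine hv ((Nat.Coprime.pow_left _ (hr.coprime_iff_not_dvd.2 hrc)).dvd_of_dvd_mul_right ?_)
    rw [← hc]; exact Nat.ordProj_dvd n r
  obtain ⟨e, rfl⟩ := hrc
  exact ⟨e, by rw [hc, show g * (r * e) = g * e * r by ring, Nat.mul_div_cancel _ hr.pos]⟩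

theorem order_divides {q n r : ℕ} (hq : 2 ≤ q) (hn : 0 < n) (hr : r.Prime) (hrn : r ∣ n)
    (hM : n * (q - 1) ∣ q ^ n - 1)
    (hk : ∀ t, t.Prime → ∃ k, ¬ r ^ (n.factorization r) ∣ k ∧
      t ^ (n.factorization t + (q - 1).factorization t) ∣ q ^ k - 1) :
    n * (q - 1) ∣ q ^ (n / r) - 1 := by
  rw [Nat.dvd_iff_prime_pow_dvd_dvd]
  intro t c ht hc
  obtain ⟨k, hrk, htk⟩ := hk t ht
  have hle : c ≤ n.factorization t + (q - 1).factorization t := by
    have h := (ht.pow_dvd_iff_le_factorization (Nat.mul_ne_zero hn.ne' (by omega))).1 hc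
    rwa [Nat.factorization_mul hn.ne' (by omega), Finsupp.add_apply] at h
  have h1 : t ^ c ∣ q ^ n - 1 := hc.trans hM
  have h2 : t ^ c ∣ q ^ k - 1 := (pow_dvd_pow t hle).trans htk
  have h3 := Nat.dvd_gcd h1 h2
  rw [Nat.pow_sub_one_gcd_pow_sub_one] at h3
  refine h3.trans ?_
  apply Nat.pow_sub_one_dvd_pow_sub_one
  exact dvd_div_prime hn hr (Nat.gcd_dvd_left n k) fun h => hrk (h.trans (Nat.gcd_dvd_right n k))

theorem odd_part {q n t : ℕ} (hq : 2 ≤ q) (ht : t.Prime) (htq : t ∣ q - 1) :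
    t ^ (n.factorization t + (q - 1).factorization t) ∣ q ^ (t ^ n.factorization t) - 1 := by
  have h := dvd_pow_sub_one q (by omega) (t ^ n.factorization t) (pow_pos ht.pos _) fun s hs hd => by
    rw [(Nat.prime_dvd_prime_iff_eq hs ht).1 (hs.dvd_of_dvd_pow hd)]; exact htq
  refine dvd_trans ?_ h
  rw [pow_add]
  exact mul_dvd_mul_left _ (Nat.ordProj_dvd _ _)


/-- The Dickson pair condition: for a prime power `q` and `n > 1`, (every prime factor of `n` divides `q - 1`, and `4 ∣ n → 4 ∣ q - 1`) holds exactly when `q ^ n ≡ 1` modulo `n * (q - 1)` but `q ^ i` is not, for `0 < i < n`. -/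
theorem result (q n : ℕ) (hq : IsPrimePow q) (hn : 1 < n) : ((∀ r : ℕ, r.Prime → r ∣ n → r ∣ q - 1) ∧ (4 ∣ n → 4 ∣ q - 1)) ↔ (q ^ n ≡ 1 [MOD n * (q - 1)] ∧ ∀ i : ℕ, 0 < i → i < n → ¬ q ^ i ≡ 1 [MOD n * (q - 1)]) := by
  have hq2 : 2 ≤ q := hq.two_le
  have hn0 : 0 < n := by omega
  have hmod : ∀ i, q ^ i ≡ 1 [MOD n * (q - 1)] ↔ n * (q - 1) ∣ q ^ i - 1 := fun i => by
    rw [Nat.ModEq.comm, Nat.modEq_iff_dvd' (Nat.one_le_pow _ _ (by omega))]
  simp only [hmod]
  constructor
  · rintro ⟨h1, h2⟩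
    refine ⟨dvd_pow_sub_one q (by omega) n hn0 h1, fun i hi hin hdvd => ?_⟩
    have hM := dvd_pow_sub_one q (by omega) n hn0 h1
    have hg := Nat.dvd_gcd hM hdvd
    rw [Nat.pow_sub_one_gcd_pow_sub_one] at hg
    obtain ⟨c, hc⟩ := Nat.gcd_dvd_left n i
    set g := Nat.gcd n i
    have hgi : g ≤ i := Nat.le_of_dvd hi (Nat.gcd_dvd_right n i)
    obtain ⟨r, hr, e, rfl⟩ := Nat.exists_prime_and_dvd (show c ≠ 1 by
      intro e; rw [e, mul_one] at hc; omega)
    have hgm : g ∣ n / r := ⟨e, by rw [hc, show g * (r * e) = g * e * r by ring, Nat.mul_div_cancel _ hr.pos]⟩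
    have hbad := hg.trans (Nat.pow_sub_one_dvd_pow_sub_one q hgm)
    have hrn : r ∣ n := ⟨g * e, by rw [hc]; ring⟩
    obtain ⟨m, hm⟩ := hrn
    rw [hm, Nat.mul_div_cancel_left _ hr.pos] at hbad
    haveI := Fact.mk hr
    have hm0 : m ≠ 0 := fun e0 => by rw [e0, mul_zero] at hm; omega
    have hpos : q ^ m - 1 ≠ 0 := by
      have : 2 ≤ q ^ m := le_trans hq2 (Nat.le_self_pow hm0 q)
      omega
    have hv := (padicValNat_dvd_iff_le hpos).1
      ((pow_padicValNat_dvd (p := r) (n := r * m * (q - 1))).trans hbad)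
    have hrq : r ∣ q - 1 := h1 r hr ⟨m, hm⟩
    rw [padicValNat.mul (Nat.mul_ne_zero hr.ne_zero hm0) (by omega), padicValNat.mul hr.ne_zero hm0,
      padicValNat.self hr.one_lt, val_pow_sub_one hr hq2 hrq hm0 (fun h => by
        subst h
        by_cases h4 : 2 ∣ m
        · exact .inl (h2 (hm ▸ mul_dvd_mul_left 2 h4))
        · exact .inr h4)] at hv
    omega
  · rintro ⟨hM, hmin⟩
    have key : ∀ r, r.Prime → r ∣ n → (∀ t, t.Prime → ∃ k, ¬ r ^ (n.factorization r) ∣ k ∧
        t ^ (n.factorization t + (q - 1).factorization t) ∣ q ^ k - 1) → False := fun r hr hrn hk => by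
      refine hmin (n / r) (Nat.div_pos (Nat.le_of_dvd hn0 hrn) hr.pos) (Nat.div_lt_self hn0 hr.one_lt) ?_
      exact order_divides hq2 hn0 hr hrn hM hk
    have hpart1 : ∀ r, r.Prime → r ∣ n → r ∣ q - 1 := by
      classical
      by_contra hcon
      push Not at hcon
      obtain ⟨r₀, hr₀, hr₀n, hr₀q⟩ := hcon
      set S := n.primeFactors.filter fun r => ¬ r ∣ q - 1 with hS
      have hne : S.Nonempty := ⟨r₀, Finset.mem_filter.2 ⟨Nat.mem_primeFactors.2 ⟨hr₀, hr₀n, hn0.ne'⟩, hr₀q⟩⟩
      set r := S.max' hne with hrdef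
      have hrle : ∀ t ∈ S, t ≤ r := fun t ht => S.le_max' t ht
      have hrmem : r ∈ S := S.max'_mem hne
      clear_value r
      clear hrdef
      obtain ⟨hrS, hrq⟩ := Finset.mem_filter.1 hrmem
      obtain ⟨hr, hrn, -⟩ := Nat.mem_primeFactors.1 hrS
      have hra : 0 < n.factorization r := hr.factorization_pos_of_dvd hn0.ne' hrn
      refine key r hr hrn fun t ht => ?_
      by_cases htq : t ∣ q - 1
      · refine ⟨t ^ n.factorization t, fun h => ?_, odd_part hq2 ht htq⟩
        have : r ∣ t ^ n.factorization t := (dvd_pow_self r hra.ne').trans h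
        exact hrq ((Nat.prime_dvd_prime_iff_eq hr ht).1 (hr.dvd_of_dvd_pow this) ▸ htq)
      · rw [Nat.factorization_eq_zero_of_not_dvd htq, add_zero]
        by_cases htn : t ∣ n
        · have htle : t ≤ r := hrle t (Finset.mem_filter.2 ⟨Nat.mem_primeFactors.2 ⟨ht, htn, hn0.ne'⟩, htq⟩)
          have hta : 0 < n.factorization t := ht.factorization_pos_of_dvd hn0.ne' htn
          refine ⟨t ^ (n.factorization t - 1) * (t - 1), fun h => ?_, ?_⟩
          · have hne1 : ¬ r ∣ t - 1 := fun hd => by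
              have := ht.two_le
              have h1 := Nat.le_of_dvd (by omega) hd
              omega
            have h' := (Nat.Coprime.pow_left _ (hr.coprime_iff_not_dvd.2 hne1)).dvd_of_dvd_mul_right h
            have htr := (Nat.prime_dvd_prime_iff_eq hr ht).1
              (hr.dvd_of_dvd_pow ((dvd_pow_self r hra.ne').trans h'))
            rw [← htr] at h'
            have := (Nat.pow_dvd_pow_iff_le_right hr.one_lt).1 h'
            omega
          · have hcop : Nat.Coprime q t := by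
              refine (ht.coprime_iff_not_dvd.2 fun hd => ?_).symm
              have h1 : t ∣ q ^ n - 1 := (htn.mul_right (q - 1)).trans hM
              have h2 : t ∣ q ^ n := hd.trans (dvd_pow_self q hn0.ne')
              have h3 := Nat.dvd_sub h2 h1
              have : 1 ≤ q ^ n := Nat.one_le_pow _ _ (by omega)
              rw [show q ^ n - (q ^ n - 1) = 1 by omega] at h3
              exact ht.not_dvd_one h3
            have h := Nat.ModEq.pow_totient (Nat.Coprime.pow_right (n.factorization t) hcop)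
            rw [Nat.totient_prime_pow ht hta] at h
            exact (Nat.modEq_iff_dvd' (Nat.one_le_pow _ _ (by omega))).1 h.symm
        · refine ⟨1, fun h => ?_, by rw [Nat.factorization_eq_zero_of_not_dvd htn]; simp⟩
          exact hr.not_dvd_one ((dvd_pow_self r hra.ne').trans h)
    refine ⟨hpart1, fun h4 => ?_⟩
    by_contra hq4
    have h2n : 2 ∣ n := dvd_trans ⟨2, rfl⟩ h4
    have h2q : 2 ∣ q - 1 := hpart1 2 Nat.prime_two h2n
    have ha : 2 ≤ n.factorization 2 :=
      (Nat.prime_two.pow_dvd_iff_le_factorization hn0.ne').1 (by simpa using h4)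
    have hb : (q - 1).factorization 2 ≤ 1 := by
      by_contra hb
      exact hq4 (by simpa using (Nat.prime_two.pow_dvd_iff_le_factorization (by omega)).2 (show 2 ≤ _ by omega))
    refine key 2 Nat.prime_two h2n fun t ht => ?_
    by_cases ht2 : t = 2
    · subst ht2
      refine ⟨2 ^ (n.factorization 2 - 1), fun h => ?_, ?_⟩
      · have := (Nat.pow_dvd_pow_iff_le_right (by norm_num)).1 h; omega
      · have hval := padicValNat.pow_two_sub_one_ge (x := q) (n := 2 ^ (n.factorization 2 - 1)) (by omega)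
          (fun h => by omega) (by positivity) ((Nat.even_pow).2 ⟨even_two, by omega⟩)
        rw [padicValNat.prime_pow] at hval
        have hne : q ^ (2 ^ (n.factorization 2 - 1)) - 1 ≠ 0 := by
          have : 2 ≤ q ^ (2 ^ (n.factorization 2 - 1)) := le_trans hq2 (Nat.le_self_pow (by positivity) q)
          omega
        haveI := Fact.mk Nat.prime_two
        exact (padicValNat_dvd_iff_le hne).2 (by omega)
    · by_cases htn : t ∣ n
      · refine ⟨t ^ n.factorization t, fun h => ?_, odd_part hq2 ht (hpart1 t ht htn)⟩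
        exact ht2 ((Nat.prime_dvd_prime_iff_eq Nat.prime_two ht).1
          (Nat.prime_two.dvd_of_dvd_pow ((dvd_pow_self 2 (show n.factorization 2 ≠ 0 by omega)).trans h))).symm
      · refine ⟨1, fun h => ?_, ?_⟩
        · exact Nat.prime_two.not_dvd_one ((dvd_pow_self 2 (show n.factorization 2 ≠ 0 by omega)).trans h)
        · rw [Nat.factorization_eq_zero_of_not_dvd htn, zero_add, pow_one]
          exact Nat.ordProj_dvd _ _

end Cfsg.Agent.S0694
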