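import Cfsg.Statements.S0700
import Cfsg.Agent.Lib.PermBurnside

set_option autoImplicit false
open Cfsg MulAction

namespace Cfsg.Agent.S0700

/-- Burnside's Theorem on doubly transitive groups: a minimal normal subgroup of a finite doubly transitive permutation group is elementary abelian and regular, or simple and primitive. -/
theorem result {α : Type*} [Fintype α] [DecidableEq α] (G : Subgroup (Equiv.Perm α)) (hG : MulAction.IsMultiplyPretransitive G α 2) (N : Subgroup G) [N.Normal] (hN : N ≠ ⊥) (hmin : ∀ M : Subgroup G, M.Normal → M ≤ N → M = ⊥ ∨ M = N) : (IsMulCommutative N ∧ (∃ p : ℕ, p.Prime ∧ ∀ n ∈ N, n ^ p = 1) ∧ ∀ a : α, MulAction.stabilizer N a = ⊥) ∨ (IsSimpleGroup N ∧ MulAction.IsPreprimitive N α) := by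
  by_cases hn : 2 ≤ Nat.card α
  · rcases PermBurnside.minNormal_of_twoTransitive (X := α) hn
      (N := N) ⟨inferInstance, hN, hmin⟩ with ⟨hab, hreg⟩ | ⟨-, hs, hp⟩
    · exact Or.inl ⟨hab,
        PermMinimalNormal.IsMinNormal.exists_prime_pow_eq_one ⟨inferInstance, hN, hmin⟩ hab, hreg⟩
    · exact Or.inr ⟨hs, hp⟩
  · exfalso
    apply hN
    have : Subsingleton α := by
      rw [← Finite.card_le_one_iff_subsingleton]; omega
    exact Subsingleton.elim _ _


end Cfsg.Agent.S0700
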