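import Mathlib
import Cfsg.Statements.S0701

set_option autoImplicit false
open Cfsg

namespace Cfsg.Agent.S0701


/-- The centraliser in the full symmetric group of a transitive permutation group `G` is semiregular, and it is transitive if and only if `G` is regular. -/
theorem result {α : Type*} (G : Subgroup (Equiv.Perm α)) [MulAction.IsPretransitive G α] : (∀ c ∈ Subgroup.centralizer (G : Set (Equiv.Perm α)), ∀ a : α, c a = a → c = 1) ∧ (MulAction.IsPretransitive (Subgroup.centralizer (G : Set (Equiv.Perm α))) α ↔ ∀ a : α, MulAction.stabilizer G a = ⊥) := by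
  have key : ∀ c ∈ Subgroup.centralizer (G : Set (Equiv.Perm α)), ∀ g ∈ G, ∀ x : α,
      c (g x) = g (c x) := fun c hc g hg x => (DFunLike.congr_fun (hc g hg) x).symm
  refine ⟨fun c hc a ha => ?_, ⟨fun htr a => ?_, fun hreg => ⟨fun x y => ?_⟩⟩⟩
  · ext x
    obtain ⟨⟨g, hg⟩, rfl⟩ := MulAction.exists_smul_eq G a x
    change c (g a) = g a
    rw [key c hc g hg, ha]
  · rw [eq_bot_iff]
    intro g hg
    rw [Subgroup.mem_bot]
    apply Subtype.ext
    ext x
    obtain ⟨⟨c, hc⟩, rfl⟩ := htr.exists_smul_eq a x
    have h1 : (g : Equiv.Perm α) a = a := hg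
    change (g : Equiv.Perm α) (c a) = (1 : Equiv.Perm α) (c a)
    rw [← key c hc g g.2, h1]
    rfl
  · classical
    -- regular: the map g • x ↦ g • y is a permutation commuting with G
    have uniq : ∀ z : α, ∀ g h : G, g • z = h • z → g = h := by
      intro z g h hgh
      have : h⁻¹ * g ∈ MulAction.stabilizer G z := by
        rw [MulAction.mem_stabilizer_iff, mul_smul, hgh, inv_smul_smul]
      rw [hreg z, Subgroup.mem_bot, inv_mul_eq_one] at this
      exact this.symm
    have bij : ∀ z : α, Function.Bijective (fun g : G => g • z) := fun z =>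
      ⟨fun g h => uniq z g h, fun w => MulAction.exists_smul_eq G z w⟩
    let ex := Equiv.ofBijective _ (bij x)
    let ey := Equiv.ofBijective _ (bij y)
    let c : Equiv.Perm α := ex.symm.trans ey
    have hc : ∀ g : G, c (g • x) = g • y := fun g => by
      change ey (ex.symm (g • x)) = g • y
      have : ex.symm (g • x) = g := ex.symm_apply_apply g
      rw [this]; rfl
    refine ⟨⟨c, ?_⟩, ?_⟩
    · intro g hg
      ext z
      obtain ⟨k, rfl⟩ := MulAction.exists_smul_eq G x z
      change g (c (k • x)) = c (g (k • x))
      rw [hc k, show g (k • x) = ((⟨g, hg⟩ : G) * k) • x from rfl, hc, mul_smul]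
      rfl
    · have := hc 1
      rw [one_smul, one_smul] at this
      exact this

end Cfsg.Agent.S0701
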