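import Cfsg.Statements.S0702
import Cfsg.Agent.Lib.PermBasic

set_option autoImplicit false
open Cfsg MulAction

namespace Cfsg.Agent.S0702

/-- For a transitive permutation group `G` on a finite set, the centraliser of `G` in the symmetric group is isomorphic to `N_G(G_ω)/G_ω`, and its orbit of `ω` is the set of fixed points of `G_ω`. -/
theorem result {α : Type*} [Finite α] (G : Subgroup (Equiv.Perm α)) [MulAction.IsPretransitive G α] (a : α) : Nonempty (Subgroup.centralizer (G : Set (Equiv.Perm α)) ≃* Subgroup.normalizer ((MulAction.stabilizer G a : Subgroup G) : Set G) ⧸ (MulAction.stabilizer G a).subgroupOf (Subgroup.normalizer ((MulAction.stabilizer G a : Subgroup G) : Set G))) ∧ MulAction.orbit (Subgroup.centralizer (G : Set (Equiv.Perm α))) a = MulAction.fixedPoints (MulAction.stabilizer G a) α := by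
  classical
  set H := stabilizer G a with hH
  set C := Subgroup.centralizer (G : Set (Equiv.Perm α)) with hC
  -- an element of the centralizer determines a coset of the stabilizer
  have hcom : ∀ (c : C) (g : G) (x : α), (c : Equiv.Perm α) ((g : Equiv.Perm α) x) =
      (g : Equiv.Perm α) ((c : Equiv.Perm α) x) := fun c g x => by
    have := Subgroup.mem_centralizer_iff.1 c.2 g g.2
    exact (DFunLike.congr_fun this x).symm
  have hfix : ∀ (c : C), ∀ g ∈ H, (g : Equiv.Perm α) ((c : Equiv.Perm α) a) = (c : Equiv.Perm α) a := by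
    intro c g hg
    rw [← hcom]
    exact congrArg _ hg
  have hnorm : ∀ b ∈ fixedPoints H α, ∀ g : G, g • a = b →
      g ∈ Subgroup.normalizer (H : Set G) := by
    intro b hb g hg
    have hle : H.map (MulAut.conj g⁻¹).toMonoidHom ≤ H := by
      rintro _ ⟨h, hh, rfl⟩
      rw [hH, mem_stabilizer_iff]
      have := hb ⟨h, hh⟩
      simp only [MulEquiv.coe_toMonoidHom, MulAut.conj_apply, inv_inv, mul_smul]
      rw [hg, show h • b = b from this, inv_smul_eq_iff, hg]
    have heq := Subgroup.eq_of_le_of_card_ge hle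
      (Subgroup.card_map_of_injective (K := H) (MulAut.conj g⁻¹).injective).ge
    rw [← inv_inv g]
    apply Subgroup.inv_mem
    rw [Subgroup.mem_normalizer_iff]
    intro x
    constructor
    · intro hx
      rw [← heq]
      exact ⟨x, hx, rfl⟩
    · intro hx
      rw [← heq] at hx
      obtain ⟨h, hh, he⟩ := hx
      obtain rfl := (MulAut.conj g⁻¹).injective (show MulAut.conj g⁻¹ h = MulAut.conj g⁻¹ x from he)
      exact hh
  set N := Subgroup.normalizer (H : Set G) with hN
  -- existence of centralizing elements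
  have hex : ∀ n : N, ∃ c : C, (c : Equiv.Perm α) a = ((n : G) : Equiv.Perm α)⁻¹ a := by
    intro n
    have hwell : ∀ g g' : G, g • a = g' • a → (g * (n : G)⁻¹) • a = (g' * (n : G)⁻¹) • a := by
      intro g g' h
      have h1 : g'⁻¹ * g ∈ H := by
        rw [hH, mem_stabilizer_iff, mul_smul, h, inv_smul_smul]
      have h2 : (n : G) * (g'⁻¹ * g) * (n : G)⁻¹ ∈ H :=
        (Subgroup.mem_normalizer_iff.1 n.2 _).1 h1
      rw [hH, mem_stabilizer_iff] at h2
      calc (g * (n : G)⁻¹) • a
          = (g' * (n : G)⁻¹) • ((n : G) * (g'⁻¹ * g) * (n : G)⁻¹) • a := by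
            rw [← mul_smul]; congr 1; group
        _ = (g' * (n : G)⁻¹) • a := by rw [h2]
    choose s hs using fun x => exists_smul_eq G a x
    let f : α → α := fun x => (s x * (n : G)⁻¹) • a
    have hf : ∀ g : G, f (g • a) = (g * (n : G)⁻¹) • a := fun g => hwell _ _ (hs _)
    have hsurj : Function.Surjective f := fun y =>
      ⟨(s y * (n : G)) • a, by rw [hf, mul_inv_cancel_right, hs]⟩
    refine ⟨⟨Equiv.ofBijective f (Finite.surjective_iff_bijective.1 hsurj), ?_⟩, ?_⟩
    · rw [hC, Subgroup.mem_centralizer_iff]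
      intro g hg
      ext x
      change g (f x) = f ((⟨g, hg⟩ : G) • x)
      rw [← hs x, ← mul_smul, hf, hf]
      change (⟨g, hg⟩ : G) • ((s x * (n : G)⁻¹) • a) = _
      rw [← mul_smul, mul_assoc]
    · have := hf 1
      simpa [Subgroup.smul_def, Equiv.Perm.smul_def, Equiv.Perm.inv_def] using this
  have huniq : ∀ c c' : C, (c : Equiv.Perm α) a = (c' : Equiv.Perm α) a → c = c' := by
    intro c c' h
    apply Subtype.ext
    ext x
    obtain ⟨g, rfl⟩ := exists_smul_eq G a x
    change (c : Equiv.Perm α) ((g : Equiv.Perm α) a) = (c' : Equiv.Perm α) ((g : Equiv.Perm α) a)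
    rw [hcom, hcom, h]
  choose F hF using hex
  have hmul : ∀ m n : N, F (m * n) = F m * F n := by
    intro m n
    apply huniq
    change _ = (F m : Equiv.Perm α) ((F n : Equiv.Perm α) a)
    have h1 := hcom (F m) (n : G)⁻¹ a
    simp only [InvMemClass.coe_inv] at h1
    rw [hF, hF, h1, hF]
    simp [Equiv.Perm.mul_apply]
  let φ : N →* C := MonoidHom.mk' F hmul
  have hsurjφ : Function.Surjective φ := by
    intro c
    obtain ⟨g, hg⟩ := exists_smul_eq G a ((c : Equiv.Perm α) a)
    have hgN := hnorm _ (fun h => hfix c h h.2) g hg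
    refine ⟨(⟨g, hgN⟩ : N)⁻¹, huniq _ _ ?_⟩
    change (F (⟨g, hgN⟩ : N)⁻¹ : Equiv.Perm α) a = _
    rw [hF]
    simpa [Subgroup.smul_def, Equiv.Perm.smul_def] using hg
  have hker : φ.ker = H.subgroupOf N := by
    ext n
    rw [MonoidHom.mem_ker, Subgroup.mem_subgroupOf, hH, mem_stabilizer_iff]
    constructor
    · intro h
      have h1 := hF n
      rw [show F n = φ n from rfl, h] at h1
      rw [Subgroup.smul_def, Equiv.Perm.smul_def]
      simp only [OneMemClass.coe_one, Equiv.Perm.coe_one, id] at h1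
      conv_lhs => rw [h1]
      simp
    · intro h
      refine huniq _ _ ?_
      change (F n : Equiv.Perm α) a = _
      rw [hF]
      simp only [OneMemClass.coe_one, Equiv.Perm.coe_one, id]
      rw [Equiv.Perm.inv_def, Equiv.symm_apply_eq]
      exact h.symm
  refine ⟨⟨((QuotientGroup.quotientMulEquivOfEq hker.symm).trans
    (QuotientGroup.quotientKerEquivOfSurjective φ hsurjφ)).symm⟩, ?_⟩
  ext b
  constructor
  · rintro ⟨c, rfl⟩ ⟨g, hg⟩
    exact hfix c g hg
  · intro hb
    obtain ⟨g, hg⟩ := exists_smul_eq G a b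
    refine ⟨F (⟨g, hnorm b hb g hg⟩ : N)⁻¹, ?_⟩
    change (F (⟨g, hnorm b hb g hg⟩ : N)⁻¹ : Equiv.Perm α) a = b
    rw [hF]
    simpa [Subgroup.smul_def, Equiv.Perm.smul_def] using hg


end Cfsg.Agent.S0702
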