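import Cfsg.Statements.S0703
import Cfsg.Agent.Lib.PermMinimalNormal

set_option autoImplicit false
open Cfsg MulAction

namespace Cfsg.Agent.S0703

/-- An abelian transitive minimal normal subgroup `M` of a permutation group on a finite set is self-centralising in the symmetric group, regular, elementary abelian, and is the unique minimal normal subgroup. -/
theorem result {α : Type*} [Finite α] (G : Subgroup (Equiv.Perm α)) (M : Subgroup G) [M.Normal] (hM : M ≠ ⊥) (hmin : ∀ L : Subgroup G, L.Normal → L ≤ M → L = ⊥ ∨ L = M) (hab : IsMulCommutative M) (htrans : MulAction.IsPretransitive M α) : Subgroup.centralizer ((M.map G.subtype : Subgroup (Equiv.Perm α)) : Set (Equiv.Perm α)) = M.map G.subtype ∧ (∀ a : α, MulAction.stabilizer M a = ⊥) ∧ (∃ p : ℕ, p.Prime ∧ ∀ m ∈ M, m ^ p = 1) ∧ ∀ L : Subgroup G, L.Normal → L ≠ ⊥ → (∀ L' : Subgroup G, L'.Normal → L' ≤ L → L' = ⊥ ∨ L' = L) → L = M := by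
  classical
  have hMn : PermMinimalNormal.IsMinNormal M := ⟨inferInstance, hM, hmin⟩
  rcases isEmpty_or_nonempty α with hα | hα
  · exact absurd (Subsingleton.elim M ⊥) hM
  set M' := M.map G.subtype with hM'
  have hM't : IsPretransitive M' α := ⟨fun x y => by
    obtain ⟨m, hm⟩ := exists_smul_eq M x y
    exact ⟨⟨_, m, m.2, rfl⟩, hm⟩⟩
  have hab' : IsMulCommutative M' := ⟨⟨by
    rintro ⟨_, x, hx, rfl⟩ ⟨_, y, hy, rfl⟩
    exact Subtype.ext (congrArg (fun z : M => ((z : G) : Equiv.Perm α))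
      (hab.is_comm.comm ⟨x, hx⟩ ⟨y, hy⟩))⟩⟩
  refine ⟨le_antisymm (PermBasic.centralizer_le_of_abelian_transitive (X := α) M' hab') ?_,
    fun a => PermBasic.stabilizer_eq_bot_of_abelian M hab a,
    hMn.exists_prime_pow_eq_one hab, fun L hL hL0 hLmin => ?_⟩
  · intro x hx
    rw [Subgroup.mem_centralizer_iff]
    intro y hy
    exact congrArg Subtype.val (hab'.is_comm.comm ⟨y, hy⟩ ⟨x, hx⟩)
  · by_contra hne
    have h0 := hMn.inf_eq_bot_of_ne (L := L) ⟨hL, hL0, hLmin⟩ (Ne.symm hne)
    have hle := (PermMinimalNormal.le_centralizer_of_inf_eq_bot hMn.1 hL h0).trans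
      (PermBasic.centralizer_le_of_abelian_transitive (X := α) M hab)
    rw [inf_eq_right.2 hle] at h0
    exact hL0 h0


end Cfsg.Agent.S0703
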