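import Cfsg.Statements.S0704
import Cfsg.Agent.Lib.PermMinimalNormal

set_option autoImplicit false
open Cfsg MulAction

namespace Cfsg.Agent.S0704

/-- Two distinct transitive minimal normal subgroups `M`, `N` of a permutation group are regular, non-abelian, isomorphic, each other's centraliser in the symmetric group, and the only minimal normal subgroups. -/
theorem result {α : Type*} (G : Subgroup (Equiv.Perm α)) (M N : Subgroup G) [M.Normal] [N.Normal] (hM : M ≠ ⊥) (hN : N ≠ ⊥) (hMmin : ∀ L : Subgroup G, L.Normal → L ≤ M → L = ⊥ ∨ L = M) (hNmin : ∀ L : Subgroup G, L.Normal → L ≤ N → L = ⊥ ∨ L = N) (hMN : M ≠ N) (hMt : MulAction.IsPretransitive M α) (hNt : MulAction.IsPretransitive N α) : (∀ a : α, MulAction.stabilizer M a = ⊥) ∧ (∀ a : α, MulAction.stabilizer N a = ⊥) ∧ ¬ IsMulCommutative M ∧ Nonempty (M ≃* N) ∧ Subgroup.centralizer ((M.map G.subtype : Subgroup (Equiv.Perm α)) : Set (Equiv.Perm α)) = N.map G.subtype ∧ Subgroup.centralizer ((N.map G.subtype : Subgroup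 (Equiv.Perm α)) : Set (Equiv.Perm α)) = M.map G.subtype ∧ ∀ L : Subgroup G, L.Normal → L ≠ ⊥ → (∀ L' : Subgroup G, L'.Normal → L' ≤ L → L' = ⊥ ∨ L' = L) → L = M ∨ L = N := by
  classical
  have hMn : PermMinimalNormal.IsMinNormal M := ⟨inferInstance, hM, hMmin⟩
  have hNn : PermMinimalNormal.IsMinNormal N := ⟨inferInstance, hN, hNmin⟩
  rcases isEmpty_or_nonempty α with hα | hα
  · exact absurd (Subsingleton.elim M ⊥) hM
  have h0 := hMn.inf_eq_bot_of_ne hNn hMN
  have hc : ∀ x ∈ M, ∀ y ∈ N, x * y = y * x := fun x hx y hy =>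
    PermMinimalNormal.commute_of_inf_eq_bot hMn.1 hNn.1 h0 x y hx hy
  have hc' : ∀ x ∈ N, ∀ y ∈ M, x * y = y * x := fun x hx y hy => (hc y hy x hx).symm
  have hCM := PermMinimalNormal.centralizer_eq_of_commuting (X := α) M N hc
  have hnab : ¬ IsMulCommutative M := fun hab => by
    have h1 := PermBasic.centralizer_le_of_abelian_transitive (X := α) M hab
    rw [hCM] at h1
    rw [inf_eq_right.2 h1] at h0
    exact hN h0
  have htr : ∀ K : Subgroup G, IsPretransitive K α →
      IsPretransitive (K.map G.subtype) α := fun K _ => ⟨fun x y => by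
    obtain ⟨m, hm⟩ := exists_smul_eq K x y
    exact ⟨⟨_, m, m.2, rfl⟩, hm⟩⟩
  have := htr M hMt
  have := htr N hNt
  refine ⟨PermMinimalNormal.stabilizer_eq_bot_of_commuting N M hc',
    PermMinimalNormal.stabilizer_eq_bot_of_commuting M N hc, hnab,
    PermMinimalNormal.nonempty_mulEquiv_of_commuting (X := α) M N hc, ?_, ?_, ?_⟩
  · refine PermMinimalNormal.centralizer_eq_of_commuting (X := α) _ _ ?_
    rintro _ ⟨x, hx, rfl⟩ _ ⟨y, hy, rfl⟩
    exact congrArg G.subtype (hc x hx y hy)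
  · refine PermMinimalNormal.centralizer_eq_of_commuting (X := α) _ _ ?_
    rintro _ ⟨x, hx, rfl⟩ _ ⟨y, hy, rfl⟩
    exact congrArg G.subtype (hc' x hx y hy)
  · intro L hL hL0 hLmin
    by_contra hne
    push Not at hne
    have hLn : PermMinimalNormal.IsMinNormal L := ⟨hL, hL0, hLmin⟩
    have h1 := PermMinimalNormal.le_centralizer_of_inf_eq_bot hMn.1 hL
      (hMn.inf_eq_bot_of_ne hLn (Ne.symm hne.1))
    rw [hCM] at h1
    exact hne.2 (hNmin L hL h1 |>.resolve_left hL0)


end Cfsg.Agent.S0704
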