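import Mathlib
import Cfsg.Statements.S0705

set_option autoImplicit false
open scoped Pointwise
open Cfsg

namespace Cfsg.Agent.S0705


/-- A generously `k`-transitive permutation group (every `(k+1)`-subset has its full symmetric group induced by the setwise stabiliser) of degree greater than `k` is `k`-transitive, and for a `k`-subset the setwise and pointwise stabilisers have the same orbits outside it. -/
theorem result {α : Type*} [Fintype α] [DecidableEq α] (G : Subgroup (Equiv.Perm α)) {k : ℕ} (hk : k < Fintype.card α) (hgen : ∀ s : Finset α, s.card = k + 1 → ∀ σ : Equiv.Perm ↥s, ∃ g ∈ G, ∀ x : ↥s, g (x : α) = σ x) : MulAction.IsMultiplyPretransitive G α k ∧ ∀ s : Finset α, s.card = k → ∀ a b : α, a ∉ s → b ∉ s → (∃ g ∈ G, g • s = s ∧ g a = b) → ∃ g ∈ G, (∀ x ∈ s, g x = x) ∧ g a = b := by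
  constructor
  · constructor
    intro x y
    -- increase the number of agreements one at a time
    suffices ∀ (m : ℕ) (x : Fin k ↪ α),
        (Finset.univ.filter fun i => x i ≠ y i).card = m → ∃ g : G, g • x = y from
      this _ x rfl
    intro m
    induction m using Nat.strong_induction_on with
    | _ m ih =>
      intro x hm
      by_cases hall : ∀ i, x i = y i
      · exact ⟨1, (MulAction.one_smul x).trans (Function.Embedding.ext hall)⟩
      push Not at hall
      obtain ⟨i, hi⟩ := hall
      -- a `(k+1)`-set containing the tuple and `y i`
      have hsub : (Finset.univ.map x) ∪ {y i} ⊆ Finset.univ := Finset.subset_univ _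
      have hcard : ((Finset.univ.map x) ∪ {y i}).card ≤ k + 1 :=
        le_trans (Finset.card_union_le _ _) (by simp)
      obtain ⟨s, hs1, -, hs2⟩ := Finset.exists_subsuperset_card_eq hsub hcard
        (by simpa using hk)
      have hxi : x i ∈ s := hs1 (by simp)
      have hyi : y i ∈ s := hs1 (by simp)
      obtain ⟨g, hg, hgs⟩ := hgen s hs2 (Equiv.swap ⟨x i, hxi⟩ ⟨y i, hyi⟩)
      let g' : G := ⟨g, hg⟩
      have hgx : ∀ j, g' • x j = if j = i then y i else if x j = y i then x i else x j := by
        intro j
        change g (x j) = _
        have hj : x j ∈ s := hs1 (by simp)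
        rw [hgs ⟨x j, hj⟩]
        rcases eq_or_ne j i with rfl | hji
        · simp
        · rw [if_neg hji]
          split_ifs with h
          · simp [h]
          · rw [Equiv.swap_apply_of_ne_of_ne]
            · intro he; exact hji (x.injective (congrArg Subtype.val he))
            · intro he; exact h (congrArg Subtype.val he)
      have hlt : (Finset.univ.filter fun j => (g' • x) j ≠ y j).card < m := by
        rw [← hm]
        apply Finset.card_lt_card
        rw [Finset.ssubset_iff_of_subset]
        · refine ⟨i, by simpa using hi, ?_⟩
          simp [hgx]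
        · intro j hj
          simp only [Finset.mem_filter, Finset.mem_univ, true_and, Function.Embedding.smul_apply,
            hgx] at hj ⊢
          split_ifs at hj with h1 h2
          · exact absurd (by rw [h1]) hj
          · intro he
            exact h1 (y.injective (he.symm.trans h2))
          · exact hj
      obtain ⟨h, hh⟩ := ih _ hlt (g' • x) rfl
      exact ⟨h * g', (mul_smul h g' x).trans hh⟩
  · intro s hs a b ha hb ⟨g, hg, hgs, hgab⟩
    have hmem : ∀ x, x ∈ s → g⁻¹ x ∈ s := by
      intro x hx
      rw [← hgs] at hx
      obtain ⟨y, hy, rfl⟩ := Finset.mem_image.mp hx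
      simpa using hy
    have hu : (insert a s).card = k + 1 := by rw [Finset.card_insert_of_notMem ha, hs]
    -- the inverse of `g` on `s`, fixing `a`
    let f : ↥(insert a s) → ↥(insert a s) := fun x =>
      if h : (x : α) ∈ s then ⟨g⁻¹ x, Finset.mem_insert_of_mem (hmem _ h)⟩ else x
    have finj : Function.Injective f := by
      intro x y hxy
      simp only [f] at hxy
      split_ifs at hxy with h1 h2 h2
      · exact Subtype.ext ((g⁻¹).injective (congrArg Subtype.val hxy))
      · exact absurd (congrArg Subtype.val hxy ▸ hmem _ h1) h2
      · exact absurd ((congrArg Subtype.val hxy).symm ▸ hmem _ h2) h1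
      · exact hxy
    obtain ⟨k', hk', hks⟩ := hgen (insert a s) hu (Equiv.ofBijective f finj.bijective_of_finite)
    refine ⟨g * k', G.mul_mem hg hk', fun x hx => ?_, ?_⟩
    · have := hks ⟨x, Finset.mem_insert_of_mem hx⟩
      simp only [Equiv.ofBijective_apply, f, dif_pos hx] at this
      rw [Equiv.Perm.mul_apply, this]
      simp
    · have := hks ⟨a, Finset.mem_insert_self _ _⟩
      simp only [Equiv.ofBijective_apply, f, dif_neg ha] at this
      rw [Equiv.Perm.mul_apply, this, hgab]

end Cfsg.Agent.S0705
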