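import Mathlib
import Cfsg.Statements.S0706

set_option autoImplicit false
open Cfsg

namespace Cfsg.Agent.S0706
open MulAction
open scoped Pointwise

variable {α : Type*} [Fintype α] [DecidableEq α]

/-- Generous transitivity gives homogeneity. -/
theorem exists_image (G : Subgroup (Equiv.Perm α)) {k : ℕ}
    (hgen : ∀ s : Finset α, s.card = k + 1 → ∀ σ : Equiv.Perm ↥s, ∃ g ∈ G, ∀ x : ↥s, g (x : α) = σ x) :
    ∀ (d : ℕ) (A B : Finset α), A.card = k → B.card = k → (A \ B).card ≤ d → ∃ g ∈ G, A.image g = B := by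
  intro d
  induction d with
  | zero =>
    intro A B hA hB h
    refine ⟨1, G.one_mem, ?_⟩
    rw [show ((1 : Equiv.Perm α) : α → α) = id from rfl, Finset.image_id]
    exact Finset.eq_of_subset_of_card_le (Finset.sdiff_eq_empty_iff_subset.1 (Finset.card_eq_zero.1 (by omega))) (by omega)
  | succ d ih =>
    intro A B hA hB h
    by_cases hd : (A \ B).card ≤ d
    · exact ih A B hA hB hd
    obtain ⟨a, ha⟩ : (A \ B).Nonempty := Finset.card_pos.1 (by omega)
    obtain ⟨b, hb⟩ : (B \ A).Nonempty := Finset.card_pos.1 (by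
      rw [Finset.card_sdiff_comm (hB.trans hA.symm)]; omega)
    rw [Finset.mem_sdiff] at ha hb
    have hs : (insert b A).card = k + 1 := by rw [Finset.card_insert_of_notMem hb.2, hA]
    obtain ⟨g, hg, hgx⟩ := hgen (insert b A) hs (Equiv.swap ⟨a, Finset.mem_insert_of_mem ha.1⟩ ⟨b, Finset.mem_insert_self _ _⟩)
    have hga : g a = b := by
      have := hgx ⟨a, Finset.mem_insert_of_mem ha.1⟩
      rwa [Equiv.swap_apply_left] at this
    have himg : A.image g = insert b (A.erase a) := by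
      conv_lhs => rw [← Finset.insert_erase ha.1, Finset.image_insert, hga]
      congr 1
      refine (Finset.image_congr fun x hx => ?_).trans Finset.image_id
      have hx' := Finset.mem_erase.1 hx
      have := hgx ⟨x, Finset.mem_insert_of_mem hx'.2⟩
      have e1 : (⟨x, Finset.mem_insert_of_mem hx'.2⟩ : ↥(insert b A)) ≠ ⟨a, Finset.mem_insert_of_mem ha.1⟩ :=
        fun e => hx'.1 (Subtype.mk.inj e)
      have e2 : (⟨x, Finset.mem_insert_of_mem hx'.2⟩ : ↥(insert b A)) ≠ ⟨b, Finset.mem_insert_self _ _⟩ :=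
        fun e => hb.2 (Subtype.mk.inj e ▸ hx'.2)
      rwa [Equiv.swap_apply_of_ne_of_ne e1 e2] at this
    obtain ⟨g', hg', he⟩ := ih (insert b (A.erase a)) B (by
        rw [← himg, Finset.card_image_of_injective _ g.injective, hA]) hB (by
      have : insert b (A.erase a) \ B ⊆ (A \ B).erase a := by
        intro x hx
        simp only [Finset.mem_sdiff, Finset.mem_insert, Finset.mem_erase] at hx ⊢
        rcases hx.1 with rfl | ⟨hxa, hxA⟩
        · exact absurd hb.1 hx.2
        · exact ⟨hxa, hxA, hx.2⟩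
      have h1 := Finset.card_le_card this
      rw [Finset.card_erase_of_mem (Finset.mem_sdiff.2 ha)] at h1
      omega)
    refine ⟨g' * g, G.mul_mem hg' hg, ?_⟩
    rw [Equiv.Perm.coe_mul, ← Finset.image_image, himg, he]


/-- In a generously `k`-transitive permutation group, for a prime `p ≤ k` and a `k`-set `Γ`, there are no `p` points outside `Γ` lying in distinct orbits of the pointwise stabiliser of `Γ` all of length prime to `p` (at most `p - 1` such orbits). -/
theorem result {α : Type*} [Fintype α] [DecidableEq α] (G : Subgroup (Equiv.Perm α)) {k : ℕ} (hk : k < Fintype.card α) (hgen : ∀ s : Finset α, s.card = k + 1 → ∀ σ : Equiv.Perm ↥s, ∃ g ∈ G, ∀ x : ↥s, g (x : α) = σ x) {p : ℕ} (hp : p.Prime) (hpk : p ≤ k) (Γ : Finset α) (hΓ : Γ.card = k) (f : Fin p → α) (hf : ∀ i, f i ∉ Γ) (hdist : ∀ i j, i ≠ j → f j ∉ MulAction.orbit (fixingSubgroup G (Γ : Set α)) (f i)) : ∃ i, p ∣ Nat.card (MulAction.orbit (fixingSubgroup G (Γ : Set α)) (f i)) := by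
  classical
  by_contra hcon
  push Not at hcon
  haveI := Fact.mk hp
  set L := fixingSubgroup G (Γ : Set α) with hL
  -- the setwise stabiliser
  set M : Subgroup G := MulAction.stabilizer G (Γ : Set α) with hM
  have hLmem : ∀ g : G, g ∈ L ↔ ∀ x ∈ Γ, g • x = x := fun g => by
    rw [hL, mem_fixingSubgroup_iff]; rfl
  have hLM : L ≤ M := fun g hg => by
    rw [hM, MulAction.mem_stabilizer_iff]
    ext x
    rw [Set.mem_smul_set]
    constructor
    · rintro ⟨y, hy, rfl⟩; rw [(hLmem g).1 hg y hy]; exact hy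
    · exact fun hx => ⟨x, hx, (hLmem g).1 hg x hx⟩
  have hMmap : ∀ m : G, m ∈ M → ∀ x ∈ Γ, m • x ∈ Γ := fun m hm x hx => by
    have := MulAction.mem_stabilizer_iff.1 hm
    exact Finset.mem_coe.1 (this ▸ Set.smul_mem_smul_set (Finset.mem_coe.2 hx))
  -- realising permutations of Γ fixing a further point
  have hreal : ∀ (x : α), x ∉ Γ → ∀ σ : Equiv.Perm ↥Γ, ∃ g ∈ M, g • x = x ∧ ∀ y : ↥Γ, g • (y : α) = σ y := by
    intro x hx σ
    let e : ↥Γ ↪ ↥(insert x Γ) := ⟨fun y => ⟨y, Finset.mem_insert_of_mem y.2⟩,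
      fun a b h => Subtype.ext (congrArg (fun z : ↥(insert x Γ) => (z : α)) h)⟩
    let τ : Equiv.Perm ↥(insert x Γ) := σ.extendDomain (Equiv.ofInjective e e.injective)
    obtain ⟨g, hg, hgx⟩ := hgen (insert x Γ) (by rw [Finset.card_insert_of_notMem hx, hΓ]) τ
    have hy : ∀ y : ↥Γ, g (y : α) = σ y := fun y => by
      have h1 := hgx (e y)
      have h2 : τ (e y) = e (σ y) := by
        have := Equiv.Perm.extendDomain_apply_image σ (Equiv.ofInjective e e.injective) y
        rwa [Equiv.ofInjective_apply, Equiv.ofInjective_apply] at this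
      rw [h2] at h1
      exact h1
    refine ⟨⟨g, hg⟩, ?_, ?_, hy⟩
    · rw [hM, MulAction.mem_stabilizer_iff]
      refine Set.eq_of_subset_of_ncard_le ?_ ?_ (Set.toFinite _)
      · rintro _ ⟨y, hy', rfl⟩
        show g y ∈ (Γ : Set α)
        rw [hy ⟨y, hy'⟩]; exact (σ _).2
      · rw [Set.ncard_smul_set]
    · show g x = x
      have h1 := hgx ⟨x, Finset.mem_insert_self _ _⟩
      rw [show τ ⟨x, Finset.mem_insert_self _ _⟩ = ⟨x, Finset.mem_insert_self _ _⟩ from
        Equiv.Perm.extendDomain_apply_not_subtype _ _ (by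
          rintro ⟨y, hy'⟩
          have hyx : (y : α) = x := congrArg Subtype.val hy'
          exact hx (hyx ▸ y.2))] at h1
      exact h1
  -- every orbit of L is invariant under M
  have hinv : ∀ m ∈ M, ∀ x, x ∉ Γ → m • x ∈ MulAction.orbit L x := by
    intro m hm x hx
    let σ : Equiv.Perm ↥Γ := Equiv.ofBijective (fun y => ⟨m • (y : α), hMmap m hm _ y.2⟩)
      (Finite.injective_iff_bijective.1 fun a b h => Subtype.ext (MulAction.injective m (congrArg Subtype.val h)))
    obtain ⟨g, hg, hgx, hgy⟩ := hreal x hx σ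
    have hl : m * g⁻¹ ∈ L := by
      rw [hLmem]
      intro y hy
      obtain ⟨z, hz⟩ := σ.surjective ⟨y, hy⟩
      have h1 := hgy z
      rw [hz] at h1
      rw [mul_smul, inv_smul_eq_iff.2 h1.symm]
      exact congrArg Subtype.val hz
    refine ⟨⟨_, hl⟩, ?_⟩
    show (m * g⁻¹) • x = m • x
    rw [mul_smul, inv_smul_eq_iff.2 hgx.symm]
  -- an element inducing a p-cycle
  obtain ⟨x₀, hx₀⟩ : ∃ x, x ∉ Γ := ⟨f ⟨0, hp.pos⟩, hf _⟩
  obtain ⟨emb⟩ : Nonempty (Fin p ↪ ↥Γ) := Function.Embedding.nonempty_of_card_le (by simp [hΓ, hpk])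
  let σ : Equiv.Perm ↥Γ := (finRotate p).extendDomain (Equiv.ofInjective emb emb.injective)
  have hσord : orderOf σ = p := by
    rw [show σ = Equiv.Perm.extendDomainHom (Equiv.ofInjective emb emb.injective) (finRotate p) from rfl,
      orderOf_injective _ (Equiv.Perm.extendDomainHom_injective _)]
    obtain ⟨p', rfl⟩ : ∃ p', p = p' + 2 := ⟨p - 2, by have := hp.two_le; omega⟩
    rw [isCycle_finRotate.orderOf, support_finRotate, Finset.card_univ, Fintype.card_fin]
  obtain ⟨g₀, hg₀, -, hg₀y⟩ := hreal x₀ hx₀ σ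
  obtain ⟨a, m', hm', hord⟩ : ∃ a m', ¬ p ∣ m' ∧ orderOf g₀ = p ^ a * m' :=
    Nat.exists_eq_pow_mul_and_not_dvd (orderOf_pos g₀).ne' p hp.ne_one
  set g := g₀ ^ m' with hg
  have hgM : g ∈ M := M.pow_mem hg₀ m'
  have hpow : ∀ (n : ℕ) (y : ↥Γ), (g₀ ^ n) • (y : α) = (σ ^ n) y := by
    intro n
    induction n with
    | zero => intro y; simp
    | succ n ih => intro y; rw [pow_succ, pow_succ, mul_smul, hg₀y, ih, Equiv.Perm.mul_apply]
  have hgp : IsPGroup p (Subgroup.zpowers (⟨g, hgM⟩ : M)) := by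
    have hdvd : orderOf g ∣ p ^ a := orderOf_dvd_of_pow_eq_one (by
      rw [hg, ← pow_mul, mul_comm, ← hord, pow_orderOf_eq_one])
    obtain ⟨j, -, hj⟩ := (Nat.dvd_prime_pow hp).1 hdvd
    exact IsPGroup.of_card (n := j) (by rw [Nat.card_zpowers, ← Subgroup.orderOf_coe]; exact hj)
  obtain ⟨P, hP⟩ := hgp.exists_le_sylow
  -- fixed points in the orbits
  have hy : ∀ i : Fin p, ∃ y, y ∈ MulAction.orbit L (f i) ∧ ∀ m : (P : Subgroup M), ((m : M) : G) • y = y := by
    intro i
    let S : SubMulAction (P : Subgroup M) α :=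
      { carrier := MulAction.orbit L (f i)
        smul_mem' := fun m z hz => by
          obtain ⟨l, rfl⟩ := hz
          have hlx : (l • f i) ∉ Γ := fun h => hf i (by
            have := (hLmem _).1 (L.inv_mem l.2) _ h
            rw [show ((l : G)⁻¹) • (l • f i) = f i from inv_smul_smul (l : G) (f i)] at this
            rw [this]; exact h)
          have := hinv _ (m : M).2 _ hlx
          rwa [MulAction.orbit_eq_iff.2 (MulAction.mem_orbit (f i) l)] at this }
    letI : MulAction (P : Subgroup M) S := SubMulAction.mulAction' S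
    obtain ⟨z, hz⟩ := P.2.nonempty_fixed_point_of_prime_not_dvd_card S (hcon i)
    exact ⟨z, z.2, fun m => congrArg Subtype.val (hz m)⟩
  choose y hyO hyP using hy
  have hyΓ : ∀ i, y i ∉ Γ := fun i h => by
    obtain ⟨l, hl⟩ := hyO i
    have := (hLmem _).1 (L.inv_mem l.2) _ h
    rw [← hl, show ((l : G)⁻¹) • (l • f i) = f i from inv_smul_smul (l : G) (f i)] at this
    exact hf i (this ▸ hl ▸ h)
  have hyinj : Function.Injective y := fun i j e => by
    by_contra hne
    apply hdist i j hne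
    rw [← MulAction.orbit_eq_iff, ← MulAction.orbit_eq_iff.2 (hyO i), ← MulAction.orbit_eq_iff.2 (hyO j), e]
  set A : Finset α := Finset.univ.image fun i => (emb i : α) with hA
  set Γ' : Finset α := (Γ \ A) ∪ Finset.univ.image y with hΓ'
  have hAsub : A ⊆ Γ := Finset.image_subset_iff.2 fun i _ => (emb i).2
  have hcardA : A.card = p := by
    rw [hA, Finset.card_image_of_injective _ (f := fun i => (emb i : α)) (fun a b e => emb.injective (Subtype.ext e)),
      Finset.card_univ, Fintype.card_fin]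
  have hΓ'card : Γ'.card = k := by
    rw [hΓ', Finset.card_union_of_disjoint, Finset.card_image_of_injective _ hyinj, Finset.card_univ,
      Fintype.card_fin, Finset.card_sdiff_of_subset hAsub, hΓ, hcardA]
    · omega
    · rw [Finset.disjoint_left]
      intro x hx hx'
      obtain ⟨i, -, rfl⟩ := Finset.mem_image.1 hx'
      exact hyΓ i (Finset.mem_sdiff.1 hx).1
  obtain ⟨c, hc, hcΓ⟩ := exists_image G hgen _ Γ' Γ hΓ'card hΓ le_rfl
  -- a p-subgroup of the stabiliser of Γ'
  set L' := fixingSubgroup G (Γ' : Set α) with hL'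
  set P' : Subgroup G := (P : Subgroup M).map M.subtype with hP'
  have hgP : g ∈ P' ⊓ L' := by
    refine ⟨⟨⟨g, hgM⟩, hP (Subgroup.mem_zpowers _), rfl⟩, ?_⟩
    show _ ∈ L'
    rw [hL', mem_fixingSubgroup_iff]
    intro x hx
    rcases Finset.mem_union.1 hx with hx | hx
    · obtain ⟨hxΓ, hxA⟩ := Finset.mem_sdiff.1 hx
      rw [hg]
      have := hpow m' ⟨x, hxΓ⟩
      rw [this]
      have hfix : σ ⟨x, hxΓ⟩ = ⟨x, hxΓ⟩ := Equiv.Perm.extendDomain_apply_not_subtype _ _ (by
        rintro ⟨i, hi⟩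
        exact hxA (Finset.mem_image.2 ⟨i, Finset.mem_univ _, congrArg Subtype.val hi⟩))
      rw [Equiv.Perm.pow_apply_eq_self_of_apply_eq_self hfix]
    · obtain ⟨i, -, rfl⟩ := Finset.mem_image.1 hx
      exact hyP i ⟨⟨g, hgM⟩, hP (Subgroup.mem_zpowers _)⟩
  have hP0le : P' ⊓ L ≤ P' ⊓ L' := by
    rintro x ⟨⟨x', hx', rfl⟩, hxL⟩
    refine ⟨⟨x', hx', rfl⟩, ?_⟩
    show _ ∈ L'
    rw [hL', mem_fixingSubgroup_iff]
    intro z hz
    rcases Finset.mem_union.1 hz with hz | hz
    · exact (hLmem _).1 hxL z (Finset.mem_sdiff.1 hz).1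
    · obtain ⟨i, -, rfl⟩ := Finset.mem_image.1 hz
      exact hyP i ⟨x', hx'⟩
  have hgL : g ∉ P' ⊓ L := fun h => by
    have h1 : σ ^ m' = 1 := Equiv.ext fun z => Subtype.ext (by
      rw [Equiv.Perm.one_apply]
      rw [← hpow m' z]
      exact (hLmem g).1 h.2 z z.2)
    exact hm' (hσord ▸ orderOf_dvd_of_pow_eq_one h1)
  -- its order is too large
  haveI hLn : (L.subgroupOf M).Normal := by
    refine ⟨fun l hl m => ?_⟩
    rw [Subgroup.mem_subgroupOf, hLmem] at hl ⊢
    intro x hx
    show ((m : G) * (l : G) * (m : G)⁻¹) • x = x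
    rw [mul_smul, mul_smul, hl _ (hMmap _ (M.inv_mem m.2) x hx), smul_inv_smul]
  have hsyl : Nat.card (P' ⊓ L : Subgroup G) = p ^ (Nat.card L).factorization p := by
    set LM := L.subgroupOf M with hLMdef
    have hmap : P' ⊓ L = ((P : Subgroup M) ⊓ LM).map M.subtype := by
      rw [Subgroup.map_inf _ _ _ M.subtype_injective, hLMdef, Subgroup.map_subgroupOf_eq_of_le hLM]
    rw [hmap, Subgroup.card_map_of_injective M.subtype_injective]
    have hrel : ∀ H K : Subgroup M, H ≤ K → Nat.card H * H.relIndex K = Nat.card K := fun H K h => by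
      rw [← Subgroup.relIndex_bot_left H, Subgroup.relIndex_mul_relIndex _ _ _ bot_le h, Subgroup.relIndex_bot_left]
    set P₀ : Subgroup M := (P : Subgroup M) with hP₀
    have hcard : Nat.card ↥(P₀ ⊓ LM) * P₀.relIndex LM = Nat.card L := by
      rw [← Subgroup.inf_relIndex_right P₀ LM, hrel _ _ inf_le_right]
      exact Nat.card_congr (Subgroup.subgroupOfEquivOfLe hLM).toEquiv
    have hidx : ¬ p ∣ P₀.relIndex LM := fun h => P.not_dvd_index (h.trans (by
      have e1 := hrel (P₀ ⊓ LM) LM inf_le_right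
      have e2 := hrel (P₀ ⊓ LM) P₀ inf_le_left
      have e3 := hrel LM (P₀ ⊔ LM) le_sup_right
      have e4 := hrel P₀ (P₀ ⊔ LM) le_sup_left
      rw [Subgroup.inf_relIndex_right] at e1
      rw [Subgroup.inf_relIndex_left] at e2
      rw [Subgroup.relIndex_sup_right] at e3
      rw [← e3, ← e1, mul_assoc, mul_comm (P₀.relIndex LM), ← mul_assoc, e2] at e4
      rw [← hP₀, ← Subgroup.relIndex_mul_index (le_sup_left : P₀ ≤ P₀ ⊔ LM), Nat.eq_of_mul_eq_mul_left Nat.card_pos e4]
      exact dvd_mul_right _ _))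
    obtain ⟨j, hj⟩ := (P.2.to_le (inf_le_left : P₀ ⊓ LM ≤ P₀)).exists_card_eq
    rw [hj]
    congr 1
    rw [← hcard, hj, Nat.factorization_mul (pow_ne_zero _ hp.ne_zero) (fun h0 => hidx (by rw [h0]; exact dvd_zero p)),
      Finsupp.add_apply, hp.factorization_pow, Finsupp.single_eq_same, Nat.factorization_eq_zero_of_not_dvd hidx, add_zero]
  have hcardL : Nat.card L' = Nat.card L := by
    have hmap : L'.map (MulAut.conj (⟨c, hc⟩ : G)).toMonoidHom = L := by
      ext x
      rw [Subgroup.mem_map_equiv, hLmem, hL', mem_fixingSubgroup_iff]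
      constructor
      · intro h z hz
        obtain ⟨w, hw, rfl⟩ := Finset.mem_image.1 (hcΓ ▸ hz : z ∈ Γ'.image c)
        have := h w hw
        rw [MulAut.conj_symm_apply, mul_smul, mul_smul, inv_smul_eq_iff] at this
        exact this
      · intro h w hw
        rw [MulAut.conj_symm_apply, mul_smul, mul_smul, inv_smul_eq_iff]
        exact h _ (hcΓ ▸ Finset.mem_image_of_mem c hw)
    rw [← hmap]
    exact (Subgroup.card_map_of_injective (MulEquiv.injective _)).symm
  obtain ⟨j, hj⟩ := ((P.2.map M.subtype).to_le (inf_le_left : P' ⊓ L' ≤ P')).exists_card_eq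
  have hlt : Nat.card (P' ⊓ L : Subgroup G) < Nat.card (P' ⊓ L' : Subgroup G) := by
    rcases (Subgroup.card_le_of_le hP0le).lt_or_eq with h | h
    · exact h
    · exact absurd (Subgroup.eq_of_le_of_card_ge hP0le h.ge ▸ hgP) hgL
  have hdvd : p ^ j ∣ Nat.card L := hcardL ▸ hj ▸ Subgroup.card_dvd_of_le inf_le_right
  rw [hsyl, hj, Nat.pow_lt_pow_iff_right hp.one_lt] at hlt
  exact absurd ((hp.pow_dvd_iff_le_factorization Nat.card_pos.ne').1 hdvd) (not_le.2 hlt)

end Cfsg.Agent.S0706
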