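import Mathlib
import Cfsg.Statements.S0707

set_option autoImplicit false
open Cfsg

namespace Cfsg.Agent.S0707


/-- In a primitive permutation group, distinct points have distinct stabilisers unless the group is regular of prime degree. -/
theorem result {α : Type*} (G : Subgroup (Equiv.Perm α)) [MulAction.IsPreprimitive G α] (h : ¬ (Nat.card α).Prime ∨ ∃ a : α, MulAction.stabilizer G a ≠ ⊥) {a b : α} (hab : a ≠ b) : MulAction.stabilizer G a ≠ MulAction.stabilizer G b := by
  intro he
  have hnt : Nontrivial α := ⟨a, b, hab⟩
  have hco : IsCoatom (MulAction.stabilizer G a) :=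
    (MulAction.isCoatom_stabilizer_iff_preprimitive _ a).mpr inferInstance
  -- the fixed points of the stabiliser of `a` form a block
  let B : Set α := {x | MulAction.stabilizer G x = MulAction.stabilizer G a}
  have hB : MulAction.IsBlock G B := by
    rw [MulAction.isBlock_iff_smul_eq_smul_of_nonempty]
    rintro g g' ⟨x, ⟨u, hu, hux⟩, ⟨v, hv, hvx⟩⟩
    have : (MulAction.stabilizer G a).map (MulEquiv.toMonoidHom (MulAut.conj g)) = (MulAction.stabilizer G a).map (MulEquiv.toMonoidHom (MulAut.conj g')) := by
      have h1 := MulAction.stabilizer_smul_eq_stabilizer_map_conj g u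
      have h2 := MulAction.stabilizer_smul_eq_stabilizer_map_conj g' v
      simp only [Set.mem_ofPred_eq, B] at hu hv
      rw [hu] at h1; rw [hv] at h2
      simp only at hux hvx
      rw [hux] at h1; rw [hvx] at h2
      exact h1.symm.trans h2
    ext z
    simp only [Set.mem_smul_set_iff_inv_smul_mem, B, Set.mem_ofPred_eq]
    have f1 : ∀ k : G, MulAction.stabilizer G z =
        (MulAction.stabilizer G (k⁻¹ • z)).map (MulEquiv.toMonoidHom (MulAut.conj k)) := by
      intro k
      have := MulAction.stabilizer_smul_eq_stabilizer_map_conj k (k⁻¹ • z)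
      rwa [smul_inv_smul] at this
    constructor
    · intro hz
      apply Subgroup.map_injective (f := MulEquiv.toMonoidHom (MulAut.conj g'))
        (MulAut.conj g').injective
      rw [← f1 g', f1 g, hz]
      exact this
    · intro hz
      apply Subgroup.map_injective (f := MulEquiv.toMonoidHom (MulAut.conj g))
        (MulAut.conj g).injective
      rw [← f1 g, f1 g', hz]
      exact this.symm
  have haB : a ∈ B := rfl
  have hbB : b ∈ B := he.symm
  rcases hB.subsingleton_or_eq_univ with h' | h'
  · exact hab (h' haB hbB)
  · have hall : ∀ x, MulAction.stabilizer G x = MulAction.stabilizer G a := fun x => by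
      have : x ∈ B := h' ▸ Set.mem_univ x
      exact this
    have hbot : MulAction.stabilizer G a = ⊥ := by
      rw [eq_bot_iff]
      intro g hg
      rw [Subgroup.mem_bot]
      apply Subtype.ext
      ext x
      have : g ∈ MulAction.stabilizer G x := (hall x).symm ▸ hg
      exact this
    rcases h with h | ⟨x, hx⟩
    · apply h
      -- G has no proper non-trivial subgroup
      have htop : ∀ K : Subgroup G, K = ⊥ ∨ K = ⊤ := by
        intro K
        rcases eq_or_ne K ⊥ with hK | hK
        · exact Or.inl hK
        · exact Or.inr (hco.2 K (hbot ▸ hK.bot_lt))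
      have hbij : Function.Bijective (fun g : G => g • a) := by
        refine ⟨fun g k hgk => ?_, fun x => MulAction.exists_smul_eq G a x⟩
        have : k⁻¹ * g ∈ MulAction.stabilizer G a := by
          rw [MulAction.mem_stabilizer_iff, mul_smul]
          simp only at hgk
          rw [hgk, inv_smul_smul]
        rw [hbot, Subgroup.mem_bot, inv_mul_eq_one] at this
        exact this.symm
      haveI : Nontrivial G := by
        obtain ⟨g, hg⟩ := hbij.2 b
        refine ⟨g, 1, fun h1 => hab ?_⟩
        rw [← hg, h1]; simp
      rw [← Nat.card_congr (Equiv.ofBijective _ hbij)]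
      obtain ⟨g, hg⟩ := exists_ne (1 : G)
      have hgen : Subgroup.zpowers g = ⊤ := (htop _).resolve_left
        (Subgroup.zpowers_ne_bot.mpr hg)
      haveI : IsCyclic G := ⟨g, fun x => by
        have : x ∈ Subgroup.zpowers g := hgen.symm ▸ Subgroup.mem_top x
        exact this⟩
      haveI : IsSimpleGroup G := ⟨fun K _ => htop K⟩
      letI : CommGroup G := IsCyclic.commGroup
      exact IsSimpleGroup.prime_card
    · exact hx ((hall x).trans hbot)

end Cfsg.Agent.S0707
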