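import Mathlib
import Cfsg.Statements.S0709
-- import your own Cfsg.Agent.* helpers here

set_option autoImplicit false
open Cfsg

namespace Cfsg.Agent.S0709

set_option maxHeartbeats 1000000 in
/-- Witt's Lemma for constructing transitive extensions. Points `q 1, …, q t` (`t ≥ 2`) of a finite set are given; `G` fixes `q i` for `i ≥ 3` and is doubly transitive on the remaining points; `s 1 ∈ G` swaps `q 1, q 2`; for `2 ≤ i ≤ t-1`, `s i` swaps `q i, q (i+1)` and fixes the other `q j`; with `H` the stabiliser of `q 1, q 2` in `G`: `s i ^ 2 ∈ H`, `(s i * s (i+1)) ^ 3 ∈ H`, `(s i * s j) ^ 2 ∈ H` for `j ≥ i + 2`, and `s i` (`i ≥ 2`) normalises the stabiliser of `q 2` in `G`. Then `G` and the `s i` generate a `t`-transitive group whose pointwise stabiliser of the `q`'s is `H`. -/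
theorem result {α : Type*} [Fintype α] [DecidableEq α] (t : ℕ) (ht : 2 ≤ t) (q : ℕ → α) (hq : ∀ i j : ℕ, 1 ≤ i → i ≤ t → 1 ≤ j → j ≤ t → q i = q j → i = j) (G : Subgroup (Equiv.Perm α)) (hfix : ∀ g ∈ G, ∀ i : ℕ, 3 ≤ i → i ≤ t → g (q i) = q i) (h2 : ∀ a b c d : α, (∀ i, 3 ≤ i → i ≤ t → a ≠ q i ∧ b ≠ q i ∧ c ≠ q i ∧ d ≠ q i) → a ≠ b → c ≠ d → ∃ g ∈ G, g a = c ∧ g b = d) (s : ℕ → Equiv.Perm α) (hs1 : s 1 ∈ G) (hs1q : s 1 (q 1) = q 2 ∧ s 1 (q 2) = q 1) (hsq : ∀ i : ℕ, 2 ≤ i → i + 1 ≤ t → s i (q i) = q (i + 1) ∧ s i (q (i + 1)) = q i ∧ ∀ j : ℕ, 1 ≤ j → j ≤ t → j ≠ i → j ≠ i + 1 → s i (q j) = q j) (H : Subgroup (Equiv.Perm α)) (hH : H = G ⊓ MulAction.stabilizer (Equiv.Perm α) (q 1) ⊓ MulAction.stabilizer (Equiv.Perm α) (q 2)) (hsq2 : ∀ i : ℕ, 1 ≤ i → i + 1 ≤ t → s i ^ 2 ∈ H) (hbraid : ∀ i : ℕ, 1 ≤ i → i + 2 ≤ t → (s i * s (i + 1)) ^ 3 ∈ H) (hcomm : ∀ i j : ℕ, 1 ≤ i → i + 2 ≤ j → j + 1 ≤ t → (s i * s j) ^ 2 ∈ H ∧ (s j * s i) ^ 2 ∈ H) (hnorm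 : ∀ i : ℕ, 2 ≤ i → i + 1 ≤ t → ∀ g ∈ G ⊓ MulAction.stabilizer (Equiv.Perm α) (q 2), s i * g * (s i)⁻¹ ∈ G ⊓ MulAction.stabilizer (Equiv.Perm α) (q 2)) : MulAction.IsMultiplyPretransitive ↥(Subgroup.closure ((G : Set (Equiv.Perm α)) ∪ {x | ∃ i : ℕ, 2 ≤ i ∧ i + 1 ≤ t ∧ x = s i})) α t ∧ Subgroup.closure ((G : Set (Equiv.Perm α)) ∪ {x | ∃ i : ℕ, 2 ≤ i ∧ i + 1 ≤ t ∧ x = s i}) ⊓ fixingSubgroup (Equiv.Perm α) {x | ∃ i : ℕ, 1 ≤ i ∧ i ≤ t ∧ x = q i} = H := by
  classical
  set A : Subgroup (Equiv.Perm α) := G ⊓ MulAction.stabilizer (Equiv.Perm α) (q 2) with hA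
  let L : ℕ → Subgroup (Equiv.Perm α) := fun i =>
    if i ≤ 1 then A else Subgroup.closure ((G : Set (Equiv.Perm α)) ∪ {x | ∃ j : ℕ, 2 ≤ j ∧ j + 1 ≤ i ∧ x = s j})
  have hL1 : L 1 = A := if_pos le_rfl
  have hLi : ∀ i, 2 ≤ i → L i = Subgroup.closure ((G : Set (Equiv.Perm α)) ∪ {x | ∃ j : ℕ, 2 ≤ j ∧ j + 1 ≤ i ∧ x = s j}) :=
    fun i hi => if_neg (by omega)
  have hGL : ∀ i, 2 ≤ i → G ≤ L i := fun i hi g hg => by
    rw [hLi i hi]; exact Subgroup.subset_closure (Or.inl hg)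
  have hAL : ∀ i, 1 ≤ i → A ≤ L i := fun i hi => by
    rcases Nat.lt_or_ge i 2 with h | h
    · rw [show i = 1 by omega, hL1]
    · exact inf_le_left.trans (hGL i h)
  have hHA : H ≤ A := by rw [hH, hA]; exact le_inf (inf_le_left.trans inf_le_left) inf_le_right
  have hHL : ∀ i, 1 ≤ i → H ≤ L i := fun i hi => hHA.trans (hAL i hi)
  have hsL : ∀ k i, 1 ≤ k → k + 1 ≤ i → s k ∈ L i := fun k i hk hki => by
    rcases Nat.lt_or_ge k 2 with h | h
    · rw [show k = 1 by omega]; exact hGL i (by omega) hs1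
    · rw [hLi i (by omega)]; exact Subgroup.subset_closure (Or.inr ⟨k, h, hki, rfl⟩)
  have hmono : ∀ i j, 1 ≤ i → i ≤ j → L i ≤ L j := fun i j hi hij => by
    rcases Nat.lt_or_ge i 2 with h | h
    · rw [show i = 1 by omega, hL1]; exact hAL j (by omega)
    · rw [hLi i h, hLi j (by omega)]
      refine Subgroup.closure_mono (Set.union_subset_union_right _ ?_)
      rintro x ⟨k, hk, hk', rfl⟩
      exact ⟨k, hk, by omega, rfl⟩
  -- one step decomposition of the base group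
  have hbase : ∀ g ∈ L 2, g ∈ L 1 ∨ ∃ a ∈ L 1, ∃ b ∈ L 1, g = a * s 1 * b := by
    intro g hg
    have hgG : g ∈ G := by
      rw [hLi 2 le_rfl] at hg
      refine (Subgroup.closure_le G).2 ?_ hg
      rintro x (hx | ⟨j, hj, hj', rfl⟩)
      · exact hx
      · omega
    by_cases hgq : g (q 2) = q 2
    · exact Or.inl (by rw [hL1]; exact ⟨hgG, hgq⟩)
    · right
      have hout : ∀ i, 3 ≤ i → i ≤ t → q 2 ≠ q i ∧ q 1 ≠ q i ∧ q 2 ≠ q i ∧ g (q 2) ≠ q i := by
        intro i hi hit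
        have h2i : q 2 ≠ q i := fun e => by have := hq 2 i (by omega) (by omega) (by omega) hit e; omega
        have h1i : q 1 ≠ q i := fun e => by have := hq 1 i le_rfl (by omega) (by omega) hit e; omega
        exact ⟨h2i, h1i, h2i, fun e => h2i (g.injective (e.trans (hfix g hgG i hi hit).symm))⟩
      have h21 : q 2 ≠ q 1 := fun e => by have := hq 2 1 (by omega) ht le_rfl (by omega) e; omega
      obtain ⟨a, haG, ha2, ha1⟩ := h2 _ _ _ _ hout h21 (Ne.symm hgq)
      refine ⟨a, by rw [hL1]; exact ⟨haG, ha2⟩, (s 1)⁻¹ * a⁻¹ * g, ?_, by group⟩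
      rw [hL1]
      refine Subgroup.mem_inf.2 ⟨mul_mem (mul_mem (inv_mem hs1) (inv_mem haG)) hgG, ?_⟩
      show (s 1)⁻¹ (a⁻¹ (g (q 2))) = q 2
      rw [← ha1]; simp only [Equiv.Perm.inv_def, Equiv.symm_apply_apply]; rw [Equiv.symm_apply_eq, hs1q.2]
  -- conjugation by later generators
  have hsq' : ∀ i, 1 ≤ i → i + 1 ≤ t → (s i)⁻¹ = (s i ^ 2)⁻¹ * s i := fun i _ _ => by group
  have hnormL : ∀ i j, 1 ≤ j → j < i → i + 1 ≤ t → ∀ g ∈ L j, s i * g * (s i)⁻¹ ∈ L j := by
    intro i j hj hji hit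
    rcases Nat.lt_or_ge j 2 with h | h
    · rw [show j = 1 by omega, hL1]; exact hnorm i (by omega) hit
    have hk : ∀ k, 1 ≤ k → k + 1 ≤ j → s i * s k * (s i)⁻¹ ∈ L j := by
      intro k hk hkj
      have e : s i * s k * (s i)⁻¹ = (s i * s k) ^ 2 * (s k)⁻¹ * (s i ^ 2)⁻¹ := by rw [sq, sq]; group
      rw [e]
      exact mul_mem (mul_mem (hHL j hj (hcomm k i hk (by omega) hit).2) (inv_mem (hsL k j hk hkj)))
        (inv_mem (hHL j hj (hsq2 i (by omega) hit)))
    intro g hg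
    have : L j ≤ (L j).comap (MulAut.conj (s i)).toMonoidHom := by
      conv_lhs => rw [hLi j h]
      rw [Subgroup.closure_le]
      rintro x (hx | ⟨k, hk2, hkj, rfl⟩)
      · show s i * x * (s i)⁻¹ ∈ L j
        rcases hbase x (hGL 2 le_rfl hx) with hx1 | ⟨a, ha, b, hb, rfl⟩
        · exact hAL j hj (hnorm i (by omega) hit x (hL1 ▸ hx1))
        · rw [show s i * (a * s 1 * b) * (s i)⁻¹ = (s i * a * (s i)⁻¹) * (s i * s 1 * (s i)⁻¹) * (s i * b * (s i)⁻¹) by group]
          exact mul_mem (mul_mem (hAL j hj (hnorm i (by omega) hit a (hL1 ▸ ha))) (hk 1 le_rfl (by omega)))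
            (hAL j hj (hnorm i (by omega) hit b (hL1 ▸ hb)))
      · exact hk k (by omega) hkj
    exact this hg
  have hdec : ∀ i, 1 ≤ i → i + 1 ≤ t → ∀ g ∈ L (i + 1), g ∈ L i ∨ ∃ a ∈ L i, ∃ b ∈ L i, g = a * s i * b := by
    intro i
    induction i with
    | zero => intro h; omega
    | succ i ih =>
      intro _ hit
      rcases Nat.eq_zero_or_pos i with rfl | hi
      · exact hbase
      have hD := ih hi (by omega)
      set P : Equiv.Perm α → Prop := fun g => g ∈ L (i + 1) ∨ ∃ a ∈ L (i + 1), ∃ b ∈ L (i + 1), g = a * s (i + 1) * b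
      have hs2mem : ∀ k, 1 ≤ k → s (i + 1) ^ 2 ∈ L k := fun k hk => hHL k hk (hsq2 (i + 1) (by omega) hit)
      have hleft : ∀ c ∈ L (i + 1), ∀ g, P g → P (c * g) := by
        rintro c hc g (hg | ⟨a, ha, b, hb, rfl⟩)
        · exact Or.inl (mul_mem hc hg)
        · exact Or.inr ⟨c * a, mul_mem hc ha, b, hb, by group⟩
      have hright : ∀ c ∈ L (i + 1), ∀ g, P g → P (g * c) := by
        rintro c hc g (hg | ⟨a, ha, b, hb, rfl⟩)
        · exact Or.inl (mul_mem hg hc)
        · exact Or.inr ⟨a, ha, b * c, mul_mem hb hc, by group⟩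
      have hkey : ∀ a ∈ L (i + 1), P (s (i + 1) * a * s (i + 1)) := by
        intro a ha
        rcases hD a ha with ha' | ⟨c, hc, d, hd, rfl⟩
        · refine Or.inl ?_
          rw [show s (i + 1) * a * s (i + 1) = (s (i + 1) * a * (s (i + 1))⁻¹) * s (i + 1) ^ 2 by group]
          exact mul_mem (hmono i (i + 1) hi (by omega) (hnormL (i + 1) i hi (by omega) hit a ha')) (hs2mem _ (by omega))
        · refine Or.inr ⟨(s (i + 1) * c * (s (i + 1))⁻¹) * ((s i)⁻¹ * (s i * s (i + 1)) ^ 3 * (s (i + 1) ^ 2)⁻¹), ?_,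
            (s i)⁻¹ * ((s (i + 1) ^ 2)⁻¹ * (s (i + 1) * d * (s (i + 1))⁻¹) * s (i + 1) ^ 2), ?_, by simp only [pow_succ, pow_zero, one_mul]; group⟩
          · exact mul_mem (hmono i (i + 1) hi (by omega) (hnormL (i + 1) i hi (by omega) hit c hc))
              (mul_mem (mul_mem (inv_mem (hsL i (i + 1) hi le_rfl)) (hHL _ (by omega) (hbraid i hi hit)))
                (inv_mem (hs2mem _ (by omega))))
          · exact mul_mem (inv_mem (hsL i (i + 1) hi le_rfl))
              (mul_mem (mul_mem (inv_mem (hs2mem _ (by omega)))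
                (hmono i (i + 1) hi (by omega) (hnormL (i + 1) i hi (by omega) hit d hd))) (hs2mem _ (by omega)))
      have hs : ∀ g, P g → P (s (i + 1) * g) := by
        rintro g (hg | ⟨a, ha, b, hb, rfl⟩)
        · exact Or.inr ⟨1, one_mem _, g, hg, by group⟩
        · rw [show s (i + 1) * (a * s (i + 1) * b) = (s (i + 1) * a * s (i + 1)) * b by group]
          exact hright b hb _ (hkey a ha)
      intro g hg
      rw [hLi (i + 1 + 1) (by omega)] at hg
      have hcases : ∀ x ∈ (G : Set (Equiv.Perm α)) ∪ {x | ∃ j : ℕ, 2 ≤ j ∧ j + 1 ≤ i + 1 + 1 ∧ x = s j},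
          x ∈ L (i + 1) ∨ x = s (i + 1) := by
        rintro x (hx | ⟨j, hj, hj', rfl⟩)
        · exact Or.inl (hGL (i + 1) (by omega) hx)
        · rcases Nat.lt_or_ge j (i + 1) with h | h
          · exact Or.inl (hsL j (i + 1) (by omega) h)
          · exact Or.inr (by rw [show j = i + 1 by omega])
      refine Subgroup.closure_induction_left (p := fun g _ => P g) (Or.inl (one_mem _))
        (fun x hx y _ hy => ?_) (fun x hx y _ hy => ?_) hg
      · rcases hcases x hx with h | rfl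
        · exact hleft x h y hy
        · exact hs y hy
      · rcases hcases x hx with h | rfl
        · exact hleft _ (inv_mem h) y hy
        · rw [hsq' (i + 1) (by omega) hit, mul_assoc]
          exact hleft _ (inv_mem (hs2mem _ (by omega))) _ (hs y hy)
  have hfixL : ∀ i, 2 ≤ i → ∀ g ∈ L i, ∀ j, i < j → j ≤ t → g (q j) = q j := by
    intro i hi g hg j hij hjt
    have : L i ≤ MulAction.stabilizer (Equiv.Perm α) (q j) := by
      rw [hLi i hi, Subgroup.closure_le]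
      rintro x (hx | ⟨k, hk, hki, rfl⟩)
      · exact hfix x hx j (by omega) hjt
      · exact (hsq k hk (by omega)).2.2 j (by omega) hjt (by omega) (by omega)
    exact this hg
  have hstab : ∀ i, 2 ≤ i → i + 1 ≤ t → ∀ g ∈ L (i + 1), g (q (i + 1)) = q (i + 1) → g ∈ L i := by
    intro i hi hit g hg hgq
    rcases hdec i (by omega) hit g hg with h | ⟨a, ha, b, hb, rfl⟩
    · exact h
    · exfalso
      rw [Equiv.Perm.mul_apply, Equiv.Perm.mul_apply, hfixL i hi b hb _ (by omega) hit, (hsq i hi hit).2.1] at hgq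
      have e : q i = q (i + 1) := a.injective (hgq.trans (hfixL i hi a ha _ (by omega) hit).symm)
      have := hq i (i + 1) (by omega) (by omega) (by omega) hit e
      omega
  let Ok : ℕ → α → Prop := fun i x => ∀ j, i < j → j ≤ t → x ≠ q j
  have hOk : ∀ i, 2 ≤ i → ∀ g ∈ L i, ∀ x, Ok i x → Ok i (g x) := fun i hi g hg x hx j hij hjt e =>
    hx j hij hjt (g.injective (e.trans (hfixL i hi g hg j hij hjt).symm))
  have horb : ∀ i, 2 ≤ i → i ≤ t → ∀ x, Ok i x → ∃ g ∈ L i, g (q i) = x := by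
    intro i hi
    induction i, hi using Nat.le_induction with
    | base =>
      intro _ x hx
      by_cases hxq : x = q 2
      · exact ⟨1, one_mem _, by rw [hxq]; rfl⟩
      have hout : ∀ i, 3 ≤ i → i ≤ t → q 2 ≠ q i ∧ q 1 ≠ q i ∧ x ≠ q i ∧ q 2 ≠ q i := by
        intro i hi hit
        have h2i : q 2 ≠ q i := fun e => by have := hq 2 i (by omega) (by omega) (by omega) hit e; omega
        have h1i : q 1 ≠ q i := fun e => by have := hq 1 i le_rfl (by omega) (by omega) hit e; omega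
        exact ⟨h2i, h1i, hx i (by omega) hit, h2i⟩
      obtain ⟨g, hg, hg2, -⟩ := h2 _ _ _ _ hout
        (fun e => by have := hq 2 1 (by omega) ht le_rfl (by omega) e; omega) hxq
      exact ⟨g, hGL 2 le_rfl hg, hg2⟩
    | succ i hi ih =>
      intro hit x hx
      by_cases hxq : x = q (i + 1)
      · exact ⟨1, one_mem _, by rw [hxq]; rfl⟩
      obtain ⟨g, hg, hgx⟩ := ih (by omega) x fun j hij hjt => by
        rcases Nat.lt_or_ge (i + 1) j with h | h
        · exact hx j h hjt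
        · rw [show j = i + 1 by omega]; exact hxq
      exact ⟨g * s i, mul_mem (hmono i (i + 1) (by omega) (by omega) hg) (hsL i (i + 1) (by omega) le_rfl), by
        rw [Equiv.Perm.mul_apply, (hsq i hi hit).2.1, hgx]⟩
  have htrans : ∀ i, 2 ≤ i → i ≤ t → ∀ f f' : Fin i → α, Function.Injective f → Function.Injective f' →
      (∀ k, Ok i (f k)) → (∀ k, Ok i (f' k)) → ∃ g ∈ L i, ∀ k, g (f k) = f' k := by
    intro i hi
    induction i, hi using Nat.le_induction with
    | base =>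
      intro _ f f' hf hf' ho ho'
      obtain ⟨g, hg, h0, h1⟩ := h2 (f 0) (f 1) (f' 0) (f' 1)
        (fun j hj hjt => ⟨ho 0 j (by omega) hjt, ho 1 j (by omega) hjt, ho' 0 j (by omega) hjt, ho' 1 j (by omega) hjt⟩)
        (fun e => absurd (hf e) (by decide)) (fun e => absurd (hf' e) (by decide))
      exact ⟨g, hGL 2 le_rfl hg, Fin.forall_fin_two.2 ⟨h0, h1⟩⟩
    | succ i hi ih =>
      intro hit f f' hf hf' ho ho'
      obtain ⟨g₁, hg₁, e₁⟩ := horb (i + 1) (by omega) hit _ (ho (Fin.last i))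
      obtain ⟨g₂, hg₂, e₂⟩ := horb (i + 1) (by omega) hit _ (ho' (Fin.last i))
      have hinit : ∀ (g : Equiv.Perm α) (f : Fin (i + 1) → α), g ∈ L (i + 1) → g (q (i + 1)) = f (Fin.last i) →
          Function.Injective f → (∀ k, Ok (i + 1) (f k)) → ∀ k : Fin i, Ok i (g⁻¹ (f k.castSucc)) := by
        intro g f hg e hf ho k j hij hjt
        rcases Nat.lt_or_ge (i + 1) j with h | h
        · exact hOk (i + 1) (by omega) g⁻¹ (inv_mem hg) _ (ho _) j h hjt
        · rw [show j = i + 1 by omega]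
          intro e'
          rw [Equiv.Perm.inv_eq_iff_eq, e] at e'
          exact absurd (hf e') (Fin.castSucc_lt_last k).ne
      obtain ⟨h, hh, hhk⟩ := ih (by omega) (fun k => g₁⁻¹ (f k.castSucc)) (fun k => g₂⁻¹ (f' k.castSucc))
        (fun a b e => Fin.castSucc_injective i (hf (g₁⁻¹.injective e)))
        (fun a b e => Fin.castSucc_injective i (hf' (g₂⁻¹.injective e)))
        (hinit g₁ f hg₁ e₁ hf ho) (hinit g₂ f' hg₂ e₂ hf' ho')
      refine ⟨g₂ * h * g₁⁻¹, mul_mem (mul_mem hg₂ (hmono i (i + 1) (by omega) (by omega) hh)) (inv_mem hg₁), fun k => ?_⟩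
      refine Fin.lastCases ?_ (fun k => ?_) k
      · rw [Equiv.Perm.mul_apply, Equiv.Perm.mul_apply, ← e₁, Equiv.Perm.inv_def, Equiv.symm_apply_apply,
          hfixL i hi h hh _ (by omega) hit, e₂]
      · rw [Equiv.Perm.mul_apply, Equiv.Perm.mul_apply, hhk k]
        exact Equiv.apply_symm_apply g₂ _
  rw [← hLi t ht]
  constructor
  · refine MulAction.IsPretransitive.mk fun f f' => ?_
    obtain ⟨g, hg, he⟩ := htrans t ht le_rfl f f' f.injective f'.injective (fun k j h h' => by omega)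
      (fun k j h h' => by omega)
    exact ⟨⟨g, hg⟩, DFunLike.ext _ _ he⟩
  · refine le_antisymm ?_ (le_inf (hHL t (by omega)) ?_)
    · rintro g ⟨hg, hgf⟩
      have hgfix : ∀ i, 1 ≤ i → i ≤ t → g (q i) = q i := fun i h1 h2 =>
        (mem_fixingSubgroup_iff (Equiv.Perm α)).1 hgf _ ⟨i, h1, h2, rfl⟩
      have hdown : ∀ i, 2 ≤ i → i ≤ t → g ∈ L i → g ∈ L 2 := by
        intro i hi
        induction i, hi using Nat.le_induction with
        | base => intro _ h; exact h
        | succ i hi ih => intro hit h; exact ih (by omega) (hstab i hi hit g h (hgfix _ (by omega) hit))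
      have hgG : g ∈ G := by
        have := hdown t ht le_rfl hg
        rw [hLi 2 le_rfl] at this
        refine (Subgroup.closure_le G).2 ?_ this
        rintro x (hx | ⟨j, hj, hj', rfl⟩)
        · exact hx
        · omega
      rw [hH]
      exact ⟨⟨hgG, hgfix 1 le_rfl (by omega)⟩, hgfix 2 (by omega) ht⟩
    · intro g hg
      rw [hH] at hg
      rw [mem_fixingSubgroup_iff]
      rintro x ⟨i, h1, h2, rfl⟩
      show g (q i) = q i
      rcases (by omega : i = 1 ∨ i = 2 ∨ 3 ≤ i) with rfl | rfl | h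
      · exact hg.1.2
      · exact hg.2
      · exact hfix g hg.1.1 i h h2

end Cfsg.Agent.S0709
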