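import Mathlib
import Cfsg.Statements.S0710
import Cfsg.Agent.Lib.PrimeDegreeCoord

set_option autoImplicit false
open Cfsg

namespace Cfsg.Agent.S0710


/-- No transitive permutation group on 13 points has order `13 * 12 * 11 * 10 * 9 * 8`. -/
theorem result {α : Type*} [Fintype α] [DecidableEq α] (hα : Fintype.card α = 13) (G : Subgroup (Equiv.Perm α)) [MulAction.IsPretransitive G α] : Nat.card G ≠ 13 * 12 * 11 * 10 * 9 * 8 := by
  haveI : Fact (Nat.Prime 13) := ⟨by norm_num⟩
  intro hG
  rw [← Nat.card_eq_fintype_card] at hα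
  obtain ⟨P⟩ : Nonempty (Sylow 13 G) := inferInstance
  have h1 := Cfsg.Agent.PrimeDegreeCoord.card_normalizer_dvd hα G P
  have h2 : Nat.card (P : Subgroup G) ∣ Nat.card (Subgroup.normalizer ((P : Subgroup G) : Set G)) :=
    Subgroup.card_dvd_of_le Subgroup.le_normalizer
  have h2' : 13 ∣ Nat.card (Subgroup.normalizer ((P : Subgroup G) : Set G)) :=
    (dvd_of_eq (Eq.symm (Cfsg.Agent.PrimeDegreeCoord.card_sylow hα G P))).trans h2
  have h3 := card_sylow_modEq_one 13 G
  replace h3 : (Subgroup.normalizer ((P : Subgroup G) : Set G)).index ≡ 1 [MOD 13] := by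
    have e := P.card_eq_index_normalizer
    exact (congrArg (· % 13) e.symm).trans h3
  have h4 := Subgroup.card_mul_index (Subgroup.normalizer ((P : Subgroup G) : Set G))
  rw [hG] at h4
  obtain ⟨d, hd⟩ := h2'
  rw [hd] at h1 h4
  have hd' : d ∣ 12 := (Nat.mul_dvd_mul_iff_left (by norm_num : 0 < 13)).mp h1
  have hd12 : d ≤ 12 := Nat.le_of_dvd (by norm_num) hd'
  have h5 : (Subgroup.normalizer ((P : Subgroup G) : Set G)).index % 13 = 1 := h3
  interval_cases d <;> omega

end Cfsg.Agent.S0710
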