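import Mathlib
import Cfsg.Statements.S0712

set_option autoImplicit false
open Cfsg

namespace Cfsg.Agent.S0712


/-- Jordan: a primitive group in which the pointwise stabiliser of a set `s` is doubly transitive on the complement of `s` (which has at least 2 points) is `(|s| + 2)`-transitive. -/
theorem result {α : Type*} [Fintype α] [DecidableEq α] (G : Subgroup (Equiv.Perm α)) (hG : MulAction.IsPreprimitive G α) (s : Set α) {m : ℕ} (hsm : s.ncard = m) (hm : m + 2 ≤ Fintype.card α) (h2 : MulAction.IsMultiplyPretransitive (fixingSubgroup G s) (SubMulAction.ofFixingSubgroup G s) 2) : MulAction.IsMultiplyPretransitive G α (m + 2) := by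
  subst hsm
  rw [← Nat.card_eq_fintype_card] at hm
  -- `G` is `|s|`-transitive
  have hk : MulAction.IsMultiplyPretransitive G α s.ncard := by
    rcases Nat.eq_zero_or_pos s.ncard with h0 | h0
    · rw [h0]; exact MulAction.is_zero_pretransitive'
    · obtain ⟨n, hn⟩ := Nat.exists_eq_add_of_le' h0
      have := MulAction.IsPreprimitive.isMultiplyPreprimitive hG (n := n) hn (by omega)
        (MulAction.isPreprimitive_of_is_two_pretransitive h2)
      haveI : MulAction.IsMultiplyPretransitive G α (n + 2) := this.isMultiplyPretransitive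
      exact MulAction.isMultiplyPretransitive_of_le (n := n + 2) (by omega) (by omega)
  obtain ⟨e⟩ : Nonempty (Fin s.ncard ≃ s) := Finite.card_eq.mp (by simp [Nat.card_coe_set_eq])
  let es : Fin s.ncard ↪ α := e.toEmbedding.trans (Function.Embedding.subtype _)
  -- normal form of a tuple
  have norm : ∀ x : Fin (s.ncard + 2) ↪ α, ∃ (g : G) (z : Fin 2 ↪ SubMulAction.ofFixingSubgroup G s),
      (∀ i : Fin s.ncard, g • x (Fin.castAdd 2 i) = es i) ∧
      ∀ j : Fin 2, g • x (Fin.natAdd s.ncard j) = (z j : α) := by
    intro x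
    obtain ⟨g, hg⟩ := hk.exists_smul_eq ((Fin.castAddEmb 2).trans x) es
    have hg' : ∀ i, g • x (Fin.castAdd 2 i) = es i := fun i => DFunLike.congr_fun hg i
    refine ⟨g, ⟨fun j => ⟨g • x (Fin.natAdd s.ncard j), fun hj => ?_⟩, fun i j h => ?_⟩, hg',
      fun j => rfl⟩
    · have he : es (e.symm ⟨_, hj⟩) = g • x (Fin.natAdd s.ncard j) := by simp [es]
      rw [← hg'] at he
      have := congrArg Fin.val (x.injective ((MulAction.injective g) he))
      simp at this
      omega
    · have := x.injective ((MulAction.injective g) (congrArg Subtype.val h))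
      simpa [Fin.ext_iff] using this
  constructor
  intro x y
  obtain ⟨g, z, hg, hgz⟩ := norm x
  obtain ⟨k, w, hk', hkw⟩ := norm y
  obtain ⟨f, hf⟩ := h2.exists_smul_eq z w
  refine ⟨k⁻¹ * (f : G) * g, ?_⟩
  ext i
  change (k⁻¹ * (f : G) * g) • x i = y i
  rw [mul_smul, mul_smul, inv_smul_eq_iff]
  refine Fin.addCases (fun i => ?_) (fun j => ?_) i
  · rw [hg, hk']
    exact f.2 ⟨es i, (e i).2⟩
  · rw [hgz, hkw]
    exact congrArg Subtype.val (DFunLike.congr_fun hf j)

end Cfsg.Agent.S0712
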