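import Mathlib
import Cfsg.Statements.S0714

set_option autoImplicit false
open Cfsg

namespace Cfsg.Agent.S0714


/-- Over any field, the permutation module of the alternating group of degree at least 5 has exactly four invariant subspaces: zero, the constant functions, the functions with coordinate sum zero, and everything. -/
theorem result {α : Type*} [Fintype α] [DecidableEq α] (hα : 5 ≤ Fintype.card α) {K : Type*} [Field K] (W : Subrepresentation (Cfsg.permRep K (alternatingGroup α) α)) : W.toSubmodule = ⊥ ∨ W = Cfsg.permConstants K (alternatingGroup α) α ∨ W = Cfsg.permSumZero K (alternatingGroup α) α ∨ W.toSubmodule = ⊤ := by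
  classical
  -- only the constants and below
  by_cases hconst : ∀ f ∈ W.toSubmodule, ∀ x y : α, f x = f y
  · by_cases hbot : W.toSubmodule = ⊥
    · exact Or.inl hbot
    · refine Or.inr (Or.inl (Subrepresentation.toSubmodule_injective ?_))
      obtain ⟨f, hf, hf0⟩ := (Submodule.ne_bot_iff _).mp hbot
      obtain ⟨x₀, hx₀⟩ : ∃ x₀, f x₀ ≠ 0 := Function.ne_iff.mp hf0
      apply le_antisymm
      · intro v hv
        exact Submodule.mem_span_singleton.mpr ⟨v x₀, funext fun x => by
          simp [hconst v hv x₀ x]⟩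
      · refine Submodule.span_le.mpr (Set.singleton_subset_iff.mpr ?_)
        have : (fun _ => (1 : K)) = (f x₀)⁻¹ • f := funext fun x => by
          simp [hconst f hf x x₀, hx₀]
        rw [this]
        exact W.toSubmodule.smul_mem _ hf
  push Not at hconst
  obtain ⟨f, hf, a, b, hab⟩ := hconst
  have hne_ab : a ≠ b := fun h => hab (h ▸ rfl)
  -- acting by a 3-cycle
  have cyc : ∀ a b c : α, a ≠ b → a ≠ c → b ≠ c → ∀ v ∈ W.toSubmodule,
      v ∈ W.toSubmodule ∧ (fun x => v x - v ((Equiv.swap a c * Equiv.swap a b) x)) ∈ W.toSubmodule := by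
    intro a b c hab hac hbc v hv
    refine ⟨hv, ?_⟩
    have h3 : (Equiv.swap a c * Equiv.swap a b) ∈ (alternatingGroup α) :=
      Equiv.Perm.mem_alternatingGroup.mpr (Equiv.Perm.isThreeCycle_swap_mul_swap_same hac hab hbc.symm).sign
    have := W.toSubmodule.sub_mem hv (W.apply_mem_toSubmodule (⟨_, h3⟩ : (alternatingGroup α))⁻¹ hv)
    convert! this using 1
  have hnine : ∀ s : Finset α, s.card < 5 → ∃ z, z ∉ s := by
    intro s hs
    by_contra h
    push Not at h
    have : Fintype.card α ≤ s.card := Finset.card_le_card (fun z _ => h z)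
    omega
  -- some difference of two basis vectors
  have hdiff : ∃ c d : α, c ≠ d ∧ (Pi.single c 1 - Pi.single d 1 : α → K) ∈ W.toSubmodule := by
    obtain ⟨e, he⟩ := hnine {a, b} (by have := Finset.card_le_two (a := a) (b := b); omega)
    simp only [Finset.mem_insert, Finset.mem_singleton, not_or] at he
    set u : α → K := fun x => f x - f ((Equiv.swap a e * Equiv.swap a b) x) with hu
    have huM : u ∈ W.toSubmodule := (cyc a b e hne_ab (Ne.symm he.1) (Ne.symm he.2) f hf).2
    have hua : u a ≠ 0 := by
      simp only [hu, Equiv.Perm.mul_apply, Equiv.swap_apply_left,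
        Equiv.swap_apply_of_ne_of_ne hne_ab.symm (Ne.symm he.2)]
      exact sub_ne_zero.mpr hab
    obtain ⟨d, hd⟩ := hnine {a, b, e} (by
      have := Finset.card_le_three (a := a) (b := b) (c := e); omega)
    simp only [Finset.mem_insert, Finset.mem_singleton, not_or] at hd
    obtain ⟨g, hg⟩ := hnine {a, b, e, d} (by
      have := Finset.card_le_four (a := a) (b := b) (c := e) (d := d); omega)
    simp only [Finset.mem_insert, Finset.mem_singleton, not_or] at hg
    have hout : ∀ x, x ≠ a → x ≠ b → x ≠ e → u x = 0 := by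
      intro x h1 h2 h3
      simp [hu, Equiv.Perm.mul_apply, Equiv.swap_apply_of_ne_of_ne h1 h2,
        Equiv.swap_apply_of_ne_of_ne h1 h3]
    set w : α → K := fun x => u x - u ((Equiv.swap a g * Equiv.swap a d) x) with hw
    have hwM : w ∈ W.toSubmodule := (cyc a d g (Ne.symm hd.1) (Ne.symm hg.1) (Ne.symm hg.2.2.2) u huM).2
    refine ⟨a, g, Ne.symm hg.1, ?_⟩
    have : (Pi.single a 1 - Pi.single g 1 : α → K) = (u a)⁻¹ • w := by
      funext x
      simp only [Pi.sub_apply, Pi.smul_apply, smul_eq_mul, hw, Equiv.Perm.mul_apply]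
      have hud : u d = 0 := hout d hd.1 hd.2.1 hd.2.2
      have hug : u g = 0 := hout g hg.1 hg.2.1 hg.2.2.1
      rcases eq_or_ne x a with rfl | hxa
      · rw [Equiv.swap_apply_left, Equiv.swap_apply_of_ne_of_ne hd.1 (Ne.symm hg.2.2.2)]
        simp [hud, Ne.symm hg.1, hua]
      rcases eq_or_ne x g with rfl | hxg
      · rw [Equiv.swap_apply_of_ne_of_ne hg.1 hg.2.2.2, Equiv.swap_apply_right]
        simp [hug, hg.1, hua]
      rcases eq_or_ne x d with rfl | hxd
      · rw [Equiv.swap_apply_right, Equiv.swap_apply_left]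
        simp [hud, hug, hd.1, hxg]
      · rw [Equiv.swap_apply_of_ne_of_ne hxa hxd, Equiv.swap_apply_of_ne_of_ne hxa hxg]
        simp [hxa, hxg]
    rw [this]
    exact W.toSubmodule.smul_mem _ hwM
  -- all differences
  have hall : ∀ x y : α, (Pi.single x 1 - Pi.single y 1 : α → K) ∈ W.toSubmodule := by
    intro x y
    rcases eq_or_ne x y with rfl | hxy
    · simp
    obtain ⟨c, d, hcd, hm⟩ := hdiff
    haveI : MulAction.IsMultiplyPretransitive (alternatingGroup α) α (Nat.card α - 2) :=
      alternatingGroup.isMultiplyPretransitive α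
    have h2t : MulAction.IsMultiplyPretransitive (alternatingGroup α) α 2 :=
      MulAction.isMultiplyPretransitive_of_le (n := Nat.card α - 2)
        (by rw [Nat.card_eq_fintype_card]; omega) (by omega)
    obtain ⟨g, hgc, hgd⟩ := (MulAction.is_two_pretransitive_iff).mp h2t hcd hxy
    have := W.apply_mem_toSubmodule g hm
    convert! this using 1
    funext z
    simp only [Cfsg.permRep, MonoidHom.coe_mk, OneHom.coe_mk, LinearMap.coe_mk, AddHom.coe_mk,
      Pi.sub_apply, Pi.single_apply]
    have e : ∀ i : α, (g⁻¹ • z = i) ↔ (z = g • i) := fun i => inv_smul_eq_iff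
    simp only [e, hgc, hgd]
  have hS : (Cfsg.permSumZero K (alternatingGroup α) α).toSubmodule ≤ W.toSubmodule := by
    intro v hv
    have hv' : ∑ x, v x = 0 := hv
    have key : v = ∑ x, v x • (Pi.single x 1 - Pi.single a 1 : α → K) := by
      funext z
      simp only [Finset.sum_apply, Pi.smul_apply, Pi.sub_apply, smul_eq_mul, mul_sub,
        Finset.sum_sub_distrib, ← Finset.sum_mul, hv', zero_mul, sub_zero]
      simp [Pi.single_apply]
    rw [key]
    exact W.toSubmodule.sum_mem fun x _ => W.toSubmodule.smul_mem _ (hall x a)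
  by_cases hle : W.toSubmodule ≤ (Cfsg.permSumZero K (alternatingGroup α) α).toSubmodule
  · exact Or.inr (Or.inr (Or.inl (Subrepresentation.toSubmodule_injective (le_antisymm hle hS))))
  · refine Or.inr (Or.inr (Or.inr (eq_top_iff.mpr fun v _ => ?_)))
    obtain ⟨w, hw, hw'⟩ := Set.not_subset.mp hle
    have hs : ∑ x, w x ≠ 0 := hw'
    have : v - ((∑ x, v x) / ∑ x, w x) • w ∈ W.toSubmodule := hS (by
      change ∑ x, (v x - ((∑ y, v y) / ∑ y, w y) * w x) = 0
      rw [Finset.sum_sub_distrib, ← Finset.mul_sum, div_mul_cancel₀ _ hs, sub_self])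
    simpa using W.toSubmodule.add_mem this (W.toSubmodule.smul_mem ((∑ x, v x) / ∑ x, w x) hw)

end Cfsg.Agent.S0714
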