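import Mathlib
import Cfsg.Statements.S0716
import Cfsg.Agent.Lib.PermOrbital28

set_option autoImplicit false
open Cfsg

namespace Cfsg.Agent.S0716

open Cfsg.Agent.CharBasic Cfsg.Agent.CharBasicOrth Cfsg.Agent.CharBasicDecomp
open Cfsg.Agent.PermOrbital28

variable {G : Type*} [Group G] [Fintype G] {Ω : Type*} [Fintype Ω] [MulAction G Ω]
  [MulAction.IsPretransitive G Ω]

open Classical in
theorem multiplicities (a : Ω) :
    ∃ m : Cfsg.IrrCharacter G → ℕ, (∀ χ : Cfsg.IrrCharacter G, Cfsg.classInner (pc G Ω) (χ : G → ℂ) = m χ) ∧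
      m (trivIrr G) = 1 ∧
      1 + ∑ χ ∈ Finset.univ.erase (trivIrr G), m χ * m χ =
        Nat.card (MulAction.orbitRel.Quotient (MulAction.stabilizer G a) Ω) ∧
      (1 : ℂ) + ∑ χ ∈ Finset.univ.erase (trivIrr G), (m χ : ℂ) * (χ : G → ℂ) 1 = Fintype.card Ω := by
  haveI : Nonempty Ω := ⟨a⟩
  obtain ⟨m, hm, hsum⟩ := exists_mult (isCharacter_pc (G := G) (Ω := Ω))
  have h1 : m (trivIrr G) = 1 := Nat.cast_injective (R := ℂ) (by
    rw [← hm, Nat.cast_one]; exact classInner_pc_one)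
  refine ⟨m, hm, h1, ?_, ?_⟩
  · have h := classInner_eq_sum (φ := pc G Ω) (isClassFunction_of_isCharacter (isCharacter_pc (G := G) (Ω := Ω)))
    simp only [classInner_pc_self a, hm, map_natCast] at h
    rw [← Finset.add_sum_erase _ _ (Finset.mem_univ (trivIrr G)), h1] at h
    simp only [Nat.cast_one, mul_one] at h
    exact_mod_cast h.symm
  · have h := congrFun hsum 1
    rw [pc_one, Finset.sum_apply, ← Finset.add_sum_erase _ _ (Finset.mem_univ (trivIrr G)), h1] at h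
    simp only [Pi.smul_apply, smul_eq_mul, Nat.cast_one, one_mul] at h
    rw [h]
    rfl

open Classical in
theorem part_a (a : Ω) (f : ℕ)
    (hf : ∀ χ : G → ℂ, Cfsg.IsIrrCharacter G χ → χ ≠ (fun _ => 1) →
      Cfsg.classInner (pc G Ω) χ ≠ 0 → χ 1 = f) :
    (∀ χ : G → ℂ, Cfsg.IsIrrCharacter G χ →
      Cfsg.classInner (pc G Ω) χ = 0 ∨ Cfsg.classInner (pc G Ω) χ = 1) ∧
    ∀ b : Ω, b ≠ a → Nat.card (MulAction.orbit (MulAction.stabilizer G a) b) = f := by
  haveI : Nonempty Ω := ⟨a⟩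
  obtain ⟨m, hm, h1, hrank, hdeg⟩ := multiplicities (G := G) a
  set H := MulAction.stabilizer G a
  set s := (Finset.univ : Finset (Cfsg.IrrCharacter G)).erase (trivIrr G) with hs
  set Q := MulAction.orbitRel.Quotient H Ω with hQ
  let _ : Fintype Q := Fintype.ofFinite Q
  let q₀ : Q := Quotient.mk _ a
  let sz : Q → ℕ := fun q => Nat.card (MulAction.orbitRel.Quotient.orbit q)
  have hd : ∀ b : Ω, b ≠ a → f ∣ Nat.card (MulAction.orbit H b) := fun b hb =>
    dvd_subdegree f (fun χ h1' h2 h3 => ⟨1, by rw [hf χ h1' h2 h3, Nat.cast_one, mul_one]⟩) hb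
  have hsz : ∀ b : Ω, sz (Quotient.mk _ b) = Nat.card (MulAction.orbit H b) := fun b => rfl
  have hne : ∀ b : Ω, b ≠ a → (Quotient.mk _ b : Q) ≠ q₀ := by
    intro b hb e
    obtain ⟨k, hk⟩ := Quotient.exact e
    exact hb (hk.symm.trans (MulAction.mem_stabilizer_iff.1 k.2))
  have hge : ∀ q ∈ (Finset.univ : Finset Q).erase q₀, f ≤ sz q := by
    intro q hq
    induction q using Quotient.inductionOn with | _ b => ?_
    have hb : b ≠ a := fun e => (Finset.mem_erase.1 hq).1 (by rw [e])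
    haveI : Nonempty (MulAction.orbit H b) := ⟨⟨b, MulAction.mem_orbit_self b⟩⟩
    exact Nat.le_of_dvd (Nat.card_pos (α := MulAction.orbit H b)) (hd b hb)
  have hsz0 : sz q₀ = 1 := by
    rw [hsz]
    refine Nat.card_eq_one_iff_unique.2 ⟨⟨fun x y => Subtype.ext ?_⟩, ⟨⟨a, MulAction.mem_orbit_self a⟩⟩⟩
    obtain ⟨k, hk⟩ := x.2
    obtain ⟨l, hl⟩ := y.2
    rw [← hk, ← hl]
    exact (MulAction.mem_stabilizer_iff.1 k.2).trans (MulAction.mem_stabilizer_iff.1 l.2).symm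
  have hcard : Fintype.card Ω = 1 + ∑ q ∈ (Finset.univ : Finset Q).erase q₀, sz q := by
    rw [← hsz0, Finset.add_sum_erase _ _ (Finset.mem_univ q₀), ← Nat.card_eq_fintype_card,
      Nat.card_congr (MulAction.selfEquivSigmaOrbits' H Ω), Nat.card_sigma]
  have hdeg' : Fintype.card Ω = 1 + f * ∑ χ ∈ s, m χ := by
    have : (Fintype.card Ω : ℂ) = (1 : ℂ) + (f : ℂ) * ∑ χ ∈ s, (m χ : ℂ) := by
      rw [← hdeg, Finset.mul_sum]
      congr 1
      refine Finset.sum_congr rfl fun χ hχ => ?_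
      by_cases h0 : m χ = 0
      · rw [h0, Nat.cast_zero, zero_mul, mul_zero]
      · rw [hf χ χ.2 (fun e => (Finset.mem_erase.1 hχ).1 (Subtype.ext e))
          (by rw [hm]; exact Nat.cast_ne_zero.2 h0), mul_comm]
    exact_mod_cast this
  have hQcard : ((Finset.univ : Finset Q).erase q₀).card = ∑ χ ∈ s, m χ * m χ := by
    rw [Finset.card_erase_of_mem (Finset.mem_univ _), Finset.card_univ, ← Nat.card_eq_fintype_card]
    omega
  have hsums : ∑ q ∈ (Finset.univ : Finset Q).erase q₀, sz q = f * ∑ χ ∈ s, m χ :=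
    Nat.add_left_cancel (hcard.symm.trans hdeg')
  have hlow := Finset.card_nsmul_le_sum _ sz f hge
  rw [smul_eq_mul, hQcard] at hlow
  have hle : ∑ χ ∈ s, m χ * m χ ≤ ∑ χ ∈ s, m χ := by
    rcases Nat.eq_zero_or_pos f with rfl | hpos
    · have hempty : ((Finset.univ : Finset Q).erase q₀).card = 0 := by
        rw [Finset.card_eq_zero, Finset.eq_empty_iff_forall_notMem]
        intro q hq
        induction q using Quotient.inductionOn with | _ b => ?_
        have hb : b ≠ a := fun e => (Finset.mem_erase.1 hq).1 (by rw [e])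
        haveI : Nonempty (MulAction.orbit H b) := ⟨⟨b, MulAction.mem_orbit_self b⟩⟩
        exact (Nat.card_pos (α := MulAction.orbit H b)).ne' (zero_dvd_iff.1 (hd b hb))
      rw [hQcard] at hempty
      omega
    · refine Nat.le_of_mul_le_mul_left ?_ hpos
      rw [mul_comm f (∑ χ ∈ s, m χ * m χ), ← hsums]
      exact hlow
  have hm1 : ∀ χ ∈ s, m χ * m χ = m χ := fun χ hχ =>
    ((Finset.sum_eq_sum_iff_of_le fun χ _ => Nat.le_mul_self (m χ)).1
      (le_antisymm (Finset.sum_le_sum fun χ _ => Nat.le_mul_self (m χ)) hle) χ hχ).symm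
  refine ⟨fun χ hχ => ?_, fun b hb => ?_⟩
  · rw [hm ⟨χ, hχ⟩, Nat.cast_eq_zero, Nat.cast_eq_one]
    by_cases he : (⟨χ, hχ⟩ : Cfsg.IrrCharacter G) = trivIrr G
    · exact Or.inr (he ▸ h1)
    · have h2 := hm1 _ (Finset.mem_erase.2 ⟨he, Finset.mem_univ _⟩)
      rcases Nat.eq_zero_or_pos (m ⟨χ, hχ⟩) with h | h
      · exact Or.inl h
      · exact Or.inr (Nat.eq_of_mul_eq_mul_left h (h2.trans (mul_one _).symm))
  · have hsum : ∑ _q ∈ (Finset.univ : Finset Q).erase q₀, f = ∑ q ∈ (Finset.univ : Finset Q).erase q₀, sz q := by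
      rw [Finset.sum_const, smul_eq_mul, hQcard, Finset.sum_congr rfl hm1]
      rw [hsums, mul_comm]
    exact ((Finset.sum_eq_sum_iff_of_le hge).1 hsum _
      (Finset.mem_erase.2 ⟨hne b hb, Finset.mem_univ _⟩)).symm



/-- (a) If all non-principal irreducible constituents of the permutation character of a transitive group have the same degree `f`, the character is multiplicity-free and all non-trivial subdegrees equal `f`. (b) A transitive group of rank at most 5 has multiplicity-free permutation character. -/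
theorem result {G : Type*} [Group G] [Fintype G] {Ω : Type*} [Fintype Ω] [MulAction G Ω] [MulAction.IsPretransitive G Ω] (a : Ω) : ((f : ℕ) → (∀ χ : G → ℂ, Cfsg.IsIrrCharacter G χ → χ ≠ (fun _ => 1) → Cfsg.classInner (fun g : G => (Nat.card (MulAction.fixedBy Ω g) : ℂ)) χ ≠ 0 → χ 1 = f) → (∀ χ : G → ℂ, Cfsg.IsIrrCharacter G χ → Cfsg.classInner (fun g : G => (Nat.card (MulAction.fixedBy Ω g) : ℂ)) χ = 0 ∨ Cfsg.classInner (fun g : G => (Nat.card (MulAction.fixedBy Ω g) : ℂ)) χ = 1) ∧ ∀ b : Ω, b ≠ a → Nat.card (MulAction.orbit (MulAction.stabilizer G a) b) = f) ∧ (Nat.card (MulAction.orbitRel.Quotient (MulAction.stabilizer G a) Ω) ≤ 5 → ∀ χ : G → ℂ, Cfsg.IsIrrCharacter G χ → Cfsg.classInner (fun g : G => (Nat.card (MulAction.fixedBy Ω g) : ℂ)) χ = 0 ∨ Cfsg.classInner (fun g : G => (Nat.card (MulAction.fixedBy Ω g) : ℂ)) χ = 1) := by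
  classical
  refine ⟨fun f hf => part_a a f hf, fun hr χ hχ => ?_⟩
  obtain ⟨m, hm, h1, hrank, -⟩ := multiplicities (G := G) a
  change Cfsg.classInner (Cfsg.Agent.PermOrbital28.pc G Ω) χ = 0 ∨
    Cfsg.classInner (Cfsg.Agent.PermOrbital28.pc G Ω) χ = 1
  by_cases he : (⟨χ, hχ⟩ : Cfsg.IrrCharacter G) = Cfsg.Agent.CharBasicDecomp.trivIrr G
  · right; rw [hm ⟨χ, hχ⟩, he, h1, Nat.cast_one]
  rcases le_or_gt (m ⟨χ, hχ⟩) 1 with hle | hgt
  · rw [hm ⟨χ, hχ⟩, Nat.cast_eq_zero, Nat.cast_eq_one]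
    omega
  obtain ⟨d, -, hd⟩ := Cfsg.Agent.CharBasic.isIrrCharacter_apply_one hχ
  refine (part_a a d fun ψ hψ hne h0 => ?_).1 χ hχ
  by_cases hψχ : ψ = χ
  · rw [hψχ, hd]
  exfalso
  have hψ0 : 1 ≤ m ⟨ψ, hψ⟩ := Nat.one_le_iff_ne_zero.2 fun e => h0 (by rw [hm ⟨ψ, hψ⟩, e, Nat.cast_zero])
  have h2 : m ⟨ψ, hψ⟩ * m ⟨ψ, hψ⟩ + m ⟨χ, hχ⟩ * m ⟨χ, hχ⟩ ≤
      ∑ φ ∈ (Finset.univ : Finset (Cfsg.IrrCharacter G)).erase (Cfsg.Agent.CharBasicDecomp.trivIrr G), m φ * m φ := by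
    rw [← Finset.sum_pair (f := fun φ => m φ * m φ) (fun e => hψχ (congrArg Subtype.val e))]
    refine Finset.sum_le_sum_of_subset ?_
    intro φ hφ
    rcases Finset.mem_insert.1 hφ with rfl | hφ
    · exact Finset.mem_erase.2 ⟨fun e => hne (congrArg Subtype.val e), Finset.mem_univ _⟩
    · rw [Finset.mem_singleton.1 hφ]; exact Finset.mem_erase.2 ⟨he, Finset.mem_univ _⟩
  have h4 : 4 ≤ m ⟨χ, hχ⟩ * m ⟨χ, hχ⟩ := Nat.mul_le_mul hgt hgt
  have h5 : 1 ≤ m ⟨ψ, hψ⟩ * m ⟨ψ, hψ⟩ := Nat.mul_le_mul hψ0 hψ0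
  omega

end Cfsg.Agent.S0716
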