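import Mathlib
import Cfsg.Statements.S0717
import Cfsg.Agent.Lib.PermOrbital28

set_option autoImplicit false
open Cfsg

namespace Cfsg.Agent.S0717

open Cfsg.Agent.CharBasic Cfsg.Agent.CharBasicOrth Cfsg.Agent.CharBasicDecomp
open Cfsg.Agent.PermCentralizer28 Cfsg.Agent.PermOrbital28
open scoped ComplexConjugate

variable {G : Type*} [Group G] [Fintype G] {Ω : Type*} [Fintype Ω] [MulAction G Ω]

theorem classInner_conj_right {φ : G → ℂ} (hφ : ∀ g, φ g⁻¹ = φ g) {χ : G → ℂ}
    (hχ : Cfsg.IsCharacter G χ) : Cfsg.classInner φ (fun g => conj (χ g)) = Cfsg.classInner φ χ := by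
  rw [Cfsg.classInner, Cfsg.classInner]
  congr 1
  refine Fintype.sum_equiv (Equiv.inv G) _ _ fun g => ?_
  rw [Equiv.inv_apply, hφ, isCharacter_inv hχ]

theorem sum_smul_apply_sub (ρ : Representation ℂ G (Ω → ℂ)) (U : Subrepresentation ρ)
    [U.toRepresentation.IsIrreducible] {f : G → ℂ} (hf : Cfsg.IsClassFunction G f) :
    ∀ v ∈ U.toSubmodule, (∑ g, f g • ρ g) v =
      ((∑ g, f g * U.toRepresentation.character g) / (Module.finrank ℂ U.toSubmodule : ℂ)) • v := by
  intro v hv
  have h := congrArg (fun T => ((T ⟨v, hv⟩ : U.toSubmodule) : Ω → ℂ))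
    (CharBasicInt.sum_smul_rep_eq U.toRepresentation hf)
  simp only [LinearMap.sum_apply, LinearMap.smul_apply, LinearMap.id_apply, Submodule.coe_sum,
    Submodule.coe_smul] at h
  simp only [LinearMap.sum_apply, LinearMap.smul_apply]
  exact h



/-- All suborbits of a transitive group are self-paired (every pair of points is interchanged by some group element) if and only if the permutation character is multiplicity-free and each of its irreducible constituents is real-valued. -/
theorem result {G : Type*} [Group G] [Fintype G] {Ω : Type*} [Fintype Ω] [MulAction G Ω] [MulAction.IsPretransitive G Ω] : (∀ a b : Ω, ∃ g : G, g • a = b ∧ g • b = a) ↔ ∀ χ : G → ℂ, Cfsg.IsIrrCharacter G χ → Cfsg.classInner (fun g : G => (Nat.card (MulAction.fixedBy Ω g) : ℂ)) χ ≠ 0 → Cfsg.classInner (fun g : G => (Nat.card (MulAction.fixedBy Ω g) : ℂ)) χ = 1 ∧ ∀ g : G, (starRingEnd ℂ) (χ g) = χ g := by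
  classical
  set ρ := Cfsg.permRep ℂ G Ω with hρ
  have hchar : ρ.character = fun g : G => (Nat.card (MulAction.fixedBy Ω g) : ℂ) := character_eq
  simp only [← hchar]
  constructor
  · intro hsp
    -- every invariant matrix is symmetric
    have hsym : ∀ R : Ω → Ω → ℂ, Inv G R → ∀ x y, R x y = R y x := fun R hR x y => by
      obtain ⟨g, h1, h2⟩ := hsp x y
      conv_lhs => rw [← hR g, h1, h2]
    have hcomm : ∀ S T : Module.End ℂ (Ω → ℂ), Commutes ρ S → Commutes ρ T → S * T = T * S := by
      intro S T hS hT
      set R := fun x y => S (Pi.single y 1) x with hR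
      set R' := fun x y => T (Pi.single y 1) x with hR'
      have hRi : Inv G R := inv_of_commutes hS
      have hR'i : Inv G R' := inv_of_commutes hT
      have hprod : Inv G fun x z => ∑ y, R x y * R' y z := fun g x z => by
        refine (Fintype.sum_equiv (MulAction.toPerm g) _ _ fun y => ?_).symm
        rw [MulAction.toPerm_apply, hRi g, hR'i g]
      rw [eq_op S, eq_op T, op_mul, op_mul]
      congr 1
      funext x z
      rw [hsym _ hprod x z]
      refine Finset.sum_congr rfl fun y _ => ?_
      show R z y * R' y x = R' x y * R y z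
      rw [hsym R hRi z y, hsym R' hR'i y x, mul_comm]
    intro χ hχ h0
    have h1 := (((multiplicity_free_iff ρ).2 hcomm) χ hχ).resolve_left h0
    refine ⟨h1, ?_⟩
    by_contra hreal
    have hχ' := isIrrCharacter_conj hχ
    have hchi := isCharacter_of_isIrrCharacter hχ
    have h1' : Cfsg.classInner ρ.character (fun g => conj (χ g)) = 1 := by
      rw [classInner_conj_right (fun g => ?_) hchi, h1]
      rw [character_inv ρ g, hchar, map_natCast]
    have hne : (fun g => conj (χ g)) ≠ χ := fun e => hreal (fun g => congrFun e g)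
    obtain ⟨U, hU, hUc⟩ := exists_sub ρ hχ h0
    obtain ⟨U', hU', hU'c⟩ := exists_sub ρ hχ' (by rw [h1']; exact one_ne_zero)
    haveI := hU
    haveI := hU'
    have hf : Cfsg.IsClassFunction G (fun g => conj (χ g)) := fun g h => by
      show conj (χ (h * g * h⁻¹)) = conj (χ g)
      rw [isClassFunction_of_isCharacter hchi]
    set P : Module.End ℂ (Ω → ℂ) := ∑ g, conj (χ g) • ρ g with hPdef
    have hP : Commutes ρ P := by
      have he : P = ∑ x, χ x • ρ x⁻¹ := by
        refine Fintype.sum_equiv (Equiv.inv G) _ _ fun g => ?_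
        rw [Equiv.inv_apply, inv_inv, isCharacter_inv hchi]
      rw [he]
      exact fun g v => smul_sum_commute (isClassFunction_of_isCharacter hchi) ρ g v
    have hc1 := classInner_tf_eq_scalar ρ hP U (by rw [hUc, h1]) (sum_smul_apply_sub ρ U hf)
    have hc2 := classInner_tf_eq_scalar ρ hP U' (by rw [hU'c, h1']) (sum_smul_apply_sub ρ U' hf)
    rw [hUc] at hc1
    rw [hU'c] at hc2
    have hz : ∑ g, conj (χ g) * conj (χ g) = 0 := by
      have h2 := card_mul_classInner (fun g => conj (χ g)) χ
      rw [classInner_irr_ne hχ' hχ hne, mul_zero] at h2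
      exact h2.symm
    rw [hz, zero_div] at hc2
    have hone : ∑ g, conj (χ g) * χ g = (Nat.card G : ℂ) := by
      have h2 := card_mul_classInner χ χ
      rw [classInner_irr_self hχ, mul_one] at h2
      rw [h2]
      exact Finset.sum_congr rfl fun g _ => mul_comm _ _
    have hPs : ∀ g, tf ρ P g⁻¹ = tf ρ P g := by
      intro g
      rw [eq_op P]
      have hi := inv_of_commutes hP
      rw [← tf_transpose hi g]
      exact congrArg (fun R => tf ρ (op R) g) (funext fun x => funext fun y => hsym _ hi y x)
    have heq := classInner_conj_right hPs hchi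
    rw [hc1, hc2, hone] at heq
    exact div_ne_zero (Nat.cast_ne_zero.2 Nat.card_pos.ne')
      (Nat.cast_ne_zero.2 (finrank_pos_of_irreducible U.toRepresentation).ne') heq.symm
  · intro h a b
    haveI : Nonempty Ω := ⟨a⟩
    set R : Ω → Ω → ℂ := fun x y => (orbital G a b x y : ℂ) with hR
    have hA := op_commutes (G := G) (R := R) (orbital_inv a b)
    have hA' := op_commutes (G := G) (R := fun x y => R y x) (fun g x y => orbital_inv a b g y x)
    have hzero : op R - op (fun x y => R y x) = 0 := by
      refine eq_zero_of_irreducible ρ (fun g v => ?_) fun U hU v hv => ?_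
      · simp only [LinearMap.sub_apply, map_sub, hρ, hA g, hA' g]
      haveI := hU
      obtain ⟨h1, hreal⟩ := h _ (isIrrCharacter_of_rep U.toRepresentation) (classInner_sub_ne_zero ρ U)
      obtain ⟨l, hl⟩ := exists_scalar_sub ρ U h1 hA
      obtain ⟨l', hl'⟩ := exists_scalar_sub ρ U h1 hA'
      have e1 := classInner_tf_eq_scalar ρ hA U h1 hl
      have e2 := classInner_tf_eq_scalar ρ hA' U h1 hl'
      have e : l = l' := by
        rw [← e1, ← e2, Cfsg.classInner, Cfsg.classInner]
        congr 1
        refine Fintype.sum_equiv (Equiv.inv G) _ _ fun g => ?_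
        have e3 : tf ρ (op fun x y => R y x) g⁻¹ = tf ρ (op R) g⁻¹⁻¹ := tf_transpose (orbital_inv a b) g⁻¹
        rw [Equiv.inv_apply, e3, inv_inv, character_inv, Complex.conj_conj, hreal]
      simp [hl v hv, hl' v hv, e]
    have hv := congrFun (LinearMap.congr_fun hzero (Pi.single a (1 : ℂ))) b
    simp only [LinearMap.sub_apply, LinearMap.zero_apply, Pi.sub_apply, Pi.zero_apply, op_apply,
      Pi.single_apply, mul_ite, mul_one, mul_zero, Finset.sum_ite_eq', Finset.mem_univ, if_true] at hv
    have hab : R a b = 1 := by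
      simp only [hR, orbital]
      rw [if_pos ⟨1, one_smul G a, one_smul G b⟩, Int.cast_one]
    rw [hab, sub_eq_zero] at hv
    simp only [hR, orbital] at hv
    by_contra hno
    rw [if_neg hno, Int.cast_zero] at hv
    exact one_ne_zero hv.symm

end Cfsg.Agent.S0717
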