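import Mathlib
import Cfsg.Statements.S0718
import Cfsg.Agent.Lib.PermOrbital28

set_option autoImplicit false
open Cfsg

namespace Cfsg.Agent.S0718

theorem mem_invariants_iff {G : Type*} [Group G] {V : Type*} [AddCommGroup V] [Module ℂ V]
    (ρ : Representation ℂ G V) (S : V →ₗ[ℂ] V) :
    S ∈ (ρ.linHom ρ).invariants ↔ Cfsg.Agent.PermCentralizer28.Commutes ρ S := by
  constructor
  · intro h g v
    have h1 := LinearMap.congr_fun (h g) (ρ g v)
    simp only [Representation.linHom_apply, LinearMap.comp_apply, Representation.inv_self_apply] at h1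
    exact h1.symm
  · intro h g
    refine LinearMap.ext fun v => ?_
    simp only [Representation.linHom_apply, LinearMap.comp_apply]
    rw [← h g (ρ g⁻¹ v), Representation.self_inv_apply]



/-- Multiplicity-freeness of the permutation character is equivalent to commutativity of the centraliser ring, i.e. of the algebra of `G`-equivariant endomorphisms of the complex permutation module. -/
theorem result {G : Type*} [Group G] [Fintype G] {Ω : Type*} [Fintype Ω] [MulAction G Ω] : (∀ χ : G → ℂ, Cfsg.IsIrrCharacter G χ → Cfsg.classInner (fun g : G => (Nat.card (MulAction.fixedBy Ω g) : ℂ)) χ = 0 ∨ Cfsg.classInner (fun g : G => (Nat.card (MulAction.fixedBy Ω g) : ℂ)) χ = 1) ↔ ∀ S T : (Ω → ℂ) →ₗ[ℂ] (Ω → ℂ), S ∈ ((Cfsg.permRep ℂ G Ω).linHom (Cfsg.permRep ℂ G Ω)).invariants → T ∈ ((Cfsg.permRep ℂ G Ω).linHom (Cfsg.permRep ℂ G Ω)).invariants → S ∘ₗ T = T ∘ₗ S := by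
  have h := Cfsg.Agent.PermCentralizer28.multiplicity_free_iff (Cfsg.permRep ℂ G Ω)
  simp only [Cfsg.Agent.PermOrbital28.character_eq] at h
  refine h.trans ⟨fun h S T hS hT => h S T ((mem_invariants_iff _ S).1 hS) ((mem_invariants_iff _ T).1 hT),
    fun h S T hS hT => h S T ((mem_invariants_iff _ S).2 hS) ((mem_invariants_iff _ T).2 hT)⟩

end Cfsg.Agent.S0718
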