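import Cfsg.Statements.S0723
import Cfsg.Agent.Lib.SocleDiag69
import Cfsg.Agent.S0722
-- import your own Cfsg.Agent.* helpers here

set_option autoImplicit false
open Cfsg

namespace Cfsg.Agent.S0723

open MulAction Cfsg.Agent.MinNormalFactors Cfsg.Agent.SocleDiag69

/-- coordinates of a non-abelian minimal normal subgroup in a fixed simple group -/
noncomputable def coords {G : Type*} [Group G] [Finite G] {N : Subgroup G} (hN : IsMNS N)
    (hab : ¬ IsMulCommutative N) {T : Type} [Group T] {m : ℕ} (ev : Fin m ≃ Fac N)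
    (β : ∀ X : Fac N, (X.1 : Subgroup G) ≃* T) : N ≃* (Fin m → T) :=
  MulEquiv.ofBijective (Pi.monoidHom fun i => (β (ev i)).toMonoidHom.comp (proj hN hab (ev i))) (by
    refine ⟨fun a b h => proj_ext hN hab fun X => ?_, fun f => ?_⟩
    · obtain ⟨i, rfl⟩ := ev.surjective X
      exact (β (ev i)).injective (congrFun h i)
    · obtain ⟨n, hn⟩ := exists_proj_eq hN hab fun X => (β X).symm (f (ev.symm X))
      exact ⟨n, funext fun i => by simp [Pi.monoidHom, hn]⟩)

theorem coords_apply {G : Type*} [Group G] [Finite G] {N : Subgroup G} (hN : IsMNS N)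
    (hab : ¬ IsMulCommutative N) {T : Type} [Group T] {m : ℕ} (ev : Fin m ≃ Fac N)
    (β : ∀ X : Fac N, (X.1 : Subgroup G) ≃* T) (n : N) (i : Fin m) :
    coords hN hab ev β n i = β (ev i) (proj hN hab (ev i) n) := rfl

theorem structure_thm {G : Type*} [Group G] [Finite G] (N K : Subgroup G) (hN : IsMNS N)
    (hab : ¬ IsMulCommutative N) (hKN : N ⊔ K = ⊤) (hNK : ¬ N ≤ K)
    (hmax : ∀ X : Subgroup G, X ≤ N → K ⊓ N ≤ X → K ≤ Subgroup.normalizer (X : Set G) →
      X = K ⊓ N ∨ X = N) :
    ∃ (T : Type) (_ : Group T) (m : ℕ) (e : N ≃* (Fin m → T)), IsSimpleGroup T ∧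
      ¬ IsMulCommutative T ∧ 0 < m ∧
      ((∃ K' : Fin m → Subgroup T, (∀ i, K' i ≠ ⊤) ∧ ∀ n : N, (n : G) ∈ K ↔ ∀ i, e n i ∈ K' i) ∨
        (∃ (k : ℕ) (c : Fin m → Fin m), 2 ≤ k ∧
          (∀ j : Fin m, Nat.card {i : Fin m // c i = j} = k ∨ Nat.card {i : Fin m // c i = j} = 0) ∧
          ∀ n : N, (n : G) ∈ K ↔ ∀ i j : Fin m, c i = c j → e n i = e n j)) := by
  classical
  obtain ⟨T₀, -, hT₀⟩ := exists_isFactor_le N le_rfl hN.ne_bot Subgroup.le_normalizer
  haveI : Nonempty (Fac N) := ⟨⟨T₀, hT₀⟩⟩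
  -- transitivity of `K` on the factors
  have htr : ∀ X Y : Fac N, ∃ k ∈ K, conjFac hN k X = Y := by
    intro X Y
    obtain ⟨g, hg⟩ := exists_conj hN hab X.2 Y.2
    have := hN.normal
    have hg' : g ∈ N ⊔ K := hKN ▸ Subgroup.mem_top g
    obtain ⟨n, hn, k, hk, rfl⟩ := Subgroup.mem_sup_of_normal_left.1 hg'
    refine ⟨k, hk, Subtype.ext ?_⟩
    rw [← conjSub_conjSub, conjSub_eq_self ((X.2.conj hN.normal k).normalized hn)] at hg
    exact hg
  haveI : Finite (Fac N) := Subtype.finite
  haveI hsim : ∀ X : Fac N, IsSimpleGroup (X.1 : Subgroup G) :=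
    fun X => MinNormalFactors.isSimpleGroup hN X.2
  obtain ⟨T, hT, ⟨eT⟩⟩ : ∃ (T : Type) (_ : Group T), Nonempty ((T₀ : Subgroup G) ≃* T) :=
    ⟨Shrink.{0} T₀, inferInstance, ⟨(Shrink.mulEquiv.{0}).symm⟩⟩
  have hTs : IsSimpleGroup T := by
    have := hsim ⟨T₀, hT₀⟩
    haveI : Nontrivial T := eT.toEquiv.nontrivial_congr.1 inferInstance
    exact IsSimpleGroup.isSimpleGroup_of_surjective (f := eT.toMonoidHom) eT.surjective
  have hTna : ¬ IsMulCommutative T := fun h => not_abelian hN hab hT₀ ⟨⟨fun a b =>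
    eT.injective (by rw [map_mul, map_mul]; exact h.is_comm.comm _ _)⟩⟩
  have hiso : ∀ X : Fac N, Nonempty ((X.1 : Subgroup G) ≃* T) := by
    intro X
    obtain ⟨g, hg⟩ := exists_conj hN hab hT₀ X.2
    exact ⟨((MulEquiv.subgroupCongr hg.symm).trans
      (Subgroup.equivMapOfInjective T₀ (MulAut.conj g).toMonoidHom (MulAut.conj g).injective).symm).trans eT⟩
  let β : ∀ X : Fac N, (X.1 : Subgroup G) ≃* T := fun X => (hiso X).some
  let D : Subgroup N := K.subgroupOf N
  have hD : ∀ n : N, n ∈ D ↔ (n : G) ∈ K := fun n => Iff.rfl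
  let m := Nat.card (Fac N)
  have hm : 0 < m := Nat.card_pos
  let ev : Fin m ≃ Fac N := (Finite.equivFin (Fac N)).symm
  have hconj : ∀ k ∈ K, ∀ n : N, n ∈ D →
      (⟨k * n * k⁻¹, hN.normal.conj_mem _ n.2 k⟩ : N) ∈ D := fun k hk n hn =>
    K.mul_mem (K.mul_mem hk hn) (K.inv_mem hk)
  let p : ∀ X : Fac N, D →* (X.1 : Subgroup G) := fun X => (proj hN hab X).comp D.subtype
  by_cases hsurj : ∀ X : Fac N, Function.Surjective (p X)
  · -- diagonal case
    have hna : ∀ X : Fac N, ¬ IsMulCommutative (X.1 : Subgroup G) := fun X => not_abelian hN hab X.2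
    let M : Fac N → Subgroup D := fun X => (p X).ker
    let r : Fac N → Fac N := fun X => Function.invFun M (M X)
    have hr : ∀ X, M (r X) = M X := fun X => Function.invFun_eq ⟨X, rfl⟩
    have hrr : ∀ X Y, r X = r Y ↔ M X = M Y := fun X Y =>
      ⟨fun h => by rw [← hr X, h, hr Y], fun h => by simp only [r, h]⟩
    let qe : ∀ X : Fac N, (D ⧸ (p X).ker) ≃* (X.1 : Subgroup G) :=
      fun X => QuotientGroup.quotientKerEquivOfSurjective (p X) (hsurj X)
    let a : ∀ X : Fac N, (X.1 : Subgroup G) ≃* ((r X).1 : Subgroup G) := fun X =>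
      (qe X).symm.trans ((QuotientGroup.quotientMulEquivOfEq (hr X).symm).trans (qe (r X)))
    have ha : ∀ X (d : D), a X (p X d) = p (r X) d := by
      intro X d
      have h1 : (qe X).symm (p X d) = QuotientGroup.mk d := by
        rw [MulEquiv.symm_apply_eq]
        rfl
      show qe (r X) (QuotientGroup.quotientMulEquivOfEq (hr X).symm ((qe X).symm (p X d))) = _
      rw [h1]
      rfl
    let β' : ∀ X : Fac N, (X.1 : Subgroup G) ≃* T := fun X => (a X).trans (β (r X))
    have hker : ∀ n : N, (n : G) ∈ K ↔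
        ∀ X Y : Fac N, M X = M Y → β' X (proj hN hab X n) = β' Y (proj hN hab Y n) := by
      intro n
      constructor
      · intro hn X Y h
        have e : r X = r Y := (hrr X Y).2 h
        show β (r X) (a X (p X ⟨n, hn⟩)) = β (r Y) (a Y (p Y ⟨n, hn⟩))
        rw [ha, ha]
        exact e ▸ rfl
      · intro h
        have := Fintype.ofFinite (Fac N)
        obtain ⟨d, hd⟩ := exists_prescribed p hsurj hsim hna (Finset.univ.image r)
          (by
            intro X hX Y hY hXY
            obtain ⟨X', -, rfl⟩ := Finset.mem_image.1 (Finset.mem_coe.1 hX)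
            obtain ⟨Y', -, rfl⟩ := Finset.mem_image.1 (Finset.mem_coe.1 hY)
            have h' : M (r X') = M (r Y') := hXY
            rw [hr, hr] at h'
            exact (hrr X' Y').2 h')
          (fun X => proj hN hab X n)
        have he : n = (d : N) := proj_ext hN hab fun X => by
          have hR : r (r X) = r X := (hrr _ _).2 (hr X)
          have h1 := h X (r X) (hr X).symm
          have h2 : p (r X) d = proj hN hab (r X) n :=
            hd (r X) (Finset.mem_image.2 ⟨X, Finset.mem_univ _, rfl⟩)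
          have hn' : (n : G) = n := rfl
          have h3 : β' X (p X d) = β' (r X) (p (r X) d) := by
            show β (r X) (a X (p X d)) = β (r (r X)) (a (r X) (p (r X) d))
            rw [ha, ha]
            exact hR.symm ▸ rfl
          refine (β' X).injective (h1.trans ?_)
          rw [← h2]
          exact h3.symm
        rw [he]
        exact d.2
    refine ⟨T, hT, m, coords hN hab ev β', hTs, hTna, hm, Or.inr ?_⟩
    let c : Fin m → Fin m := fun i => ev.symm (r (ev i))
    have hcls : ∀ X Y : Fac N, Nat.card {Z // M Z = M X} = Nat.card {Z // M Z = M Y} := by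
      intro X Y
      obtain ⟨k, hk, rfl⟩ := htr X Y
      have hkM : ∀ Z (d : D), d ∈ M Z ↔
          (⟨⟨k * d.1 * k⁻¹, hN.normal.conj_mem _ d.1.2 k⟩, hconj k hk d.1 d.2⟩ : D) ∈
            M (conjFac hN k Z) := by
        intro Z d
        simp only [M, MonoidHom.mem_ker, p, MonoidHom.comp_apply, Subgroup.coe_subtype]
        rw [← Subtype.coe_inj, ← Subtype.coe_inj, proj_conj hN hab k Z d.1]
        simp only [Subgroup.coe_one]
        constructor
        · intro h; rw [h]; group
        · intro h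
          have : (proj hN hab Z d.1 : G) = k⁻¹ * (k * (proj hN hab Z d.1 : G) * k⁻¹) * k := by group
          rw [this, h]; group
      have hiff : ∀ Z, M Z = M X ↔ M (conjFac hN k Z) = M (conjFac hN k X) := by
        intro Z
        constructor
        · intro h
          ext d
          have hd' : (⟨k⁻¹ * d.1 * k, by simpa using hN.normal.conj_mem _ d.1.2 k⁻¹⟩ : N) ∈ D :=
            K.mul_mem (K.mul_mem (K.inv_mem hk) d.2) hk
          have h1 := hkM Z ⟨_, hd'⟩
          have h2 := hkM X ⟨_, hd'⟩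
          simp only [mul_assoc, mul_inv_cancel, mul_one, mul_inv_cancel_left] at h1 h2
          rw [h] at h1
          exact h1.symm.trans h2
        · intro h
          ext d
          rw [hkM Z d, hkM X d, h]
      exact Nat.card_congr (Equiv.subtypeEquiv (Equiv.ofBijective _ (conjFac_bijective hN k)) hiff)
    have hcard : ∀ j, Nat.card {i : Fin m // c i = j} = Nat.card {Z // M Z = M ⟨T₀, hT₀⟩} ∨
        Nat.card {i : Fin m // c i = j} = 0 := by
      intro j
      by_cases hj : ∃ i, c i = j
      · left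
        obtain ⟨i, rfl⟩ := hj
        rw [← hcls (ev i) ⟨T₀, hT₀⟩]
        refine Nat.card_congr (Equiv.subtypeEquiv ev fun l => ?_)
        simp only [c, ev.symm.injective.eq_iff, hrr]
      · right
        push Not at hj
        haveI : IsEmpty {i : Fin m // c i = j} := ⟨fun x => hj x.1 x.2⟩
        exact Nat.card_of_isEmpty
    refine ⟨_, c, ?_, hcard, fun n => ?_⟩
    · by_contra hlt
      refine hNK fun g hg => (hker ⟨g, hg⟩).2 fun X Y h => ?_
      have h1 : Nat.card {Z // M Z = M X} ≤ 1 := by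
        rw [hcls X ⟨T₀, hT₀⟩]; omega
      have hs := Finite.card_le_one_iff_subsingleton.1 h1
      have e := congrArg Subtype.val (hs.elim ⟨X, rfl⟩ ⟨Y, h.symm⟩)
      simp only at e
      subst e
      rfl
    · rw [hker n]
      constructor
      · intro h i j hij
        rw [coords_apply, coords_apply]
        exact h _ _ ((hrr _ _).1 (ev.symm.injective hij))
      · intro h X Y hXY
        obtain ⟨i, rfl⟩ := ev.surjective X
        obtain ⟨j, rfl⟩ := ev.surjective Y
        have := h i j (by simp only [c]; rw [(hrr _ _).2 hXY])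
        rwa [coords_apply, coords_apply] at this
  · -- product case
    push Not at hsurj
    obtain ⟨X₁, hX₁⟩ := hsurj
    let P : ∀ X : Fac N, Subgroup (X.1 : Subgroup G) := fun X => (p X).range
    have hP1 : P X₁ ≠ ⊤ := fun h => hX₁ (MonoidHom.range_eq_top.1 h)
    have hPconj : ∀ k ∈ K, ∀ (X : Fac N) (n : N), proj hN hab X n ∈ P X →
        proj hN hab (conjFac hN k X) ⟨k * n * k⁻¹, hN.normal.conj_mem _ n.2 k⟩ ∈ P (conjFac hN k X) := by
      intro k hk X n hn
      obtain ⟨d, hd⟩ := hn
      refine ⟨⟨_, hconj k hk d.1 d.2⟩, Subtype.ext ?_⟩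
      simp only [p, MonoidHom.comp_apply, Subgroup.coe_subtype]
      rw [proj_conj hN hab k X d.1, proj_conj hN hab k X n]
      simp only [p, MonoidHom.comp_apply, Subgroup.coe_subtype] at hd
      rw [hd]
    have hPne : ∀ X, P X ≠ ⊤ := by
      intro X h
      obtain ⟨k, hk, rfl⟩ := htr X X₁
      apply hP1
      rw [eq_top_iff]
      intro t _
      have ht' : k⁻¹ * (t : G) * k ∈ X.1 := mem_conjSub.1 t.2
      have h1 := hPconj k hk X ⟨k⁻¹ * t * k, X.2.le ht'⟩ (h ▸ Subgroup.mem_top _)
      convert h1 using 1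
      refine ((proj_self hN hab (conjFac hN k X) t).symm.trans ?_)
      congr 1
      exact Subtype.ext (by simp [mul_assoc])
    let X' : Subgroup N := ⨅ X : Fac N, (P X).comap (proj hN hab X)
    have hX' : ∀ n : N, n ∈ X' ↔ ∀ X, proj hN hab X n ∈ P X := fun n => by
      simp [X', Subgroup.mem_iInf]
    let XG : Subgroup G := X'.map N.subtype
    have hDX : ∀ n : N, (n : G) ∈ K → n ∈ X' := fun n hn =>
      (hX' n).2 fun X => ⟨⟨n, hn⟩, rfl⟩
    have hXeq : XG = K ⊓ N := by
      rcases hmax XG (Subgroup.map_subtype_le _) (fun x hx => ⟨⟨x, hx.2⟩, hDX ⟨x, hx.2⟩ hx.1, rfl⟩)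
        (by
          refine le_normalizer_of_forall fun k hk x hx => ?_
          obtain ⟨n, hn, rfl⟩ := hx
          refine ⟨⟨k * n * k⁻¹, hN.normal.conj_mem _ n.2 k⟩, (hX' _).2 fun Y => ?_, rfl⟩
          obtain ⟨X, rfl⟩ := (conjFac_bijective hN k).2 Y
          exact hPconj k hk X n ((hX' n).1 hn X)) with h | h
      · exact h
      · exfalso
        obtain ⟨t, -, ht⟩ := SetLike.exists_of_lt (hPne X₁).lt_top
        have : ((⟨t, X₁.2.le t.2⟩ : N) : G) ∈ XG := by rw [h]; exact X₁.2.le t.2
        obtain ⟨n, hn, hne⟩ := this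
        have hn' := (hX' n).1 hn X₁
        rw [show n = ⟨t, X₁.2.le t.2⟩ from Subtype.ext hne, proj_self] at hn'
        exact ht hn'
    refine ⟨T, hT, m, coords hN hab ev β, hTs, hTna, hm, Or.inl
      ⟨fun i => (P (ev i)).map (β (ev i)).toMonoidHom, fun i h => hPne (ev i) ?_, fun n => ?_⟩⟩
    · apply Subgroup.map_injective (f := (β (ev i)).toMonoidHom) (β (ev i)).injective
      simp only at h
      rw [h, Subgroup.map_top_of_surjective _ (β (ev i)).surjective]
    · constructor
      · intro hn i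
        rw [coords_apply]
        exact ⟨_, (hX' n).1 (hDX n hn) (ev i), rfl⟩
      · intro h
        have hn : n ∈ X' := (hX' n).2 fun X => by
          obtain ⟨i, rfl⟩ := ev.surjective X
          obtain ⟨y, hy, hye⟩ := h i
          rw [coords_apply] at hye
          exact (β (ev i)).injective hye ▸ hy
        have : (n : G) ∈ K ⊓ N := hXeq ▸ ⟨n, hn, rfl⟩
        exact this.1

/-- The core of the O'Nan–Scott Theorem. Let `H` be a primitive permutation group on a finite set whose unique minimal normal subgroup `N` is non-abelian, and `K` a point stabiliser. Then there are a non-abelian simple group `T` and an isomorphism `N ≃* T^m` (`m ≥ 1`) under which `K ⊓ N` becomes either a product `∏ K_i` of proper subgroups `K_i < T`, or the set of functions constant on each block of a partition of the index set into blocks of one common size `k ≥ 2`. -/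
theorem result {α : Type*} [Finite α] (H : Subgroup (Equiv.Perm α)) [MulAction.IsPreprimitive H α] (N : Subgroup H) [N.Normal] (hN : N ≠ ⊥) (hmin : ∀ M : Subgroup H, M.Normal → M ≤ N → M = ⊥ ∨ M = N) (huniq : ∀ L : Subgroup H, L.Normal → L ≠ ⊥ → (∀ M : Subgroup H, M.Normal → M ≤ L → M = ⊥ ∨ M = L) → L = N) (hnab : ¬ IsMulCommutative N) (a : α) : ∃ (T : Type) (_ : Group T) (m : ℕ) (e : N ≃* (Fin m → T)), IsSimpleGroup T ∧ ¬ IsMulCommutative T ∧ 0 < m ∧ ((∃ K : Fin m → Subgroup T, (∀ i, K i ≠ ⊤) ∧ ∀ n : N, (n : H) ∈ MulAction.stabilizer H a ↔ ∀ i, e n i ∈ K i) ∨ (∃ (k : ℕ) (c : Fin m → Fin m), 2 ≤ k ∧ (∀ j : Fin m, Nat.card {i : Fin m // c i = j} = k ∨ Nat.card {i : Fin m // c i = j} = 0) ∧ ∀ n : N, (n : H) ∈ MulAction.stabilizer H a ↔ ∀ i j : Fin m, c i = c j → e n i = e n j)) := by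

  rcases subsingleton_or_nontrivial α with hs | hnt
  · exact absurd (Subgroup.eq_bot_iff_forall _ |>.2 fun n _ => Subtype.ext (Equiv.ext fun x => Subsingleton.elim _ _)) hN
  have hNm : MinNormalFactors.IsMNS N := ⟨inferInstance, hN, hmin⟩
  have hco : IsCoatom (MulAction.stabilizer H a) :=
    (MulAction.isCoatom_stabilizer_iff_preprimitive _ a).mpr inferInstance
  have hNK : ¬ N ≤ MulAction.stabilizer H a := by
    intro hle
    refine hN ((Subgroup.eq_bot_iff_forall N).2 fun n hn => Subtype.ext (Equiv.ext fun x => ?_))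
    obtain ⟨g, rfl⟩ := MulAction.exists_smul_eq H a x
    have h1 : g⁻¹ * n * g ∈ MulAction.stabilizer H a := hle (by
      simpa using (inferInstance : N.Normal).conj_mem n hn g⁻¹)
    rw [MulAction.mem_stabilizer_iff, mul_smul, mul_smul, inv_smul_eq_iff] at h1
    exact h1
  have hKN : N ⊔ MulAction.stabilizer H a = ⊤ :=
    hco.2 _ (lt_of_le_of_ne le_sup_right fun e => hNK (by rw [e]; exact le_sup_left))
  exact structure_thm N (MulAction.stabilizer H a) hNm hnab hKN hNK
    (fun X hX hKX hinv => Cfsg.Agent.S0722.result H N hN hmin a X hX hKX hinv)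

end Cfsg.Agent.S0723
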