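import Mathlib
import Cfsg.Statements.S0724

set_option autoImplicit false
open Cfsg

namespace Cfsg.Agent.S0724


/-- Blichfeldt's Theorem: if a finite set `L` of natural numbers contains the number of fixed points of every non-identity element of a permutation group `G` of degree `n`, then the order of `G` divides `∏ (n - l)` over `l ∈ L`. -/
theorem result {α : Type*} [Fintype α] [DecidableEq α] (G : Subgroup (Equiv.Perm α)) (L : Finset ℕ) (hL : ∀ g ∈ G, g ≠ 1 → Nat.card (MulAction.fixedBy α g) ∈ L) : Nat.card G ∣ ∏ l ∈ L, (Fintype.card α - l) := by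
  classical
  set n := Fintype.card α with hn
  -- For every sublist of `L` and exponent, the sum is divisible by the group order
  have key : ∀ (S : Finset ℕ) (j : ℕ), (Nat.card G : ℤ) ∣
      ∑ g : G, (∏ l ∈ S, ((Nat.card (MulAction.fixedBy α g) : ℤ) - l)) *
        (Nat.card (MulAction.fixedBy α g) : ℤ) ^ j := by
    intro S
    induction S using Finset.induction with
    | empty =>
      intro j
      simp only [Finset.prod_empty, one_mul]
      have h := MulAction.sum_card_fixedBy_eq_card_orbits_mul_card_group G (Fin j → α)
      have h2 : ∀ g : G, Fintype.card (MulAction.fixedBy (Fin j → α) g) =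
          Nat.card (MulAction.fixedBy α g) ^ j := by
        intro g
        rw [← Nat.card_eq_fintype_card]
        have e : MulAction.fixedBy (Fin j → α) g ≃ (Fin j → MulAction.fixedBy α g) :=
          { toFun := fun f i => ⟨f.1 i, congrFun f.2 i⟩
            invFun := fun f => ⟨fun i => (f i).1, funext fun i => (f i).2⟩
            left_inv := fun f => rfl
            right_inv := fun f => rfl }
        rw [Nat.card_congr e, Nat.card_fun, Nat.card_fin]
      simp only [h2] at h
      refine ⟨(Fintype.card (Quotient (MulAction.orbitRel G (Fin j → α))) : ℤ), ?_⟩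
      rw [← Nat.card_eq_fintype_card (α := G)] at h
      have h' := congrArg (fun x : ℕ => (x : ℤ)) h
      push_cast at h'
      rw [h']; ring
    | insert l S hl ih =>
      intro j
      have h1 := ih (j + 1)
      have h2 := (ih j).mul_left (l : ℤ)
      have := h1.sub h2
      rw [Finset.mul_sum, ← Finset.sum_sub_distrib] at this
      refine Eq.mpr ?_ this
      congr 1
      refine Finset.sum_congr rfl fun g _ => ?_
      rw [Finset.prod_insert hl]
      ring
  have h0 := key L 0
  rw [Finset.sum_eq_single (1 : G)] at h0
  · have h1 : Nat.card (MulAction.fixedBy α (1 : G)) = n := by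
      rw [hn, ← Nat.card_eq_fintype_card]
      exact Nat.card_congr ((Equiv.setCongr (by ext x; simp)).trans (Equiv.Set.univ α))
    simp only [pow_zero, mul_one, h1] at h0
    by_cases hex : ∃ l ∈ L, n ≤ l
    · obtain ⟨l, hl, hln⟩ := hex
      rw [Finset.prod_eq_zero hl (Nat.sub_eq_zero_of_le hln)]
      exact dvd_zero _
    · push_neg at hex
      apply Int.natCast_dvd_natCast.mp
      rw [Nat.cast_prod]
      convert h0 using 1
      apply Finset.prod_congr rfl
      intro l hl
      rw [Nat.cast_sub (hex l hl).le]
  · intro g _ hg
    have : Nat.card (MulAction.fixedBy α (g : Equiv.Perm α)) ∈ L :=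
      hL g g.2 (fun h => hg (Subtype.ext h))
    rw [Finset.prod_eq_zero this, zero_mul]
    exact sub_self _
  · intro h; exact absurd (Finset.mem_univ _) h

end Cfsg.Agent.S0724
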