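import Mathlib
import Cfsg.Statements.S0726

set_option autoImplicit false
open Cfsg

namespace Cfsg.Agent.S0726


/-- The left and right regular permutation representations of a group are each other's centralisers in the symmetric group: the centraliser of the left regular image is the right regular image, and a transitive subgroup centralising the left regular image is the whole right regular image. -/
theorem result {G : Type*} [Group G] : Subgroup.centralizer ((MulAction.toPermHom G G).range : Set (Equiv.Perm G)) = (MulAction.toPermHom Gᵐᵒᵖ G).range ∧ ∀ H : Subgroup (Equiv.Perm G), H ≤ Subgroup.centralizer ((MulAction.toPermHom G G).range : Set (Equiv.Perm G)) → MulAction.IsPretransitive H G → H = (MulAction.toPermHom Gᵐᵒᵖ G).range := by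
  have hc : Subgroup.centralizer ((MulAction.toPermHom G G).range : Set (Equiv.Perm G)) =
      (MulAction.toPermHom Gᵐᵒᵖ G).range := by
    ext σ
    constructor
    · intro hσ
      refine ⟨MulOpposite.op (σ 1), ?_⟩
      ext x
      have h := DFunLike.congr_fun (hσ (MulAction.toPermHom G G x) ⟨x, rfl⟩) 1
      simp [MulAction.toPermHom] at h
      simpa [MulAction.toPermHom] using h
    · rintro ⟨a, rfl⟩ τ ⟨b, rfl⟩
      ext x
      simp [MulAction.toPermHom, mul_assoc]
  refine ⟨hc, fun H hH htr => le_antisymm (hc ▸ hH) ?_⟩
  rintro _ ⟨a, rfl⟩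
  obtain ⟨⟨h, hh⟩, hha⟩ := htr.exists_smul_eq (1 : G) (MulOpposite.unop a)
  obtain ⟨b, hb⟩ := (hc ▸ hH) hh
  have : b = a := by
    have h2 : MulAction.toPermHom Gᵐᵒᵖ G b 1 = a.unop := by rw [hb]; exact hha
    simpa [MulAction.toPermHom] using h2
  rw [← this, hb]
  exact hh

end Cfsg.Agent.S0726
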