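import Mathlib
import Cfsg.Statements.S0728
import Cfsg.Agent.Lib.SharpThree28

set_option autoImplicit false
open Cfsg

namespace Cfsg.Agent.S0728


/-- In a sharply triply transitive group of even degree at least 6 (degree `q + 1`, `q` odd), a two-point stabiliser has at most one subgroup of order 3. -/
theorem result {α : Type*} [Fintype α] [DecidableEq α] (heven : Even (Fintype.card α)) (h6 : 6 ≤ Fintype.card α) (G : Subgroup (Equiv.Perm α)) (h3 : MulAction.IsMultiplyPretransitive G α 3) (hsharp : ∀ x : Fin 3 ↪ α, MulAction.stabilizer G x = ⊥) {a b : α} (hab : a ≠ b) (A B : Subgroup G) (hA : A ≤ MulAction.stabilizer G a ⊓ MulAction.stabilizer G b) (hB : B ≤ MulAction.stabilizer G a ⊓ MulAction.stabilizer G b) (hA3 : Nat.card A = 3) (hB3 : Nat.card B = 3) : A = B := by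
  classical
  haveI : Fact (Nat.Prime 3) := ⟨Nat.prime_three⟩
  obtain ⟨x, hx⟩ := exists_prime_orderOf_dvd_card' (G := A) 3 hA3.symm.dvd
  obtain ⟨y, hy⟩ := exists_prime_orderOf_dvd_card' (G := B) 3 hB3.symm.dvd
  rw [← Subgroup.orderOf_coe] at hx hy
  have hxab := hA x.2
  have hyab := hB y.2
  simp only [Subgroup.mem_inf, MulAction.mem_stabilizer_iff] at hxab hyab
  have hE := Cfsg.Agent.SharpThree28.card_order_three G h3 hsharp (by omega) hab hx hxab.1 hxab.2
  have hmem : (y : G) ∈ Subgroup.zpowers (x : G) := by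
    let X : {g : G // orderOf g = 3 ∧ g • a = a ∧ g • b = b} := ⟨x, hx, hxab.1, hxab.2⟩
    let X' : {g : G // orderOf g = 3 ∧ g • a = a ∧ g • b = b} := ⟨(x : G)⁻¹, by rw [orderOf_inv, hx],
      inv_smul_eq_iff.2 hxab.1.symm, inv_smul_eq_iff.2 hxab.2.symm⟩
    let Y : {g : G // orderOf g = 3 ∧ g • a = a ∧ g • b = b} := ⟨y, hy, hyab.1, hyab.2⟩
    have hXX : X ≠ X' := fun e => by
      have h : (x : G) = (x : G)⁻¹ := congrArg Subtype.val e
      rw [eq_inv_iff_mul_eq_one, ← pow_two] at h
      have := Nat.le_of_dvd (by norm_num) (orderOf_dvd_of_pow_eq_one h)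
      omega
    have h2 : ∀ z, z = X ∨ z = X' := fun z => by
      have hu : ({X, X'} : Finset _) = Finset.univ :=
        Finset.eq_univ_of_card _ (by rw [Finset.card_pair hXX, ← Nat.card_eq_fintype_card, hE])
      have := Finset.mem_univ z
      rw [← hu, Finset.mem_insert, Finset.mem_singleton] at this
      exact this
    rcases h2 Y with e | e
    · rw [show (y : G) = x from congrArg Subtype.val e]; exact Subgroup.mem_zpowers _
    · rw [show (y : G) = (x : G)⁻¹ from congrArg Subtype.val e]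
      exact Subgroup.inv_mem _ (Subgroup.mem_zpowers _)
  have eA : Subgroup.zpowers (x : G) = A := Subgroup.eq_of_le_of_card_ge (Subgroup.zpowers_le.2 x.2)
    (by rw [hA3, Nat.card_zpowers, hx])
  have eB : Subgroup.zpowers (y : G) = B := Subgroup.eq_of_le_of_card_ge (Subgroup.zpowers_le.2 y.2)
    (by rw [hB3, Nat.card_zpowers, hy])
  exact (Subgroup.eq_of_le_of_card_ge (eB ▸ Subgroup.zpowers_le.2 (eA ▸ hmem) : B ≤ A) (by rw [hA3, hB3])).symm

end Cfsg.Agent.S0728
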