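import Mathlib
import Cfsg.Statements.S0729
import Cfsg.Agent.Lib.SharpThree28
import Cfsg.Agent.Lib.ZassenhausNearfield

set_option autoImplicit false
open Cfsg

namespace Cfsg.Agent.S0729

open scoped OnePoint
open Cfsg.Agent.Zassenhaus

theorem exists_sign {α : Type*} [Fintype α] [DecidableEq α] (heven : Even (Fintype.card α))
    (h4 : 4 ≤ Fintype.card α) (G : Subgroup (Equiv.Perm α))
    (h3 : MulAction.IsMultiplyPretransitive G α 3)
    (hsharp : ∀ x : Fin 3 ↪ α, MulAction.stabilizer G x = ⊥) {a b : α} (hab : a ≠ b) :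
    ∃ f : G →* ℤˣ, ∃ g, f g ≠ 1 := by
  classical
  obtain ⟨p, j, V, _, _, ρ, act, e, -, -, hA, he, hea, heb, -, -, hVn, hVH, -⟩ :=
    SharpThree28.setup G h3 hsharp h4 hab
  haveI : Nontrivial V := Finite.one_lt_card_iff_nontrivial.1 (by omega)
  obtain ⟨k, hk⟩ := heven
  have hH : Even (Nat.card (two G a b)) := ⟨k - 1, by omega⟩
  by_cases hnf : ∀ g : G, g * g = 1 → g ≠ 1 → ∃ x, ρ g x = x
  · by_contra hcon
    push Not at hcon
    exact hA.sharp_false hH hnf hVH hcon
  push Not at hnf
  obtain ⟨g, hg2, -, hgf⟩ := hnf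
  obtain ⟨z, hz2, hz1⟩ := hA.exists_z hH
  refine ⟨Equiv.Perm.sign.comp G.subtype, ?_⟩
  have hzfix : {x : α | ((z : G) : Equiv.Perm α) x = x} = {a, b} := by
    ext x
    constructor
    · intro hx
      obtain ⟨y, rfl⟩ := e.surjective x
      have hy : ρ (z : G) y = y := e.injective (by rw [he]; exact hx)
      rcases hA.fix_z hH hz2 hz1 hy with h | h
      · exact Or.inl (by rw [h, hea])
      · exact Or.inr (by rw [h, heb]; rfl)
    · rintro (rfl | rfl)
      · exact (mem_two.1 z.2).1
      · exact (mem_two.1 z.2).2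
  have hgfix : {x : α | (g : Equiv.Perm α) x = x} = ∅ := by
    ext x
    simp only [Set.mem_ofPred_eq, Set.mem_empty_iff_false, iff_false]
    intro hx
    obtain ⟨y, rfl⟩ := e.surjective x
    exact hgf y (e.injective (by rw [he]; exact hx))
  have hzz : ((z : G) : Equiv.Perm α) * ((z : G) : Equiv.Perm α) = 1 :=
    congrArg (fun w : two G a b => ((w : G) : Equiv.Perm α)) hz2
  have hgg : (g : Equiv.Perm α) * (g : Equiv.Perm α) = 1 := congrArg Subtype.val hg2
  have s1 := sign_involution hzz (m := k - 1) (by rw [hzfix, Set.ncard_pair hab]; omega)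
  have s2 := sign_involution hgg (m := k) (by rw [hgfix, Set.ncard_empty]; omega)
  by_contra hcon
  push Not at hcon
  have e1 : Equiv.Perm.sign ((z : G) : Equiv.Perm α) = 1 := hcon z
  have e2 : Equiv.Perm.sign (g : Equiv.Perm α) = 1 := hcon g
  rw [e1] at s1
  rw [e2, show k = (k - 1) + 1 by omega, pow_succ, ← s1, one_mul] at s2
  exact absurd s2 (by decide)



/-- In a sharply triply transitive group of even degree at least 6, the two-point stabiliser `H = G_{a,b}` has a normal subgroup of index 2 that is normalised by the element `s` interchanging `a, b` and fixing a third point `c`. -/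
theorem result {α : Type*} [Fintype α] [DecidableEq α] (heven : Even (Fintype.card α)) (h6 : 6 ≤ Fintype.card α) (G : Subgroup (Equiv.Perm α)) (h3 : MulAction.IsMultiplyPretransitive G α 3) (hsharp : ∀ x : Fin 3 ↪ α, MulAction.stabilizer G x = ⊥) {a b c : α} (hab : a ≠ b) (hac : a ≠ c) (hbc : b ≠ c) (s : G) (hsa : s • a = b) (hsb : s • b = a) (hsc : s • c = c) : ∃ N : Subgroup G, N ≤ MulAction.stabilizer G a ⊓ MulAction.stabilizer G b ∧ (N.subgroupOf (MulAction.stabilizer G a ⊓ MulAction.stabilizer G b)).Normal ∧ N.relIndex (MulAction.stabilizer G a ⊓ MulAction.stabilizer G b) = 2 ∧ ∀ n ∈ N, s * n * s⁻¹ ∈ N := by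
  classical
  obtain ⟨f, g₀, hg₀⟩ := exists_sign heven (by omega) G h3 hsharp hab
  set H := MulAction.stabilizer G a ⊓ MulAction.stabilizer G b with hH
  have hmemH : ∀ g : G, g ∈ H ↔ g • a = a ∧ g • b = b := fun g => Iff.rfl
  -- the character is non-trivial on the two-point stabiliser
  obtain ⟨h₀, hh₀, hfh₀⟩ : ∃ h ∈ H, f h ≠ 1 := by
    by_contra hcon
    push Not at hcon
    apply hg₀
    have hmove := fun {x y z x' y' z' : α} => SharpThree28.move G h3 (a := x) (b := y) (c := z)
      (a' := x') (b' := y') (c' := z')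
    have h2 : ∀ {a b c d : α}, a ≠ b → c ≠ d → ∃ g : G, g • a = c ∧ g • b = d :=
      MulAction.is_two_pretransitive_iff.1 (SharpThree28.two_transitive G h3 (by omega))
    have hpair : ∀ (x y : α), x ≠ y → ∀ g : G, g • x = x → g • y = y → f g = 1 := by
      intro x y hxy g gx gy
      obtain ⟨k, k1, k2⟩ := h2 hab hxy
      have hm : k⁻¹ * g * k ∈ H := by
        rw [hmemH, mul_smul, mul_smul, k1, gx, mul_smul, mul_smul, k2, gy, inv_smul_eq_iff, inv_smul_eq_iff]
        exact ⟨k1.symm, k2.symm⟩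
      have := hcon _ hm
      rwa [map_mul, map_mul, map_inv, mul_comm _ (f g), mul_assoc, inv_mul_cancel, mul_one] at this
    have hA' : ∀ g : G, g • a = a → f g = 1 := by
      intro g ga
      by_cases hgb : g • b = b
      · exact hcon g ((hmemH g).2 ⟨ga, hgb⟩)
      have hga : g • b ≠ a := fun e => hab (MulAction.injective g (ga.trans e.symm))
      obtain ⟨d, hd⟩ := SharpThree28.pick (α := α) {a, b, g • b} (Finset.card_le_three.trans_lt (by omega))
      simp only [Finset.mem_insert, Finset.mem_singleton, not_or] at hd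
      obtain ⟨k, ka, kd, kb⟩ := hmove (Ne.symm hd.1) hab hd.2.1 (Ne.symm hd.1) hga.symm hd.2.2
      have hm : k⁻¹ * g ∈ H := by
        rw [hmemH, mul_smul, mul_smul, ga, inv_smul_eq_iff, inv_smul_eq_iff]
        exact ⟨ka.symm, kb.symm⟩
      have h1 := hcon _ hm
      rw [map_mul, map_inv, hpair a d (Ne.symm hd.1) k ka kd, inv_one, one_mul] at h1
      exact h1
    have hfs : f s = 1 := by
      obtain ⟨k, k1, -⟩ := h2 hab hbc.symm
      have := hA' (k⁻¹ * s * k) (by rw [mul_smul, mul_smul, k1, hsc, ← k1, inv_smul_smul])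
      rwa [map_mul, map_mul, map_inv, mul_comm _ (f s), mul_assoc, inv_mul_cancel, mul_one] at this
    by_cases hga : g₀ • a = a
    · exact hA' g₀ hga
    obtain ⟨d, hd⟩ := SharpThree28.pick (α := α) {a, b, g₀ • a} (Finset.card_le_three.trans_lt (by omega))
    simp only [Finset.mem_insert, Finset.mem_singleton, not_or] at hd
    obtain ⟨k, k1, k2⟩ := h2 hab (Ne.symm hga : a ≠ g₀ • a)
    have h1 := hA' k k1
    have h2' := hA' ((k * s)⁻¹ * g₀) (by
      rw [mul_smul, inv_smul_eq_iff, mul_smul, hsa, k2])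
    rw [map_mul, map_inv, map_mul, h1, hfs, mul_one, inv_one, one_mul] at h2'
    exact h2'
  refine ⟨H ⊓ f.ker, inf_le_left, ?_, ?_, ?_⟩
  · rw [Subgroup.inf_subgroupOf_left]
    infer_instance
  · rw [Subgroup.inf_relIndex_left]
    have h1 : (f.ker).relIndex H = (f.comp H.subtype).ker.index := rfl
    rw [h1, Subgroup.index_ker]
    have h2 : Nat.card (f.comp H.subtype).range ∣ Nat.card ℤˣ := Subgroup.card_subgroup_dvd_card _
    rw [Nat.card_eq_fintype_card (α := ℤˣ), show Fintype.card ℤˣ = 2 from rfl] at h2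
    rcases (Nat.dvd_prime Nat.prime_two).1 h2 with h | h
    · exfalso
      refine hfh₀ ?_
      have hb := Subgroup.card_eq_one.1 h
      exact Subgroup.mem_bot.1 (hb ▸ ⟨⟨h₀, hh₀⟩, rfl⟩)
    · exact h
  · rintro n ⟨hn, hn'⟩
    have hsa' : s⁻¹ • b = a := inv_smul_eq_iff.2 hsa.symm
    have hsb' : s⁻¹ • a = b := inv_smul_eq_iff.2 hsb.symm
    have hn2 := (hmemH n).1 hn
    refine ⟨(hmemH _).2 ⟨?_, ?_⟩, f.normal_ker.conj_mem n hn' s⟩
    · rw [mul_smul, mul_smul, hsb', hn2.2, hsb]
    · rw [mul_smul, mul_smul, hsa', hn2.1, hsa]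

end Cfsg.Agent.S0729
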