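import Cfsg.Statements.S0730
import Cfsg.Agent.Lib.ZassenhausPGLOddDegree
import Cfsg.Agent.Lib.SharplyTwoTransitive
-- import your own Cfsg.Agent.* helpers here

set_option autoImplicit false
open Cfsg

namespace Cfsg.Agent.S0730

/-- A sharply triply transitive group of degree `p^f + 1`, `p` an odd prime and `f` odd, is isomorphic to the projective general linear group of degree 2 over the field with `p^f` elements (for even `f` there is a second, twisted, group). -/
theorem result {α : Type*} [Fintype α] [DecidableEq α] {p f : ℕ} (hp : p.Prime) (hp2 : p ≠ 2) (hfo : Odd f) (hα : Fintype.card α = p ^ f + 1) (G : Subgroup (Equiv.Perm α)) (h3 : MulAction.IsMultiplyPretransitive G α 3) (hsharp : ∀ x : Fin 3 ↪ α, MulAction.stabilizer G x = ⊥) : ∃ (F : Type) (_ : Field F) (_ : Fintype F), Fintype.card F = p ^ f ∧ Nonempty (G ≃* Matrix.ProjGenLinGroup (Fin 2) F) := by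
  classical
  haveI := Fact.mk hp
  have hf1 : 1 ≤ f := hfo.pos
  have hp3 : 3 ≤ p := by have := hp.two_le; omega
  have hcard3 : 4 ≤ Fintype.card α := by
    have : p ^ 1 ≤ p ^ f := Nat.pow_le_pow_right hp.pos hf1
    rw [pow_one] at this
    omega
  have hpick : ∀ s : Finset α, s.card ≤ 3 → ∃ c, c ∉ s := fun s hs => by
    obtain ⟨c, hc⟩ : (sᶜ : Finset α).Nonempty := by
      rw [← Finset.card_pos, Finset.card_compl]; omega
    exact ⟨c, Finset.mem_compl.1 hc⟩
  let tri : ∀ a b c : α, a ≠ b → b ≠ c → a ≠ c → (Fin 3 ↪ α) := fun a b c hab hbc hac =>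
    ⟨![a, b, c], by
      intro i j h
      fin_cases i <;> fin_cases j <;> simp_all [hab.symm, hbc.symm, hac.symm]⟩
  have hthree : ∀ g : G, ∀ a b c : α, a ≠ b → b ≠ c → a ≠ c →
      g • a = a → g • b = b → g • c = c → g = 1 := by
    intro g a b c hab hbc hac ha hb hc
    have : g ∈ MulAction.stabilizer G (tri a b c hab hbc hac) := by
      rw [MulAction.mem_stabilizer_iff]
      ext i
      fin_cases i
      · exact ha
      · exact hb
      · exact hc
    rwa [hsharp, Subgroup.mem_bot] at this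
  have hmove : ∀ a b c : α, a ≠ b → a ≠ c → b ≠ c → ∀ a' b' c' : α, a' ≠ b' → a' ≠ c' → b' ≠ c' →
      ∃ g : G, g • a = a' ∧ g • b = b' ∧ g • c = c' := by
    intro a b c hab hac hbc a' b' c' hab' hac' hbc'
    obtain ⟨g, hg⟩ := h3.exists_smul_eq (tri a b c hab hbc hac) (tri a' b' c' hab' hbc' hac')
    exact ⟨g, DFunLike.congr_fun hg 0, DFunLike.congr_fun hg 1, DFunLike.congr_fun hg 2⟩
  have h2 : MulAction.IsMultiplyPretransitive G α 2 := by
    rw [MulAction.is_two_pretransitive_iff]
    intro a b c d hab hcd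
    obtain ⟨x, hx⟩ := hpick {a, b} (Finset.card_le_two.trans (by norm_num))
    obtain ⟨y, hy⟩ := hpick {c, d} (Finset.card_le_two.trans (by norm_num))
    simp only [Finset.mem_insert, Finset.mem_singleton, not_or] at hx hy
    obtain ⟨g, g1, g2, -⟩ :=
      hmove a b x hab (Ne.symm hx.1) (Ne.symm hx.2) c d y hcd (Ne.symm hy.1) (Ne.symm hy.2)
    exact ⟨g, g1, g2⟩
  obtain ⟨a, -⟩ := hpick ∅ (by simp)
  obtain ⟨b, hb⟩ := hpick {a} (by simp)
  rw [Finset.mem_singleton] at hb
  have hP : Cfsg.Agent.Zassenhaus.Pre G α := by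
    refine Cfsg.Agent.Zassenhaus.pre_of_hyp h2 hthree ?_
    obtain ⟨c, hc⟩ := hpick {a, b} (Finset.card_le_two.trans (by norm_num))
    simp only [Finset.mem_insert, Finset.mem_singleton, not_or] at hc
    obtain ⟨d, hd⟩ := hpick {a, b, c} Finset.card_le_three
    simp only [Finset.mem_insert, Finset.mem_singleton, not_or] at hd
    obtain ⟨g, g1, g2, g3⟩ := hmove a b c (Ne.symm hb) (Ne.symm hc.1) (Ne.symm hc.2)
      a b d (Ne.symm hb) (Ne.symm hd.1) (Ne.symm hd.2.1)
    refine ⟨g, fun e => hd.2.2 ?_, a, b, Ne.symm hb, g1, g2⟩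
    rw [← g3, e, one_smul]
  set S := MulAction.stabilizer G a
  have hX : ∀ (g : S) (x : SubMulAction.ofStabilizer G a), ((g • x : SubMulAction.ofStabilizer G a) : α) = (g : G) • (x : α) :=
    fun g x => rfl
  have hne : ∀ x : SubMulAction.ofStabilizer G a, (x : α) ≠ a := fun x => x.2
  have hXcard : Nat.card (SubMulAction.ofStabilizer G a) = p ^ f := by
    show Nat.card {x : α // x ≠ a} = _
    rw [Nat.card_eq_fintype_card, Fintype.card_subtype_compl, Fintype.card_subtype_eq, hα]
    omega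
  haveI : MulAction.IsPretransitive G α := MulAction.isPretransitive_of_is_two_pretransitive (h2 := h2)
  have hS2 : MulAction.IsMultiplyPretransitive S (SubMulAction.ofStabilizer G a) 2 :=
    SubMulAction.ofStabilizer.isMultiplyPretransitive.1 h3
  obtain ⟨K, q, j, hq, hj, hqj, -, -, hKn, hKc, hKexp, hKfree, hKt⟩ :=
    Cfsg.Agent.SharplyTwoTransitive.kernel_exists hS2 (fun g x y hxy hx hy => Subtype.ext
      (hthree g a x y (Ne.symm (hne x)) (fun e => hxy (Subtype.ext e)) (Ne.symm (hne y)) g.2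
        (congrArg Subtype.val hx) (congrArg Subtype.val hy)))
      (by rw [hXcard]; exact (show 2 ≤ p by omega).trans (Nat.le_self_pow (by omega) p))
  rw [hXcard] at hqj
  have hqp : q = p := ((Nat.prime_dvd_prime_iff_eq hq hp).1
    (hq.dvd_of_dvd_pow (hqj ▸ dvd_pow_self q (by omega))))
  subst hqp
  obtain ⟨V, _, ρ, act, e, hA, he, -, -, hexp⟩ :=
    Cfsg.Agent.Zassenhaus.exists_affine hP (Ne.symm hb) (K := K.map S.subtype)
      (fun k hk => by obtain ⟨k, -, rfl⟩ := hk; exact k.2)
      (fun g hg k hk => by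
        obtain ⟨k, hk, rfl⟩ := hk
        exact ⟨⟨g, hg⟩ * k * ⟨g, hg⟩⁻¹, hKn.conj_mem k hk _, rfl⟩)
      (fun y z hy hz => by
        obtain ⟨k, hk⟩ := hKt.exists_smul_eq (⟨y, hy⟩ : SubMulAction.ofStabilizer G a) ⟨z, hz⟩
        exact ⟨_, ⟨k, k.2, rfl⟩, congrArg Subtype.val hk⟩)
      (fun k hk y hy hky => by
        obtain ⟨k, hk, rfl⟩ := hk
        rcases (hKfree k).1 hk with h | h
        · rw [h]; rfl
        · exact absurd (Subtype.ext hky) (h ⟨y, hy⟩))
      (fun x hx y hy => by
        obtain ⟨x, hx, rfl⟩ := hx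
        obtain ⟨y, hy, rfl⟩ := hy
        rw [← map_mul, ← map_mul, hKc x hx y hy])
  haveI : Finite (OnePoint V) := Finite.of_equiv α e.symm
  haveI : Finite V := Finite.of_injective (fun v : V => (v : OnePoint V)) OnePoint.coe_injective
  have hVcard : Nat.card V = q ^ f := by
    have h1 : Nat.card (OnePoint V) = Nat.card V + 1 := Finite.card_option
    rw [Nat.card_congr e, Nat.card_eq_fintype_card, hα] at h1
    omega
  have hexp' : ∀ v : V, q • v = 0 := hexp q fun k hk => by
    obtain ⟨k, hk, rfl⟩ := hk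
    rw [← map_pow, hKexp k hk, map_one]
  obtain ⟨F, iF, iFt, hF, hiso⟩ := Cfsg.Agent.ZassenhausPGL.pgl_of_sharp_card hA (fun x y z hxy hxz hyz x' y' z' hxy' hxz' hyz' => by
    obtain ⟨g, g1, g2, g3⟩ := hmove (e x) (e y) (e z) (e.injective.ne hxy) (e.injective.ne hxz)
      (e.injective.ne hyz) (e x') (e y') (e z') (e.injective.ne hxy') (e.injective.ne hxz')
      (e.injective.ne hyz')
    exact ⟨g, e.injective (by rw [he, g1]), e.injective (by rw [he, g2]), e.injective (by rw [he, g3])⟩)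
    hp hp2 hfo hexp' hVcard
  exact ⟨F, iF, iFt, by rw [hF, hVcard], hiso⟩

end Cfsg.Agent.S0730
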