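import Mathlib
import Cfsg.Statements.S0732
import Cfsg.Agent.S0730
import Cfsg.Agent.S0731
import Cfsg.Agent.S0727
import Cfsg.Agent.Lib.PermMultiTrans
import Cfsg.Agent.Lib.PermBasic

set_option autoImplicit false
open Cfsg

namespace Cfsg.Agent.S0732

open scoped OnePoint
open MulAction

universe u

variable {α : Type u} [Fintype α] [DecidableEq α] {p d : ℕ}

theorem three_of_card (hp : p.Prime) (hα : Fintype.card α = p + 1) (G : Subgroup (Equiv.Perm α))
    [IsPretransitive G α] (hG : Nat.card G = (p + 1) * p * d) (hd : d < p) (a : α) :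
    ∃ P : Subgroup G, P ≤ stabilizer G a ∧ Nat.card P = p ∧
      (∀ g ∈ stabilizer G a, ∀ k ∈ P, g * k * g⁻¹ ∈ P) ∧
      (∀ y z : α, y ≠ a → z ≠ a → ∃ k ∈ P, k • y = z) ∧
      (∀ k ∈ P, ∀ y, y ≠ a → k • y = y → k = 1) := by
  classical
  haveI := Fact.mk hp
  have hS : Nat.card (stabilizer G a) = p * d := by
    have := PermBasic.card_mul_card_stabilizer (G := G) (X := α) a
    rw [Nat.card_eq_fintype_card (α := α), hα, hG, mul_assoc] at this
    exact Nat.eq_of_mul_eq_mul_left (by omega) this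
  have hd0 : 0 < d := by
    rcases Nat.eq_zero_or_pos d with h | h
    · rw [h, mul_zero] at hG
      exact absurd hG Nat.card_pos.ne'
    · exact h
  have hnd : ¬ p ∣ d := fun h => absurd (Nat.le_of_dvd hd0 h) (not_le.2 hd)
  obtain ⟨P₀⟩ : Nonempty (Sylow p (stabilizer G a)) := Sylow.nonempty
  have hP₀ : Nat.card (P₀ : Subgroup (stabilizer G a)) = p := by
    rw [P₀.card_eq_multiplicity, hS, Nat.factorization_mul hp.ne_zero hd0.ne', Finsupp.add_apply,
      hp.factorization_self, Nat.factorization_eq_zero_of_not_dvd hnd, add_zero, pow_one]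
  have hidx : (P₀ : Subgroup (stabilizer G a)).index = d := by
    have := Subgroup.card_mul_index (P₀ : Subgroup (stabilizer G a))
    rw [hP₀, hS] at this
    exact Nat.eq_of_mul_eq_mul_left hp.pos this
  haveI hsub : Subsingleton (Sylow p (stabilizer G a)) := by
    have h1 : Nat.card (Sylow p (stabilizer G a)) ≤ d := Nat.le_of_dvd hd0 (hidx ▸ P₀.card_dvd_index)
    have h2 := card_sylow_modEq_one p (stabilizer G a)
    rw [Nat.ModEq, Nat.one_mod_eq_one.2 hp.ne_one, Nat.mod_eq_of_lt (by omega)] at h2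
    exact (Nat.card_eq_one_iff_unique.1 h2).1
  haveI hn : (P₀ : Subgroup (stabilizer G a)).Normal := by
    haveI := P₀.characteristic_of_subsingleton
    infer_instance
  set P := (P₀ : Subgroup (stabilizer G a)).map (stabilizer G a).subtype with hPdef
  have hPc : Nat.card P = p := by rw [hPdef, Subgroup.card_map_of_injective (Subgroup.subtype_injective _), hP₀]
  have hle : P ≤ stabilizer G a := Subgroup.map_subtype_le _
  -- a moved point and its orbit
  obtain ⟨k₀, hk₀P, hk₀⟩ : ∃ k ∈ P, k ≠ 1 := by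
    by_contra hc
    push Not at hc
    have : P = ⊥ := (Subgroup.eq_bot_iff_forall _).2 hc
    rw [this, Subgroup.card_bot] at hPc
    exact hp.one_lt.ne hPc
  obtain ⟨y₀, hy₀⟩ : ∃ y, k₀ • y ≠ y := by
    by_contra hc
    push Not at hc
    exact hk₀ (eq_of_smul_eq_smul fun y : α => (hc y).trans (one_smul G y).symm)
  have horb : orbit P y₀ = {z | z ≠ a} := by
    refine Set.eq_of_subset_of_ncard_le ?_ ?_ (Set.toFinite _)
    · rintro _ ⟨k, rfl⟩ e'
      have e : (k : G) • y₀ = a := e'
      have : y₀ = a := MulAction.injective (k : G) (e.trans (mem_stabilizer_iff.1 (hle k.2)).symm)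
      exact hy₀ (this ▸ mem_stabilizer_iff.1 (hle hk₀P))
    · have h1 := PermBasic.card_orbit_dvd (G := P) y₀
      rw [hPc, Nat.dvd_prime hp] at h1
      rw [show {z : α | z ≠ a} = ({a}ᶜ : Set α) from rfl, Set.ncard_compl, Set.ncard_singleton,
        Nat.card_eq_fintype_card, hα, ← Nat.card_coe_set_eq]
      rcases h1 with h1 | h1
      · exfalso
        rw [Nat.card_eq_one_iff_exists] at h1
        obtain ⟨w, hw⟩ := h1
        have e1 := hw ⟨k₀ • y₀, ⟨⟨k₀, hk₀P⟩, rfl⟩⟩
        have e2 := hw ⟨y₀, mem_orbit_self y₀⟩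
        exact hy₀ (congrArg Subtype.val (e1.trans e2.symm))
      · omega
  have htr : ∀ y z : α, y ≠ a → z ≠ a → ∃ k ∈ P, k • y = z := by
    intro y z hy hz
    have hy' : y ∈ orbit P y₀ := horb.symm ▸ hy
    have hz' : z ∈ orbit P y₀ := horb.symm ▸ hz
    obtain ⟨k1, hk1⟩ := hy'
    obtain ⟨k2, hk2⟩ := hz'
    refine ⟨(k2 : G) * (k1 : G)⁻¹, P.mul_mem k2.2 (P.inv_mem k1.2), ?_⟩
    rw [← hk1, ← hk2, mul_smul]
    exact congrArg _ (inv_smul_smul (k1 : G) y₀)
  refine ⟨P, hle, hPc, fun g hg k hk => ?_, htr, fun k hk y hy e => ?_⟩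
  · obtain ⟨k, hk', rfl⟩ := hk
    exact ⟨⟨g, hg⟩ * k * ⟨g, hg⟩⁻¹, hn.conj_mem k hk' _, rfl⟩
  · haveI : Fintype P := Fintype.ofFinite _
    let f : P → {z : α // z ≠ a} := fun k => ⟨(k : G) • y, fun e' => hy (MulAction.injective (k : G)
      (e'.trans (mem_stabilizer_iff.1 (hle k.2)).symm))⟩
    have hf : Function.Bijective f := by
      rw [Fintype.bijective_iff_surjective_and_card]
      refine ⟨fun z => ?_, ?_⟩
      · obtain ⟨k, hk, hkz⟩ := htr y z hy z.2
        exact ⟨⟨k, hk⟩, Subtype.ext hkz⟩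
      · rw [← Nat.card_eq_fintype_card, hPc, Fintype.card_subtype_compl, Fintype.card_subtype_eq, hα]
        omega
    exact congrArg Subtype.val (@hf.1 ⟨k, hk⟩ 1 (Subtype.ext (e.trans (one_smul G y).symm)))

theorem no_three (hp : p.Prime) (hα : Fintype.card α = p + 1) (G : Subgroup (Equiv.Perm α))
    [IsPretransitive G α] (hG : Nat.card G = (p + 1) * p * d) (hd : d < p) (g : G) (a b c : α)
    (hab : a ≠ b) (hbc : b ≠ c) (hac : a ≠ c) (ha : g • a = a) (hb : g • b = b) (hc : g • c = c) :
    g = 1 := by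
  haveI := Fact.mk hp
  obtain ⟨P, hle, hPc, hPn, htr, hfree⟩ := three_of_card hp hα G hG hd a
  obtain ⟨t, htP, htc⟩ := htr b c hab.symm hac.symm
  have hgt : g * t * g⁻¹ = t := by
    refine (mul_inv_eq_one.1 (hfree _ (P.mul_mem (hPn g (mem_stabilizer_iff.2 ha) t htP) (P.inv_mem htP)) c
      hac.symm ?_))
    have ht' : t⁻¹ • c = b := inv_smul_eq_iff.2 htc.symm
    rw [mul_smul, mul_smul, mul_smul, ht', inv_smul_eq_iff.2 hb.symm, htc, hc]
  have ht1 : t ≠ 1 := fun h => hbc (by rw [← htc, h, one_smul])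
  haveI : Fintype P := Fintype.ofFinite _
  have hgen : Subgroup.zpowers t = P := Subgroup.eq_of_le_of_card_ge (Subgroup.zpowers_le.2 htP) (by
    rw [hPc, Nat.card_zpowers]
    have h := Subgroup.orderOf_dvd_natCard P htP
    rw [hPc, Nat.dvd_prime hp, orderOf_eq_one_iff] at h
    exact ((h.resolve_left ht1).ge))
  refine eq_of_smul_eq_smul fun y : α => ?_
  rw [one_smul]
  by_cases hy : y = a
  · rw [hy, ha]
  obtain ⟨k, hk, rfl⟩ := htr b y hab.symm hy
  rw [← hgen] at hk
  obtain ⟨i, rfl⟩ := hk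
  have hcomm : Commute g (t ^ i) := Commute.zpow_right (mul_inv_eq_iff_eq_mul.1 hgt) i
  rw [← mul_smul, hcomm.eq, mul_smul, hb]

theorem card_ringAut {q : ℕ} (hq : q ≠ 0) [Fact (Nat.Prime 2)] :
    Nat.card (GaloisField 2 q ≃+* GaloisField 2 q) = q := by
  have e : (GaloisField 2 q ≃+* GaloisField 2 q) ≃ (GaloisField 2 q ≃ₐ[ZMod 2] GaloisField 2 q) :=
    { toFun := fun φ => AlgEquiv.ofRingEquiv (f := φ) fun x => RingHom.congr_fun
        (Subsingleton.elim ((φ : GaloisField 2 q →+* GaloisField 2 q).comp (algebraMap _ _))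
          (algebraMap (ZMod 2) (GaloisField 2 q))) x
      invFun := fun φ => φ.toRingEquiv
      left_inv := fun φ => RingEquiv.ext fun x => rfl
      right_inv := fun φ => AlgEquiv.ext fun x => rfl }
  rw [Nat.card_congr e]
  exact (IsGalois.card_aut_eq_finrank _ _).trans (GaloisField.finrank 2 hq)

set_option maxHeartbeats 800000 in
theorem semiaffine_of_regular (hp : p.Prime) (hp2 : p ≠ 2) (hα : Fintype.card α = p + 1)
    (G : Subgroup (Equiv.Perm α)) [IsPretransitive G α] (hG : Nat.card G = (p + 1) * p * d)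
    (hd : d < p) (N : Subgroup G) [hN : N.Normal] [IsPretransitive N α]
    (hNs : ∀ a : α, stabilizer N a = ⊥) :
    ∃ q : ℕ, q.Prime ∧ p + 1 = 2 ^ q ∧ (d = 1 ∨ d = q) ∧ ∃ e : α ≃ GaloisField 2 q,
      ∀ g : G, (e.symm.trans (((g : Equiv.Perm α)).trans e)) ∈ Cfsg.semiaffineGroup (GaloisField 2 q) := by
  classical
  haveI := Fact.mk hp
  haveI : Fact (Nat.Prime 2) := ⟨Nat.prime_two⟩
  obtain ⟨a, b, hab⟩ := Fintype.exists_pair_of_one_lt_card (by have := hp.two_le; omega : 1 < Fintype.card α)
  obtain ⟨P, hle, hPc, hPn, htr, hfree⟩ := three_of_card hp hα G hG hd a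
  have hNbij : Function.Bijective fun n : N => (n : G) • a := by
    refine ⟨fun m n e => ?_, fun x => ?_⟩
    · have : m⁻¹ * n ∈ stabilizer N a := by
        rw [mem_stabilizer_iff, mul_smul, inv_smul_eq_iff]
        exact e.symm
      rw [hNs, Subgroup.mem_bot] at this
      exact inv_mul_eq_one.1 this
    · obtain ⟨n, hn⟩ := MulAction.exists_smul_eq N a x
      exact ⟨n, hn⟩
  have hNc : Nat.card N = p + 1 := by
    rw [Nat.card_congr (Equiv.ofBijective _ hNbij), Nat.card_eq_fintype_card, hα]
  have hconjsmul : ∀ (k : G) (n : N), k ∈ stabilizer G a →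
      (k * (n : G) * k⁻¹) • a = k • ((n : G) • a) := fun k n hk => by
    rw [mul_smul, mul_smul, inv_smul_eq_iff.2 (mem_stabilizer_iff.1 hk).symm]
  -- exponent two
  have hexp : ∀ n : N, n * n = 1 := by
    obtain ⟨t, ht⟩ := exists_prime_orderOf_dvd_card' (G := N) 2 (by
      rw [hNc]; exact (hp.odd_of_ne_two hp2).add_one.two_dvd)
    have ht1 : t ≠ 1 := fun h => by rw [h, orderOf_one] at ht; norm_num at ht
    have hta : (t : G) • a ≠ a := fun e => ht1 (hNbij.1 (e.trans (one_smul G a).symm))
    intro n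
    by_cases hn : n = 1
    · rw [hn, one_mul]
    have hna : (n : G) • a ≠ a := fun e => hn (hNbij.1 (e.trans (one_smul G a).symm))
    obtain ⟨k, hk, hkn⟩ := htr _ _ hta hna
    have hconj : (⟨k * (t : G) * k⁻¹, hN.conj_mem _ t.2 k⟩ : N) = n :=
      hNbij.1 ((hconjsmul k t (hle hk)).trans hkn)
    rw [← hconj]
    refine Subtype.ext ?_
    show k * (t : G) * k⁻¹ * (k * (t : G) * k⁻¹) = 1
    have h2 : (t : G) * (t : G) = 1 := by
      have h' : t ^ 2 = 1 := ht ▸ pow_orderOf_eq_one t
      rw [pow_two] at h'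
      exact congrArg Subtype.val h'
    rw [show k * (t : G) * k⁻¹ * (k * (t : G) * k⁻¹) = k * ((t : G) * t) * k⁻¹ by group, h2]
    group
  have hNcomm : ∀ m n : N, m * n = n * m := fun m n => by
    have hinv : ∀ x : N, x⁻¹ = x := fun x => inv_eq_of_mul_eq_one_right (hexp x)
    rw [← hinv (m * n), mul_inv_rev, hinv, hinv]
  obtain ⟨q, hq⟩ := (show IsPGroup 2 N from fun n => ⟨1, by rw [pow_one, pow_two]; exact hexp n⟩).exists_card_eq
  rw [hNc] at hq
  have hq1 : q ≠ 1 := by
    rintro rfl
    have := hp.two_le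
    omega
  have hqp : q.Prime := (Nat.prime_of_pow_sub_one_prime hq1 (a := 2) (by rw [← hq, Nat.add_sub_cancel]; exact hp)).2
  letI cg : CommGroup N := { (inferInstance : Group N) with mul_comm := hNcomm }
  let toV : α ≃ Additive N := (Equiv.ofBijective _ hNbij).symm.trans Additive.ofMul
  have htoV : ∀ n : N, toV ((n : G) • a) = Additive.ofMul n := fun n => by
    show Additive.ofMul ((Equiv.ofBijective _ hNbij).symm ((n : G) • a)) = _
    exact congrArg _ ((Equiv.ofBijective _ hNbij).symm_apply_apply n)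
  let S := stabilizer G a
  let cj : G →* AddMonoid.End (Additive N) :=
    { toFun := fun k => MonoidHom.toAdditive (MulAut.conjNormal k : MulAut N).toMonoidHom
      map_one' := AddMonoidHom.ext fun v => congrArg Additive.ofMul (Subtype.ext (by
        show (1 : G) * _ * (1 : G)⁻¹ = _; simp only [one_mul, inv_one, mul_one]; rfl))
      map_mul' := fun k l => AddMonoidHom.ext fun v => congrArg Additive.ofMul (Subtype.ext (by
        show k * l * _ * (k * l)⁻¹ = k * (l * _ * l⁻¹) * k⁻¹; group)) }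
  have hcj : ∀ (k : G) (n : N), cj k (Additive.ofMul n) =
      Additive.ofMul (⟨k * (n : G) * k⁻¹, hN.conj_mem _ n.2 k⟩ : N) := fun k n =>
    congrArg Additive.ofMul (Subtype.ext (MulAut.conjNormal_apply k n))
  have hlin : ∀ k ∈ S, ∀ x, toV (k • x) = cj k (toV x) := by
    intro k hk x
    obtain ⟨n, rfl⟩ := hNbij.2 x
    dsimp only
    rw [htoV, hcj, ← hconjsmul k n hk]
    exact htoV ⟨_, hN.conj_mem _ n.2 k⟩
  -- the field
  set e₁ := toV b with he₁def
  have h0 : toV a = 0 := by
    have := htoV 1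
    rwa [OneMemClass.coe_one, one_smul] at this
  have he₁ : e₁ ≠ 0 := fun h => hab (toV.injective (h.trans h0.symm)).symm
  set Ω₀ : Set (AddMonoid.End (Additive N)) := cj '' (P : Set G) with hΩ₀
  haveI : IsCyclic P := isCyclic_of_prime_card hPc
  have hcom : ∀ x ∈ Ω₀, ∀ y ∈ Ω₀, x * y = y * x := by
    rintro _ ⟨k, hk, rfl⟩ _ ⟨l, hl, rfl⟩
    letI := IsCyclic.commGroup (α := P)
    rw [← map_mul, ← map_mul]
    exact congrArg cj (congrArg Subtype.val (mul_comm (⟨k, hk⟩ : P) ⟨l, hl⟩))
  have htrV : ∀ v w : Additive N, v ≠ 0 → w ≠ 0 → ∃ k ∈ P, cj k v = w := by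
    intro v w hv hw
    obtain ⟨y, rfl⟩ := toV.surjective v
    obtain ⟨z, rfl⟩ := toV.surjective w
    obtain ⟨k, hk, hkz⟩ := htr y z (fun h => hv (h ▸ h0)) (fun h => hw (h ▸ h0))
    exact ⟨k, hk, by rw [← hlin k (hle hk), hkz]⟩
  have hirr : ∀ W : AddSubgroup (Additive N), (∀ t ∈ Ω₀, ∀ x ∈ W, t x ∈ W) → W = ⊥ ∨ W = ⊤ := by
    intro W hW
    by_cases hb : W = ⊥
    · exact Or.inl hb
    obtain ⟨x, hxW, hx⟩ : ∃ x ∈ W, x ≠ 0 := by
      by_contra hc
      push Not at hc
      exact hb ((AddSubgroup.eq_bot_iff_forall _).2 hc)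
    refine Or.inr ((AddSubgroup.eq_top_iff' _).2 fun v => ?_)
    by_cases hv : v = 0
    · rw [hv]; exact W.zero_mem
    obtain ⟨k, hk, rfl⟩ := htrV x v hx hv
    exact hW _ ⟨k, hk, rfl⟩ x hxW
  letI : CommRing (Subring.closure Ω₀) := Subring.closureCommRingOfComm hcom
  have hbij : ∀ r ∈ Subring.closure Ω₀, r ≠ 0 → Function.Bijective (r : Additive N → Additive N) :=
    fun r hr hr0 => Zassenhaus.bijective_of_mem_closure Ω₀ Ω₀ hcom hirr hr hr0
  let ev : Subring.closure Ω₀ →+ Additive N :=
    { toFun := fun r => (r : AddMonoid.End (Additive N)) e₁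
      map_zero' := rfl
      map_add' := fun _ _ => rfl }
  have hev : Function.Bijective ev := by
    refine ⟨?_, fun v => ?_⟩
    · rw [injective_iff_map_eq_zero]
      intro r hr
      by_contra hr0
      exact he₁ ((hbij r r.2 (fun h => hr0 (Subtype.ext h))).1
        (hr.trans (map_zero (r : AddMonoid.End (Additive N))).symm))
    · by_cases hv : v = 0
      · exact ⟨0, by rw [map_zero, hv]⟩
      · obtain ⟨k, hk, hkv⟩ := htrV e₁ v he₁ hv
        exact ⟨⟨cj k, Subring.subset_closure ⟨k, hk, rfl⟩⟩, hkv⟩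
  haveI : Finite (Additive N) := inferInstanceAs (Finite N)
  haveI : Finite (Subring.closure Ω₀) := Finite.of_injective _ hev.1
  haveI : Nontrivial (Subring.closure Ω₀) :=
    ⟨⟨0, 1, fun h => he₁ ((congrArg ev h).symm.trans (map_zero ev))⟩⟩
  haveI : NoZeroDivisors (Subring.closure Ω₀) := ⟨fun {r s} h => by
    by_contra hc
    push Not at hc
    refine hc.2 (Subtype.ext (AddMonoidHom.ext fun v => ?_))
    exact (hbij r r.2 (fun e => hc.1 (Subtype.ext e))).1
      ((congrArg (fun x : Subring.closure Ω₀ => (x : AddMonoid.End (Additive N)) v) h).trans (map_zero _).symm)⟩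
  haveI : IsDomain (Subring.closure Ω₀) := NoZeroDivisors.to_isDomain _
  haveI := Fintype.ofFinite (Subring.closure Ω₀)
  letI : Field (Subring.closure Ω₀) := Fintype.fieldOfDomain _
  haveI : Fintype (GaloisField 2 q) := Fintype.ofFinite _
  let E : Subring.closure Ω₀ ≃+ Additive N := AddEquiv.ofBijective ev hev
  have hFcard : Fintype.card (Subring.closure Ω₀) = Fintype.card (GaloisField 2 q) := by
    rw [← Nat.card_eq_fintype_card, Nat.card_congr E.toEquiv, ← Nat.card_eq_fintype_card,
      GaloisField.card 2 q hqp.ne_zero]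
    exact hNc.trans hq
  let ι : Subring.closure Ω₀ ≃+* GaloisField 2 q := FiniteField.ringEquivOfCardEq hFcard
  -- conjugation by the point stabiliser
  have hmemθ : ∀ k : S, ∀ r ∈ Subring.closure Ω₀, cj k * r * cj (k : G)⁻¹ ∈ Subring.closure Ω₀ := by
    intro k r hr
    have h1 : cj (k : G)⁻¹ * cj k = 1 := by rw [← map_mul, inv_mul_cancel, map_one]
    induction hr using Subring.closure_induction with
    | mem x hx =>
      obtain ⟨l, hl, rfl⟩ := hx
      rw [← map_mul, ← map_mul]
      exact Subring.subset_closure ⟨_, hPn k k.2 l hl, rfl⟩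
    | zero => rw [mul_zero, zero_mul]; exact Subring.zero_mem _
    | one => rw [mul_one, ← map_mul, mul_inv_cancel, map_one]; exact Subring.one_mem _
    | add x y _ _ hx hy => rw [mul_add, add_mul]; exact Subring.add_mem _ hx hy
    | neg x _ hx =>
      have : cj k * -x * cj (k : G)⁻¹ = -(cj k * x * cj (k : G)⁻¹) :=
        AddMonoidHom.ext fun v => (congrArg (cj k) rfl).trans (map_neg (cj (k : G)) _)
      rw [this]; exact Subring.neg_mem _ hx
    | mul x y _ _ hx hy =>
      have : cj k * (x * y) * cj (k : G)⁻¹ = (cj k * x * cj (k : G)⁻¹) * (cj k * y * cj (k : G)⁻¹) := by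
        calc cj k * (x * y) * cj (k : G)⁻¹ = cj k * x * 1 * y * cj (k : G)⁻¹ := by
              rw [mul_one]; noncomm_ring
          _ = _ := by rw [← h1]; noncomm_ring
      rw [this]
      exact Subring.mul_mem _ hx hy
  let θ₀ : S → Subring.closure Ω₀ → Subring.closure Ω₀ := fun k r =>
    ⟨cj k * r * cj (k : G)⁻¹, hmemθ k r r.2⟩
  have hθ₀ : ∀ k l : S, ∀ r, θ₀ k (θ₀ l r) = θ₀ (k * l) r := fun k l r => Subtype.ext (by
    show cj k * (cj l * (r : AddMonoid.End (Additive N)) * cj (l : G)⁻¹) * cj (k : G)⁻¹ =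
      cj ((k : G) * l) * r * cj ((k : G) * l)⁻¹
    rw [map_mul, mul_inv_rev, map_mul]
    noncomm_ring)
  have hθone : ∀ r, θ₀ 1 r = r := fun r => Subtype.ext (by
    show cj 1 * (r : AddMonoid.End (Additive N)) * cj (1 : G)⁻¹ = r
    rw [inv_one, map_one, one_mul, mul_one])
  let θ : S → RingAut (GaloisField 2 q) := fun k => ι.symm.trans
    (({ toFun := θ₀ k
        invFun := θ₀ k⁻¹
        left_inv := fun r => by rw [hθ₀, inv_mul_cancel, hθone]
        right_inv := fun r => by rw [hθ₀, mul_inv_cancel, hθone]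
        map_mul' := fun r s => Subtype.ext (by
          show cj k * ((r : AddMonoid.End (Additive N)) * s) * cj (k : G)⁻¹ =
            (cj k * r * cj (k : G)⁻¹) * (cj k * s * cj (k : G)⁻¹)
          have h1 : cj (k : G)⁻¹ * cj k = 1 := by rw [← map_mul, inv_mul_cancel, map_one]
          calc cj k * ((r : AddMonoid.End (Additive N)) * s) * cj (k : G)⁻¹
              = cj k * r * 1 * s * cj (k : G)⁻¹ := by rw [mul_one]; noncomm_ring
            _ = _ := by rw [← h1]; noncomm_ring)
        map_add' := fun r s => Subtype.ext (by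
          show cj k * ((r : AddMonoid.End (Additive N)) + s) * cj (k : G)⁻¹ =
            cj k * r * cj (k : G)⁻¹ + cj k * s * cj (k : G)⁻¹
          rw [mul_add, add_mul]) } : Subring.closure Ω₀ ≃+* Subring.closure Ω₀).trans ι)
  let e : α ≃ GaloisField 2 q := toV.trans (E.symm.toEquiv.trans ι.toEquiv)
  have he : ∀ x, e x = ι (E.symm (toV x)) := fun _ => rfl
  -- the action of the stabiliser
  have hkey : ∀ (k : S) (x : α), e ((k : G) • x) = e ((k : G) • b) * θ k (e x) := by
    intro k x
    rw [he, he, he]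
    show _ = _ * ι (θ₀ k (ι.symm (ι (E.symm (toV x)))))
    rw [RingEquiv.symm_apply_apply, ← map_mul]
    congr 1
    apply E.injective
    rw [E.apply_symm_apply, hlin k k.2]
    obtain ⟨r, hr⟩ := E.surjective (toV x)
    obtain ⟨u, hu⟩ := E.surjective (toV ((k : G) • b))
    rw [← hr, ← hu, E.symm_apply_apply, E.symm_apply_apply, mul_comm u]
    show cj k ((r : AddMonoid.End (Additive N)) e₁) =
      (cj k * (r : AddMonoid.End (Additive N)) * cj (k : G)⁻¹) ((u : AddMonoid.End (Additive N)) e₁)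
    have hu' : (u : AddMonoid.End (Additive N)) e₁ = cj k e₁ := hu.trans (hlin k k.2 b)
    rw [hu']
    show _ = cj k ((r : AddMonoid.End (Additive N)) (cj (k : G)⁻¹ (cj k e₁)))
    have h1 : cj (k : G)⁻¹ (cj k e₁) = e₁ := by
      show (cj (k : G)⁻¹ * cj k) e₁ = e₁
      rw [← map_mul, inv_mul_cancel, map_one]
      rfl
    rw [h1]
  refine ⟨q, hqp, hq, ?_, e, ?_⟩
  · -- the two-point stabiliser embeds in the Galois group
    have hb1 : e b = 1 := by
      rw [he]
      have : E.symm (toV b) = 1 := E.injective (by rw [E.apply_symm_apply]; rfl)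
      rw [this, map_one]
    set Hb := stabilizer S b with hHb
    let φ : Hb →* RingAut (GaloisField 2 q) :=
      { toFun := fun k => θ k
        map_one' := RingEquiv.ext fun x => by
          show ι (θ₀ 1 (ι.symm x)) = x
          rw [hθone, RingEquiv.apply_symm_apply]
        map_mul' := fun k l => RingEquiv.ext fun x => by
          show ι (θ₀ ((k : S) * l) (ι.symm x)) = ι (θ₀ k (ι.symm (ι (θ₀ l (ι.symm x)))))
          rw [RingEquiv.symm_apply_apply, hθ₀] }
    have hφ : Function.Injective φ := by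
      rw [← MonoidHom.ker_eq_bot_iff, Subgroup.eq_bot_iff_forall]
      intro k hk
      rw [MonoidHom.mem_ker] at hk
      have hkb : ((k : S) : G) • b = b := k.2
      refine Subtype.ext (Subtype.ext (eq_of_smul_eq_smul fun x : α => ?_))
      apply e.injective
      rw [hkey, hkb, hb1, one_mul, show θ (k : S) = 1 from hk]
      exact (congrArg e (one_smul G x)).symm
    have hdd : Nat.card Hb = d := by
      have h := PermBasic.card_orbit_mul_card_stabilizer (G := S) b
      have ho : orbit S b = {z | z ≠ a} := by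
        ext z
        constructor
        · rintro ⟨k, rfl⟩ (e' : (k : G) • b = a)
          exact hab (MulAction.injective (k : G) (e'.trans (mem_stabilizer_iff.1 k.2).symm)).symm
        · intro hz
          obtain ⟨k, hk, hkz⟩ := htr b z hab.symm hz
          exact ⟨⟨k, hle hk⟩, hkz⟩
      have hS : Nat.card S = p * d := by
        have := PermBasic.card_mul_card_stabilizer (G := G) (X := α) a
        rw [Nat.card_eq_fintype_card (α := α), hα, hG, mul_assoc] at this
        exact Nat.eq_of_mul_eq_mul_left (by omega) this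
      rw [ho, Nat.card_coe_set_eq, show {z : α | z ≠ a} = ({a}ᶜ : Set α) from rfl, Set.ncard_compl,
        Set.ncard_singleton, Nat.card_eq_fintype_card (α := α), hα, Nat.add_sub_cancel, hS] at h
      exact Nat.eq_of_mul_eq_mul_left hp.pos h
    haveI : Finite (RingAut (GaloisField 2 q)) := Finite.of_injective _ (DFunLike.coe_injective (F := GaloisField 2 q ≃+* GaloisField 2 q))
    have hdvd := Subgroup.card_dvd_of_injective φ hφ
    rw [hdd, show Nat.card (RingAut (GaloisField 2 q)) = q from card_ringAut hqp.ne_zero] at hdvd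
    exact (Nat.dvd_prime hqp).1 hdvd
  · intro g
    obtain ⟨n, hn⟩ := hNbij.2 (g • a)
    have hk : (n : G)⁻¹ * g ∈ S := by
      rw [mem_stabilizer_iff, mul_smul, ← hn, inv_smul_smul]
    set k : S := ⟨_, hk⟩ with hkdef
    have hu : e ((k : G) • b) ≠ 0 := by
      intro h
      have ha0 : e a = 0 := by rw [he, h0, map_zero, map_zero]
      exact hab (MulAction.injective (k : G) ((mem_stabilizer_iff.1 k.2).trans (e.injective (ha0.trans h.symm))))
    refine ⟨Units.mk0 _ hu, e ((n : G) • a), θ k, fun x => ?_⟩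
    obtain ⟨x, rfl⟩ := e.surjective x
    show e (g • e.symm (e x)) = _
    rw [e.symm_apply_apply, Units.val_mk0, ← hkey]
    rw [show g • x = (n : G) • ((k : G) • x) by rw [← mul_smul, hkdef, mul_inv_cancel_left]]
    obtain ⟨m, hm⟩ := hNbij.2 ((k : G) • x)
    rw [← hm, he, he, he, ← map_add, ← map_add]
    congr 2
    rw [htoV, htoV]
    rw [← mul_smul, ← Subgroup.coe_mul, htoV, ← ofMul_mul, mul_comm]



/-- A transitive permutation group on `p + 1` points (`p` prime) of order `(p+1) p d` with `d < p` is isomorphic to `PGL(2,p)` with `d = p - 1`, or to `PSL(2,p)` with `2d = p - 1`, or else `p + 1 = 2^q` for a prime `q`, `d = 1` or `d = q`, and the group is permutation-isomorphic to a group of semi-affine maps `x ↦ a φ(x) + b` of the field with `2^q` elements. -/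
theorem result {α : Type*} [Fintype α] [DecidableEq α] {p d : ℕ} (hp : p.Prime) (hα : Fintype.card α = p + 1) (G : Subgroup (Equiv.Perm α)) [MulAction.IsPretransitive G α] (hG : Nat.card G = (p + 1) * p * d) (hd : d < p) : (d = p - 1 ∧ Nonempty (G ≃* Matrix.ProjGenLinGroup (Fin 2) (ZMod p))) ∨ (2 * d = p - 1 ∧ Nonempty (G ≃* Matrix.ProjectiveSpecialLinearGroup (Fin 2) (ZMod p))) ∨ (∃ q : ℕ, q.Prime ∧ p + 1 = 2 ^ q ∧ (d = 1 ∨ d = q) ∧ ∃ e : α ≃ GaloisField 2 q, ∀ g : G, (e.symm.trans (((g : Equiv.Perm α)).trans e)) ∈ Cfsg.semiaffineGroup (GaloisField 2 q)) := by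
  classical
  haveI := Fact.mk hp
  haveI : Fact (Nat.Prime 2) := ⟨Nat.prime_two⟩
  have hd0 : 0 < d := by
    rcases Nat.eq_zero_or_pos d with h | h
    · rw [h, mul_zero] at hG
      exact absurd hG Nat.card_pos.ne'
    · exact h
  by_cases hp2 : p = 2
  · -- degree three
    subst hp2
    have hd1 : d = 1 := by omega
    subst hd1
    left
    refine ⟨rfl, ?_⟩
    have htop : G = ⊤ := Subgroup.eq_top_of_card_eq G (by
      rw [hG, Nat.card_perm, Nat.card_eq_fintype_card, hα]; decide)
    have hα' : Nat.card α = 3 := by rw [Nat.card_eq_fintype_card, hα]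
    have h3 : MulAction.IsMultiplyPretransitive G α 3 := by
      subst htop
      exact ⟨fun x y => by
        have hx : Function.Bijective x := x.injective.bijective_of_nat_card_le (by rw [Nat.card_fin, hα'])
        have hy : Function.Bijective y := y.injective.bijective_of_nat_card_le (by rw [Nat.card_fin, hα'])
        refine ⟨⟨(Equiv.ofBijective x hx).symm.trans (Equiv.ofBijective y hy), Subgroup.mem_top _⟩,
          Function.Embedding.ext fun i => ?_⟩
        show (Equiv.ofBijective x hx).symm.trans (Equiv.ofBijective y hy) (x i) = y i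
        rw [Equiv.trans_apply]
        exact congrArg (Equiv.ofBijective y hy) ((Equiv.ofBijective x hx).symm_apply_apply i)⟩
    have hsharp : ∀ x : Fin 3 ↪ α, MulAction.stabilizer G x = ⊥ := by
      intro x
      rw [eq_bot_iff]
      intro g hg
      have hg' : ∀ i, g • x i = x i := fun i => DFunLike.congr_fun (MulAction.mem_stabilizer_iff.1 hg) i
      refine Subgroup.mem_bot.2 (eq_of_smul_eq_smul fun y : α => ?_)
      obtain ⟨i, rfl⟩ := (x.injective.bijective_of_nat_card_le (by rw [Nat.card_fin, hα'])).2 y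
      rw [hg' i, one_smul]
    obtain ⟨F, iF, iFt, hF, ⟨iso⟩⟩ := Cfsg.Agent.S0727.result (f := 1) le_rfl (by rw [hα]; rfl) G h3 hsharp
    exact ⟨iso.trans (Cfsg.Agent.PSLCard.pglEquivOfCard (by rw [Nat.card_eq_fintype_card, hF, Nat.card_zmod]; rfl))⟩
  have hp3 : 3 ≤ p := by have := hp.two_le; omega
  have hthree := no_three hp hα G hG hd
  have hpre : ∀ a : α, Nat.card (MulAction.stabilizer G a) = p * d := fun a => by
    have := Cfsg.Agent.PermBasic.card_mul_card_stabilizer (G := G) (X := α) a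
    rw [Nat.card_eq_fintype_card (α := α), hα, hG, mul_assoc] at this
    exact Nat.eq_of_mul_eq_mul_left (by omega) this
  have h2 : MulAction.IsMultiplyPretransitive G α 2 := by
    rw [MulAction.is_two_pretransitive_iff]
    intro x y x' y' hxy hxy'
    obtain ⟨g, hg⟩ := MulAction.exists_smul_eq G x x'
    obtain ⟨P, hle, -, -, htr, -⟩ := three_of_card hp hα G hG hd x'
    obtain ⟨k, hk, hky⟩ := htr (g • y) y' (fun e => hxy (MulAction.injective g (hg.trans e.symm))) hxy'.symm
    exact ⟨k * g, by rw [mul_smul, hg]; exact hle hk, by rw [mul_smul, hky]⟩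
  by_cases hreg : ∃ N : Subgroup G, N.Normal ∧ MulAction.IsPretransitive N α ∧
      ∀ a : α, MulAction.stabilizer N a = ⊥
  · obtain ⟨N, hN, hNt, hNs⟩ := hreg
    exact Or.inr (Or.inr (semiaffine_of_regular hp hp2 hα G hG hd N hNs))
  push Not at hreg
  -- a Zassenhaus group
  obtain ⟨a, b, hab⟩ := Fintype.exists_pair_of_one_lt_card (by omega : 1 < Fintype.card α)
  obtain ⟨P, hle, hPc, hPn, htr, hfree⟩ := three_of_card hp hα G hG hd a
  have hone : d ≠ 1 := by
    intro h1
    subst h1
    have hsharp : ∀ (g : G) (x y : α), x ≠ y → g • x = x → g • y = y → g = 1 := by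
      intro g x y hxy gx gy
      obtain ⟨Q, hQle, hQc, -, -, hQfree⟩ := three_of_card hp hα G hG hd x
      have hQ : Q = MulAction.stabilizer G x := Subgroup.eq_of_le_of_card_ge hQle (by rw [hQc, hpre, mul_one])
      exact hQfree g (hQ ▸ gx) y hxy.symm gy
    obtain ⟨K, r, j, -, -, hX, hK, -, hKn, -, -, -, hKt⟩ :=
      Cfsg.Agent.SharplyTwoTransitive.kernel_exists h2 hsharp (by rw [Nat.card_eq_fintype_card]; omega)
    haveI := hKt
    obtain ⟨x, hx⟩ := hreg K hKn hKt
    exact hx (Cfsg.Agent.PermBasic.stabilizer_eq_bot_of_card_eq (by rw [hK, hX]) x)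
  have hHcard : ∀ x y : α, x ≠ y →
      Nat.card (MulAction.stabilizer (MulAction.stabilizer G x) y) = d := by
    intro x y hxy
    obtain ⟨Q, hQle, -, -, hQtr, -⟩ := three_of_card hp hα G hG hd x
    have h := Cfsg.Agent.PermBasic.card_orbit_mul_card_stabilizer (G := MulAction.stabilizer G x) y
    have ho : MulAction.orbit (MulAction.stabilizer G x) y = {z | z ≠ x} := by
      ext z
      constructor
      · rintro ⟨k, rfl⟩ (e' : (k : G) • y = x)
        exact hxy (MulAction.injective (k : G) (e'.trans (MulAction.mem_stabilizer_iff.1 k.2).symm)).symm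
      · intro hz
        obtain ⟨k, hk, hkz⟩ := hQtr y z hxy.symm hz
        exact ⟨⟨k, hQle hk⟩, hkz⟩
    rw [ho, Nat.card_coe_set_eq, show {z : α | z ≠ x} = ({x}ᶜ : Set α) from rfl, Set.ncard_compl,
      Set.ncard_singleton, Nat.card_eq_fintype_card (α := α), hα, Nat.add_sub_cancel, hpre] at h
    exact Nat.eq_of_mul_eq_mul_left hp.pos h
  have hZ : Cfsg.IsZassenhausGroup G α := by
    refine ⟨inferInstance, h2, hthree, ?_, fun N hN hNt => hreg N hN hNt⟩
    have : Nontrivial (MulAction.stabilizer (MulAction.stabilizer G a) b) :=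
      Finite.one_lt_card_iff_nontrivial.1 (by rw [hHcard a b hab]; omega)
    obtain ⟨h, hh⟩ := exists_ne (1 : MulAction.stabilizer (MulAction.stabilizer G a) b)
    exact ⟨(h : MulAction.stabilizer G a), fun e => hh (Subtype.ext (Subtype.ext e)), a, b, hab,
      (h : MulAction.stabilizer G a).2, h.2⟩
  -- the two-point stabiliser embeds in the units mod p
  have hdvd : d ∣ p - 1 := by
    haveI : IsCyclic P := isCyclic_of_prime_card hPc
    let H := MulAction.stabilizer (MulAction.stabilizer G a) b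
    let ψ : H →* MulAut P := MonoidHom.comp (P.normalizerMonoidHom)
      { toFun := fun h => ⟨((h : MulAction.stabilizer G a) : G), by
          rw [Subgroup.mem_normalizer_iff]
          intro k
          refine ⟨fun hk => hPn _ (h : MulAction.stabilizer G a).2 k hk, fun hk => ?_⟩
          have := hPn _ ((MulAction.stabilizer G a).inv_mem (h : MulAction.stabilizer G a).2) _ hk
          simpa [mul_assoc] using this⟩
        map_one' := rfl
        map_mul' := fun _ _ => rfl }
    have hψ : Function.Injective ψ := by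
      rw [← MonoidHom.ker_eq_bot_iff, Subgroup.eq_bot_iff_forall]
      intro h hh
      have hc : ∀ k ∈ P, ((h : MulAction.stabilizer G a) : G) * k * ((h : MulAction.stabilizer G a) : G)⁻¹ = k :=
        fun k hk => by
          have e1 : ψ h (⟨k, hk⟩ : (P : Subgroup G)) = ⟨k, hk⟩ := by rw [MonoidHom.mem_ker.1 hh]; rfl
          exact congrArg Subtype.val e1
      refine Subtype.ext (Subtype.ext (eq_of_smul_eq_smul fun y : α => ?_))
      show ((h : MulAction.stabilizer G a) : G) • y = (1 : G) • y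
      rw [one_smul]
      by_cases hy : y = a
      · rw [hy]; exact (h : MulAction.stabilizer G a).2
      obtain ⟨k, hk, rfl⟩ := htr b y hab.symm hy
      rw [← mul_smul, mul_inv_eq_iff_eq_mul.1 (hc k hk), mul_smul]
      exact congrArg _ h.2
    have := Subgroup.card_dvd_of_injective ψ hψ
    rw [IsCyclic.card_mulAut, hPc, Nat.totient_prime hp, hHcard a b hab] at this
    exact this
  -- either sharply triply transitive, or at most half
  have hdich : (MulAction.IsMultiplyPretransitive G α 3 ∧ ∀ x : Fin 3 ↪ α, MulAction.stabilizer G x = ⊥) ∨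
      (2 * d ≤ p - 1 ∧ ∃ (K : Type) (_ : Field K) (_ : Fintype K), ringChar K ≠ 2 ∧
        Nonempty (G ≃* Matrix.ProjectiveSpecialLinearGroup (Fin 2) K)) := by
    obtain ⟨c, hc⟩ := hdvd
    rcases c with _ | _ | c
    · omega
    · left
      refine Cfsg.Agent.S0731.sharp_of_card hZ hab ?_
      have e : Nat.card (Cfsg.Agent.Zassenhaus.two G a b) = d := by
        rw [← hHcard a b hab]
        exact (Nat.card_congr
          { toFun := fun h : MulAction.stabilizer (MulAction.stabilizer G a) b =>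
              (⟨((h : MulAction.stabilizer G a) : G), (h : MulAction.stabilizer G a).2, h.2⟩ :
                Cfsg.Agent.Zassenhaus.two G a b)
            invFun := fun g => ⟨⟨g, g.2.1⟩, g.2.2⟩
            left_inv := fun _ => rfl
            right_inv := fun _ => rfl }).symm
      rw [e, Nat.card_eq_fintype_card, hα]
      omega
    · rcases Cfsg.Agent.S0731.result hZ a P hle ⟨fun k hk g => hPn g g.2 k hk⟩
        (by haveI : IsCyclic P := isCyclic_of_prime_card hPc; exact IsCyclic.isMulCommutative)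
        (fun y z hy hz => by
          obtain ⟨k, hk, hkz⟩ := htr y z hy hz
          refine ⟨⟨k, hk⟩, hkz, fun u hu => Subtype.ext ?_⟩
          exact (inv_mul_eq_one.1 (hfree _ (P.mul_mem (P.inv_mem hk) u.2) y hy
            (by rw [mul_smul, hu, ← hkz, inv_smul_smul]))).symm)
        with h | h
      · exact Or.inl h
      · refine Or.inr ⟨?_, h⟩
        rw [hc, mul_comm 2]
        exact Nat.mul_le_mul_left d (by omega)
  rcases hdich with ⟨h3, hsharp⟩ | ⟨hhalf, K, iK, iKt, hK2, ⟨iso⟩⟩
  · left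
    have h := Cfsg.Agent.PermMultiTrans.card_eq_of_sharp (G := G) (X := α) (k := 3)
      (by rw [Nat.card_eq_fintype_card]; omega) hsharp
    rw [hG, Nat.card_eq_fintype_card, hα] at h
    have hdp : d = p - 1 := by
      simp only [Nat.descFactorial_succ, Nat.descFactorial_zero, Nat.sub_zero, mul_one,
        Nat.add_sub_cancel] at h
      have h' : (p + 1) * p * d = (p + 1) * p * (p + 1 - 2) := by rw [h]; ring
      have := Nat.eq_of_mul_eq_mul_left (Nat.mul_pos (by omega) hp.pos) h'
      omega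
    obtain ⟨F, iF, iFt, hF, ⟨iso⟩⟩ :=
      Cfsg.Agent.S0730.result hp hp2 (f := 1) odd_one (by rw [hα, pow_one]) G h3 hsharp
    exact ⟨hdp, ⟨iso.trans (Cfsg.Agent.PSLCard.pglEquivOfCard
      (by rw [Nat.card_eq_fintype_card, hF, Nat.card_zmod, pow_one]))⟩⟩
  · right; left
    set r := Nat.card K with hr
    have hodd : Odd r := by
      have h := FiniteField.odd_card_of_char_ne_two hK2
      rw [hr, Nat.card_eq_fintype_card, Nat.odd_iff]
      exact h
    have hcard : 2 * ((p + 1) * p * d) = r * (r ^ 2 - 1) := by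
      rw [← hG, Nat.card_congr iso.toEquiv, Cfsg.Agent.PSLCard.card_PSL2_odd hodd]
      obtain ⟨i, hi⟩ := hodd
      have : Even (r * (r ^ 2 - 1)) := by
        rw [hi, show (2 * i + 1) ^ 2 - 1 = 2 * (2 * (i * i + i)) by
          rw [Nat.sub_eq_iff_eq_add (Nat.one_le_pow _ _ (by omega))]; ring]
        exact (even_two_mul _).mul_left _
      exact Nat.mul_div_cancel' this.two_dvd
    have hrp : r = p ∧ 2 * d = p - 1 := by
      have hpr : p ∣ r * ((r - 1) * (r + 1)) := by
        have e : r ^ 2 - 1 = (r + 1) * (r - 1) := by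
          rw [show r ^ 2 - 1 = r ^ 2 - 1 ^ 2 by norm_num, Nat.sq_sub_sq]
        rw [mul_comm (r - 1), ← e, ← hcard]
        exact Dvd.intro ((p + 1) * d * 2) (by ring)
      have hr2 : 2 ≤ r := Finite.one_lt_card (α := K)
      have hsplit : p ∣ r ∨ p ∣ r - 1 ∨ p ∣ r + 1 := by
        rcases hp.dvd_mul.1 hpr with h | h
        · exact Or.inl h
        · exact Or.inr (hp.dvd_mul.1 h)
      have hle' : r < p + 1 := by
        by_contra hlt
        push Not at hlt
        have h1 : (p + 1) ^ 2 - 1 ≤ r ^ 2 - 1 := Nat.sub_le_sub_right (Nat.pow_le_pow_left hlt 2) 1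
        have h2' : (p + 1) * ((p + 1) ^ 2 - 1) ≤ r * (r ^ 2 - 1) := Nat.mul_le_mul hlt h1
        have h3' : (p + 1) ^ 2 - 1 = p * p + 2 * p := by
          rw [Nat.sub_eq_iff_eq_add (Nat.one_le_pow _ _ (by omega))]; ring
        rw [h3', ← hcard] at h2'
        have h4 : 2 * ((p + 1) * p * d) ≤ (p + 1) * p * (p - 1) := by
          rw [mul_left_comm]
          exact Nat.mul_le_mul_left _ hhalf
        have h5 : (p + 1) * p * (p - 1) < (p + 1) * (p * p + 2 * p) := by
          rw [mul_assoc]
          refine Nat.mul_lt_mul_of_pos_left ?_ (by omega)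
          rw [show p * p + 2 * p = p * (p + 2) by ring]
          exact Nat.mul_lt_mul_of_pos_left (by omega) hp.pos
        omega
      have hreq : r = p := by
        obtain ⟨i, hi⟩ := hodd
        obtain ⟨l, hl⟩ := hp.odd_of_ne_two hp2
        rcases hsplit with h | h | h
        · have := Nat.le_of_dvd (by omega) h
          omega
        · have := Nat.le_of_dvd (by omega) h
          omega
        · have := Nat.le_of_dvd (by omega) h
          omega
      refine ⟨hreq, ?_⟩
      rw [hreq] at hcard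
      have e : p ^ 2 - 1 = (p + 1) * (p - 1) := by
        rw [show p ^ 2 - 1 = p ^ 2 - 1 ^ 2 by norm_num, Nat.sq_sub_sq]
      rw [e] at hcard
      have h' : (p + 1) * p * (2 * d) = (p + 1) * p * (p - 1) := by rw [mul_left_comm, hcard]; ring
      exact Nat.eq_of_mul_eq_mul_left (Nat.mul_pos (by omega) hp.pos) h'
    exact ⟨hrp.2, ⟨iso.trans (Cfsg.Agent.PSLCard.pslEquivOfCard (by rw [← hr, hrp.1, Nat.card_zmod]))⟩⟩

end Cfsg.Agent.S0732
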