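import Cfsg.Statements.S0733
import Cfsg.Agent.Lib.PermBasic

set_option autoImplicit false
open Cfsg MulAction
open scoped Pointwise

namespace Cfsg.Agent.S0733

/-- A permutation group of affine type — generated by the translations of a finite vector space `V` over `ZMod p` together with a group `G₀` of linear automorphisms — is primitive on `V` if and only if `G₀` is irreducible on `V`. -/
theorem result {p : ℕ} [Fact p.Prime] {V : Type*} [AddCommGroup V] [Module (ZMod p) V] [Finite V] [Nontrivial V] (G₀ : Subgroup (V ≃ₗ[ZMod p] V)) (G : Subgroup (Equiv.Perm V)) (hG : ∀ σ : Equiv.Perm V, σ ∈ G ↔ ∃ g ∈ G₀, ∃ b : V, ∀ x : V, σ x = (g : V ≃ₗ[ZMod p] V) x + b) : MulAction.IsPreprimitive G V ↔ ∀ W : Submodule (ZMod p) V, (∀ g ∈ G₀, ∀ v ∈ W, (g : V ≃ₗ[ZMod p] V) v ∈ W) → W = ⊥ ∨ W = ⊤ := by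
  classical
  let trans : V → G := fun b => ⟨Equiv.addRight b, (hG _).2 ⟨1, G₀.one_mem, b, fun x => rfl⟩⟩
  have htrans : ∀ b x : V, trans b • x = x + b := fun b x => rfl
  let lin : ∀ g : V ≃ₗ[ZMod p] V, g ∈ G₀ → G := fun g hg =>
    ⟨g.toEquiv, (hG _).2 ⟨g, hg, 0, fun x => (add_zero _).symm⟩⟩
  have : IsPretransitive G V := ⟨fun x y => ⟨trans (y - x), by rw [htrans]; abel⟩⟩
  constructor
  · intro hp W hW
    have hB : IsBlock G (W : Set V) := by
      rw [isBlock_iff_smul_eq_of_nonempty]
      rintro σ ⟨z, ⟨y, hy, rfl⟩, hz⟩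
      obtain ⟨g, hg, b, hσ⟩ := (hG σ.1).1 σ.2
      have hval : ∀ x, σ • x = g x + b := hσ
      simp only [hval] at hz
      have hb : b ∈ W := by simpa using W.sub_mem hz (hW g hg y hy)
      ext x
      rw [Set.mem_smul_set]
      simp only [hval, SetLike.mem_coe]
      constructor
      · rintro ⟨u, hu, rfl⟩
        exact W.add_mem (hW g hg u hu) hb
      · intro hx
        refine ⟨g.symm (x - b), ?_, by simp⟩
        let K := W.map g.toLinearMap
        have hKW : K ≤ W := by rintro _ ⟨u, hu, rfl⟩; exact hW g hg u hu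
        have hKeq : K = W := Submodule.eq_of_le_of_finrank_eq hKW
          (LinearEquiv.finrank_map_eq g W)
        obtain ⟨u, hu, hue⟩ := (hKeq.symm ▸ W.sub_mem hx hb : x - b ∈ K)
        rw [← hue]
        simpa using hu
    rcases hp.isTrivialBlock_of_isBlock hB with h | h
    · left
      rw [Submodule.eq_bot_iff]
      intro x hx
      exact h hx W.zero_mem
    · right
      exact Submodule.eq_top_iff'.2 fun x => (h ▸ Set.mem_univ x : x ∈ (W : Set V))
  · intro h
    refine IsPreprimitive.of_isTrivialBlock_base (0 : V) fun {B} h0 hB => ?_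
    have hadd : ∀ b ∈ B, ∀ x ∈ B, x + b ∈ B := by
      intro b hb x hx
      have := hB.smul_eq_of_nonempty (g := trans b)
        ⟨b, ⟨0, h0, (htrans b 0).trans (zero_add b)⟩, hb⟩
      rw [← this]
      exact ⟨x, hx, htrans b x⟩
    have hnsmul : ∀ (n : ℕ), ∀ b ∈ B, n • b ∈ B := by
      intro n b hb
      induction n with
      | zero => rwa [zero_smul]
      | succ n ih => rw [succ_nsmul]; exact hadd b hb _ ih
    let W : Submodule (ZMod p) V :=
      { carrier := B
        add_mem' := fun {x y} hx hy => hadd y hy x hx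
        zero_mem' := h0
        smul_mem' := fun c x hx => by
          rw [show c • x = c.val • x by rw [← Nat.cast_smul_eq_nsmul (ZMod p), ZMod.natCast_zmod_val]]
          exact hnsmul _ x hx }
    rcases h W (fun g hg v hv => by
      have := hB.smul_eq_of_nonempty (g := lin g hg) ⟨0, ⟨0, h0, map_zero g⟩, h0⟩
      change g v ∈ B
      rw [← this]
      exact ⟨v, hv, rfl⟩) with hb | ht
    · left
      intro x hx y hy
      have hx' : x ∈ W := hx
      have hy' : y ∈ W := hy
      rw [hb, Submodule.mem_bot] at hx' hy'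
      rw [hx', hy']
    · right
      exact Set.eq_univ_of_forall fun x => (ht ▸ Submodule.mem_top : x ∈ W)


end Cfsg.Agent.S0733
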