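import Cfsg.Statements.S0734
import Cfsg.Agent.Lib.PermBasic

set_option autoImplicit false
open Cfsg MulAction
open scoped Pointwise

namespace Cfsg.Agent.S0734

/-- Higman's criterion for primitivity: a transitive action on a finite set is primitive if and only if every non-trivial orbital graph (edges = images of a fixed pair of distinct points) is connected. -/
theorem result {G : Type*} [Group G] {Ω : Type*} [Finite Ω] [MulAction G Ω] [MulAction.IsPretransitive G Ω] [Nontrivial Ω] : MulAction.IsPreprimitive G Ω ↔ ∀ a b : Ω, a ≠ b → (SimpleGraph.fromRel fun x y : Ω => ∃ g : G, g • a = x ∧ g • b = y).Connected := by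
  classical
  constructor
  · intro hp a b hab
    set Γ := SimpleGraph.fromRel fun x y : Ω => ∃ g : G, g • a = x ∧ g • b = y with hΓ
    have hadj : ∀ (g : G) {x y : Ω}, Γ.Adj x y → Γ.Adj (g • x) (g • y) := by
      intro g x y h
      rw [hΓ, SimpleGraph.fromRel_adj] at h ⊢
      refine ⟨fun e => h.1 (MulAction.injective g e), h.2.imp ?_ ?_⟩ <;>
        exact fun ⟨k, h1, h2⟩ => ⟨g * k, by rw [mul_smul, h1], by rw [mul_smul, h2]⟩
    have hreach : ∀ (g : G) {x y : Ω}, Γ.Reachable x y → Γ.Reachable (g • x) (g • y) :=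
      fun g x y h => h.map (⟨fun z => g • z, hadj g⟩ : Γ →g Γ)
    let B : Set Ω := {y | Γ.Reachable a y}
    have hB : IsBlock G B := by
      rw [isBlock_iff_smul_eq_of_nonempty]
      rintro g ⟨z, ⟨y, hy, rfl⟩, hz⟩
      ext w
      rw [Set.mem_smul_set_iff_inv_smul_mem]
      constructor
      · intro hw
        have h1 := hreach g (hy.symm.trans hw)
        rw [smul_inv_smul] at h1
        exact hz.trans h1
      · intro hw
        have h1 := hreach g⁻¹ (hz.symm.trans hw)
        rw [inv_smul_smul] at h1
        exact hy.trans h1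
    have hbB : b ∈ B := SimpleGraph.Adj.reachable (by
      rw [hΓ, SimpleGraph.fromRel_adj]
      exact ⟨hab, Or.inl ⟨1, one_smul _ _, one_smul _ _⟩⟩)
    rcases hp.isTrivialBlock_of_isBlock hB with h | h
    · exact absurd (h (SimpleGraph.Reachable.refl a) hbB) hab
    · refine (SimpleGraph.connected_iff _).2 ⟨fun x y => ?_, inferInstance⟩
      exact SimpleGraph.Reachable.trans (SimpleGraph.Reachable.symm (h ▸ Set.mem_univ x : x ∈ B))
        (h ▸ Set.mem_univ y : y ∈ B)
  · intro h
    refine { isTrivialBlock_of_isBlock := fun {B} hB => ?_ }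
    refine B.subsingleton_or_nontrivial.imp id fun hnt => ?_
    obtain ⟨a, ha, b, hb, hab⟩ := hnt
    have hstep : ∀ x y : Ω, (SimpleGraph.fromRel fun x y : Ω => ∃ g : G, g • a = x ∧ g • b = y).Adj x y →
        x ∈ B → y ∈ B := by
      intro x y hxy hx
      rw [SimpleGraph.fromRel_adj] at hxy
      rcases hxy.2 with ⟨g, h1, h2⟩ | ⟨g, h1, h2⟩
      · have := hB.smul_eq_of_nonempty (g := g) ⟨x, ⟨a, ha, h1⟩, hx⟩
        rw [← this, ← h2]
        exact Set.smul_mem_smul_set hb
      · have := hB.smul_eq_of_nonempty (g := g) ⟨x, ⟨b, hb, h2⟩, hx⟩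
        rw [← this, ← h1]
        exact Set.smul_mem_smul_set ha
    refine Set.eq_univ_of_forall fun y => ?_
    have key : ∀ x y : Ω, Relation.ReflTransGen
        (SimpleGraph.fromRel fun x y : Ω => ∃ g : G, g • a = x ∧ g • b = y).Adj x y → x ∈ B → y ∈ B := by
      intro x y hxy hx
      induction hxy with
      | refl => exact hx
      | tail _ h2 ih => exact hstep _ _ h2 ih
    exact key a y ((SimpleGraph.reachable_iff_reflTransGen a y).1 ((h a b hab).preconnected a y)) ha


end Cfsg.Agent.S0734
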