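import Mathlib
import Cfsg.Statements.S0735

set_option autoImplicit false
open Cfsg

namespace Cfsg.Agent.S0735


/-- A 2-homogeneous permutation group (transitive on 2-subsets) of even order is doubly transitive; a non-trivial 2-homogeneous group is primitive. -/
theorem result {α : Type*} [Fintype α] [DecidableEq α] (G : Subgroup (Equiv.Perm α)) (h2 : MulAction.IsPretransitive G (Set.powersetCard α 2)) (hα : 3 ≤ Fintype.card α) : (Even (Nat.card G) → MulAction.IsMultiplyPretransitive G α 2) ∧ (G ≠ ⊥ → MulAction.IsPreprimitive G α) := by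
  have key : ∀ a b c d : α, a ≠ b → c ≠ d → ∃ g : G, (g • a = c ∧ g • b = d) ∨ (g • a = d ∧ g • b = c) := by
    intro a b c d hab hcd
    obtain ⟨g, hg⟩ := h2.exists_smul_eq
      (⟨{a, b}, Finset.card_pair hab⟩ : Set.powersetCard α 2) ⟨{c, d}, Finset.card_pair hcd⟩
    have hg' : ({g • a, g • b} : Finset α) = {c, d} := by
      have h0 : ({a, b} : Finset α).image (g • ·) = {c, d} := congrArg Subtype.val hg
      rwa [Finset.image_insert, Finset.image_singleton] at h0
    refine ⟨g, ?_⟩
    have h1 : g • a = c ∨ g • a = d := by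
      have : g • a ∈ ({c, d} : Finset α) := hg' ▸ by simp
      simpa using this
    have h2 : g • b = c ∨ g • b = d := by
      have : g • b ∈ ({c, d} : Finset α) := hg' ▸ by simp
      simpa using this
    have h3 : g • a ≠ g • b := fun h => hab (MulAction.injective g h)
    rcases h1 with h1 | h1 <;> rcases h2 with h2 | h2
    · exact absurd (h1.trans h2.symm) h3
    · exact Or.inl ⟨h1, h2⟩
    · exact Or.inr ⟨h1, h2⟩
    · exact absurd (h1.trans h2.symm) h3
  refine ⟨fun heven => ?_, fun _ => ?_⟩
  · haveI : Fact (Nat.Prime 2) := ⟨Nat.prime_two⟩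
    obtain ⟨t, ht⟩ := exists_prime_orderOf_dvd_card' (G := G) 2 (even_iff_two_dvd.mp heven)
    have ht2 : t * t = 1 := by rw [← pow_two, ← ht, pow_orderOf_eq_one]
    obtain ⟨u, hu⟩ : ∃ u : α, t • u ≠ u := by
      by_contra h
      push Not at h
      have : t = 1 := Subtype.ext (Equiv.ext h)
      rw [this, orderOf_one] at ht
      omega
    rw [MulAction.is_two_pretransitive_iff]
    have ord : ∀ c d : α, c ≠ d → ∃ g : G, g • u = c ∧ g • (t • u) = d := by
      intro c d hcd
      obtain ⟨g, h | h⟩ := key u (t • u) c d hu.symm hcd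
      · exact ⟨g, h⟩
      · refine ⟨g * t, ?_, ?_⟩
        · rw [mul_smul, h.2]
        · rw [mul_smul, ← mul_smul t t, ht2, one_smul, h.1]
    intro a b c d hab hcd
    obtain ⟨g, hga, hgb⟩ := ord a b hab
    obtain ⟨k, hkc, hkd⟩ := ord c d hcd
    exact ⟨k * g⁻¹, by rw [← hga, mul_smul, inv_smul_smul, hkc],
      by rw [← hgb, mul_smul, inv_smul_smul, hkd]⟩
  · have third : ∀ a b : α, ∃ c, c ≠ a ∧ c ≠ b := by
      intro a b
      by_contra h
      push Not at h
      have : (Finset.univ : Finset α) ⊆ {a, b} := by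
        intro c _
        by_cases hc : c = a
        · simp [hc]
        · simp [h c hc]
      have := Finset.card_le_card this
      have := Finset.card_le_two (a := a) (b := b)
      rw [Finset.card_univ] at *
      omega
    haveI : MulAction.IsPretransitive G α := by
      constructor
      intro a b
      rcases eq_or_ne a b with rfl | hab
      · exact ⟨1, one_smul _ _⟩
      obtain ⟨c, hca, hcb⟩ := third a b
      obtain ⟨g, h | h⟩ := key a c b c hca.symm hcb.symm
      · exact ⟨g, h.1⟩
      · -- `g` maps `a` to `c` and `c` to `b`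
        exact ⟨g * g, by rw [mul_smul, h.1, h.2]⟩
    refine ⟨fun {B} hB => ?_⟩
    classical
    by_contra hcon
    simp only [MulAction.IsTrivialBlock, not_or, Set.not_subsingleton_iff] at hcon
    obtain ⟨⟨a, ha, b, hb, hab⟩, hne⟩ := hcon
    obtain ⟨c, hc⟩ := (Set.ne_univ_iff_exists_notMem _).mp hne
    obtain ⟨g, h | h⟩ := key a b a c hab (fun e => hc (e ▸ ha))
    · have : (g • · ) '' B = B := hB.smul_eq_of_mem ha (by rw [h.1]; exact ha)
      exact hc (this ▸ ⟨b, hb, h.2⟩)
    · have : (g • · ) '' B = B := hB.smul_eq_of_mem hb (by rw [h.2]; exact ha)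
      exact hc (this ▸ ⟨a, ha, h.1⟩)

end Cfsg.Agent.S0735
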