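import Cfsg.Statements.S0736
import Mathlib

set_option autoImplicit false
open Cfsg MulAction
open scoped Pointwise

namespace Cfsg.Agent.S0736

/-- A binomial coefficient coprime to `p`. -/
theorem not_dvd_choose {p a k : ℕ} (hp : p.Prime) (hk : p ^ a ∣ k) :
    ∀ j : ℕ, j < p ^ a → ¬ p ∣ (k + j).choose j := by
  intro j
  induction j with
  | zero => intro _; simpa using hp.one_lt.ne'
  | succ j ih =>
    intro hj h
    obtain ⟨b, m, hm, hjm⟩ := Nat.exists_eq_pow_mul_and_not_dvd (n := j + 1) (by omega) p hp.ne_one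
    have hba : b < a := by
      by_contra hge
      have h1 : p ^ a ∣ j + 1 := hjm ▸ (pow_dvd_pow p (not_lt.1 hge)).mul_right m
      exact absurd (Nat.le_of_dvd (by omega) h1) (by omega)
    obtain ⟨e, he⟩ := hk
    have hkey : (k + (j + 1)).choose (j + 1) * (j + 1) = (k + (j + 1)) * (k + j).choose j := by
      rw [show k + (j + 1) = (k + j) + 1 by omega, Nat.add_one_mul_choose_eq]
    obtain ⟨d, hd⟩ := Nat.exists_eq_add_of_lt hba
    have hk2 : k + (j + 1) = p ^ b * (p ^ (d + 1) * e + m) := by
      rw [mul_add, ← hjm, ← mul_assoc, ← pow_add, ← add_assoc b d 1, ← hd, ← he]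
    have hkey' : m * (k + (j + 1)).choose (j + 1) = (p ^ (d + 1) * e + m) * (k + j).choose j := by
      apply Nat.eq_of_mul_eq_mul_left (pow_pos hp.pos b)
      rw [← mul_assoc, ← mul_assoc, ← hjm, ← hk2, mul_comm]
      exact hkey
    have h2 : p ∣ (p ^ (d + 1) * e + m) * (k + j).choose j := hkey' ▸ h.mul_left m
    rcases hp.dvd_mul.1 h2 with h3 | h3
    · exact hm ((Nat.dvd_add_right ((dvd_pow_self p (Nat.succ_ne_zero d)).mul_right e)).1 h3)
    · exact ih (by omega) h3

/-- A `k`-homogeneous permutation group of degree `n`, `k ≥ 2`, with `k + q - 1 ≤ n` for every prime power `q` dividing `k`, is `(k-1)`-homogeneous. -/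
theorem result {α : Type*} [Fintype α] [DecidableEq α] (G : Subgroup (Equiv.Perm α)) {k : ℕ} (hk : 2 ≤ k) (hG : MulAction.IsPretransitive G (Set.powersetCard α k)) (hq : ∀ q : ℕ, IsPrimePow q → q ∣ k → k + q - 1 ≤ Fintype.card α) : MulAction.IsPretransitive G (Set.powersetCard α (k - 1)) := by
  classical
  rw [MulAction.isPretransitive_iff]
  intro A₀ A₁
  let O : Finset α → Prop := fun A => ∃ g ∈ G, (A₀ : Finset α).map g.toEmbedding = A
  suffices h : ∀ A : Finset α, A.card = k - 1 → O A by
    obtain ⟨g, hg, hgA⟩ := h A₁ A₁.prop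
    refine ⟨⟨g, hg⟩, Subtype.ext ?_⟩
    change (⟨g, hg⟩ : G) • (A₀ : Finset α) = A₁
    rw [← hgA, Finset.map_eq_image]
    rfl
  have hO : ∀ g ∈ G, ∀ A, O A → O (A.map g.toEmbedding) := by
    rintro g hg A ⟨h, hh, rfl⟩
    refine ⟨g * h, G.mul_mem hg hh, ?_⟩
    rw [Finset.map_map]
    rfl
  let c : Finset α → ℕ := fun B => (B.filter fun x => O (B.erase x)).card
  -- the count does not depend on the set
  have hcle : ∀ g ∈ G, ∀ B : Finset α, c B ≤ c (B.map g.toEmbedding) := by
    intro g hg B
    have : (B.filter fun x => O (B.erase x)).map g.toEmbedding ⊆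
        (B.map g.toEmbedding).filter fun x => O ((B.map g.toEmbedding).erase x) := by
      intro y hy
      obtain ⟨x, hx, rfl⟩ := Finset.mem_map.1 hy
      rw [Finset.mem_filter] at hx ⊢
      refine ⟨Finset.mem_map_of_mem _ hx.1, ?_⟩
      rw [← Finset.map_erase]
      exact hO g hg _ hx.2
    simpa [c] using Finset.card_le_card this
  have hconst : ∀ B B' : Finset α, B.card = k → B'.card = k → c B = c B' := by
    intro B B' hB hB'
    obtain ⟨g, hg⟩ := exists_smul_eq G (⟨B, hB⟩ : Set.powersetCard α k) ⟨B', hB'⟩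
    have hgB : B.map (g : Equiv.Perm α).toEmbedding = B' := by
      have : g • B = B' := congrArg Subtype.val hg
      rw [← this, Finset.map_eq_image]
      rfl
    obtain ⟨g', hg'⟩ := exists_smul_eq G (⟨B', hB'⟩ : Set.powersetCard α k) ⟨B, hB⟩
    have hgB' : B'.map (g' : Equiv.Perm α).toEmbedding = B := by
      have : g' • B' = B := congrArg Subtype.val hg'
      rw [← this, Finset.map_eq_image]
      rfl
    exact le_antisymm (hgB ▸ hcle _ g.2 B) (hgB' ▸ hcle _ g'.2 B')
  have hkn : k ≤ Fintype.card α := by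
    obtain ⟨p, hp, hpk⟩ := Nat.exists_prime_and_dvd (n := k) (by omega)
    have := hq p hp.isPrimePow hpk
    have := hp.two_le
    omega
  obtain ⟨B₀, -, hB₀⟩ := Finset.exists_subset_card_eq (s := (Finset.univ : Finset α)) (n := k)
    (by rw [Finset.card_univ]; exact hkn)
  -- prime powers dividing `k` divide the count
  have hdvd : ∀ p a : ℕ, p.Prime → p ^ a ∣ k → p ^ a ∣ c B₀ := by
    intro p a hp hpa
    rcases Nat.eq_zero_or_pos a with rfl | ha
    · simp
    set q := p ^ a with hqdef
    have hqn := hq q ⟨p, a, hp.prime, ha, rfl⟩ hpa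
    have hq1 : 1 ≤ q := Nat.one_le_pow _ _ hp.pos
    obtain ⟨T, -, hT⟩ := Finset.exists_subset_card_eq (s := (Finset.univ : Finset α))
      (n := k + q - 1) (by rw [Finset.card_univ]; exact hqn)
    let P := (T.powersetCard k).sigma fun B => B.filter fun x => O (B.erase x)
    let Q := ((T.powersetCard (k - 1)).filter O).sigma fun A => T \ A
    have hP : P.card = (k + q - 1).choose k * c B₀ := by
      rw [Finset.card_sigma, Finset.sum_congr rfl (fun B hB => hconst B B₀
        (Finset.mem_powersetCard.1 hB).2 hB₀), Finset.sum_const, Finset.card_powersetCard, hT,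
        smul_eq_mul]
    have hQ : Q.card = ((T.powersetCard (k - 1)).filter O).card * q := by
      rw [Finset.card_sigma, Finset.sum_congr rfl (g := fun _ => q) (fun A hA => by
        rw [Finset.mem_filter, Finset.mem_powersetCard] at hA
        rw [Finset.card_sdiff_of_subset hA.1.1, hT, hA.1.2]
        omega), Finset.sum_const, smul_eq_mul]
    have hPQ : P.card = Q.card := by
      refine Finset.card_nbij' (fun z => ⟨z.1.erase z.2, z.2⟩) (fun z => ⟨insert z.2 z.1, z.2⟩)
        ?_ ?_ ?_ ?_
      · rintro ⟨B, x⟩ hz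
        simp only [P, Q, Finset.mem_coe, Finset.mem_sigma, Finset.mem_filter,
          Finset.mem_powersetCard, Finset.mem_sdiff] at hz ⊢
        obtain ⟨⟨hBT, hBk⟩, hxB, hOx⟩ := hz
        refine ⟨⟨⟨(Finset.erase_subset _ _).trans hBT, ?_⟩, hOx⟩, hBT hxB, ?_⟩
        · rw [Finset.card_erase_of_mem hxB, hBk]
        · exact Finset.notMem_erase _ _
      · rintro ⟨A, x⟩ hz
        simp only [P, Q, Finset.mem_coe, Finset.mem_sigma, Finset.mem_filter,
          Finset.mem_powersetCard, Finset.mem_sdiff] at hz ⊢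
        obtain ⟨⟨⟨hAT, hAk⟩, hA⟩, hxT, hxA⟩ := hz
        refine ⟨⟨Finset.insert_subset hxT hAT, ?_⟩, Finset.mem_insert_self _ _, ?_⟩
        · rw [Finset.card_insert_of_notMem hxA, hAk]; omega
        · rwa [Finset.erase_insert hxA]
      · rintro ⟨B, x⟩ hz
        simp only [P, Finset.mem_coe, Finset.mem_sigma, Finset.mem_filter] at hz
        simp [Finset.insert_erase hz.2.1]
      · rintro ⟨A, x⟩ hz
        simp only [Q, Finset.mem_coe, Finset.mem_sigma, Finset.mem_sdiff] at hz
        simp [Finset.erase_insert hz.2.2]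
    have h1 : q ∣ (k + q - 1).choose k * c B₀ := by
      rw [← hP, hPQ, hQ]; exact dvd_mul_left _ _
    have h2 : Nat.Coprime q ((k + q - 1).choose k) := by
      rw [hqdef, Nat.coprime_pow_left_iff ha, hp.coprime_iff_not_dvd]
      have := not_dvd_choose hp hpa (q - 1) (by omega)
      rwa [show k + q - 1 = k + (q - 1) by omega, Nat.choose_symm_add]
    exact h2.dvd_of_dvd_mul_left h1
  have hcpos : 0 < c B₀ := by
    obtain ⟨x, -, hx⟩ : ∃ x ∈ (Finset.univ : Finset α), x ∉ (A₀ : Finset α) := by
      by_contra hc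
      push Not at hc
      have := Finset.card_le_card (fun x _ => hc x (Finset.mem_univ x) :
        (Finset.univ : Finset α) ⊆ (A₀ : Finset α))
      rw [Finset.card_univ, show (A₀ : Finset α).card = k - 1 from A₀.prop] at this
      omega
    rw [← hconst (insert x (A₀ : Finset α)) B₀
      (by rw [Finset.card_insert_of_notMem hx, show (A₀ : Finset α).card = k - 1 from A₀.prop]; omega) hB₀]
    refine Finset.card_pos.2 ⟨x, Finset.mem_filter.2 ⟨Finset.mem_insert_self _ _, 1, G.one_mem, ?_⟩⟩
    rw [Finset.erase_insert hx, Finset.map_eq_image]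
    simp
  have hck : k ≤ c B₀ := Nat.le_of_dvd hcpos <| by
    rw [Nat.dvd_iff_prime_pow_dvd_dvd]
    exact fun p a hp h => hdvd p a hp h
  intro A hA
  obtain ⟨x, hx⟩ : ((Finset.univ : Finset α) \ A).Nonempty := by
    rw [← Finset.card_pos, Finset.card_sdiff_of_subset (Finset.subset_univ _), Finset.card_univ, hA]
    omega
  rw [Finset.mem_sdiff] at hx
  have hB : (insert x A).card = k := by rw [Finset.card_insert_of_notMem hx.2, hA]; omega
  have hall : (insert x A).filter (fun y => O ((insert x A).erase y)) = insert x A := by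
    refine Finset.eq_of_subset_of_card_le (Finset.filter_subset _ _) ?_
    rw [hB]
    exact hck.trans (hconst _ B₀ hB hB₀).ge
  have := Finset.mem_filter.1 (hall.symm ▸ Finset.mem_insert_self x A :
    x ∈ (insert x A).filter (fun y => O ((insert x A).erase y)))
  rw [Finset.erase_insert hx.2] at this
  exact this.2


end Cfsg.Agent.S0736
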