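import Cfsg.Statements.S0739
import Cfsg.Agent.Lib.FeitGroup
-- import your own Cfsg.Agent.* helpers here

set_option autoImplicit false
open Cfsg

namespace Cfsg.Agent.S0739

/-- In a finite Zassenhaus group whose two-point stabiliser `H = G_{a,b}` has odd order `d`, and which has no normal `q`-complement for any prime `q ∣ d`, `H` is cyclic, `C_G(H) = H`, and every element swapping `a` and `b` inverts each element of `H`. -/
theorem result {G Ω : Type*} [Group G] [Finite G] [MulAction G Ω] [Fintype Ω] (hZ : Cfsg.IsZassenhausGroup G Ω) {a b : Ω} (hab : a ≠ b) (hodd : Odd (Nat.card ↥(MulAction.stabilizer G a ⊓ MulAction.stabilizer G b))) (hnil : ∀ q : ℕ, q.Prime → q ∣ Nat.card ↥(MulAction.stabilizer G a ⊓ MulAction.stabilizer G b) → ¬ ∃ N : Subgroup G, N.Normal ∧ N.index = q ^ (Nat.card G).factorization q) : IsCyclic ↥(MulAction.stabilizer G a ⊓ MulAction.stabilizer G b) ∧ Subgroup.centralizer ((MulAction.stabilizer G a ⊓ MulAction.stabilizer G b : Subgroup G) : Set G) = MulAction.stabilizer G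 a ⊓ MulAction.stabilizer G b ∧ ∀ s : G, s • a = b → s • b = a → ∀ h ∈ MulAction.stabilizer G a ⊓ MulAction.stabilizer G b, s * h * s⁻¹ = h⁻¹ := by
  obtain ⟨K, hKa, hKn, hKt, hKf⟩ := (Zassenhaus.pre_of_isZassenhaus hZ).exists_kernel hab
  have hfix : ∀ u ∈ K, u ≠ 1 → ∀ c : Ω, u • c = c → c = a := fun u hu h1 c hc =>
    by_contra fun hca => h1 (hKf u hu c hca hc)
  have hcard : Nat.card K + 1 = Nat.card Ω := by
    classical
    have e : Nat.card K = Nat.card {y : Ω // y ≠ a} := by
      refine Nat.card_congr (Equiv.ofBijective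
        (fun u : K => (⟨(u : G) • b, fun h => hab (smul_left_cancel (u : G)
          ((hKa u.2).trans h.symm))⟩ : {y : Ω // y ≠ a})) ⟨?_, ?_⟩)
      · intro u v e
        have e' : (u : G) • b = (v : G) • b := congrArg Subtype.val e
        refine Subtype.ext (inv_mul_eq_one.1 (hKf _ (K.mul_mem (K.inv_mem u.2) v.2) b hab.symm ?_))
        rw [mul_smul, ← e', inv_smul_smul]
      · rintro ⟨y, hy⟩
        obtain ⟨u, hu, e⟩ := hKt b y hab.symm hy
        exact ⟨⟨u, hu⟩, Subtype.ext e⟩
    have := Feit.three_le_card hZ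
    rw [e]
    simp [Nat.card_eq_fintype_card] at this ⊢
    omega
  exact Feit.cyclic_inverted hZ hKa hcard hfix hab hodd hnil

end Cfsg.Agent.S0739
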