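import Cfsg.Statements.S0740
import Cfsg.Agent.Lib.Zassenhaus
-- import your own Cfsg.Agent.* helpers here

set_option autoImplicit false
open Cfsg

namespace Cfsg.Agent.S0740

/-- In a finite Zassenhaus group any two points `a ≠ b` are swapped by an involution; every such involution has exactly one fixed point when the degree is odd and 0 or 2 fixed points when the degree is even; and if the two-point stabiliser has even order, some such involution has exactly 2 fixed points. -/
theorem result {G Ω : Type*} [Group G] [Finite G] [MulAction G Ω] [Fintype Ω] (hZ : Cfsg.IsZassenhausGroup G Ω) {a b : Ω} (hab : a ≠ b) : (∃ s : G, orderOf s = 2 ∧ s • a = b ∧ s • b = a) ∧ (∀ s : G, orderOf s = 2 → s • a = b → s • b = a → (Odd (Fintype.card Ω) → Nat.card (MulAction.fixedBy Ω s) = 1) ∧ (Even (Fintype.card Ω) → Nat.card (MulAction.fixedBy Ω s) = 0 ∨ Nat.card (MulAction.fixedBy Ω s) = 2)) ∧ (Even (Fintype.card Ω) → Even (Nat.card ↥(MulAction.stabilizer G a ⊓ MulAction.stabilizer G b))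 → ∃ s : G, orderOf s = 2 ∧ s • a = b ∧ s • b = a ∧ Nat.card (MulAction.fixedBy Ω s) = 2) := by
  have hpair : ∀ {c d : Ω}, c ≠ d → ∀ t : G, t * t = 1 → t • c ≠ c →
      ∃ k : G, (k * t * k⁻¹) • a = b ∧ (k * t * k⁻¹) • b = a := by
    intro c d _ t ht htc
    obtain ⟨k, hk1, hk2⟩ := Zassenhaus.exists_smul_pair hZ htc.symm hab
    refine ⟨k, ?_, ?_⟩
    · rw [mul_smul, mul_smul, inv_smul_eq_iff.2 hk1.symm, hk2]
    · rw [mul_smul, mul_smul, inv_smul_eq_iff.2 hk2.symm]
      rw [show t • t • c = c by rw [← mul_smul, ht, one_smul]]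
      exact hk1
  have hord : ∀ s : G, s * s = 1 → s ≠ 1 → orderOf s = 2 := fun s hs hs1 =>
    orderOf_eq_prime (by rwa [pow_two]) hs1
  have hsq : ∀ s : G, orderOf s = 2 → s * s = 1 ∧ s ≠ 1 := by
    intro s hs
    refine ⟨?_, fun h => by simp [h] at hs⟩
    rw [← pow_two, ← hs, pow_orderOf_eq_one]
  refine ⟨?_, ?_, ?_⟩
  · obtain ⟨s, hs, hs1, hsa, hsb⟩ := Zassenhaus.exists_involution_swap hZ hab
    exact ⟨s, hord s hs hs1, hsa, hsb⟩
  · intro s hs _ _
    obtain ⟨hs2, hs1⟩ := hsq s hs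
    have h1 := Zassenhaus.card_fixedBy_le_two hZ hs1
    have h2 : Nat.card (MulAction.fixedBy Ω s) % 2 = Nat.card Ω % 2 :=
      Zassenhaus.card_fixedBy_modEq hs2
    rw [Nat.card_eq_fintype_card (α := Ω)] at h2
    constructor
    · intro h
      rw [Nat.odd_iff] at h
      omega
    · intro h
      rw [Nat.even_iff] at h
      omega
  · intro _ heven
    haveI : Fact (Nat.Prime 2) := ⟨Nat.prime_two⟩
    obtain ⟨⟨t, htm⟩, hto⟩ := exists_prime_orderOf_dvd_card' 2 heven.two_dvd
    rw [Subgroup.orderOf_mk] at hto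
    obtain ⟨ht2, ht1⟩ := hsq t hto
    have hfix2 : Nat.card (MulAction.fixedBy Ω t) = 2 := by
      refine le_antisymm (Zassenhaus.card_fixedBy_le_two hZ ht1) ?_
      have : ({a, b} : Set Ω) ⊆ MulAction.fixedBy Ω t := by
        rintro x (rfl | rfl)
        · exact htm.1
        · exact htm.2
      rw [Nat.card_coe_set_eq, ← Set.ncard_pair hab]
      exact Set.ncard_le_ncard this
    obtain ⟨c, hc⟩ : ∃ c : Ω, t • c ≠ c := by
      by_contra h
      push Not at h
      exact ht1 (Zassenhaus.eq_one_of_forall hZ h)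
    obtain ⟨k, hka, hkb⟩ := hpair hc.symm t ht2 hc
    refine ⟨k * t * k⁻¹, ?_, hka, hkb, ?_⟩
    · rw [← hto]
      exact orderOf_injective (MulAut.conj k).toMonoidHom (MulAut.conj k).injective t
    · rw [← hfix2]
      refine (Nat.card_congr ((MulAction.toPerm k).subtypeEquiv fun x => ?_)).symm
      show t • x = x ↔ (k * t * k⁻¹) • (k • x) = k • x
      rw [← mul_smul, inv_mul_cancel_right, mul_smul, smul_left_cancel_iff]

end Cfsg.Agent.S0740
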