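import Cfsg.Statements.S0743
import Mathlib

set_option autoImplicit false
open Cfsg

namespace Cfsg.Agent.S0743

open MulAction in
theorem gleason_transitive {G : Type*} [Group G] {α : Type*} [MulAction G α] [Fintype α]
    [DecidableEq α] {p k : ℕ} (hp : p.Prime) (hk : 1 ≤ k) (hkn : k < Fintype.card α)
    (h : ∀ s : Finset α, s.card = k → ∃ P : Subgroup G, IsPGroup p P ∧
      fixedPoints P α = (s : Set α)) : IsPretransitive G α := by
  classical
  have := Fact.mk hp
  refine ⟨fun a b => ?_⟩
  by_contra hab
  push Not at hab
  let O : Finset α := (orbit G a).toFinset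
  have hb : b ∉ O := by
    simp only [O, Set.mem_toFinset, mem_orbit_iff]
    exact fun ⟨g, hg⟩ => hab g hg
  have ha : a ∈ O := by simp [O]
  have key : ∀ s : Finset α, s.card = k → O.card ≡ (O ∩ s).card [MOD p] := by
    intro s hs
    obtain ⟨P, hP, hfix⟩ := h s hs
    have e := hP.card_modEq_card_fixedPoints (orbit G a)
    have e1 : Nat.card (orbit G a) = O.card := by
      simp [O, Nat.card_eq_fintype_card, Set.toFinset_card]
    have e2 : Nat.card (fixedPoints P (orbit G a)) = (O ∩ s).card := by
      rw [← Nat.card_eq_finsetCard]
      refine Nat.card_congr ⟨fun x => ⟨x.1.1, ?_⟩, fun x => ⟨⟨x.1, ?_⟩, ?_⟩, ?_, ?_⟩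
      · have h2 : x.1.1 ∈ fixedPoints P α := fun g => congrArg Subtype.val (x.2 g)
        rw [hfix] at h2
        have h3 : x.1.1 ∈ O := by simp [O]
        simp [h3, Finset.mem_coe.mp h2]
      · have := (Finset.mem_inter.mp x.2).1
        simpa [O] using this
      · intro g
        have h2 : x.1 ∈ fixedPoints P α := by
          rw [hfix]; exact (Finset.mem_inter.mp x.2).2
        exact Subtype.ext (h2 g)
      · intro x; rfl
      · intro x; rfl
    rwa [e1, e2] at e
  obtain ⟨t, ht, htcard⟩ := Finset.exists_subset_card_eq (s := (Finset.univ.erase a).erase b)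
    (n := k - 1) (by
      rw [Finset.card_erase_of_mem (by
        simp only [Finset.mem_erase, Finset.mem_univ, and_true]
        rintro rfl; exact hb ha), Finset.card_erase_of_mem (Finset.mem_univ a), Finset.card_univ]
      omega)
  have hat : a ∉ t := fun h' => by simpa using ht h'
  have hbt : b ∉ t := fun h' => by simpa using ht h'
  have h1 := key (insert a t) (by rw [Finset.card_insert_of_notMem hat]; omega)
  have h2 := key (insert b t) (by rw [Finset.card_insert_of_notMem hbt]; omega)
  rw [Finset.inter_insert_of_mem ha, Finset.card_insert_of_notMem (by simp [hat])] at h1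
  rw [Finset.inter_insert_of_notMem hb] at h2
  have h3 : (O ∩ t).card + 1 ≡ (O ∩ t).card + 0 [MOD p] := by
    simpa using h1.symm.trans h2
  have h4 := Nat.ModEq.add_left_cancel' _ h3
  exact hp.one_lt.ne' (Nat.dvd_one.mp ((Nat.modEq_zero_iff_dvd).mp h4))

open MulAction in
theorem gleason_general.{u, v} : ∀ (k : ℕ) {G : Type u} [Group G] {α : Type v} [MulAction G α]
    [Fintype α] [DecidableEq α] {p : ℕ}, p.Prime → 1 ≤ k → k < Fintype.card α →
    (∀ s : Finset α, s.card = k → ∃ P : Subgroup G, IsPGroup p P ∧
      fixedPoints P α = (s : Set α)) → IsMultiplyPretransitive G α k := by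
  intro k
  induction k with
  | zero => intros; omega
  | succ k ih =>
    intro G _ α _ _ _ p hp hk hkn h
    have htr : IsPretransitive G α := gleason_transitive hp hk hkn h
    rcases Nat.eq_zero_or_pos k with rfl | hk'
    · exact is_one_pretransitive_iff.mpr htr
    · have : Nonempty α := Fintype.card_pos_iff.mp (by omega)
      obtain ⟨a⟩ := this
      classical
      rw [SubMulAction.ofStabilizer.isMultiplyPretransitive (a := a)]
      refine ih (p := p) hp hk' ?_ ?_
      · have := SubMulAction.nat_card_ofStabilizer_add_one_eq (G := G) a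
        rw [Nat.card_eq_fintype_card, Nat.card_eq_fintype_card] at this
        omega
      · intro s hs
        obtain ⟨P, hP, hfix⟩ := h (insert a (s.map ⟨Subtype.val, Subtype.val_injective⟩)) (by
          rw [Finset.card_insert_of_notMem, Finset.card_map, hs]
          simp only [Finset.mem_map, Function.Embedding.coeFn_mk, not_exists, not_and]
          exact fun x _ hx => x.2 hx)
        have hPa : P ≤ stabilizer G a := by
          intro g hg
          have ha : a ∈ fixedPoints P α := by rw [hfix]; simp
          exact ha ⟨g, hg⟩
        refine ⟨P.subgroupOf (stabilizer G a),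
          hP.of_equiv (Subgroup.subgroupOfEquivOfLe hPa).symm, ?_⟩
        ext x
        constructor
        · intro hx
          have hx' : (x : α) ∈ fixedPoints P α := fun g =>
            congrArg Subtype.val (hx ⟨⟨g.1, hPa g.2⟩, g.2⟩)
          rw [hfix] at hx'
          have hxa : (x : α) ≠ a := x.2
          simpa [hxa] using hx'
        · intro hx g
          have hx' : (x : α) ∈ fixedPoints P α := by
            rw [hfix]; simp [Finset.mem_coe.mp hx]
          exact Subtype.ext (hx' ⟨g.1.1, g.2⟩)

/-- Gleason's Lemma: let `p` be a prime and `1 ≤ k < n`; if every `k`-subset of the `n` points is exactly the fixed-point set of some `p`-subgroup of `G`, then `G` is `k`-transitive. -/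
theorem result {α : Type*} [Fintype α] [DecidableEq α] (G : Subgroup (Equiv.Perm α)) {p k : ℕ} (hp : p.Prime) (hk : 1 ≤ k) (hkn : k < Fintype.card α) (h : ∀ s : Finset α, s.card = k → ∃ P : Subgroup G, IsPGroup p P ∧ MulAction.fixedPoints P α = (s : Set α)) : MulAction.IsMultiplyPretransitive G α k := by
  classical
  exact gleason_general k hp hk hkn h

end Cfsg.Agent.S0743
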