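import Cfsg.Statements.S0744
import Mathlib
import Cfsg.Agent.S0743

set_option autoImplicit false
open Cfsg

namespace Cfsg.Agent.S0744

/-- If for some `k > 1` the pointwise stabilisers of all `(k-1)`-subsets have the same order `> 1` and those of all `k`-subsets have the same order, then the group is `(k-1)`-transitive. -/
theorem result {α : Type*} [Fintype α] [DecidableEq α] (G : Subgroup (Equiv.Perm α)) {k : ℕ} (hk : 1 < k) (hkn : k ≤ Fintype.card α) (l m : ℕ) (hl : 1 < l) (hkm1 : ∀ s : Finset α, s.card = k - 1 → Nat.card (fixingSubgroup G (s : Set α)) = l) (hkm : ∀ s : Finset α, s.card = k → Nat.card (fixingSubgroup G (s : Set α)) = m) : MulAction.IsMultiplyPretransitive G α (k - 1) := by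
  classical
  by_cases hp : ∀ p : ℕ, p.Prime → ¬ p * m ∣ l
  · -- then all orbits outside a (k-1)-set are trivial
    exfalso
    obtain ⟨s, -, hs⟩ := Finset.exists_subset_card_eq (s := (Finset.univ : Finset α)) (n := k - 1)
      (by rw [Finset.card_univ]; omega)
    have htriv : ∀ x : α, ∀ h : fixingSubgroup G (s : Set α), h • x = x := by
      intro x h
      by_cases hx : x ∈ s
      · exact (mem_fixingSubgroup_iff (M := G)).mp h.2 x hx
      have horb : Nat.card (MulAction.orbit (fixingSubgroup G (s : Set α)) x) = 1 := by
        by_contra hne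
        obtain ⟨q, hq, hqd⟩ := Nat.exists_prime_and_dvd hne
        apply hp q hq
        have e := Nat.card_congr
          (MulAction.orbitProdStabilizerEquivGroup (fixingSubgroup G (s : Set α)) x)
        rw [Nat.card_prod, hkm1 s hs] at e
        have e2 : Nat.card (MulAction.stabilizer (fixingSubgroup G (s : Set α)) x) = m := by
          rw [← hkm (insert x s) (by rw [Finset.card_insert_of_notMem hx]; omega)]
          refine Nat.card_congr ⟨fun g => ⟨g.1.1, ?_⟩, fun g => ⟨⟨g.1, ?_⟩, ?_⟩, ?_, ?_⟩
          · rw [mem_fixingSubgroup_iff]
            intro y hy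
            rw [Finset.coe_insert, Set.mem_insert_iff] at hy
            rcases hy with rfl | hy
            · exact g.2
            · exact (mem_fixingSubgroup_iff (M := G)).mp g.1.2 y hy
          · rw [mem_fixingSubgroup_iff]
            exact fun y hy => (mem_fixingSubgroup_iff (M := G)).mp g.2 y (by simp [Finset.mem_coe.mp hy])
          · exact (mem_fixingSubgroup_iff (M := G)).mp g.2 x (by simp)
          · intro g; rfl
          · intro g; rfl
        rw [e2] at e
        rw [← e]
        exact Nat.mul_dvd_mul_right hqd m
      have hsub : (MulAction.orbit (fixingSubgroup G (s : Set α)) x).Subsingleton := by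
        rw [← Set.subsingleton_coe]
        exact (Nat.card_eq_one_iff_unique.mp horb).1
      exact hsub (MulAction.mem_orbit x h) (MulAction.mem_orbit_self x)
    have : Subsingleton (fixingSubgroup G (s : Set α)) := ⟨fun a b =>
      Subtype.ext (Subtype.ext (Equiv.ext fun x => (htriv x a).trans (htriv x b).symm))⟩
    have h1 := hkm1 s hs
    rw [Nat.card_of_subsingleton 1] at h1
    omega
  · push Not at hp
    obtain ⟨p, hp, hdvd⟩ := hp
    have := Fact.mk hp
    refine Cfsg.Agent.S0743.result G hp (by omega) (by omega) fun s hs => ?_
    obtain ⟨P⟩ : Nonempty (Sylow p (fixingSubgroup G (s : Set α))) := inferInstance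
    refine ⟨(P : Subgroup (fixingSubgroup G (s : Set α))).map (fixingSubgroup G (s : Set α)).subtype,
      P.isPGroup'.map _, ?_⟩
    ext x
    constructor
    · intro hx
      by_contra hxs
      have hle : (P : Subgroup (fixingSubgroup G (s : Set α))) ≤
          MulAction.stabilizer (fixingSubgroup G (s : Set α)) x := fun g hg =>
        hx ⟨g.1, Subgroup.mem_map_of_mem _ hg⟩
      have hi := Subgroup.index_dvd_of_le hle
      have e := Subgroup.card_mul_index (MulAction.stabilizer (fixingSubgroup G (s : Set α)) x)
      have e2 : Nat.card (MulAction.stabilizer (fixingSubgroup G (s : Set α)) x) = m := by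
        rw [← hkm (insert x s) (by rw [Finset.card_insert_of_notMem hxs]; omega)]
        refine Nat.card_congr ⟨fun g => ⟨g.1.1, ?_⟩, fun g => ⟨⟨g.1, ?_⟩, ?_⟩, ?_, ?_⟩
        · rw [mem_fixingSubgroup_iff]
          intro y hy
          rw [Finset.coe_insert, Set.mem_insert_iff] at hy
          rcases hy with rfl | hy
          · exact g.2
          · exact (mem_fixingSubgroup_iff (M := G)).mp g.1.2 y hy
        · rw [mem_fixingSubgroup_iff]
          exact fun y hy => (mem_fixingSubgroup_iff (M := G)).mp g.2 y (by simp [Finset.mem_coe.mp hy])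
        · exact (mem_fixingSubgroup_iff (M := G)).mp g.2 x (by simp)
        · intro g; rfl
        · intro g; rfl
      rw [e2, hkm1 s hs] at e
      have hm : 0 < m := Nat.pos_of_ne_zero fun h0 => by rw [h0] at e; simp at e; omega
      have : p ∣ (MulAction.stabilizer (fixingSubgroup G (s : Set α)) x).index := by
        rw [← e, mul_comm p m] at hdvd
        exact Nat.dvd_of_mul_dvd_mul_left hm hdvd
      exact P.not_dvd_index (this.trans hi)
    · intro hx g
      obtain ⟨g', -, hg'⟩ := Subgroup.mem_map.mp g.2
      have h1 := (mem_fixingSubgroup_iff (M := G)).mp g'.2 x hx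
      calc g • x = (g : G) • x := rfl
        _ = x := by rw [← hg']; exact h1

end Cfsg.Agent.S0744
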