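import Cfsg.Statements.S0745
import Cfsg.Agent.Lib.LWStep59
import Cfsg.Agent.S0744
import Cfsg.Agent.S0710

set_option autoImplicit false
open Cfsg

namespace Cfsg.Agent.S0745


open MulAction Cfsg.Agent.LWStep59 Cfsg.Agent.KTransAlt59
open scoped Pointwise

variable {α : Type*} [Fintype α] [DecidableEq α]

/-- no such group of degree 9 and order 1008 -/
lemma not_order_1008 (G : Subgroup (Equiv.Perm α)) (hn : Fintype.card α = 9)
    (hh : IsPretransitive G (Set.powersetCard α 2)) (h3 : IsMultiplyPretransitive G α 3)
    (hB : ∀ (g : G) (e : Fin 4 ↪ α), g • e = e → g = 1) (hcard : Nat.card G = 1008) : False := by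
  classical
  haveI : Fact (Nat.Prime 7) := ⟨by norm_num⟩
  obtain ⟨a, b, hab⟩ := Fintype.exists_pair_of_one_lt_card (α := α) (by omega)
  let A : Set.powersetCard α 2 := ⟨{a, b}, by simp [Set.powersetCard.mem_iff, hab]⟩
  set N := stabilizer G A with hN
  have hidx : N.index = 36 := by
    have huniv : orbit G A = Set.univ := Set.eq_univ_of_forall fun f => hh.exists_smul_eq A f
    refine (MulAction.index_stabilizer (G := G) A).trans ((congrArg Set.ncard huniv).trans ?_)
    rw [Set.ncard_univ, Set.powersetCard.card, Nat.card_eq_fintype_card, hn]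
    decide
  have hNcard : Nat.card N = 28 := by
    have := Subgroup.card_mul_index N
    rw [hidx, hcard] at this
    omega
  let C : Set α := {a, b}ᶜ
  have hinvar : ∀ g : N, ∀ x ∈ C, ((g : G) : Equiv.Perm α) x ∈ C := by
    intro g x hx hgx
    have hg : (g : G) • ({a, b} : Finset α) = {a, b} := congrArg Subtype.val g.2
    apply hx
    have h1 : ((g : G) : Equiv.Perm α) x ∈ (g : G) • ({a, b} : Finset α) := by
      rw [hg]
      simpa using hgx
    obtain ⟨y, hy, hyx⟩ := Finset.mem_smul_finset.mp h1
    have : y = x := ((g : G) : Equiv.Perm α).injective hyx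
    subst this
    simpa using hy
  let ψ : N →* Equiv.Perm C :=
    { toFun := fun g =>
        { toFun := fun x => ⟨((g : G) : Equiv.Perm α) x, hinvar g x x.2⟩
          invFun := fun x => ⟨(((g⁻¹ : N) : G) : Equiv.Perm α) x, hinvar g⁻¹ x x.2⟩
          left_inv := fun x => Subtype.ext (by simp)
          right_inv := fun x => Subtype.ext (by simp) }
      map_one' := Equiv.ext fun x => Subtype.ext rfl
      map_mul' := fun g h => Equiv.ext fun x => Subtype.ext rfl }
  have hC : Nat.card C = 7 := by
    have h := Set.ncard_compl ({a, b} : Set α)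
    rw [Set.ncard_pair hab, Nat.card_eq_fintype_card, hn] at h
    exact (Nat.card_coe_set_eq _).trans h
  have hinj : Function.Injective ψ := by
    rw [← MonoidHom.ker_eq_bot_iff, Subgroup.eq_bot_iff_forall]
    intro g hg
    obtain ⟨f⟩ : Nonempty (Fin 4 ↪ C) :=
      Function.Embedding.nonempty_of_card_le (by
        rw [Fintype.card_fin, ← Nat.card_eq_fintype_card, hC]; norm_num)
    refine Subtype.ext (hB g (f.trans (Function.Embedding.subtype _))
      (Function.Embedding.ext fun i => ?_))
    exact congrArg Subtype.val (DFunLike.congr_fun (MonoidHom.mem_ker.mp hg) (f i))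
  haveI : IsPretransitive ψ.range C := ⟨fun x y => by
    have hxa : a ≠ (x : α) := fun h => x.2 (by simp [← h])
    have hxb : b ≠ (x : α) := fun h => x.2 (by simp [← h])
    have hya : a ≠ (y : α) := fun h => y.2 (by simp [← h])
    have hyb : b ≠ (y : α) := fun h => y.2 (by simp [← h])
    let e1 : Fin 3 ↪ α := ⟨![a, b, x], by
      intro i j hij
      fin_cases i <;> fin_cases j <;> simp_all [eq_comm]⟩
    let e2 : Fin 3 ↪ α := ⟨![a, b, y], by
      intro i j hij
      fin_cases i <;> fin_cases j <;> simp_all [eq_comm]⟩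
    obtain ⟨g, hg⟩ := h3.exists_smul_eq e1 e2
    have ha : g • a = a := DFunLike.congr_fun hg 0
    have hb : g • b = b := DFunLike.congr_fun hg 1
    have hx : g • (x : α) = y := DFunLike.congr_fun hg 2
    have hgN : g ∈ N := Subtype.ext (by
      show g • ({a, b} : Finset α) = {a, b}
      rw [Finset.smul_finset_insert, Finset.smul_finset_singleton, ha, hb])
    exact ⟨⟨ψ ⟨g, hgN⟩, ⟨g, hgN⟩, rfl⟩, Subtype.ext hx⟩⟩
  have hR : Nat.card ψ.range = 28 := by
    rw [← Nat.card_congr (MonoidHom.ofInjective hinj).toEquiv, hNcard]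
  obtain ⟨P⟩ : Nonempty (Sylow 7 ψ.range) := inferInstance
  have h1 := Cfsg.Agent.PrimeDegreeCoord.card_normalizer_dvd hC ψ.range P
  have h2 : 7 ∣ Nat.card (Subgroup.normalizer ((P : Subgroup ψ.range) : Set ψ.range)) :=
    (dvd_of_eq (Eq.symm (Cfsg.Agent.PrimeDegreeCoord.card_sylow hC ψ.range P))).trans
      (Subgroup.card_dvd_of_le Subgroup.le_normalizer)
  have h4 := Subgroup.card_mul_index (Subgroup.normalizer ((P : Subgroup ψ.range) : Set ψ.range))
  have h5 : (Subgroup.normalizer ((P : Subgroup ψ.range) : Set ψ.range)).index % 7 = 1 := by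
    have e := P.card_eq_index_normalizer
    exact (congrArg (· % 7) e.symm).trans (card_sylow_modEq_one 7 ψ.range)
  rw [hR] at h4
  obtain ⟨d, hd⟩ := h2
  rw [hd] at h1 h4
  have hd' : d ∣ 6 := (Nat.mul_dvd_mul_iff_left (by norm_num : 0 < 7)).mp h1
  have hd6 : d ≤ 6 := Nat.le_of_dvd (by norm_num) hd'
  interval_cases d <;> omega

/-- the exceptions -/
theorem lw_exceptions (G : Subgroup (Equiv.Perm α)) (m : ℕ) (hm : 1 ≤ m)
    (hn : m + 3 ≤ Fintype.card α) (hn2 : Fintype.card α ≤ 2 * m + 3)
    (ht : IsMultiplyPretransitive G α m) (hnt' : ¬ IsMultiplyPretransitive G α (m + 1))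
    (hh1 : IsPretransitive G (Set.powersetCard α (m + 1)))
    (hh2 : IsPretransitive G (Set.powersetCard α (m + 2)))
    (hpair : 2 ≤ m → IsPretransitive G (Set.powersetCard α 2))
    (hB : ∀ (g : G) (e : Fin (m + 1) ↪ α), g • e = e → g = 1) :
    (Fintype.card α = 5 ∧ m = 2 ∧ Nat.card G = 20) ∨
    (Fintype.card α = 6 ∧ m = 3 ∧ Nat.card G = 120) ∨
    (Fintype.card α = 9 ∧ m = 3 ∧ (Nat.card G = 504 ∨ Nat.card G = 1512)) := by
  classical
  set n := Fintype.card α with hndef
  have hnt := hnt'
  -- a tuple whose group is proper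
  obtain ⟨e, hXtop⟩ : ∃ e : Fin (m + 1) ↪ α, tupleGroup G e ≠ ⊤ := by
    by_contra hc
    push Not at hc
    apply hnt
    refine ⟨fun e f => ?_⟩
    obtain ⟨g, hg, π, hπ⟩ := exists_map_eq hh1 e f
    have hmem : π⁻¹ ∈ tupleGroup G f := by rw [hc f]; trivial
    obtain ⟨h, hh, hhπ⟩ := hmem
    refine ⟨⟨h * g, G.mul_mem hh hg⟩, ?_⟩
    ext i
    show h (g (e i)) = f i
    rw [hπ, hhπ]
    simp
  set X := tupleGroup G e with hX
  set x := Nat.card X with hxdef
  set r := X.index with hrdef
  have hxpos : 0 < x := Nat.card_pos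
  have hxr : x * r = (m + 1).factorial := by
    rw [hxdef, hrdef, Subgroup.card_mul_index, Nat.card_perm, Nat.card_fin]
  have hr1 : r ≠ 1 := fun h => hXtop (Subgroup.index_eq_one.mp h)
  -- the order of G
  obtain ⟨u⟩ : Nonempty (Fin m ↪ α) :=
    Function.Embedding.nonempty_of_card_le (by rw [Fintype.card_fin]; omega)
  set l := Nat.card (stabilizer G u) with hldef
  have hlpos : 0 < l := Nat.card_pos
  have hD : Nat.card (Fin m ↪ α) = n.descFactorial m := by
    rw [Nat.card_eq_fintype_card, Fintype.card_embedding_eq, Fintype.card_fin]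
  have hcard : Nat.card G = n.descFactorial m * l := by
    have huniv : orbit G u = Set.univ := Set.eq_univ_of_forall fun f => ht.exists_smul_eq u f
    have hidx : (stabilizer G u).index = Nat.card (Fin m ↪ α) :=
      (MulAction.index_stabilizer (G := G) u).trans ((congrArg Set.ncard huniv).trans
        (Set.ncard_univ _))
    rw [← hD, ← hidx, mul_comm]
    exact (Subgroup.card_mul_index _).symm
  have hcardX : Nat.card G = n.choose (m + 1) * x := by
    let A : Set.powersetCard α (m + 1) := ⟨Finset.univ.map e, by simp [Set.powersetCard.mem_iff]⟩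
    have huniv : orbit G A = Set.univ := Set.eq_univ_of_forall fun f => hh1.exists_smul_eq A f
    have hidx : (stabilizer G A).index = n.choose (m + 1) := by
      refine (MulAction.index_stabilizer (G := G) A).trans ((congrArg Set.ncard huniv).trans ?_)
      rw [Set.ncard_univ, Set.powersetCard.card, Nat.card_eq_fintype_card]
    have hstab : Nat.card (stabilizer G A) = x := by
      have hmem : ∀ g : stabilizer G A, ∀ i, ∃ j, ((g : G) : Equiv.Perm α) (e i) = e j := by
        intro g i
        have hg : (g : G) • (Finset.univ.map e) = Finset.univ.map e := congrArg Subtype.val g.2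
        have : (g : G) • (e i) ∈ Finset.univ.map e := by
          exact hg.subset (Finset.smul_mem_smul_finset (by simp))
        obtain ⟨j, -, hj⟩ := Finset.mem_map.mp this
        exact ⟨j, hj.symm⟩
      choose π hπ using hmem
      have hinj : ∀ g, Function.Injective (π g) := fun g i j h =>
        e.injective (((g : G) : Equiv.Perm α).injective (by rw [hπ, hπ, h]))
      let F : stabilizer G A → X := fun g =>
        ⟨Equiv.ofBijective (π g) (Finite.injective_iff_bijective.mp (hinj g)),
          ((g : G) : Equiv.Perm α), (g : G).2, hπ g⟩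
      refine Nat.card_eq_of_bijective F ⟨fun g g' h => ?_, fun σ => ?_⟩
      · have h' : ∀ i, π g i = π g' i := fun i =>
          DFunLike.congr_fun (congrArg Subtype.val h) i
        have hfix : (g' : G)⁻¹ * (g : G) = 1 := hB _ e (Function.Embedding.ext fun i => by
          show ((g' : G) : Equiv.Perm α)⁻¹ (((g : G) : Equiv.Perm α) (e i)) = e i
          rw [Equiv.Perm.inv_eq_iff_eq, hπ, hπ, h'])
        exact Subtype.ext (inv_mul_eq_one.mp hfix).symm
      · obtain ⟨g, hg, hgσ⟩ := σ.2
        have hgA : (⟨g, hg⟩ : G) ∈ stabilizer G A := by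
          refine Subtype.ext (Finset.eq_of_subset_of_card_le ?_ ?_)
          · intro y hy
            obtain ⟨z, hz, rfl⟩ := Finset.mem_smul_finset.mp hy
            obtain ⟨i, -, rfl⟩ := Finset.mem_map.mp hz
            exact Finset.mem_map.mpr ⟨_, Finset.mem_univ _, (hgσ i).symm⟩
          · exact (Finset.card_smul_finset (⟨g, hg⟩ : G) (Finset.univ.map e)).ge
        refine ⟨⟨⟨g, hg⟩, hgA⟩, Subtype.ext (Equiv.ext fun i => e.injective ?_)⟩
        exact (hπ ⟨⟨g, hg⟩, hgA⟩ i).symm.trans (hgσ i)
    rw [← hidx, ← hstab, mul_comm]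
    exact (Subgroup.card_mul_index _).symm
  have hDpos : 0 < n.descFactorial m := Nat.descFactorial_pos.mpr (by omega)
  -- n - m = r * l
  have hrl : r * l = n - m := by
    have h1 : (m + 1).factorial * n.choose (m + 1) = n.descFactorial m * (n - m) := by
      rw [← Nat.descFactorial_eq_factorial_mul_choose, Nat.descFactorial_succ, mul_comm]
    have h2 : n.descFactorial m * (x * (r * l)) = n.descFactorial m * (x * (n - m)) := by
      calc n.descFactorial m * (x * (r * l)) = (x * r) * (n.descFactorial m * l) := by ring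
        _ = (m + 1).factorial * (n.choose (m + 1) * x) := by rw [hxr, ← hcard, hcardX]
        _ = ((m + 1).factorial * n.choose (m + 1)) * x := by ring
        _ = n.descFactorial m * (x * (n - m)) := by rw [h1]; ring
    exact Nat.eq_of_mul_eq_mul_left Nat.card_pos (Nat.eq_of_mul_eq_mul_left hDpos h2)
  -- (n - m - 1) divides (m + 2) * x
  have hdvd : n - (m + 1) ∣ (m + 2) * x := by
    obtain ⟨B⟩ : Nonempty (Fin (m + 2) ↪ α) :=
      Function.Embedding.nonempty_of_card_le (by rw [Fintype.card_fin]; omega)
    let A : Set.powersetCard α (m + 2) := ⟨Finset.univ.map B, by simp [Set.powersetCard.mem_iff]⟩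
    have huniv : orbit G A = Set.univ := Set.eq_univ_of_forall fun f => hh2.exists_smul_eq A f
    have hidx : (stabilizer G A).index = n.choose (m + 2) := by
      refine (MulAction.index_stabilizer (G := G) A).trans ((congrArg Set.ncard huniv).trans ?_)
      rw [Set.ncard_univ, Set.powersetCard.card, Nat.card_eq_fintype_card]
    obtain ⟨q, hq⟩ : n.choose (m + 2) ∣ Nat.card G := hidx ▸ Subgroup.index_dvd_card _
    have hrec : n.choose (m + 2) * (m + 2) = n.choose (m + 1) * (n - (m + 1)) :=
      Nat.choose_succ_right_eq n (m + 1)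
    refine ⟨q, ?_⟩
    have hpos : 0 < n.choose (m + 1) := Nat.choose_pos (by omega)
    refine Nat.eq_of_mul_eq_mul_left hpos ?_
    calc n.choose (m + 1) * ((m + 2) * x) = (m + 2) * (n.choose (m + 1) * x) := by ring
      _ = n.choose (m + 1) * ((n - (m + 1)) * q) := by
        rw [← hcardX, hq, ← mul_assoc (n.choose (m + 1)), ← hrec]; ring
  -- elements of the tuple stabiliser
  have hfixK : ∀ g ∈ stabilizer G u, ∀ i, (g : Equiv.Perm α) (u i) = u i :=
    fun g hg i => DFunLike.congr_fun (MulAction.mem_stabilizer_iff.mp hg) i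
  have hmany : ∀ g : G, g ≠ 1 → (fixF (β := α) g).card ≤ m := by
    intro g hg
    by_contra hcon
    obtain ⟨f⟩ : Nonempty (Fin (m + 1) ↪ {y : α // y ∈ fixF g}) :=
      Function.Embedding.nonempty_of_card_le (by rw [Fintype.card_fin, Fintype.card_coe]; omega)
    refine hg (hB g (f.trans (Function.Embedding.subtype _)) (Function.Embedding.ext fun i => ?_))
    exact (Finset.mem_filter.mp (f i).2).2
  have hinvol_u : Even l → ∃ z : G, z * z = 1 ∧ z ≠ 1 ∧ ∀ i, (z : Equiv.Perm α) (u i) = u i := by
    intro hev
    haveI : Fact (Nat.Prime 2) := ⟨Nat.prime_two⟩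
    obtain ⟨k, hk⟩ := exists_prime_orderOf_dvd_card' (G := stabilizer G u) 2
      (even_iff_two_dvd.mp hev)
    refine ⟨k, ?_, ?_, hfixK k k.2⟩
    · have h := pow_orderOf_eq_one k
      rw [hk, pow_two] at h
      simpa using congrArg Subtype.val h
    · intro h
      have h' : k = 1 := Subtype.ext h
      rw [h', orderOf_one] at hk
      omega
  have hU : (Finset.univ.map u).card = m := by simp
  -- a single two-cycle plus fixed points
  have hone : Even l → ∃ σ ∈ X, Equiv.Perm.sign σ = (-1) ^ 1 ∧ (0 < 1 → orderOf σ = 2) := by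
    intro hev
    obtain ⟨z, hz2, hz1, hzu⟩ := hinvol_u hev
    obtain ⟨a, ha⟩ : ∃ a, (z : Equiv.Perm α) a ≠ a := by
      by_contra hc
      push Not at hc
      exact hz1 (Subtype.ext (Equiv.ext hc))
    have hzz : ∀ y, (z : Equiv.Perm α) ((z : Equiv.Perm α) y) = y := fun y =>
      DFunLike.congr_fun (congrArg Subtype.val hz2) y
    obtain ⟨s, hs, hsc⟩ := Finset.exists_subset_card_eq (s := Finset.univ.map u) (n := m - 1)
      (by omega)
    have hsfix : ∀ y ∈ s, (z : Equiv.Perm α) y = y := by
      intro y hy
      obtain ⟨i, -, rfl⟩ := Finset.mem_map.mp (hs hy)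
      exact hzu i
    have ha' : (z : Equiv.Perm α) ((z : Equiv.Perm α) a) ≠ (z : Equiv.Perm α) a := by
      rw [hzz]; exact Ne.symm ha
    have hnot : a ∉ s ∧ (z : Equiv.Perm α) a ∉ s :=
      ⟨fun h => ha (hsfix a h), fun h => ha' (hsfix _ h)⟩
    refine sign_witness hh1 e z.2 (congrArg Subtype.val hz2)
      (insert a (insert ((z : Equiv.Perm α) a) s)) ?_ ?_ 1 ?_
    · rw [Finset.card_insert_of_notMem (by simp [hnot.1, Ne.symm ha]),
        Finset.card_insert_of_notMem hnot.2, hsc]
      omega
    · intro y hy
      simp only [Finset.mem_insert] at hy ⊢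
      rcases hy with rfl | rfl | hy
      · exact Or.inr (Or.inl rfl)
      · exact Or.inl (hzz a)
      · exact Or.inr (Or.inr (by rw [hsfix y hy]; exact hy))
    · rw [Finset.filter_insert, if_pos ha, Finset.filter_insert, if_pos ha',
        Finset.filter_false_of_mem (fun y hy => not_not.mpr (hsfix y hy))]
      simp [Ne.symm ha]
  by_cases hm4 : 4 ≤ m
  · exfalso
    have hbound := Cfsg.Agent.KTransAlt59.degree_bound m hm4 G α ht hB l
      (by rw [hcard, Nat.card_eq_fintype_card]) (by rw [Nat.card_eq_fintype_card]; omega)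
    rw [Nat.card_eq_fintype_card, ← hndef] at hbound
    have hrpos : 0 < r := Nat.pos_of_ne_zero (Subgroup.index_ne_zero_of_finite)
    have hrm : r < m + 1 := by
      rcases hbound with h | ⟨hl1, h7⟩
      · have : r ≤ 4 := by
          refine Nat.le_of_mul_le_mul_right ?_ hlpos
          omega
        omega
      · rw [hl1, mul_one] at hrl
        have hr7 : r = 7 := by omega
        by_contra hc
        have hd7 : 7 ∣ (m + 1).factorial := ⟨x, by rw [← hxr, hr7, mul_comm]⟩
        rcases (show m = 4 ∨ m = 5 ∨ m = 6 by omega) with rfl | rfl | rfl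
        · revert hd7; decide
        · revert hd7; decide
        · haveI : IsMultiplyPretransitive G α 2 :=
            isMultiplyPretransitive_of_le (n := 6) (by omega) (by simp; omega)
          haveI : IsPretransitive G α := isPretransitive_of_is_two_pretransitive
          refine Cfsg.Agent.S0710.result (by omega) G ?_
          rw [hcard, hl1, h7]
          rfl
    haveI : IsSimpleGroup (alternatingGroup (Fin (m + 1))) :=
      alternatingGroup.isSimpleGroup (by rw [Nat.card_fin]; omega)
    haveI : Nontrivial (Fin (m + 1)) := Fin.nontrivial_iff_two_le.mpr (by omega)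
    have hA2 : 2 * Nat.card (alternatingGroup (Fin (m + 1))) = (m + 1).factorial := by
      have := two_mul_nat_card_alternatingGroup (α := Fin (m + 1))
      rwa [Nat.card_perm, Nat.card_fin] at this
    obtain ⟨y, hy⟩ := Cfsg.Agent.KTransAlt59.exists_fixed_point
      ((MulAction.toPermHom (Equiv.Perm (Fin (m + 1))) (Equiv.Perm (Fin (m + 1)) ⧸ X)).comp
        (alternatingGroup (Fin (m + 1))).subtype) (m + 1)
      (fun q hq => by
        have h1 : q.factorial ≤ m.factorial := Nat.factorial_le (by omega)
        have h2 : (m + 1).factorial = (m + 1) * m.factorial := Nat.factorial_succ m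
        have h3 := Nat.factorial_pos m
        nlinarith) (Or.inl (by rw [← Subgroup.index, ← hrdef]; omega))
    have hAX : alternatingGroup (Fin (m + 1)) ≤ X := by
      induction y using QuotientGroup.induction_on with
      | H c =>
        intro σ hσ
        have hc : c * σ * c⁻¹ ∈ alternatingGroup (Fin (m + 1)) :=
          (inferInstance : (alternatingGroup (Fin (m + 1))).Normal).conj_mem σ hσ c
        have h := hy ⟨c * σ * c⁻¹, hc⟩
        have h' : (((c * σ * c⁻¹) * c : Equiv.Perm (Fin (m + 1))) :
            Equiv.Perm (Fin (m + 1)) ⧸ X) = c := h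
        rw [eq_comm, QuotientGroup.eq] at h'
        simpa using h'
    have hr2 : r = 2 := by
      have h := Subgroup.index_dvd_of_le hAX
      rw [alternatingGroup.index_eq_two] at h
      rcases (Nat.dvd_prime Nat.prime_two).mp h with h | h
      · exact absurd h hr1
      · exact h
    have heven : ∀ σ ∈ X, Equiv.Perm.sign σ = 1 := by
      intro σ hσ
      rw [Equiv.Perm.eq_alternatingGroup_of_index_eq_two (G := X) hr2] at hσ
      exact Equiv.Perm.mem_alternatingGroup.mp hσ
    rw [hr2] at hrl
    rcases Nat.even_or_odd l with hev | hodd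
    · obtain ⟨σ, hσ, hs, -⟩ := hone hev
      rw [heven σ hσ] at hs
      exact absurd hs (by decide)
    · have hl1 : 1 < l := by
        rw [Nat.odd_iff] at hodd
        omega
      rcases (show m = 4 ∨ 5 ≤ m by omega) with rfl | hm5
      · exact inverts_contradiction G l hodd hl1 (by omega) ht hcard hB
      · -- an involution swapping two points of u, with three two-cycles on an invariant set
        have h0 : (⟨0, by omega⟩ : Fin m) ≠ ⟨1, by omega⟩ := by simp
        set i0 : Fin m := ⟨0, by omega⟩
        set i1 : Fin m := ⟨1, by omega⟩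
        obtain ⟨g, hg⟩ := ht.exists_smul_eq u ((Equiv.swap i0 i1).toEmbedding.trans u)
        have hgu : ∀ i, (g : Equiv.Perm α) (u i) = u (Equiv.swap i0 i1 i) := fun i =>
          DFunLike.congr_fun hg i
        have hgK : g * g ∈ stabilizer G u := by
          refine Function.Embedding.ext fun i => ?_
          show (g : Equiv.Perm α) ((g : Equiv.Perm α) (u i)) = u i
          rw [hgu, hgu, Equiv.swap_apply_self]
        have hgl : (g * g) ^ l = 1 := by
          have := pow_card_eq_one' (x := (⟨g * g, hgK⟩ : stabilizer G u))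
          simpa [hldef] using congrArg Subtype.val this
        obtain ⟨q, hq⟩ := hodd
        set t : G := g ^ l with htdef
        have htu : ∀ i, (t : Equiv.Perm α) (u i) = u (Equiv.swap i0 i1 i) := by
          intro i
          have hsq : (g * g) ^ q ∈ stabilizer G u := Subgroup.pow_mem _ hgK q
          rw [htdef, hq, pow_succ, pow_mul, pow_two, Subgroup.coe_mul, Equiv.Perm.mul_apply,
            hgu, hfixK _ hsq]
        have ht2 : t * t = 1 := by rw [htdef, ← pow_add, ← two_mul, pow_mul, pow_two, hgl]
        have ht1 : t ≠ 1 := by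
          intro h
          have := htu i0
          rw [h, Equiv.swap_apply_left] at this
          exact h0 (u.injective this)
        have hzz : ∀ y, (t : Equiv.Perm α) ((t : Equiv.Perm α) y) = y := fun y =>
          DFunLike.congr_fun (congrArg Subtype.val ht2) y
        let M := Finset.univ.filter (fun y => (t : Equiv.Perm α) y ≠ y)
        have hM6 : 6 ≤ M.card := by
          have h1 := card_fix_add_mov (β := α) t
          have h2 := hmany t ht1
          have : movF (β := α) t = M := by
            ext y
            simp [movF, M, Subgroup.smul_def, Equiv.Perm.smul_def]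
          rw [this] at h1
          omega
        have hstep : ∀ P : Finset α, P ⊆ M → (∀ y ∈ P, (t : Equiv.Perm α) y ∈ P) →
            P.card < 6 → ∃ P' : Finset α, P' ⊆ M ∧ (∀ y ∈ P', (t : Equiv.Perm α) y ∈ P') ∧
              P'.card = P.card + 2 := by
          intro P hP hPinv hPc
          obtain ⟨y, hy⟩ : (M \ P).Nonempty := by
            rw [← Finset.card_pos, Finset.card_sdiff_of_subset hP]
            omega
          obtain ⟨hyM, hyP⟩ := Finset.mem_sdiff.mp hy
          have hy' : (t : Equiv.Perm α) y ≠ y := (Finset.mem_filter.mp hyM).2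
          have hty : (t : Equiv.Perm α) y ∉ P := fun h => hyP (hzz y ▸ hPinv _ h)
          refine ⟨insert y (insert ((t : Equiv.Perm α) y) P), ?_, ?_, ?_⟩
          · intro w hw
            simp only [Finset.mem_insert] at hw
            rcases hw with rfl | rfl | hw
            · exact hyM
            · exact Finset.mem_filter.mpr ⟨Finset.mem_univ _, by rw [hzz]; exact Ne.symm hy'⟩
            · exact hP hw
          · intro w hw
            simp only [Finset.mem_insert] at hw ⊢
            rcases hw with rfl | rfl | hw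
            · exact Or.inr (Or.inl rfl)
            · exact Or.inl (hzz y)
            · exact Or.inr (Or.inr (hPinv _ hw))
          · rw [Finset.card_insert_of_notMem (by simp [hyP, Ne.symm hy']),
              Finset.card_insert_of_notMem hty]
        obtain ⟨P1, hP1, hP1i, hP1c⟩ := hstep ∅ (Finset.empty_subset _) (by simp) (by simp)
        obtain ⟨P2, hP2, hP2i, hP2c⟩ := hstep P1 hP1 hP1i (by simp at hP1c; omega)
        obtain ⟨P3, hP3, hP3i, hP3c⟩ := hstep P2 hP2 hP2i (by simp at hP1c; omega)
        simp only [Finset.card_empty] at hP1c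
        obtain ⟨Q, hQ, hQc⟩ := Finset.exists_subset_card_eq
          (s := (((Finset.univ.map u).erase (u i0)).erase (u i1))) (n := m - 5)
          (by
            rw [Finset.card_erase_of_mem (by simp [Ne.symm h0]), Finset.card_erase_of_mem (by simp)]
            omega)
        have hQfix : ∀ y ∈ Q, (t : Equiv.Perm α) y = y := by
          intro y hy
          have := hQ hy
          simp only [Finset.mem_erase, Finset.mem_map, Finset.mem_univ, true_and] at this
          obtain ⟨hy1, hy0, i, rfl⟩ := this
          rw [htu, Equiv.swap_apply_of_ne_of_ne (fun h => hy0 (congrArg u h))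
            (fun h => hy1 (congrArg u h))]
        have hdisj : Disjoint P3 Q := Finset.disjoint_left.mpr fun y hyP hyQ =>
          (Finset.mem_filter.mp (hP3 hyP)).2 (hQfix y hyQ)
        obtain ⟨σ, hσ, hs, -⟩ := sign_witness hh1 e t.2 (congrArg Subtype.val ht2) (P3 ∪ Q)
          (by rw [Finset.card_union_of_disjoint hdisj]; omega)
          (fun y hy => by
            rcases Finset.mem_union.mp hy with hy | hy
            · exact Finset.mem_union_left _ (hP3i y hy)
            · rw [hQfix y hy]; exact Finset.mem_union_right _ hy)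
          3 (by
            rw [Finset.filter_union, Finset.filter_true_of_mem
              (fun y hy => (Finset.mem_filter.mp (hP3 hy)).2),
              Finset.filter_false_of_mem (fun y hy => not_not.mpr (hQfix y hy)),
              Finset.union_empty]
            omega)
        rw [heven σ hσ] at hs
        exact absurd hs (by decide)
  · -- small m
    have hxdvd : r ∣ (m + 1).factorial := ⟨x, by rw [← hxr, mul_comm]⟩
    have hxle := Nat.le_of_dvd (Nat.factorial_pos _) hxdvd
    have hrpos : 0 < r := Nat.pos_of_ne_zero (Subgroup.index_ne_zero_of_finite)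
    rcases (show m = 1 ∨ m = 2 ∨ m = 3 by omega) with rfl | rfl | rfl
    · exfalso
      simp only [show (1 + 1).factorial = 2 from rfl] at hxr hxle
      obtain ⟨hr2, hx1⟩ : r = 2 ∧ x = 1 := by interval_cases r <;> omega
      rw [hr2] at hrl
      obtain ⟨σ, hσ, -, ho⟩ := hone ⟨1, by omega⟩
      have := orderOf_dvd_natCard (⟨σ, hσ⟩ : X)
      rw [Subgroup.orderOf_mk, ho one_pos, ← hxdef, hx1] at this
      omega
    · simp only [show (2 + 1).factorial = 6 from rfl] at hxr hxle
      left
      have hc : n = 5 ∧ l = 1 ∨ (n = 6 ∧ l = 2 ∧ x = 3) := by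
        obtain ⟨q, hq⟩ := hdvd
        interval_cases r <;> interval_cases n <;> omega
      rcases hc with ⟨h5, hl1⟩ | ⟨h6, hl2, hx3⟩
      · refine ⟨h5, rfl, ?_⟩
        rw [hcard, h5, hl1]
        rfl
      · exfalso
        obtain ⟨σ, hσ, -, ho⟩ := hone ⟨1, by omega⟩
        have := orderOf_dvd_natCard (⟨σ, hσ⟩ : X)
        rw [Subgroup.orderOf_mk, ho one_pos, ← hxdef, hx3] at this
        omega
    · simp only [show (3 + 1).factorial = 24 from rfl] at hxr hxle
      have hc : n = 6 ∧ l = 1 ∨ (n = 9 ∧ (l = 1 ∨ l = 3)) ∨ (n = 7 ∧ l = 2 ∧ r = 2) ∨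
          (n = 7 ∧ l = 1 ∧ x = 6) ∨ (n = 9 ∧ l = 2) := by
        obtain ⟨q, hq⟩ := hdvd
        interval_cases r <;> interval_cases n <;> omega
      rcases hc with ⟨h6, hl⟩ | ⟨h9, hl⟩ | ⟨h7, hl, hr⟩ | ⟨h7, hl, hx⟩ | ⟨h9, hl⟩
      · refine Or.inr (Or.inl ⟨h6, rfl, ?_⟩)
        rw [hcard, h6, hl]
        rfl
      · refine Or.inr (Or.inr ⟨h9, rfl, ?_⟩)
        rcases hl with hl | hl
        · left; rw [hcard, h9, hl]; rfl
        · right; rw [hcard, h9, hl]; rfl
      · exfalso
        obtain ⟨σ, hσ, hs, -⟩ := hone ⟨1, by omega⟩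
        rw [Equiv.Perm.eq_alternatingGroup_of_index_eq_two (G := X) (hrdef ▸ hr),
          Equiv.Perm.mem_alternatingGroup] at hσ
        rw [hσ] at hs
        exact absurd hs (by decide)
      · exfalso
        -- an involution with one fixed point: two of its two-cycles form a double transposition
        obtain ⟨g, hg⟩ := ht.exists_smul_eq u ((Equiv.swap (0 : Fin 3) 1).toEmbedding.trans u)
        have hgu : ∀ i, (g : Equiv.Perm α) (u i) = u (Equiv.swap (0 : Fin 3) 1 i) := fun i =>
          DFunLike.congr_fun hg i
        have hgK : g * g ∈ stabilizer G u := by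
          refine Function.Embedding.ext fun i => ?_
          show (g : Equiv.Perm α) ((g : Equiv.Perm α) (u i)) = u i
          rw [hgu, hgu, Equiv.swap_apply_self]
        have hg2 : g * g = 1 := by
          have hle : Nat.card (stabilizer G u) ≤ 1 := by rw [← hldef, hl]
          rw [Subgroup.eq_bot_of_card_le _ hle, Subgroup.mem_bot] at hgK
          exact hgK
        have hg1 : g ≠ 1 := by
          intro h
          have := hgu 0
          rw [h, Equiv.swap_apply_left] at this
          exact absurd (u.injective this) (by decide)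
        have hzz : ∀ y, (g : Equiv.Perm α) ((g : Equiv.Perm α) y) = y := fun y =>
          DFunLike.congr_fun (congrArg Subtype.val hg2) y
        have hf := hmany g hg1
        have hfm := card_fix_add_mov (β := α) g
        obtain ⟨a, ha⟩ : (movF (β := α) g).Nonempty := Finset.card_pos.mp (by omega)
        have ha' : (g : Equiv.Perm α) a ≠ a := (Finset.mem_filter.mp ha).2
        obtain ⟨b, hb⟩ : (movF (β := α) g \ {a, (g : Equiv.Perm α) a}).Nonempty := by
          rw [← Finset.card_pos]
          have := Finset.le_card_sdiff {a, (g : Equiv.Perm α) a} (movF (β := α) g)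
          have := Finset.card_le_two (a := a) (b := (g : Equiv.Perm α) a)
          omega
        simp only [Finset.mem_sdiff, Finset.mem_insert, Finset.mem_singleton, not_or] at hb
        obtain ⟨hbm, hba, hbz⟩ := hb
        have hb' : (g : Equiv.Perm α) b ≠ b := (Finset.mem_filter.mp hbm).2
        have hazb : a ≠ (g : Equiv.Perm α) b := fun h => hbz (by rw [h, hzz])
        have hzab : (g : Equiv.Perm α) a ≠ (g : Equiv.Perm α) b := fun h =>
          hba ((g : Equiv.Perm α).injective h).symm
        have hc4 : ({a, (g : Equiv.Perm α) a, b, (g : Equiv.Perm α) b} : Finset α).card = 4 := by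
          rw [Finset.card_insert_of_notMem (by simp [Ne.symm ha', Ne.symm hba, hazb]),
            Finset.card_insert_of_notMem (by simp [Ne.symm hbz, hzab]),
            Finset.card_pair (Ne.symm hb')]
        obtain ⟨δ, hδ, hδs, hδo⟩ := sign_witness hh1 e g.2 (congrArg Subtype.val hg2)
          {a, (g : Equiv.Perm α) a, b, (g : Equiv.Perm α) b} hc4
          (fun y hy => by
            simp only [Finset.mem_insert, Finset.mem_singleton] at hy ⊢
            rcases hy with rfl | rfl | rfl | rfl
            · exact Or.inr (Or.inl rfl)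
            · exact Or.inl (hzz a)
            · exact Or.inr (Or.inr (Or.inr rfl))
            · exact Or.inr (Or.inr (Or.inl (hzz b))))
          2 (by
            rw [Finset.filter_true_of_mem, hc4]
            intro y hy
            simp only [Finset.mem_insert, Finset.mem_singleton] at hy
            rcases hy with rfl | rfl | rfl | rfl
            · exact ha'
            · rw [hzz]; exact Ne.symm ha'
            · exact hb'
            · rw [hzz]; exact Ne.symm hb')
        exact six_no_even X hx hδ (by rw [hδs]; decide) (hδo (by norm_num))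
      · exfalso
        refine not_order_1008 G h9 (hpair (by norm_num)) ht hB ?_
        rw [hcard, h9, hl]
        rfl

/-- homogeneity passes down for small sets: the pairs -/
lemma pretransitive_pairs (G : Subgroup (Equiv.Perm α)) {m : ℕ} (hm : 2 ≤ m)
    (hn : m ≤ Fintype.card α) (ht : IsMultiplyPretransitive G α m) :
    IsPretransitive G (Set.powersetCard α 2) := by
  classical
  haveI := ht
  haveI : IsMultiplyPretransitive G α 2 :=
    isMultiplyPretransitive_of_le (n := m) hm (by simpa using hn)
  refine ⟨fun A B => ?_⟩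
  obtain ⟨a, b, hab, hA⟩ := Finset.card_eq_two.mp A.2
  obtain ⟨c, d, hcd, hB⟩ := Finset.card_eq_two.mp B.2
  obtain ⟨g, hg1, hg2⟩ := is_two_pretransitive_iff.mp ‹IsMultiplyPretransitive G α 2› hab hcd
  refine ⟨g, Subtype.ext ?_⟩
  show g • (A : Finset α) = (B : Finset α)
  rw [hA, hB, Finset.smul_finset_insert, Finset.smul_finset_singleton, hg1, hg2]

omit [Fintype α] in
/-- homogeneity makes the pointwise stabilisers of equally large sets equally large -/
lemma card_fixing_eq {G : Subgroup (Equiv.Perm α)} {d : ℕ}
    (hh : IsPretransitive G (Set.powersetCard α d)) {s t : Finset α} (hs : s.card = d)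
    (ht : t.card = d) :
    Nat.card (fixingSubgroup G (s : Set α)) = Nat.card (fixingSubgroup G (t : Set α)) := by
  obtain ⟨g, hg⟩ := hh.exists_smul_eq (⟨s, hs⟩ : Set.powersetCard α d) ⟨t, ht⟩
  have hg' : g • s = t := congrArg Subtype.val hg
  refine Nat.card_congr ⟨fun x => ⟨g * x * g⁻¹, ?_⟩, fun x => ⟨g⁻¹ * x * g, ?_⟩, fun x => ?_,
    fun x => ?_⟩
  · rw [mem_fixingSubgroup_iff]
    intro y hy
    rw [← hg'] at hy
    obtain ⟨z, hz, rfl⟩ := Finset.mem_smul_finset.mp (Finset.mem_coe.mp hy)
    rw [mul_smul, mul_smul, inv_smul_smul,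
      (mem_fixingSubgroup_iff (M := G)).mp x.2 z hz]
  · rw [mem_fixingSubgroup_iff]
    intro y hy
    have hy' : g • y ∈ t := hg' ▸ Finset.smul_mem_smul_finset (Finset.mem_coe.mp hy)
    rw [mul_smul, mul_smul, (mem_fixingSubgroup_iff (M := G)).mp x.2 (g • y) hy', inv_smul_smul]
  · exact Subtype.ext (by simp [mul_assoc])
  · exact Subtype.ext (by simp [mul_assoc])


/-- Let `G` have degree `n` and `3 ≤ k ≤ n`; suppose `G` is `(k-2)`-transitive but not `(k-1)`-transitive, and is `(k-1)`-homogeneous and `k`-homogeneous. Then `k = n` and `G` is the alternating group, or `n = 5, k = 4, |G| = 20`, or `n = 6, k = 5, |G| = 120`, or `n = 9, k = 5, |G| ∈ {504, 1512}`. -/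
theorem result {α : Type*} [Fintype α] [DecidableEq α] (G : Subgroup (Equiv.Perm α)) {k : ℕ} (hk : 3 ≤ k) (hkn : k ≤ Fintype.card α) (ht : MulAction.IsMultiplyPretransitive G α (k - 2)) (hnt : ¬ MulAction.IsMultiplyPretransitive G α (k - 1)) (hh1 : MulAction.IsPretransitive G (Set.powersetCard α (k - 1))) (hh : MulAction.IsPretransitive G (Set.powersetCard α k)) : (k = Fintype.card α ∧ G = alternatingGroup α) ∨ (Fintype.card α = 5 ∧ k = 4 ∧ Nat.card G = 20) ∨ (Fintype.card α = 6 ∧ k = 5 ∧ Nat.card G = 120) ∨ (Fintype.card α = 9 ∧ k = 5 ∧ (Nat.card G = 504 ∨ Nat.card G = 1512)) := by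
  classical
  obtain ⟨m, rfl⟩ : ∃ m, k = m + 2 := ⟨k - 2, by omega⟩
  simp only [Nat.add_sub_cancel] at ht
  rw [show m + 2 - 1 = m + 1 by omega] at hnt hh1
  rcases Nat.eq_or_lt_of_le hkn with heq | hlt
  · left
    refine ⟨heq, ?_⟩
    have hc : Fintype.card α - 2 = m := by omega
    have hA : alternatingGroup α ≤ G := IsMultiplyPretransitive.alternatingGroup_le α
      G (by rw [Nat.card_eq_fintype_card, hc]; exact ht)
    haveI : Nontrivial α := Fintype.one_lt_card_iff_nontrivial.mp (by omega)
    have h := Subgroup.index_dvd_of_le hA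
    rw [alternatingGroup.index_eq_two] at h
    rcases (Nat.dvd_prime Nat.prime_two).mp h with h | h
    · exfalso
      apply hnt
      rw [Subgroup.index_eq_one.mp h]
      refine ⟨fun e f => ?_⟩
      obtain ⟨g, hg⟩ := (Equiv.Perm.isMultiplyPretransitive α (m + 1)).exists_smul_eq e f
      exact ⟨⟨g, trivial⟩, hg⟩
    · exact Equiv.Perm.eq_alternatingGroup_of_index_eq_two h
  · right
    obtain ⟨s, -, hs⟩ := Finset.exists_subset_card_eq (s := (Finset.univ : Finset α)) (n := m + 1)
      (by rw [Finset.card_univ]; omega)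
    obtain ⟨t, -, hts⟩ := Finset.exists_subset_card_eq (s := (Finset.univ : Finset α))
      (n := m + 2) (by rw [Finset.card_univ]; omega)
    have hl : Nat.card (fixingSubgroup G (s : Set α)) ≤ 1 := by
      by_contra hl
      exact hnt (Cfsg.Agent.S0744.result G (k := m + 2) (by omega) (by omega) _ _ (not_le.mp hl)
        (fun s' hs' => card_fixing_eq hh1 hs' hs) (fun t' ht' => card_fixing_eq hh ht' hts))
    have hB : ∀ (g : G) (e : Fin (m + 1) ↪ α), g • e = e → g = 1 := by
      intro g e hge
      have hcard : Nat.card (fixingSubgroup G ((Finset.univ.map e : Finset α) : Set α)) ≤ 1 :=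
        (card_fixing_eq hh1 (by simp) hs).le.trans hl
      have hmem : g ∈ fixingSubgroup G ((Finset.univ.map e : Finset α) : Set α) := by
        rw [mem_fixingSubgroup_iff]
        intro y hy
        obtain ⟨i, -, rfl⟩ := Finset.mem_map.mp (Finset.mem_coe.mp hy)
        exact DFunLike.congr_fun hge i
      rw [Subgroup.eq_bot_of_card_le _ hcard, Subgroup.mem_bot] at hmem
      exact hmem
    by_cases hbig : 2 * m + 4 ≤ Fintype.card α
    · exact absurd (Cfsg.Agent.LWStep59.lw_step G m (by omega) hbig ht hh1 hh hB) hnt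
    rcases lw_exceptions G m (by omega) (by omega) (by omega) ht hnt hh1 hh
      (fun h => pretransitive_pairs G h (by omega) ht) hB with ⟨h1, h2, h3⟩ | ⟨h1, h2, h3⟩ |
      ⟨h1, h2, h3⟩
    · exact Or.inl ⟨h1, by omega, h3⟩
    · exact Or.inr (Or.inl ⟨h1, by omega, h3⟩)
    · exact Or.inr (Or.inr ⟨h1, by omega, h3⟩)

end Cfsg.Agent.S0745
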