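import Cfsg.Statements.S0746
import Cfsg.Agent.Lib.LWStep59
import Cfsg.Agent.S0736
import Cfsg.Agent.S0744

set_option autoImplicit false
open Cfsg

namespace Cfsg.Agent.S0746


open MulAction
open scoped Pointwise

variable {α : Type*} [Fintype α] [DecidableEq α]

omit [Fintype α] in
/-- homogeneity makes the pointwise stabilisers of equally large sets equally large -/
lemma card_fixing_eq {G : Subgroup (Equiv.Perm α)} {d : ℕ}
    (hh : IsPretransitive G (Set.powersetCard α d)) {s t : Finset α} (hs : s.card = d)
    (ht : t.card = d) :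
    Nat.card (fixingSubgroup G (s : Set α)) = Nat.card (fixingSubgroup G (t : Set α)) := by
  obtain ⟨g, hg⟩ := hh.exists_smul_eq (⟨s, hs⟩ : Set.powersetCard α d) ⟨t, ht⟩
  have hg' : g • s = t := congrArg Subtype.val hg
  refine Nat.card_congr ⟨fun x => ⟨g * x * g⁻¹, ?_⟩, fun x => ⟨g⁻¹ * x * g, ?_⟩, fun x => ?_,
    fun x => ?_⟩
  · rw [mem_fixingSubgroup_iff]
    intro y hy
    rw [← hg'] at hy
    obtain ⟨z, hz, rfl⟩ := Finset.mem_smul_finset.mp (Finset.mem_coe.mp hy)
    rw [mul_smul, mul_smul, inv_smul_smul,
      (mem_fixingSubgroup_iff (M := G)).mp x.2 z hz]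
  · rw [mem_fixingSubgroup_iff]
    intro y hy
    have hy' : g • y ∈ t := hg' ▸ Finset.smul_mem_smul_finset (Finset.mem_coe.mp hy)
    rw [mul_smul, mul_smul, (mem_fixingSubgroup_iff (M := G)).mp x.2 (g • y) hy', inv_smul_smul]
  · exact Subtype.ext (by simp [mul_assoc])
  · exact Subtype.ext (by simp [mul_assoc])

/-- the induction -/
theorem lw_first : ∀ (k : ℕ), 2 ≤ k → ∀ G : Subgroup (Equiv.Perm α), 2 * k ≤ Fintype.card α →
    IsPretransitive G (Set.powersetCard α k) → IsMultiplyPretransitive G α (k - 1) := by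
  intro k hk
  induction k, hk using Nat.le_induction with
  | base =>
    intro G hn hh
    have h1 : IsPretransitive G (Set.powersetCard α 1) :=
      Cfsg.Agent.S0736.result G (k := 2) le_rfl hh (fun q hq hd => by
        have := Nat.le_of_dvd (by norm_num) hd
        omega)
    refine ⟨fun e f => ?_⟩
    obtain ⟨g, hg, π, hπ⟩ := Cfsg.Agent.LWStep59.exists_map_eq h1 e f
    refine ⟨⟨g, hg⟩, Function.Embedding.ext fun i => ?_⟩
    show g (e i) = f i
    have hi : π i = i := by
      revert π
      intro π _
      exact Fin.ext (by have := (π i).isLt; have := i.isLt; omega)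
    rw [hπ, hi]
  | succ k hk ih =>
    intro G hn hh
    classical
    have h1 : IsPretransitive G (Set.powersetCard α k) :=
      Cfsg.Agent.S0736.result G (k := k + 1) (by omega) hh (fun q hq hd => by
        have := Nat.le_of_dvd (by omega) hd
        omega)
    have ht : IsMultiplyPretransitive G α (k - 1) := ih G (by omega) h1
    obtain ⟨s, -, hs⟩ := Finset.exists_subset_card_eq (s := (Finset.univ : Finset α)) (n := k)
      (by rw [Finset.card_univ]; omega)
    obtain ⟨t, -, hts⟩ := Finset.exists_subset_card_eq (s := (Finset.univ : Finset α))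
      (n := k + 1) (by rw [Finset.card_univ]; omega)
    show IsMultiplyPretransitive G α k
    rcases lt_or_ge 1 (Nat.card (fixingSubgroup G (s : Set α))) with hl | hl
    · exact Cfsg.Agent.S0744.result G (k := k + 1) (by omega) (by omega) _ _ hl
        (fun s' hs' => card_fixing_eq h1 hs' hs) (fun t' ht' => card_fixing_eq hh ht' hts)
    · obtain ⟨m, rfl⟩ : ∃ m, k = m + 1 := ⟨k - 1, by omega⟩
      refine Cfsg.Agent.LWStep59.lw_step G m (by omega) (by omega) ht h1 hh fun g e hge => ?_
      have hcard : Nat.card (fixingSubgroup G ((Finset.univ.map e : Finset α) : Set α)) ≤ 1 :=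
        (card_fixing_eq h1 (by simp) hs).le.trans hl
      have hmem : g ∈ fixingSubgroup G ((Finset.univ.map e : Finset α) : Set α) := by
        rw [mem_fixingSubgroup_iff]
        intro y hy
        obtain ⟨i, -, rfl⟩ := Finset.mem_map.mp (Finset.mem_coe.mp hy)
        exact DFunLike.congr_fun hge i
      rw [Subgroup.eq_bot_of_card_le _ hcard, Subgroup.mem_bot] at hmem
      exact hmem

/-- The Livingstone–Wagner Theorem, first form: a `k`-homogeneous group of degree `n` with `4 ≤ 2k ≤ n` is `(k-1)`-transitive. -/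
theorem result {α : Type*} [Fintype α] [DecidableEq α] (G : Subgroup (Equiv.Perm α)) {k : ℕ} (hk : 2 ≤ k) (hkn : 2 * k ≤ Fintype.card α) (hh : MulAction.IsPretransitive G (Set.powersetCard α k)) : MulAction.IsMultiplyPretransitive G α (k - 1) := by
  exact lw_first k hk G hkn hh

end Cfsg.Agent.S0746
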