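import Cfsg.Statements.S0747
import Cfsg.Agent.Lib.KTransAlt59
import Cfsg.Agent.S0710
import Cfsg.Agent.S0743

set_option autoImplicit false
open scoped Pointwise
open Cfsg

namespace Cfsg.Agent.S0747


universe u

open MulAction

/-- the permutations of a set induced by elements of a group fixing it -/
def inducedPerms {α : Type u} (G : Subgroup (Equiv.Perm α)) (F : Set α) : Subgroup (Equiv.Perm F) where
  carrier := {σ | ∃ g ∈ G, ∀ x : F, g (x : α) = (σ x : α)}
  one_mem' := ⟨1, G.one_mem, fun _ => rfl⟩
  mul_mem' := by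
    rintro a b ⟨g, hg, hga⟩ ⟨h, hh, hhb⟩
    refine ⟨g * h, G.mul_mem hg hh, fun x => ?_⟩
    rw [Equiv.Perm.mul_apply, hhb, hga]
    rfl
  inv_mem' := by
    rintro a ⟨g, hg, hga⟩
    refine ⟨g⁻¹, G.inv_mem hg, fun x => ?_⟩
    rw [Equiv.Perm.inv_eq_iff_eq, hga]
    simp

lemma mem_inducedPerms {α : Type u} {G : Subgroup (Equiv.Perm α)} {F : Set α} {σ : Equiv.Perm F} :
    σ ∈ inducedPerms G F ↔ ∃ g ∈ G, ∀ x : F, g (x : α) = (σ x : α) := Iff.rfl

/-- the free case -/
lemma free_case {α : Type u} [Fintype α] [DecidableEq α] (G : Subgroup (Equiv.Perm α)) {k : ℕ}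
    (hk : 4 ≤ k) (hkn : k < Fintype.card α) (hG : IsMultiplyPretransitive G α k)
    (hB : ∀ (g : G) (e : Fin (k + 1) ↪ α), g • e = e → g = 1) :
    ∃ e : Fin (k + 1) ↪ α, ∀ σ : Equiv.Perm (Fin (k + 1)), σ ∈ alternatingGroup (Fin (k + 1)) →
      ∃ g ∈ G, ∀ i, g (e i) = e (σ i) := by
  classical
  haveI : IsPretransitive G (Fin k ↪ α) := hG
  set n := Fintype.card α with hn
  have hD : Nat.card (Fin k ↪ α) = n.descFactorial k := by
    rw [Nat.card_eq_fintype_card, Fintype.card_embedding_eq, Fintype.card_fin]
  obtain ⟨e0⟩ : Nonempty (Fin k ↪ α) :=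
    Function.Embedding.nonempty_of_card_le (by rw [Fintype.card_fin]; omega)
  set l := Nat.card (stabilizer G e0) with hl0
  have hcard : Nat.card G = n.descFactorial k * l := by
    have huniv : orbit G e0 = Set.univ := Set.eq_univ_of_forall fun f => hG.exists_smul_eq e0 f
    have hidx : (stabilizer G e0).index = Nat.card (Fin k ↪ α) :=
      (MulAction.index_stabilizer (G := G) e0).trans ((congrArg Set.ncard huniv).trans (Set.ncard_univ _))
    rw [← hD, ← hidx, mul_comm]
    exact (Subgroup.card_mul_index _).symm
  have hbound := Cfsg.Agent.KTransAlt59.degree_bound k hk G α hG hB l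
    (by rw [hcard, Nat.card_eq_fintype_card]) (by rw [Nat.card_eq_fintype_card]; omega)
  rw [Nat.card_eq_fintype_card, ← hn] at hbound
  let O := orbitRel.Quotient G (Fin (k + 1) ↪ α)
  have hO : Nat.card O * l = n - k := by
    have hDpos : 0 < n.descFactorial k := Nat.descFactorial_pos.mpr (by omega)
    have horb : ∀ e : Fin (k + 1) ↪ α, Nat.card (orbit G e) = Nat.card G := by
      intro e
      refine (Nat.card_congr (MulAction.orbitEquivQuotientStabilizer G e)).trans ?_
      have : stabilizer G e = ⊥ := by
        rw [Subgroup.eq_bot_iff_forall]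
        exact fun g hg => hB g e hg
      show (stabilizer G e).index = _
      rw [this, Subgroup.index_bot]
    have h1 : Nat.card (Fin (k + 1) ↪ α) = Nat.card O * Nat.card G := by
      rw [Nat.card_congr (MulAction.selfEquivSigmaOrbits G (Fin (k + 1) ↪ α)), Nat.card_sigma,
        Finset.sum_const_nat (m := Nat.card G), Finset.card_univ, ← Nat.card_eq_fintype_card]
      intro w _
      exact horb _
    rw [Nat.card_eq_fintype_card, Fintype.card_embedding_eq, Fintype.card_fin, ← hn,
      Nat.descFactorial_succ, hcard] at h1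
    have : n.descFactorial k * (Nat.card O * l) = n.descFactorial k * (n - k) := by
      rw [mul_comm (n.descFactorial k) (n - k), h1]; ring
    exact Nat.eq_of_mul_eq_mul_left hDpos this
  let φ : Equiv.Perm (Fin (k + 1)) →* Equiv.Perm O :=
    MonoidHom.toHomPerm
      { toFun := fun σ => Quotient.map (fun e => σ⁻¹.toEmbedding.trans e) (by
          rintro e f ⟨g, hg⟩
          refine ⟨g, ?_⟩
          ext i
          exact DFunLike.congr_fun hg (σ⁻¹ i))
        map_one' := by
          funext x
          induction x using Quotient.inductionOn with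
          | _ e => exact congrArg Quotient.mk'' (Function.Embedding.ext fun i => rfl)
        map_mul' := by
          intro a b
          funext x
          induction x using Quotient.inductionOn with
          | _ e => exact congrArg Quotient.mk'' (Function.Embedding.ext fun i => by
              simp [Equiv.Perm.mul_apply]) }
  have hA : 2 * Nat.card (alternatingGroup (Fin (k + 1))) = (k + 1).factorial := by
    haveI : Nontrivial (Fin (k + 1)) := Fin.nontrivial_iff_two_le.mpr (by omega)
    have := two_mul_nat_card_alternatingGroup (α := Fin (k + 1))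
    rwa [Nat.card_perm, Nat.card_fin] at this
  haveI : IsSimpleGroup (alternatingGroup (Fin (k + 1))) :=
    alternatingGroup.isSimpleGroup (by rw [Nat.card_fin]; omega)
  haveI : Nonempty O := by
    obtain ⟨e⟩ : Nonempty (Fin (k + 1) ↪ α) :=
      Function.Embedding.nonempty_of_card_le (by rw [Fintype.card_fin]; omega)
    exact ⟨Quotient.mk'' e⟩
  have hsize : Nat.card O < k + 1 ∨ (Nat.card O < 2 * (k + 1) ∧
      ¬ Nat.card O ∣ Nat.card (alternatingGroup (Fin (k + 1)))) := by
    rcases hbound with h | ⟨h1, h7⟩
    · left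
      by_contra hc
      have : (k + 1) * l ≤ Nat.card O * l := Nat.mul_le_mul_right l (not_lt.mp hc)
      have hl : 0 < l := Nat.card_pos
      nlinarith [Nat.sub_add_cancel hkn.le]
    · rw [h1, mul_one] at hO
      have hO7 : Nat.card O = 7 := by omega
      by_cases h : 7 ≤ k
      · left; omega
      · right
        refine ⟨by omega, fun hd => ?_⟩
        rw [hO7] at hd
        have hd' : 7 ∣ (k + 1).factorial := hA ▸ Dvd.dvd.mul_left hd 2
        rcases (show k = 4 ∨ k = 5 ∨ k = 6 by omega) with rfl | rfl | rfl
        · revert hd'; decide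
        · revert hd'; decide
        · haveI : IsMultiplyPretransitive G α 2 :=
            isMultiplyPretransitive_of_le (n := 6) (by omega) (by simp; omega)
          haveI : IsPretransitive G α := isPretransitive_of_is_two_pretransitive
          refine Cfsg.Agent.S0710.result (by omega) G ?_
          rw [hcard, h1, h7]
          rfl
  obtain ⟨x, hx⟩ := Cfsg.Agent.KTransAlt59.exists_fixed_point
    (φ.comp (alternatingGroup (Fin (k + 1))).subtype) (k + 1)
    (fun q hq => by
      have h1 : q.factorial ≤ k.factorial := Nat.factorial_le (by omega)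
      have h2 : (k + 1).factorial = (k + 1) * k.factorial := Nat.factorial_succ k
      have h3 := Nat.factorial_pos k
      nlinarith) hsize
  induction x using Quotient.inductionOn with
  | _ e =>
    refine ⟨e, fun σ hσ => ?_⟩
    have h := hx ⟨σ⁻¹, Subgroup.inv_mem _ hσ⟩
    obtain ⟨g, hg⟩ := Quotient.exact' h
    refine ⟨(g : Equiv.Perm α), g.2, fun i => ?_⟩
    have := DFunLike.congr_fun hg i
    exact this.trans (congrArg e (by simp))

/-- main induction -/
theorem exists_alt : ∀ (n : ℕ) {α : Type u} [Fintype α] [DecidableEq α]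
    (G : Subgroup (Equiv.Perm α)) {k : ℕ}, Fintype.card α = n → 4 ≤ k → k < Fintype.card α →
    IsMultiplyPretransitive G α k →
    ∃ e : Fin (k + 1) ↪ α, ∀ σ : Equiv.Perm (Fin (k + 1)), σ ∈ alternatingGroup (Fin (k + 1)) →
      ∃ g ∈ G, ∀ i, g (e i) = e (σ i) := by
  intro n
  induction n using Nat.strong_induction_on with
  | _ n ih =>
  intro α _ _ G k hn hk hkn hG
  classical
  by_cases hB : ∀ (g : G) (e : Fin (k + 1) ↪ α), g • e = e → g = 1
  · exact free_case G hk hkn hG hB
  push Not at hB
  obtain ⟨g, e, hge, hg1⟩ := hB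
  obtain ⟨p, hp, hpd⟩ := Nat.exists_prime_and_dvd (fun h => hg1 (orderOf_eq_one_iff.mp h))
  haveI : Fact p.Prime := ⟨hp⟩
  -- maximal p-subgroup with many fixed points
  let cand : Finset (Subgroup G) := Finset.univ.filter (fun P : Subgroup G =>
    IsPGroup p P ∧ P ≠ ⊥ ∧ k + 1 ≤ Nat.card (fixedPoints P α))
  obtain ⟨P, hPc, hmax⟩ : ∃ P ∈ cand, ∀ Q ∈ cand, Nat.card Q ≤ Nat.card P := by
    refine Finset.exists_max_image cand (fun Q => Nat.card Q) ?_
    set x := g ^ (orderOf g / p) with hx
    have hox : orderOf x = p := orderOf_pow_orderOf_div (orderOf_pos g).ne' hpd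
    refine ⟨Subgroup.zpowers x, Finset.mem_filter.mpr ⟨Finset.mem_univ _, ?_, ?_, ?_⟩⟩
    · exact IsPGroup.of_card (n := 1) (by rw [Nat.card_zpowers, hox, pow_one])
    · intro h
      rw [Subgroup.zpowers_eq_bot] at h
      rw [h, orderOf_one] at hox
      exact hp.one_lt.ne hox
    · have hsub : Set.range e ⊆ fixedPoints (Subgroup.zpowers x) α := by
        rintro _ ⟨i, rfl⟩ ⟨y, hy⟩
        show y • e i = e i
        have : y ∈ stabilizer G (e i) := by
          refine (Subgroup.zpowers_le.mpr ?_) hy
          exact Subgroup.pow_mem _ (show g ∈ stabilizer G (e i) from DFunLike.congr_fun hge i) _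
        exact this
      have := Nat.card_mono (Set.toFinite _) hsub
      rwa [Nat.card_range_of_injective e.injective, Nat.card_fin] at this
  obtain ⟨hPp, hPne, hPf⟩ := (Finset.mem_filter.mp hPc).2
  set F : Set α := fixedPoints P α with hF
  have hFmem : ∀ {x : α}, x ∈ F ↔ ∀ a ∈ P, a • x = x :=
    fun {x} => ⟨fun h a ha => h ⟨a, ha⟩, fun h a => h a a.2⟩
  have hlt : Fintype.card F < n := by
    obtain ⟨a, ha, ha1⟩ : ∃ a ∈ P, a ≠ 1 := by
      by_contra hc
      push Not at hc
      exact hPne ((Subgroup.eq_bot_iff_forall P).mpr hc)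
    obtain ⟨x, hx⟩ : ∃ x, (a : Equiv.Perm α) x ≠ x := by
      by_contra hc
      push Not at hc
      exact ha1 (Subtype.ext (Equiv.ext hc))
    rw [← hn]
    exact Fintype.card_subtype_lt (x := x) (fun h => hx (hFmem.mp h a ha))
  have hFk : k + 1 ≤ Fintype.card F := by rwa [← Nat.card_eq_fintype_card]
  have hGk : IsMultiplyPretransitive (inducedPerms G F) F k := by
    by_cases hsyl : ∃ e : Fin k ↪ F, ∀ Q : Subgroup G, IsPGroup p Q →
        Q ≤ stabilizer G (e.trans (Function.Embedding.subtype _)) → P ≤ Q → Q = P
    · obtain ⟨e, he⟩ := hsyl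
      have hPst : ∀ e : Fin k ↪ F, P ≤ stabilizer G (e.trans (Function.Embedding.subtype _)) :=
        fun e a ha => Function.Embedding.ext fun i => hFmem.mp (e i).2 a ha
      set eα := e.trans (Function.Embedding.subtype _) with heα
      let P0 : Sylow p (stabilizer G eα) :=
        { toSubgroup := P.subgroupOf _
          isPGroup' := hPp.of_injective (Subgroup.subgroupOfEquivOfLe (hPst e)).toMonoidHom
            (MulEquiv.injective _)
          is_maximal' := fun {Q} hQ hle => by
            have h1 := he (Q.map (stabilizer G eα).subtype) (hQ.map _) (Subgroup.map_subtype_le Q)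
              (by
                intro a ha
                exact ⟨⟨a, hPst e ha⟩, hle (Subgroup.mem_subgroupOf.mpr ha), rfl⟩)
            exact (Subgroup.map_injective (Subgroup.subtype_injective _)
              (h1.trans (Subgroup.map_subgroupOf_eq_of_le (hPst e)).symm)) }
      -- every k-tuple of F is reached from e by an element normalising P
      have key : ∀ f : Fin k ↪ F, ∃ σ : inducedPerms G F, σ • e = f := by
        intro f
        set fα := f.trans (Function.Embedding.subtype _) with hfα
        obtain ⟨c, hc⟩ := exists_smul_eq (M := G) eα fα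
        -- conjugate of P inside the stabiliser of e
        let P1 : Subgroup (stabilizer G eα) := (P.map (MulAut.conj c⁻¹).toMonoidHom).subgroupOf _
        have hle1 : P.map (MulAut.conj c⁻¹).toMonoidHom ≤ stabilizer G eα := by
          rintro _ ⟨a, ha, rfl⟩
          have : a • fα = fα := hPst f ha
          show (c⁻¹ * a * (c⁻¹)⁻¹) • eα = eα
          have h1 : ∀ i, (a : G) • fα i = fα i := fun i => DFunLike.congr_fun this i
          have h2 : ∀ i, c • eα i = fα i := fun i => DFunLike.congr_fun hc i
          ext i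
          show (c⁻¹ * a * (c⁻¹)⁻¹) • eα i = eα i
          rw [inv_inv, mul_smul, mul_smul, h2, h1, ← h2, inv_smul_smul]
        have hP1 : IsPGroup p P1 :=
          (hPp.map _).of_injective (Subgroup.subgroupOfEquivOfLe hle1).toMonoidHom
            (MulEquiv.injective _)
        obtain ⟨P2, hP2⟩ := hP1.exists_le_sylow
        obtain ⟨d, hd⟩ := exists_smul_eq (stabilizer G eα) P0 P2
        have hcard : Nat.card P1 = Nat.card (P2 : Subgroup (stabilizer G eα)) := by
          rw [Nat.card_congr (Subgroup.subgroupOfEquivOfLe hle1).toEquiv,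
            ← Nat.card_congr (P.equivMapOfInjective _ (MulEquiv.injective _)).toEquiv,
            ← Nat.card_congr (Sylow.equiv P0 P2).toEquiv,
            Nat.card_congr (Subgroup.subgroupOfEquivOfLe (hPst e)).toEquiv]
        have hP12 : P1 = (P2 : Subgroup (stabilizer G eα)) :=
          Subgroup.eq_of_le_of_card_ge hP2 hcard.ge
        set b : G := c * (d : G) with hb
        have hbe : b • eα = fα := by
          ext i
          show (c * (d : G)) • eα i = fα i
          rw [mul_smul]
          have : (d : G) • eα = eα := d.2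
          rw [show (d : G) • eα i = eα i from DFunLike.congr_fun this i]
          exact DFunLike.congr_fun hc i
        have hbP : ∀ a ∈ P, b⁻¹ * a * b ∈ P := by
          intro a ha
          have h1 : c⁻¹ * a * c ∈ P.map (MulAut.conj c⁻¹).toMonoidHom :=
            ⟨a, ha, by simp⟩
          have h2 : (⟨c⁻¹ * a * c, hle1 h1⟩ : stabilizer G eα) ∈
              ((d • P0 : Sylow p (stabilizer G eα)) : Subgroup (stabilizer G eα)) := by
            rw [hd, ← hP12]
            exact h1
          rw [Sylow.smul_def, Sylow.pointwise_smul_def, Subgroup.mem_pointwise_smul_iff_inv_smul_mem]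
            at h2
          have h3 := Subgroup.mem_subgroupOf.mp h2
          convert h3 using 1
          simp [MulAut.smul_def, hb, mul_assoc]
        have hbF : ∀ x : α, (b : Equiv.Perm α) x ∈ F ↔ x ∈ F := by
          have hto : ∀ x ∈ F, (b : Equiv.Perm α) x ∈ F := by
            intro x hx
            refine hFmem.mpr fun a ha => ?_
            have := hFmem.mp hx _ (hbP a ha)
            have h' := congrArg (fun y => b • y) this
            simp only [← mul_smul, ← mul_assoc, mul_inv_cancel, one_mul] at h'
            rw [mul_smul] at h'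
            exact h'
          intro x
          refine ⟨fun h => ?_, hto x⟩
          have himg : (b : Equiv.Perm α) '' F = F :=
            Set.eq_of_subset_of_ncard_le (Set.image_subset_iff.mpr hto)
              (by rw [Set.ncard_image_of_injective _ (b : Equiv.Perm α).injective]) (Set.toFinite _)
          rw [← himg] at h
          obtain ⟨y, hy, hyx⟩ := h
          rwa [← (b : Equiv.Perm α).injective hyx]
        refine ⟨⟨(b : Equiv.Perm α).subtypePerm hbF, ⟨b, b.2, fun x => rfl⟩⟩, ?_⟩
        ext i
        exact DFunLike.congr_fun hbe i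
      refine ⟨fun f f' => ?_⟩
      obtain ⟨s, hs⟩ := key f
      obtain ⟨t, ht⟩ := key f'
      refine ⟨t * s⁻¹, ?_⟩
      refine Function.Embedding.ext fun i => ?_
      show (t * s⁻¹) • f i = f' i
      rw [← DFunLike.congr_fun hs i, Function.Embedding.smul_apply, mul_smul, inv_smul_smul]
      exact DFunLike.congr_fun ht i
    · push Not at hsyl
      refine Cfsg.Agent.S0743.result (inducedPerms G F) hp (by omega) (by omega) ?_
      intro s hs
      obtain ⟨e, he⟩ : ∃ e : Fin k ↪ F, Finset.univ.map e = s := by
        obtain ⟨eq⟩ : Nonempty (Fin k ≃ {x // x ∈ s}) :=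
          ⟨(Fintype.equivFinOfCardEq (by rw [Fintype.card_coe, hs])).symm⟩
        refine ⟨eq.toEmbedding.trans (Function.Embedding.subtype _), ?_⟩
        ext x
        simp only [Finset.mem_map, Finset.mem_univ, true_and, Function.Embedding.trans_apply]
        exact ⟨fun ⟨i, h⟩ => h ▸ (eq i).2, fun h => ⟨eq.symm ⟨x, h⟩, by simp⟩⟩
      obtain ⟨Q, hQp, hQe, hPQ, hQne⟩ := hsyl e
      haveI : Group.IsNilpotent Q := hQp.isNilpotent
      have hlt' : P.subgroupOf Q < ⊤ := lt_top_iff_ne_top.mpr fun h =>
        hQne (le_antisymm (Subgroup.subgroupOf_eq_top.mp h) hPQ)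
      have hN := Group.normalizerCondition_of_isNilpotent _ hlt'
      set N : Subgroup G := (Subgroup.normalizer ((P.subgroupOf Q : Subgroup Q) : Set Q)).map Q.subtype
        with hNdef
      have hPN : P < N := by
        have := Subgroup.map_lt_map_iff_of_injective (f := Q.subtype) Q.subtype_injective |>.mpr hN
        rwa [Subgroup.map_subgroupOf_eq_of_le hPQ] at this
      have hNQ : N ≤ Q := Subgroup.map_subtype_le _
      have hNp : IsPGroup p N := hQp.to_le hNQ
      have hnorm : ∀ a ∈ N, ∀ x ∈ P, a⁻¹ * x * a ∈ P := by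
        rintro _ ⟨a, ha, rfl⟩ x hx
        have h := (Subgroup.mem_normalizer_iff.mp (Subgroup.inv_mem _ ha) ⟨x, hPQ hx⟩).mp
          (Subgroup.mem_subgroupOf.mpr hx)
        simpa [Subgroup.mem_subgroupOf] using h
      have hNF : ∀ a ∈ N, ∀ x ∈ F, a • x ∈ F := by
        intro a ha x hx
        refine hFmem.mpr fun y hy => ?_
        have := hFmem.mp hx _ (hnorm a ha y hy)
        rw [mul_smul, mul_smul, inv_smul_eq_iff] at this
        exact this
      let toH : N →* inducedPerms G F :=
        { toFun := fun a => ⟨{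
              toFun := fun x => ⟨(a : G) • (x : α), hNF a a.2 x x.2⟩
              invFun := fun x => ⟨((a : G)⁻¹) • (x : α), hNF _ (N.inv_mem a.2) x x.2⟩
              left_inv := fun x => Subtype.ext (inv_smul_smul _ _)
              right_inv := fun x => Subtype.ext (smul_inv_smul _ _) },
            ⟨((a : G) : Equiv.Perm α), (a : G).2, fun x => rfl⟩⟩
          map_one' := Subtype.ext (Equiv.ext fun x => Subtype.ext (one_smul G _))
          map_mul' := fun a b => Subtype.ext (Equiv.ext fun x => Subtype.ext
            (mul_smul (a : G) (b : G) _)) }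
      refine ⟨toH.range, hNp.of_surjective _ toH.rangeRestrict_surjective, ?_⟩
      have hsub : ∀ x : α, x ∈ fixedPoints N α → x ∈ F := fun x hx =>
        hFmem.mpr fun a ha => hx ⟨a, hPN.le ha⟩
      have hsN : ∀ i, ((e i : F) : α) ∈ fixedPoints N α := fun i a =>
        DFunLike.congr_fun (hQe (hNQ a.2)) i
      have hle : Nat.card (fixedPoints N α) ≤ k := by
        by_contra hc
        push Not at hc
        have hmem : N ∈ cand := Finset.mem_filter.mpr ⟨Finset.mem_univ _, hNp,
          ne_bot_of_gt hPN, hc⟩
        have h1 := hmax N hmem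
        exact absurd (Subgroup.eq_of_le_of_card_ge hPN.le h1) hPN.ne
      ext x
      constructor
      · intro hx
        have hxN : (x : α) ∈ fixedPoints N α := fun a =>
          congrArg Subtype.val (hx ⟨toH a, ⟨a, rfl⟩⟩)
        by_contra hxs
        have hsub2 : insert (x : α) (Set.range fun i => ((e i : F) : α)) ⊆ fixedPoints N α := by
          rintro y (rfl | ⟨i, rfl⟩)
          · exact hxN
          · exact hsN i
        have h2 := Nat.card_mono (Set.toFinite _) hsub2
        rw [Nat.card_coe_set_eq, Set.ncard_insert_of_notMem] at h2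
        · rw [← Nat.card_coe_set_eq,
            Nat.card_range_of_injective (fun i j h => e.injective (Subtype.ext h)),
            Nat.card_fin] at h2
          omega
        · rintro ⟨i, hi⟩
          exact hxs (he ▸ Finset.mem_map.mpr ⟨i, Finset.mem_univ _, Subtype.ext hi⟩)
      · intro hx
        rw [← he] at hx
        obtain ⟨i, -, rfl⟩ := Finset.mem_map.mp hx
        rintro ⟨_, ⟨a, rfl⟩⟩
        exact Subtype.ext (hsN i a)
  obtain ⟨e', he'⟩ := ih _ hlt (inducedPerms G F) rfl hk (by omega) hGk
  refine ⟨e'.trans (Function.Embedding.subtype _), fun σ hσ => ?_⟩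
  obtain ⟨h, ⟨g, hg, hgh⟩, hh⟩ := he' σ hσ
  exact ⟨g, hg, fun i => by
    show g ((e' i : F) : α) = ((e' (σ i) : F) : α)
    rw [hgh, hh]⟩

/-- In a `k`-transitive permutation group with `4 ≤ k < n`, some `(k+1)`-subset `Δ` has the property that every even permutation of `Δ` is induced by an element of the group stabilising `Δ`. -/
theorem result {α : Type*} [Fintype α] [DecidableEq α] (G : Subgroup (Equiv.Perm α)) {k : ℕ} (hk : 4 ≤ k) (hkn : k < Fintype.card α) (hG : MulAction.IsMultiplyPretransitive G α k) : ∃ Δ : Finset α, Δ.card = k + 1 ∧ ∀ σ : Equiv.Perm ↥Δ, σ ∈ alternatingGroup ↥Δ → ∃ g ∈ G, ∀ x : ↥Δ, g (x : α) = σ x := by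
  classical
  obtain ⟨e, he⟩ := exists_alt _ G rfl hk hkn hG
  refine ⟨Finset.univ.map e, by simp, fun σ hσ => ?_⟩
  let E : Fin (k + 1) ≃ ↥(Finset.univ.map e) :=
    Equiv.ofBijective (fun i => ⟨e i, by simp⟩) ⟨fun i j h => e.injective (congrArg Subtype.val h),
      fun x => by
        obtain ⟨i, -, hi⟩ := Finset.mem_map.mp x.2
        exact ⟨i, Subtype.ext hi⟩⟩
  obtain ⟨g, hg, hgi⟩ := he (E.symm.permCongr σ) (by
    rw [Equiv.Perm.mem_alternatingGroup] at hσ ⊢
    rw [Equiv.Perm.sign_permCongr, hσ])
  refine ⟨g, hg, fun x => ?_⟩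
  obtain ⟨i, rfl⟩ := E.surjective x
  refine (hgi i).trans ?_
  show ((E (E.symm.permCongr σ i) : ↥(Finset.univ.map e)) : α) = _
  simp [Equiv.permCongr_apply]

end Cfsg.Agent.S0747
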