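import Cfsg.Statements.S0748
import Cfsg.Agent.Lib.LWStep59
import Cfsg.Agent.S0746
import Cfsg.Agent.S0747
import Cfsg.Agent.Lib.FourTransOdd30Core

set_option autoImplicit false
open Cfsg

namespace Cfsg.Agent.S0748


open MulAction Cfsg.Agent.LWStep59
open scoped Pointwise

variable {α : Type*} [Fintype α] [DecidableEq α]

/-- a `(k-1)`-transitive `k`-homogeneous group is `k`-transitive, `k ≥ 5` -/
theorem lw_top (G : Subgroup (Equiv.Perm α)) (m : ℕ) (hm : 4 ≤ m)
    (hn : 2 * m + 2 ≤ Fintype.card α) (ht : IsMultiplyPretransitive G α m)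
    (hh : IsPretransitive G (Set.powersetCard α (m + 1))) :
    IsMultiplyPretransitive G α (m + 1) := by
  classical
  by_contra hnt
  obtain ⟨e, hXtop⟩ : ∃ e : Fin (m + 1) ↪ α, tupleGroup G e ≠ ⊤ := by
    by_contra hc
    push Not at hc
    apply hnt
    refine ⟨fun e f => ?_⟩
    obtain ⟨g, hg, π, hπ⟩ := exists_map_eq hh e f
    have hmem : π⁻¹ ∈ tupleGroup G f := by rw [hc f]; trivial
    obtain ⟨h, hh, hhπ⟩ := hmem
    refine ⟨⟨h * g, G.mul_mem hh hg⟩, ?_⟩
    ext i
    show h (g (e i)) = f i
    rw [hπ, hhπ]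
    simp
  set X := tupleGroup G e with hX
  -- `X` contains the alternating group
  obtain ⟨e0, he0⟩ := Cfsg.Agent.S0747.exists_alt (Fintype.card α) G rfl hm (by omega) ht
  have hAX : alternatingGroup (Fin (m + 1)) ≤ X := by
    intro σ hσ
    obtain ⟨g, hg, π, hπ⟩ := exists_map_eq hh e e0
    obtain ⟨h, hh', hhσ⟩ := he0 (π * σ * π⁻¹)
      ((inferInstance : (alternatingGroup (Fin (m + 1))).Normal).conj_mem σ hσ π)
    refine ⟨g⁻¹ * h * g, G.mul_mem (G.mul_mem (G.inv_mem hg) hh') hg, fun i => ?_⟩
    rw [Equiv.Perm.mul_apply, Equiv.Perm.mul_apply, hπ, hhσ, Equiv.Perm.inv_eq_iff_eq, hπ]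
    simp
  have heven : ∀ σ ∈ X, Equiv.Perm.sign σ = 1 := by
    intro σ hσ
    haveI : Nontrivial (Fin (m + 1)) := Fin.nontrivial_iff_two_le.mpr (by omega)
    have h := Subgroup.index_dvd_of_le hAX
    rw [alternatingGroup.index_eq_two] at h
    rcases (Nat.dvd_prime Nat.prime_two).mp h with h | h
    · exact absurd (Subgroup.index_eq_one.mp h) hXtop
    · rw [Equiv.Perm.eq_alternatingGroup_of_index_eq_two (G := X) h] at hσ
      exact Equiv.Perm.mem_alternatingGroup.mp hσ
  have hno : ∀ (z : Equiv.Perm α), z ∈ G → z * z = 1 → ∀ t : Finset α, t.card = m + 1 →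
      (∀ x ∈ t, z x ∈ t) → ∀ j : ℕ, Odd j → (t.filter (fun x => z x ≠ x)).card = 2 * j → False := by
    intro z hz h2 t htc hinv j hj hjc
    obtain ⟨σ, hσ, hs, -⟩ := sign_witness hh e hz h2 t htc hinv j hjc
    rw [heven σ hσ, hj.neg_one_pow] at hs
    exact absurd hs (by decide)
  -- the stabilisers of m-tuples have odd order
  have hodd : ∀ (f : Fin m ↪ α) (g : Equiv.Perm α), g ∈ G → (∀ i, g (f i) = f i) →
      Odd (orderOf g) := by
    intro f g hg hgf
    rw [← Nat.not_even_iff_odd]
    intro hev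
    set z := g ^ (orderOf g / 2) with hz
    have hoz : orderOf z = 2 := orderOf_pow_orderOf_div (orderOf_pos g).ne' (even_iff_two_dvd.mp hev)
    have hz2 : z * z = 1 := by rw [← pow_two, ← hoz, pow_orderOf_eq_one]
    have hzf : ∀ i, z (f i) = f i := fun i =>
      Equiv.Perm.pow_apply_eq_self_of_apply_eq_self (hgf i) _
    obtain ⟨a, ha⟩ : ∃ a, z a ≠ a := by
      by_contra hc
      push Not at hc
      rw [show z = 1 from Equiv.ext hc, orderOf_one] at hoz
      omega
    have hzz : ∀ y, z (z y) = y := fun y => DFunLike.congr_fun hz2 y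
    obtain ⟨s, hs, hsc⟩ := Finset.exists_subset_card_eq (s := Finset.univ.map f) (n := m - 1)
      (by simp)
    have hsfix : ∀ y ∈ s, z y = y := by
      intro y hy
      obtain ⟨i, -, rfl⟩ := Finset.mem_map.mp (hs hy)
      exact hzf i
    have ha' : z (z a) ≠ z a := by rw [hzz]; exact Ne.symm ha
    have hnot : a ∉ s ∧ z a ∉ s := ⟨fun h => ha (hsfix a h), fun h => ha' (hsfix _ h)⟩
    refine hno z (G.pow_mem hg _) hz2 (insert a (insert (z a) s)) ?_ ?_ 1 odd_one ?_
    · rw [Finset.card_insert_of_notMem (by simp [hnot.1, Ne.symm ha]),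
        Finset.card_insert_of_notMem hnot.2, hsc]
      omega
    · intro y hy
      simp only [Finset.mem_insert] at hy ⊢
      rcases hy with rfl | rfl | hy
      · exact Or.inr (Or.inl rfl)
      · exact Or.inl (hzz a)
      · exact Or.inr (Or.inr (by rw [hsfix y hy]; exact hy))
    · rw [Finset.filter_insert, if_pos ha, Finset.filter_insert, if_pos ha',
        Finset.filter_false_of_mem (fun y hy => not_not.mpr (hsfix y hy))]
      simp [Ne.symm ha]
  obtain ⟨u⟩ : Nonempty (Fin m ↪ α) :=
    Function.Embedding.nonempty_of_card_le (by rw [Fintype.card_fin]; omega)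
  -- an involution swapping two points of `u`
  set i0 : Fin m := ⟨0, by omega⟩ with hi0
  set i1 : Fin m := ⟨1, by omega⟩ with hi1
  have h01 : i0 ≠ i1 := by simp [hi0, hi1]
  obtain ⟨g, hg⟩ := ht.exists_smul_eq u ((Equiv.swap i0 i1).toEmbedding.trans u)
  have hgu : ∀ i, (g : Equiv.Perm α) (u i) = u (Equiv.swap i0 i1 i) := fun i =>
    DFunLike.congr_fun hg i
  set g2 : Equiv.Perm α := (g : Equiv.Perm α) * (g : Equiv.Perm α) with hg2
  have hg2u : ∀ i, g2 (u i) = u i := fun i => by
    rw [hg2, Equiv.Perm.mul_apply, hgu, hgu, Equiv.swap_apply_self]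
  obtain ⟨q, hq⟩ := hodd u g2 (G.mul_mem g.2 g.2) hg2u
  set t : Equiv.Perm α := g2 ^ q * (g : Equiv.Perm α) with htdef
  have htG : t ∈ G := G.mul_mem (G.pow_mem (G.mul_mem g.2 g.2) _) g.2
  have htu : ∀ i, t (u i) = u (Equiv.swap i0 i1 i) := fun i => by
    rw [htdef, Equiv.Perm.mul_apply, hgu, Equiv.Perm.pow_apply_eq_self_of_apply_eq_self (hg2u _) q]
  have ht2 : t * t = 1 := by
    have hpow : t = (g : Equiv.Perm α) ^ (2 * q + 1) := by
      rw [htdef, hg2, ← pow_two, ← pow_mul, pow_succ]
    rw [hpow, ← pow_add, ← two_mul, pow_mul, pow_two, ← hg2, ← hq, pow_orderOf_eq_one]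
  have hzz : ∀ y, t (t y) = y := fun y => DFunLike.congr_fun ht2 y
  have ht1 : t ≠ 1 := by
    intro h
    have := htu i0
    rw [h, Equiv.swap_apply_left] at this
    exact h01 (u.injective this)
  have hfix : (Finset.univ.filter (fun y => t y = y)).card < m := by
    by_contra hc
    obtain ⟨f⟩ : Nonempty (Fin m ↪ {y : α // t y = y}) :=
      Function.Embedding.nonempty_of_card_le (by
        rw [Fintype.card_fin, Fintype.card_subtype]; omega)
    obtain ⟨r, hr⟩ := hodd (f.trans (Function.Embedding.subtype _)) t htG (fun i => (f i).2)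
    have hd : orderOf t ∣ 2 := orderOf_dvd_of_pow_eq_one (by rw [pow_two, ht2])
    rcases (Nat.dvd_prime Nat.prime_two).1 hd with h | h
    · exact ht1 (orderOf_eq_one_iff.1 h)
    · omega
  obtain ⟨Q, hQ, hQc⟩ : ∃ Q : Finset α, (∀ y ∈ Q, t y = y) ∧ Q.card = m - 2 := by
    refine ⟨((Finset.univ.map u).erase (u i0)).erase (u i1), fun y hy => ?_, ?_⟩
    · simp only [Finset.mem_erase, Finset.mem_map, Finset.mem_univ, true_and] at hy
      obtain ⟨hy1, hy0, i, rfl⟩ := hy
      rw [htu, Equiv.swap_apply_of_ne_of_ne (fun h => hy0 (congrArg u h))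
        (fun h => hy1 (congrArg u h))]
    · rw [Finset.card_erase_of_mem (by simp [Ne.symm h01]), Finset.card_erase_of_mem (by simp),
        Finset.card_map, Finset.card_univ, Fintype.card_fin]
      omega
  set M := Finset.univ.filter (fun y => t y ≠ y) with hMdef
  have hcards : (Finset.univ.filter (fun y => t y = y)).card + M.card = Fintype.card α :=
    Finset.card_filter_add_card_filter_not _
  have hstep : ∀ P : Finset α, P ⊆ M → (∀ y ∈ P, t y ∈ P) → P.card < M.card →
      ∃ P' : Finset α, P' ⊆ M ∧ (∀ y ∈ P', t y ∈ P') ∧ P'.card = P.card + 2 := by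
    intro P hP hPinv hPc
    obtain ⟨y, hy⟩ : (M \ P).Nonempty := by
      rw [← Finset.card_pos, Finset.card_sdiff_of_subset hP]
      omega
    obtain ⟨hyM, hyP⟩ := Finset.mem_sdiff.mp hy
    have hy' : t y ≠ y := (Finset.mem_filter.mp hyM).2
    have hty : t y ∉ P := fun h => hyP (hzz y ▸ hPinv _ h)
    refine ⟨insert y (insert (t y) P), ?_, ?_, ?_⟩
    · intro w hw
      simp only [Finset.mem_insert] at hw
      rcases hw with rfl | rfl | hw
      · exact hyM
      · exact Finset.mem_filter.mpr ⟨Finset.mem_univ _, by rw [hzz]; exact Ne.symm hy'⟩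
      · exact hP hw
    · intro w hw
      simp only [Finset.mem_insert] at hw ⊢
      rcases hw with rfl | rfl | hw
      · exact Or.inr (Or.inl rfl)
      · exact Or.inl (hzz y)
      · exact Or.inr (Or.inr (hPinv _ hw))
    · rw [Finset.card_insert_of_notMem (by simp [hyP, Ne.symm hy']),
        Finset.card_insert_of_notMem hty]
  obtain ⟨P1, hP1, hP1i, hP1c⟩ := hstep ∅ (Finset.empty_subset _) (by simp) (by
    rw [Finset.card_empty]; omega)
  rw [Finset.card_empty] at hP1c
  -- helper: a pair set together with fixed points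
  have hcombine : ∀ (P R : Finset α) (j : ℕ), P ⊆ M → (∀ y ∈ P, t y ∈ P) → P.card = 2 * j →
      Odd j → (∀ y ∈ R, t y = y) → P.card + R.card = m + 1 → False := by
    intro P R j hP hPi hPc hj hR hsum
    have hdisj : Disjoint P R := Finset.disjoint_left.mpr fun y hyP hyR =>
      (Finset.mem_filter.mp (hP hyP)).2 (hR y hyR)
    refine hno t htG ht2 (P ∪ R) (by rw [Finset.card_union_of_disjoint hdisj, hsum]) ?_ j hj ?_
    · intro y hy
      rcases Finset.mem_union.mp hy with hy | hy
      · exact Finset.mem_union_left _ (hPi y hy)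
      · rw [hR y hy]; exact Finset.mem_union_right _ hy
    · rw [Finset.filter_union, Finset.filter_true_of_mem
        (fun y hy => (Finset.mem_filter.mp (hP hy)).2),
        Finset.filter_false_of_mem (fun y hy => not_not.mpr (hR y hy)), Finset.union_empty, hPc]
  rcases (show m = 4 ∨ 5 ≤ m by omega) with rfl | hm5
  · -- k = 5 : the degree is even
    rcases Nat.even_or_odd (Fintype.card α) with hne | hno'
    · refine Cfsg.Agent.FourTransOdd30.even_false (G := G) ⟨ht, ?_⟩ (by omega) hne
      intro g hg a b c d hnd ha hb hc hd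
      have hF : Cfsg.Agent.FourTransOdd30.Four a b c d := by
        simp only [List.nodup_cons, List.mem_cons, List.not_mem_nil, or_false, not_or,
          List.nodup_nil, and_true, not_false_eq_true] at hnd
        obtain ⟨⟨h1, h2, h3⟩, ⟨h4, h5⟩, h6⟩ := hnd
        exact ⟨h1, h2, h3, h4, h5, h6⟩
      refine hodd ⟨_, hF.injective⟩ g hg (fun i => ?_)
      fin_cases i
      · exact ha
      · exact hb
      · exact hc
      · exact hd
    · -- a third fixed point
      obtain ⟨x, hx⟩ : (Finset.univ.filter (fun y => t y = y) \ Q).Nonempty := by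
        rw [← Finset.card_pos]
        have h1 := Finset.le_card_sdiff Q (Finset.univ.filter (fun y => t y = y))
        have hev : Even M.card := by
          have h := Equiv.Perm.two_dvd_card_support (σ := t) (by rw [pow_two, ht2])
          rw [even_iff_two_dvd]
          have e' : M = t.support := by ext y; simp [hMdef]
          rwa [e']
        rw [Nat.even_iff] at hev
        rw [Nat.odd_iff] at hno'
        have hQsub : Q ⊆ Finset.univ.filter (fun y => t y = y) := fun y hy =>
          Finset.mem_filter.mpr ⟨Finset.mem_univ _, hQ y hy⟩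
        have := Finset.card_le_card hQsub
        omega
      obtain ⟨hx1, hxQ⟩ := Finset.mem_sdiff.mp hx
      refine hcombine P1 (insert x Q) 1 hP1 hP1i (by omega) odd_one ?_ ?_
      · intro y hy
        rcases Finset.mem_insert.mp hy with rfl | hy
        · exact (Finset.mem_filter.mp hx1).2
        · exact hQ y hy
      · rw [Finset.card_insert_of_notMem hxQ]; omega
  · obtain ⟨P2, hP2, hP2i, hP2c⟩ := hstep P1 hP1 hP1i (by omega)
    obtain ⟨P3, hP3, hP3i, hP3c⟩ := hstep P2 hP2 hP2i (by omega)
    obtain ⟨R, hR, hRc⟩ := Finset.exists_subset_card_eq (s := Q) (n := m - 5) (by omega)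
    exact hcombine P3 R 3 hP3 hP3i (by omega) (by decide) (fun y hy => hQ y (hR hy)) (by omega)

/-- The Livingstone–Wagner Theorem: a `k`-homogeneous permutation group of degree `n` with `10 ≤ 2k ≤ n` is `k`-transitive. -/
theorem result {α : Type*} [Fintype α] [DecidableEq α] (G : Subgroup (Equiv.Perm α)) {k : ℕ} (hk : 5 ≤ k) (hkn : 2 * k ≤ Fintype.card α) (hh : MulAction.IsPretransitive G (Set.powersetCard α k)) : MulAction.IsMultiplyPretransitive G α k := by
  obtain ⟨m, rfl⟩ : ∃ m, k = m + 1 := ⟨k - 1, by omega⟩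
  exact lw_top G m (by omega) (by omega)
    (Cfsg.Agent.S0746.result G (by omega) hkn hh) hh

end Cfsg.Agent.S0748
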