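import Cfsg.Statements.S0752
import Mathlib
import Cfsg.Agent.Lib.SymplecticAlt

set_option autoImplicit false
open Cfsg

namespace Cfsg.Agent.S0752

/-- Classification of alternating forms: for an alternating bilinear form B on a finite-dimensional space over any field there is a basis indexed by (Fin m ⊕ Fin m) ⊕ Fin k such that B (e_i, f_j) = δ_ij, the e's are pairwise orthogonal, the f's are pairwise orthogonal, and the last k basis vectors are orthogonal to everything (they span the radical). -/
theorem result {F V : Type*} [Field F] [AddCommGroup V] [Module F V] [FiniteDimensional F V] (B : LinearMap.BilinForm F V) (hA : B.IsAlt) : ∃ (m k : ℕ) (b : Module.Basis ((Fin m ⊕ Fin m) ⊕ Fin k) F V), (∀ i j : Fin m, B (b (Sum.inl (Sum.inl i))) (b (Sum.inl (Sum.inr j))) = if i = j then 1 else 0) ∧ (∀ i j : Fin m, B (b (Sum.inl (Sum.inl i))) (b (Sum.inl (Sum.inl j))) = 0) ∧ (∀ i j : Fin m, B (b (Sum.inl (Sum.inr i))) (b (Sum.inl (Sum.inr j))) = 0) ∧ (∀ (j : Fin k) (v : V), B (b (Sum.inr j)) v = 0) := by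
  classical
  have hB : ∀ v, B v v = 0 := hA
  obtain ⟨W, hW⟩ := (LinearMap.ker B).exists_isCompl
  have hnd : ∀ u ∈ W, (∀ v ∈ W, B u v = 0) → u = 0 := by
    intro u hu h
    have hk : u ∈ LinearMap.ker B := by
      refine LinearMap.mem_ker.mpr (LinearMap.ext fun x => ?_)
      obtain ⟨a, ha, c, hc, rfl⟩ := Submodule.mem_sup.mp
        (show x ∈ LinearMap.ker B ⊔ W by rw [hW.sup_eq_top]; exact Submodule.mem_top)
      rw [map_add, h c hc, Cfsg.Agent.SymplecticAlt.swap_neg B hB a u, LinearMap.mem_ker.mp ha]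
      simp
    exact (Submodule.disjoint_def.mp hW.disjoint) u hk hu
  obtain ⟨m, hm, e, he, hform⟩ := Cfsg.Agent.SymplecticAlt.exists_symp_basis B hB _ W rfl hnd
  let f : Fin m ⊕ Fin m → W := fun s => ⟨e s.swap, he _⟩
  have h1 : ∀ i j : Fin m, B (e (Sum.inr i)) (e (Sum.inl j)) = if i = j then 1 else 0 := by
    intro i j
    rw [hform, Cfsg.Agent.SymplecticBasic.form_single_inl_right]
    simp [Pi.single_apply, eq_comm]
  have h2 : ∀ i j : Fin m, B (e (Sum.inr i)) (e (Sum.inr j)) = 0 := by
    intro i j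
    rw [hform, Cfsg.Agent.SymplecticBasic.form_single_inr_right]
    simp
  have h3 : ∀ i j : Fin m, B (e (Sum.inl i)) (e (Sum.inl j)) = 0 := by
    intro i j
    rw [hform, Cfsg.Agent.SymplecticBasic.form_single_inl_right]
    simp
  have hli : LinearIndependent F f := by
    rw [Fintype.linearIndependent_iff]
    intro c hc
    have hsum : ∑ s, c s • e s.swap = 0 := by
      simpa [f, Submodule.coe_sum] using congrArg Subtype.val hc
    rintro (i | i)
    · have := congrArg (fun x => B x (e (Sum.inl i))) hsum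
      simpa [Fintype.sum_sum_type, h1, h3] using this
    · have := congrArg (fun x => B (e (Sum.inr i)) x) hsum
      simpa [Fintype.sum_sum_type, h1, h2] using this
  let bW : Module.Basis (Fin m ⊕ Fin m) F W := Module.Basis.mk hli
    (hli.span_eq_top_of_card_eq_finrank' (by simp; omega)).ge
  let bK := Module.finBasis F (LinearMap.ker B)
  let b := (bW.prod bK).map (Submodule.prodEquivOfIsCompl W (LinearMap.ker B) hW.symm)
  have hb1 : ∀ s, b (Sum.inl s) = e s.swap := by intro s; simp [b, bW, f]
  have hb2 : ∀ j, b (Sum.inr j) ∈ LinearMap.ker B := by intro j; simp [b]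
  refine ⟨m, _, b, fun i j => ?_, fun i j => ?_, fun i j => ?_, fun j v => ?_⟩
  · rw [hb1, hb1]; exact h1 i j
  · rw [hb1, hb1]; exact h2 i j
  · rw [hb1, hb1]; exact h3 i j
  · rw [LinearMap.mem_ker.mp (hb2 j)]; rfl

end Cfsg.Agent.S0752
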