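import Cfsg.Statements.S0754
import Mathlib

set_option autoImplicit false
open Cfsg

namespace Cfsg.Agent.S0754

/-- In a field F with q^2 elements, every non-zero μ with μ^q = μ (that is, μ in the subfield of order q) has exactly q + 1 solutions λ of λ^(q+1) = μ. -/
theorem result {F : Type*} [Field F] [Fintype F] {q : ℕ} (hF : Fintype.card F = q ^ 2) (μ : F) (hμ : μ ≠ 0) (hμq : μ ^ q = μ) : Nat.card {x : F // x ^ (q + 1) = μ} = q + 1 := by
  classical
  have hq : 2 ≤ q := by
    by_contra h
    have := Fintype.one_lt_card (α := F)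
    interval_cases q <;> simp_all
  obtain ⟨g, hg⟩ := IsCyclic.exists_monoid_generator (α := Fˣ)
  have hord : orderOf g = q ^ 2 - 1 := by
    rw [orderOf_eq_card_of_forall_mem_zpowers, Nat.card_eq_fintype_card, Fintype.card_units, hF]
    intro x
    exact mem_powers_iff_mem_zpowers.mp (hg x)
  obtain ⟨i, hi⟩ := Submonoid.mem_powers_iff _ _ |>.mp (hg (Units.mk0 μ hμ))
  have hfac : q ^ 2 - 1 = (q + 1) * (q - 1) := by
    have := Nat.sq_sub_sq q 1
    simpa using this
  have hdvd : q + 1 ∣ i := by
    have h1 : g ^ (i * (q - 1)) = 1 := by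
      have h2 : (Units.mk0 μ hμ) ^ (q - 1) = 1 := by
        apply Units.ext
        simp only [Units.val_pow_eq_pow_val, Units.val_mk0, Units.val_one]
        apply mul_right_cancel₀ hμ
        rw [one_mul, ← pow_succ, Nat.sub_add_cancel (by omega), hμq]
      rwa [← hi, ← pow_mul] at h2
    have h3 := orderOf_dvd_of_pow_eq_one h1
    rw [hord, hfac] at h3
    exact Nat.dvd_of_mul_dvd_mul_right (by omega) h3
  obtain ⟨j, rfl⟩ := hdvd
  have e : {x : F // x ^ (q + 1) = μ} ≃ (powMonoidHom (q + 1) : Fˣ →* Fˣ).ker :=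
    { toFun := fun x => ⟨Units.mk0 x.1 (fun h => hμ (by rw [← x.2, h, zero_pow (by omega)])) / g ^ j, by
        have hi' := congrArg Units.val hi
        simp only [Units.val_pow_eq_pow_val, Units.val_mk0] at hi'
        simp only [MonoidHom.mem_ker, powMonoidHom_apply, div_pow, div_eq_one]
        apply Units.ext
        simp only [Units.val_pow_eq_pow_val, Units.val_mk0]
        rw [x.2, ← hi', ← pow_mul, mul_comm]⟩
      invFun := fun u => ⟨((u.1 * g ^ j : Fˣ) : F), by
        have hu := u.2
        simp only [MonoidHom.mem_ker, powMonoidHom_apply] at hu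
        rw [← Units.val_pow_eq_pow_val, mul_pow, hu, one_mul, ← pow_mul, mul_comm j, hi]
        rfl⟩
      left_inv := fun x => by apply Subtype.ext; simp
      right_inv := fun u => by apply Subtype.ext; ext; simp }
  rw [Nat.card_congr e, IsCyclic.card_powMonoidHom_ker, Nat.card_eq_fintype_card,
    Fintype.card_units, hF, hfac]
  exact Nat.gcd_eq_right (Dvd.intro _ rfl)

end Cfsg.Agent.S0754
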