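import Cfsg.Statements.S0755
import Mathlib
import Cfsg.Agent.S0753

set_option autoImplicit false
open Cfsg

namespace Cfsg.Agent.S0755

open Polynomial in
theorem exists_norm {F : Type*} [Field F] [Finite F] (σ : F →+* F) (hσ : σ ≠ RingHom.id F)
    (hσ2 : ∀ a : F, σ (σ a) = a) (c : F) (hc : σ c = c) : ∃ t, t * σ t = c := by
  classical
  cases nonempty_fintype F
  by_cases h2 : ringChar F = 2
  · obtain ⟨a, ha⟩ := FiniteField.isSquare_of_char_two h2 c
    have : CharP F 2 := by rw [← h2]; exact ringChar.charP F
    have hfix : σ a = a := by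
      apply CharTwo.sq_injective
      show σ a ^ 2 = a ^ 2
      rw [pow_two, pow_two, ← map_mul, ← ha, hc]
    exact ⟨a, by rw [hfix, ← ha]⟩
  · obtain ⟨e, he⟩ : ∃ e, σ e ≠ e := by
      by_contra h
      push Not at h
      exact hσ (RingHom.ext h)
    let K : Subfield F := RingHom.eqLocusField σ (RingHom.id F)
    set δ := σ e - e with hδ
    have hδ0 : δ ≠ 0 := sub_ne_zero.mpr he
    have hσδ : σ δ = -δ := by rw [hδ, map_sub, hσ2]; ring
    have hδK : δ ^ 2 ∈ K := show σ (δ ^ 2) = δ ^ 2 by rw [map_pow, hσδ, neg_sq]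
    have hcK : c ∈ K := hc
    have hcard : Fintype.card K % 2 = 1 := by
      apply FiniteField.odd_card_of_char_ne_two
      intro h
      apply h2
      have : CharP K 2 := by rw [← h]; exact ringChar.charP K
      exact ringChar.eq_iff.mpr (charP_of_injective_ringHom K.subtype.injective 2)
    let u : K := -⟨δ ^ 2, hδK⟩
    let c' : K := ⟨c, hcK⟩
    have hu : u ≠ 0 := by
      intro h
      have h' := congrArg Subtype.val h
      simp [u] at h'
      exact hδ0 h'
    obtain ⟨a, b, hab⟩ := FiniteField.exists_root_sum_quadratic (R := K) (f := X ^ 2)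
      (g := C u * X ^ 2 - C c') (degree_X_pow 2)
      (by rw [degree_sub_C (by rw [degree_C_mul_X_pow _ hu]; norm_num), degree_C_mul_X_pow _ hu]; rfl)
      hcard
    simp only [eval_pow, eval_X, eval_sub, eval_mul, eval_C] at hab
    have hab' := congrArg (Subtype.val) hab
    simp [u, c'] at hab'
    refine ⟨(a : F) + b * δ, ?_⟩
    have ha : σ (a : F) = a := a.2
    have hb : σ (b : F) = b := b.2
    rw [map_add, map_mul, ha, hb, hσδ]
    linear_combination hab'

theorem exists_orthonormal.{u₁, u₂} {F : Type u₁} [Field F] [Finite F] (σ : F →+* F) (hσ : σ ≠ RingHom.id F)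
    (hσ2 : ∀ a : F, σ (σ a) = a) : ∀ (n : ℕ) {V : Type u₂} [AddCommGroup V] [Module F V]
    [FiniteDimensional F V] (B : V →ₛₗ[σ] V →ₗ[F] F), B.IsSymm → B.Nondegenerate →
    Module.finrank F V = n → ∃ v : Fin n → V, ∀ i j, B (v i) (v j) = if i = j then 1 else 0 := by
  classical
  intro n
  induction n with
  | zero => intros; exact ⟨Fin.elim0, fun i => i.elim0⟩
  | succ n ih =>
    intro V _ _ _ B hS hB hn
    obtain ⟨v₀, hv₀⟩ : ∃ v, B v v ≠ 0 := by
      by_contra h
      push Not at h
      have h0 := Cfsg.Agent.S0753.result σ hσ B hS h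
      have : Nontrivial V := Module.nontrivial_of_finrank_pos (R := F) (by omega)
      obtain ⟨x, hx⟩ := exists_ne (0 : V)
      exact hx (hB.1 x fun y => by simp [h0])
    obtain ⟨t, ht⟩ := exists_norm σ hσ hσ2 (B v₀ v₀) (hS.eq v₀ v₀)
    have ht0 : t ≠ 0 := by rintro rfl; simp at ht; exact hv₀ ht.symm
    set v := t⁻¹ • v₀ with hv
    have hvv : B v v = 1 := by
      simp only [hv, map_smulₛₗ, LinearMap.smul_apply, smul_eq_mul, RingHom.id_apply, map_inv₀, ← ht]
      have : σ t ≠ 0 := (map_ne_zero σ).mpr ht0
      field_simp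
    let W : Submodule F V := LinearMap.ker (B v)
    have hW : Module.finrank F W = n := by
      have h1 := LinearMap.finrank_range_add_finrank_ker (B v)
      rw [LinearMap.range_eq_top.mpr (LinearMap.surjective (by
        intro h; rw [h] at hvv; simp at hvv)), finrank_top, Module.finrank_self, hn] at h1
      show Module.finrank F (LinearMap.ker (B v)) = n
      omega
    let B' : W →ₛₗ[σ] W →ₗ[F] F := (B.comp W.subtype).compl₂ W.subtype
    have hsep : ∀ w : W, (∀ w' : W, B' w w' = 0) → w = 0 := by
      intro w hw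
      apply Subtype.ext
      refine hB.1 w fun z => ?_
      have hz : z - (B v z) • v ∈ W := by simp [W, hvv]
      have h1 : B (w : V) (z - (B v z) • v) = 0 := hw ⟨_, hz⟩
      have h2 : B (w : V) v = 0 := by
        rw [← hS.eq v (w : V), show B v (w : V) = 0 from w.2, map_zero]
      simpa [h2] using h1
    have hS' : B'.IsSymm := ⟨fun a b => hS.eq (a : V) (b : V)⟩
    obtain ⟨f, hf⟩ := ih B' hS' ⟨hsep, fun w hw => hsep w fun w' => by
      rw [← hS'.eq w' w, hw w', map_zero]⟩ hW
    refine ⟨Fin.cons v (fun i => (f i : V)), fun i j => ?_⟩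
    have hfv : ∀ i, B v (f i : V) = 0 := fun i => (f i).2
    induction i using Fin.cases with
    | zero =>
      induction j using Fin.cases with
      | zero => simp [hvv]
      | succ j => simp [hfv, (Fin.succ_ne_zero j).symm]
    | succ i =>
      induction j using Fin.cases with
      | zero => simp [← hS.eq v (f i : V), hfv]
      | succ j =>
        simp only [Fin.cons_succ, Fin.succ_inj]
        exact hf i j

/-- Classification of Hermitian forms over finite fields: if σ is a non-identity involutive automorphism of the finite field F and B is a non-degenerate conjugate-symmetric σ-sesquilinear form on the finite-dimensional space V, then V has a B-orthonormal basis. -/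
theorem result {F V : Type*} [Field F] [Finite F] [AddCommGroup V] [Module F V] [FiniteDimensional F V] (σ : F →+* F) (hσ : σ ≠ RingHom.id F) (hσ2 : ∀ a : F, σ (σ a) = a) (B : V →ₛₗ[σ] V →ₗ[F] F) (hS : B.IsSymm) (hB : B.Nondegenerate) : ∃ b : Module.Basis (Fin (Module.finrank F V)) F V, ∀ i j, B (b i) (b j) = if i = j then 1 else 0 := by
  classical
  obtain ⟨v, hv⟩ := exists_orthonormal σ hσ hσ2 _ B hS hB rfl
  have hli : LinearIndependent F v := by
    rw [Fintype.linearIndependent_iff]
    intro c hc i
    have := congrArg (B (v i)) hc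
    simpa [map_sum, hv] using this
  exact ⟨Module.Basis.mk hli (hli.span_eq_top_of_card_eq_finrank' (by simp)).ge,
    fun i j => by simp [hv]⟩

end Cfsg.Agent.S0755
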