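import Cfsg.Statements.S0756
import Mathlib

set_option autoImplicit false
open Cfsg

namespace Cfsg.Agent.S0756

theorem mul_isSquare {F : Type*} [Field F] [Finite F] {a b : F} (ha : ¬ IsSquare a)
    (hb : ¬ IsSquare b) : IsSquare (a * b) := by
  classical
  cases nonempty_fintype F
  have hab : a * b ≠ 0 := mul_ne_zero (fun h => ha (h ▸ IsSquare.zero)) (fun h => hb (h ▸ IsSquare.zero))
  rw [← quadraticChar_one_iff_isSquare hab, map_mul, quadraticChar_neg_one_iff_not_isSquare.mpr ha,
    quadraticChar_neg_one_iff_not_isSquare.mpr hb]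
  rfl

theorem exists_self_ne_zero {F V : Type*} [Field F] [AddCommGroup V] [Module F V] [Nontrivial V]
    (h2 : (2 : F) ≠ 0) (B : LinearMap.BilinForm F V) (hS : B.IsSymm) (hB : B.Nondegenerate) :
    ∃ v, B v v ≠ 0 := by
  by_contra h
  push Not at h
  obtain ⟨x, hx⟩ := exists_ne (0 : V)
  refine hx (hB.1 x fun y => ?_)
  have := h (x + y)
  simp only [map_add, LinearMap.add_apply, h x, h y, hS.eq y x] at this
  exact (mul_right_inj' h2).mp (by linear_combination this)

/-- Splitting off a vector of non-zero norm. -/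
theorem restrict_ker {F V : Type*} [Field F] [AddCommGroup V] [Module F V] [FiniteDimensional F V]
    (B : LinearMap.BilinForm F V) (hS : B.IsSymm) (hB : B.Nondegenerate) {v : V} (hv : B v v ≠ 0) :
    (B.restrict (LinearMap.ker (B v))).IsSymm ∧
      (B.restrict (LinearMap.ker (B v))).Nondegenerate ∧
      Module.finrank F (LinearMap.ker (B v)) + 1 = Module.finrank F V := by
  have hsep : ∀ w : LinearMap.ker (B v), (∀ w' : LinearMap.ker (B v), B (w : V) (w' : V) = 0) →
      w = 0 := by
    intro w hw
    apply Subtype.ext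
    refine hB.1 w fun z => ?_
    have hz : z - (B v z / B v v) • v ∈ LinearMap.ker (B v) := by simp [hv]
    have h1 := hw ⟨_, hz⟩
    have h2 : B (w : V) v = 0 := by rw [hS.eq]; exact w.2
    simpa [h2] using h1
  refine ⟨⟨fun a b => hS.eq (a : V) (b : V)⟩,
    ⟨hsep, fun w hw => hsep w fun w' => by rw [hS.eq]; exact hw w'⟩, ?_⟩
  have h1 := LinearMap.finrank_range_add_finrank_ker (B v)
  rw [LinearMap.range_eq_top.mpr (LinearMap.surjective (by
    intro h; exact hv (by rw [h]; rfl))), finrank_top, Module.finrank_self] at h1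
  omega

open Polynomial in
theorem exists_family.{u₁, u₂} {F : Type u₁} [Field F] [Finite F] (h2 : (2 : F) ≠ 0) (α : F)
    (hα : ¬ IsSquare α) : ∀ (n : ℕ) {V : Type u₂} [AddCommGroup V] [Module F V]
    [FiniteDimensional F V] (B : LinearMap.BilinForm F V), B.IsSymm → B.Nondegenerate →
    Module.finrank F V = n + 1 → ∃ b : Fin (n + 1) → V, (∀ i j, i ≠ j → B (b i) (b j) = 0) ∧
      (∀ i, i ≠ Fin.last n → B (b i) (b i) = 1) ∧
      (B (b (Fin.last n)) (b (Fin.last n)) = 1 ∨ B (b (Fin.last n)) (b (Fin.last n)) = α) := by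
  classical
  intro n
  induction n with
  | zero =>
    intro V _ _ _ B hS hB hn
    have : Nontrivial V := Module.nontrivial_of_finrank_pos (R := F) (by omega)
    obtain ⟨v, hv⟩ := exists_self_ne_zero h2 B hS hB
    have key : ∀ t : F, t ≠ 0 → ∀ c, B v v = c * (t * t) →
        B (t⁻¹ • v) (t⁻¹ • v) = c := by
      intro t ht c hc
      simp [hc]
      field_simp
    by_cases hsq : IsSquare (B v v)
    · obtain ⟨t, ht⟩ := hsq
      refine ⟨fun _ => t⁻¹ • v, fun i j hij => absurd (Subsingleton.elim (α := Fin 1) i j) hij,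
        fun i hi => absurd (Subsingleton.elim (α := Fin 1) i _) hi,
        Or.inl (key t (by rintro rfl; simp_all) 1 (by rw [one_mul]; exact ht))⟩
    · obtain ⟨t, ht⟩ := mul_isSquare hsq (fun h => hα (by
        obtain ⟨r, hr⟩ := h; exact ⟨r⁻¹, by rw [← mul_inv, ← hr, inv_inv]⟩) : ¬ IsSquare α⁻¹)
      have hα0 : α ≠ 0 := fun h => hα (h ▸ IsSquare.zero)
      have hc : B v v = α * (t * t) := by rw [← ht]; field_simp
      exact ⟨fun _ => t⁻¹ • v, fun i j hij => absurd (Subsingleton.elim (α := Fin 1) i j) hij,
        fun i hi => absurd (Subsingleton.elim (α := Fin 1) i _) hi,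
        Or.inr (key t (by rintro rfl; simp at hc; exact hv hc) α hc)⟩
  | succ n ih =>
    intro V _ _ _ B hS hB hn
    cases nonempty_fintype F
    obtain ⟨v, hv⟩ : ∃ v, B v v = 1 := by
      have : Nontrivial V := Module.nontrivial_of_finrank_pos (R := F) (by omega)
      obtain ⟨u, hu⟩ := exists_self_ne_zero h2 B hS hB
      obtain ⟨hS', hB', hr⟩ := restrict_ker B hS hB hu
      have : Nontrivial (LinearMap.ker (B u)) :=
        Module.nontrivial_of_finrank_pos (R := F) (by omega)
      obtain ⟨w, hw⟩ := exists_self_ne_zero h2 _ hS' hB'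
      have hodd : Fintype.card F % 2 = 1 := FiniteField.odd_card_of_char_ne_two fun h => h2 (by
        have := ringChar.charP F; rw [h] at this; exact CharP.cast_eq_zero F 2)
      have hw' : B (w : V) (w : V) ≠ 0 := hw
      obtain ⟨x, y, hxy⟩ := FiniteField.exists_root_sum_quadratic (R := F)
        (f := C (B u u) * X ^ 2) (g := C (B (w : V) (w : V)) * X ^ 2 - C 1)
        (degree_C_mul_X_pow 2 hu)
        ((degree_sub_C (by rw [degree_C_mul_X_pow 2 hw']; norm_num)).trans
          (degree_C_mul_X_pow 2 hw')) hodd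
      simp only [eval_pow, eval_X, eval_sub, eval_mul, eval_C] at hxy
      refine ⟨x • u + y • (w : V), ?_⟩
      have huw : B u (w : V) = 0 := w.2
      simp only [map_add, map_smul, LinearMap.add_apply, LinearMap.smul_apply, smul_eq_mul,
        hS.eq (w : V) u, huw]
      linear_combination hxy
    obtain ⟨hS', hB', hr⟩ := restrict_ker B hS hB (v := v) (by rw [hv]; exact one_ne_zero)
    obtain ⟨f, hf1, hf2, hf3⟩ := ih _ hS' hB' (by omega)
    have hfv : ∀ i, B v (f i : V) = 0 := fun i => (f i).2
    refine ⟨Fin.cons v (fun i => (f i : V)), fun i j hij => ?_, fun i hi => ?_, ?_⟩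
    · induction i using Fin.cases with
      | zero =>
        induction j using Fin.cases with
        | zero => exact absurd rfl hij
        | succ j => simp [hfv]
      | succ i =>
        induction j using Fin.cases with
        | zero => simp [hS.eq (f i : V) v, hfv]
        | succ j => simpa using hf1 i j (by simpa using hij)
    · induction i using Fin.cases with
      | zero => simpa using hv
      | succ i =>
        simpa using hf2 i (by rintro rfl; exact hi (Fin.succ_last n))
    · rw [← Fin.succ_last n]
      simpa using hf3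

/-- Classification of symmetric bilinear forms over finite fields of odd characteristic: if B is non-degenerate symmetric on V of dimension n + 1 and α is a fixed non-square of F, there is an orthogonal basis b_0, ..., b_n with B(b_i, b_i) = 1 for i < n and B(b_n, b_n) ∈ {1, α}. -/
theorem result {F V : Type*} [Field F] [Finite F] [AddCommGroup V] [Module F V] [FiniteDimensional F V] (h2 : (2 : F) ≠ 0) (B : LinearMap.BilinForm F V) (hS : B.IsSymm) (hB : B.Nondegenerate) {n : ℕ} (hn : Module.finrank F V = n + 1) (α : F) (hα : ¬ IsSquare α) : ∃ b : Module.Basis (Fin (n + 1)) F V, (∀ i j, i ≠ j → B (b i) (b j) = 0) ∧ (∀ i, i ≠ Fin.last n → B (b i) (b i) = 1) ∧ (B (b (Fin.last n)) (b (Fin.last n)) = 1 ∨ B (b (Fin.last n)) (b (Fin.last n)) = α) := by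
  classical
  obtain ⟨b, h1, h2', h3⟩ := exists_family h2 α hα n B hS hB hn
  have hne : ∀ i, B (b i) (b i) ≠ 0 := by
    intro i
    by_cases hi : i = Fin.last n
    · subst hi
      rcases h3 with h | h <;> rw [h]
      · exact one_ne_zero
      · exact fun h0 => hα (h0 ▸ IsSquare.zero)
    · rw [h2' i hi]; exact one_ne_zero
  have hli : LinearIndependent F b := by
    rw [Fintype.linearIndependent_iff]
    intro c hc i
    have := congrArg (B (b i)) hc
    rw [map_sum, map_zero, Finset.sum_eq_single i (fun j _ hj => by simp [h1 i j hj.symm])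
      (by simp), map_smul, smul_eq_mul] at this
    exact (mul_eq_zero.mp this).resolve_right (hne i)
  exact ⟨Module.Basis.mk hli (hli.span_eq_top_of_card_eq_finrank' (by simp [hn])).ge,
    by simpa using h1, by simpa using h2', by simpa using h3⟩

end Cfsg.Agent.S0756
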