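import Cfsg.Statements.S0757
import Mathlib

set_option autoImplicit false
open Cfsg

namespace Cfsg.Agent.S0757

/-- The two diagonal forms Σ x_i^2 and Σ_(i<n) x_i^2 + α x_n^2 on F^(n+1), with α a non-square and 2 ≠ 0 in F, are inequivalent quadratic forms (so over a finite field of odd order there are exactly two classes of non-singular symmetric bilinear forms in each dimension). -/
theorem result {F : Type*} [Field F] (h2 : (2 : F) ≠ 0) (n : ℕ) (α : F) (hα : ¬ IsSquare α) : ¬ (QuadraticMap.weightedSumSquares F (fun _ : Fin (n + 1) => (1 : F))).Equivalent (QuadraticMap.weightedSumSquares F (fun i : Fin (n + 1) => if i = Fin.last n then α else (1 : F))) := by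
  classical
  rintro ⟨e⟩
  have h2' := h2
  set w : Fin (n + 1) → F := fun i => if i = Fin.last n then α else (1 : F)
  let M : Matrix (Fin (n + 1)) (Fin (n + 1)) F := LinearMap.toMatrix' e.toLinearEquiv.toLinearMap
  have hM : M.transpose * Matrix.diagonal w * M = 1 := by
    ext i j
    have hq : ∀ v : Fin (n + 1) → F, QuadraticMap.weightedSumSquares F w (M.mulVec v) =
        QuadraticMap.weightedSumSquares F (fun _ : Fin (n + 1) => (1 : F)) v := by
      intro v
      rw [show M.mulVec v = e v by simp [M]]
      exact e.map_app v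
    have hsq : ∀ (c : Fin (n + 1) → F) v,
        QuadraticMap.weightedSumSquares F c v = ∑ k, c k * v k ^ 2 := by
      intro c v
      simp [QuadraticMap.weightedSumSquares_apply, pow_two]
    have h1 := hq (Pi.single i 1 + Pi.single j 1)
    have h2 := hq (Pi.single i 1)
    have h3 := hq (Pi.single j 1)
    simp only [hsq, Matrix.mulVec_add, Matrix.mulVec_single_one, Pi.add_apply, add_sq, mul_add,
      Finset.sum_add_distrib, one_mul] at h1 h2 h3
    have h4 : 2 * (∑ k, M k i * w k * M k j) = 2 * (if i = j then 1 else 0) := by
      have e1 : (∑ k, (Pi.single i (1 : F) : Fin (n+1) → F) k * (Pi.single j (1 : F) : Fin (n+1) → F) k) =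
          if i = j then 1 else 0 := by simp [Pi.single_apply, eq_comm]
      rw [← e1]
      have e2 : ∀ k, w k * (2 * M k i * M k j) = 2 * (M k i * w k * M k j) := fun k => by ring
      have e3 : ∀ k, (2 : F) * (Pi.single i (1 : F) : Fin (n+1) → F) k *
          (Pi.single j (1 : F) : Fin (n+1) → F) k = 2 * ((Pi.single i (1 : F) : Fin (n+1) → F) k *
          (Pi.single j (1 : F) : Fin (n+1) → F) k) := fun k => by ring
      simp only [Matrix.col_apply, e2, e3, ← Finset.mul_sum] at h1 h2 h3
      linear_combination h1 - h2 - h3
    simp only [Matrix.mul_apply, Matrix.transpose_apply, Matrix.diagonal, Matrix.of_apply,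
      mul_ite, mul_zero, Finset.sum_ite_eq', Finset.mem_univ, if_true, Matrix.one_apply]
    exact mul_left_cancel₀ h2' h4
  have h := congrArg Matrix.det hM
  rw [Matrix.det_mul, Matrix.det_mul, Matrix.det_transpose, Matrix.det_diagonal, Matrix.det_one,
    Finset.prod_ite_eq' Finset.univ (Fin.last n) (fun _ => α), if_pos (Finset.mem_univ _)] at h
  have hd : M.det ≠ 0 := by intro h0; rw [h0] at h; simp at h
  exact hα ⟨M.det⁻¹, by field_simp; linear_combination h⟩

end Cfsg.Agent.S0757
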