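import Cfsg.Statements.S0758
import Mathlib

set_option autoImplicit false
open Cfsg

namespace Cfsg.Agent.S0758

theorem iso_iff {F : Type*} [Field F] (c : F) :
    (∃ x y : F, (x ≠ 0 ∨ y ≠ 0) ∧ x ^ 2 + c * y ^ 2 = 0) ↔ IsSquare (-c) := by
  constructor
  · rintro ⟨x, y, hxy, h⟩
    have hy : y ≠ 0 := by
      intro hy
      subst hy
      simp at h
      simp_all
    exact ⟨x / y, by field_simp; linear_combination -h⟩
  · rintro ⟨r, hr⟩
    exact ⟨r, 1, Or.inr one_ne_zero, by linear_combination -hr⟩

/-- For a finite field F of odd order q and a non-square α: the form x² + y² is isotropic iff q ≡ 1 mod 4, and the form x² + α y² is isotropic iff q ≡ 3 mod 4. -/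
theorem result {F : Type*} [Field F] [Fintype F] (h2 : (2 : F) ≠ 0) (α : F) (hα : ¬ IsSquare α) : ((∃ x y : F, (x ≠ 0 ∨ y ≠ 0) ∧ x ^ 2 + y ^ 2 = 0) ↔ Fintype.card F % 4 = 1) ∧ ((∃ x y : F, (x ≠ 0 ∨ y ≠ 0) ∧ x ^ 2 + α * y ^ 2 = 0) ↔ Fintype.card F % 4 = 3) := by
  classical
  have hodd : Fintype.card F % 2 = 1 := FiniteField.odd_card_of_char_ne_two
    (fun h => h2 (by have := ringChar.charP F; rw [h] at this; exact CharP.cast_eq_zero F 2))
  constructor
  · have := iso_iff (1 : F)
    simp only [one_mul] at this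
    rw [this, FiniteField.isSquare_neg_one_iff]
    omega
  · rw [iso_iff, ← neg_one_mul]
    by_cases h1 : IsSquare (-1 : F)
    · have := (FiniteField.isSquare_neg_one_iff (F := F)).mp h1
      refine iff_of_false ?_ ?_
      · intro h
        obtain ⟨r, hr⟩ := h
        obtain ⟨s, hs⟩ := h1
        have hs0 : s ≠ 0 := by rintro rfl; simp at hs
        exact hα ⟨r / s, by field_simp; linear_combination hr - α * hs⟩
      · omega
    · have hm := (FiniteField.isSquare_neg_one_iff (F := F)).not.mp h1
      refine iff_of_true ?_ (by omega)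
      have hα0 : α ≠ 0 := by rintro rfl; exact hα ⟨0, by simp⟩
      have hne : (-1 : F) * α ≠ 0 := mul_ne_zero (by simp) hα0
      rw [← quadraticChar_one_iff_isSquare hne, map_mul,
        quadraticChar_neg_one_iff_not_isSquare.mpr h1,
        quadraticChar_neg_one_iff_not_isSquare.mpr hα]
      rfl

end Cfsg.Agent.S0758
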