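import Cfsg.Statements.S0759
import Mathlib

set_option autoImplicit false
open Cfsg

namespace Cfsg.Agent.S0759

open scoped Matrix in
theorem det_gram {F : Type*} [Field F] {m : ℕ} (A C : Matrix (Fin m) (Fin m) F) :
    (Matrix.fromBlocks 0 A A.transpose C).det = (-1) ^ m * A.det ^ 2 := by
  have e : Matrix.fromBlocks 0 A A.transpose C =
      Matrix.fromBlocks A 0 C A.transpose *
        (Matrix.J (Fin m) F * Matrix.fromBlocks 1 0 0 (-1)) := by
    simp [Matrix.J, Matrix.fromBlocks_multiply]
  rw [e, Matrix.det_mul, Matrix.det_mul, Matrix.det_fromBlocks_zero₁₂, Matrix.det_transpose,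
    SymplecticGroup.det_eq_one (SymplecticGroup.J_mem (Fin m) F), Matrix.det_fromBlocks_zero₁₂,
    Matrix.det_one, Matrix.det_neg, Matrix.det_one, Fintype.card_fin]
  ring

/-- Type of the orthonormal form: over a finite field of odd order q and for m ≥ 1, the quadratic form Σ_(i<2m) x_i² on F^(2m) admits an m-dimensional subspace on which it vanishes identically if and only if it is not the case that q ≡ 3 (mod 4) and m is odd. -/
theorem result {F : Type*} [Field F] [Fintype F] (h2 : (2 : F) ≠ 0) (m : ℕ) (hm : 1 ≤ m) : (∃ W : Submodule F (Fin (2 * m) → F), Module.finrank F W = m ∧ ∀ w ∈ W, ∑ i, w i ^ 2 = 0) ↔ ¬ (Fintype.card F % 4 = 3 ∧ Odd m) := by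
  classical
  have hodd : Fintype.card F % 2 = 1 := FiniteField.odd_card_of_char_ne_two fun h => h2 (by
    have := ringChar.charP F; rw [h] at this; exact CharP.cast_eq_zero F 2)
  let e : Fin m ⊕ Fin m ≃ Fin (2 * m) := finSumFinEquiv.trans (finCongr (by omega))
  constructor
  · rintro ⟨W, hWm, hW⟩ ⟨hq, hmo⟩
    have hdot : ∀ u ∈ W, ∀ v ∈ W, ∑ i, u i * v i = 0 := by
      intro u hu v hv
      have h := hW _ (add_mem hu hv)
      simp only [Pi.add_apply, add_sq, Finset.sum_add_distrib, hW u hu, hW v hv, zero_add,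
        add_zero, mul_assoc, ← Finset.mul_sum] at h
      exact (mul_eq_zero.mp h).resolve_left h2
    obtain ⟨U, hU⟩ := Submodule.exists_isCompl W
    have hUm : Module.finrank F U = m := by
      have := Submodule.finrank_add_eq_of_isCompl hU
      rw [hWm, Module.finrank_fin_fun] at this
      omega
    let b : Module.Basis (Fin m ⊕ Fin m) F (Fin (2 * m) → F) :=
      ((Module.finBasisOfFinrankEq F W hWm).prod (Module.finBasisOfFinrankEq F U hUm)).map
        (Submodule.prodEquivOfIsCompl W U hU)
    have hbW : ∀ i, b (Sum.inl i) ∈ W := by intro i; simp [b]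
    let M : Matrix (Fin m ⊕ Fin m) (Fin m ⊕ Fin m) F := fun i j => b i (e j)
    have hM : M.det ≠ 0 := by
      have hli : LinearIndependent F (fun i => M i) :=
        b.linearIndependent.map' (LinearEquiv.funCongrLeft F F e).toLinearMap (LinearEquiv.ker _)
      exact ((Matrix.linearIndependent_rows_iff_isUnit.mp hli).map Matrix.detMonoidHom).ne_zero
    let G := M * M.transpose
    have h0 : G.toBlocks₁₁ = 0 := by
      ext i j
      show ∑ k, b (Sum.inl i) (e k) * b (Sum.inl j) (e k) = 0
      rw [Equiv.sum_comp e (fun k => b (Sum.inl i) k * b (Sum.inl j) k)]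
      exact hdot _ (hbW i) _ (hbW j)
    have h1 : G.toBlocks₂₁ = G.toBlocks₁₂.transpose := by
      ext i j
      simp [G, Matrix.toBlocks₂₁, Matrix.toBlocks₁₂, Matrix.mul_apply, mul_comm]
    have hG : G = Matrix.fromBlocks 0 G.toBlocks₁₂ G.toBlocks₁₂.transpose G.toBlocks₂₂ := by
      rw [← h0, ← h1, Matrix.fromBlocks_toBlocks]
    have hd : M.det ^ 2 = (-1) ^ m * G.toBlocks₁₂.det ^ 2 := by
      rw [← det_gram _ G.toBlocks₂₂, ← hG, Matrix.det_mul, Matrix.det_transpose, pow_two]
    rw [hmo.neg_one_pow] at hd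
    have hA : G.toBlocks₁₂.det ≠ 0 := by
      intro h; rw [h] at hd; simp at hd; exact hM hd
    have : IsSquare (-1 : F) := ⟨M.det / G.toBlocks₁₂.det, by field_simp; linear_combination -hd⟩
    exact (FiniteField.isSquare_neg_one_iff.mp this) hq
  · intro h
    obtain ⟨S, hS⟩ : ∃ S : Matrix (Fin m) (Fin m) F, S.transpose * S = -1 := by
      by_cases hsq : IsSquare (-1 : F)
      · obtain ⟨s, hs⟩ := hsq
        exact ⟨Matrix.scalar (Fin m) s, by simp [Matrix.diagonal_transpose, ← hs, ← Matrix.diagonal_neg]⟩
      · have hq : Fintype.card F % 4 = 3 := by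
          by_contra h'; exact hsq (FiniteField.isSquare_neg_one_iff.mpr h')
        obtain ⟨k, hk⟩ : Even m := Nat.not_odd_iff_even.mp fun ho => h ⟨hq, ho⟩
        obtain ⟨a, c, hac⟩ := FiniteField.exists_root_sum_quadratic (R := F)
          (f := Polynomial.X ^ 2) (g := Polynomial.X ^ 2 - Polynomial.C (-1 : F))
          (Polynomial.degree_X_pow 2)
          ((Polynomial.degree_sub_C (by rw [Polynomial.degree_X_pow]; norm_num)).trans
            (Polynomial.degree_X_pow 2)) hodd
        simp only [Polynomial.eval_pow, Polynomial.eval_X, Polynomial.eval_sub,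
          Polynomial.eval_C] at hac
        let e' : Fin k ⊕ Fin k ≃ Fin m := finSumFinEquiv.trans (finCongr hk.symm)
        let R : Matrix (Fin k ⊕ Fin k) (Fin k ⊕ Fin k) F :=
          Matrix.fromBlocks (a • 1) (-c • 1) (c • 1) (a • 1)
        refine ⟨R.submatrix e'.symm e'.symm, ?_⟩
        rw [Matrix.transpose_submatrix, Matrix.submatrix_mul_equiv]
        have hR : R.transpose * R = -1 := by
          simp only [R, Matrix.fromBlocks_transpose, Matrix.fromBlocks_multiply,
            Matrix.transpose_smul, Matrix.transpose_one, smul_mul_smul_comm, one_mul,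
            ← add_smul]
          rw [← Matrix.fromBlocks_one, Matrix.fromBlocks_neg]
          have e1 : a * a + c * c = -1 := by linear_combination hac
          have e2 : a * -c + c * a = 0 := by ring
          have e3 : -c * a + a * c = 0 := by ring
          have e4 : -c * -c + a * a = -1 := by linear_combination hac
          simp only [e1, e2, e3, e4, zero_smul, neg_smul, one_smul, neg_zero]
        rw [hR]
        ext i j
        simp [Matrix.one_apply]
    let L : (Fin m → F) →ₗ[F] (Fin (2 * m) → F) :=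
      (LinearEquiv.funCongrLeft F F e.symm).toLinearMap ∘ₗ
      (LinearEquiv.sumArrowLequivProdArrow (Fin m) (Fin m) F F).symm.toLinearMap ∘ₗ
      (LinearMap.id.prod S.mulVecLin)
    have hLl : ∀ x i, L x (e (Sum.inl i)) = x i := by
      intro x i; simp [L, LinearEquiv.funCongrLeft, LinearMap.funLeft_apply]
    have hLr : ∀ x i, L x (e (Sum.inr i)) = (S.mulVec x) i := by
      intro x i; simp [L, LinearEquiv.funCongrLeft, LinearMap.funLeft_apply]
    refine ⟨LinearMap.range L, ?_, ?_⟩
    · rw [LinearMap.finrank_range_of_inj, Module.finrank_fin_fun]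
      intro x y hxy
      funext i
      rw [← hLl x, ← hLl y, hxy]
    · rintro _ ⟨x, rfl⟩
      rw [← Equiv.sum_comp e, Fintype.sum_sum_type]
      simp only [hLl, hLr, pow_two]
      have : S.mulVec x ⬝ᵥ S.mulVec x = - (x ⬝ᵥ x) := by
        rw [Matrix.dotProduct_mulVec, ← Matrix.mulVec_transpose, Matrix.mulVec_mulVec, hS,
          Matrix.neg_mulVec, Matrix.one_mulVec, neg_dotProduct]
      show x ⬝ᵥ x + S.mulVec x ⬝ᵥ S.mulVec x = 0
      rw [this, add_neg_cancel]

end Cfsg.Agent.S0759
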