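import Cfsg.Statements.S0761
import Mathlib

set_option autoImplicit false
open Cfsg

namespace Cfsg.Agent.S0761

/-- Hyperbolic partners: let B be a non-degenerate bilinear form on a finite-dimensional space, either alternating, or symmetric with 2 ≠ 0. If Z is a subspace on which B vanishes, x ∉ Z is isotropic and orthogonal to Z, then there is an isotropic y with B x y = 1 which is orthogonal to Z. -/
theorem result {F V : Type*} [Field F] [AddCommGroup V] [Module F V] [FiniteDimensional F V] (B : LinearMap.BilinForm F V) (hB : B.Nondegenerate) (hform : B.IsAlt ∨ (B.IsSymm ∧ (2 : F) ≠ 0)) (x : V) (Z : Submodule F V) (hxZ : x ∉ Z) (hx : B x x = 0) (hxz : ∀ z ∈ Z, B x z = 0) (hZ : ∀ z ∈ Z, ∀ z' ∈ Z, B z z' = 0) : ∃ y : V, B y y = 0 ∧ B x y = 1 ∧ ∀ z ∈ Z, B z y = 0 := by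
  classical
  let W : Submodule F V := Z ⊔ Submodule.span F {x}
  obtain ⟨f, hfx, hfZ⟩ : ∃ f : Module.Dual F V, f x = 1 ∧ ∀ z ∈ Z, f z = 0 := by
    obtain ⟨f, hf1, hf2⟩ := Submodule.exists_dual_map_eq_bot_of_notMem hxZ inferInstance
    refine ⟨(f x)⁻¹ • f, by simp [hf1], fun z hz => ?_⟩
    have : f z ∈ Z.map f := Submodule.mem_map_of_mem hz
    rw [hf2, Submodule.mem_bot] at this
    simp [this]
  obtain ⟨y₀, hy₀⟩ : ∃ y : V, ∀ v, B v y = f v := by
    refine ⟨(LinearMap.BilinForm.flip B).toDual hB.flip |>.symm f, fun v => ?_⟩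
    exact LinearMap.BilinForm.apply_toDual_symm_apply (B := LinearMap.BilinForm.flip B) (hB := hB.flip) f v
  rcases hform with hA | ⟨hS, h2⟩
  · exact ⟨y₀, hA y₀, by rw [hy₀, hfx], fun z hz => by rw [hy₀, hfZ z hz]⟩
  · refine ⟨y₀ - ((B y₀ y₀) / 2) • x, ?_, ?_, ?_⟩
    · have h1 : B y₀ x = 1 := by rw [hS.eq, hy₀, hfx]
      simp only [map_sub, map_smul, LinearMap.sub_apply, LinearMap.smul_apply, smul_eq_mul, h1,
        hy₀ x, hfx, hx]
      field_simp
      ring
    · simp [hy₀, hfx, hx]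
    · intro z hz
      simp [hy₀, hfZ z hz, show B z x = 0 by rw [hS.eq]; exact hxz z hz]

end Cfsg.Agent.S0761
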