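import Cfsg.Statements.S0762
import Mathlib

set_option autoImplicit false
open Cfsg

namespace Cfsg.Agent.S0762

/-- In characteristic two over a finite field, a quadratic form on a space of dimension at least 3 vanishes on some non-zero vector. -/
theorem result {F V : Type*} [Field F] [Finite F] [CharP F 2] [AddCommGroup V] [Module F V] [FiniteDimensional F V] (Q : QuadraticForm F V) (h3 : 3 ≤ Module.finrank F V) : ∃ v : V, v ≠ 0 ∧ Q v = 0 := by
  classical
  cases nonempty_fintype F
  have : Nontrivial V := Module.nontrivial_of_finrank_pos (R := F) (by omega)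
  obtain ⟨v, hv⟩ := exists_ne (0 : V)
  by_cases hQv : Q v = 0
  · exact ⟨v, hv, hQv⟩
  obtain ⟨w, hw, hwv⟩ : ∃ w ∈ LinearMap.ker (QuadraticMap.polarBilin Q v),
      w ∉ Submodule.span F {v} := by
    by_contra h
    push Not at h
    have h1 := Submodule.finrank_mono (show LinearMap.ker (QuadraticMap.polarBilin Q v) ≤ _ from h)
    have h2 := LinearMap.finrank_range_add_finrank_ker (QuadraticMap.polarBilin Q v)
    have h3 := (Submodule.finrank_le (LinearMap.range (QuadraticMap.polarBilin Q v))).trans_eq
      (Module.finrank_self F)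
    rw [finrank_span_singleton hv] at h1
    omega
  have hsq : IsSquare (Q w / Q v) :=
    FiniteField.isSquare_of_char_two (by rw [ringChar.eq_iff]; infer_instance) _
  obtain ⟨r, hr⟩ := hsq
  refine ⟨w + r • v, fun h0 => hwv ?_, ?_⟩
  · rw [eq_neg_of_add_eq_zero_left h0]
    exact neg_mem (Submodule.smul_mem _ r (Submodule.mem_span_singleton_self v))
  · have hp : QuadraticMap.polar Q v w = 0 := by simpa using hw
    rw [QuadraticMap.map_add Q, QuadraticMap.map_smul Q, QuadraticMap.polar_smul_right,
      QuadraticMap.polar_comm, hp, smul_eq_mul, smul_zero, add_zero, ← hr, div_mul_cancel₀ _ hQv]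
    exact CharTwo.add_self_eq_zero _

end Cfsg.Agent.S0762
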