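import Cfsg.Statements.S0763
import Mathlib

set_option autoImplicit false
open Cfsg

namespace Cfsg.Agent.S0763

/-- Binary quadratic forms in characteristic two over a finite field: if Q is a quadratic form on a 2-dimensional space whose polar form is non-degenerate, then either there are vectors v, w with Q v = Q w = 0 and polar value 1 (Q is xy in these coordinates), or there are v, w and μ with Q v = 1, Q w = μ, polar value 1 and x² + x + μ without roots in F (Q is x² + xy + μy²). -/
theorem result {F V : Type*} [Field F] [Finite F] [CharP F 2] [AddCommGroup V] [Module F V] (Q : QuadraticForm F V) (h2 : Module.finrank F V = 2) (hQ : (QuadraticMap.polarBilin Q).Nondegenerate) : (∃ v w : V, LinearIndependent F ![v, w] ∧ Q v = 0 ∧ Q w = 0 ∧ QuadraticMap.polar Q v w = 1) ∨ (∃ (v w : V) (μ : F), LinearIndependent F ![v, w] ∧ (∀ x : F, x ^ 2 + x + μ ≠ 0) ∧ Q v = 1 ∧ Q w = μ ∧ QuadraticMap.polar Q v w = 1) := by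
  classical
  cases nonempty_fintype F
  have : FiniteDimensional F V := Module.finite_of_finrank_eq_succ h2
  have : Nontrivial V := Module.nontrivial_of_finrank_pos (R := F) (by omega)
  have hself : ∀ v, QuadraticMap.polar Q v v = 0 := fun v => by
    rw [QuadraticMap.polar_self, two_nsmul, CharTwo.add_self_eq_zero]
  have partner : ∀ v : V, v ≠ 0 → ∃ w, QuadraticMap.polar Q v w = 1 := by
    intro v hv
    obtain ⟨w, hw⟩ : ∃ w, QuadraticMap.polar Q v w ≠ 0 := by
      by_contra h
      push Not at h
      exact hv (hQ.1 v fun w => h w)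
    exact ⟨(QuadraticMap.polar Q v w)⁻¹ • w, by
      rw [QuadraticMap.polar_smul_right, smul_eq_mul, inv_mul_cancel₀ hw]⟩
  have indep : ∀ v w, QuadraticMap.polar Q v w = 1 → LinearIndependent F ![v, w] := by
    intro v w h
    rw [LinearIndependent.pair_iff]
    intro s t hst
    constructor
    · have := congrArg (fun x => QuadraticMap.polarBilin Q x w) hst
      simpa [h, hself] using this
    · have := congrArg (fun x => QuadraticMap.polarBilin Q v x) hst
      simpa [h, hself] using this
  by_cases hiso : ∃ v, v ≠ 0 ∧ Q v = 0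
  · obtain ⟨v, hv, hQv⟩ := hiso
    obtain ⟨w, hw⟩ := partner v hv
    have hw' : QuadraticMap.polar Q v (w + Q w • v) = 1 := by
      rw [QuadraticMap.polar_add_right, QuadraticMap.polar_smul_right, hself, smul_zero, add_zero, hw]
    refine Or.inl ⟨v, w + Q w • v, indep _ _ hw', hQv, ?_, hw'⟩
    rw [QuadraticMap.map_add Q, QuadraticMap.map_smul Q, hQv, QuadraticMap.polar_smul_right,
      QuadraticMap.polar_comm, hw, smul_eq_mul, smul_eq_mul, mul_zero, add_zero, mul_one]
    exact CharTwo.add_self_eq_zero _
  · push Not at hiso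
    obtain ⟨v₀, hv₀⟩ := exists_ne (0 : V)
    obtain ⟨r, hr⟩ := FiniteField.isSquare_of_char_two (ringChar.eq_iff.mpr inferInstance) (Q v₀)
    have hr0 : r ≠ 0 := by rintro rfl; exact hiso v₀ hv₀ (by simpa using hr)
    set v := r⁻¹ • v₀ with hv
    have hQv : Q v = 1 := by
      rw [hv, QuadraticMap.map_smul Q, hr, smul_eq_mul]; field_simp
    obtain ⟨w, hw⟩ := partner v (smul_ne_zero (inv_ne_zero hr0) hv₀)
    refine Or.inr ⟨v, w, Q w, indep _ _ hw, fun x hx => ?_, hQv, rfl, hw⟩
    refine hiso (x • v + w) (fun h0 => ?_) ?_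
    · have := (LinearIndependent.pair_iff.mp (indep v w hw)) x 1 (by rw [one_smul]; exact h0)
      exact one_ne_zero this.2
    · rw [QuadraticMap.map_add Q, QuadraticMap.map_smul Q, QuadraticMap.polar_smul_left, hQv, hw,
        smul_eq_mul, smul_eq_mul]
      linear_combination hx

end Cfsg.Agent.S0763
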