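import Cfsg.Statements.S0768
import Mathlib
import Cfsg.Agent.Lib.SymplecticSimple

set_option autoImplicit false
open scoped LinearAlgebra.Projectivization
open Cfsg

namespace Cfsg.Agent.S0768

open scoped LinearAlgebra.Projectivization
open scoped Pointwise
open Cfsg.Agent.SymplecticBasic

/-- An element of `spGL` from an element of the symplectic group. -/
def toSpGL {F : Type*} [Field F] {m : ℕ} (g : Matrix.symplecticGroup (Fin m) F) :
    ↥(Cfsg.spGL m F) :=
  ⟨⟨g.1, (g⁻¹).1, congrArg Subtype.val (mul_inv_cancel g), congrArg Subtype.val (inv_mul_cancel g)⟩,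
    mem_sp_iff_form.mp g.2⟩

theorem toSpGL_smul_mk {F : Type*} [Field F] {m : ℕ} (g : Matrix.symplecticGroup (Fin m) F)
    {v : Fin m ⊕ Fin m → F} (hv : v ≠ 0) :
    toSpGL g • Projectivization.mk F v hv = Projectivization.mk F (g • v)
      (fun h => hv (Matrix.mulVec_injective_of_isUnit
        (toSpGL g : Matrix.GeneralLinearGroup (Fin m ⊕ Fin m) F).isUnit
        (h.trans (Matrix.mulVec_zero _).symm))) := rfl

/-- Primitivity: for m ≥ 1 and F finite, the symplectic group of the form sympForm (as a subgroup of the general linear group) acts primitively on the projective space of F^(2m). -/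
theorem result {F : Type*} [Field F] [Finite F] (m : ℕ) (hm : 1 ≤ m) : MulAction.IsPreprimitive ↥(Cfsg.spGL m F) (ℙ F (Fin m ⊕ Fin m → F)) := by
  classical
  have hne : ∀ {u v : Fin m ⊕ Fin m → F}, sympForm m F u v ≠ 0 → u ≠ 0 ∧ v ≠ 0 :=
    fun {u v} h => ⟨fun e => h (by simp [e]), fun e => h (by simp [e])⟩
  have : MulAction.IsPretransitive ↥(Cfsg.spGL m F) (ℙ F (Fin m ⊕ Fin m → F)) := by
    constructor
    intro x y
    induction x using Projectivization.ind with
    | h u hu =>
      induction y using Projectivization.ind with
      | h w hw =>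
        obtain ⟨g, hg⟩ := exists_smul_eq hu hw
        refine ⟨toSpGL g, ?_⟩
        rw [toSpGL_smul_mk, Projectivization.mk_eq_mk_iff']
        exact ⟨1, by rw [one_smul, hg]⟩
  refine ⟨fun {B} hB => ?_⟩
  by_contra htriv
  rw [MulAction.IsTrivialBlock] at htriv
  push Not at htriv
  obtain ⟨hsub, huniv⟩ := htriv
  -- a transvection fixing a point of `B` moves points of `B` into `B`
  have move : ∀ (a b : Fin m ⊕ Fin m → F) (ha : a ≠ 0) (hb : b ≠ 0) (v : Fin m ⊕ Fin m → F) (c : F)
      (w : Fin m ⊕ Fin m → F) (hw : w ≠ 0), Projectivization.mk F a ha ∈ B →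
      Projectivization.mk F b hb ∈ B → sympForm m F a v = 0 →
      b + (c * sympForm m F b v) • v = w → Projectivization.mk F w hw ∈ B := by
    intro a b ha hb v c w hw haB hbB hav hbw
    have hfix : toSpGL (transv v c) • Projectivization.mk F a ha = Projectivization.mk F a ha := by
      rw [toSpGL_smul_mk, Projectivization.mk_eq_mk_iff']
      exact ⟨1, by rw [one_smul, transv_smul, hav, mul_zero, zero_smul, add_zero]⟩
    have heq := hB.smul_eq_of_mem haB (by rw [hfix]; exact haB)
    have : toSpGL (transv v c) • Projectivization.mk F b hb ∈ toSpGL (transv v c) • B :=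
      Set.smul_mem_smul_set hbB
    rw [heq] at this
    convert this using 1
    rw [toSpGL_smul_mk, Projectivization.mk_eq_mk_iff']
    exact ⟨1, by rw [one_smul, transv_smul, hbw]⟩
  -- two non-orthogonal points in a block generate everything
  have step : ∀ (a b : Fin m ⊕ Fin m → F) (hab : sympForm m F a b ≠ 0),
      Projectivization.mk F a (hne hab).1 ∈ B → Projectivization.mk F b (hne hab).2 ∈ B →
      ∀ x (hax : sympForm m F a x ≠ 0), Projectivization.mk F x (hne hax).2 ∈ B := by
    intro a b hab haB hbB x hax
    set x' := (sympForm m F a b / sympForm m F a x) • x with hx'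
    have hax' : sympForm m F a x' = sympForm m F a b := by
      rw [hx', form_smul_right, div_mul_cancel₀ _ hax]
    have hx'0 : x' ≠ 0 := (hne (u := a) (v := x') (by rw [hax']; exact hab)).2
    suffices Projectivization.mk F x' hx'0 ∈ B by
      convert this using 1
      rw [Projectivization.mk_eq_mk_iff']
      refine ⟨(sympForm m F a b / sympForm m F a x)⁻¹, ?_⟩
      rw [hx', smul_smul, inv_mul_cancel₀ (div_ne_zero hab hax), one_smul]
    -- move `b` to a vector `z` with the same value against `a`
    have go : ∀ (b z : Fin m ⊕ Fin m → F) (hb : b ≠ 0) (hz : z ≠ 0),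
        Projectivization.mk F b hb ∈ B → sympForm m F a z = sympForm m F a b →
        sympForm m F b z ≠ 0 → Projectivization.mk F z hz ∈ B := by
      intro b z hb hz hb' haz hbz
      refine move a b (hne hab).1 hb (z - b) ((sympForm m F b z)⁻¹) z hz haB hb' ?_ ?_
      · rw [form_sub_right, haz, sub_self]
      · rw [form_sub_right, form_self, sub_zero, inv_mul_cancel₀ hbz, one_smul, add_sub_cancel]
    by_cases hbx : sympForm m F b x' = 0
    · have hz : sympForm m F a (b + a) = sympForm m F a b := by
        rw [form_add_right, form_self, add_zero]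
      have hz0 : b + a ≠ 0 := (hne (u := a) (v := b + a) (by rw [hz]; exact hab)).2
      have hbz : sympForm m F b (b + a) ≠ 0 := by
        rw [form_add_right, form_self, zero_add, form_swap a b]
        exact neg_ne_zero.mpr hab
      refine go _ _ hz0 hx'0 (go _ _ _ hz0 hbB hz hbz) (by rw [hax', hz]) ?_
      rw [form_add_left, hbx, zero_add, hax']
      exact hab
    · exact go _ _ _ hx'0 hbB hax' hbx
  obtain ⟨p, hp, q, hq, hpq⟩ := hsub
  induction p using Projectivization.ind with
  | h a ha =>
    induction q using Projectivization.ind with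
    | h b hb =>
      obtain ⟨a, b, hab, haB, hbB⟩ : ∃ (a b : Fin m ⊕ Fin m → F) (hab : sympForm m F a b ≠ 0),
          Projectivization.mk F a (hne hab).1 ∈ B ∧ Projectivization.mk F b (hne hab).2 ∈ B := by
        by_cases hab : sympForm m F a b = 0
        · have hl : ∀ t : F, b ≠ t • a := by
            intro t ht
            refine hpq ?_
            rw [Projectivization.mk_eq_mk_iff']
            refine ⟨t⁻¹, ?_⟩
            rw [ht, smul_smul, inv_mul_cancel₀, one_smul]
            rintro rfl; rw [zero_smul] at ht; exact hb ht
          obtain ⟨v, hav, hbv⟩ := Cfsg.Agent.SymplecticSimple.exists_perp_ne ha hl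
          have hnew : sympForm m F b (b + v) ≠ 0 := by rw [form_add_right, form_self, zero_add]; exact hbv
          exact ⟨b, b + v, hnew, hq, move a b ha hb v ((sympForm m F b v)⁻¹) (b + v) (hne hnew).2 hp hq
            hav (by rw [inv_mul_cancel₀ hbv, one_smul])⟩
        · exact ⟨a, b, hab, hp, hq⟩
      refine huniv (Set.eq_univ_iff_forall.mpr fun r => ?_)
      induction r using Projectivization.ind with
      | h x hx =>
        by_cases hax : sympForm m F a x = 0
        · obtain ⟨z, -, haz, hxz⟩ := exists_both_ne_zero nondegOn_top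
            (Submodule.mem_top (x := a)) (Submodule.mem_top (x := x)) (hne hab).1 hx
          have hzB := step a b hab haB hbB z haz
          have hza : sympForm m F z a ≠ 0 := by rw [form_swap a z]; exact neg_ne_zero.mpr haz
          have hzx : sympForm m F z x ≠ 0 := by rw [form_swap x z]; exact neg_ne_zero.mpr hxz
          exact step z a hza hzB haB x hzx
        · exact step a b hab haB hbB x hax

end Cfsg.Agent.S0768
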