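import Cfsg.Statements.S0769
import Mathlib

set_option autoImplicit false
open Cfsg

namespace Cfsg.Agent.S0769

/-- Order of the Borel subgroup of GL_n(q): the invertible lower-triangular n × n matrices over a field with q elements number q^(n(n-1)/2) (q-1)^n (unitriangular part times the diagonal torus). -/
theorem result {F : Type*} [Field F] [Fintype F] {q : ℕ} (hF : Fintype.card F = q) (n : ℕ) : Nat.card {g : Matrix.GeneralLinearGroup (Fin n) F // ∀ i j : Fin n, i < j → (g : Matrix (Fin n) (Fin n) F) i j = 0} = q ^ (n * (n - 1) / 2) * (q - 1) ^ n := by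
  classical
  let P := {p : Fin n × Fin n // p.2 < p.1}
  have hdet : ∀ M : Matrix (Fin n) (Fin n) F, (∀ i j, i < j → M i j = 0) →
      M.det = ∏ i, M i i := fun M hM => Matrix.det_of_isLowerTriangular M fun i j h => hM i j h
  let e : {g : Matrix.GeneralLinearGroup (Fin n) F //
      ∀ i j : Fin n, i < j → (g : Matrix (Fin n) (Fin n) F) i j = 0} ≃
      ((Fin n → Fˣ) × (P → F)) :=
    { toFun := fun g => (fun i => Units.mk0 (g.1.1 i i) (fun h => by
          have := Matrix.GeneralLinearGroup.det g.1
          have h1 : g.1.1.det ≠ 0 := (Matrix.GeneralLinearGroup.det g.1).ne_zero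
          rw [hdet _ g.2] at h1
          exact h1 (Finset.prod_eq_zero (Finset.mem_univ i) h)),
        fun p => g.1.1 p.1.1 p.1.2)
      invFun := fun x =>
        ⟨Matrix.GeneralLinearGroup.mkOfDetNeZero
          (Matrix.of fun i j => if h : j < i then x.2 ⟨(i, j), h⟩
            else if i = j then (x.1 i : F) else 0) (by
          rw [hdet _ (fun i j h => by simp [h.not_gt, h.ne])]
          exact Finset.prod_ne_zero_iff.mpr fun i _ => by simp), fun i j h => by
          simp [Matrix.GeneralLinearGroup.mkOfDetNeZero, h.not_gt, h.ne]⟩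
      left_inv := fun g => by
        apply Subtype.ext; apply Units.ext; ext i j
        rcases lt_trichotomy j i with h | h | h
        · simp [Matrix.GeneralLinearGroup.mkOfDetNeZero, h]
        · subst h; simp [Matrix.GeneralLinearGroup.mkOfDetNeZero]
        · simp [Matrix.GeneralLinearGroup.mkOfDetNeZero, h.not_gt, h.ne, g.2 i j h]
      right_inv := fun x => by
        apply Prod.ext
        · funext i; ext; simp [Matrix.GeneralLinearGroup.mkOfDetNeZero]
        · funext p; simp [Matrix.GeneralLinearGroup.mkOfDetNeZero, p.2] }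
  rw [Nat.card_congr e, Nat.card_prod, Nat.card_fun, Nat.card_fun, mul_comm]
  have hP : Nat.card P = n * (n - 1) / 2 := by
    let e2 : P ≃ Σ i : Fin n, Fin (i : ℕ) :=
      { toFun := fun p => ⟨p.1.1, ⟨p.1.2, p.2⟩⟩
        invFun := fun s => ⟨(s.1, ⟨s.2, s.2.2.trans s.1.2⟩), s.2.2⟩
        left_inv := fun p => by rfl
        right_inv := fun s => by rfl }
    rw [Nat.card_congr e2, Nat.card_sigma]
    simp only [Nat.card_eq_fintype_card, Fintype.card_fin]
    rw [Fin.sum_univ_eq_sum_range (fun i => i) n, Finset.sum_range_id]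
  rw [hP, Nat.card_eq_fintype_card (α := F), hF, Nat.card_eq_fintype_card (α := Fˣ),
    Fintype.card_units, hF, Nat.card_eq_fintype_card (α := Fin n), Fintype.card_fin]

end Cfsg.Agent.S0769
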