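import Cfsg.Statements.S0770
import Mathlib

set_option autoImplicit false
open Cfsg

namespace Cfsg.Agent.S0770

theorem diag_mul_eq {F : Type*} [Field F] {n : ℕ} (hF : ∃ a : F, a ≠ 0 ∧ a ≠ 1)
    (g : Matrix.GeneralLinearGroup (Fin n) F)
    (hg : g ∈ Subgroup.normalizer ((Units.map (Matrix.diagonalRingHom (Fin n) F).toMonoidHom).range :
      Subgroup (Matrix.GeneralLinearGroup (Fin n) F))) (i : Fin n) :
    ∃! j : Fin n, (g : Matrix (Fin n) (Fin n) F) i j ≠ 0 := by
  classical
  obtain ⟨a, ha0, ha1⟩ := hF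
  have hex : ∃ j, (g : Matrix (Fin n) (Fin n) F) i j ≠ 0 := by
    by_contra h
    push Not at h
    exact (Matrix.GeneralLinearGroup.det g).ne_zero
      (by rw [Matrix.GeneralLinearGroup.val_det_apply]; exact Matrix.det_eq_zero_of_row_eq_zero i h)
  obtain ⟨j, hj⟩ := hex
  refine ⟨j, hj, fun k hk => ?_⟩
  by_contra hkj
  -- conjugate the diagonal matrix with entry `a` at `j`
  let dd : (Fin n → F)ˣ := MulEquiv.piUnits.symm (fun l => if l = j then Units.mk0 a ha0 else 1)
  have hmem : (Units.map (Matrix.diagonalRingHom (Fin n) F).toMonoidHom) dd ∈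
      (Units.map (Matrix.diagonalRingHom (Fin n) F).toMonoidHom).range := ⟨dd, rfl⟩
  obtain ⟨u, hu⟩ := (Subgroup.mem_normalizer_iff.mp hg _).mp hmem
  have h : (Units.map (Matrix.diagonalRingHom (Fin n) F).toMonoidHom) u * g =
      g * (Units.map (Matrix.diagonalRingHom (Fin n) F).toMonoidHom) dd := by
    rw [hu]; group
  have h' := congrArg (fun M : Matrix.GeneralLinearGroup (Fin n) F => (M : Matrix (Fin n) (Fin n) F)) h
  simp only [Units.val_mul, Units.coe_map] at h'
  have hij := congrFun (congrFun h' i) j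
  have hik := congrFun (congrFun h' i) k
  simp [Matrix.diagonal_mul, Matrix.mul_diagonal, dd, hkj] at hij hik
  rw [mul_comm _ a] at hij
  have e1 := mul_right_cancel₀ hj hij
  have e2 := mul_right_cancel₀ hk (hik.trans (one_mul _).symm)
  exact ha1 (e1 ▸ e2)

/-- For a field with at least 3 elements, an invertible matrix normalises the subgroup of invertible diagonal matrices of GL_n if and only if it is monomial (exactly one non-zero entry in each row). -/
theorem result {F : Type*} [Field F] (hF : ∃ a : F, a ≠ 0 ∧ a ≠ 1) (n : ℕ) (g : Matrix.GeneralLinearGroup (Fin n) F) : g ∈ Subgroup.normalizer ((Units.map (Matrix.diagonalRingHom (Fin n) F).toMonoidHom).range : Subgroup (Matrix.GeneralLinearGroup (Fin n) F)) ↔ ∀ i : Fin n, ∃! j : Fin n, (g : Matrix (Fin n) (Fin n) F) i j ≠ 0 := by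
  classical
  refine ⟨fun hg i => diag_mul_eq hF g hg i, fun h => ?_⟩
  choose σ hσ hσu using h
  have hσ0 : ∀ i j, j ≠ σ i → (g : Matrix (Fin n) (Fin n) F) i j = 0 := fun i j hj => by
    by_contra h0; exact hj (hσu i j h0)
  have hsurj : Function.Bijective σ := by
    apply Finite.surjective_iff_bijective.mp
    intro j
    by_contra hj
    push Not at hj
    exact (Matrix.GeneralLinearGroup.det g).ne_zero (by
      rw [Matrix.GeneralLinearGroup.val_det_apply]
      exact Matrix.det_eq_zero_of_column_eq_zero j fun i => hσ0 i j (fun e => hj i e.symm))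
  let τ := Equiv.ofBijective σ hsurj
  have key : ∀ v : (Fin n → F)ˣ, ∀ π : Equiv.Perm (Fin n), π = τ →
      g * (Units.map (Matrix.diagonalRingHom (Fin n) F).toMonoidHom) v =
        (Units.map (Matrix.diagonalRingHom (Fin n) F).toMonoidHom)
          (MulEquiv.piUnits.symm (fun i => MulEquiv.piUnits v (π i))) * g := by
    intro v π hπ
    subst hπ
    apply Units.ext
    simp only [Units.val_mul, Units.coe_map]
    ext i j
    by_cases hj : j = σ i
    · subst hj
      simp [Matrix.diagonal_mul, Matrix.mul_diagonal, τ, mul_comm]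
    · simp [Matrix.diagonal_mul, Matrix.mul_diagonal, hσ0 i j hj]
  rw [Subgroup.mem_normalizer_iff]
  intro x
  constructor
  · rintro ⟨v, rfl⟩
    exact ⟨_, by rw [key v τ rfl, mul_inv_cancel_right]⟩
  · rintro ⟨v, hv⟩
    refine ⟨MulEquiv.piUnits.symm (fun i => MulEquiv.piUnits v (τ.symm i)), ?_⟩
    have h1 := key (MulEquiv.piUnits.symm (fun i => MulEquiv.piUnits v (τ.symm i))) τ rfl
    simp only [MulEquiv.apply_symm_apply, Equiv.symm_apply_apply, MulEquiv.symm_apply_apply] at h1
    rw [hv, show g * x * g⁻¹ * g = g * x by group] at h1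
    exact mul_left_cancel h1

end Cfsg.Agent.S0770
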