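import Cfsg.Statements.S0771
import Mathlib
import Cfsg.Agent.Lib.ParabolicGL

set_option autoImplicit false
open Cfsg

namespace Cfsg.Agent.S0771

/-- Maximal parabolic of GL_n(q): the stabiliser of the coordinate subspace spanned by the first k basis vectors has order q^(k(n-k)) · |GL_k(q)| · |GL_(n-k)(q)| (unipotent radical of order q^(k(n-k)) and Levi complement GL_k × GL_(n-k)). -/
theorem result {F : Type*} [Field F] [Fintype F] {q : ℕ} (hF : Fintype.card F = q) (n k : ℕ) (hk : k ≤ n) : Nat.card ↥(Cfsg.stabilizing (Cfsg.glToMat (Fin n) F) {v : Fin n → F | ∀ i : Fin n, k ≤ (i : ℕ) → v i = 0}) = q ^ (k * (n - k)) * (∏ i : Fin k, (q ^ k - q ^ (i : ℕ))) * ∏ i : Fin (n - k), (q ^ (n - k) - q ^ (i : ℕ)) := by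
  classical
  let e : Fin k ⊕ Fin (n - k) ≃ Fin n := finSumFinEquiv.trans (finCongr (by omega))
  have hel : ∀ a, (e (Sum.inl a) : ℕ) = a := fun a => by simp [e]
  have her : ∀ a, (e (Sum.inr a) : ℕ) = k + a := fun a => by simp [e]
  let Φ := Matrix.reindexAlgEquiv F F e
  let G : Matrix.GeneralLinearGroup (Fin k ⊕ Fin (n - k)) F ≃*
      Matrix.GeneralLinearGroup (Fin n) F := Units.mapEquiv Φ.toRingEquiv.toMulEquiv
  have hG : ∀ g, g ∈ Cfsg.Agent.ParabolicGL.para F n k ↔ (G.symm g).1.toBlocks₂₁ = 0 := by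
    intro g
    rw [Cfsg.Agent.ParabolicGL.mem_para_iff]
    constructor
    · intro h
      ext a b
      exact h _ _ (by rw [her]; omega) (by rw [hel]; exact b.2)
    · intro h i j hi hj
      obtain ⟨i, rfl⟩ := e.surjective i
      obtain ⟨j, rfl⟩ := e.surjective j
      cases i with
      | inl a => rw [hel] at hi; omega
      | inr a =>
        cases j with
        | inl b => exact congrFun (congrFun h a) b
        | inr b => rw [her] at hj; omega
  have e1 : ↥(Cfsg.Agent.ParabolicGL.para F n k) ≃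
      {M : Matrix.GeneralLinearGroup (Fin k ⊕ Fin (n - k)) F // M.1.toBlocks₂₁ = 0} :=
    G.symm.toEquiv.subtypeEquiv hG
  let e2 : {M : Matrix.GeneralLinearGroup (Fin k ⊕ Fin (n - k)) F // M.1.toBlocks₂₁ = 0} ≃
      Matrix.GeneralLinearGroup (Fin k) F × Matrix.GeneralLinearGroup (Fin (n - k)) F ×
        Matrix (Fin k) (Fin (n - k)) F :=
    { toFun := fun M =>
        have hd : M.1.1.toBlocks₁₁.det * M.1.1.toBlocks₂₂.det ≠ 0 := by
          have e0 := Matrix.fromBlocks_toBlocks M.1.1
          rw [M.2] at e0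
          rw [← Matrix.det_fromBlocks_zero₂₁ _ M.1.1.toBlocks₁₂, e0,
            ← Matrix.GeneralLinearGroup.val_det_apply]
          exact Units.ne_zero _
        (Matrix.GeneralLinearGroup.mkOfDetNeZero _ (left_ne_zero_of_mul hd),
          Matrix.GeneralLinearGroup.mkOfDetNeZero _ (right_ne_zero_of_mul hd), M.1.1.toBlocks₁₂)
      invFun := fun x => ⟨Matrix.GeneralLinearGroup.mkOfDetNeZero
        (Matrix.fromBlocks x.1.1 x.2.2 0 x.2.1.1) (by
          rw [Matrix.det_fromBlocks_zero₂₁]
          exact mul_ne_zero (Matrix.GeneralLinearGroup.det x.1).ne_zero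
            (Matrix.GeneralLinearGroup.det x.2.1).ne_zero),
        by simp [Matrix.GeneralLinearGroup.mkOfDetNeZero]⟩
      left_inv := fun M => by
        apply Subtype.ext; apply Units.ext
        show Matrix.fromBlocks _ _ 0 _ = M.1.1
        conv_rhs => rw [← Matrix.fromBlocks_toBlocks M.1.1, M.2]
        rfl
      right_inv := fun x => by
        refine Prod.ext ?_ (Prod.ext ?_ ?_)
        · apply Units.ext; simp [Matrix.GeneralLinearGroup.mkOfDetNeZero]
        · apply Units.ext; simp [Matrix.GeneralLinearGroup.mkOfDetNeZero]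
        · simp [Matrix.GeneralLinearGroup.mkOfDetNeZero] }
  show Nat.card ↥(Cfsg.Agent.ParabolicGL.para F n k) = _
  rw [Nat.card_congr (e1.trans e2), Nat.card_prod, Nat.card_prod, Matrix.card_GL_field,
    Matrix.card_GL_field, hF, Nat.card_eq_fintype_card (α := Matrix (Fin k) (Fin (n - k)) F)]
  rw [show Fintype.card (Matrix (Fin k) (Fin (n - k)) F) = q ^ (k * (n - k)) by
    rw [show Fintype.card (Matrix (Fin k) (Fin (n - k)) F) =
      Fintype.card (Fin k → Fin (n - k) → F) from rfl]
    simp [hF, ← pow_mul, mul_comm]]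
  ring

end Cfsg.Agent.S0771
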