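import Cfsg.Statements.S0773
import Mathlib
import Cfsg.Agent.Lib.ParabolicGL

set_option autoImplicit false
open Cfsg

namespace Cfsg.Agent.S0773

open scoped Matrix in
/-- `g ↦ rev (g⁻¹)ᵀ rev`. -/
def dualAut {F : Type*} [Field F] (n : ℕ) :
    Matrix.GeneralLinearGroup (Fin n) F ≃* Matrix.GeneralLinearGroup (Fin n) F where
  toFun g := ⟨((g⁻¹).1ᵀ).submatrix Fin.rev Fin.rev, (g.1ᵀ).submatrix Fin.rev Fin.rev, by
      rw [← Matrix.submatrix_mul _ _ _ _ _ Fin.rev_bijective, ← Matrix.transpose_mul, Units.mul_inv,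
        Matrix.transpose_one, Matrix.submatrix_one _ Fin.rev_injective], by
      rw [← Matrix.submatrix_mul _ _ _ _ _ Fin.rev_bijective, ← Matrix.transpose_mul, Units.inv_mul,
        Matrix.transpose_one, Matrix.submatrix_one _ Fin.rev_injective]⟩
  invFun g := ⟨((g⁻¹).1ᵀ).submatrix Fin.rev Fin.rev, (g.1ᵀ).submatrix Fin.rev Fin.rev, by
      rw [← Matrix.submatrix_mul _ _ _ _ _ Fin.rev_bijective, ← Matrix.transpose_mul, Units.mul_inv,
        Matrix.transpose_one, Matrix.submatrix_one _ Fin.rev_injective], by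
      rw [← Matrix.submatrix_mul _ _ _ _ _ Fin.rev_bijective, ← Matrix.transpose_mul, Units.inv_mul,
        Matrix.transpose_one, Matrix.submatrix_one _ Fin.rev_injective]⟩
  left_inv g := Units.ext (by
    ext i j
    simp only [Units.inv_mk, Units.val_mk, Matrix.submatrix_apply, Matrix.transpose_apply,
      Fin.rev_rev])
  right_inv g := Units.ext (by
    ext i j
    simp only [Units.inv_mk, Units.val_mk, Matrix.submatrix_apply, Matrix.transpose_apply,
      Fin.rev_rev])
  map_mul' g h := Units.ext (by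
    simp only [mul_inv_rev, Units.val_mul, Units.val_mk, Matrix.transpose_mul]
    exact Matrix.submatrix_mul _ _ _ _ _ Fin.rev_bijective)

/-- The stabilisers in GL_n(F), F finite, of the coordinate subspaces of dimensions k and n − k are isomorphic groups, but when 2k ≠ n (and 0 < k < n) no element of GL_n conjugates one onto the other. -/
theorem result {F : Type*} [Field F] [Finite F] (n k : ℕ) (hk0 : 0 < k) (hkn : k < n) (h2 : 2 * k ≠ n) : Nonempty (↥(Cfsg.stabilizing (Cfsg.glToMat (Fin n) F) {v : Fin n → F | ∀ i : Fin n, k ≤ (i : ℕ) → v i = 0}) ≃* ↥(Cfsg.stabilizing (Cfsg.glToMat (Fin n) F) {v : Fin n → F | ∀ i : Fin n, n - k ≤ (i : ℕ) → v i = 0})) ∧ ∀ g : Matrix.GeneralLinearGroup (Fin n) F, (Cfsg.stabilizing (Cfsg.glToMat (Fin n) F) {v : Fin n → F | ∀ i : Fin n, k ≤ (i : ℕ) → v i = 0}).map (MulAut.conj g).toMonoidHom ≠ Cfsg.stabilizing (Cfsg.glToMat (Fin n) F) {v : Fin n → F | ∀ i : Fin n, n - k ≤ (i : ℕ) → v i = 0} := by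
  classical
  open Cfsg.Agent.ParabolicGL in
  constructor
  · refine ⟨((dualAut n).subgroupMap _).trans (MulEquiv.subgroupCongr ?_)⟩
    have key : ∀ (j : ℕ), j ≤ n → ∀ g : Matrix.GeneralLinearGroup (Fin n) F,
        g ∈ Cfsg.Agent.ParabolicGL.para F n j →
          dualAut n g ∈ Cfsg.Agent.ParabolicGL.para F n (n - j) := by
      intro j hj g hg
      have hg' := ParabolicGL.mem_para_iff.mp (Subgroup.inv_mem _ hg)
      rw [ParabolicGL.mem_para_iff]
      intro a b ha hb
      refine hg' _ _ ?_ ?_ <;> simp [Fin.val_rev] <;> omega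
    ext g
    constructor
    · rintro ⟨x, hx, rfl⟩
      exact key k hkn.le x hx
    · intro hg
      refine ⟨(dualAut n).symm g, ?_, (dualAut n).apply_symm_apply g⟩
      have h := key (n - k) (by omega) g hg
      rw [show n - (n - k) = k by omega] at h
      exact h
  · intro g hg
    let U : Submodule F (Fin n → F) := (ParabolicGL.coordSub F n k).map g.1.mulVecLin
    have hinv : ∀ h ∈ ParabolicGL.para F n (n - k), ∀ v ∈ U,
        (h : Matrix (Fin n) (Fin n) F).mulVec v ∈ U := by
      intro h hh v hv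
      obtain ⟨w, hw, rfl⟩ := Submodule.mem_map.mp hv
      rw [← show _ = ParabolicGL.para F n (n - k) from hg] at hh
      obtain ⟨x, hx, rfl⟩ := hh
      refine ⟨x.1.mulVec w, ParabolicGL.mem_para_iff_forall.mp hx w hw, ?_⟩
      simp only [Matrix.mulVecLin_apply, MulEquiv.coe_toMonoidHom, MulAut.conj_apply, Units.val_mul,
        ← Matrix.mulVec_mulVec]
      rw [Matrix.mulVec_mulVec _ (g⁻¹).1 g.1, Units.inv_mul, Matrix.one_mulVec]
    have hdim : ∀ j : ℕ, j ≤ n → Module.finrank F (ParabolicGL.coordSub F n j) = j := by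
      intro j hj
      let E : ParabolicGL.coordSub F n j ≃ₗ[F] (Fin j → F) :=
        { toFun := fun v a => v.1 (Fin.castLE hj a)
          map_add' := fun _ _ => rfl
          map_smul' := fun _ _ => rfl
          invFun := fun v => ⟨fun i => if h : (i : ℕ) < j then v ⟨i, h⟩ else 0,
            fun i hi => dif_neg (not_lt.mpr hi)⟩
          left_inv := fun v => by
            apply Subtype.ext; funext i
            by_cases h : (i : ℕ) < j
            · simp [h]
            · simp [h, v.2 i (not_lt.mp h)]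
          right_inv := fun v => by funext a; simp }
      rw [E.finrank_eq, Module.finrank_fin_fun]
    have hU : Module.finrank F U = k := by
      rw [← (Submodule.equivMapOfInjective _ (Matrix.mulVec_injective_of_isUnit g.isUnit) _).finrank_eq,
        hdim k hkn.le]
    rcases ParabolicGL.eq_of_invariant hinv with h | h | h <;> rw [h] at hU
    · rw [finrank_bot] at hU; omega
    · rw [hdim (n - k) (by omega)] at hU; omega
    · rw [finrank_top, Module.finrank_fin_fun] at hU; omega

end Cfsg.Agent.S0773
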