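import Cfsg.Statements.S0774
import Mathlib
import Cfsg.Agent.S0769
import Cfsg.Agent.Lib.SymplecticBasic

set_option autoImplicit false
open Cfsg

namespace Cfsg.Agent.S0774

theorem card_symm {F : Type*} [Field F] [Fintype F] (m : ℕ) :
    Nat.card {S : Matrix (Fin m) (Fin m) F // S.transpose = S} =
      Fintype.card F ^ (m * (m + 1) / 2) := by
  classical
  let e : {S : Matrix (Fin m) (Fin m) F // S.transpose = S} ≃ ((Σ i : Fin m, Fin ((i : ℕ) + 1)) → F) :=
    { toFun := fun S p => S.1 p.1 ⟨p.2, lt_of_lt_of_le p.2.2 p.1.2⟩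
      invFun := fun f => ⟨Matrix.of fun i j => if h : j ≤ i then f ⟨i, ⟨j, Nat.lt_succ_of_le h⟩⟩
        else f ⟨j, ⟨i, Nat.lt_succ_of_le (le_of_lt (not_le.mp h))⟩⟩, by
          ext i j
          rcases lt_trichotomy i j with h | h | h
          · simp [h.le, h.not_ge]
          · subst h; simp
          · simp [h.le, h.not_ge]⟩
      left_inv := fun S => by
        apply Subtype.ext; ext i j
        by_cases h : j ≤ i
        · simp [h]
        · simp only [Matrix.of_apply, h, dite_false]
          exact congrFun (congrFun S.2 i) j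
      right_inv := fun f => by
        funext p
        obtain ⟨i, ⟨j, hj⟩⟩ := p
        have hji : (⟨j, by omega⟩ : Fin m) ≤ i := by show j ≤ (i : ℕ); omega
        simp [hji] }
  rw [Nat.card_congr e, Nat.card_fun, Nat.card_sigma, Nat.card_eq_fintype_card (α := F)]
  simp only [Nat.card_eq_fintype_card, Fintype.card_fin]
  congr 1
  rw [Fin.sum_univ_eq_sum_range (fun i => i + 1) m]
  have h := Finset.sum_range_succ' (fun i => i) m
  rw [Finset.sum_range_id] at h
  simp only [add_zero, Nat.add_sub_cancel] at h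
  rw [← h, mul_comm]

/-- Borel subgroup of the symplectic group: the elements of Sp_2m(q) stabilising each of the totally isotropic coordinate subspaces ⟨e_0, ..., e_k⟩ (k < m) form a subgroup of order q^(m²) (q − 1)^m. -/
theorem result {F : Type*} [Field F] [Fintype F] {q : ℕ} (hF : Fintype.card F = q) (m : ℕ) : Nat.card ↥(⨅ k : Fin m, Cfsg.stabilizing (Cfsg.spToMat m F) {v : Fin m ⊕ Fin m → F | (∀ i : Fin m, (k : ℕ) < (i : ℕ) → v (Sum.inl i) = 0) ∧ ∀ i : Fin m, v (Sum.inr i) = 0}) = q ^ (m ^ 2) * (q - 1) ^ m := by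
  classical
  set Flag := fun k : Fin m => {v : Fin m ⊕ Fin m → F |
    (∀ i : Fin m, (k : ℕ) < (i : ℕ) → v (Sum.inl i) = 0) ∧ ∀ i : Fin m, v (Sum.inr i) = 0} with hFlag
  set B := (⨅ k : Fin m, Cfsg.stabilizing (Cfsg.spToMat m F) (Flag k)) with hB
  let UT := {g : Matrix.GeneralLinearGroup (Fin m) F //
    ∀ i j : Fin m, j < i → (g : Matrix (Fin m) (Fin m) F) i j = 0}
  let Sy := {S : Matrix (Fin m) (Fin m) F // S.transpose = S}
  have hblk : ∀ X Y D : Matrix (Fin m) (Fin m) F,
      Matrix.fromBlocks X Y 0 D ∈ Matrix.symplecticGroup (Fin m) F ↔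
        X * D.transpose = 1 ∧ (Y * X.transpose).transpose = Y * X.transpose := by
    intro X Y D
    rw [SymplecticGroup.mem_iff]
    simp only [Matrix.J, Matrix.fromBlocks_transpose, Matrix.fromBlocks_multiply,
      Matrix.fromBlocks_inj, Matrix.transpose_zero, mul_zero, zero_mul, add_zero, zero_add, mul_one,
      mul_neg, neg_mul, neg_inj, neg_zero, Matrix.transpose_mul, Matrix.transpose_transpose]
    constructor
    · rintro ⟨h1, h2, -, -⟩
      exact ⟨h2, (add_neg_eq_zero.mp h1).symm⟩
    · rintro ⟨h1, h2⟩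
      refine ⟨by rw [h2, add_neg_cancel], h1, ?_, trivial⟩
      have := congrArg Matrix.transpose h1
      rwa [Matrix.transpose_mul, Matrix.transpose_transpose, Matrix.transpose_one] at this
  have hflag : ∀ A : Matrix.symplecticGroup (Fin m) F, A ∈ B ↔
      A.1.toBlocks₂₁ = 0 ∧ ∀ i j : Fin m, j < i → A.1.toBlocks₁₁ i j = 0 := by
    intro A
    rw [hB, Subgroup.mem_iInf]
    constructor
    · intro h
      refine ⟨?_, fun i j hij => ?_⟩
      · ext i j
        have := ((h j (Pi.single (Sum.inl j) 1)).mp ⟨fun l hl => Pi.single_eq_of_ne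
          (by simp; exact Fin.ne_of_gt hl) _, fun l => Pi.single_eq_of_ne (by simp) _⟩).2 i
        simpa [Matrix.col_apply, Matrix.toBlocks₂₁] using this
      · have := ((h j (Pi.single (Sum.inl j) 1)).mp ⟨fun l hl => Pi.single_eq_of_ne
          (by simp; exact Fin.ne_of_gt hl) _, fun l => Pi.single_eq_of_ne (by simp) _⟩).1 i hij
        simpa [Matrix.col_apply, Matrix.toBlocks₁₁] using this
    · rintro ⟨h21, h11⟩ k
      let W : Submodule F (Fin m ⊕ Fin m → F) :=
        { carrier := Flag k
          add_mem' := fun {a b} ha hb => ⟨fun i hi => by simp [ha.1 i hi, hb.1 i hi],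
            fun i => by simp [ha.2 i, hb.2 i]⟩
          zero_mem' := ⟨fun i _ => rfl, fun i => rfl⟩
          smul_mem' := fun c a ha => ⟨fun i hi => by simp [ha.1 i hi], fun i => by simp [ha.2 i]⟩ }
      have hmap : ∀ v ∈ W, A.1.mulVec v ∈ W := by
        intro v hv
        refine ⟨fun i hi => ?_, fun i => ?_⟩
        · rw [Matrix.mulVec, dotProduct]
          refine Finset.sum_eq_zero fun x _ => ?_
          rcases x with j | j
          · by_cases hj : (k : ℕ) < (j : ℕ)
            · rw [hv.1 j hj, mul_zero]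
            · have : A.1.toBlocks₁₁ i j = 0 := h11 i j (by
                show (j : ℕ) < (i : ℕ); omega)
              rw [show A.1 (Sum.inl i) (Sum.inl j) = 0 from this, zero_mul]
          · rw [hv.2 j, mul_zero]
        · rw [Matrix.mulVec, dotProduct]
          refine Finset.sum_eq_zero fun x _ => ?_
          rcases x with j | j
          · rw [show A.1 (Sum.inr i) (Sum.inl j) = 0 from congrFun (congrFun h21 i) j, zero_mul]
          · rw [hv.2 j, mul_zero]
      have hinj : Function.Injective A.1.mulVec := Matrix.mulVec_injective_of_isUnit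
        ((Matrix.isUnit_iff_isUnit_det _).mpr (SymplecticGroup.symplectic_det A.2))
      intro v
      refine ⟨fun hv => hmap v hv, fun hv => ?_⟩
      obtain ⟨w, hw⟩ := LinearMap.surjective_of_injective
        (f := A.1.mulVecLin.restrict hmap) (fun a b hab =>
          Subtype.ext (hinj (congrArg Subtype.val hab))) ⟨_, hv⟩
      have : (w : Fin m ⊕ Fin m → F) = v := hinj (congrArg Subtype.val hw)
      exact this ▸ w.2
  let toFun : ↥B → UT × Sy := fun A =>
    have h := (hblk A.1.1.toBlocks₁₁ A.1.1.toBlocks₁₂ A.1.1.toBlocks₂₂).mp (by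
      rw [← ((hflag A.1).mp A.2).1, Matrix.fromBlocks_toBlocks]; exact A.1.2)
    (⟨⟨A.1.1.toBlocks₁₁, A.1.1.toBlocks₂₂.transpose, h.1, mul_eq_one_comm.mp h.1⟩,
      ((hflag A.1).mp A.2).2⟩,
      ⟨A.1.1.toBlocks₁₂ * A.1.1.toBlocks₁₁.transpose, h.2⟩)
  let invFun : UT × Sy → ↥B := fun x =>
    ⟨⟨Matrix.fromBlocks x.1.1.1 (x.2.1 * (x.1.1⁻¹).1.transpose) 0 (x.1.1⁻¹).1.transpose,
      (hblk _ _ _).mpr ⟨by rw [Matrix.transpose_transpose, Units.mul_inv], by
        rw [mul_assoc, ← Matrix.transpose_mul, Units.mul_inv, Matrix.transpose_one, mul_one]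
        exact x.2.2⟩⟩, (hflag _).mpr ⟨by simp, fun i j h => by simpa using x.1.2 i j h⟩⟩
  let e : ↥B ≃ UT × Sy :=
    { toFun := toFun
      invFun := invFun
      left_inv := fun A => by
        apply Subtype.ext; apply Subtype.ext
        show Matrix.fromBlocks _ _ 0 _ = A.1.1
        conv_rhs => rw [← Matrix.fromBlocks_toBlocks A.1.1, ((hflag A.1).mp A.2).1]
        have h := (hblk A.1.1.toBlocks₁₁ A.1.1.toBlocks₁₂ A.1.1.toBlocks₂₂).mp (by
          rw [← ((hflag A.1).mp A.2).1, Matrix.fromBlocks_toBlocks]; exact A.1.2)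
        simp only [toFun, Units.inv_mk, Units.val_mk, Matrix.transpose_transpose]
        rw [mul_assoc]
        congr 1
        have h' := congrArg Matrix.transpose h.1
        rw [Matrix.transpose_mul, Matrix.transpose_transpose, Matrix.transpose_one] at h'
        rw [mul_eq_one_comm.mp h', mul_one]
      right_inv := fun x => by
        apply Prod.ext
        · apply Subtype.ext; apply Units.ext; simp [toFun, invFun]
        · apply Subtype.ext
          simp only [toFun, invFun, Matrix.toBlocks_fromBlocks₁₁, Matrix.toBlocks_fromBlocks₁₂]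
          rw [mul_assoc, ← Matrix.transpose_mul, Units.mul_inv, Matrix.transpose_one, mul_one] }
  show Nat.card ↥B = _
  rw [Nat.card_congr e, Nat.card_prod, card_symm m, hF]
  let t : UT ≃ {g : Matrix.GeneralLinearGroup (Fin m) F //
      ∀ i j : Fin m, i < j → (g : Matrix (Fin m) (Fin m) F) i j = 0} :=
    { toFun := fun g => ⟨⟨g.1.1.transpose, (g.1⁻¹).1.transpose,
        by rw [← Matrix.transpose_mul, Units.inv_mul, Matrix.transpose_one],
        by rw [← Matrix.transpose_mul, Units.mul_inv, Matrix.transpose_one]⟩,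
        fun i j h => g.2 j i h⟩
      invFun := fun g => ⟨⟨g.1.1.transpose, (g.1⁻¹).1.transpose,
        by rw [← Matrix.transpose_mul, Units.inv_mul, Matrix.transpose_one],
        by rw [← Matrix.transpose_mul, Units.mul_inv, Matrix.transpose_one]⟩,
        fun i j h => g.2 j i h⟩
      left_inv := fun g => by apply Subtype.ext; apply Units.ext; rfl
      right_inv := fun g => by apply Subtype.ext; apply Units.ext; rfl }
  rw [Nat.card_congr t, Cfsg.Agent.S0769.result hF m, mul_right_comm, ← pow_add]
  congr 2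
  have h2 : 2 ∣ m * (m - 1) := by
    rcases Nat.eq_zero_or_pos m with rfl | hm
    · simp
    · exact (Nat.even_mul_pred_self m).two_dvd
  have h3 : 2 ∣ m * (m + 1) := (Nat.even_mul_succ_self m).two_dvd
  have h4 : m * (m - 1) + m * (m + 1) = 2 * m ^ 2 := by
    cases m with
    | zero => simp
    | succ k => simp; ring
  omega

end Cfsg.Agent.S0774
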