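import Cfsg.Statements.S0775
import Cfsg.Agent.Lib.SymplecticIsotropic
import Cfsg.Agent.Lib.SymplecticOrder

set_option autoImplicit false
open Cfsg

namespace Cfsg.Agent.S0775

theorem key (q : ℕ) : ∀ k n : ℕ,
    (∏ i ∈ Finset.range k, (q ^ (2 * (n + k) - i) - q ^ i)) *
      (q ^ (k * (k + 1) / 2 + 2 * k * n) * (q ^ (n ^ 2) * ∏ i ∈ Finset.range n, (q ^ (2 * (i + 1)) - 1))) =
    q ^ ((n + k) ^ 2) * ∏ i ∈ Finset.range (n + k), (q ^ (2 * (i + 1)) - 1) := by
  intro k
  induction k with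
  | zero => intro n; simp
  | succ k ih =>
    intro n
    have h := ih (n + 1)
    rw [Finset.prod_range_succ _ k]
    have e1 : q ^ (2 * (n + (k + 1)) - k) - q ^ k = q ^ k * (q ^ (2 * (n + 1)) - 1) := by
      rw [Nat.mul_sub, mul_one, ← pow_add]
      congr 2
      omega
    rw [e1, show n + (k + 1) = n + 1 + k by omega, ← h, Finset.prod_range_succ _ n]
    have hdiv : (k + 1) * (k + 1 + 1) / 2 = k * (k + 1) / 2 + (k + 1) := by
      rw [show (k + 1) * (k + 1 + 1) = k * (k + 1) + (k + 1) * 2 by ring,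
        Nat.add_mul_div_right _ _ two_pos]
    rw [hdiv]
    ring

/-- Maximal parabolics of the symplectic group: if W is a k-dimensional subspace of F^(2m) on which the symplectic form vanishes identically, its stabiliser in Sp_2m(q) has order q^(k(k+1)/2 + 2k(m−k)) · |Sp_(2m−2k)(q)| · |GL_k(q)|. -/
theorem result {F : Type*} [Field F] [Fintype F] {q : ℕ} (hF : Fintype.card F = q) (m k : ℕ) (hk : k ≤ m) (W : Submodule F (Fin m ⊕ Fin m → F)) (hWk : Module.finrank F W = k) (hW : ∀ u ∈ W, ∀ v ∈ W, Cfsg.sympForm m F u v = 0) : Nat.card ↥(Cfsg.stabilizing (Cfsg.spToMat m F) (W : Set (Fin m ⊕ Fin m → F))) = q ^ (k * (k + 1) / 2 + 2 * k * (m - k)) * (q ^ ((m - k) ^ 2) * ∏ i ∈ Finset.range (m - k), (q ^ (2 * (i + 1)) - 1)) * ∏ i : Fin k, (q ^ k - q ^ (i : ℕ)) := by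
  classical
  have h := Cfsg.Agent.SymplecticIsotropic.stabilizer_mul W hWk hW
  rw [Cfsg.Agent.SymplecticIsotropic.card_frames, Cfsg.Agent.SymplecticOrder.card_symplectic hF m,
    Nat.card_eq_fintype_card (α := F), hF] at h
  obtain ⟨n, rfl⟩ : ∃ n, m = n + k := ⟨m - k, by omega⟩
  have hq : 1 < q := hF ▸ Fintype.one_lt_card
  have hpos : 0 < ∏ i ∈ Finset.range k, (q ^ (2 * (n + k) - i) - q ^ i) := by
    refine Finset.prod_pos fun i hi => ?_
    have := Finset.mem_range.1 hi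
    exact Nat.sub_pos_of_lt (Nat.pow_lt_pow_right hq (by omega))
  rw [Nat.add_sub_cancel]
  refine Nat.eq_of_mul_eq_mul_right hpos (h.trans ?_)
  rw [← key q k n]
  ring

end Cfsg.Agent.S0775
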