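import Cfsg.Statements.S0778
import Mathlib

set_option autoImplicit false
open Cfsg

namespace Cfsg.Agent.S0778

/-- The elements of Sp_2m(F) stabilising both W = ⟨e_1..e_m⟩ and U = ⟨f_1..f_m⟩ form a subgroup isomorphic to GL_m(F) (block-diagonal matrices diag(X, X^(−ᵀ)) up to the sign convention of J), for m ≥ 1 or m = 0 alike. -/
theorem result {F : Type*} [Field F] (m : ℕ) : Nonempty (↥(Cfsg.stabilizing (Cfsg.spToMat m F) {v : Fin m ⊕ Fin m → F | ∀ i : Fin m, v (Sum.inr i) = 0} ⊓ Cfsg.stabilizing (Cfsg.spToMat m F) {v : Fin m ⊕ Fin m → F | ∀ i : Fin m, v (Sum.inl i) = 0}) ≃* Matrix.GeneralLinearGroup (Fin m) F) := by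
  classical
  let e : Matrix (Fin m) (Fin m) F → Matrix (Fin m) (Fin m) F →
      Matrix (Fin m ⊕ Fin m) (Fin m ⊕ Fin m) F := fun X Y => Matrix.fromBlocks X 0 0 Y
  have hmem : ∀ X Y : Matrix (Fin m) (Fin m) F,
      e X Y ∈ Matrix.symplecticGroup (Fin m) F ↔ X * Y.transpose = 1 := by
    intro X Y
    rw [SymplecticGroup.mem_iff]
    simp only [e, Matrix.J, Matrix.fromBlocks_transpose, Matrix.fromBlocks_multiply,
      Matrix.fromBlocks_inj]
    simp only [Matrix.transpose_zero, mul_zero, zero_mul, add_zero, zero_add, mul_one, one_mul,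
      mul_neg, neg_mul, neg_inj, neg_zero, true_and, and_true]
    refine ⟨fun h => h.1, fun h => ⟨h, ?_⟩⟩
    have := congrArg Matrix.transpose h
    rwa [Matrix.transpose_mul, Matrix.transpose_transpose, Matrix.transpose_one] at this
  let f : Matrix.GeneralLinearGroup (Fin m) F →* Matrix.symplecticGroup (Fin m) F :=
    { toFun := fun X => ⟨e X.1 (X⁻¹).1.transpose, (hmem _ _).mpr (by
        rw [Matrix.transpose_transpose, Units.mul_inv])⟩
      map_one' := by apply Subtype.ext; simp [e, Matrix.fromBlocks_one]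
      map_mul' := fun X Y => by
        apply Subtype.ext
        simp [e, Matrix.fromBlocks_multiply, mul_inv_rev, Matrix.transpose_mul] }
  have hf : Function.Injective f := by
    intro X Y h
    have h' := congrArg (fun z : Matrix.symplecticGroup (Fin m) F => z.1.toBlocks₁₁) h
    apply Units.ext
    simpa [f, e] using h'
  refine ⟨((MonoidHom.ofInjective hf).trans (MulEquiv.subgroupCongr ?_)).symm⟩
  ext A
  constructor
  · rintro ⟨X, rfl⟩
    have hfX : ((f X : Matrix.symplecticGroup (Fin m) F) : Matrix (Fin m ⊕ Fin m) (Fin m ⊕ Fin m) F) =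
        e X.1 (X⁻¹).1.transpose := rfl
    have hinj : ∀ Z : Matrix.GeneralLinearGroup (Fin m) F, Function.Injective Z.1.mulVec :=
      fun Z => Matrix.mulVec_injective_of_isUnit Z.isUnit
    have hinjT : Function.Injective ((X⁻¹).1.transpose).mulVec :=
      Matrix.mulVec_injective_of_isUnit ((Matrix.isUnit_transpose _).mpr (X⁻¹).isUnit)
    refine ⟨fun v => ?_, fun v => ?_⟩
    · show (∀ i, v (Sum.inr i) = 0) ↔ ∀ i, ((f X).1.mulVec v) (Sum.inr i) = 0
      rw [hfX]
      simp only [e, Matrix.fromBlocks_mulVec, Matrix.zero_mulVec, zero_add, Sum.elim_inr]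
      refine ⟨fun h i => ?_, fun h => congrFun (hinjT (a₁ := v ∘ Sum.inr) (a₂ := 0)
        ((funext h).trans (Matrix.mulVec_zero _).symm))⟩
      rw [show v ∘ Sum.inr = 0 from funext h, Matrix.mulVec_zero]; rfl
    · show (∀ i, v (Sum.inl i) = 0) ↔ ∀ i, ((f X).1.mulVec v) (Sum.inl i) = 0
      rw [hfX]
      simp only [e, Matrix.fromBlocks_mulVec, Matrix.zero_mulVec, add_zero, Sum.elim_inl]
      refine ⟨fun h i => ?_, fun h => congrFun (hinj X (a₁ := v ∘ Sum.inl) (a₂ := 0)
        ((funext h).trans (Matrix.mulVec_zero _).symm))⟩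
      rw [show v ∘ Sum.inl = 0 from funext h, Matrix.mulVec_zero]; rfl
  · rintro ⟨h1, h2⟩
    have hA : A.1 = e A.1.toBlocks₁₁ A.1.toBlocks₂₂ := by
      conv_lhs => rw [← Matrix.fromBlocks_toBlocks A.1]
      have hb : A.1.toBlocks₁₂ = 0 := by
        ext i j
        have := (h2 (Pi.single (Sum.inr j) 1)).mp (by intro k; simp) i
        simpa [Matrix.col_apply, Matrix.toBlocks₁₂] using this
      have hc : A.1.toBlocks₂₁ = 0 := by
        ext i j
        have := (h1 (Pi.single (Sum.inl j) 1)).mp (by intro k; simp) i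
        simpa [Matrix.col_apply, Matrix.toBlocks₂₁] using this
      rw [hb, hc]
    have hXY := (hmem _ _).mp (hA ▸ A.2)
    refine ⟨⟨A.1.toBlocks₁₁, A.1.toBlocks₂₂.transpose, hXY, mul_eq_one_comm.mp hXY⟩, ?_⟩
    apply Subtype.ext
    show e _ _ = A.1
    conv_rhs => rw [hA]
    simp [e]

end Cfsg.Agent.S0778
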