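import Cfsg.Statements.S0783
import Mathlib
import Cfsg.Agent.Lib.OrthUnitaryHerm

set_option autoImplicit false
open Cfsg

namespace Cfsg.Agent.S0783

open Cfsg.Agent.OrthUnitaryHerm in
theorem center_GU_scalar {F : Type*} [Field F] [Fintype F] {q : ℕ} (hF : Fintype.card F = q ^ 2)
    {n : ℕ} (g : ↥(Cfsg.GU n F q)) (hg : g ∈ Subgroup.center ↥(Cfsg.GU n F q)) (z : Fin n) :
    ((g : Matrix.GeneralLinearGroup (Fin n) F) : Matrix (Fin n) (Fin n) F) =
      Matrix.diagonal fun _ => ((g : Matrix.GeneralLinearGroup (Fin n) F) :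
        Matrix (Fin n) (Fin n) F) z z := by
  classical
  set M := ((g : Matrix.GeneralLinearGroup (Fin n) F) : Matrix (Fin n) (Fin n) F) with hM
  have comm : ∀ (N : Matrix (Fin n) (Fin n) F), IsU q N → N * M = M * N := fun N hN => by
    have h := Subgroup.mem_center_iff.1 hg (mkGU hF N hN)
    have h' := congrArg (fun x : ↥(Cfsg.GU n F q) =>
      ((x : Matrix.GeneralLinearGroup (Fin n) F) : Matrix (Fin n) (Fin n) F)) h
    simpa [mkGU_coe] using h'
  obtain ⟨l, hl, hl2⟩ := exists_normOne_sq_ne_one hF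
  have hlF : (l : F) ^ (q + 1) = 1 := by rw [← Units.val_pow_eq_pow_val, hl, Units.val_one]
  ext a b
  by_cases hab : a = b
  · subst hab
    rw [Matrix.diagonal_apply_eq]
    by_cases haz : a = z
    · rw [haz]
    have h := comm (monMat (Equiv.swap a z) (fun _ => 1)) (isU_monMat _ fun _ => one_pow _)
    simp only [monMat, Matrix.diagonal_one, mul_one] at h
    have h' := congrFun (congrFun h a) z
    rw [PEquiv.toMatrix_toPEquiv_mul, PEquiv.mul_toMatrix_toPEquiv] at h'
    simpa using h'.symm
  · rw [Matrix.diagonal_apply_ne _ hab]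
    set d : Fin n → F := Function.update 1 a (l : F) with hd
    have hdn : ∀ i, d i ^ (q + 1) = 1 := fun i => by
      by_cases h : i = a
      · subst h; simp [hd, hlF]
      · simp [hd, h]
    have h := congrFun (congrFun (comm (monMat 1 d) (isU_monMat 1 hdn)) a) b
    simp only [monMat, Matrix.permMatrix_one, one_mul, Matrix.diagonal_mul,
      Matrix.mul_diagonal] at h
    simp [hd, Ne.symm hab] at h
    by_contra h0
    have hl1 : (l : F) = 1 := mul_right_cancel₀ h0 (by rw [one_mul]; exact h)
    exact hl2 (by ext; simp [hl1])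

/-- PGU_n(q)/PSU_n(q) is cyclic of order (n, q+1): for n ≥ 2 and |F| = q² there is a surjective homomorphism from GU_n(q) onto the cyclic group of order gcd(n, q + 1) whose kernel is generated by the determinant-one elements together with the centre. -/
theorem result {F : Type*} [Field F] [Fintype F] {q : ℕ} (hF : Fintype.card F = q ^ 2) (n : ℕ) (hn : 2 ≤ n) : ∃ φ : ↥(Cfsg.GU n F q) →* Multiplicative (ZMod (Nat.gcd n (q + 1))), Function.Surjective φ ∧ φ.ker = (Matrix.GeneralLinearGroup.det : Matrix.GeneralLinearGroup (Fin n) F →* Fˣ).ker.subgroupOf (Cfsg.GU n F q) ⊔ Subgroup.center ↥(Cfsg.GU n F q) := by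
  classical
  open Cfsg.Agent.OrthUnitaryHerm in
  let N : Subgroup Fˣ := (powMonoidHom (q + 1) : Fˣ →* Fˣ).ker
  let P : Subgroup N := (powMonoidHom n : N →* N).range
  let d : ↥(Cfsg.GU n F q) →* N :=
    (OrthUnitaryHerm.detGU (n := n) (F := F) (q := q)).codRestrict N fun g => by
      show _ ∈ (powMonoidHom (q + 1) : Fˣ →* Fˣ).ker
      rw [← OrthUnitaryHerm.range_detGU hF (show 1 ≤ n by omega)]; exact ⟨g, rfl⟩
  have hd : Function.Surjective d := by
    intro x
    obtain ⟨g, hg⟩ : (x : Fˣ) ∈ (OrthUnitaryHerm.detGU (n := n) (F := F) (q := q)).range := by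
      rw [OrthUnitaryHerm.range_detGU hF (show 1 ≤ n by omega)]; exact x.2
    exact ⟨g, Subtype.ext hg⟩
  have hN : Nat.card N = q + 1 := OrthUnitaryHerm.card_normOne hF
  have hcard : Nat.card (N ⧸ P) = Nat.gcd n (q + 1) := by
    rw [← Subgroup.index_eq_card, IsCyclic.index_powMonoidHom_range, hN, Nat.gcd_comm]
  let e : (N ⧸ P) ≃* Multiplicative (ZMod (Nat.gcd n (q + 1))) :=
    (hcard ▸ (zmodCyclicMulEquiv (inferInstance : IsCyclic (N ⧸ P))).symm)
  refine ⟨(e.toMonoidHom.comp (QuotientGroup.mk' P)).comp d,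
    e.surjective.comp (Quotient.mk''_surjective.comp hd), ?_⟩
  ext g
  rw [MonoidHom.mem_ker, MonoidHom.comp_apply, MonoidHom.comp_apply, MulEquiv.coe_toMonoidHom,
    map_eq_one_iff e e.injective, QuotientGroup.mk'_apply, QuotientGroup.eq_one_iff]
  constructor
  · rintro ⟨x, hx⟩
    have hxn : ∀ i : Fin n, ((x : Fˣ) : F) ^ (q + 1) = 1 := fun _ => by
      rw [← Units.val_pow_eq_pow_val, show (x : Fˣ) ^ (q + 1) = 1 from x.2, Units.val_one]
    set z := OrthUnitaryHerm.mkGU hF _ (OrthUnitaryHerm.isU_monMat (q := q) 1 hxn) with hzdef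
    have hzM : ((z : Matrix.GeneralLinearGroup (Fin n) F) : Matrix (Fin n) (Fin n) F) =
        Matrix.scalar (Fin n) ((x : Fˣ) : F) := by
      rw [hzdef, OrthUnitaryHerm.mkGU_coe]
      simp [OrthUnitaryHerm.monMat]
    have hz : z ∈ Subgroup.center ↥(Cfsg.GU n F q) := by
      rw [Subgroup.mem_center_iff]
      intro k
      apply Subtype.ext
      apply Units.ext
      simp only [Subgroup.coe_mul, Units.val_mul, hzM]
      exact (Matrix.scalar_commute _ (fun r => Commute.all _ r) _).symm
    have hdz : Matrix.GeneralLinearGroup.det (z : Matrix.GeneralLinearGroup (Fin n) F) =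
        (x : Fˣ) ^ n := by
      apply Units.ext
      simp [Matrix.GeneralLinearGroup.val_det_apply, hzM]
    have hdg : Matrix.GeneralLinearGroup.det (g : Matrix.GeneralLinearGroup (Fin n) F) =
        (x : Fˣ) ^ n := by
      have := congrArg Subtype.val hx
      simpa [d, OrthUnitaryHerm.detGU] using this.symm
    have hmem : g * z⁻¹ ∈ (Matrix.GeneralLinearGroup.det :
        Matrix.GeneralLinearGroup (Fin n) F →* Fˣ).ker.subgroupOf (Cfsg.GU n F q) := by
      rw [Subgroup.mem_subgroupOf, MonoidHom.mem_ker, Subgroup.coe_mul, Subgroup.coe_inv, map_mul,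
        map_inv, hdz, hdg, mul_inv_cancel]
    simpa using Subgroup.mul_mem_sup hmem hz
  · intro hg
    have key : (Matrix.GeneralLinearGroup.det :
        Matrix.GeneralLinearGroup (Fin n) F →* Fˣ).ker.subgroupOf (Cfsg.GU n F q) ⊔
          Subgroup.center ↥(Cfsg.GU n F q) ≤ P.comap d := by
      refine sup_le (fun a ha => ?_) fun a ha => ?_
      · rw [Subgroup.mem_comap, show d a = 1 from Subtype.ext ha]
        exact P.one_mem
      · have hs := center_GU_scalar hF a ha ⟨0, by omega⟩
        have hdet : (a : Matrix.GeneralLinearGroup (Fin n) F).1.det =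
            ((a : Matrix.GeneralLinearGroup (Fin n) F).1 ⟨0, by omega⟩ ⟨0, by omega⟩) ^ n := by
          conv_lhs => rw [hs]
          simp
        have h0 : (a : Matrix.GeneralLinearGroup (Fin n) F).1 ⟨0, by omega⟩ ⟨0, by omega⟩ ≠ 0 := by
          intro h0
          rw [h0, zero_pow (by omega)] at hdet
          exact (Matrix.GeneralLinearGroup.det (a : Matrix.GeneralLinearGroup (Fin n) F)).ne_zero
            (by simpa [Matrix.GeneralLinearGroup.val_det_apply] using hdet)
        have hu : Units.mk0 _ h0 ∈ N := by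
          rw [MonoidHom.mem_ker, powMonoidHom_apply]
          apply Units.ext
          have h := OrthUnitaryHerm.isU_of_mem a (Pi.single ⟨0, by omega⟩ 1) (Pi.single ⟨0, by omega⟩ 1)
          rw [hs] at h
          simp [Cfsg.hermForm, Matrix.mulVec_diagonal, Pi.single_apply, mul_pow,
            zero_pow (OrthUnitaryHerm.q_ne_zero hF), apply_ite] at h
          simp [pow_succ', h]
        refine ⟨⟨_, hu⟩, Subtype.ext ?_⟩
        apply Units.ext
        simp [d, OrthUnitaryHerm.detGU, Matrix.GeneralLinearGroup.val_det_apply, hdet]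
    exact key hg

end Cfsg.Agent.S0783
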