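import Cfsg.Statements.S0784
import Mathlib

set_option autoImplicit false
open Cfsg

namespace Cfsg.Agent.S0784

open scoped Matrix
theorem dot_polarVec {F : Type*} [CommRing F] {n : ℕ} (Q : QuadraticForm F (Fin n → F))
    (v x : Fin n → F) :
    Cfsg.polarVec (⇑Q) v ⬝ᵥ x = QuadraticMap.polar (⇑Q) v x := by
  classical
  conv_rhs => rw [← Finset.univ_sum_single x]
  rw [show QuadraticMap.polar (⇑Q) v (∑ i, Pi.single i (x i)) =
    QuadraticMap.polarBilin Q v (∑ i, Pi.single i (x i)) from rfl, map_sum]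
  refine Finset.sum_congr rfl fun i _ => ?_
  rw [QuadraticMap.polarBilin_apply_apply,
    show (Pi.single i (x i) : Fin n → F) = x i • (Pi.single i (1 : F) : Fin n → F) by
      simp [← Pi.single_smul],
    QuadraticMap.polar_smul_right]
  simp [Cfsg.polarVec, mul_comm]

theorem vecMulVec_polarVec_mulVec {F : Type*} [CommRing F] {n : ℕ}
    (Q : QuadraticForm F (Fin n → F)) (u v x : Fin n → F) :
    (Matrix.vecMulVec u (Cfsg.polarVec (⇑Q) v)).mulVec x = QuadraticMap.polar (⇑Q) v x • u := by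
  rw [Matrix.vecMulVec_mulVec, dot_polarVec]
  ext i; simp [mul_comm]

/-- Reflections: if Q(v) ≠ 0 then the matrix R = 1 − Q(v)⁻¹ · v f(v, ·)ᵀ preserves Q, maps v to −v, fixes each x with f(v, x) = 0, and has determinant −1 (in characteristic two, −1 = 1 and R is the orthogonal transvection of v). -/
theorem result {F : Type*} [Field F] {n : ℕ} (Q : QuadraticForm F (Fin n → F)) (v : Fin n → F) (hv : Q v ≠ 0) : (∀ x, Q ((Cfsg.reflectionMatrix ⇑Q v).mulVec x) = Q x) ∧ (Cfsg.reflectionMatrix ⇑Q v).mulVec v = -v ∧ (∀ x, QuadraticMap.polar ⇑Q v x = 0 → (Cfsg.reflectionMatrix ⇑Q v).mulVec x = x) ∧ (Cfsg.reflectionMatrix ⇑Q v).det = -1 := by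
  have hR : ∀ x, (Cfsg.reflectionMatrix ⇑Q v).mulVec x =
      x - ((Q v)⁻¹ * QuadraticMap.polar (⇑Q) v x) • v := by
    intro x
    simp [Cfsg.reflectionMatrix, Matrix.sub_mulVec, Matrix.smul_mulVec,
      vecMulVec_polarVec_mulVec, smul_smul]
  have hself : QuadraticMap.polar (⇑Q) v v = 2 * Q v := by
    rw [QuadraticMap.polar_self, nsmul_eq_mul, Nat.cast_two]
  refine ⟨fun x => ?_, ?_, fun x hx => by simp [hR, hx], ?_⟩
  · rw [hR, sub_eq_add_neg, ← neg_smul, QuadraticMap.map_add Q, QuadraticMap.map_smul Q,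
      QuadraticMap.polar_smul_right, QuadraticMap.polar_comm (⇑Q) x v, smul_eq_mul, smul_eq_mul]
    field_simp
    ring
  · rw [hR, hself]
    have : (Q v)⁻¹ * (2 * Q v) = 2 := by field_simp
    rw [this, two_smul]; abel
  · rw [Cfsg.reflectionMatrix, sub_eq_add_neg, ← neg_smul, ← Matrix.smul_vecMulVec,
      Matrix.vecMulVec_eq Unit, Matrix.det_one_add_replicateCol_mul_replicateRow,
      dotProduct_smul, dot_polarVec, hself, smul_eq_mul]
    field_simp
    norm_num

end Cfsg.Agent.S0784
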