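import Cfsg.Statements.S0785
import Cfsg.Agent.Lib.OrthUnitaryForms
-- import your own Cfsg.Agent.* helpers here

set_option autoImplicit false
open Cfsg Matrix

namespace Cfsg.Agent.S0785

/-- det(I) = {±1}: for a quadratic form on F^n whose polar form is non-degenerate, every element of the isometry group has determinant 1 or −1, and as soon as Q takes a non-zero value some isometry has determinant −1. -/
theorem result {F : Type*} [Field F] {n : ℕ} (Q : QuadraticForm F (Fin n → F)) (hQ : (QuadraticMap.polarBilin Q).Nondegenerate) : (∀ g : ↥(Cfsg.isometryGroup F ⇑Q), ((g : Matrix.GeneralLinearGroup (Fin n) F) : Matrix (Fin n) (Fin n) F).det = 1 ∨ ((g : Matrix.GeneralLinearGroup (Fin n) F) : Matrix (Fin n) (Fin n) F).det = -1) ∧ ((∃ v, Q v ≠ 0) → ∃ g : ↥(Cfsg.isometryGroup F ⇑Q), ((g : Matrix.GeneralLinearGroup (Fin n) F) : Matrix (Fin n) (Fin n) F).det = -1) := by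
  classical
  set f : (Fin n → F) →ₗ[F] (Fin n → F) →ₗ[F] F := QuadraticMap.polarBilin Q with hf
  set G := LinearMap.toMatrix₂' F f with hG
  have hdet : G.det ≠ 0 :=
    Matrix.nondegenerate_iff_det_ne_zero.1 (LinearMap.nondegenerate_toMatrix₂'_iff.2 hQ)
  constructor
  · intro g
    set M := ((g : Matrix.GeneralLinearGroup (Fin n) F) : Matrix (Fin n) (Fin n) F) with hM
    have hq : ∀ v, Q (M *ᵥ v) = Q v := fun v => g.2 v v
    have h1 : Mᵀ * G * M = G := by
      have h2 : f.compl₁₂ (Matrix.toLin' M) (Matrix.toLin' M) = f := by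
        apply LinearMap.ext; intro u; apply LinearMap.ext; intro v
        simp [hf, QuadraticMap.polar, ← Matrix.mulVec_add, hq]
      have h3 := LinearMap.toMatrix₂'_compl₁₂ f (Matrix.toLin' M) (Matrix.toLin' M)
      rw [h2, LinearMap.toMatrix'_toLin'] at h3
      exact h3.symm
    have h4 := congrArg Matrix.det h1
    rw [Matrix.det_mul, Matrix.det_mul, Matrix.det_transpose] at h4
    exact mul_self_eq_one_iff.1 (mul_right_cancel₀ hdet (by linear_combination h4))
  · rintro ⟨v, hv⟩
    have hpol : ∀ x, (Cfsg.polarVec (⇑Q) v) ⬝ᵥ x = QuadraticMap.polar Q v x := by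
      intro x
      conv_rhs => rw [← Finset.univ_sum_single x]
      rw [← QuadraticMap.polarBilin_apply_apply, map_sum]
      simp only [dotProduct]
      refine Finset.sum_congr rfl fun i _ => ?_
      have : Pi.single i (x i) = x i • (Pi.single i 1 : Fin n → F) := by simp [← Pi.single_smul]
      rw [this, map_smul, QuadraticMap.polarBilin_apply_apply, smul_eq_mul, mul_comm]
      rfl
    have happ : ∀ x, Cfsg.reflectionMatrix (⇑Q) v *ᵥ x
        = (OrthUnitaryQuad.refl Q v hv).1 x := fun x => by
      rw [OrthUnitaryQuad.refl_apply, ← hpol]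
      simp [Cfsg.reflectionMatrix, Matrix.sub_mulVec, Matrix.smul_mulVec, Matrix.vecMulVec_mulVec,
        smul_smul]
    have hu : IsUnit (Cfsg.reflectionMatrix (⇑Q) v) := by
      rw [← Matrix.mulVec_injective_iff_isUnit]
      intro x y hxy
      exact (OrthUnitaryQuad.refl Q v hv).1.injective (by rw [← happ, ← happ]; exact hxy)
    refine ⟨⟨hu.unit, fun x _ => ?_⟩, ?_⟩
    · show Q (Cfsg.reflectionMatrix (⇑Q) v *ᵥ x) = Q x
      rw [happ]; exact OrthUnitaryQuad.map_orth _ x
    · show (Cfsg.reflectionMatrix (⇑Q) v).det = -1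
      have : Cfsg.reflectionMatrix (⇑Q) v = 1 + Matrix.replicateCol Unit ((-(Q v)⁻¹) • v) *
          Matrix.replicateRow Unit (Cfsg.polarVec (⇑Q) v) := by
        ext i j
        simp [Cfsg.reflectionMatrix, Matrix.vecMulVec_apply, Matrix.mul_apply, sub_eq_add_neg,
          mul_assoc]
      rw [this, Matrix.det_one_add_replicateCol_mul_replicateRow, dotProduct_smul, hpol,
        OrthUnitaryQuad.polar_self_mul, smul_eq_mul]
      field_simp
      ring

end Cfsg.Agent.S0785
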