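import Cfsg.Statements.S0786
import Cfsg.Agent.Lib.OrthUnitaryPrelude
-- import your own Cfsg.Agent.* helpers here

set_option autoImplicit false
open Cfsg
open Cfsg.Agent.OrthUnitaryQuad Cfsg.Agent.OrthUnitaryRefl Cfsg.Agent.OrthUnitaryOmega Cfsg.Agent.OrthUnitaryPrelude

namespace Cfsg.Agent.S0786

/-- Generation by reflections: if F is finite, Q is a quadratic form on F^n with non-degenerate polar form, and (|F|, n) ≠ (2, 4), then the isometry group of Q is generated by the reflections r_v, Q(v) ≠ 0. -/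
theorem result {F : Type*} [Field F] [Fintype F] {n : ℕ} (Q : QuadraticForm F (Fin n → F)) (hQ : (QuadraticMap.polarBilin Q).Nondegenerate) (h : Fintype.card F ≠ 2 ∨ n ≠ 4) : Subgroup.closure {g : ↥(Cfsg.isometryGroup F ⇑Q) | ∃ v : Fin n → F, Q v ≠ 0 ∧ ((g : Matrix.GeneralLinearGroup (Fin n) F) : Matrix (Fin n) (Fin n) F) = Cfsg.reflectionMatrix ⇑Q v} = ⊤ := by
  have hgen := reflGroup_eq_top (isReg_of_nondegenerate hQ)
    (h.imp exists_ne_zero_one (fun hn => by rwa [finrank_pi, Fintype.card_fin]))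
  rw [eq_top_iff]
  intro g _
  have hg : iso Q g ∈ reflGroup Q := hgen ▸ Subgroup.mem_top _
  suffices H : ∀ k, k ∈ reflGroup Q → (iso Q).symm k ∈ Subgroup.closure {g : ↥(Cfsg.isometryGroup F ⇑Q) | ∃ v : Fin n → F, Q v ≠ 0 ∧ ((g : Matrix.GeneralLinearGroup (Fin n) F) : Matrix (Fin n) (Fin n) F) = Cfsg.reflectionMatrix ⇑Q v} by
    simpa using H _ hg
  intro k hk
  induction hk using Subgroup.closure_induction with
  | mem k hk =>
    obtain ⟨v, hv, rfl⟩ := hk
    refine Subgroup.subset_closure ⟨v, hv, ?_⟩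
    exact (mat_eq_reflectionMatrix_iff _ hv).2 (MulEquiv.apply_symm_apply _ _)
  | one => rw [map_one]; exact Subgroup.one_mem _
  | mul a b _ _ ha hb => rw [map_mul]; exact Subgroup.mul_mem _ ha hb
  | inv a _ ha => rw [map_inv]; exact Subgroup.inv_mem _ ha

end Cfsg.Agent.S0786
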