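import Cfsg.Statements.S0787
import Cfsg.Agent.Lib.OrthUnitaryPrelude
import Cfsg.Agent.S0786
import Cfsg.Agent.S0788
import Cfsg.Agent.S0789

set_option autoImplicit false
open Cfsg

open Cfsg.Agent.OrthUnitaryQuad Cfsg.Agent.OrthUnitaryRefl Cfsg.Agent.OrthUnitaryOmega Cfsg.Agent.OrthUnitaryPrelude
open scoped commutatorElement

namespace Cfsg.Agent.S0787

/-- An index two subgroup of a normal subgroup `N` contains the commutator subgroup of a group
generated by involutions whose pairwise products lie in `N`. -/
theorem commutator_le_of_index_two {G : Type*} [Group G] (N : Subgroup G) [N.Normal] (R : Set G)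
    (hR : Subgroup.closure R = ⊤) (hinv : ∀ r ∈ R, r * r = 1)
    (hN : ∀ a ∈ R, ∀ b ∈ R, a * b ∈ N) (H : Subgroup N) (hH : H.index = 2) :
    (commutator G).subgroupOf N ≤ H := by
  let T : Set G := {y | ∃ x ∈ N, y = x * x}
  let S := Subgroup.normalClosure T
  have hST : S ≤ H.map N.subtype := by
    show Subgroup.closure (Group.conjugatesOfSet T) ≤ _
    rw [Subgroup.closure_le]
    intro y hy
    obtain ⟨z, ⟨x, hx, rfl⟩, hz⟩ := Group.mem_conjugatesOfSet_iff.1 hy
    obtain ⟨c, rfl⟩ := isConj_iff.1 hz
    refine ⟨⟨c * x * c⁻¹, Subgroup.Normal.conj_mem inferInstance x hx c⟩ *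
      ⟨c * x * c⁻¹, Subgroup.Normal.conj_mem inferInstance x hx c⟩,
      Subgroup.mul_self_mem_of_index_two hH _, ?_⟩
    simp [mul_assoc]
  have hcom : ∀ a ∈ R, ∀ b ∈ R, Commute (QuotientGroup.mk' S a) (QuotientGroup.mk' S b) := by
    intro a ha b hb
    have h1 : QuotientGroup.mk' S (a * b * (a * b)) = 1 :=
      (QuotientGroup.eq_one_iff _).2 (Subgroup.subset_normalClosure ⟨a * b, hN a ha b hb, rfl⟩)
    have ha1 : QuotientGroup.mk' S a * QuotientGroup.mk' S a = 1 := by
      rw [← map_mul, hinv a ha, map_one]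
    have hb1 : QuotientGroup.mk' S b * QuotientGroup.mk' S b = 1 := by
      rw [← map_mul, hinv b hb, map_one]
    simp only [map_mul] at h1
    show QuotientGroup.mk' S a * QuotientGroup.mk' S b = QuotientGroup.mk' S b * QuotientGroup.mk' S a
    calc QuotientGroup.mk' S a * QuotientGroup.mk' S b
        = (QuotientGroup.mk' S a * QuotientGroup.mk' S b)⁻¹ := eq_inv_of_mul_eq_one_left h1
      _ = QuotientGroup.mk' S b * QuotientGroup.mk' S a := by
          rw [mul_inv_rev, inv_eq_of_mul_eq_one_left ha1, inv_eq_of_mul_eq_one_left hb1]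
  have hall : ∀ g h : G, Commute (QuotientGroup.mk' S g) (QuotientGroup.mk' S h) := by
    intro g h
    have hg : g ∈ Subgroup.closure R := hR ▸ Subgroup.mem_top g
    have hh : h ∈ Subgroup.closure R := hR ▸ Subgroup.mem_top h
    induction hg using Subgroup.closure_induction with
    | mem a ha =>
      induction hh using Subgroup.closure_induction with
      | mem b hb => exact hcom a ha b hb
      | one => rw [map_one]; exact Commute.one_right _
      | mul u v _ _ hu hv => rw [map_mul]; exact hu.mul_right hv
      | inv u _ hu => rw [map_inv]; exact hu.inv_right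
    | one => rw [map_one]; exact Commute.one_left _
    | mul u v _ _ hu hv => rw [map_mul]; exact hu.mul_left hv
    | inv u _ hu => rw [map_inv]; exact hu.inv_left
  have hC : commutator G ≤ S := by
    rw [commutator_def, Subgroup.commutator_le]
    intro g _ h _
    rw [← QuotientGroup.eq_one_iff (N := S)]
    show QuotientGroup.mk' S ⁅g, h⁆ = 1
    rw [map_commutatorElement, commutatorElement_eq_one_iff_commute]
    exact hall g h
  intro x hx
  obtain ⟨y, hy, hyx⟩ := hST (hC (Subgroup.mem_subgroupOf.1 hx))
  exact Subtype.ext hyx ▸ hy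

end Cfsg.Agent.S0787

namespace Cfsg.Agent.S0787

/-- Existence and uniqueness of Ω: if F is finite, n ≥ 2, Q is a quadratic form on F^n with non-degenerate polar form and (|F|, n) ≠ (2, 4), then the group of isometries of determinant one has a unique subgroup of index 2. -/
theorem result {F : Type*} [Field F] [Fintype F] {n : ℕ} (hn : 2 ≤ n) (Q : QuadraticForm F (Fin n → F)) (hQ : (QuadraticMap.polarBilin Q).Nondegenerate) (h : Fintype.card F ≠ 2 ∨ n ≠ 4) : ∃! H : Subgroup ↥(Cfsg.specialIsometryGroup F ⇑Q), H.index = 2 := by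
  classical
  let O := Cfsg.isometryGroup F ⇑Q
  let N := Cfsg.specialIsometryGroup F ⇑Q
  have hNn : N.Normal := MonoidHom.normal_ker _
  let R : Set ↥(Cfsg.isometryGroup F ⇑Q) := {g | ∃ v hv, iso Q g = refl Q v hv}
  have hR : Subgroup.closure R = ⊤ := by
    rw [eq_top_iff, ← S0786.result Q hQ h]
    refine Subgroup.closure_mono ?_
    rintro g ⟨v, hv, hg⟩
    exact ⟨v, hv, (mat_eq_reflectionMatrix_iff g hv).1 hg⟩
  have hdet : ∀ r ∈ R, detHom Q (iso Q r) = -1 := by
    rintro r ⟨v, hv, hr⟩
    rw [hr, detHom_refl]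
  have hinv : ∀ r ∈ R, r * r = 1 := by
    rintro r ⟨v, hv, hr⟩
    apply (iso Q).injective
    rw [map_mul, map_one, hr, refl_sq]
  have hRN : ∀ a ∈ R, ∀ b ∈ R, a * b ∈ N := by
    intro a ha b hb
    rw [mem_specialIsometryGroup, map_mul, map_mul, hdet a ha, hdet b hb]
    simp
  have hall : ∀ g, detHom Q (iso Q g) = 1 ∨ detHom Q (iso Q g) = -1 := by
    intro g
    have hg : g ∈ Subgroup.closure R := hR ▸ Subgroup.mem_top g
    induction hg using Subgroup.closure_induction with
    | mem a ha => exact Or.inr (hdet a ha)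
    | one => left; simp
    | mul u v _ _ hu hv =>
      rw [map_mul, map_mul]
      rcases hu with hu | hu <;> rcases hv with hv | hv <;> rw [hu, hv] <;> simp
    | inv u _ hu =>
      rw [map_inv, map_inv]
      rcases hu with hu | hu <;> rw [hu] <;> simp
  have hCN : Cfsg.Omega F ⇑Q ≤ N := Abelianization.commutator_subset_ker _
  have hidx : ((Cfsg.Omega F ⇑Q).subgroupOf N).index = 2 := by
    have key := Subgroup.relIndex_mul_index hCN
    show (Cfsg.Omega F ⇑Q).relIndex N = 2
    by_cases h2 : (2 : F) = 0
    · have : CharP F 2 := CharTwo.of_one_ne_zero_of_two_eq_zero one_ne_zero h2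
      have hC : (Cfsg.Omega F ⇑Q).index = 2 := S0789.result hn Q hQ h
      have hN : N = ⊤ := by
        rw [eq_top_iff]
        intro g _
        rw [mem_specialIsometryGroup]
        rcases hall g with hg | hg
        · exact hg
        · rw [hg]; apply Units.ext; simp [CharTwo.neg_eq]
      rw [hN, Subgroup.relIndex_top_right, hC]
    · have hC : (Cfsg.Omega F ⇑Q).index = 4 := S0788.result h2 hn Q hQ
      obtain ⟨r, hr⟩ : R.Nonempty := by
        by_contra hne
        rw [Set.not_nonempty_iff_eq_empty] at hne
        rw [hne, Subgroup.closure_empty] at hR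
        have h1 : (Cfsg.Omega F ⇑Q).index ≤ 1 := by
          have : Subsingleton ↥(Cfsg.isometryGroup F ⇑Q) := by
            constructor
            intro a b
            have ha : a ∈ (⊥ : Subgroup ↥(Cfsg.isometryGroup F ⇑Q)) := hR ▸ Subgroup.mem_top a
            have hb : b ∈ (⊥ : Subgroup ↥(Cfsg.isometryGroup F ⇑Q)) := hR ▸ Subgroup.mem_top b
            rw [Subgroup.mem_bot.1 ha, Subgroup.mem_bot.1 hb]
          rw [Subsingleton.elim (Cfsg.Omega F ⇑Q) ⊤, Subgroup.index_top]
        omega
      have hne1 : (-1 : Fˣ) ≠ 1 := by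
        intro he
        apply h2
        have := congrArg Units.val he
        simp only [Units.val_neg, Units.val_one] at this
        linear_combination -this
      have hN : N.index = 2 := by
        rw [Subgroup.index_eq_two_iff]
        refine ⟨r, fun b => ?_⟩
        rw [mem_specialIsometryGroup, mem_specialIsometryGroup, map_mul, map_mul, hdet r hr]
        rcases hall b with hb | hb
        · exact Or.inr ⟨hb, by rw [hb]; simpa using hne1⟩
        · exact Or.inl ⟨by rw [hb]; simp, by rw [hb]; exact hne1⟩
      rw [hN, hC] at key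
      omega
  refine ⟨(Cfsg.Omega F ⇑Q).subgroupOf N, hidx, fun H hH => ?_⟩
  have hle := commutator_le_of_index_two N R hR hinv hRN H hH
  refine le_antisymm ?_ hle
  rw [← Subgroup.relIndex_eq_one]
  have := Subgroup.relIndex_mul_index hle
  rw [hH] at this
  have : ((Cfsg.Omega F ⇑Q).subgroupOf N).relIndex H * 2 = 2 := this.trans hidx
  omega

end Cfsg.Agent.S0787
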