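import Cfsg.Statements.S0792
import Cfsg.Agent.Lib.OrthUnitaryPrelude
-- import your own Cfsg.Agent.* helpers here

set_option autoImplicit false
open Cfsg
open Cfsg.Agent.OrthUnitaryQuad Cfsg.Agent.OrthUnitaryRefl Cfsg.Agent.OrthUnitaryOmega Cfsg.Agent.OrthUnitaryPrelude

namespace Cfsg.Agent.S0792

/-- For q odd and Q with non-degenerate polar form on F^n, the determinant-one isometries form the subgroup generated by all products r_u r_v of two reflections (Q(u), Q(v) ≠ 0). -/
theorem result {F : Type*} [Field F] [Fintype F] (h2 : (2 : F) ≠ 0) {n : ℕ} (Q : QuadraticForm F (Fin n → F)) (hQ : (QuadraticMap.polarBilin Q).Nondegenerate) : Cfsg.specialIsometryGroup F ⇑Q = Subgroup.closure {g : ↥(Cfsg.isometryGroup F ⇑Q) | ∃ u v : Fin n → F, Q u ≠ 0 ∧ Q v ≠ 0 ∧ ((g : Matrix.GeneralLinearGroup (Fin n) F) : Matrix (Fin n) (Fin n) F) = Cfsg.reflectionMatrix ⇑Q u * Cfsg.reflectionMatrix ⇑Q v} := by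
  have hne : (-1 : Fˣ) ≠ 1 := fun h => h2 (by
    have := congrArg Units.val h
    simp only [Units.val_neg, Units.val_one] at this
    linear_combination -this)
  have hgen := reflGroup_eq_top (isReg_of_nondegenerate hQ) (Or.inl ⟨-1, neg_ne_zero.2 one_ne_zero,
    fun h => h2 (by linear_combination -h)⟩)
  apply le_antisymm
  · intro g hg
    rw [mem_specialIsometryGroup, ← mem_pairGroup_iff hgen (detHom Q) hne (fun v hv => detHom_refl v hv)] at hg
    suffices H : ∀ k, k ∈ pairGroup Q → (iso Q).symm k ∈ Subgroup.closure {g : ↥(Cfsg.isometryGroup F ⇑Q) | ∃ u v : Fin n → F, Q u ≠ 0 ∧ Q v ≠ 0 ∧ ((g : Matrix.GeneralLinearGroup (Fin n) F) : Matrix (Fin n) (Fin n) F) = Cfsg.reflectionMatrix ⇑Q u * Cfsg.reflectionMatrix ⇑Q v} by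
      simpa using H _ hg
    intro k hk
    induction hk using Subgroup.closure_induction with
    | mem k hk =>
      obtain ⟨u, v, hu, hv, rfl⟩ := hk
      refine Subgroup.subset_closure ⟨u, v, hu, hv, ?_⟩
      exact (mat_eq_reflectionMatrix_mul_iff _ hu hv).2 (MulEquiv.apply_symm_apply _ _)
    | one => rw [map_one]; exact Subgroup.one_mem _
    | mul a b _ _ ha hb => rw [map_mul]; exact Subgroup.mul_mem _ ha hb
    | inv a _ ha => rw [map_inv]; exact Subgroup.inv_mem _ ha
  · rw [Subgroup.closure_le]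
    rintro g ⟨u, v, hu, hv, hg⟩
    rw [SetLike.mem_coe, mem_specialIsometryGroup, (mat_eq_reflectionMatrix_mul_iff g hu hv).1 hg,
      map_mul, detHom_refl, detHom_refl, neg_one_mul, neg_neg]

end Cfsg.Agent.S0792
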