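import Cfsg.Statements.S0793
import Mathlib

set_option autoImplicit false
open Cfsg

namespace Cfsg.Agent.S0793

open scoped Matrix
theorem dot_polarVec {F : Type*} [CommRing F] {n : ℕ} (Q : QuadraticForm F (Fin n → F))
    (v x : Fin n → F) :
    Cfsg.polarVec (⇑Q) v ⬝ᵥ x = QuadraticMap.polar (⇑Q) v x := by
  classical
  conv_rhs => rw [← Finset.univ_sum_single x]
  rw [show QuadraticMap.polar (⇑Q) v (∑ i, Pi.single i (x i)) =
    QuadraticMap.polarBilin Q v (∑ i, Pi.single i (x i)) from rfl, map_sum]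
  refine Finset.sum_congr rfl fun i _ => ?_
  rw [QuadraticMap.polarBilin_apply_apply,
    show (Pi.single i (x i) : Fin n → F) = x i • (Pi.single i (1 : F) : Fin n → F) by
      simp [← Pi.single_smul],
    QuadraticMap.polar_smul_right]
  simp [Cfsg.polarVec, mul_comm]

theorem vecMulVec_polarVec_mulVec {F : Type*} [CommRing F] {n : ℕ}
    (Q : QuadraticForm F (Fin n → F)) (u v x : Fin n → F) :
    (Matrix.vecMulVec u (Cfsg.polarVec (⇑Q) v)).mulVec x = QuadraticMap.polar (⇑Q) v x • u := by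
  rw [Matrix.vecMulVec_mulVec, dot_polarVec]
  ext i; simp [mul_comm]

/-- Root elements: if Q(u) = Q(v) = 0 and f(u, v) = 0 (f the polar form), then for every c the Siegel matrix T_(u,v)(c) preserves Q, fixes u and v, and T(c) T(d) = T(c + d). -/
theorem result {F : Type*} [Field F] {n : ℕ} (Q : QuadraticForm F (Fin n → F)) (u v : Fin n → F) (hu : Q u = 0) (hv : Q v = 0) (huv : QuadraticMap.polar ⇑Q u v = 0) : (∀ c x, Q ((Cfsg.siegelMatrix ⇑Q u v c).mulVec x) = Q x) ∧ (∀ c, (Cfsg.siegelMatrix ⇑Q u v c).mulVec u = u ∧ (Cfsg.siegelMatrix ⇑Q u v c).mulVec v = v) ∧ ∀ c d, Cfsg.siegelMatrix ⇑Q u v c * Cfsg.siegelMatrix ⇑Q u v d = Cfsg.siegelMatrix ⇑Q u v (c + d) := by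
  have hT : ∀ c x, (Cfsg.siegelMatrix ⇑Q u v c).mulVec x =
      x + (c * QuadraticMap.polar (⇑Q) u x) • v + (-(c * QuadraticMap.polar (⇑Q) v x)) • u := by
    intro c x
    simp [Cfsg.siegelMatrix, Matrix.add_mulVec, Matrix.sub_mulVec, Matrix.smul_mulVec,
      vecMulVec_polarVec_mulVec, smul_smul, smul_sub]
    abel
  have hvu : QuadraticMap.polar (⇑Q) v u = 0 := by rw [QuadraticMap.polar_comm]; exact huv
  have huu : QuadraticMap.polar (⇑Q) u u = 0 := by rw [QuadraticMap.polar_self, hu, smul_zero]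
  have hvv : QuadraticMap.polar (⇑Q) v v = 0 := by rw [QuadraticMap.polar_self, hv, smul_zero]
  refine ⟨fun c x => ?_, fun c => ⟨?_, ?_⟩, fun c d => ?_⟩
  · rw [hT, QuadraticMap.map_add Q, QuadraticMap.map_add Q]
    simp only [QuadraticMap.map_smul Q, hu, hv, smul_zero, QuadraticMap.polar_add_left,
      QuadraticMap.polar_smul_right, QuadraticMap.polar_smul_left, smul_eq_mul, hvu,
      QuadraticMap.polar_comm (⇑Q) x v, QuadraticMap.polar_comm (⇑Q) x u]
    ring
  · rw [hT, huu, hvu]; simp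
  · rw [hT, hvv, huv]; simp
  · ext i j
    have h : (Cfsg.siegelMatrix ⇑Q u v c * Cfsg.siegelMatrix ⇑Q u v d).mulVec (Pi.single j 1) =
        (Cfsg.siegelMatrix ⇑Q u v (c + d)).mulVec (Pi.single j 1) := by
      rw [← Matrix.mulVec_mulVec, hT, hT, hT]
      simp only [QuadraticMap.polar_add_right, QuadraticMap.polar_smul_right, huu, huv, hvu, hvv,
        smul_zero, add_zero]
      module
    simpa [Matrix.col_apply] using congrFun h i

end Cfsg.Agent.S0793
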