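import Cfsg.Statements.S0794
import Mathlib
import Cfsg.Agent.S0793

set_option autoImplicit false
open Cfsg

namespace Cfsg.Agent.S0794

/-- For q odd, n ≥ 5 and Q with non-degenerate polar form: an isometry whose matrix is a Siegel transformation T_(u,v)(c) (u, v singular and orthogonal) is a commutator in the isometry group, so lies in Ω. -/
theorem result {F : Type*} [Field F] [Fintype F] (h2 : (2 : F) ≠ 0) {n : ℕ} (hn : 5 ≤ n) (Q : QuadraticForm F (Fin n → F)) (hQ : (QuadraticMap.polarBilin Q).Nondegenerate) (u v : Fin n → F) (hu : Q u = 0) (hv : Q v = 0) (huv : QuadraticMap.polar ⇑Q u v = 0) (c : F) (g : ↥(Cfsg.isometryGroup F ⇑Q)) (hg : ((g : Matrix.GeneralLinearGroup (Fin n) F) : Matrix (Fin n) (Fin n) F) = Cfsg.siegelMatrix ⇑Q u v c) : g ∈ commutatorSet ↥(Cfsg.isometryGroup F ⇑Q) ∧ g ∈ Cfsg.Omega F ⇑Q := by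
  classical
  have hT : ∀ (c : F) x, (Cfsg.siegelMatrix ⇑Q u v c).mulVec x =
      x + (c * QuadraticMap.polar (⇑Q) u x) • v + (-(c * QuadraticMap.polar (⇑Q) v x)) • u := by
    intro c x
    simp [Cfsg.siegelMatrix, Matrix.add_mulVec, Matrix.sub_mulVec, Matrix.smul_mulVec,
      Cfsg.Agent.S0793.vecMulVec_polarVec_mulVec, smul_smul, smul_sub]
    abel
  suffices hc : g ∈ commutatorSet ↥(Cfsg.isometryGroup F ⇑Q) from
    ⟨hc, by rw [Cfsg.Omega, commutator_eq_closure]; exact Subgroup.subset_closure hc⟩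
  by_cases hind : LinearIndependent F ![u, v]
  · -- partner of `u` orthogonal to `v`
    obtain ⟨w, hwu, hwv⟩ : ∃ w, QuadraticMap.polar (⇑Q) u w = 1 ∧ QuadraticMap.polar (⇑Q) v w = 0 := by
      have hu' : u ∉ Submodule.span F {v} := by
        intro h
        obtain ⟨t, ht⟩ := Submodule.mem_span_singleton.mp h
        have := (LinearIndependent.pair_iff.mp hind) 1 (-t) (by rw [← ht]; simp)
        exact one_ne_zero this.1
      obtain ⟨l, hl1, hl2⟩ := Submodule.exists_dual_map_eq_bot_of_notMem hu' inferInstance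
      have hlv : l v = 0 := by
        have : l v ∈ (Submodule.span F {v}).map l :=
          Submodule.mem_map_of_mem (Submodule.mem_span_singleton_self v)
        rwa [hl2, Submodule.mem_bot] at this
      let φ : Module.Dual F (Fin n → F) := (l u)⁻¹ • l
      have hw : ∀ y, QuadraticMap.polar (⇑Q) y
          ((LinearMap.BilinForm.toDual (QuadraticMap.polarBilin Q) hQ).symm φ) = φ y := fun y => by
        rw [QuadraticMap.polar_comm]
        exact LinearMap.BilinForm.apply_toDual_symm_apply (B := QuadraticMap.polarBilin Q) (hB := hQ) φ y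
      exact ⟨_, by rw [hw]; simp [φ, hl1], by rw [hw]; simp [φ, hlv]⟩
    set u' := w - Q w • u with hu'def
    have huu : QuadraticMap.polar (⇑Q) u u = 0 := by rw [QuadraticMap.polar_self, hu, smul_zero]
    have hvu : QuadraticMap.polar (⇑Q) v u = 0 := by rw [QuadraticMap.polar_comm]; exact huv
    have hQu' : Q u' = 0 := by
      rw [hu'def, sub_eq_add_neg, ← neg_smul, QuadraticMap.map_add Q, QuadraticMap.map_smul Q, hu,
        QuadraticMap.polar_smul_right, QuadraticMap.polar_comm (⇑Q) w u, hwu]
      simp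
    have huu' : QuadraticMap.polar (⇑Q) u u' = 1 := by
      rw [hu'def, QuadraticMap.polar_sub_right, QuadraticMap.polar_smul_right, huu, hwu]; simp
    have hvu' : QuadraticMap.polar (⇑Q) v u' = 0 := by
      rw [hu'def, QuadraticMap.polar_sub_right, QuadraticMap.polar_smul_right, hvu, hwv]; simp
    have hu'u' : QuadraticMap.polar (⇑Q) u' u' = 0 := by
      rw [QuadraticMap.polar_self, hQu', smul_zero]
    let hl : (Fin n → F) →ₗ[F] (Fin n → F) :=
      LinearMap.id - ((2 : F) • (QuadraticMap.polarBilin Q u')).smulRight u -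
        ((2 : F) • (QuadraticMap.polarBilin Q u)).smulRight u'
    have hl_apply : ∀ x, hl x = x - (2 * QuadraticMap.polar (⇑Q) u' x) • u -
        (2 * QuadraticMap.polar (⇑Q) u x) • u' := fun x => by simp [hl]
    let M := LinearMap.toMatrix' hl
    have hM : ∀ x, M.mulVec x = hl x := fun x => LinearMap.toMatrix'_mulVec hl x
    have hlinv : ∀ x, hl (hl x) = x := by
      intro x
      simp only [hl_apply, QuadraticMap.polar_sub_right, QuadraticMap.polar_smul_right, smul_eq_mul,
        huu, huu', hu'u', QuadraticMap.polar_comm (⇑Q) u' u]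
      module
    have hMM : M * M = 1 := by
      apply Matrix.mulVec_injective
      funext x
      rw [← Matrix.mulVec_mulVec, hM, hM, hlinv, Matrix.one_mulVec]
    let h : ↥(Cfsg.isometryGroup F ⇑Q) := ⟨⟨M, M, hMM, hMM⟩, fun x _ => by
      show Q (M.mulVec x) = Q x
      rw [hM, hl_apply, sub_eq_add_neg, ← neg_smul, sub_eq_add_neg, ← neg_smul,
        QuadraticMap.map_add Q, QuadraticMap.map_add Q]
      simp only [QuadraticMap.map_smul Q, hu, hQu', QuadraticMap.polar_add_left,
        QuadraticMap.polar_smul_right, QuadraticMap.polar_smul_left, smul_eq_mul, huu',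
        QuadraticMap.polar_comm (⇑Q) x u, QuadraticMap.polar_comm (⇑Q) x u']
      ring⟩
    have hmul : ∀ a b, Cfsg.siegelMatrix (⇑Q) u v a * Cfsg.siegelMatrix (⇑Q) u v b =
        Cfsg.siegelMatrix (⇑Q) u v (a + b) := (Cfsg.Agent.S0793.result Q u v hu hv huv).2.2
    have h0 : Cfsg.siegelMatrix (⇑Q) u v (0 : F) = 1 := by simp [Cfsg.siegelMatrix]
    let T : F → ↥(Cfsg.isometryGroup F ⇑Q) := fun a =>
      ⟨⟨Cfsg.siegelMatrix (⇑Q) u v a, Cfsg.siegelMatrix (⇑Q) u v (-a),
        by rw [hmul, add_neg_cancel, h0], by rw [hmul, neg_add_cancel, h0]⟩,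
        fun x _ => (Cfsg.Agent.S0793.result Q u v hu hv huv).1 a x⟩
    refine ⟨h, T (-c / 2), ?_⟩
    apply Subtype.ext
    apply Units.ext
    rw [hg]
    show M * Cfsg.siegelMatrix (⇑Q) u v (-c / 2) * M * Cfsg.siegelMatrix (⇑Q) u v (-(-c / 2)) = _
    have hconj : M * Cfsg.siegelMatrix (⇑Q) u v (-c / 2) * M =
        Cfsg.siegelMatrix (⇑Q) u v (c / 2) := by
      apply Matrix.mulVec_injective
      funext x
      rw [← Matrix.mulVec_mulVec, ← Matrix.mulVec_mulVec, hM, hT, hT, hM]
      simp only [map_add, map_smul, hlinv]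
      simp only [hl_apply, QuadraticMap.polar_sub_right, QuadraticMap.polar_smul_right, smul_eq_mul,
        huu, huu', hvu, hvu', huv, QuadraticMap.polar_comm (⇑Q) u' u,
        QuadraticMap.polar_comm (⇑Q) u' v]
      match_scalars <;> field_simp <;> ring
    rw [hconj, hmul]
    congr 1
    field_simp
    ring
  · refine ⟨1, 1, ?_⟩
    rw [commutatorElement_one_right]
    apply Subtype.ext
    apply Units.ext
    rw [hg, OneMemClass.coe_one, Units.val_one]
    apply Matrix.mulVec_injective
    funext x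
    rw [Matrix.one_mulVec, hT]
    by_cases hu0 : u = 0
    · subst hu0; simp
    · obtain ⟨t, ht⟩ : ∃ t : F, t • u = v := by
        by_contra hh
        push Not at hh
        exact hind (LinearIndependent.pair_iff' hu0 |>.mpr hh)
      rw [← ht, QuadraticMap.polar_smul_left, smul_eq_mul]
      module

end Cfsg.Agent.S0794
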