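import Cfsg.Statements.S0795
import Cfsg.Agent.Lib.OrthUnitarySimple
import Cfsg.Agent.Lib.OrthUnitaryPrelude
-- import your own Cfsg.Agent.* helpers here

set_option autoImplicit false
open Cfsg Matrix
open Cfsg.Agent.OrthUnitaryQuad Cfsg.Agent.OrthUnitaryRefl Cfsg.Agent.OrthUnitaryOmega Cfsg.Agent.OrthUnitaryPrelude

namespace Cfsg.Agent.S0795

/-- Generation of Ω by root elements: for q odd, n ≥ 5 and Q with non-degenerate polar form on F^n, the commutator subgroup of the isometry group equals the subgroup generated by the isometries whose matrices are Siegel transformations T_(u,v)(c) with u, v singular and orthogonal. -/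
theorem result {F : Type*} [Field F] [Fintype F] (h2 : (2 : F) ≠ 0) {n : ℕ} (hn : 5 ≤ n) (Q : QuadraticForm F (Fin n → F)) (hQ : (QuadraticMap.polarBilin Q).Nondegenerate) : Cfsg.Omega F ⇑Q = Subgroup.closure {g : ↥(Cfsg.isometryGroup F ⇑Q) | ∃ (u v : Fin n → F) (c : F), Q u = 0 ∧ Q v = 0 ∧ QuadraticMap.polar ⇑Q u v = 0 ∧ ((g : Matrix.GeneralLinearGroup (Fin n) F) : Matrix (Fin n) (Fin n) F) = Cfsg.siegelMatrix ⇑Q u v c} := by
  have hn' : 5 ≤ Module.finrank F (Fin n → F) := by rwa [finrank_pi, Fintype.card_fin]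
  have hmat : ∀ (u v : Fin n → F) (c : F) (hu : Q u = 0) (hw : QuadraticMap.polar (⇑Q) u (c • v) = 0),
      Q v = 0 → ∀ x, Cfsg.siegelMatrix (⇑Q) u v c *ᵥ x = (siegel Q u (c • v) hu hw).1 x := by
    intro u v c hu hw hv x
    rw [siegel_apply, QuadraticMap.map_smul, QuadraticMap.polar_smul_left, hv]
    simp [Cfsg.siegelMatrix, Matrix.add_mulVec, Matrix.sub_mulVec, Matrix.smul_mulVec,
      Matrix.vecMulVec_mulVec, polarVec_dotProduct, smul_smul, mul_comm c]
    module
  apply le_antisymm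
  · intro g hg
    rw [mem_Omega_iff, OrthUnitarySimple.commutator_eq_sGroup hQ hn'] at hg
    suffices H : ∀ k, k ∈ OrthUnitarySimple.sGroup Q → (iso Q).symm k ∈ Subgroup.closure {g : ↥(Cfsg.isometryGroup F ⇑Q) | ∃ (u v : Fin n → F) (c : F), Q u = 0 ∧ Q v = 0 ∧ QuadraticMap.polar ⇑Q u v = 0 ∧ ((g : Matrix.GeneralLinearGroup (Fin n) F) : Matrix (Fin n) (Fin n) F) = Cfsg.siegelMatrix ⇑Q u v c} by
      simpa using H _ hg
    intro k hk
    induction hk using Subgroup.closure_induction with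
    | mem k hk =>
      obtain ⟨u, w, hu, hw, hQw, rfl⟩ := hk
      refine Subgroup.subset_closure ⟨u, w, 1, hu, hQw, hw, ?_⟩
      refine (iso_eq_iff_mat _ _ _ (fun x => ?_)).2 (MulEquiv.apply_symm_apply _ _)
      rw [hmat u w 1 hu (by rwa [one_smul]) hQw]
      simp only [one_smul]
    | one => rw [map_one]; exact Subgroup.one_mem _
    | mul a b _ _ ha hb => rw [map_mul]; exact Subgroup.mul_mem _ ha hb
    | inv a _ ha => rw [map_inv]; exact Subgroup.inv_mem _ ha
  · rw [Subgroup.closure_le]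
    rintro g ⟨u, v, c, hu, hv, huv, hg⟩
    have hw : QuadraticMap.polar (⇑Q) u (c • v) = 0 := by
      rw [QuadraticMap.polar_smul_right, huv, smul_zero]
    rw [SetLike.mem_coe, mem_Omega_iff, OrthUnitarySimple.commutator_eq_sGroup hQ hn',
      (iso_eq_iff_mat g _ _ (fun x => (hmat u v c hu hw hv x).symm)).1 hg]
    exact OrthUnitarySimple.siegel_mem hQ hn' hu hw

end Cfsg.Agent.S0795
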