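import Cfsg.Statements.S0796
import Mathlib

set_option autoImplicit false
open Cfsg

namespace Cfsg.Agent.S0796

/-- If G is finite and acts faithfully and primitively on X, H is the stabiliser of a point, A is a normal subgroup of H whose normal closure in G is G, then for every non-trivial normal subgroup K of G the quotient G ⧸ K is isomorphic to A ⧸ B for some normal subgroup B of A. -/
theorem result {G X : Type*} [Group G] [Finite G] [MulAction G X] [FaithfulSMul G X] (hprim : MulAction.IsPreprimitive G X) (x : X) (A : Subgroup G) (hA : A ≤ MulAction.stabilizer G x) (hAn : (A.subgroupOf (MulAction.stabilizer G x)).Normal) (hgen : Subgroup.normalClosure (A : Set G) = ⊤) (K : Subgroup G) [K.Normal] (hK : K ≠ ⊥) : ∃ (B : Subgroup A) (_ : B.Normal), Nonempty (G ⧸ K ≃* A ⧸ B) := by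
  classical
  have := hprim
  rcases subsingleton_or_nontrivial X with hX | hX
  · -- then G is trivial, so K = ⊥
    exfalso
    refine hK (Subgroup.ext fun g => ?_)
    simp only [Subgroup.mem_bot]
    constructor
    · intro _
      exact FaithfulSMul.eq_of_smul_eq_smul (α := X) fun y => Subsingleton.elim _ _
    · rintro rfl; exact K.one_mem
  have hKtr : MulAction.IsPretransitive K X := by
    refine MulAction.IsQuasiPreprimitive.isPretransitive_of_normal (G := G) ?_
    intro h
    refine hK (Subgroup.ext fun g => ?_)
    simp only [Subgroup.mem_bot]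
    constructor
    · intro hg
      refine FaithfulSMul.eq_of_smul_eq_smul (α := X) fun y => ?_
      have : y ∈ MulAction.fixedPoints K X := by rw [h]; trivial
      simpa using this ⟨g, hg⟩
    · rintro rfl; exact K.one_mem
  -- every element of G is `k * h`
  have hdec : ∀ g : G, ∃ k ∈ K, k⁻¹ * g ∈ MulAction.stabilizer G x := by
    intro g
    obtain ⟨k, hk⟩ := MulAction.exists_smul_eq K x (g • x)
    refine ⟨k, k.2, ?_⟩
    simp only [MulAction.mem_stabilizer_iff, mul_smul]
    rw [inv_smul_eq_iff]; exact hk.symm
  let f : A →* G ⧸ K := (QuotientGroup.mk' K).comp A.subtype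
  have hsurj : Function.Surjective f := by
    have hnorm : f.range.Normal := by
      constructor
      intro y hy q
      obtain ⟨a, rfl⟩ := hy
      obtain ⟨g, rfl⟩ := QuotientGroup.mk'_surjective K q
      obtain ⟨k, hk, hkg⟩ := hdec g
      have hmem : (k⁻¹ * g) * a.1 * (k⁻¹ * g)⁻¹ ∈ A := by
        have := hAn.conj_mem ⟨a.1, hA a.2⟩ (by simp [Subgroup.mem_subgroupOf]) ⟨k⁻¹ * g, hkg⟩
        simpa [Subgroup.mem_subgroupOf] using this
      refine ⟨⟨_, hmem⟩, ?_⟩
      have hk1 : ((k : G) : G ⧸ K) = 1 := (QuotientGroup.eq_one_iff k).mpr hk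
      simp [f, hk1, mul_assoc]
    have hle : Subgroup.normalClosure (A : Set G) ≤ f.range.comap (QuotientGroup.mk' K) := by
      have := hnorm.comap (QuotientGroup.mk' K)
      exact Subgroup.normalClosure_le_normal fun a ha => ⟨⟨a, ha⟩, rfl⟩
    rw [hgen, top_le_iff] at hle
    intro y
    obtain ⟨g, rfl⟩ := QuotientGroup.mk'_surjective K y
    have : g ∈ f.range.comap (QuotientGroup.mk' K) := by rw [hle]; trivial
    exact this
  exact ⟨f.ker, inferInstance, ⟨(QuotientGroup.quotientKerEquivOfSurjective f hsurj).symm⟩⟩

end Cfsg.Agent.S0796
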