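import Cfsg.Statements.S0797
import Cfsg.Agent.Lib.OrthUnitaryPrelude
-- import your own Cfsg.Agent.* helpers here

set_option autoImplicit false
open Cfsg
open Cfsg.Agent.OrthUnitaryQuad Cfsg.Agent.OrthUnitaryRefl Cfsg.Agent.OrthUnitaryOmega Cfsg.Agent.OrthUnitaryPrelude

namespace Cfsg.Agent.S0797

/-- O^ε_2m(q) ≅ Ω.2² for q odd: if F is finite of odd characteristic, n ≥ 2 is even and Q has non-degenerate polar form on F^n, the isometry group of Q has exactly three subgroups of index 2. -/
theorem result {F : Type*} [Field F] [Fintype F] (h2 : (2 : F) ≠ 0) {n : ℕ} (hn : 2 ≤ n) (heven : Even n) (Q : QuadraticForm F (Fin n → F)) (hQ : (QuadraticMap.polarBilin Q).Nondegenerate) : Nat.card {H : Subgroup ↥(Cfsg.isometryGroup F ⇑Q) // H.index = 2} = 3 := by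
  classical
  have hi := (odd_main h2 (isReg_of_nondegenerate hQ)).2 (by rwa [finrank_pi, Fintype.card_fin])
  rw [← index_Omega] at hi
  set N := Cfsg.Omega F ⇑Q with hN
  have hgen := reflGroup_eq_top (isReg_of_nondegenerate hQ) (Or.inl ⟨-1, neg_ne_zero.2 one_ne_zero,
    fun h => h2 (by linear_combination -h)⟩)
  let A := Abelianization ↥(Cfsg.isometryGroup F ⇑Q)
  have hA : Nat.card A = 4 := hi
  haveI : Finite A := Nat.finite_of_card_ne_zero (by rw [hA]; norm_num)
  have hsq : ∀ x : A, x * x = 1 := by
    intro x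
    obtain ⟨g, rfl⟩ : ∃ g, Abelianization.of g = x :=
      QuotientGroup.mk_surjective (s := commutator ↥(Cfsg.isometryGroup F ⇑Q)) x
    suffices H : ∀ k, k ∈ reflGroup Q →
        Abelianization.of ((iso Q).symm k) * Abelianization.of ((iso Q).symm k) = 1 by
      simpa using H (iso Q g) (hgen ▸ Subgroup.mem_top _)
    intro k hk
    induction hk using Subgroup.closure_induction with
    | mem k hk =>
      obtain ⟨v, hv, rfl⟩ := hk
      rw [← map_mul, ← map_mul, refl_sq, map_one, map_one]
    | one => simp
    | mul a b _ _ ha hb => rw [map_mul, map_mul, mul_mul_mul_comm, ha, hb, one_mul]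
    | inv a _ ha => rw [map_inv, map_inv, ← mul_inv_rev, ha, inv_one]
  have hsurj : Function.Surjective (Abelianization.of : ↥(Cfsg.isometryGroup F ⇑Q) → A) :=
    QuotientGroup.mk_surjective
  have e1 : {H : Subgroup ↥(Cfsg.isometryGroup F ⇑Q) // H.index = 2} ≃
      {H : Subgroup A // H.index = 2} :=
    { toFun := fun H => ⟨H.1.map Abelianization.of, by
        rw [Subgroup.index_map_eq _ hsurj, H.2]
        rw [Abelianization.ker_of]
        haveI := Subgroup.normal_of_index_eq_two H.2
        rw [commutator_def, Subgroup.commutator_le]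
        intro a _ b _
        rw [← QuotientGroup.eq_one_iff (N := H.1), ← QuotientGroup.mk'_apply, map_commutatorElement,
          commutatorElement_eq_one_iff_mul_comm]
        haveI : Fact (Nat.Prime 2) := ⟨Nat.prime_two⟩
        haveI := isCyclic_of_prime_card (α := ↥(Cfsg.isometryGroup F ⇑Q) ⧸ H.1) (p := 2) H.2
        exact (IsCyclic.commutative (α := ↥(Cfsg.isometryGroup F ⇑Q) ⧸ H.1)).is_comm.comm _ _⟩
      invFun := fun K => ⟨K.1.comap Abelianization.of, by
        rw [Subgroup.index_comap_of_surjective _ hsurj, K.2]⟩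
      left_inv := fun H => by
        apply Subtype.ext
        apply Subgroup.comap_map_eq_self
        rw [Abelianization.ker_of]
        haveI := Subgroup.normal_of_index_eq_two H.2
        rw [commutator_def, Subgroup.commutator_le]
        intro a _ b _
        rw [← QuotientGroup.eq_one_iff (N := H.1), ← QuotientGroup.mk'_apply, map_commutatorElement,
          commutatorElement_eq_one_iff_mul_comm]
        haveI : Fact (Nat.Prime 2) := ⟨Nat.prime_two⟩
        haveI := isCyclic_of_prime_card (α := ↥(Cfsg.isometryGroup F ⇑Q) ⧸ H.1) (p := 2) H.2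
        exact (IsCyclic.commutative (α := ↥(Cfsg.isometryGroup F ⇑Q) ⧸ H.1)).is_comm.comm _ _
      right_inv := fun K => Subtype.ext (Subgroup.map_comap_eq_self_of_surjective hsurj _) }
  rw [Nat.card_congr e1]
  have hcard : ∀ H : Subgroup A, H.index = 2 ↔ Nat.card H = 2 := fun H => by
    have := H.card_mul_index
    rw [hA] at this
    constructor <;> intro h <;> rw [h] at this <;> omega
  have hz : ∀ x : A, x ≠ 1 → orderOf x = 2 := fun x hx =>
    orderOf_eq_prime (by rw [pow_two, hsq]) hx
  have : Nat.card {H : Subgroup A // H.index = 2} = Nat.card {x : A // x ≠ 1} := by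
    symm
    refine Nat.card_eq_of_bijective (fun x => ⟨Subgroup.zpowers x.1, ?_⟩) ⟨?_, ?_⟩
    · rw [hcard, Nat.card_zpowers, hz x.1 x.2]
    · intro x y hxy
      have hxy' : Subgroup.zpowers x.1 = Subgroup.zpowers y.1 := congrArg Subtype.val hxy
      have hmem : x.1 ∈ Subgroup.zpowers y.1 := hxy' ▸ Subgroup.mem_zpowers x.1
      have hfin : IsOfFinOrder y.1 := isOfFinOrder_of_finite _
      rw [hfin.mem_zpowers_iff_mem_range_orderOf, hz y.1 y.2] at hmem
      simp [Finset.range_add_one] at hmem
      rcases hmem with h | h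
      · exact Subtype.ext h
      · exact absurd h x.2
    · rintro ⟨H, hH⟩
      rw [hcard] at hH
      obtain ⟨x, hxH, hx1⟩ : ∃ x ∈ H, x ≠ 1 := by
        by_contra hc
        push Not at hc
        rw [(Subgroup.eq_bot_iff_forall H).2 hc] at hH
        simp at hH
      refine ⟨⟨x, hx1⟩, Subtype.ext ?_⟩
      exact Subgroup.eq_of_le_of_card_ge (Subgroup.zpowers_le.2 hxH)
        (by rw [Nat.card_zpowers, hz x hx1, hH])
  rw [this]
  cases nonempty_fintype A
  rw [Nat.card_eq_fintype_card, Fintype.card_subtype_compl, Fintype.card_subtype_eq,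
    ← Nat.card_eq_fintype_card, hA]

end Cfsg.Agent.S0797
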