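import Cfsg.Statements.S0798
import Cfsg.Agent.Lib.OmegaClasses

/-!
The reflections in the vectors of one norm class generate a normal subgroup `K`. Two reflections
in vectors `w`, `w'` of the other class with non-degenerate plane differ by `(r_w r_u) ^ 2`, a
commutator with a reflection of the class lying in that plane; a degenerate plane is bridged by a
third vector.
-/

set_option autoImplicit false
open Cfsg

namespace Cfsg.Agent.S0798

open QuadraticMap Module
open Cfsg.Agent.OrthUnitaryQuad Cfsg.Agent.OrthUnitaryRefl Cfsg.Agent.OrthUnitaryOmega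
open Cfsg.Agent.OrthUnitaryPrelude

section General

variable {F V : Type*} [Field F] [AddCommGroup V] [Module F V] {Q : QuadraticForm F V}

theorem refl_congr {v v' : V} (h : v = v') (hv : Q v ≠ 0) :
    refl Q v hv = refl Q v' (h ▸ hv) := by
  subst h; rfl

/-- In an orthogonal frame, a product of two plane reflections is inverted by every plane
reflection. -/
theorem plane_invert {w p : V} (hwp : polar Q w p = 0) {α β γ δ : F}
    (ha : Q (α • w + β • p) ≠ 0) (hw : Q w ≠ 0) (hu : Q (γ • w + δ • p) ≠ 0) :
    refl Q (α • w + β • p) ha * (refl Q w hw * refl Q (γ • w + δ • p) hu) *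
      refl Q (α • w + β • p) ha = refl Q (γ • w + δ • p) hu * refl Q w hw := by
  apply orth_ext
  intro x
  have hQ : ∀ s t : F, Q (s • w + t • p) = s * s * Q w + t * t * Q p := by
    intro s t
    rw [QuadraticMap.map_add (⇑Q), QuadraticMap.map_smul, QuadraticMap.map_smul, polar_smul_left,
      polar_smul_right, hwp]
    simp [smul_eq_mul]
  simp only [orth_mul_apply, refl_apply]
  generalize hNa : Q (α • w + β • p) = Na at ha
  generalize hNu : Q (γ • w + δ • p) = Nu at hu
  rw [hQ] at hNa hNu
  simp only [hQ, polar_add_left, polar_smul_left, polar_sub_right,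
    polar_smul_right, polar_add_right, polar_self_mul, polar_comm Q p w, hwp, smul_eq_mul]
  match_scalars <;> field_simp <;> subst hNa hNu <;> ring

/-- The class of `c`. -/
def InClass (Q : QuadraticForm F V) (c : F) (v : V) : Prop := ∃ t : F, t ≠ 0 ∧ Q v = c * t ^ 2

theorem InClass.ne_zero {c : F} (hc : c ≠ 0) {v : V} (h : InClass Q c v) : Q v ≠ 0 := by
  obtain ⟨t, ht, hv⟩ := h
  rw [hv]; exact mul_ne_zero hc (pow_ne_zero _ ht)

/-- The subgroup generated by the reflections of the class of `c`. -/
noncomputable def classGroup (Q : QuadraticForm F V) (c : F) : Subgroup (orth Q) :=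
  Subgroup.closure {g | ∃ v, ∃ hv : Q v ≠ 0, InClass Q c v ∧ g = refl Q v hv}

theorem refl_mem_class {c : F} {v : V} (hv : Q v ≠ 0) (h : InClass Q c v) :
    refl Q v hv ∈ classGroup Q c :=
  Subgroup.subset_closure ⟨v, hv, h, rfl⟩

theorem classGroup_normal (c : F) : (classGroup Q c).Normal := by
  refine ⟨fun x hx g => ?_⟩
  induction hx using Subgroup.closure_induction with
  | mem x hx =>
    obtain ⟨v, hv, ⟨t, ht, hQv⟩, rfl⟩ := hx
    rw [conj_refl g v hv]
    exact refl_mem_class _ ⟨t, ht, by rw [map_orth g]; exact hQv⟩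
  | one => simp [Subgroup.one_mem]
  | mul a b _ _ ha hb =>
    rw [show g * (a * b) * g⁻¹ = (g * a * g⁻¹) * (g * b * g⁻¹) by group]
    exact Subgroup.mul_mem _ ha hb
  | inv a _ ha =>
    rw [show g * a⁻¹ * g⁻¹ = (g * a * g⁻¹)⁻¹ by group]
    exact Subgroup.inv_mem _ ha

variable [Finite F]

/-- Two reflections in vectors of equal norm spanning a non-degenerate plane agree modulo `K`. -/
theorem pair_mem (h2 : (2 : F) ≠ 0) {c : F} (hc : c ≠ 0) {w w' : V} (hw : Q w ≠ 0)
    (hw' : Q w' ≠ 0) (heq : Q w' = Q w) (hne : polar Q w w' * polar Q w w' ≠ 4 * Q w * Q w) :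
    refl Q w hw * refl Q w' hw' ∈ classGroup Q c := by
  set b := polar Q w w' with hb
  set d := Q w with hd
  have h2d : 2 * d ≠ 0 := mul_ne_zero h2 hw
  let k : F := b / (2 * d)
  let p : V := w' - k • w
  have hk : k * (2 * d) = b := div_mul_cancel₀ _ h2d
  have hwp : polar Q w p = 0 := by
    simp only [p, polar_sub_right, polar_smul_right, polar_self_mul, smul_eq_mul, ← hd, ← hb]
    linear_combination -hk
  have hQp : Q p = d - k * k * d := by
    have hw'' : w' = p + k • w := by simp [p]
    have := congrArg Q hw''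
    rw [QuadraticMap.map_add (⇑Q), QuadraticMap.map_smul, polar_smul_right, polar_comm Q p w, hwp,
      smul_eq_mul, smul_eq_mul, heq, ← hd] at this
    linear_combination -this
  have hp0 : Q p ≠ 0 := by
    intro h0
    apply hne
    rw [← hk]
    linear_combination 4 * d * (hQp.symm.trans h0) * (-1 : F)
  -- a vector of the class of `c` in the plane
  obtain ⟨α, β, hab⟩ := QuadClassify.exists_two_squares (F := F) h2 hw hp0 c
  have hQa : Q (α • w + β • p) = c := by
    rw [QuadraticMap.map_add (⇑Q), QuadraticMap.map_smul, QuadraticMap.map_smul, polar_smul_left,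
      polar_smul_right, hwp, ← hd]
    simp only [smul_eq_mul, mul_zero, add_zero]
    linear_combination hab
  have ha : Q (α • w + β • p) ≠ 0 := by rw [hQa]; exact hc
  -- the reflection carrying `w` to `w'`
  have hu' : w - w' = (1 - k) • w + (-1 : F) • p := by simp [p, sub_smul]
  have hQu : Q (w - w') = 2 * d - b := by
    rw [sub_eq_add_neg, QuadraticMap.map_add (⇑Q), QuadraticMap.map_neg, polar_neg_right, heq,
      ← hd, ← hb]
    ring
  have hu0 : Q (w - w') ≠ 0 := by
    rw [hQu]
    intro h0
    exact hne (by linear_combination (-b - 2 * d) * h0)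
  have hmove : (refl Q (w - w') hu0).1 w = w' := by
    rw [refl_apply]
    have hp' : polar Q (w - w') w = Q (w - w') := by
      rw [hQu, polar_sub_left, polar_self_mul, polar_comm Q w' w, ← hd, ← hb]
    rw [hp', inv_mul_cancel₀ hu0, one_smul, sub_sub_cancel]
  set A := refl Q (α • w + β • p) ha with hA
  have hu1 : Q ((1 - k) • w + (-1 : F) • p) ≠ 0 := by rw [← hu']; exact hu0
  have hinv : A * (refl Q w hw * refl Q (w - w') hu0) * A =
      refl Q (w - w') hu0 * refl Q w hw := by
    rw [refl_congr hu' hu0]
    exact plane_invert hwp ha hw hu1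
  have hW' : refl Q w' hw' = refl Q (w - w') hu0 * refl Q w hw * (refl Q (w - w') hu0)⁻¹ := by
    rw [conj_refl]
    exact refl_congr hmove.symm hw'
  have hsq : ∀ v hv, (refl Q v hv)⁻¹ = refl Q v hv := fun v hv =>
    inv_eq_of_mul_eq_one_right (refl_sq v hv)
  have hAK : A ∈ classGroup Q c := refl_mem_class ha ⟨1, one_ne_zero, by rw [hQa]; ring⟩
  haveI := classGroup_normal (Q := Q) c
  set R := refl Q w hw with hR
  set U := refl Q (w - w') hu0 with hU
  rw [hW', hsq]
  have e : R * (U * R * U) = (R * U) * A * (R * U)⁻¹ * A := by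
    have hA2 : A * A = 1 := refl_sq _ ha
    calc R * (U * R * U) = (R * U) * (R * U) := by group
      _ = (R * U) * (A * (U * R) * A) := by
          congr 1
          rw [← hinv]
          simp only [mul_assoc, hA2, mul_one]
          rw [← mul_assoc A A, hA2, one_mul]
      _ = (R * U) * A * (R * U)⁻¹ * A := by
          have hUR : U * R = (R * U)⁻¹ := by rw [mul_inv_rev, hsq, hsq]
          rw [hUR]
          group
  rw [e]
  exact Subgroup.mul_mem _ (Subgroup.Normal.conj_mem inferInstance _ hAK _) hAK

variable [FiniteDimensional F V]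

/-- Bridging a degenerate plane. -/
theorem exists_bridge (h2 : (2 : F) ≠ 0) (hQ : (polarBilin Q).Nondegenerate)
    (hq : (∃ b : F, b ≠ 0 ∧ b * b ≠ 1) ∨ 6 ≤ finrank F V) {w z : V} (hw : Q w ≠ 0)
    (hz0 : z ≠ 0) (hz : Q z = 0) (hwz : polar Q w z = 0) :
    ∃ y : V, Q y = Q w ∧ polar Q w y = 0 ∧ polar Q z y * polar Q z y ≠ 4 * Q w * Q w := by
  set d := Q w with hd
  have h2d : 2 * d ≠ 0 := mul_ne_zero h2 hw
  set U : Submodule F V := LinearMap.ker (polarBilin Q w) with hU
  have hU' : ∀ x, x ∈ U ↔ polar Q w x = 0 := fun x => by simp [hU]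
  have hUnd : QuadClassify.Nondeg Q U := by
    intro x hx hall
    refine hQ.1 x fun v => ?_
    have hv : v - ((2 * d)⁻¹ * polar Q w v) • w ∈ U := by
      rw [hU', polar_sub_right, polar_smul_right, polar_self_mul, ← hd, smul_eq_mul]
      field_simp
      ring
    have := hall _ hv
    rw [polar_sub_right, polar_smul_right, polar_comm Q x w, (hU' x).1 hx, smul_zero,
      sub_zero] at this
    simpa using this
  have hzU : z ∈ U := (hU' z).2 hwz
  obtain ⟨f, hf, hQf, hzf⟩ := QuadClassify.exists_partner Q hUnd hzU hz0 hz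
  have hwf := (hU' f).1 hf
  rcases hq with ⟨b, hb0, hb1⟩ | hn
  · refine ⟨(b⁻¹ / 2) • z + (2 * d * b) • f, ?_, ?_, ?_⟩
    · rw [QuadraticMap.map_add (⇑Q), QuadraticMap.map_smul, QuadraticMap.map_smul, hz, hQf,
        polar_smul_left, polar_smul_right, hzf, smul_eq_mul, smul_eq_mul, smul_eq_mul]
      field_simp
      ring
    · rw [polar_add_right, polar_smul_right, polar_smul_right, hwz, hwf]
      simp
    · rw [polar_add_right, polar_smul_right, polar_smul_right, polar_self_mul, hz, hzf]
      simp only [smul_eq_mul, mul_zero, mul_one, zero_add]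
      intro h
      apply hb1
      have h4 : (4 : F) * d * d ≠ 0 := by
        have : (4 : F) * d * d = (2 * d) * (2 * d) := by ring
        rw [this]; exact mul_ne_zero h2d h2d
      exact mul_left_cancel₀ h4 (by linear_combination h)
  · obtain ⟨hnd', hdim⟩ := QuadClassify.pair_complement Q hUnd hzU hf hz hQf hzf
    have h1 : finrank F V ≤ finrank F U + 1 := by
      have := QuadClassify.finrank_ker_inf (⊤ : Submodule F V) (polarBilin Q w)
      rw [finrank_top, top_inf_eq] at this
      exact this
    obtain ⟨r, hr, hQr⟩ := OmegaClasses.nondeg_represents hnd' (by omega) d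
    refine ⟨r, hQr, (hU' r).1 hr.1.1, ?_⟩
    have hzr : polar Q z r = 0 := hr.1.2
    rw [hzr, zero_mul]
    have : (4 : F) * d * d = (2 * d) * (2 * d) := by ring
    rw [this]
    exact (mul_ne_zero h2d h2d).symm

theorem classGroup_index [Fintype F] (h2 : (2 : F) ≠ 0) (hQ : (polarBilin Q).Nondegenerate)
    (hn : 2 ≤ finrank F V) (hq : (∃ b : F, b ≠ 0 ∧ b * b ≠ 1) ∨ 6 ≤ finrank F V ∨ finrank F V = 2)
    {c : F} (hc : c ≠ 0) : (classGroup Q c).index = 2 := by
  classical
  haveI : Finite V := Module.finite_of_finite F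
  haveI := classGroup_normal (Q := Q) c
  have hexc : Fintype.card F ≠ 2 ∨ finrank F V ≠ 4 := Or.inl fun h => by
    have := card_mod_two (F := F) h2; omega
  have hgen := OmegaClasses.reflGroup_top hQ hexc
  obtain ⟨ν, hν⟩ := FiniteField.exists_nonsquare (F := F) (OrthUnitaryOmega.ringChar_ne_two h2)
  have hν0 : ν ≠ 0 := fun h => hν (h ▸ IsSquare.zero)
  obtain ⟨w₀, -, hQw₀⟩ := OmegaClasses.nondeg_represents (QuadClassify.nondeg_top hQ)
    (by rwa [finrank_top]) (c * ν)
  have hw₀ : Q w₀ ≠ 0 := by rw [hQw₀]; exact mul_ne_zero hc hν0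
  have hsq : ∀ v hv, (refl Q v hv)⁻¹ = refl Q v hv := fun v hv =>
    inv_eq_of_mul_eq_one_right (refl_sq v hv)
  -- every reflection lies in `K` or in `K w₀`
  have key : ∀ v hv, refl Q v hv ∈ classGroup Q c ∨
      refl Q w₀ hw₀ * refl Q v hv ∈ classGroup Q c := by
    intro v hv
    by_cases hs : InClass Q c v
    · exact Or.inl (refl_mem_class hv hs)
    right
    have hns : ¬ IsSquare (Q v / c) := fun ⟨t, ht⟩ => hs ⟨t, fun h => hv (by
      rw [h, mul_zero, div_eq_zero_iff] at ht
      exact ht.resolve_right hc), by rw [pow_two, ← ht, mul_div_cancel₀ _ hc]⟩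
    obtain ⟨t, ht⟩ : IsSquare (Q w₀ / Q v) := by
      have := isSquare_div_of_not (x := Q v / c) (y := Q w₀ / c)
        hns (by rw [hQw₀, mul_div_cancel_left₀ _ hc]; exact hν)
      rwa [show Q w₀ / c / (Q v / c) = Q w₀ / Q v from by field_simp] at this
    have ht0 : t ≠ 0 := fun h => hw₀ (by
      rw [h, mul_zero, div_eq_zero_iff] at ht; exact ht.resolve_right hv)
    set w' := t • v with hw'def
    have hQw' : Q w' = Q w₀ := by
      rw [hw'def, QuadraticMap.map_smul, smul_eq_mul, ← ht, div_mul_cancel₀ _ hv]
    have hw' : Q w' ≠ 0 := by rw [hQw']; exact hw₀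
    rw [show refl Q v hv = refl Q w' hw' from (refl_smul v hv ht0).symm]
    by_cases hne : polar Q w₀ w' * polar Q w₀ w' ≠ 4 * Q w₀ * Q w₀
    · exact pair_mem h2 hc hw₀ hw' hQw' hne
    push Not at hne
    -- normalise the sign
    obtain ⟨w'', hQw'', hpw'', hrefl⟩ : ∃ w'' : V, ∃ h : Q w'' = Q w₀,
        polar Q w₀ w'' = 2 * Q w₀ ∧ refl Q w' hw' = refl Q w'' (by rw [h]; exact hw₀) := by
      have : (polar Q w₀ w' - 2 * Q w₀) * (polar Q w₀ w' + 2 * Q w₀) = 0 := by
        linear_combination hne
      rcases mul_eq_zero.1 this with h | h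
      · exact ⟨w', hQw', by linear_combination h, rfl⟩
      · refine ⟨-w', by rw [QuadraticMap.map_neg, hQw'],
          by rw [polar_neg_right]; linear_combination -h, ?_⟩
        have := refl_smul w' hw' (neg_ne_zero.2 (one_ne_zero (α := F)))
        rw [← this]
        exact refl_congr (by simp) _
    rw [hrefl]
    set z := w'' - w₀ with hz
    have hwz : polar Q w₀ z = 0 := by
      rw [hz, polar_sub_right, polar_self_mul, hpw'', sub_self]
    have hQz : Q z = 0 := by
      rw [hz, sub_eq_add_neg, QuadraticMap.map_add (⇑Q), QuadraticMap.map_neg, polar_neg_right,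
        polar_comm Q w'' w₀, hpw'', hQw'']
      ring
    by_cases hz0 : z = 0
    · have : w'' = w₀ := sub_eq_zero.1 hz0
      rw [refl_congr this, refl_sq]
      exact Subgroup.one_mem _
    have hq' : (∃ b : F, b ≠ 0 ∧ b * b ≠ 1) ∨ 6 ≤ finrank F V := by
      rcases hq with h | h | h
      · exact Or.inl h
      · exact Or.inr h
      · -- in a plane the orthogonal of `w₀` is anisotropic
        exfalso
        have hd0 : (2 : F) * Q w₀ ≠ 0 := mul_ne_zero h2 hw₀
        have hli : LinearIndependent F ![w₀, z] := by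
          rw [LinearIndependent.pair_iff]
          intro s t hst
          have := congrArg (polar Q w₀) hst
          rw [polar_add_right, polar_smul_right, polar_smul_right, polar_self_mul, hwz,
            polar_zero_right] at this
          simp only [smul_eq_mul, mul_zero, add_zero, mul_eq_zero] at this
          have hs0 : s = 0 := this.resolve_right (by
            rw [← mul_eq_zero]; exact hd0)
          rw [hs0, zero_smul, zero_add, smul_eq_zero] at hst
          exact ⟨hs0, hst.resolve_right hz0⟩
        have hspan := hli.span_eq_top_of_card_eq_finrank' (by simp [h])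
        refine hz0 (hQ.1 z fun y => ?_)
        have hy : y ∈ Submodule.span F (Set.range ![w₀, z]) := hspan ▸ trivial
        rw [Matrix.range_cons, Matrix.range_cons, Matrix.range_empty, Set.union_empty,
          Set.singleton_union, Submodule.mem_span_pair] at hy
        obtain ⟨a, b, rfl⟩ := hy
        show polar Q z (a • w₀ + b • z) = 0
        rw [polar_add_right, polar_smul_right, polar_smul_right, polar_self_mul, hQz,
          polar_comm Q z w₀, hwz]
        simp
    obtain ⟨y, hQy, hwy, hzy⟩ := exists_bridge h2 hQ hq' hw₀ hz0 hQz hwz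
    have hy : Q y ≠ 0 := by rw [hQy]; exact hw₀
    have h1 := pair_mem (c := c) h2 hc hw₀ hy hQy (by
      rw [hwy, zero_mul]
      have : (4 : F) * Q w₀ * Q w₀ = (2 * Q w₀) * (2 * Q w₀) := by ring
      rw [this]
      exact (mul_ne_zero (mul_ne_zero h2 hw₀) (mul_ne_zero h2 hw₀)).symm)
    have h2' := pair_mem (c := c) h2 hc hy (by rw [hQw'']; exact hw₀ : Q w'' ≠ 0)
      (by rw [hQw'', hQy]) (by
      have : w'' = z + w₀ := by simp [hz]
      rw [polar_comm Q y w'', this, polar_add_left, hwy, add_zero, hQy]
      exact hzy)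
    have := Subgroup.mul_mem _ h1 h2'
    rwa [mul_assoc, ← mul_assoc (refl Q y hy), refl_sq, one_mul] at this
  -- `w₀` is not in `K`
  have hnot : refl Q w₀ hw₀ ∉ classGroup Q c := by
    obtain ⟨a, -, hQa⟩ := OmegaClasses.nondeg_represents (QuadClassify.nondeg_top hQ)
      (by rwa [finrank_top]) c
    have ha : Q a ≠ 0 := by rw [hQa]; exact hc
    have hA : ∀ g ∈ classGroup Q c,
        g ∈ commutator (orth Q) ∨ refl Q a ha * g ∈ commutator (orth Q) := by
      intro g hg
      induction hg using Subgroup.closure_induction_left with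
      | one => exact Or.inl (Subgroup.one_mem _)
      | mul_left r hr y _ ih =>
        obtain ⟨v, hv, ⟨t, ht, hQv⟩, rfl⟩ := hr
        have hav : refl Q a ha * refl Q v hv ∈ commutator (orth Q) := by
          have := (OmegaClasses.rprod_mem_iff hQ hexc (vs := [a, v]) (by
            intro x hx; simp only [List.mem_cons, List.not_mem_nil, or_false] at hx
            rcases hx with rfl | rfl
            · exact ha
            · exact hv)).2 ⟨⟨1, rfl⟩, ⟨c * t, by simp [hQa, hQv]; ring⟩⟩
          rwa [OmegaClasses.rprod_cons ha, OmegaClasses.rprod_singleton hv] at this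
        rcases ih with h | h
        · right
          rw [← mul_assoc]; exact Subgroup.mul_mem _ hav h
        · left
          have := Subgroup.mul_mem _ (Subgroup.inv_mem _ hav) h
          rwa [mul_inv_rev, hsq, hsq, mul_assoc, ← mul_assoc (refl Q a ha), refl_sq,
            one_mul] at this
      | inv_mul_cancel r hr y _ ih =>
        obtain ⟨v, hv, ⟨t, ht, hQv⟩, rfl⟩ := hr
        rw [hsq]
        have hav : refl Q a ha * refl Q v hv ∈ commutator (orth Q) := by
          have := (OmegaClasses.rprod_mem_iff hQ hexc (vs := [a, v]) (by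
            intro x hx; simp only [List.mem_cons, List.not_mem_nil, or_false] at hx
            rcases hx with rfl | rfl
            · exact ha
            · exact hv)).2 ⟨⟨1, rfl⟩, ⟨c * t, by simp [hQa, hQv]; ring⟩⟩
          rwa [OmegaClasses.rprod_cons ha, OmegaClasses.rprod_singleton hv] at this
        rcases ih with h | h
        · right
          rw [← mul_assoc]; exact Subgroup.mul_mem _ hav h
        · left
          have := Subgroup.mul_mem _ (Subgroup.inv_mem _ hav) h
          rwa [mul_inv_rev, hsq, hsq, mul_assoc, ← mul_assoc (refl Q a ha), refl_sq,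
            one_mul] at this
    intro hmem
    rcases hA _ hmem with h | h
    · rw [← OmegaClasses.rprod_singleton hw₀, OmegaClasses.rprod_mem_iff hQ hexc
        (by intro x hx; rw [List.mem_singleton] at hx; exact hx ▸ hw₀)] at h
      simp at h
    · rw [← OmegaClasses.rprod_singleton hw₀, ← OmegaClasses.rprod_cons ha,
        OmegaClasses.rprod_mem_iff hQ hexc (by
          intro x hx; simp only [List.mem_cons, List.not_mem_nil, or_false] at hx
          rcases hx with rfl | rfl
          · exact ha
          · exact hw₀)] at h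
      obtain ⟨-, s, hs⟩ := h
      simp only [List.map_cons, List.map_nil, List.prod_cons, List.prod_nil, mul_one, hQa,
        hQw₀] at hs
      exact hν ⟨s / c, by rw [div_mul_div_comm, ← hs]; field_simp⟩
  rw [Subgroup.index_eq_two_iff]
  refine ⟨refl Q w₀ hw₀, fun g => ?_⟩
  rw [xor_iff_not_iff]
  have hcases : g ∈ classGroup Q c ∨ g * refl Q w₀ hw₀ ∈ classGroup Q c := by
    have hg : g ∈ reflGroup Q := hgen ▸ Subgroup.mem_top g
    induction hg using Subgroup.closure_induction_left with
    | one =>
      left; exact Subgroup.one_mem _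
    | mul_left r hr y _ ih =>
      obtain ⟨v, hv, rfl⟩ := hr
      set R := refl Q w₀ hw₀
      set X := refl Q v hv
      rcases key v hv with hk | hk
      · rcases ih with h | h
        · exact Or.inl (Subgroup.mul_mem _ hk h)
        · right; rw [mul_assoc]; exact Subgroup.mul_mem _ hk h
      · -- `X ∈ R K`
        rcases ih with h | h
        · right
          have h' := Subgroup.Normal.conj_mem inferInstance _ (Subgroup.mul_mem _ hk h) R
          rw [show R * (R * X * y) * R⁻¹ = (R * R) * X * y * R⁻¹ by group, refl_sq, one_mul,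
            hsq] at h'
          exact h'
        · left
          have h' := Subgroup.Normal.conj_mem inferInstance _ (Subgroup.mul_mem _ hk h) R
          rw [show R * (R * X * (y * R)) * R⁻¹ = (R * R) * X * y * (R * R⁻¹) by group, refl_sq,
            one_mul, mul_inv_cancel, mul_one] at h'
          exact h'
    | inv_mul_cancel r hr y _ ih =>
      obtain ⟨v, hv, rfl⟩ := hr
      rw [hsq]
      set R := refl Q w₀ hw₀
      set X := refl Q v hv
      rcases key v hv with hk | hk
      · rcases ih with h | h
        · exact Or.inl (Subgroup.mul_mem _ hk h)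
        · right; rw [mul_assoc]; exact Subgroup.mul_mem _ hk h
      · rcases ih with h | h
        · right
          have h' := Subgroup.Normal.conj_mem inferInstance _ (Subgroup.mul_mem _ hk h) R
          rw [show R * (R * X * y) * R⁻¹ = (R * R) * X * y * R⁻¹ by group, refl_sq, one_mul,
            hsq] at h'
          exact h'
        · left
          have h' := Subgroup.Normal.conj_mem inferInstance _ (Subgroup.mul_mem _ hk h) R
          rw [show R * (R * X * (y * R)) * R⁻¹ = (R * R) * X * y * (R * R⁻¹) by group, refl_sq,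
            one_mul, mul_inv_cancel, mul_one] at h'
          exact h'
  intro hiff
  rcases hcases with h | h
  · have hR := Subgroup.mul_mem _ (Subgroup.inv_mem _ h) (hiff.2 h)
    rw [← mul_assoc, inv_mul_cancel, one_mul] at hR
    exact hnot hR
  · have hR := Subgroup.mul_mem _ (Subgroup.inv_mem _ (hiff.1 h)) h
    rw [← mul_assoc, inv_mul_cancel, one_mul] at hR
    exact hnot hR

end General

/-- For q odd, n ≥ 2 even, Q with non-degenerate polar form (n, |F|) ≠ (4, 3), and a fixed c ≠ 0: the subgroup of the isometry group generated by the reflections r_v with Q(v) ∈ c·(F^×)² has index 2. -/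
theorem result {F : Type*} [Field F] [Fintype F] (h2 : (2 : F) ≠ 0) {n : ℕ} (hn : 2 ≤ n) (heven : Even n) (Q : QuadraticForm F (Fin n → F)) (hQ : (QuadraticMap.polarBilin Q).Nondegenerate) (h43 : ¬ (n = 4 ∧ Fintype.card F = 3)) (c : F) (hc : c ≠ 0) : (Subgroup.closure {g : ↥(Cfsg.isometryGroup F ⇑Q) | ∃ (v : Fin n → F) (t : F), t ≠ 0 ∧ Q v = c * t ^ 2 ∧ ((g : Matrix.GeneralLinearGroup (Fin n) F) : Matrix (Fin n) (Fin n) F) = Cfsg.reflectionMatrix ⇑Q v}).index = 2 := by
  classical
  have hdim : finrank F (Fin n → F) = n := by rw [Module.finrank_fin_fun]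
  have hq : (∃ b : F, b ≠ 0 ∧ b * b ≠ 1) ∨ 6 ≤ finrank F (Fin n → F) ∨
      finrank F (Fin n → F) = 2 := by
    by_cases h3 : Fintype.card F = 3
    · right
      rw [hdim]
      obtain ⟨m, rfl⟩ := heven
      omega
    · left
      by_contra hb
      push Not at hb
      have hsub : (Finset.univ : Finset F) ⊆ {0, 1, -1} := by
        intro x _
        by_cases hx : x = 0
        · simp [hx]
        · rcases mul_self_eq_one_iff.1 (hb x hx) with h | h <;> simp [h]
      have h1 := (Finset.card_le_card hsub).trans Finset.card_le_three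
      rw [Finset.card_univ] at h1
      have := Fintype.one_lt_card (α := F)
      have := card_mod_two (F := F) h2
      omega
  rw [← Subgroup.index_map_equiv _ (iso Q)]
  erw [map_closure]
  refine Eq.trans ?_ (classGroup_index (Q := Q) h2 hQ (by omega) hq hc)
  congr 2
  ext k
  constructor
  · rintro ⟨g, ⟨v, t, ht, hQv, hg⟩, rfl⟩
    have hv : Q v ≠ 0 := InClass.ne_zero hc ⟨t, ht, hQv⟩
    exact ⟨v, hv, ⟨t, ht, hQv⟩, (mat_eq_reflectionMatrix_iff g hv).1 hg⟩
  · rintro ⟨v, hv, ⟨t, ht, hQv⟩, rfl⟩
    refine ⟨(iso Q).symm (refl Q v hv), ⟨v, t, ht, hQv, ?_⟩, MulEquiv.apply_symm_apply _ _⟩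
    exact (mat_eq_reflectionMatrix_iff _ hv).2 (MulEquiv.apply_symm_apply _ _)

end Cfsg.Agent.S0798
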