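import Cfsg.Statements.S0800
import Mathlib

set_option autoImplicit false
open Cfsg

namespace Cfsg.Agent.S0800

/-- Tori of SL_2(q): if g ∈ SL_2(q) has order coprime to the characteristic p, then the order of g divides q − 1 or q + 1. -/
theorem result {F : Type*} [Field F] [Fintype F] {q : ℕ} (hF : Fintype.card F = q) (p : ℕ) [Fact p.Prime] [CharP F p] (g : Matrix.SpecialLinearGroup (Fin 2) F) (hg : Nat.Coprime (orderOf g) p) : orderOf g ∣ q - 1 ∨ orderOf g ∣ q + 1 := by
  classical
  obtain ⟨f, hp, hf⟩ := FiniteField.card F p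
  rw [hF] at hf
  set A : Matrix (Fin 2) (Fin 2) F := g.1 with hA
  have hdet : A.det = 1 := g.2
  have h2 : ∀ M : Matrix (Fin 2) (Fin 2) F, M * M + M.det • 1 = M.trace • M := by
    intro M
    ext i j
    fin_cases i <;> fin_cases j <;>
      simp [Matrix.mul_apply, Fin.sum_univ_two, Matrix.det_fin_two, Matrix.trace_fin_two] <;> ring
  have hCH := h2 A
  rw [hdet, one_smul] at hCH
  have hq : 1 ≤ q := by rw [hf]; exact Nat.one_le_pow _ _ hp.pos
  have hB : A ^ q * A ^ q + 1 = A.trace • A ^ q := by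
    have h : (A * A + 1) ^ q = (A.trace • A) ^ q := by rw [hCH]
    rw [smul_pow, ← hF, FiniteField.pow_card, hF] at h
    rw [hf] at h ⊢
    rwa [add_pow_char_pow_of_commute p f (Commute.one_right _), one_pow,
      (Commute.refl A).mul_pow] at h
  -- (A^(q-1) - 1) * (A^(q+1) - 1) = 0
  have hkey : (A ^ (q - 1) - 1) * (A ^ (q + 1) - 1) = 0 := by
    have e1 : A ^ (q - 1) * A ^ (q + 1) = A ^ q * A ^ q := by
      rw [← pow_add, ← pow_add]; congr 1; omega
    have e2 : A ^ (q - 1) + A ^ (q + 1) = A ^ (q - 1) * (A * A + 1) := by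
      rw [mul_add, mul_one, ← pow_two, ← pow_add, add_comm]
      congr 2; omega
    have e3 : A ^ (q - 1) * A = A ^ q := by rw [← pow_succ]; congr 1; omega
    rw [hCH, mul_smul_comm, e3, ← hB] at e2
    calc (A ^ (q - 1) - 1) * (A ^ (q + 1) - 1)
        = A ^ (q - 1) * A ^ (q + 1) + 1 - (A ^ (q - 1) + A ^ (q + 1)) := by noncomm_ring
      _ = 0 := by rw [e1, e2, sub_self]
  by_cases hu : (A ^ (q - 1) - 1).det = 0
  · left
    set U := A ^ (q - 1) with hU
    have hUdet : U.det = 1 := by rw [hU, Matrix.det_pow, hdet, one_pow]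
    have htr : U.trace = 2 := by
      rw [Matrix.det_fin_two] at hu hUdet
      simp at hu
      rw [Matrix.trace_fin_two]
      linear_combination hUdet - hu
    have hsq : (U - 1) ^ 2 = 0 := by
      have := h2 U
      rw [hUdet, htr, one_smul, two_smul] at this
      calc (U - 1) ^ 2 = U * U + 1 - (U + U) := by noncomm_ring
        _ = 0 := by rw [this, sub_self]
    have hUp : U ^ p = 1 := by
      have h := sub_pow_char_of_commute p (Commute.one_right U)
      rw [one_pow, pow_eq_zero_of_le hp.two_le hsq] at h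
      exact (sub_eq_zero.mp h.symm)
    have hg1 : g ^ ((q - 1) * p) = 1 := by
      apply Subtype.ext
      simp only [Matrix.SpecialLinearGroup.coe_pow, Matrix.SpecialLinearGroup.coe_one]
      rw [pow_mul, ← hA, ← hU, hUp]
    exact hg.dvd_of_dvd_mul_right (orderOf_dvd_of_pow_eq_one hg1)
  · right
    have hunit : IsUnit (A ^ (q - 1) - 1) :=
      (Matrix.isUnit_iff_isUnit_det _).mpr (Ne.isUnit hu)
    have := sub_eq_zero.mp (hunit.mul_right_eq_zero.mp hkey)
    apply orderOf_dvd_of_pow_eq_one
    apply Subtype.ext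
    simp only [Matrix.SpecialLinearGroup.coe_pow, Matrix.SpecialLinearGroup.coe_one, ← hA, this]

end Cfsg.Agent.S0800
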