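import Cfsg.Statements.S0801
import Mathlib
import Cfsg.Agent.Lib.DicksonRational
import Cfsg.Agent.Lib.DicksonTorus
import Cfsg.Agent.Lib.SL2Classes
import Cfsg.Agent.Lib.DicksonSubfieldEmbed
import Cfsg.Agent.Lib.PSLSimple

set_option autoImplicit false
open Cfsg

namespace Cfsg.Agent.S0801


open scoped MatrixGroups
open Matrix

section Exceptional

/-- Product in `ℤ[i] / 3`. -/
def zmul (x y : ZMod 3 × ZMod 3) : ZMod 3 × ZMod 3 :=
  (x.1 * y.1 - x.2 * y.2, x.1 * y.2 + x.2 * y.1)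

/-- `2 × 2` matrices over `ℤ[i] / 3`. -/
abbrev Q := (ZMod 3 × ZMod 3) × (ZMod 3 × ZMod 3) × (ZMod 3 × ZMod 3) × (ZMod 3 × ZMod 3)

/-- Product of such matrices. -/
def qmul : Q → Q → Q
  | (a, b, c, d), (a', b', c', d') =>
    (zmul a a' + zmul b c', zmul a b' + zmul b d', zmul c a' + zmul d c', zmul c b' + zmul d d')

/-- The two generators. -/
def gens : List Q := [((1, 0), (0, 0), (1, 0), (1, 0)), ((1, 0), (0, 1), (0, 0), (1, 0))]

/-- The group they generate. -/
def table : List Q :=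
  [((1, 0), (0, 0), (0, 0), (1, 0)),
  ((1, 0), (0, 0), (1, 0), (1, 0)),
  ((1, 0), (0, 1), (0, 0), (1, 0)),
  ((1, 0), (0, 0), (2, 0), (1, 0)),
  ((1, 0), (0, 1), (1, 0), (1, 1)),
  ((1, 1), (0, 1), (1, 0), (1, 0)),
  ((1, 0), (0, 2), (0, 0), (1, 0)),
  ((1, 0), (0, 1), (2, 0), (1, 2)),
  ((1, 1), (0, 1), (2, 1), (1, 1)),
  ((1, 0), (0, 2), (1, 0), (1, 2)),
  ((1, 2), (0, 1), (2, 0), (1, 0)),
  ((1, 1), (2, 2), (1, 0), (1, 1)),
  ((1, 2), (0, 2), (1, 0), (1, 0)),
  ((1, 1), (0, 1), (0, 2), (1, 2)),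
  ((1, 0), (0, 2), (2, 0), (1, 1)),
  ((1, 2), (0, 1), (0, 2), (1, 1)),
  ((1, 1), (2, 2), (2, 1), (0, 0)),
  ((1, 2), (0, 2), (2, 2), (1, 2)),
  ((1, 2), (1, 2), (2, 0), (1, 2)),
  ((0, 0), (2, 2), (2, 1), (1, 1)),
  ((1, 1), (1, 0), (1, 0), (1, 2)),
  ((1, 1), (0, 2), (2, 0), (1, 0)),
  ((1, 2), (1, 0), (1, 0), (1, 1)),
  ((1, 2), (0, 1), (1, 1), (1, 2)),
  ((1, 1), (2, 2), (0, 2), (2, 2)),
  ((1, 2), (0, 2), (0, 1), (1, 1)),
  ((1, 2), (1, 2), (0, 2), (2, 1)),
  ((0, 0), (2, 2), (2, 1), (0, 0)),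
  ((1, 1), (1, 0), (2, 1), (2, 2)),
  ((1, 1), (0, 2), (0, 1), (1, 2)),
  ((1, 2), (1, 0), (2, 2), (2, 1)),
  ((2, 1), (1, 2), (0, 2), (1, 2)),
  ((1, 2), (2, 0), (2, 0), (1, 1)),
  ((2, 2), (2, 2), (0, 2), (1, 1)),
  ((2, 1), (1, 0), (2, 2), (1, 2)),
  ((1, 1), (2, 0), (2, 0), (1, 2)),
  ((2, 2), (1, 0), (2, 1), (1, 1)),
  ((1, 2), (2, 1), (1, 0), (1, 2)),
  ((1, 2), (1, 2), (1, 1), (0, 0)),
  ((0, 0), (2, 2), (2, 1), (2, 2)),
  ((1, 1), (1, 0), (0, 2), (0, 2)),
  ((1, 1), (0, 2), (1, 2), (1, 1)),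
  ((1, 2), (1, 0), (0, 1), (0, 1)),
  ((2, 1), (1, 2), (2, 0), (2, 1)),
  ((1, 2), (2, 0), (0, 2), (0, 1)),
  ((2, 2), (2, 2), (2, 1), (0, 0)),
  ((2, 1), (1, 0), (1, 0), (2, 2)),
  ((1, 1), (2, 0), (0, 1), (0, 2)),
  ((2, 2), (1, 0), (1, 0), (2, 1)),
  ((1, 2), (2, 1), (2, 2), (0, 0)),
  ((0, 0), (1, 2), (1, 1), (1, 2)),
  ((2, 1), (0, 1), (0, 2), (2, 2)),
  ((0, 2), (2, 0), (0, 1), (1, 1)),
  ((2, 2), (0, 1), (0, 2), (2, 1)),
  ((0, 1), (1, 0), (0, 1), (1, 2)),
  ((2, 1), (0, 2), (2, 2), (2, 1)),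
  ((0, 1), (2, 0), (0, 2), (1, 2)),
  ((1, 1), (1, 1), (2, 0), (1, 1)),
  ((0, 2), (1, 0), (0, 2), (1, 1)),
  ((0, 0), (2, 1), (2, 2), (1, 2)),
  ((2, 1), (1, 2), (1, 1), (0, 0)),
  ((1, 2), (2, 0), (1, 1), (2, 1)),
  ((2, 2), (2, 2), (1, 0), (2, 2)),
  ((2, 1), (1, 0), (0, 1), (0, 2)),
  ((1, 1), (2, 0), (1, 2), (2, 2)),
  ((2, 2), (1, 0), (0, 2), (0, 1)),
  ((1, 2), (2, 1), (0, 1), (2, 1)),
  ((0, 0), (1, 2), (1, 1), (2, 1)),
  ((2, 1), (0, 1), (2, 0), (2, 0)),
  ((0, 2), (2, 0), (0, 0), (0, 1)),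
  ((2, 2), (0, 1), (2, 1), (2, 2)),
  ((0, 1), (1, 0), (0, 2), (2, 2)),
  ((2, 1), (0, 2), (1, 0), (2, 0)),
  ((0, 1), (2, 0), (0, 0), (0, 2)),
  ((1, 1), (1, 1), (0, 1), (2, 2)),
  ((0, 2), (1, 0), (0, 1), (2, 1)),
  ((0, 0), (2, 1), (2, 2), (0, 0)),
  ((0, 0), (1, 2), (1, 1), (0, 0)),
  ((2, 1), (2, 0), (0, 2), (0, 2)),
  ((2, 2), (2, 0), (1, 2), (1, 1)),
  ((0, 2), (0, 0), (0, 1), (0, 1)),
  ((2, 0), (0, 1), (2, 0), (2, 1)),
  ((0, 1), (0, 0), (0, 1), (0, 2)),
  ((2, 0), (0, 2), (1, 0), (2, 1)),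
  ((2, 1), (2, 1), (2, 2), (0, 0)),
  ((2, 1), (2, 0), (1, 1), (1, 2)),
  ((2, 2), (1, 1), (0, 1), (1, 1)),
  ((0, 2), (2, 0), (0, 2), (2, 1)),
  ((2, 1), (2, 1), (0, 1), (1, 2)),
  ((0, 0), (2, 1), (2, 2), (2, 1)),
  ((2, 1), (0, 1), (1, 1), (2, 1)),
  ((2, 2), (0, 1), (1, 0), (2, 0)),
  ((0, 1), (1, 0), (0, 0), (0, 2)),
  ((2, 1), (0, 2), (0, 1), (2, 2)),
  ((0, 1), (2, 0), (0, 1), (2, 2)),
  ((1, 1), (1, 1), (1, 2), (0, 0)),
  ((0, 2), (1, 0), (0, 0), (0, 1)),
  ((2, 1), (2, 0), (2, 0), (2, 2)),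
  ((2, 2), (2, 0), (0, 1), (0, 1)),
  ((0, 2), (0, 0), (0, 0), (0, 1)),
  ((2, 0), (0, 1), (1, 0), (2, 2)),
  ((0, 1), (0, 0), (0, 2), (0, 2)),
  ((2, 0), (0, 2), (0, 0), (2, 0)),
  ((2, 1), (2, 1), (1, 0), (2, 1)),
  ((2, 2), (1, 1), (2, 0), (2, 2)),
  ((2, 2), (0, 2), (1, 2), (2, 2)),
  ((0, 2), (0, 0), (0, 2), (0, 1)),
  ((2, 0), (0, 0), (2, 0), (2, 0)),
  ((0, 1), (0, 0), (0, 0), (0, 2)),
  ((2, 2), (0, 2), (0, 1), (2, 1)),
  ((0, 0), (1, 1), (1, 2), (1, 1)),
  ((2, 2), (2, 0), (2, 0), (2, 1)),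
  ((2, 0), (0, 1), (0, 0), (2, 0)),
  ((2, 0), (0, 2), (2, 0), (2, 2)),
  ((2, 2), (1, 1), (1, 2), (0, 0)),
  ((2, 0), (0, 0), (1, 0), (2, 0)),
  ((2, 2), (0, 2), (2, 0), (2, 0)),
  ((0, 0), (1, 1), (1, 2), (2, 2)),
  ((2, 0), (0, 0), (0, 0), (2, 0)),
  ((0, 0), (1, 1), (1, 2), (0, 0))]

theorem table_closed_bool : (table.all fun x => gens.all fun g => table.contains (qmul x g)) = true := by
  decide +kernel

theorem table_closed : ∀ x ∈ table, ∀ g ∈ gens, qmul x g ∈ table := fun x hx g hg =>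
  List.contains_iff_mem.mp (List.all_eq_true.mp (List.all_eq_true.mp table_closed_bool x hx) g hg)

theorem table_length : table.length = 120 := by decide +kernel

theorem one_mem_table : (((1, 0), (0, 0), (0, 0), (1, 0)) : Q) ∈ table := by decide +kernel

variable {F : Type*} [Field F]

/-- Evaluation at `lam`. -/
def ev (f : ZMod 3 →+* F) (lam : F) (x : ZMod 3 × ZMod 3) : F := f x.1 + f x.2 * lam

/-- Evaluation of a matrix. -/
def qev (f : ZMod 3 →+* F) (lam : F) : Q → Matrix (Fin 2) (Fin 2) F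
  | (a, b, c, d) => !![ev f lam a, ev f lam b; ev f lam c, ev f lam d]

theorem ev_add (f : ZMod 3 →+* F) (lam : F) (x y : ZMod 3 × ZMod 3) :
    ev f lam (x + y) = ev f lam x + ev f lam y := by
  simp [ev]; ring

theorem ev_zmul (f : ZMod 3 →+* F) {lam : F} (h : lam ^ 2 = -1) (x y : ZMod 3 × ZMod 3) :
    ev f lam (zmul x y) = ev f lam x * ev f lam y := by
  simp only [ev, zmul, map_sub, map_add, map_mul]
  linear_combination -(f x.2 * f y.2) * h

theorem qev_qmul (f : ZMod 3 →+* F) {lam : F} (h : lam ^ 2 = -1) (x y : Q) :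
    qev f lam (qmul x y) = qev f lam x * qev f lam y := by
  obtain ⟨a, b, c, d⟩ := x
  obtain ⟨a', b', c', d'⟩ := y
  simp [qev, qmul, ev_add, ev_zmul f h]

theorem card_closure_le [Finite F] [CharP F 3] {lam : F} (h : lam ^ 2 = -1) :
    Nat.card ↥(Subgroup.closure {g : SL(2, F) | (g : Matrix (Fin 2) (Fin 2) F) = !![1, 0; 1, 1] ∨
      (g : Matrix (Fin 2) (Fin 2) F) = !![1, lam; 0, 1]}) ≤ 120 := by
  classical
  let f : ZMod 3 →+* F := ZMod.castHom dvd_rfl F
  set s : Set SL(2, F) := {g | (g : Matrix (Fin 2) (Fin 2) F) = !![1, 0; 1, 1] ∨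
      (g : Matrix (Fin 2) (Fin 2) F) = !![1, lam; 0, 1]}
  have key : ∀ g ∈ Subgroup.closure s, ∃ x ∈ table, qev f lam x = g.1 := by
    intro g hg
    rw [← Subgroup.mem_toSubmonoid, Subgroup.closure_toSubmonoid_of_finite] at hg
    induction hg using Submonoid.closure_induction_right with
    | one =>
      refine ⟨_, one_mem_table, ?_⟩
      ext i j
      fin_cases i <;> fin_cases j <;> simp [qev, ev]
    | mul_right x hx y hy ih =>
      obtain ⟨t, ht, e⟩ := ih
      rcases hy with hy | hy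
      · refine ⟨_, table_closed t ht ((1, 0), (0, 0), (1, 0), (1, 0)) (List.mem_cons_self), ?_⟩
        rw [qev_qmul f h, e, Matrix.SpecialLinearGroup.coe_mul, hy]
        simp [qev, ev]
      · refine ⟨_, table_closed t ht ((1, 0), (0, 1), (0, 0), (1, 0))
          (List.mem_cons_of_mem _ List.mem_cons_self), ?_⟩
        rw [qev_qmul f h, e, Matrix.SpecialLinearGroup.coe_mul, hy]
        simp [qev, ev]
  choose φ hφ hφ' using key
  have hinj : Function.Injective (fun g : Subgroup.closure s =>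
      (⟨φ g.1 g.2, List.mem_toFinset.mpr (hφ g.1 g.2)⟩ : table.toFinset)) := fun a b e => by
    have e' : φ a.1 a.2 = φ b.1 b.2 := congrArg Subtype.val e
    exact Subtype.ext (Subtype.ext (by rw [← hφ' a.1 a.2, ← hφ' b.1 b.2, e']))
  refine (Nat.card_le_card_of_injective _ hinj).trans ?_
  rw [Nat.card_eq_fintype_card, Fintype.card_coe]
  exact (List.toFinset_card_le _).trans table_length.le

end Exceptional

variable {F : Type*} [Field F] [Finite F]

local notation "π" => QuotientGroup.mk' (Subgroup.center SL(2, F))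

theorem card_le_of_fixed (p j : ℕ) [Fact p.Prime] [CharP F p] (hj : 0 < j) {lam : F}
    (hgen : Subfield.closure ({lam} : Set F) = ⊤) (h : lam ^ p ^ j = lam) :
    Nat.card F ≤ p ^ j := by
  have htop : DicksonRational.fixSub F p j = ⊤ := by
    rw [eq_top_iff, ← hgen, Subfield.closure_le, Set.singleton_subset_iff]
    exact (DicksonRational.mem_fixSub p).mpr h
  refine le_trans (le_of_eq ?_) (DicksonRational.card_fixSub_le (F := F) p hj)
  rw [htop]
  exact (Nat.card_congr (Equiv.subtypeUnivEquiv fun _ => Subfield.mem_top _)).symm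

theorem dichotomy (p : ℕ) [hp : Fact p.Prime] [CharP F p] (h2 : (2 : F) ≠ 0) (lam : F)
    (hlam : lam ≠ 0) (hgen : Subfield.closure ({lam} : Set F) = ⊤)
    (G : Subgroup SL(2, F)) {a b : SL(2, F)} (ha : a ∈ G) (hb : b ∈ G)
    (hae : a.1 = !![1, 0; 1, 1]) (hbe : b.1 = !![1, lam; 0, 1]) :
    G = ⊤ ∨ (p = 3 ∧ lam ^ 2 = -1 ∧ Nat.card F = 9 ∧ Nat.card G = 120) := by
  classical
  have hp2 : p ≠ 2 := by
    rintro rfl
    exact h2 (CharP.cast_eq_zero F 2)
  set H := G.map π with hH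
  have haH : π a ∈ H := ⟨a, ha, rfl⟩
  have hbH : π b ∈ H := ⟨b, hb, rfl⟩
  have hord : p ∣ Nat.card H := by
    have h1 : π a ≠ 1 := fun e => by
      rcases (PSL2Proj52.π_eq_one a).mp e with e | e <;>
        · have := congrArg (fun g : SL(2, F) => g.1 1 0) e
          simp [hae] at this
    have h2 : π a ^ p = 1 := by
      rw [← map_pow, PSL2Elements.pow_char p (by simp [PSL2Elements.tr, hae]; norm_num), map_one]
    have := orderOf_eq_prime (G := H) (p := p) (x := ⟨π a, haH⟩) (Subtype.ext h2)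
      (fun e => h1 (congrArg Subtype.val e))
    exact this ▸ orderOf_dvd_natCard _
  have top_of : H = ⊤ → G = ⊤ := by
    intro hT
    have sq_mem : ∀ g : SL(2, F), g * g ∈ G := by
      intro g
      obtain ⟨g', hg', e⟩ : π g ∈ G.map π := by rw [← hH, hT]; exact Subgroup.mem_top _
      rcases (PSL2Proj52.π_eq_iff _ _).mp e with rfl | rfl
      · exact mul_mem hg' hg'
      · rw [← neg_mul_neg]; exact mul_mem hg' hg'
    refine PSLSimple.eq_top_of_transvection_mem _ fun i j hij c => ?_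
    haveI : NeZero (2 : F) := ⟨h2⟩
    have := sq_mem (SpecialLinearGroup.transvection hij (c / 2))
    convert this using 1
    apply Subtype.ext
    show Matrix.transvection i j c = Matrix.transvection i j (c / 2) * Matrix.transvection i j (c / 2)
    rw [Matrix.transvection_mul_transvection_same _ _ hij, add_halves]
  have hcardle : lam ^ p = lam → Nat.card F = p := by
    intro h
    obtain ⟨n, hn0, hn⟩ : ∃ n, 0 < n ∧ Nat.card F = p ^ n := by
      cases nonempty_fintype F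
      obtain ⟨n, -, hn⟩ := FiniteField.card F p
      exact ⟨n, n.pos, by rw [Nat.card_eq_fintype_card, hn]⟩
    refine le_antisymm (by simpa using card_le_of_fixed p 1 one_pos hgen (by simpa using h)) ?_
    rw [hn]
    exact Nat.le_self_pow hn0.ne' p
  rcases DicksonPSL.dickson_psl_strong p H with ⟨-, h, -⟩ | ⟨-, c, hc⟩ |
      ⟨k, -, hk, -, ⟨e⟩⟩ | ⟨h, -⟩ | ⟨h, -⟩ | ⟨hco, ⟨e⟩⟩ | ⟨R, -, ⟨c, hc⟩, he⟩
  · exact absurd hord h
  · exfalso
    have fix : ∀ g ∈ H, ProjectiveSpecialLinearGroup.toPGL g •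
        (ProjectiveSpecialLinearGroup.toPGL c⁻¹ • (OnePoint.infty : OnePoint F)) =
        ProjectiveSpecialLinearGroup.toPGL c⁻¹ • (OnePoint.infty : OnePoint F) := by
      intro g hg
      have := (DicksonPSL.mem_borelPSL_iff _).mp (hc ⟨g, hg, rfl⟩)
      simp only [MulEquiv.toMonoidHom_eq_coe, MonoidHom.coe_coe, MulAut.conj_apply, map_mul,
        map_inv, mul_smul] at this
      rw [map_inv]
      exact smul_left_cancel (ProjectiveSpecialLinearGroup.toPGL c)
        (this.trans (smul_inv_smul _ _).symm)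
    generalize ProjectiveSpecialLinearGroup.toPGL c⁻¹ • (OnePoint.infty : OnePoint F) = x at fix
    have h1 := (DicksonPSL.toPGL_proj_smul a x).symm.trans (fix _ haH)
    have h3 := (DicksonPSL.toPGL_proj_smul b x).symm.trans (fix _ hbH)
    cases x with
    | infty =>
      rw [OnePoint.smul_infty_eq_self_iff] at h1
      exact one_ne_zero (show (1 : F) = 0 by
        rw [← h1]; show (1 : F) = a.1 1 0; rw [hae]; rfl)
    | coe z =>
      rw [OnePoint.smul_some_eq_ite] at h3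
      simp [hbe, hlam] at h3
  · exfalso
    rw [Nat.card_congr e.toEquiv, DihedralGroup.nat_card] at hord
    rcases hp.out.dvd_mul.mp hord with h | h
    · exact hp2 ((Nat.prime_dvd_prime_iff_eq hp.out Nat.prime_two).mp h)
    · exact hk h
  · exact absurd hord h
  · exact absurd hord h
  · -- `A₅`
    have hp3 : p = 3 := hco.resolve_left fun h => h hord
    subst hp3
    have hcH : Nat.card H = 60 := by
      rw [Nat.card_congr e.toEquiv, nat_card_alternatingGroup, Nat.card_fin]; rfl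
    have hn1 : lam ^ 3 ≠ lam := by
      intro h
      have h3 := hcardle h
      have := Subgroup.card_le_card_group H
      have hG := PSLCard.card_PSL2_mul (F := F)
      have hG' : 2 * Nat.card (SL(2, F) ⧸ Subgroup.center SL(2, F)) = 24 := by
        rw [h3] at hG
        exact hG
      omega
    have three : (3 : F) = 0 := CharP.cast_eq_zero F 3
    have hor : ∀ g ∈ G, PSL2Elements.tr g ^ 2 = 4 ∨ PSL2Elements.tr g = 0 ∨
        PSL2Elements.tr g ^ 2 = 1 ∨
        (PSL2Elements.tr g ^ 2 + PSL2Elements.tr g - 1) * (PSL2Elements.tr g ^ 2 - PSL2Elements.tr g - 1) = 0 := by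
      intro g hg
      have hgH : π g ∈ H := ⟨g, hg, rfl⟩
      obtain ⟨t1, t2, t3, -, t5⟩ := DicksonRational.trace_cases (F := F) h2 (A := g)
      have pw : ∀ n, (e ⟨π g, hgH⟩) ^ n = 1 → orderOf (π g) ∣ n := fun n hn => by
        rw [← map_pow, MulEquiv.map_eq_one_iff] at hn
        exact orderOf_dvd_of_pow_eq_one (congrArg Subtype.val hn)
      have five : Nat.Prime 5 := by norm_num
      rcases DicksonTorus.A5_pow_cases (e ⟨π g, hgH⟩) with h | h | h
      · rcases (Nat.dvd_prime Nat.prime_two).mp (pw 2 h) with o | o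
        · exact Or.inl (t1 o)
        · exact Or.inr (Or.inl (t2 o))
      · rcases (Nat.dvd_prime Nat.prime_three).mp (pw 3 h) with o | o
        · exact Or.inl (t1 o)
        · exact Or.inr (Or.inr (Or.inl (t3 o)))
      · rcases (Nat.dvd_prime five).mp (pw 5 h) with o | o
        · exact Or.inl (t1 o)
        · exact Or.inr (Or.inr (Or.inr (t5 o)))
    have h5 : ∀ t : F, (t = lam - 1 ∨ t = -lam - 1) → (t ^ 2 = 4 ∨ t = 0 ∨ t ^ 2 = 1 ∨
        (t ^ 2 + t - 1) * (t ^ 2 - t - 1) = 0) → (t ^ 2 + t - 1) * (t ^ 2 - t - 1) = 0 := by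
      intro t ht hor
      have bad : (lam * (lam - 1) * (lam + 1) = 0) → False := fun h => hn1 (by linear_combination h)
      rcases hor with h | h | h | h
      · exfalso; refine bad ?_
        rcases ht with rfl | rfl
        · linear_combination (lam - 1) * h + (lam ^ 2 - 1) * three
        · linear_combination (lam + 1) * h - (lam ^ 2 - 1) * three
      · exfalso; refine bad ?_
        rcases ht with rfl | rfl
        · linear_combination lam * (lam + 1) * h
        · linear_combination -(lam * (lam - 1)) * h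
      · exfalso; refine bad ?_
        rcases ht with rfl | rfl
        · linear_combination (lam - 1) * h + (lam ^ 2 - lam) * three
        · linear_combination (lam + 1) * h - (lam ^ 2 + lam) * three
      · exact h
    have q1 : (lam ^ 2 - lam - 1) * (lam ^ 2 + 1) = 0 := by
      have := h5 (lam - 1) (Or.inl rfl) (by
        have := hor (b * a) (mul_mem hb ha)
        rwa [show PSL2Elements.tr (b * a) = lam - 1 by
          simp [PSL2Elements.tr, hae, hbe, Matrix.mul_apply, Fin.sum_univ_two]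
          linear_combination three] at this)
      linear_combination this + (lam * (lam ^ 2 - lam - 1)) * three
    have q2 : (lam ^ 2 + lam - 1) * (lam ^ 2 + 1) = 0 := by
      have := h5 (-lam - 1) (Or.inr rfl) (by
        have := hor (b * a⁻¹) (mul_mem hb (inv_mem ha))
        rwa [show PSL2Elements.tr (b * a⁻¹) = -lam - 1 by
          simp [PSL2Elements.tr, hae, hbe, Matrix.mul_apply, Fin.sum_univ_two,
            Matrix.SpecialLinearGroup.coe_inv, Matrix.adjugate_fin_two]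
          linear_combination three] at this)
      linear_combination this - (lam * (lam ^ 2 + lam - 1)) * three
    have hlam2 : lam ^ 2 = -1 := by
      by_contra hne
      have hne' : lam ^ 2 + 1 ≠ 0 := fun h => hne (by linear_combination h)
      have e1 := (mul_eq_zero.mp q1).resolve_right hne'
      have e2 := (mul_eq_zero.mp q2).resolve_right hne'
      exact mul_ne_zero h2 hlam (by linear_combination e2 - e1)
    refine Or.inr ⟨rfl, hlam2, ?_, ?_⟩
    · have h9 : Nat.card F ≤ 9 := card_le_of_fixed 3 2 two_pos hgen (by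
        rw [show (3 : ℕ) ^ 2 = 2 * 4 + 1 from rfl, pow_succ, pow_mul, hlam2]
        norm_num)
      cases nonempty_fintype F
      obtain ⟨n, -, hn⟩ := FiniteField.card F 3
      rw [Nat.card_eq_fintype_card, hn] at h9 ⊢
      have hn2 : (n : ℕ) ≤ 2 := (Nat.pow_le_pow_iff_right (by norm_num)).mp (le_trans h9 (by norm_num : 9 ≤ 3 ^ 2))
      rcases Nat.lt_or_ge (n : ℕ) 2 with h | h
      · exfalso
        have h1 : (n : ℕ) = 1 := by have := n.pos; omega
        rw [h1, pow_one] at hn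
        exact hn1 (by have := FiniteField.pow_card lam; rwa [hn] at this)
      · rw [show (n : ℕ) = 2 by omega]; norm_num
    · set f := (QuotientGroup.mk' (Subgroup.center SL(2, F))).comp G.subtype with hf
      have hr : f.range = H := by rw [hf, MonoidHom.range_comp, Subgroup.range_subtype]
      have hcG : Nat.card G = Nat.card H * Nat.card f.ker := by
        rw [← hr, ← Subgroup.index_ker, Subgroup.index_mul_card]
      have hneg : (-1 : SL(2, F)) ∈ G := by
        obtain ⟨g, hg⟩ := exists_prime_orderOf_dvd_card' (hp := ⟨Nat.prime_two⟩) 2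
          (show 2 ∣ Nat.card G from hcG ▸ (hcH ▸ (by norm_num : 2 ∣ 60)).mul_right _)
        have hsq : (g : SL(2, F)) ^ 2 = 1 := by
          have := pow_orderOf_eq_one g
          rw [hg] at this
          rw [← Subgroup.coe_pow, this]; rfl
        rcases PSL2Elements.eq_one_or_neg_one_of_sq_eq_one h2 hsq with e | e
        · rw [show g = 1 from Subtype.ext e, orderOf_one] at hg; omega
        · exact e ▸ g.2
      have hker : Nat.card f.ker = 2 := by
        rw [Nat.card_eq_two_iff]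
        refine ⟨⟨1, one_mem _⟩, ⟨⟨-1, hneg⟩, (PSL2Proj52.π_eq_one _).mpr (Or.inr rfl)⟩, fun h => ?_, ?_⟩
        · exact SL2Classes.neg_one_ne_one h2 (congrArg (fun z : f.ker => ((z : G) : SL(2, F))) h).symm
        · refine Set.eq_univ_of_forall fun z => ?_
          rcases (PSL2Proj52.π_eq_one _).mp z.2 with h | h
          · exact Or.inl (Subtype.ext (Subtype.ext h))
          · exact Or.inr (Subtype.ext (Subtype.ext h))
      rw [hcG, hcH, hker]
  · -- subfield
    refine Or.inl (top_of ?_)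
    have htr : ∀ g ∈ G, PSL2Elements.tr g ^ 2 ∈ R := by
      intro g hg
      obtain ⟨r, hr⟩ := hc ⟨_, ⟨π g, ⟨g, hg, rfl⟩, rfl⟩, rfl⟩
      induction r using Matrix.ProjGenLinGroup.induction_on with | mk r =>
      induction c using Matrix.ProjGenLinGroup.induction_on with | mk P =>
      have hr' : Matrix.ProjGenLinGroup.mk (Matrix.GeneralLinearGroup.map R.subtype r) =
          Matrix.ProjGenLinGroup.mk (P * SpecialLinearGroup.toGL g * P⁻¹) := by
        rw [map_mul, map_mul, map_inv]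
        exact hr
      obtain ⟨u, hu⟩ := Matrix.ProjGenLinGroup.mk_eq_mk_iff.mp hr'
      have hu' : (Matrix.GeneralLinearGroup.map R.subtype r).1 * ((u : F) • (1 : Matrix (Fin 2) (Fin 2) F)) =
          P.1 * g.1 * (P⁻¹).1 := by
        have := congrArg Units.val hu
        rw [Units.val_mul, Units.val_mul, Units.val_mul, GeneralLinearGroup.coe_scalar, Matrix.scalar_apply] at this
        rw [← Matrix.smul_one_eq_diagonal] at this
        exact this
      rw [mul_smul_comm, mul_one] at hu'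
      have ht := congrArg Matrix.trace hu'
      have hd := congrArg Matrix.det hu'
      rw [Matrix.trace_smul, Matrix.trace_mul_cycle, ← Units.val_mul, inv_mul_cancel, Units.val_one,
        one_mul, smul_eq_mul] at ht
      rw [Matrix.det_smul, Fintype.card_fin, Matrix.det_mul_right_comm, ← Units.val_mul, mul_inv_cancel,
        Units.val_one, one_mul, g.2] at hd
      have hdR : (Matrix.GeneralLinearGroup.map R.subtype r).1.det ∈ R := by
        rw [Matrix.det_fin_two]
        exact sub_mem (mul_mem (r.1 0 0).2 (r.1 1 1).2) (mul_mem (r.1 0 1).2 (r.1 1 0).2)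
      have htR : (Matrix.GeneralLinearGroup.map R.subtype r).1.trace ∈ R := by
        rw [Matrix.trace_fin_two]
        exact add_mem (r.1 0 0).2 (r.1 1 1).2
      rw [PSL2Elements.tr_eq, ← ht]
      have hu2 : (u : F) ^ 2 = ((Matrix.GeneralLinearGroup.map R.subtype r).1.det)⁻¹ :=
        eq_inv_of_mul_eq_one_left hd
      rw [mul_pow, hu2]
      exact mul_mem (inv_mem hdR) (pow_mem htR 2)
    have h8 : (8 : F) * lam ∈ R := by
      have e1 := htr _ (mul_mem hb ha)
      have e2 := htr _ (mul_mem hb (inv_mem ha))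
      have := sub_mem e1 e2
      convert this using 1
      simp [PSL2Elements.tr, hae, hbe, Matrix.mul_apply, Fin.sum_univ_two,
        Matrix.SpecialLinearGroup.coe_inv, Matrix.adjugate_fin_two]
      ring
    have hlamR : lam ∈ R := by
      have h80 : (8 : F) ≠ 0 := by
        rw [show (8 : F) = 2 ^ 3 by norm_num]; exact pow_ne_zero _ h2
      have h8R : (8 : F) ∈ R := by simpa using natCast_mem R 8
      have := mul_mem (inv_mem h8R) h8
      rwa [← mul_assoc, inv_mul_cancel₀ h80, one_mul] at this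
    have hRtop : R = ⊤ := by
      rw [eq_top_iff, ← hgen, Subfield.closure_le, Set.singleton_subset_iff]
      exact hlamR
    have hcR : Nat.card R = Nat.card F := by
      rw [hRtop]; exact Nat.card_congr (Equiv.subtypeUnivEquiv fun _ => Subfield.mem_top _)
    obtain ⟨f⟩ := DicksonSubfieldEmbed.exists_ringHom (F := R) (K := F) (m := 1) (by rw [pow_one, hcR])
    obtain ⟨ψ, hψ⟩ := DicksonSubfieldEmbed.exists_psl_embedding f
    apply Subgroup.eq_top_of_card_eq
    refine le_antisymm (Subgroup.card_le_card_group H) ?_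
    refine le_trans (Nat.card_le_card_of_injective ψ hψ) ?_
    rcases he with ⟨⟨e⟩⟩ | ⟨-, ⟨e⟩⟩
    · rw [Nat.card_congr e.toEquiv]
      exact Nat.card_le_card_of_injective _ ProjectiveSpecialLinearGroup.toPGL_injective
    · rw [Nat.card_congr e.toEquiv]
/-- Let F be a finite field of odd characteristic and λ ≠ 0 an element generating F as a field. Then the lower and upper unitriangular matrices with off-diagonal entries 1 and λ generate SL_2(F), unless |F| = 9 and λ² = −1, in which case they generate a subgroup of order 120. -/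
theorem result {F : Type*} [Field F] [Fintype F] (h2 : (2 : F) ≠ 0) (lam : F) (hlam : lam ≠ 0) (hgen : Subfield.closure ({lam} : Set F) = ⊤) : (Subgroup.closure {g : Matrix.SpecialLinearGroup (Fin 2) F | (g : Matrix (Fin 2) (Fin 2) F) = !![1, 0; 1, 1] ∨ (g : Matrix (Fin 2) (Fin 2) F) = !![1, lam; 0, 1]} = ⊤ ∧ ¬ (Fintype.card F = 9 ∧ lam ^ 2 = -1)) ∨ (Fintype.card F = 9 ∧ lam ^ 2 = -1 ∧ Nat.card ↥(Subgroup.closure {g : Matrix.SpecialLinearGroup (Fin 2) F | (g : Matrix (Fin 2) (Fin 2) F) = !![1, 0; 1, 1] ∨ (g : Matrix (Fin 2) (Fin 2) F) = !![1, lam; 0, 1]}) = 120) := by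
  obtain ⟨p, hpF⟩ := CharP.exists F
  haveI : Fact p.Prime := ⟨CharP.char_is_prime F p⟩
  set G := Subgroup.closure {g : Matrix.SpecialLinearGroup (Fin 2) F |
    (g : Matrix (Fin 2) (Fin 2) F) = !![1, 0; 1, 1] ∨ (g : Matrix (Fin 2) (Fin 2) F) = !![1, lam; 0, 1]}
  let a : Matrix.SpecialLinearGroup (Fin 2) F := ⟨!![1, 0; 1, 1], by simp [Matrix.det_fin_two]⟩
  let b : Matrix.SpecialLinearGroup (Fin 2) F := ⟨!![1, lam; 0, 1], by simp [Matrix.det_fin_two]⟩
  rcases dichotomy p h2 lam hlam hgen G (a := a) (b := b) (Subgroup.subset_closure (Or.inl rfl))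
    (Subgroup.subset_closure (Or.inr rfl)) rfl rfl with h | ⟨-, h1, h9, hc⟩
  · refine Or.inl ⟨h, fun ⟨h9, h1⟩ => ?_⟩
    have h3 : p = 3 := by
      obtain ⟨n, hp, hn⟩ := FiniteField.card F p
      rw [h9] at hn
      exact (Nat.prime_dvd_prime_iff_eq hp Nat.prime_three).mp
        (hp.dvd_of_dvd_pow (show p ∣ 3 ^ 2 by rw [show (3 : ℕ) ^ 2 = 9 from rfl, hn]; exact dvd_pow_self p n.ne_zero))
    subst h3
    have hle : Nat.card G ≤ 120 := card_closure_le h1
    rw [h, Subgroup.card_top, PSLCard.card_SL2, Nat.card_eq_fintype_card, h9] at hle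
    norm_num at hle
  · exact Or.inr ⟨by rw [← h9, Nat.card_eq_fintype_card], h1, hc⟩

end Cfsg.Agent.S0801
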