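import Cfsg.Statements.S0804
import Mathlib
import Cfsg.Agent.Lib.DicksonExistence
import Cfsg.Agent.Lib.DicksonTorus

set_option autoImplicit false
open Cfsg

namespace Cfsg.Agent.S0804

/-- PSL_2(q) has a subgroup isomorphic to A_5 iff 5 ∣ q(q² − 1). -/
theorem result {F : Type*} [Field F] [Fintype F] {q : ℕ} (hF : Fintype.card F = q) : (∃ H : Subgroup (Matrix.ProjectiveSpecialLinearGroup (Fin 2) F), Nonempty (H ≃* alternatingGroup (Fin 5))) ↔ 5 ∣ q * (q ^ 2 - 1) := by
  have hn : Nat.card F = q := Nat.card_eq_fintype_card.trans hF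
  subst hn
  have hq1 := PSLCard.one_lt_card F
  obtain ⟨p, hp⟩ := CharP.exists F
  have hpp : Fact p.Prime := ⟨CharP.char_is_prime F p⟩
  obtain ⟨n, hn0, hn⟩ := PSL2Sylow.card_field_eq (F := F) p
  constructor
  · rintro ⟨H, ⟨e⟩⟩
    have hH : Nat.card H = 60 := by
      rw [Nat.card_congr e.toEquiv, nat_card_alternatingGroup, Nat.card_fin]; rfl
    rw [← PSLCard.card_PSL2_mul (F := F)]
    exact dvd_mul_of_dvd_right (((by norm_num : 5 ∣ 60)).trans
      (hH ▸ Subgroup.card_subgroup_dvd_card H)) _
  · intro h5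
    have key : ∃ ψ : alternatingGroup (Fin 5) →* Matrix.ProjectiveSpecialLinearGroup (Fin 2) F,
        Function.Injective ψ := by
      rcases eq_or_ne p 5 with rfl | hp5
      · exact DicksonExistence.exists_A5_five (m := n) hn.symm
      have h5' : 5 ∣ Nat.card F ^ 2 - 1 := by
        refine Nat.Coprime.dvd_of_dvd_mul_left ?_ h5
        rw [hn]
        exact Nat.Coprime.pow_right _ ((Nat.coprime_primes (by norm_num) hpp.out).mpr (Ne.symm hp5))
      have hsq : Nat.card F ^ 2 - 1 = (Nat.card F + 1) * (Nat.card F - 1) := by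
        rw [← Nat.sq_sub_sq, one_pow]
      rw [hsq] at h5'
      rcases DicksonExistence.char_cases (F := F) p with ⟨rfl, -⟩ | ⟨-, h2⟩
      · obtain ⟨t, rfl | rfl⟩ := Nat.even_or_odd' n
        · exact DicksonExistence.exists_A5_four (m := t) (by rw [hn, pow_mul]; rfl)
        · exfalso
          have h : Nat.card F % 5 = 2 ∨ Nat.card F % 5 = 3 := by
            have h4 : 4 ^ t % 5 = 1 ∨ 4 ^ t % 5 = 4 := by
              clear hn hn0
              induction t with
              | zero => simp
              | succ t ih => rw [pow_succ, Nat.mul_mod]; rcases ih with h | h <;> rw [h] <;> norm_num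
            rw [hn, pow_succ, pow_mul, show (2 : ℕ) ^ 2 = 4 from rfl]
            omega
          rcases (Nat.Prime.dvd_mul (by norm_num)).mp h5' with h' | h' <;> omega
      · obtain ⟨φ, hφ⟩ : ∃ φ : F, φ ^ 2 = φ + 1 := by
          rcases (Nat.Prime.dvd_mul (by norm_num)).mp h5' with h' | h'
          · exact DicksonExistence.exists_golden p (Or.inr rfl) h'
          · exact DicksonExistence.exists_golden p (Or.inl rfl) h'
        exact DicksonExceptional.exists_A5 h2 hφ
    obtain ⟨ψ, hψ⟩ := key
    exact ⟨ψ.range, ⟨(MonoidHom.ofInjective hψ).symm⟩⟩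

end Cfsg.Agent.S0804
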