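import Cfsg.Statements.S0808
import Mathlib
import Cfsg.Agent.Lib.DicksonFourGroups

set_option autoImplicit false
open Cfsg

namespace Cfsg.Agent.S0808

/-- Conjugacy classes of four-groups in PSL_2(q), q odd: if q ≡ 3 or 5 (mod 8) all Klein four-subgroups are conjugate; if q ≡ 1 or 7 (mod 8) there are two Klein four-subgroups which are not conjugate, and every Klein four-subgroup is conjugate to one of them. -/
theorem result {F : Type*} [Field F] [Fintype F] {q : ℕ} (hF : Fintype.card F = q) (hodd : Odd q) : ((q % 8 = 3 ∨ q % 8 = 5) → ∀ V W : Subgroup (Matrix.ProjectiveSpecialLinearGroup (Fin 2) F), IsKleinFour V → IsKleinFour W → ∃ g : Matrix.ProjectiveSpecialLinearGroup (Fin 2) F, W = V.map (MulAut.conj g).toMonoidHom) ∧ ((q % 8 = 1 ∨ q % 8 = 7) → ∃ V₁ V₂ : Subgroup (Matrix.ProjectiveSpecialLinearGroup (Fin 2) F), IsKleinFour V₁ ∧ IsKleinFour V₂ ∧ (¬ ∃ g : Matrix.ProjectiveSpecialLinearGroup (Fin 2) F, V₂ = V₁.map (MulAut.conj g).toMonoidHom)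 ∧ ∀ W : Subgroup (Matrix.ProjectiveSpecialLinearGroup (Fin 2) F), IsKleinFour W → (∃ g : Matrix.ProjectiveSpecialLinearGroup (Fin 2) F, W = V₁.map (MulAut.conj g).toMonoidHom) ∨ (∃ g : Matrix.ProjectiveSpecialLinearGroup (Fin 2) F, W = V₂.map (MulAut.conj g).toMonoidHom)) := by
  have hq : Nat.card F = q := by rw [Nat.card_eq_fintype_card, hF]
  subst hq
  obtain ⟨V₁, V₂, h₁, h₂, hcl⟩ := DicksonFourGroups.classes (F := F) hodd
  have step : ∀ (A B C : Subgroup (Matrix.ProjectiveSpecialLinearGroup (Fin 2) F))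
      (g h : Matrix.ProjectiveSpecialLinearGroup (Fin 2) F),
      B = A.map (MulAut.conj g).toMonoidHom → C = B.map (MulAut.conj h).toMonoidHom →
      C = A.map (MulAut.conj (h * g)).toMonoidHom := by
    rintro A B C g h rfl rfl
    rw [Subgroup.map_map]
    refine congrArg (fun k => A.map k) (MonoidHom.ext fun z => ?_)
    show h * (g * z * g⁻¹) * h⁻¹ = h * g * z * (h * g)⁻¹
    group
  have back : ∀ (A B : Subgroup (Matrix.ProjectiveSpecialLinearGroup (Fin 2) F))
      (g : Matrix.ProjectiveSpecialLinearGroup (Fin 2) F),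
      B = A.map (MulAut.conj g).toMonoidHom → A = B.map (MulAut.conj g⁻¹).toMonoidHom := by
    rintro A B g rfl
    rw [Subgroup.map_map]
    conv_lhs => rw [← Subgroup.map_id A]
    refine congrArg (fun k => A.map k) (MonoidHom.ext fun z => ?_)
    show z = g⁻¹ * (g * z * g⁻¹) * g⁻¹⁻¹
    group
  refine ⟨fun h8 V W hV hW => ?_, fun h8 => ?_⟩
  · obtain ⟨g, hg⟩ := (hcl V hV).resolve_right fun h => h.1 h8
    obtain ⟨g', hg'⟩ := (hcl W hW).resolve_right fun h => h.1 h8
    exact ⟨g' * g⁻¹, step _ _ _ _ _ (back _ _ _ hg) hg'⟩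
  · have h2 := PSL2SylowTwo.two_ne_zero_of_odd (F := F) hodd
    obtain ⟨s, hs⟩ := (FiniteField.isSquare_two_iff (F := F)).mpr
      (by rw [← Nat.card_eq_fintype_card]; omega)
    refine ⟨V₁, V₂, h₁, h₂, ?_, fun W hW => (hcl W hW).imp id And.right⟩
    rintro ⟨g₀, hg₀⟩
    refine DicksonFourGroups.not_all_conj h2 (s := s) (by rw [sq]; exact hs.symm) h₁ fun W hW => ?_
    rcases hcl W hW with h | ⟨-, g, hg⟩
    · exact h
    · exact ⟨_, step _ _ _ _ _ hg₀ hg⟩

end Cfsg.Agent.S0808
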