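import Cfsg.Statements.S0809
import Mathlib
import Cfsg.Agent.Lib.DicksonMaximal
import Cfsg.Agent.Lib.DicksonRational
import Cfsg.Agent.Lib.SL2Torus
import Cfsg.Agent.Lib.SL2Classes

set_option autoImplicit false
open Cfsg

namespace Cfsg.Agent.S0809


open scoped MatrixGroups Classical
open Matrix Cfsg.Agent.PSL2Elements

variable {F : Type*} [Field F] [Finite F]

theorem exists_gen (h2 : (2 : F) ≠ 0) (A : Subgroup SL(2, F)) (hA : Nat.card A = 4) :
    ∃ g : SL(2, F), tr g = 0 ∧ orderOf g = 4 ∧ A = Subgroup.zpowers g := by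
  obtain ⟨a, ha, hne⟩ : ∃ a ∈ A, a ^ 2 ≠ (1 : SL(2, F)) := by
    by_contra hc
    push Not at hc
    let f : A → Bool := fun a => decide ((a : SL(2, F)) = 1)
    have hf : Function.Injective f := fun a b h => by
      apply Subtype.ext
      rcases eq_one_or_neg_one_of_sq_eq_one h2 (hc _ a.2) with e | e <;>
        rcases eq_one_or_neg_one_of_sq_eq_one h2 (hc _ b.2) with e' | e' <;>
        simp only [f, e, e', decide_eq_decide] at h <;> rw [e, e'] <;>
        simp [SL2Classes.neg_one_ne_one h2] at h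
    have := Nat.card_le_card_of_injective f hf
    rw [hA, Nat.card_eq_fintype_card, Fintype.card_bool] at this
    omega
  have h4 : a ^ (2 ^ (1 + 1)) = 1 := by
    have := pow_card_eq_one' (G := A) (x := ⟨a, ha⟩)
    rw [hA] at this
    exact congrArg Subtype.val this
  have hord : orderOf a = 4 := orderOf_eq_prime_pow (hp := ⟨Nat.prime_two⟩) (by simpa using hne) h4
  have hle : Subgroup.zpowers a ≤ A := Subgroup.zpowers_le.mpr ha
  refine ⟨a, ?_, hord, (Subgroup.eq_of_le_of_card_ge hle (by rw [Nat.card_zpowers, hord, hA])).symm⟩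
  rw [← sq_eq_neg_one_iff a h2]
  exact (eq_one_or_neg_one_of_sq_eq_one h2 (by rw [← pow_mul]; simpa using h4)).resolve_left hne

theorem normalizer_zpowers_eq (h2 : (2 : F) ≠ 0) {g : SL(2, F)} (h : tr g ^ 2 ≠ 4) :
    Subgroup.normalizer (Subgroup.zpowers g : Set SL(2, F)) =
      Subgroup.normalizer (SL2Torus.tor g : Set SL(2, F)) := by
  have hle : Subgroup.zpowers g ≤ SL2Torus.tor g := Subgroup.zpowers_le.mpr (SL2Torus.self_mem g)
  obtain ⟨n, hn⟩ := SL2Torus.exists_inverter h
  ext x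
  constructor
  · intro hx
    rw [SL2Torus.mem_normalizer_iff_or h2 h hn]
    exact SL2Torus.mem_or_mem h2 h hn
      (hle ((Subgroup.mem_normalizer_iff.1 hx g).1 (Subgroup.mem_zpowers g)))
  · intro hx
    refine DicksonMaximal.mem_normalizer_of fun y hy => ?_
    by_cases hxt : x ∈ SL2Torus.tor g
    · rw [SL2Torus.tor_comm h hxt (hle hy), mul_inv_cancel_right]
      exact hy
    · rw [SL2Torus.inverts h2 h hx hxt y (hle hy)]
      exact inv_mem hy

theorem card_normalizer_four (hq : Odd (Nat.card F)) (h2 : (2 : F) ≠ 0)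
    (A : Subgroup SL(2, F)) (hA : Nat.card A = 4) :
    (Nat.card F % 4 = 1 → Nat.card ↥(Subgroup.normalizer (A : Set SL(2, F))) = 2 * (Nat.card F - 1)) ∧
    (Nat.card F % 4 = 3 → Nat.card ↥(Subgroup.normalizer (A : Set SL(2, F))) = 2 * (Nat.card F + 1)) := by
  obtain ⟨g, htr, hord, rfl⟩ := exists_gen h2 A hA
  have h4 : tr g ^ 2 ≠ 4 := by
    rw [htr, ← tr_w (F := F)]; exact tr_w_ne h2
  rw [normalizer_zpowers_eq h2 h4, SL2Torus.card_normalizer h2 h4]
  have hdvd : 4 ∣ Nat.card (SL2Torus.tor g) := by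
    rw [← hord]
    exact Subgroup.orderOf_dvd_natCard _ (SL2Torus.self_mem g)
  have hcases := (centralizer_semisimple h4).2.imp And.right And.right
  have := PSLCard.one_lt_card F
  constructor <;> intro hm <;> rcases hcases with e | e <;> rw [e] at hdvd ⊢ <;> omega

theorem conj_four (h2 : (2 : F) ≠ 0) (A B : Subgroup SL(2, F)) (hA : Nat.card A = 4)
    (hB : Nat.card B = 4) : ∃ g : SL(2, F), B = A.map (MulAut.conj g).toMonoidHom := by
  obtain ⟨a, ha, -, rfl⟩ := exists_gen h2 A hA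
  obtain ⟨b, hb, -, rfl⟩ := exists_gen h2 B hB
  obtain ⟨c, hc⟩ := isConj_iff.1 ((isConj_w_of_tr_zero h2 ha).trans (isConj_w_of_tr_zero h2 hb).symm)
  exact ⟨c, by rw [MonoidHom.map_zpowers]; simp [hc]⟩

theorem conj_involutions (h2 : (2 : F) ≠ 0)
    (x y : Matrix.ProjectiveSpecialLinearGroup (Fin 2) F) (hx : orderOf x = 2) (hy : orderOf y = 2) :
    IsConj x y := by
  obtain ⟨a, rfl⟩ := PSL2Proj52.π_surjective x
  obtain ⟨b, rfl⟩ := PSL2Proj52.π_surjective y
  obtain ⟨ha, -⟩ := DicksonRational.sq_eq_neg_one_of_order_two h2 hx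
  obtain ⟨hb, -⟩ := DicksonRational.sq_eq_neg_one_of_order_two h2 hy
  exact MonoidHom.map_isConj _ ((isConj_w_of_tr_zero h2 ha).trans (isConj_w_of_tr_zero h2 hb).symm)
/-- In SL_2(q), q odd: any two subgroups of order 4 are conjugate, and the normaliser of a subgroup of order 4 has order 2(q − 1) if q ≡ 1 (mod 4) and 2(q + 1) if q ≡ 3 (mod 4); consequently all involutions of PSL_2(q) are conjugate. -/
theorem result {F : Type*} [Field F] [Fintype F] {q : ℕ} (hF : Fintype.card F = q) (hodd : Odd q) (A : Subgroup (Matrix.SpecialLinearGroup (Fin 2) F)) (hA : Nat.card A = 4) : (∀ B : Subgroup (Matrix.SpecialLinearGroup (Fin 2) F), Nat.card B = 4 → ∃ g : Matrix.SpecialLinearGroup (Fin 2) F, B = A.map (MulAut.conj g).toMonoidHom) ∧ (q % 4 = 1 → Nat.card ↥(Subgroup.normalizer (A : Set (Matrix.SpecialLinearGroup (Fin 2) F))) = 2 * (q - 1)) ∧ (q % 4 = 3 → Nat.card ↥(Subgroup.normalizer (A : Set (Matrix.SpecialLinearGroup (Fin 2) F))) = 2 * (q + 1)) ∧ (∀ x y : Matrix.ProjectiveSpecialLinearGroup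 (Fin 2) F, orderOf x = 2 → orderOf y = 2 → IsConj x y) := by
  have hq : Nat.card F = q := by rw [Nat.card_eq_fintype_card, hF]
  subst hq
  have h2 : (2 : F) ≠ 0 := PSL2Proj52.two_ne_of_odd hodd
  exact ⟨fun B hB => conj_four h2 A B hA hB, (card_normalizer_four hodd h2 A hA).1,
    (card_normalizer_four hodd h2 A hA).2, conj_involutions h2⟩

end Cfsg.Agent.S0809
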