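import Cfsg.Statements.S0810
import Mathlib
import Cfsg.Agent.Lib.DicksonMaximal
import Cfsg.Agent.Lib.DicksonExistence
import Cfsg.Agent.Lib.DicksonRational
import Cfsg.Agent.Lib.CharInducedBurnside

set_option autoImplicit false
open Cfsg

namespace Cfsg.Agent.S0810


open scoped MatrixGroups Classical
open Matrix

variable {F : Type*} [Field F] [Finite F]

theorem not_solvable (K : Type*) [Field K] [Finite K] (h4 : 4 ≤ Nat.card K) :
    ¬ Group.IsSolvable (Matrix.ProjectiveSpecialLinearGroup (Fin 2) K) := by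
  intro h
  haveI := PSLSimple.isSimpleGroup_PSL_fin' (F := K) (n := 2) le_rfl (fun _ => h4)
  exact PSLSimple.not_isMulCommutative_PSL_fin (F := K) le_rfl (fun _ => h4)
    (IsSimpleGroup.comm_iff_isSolvable.mpr h)

theorem no_embedding {G : Type*} [Group G]
    (hM : Cfsg.IsMinimalSimple (Matrix.ProjectiveSpecialLinearGroup (Fin 2) F))
    (hlt : Nat.card G < Nat.card (Matrix.ProjectiveSpecialLinearGroup (Fin 2) F))
    (hns : ¬ Group.IsSolvable G)
    (ψ : G →* Matrix.ProjectiveSpecialLinearGroup (Fin 2) F) (hψ : Function.Injective ψ) :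
    False := by
  have hne : ψ.range ≠ ⊤ := fun e => by
    have hc := Nat.card_congr (MonoidHom.ofInjective hψ).toEquiv
    rw [e, Subgroup.card_top] at hc
    omega
  haveI := hM.2.2 _ hne
  exact hns (Group.isSolvable_of_isSolvable_injective (f := (MonoidHom.ofInjective hψ).toMonoidHom)
    (MonoidHom.ofInjective hψ).injective)

theorem card_psl_lt {K : Type*} [Field K] [Finite K] (hK : 2 * Nat.card K ≤ Nat.card F) :
    Nat.card (Matrix.ProjectiveSpecialLinearGroup (Fin 2) K) <
      Nat.card (Matrix.ProjectiveSpecialLinearGroup (Fin 2) F) := by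
  have h1 := PSLCard.card_PSL2_mul (F := K)
  have h2 := PSLCard.card_PSL2_mul (F := F)
  have hk := PSLCard.one_lt_card K
  have g1 : 1 ≤ Nat.gcd 2 (Nat.card K - 1) := Nat.gcd_pos_of_pos_left _ two_pos
  have g2 : Nat.gcd 2 (Nat.card F - 1) ≤ 2 := Nat.le_of_dvd two_pos (Nat.gcd_dvd_left _ _)
  have s1 : (2 * Nat.card K) ^ 2 ≤ Nat.card F ^ 2 := Nat.pow_le_pow_left hK 2
  have s1' : 4 * Nat.card K ^ 2 ≤ Nat.card F ^ 2 := by rw [← show (2 * Nat.card K) ^ 2 = 4 * Nat.card K ^ 2 by ring]; exact s1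
  have s3 : 4 ≤ Nat.card K ^ 2 := by
    have := Nat.pow_le_pow_left (show 2 ≤ Nat.card K by omega) 2
    simpa using this
  have s2 : 2 * Nat.card K * (4 * (Nat.card K ^ 2 - 1)) ≤ Nat.card F * (Nat.card F ^ 2 - 1) :=
    Nat.mul_le_mul hK (by omega)
  have hpos : 0 < Nat.card K * (Nat.card K ^ 2 - 1) := Nat.mul_pos (by omega) (by omega)
  nlinarith

theorem solvable_borel : Group.IsSolvable (PSL2Sylow.borel F) := by
  let g : PSL2Sylow.borel F →* F :=
    { toFun := fun A => (A : SL(2, F)).1 0 0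
      map_one' := by simp
      map_mul' := fun A B => by
        have hB : (B : SL(2, F)).1 1 0 = 0 := B.2
        simp [Matrix.mul_apply, Fin.sum_univ_two, hB] }
  haveI : Group.IsSolvable Fˣ := Group.isSolvable_of_comm mul_comm
  haveI : Group.IsSolvable g.toHomUnits.ker := Group.isSolvable_of_comm fun a b => by
    have key : ∀ c : g.toHomUnits.ker, ((c : PSL2Sylow.borel F) : SL(2, F)).1 0 0 = 1 ∧
        ((c : PSL2Sylow.borel F) : SL(2, F)).1 1 0 = 0 ∧
        ((c : PSL2Sylow.borel F) : SL(2, F)).1 1 1 = 1 := by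
      intro c
      have h0 : ((c : PSL2Sylow.borel F) : SL(2, F)).1 0 0 = 1 := congrArg Units.val c.2
      have h10 : ((c : PSL2Sylow.borel F) : SL(2, F)).1 1 0 = 0 := (c : PSL2Sylow.borel F).2
      have hd := ((c : PSL2Sylow.borel F) : SL(2, F)).2
      rw [Matrix.det_fin_two, h0, h10] at hd
      exact ⟨h0, h10, by simpa using hd⟩
    obtain ⟨a0, a10, a1⟩ := key a
    obtain ⟨b0, b10, b1⟩ := key b
    apply Subtype.ext; apply Subtype.ext; apply Subtype.ext
    ext i j
    fin_cases i <;> fin_cases j <;>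
      simp [Matrix.mul_apply, Fin.sum_univ_two, a0, a10, a1, b0, b10, b1, add_comm]
  exact Group.isSolvable_of_ker_le_range g.toHomUnits.ker.subtype g.toHomUnits
    (by rw [Subgroup.range_subtype])

theorem solvable_dihedral (k : ℕ) : Group.IsSolvable (DihedralGroup k) := by
  let r' : Multiplicative (ZMod k) →* DihedralGroup k :=
    { toFun := fun i => DihedralGroup.r i.toAdd
      map_one' := rfl
      map_mul' := fun a b => (DihedralGroup.r_mul_r _ _).symm }
  let s' : DihedralGroup k →* Multiplicative (ZMod 2) :=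
    { toFun := fun x => match x with
        | DihedralGroup.r _ => 1
        | DihedralGroup.sr _ => Multiplicative.ofAdd 1
      map_one' := rfl
      map_mul' := fun a b => by cases a <;> cases b <;> simp <;> rfl }
  haveI : Group.IsSolvable (Multiplicative (ZMod k)) := Group.isSolvable_of_comm mul_comm
  haveI : Group.IsSolvable (Multiplicative (ZMod 2)) := Group.isSolvable_of_comm mul_comm
  refine Group.isSolvable_of_ker_le_range r' s' ?_
  rintro (i | i) hx
  · exact ⟨Multiplicative.ofAdd i, rfl⟩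
  · have h : (Multiplicative.ofAdd (1 : ZMod 2)) = 1 := hx
    exact absurd h (by decide)

theorem solvable_of_equiv {G H : Type*} [Group G] [Group H] (e : G ≃* H)
    (h : Group.IsSolvable H) : Group.IsSolvable G :=
  Group.isSolvable_of_isSolvable_injective (f := e.toMonoidHom) e.injective

theorem three_pow_odd (k : ℕ) : 3 ^ (2 * k + 1) % 5 = 2 ∨ 3 ^ (2 * k + 1) % 5 = 3 := by
  induction k with
  | zero => simp
  | succ k ih =>
    rw [show 2 * (k + 1) + 1 = (2 * k + 1) + 2 by ring, pow_add]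
    omega

theorem list_of_minimalSimple (p n : ℕ) [hp : Fact p.Prime] [CharP F p]
    (hn : Nat.card F = p ^ n) (h4 : 4 ≤ Nat.card F)
    (hM : Cfsg.IsMinimalSimple (Matrix.ProjectiveSpecialLinearGroup (Fin 2) F)) :
    (∃ r : ℕ, r.Prime ∧ Nat.card F = 2 ^ r) ∨ (∃ r : ℕ, r.Prime ∧ r ≠ 2 ∧ Nat.card F = 3 ^ r) ∨
    ((Nat.card F).Prime ∧ 5 < Nat.card F ∧ (Nat.card F % 5 = 2 ∨ Nat.card F % 5 = 3)) ∨
    Nat.card F = 5 := by
  have hp2 := hp.out.two_le
  have sub : ∀ j, 0 < j → j ∣ n → 4 ≤ p ^ j → j = n := by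
    intro j hj hjn hj4
    by_contra hne
    have hK : Nat.card (GaloisField p j) = p ^ j := GaloisField.card p j (by omega)
    obtain ⟨m, rfl⟩ := hjn
    obtain ⟨f⟩ := DicksonSubfieldEmbed.exists_ringHom (F := F) (K := GaloisField p j) (m := m)
      (by rw [hK, ← pow_mul, hn])
    obtain ⟨ψ, hψ⟩ := DicksonSubfieldEmbed.exists_psl_embedding f
    have hm : 2 ≤ m := by
      rcases m with _ | _ | m
      · simp at hn; omega
      · simp at hne
      · omega
    refine no_embedding hM (card_psl_lt ?_) (not_solvable _ (hK ▸ hj4)) ψ hψ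
    rw [hK, hn, pow_mul]
    calc 2 * p ^ j ≤ p ^ j * p ^ j := Nat.mul_le_mul_right _ (by omega)
      _ = (p ^ j) ^ 2 := (sq _).symm
      _ ≤ (p ^ j) ^ m := Nat.pow_le_pow_right (by omega) hm
  have a5 : p ≠ 2 → p ≠ 5 → 5 < Nat.card F → 5 ∣ Nat.card F - 1 ∨ 5 ∣ Nat.card F + 1 → False := by
    intro h2 h5 hlt hd
    have h2' : (2 : F) ≠ 0 := by
      rcases DicksonExistence.char_cases (F := F) p with ⟨e, -⟩ | ⟨-, e⟩
      · exact absurd e h2
      · exact e
    obtain ⟨φ, hφ⟩ := hd.elim (fun h => DicksonExistence.exists_golden p (Or.inl rfl) h)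
      (fun h => DicksonExistence.exists_golden p (Or.inr rfl) h)
    obtain ⟨ψ, hψ⟩ := DicksonExceptional.exists_A5 h2' hφ
    have hc : Nat.card (alternatingGroup (Fin 5)) = 60 := by
      rw [nat_card_alternatingGroup, Nat.card_fin]; rfl
    refine no_embedding hM ?_ ?_ ψ hψ
    · have h1 := PSLCard.card_PSL2_mul (F := F)
      have g2 : Nat.gcd 2 (Nat.card F - 1) ≤ 2 := Nat.le_of_dvd two_pos (Nat.gcd_dvd_left _ _)
      have s1 : 35 ≤ Nat.card F ^ 2 - 1 := by
        have := Nat.pow_le_pow_left (show 6 ≤ Nat.card F by omega) 2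
        omega
      have s2 := Nat.mul_le_mul (show 6 ≤ Nat.card F by omega) s1
      rw [hc]
      nlinarith
    · intro h
      exact absurd (IsSimpleGroup.comm_iff_isSolvable.mpr h
        ⟨Equiv.swap 0 1 * Equiv.swap 1 2, Equiv.Perm.mem_alternatingGroup.mpr (by decide)⟩ ⟨Equiv.swap 0 1 * Equiv.swap 2 3, Equiv.Perm.mem_alternatingGroup.mpr (by decide)⟩)
        (by decide)
  have hn0 : 0 < n := by
    rcases n with _ | n
    · simp at hn; omega
    · omega
  by_cases e2 : p = 2
  · subst e2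
    refine Or.inl ⟨n, ?_, hn⟩
    have h2n : 2 ≤ n := by
      rcases n with _ | _ | n
      · omega
      · simp at hn; omega
      · omega
    refine Nat.prime_def_lt.mpr ⟨h2n, fun j hjn hj => ?_⟩
    by_contra h1
    have hj0 : 0 < j := Nat.pos_of_dvd_of_pos hj hn0
    have := sub j hj0 hj (le_trans (le_of_eq (by norm_num : 4 = 2 ^ 2)) (Nat.pow_le_pow_right (by omega) (by omega)))
    omega
  by_cases e3 : p = 3
  · subst e3
    have h2n : 2 ≤ n := by
      rcases n with _ | _ | n
      · omega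
      · simp at hn; omega
      · omega
    refine Or.inr (Or.inl ⟨n, Nat.prime_def_lt.mpr ⟨h2n, fun j hjn hj => ?_⟩, ?_, hn⟩)
    · by_contra h1
      have hj0 : 0 < j := Nat.pos_of_dvd_of_pos hj hn0
      have h9 : (3 : ℕ) ^ 2 ≤ 3 ^ j := Nat.pow_le_pow_right (by omega) (by omega)
      have := sub j hj0 hj (by omega)
      omega
    · rintro rfl
      exact a5 (by omega) (by omega) (by omega) (Or.inr ⟨2, by omega⟩)
  have h5 : 5 ≤ p := by
    by_contra h
    interval_cases p <;> first | omega | exact absurd hp.out (by decide)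
  have h1 : n = 1 := (sub 1 one_pos (one_dvd n) (by simp; omega)).symm
  subst h1
  rw [pow_one] at hn
  by_cases e5 : p = 5
  · exact Or.inr (Or.inr (Or.inr (e5 ▸ hn)))
  refine Or.inr (Or.inr (Or.inl ⟨hn ▸ hp.out, by omega, ?_⟩))
  by_contra h
  have h0 : p % 5 ≠ 0 := fun h0 => e5 ((Nat.prime_dvd_prime_iff_eq (by decide) hp.out).mp
    (Nat.dvd_of_mod_eq_zero h0)).symm
  refine a5 e2 e5 (by omega) ?_
  omega

theorem subgroup_solvable (p n : ℕ) [hp : Fact p.Prime] [CharP F p]
    (hn : Nat.card F = p ^ n) (h4 : 4 ≤ Nat.card F)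
    (hsub : ∀ a, a ∣ n → 3 ≤ p ^ a → a = n ∨ p ^ a = 3)
    (h5 : ¬ (5 ∣ Nat.card F - 1) ∧ ¬ (5 ∣ Nat.card F + 1) ∨ p = 2 ∨ p = 5)
    (H : Subgroup (Matrix.ProjectiveSpecialLinearGroup (Fin 2) F)) (hH : H ≠ ⊤) :
    Group.IsSolvable H := by
  rcases DicksonPSL.dickson_psl_strong p H with ⟨hc, -, -⟩ | ⟨-, a, ha⟩ |
      ⟨k, -, -, -, ⟨e⟩⟩ | ⟨-, ⟨e⟩⟩ | ⟨-, ⟨e⟩⟩ | ⟨hco, ⟨e⟩⟩ | ⟨R, h3, -, he⟩
  · exact Group.isSolvable_of_comm fun x y => IsCyclic.isMulCommutative.is_comm.comm x y
  · haveI := solvable_borel (F := F)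
    haveI : Group.IsSolvable (DicksonPSL.borelPSL F) :=
      Group.isSolvable_of_surjective ((DicksonPSL.proj (F := F)).subgroupMap_surjective _)
    haveI : Group.IsSolvable (H.map (MulAut.conj a).toMonoidHom) :=
      Group.isSolvable_of_isSolvable_injective (f := Subgroup.inclusion ha) (Subgroup.inclusion_injective ha)
    exact solvable_of_equiv (H.equivMapOfInjective (MulAut.conj a).toMonoidHom (MulAut.conj a).injective) inferInstance
  · exact solvable_of_equiv e (solvable_dihedral k)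
  · exact solvable_of_equiv e (CharInduced.solvable_of_card_two_primes 2 3 2 1 Nat.prime_two
      Nat.prime_three (by rw [nat_card_alternatingGroup, Nat.card_fin]; rfl))
  · exact solvable_of_equiv e (CharInduced.solvable_of_card_two_primes 2 3 3 1 Nat.prime_two
      Nat.prime_three (by rw [Nat.card_perm, Nat.card_fin]; rfl))
  · exfalso
    have hcard : Nat.card H = 60 := by
      rw [Nat.card_congr e.toEquiv, nat_card_alternatingGroup, Nat.card_fin]; rfl
    have hp5 : p ≠ 2 ∧ p ≠ 5 := by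
      rcases hco with h | h
      · rw [hcard] at h
        exact ⟨fun e => h (e ▸ by norm_num), fun e => h (e ▸ by norm_num)⟩
      · omega
    rcases h5 with ⟨hm, hpl⟩ | h | h
    rotate_left
    · exact hp5.1 h
    · exact hp5.2 h
    obtain ⟨g, hg⟩ := exists_prime_orderOf_dvd_card' (hp := ⟨by norm_num⟩) 5
      (show 5 ∣ Nat.card H by rw [hcard]; norm_num)
    have hc : Nat.card (Subgroup.zpowers (g : Matrix.ProjectiveSpecialLinearGroup (Fin 2) F)) = 5 := by
      rw [Nat.card_zpowers, Subgroup.orderOf_coe, hg]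
    have := DicksonPSL.card_cyclic_dvd p
      (Subgroup.zpowers (g : Matrix.ProjectiveSpecialLinearGroup (Fin 2) F))
      (by rw [hc]; exact fun h => hp5.2 ((Nat.prime_dvd_prime_iff_eq hp.out (by decide)).mp h))
    rw [hc] at this
    have hd : Nat.gcd 2 (Nat.card F - 1) ∣ Nat.card F - 1 := Nat.gcd_dvd_right _ _
    have hd' : Nat.gcd 2 (Nat.card F - 1) ∣ Nat.card F + 1 := by
      have := Nat.gcd_dvd_left 2 (Nat.card F - 1)
      rw [show Nat.card F + 1 = (Nat.card F - 1) + 2 by omega]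
      exact dvd_add hd this
    rcases this with h | h
    · exact hpl (h.trans (Nat.div_dvd_of_dvd hd'))
    · exact hm (h.trans (Nat.div_dvd_of_dvd hd))
  · obtain ⟨a, ha0, haR⟩ := DicksonRational.prime_dvd_card_subfield p R
    obtain ⟨_, m, -, -, hm⟩ := DicksonPSL.exists_galoisField_equiv p R
    have han : a ∣ n := by
      refine ⟨m, Nat.pow_right_injective hp.out.two_le ?_⟩
      show p ^ n = p ^ (a * m)
      rw [pow_mul, ← haR, hm, hn]
    rcases hsub a han (haR ▸ h3) with h | h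
    · exfalso
      subst h
      obtain ⟨f⟩ := DicksonSubfieldEmbed.exists_ringHom (F := R) (K := F) (m := 1) (by rw [pow_one, hn, haR])
      obtain ⟨ψ, hψ⟩ := DicksonSubfieldEmbed.exists_psl_embedding f
      apply hH
      apply Subgroup.eq_top_of_card_eq
      refine le_antisymm (Subgroup.card_le_card_group H) ?_
      refine le_trans (Nat.card_le_card_of_injective ψ hψ) ?_
      rcases he with ⟨⟨e⟩⟩ | ⟨-, ⟨e⟩⟩
      · rw [Nat.card_congr e.toEquiv]
        exact Nat.card_le_card_of_injective _ ProjectiveSpecialLinearGroup.toPGL_injective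
      · rw [Nat.card_congr e.toEquiv]
    · rw [← haR] at h
      rcases he with ⟨⟨e⟩⟩ | ⟨-, ⟨e⟩⟩
      · exact solvable_of_equiv e (CharInduced.solvable_of_card_two_primes 2 3 3 1 Nat.prime_two
          Nat.prime_three (by rw [PSLCard.card_PGL2, h]; norm_num))
      · refine solvable_of_equiv e (CharInduced.solvable_of_card_two_primes 2 3 2 1 Nat.prime_two
          Nat.prime_three ?_)
        have := PSLCard.card_PSL2_mul (F := R)
        rw [h] at this
        norm_num at this ⊢
        omega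
/-- PSL_2(q) is minimal simple iff q is 2^r (r prime), 3^r (r an odd prime), a prime greater than 5 congruent to 2 or 3 mod 5, or 5. -/
theorem result {F : Type*} [Field F] [Fintype F] {q : ℕ} (hF : Fintype.card F = q) : Cfsg.IsMinimalSimple (Matrix.ProjectiveSpecialLinearGroup (Fin 2) F) ↔ ((∃ r : ℕ, r.Prime ∧ q = 2 ^ r) ∨ (∃ r : ℕ, r.Prime ∧ r ≠ 2 ∧ q = 3 ^ r) ∨ (q.Prime ∧ 5 < q ∧ (q % 5 = 2 ∨ q % 5 = 3)) ∨ q = 5) := by
  obtain ⟨p, hpF⟩ := CharP.exists F
  haveI : Fact p.Prime := ⟨CharP.char_is_prime F p⟩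
  have hq : Nat.card F = q := by rw [Nat.card_eq_fintype_card, hF]
  obtain ⟨n, -, hn'⟩ := FiniteField.card F p
  obtain ⟨n, hn0⟩ := n
  have hn : Nat.card F = p ^ n := by rw [Nat.card_eq_fintype_card, hn']; rfl
  rw [← hq]
  constructor
  · intro hM
    have h4 : 4 ≤ Nat.card F := by
      by_contra h
      have h1 := PSLCard.one_lt_card F
      have hc := PSLCard.card_PSL2_mul (F := F)
      haveI := hM.1
      apply hM.2.1
      refine ⟨⟨IsSimpleGroup.comm_iff_isSolvable.mpr ?_⟩⟩
      have hF' : Nat.card F = 2 ∨ Nat.card F = 3 := by omega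
      rcases hF' with h2 | h2 <;> rw [h2] at hc <;> norm_num at hc
      · exact CharInduced.solvable_of_card_two_primes 2 3 1 1 Nat.prime_two Nat.prime_three
          (by rw [Nat.card_eq_fintype_card] at *; omega)
      · exact CharInduced.solvable_of_card_two_primes 2 3 2 1 Nat.prime_two Nat.prime_three
          (by rw [Nat.card_eq_fintype_card] at *; omega)
    exact list_of_minimalSimple p n hn h4 hM
  · intro hL
    have key : ∀ r s : ℕ, r.Prime → Nat.card F = r ^ s → p = r ∧ n = s := by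
      intro r s hr hs
      have hp : p.Prime := Fact.out
      have : p = r := by
        have h1 : p ∣ r ^ s := hs ▸ hn ▸ dvd_pow_self p (by omega)
        exact (Nat.prime_dvd_prime_iff_eq hp hr).mp (hp.dvd_of_dvd_pow h1)
      subst this
      exact ⟨rfl, Nat.pow_right_injective hp.two_le (hn.symm.trans hs)⟩
    have facts : 4 ≤ Nat.card F ∧ (∀ a, a ∣ n → 3 ≤ p ^ a → a = n ∨ p ^ a = 3) ∧
        (¬ (5 ∣ Nat.card F - 1) ∧ ¬ (5 ∣ Nat.card F + 1) ∨ p = 2 ∨ p = 5) := by
      rcases hL with ⟨r, hr, e⟩ | ⟨r, hr, hr2, e⟩ | ⟨hP, h5, hm⟩ | e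
      · obtain ⟨rfl, rfl⟩ := key 2 r Nat.prime_two e
        refine ⟨?_, fun a ha h3 => ?_, Or.inr (Or.inl rfl)⟩
        · rw [e]; exact le_trans (le_of_eq (by norm_num : 4 = 2 ^ 2)) (Nat.pow_le_pow_right (by omega) hr.two_le)
        · rcases (Nat.dvd_prime hr).mp ha with rfl | rfl
          · norm_num at h3
          · exact Or.inl rfl
      · obtain ⟨rfl, rfl⟩ := key 3 r Nat.prime_three e
        obtain ⟨k, hk⟩ := hr.odd_of_ne_two hr2
        have := three_pow_odd k
        rw [← hk, ← e] at this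
        refine ⟨?_, fun a ha h3 => ?_, Or.inl ⟨by omega, by omega⟩⟩
        · have := Nat.pow_le_pow_right (show 0 < 3 by omega) hr.two_le
          rw [e]; omega
        · rcases (Nat.dvd_prime hr).mp ha with rfl | rfl
          · exact Or.inr rfl
          · exact Or.inl rfl
      · obtain ⟨-, rfl⟩ := key _ 1 hP (pow_one _).symm
        exact ⟨by omega, fun a ha _ => Or.inl (Nat.dvd_one.mp ha), Or.inl ⟨by omega, by omega⟩⟩
      · obtain ⟨rfl, rfl⟩ := key 5 1 (by decide) (by simpa using e)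
        exact ⟨by omega, fun a ha _ => Or.inl (Nat.dvd_one.mp ha), Or.inr (Or.inr rfl)⟩
    refine ⟨DicksonMaximal.simple p facts.1, fun h => ?_, fun H hH =>
      subgroup_solvable p n hn facts.1 facts.2.1 facts.2.2 H hH⟩
    exact PSLSimple.not_isMulCommutative_PSL_fin (F := F) le_rfl (fun _ => facts.1)
      fun a b => h.is_comm.comm a b

end Cfsg.Agent.S0810
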