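import Cfsg.Statements.S0811
import Mathlib
import Cfsg.Agent.Lib.DicksonDihedralMax

set_option autoImplicit false
open Cfsg

namespace Cfsg.Agent.S0811

/-- For q ∉ {2, 7, 9}, PSL_2(q) has a maximal subgroup isomorphic to the dihedral group of order 2(q + 1)/d, d = gcd(2, q − 1). -/
theorem result {F : Type*} [Field F] [Fintype F] {q : ℕ} (hF : Fintype.card F = q) (hq : q ∉ ({2, 7, 9} : Finset ℕ)) : ∃ H : Subgroup (Matrix.ProjectiveSpecialLinearGroup (Fin 2) F), IsCoatom H ∧ Nonempty (H ≃* DihedralGroup ((q + 1) / Nat.gcd 2 (q - 1))) := by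
  simp only [Finset.mem_insert, Finset.mem_singleton, not_or] at hq
  have hn : Nat.card F = q := Nat.card_eq_fintype_card.trans hF
  obtain ⟨p, hp⟩ := CharP.exists F
  have : Fact p.Prime := ⟨CharP.char_is_prime F p⟩
  have h1 := PSLCard.one_lt_card F
  have h6 := DicksonDihedralMax.card_ne_six (F := F)
  subst hn
  by_cases h3 : Nat.card F = 3
  · obtain ⟨g, h, hg, hgh, hh, hnot⟩ := DicksonTorus.exists_torus p (F := F)
      (N := Nat.card F + 1) (Or.inr rfl) (by omega)
    have hk : (Nat.card F + 1) / DicksonPSL.dd F = 2 := by rw [DicksonPSL.dd, h3]; rfl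
    rw [hk] at hg
    obtain ⟨D, -, -, hcard, hiso⟩ := DicksonTorus.exists_dihedral_sub hg two_pos hgh hh hnot
    have hG : Nat.card (Matrix.ProjectiveSpecialLinearGroup (Fin 2) F) = 12 := by
      rw [PSLCard.card_PSL2, h3]; rfl
    refine ⟨D, ⟨fun e => ?_, fun H hlt => ?_⟩, ?_⟩
    · rw [e, Subgroup.card_top, hG] at hcard; omega
    · have hd1 := Subgroup.card_dvd_of_le hlt.le
      have hd2 := Subgroup.card_subgroup_dvd_card H
      rw [hG] at hd2; rw [hcard] at hd1
      have hne : Nat.card H ≠ 4 := fun e =>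
        hlt.ne (Subgroup.eq_of_le_of_card_ge hlt.le (by rw [e, hcard]))
      have h12 := Nat.le_of_dvd (by norm_num) hd2
      refine Subgroup.eq_top_of_card_eq H (hG.symm ▸ ?_)
      interval_cases Nat.card H <;> omega
    · obtain ⟨e⟩ := hiso
      have : ∀ n, n = 2 → Nonempty (D ≃* DihedralGroup n) := by rintro _ rfl; exact ⟨e⟩
      exact this _ hk
  exact DicksonDihedralMax.exists_coatom p hq.1 (N := Nat.card F + 1)
    (Or.inl ⟨rfl, hq.2.1, hq.2.2⟩) (by
      rcases DicksonDihedralMax.arith_facts (F := F) with ⟨⟨j, hj⟩, -, e1, e2⟩ | ⟨⟨j, hj⟩, -, e1, e2⟩ <;>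
        omega)

end Cfsg.Agent.S0811
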