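import Cfsg.Statements.S0812
import Mathlib
import Cfsg.Agent.Lib.DicksonDihedralMax

set_option autoImplicit false
open Cfsg

namespace Cfsg.Agent.S0812

/-- For q ∉ {2, 3, 5, 7, 9, 11}, PSL_2(q) has a maximal subgroup isomorphic to the dihedral group of order 2(q − 1)/d, d = gcd(2, q − 1). -/
theorem result {F : Type*} [Field F] [Fintype F] {q : ℕ} (hF : Fintype.card F = q) (hq : q ∉ ({2, 3, 5, 7, 9, 11} : Finset ℕ)) : ∃ H : Subgroup (Matrix.ProjectiveSpecialLinearGroup (Fin 2) F), IsCoatom H ∧ Nonempty (H ≃* DihedralGroup ((q - 1) / Nat.gcd 2 (q - 1))) := by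
  simp only [Finset.mem_insert, Finset.mem_singleton, not_or] at hq
  have hn : Nat.card F = q := Nat.card_eq_fintype_card.trans hF
  obtain ⟨p, hp⟩ := CharP.exists F
  have : Fact p.Prime := ⟨CharP.char_is_prime F p⟩
  have h1 := PSLCard.one_lt_card F
  have h6 := DicksonDihedralMax.card_ne_six (F := F)
  subst hn
  exact DicksonDihedralMax.exists_coatom p hq.1 (N := Nat.card F - 1)
    (Or.inr ⟨rfl, by rw [Finset.mem_insert, Finset.mem_insert, Finset.mem_singleton]; omega⟩) (by
      rcases DicksonDihedralMax.arith_facts (F := F) with ⟨⟨j, hj⟩, -, e1, e2⟩ | ⟨⟨j, hj⟩, -, e1, e2⟩ <;>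
        omega)

end Cfsg.Agent.S0812
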