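import Cfsg.Statements.S0819
import Mathlib

set_option autoImplicit false
open Cfsg

namespace Cfsg.Agent.S0819

/-- addition in a model of GF(4) -/
def madd (x y : Bool × Bool) : Bool × Bool := (xor x.1 y.1, xor x.2 y.2)

/-- multiplication in a model of GF(4) -/
def mmul (x y : Bool × Bool) : Bool × Bool :=
  (xor (x.1 && y.1) (x.2 && y.2), xor (xor (x.1 && y.2) (x.2 && y.1)) (x.2 && y.2))

/-- coefficients of powers modulo `X³ + pX² + qX + 1` -/
def coef (p q : Bool × Bool) : ℕ → (Bool × Bool) × (Bool × Bool) × (Bool × Bool)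
  | 0 => ((false, false), (false, false), (true, false))
  | k + 1 => (madd (mmul p (coef p q k).1) (coef p q k).2.1,
      madd (mmul q (coef p q k).1) (coef p q k).2.2, (coef p q k).1)

theorem exists_n : ∀ p q, ∃ n, 0 < n ∧ n ≤ 7 ∧
    ((coef p q n).1 = (false, false) ∧ (coef p q n).2.1 = (false, false)) := by
  have h : ∀ p q, ∃ n : Fin 8, 0 < n.1 ∧
      ((coef p q n.1).1 = (false, false) ∧ (coef p q n.1).2.1 = (false, false)) := by decide
  intro p q
  obtain ⟨n, h0, hn⟩ := h p q
  exact ⟨n, h0, by omega, hn⟩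

variable {F : Type*} [Field F]

/-- the map from the model -/
def phi (w : F) (x : Bool × Bool) : F :=
  (if x.1 then 1 else 0) + (if x.2 then w else 0)

theorem phi_add (w : F) (h2 : (2 : F) = 0) (x y : Bool × Bool) :
    phi w (madd x y) = phi w x + phi w y := by
  rcases x with ⟨a, b⟩; rcases y with ⟨c, d⟩
  cases a <;> cases b <;> cases c <;> cases d <;> simp [phi, madd] <;> grind

theorem phi_mul (w : F) (h2 : (2 : F) = 0) (hw : w ^ 2 = w + 1) (x y : Bool × Bool) :
    phi w (mmul x y) = phi w x * phi w y := by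
  rcases x with ⟨a, b⟩; rcases y with ⟨c, d⟩
  cases a <;> cases b <;> cases c <;> cases d <;> simp [phi, mmul] <;> grind

theorem phi_injective (w : F) (hw0 : w ≠ 0) (hw1 : w ≠ 1) (h2 : (2 : F) = 0) :
    Function.Injective (phi w) := by
  have h3 : (1 : F) + w ≠ 0 := fun h => hw1 (by linear_combination h - h2)
  intro x y
  rcases x with ⟨a, b⟩; rcases y with ⟨c, d⟩
  cases a <;> cases b <;> cases c <;> cases d <;> simp [phi, hw0, hw0.symm, hw1, hw1.symm, h3, h3.symm]


/-- No element of PSL_3(4) has order 15. -/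
theorem result {F : Type*} [Field F] [Fintype F] (hF : Fintype.card F = 4) (g : Matrix.ProjectiveSpecialLinearGroup (Fin 3) F) : orderOf g ≠ 15 := by
  classical
  intro hg
  have h4 : ∀ r : F, r ^ 4 = r := fun r => by rw [← hF]; exact FiniteField.pow_card r
  have htwo : (2 : F) = 0 := by
    have h : ((4 : ℕ) : F) = 0 := by rw [← hF]; exact Nat.cast_card_eq_zero F
    have : (2 : F) * 2 = 0 := by rw [← h]; norm_num
    exact mul_self_eq_zero.1 this
  obtain ⟨w, hw0, hw1⟩ : ∃ w : F, w ≠ 0 ∧ w ≠ 1 := by
    have : (({0, 1} : Finset F)ᶜ).Nonempty := by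
      rw [← Finset.card_pos, Finset.card_compl, hF]
      have := Finset.card_le_two (a := (0 : F)) (b := 1)
      omega
    obtain ⟨w, hw⟩ := this
    simp only [Finset.mem_compl, Finset.mem_insert, Finset.mem_singleton, not_or] at hw
    exact ⟨w, hw⟩
  have hw : w ^ 2 = w + 1 := by
    have h : w * (w - 1) * (w ^ 2 + w + 1) = 0 := by linear_combination h4 w
    rcases mul_eq_zero.1 h with h | h
    · rcases mul_eq_zero.1 h with h | h
      · exact absurd h hw0
      · exact absurd (sub_eq_zero.1 h) hw1
    · linear_combination h - (w + 1) * htwo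
  have φadd := phi_add w htwo
  have φmul := phi_mul w htwo hw
  have hsurj : ∀ x : F, ∃ p, phi w p = x := by
    have hinj : Function.Injective (phi w) := phi_injective w hw0 hw1 htwo
    exact ((Fintype.bijective_iff_injective_and_card _).2 ⟨hinj, by rw [hF]; rfl⟩).2
  induction g using QuotientGroup.induction_on with | H A =>
  set M : Matrix (Fin 3) (Fin 3) F := (A : Matrix (Fin 3) (Fin 3) F)
  have hneg : ∀ x : F, -x = x := fun x => by linear_combination (-x) * htwo
  obtain ⟨a, b, hab⟩ : ∃ a b : F, M * (M * M) = a • (M * M) + b • M + (1 : F) • 1 := by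
    have h := Matrix.aeval_self_charpoly M
    rw [Matrix.charpoly, ← Matrix.charpoly] at h
    have hdeg : M.charpoly.natDegree = 3 := by rw [Matrix.charpoly_natDegree_eq_dim, Fintype.card_fin]
    rw [Polynomial.aeval_eq_sum_range' (n := 4) (by rw [hdeg]; norm_num)] at h
    simp only [Finset.sum_range_succ, Finset.sum_range_zero, zero_add, pow_zero, pow_one] at h
    have h3 : M.charpoly.coeff 3 = 1 := by
      have := (Matrix.charpoly_monic M).coeff_natDegree
      rwa [hdeg] at this
    have h0 : M.charpoly.coeff 0 = 1 := by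
      have hd := Matrix.det_eq_sign_charpoly_coeff M
      rw [show M.det = 1 from A.2, Fintype.card_fin] at hd
      linear_combination hd - htwo
    rw [h3, h0, one_smul, one_smul] at h
    refine ⟨M.charpoly.coeff 2, M.charpoly.coeff 1, ?_⟩
    have e : ∀ X : Matrix (Fin 3) (Fin 3) F, -X = X := fun X => by ext i j; exact hneg _
    rw [eq_neg_of_add_eq_zero_left (a := M * (M * M))
      (b := M.charpoly.coeff 2 • (M * M) + M.charpoly.coeff 1 • M + (1 : F) • 1)]
    · exact e _
    · rw [one_smul, ← h, pow_succ' M 2, pow_two]; abel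
  obtain ⟨p, rfl⟩ := hsurj a
  obtain ⟨q, rfl⟩ := hsurj b
  obtain ⟨n, hn0, hn7, hn⟩ := exists_n p q
  have hpow : ∀ k, M ^ k = phi w (coef p q k).1 • (M * M) + phi w (coef p q k).2.1 • M +
      phi w (coef p q k).2.2 • 1 := by
    intro k
    induction k with
    | zero => simp [coef, phi]
    | succ k ih =>
      rw [pow_succ', ih]
      simp only [coef, φadd, φmul, mul_add, Matrix.mul_smul, mul_one, hab]
      simp only [smul_add, smul_smul, add_smul]
      simp only [mul_comm (phi w (coef p q k).1), one_mul]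
      abel
  have hscal : A ^ n ∈ Subgroup.center (Matrix.SpecialLinearGroup (Fin 3) F) := by
    have hval : ((A ^ n : Matrix.SpecialLinearGroup (Fin 3) F) : Matrix (Fin 3) (Fin 3) F) =
        Matrix.scalar (Fin 3) (phi w (coef p q n).2.2) := by
      rw [Matrix.SpecialLinearGroup.coe_pow]
      change M ^ n = _
      rw [hpow n, hn.1, hn.2]
      simp [phi, Matrix.smul_one_eq_diagonal]
    refine Matrix.SpecialLinearGroup.mem_center_iff.2 ⟨phi w (coef p q n).2.2, ?_, hval.symm⟩
    have hd : ((A ^ n : Matrix.SpecialLinearGroup (Fin 3) F) : Matrix (Fin 3) (Fin 3) F).det = 1 :=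
      (A ^ n).2
    rw [hval] at hd
    simpa using hd
  have h1 : (QuotientGroup.mk A : Matrix.ProjectiveSpecialLinearGroup (Fin 3) F) ^ n = 1 := by
    rw [← QuotientGroup.mk_pow, QuotientGroup.eq_one_iff]; exact hscal
  have := Nat.le_of_dvd hn0 (hg ▸ orderOf_dvd_of_pow_eq_one h1)
  omega

end Cfsg.Agent.S0819
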