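import Cfsg.Statements.S0820
import Mathlib
import Cfsg.Agent.Lib.TransvectionConj

set_option autoImplicit false
open Cfsg

namespace Cfsg.Agent.S0820

/-- Any two elements of order 2 of PSL_3(4) are conjugate. -/
theorem result {F : Type*} [Field F] [Fintype F] (hF : Fintype.card F = 4) (x y : Matrix.ProjectiveSpecialLinearGroup (Fin 3) F) (hx : orderOf x = 2) (hy : orderOf y = 2) : IsConj x y := by
  classical
  have h4 : ∀ r : F, r ^ 4 = r := fun r => by rw [← hF]; exact FiniteField.pow_card r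
  have htwo : (2 : F) = 0 := by
    have h : ((4 : ℕ) : F) = 0 := by rw [← hF]; exact Nat.cast_card_eq_zero F
    have : (2 : F) * 2 = 0 := by rw [← h]; norm_num
    exact mul_self_eq_zero.1 this
  suffices hlift : ∀ x : Matrix.ProjectiveSpecialLinearGroup (Fin 3) F, orderOf x = 2 →
      ∃ A : Matrix.SpecialLinearGroup (Fin 3) F,
        Cfsg.IsTransvection (A : Matrix (Fin 3) (Fin 3) F) ∧ QuotientGroup.mk A = x by
    obtain ⟨A, hA, rfl⟩ := hlift x hx
    obtain ⟨B, hB, rfl⟩ := hlift y hy
    exact (QuotientGroup.mk' _).map_isConj (TransvectionConj.isConj_three A B hA hB)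
  intro x hx
  induction x using QuotientGroup.induction_on with | H A =>
  have hsq : A * A ∈ Subgroup.center (Matrix.SpecialLinearGroup (Fin 3) F) := by
    have h := pow_orderOf_eq_one (QuotientGroup.mk A : Matrix.ProjectiveSpecialLinearGroup (Fin 3) F)
    rwa [hx, pow_two, ← QuotientGroup.mk_mul, QuotientGroup.eq_one_iff] at h
  obtain ⟨r, hr3, hr⟩ := Matrix.SpecialLinearGroup.mem_center_iff.1 hsq
  rw [Fintype.card_fin] at hr3
  let S : Matrix.SpecialLinearGroup (Fin 3) F := ⟨Matrix.scalar (Fin 3) r, by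
    simp [Matrix.scalar_apply, Matrix.det_diagonal, hr3]⟩
  have hS : S ∈ Subgroup.center (Matrix.SpecialLinearGroup (Fin 3) F) :=
    Matrix.SpecialLinearGroup.mem_center_iff.2 ⟨r, by simpa using hr3, rfl⟩
  refine ⟨A * S, ?_, ?_⟩
  swap
  · rw [QuotientGroup.mk_mul, (QuotientGroup.eq_one_iff S).2 hS, mul_one]
  set N := ((A * S : Matrix.SpecialLinearGroup (Fin 3) F) : Matrix (Fin 3) (Fin 3) F) - 1 with hNdef
  have h2 : (2 : Matrix (Fin 3) (Fin 3) F) = 0 := by
    have := congrArg (Matrix.scalar (Fin 3)) htwo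
    rw [map_ofNat, map_zero] at this
    exact this
  have hsq1 : ((A * S : Matrix.SpecialLinearGroup (Fin 3) F) : Matrix (Fin 3) (Fin 3) F) *
      ((A * S : Matrix.SpecialLinearGroup (Fin 3) F) : Matrix (Fin 3) (Fin 3) F) = 1 := by
    rw [← Matrix.SpecialLinearGroup.coe_mul, mul_assoc, ← mul_assoc S,
      ← Subgroup.mem_center_iff.1 hS A, mul_assoc, ← mul_assoc A A,
      Matrix.SpecialLinearGroup.coe_mul (A * A), ← hr, Matrix.SpecialLinearGroup.coe_mul S S]
    change Matrix.scalar (Fin 3) r * (Matrix.scalar (Fin 3) r * Matrix.scalar (Fin 3) r) = 1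
    rw [← map_mul, ← map_mul, show r * (r * r) = 1 by rw [← hr3]; ring, map_one]
  have hN2 : N * N = 0 := by
    rw [hNdef, sub_mul, mul_sub, one_mul, mul_one, hsq1]
    set X := ((A * S : Matrix.SpecialLinearGroup (Fin 3) F) : Matrix (Fin 3) (Fin 3) F)
    calc 1 - X - (X - 1) = (2 : Matrix (Fin 3) (Fin 3) F) * (1 - X) := by
          rw [two_mul]; abel
      _ = 0 := by rw [h2, zero_mul]
  refine ⟨?_, hN2⟩
  have hN0 : N ≠ 0 := by
    intro h
    have hAS : A * S = 1 := Subtype.ext (sub_eq_zero.1 h)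
    have : (QuotientGroup.mk A : Matrix.ProjectiveSpecialLinearGroup (Fin 3) F) = 1 := by
      rw [QuotientGroup.eq_one_iff, eq_inv_of_mul_eq_one_left hAS]
      exact inv_mem hS
    rw [this, orderOf_one] at hx
    exact absurd hx (by norm_num)
  have hle : LinearMap.range N.mulVecLin ≤ LinearMap.ker N.mulVecLin := by
    rintro _ ⟨z, rfl⟩
    simp [Matrix.mulVec_mulVec, hN2]
  have h1 := Submodule.finrank_mono hle
  have h3 := LinearMap.finrank_range_add_finrank_ker N.mulVecLin
  rw [Module.finrank_fin_fun] at h3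
  have h0 : Module.finrank F (LinearMap.range N.mulVecLin) ≠ 0 := by
    rw [Ne, Submodule.finrank_eq_zero, LinearMap.range_eq_bot]
    intro h
    exact hN0 (Matrix.toLin'.injective (by rw [map_zero, Matrix.toLin'_apply']; exact h))
  rw [← hNdef, Matrix.rank]
  omega

end Cfsg.Agent.S0820
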