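import Cfsg.Statements.S0821
import Cfsg.Agent.Lib.SymplecticInvol
import Cfsg.Agent.Lib.SymplecticNotOrth

set_option autoImplicit false
open Cfsg

namespace Cfsg.Agent.S0821

/-- PSp_2m(q) ≇ PΩ_(2m+1)(q) for q odd and m ≥ 3 (they have the same order). -/
theorem result {F : Type*} [Field F] [Fintype F] (hodd : Odd (Fintype.card F)) (m : ℕ) (hm : 3 ≤ m) : IsEmpty (Cfsg.PSp m F ≃* Cfsg.POmega F (Cfsg.quadFormOdd m F)) := by
  have h2 : (2 : F) ≠ 0 := by
    refine Ring.two_ne_zero fun h => ?_
    have := FiniteField.even_card_iff_char_two.mp h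
    rw [← Nat.even_iff] at this
    exact (Nat.not_even_iff_odd.mpr hodd) this
  refine ⟨fun φ => ?_⟩
  obtain ⟨R, hR⟩ := Cfsg.Agent.SymplecticInvol.involution_reps (F := F) (m := m) h2 (by omega)
  obtain ⟨x, hx, hconj⟩ := Cfsg.Agent.SymplecticNotOrth.pOmega_involutions (F := F) (m := m) h2 hm
  have hex : ∀ i, ∃ r, IsConj (R r) (φ.symm (x i)) := fun i => hR _
    (by rw [← map_mul, (hx i).1, map_one])
    (fun h => (hx i).2 (φ.symm.injective (h.trans (map_one _).symm)))
  choose f hf using hex
  have hinj : Function.Injective f := by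
    intro i j h
    refine hconj i j ?_
    have h1 : IsConj (φ.symm (x i)) (φ.symm (x j)) := (hf i).symm.trans (h ▸ hf j)
    simpa using MonoidHom.map_isConj φ.toMonoidHom h1
  have := Fintype.card_le_of_injective f hinj
  simp only [Fintype.card_fin] at this
  omega

end Cfsg.Agent.S0821
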