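import Cfsg.Statements.S0823
import Cfsg.Agent.Lib.OrthUnitaryLowDim
import Cfsg.Agent.Lib.OrthUnitarySmallIso
import Cfsg.Agent.Lib.PSL2Small
-- import your own Cfsg.Agent.* helpers here

set_option autoImplicit false
open Cfsg

namespace Cfsg.Agent.S0823

open QuadraticMap
open Cfsg.Agent.OrthUnitaryLowDim Cfsg.Agent.OrthUnitarySmallIso Cfsg.Agent.OrthUnitaryQuad Cfsg.Agent.OrthUnitaryForms
open Cfsg.Agent.OrthUnitaryStd Cfsg.Agent.OrthUnitaryCentre Cfsg.Agent.OrthUnitaryOmega Cfsg.Agent.OrthUnitaryPrelude

/-- SO_3(3) ≅ S_4: the determinant-one isometries of the form x_0² + x_1y_1 over the field with 3 elements form a group isomorphic to the symmetric group on 4 letters. -/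
theorem result {F : Type*} [Field F] [Fintype F] (hF : Fintype.card F = 3) : Nonempty (↥(Cfsg.specialIsometryGroup F (Cfsg.quadFormOdd 1 F)) ≃* Equiv.Perm (Fin 4)) := by
  classical
  have h2 : (2 : F) ≠ 0 := two_ne_zero_of_odd hF (by decide)
  set W0 := withBase 1 (qfSq F)
  set Q := W0.comp (eqOdd (F := F) 1).symm.toLinearMap with hQdef
  have hf := comp_symm_apply W0 (quadFormOdd 1 F) (eqOdd 1) (eqOdd_isometry 1)
  have hfun : quadFormOdd 1 F = ⇑Q := funext hf
  have hQ : (polarBilin Q).Nondegenerate :=
    nondegenerate_congr (eqOdd 1) (fun x => by simp [hQdef, W0])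
      (nondegenerate_withBase (nondegenerate_qfSq h2) 1)
  have hW : (polarBilin W0).Nondegenerate := nondegenerate_withBase (nondegenerate_qfSq h2) 1
  obtain ⟨v0, hv0, hv00⟩ := exists_singular_withBase 1 le_rfl (qfSq F)
  have := finite_orth W0
  have hcW : Subgroup.center (commutator (orth W0)) = ⊥ := by
    rw [← Subgroup.card_le_one_iff_eq_bot,
      card_center_commutator hW hv0 hv00 (by simp [finrank_withBase_space]),
      if_neg fun h => not_negOne_mem_odd h2 1 h.2]
  have eW := omegaEquiv W0 (quadFormOdd 1 F) (eqOdd 1) (eqOdd_isometry 1)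
  have hcΩ : Subgroup.center (Omega F (quadFormOdd 1 F)) = ⊥ := by
    rw [Subgroup.eq_bot_iff_forall]
    intro x hx
    have : eW x ∈ Subgroup.center (commutator (orth W0)) := by
      rw [Subgroup.mem_center_iff]
      intro k
      obtain ⟨y, rfl⟩ := eW.surjective k
      rw [← map_mul, ← map_mul, Subgroup.mem_center_iff.1 hx y]
    rw [hcW, Subgroup.mem_bot] at this
    exact eW.injective (this.trans (map_one eW).symm)
  obtain ⟨eP⟩ := nonempty_odd_three (F := F) h2
  obtain ⟨eA⟩ := PSL2Small.psl2_three F (by rw [Nat.card_eq_fintype_card, hF])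
  have eΩ : Omega F (quadFormOdd 1 F) ≃* alternatingGroup (Fin 4) :=
    (QuotientGroup.quotientBot.symm.trans (QuotientGroup.quotientMulEquivOfEq hcΩ.symm)).trans
      (eP.trans eA)
  have hcard := card_isometryGroup_odd (F := F) hF (by decide) 1
  rw [show 2 * 3 ^ 1 ^ 2 * ∏ i ∈ Finset.range 1, (3 ^ (2 * (i + 1)) - 1) = 48 by simp] at hcard
  revert eΩ hcard
  rw [hfun]
  intro eΩ hcard
  set S := specialIsometryGroup F (⇑Q)
  have hS : S = ((detHom Q).comp (iso Q).toMonoidHom).ker := by
    ext g
    rw [MonoidHom.mem_ker]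
    exact mem_specialIsometryGroup g
  have hle : Omega F (⇑Q) ≤ S := by
    rw [hS]
    exact Abelianization.commutator_subset_ker _
  have hd : (v : Unit ⊕ (Fin 1 ⊕ Fin 1) → F) → (hv : Q v ≠ 0) →
      detHom Q (refl Q v hv) = -1 := fun v hv => detHom_refl v hv
  have hSc : Nat.card S * 2 = Nat.card (isometryGroup F ⇑Q) := by
    rw [← Subgroup.card_mul_index S, hS, Subgroup.index_ker]
    congr 1
    have hrange : (((detHom Q).comp (iso Q).toMonoidHom).range : Set Fˣ) = {1, -1} := by
      apply Set.Subset.antisymm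
      · rintro _ ⟨g, rfl⟩
        have h := DFunLike.congr_fun (hom_ext (reflGroup_top_of_two_ne_zero h2
          (isReg_of_nondegenerate hQ)) (detHom Q * detHom Q) 1 (fun v hv => by
            show detHom Q (refl Q v hv) * detHom Q (refl Q v hv) = 1
            rw [hd]; simp)) (iso Q g)
        have h' : (detHom Q (iso Q g) : F) * detHom Q (iso Q g) = 1 := congrArg Units.val h
        rcases mul_self_eq_one_iff.1 h' with h1 | h1
        · exact Or.inl (Units.ext h1)
        · exact Or.inr (Units.ext h1)
      · rintro x (rfl | rfl)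
        · exact Subgroup.one_mem _
        · obtain ⟨v, hv⟩ := OrthUnitaryRefl.exists_map_ne_zero (isReg_of_nondegenerate hQ)
            (by simp [Module.finrank_fintype_fun_eq_card])
          exact ⟨(iso Q).symm (refl Q v hv), by
            show detHom Q (iso Q ((iso Q).symm _)) = _
            rw [MulEquiv.apply_symm_apply, hd]⟩
    show 2 = ((((detHom Q).comp (iso Q).toMonoidHom).range : Set Fˣ)).ncard
    rw [hrange, Set.ncard_pair fun h => h2 (by
      have := congrArg Units.val h
      simp only [Units.val_one, Units.val_neg] at this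
      linear_combination this)]
  refine nonempty_equiv_perm (G := S) ((Omega F ⇑Q).subgroupOf S) (le_refl 4) (by norm_num)
    ((Subgroup.subgroupOfEquivOfLe hle).trans eΩ) ?_ ?_
  · intro g hg
    have h1 : detHom Q (iso Q g.1) = 1 := (mem_specialIsometryGroup g.1).1 g.2
    have hcom : ∀ k ∈ commutator (orth Q), iso Q g.1 * k = k * iso Q g.1 := by
      intro k hk
      obtain ⟨x, rfl⟩ := (iso Q).surjective k
      rw [← map_mul, ← map_mul]
      have hx : x ∈ Omega F ⇑Q := (mem_Omega_iff x).2 hk
      exact congrArg (fun y : S => iso Q y.1) (hg ⟨x, hle hx⟩ hx)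
    have hv : Q (eqOdd 1 v0) = 0 := by simp [hQdef, W0, hv0]
    rcases eq_one_or_negOne_of_lines (isReg_of_nondegenerate hQ) hv
      (fun h => hv00 ((eqOdd 1).injective (h.trans (map_zero _).symm)))
      (by simp [Module.finrank_fintype_fun_eq_card])
      (fun u hu => exists_smul_of_commute hQ (by simp [Module.finrank_fintype_fun_eq_card]) hcom hu)
      with h | h
    · exact Subtype.ext ((iso Q).injective (h.trans (map_one _).symm))
    · exfalso
      rw [h] at h1
      have h3 : ((detHom Q (negOne Q) : Fˣ) : F) = 1 := by rw [h1]; rfl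
      rw [show ((detHom Q (negOne Q) : Fˣ) : F)
        = LinearMap.det ((negOne Q).1 : (Unit ⊕ (Fin 1 ⊕ Fin 1) → F) →ₗ[F] _) from
          LinearEquiv.coe_det _,
        show ((negOne Q).1 : (Unit ⊕ (Fin 1 ⊕ Fin 1) → F) →ₗ[F] _) = (-1 : F) • LinearMap.id by
          ext; simp [negOne_apply],
        LinearMap.det_smul, LinearMap.det_id, Module.finrank_fintype_fun_eq_card] at h3
      exact h2 (by simp at h3; linear_combination -h3)
  · rw [hcard] at hSc
    rw [Nat.card_perm, Nat.card_eq_fintype_card (α := Fin 4), Fintype.card_fin]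
    simp [Nat.factorial] at hSc ⊢
    omega

end Cfsg.Agent.S0823
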