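import Cfsg.Statements.S0825
import Cfsg.Agent.S0256
import Cfsg.Agent.Lib.OrthUnitaryKlein
import Cfsg.Agent.Lib.OrthUnitarySmallIso
-- import your own Cfsg.Agent.* helpers here

set_option autoImplicit false
open Cfsg

namespace Cfsg.Agent.S0825

open Cfsg.Agent.OrthUnitaryKlein Cfsg.Agent.OrthUnitarySmallIso Cfsg.Agent.OrthUnitaryQuad
open Cfsg.Agent.OrthUnitaryIsoCore Cfsg.Agent.OrthUnitaryPrelude Cfsg.Agent.OrthUnitaryForms

/-- O⁺_6(2) ≅ S_8: the isometry group of the hyperbolic form x_1y_1 + x_2y_2 + x_3y_3 over the field with 2 elements is isomorphic to the symmetric group on 8 letters. -/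
theorem result {F : Type*} [Field F] [Fintype F] (hF : Fintype.card F = 2) : Nonempty (↥(Cfsg.isometryGroup F (Cfsg.quadFormPlus 3 F)) ≃* Equiv.Perm (Fin 8)) := by
  classical
  obtain ⟨⟨e1⟩, ⟨e2⟩⟩ := klein (F := F)
  obtain ⟨e3⟩ := Cfsg.Agent.S0256.result (F := F) hF
  have h2 : (2 : F) = 0 := by
    have := FiniteField.cast_card_eq_zero F
    rw [hF] at this
    exact_mod_cast this
  have hk : (kleinHom (F := F)).ker = ⊥ := by
    rw [← Subgroup.card_le_one_iff_eq_bot]
    exact (card_ker_kleinHom (F := F)).1.trans (by rw [if_pos h2])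
  have hc : Subgroup.center (Matrix.SpecialLinearGroup (Fin 4) F) = ⊥ := by
    rw [← Subgroup.card_le_one_iff_eq_bot, PSLCard.card_center_SL, Nat.card_eq_fintype_card, hF]
    simp
  refine nonempty_isometryGroup_equiv_perm (qfPlus F 3) _ (fun v => (qfPlus_apply F 3 v).symm) h2
    (nondegenerate_qfPlus 3) (by simp) (e := Pi.single (Sum.inl 0) 1) ?_ ?_ (by norm_num) (by norm_num)
    ⟨e2.symm.trans ((QuotientGroup.quotientMulEquivOfEq (hk.trans hc.symm)).trans e3)⟩ ?_
  · simp [qfPlus_apply, quadFormPlus]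
  · simp
  · rw [card_isometryGroup_plus hF 2]
    simp [Finset.prod_range_succ, Nat.factorial]

end Cfsg.Agent.S0825
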