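import Cfsg.Statements.S0828
import Cfsg.Agent.Lib.SymplecticIsotropic
open Cfsg.Agent.SymplecticBasic Cfsg.Agent.SymplecticIsotropic

set_option autoImplicit false
open Cfsg

namespace Cfsg.Agent.S0828

/-- The symplectic generalised quadrangle over a field with q elements: the number of 2-dimensional subspaces of F^4 on which the symplectic form vanishes is (q + 1)(q² + 1), and every non-zero vector lies in exactly q + 1 of them. -/
theorem result {F : Type*} [Field F] [Fintype F] {q : ℕ} (hF : Fintype.card F = q) : Nat.card {W : Submodule F (Fin 2 ⊕ Fin 2 → F) // Module.finrank F W = 2 ∧ ∀ u ∈ W, ∀ v ∈ W, Cfsg.sympForm 2 F u v = 0} = (q + 1) * (q ^ 2 + 1) ∧ ∀ v : Fin 2 ⊕ Fin 2 → F, v ≠ 0 → Nat.card {W : Submodule F (Fin 2 ⊕ Fin 2 → F) // Module.finrank F W = 2 ∧ v ∈ W ∧ ∀ u ∈ W, ∀ w ∈ W, Cfsg.sympForm 2 F u w = 0} = q + 1 := by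
  classical
  have hq : 1 < q := hF ▸ Fintype.one_lt_card
  obtain ⟨r, rfl⟩ : ∃ r, q = r + 2 := ⟨q - 2, by omega⟩
  constructor
  · have h := card_subspaces_mul (F := F) 2 2
    rw [card_frames, Fin.prod_univ_two, Finset.prod_range_succ, Finset.prod_range_one,
      Nat.card_eq_fintype_card (α := F), hF] at h
    refine Nat.eq_of_mul_eq_mul_right ?_ (h.trans ?_)
    · simp only [Fin.val_zero, Fin.val_one]
      exact Nat.mul_pos (Nat.sub_pos_of_lt (Nat.pow_lt_pow_right hq two_pos))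
        (Nat.sub_pos_of_lt (Nat.pow_lt_pow_right hq one_lt_two))
    · simp only [Fin.val_zero, Fin.val_one, pow_zero, pow_one, show 2 * 2 - 0 = 4 from rfl,
        show 2 * 2 - 1 = 3 from rfl]
      have e2 : (r + 2) ^ 2 - 1 = r * r + 4 * r + 3 := by
        rw [show (r + 2) ^ 2 = (r * r + 4 * r + 3) + 1 by ring, Nat.add_sub_cancel]
      have e4 : (r + 2) ^ 4 - 1 = ((r + 2) ^ 2 + 1) * (r * r + 4 * r + 3) := by
        rw [show (r + 2) ^ 4 = ((r + 2) ^ 2 + 1) * (r * r + 4 * r + 3) + 1 by ring, Nat.add_sub_cancel]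
      have e1 : (r + 2) ^ 2 - (r + 2) = (r + 2) * (r + 1) := by
        rw [show (r + 2) ^ 2 = (r + 2) * (r + 1) + (r + 2) by ring, Nat.add_sub_cancel]
      have e3 : (r + 2) ^ 3 - (r + 2) = (r + 2 + 1) * ((r + 2) * (r + 1)) := by
        rw [show (r + 2) ^ 3 = (r + 2 + 1) * ((r + 2) * (r + 1)) + (r + 2) by ring, Nat.add_sub_cancel]
      rw [e1, e2, e3, e4]
      ring
  · intro v hv
    let T := {W : Submodule F (Fin 2 ⊕ Fin 2 → F) //
      Module.finrank F W = 2 ∧ v ∈ W ∧ ∀ u ∈ W, ∀ w ∈ W, Cfsg.sympForm 2 F u w = 0}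
    let φ : Fin 1 → (Fin 2 ⊕ Fin 2 → F) := fun _ => v
    have hrange : Set.range φ = {v} := Set.range_const
    have hφ : φ ∈ frames F 2 1 := ⟨LinearIndependent.of_subsingleton 0 hv, fun _ _ => form_self v⟩
    let X := {x : Fin 2 ⊕ Fin 2 → F //
      (∀ i, Cfsg.sympForm 2 F (φ i) x = 0) ∧ x ∉ Submodule.span F (Set.range φ)}
    have hψ : ∀ x : X, (Fin.cons x.1 φ : Fin 2 → _) ∈ frames F 2 2 := fun x => by
      refine ⟨linearIndependent_finCons.2 ⟨hφ.1, x.2.2⟩, fun i j => ?_⟩
      refine Fin.cases ?_ (fun a => ?_) i <;> refine Fin.cases ?_ (fun b => ?_) j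
      · exact form_self _
      · rw [form_eq_zero_comm]; simpa using x.2.1 b
      · simpa using x.2.1 a
      · simpa using hφ.2 a b
    let sp : X → T := fun x => ⟨Submodule.span F (Set.range (Fin.cons x.1 φ : Fin 2 → _)),
      by rw [finrank_span_eq_card (hψ x).1, Fintype.card_fin],
      Submodule.subset_span ⟨1, rfl⟩, span_isotropic (hψ x)⟩
    have hfib : ∀ W : T, Nat.card {x // sp x = W} = (r + 2) ^ 2 - (r + 2) := by
      intro W
      have hsub : ((Submodule.span F {v} : Submodule F (Fin 2 ⊕ Fin 2 → F)) : Set (Fin 2 ⊕ Fin 2 → F)) ⊆ W.1 :=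
        fun y hy => (Submodule.span_singleton_le_iff_mem v W.1).2 W.2.2.1 hy
      have c1 : ((Submodule.span F {v} : Submodule F (Fin 2 ⊕ Fin 2 → F)) : Set (Fin 2 ⊕ Fin 2 → F)).ncard
          = r + 2 := by
        rw [← Nat.card_coe_set_eq]
        show Nat.card ↥(Submodule.span F {v}) = _
        rw [Module.natCard_eq_pow_finrank (K := F), finrank_span_singleton hv, pow_one,
          Nat.card_eq_fintype_card, hF]
      have c2 : (W.1 : Set (Fin 2 ⊕ Fin 2 → F)).ncard = (r + 2) ^ 2 := by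
        rw [← Nat.card_coe_set_eq]
        show Nat.card W.1 = _
        rw [Module.natCard_eq_pow_finrank (K := F), W.2.1, Nat.card_eq_fintype_card, hF]
      rw [← c2, ← c1, ← Set.ncard_sdiff hsub, ← Nat.card_coe_set_eq]
      have hmem : ∀ x : {x // sp x = W}, x.1.1 ∈ W.1 := fun x => by
        rw [← congrArg Subtype.val x.2]; exact Submodule.subset_span ⟨0, rfl⟩
      refine Nat.card_congr
        { toFun := fun x => ⟨x.1.1, hmem x, hrange ▸ x.1.2.2⟩
          invFun := fun y => ⟨⟨y.1, fun i => W.2.2.2 v W.2.2.1 y.1 y.2.1, hrange.symm ▸ y.2.2⟩,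
            Subtype.ext (Submodule.eq_of_le_of_finrank_eq (Submodule.span_le.2 ?_) ?_)⟩
          left_inv := fun x => rfl
          right_inv := fun y => rfl }
      · rintro _ ⟨i, rfl⟩
        refine Fin.cases ?_ (fun a => ?_) i
        · exact y.2.1
        · exact W.2.2.1
      · exact (sp ⟨y.1, fun i => W.2.2.2 v W.2.2.1 y.1 y.2.1, hrange.symm ▸ y.2.2⟩).2.1.trans W.2.1.symm
    have hX : Nat.card X = (r + 2) ^ 3 - (r + 2) := by
      have := card_extensions hφ
      rw [Nat.card_eq_fintype_card (α := F), hF, pow_one] at this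
      exact this
    haveI : Fintype T := Fintype.ofFinite _
    have hsum : Nat.card X = Nat.card T * ((r + 2) ^ 2 - (r + 2)) := by
      rw [← Nat.card_congr (Equiv.sigmaFiberEquiv sp), Nat.card_sigma,
        Finset.sum_congr rfl fun W _ => hfib W, Finset.sum_const, smul_eq_mul, Finset.card_univ]
      exact congrArg (· * _) Nat.card_eq_fintype_card.symm
    rw [hX] at hsum
    refine Nat.eq_of_mul_eq_mul_right (Nat.sub_pos_of_lt (lt_self_pow₀ hq one_lt_two)) ?_
    rw [← hsum]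
    have e1 : (r + 2) ^ 2 - (r + 2) = (r + 2) * (r + 1) := by
      rw [show (r + 2) ^ 2 = (r + 2) * (r + 1) + (r + 2) by ring, Nat.add_sub_cancel]
    rw [e1, show (r + 2) ^ 3 = (r + 2 + 1) * ((r + 2) * (r + 1)) + (r + 2) by ring, Nat.add_sub_cancel]

end Cfsg.Agent.S0828
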