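import Cfsg.Statements.S0830
import Cfsg.Agent.Lib.OrthUnitaryHerm
import Cfsg.Agent.Lib.OrthUnitaryIsotropic
-- import your own Cfsg.Agent.* helpers here

set_option autoImplicit false
open Cfsg

namespace Cfsg.Agent.S0830

open Cfsg.Agent.OrthUnitaryHerm
open Cfsg.Agent.OrthUnitaryIsotropic

/-- The unitary quadrangle of PSU_5(q): with |F| = q², the number of 2-dimensional subspaces of F^5 on which the Hermitian form vanishes is (q³ + 1)(q⁵ + 1). -/
theorem result {F : Type*} [Field F] [Fintype F] {q : ℕ} (hF : Fintype.card F = q ^ 2) : Nat.card {W : Submodule F (Fin 5 → F) // Module.finrank F W = 2 ∧ ∀ u ∈ W, ∀ v ∈ W, Cfsg.hermForm 5 F q u v = 0} = (q ^ 3 + 1) * (q ^ 5 + 1) := by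
  have h := card_GU_eq_mul_stab (F := F) (n := 5) (k := 2) (m := 1) hF rfl
  rw [card_GU hF, card_GU hF, Fin.prod_univ_two] at h
  simp [Finset.prod_range_succ, Nat.even_iff] at h
  have hq := two_le_q hF
  have h3 : (q ^ 2) ^ 2 - q ^ 2 = q ^ 2 * (q ^ 2 - 1) := by rw [Nat.mul_sub, mul_one, sq (q ^ 2)]
  rw [h3] at h
  have h4 : 0 < q ^ 8 * (((q ^ 2) ^ 2 - 1) * (q ^ 2 * (q ^ 2 - 1))) * (q + 1) := by
    have : 1 < q ^ 2 := Nat.one_lt_pow (by norm_num) (by omega)
    have h5 : 1 < (q ^ 2) ^ 2 := Nat.one_lt_pow (by norm_num) this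
    exact Nat.mul_pos (Nat.mul_pos (by positivity) (Nat.mul_pos (by omega) (Nat.mul_pos (by omega) (by omega)))) (by omega)
  apply Nat.eq_of_mul_eq_mul_right h4
  rw [← h, show (q ^ 2) ^ 2 = q ^ 4 by ring]
  ring

end Cfsg.Agent.S0830
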