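import Cfsg.Statements.S0831
import Mathlib
import Cfsg.Agent.Lib.MaximalSingular

set_option autoImplicit false
open Cfsg

namespace Cfsg.Agent.S0831

/-- The two families of maximal totally singular subspaces of the hyperbolic quadric: for the form Σ x_i y_i on F^(2m), m ≥ 1, and m-dimensional subspaces U, W, X on which it vanishes, the parities of m − dim(U ∩ W), m − dim(W ∩ X) and m − dim(U ∩ X) sum to an even number (so 'even codimension of the intersection' is an equivalence relation), and there exist two such subspaces meeting in codimension 1 (so there are exactly two classes). -/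
theorem result {F : Type*} [Field F] (m : ℕ) (hm : 1 ≤ m) : (∀ U W X : Submodule F (Fin m ⊕ Fin m → F), (Module.finrank F U = m ∧ ∀ w ∈ U, Cfsg.quadFormPlus m F w = 0) → (Module.finrank F W = m ∧ ∀ w ∈ W, Cfsg.quadFormPlus m F w = 0) → (Module.finrank F X = m ∧ ∀ w ∈ X, Cfsg.quadFormPlus m F w = 0) → Even ((m - Module.finrank F ↥(U ⊓ W)) + (m - Module.finrank F ↥(W ⊓ X)) + (m - Module.finrank F ↥(U ⊓ X)))) ∧ ∃ U W : Submodule F (Fin m ⊕ Fin m → F), (Module.finrank F U = m ∧ ∀ w ∈ U, Cfsg.quadFormPlus m F w = 0) ∧ (Module.finrank F W = m ∧ ∀ w ∈ W, Cfsg.quadFormPlus m F w = 0) ∧ Module.finrank F ↥(U ⊓ W) + 1 = m := by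
  refine ⟨fun U W X hU hW hX => MaximalSingular.even_codim U W X hU hW hX, ?_⟩
  obtain ⟨H, hH, hHm⟩ : ∃ H : Submodule F (Fin m ⊕ Fin m → F),
      MaximalSingular.TS H ∧ Module.finrank F H + 1 = m := by
    obtain ⟨k, rfl⟩ : ∃ k, m = k + 1 := ⟨m - 1, by omega⟩
    refine ⟨MaximalSingular.stdTS (k + 1) F ⊓ LinearMap.ker (LinearMap.proj (Sum.inl (0 : Fin (k + 1))) :
      (Fin (k + 1) ⊕ Fin (k + 1) → F) →ₗ[F] F), fun w hw => MaximalSingular.stdTS_TS w hw.1, ?_⟩
    set p := (LinearMap.proj (Sum.inl (0 : Fin (k + 1))) : (Fin (k + 1) ⊕ Fin (k + 1) → F) →ₗ[F] F)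
    have hlt : MaximalSingular.stdTS (k + 1) F ⊓ LinearMap.ker p < MaximalSingular.stdTS (k + 1) F := by
      refine lt_of_le_of_ne inf_le_left fun h => ?_
      have h1 : (Pi.single (Sum.inl 0) 1 : Fin (k + 1) ⊕ Fin (k + 1) → F) ∈ MaximalSingular.stdTS (k + 1) F :=
        MaximalSingular.mem_stdTS.2 (fun i => by simp)
      have h2 := LinearMap.mem_ker.1 (inf_eq_left.1 h h1)
      simp [p] at h2
    have h1 := Submodule.finrank_lt_finrank_of_lt hlt
    have h2 := Submodule.finrank_sup_add_finrank_inf_eq (MaximalSingular.stdTS (k + 1) F) (LinearMap.ker p)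
    have h3 := Submodule.finrank_le (MaximalSingular.stdTS (k + 1) F ⊔ LinearMap.ker p)
    have h4 := LinearMap.finrank_range_add_finrank_ker p
    have h5 : Module.finrank F (LinearMap.range p) ≤ 1 :=
      (Submodule.finrank_le _).trans (Module.finrank_self F).le
    rw [MaximalSingular.finrank_space] at h3 h4
    rw [MaximalSingular.finrank_stdTS] at h1 h2
    omega
  obtain ⟨W₁, W₂, -, h1, h2, hi, -⟩ := MaximalSingular.exists_two hH hHm
  exact ⟨W₁, W₂, ⟨h1.1, h1.2.1⟩, ⟨h2.1, h2.2.1⟩, by rw [hi]; exact hHm⟩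

end Cfsg.Agent.S0831
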