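import Cfsg.Statements.S0832
import Mathlib
import Cfsg.Agent.Lib.MaximalSingular

set_option autoImplicit false
open Cfsg

namespace Cfsg.Agent.S0832

/-- For the form Σ x_i y_i on F^(2m) over a finite field, m ≥ 1: an (m−1)-dimensional subspace on which the form vanishes is contained in exactly two m-dimensional subspaces on which it vanishes. -/
theorem result {F : Type*} [Field F] [Finite F] (m : ℕ) (hm : 1 ≤ m) (U : Submodule F (Fin m ⊕ Fin m → F)) (hU : Module.finrank F U + 1 = m ∧ ∀ u ∈ U, Cfsg.quadFormPlus m F u = 0) : Nat.card {W : Submodule F (Fin m ⊕ Fin m → F) // Module.finrank F W = m ∧ (∀ w ∈ W, Cfsg.quadFormPlus m F w = 0) ∧ U ≤ W} = 2 := by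
  classical
  obtain ⟨W₁, W₂, hne, h1, h2, -, honly, -⟩ := MaximalSingular.exists_two hU.2 hU.1
  have e : {W : Submodule F (Fin m ⊕ Fin m → F) // Module.finrank F W = m ∧
      (∀ w ∈ W, Cfsg.quadFormPlus m F w = 0) ∧ U ≤ W} ≃
      ↥({W₁, W₂} : Finset (Submodule F (Fin m ⊕ Fin m → F))) :=
    Equiv.subtypeEquivRight fun W => by
      simp only [Finset.mem_insert, Finset.mem_singleton]
      constructor
      · rintro ⟨a, b, c⟩; exact honly W a b c
      · rintro (rfl | rfl)
        · exact ⟨h1.1, h1.2.1, h1.2.2⟩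
        · exact ⟨h2.1, h2.2.1, h2.2.2⟩
  rw [Nat.card_congr e, Nat.card_eq_fintype_card, Fintype.card_coe, Finset.card_pair hne]

end Cfsg.Agent.S0832
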