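import Cfsg.Statements.S0833
import Mathlib

set_option autoImplicit false
open Cfsg

namespace Cfsg.Agent.S0833

variable {F U W : Type*} [Field F] [AddCommGroup U] [Module F U] [FiniteDimensional F U]
  [AddCommGroup W] [Module F W] [FiniteDimensional F W]

theorem tmul_nondeg (B₁ : LinearMap.BilinForm F U) (B₂ : LinearMap.BilinForm F W)
    (h₁ : B₁.Nondegenerate) (h₂ : B₂.Nondegenerate) : (B₁.tmul B₂).Nondegenerate := by
  classical
  let b := Module.finBasis F U
  let c := Module.finBasis F W
  refine (LinearMap.BilinForm.nondegenerate_iff_det_ne_zero (B := B₁.tmul B₂) (b.tensorProduct c)).2 ?_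
  have h : LinearMap.BilinForm.toMatrix (b.tensorProduct c) (B₁.tmul B₂) =
      Matrix.kronecker (LinearMap.BilinForm.toMatrix b B₁) (LinearMap.BilinForm.toMatrix c B₂) := by
    ext ⟨i, j⟩ ⟨i', j'⟩
    simp [LinearMap.BilinForm.toMatrix_apply, LinearMap.BilinForm.tmul, mul_comm]
  rw [h]
  unfold Matrix.kronecker
  rw [Matrix.det_kronecker]
  exact mul_ne_zero (pow_ne_zero _ ((LinearMap.BilinForm.nondegenerate_iff_det_ne_zero b).1 h₁))
    (pow_ne_zero _ ((LinearMap.BilinForm.nondegenerate_iff_det_ne_zero c).1 h₂))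

theorem exists_lagrangian (B : LinearMap.BilinForm F U) (h : B.Nondegenerate) (hA : B.IsAlt)
    (k : ℕ) (hU : Module.finrank F U = 2 * k) :
    ∃ L : Submodule F U, Module.finrank F L = k ∧ ∀ x ∈ L, ∀ y ∈ L, B x y = 0 := by
  suffices ∀ i ≤ k, ∃ L : Submodule F U, Module.finrank F L = i ∧ ∀ x ∈ L, ∀ y ∈ L, B x y = 0 from
    this k le_rfl
  intro i
  induction i with
  | zero =>
    exact fun _ => ⟨⊥, finrank_bot F U, fun x hx y _ => by simp [(Submodule.mem_bot F).1 hx]⟩
  | succ i ih =>
    intro hi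
    obtain ⟨L, hL, hiso⟩ := ih (by omega)
    obtain ⟨x, hx, hxL⟩ : ∃ x ∈ B.orthogonal L, x ∉ L := by
      by_contra hc
      simp only [not_exists, not_and, not_not] at hc
      have := Submodule.finrank_mono (fun z hz => hc z hz : B.orthogonal L ≤ L)
      rw [LinearMap.BilinForm.finrank_orthogonal h, hU, hL] at this
      omega
    refine ⟨L ⊔ Submodule.span F {x}, by rw [Submodule.finrank_sup_span_singleton hxL, hL], ?_⟩
    have hLx : ∀ z ∈ L, B z x = 0 := fun z hz => hx z hz
    have hxL' : ∀ z ∈ L, B x z = 0 := fun z hz => by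
      rw [← LinearMap.IsAlt.neg hA z x, hLx z hz, neg_zero]
    intro u hu v hv
    simp only [Submodule.mem_sup, Submodule.mem_span_singleton] at hu hv
    obtain ⟨l, hl, _, ⟨a, rfl⟩, rfl⟩ := hu
    obtain ⟨l', hl', _, ⟨a', rfl⟩, rfl⟩ := hv
    simp [hiso l hl l' hl', hLx l hl, hxL' l' hl', hA x]

theorem exists_iso (B₁ : LinearMap.BilinForm F U) (B₂ : LinearMap.BilinForm F W)
    (L : Submodule F U) {k m : ℕ} (hL : Module.finrank F L = k)
    (hiso : ∀ x ∈ L, ∀ y ∈ L, B₁ x y = 0) (hm : k * Module.finrank F W = m) :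
    ∃ X : Submodule F (TensorProduct F U W), Module.finrank F X = m ∧
      ∀ x ∈ X, ∀ y ∈ X, (B₁.tmul B₂) x y = 0 := by
  refine ⟨LinearMap.range (TensorProduct.map L.subtype (LinearMap.id : W →ₗ[F] W)), ?_, ?_⟩
  · have hinj : Function.Injective (TensorProduct.map L.subtype (LinearMap.id : W →ₗ[F] W)) := by
      obtain ⟨r, hr⟩ := L.subtype.exists_leftInverse_of_injective (Submodule.ker_subtype L)
      intro a b hab
      have := congrArg (TensorProduct.map r (LinearMap.id : W →ₗ[F] W)) hab
      rw [← LinearMap.comp_apply, ← LinearMap.comp_apply, ← TensorProduct.map_comp, hr,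
        LinearMap.id_comp, TensorProduct.map_id] at this
      exact this
    rw [LinearMap.finrank_range_of_inj hinj, Module.finrank_tensorProduct, hL, hm]
  · rintro _ ⟨x, rfl⟩ _ ⟨y, rfl⟩
    induction x using TensorProduct.induction_on with
    | zero => simp
    | tmul u w =>
      induction y using TensorProduct.induction_on with
      | zero => simp
      | tmul u' w' => simp [LinearMap.BilinForm.tmul, hiso u u.2 u' u'.2]
      | add a b ha hb => rw [map_add, map_add, ha, hb, add_zero]
    | add a b ha hb => rw [map_add, map_add, LinearMap.add_apply, ha, hb, add_zero]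


/-- If B₁, B₂ are non-degenerate alternating forms on U (dim 2k) and W (dim 2l), then B₁ ⊗ B₂ on U ⊗ W is symmetric, non-degenerate, and vanishes identically on some subspace of dimension 2kl (half of dim U ⊗ W). -/
theorem result {F U W : Type*} [Field F] [Fintype F] [AddCommGroup U] [Module F U] [FiniteDimensional F U] [AddCommGroup W] [Module F W] [FiniteDimensional F W] (B₁ : LinearMap.BilinForm F U) (B₂ : LinearMap.BilinForm F W) (h₁ : B₁.Nondegenerate) (h₂ : B₂.Nondegenerate) (hA₁ : B₁.IsAlt) (hA₂ : B₂.IsAlt) (k l : ℕ) (hU : Module.finrank F U = 2 * k) (hW : Module.finrank F W = 2 * l) : (B₁.tmul B₂).IsSymm ∧ (B₁.tmul B₂).Nondegenerate ∧ (∃ X : Submodule F (TensorProduct F U W), Module.finrank F X = 2 * k * l ∧ ∀ x ∈ X, ∀ y ∈ X, (B₁.tmul B₂) x y = 0) := by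
  classical
  have hneg : ∀ x y, B₁ x y = - B₁ y x := fun x y => (LinearMap.IsAlt.neg hA₁ y x).symm
  have hneg2 : ∀ x y, B₂ x y = - B₂ y x := fun x y => (LinearMap.IsAlt.neg hA₂ y x).symm
  refine ⟨⟨fun x y => ?_⟩, ?_, ?_⟩
  · induction x using TensorProduct.induction_on with
    | zero => simp
    | tmul u w =>
      induction y using TensorProduct.induction_on with
      | zero => simp
      | tmul u' w' =>
        simp only [LinearMap.BilinForm.tmul, LinearMap.BilinForm.tensorDistrib_tmul, smul_eq_mul]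
        rw [hneg u u', hneg2 w w', RingHom.id_apply]; ring
      | add a b ha hb =>
        simp only [RingHom.id_apply] at ha hb ⊢
        simp [ha, hb]
    | add a b ha hb =>
      simp only [RingHom.id_apply] at ha hb ⊢
      simp [ha, hb]
  · exact tmul_nondeg B₁ B₂ h₁ h₂
  · obtain ⟨L, hL, hLiso⟩ := exists_lagrangian B₁ h₁ hA₁ k hU
    exact exists_iso B₁ B₂ L hL hLiso (by rw [hW]; ring)

end Cfsg.Agent.S0833
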