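import Cfsg.Statements.S0834
import Mathlib
import Cfsg.Agent.Lib.FiniteFormClass

set_option autoImplicit false
open Cfsg

namespace Cfsg.Agent.S0834

/-- Over a finite field with 2 ≠ 0: if B₁ on U (dim 2k, k ≥ 1) and B₂ on W (dim 2l, l ≥ 1) are non-degenerate symmetric forms admitting no totally isotropic subspaces of dimensions k, resp. l (minus type), then B₁ ⊗ B₂ admits a totally isotropic subspace of dimension 2kl (plus type). -/
theorem result {F U W : Type*} [Field F] [Fintype F] [AddCommGroup U] [Module F U] [FiniteDimensional F U] [AddCommGroup W] [Module F W] [FiniteDimensional F W] (h2 : (2 : F) ≠ 0) (B₁ : LinearMap.BilinForm F U) (B₂ : LinearMap.BilinForm F W) (h₁ : B₁.Nondegenerate) (h₂ : B₂.Nondegenerate) (hS₁ : B₁.IsSymm) (hS₂ : B₂.IsSymm) (k l : ℕ) (hk : 1 ≤ k) (hl : 1 ≤ l) (hU : Module.finrank F U = 2 * k) (hW : Module.finrank F W = 2 * l) (hm₁ : ¬ (∃ X : Submodule F (U), Module.finrank F X = k ∧ ∀ x ∈ X, ∀ y ∈ X, (B₁) x y =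 0)) (hm₂ : ¬ (∃ X : Submodule F (W), Module.finrank F X = l ∧ ∀ x ∈ X, ∀ y ∈ X, (B₂) x y = 0)) : (∃ X : Submodule F (TensorProduct F U W), Module.finrank F X = 2 * k * l ∧ ∀ x ∈ X, ∀ y ∈ X, (B₁.tmul B₂) x y = 0) := by
  classical
  let b := (Module.finBasis F U).reindex (finCongr hU)
  let c := (Module.finBasis F W).reindex (finCongr hW)
  have hs1 : ∀ x y, B₁ x y = B₁ y x := fun x y => hS₁.eq x y
  have hs2 : ∀ x y, B₂ x y = B₂ y x := fun x y => hS₂.eq x y
  have hdet := FiniteFormClass.det_tmul B₁ B₂ b c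
  rw [Fintype.card_fin, Fintype.card_fin] at hdet
  refine FiniteFormClass.exists_lagrangian_of_isSquare h2 _ (FiniteFormClass.tmul_symm B₁ B₂ hs1 hs2)
    ?_ (k := 2 * k * l) (by rw [Module.finrank_tensorProduct, hU, hW]; ring) (b.tensorProduct c) ?_
  · refine (LinearMap.BilinForm.nondegenerate_iff_det_ne_zero (B := B₁.tmul B₂) (b.tensorProduct c)).2 ?_
    rw [hdet]
    exact mul_ne_zero (pow_ne_zero _ ((LinearMap.BilinForm.nondegenerate_iff_det_ne_zero b).1 h₁))
      (pow_ne_zero _ ((LinearMap.BilinForm.nondegenerate_iff_det_ne_zero c).1 h₂))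
  · rw [hdet, mul_assoc 2 k l, pow_mul (-1 : F) 2, neg_one_sq, one_pow, one_mul]
    exact ⟨(LinearMap.BilinForm.toMatrix b B₁).det ^ l * (LinearMap.BilinForm.toMatrix c B₂).det ^ k, by ring⟩

end Cfsg.Agent.S0834
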