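import Cfsg.Statements.S0835
import Mathlib
import Cfsg.Agent.Lib.FiniteFormClass

set_option autoImplicit false
open Cfsg

namespace Cfsg.Agent.S0835

/-- Over a finite field with 2 ≠ 0: if B₁ on U (dim 2k, k ≥ 1) is non-degenerate symmetric of minus type (no totally isotropic k-subspace) and B₂ on W (dim 2l + 1) is non-degenerate symmetric, then B₁ ⊗ B₂ (dimension 2k(2l+1)) admits no totally isotropic subspace of dimension k(2l+1) (minus type). -/
theorem result {F U W : Type*} [Field F] [Fintype F] [AddCommGroup U] [Module F U] [FiniteDimensional F U] [AddCommGroup W] [Module F W] [FiniteDimensional F W] (h2 : (2 : F) ≠ 0) (B₁ : LinearMap.BilinForm F U) (B₂ : LinearMap.BilinForm F W) (h₁ : B₁.Nondegenerate) (h₂ : B₂.Nondegenerate) (hS₁ : B₁.IsSymm) (hS₂ : B₂.IsSymm) (k l : ℕ) (hk : 1 ≤ k) (hU : Module.finrank F U = 2 * k) (hW : Module.finrank F W = 2 * l + 1) (hm₁ : ¬ (∃ X : Submodule F (U), Module.finrank F X = k ∧ ∀ x ∈ X, ∀ y ∈ X, (B₁) x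 y = 0)) : ¬ (∃ X : Submodule F (TensorProduct F U W), Module.finrank F X = k * (2 * l + 1) ∧ ∀ x ∈ X, ∀ y ∈ X, (B₁.tmul B₂) x y = 0) := by
  classical
  rintro ⟨X, hX, hiso⟩
  let b := (Module.finBasis F U).reindex (finCongr hU)
  let c := (Module.finBasis F W).reindex (finCongr hW)
  have hs1 : ∀ x y, B₁ x y = B₁ y x := fun x y => hS₁.eq x y
  have hs2 : ∀ x y, B₂ x y = B₂ y x := fun x y => hS₂.eq x y
  have hsq := FiniteFormClass.isSquare_of_lagrangian _ (FiniteFormClass.tmul_symm B₁ B₂ hs1 hs2)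
    (k := k * (2 * l + 1)) (by rw [Module.finrank_tensorProduct, hU, hW]; ring) X hX hiso
    (b.tensorProduct c)
  rw [FiniteFormClass.det_tmul B₁ B₂ b c, Fintype.card_fin, Fintype.card_fin] at hsq
  apply hm₁
  refine FiniteFormClass.exists_lagrangian_of_isSquare h2 B₁ hs1 h₁ hU b ?_
  obtain ⟨r, hr⟩ := hsq
  set D := (LinearMap.BilinForm.toMatrix b B₁).det
  set E := (LinearMap.BilinForm.toMatrix c B₂).det
  have hD : D ≠ 0 := (LinearMap.BilinForm.nondegenerate_iff_det_ne_zero b).1 h₁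
  have hE : E ≠ 0 := (LinearMap.BilinForm.nondegenerate_iff_det_ne_zero c).1 h₂
  have h1 : ((-1 : F)) ^ (k * (2 * l + 1)) = (-1) ^ k := by
    rw [mul_comm, pow_mul, Odd.neg_one_pow ⟨l, rfl⟩]
  rw [h1] at hr
  refine ⟨r / (D ^ l * E ^ k), ?_⟩
  field_simp
  linear_combination hr

end Cfsg.Agent.S0835
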