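import Cfsg.Statements.S0836
import Mathlib

set_option autoImplicit false
open Cfsg

namespace Cfsg.Agent.S0836

/-- For i ≠ j and any scalar c, the elementary transvection 1 + c E_ij is a commutator ⁅g, h⁆ of two elements of SL_n(F) provided n ≥ 3, or n = 2 and F contains x ≠ 0 with x² ≠ 1. -/
theorem result {F : Type*} [Field F] (n : ℕ) (hn : 3 ≤ n ∨ (n = 2 ∧ ∃ x : F, x ≠ 0 ∧ x ^ 2 ≠ 1)) (i j : Fin n) (hij : i ≠ j) (c : F) (t : Matrix.SpecialLinearGroup (Fin n) F) (ht : (t : Matrix (Fin n) (Fin n) F) = Matrix.transvection i j c) : t ∈ commutatorSet (Matrix.SpecialLinearGroup (Fin n) F) := by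
  classical
  rcases hn with h3 | ⟨rfl, x, hx0, hx2⟩
  · obtain ⟨k, hki, hkj⟩ : ∃ k : Fin n, k ≠ i ∧ k ≠ j := by
      have : ({i, j} : Finset (Fin n))ᶜ.Nonempty := by
        rw [← Finset.card_pos, Finset.card_compl, Fintype.card_fin]
        have := Finset.card_le_two (a := i) (b := j)
        omega
      obtain ⟨k, hk⟩ := this
      simp only [Finset.mem_compl, Finset.mem_insert, Finset.mem_singleton, not_or] at hk
      exact ⟨k, hk.1, hk.2⟩
    refine ⟨Matrix.SpecialLinearGroup.transvection hki.symm c,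
      Matrix.SpecialLinearGroup.transvection hkj 1, ?_⟩
    rw [commutatorElement_def, Matrix.SpecialLinearGroup.transvection_inv,
      Matrix.SpecialLinearGroup.transvection_inv]
    apply Subtype.ext
    simp only [Matrix.SpecialLinearGroup.coe_mul, Matrix.SpecialLinearGroup.transvection_coe, ht,
      Matrix.transvection]
    simp [mul_add, add_mul, Matrix.single_mul_single_of_ne, hki, hki.symm, hkj, hkj.symm, hij,
      hij.symm]
    simp [← Matrix.single_neg]
    abel
  · have he : (x ^ 2 - 1) ≠ 0 := sub_ne_zero.2 hx2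
    refine ⟨Matrix.SpecialLinearGroup.diag2n hij x hx0,
      Matrix.SpecialLinearGroup.transvection hij (c / (x ^ 2 - 1)), ?_⟩
    rw [commutatorElement_def, mul_inv_eq_iff_eq_mul, mul_inv_eq_iff_eq_mul]
    apply Subtype.ext
    simp only [Matrix.SpecialLinearGroup.coe_mul, Matrix.SpecialLinearGroup.transvection_coe, ht,
      Matrix.SpecialLinearGroup.diag2n_coe, Matrix.transvection]
    ext a b
    fin_cases a <;> fin_cases b <;> fin_cases i <;> fin_cases j <;>
      simp_all [Matrix.mul_apply, Matrix.diagonal, Matrix.single, Fin.sum_univ_two] <;> field_simp <;> ring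

end Cfsg.Agent.S0836
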