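import Cfsg.Statements.S0838
import Mathlib
import Cfsg.Agent.Lib.FiniteFormClass

set_option autoImplicit false
open Cfsg

namespace Cfsg.Agent.S0838

/-- Over a finite field with 2 ≠ 0 and n odd: two quadratic forms Q₁, Q₂ on F^n with non-degenerate polar forms are similar — there are an invertible linear map g and a scalar c ≠ 0 with Q₂ (g v) = c · Q₁ v for all v. -/
theorem result {F : Type*} [Field F] [Fintype F] (h2 : (2 : F) ≠ 0) {n : ℕ} (hn : Odd n) (Q₁ Q₂ : QuadraticForm F (Fin n → F)) (h₁ : (QuadraticMap.polarBilin Q₁).Nondegenerate) (h₂ : (QuadraticMap.polarBilin Q₂).Nondegenerate) : ∃ (g : (Fin n → F) ≃ₗ[F] (Fin n → F)) (c : F), c ≠ 0 ∧ ∀ v, Q₂ (g v) = c * Q₁ v := by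
  classical
  obtain ⟨m, rfl⟩ := hn
  let bs := Pi.basisFun F (Fin (2 * m + 1))
  set B₁ := QuadraticMap.polarBilin Q₁ with hB₁
  set B₂ := QuadraticMap.polarBilin Q₂ with hB₂
  set D₁ := (LinearMap.BilinForm.toMatrix bs B₁).det
  set D₂ := (LinearMap.BilinForm.toMatrix bs B₂).det
  have hD₁ : D₁ ≠ 0 := (LinearMap.BilinForm.nondegenerate_iff_det_ne_zero bs).1 h₁
  have hD₂ : D₂ ≠ 0 := (LinearMap.BilinForm.nondegenerate_iff_det_ne_zero bs).1 h₂
  set c := D₂ / D₁ with hc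
  have hc0 : c ≠ 0 := div_ne_zero hD₂ hD₁
  have hdet : (LinearMap.BilinForm.toMatrix bs (c • B₁)).det = c ^ (2 * m + 1) * D₁ := by
    rw [map_smul, Matrix.det_smul, Fintype.card_fin]
  have hn1 : (c • B₁).Nondegenerate :=
    (LinearMap.BilinForm.nondegenerate_iff_det_ne_zero bs).2
      (by rw [hdet]; exact mul_ne_zero (pow_ne_zero _ hc0) hD₁)
  have hsym : ∀ (Q : QuadraticForm F (Fin (2 * m + 1) → F)) x y,
      QuadraticMap.polarBilin Q x y = QuadraticMap.polarBilin Q y x :=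
    fun Q x y => QuadraticMap.polar_comm Q x y
  obtain ⟨g, hg⟩ := FiniteFormClass.exists_isometry h2 (c • B₁) B₂
    (fun x y => by simp [hB₁, hsym Q₁ x y]) (hsym Q₂) hn1 h₂ (n := 2 * m) (by simp) (by simp) bs bs
    ⟨c ^ m * D₂, by
      rw [hdet]
      change c ^ (2 * m + 1) * D₁ * D₂ = _
      rw [pow_succ, hc]; field_simp; ring⟩
  refine ⟨g, c, hc0, fun v => ?_⟩
  have h := hg v v
  have hpol : ∀ (Q : QuadraticForm F (Fin (2 * m + 1) → F)) x,
      QuadraticMap.polarBilin Q x x = 2 * Q x := fun Q x => by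
    rw [QuadraticMap.polarBilin_apply_apply, QuadraticMap.polar_self, nsmul_eq_mul, Nat.cast_ofNat]
  rw [hB₂, hpol, LinearMap.smul_apply, LinearMap.smul_apply, hB₁, hpol, smul_eq_mul] at h
  exact mul_left_cancel₀ h2 (by linear_combination h)

end Cfsg.Agent.S0838
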