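import Cfsg.Statements.S0840
import Mathlib
import Cfsg.Agent.Lib.CharBasicInt

set_option autoImplicit false
open scoped ComplexConjugate
open Cfsg

namespace Cfsg.Agent.S0840

/-- Class multiplication coefficients from the character table: for elements a, b, c of a finite group G, the number of ordered pairs (x, y) with x conjugate to a, y conjugate to b and x * y = c equals the product of the sizes of the conjugacy classes of a and b, divided by the order of G, times the sum over the irreducible characters χ of χ a * χ b * conj (χ c) / χ 1. -/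
theorem result {G : Type*} [Group G] [Finite G] (a b c : G) : (Nat.card {p : G × G // IsConj a p.1 ∧ IsConj b p.2 ∧ p.1 * p.2 = c} : ℂ) = (Nat.card {x : G // IsConj a x} : ℂ) * (Nat.card {x : G // IsConj b x} : ℂ) / (Nat.card G : ℂ) * ∑ᶠ χ : Cfsg.IrrCharacter G, (χ : G → ℂ) a * (χ : G → ℂ) b * conj ((χ : G → ℂ) c) / (χ : G → ℂ) 1 := by
  classical
  have := Fintype.ofFinite G
  let A : Finset G := Finset.univ.filter (IsConj a)
  let B : Finset G := Finset.univ.filter (IsConj b)
  let K : G → ℂ := fun g => ((((A ×ˢ B).filter fun p => p.1 * p.2 = g).card : ℕ) : ℂ)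
  have hA : (Nat.card {x : G // IsConj a x} : ℂ) = A.card := by
    rw [Nat.card_eq_fintype_card, Fintype.card_subtype]
  have hB : (Nat.card {x : G // IsConj b x} : ℂ) = B.card := by
    rw [Nat.card_eq_fintype_card, Fintype.card_subtype]
  have hK : (Nat.card {p : G × G // IsConj a p.1 ∧ IsConj b p.2 ∧ p.1 * p.2 = c} : ℂ) = K c := by
    rw [Nat.card_eq_fintype_card, Fintype.card_subtype]
    simp only [K]
    congr 2
    ext p
    simp [A, B, and_assoc]
  have hcj : ∀ (r : G) {x y : G}, IsConj r x → IsConj r (y * x * y⁻¹) :=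
    fun r x y h => h.trans (isConj_iff.2 ⟨y, rfl⟩)
  have hKcl : Cfsg.IsClassFunction G K := by
    intro g h
    simp only [K]
    congr 1
    refine Finset.card_bij (fun p _ => (h⁻¹ * p.1 * h, h⁻¹ * p.2 * h)) ?_ ?_ ?_
    · intro p hp
      simp only [Finset.mem_filter, Finset.mem_product, A, B, Finset.mem_univ, true_and] at hp ⊢
      refine ⟨⟨?_, ?_⟩, ?_⟩
      · simpa using hcj a (y := h⁻¹) hp.1.1
      · simpa using hcj b (y := h⁻¹) hp.1.2
      · calc h⁻¹ * p.1 * h * (h⁻¹ * p.2 * h) = h⁻¹ * (p.1 * p.2) * h := by simp [mul_assoc]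
          _ = g := by rw [hp.2]; simp [mul_assoc]
    · intro p _ q _ he
      simp only [Prod.mk.injEq, mul_left_inj, mul_right_inj] at he
      exact Prod.ext he.1 he.2
    · intro q hq
      simp only [Finset.mem_filter, Finset.mem_product, A, B, Finset.mem_univ, true_and] at hq
      refine ⟨(h * q.1 * h⁻¹, h * q.2 * h⁻¹), ?_, by simp [mul_assoc]⟩
      simp only [Finset.mem_filter, Finset.mem_product, A, B, Finset.mem_univ, true_and]
      refine ⟨⟨hcj a hq.1.1, hcj b hq.1.2⟩, ?_⟩
      rw [← hq.2]; simp [mul_assoc]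
  have hinner : ∀ χ : Cfsg.IrrCharacter G, Cfsg.classInner K (χ : G → ℂ) =
      (Nat.card G : ℂ)⁻¹ * conj (A.card * B.card * (χ : G → ℂ) a * (χ : G → ℂ) b / (χ : G → ℂ) 1) := by
    rintro ⟨χ, n, ρ, hρ, rfl⟩
    simp only [Cfsg.classInner]
    congr 1
    have h1 : ∑ g, K g * conj (ρ.character g) = conj (∑ p ∈ A ×ˢ B, ρ.character (p.1 * p.2)) := by
      rw [map_sum, ← Finset.sum_fiberwise (A ×ˢ B) (fun p => p.1 * p.2)]
      refine Finset.sum_congr rfl fun g _ => ?_
      rw [Finset.sum_congr rfl (g := fun _ => conj (ρ.character g)) (fun p hp => by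
        rw [(Finset.mem_filter.1 hp).2]), Finset.sum_const, nsmul_eq_mul]
    rw [h1]
    congr 1
    have key : ∀ r : G, ∑ x ∈ Finset.univ.filter (IsConj r), ρ x =
        (((Finset.univ.filter (IsConj r)).card : ℂ) * ρ.character r / (n : ℂ)) • LinearMap.id := by
      intro r
      have := CharBasicInt.sum_smul_rep_eq ρ (CharBasicOrth.isClassFunction_indicator r)
      simp only [ite_smul, one_smul, zero_smul, ← Finset.sum_filter, ite_mul, one_mul, zero_mul,
        Module.finrank_fin_fun] at this
      rw [this]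
      congr 2
      rw [Finset.sum_congr rfl (g := fun _ => ρ.character r) (fun x hx => (CharBasic.apply_eq_of_isConj
        (CharBasic.isClassFunction_character ρ) (Finset.mem_filter.1 hx).2).symm), Finset.sum_const,
        nsmul_eq_mul]
    have h2 : ∑ p ∈ A ×ˢ B, ρ (p.1 * p.2) = (∑ x ∈ A, ρ x) * (∑ y ∈ B, ρ y) := by
      rw [Finset.sum_mul_sum, Finset.sum_product]
      simp only [map_mul]
    have hn : (n : ℂ) ≠ 0 := by
      have := CharBasic.finrank_pos_of_irreducible ρ
      rw [Module.finrank_fin_fun] at this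
      exact_mod_cast this.ne'
    have h3 : ∑ p ∈ A ×ˢ B, ρ.character (p.1 * p.2) =
        LinearMap.trace ℂ _ (∑ p ∈ A ×ˢ B, ρ (p.1 * p.2)) := by
      rw [map_sum]; rfl
    rw [h3, h2, key a, key b, smul_mul_smul_comm, map_smul, Representation.char_one,
      Module.finrank_fin_fun, smul_eq_mul, show (LinearMap.id * LinearMap.id : Module.End ℂ (Fin n → ℂ)) = 1 from rfl,
      LinearMap.trace_one, Module.finrank_fin_fun]
    field_simp
    simp only [A, B]
    ring
  have h := congrFun (CharBasicOrth.eq_sum_classInner hKcl) c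
  have h' := congrArg conj h
  simp only [Finset.sum_apply, Pi.smul_apply, smul_eq_mul, hinner, map_sum, map_mul, map_inv₀,
    map_natCast, Complex.conj_conj] at h'
  rw [show conj (K c) = K c by simp [K]] at h'
  rw [hK, h', finsum_eq_sum_of_fintype, Finset.mul_sum, hA, hB]
  refine Finset.sum_congr rfl fun χ _ => ?_
  ring

end Cfsg.Agent.S0840
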