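import Cfsg.Statements.S0841
import Mathlib

set_option autoImplicit false
open Cfsg

namespace Cfsg.Agent.S0841

/-- If the commutator subgroup of G lies in the centre, then for all x, y in G and every natural number n one has (x * y) ^ n = x ^ n * y ^ n * c ^ (n * (n - 1) / 2) with c = y⁻¹ * x⁻¹ * y * x. -/
theorem result {G : Type*} [Group G] (hG : commutator G ≤ Subgroup.center G) (x y : G) (n : ℕ) : (x * y) ^ n = x ^ n * y ^ n * (y⁻¹ * x⁻¹ * y * x) ^ (n * (n - 1) / 2) := by
  set c := y⁻¹ * x⁻¹ * y * x with hcdef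
  have hcz : ∀ g : G, Commute c g := by
    have h : c ∈ commutator G := by
      rw [commutator_eq_closure]
      exact Subgroup.subset_closure ⟨y⁻¹, x⁻¹, by simp [commutatorElement_def, hcdef]⟩
    intro g
    exact (Subgroup.mem_center_iff.1 (hG h) g).symm
  have h1 : y * x = x * y * c := by simp [hcdef, mul_assoc]
  have h2 : ∀ k : ℕ, y ^ k * x = x * y ^ k * c ^ k := by
    intro k
    induction k with
    | zero => simp
    | succ k ih =>
      calc y ^ (k + 1) * x = y * (y ^ k * x) := by rw [pow_succ', mul_assoc]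
        _ = y * (x * y ^ k * c ^ k) := by rw [ih]
        _ = (y * x) * (y ^ k * c ^ k) := by simp [mul_assoc]
        _ = x * y * (c * y ^ k) * c ^ k := by rw [h1]; simp [mul_assoc]
        _ = x * y * (y ^ k * c) * c ^ k := by rw [(hcz (y ^ k)).eq]
        _ = x * y ^ (k + 1) * c ^ (k + 1) := by simp [pow_succ', mul_assoc]
  induction n with
  | zero => simp
  | succ k ih =>
    have e : (k + 1) * (k + 1 - 1) / 2 = k + k * (k - 1) / 2 := by
      have h := Finset.sum_range_succ (fun i => i) k
      rw [Finset.sum_range_id, Finset.sum_range_id] at h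
      omega
    rw [pow_succ, ih, e]
    calc x ^ k * y ^ k * c ^ (k * (k - 1) / 2) * (x * y)
        = x ^ k * (y ^ k * x) * (y * c ^ (k * (k - 1) / 2)) := by
          rw [mul_assoc _ (c ^ _) (x * y), ((hcz (x * y)).pow_left _).eq]
          simp [mul_assoc]
      _ = x ^ k * x * y ^ k * (c ^ k * y) * c ^ (k * (k - 1) / 2) := by
          rw [h2 k]; simp [mul_assoc]
      _ = x ^ k * x * y ^ k * (y * c ^ k) * c ^ (k * (k - 1) / 2) := by
          rw [((hcz y).pow_left k).eq]
      _ = _ := by simp [pow_succ, pow_add, mul_assoc]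

end Cfsg.Agent.S0841
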