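import Cfsg.Statements.S0842
import Mathlib
import Cfsg.Agent.Lib.ZStarLocal

set_option autoImplicit false
open Cfsg

namespace Cfsg.Agent.S0842
open Cfsg.Agent.ZStarLocal

universe u

variable {G : Type u} [Group G] [Finite G]

theorem oconj (g x : G) : orderOf (g * x * g⁻¹) = orderOf x :=
  (MulAut.conj g).orderOf_eq x

/-- Everything about the centralizer of the commutator subgroup of a quaternion Sylow group. -/
theorem structure_of (S : Sylow 2 G) (n : ℕ)
    (e : (S : Subgroup G) ≃* QuaternionGroup (2 ^ (n + 2))) (D : Subgroup G)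
    (hD : D = ⁅(S : Subgroup G), (S : Subgroup G)⁆) :
    ∃ (a b : G) (ha : a ∈ Subgroup.centralizer (D : Set G))
      (μ : Subgroup.centralizer (D : Set G) →* ℂˣ),
      a ∈ (S : Subgroup G) ∧ b ∈ (S : Subgroup G) ∧
      b ∈ Subgroup.normalizer (D : Set G) ∧ b ∉ Subgroup.centralizer (D : Set G) ∧
      (∀ x : Subgroup.centralizer (D : Set G), (x : G) ∈ (S : Subgroup G) → (x : G) ∈ Subgroup.zpowers a) ∧
      (∀ x, ∃ k : ℕ, μ x = μ ⟨a, ha⟩ ^ k) ∧
      (∀ x : Subgroup.centralizer (D : Set G), μ x = 1 ↔ Odd (orderOf x)) ∧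
      (∀ g ∈ Subgroup.normalizer (D : Set G),
        g ∈ Subgroup.centralizer (D : Set G) ∨ b * g ∈ Subgroup.centralizer (D : Set G)) ∧
      (∀ w : G, w ∈ Subgroup.centralizer (D : Set G) → orderOf w = Nat.card D →
        Subgroup.zpowers w = D) := by
  obtain ⟨a, b, h⟩ := exists_gens (S : Subgroup G) (n := n + 2) (by omega) e
  have hoa : orderOf a = 2 ^ (n + 3) := h.order
  have hb : b ∉ Subgroup.zpowers a := h.not_mem
  set c := a ^ 2 with hc
  have hca : c ∈ Subgroup.zpowers a := pow_mem (Subgroup.mem_zpowers a) 2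
  have hDc : D = Subgroup.zpowers c := by
    rw [hD]
    apply le_antisymm
    · rw [Subgroup.commutator_le]
      intro s hs t ht
      have sq : ∀ u ∈ Subgroup.zpowers a, u * u ∈ Subgroup.zpowers c := by
        intro u hu
        obtain ⟨k, rfl⟩ := Subgroup.mem_zpowers_iff.1 hu
        refine Subgroup.mem_zpowers_iff.2 ⟨k, ?_⟩
        rw [hc, ← zpow_natCast a 2, ← zpow_mul, ← zpow_add]
        congr 1; ring
      show s * t * s⁻¹ * t⁻¹ ∈ _
      by_cases hsa : s ∈ Subgroup.zpowers a <;> by_cases hta : t ∈ Subgroup.zpowers a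
      · obtain ⟨i, rfl⟩ := Subgroup.mem_zpowers_iff.1 hsa
        obtain ⟨j, rfl⟩ := Subgroup.mem_zpowers_iff.1 hta
        rw [(Commute.zpow_zpow_self a i j).eq]
        simp
      · have := h.conj_of_mem_zpowers ht hta (inv_mem hsa)
        rw [inv_inv] at this
        rw [mul_assoc, mul_assoc, ← mul_assoc t, this]
        exact sq s hsa
      · rw [h.conj_of_mem_zpowers hs hsa hta, ← mul_inv_rev]
        exact inv_mem (sq t hta)
      · have hbs := (h.cover s hs).resolve_left hsa
        have hbt := (h.cover t ht).resolve_left hta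
        have hu : s⁻¹ * t ∈ Subgroup.zpowers a := by
          have := mul_mem (inv_mem hbs) hbt
          rwa [mul_inv_rev, mul_assoc, inv_mul_cancel_left] at this
        have h1 := h.conj_of_mem_zpowers hs hsa hu
        have h2 := h.conj_of_mem_zpowers hs hsa (inv_mem (mul_mem hu hu))
        have : s * t * s⁻¹ * t⁻¹ = s * ((s * (s⁻¹ * t) * s⁻¹) * (s⁻¹ * t)⁻¹) * s⁻¹ := by group
        rw [this, h1, ← mul_inv_rev, h2, inv_inv]
        exact sq _ hu
    · refine Subgroup.zpowers_le.2 ?_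
      have h1 := Subgroup.commutator_mem_commutator h.b_mem h.a_mem
      rw [commutatorElement_def, h.conj_of_mem_zpowers h.b_mem hb (Subgroup.mem_zpowers a)] at h1
      rw [show c = (a⁻¹ * a⁻¹)⁻¹ by simp [hc, sq]]
      exact inv_mem h1
  have hcent : Subgroup.centralizer (D : Set G) = Subgroup.centralizer ({c} : Set G) := by
    rw [hDc, Subgroup.zpowers_eq_closure, Subgroup.centralizer_closure]
  have hoc : orderOf c = 2 ^ (n + 2) := by
    rw [hc, orderOf_pow, hoa, show (2 : ℕ) ^ (n + 3) = 2 ^ (n + 2) * 2 by ring,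
      Nat.gcd_eq_right ⟨2 ^ (n + 2), by ring⟩, Nat.mul_div_cancel _ two_pos]
  have hcc : c * c ≠ 1 := by
    rw [← pow_two]
    refine pow_ne_one_of_lt_orderOf two_ne_zero ?_
    rw [hoc]
    calc 2 < 2 ^ 2 := by norm_num
      _ ≤ 2 ^ (n + 2) := Nat.pow_le_pow_right two_pos (by omega)
  obtain ⟨ω, hωp⟩ : ∃ ω : ℂˣ, IsPrimitiveRoot ω (2 ^ (n + 3)) := by
    have h0 := Complex.isPrimitiveRoot_exp (2 ^ (n + 3)) (by positivity)
    exact ⟨_, h0.isUnit_unit (by positivity)⟩
  obtain ⟨ha, μ, ⟨m, hm, hμa⟩, himg, hbH, hconj, hnorm⟩ :=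
    exists_linear h hca hcc ω hωp.pow_eq_one
  rw [hcent]
  have hzero : ∀ x, ∃ k : ℕ, μ x = μ ⟨a, ha⟩ ^ k := by
    intro x
    have hoω : orderOf ω = 2 ^ (n + 3) := hωp.eq_orderOf.symm
    have hgen : Subgroup.zpowers (ω ^ m) = Subgroup.zpowers ω := by
      have : Finite (Subgroup.zpowers ω) := Nat.finite_of_card_ne_zero (by rw [Nat.card_zpowers, hoω]; positivity)
      refine Subgroup.eq_of_le_of_card_ge (Subgroup.zpowers_le.2 (pow_mem (Subgroup.mem_zpowers ω) m)) ?_
      rw [Nat.card_zpowers, Nat.card_zpowers, Nat.Coprime.orderOf_pow]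
      rw [hoω]
      exact Nat.Coprime.pow_left _ (Nat.coprime_two_left.2 hm)
    have h1 := himg x
    rw [← hgen, ← hμa] at h1
    have hfin : IsOfFinOrder (μ ⟨a, ha⟩) := μ.isOfFinOrder (isOfFinOrder_of_finite _)
    obtain ⟨k, hk⟩ := hfin.mem_powers_iff_mem_zpowers.2 h1
    exact ⟨k, hk.symm⟩
  have hker : ∀ x, μ x = 1 ↔ Odd (orderOf x) := by
    intro x
    constructor
    · intro hx
      by_contra hodd
      rw [Nat.not_odd_iff_even, even_iff_two_dvd] at hodd
      obtain ⟨r, hr⟩ := hodd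
      have hr0 : r ≠ 0 := by
        rintro rfl
        exact (isOfFinOrder_of_finite x).orderOf_pos.ne' (by rw [hr, mul_zero])
      have hw : orderOf (x ^ r) = 2 := by
        rw [orderOf_pow_of_dvd hr0 ⟨2, by rw [hr, mul_comm]⟩, hr, Nat.mul_div_cancel _ (Nat.pos_of_ne_zero hr0)]
      obtain ⟨y, hy⟩ := hconj (x ^ r) ⟨1, by rw [pow_one, hw]⟩
      obtain ⟨k, hk⟩ := (isOfFinOrder_of_finite a).mem_powers_iff_mem_zpowers.2 hy
      have he : y * x ^ r * y⁻¹ = ⟨a, ha⟩ ^ k := Subtype.ext (by simpa using hk.symm)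
      have h1 := congrArg μ he
      rw [map_mul, map_mul, map_inv, mul_inv_cancel_comm, map_pow, hx, one_pow, map_pow, hμa,
        ← pow_mul] at h1
      have h2 := orderOf_dvd_of_pow_eq_one h1.symm
      rw [← hωp.eq_orderOf] at h2
      have h3 : 2 ^ (n + 3) ∣ k :=
        (Nat.Coprime.pow_left _ (Nat.coprime_two_left.2 hm)).dvd_of_dvd_mul_left h2
      have h4 : y * x ^ r * y⁻¹ = 1 := by
        rw [he]
        refine orderOf_dvd_iff_pow_eq_one.1 ?_
        rw [Subgroup.orderOf_mk, hoa]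
        exact h3
      have h5 : x ^ r = 1 := conj_eq_one_iff.1 h4
      rw [h5, orderOf_one] at hw
      omega
    · intro hodd
      obtain ⟨k, hk⟩ := hzero x
      rw [← orderOf_eq_one_iff]
      have h1 : orderOf (μ x) ∣ orderOf x := orderOf_map_dvd μ x
      have h2 : orderOf (μ x) ∣ 2 ^ (n + 3) := by
        rw [hk, ← map_pow]
        refine (orderOf_map_dvd μ _).trans ((orderOf_pow_dvd k).trans ?_)
        rw [Subgroup.orderOf_mk, hoa]
      exact Nat.eq_one_of_dvd_coprimes
        (Nat.Coprime.pow_right _ (Nat.coprime_two_right.2 hodd)) h1 h2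
  refine ⟨a, b, ha, μ, h.a_mem, h.b_mem, ?_, hbH, ?_, hzero, hker, ?_, ?_⟩
  · rw [hDc, Subgroup.mem_normalizer_iff_map_conj_eq, MonoidHom.map_zpowers]
    show Subgroup.zpowers (b * c * b⁻¹) = _
    rw [h.conj_of_mem_zpowers h.b_mem hb hca, Subgroup.zpowers_inv]
  · intro x hx
    by_contra hxa
    have h1 := h.conj_of_mem_zpowers hx hxa hca
    rw [Subgroup.mem_centralizer_singleton_iff.1 x.2, mul_inv_cancel_right] at h1
    exact hcc (mul_eq_one_iff_eq_inv.2 h1)
  · rw [hDc]
    exact hnorm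
  · intro w hw how
    rw [hDc, Nat.card_zpowers, hoc] at how
    obtain ⟨y, hy⟩ := hconj ⟨w, hw⟩ ⟨n + 2, by rw [Subgroup.orderOf_mk, how]⟩
    obtain ⟨k, hk⟩ := (isOfFinOrder_of_finite a).mem_powers_iff_mem_zpowers.2 hy
    change a ^ k = (y : G) * w * (y : G)⁻¹ at hk
    have heven : 2 ∣ k := by
      by_contra hodd
      have := congrArg orderOf hk
      rw [oconj, how, Nat.Coprime.orderOf_pow (by
        rw [hoa]; exact Nat.Coprime.pow_left _ ((Nat.Prime.coprime_iff_not_dvd Nat.prime_two).2 hodd)),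
        hoa] at this
      exact absurd (Nat.pow_right_injective le_rfl this) (by omega)
    obtain ⟨j, rfl⟩ := heven
    rw [pow_mul] at hk
    have hyc : (y : G)⁻¹ * c * (y : G) = c := by
      rw [mul_assoc, ← Subgroup.mem_centralizer_singleton_iff.1 y.2, inv_mul_cancel_left]
    rw [hDc]
    refine Subgroup.eq_of_le_of_card_ge ?_ (by rw [Nat.card_zpowers, Nat.card_zpowers, how, hoc])
    rw [Subgroup.zpowers_le]
    have : w = ((y : G)⁻¹ * c * (y : G)) ^ j := by
      rw [show ((y : G)⁻¹ * c * (y : G)) = (y : G)⁻¹ * c * (y : G)⁻¹⁻¹ by rw [inv_inv], conj_pow,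
        ← hc] at *
      rw [hk]
      group
    rw [this, hyc]
    exact pow_mem (Subgroup.mem_zpowers c) j

/-- Suppose a Sylow 2-subgroup S of the finite group G is generalized quaternion of order at least 16, and let D be the commutator subgroup of S, C its centralizer and N its normalizer in G. Then there is a subgroup K of odd order, contained in C and normalized by N, with K ⊔ S = N and K ⊔ (S ⊓ C) = C, and C has index 2 in N. -/
theorem result {G : Type*} [Group G] [Finite G] (S : Sylow 2 G) (n : ℕ) (e : (S : Subgroup G) ≃* QuaternionGroup (2 ^ (n + 2))) (D : Subgroup G) (hD : D = ⁅(S : Subgroup G), (S : Subgroup G)⁆) : ∃ K : Subgroup G, Odd (Nat.card K) ∧ K ≤ Subgroup.centralizer (D : Set G) ∧ Subgroup.normalizer (D : Set G) ≤ Subgroup.normalizer (K : Set G) ∧ K ⊔ (S : Subgroup G) = Subgroup.normalizer (D : Set G) ∧ K ⊔ ((S : Subgroup G) ⊓ Subgroup.centralizer (D : Set G)) = Subgroup.centralizer (D : Set G) ∧ ((Subgroup.centralizer (D : Set G)).subgroupOf (Subgroup.normalizer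 (D : Set G))).index = 2 := by
  obtain ⟨a, b, ha, μ, haS, hbS, hbN, hbC, hSC, hzero, hker, hnorm, -⟩ := structure_of S n e D hD
  set K := μ.ker.map (Subgroup.centralizer (D : Set G)).subtype with hK
  have hKC : K ≤ (Subgroup.centralizer (D : Set G)) := Subgroup.map_subtype_le _
  have hCN : (Subgroup.centralizer (D : Set G)) ≤ Subgroup.normalizer (D : Set G) := Subgroup.centralizer_le_normalizer _
  have hSN : (S : Subgroup G) ≤ Subgroup.normalizer (D : Set G) := by
    intro s hs
    rw [Subgroup.mem_normalizer_iff_map_conj_eq, hD, Subgroup.map_commutator]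
    have hmap : (S : Subgroup G).map (MulAut.conj s).toMonoidHom = (S : Subgroup G) := by
      ext x
      rw [Subgroup.mem_map_equiv]
      simp only [MulAut.conj_symm_apply]
      constructor
      · intro hx
        have := mul_mem (mul_mem hs hx) (inv_mem hs)
        simpa [mul_assoc] using this
      · intro hx
        exact mul_mem (mul_mem (inv_mem hs) hx) hs
    have hmap' : (S : Subgroup G).map ((MulAut.conj s : G ≃* G) : G →* G) = (S : Subgroup G) := hmap
    rw [hmap']
  have hCsplit : ∀ x ∈ (Subgroup.centralizer (D : Set G)), x ∈ K ⊔ ((S : Subgroup G) ⊓ (Subgroup.centralizer (D : Set G))) := by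
    intro x hx
    obtain ⟨k, hk⟩ := hzero ⟨x, hx⟩
    have hmem : (⟨x, hx⟩ : (Subgroup.centralizer (D : Set G))) * (⟨a, ha⟩ ^ k)⁻¹ ∈ μ.ker := by
      rw [MonoidHom.mem_ker, map_mul, map_inv, map_pow, ← hk, mul_inv_cancel]
    have h1 : x * (a ^ k)⁻¹ ∈ K := ⟨_, hmem, by simp⟩
    have := mul_mem (Subgroup.mem_sup_left h1)
      (Subgroup.mem_sup_right (S := K) (pow_mem (Subgroup.mem_inf.2 ⟨haS, ha⟩) k))
    rwa [inv_mul_cancel_right] at this
  refine ⟨K, ?_, hKC, ?_, ?_, le_antisymm (sup_le hKC inf_le_right) hCsplit, ?_⟩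
  · rw [hK, Subgroup.card_subtype, Nat.odd_iff, ← Nat.not_even_iff, even_iff_two_dvd]
    intro h2
    have : Fact (Nat.Prime 2) := ⟨Nat.prime_two⟩
    obtain ⟨x, hx⟩ := exists_prime_orderOf_dvd_card' 2 h2
    have := (hker x).1 (MonoidHom.mem_ker.1 x.2)
    rw [Subgroup.orderOf_coe, hx] at this
    exact absurd this (by decide)
  · intro g hg
    have hconjK : ∀ g ∈ Subgroup.normalizer (D : Set G), ∀ x ∈ K, g * x * g⁻¹ ∈ K := by
      rintro g hg _ ⟨x, hx, rfl⟩
      have hmem : g * (x : G) * g⁻¹ ∈ (Subgroup.centralizer (D : Set G)) := by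
        rw [Subgroup.mem_centralizer_iff]
        intro d hd
        have hd' : g⁻¹ * d * g ∈ (D : Set G) := by
          have := (Subgroup.mem_normalizer_iff.1 (inv_mem hg) d).1 hd
          rwa [inv_inv] at this
        have := Subgroup.mem_centralizer_iff.1 x.2 _ hd'
        calc d * (g * (x : G) * g⁻¹) = g * ((g⁻¹ * d * g) * (x : G)) * g⁻¹ := by group
          _ = g * ((x : G) * (g⁻¹ * d * g)) * g⁻¹ := by rw [this]
          _ = g * (x : G) * g⁻¹ * d := by group
      refine ⟨⟨_, hmem⟩, MonoidHom.mem_ker.2 ((hker _).2 ?_), rfl⟩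
      have := (hker x).1 (MonoidHom.mem_ker.1 hx)
      rw [← Subgroup.orderOf_coe] at this ⊢
      show Odd (orderOf (g * (x : G) * g⁻¹))
      rwa [oconj]
    rw [Subgroup.mem_normalizer_iff]
    intro x
    refine ⟨hconjK g hg x, fun hx => ?_⟩
    have := hconjK g⁻¹ (inv_mem hg) _ hx
    simpa [mul_assoc] using this
  · refine le_antisymm (sup_le (hKC.trans hCN) hSN) fun g hg => ?_
    have hle : (Subgroup.centralizer (D : Set G)) ≤ K ⊔ (S : Subgroup G) := fun x hx =>
      (sup_le_sup_left inf_le_left K) (hCsplit x hx)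
    rcases hnorm g hg with h | h
    · exact hle h
    · have := mul_mem (inv_mem (Subgroup.mem_sup_right (S := K) hbS)) (hle h)
      rwa [inv_mul_cancel_left] at this
  · rw [Subgroup.index_eq_two_iff']
    refine ⟨⟨b, hbN⟩, fun g => ?_⟩
    simp only [Subgroup.mem_subgroupOf, Subgroup.coe_mul]
    by_cases h : (g : G) ∈ Subgroup.centralizer (D : Set G)
    · exact Or.inr ⟨h, fun hbg => hbC (by simpa using mul_mem hbg (inv_mem h))⟩
    · exact Or.inl ⟨(hnorm g g.2).resolve_left h, h⟩

end Cfsg.Agent.S0842
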