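import Cfsg.Statements.S0843
import Mathlib
import Cfsg.Agent.S0842

set_option autoImplicit false
open Cfsg

namespace Cfsg.Agent.S0843

/-- Suppose a Sylow 2-subgroup S of the finite group G is generalized quaternion of order at least 16; let D be the commutator subgroup of S and X the set of elements of the centralizer of D whose order is divisible by the order of D. Then D is contained in the cyclic subgroup generated by any element of X; an element of G conjugating some element of X into the centralizer of D normalizes D; and the normalizer of D maps X to itself under conjugation. -/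
theorem result {G : Type*} [Group G] [Finite G] (S : Sylow 2 G) (n : ℕ) (e : (S : Subgroup G) ≃* QuaternionGroup (2 ^ (n + 2))) (D : Subgroup G) (hD : D = ⁅(S : Subgroup G), (S : Subgroup G)⁆) : (∀ y : G, y ∈ Subgroup.centralizer (D : Set G) → Nat.card D ∣ orderOf y → D ≤ Subgroup.zpowers y) ∧ (∀ g y : G, y ∈ Subgroup.centralizer (D : Set G) → Nat.card D ∣ orderOf y → g * y * g⁻¹ ∈ Subgroup.centralizer (D : Set G) → g ∈ Subgroup.normalizer (D : Set G)) ∧ (∀ g y : G, g ∈ Subgroup.normalizer (D : Set G) → y ∈ Subgroup.centralizer (D : Set G) → Nat.card D ∣ orderOf y → g * y * g⁻¹ ∈ Subgroup.centralizer (D : Set G) ∧ Nat.card D ∣ orderOf (g * y * g⁻¹)) := by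
  obtain ⟨a, b, ha, μ, -, -, -, -, -, -, -, -, hD'⟩ := S0842.structure_of S n e D hD
  have key : ∀ y : G, y ∈ Subgroup.centralizer (D : Set G) → Nat.card D ∣ orderOf y →
      ∃ r : ℕ, orderOf (y ^ r) = Nat.card D ∧ Subgroup.zpowers (y ^ r) = D := by
    intro y hy hdvd
    obtain ⟨r, hr⟩ := hdvd
    have hr0 : r ≠ 0 := fun h =>
      (isOfFinOrder_of_finite y).orderOf_pos.ne' (by rw [hr, h, mul_zero])
    have ho : orderOf (y ^ r) = Nat.card D := by
      rw [orderOf_pow_of_dvd hr0 ⟨Nat.card D, by rw [hr, mul_comm]⟩, hr,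
        Nat.mul_div_cancel _ (Nat.pos_of_ne_zero hr0)]
    exact ⟨r, ho, hD' _ (pow_mem hy r) ho⟩
  refine ⟨fun y hy hd => ?_, fun g y hy hd hg => ?_, fun g y hg hy hd => ?_⟩
  · obtain ⟨r, -, hr⟩ := key y hy hd
    rw [← hr]
    exact Subgroup.zpowers_le.2 (pow_mem (Subgroup.mem_zpowers y) r)
  · obtain ⟨r, hro, hr⟩ := key y hy hd
    rw [Subgroup.mem_normalizer_iff_map_conj_eq]
    conv_lhs => rw [← hr, MonoidHom.map_zpowers]
    refine hD' _ ?_ ?_
    · show g * y ^ r * g⁻¹ ∈ _
      rw [← conj_pow]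
      exact pow_mem hg r
    · show orderOf (g * y ^ r * g⁻¹) = _
      rw [S0842.oconj, hro]
  · refine ⟨?_, by rwa [S0842.oconj]⟩
    rw [Subgroup.mem_centralizer_iff]
    intro d hd'
    have h1 : g⁻¹ * d * g ∈ (D : Set G) := by
      have := (Subgroup.mem_normalizer_iff.1 (inv_mem hg) d).1 hd'
      rwa [inv_inv] at this
    have := Subgroup.mem_centralizer_iff.1 hy _ h1
    calc d * (g * y * g⁻¹) = g * ((g⁻¹ * d * g) * y) * g⁻¹ := by group
      _ = g * (y * (g⁻¹ * d * g)) * g⁻¹ := by rw [this]
      _ = g * y * g⁻¹ * d := by group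

end Cfsg.Agent.S0843
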