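import Cfsg.Statements.S0845
import Cfsg.Agent.Lib.ZStarQ16

set_option autoImplicit false
open Cfsg

namespace Cfsg.Agent.S0845

/-- Suppose a Sylow 2-subgroup S of the finite group G is generalized quaternion of order at least 16. Then G has a normal subgroup M of even order such that G / M is non-abelian, that is, M does not contain the commutator subgroup of G. -/
theorem result {G : Type*} [Group G] [Finite G] (S : Sylow 2 G) (n : ℕ) (e : (S : Subgroup G) ≃* QuaternionGroup (2 ^ (n + 2))) : ∃ M : Subgroup G, M.Normal ∧ Even (Nat.card M) ∧ ¬ commutator G ≤ M := by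
  classical
  have := Fintype.ofFinite G
  obtain ⟨a, b, h⟩ := ZStarLocal.exists_gens (S : Subgroup G) (n := n + 2) (by omega) e
  obtain ⟨χ₁, χ₂, -, -, h3, hz, -⟩ := ZStarQ16.exceptional_pair h (by omega)
  have hn := CharKernel.irrKer_normal χ₁
  refine ⟨CharKernel.irrKer χ₁, hn, ?_, fun hle => ?_⟩
  · have hd := Subgroup.orderOf_dvd_natCard _ (CharKernel.mem_irrKer.2 hz)
    rw [h.orderOf_z] at hd
    exact even_iff_two_dvd.2 hd
  · obtain ⟨ψ, hψ⟩ := CharKernel.exists_quot_irr (CharKernel.irrKer χ₁) χ₁ fun g hg => hg
    obtain ⟨lam, hlam⟩ := CharBasicLinear.exists_hom_of_comm (fun x y => by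
      induction x using QuotientGroup.induction_on with
      | _ x =>
        induction y using QuotientGroup.induction_on with
        | _ y =>
          refine QuotientGroup.eq.2 (hle ?_)
          rw [commutator_eq_closure]
          refine Subgroup.subset_closure ⟨y⁻¹, x⁻¹, ?_⟩
          simp [commutatorElement_def, mul_assoc]) ψ.2
    have h1 : (χ₁ : G → ℂ) 1 = 1 := by
      rw [hψ 1, hlam]; simp
    rw [h1] at h3
    exact BlockTheoryCentre.irr_one_ne_zero χ₂ (by linear_combination -h3)

end Cfsg.Agent.S0845
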