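import Cfsg.Statements.S0848
import Cfsg.Agent.Lib.D8Centralizer

set_option autoImplicit false
open Cfsg

namespace Cfsg.Agent.S0848

/-- If a finite group equals its own commutator subgroup and contains an involution whose centralizer is isomorphic to the dihedral group of order 8, then the group has order 168 or 360. -/
theorem result {G : Type*} [Group G] [Finite G] (hperf : commutator G = ⊤) (t : G) (ht : orderOf t = 2) (e : Subgroup.centralizer ({t} : Set G) ≃* DihedralGroup 4) : Nat.card G = 168 ∨ Nat.card G = 360 := by
  obtain ⟨φ, hs, hφ⟩ := D8Centralizer.exists_setup ht e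
  have hno : ∀ H : Subgroup G, H.index ≠ 2 := by
    intro H hH
    haveI : H.Normal := Subgroup.normal_of_index_eq_two hH
    haveI : IsCyclic (G ⧸ H) := isCyclic_of_prime_card (p := 2) (by rw [← Subgroup.index_eq_card, hH])
    have h1 : commutator G ≤ H := by
      letI : CommGroup (G ⧸ H) := IsCyclic.commGroup
      rw [← QuotientGroup.ker_mk' H]
      exact Abelianization.commutator_subset_ker _
    rw [hperf, top_le_iff] at h1
    rw [h1, Subgroup.index_top] at hH
    exact absurd hH (by norm_num)
  exact D8CharOrder.card_eq hs (D8Centralizer.allConj_of_no_index_two hs hno) (D8Centralizer.card_mod hs)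

end Cfsg.Agent.S0848
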