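import Cfsg.Statements.S0849
import Mathlib
import Cfsg.Agent.Lib.CharInducedBasic

set_option autoImplicit false
open Cfsg

namespace Cfsg.Agent.S0849

/-- Let H be a subgroup of a finite group G and S a subset of H that is mapped to itself under conjugation by H, is disjoint from its conjugate by any element outside H, and is closed under inverses. Let φ be a class function of H vanishing on H away from S, and let u, v be involutions of G. Then the sum of the induced function of φ over all products a * b with a conjugate to u and b conjugate to v equals the index of H times the sum of φ (a * b) over such pairs with a and b in H. -/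
theorem result {G : Type*} [Group G] [Fintype G] (H : Subgroup G) (S : Set G) (hSH : S ⊆ H) (hHS : ∀ h ∈ H, ∀ s ∈ S, h * s * h⁻¹ ∈ S) (hTI : ∀ g : G, g ∉ H → ∀ s ∈ S, g * s * g⁻¹ ∉ S) (hinv : ∀ s ∈ S, s⁻¹ ∈ S) (φ : H → ℂ) (hφ : Cfsg.IsClassFunction H φ) (hφS : ∀ x : H, (x : G) ∉ S → φ x = 0) (u v : G) (hu : orderOf u = 2) (hv : orderOf v = 2) : ∑ᶠ p ∈ {p : G × G | IsConj u p.1 ∧ IsConj v p.2}, Cfsg.indFun H φ (p.1 * p.2) = (H.index : ℂ) * ∑ᶠ p ∈ {p : H × H | IsConj u (p.1 : G) ∧ IsConj v (p.2 : G)}, φ (p.1 * p.2) := by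
  classical
  have : Fintype H := Fintype.ofFinite H
  have inv2 : ∀ w a : G, orderOf w = 2 → IsConj w a → a⁻¹ = a := by
    intro w a hw h
    obtain ⟨c, rfl⟩ := isConj_iff.1 h
    have h2 : w⁻¹ = w := by
      rw [inv_eq_iff_mul_eq_one, ← pow_two, ← hw]; exact pow_orderOf_eq_one w
    simp [h2, mul_assoc]
  simp only [finsum_mem_eq_toFinset_sum]
  set P := {p : G × G | IsConj u p.1 ∧ IsConj v p.2}.toFinset
  set Q := {p : H × H | IsConj u (p.1 : G) ∧ IsConj v (p.2 : G)}.toFinset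
  have memP : ∀ p : G × G, p ∈ P ↔ IsConj u p.1 ∧ IsConj v p.2 := fun p => by simp [P]
  have memQ : ∀ p : H × H, p ∈ Q ↔ IsConj u (p.1 : G) ∧ IsConj v (p.2 : G) :=
    fun p => by simp [Q]
  have hconj : ∀ x : G, ∑ p ∈ P, extendByZero H φ (x⁻¹ * (p.1 * p.2) * x)
      = ∑ p ∈ P, extendByZero H φ (p.1 * p.2) := by
    intro x
    refine Finset.sum_bij' (fun p _ => (x⁻¹ * p.1 * x, x⁻¹ * p.2 * x))
      (fun p _ => (x * p.1 * x⁻¹, x * p.2 * x⁻¹)) ?_ ?_ ?_ ?_ ?_
    · intro p hp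
      rw [memP] at hp ⊢
      exact ⟨hp.1.trans (isConj_iff.2 ⟨x⁻¹, by simp⟩), hp.2.trans (isConj_iff.2 ⟨x⁻¹, by simp⟩)⟩
    · intro p hp
      rw [memP] at hp ⊢
      exact ⟨hp.1.trans (isConj_iff.2 ⟨x, rfl⟩), hp.2.trans (isConj_iff.2 ⟨x, rfl⟩)⟩
    · intro p _; ext <;> simp [mul_assoc]
    · intro p _; ext <;> simp [mul_assoc]
    · intro p _; simp [mul_assoc]
  have hin : ∀ p ∈ P, extendByZero H φ (p.1 * p.2) ≠ 0 → p.1 ∈ H ∧ p.2 ∈ H := by
    intro p hp hne
    rw [memP] at hp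
    have ha := inv2 u p.1 hu hp.1
    have hb := inv2 v p.2 hv hp.2
    have hH : p.1 * p.2 ∈ H := by
      by_contra h; exact hne (CharInduced.ext_zero_of_not_mem φ h)
    rw [CharInduced.ext_zero_of_mem φ hH] at hne
    have hS : p.1 * p.2 ∈ S := by
      by_contra h; exact hne (hφS ⟨_, hH⟩ h)
    have h1 : p.1 ∈ H := by
      by_contra h
      apply hTI p.1 h _ hS
      have he : p.1 * (p.1 * p.2) * p.1⁻¹ = (p.1 * p.2)⁻¹ := by
        rw [← mul_assoc p.1 p.1 p.2, inv_eq_iff_mul_eq_one.1 ha, one_mul, mul_inv_rev, hb]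
      rw [he]
      exact hinv _ hS
    exact ⟨h1, by have := H.mul_mem (H.inv_mem h1) hH; rwa [inv_mul_cancel_left] at this⟩
  have hres : ∑ p ∈ P, extendByZero H φ (p.1 * p.2) = ∑ q ∈ Q, φ (q.1 * q.2) := by
    symm
    refine Finset.sum_bij_ne_zero (fun q _ _ => ((q.1 : G), (q.2 : G))) ?_ ?_ ?_ ?_
    · intro q hq _; rw [memP]; exact (memQ q).1 hq
    · intro q _ _ r _ _ h
      simp only [Prod.mk.injEq] at h
      exact Prod.ext (Subtype.ext h.1) (Subtype.ext h.2)
    · intro p hp hne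
      obtain ⟨h1, h2⟩ := hin p hp hne
      refine ⟨(⟨p.1, h1⟩, ⟨p.2, h2⟩), (memQ _).2 ((memP p).1 hp), ?_, rfl⟩
      rw [← CharInduced.ext_zero_coe φ]
      exact hne
    · intro q _ _
      exact (CharInduced.ext_zero_coe φ (q.1 * q.2)).symm
  calc ∑ p ∈ P, indFun H φ (p.1 * p.2)
      = (Nat.card H : ℂ)⁻¹ * ∑ x : G, ∑ p ∈ P, extendByZero H φ (x⁻¹ * (p.1 * p.2) * x) := by
        simp only [CharInduced.indFun_apply, ← Finset.mul_sum]
        rw [Finset.sum_comm]
    _ = (Nat.card H : ℂ)⁻¹ * (Fintype.card G * ∑ p ∈ P, extendByZero H φ (p.1 * p.2)) := by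
        simp only [hconj, Finset.sum_const, Finset.card_univ, nsmul_eq_mul]
    _ = (H.index : ℂ) * ∑ q ∈ Q, φ (q.1 * q.2) := by
        rw [hres, ← mul_assoc]
        congr 1
        have h : (Fintype.card G : ℂ) = (Nat.card H : ℂ) * (H.index : ℂ) := by
          rw [← Nat.cast_mul, Subgroup.card_mul_index, Nat.card_eq_fintype_card]
        rw [h, inv_mul_cancel_left₀ (CharInduced.card_subgroup_ne_zero H)]

end Cfsg.Agent.S0849
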