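import Cfsg.Statements.S0850
import Cfsg.Agent.Lib.CharInducedTI

set_option autoImplicit false
open Cfsg

namespace Cfsg.Agent.S0850

/-- Let K be a subgroup of the finite group G that meets each conjugate by an element outside its normalizer N trivially, is properly contained in N, and contains the centralizer of each of its non-identity elements (a T.I. subgroup with Frobenius normalizer). Then no element of N outside K is conjugate in G to an element of K, and for every class function ϑ of N that vanishes on N away from K and at the identity, the function induced from ϑ to G agrees with ϑ on all of N. -/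
theorem result {G : Type*} [Group G] [Fintype G] (K : Subgroup G) (hTI : ∀ g : G, g ∉ Subgroup.normalizer (K : Set G) → ∀ k ∈ K, g * k * g⁻¹ ∈ K → k = 1) (hlt : K < Subgroup.normalizer (K : Set G)) (hC : ∀ k ∈ K, k ≠ 1 → Subgroup.centralizer ({k} : Set G) ≤ K) : (∀ x ∈ Subgroup.normalizer (K : Set G), x ∉ K → ∀ g : G, g * x * g⁻¹ ∉ K) ∧ ∀ (ϑ : Subgroup.normalizer (K : Set G) → ℂ), Cfsg.IsClassFunction (Subgroup.normalizer (K : Set G)) ϑ → (∀ x : Subgroup.normalizer (K : Set G), (x : G) ∉ K → ϑ x = 0) → ϑ 1 = 0 → ∀ x : Subgroup.normalizer (K : Set G), Cfsg.indFun (Subgroup.normalizer (K : Set G)) ϑ x = ϑ x := by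
  classical
  have hKN : K ≤ Subgroup.normalizer (K : Set G) := Subgroup.le_normalizer
  have hfix : ∀ x ∈ Subgroup.normalizer (K : Set G), x ∉ K → ∀ g : G, g * x * g⁻¹ ∉ K := by
    intro x hx hxK g hg
    have hord : orderOf x ∣ Nat.card K := by
      have h1 : orderOf x = orderOf (g * x * g⁻¹) :=
        (orderOf_injective (MulAut.conj g).toMonoidHom (MulAut.conj g).injective x).symm
      rw [h1, ← Subgroup.orderOf_mk (g * x * g⁻¹) hg]
      exact orderOf_dvd_natCard _
    have hone : orderOf x ≠ 1 := fun h => hxK (by rw [orderOf_eq_one_iff.1 h]; exact K.one_mem)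
    obtain ⟨p, hp, hpx⟩ := Nat.exists_prime_and_dvd hone
    have := Fact.mk hp
    let z := x ^ (orderOf x / p)
    have hzord : orderOf z = p := orderOf_pow_orderOf_div (orderOf_pos x).ne' hpx
    have hzP : IsPGroup p (Subgroup.zpowers z) :=
      IsPGroup.of_card (n := 1) (by rw [Nat.card_zpowers, hzord, pow_one])
    have hzN : z ∈ Subgroup.normalizer (K : Set G) := pow_mem hx _
    have hzK : z ∉ K := by
      intro hzK
      have h1 : z ≠ 1 := fun h => hp.one_lt.ne' (by rw [← hzord, h, orderOf_one])
      refine hxK (hC z hzK h1 ?_)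
      rw [Subgroup.mem_centralizer_iff]
      rintro y rfl
      exact (Commute.pow_self x _).eq
    let _ : MulAction (Subgroup.zpowers z) K :=
      { smul := fun w k => ⟨(w : G) * k * (w : G)⁻¹,
          (Subgroup.mem_normalizer_iff.1 (Subgroup.zpowers_le.2 hzN w.2) k).1 k.2⟩
        one_smul := fun k => Subtype.ext (by
          change ((1 : Subgroup.zpowers z) : G) * k * ((1 : Subgroup.zpowers z) : G)⁻¹ = k
          simp)
        mul_smul := fun a b k => Subtype.ext (by
          change ((a * b : Subgroup.zpowers z) : G) * k * ((a * b : Subgroup.zpowers z) : G)⁻¹ =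
            (a : G) * ((b : G) * k * (b : G)⁻¹) * (a : G)⁻¹
          push_cast; group) }
    have hmod := hzP.card_modEq_card_fixedPoints K
    have hfx : MulAction.fixedPoints (Subgroup.zpowers z) K = {1} := by
      ext k
      simp only [MulAction.mem_fixedPoints, Set.mem_singleton_iff]
      refine ⟨fun h => ?_, fun h w => ?_⟩
      · by_contra hk
        have h1 : z * (k : G) * z⁻¹ = k :=
          congrArg Subtype.val (h ⟨z, Subgroup.mem_zpowers z⟩)
        refine hzK (hC k k.2 (fun e => hk (Subtype.ext e)) ?_)
        rw [Subgroup.mem_centralizer_iff]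
        rintro y rfl
        exact (mul_inv_eq_iff_eq_mul.1 h1).symm
      · subst h
        exact Subtype.ext (by
          change (w : G) * ((1 : K) : G) * (w : G)⁻¹ = ((1 : K) : G)
          simp)
    rw [hfx, Nat.card_coe_set_eq, Set.ncard_singleton] at hmod
    have hdvd : p ∣ Nat.card K := hpx.trans hord
    have h0 : Nat.card K % p = 0 := Nat.mod_eq_zero_of_dvd hdvd
    rw [Nat.ModEq, h0, Nat.mod_eq_of_lt hp.one_lt] at hmod
    exact zero_ne_one hmod
  refine ⟨hfix, fun θ hθ hvan hθ1 x => ?_⟩
  by_cases hxK : (x : G) ∈ K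
  · by_cases hx1 : x = 1
    · subst hx1
      rw [show ((1 : Subgroup.normalizer (K : Set G)) : G) = 1 from rfl,
        Cfsg.Agent.CharInduced.ind_one_apply, hθ1, mul_zero]
    · exact Cfsg.Agent.CharInduced.ind_eq_of_ti (K : Set G) _ hTI θ hθ hvan x hxK hx1
  · rw [hvan x hxK]
    refine Cfsg.Agent.CharInduced.ind_eq_zero_of_vanish _ θ x fun g h hgh => hvan h fun hh => ?_
    refine hfix x x.2 hxK g⁻¹ ?_
    rw [inv_inv, hgh]
    exact hh

end Cfsg.Agent.S0850
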