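import Cfsg.Statements.S0851
import Cfsg.Agent.Lib.CharInducedTIFrob
import Cfsg.Agent.Lib.CharBasicLinear
import Cfsg.Agent.S0198

set_option autoImplicit false
open Cfsg

namespace Cfsg.Agent.S0851

open CharBasic CharBasicOrth CharBasicDecomp CharInduced CharInducedTIFrob in
theorem aux {G : Type*} [Group G] [Fintype G] (K N : Subgroup G) (hnor : (K.subgroupOf N).Normal)
    (hKN : K ≤ N) (hTI : ∀ g : G, g ∉ N → ∀ t ∈ K, g * t * g⁻¹ ∈ K → t = 1)
    (hC : ∀ k ∈ K, k ≠ 1 → Subgroup.centralizer ({k} : Set G) ≤ K)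
    (hab : ∀ a ∈ K, ∀ b ∈ K, a * b = b * a) :
    (Nat.card {χ : Cfsg.IrrCharacter N // ∃ k : N, (k : G) ∈ K ∧ (χ : N → ℂ) k ≠ (χ : N → ℂ) 1} = 1 ∧
      ∃ p : ℕ, p.Prime ∧ Cfsg.IsElementaryAbelian p K ∧ Nat.card K = (K.subgroupOf N).index + 1) ∨
    ∃ (ε : ℂ) (f : {χ : Cfsg.IrrCharacter N // ∃ k : N, (k : G) ∈ K ∧
        (χ : N → ℂ) k ≠ (χ : N → ℂ) 1} → Cfsg.IrrCharacter G),
      (ε = 1 ∨ ε = -1) ∧ Function.Injective f ∧ ∀ χ ξ,
        Cfsg.indFun N ((χ.1 : N → ℂ) - (ξ.1 : N → ℂ)) = ε • ((f χ : G → ℂ) - (f ξ : G → ℂ)) := by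
  classical
  have : Fintype N := Fintype.ofFinite N
  let R := {χ : Cfsg.IrrCharacter N // ∃ k : N, (k : G) ∈ K ∧ (χ : N → ℂ) k ≠ (χ : N → ℂ) 1}
  by_cases h1 : Nat.card R = 1
  · left
    refine ⟨h1, ?_⟩
    obtain ⟨hsub, ⟨χ, k₀, hk₀, hne₀⟩⟩ := Nat.card_eq_one_iff_unique.1 h1
    have hk₀1 : k₀ ≠ 1 := fun e => hne₀ (by rw [e])
    have hval : ∀ k : N, (k : G) ∈ K → k ≠ 1 → IsConj k₀ k := by
      intro k hk hk1
      rw [isConj_iff_forall_irr]
      intro η
      have hcol : ∀ l : N, l ≠ 1 → ∑ η : IrrCharacter N, (η : N → ℂ) l * (η : N → ℂ) 1 = 0 := by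
        intro l hl
        have h := sum_irr_mul_conj l (1 : N)
        rw [if_neg (fun e => hl (isConj_one_left.1 e))] at h
        rw [← h]
        refine Finset.sum_congr rfl fun η _ => ?_
        obtain ⟨d, -, hd⟩ := isIrrCharacter_apply_one η.2
        rw [hd, Complex.conj_natCast]
      have hother : ∀ η : IrrCharacter N, η ≠ χ → (η : N → ℂ) k₀ = (η : N → ℂ) k := by
        intro η hη
        by_cases hr : Rel K N (η : N → ℂ)
        · exact absurd (congrArg Subtype.val (hsub.elim ⟨η, hr⟩ ⟨χ, k₀, hk₀, hne₀⟩)) hη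
        · rw [eq_apply_one_of_not_rel hr hk₀, eq_apply_one_of_not_rel hr hk]
      by_cases hη : η = χ
      · subst hη
        have e1 := hcol k₀ hk₀1
        have e2 := hcol k hk1
        rw [← Finset.sum_erase_add _ _ (Finset.mem_univ η)] at e1 e2
        rw [Finset.sum_congr rfl fun ζ hζ => by rw [hother ζ (Finset.ne_of_mem_erase hζ)]] at e1
        have h3 : (η : N → ℂ) k₀ * (η : N → ℂ) 1 = (η : N → ℂ) k * (η : N → ℂ) 1 := by
          linear_combination e1 - e2
        exact mul_right_cancel₀ (isIrrCharacter_apply_one_ne_zero η.2) h3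
      · exact hother η hη
    have hord : ∀ k : N, (k : G) ∈ K → k ≠ 1 → orderOf (k : G) = orderOf (k₀ : G) := by
      intro k hk hk1
      obtain ⟨c, hc⟩ := isConj_iff.1 (hval k hk hk1)
      rw [Subgroup.orderOf_coe, Subgroup.orderOf_coe, ← hc]
      exact orderOf_injective (MulAut.conj c).toMonoidHom (MulAut.conj c).injective k₀
    have hk₀G : (k₀ : G) ≠ 1 := fun e => hk₀1 (Subtype.ext e)
    have hn1 : orderOf (k₀ : G) ≠ 1 := fun e => hk₀G (orderOf_eq_one_iff.1 e)
    let p := (orderOf (k₀ : G)).minFac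
    have hp : p.Prime := Nat.minFac_prime hn1
    have hpd : p ∣ orderOf (k₀ : G) := Nat.minFac_dvd _
    have hop : orderOf (k₀ : G) = p := by
      have hx : orderOf ((k₀ : G) ^ (orderOf (k₀ : G) / p)) = p :=
        orderOf_pow_orderOf_div (orderOf_pos (k₀ : G)).ne' hpd
      have hxK := K.pow_mem hk₀ (orderOf (k₀ : G) / p)
      have hx1 : (k₀ : G) ^ (orderOf (k₀ : G) / p) ≠ 1 := fun e => by
        rw [e, orderOf_one] at hx; exact hp.one_lt.ne hx
      have := hord ⟨_, hKN hxK⟩ hxK (fun e => hx1 (congrArg Subtype.val e))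
      rw [hx] at this
      exact this.symm
    refine ⟨p, hp, ⟨⟨⟨fun a b => Subtype.ext (hab a a.2 b b.2)⟩⟩, fun a ha => ?_⟩, ?_⟩
    · by_cases ha1 : a = 1
      · rw [ha1, one_pow]
      · have h2 := hord ⟨a, hKN ha⟩ ha (fun e => ha1 (congrArg Subtype.val e))
        rw [hop] at h2
        rw [← h2]
        exact pow_orderOf_eq_one a
    · have hcent : Subgroup.centralizer ({k₀} : Set N) = K.subgroupOf N := by
        refine le_antisymm (centralizer_le_subgroupOf hC k₀ hk₀ hk₀1) fun g hg => ?_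
        rw [Subgroup.mem_centralizer_iff]
        rintro y rfl
        exact Subtype.ext (hab y hk₀ g hg)
      have hcl : Nat.card {g : N // IsConj k₀ g} + 1 = Nat.card K := by
        rw [← Nat.card_congr (Subgroup.subgroupOfEquivOfLe hKN).toEquiv,
          ← Nat.card_congr (Equiv.subtypeEquivRight (p := fun g : N => (g : G) ∈ K)
            (q := fun g => g ∈ K.subgroupOf N) (fun g => Iff.rfl))]
        rw [Nat.card_eq_fintype_card, Nat.card_eq_fintype_card, Fintype.card_subtype, Fintype.card_subtype,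
          show (Finset.univ.filter fun g : N => (g : G) ∈ K) =
            insert 1 (Finset.univ.filter fun g : N => IsConj k₀ g) from ?_, Finset.card_insert_of_notMem]
        · simp only [Finset.mem_filter, Finset.mem_univ, true_and]
          exact fun e => hk₀1 (isConj_one_left.1 e)
        · ext g
          simp only [Finset.mem_filter, Finset.mem_univ, true_and, Finset.mem_insert]
          refine ⟨fun hg => or_iff_not_imp_left.2 (hval g hg), ?_⟩
          rintro (rfl | hg)
          · exact K.one_mem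
          · obtain ⟨c, rfl⟩ := isConj_iff.1 hg
            exact hnor.conj_mem k₀ hk₀ c
      have h4 := card_conj_mul_card_centralizer k₀
      rw [hcent, ← (K.subgroupOf N).index_mul_card] at h4
      rw [← hcl, Nat.eq_of_mul_eq_mul_right Nat.card_pos h4]
  · right
    have : Finite (IrrCharacter N) := finite_irrCharacter
    have : Fintype R := Fintype.ofFinite R
    rcases isEmpty_or_nonempty R with hR | hR
    · exact ⟨1, fun χ => isEmptyElim (show R from χ), Or.inl rfl,
        fun χ => isEmptyElim (show R from χ), fun χ => isEmptyElim (show R from χ)⟩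
    obtain ⟨r₀⟩ := hR
    let e := Fintype.equivFin R
    let i₀ := e r₀
    have hCN := centralizer_le_subgroupOf (K := K) (N := N) hC
    have hdeg : ∀ r : R, (r.1 : N → ℂ) 1 = ((K.subgroupOf N).index : ℂ) := by
      intro r
      obtain ⟨θ, hθ, hr⟩ := exists_ind_eq_of_centralizer (G := N) (K.subgroupOf N) hCN r.1.2
        (let ⟨k, hk, hne⟩ := r.2; ⟨k, hk, hne⟩)
      have hcomm : ∀ a b : K.subgroupOf N, a * b = b * a := fun a b =>
        Subtype.ext (Subtype.ext (hab _ a.2 _ b.2))
      rw [hr, ind_one_apply, CharBasicLinear.apply_one_eq_one_of_comm hcomm hθ, mul_one]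
    let d : R → R → (N → ℂ) := fun a b => (a.1 : N → ℂ) - (b.1 : N → ℂ)
    have hd1 : ∀ a b, d a b 1 = 0 := fun a b => by simp [d, hdeg]
    have hdv : ∀ a b (x : N), (x : G) ∉ K → d a b x = 0 := fun a b x hx => by
      simp [d, vanish hC a.1.2 a.2 hx, vanish hC b.1.2 b.2 hx]
    have hdc : ∀ a b, IsClassFunction N (d a b) := fun a b x y => by
      simp [d, isClassFunction_irr a.1.2 x y, isClassFunction_irr b.1.2 x y]
    let τ : Fin (Fintype.card R) → (G → ℂ) := fun i => indFun N (d (e.symm i) r₀)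
    have hτ1 : ∀ i, τ i 1 = 0 := fun i => by simp [τ, ind_one_apply, hd1]
    have hτg : ∀ i, IsGeneralizedCharacter G (τ i) := fun i =>
      isGenChar_ind N (isGeneralizedCharacter_sub
        (isGeneralizedCharacter_of_isCharacter (isCharacter_of_isIrrCharacter (e.symm i).1.2))
        (isGeneralizedCharacter_of_isCharacter (isCharacter_of_isIrrCharacter r₀.1.2)))
    have hτ0 : τ i₀ = 0 := by
      simp only [τ, i₀, Equiv.symm_apply_apply, d, sub_self]
      rw [← zero_smul ℂ (0 : N → ℂ), ind_smul, zero_smul]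
    obtain ⟨ε, hε, μ, hμ, hμinj, hμτ⟩ := Cfsg.Agent.S0198.result (Fintype.card R) i₀ τ hτ0 hτg hτ1
      (fun i j hi hj => by
        have hi' : e.symm i ≠ r₀ := fun h => hi (by simp [i₀, ← h])
        have hj' : e.symm j ≠ r₀ := fun h => hj (by simp [i₀, ← h])
        simp only [τ]
        rw [inner_ind hTI (hdc _ _) (hdv _ _) (hdv _ _) (hd1 _ _)]
        simp only [d, CharBasicOrth.classInner_sub_left, CharBasicOrth.classInner_sub_right,
          classInner_irrCharacter]
        have e1 : ¬ (e.symm i).1 = r₀.1 := fun h => hi' (Subtype.ext h)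
        have e2 : ¬ r₀.1 = (e.symm j).1 := fun h => hj' (Subtype.ext h.symm)
        by_cases hij : i = j
        · subst hij; simp [e1, e2]; norm_num
        · have e3 : ¬ (e.symm i).1 = (e.symm j).1 := fun h => hij (e.symm.injective (Subtype.ext h))
          simp [e1, e2, e3, hij])
    refine ⟨ε, fun χ => ⟨μ (e χ), hμ _⟩, hε, fun a b h => e.injective (hμinj (congrArg Subtype.val h)),
      fun a b => ?_⟩
    have ha := hμτ (e a)
    have hb := hμτ (e b)
    simp only [τ, Equiv.symm_apply_apply] at ha hb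
    rw [show (a.1 : N → ℂ) - (b.1 : N → ℂ) = d a r₀ - d b r₀ by simp [d], ind_sub, ha, hb,
      ← smul_sub, sub_sub_sub_cancel_right]

/-- Let K be a subgroup of the finite group G that meets each conjugate by an element outside its normalizer N trivially, is properly contained in N, and contains the centralizer of each of its non-identity elements (a T.I. subgroup with Frobenius normalizer). Suppose K is abelian, let e be the index of K in N, and call an irreducible character of N relevant when it takes at some element of K a value different from its degree. Then either there is exactly one relevant character and K is an elementary abelian p-group of order e + 1 for some prime p, or there are a sign ε and an injective map f from the relevant characters to the irreducible characters of G such that inducing χ - ξ to G gives ε (f χ - f ξ) for all relevant χ and ξ. -/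
theorem result {G : Type*} [Group G] [Fintype G] (K : Subgroup G) (hTI : ∀ g : G, g ∉ Subgroup.normalizer (K : Set G) → ∀ k ∈ K, g * k * g⁻¹ ∈ K → k = 1) (hlt : K < Subgroup.normalizer (K : Set G)) (hC : ∀ k ∈ K, k ≠ 1 → Subgroup.centralizer ({k} : Set G) ≤ K) (hab : ∀ a ∈ K, ∀ b ∈ K, a * b = b * a) : (Nat.card {χ : Cfsg.IrrCharacter (Subgroup.normalizer (K : Set G)) // ∃ k : Subgroup.normalizer (K : Set G), (k : G) ∈ K ∧ (χ : ↥(Subgroup.normalizer (K : Set G)) → ℂ) k ≠ (χ : ↥(Subgroup.normalizer (K : Set G)) → ℂ) 1} = 1 ∧ ∃ p : ℕ, p.Prime ∧ Cfsg.IsElementaryAbelian p K ∧ Nat.card K = (K.subgroupOf (Subgroup.normalizer (K : Set G))).index + 1) ∨ ∃ (ε : ℂ) (f : {χ : Cfsg.IrrCharacter (Subgroup.normalizer (K : Set G)) // ∃ k : Subgroup.normalizer (K : Set G), (k : G) ∈ K ∧ (χ : ↥(Subgroup.normalizer (K : Set G)) → ℂ) k ≠ (χ : ↥(Subgroup.normalizer (K : Set G)) → ℂ) 1} → Cfsg.IrrCharacter G), (ε = 1 ∨ ε = -1) ∧ Function.Injective f ∧ ∀ χ ξ, Cfsg.indFun (Subgroup.normalizer (K : Set G)) ((χ.1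 : ↥(Subgroup.normalizer (K : Set G)) → ℂ) - (ξ.1 : ↥(Subgroup.normalizer (K : Set G)) → ℂ)) = ε • ((f χ : G → ℂ) - (f ξ : G → ℂ)) := by
  classical
  exact aux K (Subgroup.normalizer (K : Set G)) Subgroup.normal_in_normalizer hlt.le hTI hC hab

end Cfsg.Agent.S0851
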