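import Cfsg.Statements.S0852
import Cfsg.Agent.Lib.CharInducedTIExc

set_option autoImplicit false
open Cfsg

namespace Cfsg.Agent.S0852

/-- Let K be a subgroup of the finite group G that meets each conjugate by an element outside its normalizer N trivially, is properly contained in N, and contains the centralizer of each of its non-identity elements (a T.I. subgroup with Frobenius normalizer). Let S be the set of irreducible characters of N taking at some element of K a value different from their degree, suppose S has at least two members, and let star be a linear isometry on the integer span of S into the generalized characters of G that agrees with induction on the members vanishing at the identity (so S is coherent, with star as the extending isometry). Then an irreducible character ψ of G is of the form star χ or -star χ for some χ in S if and only if ψ is not constant on the non-identity elements of K. -/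
theorem result {G : Type*} [Group G] [Fintype G] (K : Subgroup G) (hTI : ∀ g : G, g ∉ Subgroup.normalizer (K : Set G) → ∀ k ∈ K, g * k * g⁻¹ ∈ K → k = 1) (hlt : K < Subgroup.normalizer (K : Set G)) (hC : ∀ k ∈ K, k ≠ 1 → Subgroup.centralizer ({k} : Set G) ≤ K) [Fintype ↥(Subgroup.normalizer (K : Set G))] (S : Set (↥(Subgroup.normalizer (K : Set G)) → ℂ)) (hS : S = {χ : ↥(Subgroup.normalizer (K : Set G)) → ℂ | Cfsg.IsIrrCharacter ↥(Subgroup.normalizer (K : Set G)) χ ∧ ∃ k : ↥(Subgroup.normalizer (K : Set G)), (k : G) ∈ K ∧ χ k ≠ χ 1}) (htwo : ∃ χ ∈ S, ∃ ξ ∈ S, χ ≠ ξ) (star : (↥(Subgroup.normalizer (K : Set G)) → ℂ) → (G → ℂ)) (hstar : Cfsg.IsLinearIsometryOn (Cfsg.zspan S) star) (hext : ∀ α ∈ Cfsg.zspanOn S ({1}ᶜ : Set ↥(Subgroup.normalizer (K : Set G))), star α = Cfsg.indFun (Subgroup.normalizer (K : Set G)) α) (ψ : G → ℂ) (hψ : Cfsg.IsIrrCharacter G ψ) : (∃ χ ∈ S, ψ = star χ ∨ ψ = -star χ) ↔ ∃ a ∈ K, ∃ b ∈ K, a ≠ 1 ∧ b ≠ 1 ∧ ψ a ≠ ψ b := by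
  classical
  have h : Cfsg.Agent.CharInducedTIExc.Data K (Subgroup.normalizer (K : Set G)) S star :=
    ⟨Subgroup.normal_in_normalizer, hlt.le, hTI, hC, hS, hstar, hext⟩
  have hψc := CharBasic.isClassFunction_of_isCharacter (CharBasic.isCharacter_of_isIrrCharacter hψ)
  constructor
  · rintro ⟨χ, hχ, hcase⟩
    by_contra hcon
    push Not at hcon
    obtain ⟨hχi, k₀, hk₀, hne₀⟩ := (CharInducedTIExc.mem_iff h).1 hχ
    have hk₀1 : k₀ ≠ 1 := fun e => hne₀ (by rw [e])
    have hK : ∀ k : ↥(Subgroup.normalizer (K : Set G)), (k : G) ∈ K → k ≠ 1 → χ k = χ k₀ := by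
      intro k hk hk1
      have h1 := CharInducedTIExc.const_of_inner h
        (CharBasicDecomp.isClassFunction_of_isGeneralizedCharacter (CharInducedTIExc.star_irr h hχ).1)
        (CharBasic.isClassFunction_of_isCharacter (CharBasic.isCharacter_of_isIrrCharacter hχi))
        (fun η hη => CharInducedTIExc.inner_star h hη hχ) hk hk1 hk₀ hk₀1
      have h2 := hcon k hk k₀ hk₀ (fun e => hk1 (Subtype.ext e)) (fun e => hk₀1 (Subtype.ext e))
      rcases hcase with e | e
      · rw [← e, h2] at h1
        linear_combination -h1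
      · rw [e] at h2
        simp only [Pi.neg_apply, neg_inj] at h2
        rw [h2] at h1
        linear_combination -h1
    obtain ⟨ξ, hξ, hξne⟩ : ∃ ξ ∈ S, ξ ≠ χ := by
      obtain ⟨a, ha, b, hb, hab⟩ := htwo
      by_cases hax : a = χ
      · exact ⟨b, hb, fun e => hab (hax.trans e.symm)⟩
      · exact ⟨a, ha, hax⟩
    obtain ⟨hξi, hξr⟩ := (CharInducedTIExc.mem_iff h).1 hξ
    have := h.normal
    have hsum := CharInducedTIFrob.sum_on (K := K) h.le hξi hξr hC
    have h0 := CharBasicOrth.classInner_irr_ne hχi hξi hξne.symm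
    rw [classInner, mul_eq_zero] at h0
    have h0' := h0.resolve_left (inv_ne_zero (Nat.cast_ne_zero.2 Nat.card_pos.ne'))
    rw [← Finset.sum_subset (Finset.subset_univ (Finset.univ.filter
      fun x : ↥(Subgroup.normalizer (K : Set G)) => x ∈ K.subgroupOf (Subgroup.normalizer (K : Set G))))
      (fun x _ hx => by
        rw [CharInducedTIFrob.vanish (K := K) hC hχi ⟨k₀, hk₀, hne₀⟩
          (fun e => hx (Finset.mem_filter.2 ⟨Finset.mem_univ _, e⟩)), zero_mul]),
      Finset.sum_subtype (p := fun x => x ∈ K.subgroupOf (Subgroup.normalizer (K : Set G))) _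
        (fun x => by simp) (fun x => χ x * (starRingEnd ℂ) (ξ x))] at h0'
    have h1 : ∀ x : K.subgroupOf (Subgroup.normalizer (K : Set G)),
        χ x * (starRingEnd ℂ) (ξ x) = χ k₀ * (starRingEnd ℂ) (ξ x) +
          (if x = 1 then (χ 1 - χ k₀) * (starRingEnd ℂ) (ξ 1) else 0) := by
      intro x
      split_ifs with hx
      · subst hx; simp; ring
      · rw [hK x x.2 (fun e => hx (Subtype.ext e)), add_zero]
    rw [Finset.sum_congr rfl (fun x _ => h1 x), Finset.sum_add_distrib, ← Finset.mul_sum,
      ← map_sum, hsum, map_zero, mul_zero, zero_add, Finset.sum_ite_eq' Finset.univ 1,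
      if_pos (Finset.mem_univ _), mul_eq_zero] at h0'
    rcases h0' with h2 | h2
    · exact hne₀ (sub_eq_zero.1 h2).symm
    · exact CharBasic.isIrrCharacter_apply_one_ne_zero hξi ((map_eq_zero _).1 h2)
  · rintro ⟨a, ha, b, hb, ha1, hb1, hne⟩
    by_contra hcon
    push Not at hcon
    apply hne
    have h1 := CharInducedTIExc.const_of_inner h hψc
      (β := fun _ : ↥(Subgroup.normalizer (K : Set G)) => (0 : ℂ)) (fun _ _ => rfl)
      (fun χ hχ => by
        obtain ⟨-, φ, hφ, hcase⟩ := CharInducedTIExc.star_irr h hχ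
        have h0 : classInner χ (fun _ : ↥(Subgroup.normalizer (K : Set G)) => (0 : ℂ)) = 0 := by
          simp [classInner]
        rcases hcase with e | e
        · rw [h0, e, CharBasicOrth.classInner_irr_ne hφ hψ (fun e' => (hcon χ hχ).1 (by rw [e, e']))]
        · rw [h0, e, CharBasicOrth.classInner_neg_left, CharBasicOrth.classInner_irr_ne hφ hψ
            (fun e' => (hcon χ hχ).2 (by rw [e, neg_neg, e'])), neg_zero])
      (k := ⟨a, hlt.le ha⟩) (l := ⟨b, hlt.le hb⟩) ha (fun e => ha1 (congrArg Subtype.val e)) hb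
      (fun e => hb1 (congrArg Subtype.val e))
    simpa using h1

end Cfsg.Agent.S0852
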