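import Cfsg.Statements.S0853
import Cfsg.Agent.Lib.CharInducedTIExc

set_option autoImplicit false
open Cfsg

namespace Cfsg.Agent.S0853

theorem aux {G : Type*} [Group G] [Fintype G] {K N : Subgroup G} [Fintype N] {S : Set (N → ℂ)}
    {star : (N → ℂ) → (G → ℂ)} (h : Cfsg.Agent.CharInducedTIExc.Data K N S star)
    (htwo : ∃ χ ∈ S, ∃ ξ ∈ S, χ ≠ ξ) :
    ∃ m : ℤ, ∀ χ ∈ S, ∀ k : N, (k : G) ∈ K → k ≠ 1 →
      star χ k - χ k = (m : ℂ) * χ 1 / ((K.subgroupOf N).index : ℂ) := by
  classical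
  have := h.normal
  set K' := K.subgroupOf N with hK'
  have : Fintype K' := Fintype.ofFinite _
  obtain ⟨ξ, hξ, -⟩ := htwo
  obtain ⟨hξi, hξr⟩ := (CharInducedTIExc.mem_iff h).1 hξ
  obtain ⟨k₀, hk₀, hne₀⟩ := hξr
  have hk₀1 : k₀ ≠ 1 := fun e => hne₀ (by rw [e])
  have hC' := CharInducedTIFrob.centralizer_le_subgroupOf (K := K) (N := N) h.cent
  obtain ⟨θ₀, hθ₀, hξθ⟩ := CharInduced.exists_ind_eq_of_centralizer (G := N) K' hC' hξi
    ⟨k₀, hk₀, hne₀⟩
  obtain ⟨d₀, hd₀pos, hθd₀, hd₀K⟩ := CharBasicInt.exists_apply_one_dvd_card hθ₀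
  have hξ1 : ξ 1 = (K'.index : ℂ) * d₀ := by rw [hξθ, CharInduced.ind_one_apply, hθd₀]
  have hconst : ∀ χ ∈ S, ∀ k : N, (k : G) ∈ K → k ≠ 1 →
      star χ k - χ k = star χ k₀ - χ k₀ := fun χ hχ k hk hk1 =>
    CharInducedTIExc.const_of_inner h
      (CharBasicDecomp.isClassFunction_of_isGeneralizedCharacter (CharInducedTIExc.star_irr h hχ).1)
      (CharBasic.isClassFunction_of_isCharacter (CharBasic.isCharacter_of_isIrrCharacter
        ((CharInducedTIExc.mem_iff h).1 hχ).1))
      (fun η hη => CharInducedTIExc.inner_star h hη hχ) hk hk1 hk₀ hk₀1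
  have hint : ∀ χ ∈ S, ∃ c : ℤ, star χ k₀ - χ k₀ = c := by
    intro χ hχ
    obtain ⟨hg, -⟩ := CharInducedTIExc.star_irr h hχ
    obtain ⟨hχi, hχr⟩ := (CharInducedTIExc.mem_iff h).1 hχ
    have hgen : IsGeneralizedCharacter N (fun x : N => star χ x - χ x) :=
      CharBasicDecomp.isGeneralizedCharacter_sub (CharInduced.isGenChar_res N hg)
        (CharBasicDecomp.isGeneralizedCharacter_of_isCharacter
          (CharBasic.isCharacter_of_isIrrCharacter hχi))
    obtain ⟨a, b, ha, hb, hab⟩ := CharInduced.isGenChar_res K' hgen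
    obtain ⟨u, hu⟩ := CharBasicOrth.classInner_isCharacter ha (CharBasicDecomp.isCharacter_one (G := K'))
    obtain ⟨v, hv⟩ := CharBasicOrth.classInner_isCharacter hb (CharBasicDecomp.isCharacter_one (G := K'))
    obtain ⟨p, hp⟩ := CharBasic.isCharacter_apply_one ha
    obtain ⟨q, hq⟩ := CharBasic.isCharacter_apply_one hb
    let x₀ : K' := ⟨k₀, hk₀⟩
    set C := star χ k₀ - χ k₀ with hC0
    have hval : ∀ x : K', a x - b x = star χ ((x : N) : G) - χ x := fun x => (congrFun hab x).symm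
    have hCint : IsIntegral ℤ C := by
      rw [hC0, ← hval x₀]
      exact (CharBasic.isCharacter_integral ha x₀).sub (CharBasic.isCharacter_integral hb x₀)
    have hsum : (p : ℂ) - q - C + (Nat.card K' : ℂ) * C = (Nat.card K' : ℂ) * ((u : ℂ) - v) := by
      conv_rhs => rw [mul_sub, ← hu, ← hv, CharBasicOrth.card_mul_classInner, CharBasicOrth.card_mul_classInner]
      simp only [map_one, mul_one, ← Finset.sum_sub_distrib]
      rw [Finset.sum_congr rfl (g := fun x : K' => C + if x = 1 then ((p : ℂ) - q - C) else 0)]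
      · rw [Finset.sum_add_distrib, Finset.sum_ite_eq' Finset.univ 1, if_pos (Finset.mem_univ _),
          Finset.sum_const, Finset.card_univ, ← Nat.card_eq_fintype_card, nsmul_eq_mul]
        ring
      · intro x _
        split_ifs with hx
        · subst hx; rw [hp, hq]; ring
        · rw [hval, hconst χ hχ x x.2 (fun e => hx (Subtype.ext e)), add_zero]
    have hcard : (1 : ℕ) < Nat.card K' := by
      rw [Finite.one_lt_card_iff_nontrivial]
      exact ⟨⟨x₀, 1, fun e => hk₀1 (congrArg Subtype.val e)⟩⟩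
    have hne : (Nat.card K' : ℚ) - 1 ≠ 0 := by
      have : (1 : ℚ) < Nat.card K' := by exact_mod_cast hcard
      linarith
    have hne' : (Nat.card K' : ℂ) - 1 ≠ 0 := by exact_mod_cast (Rat.cast_ne_zero (α := ℂ)).2 hne
    have hrat : C = algebraMap ℚ ℂ (((Nat.card K' : ℚ) * ((u : ℚ) - v) - ((p : ℚ) - q)) /
        ((Nat.card K' : ℚ) - 1)) := by
      simp only [map_div₀, map_sub, map_mul, map_natCast, map_one]
      rw [eq_div_iff hne']
      linear_combination hsum
    rw [hrat, isIntegral_algebraMap_iff (algebraMap ℚ ℂ).injective] at hCint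
    obtain ⟨c, hc⟩ := IsIntegrallyClosed.isIntegral_iff.1 hCint
    refine ⟨c, hrat.trans ?_⟩
    rw [← hc]
    simp
  choose c hc using hint
  have hprop : ∀ χ (hχ : χ ∈ S), (c χ hχ : ℂ) * ξ 1 = (c ξ hξ : ℂ) * χ 1 := by
    intro χ hχ
    obtain ⟨hχi, hχr⟩ := (CharInducedTIExc.mem_iff h).1 hχ
    have h1 := congrFun (CharInducedTIExc.star_gen h hχ hξ) (k₀ : G)
    rw [CharInducedTIFrob.ind_eq (K := K) h.ti (CharInducedTIFrob.gen_class hχi hξi)
      (CharInducedTIFrob.gen_vanish h.cent hχi hχr hξi ⟨k₀, hk₀, hne₀⟩) k₀ hk₀ hk₀1] at h1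
    simp only [CharInducedTIFrob.gen, Pi.sub_apply, Pi.smul_apply, smul_eq_mul] at h1
    rw [← hc χ hχ, ← hc ξ hξ]
    linear_combination h1
  have hdvd : (d₀ : ℤ) ∣ c ξ hξ := by
    have hterm : ∀ η : IrrCharacter K', ∃ n : ℕ, (η : K' → ℂ) 1 = n ∧
        ((η : K' → ℂ) ≠ (fun _ => 1) → (d₀ : ℤ) ∣ c ξ hξ * n) := by
      intro η
      obtain ⟨n, -, hn⟩ := CharBasic.isIrrCharacter_apply_one η.2
      refine ⟨n, hn, fun hne => ?_⟩
      obtain ⟨hirr, hrel⟩ := CharInducedTIFrob.rel_of_ind (K := K) h.cent η.2 hne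
      have hmem := (CharInducedTIExc.mem_iff h).2 ⟨hirr, hrel⟩
      have h1 := hprop _ hmem
      rw [hξ1, CharInduced.ind_one_apply, hn] at h1
      have h2 : (c _ hmem : ℂ) * (d₀ : ℂ) = (c ξ hξ : ℂ) * (n : ℂ) :=
        mul_left_cancel₀ (Nat.cast_ne_zero.2 K'.index_ne_zero_of_finite) (by linear_combination h1)
      exact ⟨c _ hmem, by rw [mul_comm (d₀ : ℤ)]; exact_mod_cast h2.symm⟩
    choose n hn hdiv using hterm
    have hsq : ∑ η, n η ^ 2 = Nat.card K' := by
      have h1 := CharBasicOrth.sum_sq_apply_one (G := K')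
      simp only [hn] at h1
      exact_mod_cast h1
    have htriv : n (CharBasicDecomp.trivIrr K') = 1 := by
      have h1 := hn (CharBasicDecomp.trivIrr K')
      rw [show ((CharBasicDecomp.trivIrr K' : IrrCharacter K') : K' → ℂ) 1 = 1 from rfl] at h1
      exact_mod_cast h1.symm
    have h1 : (d₀ : ℤ) ∣ ∑ η ∈ Finset.univ.erase (CharBasicDecomp.trivIrr K'),
        c ξ hξ * n η * n η :=
      Finset.dvd_sum fun η hη => (hdiv η (fun e => Finset.ne_of_mem_erase hη (Subtype.ext e))).mul_right _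
    have h2 := Finset.sum_erase_add Finset.univ (fun η => c ξ hξ * n η * n η)
      (Finset.mem_univ (CharBasicDecomp.trivIrr K'))
    rw [htriv, Finset.sum_congr rfl (fun η _ => by
      rw [mul_assoc, ← sq] : ∀ η ∈ (Finset.univ : Finset (IrrCharacter K')),
        c ξ hξ * n η * n η = c ξ hξ * (n η : ℤ) ^ 2), ← Finset.mul_sum] at h2
    have h3 : (∑ η, (n η : ℤ) ^ 2) = (Nat.card K' : ℤ) := by exact_mod_cast hsq
    rw [h3] at h2
    have h4 : c ξ hξ = c ξ hξ * (Nat.card K' : ℤ) -
        ∑ η ∈ Finset.univ.erase (CharBasicDecomp.trivIrr K'), c ξ hξ * n η * n η := by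
      simp only [Nat.cast_one, mul_one] at h2
      linarith
    rw [h4]
    exact dvd_sub (Dvd.dvd.mul_left (Int.natCast_dvd_natCast.2 hd₀K) _) h1
  obtain ⟨m, hm⟩ := hdvd
  refine ⟨m, fun χ hχ k hk hk1 => ?_⟩
  rw [hconst χ hχ k hk hk1, hc χ hχ, eq_div_iff (Nat.cast_ne_zero.2 K'.index_ne_zero_of_finite)]
  have h1 := hprop χ hχ
  rw [hξ1, hm] at h1
  push_cast at h1
  exact mul_left_cancel₀ (Nat.cast_ne_zero.2 hd₀pos.ne') (by linear_combination h1)


/-- Let K be a subgroup of the finite group G that meets each conjugate by an element outside its normalizer N trivially, is properly contained in N, and contains the centralizer of each of its non-identity elements (a T.I. subgroup with Frobenius normalizer). Let S be the set of irreducible characters of N taking at some element of K a value different from their degree, suppose S has at least two members, and let star be a linear isometry on the integer span of S into the generalized characters of G that agrees with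 induction on the members vanishing at the identity (so S is coherent, with star as the extending isometry). Then there is a single integer m such that star χ k - χ k = m * χ 1 / e for every χ in S and every non-identity element k of K, where e is the index of K in N. -/
theorem result {G : Type*} [Group G] [Fintype G] (K : Subgroup G) (hTI : ∀ g : G, g ∉ Subgroup.normalizer (K : Set G) → ∀ k ∈ K, g * k * g⁻¹ ∈ K → k = 1) (hlt : K < Subgroup.normalizer (K : Set G)) (hC : ∀ k ∈ K, k ≠ 1 → Subgroup.centralizer ({k} : Set G) ≤ K) [Fintype ↥(Subgroup.normalizer (K : Set G))] (S : Set (↥(Subgroup.normalizer (K : Set G)) → ℂ)) (hS : S = {χ : ↥(Subgroup.normalizer (K : Set G)) → ℂ | Cfsg.IsIrrCharacter ↥(Subgroup.normalizer (K : Set G)) χ ∧ ∃ k : ↥(Subgroup.normalizer (K : Set G)), (k : G) ∈ K ∧ χ k ≠ χ 1}) (htwo : ∃ χ ∈ S, ∃ ξ ∈ S, χ ≠ ξ) (star : (↥(Subgroup.normalizer (K : Set G)) → ℂ) → (G → ℂ)) (hstar : Cfsg.IsLinearIsometryOn (Cfsg.zspan S) star) (hext : ∀ α ∈ Cfsg.zspanOn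 S ({1}ᶜ : Set ↥(Subgroup.normalizer (K : Set G))), star α = Cfsg.indFun (Subgroup.normalizer (K : Set G)) α) : ∃ m : ℤ, ∀ χ ∈ S, ∀ k : ↥(Subgroup.normalizer (K : Set G)), (k : G) ∈ K → k ≠ 1 → star χ k - χ k = (m : ℂ) * χ 1 / ((K.subgroupOf (Subgroup.normalizer (K : Set G))).index : ℂ) := by
  exact aux ⟨Subgroup.normal_in_normalizer, hlt.le, hTI, hC, hS, hstar, hext⟩ htwo

end Cfsg.Agent.S0853
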