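import Cfsg.Statements.S0855
import Cfsg.Agent.S0169
import Cfsg.Agent.S0887
import Cfsg.Agent.Lib.CharInducedRep
import Cfsg.Agent.Lib.CharBasicLinear
import Cfsg.Agent.Lib.CharBasicInt

set_option autoImplicit false
open Cfsg

namespace Cfsg.Agent.S0855

open Cfsg.Agent.CharBasic Cfsg.Agent.CharBasicOrth Cfsg.Agent.CharBasicDecomp Cfsg.Agent.CharInduced

universe u

theorem aux (p : ℕ) (hp : p.Prime) (n : ℕ) : ∀ {G : Type u} [Group G] [Finite G], Nat.card G = n →
    (∀ χ : Cfsg.IrrCharacter G, ∃ k : ℕ, (χ : G → ℂ) 1 = (p : ℂ) ^ k) →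
    ∃ A : Subgroup G, A.Normal ∧ (∀ a ∈ A, ∀ b ∈ A, a * b = b * a) ∧ Nat.Coprime (Nat.card A) p ∧
      ∃ k : ℕ, A.index = p ^ k := by
  induction n using Nat.strong_induction_on with
  | _ n ih =>
  intro G _ _ hn hdeg
  classical
  have := Fintype.ofFinite G
  by_cases hpn : p ∣ Nat.card G
  swap
  · have hall : ∀ χ : Cfsg.IrrCharacter G, (χ : G → ℂ) 1 = 1 := by
      intro χ
      obtain ⟨k, hk⟩ := hdeg χ
      obtain ⟨d, -, hd, hdvd⟩ := Cfsg.Agent.CharBasicInt.exists_apply_one_dvd_card χ.2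
      rcases Nat.eq_zero_or_pos k with rfl | hkpos
      · rw [hk, pow_zero]
      · rw [hd, ← Nat.cast_pow, Nat.cast_inj] at hk
        exact absurd (((dvd_pow_self p hkpos.ne').trans (dvd_of_eq hk.symm)).trans hdvd) hpn
    refine ⟨⊤, inferInstance, fun a _ b _ => CharBasicLinear.comm_of_forall_apply_one hall a b, ?_, 0, by simp⟩
    rw [Subgroup.card_top]
    exact ((Nat.Prime.coprime_iff_not_dvd hp).2 hpn).symm
  -- the number of linear characters is divisible by `p`
  choose e he using hdeg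
  have hindex : p ∣ (commutator G).index := by
    have hsum : ∑ χ : Cfsg.IrrCharacter G, p ^ (2 * e χ) = Nat.card G := by
      have h := sum_sq_apply_one (G := G)
      simp only [he, ← pow_mul, mul_comm (e _) 2] at h
      exact_mod_cast h
    rw [← hsum, ← Finset.sum_filter_add_sum_filter_not Finset.univ (fun χ => e χ = 0)] at hpn
    have h2 : p ∣ ∑ χ ∈ Finset.univ.filter (fun χ : Cfsg.IrrCharacter G => ¬ e χ = 0), p ^ (2 * e χ) :=
      Finset.dvd_sum fun χ hχ => dvd_pow_self p (by have := (Finset.mem_filter.1 hχ).2; omega)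
    have h3 := (Nat.dvd_add_left h2).1 hpn
    rw [Finset.sum_congr rfl (g := fun _ => 1) (fun χ hχ => by rw [(Finset.mem_filter.1 hχ).2, mul_zero, pow_zero]),
      Finset.sum_const, smul_eq_mul, mul_one, ← Fintype.card_subtype, ← Nat.card_eq_fintype_card] at h3
    rw [← CharBasicLinear.card_linear]
    refine h3.trans (dvd_of_eq (Nat.card_congr (Equiv.subtypeEquivRight fun χ => ⟨fun h => by rw [he, h, pow_zero], fun h => ?_⟩)))
    rw [he, ← Nat.cast_pow, Nat.cast_eq_one, Nat.pow_eq_one] at h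
    exact h.resolve_left hp.one_lt.ne'
  -- a normal subgroup of index `p`
  rw [← CharBasicLinear.card_hom_units] at hindex
  have : Fact p.Prime := ⟨hp⟩
  have : Finite (G →* ℂˣ) := Nat.finite_of_card_ne_zero (by rw [CharBasicLinear.card_hom_units]; exact Subgroup.index_ne_zero_of_finite)
  obtain ⟨lam, hlam⟩ := exists_prime_orderOf_dvd_card' p hindex
  have hMidx : lam.ker.index = p := by
    rw [Subgroup.index_ker]
    have hexp : Monoid.exponent lam.range ∣ p := Monoid.exponent_dvd_of_forall_pow_eq_one fun y => by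
      obtain ⟨g, hg⟩ := MonoidHom.mem_range.1 y.2
      apply Subtype.ext
      rw [Subgroup.coe_pow, OneMemClass.coe_one, ← hg, ← MonoidHom.pow_apply, ← hlam, pow_orderOf_eq_one,
        MonoidHom.one_apply]
    have : Finite lam.range := Finite.of_surjective _ lam.rangeRestrict_surjective
    have hcyc : IsCyclic lam.range := isCyclic_subgroup_units lam.range
    rw [IsCyclic.exponent_eq_card] at hexp
    refine ((Nat.dvd_prime hp).1 hexp).resolve_left fun h => ?_
    rw [Subgroup.card_eq_one, MonoidHom.range_eq_bot_iff] at h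
    rw [h, orderOf_one] at hlam
    exact hp.one_lt.ne hlam
  set M := lam.ker with hM
  have hlt : Nat.card M < n := by
    rw [← hn, ← M.card_mul_index, hMidx]
    exact lt_mul_of_one_lt_right Nat.card_pos hp.one_lt
  have := Fintype.ofFinite M
  obtain ⟨A, hAn, hab, hAcop, k, hk⟩ := ih _ hlt rfl (fun θ => by
    obtain ⟨d, hdpos, hd⟩ := isIrrCharacter_apply_one θ.2
    obtain ⟨c, hc, hcs⟩ := exists_mult (isCharacter_ind M (isCharacter_of_isIrrCharacter θ.2))
    obtain ⟨χ, hχ⟩ : ∃ χ, c χ ≠ 0 := by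
      by_contra hcon
      push Not at hcon
      have h := congrFun hcs 1
      simp only [hcon, Nat.cast_zero, zero_smul, Finset.sum_const_zero, Pi.zero_apply, ind_one_apply, hd,
        mul_eq_zero, Nat.cast_eq_zero] at h
      rcases h with h | h
      · exact Subgroup.index_ne_zero_of_finite h
      · omega
    have hne : classInner (fun y : M => (χ : G → ℂ) y) θ ≠ 0 := by
      rw [← inner_ind_right M _ (CharBasic.isClassFunction_of_isCharacter (isCharacter_of_isIrrCharacter χ.2)),
        ← CharInduced.inner_conj_symm, hc χ, Complex.conj_natCast]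
      exact Nat.cast_ne_zero.2 hχ
    obtain ⟨hdvd, -⟩ := Cfsg.Agent.S0887.result M (χ : G → ℂ) χ.2 θ θ.2 hne (p ^ e χ) d
      (by rw [he, Nat.cast_pow]) hd
    obtain ⟨j, -, hj⟩ := (Nat.dvd_prime_pow hp).1 hdvd
    exact ⟨j, by rw [hd, hj, Nat.cast_pow]⟩)
  refine ⟨A.map M.subtype, ⟨fun a ha g => ?_⟩, ?_, by rwa [Subgroup.card_map_of_injective M.subtype_injective],
    k + 1, by rw [Subgroup.index_map_subtype, hk, hMidx, pow_succ]⟩
  · obtain ⟨m, hm, rfl⟩ := Subgroup.mem_map.1 ha
    have hMn : M.Normal := inferInstance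
    let m' : M := ⟨g * (m : G) * g⁻¹, hMn.conj_mem _ m.2 g⟩
    refine ⟨m', ?_, rfl⟩
    have ho : orderOf m' = orderOf m := by
      rw [← Subgroup.orderOf_coe, ← Subgroup.orderOf_coe m]
      exact orderOf_injective (MulAut.conj g).toMonoidHom (MulAut.conj g).injective m
    show m' ∈ A
    rw [← QuotientGroup.eq_one_iff, ← orderOf_eq_one_iff]
    refine Nat.eq_one_of_dvd_coprimes (Nat.Coprime.pow_right k hAcop) ?_ ?_
    · exact ((orderOf_map_dvd (QuotientGroup.mk' A) m').trans (dvd_of_eq ho)).trans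
        (Subgroup.orderOf_dvd_natCard _ hm)
    · rw [← hk]; exact orderOf_dvd_natCard ((m' : M ⧸ A))
  · rintro _ ⟨a, ha, rfl⟩ _ ⟨b, hb, rfl⟩
    exact congrArg Subtype.val (hab a ha b hb)

/-- For a finite group G and a prime p: every irreducible character of G has degree a power of p if and only if G has an abelian normal subgroup whose order is prime to p and whose index is a power of p. -/
theorem result {G : Type*} [Group G] [Finite G] (p : ℕ) (hp : p.Prime) : (∀ χ : Cfsg.IrrCharacter G, ∃ k : ℕ, (χ : G → ℂ) 1 = (p : ℂ) ^ k) ↔ ∃ A : Subgroup G, A.Normal ∧ (∀ a ∈ A, ∀ b ∈ A, a * b = b * a) ∧ Nat.Coprime (Nat.card A) p ∧ ∃ k : ℕ, A.index = p ^ k := by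
  classical
  refine ⟨fun h => aux p hp _ rfl h, ?_⟩
  rintro ⟨A, hA, hab, -, k, hk⟩ χ
  obtain ⟨d, ρ, hρ, hρχ⟩ := χ.2
  have := Cfsg.Agent.S0169.result ρ A hab
  rw [hk] at this
  obtain ⟨j, -, hj⟩ := (Nat.dvd_prime_pow hp).1 this
  exact ⟨j, by rw [← hρχ, Representation.char_one, hj, Nat.cast_pow]⟩

end Cfsg.Agent.S0855
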