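import Cfsg.Statements.S0860
import Cfsg.Agent.Lib.RealChars

set_option autoImplicit false
open Cfsg

namespace Cfsg.Agent.S0860

/-- Let a group A act on the set of irreducible characters and on the set of conjugacy classes of a finite group G in such a way that (a • χ) evaluated on the class a • C equals χ evaluated on C, for all a, χ and C. Then every element of A fixes exactly as many irreducible characters as it fixes conjugacy classes. -/
theorem result {G : Type*} [Group G] [Finite G] {A : Type*} [Group A] [MulAction A (Cfsg.IrrCharacter G)] [MulAction A (ConjClasses G)] (hcompat : ∀ (a : A) (χ : Cfsg.IrrCharacter G) (g g' : G), ConjClasses.mk g' = a • ConjClasses.mk g → ((a • χ : Cfsg.IrrCharacter G) : G → ℂ) g' = (χ : G → ℂ) g) (a : A) : Nat.card {χ : Cfsg.IrrCharacter G // a • χ = χ} = Nat.card {C : ConjClasses G // a • C = C} := by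
  classical
  have hsigma : ∀ g : G, ConjClasses.mk g = a • ConjClasses.mk (a⁻¹ • ConjClasses.mk g).out := by
    intro g
    rw [show ConjClasses.mk (a⁻¹ • ConjClasses.mk g).out = a⁻¹ • ConjClasses.mk g from
      Quotient.out_eq' _, smul_inv_smul]
  let σ : G → G := fun g => (a⁻¹ • ConjClasses.mk g).out
  have hval : ∀ (χ : Cfsg.IrrCharacter G) (g : G),
      ((a • χ : Cfsg.IrrCharacter G) : G → ℂ) g = (χ : G → ℂ) (σ g) :=
    fun χ g => hcompat a χ (σ g) g (hsigma g)
  have h := RealChars.card_fixed_eq σ (fun χ => by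
    rw [show (fun g => (χ : G → ℂ) (σ g)) = ((a • χ : Cfsg.IrrCharacter G) : G → ℂ) from
      funext fun g => (hval χ g).symm]
    exact (a • χ).2)
  rw [Nat.card_congr (Equiv.subtypeEquivRight fun χ : Cfsg.IrrCharacter G =>
    show a • χ = χ ↔ ∀ g, (χ : G → ℂ) (σ g) = (χ : G → ℂ) g from
      ⟨fun e g => by rw [← hval, e], fun e => Subtype.ext (funext fun g => by rw [hval, e])⟩), h]
  refine Nat.card_congr (Equiv.subtypeEquivRight fun C => ?_)
  obtain ⟨c, rfl⟩ := ConjClasses.mk_surjective C
  have hmk : ∀ g, ConjClasses.mk (σ g) = a⁻¹ • ConjClasses.mk g := fun g => Quotient.out_eq' _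
  constructor
  · intro e
    have := ConjClasses.mk_eq_mk_iff_isConj.mpr (e c rfl)
    rw [hmk] at this
    exact (inv_smul_eq_iff.mp this).symm
  · intro e g hg
    rw [← ConjClasses.mk_eq_mk_iff_isConj, hmk, hg, inv_smul_eq_iff]
    exact e.symm

end Cfsg.Agent.S0860
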