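import Cfsg.Statements.S0861
import Mathlib
import Cfsg.Agent.S4574
import Cfsg.Agent.Lib.DegreeDvd
import Cfsg.Agent.Lib.CharKernel
import Cfsg.Agent.Lib.CharBasicLinear

set_option autoImplicit false
open Cfsg

namespace Cfsg.Agent.S0861
open Cfsg.Agent.CharBasic Cfsg.Agent.CharBasicOrth Cfsg.Agent.CharBasicDecomp
  Cfsg.Agent.CharBasicCyclic
open scoped ComplexConjugate

/-- A character of degree prime to `p` does not vanish on `p`-elements. -/
theorem apply_ne_zero_of_coprime {G : Type*} [Group G] [Finite G] {p : ℕ} (hp : p.Prime)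
    {χ : G → ℂ} (hχ : Cfsg.IsCharacter G χ) {n : ℕ} (h1 : χ 1 = n) (hn : ¬ p ∣ n) {g : G} {k : ℕ}
    (hg : g ^ p ^ k = 1) : χ g ≠ 0 := by
  obtain ⟨m, ρ, rfl⟩ := hχ
  have hm : m = n := by simpa using h1
  subst hm
  intro h0
  rcases k with _ | k
  · rw [pow_zero, pow_one] at hg
    rw [hg] at h0
    rw [h1] at h0
    exact hn ((Nat.cast_eq_zero.1 h0).symm ▸ dvd_zero p)
  obtain ⟨b, μ, -, hμ, -, hpow⟩ := exists_rep_eigenbasis ρ g
  have hpos : 0 < p ^ (k + 1) := pow_pos hp.pos _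
  have hζ := Complex.isPrimitiveRoot_exp (p ^ (k + 1)) hpos.ne'
  set ζ : ℂ := Complex.exp (2 * Real.pi * Complex.I / ↑(p ^ (k + 1)))
  have : NeZero (p ^ (k + 1)) := ⟨hpos.ne'⟩
  have hex : ∀ i, ∃ j, j < p ^ (k + 1) ∧ ζ ^ j = μ i := fun i => by
    refine hζ.eq_pow_of_pow_eq_one ?_
    obtain ⟨c, hc⟩ := orderOf_dvd_of_pow_eq_one hg
    rw [hc, pow_mul, hμ, one_pow]
  choose j hj using hex
  set f : Polynomial ℤ := ∑ i, Polynomial.X ^ j i with hf
  have hroot : Polynomial.aeval ζ f = 0 := by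
    rw [hf, map_sum]
    simp only [map_pow, Polynomial.aeval_X, fun i => (hj i).2]
    have := hpow 1
    simp only [pow_one] at this
    rw [← this, h0]
  have hdvd := minpoly.isIntegrallyClosed_dvd (hζ.isIntegral hpos) hroot
  rw [← Polynomial.cyclotomic_eq_minpoly hζ hpos] at hdvd
  have h2 := Polynomial.eval_dvd (x := (1 : ℤ)) hdvd
  have : Fact p.Prime := ⟨hp⟩
  rw [Polynomial.eval_one_cyclotomic_prime_pow] at h2
  rw [hf, Polynomial.eval_finsetSum] at h2
  simp at h2
  exact hn (by exact_mod_cast h2)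

/-- Let P be a normal abelian Sylow p-subgroup of the finite group G and suppose some element g of P has centralizer exactly P. Then the number of irreducible characters of G is at most the order of P, and if equality holds then G / P is abelian (the commutator subgroup lies in P). -/
theorem result {G : Type*} [Group G] [Finite G] (p : ℕ) [Fact p.Prime] (P : Sylow p G) [(P : Subgroup G).Normal] (hab : ∀ a ∈ P, ∀ b ∈ P, a * b = b * a) (g : G) (hg : g ∈ P) (hC : Subgroup.centralizer ({g} : Set G) = P) : Nat.card (Cfsg.IrrCharacter G) ≤ Nat.card P ∧ (Nat.card (Cfsg.IrrCharacter G) = Nat.card P → commutator G ≤ P) := by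
  classical
  have : Fintype G := Fintype.ofFinite G
  have hp : p.Prime := Fact.out
  obtain ⟨k, hk⟩ := IsPGroup.iff_card.1 P.isPGroup'
  have hgk : g ^ p ^ k = 1 := by
    rw [← hk]
    exact congrArg Subtype.val (pow_card_eq_one' (x := (⟨g, hg⟩ : (P : Subgroup G))))
  have hne : ∀ χ : Cfsg.IrrCharacter G, (χ : G → ℂ) g ≠ 0 := by
    intro χ
    obtain ⟨n, -, hn1, hn⟩ := DegreeDvd.degree_dvd_index_abelian χ.2 (P : Subgroup G)
      (fun a b => Subtype.ext (hab a a.2 b b.2))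
    exact apply_ne_zero_of_coprime hp (isCharacter_of_isIrrCharacter χ.2) hn1
      (fun h => P.not_dvd_index (h.trans hn)) hgk
  set s := gens (Subgroup.zpowers g) with hs
  have hcol : ∀ a ∈ s, ∑ χ : Cfsg.IrrCharacter G, ‖(χ : G → ℂ) a‖ ^ 2 = (Nat.card P : ℝ) := by
    intro a ha
    have hza : Subgroup.zpowers a = Subgroup.zpowers g := mem_gens.1 ha
    have hC' : Subgroup.centralizer ({a} : Set G) = P := by
      rw [← hC]
      have : ∀ x : G, Subgroup.centralizer ({x} : Set G) =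
          Subgroup.centralizer ((Subgroup.zpowers x : Subgroup G) : Set G) := fun x => by
        rw [Subgroup.zpowers_eq_closure, Subgroup.centralizer_closure]
      rw [this a, this g, hza]
    have h := sum_irr_mul_conj a a
    rw [if_pos (IsConj.refl a), hC'] at h
    apply Complex.ofReal_injective
    push_cast
    rw [← h]
    exact Finset.sum_congr rfl fun χ _ => (Complex.mul_conj' _).symm
  have hge : ∀ χ : Cfsg.IrrCharacter G, (s.card : ℝ) ≤ ∑ a ∈ s, ‖(χ : G → ℂ) a‖ ^ 2 :=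
    fun χ => S4574.sum_gens_ge g (isCharacter_of_isIrrCharacter χ.2) (hne χ)
  have htot : ∑ χ : Cfsg.IrrCharacter G, ∑ a ∈ s, ‖(χ : G → ℂ) a‖ ^ 2 =
      (s.card : ℝ) * Nat.card P := by
    rw [Finset.sum_comm, Finset.sum_congr rfl hcol, Finset.sum_const, nsmul_eq_mul]
  have hs0 : (0 : ℝ) < s.card := Nat.cast_pos.2 (Finset.card_pos.2 ⟨g, mem_gens.2 rfl⟩)
  have hlow : (Fintype.card (Cfsg.IrrCharacter G) : ℝ) * s.card ≤ (s.card : ℝ) * Nat.card P := by
    rw [← htot, ← nsmul_eq_mul, ← Finset.card_univ, ← Finset.sum_const]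
    exact Finset.sum_le_sum fun χ _ => hge χ
  rw [Nat.card_eq_fintype_card (α := Cfsg.IrrCharacter G)]
  refine ⟨by
    have : (Fintype.card (Cfsg.IrrCharacter G) : ℝ) ≤ Nat.card P := by nlinarith
    exact_mod_cast this, fun heq => ?_⟩
  have heach : ∀ χ : Cfsg.IrrCharacter G, ∑ a ∈ s, ‖(χ : G → ℂ) a‖ ^ 2 = (s.card : ℝ) := by
    have h0 : ∑ χ : Cfsg.IrrCharacter G, (∑ a ∈ s, ‖(χ : G → ℂ) a‖ ^ 2 - (s.card : ℝ)) = 0 := by
      rw [Finset.sum_sub_distrib, htot, Finset.sum_const, Finset.card_univ, nsmul_eq_mul, heq]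
      ring
    have := (Finset.sum_eq_zero_iff_of_nonneg fun χ _ => sub_nonneg.2 (hge χ)).1 h0
    exact fun χ => sub_eq_zero.1 (this χ (Finset.mem_univ χ))
  have hlin : ∀ ψ : Cfsg.IrrCharacter (G ⧸ (P : Subgroup G)), (ψ : G ⧸ (P : Subgroup G) → ℂ) 1 = 1 := by
    intro ψ
    obtain ⟨d, hd, hd1⟩ : ∃ d : ℕ, 0 < d ∧ (ψ : G ⧸ (P : Subgroup G) → ℂ) 1 = d := by
      obtain ⟨d, h1, h2⟩ := isIrrCharacter_apply_one ψ.2
      exact ⟨d, h1, h2⟩
    have hval : ∀ a ∈ s, ((CharKernel.quotEquiv (P : Subgroup G) ψ).1 : G → ℂ) a = (d : ℂ) := by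
      intro a ha
      have hza : Subgroup.zpowers a = Subgroup.zpowers g := mem_gens.1 ha
      have haP : a ∈ (P : Subgroup G) :=
        (Subgroup.zpowers_le.2 hg) (hza ▸ Subgroup.mem_zpowers a)
      rw [CharKernel.quotEquiv_apply, (QuotientGroup.eq_one_iff a).2 haP, hd1]
    have h := heach (CharKernel.quotEquiv (P : Subgroup G) ψ).1
    rw [Finset.sum_congr rfl fun a ha => by rw [hval a ha]] at h
    simp only [Complex.norm_natCast, Finset.sum_const, nsmul_eq_mul] at h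
    have : ((d : ℝ)) ^ 2 = 1 := mul_left_cancel₀ hs0.ne' (h.trans (mul_one _).symm)
    have : d ^ 2 = 1 := by exact_mod_cast this
    have : d = 1 := by nlinarith
    rw [hd1, this, Nat.cast_one]
  rw [commutator_def, Subgroup.commutator_le]
  intro a _ b _
  rw [← QuotientGroup.eq_one_iff]
  have := CharBasicLinear.comm_of_forall_apply_one hlin (a : G ⧸ (P : Subgroup G)) b
  change (a : G ⧸ (P : Subgroup G)) * b * (a : G ⧸ (P : Subgroup G))⁻¹ * (b : G ⧸ (P : Subgroup G))⁻¹ = 1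
  rw [this]
  group

end Cfsg.Agent.S0861
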