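import Cfsg.Statements.S0862
import Mathlib
import Cfsg.Agent.Lib.CharExtension

set_option autoImplicit false
open Cfsg

namespace Cfsg.Agent.S0862

/-- Let N be a normal subgroup of the finite group G and ϑ an irreducible character of N of degree d coprime to the index of N, which is the restriction of some irreducible character of G. Let μ be a character of G of degree 1 whose restriction to N is the determinantal character of ϑ. Then there is exactly one irreducible character χ of G restricting to ϑ whose determinantal character is μ. -/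
theorem result {G : Type*} [Group G] [Finite G] (N : Subgroup G) [N.Normal] (ϑ : N → ℂ) (hϑ : Cfsg.IsIrrCharacter N ϑ) (d : ℕ) (hd : ϑ 1 = d) (hcop : Nat.Coprime N.index d) (hext : ∃ η : G → ℂ, Cfsg.IsIrrCharacter G η ∧ (∀ n : N, η n = ϑ n)) (μ : G → ℂ) (hμ : Cfsg.IsCharacter G μ ∧ μ 1 = 1) (hμN : ∀ n : N, μ n = Cfsg.detChar ϑ n) : ∃! χ : G → ℂ, Cfsg.IsIrrCharacter G χ ∧ (∀ n : N, χ n = ϑ n) ∧ Cfsg.detChar χ = μ := by
  classical
  obtain ⟨η₁, hη₁, hη₁N⟩ := hext
  have hinv : ∀ (g : G) (n : N), ϑ ⟨g * n * g⁻¹, (inferInstance : N.Normal).conj_mem (n : G) n.2 g⟩ = ϑ n := by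
    intro g n
    rw [← hη₁N, ← hη₁N]
    exact (CharBasic.isClassFunction_of_isCharacter (CharBasic.isCharacter_of_isIrrCharacter hη₁)) _ _
  obtain ⟨d', ρ, hdpos, hd1, hch, S, hi, hirr⟩ := CharExtension.exists_setup hϑ hinv
  obtain rfl : d' = d := by exact_mod_cast hd1.symm.trans hd
  subst hch
  obtain ⟨l, rfl⟩ := CharExtension.exists_linHom hμ.1 hμ.2
  obtain ⟨η, hη, hdet⟩ := CharExtension.exists_ext_det S hi (CharExtension.detU d') d'
    (CharExtension.detU_scal d') (fun a => CharExtension.exists_root d' a hdpos) hcop l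
    (fun n => Units.ext (by rw [← CharExtension.detChar_chr]; exact hμN n))
  obtain ⟨h1, h2⟩ := CharExtension.ext_to_char_top hirr η hη
  refine ⟨CharExtension.chr η, ⟨h1, h2, funext fun g => by rw [CharExtension.detChar_chr, hdet]⟩, ?_⟩
  rintro χ ⟨hχ, hres, hd'⟩
  obtain ⟨η', rfl, hη'⟩ := CharExtension.char_to_ext N.subtype ρ
    (CharBasic.isCharacter_of_isIrrCharacter hχ) hres
  rw [CharExtension.ext_eq_of_det S (CharExtension.detU d') d' (CharExtension.detU_scal d') hcop hη' hη
    (fun g => Units.ext (by rw [← CharExtension.detChar_chr, hd', hdet]))]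

end Cfsg.Agent.S0862
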