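import Cfsg.Statements.S0866
import Mathlib
import Cfsg.Agent.Lib.CharExtension

set_option autoImplicit false
open Cfsg

namespace Cfsg.Agent.S0866

/-- Let N be a normal subgroup of the finite group G and ϑ an irreducible character of N, invariant under conjugation by G, of degree d coprime to the index of N. Then ϑ is the restriction of an irreducible character of G if and only if the determinantal character of ϑ is the restriction of a character of G of degree 1. -/
theorem result {G : Type*} [Group G] [Finite G] (N : Subgroup G) [hN : N.Normal] (ϑ : N → ℂ) (hϑ : Cfsg.IsIrrCharacter N ϑ) (hinv : ∀ (g : G) (n : N), ϑ ⟨g * n * g⁻¹, hN.conj_mem (n : G) n.2 g⟩ = ϑ n) (d : ℕ) (hd : ϑ 1 = d) (hcop : Nat.Coprime N.index d) : (∃ χ : G → ℂ, Cfsg.IsIrrCharacter G χ ∧ (∀ n : N, χ n = ϑ n)) ↔ ∃ μ : G → ℂ, Cfsg.IsCharacter G μ ∧ μ 1 = 1 ∧ ∀ n : N, μ n = Cfsg.detChar ϑ n := by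
  classical
  obtain ⟨d', ρ, hdpos, hd1, hch, S, hi, hirr⟩ := CharExtension.exists_setup hϑ hinv
  obtain rfl : d' = d := by exact_mod_cast hd1.symm.trans hd
  subst hch
  constructor
  · rintro ⟨χ, hχ, hres⟩
    obtain ⟨η, rfl, hη⟩ := CharExtension.char_to_ext N.subtype ρ
      (CharBasic.isCharacter_of_isIrrCharacter hχ) hres
    refine ⟨fun g => ((((CharExtension.detU d').comp η) g : ℂˣ) : ℂ),
      (CharExtension.isLinear_coe _).1, (CharExtension.isLinear_coe _).2, fun n => ?_⟩
    rw [CharExtension.detChar_chr]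
    exact congrArg (fun u => ((CharExtension.detU d' u : ℂˣ) : ℂ)) (hη n)
  · rintro ⟨μ, hμ, hμ1, hμN⟩
    obtain ⟨l, rfl⟩ := CharExtension.exists_linHom hμ hμ1
    obtain ⟨η, hη, -⟩ := CharExtension.exists_ext_det S hi (CharExtension.detU d') d'
      (CharExtension.detU_scal d') (fun a => CharExtension.exists_root d' a hdpos) hcop l
      (fun n => Units.ext (by rw [← CharExtension.detChar_chr]; exact hμN n))
    exact ⟨_, CharExtension.ext_to_char_top hirr η hη⟩

end Cfsg.Agent.S0866
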