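import Cfsg.Statements.S0869
import Mathlib

set_option autoImplicit false
open Cfsg

namespace Cfsg.Agent.S0869

/-- Let S be a nonempty finite type and R an additive subgroup of the integer-valued functions on S that is closed under pointwise multiplication. If the constant function 1 is not in R, then there exist a point x of S and a prime p such that p divides f x for every f in R. -/
theorem result {S : Type*} [Finite S] [Nonempty S] (R : AddSubgroup (S → ℤ)) (hmul : ∀ f ∈ R, ∀ g ∈ R, f * g ∈ R) (h1 : (1 : S → ℤ) ∉ R) : ∃ (x : S) (p : ℕ), p.Prime ∧ ∀ f ∈ R, (p : ℤ) ∣ f x := by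
  classical
  haveI : Fintype S := Fintype.ofFinite S
  by_contra hne
  have hone : ∀ x : S, ∃ f ∈ R, f x = 1 := by
    intro x
    set A : AddSubgroup ℤ := R.map (Pi.evalAddMonoidHom (fun _ : S => ℤ) x) with hA
    obtain ⟨a, ha⟩ := Int.subgroup_cyclic A
    have hmem : ∀ f ∈ R, a ∣ f x := by
      intro f hf
      have : f x ∈ A := ⟨f, hf, rfl⟩
      rw [ha, AddSubgroup.mem_closure_singleton] at this
      obtain ⟨m, hm⟩ := this
      exact ⟨m, by rw [← hm]; simp [mul_comm]⟩
    by_cases hu : a.natAbs = 1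
    · have h1 : (1 : ℤ) ∈ A := by
        rw [ha, AddSubgroup.mem_closure_singleton]
        rcases Int.natAbs_eq a with h | h <;> rw [hu] at h
        · exact ⟨1, by simp [h]⟩
        · exact ⟨-1, by simp [h]⟩
      obtain ⟨f, hf, hfx⟩ := h1
      exact ⟨f, hf, hfx⟩
    · obtain ⟨p, hp, hpa⟩ := Nat.exists_prime_and_dvd hu
      exact absurd ⟨x, p, hp, fun f hf => (Int.natCast_dvd.2 hpa).trans (hmem f hf)⟩ hne
  have hall : ∀ s : Finset S, ∃ g ∈ R, ∀ x ∈ s, g x = 1 := by
    intro s
    induction s using Finset.induction with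
    | empty => exact ⟨0, R.zero_mem, by simp⟩
    | insert a s ha ih =>
      obtain ⟨g, hg, hgs⟩ := ih
      obtain ⟨f, hf, hfa⟩ := hone a
      refine ⟨g + f - g * f, R.sub_mem (R.add_mem hg hf) (hmul g hg f hf), fun x hx => ?_⟩
      rcases Finset.mem_insert.1 hx with rfl | hx
      · simp [hfa]
      · simp [hgs x hx]
  obtain ⟨g, hg, hgx⟩ := hall Finset.univ
  exact h1 (by convert hg using 1; funext x; simp [hgx x (Finset.mem_univ x)])

end Cfsg.Agent.S0869
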