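import Cfsg.Statements.S0874
import Cfsg.Agent.Lib.BrauerInduction

set_option autoImplicit false
open Cfsg

namespace Cfsg.Agent.S0874

/-- For a finite group G and a prime p there are an integer m not divisible by p and a list of triples (E, φ, c), with E a p-elementary subgroup, φ a character of E and c an integer, such that the constant function m on G equals the sum of the c • (function induced from φ). -/
theorem result {G : Type*} [Group G] [Fintype G] (p : ℕ) (hp : p.Prime) : ∃ (m : ℤ) (l : List ((E : Subgroup G) × ((E → ℂ) × ℤ))), ¬ (p : ℤ) ∣ m ∧ (∀ t ∈ l, Cfsg.IsElementary p t.1 ∧ Cfsg.IsCharacter t.1 t.2.1) ∧ (fun _ : G => (m : ℂ)) = (l.map fun t => (t.2.2 : ℂ) • Cfsg.indFun t.1 t.2.1).sum := by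
  obtain ⟨m, hm, hmem⟩ := Cfsg.Agent.BrauerInduction.exists_const_mem_indSpan (G := G) p hp
  suffices h : ∀ f ∈ Cfsg.Agent.BrauerInduction.indSpan (G := G) (fun H => Cfsg.IsElementary p H),
      ∃ l : List ((E : Subgroup G) × ((E → ℂ) × ℤ)),
        (∀ t ∈ l, Cfsg.IsElementary p t.1 ∧ Cfsg.IsCharacter t.1 t.2.1) ∧
        f = (l.map fun t => (t.2.2 : ℂ) • Cfsg.indFun t.1 t.2.1).sum by
    obtain ⟨l, hl, he⟩ := h _ hmem
    exact ⟨m, l, hm, hl, he⟩
  intro f hf
  induction hf using AddSubgroup.closure_induction with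
  | mem f hf =>
    obtain ⟨E, φ, hE, hφ, rfl⟩ := hf
    exact ⟨[⟨E, φ, 1⟩], by simpa using ⟨hE, hφ⟩, by simp⟩
  | zero => exact ⟨[], by simp, by simp⟩
  | add x y _ _ hx hy =>
    obtain ⟨l₁, h₁, rfl⟩ := hx
    obtain ⟨l₂, h₂, rfl⟩ := hy
    exact ⟨l₁ ++ l₂, fun t ht => (List.mem_append.1 ht).elim (h₁ t) (h₂ t),
      by rw [List.map_append, List.sum_append]⟩
  | neg x _ hx =>
    obtain ⟨l, h, rfl⟩ := hx
    refine ⟨l.map fun t => ⟨t.1, t.2.1, -t.2.2⟩, ?_, ?_⟩
    · intro t ht
      obtain ⟨s, hs, rfl⟩ := List.mem_map.1 ht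
      exact h s hs
    · rw [List.map_map]
      rename_i hx'
      clear h hx'
      induction l with
      | nil => simp
      | cons a l ih =>
        simp only [List.map_cons, List.sum_cons, Function.comp_apply]
        rw [← ih, neg_add, Int.cast_neg, neg_smul]

end Cfsg.Agent.S0874
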