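import Cfsg.Statements.S0875
import Cfsg.Agent.Lib.BrauerPiSection

set_option autoImplicit false
open Cfsg

namespace Cfsg.Agent.S0875

/-- Let G be a finite group of order m * n with m and n coprime, and g an element whose order is coprime to m. Every x in G factors uniquely as x = u * v with u, v commuting, the order of u coprime to n and the order of v coprime to m; let ϑ be the function on G equal to n at those x whose factor v is conjugate to g and equal to 0 elsewhere. Then ϑ is a linear combination of the irreducible characters of G with algebraic-integer coefficients. -/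
theorem result {G : Type*} [Group G] [Fintype G] (m n : ℕ) (hmn : Nat.card G = m * n) (hcop : Nat.Coprime m n) (g : G) (hg : Nat.Coprime (orderOf g) m) (ϑ : G → ℂ) (hϑ1 : ∀ x : G, (∃ v : G, IsConj v g ∧ (∃ u : G, x = u * v ∧ Commute u v ∧ Nat.Coprime (orderOf u) n ∧ Nat.Coprime (orderOf v) m)) → ϑ x = n) (hϑ0 : ∀ x : G, (¬ ∃ v : G, IsConj v g ∧ (∃ u : G, x = u * v ∧ Commute u v ∧ Nat.Coprime (orderOf u) n ∧ Nat.Coprime (orderOf v) m)) → ϑ x = 0) : ∃ c : Cfsg.IrrCharacter G → ℂ, (∀ χ, c χ ∈ Cfsg.AlgInt) ∧ ϑ = ∑ᶠ χ : Cfsg.IrrCharacter G, c χ • (χ : G → ℂ) := by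
  classical
  have hG : Nat.card G = m * n := hmn
  have key : ∀ x : G, (∃ v : G, IsConj v g ∧ (∃ u : G, x = u * v ∧ Commute u v ∧
      Nat.Coprime (orderOf u) n ∧ Nat.Coprime (orderOf v) m)) ↔
      IsConj (Cfsg.Agent.BrauerPiSection.part hcop.symm x) g := by
    intro x
    constructor
    · rintro ⟨v, hv, u, rfl, huv, hu, hv'⟩
      rw [huv.eq, Cfsg.Agent.BrauerPiSection.part_mul hcop.symm huv.symm
        (hv'.dvd_of_dvd_mul_left (hG ▸ orderOf_dvd_natCard v))
        (hu.dvd_of_dvd_mul_right (hG ▸ orderOf_dvd_natCard u))]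
      exact hv
    · intro h
      refine ⟨_, h, Cfsg.Agent.BrauerPiSection.part hcop x,
        (Cfsg.Agent.BrauerPiSection.part_mul_part hG hcop x).symm, ?_, ?_, ?_⟩
      · exact Commute.pow_pow_self x _ _
      · exact hcop.coprime_dvd_left (Cfsg.Agent.BrauerPiSection.orderOf_part hG hcop x)
      · exact hcop.symm.coprime_dvd_left (Cfsg.Agent.BrauerPiSection.orderOf_part
          (hG.trans (mul_comm m n)) hcop.symm x)
  have hϑ : ϑ = Cfsg.Agent.BrauerPiSection.secFun hcop g := by
    funext x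
    simp only [Cfsg.Agent.BrauerPiSection.secFun]
    by_cases h : IsConj (Cfsg.Agent.BrauerPiSection.part hcop.symm x) g
    · rw [if_pos h]; exact hϑ1 x ((key x).2 h)
    · rw [if_neg h]; exact hϑ0 x (fun hx => h ((key x).1 hx))
  refine ⟨fun χ => Cfsg.classInner ϑ (χ : G → ℂ), fun χ => ?_, ?_⟩
  · subst hϑ
    exact Cfsg.Agent.BrauerPiSection.isIntegral_secFun hG hcop g χ.2
  · rw [finsum_eq_sum_of_fintype]
    exact Cfsg.Agent.CharBasicOrth.eq_sum_classInner
      (hϑ ▸ Cfsg.Agent.BrauerPiSection.isClassFunction_secFun hcop g)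

end Cfsg.Agent.S0875
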