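import Cfsg.Statements.S0876
import Cfsg.Agent.Lib.BrauerPiSection
import Cfsg.Agent.Lib.BrauerBlocksVal

set_option autoImplicit false
open Cfsg

namespace Cfsg.Agent.S0876

/-- Let G be a finite group, p a prime and M a maximal ideal of the ring of algebraic integers containing p. Let x, y be elements with p-parts a and b (so a⁻¹ * x and b⁻¹ * y are their p-regular parts). Then a⁻¹ * x and b⁻¹ * y are conjugate in G if and only if, for every irreducible character χ, the difference χ x - χ y lies in the local ideal at M. -/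
theorem result {G : Type*} [Group G] [Finite G] (p : ℕ) (M : Ideal Cfsg.AlgInt) (hM : Cfsg.IsPModular p M) (x y a b : G) (ha : Cfsg.IsPPart p x a) (hb : Cfsg.IsPPart p y b) : IsConj (a⁻¹ * x) (b⁻¹ * y) ↔ ∀ χ : Cfsg.IrrCharacter G, Cfsg.MemLocalIdeal M ((χ : G → ℂ) x - (χ : G → ℂ) y) := by
  classical
  have := Fintype.ofFinite G
  obtain ⟨hp, hMmax, hpM⟩ := hM
  have hM' : Cfsg.IsPModular p M := ⟨hp, hMmax, hpM⟩
  obtain ⟨A, n, hn, hG⟩ := Nat.exists_eq_pow_mul_and_not_dvd (Nat.card_pos (α := G)).ne' p hp.ne_one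
  have hcop : Nat.Coprime (p ^ A) n := Nat.Coprime.pow_left A (hp.coprime_iff_not_dvd.2 hn)
  -- the regular parts
  have hreg : ∀ x a : G, Cfsg.IsPPart p x a →
      a⁻¹ * x = Cfsg.Agent.BrauerPiSection.part hcop.symm x := by
    rintro x a ⟨w, rfl, hc, ⟨k, hk⟩, hw⟩
    rw [inv_mul_cancel_left, hc.eq, Cfsg.Agent.BrauerPiSection.part_mul hcop.symm hc.symm]
    · exact ((hp.coprime_iff_not_dvd.2 hw).symm.pow_right A).dvd_of_dvd_mul_left
        (hG ▸ orderOf_dvd_natCard w)
    · rw [hk]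
      exact (((hp.coprime_iff_not_dvd.2 hn).pow_left k)).dvd_of_dvd_mul_right
        (hk ▸ hG ▸ orderOf_dvd_natCard a)
  rw [hreg x a ha, hreg y b hb]
  set P : G → G := Cfsg.Agent.BrauerPiSection.part hcop.symm with hP
  -- congruence modulo `M` for roots of unity of `p`-power order
  have hroot : ∀ (ε : Cfsg.AlgInt) (k : ℕ), ε ^ p ^ k = 1 → ε - 1 ∈ M := by
    intro ε k hε
    obtain ⟨r, hr⟩ := exists_add_pow_prime_pow_eq hp (ε - 1) 1 k
    rw [sub_add_cancel, hε, one_pow] at hr
    refine hMmax.isPrime.mem_of_pow_mem (p ^ k) ?_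
    have h1 : (ε - 1) ^ p ^ k = (p : Cfsg.AlgInt) * (-((ε - 1) * 1 * r)) := by
      linear_combination -hr
    rw [h1]
    exact M.mul_mem_right _ hpM
  -- characters at an element and at its regular part
  have hcong : ∀ (χ : Cfsg.IrrCharacter G) (z : G),
      BrauerBlocksVal.Sm M ((χ : G → ℂ) z - (χ : G → ℂ) (P z)) := by
    intro χ z
    obtain ⟨d, ρ, -, hρ⟩ := χ.2
    obtain ⟨bs, μ, -, hμ, -, hk⟩ := Cfsg.Agent.CharBasic.exists_rep_eigenbasis ρ z
    set e := Cfsg.Agent.BrauerPiSection.partExp hcop.symm with he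
    have h1 : (χ : G → ℂ) z = ∑ i, μ i ^ 1 := by rw [← hρ, ← hk 1, pow_one]
    have h2 : (χ : G → ℂ) (P z) = ∑ i, μ i ^ e := by rw [← hρ, ← hk e]; rfl
    rw [h1, h2, ← Finset.sum_sub_distrib]
    refine BrauerBlocksVal.sm_sum _ fun i _ => ?_
    have hint : IsIntegral ℤ (μ i) :=
      IsIntegral.of_pow (isOfFinOrder_of_finite z).orderOf_pos (by rw [hμ i]; exact isIntegral_one)
    -- split the eigenvalue
    set f := Cfsg.Agent.BrauerPiSection.partExp hcop with hf
    have hsplit : μ i ^ 1 = μ i ^ e * μ i ^ f := by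
      rw [← pow_add]
      refine pow_eq_pow_of_modEq ?_ (hμ i)
      refine Nat.ModEq.of_dvd (hG ▸ orderOf_dvd_natCard z) ?_
      refine (Nat.modEq_and_modEq_iff_modEq_mul hcop).1 ⟨?_, ?_⟩
      · have := (Cfsg.Agent.BrauerPiSection.partExp_spec hcop.symm).2.add
          (Cfsg.Agent.BrauerPiSection.partExp_spec hcop).1
        simpa [he, hf] using this.symm
      · have := (Cfsg.Agent.BrauerPiSection.partExp_spec hcop.symm).1.add
          (Cfsg.Agent.BrauerPiSection.partExp_spec hcop).2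
        simpa [he, hf] using this.symm
    have hp1 : (μ i ^ f) ^ p ^ A = 1 := by
      rw [← pow_mul]
      obtain ⟨c, hc⟩ := Nat.modEq_zero_iff_dvd.1 (Cfsg.Agent.BrauerPiSection.partExp_spec hcop).2
      obtain ⟨d', hd'⟩ : orderOf z ∣ p ^ A * n := hG ▸ orderOf_dvd_natCard z
      rw [hf, hc, show n * c * p ^ A = p ^ A * n * c by ring, hd', pow_mul, pow_mul, hμ i, one_pow,
        one_pow]
    have hmem := hroot ⟨μ i ^ f, hint.pow f⟩ A (Subtype.ext (by simpa using hp1))
    have h3 := BrauerBlocksVal.sm_coe_of_mem hM' hmem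
    have h4 : μ i ^ 1 - μ i ^ e = μ i ^ e * (μ i ^ f - 1) := by rw [hsplit]; ring
    rw [h4]
    exact BrauerBlocksVal.Sm.mul_left (by simpa using h3)
      ((BrauerBlocksVal.int'_of_isIntegral hM' hint).pow e)
  have halg : ∀ (χ : Cfsg.IrrCharacter G) (z : G), IsIntegral ℤ ((χ : G → ℂ) z) := fun χ z =>
    Cfsg.Agent.CharBasic.isCharacter_integral
      (Cfsg.Agent.CharBasic.isCharacter_of_isIrrCharacter χ.2) z
  constructor
  · intro hc χ
    rw [BrauerBlocksVal.memLocalIdeal_iff hM' (BrauerBlocksVal.algNum_of_isIntegral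
      ((halg χ x).sub (halg χ y)))]
    have h1 := hcong χ x
    have h2 := hcong χ y
    rw [Cfsg.Agent.CharBasic.apply_eq_of_isConj
      (Cfsg.Agent.CharBasic.isClassFunction_of_isCharacter
        (Cfsg.Agent.CharBasic.isCharacter_of_isIrrCharacter χ.2)) hc] at h1
    exact h1.trans (BrauerBlocksVal.sm_sub_comm.1 h2)
  · intro h
    by_contra hne
    set θ := Cfsg.Agent.BrauerPiSection.secFun hcop (P x) with hθ
    have hexp := Cfsg.Agent.CharBasicOrth.eq_sum_classInner
      (Cfsg.Agent.BrauerPiSection.isClassFunction_secFun hcop (P x))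
    have h1 : BrauerBlocksVal.Sm M (θ x - θ y) := by
      have : θ x - θ y = ∑ χ : Cfsg.IrrCharacter G, Cfsg.classInner θ (χ : G → ℂ) *
          ((χ : G → ℂ) x - (χ : G → ℂ) y) := by
        conv_lhs => rw [hθ, hexp]
        simp only [Finset.sum_apply, Pi.smul_apply, smul_eq_mul, ← Finset.sum_sub_distrib, mul_sub]
        rfl
      rw [this]
      refine BrauerBlocksVal.sm_sum _ fun χ _ => ?_
      exact (BrauerBlocksVal.sm_of_memLocalIdeal hM' (h χ)).mul_left
        (BrauerBlocksVal.int'_of_isIntegral hM'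
          (Cfsg.Agent.BrauerPiSection.isIntegral_secFun hG hcop (P x) χ.2))
    simp only [hθ, Cfsg.Agent.BrauerPiSection.secFun] at h1
    rw [if_pos (IsConj.refl _), if_neg (fun e => hne e.symm), sub_zero] at h1
    exact hn ((BrauerBlocksVal.sm_natCast_iff hM' n).1 h1)

end Cfsg.Agent.S0876
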