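import Cfsg.Statements.S0878
import Cfsg.Agent.Lib.FeitGroup
-- import your own Cfsg.Agent.* helpers here

set_option autoImplicit false
open Cfsg

namespace Cfsg.Agent.S0878

/-- Let G be a Zassenhaus group on the finite set Ω, a a point, and let H be the subgroup of the stabilizer of a consisting of the identity and the elements fixing no point other than a (given here as a subgroup of the stabilizer of order one less than the number of points whose non-identity elements fix only a; it is the Frobenius kernel of the stabilizer). Then an element outside the stabilizer of a conjugates no non-identity element of H into H, and the normalizer of H is exactly the stabilizer of a. -/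
theorem result {G Ω : Type*} [Group G] [Finite G] [MulAction G Ω] [Fintype Ω] (hZ : Cfsg.IsZassenhausGroup G Ω) (a : Ω) (H : Subgroup G) (hHa : H ≤ MulAction.stabilizer G a) (hHcard : Nat.card H + 1 = Fintype.card Ω) (hHfix : ∀ u ∈ H, u ≠ 1 → ∀ c : Ω, u • c = c → c = a) : (∀ g : G, g ∉ MulAction.stabilizer G a → ∀ u ∈ H, g * u * g⁻¹ ∈ H → u = 1) ∧ Subgroup.normalizer (H : Set G) = MulAction.stabilizer G a := by
  have hc : Nat.card H + 1 = Nat.card Ω := by rw [Nat.card_eq_fintype_card (α := Ω)]; exact hHcard
  have key : ∀ g : G, g ∉ MulAction.stabilizer G a → ∀ u ∈ H, g * u * g⁻¹ ∈ H → u = 1 := by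
    intro g hg u hu hgu
    by_contra h1
    refine hg (hHfix _ hgu (fun e => h1 (conj_eq_one_iff.1 e)) (g • a) ?_)
    rw [mul_smul, mul_smul, inv_smul_smul, show u • a = a from hHa hu]
  refine ⟨key, le_antisymm (fun g hg => ?_) fun g hg => ?_⟩
  · by_contra hga
    haveI := Feit.kernel_nontrivial hZ hHa hc hHfix
    obtain ⟨u, hu⟩ := exists_ne (1 : H)
    exact hu (Subtype.ext (key g hga u u.2 ((Subgroup.mem_normalizer_iff.1 hg _).1 u.2)))
  · rw [Subgroup.mem_normalizer_iff]
    intro u
    refine ⟨fun hu => Feit.kernel_conj_mem hZ hHa hc hHfix hg hu, fun hu => ?_⟩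
    have := Feit.kernel_conj_mem hZ hHa hc hHfix (g := g⁻¹) (inv_smul_eq_iff.2 hg.symm) hu
    simpa [mul_assoc] using this

end Cfsg.Agent.S0878
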