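import Cfsg.Statements.S0879
import Cfsg.Agent.Lib.FeitGroup
-- import your own Cfsg.Agent.* helpers here

set_option autoImplicit false
open Cfsg

namespace Cfsg.Agent.S0879

/-- Let G be a Zassenhaus group on the finite set Ω and E the stabilizer of two distinct points a, b. Then an element outside the normalizer of E conjugates no non-identity element of E into E, and E has index 2 in its normalizer. -/
theorem result {G Ω : Type*} [Group G] [Finite G] [MulAction G Ω] [Fintype Ω] (hZ : Cfsg.IsZassenhausGroup G Ω) {a b : Ω} (hab : a ≠ b) : (∀ g : G, g ∉ Subgroup.normalizer ((MulAction.stabilizer G a ⊓ MulAction.stabilizer G b : Subgroup G) : Set G) → ∀ x ∈ (MulAction.stabilizer G a ⊓ MulAction.stabilizer G b : Subgroup G), g * x * g⁻¹ ∈ (MulAction.stabilizer G a ⊓ MulAction.stabilizer G b : Subgroup G) → x = 1) ∧ ((MulAction.stabilizer G a ⊓ MulAction.stabilizer G b : Subgroup G).subgroupOf (Subgroup.normalizer ((MulAction.stabilizer G a ⊓ MulAction.stabilizer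 G b : Subgroup G) : Set G))).index = 2 := by
  have hmem : ∀ g : G, (g • a = a ∧ g • b = b) ∨ (g • a = b ∧ g • b = a) →
      g ∈ Subgroup.normalizer ((MulAction.stabilizer G a ⊓ MulAction.stabilizer G b : Subgroup G) : Set G) := by
    intro g hg
    have hg' : (g⁻¹ • a = a ∧ g⁻¹ • b = b) ∨ (g⁻¹ • a = b ∧ g⁻¹ • b = a) := by
      rcases hg with ⟨h1, h2⟩ | ⟨h1, h2⟩
      · exact Or.inl ⟨inv_smul_eq_iff.2 h1.symm, inv_smul_eq_iff.2 h2.symm⟩
      · exact Or.inr ⟨inv_smul_eq_iff.2 h2.symm, inv_smul_eq_iff.2 h1.symm⟩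
    rw [Subgroup.mem_normalizer_iff]
    intro x
    constructor
    · rintro ⟨hxa, hxb⟩
      replace hxa : x • a = a := hxa
      replace hxb : x • b = b := hxb
      rcases hg' with ⟨e1, e2⟩ | ⟨e1, e2⟩ <;> refine ⟨?_, ?_⟩
      · show (g * x * g⁻¹) • a = a
        rw [mul_smul, mul_smul, e1, hxa, ← e1, smul_inv_smul, e1]
      · show (g * x * g⁻¹) • b = b
        rw [mul_smul, mul_smul, e2, hxb, ← e2, smul_inv_smul, e2]
      · show (g * x * g⁻¹) • a = a
        rw [mul_smul, mul_smul, e1, hxb, ← e1, smul_inv_smul]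
      · show (g * x * g⁻¹) • b = b
        rw [mul_smul, mul_smul, e2, hxa, ← e2, smul_inv_smul]
    · rintro ⟨hxa, hxb⟩
      replace hxa : (g * x * g⁻¹) • a = a := hxa
      replace hxb : (g * x * g⁻¹) • b = b := hxb
      rw [mul_smul, mul_smul] at hxa hxb
      rcases hg' with ⟨e1, e2⟩ | ⟨e1, e2⟩ <;> rw [e1] at hxa <;> rw [e2] at hxb <;>
        refine ⟨?_, ?_⟩
      · exact (eq_inv_smul_iff.2 hxa).trans e1
      · exact (eq_inv_smul_iff.2 hxb).trans e2
      · exact (eq_inv_smul_iff.2 hxb).trans e2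
      · exact (eq_inv_smul_iff.2 hxa).trans e1
  refine ⟨fun g hg x hx hgx => by_contra fun h1 => hg (hmem g ?_), ?_⟩
  · exact Feit.preserves_pair hZ hab hgx (fun e => h1 (conj_eq_one_iff.1 e)) (g := g)
      (by simpa [mul_assoc] using hx)
  · obtain ⟨s, -, -, hsa, hsb⟩ := Zassenhaus.exists_involution_swap hZ hab
    rw [Subgroup.index_eq_two_iff]
    refine ⟨⟨s, hmem s (Or.inr ⟨hsa, hsb⟩)⟩, fun y => ?_⟩
    obtain ⟨u, hu, hu1⟩ := Zassenhaus.two_ne_bot hZ hab
    have hy := Feit.preserves_pair hZ hab hu hu1 (g := (y : G))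
      ((Subgroup.mem_normalizer_iff''.1 y.2 u).1 hu)
    simp only [Subgroup.mem_subgroupOf, Subgroup.coe_mul]
    rcases hy with ⟨h1, h2⟩ | ⟨h1, h2⟩
    · refine Or.inr ⟨⟨h1, h2⟩, fun h => ?_⟩
      have h3 : ((y : G) * s) • a = a := h.1
      rw [mul_smul, hsa, h2] at h3
      exact hab h3.symm
    · refine Or.inl ⟨⟨?_, ?_⟩, fun h => hab (h.1.symm.trans h1)⟩
      · show ((y : G) * s) • a = a
        rw [mul_smul, hsa, h2]
      · show ((y : G) * s) • b = b
        rw [mul_smul, hsb, h1]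

end Cfsg.Agent.S0879
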