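import Cfsg.Statements.S0880
import Cfsg.Agent.Lib.FeitCount
-- import your own Cfsg.Agent.* helpers here

set_option autoImplicit false
open Cfsg

namespace Cfsg.Agent.S0880

/-- Let G be a finite simple Zassenhaus group on Ω with n points whose two-point stabilizer E has odd order less than n - 2. Then there are two elements of G, each fixing no point of Ω, that are not conjugate. -/
theorem result {G Ω : Type*} [Group G] [Finite G] [MulAction G Ω] [Fintype Ω] (hZ : Cfsg.IsZassenhausGroup G Ω) {a b : Ω} (hab : a ≠ b) [IsSimpleGroup G] (hodd : Odd (Nat.card ↥(MulAction.stabilizer G a ⊓ MulAction.stabilizer G b : Subgroup G))) (hlt : Nat.card ↥(MulAction.stabilizer G a ⊓ MulAction.stabilizer G b : Subgroup G) < Fintype.card Ω - 2) : ∃ x y : G, (∀ c : Ω, x • c ≠ c) ∧ (∀ c : Ω, y • c ≠ c) ∧ ¬ IsConj x y := by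
  classical
  haveI := Fintype.ofFinite G
  obtain ⟨j, hj⟩ : Odd (Nat.card (Zassenhaus.two G a b)) := hodd
  have h2 := Feit.two_le_card_two hZ hab
  obtain ⟨h, hh⟩ : ∃ h, Fintype.card Ω = h + 1 :=
    ⟨_, (Nat.sub_add_cancel (Fintype.card_pos_iff.2 ⟨a⟩)).symm⟩
  have hn := Feit.three_le_card hZ
  rw [Nat.card_eq_fintype_card, hh] at hn
  obtain ⟨-, -, h0⟩ := Feit.fix_counts hZ hab hh hj
  obtain ⟨x, hx⟩ := Finset.card_pos.1 (h0 ▸ Nat.mul_pos (by omega) (Nat.succ_pos _))
  simp only [Finset.mem_filter, Finset.mem_univ, true_and] at hx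
  by_contra hcon
  push Not at hcon
  have hx0 := (Feit.nfix_eq_zero_iff).1 hx.2
  have hcls : Nat.card {g : G // IsConj x g} = h * ((h + 1) * j + 1) := by
    rw [← h0]
    refine Nat.subtype_card _ fun g => ?_
    simp only [Finset.mem_filter, Finset.mem_univ, true_and]
    constructor
    · exact fun hg => hcon x g hx0 (Feit.nfix_eq_zero_iff.1 hg.2)
    · intro hg
      obtain ⟨k, rfl⟩ := isConj_iff.1 hg
      exact ⟨fun e => hx.1 (conj_eq_one_iff.1 e), by rw [Feit.nfix_conj]; exact hx.2⟩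
  have hd : h * ((h + 1) * j + 1) ∣ (h + 1) * (h * (2 * j + 1)) := by
    have := Feit.card_group hZ hab
    rw [Nat.card_eq_fintype_card (α := Ω), hh, Nat.add_sub_cancel, hj] at this
    rw [← this, ← CharBasicOrth.card_conj_mul_card_centralizer x, hcls]
    exact dvd_mul_right _ _
  rw [show (h + 1) * (h * (2 * j + 1)) = h * ((h + 1) * (2 * j + 1)) by ring] at hd
  have hd' : (h + 1) * j + 1 ∣ 2 * j + 1 := by
    refine Nat.Coprime.dvd_of_dvd_mul_left ?_ (Nat.dvd_of_mul_dvd_mul_left (by omega) hd)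
    refine Nat.coprime_of_dvd' fun k _ hk1 hk2 => ?_
    have := Nat.dvd_sub hk1 (dvd_mul_of_dvd_left hk2 j)
    rwa [Nat.add_sub_cancel_left] at this
  have := Nat.le_of_dvd (by omega) hd'
  nlinarith

end Cfsg.Agent.S0880
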