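import Cfsg.Statements.S0882
import Cfsg.Agent.Lib.FeitSimple
import Cfsg.Agent.Lib.FeitCount
-- import your own Cfsg.Agent.* helpers here

set_option autoImplicit false
open Cfsg

namespace Cfsg.Agent.S0882

/-- Let G be a finite simple Zassenhaus group on Ω with n = h + 1 points whose two-point stabilizer E has odd order e with 2e < h - 1. Then any two involutions of G are conjugate, and the number of involutions is e * (h + 1) if h is even and e * h if h is odd. -/
theorem result {G Ω : Type*} [Group G] [Finite G] [MulAction G Ω] [Fintype Ω] (hZ : Cfsg.IsZassenhausGroup G Ω) {a b : Ω} (hab : a ≠ b) [IsSimpleGroup G] (h e : ℕ) (hh : Fintype.card Ω = h + 1) (he : Nat.card ↥(MulAction.stabilizer G a ⊓ MulAction.stabilizer G b : Subgroup G) = e) (hodd : Odd e) (hlt : 2 * e < h - 1) : (∀ x y : G, orderOf x = 2 → orderOf y = 2 → IsConj x y) ∧ Nat.card {x : G // orderOf x = 2} = (if Even h then e * (h + 1) else e * h) := by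
  classical
  haveI := Fintype.ofFinite G
  have ho : Odd (Nat.card (Zassenhaus.two G a b)) := by
    rw [show Nat.card (Zassenhaus.two G a b) = e from he]; exact hodd
  have hall := Feit.odd_all hZ hab ho
  have hsw := Feit.simple_swap_sq hZ hab ho
  have hsq : ∀ x : G, orderOf x = 2 → x * x = 1 ∧ x ≠ 1 := fun x hx =>
    ⟨by rw [← pow_two, ← hx, pow_orderOf_eq_one], fun h => by simp [h] at hx⟩
  refine ⟨fun x y hx hy => Feit.invol_conj hZ hall hsw (hsq x hx).1 (hsq x hx).2 (hsq y hy).1
    (hsq y hy).2, ?_⟩
  rw [← Feit.card_invol hZ hall hsw hab hh he]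
  refine Nat.subtype_card _ fun g => ?_
  simp only [Finset.mem_filter, Finset.mem_univ, true_and]
  exact ⟨fun h => orderOf_eq_prime (by rw [pow_two]; exact h.1) h.2, hsq g⟩

end Cfsg.Agent.S0882
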