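import Cfsg.Statements.S0883
import Cfsg.Agent.Lib.FeitKernel
-- import your own Cfsg.Agent.* helpers here

set_option autoImplicit false
open Cfsg

namespace Cfsg.Agent.S0883

/-- Let G be a finite simple Zassenhaus group on Ω with h + 1 points whose two-point stabilizer E has odd order e with 2e < h - 1, and let H be the subgroup of the stabilizer of a consisting of the identity and the elements fixing no point other than a (given here as a subgroup of the stabilizer of order one less than the number of points whose non-identity elements fix only a; it is the Frobenius kernel of the stabilizer). If a non-identity element u of H is a product of two involutions of G, then u is an involution. -/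
theorem result {G Ω : Type*} [Group G] [Finite G] [MulAction G Ω] [Fintype Ω] (hZ : Cfsg.IsZassenhausGroup G Ω) {a b : Ω} (hab : a ≠ b) [IsSimpleGroup G] (h e : ℕ) (hh : Fintype.card Ω = h + 1) (he : Nat.card ↥(MulAction.stabilizer G a ⊓ MulAction.stabilizer G b : Subgroup G) = e) (hodd : Odd e) (hlt : 2 * e < h - 1) (H : Subgroup G) (hHa : H ≤ MulAction.stabilizer G a) (hHcard : Nat.card H + 1 = Fintype.card Ω) (hHfix : ∀ u ∈ H, u ≠ 1 → ∀ c : Ω, u • c = c → c = a) (u : G) (hu : u ∈ H) (hu1 : u ≠ 1) (x y : G) (hx : orderOf x = 2) (hy : orderOf y = 2) (hxy : x * y = u) : orderOf u = 2 := by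
  classical
  haveI := Fintype.ofFinite G
  have ho : Odd (Nat.card (Zassenhaus.two G a b)) := by
    rw [show Nat.card (Zassenhaus.two G a b) = e from he]; exact hodd
  have hall := Feit.odd_all hZ hab ho
  have hsw := Feit.simple_swap_sq hZ hab ho
  have hx2 : x * x = 1 := by rw [← pow_two, ← hx, pow_orderOf_eq_one]
  have hy2 : y * y = 1 := by rw [← pow_two, ← hy, pow_orderOf_eq_one]
  have hx1 : x ≠ 1 := fun h => by simp [h] at hx
  have hua : u • a = a := hHa hu
  have hxa : x • a = a := by
    refine hHfix u hu hu1 _ ?_
    have h1 : u * x * u = x := by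
      rw [← hxy]
      calc x * y * x * (x * y) = x * y * (x * x) * y := by group
        _ = x * (y * y) := by rw [hx2]; group
        _ = x := by rw [hy2, mul_one]
    conv_rhs => rw [← h1, mul_smul, mul_smul, hua]
  have hya : y • a = a := by
    have : (y * x) • a = a := by
      rw [show y * x = (x * y)⁻¹ by
        rw [mul_inv_rev, inv_eq_of_mul_eq_one_left hx2, inv_eq_of_mul_eq_one_left hy2], hxy,
        inv_smul_eq_iff, hua]
    rwa [mul_smul, hxa] at this
  have hn : Odd (Nat.card Ω) := by
    rw [Nat.card_eq_fintype_card, Nat.odd_iff, ← Feit.invol_nfix hZ hall hx2 hx1]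
    refine le_antisymm ?_ (Finset.card_pos.2 ⟨a, by simp [hxa]⟩)
    have := Feit.invol_nfix hZ hall hx2 hx1
    omega
  have hc : Nat.card H + 1 = Nat.card Ω := by rw [Nat.card_eq_fintype_card (α := Ω)]; exact hHcard
  obtain ⟨hxH, hxc⟩ := Feit.invol_central hZ hHa hc hHfix hab hall hsw hn hx2 hxa
  obtain ⟨hyH, -⟩ := Feit.invol_central hZ hHa hc hHfix hab hall hsw hn hy2 hya
  refine orderOf_eq_prime ?_ hu1
  rw [pow_two, ← hxy]
  calc x * y * (x * y) = x * (y * x) * y := by group
    _ = x * x * (y * y) := by rw [← hxc y hyH]; group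
    _ = 1 := by rw [hx2, hy2, one_mul]

end Cfsg.Agent.S0883
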