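import Cfsg.Statements.S0884
import Cfsg.Agent.Lib.FeitKernel
-- import your own Cfsg.Agent.* helpers here

set_option autoImplicit false
open Cfsg

namespace Cfsg.Agent.S0884

/-- Let G be a finite simple Zassenhaus group on Ω with h + 1 points whose two-point stabilizer E has odd order e with 2e < h - 1, and let H be the subgroup of the stabilizer of a consisting of the identity and the elements fixing no point other than a (given here as a subgroup of the stabilizer of order one less than the number of points whose non-identity elements fix only a; it is the Frobenius kernel of the stabilizer). Then at least e conjugacy classes of G contain no element of H. -/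
theorem result {G Ω : Type*} [Group G] [Finite G] [MulAction G Ω] [Fintype Ω] (hZ : Cfsg.IsZassenhausGroup G Ω) {a b : Ω} (hab : a ≠ b) [IsSimpleGroup G] (h e : ℕ) (hh : Fintype.card Ω = h + 1) (he : Nat.card ↥(MulAction.stabilizer G a ⊓ MulAction.stabilizer G b : Subgroup G) = e) (hodd : Odd e) (hlt : 2 * e < h - 1) (H : Subgroup G) (hHa : H ≤ MulAction.stabilizer G a) (hHcard : Nat.card H + 1 = Fintype.card Ω) (hHfix : ∀ u ∈ H, u ≠ 1 → ∀ c : Ω, u • c = c → c = a) : e ≤ Nat.card {C : ConjClasses G // ∀ g : G, ConjClasses.mk g = C → g ∉ H} := by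
  classical
  haveI := Fintype.ofFinite G
  have ho : Odd (Nat.card (Zassenhaus.two G a b)) := by
    rw [show Nat.card (Zassenhaus.two G a b) = e from he]; exact hodd
  have hall := Feit.odd_all hZ hab ho
  have hsw := Feit.simple_swap_sq hZ hab ho
  obtain ⟨j, rfl⟩ := hodd
  obtain ⟨hN2, -, -⟩ := Feit.fix_counts hZ hab hh he
  obtain ⟨-, -, hinv⟩ := Feit.simple_cyclic_inverted hZ hab ho
  have hG : Fintype.card G = (h + 1) * (h * (2 * j + 1)) := by
    have := Feit.card_group hZ hab
    rwa [Nat.card_eq_fintype_card (α := Ω), Nat.card_eq_fintype_card (α := G), hh,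
      Nat.add_sub_cancel, show Nat.card (Zassenhaus.two G a b) = 2 * j + 1 from he] at this
  haveI := Fintype.ofFinite (ConjClasses G)
  let f0 : Finset (ConjClasses G) := (Finset.univ.filter fun g : G =>
    g ≠ 1 ∧ Feit.nfix (Ω := Ω) g = 0).image ConjClasses.mk
  let f2 : Finset (ConjClasses G) := (Finset.univ.filter fun g : G =>
    g ∈ Zassenhaus.two G a b ∧ g ≠ 1).image ConjClasses.mk
  -- classes of the two-point stabiliser
  have h2 : j ≤ f2.card := by
    have hE : (Finset.univ.filter fun g : G => g ∈ Zassenhaus.two G a b ∧ g ≠ 1).card = 2 * j := by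
      have e1 : (Finset.univ.filter fun g : G => g ∈ Zassenhaus.two G a b).card = 2 * j + 1 :=
        (Nat.subtype_card _ fun g => by simp).symm.trans he
      rw [show (Finset.univ.filter fun g : G => g ∈ Zassenhaus.two G a b ∧ g ≠ 1) =
        (Finset.univ.filter fun g : G => g ∈ Zassenhaus.two G a b).erase 1 by
          ext g; simp [and_comm], Finset.card_erase_of_mem (by simp [Subgroup.one_mem]), e1]
      omega
    have := Finset.card_le_mul_card_image (s := Finset.univ.filter fun g : G =>
      g ∈ Zassenhaus.two G a b ∧ g ≠ 1) (f := ConjClasses.mk) 2 fun C hC => by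
        obtain ⟨g, hg, rfl⟩ := Finset.mem_image.1 hC
        simp only [Finset.mem_filter, Finset.mem_univ, true_and] at hg
        refine (Finset.card_le_card (t := ({g, g⁻¹} : Finset G)) ?_).trans Finset.card_le_two
        intro k hk
        simp only [Finset.mem_filter, Finset.mem_univ, true_and] at hk
        obtain ⟨⟨hkE, -⟩, hkg⟩ := hk
        obtain ⟨c, hc⟩ := isConj_iff.1 (ConjClasses.mk_eq_mk_iff_isConj.1 hkg).symm
        simp only [Finset.mem_insert, Finset.mem_singleton]
        have hck : c⁻¹ * k * c = g := by rw [← hc]; group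
        have hk1 : k ≠ 1 := by rw [← hc]; exact fun e => hg.2 (conj_eq_one_iff.1 e)
        rcases Feit.preserves_pair hZ hab hkE hk1 (g := c) (hck.symm ▸ hg.1) with hp | hp
        · refine Or.inl ?_
          obtain ⟨hcyc, -, -⟩ := Feit.simple_cyclic_inverted hZ hab ho
          haveI := hcyc
          haveI : IsMulCommutative (Zassenhaus.two G a b) := hcyc.isMulCommutative
          have := congrArg Subtype.val
            (mul_comm' (⟨c, hp⟩ : Zassenhaus.two G a b) ⟨g, hg.1⟩)
          rw [← hc, show c * g = g * c from this, mul_inv_cancel_right]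
        · exact Or.inr (hc.symm.trans (hinv c hp.1 hp.2 g hg.1))
    rw [hE] at this
    change 2 * j ≤ 2 * f2.card at this
    omega
  -- classes without fixed points, by pairs of involutions
  set I := Finset.univ.filter fun g : G => g * g = 1 ∧ g ≠ 1
  have hI : I.card = if Even h then (2 * j + 1) * (h + 1) else (2 * j + 1) * h :=
    Feit.card_invol hZ hall hsw hab hh he
  let P : (G → Prop) → Finset (G × G) := fun p =>
    (I ×ˢ I).filter fun q => p (q.1 * q.2)
  have hfib : ∀ z : G, ((I ×ˢ I).filter fun q => q.1 * q.2 = z).card ≤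
      (I.filter fun x => x * z * x = z⁻¹).card := by
    intro z
    refine Finset.card_le_card_of_injOn Prod.fst ?_ ?_
    · intro q hq
      simp only [Finset.coe_filter, Finset.mem_product, I, Finset.mem_filter, Finset.mem_univ,
        true_and, Set.mem_setOf_eq] at hq ⊢
      obtain ⟨⟨⟨hx, hx1⟩, hy, hy1⟩, rfl⟩ := hq
      refine ⟨⟨hx, hx1⟩, ?_⟩
      rw [mul_inv_rev, inv_eq_of_mul_eq_one_left hx, inv_eq_of_mul_eq_one_left hy, ← mul_assoc,
        hx, one_mul]
    · intro q hq q' hq' e
      simp only [Finset.coe_filter, Set.mem_setOf_eq] at hq hq'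
      exact Prod.ext e (mul_left_cancel (a := q.1) (hq.2.trans (hq'.2.symm.trans (by rw [e]))))
  have hP1 : (P fun z => z = 1).card ≤ I.card := by
    refine (hfib 1).trans ?_
    exact Finset.card_filter_le _ _
  have hP2 : (P fun z => z ≠ 1 ∧ Feit.nfix (Ω := Ω) z = 2).card ≤
      (h + 1) * h * j * (2 * j + 1) := by
    rw [← hN2, mul_comm]
    refine Finset.card_le_mul_card_image_of_maps_to (f := fun q : G × G => q.1 * q.2)
      (fun q hq => ?_) (2 * j + 1) fun z hz => ?_
    · simp only [P, Finset.mem_filter] at hq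
      simp [hq.2]
    · refine le_trans (le_trans (Finset.card_le_card ?_) (hfib z)) ?_
      · intro q hq
        simp only [P, Finset.mem_filter] at hq ⊢
        exact ⟨hq.1.1, hq.2⟩
      simp only [Finset.mem_filter, Finset.mem_univ, true_and] at hz
      obtain ⟨c, d, hcd, hzc, hzd⟩ := (Feit.nfix_eq_two_iff hZ hz.1).1 hz.2
      refine (Finset.card_le_card (t := Finset.univ.filter fun g : G =>
        (g * g = 1 ∧ g ≠ 1) ∧ g • c = d) ?_).trans
        ((Feit.card_invol_swap hZ hall hsw hab hcd).trans he).le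
      intro x hx
      simp only [I, Finset.mem_filter, Finset.mem_univ, true_and] at hx ⊢
      refine ⟨hx.1, ?_⟩
      have hmem : x⁻¹ * z * x ∈ Zassenhaus.two G c d := by
        rw [inv_eq_of_mul_eq_one_left hx.1.1, hx.2]
        exact Subgroup.inv_mem _ ⟨hzc, hzd⟩
      rcases Feit.preserves_pair hZ hcd (x := z) ⟨hzc, hzd⟩ hz.1 hmem with hp | hp
      · exact (Feit.invol_not_two hZ hall hx.1.1 hx.1.2 hcd hp.1 hp.2).elim
      · exact hp.1
  have hP1' : (P fun z => z ≠ 1 ∧ Feit.nfix (Ω := Ω) z = 1).card ≤
      if Even h then (h + 1) * ((2 * j + 1) * (2 * j)) else 0 := by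
    let Ia : Ω → Finset G := fun c => I.filter fun g => g • c = c
    have hsub : (P fun z => z ≠ 1 ∧ Feit.nfix (Ω := Ω) z = 1) ⊆
        (Finset.univ : Finset Ω).biUnion fun c => (Ia c).offDiag := by
      intro q hq
      simp only [P, I, Finset.mem_filter, Finset.mem_product, Finset.mem_univ, true_and] at hq
      obtain ⟨⟨⟨hx, hx1⟩, hy, hy1⟩, hz1, hz⟩ := hq
      obtain ⟨c, hc⟩ := Finset.card_eq_one.1 hz
      have hc' : (q.1 * q.2) • c = c := by
        have : c ∈ Finset.univ.filter fun d : Ω => (q.1 * q.2) • d = d :=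
          hc ▸ Finset.mem_singleton_self c
        exact (Finset.mem_filter.1 this).2
      have hyx : q.2 * q.1 = (q.1 * q.2)⁻¹ := by
        rw [mul_inv_rev, inv_eq_of_mul_eq_one_left hx, inv_eq_of_mul_eq_one_left hy]
      have hxc : q.1 • c = c := by
        refine Feit.nfix_le_one_fix hZ hz ?_ hc'
        have h1 : q.1 * q.2 * q.1 * (q.1 * q.2) = q.1 := by
          calc q.1 * q.2 * q.1 * (q.1 * q.2) = q.1 * q.2 * (q.1 * q.1) * q.2 := by group
            _ = q.1 * (q.2 * q.2) := by rw [hx]; group
            _ = q.1 := by rw [hy, mul_one]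
        conv_rhs => rw [← h1, mul_smul, hc', mul_smul]
      have hyc : q.2 • c = c := by
        have : (q.2 * q.1) • c = c := by rw [hyx, inv_smul_eq_iff, hc']
        rwa [mul_smul, hxc] at this
      simp only [Finset.mem_biUnion, Finset.mem_univ, true_and, Finset.mem_offDiag, Ia, I,
        Finset.mem_filter]
      exact ⟨c, ⟨⟨hx, hx1⟩, hxc⟩, ⟨⟨hy, hy1⟩, hyc⟩, fun e => hz1 (by rw [e]; exact hy)⟩
    refine (Finset.card_le_card hsub).trans (Finset.card_biUnion_le.trans ?_)
    split_ifs with hev
    · have hIc : ∀ c, (Ia c).card = 2 * j + 1 := by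
        intro c
        have hn : Odd (Fintype.card Ω) := by rw [hh]; exact hev.add_one
        refine (congrArg Finset.card ?_).trans
          ((Feit.card_invol_fix hZ hall hsw hab hn c).trans he)
        simp [Ia, I, Finset.filter_filter]
      rw [Finset.sum_congr rfl fun c _ => by rw [Finset.offDiag_card, hIc], Finset.sum_const,
        Finset.card_univ, hh, smul_eq_mul, ← Nat.mul_sub_one]
      simp
    · refine le_of_eq (Finset.sum_eq_zero fun c _ => ?_)
      rw [Finset.card_eq_zero, Finset.eq_empty_iff_forall_notMem]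
      rintro ⟨x, y⟩ hxy
      simp only [Finset.mem_offDiag, Ia, I, Finset.mem_filter, Finset.mem_univ, true_and] at hxy
      have h1 := Feit.invol_nfix hZ hall hxy.1.1.1 hxy.1.1.2
      rw [hh, show (h + 1) % 2 = 0 by rw [Nat.even_iff] at hev; omega,
        Feit.nfix_eq_zero_iff] at h1
      exact h1 c hxy.1.2
  have hP0 : (P fun z => z ≠ 1 ∧ Feit.nfix (Ω := Ω) z = 0).card ≤ f0.card * Fintype.card G := by
    rw [mul_comm]
    refine Finset.card_le_mul_card_image_of_maps_to
      (f := fun q : G × G => ConjClasses.mk (q.1 * q.2)) (fun q hq => ?_) _ fun C hC => ?_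
    · simp only [P, Finset.mem_filter] at hq
      exact Finset.mem_image.2 ⟨_, by simp [hq.2], rfl⟩
    · obtain ⟨z, -, rfl⟩ := Finset.mem_image.1 hC
      have hcen : ∀ g : G, (I.filter fun x => x * g * x = g⁻¹).card ≤
          Nat.card (Subgroup.centralizer ({g} : Set G)) := by
        intro g
        rcases (I.filter fun x => x * g * x = g⁻¹).eq_empty_or_nonempty with hem | ⟨x₀, hx₀⟩
        · rw [hem]; simp
        rw [Nat.card_eq_fintype_card, ← Finset.card_univ,
          ← Finset.card_map (Function.Embedding.subtype _)]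
        refine Finset.card_le_card_of_injOn (fun x => x₀ * x) (fun x hx => ?_)
          fun x _ y _ e => mul_left_cancel e
        simp only [I, Finset.coe_filter, Finset.mem_filter, Finset.mem_univ, true_and,
          Set.mem_setOf_eq] at hx₀ hx
        simp only [Finset.coe_map, Function.Embedding.coe_subtype, Set.mem_image, Finset.coe_univ,
          Set.mem_univ, true_and]
        refine ⟨⟨x₀ * x, Subgroup.mem_centralizer_singleton_iff.2 ?_⟩, rfl⟩
        calc x₀ * x * g = x₀ * (x * g * x) * x := by
              rw [show x₀ * (x * g * x) * x = x₀ * x * g * (x * x) by group, hx.1.1]; group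
          _ = x₀ * g⁻¹ * x := by rw [hx.2]
          _ = x₀ * (x₀ * g * x₀) * x := by rw [hx₀.2]
          _ = g * (x₀ * x) := by
              rw [show x₀ * (x₀ * g * x₀) * x = (x₀ * x₀) * g * x₀ * x by group, hx₀.1.1]; group
      have hcz : ∀ g : G, IsConj z g →
          ((I ×ˢ I).filter fun q => q.1 * q.2 = g).card ≤
            Nat.card (Subgroup.centralizer ({z} : Set G)) := by
        intro g hg
        refine ((hfib g).trans (hcen g)).trans (le_of_eq ?_)
        have h1 := CharBasicOrth.card_conj_mul_card_centralizer z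
        have h2 := CharBasicOrth.card_conj_mul_card_centralizer g
        rw [show Nat.card {x // IsConj g x} = Nat.card {x // IsConj z x} from
          Nat.card_congr (Equiv.subtypeEquivRight fun x => ⟨hg.trans, hg.symm.trans⟩), ← h1] at h2
        have : Nonempty {x // IsConj z x} := ⟨⟨z, IsConj.refl z⟩⟩
        exact Nat.eq_of_mul_eq_mul_left Nat.card_pos h2
      rw [← Nat.card_eq_fintype_card, ← CharBasicOrth.card_conj_mul_card_centralizer z, mul_comm,
        show Nat.card {g // IsConj z g} = (Finset.univ.filter fun g : G => IsConj z g).card from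
          Nat.subtype_card _ fun g => by simp]
      refine Finset.card_le_mul_card_image_of_maps_to (f := fun q : G × G => q.1 * q.2)
        (fun q hq => ?_) _ fun g hg => ?_
      · simp only [Finset.mem_filter, Finset.mem_univ, true_and] at hq ⊢
        exact (ConjClasses.mk_eq_mk_iff_isConj.1 hq.2).symm
      · refine le_trans (Finset.card_le_card fun q hq => ?_)
          (hcz g (Finset.mem_filter.1 hg).2)
        simp only [P, Finset.mem_filter] at hq ⊢
        exact ⟨hq.1.1.1, hq.2⟩
  have hsplit : I.card * I.card ≤ (P fun z => z = 1).card +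
      ((P fun z => z ≠ 1 ∧ Feit.nfix (Ω := Ω) z = 2).card +
      ((P fun z => z ≠ 1 ∧ Feit.nfix (Ω := Ω) z = 1).card +
      (P fun z => z ≠ 1 ∧ Feit.nfix (Ω := Ω) z = 0).card)) := by
    rw [← Finset.card_product]
    refine le_trans (Finset.card_le_card ?_) (le_trans (Finset.card_union_le _ _)
      (Nat.add_le_add_left (le_trans (Finset.card_union_le _ _)
        (Nat.add_le_add_left (Finset.card_union_le _ _) _)) _))
    intro q hq
    simp only [P, Finset.mem_union, Finset.mem_filter]
    by_cases h1 : q.1 * q.2 = 1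
    · exact Or.inl ⟨hq, h1⟩
    · refine Or.inr ?_
      have := Feit.nfix_le_two hZ h1
      rcases (show Feit.nfix (Ω := Ω) (q.1 * q.2) = 2 ∨ Feit.nfix (Ω := Ω) (q.1 * q.2) = 1 ∨
        Feit.nfix (Ω := Ω) (q.1 * q.2) = 0 by omega) with h | h | h
      · exact Or.inl ⟨hq, h1, h⟩
      · exact Or.inr (Or.inl ⟨hq, h1, h⟩)
      · exact Or.inr (Or.inr ⟨hq, h1, h⟩)
  have h0 : j + 1 ≤ f0.card := by
    have key := hsplit.trans (Nat.add_le_add hP1 (Nat.add_le_add hP2 (Nat.add_le_add hP1' hP0)))
    rw [hI, hG] at key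
    by_contra hc
    have hc' : f0.card ≤ j := by omega
    have hmul : f0.card * ((h + 1) * (h * (2 * j + 1))) ≤ j * ((h + 1) * (h * (2 * j + 1))) :=
      Nat.mul_le_mul_right _ hc'
    obtain ⟨d, rfl⟩ : ∃ d, h = 4 * j + 4 + d := ⟨h - (4 * j + 4), by omega⟩
    split_ifs at key <;> nlinarith
  -- assemble
  have hdisj : Disjoint f0 f2 := by
    rw [Finset.disjoint_left]
    rintro C hC0 hC2
    obtain ⟨x, hx, rfl⟩ := Finset.mem_image.1 hC0
    obtain ⟨y, hy, hxy⟩ := Finset.mem_image.1 hC2
    obtain ⟨k, hk⟩ := isConj_iff.1 (ConjClasses.mk_eq_mk_iff_isConj.1 hxy)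
    simp only [Finset.mem_filter, Finset.mem_univ, true_and] at hx hy
    have := hx.2
    rw [← hk, Feit.nfix_conj, (Feit.nfix_eq_two_iff hZ hy.2).2 ⟨a, b, hab, hy.1.1, hy.1.2⟩] at this
    exact absurd this (by omega)
  have hsub : f0 ∪ f2 ⊆ Finset.univ.filter fun C : ConjClasses G =>
      ∀ g : G, ConjClasses.mk g = C → g ∉ H := by
    intro C hC
    simp only [Finset.mem_filter, Finset.mem_univ, true_and]
    intro g hgC hgH
    rcases Finset.mem_union.1 hC with hC | hC <;> obtain ⟨x, hx, rfl⟩ := Finset.mem_image.1 hC <;>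
      simp only [Finset.mem_filter, Finset.mem_univ, true_and] at hx <;>
      obtain ⟨k, hk⟩ := isConj_iff.1 (ConjClasses.mk_eq_mk_iff_isConj.1 hgC)
    · have h1 := hx.2
      rw [← hk, Feit.nfix_conj, Feit.nfix_eq_zero_iff] at h1
      exact h1 a (hHa hgH)
    · have h1 := (Feit.nfix_eq_two_iff hZ hx.2).2 ⟨a, b, hab, hx.1.1, hx.1.2⟩
      rw [← hk, Feit.nfix_conj] at h1
      have hg1 : g ≠ 1 := fun e => hx.2 (by rw [← hk, e]; group)
      obtain ⟨c, d, hcd, hc, hd⟩ := (Feit.nfix_eq_two_iff hZ hg1).1 h1
      exact hcd ((hHfix g hgH hg1 c hc).trans (hHfix g hgH hg1 d hd).symm)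
  have := Finset.card_le_card hsub
  rw [Finset.card_union_of_disjoint hdisj] at this
  rw [Nat.card_eq_fintype_card, Fintype.card_subtype]
  omega

end Cfsg.Agent.S0884
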