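import Cfsg.Statements.S0889
import Mathlib
import Cfsg.Agent.Lib.BergerCore30
import Cfsg.Agent.Lib.RealOddMain30

set_option autoImplicit false
open Cfsg

namespace Cfsg.Agent.S0889
open Cfsg.Agent.CharBasic Cfsg.Agent.CharBasicOrth Cfsg.Agent.CharBasicDecomp Cfsg.Agent.CharInduced
open scoped commutatorElement

universe w

noncomputable local instance (priority := 100) fintypeOfFin' {α : Type*} [Finite α] : Fintype α :=
  Fintype.ofFinite α

theorem exists_coatom_ind {G : Type w} [Group G] [Fintype G] {K : Subgroup G} (hK : K ≠ ⊤)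
    {ψ : K → ℂ} (hψ : IsCharacter K ψ) : ∃ H : Subgroup G, IsCoatom H ∧ K ≤ H ∧
      ∃ ψ' : H → ℂ, IsCharacter H ψ' ∧ indFun H ψ' = indFun K ψ := by
  obtain h | ⟨H, hH, hKH⟩ := eq_top_or_exists_le_coatom K
  · exact absurd h hK
  refine ⟨H, hH, hKH, indFun (K.subgroupOf H) (toSubgroupOf ψ), isCharacter_ind _ ?_,
    ind_trans hKH ψ⟩
  rw [show (toSubgroupOf ψ : K.subgroupOf H → ℂ) = fun x =>
    ψ ((Subgroup.subgroupOfEquivOfLe hKH).toMonoidHom x) from rfl]
  exact isCharacter_comap _ hψ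

theorem sup_eq_top {G : Type w} [Group G] {H : Subgroup G} (hH : IsCoatom H) {N : Subgroup G}
    (hN : ¬ N ≤ H) : H ⊔ N = ⊤ :=
  hH.2 _ (lt_of_le_of_ne le_sup_left fun e => hN (e ▸ le_sup_right))

theorem exists_mul {G : Type w} [Group G] {H L : Subgroup G} [L.Normal] (h : H ⊔ L = ⊤) (g : G) :
    ∃ x ∈ H, ∃ l ∈ L, g = x * l := by
  obtain ⟨x, hx, l, hl, e⟩ :=
    Subgroup.mem_sup_of_normal_right.1 (h ▸ Subgroup.mem_top g : g ∈ H ⊔ L)
  exact ⟨x, hx, l, hl, e.symm⟩

theorem card_mul_relIndex {G : Type w} [Group G] {A B : Subgroup G} (h : A ≤ B) :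
    Nat.card A * A.relIndex B = Nat.card B := by
  rw [← Nat.card_congr (Subgroup.subgroupOfEquivOfLe h).toEquiv]
  exact Subgroup.card_mul_index _

theorem index_eq {G : Type w} [Group G] [Finite G] {H L K : Subgroup G} [L.Normal]
    (h : H ⊔ L = ⊤) (hinf : H ⊓ L = K) : H.index = K.relIndex L := by
  have h1 : L.index = L.relIndex H := by
    rw [← Subgroup.relIndex_top_right, ← h, Subgroup.relIndex_sup_right]
  have hKL : K ≤ L := hinf ▸ inf_le_right
  have hKH : K ≤ H := hinf ▸ inf_le_left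
  have h2 : L.relIndex H = K.relIndex H := by
    rw [← hinf, inf_comm, Subgroup.inf_relIndex_right]
  have e1 := H.card_mul_index
  have e2 := L.card_mul_index
  rw [← card_mul_relIndex hKH] at e1
  rw [← card_mul_relIndex hKL, h1, h2, ← e1] at e2
  have hpos : 0 < Nat.card K * K.relIndex H :=
    Nat.mul_pos Nat.card_pos (Nat.pos_of_ne_zero Subgroup.FiniteIndex.index_ne_zero)
  exact Nat.eq_of_mul_eq_mul_left hpos (by rw [← e2]; ring)

theorem false_of_ind_normal {G : Type w} [Group G] [Fintype G] {χ : G → ℂ}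
    (hχ : IsIrrCharacter G χ) {H : Subgroup G} [Fintype H] (hH : H ≠ ⊤) {ψ : H → ℂ}
    (hψ : IsCharacter H ψ) (hind : indFun H ψ = χ) {ϑ : H → ℂ} (hϑ : IsIrrCharacter H ϑ) {e : ℕ}
    (he : (fun h : H => χ h) = (e : ℂ) • ϑ) : False := by
  have h1 := classInner_irr_self hχ
  conv_lhs at h1 => arg 1; rw [← hind]
  rw [inner_ind_left H ψ (isClassFunction_irr hχ), he, CharBasicOrth.classInner_smul_right,
    Complex.conj_natCast] at h1
  obtain ⟨k, hk⟩ := classInner_isCharacter hψ (isCharacter_of_isIrrCharacter hϑ)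
  rw [hk] at h1
  have hek : e * k = 1 := by exact_mod_cast h1
  have he1 : e = 1 := Nat.eq_one_of_mul_eq_one_right hek
  have hne : classInner ψ ϑ ≠ 0 := by
    rw [hk, Nat.eq_one_of_mul_eq_one_left hek, Nat.cast_one]; exact one_ne_zero
  obtain ⟨j, hj⟩ := isCharacter_apply_one (isCharacter_sub_constituent hψ hϑ hne)
  obtain ⟨s, hs, hs1⟩ := isIrrCharacter_apply_one hϑ
  rw [Pi.sub_apply, sub_eq_iff_eq_add, hs1, ← Nat.cast_add] at hj
  have h2 := congrFun hind 1
  have h3 := congrFun he 1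
  rw [he1, Nat.cast_one, one_smul, hs1, OneMemClass.coe_one] at h3
  rw [ind_one_apply, hj, h3, ← Nat.cast_mul, Nat.cast_inj] at h2
  have hlt := Subgroup.one_lt_index_of_ne_top hH
  nlinarith [Nat.zero_le (H.index * j)]

theorem relIndex_pow {G : Type w} [Group G] [Finite G] {K L : Subgroup G} [K.Normal] {p : ℕ}
    (hp : p.Prime) (h : ∀ x ∈ L, ∃ i, x ^ p ^ i ∈ K) : ∃ j, K.relIndex L = p ^ j := by
  have : Fact p.Prime := ⟨hp⟩
  have hq : IsPGroup p (L ⧸ K.subgroupOf L) := by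
    intro x
    obtain ⟨x, rfl⟩ := QuotientGroup.mk'_surjective _ x
    obtain ⟨i, hi⟩ := h x x.2
    refine ⟨i, ?_⟩
    rw [← map_pow, QuotientGroup.mk'_apply, QuotientGroup.eq_one_iff, Subgroup.mem_subgroupOf]
    exact hi
  exact IsPGroup.iff_card.1 hq

theorem le_of_commutator {G : Type w} [Group G] [Finite G] {K L M : Subgroup G} [K.Normal]
    {p : ℕ} (hp : p.Prime) (hLM : L ≤ M) (hM : ∀ x ∈ M, ∃ i, x ^ p ^ i ∈ K)
    (h : L ≤ ⁅L, M⁆ ⊔ K) : L ≤ K := by
  have : Fact p.Prime := ⟨hp⟩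
  set π := QuotientGroup.mk' K
  set Mb := M.map π
  have hMb : IsPGroup p Mb := by
    rintro ⟨_, x, hx, rfl⟩
    obtain ⟨i, hi⟩ := hM x hx
    refine ⟨i, Subtype.ext ?_⟩
    rw [Subgroup.coe_pow, Subgroup.coe_one]
    show π x ^ p ^ i = 1
    rw [← map_pow]
    exact (QuotientGroup.eq_one_iff _).2 hi
  have hnil : Group.IsNilpotent Mb := hMb.isNilpotent
  have hK : K.map π = ⊥ := by
    rw [Subgroup.map_eq_bot_iff, QuotientGroup.ker_mk']
  have hstep : L.map π ≤ ⁅L.map π, Mb⁆ := by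
    rw [← Subgroup.map_commutator]
    refine (Subgroup.map_mono h).trans ?_
    rw [Subgroup.map_sup, hK, sup_bot_eq]
  have hn : ∀ n, L.map π ≤ ((⊤ : Subgroup Mb).lowerCentralSeries n).map Mb.subtype := by
    intro n
    induction n with
    | zero =>
      rw [Subgroup.lowerCentralSeries_zero, ← MonoidHom.range_eq_map, Subgroup.range_subtype]
      exact Subgroup.map_mono hLM
    | succ n ih =>
      refine hstep.trans ((Subgroup.commutator_mono ih le_rfl).trans ?_)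
      rw [Subgroup.lowerCentralSeries_succ, Subgroup.map_commutator, ← MonoidHom.range_eq_map,
        Subgroup.range_subtype]
  obtain ⟨n, hn'⟩ := Subgroup.nilpotent_iff_lowerCentralSeries.1 hnil
  intro x hx
  have := hn n ⟨x, hx, rfl⟩
  rw [hn', Subgroup.map_bot, Subgroup.mem_bot] at this
  exact (QuotientGroup.eq_one_iff _).1 this

theorem step {G : Type w} [Group G] [Fintype G] [Group.IsSolvable G] {χ : G → ℂ}
    (hχ : IsIrrCharacter G χ)
    (hqp : ∀ (N : Subgroup G), N.Normal → ∃ (ϑ : N → ℂ) (e : ℕ), IsIrrCharacter N ϑ ∧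
      (fun n : N => χ n) = (e : ℂ) • ϑ)
    {H : Subgroup G} (hH : IsCoatom H) {ψ : H → ℂ} (hψ : IsCharacter H ψ)
    (hind : indFun H ψ = χ) :
    ∃ U : Subgroup G, U ≠ ⊤ ∧ ∃ N : Subgroup G, N.Normal ∧ N ≤ U ∧ H.normalCore < N ∧
      ∃ ξ : U → ℂ, IsCharacter U ξ ∧ indFun U ξ = χ := by
  classical
  set K := H.normalCore with hKdef
  have hKH : K ≤ H := H.normalCore_le
  have hKtop : K ≠ ⊤ := fun e => hH.1 (top_le_iff.1 (e ▸ hKH))
  obtain ⟨p, hp, L, hLn, hKL, hLc, hLp⟩ :=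
    Cfsg.Agent.RealOddChars30.exists_chief_above K hKtop
  have hLH : ¬ L ≤ H := fun h => hKL.not_ge (Subgroup.normal_le_normalCore.2 h)
  have hsup := sup_eq_top hH hLH
  have hprod := exists_mul hsup
  have hinfn : (H ⊓ L).Normal := ⟨fun x hx g => by
    obtain ⟨h, hh, l, hl, rfl⟩ := hprod g
    have h1 : l * x * l⁻¹ ∈ H ⊓ L := by
      rw [show l * x * l⁻¹ = ⁅l, x⁆ * x by simp [commutatorElement_def]]
      exact mul_mem (Subgroup.mem_inf.2 ⟨hKH (hLc l hl x (Subgroup.mem_inf.1 hx).2),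
        hKL.le (hLc l hl x (Subgroup.mem_inf.1 hx).2)⟩) hx
    rw [show h * l * x * (h * l)⁻¹ = h * (l * x * l⁻¹) * h⁻¹ by simp [mul_assoc]]
    exact Subgroup.mem_inf.2 ⟨mul_mem (mul_mem hh (Subgroup.mem_inf.1 h1).1) (inv_mem hh),
      hLn.conj_mem _ (Subgroup.mem_inf.1 h1).2 h⟩⟩
  have hinf : H ⊓ L = K :=
    le_antisymm (Subgroup.normal_le_normalCore.2 inf_le_left) (le_inf hKH hKL.le)
  by_cases hL : L = ⊤
  · exfalso
    have hHK : H = K := by rw [← hinf, hL, inf_top_eq]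
    have hHn : H.Normal := hHK ▸ inferInstance
    obtain ⟨ϑ, e, hϑ, he⟩ := hqp H hHn
    exact false_of_ind_normal hχ hH.1 hψ hind hϑ he
  obtain ⟨q, hq, M, hMn, hLM, hMc, hMq⟩ := Cfsg.Agent.RealOddChars30.exists_chief_above L hL
  have hmin : ∀ N : Subgroup G, N.Normal → K ≤ N → N ≤ L → N = K ∨ N = L := by
    intro N hN hKN hNL
    by_cases h : N ≤ H
    · exact Or.inl (le_antisymm (Subgroup.normal_le_normalCore.2 h) hKN)
    · refine Or.inr (le_antisymm hNL fun l hl => ?_)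
      obtain ⟨x, hx, y, hy, rfl⟩ := exists_mul (sup_eq_top hH h) l
      have hxL : x ∈ L := by simpa using mul_mem hl (inv_mem (hNL hy))
      exact mul_mem (hKN (hinf ▸ Subgroup.mem_inf.2 ⟨hx, hxL⟩)) hy
  have hnc : ∃ a ∈ M ⊓ H, ∃ l ∈ L, ⁅a, l⁆ ∉ K := by
    by_contra hcon
    push Not at hcon
    have hn : (M ⊓ H).Normal := ⟨fun a ha g => by
      obtain ⟨h, hh, l, hl, rfl⟩ := hprod g
      have h1 : l * a * l⁻¹ ∈ M ⊓ H := by
        rw [show l * a * l⁻¹ = ⁅a, l⁆⁻¹ * a by simp [commutatorElement_def, mul_assoc]]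
        have hk := inv_mem (hcon a ha l hl)
        exact mul_mem (Subgroup.mem_inf.2 ⟨hLM.le (hKL.le hk), hKH hk⟩) ha
      rw [show h * l * a * (h * l)⁻¹ = h * (l * a * l⁻¹) * h⁻¹ by simp [mul_assoc]]
      exact Subgroup.mem_inf.2 ⟨hMn.conj_mem _ (Subgroup.mem_inf.1 h1).1 h,
        mul_mem (mul_mem hh (Subgroup.mem_inf.1 h1).2) (inv_mem hh)⟩⟩
    refine hLM.not_ge fun m hm => ?_
    obtain ⟨x, hx, y, hy, rfl⟩ := hprod m
    have hxM : x ∈ M := by simpa using mul_mem hm (inv_mem (hLM.le hy))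
    have hxK : x ∈ K :=
      Subgroup.normal_le_normalCore.2 (inf_le_right (a := M)) (Subgroup.mem_inf.2 ⟨hxM, hx⟩)
    exact mul_mem (hKL.le hxK) hy
  have hidxeq := index_eq hsup hinf
  obtain ⟨j, hj⟩ := relIndex_pow hp hLp
  have hidx1 : 1 < H.index := Subgroup.one_lt_index_of_ne_top hH.1
  have hpq : p ≠ q := by
    rintro rfl
    have hMK : ∀ x ∈ M, ∃ i, x ^ p ^ i ∈ K := fun x hx => by
      obtain ⟨i, hi⟩ := hMq x hx
      obtain ⟨i', hi'⟩ := hLp _ hi
      exact ⟨i + i', by rw [pow_add, pow_mul]; exact hi'⟩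
    have hcn : (⁅L, M⁆ ⊔ K).Normal := inferInstance
    rcases hmin _ hcn le_sup_right (sup_le (Subgroup.commutator_le_left L M) hKL.le) with h | h
    · obtain ⟨a, ha, l, hl, hal⟩ := hnc
      refine hal ?_
      rw [← h]
      refine Subgroup.mem_sup_left ?_
      rw [← commutatorElement_inv]
      exact inv_mem (Subgroup.commutator_mem_commutator hl (Subgroup.mem_inf.1 ha).1)
    · exact hKL.not_ge (le_of_commutator hp hLM.le hMK h.ge)
  have hidx : Nat.Coprime H.index q := by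
    rw [hidxeq, hj]
    exact Nat.Coprime.pow_left _ ((Nat.coprime_primes hp hq).2 hpq)
  -- the representations
  obtain ⟨r, σ, hσ⟩ := hψ
  obtain ⟨ϑL, f, hϑL, hfL⟩ := hqp L hLn
  obtain ⟨n, φ, hφ, hφc⟩ := hϑL
  obtain ⟨ϑK, e', hϑK, hfK⟩ := hqp K inferInstance
  obtain ⟨t, θ, hθ, hθc⟩ := hϑK
  let V := G ⧸ H → Fin r → ℂ
  let σV : Representation ℂ G V := indRep σ
  have hσV : σV.character = χ := by rw [indRep_character, hσ, hind]
  let ε : V ≃ₗ[ℂ] (Fin (Module.finrank ℂ V) → ℂ) := (Module.finBasis ℂ V).equivFun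
  let ρ := repConj ε σV
  have hρ : ρ.character = χ := by rw [character_repConj, hσV]
  have hρi : ρ.IsIrreducible := isIrreducible_of_isIrrCharacter ρ (by rw [hρ]; exact hχ)
  have hρL : ∀ l : L, ρ.character (l : G) = (f : ℂ) * φ.character l := fun l => by
    rw [hρ, hφc]; exact congrFun hfL l
  have hf : (f : ℂ) ≠ 0 := fun h => isIrrCharacter_apply_one_ne_zero hχ (by
    have := congrFun hfL 1
    rw [h, zero_smul] at this
    exact this)
  set α := Cfsg.Agent.BergerImpl30.resK L K φ hKL.le with hα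
  obtain ⟨e, he⟩ : ∃ e : ℕ, α.character = (e : ℂ) • θ.character := by
    obtain ⟨e, he⟩ := classInner_isCharacter (isCharacter_of_rep α) (isCharacter_of_rep θ)
    refine ⟨e, ?_⟩
    have h1 : α.character = ((f : ℂ)⁻¹ * e') • θ.character := by
      funext k
      rw [Pi.smul_apply, smul_eq_mul, mul_assoc, hθc]
      have h2 := congrFun hfK k
      rw [Pi.smul_apply, smul_eq_mul] at h2
      rw [← h2, ← hρ]
      rw [show (k : G) = ((Subgroup.inclusion hKL.le k : L) : G) from rfl, hρL,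
        ← mul_assoc, inv_mul_cancel₀ hf, one_mul]
      rfl
    have := classInner_character_irreducible_self θ
    rw [h1, CharBasicOrth.classInner_smul_left, this, mul_one] at he
    rw [h1, he]
  let q0 : G ⧸ H := ((1 : G) : G ⧸ H)
  have hk0 : q0.out ∈ H := by
    have h1 := QuotientGroup.eq.1 (QuotientGroup.out_eq' q0)
    simpa using h1
  let k0 : H := ⟨q0.out, hk0⟩
  have hfix : ∀ g : G, g ∈ H ↔ g⁻¹ • q0 = q0 := fun g => by
    rw [smul_inv_eq_iff_mem]
    refine ⟨fun hg => mul_mem (mul_mem (inv_mem hk0) hg) hk0, fun hg => ?_⟩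
    have := mul_mem (mul_mem hk0 hg) (inv_mem hk0)
    simpa [mul_assoc] using this
  have hcoc : ∀ h : H, indCocycle H (h : G) q0 = k0⁻¹ * h * k0 := fun h => by
    refine Subtype.ext ?_
    simp only [indCocycle, (hfix (h : G)).1 h.2]
    rfl
  let ι₀ : (Fin r → ℂ) →ₗ[ℂ] V :=
    LinearMap.single ℂ (fun _ : G ⧸ H => (Fin r → ℂ)) q0 ∘ₗ σ k0⁻¹
  let π₀ : V →ₗ[ℂ] (Fin r → ℂ) := σ k0 ∘ₗ LinearMap.proj q0
  have hι₀a : ∀ y, ι₀ y = Pi.single q0 (σ k0⁻¹ y) := fun y => rfl
  have hπ₀a : ∀ v, π₀ v = σ k0 (v q0) := fun v => rfl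
  have hσVa : ∀ g v q, σV g v q = σ (indCocycle H g q) (v (g⁻¹ • q)) := fun _ _ _ => rfl
  have hρa : ∀ g v, ρ g (ε v) = ε (σV g v) := fun g v => by
    simp [ρ]
  have hι₀ : ∀ (h : H) y, σV (h : G) (ι₀ y) = ι₀ (σ h y) := by
    intro h y
    funext q
    rw [hσVa, hι₀a, hι₀a]
    by_cases hq : q = q0
    · subst hq
      rw [(hfix (h : G)).1 h.2, hcoc, Pi.single_eq_same, Pi.single_eq_same]
      rw [← Module.End.mul_apply, ← map_mul, ← Module.End.mul_apply, ← map_mul]
      congr 2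
      simp [mul_assoc]
    · have hne : (h : G)⁻¹ • q ≠ q0 := by
        intro e
        rw [inv_smul_eq_iff] at e
        refine hq (e.trans ?_)
        have := (hfix (h : G)⁻¹).1 (inv_mem h.2)
        rwa [inv_inv] at this
      rw [Pi.single_eq_of_ne hne, Pi.single_eq_of_ne hq, map_zero]
  obtain ⟨U, hU, hMU, ξ, hξ, hξ'⟩ := Cfsg.Agent.BergerCore30.core H L K M hKL.le hKH hinf.le hprod
    hLM.le hMc hq hMq hidx hidx1 hmin hnc ρ φ θ σ hρL he (ε.toLinearMap ∘ₗ ι₀)
    (π₀ ∘ₗ ε.symm.toLinearMap)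
    (fun y => by
      show π₀ (ε.symm (ε (ι₀ y))) = y
      rw [LinearEquiv.symm_apply_apply, hπ₀a, hι₀a, Pi.single_eq_same]
      rw [← Module.End.mul_apply, ← map_mul, mul_inv_cancel, map_one]; rfl)
    (fun h y => by
      simp only [LinearMap.comp_apply, LinearEquiv.coe_coe]
      rw [hρa, hι₀])
    (fun h v => by
      obtain ⟨v, rfl⟩ := ε.surjective v
      simp only [LinearMap.comp_apply, LinearEquiv.coe_coe, hρa, LinearEquiv.symm_apply_apply,
        hπ₀a]
      rw [hσVa, (hfix (h : G)).1 h.2, hcoc, ← Module.End.mul_apply, ← map_mul,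
        ← Module.End.mul_apply, ← map_mul]
      congr 2
      simp [mul_assoc])
    (fun l hl y => by
      simp only [LinearMap.comp_apply, LinearEquiv.coe_coe, hρa, LinearEquiv.symm_apply_apply,
        hπ₀a]
      rw [hσVa, hι₀a]
      have hne : (l : G)⁻¹ • q0 ≠ q0 := fun h =>
        hl (hinf.le (Subgroup.mem_inf.2 ⟨(hfix _).2 h, l.2⟩))
      rw [Pi.single_eq_of_ne hne, map_zero, map_zero])
    (fun v => by
      obtain ⟨v, rfl⟩ := ε.surjective v
      simp only [LinearMap.comp_apply, LinearEquiv.coe_coe, hρa, LinearEquiv.symm_apply_apply]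
      rw [← map_sum, ← map_smul]
      refine congrArg ε (funext fun qq => ?_)
      rw [Finset.sum_apply, Pi.smul_apply]
      obtain ⟨g, rfl⟩ := QuotientGroup.mk_surjective qq
      obtain ⟨h, hh, l, hl, rfl⟩ := hprod g
      set l0 : L := ⟨h * l * h⁻¹, hLn.conj_mem l hl h⟩
      have hq' : ((h * l : G) : G ⧸ H) = (l0 : G) • q0 := by
        show _ = (((l0 : G) * 1 : G) : G ⧸ H)
        refine QuotientGroup.eq.2 ?_
        simpa [l0, mul_assoc] using inv_mem hh
      rw [hq']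
      have hterm : ∀ k : L, σV (k : G) (ι₀ (π₀ (σV (k : G)⁻¹ v))) ((l0 : G) • q0) =
          if (l0 : G)⁻¹ * k ∈ H then v ((l0 : G) • q0) else 0 := by
        intro k
        have hkey : ((k : G)⁻¹ • ((l0 : G) • q0) = q0) ↔ (l0 : G)⁻¹ * k ∈ H := by
          rw [hfix, smul_smul, mul_inv_rev, inv_inv]
        rw [hσVa, hι₀a, hπ₀a]
        split_ifs with hk
        · have he' := hkey.2 hk
          rw [he', Pi.single_eq_same]
          rw [show σ k0⁻¹ (σ k0 (σV (k : G)⁻¹ v q0)) = σV (k : G)⁻¹ v q0 from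
            Representation.inv_self_apply _ _ _, hσVa, ← Module.End.mul_apply, ← map_mul]
          have hm := indCocycle_mul H (k : G) (k : G)⁻¹ ((l0 : G) • q0)
          rw [he', mul_inv_cancel, indCocycle_one] at hm
          rw [← hm, map_one, inv_inv]
          have : (k : G) • q0 = (l0 : G) • q0 := (inv_smul_eq_iff.1 he').symm
          rw [this]; rfl
        · have hne : (k : G)⁻¹ • ((l0 : G) • q0) ≠ q0 := fun h => hk (hkey.1 h)
          rw [Pi.single_eq_of_ne hne, map_zero]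
      rw [Finset.sum_congr rfl fun k _ => hterm k, ← Finset.sum_filter, Finset.sum_const,
        ← Nat.cast_smul_eq_nsmul ℂ]
      congr 2
      rw [← Nat.card_eq_finsetCard]
      refine Nat.card_congr
        { toFun := fun k => ⟨(l0 : G)⁻¹ * k.1, hinf.le (Subgroup.mem_inf.2
            ⟨(Finset.mem_filter.1 k.2).2, mul_mem (inv_mem l0.2) k.1.2⟩)⟩
          invFun := fun x => ⟨⟨(l0 : G) * x, mul_mem l0.2 (hKL.le x.2)⟩,
            Finset.mem_filter.2 ⟨@Finset.mem_univ _ (_) _,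
              by rw [inv_mul_cancel_left]; exact hKH x.2⟩⟩
          left_inv := fun k => Subtype.ext (Subtype.ext (by simp))
          right_inv := fun x => Subtype.ext (by simp) })
    (by
      show Module.finrank ℂ V = _
      rw [Module.finrank_pi_fintype, Finset.sum_const, Finset.card_univ, smul_eq_mul,
        Module.finrank_fin_fun, ← Nat.card_eq_fintype_card, ← Subgroup.index])
  exact ⟨U, hU, M, hMn, hMU, hKL.trans hLM, ξ, hξ, (by convert hξ'.trans hρ)⟩


/-- Let G be a finite solvable group and χ an irreducible character of G such that for every normal subgroup N the restriction of χ to N is a natural-number multiple of one irreducible character of N. Then χ is not induced from a character of any proper subgroup. -/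
theorem result {G : Type*} [Group G] [Fintype G] [Group.IsSolvable G] (χ : G → ℂ) (hχ : Cfsg.IsIrrCharacter G χ) (hqp : ∀ (N : Subgroup G), N.Normal → ∃ (ϑ : N → ℂ) (e : ℕ), Cfsg.IsIrrCharacter N ϑ ∧ (fun n : N => χ n) = (e : ℂ) • ϑ) (K : Subgroup G) (hK : K ≠ ⊤) (ψ : K → ℂ) (hψ : Cfsg.IsCharacter K ψ) : Cfsg.indFun K ψ ≠ χ := by
  classical
  intro hind
  obtain ⟨H₀, hH₀, -, ψ₀, hψ₀, h₀⟩ := exists_coatom_ind hK hψ
  let S : Finset (Subgroup G) := Finset.univ.filter fun H =>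
    IsCoatom H ∧ ∃ ψ : H → ℂ, Cfsg.IsCharacter H ψ ∧ Cfsg.indFun H ψ = χ
  have hS : S.Nonempty :=
    ⟨H₀, Finset.mem_filter.2 ⟨Finset.mem_univ _, hH₀, ψ₀, hψ₀, h₀.trans hind⟩⟩
  obtain ⟨H, hH, hmax⟩ := S.exists_max_image (fun H => Nat.card H.normalCore) hS
  obtain ⟨-, hHc, ψ', hψ', hH'⟩ := Finset.mem_filter.1 hH
  obtain ⟨U, hU, N, hN, hNU, hlt, ξ, hξ, hξ'⟩ := step hχ hqp hHc hψ' hH'
  obtain ⟨H', hH'c, hUH', ξ', hξc, hξe⟩ := exists_coatom_ind hU hξ
  have h1 := hmax H' (Finset.mem_filter.2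
    ⟨Finset.mem_univ _, hH'c, ξ', hξc, hξe.trans hξ'⟩)
  have h2 : Nat.card N ≤ Nat.card H'.normalCore :=
    Nat.le_of_dvd Nat.card_pos
      (Subgroup.card_dvd_of_le (Subgroup.normal_le_normalCore.2 (hNU.trans hUH')))
  have h3 : Nat.card H.normalCore < Nat.card N :=
    lt_of_le_of_ne (Nat.le_of_dvd Nat.card_pos (Subgroup.card_dvd_of_le hlt.le))
      fun e => hlt.ne (Subgroup.eq_of_le_of_card_ge hlt.le e.ge)
  omega

end Cfsg.Agent.S0889
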