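import Cfsg.Statements.S0890
import Mathlib
import Cfsg.Agent.S0889
import Cfsg.Agent.Lib.CharProjDegree
-- import your own Cfsg.Agent.* helpers here

set_option autoImplicit false
open Cfsg

namespace Cfsg.Agent.S0890

open Agent.CharBasic Agent.CharBasicOrth Agent.CharBasicDecomp Agent.CharInduced
open scoped commutatorElement ComplexConjugate

universe w

noncomputable local instance (priority := 100) fintypeOfFin' {α : Type*} [Finite α] : Fintype α :=
  Fintype.ofFinite α

attribute [local instance] Classical.propDecidable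

variable {G : Type w} [Group G] [Fintype G]

/-- The sum of squared absolute values on a subgroup. -/
noncomputable def S (X : Subgroup G) (χ : G → ℂ) : ℝ :=
  ∑ g ∈ Finset.univ.filter (fun g => g ∈ X), ‖χ g‖ ^ 2

theorem S_eq (X : Subgroup G) (χ : G → ℂ) :
    (S X χ : ℂ) = (Nat.card X : ℂ) * classInner (fun x : X => χ x) (fun x : X => χ x) := by
  rw [card_mul_classInner, S, Complex.ofReal_sum,
    Finset.sum_subtype (p := fun g => g ∈ X) _ (fun g => by simp)]
  exact Finset.sum_congr rfl fun x _ => by rw [Complex.mul_conj']; push_cast; rfl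

theorem S_mul_irr {X : Subgroup G} {χ : G → ℂ} {ψ : X → ℂ} (hψ : IsIrrCharacter X ψ) {a : ℕ}
    (h : (fun x : X => χ x) = (a : ℂ) • ψ) : S X χ = (Nat.card X : ℝ) * (a : ℝ) ^ 2 := by
  apply Complex.ofReal_injective
  rw [S_eq, h, CharBasicOrth.classInner_smul_left, CharBasicOrth.classInner_smul_right,
    classInner_irr_self hψ, Complex.conj_natCast]
  push_cast; ring

theorem S_mono {X Y : Subgroup G} (h : X ≤ Y) (χ : G → ℂ) : S X χ ≤ S Y χ :=
  Finset.sum_le_sum_of_subset_of_nonneg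
    (fun g hg => Finset.mem_filter.2 ⟨Finset.mem_univ _, h (Finset.mem_filter.1 hg).2⟩)
    fun _ _ _ => sq_nonneg _

/-- An irreducible restriction to a subgroup forces irreducibility. -/
theorem irr_of_res {A C : Type w} [Group A] [Fintype A] [Group C] [Fintype C] (i : C →* A)
    {a : A → ℂ} (ha : IsCharacter A a) (hC : IsIrrCharacter C (fun x => a (i x))) :
    IsIrrCharacter A a := by
  have ha0 : a 1 ≠ 0 := fun h => isIrrCharacter_apply_one_ne_zero hC (by simpa using h)
  obtain ⟨ξ, hξ, hne⟩ : ∃ ξ, IsIrrCharacter A ξ ∧ classInner a ξ ≠ 0 := by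
    by_contra hcon
    push Not at hcon
    refine ha0 (congrFun (?_ : a = 0) 1)
    exact eq_zero_of_forall_classInner (isClassFunction_of_isCharacter ha) hcon
  have hd : IsCharacter C (fun x => (a - ξ) (i x)) :=
    isCharacter_comap i (isCharacter_sub_constituent ha hξ hne)
  have hx : IsCharacter C (fun x => ξ (i x)) :=
    isCharacter_comap i (isCharacter_of_isIrrCharacter hξ)
  obtain ⟨n₁, h1⟩ := classInner_isCharacter hd (isCharacter_of_isIrrCharacter hC)
  obtain ⟨n₂, h2⟩ := classInner_isCharacter hx (isCharacter_of_isIrrCharacter hC)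
  obtain ⟨n₃, h3⟩ := classInner_isCharacter hx hx
  obtain ⟨n₄, h4⟩ := classInner_isCharacter hx hd
  obtain ⟨n₅, h5⟩ := classInner_isCharacter hd hd
  obtain ⟨n₆, h6⟩ := classInner_isCharacter hd hx
  have hsum : (fun x => a (i x)) = (fun x => ξ (i x)) + fun x => (a - ξ) (i x) := by
    funext x; simp
  have e1 := classInner_irr_self hC
  conv_lhs at e1 => arg 1; rw [hsum]
  rw [CharBasicOrth.classInner_add_left, h1, h2] at e1
  rw [hsum, CharBasicOrth.classInner_add_right, h3, h4] at h2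
  rw [hsum, CharBasicOrth.classInner_add_right, h5, h6] at h1
  have hn3 : n₃ ≠ 0 := fun h => by
    have h7 := congrFun (eq_zero_of_classInner_self (a := fun x => ξ (i x)) (by rw [h3, h, Nat.cast_zero])) 1
    exact isIrrCharacter_apply_one_ne_zero hξ (by simpa using h7)
  norm_cast at e1 h1 h2
  have hn5 : n₅ = 0 := by omega
  have h8 := congrFun (eq_zero_of_classInner_self (a := fun x => (a - ξ) (i x))
    (by rw [h5, hn5, Nat.cast_zero])) 1
  have h9 := isCharacter_eq_zero_of_apply_one (isCharacter_sub_constituent ha hξ hne)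
    (by simpa using h8)
  rw [sub_eq_zero] at h9
  exact h9 ▸ hξ

theorem core (L H : Subgroup G) [L.Normal] (hLH : L ≤ H) (hmax : IsCoatom H)
    (hsolv : Group.IsSolvable (G ⧸ L)) (θ : H → ℂ) (hθ : IsIrrCharacter H θ)
    (hθL : IsIrrCharacter L (fun x : L => θ ⟨(x : G), hLH x.2⟩))
    (hind : IsIrrCharacter G (indFun H θ))
    (hall : ∀ M : Subgroup G, M.Normal → L ≤ M → ∃ (φ : M → ℂ) (e : ℕ), IsIrrCharacter M φ ∧
      (fun m : M => indFun H θ m) = (e : ℂ) • φ) : False := by
  set χ := indFun H θ with hχdef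
  set K := H.normalCore with hKdef
  have hKH : K ≤ H := H.normalCore_le
  have hLK : L ≤ K := Subgroup.normal_le_normalCore.2 hLH
  have hθc := isCharacter_of_isIrrCharacter hθ
  by_cases hHK : H ≤ K
  · have hHn : H.Normal := le_antisymm hHK hKH ▸ H.normalCore_normal
    obtain ⟨φ, e, hφ, he⟩ := hall H hHn hLH
    exact Agent.S0889.false_of_ind_normal hind hmax.1 hθc rfl hφ he
  -- the chief factors
  have hKtop : K ≠ ⊤ := fun e => hHK (e ▸ le_top)
  haveI : Group.IsSolvable (G ⧸ K) := Group.isSolvable_of_surjective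
    (f := QuotientGroup.map L K (MonoidHom.id G) hLK) fun x => by
      obtain ⟨g, rfl⟩ := QuotientGroup.mk'_surjective K x
      exact ⟨g, rfl⟩
  haveI : Nontrivial (G ⧸ K) := by
    rw [← Finite.one_lt_card_iff_nontrivial, ← Subgroup.index_eq_card]
    exact Subgroup.one_lt_index_of_ne_top hKtop
  obtain ⟨q, hq, N', hN'n, hN'0, hN'c, hN'q⟩ := Agent.RealOddChars30.exists_chief (Q := G ⧸ K)
  set π := QuotientGroup.mk' K with hπ
  set N := N'.comap π with hN
  have hNn : N.Normal := hN'n.comap _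
  have hKN : K ≤ N := fun x hx => by
    rw [hN, Subgroup.mem_comap, hπ, QuotientGroup.mk'_apply, (QuotientGroup.eq_one_iff x).2 hx]
    exact one_mem _
  have hNH : ¬ N ≤ H := fun h => hN'0 (le_bot_iff.1 fun y hy => by
    obtain ⟨x, rfl⟩ := QuotientGroup.mk'_surjective K y
    exact Subgroup.mem_bot.2 ((QuotientGroup.eq_one_iff x).2
      (Subgroup.normal_le_normalCore.2 h hy)))
  have hNc : ∀ a ∈ N, ∀ b ∈ N, ⁅a, b⁆ ∈ K := fun a ha b hb => by
    rw [← QuotientGroup.eq_one_iff, ← QuotientGroup.mk'_apply, map_commutatorElement]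
    exact commutatorElement_eq_one_iff_mul_comm.2 (hN'c _ ha _ hb)
  have hNq : ∀ x ∈ N, ∃ i, x ^ q ^ i ∈ K := fun x hx => by
    obtain ⟨i, hi⟩ := hN'q _ hx
    exact ⟨i, (QuotientGroup.eq_one_iff _).1 (by rw [← QuotientGroup.mk'_apply, map_pow, ← hπ, hi])⟩
  have hsup := Agent.S0889.sup_eq_top hmax hNH
  have hprod := Agent.S0889.exists_mul hsup
  have hmin : ∀ X : Subgroup G, X.Normal → K ≤ X → X ≤ N → X ≤ K ∨ N ≤ X := by
    intro X hX hKX hXN
    by_cases h : X ≤ H
    · exact Or.inl (Subgroup.normal_le_normalCore.2 h)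
    refine Or.inr fun n hn => ?_
    obtain ⟨x, hx, y, hy, rfl⟩ := Agent.S0889.exists_mul (Agent.S0889.sup_eq_top hmax h) n
    have hxN : x ∈ N := by simpa using mul_mem hn (inv_mem (hXN hy))
    refine mul_mem (hKX ?_) hy
    have hn : (H ⊓ N).Normal := ⟨fun a ha g => by
      obtain ⟨h, hh, l, hl, rfl⟩ := hprod g
      have h1 : l * a * l⁻¹ ∈ H ⊓ N := by
        rw [show l * a * l⁻¹ = ⁅l, a⁆ * a by simp [commutatorElement_def]]
        exact mul_mem (Subgroup.mem_inf.2 ⟨hKH (hNc l hl a (Subgroup.mem_inf.1 ha).2),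
          hKN (hNc l hl a (Subgroup.mem_inf.1 ha).2)⟩) ha
      rw [show h * l * a * (h * l)⁻¹ = h * (l * a * l⁻¹) * h⁻¹ by simp [mul_assoc]]
      exact Subgroup.mem_inf.2 ⟨mul_mem (mul_mem hh (Subgroup.mem_inf.1 h1).1) (inv_mem hh),
        hNn.conj_mem _ (Subgroup.mem_inf.1 h1).2 h⟩⟩
    exact Subgroup.normal_le_normalCore.2 (inf_le_left (b := N)) (Subgroup.mem_inf.2 ⟨hx, hxN⟩)
  have hinf : H ⊓ N = K := le_antisymm (fun x hx => by
    have hn : (H ⊓ N).Normal := ⟨fun a ha g => by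
      obtain ⟨h, hh, l, hl, rfl⟩ := hprod g
      have h1 : l * a * l⁻¹ ∈ H ⊓ N := by
        rw [show l * a * l⁻¹ = ⁅l, a⁆ * a by simp [commutatorElement_def]]
        exact mul_mem (Subgroup.mem_inf.2 ⟨hKH (hNc l hl a (Subgroup.mem_inf.1 ha).2),
          hKN (hNc l hl a (Subgroup.mem_inf.1 ha).2)⟩) ha
      rw [show h * l * a * (h * l)⁻¹ = h * (l * a * l⁻¹) * h⁻¹ by simp [mul_assoc]]
      exact Subgroup.mem_inf.2 ⟨mul_mem (mul_mem hh (Subgroup.mem_inf.1 h1).1) (inv_mem hh),
        hNn.conj_mem _ (Subgroup.mem_inf.1 h1).2 h⟩⟩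
    exact Subgroup.normal_le_normalCore.2 inf_le_left hx) (le_inf hKH hKN)
  -- a chief factor of `H` above `K`
  haveI : Group.IsSolvable (H ⧸ K.subgroupOf H) := Group.isSolvable_of_isSolvable_injective
    (f := QuotientGroup.map (K.subgroupOf H) K H.subtype le_rfl) (by
      rw [injective_iff_map_eq_one]
      intro x hx
      obtain ⟨h, rfl⟩ := QuotientGroup.mk'_surjective _ x
      exact (QuotientGroup.eq_one_iff h).2 ((QuotientGroup.eq_one_iff (h : G)).1 hx))
  haveI : Nontrivial (H ⧸ K.subgroupOf H) := by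
    rw [← Finite.one_lt_card_iff_nontrivial, ← Subgroup.index_eq_card]
    exact Subgroup.one_lt_index_of_ne_top fun h => hHK (Subgroup.subgroupOf_eq_top.1 h)
  obtain ⟨r, hr, Q', hQ'n, hQ'0, hQ'c, hQ'r⟩ :=
    Agent.RealOddChars30.exists_chief (Q := H ⧸ K.subgroupOf H)
  set Q₀ := Q'.comap (QuotientGroup.mk' (K.subgroupOf H)) with hQ₀
  set Q := Q₀.map H.subtype with hQdef
  have hQH : Q ≤ H := Subgroup.map_subtype_le _
  have hKQ : K ≤ Q := fun x hx => ⟨⟨x, hKH hx⟩, by
    rw [SetLike.mem_coe, hQ₀, Subgroup.mem_comap, QuotientGroup.mk'_apply,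
      (QuotientGroup.eq_one_iff _).2 (show (⟨x, hKH hx⟩ : H) ∈ K.subgroupOf H from hx)]
    exact one_mem _, rfl⟩
  have hQK : ¬ Q ≤ K := fun h => hQ'0 (le_bot_iff.1 fun y hy => by
    obtain ⟨x, rfl⟩ := QuotientGroup.mk'_surjective _ y
    exact Subgroup.mem_bot.2 ((QuotientGroup.eq_one_iff x).2 (h ⟨x, hy, rfl⟩)))
  have hQr : ∀ x ∈ Q, ∃ i, x ^ r ^ i ∈ K := by
    rintro _ ⟨x, hx, rfl⟩
    obtain ⟨i, hi⟩ := hQ'r _ hx
    rw [← map_pow, QuotientGroup.mk'_apply, QuotientGroup.eq_one_iff] at hi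
    exact ⟨i, by simpa [Subgroup.mem_subgroupOf] using hi⟩
  have hQn : ∀ h ∈ H, ∀ x ∈ Q, h * x * h⁻¹ ∈ Q := by
    rintro h hh _ ⟨x, hx, rfl⟩
    exact ⟨⟨h, hh⟩ * x * ⟨h, hh⟩⁻¹, (hQ'n.comap _).conj_mem _ hx _, rfl⟩
  set M := Q ⊔ N with hM
  have hMn : M.Normal := ⟨fun x hx g => by
    obtain ⟨y, hy, n, hn, rfl⟩ := Subgroup.mem_sup_of_normal_right.1 hx
    obtain ⟨h, hh, l, hl, rfl⟩ := hprod g
    have h1 : l * y * l⁻¹ ∈ M := by
      rw [show l * y * l⁻¹ = y * ((y⁻¹ * l * y⁻¹⁻¹) * l⁻¹) by simp [mul_assoc]]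
      exact mul_mem (Subgroup.mem_sup_left hy)
        (Subgroup.mem_sup_right (mul_mem (hNn.conj_mem l hl y⁻¹) (inv_mem hl)))
    obtain ⟨y', hy', n', hn', e⟩ := Subgroup.mem_sup_of_normal_right.1 h1
    rw [show h * l * (y * n) * (h * l)⁻¹ =
        (h * (l * y * l⁻¹) * h⁻¹) * (h * l * n * (h * l)⁻¹) by simp [mul_assoc], ← e,
      show h * (y' * n') * h⁻¹ = (h * y' * h⁻¹) * (h * n' * h⁻¹) by simp [mul_assoc]]
    exact mul_mem (mul_mem (Subgroup.mem_sup_left (hQn h hh y' hy'))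
      (Subgroup.mem_sup_right (hNn.conj_mem n' hn' h)))
      (Subgroup.mem_sup_right (hNn.conj_mem n hn (h * l)))⟩
  have hHM : H ⊓ M = Q := le_antisymm (fun x hx => by
    obtain ⟨hxH, hxM⟩ := Subgroup.mem_inf.1 hx
    obtain ⟨y, hy, n, hn, rfl⟩ := Subgroup.mem_sup_of_normal_right.1 hxM
    have hnH : n ∈ H := by simpa using mul_mem (inv_mem (hQH hy)) hxH
    exact mul_mem hy (hKQ (hinf ▸ Subgroup.mem_inf.2 ⟨hnH, hn⟩))) (le_inf hQH le_sup_left)
  have hqr : q ≠ r := by
    rintro rfl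
    have hMK : ∀ x ∈ M, ∃ i, x ^ q ^ i ∈ K := fun x hx => by
      obtain ⟨y, hy, n, hn, rfl⟩ := Subgroup.mem_sup_of_normal_right.1 hx
      obtain ⟨i, hi⟩ := hQr y hy
      have hmod : (y * n) ^ q ^ i ∈ N := by
        rw [← QuotientGroup.eq_one_iff, QuotientGroup.mk_pow, QuotientGroup.mk_mul,
          (QuotientGroup.eq_one_iff n).2 hn, mul_one, ← QuotientGroup.mk_pow,
          QuotientGroup.eq_one_iff]
        exact hKN hi
      obtain ⟨j, hj⟩ := hNq _ hmod
      exact ⟨i + j, by rw [pow_add, pow_mul]; exact hj⟩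
    rcases hmin (⁅N, M⁆ ⊔ K) inferInstance le_sup_right
      (sup_le (Subgroup.commutator_le_left N M) hKN) with h | h
    · refine hQK (Subgroup.normal_le_normalCore (H := H) (N := Q) (hN := ⟨fun a ha g => ?_⟩) |>.2 hQH)
      obtain ⟨h', hh', l, hl, rfl⟩ := hprod g
      rw [show h' * l * a * (h' * l)⁻¹ = h' * (⁅l, a⁆ * a) * h'⁻¹ by
        simp [commutatorElement_def, mul_assoc]]
      exact hQn h' hh' _ (mul_mem (hKQ (h (Subgroup.mem_sup_left
        (Subgroup.commutator_mem_commutator hl (Subgroup.mem_sup_left ha))))) ha)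
    · exact hNH ((Agent.S0889.le_of_commutator hq le_sup_right hMK h).trans hKH)
  obtain ⟨a, ha⟩ := Agent.S0889.relIndex_pow hq hNq
  obtain ⟨b, hb⟩ := Agent.S0889.relIndex_pow (L := Q) hr hQr
  have hidx : H.index = q ^ a := (Agent.S0889.index_eq hsup hinf).trans ha
  have hNcard : Nat.card N = Nat.card K * q ^ a := by
    rw [← Agent.S0889.card_mul_relIndex hKN, ha]
  have hQcard : Nat.card Q = Nat.card K * r ^ b := by
    rw [← Agent.S0889.card_mul_relIndex hKQ, hb]
  have hNM : N.relIndex M = r ^ b := by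
    have h1 : N ⊓ Q = K := le_antisymm
      (hinf ▸ le_inf (inf_le_right.trans hQH) inf_le_left) (le_inf hKN hKQ)
    rw [hM, Subgroup.relIndex_sup_right, ← Subgroup.inf_relIndex_right, h1, hb]
  have hMcard : Nat.card M = Nat.card K * q ^ a * r ^ b := by
    rw [← Agent.S0889.card_mul_relIndex (A := N) (B := M) le_sup_right, hNM, hNcard]
  -- the homogeneous restrictions
  obtain ⟨η, f, hη, hf⟩ := hall M hMn (hLK.trans (hKN.trans le_sup_right))
  obtain ⟨ψ, e₁, hψ, he₁⟩ := hall N hNn (hLK.trans hKN)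
  obtain ⟨φ, e, hφ, he⟩ := hall K H.normalCore_normal hLK
  have hθK : IsIrrCharacter K (fun x : K => θ ⟨x, hKH x.2⟩) :=
    irr_of_res (Subgroup.inclusion hLK) (isCharacter_comap (Subgroup.inclusion hKH) hθc) hθL
  have hθQ : IsIrrCharacter Q (fun x : Q => θ ⟨x, hQH x.2⟩) :=
    irr_of_res (Subgroup.inclusion (hLK.trans hKQ))
      (isCharacter_comap (Subgroup.inclusion hQH) hθc) hθL
  have hχcl := isClassFunction_irr hind
  have hχH : classInner (fun h : H => χ h) θ ≠ 0 := by
    rw [← conj_classInner, ← inner_ind_left H θ hχcl, ← hχdef, classInner_irr_self hind]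
    simp
  have he' : e = q ^ a := by
    have h1 : classInner (fun x : K => χ x) (fun x : K => θ ⟨x, hKH x.2⟩) ≠ 0 := by
      have hd : IsCharacter K
          (fun x => ((fun h : H => χ h) - θ) (Subgroup.inclusion hKH x)) :=
        isCharacter_comap (Subgroup.inclusion hKH) (isCharacter_sub_constituent
          (CharInduced.isCharacter_res H (isCharacter_of_isIrrCharacter hind)) hθ hχH)
      obtain ⟨n, hn⟩ := classInner_isCharacter hd (isCharacter_of_isIrrCharacter hθK)
      rw [show (fun x : K => χ x) = (fun x : K => θ ⟨x, hKH x.2⟩) +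
          fun x => ((fun h : H => χ h) - θ) (Subgroup.inclusion hKH x) from funext fun x => by
            simp [Subgroup.inclusion],
        CharBasicOrth.classInner_add_left, classInner_irr_self hθK, hn]
      exact_mod_cast (by omega : 1 + n ≠ 0)
    have hφeq : φ = fun x : K => θ ⟨x, hKH x.2⟩ := by
      by_contra hne
      rw [he, CharBasicOrth.classInner_smul_left, classInner_irr_ne hφ hθK hne, mul_zero] at h1
      exact h1 rfl
    have h2 := congrFun he 1
    rw [hφeq] at h2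
    replace h2 : χ 1 = (e : ℂ) * θ 1 := h2
    rw [hχdef, ind_one_apply, hidx] at h2
    exact_mod_cast (mul_right_cancel₀ (isIrrCharacter_apply_one_ne_zero hθ) h2).symm
  -- comparing `N` with `M`
  have hfe : e₁ = f := by
    have hNM' : N ≤ M := le_sup_right
    let ε := Subgroup.subgroupOfEquivOfLe hNM'
    have hψ' : IsIrrCharacter (N.subgroupOf M) (ψ ∘ ε) :=
      isIrrCharacter_comap ε.toMonoidHom ε.surjective hψ
    have hrel : ∀ x : N.subgroupOf M, (f : ℂ) * η x = (e₁ : ℂ) * (ψ ∘ ε) x := fun x => by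
      have h1 := congrFun hf x
      have h2 := congrFun he₁ (ε x)
      simp only [Pi.smul_apply, smul_eq_mul] at h1 h2
      rw [← h1, Function.comp_apply, ← h2]
      rfl
    have hχ1 := isIrrCharacter_apply_one_ne_zero hind
    have hf0 : f ≠ 0 := fun h => hχ1 (by simpa [h] using congrFun hf 1)
    have he0 : e₁ ≠ 0 := fun h => hχ1 (by simpa [h] using congrFun he₁ 1)
    have hcon : classInner (fun x : N.subgroupOf M => η x) (ψ ∘ ε) ≠ 0 := by
      rw [show (fun x : N.subgroupOf M => η x) = ((f : ℂ)⁻¹ * e₁) • (ψ ∘ ε) from funext fun x => by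
        rw [Pi.smul_apply, smul_eq_mul, mul_assoc, ← hrel, inv_mul_cancel_left₀ (by simpa using hf0)],
        CharBasicOrth.classInner_smul_left, classInner_irr_self hψ', mul_one]
      exact mul_ne_zero (inv_ne_zero (by simpa using hf0)) (by simpa using he0)
    haveI : (N.subgroupOf M).Normal := Subgroup.Normal.comap hNn _
    obtain ⟨k, d, hd, hk, hkdvd⟩ := Agent.CharProjDegree.degree_dvd (N.subgroupOf M) hη hψ' hcon
    have h1 := hrel 1
    rw [OneMemClass.coe_one, hk, hd, Nat.cast_mul] at h1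
    have hd0 : (d : ℂ) ≠ 0 := hd ▸ isIrrCharacter_apply_one_ne_zero hψ'
    have h2 : f * k = e₁ := by
      have h3 : ((f * k : ℕ) : ℂ) * d = (e₁ : ℂ) * d := by rw [← h1]; push_cast; ring
      exact_mod_cast mul_right_cancel₀ hd0 h3
    obtain ⟨s, hs⟩ := classInner_isCharacter
      (χ := fun x => ψ (Subgroup.inclusion hKN x))
      (isCharacter_comap (Subgroup.inclusion hKN) (isCharacter_of_isIrrCharacter hψ))
      (isCharacter_of_isIrrCharacter hφ)
    have h4 : e₁ * s = e := by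
      have h5 := congrArg (fun v : K → ℂ => classInner v φ) he
      simp only [CharBasicOrth.classInner_smul_left, classInner_irr_self hφ, mul_one] at h5
      rw [show (fun x : K => χ x) = (e₁ : ℂ) • fun x : K => ψ (Subgroup.inclusion hKN x) from
        funext fun x => congrFun he₁ (Subgroup.inclusion hKN x),
        CharBasicOrth.classInner_smul_left, hs] at h5
      exact_mod_cast h5
    have hkq : k ∣ q ^ a := ⟨f * s, by rw [← he', ← h4, ← h2]; ring⟩
    have hkr : k ∣ r ^ b := hNM ▸ hkdvd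
    have hk1 : k = 1 := Nat.eq_one_of_dvd_coprimes
      (Nat.Coprime.pow _ _ ((Nat.coprime_primes hq hr).2 hqr)) hkq hkr
    rw [← h2, hk1, mul_one]
  subst hfe
  have hSK := S_mul_irr hφ he
  have hSN := S_mul_irr hψ he₁
  have hSM := S_mul_irr hη hf
  -- the inner product on `Q`
  have hQf : classInner (fun x : Q => θ ⟨x, hQH x.2⟩) (fun x : Q => χ x) = (e₁ : ℂ) ^ 2 := by
    have hψM : IsClassFunction G (fun g => if g ∈ M then χ g else 0) := fun g x => by
      show (if x * g * x⁻¹ ∈ M then χ (x * g * x⁻¹) else 0) = if g ∈ M then χ g else 0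
      have hiff : x * g * x⁻¹ ∈ M ↔ g ∈ M := ⟨fun h => by
        simpa [mul_assoc] using hMn.conj_mem _ h x⁻¹, fun h => hMn.conj_mem g h x⟩
      simp only [hiff, hχcl g x]
    have h := inner_ind_left H θ hψM
    rw [← hχdef] at h
    simp only [classInner] at h
    have hl : ∑ g : G, χ g * conj (if g ∈ M then χ g else 0) =
        (Nat.card M : ℂ) * (e₁ : ℂ) ^ 2 := by
      have h0 := congrArg (fun t : ℝ => (t : ℂ)) hSM
      simp only [S] at h0
      push_cast at h0
      rw [← h0, Finset.sum_filter]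
      refine Finset.sum_congr rfl fun g _ => ?_
      split_ifs with hg
      · rw [Complex.mul_conj']
      · simp
    have hr' : ∑ x : H, θ x * conj (if (x : G) ∈ M then χ x else 0) =
        ∑ x : Q, θ ⟨x, hQH x.2⟩ * conj (χ x) := by
      rw [← Finset.sum_filter_add_sum_filter_not Finset.univ (fun x : H => (x : G) ∈ M),
        Finset.sum_eq_zero (s := Finset.univ.filter fun x : H => ¬ (x : G) ∈ M)
          (fun x hx => by rw [if_neg (Finset.mem_filter.1 hx).2, map_zero, mul_zero]), add_zero]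
      refine Finset.sum_bij (fun x hx => (⟨x, hHM ▸ Subgroup.mem_inf.2
        ⟨x.2, (Finset.mem_filter.1 hx).2⟩⟩ : Q)) (fun _ _ => Finset.mem_univ _)
        (fun x _ y _ h => Subtype.ext (congrArg (fun q : Q => (q : G)) h)) (fun y _ => ⟨⟨y, hQH y.2⟩,
          Finset.mem_filter.2 ⟨Finset.mem_univ _, Subgroup.mem_sup_left y.2⟩, rfl⟩)
        fun x hx => by rw [if_pos (Finset.mem_filter.1 hx).2]
    rw [hl, hr'] at h
    rw [classInner]
    have hH := H.card_mul_index
    rw [hidx] at hH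
    have hHpos : (Nat.card H : ℂ) ≠ 0 := Nat.cast_ne_zero.2 Nat.card_pos.ne'
    rw [← hH, hMcard] at h
    rw [hQcard]
    push_cast at h ⊢
    have hK0 : (Nat.card K : ℂ) ≠ 0 := Nat.cast_ne_zero.2 Nat.card_pos.ne'
    have hq0 : (q : ℂ) ≠ 0 := Nat.cast_ne_zero.2 hq.ne_zero
    have hr0 : (r : ℂ) ≠ 0 := Nat.cast_ne_zero.2 hr.ne_zero
    field_simp at h ⊢
    linear_combination -h
  have hSQ : (Nat.card Q : ℝ) * (e₁ : ℝ) ^ 4 ≤ S Q χ := by
    set u := fun x : Q => χ x
    set v := fun x : Q => θ ⟨x, hQH x.2⟩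
    have h1 : 0 ≤ (classInner (u - (e₁ : ℂ) ^ 2 • v) (u - (e₁ : ℂ) ^ 2 • v)).re := by
      rw [classInner_self_re]; positivity
    have hvu : classInner u v = (e₁ : ℂ) ^ 2 := by
      rw [← conj_classInner, hQf]; simp
    have h2 : classInner (u - (e₁ : ℂ) ^ 2 • v) (u - (e₁ : ℂ) ^ 2 • v) =
        classInner u u - (e₁ : ℂ) ^ 4 := by
      simp only [CharBasicOrth.classInner_sub_left, CharBasicOrth.classInner_sub_right,
        CharBasicOrth.classInner_smul_left, CharBasicOrth.classInner_smul_right,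
        hvu, hQf, classInner_irr_self hθQ, map_pow, Complex.conj_natCast]
      ring
    have h3 : S Q χ = (Nat.card Q : ℝ) * (classInner u u).re := by
      have h := congrArg Complex.re (S_eq Q χ)
      rwa [Complex.ofReal_re, Complex.mul_re, Complex.natCast_re, Complex.natCast_im, zero_mul,
        sub_zero] at h
    have h4 : ((e₁ : ℂ) ^ 4).re = (e₁ : ℝ) ^ 4 := by norm_cast
    rw [h2, Complex.sub_re, h4] at h1
    rw [h3]
    exact mul_le_mul_of_nonneg_left (by linarith) (Nat.cast_nonneg _)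
  have h1 := S_mono hKN χ
  have h2 := S_mono (show Q ≤ M from le_sup_left) χ
  rw [hSK, hSN, he', hNcard] at h1
  push_cast at h1
  have hK0 : (0 : ℝ) < Nat.card K := Nat.cast_pos.2 Nat.card_pos
  have hq0 : (0 : ℝ) < (q : ℝ) ^ a := pow_pos (Nat.cast_pos.2 hq.pos) _
  have hr0 : (0 : ℝ) < (r : ℝ) ^ b := pow_pos (Nat.cast_pos.2 hr.pos) _
  have hle1 : (q : ℝ) ^ a ≤ (e₁ : ℝ) ^ 2 :=
    le_of_mul_le_mul_left (a := (Nat.card K : ℝ) * (q : ℝ) ^ a) (by nlinarith [h1]) (mul_pos hK0 hq0)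
  have he0 : (0 : ℝ) < (e₁ : ℝ) ^ 2 := hq0.trans_le hle1
  have hle2 : (e₁ : ℝ) ^ 2 ≤ (q : ℝ) ^ a := by
    have h3 := hSQ.trans h2
    rw [hSM, hQcard, hMcard] at h3
    push_cast at h3
    exact le_of_mul_le_mul_left
      (a := (Nat.card K : ℝ) * (r : ℝ) ^ b * (e₁ : ℝ) ^ 2) (by nlinarith [h3])
      (mul_pos (mul_pos hK0 hr0) he0)
  have heq : (e₁ : ℝ) ^ 2 = (q : ℝ) ^ a := le_antisymm hle2 hle1
  have hSMQ : S M χ = S Q χ := by
    refine le_antisymm (le_trans (le_of_eq ?_) hSQ) h2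
    rw [hSM, hQcard, hMcard]
    push_cast
    rw [show (e₁ : ℝ) ^ 4 = (e₁ : ℝ) ^ 2 * (e₁ : ℝ) ^ 2 by ring, heq]
    ring
  have hzero : ∀ x ∈ M, x ∉ Q → χ x = 0 := by
    intro x hxM hxQ
    by_contra hne
    refine absurd hSMQ.symm (lt_of_lt_of_le (b := S Q χ + ‖χ x‖ ^ 2) ?_ ?_).ne
    · have : 0 < ‖χ x‖ ^ 2 := by positivity
      linarith
    · rw [S, S, add_comm, ← Finset.sum_insert (f := fun g => ‖χ g‖ ^ 2)
        (show x ∉ Finset.univ.filter (fun g => g ∈ Q) by simp [hxQ])]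
      refine Finset.sum_le_sum_of_subset_of_nonneg (fun g hg => ?_) fun _ _ _ => sq_nonneg _
      rcases Finset.mem_insert.1 hg with rfl | hg
      · simpa using hxM
      · simpa using Subgroup.mem_sup_left (T := N) (Finset.mem_filter.1 hg).2
  have hSMK : S M χ = S K χ := by
    refine (Finset.sum_subset (fun g hg => Finset.mem_filter.2 ⟨Finset.mem_univ _,
      Subgroup.mem_sup_right (hKN (Finset.mem_filter.1 hg).2)⟩) fun x hx hxK => ?_).symm
    have hxK : x ∉ H.normalCore := fun h =>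
      hxK (Finset.mem_filter.2 ⟨Finset.mem_univ _, h⟩)
    obtain ⟨g, hg⟩ : ∃ g : G, g * x * g⁻¹ ∉ H := by
      by_contra hcon
      push Not at hcon
      exact hxK fun g => hcon g
    have h := hzero _ (hMn.conj_mem x (Finset.mem_filter.1 hx).2 g) fun h => hg (hQH h)
    rw [hχcl x g] at h
    rw [h]; simp
  rw [hSM, hSK, hMcard, he'] at hSMK
  push_cast at hSMK
  rw [heq] at hSMK
  have hrb : (r : ℝ) ^ b = 1 := by
    refine mul_left_cancel₀ (mul_pos (mul_pos hK0 hq0) hq0).ne' ?_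
    linear_combination hSMK
  have hb0 : r ^ b = 1 := by exact_mod_cast hrb
  exact hQK (Subgroup.relIndex_eq_one.1 (hb.trans hb0))

/-- Let L ≤ H < G with L normal in G, H a maximal subgroup and G / L solvable. Let ϑ be an irreducible character of H whose restriction to L is irreducible and whose induction χ to G is irreducible. Then there is a normal subgroup M of G containing L such that the restriction of χ to M is not a natural-number multiple of a single irreducible character of M. -/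
theorem result {G : Type*} [Group G] [Fintype G] (L H : Subgroup G) [L.Normal] (hLH : L ≤ H) (hmax : IsCoatom H) (hsolv : Group.IsSolvable (G ⧸ L)) (ϑ : H → ℂ) (hϑ : Cfsg.IsIrrCharacter H ϑ) (hϑL : Cfsg.IsIrrCharacter L (fun x : L => ϑ ⟨(x : G), hLH x.2⟩)) (hind : Cfsg.IsIrrCharacter G (Cfsg.indFun H ϑ)) : ∃ M : Subgroup G, M.Normal ∧ L ≤ M ∧ ¬ ∃ (φ : M → ℂ) (e : ℕ), Cfsg.IsIrrCharacter M φ ∧ (fun m : M => Cfsg.indFun H ϑ m) = (e : ℂ) • φ := by
  by_contra hcon
  exact core L H hLH hmax hsolv ϑ hϑ hϑL hind fun M hM hLM => by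
    by_contra h
    exact hcon ⟨M, hM, hLM, h⟩

end Cfsg.Agent.S0890
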