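import Cfsg.Agent.Lib.AltDoubleCover

set_option autoImplicit false
namespace Cfsg.Agent.S0891
open Cfsg.Agent.AltDoubleCover

theorem result (n : ℕ) (hn : 4 ≤ n) : ∃ (Γ : Type) (_ : Group Γ) (_ : Finite Γ) (z : Γ) (hz : z ∈ Subgroup.center Γ), orderOf z = 2 ∧ z ∈ commutator Γ ∧ ∃ _ : (Subgroup.zpowers z).Normal, Nonempty (Γ ⧸ Subgroup.zpowers z ≃* alternatingGroup (Fin n)) := by
  refine ⟨cover n, inferInstance, inferInstance, z n, z_mem_center n, orderOf_z n, ?_, ?_⟩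
  · obtain ⟨a, ha⟩ : ∃ a : Fin n, a.1 = 0 := ⟨⟨0, by omega⟩, rfl⟩
    obtain ⟨b, hb⟩ : ∃ a : Fin n, a.1 = 1 := ⟨⟨1, by omega⟩, rfl⟩
    obtain ⟨c, hc⟩ : ∃ a : Fin n, a.1 = 2 := ⟨⟨2, by omega⟩, rfl⟩
    obtain ⟨d, hd⟩ : ∃ a : Fin n, a.1 = 3 := ⟨⟨3, by omega⟩, rfl⟩
    have hab : a ≠ b := by rw [Ne, Fin.ext_iff]; omega
    have hcd : c ≠ d := by rw [Ne, Fin.ext_iff]; omega
    have hac : a ≠ c := by rw [Ne, Fin.ext_iff]; omega
    have hbd : b ≠ d := by rw [Ne, Fin.ext_iff]; omega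
    have h : Disj a b c d := by
      refine ⟨?_, ?_, ?_, ?_⟩ <;> rw [Ne, Fin.ext_iff] <;> omega
    rw [z_eq_commutator hab hcd hac hbd h, ← commutatorElement_def]
    exact Subgroup.commutator_mem_commutator (Subgroup.mem_top _) (Subgroup.mem_top _)
  · have hN : (Subgroup.zpowers (z n)).Normal := by rw [← ker_proj]; infer_instance
    exact ⟨hN, ⟨(QuotientGroup.quotientMulEquivOfEq (ker_proj n).symm).trans
      (QuotientGroup.quotientKerEquivOfSurjective (proj n) (proj_surjective n))⟩⟩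

end Cfsg.Agent.S0891
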