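import Cfsg.Statements.S0893
import Cfsg.Agent.Lib.ExtraspecialChars31
import Cfsg.Agent.Lib.CharBasicLinear

set_option autoImplicit false
open Cfsg

namespace Cfsg.Agent.S0893

/-- Let P be an extraspecial p-group of order p ^ (2 * n + 1), A an abelian subgroup of order p ^ (n + 1), and λ a character of A of degree 1 that is not identically 1 on the elements of A lying in the centre of P. Then the function induced from λ to P is an irreducible character of P and vanishes at every element outside the centre. -/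
theorem result {P : Type*} [Group P] [Fintype P] (p n : ℕ) [Fact p.Prime] (hP : Cfsg.IsExtraspecial p P) (hcard : Nat.card P = p ^ (2 * n + 1)) (A : Subgroup P) (hab : ∀ a ∈ A, ∀ b ∈ A, a * b = b * a) (hA : Nat.card A = p ^ (n + 1)) (lam : A → ℂ) (hlam : Cfsg.IsCharacter A lam ∧ lam 1 = 1) (hZ : ∃ a : A, (a : P) ∈ Subgroup.center P ∧ lam a ≠ 1) : Cfsg.IsIrrCharacter P (Cfsg.indFun A lam) ∧ ∀ x : P, x ∉ Subgroup.center P → Cfsg.indFun A lam x = 0 := by
  classical
  haveI : Fintype A := Fintype.ofFinite A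
  have hp : p.Prime := Fact.out
  obtain ⟨hlam, hl1⟩ := hlam
  obtain ⟨ℓ, rfl⟩ := CharBasicLinear.exists_hom_of_apply_one_eq_one hlam hl1
  obtain ⟨a, haZ, ha1⟩ := hZ
  have hane : (a : P) ≠ 1 := fun h => ha1 (by simp [show a = 1 from Subtype.ext h])
  have hZA : Subgroup.center P ≤ A := by
    have htop := zpowers_eq_top_of_prime_card hP.2
      (g := (⟨(a : P), haZ⟩ : Subgroup.center P)) (fun h => hane (congrArg Subtype.val h))
    intro z hz
    obtain ⟨k, hk⟩ := Subgroup.mem_zpowers_iff.mp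
      (htop.symm ▸ Subgroup.mem_top (⟨z, hz⟩ : Subgroup.center P) :
        (⟨z, hz⟩ : Subgroup.center P) ∈ Subgroup.zpowers (⟨(a : P), haZ⟩ : Subgroup.center P))
    have hk' : (a : P) ^ k = z := congrArg Subtype.val hk
    rw [← hk']
    exact Subgroup.zpow_mem _ a.2 k
  set lam : A → ℂ := fun x => (ℓ x : ℂ) with hlamdef
  set f := Cfsg.indFun A lam with hf
  set μ : P → ℂ := fun z => Cfsg.extendByZero A lam z with hμdef
  have hext : ∀ x, ∀ z ∈ Subgroup.center P,
      Cfsg.extendByZero A lam (x * z) = μ z * Cfsg.extendByZero A lam x := by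
    intro x z hz
    by_cases hx : x ∈ A
    · rw [hμdef]
      show _ = Cfsg.extendByZero A lam z * _
      rw [CharInduced.ext_zero_of_mem lam (mul_mem hx (hZA hz)), CharInduced.ext_zero_of_mem lam (hZA hz),
        CharInduced.ext_zero_of_mem lam hx, hlamdef]
      show ((ℓ ⟨x * z, _⟩ : ℂˣ) : ℂ) = (ℓ ⟨z, _⟩ : ℂˣ) * (ℓ ⟨x, _⟩ : ℂˣ)
      rw [← Units.val_mul, ← map_mul]
      exact congrArg (fun w : A => ((ℓ w : ℂˣ) : ℂ))
        (Subtype.ext (Subgroup.mem_center_iff.mp hz x))
    · rw [CharInduced.ext_zero_of_not_mem lam hx, mul_zero,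
        CharInduced.ext_zero_of_not_mem lam]
      intro h
      exact hx (by simpa using mul_mem h (inv_mem (hZA hz)))
  have hμf : ∀ x, ∀ z ∈ Subgroup.center P, f (x * z) = μ z * f x := by
    intro x z hz
    simp only [hf, Cfsg.indFun]
    rw [Finset.sum_congr rfl (g := fun g => μ z * Cfsg.extendByZero A lam (g⁻¹ * x * g)) fun g _ => ?_,
      ← Finset.mul_sum]
    · ring
    rw [← hext _ z hz]
    congr 1
    rw [mul_assoc _ g z, Subgroup.mem_center_iff.mp hz g]
    group
  have hμA : ∀ z (hz : z ∈ Subgroup.center P), μ z = (ℓ ⟨z, hZA hz⟩ : ℂˣ) := fun z hz =>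
    CharInduced.ext_zero_of_mem lam (hZA hz)
  have hone : μ 1 = 1 := by
    rw [hμA 1 (one_mem _), show (⟨1, hZA (one_mem _)⟩ : A) = 1 from rfl, map_one, Units.val_one]
  have hmul : ∀ x ∈ Subgroup.center P, ∀ y ∈ Subgroup.center P, μ (x * y) = μ x * μ y := by
    intro x hx y hy
    rw [hμA _ (mul_mem hx hy), hμA x hx, hμA y hy, ← Units.val_mul, ← map_mul]
    rfl
  have hfaith := ExtraspecialChars31.ne_one_of_exists hP hmul
    ⟨(a : P), haZ, by rw [hμA _ haZ]; exact ha1⟩ hone
  have hcl : Cfsg.IsClassFunction P f := CharInduced.isClassFunction_ind A lam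
  have h0 : ∀ x, x ∉ Subgroup.center P → f x = 0 := fun x hx =>
    ExtraspecialChars31.eq_zero_off_center hP hcl hμf hfaith hx
  refine ⟨?_, h0⟩
  have hf1 : f 1 = (A.index : ℂ) := by
    rw [hf, CharInduced.ind_one_apply, hlamdef]
    simp
  rw [CharBasicDecomp.isIrrCharacter_iff]
  refine ⟨CharInduced.isCharacter_ind A hlam, ?_⟩
  rw [ExtraspecialChars31.classInner_eq_center (f := f) ((A.index : ℂ) * A.index) h0 fun z hz => ?_]
  · have hidx : A.index = p ^ n := by
      have h := A.index_mul_card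
      rw [hA, hcard, show 2 * n + 1 = n + (n + 1) by ring, pow_add p n (n + 1)] at h
      exact Nat.eq_of_mul_eq_mul_right (pow_pos hp.pos _) h
    have hp0 : (p : ℂ) ≠ 0 := Nat.cast_ne_zero.2 hp.ne_zero
    rw [hidx, hP.2, hcard]
    push_cast
    field_simp
    ring
  · have hfz := hμf 1 z hz
    rw [one_mul, hf1] at hfz
    rw [hfz, map_mul, Complex.conj_natCast, hμA z hz]
    have hn := CharBasicDecomp.norm_linear ℓ ⟨z, hZA hz⟩
    have : ((ℓ ⟨z, hZA hz⟩ : ℂˣ) : ℂ) * (starRingEnd ℂ) ((ℓ ⟨z, hZA hz⟩ : ℂˣ) : ℂ) = 1 := by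
      rw [Complex.mul_conj, Complex.normSq_eq_norm_sq, hn]; norm_num
    linear_combination ((A.index : ℂ) * A.index) * this

end Cfsg.Agent.S0893
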