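import Cfsg.Statements.S0894
import Cfsg.Agent.Lib.ExtraspecialChars31
import Cfsg.Agent.Lib.CharBasicLinear

set_option autoImplicit false
open Cfsg

namespace Cfsg.Agent.S0894

/-- Let P be an extraspecial p-group of order p ^ (2 * n + 1). Then every irreducible character of P has degree 1 or p ^ n, and exactly p - 1 of them have degree p ^ n. -/
theorem result {P : Type*} [Group P] [Finite P] (p n : ℕ) [Fact p.Prime] (hP : Cfsg.IsExtraspecial p P) (hcard : Nat.card P = p ^ (2 * n + 1)) : (∀ χ : Cfsg.IrrCharacter P, (χ : P → ℂ) 1 = 1 ∨ (χ : P → ℂ) 1 = (p : ℂ) ^ n) ∧ Nat.card {χ : Cfsg.IrrCharacter P // (χ : P → ℂ) 1 = (p : ℂ) ^ n} = p - 1 := by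
  classical
  haveI := Fintype.ofFinite P
  have hp : p.Prime := Fact.out
  refine ⟨fun χ => ExtraspecialChars31.degree hP hcard χ, ?_⟩
  have hn : n ≠ 0 := by
    rintro rfl
    refine PGroupsExtraspecial.extraspecial_not_comm hP (Subgroup.eq_top_of_card_eq _ ?_)
    rw [hP.2, hcard]; simp
  have hsum := CharBasicOrth.sum_sq_apply_one (G := P)
  have hone : ((p : ℂ) ^ n) ≠ 1 := by
    intro h
    have : p ^ n = 1 := by exact_mod_cast h
    exact absurd this (Nat.one_lt_pow hn hp.one_lt).ne'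
  have hlin := CharBasicLinear.card_linear (G := P)
  have hidx : (commutator P).index = p ^ (2 * n) := by
    have h := (Subgroup.center P).index_mul_card
    rw [hP.2, hcard, pow_succ] at h
    rw [hP.1.2.2]
    exact Nat.eq_of_mul_eq_mul_right hp.pos h
  rw [hidx] at hlin
  set S := Finset.univ.filter fun χ : Cfsg.IrrCharacter P => (χ : P → ℂ) 1 = 1
  set T := Finset.univ.filter fun χ : Cfsg.IrrCharacter P => (χ : P → ℂ) 1 = (p : ℂ) ^ n
  have hS : S.card = p ^ (2 * n) := by
    rw [← hlin, Nat.card_eq_fintype_card, Fintype.card_subtype]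
  have hsplit : (∑ χ : Cfsg.IrrCharacter P, (χ : P → ℂ) 1 ^ 2) =
      (S.card : ℂ) + (T.card : ℂ) * ((p : ℂ) ^ n) ^ 2 := by
    rw [← Finset.sum_filter_add_sum_filter_not Finset.univ
      (fun χ : Cfsg.IrrCharacter P => (χ : P → ℂ) 1 = 1)]
    congr 1
    · rw [Finset.sum_congr rfl (g := fun _ => (1 : ℂ)) fun χ hχ => by
        rw [(Finset.mem_filter.1 hχ).2, one_pow]]
      simp [S]
    · rw [show (Finset.univ.filter fun χ : Cfsg.IrrCharacter P => ¬ (χ : P → ℂ) 1 = 1) = T from ?_]
      · rw [Finset.sum_congr rfl (g := fun _ => ((p : ℂ) ^ n) ^ 2) fun χ hχ => by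
          rw [(Finset.mem_filter.1 hχ).2], Finset.sum_const, nsmul_eq_mul]
      · ext χ
        simp only [T, Finset.mem_filter, Finset.mem_univ, true_and]
        exact ⟨fun h => (ExtraspecialChars31.degree hP hcard χ).resolve_left h,
          fun h => h ▸ hone⟩
  have htot : (∑ χ : Cfsg.IrrCharacter P, (χ : P → ℂ) 1 ^ 2) = (Nat.card P : ℂ) := by
    rw [← hsum]
  rw [hsplit, hS, hcard] at htot
  have h : (1 : ℂ) + (T.card : ℂ) = (p : ℂ) := by
    apply mul_left_cancel₀ (pow_ne_zero (2 * n) (Nat.cast_ne_zero.2 hp.ne_zero : (p : ℂ) ≠ 0))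
    push_cast at htot
    linear_combination htot
  have h' : 1 + T.card = p := by exact_mod_cast h
  rw [Nat.card_eq_fintype_card, Fintype.card_subtype]
  show T.card = p - 1
  omega

end Cfsg.Agent.S0894
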