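import Cfsg.Statements.S0898
import Cfsg.Agent.Lib.CharBasicDecomp
import Cfsg.Agent.Lib.CharInducedClifford
import Cfsg.Agent.Lib.CharBasicLinear

set_option autoImplicit false
open Cfsg

namespace Cfsg.Agent.S0898

open scoped ComplexConjugate
open Finset Cfsg.Agent.CharBasic Cfsg.Agent.CharBasicOrth Cfsg.Agent.CharBasicDecomp Cfsg.Agent.CharInduced

universe v

variable {G : Type v} [Group G] [Fintype G]

theorem sum_mul_eq_zero (N : Subgroup G) [N.Normal] [Fintype N] {η : G → ℂ} (hη : IsIrrCharacter G η)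
    (hne : ∃ x : N, η x ≠ η 1) (g : G) : ∑ x : N, η (g * x) = 0 := by
  obtain ⟨d, ρ, hρ, rfl⟩ := hη
  set P : Module.End ℂ (Fin d → ℂ) := ∑ x : N, ρ x with hP
  obtain ⟨c, hc, -⟩ := exists_scalar_of_commute ρ P fun a v => by
    simp only [hP, LinearMap.sum_apply, map_sum, ← Module.End.mul_apply, ← map_mul]
    refine Fintype.sum_equiv (MulAut.conjNormal a⁻¹).toEquiv _ _ fun x => ?_
    rw [MulEquiv.toEquiv_eq_coe, MulEquiv.coe_toEquiv, MulAut.conjNormal_apply, inv_inv]
    congr 2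
    group
  have hx : ∀ y : N, ρ y * P = P := by
    intro y
    rw [hP, Finset.mul_sum]
    refine Fintype.sum_equiv (Equiv.mulLeft y) _ _ fun x => ?_
    simp [map_mul]
  have hc0 : c = 0 := by
    by_contra hne0
    obtain ⟨y, hy⟩ := hne
    apply hy
    have h1 := hx y
    rw [hc] at h1
    have h2 : ρ (y : G) = LinearMap.id := by
      apply LinearMap.ext; intro v
      have h3 := LinearMap.congr_fun h1 v
      simp only [Module.End.mul_apply, LinearMap.smul_apply, LinearMap.id_apply, map_smul] at h3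
      exact smul_right_injective _ hne0 h3
    rw [(character_eq_finrank_iff ρ _).2 h2, Representation.char_one]
  have h4 : ∑ x : N, ρ.character (g * x) = LinearMap.trace ℂ _ (ρ g * P) := by
    rw [hP, Finset.mul_sum, map_sum]
    exact Finset.sum_congr rfl fun x _ => by rw [Representation.character, map_mul]
  rw [h4, hc, hc0, zero_smul, mul_zero, map_zero]

/-- Averaging over a normal subgroup loses at least one unit of norm. -/
theorem average_gap (K : Subgroup G) [K.Normal] [Fintype K] {ψ : G → ℂ} (hψ : IsCharacter G ψ)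
    (hne : ∃ x : K, ψ x ≠ ψ 1) :
    (Nat.card G : ℝ) + ∑ g : G, ‖(Nat.card K : ℂ)⁻¹ * ∑ x : K, ψ (g * x)‖ ^ 2 ≤
      ∑ g : G, ‖ψ g‖ ^ 2 := by
  classical
  obtain ⟨c, hc, hsum⟩ := exists_mult hψ
  let S : Finset (IrrCharacter G) :=
    Finset.univ.filter fun η => ∀ x : K, (η : G → ℂ) x = (η : G → ℂ) 1
  have hK : (Nat.card K : ℂ) ≠ 0 := Nat.cast_ne_zero.2 Nat.card_pos.ne'
  have hS : ∀ η ∈ S, ∀ (g : G) (x : K), (η : G → ℂ) (g * x) = (η : G → ℂ) g := by
    intro η hη g x
    obtain ⟨d, ρ, -, hρ⟩ := η.2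
    have h1 := (Finset.mem_filter.1 hη).2 x
    rw [← hρ] at h1 ⊢
    rw [Representation.char_one, character_eq_finrank_iff] at h1
    rw [Representation.character, Representation.character, map_mul, h1]
    rfl
  have hF : (fun g => (Nat.card K : ℂ)⁻¹ * ∑ x : K, ψ (g * x)) =
      ∑ η ∈ S, (c η : ℂ) • (η : G → ℂ) := by
    funext g
    have h1 : ∀ x : K, ψ (g * x) = ∑ η : IrrCharacter G, (c η : ℂ) * (η : G → ℂ) (g * x) := fun x => by
      have := congrFun hsum (g * x)
      simpa [Finset.sum_apply] using this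
    rw [Finset.sum_congr rfl fun x _ => h1 x, Finset.sum_comm,
      ← Finset.sum_subset (Finset.subset_univ S) (fun η _ hη => ?_), Finset.mul_sum, Finset.sum_apply]
    · refine Finset.sum_congr rfl fun η hη => ?_
      rw [Finset.sum_congr rfl fun x _ => by rw [hS η hη g x], Finset.sum_const, Finset.card_univ,
        ← Nat.card_eq_fintype_card, nsmul_eq_mul, inv_mul_cancel_left₀ hK, Pi.smul_apply, smul_eq_mul]
    · rw [← Finset.mul_sum, sum_mul_eq_zero K η.2 ?_ g, mul_zero]
      by_contra hcon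
      push Not at hcon
      exact hη (Finset.mem_filter.2 ⟨Finset.mem_univ _, hcon⟩)
  have hnorm : ∀ (s : Finset (IrrCharacter G)),
      ∑ g : G, ‖(∑ η ∈ s, (c η : ℂ) • (η : G → ℂ)) g‖ ^ 2 =
        (Nat.card G : ℝ) * ∑ η ∈ s, (c η : ℝ) ^ 2 := by
    intro s
    have h1 := classInner_self_re (∑ η ∈ s, (c η : ℂ) • (η : G → ℂ))
    have h2 : classInner (∑ η ∈ s, (c η : ℂ) • (η : G → ℂ)) (∑ η ∈ s, (c η : ℂ) • (η : G → ℂ)) =
        ((∑ η ∈ s, (c η : ℝ) ^ 2 : ℝ) : ℂ) := by
      rw [inner_sum_left, Complex.ofReal_sum]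
      refine Finset.sum_congr rfl fun η hη => ?_
      rw [CharInduced.inner_smul_left, inner_sum_right, Finset.sum_eq_single η (fun b _ hb => ?_)
        (fun h => absurd hη h), CharInduced.inner_smul_right, classInner_irr_self η.2,
        Complex.conj_natCast, mul_one]
      · push_cast; ring
      · rw [CharInduced.inner_smul_right, classInner_irr_ne η.2 b.2 fun e => hb (Subtype.ext e).symm,
          mul_zero]
    rw [h2, Complex.ofReal_re] at h1
    rw [h1, ← mul_assoc, mul_inv_cancel₀ (Nat.cast_ne_zero.2 Nat.card_pos.ne'), one_mul]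
  obtain ⟨η₀, hη₀, hc0⟩ : ∃ η, η ∉ S ∧ c η ≠ 0 := by
    by_contra hcon
    push Not at hcon
    obtain ⟨x, hx⟩ := hne
    apply hx
    rw [hsum, Finset.sum_apply, Finset.sum_apply]
    refine Finset.sum_congr rfl fun η _ => ?_
    by_cases hη : η ∈ S
    · simp only [Pi.smul_apply, (Finset.mem_filter.1 hη).2 x]
    · simp [hcon η hη]
  have hall : ∑ g : G, ‖ψ g‖ ^ 2 = (Nat.card G : ℝ) * ∑ η : IrrCharacter G, (c η : ℝ) ^ 2 := by
    rw [← hnorm Finset.univ, ← hsum]
  have hpart : ∑ g : G, ‖(Nat.card K : ℂ)⁻¹ * ∑ x : K, ψ (g * x)‖ ^ 2 =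
      (Nat.card G : ℝ) * ∑ η ∈ S, (c η : ℝ) ^ 2 := by
    rw [← hnorm S, ← hF]
  rw [hall, hpart, ← Finset.sum_sdiff (Finset.subset_univ S), mul_add]
  have h1 : (1 : ℝ) ≤ ∑ η ∈ Finset.univ \ S, (c η : ℝ) ^ 2 := by
    refine le_trans ?_ (Finset.single_le_sum (fun η _ => sq_nonneg (c η : ℝ))
      (Finset.mem_sdiff.2 ⟨Finset.mem_univ η₀, hη₀⟩))
    have : (1 : ℝ) ≤ c η₀ := by exact_mod_cast Nat.one_le_iff_ne_zero.2 hc0
    nlinarith
  nlinarith [(Nat.cast_nonneg (Nat.card G) : (0 : ℝ) ≤ Nat.card G)]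

theorem first_bound (H : Subgroup G) [Fintype H] (hab : ∀ a ∈ H, ∀ b ∈ H, a * b = b * a)
    (hZ : H ⊓ Subgroup.center G = ⊥)
    (hone : ∀ g : G, g ∉ Subgroup.center G → ∀ a b : G,
      Subgroup.centralizer ({g} : Set G) ⊓ H.map (MulAut.conj a).toMonoidHom ≠ ⊥ →
      Subgroup.centralizer ({g} : Set G) ⊓ H.map (MulAut.conj b).toMonoidHom ≠ ⊥ →
      H.map (MulAut.conj a).toMonoidHom = H.map (MulAut.conj b).toMonoidHom)
    {χ : G → ℂ} (hχ : IsIrrCharacter G χ) (hker : ∃ h ∈ H, χ h ≠ χ 1) {n m : ℕ} (hn : χ 1 = n)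
    (hm : classInner (fun h : H => χ h) (fun _ => 1) = m) :
    Nat.card H * m ^ 2 < n ^ 2 := by
  classical
  set Z := Subgroup.center G with hZdef
  set N := Subgroup.normalizer (H : Set G) with hN
  have hnpos : 0 < n := by
    obtain ⟨j, hj, hj1⟩ := isIrrCharacter_apply_one hχ
    rw [hn] at hj1
    have : n = j := by exact_mod_cast hj1
    omega
  have hnot : ∀ h ∈ H, h ≠ 1 → h ∉ Z := by
    intro h hh h1 hc
    exact h1 (Subgroup.mem_bot.1 (hZ ▸ (⟨hh, hc⟩ : h ∈ H ⊓ Z)))
  have hconjmap : ∀ (a h : G), h ∈ H → a * h * a⁻¹ ∈ H.map (MulAut.conj a).toMonoidHom :=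
    fun a h hh => ⟨h, hh, rfl⟩
  have hnormalizer : ∀ a b : G, H.map (MulAut.conj a).toMonoidHom = H.map (MulAut.conj b).toMonoidHom →
      a⁻¹ * b ∈ N := by
    intro a b he
    rw [hN, Subgroup.mem_normalizer_iff]
    intro x
    have h1 : ∀ (c y : G), y ∈ H.map (MulAut.conj c).toMonoidHom ↔ c⁻¹ * y * c ∈ H := by
      intro c y
      refine ⟨?_, fun hy => ⟨_, hy, by simp [mul_assoc]⟩⟩
      rintro ⟨z, hz, rfl⟩
      simpa [mul_assoc] using hz
    have h2 := h1 b (b * x * b⁻¹)
    rw [← he, h1 a] at h2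
    simp only [mul_assoc, inv_mul_cancel_left, inv_mul_cancel, mul_one] at h2
    rw [← h2]
    simp [mul_assoc]
  have hCN : ∀ h ∈ H, h ≠ 1 → Subgroup.centralizer ({h} : Set G) ≤ N := by
    intro h hh h1 g hg
    have hgh : h * g = g * h := Subgroup.mem_centralizer_iff.1 hg h rfl
    have := hnormalizer 1 g (hone h (hnot h hh h1) 1 g ?_ ?_)
    · simpa using this
    · intro e
      have : h ∈ Subgroup.centralizer ({h} : Set G) ⊓ H.map (MulAut.conj 1).toMonoidHom :=
        ⟨Subgroup.mem_centralizer_iff.2 (by simp), by simpa using hconjmap 1 h hh⟩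
      exact h1 (Subgroup.mem_bot.1 (e ▸ this))
    · intro e
      have h3 : g * h * g⁻¹ = h := by rw [← hgh, mul_inv_cancel_right]
      have : h ∈ Subgroup.centralizer ({h} : Set G) ⊓ H.map (MulAut.conj g).toMonoidHom :=
        ⟨Subgroup.mem_centralizer_iff.2 (by simp), h3 ▸ hconjmap g h hh⟩
      exact h1 (Subgroup.mem_bot.1 (e ▸ this))
  let T : Finset G := Finset.univ.filter fun x => x ∉ Z ∧ ∃ h ∈ H, h ≠ 1 ∧ h * x = x * h
  have hTN : ∀ x ∈ T, x ∈ N := by
    intro x hx
    obtain ⟨-, -, h, hh, h1, hc⟩ := Finset.mem_filter.1 hx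
    exact hCN h hh h1 (Subgroup.mem_centralizer_iff.2 (by rintro y rfl; exact hc))
  have hχc := isClassFunction_irr hχ
  have hscal : ∀ z ∈ Z, ∃ w : ℂ, ‖w‖ = 1 ∧ ∀ x, χ (z * x) = w * χ x := by
    intro z hz
    obtain ⟨d, ρ, hρ, hρχ⟩ := hχ
    obtain ⟨w, hw⟩ := exists_scalar_of_mem_center ρ hz
    refine ⟨w, ?_, fun x => ?_⟩
    · have h1 := (norm_eq_finrank_iff ρ z).2 ⟨w, hw⟩
      have h2 : ρ.character z = (Module.finrank ℂ (Fin d → ℂ) : ℂ) * w := by
        rw [Representation.character, hw, map_smul, LinearMap.trace_id, smul_eq_mul, mul_comm]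
      rw [h2, norm_mul, Complex.norm_natCast] at h1
      have hd : (0 : ℝ) < Module.finrank ℂ (Fin d → ℂ) := Nat.cast_pos.2 (finrank_pos_of_irreducible ρ)
      exact (mul_eq_left₀ hd.ne').1 h1
    · rw [← hρχ, Representation.character, map_mul, hw, smul_mul_assoc, map_smul, smul_eq_mul]
      rfl
  have hχZ : ∀ z ∈ Z, ‖χ z‖ ^ 2 = (n : ℝ) ^ 2 := by
    intro z hz
    obtain ⟨w, hw, hw'⟩ := hscal z hz
    rw [← mul_one z, hw', hn, norm_mul, hw, one_mul, Complex.norm_natCast]
  let ZF : Finset G := Finset.univ.filter fun x => x ∈ Z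
  have hZcard : ZF.card = Nat.card Z := by
    rw [← Fintype.card_subtype, ← Nat.card_eq_fintype_card]
  -- disjoint conjugates of `T`
  have : Fintype (G ⧸ N) := Fintype.ofFinite _
  let φ : (G ⧸ N) × G → G := fun z => z.1.out * z.2 * z.1.out⁻¹
  have hinj : Set.InjOn φ ((Finset.univ : Finset (G ⧸ N)) ×ˢ T : Finset ((G ⧸ N) × G)) := by
    rintro ⟨q, t⟩ hqt ⟨r, u⟩ hru he
    simp only [Finset.coe_product, Set.mem_prod, Finset.mem_coe] at hqt hru
    change q.out * t * q.out⁻¹ = r.out * u * r.out⁻¹ at he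
    have hkey : ∀ (a t : G), t ∈ T → Subgroup.centralizer ({a * t * a⁻¹} : Set G) ⊓
        H.map (MulAut.conj a).toMonoidHom ≠ ⊥ := by
      intro a t ht e
      obtain ⟨-, -, h, hh, h1, hc⟩ := Finset.mem_filter.1 ht
      have : a * h * a⁻¹ ∈ Subgroup.centralizer ({a * t * a⁻¹} : Set G) ⊓
          H.map (MulAut.conj a).toMonoidHom := by
        refine ⟨Subgroup.mem_centralizer_iff.2 ?_, hconjmap a h hh⟩
        rintro y rfl
        calc a * t * a⁻¹ * (a * h * a⁻¹) = a * (t * h) * a⁻¹ := by group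
          _ = a * (h * t) * a⁻¹ := by rw [hc]
          _ = a * h * a⁻¹ * (a * t * a⁻¹) := by group
      exact h1 (conj_eq_one_iff.1 (Subgroup.mem_bot.1 (e ▸ this)))
    have hnc : q.out * t * q.out⁻¹ ∉ Z := by
      intro hc
      have hn1 : Z.Normal := inferInstance
      exact (Finset.mem_filter.1 hqt.2).2.1 (by simpa [mul_assoc] using hn1.conj_mem' _ hc q.out)
    have hqr : q = r := by
      rw [← QuotientGroup.out_eq' q, ← QuotientGroup.out_eq' r, QuotientGroup.eq]
      exact hnormalizer _ _ (hone _ hnc _ _ (hkey _ _ hqt.2) (he ▸ hkey _ _ hru.2))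
    subst hqr
    simpa using he
  have hglobal : (Nat.card Z : ℝ) * n ^ 2 + (N.index : ℝ) * ∑ t ∈ T, ‖χ t‖ ^ 2 ≤ Nat.card G := by
    have h1 : ∑ x : G, ‖χ x‖ ^ 2 = (Nat.card G : ℝ) := by
      have h := classInner_self_re χ
      rw [classInner_irr_self hχ, Complex.one_re, eq_inv_mul_iff_mul_eq₀
        (Nat.cast_ne_zero.2 Nat.card_pos.ne'), mul_one] at h
      exact h.symm
    let U := ((Finset.univ : Finset (G ⧸ N)) ×ˢ T).image φ
    have hU : Disjoint ZF U := by
      rw [Finset.disjoint_left]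
      intro x hx hxU
      obtain ⟨⟨q, t⟩, hqt, rfl⟩ := Finset.mem_image.1 hxU
      have hn1 : Z.Normal := inferInstance
      exact (Finset.mem_filter.1 (Finset.mem_product.1 hqt).2).2.1
        (by simpa [φ, mul_assoc] using hn1.conj_mem' _ (Finset.mem_filter.1 hx).2 q.out)
    rw [← h1]
    refine le_trans (le_of_eq ?_) (Finset.sum_le_sum_of_subset_of_nonneg (Finset.subset_univ (ZF ∪ U))
      (fun x _ _ => sq_nonneg ‖χ x‖))
    rw [Finset.sum_union hU, Finset.sum_congr rfl fun z hz => hχZ z (Finset.mem_filter.1 hz).2,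
      Finset.sum_const, hZcard, nsmul_eq_mul, Finset.sum_image hinj, Finset.sum_product]
    congr 1
    rw [Finset.sum_congr rfl (g := fun _ => ∑ t ∈ T, ‖χ t‖ ^ 2) (fun q _ => Finset.sum_congr rfl
      fun t _ => by rw [show φ (q, t) = q.out * t * q.out⁻¹ from rfl, hχc]), Finset.sum_const,
      Finset.card_univ, ← Nat.card_eq_fintype_card, nsmul_eq_mul]
    rfl
  -- inside the normalizer
  let K : Subgroup N := H.subgroupOf N
  have hHN : H ≤ N := Subgroup.le_normalizer
  have hKn : K.Normal := Subgroup.normal_in_normalizer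
  have : Fintype K := Fintype.ofFinite K
  have : Fintype N := Fintype.ofFinite N
  let eK := Subgroup.subgroupOfEquivOfLe hHN
  have hcardK : Nat.card K = Nat.card H := Nat.card_congr eK.toEquiv
  let F : N → ℂ := fun g => (Nat.card K : ℂ)⁻¹ * ∑ x : K, χ ((g : G) * ((x : N) : G))
  have hne' : ∃ x : K, (fun g : N => χ (g : G)) x ≠ (fun g : N => χ (g : G)) 1 := by
    obtain ⟨h, hh, hne⟩ := hker
    exact ⟨⟨⟨h, hHN hh⟩, hh⟩, hne⟩
  have hgap : (Nat.card N : ℝ) + ∑ g : N, ‖F g‖ ^ 2 ≤ ∑ g : N, ‖χ (g : G)‖ ^ 2 := by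
    have h0 := average_gap (G := N) K (ψ := fun g : N => χ (g : G))
      (isCharacter_res N (isCharacter_of_isIrrCharacter hχ)) hne'
    simp only [Subgroup.coe_mul] at h0
    exact h0
  let D : Finset N := Finset.univ.filter fun g => (g : G) ∈ Z ∨ (g : G) ∈ T
  have hoff : ∀ g : N, g ∉ D → F g = χ (g : G) := by
    intro g hg
    simp only [D, T, Finset.mem_filter, Finset.mem_univ, true_and, not_or, not_and, not_exists] at hg
    have hK0 : (Nat.card K : ℂ) ≠ 0 := Nat.cast_ne_zero.2 Nat.card_pos.ne'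
    let f : K → K := fun y => ⟨g⁻¹ * y * g * (y : N)⁻¹,
      K.mul_mem (hKn.conj_mem' _ y.2 g) (K.inv_mem y.2)⟩
    have hf : Function.Injective f := by
      intro y z hyz
      have h1 : (g : G)⁻¹ * ((y : N) : G) * g * ((y : N) : G)⁻¹ =
          (g : G)⁻¹ * ((z : N) : G) * g * ((z : N) : G)⁻¹ :=
        congrArg (fun w : K => ((w : N) : G)) hyz
      set a := ((y : N) : G)
      set b := ((z : N) : G)
      have hbH : b ∈ H := z.2
      have haH : a ∈ H := y.2
      by_contra hne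
      have hd : b⁻¹ * a ≠ 1 := fun e => hne (Subtype.ext (Subtype.ext (inv_mul_eq_one.1 e).symm))
      refine hg.2 hg.1 (b⁻¹ * a) (H.mul_mem (H.inv_mem hbH) haH) hd ?_
      calc b⁻¹ * a * (g : G) = b⁻¹ * ((g : G) * ((g : G)⁻¹ * a * g * a⁻¹) * a) := by group
        _ = b⁻¹ * ((g : G) * ((g : G)⁻¹ * b * g * b⁻¹) * a) := by rw [h1]
        _ = (g : G) * (b⁻¹ * a) := by group
    have hsurj := Finite.injective_iff_surjective.1 hf
    have hterm : ∀ x : K, χ ((g : G) * ((x : N) : G)) = χ (g : G) := by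
      intro x
      obtain ⟨y, rfl⟩ := hsurj x
      show χ ((g : G) * ((g : G)⁻¹ * ((y : N) : G) * g * ((y : N) : G)⁻¹)) = _
      rw [← mul_assoc, ← mul_assoc, ← mul_assoc, mul_inv_cancel, one_mul]
      exact hχc _ _
    show (Nat.card K : ℂ)⁻¹ * _ = _
    rw [Finset.sum_congr rfl fun x _ => hterm x, Finset.sum_const, Finset.card_univ,
      ← Nat.card_eq_fintype_card, nsmul_eq_mul, inv_mul_cancel_left₀ hK0]
  have hFz : ∀ (z : Z) (h : H) (hzh : (z : G) * h ∈ N), ‖F ⟨(z : G) * h, hzh⟩‖ ^ 2 = (m : ℝ) ^ 2 := by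
    intro z h hzh
    obtain ⟨w, hw, hw'⟩ := hscal z z.2
    have h1 : F ⟨(z : G) * h, hzh⟩ = w * classInner (fun x : H => χ x) (fun _ => 1) := by
      simp only [F, classInner, map_one, mul_one, hcardK, Finset.mul_sum]
      refine Fintype.sum_equiv (eK.toEquiv.trans (Equiv.mulLeft h)) _ _ fun x => ?_
      rw [mul_assoc, hw']
      simp only [Equiv.trans_apply, MulEquiv.toEquiv_eq_coe, EquivLike.coe_coe, Equiv.coe_mulLeft,
        Subgroup.coe_mul]
      rw [show ((eK x : H) : G) = ((x : N) : G) from rfl]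
      ring
    rw [h1, hm, norm_mul, hw, one_mul, Complex.norm_natCast]
  have hlocal : (Nat.card N : ℝ) + (Nat.card Z : ℝ) * Nat.card H * m ^ 2 ≤
      (Nat.card Z : ℝ) * n ^ 2 + ∑ t ∈ T, ‖χ t‖ ^ 2 := by
    have hZN : Z ≤ N := by
      intro z hz
      rw [hN, Subgroup.mem_normalizer_iff]
      intro x
      rw [← Subgroup.mem_center_iff.1 hz x, mul_inv_cancel_right]
    let ψ : Z × H → N := fun p => ⟨(p.1 : G) * p.2, N.mul_mem (hZN p.1.2) (hHN p.2.2)⟩
    have hψinj : Function.Injective ψ := fun a b e =>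
      Subgroup.mul_injective_of_disjoint
        (disjoint_iff.2 (inf_comm H Z ▸ hZ)) (congrArg Subtype.val e)
    have hψD : ∀ p, ψ p ∈ D := by
      rintro ⟨z, h⟩
      simp only [D, T, ψ, Finset.mem_filter, Finset.mem_univ, true_and]
      by_cases h1 : (h : G) = 1
      · left; rw [h1, mul_one]; exact z.2
      · refine Or.inr ⟨fun hc => hnot h h.2 h1 ((Z.mul_mem_cancel_left z.2).1 hc), h, h.2, h1, ?_⟩
        rw [← mul_assoc, Subgroup.mem_center_iff.1 z.2 (h : G)]
    have hsplitF := Finset.sum_sdiff (Finset.subset_univ D) (f := fun g : N => ‖F g‖ ^ 2)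
    have hsplitχ := Finset.sum_sdiff (Finset.subset_univ D) (f := fun g : N => ‖χ (g : G)‖ ^ 2)
    have heq : ∑ g ∈ Finset.univ \ D, ‖F g‖ ^ 2 = ∑ g ∈ Finset.univ \ D, ‖χ (g : G)‖ ^ 2 :=
      Finset.sum_congr rfl fun g hg => by rw [hoff g (Finset.mem_sdiff.1 hg).2]
    have hlow : (Nat.card Z : ℝ) * Nat.card H * m ^ 2 ≤ ∑ g ∈ D, ‖F g‖ ^ 2 := by
      refine le_trans (le_of_eq ?_) (Finset.sum_le_sum_of_subset_of_nonneg
        (s := Finset.univ.image ψ) ?_ (fun x _ _ => sq_nonneg ‖F x‖))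
      · rw [Finset.sum_image (fun a _ b _ e => hψinj e),
          Finset.sum_congr rfl fun p _ => hFz p.1 p.2 _, Finset.sum_const, Finset.card_univ,
          Fintype.card_prod, nsmul_eq_mul, Nat.card_eq_fintype_card, Nat.card_eq_fintype_card,
          Nat.cast_mul]
      · intro x hx
        obtain ⟨p, -, rfl⟩ := Finset.mem_image.1 hx
        exact hψD p
    have hD : ∑ g ∈ D, ‖χ (g : G)‖ ^ 2 = (Nat.card Z : ℝ) * n ^ 2 + ∑ t ∈ T, ‖χ t‖ ^ 2 := by
      have himg : D.map ⟨Subtype.val, Subtype.val_injective⟩ = ZF ∪ T := by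
        ext x
        simp only [Finset.mem_map, Function.Embedding.coeFn_mk, Finset.mem_union]
        refine ⟨?_, fun hx => ?_⟩
        · rintro ⟨g, hg, rfl⟩
          rcases (Finset.mem_filter.1 hg).2 with h | h
          · exact Or.inl (Finset.mem_filter.2 ⟨Finset.mem_univ _, h⟩)
          · exact Or.inr h
        · rcases hx with h | h
          · exact ⟨⟨x, hZN (Finset.mem_filter.1 h).2⟩,
              Finset.mem_filter.2 ⟨Finset.mem_univ _, Or.inl (Finset.mem_filter.1 h).2⟩, rfl⟩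
          · exact ⟨⟨x, hTN x h⟩, Finset.mem_filter.2 ⟨Finset.mem_univ _, Or.inr h⟩, rfl⟩
      have hdisj : Disjoint ZF T := by
        rw [Finset.disjoint_left]
        exact fun x hx hxT => (Finset.mem_filter.1 hxT).2.1 (Finset.mem_filter.1 hx).2
      have h2 := Finset.sum_map D ⟨Subtype.val, Subtype.val_injective⟩ (fun x : G => ‖χ x‖ ^ 2)
      rw [himg, Finset.sum_union hdisj, Finset.sum_congr rfl fun z hz => hχZ z (Finset.mem_filter.1 hz).2,
        Finset.sum_const, hZcard, nsmul_eq_mul] at h2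
      exact h2.symm
    linarith
  -- conclusion
  rcases Nat.eq_zero_or_pos m with rfl | hmpos
  · simpa using pow_pos hnpos 2
  have hk : (0 : ℝ) < N.index := Nat.cast_pos.2 (Nat.pos_of_ne_zero N.index_ne_zero_of_finite)
  have hGk : (N.index : ℝ) * Nat.card N = Nat.card G := by rw [← Nat.cast_mul, N.index_mul_card]
  have hz : (0 : ℝ) < Nat.card Z := Nat.cast_pos.2 Nat.card_pos
  by_contra hle
  push Not at hle
  have hle' : (n : ℝ) ^ 2 ≤ (Nat.card H : ℝ) * (m : ℝ) ^ 2 := by exact_mod_cast hle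
  have h1 := mul_le_mul_of_nonneg_left hlocal hk.le
  have hn' : (0 : ℝ) < (n : ℝ) ^ 2 := by positivity
  nlinarith [mul_le_mul_of_nonneg_left hle' (mul_pos hk hz).le, mul_pos hz hn']

theorem second_bound (H : Subgroup G) [Fintype H] (hab : ∀ a ∈ H, ∀ b ∈ H, a * b = b * a)
    (hZ : H ⊓ Subgroup.center G = ⊥)
    (hone : ∀ g : G, g ∉ Subgroup.center G → ∀ a b : G,
      Subgroup.centralizer ({g} : Set G) ⊓ H.map (MulAut.conj a).toMonoidHom ≠ ⊥ →
      Subgroup.centralizer ({g} : Set G) ⊓ H.map (MulAut.conj b).toMonoidHom ≠ ⊥ →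
      H.map (MulAut.conj a).toMonoidHom = H.map (MulAut.conj b).toMonoidHom)
    {χ : G → ℂ} (hχ : IsIrrCharacter G χ) {n : ℕ} (hn : χ 1 = n) (h2 : 2 ≤ n)
    (hgen : ∀ M : Subgroup G, M.Normal → H ≤ M → M = ⊤) :
    (Nat.card H : ℝ) < (1 + (n : ℝ)) ^ 2 := by
  classical
  let π : G → ℂ := χ * fun g => conj (χ g)
  have hπ : IsCharacter G π :=
    isCharacter_mul (isCharacter_of_isIrrCharacter hχ) (isCharacter_conj (isCharacter_of_isIrrCharacter hχ))
  obtain ⟨a, ha, hsum⟩ := exists_mult hπ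
  choose deg hdeg0 hdeg using fun η : IrrCharacter G => isIrrCharacter_apply_one η.2
  choose fix hfix using fun η : IrrCharacter G =>
    classInner_isCharacter (isCharacter_res H (isCharacter_of_isIrrCharacter η.2))
      (CharBasicDecomp.isCharacter_one (G := H))
  have ha1 : a (trivIrr G) = 1 := by
    have h1 := ha (trivIrr G)
    have h3 : classInner π ((trivIrr G : IrrCharacter G) : G → ℂ) = classInner χ χ := by
      simp [classInner, π, trivIrr]
    rw [h3, classInner_irr_self hχ] at h1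
    exact_mod_cast h1.symm
  have hfix1 : fix (trivIrr G) = 1 := by
    have h1 := hfix (trivIrr G)
    rw [show (fun h : H => ((trivIrr G : IrrCharacter G) : G → ℂ) h) = fun _ => (1 : ℂ) from rfl,
      classInner_irr_self isIrrCharacter_one] at h1
    exact_mod_cast h1.symm
  have hdeg1 : deg (trivIrr G) = 1 := by
    have h1 := hdeg (trivIrr G)
    rw [show ((trivIrr G : IrrCharacter G) : G → ℂ) 1 = 1 from rfl] at h1
    exact_mod_cast h1.symm
  -- the linear characters of `H` in `χ`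
  obtain ⟨e, he, hesum⟩ := exists_mult (isCharacter_res H (isCharacter_of_isIrrCharacter hχ))
  have hHab : ∀ x y : H, x * y = y * x := fun x y => Subtype.ext (hab x x.2 y y.2)
  have he1 : ∑ η : IrrCharacter H, e η = n := by
    have h1 := congrFun hesum 1
    simp only [OneMemClass.coe_one, hn, Finset.sum_apply, Pi.smul_apply, smul_eq_mul] at h1
    rw [Finset.sum_congr rfl fun η _ => by
      rw [CharBasicLinear.apply_one_eq_one_of_comm hHab η.2, mul_one]] at h1
    exact_mod_cast h1.symm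
  have hlow : n ≤ ∑ η, a η * fix η := by
    have h1 : classInner (fun h : H => π h) (fun _ => 1) = ((∑ η, a η * fix η : ℕ) : ℂ) := by
      have : (fun h : H => π h) = ∑ η : IrrCharacter G, (a η : ℂ) • fun h : H => (η : G → ℂ) h := by
        funext h
        have := congrFun hsum (h : G)
        simpa [Finset.sum_apply] using this
      rw [this, inner_sum_left, Nat.cast_sum]
      exact Finset.sum_congr rfl fun η _ => by rw [CharInduced.inner_smul_left, hfix η, Nat.cast_mul]
    have h3 : classInner (fun h : H => π h) (fun _ => 1) = ((∑ η, e η * e η : ℕ) : ℂ) := by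
      have h4 : classInner (fun h : H => π h) (fun _ => 1) =
          classInner (fun h : H => χ h) (fun h : H => χ h) := by
        simp [classInner, π]
      rw [h4, classInner_eq_sum (isClassFunction_res H (isClassFunction_irr hχ))]
      push_cast
      exact Finset.sum_congr rfl fun η _ => by rw [he, Complex.conj_natCast]
    rw [h1] at h3
    have h5 : ∑ η, a η * fix η = ∑ η, e η * e η := by exact_mod_cast h3
    rw [h5, ← he1]
    exact Finset.sum_le_sum fun η _ => Nat.le_mul_self _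
  have hdegsum : ∑ η, a η * deg η = n ^ 2 := by
    have h1 := congrFun hsum 1
    simp only [π, Pi.mul_apply, hn, Complex.conj_natCast, Finset.sum_apply, Pi.smul_apply, smul_eq_mul,
      hdeg] at h1
    rw [sq]
    exact_mod_cast h1.symm
  -- compare
  set s := (Nat.card H : ℝ).sqrt with hs
  have hs0 : 0 ≤ s := Real.sqrt_nonneg _
  have hs2 : s ^ 2 = (Nat.card H : ℝ) := Real.sq_sqrt (Nat.cast_nonneg _)
  have hterm : ∀ η ∈ Finset.univ.erase (trivIrr G),
      s * ((a η : ℝ) * fix η) ≤ (a η : ℝ) * deg η ∧ (fix η ≠ 0 → a η ≠ 0 →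
        s * ((a η : ℝ) * fix η) < (a η : ℝ) * deg η) := by
    intro η hη
    have hne : η ≠ trivIrr G := Finset.ne_of_mem_erase hη
    have hk : ∃ h ∈ H, (η : G → ℂ) h ≠ (η : G → ℂ) 1 := by
      by_contra hcon
      push Not at hcon
      apply hne
      have hK := hgen (CharBasicLinear.charKer _ (isCharacter_of_isIrrCharacter η.2))
        (CharBasicLinear.charKer_normal _ _) hcon
      have hall : ∀ g, (η : G → ℂ) g = (η : G → ℂ) 1 := fun g => by
        have : g ∈ CharBasicLinear.charKer _ (isCharacter_of_isIrrCharacter η.2) :=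
          hK ▸ Subgroup.mem_top g
        exact this
      by_contra hne'
      have h0 := classInner_irr_ne η.2 isIrrCharacter_one (fun e => hne' (Subtype.ext e))
      rw [show (η : G → ℂ) = fun _ => (η : G → ℂ) 1 from funext hall, classInner] at h0
      simp only [map_one, mul_one, Finset.sum_const, Finset.card_univ, nsmul_eq_mul,
        ← Nat.card_eq_fintype_card] at h0
      rw [inv_mul_cancel_left₀ (Nat.cast_ne_zero.2 Nat.card_pos.ne')] at h0
      exact isIrrCharacter_apply_one_ne_zero η.2 h0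
    have hb := first_bound H hab hZ hone η.2 hk (hdeg η) (hfix η)
    have hb' : (s * fix η) ^ 2 < (deg η : ℝ) ^ 2 := by
      rw [mul_pow, hs2]; exact_mod_cast hb
    have hlt : s * fix η < deg η := lt_of_pow_lt_pow_left₀ 2 (Nat.cast_nonneg _) hb'
    refine ⟨?_, fun _ ha0 => ?_⟩
    · rw [mul_left_comm]; exact mul_le_mul_of_nonneg_left hlt.le (Nat.cast_nonneg _)
    · rw [mul_left_comm]
      exact mul_lt_mul_of_pos_left hlt (Nat.cast_pos.2 (Nat.pos_of_ne_zero ha0))
  have h5 : s * ((n : ℝ) - 1) < (n : ℝ) ^ 2 - 1 := by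
    have hE1 : (∑ η ∈ Finset.univ.erase (trivIrr G), a η * fix η) + 1 = ∑ η, a η * fix η := by
      have := Finset.sum_erase_add Finset.univ (fun η => a η * fix η) (Finset.mem_univ (trivIrr G))
      simpa [ha1, hfix1] using this
    have hE2 : (∑ η ∈ Finset.univ.erase (trivIrr G), a η * deg η) + 1 = n ^ 2 := by
      have := Finset.sum_erase_add Finset.univ (fun η => a η * deg η) (Finset.mem_univ (trivIrr G))
      rw [hdegsum] at this
      simpa [ha1, hdeg1] using this
    obtain ⟨η₀, hη₀, hne0⟩ := Finset.exists_ne_zero_of_sum_ne_zero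
      (s := Finset.univ.erase (trivIrr G)) (f := fun η => a η * fix η) (by omega)
    have hlt : ∑ η ∈ Finset.univ.erase (trivIrr G), s * ((a η : ℝ) * fix η) <
        ∑ η ∈ Finset.univ.erase (trivIrr G), (a η : ℝ) * deg η :=
      Finset.sum_lt_sum (fun η hη => (hterm η hη).1)
        ⟨η₀, hη₀, (hterm η₀ hη₀).2 (right_ne_zero_of_mul hne0) (left_ne_zero_of_mul hne0)⟩
    rw [← Finset.mul_sum] at hlt
    have hx : (n : ℝ) - 1 ≤ ∑ η ∈ Finset.univ.erase (trivIrr G), (a η : ℝ) * fix η := by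
      have : (n : ℝ) ≤ ((∑ η ∈ Finset.univ.erase (trivIrr G), a η * fix η : ℕ) : ℝ) + 1 := by
        exact_mod_cast hE1.symm ▸ hlow
      push_cast at this
      linarith
    have hy : ∑ η ∈ Finset.univ.erase (trivIrr G), (a η : ℝ) * deg η = (n : ℝ) ^ 2 - 1 := by
      have : ((∑ η ∈ Finset.univ.erase (trivIrr G), a η * deg η : ℕ) : ℝ) + 1 = (n : ℝ) ^ 2 := by
        exact_mod_cast hE2
      push_cast at this
      linarith
    rw [hy] at hlt
    exact lt_of_le_of_lt (mul_le_mul_of_nonneg_left hx hs0) hlt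
  have hn2 : (2 : ℝ) ≤ n := by exact_mod_cast h2
  have h6 : s < 1 + (n : ℝ) := lt_of_mul_lt_mul_right
    (h5.trans_le (le_of_eq (by ring : (n : ℝ) ^ 2 - 1 = (1 + n) * (n - 1)))) (by linarith)
  rw [← hs2]
  exact pow_lt_pow_left₀ h6 hs0 two_ne_zero


/-- Let H be an abelian subgroup of the finite group G meeting the centre of G trivially, such that for every non-central g the centralizer of g has nontrivial intersection with at most one conjugate of H. Let χ be an irreducible character of G with χ h ≠ χ 1 for some h in H, and let c be the inner product of the restriction of χ to H with the principal character. Then χ(1)² > (order of H)·c²; and if in addition χ 1 ≠ 1 and no proper normal subgroup of G contains H, then (1 + χ 1)² > order of H (both sides read as real numbers). -/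
theorem result {G : Type*} [Group G] [Fintype G] (H : Subgroup G) [Fintype H] (hab : ∀ a ∈ H, ∀ b ∈ H, a * b = b * a) (hZ : H ⊓ Subgroup.center G = ⊥) (hone : ∀ g : G, g ∉ Subgroup.center G → ∀ a b : G, Subgroup.centralizer ({g} : Set G) ⊓ H.map (MulAut.conj a).toMonoidHom ≠ ⊥ → Subgroup.centralizer ({g} : Set G) ⊓ H.map (MulAut.conj b).toMonoidHom ≠ ⊥ → H.map (MulAut.conj a).toMonoidHom = H.map (MulAut.conj b).toMonoidHom) (χ : G → ℂ) (hχ : Cfsg.IsIrrCharacter G χ) (hker : ∃ h ∈ H, χ h ≠ χ 1) : (χ 1).re ^ 2 > (Nat.card H : ℝ) * (Cfsg.classInner (fun h : H => χ h) (fun _ => 1)).re ^ 2 ∧ (χ 1 ≠ 1 → (∀ M : Subgroup G, M.Normal → H ≤ M → M = ⊤) → (1 + (χ 1).re) ^ 2 > (Nat.card H : ℝ)) := by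
  obtain ⟨n, hnpos, hn⟩ := isIrrCharacter_apply_one hχ
  obtain ⟨m, hm⟩ := classInner_isCharacter (isCharacter_res H (isCharacter_of_isIrrCharacter hχ))
    (CharBasicDecomp.isCharacter_one (G := H))
  rw [hn, hm, Complex.natCast_re, Complex.natCast_re]
  refine ⟨?_, fun h1 hgen => ?_⟩
  · have := first_bound H hab hZ hone hχ hker hn hm
    exact_mod_cast this
  · refine second_bound H hab hZ hone hχ hn ?_ hgen
    have : n ≠ 1 := fun e => h1 (by rw [e, Nat.cast_one])
    omega

end Cfsg.Agent.S0898
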