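import Cfsg.Statements.S0899
import Cfsg.Agent.S4503
import Cfsg.Agent.S4468
import Cfsg.Agent.S0898
import Cfsg.Agent.Lib.BlockIndexThreeMain86
import Cfsg.Agent.Lib.CharBasicInt
import Cfsg.Agent.Lib.CharBasicDecomp
-- import your own Cfsg.Agent.* helpers here

set_option autoImplicit false
open Cfsg

namespace Cfsg.Agent.S0899

open Cfsg.Agent.CharBasic

universe u

open scoped commutatorElement

attribute [local instance] Classical.propDecidable

open scoped IsMulCommutative in
/-- A central element of an abelian Sylow subgroup of a perfect group is trivial. -/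
theorem center_inf_eq_bot {G : Type*} [Group G] [Finite G] {p : ℕ} [hp : Fact p.Prime] (P : Sylow p G)
    (hab : IsMulCommutative (P : Subgroup G)) (hperf : commutator G = ⊤) :
    (P : Subgroup G) ⊓ Subgroup.center G = ⊥ := by
  rw [eq_bot_iff]
  rintro z ⟨hzP, hzC⟩
  rw [Subgroup.mem_bot]
  let T : G →* ↥(P : Subgroup G) := MonoidHom.transfer (MonoidHom.id ↥(P : Subgroup G))
  have key : ∀ (k : ℕ) (g₀ : G), g₀⁻¹ * z ^ k * g₀ ∈ (P : Subgroup G) → g₀⁻¹ * z ^ k * g₀ = z ^ k := by
    intro k g₀ _
    rw [mul_assoc, ← Subgroup.mem_center_iff.1 (pow_mem hzC k) g₀, inv_mul_cancel_left]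
  have h1 : T z = 1 := MonoidHom.mem_ker.1 (by
    have hle : commutator G ≤ T.ker := Abelianization.commutator_subset_ker T
    exact hle (hperf ▸ Subgroup.mem_top z))
  rw [show T z = _ from MonoidHom.transfer_eq_pow (MonoidHom.id ↥(P : Subgroup G)) z key] at h1
  have h2 : z ^ (P : Subgroup G).index = 1 := congrArg Subtype.val h1
  obtain ⟨j, hj⟩ := (IsPGroup.iff_orderOf.1 P.isPGroup') ⟨z, hzP⟩
  rw [Subgroup.orderOf_mk] at hj
  have h3 := orderOf_dvd_of_pow_eq_one h2
  rw [hj] at h3
  rcases j with _ | j
  · rwa [pow_zero, orderOf_eq_one_iff] at hj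
  · exact absurd ((dvd_pow_self p j.succ_ne_zero).trans h3) P.not_dvd_index

/-- A group with a faithful character all of whose constituents are linear is abelian. -/
theorem comm_of_linear {H : Type*} [Group H] [Fintype H] (χ : H → ℂ) (hχ : Cfsg.IsCharacter H χ)
    (hfaith : ∀ g : H, χ g = χ 1 → g = 1)
    (hlin : ∀ ψ : Cfsg.IrrCharacter H, Cfsg.classInner χ (ψ : H → ℂ) ≠ 0 → (ψ : H → ℂ) 1 = 1) :
    ∀ g h : H, g * h = h * g := by
  obtain ⟨b, hb, hsum⟩ := CharBasicDecomp.exists_mult hχ
  intro g h
  refine commutatorElement_eq_one_iff_mul_comm.1 (hfaith _ ?_)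
  rw [hsum]
  simp only [Finset.sum_apply, Pi.smul_apply, smul_eq_mul]
  refine Finset.sum_congr rfl fun ψ _ => ?_
  rcases eq_or_ne (b ψ) 0 with h0 | h0
  · simp [h0]
  congr 1
  obtain ⟨l, σ, hσi, hσ⟩ := ψ.2
  have hl : l = 1 := by
    have h1 : (ψ : H → ℂ) 1 = (l : ℂ) := by
      rw [← hσ, Representation.character, map_one, LinearMap.trace_one, Module.finrank_fin_fun]
    rw [hlin ψ (by rw [hb]; exact_mod_cast h0)] at h1
    exact_mod_cast h1.symm
  subst hl
  rw [← hσ]
  have hcomm : ∀ A B : Module.End ℂ (Fin 1 → ℂ), A * B = B * A := fun A B =>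
    LinearMap.toMatrix'.injective (by
      rw [LinearMap.toMatrix'_mul, LinearMap.toMatrix'_mul]
      ext i j
      fin_cases i
      fin_cases j
      simp [Matrix.mul_apply, mul_comm])
  simp only [Representation.character, commutatorElement_def, map_mul]
  rw [hcomm (σ g) (σ h), mul_assoc (σ h), ← map_mul σ g g⁻¹, mul_inv_cancel, map_one, mul_one,
    ← map_mul σ h h⁻¹, mul_inv_cancel, map_one]

theorem main (p : ℕ) [hp : Fact p.Prime] : ∀ (N : ℕ) (G : Type u) [Group G] [Finite G], Nat.card G = N →
    ∀ (n : ℕ) (ρ : Representation ℂ G (Fin n → ℂ)), Function.Injective ρ → n + 1 < p →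
    (∀ K : Subgroup G, ¬ p ^ 2 ∣ Nat.card K → ∀ Q : Sylow p K, (Q : Subgroup K).Normal) →
    ∀ P : Sylow p G, (P : Subgroup G).Normal := by
  intro N
  induction N using Nat.strong_induction_on with
  | _ N ih =>
    intro G _ _ hN n ρ hρ hn hprop P
    haveI : Fintype G := Fintype.ofFinite G
    by_contra hPn
    -- proper subgroups have a normal Sylow subgroup
    have hsub : ∀ H : Subgroup G, H ≠ ⊤ → ∀ Q : Sylow p H, (Q : Subgroup H).Normal := by
      intro H hH
      refine ih (Nat.card H) ?_ H rfl n (ρ.comp H.subtype) (hρ.comp (Subgroup.subtype_injective H)) hn ?_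
      · rw [← hN]
        exact lt_of_le_of_ne (Nat.le_of_dvd Nat.card_pos (Subgroup.card_subgroup_dvd_card H))
          fun h => hH (Subgroup.eq_top_of_card_eq H h)
      · intro K hK Q
        have hcard : Nat.card (K.map H.subtype) = Nat.card K :=
          Subgroup.card_map_of_injective (Subgroup.subtype_injective H)
        let e := K.equivMapOfInjective H.subtype (Subgroup.subtype_injective H)
        have h := hprop (K.map H.subtype) (hcard ▸ hK) (Q.mapSurjective (f := e.toMonoidHom) e.surjective)
        replace h : ((Q : Subgroup K).map e.toMonoidHom).Normal := h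
        have h2 := h.comap e.toMonoidHom
        rwa [Subgroup.comap_map_eq_self_of_injective e.injective] at h2
    have hgen : ∀ K : Subgroup G, K.Normal → (P : Subgroup G) ≤ K → K = ⊤ := by
      intro K hK hle
      by_contra hne
      refine hPn ?_
      have hn' : (P.subtype hle : Subgroup K).Normal := hsub K hne _
      haveI := hn'
      haveI := hK
      haveI : (P.subtype hle : Subgroup K).Characteristic := Sylow.characteristic_of_normal _ hn'
      have h := ConjAct.normal_of_characteristic_of_normal (K := (P.subtype hle : Subgroup K)) (H := K)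
      rwa [Sylow.coe_subtype, Subgroup.subgroupOf_map_subtype, inf_eq_left.2 hle] at h
    have hchar : IsCharacter G ρ.character := ⟨n, ρ, rfl⟩
    have hfaith : ∀ g : G, ρ.character g = ρ.character 1 → g = 1 := by
      intro g hg
      refine hρ ?_
      have h1 : ρ g = LinearMap.id := (CharBasic.character_eq_finrank_iff ρ g).1 (by
        rw [hg, Representation.character, map_one, LinearMap.trace_one])
      rw [h1, map_one]
      rfl
    have hsq : p ^ 2 ∣ Nat.card (P : Subgroup G) := by
      by_contra hsq
      have hG : ¬ p ^ 2 ∣ Nat.card G := fun h => hsq (P.pow_dvd_card_of_pow_dvd_card h)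
      have h := hprop ⊤ (by rwa [Subgroup.card_top]) (P.subtype le_top)
      refine hPn ?_
      have h2 := h.comap (Subgroup.topEquiv.symm.toMonoidHom)
      convert h2 using 1
      ext x
      simp [Subgroup.mem_subgroupOf]
    -- the Sylow subgroups are abelian
    have hab : ∀ Q : Sylow p G, IsMulCommutative (Q : Subgroup G) := by
      intro Q
      haveI : Fintype ↥(Q : Subgroup G) := Fintype.ofFinite _
      have hc := CharBasic.isCharacter_comap (Q : Subgroup G).subtype hchar
      refine ⟨⟨comm_of_linear _ hc (fun g hg => Subtype.ext (hfaith g hg)) fun ψ hψ => ?_⟩⟩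
      obtain ⟨b, hb, hsum⟩ := CharBasicDecomp.exists_mult hc
      obtain ⟨d, hd0, hd1, hd2⟩ := CharBasicInt.exists_apply_one_dvd_card ψ.2
      obtain ⟨j, hj⟩ := IsPGroup.iff_card.1 Q.isPGroup'
      rw [hj] at hd2
      obtain ⟨i, -, rfl⟩ := (Nat.dvd_prime_pow hp.out).1 hd2
      rcases i with _ | i
      · rw [hd1, pow_zero, Nat.cast_one]
      exfalso
      have hdle : p ^ (i + 1) ≤ n := by
        choose d' hd' using fun φ : Cfsg.IrrCharacter ↥(Q : Subgroup G) =>
          isCharacter_apply_one (isCharacter_of_isIrrCharacter φ.2)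
        have h := congrFun hsum 1
        simp only [Function.comp_apply, Finset.sum_apply, Pi.smul_apply, smul_eq_mul, hd', map_one] at h
        rw [Representation.character, map_one, LinearMap.trace_one, Module.finrank_fin_fun] at h
        have h' : n = ∑ φ, b φ * d' φ := by exact_mod_cast h
        have hdd : d' ψ = p ^ (i + 1) := Nat.cast_injective ((hd' ψ).symm.trans hd1)
        have hb0 : 1 ≤ b ψ := Nat.one_le_iff_ne_zero.2 fun h0 => hψ (by rw [hb, h0, Nat.cast_zero])
        rw [h', ← hdd]
        exact (Nat.le_mul_of_pos_left _ hb0).trans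
          (Finset.single_le_sum (f := fun φ => b φ * d' φ) (fun _ _ => Nat.zero_le _) (Finset.mem_univ ψ))
      have h2 : p ≤ p ^ (i + 1) := Nat.le_self_pow (by omega) p
      omega
    -- the group is perfect
    have hperf : commutator G = ⊤ := by
      by_contra hne
      set D := commutator G with hD
      obtain ⟨Q⟩ : Nonempty (Sylow p D) := inferInstance
      haveI hQn : (Q : Subgroup D).Normal := hsub D hne Q
      haveI : (Q : Subgroup D).Characteristic := Sylow.characteristic_of_normal _ hQn
      have hQG : ((Q : Subgroup D).map D.subtype).Normal := ConjAct.normal_of_characteristic_of_normal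
      have hDP : D ⊔ (P : Subgroup G) = ⊤ :=
        hgen _ ⟨fun x hx g => by
          rw [show g * x * g⁻¹ = ⁅g, x⁆ * x by rw [commutatorElement_def]; group]
          exact mul_mem (Subgroup.mem_sup_left (Subgroup.commutator_mem_commutator (Subgroup.mem_top g)
            (Subgroup.mem_top x))) hx⟩ le_sup_right
      obtain ⟨j, hj⟩ := IsPGroup.iff_card.1 P.isPGroup'
      have hidx : ∃ a, D.index = p ^ a := by
        have h1 : D.relIndex (P : Subgroup G) = D.index := by
          rw [← Subgroup.relIndex_top_right, ← hDP, sup_comm, Subgroup.relIndex_sup_right]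
        have h2 := Subgroup.relIndex_dvd_card D (P : Subgroup G)
        rw [h1, hj] at h2
        obtain ⟨a, -, ha⟩ := (Nat.dvd_prime_pow hp.out).1 h2
        exact ⟨a, ha⟩
      have hsolv : Cfsg.IsPSolvable p G := by
        refine ⟨3, ![⊥, (Q : Subgroup D).map D.subtype, D, ⊤], rfl, rfl, ?_, ?_, ?_⟩
        · refine Fin.monotone_iff_le_succ.2 fun i => ?_
          fin_cases i
          · exact bot_le
          · exact Subgroup.map_subtype_le _
          · exact le_top
        · intro i
          fin_cases i
          · exact Subgroup.normal_bot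
          · exact hQG
          · exact (inferInstance : (commutator G).Normal)
          · exact Subgroup.normal_top
        · intro i
          fin_cases i
          · left
            obtain ⟨a, ha⟩ := IsPGroup.iff_card.1 Q.isPGroup'
            refine ⟨a, ?_⟩
            show Subgroup.relIndex ⊥ ((Q : Subgroup D).map D.subtype) = p ^ a
            rw [Subgroup.relIndex_bot_left, Subgroup.card_map_of_injective (Subgroup.subtype_injective D), ha]
          · right
            show (((Q : Subgroup D).map D.subtype).relIndex D).Coprime p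
            rw [Subgroup.relIndex, Subgroup.subgroupOf,
              Subgroup.comap_map_eq_self_of_injective (Subgroup.subtype_injective D)]
            exact (hp.out.coprime_iff_not_dvd.2 Q.not_dvd_index).symm
          · left
            obtain ⟨a, ha⟩ := hidx
            exact ⟨a, (Subgroup.relIndex_top_right (H := D)).trans ha⟩
      obtain ⟨h, -, -⟩ := S4468.result ρ.character hchar hfaith n
        (by simp [Cfsg.charDegree, Representation.character]) p hp.out hsolv (by omega) P hPn
      omega
    have hTI : ∀ Q : Sylow p G, (Q : Subgroup G) ⊓ Subgroup.center G = ⊥ := fun Q =>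
      center_inf_eq_bot Q (hab Q) hperf
    have huniq : ∀ (Q₁ Q₂ : Sylow p G) (y : G), y ∈ (Q₁ : Subgroup G) → y ∈ (Q₂ : Subgroup G) → y ≠ 1 →
        Q₁ = Q₂ := by
      intro Q₁ Q₂ y h1 h2 hy
      set C := Subgroup.centralizer ({y} : Set G) with hC
      have hle : ∀ Q : Sylow p G, y ∈ (Q : Subgroup G) → (Q : Subgroup G) ≤ C := fun Q hQ z hz => by
        refine Subgroup.mem_centralizer_singleton_iff.2 ?_
        exact congrArg Subtype.val ((hab Q).is_comm.comm ⟨z, hz⟩ ⟨y, hQ⟩)
      have hne : C ≠ ⊤ := by
        intro htop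
        have : y ∈ (Q₁ : Subgroup G) ⊓ Subgroup.center G := ⟨h1, Subgroup.mem_center_iff.2 fun g =>
          Subgroup.mem_centralizer_singleton_iff.1 (htop ▸ Subgroup.mem_top g : g ∈ C)⟩
        rw [hTI Q₁, Subgroup.mem_bot] at this
        exact hy this
      haveI := Sylow.unique_of_normal (Q₁.subtype (hle Q₁ h1)) (hsub C hne _)
      exact Sylow.subtype_injective (Subsingleton.elim (Q₁.subtype (hle Q₁ h1)) (Q₂.subtype (hle Q₂ h2)))
    -- the counting argument
    haveI : Fintype ↥(P : Subgroup G) := Fintype.ofFinite _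
    obtain ⟨b, hb, hsum⟩ := CharBasicDecomp.exists_mult hchar
    obtain ⟨ψ, hψ, hψ1⟩ : ∃ ψ : Cfsg.IrrCharacter G, Cfsg.classInner ρ.character (ψ : G → ℂ) ≠ 0 ∧
        (ψ : G → ℂ) 1 ≠ 1 := by
      by_contra hno
      push Not at hno
      have hcomm := comm_of_linear _ hchar hfaith hno
      exact hPn ⟨fun x hx g => by rw [hcomm g x, mul_assoc, mul_inv_cancel, mul_one]; exact hx⟩
    have hker : ∃ h ∈ (P : Subgroup G), (ψ : G → ℂ) h ≠ (ψ : G → ℂ) 1 := by
      by_contra hno
      push Not at hno
      have htop := hgen _ (CharKernel.irrKer_normal ψ) fun h hh => CharKernel.mem_irrKer.2 (hno h hh)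
      have hc : ∀ g : G, (ψ : G → ℂ) g = (ψ : G → ℂ) 1 := fun g => by
        rw [← CharKernel.mem_irrKer, htop]; trivial
      obtain ⟨d, hd⟩ := isCharacter_apply_one (isCharacter_of_isIrrCharacter ψ.2)
      have h := CharBasicOrth.classInner_irr_self ψ.2
      rw [classInner, Finset.sum_congr rfl fun g _ => by rw [hc g, hd, map_natCast], Finset.sum_const,
        Finset.card_univ, nsmul_eq_mul, ← Nat.card_eq_fintype_card, inv_mul_cancel_left₀
          (Nat.cast_ne_zero.2 Nat.card_pos.ne')] at h
      have h' : d * d = 1 := by exact_mod_cast h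
      exact hψ1 (by rw [hd, Nat.eq_one_of_mul_eq_one_left h', Nat.cast_one])
    have hone : ∀ g : G, g ∉ Subgroup.center G → ∀ a b : G,
        Subgroup.centralizer ({g} : Set G) ⊓ (P : Subgroup G).map (MulAut.conj a).toMonoidHom ≠ ⊥ →
        Subgroup.centralizer ({g} : Set G) ⊓ (P : Subgroup G).map (MulAut.conj b).toMonoidHom ≠ ⊥ →
        (P : Subgroup G).map (MulAut.conj a).toMonoidHom = (P : Subgroup G).map (MulAut.conj b).toMonoidHom := by
      intro g hg a c ha hc
      set C := Subgroup.centralizer ({g} : Set G) with hC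
      have hne : C ≠ ⊤ := fun htop => hg (Subgroup.mem_center_iff.2 fun x =>
        Subgroup.mem_centralizer_singleton_iff.1 (htop ▸ Subgroup.mem_top x : x ∈ C))
      obtain ⟨S⟩ : Nonempty (Sylow p C) := inferInstance
      obtain ⟨Q, hQ⟩ := (S.isPGroup'.map C.subtype).exists_le_sylow
      have key : ∀ R : Sylow p G, C ⊓ (R : Subgroup G) ≠ ⊥ → R = Q := by
        intro R hR
        obtain ⟨y, hy1⟩ := (Subgroup.ne_bot_iff_exists_ne_one.1 hR)
        obtain ⟨j, hj⟩ := (IsPGroup.iff_orderOf.1 R.isPGroup') ⟨y, y.2.2⟩
        have hpg : IsPGroup p (Subgroup.zpowers (⟨y, y.2.1⟩ : C)) := by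
          refine IsPGroup.iff_card.2 ⟨j, ?_⟩
          rw [Nat.card_zpowers, ← hj, Subgroup.orderOf_mk, Subgroup.orderOf_mk]
        obtain ⟨T, hT⟩ := hpg.exists_le_sylow
        haveI := Sylow.unique_of_normal S (hsub C hne S)
        obtain rfl : T = S := Subsingleton.elim T S
        exact huniq R Q y y.2.2 (hQ ⟨_, hT (Subgroup.mem_zpowers _), rfl⟩)
          fun h1 => hy1 (Subtype.ext h1)
      have e : ∀ x : G, ((x • P : Sylow p G) : Subgroup G) = (P : Subgroup G).map (MulAut.conj x).toMonoidHom :=
        fun x => rfl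
      rw [← e, ← e]
      rw [← e] at ha hc
      rw [key _ ha, key _ hc]
    have hbound := (S0898.result (P : Subgroup G)
      (fun x hx y hy => congrArg Subtype.val ((hab P).is_comm.comm ⟨x, hx⟩ ⟨y, hy⟩)) (hTI P) hone
      (ψ : G → ℂ) ψ.2 hker).2 hψ1 hgen
    obtain ⟨d, hd⟩ := isCharacter_apply_one (isCharacter_of_isIrrCharacter ψ.2)
    rw [hd, Complex.natCast_re] at hbound
    have hdn : d ≤ n := by
      choose d' hd' using fun φ : Cfsg.IrrCharacter G =>
        isCharacter_apply_one (isCharacter_of_isIrrCharacter φ.2)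
      have h := congrFun hsum 1
      simp only [Finset.sum_apply, Pi.smul_apply, smul_eq_mul, hd'] at h
      rw [Representation.character, map_one, LinearMap.trace_one, Module.finrank_fin_fun] at h
      have h' : n = ∑ φ, b φ * d' φ := by exact_mod_cast h
      have hdd : d' ψ = d := Nat.cast_injective ((hd' ψ).symm.trans hd)
      have hb0 : 1 ≤ b ψ := Nat.one_le_iff_ne_zero.2 fun h0 => hψ (by rw [hb, h0, Nat.cast_zero])
      rw [h', ← hdd]
      exact (Nat.le_mul_of_pos_left _ hb0).trans
        (Finset.single_le_sum (f := fun φ => b φ * d' φ) (fun _ _ => Nat.zero_le _) (Finset.mem_univ ψ))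
    have hbig : p ^ 2 ≤ Nat.card (P : Subgroup G) := Nat.le_of_dvd Nat.card_pos hsq
    have h1 : ((1 + d) ^ 2 : ℕ) < p ^ 2 := Nat.pow_lt_pow_left (by omega) two_ne_zero
    have h2 : ((Nat.card (P : Subgroup G) : ℕ) : ℝ) < (((1 + d) ^ 2 : ℕ) : ℝ) := by push_cast; exact hbound
    have h3 : Nat.card (P : Subgroup G) < (1 + d) ^ 2 := by exact_mod_cast h2
    omega

/-- Let G be a finite group with a faithful complex representation of degree n (on Fin n → ℂ) and p a prime. Suppose either that (n + 1) ^ 2 ≤ p, or that n + 1 < p and every subgroup of G whose order is not divisible by p ^ 2 has a normal Sylow p-subgroup. Then every Sylow p-subgroup of G is normal. -/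
theorem result {G : Type*} [Group G] [Finite G] (n : ℕ) (ρ : Representation ℂ G (Fin n → ℂ)) (hρ : Function.Injective ρ) (p : ℕ) [Fact p.Prime] (h : (n + 1) ^ 2 ≤ p ∨ (n + 1 < p ∧ ∀ K : Subgroup G, ¬ p ^ 2 ∣ Nat.card K → ∀ Q : Sylow p K, (Q : Subgroup K).Normal)) (P : Sylow p G) : (P : Subgroup G).Normal := by
  haveI : Fintype G := Fintype.ofFinite G
  rcases Nat.eq_zero_or_pos n with rfl | hn0
  · have : Subsingleton G := ⟨fun a b => hρ (Subsingleton.elim _ _)⟩
    rw [Subsingleton.elim (P : Subgroup G) ⊥]
    infer_instance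
  have hp := (Fact.out : p.Prime)
  rcases h with h | ⟨h, hprop⟩
  · have hn : n + 1 < p := by
      rcases Nat.lt_or_ge (n + 1) p with h' | h'
      · exact h'
      · exfalso; nlinarith
    refine main p _ G rfl n ρ hρ hn (fun K hK Q => ?_) P
    haveI : Fintype K := Fintype.ofFinite _
    by_contra hQ
    by_cases hdiv : p ∣ Nat.card K
    · have h1 : Nat.card (Q : Subgroup K) = p := by
        rw [Sylow.card_eq_multiplicity]
        have h1 : (Nat.card K).factorization p = 1 := by
          have hge := hp.factorization_pos_of_dvd Nat.card_pos.ne' hdiv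
          rcases Nat.lt_or_ge ((Nat.card K).factorization p) 2 with h | h
          · omega
          · exact absurd ((pow_dvd_pow p h).trans (Nat.ordProj_dvd (Nat.card K) p)) hK
        rw [h1, pow_one]
      have hb := S4503.result p hp hdiv hK (fun H hH hHc => hQ ?_) _
        (CharBasic.isCharacter_comap K.subtype (⟨n, ρ, rfl⟩ : Cfsg.IsCharacter G ρ.character)) (fun g hg => ?_)
      · have hdeg : Cfsg.charDegree (ρ.character ∘ K.subtype) = n := by
          simp [Cfsg.charDegree, Representation.character]
        rw [hdeg] at hb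
        nlinarith
      · have hHp : IsPGroup p H := IsPGroup.iff_card.2 ⟨1, by rw [hHc, pow_one]⟩
        obtain ⟨T, hT⟩ := hHp.exists_le_sylow
        obtain ⟨g, hg⟩ := MulAction.exists_smul_eq K T Q
        have hHQ : H ≤ (Q : Subgroup K) := by
          rw [← hg, Sylow.coe_subgroup_smul]
          intro z hz
          rw [Subgroup.mem_pointwise_smul_iff_inv_smul_mem]
          exact hT (by simpa [mul_assoc] using hH.conj_mem z hz g⁻¹)
        have : H = (Q : Subgroup K) := SetLike.coe_injective (Set.eq_of_subset_of_ncard_le hHQ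
          (by rw [← Nat.card_coe_set_eq, ← Nat.card_coe_set_eq]; exact (h1.trans hHc.symm).le))
        rw [← this]; exact hH
      · refine Subtype.ext (hρ ?_)
        have h1 : ρ (g : G) = LinearMap.id := (CharBasic.character_eq_finrank_iff ρ (g : G)).1 (by
          have h2 : ρ.character (g : G) = ρ.character 1 := by simpa using hg
          rw [h2, Representation.character, map_one, LinearMap.trace_one])
        rw [h1, OneMemClass.coe_one, map_one]
        rfl
    · refine hQ ?_
      have : (Q : Subgroup K) = ⊥ := Subgroup.card_eq_one.1 (by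
        rw [Sylow.card_eq_multiplicity, Nat.factorization_eq_zero_of_not_dvd hdiv, pow_zero])
      rw [this]; infer_instance
  · exact main p _ G rfl n ρ hρ h hprop P

end Cfsg.Agent.S0899
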