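import Cfsg.Statements.S0900
import Cfsg.Agent.Lib.CharInducedClifford

set_option autoImplicit false
open Cfsg

namespace Cfsg.Agent.S0900
open Cfsg.Agent.CharInduced Cfsg.Agent.CharBasic Cfsg.Agent.CharBasicOrth
open scoped ComplexConjugate

attribute [local instance] Classical.propDecidable



/-- Let N be a normal subgroup of the finite group G, χ an irreducible character of G and ϑ an irreducible character of N having nonzero inner product with the restriction of χ. Consider: (a) the restriction of χ to N is e • ϑ for a natural number e with e ^ 2 equal to the index of N; (b) χ vanishes outside N and ϑ is invariant under conjugation by G; (c) ϑ is invariant and every irreducible character of G having nonzero inner product with the function induced from ϑ equals χ. Then (a) ↔ (b) and (a) ↔ (c). -/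
theorem result {G : Type*} [Group G] [Fintype G] (N : Subgroup G) [hN : N.Normal] [Fintype N] (χ : G → ℂ) (hχ : Cfsg.IsIrrCharacter G χ) (ϑ : N → ℂ) (hϑ : Cfsg.IsIrrCharacter N ϑ) (hcon : Cfsg.classInner (fun n : N => χ n) ϑ ≠ 0) : ((∃ e : ℕ, (fun n : N => χ n) = (e : ℂ) • ϑ ∧ e ^ 2 = N.index) ↔ ((∀ g : G, g ∉ N → χ g = 0) ∧ ∀ (g : G) (n : N), ϑ ⟨g * n * g⁻¹, hN.conj_mem (n : G) n.2 g⟩ = ϑ n)) ∧ ((∃ e : ℕ, (fun n : N => χ n) = (e : ℂ) • ϑ ∧ e ^ 2 = N.index) ↔ (∀ (g : G) (n : N), ϑ ⟨g * n * g⁻¹, hN.conj_mem (n : G) n.2 g⟩ = ϑ n ∧ ∀ ψ : G → ℂ, Cfsg.IsIrrCharacter G ψ → Cfsg.classInner (Cfsg.indFun N ϑ) ψ ≠ 0 → ψ = χ)) := by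
  classical
  set m := Cfsg.classInner (fun n : N => χ n) ϑ with hm
  have hcl := isClassFunction_irr hχ
  have hresc : Cfsg.IsCharacter N (fun n : N => χ n) :=
    isCharacter_res N (isCharacter_of_isIrrCharacter hχ)
  obtain ⟨k, hk⟩ := coeff_nat hresc hϑ
  have hk' : m = (k : ℂ) := hk
  have hk0 : (k : ℂ) ≠ 0 := hk' ▸ hcon
  have hG : (Nat.card G : ℂ) ≠ 0 := Nat.cast_ne_zero.2 Nat.card_pos.ne'
  have hN0 : (Nat.card N : ℂ) ≠ 0 := Nat.cast_ne_zero.2 Nat.card_pos.ne'
  have hidx : (N.index : ℂ) * Nat.card N = Nat.card G := by exact_mod_cast N.index_mul_card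
  -- the squared norm split along the normal subgroup
  have hsplit : ∀ e : ℕ, (fun n : N => χ n) = (e : ℂ) • ϑ →
      (Nat.card G : ℂ) = (e : ℂ) ^ 2 * Nat.card N +
        ∑ g ∈ Finset.univ.filter (fun g : G => g ∉ N), (Complex.normSq (χ g) : ℂ) := by
    intro e he
    have h1 := card_mul_classInner χ χ
    rw [classInner_irr_self hχ, mul_one,
      ← Finset.sum_filter_add_sum_filter_not Finset.univ (· ∈ N)] at h1
    rw [h1]
    congr 1
    · rw [Finset.sum_subtype (p := fun g : G => g ∈ N) _ (fun g => by simp)]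
      have h2 := card_mul_classInner ϑ ϑ
      rw [classInner_irr_self hϑ, mul_one] at h2
      rw [h2, Finset.mul_sum]
      refine Finset.sum_congr rfl fun n _ => ?_
      have := congrFun he n
      simp only [Pi.smul_apply, smul_eq_mul] at this
      rw [this, map_mul, Complex.conj_natCast]
      ring
    · exact Finset.sum_congr rfl fun g _ => (Complex.mul_conj _)
  have hinv_iff : (∀ (g : G) (n : N), ϑ ⟨g * n * g⁻¹, hN.conj_mem (n : G) n.2 g⟩ = ϑ n) →
      (fun n : N => χ n) = (k : ℂ) • ϑ := by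
    intro hinv
    have horb : orbitFin N ϑ = {ϑ} := by
      refine Finset.eq_singleton_iff_unique_mem.2 ⟨self_mem_orbitFin N ϑ, fun φ hφ => ?_⟩
      obtain ⟨g, rfl⟩ := (mem_orbitFin N).1 hφ
      exact funext fun n => hinv g n
    have := clifford N hχ hϑ hcon
    rwa [horb, Finset.sum_singleton, ← hm, hk'] at this
  have hA_inv : (∃ e : ℕ, (fun n : N => χ n) = (e : ℂ) • ϑ ∧ e ^ 2 = N.index) →
      ∀ (g : G) (n : N), ϑ ⟨g * n * g⁻¹, hN.conj_mem (n : G) n.2 g⟩ = ϑ n := by
    rintro ⟨e, he, he2⟩ g n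
    have he0 : (e : ℂ) ≠ 0 := by
      rw [Nat.cast_ne_zero]
      rintro rfl
      exact Subgroup.index_ne_zero_of_finite (he2.symm.trans (by ring))
    apply mul_left_cancel₀ he0
    have h1 := congrFun he ⟨g * n * g⁻¹, hN.conj_mem (n : G) n.2 g⟩
    have h2 := congrFun he n
    simp only [Pi.smul_apply, smul_eq_mul] at h1 h2
    rw [← h1, ← h2]
    exact hcl n g
  have hvan : ∀ e : ℕ, (fun n : N => χ n) = (e : ℂ) • ϑ →
      (e ^ 2 = N.index ↔ ∀ g : G, g ∉ N → χ g = 0) := by
    intro e he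
    have h := hsplit e he
    constructor
    · intro he2 g hg
      rw [← hidx, ← he2, Nat.cast_pow] at h
      have hs : ∑ g ∈ Finset.univ.filter (fun g : G => g ∉ N), Complex.normSq (χ g) = 0 := by
        have : ((∑ g ∈ Finset.univ.filter (fun g : G => g ∉ N), Complex.normSq (χ g) : ℝ) : ℂ) = 0 := by
          push_cast
          linear_combination -h
        exact_mod_cast this
      exact Complex.normSq_eq_zero.1 ((Finset.sum_eq_zero_iff_of_nonneg
        fun x _ => Complex.normSq_nonneg _).1 hs g (by simp [hg]))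
    · intro hz
      rw [Finset.sum_eq_zero fun g hg => by
        rw [hz g (Finset.mem_filter.1 hg).2, map_zero, Complex.ofReal_zero], add_zero, ← hidx] at h
      have := mul_right_cancel₀ hN0 h
      exact_mod_cast this.symm
  refine ⟨⟨fun hA => ⟨?_, hA_inv hA⟩, fun hB => ?_⟩, ⟨fun hA g n => ⟨hA_inv hA g n, ?_⟩, fun hC => ?_⟩⟩
  · obtain ⟨e, he, he2⟩ := hA
    exact (hvan e he).1 he2
  · exact ⟨k, hinv_iff hB.2, (hvan k (hinv_iff hB.2)).2 hB.1⟩
  all_goals
    have hnorm : (∀ (g : G) (n : N), ϑ ⟨g * n * g⁻¹, hN.conj_mem (n : G) n.2 g⟩ = ϑ n) →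
        (N.index : ℂ) = ∑ ψ : Cfsg.IrrCharacter G, Cfsg.classInner (Cfsg.indFun N ϑ) ψ *
          conj (Cfsg.classInner (Cfsg.indFun N ϑ) ψ) := by
      intro hinv
      have htop : inertia N ϑ = ⊤ := eq_top_iff.2 fun g _ => (mem_inertia_iff N).2 (hinv g)
      have h1 := classInner_ind_self N hϑ
      rw [htop, Subgroup.card_top, ← hidx, mul_div_assoc, div_self hN0, mul_one] at h1
      rw [← h1]
      conv_lhs => arg 1; rw [eq_sum_classInner (isClassFunction_ind N ϑ)]
      rw [inner_sum_left]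
      refine Finset.sum_congr rfl fun ψ _ => ?_
      rw [CharInduced.inner_smul_left, ← inner_conj_symm (Cfsg.indFun N ϑ) (ψ : G → ℂ)]
    have hcoef : Cfsg.classInner (Cfsg.indFun N ϑ) χ = (k : ℂ) := by
      rw [inner_ind_left N ϑ hcl, classInner_comm_of_isCharacter
        (isCharacter_of_isIrrCharacter hϑ) hresc, ← hm, hk']
    have hnat : ∀ ψ : Cfsg.IrrCharacter G, ∃ c : ℕ,
        Cfsg.classInner (Cfsg.indFun N ϑ) ψ = c :=
      fun ψ => coeff_nat (isCharacter_ind N (isCharacter_of_isIrrCharacter hϑ)) ψ.2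
    choose c hc using hnat
    have hcχ : c ⟨χ, hχ⟩ = k := by exact_mod_cast (hc ⟨χ, hχ⟩).symm.trans hcoef
    have hnorm' : (∀ (g : G) (n : N), ϑ ⟨g * n * g⁻¹, hN.conj_mem (n : G) n.2 g⟩ = ϑ n) →
        N.index = ∑ ψ, c ψ * c ψ := by
      intro hinv
      have := hnorm hinv
      simp only [hc, Complex.conj_natCast, ← Nat.cast_mul, ← Nat.cast_sum] at this
      exact_mod_cast this
  · intro ψ hψ hne
    by_contra hne'
    obtain ⟨e, he, he2⟩ := id hA
    have hek : e = k := by
      have h1 : m = (e : ℂ) := by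
        rw [hm, he, CharInduced.inner_smul_left, classInner_irr_self hϑ, mul_one]
      exact_mod_cast h1.symm.trans hk'
    have hsum := hnorm' (hA_inv hA)
    rw [← Finset.add_sum_erase _ _ (Finset.mem_univ (⟨χ, hχ⟩ : Cfsg.IrrCharacter G)), hcχ] at hsum
    have he2' : k * k = N.index := by rw [← he2, hek, pow_two]
    have h0 := (Nat.left_eq_add.mp (he2'.trans hsum))
    have := (Finset.sum_eq_zero_iff.1 h0) ⟨ψ, hψ⟩
      (Finset.mem_erase.2 ⟨fun h => hne' (congrArg Subtype.val h), Finset.mem_univ _⟩)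
    refine hne ((hc ⟨ψ, hψ⟩).trans ?_)
    rw [mul_self_eq_zero.1 this, Nat.cast_zero]
  · have hinv := fun g n => (hC g n).1
    refine ⟨k, hinv_iff hinv, ?_⟩
    rw [hnorm' hinv, Finset.sum_eq_single ⟨χ, hχ⟩, hcχ, pow_two]
    · intro φ _ hne
      by_contra h0
      refine hne (Subtype.ext ((hC 1 1).2 (φ : G → ℂ) φ.2 ?_))
      rw [hc φ]
      exact Nat.cast_ne_zero.2 fun h => h0 (by rw [h, zero_mul])
    · simp

end Cfsg.Agent.S0900
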