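import Cfsg.Statements.S0901
import Cfsg.Agent.Lib.BrauerBlocksVal

set_option autoImplicit false
open Cfsg Cfsg.Agent.BrauerBlocksVal Polynomial

namespace Cfsg.Agent.S0901

theorem exists_pow_sub_one_mem (p : ℕ) (M : Ideal Cfsg.AlgInt) (hM : Cfsg.IsPModular p M)
    (a : Cfsg.AlgInt) (ha : a ∉ M) : ∃ m : ℕ, ¬ p ∣ m ∧ a ^ m - 1 ∈ M := by
  have := hM.2.1
  have : Fact p.Prime := ⟨hM.1⟩
  let q : Cfsg.AlgInt →+* Cfsg.AlgInt ⧸ M := Ideal.Quotient.mk M
  let _ : Field (Cfsg.AlgInt ⧸ M) := Ideal.Quotient.field M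
  have hchar : CharP (Cfsg.AlgInt ⧸ M) p := (CharP.charP_iff_prime_eq_zero hM.1).2 (by
    rw [← map_natCast q]; exact Ideal.Quotient.eq_zero_iff_mem.2 hM.2.2)
  let _ : Algebra (ZMod p) (Cfsg.AlgInt ⧸ M) := ZMod.algebra _ p
  obtain ⟨f, hf, hfa⟩ := a.2
  have hint : IsIntegral (ZMod p) (q a) := by
    refine ⟨f.map (Int.castRingHom (ZMod p)), hf.map _, ?_⟩
    rw [eval₂_map, RingHom.ext_int ((algebraMap (ZMod p) _).comp (Int.castRingHom (ZMod p)))
      (q.comp (Int.castRingHom Cfsg.AlgInt)), ← hom_eval₂]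
    have : f.eval₂ (Int.castRingHom Cfsg.AlgInt) a = 0 := by
      refine Subtype.ext ?_
      have h1 := hom_eval₂ f (Int.castRingHom Cfsg.AlgInt) (Cfsg.AlgInt.val.toRingHom) a
      rw [RingHom.ext_int ((Cfsg.AlgInt.val.toRingHom).comp (Int.castRingHom Cfsg.AlgInt))
        (algebraMap ℤ ℂ)] at h1
      exact h1.trans hfa
    rw [this, map_zero]
  let K := Algebra.adjoin (ZMod p) ({q a} : Set (Cfsg.AlgInt ⧸ M))
  have hfg : Module.Finite (ZMod p) K := Module.Finite.of_fg hint.fg_adjoin_singleton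
  have : Finite K := Module.finite_of_finite (ZMod p)
  let x : K := ⟨q a, Algebra.subset_adjoin rfl⟩
  have hx : IsOfFinOrder x := by
    refine isOfFinOrder_iff_pow_eq_one.2 ?_
    obtain ⟨i, j, hij, hne⟩ : ∃ i j, i < j ∧ x ^ i = x ^ j := by
      obtain ⟨i, j, hne, h⟩ := Finite.exists_ne_map_eq_of_infinite (fun n : ℕ => x ^ n)
      rcases lt_or_gt_of_ne hne with hl | hl
      · exact ⟨i, j, hl, h⟩
      · exact ⟨j, i, hl, h.symm⟩
    refine ⟨j - i, by omega, ?_⟩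
    have hx0 : x ≠ 0 := fun e => ha (Ideal.Quotient.eq_zero_iff_mem.1 (congrArg Subtype.val e))
    refine mul_left_cancel₀ (pow_ne_zero i hx0) ?_
    rw [← pow_add, mul_one, Nat.add_sub_cancel' hij.le, hne]
  refine ⟨orderOf x, fun hd => ?_, ?_⟩
  · obtain ⟨c, hc⟩ := hd
    have hy : (x ^ c) ^ p = 1 := by rw [← pow_mul, mul_comm, ← hc, pow_orderOf_eq_one]
    have hy' : ((q a) ^ c - 1) ^ p = 0 := by
      rw [sub_pow_char, one_pow, sub_eq_zero]
      exact congrArg Subtype.val hy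
    have h1 : x ^ c = 1 := Subtype.ext (sub_eq_zero.1 (eq_zero_of_pow_eq_zero hy'))
    have hc0 : 0 < c := by
      rcases Nat.eq_zero_or_pos c with e | e
      · rw [e, mul_zero] at hc; exact absurd hc hx.orderOf_pos.ne'
      · exact e
    have h2 := Nat.le_of_dvd hc0 (orderOf_dvd_of_pow_eq_one h1)
    rw [hc] at h2
    nlinarith [hM.1.two_le]
  · refine Ideal.Quotient.eq_zero_iff_mem.1 ?_
    change q (a ^ orderOf x - 1) = 0
    rw [map_sub, map_pow, map_one, sub_eq_zero]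
    exact congrArg Subtype.val (pow_orderOf_eq_one x)

/-- Let M be a maximal ideal of the ring of algebraic integers containing the prime p, and let U be the set of complex roots of unity of order prime to p. Then reduction modulo M is injective on U, and every algebraic integer not in M is congruent modulo M to an element of U (so U maps bijectively onto the nonzero residues). -/
theorem result (p : ℕ) [Fact p.Prime] (M : Ideal Cfsg.AlgInt) (hM : Cfsg.IsPModular p M) : (∀ ε₁ ε₂ : Cfsg.AlgInt, (∃ m : ℕ, ¬ p ∣ m ∧ (ε₁ : ℂ) ^ m = 1) → (∃ m : ℕ, ¬ p ∣ m ∧ (ε₂ : ℂ) ^ m = 1) → ε₁ - ε₂ ∈ M → ε₁ = ε₂) ∧ (∀ a : Cfsg.AlgInt, a ∉ M → ∃ ε : Cfsg.AlgInt, (∃ m : ℕ, ¬ p ∣ m ∧ (ε : ℂ) ^ m = 1) ∧ a - ε ∈ M) := by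
  constructor
  · rintro ε₁ ε₂ ⟨m₁, hm₁, h₁⟩ ⟨m₂, hm₂, h₂⟩ h
    have hm : ¬ p ∣ m₁ * m₂ := fun hd => (hM.1.dvd_mul.1 hd).elim hm₁ hm₂
    have hm0 : m₁ * m₂ ≠ 0 := fun e => hm (e ▸ dvd_zero _)
    have e2 : (ε₂ : ℂ) ^ (m₁ * m₂) = 1 := by rw [mul_comm, pow_mul, h₂, one_pow]
    have hne : (ε₂ : ℂ) ≠ 0 := fun e => by simp [e, hm0] at e2
    have hη : ((ε₁ : ℂ) / ε₂) ^ (m₁ * m₂) = 1 := by
      rw [div_pow, pow_mul, h₁, one_pow, e2, div_one]
    have hu : ¬ Sm M (ε₂ : ℂ) := fun hs => by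
      have := hs.pow hm0
      rw [e2] at this
      exact not_sm_one this
    have hs : Sm M ((ε₁ : ℂ) / ε₂ - 1) := by
      have hh : (ε₁ : ℂ) / ε₂ - 1 = ((ε₁ : ℂ) - ε₂) * (ε₂ : ℂ)⁻¹ := by field_simp
      rw [hh]
      exact (by simpa using sm_coe_of_mem hM h : Sm M ((ε₁ : ℂ) - ε₂)).mul_right
        (int'_inv (int'_coe hM ε₂) hu)
    have := eq_one_of_pow_eq_one_of_sm hM hm hη hs
    rw [div_eq_one_iff_eq hne] at this
    exact Subtype.ext this
  · intro a ha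
    obtain ⟨m, hm, ham⟩ := exists_pow_sub_one_mem p M hM a ha
    have hm0 : NeZero m := ⟨fun e => hm (e ▸ dvd_zero _)⟩
    have hζ := Complex.isPrimitiveRoot_exp m hm0.out
    have hprod : Sm M (∏ ζ ∈ nthRootsFinset m (1 : ℂ), ((a : ℂ) - ζ)) := by
      have h1 := congrArg (Polynomial.eval (a : ℂ)) (X_pow_sub_one_eq_prod (NeZero.pos m) hζ)
      simp only [eval_sub, eval_pow, eval_X, eval_one, eval_prod, eval_C] at h1
      rw [← h1]
      simpa using sm_coe_of_mem hM ham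
    obtain ⟨ζ, hζm, hs⟩ := sm_prod_of_mem _ hprod
    rw [mem_nthRootsFinset (NeZero.pos m)] at hζm
    refine ⟨⟨ζ, IsIntegral.of_pow (NeZero.pos m) (by rw [hζm]; exact isIntegral_one)⟩,
      ⟨m, hm, hζm⟩, ?_⟩
    rw [← sm_coe_iff hM]
    simpa using hs

end Cfsg.Agent.S0901
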