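import Cfsg.Statements.S0903

set_option autoImplicit false
open Cfsg

namespace Cfsg.Agent.S0903

/-- Let P be a p-subgroup of the finite group G, let c centralize P and let g, h ∈ G. The number of pairs (x, y) with x conjugate to g, y conjugate to h and x * y = c is congruent modulo p to the number of such pairs in which x and y both centralize P. (This is why the Brauer map on class sums is multiplicative.) -/
theorem result {G : Type*} [Group G] [Finite G] (p : ℕ) [Fact p.Prime] (P : Subgroup G) (hP : IsPGroup p P) (c : G) (hc : c ∈ Subgroup.centralizer (P : Set G)) (g h : G) : Nat.card {xy : G × G // IsConj g xy.1 ∧ IsConj h xy.2 ∧ xy.1 * xy.2 = c} ≡ Nat.card {xy : G × G // IsConj g xy.1 ∧ IsConj h xy.2 ∧ xy.1 * xy.2 = c ∧ xy.1 ∈ Subgroup.centralizer (P : Set G) ∧ xy.2 ∈ Subgroup.centralizer (P : Set G)} [MOD p] := by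
  classical
  haveI := Fintype.ofFinite G
  set C := Subgroup.centralizer (P : Set G)
  let A := {xy : G × G // IsConj g xy.1 ∧ IsConj h xy.2 ∧ xy.1 * xy.2 = c}
  have hconj : ∀ (u : P) (a : A), IsConj g ((u : G) * a.1.1 * (u : G)⁻¹) ∧
      IsConj h ((u : G) * a.1.2 * (u : G)⁻¹) ∧
      ((u : G) * a.1.1 * (u : G)⁻¹) * ((u : G) * a.1.2 * (u : G)⁻¹) = c := by
    intro u a
    refine ⟨a.2.1.trans (isConj_iff.mpr ⟨u, rfl⟩), a.2.2.1.trans (isConj_iff.mpr ⟨u, rfl⟩), ?_⟩
    calc _ = (u : G) * (a.1.1 * a.1.2) * (u : G)⁻¹ := by group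
      _ = c := by rw [a.2.2.2, Subgroup.mem_centralizer_iff.mp hc u u.2, mul_inv_cancel_right]
  letI : MulAction P A :=
    { smul := fun u a => ⟨((u : G) * a.1.1 * (u : G)⁻¹, (u : G) * a.1.2 * (u : G)⁻¹), hconj u a⟩
      one_smul := fun a => Subtype.ext (Prod.ext (show ((1 : P) : G) * a.1.1 * ((1 : P) : G)⁻¹ = a.1.1 by simp) (show ((1 : P) : G) * a.1.2 * ((1 : P) : G)⁻¹ = a.1.2 by simp))
      mul_smul := fun u v a => Subtype.ext (Prod.ext
        (show ((u * v : P) : G) * a.1.1 * ((u * v : P) : G)⁻¹ = (u : G) * ((v : G) * a.1.1 * (v : G)⁻¹) * (u : G)⁻¹ by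
          simp [mul_assoc])
        (show ((u * v : P) : G) * a.1.2 * ((u * v : P) : G)⁻¹ = (u : G) * ((v : G) * a.1.2 * (v : G)⁻¹) * (u : G)⁻¹ by
          simp [mul_assoc])) }
  refine (hP.card_modEq_card_fixedPoints A).trans (congrArg (· % p) ?_)
  refine Nat.card_congr
    { toFun := fun a => ⟨a.1.1, a.1.2.1, a.1.2.2.1, a.1.2.2.2, ?_, ?_⟩
      invFun := fun xy => ⟨⟨xy.1, xy.2.1, xy.2.2.1, xy.2.2.2.1⟩, fun u => Subtype.ext (Prod.ext ?_ ?_)⟩
      left_inv := fun a => rfl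
      right_inv := fun xy => rfl }
  · refine Subgroup.mem_centralizer_iff.mpr fun u hu => ?_
    exact mul_inv_eq_iff_eq_mul.mp (congrArg (fun a : A => a.1.1) (a.2 ⟨u, hu⟩))
  · refine Subgroup.mem_centralizer_iff.mpr fun u hu => ?_
    exact mul_inv_eq_iff_eq_mul.mp (congrArg (fun a : A => a.1.2) (a.2 ⟨u, hu⟩))
  · exact mul_inv_eq_iff_eq_mul.mpr (Subgroup.mem_centralizer_iff.mp xy.2.2.2.2.1 u u.2)
  · exact mul_inv_eq_iff_eq_mul.mpr (Subgroup.mem_centralizer_iff.mp xy.2.2.2.2.2 u u.2)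

end Cfsg.Agent.S0903
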