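import Cfsg.Statements.S0910
import Cfsg.Agent.Lib.BlockTheoryLocalRing
import Cfsg.Agent.Lib.CharInducedBurnside

set_option autoImplicit false
open Cfsg

namespace Cfsg.Agent.S0910

/-- Let G be a non-abelian finite simple group and p a prime. If an irreducible character χ lies in the principal block (relative to a maximal ideal of the algebraic integers containing p) and χ 1 is a power of p, then χ is the principal character. -/
theorem result {G : Type*} [Group G] [Finite G] (p : ℕ) [Fact p.Prime] (M : Ideal Cfsg.AlgInt) (hM : Cfsg.IsPModular p M) [IsSimpleGroup G] (hna : ∃ a b : G, a * b ≠ b * a) (χ : Cfsg.IrrCharacter G) (hχ : χ ∈ Cfsg.principalBlock M G) (k : ℕ) (hdeg : (χ : G → ℂ) 1 = (p : ℂ) ^ k) : (χ : G → ℂ) = fun _ => 1 := by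
  classical
  by_contra hne
  obtain ⟨n, ρ, hρ, hch⟩ := χ.2
  haveI := hρ
  obtain ⟨P⟩ : Nonempty (Sylow p G) := inferInstance
  obtain ⟨x, hx1, hxP⟩ : ∃ x : G, x ≠ 1 ∧
      (P : Subgroup G) ≤ Subgroup.centralizer ({x} : Set G) := by
    by_cases hP : (P : Subgroup G) = ⊥
    · obtain ⟨x, hx⟩ := exists_ne (1 : G)
      exact ⟨x, hx, by rw [hP]; exact bot_le⟩
    · haveI : Nontrivial (P : Subgroup G) := (Subgroup.nontrivial_iff_ne_bot _).2 hP
      haveI := (P.isPGroup' : IsPGroup p (P : Subgroup G)).center_nontrivial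
      obtain ⟨z, hz⟩ := exists_ne (1 : Subgroup.center (P : Subgroup G))
      refine ⟨((z : (P : Subgroup G)) : G), fun h => hz (Subtype.ext (Subtype.ext h)), ?_⟩
      intro y hy
      rw [Subgroup.mem_centralizer_singleton_iff]
      exact congrArg Subtype.val (Subgroup.mem_center_iff.1 z.2 ⟨y, hy⟩)
  have hnd : ¬ p ∣ (Subgroup.centralizer ({x} : Set G)).index := fun h =>
    P.not_dvd_index (h.trans (Subgroup.index_dvd_of_le hxP))
  have hd : (Module.finrank ℂ (Fin n → ℂ) : ℂ) = (p : ℂ) ^ k := by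
    rw [← hdeg, ← hch, Representation.char_one]
  have hd' : Module.finrank ℂ (Fin n → ℂ) = p ^ k := by exact_mod_cast hd
  have hcop : Nat.Coprime (Module.finrank ℂ (Fin n → ℂ))
      (Subgroup.centralizer ({x} : Set G)).index := by
    rw [hd']
    exact Nat.Coprime.pow_left k (((Fact.out : p.Prime).coprime_iff_not_dvd).2 hnd)
  have hna' : ¬ ∀ a b : G, a * b = b * a := fun h => hna.elim fun a ⟨b, hab⟩ => hab (h a b)
  have hzero : (χ : G → ℂ) x = 0 := by
    rw [← hch]
    exact (CharInduced.character_eq_zero_or_norm_eq ρ x hcop).resolve_right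
      (CharInduced.not_norm_eq_of_simple hna' ρ (fun h => hne (hch ▸ h)) x hx1)
  have hB : SameBlock M (fun _ : G => (1 : ℂ)) (χ : G → ℂ) := hχ
  have h := hB x
  simp only [centralChar, hzero, mul_zero, zero_div, sub_zero, mul_one, div_one] at h
  exact hnd ((BlockTheoryLocalRing.natCast_mem_iff hM).1 h)

end Cfsg.Agent.S0910
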