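import Cfsg.Statements.S0904
import Cfsg.Agent.S0165
import Cfsg.Agent.S0910
import Cfsg.Agent.Lib.BrauerBlocksOrth
import Cfsg.Agent.Lib.BrauerBlocksRegFun
import Cfsg.Agent.Lib.BlockPrincipal81
import Cfsg.Agent.Lib.BlockTheoryIdem

set_option autoImplicit false
open Cfsg

namespace Cfsg.Agent.S0904
open scoped ComplexConjugate

universe u

theorem no_mixed_element {G : Type u} [Group G] [Finite G] [IsSimpleGroup G] {p q r a b : ℕ}
    (hp : p.Prime) (hq : q.Prime) (hr : r.Prime) (hpq : p ≠ q) (hpr : p ≠ r) (hqr : q ≠ r)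
    (hcard : Nat.card G = p ^ a * q ^ b * r) (z : G) (hzp : p ∣ orderOf z) (hzr : r ∣ orderOf z) :
    False := by
  classical
  haveI := Fintype.ofFinite G
  haveI := Fact.mk hp
  have hna : ∃ a b : G, a * b ≠ b * a := by
    by_contra h
    push Not at h
    have hpr' : p * r ∣ Nat.card G :=
      (Nat.Coprime.mul_dvd_of_dvd_of_dvd ((Nat.coprime_primes hp hr).2 hpr) hzp hzr).trans
        (orderOf_dvd_natCard z)
    rcases (Nat.dvd_prime (CharInduced.prime_card_of_simple_comm h)).1 hpr' with h1 | h1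
    · exact hp.ne_one (Nat.eq_one_of_mul_eq_one_right h1)
    · exact (Nat.not_prime_mul hp.ne_one hr.ne_one) (h1 ▸ CharInduced.prime_card_of_simple_comm h)
  obtain ⟨M, hM⟩ := BrauerBlocksRegFun.exists_isPModular hp
  set one : IrrCharacter G := BlockPrincipal81.oneChar G
  have hB : IsPBlock M (principalBlock M G) := ⟨one, rfl⟩
  have hone : one ∈ principalBlock M G := BlockTheoryIdem.self_mem_blockOf hM one
  have h0 := BrauerBlocksOrth.orth_regular_singular hM hB (x := (1 : G)) (y := z)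
    (by rw [orderOf_one]; exact hp.not_dvd_one) hzp
  rw [BlockTheoryIdem.finsum_mem_eq_sum, ← Finset.add_sum_erase _ _ (Finset.mem_univ one),
    if_pos hone] at h0
  have hterm : ∀ χ ∈ Finset.univ.erase one, ∃ w : ℂ, IsIntegral ℤ w ∧
      (if χ ∈ principalBlock M G then (χ : G → ℂ) 1 * conj ((χ : G → ℂ) z) else 0) = (q : ℂ) * w := by
    intro χ hχ
    by_cases hmem : χ ∈ principalBlock M G
    swap
    · exact ⟨0, isIntegral_zero, by rw [if_neg hmem, mul_zero]⟩
    rw [if_pos hmem]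
    obtain ⟨n, hn0, hn, hndvd⟩ := CharBasicInt.exists_apply_one_dvd_card χ.2
    by_cases hqn : q ∣ n
    · obtain ⟨c, rfl⟩ := hqn
      refine ⟨(c : ℂ) * (χ : G → ℂ) z⁻¹, (isIntegral_algebraMap (x := (c : ℤ))).mul
        (CharBasic.isCharacter_integral (CharBasic.isCharacter_of_isIrrCharacter χ.2) _), ?_⟩
      rw [hn, BlockTheoryCentre.irr_inv]
      push_cast
      ring
    refine ⟨0, isIntegral_zero, ?_⟩
    suffices (χ : G → ℂ) z = 0 by rw [this, map_zero, mul_zero, mul_zero]
    by_cases hrn : r ∣ n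
    · obtain ⟨m, ρ, hρ, hch⟩ := χ.2
      haveI := hρ
      have hm : Module.finrank ℂ (Fin m → ℂ) = n := by
        rw [← hch, Representation.char_one] at hn
        exact_mod_cast hn
      rw [← hch]
      refine Cfsg.Agent.S0165.result ρ r 1 hr (by rw [pow_one, hcard]; exact dvd_mul_left r _) ?_
        (by rw [pow_one, hm]; exact hrn) z hzr
      rw [hcard, pow_two]
      intro h
      rcases hr.dvd_mul.1 (Nat.dvd_of_mul_dvd_mul_right hr.pos h) with h | h
      · exact hpr ((Nat.prime_dvd_prime_iff_eq hr hp).1 (hr.dvd_of_dvd_pow h)).symm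
      · exact hqr ((Nat.prime_dvd_prime_iff_eq hr hq).1 (hr.dvd_of_dvd_pow h)).symm
    exfalso
    have hnp : n ∣ p ^ a := by
      have h1 : Nat.Coprime n (q ^ b * r) := Nat.Coprime.mul_right
        (Nat.Coprime.pow_right b ((hq.coprime_iff_not_dvd.2 hqn).symm))
        ((hr.coprime_iff_not_dvd.2 hrn).symm)
      refine h1.dvd_of_dvd_mul_right ?_
      rw [← mul_assoc, ← hcard]
      exact hndvd
    obtain ⟨k, -, rfl⟩ := (Nat.dvd_prime_pow hp).1 hnp
    exact (Finset.mem_erase.1 hχ).1 (Subtype.ext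
      (Cfsg.Agent.S0910.result p M hM hna χ hmem k (by rw [hn]; push_cast; rfl)))
  choose! w hw hw' using hterm
  rw [Finset.sum_congr rfl hw', ← Finset.mul_sum] at h0
  have h1 : ((one : G → ℂ) 1) * conj ((one : G → ℂ) z) = 1 := by
    show (1 : ℂ) * conj (1 : ℂ) = 1
    rw [map_one, one_mul]
  rw [h1] at h0
  have hint : IsIntegral ℤ (∑ χ ∈ Finset.univ.erase one, w χ) := IsIntegral.sum _ hw
  have hqinv : (((1 : ℕ) : ℂ) / (q : ℕ)) = - ∑ χ ∈ Finset.univ.erase one, w χ := by
    rw [Nat.cast_one, div_eq_iff (Nat.cast_ne_zero.2 hq.ne_zero)]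
    linear_combination h0
  exact hq.not_dvd_one (CharBasicInt.dvd_of_isIntegral_div hq.ne_zero (hqinv ▸ hint.neg))



/-- Let G be a finite simple group of order p ^ a * q ^ b * r with p, q, r distinct primes. Then every Sylow r-subgroup S of G satisfies C_G(S) = S. -/
theorem result {G : Type*} [Group G] [Finite G] [IsSimpleGroup G] (p q r a b : ℕ) (hp : p.Prime) (hq : q.Prime) [Fact r.Prime] (hpq : p ≠ q) (hpr : p ≠ r) (hqr : q ≠ r) (hcard : Nat.card G = p ^ a * q ^ b * r) (S : Sylow r G) : Subgroup.centralizer (S : Set G) = (S : Subgroup G) := by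
  have hr : r.Prime := Fact.out
  have hnot : ¬ r ∣ p ^ a * q ^ b := fun h => by
    rcases hr.dvd_mul.1 h with h | h
    · exact hpr ((Nat.prime_dvd_prime_iff_eq hr hp).1 (hr.dvd_of_dvd_pow h)).symm
    · exact hqr ((Nat.prime_dvd_prime_iff_eq hr hq).1 (hr.dvd_of_dvd_pow h)).symm
  have hS : Nat.card S = r := by
    have h1 : (Nat.card G).factorization r = 1 := by
      rw [hcard, Nat.factorization_mul (left_ne_zero_of_mul (hcard ▸ Nat.card_pos.ne' :
          p ^ a * q ^ b * r ≠ 0)) hr.ne_zero, Finsupp.add_apply,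
        Nat.factorization_eq_zero_of_not_dvd hnot, hr.factorization_self]
    rw [S.card_eq_multiplicity, h1, pow_one]
  haveI : IsCyclic (S : Subgroup G) := isCyclic_of_prime_card hS
  have hle : (S : Subgroup G) ≤ Subgroup.centralizer ((S : Subgroup G) : Set G) := fun x hx =>
    Subgroup.mem_centralizer_iff.2 fun y hy => congrArg Subtype.val
      (IsCyclic.isMulCommutative.is_comm.comm (⟨y, hy⟩ : (S : Subgroup G)) ⟨x, hx⟩)
  refine le_antisymm ?_ hle
  by_contra hnle
  have hlt : (S : Subgroup G) < Subgroup.centralizer ((S : Subgroup G) : Set G) :=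
    lt_of_le_not_ge hle hnle
  obtain ⟨m, hm⟩ := Subgroup.card_dvd_of_le hle
  rw [hS] at hm
  have hm1 : m ≠ 1 := by
    rintro rfl
    exact hlt.ne (Subgroup.eq_of_le_of_card_ge hle (by rw [hm, mul_one, hS]))
  obtain ⟨s, hs, hsm⟩ := Nat.exists_prime_and_dvd hm1
  have hmdvd : m ∣ p ^ a * q ^ b := by
    have h1 := Subgroup.card_subgroup_dvd_card
      (Subgroup.centralizer ((S : Subgroup G) : Set G))
    rw [hm, hcard, mul_comm (p ^ a * q ^ b) r] at h1
    exact Nat.dvd_of_mul_dvd_mul_left hr.pos h1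
  haveI := Fact.mk hs
  obtain ⟨y, hy⟩ := exists_prime_orderOf_dvd_card' (G := Subgroup.centralizer ((S : Subgroup G) : Set G))
    s (hm ▸ dvd_mul_of_dvd_right hsm r)
  obtain ⟨x, hx⟩ := exists_prime_orderOf_dvd_card' (G := (S : Subgroup G)) r (dvd_of_eq hS.symm)
  have hsr : Nat.Coprime r s := (Nat.coprime_primes hr hs).2 fun h =>
    hnot (h ▸ hsm.trans hmdvd)
  have hcomm : Commute (x : G) (y : G) := Subgroup.mem_centralizer_iff.1 y.2 x x.2
  have hord : orderOf ((x : G) * y) = r * s := by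
    rw [hcomm.orderOf_mul_eq_mul_orderOf_of_coprime (by rwa [Subgroup.orderOf_coe,
      Subgroup.orderOf_coe, hx, hy]), Subgroup.orderOf_coe, Subgroup.orderOf_coe, hx, hy]
  rcases hs.dvd_mul.1 (hsm.trans hmdvd) with h | h
  · have e := (Nat.prime_dvd_prime_iff_eq hs hp).1 (hs.dvd_of_dvd_pow h)
    exact no_mixed_element hp hq hr hpq hpr hqr hcard ((x : G) * y)
      (hord ▸ e ▸ dvd_mul_left s r) (hord ▸ dvd_mul_right r s)
  · have e := (Nat.prime_dvd_prime_iff_eq hs hq).1 (hs.dvd_of_dvd_pow h)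
    exact no_mixed_element (a := b) (b := a) hq hp hr hpq.symm hqr hpr (by rw [hcard]; ring) ((x : G) * y)
      (hord ▸ e ▸ dvd_mul_left s r) (hord ▸ dvd_mul_right r s)

end Cfsg.Agent.S0904
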