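import Cfsg.Statements.S0905
import Cfsg.Agent.Lib.BlockTheoryNilp
import Cfsg.Agent.Lib.HallCore

set_option autoImplicit false
open Cfsg

namespace Cfsg.Agent.S0905

/-- Let F be a field of characteristic p and let g be an element of the finite group G no conjugate of which centralizes O_p(G). Then the class sum of g is a nilpotent element of the group algebra F[G]. -/
theorem result {G : Type*} [Group G] [Finite G] (p : ℕ) [Fact p.Prime] (F : Type*) [Field F] [CharP F p] (g : G) (hg : ∀ x : G, IsConj g x → x ∉ Subgroup.centralizer (Cfsg.pCore p G : Set G)) : IsNilpotent (∑ᶠ x ∈ ConjClasses.carrier (ConjClasses.mk g), MonoidAlgebra.single x (1 : F) : MonoidAlgebra F G) := by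
  classical
  haveI := Fintype.ofFinite G
  haveI := Cfsg.Agent.HallCore.pCore_normal p G
  set P := Cfsg.pCore p G
  refine BlockTheoryNilp.isNilpotent_of_map_eq_zero P (Cfsg.Agent.HallCore.isPGroup_pCore p G) _ ?_
  rw [finsum_mem_eq_finite_toFinset_sum _ (Set.toFinite _),
    show (Set.toFinite (ConjClasses.mk g).carrier).toFinset = Finset.univ.filter (IsConj g) by
      ext x
      simp [ConjClasses.mem_carrier_iff_mk_eq, eq_comm (a := ConjClasses.mk x),
        ConjClasses.mk_eq_mk_iff_isConj]]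
  refine MonoidAlgebra.ext ?_
  ext q
  simp only [map_sum, MonoidAlgebra.mapDomainRingHom_apply, MonoidAlgebra.mapDomain_single,
    MonoidAlgebra.coeff_sum, Finset.sum_apply', MonoidAlgebra.coeff_single,
    Finsupp.single_apply, MonoidAlgebra.coeff_zero, Finsupp.coe_zero, Pi.zero_apply]
  rw [← Finset.sum_filter, Finset.sum_const, nsmul_one, CharP.cast_eq_zero_iff F p,
    Finset.filter_filter]
  set X := Finset.univ.filter fun x => IsConj g x ∧ (QuotientGroup.mk' P x) = q
  have hmem : ∀ u : ↥(P.map (ConjAct.toConjAct : G ≃* ConjAct G).toMonoidHom), ∀ x ∈ X,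
      (u : ConjAct G) • x ∈ X := by
    rintro ⟨v, hv⟩ x hx
    obtain ⟨u, hu, rfl⟩ := Subgroup.mem_map.mp hv
    have hu' : QuotientGroup.mk' P u = 1 := (QuotientGroup.eq_one_iff u).mpr hu
    have hx' := (Finset.mem_filter.mp hx).2
    refine Finset.mem_filter.mpr ⟨Finset.mem_univ _, ?_, ?_⟩
    · exact hx'.1.trans (isConj_iff.mpr ⟨u, rfl⟩)
    · rw [ConjAct.smul_def]
      change QuotientGroup.mk' P (u * x * u⁻¹) = q
      rw [map_mul, map_mul, map_inv, hu', hx'.2]; simp
  letI : MulAction ↥(P.map (ConjAct.toConjAct : G ≃* ConjAct G).toMonoidHom) X :=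
    { smul := fun u x => ⟨(u : ConjAct G) • (x : G), hmem u x x.2⟩
      one_smul := fun x => Subtype.ext (one_smul (ConjAct G) (x : G))
      mul_smul := fun a b x => Subtype.ext (mul_smul (a : ConjAct G) (b : ConjAct G) (x : G)) }
  rw [← Nat.card_eq_finsetCard, ← Nat.modEq_zero_iff_dvd]
  refine ((Cfsg.Agent.HallCore.isPGroup_pCore p G).map
    (ConjAct.toConjAct : G ≃* ConjAct G).toMonoidHom).card_modEq_card_fixedPoints X |>.trans ?_
  rw [Nat.modEq_zero_iff_dvd]
  suffices h : IsEmpty (MulAction.fixedPoints (P.map (ConjAct.toConjAct : G ≃* ConjAct G).toMonoidHom) X) by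
    rw [Nat.card_of_isEmpty]; exact dvd_zero p
  refine ⟨fun ⟨⟨x, hx⟩, hfix⟩ => hg x (Finset.mem_filter.mp hx).2.1
    (Subgroup.mem_centralizer_iff.mpr fun u hu => ?_)⟩
  have := congrArg Subtype.val (hfix ⟨ConjAct.toConjAct u, Subgroup.mem_map_of_mem _ hu⟩)
  change u * x * u⁻¹ = x at this
  exact mul_inv_eq_iff_eq_mul.mp this

end Cfsg.Agent.S0905
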