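import Cfsg.Statements.S0906
import Cfsg.Agent.Lib.BrauerBlocksOrth

set_option autoImplicit false
open Cfsg Cfsg.Agent.BrauerBlocksVal Cfsg.Agent.BrauerBlocksCentral Cfsg.Agent.BrauerBlocksBasic Cfsg.Agent.BrauerBlocksPPart Cfsg.Agent.BrauerBlocksPerm Cfsg.Agent.BrauerBlocksOrth Cfsg.Agent.CharBasic Cfsg.Agent.CharBasicOrth
open scoped ComplexConjugate

namespace Cfsg.Agent.S0906

/-- Let B be a block of the finite group G relative to a maximal ideal M of the algebraic integers containing the prime p. Then some element g represents a defect class of B: the idempotent coefficient of B at g is a local integer not in the local ideal at M, and the central characters of the members of B at g are not in the local ideal. -/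
theorem result {G : Type*} [Group G] [Finite G] (p : ℕ) [Fact p.Prime] (M : Ideal Cfsg.AlgInt) (hM : Cfsg.IsPModular p M) (B : Set (Cfsg.IrrCharacter G)) (hB : Cfsg.IsPBlock M B) : ∃ g : G, Cfsg.IsDefectClass M B g := by
  classical
  have := Fintype.ofFinite G
  have := Fintype.ofFinite (ConjClasses G)
  obtain ⟨χ, hχ⟩ := block_nonempty hM hB
  by_contra hc
  push Not at hc
  have hz := zr_idem hM hB
  have h1 := om_eq_sum_classes (classFun_irr χ) hz.isC
  rw [om_idem, if_pos hχ] at h1
  have h2 : Sm M (1 : ℂ) := by
    rw [h1]
    refine sm_sum _ fun C _ => ?_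
    by_contra hn
    rw [coeff_idem] at hn
    have hI := int'_blockCoeff hM hB C.out
    have hw := int'_centralChar hM χ C.out
    refine hc C.out ⟨memLocalRing_blockCoeff hM hB _, fun h => hn ((sm_of_memLocalIdeal hM h).mul_right hw), fun ψ hψ h => hn ?_⟩
    refine Sm.mul_left ((sm_iff_of_sub ?_).2 (sm_of_memLocalIdeal hM h)) hI
    exact (sameBlock_iff hM χ ψ).1 (block_sameBlock hM hB hχ hψ) _
  exact not_sm_one h2

end Cfsg.Agent.S0906
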