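import Cfsg.Statements.S0915
import Cfsg.Agent.Lib.BlockNormalP81
import Cfsg.Agent.Lib.HallSolvable
import Cfsg.Agent.Lib.HallCore

set_option autoImplicit false
open Cfsg

namespace Cfsg.Agent.S0915

/-- Let G be a finite p-solvable group with trivial largest normal subgroup of order prime to p. Then any two irreducible characters of G lie in the same block relative to every maximal ideal M of the algebraic integers containing p: G has a single p-block. -/
theorem result {G : Type*} [Group G] [Finite G] (p : ℕ) [Fact p.Prime] (M : Ideal Cfsg.AlgInt) (hM : Cfsg.IsPModular p M) (hsolv : Cfsg.IsPSolvable p G) (hcore : Cfsg.pPrimeCore p G = ⊥) (χ ψ : Cfsg.IrrCharacter G) : Cfsg.SameBlock M (χ : G → ℂ) (ψ : G → ℂ) := by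
  classical
  haveI := Fintype.ofFinite G
  haveI := HallCore.pCore_normal p G
  set B := Cfsg.blockOf M (χ : G → ℂ) with hBdef
  have hB : Cfsg.IsPBlock M B := BlockTheoryIdem.isPBlock_blockOf χ
  have hne := BlockPrincipal81.blockCoeff_one_ne_zero (BlockTheoryIdem.block_nonempty hM hB)
  have hzero : ∀ x : G, x ≠ 1 → Cfsg.blockCoeff B x = 0 := by
    intro x hx
    by_cases hreg : p ∣ orderOf x
    · exact BlockTheoryIdem.blockCoeff_eq_zero_of_dvd hM hB hreg
    refine BlockNormalP81.blockCoeff_eq_zero hM (Cfsg.pCore p G) (HallCore.isPGroup_pCore p G) hB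
      fun hxC => ?_
    obtain ⟨k, hk⟩ := IsPGroup.iff_orderOf.mp (HallCore.isPGroup_pCore p G)
      ⟨x, HallSolvable.centralizer_pCore_le hsolv hcore hxC⟩
    rw [Subgroup.orderOf_mk] at hk
    rcases k with _ | k
    · exact hx (orderOf_eq_one_iff.mp (hk.trans (pow_zero p)))
    · exact hreg (hk ▸ dvd_pow_self p (Nat.succ_ne_zero k))
  set c := Cfsg.blockCoeff B 1 with hc
  have he : BlockTheoryCentre.idem B = c • 1 := by
    refine MonoidAlgebra.ext ?_
    ext x
    rw [MonoidAlgebra.coeff_smul_apply, BlockTheoryCentre.coeff_idem, smul_eq_mul,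
      MonoidAlgebra.one_def, MonoidAlgebra.coeff_single, Finsupp.single_apply]
    by_cases hx : x = 1
    · rw [hx, if_pos rfl, mul_one]
    · rw [if_neg (Ne.symm hx), mul_zero, hzero x hx]
  have h1 := BlockTheoryCentre.omega_idem B χ
  rw [he, map_smul, BlockTheoryCentre.omega_one, smul_eq_mul, mul_one,
    if_pos (BlockTheoryIdem.self_mem_blockOf hM χ)] at h1
  have h2 := BlockTheoryCentre.omega_idem B ψ
  rw [he, map_smul, BlockTheoryCentre.omega_one, smul_eq_mul, mul_one, h1] at h2
  by_contra hψ
  rw [if_neg (show ψ ∉ B from hψ)] at h2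
  exact one_ne_zero h2

end Cfsg.Agent.S0915
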