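import Cfsg.Statements.S0916

set_option autoImplicit false
open Cfsg

namespace Cfsg.Agent.S0916
open Pointwise

theorem card_subgroupOf {G : Type*} [Group G] {H K : Subgroup G} (h : H ≤ K) :
    Nat.card (H.subgroupOf K) = Nat.card H :=
  Nat.card_congr (Subgroup.subgroupOfEquivOfLe h).toEquiv

theorem card_eq_of_map {G : Type*} [Group G] {K : Subgroup G} {P : Subgroup G} (S : Subgroup K)
    (h : S.map K.subtype = P) : Nat.card P = Nat.card S := by
  rw [← h]
  exact (Nat.card_congr (S.equivMapOfInjective K.subtype Subtype.val_injective).toEquiv).symm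

theorem le_of_map {G : Type*} [Group G] {K : Subgroup G} {P : Subgroup G} (S : Subgroup K)
    (h : S.map K.subtype = P) : P ≤ K := by
  rw [← h]
  exact Subgroup.map_subtype_le S

theorem le_centralizer_singleton {G : Type*} [Group G] {P : Subgroup G} {c : G}
    (hc : c ∈ Subgroup.centralizer (P : Set G)) : P ≤ Subgroup.centralizer ({c} : Set G) := by
  intro z hz
  rw [Subgroup.mem_centralizer_singleton_iff]
  exact Subgroup.mem_centralizer_iff.mp hc z hz



/-- Let P be a p-subgroup of the finite group G, C its centralizer and N its normalizer. Say that a conjugacy class (of G, or of N) has defect group P when P is a Sylow p-subgroup of the centralizer (in G, respectively in N) of some element of the class. Then: (i) if the class of g in G has defect group P, the elements of that class lying in C form a single N-class, again with defect group P; (ii) every N-class with defect group P arises this way from exactly one G-class with defect group P. -/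
theorem result {G : Type*} [Group G] [Finite G] (p : ℕ) [Fact p.Prime] (P : Subgroup G) (hP : IsPGroup p P) : (∀ g : G, (∃ S : Sylow p (Subgroup.centralizer ({g} : Set G)), (S : Subgroup (Subgroup.centralizer ({g} : Set G))).map (Subgroup.centralizer ({g} : Set G)).subtype = P) → (∃ c : G, IsConj g c ∧ c ∈ Subgroup.centralizer (P : Set G)) ∧ (∀ c₁ c₂ : G, IsConj g c₁ → IsConj g c₂ → c₁ ∈ Subgroup.centralizer (P : Set G) → c₂ ∈ Subgroup.centralizer (P : Set G) → ∃ n ∈ Subgroup.normalizer (P : Set G), n * c₁ * n⁻¹ = c₂)) ∧ (∀ c : G, c ∈ Subgroup.centralizer (P : Set G) → (∃ S : Sylow p (Subgroup.centralizer ({c} : Set G) ⊓ Subgroup.normalizer (P : Set G) : Subgroup G), (S : Subgroup ↥(Subgroup.centralizer ({c} : Set G) ⊓ Subgroup.normalizer (P : Set G))).map (Subgroup.centralizer ({c} : Set G) ⊓ Subgroup.normalizer (P : Set G)).subtype = P) → ∃ S : Sylow p (Subgroup.centralizer ({c} : Set G)), (S : Subgroup (Subgroup.centralizer ({c} : Set G))).map (Subgroup.centralizer ({c} : Set G)).subtype = P) := by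
  refine ⟨?_, ?_⟩
  · rintro g ⟨S, hS⟩
    refine ⟨⟨g, IsConj.refl g, ?_⟩, ?_⟩
    · refine Subgroup.mem_centralizer_iff.mpr fun z hz => ?_
      have := le_of_map _ hS hz
      rw [Subgroup.mem_centralizer_singleton_iff] at this
      exact this
    intro c₁ c₂ h1 h2 hc₁ hc₂
    obtain ⟨x, hx⟩ := isConj_iff.mp (h1.symm.trans h2)
    obtain ⟨w, hw⟩ := isConj_iff.mp h2
    set C := Subgroup.centralizer ({c₂} : Set G) with hC
    have hcardC : Nat.card C = Nat.card (Subgroup.centralizer ({g} : Set G)) := by
      have e : C = (Subgroup.centralizer ({g} : Set G)).map (MulAut.conj w).toMonoidHom := by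
        ext u
        rw [Subgroup.mem_map_equiv, hC, Subgroup.mem_centralizer_singleton_iff,
          Subgroup.mem_centralizer_singleton_iff, MulAut.conj_symm_apply, ← hw]
        constructor
        · intro h
          calc w⁻¹ * u * w * g = w⁻¹ * (u * (w * g * w⁻¹)) * w := by group
            _ = w⁻¹ * ((w * g * w⁻¹) * u) * w := by rw [h]
            _ = g * (w⁻¹ * u * w) := by group
        · intro h
          calc u * (w * g * w⁻¹) = w * ((w⁻¹ * u * w) * g) * w⁻¹ := by group
            _ = w * (g * (w⁻¹ * u * w)) * w⁻¹ := by rw [h]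
            _ = (w * g * w⁻¹) * u := by group
      rw [e]
      exact (Nat.card_congr ((Subgroup.centralizer ({g} : Set G)).equivMapOfInjective _
        (MulAut.conj w).injective).toEquiv).symm
    have hPmax : Nat.card P = p ^ (Nat.card C).factorization p := by
      rw [card_eq_of_map _ hS, hcardC]
      exact S.card_eq_multiplicity
    set Q := P.map (MulAut.conj x).toMonoidHom with hQ
    have hQc : Nat.card Q = Nat.card P :=
      (Nat.card_congr (P.equivMapOfInjective _ (MulAut.conj x).injective).toEquiv).symm
    have hQC : Q ≤ C := by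
      rintro _ ⟨z, hz, rfl⟩
      rw [hC, Subgroup.mem_centralizer_singleton_iff, ← hx]
      have h := Subgroup.mem_centralizer_iff.mp hc₁ z hz
      show x * z * x⁻¹ * (x * c₁ * x⁻¹) = x * c₁ * x⁻¹ * (x * z * x⁻¹)
      calc x * z * x⁻¹ * (x * c₁ * x⁻¹) = x * (z * c₁) * x⁻¹ := by group
        _ = x * (c₁ * z) * x⁻¹ := by rw [h]
        _ = _ := by group
    have hPC : P ≤ C := le_centralizer_singleton hc₂
    let S1 : Sylow p C := Sylow.ofCard (P.subgroupOf C) ((card_subgroupOf hPC).trans hPmax)
    let S2 : Sylow p C := Sylow.ofCard (Q.subgroupOf C) ((card_subgroupOf hQC).trans (hQc.trans hPmax))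
    obtain ⟨y, hy⟩ := MulAction.exists_smul_eq C S2 S1
    have hy' : MulAut.conj y • Q.subgroupOf C = P.subgroupOf C := congrArg Sylow.toSubgroup hy
    refine ⟨(y : G) * x, ?_, ?_⟩
    · have hle : P.map (MulAut.conj ((y : G) * x)).toMonoidHom ≤ P := by
        rintro _ ⟨z, hz, rfl⟩
        have hzQ : x * z * x⁻¹ ∈ Q := ⟨z, hz, rfl⟩
        have hm : (MulAut.conj y) (⟨x * z * x⁻¹, hQC hzQ⟩ : C) ∈ P.subgroupOf C := by
          rw [← hy']
          exact Subgroup.smul_mem_pointwise_smul _ _ _ hzQ
        show (y : G) * x * z * ((y : G) * x)⁻¹ ∈ P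
        have e : (y : G) * x * z * ((y : G) * x)⁻¹ =
            ((MulAut.conj y) (⟨x * z * x⁻¹, hQC hzQ⟩ : C) : G) := by
          simp [mul_assoc]
        rw [e]
        exact hm
      have heq : P.map (MulAut.conj ((y : G) * x)).toMonoidHom = P :=
        Subgroup.eq_of_le_of_card_ge hle (le_of_eq (Nat.card_congr
          (P.equivMapOfInjective _ (MulAut.conj ((y : G) * x)).injective).toEquiv))
      rw [Subgroup.mem_normalizer_iff]
      intro z
      constructor
      · intro hz
        rw [← heq]
        exact ⟨z, hz, rfl⟩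
      · intro hz
        rw [← heq] at hz
        obtain ⟨z', hz', e⟩ := hz
        have : z' = z := (MulAut.conj ((y : G) * x)).injective (e.trans rfl)
        exact this ▸ hz'
    · have hyc := Subgroup.mem_centralizer_singleton_iff.mp y.2
      calc (y : G) * x * c₁ * ((y : G) * x)⁻¹ = (y : G) * (x * c₁ * x⁻¹) * (y : G)⁻¹ := by group
        _ = (y : G) * c₂ * (y : G)⁻¹ := by rw [hx]
        _ = c₂ * (y : G) * (y : G)⁻¹ := by rw [hyc]
        _ = c₂ := mul_inv_cancel_right _ _
  · rintro c hc hS0
    set C := Subgroup.centralizer ({c} : Set G) with hC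
    obtain ⟨S, hS⟩ := hS0
    have hPC : P ≤ C := le_centralizer_singleton hc
    obtain ⟨n, hn⟩ := IsPGroup.iff_card.mp hP
    have hPn : Nat.card (P.subgroupOf C) = p ^ n := (card_subgroupOf hPC).trans hn
    have hnot : ¬ p ^ (n + 1) ∣ Nat.card C := by
      intro hdvd
      have h1 := Sylow.prime_pow_dvd_card_normalizer hdvd hPn
      have h2 : p ^ (n + 1) ∣ Nat.card (C ⊓ Subgroup.normalizer (P : Set G) : Subgroup G) := by
        refine h1.trans ?_
        have hle : (Subgroup.normalizer ((P.subgroupOf C : Subgroup C) : Set C)).map C.subtype ≤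
            C ⊓ Subgroup.normalizer (P : Set G) := by
          rintro _ ⟨u, hu, rfl⟩
          refine ⟨u.2, ?_⟩
          change (u : G) ∈ Subgroup.normalizer (P : Set G)
          rw [Subgroup.mem_normalizer_iff]
          intro z
          have hu' := Subgroup.mem_normalizer_iff.mp hu
          constructor
          · intro hz
            exact (hu' ⟨z, hPC hz⟩).mp hz
          · intro hz
            have hzC : z ∈ C := by
              have h := mul_mem (mul_mem (inv_mem u.2) (hPC hz)) u.2
              simpa [mul_assoc] using h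
            exact (hu' ⟨z, hzC⟩).mpr hz
        refine dvd_trans (dvd_of_eq ?_) (Subgroup.card_dvd_of_le hle)
        exact Nat.card_congr (Subgroup.equivMapOfInjective _ C.subtype Subtype.val_injective).toEquiv
      rw [← hn, card_eq_of_map _ hS] at hPn
      have h3 := (pow_dvd_pow_iff (Fact.out : p.Prime).pos.ne' (Fact.out : p.Prime).not_isUnit).mp
        ((S.pow_dvd_card_of_pow_dvd_card h2).trans (dvd_of_eq ((card_eq_of_map _ hS).symm.trans hn)))
      omega
    have hmax : Nat.card (P.subgroupOf C) = p ^ (Nat.card C).factorization p := by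
      rw [hPn]
      congr 1
      have hp : p.Prime := Fact.out
      have hle : n ≤ (Nat.card C).factorization p :=
        (hp.pow_dvd_iff_le_factorization Nat.card_pos.ne').mp
          (hPn ▸ Subgroup.card_subgroup_dvd_card _)
      by_contra hne
      exact hnot ((pow_dvd_pow p (by omega)).trans (Nat.ordProj_dvd _ p))
    exact ⟨Sylow.ofCard (P.subgroupOf C) hmax, Subgroup.map_subgroupOf_eq_of_le hPC⟩

end Cfsg.Agent.S0916
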