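import Cfsg.Statements.S0920
import Cfsg.Agent.S0916
import Cfsg.Agent.Lib.BlockTheoryFirstMain

set_option autoImplicit false
open Cfsg

namespace Cfsg.Agent.S0920
open Cfsg.Agent.BlockTheoryLocalRing Cfsg.Agent.BlockTheoryCentre Cfsg.Agent.BlockTheoryIdem
open Cfsg.Agent.BlockTheoryBrauer Cfsg.Agent.BlockTheoryInduced Cfsg.Agent.BlockTheoryDefect

attribute [local instance] Classical.propDecidable

/-- An element of `C(D)` whose class in `N(D)` has defect group `D`: the class in the group also
has, and meets `C(D)` only in that class. -/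
theorem local_class {G : Type*} [Group G] [Fintype G] {p : ℕ} [Fact p.Prime] (D : Subgroup G)
    (hD : IsPGroup p D) (N : Subgroup G) [Fintype N] (hN : N = Subgroup.normalizer (D : Set G))
    (c : N) (hc : (c : G) ∈ Subgroup.centralizer (D : Set G))
    (T : Sylow p (Subgroup.centralizer ({c} : Set N)))
    (hT : sylowIn T = D.subgroupOf N) :
    (∃ S : Sylow p (Subgroup.centralizer ({(c : G)} : Set G)), sylowIn S = D) ∧
      res N (cut D (classSum (c : G))) = classSum c := by
  set K := Subgroup.centralizer ({(c : G)} : Set G) ⊓ N with hK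
  have hDK : D ≤ K := le_inf (le_centralizer_singleton_iff.mpr hc) (hN ▸ Subgroup.le_normalizer)
  have hKmap : (Subgroup.centralizer ({c} : Set N)).map N.subtype = K := by
    ext u
    constructor
    · rintro ⟨v, hv, rfl⟩
      refine ⟨?_, v.2⟩
      change (v : G) ∈ Subgroup.centralizer ({(c : G)} : Set G)
      rw [Subgroup.mem_centralizer_singleton_iff]
      exact congrArg Subtype.val (Subgroup.mem_centralizer_singleton_iff.mp hv)
    · rintro ⟨h1, h2⟩
      refine ⟨⟨u, h2⟩, ?_, rfl⟩
      change (⟨u, h2⟩ : N) ∈ Subgroup.centralizer ({c} : Set N)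
      rw [Subgroup.mem_centralizer_singleton_iff]
      exact Subtype.ext (Subgroup.mem_centralizer_singleton_iff.mp h1)
  have hcardK : Nat.card K = Nat.card (Subgroup.centralizer ({c} : Set N)) := by
    rw [← hKmap, Subgroup.card_map_of_injective Subtype.val_injective]
  have hcardD : Nat.card (D.subgroupOf K) = p ^ (Nat.card K).factorization p := by
    rw [Nat.card_congr (Subgroup.subgroupOfEquivOfLe hDK).toEquiv, hcardK, ← T.card_eq_multiplicity,
      ← Subgroup.card_map_of_injective (K := (T : Subgroup (Subgroup.centralizer ({c} : Set N))))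
        (f := (Subgroup.centralizer ({c} : Set N)).subtype) Subtype.val_injective]
    change _ = Nat.card (sylowIn T)
    rw [hT, Nat.card_congr (Subgroup.subgroupOfEquivOfLe (hDK.trans inf_le_right)).toEquiv]
  obtain ⟨S, hS⟩ := (Cfsg.Agent.S0916.result p D hD).2 (c : G) hc
    (hN ▸ ⟨Sylow.ofCard (D.subgroupOf K) hcardD, Subgroup.map_subgroupOf_eq_of_le hDK⟩)
  refine ⟨⟨S, hS⟩, ?_⟩
  obtain ⟨-, huniq⟩ := (Cfsg.Agent.S0916.result p D hD).1 (c : G) ⟨S, hS⟩
  refine MonoidAlgebra.ext ?_
  ext u
  simp only [coeff_res, coeff_cut, classSum, coeff_ofFun]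
  by_cases hu : IsConj c u
  · obtain ⟨v, hv⟩ := isConj_iff.mp hu
    have hv' : (v : G) * c * (v : G)⁻¹ = u := congrArg Subtype.val hv
    rw [if_pos hu, if_pos (hv' ▸ conj_mem_centralizer (hN.le v.2) hc), if_pos ((isConj_iff.mpr ⟨(v : G), hv'⟩ : IsConj (c : G) (u : G)))]
  · rw [if_neg hu]
    split_ifs with h1 h2
    · obtain ⟨n, hn, hnc⟩ := huniq (c : G) (u : G) (IsConj.refl _) h2 hc h1
      exact absurd (isConj_iff.mpr ⟨(⟨n, hN.ge hn⟩ : N), Subtype.ext hnc⟩) hu
    · rfl
    · rfl

/-- Two central characters are compared through the coefficients of an idempotent. -/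
theorem idem_diff {G : Type*} [Group G] [Fintype G] {p : ℕ} {M : Ideal AlgInt}
    (hM : IsPModular p M) (b : Set (IrrCharacter G)) (ξ η : IrrCharacter G)
    (h : ∀ C : ConjClasses G, MemLocalIdeal M (blockCoeff b C.out *
      (centralChar (ξ : G → ℂ) C.out - centralChar (η : G → ℂ) C.out))) :
    MemLocalIdeal M (omega (ξ : G → ℂ) (idem b) - omega (η : G → ℂ) (idem b)) := by
  rw [(isCen_idem b).eq_sum_classSum, map_sum, map_sum, ← Finset.sum_sub_distrib]
  refine ideal_sum hM fun C _ => ?_
  rw [map_smul, map_smul, smul_eq_mul, smul_eq_mul, omega_classSum (irr_classFun ξ),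
    omega_classSum (irr_classFun η), coeff_idem, ← mul_sub]
  exact h C



/-- Brauer's First Main Theorem. Let D be a p-subgroup of the finite group G with normalizer N, and fix a maximal ideal M of the algebraic integers containing p. Then (i) every block b of N having D as a defect group induces some block B of G having D as a defect group; (ii) every block of G with defect group D is induced by exactly one block of N with defect group D. -/
theorem result {G : Type*} [Group G] [Finite G] (p : ℕ) [Fact p.Prime] (M : Ideal Cfsg.AlgInt) (hM : Cfsg.IsPModular p M) (D : Subgroup G) (hD : IsPGroup p D) : (∀ b : Set (Cfsg.IrrCharacter (Subgroup.normalizer (D : Set G))), Cfsg.IsPBlock M b → Cfsg.IsDefectGroup p M b (D.subgroupOf (Subgroup.normalizer (D : Set G))) → ∃ B : Set (Cfsg.IrrCharacter G), Cfsg.IsPBlock M B ∧ Cfsg.IsDefectGroup p M B D ∧ Cfsg.IsInducedBlock M (Subgroup.normalizer (D : Set G)) b B) ∧ (∀ B : Set (Cfsg.IrrCharacter G), Cfsg.IsPBlock M B → Cfsg.IsDefectGroup p M B D → ∃! b : Set (Cfsg.IrrCharacter (Subgroup.normalizer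 (D : Set G))), Cfsg.IsPBlock M b ∧ Cfsg.IsDefectGroup p M b (D.subgroupOf (Subgroup.normalizer (D : Set G))) ∧ Cfsg.IsInducedBlock M (Subgroup.normalizer (D : Set G)) b B) := by
  classical
  haveI := Fintype.ofFinite G
  set N := Subgroup.normalizer (D : Set G) with hN
  haveI : Fintype N := Fintype.ofFinite N
  have hDN : D ≤ N := Subgroup.le_normalizer
  have hCN : Subgroup.centralizer (D : Set G) ≤ N := Subgroup.centralizer_le_normalizer _
  haveI : (D.subgroupOf N).Normal := Subgroup.normal_subgroupOf_of_le_normalizer le_rfl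
  have hD' : IsPGroup p (D.subgroupOf N) := hD.comap_subtype
  have hmem : ∀ c : N, c ∈ Subgroup.centralizer ((D.subgroupOf N : Subgroup N) : Set N) →
      (c : G) ∈ Subgroup.centralizer (D : Set G) := fun c hc =>
    Subgroup.mem_centralizer_iff.mpr fun u hu => congrArg Subtype.val
      (Subgroup.mem_centralizer_iff.mp hc ⟨u, hDN hu⟩ (Subgroup.mem_subgroupOf.mpr hu))
  constructor
  · intro b hb hbD
    obtain ⟨B, hind⟩ := inducedBlockDefined N hM hD hDN hCN le_rfl hb
    refine ⟨B, hind.2.1, ?_, hind⟩
    obtain ⟨E, hE⟩ := exists_defectGroup hM hind.2.1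
    have hle := inducedBlock_defect_le hM N hind hbD hE
    rw [Subgroup.map_subgroupOf_eq_of_le hDN] at hle
    obtain ⟨c, hc, T, hT⟩ := hbD
    have hcC : (c : G) ∈ Subgroup.centralizer (D : Set G) :=
      hmem c (hT ▸ mem_centralizer_sylowIn T)
    obtain ⟨⟨S, hS⟩, hres⟩ := local_class D hD N rfl c hcC T hT.symm
    obtain ⟨ξ, hξ⟩ := block_nonempty hM hind.1
    obtain ⟨χ, hχ⟩ := block_nonempty hM hind.2.1
    have h1 := omega_res_sub_br N hM hD hDN le_rfl ξ (isCen_classSum (c : G))
      (isInt_classSum hM (c : G))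
    have h2 := inducedBlock_congr N hM hind hξ hχ (isCen_classSum (c : G))
      (isInt_classSum hM (c : G))
    rw [hres, omega_classSum (irr_classFun ξ)] at h1
    rw [omega_classSum (irr_classFun χ)] at h2
    have hne : ¬ MemLocalIdeal M (centralChar (χ : G → ℂ) (c : G)) := by
      intro h
      refine hc.2.2 ξ hξ ?_
      have := ideal_add hM (ideal_sub hM h2 h1) h
      simpa using this
    obtain ⟨x, hx, hxE⟩ := exists_conj_centralizes hM hind.2.1 hE ⟨χ, hχ, hne⟩
    have hEle := conjLe_sylowIn_of_isConj (isPGroup_of_isDefectGroup hE) hx hxE S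
    rw [hS] at hEle
    obtain ⟨y, hy⟩ := eq_map_of_conjLe hEle (card_le_of_conjLe hle)
    exact hy ▸ isDefectGroup_map hE y
  · intro B hB hBD
    obtain ⟨b₀, hind₀⟩ := BlockTheoryFirstMain.exists_inducing hM hB hD N hDN hCN le_rfl
      (not_small_cut_defect hM hB hBD)
    have hdef : ∀ b, IsInducedBlock M N b B → IsDefectGroup p M b (D.subgroupOf N) := by
      intro b hb
      obtain ⟨E, hE⟩ := exists_defectGroup (G := N) hM hb.1
      rw [← BlockTheoryFirstMain.defect_eq_of_induced hM hBD N hDN le_rfl hb hE]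
      exact hE
    refine ⟨b₀, ⟨hind₀.1, hdef b₀ hind₀, hind₀⟩, ?_⟩
    rintro b ⟨hb, hbD, hind⟩
    obtain ⟨ξ, hξ⟩ := block_nonempty hM hb
    obtain ⟨η, hη⟩ := block_nonempty hM hind₀.1
    obtain ⟨χ, hχ⟩ := block_nonempty hM hB
    by_contra hne
    have hηb : η ∉ b := fun h => hne (block_eq_of_mem hM hb hind₀.1 h hη)
    have hterm : ∀ C : ConjClasses N, MemLocalIdeal M (blockCoeff b C.out *
        (centralChar (ξ : N → ℂ) C.out - centralChar (η : N → ℂ) C.out)) := by
      intro C
      set c := C.out
      by_cases hcC : c ∈ Subgroup.centralizer ((D.subgroupOf N : Subgroup N) : Set N)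
      swap
      · refine ideal_mul_left hM (blockCoeff_mem hM hb c) ?_
        have h1 := omega_classSum_ideal hM (D.subgroupOf N) hD' c hcC ξ
        have h2 := omega_classSum_ideal hM (D.subgroupOf N) hD' c hcC η
        rw [omega_classSum (irr_classFun _)] at h1 h2
        exact ideal_sub hM h1 h2
      by_cases hbc : MemLocalIdeal M (blockCoeff b c)
      · exact ideal_mul_right hM hbc ((localRing hM).sub_mem
          (of_isIntegral hM (isIntegral_centralChar ξ c))
          (of_isIntegral hM (isIntegral_centralChar η c)))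
      refine ideal_mul_left hM (blockCoeff_mem hM hb c) ?_
      obtain ⟨T, hT⟩ := exists_le_sylowIn hD' hcC
      have hTle := conjLe_defect_of_coeff hM hb hbD hbc (IsConj.refl c) (isPGroup_sylowIn T)
        (mem_centralizer_sylowIn T)
      have hTeq : sylowIn T = D.subgroupOf N :=
        (Subgroup.eq_of_le_of_card_ge hT (card_le_of_conjLe hTle)).symm
      obtain ⟨-, hres⟩ := local_class D hD N rfl c (hmem c hcC) T hTeq
      have key : ∀ (β : Set (IrrCharacter N)) (θ : IrrCharacter N), IsInducedBlock M N β B → θ ∈ β →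
          MemLocalIdeal M (centralChar (χ : G → ℂ) (c : G) - centralChar (θ : N → ℂ) c) := by
        intro β θ hβ hθ
        have h1 := omega_res_sub_br N hM hD hDN le_rfl θ (isCen_classSum (c : G))
          (isInt_classSum hM (c : G))
        have h2 := inducedBlock_congr N hM hβ hθ hχ (isCen_classSum (c : G))
          (isInt_classSum hM (c : G))
        rw [hres, omega_classSum (irr_classFun θ)] at h1
        rw [omega_classSum (irr_classFun χ)] at h2
        have := ideal_sub hM h1 h2
        simpa using this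
      have := ideal_sub hM (key _ η hind₀ hη) (key _ ξ hind hξ)
      simpa using this
    have hsum := idem_diff hM b ξ η hterm
    rw [omega_idem, omega_idem, if_pos hξ, if_neg hηb, sub_zero] at hsum
    exact one_not_ideal hM hsum

end Cfsg.Agent.S0920
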