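import Cfsg.Statements.S0925
import Cfsg.Agent.Lib.BlockTheoryIdem

set_option autoImplicit false
open Cfsg

namespace Cfsg.Agent.S0925
theorem isPPart_conj {G : Type*} [Group G] {p : ℕ} {g x : G} (h : Cfsg.IsPPart p g x) (c : G) :
    Cfsg.IsPPart p (c * g * c⁻¹) (c * x * c⁻¹) := by
  obtain ⟨y, rfl, hc, ⟨k, hk⟩, hy⟩ := h
  have ho : ∀ a : G, orderOf (c * a * c⁻¹) = orderOf a := fun a =>
    MulEquiv.orderOf_eq (MulAut.conj c) a
  exact ⟨c * y * c⁻¹, by group, hc.map (MulAut.conj c).toMonoidHom, ⟨k, by rw [ho, hk]⟩,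
    by rwa [ho]⟩


/-- (i) Let ϑ be a class function on the finite group G and x a p-element, and suppose ϑ vanishes at every element whose p-part is conjugate to x. Then for every block B (relative to a maximal ideal M of the algebraic integers containing p) the B-part of ϑ — the sum over χ ∈ B of the inner product of ϑ with χ, times χ — also vanishes at every such element. (ii) Block orthogonality, its corollary: if the p-parts of g and h are not conjugate, then the sum over χ ∈ B of χ g * χ h⁻¹ is zero for every block B. -/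
theorem result {G : Type*} [Group G] [Finite G] (p : ℕ) [Fact p.Prime] (M : Ideal Cfsg.AlgInt) (hM : Cfsg.IsPModular p M) : (∀ (ϑ : G → ℂ), Cfsg.IsClassFunction G ϑ → ∀ x : G, (∃ k : ℕ, orderOf x = p ^ k) → (∀ u z : G, Cfsg.IsPPart p u z → IsConj x z → ϑ u = 0) → ∀ B : Set (Cfsg.IrrCharacter G), Cfsg.IsPBlock M B → ∀ u z : G, Cfsg.IsPPart p u z → IsConj x z → Cfsg.blockPart B ϑ u = 0) ∧ (∀ g h x y : G, Cfsg.IsPPart p g x → Cfsg.IsPPart p h y → ¬ IsConj x y → ∀ B : Set (Cfsg.IrrCharacter G), Cfsg.IsPBlock M B → ∑ᶠ χ ∈ B, (χ : G → ℂ) g * (χ : G → ℂ) h⁻¹ = 0) := by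
  classical
  letI := Fintype.ofFinite G
  refine ⟨fun ϑ _ x hx hvan B hB u z hz hxz => ?_, fun g h x y hgx hhy hxy B hB => ?_⟩
  · obtain ⟨s, hzs, hcom, hzo, hs⟩ := hz
    simp only [blockPart]
    rw [BlockTheoryIdem.finsum_mem_eq_sum]
    calc _ = (Nat.card G : ℂ)⁻¹ * ∑ w : G, ϑ w * ∑ χ : IrrCharacter G,
          (if χ ∈ B then (χ : G → ℂ) (z * s) * starRingEnd ℂ ((χ : G → ℂ) w) else 0) := by
            simp only [classInner, Finset.mul_sum, Finset.sum_mul]
            rw [Finset.sum_comm]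
            refine Finset.sum_congr rfl fun χ _ => ?_
            split_ifs
            · rw [hzs]
              refine Finset.sum_congr rfl fun w _ => ?_
              ring
            · simp
      _ = 0 := by
        refine mul_eq_zero_of_right _ (Finset.sum_eq_zero fun w _ => ?_)
        by_cases hw : ∃ g, IsConj w g ∧ Cfsg.IsPPart p g z
        · obtain ⟨g, hwg, hgz⟩ := hw
          obtain ⟨c, hc⟩ := isConj_iff.mp hwg.symm
          rw [hvan w (c * z * c⁻¹) (hc ▸ isPPart_conj hgz c)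
            (hxz.trans (isConj_iff.mpr ⟨c, rfl⟩)), zero_mul]
        · rw [BlockTheoryIdem.sum_block_mul_conj_eq_zero hM hB z s w hzo hcom hs
            (fun g hg hgz => hw ⟨g, hg, hgz⟩), mul_zero]
  · obtain ⟨s, rfl, hcom, hxo, hs⟩ := hgx
    rw [BlockTheoryIdem.finsum_mem_eq_sum]
    simp only [BlockTheoryCentre.irr_inv]
    refine BlockTheoryIdem.sum_block_mul_conj_eq_zero hM hB x s h hxo hcom hs fun g hg hgx => hxy ?_
    obtain ⟨c, rfl⟩ := isConj_iff.mp hg
    exact (BlockTheoryIdem.pPart_unique hM.1 (isPPart_conj hhy c) hgx) ▸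
      (isConj_iff.mpr ⟨c, rfl⟩ : IsConj y (c * y * c⁻¹)).symm

end Cfsg.Agent.S0925
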