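import Cfsg.Statements.S0926
import Cfsg.Agent.Lib.BlockTheoryHeight

set_option autoImplicit false
open Cfsg

namespace Cfsg.Agent.S0926

/-- Let B be a block of the finite group G with defect group D (relative to a maximal ideal M of the algebraic integers containing p), let χ ∈ B have height zero, and let x be a p-element. Then some conjugate of x lies in D if and only if χ does not vanish on the whole p-section of x (the elements whose p-part is conjugate to x). -/
theorem result {G : Type*} [Group G] [Finite G] (p : ℕ) [Fact p.Prime] (M : Ideal Cfsg.AlgInt) (hM : Cfsg.IsPModular p M) (B : Set (Cfsg.IrrCharacter G)) (hB : Cfsg.IsPBlock M B) (D : Subgroup G) (hD : Cfsg.IsDefectGroup p M B D) (χ : Cfsg.IrrCharacter G) (hχ : χ ∈ B) (h0 : Cfsg.blockHeight p B (χ : G → ℂ) = 0) (x : G) (hx : ∃ k : ℕ, orderOf x = p ^ k) : (∃ g : G, g * x * g⁻¹ ∈ D) ↔ ∃ u : G, (∃ z : G, Cfsg.IsPPart p u z ∧ IsConj x z) ∧ (χ : G → ℂ) u ≠ 0 := by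
  classical
  haveI := Fintype.ofFinite G
  obtain ⟨k, hk⟩ := hx
  have hord : ∀ g : G, orderOf (g * x * g⁻¹) = p ^ k := fun g =>
    (orderOf_injective (MulAut.conj g).toMonoidHom (MulAut.conj g).injective x).trans hk
  constructor
  · rintro ⟨g, hg⟩
    obtain ⟨y, hy, S, rfl⟩ := hD
    have hne := BlockTheoryHeight.apply_mul_not_ideal hM hB hy S hg hχ h0
    refine ⟨g * x * g⁻¹ * y, ⟨g * x * g⁻¹, ⟨y, rfl, ?_, ⟨k, hord g⟩,
      BlockTheoryHeight.defectClass_regular hM hB hy⟩, isConj_iff.mpr ⟨g, rfl⟩⟩, fun h => hne ?_⟩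
    · exact Subgroup.mem_centralizer_singleton_iff.mp (BlockTheoryDefect.sylowIn_le S hg)
    · rw [h]; exact BlockTheoryLocalRing.ideal_zero hM
  · rintro ⟨u, ⟨z, hz, hxz⟩, hne⟩
    obtain ⟨c, hc⟩ : BlockTheoryDefect.ConjLe (Subgroup.zpowers z) D := by
      by_contra hn
      exact hne (BlockTheoryDefect.eq_zero_of_pPart_notMem hM χ hz
        (by rw [BlockTheoryIdem.eq_blockOf_of_mem hM hB hχ] at hD; exact hD) hn)
    obtain ⟨d, rfl⟩ := isConj_iff.mp hxz
    refine ⟨c * d, ?_⟩
    have := hc ⟨_, Subgroup.mem_zpowers (d * x * d⁻¹), rfl⟩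
    simpa [mul_assoc] using this

end Cfsg.Agent.S0926
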