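import Cfsg.Statements.S0928
import Cfsg.Agent.Lib.BrauerBlocksKnorr
import Cfsg.Agent.Lib.BrauerBlocksRegFun

set_option autoImplicit false
open Cfsg 
open scoped ComplexConjugate

namespace Cfsg.Agent.S0928

open Cfsg Cfsg.Agent.BrauerBlocksVal Cfsg.Agent.BrauerBlocksKnorr Cfsg.Agent.BrauerBlocksHeight
open Cfsg.Agent.BlockTheoryRotation (rot rot_pow_full not_dvd_orderOf_pow)

attribute [local instance] Classical.propDecidable

section

variable {p : ℕ} {M : Ideal AlgInt} {G : Type*} [Group G] [Fintype G] {n : ℕ}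
  {ρ : Representation ℂ G (Fin n → ℂ)} [ρ.IsIrreducible] {Q : Subgroup G}
  {a : Module.End ℂ (Fin n → ℂ)}

local notation "NQ" => Subgroup.normalizer (Q : Set G)
local notation "WQ" => Subgroup.normalizer (Q : Set G) ⧸ Q.subgroupOf (Subgroup.normalizer (Q : Set G))

omit [Fintype G] in
theorem mem_normalizer_of_commute {u : G} (h : ∀ q ∈ Q, Commute q u) : u ∈ NQ := by
  refine Subgroup.mem_normalizer_iff.2 fun x => ⟨fun hx => ?_, fun hx => ?_⟩
  · rw [← (h x hx).eq, mul_inv_cancel_right]; exact hx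
  · have h2 := (h _ hx).eq
    have : x = u * x * u⁻¹ := by
      calc x = u⁻¹ * ((u * x * u⁻¹) * u) := by group
        _ = u⁻¹ * (u * (u * x * u⁻¹)) := by rw [h2]
        _ = u * x * u⁻¹ := by group
    exact this ▸ hx

theorem sm_tau_bsum_pow (hQp : IsPGroup p Q) (hmin : Minimal ρ p M Q) (ha : InQ ρ M Q a)
    (ha1 : tau ρ Q a = 1) {x : Module.End ℂ (Fin n → ℂ)} (hx : InQ ρ M Q x) :
    ∀ j : ℕ, Sm M (tau ρ Q x - tau ρ Q (x * bsum ρ Q a ^ j)) := by
  intro j
  induction j with
  | zero => simpa using sm_zero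
  | succ j ih =>
    have h := sm_tau_mul hQp hmin (hx.mul ((bsum_inQ ha).pow j)) ha
    rw [ha1, mul_one] at h
    rw [pow_succ, ← mul_assoc]
    exact ih.trans h

/-- The product word of a tuple of cosets. -/
noncomputable def word (ρ : Representation ℂ G (Fin n → ℂ)) (Q : Subgroup G)
    (a : Module.End ℂ (Fin n → ℂ)) {m : ℕ} (d : Fin m → WQ) : Module.End ℂ (Fin n → ℂ) :=
  (List.ofFn fun i => a * ρ ((d i).out : G)).prod

/-- The product of the representatives of a tuple of cosets. -/
noncomputable def liftW (Q : Subgroup G) {m : ℕ} (d : Fin m → WQ) : G :=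
  (List.ofFn fun i => ((d i).out : G)).prod

theorem word_inQ (ha : InQ ρ M Q a) :
    ∀ {m : ℕ} (d : Fin m → WQ), InQ ρ M Q (word ρ Q a d * ρ (liftW Q d)⁻¹) := by
  intro m
  induction m with
  | zero => intro d; simpa [word, liftW] using InQ.one
  | succ m ih =>
    intro d
    have e : word ρ Q a d * ρ (liftW Q d)⁻¹ = a * cj ρ ((d 0).out : G)
        (word ρ Q a (Fin.tail d) * ρ (liftW Q (Fin.tail d))⁻¹) := by
      simp only [word, liftW, prod_ofFn_head, cj, mul_inv_rev, map_mul, mul_assoc]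
      rfl
    rw [e]
    exact ha.mul (cj_inQ (d 0).out.2 (ih _))

theorem liftW_mk {m : ℕ} : ∀ (d : Fin m → WQ), ∃ h : liftW Q d ∈ NQ,
    ((⟨liftW Q d, h⟩ : NQ) : WQ) = ((List.ofFn fun i => (d i).out).prod : NQ) := by
  intro d
  have e : liftW Q d = (((List.ofFn fun i => (d i).out).prod : NQ) : G) := by
    rw [liftW, ← Subgroup.coe_subtype, map_list_prod, List.map_ofFn]
    rfl
  exact ⟨e ▸ ((List.ofFn fun i => (d i).out).prod).2, congrArg _ (Subtype.ext e)⟩

/-- The element `g` brought into `Q` by a tuple of cosets. -/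
theorem lift_inv_mul_mem [(Q.subgroupOf NQ).Normal] {m : ℕ} (d : Fin m → WQ) {g : G} (hg : g ∈ NQ)
    (h : (List.ofFn d).prod = ((⟨g, hg⟩ : NQ) : WQ)) : (liftW Q d)⁻¹ * g ∈ Q := by
  obtain ⟨hl, hl'⟩ := liftW_mk d
  have e : ((List.ofFn fun i => (d i).out).prod : NQ) = (⟨liftW Q d, hl⟩ : NQ) := by
    refine Subtype.ext ?_
    show (((List.ofFn fun i => (d i).out).prod : NQ) : G) = liftW Q d
    rw [← Subgroup.coe_subtype, map_list_prod, List.map_ofFn]
    rfl
  have h1 : ((⟨liftW Q d, hl⟩ : NQ) : WQ) = ((⟨g, hg⟩ : NQ) : WQ) := by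
    rw [← h, ← e, ← QuotientGroup.mk'_apply, map_list_prod, List.map_ofFn]
    congr 2
    funext i
    exact QuotientGroup.out_eq' (d i)
  simpa [Subgroup.mem_subgroupOf] using QuotientGroup.eq.1 h1

theorem sum_word [(Q.subgroupOf NQ).Normal] (ha : InQ ρ M Q a) :
    ∀ (k : ℕ) (g : G) (hg : g ∈ NQ),
    ∑ d : Fin (k + 1) → WQ, (if (List.ofFn d).prod = ((⟨g, hg⟩ : NQ) : WQ)
      then word ρ Q a d * ρ ((liftW Q d)⁻¹ * g) else 0) = a * bsum ρ Q a ^ k * ρ g := by
  intro k
  induction k with
  | zero =>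
    intro g hg
    rw [Finset.sum_eq_single (fun _ => ((⟨g, hg⟩ : NQ) : WQ))]
    · rw [if_pos (by simp)]
      simp only [word, liftW, List.ofFn_succ, List.ofFn_zero, List.prod_cons, List.prod_nil,
        mul_one, pow_zero, mul_assoc, ← map_mul, mul_inv_cancel_left]
    · intro d _ hne
      rw [if_neg]
      intro h
      simp only [List.ofFn_succ, List.ofFn_zero, List.prod_cons, List.prod_nil, mul_one] at h
      exact hne (funext fun i => by rw [Fin.eq_zero i, h])
    · simp
  | succ k ih =>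
    intro g hg
    rw [← (Fin.consEquiv fun _ : Fin (k + 1 + 1) => WQ).sum_comp, Fintype.sum_prod_type]
    have hterm : ∀ v : WQ, ∑ d : Fin (k + 1) → WQ,
        (if (List.ofFn (Fin.cons v d : Fin (k + 1 + 1) → WQ)).prod = ((⟨g, hg⟩ : NQ) : WQ)
          then word ρ Q a (Fin.cons v d : Fin (k + 1 + 1) → WQ) *
            ρ ((liftW Q (Fin.cons v d : Fin (k + 1 + 1) → WQ))⁻¹ * g) else 0) =
        a * cj ρ (v.out : G) a * bsum ρ Q a ^ k * ρ g := by
      intro v
      have hg' : (v.out : G)⁻¹ * g ∈ NQ := mul_mem (inv_mem v.out.2) hg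
      have h1 := ih ((v.out : G)⁻¹ * g) hg'
      have hmk : ((⟨(v.out : G)⁻¹ * g, hg'⟩ : NQ) : WQ) = v⁻¹ * ((⟨g, hg⟩ : NQ) : WQ) := by
        conv_rhs => rw [← QuotientGroup.out_eq' v]
        rfl
      calc _ = ∑ d : Fin (k + 1) → WQ, a * ρ (v.out : G) *
            (if (List.ofFn d).prod = ((⟨(v.out : G)⁻¹ * g, hg'⟩ : NQ) : WQ)
              then word ρ Q a d * ρ ((liftW Q d)⁻¹ * ((v.out : G)⁻¹ * g)) else 0) := by
            refine Finset.sum_congr rfl fun d _ => ?_
            have ew : word ρ Q a (Fin.cons v d : Fin (k + 1 + 1) → WQ) =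
                a * ρ (v.out : G) * word ρ Q a d := by
              simp only [word]; rw [List.ofFn_succ, List.prod_cons]; rfl
            have el : liftW Q (Fin.cons v d : Fin (k + 1 + 1) → WQ) = (v.out : G) * liftW Q d := by
              simp only [liftW]; rw [List.ofFn_succ, List.prod_cons]; rfl
            rw [ew, el, mul_inv_rev, hmk, mul_ite, mul_zero, List.ofFn_succ, List.prod_cons]
            simp only [Fin.cons_zero, Fin.cons_succ, eq_inv_mul_iff_mul_eq, mul_assoc]
        _ = _ := by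
            rw [← Finset.mul_sum, h1]
            have e1 : ρ (v.out : G) * a = cj ρ (v.out : G) a * ρ (v.out : G) := mul_cj _
            have e2 : ρ (v.out : G) * bsum ρ Q a ^ k = bsum ρ Q a ^ k * ρ (v.out : G) :=
              ((commute_bsum ha v.out.2).pow_right k).eq
            calc a * ρ (v.out : G) * (a * bsum ρ Q a ^ k * ρ ((v.out : G)⁻¹ * g))
                = a * ((ρ (v.out : G) * a) * bsum ρ Q a ^ k) * ρ ((v.out : G)⁻¹ * g) := by
                  simp only [mul_assoc]
              _ = a * (cj ρ (v.out : G) a * (ρ (v.out : G) * bsum ρ Q a ^ k)) *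
                    ρ ((v.out : G)⁻¹ * g) := by rw [e1, mul_assoc (cj ρ _ a)]
              _ = _ := by
                  rw [e2]
                  simp only [mul_assoc, ← map_mul, mul_inv_cancel_left]
    refine (Finset.sum_congr rfl fun v _ => hterm v).trans ?_
    simp only [← Finset.sum_mul, ← Finset.mul_sum]
    rw [pow_succ', ← mul_assoc]
    rfl

/-- Elements of order `p` centralising `Q`, outside `Q`, contribute nothing. -/
theorem sm_sum_outside [(Q.subgroupOf NQ).Normal] (hM : IsPModular p M) (hQp : IsPGroup p Q)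
    (hmin : Minimal ρ p M Q) (ha : InQ ρ M Q a) (ha1 : tau ρ Q a = 1) :
    Sm M (∑ u : {u : G // orderOf u = p ∧ (∀ q ∈ Q, Commute q u) ∧ u ∉ Q},
      tau ρ Q (a * ρ (u : G))) := by
  set O := {u : G // orderOf u = p ∧ (∀ q ∈ Q, Commute q u) ∧ u ∉ Q}
  set K := Nat.card WQ
  obtain ⟨m, hm⟩ : ∃ m, p ^ K = m + 1 :=
    ⟨_, (Nat.succ_pred_eq_of_pos (pow_pos hM.1.pos _)).symm⟩
  have huN : ∀ u : O, (u : G) ∈ NQ := fun u => mem_normalizer_of_commute u.2.2.1
  set cl : O → WQ := fun u => ((⟨(u : G), huN u⟩ : NQ) : WQ) with hcl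
  set X := {x : O × (Fin (m + 1) → WQ) // (List.ofFn x.2).prod = cl x.1}
  set F : X → ℂ := fun x => tau ρ Q (word ρ Q a x.1.2 * ρ ((liftW Q x.1.2)⁻¹ * (x.1.1 : G))) with hFdef
  have hFI : ∀ x, Int' M (F x) := fun x => by
    simp only [hFdef, map_mul, ← mul_assoc]
    exact int'_tau hM ((word_inQ ha _).mul (InQ.single x.1.1.2.2.1))
  -- the expansion
  have hexp : ∑ x : X, F x = ∑ u : O, tau ρ Q (a * bsum ρ Q a ^ m * ρ (u : G)) := by
    calc ∑ x : X, F x
        = ∑ x ∈ Finset.univ.filter
            (fun x : O × (Fin (m + 1) → WQ) => (List.ofFn x.2).prod = cl x.1),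
            tau ρ Q (word ρ Q a x.2 * ρ ((liftW Q x.2)⁻¹ * (x.1 : G))) := by
          exact (Finset.sum_subtype
            (Finset.univ.filter fun x : O × (Fin (m + 1) → WQ) => (List.ofFn x.2).prod = cl x.1)
            (p := fun x => (List.ofFn x.2).prod = cl x.1) (fun x => by simp)
            fun x => tau ρ Q (word ρ Q a x.2 * ρ ((liftW Q x.2)⁻¹ * (x.1 : G)))).symm
      _ = _ := by
          rw [Finset.sum_filter, Fintype.sum_prod_type]
          refine Finset.sum_congr rfl fun u _ => ?_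
          rw [← sum_word ha m (u : G) (huN u), tau_sum]
          refine Finset.sum_congr rfl fun d _ => ?_
          simp only [hcl]
          split_ifs
          · rfl
          · simp [tau]
  -- the rotation
  have hconjO : ∀ (v : NQ) (u : O), orderOf ((v : G)⁻¹ * u * v) = p ∧
      (∀ q ∈ Q, Commute q ((v : G)⁻¹ * u * v)) ∧ (v : G)⁻¹ * u * v ∉ Q := by
    intro v u
    refine ⟨?_, fun q hq => ?_, fun h => u.2.2.2 ?_⟩
    · rw [show (v : G)⁻¹ * u * v = MulAut.conj (v : G)⁻¹ (u : G) by simp, MulEquiv.orderOf_eq]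
      exact u.2.1
    · have h1 := ((u.2.2.1 _ ((Subgroup.mem_normalizer_iff.1 v.2 q).1 hq)).map
        (MulAut.conj (v : G)⁻¹).toMonoidHom)
      simpa [mul_assoc] using h1
    · simpa [mul_assoc] using (Subgroup.mem_normalizer_iff.1 v.2 _).1 h
  let R₀ : O × (Fin (m + 1) → WQ) → O × (Fin (m + 1) → WQ) := fun x =>
    (⟨_, hconjO (x.2 0).out x.1⟩, Fin.snoc (Fin.tail x.2) (x.2 0))
  have hR₀ : ∀ x, (List.ofFn x.2).prod = cl x.1 → (List.ofFn (R₀ x).2).prod = cl (R₀ x).1 := by
    intro x hx
    show (List.ofFn (Fin.snoc (Fin.tail x.2) (x.2 0))).prod = _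
    rw [prod_ofFn_snoc]
    have e : cl (R₀ x).1 = (x.2 0)⁻¹ * cl x.1 * x.2 0 := by
      conv_rhs => rw [← QuotientGroup.out_eq' (x.2 0)]
      rfl
    rw [e, ← hx, prod_ofFn_head]
    group
  let R₁ : X → X := fun x => ⟨R₀ x.1, hR₀ x.1 x.2⟩
  have hinj : Function.Injective R₁ := by
    intro x y h
    have h' : R₀ x.1 = R₀ y.1 := congrArg Subtype.val h
    have h2 : (Fin.snoc (Fin.tail x.1.2) (x.1.2 0) : Fin (m + 1) → WQ) =
        Fin.snoc (Fin.tail y.1.2) (y.1.2 0) := congrArg Prod.snd h'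
    have hd : x.1.2 = y.1.2 := by
      rw [← Fin.cons_self_tail x.1.2, ← Fin.cons_self_tail y.1.2]
      have a1 := congrFun h2 (Fin.last m)
      simp only [Fin.snoc_last] at a1
      have a2 : Fin.tail x.1.2 = Fin.tail y.1.2 := by
        funext i
        have := congrFun h2 i.castSucc
        simpa using this
      rw [a1, a2]
    have h1 : ((x.1.2 0).out : G)⁻¹ * x.1.1 * (x.1.2 0).out =
        ((y.1.2 0).out : G)⁻¹ * y.1.1 * (y.1.2 0).out :=
      congrArg (fun z : O × (Fin (m + 1) → WQ) => (z.1 : G)) h'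
    rw [hd] at h1
    exact Subtype.ext (Prod.ext (Subtype.ext (mul_left_cancel (mul_right_cancel h1))) hd)
  let R : Equiv.Perm X := Equiv.ofBijective R₁ (Finite.injective_iff_bijective.1 hinj)
  have hF : ∀ x, F (R x) = F x := by
    rintro ⟨⟨u, d⟩, hx⟩
    show tau ρ Q (word ρ Q a (Fin.snoc (Fin.tail d) (d 0)) *
      ρ ((liftW Q (Fin.snoc (Fin.tail d) (d 0)))⁻¹ * (((d 0).out : G)⁻¹ * u * (d 0).out))) =
      tau ρ Q (word ρ Q a d * ρ ((liftW Q d)⁻¹ * (u : G)))
    have hw : word ρ Q a (Fin.snoc (Fin.tail d) (d 0)) =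
        word ρ Q a (Fin.tail d) * (a * ρ ((d 0).out : G)) := by
      simp only [word]
      rw [← prod_ofFn_snoc]
      congr 2
      funext i
      refine Fin.lastCases ?_ (fun i => ?_) i <;> simp
    have hw' : word ρ Q a d = a * ρ ((d 0).out : G) * word ρ Q a (Fin.tail d) := by
      simp only [word, prod_ofFn_head]; rfl
    have hl : liftW Q (Fin.snoc (Fin.tail d) (d 0)) = liftW Q (Fin.tail d) * ((d 0).out : G) := by
      simp only [liftW]
      rw [← prod_ofFn_snoc]
      congr 2
      funext i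
      refine Fin.lastCases ?_ (fun i => ?_) i <;> simp
    have hl' : liftW Q d = ((d 0).out : G) * liftW Q (Fin.tail d) := by
      simp only [liftW, prod_ofFn_head]; rfl
    have hq := lift_inv_mul_mem d (huN u) hx
    set q := (liftW Q d)⁻¹ * (u : G) with hqdef
    have e : (liftW Q (Fin.snoc (Fin.tail d) (d 0)))⁻¹ * (((d 0).out : G)⁻¹ * u * (d 0).out) =
        ((d 0).out : G)⁻¹ * q * (d 0).out := by
      rw [hl, hqdef, hl']; group
    rw [e, hw, hw', mul_assoc (a * ρ ((d 0).out : G)), tau_comm (x := a * ρ ((d 0).out : G)),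
      mul_assoc, mul_assoc (word ρ Q a (Fin.tail d))]
    congr 2
    rw [mul_assoc, ← map_mul, ← mul_assoc (ρ q), (ha.2 q hq).eq, mul_assoc a, ← map_mul]
    congr 2
    group
  -- no fixed points of a `p`-power order rotation
  obtain ⟨s, r, hr, hord⟩ := Nat.exists_eq_pow_mul_and_not_dvd (orderOf_pos R).ne' p hM.1.ne_one
  have hsnd : ∀ (i : ℕ) (x : X),
      ((R ^ i) x).1.2 = (((rot (1 : WQ) m).symm) ^ i) x.1.2 := by
    intro i
    induction i with
    | zero => intro x; rfl
    | succ i ih =>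
      intro x
      rw [pow_succ', Equiv.Perm.mul_apply, pow_succ', Equiv.Perm.mul_apply, ← ih x]
      show (Fin.snoc (Fin.tail ((R ^ i) x).1.2) (((R ^ i) x).1.2 0) : Fin (m + 1) → WQ) =
        (Fin.snoc (Fin.tail ((R ^ i) x).1.2) (1 * ((R ^ i) x).1.2 0 * 1⁻¹) : Fin (m + 1) → WQ)
      simp
  have hnofix : ∀ x : X, (R ^ r) x ≠ x := by
    intro x hfix
    set σ := (rot (1 : WQ) m).symm with hσ
    have h1 : Function.IsPeriodicPt σ r x.1.2 := by
      show σ^[r] x.1.2 = x.1.2
      rw [← Equiv.Perm.coe_pow, ← hsnd r x, hfix]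
    have h2 : Function.IsPeriodicPt σ (m + 1) x.1.2 := by
      show σ^[m + 1] x.1.2 = x.1.2
      rw [← Equiv.Perm.coe_pow, hσ, ← Equiv.Perm.inv_def, inv_pow, Equiv.Perm.inv_def,
        Equiv.symm_apply_eq, rot_pow_full]
      simp
    have h3 := h1.gcd h2
    have hg : r.gcd (m + 1) = 1 := by
      rw [← hm]
      exact ((hM.1.coprime_iff_not_dvd.2 hr).symm.pow_right K)
    rw [hg] at h3
    have hstep : ∀ i : Fin m, x.1.2 i.succ = x.1.2 i.castSucc := by
      intro i
      have h4 : (Fin.snoc (Fin.tail x.1.2) (1 * x.1.2 0 * 1⁻¹) : Fin (m + 1) → WQ) = x.1.2 := h3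
      have := congrFun h4 i.castSucc
      simpa [Fin.tail] using this
    have hconst : ∀ i, x.1.2 i = x.1.2 0 := fun i => by
      refine Fin.induction rfl (fun i hi => ?_) i
      rw [hstep, hi]
    have hx : (List.ofFn x.1.2).prod = cl x.1.1 := x.2
    rw [show x.1.2 = fun _ => x.1.2 0 from funext hconst, List.ofFn_const, List.prod_replicate] at hx
    have hxp : x.1.2 0 ^ p ^ K = cl x.1.1 := by rw [hm]; exact hx
    have hne : cl x.1.1 ≠ 1 := fun h => x.1.1.2.2.2 (by
      simpa [hcl, Subgroup.mem_subgroupOf] using (QuotientGroup.eq_one_iff _).1 h)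
    have hp1 : orderOf (cl x.1.1) = p := by
      have hd : orderOf (cl x.1.1) ∣ p := by
        refine orderOf_dvd_of_pow_eq_one ?_
        simp only [hcl]
        rw [← QuotientGroup.mk_pow]
        refine (congrArg QuotientGroup.mk (Subtype.ext ?_)).trans (QuotientGroup.mk_one _)
        show (x.1.1 : G) ^ p = 1
        exact orderOf_dvd_iff_pow_eq_one.1 (dvd_of_eq x.1.1.2.1)
      exact ((Nat.dvd_prime hM.1).1 hd).resolve_left fun h => hne (orderOf_eq_one_iff.1 h)
    exact not_dvd_orderOf_pow hM.1 (x.1.2 0) (le_refl K) (by rw [hxp, hp1])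
  have hkey := sm_sum_perm hM (R ^ r) (k := s)
    (by rw [← pow_mul, mul_comm, ← hord, pow_orderOf_eq_one]) F (fun x => by
      have : ∀ (i : ℕ) (x : X), F ((R ^ i) x) = F x := fun i => by
        induction i with
        | zero => intro x; rfl
        | succ i ih => intro x; rw [pow_succ, Equiv.Perm.mul_apply, ih, hF]
      exact this r x) hFI
  have hkey2 : Sm M (∑ x : X, F x) := by
    convert hkey using 1
    symm
    rw [sub_eq_self]
    refine Finset.sum_eq_zero fun x hx => ?_
    have hx2 : (R ^ r) x = x := by simpa using hx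
    exact absurd hx2 (hnofix x)
  clear hkey
  rename' hkey2 => hkey
  rw [hexp] at hkey
  refine (sm_iff_of_sub ?_).2 hkey
  rw [← Finset.sum_sub_distrib]
  refine sm_sum _ fun u _ => ?_
  have h1 := sm_tau_bsum_pow hQp hmin ha ha1 ((InQ.single (ρ := ρ) (M := M) u.2.2.1).mul ha) m
  rw [mul_assoc (ρ (u : G)) a, tau_comm (x := ρ (u : G)) (y := a),
    tau_comm (x := ρ (u : G))] at h1
  exact h1

/-- Elements of order `p` in the centre of `Q` contribute their number. -/
theorem sm_sum_inside (hM : IsPModular p M) (hQp : IsPGroup p Q)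
    (hmin : Minimal ρ p M Q) (ha : InQ ρ M Q a) (ha1 : tau ρ Q a = 1) :
    Sm M (∑ u : {u : G // orderOf u = p ∧ (∀ q ∈ Q, Commute q u) ∧ u ∈ Q}, tau ρ Q (a * ρ (u : G)) -
      (Nat.card {u : G // orderOf u = p ∧ (∀ q ∈ Q, Commute q u) ∧ u ∈ Q} : ℂ)) := by
  set O := {u : G // orderOf u = p ∧ (∀ q ∈ Q, Commute q u) ∧ u ∈ Q}
  set Y : Module.End ℂ (Fin n → ℂ) := ∑ u : O, ρ (u : G) with hY
  have hYQ : InQ ρ M Q Y := InQ.sum _ fun u _ => InQ.single u.2.2.1
  have haY : Commute a Y := Commute.sum_right _ _ _ fun u _ => (ha.2 u u.2.2.2).symm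
  have hYN : ∀ g ∈ NQ, cj ρ g Y = Y := by
    intro g hg
    let f : O → O := fun u => ⟨g * u * g⁻¹, by
      rw [show g * (u : G) * g⁻¹ = MulAut.conj g (u : G) by simp, MulEquiv.orderOf_eq]
      exact u.2.1, fun q hq => by
      have h1 := (u.2.2.1 _ ((Subgroup.mem_normalizer_iff.1 (inv_mem hg) q).1 hq)).map
        (MulAut.conj g).toMonoidHom
      simpa [mul_assoc] using h1, (Subgroup.mem_normalizer_iff.1 hg _).1 u.2.2.2⟩
    have hf : Function.Injective f := fun u v h => Subtype.ext (by
      have := congrArg Subtype.val h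
      simpa [f] using this)
    simp only [hY, cj, Finset.mul_sum, Finset.sum_mul, ← map_mul]
    exact Fintype.sum_bijective f (Finite.injective_iff_bijective.1 hf) _ _ fun u => rfl
  have hbY : bsum ρ Q (a * Y) = bsum ρ Q a * Y := by
    simp only [bsum, Finset.sum_mul]
    refine Finset.sum_congr rfl fun v _ => ?_
    conv_rhs => rw [← hYN _ v.out.2]
    simp only [cj, mul_assoc]
    rw [← mul_assoc (ρ (v.out : G)⁻¹) (ρ (v.out : G)), rho_inv_mul, one_mul]
  have hcomm : Commute (bsum ρ Q a) Y :=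
    Commute.sum_right _ _ _ fun u _ => ((bsum_inQ ha).2 u u.2.2.2).symm
  set c := tau ρ Q (a * Y) with hc
  have hcI : Int' M c := int'_tau hM (ha.mul hYQ)
  have hsum : ∑ u : O, tau ρ Q (a * ρ (u : G)) = c := by
    rw [hc, hY, Finset.mul_sum, tau_sum]
  have hpow : ∀ j : ℕ, Sm M (tau ρ Q (a * Y ^ j) - c ^ j) := by
    intro j
    induction j with
    | zero => rw [pow_zero, pow_zero, mul_one, ha1, sub_self]; exact sm_zero
    | succ j ih =>
      have h1 := sm_tau_mul hQp hmin (ha.mul (hYQ.pow j)) (ha.mul hYQ)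
      have e : a * Y ^ j * (bsum ρ Q a * Y) = a * Y ^ (j + 1) * bsum ρ Q a := by
        rw [hcomm.eq, pow_succ]; simp only [mul_assoc]
      rw [hbY, e] at h1
      have h2 := sm_tau_bsum_pow hQp hmin ha ha1 (ha.mul (hYQ.pow (j + 1))) 1
      rw [pow_one] at h2
      have h3 : Sm M (tau ρ Q (a * Y ^ (j + 1) * bsum ρ Q a) - c ^ (j + 1)) := by
        refine (sm_sub_comm.1 h1).trans ?_
        have h := ih.mul_right hcI
        rw [sub_mul] at h
        rwa [pow_succ c j]
      exact h2.trans h3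
  have hpsum : Sm M (tau ρ Q (a * Y ^ p) - (Nat.card O : ℂ)) := by
    obtain ⟨m, hm⟩ : ∃ m, p = m + 1 := ⟨_, (Nat.succ_pred_eq_of_pos hM.1.pos).symm⟩
    rw [hY, pow_sum_eq, Finset.mul_sum, tau_sum]
    have hterm : ∀ d : Fin p → O,
        (List.ofFn fun j => ρ (d j : G)).prod = ρ (List.ofFn fun j => (d j : G)).prod := fun d => by
      rw [map_list_prod, List.map_ofFn]; rfl
    simp only [hterm]
    let π : Equiv.Perm (Fin p → O) := (finRotate p).arrowCongr (Equiv.refl _)
    have hπp : π ^ p ^ 1 = 1 := by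
      refine Equiv.ext fun d => funext fun i => ?_
      have : ∀ k : ℕ, (π ^ k) d = fun i => d (((finRotate p).symm ^ k) i) := fun k => by
        induction k with
        | zero => rfl
        | succ k ih =>
          rw [pow_succ', Equiv.Perm.mul_apply, ih, pow_succ]
          rfl
      rw [this, pow_one, Equiv.Perm.one_apply]
      congr 1
      have h1 : finRotate p ^ p = 1 := by
        have hh := (isCycle_finRotate_of_le (n := p) hM.1.two_le).orderOf
        rw [support_finRotate_of_le hM.1.two_le, Finset.card_univ, Fintype.card_fin] at hh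
        calc finRotate p ^ p = finRotate p ^ orderOf (finRotate p) := by rw [hh]
          _ = 1 := pow_orderOf_eq_one _
      rw [← Equiv.Perm.inv_def, inv_pow, h1, inv_one]
      rfl
    have hcm : ∀ (i j : O), Commute (i : G) (j : G) := fun i j => j.2.2.1 _ i.2.2.2
    have hprod : ∀ d : Fin p → O,
        (List.ofFn fun j => ((π d) j : G)).prod = (List.ofFn fun j => (d j : G)).prod := by
      intro d
      refine List.Perm.prod_eq' ?_ ?_
      · exact Equiv.Perm.ofFn_comp_perm (finRotate p).symm fun j => (d j : G)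
      · rw [List.pairwise_ofFn]
        exact fun i j _ => hcm _ _
    have hfix := sm_sum_perm hM π hπp
      (fun d => tau ρ Q (a * ρ (List.ofFn fun j => (d j : G)).prod))
      (fun d => by simp only [hprod]) fun d => int'_tau hM (ha.mul (InQ.single fun q hq =>
        Commute.list_prod_right _ _ fun x hx => by
          obtain ⟨j, rfl⟩ := List.mem_ofFn.1 hx
          exact (d j).2.2.1 q hq))
    refine hfix.trans ?_
    have hcard : ∑ d ∈ Finset.univ.filter (fun d => π d = d),
        tau ρ Q (a * ρ (List.ofFn fun j => (d j : G)).prod) = (Nat.card O : ℂ) := by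
      have hconst : ∀ d : Fin p → O, π d = d → ∀ i j, d i = d j := by
        intro d hd
        have h1 : ∀ i, d ((finRotate p).symm i) = d i := fun i => congrFun hd i
        have h2 : ∀ i : Fin (m + 1), d (Fin.cast hm.symm i) = d (Fin.cast hm.symm 0) := by
          refine Fin.induction rfl fun i hi => ?_
          rw [← hi, ← h1 (Fin.cast hm.symm i.succ)]
          congr 1
          rw [Equiv.symm_apply_eq]
          subst hm
          simp [finRotate_succ_apply]
        intro i j
        exact (h2 (Fin.cast hm i)).trans (h2 (Fin.cast hm j)).symm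
      rw [Finset.sum_congr rfl (g := fun _ => (1 : ℂ)) fun d hd => ?_, Finset.sum_const,
        nsmul_eq_mul, mul_one]
      · congr 1
        rw [Nat.card_eq_fintype_card, ← Finset.card_univ]
        refine Finset.card_bij (fun d _ => d (Fin.cast hm.symm 0)) (fun _ _ => Finset.mem_univ _) ?_ ?_
        · intro d hd d' hd' h
          funext i
          rw [hconst d (Finset.mem_filter.1 hd).2 i (Fin.cast hm.symm 0), h,
            hconst d' (Finset.mem_filter.1 hd').2 (Fin.cast hm.symm 0) i]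
        · intro u _
          exact ⟨fun _ => u, Finset.mem_filter.2 ⟨Finset.mem_univ _, rfl⟩, rfl⟩
      · have hc' := hconst d (Finset.mem_filter.1 hd).2
        rw [show (fun j => (d j : G)) = fun _ => (d (Fin.cast hm.symm 0) : G) from
          funext fun j => congrArg Subtype.val (hc' j _), List.ofFn_const, List.prod_replicate]
        rw [orderOf_dvd_iff_pow_eq_one.1 (dvd_of_eq (d (Fin.cast hm.symm 0)).2.1), map_one, mul_one, ha1]
    convert sm_zero (M := M)
    rw [sub_eq_zero]
    convert hcard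
  rw [hsum]
  have h1 : Sm M (c ^ p - (Nat.card O : ℂ) ^ p) := by
    refine ((sm_sub_comm.1 (hpow p)).trans hpsum).trans ?_
    have : Fact p.Prime := ⟨hM.1⟩
    have h2 : (p : ℤ) ∣ (Nat.card O : ℤ) - (Nat.card O : ℤ) ^ p := by
      rw [← Int.modEq_iff_dvd, ← ZMod.intCast_eq_intCast_iff]
      push_cast
      exact ZMod.pow_card _
    have h3 := (sm_intCast_iff hM _).2 h2
    push_cast at h3
    exact h3
  let x : vs M := ⟨c, hcI⟩
  let y : vs M := ⟨(Nat.card O : ℂ), int'_natCast _⟩
  obtain ⟨t, ht⟩ := exists_add_pow_prime_eq hM.1 (x - y) y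
  rw [sub_add_cancel] at ht
  have ht' : c ^ p = (c - (Nat.card O : ℂ)) ^ p + (Nat.card O : ℂ) ^ p +
      (p : ℂ) * (c - (Nat.card O : ℂ)) * (Nat.card O : ℂ) * (t : ℂ) := by
    simpa [x, y] using congrArg Subtype.val ht
  have hu : Sm M ((c - (Nat.card O : ℂ)) ^ p) := by
    have h4 : Sm M ((p : ℂ) * (c - (Nat.card O : ℂ)) * (Nat.card O : ℂ) * (t : ℂ)) :=
      (((sm_p hM).mul_right (hcI.sub (int'_natCast _))).mul_right (int'_natCast _)).mul_right t.2
    have := h1.sub h4
    rw [ht'] at this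
    convert this using 1
    ring
  by_contra hne
  exact not_sm_pow hne p hu

end


/-- Let χ be an irreducible character of the finite group G and p a prime. If χ g = 0 for every element g of order p, then the exponent of p in the degree χ(1) equals the exponent of p in the order of G (χ has p-defect zero). -/
theorem result {G : Type*} [Group G] [Finite G] (p : ℕ) [Fact p.Prime] (χ : Cfsg.IrrCharacter G) (hvan : ∀ g : G, orderOf g = p → (χ : G → ℂ) g = 0) : (Cfsg.charDegree (χ : G → ℂ)).factorization p = (Nat.card G).factorization p := by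
  classical
  have := Fintype.ofFinite G
  have hp : p.Prime := Fact.out
  obtain ⟨M, hM⟩ := BrauerBlocksRegFun.exists_isPModular (p := p) hp
  obtain ⟨n, ρ, hirr, hρ⟩ := χ.2
  have hn0 := n_ne_zero ρ
  obtain ⟨hdeg, hdpos⟩ := apply_one_eq_charDegree χ.2
  have hdn : charDegree (χ : G → ℂ) = n := by
    refine Nat.cast_injective (R := ℂ) ?_
    rw [← hdeg, ← hρ, Representation.char_one, Module.finrank_fin_fun]
  -- a minimal subgroup
  let P : ℕ → Prop := fun k => ∃ (Q : Subgroup G) (a : Module.End ℂ (Fin n → ℂ)),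
    IsPGroup p Q ∧ Nat.card Q = k ∧ InQ ρ M Q a ∧ tau ρ Q a = 1
  have hex : ∃ k, P k := by
    obtain ⟨S⟩ : Nonempty (Sylow p G) := inferInstance
    refine ⟨_, S, ((S : Subgroup G).index : ℂ)⁻¹ • 1, S.isPGroup', rfl, ⟨InE.smul
      (int'_inv_natCast hM S.not_dvd_index) InE.one,
      fun q _ => (Commute.one_right _).smul_right _⟩, ?_⟩
    rw [tau_smul, tau, LinearMap.trace_one, Module.finrank_fin_fun,
      ← (S : Subgroup G).index_mul_card]
    have e1 : ((S : Subgroup G).index : ℂ) ≠ 0 := Nat.cast_ne_zero.2 Subgroup.index_ne_zero_of_finite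
    have e2 : (Nat.card (S : Subgroup G) : ℂ) ≠ 0 := Nat.cast_ne_zero.2 Nat.card_pos.ne'
    push_cast
    field_simp
  obtain ⟨Q, a, hQp, hQc, ha, ha1⟩ := Nat.find_spec hex
  have hmin : Minimal ρ p M Q := by
    intro R x hR hlt hx
    by_contra hs
    refine Nat.find_min hex (hQc ▸ hlt) ⟨R, (tau ρ R x)⁻¹ • x, hR, rfl, ⟨InE.smul
      (int'_inv (int'_tau hM hx) hs) hx.1, fun q hq => (hx.2 q hq).smul_right _⟩, ?_⟩
    rw [tau_smul, inv_mul_cancel₀ (ne_zero_of_not_sm hs)]
  have hQ : Q = ⊥ := by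
    by_contra hne
    have : (Q.subgroupOf (Subgroup.normalizer (Q : Set G))).Normal := Subgroup.normal_in_normalizer
    let X := {u : G // orderOf u = p}
    have hconjX : ∀ (q : G) (u : X), orderOf (q * u.1 * q⁻¹) = p := fun q u => by
      rw [show q * u.1 * q⁻¹ = MulAut.conj q u.1 by simp, MulEquiv.orderOf_eq]; exact u.2
    let inst : MulAction Q X :=
      { smul := fun q u => ⟨(q : G) * u.1 * (q : G)⁻¹, hconjX q u⟩
        one_smul := fun u => Subtype.ext (by show (1 : G) * u.1 * (1 : G)⁻¹ = u.1; simp)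
        mul_smul := fun q r u => Subtype.ext (by
          show (q * r : G) * u.1 * (q * r : G)⁻¹ = (q : G) * ((r : G) * u.1 * (r : G)⁻¹) * (q : G)⁻¹
          group) }
    have hK : ∑ u : X, ρ (u : G) = 0 := by
      set K := ∑ u : X, ρ (u : G) with hKdef
      obtain ⟨c, hc, htr⟩ := CharBasic.exists_scalar_of_commute ρ K fun g v => by
        have h1 : cj ρ g K = K := by
          let f : X → X := fun u => ⟨g * u.1 * g⁻¹, hconjX g u⟩
          have hf : Function.Injective f := fun u v h => Subtype.ext (by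
            have := congrArg Subtype.val h
            simpa [f] using this)
          simp only [hKdef, cj, Finset.mul_sum, Finset.sum_mul, ← map_mul]
          exact Fintype.sum_bijective f (Finite.injective_iff_bijective.1 hf) _ _ fun u => rfl
        exact (LinearMap.congr_fun (commute_of_cj h1).eq v).symm
      rw [Module.finrank_fin_fun, hKdef, map_sum, Finset.sum_eq_zero] at htr
      · rw [hc, (mul_eq_zero.1 htr.symm).resolve_left hn0, zero_smul]
      · intro u _
        show ρ.character (u : G) = 0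
        rw [hρ]
        exact hvan _ u.2
    have hA := sm_orbit_reduce hQp hmin (fun u : X => a * ρ (u : G))
      (fun u => ha.1.mul (InE.single _)) fun q u => by
        show a * ρ ((q : G) * u.1 * (q : G)⁻¹) = _
        conv_lhs => rw [map_mul, map_mul]
        simp only [cj, ← mul_assoc]
        rw [(ha.2 q q.2).eq]
    rw [← tau_sum (ρ := ρ), ← Finset.mul_sum, hK, mul_zero,
      show tau ρ Q (0 : Module.End ℂ (Fin n → ℂ)) = 0 by simp [tau], zero_sub, sm_neg_iff] at hA
    set Oo := {u : G // orderOf u = p ∧ (∀ q ∈ Q, Commute q u) ∧ u ∉ Q}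
    set Oi := {u : G // orderOf u = p ∧ (∀ q ∈ Q, Commute q u) ∧ u ∈ Q}
    have hfix : ∀ u : X, (∀ q : Q, q • u = u) ↔ ∀ q ∈ Q, Commute q (u : G) := fun u =>
      ⟨fun h q hq => mul_inv_eq_iff_eq_mul.1 (congrArg Subtype.val (h ⟨q, hq⟩)),
        fun h q => Subtype.ext (by
          show (q : G) * u.1 * (q : G)⁻¹ = u.1
          rw [(h q q.2).eq, mul_inv_cancel_right])⟩
    have hsplit : ∑ u ∈ Finset.univ.filter (fun u : X => ∀ q : Q, q • u = u), tau ρ Q (a * ρ (u : G)) =
        ∑ u : Oi, tau ρ Q (a * ρ (u : G)) + ∑ u : Oo, tau ρ Q (a * ρ (u : G)) := by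
      rw [← Finset.sum_filter_add_sum_filter_not _ (fun u : X => (u : G) ∈ Q)]
      congr 1
      · refine (Finset.sum_bij (fun (u : Oi) _ => (⟨u.1, u.2.1⟩ : X)) ?_ ?_ ?_ fun _ _ => rfl).symm
        · exact fun u _ => Finset.mem_filter.2
            ⟨Finset.mem_filter.2 ⟨Finset.mem_univ _, (hfix _).2 u.2.2.1⟩, u.2.2.2⟩
        · exact fun u _ v _ h => Subtype.ext (congrArg Subtype.val h :)
        · intro u hu
          obtain ⟨h1, h2⟩ := Finset.mem_filter.1 hu
          exact ⟨⟨u.1, u.2, (hfix u).1 (Finset.mem_filter.1 h1).2, h2⟩, Finset.mem_univ _, rfl⟩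
      · refine (Finset.sum_bij (fun (u : Oo) _ => (⟨u.1, u.2.1⟩ : X)) ?_ ?_ ?_ fun _ _ => rfl).symm
        · exact fun u _ => Finset.mem_filter.2
            ⟨Finset.mem_filter.2 ⟨Finset.mem_univ _, (hfix _).2 u.2.2.1⟩, u.2.2.2⟩
        · exact fun u _ v _ h => Subtype.ext (congrArg Subtype.val h :)
        · intro u hu
          obtain ⟨h1, h2⟩ := Finset.mem_filter.1 hu
          exact ⟨⟨u.1, u.2, (hfix u).1 (Finset.mem_filter.1 h1).2, h2⟩, Finset.mem_univ _, rfl⟩
    have hA' : Sm M (∑ u : Oi, tau ρ Q (a * ρ (u : G)) + ∑ u : Oo, tau ρ Q (a * ρ (u : G))) := by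
      rw [← hsplit]
      convert hA
    clear hA
    rename' hA' => hA
    have hO : Sm M (∑ u : Oi, tau ρ Q (a * ρ (u : G))) := by
      have := hA.sub (sm_sum_outside hM hQp hmin ha ha1)
      rwa [add_sub_cancel_right] at this
    have hcard := (sm_natCast_iff hM _).1
      ((sm_iff_of_sub (sm_sum_inside hM hQp hmin ha ha1)).1 hO)
    -- the elements of order dividing `p` in the centre
    have : Nontrivial Q := (Subgroup.nontrivial_iff_ne_bot Q).2 hne
    have hcen : Nontrivial (Subgroup.center Q) := hQp.center_nontrivial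
    have hcm : ∀ z w : Subgroup.center Q, Commute z w := fun z w =>
      Subtype.ext (Subgroup.mem_center_iff.1 w.2 z)
    let κ : Subgroup (Subgroup.center Q) :=
      { carrier := {z | z ^ p = 1}
        one_mem' := one_pow p
        mul_mem' := fun {z w} (hz : z ^ p = 1) (hw : w ^ p = 1) => by
          show (z * w) ^ p = 1
          rw [(hcm z w).mul_pow, hz, hw, one_mul]
        inv_mem' := fun {z} (hz : z ^ p = 1) => by
          show z⁻¹ ^ p = 1
          rw [inv_pow, hz, inv_one] }
    have hκ : p ∣ Nat.card κ := by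
      obtain ⟨k, hk⟩ := (hQp.to_subgroup (Subgroup.center Q)).exists_card_eq
      have hdvd : p ∣ Nat.card (Subgroup.center Q) := by
        rw [hk]
        refine dvd_pow_self p fun h0 => ?_
        have := Finite.one_lt_card (α := Subgroup.center Q)
        rw [hk, h0, pow_zero] at this
        omega
      obtain ⟨z, hz⟩ := exists_prime_orderOf_dvd_card' p hdvd
      have hzκ : z ∈ κ := by
        show z ^ p = 1
        rw [← hz, pow_orderOf_eq_one]
      have := orderOf_dvd_natCard (⟨z, hzκ⟩ : κ)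
      rwa [Subgroup.orderOf_mk, hz] at this
    have hbij : Nat.card κ = Nat.card Oi + 1 := by
      have h1 : Nat.card {z : κ // z ≠ 1} = Nat.card Oi := by
        refine Nat.card_congr ⟨fun z => ⟨(((z : κ) : Subgroup.center Q) : Q), ?_, ?_, ?_⟩,
          fun u => ⟨⟨⟨⟨u.1, u.2.2.2⟩, ?_⟩, ?_⟩, ?_⟩, fun z => rfl, fun u => rfl⟩
        · refine orderOf_eq_prime ?_ fun h => z.2 (Subtype.ext (Subtype.ext (Subtype.ext h)))
          have h2 : ((z : κ) : Subgroup.center Q) ^ p = 1 := z.1.2
          exact_mod_cast congrArg (fun y : Subgroup.center Q => ((y : Q) : G)) h2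
        · intro q hq
          exact congrArg Subtype.val (Subgroup.mem_center_iff.1 z.1.1.2 ⟨q, hq⟩)
        · exact (((z : κ) : Subgroup.center Q) : Q).2
        · exact Subgroup.mem_center_iff.2 fun q => Subtype.ext (u.2.2.1 q q.2)
        · refine Subtype.ext (Subtype.ext ?_)
          show (u : G) ^ p = 1
          exact orderOf_dvd_iff_pow_eq_one.1 (dvd_of_eq u.2.1)
        · intro h
          have h2 : (u : G) = 1 := congrArg (fun y : κ => (((y : Subgroup.center Q) : Q) : G)) h
          exact hp.ne_one (u.2.1.symm.trans (orderOf_eq_one_iff.2 h2))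
      rw [← h1, Nat.card_eq_fintype_card, Nat.card_eq_fintype_card, Fintype.card_subtype_compl,
        Fintype.card_subtype_eq]
      have : 0 < Fintype.card κ := Fintype.card_pos
      omega
    rw [hbij] at hκ
    exact hp.not_dvd_one ((Nat.dvd_add_right hcard).1 hκ)
  subst hQ
  rw [hdn]
  have hle : n.factorization p ≤ (Nat.card G).factorization p :=
    hdn ▸ ClassAlgebraOmega.factorization_charDegree_le χ p
  refine le_antisymm hle (not_lt.1 fun hlt => not_sm_one (M := M) ?_)
  rw [← ha1, tau, Subgroup.card_bot, Nat.cast_one, mul_one]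
  obtain ⟨z, hz, hza⟩ := ha.1
  have htr : Int' M (LinearMap.trace ℂ _ a) := by
    rw [← hza, BlockTheoryCentre.eq_sum_single z, map_sum, map_sum]
    refine int'_sum _ fun g _ => ?_
    rw [Representation.asAlgebraHom_single, map_smul, smul_eq_mul]
    refine (hz g).mul (int'_of_isIntegral hM ?_)
    exact CharBasic.isCharacter_integral ⟨n, ρ, rfl⟩ g
  have hnn : n ≠ 0 := Nat.cast_ne_zero.1 hn0
  have h := ((natRatio hM hnn Nat.card_pos.ne' hle).2.2 hlt).mul_right htr
  convert h using 1
  ring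

end Cfsg.Agent.S0928
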