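import Cfsg.Statements.S0930
import Cfsg.Agent.Lib.BlockTheoryHeight
import Cfsg.Agent.Lib.BlockTheoryFirstMain

set_option autoImplicit false
open Cfsg

namespace Cfsg.Agent.S0930

/-- Let H be a subgroup of the finite group G and fix a maximal ideal M of the algebraic integers containing the prime p. If the block b of H with defect group D induces the block B of G with defect group P, then every element of the centre of P is conjugate in G to an element of the centre of D. -/
theorem result {G : Type*} [Group G] [Finite G] (p : ℕ) [Fact p.Prime] (M : Ideal Cfsg.AlgInt) (hM : Cfsg.IsPModular p M) (H : Subgroup G) (b : Set (Cfsg.IrrCharacter H)) (B : Set (Cfsg.IrrCharacter G)) (hind : Cfsg.IsInducedBlock M H b B) (D : Subgroup H) (hD : Cfsg.IsDefectGroup p M b D) (P : Subgroup G) (hP : Cfsg.IsDefectGroup p M B P) (x : G) (hx : x ∈ P) (hxc : ∀ w ∈ P, x * w = w * x) : ∃ g : G, g * x * g⁻¹ ∈ D.map H.subtype ∧ ∀ w ∈ D.map H.subtype, (g * x * g⁻¹) * w = w * (g * x * g⁻¹) := by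
  classical
  haveI := Fintype.ofFinite G
  haveI := Fintype.ofFinite H
  have hp : p.Prime := Fact.out
  obtain ⟨χ, hχ⟩ := BlockTheoryIdem.block_nonempty hM hind.2.1
  obtain ⟨ξ, hξ⟩ := BlockTheoryIdem.block_nonempty hM hind.1
  obtain ⟨y, hy, S, rfl⟩ := hP
  have hne := BlockTheoryHeight.centralChar_mul_not_ideal hM hind.2.1 hy S hx hxc hχ
  set w := BlockTheoryBrauer.res H (BlockTheoryCentre.classSum (x * y)) with hw
  have hω : ¬ MemLocalIdeal M (BlockTheoryCentre.omega (ξ : H → ℂ) w) := by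
    intro h
    refine hne ?_
    rw [← BlockTheoryCentre.omega_classSum (BlockTheoryCentre.irr_classFun χ)]
    have h2 := BlockTheoryInduced.inducedBlock_congr H hM hind hξ hχ
      (BlockTheoryCentre.isCen_classSum (x * y)) (BlockTheoryCentre.isInt_classSum hM (x * y))
    have := BlockTheoryLocalRing.ideal_sub hM h h2
    convert this using 1
    rw [hw]; ring
  obtain ⟨C, hC⟩ : ∃ C : ConjClasses H, ¬ MemLocalIdeal M
      (w.coeff C.out * centralChar (ξ : H → ℂ) C.out) := by
    by_contra! hall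
    refine hω ?_
    rw [hw, (BlockTheoryBrauer.isCen_res H (BlockTheoryCentre.isCen_classSum (x * y))).eq_sum_classSum,
      map_sum]
    refine BlockTheoryLocalRing.ideal_sum hM fun C _ => ?_
    rw [map_smul, smul_eq_mul,
      BlockTheoryCentre.omega_classSum (BlockTheoryCentre.irr_classFun ξ)]
    exact hall C
  set h : H := C.out
  have hconj : IsConj (x * y) (h : G) := by
    by_contra hn
    refine hC ?_
    rw [hw, BlockTheoryBrauer.coeff_res, BlockTheoryCentre.classSum, BlockTheoryCentre.coeff_ofFun,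
      if_neg hn, zero_mul]
    exact BlockTheoryLocalRing.ideal_zero hM
  obtain ⟨h', hh', -, hz⟩ := BlockTheoryFirstMain.exists_conj_pPart_center hM hind.1 hD
    ⟨ξ, hξ, fun hsmall => hC (BlockTheoryLocalRing.ideal_mul_left hM
      (BlockTheoryBrauer.isInt_res H (BlockTheoryCentre.isInt_classSum hM (x * y)) _) hsmall)⟩
  obtain ⟨zH, hzH⟩ := BlockTheoryIdem.exists_pPart (G := H) hp h'
  obtain ⟨hzD, hzc⟩ := hz zH hzH
  have hzG : IsPPart p (h' : G) (zH : G) := by
    obtain ⟨yH, hy', hc, ⟨k, hk⟩, hyr⟩ := hzH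
    exact ⟨yH, by rw [← hy']; rfl, hc.map H.subtype, ⟨k, by rw [Subgroup.orderOf_coe, hk]⟩,
      by rwa [Subgroup.orderOf_coe]⟩
  have hxy : IsConj (x * y) (h' : G) :=
    hconj.trans (by
      obtain ⟨c, hc⟩ := isConj_iff.mp hh'
      exact isConj_iff.mpr ⟨c, congrArg Subtype.val hc⟩)
  obtain ⟨g, hg⟩ := isConj_iff.mp hxy
  have hxy' : Commute x y :=
    Subgroup.mem_centralizer_singleton_iff.mp (BlockTheoryDefect.sylowIn_le S hx)
  have hpart : IsPPart p (h' : G) (g * x * g⁻¹) := by
    obtain ⟨k, hk⟩ := IsPGroup.iff_orderOf.mp (BlockTheoryDefect.isPGroup_sylowIn S) ⟨x, hx⟩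
    rw [Subgroup.orderOf_mk] at hk
    refine ⟨g * y * g⁻¹, ?_, ?_, ⟨k, ?_⟩, ?_⟩
    · rw [← hg]; group
    · have := hxy'.map (MulAut.conj g).toMonoidHom
      simpa using this
    · exact (orderOf_injective (MulAut.conj g).toMonoidHom (MulAut.conj g).injective x).trans hk
    · rw [show orderOf (g * y * g⁻¹) = orderOf y from
        orderOf_injective (MulAut.conj g).toMonoidHom (MulAut.conj g).injective y]
      exact BlockTheoryHeight.defectClass_regular hM hind.2.1 hy
  refine ⟨g, ?_, ?_⟩
  · exact ⟨zH, hzD, BlockTheoryIdem.pPart_unique hp hzG hpart⟩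
  · rintro _ ⟨v, hv, rfl⟩
    rw [← BlockTheoryIdem.pPart_unique hp hzG hpart]
    exact congrArg Subtype.val (hzc v hv)

end Cfsg.Agent.S0930
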