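import Cfsg.Statements.S0931
import Cfsg.Agent.S0930
import Cfsg.Agent.Lib.BlockContribBounds

set_option autoImplicit false
open Cfsg

namespace Cfsg.Agent.S0931

/-- Let H be a subgroup of the finite group G and fix a maximal ideal M of the algebraic integers containing the prime p. If the block b of H induces the block B of G, then b has defect 0 if and only if B has defect 0. -/
theorem result {G : Type*} [Group G] [Finite G] (p : ℕ) [Fact p.Prime] (M : Ideal Cfsg.AlgInt) (hM : Cfsg.IsPModular p M) (H : Subgroup G) (b : Set (Cfsg.IrrCharacter H)) (B : Set (Cfsg.IrrCharacter G)) (hind : Cfsg.IsInducedBlock M H b B) : Cfsg.blockDefect p b = 0 ↔ Cfsg.blockDefect p B = 0 := by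
  classical
  haveI := Fintype.ofFinite G
  haveI := Fintype.ofFinite H
  have hp : p.Prime := Fact.out
  obtain ⟨D, hD⟩ := BlockTheoryDefect.exists_defectGroup hM hind.1
  obtain ⟨P, hP⟩ := BlockTheoryDefect.exists_defectGroup hM hind.2.1
  have hDc := BlockContribBounds.card_defectGroup hM hind.1 hD
  have hPc := BlockContribBounds.card_defectGroup hM hind.2.1 hP
  constructor
  · intro h0
    rw [h0, pow_zero] at hDc
    by_contra hB0
    have hPne : (P : Subgroup G) ≠ ⊥ := fun h => hB0 (by
      rw [h, Subgroup.card_bot] at hPc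
      exact Nat.pow_right_injective hp.two_le (hPc.symm.trans (pow_zero p).symm))
    haveI : Nontrivial P := (Subgroup.nontrivial_iff_ne_bot _).2 hPne
    haveI := (BlockTheoryDefect.isPGroup_of_isDefectGroup hP).center_nontrivial
    obtain ⟨z, hz⟩ := exists_ne (1 : Subgroup.center P)
    obtain ⟨g, hg, -⟩ := S0930.result p M hM H b B hind D hD P hP ((z : P) : G) (z : P).2
      fun w hw => (congrArg Subtype.val (Subgroup.mem_center_iff.1 z.2 ⟨w, hw⟩)).symm
    rw [Subgroup.card_eq_one.mp hDc, Subgroup.map_bot, Subgroup.mem_bot] at hg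
    refine hz (Subtype.ext (Subtype.ext ?_))
    simpa [mul_inv_eq_one] using hg
  · intro h0
    rw [h0, pow_zero] at hPc
    have h := BlockTheoryDefect.card_le_of_conjLe
      (BlockTheoryDefect.inducedBlock_defect_le hM H hind hD hP)
    rw [hPc, Subgroup.card_map_of_injective Subtype.val_injective, hDc] at h
    by_contra hb0
    exact absurd h (not_le.2 (Nat.one_lt_pow hb0 hp.one_lt))

end Cfsg.Agent.S0931
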