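import Cfsg.Statements.S0932
import Cfsg.Agent.Lib.CharBasic

set_option autoImplicit false
open Cfsg

namespace Cfsg.Agent.S0932

/-- Let H be a subgroup of the finite group G and ξ a character of H. For every g ∈ G, the sum of ξ h / ξ 1 over the elements h ∈ H that are conjugate in G to g equals the central character at g of the character of G induced from ξ (class size times value divided by degree). -/
theorem result {G : Type*} [Group G] [Fintype G] (H : Subgroup G) (ξ : H → ℂ) (hξ : Cfsg.IsCharacter H ξ) (g : G) : Cfsg.inducedCentralChar H ξ g = Cfsg.centralChar (Cfsg.indFun H ξ) g := by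
  classical
  have hclass := CharBasic.isClassFunction_of_isCharacter hξ
  set n := (Subgroup.centralizer ({g} : Set G)).index with hn
  have hext : ∀ y : G, extendByZero H ξ y = if hy : y ∈ H then ξ ⟨y, hy⟩ else 0 := by
    intro y
    unfold extendByZero
    split_ifs with hy
    · exact Subtype.val_injective.extend_apply ξ 0 ⟨y, hy⟩
    · exact Function.extend_apply' _ _ _ (fun ⟨h, hh⟩ => hy (hh ▸ h.2))
  set S : ℂ := ∑ y : G, if IsConj g y then extendByZero H ξ y else 0 with hS
  have hfib : ∀ y : G, IsConj g y →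
      (Finset.univ.filter fun x : G => x⁻¹ * g * x = y).card =
        Nat.card (Subgroup.centralizer ({g} : Set G)) := by
    intro y hy
    obtain ⟨c, hc⟩ := isConj_iff.mp hy
    rw [← Fintype.card_subtype, ← Nat.card_eq_fintype_card]
    refine Nat.card_congr
      { toFun := fun x => ⟨(x : G) * c, Subgroup.mem_centralizer_singleton_iff.mpr ?_⟩
        invFun := fun u => ⟨(u : G) * c⁻¹, ?_⟩
        left_inv := fun x => Subtype.ext (by simp)
        right_inv := fun u => Subtype.ext (by simp) }
    · have h1 : (x : G)⁻¹ * g * x = c * g * c⁻¹ := x.2.trans hc.symm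
      calc (x : G) * c * g = x * (c * g * c⁻¹) * c := by group
        _ = x * ((x : G)⁻¹ * g * x) * c := by rw [h1]
        _ = g * (x * c) := by group
    · have h1 := Subgroup.mem_centralizer_singleton_iff.mp u.2
      calc ((u : G) * c⁻¹)⁻¹ * g * ((u : G) * c⁻¹) = c * ((u : G)⁻¹ * (g * u)) * c⁻¹ := by group
        _ = y := by rw [← h1, ← hc]; group
  have hsum : ∑ x : G, extendByZero H ξ (x⁻¹ * g * x) =
      (Nat.card (Subgroup.centralizer ({g} : Set G)) : ℂ) * S := by
    rw [← Finset.sum_fiberwise Finset.univ (fun x : G => x⁻¹ * g * x), hS, Finset.mul_sum]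
    refine Finset.sum_congr rfl fun y _ => ?_
    rw [Finset.sum_congr rfl (g := fun _ => extendByZero H ξ y) fun x hx => by
      rw [(Finset.mem_filter.mp hx).2], Finset.sum_const, nsmul_eq_mul]
    split_ifs with hy
    · rw [hfib y hy]
    · rw [Finset.filter_false_of_mem fun x _ hx => hy (isConj_iff.mpr ⟨x⁻¹, by simpa using hx⟩)]
      simp
  have hone : ∑ x : G, extendByZero H ξ (x⁻¹ * 1 * x) = (Nat.card G : ℂ) * ξ 1 := by
    rw [Finset.sum_congr rfl (g := fun _ => ξ 1) fun x _ => ?_, Finset.sum_const, nsmul_eq_mul,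
      Finset.card_univ, Nat.card_eq_fintype_card]
    rw [mul_one, inv_mul_cancel, hext, dif_pos H.one_mem]
    rfl
  have hRHS : inducedCentralChar H ξ g = S / ξ 1 := by
    haveI := Fintype.ofFinite H
    rw [inducedCentralChar, hS, Finset.sum_div, ← finsum_eq_sum_of_fintype]
    symm
    rw [finsum_eq_sum_of_fintype, ← Finset.sum_filter_of_ne (p := fun y => y ∈ H)
      (fun y _ hy => by_contra fun hyH => hy (by rw [hext, dif_neg hyH]; simp)),
      ← Finset.sum_subtype_eq_sum_filter]
    rw [finsum_eq_sum_of_fintype]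
    refine Finset.sum_congr (by ext; simp) fun y _ => ?_
    rw [finsum_eq_if]
    simp only [Set.mem_setOf_eq]
    split_ifs <;> simp [hext]
  have hG : (Nat.card G : ℂ) = (Nat.card (Subgroup.centralizer ({g} : Set G)) : ℂ) * n := by
    rw [hn, ← Nat.cast_mul, Subgroup.card_mul_index]
  rw [hRHS, centralChar, indFun, indFun, hsum, hone, ← hn, hG]
  have hC : (Nat.card (Subgroup.centralizer ({g} : Set G)) : ℂ) ≠ 0 :=
    Nat.cast_ne_zero.mpr Nat.card_pos.ne'
  have hH : (Nat.card H : ℂ) ≠ 0 := Nat.cast_ne_zero.mpr Nat.card_pos.ne'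
  have hn0 : (n : ℂ) ≠ 0 := Nat.cast_ne_zero.mpr Subgroup.index_ne_zero_of_finite
  field_simp

end Cfsg.Agent.S0932
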