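import Cfsg.Statements.S0933
import Cfsg.Agent.Lib.BlockTheoryInduced
import Cfsg.Agent.S0932

set_option autoImplicit false
open Cfsg

namespace Cfsg.Agent.S0933

/-- Let H be a subgroup of the finite group G and ξ an irreducible character of H such that the induced function ξ^G is an irreducible character of G. Then, relative to any maximal ideal M of the algebraic integers containing the prime p, the block of ξ induces the block of ξ^G. -/
theorem result {G : Type*} [Group G] [Fintype G] (p : ℕ) [Fact p.Prime] (M : Ideal Cfsg.AlgInt) (hM : Cfsg.IsPModular p M) (H : Subgroup G) (ξ : Cfsg.IrrCharacter H) (hind : Cfsg.IsIrrCharacter G (Cfsg.indFun H (ξ : H → ℂ))) : Cfsg.IsInducedBlock M H (Cfsg.blockOf M (ξ : H → ℂ)) (Cfsg.blockOf M (Cfsg.indFun H (ξ : H → ℂ))) := by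
  classical
  set η : Cfsg.IrrCharacter G := ⟨Cfsg.indFun H (ξ : H → ℂ), hind⟩ with hη
  refine ⟨BlockTheoryIdem.isPBlock_blockOf ξ, ⟨η, rfl⟩, fun ζ hζ χ hχ g => ?_⟩
  have h1 := BlockTheoryIdem.omega_sub_mem hM (BlockTheoryIdem.sameBlock_symm hζ)
    (BlockTheoryBrauer.isCen_res H (BlockTheoryCentre.isCen_classSum g))
    (BlockTheoryBrauer.isInt_res H (BlockTheoryCentre.isInt_classSum hM g))
  rw [BlockTheoryBrauer.omega_res_classSum, BlockTheoryBrauer.omega_res_classSum] at h1
  have h2 : Cfsg.inducedCentralChar H (ξ : H → ℂ) g = Cfsg.centralChar (η : G → ℂ) g :=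
    Cfsg.Agent.S0932.result H (ξ : H → ℂ) (CharBasic.isCharacter_of_isIrrCharacter ξ.2) g
  rw [h2] at h1
  have h3 : MemLocalIdeal M (Cfsg.centralChar (η : G → ℂ) g - Cfsg.centralChar (χ : G → ℂ) g) := hχ g
  have := BlockTheoryLocalRing.ideal_add hM h1 h3
  rwa [sub_add_sub_cancel] at this

end Cfsg.Agent.S0933
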