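import Cfsg.Statements.S0934
import Cfsg.Agent.Lib.BlockTheoryInduced
import Cfsg.Agent.S0932
import Cfsg.Agent.Lib.CharInducedBasic

set_option autoImplicit false
open Cfsg

namespace Cfsg.Agent.S0934

/-- Let H be a subgroup of the finite group G and fix a maximal ideal M of the algebraic integers containing the prime p. If the block b of H induces the block B of G and ξ ∈ b, then there is χ ∈ B whose restriction to H has nonzero inner product with ξ. -/
theorem result {G : Type*} [Group G] [Fintype G] (p : ℕ) [Fact p.Prime] (M : Ideal Cfsg.AlgInt) (hM : Cfsg.IsPModular p M) (H : Subgroup G) [Fintype H] (b : Set (Cfsg.IrrCharacter H)) (B : Set (Cfsg.IrrCharacter G)) (hind : Cfsg.IsInducedBlock M H b B) (ξ : Cfsg.IrrCharacter H) (hξ : ξ ∈ b) : ∃ χ ∈ B, Cfsg.classInner (fun h : H => (χ : G → ℂ) h) (ξ : H → ℂ) ≠ 0 := by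
  classical
  set f := Cfsg.indFun H (ξ : H → ℂ) with hf
  have hfc : Cfsg.IsClassFunction G f := CharInduced.isClassFunction_ind H _
  have hkey : BlockTheoryCentre.omega (ξ : H → ℂ)
      (BlockTheoryBrauer.res H (BlockTheoryCentre.idem B)) =
      BlockTheoryCentre.omega f (BlockTheoryCentre.idem B) := by
    rw [(BlockTheoryCentre.isCen_idem B).eq_sum_classSum, map_sum, map_sum, map_sum]
    refine Finset.sum_congr rfl fun C _ => ?_
    rw [map_smul, map_smul, map_smul, BlockTheoryBrauer.omega_res_classSum,
      BlockTheoryCentre.omega_classSum hfc,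
      Cfsg.Agent.S0932.result H (ξ : H → ℂ) (CharBasic.isCharacter_of_isIrrCharacter ξ.2) C.out]
  obtain ⟨χ₀, hχ₀⟩ := BlockTheoryIdem.block_nonempty hM hind.2.1
  have h1 := BlockTheoryInduced.inducedBlock_congr H hM hind hξ hχ₀ (BlockTheoryCentre.isCen_idem B)
    (BlockTheoryIdem.isInt_idem hM hind.2.1)
  rw [BlockTheoryCentre.omega_idem, if_pos hχ₀, hkey] at h1
  by_contra hall
  push_neg at hall
  refine BlockTheoryLocalRing.one_not_ideal hM ?_
  suffices h0 : BlockTheoryCentre.chiSum f (BlockTheoryCentre.idem B) = 0 by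
    rw [BlockTheoryCentre.omega_apply, h0, mul_zero, zero_sub] at h1
    simpa using BlockTheoryLocalRing.ideal_neg h1
  rw [BlockTheoryCentre.chiSum_apply]
  have hexp := CharBasicOrth.eq_sum_classInner hfc
  rw [hexp]
  simp only [Finset.sum_apply, Pi.smul_apply, smul_eq_mul, Finset.mul_sum]
  rw [Finset.sum_comm]
  refine Finset.sum_eq_zero fun χ _ => ?_
  calc _ = Cfsg.classInner f (χ : G → ℂ) *
        BlockTheoryCentre.chiSum (χ : G → ℂ) (BlockTheoryCentre.idem B * 1) := by
        rw [mul_one, BlockTheoryCentre.chiSum_apply, Finset.mul_sum]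
        exact Finset.sum_congr rfl fun x _ => by ring
    _ = 0 := by
        rw [BlockTheoryCentre.chiSum_idem_mul]
        split_ifs with hχ
        · rw [hf, CharInduced.inner_ind_left H _ (BlockTheoryCentre.irr_classFun χ),
            ← CharBasicOrth.conj_classInner (fun h : H => (χ : G → ℂ) h), hall χ hχ, map_zero,
            zero_mul]
        · rw [mul_zero]

end Cfsg.Agent.S0934
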