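import Cfsg.Statements.S0935
import Cfsg.Agent.Lib.BrauerBlocksHeight

set_option autoImplicit false
open Cfsg Cfsg.Agent.BrauerBlocksVal Cfsg.Agent.BrauerBlocksCentral Cfsg.Agent.BrauerBlocksBasic Cfsg.Agent.BrauerBlocksPPart Cfsg.Agent.BrauerBlocksPerm Cfsg.Agent.BrauerBlocksOrth Cfsg.Agent.CharBasic Cfsg.Agent.CharBasicOrth Cfsg.Agent.BrauerBlocksHeight Cfsg.Agent.CharBasicDecomp
open scoped ComplexConjugate

namespace Cfsg.Agent.S0935

/-- Let H be a subgroup of the finite group G and χ an irreducible character of G whose restriction to H is irreducible; fix a maximal ideal M of the algebraic integers containing the prime p and suppose χ and its restriction have height zero in their blocks B and b. If e is a block of H whose induced block is defined, then e induces B if and only if e = b. -/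
theorem result {G : Type*} [Group G] [Finite G] (p : ℕ) [Fact p.Prime] (M : Ideal Cfsg.AlgInt) (hM : Cfsg.IsPModular p M) (H : Subgroup G) (χ : Cfsg.IrrCharacter G) (hres : Cfsg.IsIrrCharacter H (fun h : H => (χ : G → ℂ) h)) (hχ0 : Cfsg.blockHeight p (Cfsg.blockOf M (χ : G → ℂ)) (χ : G → ℂ) = 0) (hψ0 : Cfsg.blockHeight p (Cfsg.blockOf M (fun h : H => (χ : G → ℂ) h)) (fun h : H => (χ : G → ℂ) h) = 0) (e : Set (Cfsg.IrrCharacter H)) (he : Cfsg.InducedBlockDefined M H e) : Cfsg.IsInducedBlock M H e (Cfsg.blockOf M (χ : G → ℂ)) ↔ e = Cfsg.blockOf M (fun h : H => (χ : G → ℂ) h) := by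
  classical
  have := Fintype.ofFinite G
  have := Fintype.ofFinite H
  set ψ : Cfsg.IrrCharacter H := ⟨fun h : H => (χ : G → ℂ) h, hres⟩ with hψ
  have hψ' : (fun h : H => (χ : G → ℂ) h) = (ψ : H → ℂ) := rfl
  rw [hψ'] at hψ0 ⊢
  have hval : ∀ ξ : Cfsg.IrrCharacter H,
      (∑ h : H, (regZ p (χ : G → ℂ)).coeff h * (ξ : H → ℂ) h) / (ξ : H → ℂ) 1 =
      om (ξ : H → ℂ) (regZ p (ψ : H → ℂ)) := fun ξ => by
    rw [sum_regZ_sub, om_regZ, hψ']
  have hχB : χ ∈ Cfsg.blockOf M (χ : G → ℂ) := mem_blockOf_self hM χ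
  obtain ⟨B, he', hB, hcong⟩ := he
  constructor
  · rintro ⟨-, -, hc⟩
    obtain ⟨ξ, hξ⟩ := block_nonempty hM he'
    have key := induced_congr hM H ξ χ (fun g => hc ξ hξ χ hχB g) (zr_regZ hM χ)
    rw [hval] at key
    by_contra hne
    refine om_regZ_unit hM (isPBlock_blockOf χ) hχB hχ0 hχB ((sm_iff_of_sub key).1 ?_)
    rw [om_regZ, regPair_eq_zero hM (fun hs => hne ?_), zero_div]
    · exact sm_zero
    · rw [block_eq_blockOf hM he' hξ]
      exact (blockOf_eq_of_mem hM (χ := ξ) hs).symm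
  · intro hee
    refine ⟨he', isPBlock_blockOf χ, ?_⟩
    have hψe : ψ ∈ e := hee ▸ mem_blockOf_self hM ψ
    have hBB : B = Cfsg.blockOf M (χ : G → ℂ) := by
      obtain ⟨φ, hφ⟩ := block_nonempty hM hB
      have key := induced_congr hM H ψ φ (fun g => hcong ψ hψe φ hφ g) (zr_regZ hM χ)
      rw [hval] at key
      by_contra hne
      refine om_regZ_unit hM he' hψe (hee ▸ hψ0) hψe ((sm_iff_of_sub key).2 ?_)
      rw [om_regZ, regPair_eq_zero hM (fun hs => hne ?_), zero_div]
      · exact sm_zero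
      · rw [block_eq_blockOf hM hB hφ]
        exact (blockOf_eq_of_mem hM (χ := φ) hs).symm
    rw [← hBB]
    exact hcong

end Cfsg.Agent.S0935
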