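import Cfsg.Statements.S0936
import Cfsg.Agent.Lib.BrauerBlocksRegular
import Cfsg.Agent.Lib.CharBasicDecomp

set_option autoImplicit false
open Cfsg Cfsg.Agent.BrauerBlocksRegular Cfsg.Agent.BrauerBlocksVal Cfsg.Agent.BrauerBlocksCentral Cfsg.Agent.BrauerBlocksBasic Cfsg.Agent.BrauerBlocksPPart Cfsg.Agent.BrauerBlocksPerm Cfsg.Agent.BrauerBlocksOrth Cfsg.Agent.CharBasic Cfsg.Agent.CharBasicOrth Cfsg.Agent.CharBasicDecomp
open scoped ComplexConjugate

namespace Cfsg.Agent.S0936

/-- Brauer's Third Main Theorem. Let H be a subgroup of the finite group G and b a block of H (relative to a maximal ideal M of the algebraic integers containing the prime p) whose induced block in G is defined. Then b induces the principal block of G if and only if b is the principal block of H. -/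
theorem result {G : Type*} [Group G] [Finite G] (p : ℕ) [Fact p.Prime] (M : Ideal Cfsg.AlgInt) (hM : Cfsg.IsPModular p M) (H : Subgroup G) (b : Set (Cfsg.IrrCharacter H)) (hdef : Cfsg.InducedBlockDefined M H b) : Cfsg.IsInducedBlock M H b (Cfsg.principalBlock M G) ↔ b = Cfsg.principalBlock M H := by
  classical
  have := Fintype.ofFinite G
  have := Fintype.ofFinite H
  let oneG : Cfsg.IrrCharacter G := ⟨fun _ => 1, isIrrCharacter_one⟩
  let oneH : Cfsg.IrrCharacter H := ⟨fun _ => 1, isIrrCharacter_one⟩
  have hBG : IsPBlock M (principalBlock M G) := ⟨oneG, rfl⟩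
  obtain ⟨B, hb, hB, hcong⟩ := hdef
  constructor
  · rintro ⟨-, -, hc⟩
    obtain ⟨ξ, hξ⟩ := block_nonempty hM hb
    have hkey := regSum_congr hM H ξ oneG (fun g => hc ξ hξ oneG (sameBlock_refl hM _) g)
    by_contra hne
    have h0 : ¬ SameBlock M (ξ : H → ℂ) (oneH : H → ℂ) := fun hs => hne <| by
      rw [block_eq_blockOf hM hb hξ]
      exact (blockOf_eq_of_mem hM (χ := ξ) hs).symm
    rw [regSum_eq_zero hM ξ oneH rfl h0, zero_sub, sm_neg_iff, regSum_one oneG rfl] at hkey
    exact not_sm_natCast_of_coprime hM (not_dvd_regCard hM) hkey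
  · intro hbp
    have hone : oneH ∈ b := by rw [hbp]; exact sameBlock_refl hM _
    refine ⟨hb, hBG, ?_⟩
    have hBB : B = principalBlock M G := by
      obtain ⟨χ, hχ⟩ := block_nonempty hM hB
      have hkey := regSum_congr hM H oneH χ (fun g => hcong oneH hone χ hχ g)
      by_contra hne
      have h0 : ¬ SameBlock M (χ : G → ℂ) (oneG : G → ℂ) := fun hs => hne <| by
        rw [block_eq_blockOf hM hB hχ]
        exact (blockOf_eq_of_mem hM (χ := χ) hs).symm
      rw [regSum_eq_zero hM χ oneG rfl h0, sub_zero, regSum_one oneH rfl] at hkey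
      exact not_sm_natCast_of_coprime hM (not_dvd_regCard hM) hkey
    rw [← hBB]
    exact hcong

end Cfsg.Agent.S0936
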