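import Cfsg.Statements.S0937
import Cfsg.Agent.Lib.BrauerBlocksHeight

set_option autoImplicit false
open Cfsg Cfsg.Agent.BrauerBlocksVal Cfsg.Agent.BrauerBlocksCentral Cfsg.Agent.BrauerBlocksBasic Cfsg.Agent.BrauerBlocksPPart Cfsg.Agent.BrauerBlocksPerm Cfsg.Agent.BrauerBlocksOrth Cfsg.Agent.CharBasic Cfsg.Agent.CharBasicOrth Cfsg.Agent.BrauerBlocksHeight Cfsg.Agent.CharBasicDecomp
open scoped ComplexConjugate

namespace Cfsg.Agent.S0937

/-- Let H be a subgroup of the finite group G and fix a maximal ideal M of the algebraic integers containing the prime p. If the block b of H induces the block B of G and χ ∈ B has height zero, then there is ξ ∈ b of height zero whose multiplicity in the restriction of χ to H is a natural number not divisible by p. -/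
theorem result {G : Type*} [Group G] [Fintype G] (p : ℕ) [Fact p.Prime] (M : Ideal Cfsg.AlgInt) (hM : Cfsg.IsPModular p M) (H : Subgroup G) [Fintype H] (b : Set (Cfsg.IrrCharacter H)) (B : Set (Cfsg.IrrCharacter G)) (hind : Cfsg.IsInducedBlock M H b B) (χ : Cfsg.IrrCharacter G) (hχ : χ ∈ B) (h0 : Cfsg.blockHeight p B (χ : G → ℂ) = 0) : ∃ ξ ∈ b, Cfsg.blockHeight p b (ξ : H → ℂ) = 0 ∧ ∃ n : ℕ, Cfsg.classInner (fun h : H => (χ : G → ℂ) h) (ξ : H → ℂ) = (n : ℂ) ∧ ¬ p ∣ n := by
  classical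
  obtain ⟨hb, hB, hcong⟩ := hind
  obtain ⟨ξ, hξ⟩ := block_nonempty hM hb
  obtain ⟨c, hc, hc1, hexp⟩ : ∃ (c : Cfsg.IrrCharacter H → ℕ) (_ : ∀ η : Cfsg.IrrCharacter H,
      Cfsg.classInner (fun h : H => (χ : G → ℂ) h) (η : H → ℂ) = (c η : ℂ)), True ∧
      (fun h : H => (χ : G → ℂ) h) = ∑ η, (c η : ℂ) • (η : H → ℂ) := by
    have hch := isCharacter_comap H.subtype (isCharacter_of_isIrrCharacter χ.2)
    choose c hc using fun η : Cfsg.IrrCharacter H =>
      classInner_isCharacter hch (isCharacter_of_isIrrCharacter η.2)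
    refine ⟨c, hc, trivial, ?_⟩
    conv_lhs => rw [eq_sum_classInner (isClassFunction_of_isCharacter hch : Cfsg.IsClassFunction H (fun h : H => (χ : G → ℂ) h))]
    exact Finset.sum_congr rfl fun η _ => by rw [← hc]; rfl
  have key := induced_congr hM H ξ χ (fun g => hcong ξ hξ χ hχ g) (zr_regZ hM χ)
  have hval : (∑ h : H, (regZ p (χ : G → ℂ)).coeff h * (ξ : H → ℂ) h) / (ξ : H → ℂ) 1 =
      ∑ η : Cfsg.IrrCharacter H, (c η : ℂ) * om (ξ : H → ℂ) (regZ p (η : H → ℂ)) := by
    rw [sum_regZ_sub, hexp]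
    simp only [om_regZ, regPair, Finset.sum_apply, Pi.smul_apply, smul_eq_mul, Finset.mul_sum,
      Finset.sum_div]
    rw [Finset.sum_comm]
    refine Finset.sum_congr rfl fun η _ => Finset.sum_congr rfl fun x _ => by ring
  rw [hval] at key
  have hu : ¬ Sm M (∑ η : Cfsg.IrrCharacter H, (c η : ℂ) * om (ξ : H → ℂ) (regZ p (η : H → ℂ))) :=
    fun hs => om_regZ_unit hM hB hχ h0 hχ ((sm_iff_of_sub key).1 hs)
  by_contra hne
  push Not at hne
  refine hu (sm_sum _ fun η _ => ?_)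
  by_cases hη : η ∈ b
  · by_cases hη0 : Cfsg.blockHeight p b (η : H → ℂ) = 0
    · exact ((sm_natCast_iff hM _).2 (hne η hη hη0 (c η) (hc η))).mul_right
        (om_int hM ξ (zr_regZ hM η).isC (zr_regZ hM η).int)
    · exact (om_regZ_small hM hb hη hη0 hξ).mul_left (int'_natCast _)
  · rw [om_regZ, regPair_eq_zero hM (fun hs => hη (by rw [block_eq_blockOf hM hb hξ]; exact hs)),
      zero_div, mul_zero]
    exact sm_zero

end Cfsg.Agent.S0937
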