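import Cfsg.Statements.S0938
import Cfsg.Agent.Lib.BlockTheoryNormal

set_option autoImplicit false
open Cfsg

namespace Cfsg.Agent.S0938

/-- Let B be a block of the finite group G relative to a maximal ideal M of the algebraic integers containing the prime p, and let χ ∈ B. Then the kernel of B (the set of g with ψ g = ψ 1 for all ψ ∈ B) is a normal subgroup of order prime to p contained in the kernel of χ, and it contains every normal subgroup of order prime to p on which χ takes the value χ(1); that is, it is O_p' of the kernel of χ. -/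
theorem result {G : Type*} [Group G] [Finite G] (p : ℕ) [Fact p.Prime] (M : Ideal Cfsg.AlgInt) (hM : Cfsg.IsPModular p M) (B : Set (Cfsg.IrrCharacter G)) (hB : Cfsg.IsPBlock M B) (χ : Cfsg.IrrCharacter G) (hχ : χ ∈ B) : ∃ K : Subgroup G, K.Normal ∧ (K : Set G) = Cfsg.blockKer B ∧ ¬ p ∣ Nat.card K ∧ (∀ g ∈ K, (χ : G → ℂ) g = (χ : G → ℂ) 1) ∧ ∀ N : Subgroup G, N.Normal → ¬ p ∣ Nat.card N → (∀ g ∈ N, (χ : G → ℂ) g = (χ : G → ℂ) 1) → N ≤ K := by
  classical
  haveI := Fintype.ofFinite G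
  have hch : ∀ ψ : IrrCharacter G, Cfsg.IsCharacter G (ψ : G → ℂ) :=
    fun ψ => CharBasic.isCharacter_of_isIrrCharacter ψ.2
  let K : Subgroup G := ⨅ ψ ∈ B, CharBasicLinear.charKer (ψ : G → ℂ) (hch ψ)
  have hKset : (K : Set G) = blockKer B := by
    ext g
    simp only [K, Subgroup.coe_iInf, Set.mem_iInter]
    rfl
  have hmem : ∀ g, g ∈ K ↔ ∀ ψ ∈ B, (ψ : G → ℂ) g = (ψ : G → ℂ) 1 := fun g => by
    rw [← SetLike.mem_coe, hKset]; rfl
  refine ⟨K, ⟨fun g hg h => (hmem _).mpr fun ψ hψ =>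
    (BlockTheoryCentre.irr_classFun ψ g h).trans ((hmem g).mp hg ψ hψ)⟩, hKset, ?_,
    fun g hg => (hmem g).mp hg χ hχ, fun N hN hNp hNχ g hg => (hmem g).mpr ?_⟩
  · intro hdvd
    obtain ⟨y, hy⟩ := exists_prime_orderOf_dvd_card' p hdvd
    have h := BlockTheoryIdem.weak_orthogonality hM hB (x := 1) (y := (y : G))
      (by simpa using hM.1.ne_one) (by rw [Subgroup.orderOf_coe, hy])
    have h' := congrArg Complex.re h
    rw [Complex.re_sum, Complex.zero_re] at h'
    have hpos : ∀ ψ : IrrCharacter G, 0 ≤ (if ψ ∈ B then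
        (ψ : G → ℂ) 1 * starRingEnd ℂ ((ψ : G → ℂ) (y : G)) else 0).re := by
      intro ψ
      split_ifs with hψ
      · obtain ⟨d, hd⟩ := CharBasic.isCharacter_apply_one (hch ψ)
        rw [(hmem _).mp y.2 ψ hψ, hd, map_natCast, ← Nat.cast_mul, Complex.natCast_re]
        exact Nat.cast_nonneg _
      · simp
    have h2 := (Finset.sum_eq_zero_iff_of_nonneg fun ψ _ => hpos ψ).mp h' χ (Finset.mem_univ _)
    rw [if_pos hχ, (hmem _).mp y.2 χ hχ] at h2
    obtain ⟨d, hdpos, hd⟩ := CharBasic.isIrrCharacter_apply_one χ.2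
    rw [hd, map_natCast, ← Nat.cast_mul, Complex.natCast_re, Nat.cast_eq_zero] at h2
    exact (Nat.mul_ne_zero hdpos.ne' hdpos.ne') h2
  · intro ψ hψ
    haveI := hN
    rw [BlockTheoryIdem.eq_blockOf_of_mem hM hB hχ] at hψ
    exact BlockTheoryNormal.blockOf_subset_trivialOn N hM hNp hNχ hψ g hg

end Cfsg.Agent.S0938
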