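import Cfsg.Statements.S0939
import Cfsg.Agent.Lib.BlockTheoryNormal
import Cfsg.Agent.Lib.CharBasicDecomp

set_option autoImplicit false
open Cfsg

namespace Cfsg.Agent.S0939

/-- Let G be a finite group with a normal p-complement (the largest normal subgroup O_p'(G) of order prime to p has p-power index). Then, relative to any maximal ideal M of the algebraic integers containing p, the principal block of G is the set of irreducible characters χ with χ n = χ 1 for every n ∈ O_p'(G). -/
theorem result {G : Type*} [Group G] [Finite G] (p : ℕ) [Fact p.Prime] (M : Ideal Cfsg.AlgInt) (hM : Cfsg.IsPModular p M) (hnc : ∃ k : ℕ, (Cfsg.pPrimeCore p G).index = p ^ k) : Cfsg.principalBlock M G = {χ : Cfsg.IrrCharacter G | ∀ n ∈ Cfsg.pPrimeCore p G, (χ : G → ℂ) n = (χ : G → ℂ) 1} := by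
  classical
  haveI := Fintype.ofFinite G
  haveI := HallCore.pPrimeCore_normal p G
  set N := Cfsg.pPrimeCore p G with hN
  have hNp : ¬ p ∣ Nat.card N := HallCore.not_dvd_card_pPrimeCore p G
  obtain ⟨k, hk⟩ := hnc
  set one : Cfsg.IrrCharacter G := ⟨fun _ => 1, CharBasicDecomp.isIrrCharacter_one⟩ with hone
  have hB0 : Cfsg.IsPBlock M (Cfsg.principalBlock M G) := ⟨one, rfl⟩
  have hB0mem : one ∈ Cfsg.principalBlock M G := BlockTheoryIdem.self_mem_blockOf hM one
  refine Set.Subset.antisymm
    (BlockTheoryNormal.blockOf_subset_trivialOn N hM hNp (χ := one) fun n _ => rfl) fun χ hχ => ?_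
  have hreg : ∀ g : G, ¬ p ∣ orderOf g → g ∈ N := by
    intro g hg
    rw [← QuotientGroup.eq_one_iff]
    refine orderOf_eq_one_iff.mp (Nat.eq_one_of_dvd_coprimes
      ((Nat.Coprime.pow_right k ((Fact.out : p.Prime).coprime_iff_not_dvd.mpr hg).symm))
      (orderOf_map_dvd (QuotientGroup.mk' N) g) ?_)
    rw [← hk, Subgroup.index_eq_card]
    exact orderOf_dvd_natCard _
  refine BlockTheoryIdem.sameBlock_symm (BlockTheoryNormal.sameBlock_of_regular hM (χ := χ) (ψ := one) fun g hg => ?_)
  have h1 : (χ : G → ℂ) g = (χ : G → ℂ) 1 := hχ g (hreg g hg)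
  simp only [centralChar, hone, h1]
  rw [mul_div_assoc, div_self (BlockTheoryCentre.irr_one_ne_zero χ), mul_one, div_one,
    sub_self]
  exact BlockTheoryLocalRing.ideal_zero hM

end Cfsg.Agent.S0939
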