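import Cfsg.Statements.S0940
import Cfsg.Agent.Lib.BrauerBlocksHeight
import Cfsg.Agent.Lib.BrauerBlocksRegular
import Cfsg.Agent.Lib.BlockTheoryRotation

set_option autoImplicit false
open Cfsg Cfsg.Agent.BrauerBlocksVal Cfsg.Agent.BrauerBlocksCentral Cfsg.Agent.BrauerBlocksBasic Cfsg.Agent.BrauerBlocksPPart Cfsg.Agent.BrauerBlocksPerm Cfsg.Agent.BrauerBlocksOrth Cfsg.Agent.CharBasic Cfsg.Agent.CharBasicOrth Cfsg.Agent.BrauerBlocksHeight Cfsg.Agent.CharBasicDecomp Cfsg.Agent.BrauerBlocksRegular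
open scoped ComplexConjugate

namespace Cfsg.Agent.S0940

/-- High `p`-power exponents make congruent numbers congruent to high precision. -/
theorem exists_uniform_exp {p : ℕ} {M : Ideal Cfsg.AlgInt} (hM : Cfsg.IsPModular p M)
    {ι : Type*} [Finite ι] (w : ι → ℂ) (hw : ∀ i, w i ∈ AlgNum) (n b : ℕ) :
    ∃ j₀ : ℕ, ∀ i, Sm M (w i - (n : ℂ)) → ¬ Sm M (n : ℂ) → ∀ j ≥ j₀,
      ∃ r, Int' M r ∧ w i ^ p ^ j - (n : ℂ) ^ p ^ j = (p : ℂ) ^ b * r := by
  have : Fintype ι := Fintype.ofFinite ι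
  obtain ⟨N, hN, hNr⟩ := exists_uniform_pow hM (fun i => w i - (n : ℂ))
    (fun i => sub_mem (hw i) (algNum_natCast n)) 1
  refine ⟨N + b, fun i hi _ j hj => ?_⟩
  obtain ⟨r, hr, hdr⟩ := hNr i hi
  have hwi : Int' M (w i) := (int'_iff_of_sub hi).2 (int'_natCast n)
  let x : vs M := ⟨w i, hwi⟩
  let y : vs M := ⟨(n : ℂ), int'_natCast n⟩
  have hfirst : (p : vs M) ∣ x ^ p ^ N - y ^ p ^ N := by
    obtain ⟨s, hs⟩ := exists_add_pow_prime_pow_eq hM.1 (x - y) y N
    rw [sub_add_cancel] at hs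
    have hd : (p : vs M) ∣ (x - y) ^ p ^ N := by
      refine dvd_trans ?_ (pow_dvd_pow (x - y) (Nat.lt_pow_self hM.1.one_lt (n := N)).le)
      exact ⟨⟨r, hr⟩, Subtype.ext (by simpa [x, y] using hdr)⟩
    rw [hs, show (x - y) ^ p ^ N + y ^ p ^ N + (p : vs M) * (x - y) * y * s - y ^ p ^ N =
      (x - y) ^ p ^ N + (p : vs M) * ((x - y) * y * s) by ring]
    exact dvd_add hd (dvd_mul_right _ _)
  have h2 := dvd_sub_pow_of_dvd_sub hfirst (j - N)
  rw [← pow_mul, ← pow_mul, ← pow_add, Nat.add_sub_cancel' (by omega : N ≤ j)] at h2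
  obtain ⟨t, ht⟩ := (pow_dvd_pow (p : vs M) (by omega : b ≤ j - N + 1)).trans h2
  exact ⟨t, t.2, by simpa [x, y] using congrArg Subtype.val ht⟩

theorem natCast_pow_congr {p : ℕ} {M : Ideal Cfsg.AlgInt} (hM : Cfsg.IsPModular p M) (n j : ℕ) :
    Sm M ((n : ℂ) ^ p ^ j - (n : ℂ)) := by
  have : Fact p.Prime := ⟨hM.1⟩
  have h : ((n ^ p ^ j : ℕ) : ℤ) ≡ (n : ℤ) [ZMOD p] := by
    rw [← ZMod.intCast_eq_intCast_iff]
    push_cast
    exact ZMod.pow_card_pow _
  have h2 := (sm_intCast_iff hM _).2 (Int.modEq_iff_dvd.1 h.symm)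
  push_cast at h2
  exact h2

open Cfsg.Agent.BlockTheoryRotation in
/-- The coefficient at one of a `p`-power of a zero-one element. -/
theorem coeff_pow_one_congr {G : Type*} [Group G] [Fintype G] {p : ℕ} {M : Ideal Cfsg.AlgInt}
    (hM : Cfsg.IsPModular p M) (j : ℕ) (a : A G) (P : G → Prop) [DecidablePred P]
    (ha : ∀ x, a.coeff x = if P x then 1 else 0) :
    Sm M ((a ^ p ^ j).coeff 1 - (Nat.card {x : G // x ^ p ^ j = 1 ∧ P x} : ℂ)) := by
  classical
  obtain ⟨m, hm⟩ : ∃ m, p ^ j = m + 1 :=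
    ⟨_, (Nat.succ_pred_eq_of_pos (pow_pos hM.1.pos _)).symm⟩
  rw [hm]
  have hsum : (a ^ (m + 1)).coeff 1 =
      (Fintype.card {w : Fin (m + 1) → G // (List.ofFn w).prod = 1 ∧ ∀ i, P (w i)} : ℂ) := by
    rw [pow_eq_sum, MonoidAlgebra.coeff_sum, Finset.sum_apply', Fintype.card_subtype,
      Finset.natCast_card_filter]
    refine Finset.sum_congr rfl fun w _ => ?_
    rw [MonoidAlgebra.coeff_single, Finsupp.single_apply]
    simp only [ha, List.prod_ofFn, Fintype.prod_boole]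
    split_ifs <;> tauto
  set X := {w : Fin (m + 1) → G // (List.ofFn w).prod = 1 ∧ ∀ i, P (w i)}
  have hr : ∀ (w : Fin (m + 1) → G), rot (1 : G) m w = Fin.cons (w (Fin.last m)) (Fin.init w) :=
    fun w => by simp [rot]
  have hiff : ∀ w : Fin (m + 1) → G, ((List.ofFn w).prod = 1 ∧ ∀ i, P (w i)) ↔
      ((List.ofFn (rot (1 : G) m w)).prod = 1 ∧ ∀ i, P (rot (1 : G) m w i)) := by
    intro w
    rw [hr, List.ofFn_succ (f := Fin.cons (w (Fin.last m)) (Fin.init w)),
      List.ofFn_succ' (f := w)]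
    simp only [List.prod_cons, List.prod_concat, Fin.cons_zero, Fin.cons_succ]
    refine and_congr ?_ ⟨fun h i => ?_, fun h i => ?_⟩
    · exact ⟨fun h => mul_eq_one_comm.1 h, fun h => mul_eq_one_comm.1 h⟩
    · refine Fin.cases ?_ (fun i => ?_) i
      · simpa using h _
      · simpa [Fin.init] using h _
    · refine Fin.lastCases ?_ (fun i => ?_) i
      · simpa using h 0
      · simpa [Fin.init] using h i.succ
  set σ : Equiv.Perm X := (rot (1 : G) m).subtypePerm (fun w => (hiff w).symm) with hσ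
  have hσp : σ ^ p ^ j = 1 := by
    rw [hσ, Equiv.Perm.subtypePerm_pow]
    refine Equiv.ext fun w => Subtype.ext ?_
    have := rot_pow_eq_one (1 : G) m
    rw [orderOf_one, mul_one] at this
    show ((rot (1 : G) m) ^ p ^ j) w.1 = w.1
    rw [hm, this]; rfl
  have : Fact p.Prime := ⟨hM.1⟩
  have hfix := Equiv.Perm.card_compl_support_modEq (p := p) hσp
  have hfcard : (σ.supportᶜ).card = Nat.card {x : G // x ^ (m + 1) = 1 ∧ P x} := by
    have hconst : ∀ w : X, σ w = w ↔ ∀ i, w.1 i = w.1 0 := by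
      intro w
      rw [Subtype.ext_iff]
      show rot (1 : G) m w.1 = w.1 ↔ _
      rw [hr]
      constructor
      · intro h i
        refine Fin.induction rfl (fun k hk => ?_) i
        have := congrFun h k.succ
        rw [Fin.cons_succ] at this
        exact this.symm.trans hk
      · intro h
        funext i
        refine Fin.cases ?_ (fun k => ?_) i
        · rw [Fin.cons_zero]; exact h _
        · rw [Fin.cons_succ, Fin.init, h, h k.succ]
    rw [Nat.card_eq_fintype_card, Fintype.card_subtype]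
    refine Finset.card_bij (fun w _ => w.1 0) ?_ ?_ ?_
    · intro w hw
      rw [Finset.mem_compl, Equiv.Perm.notMem_support, hconst] at hw
      have h1 := w.2.1
      rw [show w.1 = fun _ => w.1 0 from funext hw, List.ofFn_const, List.prod_replicate] at h1
      exact Finset.mem_filter.2 ⟨Finset.mem_univ _, h1, w.2.2 0⟩
    · intro w hw w' hw' h
      rw [Finset.mem_compl, Equiv.Perm.notMem_support, hconst] at hw hw'
      exact Subtype.ext (funext fun i => by rw [hw i, hw' i, h])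
    · intro x hx
      obtain ⟨-, hx1, hxP⟩ := Finset.mem_filter.1 hx
      refine ⟨⟨fun _ => x, by rw [List.ofFn_const, List.prod_replicate]; exact hx1,
        fun _ => hxP⟩, ?_, rfl⟩
      rw [Finset.mem_compl, Equiv.Perm.notMem_support, hconst]
      exact fun _ => rfl
  rw [hsum]
  rw [hfcard] at hfix
  have h2 := (sm_intCast_iff hM _).2 (Int.modEq_iff_dvd.1 (Int.natCast_modEq_iff.2 hfix))
  push_cast at h2
  exact h2

/-- Let G be a finite group and M a maximal ideal of the algebraic integers containing the prime p. For every p-regular g, the idempotent coefficient of the principal block at g (the inverse of the group order times the sum over χ in the principal block of χ 1 * conj (χ g)) is congruent modulo the local ideal at M to N / R, where N is the number of pairs (x, y) with x of p-power order, y of order prime to p and x * y = g, and R is the number of elements of G of order prime to p. -/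
theorem result {G : Type*} [Group G] [Finite G] (p : ℕ) [Fact p.Prime] (M : Ideal Cfsg.AlgInt) (hM : Cfsg.IsPModular p M) (g : G) (hg : ¬ p ∣ orderOf g) : Cfsg.MemLocalIdeal M (Cfsg.blockCoeff (Cfsg.principalBlock M G) g - (Nat.card {xy : G × G // (∃ k : ℕ, orderOf xy.1 = p ^ k) ∧ ¬ p ∣ orderOf xy.2 ∧ xy.1 * xy.2 = g} : ℂ) / (Nat.card {y : G // ¬ p ∣ orderOf y} : ℂ)) := by
  classical
  have := Fintype.ofFinite G
  let one : Cfsg.IrrCharacter G := ⟨fun _ => 1, isIrrCharacter_one⟩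
  have hB : IsPBlock M (principalBlock M G) := ⟨one, rfl⟩
  set B := principalBlock M G
  set Z : A G := mkA fun x : G => if p ∣ orderOf x then 0 else 1 with hZ
  have hZC : IsC Z := isC_mkA fun a b => by
    rw [show orderOf (b * a * b⁻¹) = orderOf a from MulEquiv.orderOf_eq (MulAut.conj b) a]
  have hZR : ZR M Z := by
    refine ⟨hZC, fun x => ?_, fun x => ?_⟩ <;> rw [hZ, coeff_mkA] <;> split_ifs
    exacts [int'_zero, int'_one, zero_mem _, one_mem _]
  set n : ℕ := Nat.card {y : G // ¬ p ∣ orderOf y} with hn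
  have hnu : ¬ Sm M (n : ℂ) := not_sm_natCast_of_coprime hM (not_dvd_regCard hM)
  have homZ : ∀ χ : Cfsg.IrrCharacter G, om (χ : G → ℂ) Z = regSum p (χ : G → ℂ) := fun χ => by
    rw [om, tr, regSum, Finset.sum_filter, Finset.sum_div]
    refine Finset.sum_congr rfl fun x _ => ?_
    rw [hZ, coeff_mkA]
    by_cases h : p ∣ orderOf x <;> simp [h]
  have honB : ∀ χ ∈ B, Sm M (om (χ : G → ℂ) Z - (n : ℂ)) := fun χ hχ => by
    have h := om_block_sub_sm hM hB hχ (mem_blockOf_self hM one) hZR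
    rwa [homZ one, regSum_one one rfl] at h
  have hoffB : ∀ χ ∉ B, om (χ : G → ℂ) Z = 0 := fun χ hχ => by
    rw [homZ χ]
    exact regSum_eq_zero hM χ one rfl fun hs => hχ (sameBlock_symm hM hs)
  obtain ⟨j₀, hj₀⟩ := exists_uniform_exp hM (fun χ : Cfsg.IrrCharacter G => om (χ : G → ℂ) Z)
    (fun χ => om_alg χ hZR.alg) n ((Nat.card G).factorization p + 1)
  -- the exponent
  have hcop : Nat.Coprime p (orderOf g) := (Nat.Prime.coprime_iff_not_dvd hM.1).2 hg
  set j := Nat.totient (orderOf g) * (Nat.card G + j₀ + 1) with hj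
  have hjbig : Nat.card G + j₀ + 1 ≤ j :=
    Nat.le_mul_of_pos_left _ (Nat.totient_pos.2 (orderOf_pos g))
  set q := p ^ j with hq
  have hqg : g ^ q = g := by
    nth_rw 2 [← pow_one g]
    refine pow_eq_pow_iff_modEq.2 ?_
    rw [hq, hj, pow_mul]
    simpa using (Nat.ModEq.pow_totient hcop).pow (Nat.card G + j₀ + 1)
  set a : A G := MonoidAlgebra.single g⁻¹ 1 * Z with ha
  have hacoeff : ∀ x, a.coeff x = if p ∣ orderOf (g * x) then 0 else 1 := fun x => by
    rw [ha, MonoidAlgebra.coeff_single_mul_eq_mul_coeff (g * x), hZ, coeff_mkA, one_mul]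
    intro y _
    rw [inv_mul_eq_iff_eq_mul]
  have h1 : (a ^ q).coeff 1 = (Z ^ q).coeff g := by
    rw [ha, Commute.mul_pow (hZC.comm _).symm, MonoidAlgebra.single_pow, one_pow, inv_pow, hqg,
      MonoidAlgebra.coeff_single_mul_eq_mul_coeff g, one_mul]
    intro y _
    rw [inv_mul_eq_one, eq_comm]
  have h2 : Sm M ((a ^ q).coeff 1 -
      (Nat.card {x : G // x ^ q = 1 ∧ ¬ p ∣ orderOf (g * x)} : ℂ)) :=
    coeff_pow_one_congr hM j a (fun x => ¬ p ∣ orderOf (g * x)) fun x => by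
      rw [hacoeff]; by_cases h : p ∣ orderOf (g * x) <;> simp [h]
  have h3 : Sm M ((Z ^ q).coeff g - (n : ℂ) ^ q * blockCoeff B g) := by
    have hD : IsC (Z ^ q - ((n : ℂ) ^ q) • idem B) := (hZC.pow q).sub ((isC_idem B).smul _)
    have hsm : SmA M (Z ^ q - ((n : ℂ) ^ q) • idem B) := by
      rw [← ofVals_om hD]
      refine ofVals_sm hM fun χ => ?_
      rw [om_sub, om_smul, om_idem, om_pow χ.2 hZC]
      by_cases hχ : χ ∈ B
      · rw [if_pos hχ, mul_one]
        exact hj₀ χ (honB χ hχ) hnu j (by omega)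
      · rw [if_neg hχ, mul_zero, sub_zero, hoffB χ hχ,
          zero_pow (pow_ne_zero _ hM.1.ne_zero)]
        exact ⟨0, int'_zero, by rw [mul_zero]⟩
    simpa [coeff_idem] using hsm g
  have hcount : Nat.card {x : G // x ^ q = 1 ∧ ¬ p ∣ orderOf (g * x)} =
      Nat.card {xy : G × G // (∃ k : ℕ, orderOf xy.1 = p ^ k) ∧ ¬ p ∣ orderOf xy.2 ∧
        xy.1 * xy.2 = g} := by
    refine Nat.card_congr ⟨fun x => ⟨(x.1⁻¹, x.1 * g), ?_, ?_, by simp⟩,
      fun xy => ⟨xy.1.1⁻¹, ?_, ?_⟩, fun x => Subtype.ext (inv_inv _), fun xy => Subtype.ext ?_⟩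
    · show IsPEl p x.1⁻¹
      exact isPEl_of_pow_eq_one hM.1 (k := j) (by rw [← hq, inv_pow, x.2.1, inv_one])
    · show ¬ p ∣ orderOf (x.1 * g)
      rw [show x.1 * g = MulAut.conj g⁻¹ (g * x.1) by simp, MulEquiv.orderOf_eq]
      exact x.2.2
    · obtain ⟨k, hk⟩ := xy.2.1
      rw [inv_pow, inv_eq_one, hq, ← orderOf_dvd_iff_pow_eq_one, hk]
      refine pow_dvd_pow p ?_
      have h4 : p ^ k ≤ Nat.card G := hk ▸ Nat.le_of_dvd Nat.card_pos (orderOf_dvd_natCard _)
      have h5 : k < p ^ k := Nat.lt_pow_self hM.1.one_lt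
      omega
    · rw [show g * xy.1.1⁻¹ = MulAut.conj xy.1.1 xy.1.2 by simp [← xy.2.2.2], MulEquiv.orderOf_eq]
      exact xy.2.2.1
    · refine Prod.ext (inv_inv _) ?_
      show xy.1.1⁻¹ * g = xy.1.2
      rw [inv_mul_eq_iff_eq_mul]
      exact xy.2.2.2.symm
  set c : ℕ := Nat.card {xy : G × G // (∃ k : ℕ, orderOf xy.1 = p ^ k) ∧ ¬ p ∣ orderOf xy.2 ∧
        xy.1 * xy.2 = g} with hc
  rw [hcount, h1] at h2
  have h4 : Sm M ((n : ℂ) * blockCoeff B g - (c : ℂ)) := by
    have h5 := (sm_sub_comm.1 h3).trans h2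
    have hfer : Sm M ((n : ℂ) ^ q - (n : ℂ)) := natCast_pow_congr hM n j
    exact (show Sm M ((n : ℂ) * blockCoeff B g - (n : ℂ) ^ q * blockCoeff B g) by
      rw [← sub_mul]
      exact (sm_sub_comm.1 hfer).mul_right (int'_blockCoeff hM hB g)).trans h5
  refine (memLocalIdeal_iff hM (sub_mem (algNum_blockCoeff B g)
    (div_mem (algNum_natCast _) (algNum_natCast _)))).2 ?_
  have hn0 : (n : ℂ) ≠ 0 := ne_zero_of_not_sm hnu
  rw [show blockCoeff B g - (c : ℂ) / (n : ℂ) = ((n : ℂ) * blockCoeff B g - c) * (n : ℂ)⁻¹ by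
    field_simp]
  exact h4.mul_right (int'_inv_natCast hM (not_dvd_regCard hM))

end Cfsg.Agent.S0940
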