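import Cfsg.Agent.Lib.ZStarPrincipal

set_option autoImplicit false

namespace Cfsg.Agent.S0942

/-- Characters in the principal block are constant on `u · O_{p'}(C(u))` for a `p`-element `u`. -/
theorem result {G : Type*} [Group G] [Finite G] (p : ℕ) [Fact p.Prime] (M : Ideal Cfsg.AlgInt) (hM : Cfsg.IsPModular p M) (u : G) (hu : ∃ k : ℕ, orderOf u = p ^ k) (v : G) (hv : v ∈ Cfsg.centralizerPPrimeCore p u) (χ : Cfsg.IrrCharacter G) (hχ : χ ∈ Cfsg.principalBlock M G) : (χ : G → ℂ) (u * v) = (χ : G → ℂ) u := by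
  haveI := Fintype.ofFinite G
  obtain ⟨h1, h2, h3⟩ := ZStarPrincipal.centralizerPPrimeCore_spec (p := p) u
  exact ZStarPrincipal.apply_eq_of_mem hM hu h1 h2 h3 hχ hv

end Cfsg.Agent.S0942
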