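import Cfsg.Statements.S0943
import Cfsg.Agent.Lib.BlockTheoryCentre

set_option autoImplicit false
open Cfsg

namespace Cfsg.Agent.S0943

/-- Let χ be an irreducible character of the finite group G and u, v ∈ G. If χ (x * y) = χ (u * v) whenever x is conjugate to u and y is conjugate to v, then χ u * χ v = χ 1 * χ (u * v). (Multiply the class sums of u and v and apply the central character of χ.) -/
theorem result {G : Type*} [Group G] [Finite G] (χ : Cfsg.IrrCharacter G) (u v : G) (hc : ∀ x y : G, IsConj u x → IsConj v y → (χ : G → ℂ) (x * y) = (χ : G → ℂ) (u * v)) : (χ : G → ℂ) u * (χ : G → ℂ) v = (χ : G → ℂ) 1 * (χ : G → ℂ) (u * v) := by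
  classical
  haveI := Fintype.ofFinite G
  set a : ℂ := ((Subgroup.centralizer ({u} : Set G)).index : ℂ)
  set b : ℂ := ((Subgroup.centralizer ({v} : Set G)).index : ℂ)
  have hcl := BlockTheoryCentre.irr_classFun χ
  have h1 := BlockTheoryCentre.chiSum_mul χ (BlockTheoryCentre.isCen_classSum u)
    (BlockTheoryCentre.classSum v)
  rw [BlockTheoryCentre.chiSum_classSum hcl, BlockTheoryCentre.omega_apply,
    BlockTheoryCentre.chiSum_classSum hcl] at h1
  have h2 : BlockTheoryCentre.chiSum (χ : G → ℂ)
      (BlockTheoryCentre.classSum u * BlockTheoryCentre.classSum v) =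
      a * b * (χ : G → ℂ) (u * v) := by
    conv_lhs => rw [BlockTheoryCentre.eq_sum_single (BlockTheoryCentre.classSum u),
      BlockTheoryCentre.eq_sum_single (BlockTheoryCentre.classSum v)]
    simp only [Finset.sum_mul, Finset.mul_sum, map_sum, MonoidAlgebra.single_mul_single,
      BlockTheoryCentre.chiSum_single]
    have e : ∀ x y : G, (BlockTheoryCentre.classSum u).coeff x *
        (BlockTheoryCentre.classSum v).coeff y * (χ : G → ℂ) (x * y) =
        (BlockTheoryCentre.classSum u).coeff x * (BlockTheoryCentre.classSum v).coeff y *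
          (χ : G → ℂ) (u * v) := by
      intro x y
      simp only [BlockTheoryCentre.classSum, BlockTheoryCentre.coeff_ofFun]
      by_cases hx : IsConj u x
      · by_cases hy : IsConj v y
        · rw [hc x y hx hy]
        · rw [if_neg hy]; simp
      · rw [if_neg hx]; simp
    simp only [e, ← Finset.sum_mul, ← Finset.mul_sum]
    have hsum : ∀ w : G, ∑ x : G, (BlockTheoryCentre.classSum w).coeff x =
        ((Subgroup.centralizer ({w} : Set G)).index : ℂ) := by
      intro w
      have := BlockTheoryCentre.chiSum_classSum (χ := fun _ : G => (1 : ℂ)) (fun _ _ => rfl) w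
      simpa [BlockTheoryCentre.chiSum_apply] using this
    rw [hsum u, hsum v]
  rw [h2] at h1
  have ha : a ≠ 0 := Nat.cast_ne_zero.mpr Subgroup.index_ne_zero_of_finite
  have hb : b ≠ 0 := Nat.cast_ne_zero.mpr Subgroup.index_ne_zero_of_finite
  have hne := BlockTheoryCentre.irr_one_ne_zero χ
  field_simp at h1
  apply mul_left_cancel₀ (mul_ne_zero ha hb)
  linear_combination -h1

end Cfsg.Agent.S0943
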