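import Cfsg.Statements.S0944
import Cfsg.Agent.Lib.CharBasic

set_option autoImplicit false
open Cfsg

namespace Cfsg.Agent.S0944

/-- Let χ be an irreducible character of the finite group G and u an involution. Then χ u is a rational integer n with n ≡ χ 1 (mod 2). -/
theorem result {G : Type*} [Group G] [Finite G] (χ : Cfsg.IrrCharacter G) (u : G) (hu : orderOf u = 2) : ∃ n : ℤ, (χ : G → ℂ) u = (n : ℂ) ∧ (2 : ℤ) ∣ (Cfsg.charDegree (χ : G → ℂ) : ℤ) - n := by
  obtain ⟨n, ρ, hirr, hχ⟩ := χ.2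
  obtain ⟨b, μ, -, hμ, -, hpow⟩ := CharBasic.exists_rep_eigenbasis ρ u
  have h1 : (χ : G → ℂ) u = ∑ i, μ i := by rw [← hχ]; simpa using hpow 1
  have h0 : Cfsg.charDegree (χ : G → ℂ) = Module.finrank ℂ (Fin n → ℂ) := by
    simp [Cfsg.charDegree, ← hχ, Representation.char_one]
  have hz : ∀ i, ∃ z : ℤ, μ i = z ∧ (2 : ℤ) ∣ 1 - z := by
    intro i
    have := hμ i
    rw [hu, sq_eq_one_iff] at this
    rcases this with h | h
    · exact ⟨1, by simp [h], by norm_num⟩
    · exact ⟨-1, by simp [h], by norm_num⟩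
  choose z hz1 hz2 using hz
  refine ⟨∑ i, z i, by rw [h1]; push_cast; exact Finset.sum_congr rfl fun i _ => hz1 i, ?_⟩
  rw [h0, show ((Module.finrank ℂ (Fin n → ℂ) : ℤ)) - ∑ i, z i =
    ∑ i : Fin (Module.finrank ℂ (Fin n → ℂ)), (1 - z i) by simp]
  exact Finset.dvd_sum fun i _ => hz2 i

end Cfsg.Agent.S0944
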