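import Cfsg.Statements.S0946
-- import your own Cfsg.Agent.* helpers here
import Mathlib.GroupTheory.Transfer

set_option autoImplicit false
open Cfsg

namespace Cfsg.Agent.S0946

lemma zmod_double_eq_zero {m : ℕ} (hm : 1 ≤ m) (a : ZMod (2 ^ m)) (h : a + a = 0) :
    a = 0 ∨ a = ((2 ^ (m - 1) : ℕ) : ZMod (2 ^ m)) := by
  have hv : ((a.val + a.val : ℕ) : ZMod (2 ^ m)) = 0 := by
    rw [Nat.cast_add, ZMod.natCast_zmod_val, h]
  rw [ZMod.natCast_eq_zero_iff] at hv
  obtain ⟨c, hc⟩ := hv
  have hlt := ZMod.val_lt a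
  have hpow : (2:ℕ) ^ m = 2 * 2 ^ (m - 1) := by
    rw [← pow_succ', Nat.sub_add_cancel hm]
  have hc2 : c ≤ 1 := by
    by_contra hc'
    have : 2 ^ m * 2 ≤ 2 ^ m * c := Nat.mul_le_mul_left _ (by omega)
    omega
  rcases Nat.le_one_iff_eq_zero_or_eq_one.1 hc2 with rfl | rfl
  · left
    have : a.val = 0 := by omega
    exact (ZMod.val_eq_zero a).1 this
  · right
    have : a.val = 2 ^ (m - 1) := by omega
    rw [← this, ZMod.natCast_zmod_val]

lemma card_sq_eq_one_le {A : Type*} [Group A] [Finite A] {m : ℕ} (hm : 1 ≤ m)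
    (e : A ≃* Multiplicative (ZMod (2 ^ m) × ZMod (2 ^ m))) :
    Nat.card {x : A // x ^ 2 = 1} ≤ 4 := by
  classical
  let F : Bool × Bool → ZMod (2 ^ m) × ZMod (2 ^ m) := fun b =>
    (if b.1 then ((2 ^ (m - 1) : ℕ) : ZMod (2 ^ m)) else 0,
     if b.2 then ((2 ^ (m - 1) : ℕ) : ZMod (2 ^ m)) else 0)
  have key : ∀ x : {x : A // x ^ 2 = 1}, ∃ b : Bool × Bool,
      F b = Multiplicative.toAdd (e x.1) := by
    intro x
    have h0 : Multiplicative.toAdd (e x.1) + Multiplicative.toAdd (e x.1) = 0 := by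
      have h := congrArg (fun y => Multiplicative.toAdd (e y)) x.2
      simpa [pow_two, map_mul, toAdd_mul] using h
    have h1 := zmod_double_eq_zero hm _ (congrArg Prod.fst h0)
    have h2 := zmod_double_eq_zero hm _ (congrArg Prod.snd h0)
    rcases h1 with h1 | h1 <;> rcases h2 with h2 | h2
    · exact ⟨(false, false), Prod.ext (by simp [F, h1]) (by simp [F, h2])⟩
    · exact ⟨(false, true), Prod.ext (by simp [F, h1]) (by simp [F, h2])⟩
    · exact ⟨(true, false), Prod.ext (by simp [F, h1]) (by simp [F, h2])⟩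
    · exact ⟨(true, true), Prod.ext (by simp [F, h1]) (by simp [F, h2])⟩
  choose b hb using key
  have hinj : Function.Injective b := by
    intro x y h
    apply Subtype.ext
    apply e.injective
    apply Multiplicative.toAdd.injective
    rw [← hb x, ← hb y, h]
  calc Nat.card {x : A // x ^ 2 = 1} ≤ Nat.card (Bool × Bool) := Nat.card_le_card_of_injective b hinj
    _ = 4 := by simp

/-- An element of odd order normalising an abelian 2-group and fixing its involutions centralises it. -/
lemma centralizes_of_fix_involutions {G : Type*} [Group G] (P : Subgroup G) (hP : IsPGroup 2 P)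
    (hab : ∀ x ∈ P, ∀ y ∈ P, x * y = y * x) (g : G) (hg : ∀ x ∈ P, g * x * g⁻¹ ∈ P)
    (hodd : Odd (orderOf g)) (hfix : ∀ x ∈ P, x ^ 2 = 1 → g * x * g⁻¹ = x) :
    ∀ x ∈ P, g * x * g⁻¹ = x := by
  have main : ∀ k : ℕ, ∀ x ∈ P, x ^ (2 ^ k) = 1 → g * x * g⁻¹ = x := by
    intro k
    induction k with
    | zero =>
      intro x _ hx
      rw [pow_zero, pow_one] at hx
      simp [hx]
    | succ k ih =>
      intro x hxP hx
      have hx2 : g * x ^ 2 * g⁻¹ = x ^ 2 :=
        ih (x ^ 2) (pow_mem hxP 2) (by rw [← pow_mul, ← pow_succ']; exact hx)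
      obtain ⟨y, hy⟩ : ∃ y, y = g * x * g⁻¹ * x⁻¹ := ⟨_, rfl⟩
      have hyP : y ∈ P := hy ▸ P.mul_mem (hg x hxP) (P.inv_mem hxP)
      have hy2 : y ^ 2 = 1 := by
        have hc : Commute (g * x * g⁻¹) x⁻¹ := hab _ (hg x hxP) _ (P.inv_mem hxP)
        rw [hy, hc.mul_pow, conj_pow, hx2, inv_pow, mul_inv_cancel]
      have hgy : g * y * g⁻¹ = y := hfix y hyP hy2
      have hiter : ∀ n : ℕ, g ^ n * x * (g ^ n)⁻¹ = y ^ n * x := by
        intro n
        induction n with
        | zero => simp
        | succ n ihn =>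
          have h1 : g ^ (n + 1) * x * (g ^ (n + 1))⁻¹ = g * (g ^ n * x * (g ^ n)⁻¹) * g⁻¹ := by
            rw [pow_succ']; group
          have h2 : g * (y ^ n * x) * g⁻¹ = (g * y * g⁻¹) ^ n * (g * x * g⁻¹) := by
            rw [conj_pow]; group
          rw [h1, ihn, h2, hgy, pow_succ, hy]
          group
      have h := hiter (orderOf g)
      rw [pow_orderOf_eq_one, one_mul, inv_one, mul_one] at h
      have hyn : y ^ orderOf g = 1 := mul_eq_right.1 h.symm
      obtain ⟨r, hr⟩ := hodd
      rw [hr, pow_succ, pow_mul, hy2, one_pow, one_mul] at hyn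
      rw [hy] at hyn
      exact mul_inv_eq_one.1 hyn
  intro x hx
  obtain ⟨k, hk⟩ := hP ⟨x, hx⟩
  exact main k x hx (congrArg Subtype.val hk)


/-- Let P be a Sylow 2-subgroup of the finite group G isomorphic to Z/2^m × Z/2^m with m ≥ 1. Then either P has a normal complement in G, or all involutions of G are conjugate. -/
theorem result {G : Type*} [Group G] [Finite G] (P : Sylow 2 G) (m : ℕ) (hm : 1 ≤ m) (e : (P : Subgroup G) ≃* Multiplicative (ZMod (2 ^ m) × ZMod (2 ^ m))) : (∃ N : Subgroup G, N.Normal ∧ Subgroup.IsComplement' N (P : Subgroup G)) ∨ ∀ s t : G, orderOf s = 2 → orderOf t = 2 → IsConj s t := by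
  classical
  have hab : ∀ x ∈ (P : Subgroup G), ∀ y ∈ (P : Subgroup G), x * y = y * x := by
    intro x hx y hy
    have h : (⟨x, hx⟩ : (P : Subgroup G)) * ⟨y, hy⟩ = ⟨y, hy⟩ * ⟨x, hx⟩ := by
      apply e.injective
      rw [map_mul, map_mul, mul_comm]
    exact congrArg Subtype.val h
  set N := Subgroup.normalizer ((P : Subgroup G) : Set G) with hNdef
  have hgP : ∀ g ∈ N, ∀ x ∈ (P : Subgroup G), g * x * g⁻¹ ∈ (P : Subgroup G) :=
    fun g hg x hx => (Subgroup.mem_normalizer_iff.1 hg x).1 hx
  by_cases hodd : ∀ g ∈ N, Odd (orderOf g) → g ∈ Subgroup.centralizer ((P : Subgroup G) : Set G)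
  · left
    have hle : N ≤ Subgroup.centralizer ((P : Subgroup G) : Set G) := by
      intro g hg
      obtain ⟨k, m', hm', hn⟩ := Nat.exists_eq_two_pow_mul_odd (orderOf_pos g).ne'
      have hcop : Nat.Coprime (2 ^ k) m' := Nat.Coprime.pow_left k (Nat.coprime_two_left.2 hm')
      obtain ⟨a, b, hab'⟩ : ∃ a b : ℤ, (2 ^ k : ℤ) * a + (m' : ℤ) * b = 1 := by
        have h := Nat.gcd_eq_gcd_ab (2 ^ k) m'
        rw [hcop.gcd_eq_one] at h
        exact ⟨_, _, by push_cast at h; exact h.symm⟩
      have hu : g ^ (((2 ^ k : ℕ) : ℤ)) ∈ Subgroup.centralizer ((P : Subgroup G) : Set G) := by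
        rw [zpow_natCast]
        refine hodd _ (pow_mem hg _) ?_
        rw [orderOf_pow_of_dvd (by positivity) (by rw [hn]; exact dvd_mul_right _ _), hn,
          Nat.mul_div_cancel_left _ (by positivity)]
        exact hm'
      have hv : g ^ ((m' : ℤ)) ∈ Subgroup.centralizer ((P : Subgroup G) : Set G) := by
        rw [zpow_natCast]
        have hmem : g ^ m' ∈ (P : Subgroup G) := by
          have hpg : IsPGroup 2 (Subgroup.zpowers (g ^ m')) := by
            rw [IsPGroup.iff_card]
            refine ⟨k, ?_⟩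
            rw [Nat.card_zpowers, orderOf_pow_of_dvd (Nat.pos_iff_ne_zero.1 hm'.pos)
              (by rw [hn]; exact dvd_mul_left _ _), hn, Nat.mul_div_cancel _ hm'.pos]
          have hle : Subgroup.zpowers (g ^ m') ≤ N := by
            rw [Subgroup.zpowers_le]; exact pow_mem hg _
          have hj : IsPGroup 2 ↥((Subgroup.zpowers (g ^ m')) ⊔ (P : Subgroup G)) :=
            hpg.to_sup_of_normal_right' P.isPGroup' hle
          have := P.is_maximal' hj le_sup_right
          rw [← this]
          exact Subgroup.mem_sup_left (Subgroup.mem_zpowers _)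
        rw [Subgroup.mem_centralizer_iff]
        intro x hx
        exact hab x hx _ hmem
      have : g = (g ^ ((2 ^ k : ℕ) : ℤ)) ^ a * (g ^ (m' : ℤ)) ^ b := by
        rw [← zpow_mul, ← zpow_mul, ← zpow_add]
        push_cast
        rw [hab', zpow_one]
      rw [this]
      exact mul_mem (zpow_mem hu _) (zpow_mem hv _)
    exact ⟨_, inferInstance, MonoidHom.ker_transferSylow_isComplement' P hle⟩
  · right
    push Not at hodd
    obtain ⟨g, hgN, hgo, hgC⟩ := hodd
    obtain ⟨s, hsP, hs2, hs⟩ : ∃ s ∈ (P : Subgroup G), s ^ 2 = 1 ∧ g * s * g⁻¹ ≠ s := by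
      by_contra hcon
      push Not at hcon
      apply hgC
      rw [Subgroup.mem_centralizer_iff]
      intro x hx
      have h := centralizes_of_fix_involutions _ P.isPGroup' hab g (hgP g hgN) hgo hcon x hx
      calc x * g = g * x * g⁻¹ * g := by rw [h]
        _ = g * x := by group
    have hs1 : s ≠ 1 := by
      rintro rfl
      simp at hs
    -- g^2 moves s
    have hs' : g ^ 2 * s * (g ^ 2)⁻¹ ≠ s := by
      intro hh
      apply hs
      have hc : Commute (g ^ 2) s := by
        rw [commute_iff_eq]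
        calc g ^ 2 * s = g ^ 2 * s * (g ^ 2)⁻¹ * g ^ 2 := by group
          _ = s * g ^ 2 := by rw [hh]
      obtain ⟨r, hr⟩ := hgo
      have : g = (g ^ 2) ^ (r + 1) := by
        rw [← pow_mul, show 2 * (r + 1) = orderOf g + 1 by omega, pow_succ, pow_orderOf_eq_one,
          one_mul]
      have hc' : Commute g s := by rw [this]; exact hc.pow_left _
      rw [hc'.eq]; group
    let s1 : (P : Subgroup G) := ⟨g * s * g⁻¹, hgP g hgN s hsP⟩
    let s2 : (P : Subgroup G) := ⟨g ^ 2 * s * (g ^ 2)⁻¹, hgP _ (pow_mem hgN 2) s hsP⟩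
    have key : ∀ x ∈ (P : Subgroup G), x ^ 2 = 1 → x ≠ 1 → IsConj s x := by
      intro x hx hx2 hx1
      by_contra hnc
      have hne1 : x ≠ s := fun h => hnc (h ▸ IsConj.refl s)
      have hne2 : x ≠ g * s * g⁻¹ := fun h => hnc (h ▸ isConj_iff.2 ⟨g, rfl⟩)
      have hne3 : x ≠ g ^ 2 * s * (g ^ 2)⁻¹ := fun h => hnc (h ▸ isConj_iff.2 ⟨g ^ 2, rfl⟩)
      let five : Fin 5 → {y : (P : Subgroup G) // y ^ 2 = 1} :=
        ![⟨1, one_pow 2⟩, ⟨⟨s, hsP⟩, Subtype.ext hs2⟩,
          ⟨s1, Subtype.ext (show (g * s * g⁻¹) ^ 2 = 1 by rw [conj_pow, hs2, mul_one, mul_inv_cancel])⟩,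
          ⟨s2, Subtype.ext (show (g ^ 2 * s * (g ^ 2)⁻¹) ^ 2 = 1 by
            rw [conj_pow, hs2, mul_one, mul_inv_cancel])⟩,
          ⟨⟨x, hx⟩, Subtype.ext hx2⟩]
      have h12 : g * s * g⁻¹ ≠ g ^ 2 * s * (g ^ 2)⁻¹ := by
        intro h
        apply hs
        have h' := congrArg (fun z => g⁻¹ * z * g) h
        simp only [pow_two, mul_inv_rev] at h'
        group at h'
        calc g * s * g⁻¹ = g * (s * g⁻¹) := by group
          _ = s := by rw [← mul_assoc]; exact (by simpa [mul_assoc] using h'.symm)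
      have ha : g * s * g⁻¹ ≠ 1 := by simpa using hs1
      have hb : g ^ 2 * s * (g ^ 2)⁻¹ ≠ 1 := by simpa using hs1
      have hinj : Function.Injective five := by
        intro i j hij
        have h := congrArg (fun z : {y : (P : Subgroup G) // y ^ 2 = 1} => ((z.1 : (P : Subgroup G)) : G)) hij
        fin_cases i <;> fin_cases j <;>
          first
          | rfl
          | (exfalso; simp [five, s1, s2] at h;
             first
             | exact hs1 h | exact hs1 h.symm | exact ha h | exact ha h.symm | exact hb h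
             | exact hb h.symm | exact hx1 h | exact hx1 h.symm | exact hs h | exact hs h.symm
             | exact hs' h | exact hs' h.symm | exact h12 h | exact h12 h.symm
             | exact hne1 h | exact hne1 h.symm | exact hne2 h | exact hne2 h.symm
             | exact hne3 h | exact hne3 h.symm)
      have h5 := Nat.card_le_card_of_injective five hinj
      have h4 := card_sq_eq_one_le hm e
      simp at h5
      omega
    intro a b ha hb
    have toP : ∀ a : G, orderOf a = 2 → IsConj s a := by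
      intro a ha
      have hpg : IsPGroup 2 (Subgroup.zpowers a) := by
        rw [IsPGroup.iff_card]; exact ⟨1, by rw [Nat.card_zpowers, ha, pow_one]⟩
      obtain ⟨Q, hQ⟩ := hpg.exists_le_sylow
      obtain ⟨c, hc⟩ := MulAction.exists_smul_eq G Q P
      have hmem : c * a * c⁻¹ ∈ (P : Subgroup G) := by
        rw [← hc, Sylow.coe_subgroup_smul]
        exact Subgroup.mem_pointwise_smul_iff_inv_smul_mem.2 (by
          simpa [MulAut.smul_def, ← map_inv, MulAut.conj_apply, mul_assoc] using
            hQ (Subgroup.mem_zpowers a))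
      refine (key _ hmem ?_ ?_).trans (isConj_iff.2 ⟨c, rfl⟩).symm
      · rw [conj_pow, ← ha, pow_orderOf_eq_one, mul_one, mul_inv_cancel]
      · intro h
        rw [conj_eq_one_iff] at h
        rw [h, orderOf_one] at ha
        norm_num at ha
    exact (toP a ha).symm.trans (toP b hb)

end Cfsg.Agent.S0946
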