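import Cfsg.Statements.S0947
import Cfsg.Agent.S0923
import Cfsg.Agent.S0936
import Cfsg.Agent.Lib.BlockTheoryInduced
import Cfsg.Agent.Lib.BlockPrincipal81
import Cfsg.Agent.Lib.BrauerBlocksOrth
import Cfsg.Agent.Lib.PrincipalParity80
import Cfsg.Agent.Lib.CharBasicOrth
import Cfsg.Agent.Lib.HallCore

set_option autoImplicit false
open Cfsg
open scoped ComplexConjugate

namespace Cfsg.Agent.S0947

/-- Let z ≠ 1 be a p-element of the finite group G with centralizer H, and fix a maximal ideal M of the algebraic integers containing p. (i) For every y ∈ H of order prime to p, the sum over ζ in the principal block of G of |ζ (z * y)|² equals the sum over χ in the principal block of H of |χ y|². (ii) If moreover H has a normal p-complement (its largest normal subgroup of order prime to p has p-power index), that common value is the largest power of p dividing the order of H. -/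
theorem result {G : Type*} [Group G] [Finite G] (p : ℕ) [Fact p.Prime] (M : Ideal Cfsg.AlgInt) (hM : Cfsg.IsPModular p M) (z : G) (hz : ∃ k : ℕ, orderOf z = p ^ k) (hz1 : z ≠ 1) (y : Subgroup.centralizer ({z} : Set G)) (hy : ¬ p ∣ orderOf y) : (∑ᶠ ζ ∈ Cfsg.principalBlock M G, ‖(ζ : G → ℂ) (z * (y : G))‖ ^ 2 = ∑ᶠ χ ∈ Cfsg.principalBlock M (Subgroup.centralizer ({z} : Set G)), ‖(χ : Subgroup.centralizer ({z} : Set G) → ℂ) y‖ ^ 2) ∧ ((∃ k : ℕ, (Cfsg.pPrimeCore p (Subgroup.centralizer ({z} : Set G))).index = p ^ k) → ∑ᶠ ζ ∈ Cfsg.principalBlock M G, ‖(ζ : G → ℂ) (z * (y : G))‖ ^ 2 = ((p ^ (Nat.card (Subgroup.centralizer ({z} : Set G))).factorization p : ℕ) : ℝ)) := by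
  classical
  haveI := Fintype.ofFinite G
  let H := Subgroup.centralizer ({z} : Set G)
  letI := Fintype.ofFinite H
  set b0 := principalBlock M H with hb0
  set B0 := principalBlock M G with hB0
  have hb0B : IsPBlock M b0 := Cfsg.Agent.BlockPrincipal81.isPBlock_principal
  have hzp : ∃ k : ℕ, orderOf z = p ^ k := hz
  have hP : IsPGroup p (Subgroup.zpowers z) := by
    obtain ⟨k, hk⟩ := hz
    exact IsPGroup.of_card (n := k) (by rw [Nat.card_zpowers, hk])
  have hcentr : Subgroup.centralizer (Subgroup.zpowers z : Set G) = H := by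
    rw [Subgroup.zpowers_eq_closure, Subgroup.centralizer_closure]
  have hle : Subgroup.zpowers z ≤ H :=
    Subgroup.zpowers_le.mpr (Subgroup.mem_centralizer_singleton_iff.mpr rfl)
  have hnorm : H ≤ Subgroup.normalizer (Subgroup.zpowers z : Set G) := by
    rw [← hcentr]; exact Subgroup.centralizer_le_normalizer _
  let F : IrrCharacter G → IrrCharacter H → ℂ := fun ζ ψ =>
    classInner (fun c : H => (ζ : G → ℂ) (z * (c : G))) (ψ : H → ℂ) * (ψ : H → ℂ) y
  -- non-principal blocks of the centralizer contribute nothing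
  have hoff : ∀ ζ ∈ B0, ∀ ψ₀ : IrrCharacter H, ψ₀ ∉ b0 →
      ∑ ψ : IrrCharacter H, (if ψ ∈ blockOf M (ψ₀ : H → ℂ) then F ζ ψ else 0) = 0 := by
    intro ζ hζ ψ₀ hψ₀
    have hb : IsPBlock M (blockOf M (ψ₀ : H → ℂ)) := ⟨ψ₀, rfl⟩
    obtain ⟨B, hind⟩ := Cfsg.Agent.BlockTheoryInduced.inducedBlockDefined H hM hP hle hcentr.le hnorm hb
    have hnot : ¬ IsInducedBlock M H (blockOf M (ψ₀ : H → ℂ)) B0 := fun h => by
      have h1 := (Cfsg.Agent.S0936.result p M hM H _ ⟨B, hind⟩).mp h
      exact hψ₀ (by rw [hb0, ← h1]; exact Cfsg.Agent.BlockTheoryIdem.self_mem_blockOf hM ψ₀)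
    have h := Cfsg.Agent.S0923.result p M hM z hz B0 Cfsg.Agent.BlockPrincipal81.isPBlock_principal
      ζ hζ _ hb hnot y hy
    simp only [blockPart] at h
    rw [Cfsg.Agent.BlockTheoryIdem.finsum_mem_eq_sum] at h
    exact h
  have hcls : ∀ ζ : IrrCharacter G,
      IsClassFunction H (fun c : H => (ζ : G → ℂ) (z * (c : G))) := by
    intro ζ a c
    have e : z * ((c * a * c⁻¹ : H) : G) = (c : G) * (z * (a : G)) * (c : G)⁻¹ := by
      have := Subgroup.mem_centralizer_singleton_iff.mp c.2
      simp only [Subgroup.coe_mul, Subgroup.coe_inv, ← mul_assoc, this]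
    simp only [e]
    exact Cfsg.Agent.BlockTheoryCentre.irr_classFun ζ (z * (a : G)) (c : G)
  let A : IrrCharacter G → ℂ := fun ζ => ∑ ψ : IrrCharacter H, if ψ ∈ b0 then F ζ ψ else 0
  have hA : ∀ ζ ∈ B0, (ζ : G → ℂ) (z * (y : G)) = A ζ := by
    intro ζ hζ
    have h1 : (ζ : G → ℂ) (z * (y : G)) = ∑ ψ : IrrCharacter H, F ζ ψ := by
      have := congrFun (Cfsg.Agent.CharBasicOrth.eq_sum_classInner (hcls ζ)) y
      simpa [F, Finset.sum_apply, smul_eq_mul] using this
    rw [h1, ← Finset.sum_filter_add_sum_filter_not Finset.univ (fun ψ => ψ ∈ b0)]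
    simp only [A, ← Finset.sum_filter, add_eq_left]
    rw [← Finset.sum_fiberwise_of_maps_to (g := fun ψ : IrrCharacter H => blockOf M (ψ : H → ℂ))
      (t := (Finset.univ.filter fun ψ => ψ ∉ b0).image fun ψ : IrrCharacter H => blockOf M (ψ : H → ℂ))
      (fun ψ hψ => Finset.mem_image_of_mem _ hψ)]
    refine Finset.sum_eq_zero fun b hb => ?_
    obtain ⟨ψ₀, hψ₀, rfl⟩ := Finset.mem_image.mp hb
    replace hψ₀ : ψ₀ ∉ b0 := (Finset.mem_filter.mp hψ₀).2
    rw [← hoff ζ hζ ψ₀ hψ₀, ← Finset.sum_filter]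
    refine Finset.sum_congr ?_ fun _ _ => rfl
    ext ψ
    simp only [Finset.mem_filter, Finset.mem_univ, true_and]
    refine ⟨fun h => ?_, fun h => ⟨fun h' => ?_, ?_⟩⟩
    · rw [← h.2]
      exact Cfsg.Agent.BlockTheoryIdem.self_mem_blockOf hM ψ
    · refine hψ₀ ?_
      rw [Cfsg.Agent.BlockTheoryIdem.block_eq_of_mem hM hb0B ⟨ψ₀, rfl⟩ h' h]
      exact Cfsg.Agent.BlockTheoryIdem.self_mem_blockOf hM ψ₀
    · exact Cfsg.Agent.BlockTheoryIdem.block_eq_of_mem hM ⟨ψ, rfl⟩ ⟨ψ₀, rfl⟩
        (Cfsg.Agent.BlockTheoryIdem.self_mem_blockOf hM ψ) h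
  have hA0 : ∀ ζ : IrrCharacter G, ζ ∉ B0 → A ζ = 0 := by
    intro ζ hζ
    obtain ⟨B, hind⟩ := Cfsg.Agent.BlockTheoryInduced.inducedBlockDefined H hM hP hle hcentr.le hnorm hb0B
    have hBB : IsInducedBlock M H b0 B0 := (Cfsg.Agent.S0936.result p M hM H b0 ⟨B, hind⟩).mpr rfl
    have hnot : ¬ IsInducedBlock M H b0 (blockOf M (ζ : G → ℂ)) := fun h => hζ (by
      rw [Cfsg.Agent.BlockTheoryInduced.inducedBlock_unique H hM hBB h]
      exact Cfsg.Agent.BlockTheoryIdem.self_mem_blockOf hM ζ)
    have h := Cfsg.Agent.S0923.result p M hM z hz (blockOf M (ζ : G → ℂ)) ⟨ζ, rfl⟩ ζ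
      (Cfsg.Agent.BlockTheoryIdem.self_mem_blockOf hM ζ) b0 hb0B hnot y hy
    simp only [blockPart] at h
    rw [Cfsg.Agent.BlockTheoryIdem.finsum_mem_eq_sum] at h
    exact h
  let K : H → ℂ := fun c => ∑ ψ : IrrCharacter H,
    if ψ ∈ b0 then (ψ : H → ℂ) y * conj ((ψ : H → ℂ) c) else 0
  have hK0 : ∀ c : H, p ∣ orderOf c → K c = 0 := by
    intro c hc
    have := Cfsg.Agent.BrauerBlocksOrth.orth_regular_singular hM hb0B hy hc
    rwa [Cfsg.Agent.BlockTheoryIdem.finsum_mem_eq_sum] at this
  have hAK : ∀ ζ : IrrCharacter G,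
      A ζ = (Nat.card H : ℂ)⁻¹ * ∑ c : H, (ζ : G → ℂ) (z * (c : G)) * K c := by
    intro ζ
    simp only [A, K, F, classInner, Finset.mul_sum]
    rw [Finset.sum_comm]
    refine Finset.sum_congr rfl fun ψ _ => ?_
    split_ifs with h
    · rw [Finset.sum_mul]
      exact Finset.sum_congr rfl fun c _ => by ring
    · simp
  have hpartc : ∀ c : H, ¬ p ∣ orderOf c → IsPPart p (z * (c : G)) z := fun c hc =>
    ⟨(c : G), rfl, (Subgroup.mem_centralizer_singleton_iff.mp c.2).symm, hz,
      by rwa [Subgroup.orderOf_coe]⟩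
  have hmain : ∀ c : H,
      K c * ∑ ζ : IrrCharacter G, (ζ : G → ℂ) (z * (c : G)) * conj ((ζ : G → ℂ) (z * (y : G))) =
        if IsConj y c then K y * (Nat.card (Subgroup.centralizer ({y} : Set H)) : ℂ) else 0 := by
    intro c
    rw [Cfsg.Agent.CharBasicOrth.sum_irr_mul_conj]
    by_cases hc : p ∣ orderOf c
    · rw [hK0 c hc, zero_mul, if_neg]
      intro h
      obtain ⟨d, hd⟩ := isConj_iff.mp h
      rw [← hd] at hc
      exact hy (hc.trans (by rw [show d * y * d⁻¹ = MulAut.conj d y from rfl, MulEquiv.orderOf_eq]))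
    have hiff : IsConj (z * (c : G)) (z * (y : G)) ↔ IsConj y c := by
      constructor
      · intro h
        obtain ⟨g, hg⟩ := isConj_iff.mp h
        have hgz : g * z * g⁻¹ = z := by
          refine Cfsg.Agent.BlockTheoryIdem.pPart_unique hM.1 ?_ (hpartc y hy)
          rw [← hg]
          obtain ⟨w, hw, hwc, ⟨k, hk⟩, hwp⟩ := hpartc c hc
          refine ⟨g * w * g⁻¹, by rw [← hw]; group, (hwc.map (MulAut.conj g).toMonoidHom), ⟨k, ?_⟩, ?_⟩
          · rw [show g * z * g⁻¹ = MulAut.conj g z from rfl, MulEquiv.orderOf_eq, hk]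
          · rwa [show g * w * g⁻¹ = MulAut.conj g w from rfl, MulEquiv.orderOf_eq]
        have hgH : g ∈ H := Subgroup.mem_centralizer_singleton_iff.mpr (mul_inv_eq_iff_eq_mul.mp hgz)
        refine (isConj_iff.mpr ⟨⟨g, hgH⟩, Subtype.ext ?_⟩).symm
        have e : g * (z * (c : G)) * g⁻¹ = (g * z * g⁻¹) * (g * (c : G) * g⁻¹) := by group
        rw [e, hgz, mul_right_inj] at hg
        exact hg
      · intro h
        obtain ⟨d, hd⟩ := isConj_iff.mp h.symm
        refine isConj_iff.mpr ⟨d, ?_⟩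
        rw [← hd]
        have := Subgroup.mem_centralizer_singleton_iff.mp d.2
        simp only [Subgroup.coe_mul, Subgroup.coe_inv, ← mul_assoc, this]
    by_cases h : IsConj y c
    · rw [if_pos (hiff.mpr h), if_pos h]
      have hKc : K c = K y := by
        simp only [K]
        refine Finset.sum_congr rfl fun ψ _ => ?_
        rw [Cfsg.Agent.CharBasic.apply_eq_of_isConj (Cfsg.Agent.BlockTheoryCentre.irr_classFun ψ) h]
      rw [hKc]
      have hcard : Nat.card (Subgroup.centralizer ({z * (c : G)} : Set G)) =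
          Nat.card (Subgroup.centralizer ({y} : Set H)) := by
        have hcH : Subgroup.centralizer ({z * (c : G)} : Set G) =
            (Subgroup.centralizer ({c} : Set H)).map H.subtype := by
          ext g
          constructor
          · intro hg
            have hg' := Subgroup.mem_centralizer_singleton_iff.mp hg
            have hgz : g * z * g⁻¹ = z := by
              refine Cfsg.Agent.BlockTheoryIdem.pPart_unique hM.1 ?_ (hpartc c hc)
              obtain ⟨w, hw, hwc, ⟨k, hk⟩, hwp⟩ := hpartc c hc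
              refine ⟨g * w * g⁻¹, ?_, hwc.map (MulAut.conj g).toMonoidHom, ⟨k, ?_⟩, ?_⟩
              · calc g * z * g⁻¹ * (g * w * g⁻¹) = g * (z * w) * g⁻¹ := by group
                  _ = z * (c : G) := by rw [hw, hg']; group
              · rw [show g * z * g⁻¹ = MulAut.conj g z from rfl, MulEquiv.orderOf_eq, hk]
              · rwa [show g * w * g⁻¹ = MulAut.conj g w from rfl, MulEquiv.orderOf_eq]
            have hgz' := mul_inv_eq_iff_eq_mul.mp hgz
            refine ⟨⟨g, Subgroup.mem_centralizer_singleton_iff.mpr hgz'⟩,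
              Subgroup.mem_centralizer_singleton_iff.mpr (Subtype.ext ?_), rfl⟩
            rw [← mul_assoc, hgz', mul_assoc, mul_assoc, mul_right_inj] at hg'
            exact hg'
          · rintro ⟨d, hd, rfl⟩
            refine Subgroup.mem_centralizer_singleton_iff.mpr ?_
            have h1 := Subgroup.mem_centralizer_singleton_iff.mp d.2
            have h2 : (d : G) * c = c * d :=
              congrArg Subtype.val (Subgroup.mem_centralizer_singleton_iff.mp hd)
            show (d : G) * (z * c) = z * c * d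
            rw [← mul_assoc, h1, mul_assoc, h2, ← mul_assoc]
        rw [hcH, Subgroup.card_map_of_injective H.subtype_injective]
        obtain ⟨d, hd⟩ := isConj_iff.mp h
        rw [← hd, ← Subgroup.card_map_of_injective (f := (MulAut.conj d).toMonoidHom)
          (K := Subgroup.centralizer ({y} : Set H)) (MulAut.conj d).injective]
        refine congrArg (fun S : Subgroup H => Nat.card S) ?_
        ext g
        simp only [Subgroup.mem_map_equiv, Subgroup.mem_centralizer_singleton_iff, MulAut.conj_symm_apply]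
        constructor
        · intro hg
          calc d⁻¹ * g * d * y = d⁻¹ * (g * (d * y * d⁻¹)) * d := by group
            _ = d⁻¹ * (d * y * d⁻¹ * g) * d := by rw [hg]
            _ = y * (d⁻¹ * g * d) := by group
        · intro hg
          calc g * (d * y * d⁻¹) = d * (d⁻¹ * g * d * y) * d⁻¹ := by group
            _ = d * (y * (d⁻¹ * g * d)) * d⁻¹ := by rw [hg]
            _ = d * y * d⁻¹ * g := by group
      rw [hcard]
    · rw [if_neg (fun h' => h (hiff.mp h')), if_neg h, mul_zero]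
  have hH0 : (Nat.card H : ℂ) ≠ 0 := Nat.cast_ne_zero.mpr Nat.card_pos.ne'
  have hsum : ∑ ζ : IrrCharacter G,
      (if ζ ∈ B0 then (ζ : G → ℂ) (z * (y : G)) * conj ((ζ : G → ℂ) (z * (y : G))) else 0) = K y := by
    calc _ = ∑ ζ : IrrCharacter G, A ζ * conj ((ζ : G → ℂ) (z * (y : G))) := by
          refine Finset.sum_congr rfl fun ζ _ => ?_
          split_ifs with h
          · rw [hA ζ h]
          · rw [hA0 ζ h, zero_mul]
      _ = (Nat.card H : ℂ)⁻¹ * ∑ c : H, K c * ∑ ζ : IrrCharacter G,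
            (ζ : G → ℂ) (z * (c : G)) * conj ((ζ : G → ℂ) (z * (y : G))) := by
          simp only [hAK, Finset.mul_sum, Finset.sum_mul]
          rw [Finset.sum_comm]
          exact Finset.sum_congr rfl fun c _ => Finset.sum_congr rfl fun ζ _ => by ring
      _ = K y := by
          rw [Finset.sum_congr rfl fun c _ => hmain c, ← Finset.sum_filter, Finset.sum_const,
            nsmul_eq_mul]
          have hc : (Finset.univ.filter fun c : H => IsConj y c).card *
              Nat.card (Subgroup.centralizer ({y} : Set H)) = Nat.card H := by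
            rw [← Cfsg.Agent.CharBasicOrth.card_conj_mul_card_centralizer (h := y), Nat.card_eq_fintype_card
              (α := {g : H // IsConj y g}), Fintype.card_subtype]
          have hc' := congrArg (Nat.cast : ℕ → ℂ) hc
          rw [Nat.cast_mul] at hc'
          rw [← hc'] at hH0
          rw [← hc']
          field_simp
          exact mul_div_cancel_left₀ _ (left_ne_zero_of_mul hH0)
  have hK : (∑ᶠ χ ∈ b0, ‖(χ : H → ℂ) y‖ ^ 2 : ℝ) = (K y).re ∧
      (∑ᶠ ζ ∈ B0, ‖(ζ : G → ℂ) (z * (y : G))‖ ^ 2 : ℝ) = (K y).re := by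
    constructor
    · rw [Cfsg.Agent.BlockTheoryIdem.finsum_mem_eq_sum, Complex.re_sum]
      refine Finset.sum_congr rfl fun χ _ => ?_
      split_ifs <;> simp [Complex.mul_conj', ← Complex.ofReal_pow]
    · rw [Cfsg.Agent.BlockTheoryIdem.finsum_mem_eq_sum, ← hsum, Complex.re_sum]
      refine Finset.sum_congr rfl fun χ _ => ?_
      split_ifs <;> simp [Complex.mul_conj', ← Complex.ofReal_pow]
  refine ⟨hK.2.trans hK.1.symm, fun ⟨k, hk⟩ => ?_⟩
  rw [hK.2]
  set N := pPrimeCore p H with hN
  haveI : N.Normal := Cfsg.Agent.HallCore.pPrimeCore_normal p _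
  have hNp : ¬ p ∣ Nat.card N := Cfsg.Agent.HallCore.not_dvd_card_pPrimeCore p _
  have hreg : ∀ c : H, ¬ p ∣ orderOf c → c ∈ N := by
    intro c hc
    rw [← QuotientGroup.eq_one_iff, ← orderOf_eq_one_iff]
    refine Nat.eq_one_of_dvd_coprimes ((hM.1.coprime_iff_not_dvd.mpr hc).pow_left k) ?_ ?_
    · rw [← hk, Subgroup.index_eq_card]; exact orderOf_dvd_natCard _
    · exact orderOf_map_dvd (QuotientGroup.mk' N) c
  have hyN : y ∈ N := hreg y hy
  have hker := fun (χ : IrrCharacter H) (hχ : χ ∈ b0) (x : H) (hx : x ∈ N) =>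
    Cfsg.Agent.PrincipalParity80.kernel_of_principal hM N hNp hχ x hx
  have hcoef : ∀ c ∈ N, blockCoeff b0 c = (Nat.card H : ℂ)⁻¹ * K y := by
    intro c hc
    rw [blockCoeff, Cfsg.Agent.BlockTheoryIdem.finsum_mem_eq_sum]
    refine congrArg _ (Finset.sum_congr rfl fun χ _ => ?_)
    split_ifs with h
    · rw [hker χ h c hc, hker χ h y hyN]
    · rfl
  have h1 := Cfsg.Agent.BlockPrincipal81.sum_blockCoeff (G := H) hM
  rw [← Finset.sum_subset (Finset.subset_univ (Finset.univ.filter fun c : H => c ∈ N))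
    (fun c _ hc => Cfsg.Agent.BrauerBlocksOrth.blockCoeff_eq_zero hM hb0B (by
      by_contra h
      exact hc (Finset.mem_filter.mpr ⟨Finset.mem_univ _, hreg c h⟩))),
    Finset.sum_congr rfl fun c hc => hcoef c (Finset.mem_filter.mp hc).2, Finset.sum_const,
    nsmul_eq_mul, show (Finset.univ.filter fun c : H => c ∈ N).card = Nat.card N by
      rw [Nat.card_eq_fintype_card, Fintype.card_subtype]] at h1
  have hidx := congrArg (Nat.cast : ℕ → ℂ) (Subgroup.card_mul_index N)
  rw [Nat.cast_mul, hk] at hidx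
  have hKy : K y = ((p ^ k : ℕ) : ℂ) := by
    rw [← hidx] at h1
    have hN0 : (Nat.card N : ℂ) ≠ 0 := Nat.cast_ne_zero.mpr Nat.card_pos.ne'
    have hp0 : ((p ^ k : ℕ) : ℂ) ≠ 0 := Nat.cast_ne_zero.mpr (pow_ne_zero _ hM.1.ne_zero)
    field_simp at h1
    linear_combination h1
  have hfac : (Nat.card H).factorization p = k := by
    rw [← Subgroup.card_mul_index N, hk, Nat.factorization_mul Nat.card_pos.ne' (pow_ne_zero _ hM.1.ne_zero),
      Finsupp.add_apply, Nat.factorization_eq_zero_of_not_dvd hNp, hM.1.factorization_pow]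
    simp
  rw [hKy, Complex.natCast_re, hfac]

end Cfsg.Agent.S0947
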