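import Cfsg.Statements.S0953
import Cfsg.Agent.S0920
import Cfsg.Agent.Lib.BlockTheoryCount
import Cfsg.Agent.Lib.BlockNormalP81

set_option autoImplicit false
open Cfsg

namespace Cfsg.Agent.S0953
open Cfsg.Agent.BlockTheoryLocalRing Cfsg.Agent.BlockTheoryCentre Cfsg.Agent.BlockTheoryIdem
open Cfsg.Agent.BlockTheoryBrauer Cfsg.Agent.BlockTheoryDefect

attribute [local instance] Classical.propDecidable

/-- For a normal Sylow subgroup the blocks correspond to the regular classes centralising it. -/
theorem card_blocks_normal_sylow {G : Type*} [Group G] [Fintype G] {p : ℕ} [Fact p.Prime]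
    {M : Ideal AlgInt} (hM : IsPModular p M) (P : Sylow p G) [(P : Subgroup G).Normal] :
    Nat.card {B : Set (IrrCharacter G) // IsPBlock M B ∧ True} =
      Nat.card {C : ConjClasses G // ∀ n : G, ConjClasses.mk n = C →
        ¬ p ∣ orderOf n ∧ n ∈ Subgroup.centralizer ((P : Subgroup G) : Set G)} := by
  have hp : p.Prime := Fact.out
  set Q : ConjClasses G → Prop := fun C => ∀ n : G, ConjClasses.mk n = C →
    ¬ p ∣ orderOf n ∧ n ∈ Subgroup.centralizer ((P : Subgroup G) : Set G) with hQ
  -- the conditions are invariant under conjugation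
  have hN : ∀ u : G, u ∈ Subgroup.normalizer ((P : Subgroup G) : Set G) := fun u => by
    rw [Subgroup.normalizer_eq_top]; trivial
  have hinv : ∀ n m : G, IsConj n m → (¬ p ∣ orderOf n ∧
      n ∈ Subgroup.centralizer ((P : Subgroup G) : Set G)) → (¬ p ∣ orderOf m ∧
      m ∈ Subgroup.centralizer ((P : Subgroup G) : Set G)) := by
    intro n m hnm h
    obtain ⟨c, rfl⟩ := isConj_iff.mp hnm
    exact ⟨by rw [show orderOf (c * n * c⁻¹) = orderOf n from
      orderOf_injective (MulAut.conj c).toMonoidHom (MulAut.conj c).injective n]; exact h.1,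
      conj_mem_centralizer (hN c) h.2⟩
  have hQout : ∀ C, (¬ p ∣ orderOf C.out ∧
      C.out ∈ Subgroup.centralizer ((P : Subgroup G) : Set G)) → Q C := fun C h n hn =>
    hinv _ _ ((isConj_out C).1 hn) h
  have hzero : ∀ (B : Set (IrrCharacter G)), IsPBlock M B → ∀ x : G,
      ¬ (¬ p ∣ orderOf x ∧ x ∈ Subgroup.centralizer ((P : Subgroup G) : Set G)) →
      blockCoeff B x = 0 := by
    intro B hB x hx
    by_cases h1 : p ∣ orderOf x
    · exact blockCoeff_eq_zero_of_dvd hM hB h1
    · exact BlockNormalP81.blockCoeff_eq_zero hM P P.isPGroup' hB fun h2 => hx ⟨h1, h2⟩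
  refine le_antisymm ?_ ?_
  · refine BlockTheoryCount.card_blocks_le hM (fun _ => True) Q ?_
    intro B B' hB _ _ _ C hC χ hχ
    rw [hzero B hB _ fun h => hC (hQout C h), zero_mul]
    exact ideal_zero hM
  -- the regular elements centralising `P` form a subgroup of order prime to `p`
  set C₀ := Subgroup.centralizer ((P : Subgroup G) : Set G) with hC₀
  set Z := (P : Subgroup G).subgroupOf C₀ with hZ
  have hcop : Nat.Coprime (Nat.card Z) Z.index := by
    obtain ⟨k, hk⟩ := (P.isPGroup'.comap_subtype (K := C₀)).exists_card_eq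
    rw [show Nat.card Z = p ^ k from hk]
    refine Nat.Coprime.pow_left k ((Nat.Prime.coprime_iff_not_dvd hp).2 fun h => ?_)
    refine P.not_dvd_index (h.trans ?_)
    rw [← Subgroup.relIndex]
    exact Subgroup.relIndex_dvd_index_of_normal _ _
  obtain ⟨H, hH⟩ := Subgroup.exists_right_complement'_of_coprime hcop
  set W := H.map C₀.subtype with hW
  have hWcard : ¬ p ∣ Nat.card W := by
    rw [hW, Subgroup.card_map_of_injective Subtype.val_injective]
    intro h
    refine P.not_dvd_index ?_
    have h1 := hH.symm.index_eq_card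
    refine (h1 ▸ h : p ∣ Z.index).trans ?_
    exact Subgroup.relIndex_dvd_index_of_normal _ _
  have hWmem : ∀ x : G, (¬ p ∣ orderOf x ∧ x ∈ C₀) → x ∈ W := by
    rintro x ⟨hx, hxC⟩
    obtain ⟨⟨z, h⟩, hzh⟩ := hH.2 (⟨x, hxC⟩ : C₀)
    obtain ⟨j, hj⟩ := IsPGroup.iff_orderOf.mp P.isPGroup'
      ⟨((z : C₀) : G), Subgroup.mem_subgroupOf.mp z.2⟩
    rw [Subgroup.orderOf_mk] at hj
    have hcomm : Commute ((z : C₀) : G) ((h : C₀) : G) :=
      Subgroup.mem_centralizer_iff.mp (h : C₀).2 _ (Subgroup.mem_subgroupOf.mp z.2)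
    have hzh' : ((z : C₀) : G) * ((h : C₀) : G) = x := congrArg Subtype.val hzh
    have hreg : ¬ p ∣ orderOf ((h : C₀) : G) := by
      rw [Subgroup.orderOf_coe, Subgroup.orderOf_coe]
      intro hd
      refine hWcard ?_
      rw [hW, Subgroup.card_map_of_injective Subtype.val_injective]
      exact hd.trans (orderOf_dvd_natCard h)
    have h1 : ((z : C₀) : G) = 1 := pPart_unique hp ⟨_, hzh', hcomm, ⟨j, hj⟩, hreg⟩
      ⟨x, one_mul x, Commute.one_left x, ⟨0, by simp⟩, hx⟩
    rw [← hzh', h1, one_mul]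
    exact ⟨(h : C₀), h.2, rfl⟩
  haveI : Fintype W := Fintype.ofFinite W
  haveI : Fintype {B : Set (IrrCharacter G) // IsPBlock M B ∧ True} := Fintype.ofFinite _
  haveI : Fintype {C : ConjClasses G // Q C} := Fintype.ofFinite _
  rw [Nat.card_eq_fintype_card, Nat.card_eq_fintype_card]
  choose r hr using fun B : {B : Set (IrrCharacter G) // IsPBlock M B ∧ True} =>
    block_nonempty hM B.2.1
  refine BlockTheoryCount.card_le_of_congr hM
    (fun C B => centralChar (r B : G → ℂ) C.1.out) (fun B C => blockCoeff B.1 C.1.out)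
    (fun C B => of_isIntegral hM (isIntegral_centralChar _ _))
    (fun B C => blockCoeff_mem hM B.2.1 _) fun C C' => ?_
  set z : MonoidAlgebra ℂ G := classSum C.1.out -
    ∑ B : {B : Set (IrrCharacter G) // IsPBlock M B ∧ True},
      centralChar (r B : G → ℂ) C.1.out • idem B.1 with hz
  have hzc : IsCen z := (isCen_classSum _).sub
    (Finset.sum_induction _ IsCen (fun _ _ => IsCen.add) isCen_zero fun B _ => (isCen_idem _).smul _)
  have hzi : IsInt M z := IsInt.sub hM (isInt_classSum hM _)
    (Finset.sum_induction _ (IsInt M) (fun _ _ => IsInt.add hM) (isInt_zero hM) fun B _ =>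
      IsInt.smul hM (of_isIntegral hM (isIntegral_centralChar _ _)) (isInt_idem hM B.2.1))
  have hsupp : ∀ x ∉ W, z.coeff x = 0 := by
    intro x hx
    have hx' : ¬ (¬ p ∣ orderOf x ∧ x ∈ C₀) := fun h => hx (hWmem x h)
    have h1 : ¬ IsConj C.1.out x := fun h => hx' (hinv _ _ h (C.2 _ (Quotient.out_eq C.1)))
    have h2 : ∀ B : {B : Set (IrrCharacter G) // IsPBlock M B ∧ True}, blockCoeff B.1 x = 0 :=
      fun B => hzero _ B.2.1 x hx'
    have h3 : (classSum C.1.out).coeff x = 0 := by rw [classSum, coeff_ofFun, if_neg h1]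
    simp [hz, h2, h3, coeff_idem, MonoidAlgebra.coeff_sum]
  have hsm := BlockTheoryCount.small_of_supported W hM hWcard hzc hzi hsupp (fun χ => by
    set B₀ : {B : Set (IrrCharacter G) // IsPBlock M B ∧ True} :=
      ⟨blockOf M (χ : G → ℂ), isPBlock_blockOf χ, trivial⟩ with hB₀
    rw [hz, map_sub, map_sum, Finset.sum_eq_single B₀]
    · rw [map_smul, omega_idem, if_pos (self_mem_blockOf hM χ), smul_eq_mul, mul_one,
        omega_classSum (irr_classFun χ)]
      exact sameBlock_of_mem hM B₀.2.1 (self_mem_blockOf hM χ) (hr B₀) _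
    · intro B _ hne
      rw [map_smul, omega_idem, if_neg, smul_zero]
      exact fun h => hne (Subtype.ext (block_eq_of_mem hM B.2.1 B₀.2.1 h (self_mem_blockOf hM χ)))
    · simp) C'.1.out
  have hδ : (classSum C.1.out).coeff C'.1.out = if C = C' then 1 else 0 := by
    rw [classSum, coeff_ofFun]
    refine if_congr ⟨fun h => Subtype.ext ?_, ?_⟩ rfl rfl
    · exact ((isConj_out C.1).2 h).symm.trans (Quotient.out_eq C'.1)
    · rintro rfl
      exact IsConj.refl _
  have := ideal_neg hsm
  convert this using 1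
  simp [hz, hδ, coeff_idem, MonoidAlgebra.coeff_sum, Finset.sum_apply']



/-- Let P be a Sylow p-subgroup of the finite group G with normalizer N, and fix a maximal ideal M of the algebraic integers containing p. The number of blocks of G having P as a defect group equals the number of conjugacy classes of N consisting of elements of order prime to p that centralize P. -/
theorem result {G : Type*} [Group G] [Finite G] (p : ℕ) [Fact p.Prime] (M : Ideal Cfsg.AlgInt) (hM : Cfsg.IsPModular p M) (P : Sylow p G) : Nat.card {B : Set (Cfsg.IrrCharacter G) // Cfsg.IsPBlock M B ∧ Cfsg.IsDefectGroup p M B (P : Subgroup G)} = Nat.card {C : ConjClasses (Subgroup.normalizer ((P : Subgroup G) : Set G)) // ∀ n : Subgroup.normalizer ((P : Subgroup G) : Set G), ConjClasses.mk n = C → ¬ p ∣ orderOf n ∧ (n : G) ∈ Subgroup.centralizer ((P : Subgroup G) : Set G)} := by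
  classical
  haveI := Fintype.ofFinite G
  set N := Subgroup.normalizer ((P : Subgroup G) : Set G) with hN
  haveI : Fintype N := Fintype.ofFinite N
  have hPN : (P : Subgroup G) ≤ N := Subgroup.le_normalizer
  haveI : ((P : Subgroup G).subgroupOf N).Normal :=
    Subgroup.normal_subgroupOf_of_le_normalizer le_rfl
  haveI : ((P.subtype hPN : Sylow p N) : Subgroup N).Normal := by
    rw [Sylow.coe_subtype]; infer_instance
  obtain ⟨h1, h2⟩ := S0920.result p M hM (P : Subgroup G) P.isPGroup'
  have hdef : ∀ b, IsPBlock M b → IsDefectGroup p M b ((P : Subgroup G).subgroupOf N) := by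
    intro b hb
    obtain ⟨E, hE⟩ := exists_defectGroup (G := N) hM hb
    have hle := normal_le_defectGroup hM hb hE ((P : Subgroup G).subgroupOf N)
      P.isPGroup'.comap_subtype
    have hmap : (P : Subgroup G) ≤ E.map N.subtype := fun a ha => ⟨⟨a, hPN ha⟩, hle ha, rfl⟩
    have := P.is_maximal' ((isPGroup_of_isDefectGroup hE).map N.subtype) hmap
    have hEeq : E = (P : Subgroup G).subgroupOf N :=
      Subgroup.map_injective Subtype.val_injective
        (this.trans (Subgroup.map_subgroupOf_eq_of_le hPN).symm)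
    exact hEeq ▸ hE
  choose f hf1 hf2 hf3 using fun b : {b : Set (IrrCharacter N) // IsPBlock M b ∧ True} =>
    h1 b.1 b.2.1 (hdef _ b.2.1)
  rw [← Nat.card_congr (Equiv.ofBijective
    (fun b => (⟨f b, hf1 b, hf2 b⟩ : {B : Set (Cfsg.IrrCharacter G) // Cfsg.IsPBlock M B ∧
      Cfsg.IsDefectGroup p M B (P : Subgroup G)})) ⟨?_, ?_⟩)]
  · rw [card_blocks_normal_sylow hM (P.subtype hPN)]
    refine Nat.card_congr (Equiv.subtypeEquivRight fun C => forall_congr' fun n =>
      imp_congr_right fun _ => and_congr_right fun _ => ?_)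
    rw [Sylow.coe_subtype, Subgroup.mem_centralizer_iff, Subgroup.mem_centralizer_iff]
    exact ⟨fun h u hu => congrArg Subtype.val (h ⟨u, hPN hu⟩ (Subgroup.mem_subgroupOf.mpr hu)),
      fun h v hv => Subtype.ext (h v (Subgroup.mem_subgroupOf.mp hv))⟩
  · intro b b' hbb
    obtain ⟨c, -, hc⟩ := h2 _ (hf1 b) (hf2 b)
    have e : f b = f b' := congrArg Subtype.val hbb
    exact Subtype.ext ((hc b.1 ⟨b.2.1, hdef _ b.2.1, hf3 b⟩).trans
      (hc b'.1 ⟨b'.2.1, hdef _ b'.2.1, e ▸ hf3 b'⟩).symm)
  · rintro ⟨B, hB, hBD⟩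
    obtain ⟨b, ⟨hb, -, hind⟩, -⟩ := h2 B hB hBD
    exact ⟨⟨b, hb, trivial⟩, Subtype.ext
      (BlockTheoryInduced.inducedBlock_unique N hM (hf3 ⟨b, hb, trivial⟩) hind)⟩

end Cfsg.Agent.S0953
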