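import Cfsg.Statements.S0954
import Cfsg.Agent.Lib.BlockTheoryNormal

set_option autoImplicit false
open Cfsg

namespace Cfsg.Agent.S0954

/-- Let N be a normal subgroup of the finite group G of order prime to p and of p-power index (a normal p-complement), and fix a maximal ideal M of the algebraic integers containing p. Then two irreducible characters χ, ψ of G lie in the same block if and only if some irreducible character of N has nonzero inner product with both the restriction of χ and the restriction of ψ. -/
theorem result {G : Type*} [Group G] [Fintype G] (p : ℕ) [Fact p.Prime] (M : Ideal Cfsg.AlgInt) (hM : Cfsg.IsPModular p M) (N : Subgroup G) [N.Normal] [Fintype N] (hN : ¬ p ∣ Nat.card N) (hidx : ∃ k : ℕ, N.index = p ^ k) (χ ψ : Cfsg.IrrCharacter G) : Cfsg.SameBlock M (χ : G → ℂ) (ψ : G → ℂ) ↔ ∃ θ : Cfsg.IrrCharacter N, Cfsg.classInner (fun n : N => (χ : G → ℂ) n) (θ : N → ℂ) ≠ 0 ∧ Cfsg.classInner (fun n : N => (ψ : G → ℂ) n) (θ : N → ℂ) ≠ 0 := by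
  classical
  constructor
  · intro h
    obtain ⟨θ, hθ⟩ : ∃ θ : IrrCharacter N,
        classInner (fun n : N => (χ : G → ℂ) n) (θ : N → ℂ) ≠ 0 := by
      by_contra! hall
      have := congrFun (CharBasicOrth.eq_sum_classInner (ψ := fun n : N => (χ : G → ℂ) n)
        (fun a b => BlockTheoryCentre.irr_classFun χ (a : G) (b : G))) 1
      simp [hall] at this
      exact BlockTheoryCentre.irr_one_ne_zero χ this
    exact ⟨θ, hθ, BlockTheoryNormal.constituent_of_sameBlock N hM hN h θ hθ⟩
  · rintro ⟨θ, h1, h2⟩
    obtain ⟨k, hk⟩ := hidx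
    refine BlockTheoryNormal.sameBlock_of_regular hM fun g hg => ?_
    have hgN : g ∈ N := by
      rw [← QuotientGroup.eq_one_iff]
      refine orderOf_eq_one_iff.mp (Nat.eq_one_of_dvd_coprimes
        ((Nat.Coprime.pow_right k ((Fact.out : p.Prime).coprime_iff_not_dvd.mpr hg).symm))
        (orderOf_map_dvd (QuotientGroup.mk' N) g) ?_)
      rw [← hk, Subgroup.index_eq_card]
      exact orderOf_dvd_natCard _
    have hsupp : ∀ x ∉ N, (BlockTheoryCentre.classSum g).coeff x = 0 := fun x hx => by
      simp only [BlockTheoryCentre.classSum, BlockTheoryCentre.coeff_ofFun]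
      rw [if_neg]
      intro hc
      obtain ⟨c, rfl⟩ := isConj_iff.mp hc
      exact hx ((inferInstance : N.Normal).conj_mem _ hgN c)
    rw [← BlockTheoryCentre.omega_classSum (BlockTheoryCentre.irr_classFun χ),
      ← BlockTheoryCentre.omega_classSum (BlockTheoryCentre.irr_classFun ψ),
      BlockTheoryNormal.omega_eq_omega_res N χ θ h1 (BlockTheoryCentre.isCen_classSum g) hsupp,
      BlockTheoryNormal.omega_eq_omega_res N ψ θ h2 (BlockTheoryCentre.isCen_classSum g) hsupp,
      sub_self]
    exact BlockTheoryLocalRing.ideal_zero hM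

end Cfsg.Agent.S0954
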