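import Cfsg.Statements.S0955
import Cfsg.Agent.Lib.BlockTheoryFirstMain
import Cfsg.Agent.Lib.HallCore

set_option autoImplicit false
open Cfsg

namespace Cfsg.Agent.S0955

/-- Let D be a defect group of a block of the finite group G relative to a maximal ideal M of the algebraic integers containing the prime p. Then D is the largest normal p-subgroup of its own normalizer: O_p(N_G(D)) = D. -/
theorem result {G : Type*} [Group G] [Finite G] (p : ℕ) [Fact p.Prime] (M : Ideal Cfsg.AlgInt) (hM : Cfsg.IsPModular p M) (B : Set (Cfsg.IrrCharacter G)) (hB : Cfsg.IsPBlock M B) (D : Subgroup G) (hD : Cfsg.IsDefectGroup p M B D) : (Cfsg.pCore p (Subgroup.normalizer (D : Set G))).map (Subgroup.normalizer (D : Set G)).subtype = D := by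
  classical
  haveI := Fintype.ofFinite G
  set N := Subgroup.normalizer (D : Set G) with hN
  haveI : Fintype N := Fintype.ofFinite N
  have hDN : D ≤ N := Subgroup.le_normalizer
  have hDP := BlockTheoryDefect.isPGroup_of_isDefectGroup hD
  haveI : (D.subgroupOf N).Normal := Subgroup.normal_subgroupOf_of_le_normalizer le_rfl
  haveI : (Cfsg.pCore p N).Normal := HallCore.pCore_normal p N
  obtain ⟨b, hind⟩ := BlockTheoryFirstMain.exists_inducing hM hB hDP N hDN
    (Subgroup.centralizer_le_normalizer _) le_rfl (BlockTheoryDefect.not_small_cut_defect hM hB hD)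
  obtain ⟨E, hE⟩ := BlockTheoryDefect.exists_defectGroup (G := N) hM hind.1
  have hEeq := BlockTheoryFirstMain.defect_eq_of_induced hM hD N hDN le_rfl hind hE
  have h1 := BlockTheoryDefect.normal_le_defectGroup hM hind.1 hE (Cfsg.pCore p N)
    (HallCore.isPGroup_pCore p N)
  rw [hEeq] at h1
  rw [le_antisymm h1 (HallCore.le_pCore hDP.comap_subtype)]
  exact Subgroup.map_subgroupOf_eq_of_le hDN

end Cfsg.Agent.S0955
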