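import Cfsg.Statements.S0956
import Cfsg.Agent.S0920
import Cfsg.Agent.Lib.BrauerBlocksOrth
import Cfsg.Agent.Lib.BlockTheoryHeight
import Cfsg.Agent.Lib.BlockTheoryFirstMain

set_option autoImplicit false
open Cfsg

namespace Cfsg.Agent.S0956
open Cfsg.Agent.BlockTheoryLocalRing Cfsg.Agent.BlockTheoryCentre Cfsg.Agent.BlockTheoryIdem
open Cfsg.Agent.BlockTheoryBrauer Cfsg.Agent.BlockTheoryDefect
open scoped ComplexConjugate

attribute [local instance] Classical.propDecidable

/-- The coefficients of a block idempotent on a regular class translated by a singular element add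
up to zero. -/
theorem sum_class_translate {G : Type*} [Group G] [Fintype G] {p : ℕ} {M : Ideal AlgInt}
    (hM : IsPModular p M) {B : Set (IrrCharacter G)} (hB : IsPBlock M B) {y u : G}
    (hy : ¬ p ∣ orderOf y) (hu : p ∣ orderOf u) :
    ∑ x : G, (if IsConj y x then blockCoeff B (u * x) else 0) = 0 := by
  have hχ : ∀ χ : IrrCharacter G, ∑ x : G, (if IsConj y x then (χ : G → ℂ) (u * x) else 0) =
      centralChar (χ : G → ℂ) y * (χ : G → ℂ) u := by
    intro χ
    have h := chiSum_mul χ (isCen_classSum y) (MonoidAlgebra.single u 1)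
    rw [(isCen_classSum y).comm, omega_classSum (irr_classFun χ), chiSum_single, one_mul] at h
    rw [← h, eq_sum_single (classSum y), Finset.mul_sum, map_sum]
    refine Finset.sum_congr rfl fun x _ => ?_
    rw [MonoidAlgebra.single_mul_single, chiSum_single, classSum, coeff_ofFun, one_mul]
    split_ifs <;> simp
  calc ∑ x : G, (if IsConj y x then blockCoeff B (u * x) else 0)
      = (Nat.card G : ℂ)⁻¹ * ∑ χ : IrrCharacter G, (if χ ∈ B then (χ : G → ℂ) 1 *
          conj (∑ x : G, if IsConj y x then (χ : G → ℂ) (u * x) else 0) else 0) := by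
        simp only [blockCoeff_eq_sum, ← Finset.sum_filter]
        rw [← Finset.mul_sum, Finset.sum_comm]
        simp only [map_sum, Finset.mul_sum]
    _ = (Nat.card G : ℂ)⁻¹ * ∑ χ : IrrCharacter G,
          ((Subgroup.centralizer ({y} : Set G)).index : ℂ) *
            conj (if χ ∈ B then (χ : G → ℂ) y * conj (conj ((χ : G → ℂ) u)) else 0) := by
        congr 1
        refine Finset.sum_congr rfl fun χ _ => ?_
        rw [hχ]
        split_ifs
        · have h1 := irr_one_ne_zero χ
          have hc1 : conj ((χ : G → ℂ) 1) = (χ : G → ℂ) 1 := by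
            rw [← irr_inv, inv_one]
          rw [centralChar, Complex.conj_conj, map_mul, map_mul, map_div₀, map_mul, map_natCast, hc1]
          field_simp
        · simp
    _ = 0 := by
        rw [← Finset.mul_sum, ← map_sum]
        have e : ∑ χ : IrrCharacter G,
            (if χ ∈ B then (χ : G → ℂ) y * conj (conj ((χ : G → ℂ) u)) else 0) = 0 := by
          have hu' : p ∣ orderOf u⁻¹ := by rwa [orderOf_inv]
          have h := BrauerBlocksOrth.orth_regular_singular hM hB hy hu'
          rw [BlockTheoryIdem.finsum_mem_eq_sum] at h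
          simpa only [irr_inv, Complex.conj_conj] using h
        rw [e, map_zero, mul_zero, mul_zero]

/-- For a normal defect group: some element of a defect class sends a Sylow subgroup to one meeting
it in the defect group. -/
theorem exists_inter_eq {G : Type*} [Group G] [Fintype G] {p : ℕ} [Fact p.Prime]
    {M : Ideal AlgInt} (hM : IsPModular p M) {B : Set (IrrCharacter G)} (hB : IsPBlock M B)
    (D : Subgroup G) [D.Normal] (hD : IsDefectGroup p M B D) (Q : Sylow p G) :
    ∃ x : G, x ∈ Subgroup.centralizer (D : Set G) ∧ ¬ p ∣ orderOf x ∧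
      (∃ S : Sylow p (Subgroup.centralizer ({x} : Set G)), sylowIn S = D) ∧
      (Q : Subgroup G) ⊓ (Q : Subgroup G).map (MulAut.conj x).toMonoidHom = D := by
  have hp : p.Prime := Fact.out
  obtain ⟨y, hy, S, hS⟩ := hD
  have hD' : IsDefectGroup p M B D := ⟨y, hy, S, hS⟩
  have hyreg : ¬ p ∣ orderOf y := fun h =>
    hy.2.1 (by rw [blockCoeff_eq_zero_of_dvd hM hB h]; exact ideal_zero hM)
  have hDP : IsPGroup p D := isPGroup_of_isDefectGroup hD'
  obtain ⟨Q', hQ'⟩ := hDP.exists_le_sylow
  have hDQ : D ≤ Q := by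
    obtain ⟨c, hc⟩ := MulAction.exists_smul_eq G Q' Q
    intro a ha
    rw [← hc, Sylow.coe_subgroup_smul]
    refine ⟨c⁻¹ * a * c, hQ' ?_, ?_⟩
    · simpa using (inferInstance : D.Normal).conj_mem a ha c⁻¹
    · show c * (c⁻¹ * a * c) * c⁻¹ = a
      group
  have hxD : ∀ x, IsConj y x → x ∈ Subgroup.centralizer (D : Set G) := by
    intro x hx
    obtain ⟨c, rfl⟩ := isConj_iff.mp hx
    exact conj_mem_centralizer (by rw [Subgroup.normalizer_eq_top]; trivial)
      (hS ▸ mem_centralizer_sylowIn S)
  have hsyl : ∀ x, IsConj y x →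
      ∃ T : Sylow p (Subgroup.centralizer ({x} : Set G)), sylowIn T = D := by
    intro x hx
    obtain ⟨T, hT⟩ := exists_le_sylowIn hDP (hxD x hx)
    refine ⟨T, (Subgroup.eq_of_le_of_card_ge hT ?_).symm⟩
    rw [hS]
    exact card_le_of_conjLe (conjLe_sylowIn_of_isConj (isPGroup_sylowIn T) hx
      (mem_centralizer_sylowIn T) S)
  by_contra hcon
  push Not at hcon
  set f : G → G → ℂ := fun x w => if w * x⁻¹ ∈ (Q : Subgroup G) then blockCoeff B w else 0 with hf
  set φ : G → ℂ := fun x => ∑ w : G, f x w with hφ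
  -- each coset sum is small
  have hsmall : ∀ x, IsConj y x → MemLocalIdeal M (φ x) := by
    intro x hx
    obtain ⟨T, hT⟩ := hsyl x hx
    have hxreg : ¬ p ∣ orderOf x := by
      obtain ⟨c, rfl⟩ := isConj_iff.mp hx
      rwa [show orderOf (c * y * c⁻¹) = orderOf y from
        orderOf_injective (MulAut.conj c).toMonoidHom (MulAut.conj c).injective y]
    set R := (Q : Subgroup G) ⊓ (Q : Subgroup G).map (MulAut.conj x⁻¹).toMonoidHom with hR
    have hxD' : x⁻¹ ∈ Subgroup.centralizer (D : Set G) := InvMemClass.inv_mem (hxD x hx)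
    have hDR : D ≤ R := le_inf hDQ fun a ha => ⟨a, hDQ ha, by
      show x⁻¹ * a * x⁻¹⁻¹ = a
      rw [← Subgroup.mem_centralizer_iff.mp hxD' a ha, mul_inv_cancel_right]⟩
    have hC : Subgroup.centralizer ({x⁻¹} : Set G) = Subgroup.centralizer ({x} : Set G) := by
      ext c
      rw [Subgroup.mem_centralizer_singleton_iff, Subgroup.mem_centralizer_singleton_iff]
      exact Commute.inv_right_iff (a := c) (b := x)
    have hlt : Nat.card D < Nat.card R := lt_of_le_of_ne (Subgroup.card_le_of_le hDR) fun h =>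
      hcon x⁻¹ hxD' (by rwa [orderOf_inv])
        (by unfold sylowIn; rw [hC]; exact ⟨T, hT⟩) (Subgroup.eq_of_le_of_card_ge hDR h.ge).symm
    have hRP : IsPGroup p R := Q.isPGroup'.to_le inf_le_left
    have hfR : ∀ r ∈ R, ∀ w, f x (r * w * r⁻¹) = f x w := by
      intro r hr w
      obtain ⟨hr1, a, ha, hax⟩ := hr
      replace hr1 : r ∈ (Q : Subgroup G) := hr1
      replace ha : a ∈ (Q : Subgroup G) := ha
      have hax' : x⁻¹ * a * x⁻¹⁻¹ = r := hax
      have e : r * w * r⁻¹ * x⁻¹ = r * (w * x⁻¹) * a⁻¹ := by rw [← hax']; group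
      simp only [hf]
      rw [e]
      refine if_congr ⟨fun h => ?_, fun h => ?_⟩ (isCen_idem B w r) rfl
      · have := mul_mem (mul_mem (InvMemClass.inv_mem hr1) h) ha
        simpa [mul_assoc] using this
      · exact mul_mem (mul_mem hr1 h) (InvMemClass.inv_mem ha)
    have hfI : ∀ w, MemLocalRing M (f x w) := fun w => by
      simp only [hf]
      split_ifs
      exacts [blockCoeff_mem hM hB w, (localRing hM).zero_mem]
    have h1 := ideal_sum_conj hM R hRP (f x) hfI hfR
    have h2 : MemLocalIdeal M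
        (∑ w : G, if w ∈ Subgroup.centralizer (R : Set G) then f x w else 0) := by
      refine ideal_sum hM fun w _ => ?_
      split_ifs with hw
      · simp only [hf]
        split_ifs
        · by_contra hne
          exact hlt.not_ge (card_le_of_conjLe
            (conjLe_defect_of_coeff hM hB hD' hne (IsConj.refl w) hRP hw))
        · exact ideal_zero hM
      · exact ideal_zero hM
    have h3 := ideal_add hM h1 h2
    rw [← Finset.sum_add_distrib] at h3
    convert h3 using 1
    refine Finset.sum_congr rfl fun w _ => ?_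
    split_ifs <;> simp
  -- the total
  set N := (Subgroup.centralizer ({y} : Set G)).index with hN
  have htot : ∑ x : G, (if IsConj y x then φ x else 0) = (N : ℂ) * blockCoeff B y := by
    have e : ∀ x, φ x = ∑ u : G, if u ∈ (Q : Subgroup G) then blockCoeff B (u * x) else 0 := by
      intro x
      refine Fintype.sum_equiv (Equiv.mulRight x⁻¹) _ _ fun w => ?_
      simp [hf]
    simp only [e, ← Finset.sum_filter]
    rw [Finset.sum_comm, Finset.sum_eq_single (1 : G)]
    · rw [Finset.sum_congr rfl (g := fun _ => blockCoeff B y) fun x hx => ?_, Finset.sum_const,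
        nsmul_eq_mul, hN, index_centralizer_eq, Nat.card_eq_fintype_card, Fintype.card_subtype]
      obtain ⟨c, rfl⟩ := isConj_iff.mp (Finset.mem_filter.1 hx).2
      rw [one_mul]
      exact isCen_idem B y c
    · intro u hu hu1
      rw [Finset.sum_filter]
      refine sum_class_translate hM hB hyreg ?_
      obtain ⟨k, hk⟩ := IsPGroup.iff_orderOf.mp Q.isPGroup' ⟨u, (Finset.mem_filter.1 hu).2⟩
      rw [Subgroup.orderOf_mk] at hk
      rw [hk]
      refine dvd_pow_self p fun h => hu1 ?_
      rw [h, pow_zero, orderOf_eq_one_iff] at hk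
      exact hk
    · simp
  -- group the sum into orbits of equal size
  let A := {x : G // IsConj y x}
  letI : MulAction (Q : Subgroup G) A :=
    { smul := fun q a => ⟨(q : G) * a.1 * (q : G)⁻¹, a.2.trans (isConj_iff.mpr ⟨q, rfl⟩)⟩
      one_smul := fun a => Subtype.ext
        (show ((1 : (Q : Subgroup G)) : G) * a.1 * ((1 : (Q : Subgroup G)) : G)⁻¹ = a.1 by simp)
      mul_smul := fun q r a => Subtype.ext
        (show ((q * r : (Q : Subgroup G)) : G) * a.1 * ((q * r : (Q : Subgroup G)) : G)⁻¹ =
          (q : G) * ((r : G) * a.1 * (r : G)⁻¹) * (q : G)⁻¹ by simp [mul_assoc]) }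
  have horbit : ∀ a : A, Nat.card (MulAction.orbit (Q : Subgroup G) a) = p ^ N.factorization p := by
    intro a
    have hmul : Nat.card (MulAction.orbit (Q : Subgroup G) a) *
        Nat.card (MulAction.stabilizer (Q : Subgroup G) a) = Nat.card Q := by
      rw [Nat.card_congr (MulAction.orbitEquivQuotientStabilizer (Q : Subgroup G) a)]
      exact (Subgroup.card_eq_card_quotient_mul_card_subgroup _).symm
    have hst : (MulAction.stabilizer (Q : Subgroup G) a).map (Q : Subgroup G).subtype = D := by
      obtain ⟨T, hT⟩ := hsyl a.1 a.2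
      refine le_antisymm ?_ ?_
      · have hxc : a.1 ∈ Subgroup.centralizer
            (((MulAction.stabilizer (Q : Subgroup G) a).map (Q : Subgroup G).subtype : Subgroup G) :
              Set G) := by
          refine Subgroup.mem_centralizer_iff.mpr ?_
          rintro _ ⟨q, hq, rfl⟩
          exact mul_inv_eq_iff_eq_mul.mp (congrArg Subtype.val hq)
        obtain ⟨c, hc⟩ := conjLe_sylowIn (Q.isPGroup'.to_le (Subgroup.map_subtype_le _)) hxc T
        rw [hT] at hc
        intro v hv
        have := (inferInstance : D.Normal).conj_mem _ (hc ⟨v, hv, rfl⟩) c⁻¹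
        simpa [mul_assoc] using this
      · intro d hd
        refine ⟨⟨d, hDQ hd⟩, Subtype.ext ?_, rfl⟩
        show d * a.1 * d⁻¹ = a.1
        rw [Subgroup.mem_centralizer_iff.mp (hxD _ a.2) d hd, mul_inv_cancel_right]
    rw [← Subgroup.card_map_of_injective (f := (Q : Subgroup G).subtype) Subtype.val_injective,
      hst, hS, Subgroup.card_map_of_injective Subtype.val_injective,
      Sylow.card_eq_multiplicity, Sylow.card_eq_multiplicity,
      ← BlockTheoryHeight.index_exp (p := p) (Subgroup.centralizer ({y} : Set G)), pow_add] at hmul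
    exact Nat.eq_of_mul_eq_mul_right (pow_pos hp.pos _) hmul
  have hinv : ∀ (q : (Q : Subgroup G)) (a : A), φ (q • a).1 = φ a.1 := by
    intro q a
    refine (Fintype.sum_equiv (MulAut.conj (q : G)).toEquiv _ _ fun w => ?_).symm
    show f a.1 w = f ((q : G) * a.1 * (q : G)⁻¹) ((q : G) * w * (q : G)⁻¹)
    simp only [hf]
    refine if_congr ?_ (isCen_idem B w (q : G)).symm rfl
    rw [show (q : G) * w * (q : G)⁻¹ * ((q : G) * a.1 * (q : G)⁻¹)⁻¹ =
      (q : G) * (w * a.1⁻¹) * (q : G)⁻¹ by group]
    exact ⟨fun h => mul_mem (mul_mem q.2 h) (InvMemClass.inv_mem q.2), fun h => by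
      have := mul_mem (mul_mem (InvMemClass.inv_mem q.2) h) q.2
      simpa [mul_assoc] using this⟩
  set Ω := Quotient (MulAction.orbitRel (Q : Subgroup G) A)
  haveI : Fintype Ω := Fintype.ofFinite _
  have hgroup : ∑ x : G, (if IsConj y x then φ x else 0) =
      ((p ^ N.factorization p : ℕ) : ℂ) * ∑ ω : Ω, φ ω.out.1 := by
    rw [← Finset.sum_filter, Finset.sum_subtype (p := fun x => IsConj y x) _ (fun x => by simp),
      ← (MulAction.selfEquivSigmaOrbits (Q : Subgroup G) A).symm.sum_comp, Fintype.sum_sigma,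
      Finset.mul_sum]
    refine Finset.sum_congr rfl fun ω _ => ?_
    rw [← horbit ω.out, Nat.card_eq_fintype_card]
    rw [Finset.sum_congr rfl (g := fun _ => φ ω.out.1) fun o _ => ?_, Finset.sum_const,
      Finset.card_univ, nsmul_eq_mul]
    obtain ⟨q, hq⟩ := o.2
    show φ (o.1 : A).1 = _
    rw [← hq]
    exact hinv q _
  rw [hgroup] at htot
  have hT : MemLocalIdeal M (∑ ω : Ω, φ ω.out.1) := ideal_sum hM fun ω _ => hsmall _ ω.out.2
  set b := N / p ^ N.factorization p
  have hb : ¬ p ∣ b := Nat.not_dvd_ordCompl hp Subgroup.index_ne_zero_of_finite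
  have hNe : (N : ℂ) = ((p ^ N.factorization p : ℕ) : ℂ) * (b : ℂ) := by
    exact_mod_cast (Nat.ordProj_mul_ordCompl_eq_self N p).symm
  rw [hNe, mul_assoc] at htot
  rw [mul_left_cancel₀ (Nat.cast_ne_zero.2 (pow_ne_zero _ hp.ne_zero)) htot] at hT
  exact not_ideal_mul hM (natCast_mem (localRing hM) b) (blockCoeff_mem hM hB y)
    (fun h => hb ((natCast_mem_iff hM).1 h)) hy.2.1 hT



/-- Let D be a defect group of a block of the finite group G (relative to a maximal ideal M of the algebraic integers containing the prime p) and P a Sylow p-subgroup containing D. Then there is an element x of order prime to p such that D is a Sylow p-subgroup of the centralizer of x and D = P ∩ x P x⁻¹. -/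
theorem result {G : Type*} [Group G] [Finite G] (p : ℕ) [Fact p.Prime] (M : Ideal Cfsg.AlgInt) (hM : Cfsg.IsPModular p M) (B : Set (Cfsg.IrrCharacter G)) (hB : Cfsg.IsPBlock M B) (D : Subgroup G) (hD : Cfsg.IsDefectGroup p M B D) (P : Sylow p G) (hDP : D ≤ P) : ∃ x : G, ¬ p ∣ orderOf x ∧ (∃ S : Sylow p (Subgroup.centralizer ({x} : Set G)), (S : Subgroup (Subgroup.centralizer ({x} : Set G))).map (Subgroup.centralizer ({x} : Set G)).subtype = D) ∧ (P : Subgroup G) ⊓ (P : Subgroup G).map (MulAut.conj x).toMonoidHom = D := by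
  classical
  haveI := Fintype.ofFinite G
  set N := Subgroup.normalizer (D : Set G) with hN
  haveI : Fintype N := Fintype.ofFinite N
  have hDN : D ≤ N := Subgroup.le_normalizer
  have hDp := isPGroup_of_isDefectGroup hD
  haveI : (D.subgroupOf N).Normal := Subgroup.normal_subgroupOf_of_le_normalizer le_rfl
  obtain ⟨b, hind⟩ := BlockTheoryFirstMain.exists_inducing hM hB hDp N hDN
    (Subgroup.centralizer_le_normalizer _) le_rfl (not_small_cut_defect hM hB hD)
  obtain ⟨E, hE⟩ := exists_defectGroup (G := N) hM hind.1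
  rw [BlockTheoryFirstMain.defect_eq_of_induced hM hD N hDN le_rfl hind hE] at hE
  obtain ⟨Q, hQ⟩ := (P.isPGroup'.comap_subtype (K := N)).exists_le_sylow
  obtain ⟨x, hxc, hxreg, ⟨T, hT⟩, hQx⟩ := exists_inter_eq hM hind.1 (D.subgroupOf N) hE Q
  have hxC : (x : G) ∈ Subgroup.centralizer (D : Set G) :=
    Subgroup.mem_centralizer_iff.mpr fun u hu => congrArg Subtype.val
      (Subgroup.mem_centralizer_iff.mp hxc ⟨u, hDN hu⟩ (Subgroup.mem_subgroupOf.mpr hu))
  refine ⟨x, by rwa [Subgroup.orderOf_coe], ?_, ?_⟩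
  · exact (S0920.local_class D hDp N rfl x hxC T hT).1
  set R := (P : Subgroup G) ⊓ (P : Subgroup G).map (MulAut.conj (x : G)).toMonoidHom with hR
  have hDR : D ≤ R := le_inf hDP fun a ha => ⟨a, hDP ha, by
    show (x : G) * a * (x : G)⁻¹ = a
    rw [← Subgroup.mem_centralizer_iff.mp hxC a ha, mul_inv_cancel_right]⟩
  by_contra hne
  have hRP : IsPGroup p R := P.isPGroup'.to_le inf_le_left
  haveI : Fintype R := Fintype.ofFinite R
  haveI : Group.IsNilpotent R := hRP.isNilpotent
  have hlt : D.subgroupOf R < ⊤ := by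
    refine lt_top_iff_ne_top.mpr fun h => hne (le_antisymm ?_ hDR)
    exact Subgroup.subgroupOf_eq_top.mp h
  obtain ⟨r, hr, hrD⟩ := SetLike.exists_of_lt
    (Group.normalizerCondition_of_isNilpotent (G := R) _ hlt)
  have hrN : (r : G) ∈ N := by
    rw [hN, Subgroup.mem_normalizer_iff]
    intro a
    constructor
    · intro ha
      exact (Subgroup.mem_normalizer_iff.mp hr ⟨a, hDR ha⟩).mp ha
    · intro ha
      have haR : a ∈ R := by
        have := mul_mem (mul_mem (InvMemClass.inv_mem r.2) (hDR ha)) r.2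
        simpa [mul_assoc] using this
      exact (Subgroup.mem_normalizer_iff.mp hr ⟨a, haR⟩).mpr ha
  refine hrD ?_
  obtain ⟨hr1, a, ha, hax⟩ := r.2
  have hax' : (x : G) * a * (x : G)⁻¹ = r := hax
  have haN : a ∈ N := by
    have : a = (x : G)⁻¹ * r * x := by rw [← hax']; group
    rw [this]
    exact mul_mem (mul_mem (InvMemClass.inv_mem x.2) hrN) x.2
  have hmem : (⟨(r : G), hrN⟩ : N) ∈ D.subgroupOf N := by
    rw [← hQx]
    exact ⟨hQ hr1, ⟨a, haN⟩, hQ ha, Subtype.ext hax'⟩
  exact hmem

end Cfsg.Agent.S0956
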