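import Cfsg.Statements.S0957

set_option autoImplicit false
open Cfsg

namespace Cfsg.Agent.S0957

/-- Let P be a Sylow p-subgroup of the finite group G, let g, h ∈ G and let p ^ d be the order of a Sylow p-subgroup of the centralizer of g. Then the number of pairs (y, z) with y conjugate to g, z conjugate to h and z * y⁻¹ ∈ P is divisible by the order of P divided by p ^ d. -/
theorem result {G : Type*} [Group G] [Finite G] (p : ℕ) [Fact p.Prime] (P : Sylow p G) (g h : G) (S : Sylow p (Subgroup.centralizer ({g} : Set G))) : Nat.card P / Nat.card S ∣ Nat.card {yz : G × G // IsConj g yz.1 ∧ IsConj h yz.2 ∧ yz.2 * yz.1⁻¹ ∈ (P : Subgroup G)} := by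
  classical
  haveI := Fintype.ofFinite G
  let A := {yz : G × G // IsConj g yz.1 ∧ IsConj h yz.2 ∧ yz.2 * yz.1⁻¹ ∈ (P : Subgroup G)}
  have hconj : ∀ (u : (P : Subgroup G)) (a : A), IsConj g ((u : G) * a.1.1 * (u : G)⁻¹) ∧
      IsConj h ((u : G) * a.1.2 * (u : G)⁻¹) ∧
      ((u : G) * a.1.2 * (u : G)⁻¹) * ((u : G) * a.1.1 * (u : G)⁻¹)⁻¹ ∈ (P : Subgroup G) := by
    intro u a
    refine ⟨a.2.1.trans (isConj_iff.mpr ⟨u, rfl⟩), a.2.2.1.trans (isConj_iff.mpr ⟨u, rfl⟩), ?_⟩
    have e : ((u : G) * a.1.2 * (u : G)⁻¹) * ((u : G) * a.1.1 * (u : G)⁻¹)⁻¹ =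
        (u : G) * (a.1.2 * a.1.1⁻¹) * (u : G)⁻¹ := by group
    rw [e]
    exact mul_mem (mul_mem u.2 a.2.2.2) (inv_mem u.2)
  letI : MulAction (P : Subgroup G) A :=
    { smul := fun u a => ⟨((u : G) * a.1.1 * (u : G)⁻¹, (u : G) * a.1.2 * (u : G)⁻¹), hconj u a⟩
      one_smul := fun a => Subtype.ext (Prod.ext
        (show ((1 : (P : Subgroup G)) : G) * a.1.1 * ((1 : (P : Subgroup G)) : G)⁻¹ = a.1.1 by simp)
        (show ((1 : (P : Subgroup G)) : G) * a.1.2 * ((1 : (P : Subgroup G)) : G)⁻¹ = a.1.2 by simp))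
      mul_smul := fun u v a => Subtype.ext (Prod.ext
        (show ((u * v : (P : Subgroup G)) : G) * a.1.1 * ((u * v : (P : Subgroup G)) : G)⁻¹ =
          (u : G) * ((v : G) * a.1.1 * (v : G)⁻¹) * (u : G)⁻¹ by
          simp [mul_assoc])
        (show ((u * v : (P : Subgroup G)) : G) * a.1.2 * ((u * v : (P : Subgroup G)) : G)⁻¹ =
          (u : G) * ((v : G) * a.1.2 * (v : G)⁻¹) * (u : G)⁻¹ by
          simp [mul_assoc])) }
  haveI : Fintype A := Fintype.ofFinite A
  change _ ∣ Nat.card A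
  rw [Nat.card_congr (MulAction.selfEquivSigmaOrbits (P : Subgroup G) A), Nat.card_sigma]
  refine Finset.dvd_sum fun ω _ => ?_
  obtain ⟨a, rfl⟩ : ∃ a : A, a = ω.out := ⟨_, rfl⟩
  generalize ω.out = a
  set T := MulAction.stabilizer (P : Subgroup G) a
  have hmul : Nat.card (MulAction.orbit (P : Subgroup G) a) * Nat.card T = Nat.card P := by
    rw [Nat.card_congr (MulAction.orbitEquivQuotientStabilizer (P : Subgroup G) a)]
    exact (Subgroup.card_eq_card_quotient_mul_card_subgroup T).symm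
  have hT : Nat.card T ∣ Nat.card S := by
    obtain ⟨c, hc⟩ := isConj_iff.mp a.2.1
    have hmem : ∀ u : T, c⁻¹ * ((u : (P : Subgroup G)) : G) * c ∈
        Subgroup.centralizer ({g} : Set G) := by
      intro u
      have hu : ((u : (P : Subgroup G)) : G) * a.1.1 * ((u : (P : Subgroup G)) : G)⁻¹ = a.1.1 :=
        congrArg (fun b : A => b.1.1) u.2
      rw [Subgroup.mem_centralizer_singleton_iff]
      rw [← hc] at hu
      have hu' := mul_inv_eq_iff_eq_mul.mp hu
      calc c⁻¹ * ((u : (P : Subgroup G)) : G) * c * g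
          = c⁻¹ * (((u : (P : Subgroup G)) : G) * (c * g * c⁻¹)) * c := by group
        _ = c⁻¹ * ((c * g * c⁻¹) * ((u : (P : Subgroup G)) : G)) * c := by rw [hu']
        _ = g * (c⁻¹ * ((u : (P : Subgroup G)) : G) * c) := by group
    let f : T →* Subgroup.centralizer ({g} : Set G) :=
      { toFun := fun u => ⟨_, hmem u⟩
        map_one' := Subtype.ext (by simp)
        map_mul' := fun u v => Subtype.ext (by simp [mul_assoc]) }
    have hf : Function.Injective f := by
      intro u v e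
      have e' : c⁻¹ * ((u : (P : Subgroup G)) : G) * c = c⁻¹ * ((v : (P : Subgroup G)) : G) * c :=
        congrArg Subtype.val e
      exact Subtype.ext (Subtype.ext (mul_left_cancel (mul_right_cancel e')))
    have hR : IsPGroup p f.range := ((P.isPGroup'.to_subgroup T)).of_surjective f.rangeRestrict
      f.rangeRestrict_surjective
    obtain ⟨Q, hQ⟩ := hR.exists_le_sylow
    have h1 : Nat.card T = Nat.card f.range := Nat.card_congr (MonoidHom.ofInjective hf).toEquiv
    rw [h1, Sylow.card_eq_multiplicity S, ← Sylow.card_eq_multiplicity Q]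
    exact Subgroup.card_dvd_of_le hQ
  have hSP : Nat.card S ∣ Nat.card P := by
    obtain ⟨Q, hQ⟩ := (S.isPGroup'.map (Subgroup.centralizer ({g} : Set G)).subtype).exists_le_sylow
    rw [Sylow.card_eq_multiplicity P, ← Sylow.card_eq_multiplicity Q]
    refine dvd_trans (dvd_of_eq ?_) (Subgroup.card_dvd_of_le hQ)
    exact Nat.card_congr (Subgroup.equivMapOfInjective (S : Subgroup (Subgroup.centralizer ({g} : Set G))) (Subgroup.centralizer ({g} : Set G)).subtype Subtype.val_injective).toEquiv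
  obtain ⟨k, hk⟩ := hT
  obtain ⟨m, hm⟩ := hSP
  have hS : 0 < Nat.card S := Nat.card_pos
  rw [hm, Nat.mul_div_cancel_left _ hS]
  refine Dvd.intro_left k ?_
  have hTpos : 0 < Nat.card T := Nat.card_pos
  apply Nat.eq_of_mul_eq_mul_right hTpos
  rw [hmul, hm, hk]
  ring

end Cfsg.Agent.S0957
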