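import Cfsg.Statements.S0958
import Cfsg.Agent.Lib.BlockTheoryDefect

set_option autoImplicit false
open Cfsg

namespace Cfsg.Agent.S0958

/-- Let P be a p-subgroup of the finite group G and H a subgroup with P ⊔ C_G(P) ≤ H ≤ N_G(P); fix a maximal ideal M of the algebraic integers containing p. Then a block B of G is induced by some block of H if and only if some conjugate of P is contained in a defect group of B. -/
theorem result {G : Type*} [Group G] [Finite G] (p : ℕ) [Fact p.Prime] (M : Ideal Cfsg.AlgInt) (hM : Cfsg.IsPModular p M) (P H : Subgroup G) (hP : IsPGroup p P) (hPH : P ⊔ Subgroup.centralizer (P : Set G) ≤ H) (hHN : H ≤ Subgroup.normalizer (P : Set G)) (B : Set (Cfsg.IrrCharacter G)) (hB : Cfsg.IsPBlock M B) : (∃ b : Set (Cfsg.IrrCharacter H), Cfsg.IsInducedBlock M H b B) ↔ ∃ D : Subgroup G, Cfsg.IsDefectGroup p M B D ∧ ∃ x : G, P.map (MulAut.conj x).toMonoidHom ≤ D := by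
  classical
  haveI := Fintype.ofFinite G
  haveI := Fintype.ofFinite H
  obtain ⟨D, hD⟩ := BlockTheoryDefect.exists_defectGroup hM hB
  have hPH' : P ≤ H := le_sup_left.trans hPH
  have hCH : Subgroup.centralizer (P : Set G) ≤ H := le_sup_right.trans hPH
  constructor
  · rintro ⟨b, hind⟩
    obtain ⟨E, hE⟩ := BlockTheoryDefect.exists_defectGroup hM hind.1
    haveI : (P.subgroupOf H).Normal := Subgroup.normal_subgroupOf_of_le_normalizer hHN
    have h1 := BlockTheoryDefect.normal_le_defectGroup hM hind.1 hE (P.subgroupOf H)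
      hP.comap_subtype
    refine ⟨D, hD, BlockTheoryDefect.conjLe_trans (BlockTheoryDefect.conjLe_of_le ?_)
      (BlockTheoryDefect.inducedBlock_defect_le hM H hind hE hD)⟩
    exact fun a ha => ⟨⟨a, hPH' ha⟩, h1 (Subgroup.mem_subgroupOf.mpr ha), rfl⟩
  · rintro ⟨D', hD', hle⟩
    have hns := (BlockTheoryDefect.not_small_cut_iff hM hB hD' hP).mpr hle
    by_contra hcon
    refine hns fun g => ?_
    set r := BlockTheoryBrauer.res H (BlockTheoryBrauer.cut P (BlockTheoryCentre.idem B)) with hr
    have hrc : BlockTheoryCentre.IsCen r :=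
      BlockTheoryBrauer.isCen_br H hHN (BlockTheoryCentre.isCen_idem B)
    have hBi := BlockTheoryIdem.isInt_idem hM hB
    have hri : BlockTheoryCentre.IsInt M r :=
      BlockTheoryBrauer.isInt_res H (BlockTheoryBrauer.isInt_cut hM P hBi)
    have hall : ∀ ξ : IrrCharacter H,
        MemLocalIdeal M (BlockTheoryCentre.omega (ξ : H → ℂ) r) := by
      intro ξ
      obtain ⟨B', hB'⟩ := BlockTheoryInduced.inducedBlockDefined H hM hP hPH' hCH hHN
        (BlockTheoryIdem.isPBlock_blockOf ξ)
      obtain ⟨χ, hχ⟩ := BlockTheoryIdem.block_nonempty hM hB'.2.1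
      have hχB : χ ∉ B := fun h => hcon ⟨_,
        BlockTheoryIdem.block_eq_of_mem hM hB'.2.1 hB hχ h ▸ hB'⟩
      have h1 := BlockTheoryInduced.inducedBlock_congr H hM hB'
        (BlockTheoryIdem.self_mem_blockOf hM ξ) hχ (BlockTheoryCentre.isCen_idem B) hBi
      rw [BlockTheoryCentre.omega_idem, if_neg hχB, sub_zero] at h1
      have h2 := BlockTheoryInduced.omega_res_sub_br H hM hP hPH' hHN ξ
        (BlockTheoryCentre.isCen_idem B) hBi
      have := BlockTheoryLocalRing.ideal_sub hM h1 h2
      rwa [sub_sub_cancel] at this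
    obtain ⟨N, hN⟩ := BlockTheoryBrauer.exists_small_pow hM hrc hri hall
    have hid : BlockTheoryBrauer.Small M (r * r - r) := by
      have := BlockTheoryBrauer.small_symm hM (BlockTheoryBrauer.br_mul H hM hP hCH
        (BlockTheoryCentre.isCen_idem B) (BlockTheoryCentre.isCen_idem B) hBi hBi)
      rwa [BlockTheoryCentre.idem_sq] at this
    have hN' : BlockTheoryBrauer.Small M (r ^ (N + 1)) := by
      rw [pow_succ]; exact BlockTheoryBrauer.small_mul_right hM hN hri
    have hs := BlockTheoryBrauer.small_of_idem_of_pow hM hri hid (Nat.succ_ne_zero N) hN'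
    by_cases hg : g ∈ Subgroup.centralizer (P : Set G)
    · exact hs ⟨g, hCH hg⟩
    · rw [BlockTheoryBrauer.coeff_cut, if_neg hg]; exact BlockTheoryLocalRing.ideal_zero hM

end Cfsg.Agent.S0958
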