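import Cfsg.Statements.S0960
import Cfsg.Agent.Lib.BlockPrimeMain86
-- import your own Cfsg.Agent.* helpers here

set_option autoImplicit false
open Cfsg

namespace Cfsg.Agent.S0960

/-- Let p be an odd prime and G a finite group whose Sylow p-subgroup P has order p; let e be the index of C_G(P) in N_G(P) (a divisor of p − 1) and fix a maximal ideal M of the algebraic integers containing p. Then the principal block of G consists of exactly e + (p - 1) / e irreducible characters, and the degree d of each of them satisfies d ≡ 1, d ≡ -1, d ≡ e or d ≡ -e modulo p. -/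
theorem result {G : Type*} [Group G] [Finite G] (p : ℕ) [Fact p.Prime] (M : Ideal Cfsg.AlgInt) (hM : Cfsg.IsPModular p M) (hodd : p ≠ 2) (P : Sylow p G) (hP : Nat.card P = p) (e : ℕ) (he : (Subgroup.centralizer ((P : Subgroup G) : Set G)).relIndex (Subgroup.normalizer ((P : Subgroup G) : Set G)) = e) : Nat.card (Cfsg.principalBlock M G) = e + (p - 1) / e ∧ ∀ χ ∈ Cfsg.principalBlock M G, ((Cfsg.charDegree (χ : G → ℂ) : ℤ) ≡ 1 [ZMOD p] ∨ (Cfsg.charDegree (χ : G → ℂ) : ℤ) ≡ -1 [ZMOD p] ∨ (Cfsg.charDegree (χ : G → ℂ) : ℤ) ≡ (e : ℤ) [ZMOD p] ∨ (Cfsg.charDegree (χ : G → ℂ) : ℤ) ≡ -(e : ℤ) [ZMOD p]) := by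
  classical
  haveI : Fintype G := Fintype.ofFinite G
  haveI : Fintype ↥(P : Subgroup G) := Fintype.ofFinite _
  haveI : Fintype (↥(P : Subgroup G) →* ℂˣ) := Fintype.ofFinite _
  obtain ⟨X, Y, a, ε, h⟩ := BlockPrime86.prime_main hP hodd hM e he
  refine ⟨?_, fun χ hχ => ?_⟩
  · have hset : principalBlock M G = ((X ∪ Y : Finset (IrrCharacter G)) : Set (IrrCharacter G)) := by
      ext χ; simp [h.block]
    rw [hset, ← h.cardY, ← h.cardX, ← Finset.card_union_of_disjoint h.disj]
    simp
  · rcases (h.block χ).1 hχ with hX | hY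
    · rcases (h.valX χ hX).1 with e1 | e1 <;> have := (h.valX χ hX).2.1 <;> rw [e1] at this <;> tauto
    · rcases h.sign with e1 | e1 <;> have := h.degY χ hY <;> rw [e1] at this
      · rw [one_mul] at this; tauto
      · rw [neg_one_mul] at this; tauto

end Cfsg.Agent.S0960
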