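import Cfsg.Statements.S0961
import Cfsg.Agent.Lib.BrauerBlocksRegFun

set_option autoImplicit false
open Cfsg Cfsg.Agent.CharBasicDecomp Cfsg.Agent.BrauerBlocksRegFun Cfsg.Agent.BlockContrib Cfsg.Agent.BlockTheoryIdem Cfsg.Agent.BlockTheoryCentre Cfsg.Agent.ClassAlgebraVal 
open scoped ComplexConjugate

namespace Cfsg.Agent.S0961

/-- Let χ be an irreducible character of the finite group G and let p ^ a be the largest power of the prime p dividing the order of G. Then the function equal to p ^ a * χ x at elements x of order prime to p and to 0 elsewhere is a generalized character (a difference of characters). -/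
theorem result {G : Type*} [Group G] [Finite G] (p : ℕ) [Fact p.Prime] (χ : Cfsg.IrrCharacter G) : Cfsg.IsGeneralizedCharacter G (fun x : G => if p ∣ orderOf x then 0 else ((p ^ (Nat.card G).factorization p : ℕ) : ℂ) * (χ : G → ℂ) x) := by
  have := Fintype.ofFinite G
  refine isGeneralizedCharacter_iff.2 ⟨?_, fun ψ => ?_⟩
  · exact isClassFunction_regFun (p := p) _ χ
  · exact exists_int_regFun (Fact.out : p.Prime) χ ψ

end Cfsg.Agent.S0961
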