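import Cfsg.Statements.S0962
import Cfsg.Agent.Lib.BlockTheoryCount

set_option autoImplicit false
open Cfsg

namespace Cfsg.Agent.S0962

/-- Fix a maximal ideal M of the algebraic integers containing the prime p and a natural number d. The number of blocks of the finite group G of defect at least d is at most the number of conjugacy classes of p-regular elements of G of defect at least d, where the defect of a class is the exponent of p in the order of the centralizer of any of its elements. -/
theorem result {G : Type*} [Group G] [Finite G] (p : ℕ) [Fact p.Prime] (M : Ideal Cfsg.AlgInt) (hM : Cfsg.IsPModular p M) (d : ℕ) : Nat.card {B : Set (Cfsg.IrrCharacter G) // Cfsg.IsPBlock M B ∧ d ≤ Cfsg.blockDefect p B} ≤ Nat.card {C : ConjClasses G // ∃ g : G, ConjClasses.mk g = C ∧ Cfsg.IsPRegular p g ∧ d ≤ (Nat.card (Subgroup.centralizer ({g} : Set G))).factorization p} := by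
  classical
  haveI := Fintype.ofFinite G
  have hp : p.Prime := Fact.out
  refine BlockTheoryCount.card_blocks_le hM (fun B => d ≤ blockDefect p B) _ ?_
  intro B B' hB _ hB' hd' C hC χ hχ
  by_cases hreg : p ∣ orderOf C.out
  · rw [BlockTheoryIdem.blockCoeff_eq_zero_of_dvd hM hB hreg, zero_mul]
    exact BlockTheoryLocalRing.ideal_zero hM
  refine BlockTheoryLocalRing.ideal_mul_left hM (BlockTheoryIdem.blockCoeff_mem hM hB _) ?_
  by_contra hne
  refine hC ⟨C.out, Quotient.out_eq C, hreg, ?_⟩
  obtain ⟨D, hD⟩ := BlockTheoryDefect.exists_defectGroup hM hB'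
  obtain ⟨x, hx, hxD⟩ := BlockTheoryDefect.exists_conj_centralizes hM hB' hD ⟨χ, hχ, hne⟩
  obtain ⟨c, rfl⟩ := isConj_iff.mp hx
  have hle : BlockTheoryDefect.ConjLe D (Subgroup.centralizer ({C.out} : Set G)) := by
    refine ⟨c⁻¹, ?_⟩
    rintro _ ⟨u, hu, rfl⟩
    rw [Subgroup.mem_centralizer_singleton_iff]
    have h := Subgroup.mem_centralizer_iff.mp hxD u hu
    show c⁻¹ * u * c⁻¹⁻¹ * C.out = C.out * (c⁻¹ * u * c⁻¹⁻¹)
    calc c⁻¹ * u * c⁻¹⁻¹ * C.out = c⁻¹ * (u * (c * C.out * c⁻¹)) * c := by group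
      _ = c⁻¹ * ((c * C.out * c⁻¹) * u) * c := by rw [h]
      _ = C.out * (c⁻¹ * u * c⁻¹⁻¹) := by group
  obtain ⟨y, hy⟩ := hle
  have h1 := Subgroup.card_dvd_of_le hy
  rw [Subgroup.card_map_of_injective (MulAut.conj y).injective,
    BlockContribBounds.card_defectGroup hM hB' hD] at h1
  exact hd'.trans ((hp.pow_dvd_iff_le_factorization Nat.card_pos.ne').mp h1)

end Cfsg.Agent.S0962
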