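import Cfsg.Statements.S0963
import Cfsg.Agent.Lib.BlockTheoryNormal

set_option autoImplicit false
open Cfsg

namespace Cfsg.Agent.S0963

/-- Let N be a normal subgroup of the finite group G, χ an irreducible character of G and θ an irreducible character of N. Then θ occurs in the restriction of χ to N if and only if, for every n ∈ N, the central character of χ at n (class size in G times χ n over χ 1) equals the sum of θ m / θ 1 over the elements m of N conjugate in G to n. -/
theorem result {G : Type*} [Group G] [Fintype G] (N : Subgroup G) [N.Normal] [Fintype N] (χ : Cfsg.IrrCharacter G) (θ : Cfsg.IrrCharacter N) : Cfsg.classInner (fun n : N => (χ : G → ℂ) n) (θ : N → ℂ) ≠ 0 ↔ ∀ n : N, Cfsg.centralChar (χ : G → ℂ) (n : G) = Cfsg.inducedCentralChar N (θ : N → ℂ) (n : G) := by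
  classical
  constructor
  · intro h n
    have := BlockTheoryNormal.omega_eq_omega_res N χ θ h
      (BlockTheoryCentre.isCen_classSum (n : G)) (fun x hx => by
        simp only [BlockTheoryCentre.classSum, BlockTheoryCentre.coeff_ofFun]
        rw [if_neg]
        intro hc
        obtain ⟨c, rfl⟩ := isConj_iff.mp hc
        exact hx ((inferInstance : N.Normal).conj_mem _ n.2 c))
    rwa [BlockTheoryCentre.omega_classSum (BlockTheoryCentre.irr_classFun χ),
      BlockTheoryBrauer.omega_res_classSum] at this
  · intro h hθ
    set z : MonoidAlgebra ℂ G := BlockTheoryCentre.ofFun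
      fun x => if x ∈ N then starRingEnd ℂ ((χ : G → ℂ) x) else 0 with hz
    have hzc : BlockTheoryCentre.IsCen z := by
      intro g k
      simp only [hz, BlockTheoryCentre.coeff_ofFun, BlockTheoryCentre.irr_classFun χ g k]
      refine if_congr ⟨fun hh => ?_, fun hh => ?_⟩ rfl rfl
      · have := (inferInstance : N.Normal).conj_mem _ hh k⁻¹
        simpa [mul_assoc] using this
      · exact (inferInstance : N.Normal).conj_mem _ hh k
    have heq : BlockTheoryCentre.omega (χ : G → ℂ) z =
        BlockTheoryCentre.omega (θ : N → ℂ) (BlockTheoryBrauer.res N z) := by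
      rw [hzc.eq_sum_classSum, map_sum, map_sum, map_sum]
      refine Finset.sum_congr rfl fun C _ => ?_
      rw [map_smul, map_smul, map_smul]
      by_cases hC : C.out ∈ N
      · rw [BlockTheoryCentre.omega_classSum (BlockTheoryCentre.irr_classFun χ),
          BlockTheoryBrauer.omega_res_classSum, ← h ⟨C.out, hC⟩]
      · rw [show z.coeff C.out = 0 from by simp [hz, hC], zero_smul, zero_smul]
    have h1 : BlockTheoryCentre.omega (θ : N → ℂ) (BlockTheoryBrauer.res N z) = 0 := by
      rw [BlockTheoryCentre.omega_apply, BlockTheoryCentre.chiSum_apply]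
      refine mul_eq_zero_of_right _ ?_
      have := CharBasicOrth.card_mul_classInner (θ : N → ℂ) (fun n : N => (χ : G → ℂ) n)
      rw [← CharBasicOrth.conj_classInner (fun n : N => (χ : G → ℂ) n), hθ, map_zero, mul_zero] at this
      rw [this]
      refine Finset.sum_congr rfl fun n _ => ?_
      simp only [hz, BlockTheoryBrauer.coeff_res, BlockTheoryCentre.coeff_ofFun, if_pos n.2]
      ring
    rw [h1, BlockTheoryCentre.omega_apply, mul_eq_zero, inv_eq_zero] at heq
    have h2 := heq.resolve_left (BlockTheoryCentre.irr_one_ne_zero χ)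
    have h3 := congrArg Complex.re h2
    rw [BlockTheoryCentre.chiSum_apply, Complex.re_sum, Complex.zero_re] at h3
    have hpos : ∀ x : G, 0 ≤ (z.coeff x * (χ : G → ℂ) x).re := by
      intro x
      simp only [hz, BlockTheoryCentre.coeff_ofFun]
      split_ifs
      · rw [← Complex.normSq_eq_conj_mul_self, Complex.ofReal_re]; exact Complex.normSq_nonneg _
      · simp
    have h4 := (Finset.sum_eq_zero_iff_of_nonneg fun x _ => hpos x).mp h3 1 (Finset.mem_univ _)
    simp only [hz, BlockTheoryCentre.coeff_ofFun, if_pos N.one_mem] at h4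
    rw [← Complex.normSq_eq_conj_mul_self, Complex.ofReal_re, Complex.normSq_eq_zero] at h4
    exact BlockTheoryCentre.irr_one_ne_zero χ h4

end Cfsg.Agent.S0963
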