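import Cfsg.Statements.S0965
import Cfsg.Agent.Lib.BrauerBlocksCovering

set_option autoImplicit false
open Cfsg Cfsg.Agent.BlockTheoryLocalRing Cfsg.Agent.BlockTheoryCentre Cfsg.Agent.BlockTheoryIdem Cfsg.Agent.BlockTheoryBrauer Cfsg.Agent.BlockTheoryNormal Cfsg.Agent.BrauerBlocksCovering 
open scoped ComplexConjugate

namespace Cfsg.Agent.S0965

/-- Let N be a normal subgroup of the finite group G and let B, b be blocks of G and of N relative to a maximal ideal M of the algebraic integers containing the prime p. Then some χ ∈ B has a constituent in b on restriction to N if and only if, for all χ ∈ B, θ ∈ b and n ∈ N, the central character of χ at n is congruent modulo the local ideal at M to the sum of θ m / θ 1 over the elements m ∈ N conjugate in G to n. -/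
theorem result {G : Type*} [Group G] [Fintype G] (p : ℕ) [Fact p.Prime] (M : Ideal Cfsg.AlgInt) (hM : Cfsg.IsPModular p M) (N : Subgroup G) [N.Normal] [Fintype N] (B : Set (Cfsg.IrrCharacter G)) (hB : Cfsg.IsPBlock M B) (b : Set (Cfsg.IrrCharacter N)) (hb : Cfsg.IsPBlock M b) : (∃ χ ∈ B, ∃ θ ∈ b, Cfsg.classInner (fun n : N => (χ : G → ℂ) n) (θ : N → ℂ) ≠ 0) ↔ ∀ χ ∈ B, ∀ θ ∈ b, ∀ n : N, Cfsg.MemLocalIdeal M (Cfsg.centralChar (χ : G → ℂ) (n : G) - Cfsg.inducedCentralChar N (θ : N → ℂ) (n : G)) := by
  classical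
  have hcen := fun (g : G) => isCen_classSum g
  constructor
  · rintro ⟨χ₀, hχ₀, θ₀, hθ₀, hne⟩ χ hχ θ hθ n
    obtain ⟨ψ, hψ⟩ := exists_constituent (f := fun m : N => (χ : G → ℂ) m)
      (CharInduced.isCharacter_res N (CharBasic.isCharacter_of_isIrrCharacter χ.2))
      (irr_one_ne_zero χ)
    obtain ⟨θ', hθ', hne'⟩ := exists_constituent_mem N hψ
      (mem_orb_of_sameBlock N hM hb (sameBlock_of_mem hM hB hχ₀ hχ) hθ₀ hne hψ)
    rw [centralChar_eq_induced N χ hne' n.2, ← omega_res_classSum, ← omega_res_classSum]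
    exact omega_sub_mem hM (sameBlock_of_mem hM hb hθ' hθ) (isCen_res N (hcen _))
      (isInt_res N (isInt_classSum hM _))
  · intro h
    obtain ⟨χ, hχ⟩ := block_nonempty hM hB
    obtain ⟨θ, hθ⟩ := block_nonempty hM hb
    obtain ⟨ψ, hψ⟩ := exists_constituent (f := fun m : N => (χ : G → ℂ) m)
      (CharInduced.isCharacter_res N (CharBasic.isCharacter_of_isIrrCharacter χ.2))
      (irr_one_ne_zero χ)
    refine ⟨χ, hχ, exists_constituent_mem N hψ ?_⟩
    set z := liftIdem N (orb N b)
    have hz : IsCen z := isCen_liftIdem N fun ξ a => conjIrr_mem_orb_iff N a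
    have hzi : IsInt M z := isInt_liftIdem N hM (isInt_idem_of_closed hM (orb_closed N hM hb))
    have h1 : MemLocalIdeal M (omega (χ : G → ℂ) z - omega (θ : N → ℂ) (res N z)) := by
      rw [hz.eq_sum_classSum, map_sum, map_sum, map_sum, ← Finset.sum_sub_distrib]
      refine ideal_sum hM fun C _ => ?_
      rw [map_smul, map_smul, map_smul, smul_eq_mul, smul_eq_mul, ← mul_sub]
      by_cases hC : C.out ∈ N
      · refine ideal_mul_left hM (hzi _) ?_
        rw [omega_classSum (irr_classFun χ), omega_res_classSum]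
        exact h χ hχ θ hθ ⟨_, hC⟩
      · rw [liftIdem_supp N _ _ hC, zero_mul]; exact ideal_zero hM
    rw [omega_lift N χ hψ, res_liftIdem, omega_idem, if_pos (mem_orb_of_mem N hθ)] at h1
    by_contra hn
    rw [if_neg hn, zero_sub] at h1
    exact one_not_ideal hM (by simpa using ideal_neg h1)

end Cfsg.Agent.S0965
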