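import Cfsg.Statements.S0967
import Cfsg.Agent.Lib.BrauerBlocksCovering
import Cfsg.Agent.Lib.CharKernel

set_option autoImplicit false
open Cfsg Cfsg.Agent.BlockTheoryLocalRing Cfsg.Agent.BlockTheoryCentre Cfsg.Agent.BlockTheoryIdem Cfsg.Agent.BlockTheoryBrauer Cfsg.Agent.BlockTheoryNormal Cfsg.Agent.BrauerBlocksCovering  Cfsg.Agent.CharKernel
open scoped ComplexConjugate

namespace Cfsg.Agent.S0967

/-- Let N be a normal subgroup of the finite group G of order prime to p and fix a maximal ideal M of the algebraic integers containing p. If χ is an irreducible character of G ⧸ N and ψ lies in the block of its inflation χ ∘ (quotient map), then ψ is itself inflated from an irreducible character ψ' of G ⧸ N lying in the block of χ. (Over a normal p'-subgroup, blocks of the quotient are whole blocks of G.) -/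
theorem result {G : Type*} [Group G] [Finite G] (p : ℕ) [Fact p.Prime] (M : Ideal Cfsg.AlgInt) (hM : Cfsg.IsPModular p M) (N : Subgroup G) [N.Normal] (hN : ¬ p ∣ Nat.card N) (χ : Cfsg.IrrCharacter (G ⧸ N)) (ψ : Cfsg.IrrCharacter G) (hψ : ψ ∈ Cfsg.blockOf M ((χ : G ⧸ N → ℂ) ∘ QuotientGroup.mk)) : ∃ ψ' : Cfsg.IrrCharacter (G ⧸ N), (ψ : G → ℂ) = (ψ' : G ⧸ N → ℂ) ∘ QuotientGroup.mk ∧ Cfsg.SameBlock M (χ : G ⧸ N → ℂ) (ψ' : G ⧸ N → ℂ) := by
  classical
  have := Fintype.ofFinite G
  let χ₀ : IrrCharacter G := ⟨(χ : G ⧸ N → ℂ) ∘ QuotientGroup.mk,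
    CharBasic.isIrrCharacter_comap (QuotientGroup.mk' N) (QuotientGroup.mk'_surjective N) χ.2⟩
  have htriv : ∀ n ∈ N, (χ₀ : G → ℂ) n = (χ₀ : G → ℂ) 1 := fun n hn => by
    show (χ : G ⧸ N → ℂ) (n : G ⧸ N) = (χ : G ⧸ N → ℂ) ((1 : G) : G ⧸ N)
    rw [(QuotientGroup.eq_one_iff n).2 hn, QuotientGroup.mk_one]
  have hψN : ∀ n ∈ N, (ψ : G → ℂ) n = (ψ : G → ℂ) 1 := blockOf_subset_trivialOn N hM hN htriv hψ
  obtain ⟨ψ', hψ'⟩ := exists_quot_irr N ψ hψN
  have := Fintype.ofFinite (G ⧸ N)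
  refine ⟨ψ', funext hψ', fun c => ?_⟩
  set z : MonoidAlgebra ℂ G := ofFun fun x =>
    (Nat.card N : ℂ)⁻¹ * (classSum c).coeff (x : G ⧸ N) with hzdef
  have hz : IsCen z := fun x h => by
    simp only [hzdef, coeff_ofFun, QuotientGroup.mk_mul, QuotientGroup.mk_inv]
    exact congrArg _ (isCen_classSum c _ _)
  have hzi : IsInt M z := fun x => by
    simp only [hzdef, coeff_ofFun]
    exact (localRing hM).mul_mem (inv_natCast_mem hM hN) (isInt_classSum hM c _)
  have hval : ∀ (f : G → ℂ) (φ : IrrCharacter (G ⧸ N)), (∀ g, f g = (φ : G ⧸ N → ℂ) g) →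
      omega f z = centralChar (φ : G ⧸ N → ℂ) c := by
    intro f φ hf
    rw [← omega_classSum (irr_classFun φ), omega_apply, omega_apply, chiSum_apply, chiSum_apply,
      hf 1, QuotientGroup.mk_one]
    congr 1
    rw [← Finset.sum_fiberwise (Finset.univ : Finset G) (fun x => (x : G ⧸ N))]
    refine Finset.sum_congr rfl fun q _ => ?_
    have hcard : (Finset.univ.filter fun x : G => (x : G ⧸ N) = q).card = Nat.card N := by
      induction q using QuotientGroup.induction_on with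
      | H x =>
        rw [← Fintype.card_subtype, ← Nat.card_eq_fintype_card]
        exact Nat.card_congr ⟨fun y => ⟨x⁻¹ * y.1, QuotientGroup.eq.1 y.2.symm⟩,
          fun h => ⟨x * h.1, (QuotientGroup.eq.2 (by simp)).symm⟩, fun y => by simp,
          fun h => by simp⟩
    rw [Finset.sum_congr rfl (g := fun _ => (Nat.card N : ℂ)⁻¹ * (classSum c).coeff q *
      (φ : G ⧸ N → ℂ) q) fun x hx => by
        simp only [hzdef, coeff_ofFun, hf x, (Finset.mem_filter.1 hx).2],
      Finset.sum_const, hcard, nsmul_eq_mul]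
    have : (Nat.card N : ℂ) ≠ 0 := Nat.cast_ne_zero.2 Nat.card_pos.ne'
    field_simp
  have h := omega_sub_mem hM (show SameBlock M (χ₀ : G → ℂ) (ψ : G → ℂ) from hψ) hz hzi
  rwa [hval (χ₀ : G → ℂ) χ (fun g => rfl), hval _ ψ' hψ'] at h

end Cfsg.Agent.S0967
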