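import Cfsg.Statements.S0969
import Cfsg.Agent.Lib.BlockTheoryDefect
import Cfsg.Agent.Lib.BlockContribBounds
import Cfsg.Agent.Lib.BrauerBlocksPPart

set_option autoImplicit false
open Cfsg Cfsg.Agent.BlockTheoryLocalRing Cfsg.Agent.BlockTheoryCentre Cfsg.Agent.BlockTheoryIdem Cfsg.Agent.BlockContrib Cfsg.Agent.BlockTheoryDefect 
open scoped ComplexConjugate

namespace Cfsg.Agent.S0969

/-- Let D be a central p-subgroup of the finite group G and χ an irreducible character with the exponent of p in χ(1) equal to the exponent of p in the index of D; fix a maximal ideal M of the algebraic integers containing p. Then D is a defect group of the block of χ, and χ g = 0 whenever the p-part of g does not lie in D. -/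
theorem result {G : Type*} [Group G] [Finite G] (p : ℕ) [Fact p.Prime] (M : Ideal Cfsg.AlgInt) (hM : Cfsg.IsPModular p M) (D : Subgroup G) (hD : IsPGroup p D) (hDZ : D ≤ Subgroup.center G) (χ : Cfsg.IrrCharacter G) (hdeg : (Cfsg.charDegree (χ : G → ℂ)).factorization p = D.index.factorization p) : Cfsg.IsDefectGroup p M (Cfsg.blockOf M (χ : G → ℂ)) D ∧ ∀ g x : G, Cfsg.IsPPart p g x → x ∉ D → (χ : G → ℂ) g = 0 := by
  classical
  have := Fintype.ofFinite G
  have hp : p.Prime := Fact.out
  set B := blockOf M (χ : G → ℂ) with hBdef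
  have hB : IsPBlock M B := isPBlock_blockOf χ
  have hχ : χ ∈ B := self_mem_blockOf hM χ
  obtain ⟨c, hc⟩ := IsPGroup.iff_card.1 hD
  have hGD : (Nat.card G).factorization p = D.index.factorization p + c := by
    rw [← D.index_mul_card, Nat.factorization_mul Subgroup.index_ne_zero_of_finite Nat.card_pos.ne',
      Finsupp.add_apply, hc, hp.factorization_pow, Finsupp.single_eq_same]
  obtain ⟨k, hk⟩ := height_dvd_contrib hp χ hχ
  have hexp := exp_eq_add (p := p) hχ
  -- the sum over the elements whose `p`-part lies in `D`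
  have hDp : ∀ u : D, ∃ k : ℕ, orderOf (u : G) = p ^ k := fun u => by
    obtain ⟨j, hj⟩ := IsPGroup.iff_orderOf.1 hD u
    exact ⟨j, (Subgroup.orderOf_coe u).trans hj⟩
  obtain ⟨n, ρ, hρ, hρχ⟩ := χ.2
  have hnorm : ∀ u ∈ D, ∀ y : G, ‖(χ : G → ℂ) (u * y)‖ = ‖(χ : G → ℂ) y‖ := by
    intro u hu y
    obtain ⟨s, hs⟩ := CharBasic.exists_scalar_of_mem_center ρ (hDZ hu)
    have hs1 : (χ : G → ℂ) (u * y) = s * (χ : G → ℂ) y := by
      rw [← hρχ]
      simp only [Representation.character, map_mul]
      rw [hs, smul_mul_assoc, map_smul, smul_eq_mul]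
      rfl
    have hpow : ∀ m : ℕ, ρ (u ^ m) = (s ^ m) • LinearMap.id := fun m => by
      induction m with
      | zero =>
        rw [pow_zero, map_one, pow_zero, one_smul]
        rfl
      | succ m ih =>
        rw [pow_succ, map_mul, ih, hs, pow_succ, smul_mul_smul_comm]
        rfl
    have h1 := hpow (orderOf u)
    rw [pow_orderOf_eq_one, map_one] at h1
    have h2 : (χ : G → ℂ) 1 = s ^ orderOf u * (χ : G → ℂ) 1 := by
      rw [← hρχ]
      simp only [Representation.character, map_one]
      conv_lhs => rw [h1]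
      rw [map_smul, smul_eq_mul]
      rfl
    have h3 : s ^ orderOf u = 1 :=
      mul_right_cancel₀ (irr_one_ne_zero χ) (h2.symm.trans (one_mul _).symm)
    rw [hs1, norm_mul, Complex.norm_eq_one_of_pow_eq_one h3 (orderOf_pos u).ne', one_mul]
  set R := Finset.univ.filter (fun g : G => ¬ p ∣ orderOf g) with hR
  set S := Finset.univ.filter (fun g : G => ∃ x ∈ D, IsPPart p g x) with hS
  have hpair : pair p (χ : G → ℂ) χ = ((∑ y ∈ R, ‖(χ : G → ℂ) y‖ ^ 2 : ℝ) : ℂ) := by
    rw [pair, regSum_eq, hR, Finset.sum_filter, Complex.ofReal_sum]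
    refine Finset.sum_congr rfl fun y _ => ?_
    split_ifs <;> simp [Complex.conj_mul']
  have hsumS : ∑ g ∈ S, ‖(χ : G → ℂ) g‖ ^ 2 = (p : ℝ) ^ c * ∑ y ∈ R, ‖(χ : G → ℂ) y‖ ^ 2 := by
    calc ∑ g ∈ S, ‖(χ : G → ℂ) g‖ ^ 2
        = ∑ uy ∈ (Finset.univ : Finset D) ×ˢ R, ‖(χ : G → ℂ) ((uy.1 : G) * uy.2)‖ ^ 2 := by
          refine (Finset.sum_bij (fun uy _ => (uy.1 : G) * uy.2) ?_ ?_ ?_ fun _ _ => rfl).symm
          · rintro ⟨u, y⟩ h
            obtain ⟨-, hy⟩ := Finset.mem_product.1 h
            exact Finset.mem_filter.2 ⟨Finset.mem_univ _, u, u.2, y, rfl,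
              (Subgroup.mem_center_iff.1 (hDZ u.2) y).symm, (hDp u),
              (Finset.mem_filter.1 hy).2⟩
          · rintro ⟨u, y⟩ h ⟨u', y'⟩ h' e
            simp only at e
            obtain ⟨-, hy⟩ := Finset.mem_product.1 h
            obtain ⟨-, hy'⟩ := Finset.mem_product.1 h'
            have e1 := BrauerBlocksPPart.isPPart_unique hp
              (BrauerBlocksPPart.isPPart_mul
                (Subgroup.mem_center_iff.1 (hDZ u.2) y).symm (hDp u)
                (Finset.mem_filter.1 hy).2)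
              (e ▸ BrauerBlocksPPart.isPPart_mul
                (Subgroup.mem_center_iff.1 (hDZ u'.2) y').symm (hDp u')
                (Finset.mem_filter.1 hy').2)
            rw [e1] at e
            exact Prod.ext (Subtype.ext e1) (mul_left_cancel e)
          · intro g hg
            obtain ⟨-, x, hx, y, hxy, -, -, hy⟩ := Finset.mem_filter.1 hg
            exact ⟨(⟨x, hx⟩, y), Finset.mem_product.2 ⟨Finset.mem_univ _,
              Finset.mem_filter.2 ⟨Finset.mem_univ _, hy⟩⟩, hxy⟩
      _ = _ := by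
        rw [Finset.sum_product, Finset.sum_congr rfl fun u _ => Finset.sum_congr rfl
          fun y _ => by rw [hnorm _ u.2 y], Finset.sum_const, Finset.card_univ, nsmul_eq_mul,
          ← Nat.card_eq_fintype_card, hc, Nat.cast_pow]
  have htot : ∑ g : G, ‖(χ : G → ℂ) g‖ ^ 2 = (Nat.card G : ℝ) := by
    have h := CharBasicOrth.card_mul_classInner (χ : G → ℂ) (χ : G → ℂ)
    rw [CharBasicOrth.classInner_irr_self χ.2, mul_one] at h
    refine Complex.ofReal_injective ?_
    rw [Complex.ofReal_natCast, h, Complex.ofReal_sum]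
    exact Finset.sum_congr rfl fun g _ => by simp [Complex.mul_conj']
  have hval : ∑ g ∈ S, ‖(χ : G → ℂ) g‖ ^ 2 = (Nat.card G : ℝ) * k := by
    rw [hsumS]
    refine Complex.ofReal_injective ?_
    rw [Complex.ofReal_mul, ← hpair, pair_eq_contrib hp χ hχ, hk]
    have hG : (Nat.card G : ℂ) = (p : ℂ) ^ (Nat.card G).factorization p * (cofactor p G : ℂ) := by
      exact_mod_cast (pow_mul_cofactor (G := G) p).symm
    have he : (Nat.card G).factorization p = c + (minExp p B + blockHeight p B (χ : G → ℂ)) := by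
      rw [hGD, ← hexp, hdeg, add_comm]
    push_cast
    rw [hG, he, pow_add, pow_add]
    ring
  have hGpos : (0 : ℝ) < Nat.card G := Nat.cast_pos.2 Nat.card_pos
  have hle : ∑ g ∈ S, ‖(χ : G → ℂ) g‖ ^ 2 ≤ ∑ g : G, ‖(χ : G → ℂ) g‖ ^ 2 :=
    Finset.sum_le_sum_of_subset_of_nonneg (Finset.subset_univ _) fun _ _ _ => sq_nonneg _
  have hk1 : k = 1 := by
    have h1 : (k : ℝ) ≤ 1 := by
      rw [hval, htot] at hle
      exact le_of_mul_le_mul_left (by linarith) hGpos
    have h2 : 0 < k := by
      have := contrib_self_pos hp hχ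
      rw [hk] at this
      exact pos_of_mul_pos_right this (by positivity)
    have h1' : k ≤ 1 := by exact_mod_cast h1
    omega
  have hvan : ∀ g x : G, IsPPart p g x → x ∉ D → (χ : G → ℂ) g = 0 := by
    intro g x hgx hxD
    have hgS : g ∉ S := fun h => by
      obtain ⟨-, x', hx', hgx'⟩ := Finset.mem_filter.1 h
      exact hxD (BrauerBlocksPPart.isPPart_unique hp hgx hgx' ▸ hx')
    have h0 : ∑ g ∈ Sᶜ, ‖(χ : G → ℂ) g‖ ^ 2 = 0 := by
      have := Finset.sum_add_sum_compl S fun g => ‖(χ : G → ℂ) g‖ ^ 2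
      rw [hval, hk1, htot, Int.cast_one, mul_one] at this
      linarith
    have := (Finset.sum_eq_zero_iff_of_nonneg fun _ _ => sq_nonneg _).1 h0 g
      (Finset.mem_compl.2 hgS)
    simpa using this
  refine ⟨?_, hvan⟩
  have hh0 : blockHeight p B (χ : G → ℂ) = 0 := by
    by_contra hh
    obtain ⟨j, hj⟩ := contrib_extra_of_height_pos hM hB hχ (Nat.pos_of_ne_zero hh) hχ
    rw [hk, hk1, pow_succ, mul_assoc] at hj
    have := mul_left_cancel₀ (pow_ne_zero _ (by exact_mod_cast hp.ne_zero)) hj
    exact hp.ne_one (by exact_mod_cast Int.eq_one_of_mul_eq_one_right (by positivity) this.symm)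
  obtain ⟨D', hD'⟩ := exists_defectGroup hM hB
  have : D.Normal := ⟨fun u hu g => by
    rwa [(Subgroup.mem_center_iff.1 (hDZ hu) g), mul_inv_cancel_right]⟩
  have hle' := normal_le_defectGroup hM hB hD' D hD
  have hcard : Nat.card D' = Nat.card D := by
    rw [BlockContribBounds.card_defectGroup hM hB hD', hc]
    congr 1
    have := minExp_add_defect hM hB
    omega
  exact (Subgroup.eq_of_le_of_card_ge hle' hcard.le).symm ▸ hD'

end Cfsg.Agent.S0969
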