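import Cfsg.Statements.S0971
import Cfsg.Agent.Lib.BrauerBlocksCovering
import Cfsg.Agent.Lib.BlockNormalP81

set_option autoImplicit false
open Cfsg Cfsg.Agent.BlockTheoryLocalRing Cfsg.Agent.BlockTheoryCentre Cfsg.Agent.BlockTheoryIdem Cfsg.Agent.BlockTheoryBrauer Cfsg.Agent.BlockTheoryNormal Cfsg.Agent.BrauerBlocksCovering 
open scoped ComplexConjugate

namespace Cfsg.Agent.S0971

/-- Let Q be a normal p-subgroup of the finite group G, let N = Q ⊔ C_G(Q) (a normal subgroup) and let b be a block of N relative to a maximal ideal M of the algebraic integers containing p. Then b induces some block of G, and every block B of G containing a character whose restriction to N has a constituent in b is induced by b. -/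
theorem result {G : Type*} [Group G] [Fintype G] (p : ℕ) [Fact p.Prime] (M : Ideal Cfsg.AlgInt) (hM : Cfsg.IsPModular p M) (Q : Subgroup G) [Q.Normal] (hQ : IsPGroup p Q) [Fintype ↥(Q ⊔ Subgroup.centralizer (Q : Set G))] (b : Set (Cfsg.IrrCharacter ↥(Q ⊔ Subgroup.centralizer (Q : Set G)))) (hb : Cfsg.IsPBlock M b) : Cfsg.InducedBlockDefined M (Q ⊔ Subgroup.centralizer (Q : Set G)) b ∧ ∀ B : Set (Cfsg.IrrCharacter G), Cfsg.IsPBlock M B → (∃ χ ∈ B, ∃ θ ∈ b, Cfsg.classInner (fun n : ↥(Q ⊔ Subgroup.centralizer (Q : Set G)) => (χ : G → ℂ) n) (θ : ↥(Q ⊔ Subgroup.centralizer (Q : Set G)) → ℂ) ≠ 0) → Cfsg.IsInducedBlock M (Q ⊔ Subgroup.centralizer (Q : Set G)) b B := by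
  classical
  have : (Subgroup.centralizer (Q : Set G)).Normal := inferInstance
  have hNn : (Q ⊔ Subgroup.centralizer (Q : Set G) : Subgroup G).Normal := inferInstance
  have key : ∀ B : Set (IrrCharacter G), IsPBlock M B → (∃ χ ∈ B, ∃ θ ∈ b,
      classInner (fun n : (Q ⊔ Subgroup.centralizer (Q : Set G) : Subgroup G) => (χ : G → ℂ) n) (θ : (Q ⊔ Subgroup.centralizer (Q : Set G) : Subgroup G) → ℂ) ≠ 0) → IsInducedBlock M (Q ⊔ Subgroup.centralizer (Q : Set G)) b B := by
    rintro B hB ⟨χ₀, hχ₀, θ₀, hθ₀, hne⟩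
    refine ⟨hb, hB, fun θ hθ χ hχ g => ?_⟩
    have h1 : MemLocalIdeal M (inducedCentralChar (Q ⊔ Subgroup.centralizer (Q : Set G)) (θ : (Q ⊔ Subgroup.centralizer (Q : Set G) : Subgroup G) → ℂ) g - centralChar (χ₀ : G → ℂ) g) := by
      by_cases hg : g ∈ (Q ⊔ Subgroup.centralizer (Q : Set G))
      · rw [centralChar_eq_induced (Q ⊔ Subgroup.centralizer (Q : Set G)) χ₀ hne hg, ← omega_res_classSum, ← omega_res_classSum]
        exact omega_sub_mem hM (sameBlock_of_mem hM hb hθ hθ₀) (isCen_res (Q ⊔ Subgroup.centralizer (Q : Set G)) (isCen_classSum g))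
          (isInt_res (Q ⊔ Subgroup.centralizer (Q : Set G)) (isInt_classSum hM g))
      · have h0 : inducedCentralChar (Q ⊔ Subgroup.centralizer (Q : Set G)) (θ : (Q ⊔ Subgroup.centralizer (Q : Set G) : Subgroup G) → ℂ) g = 0 := by
          rw [inducedCentralChar]
          refine finsum_mem_eq_zero_of_forall_eq_zero fun h hh => absurd ?_ hg
          obtain ⟨c, hc⟩ := isConj_iff.1 (IsConj.symm hh)
          exact hc ▸ hNn.conj_mem _ h.2 c
        rw [h0, zero_sub]
        exact ideal_neg (BlockNormalP81.centralChar_ideal hM Q hQ χ₀ fun hc =>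
          hg (Subgroup.mem_sup_right hc))
    have h2 := sameBlock_of_mem hM hB hχ₀ hχ g
    have := ideal_add hM h1 h2
    simpa using this
  refine ⟨?_, key⟩
  obtain ⟨θ, hθ⟩ := block_nonempty hM hb
  obtain ⟨χ, hχ⟩ := exists_constituent
    (CharInduced.isCharacter_ind (Q ⊔ Subgroup.centralizer (Q : Set G)) (CharBasic.isCharacter_of_isIrrCharacter θ.2)) (by
      rw [CharInduced.ind_one_apply]
      exact mul_ne_zero (Nat.cast_ne_zero.2 Subgroup.index_ne_zero_of_finite) (irr_one_ne_zero θ))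
  rw [CharInduced.inner_ind_left (Q ⊔ Subgroup.centralizer (Q : Set G)) _ (irr_classFun χ), ← CharBasicOrth.conj_classInner] at hχ
  exact ⟨_, key _ (isPBlock_blockOf χ) ⟨χ, self_mem_blockOf hM χ, θ, hθ,
    fun h0 => hχ (by rw [h0, map_zero])⟩⟩

end Cfsg.Agent.S0971
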