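import Cfsg.Statements.S0985
import Mathlib
-- import your own Cfsg.Agent.* helpers here

set_option autoImplicit false
open Cfsg

namespace Cfsg.Agent.S0985

/-- If the number of Sylow p-subgroups of a finite group is not congruent to 1 modulo p^k, then there are two distinct Sylow p-subgroups P and R such that the index of P ∩ R in P is at most p^(k-1). -/
theorem result {G : Type*} [Group G] [Finite G] (p k : ℕ) [Fact p.Prime] (h : ¬ Nat.card (Sylow p G) ≡ 1 [MOD p ^ k]) : ∃ P R : Sylow p G, P ≠ R ∧ ((R : Subgroup G).subgroupOf (P : Subgroup G)).index ≤ p ^ (k - 1) := by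
  rcases Nat.eq_zero_or_pos k with hk | hk
  · exact absurd (by subst hk; simp [Nat.modEq_one]) h
  by_contra hc
  push Not at hc
  apply h
  obtain ⟨P⟩ := (Sylow.nonempty : Nonempty (Sylow p G))
  classical
  have := Fintype.ofFinite (MulAction.orbitRel.Quotient (P : Subgroup G) (Sylow p G))
  rw [Nat.card_congr (MulAction.selfEquivSigmaOrbits (P : Subgroup G) (Sylow p G)), Nat.card_sigma]
  set ω₀ : MulAction.orbitRel.Quotient (P : Subgroup G) (Sylow p G) := Quotient.mk'' P with hω₀
  rw [← Finset.add_sum_erase _ _ (Finset.mem_univ ω₀)]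
  have hfix : ∀ Q : Sylow p G, Q ∈ MulAction.orbit (P : Subgroup G) P → Q = P := by
    rintro Q ⟨g, rfl⟩
    exact (P.2.sylow_mem_fixedPoints_iff.mpr le_rfl) g
  have h1 : Nat.card (MulAction.orbit (P : Subgroup G) ω₀.out) = 1 := by
    have ho : ω₀.out ∈ MulAction.orbit (P : Subgroup G) P :=
      Quotient.eq''.mp (Quotient.out_eq' ω₀)
    rw [MulAction.orbit_eq_iff.mpr ho, Nat.card_eq_one_iff_unique]
    exact ⟨⟨fun a b => Subtype.ext ((hfix _ a.2).trans (hfix _ b.2).symm)⟩,
      ⟨⟨P, MulAction.mem_orbit_self P⟩⟩⟩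
  rw [h1]
  have h2 : ∀ ω ∈ (Finset.univ.erase ω₀), p ^ k ∣ Nat.card (MulAction.orbit (P : Subgroup G) ω.out) := by
    intro ω hω
    have hne : P ≠ ω.out := by
      intro he
      apply (Finset.mem_erase.mp hω).1
      rw [← Quotient.out_eq' ω, ← he]
    have := hc P ω.out hne
    have hstab : MulAction.stabilizer (P : Subgroup G) ω.out
        = ((ω.out : Sylow p G) : Subgroup G).subgroupOf (P : Subgroup G) := by
      ext g
      rw [MulAction.mem_stabilizer_iff, Subgroup.smul_def, Sylow.smul_eq_iff_mem_normalizer,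
        Subgroup.mem_subgroupOf]
      have := (SetLike.ext_iff.mp (P.2.inf_normalizer_sylow ω.out)) g.1
      simpa [Subgroup.mem_inf, g.2] using this
    rw [Nat.card_congr (MulAction.orbitEquivQuotientStabilizer (P : Subgroup G) ω.out),
      ← Subgroup.index, hstab]
    obtain ⟨j, hj⟩ := P.2.index (((ω.out : Sylow p G) : Subgroup G).subgroupOf (P : Subgroup G))
    rw [hj] at this ⊢
    have := (Nat.pow_lt_pow_iff_right (Fact.out : p.Prime).one_lt).mp this
    exact Nat.pow_dvd_pow p (by omega)
  obtain ⟨c, hc'⟩ := Finset.dvd_sum h2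
  rw [hc', Nat.ModEq, Nat.add_mul_mod_self_left]

end Cfsg.Agent.S0985
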