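import Cfsg.Statements.S0986
import Mathlib
-- import your own Cfsg.Agent.* helpers here

set_option autoImplicit false
open Cfsg

namespace Cfsg.Agent.S0986

/-- Let P and Q be distinct Sylow p-subgroups of a finite group G chosen so that the order of P ∩ Q is as large as possible among intersections of two distinct Sylow p-subgroups, and let N be the normalizer of P ∩ Q. Then N has more than one Sylow p-subgroup, any two distinct Sylow p-subgroups of N intersect exactly in P ∩ Q, and each Sylow p-subgroup of N lies in exactly one Sylow p-subgroup of G. -/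
theorem result {G : Type*} [Group G] [Finite G] (p : ℕ) [Fact p.Prime] (P Q : Sylow p G) (hPQ : P ≠ Q) (hmax : ∀ P' Q' : Sylow p G, P' ≠ Q' → Nat.card ↥((P' : Subgroup G) ⊓ (Q' : Subgroup G)) ≤ Nat.card ↥((P : Subgroup G) ⊓ (Q : Subgroup G))) : 1 < Nat.card (Sylow p ↥(Subgroup.normalizer (((P : Subgroup G) ⊓ (Q : Subgroup G) : Subgroup G) : Set G))) ∧ (∀ S T : Sylow p ↥(Subgroup.normalizer (((P : Subgroup G) ⊓ (Q : Subgroup G) : Subgroup G) : Set G)), S ≠ T → (S : Subgroup _) ⊓ (T : Subgroup _) = ((P : Subgroup G) ⊓ (Q : Subgroup G)).subgroupOf (Subgroup.normalizer (((P : Subgroup G) ⊓ (Q : Subgroup G) : Subgroup G) : Set G))) ∧ ∀ S : Sylow p ↥(Subgroup.normalizer (((P : Subgroup G) ⊓ (Q : Subgroup G) : Subgroup G) : Set G)), ∃! T : Sylow p G, (S : Subgroup _).map (Subgroup.normalizer (((P : Subgroup G) ⊓ (Q : Subgroup G) : Subgroup G) : Set G)).subtype ≤ (T : Subgroup G) := by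
  set D := (P : Subgroup G) ⊓ (Q : Subgroup G) with hD
  set N := Subgroup.normalizer ((D : Subgroup G) : Set G) with hN
  have hmax' : ∀ X Y : Sylow p G, ∀ E : Subgroup G, E ≤ X → E ≤ Y → Nat.card D < Nat.card E → X = Y := by
    intro X Y E hX hY hlt
    by_contra hne
    exact absurd ((Subgroup.card_le_of_le (le_inf hX hY)).trans (hmax X Y hne)) (not_le.mpr hlt)
  have hDN : D ≤ N := Subgroup.le_normalizer
  have hgrow : ∀ R : Sylow p G, D < (R : Subgroup G) →
      Nat.card D < Nat.card ↥((R : Subgroup G) ⊓ N) := by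
    intro R hlt
    have hnil : Group.IsNilpotent (R : Subgroup G) := R.2.isNilpotent
    have h2 : D.subgroupOf R < ⊤ := by
      rw [lt_top_iff_ne_top, Ne, Subgroup.subgroupOf_eq_top]
      exact hlt.not_ge
    have h3 := normalizerCondition_of_isNilpotent (G := (R : Subgroup G)) (D.subgroupOf R) h2
    have h4 : D < (R : Subgroup G) ⊓ N := by
      refine lt_of_le_of_ne (le_inf hlt.le hDN) (fun he => h3.not_ge ?_)
      intro x hx
      rw [Subgroup.mem_subgroupOf, he]
      refine ⟨x.2, ?_⟩
      rw [Subgroup.mem_normalizer_iff] at hx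
      show (x : G) ∈ N
      rw [hN, Subgroup.mem_normalizer_iff]
      intro y
      constructor
      · intro hy
        exact (hx ⟨y, hlt.le hy⟩).mp hy
      · intro hy
        have hyR : y ∈ (R : Subgroup G) := by
          simpa [mul_assoc] using Subgroup.mul_mem _ (Subgroup.mul_mem _ (Subgroup.inv_mem _ x.2) (hlt.le hy)) x.2
        exact (hx ⟨y, hyR⟩).mpr hy
    exact Nat.lt_of_le_of_ne (Subgroup.card_le_of_le h4.le)
      (fun he => h4.ne (Subgroup.eq_of_le_of_card_ge h4.le he.ge))
  have hPD : D < (P : Subgroup G) := by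
    refine lt_of_le_of_ne inf_le_left fun he => hPQ ?_
    have hle : (P : Subgroup G) ≤ Q := he ▸ inf_le_right
    exact Sylow.ext (P.3 Q.2 hle).symm
  have hQD : D < (Q : Subgroup G) := by
    refine lt_of_le_of_ne inf_le_right fun he => hPQ ?_
    have hle : (Q : Subgroup G) ≤ P := he ▸ inf_le_left
    exact Sylow.ext (Q.3 P.2 hle)
  have hDp : IsPGroup p D := P.2.to_le inf_le_left
  have hDn : (D.subgroupOf N).Normal := Subgroup.normal_in_normalizer
  have hDS : ∀ S : Sylow p N, D.subgroupOf N ≤ (S : Subgroup N) := fun S => by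
    have hp' : IsPGroup p (D.subgroupOf N) := hDp.comap_subtype
    exact sup_eq_left.mp (S.3 (S.2.to_sup_of_normal_right hp') le_sup_left)
  have hmapD : (D.subgroupOf N).map N.subtype = D := by
    rw [Subgroup.subgroupOf_map_subtype, inf_eq_left.mpr hDN]
  have hbig : ∀ S : Sylow p N, Nat.card D < Nat.card ↥((S : Subgroup N).map N.subtype) := by
    intro S
    rw [Subgroup.card_map_of_injective N.subtype_injective]
    refine (hgrow P hPD).trans_le ?_
    obtain ⟨S', hS'⟩ := (IsPGroup.comap_subtype (K := N) P.2).exists_le_sylow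
    rw [Nat.card_congr (S.equiv S').toEquiv]
    refine le_trans (le_of_eq ?_) (Subgroup.card_le_of_le hS')
    show _ = Nat.card ↥((P : Subgroup G).subgroupOf N)
    rw [← Subgroup.inf_subgroupOf_right (P : Subgroup G) N]
    exact (Nat.card_congr (Subgroup.subgroupOfEquivOfLe inf_le_right).toEquiv).symm
  have hex : ∀ S : Sylow p N, ∃! T : Sylow p G, (S : Subgroup N).map N.subtype ≤ (T : Subgroup G) := by
    intro S
    obtain ⟨T, hT⟩ := (S.2.map N.subtype).exists_le_sylow
    exact ⟨T, hT, fun T' hT' => hmax' T' T _ hT' hT (hbig S)⟩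
  refine ⟨?_, ?_, hex⟩
  · rw [Finite.one_lt_card_iff_nontrivial]
    by_contra hsub
    rw [not_nontrivial_iff_subsingleton] at hsub
    obtain ⟨S⟩ := (Sylow.nonempty : Nonempty (Sylow p N))
    obtain ⟨T, hT, -⟩ := hex S
    have key : ∀ R : Sylow p G, D < (R : Subgroup G) → R = T := by
      intro R hR
      obtain ⟨S', hS'⟩ := (IsPGroup.comap_subtype (K := N) R.2).exists_le_sylow
      rw [Subsingleton.elim S' S] at hS'
      refine hmax' R T _ inf_le_left ?_ (hgrow R hR)
      exact fun x hx => hT ⟨⟨x, hx.2⟩, hS' hx.1, rfl⟩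
    exact hPQ ((key P hPD).trans (key Q hQD).symm)
  · intro S T hST
    by_contra hne
    apply hST
    have hlt : Nat.card D < Nat.card ↥(((S : Subgroup N) ⊓ (T : Subgroup N)).map N.subtype) := by
      rw [Subgroup.card_map_of_injective N.subtype_injective,
        ← Nat.card_congr (Subgroup.subgroupOfEquivOfLe hDN).toEquiv]
      exact Nat.lt_of_le_of_ne (Subgroup.card_le_of_le (le_inf (hDS S) (hDS T)))
        (fun he => hne (Subgroup.eq_of_le_of_card_ge (le_inf (hDS S) (hDS T)) he.ge).symm)
    obtain ⟨U, hU, -⟩ := hex S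
    obtain ⟨V, hV, -⟩ := hex T
    have hUV : U = V := hmax' U V _ ((Subgroup.map_mono inf_le_left).trans hU)
      ((Subgroup.map_mono inf_le_right).trans hV) hlt
    subst hUV
    have hp' : IsPGroup p ((U : Subgroup G).subgroupOf N) := IsPGroup.comap_subtype U.2
    apply Sylow.ext
    rw [← S.3 hp' (Subgroup.map_le_iff_le_comap.mp hU), ← T.3 hp' (Subgroup.map_le_iff_le_comap.mp hV)]

end Cfsg.Agent.S0986
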