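import Cfsg.Statements.S0988
import Mathlib
import Cfsg.Agent.Lib.SimpleOrderCheck
import Cfsg.Agent.Lib.CharInducedBurnside
-- import your own Cfsg.Agent.* helpers here

set_option autoImplicit false
open Cfsg

namespace Cfsg.Agent.S0988

theorem aux {G : Type*} [Group G] [Finite G] [IsSimpleGroup G] (hG' : ¬ IsMulCommutative G)
    (p q r : ℕ) (hp : p.Prime) (hq : q.Prime) (hr : r.Prime) (hpq : p ≠ q) (hpr : p ≠ r)
    (hqr : q < r) (hG : Nat.card G = p ^ 2 * q * r) : Nat.card G = 60 := by
  have hqp' : ¬ q ∣ p ^ 2 := fun h =>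
    hpq ((Nat.prime_dvd_prime_iff_eq hq hp).1 (hq.dvd_of_dvd_pow h)).symm
  have hrp' : ¬ r ∣ p ^ 2 := fun h =>
    hpr ((Nat.prime_dvd_prime_iff_eq hr hp).1 (hr.dvd_of_dvd_pow h)).symm
  have hrq : ¬ r ∣ q := fun h => hqr.ne' ((Nat.prime_dvd_prime_iff_eq hr hq).1 h)
  have hne1 : Nat.card G ≠ 1 := by
    rw [hG]
    intro h
    exact hr.ne_one (Nat.eq_one_of_mul_eq_one_left h)
  -- the smallest prime is `p`
  have hmin : (Nat.card G).minFac = p := by
    have hm := Nat.minFac_prime hne1
    have hd := Nat.minFac_dvd (Nat.card G)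
    have hle := Nat.minFac_le_of_dvd hq.two_le (hG ▸ dvd_mul_of_dvd_left (dvd_mul_left q _) r)
    generalize hs : (Nat.card G).minFac = s at hm hd hle
    rw [hG] at hd
    rcases hm.dvd_mul.1 hd with h | h
    · rcases hm.dvd_mul.1 h with h | h
      · exact (Nat.prime_dvd_prime_iff_eq hm hp).1 (hm.dvd_of_dvd_pow h)
      · exfalso
        have hsq := (Nat.prime_dvd_prime_iff_eq hm hq).1 h
        subst hsq
        have : Fact s.Prime := ⟨hq⟩
        obtain ⟨Q⟩ : Nonempty (Sylow s G) := inferInstance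
        have hQ : Nat.card Q = s := by
          have := SimpleOrder.sylow_card_of_eq (p := s) (k := 1) (m := p ^ 2 * r)
            (by rw [hG]; ring) (fun hd => (hm.dvd_mul.1 hd).elim hqp'
              (fun h => hqr.ne ((Nat.prime_dvd_prime_iff_eq hm hr).1 h))) Q
          simpa using this
        exact SimpleOrder.not_normalizer_le_centralizer hG'
          (hG ▸ dvd_mul_of_dvd_left (dvd_mul_left s _) r) Q
          (IsCyclic.normalizer_le_centralizer hs (isCyclic_of_prime_card hQ))
    · exact absurd ((Nat.prime_dvd_prime_iff_eq hm hr).1 h) (by omega)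
  have : Fact p.Prime := ⟨hp⟩
  have hpq' : p < q := lt_of_le_of_ne (hmin ▸ Nat.minFac_le_of_dvd hq.two_le
    (hG ▸ dvd_mul_of_dvd_left (dvd_mul_left q _) r)) hpq
  obtain ⟨P⟩ : Nonempty (Sylow p G) := inferInstance
  have hpm : ¬ p ∣ q * r := fun hd => (hp.dvd_mul.1 hd).elim
    (fun h => hpq ((Nat.prime_dvd_prime_iff_eq hp hq).1 h))
    (fun h => hpr ((Nat.prime_dvd_prime_iff_eq hp hr).1 h))
  have hP : Nat.card P = p ^ 2 :=
    SimpleOrder.sylow_card_of_eq (p := p) (k := 2) (m := q * r) (by rw [hG]; ring) hpm P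
  have hncyc : ¬ IsCyclic P := fun hc => SimpleOrder.not_normalizer_le_centralizer hG'
    (hG ▸ dvd_mul_of_dvd_left (dvd_mul_of_dvd_left (dvd_pow_self p two_ne_zero) q) r) P
    (IsCyclic.normalizer_le_centralizer hmin hc)
  have hPc : ∀ u v : P, u * v = v * u := (IsPGroup.isMulCommutative_of_card_eq_prime_sq hP).is_comm.comm
  -- an element of prime order `s` of `N(P)` not centralizing `P`
  obtain ⟨g, hgN, hgC⟩ : ∃ g ∈ Subgroup.normalizer ((P : Subgroup G) : Set G),
      g ∉ Subgroup.centralizer ((P : Subgroup G) : Set G) := by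
    by_contra! h
    exact SimpleOrder.not_normalizer_le_centralizer hG'
      (hG ▸ dvd_mul_of_dvd_left (dvd_mul_of_dvd_left (dvd_pow_self p two_ne_zero) q) r) P h
  set φ := (P : Subgroup G).normalizerMonoidHom with hφ
  have hker : φ ⟨g, hgN⟩ ≠ 1 := by
    intro h
    have : (⟨g, hgN⟩ : Subgroup.normalizer ((P : Subgroup G) : Set G)) ∈ φ.ker := h
    rw [hφ, Subgroup.normalizerMonoidHom_ker, Subgroup.mem_subgroupOf] at this
    exact hgC this
  obtain ⟨s, hs, hsd⟩ := Nat.exists_prime_and_dvd
    (show orderOf (φ ⟨g, hgN⟩) ≠ 1 from fun h => hker (orderOf_eq_one_iff.1 h))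
  have : Fact s.Prime := ⟨hs⟩
  have hsp : s ≠ p := by
    rintro rfl
    have hd1 : (P : Subgroup G).relIndex (Subgroup.normalizer ((P : Subgroup G) : Set G)) ∣ q * r :=
      SimpleOrder.sylow_index_of_eq (p := s) (k := 2) (by rw [hG]; ring) hpm P ▸
        Subgroup.relIndex_dvd_index_of_le Subgroup.le_normalizer
    have hle : (P : Subgroup G) ≤ Subgroup.centralizer ((P : Subgroup G) : Set G) := fun u hu v hv =>
      congrArg Subtype.val (hPc ⟨v, hv⟩ ⟨u, hu⟩)
    have hd2 : orderOf (φ ⟨g, hgN⟩) ∣ (Subgroup.centralizer ((P : Subgroup G) : Set G)).relIndex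
        (Subgroup.normalizer ((P : Subgroup G) : Set G)) := by
      rw [Subgroup.relIndex, Subgroup.index, ← Subgroup.normalizerMonoidHom_ker, ← hφ,
        Nat.card_congr (QuotientGroup.quotientKerEquivRange φ).toEquiv]
      exact (φ.range.orderOf_mk _ ⟨_, rfl⟩) ▸ orderOf_dvd_natCard (G := φ.range) _
    exact hpm ((hsd.trans hd2).trans ((Subgroup.relIndex_dvd_of_le_left _ hle).trans hd1))
  set x := φ ⟨g, hgN⟩ ^ (orderOf (φ ⟨g, hgN⟩) / s) with hx
  have hxo : orderOf x = s := by
    have h0 : orderOf (φ ⟨g, hgN⟩) ≠ 0 := (orderOf_pos _).ne'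
    exact orderOf_pow_orderOf_div h0 hsd
  have hsG : s ∣ Nat.card G :=
    hsd.trans ((orderOf_map_dvd φ _).trans ((Subgroup.orderOf_coe (⟨g, hgN⟩ : Subgroup.normalizer
      ((P : Subgroup G) : Set G))).symm ▸ orderOf_dvd_natCard g))
  have hps : p < s := lt_of_le_of_ne (hmin ▸ Nat.minFac_le_of_dvd hs.two_le hsG) hsp.symm
  -- count fixed points
  have hsle : s ≤ p + 1 := by
    have hmod : Nat.card P ≡ Nat.card (MulAction.fixedPoints (Subgroup.zpowers x) P) [MOD s] :=
      (IsPGroup.of_card (p := s) (n := 1) (by rw [Nat.card_zpowers, hxo, pow_one])).card_modEq_card_fixedPoints _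
    let F : Subgroup P :=
      { carrier := MulAction.fixedPoints (Subgroup.zpowers x) P
        one_mem' := fun a => map_one (a : MulAut P)
        mul_mem' := fun {u v} hu hv a => by
          show (a : MulAut P) (u * v) = u * v
          rw [map_mul]; exact congrArg₂ _ (hu a) (hv a)
        inv_mem' := fun {u} hu a => by
          show (a : MulAut P) u⁻¹ = u⁻¹
          rw [map_inv]; exact congrArg _ (hu a) }
    have hF : F ≠ ⊤ := fun h => by
      have : x = 1 := MulEquiv.ext fun u =>
        (show u ∈ F from h ▸ Subgroup.mem_top u) ⟨x, Subgroup.mem_zpowers x⟩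
      rw [this, orderOf_one] at hxo
      exact hs.ne_one hxo.symm
    have hFd : Nat.card F ∣ p ^ 2 := hP ▸ Subgroup.card_subgroup_dvd_card F
    obtain ⟨i, hi, hi'⟩ := (Nat.dvd_prime_pow hp).1 hFd
    have hi2 : i ≠ 2 := fun h => hF (Subgroup.eq_top_of_card_eq F (by rw [hi', h, hP]))
    rw [hP, show Nat.card (MulAction.fixedPoints (Subgroup.zpowers x) P) = Nat.card F from rfl,
      hi'] at hmod
    have hd : s ∣ p ^ 2 - p ^ i :=
      (Nat.modEq_iff_dvd' (Nat.pow_le_pow_right hp.pos hi)).1 hmod.symm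
    interval_cases i
    · have hsq : p ^ 2 - p ^ 0 = (p + 1) * (p - 1) := by
        rw [pow_zero, ← Nat.sq_sub_sq p 1, one_pow]
      rw [hsq] at hd
      rcases hs.dvd_mul.1 hd with h | h
      · exact Nat.le_of_dvd (by omega) h
      · have := Nat.le_of_dvd (by have := hp.two_le; omega) h
        omega
    · have hsq : p ^ 2 - p ^ 1 = p * (p - 1) := by rw [Nat.mul_sub, mul_one, sq, pow_one]
      rw [hsq] at hd
      rcases hs.dvd_mul.1 hd with h | h
      · exact absurd ((Nat.prime_dvd_prime_iff_eq hs hp).1 h) hsp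
      · have := Nat.le_of_dvd (by have := hp.two_le; omega) h
        omega
    · exact absurd rfl hi2
  have hs1 : s = p + 1 := by omega
  have hp2 : p = 2 := by
    by_contra hne
    have h1 := hp.eq_two_or_odd.resolve_left hne
    have h2 := hs.eq_two_or_odd.resolve_left (by have := hp.two_le; omega)
    omega
  subst hp2
  have hs3 : s = 3 := by omega
  subst hs3
  have hq3 : q = 3 := by
    rw [hG] at hsG
    rcases hs.dvd_mul.1 hsG with h | h
    · rcases hs.dvd_mul.1 h with h | h
      · norm_num at h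
      · exact ((Nat.prime_dvd_prime_iff_eq hs hq).1 h).symm
    · have := (Nat.prime_dvd_prime_iff_eq hs hr).1 h
      omega
  subst hq3
  have : Fact r.Prime := ⟨hr⟩
  have hmem := SimpleOrder.card_sylow_mem (G := G) (p := r) (k := 1) (m := 12)
    (by rw [hG]; ring) (fun hd => by
      rcases hr.dvd_mul.1 (show r ∣ 2 ^ 2 * 3 from hd) with h | h
      · exact hrp' h
      · exact hrq h)
  have hne : Nat.card (Sylow r G) ≠ 1 :=
    SimpleOrder.card_sylow_ne_one hG' (hG ▸ dvd_mul_left r _)
  rw [Finset.mem_filter, Nat.mem_divisors] at hmem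
  have hle := Nat.le_of_dvd (by norm_num) hmem.1.1
  have hrle : r ≤ 11 := by
    by_contra h
    rw [Nat.mod_eq_of_lt (by omega)] at hmem
    exact hne hmem.2
  generalize Nat.card (Sylow r G) = d at hmem hne hle
  obtain ⟨⟨hd, -⟩, hmodd⟩ := hmem
  interval_cases r
  all_goals first
    | exact hG
    | exact absurd hG (SimpleOrderCheck.card_ne_of_kill hG' [2, 3, 11] 11 1 (by decide +kernel))
    | (exfalso; interval_cases d <;> omega)
    | exact absurd hr (by norm_num)

/-- If a finite simple group has order p^2 * q * r with p, q and r prime, then its order is 60. -/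
theorem result {G : Type*} [Group G] [Finite G] [IsSimpleGroup G] (p q r : ℕ) (hp : p.Prime) (hq : q.Prime) (hr : r.Prime) (hG : Nat.card G = p ^ 2 * q * r) : Nat.card G = 60 := by
  have hG' : ¬ IsMulCommutative G := by
    refine SimpleOrder.not_comm_of_not_prime fun hpr => ?_
    rw [hG, mul_assoc, sq, mul_assoc] at hpr
    have h2 : 1 < p * (q * r) :=
      lt_of_lt_of_le hp.one_lt (Nat.le_mul_of_pos_right p (Nat.mul_pos hq.pos hr.pos))
    exact Nat.not_prime_mul hp.ne_one h2.ne' hpr
  have hns : ¬ Group.IsSolvable G := fun h =>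
    hG' (IsMulCommutative.of_comm (IsSimpleGroup.comm_iff_isSolvable.2 h))
  have hpq : p ≠ q := fun h => hns (CharInduced.solvable_of_card_two_primes p r 3 1 hp hr
    (by rw [hG, ← h]; ring))
  have hpr : p ≠ r := fun h => hns (CharInduced.solvable_of_card_two_primes p q 3 1 hp hq
    (by rw [hG, ← h]; ring))
  have hqr : q ≠ r := fun h => hns (CharInduced.solvable_of_card_two_primes p q 2 2 hp hq
    (by rw [hG, ← h]; ring))
  rcases lt_or_gt_of_ne hqr with h | h
  · exact aux hG' p q r hp hq hr hpq hpr h hG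
  · exact aux hG' p r q hp hr hq hpr hpq h (by rw [hG]; ring)

end Cfsg.Agent.S0988
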