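import Cfsg.Statements.S0989
import Mathlib
-- import your own Cfsg.Agent.* helpers here

set_option autoImplicit false
open Cfsg

namespace Cfsg.Agent.S0989

/-- In the symmetric group on p or p + 1 letters, p a prime, the normalizer of a Sylow p-subgroup has order p * (p - 1). -/
theorem result {α : Type*} [Fintype α] [DecidableEq α] (p : ℕ) [Fact p.Prime] (hα : Fintype.card α = p ∨ Fintype.card α = p + 1) (P : Sylow p (Equiv.Perm α)) : Nat.card ↥(Subgroup.normalizer ((P : Subgroup (Equiv.Perm α)) : Set (Equiv.Perm α))) = p * (p - 1) := by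
  have hp : p.Prime := Fact.out
  set n := Fintype.card α with hn
  have hnp : n - p ≤ 1 ∧ p ≤ n ∧ n < p + p := by
    rcases hα with h | h <;> refine ⟨?_, ?_, ?_⟩ <;> have := hp.two_le <;> omega
  have hcard : Nat.card (Equiv.Perm α) = n.factorial := by rw [Nat.card_perm, Nat.card_eq_fintype_card]
  have hfac : n.factorial.factorization p = 1 := by
    have h1 : (Nat.factorial p).factorization p = 1 := by
      simpa using Nat.factorization_factorial_mul (n := 1) hp
    rcases hα with h | h <;> rw [h]
    · exact h1
    · rw [Nat.factorial_succ, Nat.factorization_mul (by omega) (Nat.factorial_ne_zero p),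
        Finsupp.add_apply, h1, Nat.factorization_eq_zero_of_not_dvd]
      rw [Nat.dvd_add_right dvd_rfl]
      exact hp.not_dvd_one
  have hP : Nat.card (P : Subgroup (Equiv.Perm α)) = p := by
    rw [P.card_eq_multiplicity, hcard, hfac, pow_one]
  have hcyc : IsCyclic (P : Subgroup (Equiv.Perm α)) := isCyclic_of_prime_card hP
  obtain ⟨⟨σ, hσP⟩, hgen⟩ := hcyc.exists_generator
  have hσ : orderOf σ = p := by
    have h := orderOf_eq_card_of_forall_mem_zpowers hgen
    rwa [hP, ← Subgroup.orderOf_coe] at h
  have hPz : (P : Subgroup (Equiv.Perm α)) = Subgroup.zpowers σ := by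
    refine (Subgroup.eq_of_le_of_card_ge (Subgroup.zpowers_le.mpr hσP) ?_).symm
    rw [Nat.card_zpowers, hσ, hP]
  have htype : ∀ τ : Equiv.Perm α, orderOf τ = p → τ.cycleType = {p} := by
    intro τ hτ
    obtain ⟨k, hk⟩ := Equiv.Perm.cycleType_prime_order (σ := τ) (hτ ▸ hp)
    rw [hτ] at hk
    have hsum : τ.cycleType.sum ≤ n := by
      rw [Equiv.Perm.sum_cycleType]; exact Finset.card_le_univ _
    rw [hk, Multiset.sum_replicate, smul_eq_mul] at hsum
    rcases k with _ | k
    · rw [hk]; rfl
    · exfalso
      have h2 : 2 * p ≤ (k + 1 + 1) * p := Nat.mul_le_mul_right p (by omega)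
      omega
  set C := Subgroup.centralizer ((P : Subgroup (Equiv.Perm α)) : Set (Equiv.Perm α)) with hC
  set N := Subgroup.normalizer ((P : Subgroup (Equiv.Perm α)) : Set (Equiv.Perm α)) with hN
  have hCcard : Nat.card C = p := by
    rw [hC, hPz, Subgroup.zpowers_eq_closure, Subgroup.centralizer_closure, Equiv.Perm.nat_card_centralizer,
      htype σ hσ]
    simp only [Multiset.sum_singleton, Multiset.prod_singleton, Multiset.toFinset_singleton,
      Finset.prod_singleton, Multiset.count_singleton_self, Nat.factorial_one, mul_one]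
    rw [← hn, Nat.factorial_eq_one.mpr hnp.1, one_mul]
  have hCN : C ≤ N := Subgroup.centralizer_le_normalizer _
  set f := (P : Subgroup (Equiv.Perm α)).normalizerMonoidHom with hf
  have hsurj : Function.Surjective f := by
    intro e
    have hord : orderOf ((e ⟨σ, hσP⟩ : (P : Subgroup (Equiv.Perm α))) : Equiv.Perm α) = p := by
      rw [Subgroup.orderOf_coe, e.orderOf_eq, ← Subgroup.orderOf_coe]
      exact hσ
    obtain ⟨c, hc⟩ := isConj_iff.mp
      (Equiv.Perm.isConj_iff_cycleType_eq.mpr ((htype σ hσ).trans (htype _ hord).symm))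
    have hcN : c ∈ N := by
      have hmap : (P : Subgroup (Equiv.Perm α)).map (MulAut.conj c).toMonoidHom
          = (P : Subgroup (Equiv.Perm α)) := by
        refine Subgroup.eq_of_le_of_card_ge ?_ ?_
        · conv_lhs => rw [hPz, MonoidHom.map_zpowers]
          rw [Subgroup.zpowers_le]
          show c * σ * c⁻¹ ∈ _
          rw [hc]
          exact (e ⟨σ, hσP⟩).2
        · rw [Subgroup.card_map_of_injective (MulAut.conj c).injective]
      rw [hN, Subgroup.mem_normalizer_iff]
      intro y
      constructor
      · intro hy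
        rw [← hmap]
        exact ⟨y, hy, rfl⟩
      · intro hy
        rw [← hmap] at hy
        obtain ⟨z, hz, hzy⟩ := hy
        have : z = y := (MulAut.conj c).injective hzy
        exact this ▸ hz
    refine ⟨⟨c, hcN⟩, MulEquiv.ext fun x => ?_⟩
    obtain ⟨k, rfl⟩ := hgen x
    rw [map_zpow, map_zpow]
    congr 1
    exact Subtype.ext hc
  have hker : Nat.card f.ker = p := by
    rw [hf, Subgroup.normalizerMonoidHom_ker, Nat.card_congr (Subgroup.subgroupOfEquivOfLe hCN).toEquiv]
    exact hCcard
  have hind : f.ker.index = p - 1 := by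
    rw [Subgroup.index_ker, MonoidHom.range_eq_top.mpr hsurj, Subgroup.card_top, IsCyclic.card_mulAut, hP,
      Nat.totient_prime hp]
  have h := Subgroup.card_mul_index f.ker
  rw [hker, hind] at h
  exact h.symm

end Cfsg.Agent.S0989
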