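import Cfsg.Statements.S0990
import Mathlib
-- import your own Cfsg.Agent.* helpers here

set_option autoImplicit false
open Cfsg

namespace Cfsg.Agent.S0990

/-- Let p be an odd prime and P a Sylow p-subgroup of the symmetric group on a finite set with at least two elements. Then P is contained in the alternating group, and twice the order of the normalizer of P inside the alternating group equals the order of the normalizer of P in the symmetric group. -/
theorem result {α : Type*} [Fintype α] [DecidableEq α] (hα : 2 ≤ Fintype.card α) (p : ℕ) [Fact p.Prime] (hp : p ≠ 2) (P : Sylow p (Equiv.Perm α)) : (P : Subgroup (Equiv.Perm α)) ≤ alternatingGroup α ∧ 2 * Nat.card ↥(Subgroup.normalizer ((((P : Subgroup (Equiv.Perm α)).subgroupOf (alternatingGroup α) : Subgroup ↥(alternatingGroup α)) : Set ↥(alternatingGroup α)))) = Nat.card ↥(Subgroup.normalizer ((P : Subgroup (Equiv.Perm α)) : Set (Equiv.Perm α))) := by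
  have hle : (P : Subgroup (Equiv.Perm α)) ≤ alternatingGroup α := by
    intro x hx
    rw [Equiv.Perm.mem_alternatingGroup]
    obtain ⟨k, hk⟩ := P.2 ⟨x, hx⟩
    have hx' : x ^ p ^ k = 1 := congrArg Subtype.val hk
    have hodd : Odd (p ^ k) := ((Fact.out : p.Prime).odd_of_ne_two hp).pow
    rcases Int.units_eq_one_or (Equiv.Perm.sign x) with h1 | h1
    · exact h1
    · have := congrArg Equiv.Perm.sign hx'
      rw [map_pow, map_one, h1, hodd.neg_one_pow] at this
      exact absurd this (by decide)
  refine ⟨hle, ?_⟩
  have : Nontrivial α := Fintype.one_lt_card_iff_nontrivial.mp hα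
  set N := Subgroup.normalizer ((P : Subgroup (Equiv.Perm α)) : Set (Equiv.Perm α)) with hN
  set A := alternatingGroup α with hA
  have hsub : Subgroup.normalizer ((((P : Subgroup (Equiv.Perm α)).subgroupOf A : Subgroup ↥A)) : Set ↥A)
      = N.subgroupOf A := by
    ext g
    rw [Subgroup.mem_subgroupOf, hN, Subgroup.mem_normalizer_iff, Subgroup.mem_normalizer_iff]
    constructor
    · intro h y
      constructor
      · intro hy
        exact (h ⟨y, hle hy⟩).mp hy
      · intro hy
        have hyA : y ∈ A := by
          have := A.mul_mem (A.mul_mem (A.inv_mem g.2) (hle hy)) g.2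
          simpa [mul_assoc] using this
        exact (h ⟨y, hyA⟩).mpr hy
    · intro h y
      exact h y.1
  rw [hsub]
  have htop : N ⊔ A = ⊤ := Sylow.normalizer_sup_eq_top' P hle
  have hidx : A.index = 2 := alternatingGroup.index_eq_two
  have hrel : (A.subgroupOf N).index = 2 := by
    rw [← Subgroup.relIndex, ← Subgroup.relIndex_sup_right, htop, Subgroup.relIndex_top_right, hidx]
  have hc : Nat.card ↥(N.subgroupOf A) = Nat.card ↥(A.subgroupOf N) := by
    rw [← Subgroup.inf_subgroupOf_right N A, ← Subgroup.inf_subgroupOf_right A N,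
      Nat.card_congr (Subgroup.subgroupOfEquivOfLe inf_le_right).toEquiv,
      Nat.card_congr (Subgroup.subgroupOfEquivOfLe inf_le_right).toEquiv, inf_comm]
  rw [hc, ← hrel, mul_comm, Subgroup.card_mul_index]

end Cfsg.Agent.S0990
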