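import Cfsg.Statements.S0992
import Mathlib
-- import your own Cfsg.Agent.* helpers here

set_option autoImplicit false
open Cfsg

namespace Cfsg.Agent.S0992

/-- Let G be a non-abelian finite simple group of even order not divisible by 8, and T a Sylow 2-subgroup. Then T is a Klein four-group and the centralizer of T has index 3 in the normalizer of T. -/
theorem result {G : Type*} [Group G] [Finite G] [IsSimpleGroup G] (hG : ¬ IsMulCommutative G) (h2 : Even (Nat.card G)) (h8 : ¬ 8 ∣ Nat.card G) (T : Sylow 2 G) : IsKleinFour ↥(T : Subgroup G) ∧ (Subgroup.centralizer ((T : Subgroup G) : Set G)).relIndex (Subgroup.normalizer ((T : Subgroup G) : Set G)) = 3 := by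
  have hcomm : ∀ P : Sylow 2 G, ¬ Subgroup.normalizer ((P : Subgroup G) : Set G) ≤
      Subgroup.centralizer ((P : Subgroup G) : Set G) := by
    intro P hP
    have h1 := MonoidHom.ker_transferSylow_isComplement' P hP
    have h2 := P.dvd_card_of_dvd_card h2.two_dvd
    rcases (MonoidHom.transferSylow P hP).normal_ker.eq_bot_or_eq_top with h | h
    · rw [h, Subgroup.isComplement'_bot_left] at h1
      apply hG
      refine ⟨⟨fun a b => ?_⟩⟩
      have ha : a ∈ (P : Subgroup G) := h1 ▸ Subgroup.mem_top a
      have hb : b ∈ (P : Subgroup G) := h1 ▸ Subgroup.mem_top b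
      exact (hP (P.le_normalizer ha) b hb).symm
    · rw [h, Subgroup.isComplement'_top_left] at h1
      rw [h1, Subgroup.card_bot] at h2
      omega
  have hmin : (Nat.card G).minFac = 2 := by
    rw [Nat.minFac_eq_two_iff]; exact h2.two_dvd
  have hncyc : ¬ IsCyclic (T : Subgroup G) := fun hc =>
    hcomm T (hc.normalizer_le_centralizer hmin)
  obtain ⟨n, hn⟩ := T.2.exists_card_eq
  have hn2 : n = 2 := by
    have hle : n ≤ 2 := by
      by_contra hgt
      apply h8
      calc (8 : ℕ) = 2 ^ 3 := rfl
        _ ∣ 2 ^ n := Nat.pow_dvd_pow 2 (by omega)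
        _ ∣ Nat.card G := hn ▸ Subgroup.card_subgroup_dvd_card _
    rcases n with _ | _ | n
    · exact absurd (@isCyclic_of_subsingleton _ _ (Nat.card_eq_one_iff_unique.mp hn).1) hncyc
    · exact absurd (isCyclic_of_prime_card (p := 2) hn) hncyc
    · omega
  subst hn2
  have exp_two : Monoid.exponent (T : Subgroup G) = 2 :=
    (not_isCyclic_iff_exponent_eq_prime Nat.prime_two hn).mp hncyc
  have hK : IsKleinFour ↥(T : Subgroup G) := { card_four := by simpa using hn, exponent_two := exp_two }
  refine ⟨hK, ?_⟩
  set C := Subgroup.centralizer ((T : Subgroup G) : Set G)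
  set N := Subgroup.normalizer ((T : Subgroup G) : Set G)
  have hTC : (T : Subgroup G) ≤ C := by
    intro a ha b hb
    have := IsKleinFour.isMulCommutative (G := ↥(T : Subgroup G))
    exact congrArg Subtype.val (IsMulCommutative.is_comm.comm (⟨b, hb⟩ : (T : Subgroup G)) ⟨a, ha⟩)
  have hodd : ¬ 2 ∣ C.relIndex N := fun hd =>
    T.not_dvd_index (hd.trans ((Subgroup.relIndex_dvd_of_le_left N hTC).trans
      (Subgroup.relIndex_dvd_index_of_le T.le_normalizer)))
  have hne : C.relIndex N ≠ 1 := fun h1 => hcomm T (Subgroup.relIndex_eq_one.mp h1)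
  have hdvd : C.relIndex N ∣ 6 := by
    have key := Subgroup.card_dvd_of_injective _
      (QuotientGroup.kerLift_injective (T : Subgroup G).normalizerMonoidHom)
    rw [Subgroup.normalizerMonoidHom_ker, ← Subgroup.index, ← Subgroup.relIndex] at key
    refine key.trans ?_
    classical
    have := Fintype.ofFinite (T : Subgroup G)
    let f : MulAut (T : Subgroup G) →* Equiv.Perm {a : (T : Subgroup G) // a ≠ 1} :=
      { toFun := fun e => e.toEquiv.subtypeEquiv (fun a => by simp)
        map_one' := by ext a; rfl
        map_mul' := fun e e' => by ext a; rfl }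
    have hf : Function.Injective f := by
      intro e e' h
      ext a
      by_cases ha : a = 1
      · subst ha; simp
      · exact congrArg (fun q => ((q.1 : (T : Subgroup G)) : G)) (Equiv.ext_iff.mp h ⟨a, ha⟩)
    refine (Subgroup.card_dvd_of_injective f hf).trans ?_
    have hcard : Fintype.card {a : (T : Subgroup G) // a ≠ 1} = 3 := by
      rw [Fintype.card_subtype_compl, Fintype.card_subtype_eq, ← Nat.card_eq_fintype_card, hn]
      norm_num
    rw [Nat.card_eq_fintype_card, Fintype.card_perm, hcard]
    rfl
  have h6 := Nat.le_of_dvd (by norm_num) hdvd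
  interval_cases hh : C.relIndex N <;> simp_all

end Cfsg.Agent.S0992
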