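import Cfsg.Statements.S0995
import Mathlib
-- import your own Cfsg.Agent.* helpers here

set_option autoImplicit false
open Cfsg

namespace Cfsg.Agent.S0995

/-- Let G be a finite perfect group containing an element z of prime order p whose centralizer is the cyclic group it generates. Let t be the number of conjugacy classes of elements of order p. Then t divides p - 1, the number of Sylow p-subgroups has the form 1 + n * p, and |G| * t = (p - 1) * p * (1 + n * p). -/
theorem result {G : Type*} [Group G] [Finite G] (hperf : commutator G = ⊤) (p : ℕ) [Fact p.Prime] (z : G) (hz : orderOf z = p) (hC : Subgroup.centralizer ({z} : Set G) = Subgroup.zpowers z) : ∃ n t : ℕ, t = Nat.card {c : ConjClasses G // ∃ g : G, ConjClasses.mk g = c ∧ orderOf g = p} ∧ t ∣ p - 1 ∧ Nat.card (Sylow p G) = 1 + n * p ∧ Nat.card G * t = (p - 1) * p * (1 + n * p) := by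
  classical
  have := Fintype.ofFinite G
  have hp : p.Prime := Fact.out
  obtain ⟨P, hzP⟩ := (IsPGroup.of_card (G := Subgroup.zpowers z) (p := p) (n := 1)
    (by rw [Nat.card_zpowers, hz, pow_one])).exists_le_sylow
  have hz1 : z ≠ 1 := fun h => hp.ne_one (by rw [← hz, h, orderOf_one])
  have hPz : (P : Subgroup G) = Subgroup.zpowers z := by
    refine le_antisymm ?_ hzP
    have hzmem : z ∈ (P : Subgroup G) := hzP (Subgroup.mem_zpowers z)
    have : Nontrivial (P : Subgroup G) :=
      ⟨⟨⟨z, hzmem⟩, 1, fun h => hz1 (congrArg Subtype.val h)⟩⟩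
    have := IsPGroup.center_nontrivial P.2
    obtain ⟨⟨⟨w, hwP⟩, hwc⟩, hw1⟩ := exists_ne (1 : Subgroup.center (P : Subgroup G))
    have hwcomm : ∀ x ∈ (P : Subgroup G), x * w = w * x := fun x hx =>
      congrArg Subtype.val (Subgroup.mem_center_iff.mp hwc ⟨x, hx⟩)
    have hwz : w ∈ Subgroup.zpowers z := by
      rw [← hC, Subgroup.mem_centralizer_singleton_iff]
      exact (hwcomm z hzmem).symm
    have hwne : w ≠ 1 := fun h => hw1 (Subtype.ext (Subtype.ext h))
    have hcardz : Nat.card (Subgroup.zpowers z) = p := by rw [Nat.card_zpowers, hz]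
    have hzw : z ∈ Subgroup.zpowers w := by
      have hle : Subgroup.zpowers w ≤ Subgroup.zpowers z := Subgroup.zpowers_le.mpr hwz
      have heq : Subgroup.zpowers w = Subgroup.zpowers z := by
        refine Subgroup.eq_of_le_of_card_ge hle ?_
        rw [hcardz, Nat.card_zpowers]
        rcases hp.eq_one_or_self_of_dvd _ (hcardz ▸ Subgroup.orderOf_dvd_natCard _ hwz) with h | h
        · exact absurd (orderOf_eq_one_iff.mp h) hwne
        · exact h.ge
      exact heq ▸ Subgroup.mem_zpowers z
    intro x hx
    rw [← hC, Subgroup.mem_centralizer_singleton_iff]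
    obtain ⟨k, rfl⟩ := hzw
    exact (Commute.zpow_right (hwcomm x hx) k).eq
  have hcardP : Nat.card (P : Subgroup G) = p := by rw [hPz, Nat.card_zpowers, hz]
  have hSyl : ∀ Q : Sylow p G, Nat.card (Q : Subgroup G) = p := fun Q =>
    (Nat.card_congr (Q.equiv P).toEquiv).trans hcardP
  have hS : ∀ x : G, orderOf x = p → ∃ Q : Sylow p G, (Q : Subgroup G) = Subgroup.zpowers x := by
    intro x hx
    obtain ⟨Q, hQ⟩ := (IsPGroup.of_card (G := Subgroup.zpowers x) (p := p) (n := 1)
      (by rw [Nat.card_zpowers, hx, pow_one])).exists_le_sylow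
    exact ⟨Q, (Subgroup.eq_of_le_of_card_ge hQ (by rw [hSyl, Nat.card_zpowers, hx])).symm⟩
  have hcount : Nat.card {x : G // orderOf x = p} = Nat.card (Sylow p G) * (p - 1) := by
    choose f hf using hS
    have e : {x : G // orderOf x = p} ≃ Σ Q : Sylow p G, {x : (Q : Subgroup G) // x ≠ 1} :=
      { toFun := fun x => ⟨f x.1 x.2, ⟨⟨x.1, by rw [hf]; exact Subgroup.mem_zpowers _⟩, fun h =>
          hp.ne_one (by rw [← x.2, show x.1 = 1 from congrArg Subtype.val h, orderOf_one])⟩⟩
        invFun := fun y => ⟨(y.2.1 : G), by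
          rcases hp.eq_one_or_self_of_dvd _ (hSyl y.1 ▸ Subgroup.orderOf_dvd_natCard _ y.2.1.2) with h | h
          · exact absurd (Subtype.ext (orderOf_eq_one_iff.mp h)) y.2.2
          · exact h⟩
        left_inv := fun x => rfl
        right_inv := by
          rintro ⟨Q, ⟨⟨x, hxQ⟩, hx1⟩⟩
          have hxo : orderOf x = p := by
            rcases hp.eq_one_or_self_of_dvd _ (hSyl Q ▸ Subgroup.orderOf_dvd_natCard _ hxQ) with h | h
            · exact absurd (Subtype.ext (orderOf_eq_one_iff.mp h)) hx1
            · exact h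
          have hfQ : f x hxo = Q := by
            apply Sylow.ext
            rw [hf]
            refine Subgroup.eq_of_le_of_card_ge (Subgroup.zpowers_le.mpr hxQ) ?_
            rw [hSyl, Nat.card_zpowers, hxo]
          subst hfQ
          rfl }
    have := Fintype.ofFinite (Sylow p G)
    rw [Nat.card_congr e, Nat.card_sigma, Finset.sum_congr rfl (fun Q _ => ?_), Finset.sum_const,
      Finset.card_univ, smul_eq_mul, Nat.card_eq_fintype_card]
    rw [Nat.card_eq_fintype_card, Fintype.card_subtype_compl, Fintype.card_subtype_eq,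
      ← Nat.card_eq_fintype_card, hSyl]
  have hclass : ∀ x : G, orderOf x = p → Nat.card {y : G // IsConj x y} * p = Nat.card G := by
    intro x hx
    have hcent : Nat.card (Subgroup.centralizer ({x} : Set G)) = p := by
      obtain ⟨Q, hQ⟩ := hS x hx
      obtain ⟨g, hg⟩ := MulAction.exists_smul_eq G P Q
      have hxg : x ∈ ((g • P : Sylow p G) : Subgroup G) := by
        rw [hg, hQ]; exact Subgroup.mem_zpowers x
      rw [Sylow.coe_subgroup_smul, Subgroup.mem_pointwise_smul_iff_inv_smul_mem, hPz] at hxg
      simp only [MulAut.smul_def, MulAut.conj_inv_apply] at hxg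
      set u := g⁻¹ * x * g with hu
      have huo : orderOf u = p := by
        rw [← hx]; simpa [MulAut.conj_apply] using (MulAut.conj g⁻¹).orderOf_eq x
      have huz : Subgroup.zpowers u = Subgroup.zpowers z :=
        Subgroup.eq_of_le_of_card_ge (Subgroup.zpowers_le.mpr hxg)
          (by rw [Nat.card_zpowers, Nat.card_zpowers, huo, hz])
      have hcu : Subgroup.centralizer ({u} : Set G) = Subgroup.zpowers z := by
        rw [← Subgroup.centralizer_closure, ← Subgroup.zpowers_eq_closure, huz,
          Subgroup.zpowers_eq_closure, Subgroup.centralizer_closure, hC, Subgroup.zpowers_eq_closure]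
      have e : Subgroup.centralizer ({u} : Set G) ≃ Subgroup.centralizer ({x} : Set G) :=
        { toFun := fun c => ⟨g * c.1 * g⁻¹, by
            have h := Subgroup.mem_centralizer_singleton_iff.mp c.2
            rw [Subgroup.mem_centralizer_singleton_iff]
            calc g * c.1 * g⁻¹ * x = g * (c.1 * u) * g⁻¹ := by simp only [u]; group
              _ = g * (u * c.1) * g⁻¹ := congrArg (fun w => g * w * g⁻¹) h
              _ = x * (g * c.1 * g⁻¹) := by simp only [u]; group⟩
          invFun := fun c => ⟨g⁻¹ * c.1 * g, by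
            have h := Subgroup.mem_centralizer_singleton_iff.mp c.2
            rw [Subgroup.mem_centralizer_singleton_iff]
            calc g⁻¹ * c.1 * g * u = g⁻¹ * (c.1 * x) * g := by simp only [u]; group
              _ = g⁻¹ * (x * c.1) * g := by rw [h]
              _ = u * (g⁻¹ * c.1 * g) := by simp only [u]; group⟩
          left_inv := fun c => Subtype.ext (by group)
          right_inv := fun c => Subtype.ext (by group) }
      rw [← Nat.card_congr e, hcu, Nat.card_zpowers, hz]
    have h := MulAction.index_stabilizer (ConjAct G) x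
    have horb : (MulAction.orbit (ConjAct G) x).ncard = Nat.card {y : G // IsConj x y} := by
      rw [← Nat.card_coe_set_eq]
      refine Nat.card_congr (Equiv.subtypeEquivRight fun y => ?_)
      rw [ConjAct.mem_orbit_conjAct, isConj_comm]
    rw [horb, ConjAct.stabilizer_eq_centralizer] at h
    rw [← h, ← hcent, mul_comm]
    exact Subgroup.card_mul_index _
  let T := {c : ConjClasses G // ∃ g : G, ConjClasses.mk g = c ∧ orderOf g = p}
  have hfib : Nat.card {x : G // orderOf x = p} * p = Nat.card T * Nat.card G := by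
    have e : {x : G // orderOf x = p} ≃ Σ c : T, {x : G // ConjClasses.mk x = c.1} :=
      { toFun := fun x => ⟨⟨ConjClasses.mk x.1, x.1, rfl, x.2⟩, ⟨x.1, rfl⟩⟩
        invFun := fun y => ⟨y.2.1, by
          obtain ⟨g, hg, hgo⟩ := y.1.2
          obtain ⟨c, hc⟩ := isConj_iff.mp (ConjClasses.mk_eq_mk_iff_isConj.mp (hg.trans y.2.2.symm))
          rw [← hc]
          exact ((MulAut.conj c).orderOf_eq g).trans hgo⟩
        left_inv := fun x => rfl
        right_inv := by
          rintro ⟨⟨c, hc⟩, ⟨x, hx⟩⟩
          dsimp at hx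
          subst hx
          rfl }
    have := Fintype.ofFinite T
    rw [Nat.card_congr e, Nat.card_sigma, Finset.sum_mul, Finset.sum_congr rfl (fun c _ => ?_),
      Finset.sum_const, Finset.card_univ, smul_eq_mul, ← Nat.card_eq_fintype_card]
    obtain ⟨g, hg, hgo⟩ := c.2
    rw [← hclass g hgo]
    congr 1
    refine Nat.card_congr (Equiv.subtypeEquivRight fun y => ?_)
    rw [← hg, ConjClasses.mk_eq_mk_iff_isConj, isConj_comm]
  have hdvd : Nat.card T ∣ p - 1 := by
    obtain ⟨e, he⟩ : Nat.card (Sylow p G) * p ∣ Nat.card G := by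
      have h := Subgroup.card_mul_index (P : Subgroup G)
      rw [hcardP] at h
      rw [← h, mul_comm (Nat.card (Sylow p G))]
      exact mul_dvd_mul_left p P.card_dvd_index
    refine Dvd.intro e ?_
    rw [hcount, he] at hfib
    refine Nat.eq_of_mul_eq_mul_left
      (Nat.mul_pos (Nat.card_pos (α := Sylow p G)) hp.pos) ?_
    linarith
  obtain ⟨n, hn⟩ : p ∣ Nat.card (Sylow p G) - 1 :=
    (Nat.modEq_iff_dvd' Nat.card_pos).mp (card_sylow_modEq_one p G).symm
  have hnS : Nat.card (Sylow p G) = 1 + n * p := by
    have := Nat.card_pos (α := Sylow p G)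
    rw [mul_comm n p, ← hn]
    omega
  refine ⟨n, Nat.card T, rfl, hdvd, hnS, ?_⟩
  rw [← hnS, mul_comm (Nat.card G), ← hfib, hcount]
  ring

end Cfsg.Agent.S0995
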