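import Cfsg.Statements.S0996
import Cfsg.Agent.Lib.BrauerReynolds7Recognition

set_option autoImplicit false
open Cfsg

namespace Cfsg.Agent.S0996

/-- Let G be a finite perfect group containing an element z of prime order p whose centralizer is the cyclic group it generates, and suppose the number 1 + n * p of Sylow p-subgroups satisfies n < (p + 3) / 2. Then p > 3 and G is isomorphic to the projective special linear group of dimension 2 over the field with p elements, or p - 1 is a power of 2 and G is isomorphic to that group over the field with p - 1 elements. -/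
theorem result {G : Type*} [Group G] [Finite G] (hperf : commutator G = ⊤) (p : ℕ) [Fact p.Prime] (z : G) (hz : orderOf z = p) (hC : Subgroup.centralizer ({z} : Set G) = Subgroup.zpowers z) (hn : 2 * Nat.card (Sylow p G) < (p + 1) * (p + 2)) : (∃ (F : Type) (_ : Field F) (_ : Fintype F), Fintype.card F = p ∧ 3 < p ∧ Nonempty (G ≃* Matrix.ProjectiveSpecialLinearGroup (Fin 2) F)) ∨ (∃ (m : ℕ) (F : Type) (_ : Field F) (_ : Fintype F), Fintype.card F = 2 ^ m ∧ p = 2 ^ m + 1 ∧ 3 < p ∧ Nonempty (G ≃* Matrix.ProjectiveSpecialLinearGroup (Fin 2) F)) := by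
  have hp := (Fact.out : p.Prime)
  obtain ⟨P, hzP⟩ := (IsPGroup.of_card (n := 1) (G := Subgroup.zpowers z)
    (by rw [Nat.card_zpowers, hz, pow_one])).exists_le_sylow
  haveI hnt : Nontrivial (P : Subgroup G) := by
    refine ⟨⟨⟨z, hzP (Subgroup.mem_zpowers z)⟩, 1, fun h => ?_⟩⟩
    have h' : z = 1 := congrArg Subtype.val h
    rw [h', orderOf_one] at hz
    exact hp.ne_one hz.symm
  have hzeq : Subgroup.zpowers z = (P : Subgroup G) := by
    refine le_antisymm hzP ?_
    haveI := P.isPGroup'.center_nontrivial
    obtain ⟨⟨c, hcc⟩, hc1⟩ := exists_ne (1 : Subgroup.center (P : Subgroup G))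
    have hcP : ∀ y ∈ (P : Subgroup G), y * c = (c : G) * y := fun y hy =>
      congrArg Subtype.val (Subgroup.mem_center_iff.1 hcc ⟨y, hy⟩)
    have hcz : (c : G) ∈ Subgroup.zpowers z := by
      rw [← hC, Subgroup.mem_centralizer_singleton_iff]
      exact (hcP z (hzP (Subgroup.mem_zpowers z))).symm
    have hc1' : (c : G) ≠ 1 := fun h => hc1 (Subtype.ext (Subtype.ext h))
    have hle : Subgroup.zpowers (c : G) ≤ Subgroup.zpowers z := Subgroup.zpowers_le.2 hcz
    have heq : Subgroup.zpowers (c : G) = Subgroup.zpowers z := by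
      refine Subgroup.eq_of_le_of_card_ge hle ?_
      rw [Nat.card_zpowers, Nat.card_zpowers, hz]
      rcases (Nat.dvd_prime hp).1 (hz ▸ Nat.card_zpowers z ▸ Subgroup.orderOf_dvd_natCard _ hcz) with h | h
      · exact absurd (orderOf_eq_one_iff.1 h) hc1'
      · exact h.ge
    intro y hy
    rw [← hC, Subgroup.mem_centralizer_singleton_iff]
    obtain ⟨i, hi⟩ : z ∈ Subgroup.zpowers (c : G) := heq ▸ Subgroup.mem_zpowers z
    rw [← hi]
    exact ((show Commute y (c : G) from hcP y hy).zpow_right i).eq
  have hP : Nat.card P = p := by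
    show Nat.card (P : Subgroup G) = p
    rw [← hzeq, Nat.card_zpowers, hz]
  have hCP : Subgroup.centralizer ((P : Subgroup G) : Set G) = (P : Subgroup G) := by
    refine le_antisymm ?_ ?_
    · refine le_trans (Subgroup.centralizer_le ?_) (hC.trans hzeq).le
      exact Set.singleton_subset_iff.2 (hzP (Subgroup.mem_zpowers z))
    · haveI := Fintype.ofFinite G
      haveI := DefectOneSign7.isMulCommutative_of_card P hP
      exact Subgroup.le_centralizer (P : Subgroup G)
  have hmod := card_sylow_modEq_one p G
  obtain ⟨m, hm⟩ : ∃ m, Nat.card (Sylow p G) = 1 + m * p :=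
    ⟨Nat.card (Sylow p G) / p, by
      have h1 : Nat.card (Sylow p G) % p = 1 := Eq.trans (show Nat.card (Sylow p G) % p = 1 % p from hmod) (Nat.mod_eq_of_lt hp.one_lt)
      have h2 := Nat.mod_add_div (Nat.card (Sylow p G)) p
      rw [h1] at h2
      rw [mul_comm]; exact h2.symm⟩
  refine BrauerReynolds7.recognize hperf P hP hCP hm ?_
  by_contra hc
  push Not at hc
  rw [hm] at hn
  have h3 : (p + 3) * p ≤ 2 * m * p := Nat.mul_le_mul_right p (by omega)
  nlinarith

end Cfsg.Agent.S0996
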