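import Cfsg.Statements.S1002
import Cfsg.Agent.Lib.SimpleStarKill

set_option autoImplicit false
open Cfsg

namespace Cfsg.Agent.S1002

/-- No finite simple group has order 1004913 = 3^3 * 7 * 13 * 409. -/
theorem result {G : Type*} [Group G] [Finite G] [IsSimpleGroup G] : Nat.card G ≠ 1004913 := by
  intro hn
  have hG : ¬ IsMulCommutative G := SimpleOrder.not_comm_of_not_prime (hn ▸ (by norm_num))
  exact SimpleStarKill.card_ne hG (p := 409) (e := 3) (d := 819) (by norm_num) (by norm_num)
    (by norm_num) (by norm_num) (by norm_num) (by decide +kernel) (by norm_num)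
    (by decide +kernel) hn

end Cfsg.Agent.S1002
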