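import Cfsg.Statements.S1004
import Cfsg.Agent.Lib.Simple168Four

set_option autoImplicit false
open Cfsg

namespace Cfsg.Agent.S1004

/-- Let G be a simple group of order 168 and T a Sylow 2-subgroup. Then T is dihedral of order 8, T is its own normalizer, and T is the centralizer of any non-identity element of T that commutes with every element of T. -/
theorem result {G : Type*} [Group G] [Finite G] [IsSimpleGroup G] (h : Nat.card G = 168) (T : Sylow 2 G) : Nonempty (↥(T : Subgroup G) ≃* DihedralGroup 4) ∧ Subgroup.normalizer ((T : Subgroup G) : Set G) = T ∧ ∀ z : G, z ∈ (T : Subgroup G) → z ≠ 1 → (∀ t ∈ (T : Subgroup G), t * z = z * t) → Subgroup.centralizer ({z} : Set G) = T := by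
  have : Fact (Nat.Prime 2) := ⟨by norm_num⟩
  refine ⟨?_, Simple168.normalizer_sylow_two h T, fun z hzT hz1 hc => ?_⟩
  · obtain ⟨x, y, hxT, hyT, hx, hyx, hy, hC⟩ := Simple168.exists_dihedral_gens h T
    have hy1 : y ≠ 1 := fun e => hyx (e ▸ one_mem _)
    have h4 : orderOf y ∣ 8 := by
      have := orderOf_dvd_natCard (⟨y, hyT⟩ : ↥(T : Subgroup G))
      rwa [Simple168.card_sylow_two_subgroup h T, ← Subgroup.orderOf_coe] at this
    have hy2 : orderOf y = 2 := by
      rcases Simple168.orderOf_cases h y with e | e | e | e | e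
      · exact absurd (orderOf_eq_one_iff.1 e) hy1
      · exact e
      · rw [e] at h4; norm_num at h4
      · exfalso
        have hys : y ^ 2 = x ^ 2 := by
          have hyy : orderOf (y ^ 2) = 2 := by rw [orderOf_pow' _ (by norm_num), e]; norm_num
          have hx2 : orderOf (x ^ 2) = 2 := by rw [orderOf_pow' _ (by norm_num), hx]; norm_num
          have hX : Nat.card ↥(Subgroup.zpowers x) = 4 := by rw [Nat.card_zpowers, hx]
          have hidx : ((Subgroup.zpowers x).subgroupOf (T : Subgroup G)).index = 2 := by
            have hm := ((Subgroup.zpowers x).subgroupOf (T : Subgroup G)).card_mul_index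
            rw [Nat.card_congr (Subgroup.subgroupOfEquivOfLe (Subgroup.zpowers_le.2 hxT)).toEquiv,
              hX, Simple168.card_sylow_two_subgroup h T] at hm
            omega
          have hm := Subgroup.sq_mem_of_index_two hidx (⟨y, hyT⟩ : ↥(T : Subgroup G))
          obtain ⟨j, hj⟩ := Subgroup.mem_zpowers_iff.1
            (show y ^ 2 ∈ Subgroup.zpowers x by simpa [Subgroup.mem_subgroupOf] using hm)
          rw [← hj, ← zpow_mod_orderOf, hx] at hyy ⊢
          have h0 : 0 ≤ j % (4 : ℕ) := Int.emod_nonneg _ (by norm_num)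
          have h3 : j % (4 : ℕ) < 4 := Int.emod_lt_of_pos _ (by norm_num)
          generalize j % (4 : ℕ) = k at h0 h3 hyy
          interval_cases k
          · simp at hyy
          · rw [zpow_one, hx] at hyy; norm_num at hyy
          · exact zpow_ofNat x 2
          · rw [zpow_ofNat, (show Nat.Coprime (orderOf x) 3 by rw [hx]; norm_num).orderOf_pow, hx]
              at hyy
            norm_num at hyy
        exact hyx (Simple168Four.mem_zpowers_of_orderOf_four h T hx hC e hys)
      · rw [e] at h4; norm_num at h4
    have hyy : y * y = 1 := by rw [← sq, ← hy2, pow_orderOf_eq_one]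
    have hinv : y⁻¹ = y := inv_eq_of_mul_eq_one_right hyy
    rw [hinv] at hy
    refine SmallGroupBasic.nonempty_dihedral_equiv (n := 4) ?_ (x := ⟨x, hxT⟩) (y := ⟨y, hyT⟩)
      (by rw [← Subgroup.orderOf_coe]; exact hx) (Subtype.ext hyy) (Subtype.ext hy) ?_
    · rw [Simple168.card_sylow_two_subgroup h T]
    · rintro ⟨j, hj⟩
      exact hyx ⟨j, by simpa using congrArg Subtype.val hj⟩
  · refine Simple168.centralizer_eq_sylow h ?_ T hzT hc
    exact Simple168Four.orderOf_central h T hzT hz1 hc

end Cfsg.Agent.S1004
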