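import Cfsg.Statements.S1009
import Mathlib
-- import your own Cfsg.Agent.* helpers here

set_option autoImplicit false
open Cfsg

namespace Cfsg.Agent.S1009

/-- Brodkey's Theorem: if a finite group has abelian Sylow p-subgroups, then there are two Sylow p-subgroups whose intersection equals the intersection of all Sylow p-subgroups. -/
theorem result {G : Type*} [Group G] [Finite G] (p : ℕ) [Fact p.Prime] (hab : ∀ P : Sylow p G, IsMulCommutative ↥(P : Subgroup G)) : ∃ P Q : Sylow p G, (P : Subgroup G) ⊓ (Q : Subgroup G) = ⨅ R : Sylow p G, (R : Subgroup G) := by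
  obtain ⟨⟨P, Q⟩, hmin⟩ := Finite.exists_min (fun z : Sylow p G × Sylow p G =>
    Nat.card ↥((z.1 : Subgroup G) ⊓ (z.2 : Subgroup G)))
  refine ⟨P, Q, le_antisymm (le_iInf fun R => ?_) (le_inf (iInf_le _ P) (iInf_le _ Q))⟩
  set D := (P : Subgroup G) ⊓ (Q : Subgroup G) with hD
  set N := Subgroup.centralizer (D : Set G) with hN
  have hab' : ∀ S : Sylow p G, D ≤ (S : Subgroup G) → (S : Subgroup G) ≤ N := by
    intro S hS x hx d hd
    have := hab S
    exact congrArg Subtype.val
      (IsMulCommutative.is_comm.comm (⟨d, hS hd⟩ : (S : Subgroup G)) ⟨x, hx⟩)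
  have hPN := hab' P inf_le_left
  let P' : Sylow p N := P.subtype hPN
  obtain ⟨S', hS'⟩ := (IsPGroup.comap_subtype (K := N) R.2).exists_le_sylow
  obtain ⟨n, rfl⟩ := MulAction.exists_smul_eq N P' S'
  have hPn : (R : Subgroup G) ⊓ N ≤ (((n : G) • P : Sylow p G) : Subgroup G) := by
    intro x hx
    have := hS' (show (⟨x, hx.2⟩ : N) ∈ Subgroup.comap N.subtype R from hx.1)
    rw [Sylow.smul_subtype hPN] at this
    exact this
  have hQn : (((n : G) • Q : Sylow p G) : Subgroup G) ≤ N := Sylow.smul_le (hab' Q inf_le_right) n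
  have hDn : ∀ x, x ∈ (((n : G) • P : Sylow p G) : Subgroup G) →
      x ∈ (((n : G) • Q : Sylow p G) : Subgroup G) → x ∈ D := by
    intro x h1 h2
    rw [Sylow.coe_subgroup_smul, Subgroup.mem_pointwise_smul_iff_inv_smul_mem] at h1 h2
    have hd : (MulAut.conj (n : G))⁻¹ • x ∈ D := ⟨h1, h2⟩
    simp only [MulAut.smul_def, MulAut.conj_inv_apply] at hd
    have hc : _ * (n : G) = (n : G) * _ := n.2 _ hd
    have hx : x = (n : G)⁻¹ * x * (n : G) := by
      calc x = (n : G) * ((n : G)⁻¹ * x * (n : G)) * (n : G)⁻¹ := by group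
        _ = ((n : G)⁻¹ * x * (n : G)) * (n : G) * (n : G)⁻¹ := by rw [hc]
        _ = _ := by group
    rwa [hx]
  have hle : (R : Subgroup G) ⊓ (((n : G) • Q : Sylow p G) : Subgroup G) ≤ D :=
    fun x hx => hDn x (hPn ⟨hx.1, hQn hx.2⟩) hx.2
  rw [← Subgroup.eq_of_le_of_card_ge hle (hmin (R, (n : G) • Q))]
  exact inf_le_left

end Cfsg.Agent.S1009
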