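import Cfsg.Statements.S1013
import Mathlib
-- import your own Cfsg.Agent.* helpers here

set_option autoImplicit false
open Cfsg

namespace Cfsg.Agent.S1013

/-- Let G be a transitive permutation group of prime degree p having more than one Sylow p-subgroup, and suppose a Sylow p-subgroup P has prime index in its normalizer. Then G is simple. -/
theorem result {α : Type*} [Fintype α] [DecidableEq α] {p : ℕ} [Fact p.Prime] (hα : Fintype.card α = p) (G : Subgroup (Equiv.Perm α)) [MulAction.IsPretransitive ↥G α] (P : Sylow p ↥G) (hn : 1 < Nat.card (Sylow p ↥G)) (ht : (((P : Subgroup ↥G).subgroupOf (Subgroup.normalizer ((P : Subgroup ↥G) : Set ↥G))).index).Prime) : IsSimpleGroup ↥G := by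
  classical
  have hpP : p.Prime := Fact.out
  have hfac : ¬ p ^ 2 ∣ Nat.card G := by
    intro hd
    have := hd.trans (Subgroup.card_subgroup_dvd_card G)
    have hf : (Nat.factorial p).factorization p = 1 := by
      simpa using Nat.factorization_factorial_mul (n := 1) hpP
    rw [Nat.card_perm, Nat.card_eq_fintype_card, hα,
      hpP.pow_dvd_iff_le_factorization (Nat.factorial_ne_zero p), hf] at this
    omega
  have hne : Nonempty α := Fintype.card_pos_iff.mp (hα ▸ hpP.pos)
  have hpG : p ∣ Nat.card G := by
    obtain ⟨a⟩ := hne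
    have h := MulAction.index_stabilizer_of_transitive G a
    rw [← hα, ← Nat.card_eq_fintype_card, ← h]
    exact Subgroup.index_dvd_card _
  have hcardP : ∀ Q : Sylow p G, Nat.card (Q : Subgroup G) = p := by
    intro Q
    obtain ⟨n, hn⟩ := Q.2.exists_card_eq
    have h1 := Q.dvd_card_of_dvd_card hpG
    have h2 : p ^ n ∣ Nat.card G := hn ▸ Subgroup.card_subgroup_dvd_card _
    rcases n with _ | _ | n
    · rw [hn, pow_zero] at h1; exact absurd h1 hpP.not_dvd_one
    · simpa using hn
    · exact absurd ((Nat.pow_dvd_pow p (by omega)).trans h2) hfac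
  have : Nontrivial G := by
    rw [← Finite.one_lt_card_iff_nontrivial]
    exact lt_of_lt_of_le hpP.one_lt (Nat.le_of_dvd Nat.card_pos hpG)
  have hprim : MulAction.IsPreprimitive G α :=
    MulAction.IsPreprimitive.of_prime_card (by rw [Nat.card_eq_fintype_card, hα]; exact hpP)
  have hdvd : ∀ K : Subgroup G, K.Normal → K ≠ ⊥ → p ∣ Nat.card K := by
    intro K hK hK0
    have hfix : MulAction.fixedPoints K α ≠ Set.univ := by
      intro hu
      apply hK0
      rw [eq_bot_iff]
      intro k hk
      rw [Subgroup.mem_bot]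
      ext a
      have ha : a ∈ MulAction.fixedPoints K α := hu ▸ Set.mem_univ a
      exact ha ⟨k, hk⟩
    have htr : MulAction.IsPretransitive K α :=
      MulAction.IsQuasiPreprimitive.isPretransitive_of_normal hfix
    obtain ⟨a⟩ := hne
    have h := MulAction.index_stabilizer_of_transitive K a
    rw [← hα, ← Nat.card_eq_fintype_card, ← h]
    exact Subgroup.index_dvd_card _
  refine { eq_bot_or_eq_top_of_normal := fun K hK => ?_ }
  by_cases hK0 : K = ⊥
  · exact Or.inl hK0
  right
  have hPK : (P : Subgroup G) ≤ K := by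
    obtain ⟨Q⟩ := (Sylow.nonempty : Nonempty (Sylow p K))
    obtain ⟨R, hR⟩ := (Q.2.map K.subtype).exists_le_sylow
    have hQcard : p ∣ Nat.card ((Q : Subgroup K).map K.subtype) := by
      rw [Subgroup.card_map_of_injective K.subtype_injective]
      exact Q.dvd_card_of_dvd_card (hdvd K hK hK0)
    have hRK : (R : Subgroup G) ≤ K := by
      rw [← Subgroup.eq_of_le_of_card_ge hR
        (by rw [hcardP R]; exact Nat.le_of_dvd Nat.card_pos hQcard)]
      exact Subgroup.map_subtype_le _
    obtain ⟨g, rfl⟩ := MulAction.exists_smul_eq G R P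
    intro x hx
    rw [Sylow.coe_subgroup_smul] at hx
    obtain ⟨r, hr, rfl⟩ := (Subgroup.mem_smul_pointwise_iff_exists _ _ _).mp hx
    exact hK.conj_mem r (hRK hr) g
  set N := Subgroup.normalizer ((P : Subgroup G) : Set G) with hN
  have htop : N ⊔ K = ⊤ := Sylow.normalizer_sup_eq_top' P hPK
  have hle : (P : Subgroup G) ≤ N ⊓ K := le_inf P.le_normalizer hPK
  have hmul : (P : Subgroup G).relIndex (N ⊓ K) * (N ⊓ K).relIndex N =
      (P : Subgroup G).relIndex N := Subgroup.relIndex_mul_relIndex _ _ _ hle inf_le_left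
  have ht' : Nat.Prime ((P : Subgroup G).relIndex (N ⊓ K) * (N ⊓ K).relIndex N) := by
    rw [hmul]; exact ht
  rcases Nat.prime_mul_iff.mp ht' with ⟨-, h1⟩ | ⟨-, h1⟩
  · have := Subgroup.relIndex_eq_one.mp h1
    rw [← htop, sup_eq_right.mpr (this.trans inf_le_right)]
  · exfalso
    have hNK : N ⊓ K ≤ (P : Subgroup G) := Subgroup.relIndex_eq_one.mp h1
    let P' : Sylow p K := P.subtype hPK
    have hB : Subgroup.normalizer ((P' : Subgroup K) : Set K) ≤
        Subgroup.centralizer ((P' : Subgroup K) : Set K) := by
      intro x hx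
      have hxN : (x : G) ∈ N := by
        rw [hN, Subgroup.mem_normalizer_iff]
        rw [Subgroup.mem_normalizer_iff] at hx
        intro y
        constructor
        · intro hy; exact (hx ⟨y, hPK hy⟩).mp hy
        · intro hy
          have hyK : y ∈ K := by
            simpa [mul_assoc] using K.mul_mem (K.mul_mem (K.inv_mem x.2) (hPK hy)) x.2
          exact (hx ⟨y, hyK⟩).mpr hy
      have hxP : (x : G) ∈ (P : Subgroup G) := hNK ⟨hxN, x.2⟩
      have hc : IsCyclic (P : Subgroup G) := isCyclic_of_prime_card (hcardP P)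
      have := hc.isMulCommutative
      intro y hy
      exact Subtype.ext (congrArg Subtype.val
        (IsMulCommutative.is_comm.comm (⟨y.1, hy⟩ : (P : Subgroup G)) ⟨x.1, hxP⟩) :)
    have hcompl := MonoidHom.ker_transferSylow_isComplement' P' hB
    set L := (MonoidHom.transferSylow P' hB).ker with hL
    have hLp : ¬ p ∣ Nat.card L := MonoidHom.not_dvd_card_ker_transferSylow P' hB
    have hLset : ∀ x : K, x ∈ L ↔ ¬ p ∣ orderOf x := by
      intro x
      constructor
      · intro hx hd
        exact hLp (hd.trans (Subgroup.orderOf_dvd_natCard L hx))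
      · intro hx
        rw [hL, MonoidHom.mem_ker, ← orderOf_eq_one_iff]
        apply Nat.eq_one_of_dvd_coprimes ((hpP.coprime_iff_not_dvd.mpr hx).symm)
          (orderOf_map_dvd _ x)
        have := orderOf_dvd_natCard ((MonoidHom.transferSylow P' hB) x)
        rwa [show Nat.card (P' : Subgroup K) = p from
          (Nat.card_congr (Subgroup.subgroupOfEquivOfLe hPK).toEquiv).trans (hcardP P)] at this
    have hLn : (L.map K.subtype).Normal := by
      refine ⟨fun a ha b => ?_⟩
      obtain ⟨a, haL, rfl⟩ := ha
      refine ⟨⟨b * a.1 * b⁻¹, hK.conj_mem _ a.2 b⟩, ?_, rfl⟩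
      rw [SetLike.mem_coe, hLset] at haL ⊢
      rw [← Subgroup.orderOf_coe] at haL ⊢
      exact fun hd => haL (hd.trans ((MulAut.conj b).orderOf_eq (a : G)).dvd)
    by_cases hL0 : L = ⊥
    · rw [hL0, Subgroup.isComplement'_bot_left] at hcompl
      have hKP : K = (P : Subgroup G) := by
        refine le_antisymm (fun k hk => ?_) hPK
        have : (⟨k, hk⟩ : K) ∈ (P' : Subgroup K) := hcompl ▸ Subgroup.mem_top _
        exact this
      rw [hKP] at hK
      have := Sylow.unique_of_normal P hK
      rw [Nat.card_unique] at hn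
      omega
    · apply hLp
      have := hdvd _ hLn (by rwa [Ne, Subgroup.map_eq_bot_iff_of_injective _ K.subtype_injective])
      rwa [Subgroup.card_map_of_injective K.subtype_injective] at this

end Cfsg.Agent.S1013
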