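import Mathlib
import Cfsg.Agent.Lib.OrderExclusion71
import Cfsg.Agent.Lib.SmallGroupBasic
import Cfsg.Agent.S1018
import Cfsg.Agent.S1019
import Cfsg.Statements.S1016
-- import your own Cfsg.Agent.* helpers here

set_option autoImplicit false
open Cfsg

namespace Cfsg.Agent.S1016

open scoped Classical in
/-- An involution with `6` fixed points among `36` is an odd permutation. -/
theorem sign_of_six {α : Type*} [Fintype α] (σ : Equiv.Perm α) (h2 : orderOf σ = 2)
    (hcard : Nat.card α = 36) (hfix : Nat.card {x : α // σ x = x} = 6) :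
    Equiv.Perm.sign σ = -1 := by
  obtain ⟨k, hk⟩ := Equiv.Perm.cycleType_prime_order (h2.symm ▸ Nat.prime_two)
  rw [h2] at hk
  have hs := σ.sum_cycleType
  rw [hk, Multiset.sum_replicate, smul_eq_mul] at hs
  have hsup : σ.support.card = 30 := by
    have h1 : (Finset.univ.filter fun x => σ x = x).card = 6 := by
      rw [← hfix, Nat.card_eq_fintype_card, Fintype.card_subtype]
    have h2' := Finset.card_filter_add_card_filter_not (s := (Finset.univ : Finset α)) (fun x => σ x = x)
    rw [h1, Finset.card_univ, ← Nat.card_eq_fintype_card, hcard] at h2'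
    have h3 : σ.support = Finset.univ.filter fun x => ¬ σ x = x := by
      ext x; simp
    rw [h3]
    omega
  rw [Equiv.Perm.sign_of_cycleType, hk, Multiset.sum_replicate, Multiset.card_replicate, smul_eq_mul,
    show k + 1 = 15 by omega]
  decide +kernel

/-- In the case of 36 Sylow 5-subgroups the involution centralising one of them acts oddly. -/
theorem false_of_36 {G : Type*} [Group G] [Finite G] [IsSimpleGroup G] (hG : ¬ IsMulCommutative G)
    [Fact (Nat.Prime 5)] (hn : Nat.card G = 1440) (P : Sylow 5 G)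
    (hP : Nat.card (P : Subgroup G) = 5)
    (hN : Nat.card (Subgroup.normalizer ((P : Subgroup G) : Set G)) = 40)
    (hC : Nat.card (Subgroup.centralizer ((P : Subgroup G) : Set G)) = 10) : False := by
  classical
  haveI : Fact (Nat.Prime 2) := ⟨Nat.prime_two⟩
  set N := Subgroup.normalizer ((P : Subgroup G) : Set G) with hNd
  set C := Subgroup.centralizer ((P : Subgroup G) : Set G) with hCd
  have hCN : C ≤ N := Subgroup.centralizer_le_normalizer _
  have hPC : (P : Subgroup G) ≤ C := by
    intro a ha
    haveI : IsCyclic (P : Subgroup G) := isCyclic_of_prime_card hP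
    rw [hCd, Subgroup.mem_centralizer_iff]
    intro b hb
    exact congrArg Subtype.val (IsCyclic.isMulCommutative.is_comm.comm
      (⟨b, hb⟩ : (P : Subgroup G)) ⟨a, ha⟩)
  obtain ⟨z', hz'⟩ := exists_prime_orderOf_dvd_card' 2 (G := C) (by rw [hC]; norm_num)
  set z : G := (z' : G) with hz
  have hzo : orderOf z = 2 := by rw [hz, Subgroup.orderOf_coe, hz']
  have hz2 : z * z = 1 := by rw [← pow_two, ← hzo]; exact pow_orderOf_eq_one z
  obtain ⟨g', hg'⟩ := exists_prime_orderOf_dvd_card' 5 (G := (P : Subgroup G)) (by rw [hP])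
  set g : G := (g' : G) with hgd
  have hgo : orderOf g = 5 := by rw [hgd, Subgroup.orderOf_coe, hg']
  have hgC : g ∈ C := hPC g'.2
  have hzg : z * g = g * z := (Subgroup.mem_centralizer_iff.1 z'.2 g g'.2).symm
  -- `C` is cyclic of order 10, so `z` is its only involution
  haveI : Fintype C := Fintype.ofFinite _
  haveI hcyc : IsCyclic C := by
    refine isCyclic_of_orderOf_eq_card ⟨z * g, C.mul_mem z'.2 hgC⟩ ?_
    rw [← Subgroup.orderOf_coe, hC, Commute.orderOf_mul_eq_mul_orderOf_of_coprime (show Commute z g from hzg)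
      (by rw [hzo, hgo]; norm_num), hzo, hgo]
  have huniq : ∀ u ∈ C, orderOf u = 2 → u = z := by
    intro u hu huo
    have h1 := IsCyclic.card_orderOf_eq_totient (α := C) (d := 2) (by rw [← Nat.card_eq_fintype_card, hC]; norm_num)
    rw [show Nat.totient 2 = 1 by decide, Finset.card_eq_one] at h1
    obtain ⟨w, hw⟩ := h1
    have e1 : (⟨u, hu⟩ : C) ∈ ({w} : Finset C) := hw ▸ Finset.mem_filter.2
      ⟨Finset.mem_univ _, by rw [← Subgroup.orderOf_coe]; exact huo⟩
    have e2 : (z' : C) ∈ ({w} : Finset C) := hw ▸ Finset.mem_filter.2 ⟨Finset.mem_univ _, hz'⟩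
    rw [Finset.mem_singleton] at e1 e2
    rw [hz, e2, ← e1]
  have hconjC : ∀ n ∈ N, ∀ u ∈ C, n * u * n⁻¹ ∈ C := by
    intro n hn u hu
    rw [hCd, Subgroup.mem_centralizer_iff]
    intro a ha
    have ha' : n⁻¹ * a * n ∈ (P : Subgroup G) := by
      simpa using (Subgroup.mem_normalizer_iff.1 (N.inv_mem hn) a).1 ha
    have h2 := Subgroup.mem_centralizer_iff.1 hu _ ha'
    calc a * (n * u * n⁻¹) = n * ((n⁻¹ * a * n) * u) * n⁻¹ := by group
      _ = n * (u * (n⁻¹ * a * n)) * n⁻¹ := by rw [h2]
      _ = n * u * n⁻¹ * a := by group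
  have hNz : N ≤ Subgroup.centralizer ({z} : Set G) := by
    intro n hn
    rw [Subgroup.mem_centralizer_singleton_iff]
    have h2 : orderOf (n * z * n⁻¹) = 2 := by
      rw [show n * z * n⁻¹ = (MulAut.conj n).toMonoidHom z by simp,
        orderOf_injective _ (MulAut.conj n).injective, hzo]
    have := huniq _ (hconjC n hn z z'.2) h2
    conv_rhs => rw [← this]
    group
  -- `N` is the whole centraliser of `z`
  set Z := Subgroup.centralizer ({z} : Set G) with hZ
  have hPZ : (P : Subgroup G) ≤ Z := Subgroup.le_normalizer.trans hNz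
  have hZN : Z = N := by
    have h1 := OrderExclusion71.relIndex_normalizer_modEq P hPZ
    rw [← hNd] at h1
    have h2 : Nat.card (N.subgroupOf Z) * N.relIndex Z = Nat.card Z := (N.subgroupOf Z).card_mul_index
    rw [Nat.card_congr (Subgroup.subgroupOfEquivOfLe hNz).toEquiv, hN] at h2
    have h3 := Z.card_mul_index
    rw [← h2, hn] at h3
    have hZt : Z ≠ ⊤ := by
      intro h
      have hc : z ∈ Subgroup.center G := by
        rw [Subgroup.mem_center_iff]
        intro y
        exact (Subgroup.mem_centralizer_singleton_iff.1 (h ▸ Subgroup.mem_top y : y ∈ Z))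
      rcases SimpleOrder.eq_bot_or_top (inferInstance : (Subgroup.center G).Normal) with h' | h'
      · rw [h', Subgroup.mem_bot] at hc; rw [hc, orderOf_one] at hzo; norm_num at hzo
      · exact hG ⟨⟨fun a b => Subgroup.mem_center_iff.1 (h' ▸ Subgroup.mem_top b) a⟩⟩
    have h4 := SimpleOrder.two_mul_card_dvd_factorial_index hG Z hZt
    rw [hn] at h4
    have h5 : N.relIndex Z * Z.index = 36 := by
      rw [mul_assoc] at h3
      omega
    have h6 : ∀ r ∈ Nat.divisors 36, r % 5 = 1 → r = 1 ∨ ¬ 2 * 1440 ∣ (36 / r).factorial := by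
      decide +kernel
    have h7 : Z.index = 36 / N.relIndex Z := by
      rw [← h5, Nat.mul_div_cancel_left _ (Nat.pos_of_ne_zero fun h => by simp [h] at h5)]
    rcases h6 _ (Nat.mem_divisors.2 ⟨Dvd.intro _ h5, by norm_num⟩) h1 with h | h
    · exact le_antisymm (Subgroup.relIndex_eq_one.1 h) hNz
    · exact absurd (h7 ▸ h4) h
  have hi : N.index = 36 := by
    have := N.card_mul_index
    rw [hN, hn] at this
    omega
  -- the conjugates of `z` in `N`
  have hcl : Nat.card {y : G // IsConj z y} = 36 := by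
    rw [SmallGroupBasic.card_isConj_eq_index, ← hZ, hZN, hi]
  have hfix := S1019.result N z (hCN z'.2)
  rw [hcl, hi, mul_comm 36 (Nat.card {y : G // IsConj z y ∧ y ∈ N})] at hfix
  have hf := Nat.eq_of_mul_eq_mul_right (by norm_num : 0 < 36) hfix
  -- the fixed points
  haveI : Fintype (G ⧸ N) := Fintype.ofFinite _
  set φ : G →* Equiv.Perm (G ⧸ N) := MulAction.toPermHom G (G ⧸ N) with hφ
  have hsub : ({q : G ⧸ N // φ z q = q}) = ↥(MulAction.fixedBy (G ⧸ N) z) := rfl
  set f := Nat.card (MulAction.fixedBy (G ⧸ N) z) with hfd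
  -- parity
  have hpar : f % 2 = 0 := by
    have hp2 : IsPGroup 2 (Subgroup.zpowers z) :=
      IsPGroup.of_card (n := 1) (by rw [Nat.card_zpowers, hzo, pow_one])
    have h1 := hp2.card_modEq_card_fixedPoints (G ⧸ N)
    rw [← Subgroup.index_eq_card, hi] at h1
    have h2 : Nat.card (MulAction.fixedPoints (Subgroup.zpowers z) (G ⧸ N)) = f := by
      refine Nat.card_congr (Equiv.subtypeEquivRight fun q => ?_)
      constructor
      · exact fun h => h ⟨z, Subgroup.mem_zpowers z⟩
      · intro h m
        obtain ⟨j, hj⟩ := m.2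
        show (m : G) • q = q
        rw [← hj]
        exact (Subgroup.zpowers_le.2 (show z ∈ MulAction.stabilizer G q from h)) ⟨j, rfl⟩
    rw [h2] at h1
    have : f % 2 = 36 % 2 := h1.symm
    omega
  -- the orbits of `P`
  let W : Set G := {y | IsConj z y ∧ y ∈ N ∧ y ≠ z}
  have hWo : ∀ y ∈ W, orderOf y = 2 := by
    rintro y ⟨hy, -, -⟩
    obtain ⟨c, rfl⟩ := isConj_iff.1 hy
    rw [show c * z * c⁻¹ = (MulAut.conj c).toMonoidHom z by simp,
      orderOf_injective _ (MulAut.conj c).injective, hzo]
  have hWC : ∀ y ∈ W, y ∉ C := fun y hy hyC => hy.2.2 (huniq y hyC (hWo y hy))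
  -- any two of them differ by an element of `C`
  have hWcoset : ∀ y ∈ W, ∀ y' ∈ W, y' * y ∈ C := by
    intro y hy y' hy'
    haveI hcP : IsCyclic (P : Subgroup G) := isCyclic_of_prime_card hP
    let ψ : N →* MulAut (P : Subgroup G) := (P : Subgroup G).normalizerMonoidHom
    haveI : IsCyclic (MulAut (P : Subgroup G)) :=
      (IsCyclic.mulAutMulEquiv (P : Subgroup G)).isCyclic.2 (by rw [hP]; infer_instance)
    have hker : ∀ u : N, ψ u = 1 ↔ (u : G) ∈ C := by
      intro u
      rw [← MonoidHom.mem_ker, Subgroup.normalizerMonoidHom_ker]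
      rfl
    have ho : ∀ w, (hw : w ∈ W) → orderOf (ψ ⟨w, hw.2.1⟩) = 2 := by
      intro w hw
      have h1 : orderOf (ψ ⟨w, hw.2.1⟩) ∣ 2 := by
        refine (orderOf_map_dvd ψ _).trans ?_
        rw [← Subgroup.orderOf_coe]
        exact (hWo w hw).dvd
      rcases (Nat.dvd_prime Nat.prime_two).1 h1 with h | h
      · rw [orderOf_eq_one_iff, hker] at h
        exact absurd h (hWC w hw)
      · exact h
    haveI : Fintype (MulAut (P : Subgroup G)) := Fintype.ofFinite _
    have h1 := IsCyclic.card_orderOf_eq_totient (α := MulAut (P : Subgroup G)) (d := 2)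
      (by rw [← ho y hy]; exact orderOf_dvd_card)
    rw [show Nat.totient 2 = 1 by decide, Finset.card_eq_one] at h1
    obtain ⟨w, hw⟩ := h1
    have e1 : ψ ⟨y, hy.2.1⟩ ∈ ({w} : Finset _) := hw ▸ Finset.mem_filter.2 ⟨Finset.mem_univ _, ho y hy⟩
    have e2 : ψ ⟨y', hy'.2.1⟩ ∈ ({w} : Finset _) := hw ▸ Finset.mem_filter.2 ⟨Finset.mem_univ _, ho y' hy'⟩
    rw [Finset.mem_singleton] at e1 e2
    refine (hker ⟨y' * y, N.mul_mem hy'.2.1 hy.2.1⟩).1 ?_
    show ψ (⟨y', hy'.2.1⟩ * ⟨y, hy.2.1⟩) = 1
    rw [map_mul, e2, e1, ← pow_two, ← ho y hy, e1]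
    exact pow_orderOf_eq_one w
  -- `P` permutes `W` without fixed points
  have hWinv : ∀ n ∈ N, ∀ y ∈ W, n * y * n⁻¹ ∈ W := by
    rintro n hn y ⟨hy, hyN, hyz⟩
    refine ⟨hy.trans (isConj_iff.2 ⟨n, rfl⟩), N.mul_mem (N.mul_mem hn hyN) (N.inv_mem hn), fun h => hyz ?_⟩
    have h' := Subgroup.mem_centralizer_singleton_iff.1 (hNz hn)
    calc y = n⁻¹ * (n * y * n⁻¹) * n := by group
      _ = n⁻¹ * (z * n) := by rw [h, mul_assoc]
      _ = n⁻¹ * (n * z) := by rw [h']
      _ = z := by group
  letI act : MulAction (P : Subgroup G) W :=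
    { smul := fun n y => ⟨(n : G) * y * (n : G)⁻¹, hWinv _ (Subgroup.le_normalizer n.2) _ y.2⟩
      one_smul := fun y => Subtype.ext (by show (1 : G) * y * (1 : G)⁻¹ = y; group)
      mul_smul := fun a b y => Subtype.ext (by
        show ((a * b : (P : Subgroup G)) : G) * y * ((a * b : (P : Subgroup G)) : G)⁻¹ = _
        push_cast
        show _ = (a : G) * ((b : G) * y * (b : G)⁻¹) * (a : G)⁻¹
        group) }
  have h5 : Nat.card W % 5 = 0 := by
    have h1 := P.2.card_modEq_card_fixedPoints W
    have h2 : Nat.card (MulAction.fixedPoints (P : Subgroup G) W) = 0 := by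
      rw [Nat.card_eq_zero]
      refine Or.inl ⟨fun y => hWC _ y.1.2 ?_⟩
      rw [hCd, Subgroup.mem_centralizer_iff]
      intro a ha
      have h3 : a * (y.1 : G) * a⁻¹ = y.1 := congrArg Subtype.val (y.2 ⟨a, ha⟩)
      calc a * (y.1 : G) = a * (y.1 : G) * a⁻¹ * a := by group
        _ = (y.1 : G) * a := by rw [h3]
    rw [h2] at h1
    exact h1
  have h10 : Nat.card W ≤ 10 := by
    rcases isEmpty_or_nonempty W with h | h
    · simp
    obtain ⟨y0⟩ := h
    refine (Nat.card_le_card_of_injective (fun y : W => (⟨(y : G) * y0, hWcoset _ y0.2 _ y.2⟩ : C))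
      fun a b h => Subtype.ext (mul_right_cancel (congrArg Subtype.val h))).trans hC.le
  have hsplit : Nat.card {y : G // IsConj z y ∧ y ∈ N} = Nat.card W + 1 := by
    have e : {y : G | IsConj z y ∧ y ∈ N} = insert z W := by
      ext y
      constructor
      · rintro ⟨h1, h2⟩
        rcases eq_or_ne y z with rfl | h3
        · exact Or.inl rfl
        · exact Or.inr ⟨h1, h2, h3⟩
      · rintro (rfl | ⟨h1, h2, -⟩)
        · exact ⟨IsConj.refl _, hCN z'.2⟩
        · exact ⟨h1, h2⟩
    have : Nat.card {y : G // IsConj z y ∧ y ∈ N} = ({y : G | IsConj z y ∧ y ∈ N}).ncard :=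
      Nat.card_coe_set_eq {y : G | IsConj z y ∧ y ∈ N}
    rw [this, e, Set.ncard_insert_of_notMem (fun h => h.2.2 rfl), Nat.card_coe_set_eq]
  have hf6 : f = 6 := by omega
  have hord : orderOf (φ z) = 2 := by
    refine orderOf_eq_prime (by rw [← map_pow, pow_two, hz2, map_one]) fun h => ?_
    have : f = 36 := by
      rw [← hi, Subgroup.index_eq_card]
      refine Nat.card_congr (Equiv.subtypeUnivEquiv fun q => ?_)
      show φ z q = q
      rw [h]; rfl
    omega
  have hsgn := sign_of_six (φ z) hord (by rw [← Subgroup.index_eq_card, hi]) hf6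
  rcases SimpleOrder.eq_bot_or_top (MonoidHom.normal_ker (Equiv.Perm.sign.comp φ)) with h | h
  · exact hG ⟨⟨fun a b => (MonoidHom.ker_eq_bot_iff _).1 h (by rw [map_mul, map_mul, mul_comm])⟩⟩
  · have h1 : Equiv.Perm.sign (φ z) = 1 := MonoidHom.mem_ker.1 (h ▸ Subgroup.mem_top z :
      z ∈ (Equiv.Perm.sign.comp φ).ker)
    have h2 : (-1 : ℤˣ) = 1 := hsgn.symm.trans (by convert h1)
    exact absurd h2 (by decide)

/-- No finite simple group has order 1440 = 2^5 * 3^2 * 5. -/
theorem result {G : Type*} [Group G] [Finite G] [IsSimpleGroup G] : Nat.card G ≠ 1440 := by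
  intro hn
  have hG : ¬ IsMulCommutative G := SimpleOrder.not_comm_of_not_prime (hn ▸ (by norm_num))
  haveI : Fact (Nat.Prime 5) := ⟨by norm_num⟩
  obtain ⟨P⟩ : Nonempty (Sylow 5 G) := inferInstance
  have hP : Nat.card (P : Subgroup G) = 5 :=
    SimpleOrderCheck.sylow_card_of_once (by rw [hn]) (by rw [hn]; norm_num) P
  have hmem := SimpleOrderCheck.mem_cand hG (p := 5) (v := 1) (m := 288) one_pos
    (by rw [hn]; norm_num) (by norm_num)
  rw [hn] at hmem
  have hc : ∀ x ∈ SimpleOrderCheck.cand 1440 5 288, x = 16 ∨ x = 36 ∨ x = 96 := by decide +kernel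
  set N := Subgroup.normalizer ((P : Subgroup G) : Set G) with hN
  set C := Subgroup.centralizer ((P : Subgroup G) : Set G) with hC
  have hi : N.index = Nat.card (Sylow 5 G) := P.card_eq_index_normalizer.symm
  have hNc := N.card_mul_index
  rw [hn, hi] at hNc
  obtain ⟨e, he1, he4, he3, c, hcc⟩ := SimpleOrder.exists_card_normalizer_eq hG P hP
  rw [← hN, ← hC] at he3
  rw [← hC] at hcc
  have he : e = 2 ∨ e = 4 := by
    have h1 := Nat.le_of_dvd (by norm_num) he4
    interval_cases e <;> simp_all
  rcases hc _ hmem with h | h | h <;> rw [h] at hNc hi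
  · -- 16 Sylow 5-subgroups: the orbits of `P`
    have hC45 : Nat.card C = 45 := by
      rw [show Nat.card N = 90 by omega, hcc] at he3
      rcases he with rfl | rfl <;> omega
    haveI : Fintype (G ⧸ N) := Fintype.ofFinite _
    haveI : Fintype (P : Subgroup G) := Fintype.ofFinite _
    let Q := MulAction.orbitRel.Quotient (P : Subgroup G) (G ⧸ N)
    haveI : Fintype Q := Fintype.ofFinite _
    have hQ : Nat.card Q = 4 := by
      classical
      have h1 := MulAction.sum_card_fixedBy_eq_card_orbits_mul_card_group (P : Subgroup G) (G ⧸ N)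
      rw [← Finset.add_sum_erase _ _ (Finset.mem_univ (1 : (P : Subgroup G)))] at h1
      have h2 : ∀ a ∈ (Finset.univ.erase (1 : (P : Subgroup G))),
          Fintype.card (MulAction.fixedBy (G ⧸ N) a) = 1 := by
        intro a ha
        rw [← Nat.card_eq_fintype_card]
        refine (S1018.result 5 P hP).1 a ?_
        rw [Subgroup.orderOf_coe]
        have h3 : orderOf a ∣ 5 := by
          have := orderOf_dvd_natCard a
          rwa [hP] at this
        rcases (Nat.dvd_prime (by norm_num)).1 h3 with h4 | h4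
        · exact absurd (orderOf_eq_one_iff.1 h4) (Finset.mem_erase.1 ha).1
        · exact h4
      rw [Finset.sum_congr rfl h2, Finset.sum_const, Finset.card_erase_of_mem (Finset.mem_univ _),
        Finset.card_univ, smul_eq_mul, mul_one, ← Nat.card_eq_fintype_card, ← Nat.card_eq_fintype_card,
        ← Nat.card_eq_fintype_card, hP] at h1
      have h5 : Nat.card (MulAction.fixedBy (G ⧸ N) (1 : (P : Subgroup G))) = 16 := by
        rw [← hi, Subgroup.index_eq_card]
        exact Nat.card_congr (Equiv.subtypeUnivEquiv fun q => one_smul _ q)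
      rw [h5] at h1
      show Nat.card (MulAction.orbitRel.Quotient (P : Subgroup G) (G ⧸ N)) = 4
      unfold MulAction.orbitRel.Quotient; omega
    -- `C` permutes the orbits
    have hcomm : ∀ (u : C) (a : (P : Subgroup G)) (q : G ⧸ N),
        (u : G) • (a • q) = a • ((u : G) • q) := by
      intro u a q
      show (u : G) • ((a : G) • q) = (a : G) • ((u : G) • q)
      rw [← mul_smul, ← mul_smul, Subgroup.mem_centralizer_iff.1 u.2 a a.2]
    letI act : MulAction C Q :=
      { smul := fun u => Quotient.map' (fun q => (u : G) • q) (fun x y hxy => by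
          obtain ⟨a, ha⟩ := hxy
          have ha' : a • y = x := ha
          exact ⟨a, by show a • ((u : G) • y) = (u : G) • x; rw [← hcomm, ha']⟩)
        one_smul := fun x => Quotient.inductionOn' x fun q => congrArg Quotient.mk'' (one_smul G q)
        mul_smul := fun u v x => Quotient.inductionOn' x fun q =>
          congrArg Quotient.mk'' (mul_smul (u : G) (v : G) q) }
    let f : C →* Equiv.Perm Q := MulAction.toPermHom C Q
    have hrange : Nat.card f.range ∣ 24 := by
      refine (Subgroup.card_subgroup_dvd_card f.range).trans ?_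
      rw [Nat.card_perm, hQ]; rfl
    have hker : 3 ∣ Nat.card f.ker := by
      have h1 := f.ker.card_mul_index
      rw [Subgroup.index_ker, hC45] at h1
      have h2 : (3 : ℕ) ^ 2 ∣ Nat.card f.ker * Nat.card f.range := by rw [h1]; norm_num
      by_contra h3
      have h4 := (Nat.Coprime.pow_left 2 ((Nat.Prime.coprime_iff_not_dvd Nat.prime_three).2 h3)).dvd_of_dvd_mul_left h2
      exact absurd (h4.trans hrange) (by norm_num)
    haveI : Fact (Nat.Prime 3) := ⟨Nat.prime_three⟩
    obtain ⟨y, hy⟩ := exists_prime_orderOf_dvd_card' 3 hker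
    set u : G := ((y : C) : G) with hu
    have huo : orderOf u = 3 := by rw [hu, Subgroup.orderOf_coe, Subgroup.orderOf_coe, hy]
    -- `u` fixes every point
    have hfix : ∀ q : G ⧸ N, u • q = q := by
      intro q
      have h1 : f (y : C) (Quotient.mk'' q : Q) = (Quotient.mk'' q : Q) := by
        rw [MonoidHom.mem_ker.1 y.2]; rfl
      obtain ⟨a, ha⟩ := Quotient.exact' h1
      have ha' : a • q = u • q := ha
      have h2 : ∀ j : ℕ, u ^ j • q = a ^ j • q := by
        intro j
        induction j with
        | zero => simp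
        | succ j ih =>
          rw [pow_succ', pow_succ', mul_smul, mul_smul, ih, hu, hcomm (y : C), ← hu, ← ha', ← mul_smul, ← mul_smul,
            ← pow_succ, ← pow_succ']
      have h3 : a ^ 5 = 1 := by
        have := pow_card_eq_one' (x := a)
        rwa [hP] at this
      have h4 := h2 5
      rw [h3, one_smul] at h4
      have h5 : u ^ 3 = 1 := by rw [← huo]; exact pow_orderOf_eq_one u
      calc u • q = u ^ (5 + 5) • q := by
            rw [show (5 + 5 : ℕ) = 3 * 3 + 1 by norm_num, pow_succ, pow_mul, h5, one_pow, one_mul]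
        _ = q := by rw [pow_add, mul_smul, h4, h4]
    have hNt : N ≠ ⊤ := fun e => by rw [e, Subgroup.index_top] at hi; norm_num at hi
    have hcore : u ∈ N.normalCore := by
      rw [Subgroup.normalCore_eq_ker, MonoidHom.mem_ker]
      exact Equiv.ext hfix
    rcases SimpleOrder.eq_bot_or_top N.normalCore_normal with h' | h'
    · rw [h', Subgroup.mem_bot] at hcore
      rw [hcore, orderOf_one] at huo
      norm_num at huo
    · exact hNt (top_le_iff.1 (h' ▸ N.normalCore_le))
  · have hN40 : Nat.card N = 40 := by omega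
    rcases he with rfl | rfl
    · refine OrderExclusion71.false_of_two_le hG P hP 3 40 2 (by norm_num) two_pos ?_ hN40
        (by norm_num) (by norm_num) (by rw [hn]; norm_num) (by norm_num) ?_
      · intro U hU _
        have hCN : C ≤ N := Subgroup.centralizer_le_normalizer _
        have h2 : C.relIndex N = 2 := by
          have h1 : Nat.card (C.subgroupOf N) * C.relIndex N = Nat.card N :=
            (C.subgroupOf N).card_mul_index
          rw [Nat.card_congr (Subgroup.subgroupOfEquivOfLe hCN).toEquiv] at h1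
          nlinarith [(Nat.card_pos : 0 < Nat.card C)]
        haveI : (C.subgroupOf N).Normal := Subgroup.normal_of_index_eq_two h2
        rw [← h2, ← Subgroup.relIndex_subgroupOf hU]
        exact Subgroup.relIndex_dvd_index_of_normal (C.subgroupOf N) (U.subgroupOf N)
      · rw [hn]
        decide +kernel
    · exact false_of_36 hG hn P hP hN40 (show Nat.card C = 10 by omega)
  · rw [show Nat.card N = 15 by omega, hcc] at he3
    rcases he with rfl | rfl <;> omega

end Cfsg.Agent.S1016
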