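import Mathlib
import Cfsg.Agent.Lib.OrderExclusion71
import Cfsg.Statements.S1017
-- import your own Cfsg.Agent.* helpers here

set_option autoImplicit false
open Cfsg

namespace Cfsg.Agent.S1017

/-- No finite simple group has order 2016 = 2^5 * 3^2 * 7. -/
theorem result {G : Type*} [Group G] [Finite G] [IsSimpleGroup G] : Nat.card G ≠ 2016 := by
  intro hn
  have hG : ¬ IsMulCommutative G := SimpleOrder.not_comm_of_not_prime (hn ▸ (by norm_num))
  haveI : Fact (Nat.Prime 7) := ⟨by norm_num⟩
  obtain ⟨P⟩ : Nonempty (Sylow 7 G) := inferInstance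
  have hP : Nat.card (P : Subgroup G) = 7 :=
    SimpleOrderCheck.sylow_card_of_once (by rw [hn]) (by rw [hn]; norm_num) P
  have hmem := SimpleOrderCheck.mem_cand hG (p := 7) (v := 1) (m := 288) one_pos
    (by rw [hn]; norm_num) (by norm_num)
  rw [hn] at hmem
  have hc : ∀ x ∈ SimpleOrderCheck.cand 2016 7 288, x = 8 ∨ x = 36 ∨ x = 288 := by decide +kernel
  set N := Subgroup.normalizer ((P : Subgroup G) : Set G) with hN
  have hi : N.index = Nat.card (Sylow 7 G) := P.card_eq_index_normalizer.symm
  have hNc := N.card_mul_index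
  rw [hn, hi] at hNc
  rcases hc _ hmem with h | h | h <;> rw [h] at hNc hi
  · -- eight points
    have h1 := (SimpleOrder.card_normalizer_dvd_of_index hG (by norm_num) P hP N
      (fun e => by rw [e, Subgroup.index_top] at hi; norm_num at hi) (by rw [hi]; norm_num)).1
    rw [show Nat.card N = 252 by omega, hi] at h1
    norm_num [Nat.factorial] at h1
  · refine OrderExclusion71.false_of_two hG P hP 3 56 (by norm_num) (show Nat.card N = 56 by omega)
      (by norm_num) (by norm_num) (by rw [hn]; norm_num) (by decide) ?_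
    rw [hn]
    decide +kernel
  · obtain ⟨e, he1, -, he3, c, hc'⟩ := SimpleOrder.exists_card_normalizer_eq hG P hP
    rw [← hN, show Nat.card N = 7 by omega, hc'] at he3
    have h0 : e * c = 1 := Nat.eq_of_mul_eq_mul_right (show 0 < 7 by norm_num) (by linarith)
    have := Nat.eq_one_of_mul_eq_one_right h0
    omega

end Cfsg.Agent.S1017
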