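import Mathlib
import Cfsg.Statements.S1022

set_option autoImplicit false
open Cfsg

namespace Cfsg.Agent.S1022

open scoped Pointwise

variable {G : Type*} [Group G] [Finite G]

/-- Sylow count inside a subgroup containing the Sylow subgroup. -/
theorem relIndex_normalizer_modEq {p : ℕ} [Fact p.Prime] (P : Sylow p G) {K : Subgroup G}
    (hK : (P : Subgroup G) ≤ K) :
    (Subgroup.normalizer ((P : Subgroup G) : Set G)).relIndex K % p = 1 := by
  have h := card_sylow_modEq_one p K
  rw [Sylow.card_eq_index_normalizer (P.subtype hK)] at h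
  have h2 : Subgroup.normalizer (((P.subtype hK : Sylow p K) : Subgroup K) : Set K) =
      (Subgroup.normalizer ((P : Subgroup G) : Set G)).subgroupOf K := by
    rw [Sylow.coe_subtype, Subgroup.subgroupOf_normalizer_eq hK]
  change (Subgroup.normalizer (((P.subtype hK : Sylow p K) : Subgroup K) : Set K)).index % p
    = 1 % p at h
  rw [h2] at h
  have h3 : 1 % p = 1 := Nat.mod_eq_of_lt (Fact.out : p.Prime).one_lt
  unfold Subgroup.relIndex
  rw [h, h3]

/-- A subgroup containing a Sylow subgroup and as many conjugates as the group is everything. -/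
theorem eq_top_of_relIndex_eq [IsSimpleGroup G] {p : ℕ} [Fact p.Prime] (P : Sylow p G)
    (hP : (P : Subgroup G) ≠ ⊥) {K : Subgroup G} (hK : (P : Subgroup G) ≤ K)
    (h : (Subgroup.normalizer ((P : Subgroup G) : Set G)).relIndex K =
      (Subgroup.normalizer ((P : Subgroup G) : Set G)).index) : K = ⊤ := by
  set N := Subgroup.normalizer ((P : Subgroup G) : Set G) with hN
  have hb : Function.Bijective (Subgroup.quotientSubgroupOfEmbeddingOfLE N (le_top : K ≤ ⊤)) := by
    refine ⟨(Subgroup.quotientSubgroupOfEmbeddingOfLE N _).injective, ?_⟩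
    refine ((Nat.bijective_iff_injective_and_card _).2
      ⟨(Subgroup.quotientSubgroupOfEmbeddingOfLE N _).injective, ?_⟩).surjective
    have e1 : Nat.card (K ⧸ N.subgroupOf K) = N.relIndex K := rfl
    have e2 : Nat.card ((⊤ : Subgroup G) ⧸ N.subgroupOf ⊤) = N.relIndex ⊤ := rfl
    rw [e1, e2, h, Subgroup.relIndex_top_right]
  have hn : Subgroup.normalClosure ((P : Subgroup G) : Set G) ≤ K := by
    unfold Subgroup.normalClosure
    rw [Subgroup.closure_le]
    intro y hy
    obtain ⟨a, ha, hay⟩ := Group.mem_conjugatesOfSet_iff.1 hy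
    obtain ⟨c, hc⟩ := isConj_iff.1 hay
    obtain ⟨q, hq⟩ := hb.2 (QuotientGroup.mk ⟨c, Subgroup.mem_top c⟩)
    obtain ⟨k, rfl⟩ := QuotientGroup.mk_surjective q
    rw [Subgroup.quotientSubgroupOfEmbeddingOfLE_apply_mk, QuotientGroup.eq] at hq
    rw [Subgroup.mem_subgroupOf] at hq
    have hkc : (k : G)⁻¹ * c ∈ N := hq
    have hm : ((k : G)⁻¹ * c) * a * ((k : G)⁻¹ * c)⁻¹ ∈ (P : Subgroup G) :=
      (Subgroup.mem_normalizer_iff.1 hkc a).1 ha
    rw [← hc]
    have hk := k.2
    have e : c * a * c⁻¹ = (k : G) * (((k : G)⁻¹ * c) * a * ((k : G)⁻¹ * c)⁻¹) * (k : G)⁻¹ := by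
      group
    rw [SetLike.mem_coe, e]
    exact K.mul_mem (K.mul_mem hk (hK hm)) (K.inv_mem hk)
  rcases IsSimpleGroup.eq_bot_or_eq_top_of_normal
    (Subgroup.normalClosure ((P : Subgroup G) : Set G)) inferInstance with h1 | h1
  · exact absurd (eq_bot_iff.2 (fun x hx => h1 ▸ Subgroup.subset_normalClosure hx)) hP
  · exact eq_top_iff.2 (h1 ▸ hn)

/-- No finite simple group has order 459648 = 2^7 * 3^3 * 7 * 19. -/
theorem result {G : Type*} [Group G] [Finite G] [IsSimpleGroup G] : Nat.card G ≠ 459648 := by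
  intro hG
  haveI : Fact (Nat.Prime 19) := ⟨by norm_num⟩
  haveI : Fact (Nat.Prime 7) := ⟨by norm_num⟩
  haveI : Fact (Nat.Prime 2) := ⟨by norm_num⟩
  have hf19 : (459648 : ℕ).factorization 19 = 1 := by
    rw [show (459648 : ℕ) = 19 * 24192 by norm_num,
      Nat.factorization_mul (by norm_num) (by norm_num), Finsupp.add_apply,
      Nat.Prime.factorization_self (by norm_num),
      Nat.factorization_eq_zero_of_not_dvd (by norm_num)]
  obtain ⟨P⟩ : Nonempty (Sylow 19 G) := inferInstance
  have hPc : Nat.card (P : Subgroup G) = 19 := by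
    rw [P.card_eq_multiplicity, hG, hf19, pow_one]
  have hPb : (P : Subgroup G) ≠ ⊥ := by
    intro h
    rw [h, Subgroup.card_bot] at hPc
    norm_num at hPc
  set N := Subgroup.normalizer ((P : Subgroup G) : Set G) with hN
  have hPN : (P : Subgroup G) ≤ N := Subgroup.le_normalizer
  -- the possible Sylow counts of subgroups containing `P`
  have hrel : ∀ K : Subgroup G, (P : Subgroup G) ≤ K →
      N.relIndex K = 1 ∨ N.relIndex K = 96 ∨ N.relIndex K = 1008 := by
    intro K hK
    have h1 := relIndex_normalizer_modEq P hK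
    rw [← hN] at h1
    have h2 : N.relIndex K ∣ 24192 := by
      have h3 : N.relIndex K ∣ (P : Subgroup G).relIndex K := Subgroup.relIndex_dvd_of_le_left K hPN
      have h4 : (P : Subgroup G).relIndex K ∣ (P : Subgroup G).index :=
        Dvd.intro _ (Subgroup.relIndex_mul_index hK)
      have h5 : (P : Subgroup G).index = 24192 := by
        have := (P : Subgroup G).card_mul_index
        rw [hPc, hG] at this
        omega
      exact h5 ▸ h3.trans h4
    have h6 : ∀ d ∈ (24192 : ℕ).divisors, d % 19 = 1 → d = 1 ∨ d = 96 ∨ d = 1008 := by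
      decide +kernel
    exact h6 _ (Nat.mem_divisors.2 ⟨h2, by norm_num⟩) h1
  -- nontrivial small subgroups have proper normalizer
  have hproper : ∀ H : Subgroup G, H ≠ ⊥ → H ≠ ⊤ →
      Subgroup.normalizer (H : Set G) ≠ ⊤ := by
    intro H h1 h2 h
    have hn : H.Normal := Subgroup.normalizer_eq_top_iff.1 h
    rcases IsSimpleGroup.eq_bot_or_eq_top_of_normal H hn with h3 | h3
    · exact h1 h3
    · exact h2 h3
  set C := Subgroup.centralizer ((P : Subgroup G) : Set G) with hC
  have hCN : C ≤ N := fun x hx => Subgroup.mem_normalizer_iff.2 fun y => by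
    constructor <;> intro hy
    · have := Subgroup.mem_centralizer_iff.1 hx y hy
      have e : x * y * x⁻¹ = y := by rw [← this, mul_inv_cancel_right]
      rwa [e]
    · have := Subgroup.mem_centralizer_iff.1 hx _ hy
      have e : y = x * y * x⁻¹ := by
        calc y = x⁻¹ * (x * y * x⁻¹ * x) := by group
          _ = x⁻¹ * (x * (x * y * x⁻¹)) := by rw [this]
          _ = x * y * x⁻¹ := by group
      rwa [e]
  have hPcomm : ∀ H : Subgroup G, H ≤ C → (P : Subgroup G) ≤ Subgroup.normalizer (H : Set G) := by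
    intro H hH a ha
    refine Subgroup.mem_normalizer_iff.2 fun y => ⟨fun hy => ?_, fun hy => ?_⟩
    · have := Subgroup.mem_centralizer_iff.1 (hH hy) a ha
      simpa [this] using hy
    · have h1 := Subgroup.mem_centralizer_iff.1 (hH hy) a ha
      have h2 : a * y * a⁻¹ = y := by
        calc a * y * a⁻¹ = a⁻¹ * (a * (a * y * a⁻¹)) := by group
          _ = a⁻¹ * ((a * y * a⁻¹) * a) := by rw [h1]
          _ = y := by group
      rwa [h2] at hy
  -- the index of the centralizer in any subgroup of the normalizer divides 18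
  have hidx : ∀ U : Subgroup G, U ≤ N → C.relIndex U ∣ 18 := by
    intro U hU
    haveI hcyc : IsCyclic (P : Subgroup G) := isCyclic_of_prime_card hPc
    let φ : U →* MulAut (P : Subgroup G) :=
      ((P : Subgroup G).normalizerMonoidHom).comp (Subgroup.inclusion hU)
    have hk : φ.ker = C.subgroupOf U := by
      ext u
      have : φ u = 1 ↔ Subgroup.inclusion hU u ∈ (P : Subgroup G).normalizerMonoidHom.ker := Iff.rfl
      rw [MonoidHom.mem_ker, this, Subgroup.normalizerMonoidHom_ker]
      rfl
    have h1 : C.relIndex U = Nat.card φ.range := by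
      rw [Subgroup.relIndex, ← hk, Subgroup.index_ker]
    rw [h1]
    refine (Subgroup.card_subgroup_dvd_card φ.range).trans ?_
    rw [IsCyclic.card_mulAut, hPc, Nat.totient_prime (by norm_num : Nat.Prime 19)]
  have hNidx : N.index = 96 ∨ N.index = 1008 := by
    have h := hrel ⊤ le_top
    rw [Subgroup.relIndex_top_right] at h
    rcases h with h | h | h
    · exfalso
      refine hproper (P : Subgroup G) hPb ?_ (Subgroup.index_eq_one.1 h)
      intro h'
      rw [h', Subgroup.card_top, hG] at hPc
      norm_num at hPc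
    · exact Or.inl h
    · exact Or.inr h
  have hNc := N.card_mul_index
  rw [hG] at hNc
  rcases hNidx with hn | hn
  · -- 96 Sylow 19-subgroups
    rw [hn] at hNc
    have h7 : 7 ∣ Nat.card (C.subgroupOf N) := by
      have h1 : Nat.card (C.subgroupOf N) * C.relIndex N = Nat.card N :=
        (C.subgroupOf N).card_mul_index
      have h2 : (7 : ℕ) ∣ Nat.card (C.subgroupOf N) * C.relIndex N := by
        rw [h1]; omega
      rcases (Nat.Prime.dvd_mul (by norm_num)).1 h2 with h | h
      · exact h
      · exact absurd (h.trans (hidx N le_rfl)) (by norm_num)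
    obtain ⟨x, hx⟩ := exists_prime_orderOf_dvd_card' 7 h7
    set g : G := ((x : N) : G) with hg
    have hgC : g ∈ C := x.2
    have hgo : orderOf g = 7 := by
      rw [hg, Subgroup.orderOf_coe, Subgroup.orderOf_coe]; exact hx
    have hQc : Nat.card (Subgroup.zpowers g) = 7 := by rw [Nat.card_zpowers, hgo]
    have hf7 : (459648 : ℕ).factorization 7 = 1 := by
      rw [show (459648 : ℕ) = 7 * 65664 by norm_num,
        Nat.factorization_mul (by norm_num) (by norm_num), Finsupp.add_apply,
        Nat.Prime.factorization_self (by norm_num),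
        Nat.factorization_eq_zero_of_not_dvd (by norm_num)]
    let Q : Sylow 7 G := Sylow.ofCard (Subgroup.zpowers g) (by rw [hQc, hG, hf7, pow_one])
    set K := Subgroup.normalizer ((Q : Subgroup G) : Set G) with hK
    have hQg : (Q : Subgroup G) = Subgroup.zpowers g := Sylow.coe_ofCard _ _
    have hPK : (P : Subgroup G) ≤ K :=
      hPcomm _ (by rw [hQg]; exact Subgroup.zpowers_le.2 hgC)
    have hKle : K ≤ N := by
      have hle : N.relIndex K ≤ N.index := Subgroup.relIndex_top_right (H := N) ▸
        Subgroup.relIndex_le_of_le_right le_top (by rw [Subgroup.relIndex_top_right]; omega)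
      rcases hrel K hPK with h | h | h
      · exact Subgroup.relIndex_eq_one.1 h
      · exfalso
        refine hproper (Q : Subgroup G) ?_ ?_ (eq_top_of_relIndex_eq P hPb hPK (h.trans hn.symm))
        · rw [hQg]; intro h'; rw [h', Subgroup.card_bot] at hQc; norm_num at hQc
        · rw [hQg]; intro h'; rw [h', Subgroup.card_top, hG] at hQc; norm_num at hQc
      · omega
    have h1 := relIndex_normalizer_modEq Q (le_trans Subgroup.le_normalizer hKle)
    have h2 := relIndex_normalizer_modEq Q (le_top : (Q : Subgroup G) ≤ ⊤)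
    rw [← hK] at h1 h2
    rw [Subgroup.relIndex_top_right, ← Subgroup.relIndex_mul_index hKle, hn, Nat.mul_mod, h1] at h2
    norm_num at h2
  · -- 1008 Sylow 19-subgroups
    rw [hn] at hNc
    have hN2 : 2 ^ 3 ∣ Nat.card N := by omega
    obtain ⟨U0, hU0⟩ := Sylow.exists_subgroup_card_pow_prime 2 hN2
    set U := U0.map N.subtype with hU
    have hUN : U ≤ N := Subgroup.map_subtype_le U0
    have hUc : Nat.card U = 8 := by
      rw [hU, Subgroup.card_map_of_injective N.subtype_injective, hU0]; norm_num
    obtain ⟨V, hVc, hUV⟩ := Sylow.exists_subgroup_card_pow_succ (p := 2) (n := 3)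
      (by rw [hG]; norm_num) (by rw [hUc]; norm_num : Nat.card U = 2 ^ 3)
    have hVc16 : Nat.card V = 16 := by rw [hVc]; norm_num
    haveI hUVn : (U.subgroupOf V).Normal := by
      refine Subgroup.normal_of_index_eq_two ?_
      have h1 := (U.subgroupOf V).card_mul_index
      rw [Nat.card_congr (Subgroup.subgroupOfEquivOfLe hUV).toEquiv, hUc, hVc16] at h1
      omega
    obtain ⟨v, hvV, hvU⟩ : ∃ v ∈ V, v ∉ U := by
      by_contra h
      push Not at h
      have := Subgroup.card_le_of_le (h : V ≤ U)
      omega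
    have hVnorm : ∀ w ∈ V, ∀ u, u ∈ U → w * u * w⁻¹ ∈ U := fun w hw u hu =>
      hUVn.conj_mem ⟨u, hUV hu⟩ hu ⟨w, hw⟩
    set T := U ⊓ C with hT
    have hTconj : ∀ u ∈ U, ∀ t ∈ T, u * t * u⁻¹ ∈ T := by
      intro u hu t ht
      refine ⟨U.mul_mem (U.mul_mem hu ht.1) (U.inv_mem hu), (?_ : u * t * u⁻¹ ∈ C)⟩
      rw [hC, Subgroup.mem_centralizer_iff]
      intro a ha
      have ha' : u⁻¹ * a * u ∈ (P : Subgroup G) := by
        have := (Subgroup.mem_normalizer_iff.1 (hUN (U.inv_mem hu)) a).1 ha
        simpa using this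
      have h2 := Subgroup.mem_centralizer_iff.1 (show t ∈ C from ht.2) _ ha'
      calc a * (u * t * u⁻¹) = u * ((u⁻¹ * a * u) * t) * u⁻¹ := by group
        _ = u * (t * (u⁻¹ * a * u)) * u⁻¹ := by rw [h2]
        _ = u * t * u⁻¹ * a := by group
    have hTidx : C.relIndex U ≤ 2 := by
      have h1 : C.relIndex U ∣ 8 := hUc ▸ Subgroup.relIndex_dvd_card C U
      have h2 := Nat.dvd_gcd h1 (hidx U hUN)
      exact Nat.le_of_dvd (by norm_num) h2
    have hTc : 4 ≤ Nat.card T := by
      have h1 : Nat.card (C.subgroupOf U) * C.relIndex U = Nat.card U :=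
        (C.subgroupOf U).card_mul_index
      have h2 : Nat.card (C.subgroupOf U) = Nat.card T := by
        rw [hT, ← Subgroup.inf_subgroupOf_left C U,
          Nat.card_congr (Subgroup.subgroupOfEquivOfLe inf_le_left).toEquiv]
      rw [h2, hUc] at h1
      interval_cases (C.relIndex U) <;> omega
    -- the core `H` of `T`
    let H : Subgroup G := T ⊓ T.comap (MulAut.conj v⁻¹).toMonoidHom
    have hmemH : ∀ {h}, h ∈ H ↔ h ∈ T ∧ v⁻¹ * h * v ∈ T := by
      intro h
      simp [H, Subgroup.mem_inf, MulAut.conj_apply]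
    have hHC : H ≤ C := fun h hh => ((hmemH.1 hh).1).2
    have hconjT : ∀ a b, a ∈ T → b ∈ U → b⁻¹ * a * b ∈ T := fun a b ha hb => by
      simpa using hTconj b⁻¹ (U.inv_mem hb) a ha
    have hUH : ∀ u ∈ U, ∀ h ∈ H, u * h * u⁻¹ ∈ H := by
      intro u hu h hh
      obtain ⟨h1, h2⟩ := hmemH.1 hh
      refine hmemH.2 ⟨hTconj u hu h h1, ?_⟩
      have hu' : v⁻¹ * u * v ∈ U := by simpa using hVnorm v⁻¹ (V.inv_mem hvV) u hu
      have := hTconj _ hu' _ h2
      convert this using 1
      group
    have hvv : v * v ∈ U := by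
      have := Subgroup.sq_mem_of_index_two (H := U.subgroupOf V) (by
        have h1 := (U.subgroupOf V).card_mul_index
        rw [Nat.card_congr (Subgroup.subgroupOfEquivOfLe hUV).toEquiv, hUc, hVc16] at h1
        omega) ⟨v, hvV⟩
      simpa [pow_two, Subgroup.mem_subgroupOf] using this
    have hvH : ∀ h ∈ H, v * h * v⁻¹ ∈ H := by
      intro h hh
      obtain ⟨h1, h2⟩ := hmemH.1 hh
      refine hmemH.2 ⟨?_, ?_⟩
      · have := hTconj (v * v) hvv _ h2
        convert this using 1
        group
      · have e : v⁻¹ * (v * h * v⁻¹) * v = h := by group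
        rw [e]; exact h1
    set K := Subgroup.normalizer (H : Set G) with hK
    have hmemK : ∀ g, (∀ h ∈ H, g * h * g⁻¹ ∈ H) → g ∈ K := by
      intro g hg
      refine Subgroup.mem_normalizer_iff.2 fun y => ⟨fun hy => hg y hy, fun hy => ?_⟩
      let f : H → H := fun h => ⟨g * h * g⁻¹, hg h h.2⟩
      have hf : Function.Injective f := by
        intro a b hab
        have := congrArg Subtype.val hab
        exact Subtype.ext (mul_left_cancel (mul_right_cancel this))
      obtain ⟨z, hz⟩ := Finite.injective_iff_surjective.1 hf ⟨g * y * g⁻¹, hy⟩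
      have : (z : G) = y := mul_left_cancel (mul_right_cancel (congrArg Subtype.val hz))
      exact this ▸ z.2
    have hUK : U ≤ K := fun u hu => hmemK u (hUH u hu)
    have hvK : v ∈ K := hmemK v hvH
    have hVK : V ≤ K := by
      have h1 : U < V ⊓ K := lt_of_le_of_ne (le_inf hUV hUK) (fun h => hvU (h ▸ ⟨hvV, hvK⟩))
      have h2 : Nat.card (V ⊓ K : Subgroup G) ∣ 16 := hVc16 ▸ Subgroup.card_dvd_of_le inf_le_left
      have h3 : Nat.card U ∣ Nat.card (V ⊓ K : Subgroup G) := Subgroup.card_dvd_of_le h1.le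
      have h4 : Nat.card U ≠ Nat.card (V ⊓ K : Subgroup G) := fun h =>
        h1.ne (Subgroup.eq_of_le_of_card_ge h1.le h.ge)
      have h5 : Nat.card (V ⊓ K : Subgroup G) = 16 := by
        have := Nat.le_of_dvd (by norm_num) h2
        have hpos : 0 < Nat.card (V ⊓ K : Subgroup G) := Nat.card_pos
        obtain ⟨c, hc⟩ := h3
        rw [hUc] at hc h4
        omega
      exact inf_eq_left.1 (Subgroup.eq_of_le_of_card_ge inf_le_left (by omega))
    have hPK : (P : Subgroup G) ≤ K := hPcomm H hHC
    have hHb : H ≠ ⊥ := by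
      intro hb
      let f : T × T → U := fun x => ⟨(x.1 : G) * (v * x.2 * v⁻¹),
        U.mul_mem x.1.2.1 (hVnorm v hvV _ x.2.2.1)⟩
      have hf : Function.Injective f := by
        rintro ⟨a, b⟩ ⟨c, d⟩ hab
        have e : (a : G) * (v * b * v⁻¹) = c * (v * d * v⁻¹) := congrArg Subtype.val hab
        have e2 : (c : G)⁻¹ * a = v * (d * (b : G)⁻¹) * v⁻¹ := by
          calc (c : G)⁻¹ * a = (c : G)⁻¹ * ((a : G) * (v * b * v⁻¹)) * (v * b * v⁻¹)⁻¹ := by group
            _ = (c : G)⁻¹ * ((c : G) * (v * d * v⁻¹)) * (v * b * v⁻¹)⁻¹ := by rw [e]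
            _ = _ := by group
        have hm : (c : G)⁻¹ * a ∈ H := by
          refine hmemH.2 ⟨T.mul_mem (T.inv_mem c.2) a.2, ?_⟩
          rw [e2]
          have e3 : v⁻¹ * (v * ((d : G) * (b : G)⁻¹) * v⁻¹) * v = d * (b : G)⁻¹ := by group
          rw [e3]
          exact T.mul_mem d.2 (T.inv_mem b.2)
        rw [hb, Subgroup.mem_bot] at hm
        have hac : (a : G) = c := (inv_mul_eq_one.1 hm).symm
        rw [hac] at e
        have hbd : (b : G) = d := mul_left_cancel (mul_right_cancel (mul_left_cancel e))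
        exact Prod.ext (Subtype.ext hac) (Subtype.ext hbd)
      have := Nat.card_le_card_of_injective f hf
      rw [Nat.card_prod, hUc] at this
      nlinarith
    have hHt : H ≠ ⊤ := by
      intro h
      have h1 := Subgroup.card_le_of_le (le_trans hHC hCN)
      rw [h, Subgroup.card_top, hG] at h1
      omega
    rcases hrel K hPK with h | h | h
    · have h1 := Subgroup.card_dvd_of_le (hVK.trans (Subgroup.relIndex_eq_one.1 h))
      rw [hVc16] at h1
      omega
    · have h1 : Nat.card (N.subgroupOf K) * N.relIndex K = Nat.card K :=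
        (N.subgroupOf K).card_mul_index
      have h2 : Nat.card (U.subgroupOf K) ∣ Nat.card (N.subgroupOf K) :=
        Subgroup.card_dvd_of_le (fun x hx => hUN hx)
      rw [Nat.card_congr (Subgroup.subgroupOfEquivOfLe hUK).toEquiv, hUc] at h2
      have h3 : Nat.card K ∣ 459648 := hG ▸ Subgroup.card_subgroup_dvd_card K
      rw [← h1, h] at h3
      have h4 := (mul_dvd_mul h2 (dvd_refl 96)).trans h3
      norm_num at h4
    · exact hproper H hHb hHt (eq_top_of_relIndex_eq P hPb hPK (h.trans hn.symm))

end Cfsg.Agent.S1022
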