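import Cfsg.Statements.S1024
import Mathlib
-- import your own Cfsg.Agent.* helpers here

set_option autoImplicit false
open Cfsg

namespace Cfsg.Agent.S1024

theorem key (D : Lie.ChevalleyDatum)
    (hD : D ∈ [Lie.chevG2, Lie.chevB2, Lie.chevD4, Lie.chevF4, Lie.chevE6, Lie.chevE7, Lie.chevE8]) :
    ∀ r < D.nroots, D.negIdx.getD r 0 < D.nroots ∧ D.negIdx.getD r 0 ≠ r := by
  fin_cases hD <;> decide +kernel

/-- `x_r(0) = 1`, and `x_r(t) = 1` forces `t = 0`: the map `t ↦ x_r(t)` is injective. -/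
theorem result {F : Type*} [Field F] (D : Cfsg.Lie.ChevalleyDatum) (hD : D ∈ [Cfsg.Lie.chevG2, Cfsg.Lie.chevB2, Cfsg.Lie.chevD4, Cfsg.Lie.chevF4, Cfsg.Lie.chevE6, Cfsg.Lie.chevE7, Cfsg.Lie.chevE8]) (r : ℕ) (hr : r < D.nroots) (t : F) :
    D.x F r t = 1 ↔ t = 0 := by
  obtain ⟨hlt, hne⟩ := key D hD r hr
  constructor
  · intro h
    have := congrFun (congrFun h (Sum.inr ⟨r, hr⟩)) (Sum.inr ⟨D.negIdx.getD r 0, hlt⟩)
    rw [Matrix.one_apply_ne (by simpa [Fin.ext_iff] using Ne.symm hne)] at this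
    simpa [Lie.ChevalleyDatum.x, hr, Lie.ChevalleyDatum.xMat, hne, Ne.symm hne, Fin.ext_iff, ← Array.getD_eq_getD_getElem?] using this
  · rintro rfl
    have hk : ∀ r s u : ℕ, ∀ km ∈ D.chainCoeff r s u, (0 : F) ^ km.1 = 0 := by
      intro r s u km hm
      simp only [Lie.ChevalleyDatum.chainCoeff, List.mem_flatMap, List.mem_map] at hm
      obtain ⟨_, _, q, _, rfl⟩ := hm
      simp
    ext row col
    rcases col with i | s <;> rcases row with i' | u <;>
      simp only [Lie.ChevalleyDatum.x, hr, dite_true, Lie.ChevalleyDatum.xMat, Matrix.of_apply,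
        Matrix.one_apply, Sum.inl.injEq, Sum.inr.injEq, reduceCtorEq, if_false]
    · split_ifs <;> simp_all
    · split_ifs <;> simp_all
    · have : ((D.chainCoeff r s u).map fun km => ((km.2 : ℤ) : F) * (0 : F) ^ km.1).sum = 0 :=
        List.sum_eq_zero fun z hz => by
          obtain ⟨km, hm, rfl⟩ := List.mem_map.mp hz
          simp [hk _ _ _ km hm]
      split_ifs <;> simp_all [Fin.ext_iff]

end Cfsg.Agent.S1024
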