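import Cfsg.Statements.S1026
import Cfsg.Agent.Lib.ChevalleyTorus
import Cfsg.Agent.Lib.ChevalleyAll

set_option autoImplicit false
open Cfsg

namespace Cfsg.Agent.S1026

/-- Every element of `U` has a unique expression `∏_{r ∈ Φ⁺} x_r(t_r)`, the product over the positive roots in increasing index order (the coefficient family `t`, supported on the positive roots, exists and is unique); and conversely every such ordered product is the matrix of an element of `U`. -/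
theorem result {F : Type*} [Field F] (D : Cfsg.Lie.ChevalleyDatum) (hD : D ∈ [Cfsg.Lie.chevG2, Cfsg.Lie.chevB2, Cfsg.Lie.chevD4, Cfsg.Lie.chevF4, Cfsg.Lie.chevE6, Cfsg.Lie.chevE7, Cfsg.Lie.chevE8]) :
    (∀ g : GL D.Idx F, g ∈ D.posUnipotent F →
      ∃! t : ℕ → F, (∀ r, ¬ D.IsPosRoot r → t r = 0) ∧
        (g : Matrix D.Idx D.Idx F) = D.wordMat F (D.posRoots.map fun r => (r, t r))) ∧
    (∀ t : ℕ → F, ∃ g : GL D.Idx F, g ∈ D.posUnipotent F ∧
      (g : Matrix D.Idx D.Idx F) = D.wordMat F (D.posRoots.map fun r => (r, t r))) := by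
  obtain ⟨C⟩ := Cfsg.Agent.ChevalleyAll.cert_nonempty D hD
  refine ⟨fun g hg => ?_, fun t => ?_⟩
  · obtain ⟨t, ⟨h0, h1⟩, huniq⟩ := Cfsg.Agent.ChevalleyUnipotent.U_normal_form C hg
    refine ⟨t, ⟨h0, ?_⟩, fun t' ⟨h0', h1'⟩ => huniq t' ⟨h0', ?_⟩⟩
    · rw [h1, Cfsg.Agent.ChevalleyUnipotent.uProd_coe C]
    · apply Units.ext
      rw [h1', Cfsg.Agent.ChevalleyUnipotent.uProd_coe C]
  · refine ⟨Cfsg.Agent.ChevalleyUnipotent.uProd C (D.nroots / 2) t, ?_, Cfsg.Agent.ChevalleyUnipotent.uProd_coe C t⟩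
    rw [Cfsg.Agent.ChevalleyUnipotent.posUnipotent_eq C]
    exact Cfsg.Agent.ChevalleyUnipotent.uProd_mem C le_rfl t

end Cfsg.Agent.S1026
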