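import Cfsg.Statements.S1034
import Cfsg.Agent.Lib.ChevalleyTorus
import Cfsg.Agent.Lib.ChevalleyAll

set_option autoImplicit false
open Cfsg

namespace Cfsg.Agent.S1034

/-- Every element of `H` is a product `h_{p_1}(c_1) ⋯ h_{p_l}(c_l)` over the fundamental roots, with non-zero `c_i`. -/
theorem result {F : Type*} [Field F] (D : Cfsg.Lie.ChevalleyDatum) (hD : D ∈ [Cfsg.Lie.chevG2, Cfsg.Lie.chevB2, Cfsg.Lie.chevD4, Cfsg.Lie.chevF4, Cfsg.Lie.chevE6, Cfsg.Lie.chevE7, Cfsg.Lie.chevE8]) (g : GL D.Idx F) (hg : g ∈ D.diagonalSubgroup F) :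
    ∃ c : ℕ → F, (∀ i < D.rank, c i ≠ 0) ∧
      (g : Matrix D.Idx D.Idx F) = D.wordMat F ((List.range D.rank).flatMap fun i => D.hWord (D.simple i) (c i)) := by
  obtain ⟨C⟩ := Cfsg.Agent.ChevalleyAll.cert_nonempty D hD
  classical
  obtain ⟨c, rfl⟩ := (Cfsg.Agent.ChevalleyTorus.mem_H_iff C).1 hg
  refine ⟨fun i => if h : i < D.rank then (c ⟨i, h⟩ : F) else 1, fun i hi => by simp [hi], ?_⟩
  have key : ∀ n, n ≤ D.rank → Cfsg.Agent.ChevalleyTorus.torus D
      (∏ i ∈ Finset.univ.filter (fun i : Fin D.rank => i.val < n), Pi.mulSingle i (c i)) =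
      Cfsg.Agent.ChevalleyCore.wg C ((List.range n).flatMap fun i =>
        D.hWord (D.simple i) (if h : i < D.rank then (c ⟨i, h⟩ : F) else 1)) := by
    intro n
    induction n with
    | zero => intro _; simp [Cfsg.Agent.ChevalleyCore.wg]
    | succ n ih =>
      intro hn
      have hn' : n < D.rank := hn
      have he : Finset.univ.filter (fun i : Fin D.rank => i.val < n + 1) =
          insert ⟨n, hn'⟩ (Finset.univ.filter (fun i : Fin D.rank => i.val < n)) := by
        ext i; simp [Fin.ext_iff]; omega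
      rw [he, Finset.prod_insert (by simp), mul_comm, map_mul, ih hn'.le, List.range_succ, List.flatMap_append,
        ← Cfsg.Agent.ChevalleyTorus.hg_simple C]
      apply Units.ext
      simp only [Units.val_mul, Cfsg.Agent.ChevalleyCore.coe_wg, Cfsg.Agent.ChevalleyCore.coe_hg,
        List.flatMap_cons, List.flatMap_nil, List.append_nil, dif_pos hn']
      simp [Cfsg.Lie.ChevalleyDatum.wordMat, Cfsg.Lie.ChevalleyDatum.hMat, List.prod_append]
  have h := congrArg Units.val (key D.rank le_rfl)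
  rw [Finset.filter_true_of_mem (fun i _ => i.isLt), Finset.univ_prod_mulSingle, Cfsg.Agent.ChevalleyCore.coe_wg] at h
  exact h

end Cfsg.Agent.S1034
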