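import Cfsg.Statements.S1041
-- import your own Cfsg.Agent.* helpers here

set_option autoImplicit false
open Cfsg

namespace Cfsg.Agent.S1041

lemma pos_or_neg (D : Cfsg.Lie.ChevalleyDatum)
    (hD : D ∈ [Cfsg.Lie.chevG2, Cfsg.Lie.chevB2, Cfsg.Lie.chevD4, Cfsg.Lie.chevF4, Cfsg.Lie.chevE6,
      Cfsg.Lie.chevE7, Cfsg.Lie.chevE8]) (r : ℕ) (hr : r < D.nroots) :
    D.IsPosRoot r ∨ D.IsNegRoot r := by
  have h : ∀ D' ∈ [Cfsg.Lie.chevG2, Cfsg.Lie.chevB2, Cfsg.Lie.chevD4, Cfsg.Lie.chevF4, Cfsg.Lie.chevE6,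
      Cfsg.Lie.chevE7, Cfsg.Lie.chevE8],
      ((List.range D'.nroots).all fun r => decide (D'.IsPosRoot r ∨ D'.IsNegRoot r)) = true := by
    decide +kernel
  have h2 := h D hD
  simp only [List.all_eq_true, List.mem_range, decide_eq_true_eq] at h2
  exact h2 r hr


/-- `U` and `V` generate the whole Chevalley group. -/
theorem result {F : Type*} [Field F] (D : Cfsg.Lie.ChevalleyDatum) (hD : D ∈ [Cfsg.Lie.chevG2, Cfsg.Lie.chevB2, Cfsg.Lie.chevD4, Cfsg.Lie.chevF4, Cfsg.Lie.chevE6, Cfsg.Lie.chevE7, Cfsg.Lie.chevE8]) : D.posUnipotent F ⊔ D.negUnipotent F = D.group F := by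
  simp only [Cfsg.Lie.ChevalleyDatum.posUnipotent, Cfsg.Lie.ChevalleyDatum.negUnipotent,
    Cfsg.Lie.ChevalleyDatum.group]
  rw [← Subgroup.closure_union]
  congr 1
  ext g
  constructor
  · rintro (⟨r, t, hr, hg⟩ | ⟨r, t, hr, hg⟩) <;>
    · refine ⟨⟨r, hr.1⟩, t, ?_⟩
      rw [hg, Cfsg.Lie.ChevalleyDatum.x, dif_pos hr.1]
  · rintro ⟨r, t, hg⟩
    have hx : D.x F r.1 t = D.xMat F r t := by
      rw [Cfsg.Lie.ChevalleyDatum.x, dif_pos r.2]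
    rcases pos_or_neg D hD r.1 r.2 with h | h
    · exact Or.inl ⟨r.1, t, h, hg.trans hx.symm⟩
    · exact Or.inr ⟨r.1, t, h, hg.trans hx.symm⟩

end Cfsg.Agent.S1041
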