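import Cfsg.Statements.S1044
import Cfsg.Agent.Lib.ChevBruhatInstance

set_option autoImplicit false
open Cfsg

namespace Cfsg.Agent.S1044

open Cfsg.Lie Cfsg.Agent.ChevBruhat

lemma exists_parabolic {F : Type*} [Field F] {D : ChevalleyDatum} (S : Sys D F) (i : Fin D.rank) :
    ∃ P : Subgroup (GL D.Idx F), (P : Set (GL D.Idx F)) =
      (D.borelSubgroup F : Set (GL D.Idx F)) ∪
        DoubleCoset.doubleCoset (S.nn (D.simple i) 1) (D.borelSubgroup F : Set (GL D.Idx F))
          (D.borelSubgroup F) := by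
  set n := S.nn (D.simple i) 1 with hn
  set B := D.borelSubgroup F with hB
  have hsq : n * n ∈ B :=
    Sys.H_le_B (S.nn_mul_nn_mem (S.X.simple_lt i.isLt) one_ne_zero one_ne_zero)
  have memD : ∀ x, x ∈ DoubleCoset.doubleCoset n (B : Set (GL D.Idx F)) B ↔
      ∃ a ∈ B, ∃ b ∈ B, x = a * n * b := fun x => DoubleCoset.mem_doubleCoset
  refine ⟨{ carrier := (B : Set (GL D.Idx F)) ∪ DoubleCoset.doubleCoset n (B : Set (GL D.Idx F)) B
            one_mem' := Or.inl (one_mem B), mul_mem' := ?_, inv_mem' := ?_ }, rfl⟩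
  · rintro x y (hx | hx) (hy | hy)
    · exact Or.inl (mul_mem hx hy)
    · obtain ⟨a, ha, b, hb, rfl⟩ := (memD y).mp hy
      exact Or.inr ((memD _).mpr ⟨x * a, mul_mem hx ha, b, hb, by group⟩)
    · obtain ⟨a, ha, b, hb, rfl⟩ := (memD x).mp hx
      exact Or.inr ((memD _).mpr ⟨a, ha, b * y, mul_mem hb hy, by group⟩)
    · obtain ⟨a, ha, b, hb, rfl⟩ := (memD x).mp hx
      obtain ⟨a', ha', b', hb', rfl⟩ := (memD y).mp hy
      rcases S.rule i (S.sN i) (mul_mem hb ha') with ⟨c, hc, e, he, h⟩ | ⟨c, hc, e, he, h⟩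
      · refine Or.inl ?_
        have : a * n * b * (a' * n * b') = a * (n * (b * a') * n) * b' := by group
        rw [this]
        refine mul_mem (mul_mem ha ?_) hb'
        have h' : n * (b * a') * n = c * (n * n) * e := h
        rw [h']
        exact mul_mem (mul_mem hc hsq) he
      · refine Or.inr ((memD _).mpr ⟨a * c, mul_mem ha hc, e * b', mul_mem he hb', ?_⟩)
        have : a * n * b * (a' * n * b') = a * (n * (b * a') * n) * b' := by group
        have h' : n * (b * a') * n = c * n * e := h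
        rw [this, h']
        group
  · rintro x (hx | hx)
    · exact Or.inl (inv_mem hx)
    · obtain ⟨a, ha, b, hb, rfl⟩ := (memD x).mp hx
      exact Or.inr ((memD _).mpr ⟨b⁻¹ * (n * n)⁻¹, mul_mem (inv_mem hb) (inv_mem hsq), a⁻¹,
        inv_mem ha, by group⟩)


/-- For a fundamental root `p` the set `B ∪ B n_p B` is (the carrier of) a subgroup of the general linear group. -/
theorem result {F : Type*} [Field F] (D : Cfsg.Lie.ChevalleyDatum) (hD : D ∈ [Cfsg.Lie.chevG2, Cfsg.Lie.chevB2, Cfsg.Lie.chevD4, Cfsg.Lie.chevF4, Cfsg.Lie.chevE6, Cfsg.Lie.chevE7, Cfsg.Lie.chevE8]) (i : ℕ) (hi : i < D.rank) (n : GL D.Idx F)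
    (hn : (n : Matrix D.Idx D.Idx F) = D.nMat F (D.simple i) 1) :
    ∃ P : Subgroup (GL D.Idx F), (P : Set (GL D.Idx F)) =
      (D.borelSubgroup F : Set (GL D.Idx F)) ∪ DoubleCoset.doubleCoset n (D.borelSubgroup F : Set (GL D.Idx F)) (D.borelSubgroup F) := by
  have S := Cfsg.Agent.ChevBruhatInstance.sys D hD F
  obtain rfl : n = S.nn (D.simple i) 1 := Units.ext (hn.trans (S.coe_nn _ _).symm)
  exact exists_parabolic S ⟨i, hi⟩

end Cfsg.Agent.S1044
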