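import Cfsg.Statements.S1056
import Cfsg.Agent.Lib.ChevSimplicity
import Cfsg.Agent.S1050
import Cfsg.Agent.S1052

set_option autoImplicit false
open Cfsg

namespace Cfsg.Agent.S1056

/-- B₂(F) is simple for every field `F` other than the field with two elements. -/
theorem result {F : Type*} [Field F] (hF : ∃ a : F, a ≠ 0 ∧ a ≠ 1) : IsSimpleGroup ↥(Cfsg.Lie.chevB2.group F) ∧ ¬ IsMulCommutative ↥(Cfsg.Lie.chevB2.group F) := by
  have h7 : Cfsg.Lie.chevB2 ∈ [Cfsg.Lie.chevG2, Cfsg.Lie.chevB2, Cfsg.Lie.chevD4, Cfsg.Lie.chevF4,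
      Cfsg.Lie.chevE6, Cfsg.Lie.chevE7, Cfsg.Lie.chevE8] := by simp
  have hfacts : 0 < Cfsg.Lie.chevB2.rank ∧ Cfsg.Agent.ChevSimplicity.NodesLinked Cfsg.Lie.chevB2 := by
    unfold Cfsg.Agent.ChevSimplicity.NodesLinked
    decide +kernel
  exact Cfsg.Agent.ChevSimplicity.simple_and_noncomm (Cfsg.Agent.ChevBruhatInstance.sys _ h7 F)
    (Cfsg.Agent.ChevalleyAll.cert _ h7) hfacts.1 hfacts.2 (Cfsg.Agent.S1050.result _ h7)
    (Cfsg.Agent.S1052.result _ h7 fun _ => hF)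

end Cfsg.Agent.S1056
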