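import Cfsg.Statements.S1058
import Cfsg.Agent.Lib.SpFourChevalley
import Cfsg.Agent.S0247
import Cfsg.Agent.S1060

set_option autoImplicit false
open Cfsg

namespace Cfsg.Agent.S1058

/-- B₂(2) ≅ S₆. -/
theorem result {F : Type*} [Field F] [Fintype F] (hF : Fintype.card F = 2) :
    Nonempty (↥(Cfsg.Lie.chevB2.group F) ≃* Equiv.Perm (Fin 6)) := by
  obtain ⟨e⟩ := Cfsg.Agent.S0247.result hF
  have hB := Cfsg.Agent.S1060.result (F := F) hF
  have hG : Nat.card ↥(Cfsg.Lie.chevB2.group F) = Nat.card ↥(Matrix.symplecticGroup (Fin 2) F) := by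
    rw [Nat.card_congr e.toEquiv, Nat.card_perm, Nat.card_fin]
    norm_num at hB
    rw [hB]; rfl
  let f := (Cfsg.Agent.SpFourChevalley.adHom (F := F)).rangeRestrict
  have hsurj : Function.Surjective f := MonoidHom.rangeRestrict_surjective _
  have hbij : Function.Bijective f := by
    refine (Nat.bijective_iff_surjective_and_card f).2 ⟨hsurj, ?_⟩
    rw [Cfsg.Agent.SpFourChevalley.range_adHom]
    exact hG.symm
  rw [← Cfsg.Agent.SpFourChevalley.range_adHom]
  exact ⟨(MulEquiv.ofBijective f hbij).symm.trans e⟩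

end Cfsg.Agent.S1058
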