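import Cfsg.Statements.S1061
import Cfsg.Agent.Lib.ChevOrder

set_option autoImplicit false
open Cfsg

namespace Cfsg.Agent.S1061

/-- `gcd(2, q-1)² · |D₄(q)| = q¹² (q² - 1)(q⁴ - 1)(q⁴ - 1)(q⁶ - 1)`. -/
theorem result {F : Type*} [Field F] [Fintype F] {q : ℕ} (hq : Fintype.card F = q) : Nat.gcd 2 (q - 1) ^ 2 * Nat.card ↥(Cfsg.Lie.chevD4.group F) = q ^ 12 * (q ^ 2 - 1) * (q ^ 4 - 1) * (q ^ 4 - 1) * (q ^ 6 - 1) := by
  subst hq
  have hH : (Nat.gcd (Fintype.card F - 1) 2 ^ 2) * Nat.card ↥(Cfsg.Lie.chevD4.diagonalSubgroup F) =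
      (Fintype.card F - 1) ^ Cfsg.Lie.chevD4.rank := by
    simpa using Cfsg.Agent.ChevalleyTorusCard.card_H (F := F) Cfsg.Agent.ChevalleyDataD4.cert
      Cfsg.Agent.ChevalleyTorusCard.smithD4
  have h := Cfsg.Agent.ChevOrder.order_eq (F := F) Cfsg.Agent.ChevalleyDataD4.cert
    Cfsg.Agent.ChevWeylData.d4 (by decide +kernel) [2, 4, 4, 6] (by decide +kernel) hH
  have hN : Cfsg.Lie.chevD4.nroots / 2 = 12 := rfl
  rw [hN] at h
  simp only [List.map_cons, List.map_nil, List.prod_cons, List.prod_nil, mul_one, one_mul,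
    Nat.gcd_comm (Fintype.card F - 1)] at h
  rw [h]
  simp only [mul_assoc]

end Cfsg.Agent.S1061
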