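import Cfsg.Statements.S1065
import Cfsg.Agent.Lib.ChevOrder

set_option autoImplicit false
open Cfsg

namespace Cfsg.Agent.S1065

/-- `|E₈(q)| = q¹²⁰ ∏_{d ∈ {2,8,12,14,18,20,24,30}} (q^d - 1)`. -/
theorem result {F : Type*} [Field F] [Fintype F] {q : ℕ} (hq : Fintype.card F = q) : Nat.card ↥(Cfsg.Lie.chevE8.group F) = q ^ 120 * (q ^ 2 - 1) * (q ^ 8 - 1) * (q ^ 12 - 1) * (q ^ 14 - 1) * (q ^ 18 - 1) * (q ^ 20 - 1) * (q ^ 24 - 1) * (q ^ 30 - 1) := by
  subst hq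
  have hH : 1 * Nat.card ↥(Cfsg.Lie.chevE8.diagonalSubgroup F) =
      (Fintype.card F - 1) ^ Cfsg.Lie.chevE8.rank := by
    simpa using Cfsg.Agent.ChevalleyTorusCard.card_H (F := F) Cfsg.Agent.ChevalleyDataE8.cert
      Cfsg.Agent.ChevalleyTorusCard.smithE8
  have h := Cfsg.Agent.ChevOrder.order_eq (F := F) Cfsg.Agent.ChevalleyDataE8.cert
    Cfsg.Agent.ChevWeylData.e8 (by decide +kernel) [2, 8, 12, 14, 18, 20, 24, 30] (by decide +kernel) hH
  have hN : Cfsg.Lie.chevE8.nroots / 2 = 120 := rfl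
  rw [hN] at h
  simp only [List.map_cons, List.map_nil, List.prod_cons, List.prod_nil, mul_one, one_mul,
    Nat.gcd_comm (Fintype.card F - 1)] at h
  rw [h]
  simp only [mul_assoc]

end Cfsg.Agent.S1065
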