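import Cfsg.Statements.S1078
import Cfsg.Agent.Lib.StGroupTorus

set_option autoImplicit false
open Cfsg

namespace Cfsg.Agent.S1078

/-- For G₂, F₄, E₈ the presented group has trivial centre (the universal and adjoint groups coincide). -/
theorem result {K : Type*} [Field K] (D : Cfsg.Lie.ChevalleyDatum) (hD : D ∈ [Cfsg.Lie.chevG2, Cfsg.Lie.chevF4, Cfsg.Lie.chevE8]) :
    Subgroup.center (D.SteinbergGroup K) = ⊥ := by
  let C := ChevalleyAll.cert D (by
    simp only [List.mem_cons, List.not_mem_nil, or_false] at hD ⊢
    tauto)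
  have hG : StBasic.Gen D := by
    simp only [List.mem_cons, List.not_mem_nil, or_false] at hD
    rcases hD with rfl | rfl | rfl
    exacts [StGen.gen_G2, StGen.gen_F4, StGen.gen_E8]
  have ht : (ChevalleyTorus.torus D (F := K)).ker = ⊥ := by
    simp only [List.mem_cons, List.not_mem_nil, or_false] at hD
    rcases hD with rfl | rfl | rfl
    exacts [StGroupTorus.torus_ker_bot C K ChevalleyTorusCard.smithG2,
      StGroupTorus.torus_ker_bot C K ChevalleyTorusCard.smithF4,
      StGroupTorus.torus_ker_bot C K ChevalleyTorusCard.smithE8]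
  rw [← StBruhat.ker_eq_center (StGroup.sysSt C K) hG]
  exact StTorus.ker_eq_bot _ hG (StGroupTorus.hMul_st C K) ht

end Cfsg.Agent.S1078
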