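import Cfsg.Statements.S1080
-- import your own Cfsg.Agent.* helpers here

set_option autoImplicit false
open Cfsg

namespace Cfsg.Agent.S1080

open Cfsg.Lie

variable {F : Type*} [Field F] (D : ChevalleyDatum) (f : F ≃+* F)

lemma map_xMat (r : Fin D.nroots) (t : F) : (D.xMat F r t).map f = D.xMat F r (f t) := by
  ext row col
  rcases col with i | s <;> rcases row with i' | u <;>
    simp only [Matrix.map_apply, ChevalleyDatum.xMat, Matrix.of_apply] <;>
    split_ifs <;>
    simp [List.map_map, map_list_sum, Function.comp_def]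

lemma map_x (r : ℕ) (hr : r < D.nroots) (t : F) : (D.x F r t).map f = D.x F r (f t) := by
  rw [ChevalleyDatum.x, ChevalleyDatum.x, dif_pos hr, dif_pos hr, map_xMat]

/-- the entrywise action of a field automorphism on invertible matrices -/
def glMap : GL D.Idx F ≃* GL D.Idx F :=
  Units.mapEquiv ((f.mapMatrix (m := D.Idx)).toMulEquiv)

lemma glMap_coe (g : GL D.Idx F) :
    ((glMap D f g : GL D.Idx F) : Matrix D.Idx D.Idx F) = (g : Matrix D.Idx D.Idx F).map f := rfl

lemma glMap_le : (D.group F).map (glMap D f).toMonoidHom ≤ D.group F := by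
  rw [ChevalleyDatum.group, MonoidHom.map_closure, Subgroup.closure_le]
  rintro _ ⟨g, ⟨r, t, hg⟩, rfl⟩
  refine Subgroup.subset_closure ⟨r, f t, ?_⟩
  show ((glMap D f g : GL D.Idx F) : Matrix D.Idx D.Idx F) = _
  rw [glMap_coe, hg, map_xMat]

lemma glMap_inv (g : GL D.Idx F) : glMap D f (glMap D f.symm g) = g := by
  apply Units.ext
  rw [glMap_coe, glMap_coe, Matrix.map_map]
  ext i j
  simp [Matrix.map_apply]

lemma glMap_map_eq : (D.group F).map (glMap D f).toMonoidHom = D.group F := by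
  refine le_antisymm (glMap_le D f) fun g hg => ?_
  exact ⟨glMap D f.symm g, glMap_le D f.symm ⟨g, hg, rfl⟩, glMap_inv D f g⟩


/-- Field automorphisms: for every field automorphism `f` there is a group automorphism sending each `x_r(t)` to `x_r(f t)`. -/
theorem result {F : Type*} [Field F] (D : Cfsg.Lie.ChevalleyDatum) (hD : D ∈ [Cfsg.Lie.chevG2, Cfsg.Lie.chevB2, Cfsg.Lie.chevD4, Cfsg.Lie.chevF4, Cfsg.Lie.chevE6, Cfsg.Lie.chevE7, Cfsg.Lie.chevE8]) (f : F ≃+* F) :
    ∃ α : ↥(D.group F) ≃* ↥(D.group F), ∀ (g : ↥(D.group F)) (r : ℕ) (t : F), r < D.nroots →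
      ((g : GL D.Idx F) : Matrix D.Idx D.Idx F) = D.x F r t → ((α g : GL D.Idx F) : Matrix D.Idx D.Idx F) = D.x F r (f t) := by
  refine ⟨((glMap D f).subgroupMap (D.group F)).trans (MulEquiv.subgroupCongr (glMap_map_eq D f)), ?_⟩
  intro g r t hr hg
  show ((glMap D f (g : GL D.Idx F) : GL D.Idx F) : Matrix D.Idx D.Idx F) = _
  rw [glMap_coe, hg, map_x D f r hr]

end Cfsg.Agent.S1080
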