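import Cfsg.Statements.S1099
import Cfsg.Agent.Lib.ChevExcGraphReal

set_option autoImplicit false
open Cfsg

namespace Cfsg.Agent.S1099

/-- Graph automorphism of G₂ in characteristic 3 (K perfect): `x_a(t) ↦ x_b(t³)`, `x_b(t) ↦ x_a(t)`, `x_{-a}(t) ↦ x_{-b}(t³)`, `x_{-b}(t) ↦ x_{-a}(t)` extend to an automorphism of the group. -/
theorem result {K : Type*} [Field K] [CharP K 3] (hperf : ∀ x : K, ∃ y : K, y ^ 3 = x) :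
    ∃ α : ↥(Cfsg.Lie.chevG2.group K) ≃* ↥(Cfsg.Lie.chevG2.group K), ∀ (g : ↥(Cfsg.Lie.chevG2.group K)) (t : K),
      (((g : GL Cfsg.Lie.chevG2.Idx K) : Matrix _ _ K) = Cfsg.Lie.chevG2.x K Cfsg.Lie.g2a t →
        ((α g : GL Cfsg.Lie.chevG2.Idx K) : Matrix _ _ K) = Cfsg.Lie.chevG2.x K Cfsg.Lie.g2b (t ^ 3)) ∧
      (((g : GL Cfsg.Lie.chevG2.Idx K) : Matrix _ _ K) = Cfsg.Lie.chevG2.x K Cfsg.Lie.g2b t →
        ((α g : GL Cfsg.Lie.chevG2.Idx K) : Matrix _ _ K) = Cfsg.Lie.chevG2.x K Cfsg.Lie.g2a t) ∧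
      (((g : GL Cfsg.Lie.chevG2.Idx K) : Matrix _ _ K) = Cfsg.Lie.chevG2.x K Cfsg.Lie.g2ma t →
        ((α g : GL Cfsg.Lie.chevG2.Idx K) : Matrix _ _ K) = Cfsg.Lie.chevG2.x K Cfsg.Lie.g2mb (t ^ 3)) ∧
      (((g : GL Cfsg.Lie.chevG2.Idx K) : Matrix _ _ K) = Cfsg.Lie.chevG2.x K Cfsg.Lie.g2mb t →
        ((α g : GL Cfsg.Lie.chevG2.Idx K) : Matrix _ _ K) = Cfsg.Lie.chevG2.x K Cfsg.Lie.g2ma t) := by
  haveI : CharP K Cfsg.Agent.ChevExcGraphData.excG2.p := by assumption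
  obtain ⟨α, hα⟩ := Cfsg.Agent.ChevExcGraphReal.exists_simple_aut (F := K) (by simp)
    Cfsg.Agent.ChevExcGraphData.excG2 (Or.inr rfl) Cfsg.Agent.ChevExcGraphReal.onG2 hperf
  have hs : Cfsg.Lie.chevG2.simple 0 = Cfsg.Lie.g2a ∧ Cfsg.Lie.chevG2.simple 1 = Cfsg.Lie.g2b ∧
      Cfsg.Lie.chevG2.neg Cfsg.Lie.g2a = Cfsg.Lie.g2ma ∧ Cfsg.Lie.chevG2.neg Cfsg.Lie.g2b = Cfsg.Lie.g2mb ∧
      0 < Cfsg.Lie.chevG2.rank ∧ 1 < Cfsg.Lie.chevG2.rank := by decide +kernel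
  obtain ⟨s0, s1, n0, n1, r0, r1⟩ := hs
  refine ⟨α, fun g t => ?_⟩
  obtain ⟨a0, b0⟩ := hα g 0 t r0
  obtain ⟨a1, b1⟩ := hα g 1 t r1
  simp only [Cfsg.Agent.ChevExcGraphData.piG2, List.getD_cons_zero, List.getD_cons_succ, s0, s1, n0, n1,
    pow_one] at a0 b0 a1 b1
  exact ⟨a0, a1, b0, b1⟩

end Cfsg.Agent.S1099
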