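import Cfsg.Statements.S1100
import Cfsg.Agent.Lib.ChevBruhatInstance

set_option autoImplicit false
open Cfsg

namespace Cfsg.Agent.S1100

open Cfsg.Lie Cfsg.Agent.ChevBruhat

lemma closure_eq {F : Type*} [Field F] {D : ChevalleyDatum} (S : Sys D F)
    (n : ↥(D.monomialSubgroup F)) :
    Subgroup.closure {x : GL D.Idx F | ∃ (r : ℕ) (t : F), D.IsPosRoot r ∧
      (D.rootSubgroup F r).map (MulAut.conj (n : GL D.Idx F)).toMonoidHom ≤ D.negUnipotent F ∧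
        (x : Matrix D.Idx D.Idx F) = D.x F r t} = S.Uw (S.toW n) := by
  apply le_antisymm
  · refine (Subgroup.closure_le _).mpr ?_
    rintro x ⟨r, t, hr, hle, hx⟩
    refine Subgroup.subset_closure ⟨r, t, S.X.mem_invSet.mpr ⟨hr, ?_⟩, S.eq_xg.mp hx⟩
    refine (S.X.pos_or_neg (S.X.img_lt _ hr.1)).resolve_left fun hpos => ?_
    obtain ⟨c, hc, h1, -⟩ := S.acts_toW n r hr.1
    have hV := hle (Subgroup.mem_map.mpr
      ⟨S.xg r 1, Subgroup.subset_closure ⟨1, S.coe_xg r 1⟩, rfl⟩)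
    rw [MulEquiv.coe_toMonoidHom, MulAut.conj_apply, h1] at hV
    have hB := Subgroup.mem_inf.mpr ⟨Sys.U_le_B (S.xg_mem_U hpos (c * 1)), hV⟩
    rw [S.B_inf_V, Subgroup.mem_bot] at hB
    exact hc (by simpa using S.xg_eq_one (S.X.img_lt _ hr.1) hB)
  · refine (Subgroup.closure_le _).mpr ?_
    rintro x ⟨r, t, hr, rfl⟩
    rw [S.X.mem_invSet] at hr
    refine Subgroup.subset_closure ⟨r, t, hr.1, ?_, S.coe_xg r t⟩
    rw [Subgroup.map_le_iff_le_comap]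
    refine (Subgroup.closure_le _).mpr ?_
    rintro y ⟨s, hy⟩
    rw [SetLike.mem_coe, Subgroup.mem_comap, S.eq_xg.mp hy, MulEquiv.coe_toMonoidHom,
      MulAut.conj_apply]
    obtain ⟨c, hc, h1, -⟩ := S.acts_toW n r hr.1.1
    rw [h1]
    exact S.xg_mem_V hr.2 _


/-- Canonical form `g = b n_w u` (`b ∈ B`, `u ∈ U_w⁻ = ⟨X_r : r > 0, n_w X_r n_w⁻¹ ≤ V⟩`): such a decomposition exists for every element of the group; the coset `n_w H` is determined by `g`; and for a fixed representative `n_w` the factors `b`, `u` are unique. -/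
theorem result {F : Type*} [Field F] (D : Cfsg.Lie.ChevalleyDatum) (hD : D ∈ [Cfsg.Lie.chevG2, Cfsg.Lie.chevB2, Cfsg.Lie.chevD4, Cfsg.Lie.chevF4, Cfsg.Lie.chevE6, Cfsg.Lie.chevE7, Cfsg.Lie.chevE8]) :
    (∀ g ∈ D.group F, ∃ b ∈ D.borelSubgroup F, ∃ n ∈ D.monomialSubgroup F,
      ∃ u ∈ Subgroup.closure {x : GL D.Idx F | ∃ (r : ℕ) (t : F), D.IsPosRoot r ∧
            (D.rootSubgroup F r).map (MulAut.conj n).toMonoidHom ≤ D.negUnipotent F ∧ (x : Matrix D.Idx D.Idx F) = D.x F r t},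
        g = b * n * u) ∧
    (∀ (b b' n n' u u' : GL D.Idx F), b ∈ D.borelSubgroup F → b' ∈ D.borelSubgroup F →
      n ∈ D.monomialSubgroup F → n' ∈ D.monomialSubgroup F →
      u ∈ Subgroup.closure {x : GL D.Idx F | ∃ (r : ℕ) (t : F), D.IsPosRoot r ∧
            (D.rootSubgroup F r).map (MulAut.conj n).toMonoidHom ≤ D.negUnipotent F ∧ (x : Matrix D.Idx D.Idx F) = D.x F r t} →
      u' ∈ Subgroup.closure {x : GL D.Idx F | ∃ (r : ℕ) (t : F), D.IsPosRoot r ∧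
            (D.rootSubgroup F r).map (MulAut.conj n').toMonoidHom ≤ D.negUnipotent F ∧ (x : Matrix D.Idx D.Idx F) = D.x F r t} →
      b * n * u = b' * n' * u' → n⁻¹ * n' ∈ D.diagonalSubgroup F ∧ (n = n' → b = b' ∧ u = u')) := by
  have S := Cfsg.Agent.ChevBruhatInstance.sys D hD F
  constructor
  · intro g hg
    obtain ⟨b, hb, n, u, hu, rfl⟩ := S.exists_cell_form hg
    exact ⟨b, hb, n, n.2, u, (closure_eq S n).symm ▸ hu, rfl⟩
  · intro b b' n n' u u' hb hb' hn hn' hu hu' h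
    have hu1 := (closure_eq S ⟨n, hn⟩).le hu
    have hu1' := (closure_eq S ⟨n', hn'⟩).le hu'
    refine ⟨S.toW_eq_iff.mp (S.toW_unique hb hb' (Cfsg.Agent.ChevBruhat.Sys.U_le_B (S.Uw_le_U _ hu1))
      (Cfsg.Agent.ChevBruhat.Sys.U_le_B (S.Uw_le_U _ hu1')) (n := ⟨n, hn⟩) (n' := ⟨n', hn'⟩) h), ?_⟩
    rintro rfl
    exact S.form_unique ⟨n, hn⟩ hb hb' hu1 hu1' h

end Cfsg.Agent.S1100
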