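import Cfsg.Statements.S1101
import Cfsg.Agent.Lib.ReeSimple17

set_option autoImplicit false
open Cfsg

namespace Cfsg.Agent.S1101

/-- For ²G₂ over `K` with `|K| = 3^(2m+1)`, `θ = 3^m`: `U¹ = G¹ ∩ U` consists exactly of the elements `x_a(t^θ) x_b(t) x_{a+b}(t^{θ+1}+u^θ) x_{2a+b}(t^{2θ+1}+v^θ) x_{3a+b}(u) x_{3a+2b}(v)`, `t, u, v ∈ K`, and it has `|K|³` elements. -/
theorem result {K : Type*} [Field K] [Fintype K] {m : ℕ} (hK : Fintype.card K = 3 ^ (2 * m + 1)) :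
    (∀ g : GL Cfsg.Lie.chevG2.Idx K, g ∈ Cfsg.Lie.chevG2.posUnipotent K ⊓ Cfsg.Lie.twistedG2 K (3 ^ m) ↔
      ∃ t u v : K, (g : Matrix Cfsg.Lie.chevG2.Idx Cfsg.Lie.chevG2.Idx K) = Cfsg.Lie.chevG2.wordMat K (Cfsg.Lie.reeWordU (3 ^ m) t u v)) ∧
    Nat.card ↥(Cfsg.Lie.chevG2.posUnipotent K ⊓ Cfsg.Lie.twistedG2 K (3 ^ m)) = (3 ^ (2 * m + 1)) ^ 3 := by
  haveI : Fact (Nat.Prime 3) := ⟨Nat.prime_three⟩
  haveI : CharP K 3 := charP_of_card_eq_prime_pow (f := 2 * m + 1) (by rw [hK])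
  obtain ⟨X, hX⟩ := Cfsg.Agent.ReeInstance17.exists_ctx hK
  rw [← hX]
  refine ⟨fun g => ?_, by rw [X.card_U1, hK]⟩
  constructor
  · intro hg
    obtain ⟨t, u, v, rfl⟩ := X.mem_U1 hg
    refine ⟨t, u, v, ?_⟩
    rw [X.gen_eq]
    exact Cfsg.Agent.ChevalleyCore.coe_wg Cfsg.Agent.ReeSL2.c2 _
  · rintro ⟨t, u, v, h⟩
    have he := X.gen_eq false t u v
    have : g = Cfsg.Agent.ReeTwist17.gen X.θ false t u v := Units.ext (by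
      rw [he, Cfsg.Agent.ChevalleyCore.coe_wg]; exact h)
    rw [this]
    exact Cfsg.Agent.ReeSimple17.gen_U1 X t u v

end Cfsg.Agent.S1101
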