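import Cfsg.Statements.S1118
import Cfsg.Agent.Lib.RankOneSetup

set_option autoImplicit false
open Cfsg

namespace Cfsg.Agent.S1118

/-- In the rank-one set-up (`G` finite and doubly transitive on `Ω`, `t` an involution moving `a`, `Q` normal in `G_a` with `G_a = Q D`, `Q ⊓ D = 1` for the two-point stabiliser `D = G_a ⊓ G_{t • a}`, `|Q|` even, `|D|` odd), the normaliser of a subset of `Q` containing a non-identity element lies in `G_a`; consequently `N_G(Q) = N_G(G_a) = G_a`. -/
theorem result {G Ω : Type*} [Group G] [Finite G] [MulAction G Ω] {a : Ω} {t : G} {Q : Subgroup G}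
    (hS : Cfsg.IsRankOneSetup G Ω a t Q) :
    (∀ X : Set G, X ⊆ (Q : Set G) → (∃ x ∈ X, x ≠ 1) → Subgroup.normalizer X ≤ MulAction.stabilizer G a) ∧
      Subgroup.normalizer (Q : Set G) = MulAction.stabilizer G a ∧
      Subgroup.normalizer (MulAction.stabilizer G a : Set G) = MulAction.stabilizer G a := by
  open RankOneSetup in
  have key : ∀ X : Set G, X ⊆ (Q : Set G) → (∃ x ∈ X, x ≠ 1) →
      Subgroup.normalizer X ≤ MulAction.stabilizer G a := by
    rintro X hX ⟨x, hx, hx1⟩ g hg
    have h2 : (g * x * g⁻¹) • a = a := smul_a hS (hX (((Subgroup.mem_set_normalizer_iff.1 hg) x).1 hx))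
    have h3 : g⁻¹ • a = a := fix_eq_a hS (hX hx) hx1 (c := g⁻¹ • a) (by
      rw [mul_smul, mul_smul, ← eq_inv_smul_iff] at h2
      exact h2)
    exact (inv_smul_eq_iff.1 h3).symm
  obtain ⟨q, hq, hq1⟩ := (Subgroup.bot_or_exists_ne_one Q).resolve_left (RankOneSetup.q_ne_bot hS)
  refine ⟨key, le_antisymm (key _ subset_rfl ⟨q, hq, hq1⟩) ?_, le_antisymm ?_ Subgroup.le_normalizer⟩
  · intro g hg
    rw [Subgroup.mem_normalizer_iff]
    intro n
    refine ⟨hS.conj_mem g hg n, fun hn => ?_⟩
    simpa [mul_assoc] using hS.conj_mem g⁻¹ (inv_mem hg) _ hn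
  · intro g hg
    have h : (g⁻¹ * q * g) • a = a :=
      (Subgroup.mem_normalizer_iff.1 hg (g⁻¹ * q * g)).2 (by simpa [mul_assoc] using hS.le hq)
    have : g • a = a := RankOneSetup.fix_eq_a hS hq hq1 (by
      rw [mul_smul, mul_smul, inv_smul_eq_iff] at h
      exact h)
    exact this

end Cfsg.Agent.S1118
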