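import Cfsg.Statements.S1119
import Cfsg.Agent.Lib.RankOneSetup

set_option autoImplicit false
open Cfsg

namespace Cfsg.Agent.S1119

/-- In the rank-one set-up (`G` finite and doubly transitive on `Ω`, `t` an involution moving `a`, `Q` normal in `G_a` with `G_a = Q D`, `Q ⊓ D = 1` for the two-point stabiliser `D = G_a ⊓ G_{t • a}`, `|Q|` even, `|D|` odd): `Q` acts regularly on `Ω` minus `a`; hence `|Ω| = |Q| + 1`, `|G| = |Q| |D| (|Q| + 1)`, some Sylow 2-subgroup of `G` lies in `Q`, and each `g ∉ G_a` is uniquely `x t y` with `x ∈ G_a`, `y ∈ Q` (canonical form). -/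
theorem result {G Ω : Type*} [Group G] [Finite G] [MulAction G Ω] {a : Ω} {t : G} {Q : Subgroup G}
    (hS : Cfsg.IsRankOneSetup G Ω a t Q) :
    (∀ b c : Ω, b ≠ a → c ≠ a → ∃! x : Q, (x : G) • b = c) ∧
      Nat.card Ω = Nat.card Q + 1 ∧
      Nat.card G = Nat.card Q * Nat.card ↥(MulAction.stabilizer G a ⊓ MulAction.stabilizer G (t • a)) * (Nat.card Q + 1) ∧
      (∃ P : Sylow 2 G, (P : Subgroup G) ≤ Q) ∧
      ∀ g : G, g ∉ MulAction.stabilizer G a → ∃! p : G × G, p.1 ∈ MulAction.stabilizer G a ∧ p.2 ∈ Q ∧ g = p.1 * t * p.2 := by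
  open RankOneSetup in
  refine ⟨fun b c hb hc => ?_, card_omega hS, ?_, ?_, fun g hg => ?_⟩
  · obtain ⟨q, hq, he⟩ := exists_q_between hS hb hc
    exact ⟨⟨q, hq⟩, he, fun q' he' => Subtype.ext (eq_of_smul_eq hS q'.2 hq hb (he'.trans he.symm))⟩
  · have := finite_omega hS
    have e1 : Nat.card G = Nat.card Ω * Nat.card (MulAction.stabilizer G a) := by
      rw [mul_comm, ← (MulAction.stabilizer G a).card_mul_index, MulAction.index_stabilizer]
      congr 1
      have : MulAction.orbit G a = Set.univ := Set.eq_univ_of_forall fun c => exists_smul_eq_a hS c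
      rw [this, Set.ncard_univ]
    have e2 : Nat.card (MulAction.stabilizer G a) = Nat.card Q * Nat.card (twoPt G a t) := by
      rw [← Nat.card_prod]
      refine (Nat.card_eq_of_bijective (fun p : Q × twoPt G a t =>
        (⟨p.1 * p.2, mul_mem (hS.le p.1.2) p.2.2.1⟩ : MulAction.stabilizer G a)) ⟨?_, ?_⟩).symm
      · intro p p' h
        obtain ⟨h1, h2⟩ := decompose_unique hS p.1.2 p'.1.2 p.2.2 p'.2.2 (congrArg Subtype.val h)
        exact Prod.ext (Subtype.ext h1) (Subtype.ext h2)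
      · rintro ⟨g, hg⟩
        obtain ⟨q, hq, d, hd, rfl⟩ := decompose hS hg
        exact ⟨⟨⟨q, hq⟩, ⟨d, hd⟩⟩, rfl⟩
    rw [e1, e2, card_omega hS]
    ring
  · obtain ⟨P⟩ : Nonempty (Sylow 2 G) := inferInstance
    obtain ⟨c, hc⟩ := IsPGroup.nonempty_fixed_point_of_prime_not_dvd_card P.2 Ω (by
      rw [card_omega hS, ← even_iff_two_dvd, Nat.not_even_iff_odd]
      exact Even.add_one hS.even_card)
    obtain ⟨g, rfl⟩ := exists_smul_eq_a hS c
    refine ⟨g⁻¹ • P, ?_⟩
    intro x hx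
    rw [Sylow.coe_subgroup_smul, Subgroup.mem_pointwise_smul_iff_inv_smul_mem] at hx
    have hx' : g * x * g⁻¹ ∈ P := by simp [MulAut.smul_def] at hx; exact hx
    have hfix : x • a = a := by
      have h1 : (g * x * g⁻¹) • (g • a) = g • a := hc ⟨_, hx'⟩
      rwa [mul_smul, mul_smul, inv_smul_smul, smul_left_cancel_iff] at h1
    obtain ⟨k, hk⟩ := P.2 ⟨_, hx'⟩
    have hxk : x ^ 2 ^ k = 1 := by
      have := congrArg Subtype.val hk
      simp only [SubgroupClass.coe_pow, conj_pow, OneMemClass.coe_one, conj_eq_one_iff] at this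
      exact this
    obtain ⟨q, hq, d, hd, rfl⟩ := decompose hS hfix
    have hpow : ∀ n : ℕ, ∃ q' ∈ Q, (q * d) ^ n = q' * d ^ n := by
      intro n
      induction n with
      | zero => exact ⟨1, Q.one_mem, by simp⟩
      | succ n ih =>
        obtain ⟨q', hq', he⟩ := ih
        refine ⟨q' * (d ^ n * q * (d ^ n)⁻¹),
          Q.mul_mem hq' (twoPt_mul_q hS hq ((twoPt G a t).pow_mem hd n)), ?_⟩
        rw [pow_succ, he, pow_succ]; group
    obtain ⟨q', hq', he⟩ := hpow (2 ^ k)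
    rw [hxk] at he
    have hd2 : d ^ 2 ^ k = 1 :=
      (decompose_unique hS Q.one_mem hq' (one_mem _) ((twoPt G a t).pow_mem hd _)
        ((one_mul 1).trans he)).2.symm
    have h4 : orderOf d ∣ Nat.gcd (2 ^ k) (Nat.card (twoPt G a t)) :=
      Nat.dvd_gcd (orderOf_dvd_of_pow_eq_one hd2) (Subgroup.orderOf_dvd_natCard _ hd)
    rw [Nat.Coprime.gcd_eq_one (Nat.Coprime.pow_left _ (Nat.coprime_two_left.2 hS.odd_card)),
      Nat.dvd_one, orderOf_eq_one_iff] at h4
    rw [h4, mul_one]; exact hq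
  · have hga : g⁻¹ • a ≠ a := fun h => hg (inv_smul_eq_iff.1 h).symm
    obtain ⟨q, hq, he⟩ := exists_q hS hga
    refine ⟨(g * q * t, q⁻¹), ⟨?_, Q.inv_mem hq, ?_⟩, ?_⟩
    · show (g * q * t) • a = a
      rw [mul_smul, mul_smul, he, smul_inv_smul]
    · simp [mul_assoc, hS.mul_self]
    · rintro ⟨p, f⟩ ⟨hp, hf, rfl⟩
      have hp' : p • a = a := hp
      have : f⁻¹ = q := eq_of_smul_eq hS (Q.inv_mem hf) hq (b_ne hS) (by
        rw [he, mul_inv_rev, mul_inv_rev, t_inv hS, mul_smul, mul_smul,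
          inv_smul_eq_iff.2 hp'.symm])
      subst this
      simp [mul_assoc, hS.mul_self]

end Cfsg.Agent.S1119
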