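import Cfsg.Statements.S1120
import Cfsg.Agent.Lib.RankOneSetup

set_option autoImplicit false
open Cfsg

namespace Cfsg.Agent.S1120

/-- In the rank-one set-up (`G` finite and doubly transitive on `Ω`, `t` an involution moving `a`, `Q` normal in `G_a` with `G_a = Q D`, `Q ⊓ D = 1` for the two-point stabiliser `D = G_a ⊓ G_{t • a}`, `|Q|` even, `|D|` odd), if `G` has 2-rank at least 2 then `O_{2'}(G)` equals the normal core of `G_a`. -/
theorem result {G Ω : Type*} [Group G] [Finite G] [MulAction G Ω] {a : Ω} {t : G} {Q : Subgroup G}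
    (hS : Cfsg.IsRankOneSetup G Ω a t Q)
    (h2 : ∃ x y : G, x ≠ 1 ∧ y ≠ 1 ∧ x ≠ y ∧ x * x = 1 ∧ y * y = 1 ∧ x * y = y * x) :
    Cfsg.pPrimeCore 2 G = (MulAction.stabilizer G a).normalCore := by
  open RankOneSetup in
  have hkd : (MulAction.stabilizer G a).normalCore ≤ twoPt G a t := by
    intro g hg
    refine mem_twoPt.2 ⟨Subgroup.normalCore_le _ hg, ?_⟩
    have : (t * g * t⁻¹) • a = a := hg t
    rw [t_inv hS, mul_smul, mul_smul] at this
    have := congrArg (fun c => t • c) this
    simpa [smul_smul, ← mul_assoc, hS.mul_self] using this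
  unfold Cfsg.pPrimeCore
  refine le_antisymm (sSup_le ?_) (le_sSup ⟨Subgroup.normalCore_normal _, ?_⟩)
  · rintro N ⟨hN, hcop⟩
    rw [Subgroup.normal_le_normalCore]
    by_contra hle
    obtain ⟨g, hg, hga⟩ := SetLike.not_le_iff_exists.1 hle
    obtain ⟨x, y, hx1, hy1, hxy, hx, hy, hcomm⟩ := h2
    obtain ⟨c, hxc⟩ := RankOneSetup.exists_fix hS hx
    obtain ⟨k, hk⟩ := RankOneSetup.exists_smul_eq_a hS c
    let n := k * g * k⁻¹
    have hn : n ∈ N := hN.conj_mem g hg k
    have hnc : n • c ≠ c := fun h => hga (by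
      show g • a = a
      rw [← hk] at h
      simpa only [n, mul_smul, inv_smul_smul, smul_left_cancel_iff] using h)
    have hyc : y • c = c := RankOneSetup.fix_unique hS hx1 hx
      (by rw [← mul_smul, hcomm, mul_smul, hxc]) hxc
    let w := n * y * n⁻¹
    have hw : w * w = 1 := by
      calc w * w = n * (y * y) * n⁻¹ := by simp only [w]; group
        _ = 1 := by rw [hy]; group
    have hw1 : w ≠ 1 := fun h => hy1 (by simpa [w] using h)
    have hwc : w • c ≠ c := by
      intro h
      refine hnc (RankOneSetup.fix_unique hS hw1 hw ?_ h)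
      simp only [w, mul_smul, inv_smul_smul, hyc]
    have hodd := RankOneSetup.odd_orderOf_mul hS hx hw hx1 hw1 hxc hwc
    let π := QuotientGroup.mk' N
    have hπ : π (x * w) = π (x * y) := by
      have h1 : π n = 1 := (QuotientGroup.eq_one_iff n).2 hn
      simp only [w, map_mul, map_inv, h1, one_mul, inv_one, mul_one]
    have hz2 : (x * y) * (x * y) = 1 := by
      calc x * y * (x * y) = x * (y * x) * y := by group
        _ = x * (x * y) * y := by rw [hcomm]
        _ = (x * x) * (y * y) := by group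
        _ = 1 := by rw [hx, hy, one_mul]
    have ho : orderOf (π (x * y)) ∣ 1 := by
      rw [← Nat.Coprime.gcd_eq_one (Nat.coprime_two_left.2 hodd)]
      refine Nat.dvd_gcd (orderOf_dvd_of_pow_eq_one ?_) ?_
      · rw [← map_pow, pow_two, hz2, map_one]
      · rw [← hπ]; exact orderOf_map_dvd π _
    rw [Nat.dvd_one, orderOf_eq_one_iff] at ho
    have hmem : x * y ∈ N := (QuotientGroup.eq_one_iff _).1 ho
    have hoddN : Odd (Nat.card N) := Nat.coprime_two_right.1 hcop
    have h1 := RankOneSetup.eq_one_of_sq hoddN hmem hz2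
    exact hxy (by
      rw [mul_eq_one_iff_eq_inv, inv_eq_of_mul_eq_one_left hy] at h1; exact h1)
  · exact Nat.Coprime.coprime_dvd_left (Subgroup.card_dvd_of_le hkd)
      (Nat.coprime_two_right.2 hS.odd_card)

end Cfsg.Agent.S1120
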