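import Cfsg.Statements.S1123
import Cfsg.Agent.Lib.RankOneSetup

set_option autoImplicit false
open Cfsg

namespace Cfsg.Agent.S1123

/-- In the rank-one set-up (`G` finite and doubly transitive on `Ω`, `t` an involution moving `a`, `Q` normal in `G_a` with `G_a = Q D`, `Q ⊓ D = 1` for the two-point stabiliser `D = G_a ⊓ G_{t • a}`, `|Q|` even, `|D|` odd), there is a unique pair `(s, r)` with `s` an involution of `G_a`, `r ∈ Q` and `t s t = r⁻¹ t r`. -/
theorem result {G Ω : Type*} [Group G] [Finite G] [MulAction G Ω] {a : Ω} {t : G} {Q : Subgroup G}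
    (hS : Cfsg.IsRankOneSetup G Ω a t Q) :
    ∃! p : G × G, p.1 ∈ Cfsg.involutionsIn (MulAction.stabilizer G a : Set G) ∧ p.2 ∈ Q ∧
      t * p.1 * t = p.2⁻¹ * t * p.2 := by
  have ht : RankOneSetup.IsSwap a t t := ⟨hS.mul_self, rfl⟩
  obtain ⟨s, hs, r, hr, he⟩ := RankOneSetup.phi_surj hS ht
  refine ⟨(s, r), ⟨hs, hr, ?_⟩, ?_⟩
  · show t * s * t = r⁻¹ * t * r
    calc t * s * t = r⁻¹ * (r * (t * s * t) * r⁻¹) * r := by group
      _ = r⁻¹ * t * r := by rw [he]
  · rintro ⟨s', r'⟩ ⟨hs', hr', he'⟩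
    have he2 : r' * (t * s' * t) * r'⁻¹ = t := by simp only at he'; rw [he']; group
    obtain ⟨h1, h2⟩ := RankOneSetup.phi_inj hS hs' hs hr' hr (he2.trans he.symm)
    exact Prod.ext h2 h1

end Cfsg.Agent.S1123
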