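import Cfsg.Statements.S1125
import Cfsg.Agent.Lib.RankOneSetup

set_option autoImplicit false
open Cfsg

namespace Cfsg.Agent.S1125

/-- In the rank-one set-up (`G` finite and doubly transitive on `Ω`, `t` an involution moving `a`, `Q` normal in `G_a` with `G_a = Q D`, `Q ⊓ D = 1` for the two-point stabiliser `D = G_a ⊓ G_{t • a}`, `|Q|` even, `|D|` odd), let `X ⊆ D` fix at least three points of `Ω`. Then `C_G(X)` is doubly transitive on the fixed-point set of `X`, `|C_Q(X)|` is even, and `C_{G_a}(X) = C_Q(X) C_D(X)`. -/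
theorem result {G Ω : Type*} [Group G] [Finite G] [MulAction G Ω] {a : Ω} {t : G} {Q : Subgroup G}
    (hS : Cfsg.IsRankOneSetup G Ω a t Q)
    (X : Set G) (hX : X ⊆ ((MulAction.stabilizer G a ⊓ MulAction.stabilizer G (t • a)) : Set G))
    (h3 : ∃ b c d : Ω, b ≠ c ∧ b ≠ d ∧ c ≠ d ∧ ∀ x ∈ X, x • b = b ∧ x • c = c ∧ x • d = d) :
    (∀ b₁ b₂ c₁ c₂ : Ω, (∀ x ∈ X, x • b₁ = b₁ ∧ x • b₂ = b₂ ∧ x • c₁ = c₁ ∧ x • c₂ = c₂) →
        b₁ ≠ b₂ → c₁ ≠ c₂ → ∃ g ∈ Subgroup.centralizer X, g • b₁ = c₁ ∧ g • b₂ = c₂) ∧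
      Even (Nat.card ↥(Subgroup.centralizer X ⊓ Q)) ∧
      (Subgroup.centralizer X ⊓ Q) ⊔ (Subgroup.centralizer X ⊓ (MulAction.stabilizer G a ⊓ MulAction.stabilizer G (t • a))) = Subgroup.centralizer X ⊓ MulAction.stabilizer G a := by
  open RankOneSetup in
  refine ⟨fun b₁ b₂ c₁ c₂ hfix hb hc => exists_centralizing_map hS h3 hfix hb hc, ?_, ?_⟩
  · obtain ⟨v, hv, hvs⟩ := exists_centralizing_swap hS hX h3
    obtain ⟨e, he⟩ := exists_fix hS hvs.1
    have hea : e ≠ a := fun h => b_ne hS (by rw [← hvs.2]; rw [h] at he; exact he)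
    have hev : ∀ x ∈ X, x • e = e := fun x hx =>
      fix_unique hS (swap_ne_one hS hvs) hvs.1
        (by rw [← mul_smul, ← Subgroup.mem_centralizer_iff.1 hv x hx, mul_smul, he]) he
    have ha' : ∀ x ∈ X, x • a = a := fun x hx => (mem_twoPt.1 (hX hx)).1
    obtain ⟨g, hg, hge, -⟩ := exists_centralizing_map hS h3 (b₁ := e) (b₂ := a) (c₁ := a)
      (c₂ := e) (fun x hx => ⟨hev x hx, ha' x hx, ha' x hx, hev x hx⟩) hea hea.symm
    have hw : g * v * g⁻¹ ∈ Subgroup.centralizer X ⊓ Q := by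
      refine ⟨Subgroup.mul_mem _ (Subgroup.mul_mem _ hg hv) (Subgroup.inv_mem _ hg), invol_mem_q hS ?_ ?_⟩
      · rw [mul_smul, mul_smul, inv_smul_eq_iff.2 hge.symm, he, hge]
      · calc g * v * g⁻¹ * (g * v * g⁻¹) = g * (v * v) * g⁻¹ := by group
          _ = 1 := by rw [hvs.1]; group
    have ho : orderOf (g * v * g⁻¹) = 2 := by
      refine orderOf_eq_prime ?_ (fun h => swap_ne_one hS hvs (conj_eq_one_iff.1 h))
      rw [conj_pow, pow_two, hvs.1]; group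
    exact even_iff_two_dvd.2 (ho ▸ Subgroup.orderOf_dvd_natCard _ hw)
  · refine le_antisymm (sup_le (inf_le_inf le_rfl hS.le) (inf_le_inf le_rfl inf_le_left)) ?_
    rintro g ⟨hgc, hga⟩
    obtain ⟨q, hq, d, hd, rfl⟩ := decompose hS hga
    have key : ∀ x ∈ X, x * q = q * x ∧ x * d = d * x := fun x hx => by
      have hxD : x ∈ twoPt G a t := hX hx
      have h1 : x * (q * d) = q * d * x := Subgroup.mem_centralizer_iff.1 hgc x hx
      have h2 : (x * q * x⁻¹) * (x * d * x⁻¹) = q * d :=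
        calc _ = x * (q * d) * x⁻¹ := by group
          _ = q * d := by rw [h1]; group
      obtain ⟨e1, e2⟩ := decompose_unique hS (twoPt_mul_q hS hq hxD) hq
        (mul_mem (mul_mem hxD hd) (inv_mem hxD)) hd h2
      exact ⟨mul_inv_eq_iff_eq_mul.1 e1, mul_inv_eq_iff_eq_mul.1 e2⟩
    exact Subgroup.mul_mem_sup
      ⟨Subgroup.mem_centralizer_iff.2 fun x hx => (key x hx).1, hq⟩
      ⟨Subgroup.mem_centralizer_iff.2 fun x hx => (key x hx).2, hd⟩

end Cfsg.Agent.S1125
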