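import Cfsg.Statements.S1126
import Cfsg.Agent.Lib.RankOneSetup

set_option autoImplicit false
open Cfsg

namespace Cfsg.Agent.S1126

/-- In the rank-one set-up (`G` finite and doubly transitive on `Ω`, `t` an involution moving `a`, `Q` normal in `G_a` with `G_a = Q D`, `Q ⊓ D = 1` for the two-point stabiliser `D = G_a ⊓ G_{t • a}`, `|Q|` even, `|D|` odd), a subset `X ⊆ D` fixing at least three points of `Ω` is conjugate by an element of `D` into `V = C_D(t)`. -/
theorem result {G Ω : Type*} [Group G] [Finite G] [MulAction G Ω] {a : Ω} {t : G} {Q : Subgroup G}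
    (hS : Cfsg.IsRankOneSetup G Ω a t Q)
    (X : Set G) (hX : X ⊆ ((MulAction.stabilizer G a ⊓ MulAction.stabilizer G (t • a)) : Set G))
    (h3 : ∃ b c d : Ω, b ≠ c ∧ b ≠ d ∧ c ≠ d ∧ ∀ x ∈ X, x • b = b ∧ x • c = c ∧ x • d = d) :
    ∃ k ∈ (MulAction.stabilizer G a ⊓ MulAction.stabilizer G (t • a)), ∀ x ∈ X, (k * x * k⁻¹) * t = t * (k * x * k⁻¹) := by
  obtain ⟨v, hv, hvs⟩ := RankOneSetup.exists_centralizing_swap hS hX h3
  obtain ⟨i, hi, rfl⟩ := (RankOneSetup.swap_iff hS).1 hvs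
  have hit : t * i * t = i⁻¹ := by simpa [RankOneSetup.t_inv hS] using hi.2
  obtain ⟨k, hk, hk2⟩ := RankOneSetup.exists_inverted_mid hS.odd_card hS.mul_self
    (fun x hx => RankOneSetup.t_conj hS hx) hi
    (a₂ := 1) ⟨one_mem _, by simp⟩
  rw [mul_one] at hk2
  have hkt : t * k * t = k⁻¹ := by simpa [RankOneSetup.t_inv hS] using hk.2
  refine ⟨k, hk.1, fun x hx => ?_⟩
  have hc : x * (t * i) = t * i * x := Subgroup.mem_centralizer_iff.1 hv x hx
  have e : t * i = k⁻¹ * t * k := by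
    rw [← hkt, ← hk2]
    calc t * (k * k) = (t * k) * k := by group
      _ = t * k * (t * t) * k := by rw [hS.mul_self, mul_one]
      _ = t * k * t * t * k := by group
  rw [e] at hc
  calc k * x * k⁻¹ * t = k * (x * (k⁻¹ * t * k)) * k⁻¹ := by group
    _ = t * (k * x * k⁻¹) := by rw [hc]; group

end Cfsg.Agent.S1126
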