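import Cfsg.Statements.S1138
import Cfsg.Agent.Lib.SuzukiHigmanOrder

set_option autoImplicit false
open Cfsg

namespace Cfsg.Agent.S1138

/-- Let `P` be a Suzuki 2-group with `|Z(P)| = q`. Then every square lies in `Z(P)` and `P/Z(P)` is abelian (so elementary abelian), `|P| = q²` or `|P| = q³`, and `P` has exponent 4. -/
theorem result {P : Type*} [Group P] (hP : Cfsg.IsSuzukiTwoGroup P) :
    (∀ x : P, x * x ∈ Subgroup.center P) ∧ (∀ x y : P, x⁻¹ * y⁻¹ * x * y ∈ Subgroup.center P) ∧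
      (Nat.card P = Nat.card (Subgroup.center P) ^ 2 ∨ Nat.card P = Nat.card (Subgroup.center P) ^ 3) ∧
      Monoid.exponent P = 4 := by
  obtain ⟨hfin, hp, hnc, htwo, K, hK, hreg⟩ := hP
  have hS : SuzukiTwo.Setup P K := ⟨hp, hnc, htwo, hK, hreg⟩
  refine ⟨SuzukiHigmanClass.sq_mem_center hS, SuzukiHigmanClass.commutator_mem_center hS,
    SuzukiHigmanOrder.natCard_eq hS, ?_⟩
  have h4 : Monoid.exponent P ∣ 2 ^ 2 :=
    Monoid.exponent_dvd_of_forall_pow_eq_one fun x => SuzukiHigmanClass.pow_four hS x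
  obtain ⟨i, hi, he⟩ := (Nat.dvd_prime_pow Nat.prime_two).1 h4
  have h2 : ¬ Monoid.exponent P ∣ 2 := fun h => by
    obtain ⟨x, y, hxy⟩ := hnc
    have hc : ∀ g : P, g ∈ Subgroup.center P := fun g =>
      SuzukiTwo.mem_center_of_invol hS (by rw [← pow_two]; exact Monoid.exponent_dvd_iff_forall_pow_eq_one.1 h g)
    exact hxy (Subgroup.mem_center_iff.1 (hc x) y).symm
  rw [he] at h2 ⊢
  interval_cases i <;> simp_all

end Cfsg.Agent.S1138
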