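import Cfsg.Statements.S1139
import Cfsg.Agent.Lib.SuzukiTwoGroup
import Cfsg.Agent.Lib.SuzukiTypeA
import Cfsg.Agent.Lib.AdditiveCharTwo

set_option autoImplicit false
open Cfsg

namespace Cfsg.Agent.S1139

/-- A Suzuki 2-group `P` with `|P| = |Z(P)|²` is of type A: for some finite field `F` with `|F| = |Z(P)|` and some field automorphism `φ ≠ 1` of odd order, `P` is isomorphic to the group of lower unitriangular matrices with rows `(1,0,0)`, `(x,1,0)`, `(y, φ x, 1)`. -/
theorem result {P : Type*} [Group P] (hP : Cfsg.IsSuzukiTwoGroup P)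
    (hcard : Nat.card P = Nat.card (Subgroup.center P) ^ 2) :
    ∃ (F : Type) (_ : Field F) (_ : Fintype F) (φ : F ≃+* F), Fintype.card F = Nat.card (Subgroup.center P) ∧
      φ ≠ RingEquiv.refl F ∧ Odd (orderOf φ) ∧ Nonempty (P ≃* Cfsg.suzukiTypeA F (φ : F →+* F)) := by
  classical
  obtain ⟨hfin, hp, hnc, htwo, K, hKcyc, hreg⟩ := hP
  have hS : SuzukiTwo.Setup P K := ⟨hp, hnc, htwo, hKcyc, hreg⟩
  have hz2 := SuzukiTwo.center_sq hS
  have hKc : ∀ k l : K, k * l = l * k := fun k l =>
    Subtype.ext (MulEquiv.ext fun x => SuzukiTwo.k_comm hS k l x)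
  -- the centre
  let Z : Subgroup P := Subgroup.center P
  have hZinv : ∀ (k : K) (x : P), x ∈ Z → (k : MulAut P) x ∈ Z := fun k x hx =>
    SuzukiTwo.mem_center_of_invol hS (SuzukiTwo.invol_map _ (hz2 x hx))
  obtain ⟨n, hn⟩ := (hp.to_subgroup Z).exists_card_eq
  have hn0 : n ≠ 0 := by
    rintro rfl
    obtain ⟨x, z, -, hx1, hx2, -⟩ := htwo
    have h1 : (⟨x, SuzukiTwo.mem_center_of_invol hS hx2⟩ : Z) = 1 := by
      have := (Nat.card_eq_one_iff_unique.1 (hn.trans (pow_zero 2))).1
      exact Subsingleton.elim _ _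
    exact hx1 (congrArg Subtype.val h1)
  let _ : CommGroup Z :=
    { (inferInstance : Group Z) with
      mul_comm := fun u v => Subtype.ext (Subgroup.mem_center_iff.1 v.2 u) }
  let actZ : K →* AddMonoid.End (Additive Z) :=
    { toFun := fun k => MonoidHom.toAdditive
        { toFun := fun z : Z => (⟨(k : MulAut P) (z : P), hZinv k z.1 z.2⟩ : Z)
          map_one' := Subtype.ext (map_one (k : MulAut P))
          map_mul' := fun z z' => Subtype.ext (map_mul (k : MulAut P) z.1 z'.1) }
      map_one' := AddMonoidHom.ext fun z => rfl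
      map_mul' := fun k l => AddMonoidHom.ext fun z => rfl }
  have htop : (⊤ : Subgroup P) ≠ Z := fun h => by
    obtain ⟨x, z, hxz⟩ := hnc
    exact hxz (Subgroup.mem_center_iff.1 (h ▸ Subgroup.mem_top x : x ∈ Z) z).symm
  have : Z.Normal := (inferInstance : (Subgroup.center P).Normal)
  obtain ⟨y, -, hyZ, hy⟩ := SuzukiTwo.exists_above hS this le_top htop
  have hy1 : y * y ≠ 1 := fun h => hyZ (SuzukiTwo.mem_center_of_invol hS h)
  have hy2 : y * y * (y * y) = 1 := hz2 _ hy.1
  obtain ⟨e, he1, he, he'⟩ := SuzukiTypeA.field_model hKc actZ (fun v w hv hw => by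
      obtain ⟨k, hk, -⟩ := hreg (v.toMul : Z).1 (w.toMul : Z).1
        (fun h => hv ((Subtype.ext h : (v.toMul : Z) = 1)))
        (hz2 _ (v.toMul : Z).2)
        (fun h => hw ((Subtype.ext h : (w.toMul : Z) = 1))) (hz2 _ (w.toMul : Z).2)
      refine ⟨k, ?_⟩
      show (_ : Z) = (w.toMul : Z)
      exact Subtype.ext hk)
    hn0 (show Nat.card (Additive Z) = 2 ^ n from hn)
    (v₀ := Additive.ofMul (⟨y * y, hy.1⟩ : Z))
    (fun h => hy1 (congrArg (fun v : Additive Z => (v.toMul : Z).1) h))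
  let F := GaloisField 2 n
  let _ : Fintype F := Fintype.ofFinite F
  let i : F → P := fun x => ((e x).toMul : Z).1
  have hi : ∀ x z, i (x + z) = i x * i z := fun x z =>
    congrArg (fun v : Additive Z => (v.toMul : Z).1) (map_add e x z)
  have hi1 : i 1 = y * y := congrArg (fun v : Additive Z => (v.toMul : Z).1) he1
  have hi0 : i 0 = 1 := congrArg (fun v : Additive Z => (v.toMul : Z).1) (map_zero e)
  have hiinj : Function.Injective i := fun x z h => e.injective (Subtype.ext h)
  have hic : ∀ x p, i x * p = p * i x := fun x p =>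
    (Subgroup.mem_center_iff.1 (e x).toMul.2 p).symm
  have hirange : ∀ p ∈ Z, ∃ x, i x = p := fun p hpZ =>
    ⟨e.symm (Additive.ofMul ⟨p, hpZ⟩), congrArg (fun v : Additive Z => (v.toMul : Z).1)
      (e.apply_symm_apply _)⟩
  have hik : ∀ k : K, ∃ c : F, c ≠ 0 ∧ ∀ x, (k : MulAut P) (i x) = i (c * x) := fun k => by
    obtain ⟨c, hc, hce⟩ := he' k
    exact ⟨c, hc, fun x => (congrArg (fun v : Additive Z => (v.toMul : Z).1) (hce x)).symm⟩
  -- the quotient
  have hcardQ : Nat.card (P ⧸ Z) = 2 ^ n := by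
    have h := Z.card_eq_card_quotient_mul_card_subgroup
    rw [hcard, hn, pow_two] at h
    exact (Nat.eq_of_mul_eq_mul_right (pow_pos (by norm_num) n) h).symm
  let kk : F → P ⧸ Z := fun c =>
    if h : c = 0 then 1 else QuotientGroup.mk' Z (((he c h).choose : MulAut P) y)
  have hsqZ : ∀ {p r : P}, QuotientGroup.mk' Z p = QuotientGroup.mk' Z r → p * p = r * r := by
    intro p r h
    obtain ⟨z, hz, rfl⟩ := (QuotientGroup.mk'_eq_mk' Z).1 h
    calc p * p = p * (p * (z * z)) := by rw [hz2 z hz, mul_one]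
      _ = p * (p * z) * z := by group
      _ = p * (z * p) * z := by rw [Subgroup.mem_center_iff.1 hz p]
      _ = p * z * (p * z) := by group
  have hkk : ∀ (c : F) (h : c ≠ 0), ((he c h).choose : MulAut P) y * ((he c h).choose : MulAut P) y
      = i c := fun c h => by
    have h1 := congrArg (fun v : Additive Z => (v.toMul : Z).1) ((he c h).choose_spec 1)
    simp only [mul_one, he1] at h1
    rw [← map_mul]
    exact h1.symm
  have hkinj : Function.Injective kk := by
    have hne : ∀ (c : F) (h : c ≠ 0),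
        QuotientGroup.mk' Z (((he c h).choose : MulAut P) y) ≠ 1 := fun c h h1 => by
      have h2 := (hsqZ (r := 1) (h1.trans (map_one _).symm)).symm.trans (hkk c h)
      rw [one_mul, ← hi0] at h2
      exact h (hiinj h2).symm
    intro c c' h
    simp only [kk] at h
    split_ifs at h with h1 h2 h2
    · exact h1.trans h2.symm
    · exact absurd h.symm (hne c' h2)
    · exact absurd h (hne c h1)
    · exact hiinj ((hkk c h1).symm.trans ((hsqZ h).trans (hkk c' h2)))
  have hksurj : ∀ w : P ⧸ Z, w ≠ 1 → ∃ k : K, w = QuotientGroup.mk' Z ((k : MulAut P) y) := by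
    intro w hw
    obtain ⟨c, rfl⟩ := (hkinj.bijective_of_nat_card_le
      (by rw [hcardQ, GaloisField.card 2 n hn0])).2 w
    simp only [kk] at hw ⊢
    split_ifs at hw ⊢ with h
    · exact absurd rfl hw
    · exact ⟨_, rfl⟩
  have hsq : ∀ p : P, p * p ∈ Z := fun p => by
    by_cases h : QuotientGroup.mk' Z p = 1
    · rw [hsqZ (h.trans (map_one _).symm), one_mul]; exact one_mem _
    · obtain ⟨k, hk⟩ := hksurj _ h
      rw [hsqZ hk, ← map_mul]
      exact hZinv k _ hy.1
  have hQsq : ∀ w : P ⧸ Z, w * w = 1 := by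
    intro w
    obtain ⟨p, rfl⟩ := QuotientGroup.mk'_surjective Z w
    rw [← map_mul]
    exact (QuotientGroup.eq_one_iff _).2 (hsq p)
  let _ : CommGroup (P ⧸ Z) :=
    { (inferInstance : Group (P ⧸ Z)) with
      mul_comm := fun v w => by
        have := hQsq (v * w)
        calc v * w = (v * w)⁻¹ := (inv_eq_of_mul_eq_one_left this).symm
          _ = w⁻¹ * v⁻¹ := mul_inv_rev v w
          _ = w * v := by rw [inv_eq_of_mul_eq_one_left (hQsq v), inv_eq_of_mul_eq_one_left (hQsq w)] }
  let actW : K →* AddMonoid.End (Additive (P ⧸ Z)) :=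
    { toFun := fun k => MonoidHom.toAdditive
        (QuotientGroup.map Z Z (k : MulAut P).toMonoidHom fun x hx => hZinv k x hx)
      map_one' := AddMonoidHom.ext fun w => by
        obtain ⟨p, hp⟩ := QuotientGroup.mk'_surjective Z w.toMul
        obtain rfl : w = Additive.ofMul (QuotientGroup.mk' Z p) := hp.symm
        rfl
      map_mul' := fun k l => AddMonoidHom.ext fun w => by
        obtain ⟨p, hp⟩ := QuotientGroup.mk'_surjective Z w.toMul
        obtain rfl : w = Additive.ofMul (QuotientGroup.mk' Z p) := hp.symm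
        rfl }
  have hactW : ∀ (k : K) (p : P), actW k (Additive.ofMul (QuotientGroup.mk' Z p)) =
      Additive.ofMul (QuotientGroup.mk' Z ((k : MulAut P) p)) := fun _ _ => rfl
  obtain ⟨f, hf1, hf, -⟩ := SuzukiTypeA.field_model hKc actW (fun v w hv hw => by
      obtain ⟨k, hk⟩ := hksurj v.toMul hv
      obtain ⟨l, hl⟩ := hksurj w.toMul hw
      refine ⟨l * k⁻¹, ?_⟩
      obtain rfl : v = Additive.ofMul (QuotientGroup.mk' Z ((k : MulAut P) y)) := hk
      obtain rfl : w = Additive.ofMul (QuotientGroup.mk' Z ((l : MulAut P) y)) := hl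
      rw [hactW, ← MulAut.mul_apply, ← Subgroup.coe_mul, inv_mul_cancel_right])
    hn0 (show Nat.card (Additive (P ⧸ Z)) = 2 ^ n from hcardQ)
    (v₀ := Additive.ofMul (QuotientGroup.mk' Z y))
    (fun h => hyZ ((QuotientGroup.eq_one_iff y).1 h))
  let π : P → F := fun p => f.symm (Additive.ofMul (QuotientGroup.mk' Z p))
  have hπ : ∀ p r, π (p * r) = π p + π r := fun p r => by
    show f.symm _ = f.symm _ + f.symm _
    rw [← map_add, map_mul]; rfl
  have hπs : Function.Surjective π := fun x => by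
    obtain ⟨p, hp⟩ := QuotientGroup.mk'_surjective Z (f x).toMul
    exact ⟨p, by show f.symm _ = x; rw [hp]; exact f.symm_apply_apply x⟩
  have hker : ∀ p, π p = 0 ↔ ∃ x, i x = p := fun p => by
    constructor
    · intro h
      exact hirange p ((QuotientGroup.eq_one_iff p).1
        (f.symm.injective (h.trans (map_zero f.symm).symm)))
    · rintro ⟨x, rfl⟩
      show f.symm _ = 0
      rw [show (QuotientGroup.mk' Z (i x)) = 1 from (QuotientGroup.eq_one_iff _).2 (e x).toMul.2]
      exact map_zero f.symm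
  -- the squaring map
  choose lift hlift using hπs
  choose q hq using fun x : F => hirange _ (hsq (lift x))
  have hqπ : ∀ p, p * p = i (q (π p)) := fun p => by
    rw [hq]
    exact hsqZ (f.symm.injective (hlift (π p)).symm : _)
  have hq1 : q 1 = 1 := hiinj (by
    rw [hi1, hqπ y]
    congr 2
    exact (f.symm_apply_eq.2 hf1.symm).symm)
  have hq0 : q 0 = 0 := hiinj (by
    rw [hi0, ← (show π 1 = 0 from (hker 1).2 ⟨0, hi0⟩), ← hqπ 1, one_mul])
  have hqmul : ∀ c x, q (c * x) = q c * q x := by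
    intro c x
    rcases eq_or_ne c 0 with rfl | hc
    · rw [zero_mul, hq0, zero_mul]
    obtain ⟨k, hk⟩ := hf c hc
    obtain ⟨μ, -, hμ⟩ := hik k
    have key : ∀ x, q (c * x) = μ * q x := fun x => by
      apply hiinj
      have h1 : π ((k : MulAut P) (lift x)) = c * x := by
        show f.symm _ = _
        rw [f.symm_apply_eq, hk, ← hactW]
        exact congrArg (actW k) (f.symm_apply_eq.1 (hlift x))
      rw [← hμ, hq x, map_mul, ← h1, ← hqπ]
    have h1 := key 1
    rw [mul_one, hq1, mul_one] at h1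
    rw [key, h1]
  have hcomm : ∀ p r : P, p * r * p⁻¹ * r⁻¹ = (p * r * (p * r)) * (r * r)⁻¹ * (p * p)⁻¹ := by
    intro p r
    calc p * r * p⁻¹ * r⁻¹ = p * r * (p * ((p * p)⁻¹ * r⁻¹)) := by group
      _ = p * r * (p * (r⁻¹ * (p * p)⁻¹)) := by
        rw [Subgroup.mem_center_iff.1 (inv_mem (hsq p)) r⁻¹]
      _ = _ := by group
  have h2F : (2 : F) = 0 := by simpa using CharP.cast_eq_zero F 2
  have hineg : ∀ x, (i x)⁻¹ = i x := fun x =>
    inv_eq_of_mul_eq_one_left (hz2 _ (e x).toMul.2)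
  have hB : ∀ p r, i (q (π p + π r) + q (π p) + q (π r)) = p * r * p⁻¹ * r⁻¹ := fun p r => by
    rw [hcomm, hqπ, hqπ r, hqπ p, hπ, hineg, hineg, ← hi, ← hi]
    congr 1; ring
  have hcent : ∀ p r : P, p * r * p⁻¹ * r⁻¹ ∈ Z := fun p r => by
    rw [← hB]; exact (e _).toMul.2
  obtain ⟨s, c, hc⟩ := AdditiveCharTwo.exists_coeff_quadratic q fun x z w => by
    have key : i (q (x + (z + w)) + q x + q (z + w)) =
        i ((q (x + z) + q x + q z) + (q (x + w) + q x + q w)) := by
      have h1 : ∀ u v, i (q (u + v) + q u + q v) = lift u * lift v * (lift u)⁻¹ * (lift v)⁻¹ :=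
        fun u v => by rw [← hB, hlift, hlift]
      rw [hi (q (x + z) + q x + q z), h1 x z, h1 x w]
      have h3 := hB (lift x) (lift z * lift w)
      rw [hπ, hlift, hlift, hlift] at h3
      rw [h3]
      calc lift x * (lift z * lift w) * (lift x)⁻¹ * (lift z * lift w)⁻¹
          = (lift x * lift z * (lift x)⁻¹ * (lift z)⁻¹) *
            (lift z * (lift x * lift w * (lift x)⁻¹ * (lift w)⁻¹) * (lift z)⁻¹) := by group
        _ = _ := by
          rw [Subgroup.mem_center_iff.1 (hcent (lift x) (lift w)) (lift z), mul_inv_cancel_right]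
    have h4 := hiinj key
    rw [← add_assoc] at h4
    linear_combination h4 + (q (x + z) + q (x + w) + q z + q w + q x) * h2F
  let χ : F →* F := { toFun := q, map_one' := hq1, map_mul' := hqmul }
  let fam : (F ≃+* F) × (F ≃+* F) → (F →* F) := fun p =>
    ((p.1 : F →+* F) : F →* F) * ((p.2 : F →+* F) : F →* F)
  obtain ⟨⟨σ, τ⟩, -, hστ⟩ : ∃ p ∈ s, fam p = χ := by
    by_contra hcon
    refine (linearIndependent_monoidHom F F).notMem_span_image
      (x := χ) (s := fam '' (s : Set ((F ≃+* F) × (F ≃+* F)))) ?_ ?_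
    · rintro ⟨p, hps, hpe⟩
      exact hcon ⟨p, hps, hpe⟩
    · have : (χ : F → F) = ∑ p ∈ s, c p • (fam p : F → F) := by
        funext x
        show q x = _
        rw [hc x, Finset.sum_apply]
        rfl
      rw [this]
      exact Submodule.sum_mem _ fun p hps => Submodule.smul_mem _ _
        (Submodule.subset_span ⟨fam p, ⟨p, hps, rfl⟩, rfl⟩)
  have hqe : ∀ x, q x = σ x * τ x := fun x => (DFunLike.congr_fun hστ x).symm
  let φ : F ≃+* F := τ.trans σ.symm
  have hqφ : ∀ x, q x = σ (x * φ x) := fun x => by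
    rw [hqe, map_mul]
    exact congrArg _ (σ.apply_symm_apply (τ x)).symm
  have hone : ∀ x, x * φ x = 1 → x = 1 := by
    intro x hx
    have hx0 : x ≠ 0 := fun h => by rw [h, zero_mul] at hx; exact zero_ne_one hx
    obtain ⟨k, hk⟩ := hf x hx0
    have h1 : π ((k : MulAut P) y) = x := by
      show f.symm _ = _
      rw [f.symm_apply_eq, ← mul_one x, hk, hf1, hactW]
    have h2 : (k : MulAut P) (y * y) = y * y := by
      rw [map_mul, hqπ, h1, hqφ, hx, map_one, hi1]
    obtain ⟨k₀, -, huniq⟩ := hreg (y * y) (y * y) hy1 hy2 hy1 hy2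
    have h3 : k = 1 := (huniq k h2).trans (huniq 1 rfl).symm
    rw [h3, show (((1 : K) : MulAut P) y) = y from rfl] at h1
    rw [← h1]
    exact f.symm_apply_eq.2 hf1.symm
  refine ⟨F, inferInstance, inferInstance, φ, ?_, ?_, SuzukiTypeA.odd_orderOf_aut φ hone, ?_⟩
  · rw [← Nat.card_eq_fintype_card, GaloisField.card 2 n hn0]
    exact hn.symm
  · intro hφ
    obtain ⟨p, r, hpr⟩ := hnc
    have h : p * r * p⁻¹ * r⁻¹ = 1 := by
      have h0 : q (π p + π r) + q (π p) + q (π r) = 0 := by
        simp only [hqφ, hφ, RingEquiv.refl_apply, ← map_add]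
        convert map_zero σ using 2
        linear_combination (π p * π p + π p * π r + π r * π r) * h2F
      rw [← hB, h0, hi0]
    rw [mul_inv_eq_one, mul_inv_eq_iff_eq_mul] at h
    exact hpr h
  · let R := Cfsg.suzukiTypeA F (φ : F →+* F)
    let j : F → R := fun x =>
      ⟨SuzukiTypeA.elem _ 0 x, (SuzukiTypeA.mem_typeA _).2 ⟨0, x, rfl⟩⟩
    let ρ : R → F := fun r => ((r : GL (Fin 3) F) : Matrix (Fin 3) (Fin 3) F) 1 0
    have hform : ∀ r : R, ∃ x z, (r : GL (Fin 3) F) = SuzukiTypeA.elem (φ : F →+* F) x z :=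
      fun r => (SuzukiTypeA.mem_typeA _).1 r.2
    have hρ : ∀ (r : R) x z, (r : GL (Fin 3) F) = SuzukiTypeA.elem (φ : F →+* F) x z → ρ r = x :=
      fun r x z h => by simp [ρ, h, SuzukiTypeA.elem]
    refine SuzukiTypeA.extension_iso (fun x => i (σ x)) π j ρ
      (fun x z => by show i (σ (x + z)) = i (σ x) * i (σ z); rw [map_add, hi])
      (hiinj.comp σ.injective) (fun x p => hic _ p) hπ (fun x => ⟨lift x, hlift x⟩) ?_
      ?_ ?_ ?_ ?_ ?_ ?_ ?_
    · intro p
      rw [hker]
      exact ⟨fun ⟨x, h⟩ => ⟨σ.symm x, by rw [σ.apply_symm_apply, h]⟩, fun ⟨x, h⟩ => ⟨σ x, h⟩⟩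
    · intro x z
      apply Subtype.ext
      show SuzukiTypeA.elem _ _ _ = SuzukiTypeA.elem _ _ _ * SuzukiTypeA.elem _ _ _
      rw [SuzukiTypeA.elem_mul]; congr 1 <;> simp
    · intro x z h
      have := congrArg (fun r : R => ((r : GL (Fin 3) F) : Matrix (Fin 3) (Fin 3) F) 2 0) h
      simpa [j, SuzukiTypeA.elem] using this
    · intro x r
      obtain ⟨u, v, h⟩ := hform r
      apply Subtype.ext
      show SuzukiTypeA.elem _ _ _ * (r : GL (Fin 3) F) = (r : GL (Fin 3) F) * SuzukiTypeA.elem _ _ _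
      rw [h, SuzukiTypeA.elem_mul, SuzukiTypeA.elem_mul]
      congr 1 <;> simp [add_comm]
    · intro r r'
      obtain ⟨u, v, h⟩ := hform r
      obtain ⟨u', v', h'⟩ := hform r'
      rw [hρ r u v h, hρ r' u' v' h']
      exact hρ _ _ _ (by rw [Subgroup.coe_mul, h, h', SuzukiTypeA.elem_mul])
    · exact fun x => ⟨⟨SuzukiTypeA.elem _ x 0, (SuzukiTypeA.mem_typeA _).2 ⟨x, 0, rfl⟩⟩,
        hρ _ x 0 rfl⟩
    · intro r
      obtain ⟨u, v, h⟩ := hform r
      rw [hρ r u v h]
      constructor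
      · rintro rfl
        exact ⟨v, Subtype.ext h.symm⟩
      · rintro ⟨x, rfl⟩
        exact (hρ _ _ _ h).symm.trans (hρ (j x) 0 x rfl)
    · intro p r hpr
      obtain ⟨u, v, h⟩ := hform r
      rw [hρ r u v h] at hpr
      refine ⟨u * φ u, by rw [hqπ, hpr, hqφ], Subtype.ext ?_⟩
      show (r : GL (Fin 3) F) * (r : GL (Fin 3) F) = SuzukiTypeA.elem _ _ _
      rw [h, SuzukiTypeA.elem_mul]
      congr 1
      · exact CharTwo.add_self_eq_zero u
      · rw [CharTwo.add_self_eq_zero, zero_add, mul_comm]; rfl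

end Cfsg.Agent.S1139
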