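import Cfsg.Statements.S1141
import Cfsg.Agent.Lib.SU3TwoHeisEmbed
-- import your own Cfsg.Agent.* helpers here

set_option autoImplicit false
open Cfsg

namespace Cfsg.Agent.S1141

open Cfsg.Agent.SU3TwoHeis

/-- Let `q = 2^n ≥ 4` and `|F| = q²`. A Sylow 2-subgroup `S` of `PSU₃(q)` has order `q³`, its centre has order `q`, and `S` is a Suzuki 2-group. -/
theorem result {F : Type*} [Field F] [Fintype F] {n : ℕ} (hn : 2 ≤ n)
    (hF : Fintype.card F = (2 ^ n) ^ 2) (S : Sylow 2 (Cfsg.PSU 3 F (2 ^ n))) :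
    Nat.card S = (2 ^ n) ^ 3 ∧ Nat.card (Subgroup.center ↥(S : Subgroup (Cfsg.PSU 3 F (2 ^ n)))) = 2 ^ n ∧
      Cfsg.IsSuzukiTwoGroup ↥(S : Subgroup (Cfsg.PSU 3 F (2 ^ n))) := by
  classical
  obtain ⟨_, σ, _, hσ, hne, hk, hcard, -, hP⟩ := SU3TwoHeisEmbed.exists_model (show 1 ≤ n by omega) hF
  obtain ⟨e⟩ := hP S
  refine ⟨(Nat.card_congr e.toEquiv).trans hcard, ?_, ?_⟩
  · rw [Nat.card_congr (Subgroup.centerCongr e).toEquiv, Nat.card_congr (centerEquiv hne), hk]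
  have h3 : 3 ≤ Nat.card (fixd σ) := by
    rw [hk]; calc 3 ≤ 2 ^ 2 := by norm_num
      _ ≤ 2 ^ n := Nat.pow_le_pow_right (by norm_num) hn
  obtain ⟨hfin, hp, ⟨x, y, hxy⟩, ⟨u, v, huv, hu, hu2, hv, hv2⟩, K, hK, hKu⟩ := isSuzukiTwoGroup hne h3
  have hne1 : ∀ {a : HU σ}, a ≠ 1 → e.symm a ≠ 1 := fun h h' => h (by
    simpa using congrArg e h')
  refine ⟨inferInstance, hp.of_equiv e.symm, ⟨e.symm x, e.symm y, fun h => hxy (e.symm.injective (by
      rw [map_mul, map_mul, h]))⟩,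
    ⟨e.symm u, e.symm v, fun h => huv (e.symm.injective h), hne1 hu, by rw [← map_mul, hu2, map_one],
      hne1 hv, by rw [← map_mul, hv2, map_one]⟩,
    K.map (MulAut.congr e.symm).toMonoidHom,
    isCyclic_of_surjective _ ((MulAut.congr e.symm).toMonoidHom.subgroupMap_surjective K),
    fun a b ha ha2 hb hb2 => ?_⟩
  obtain ⟨k, hk1, huniq⟩ := hKu (e a) (e b) (fun h => ha (e.injective (h.trans (map_one e).symm)))
    (by rw [← map_mul, ha2, map_one]) (fun h => hb (e.injective (h.trans (map_one e).symm)))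
    (by rw [← map_mul, hb2, map_one])
  refine ⟨⟨MulAut.congr e.symm k.1, k.1, k.2, rfl⟩, ?_, ?_⟩
  · show e.symm ((k : MulAut (HU σ)) (e a)) = b
    rw [hk1, e.symm_apply_apply]
  · rintro ⟨_, k', hk', rfl⟩ h
    have : (⟨k', hk'⟩ : K) = k := huniq _ (by
      show k' (e a) = e b
      rw [← h]; exact (e.apply_symm_apply _).symm)
    simp [← this]

end Cfsg.Agent.S1141
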