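import Cfsg.Statements.S1142
import Mathlib
import Cfsg.Agent.Lib.FeitHigmanHecke
import Cfsg.Agent.Lib.FeitHigmanDihedral
import Cfsg.Agent.Lib.FeitHigmanEigen
import Cfsg.Agent.Lib.FeitHigmanCount

set_option autoImplicit false
open Cfsg

namespace Cfsg.Agent.S1142

open Cfsg.Agent.BNPairLib Cfsg.Agent.FeitHigmanHecke Cfsg.Agent.FeitHigmanDihedral
open Matrix

variable {G : Type*} [Group G] [Finite G] (P : Cfsg.BNPair G) (s t : P.S)

theorem orderOf_rot_swap : orderOf (rot P t s) = orderOf (rot P s t) := by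
  rw [← orderOf_inv (rot P s t), rot, rot, _root_.mul_inv_rev, σ_inv, σ_inv]

theorem T_alt [Fintype (X P)] [DecidableEq (X P)] (hst : s ≠ t) (hS : ∀ x : P.S, x = s ∨ x = t) :
    ∀ k, k ≤ orderOf (rot P s t) →
      T P (wd P (alt s t k)) =
        ((alt s t k).map fun x => T P (σ P x)).prod ∧
      T P (wd P (alt t s k)) =
        ((alt t s k).map fun x => T P (σ P x)).prod := by
  intro k
  induction k with
  | zero => intro _; simp [alt, T_one]
  | succ k ih =>
    intro hk
    obtain ⟨i1, i2⟩ := ih (by omega)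
    have hk' : k + 1 ≤ orderOf (rot P t s) := by rw [orderOf_rot_swap]; exact hk
    have hS' : ∀ x : P.S, x = t ∨ x = s := fun x => (hS x).symm
    constructor
    · show T P (wd P (s :: alt t s k)) = ((s :: alt t s k).map fun x => T P (σ P x)).prod
      rw [wd_cons, List.map_cons, List.prod_cons, ← i2, T_mul P]
      rw [← wd_cons, len_alt P t s hst.symm hS' (by omega)]
      show k ≤ len P (wd P (alt s t (k + 1)))
      rw [len_alt P s t hst hS hk]; omega
    · show T P (wd P (t :: alt s t k)) = ((t :: alt s t k).map fun x => T P (σ P x)).prod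
      rw [wd_cons, List.map_cons, List.prod_cons, ← i1, T_mul P]
      rw [← wd_cons, len_alt P s t hst hS (by omega)]
      show k ≤ len P (wd P (alt t s (k + 1)))
      rw [len_alt P t s hst.symm hS' hk']; omega

theorem prod_alt_even {M : Type*} [Monoid M] {α : Type*} (f : α → M) (a b : α) : ∀ k : ℕ,
    ((alt a b (2 * k)).map f).prod = (f a * f b) ^ k ∧
    ((alt a b (2 * k + 1)).map f).prod = (f a * f b) ^ k * f a
  | 0 => by simp [alt]
  | k + 1 => by
    obtain ⟨h1, h2⟩ := prod_alt_even f a b k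
    constructor
    · show (List.map f (a :: b :: alt a b (2 * k))).prod = _
      rw [List.map_cons, List.map_cons, List.prod_cons, List.prod_cons, h1, pow_succ', mul_assoc]
    · show (List.map f (a :: b :: alt a b (2 * k + 1))).prod = _
      rw [List.map_cons, List.map_cons, List.prod_cons, List.prod_cons, h2, pow_succ']
      simp only [mul_assoc]

theorem rank_two_core (hst : s ≠ t) (hS : ∀ x : P.S, x = s ∨ x = t) :
    orderOf (rot P s t) ∈ ({2, 3, 4, 6, 8} : Set ℕ) := by
  classical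
  have := Fintype.ofFinite (X P)
  set A := T P (σ P s) with hAdef
  set B := T P (σ P t) with hBdef
  set p := par P s
  set q := par P t
  have hp : 2 ≤ p := two_le_par P s
  have hq : 2 ≤ q := two_le_par P t
  have hpR : (1 : ℝ) < p := by exact_mod_cast hp
  have hqR : (1 : ℝ) < q := by exact_mod_cast hq
  have hA : A * A = (((p : ℝ) : ℂ) - 1) • A + ((p : ℝ) : ℂ) • 1 := by simpa using T_sq P s
  have hB : B * B = (((q : ℝ) : ℂ) - 1) • B + ((q : ℝ) : ℂ) • 1 := by simpa using T_sq P t
  have hT : ∀ j, 2 * j ≤ orderOf (rot P s t) →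
      (A * B) ^ j = T P (rot P s t ^ j) ∧ (B * A) ^ j = T P (rot P s t ^ j)⁻¹ := by
    intro j hj
    obtain ⟨h1, h2⟩ := T_alt P s t hst hS (2 * j) hj
    rw [(prod_alt_even _ s t j).1, (wd_alt P s t j).1] at h1
    rw [(prod_alt_even _ t s j).1, (wd_alt P s t j).2.1] at h2
    exact ⟨h1.symm, h2.symm⟩
  have hT' : ∀ j, 2 * j + 1 ≤ orderOf (rot P s t) →
      (A * B) ^ j * A = T P (rot P s t ^ j * σ P s) ∧
      (B * A) ^ j * B = T P ((rot P s t ^ (j + 1))⁻¹ * σ P s) := by
    intro j hj
    obtain ⟨h1, h2⟩ := T_alt P s t hst hS (2 * j + 1) hj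
    rw [(prod_alt_even _ s t j).2, (wd_alt P s t j).2.2.1] at h1
    rw [(prod_alt_even _ t s j).2, (wd_alt P s t j).2.2.2] at h2
    exact ⟨h1.symm, h2.symm⟩
  have hsw : ∀ j : ℕ, B * (A * B) ^ j = (B * A) ^ j * B := by
    intro j
    induction j with
    | zero => simp
    | succ j ih => rw [pow_succ, pow_succ, ← mul_assoc, ih]; simp only [mul_assoc]
  obtain ⟨R, hRtr, hRev, hRmem⟩ := Cfsg.Agent.FeitHigmanEigen.exists_eigenvalues (A * B)
  have hpqR : ((p : ℂ) * q) ∈ R := by
    have : Nonempty (X P) := ⟨QuotientGroup.mk 1⟩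
    refine hRmem _ (fun _ => 1) (fun h => one_ne_zero (congrFun h (Classical.arbitrary _))) ?_
    rw [← mulVec_mulVec, hBdef, T_mulVec_one,
      show (fun _ : X P => (q : ℂ)) = (q : ℂ) • fun _ => (1 : ℂ) by funext; simp,
      mulVec_smul, hAdef, T_mulVec_one]
    funext
    simp [p, q, mul_comm]
  set m := orderOf (rot P s t) with hm
  have hm2 : 2 ≤ m := two_le_orderOf P s t hst
  rcases Nat.even_or_odd' m with ⟨n, hn | hn⟩
  · have hmid : (A * B) ^ n = (B * A) ^ n := by
      rw [(hT n hn.ge).1, (hT n hn.ge).2]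
      congr 1
      rw [eq_inv_iff_mul_eq_one, ← pow_add, ← two_mul, ← hn, hm, pow_orderOf_eq_one]
    have htr : ∀ k, 0 < k → k < 2 * n → (R.map (· ^ k)).sum = 0 := by
      intro k hk0 hk
      rw [← hRtr k]
      rcases le_or_gt k n with h | h
      · rw [(hT k (by omega)).1]
        exact trace_T P (pow_ne_one P s t hk0 (by omega))
      · obtain ⟨l, rfl⟩ : ∃ l, k = n + l := ⟨k - n, by omega⟩
        rw [pow_add, (hT n hn.ge).1, (hT l (by omega)).1]
        refine trace_T_mul P ?_
        rw [← pow_add]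
        exact pow_ne_one P s t hk0 (by omega)
    have hbr : (A * B) ^ n * B = B * (A * B) ^ n := by rw [hsw, ← hmid]
    have hcl : ∀ z ∈ R, Cfsg.Agent.FeitHigmanEigen.IsLin (p : ℝ) q z ∨
        (z ^ (2 * n) = ((p : ℂ) * q) ^ n ∧ z ^ 2 ≠ (p : ℂ) * q) := by
      intro z hz
      obtain ⟨x, hx0, hx⟩ := hRev z hz
      simpa using Cfsg.Agent.FeitHigmanEigen.eigen_even hpR hqR hA hB (by omega) hbr hx0 hx
    have hmem := Cfsg.Agent.FeitHigmanCount.even_case (by omega) hp hq hpqR
      (fun z hz => (hcl z hz).imp_right And.left) htr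
    have hne6 : n ≠ 6 := by
      rintro rfl
      exact Cfsg.Agent.FeitHigmanCount.twelve_case hp hq hpqR hcl htr
    simp only [Finset.mem_insert, Finset.mem_singleton] at hmem
    simp only [Set.mem_insert_iff, Set.mem_singleton_iff]
    omega
  · have hW : rot P s t ^ n * σ P s = (rot P s t ^ (n + 1))⁻¹ * σ P s := by
      congr 1
      rw [eq_inv_iff_mul_eq_one, ← pow_add,
        show n + (n + 1) = m by omega, hm, pow_orderOf_eq_one]
    have hbr : (A * B) ^ n * A = B * (A * B) ^ n := by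
      rw [hsw, (hT' n hn.ge).1, (hT' n hn.ge).2, hW]
    have hWA : (A * B) ^ n * A * A = B * ((A * B) ^ n * A) := by
      conv_lhs => rw [hbr]
      rw [mul_assoc]
    set W0 := (A * B) ^ n * A with hW0
    have hu : ∀ (M : Matrix (X P) (X P) ℂ) (r : ℝ), 1 < r →
        M * M = ((r : ℂ) - 1) • M + (r : ℂ) • 1 → IsUnit M := by
      intro M r hr hM
      have hr0 : (r : ℂ) ≠ 0 := by exact_mod_cast (by linarith : r ≠ 0)
      have h1 : M * ((r : ℂ)⁻¹ • (M - ((r : ℂ) - 1) • 1)) = 1 := by
        rw [mul_smul_comm, mul_sub, hM, mul_smul_comm, mul_one, add_sub_cancel_left, smul_smul,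
          inv_mul_cancel₀ hr0, one_smul]
      exact (Matrix.isUnit_iff_isUnit_det M).2 (Matrix.isUnit_det_of_right_inverse h1)
    have hWu : IsUnit W0 := (((hu A p hpR hA).mul (hu B q hqR hB)).pow n).mul (hu A p hpR hA)
    have hpq : p = q := by
      have e1 : B * B * W0 = (((p : ℝ) : ℂ) - 1) • (B * W0) + ((p : ℝ) : ℂ) • W0 := by
        rw [mul_assoc, ← hWA, ← mul_assoc, ← hWA, mul_assoc, hA, mul_add, mul_smul_comm,
          mul_smul_comm, mul_one, hWA]
      rw [hB, add_mul, smul_mul_assoc, smul_mul_assoc, one_mul] at e1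
      have e2 : ((((q : ℝ) : ℂ) - (p : ℝ)) • (B + 1)) * W0 = 0 * W0 := by
        rw [zero_mul, smul_mul_assoc, add_mul, one_mul]
        calc (((q : ℝ) : ℂ) - (p : ℝ)) • (B * W0 + W0)
            = ((((q : ℝ) : ℂ) - 1) • (B * W0) + ((q : ℝ) : ℂ) • W0) -
              ((((p : ℝ) : ℂ) - 1) • (B * W0) + ((p : ℝ) : ℂ) • W0) := by
              simp only [smul_add, sub_smul, one_smul]; abel
          _ = 0 := by rw [e1, sub_self]
      have e3 := congrFun (congrFun (hWu.mul_right_cancel e2) (QuotientGroup.mk 1))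
        (QuotientGroup.mk 1)
      rw [hBdef, Matrix.smul_apply, Matrix.add_apply, T_diag P (σ_ne_one P t),
        Matrix.one_apply_eq, zero_add, smul_eq_mul, mul_one, Matrix.zero_apply, sub_eq_zero] at e3
      have : (q : ℝ) = p := Complex.ofReal_inj.1 e3
      exact (by exact_mod_cast this.symm)
    rw [← hpq] at hB hpqR
    have htr : ∀ k, 0 < k → k < 2 * n + 1 → (R.map (· ^ k)).sum = 0 := by
      intro k hk0 hk
      rw [← hRtr k]
      rcases le_or_gt k n with h | h
      · rw [(hT k (by omega)).1]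
        exact trace_T P (pow_ne_one P s t hk0 (by omega))
      · obtain ⟨l, rfl⟩ : ∃ l, k = n + 1 + l := ⟨k - n - 1, by omega⟩
        rw [pow_add, pow_succ, ← mul_assoc, mul_assoc _ B, hsw,
          (hT' n hn.ge).1, (hT' l (by omega)).2]
        refine trace_T_mul P ?_
        have e : σ P s * (rot P s t ^ (l + 1))⁻¹ = rot P s t ^ (l + 1) * σ P s := by
          rw [mul_inv_eq_iff_eq_mul, mul_assoc, conj_rot, mul_inv_cancel_left]
        rw [mul_assoc, ← mul_assoc (σ P s), e, mul_assoc, σ_mul_self, mul_one, ← pow_add]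
        exact pow_ne_one P s t (by omega) (by omega)
    have hcl : ∀ z ∈ R, Cfsg.Agent.FeitHigmanEigen.IsLin (p : ℝ) p z ∨
        z ^ (2 * n + 1) = (p : ℂ) ^ (2 * n + 1) := by
      intro z hz
      obtain ⟨x, hx0, hx⟩ := hRev z hz
      simpa using Cfsg.Agent.FeitHigmanEigen.eigen_odd hpR hA hB hbr hx0 hx
    have := Cfsg.Agent.FeitHigmanCount.odd_case hp hpqR hcl htr
    simp only [Set.mem_insert_iff, Set.mem_singleton_iff]
    omega


/-- Feit–Higman: if a finite group has a (B,N)-pair of rank 2, its Weyl group `N/(B ⊓ N)` has order 4, 6, 8, 12 or 16. -/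
theorem result {G : Type*} [Group G] [Finite G] (P : Cfsg.BNPair G)
    (h2 : P.rank = 2) :
    ((P.B ⊓ P.N).subgroupOf P.N).index ∈ ({4, 6, 8, 12, 16} : Set ℕ) := by
  have : Fintype P.S := Fintype.ofFinite _
  obtain ⟨s, t, hst, huniv⟩ := Nat.card_eq_two_iff.1 (h2 : Nat.card P.S = 2)
  have hS : ∀ x : P.S, x = s ∨ x = t := fun x => by
    have : x ∈ ({s, t} : Set P.S) := huniv ▸ Set.mem_univ x
    simpa using this
  have hidx : ((P.B ⊓ P.N).subgroupOf P.N).index = 2 * orderOf (rot P s t) :=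
    card_W P s t hst hS
  rw [hidx]
  have := rank_two_core P s t hst hS
  simp only [Set.mem_insert_iff, Set.mem_singleton_iff] at this ⊢
  omega

end Cfsg.Agent.S1142
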