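import Cfsg.Statements.S1151
import Cfsg.Agent.Lib.ReeOrderThree17

set_option autoImplicit false
open Cfsg

namespace Cfsg.Agent.S1151

/-- In the small Ree group ²G₂(q), q = 3^(2m+1), realised as G¹ inside the Chevalley group G₂ over the field with q elements (θ the 3^m-th power map), with H¹ = G¹ ∩ H and U¹ = G¹ ∩ U the intersections with the ambient diagonal and positive unipotent subgroups: `H¹` has exactly `(q - 1)/2` elements of odd order, and each non-identity one centralises no non-identity element of `U¹`. -/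
theorem result {K : Type*} [Field K] [Fintype K] {m : ℕ} (hK : Fintype.card K = 3 ^ (2 * m + 1)) :
    2 * Nat.card {h : ↥(Cfsg.Lie.chevG2.diagonalSubgroup K ⊓ Cfsg.Lie.twistedG2 K (3 ^ m)) // Odd (orderOf h)} = 3 ^ (2 * m + 1) - 1 ∧
      ∀ h ∈ (Cfsg.Lie.chevG2.diagonalSubgroup K ⊓ Cfsg.Lie.twistedG2 K (3 ^ m)), h ≠ 1 → Odd (orderOf h) →
        (Cfsg.Lie.chevG2.posUnipotent K ⊓ Cfsg.Lie.twistedG2 K (3 ^ m)) ⊓ Subgroup.centralizer {h} = ⊥ := by
  haveI : Fact (Nat.Prime 3) := ⟨Nat.prime_three⟩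
  haveI : CharP K 3 := charP_of_card_eq_prime_pow (f := 2 * m + 1) (by rw [hK])
  obtain ⟨X, hX⟩ := Cfsg.Agent.ReeInstance17.exists_ctx hK
  rw [← hX]
  classical
  obtain ⟨n, hn, hnodd⟩ : ∃ n, 3 ^ (2 * m + 1) - 1 = 2 * n ∧ Odd n := by
    have hmod : 3 ^ (2 * m + 1) % 4 = 3 := by
      rw [pow_succ, pow_mul, Nat.mul_mod, Nat.pow_mod]
      norm_num
    exact ⟨(3 ^ (2 * m + 1) - 1) / 2, by omega, Nat.odd_iff.2 (by omega)⟩
  have hU : ∀ c : Kˣ, Odd (orderOf c) ↔ c ^ n = 1 := by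
    intro c
    rw [← orderOf_dvd_iff_pow_eq_one]
    refine ⟨fun h => ?_, fun h => hnodd.of_dvd_nat h⟩
    have hd : orderOf c ∣ 2 * n := by
      rw [← hn, ← hK, ← Fintype.card_units]
      exact orderOf_dvd_card
    exact (Nat.coprime_two_right.2 h).dvd_of_dvd_mul_left hd
  let e := Cfsg.Agent.ReeTorus17.H1equiv X
  refine ⟨?_, ?_⟩
  · rw [← Nat.card_congr (e.toEquiv.subtypeEquiv (p := fun c => Odd (orderOf c))
      (q := fun h => Odd (orderOf h)) fun c => by
        show _ ↔ Odd (orderOf (e c))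
        rw [MulEquiv.orderOf_eq]),
      Nat.card_congr (Equiv.subtypeEquivRight hU), Cfsg.Agent.TwistedField.card_units_pow, hK, hn,
      Nat.gcd_mul_left_left]
  · intro h hh h1 hodd
    obtain ⟨c, rfl⟩ := X.H1_le hh
    rw [orderOf_injective _ (Cfsg.Agent.ReeCentralizer17.tor_inj X)] at hodd
    rw [eq_bot_iff]
    intro w hw
    rw [Subgroup.mem_inf] at hw
    rw [Subgroup.mem_bot]
    refine Cfsg.Agent.ReeOrderThree17.cent_bot X (c := c) (fun e => h1 (by rw [e, map_one])) ?_ hw.1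
      (Subgroup.mem_centralizer_iff.1 hw.2 _ rfl)
    rintro rfl
    have h2 := (hU (-1)).1 hodd
    rw [hnodd.neg_one_pow] at h2
    exact Cfsg.Agent.ReeTorus17.neg_one_ne h2

end Cfsg.Agent.S1151
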