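import Cfsg.Statements.S1158
import Cfsg.Agent.Lib.ReeData8

set_option autoImplicit false
open Cfsg

namespace Cfsg.Agent.S1158

/-- In the small Ree group ²G₂(q), q = 3^(2m+1) with m ≥ 1, realised as G¹ inside the Chevalley group G₂ over the field with q elements (θ the 3^m-th power map), with `r = 3^(m+1)` (so `r² = 3q`): for each `k ∈ {(q-1)/2, (q+1)/4, q - r + 1, q + r + 1}` there is a cyclic subgroup `A` of order `k` whose normaliser has order `2(q-1)`, `6(q+1)`, `6(q-r+1)`, `6(q+r+1)` respectively, and `N(A₀) = N(A)` for every non-trivial `A₀ ≤ A`. -/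
theorem result {K : Type*} [Field K] [Fintype K] {m : ℕ} (hm : 1 ≤ m) (hK : Fintype.card K = 3 ^ (2 * m + 1)) :
    ∀ kn ∈ ({((3 ^ (2 * m + 1) - 1) / 2, 2 * (3 ^ (2 * m + 1) - 1)), ((3 ^ (2 * m + 1) + 1) / 4, 6 * (3 ^ (2 * m + 1) + 1)),
        (3 ^ (2 * m + 1) - 3 ^ (m + 1) + 1, 6 * (3 ^ (2 * m + 1) - 3 ^ (m + 1) + 1)),
        (3 ^ (2 * m + 1) + 3 ^ (m + 1) + 1, 6 * (3 ^ (2 * m + 1) + 3 ^ (m + 1) + 1))} : Set (ℕ × ℕ)),
      ∃ A : Subgroup ↥(Cfsg.Lie.twistedG2 K (3 ^ m)), IsCyclic A ∧ Nat.card A = kn.1 ∧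
        Nat.card (Subgroup.normalizer (A : Set ↥(Cfsg.Lie.twistedG2 K (3 ^ m)))) = kn.2 ∧
        ∀ A₀ : Subgroup ↥(Cfsg.Lie.twistedG2 K (3 ^ m)), A₀ ≤ A → A₀ ≠ ⊥ →
          Subgroup.normalizer (A₀ : Set ↥(Cfsg.Lie.twistedG2 K (3 ^ m))) = Subgroup.normalizer (A : Set ↥(Cfsg.Lie.twistedG2 K (3 ^ m))) := by
  obtain ⟨D, hq, hDm⟩ := Cfsg.Agent.ReeData8.exists_data' hm hK
  intro kn hkn
  simp only [Set.mem_insert_iff, Set.mem_singleton_iff] at hkn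
  rcases hkn with rfl | rfl | rfl | rfl
  · obtain ⟨A, h1, h2, h3, h4⟩ := D.torus_minus
    rw [hq] at h2 h3
    exact ⟨A, h1, h2, h3, h4⟩
  · obtain ⟨M, A, hM⟩ := D.exists_plusTorus
    have hne : A ≠ ⊥ := fun e => by
      have h := hM.card_A
      rw [e, Subgroup.card_bot] at h
      have := D.q_ge
      omega
    have hN := hM.norm_eq A le_rfl hne
    refine ⟨A, hM.A_cyclic, by rw [hM.card_A, hq], ?_, fun A₀ h h' => (hM.norm_eq A₀ h h').trans hN.symm⟩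
    rw [hN, hM.card_N, hq]
  · obtain ⟨A, B, hA, -, hcA, -⟩ := D.exists_hall_pair
    rw [hq, hDm] at hcA
    exact ⟨A, hA.cyclic, hcA, by rw [hA.card_N, hcA], hA.norm_eq⟩
  · obtain ⟨A, B, -, hB, -, hcB⟩ := D.exists_hall_pair
    rw [hq, hDm] at hcB
    exact ⟨B, hB.cyclic, hcB, by rw [hB.card_N, hcB], hB.norm_eq⟩

end Cfsg.Agent.S1158
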