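import Cfsg.Statements.S1163
import Cfsg.Agent.Lib.SuzukiGroupLie

set_option autoImplicit false
open Cfsg

namespace Cfsg.Agent.S1163

open scoped Pointwise


/-- For the Suzuki group Sz(q), q = 2^(2m+1) ≥ 8, realised as the elements g of Sp₄(F) with g* = g^θ (θ the 2^(m+1)-th power map, so that θ² is squaring): `|Sz(q)| = q² (q - 1) (q² + 1)`, and there is a Sylow 2-subgroup `S` whose normaliser `H` has order `q²(q-1)` and index `q² + 1`, the action of `Sz(q)` on the cosets of `H` is doubly transitive, and `S` acts regularly on the cosets other than `H` itself. -/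
theorem result {F : Type*} [Field F] [Fintype F] {m : ℕ} (hm : 1 ≤ m) (hF : Fintype.card F = 2 ^ (2 * m + 1)) :
    Nat.card ↥(Cfsg.Lie.Sz F (2 ^ (m + 1))) = (2 ^ (2 * m + 1)) ^ 2 * (2 ^ (2 * m + 1) - 1) * ((2 ^ (2 * m + 1)) ^ 2 + 1) ∧
    ∃ S : Sylow 2 ↥(Cfsg.Lie.Sz F (2 ^ (m + 1))),
      Nat.card (Subgroup.normalizer ((S : Subgroup ↥(Cfsg.Lie.Sz F (2 ^ (m + 1)))) : Set ↥(Cfsg.Lie.Sz F (2 ^ (m + 1))))) = (2 ^ (2 * m + 1)) ^ 2 * (2 ^ (2 * m + 1) - 1) ∧
      (Subgroup.normalizer ((S : Subgroup ↥(Cfsg.Lie.Sz F (2 ^ (m + 1)))) : Set ↥(Cfsg.Lie.Sz F (2 ^ (m + 1))))).index = (2 ^ (2 * m + 1)) ^ 2 + 1 ∧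
      MulAction.IsMultiplyPretransitive ↥(Cfsg.Lie.Sz F (2 ^ (m + 1))) (↥(Cfsg.Lie.Sz F (2 ^ (m + 1))) ⧸ Subgroup.normalizer ((S : Subgroup ↥(Cfsg.Lie.Sz F (2 ^ (m + 1)))) : Set ↥(Cfsg.Lie.Sz F (2 ^ (m + 1))))) 2 ∧
      ∀ x y : ↥(Cfsg.Lie.Sz F (2 ^ (m + 1))) ⧸ Subgroup.normalizer ((S : Subgroup ↥(Cfsg.Lie.Sz F (2 ^ (m + 1)))) : Set ↥(Cfsg.Lie.Sz F (2 ^ (m + 1)))),
        x ≠ (QuotientGroup.mk 1) → y ≠ (QuotientGroup.mk 1) → ∃! s : ↥(S : Subgroup ↥(Cfsg.Lie.Sz F (2 ^ (m + 1)))), (s : ↥(Cfsg.Lie.Sz F (2 ^ (m + 1)))) • x = y := by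
  have := SuzukiGroupBasic.Param.mk' (F := F) (m := m) hm hF
  have := SuzukiGroupLie.finite_lie (F := F) (m := m)
  set e := SuzukiGroupLie.lieEquiv (F := F) (m := m) with he
  refine ⟨by rw [Nat.card_congr e.toEquiv, SuzukiGroupStructure.natCard_Sz]; ring, ?_⟩
  have : Fact (Nat.Prime 2) := ⟨Nat.prime_two⟩
  let S : Sylow 2 ↥(Cfsg.Lie.Sz F (2 ^ (m + 1))) :=
    SuzukiGroupStructure.sylowU.comapOfInjective e.toMonoidHom e.injective
      (by rw [MonoidHom.range_eq_top.mpr e.surjective]; exact le_top)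
  have hS : ∀ x, x ∈ (S : Subgroup ↥(Cfsg.Lie.Sz F (2 ^ (m + 1)))) ↔
      e x ∈ (SuzukiGroupStructure.unipotent : Subgroup (Cfsg.Sz F m)) := fun x => Iff.rfl
  have hN : Subgroup.normalizer ((S : Subgroup ↥(Cfsg.Lie.Sz F (2 ^ (m + 1)))) : Set ↥(Cfsg.Lie.Sz F (2 ^ (m + 1)))) =
      (SuzukiGroupStructure.borel : Subgroup (Cfsg.Sz F m)).comap e.toMonoidHom := by
    rw [← SuzukiGroupStructure.normalizer_unipotent,
      Subgroup.comap_normalizer_eq_of_surjective _ (show Function.Surjective e.toMonoidHom from e.surjective)]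
    rfl
  refine ⟨S, ?_, ?_, ?_, ?_⟩
  · rw [hN, Nat.card_congr (show ↥((SuzukiGroupStructure.borel : Subgroup (Cfsg.Sz F m)).comap e.toMonoidHom) ≃ ↥(SuzukiGroupStructure.borel : Subgroup (Cfsg.Sz F m)) from e.toEquiv.subtypeEquiv fun _ => Iff.rfl), SuzukiGroupStructure.natCard_borel]
  · rw [hN, Subgroup.index_comap_of_surjective _ e.surjective, SuzukiGroupStructure.index_borel]
  all_goals
    rw [hN]
    have heq : ∀ g h : ↥(Cfsg.Lie.Sz F (2 ^ (m + 1))),
        ((g : _ ⧸ (SuzukiGroupStructure.borel : Subgroup (Cfsg.Sz F m)).comap e.toMonoidHom) = h) ↔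
        e g • Cfsg.suzukiPointInfinity F = e h • Cfsg.suzukiPointInfinity F := fun g h => by
      rw [QuotientGroup.eq, Subgroup.mem_comap, MulEquiv.coe_toMonoidHom, map_mul, map_inv,
        MulAction.mem_stabilizer_iff, mul_smul, inv_smul_eq_iff, eq_comm]
  · rw [MulAction.is_two_pretransitive_iff]
    intro a b c d hab hcd
    induction a using QuotientGroup.induction_on with | _ ga =>
    induction b using QuotientGroup.induction_on with | _ gb =>
    induction c using QuotientGroup.induction_on with | _ gc =>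
    induction d using QuotientGroup.induction_on with | _ gd =>
    obtain ⟨g, h1, h2⟩ := SuzukiGroupStructure.two_trans (m := m)
      (SuzukiGroupStructure.smul_mem_ovoid (e ga) SuzukiGroupBasic.inf_mem)
      (SuzukiGroupStructure.smul_mem_ovoid (e gb) SuzukiGroupBasic.inf_mem)
      (SuzukiGroupStructure.smul_mem_ovoid (e gc) SuzukiGroupBasic.inf_mem)
      (SuzukiGroupStructure.smul_mem_ovoid (e gd) SuzukiGroupBasic.inf_mem)
      (fun h => hab ((heq _ _).mpr h)) (fun h => hcd ((heq _ _).mpr h))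
    refine ⟨e.symm g, ?_, ?_⟩
    · rw [MulAction.Quotient.smul_coe, heq, smul_eq_mul, map_mul, MulEquiv.apply_symm_apply, mul_smul, h1]
    · rw [MulAction.Quotient.smul_coe, heq, smul_eq_mul, map_mul, MulEquiv.apply_symm_apply, mul_smul, h2]
  · intro a b ha hb
    induction a using QuotientGroup.induction_on with | _ ga =>
    induction b using QuotientGroup.induction_on with | _ gb =>
    rw [ne_eq, heq, map_one, one_smul] at ha hb
    obtain ⟨x, y, hxy⟩ := SuzukiGroupStructure.eq_pt_of_ne (SuzukiGroupStructure.smul_mem_ovoid (e ga) SuzukiGroupBasic.inf_mem) ha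
    obtain ⟨u, v, huv⟩ := SuzukiGroupStructure.eq_pt_of_ne (SuzukiGroupStructure.smul_mem_ovoid (e gb) SuzukiGroupBasic.inf_mem) hb
    have := SuzukiGroupBasic.charTwo (F := F) (m := m)
    refine ⟨⟨e.symm (SuzukiGroupStructure.Ts (u + x) (v + y + SuzukiGroupBasic.sg m (u + x) * x)),
      (hS _).mpr (by rw [MulEquiv.apply_symm_apply]; exact SuzukiGroupStructure.Ts_mem _ _)⟩, ?_, ?_⟩
    · dsimp only
      rw [MulAction.Quotient.smul_coe, heq, smul_eq_mul, map_mul, MulEquiv.apply_symm_apply,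
        mul_smul, hxy, huv, SuzukiGroupStructure.Ts_smul_pt]
      congr 1 <;> grind
    · rintro ⟨s, hs⟩ hsab
      obtain ⟨c, d, hcd⟩ := (hS s).mp hs
      dsimp only at hsab
      rw [MulAction.Quotient.smul_coe, heq, smul_eq_mul, map_mul, hcd, mul_smul, hxy, huv,
        SuzukiGroupStructure.Ts_smul_pt] at hsab
      obtain ⟨e1, e2⟩ := SuzukiGroupBasic.pt_injective hsab
      refine Subtype.ext (e.injective ?_)
      dsimp only
      rw [MulEquiv.apply_symm_apply, hcd]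
      congr 1 <;> grind

end Cfsg.Agent.S1163
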