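import Cfsg.Statements.S1165
import Cfsg.Agent.Lib.RankOneSetup

set_option autoImplicit false
open Cfsg

namespace Cfsg.Agent.S1165

/-- In the rank-one set-up (`G` finite and doubly transitive on `Ω`, `t` an involution moving `a`, `Q` normal in `G_a` with `G_a = Q D`, `Q ⊓ D = 1` for the two-point stabiliser `D = G_a ⊓ G_{t • a}`, `|Q|` even, `|D|` odd): every `x ∈ Q`, `x ≠ 1`, determines unique `g, f ∈ Q`, `h ∈ D` with `t x t = g h t f` (a consequence of the canonical form). For these: (H1) the `f`-part of `x⁻¹` is `g⁻¹`; (H2) the `f`-part of `f` is `x`; (H3) for `a ∈ D` the `f`-part of `a⁻¹ x a` is `(t a t)⁻¹ f (t a t)`; (H4) the `h`-part of `a⁻¹ x a` is `(t a t)⁻¹ h a`, that of `x⁻¹` is `t h⁻¹ t`, and that of `f` is `h⁻¹`. -/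
theorem result {G Ω : Type*} [Group G] [Finite G] [MulAction G Ω] {a : Ω} {t : G} {Q : Subgroup G}
    (hS : Cfsg.IsRankOneSetup G Ω a t Q)
    (x g h f : G) (hx : x ∈ Q) (hx1 : x ≠ 1) (hg : g ∈ Q) (hh : h ∈ (MulAction.stabilizer G a ⊓ MulAction.stabilizer G (t • a))) (hf : f ∈ Q)
    (heq : t * x * t = g * h * t * f) :
    (∀ g₁ h₁ f₁ : G, g₁ ∈ Q → h₁ ∈ (MulAction.stabilizer G a ⊓ MulAction.stabilizer G (t • a)) → f₁ ∈ Q → t * x⁻¹ * t = g₁ * h₁ * t * f₁ →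
        f₁ = g⁻¹ ∧ h₁ = t * h⁻¹ * t) ∧
      (∀ g₂ h₂ f₂ : G, g₂ ∈ Q → h₂ ∈ (MulAction.stabilizer G a ⊓ MulAction.stabilizer G (t • a)) → f₂ ∈ Q → t * f * t = g₂ * h₂ * t * f₂ →
        f₂ = x ∧ h₂ = h⁻¹) ∧
      ∀ c ∈ (MulAction.stabilizer G a ⊓ MulAction.stabilizer G (t • a)), ∀ g₃ h₃ f₃ : G, g₃ ∈ Q → h₃ ∈ (MulAction.stabilizer G a ⊓ MulAction.stabilizer G (t • a)) → f₃ ∈ Q →
        t * (c⁻¹ * x * c) * t = g₃ * h₃ * t * f₃ →
          f₃ = (t * c * t)⁻¹ * f * (t * c * t) ∧ h₃ = (t * c * t)⁻¹ * h * c := by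
  open RankOneSetup in
  have uniq : ∀ {g g' h h' f f' : G}, g ∈ Q → g' ∈ Q → h ∈ twoPt G a t → h' ∈ twoPt G a t →
      f ∈ Q → f' ∈ Q → g * h * t * f = g' * h' * t * f' → g = g' ∧ h = h' ∧ f = f' := by
    intro g g' h h' f f' hg hg' hh hh' hf hf' e
    have hfix : ∀ g ∈ Q, ∀ h ∈ twoPt G a t, (g * h) • a = a := fun g hg h hh => by
      rw [mul_smul, (mem_twoPt.1 hh).1, smul_a hS hg]
    have e2 : f⁻¹ = f'⁻¹ := eq_of_smul_eq hS (Q.inv_mem hf) (Q.inv_mem hf') (b_ne hS) (by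
      have := congrArg (fun z : G => z⁻¹ • a) e
      simpa only [mul_inv_rev g, mul_inv_rev g', mul_inv_rev (g * h), mul_inv_rev (g' * h'),
        mul_inv_rev (g * h * t), mul_inv_rev (g' * h' * t), t_inv hS, mul_smul,
        (mem_twoPt.1 ((twoPt G a t).inv_mem hh)).1, (mem_twoPt.1 ((twoPt G a t).inv_mem hh')).1,
        smul_a hS (Q.inv_mem hg), smul_a hS (Q.inv_mem hg')] using this)
    rw [inv_inj] at e2
    subst e2
    obtain ⟨e3, e4⟩ := decompose_unique hS hg hg' hh hh' (mul_right_cancel (mul_right_cancel e))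
    exact ⟨e3, e4, rfl⟩
  have ti := RankOneSetup.t_inv hS
  have tt := hS.mul_self
  refine ⟨fun g₁ h₁ f₁ h1 h2 h3 e => ?_, fun g₂ h₂ f₂ h1 h2 h3 e => ?_,
    fun c hc g₃ h₃ f₃ h1 h2 h3 e => ?_⟩
  · have e' : t * x⁻¹ * t = f⁻¹ * (t * h⁻¹ * t) * t * g⁻¹ := by
      calc t * x⁻¹ * t = t⁻¹ * x⁻¹ * t⁻¹ := by rw [ti]
        _ = (t * x * t)⁻¹ := by group
        _ = f⁻¹ * t⁻¹ * h⁻¹ * g⁻¹ := by rw [heq]; group
        _ = f⁻¹ * t * h⁻¹ * (t * t) * g⁻¹ := by rw [ti, tt, mul_one]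
        _ = f⁻¹ * (t * h⁻¹ * t) * t * g⁻¹ := by group
    obtain ⟨-, e1, e2⟩ := uniq h1 (Q.inv_mem hf) h2 (RankOneSetup.t_conj hS (inv_mem hh)) h3
      (Q.inv_mem hg) (e.symm.trans e')
    exact ⟨e2, e1⟩
  · have e' : t * f * t = (h⁻¹ * g⁻¹ * h) * h⁻¹ * t * x := by
      calc t * f * t = h⁻¹ * g⁻¹ * (g * h * t * f) * t := by group
        _ = h⁻¹ * g⁻¹ * (t * x * t) * t := by rw [heq]
        _ = h⁻¹ * g⁻¹ * t * x * (t * t) := by group
        _ = (h⁻¹ * g⁻¹ * h) * h⁻¹ * t * x := by rw [tt, mul_one]; group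
    obtain ⟨-, e1, e2⟩ := uniq h1 (RankOneSetup.conj_q hS (Q.inv_mem hg) hh) h2
      (inv_mem hh) h3 hx (e.symm.trans e')
    exact ⟨e2, e1⟩
  · have hc' := RankOneSetup.t_conj hS hc
    have hcinv : (t * c * t)⁻¹ = t * c⁻¹ * t := by
      rw [mul_inv_rev, mul_inv_rev, ti, ← mul_assoc]
    have hct : t * (t * c * t) = c * t := by
      rw [← mul_assoc, ← mul_assoc, tt, one_mul]
    have e' : t * (c⁻¹ * x * c) * t = ((t * c * t)⁻¹ * g * (t * c * t)) * ((t * c * t)⁻¹ * h * c) * t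
        * ((t * c * t)⁻¹ * f * (t * c * t)) := by
      calc t * (c⁻¹ * x * c) * t = t * c⁻¹ * (t * t) * x * (t * t) * c * t := by
            rw [tt, mul_one, mul_one]; group
        _ = (t * c * t)⁻¹ * (t * x * t) * (t * c * t) := by rw [hcinv]; group
        _ = (t * c * t)⁻¹ * g * h * t * f * (t * c * t) := by rw [heq]; group
        _ = (t * c * t)⁻¹ * g * h * (c * t) * (t * c * t)⁻¹ * f * (t * c * t) := by
            rw [← hct]; group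
        _ = _ := by group
    obtain ⟨-, e1, e2⟩ := uniq h1 (RankOneSetup.conj_q hS hg hc') h2
      (mul_mem (mul_mem (inv_mem hc') hh) hc) h3 (RankOneSetup.conj_q hS hf hc') (e.symm.trans e')
    exact ⟨e2, e1⟩

end Cfsg.Agent.S1165
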