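import Cfsg.Statements.S1166
import Cfsg.Agent.Lib.RankOneSetup

set_option autoImplicit false
open Cfsg

namespace Cfsg.Agent.S1166

/-- In the rank-one set-up (`G` finite and doubly transitive on `Ω`, `t` an involution moving `a`, `Q` normal in `G_a` with `G_a = Q D`, `Q ⊓ D = 1` for the two-point stabiliser `D = G_a ⊓ G_{t • a}`, `|Q|` even, `|D|` odd), with `t x t = g_x h_x t f_x` and `t y t = g_y h_y t f_y` (`g, f ∈ Q`, `h ∈ D`) for `x, y ∈ Q ∖ 1` with `x y ≠ 1`: then `z = f_x g_y ≠ 1`, and if `t z t = g_z h_z t f_z` and `t (x y) t = g' h' t f'` then `f' = (t h_y t)⁻¹ f_z (t h_y t) f_y` and `h' = h_x h_z h_y` (H6). -/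
theorem result {G Ω : Type*} [Group G] [Finite G] [MulAction G Ω] {a : Ω} {t : G} {Q : Subgroup G}
    (hS : Cfsg.IsRankOneSetup G Ω a t Q)
    (x y gx hx fx gy hy fy : G) (hxQ : x ∈ Q) (hx1 : x ≠ 1) (hyQ : y ∈ Q) (hy1 : y ≠ 1) (hxy : x * y ≠ 1)
    (hgx : gx ∈ Q) (hhx : hx ∈ (MulAction.stabilizer G a ⊓ MulAction.stabilizer G (t • a))) (hfx : fx ∈ Q) (ex : t * x * t = gx * hx * t * fx)
    (hgy : gy ∈ Q) (hhy : hy ∈ (MulAction.stabilizer G a ⊓ MulAction.stabilizer G (t • a))) (hfy : fy ∈ Q) (ey : t * y * t = gy * hy * t * fy) :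
    fx * gy ≠ 1 ∧
      ∀ gz hz fz g' h' f' : G, gz ∈ Q → hz ∈ (MulAction.stabilizer G a ⊓ MulAction.stabilizer G (t • a)) → fz ∈ Q → t * (fx * gy) * t = gz * hz * t * fz →
        g' ∈ Q → h' ∈ (MulAction.stabilizer G a ⊓ MulAction.stabilizer G (t • a)) → f' ∈ Q → t * (x * y) * t = g' * h' * t * f' →
          f' = (t * hy * t)⁻¹ * fz * (t * hy * t) * fy ∧ h' = hx * hz * hy := by
  open RankOneSetup in
  have uniq : ∀ {g g' h h' f f' : G}, g ∈ Q → g' ∈ Q → h ∈ twoPt G a t → h' ∈ twoPt G a t →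
      f ∈ Q → f' ∈ Q → g * h * t * f = g' * h' * t * f' → g = g' ∧ h = h' ∧ f = f' := by
    intro g g' h h' f f' hg hg' hh hh' hf hf' e
    have e2 : f⁻¹ = f'⁻¹ := eq_of_smul_eq hS (Q.inv_mem hf) (Q.inv_mem hf') (b_ne hS) (by
      have := congrArg (fun z : G => z⁻¹ • a) e
      simpa only [mul_inv_rev g, mul_inv_rev g', mul_inv_rev (g * h), mul_inv_rev (g' * h'),
        mul_inv_rev (g * h * t), mul_inv_rev (g' * h' * t), t_inv hS, mul_smul,
        (mem_twoPt.1 ((twoPt G a t).inv_mem hh)).1, (mem_twoPt.1 ((twoPt G a t).inv_mem hh')).1,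
        smul_a hS (Q.inv_mem hg), smul_a hS (Q.inv_mem hg')] using this)
    rw [inv_inj] at e2
    subst e2
    obtain ⟨e3, e4⟩ := decompose_unique hS hg hg' hh hh' (mul_right_cancel (mul_right_cancel e))
    exact ⟨e3, e4, rfl⟩
  have ti := RankOneSetup.t_inv hS
  have tt := hS.mul_self
  have hyz : t * (x * y) * t = gx * hx * t * (fx * gy) * hy * t * fy := by
    rw [RankOneSetup.t_conj_mul hS, ex, ey]; group
  refine ⟨fun h1 => ?_, fun gz hz fz g' h' f' hgz hhz hfz ez hg' hh' hf' e => ?_⟩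
  · rw [h1, mul_one, mul_assoc (gx * hx) t hy, mul_assoc (gx * hx) (t * hy) t] at hyz
    have hd := RankOneSetup.t_conj hS hhy
    have hfix : (t * (x * y) * t) • a = a := by
      rw [hyz, mul_smul, RankOneSetup.smul_a hS hfy, mul_smul, (RankOneSetup.mem_twoPt.1 hd).1,
        mul_smul, (RankOneSetup.mem_twoPt.1 hhx).1, RankOneSetup.smul_a hS hgx]
    rw [mul_smul, mul_smul] at hfix
    have h2 : (x * y) • (t • a) = t • a := by
      have := congrArg (fun c => t • c) hfix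
      simpa only [smul_smul, ← mul_assoc, tt, one_mul] using this
    exact hxy (RankOneSetup.eq_one_of_fix hS (Q.mul_mem hxQ hyQ) (RankOneSetup.b_ne hS) h2)
  · have hd := RankOneSetup.t_conj hS hhy
    have hdt : t * (t * hy * t) = hy * t := by rw [← mul_assoc, ← mul_assoc, tt, one_mul]
    have e' : t * (x * y) * t = (gx * (hx * gz * hx⁻¹)) * (hx * hz * hy) * t
        * ((t * hy * t)⁻¹ * fz * (t * hy * t) * fy) := by
      calc t * (x * y) * t = gx * hx * t * (fx * gy) * hy * t * fy := hyz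
        _ = gx * hx * (t * (fx * gy) * t) * (t * hy * t) * fy := by
            simp only [mul_assoc]; rw [← mul_assoc t t, tt, one_mul]
        _ = gx * hx * gz * hz * (hy * t) * (t * hy * t)⁻¹ * fz * (t * hy * t) * fy := by
            rw [ez, ← hdt]; group
        _ = _ := by group
    obtain ⟨-, e1, e2⟩ := uniq hg' (Q.mul_mem hgx (RankOneSetup.twoPt_mul_q hS hgz hhx)) hh'
      (mul_mem (mul_mem hhx hhz) hhy) hf'
      (Q.mul_mem (RankOneSetup.conj_q hS hfz hd) hfy) (e.symm.trans e')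
    exact ⟨e2, e1⟩

end Cfsg.Agent.S1166
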