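import Cfsg.Statements.S1167
import Cfsg.Agent.Lib.Zassenhaus
import Cfsg.Agent.Lib.FeitMain
-- import your own Cfsg.Agent.* helpers here

set_option autoImplicit false
open Cfsg

namespace Cfsg.Agent.S1167

/-- Let `G` be a finite simple Zassenhaus group on `Ω`, `U` a normal subgroup of `G_a` regular on `Ω` minus `a` which is an abelian 2-group, and `v` an involution with `v • a ≠ a`. Then there is a unique `u₀ ∈ U`, `u₀ ≠ 1`, with `v u₀ v = u₀ v u₀`. -/
theorem result {G Ω : Type*} [Group G] [Finite G] [MulAction G Ω] [Finite Ω]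
    (hZ : Cfsg.IsZassenhausGroup G Ω) [IsSimpleGroup G] {a : Ω}
    (U : Subgroup G) (hUle : U ≤ MulAction.stabilizer G a)
    (hUn : ∀ h ∈ MulAction.stabilizer G a, ∀ u ∈ U, h * u * h⁻¹ ∈ U)
    (hreg : ∀ c d : Ω, c ≠ a → d ≠ a → ∃! u : U, (u : G) • c = d)
    (hU2 : IsPGroup 2 U) (hUab : ∀ u ∈ U, ∀ u' ∈ U, u * u' = u' * u)
    (v : G) (hv1 : v ≠ 1) (hv2 : v * v = 1) (hva : v • a ≠ a) :
    ∃! u₀ : G, u₀ ∈ U ∧ u₀ ≠ 1 ∧ v * u₀ * v = u₀ * v * u₀ := by
  classical
  obtain ⟨b, hb⟩ : ∃ b, v • a = b := ⟨_, rfl⟩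
  have hba : b ≠ a := hb ▸ hva
  have hvb : v • b = a := by rw [← hb, ← mul_smul, hv2, one_smul]
  have hfaith : FaithfulSMul G Ω := hZ.1
  have hfix : ∀ u ∈ U, u ≠ 1 → ∀ c : Ω, u • c = c → c = a := by
    intro u hu hu1 c hc
    by_contra hca
    obtain ⟨w, -, hw⟩ := hreg c c hca hca
    exact hu1 (congrArg Subtype.val ((hw ⟨u, hu⟩ hc).trans (hw 1 (one_smul G c)).symm))
  have hcardU : Nat.card U + 1 = Nat.card Ω := by
    haveI := Fintype.ofFinite Ω
    have hbij : Function.Bijective (fun u : U => (⟨(u : G) • b, fun h => hba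
        (smul_left_cancel (u : G) (h.trans (hUle u.2).symm))⟩ : {y : Ω // y ≠ a})) := by
      refine ⟨fun u w e => ?_, fun y => ?_⟩
      · obtain ⟨x, -, hx⟩ := hreg b _ hba (fun h => hba
          (smul_left_cancel (u : G) (h.trans (hUle u.2).symm)))
        exact (hx u rfl).trans (hx w (congrArg Subtype.val e).symm).symm
      · obtain ⟨u, hu, -⟩ := hreg b y hba y.2
        exact ⟨u, Subtype.ext hu⟩
    rw [Nat.card_eq_of_bijective _ hbij, Nat.card_eq_fintype_card, Nat.card_eq_fintype_card,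
      Fintype.card_subtype_compl, Fintype.card_subtype_eq]
    have : 0 < Fintype.card Ω := Fintype.card_pos_iff.2 ⟨a⟩
    omega
  obtain ⟨k, hk⟩ := hU2.exists_card_eq
  have hUne : Nat.card U ≠ 1 := by
    intro h1
    obtain ⟨g, hg, c, d, hcd, hgc, hgd⟩ := hZ.2.2.2.1
    refine hg (Cfsg.Agent.Zassenhaus.eq_one_of_forall hZ fun x => ?_)
    rcases eq_or_ne x c with rfl | hxc
    · exact hgc
    rcases eq_or_ne x d with rfl | hxd
    · exact hgd
    exfalso
    haveI := Fintype.ofFinite Ω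
    have h2 : ({x, c, d} : Finset Ω).card ≤ Fintype.card Ω := Finset.card_le_univ _
    rw [Finset.card_eq_three.2 ⟨x, c, d, hxc, hxd, hcd, rfl⟩] at h2
    rw [h1, Nat.card_eq_fintype_card] at hcardU
    omega
  have hk0 : 0 < k := Nat.pos_of_ne_zero (fun h => hUne (by rw [hk, h, pow_zero]))
  have hUeven : Even (Nat.card U) := by
    rw [hk]; exact (Nat.even_pow.2 ⟨even_two, by omega⟩)
  have hodd : Odd (Nat.card Ω) := by rw [← hcardU]; exact hUeven.add_one
  set H := Cfsg.Agent.Zassenhaus.two G a b with hHdef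
  set d := Nat.card H with hd
  have hoddd : Odd d := Cfsg.Agent.Zassenhaus.odd_card_two hZ hodd hba.symm
  have hab' : ∀ (u w : U), u * w = w * u := fun u w => Subtype.ext (hUab u u.2 w w.2)
  have hle : Nat.card U - 1 ≤ 2 * d := by
    rcases Cfsg.Agent.Feit.feit_inequality (Nat.card G) rfl hZ hba.symm (Nat.card U) d hcardU.symm rfl
      hoddd U hUle rfl hfix with h | ⟨-, ⟨u, w, huw⟩, -⟩
    · exact h
    · exact absurd (hab' u w) huw
  obtain ⟨i, hiU, hi1, hi2⟩ : ∃ i ∈ U, i ≠ 1 ∧ i * i = 1 := by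
    haveI : Fact (Nat.Prime 2) := ⟨Nat.prime_two⟩
    obtain ⟨⟨i, hi⟩, ho⟩ := exists_prime_orderOf_dvd_card' (G := U) 2 hUeven.two_dvd
    rw [Subgroup.orderOf_mk] at ho
    exact ⟨i, hi, fun h => by rw [h, orderOf_one] at ho; norm_num at ho,
      by rw [← sq, ← ho, pow_orderOf_eq_one]⟩
  -- `H` moves `i` freely
  have hHa : ∀ h ∈ H, h • a = a ∧ h • b = b := fun h hh => hh
  let conjI : H → {u : U // u ≠ 1} := fun h => ⟨⟨(h : G) * i * (h : G)⁻¹, hUn _ h.2.1 i hiU⟩,
    fun e => hi1 (conj_eq_one_iff.1 (congrArg Subtype.val e))⟩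
  have hib : i • b ≠ b := fun e => hba (hfix i hiU hi1 b e)
  have hia : i • b ≠ a := fun e => hba (smul_left_cancel i (e.trans (hUle hiU).symm))
  have hinj : Function.Injective conjI := by
    intro x y e
    have e' : (x : G) * i * (x : G)⁻¹ = (y : G) * i * (y : G)⁻¹ :=
      congrArg (fun u => ((u : {u : U // u ≠ 1}) : U).1) e
    have hfixed : ((y : G)⁻¹ * x) • (i • b) = i • b := by
      have e'' : (y : G)⁻¹ * x * i = i * ((y : G)⁻¹ * x) := by
        calc (y : G)⁻¹ * x * i = (y : G)⁻¹ * ((x : G) * i * (x : G)⁻¹) * x := by group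
          _ = i * ((y : G)⁻¹ * x) := by rw [e']; group
      rw [← mul_smul, e'', mul_smul, ((H.mul_mem (H.inv_mem y.2) x.2) : (y : G)⁻¹ * x ∈ H).2]
    have h1 := Cfsg.Agent.Zassenhaus.three hZ hba.symm hib.symm (Ne.symm hia)
      (H.mul_mem (H.inv_mem y.2) x.2).1 (H.mul_mem (H.inv_mem y.2) x.2).2 hfixed
    exact Subtype.ext (inv_mul_eq_one.1 h1).symm
  have hcardne : Nat.card {u : U // u ≠ 1} = Nat.card U - 1 := by
    haveI := Fintype.ofFinite U
    rw [Nat.card_eq_fintype_card, Fintype.card_subtype_compl, Fintype.card_subtype_eq,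
      Nat.card_eq_fintype_card]
  -- `d` divides `|U| - 1`
  have hdvd : d ∣ Nat.card U - 1 := by
    rw [← hcardne]
    letI : MulAction H {u : U // u ≠ 1} :=
      { smul := fun h u => ⟨⟨(h : G) * u.1 * (h : G)⁻¹, hUn _ h.2.1 _ u.1.2⟩,
          fun e => u.2 (Subtype.ext (conj_eq_one_iff.1 (congrArg Subtype.val e)))⟩
        one_smul := fun u => Subtype.ext (Subtype.ext (by
          show ((1 : H) : G) * u.1 * ((1 : H) : G)⁻¹ = u.1
          simp))
        mul_smul := fun g h u => Subtype.ext (Subtype.ext (by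
          show ((g * h : H) : G) * u.1 * ((g * h : H) : G)⁻¹ =
            (g : G) * ((h : G) * u.1 * (h : G)⁻¹) * (g : G)⁻¹
          simp [mul_assoc])) }
    refine Dvd.intro_left _ ((Nat.card_congr (MulAction.selfEquivOrbitsQuotientProd
      (G := H) (X := {u : U // u ≠ 1}) fun u => (Subgroup.eq_bot_iff_forall _).2 ?_)).trans
      (Nat.card_prod _ _)).symm
    intro h hh
    have e : (h : G) * u.1 * (h : G)⁻¹ = u.1 := congrArg (fun x => (x : {u : U // u ≠ 1}).1.1) hh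
    have hu1 : (u.1 : G) ≠ 1 := fun e1 => u.2 (Subtype.ext e1)
    have hub : (u.1 : G) • b ≠ b := fun e1 => hba (hfix _ u.1.2 hu1 b e1)
    have hua : (u.1 : G) • b ≠ a := fun e1 =>
      hba (smul_left_cancel (u.1 : G) (e1.trans (hUle u.1.2).symm))
    refine Subtype.ext (Cfsg.Agent.Zassenhaus.three hZ hba.symm hub.symm (Ne.symm hua) h.2.1 h.2.2 ?_)
    rw [← mul_smul, show (h : G) * u.1 = u.1 * h from mul_inv_eq_iff_eq_mul.1 e, mul_smul, h.2.2]
  have hsurj : Function.Surjective conjI := by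
    refine ((Nat.bijective_iff_injective_and_card conjI).2 ⟨hinj, ?_⟩).2
    rw [hcardne, ← hd]
    obtain ⟨c, hc⟩ := hdvd
    obtain ⟨j, hj⟩ := hoddd
    obtain ⟨m, hm⟩ := hUeven
    have hpos : 0 < Nat.card U := Nat.card_pos
    have hc2 : c ≤ 2 := by
      by_contra hcon
      have : d * 3 ≤ d * c := Nat.mul_le_mul_left _ (by omega)
      omega
    interval_cases c <;> omega
  have hexp : ∀ u ∈ U, u * u = 1 := by
    intro u hu
    by_cases hu1 : u = 1
    · rw [hu1, one_mul]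
    obtain ⟨h, hh⟩ := hsurj ⟨⟨u, hu⟩, fun e => hu1 (congrArg Subtype.val e)⟩
    have : (h : G) * i * (h : G)⁻¹ = u := congrArg (fun x => (x : {u : U // u ≠ 1}).1.1) hh
    rw [← this, show (h : G) * i * (h : G)⁻¹ * ((h : G) * i * (h : G)⁻¹) =
      (h : G) * (i * i) * (h : G)⁻¹ by group, hi2, mul_one, mul_inv_cancel]
  obtain ⟨c, hc, hcu⟩ := Cfsg.Agent.Zassenhaus.existsUnique_fixed hZ hodd hv2 hv1
  have hca : c ≠ a := fun e => hva (e ▸ hc)
  have hcb : c ≠ b := fun e => hba ((e ▸ hc).symm.trans hvb)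
  obtain ⟨u₀, hu₀, hu₀u⟩ := hreg b c hba hca
  have hu₀a : (u₀ : G) • a = a := hUle u₀.2
  have hu₀c : (u₀ : G) • c = b := by
    rw [← hu₀, ← mul_smul, hexp _ u₀.2, one_smul]
  refine ⟨u₀, ⟨u₀.2, fun e => hcb (by rw [← hu₀, e, one_smul]), ?_⟩, ?_⟩
  · have h3 : (v * u₀ * v * u₀ * v * u₀ : G) = 1 := by
      have step : ∀ x : Ω, (v * u₀ * v * u₀ * v * u₀ : G) • x =
          v • (u₀ : G) • v • (u₀ : G) • v • (u₀ : G) • x := fun x => by simp only [mul_smul]
      refine Cfsg.Agent.Zassenhaus.three hZ hba.symm hcb.symm hca.symm ?_ ?_ ?_ <;> rw [step]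
      · rw [hu₀a, hb, hu₀, hc, hu₀c, hvb]
      · rw [hu₀, hc, hu₀c, hvb, hu₀a, hb]
      · rw [hu₀c, hvb, hu₀a, hb, hu₀, hc]
    calc v * u₀ * v = (v * u₀ * v * u₀ * v * u₀) * (u₀ : G)⁻¹ * v⁻¹ * (u₀ : G)⁻¹ := by group
      _ = u₀ * v * u₀ := by
        rw [h3, one_mul, inv_eq_of_mul_eq_one_right hv2, inv_eq_of_mul_eq_one_right (hexp _ u₀.2)]
  · rintro w ⟨hw, hw1, hwe⟩
    have hwa : w • a = a := hUle hw
    have : v • (w • b) = w • b := by
      have := congrArg (· • a) hwe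
      simp only [mul_smul, hwa, hb, hvb] at this
      exact this
    exact congrArg Subtype.val (hu₀u ⟨w, hw⟩ (hcu _ this))

end Cfsg.Agent.S1167
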