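import Cfsg.Statements.S1172
import Cfsg.Agent.Lib.ProductFusion68Main

set_option autoImplicit false
open Cfsg

namespace Cfsg.Agent.S1172


open Subgroup
open scoped commutatorElement
open Cfsg.Agent.ProductFusion68

theorem exists_sylow_inf {G : Type*} [Group G] [Finite G] (S : Sylow 2 G) (N : Subgroup G)
    [N.Normal] : ∃ T : Sylow 2 N, (T : Subgroup N).map N.subtype = (S : Subgroup G) ⊓ N := by
  haveI := Fact.mk Nat.prime_two
  have hP : IsPGroup 2 ((S : Subgroup G).comap N.subtype) := IsPGroup.comap_subtype S.isPGroup'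
  obtain ⟨T, hT⟩ := hP.exists_le_sylow
  refine ⟨T, (Subgroup.eq_of_le_of_card_ge ?_ ?_).symm⟩
  · intro z hz
    exact ⟨⟨z, hz.2⟩, hT hz.1, rfl⟩
  · obtain ⟨g, hg⟩ := exists_conj_le S (T.isPGroup'.map N.subtype)
    have hle : ((T : Subgroup N).map N.subtype).map (MulAut.conj g).toMonoidHom ≤
        (S : Subgroup G) ⊓ N := by
      rintro _ ⟨z, hz, rfl⟩
      refine ⟨hg z hz, ?_⟩
      obtain ⟨w, -, rfl⟩ := hz
      exact (inferInstance : N.Normal).conj_mem _ w.2 g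
    have := Subgroup.card_le_of_le hle
    rwa [Subgroup.card_map_of_injective (MulAut.conj g).injective] at this

theorem conj_exists {G : Type*} [Group G] {Q : Subgroup G} {g : G}
    (hg : g ∈ Group.conjugatesOfSet (Q : Set G)) : ∃ h : G, h * g * h⁻¹ ∈ Q := by
  obtain ⟨x, hx, hxg⟩ := Group.mem_conjugatesOfSet_iff.1 hg
  obtain ⟨c, rfl⟩ := isConj_iff.1 hxg
  refine ⟨c⁻¹, ?_⟩
  rw [show c⁻¹ * (c * x * c⁻¹) * c⁻¹⁻¹ = x by group]; exact hx

/-- A central 2-element of the normal closure of `S₁` inside `S₁ ⊔ S₂` lies in `S₁`. -/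
theorem mem_left {G : Type*} [Group G] [Finite G] (D : Data G)
    (hgen : D.S1 ⊔ D.S2 = (D.S : Subgroup G))
    (h12 : ⁅normalClosure (D.S1 : Set G), normalClosure (D.S2 : Set G)⁆ = ⊥)
    {c : G} (hc1 : c ∈ normalClosure (D.S1 : Set G)) (hc2 : c ∈ normalClosure (D.S2 : Set G))
    (hcS : c ∈ (D.S : Subgroup G)) : c ∈ D.S1 := by
  classical
  haveI := Fact.mk Nat.prime_two
  set N1 := normalClosure (D.S1 : Set G) with hN1
  set N2 := normalClosure (D.S2 : Set G) with hN2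
  have hcomm : ∀ a ∈ N1, ∀ b ∈ N2, Commute a b := fun a ha b hb =>
    (Subgroup.mem_centralizer_iff.1 (Subgroup.commutator_eq_bot_iff_le_centralizer.1 h12 ha) b hb).symm
  obtain ⟨T, hT⟩ := exists_sylow_inf D.S N1
  have hmemT : ∀ z : N1, z ∈ (T : Subgroup N1) ↔ (z : G) ∈ (D.S : Subgroup G) := by
    intro z
    rw [← Subgroup.mem_map_iff_mem N1.subtype_injective, hT]
    exact ⟨fun h => h.1, fun h => ⟨h, z.2⟩⟩
  set S1' : Subgroup (T : Subgroup N1) :=
    D.S1.comap (N1.subtype.comp (T : Subgroup N1).subtype) with hS1'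
  have hS1N : D.S1 ≤ N1 := Subgroup.le_normalClosure
  have hdec : ∀ z ∈ (D.S : Subgroup G), z ∈ N1 →
      ∃ a ∈ D.S1, ∃ b ∈ D.S2, b ∈ N1 ∧ a * b = z := by
    intro z hz hzN
    rw [← hgen, ← SetLike.mem_coe, Subgroup.coe_mul_of_left_le_normalizer_right D.S1 D.S2
      (fun a ha => mem_normalizer_of_conj_mem fun b hb => by
        rw [(show Commute a b from D.hcomm a ha b hb).eq, mul_inv_cancel_right]; exact hb)] at hz
    obtain ⟨a, ha, b, hb, rfl⟩ := Set.mem_mul.1 hz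
    exact ⟨a, ha, b, hb, by simpa using mul_mem (inv_mem (hS1N ha)) hzN, rfl⟩
  haveI hn : S1'.Normal := ⟨fun n hn q => by
    obtain ⟨a, ha, b, hb, -, he⟩ := hdec ((q : N1) : G) ((hmemT _).1 q.2) (q : N1).2
    show ((q : N1) : G) * ((n : N1) : G) * ((q : N1) : G)⁻¹ ∈ D.S1
    rw [← he, show a * b * ((n : N1) : G) * (a * b)⁻¹ = a * (b * ((n : N1) : G) * b⁻¹) * a⁻¹ by group,
      show b * ((n : N1) : G) = ((n : N1) : G) * b from (D.hcomm _ hn b hb).symm,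
      mul_inv_cancel_right]
    exact mul_mem (mul_mem ha hn) (inv_mem ha)⟩
  have hQc : ∀ x y : (T : Subgroup N1) ⧸ S1', x * y = y * x := by
    intro x y
    obtain ⟨x, rfl⟩ := QuotientGroup.mk_surjective x
    obtain ⟨y, rfl⟩ := QuotientGroup.mk_surjective y
    obtain ⟨a, ha, b, hb, hbN, he⟩ := hdec ((x : N1) : G) ((hmemT _).1 x.2) (x : N1).2
    have hbN2 : b ∈ N2 := Subgroup.le_normalClosure hb
    rw [← QuotientGroup.mk_mul, ← QuotientGroup.mk_mul, QuotientGroup.eq]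
    show ((((x : N1) : G) * ((y : N1) : G))⁻¹ * (((y : N1) : G) * ((x : N1) : G))) ∈ D.S1
    have h1 : Commute ((y : N1) : G) b := hcomm _ (y : N1).2 b hbN2
    rw [← he]
    rw [show (a * b * ((y : N1) : G))⁻¹ * (((y : N1) : G) * (a * b)) =
      ((y : N1) : G)⁻¹ * b⁻¹ * a⁻¹ * (((y : N1) : G) * (a * b)) by group]
    obtain ⟨a', ha', b', hb', -, he'⟩ := hdec ((y : N1) : G) ((hmemT _).1 y.2) (y : N1).2
    have h2 : Commute b a := (D.hcomm a ha b hb).symm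
    rw [← h1.inv_inv.eq.symm, ← he'] at *
    have key : b⁻¹ * (a' * b')⁻¹ * a⁻¹ * ((a' * b') * (a * b)) =
        b⁻¹ * (a'⁻¹ * a⁻¹ * a' * a) * b := by
      have e1 : Commute b' a := (D.hcomm a ha b' hb').symm
      have e2 : Commute b' a' := (D.hcomm a' ha' b' hb').symm
      have e3 : Commute b' (a'⁻¹ * a⁻¹ * a') :=
        (e2.inv_right.mul_right e1.inv_right).mul_right e2
      calc b⁻¹ * (a' * b')⁻¹ * a⁻¹ * ((a' * b') * (a * b))
          = b⁻¹ * (b'⁻¹ * (a'⁻¹ * a⁻¹ * a') * b') * a * b := by group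
        _ = b⁻¹ * (a'⁻¹ * a⁻¹ * a') * a * b := by rw [e3.inv_mul_cancel]
        _ = b⁻¹ * (a'⁻¹ * a⁻¹ * a' * a) * b := by group
    rw [key]
    have hk : a'⁻¹ * a⁻¹ * a' * a ∈ D.S1 :=
      mul_mem (mul_mem (mul_mem (inv_mem ha') (inv_mem ha)) ha') ha
    rw [show b⁻¹ * (a'⁻¹ * a⁻¹ * a' * a) = (a'⁻¹ * a⁻¹ * a' * a) * b⁻¹ from
      (Commute.inv_right (D.hcomm _ hk b hb)).symm.eq, inv_mul_cancel_right]
    exact hk
  let _ : CommGroup ((T : Subgroup N1) ⧸ S1') := { (inferInstance : Group _) with mul_comm := hQc }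
  set φ := QuotientGroup.mk' S1' with hφ
  have hφ1 : ∀ z : (T : Subgroup N1), φ z = 1 ↔ ((z : N1) : G) ∈ D.S1 := fun z =>
    QuotientGroup.eq_one_iff z
  set V := MonoidHom.transfer φ with hV
  have hkill : ∀ x : N1, (x : G) ∈ D.S1 → V x = 1 := by
    intro x hx
    let := (T : Subgroup N1).fintypeQuotientOfFiniteIndex
    haveI := Fintype.ofFinite (Quotient (MulAction.orbitRel (zpowers x) (N1 ⧸ (T : Subgroup N1))))
    rw [hV, MonoidHom.transfer_eq_prod_quotient_orbitRel_zpowers_quot]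
    refine Finset.prod_eq_one fun q _ => (hφ1 _).2 ?_
    set k := Function.minimalPeriod (x • ·) q.out
    set g0 : N1 := q.out.out
    show ((g0⁻¹ * x ^ k * g0 : N1) : G) ∈ D.S1
    have hmem : ((g0⁻¹ * x ^ k * g0 : N1) : G) ∈ (D.S : Subgroup G) :=
      (hmemT _).1 (QuotientGroup.out_conj_pow_minimalPeriod_mem (T : Subgroup N1) x q.out)
    have e : ((g0⁻¹ * x ^ k * g0 : N1) : G) = (g0 : G)⁻¹ * (x : G) ^ k * ((g0 : G)⁻¹)⁻¹ := by simp
    rw [e] at hmem ⊢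
    exact D.h1.2 _ (pow_mem hx k) _ hmem
  have hVtop : ∀ x : N1, V x = 1 := by
    have h : N1 ≤ V.ker.map N1.subtype := by
      refine (Subgroup.closure_le _).2 fun y hy => ?_
      obtain ⟨h, hh⟩ := conj_exists hy
      have hyN : y ∈ N1 := Subgroup.subset_closure hy
      obtain ⟨R, hR⟩ := (IsPGroup.comap_subtype (K := N1)
        (D.isPGroup_zpowers1 ⟨h, hh⟩)).exists_le_sylow
      obtain ⟨c', hc'⟩ := MulAction.exists_smul_eq N1 R T
      have hmem : c' * ⟨y, hyN⟩ * c'⁻¹ ∈ (T : Subgroup N1) := by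
        rw [← hc', Sylow.coe_subgroup_smul, Subgroup.mem_pointwise_smul_iff_inv_smul_mem, ← map_inv,
          MulAut.smul_def, MulAut.conj_apply]
        have e : ∀ w : N1, c'⁻¹ * (c' * w * c'⁻¹) * c'⁻¹⁻¹ = w := fun w => by group
        rw [e]
        exact hR (show (⟨y, hyN⟩ : N1) ∈ (zpowers y).comap N1.subtype from mem_zpowers y)
      have h1 := hkill (c' * ⟨y, hyN⟩ * c'⁻¹) (D.mem1 ((hmemT _).1 hmem) ⟨h, hh⟩)
      rw [map_mul, map_mul, map_inv, mul_inv_cancel_comm] at h1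
      exact ⟨⟨y, hyN⟩, h1, rfl⟩
    intro x
    obtain ⟨w, hw, hwx⟩ := h x.2
    rw [← Subtype.ext hwx]; exact hw
  set ct : N1 := ⟨c, hc1⟩ with hct
  have hcent : ∀ g : N1, Commute g ct := fun g => Subtype.ext (hcomm g g.2 c hc2).eq
  have hkey : ∀ (k : ℕ) (g₀ : N1), g₀⁻¹ * ct ^ k * g₀ ∈ (T : Subgroup N1) →
      g₀⁻¹ * ct ^ k * g₀ = ct ^ k := fun k g₀ _ => by
    rw [mul_assoc, ← ((hcent g₀).pow_right k).eq, inv_mul_cancel_left]
  have hp := MonoidHom.transfer_eq_pow φ ct hkey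
  rw [← hV, hVtop ct] at hp
  have h2 : (c : G) ^ (T : Subgroup N1).index ∈ D.S1 := by
    have := (hφ1 _).1 hp.symm
    simpa [hct] using this
  have hodd : ¬ 2 ∣ (T : Subgroup N1).index := T.not_dvd_index
  obtain ⟨i, hi⟩ := D.S.isPGroup' ⟨c, hcS⟩
  have hcp : c ^ (2 ^ i) = 1 := by simpa using congrArg Subtype.val hi
  have hcop : (T : Subgroup N1).index.Coprime (2 ^ i) :=
    ((Nat.Prime.coprime_iff_not_dvd Nat.prime_two).2 hodd).symm.pow_right i
  have hz : c ∈ zpowers (c ^ (T : Subgroup N1).index) := by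
    have hco : (T : Subgroup N1).index.Coprime (orderOf c) :=
      hcop.coprime_dvd_right (orderOf_dvd_of_pow_eq_one hcp)
    obtain ⟨j, hj⟩ := exists_pow_eq_self_of_coprime hco
    exact ⟨(j : ℤ), by simp [hj]⟩
  exact zpowers_le.2 h2 hz

theorem odd_relIndex_of_inf_eq {G : Type*} [Group G] [Finite G] (S : Sylow 2 G) (N : Subgroup G)
    [N.Normal] {R : Subgroup G} (hR : (S : Subgroup G) ⊓ N = R) : Odd (R.relIndex N) := by
  haveI := Fact.mk Nat.prime_two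
  obtain ⟨T, hT⟩ := exists_sylow_inf S N
  have h : R.subgroupOf N = (T : Subgroup N) := by
    ext z
    rw [Subgroup.mem_subgroupOf, ← hR, ← hT]
    exact Subgroup.mem_map_iff_mem N.subtype_injective
  rw [Subgroup.relIndex, h]
  exact Nat.not_even_iff_odd.1 fun he => T.not_dvd_index he.two_dvd

/-- Let G be a finite group with no nontrivial normal subgroup of odd order and no proper normal subgroup of odd index, whose Sylow 2-subgroup S is not commutative and is the internal direct product of two subgroups each isomorphic to a dihedral group of order at least 4 and each strongly closed in S with respect to G (product fusion). Then G is the internal direct product of two normal subgroups G₁, G₂, and S is the internal direct product of dihedral subgroups R₁ ≤ G₁ and R₂ ≤ G₂ of odd index in G₁ and G₂ respectively (so R_i is a Sylow 2-subgroup of G_i). -/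
theorem result {G : Type*} [Group G] [Finite G] (hO : Cfsg.oddCore G = ⊥) (hO' : ∀ N : Subgroup G, N.Normal → Odd N.index → N = ⊤) (S : Sylow 2 G) (hS : ¬ IsMulCommutative (S : Subgroup G)) (S₁ S₂ : Subgroup G) (hprod : Cfsg.IsInternalDirectProduct S₁ S₂ (S : Subgroup G)) (m₁ m₂ : ℕ) (hm₁ : 2 ≤ m₁) (hm₂ : 2 ≤ m₂) (e₁ : S₁ ≃* DihedralGroup m₁) (e₂ : S₂ ≃* DihedralGroup m₂) (hcl₁ : Cfsg.IsStronglyClosed S₁ (S : Subgroup G)) (hcl₂ : Cfsg.IsStronglyClosed S₂ (S : Subgroup G)) : ∃ G₁ G₂ : Subgroup G, G₁.Normal ∧ G₂.Normal ∧ Cfsg.IsInternalDirectProduct G₁ G₂ ⊤ ∧ ∃ R₁ R₂ : Subgroup G, Cfsg.IsInternalDirectProduct R₁ R₂ (S : Subgroup G) ∧ (∃ n₁, 2 ≤ n₁ ∧ Nonempty (R₁ ≃* DihedralGroup n₁)) ∧ (∃ n₂, 2 ≤ n₂ ∧ Nonempty (R₂ ≃* DihedralGroup n₂)) ∧ R₁ ≤ G₁ ∧ R₂ ≤ G₂ ∧ Odd (R₁.relIndex G₁) ∧ Odd (R₂.relIndex G₂) := by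
  classical
  haveI := Fact.mk Nat.prime_two
  obtain ⟨hS1S, hS2S, hcomm, hdisj, hgen⟩ := hprod
  let D : Data G := ⟨S, S₁, S₂, hcl₁, hcl₂, hcomm, hdisj⟩
  have hO2 : pPrimeCore 2 G = ⊥ := hO
  set N1 := normalClosure (S₁ : Set G) with hN1
  set N2 := normalClosure (S₂ : Set G) with hN2
  have h12 : ⁅N1, N2⁆ = ⊥ := commutator_normalClosure D hO2
  have h21 : ⁅N2, N1⁆ = ⊥ := by rw [Subgroup.commutator_comm]; exact h12
  have hcN : ∀ a ∈ N1, ∀ b ∈ N2, a * b = b * a := fun a ha b hb =>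
    (Subgroup.mem_centralizer_iff.1 (Subgroup.commutator_eq_bot_iff_le_centralizer.1 h12 ha) b hb).symm
  haveI : N1.Normal := Subgroup.normalClosure_normal
  haveI : N2.Normal := Subgroup.normalClosure_normal
  haveI hCn : (N1 ⊓ N2).Normal := inferInstance
  have hCp : IsPGroup 2 (N1 ⊓ N2 : Subgroup G) := by
    obtain ⟨s, n, hn, hcard⟩ :=
      Nat.exists_eq_two_pow_mul_odd (n := Nat.card (N1 ⊓ N2 : Subgroup G)) Nat.card_pos.ne'
    let M : Subgroup G :=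
      { carrier := {z | z ∈ N1 ⊓ N2 ∧ z ^ n = 1}
        one_mem' := ⟨one_mem _, one_pow _⟩
        mul_mem' := fun {a b} ha hb => ⟨mul_mem ha.1 hb.1, by
          rw [(show Commute a b from hcN a ha.1.1 b hb.1.2).mul_pow, ha.2, hb.2, mul_one]⟩
        inv_mem' := fun {a} ha => ⟨inv_mem ha.1, by rw [inv_pow, ha.2, inv_one]⟩ }
    haveI : M.Normal := ⟨fun z hz g => ⟨hCn.conj_mem z hz.1 g, by
      rw [conj_pow, hz.2, mul_one, mul_inv_cancel]⟩⟩
    have hMo : Odd (Nat.card M) := by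
      rw [← Nat.not_even_iff_odd, even_iff_two_dvd]
      intro h2
      obtain ⟨z, hz⟩ := exists_prime_orderOf_dvd_card' (G := M) 2 h2
      have h3 : orderOf (z : G) ∣ n := orderOf_dvd_of_pow_eq_one z.2.2
      rw [Subgroup.orderOf_coe, hz] at h3
      exact (Nat.not_even_iff_odd.2 hn) (even_iff_two_dvd.2 h3)
    have hM : M = ⊥ := ZStarBasic.eq_bot_of_normal_odd hO2 M hMo
    intro z
    refine ⟨s, Subtype.ext ?_⟩
    have h4 : (z : G) ^ (2 ^ s) ∈ M := ⟨pow_mem z.2 _, by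
      rw [← pow_mul, ← hcard, ← Subgroup.coe_pow, pow_card_eq_one', Subgroup.coe_one]⟩
    rw [hM, Subgroup.mem_bot] at h4
    simpa using h4
  have hCS : N1 ⊓ N2 ≤ (S : Subgroup G) :=
    (HallCore.le_pCore hCp).trans (HallCore.pCore_le_sylow S)
  have hgen2 : D.swap.S1 ⊔ D.swap.S2 = (D.swap.S : Subgroup G) := (sup_comm _ _).trans hgen
  have hbot : N1 ⊓ N2 = ⊥ := le_bot_iff.1 fun c hc => by
    have h1 : c ∈ S₁ := mem_left D hgen h12 hc.1 hc.2 (hCS hc)
    have h2 : c ∈ S₂ := mem_left D.swap hgen2 h21 hc.2 hc.1 (hCS hc)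
    rw [← hdisj]; exact ⟨h1, h2⟩
  have hl1 : S₁ ≤ N1 := Subgroup.le_normalClosure
  have hl2 : S₂ ≤ N2 := Subgroup.le_normalClosure
  have htop : N1 ⊔ N2 = ⊤ := by
    refine hO' _ inferInstance (Nat.not_even_iff_odd.1 fun he => S.not_dvd_index
      (he.two_dvd.trans (Subgroup.index_dvd_of_le ?_)))
    rw [← hgen]; exact sup_le_sup hl1 hl2
  have hinf : ∀ {A B M : Subgroup G}, A ≤ (S : Subgroup G) → A ≤ M → (∀ b ∈ B, b ∈ M → b = 1) →
      (∀ z ∈ (S : Subgroup G), ∃ a ∈ A, ∃ b ∈ B, a * b = z) → (S : Subgroup G) ⊓ M = A := by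
    intro A B M hAS hAM hB hdec
    refine le_antisymm (fun z hz => ?_) (le_inf hAS hAM)
    obtain ⟨a, ha, b, hb, rfl⟩ := hdec z hz.1
    rw [hB b hb (by simpa using mul_mem (inv_mem (hAM ha)) hz.2), mul_one]; exact ha
  have hdec : ∀ z ∈ (S : Subgroup G), ∃ a ∈ S₁, ∃ b ∈ S₂, a * b = z := by
    intro z hz
    rw [← hgen, ← SetLike.mem_coe, Subgroup.coe_mul_of_left_le_normalizer_right S₁ S₂
      (fun a ha => mem_normalizer_of_conj_mem fun b hb => by
        rw [hcomm a ha b hb, mul_inv_cancel_right]; exact hb)] at hz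
    obtain ⟨a, ha, b, hb, rfl⟩ := Set.mem_mul.1 hz
    exact ⟨a, ha, b, hb, rfl⟩
  refine ⟨N1, N2, inferInstance, inferInstance, ⟨le_top, le_top, hcN, hbot, htop⟩, S₁, S₂,
    ⟨hS1S, hS2S, hcomm, hdisj, hgen⟩, ⟨m₁, hm₁, ⟨e₁⟩⟩, ⟨m₂, hm₂, ⟨e₂⟩⟩, hl1, hl2, ?_, ?_⟩
  · exact odd_relIndex_of_inf_eq S N1 (hinf hS1S hl1
      (fun b hb hb' => Subgroup.mem_bot.1 (hbot.le ⟨hb', hl2 hb⟩)) hdec)
  · exact odd_relIndex_of_inf_eq S N2 (hinf hS2S hl2
      (fun b hb hb' => Subgroup.mem_bot.1 (hbot.le ⟨hl1 hb, hb'⟩))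
      (fun z hz => by
        obtain ⟨a, ha, b, hb, rfl⟩ := hdec z hz
        exact ⟨b, hb, a, ha, (hcomm a ha b hb).symm⟩))

end Cfsg.Agent.S1172
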