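import Cfsg.Statements.S1176
import Cfsg.Agent.Lib.IsolatedInv

set_option autoImplicit false
open Cfsg

namespace Cfsg.Agent.S1176

open scoped Pointwise commutatorElement


/-- Let x₀ be an involution of the finite group G and D its conjugacy class. Assume (a) for each x ∈ D the subgroup W(x) generated by the members of D commuting with x is a 2-group of nilpotency class at most 2, and (b) the product of two distinct commuting members of D again lies in D. Then for all x, y ∈ D, if xy has even order greater than 2, its order is 4. -/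
theorem result {G : Type*} [Group G] [Finite G] (x₀ : G) (hx₀ : orderOf x₀ = 2) (ha : ∀ x : G, IsConj x₀ x → IsPGroup 2 ↥(Subgroup.closure {y : G | IsConj x₀ y ∧ Commute y x}) ∧ ⁅⁅Subgroup.closure {y : G | IsConj x₀ y ∧ Commute y x}, Subgroup.closure {y : G | IsConj x₀ y ∧ Commute y x}⁆, Subgroup.closure {y : G | IsConj x₀ y ∧ Commute y x}⁆ = ⊥) (hb : ∀ x y : G, IsConj x₀ x → IsConj x₀ y → x ≠ y → Commute x y → IsConj x₀ (x * y)) (x y : G) (hx : IsConj x₀ x) (hy : IsConj x₀ y) (heven : Even (orderOf (x * y))) (hgt : 2 < orderOf (x * y)) : orderOf (x * y) = 4 := by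
  have hsq : ∀ u : G, IsConj x₀ u → u * u = 1 := by
    intro u hu
    obtain ⟨c, rfl⟩ := isConj_iff.mp hu
    exact IsolatedInv.conj_sq hx₀ c
  have hx2 := hsq x hx
  have hy2 := hsq y hy
  set d := x * y with hd
  obtain ⟨k, hk⟩ := heven
  have hpos : 0 < orderOf d := orderOf_pos d
  set z := d ^ k with hzd
  have hz1 : z ≠ 1 := pow_ne_one_of_lt_orderOf (by omega) (by omega)
  have hzz : z * z = 1 := by rw [hzd, ← pow_add, ← hk, pow_orderOf_eq_one]
  have hinv : ∀ i : ℕ, x * d ^ i = (d ^ i)⁻¹ * x := fun i => by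
    have := IsolatedInv.conj_mul_pow hx2 hy2 i
    rwa [← hd, mul_inv_eq_iff_eq_mul] at this
  have hzx : Commute z x := by
    change z * x = x * z
    rw [hzd, hinv k, ← hzd, IsolatedInv.inv_eq_self_of_sq hzz]
  have hzy : Commute z y := by
    have : y = x * d := by rw [hd, ← mul_assoc, hx2, one_mul]
    rw [this]; exact hzx.mul_right ((Commute.refl d).pow_left k)
  have hinv' : ∀ i : ℕ, x * (d ^ i)⁻¹ = d ^ i * x := fun i => by
    calc x * (d ^ i)⁻¹ = d ^ i * ((d ^ i)⁻¹ * x) * (d ^ i)⁻¹ := by group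
      _ = d ^ i * (x * d ^ i) * (d ^ i)⁻¹ := by rw [hinv]
      _ = d ^ i * x := by group
  have hzconj : IsConj x₀ (z * x) := by
    rcases Nat.even_or_odd' k with ⟨j, rfl | rfl⟩
    · refine hx.trans (isConj_iff.mpr ⟨d ^ j, ?_⟩)
      rw [mul_assoc, hinv', ← mul_assoc, ← pow_add, ← two_mul]
    · refine hy.trans (isConj_iff.mpr ⟨d ^ j * x, ?_⟩)
      have h1 : d * x = x * y * x⁻¹ := by rw [hd, IsolatedInv.inv_eq_self_of_sq hx2]
      calc d ^ j * x * y * (d ^ j * x)⁻¹ = d ^ j * (x * y * x⁻¹) * (d ^ j)⁻¹ := by group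
        _ = d ^ (j + 1) * (x * (d ^ j)⁻¹) := by rw [← h1, pow_succ]; group
        _ = z * x := by
          rw [hinv', ← mul_assoc, ← pow_add, hzd]; congr 2; omega
  have hxne : x ≠ z * x := fun h => hz1 (mul_eq_right.mp h.symm)
  have hzc : IsConj x₀ z := by
    have h := hb x (z * x) hx hzconj hxne ((hzx.symm).mul_right (Commute.refl x))
    have h1 : x * (z * x) = z := by rw [← mul_assoc, ← hzx.eq, mul_assoc, hx2, mul_one]
    rwa [h1] at h
  obtain ⟨hP, hcl⟩ := ha z hzc
  set K := Subgroup.closure {w : G | IsConj x₀ w ∧ Commute w z} with hK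
  have hxK : x ∈ K := Subgroup.subset_closure ⟨hx, hzx.symm⟩
  have hyK : y ∈ K := Subgroup.subset_closure ⟨hy, hzy.symm⟩
  have hdK : d ∈ K := mul_mem hxK hyK
  have h2 := Subgroup.commutator_mem_commutator (Subgroup.commutator_mem_commutator hdK hxK) hxK
  rw [hcl, Subgroup.mem_bot, commutatorElement_eq_one_iff_mul_comm] at h2
  have hc : ⁅d, x⁆ = d ^ 2 := by
    have hxi := IsolatedInv.inv_eq_self_of_sq hx2
    have h1 : x * d⁻¹ = d * x := by simpa using hinv' 1
    rw [commutatorElement_def, hxi, pow_two]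
    calc d * x * d⁻¹ * x = d * (x * d⁻¹) * x := by group
      _ = d * d * (x * x) := by rw [h1]; group
      _ = d * d := by rw [hx2, mul_one]
  rw [hc, hinv 2] at h2
  have h3 : d ^ 4 = 1 := by
    have h4 := mul_right_cancel h2
    rw [show 4 = 2 + 2 by rfl, pow_add]
    exact mul_eq_one_iff_eq_inv.mpr h4
  have h4 : orderOf d ≤ 4 := Nat.le_of_dvd (by norm_num) (orderOf_dvd_of_pow_eq_one h3)
  have h5 : orderOf d ∣ 4 := orderOf_dvd_of_pow_eq_one h3
  by_contra h6
  rw [show orderOf d = 3 by omega] at h5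
  norm_num at h5

end Cfsg.Agent.S1176
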