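import Cfsg.Statements.S1177
import Cfsg.Agent.Lib.IsolatedInv

set_option autoImplicit false
open Cfsg

namespace Cfsg.Agent.S1177

open scoped Pointwise


/-- Let A be a nontrivial elementary abelian 2-subgroup of a finite group G which is a T.I. set (each conjugate of A meets A trivially or equals A) and which does not commute elementwise with any conjugate of A other than A itself. Then for every a ∈ A, a ≠ 1, every conjugate of A contained in C_G(a) is equal to A (A is weakly closed in C_G(a)). -/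
theorem result {G : Type*} [Group G] [Finite G] (A : Subgroup G) (hA : Cfsg.IsElementaryAbelian 2 A) (hA1 : A ≠ ⊥) (hTI : ∀ g : G, A.map (MulAut.conj g).toMonoidHom ⊓ A = ⊥ ∨ A.map (MulAut.conj g).toMonoidHom = A) (hb : ∀ g : G, (∀ a ∈ A, ∀ b ∈ A.map (MulAut.conj g).toMonoidHom, a * b = b * a) → A.map (MulAut.conj g).toMonoidHom = A) (a : G) (ha : a ∈ A) (ha1 : a ≠ 1) (g : G) (hg : A.map (MulAut.conj g).toMonoidHom ≤ Subgroup.centralizer ({a} : Set G)) : A.map (MulAut.conj g).toMonoidHom = A := by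
  set B := A.map (MulAut.conj g).toMonoidHom with hB
  by_contra hne
  have hmul : ∀ {x y : G}, x ∈ A → y ∈ A → x * y = y * x := fun hx hy =>
    congrArg Subtype.val (hA.1.is_comm.comm ⟨_, hx⟩ ⟨_, hy⟩)
  have hBA : IsMulCommutative B := by
    refine ⟨⟨fun x y => Subtype.ext ?_⟩⟩
    obtain ⟨a₁, ha₁, e₁⟩ := x.2
    obtain ⟨a₂, ha₂, e₂⟩ := y.2
    change (x : G) * y = y * x
    rw [← e₁, ← e₂, ← map_mul, ← map_mul, hmul ha₁ ha₂]
  have hB2 : ∀ b ∈ B, b ^ 2 = 1 := by
    rintro _ ⟨x, hx, rfl⟩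
    rw [← map_pow, hA.2 x hx, map_one]
  have hdis : B ⊓ A = ⊥ := (hTI g).resolve_right hne
  have hcard : Nat.card B = Nat.card A :=
    Subgroup.card_map_of_injective (MulAut.conj g).injective
  have hBN : B ≤ Subgroup.normalizer (A : Set G) := by
    intro b hb
    have h1 : b * a * b⁻¹ = a := by
      rw [Subgroup.mem_centralizer_singleton_iff.mp (hg hb), mul_inv_cancel_right]
    rcases hTI b with h | h
    · exfalso
      have : a ∈ A.map (MulAut.conj b).toMonoidHom ⊓ A := ⟨⟨a, ha, h1⟩, ha⟩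
      rw [h, Subgroup.mem_bot] at this
      exact ha1 this
    · exact (Subgroup.mem_normalizer_iff_map_conj_eq).mpr h
  set A₀ := A ⊓ Subgroup.normalizer (B : Set G) with hA₀
  have hA₀B : ∀ x ∈ A₀, ∀ b ∈ B, x * b = b * x := by
    intro x hx b hb
    obtain ⟨hx1, hx2⟩ := Subgroup.mem_inf.mp hx
    have hmem : b⁻¹ * x * b * x⁻¹ ∈ B ⊓ A := by
      refine Subgroup.mem_inf.mpr ⟨?_, ?_⟩
      · rw [mul_assoc (b⁻¹), mul_assoc (b⁻¹)]
        exact mul_mem (inv_mem hb) ((Subgroup.mem_normalizer_iff.mp hx2 b).mp hb)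
      · refine mul_mem ?_ (inv_mem hx1)
        simpa using (Subgroup.mem_normalizer_iff.mp (hBN (inv_mem hb)) x).mp hx1
    rw [hdis, Subgroup.mem_bot] at hmem
    calc x * b = b * (b⁻¹ * x * b * x⁻¹) * x := by group
      _ = b * x := by rw [hmem, mul_one]
  by_cases hfull : A₀ = A
  · exact hne (hb g fun x hx y hy => hA₀B x (hfull.symm ▸ hx) y hy)
  have : Fact (Nat.Prime 2) := ⟨Nat.prime_two⟩
  have hA2g : IsPGroup 2 A := fun x => ⟨1, Subtype.ext (by simpa using hA.2 x x.2)⟩
  have hB2g : IsPGroup 2 B := fun x => ⟨1, Subtype.ext (by simpa using hB2 x x.2)⟩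
  set P := A ⊔ B with hP
  have hP2 : IsPGroup 2 P := hA2g.to_sup_of_normal_left' hB2g hBN
  set W := A₀ ⊔ B with hW
  have hWP : W < P := by
    refine lt_of_le_of_ne (sup_le_sup_right inf_le_left B) fun h => hfull ?_
    refine le_antisymm inf_le_left fun x hx => ?_
    have hxW : x ∈ W := h ▸ Subgroup.mem_sup_left hx
    rw [hW, ← SetLike.mem_coe, Subgroup.coe_mul_of_left_le_normalizer_right _ _ inf_le_right] at hxW
    obtain ⟨u, hu, b, hbB, hub⟩ := hxW
    have : b ∈ B ⊓ A := Subgroup.mem_inf.mpr ⟨hbB, by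
      have : b = u⁻¹ * x := by rw [← hub]; group
      have huA : u ∈ A := (inf_le_left : A₀ ≤ A) hu
      rw [this]; exact mul_mem (inv_mem huA) hx⟩
    rw [hdis, Subgroup.mem_bot] at this
    simp only [this, mul_one] at hub
    exact hub ▸ hu
  obtain ⟨p, hpN, hpW⟩ : ∃ p ∈ Subgroup.normalizer (W : Set G) ⊓ P, p ∉ W := by
    have hnil : Group.IsNilpotent P := hP2.isNilpotent
    have hlt : W.subgroupOf P < ⊤ := by
      rw [lt_top_iff_ne_top, ne_eq, Subgroup.subgroupOf_eq_top]
      exact hWP.not_ge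
    obtain ⟨q, hq, hqW⟩ := SetLike.exists_of_lt (Group.normalizerCondition_of_isNilpotent _ hlt)
    refine ⟨q, Subgroup.mem_inf.mpr ⟨?_, q.2⟩, fun h => hqW h⟩
    rw [Subgroup.mem_normalizer_iff]
    intro x
    constructor
    · intro hx
      have := (Subgroup.mem_normalizer_iff.mp hq ⟨x, hWP.le hx⟩).mp hx
      exact this
    · intro hx
      have hxP : x ∈ P := by
        have : x = (q : G)⁻¹ * ((q : G) * x * (q : G)⁻¹) * q := by group
        rw [this]; exact mul_mem (mul_mem (inv_mem q.2) (hWP.le hx)) q.2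
      exact (Subgroup.mem_normalizer_iff.mp hq ⟨x, hxP⟩).mpr hx
  have hpA : ∃ x ∈ A, x ∉ A₀ ∧ x ∈ Subgroup.normalizer (W : Set G) := by
    obtain ⟨hpN, hp⟩ := Subgroup.mem_inf.mp hpN
    rw [hP, ← SetLike.mem_coe,
      Subgroup.coe_mul_of_right_le_normalizer_left _ _ hBN] at hp
    obtain ⟨x, hx, b, hbB, rfl⟩ := hp
    refine ⟨x, hx, fun h => hpW (mul_mem (Subgroup.mem_sup_left h) (Subgroup.mem_sup_right hbB)), ?_⟩
    have h1 : b ∈ Subgroup.normalizer (W : Set G) :=
      Subgroup.le_normalizer (Subgroup.mem_sup_right hbB)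
    simpa using mul_mem hpN (inv_mem h1)
  obtain ⟨x, hxA, hxA₀, hxN⟩ := hpA
  have hconj : B.map (MulAut.conj x).toMonoidHom ⊓ B = ⊥ := by
    have hxg := hTI (g⁻¹ * x * g)
    have e : A.map (MulAut.conj (g⁻¹ * x * g)).toMonoidHom =
        (B.map (MulAut.conj x).toMonoidHom).map (MulAut.conj g⁻¹).toMonoidHom := by
      rw [hB, Subgroup.map_map, Subgroup.map_map]; congr 1; ext w; simp [mul_assoc]
    have eA : B.map (MulAut.conj g⁻¹).toMonoidHom = A := by
      rw [hB, Subgroup.map_map]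
      conv_rhs => rw [← A.map_id]
      congr 1; ext w; simp [mul_assoc]
    rcases hxg with h | h
    · apply Subgroup.map_injective (f := (MulAut.conj g⁻¹).toMonoidHom) (MulAut.conj g⁻¹).injective
      rw [Subgroup.map_inf _ _ _ (MulAut.conj g⁻¹).injective, Subgroup.map_bot, ← e, eA, h]
    · exfalso
      refine hxA₀ ⟨hxA, Subgroup.mem_normalizer_iff_map_conj_eq.mpr ?_⟩
      change B.map (MulAut.conj x).toMonoidHom = B
      exact Subgroup.map_injective (f := (MulAut.conj g⁻¹).toMonoidHom) (MulAut.conj g⁻¹).injective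
        (by rw [← e, h, eA])
  set Bx := B.map (MulAut.conj x).toMonoidHom with hBx
  have hBxW : Bx ≤ W := by
    rintro _ ⟨b, hbB, rfl⟩
    exact (Subgroup.mem_normalizer_iff.mp hxN b).mp (Subgroup.mem_sup_right hbB)
  have hcardW : Nat.card W ≤ Nat.card A₀ * Nat.card B := by
    have hWset := Subgroup.coe_mul_of_left_le_normalizer_right A₀ B inf_le_right
    calc Nat.card W = Nat.card ((A₀ : Set G) * (B : Set G) : Set G) := by
          rw [← hWset]; rfl
      _ ≤ Nat.card A₀ * Nat.card B := Set.natCard_mul_le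
  have hcardle : Nat.card Bx * Nat.card B ≤ Nat.card W := by
    rw [← Nat.card_prod]
    refine Nat.card_le_card_of_injective
      (fun p : Bx × B => (⟨(p.1 : G) * p.2,
        mul_mem (hBxW p.1.2) (Subgroup.mem_sup_right p.2.2)⟩ : W)) ?_
    intro p q h
    apply Subgroup.mul_injective_of_disjoint (disjoint_iff.mpr hconj)
    exact congrArg Subtype.val h
  have hlt : Nat.card A₀ < Nat.card A := by
    by_contra hge
    exact hfull (Subgroup.eq_of_le_of_card_ge inf_le_left (not_lt.mp hge))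
  have hBxc : Nat.card Bx = Nat.card B :=
    Subgroup.card_map_of_injective (MulAut.conj x).injective
  have hpos : 0 < Nat.card B := Nat.card_pos
  have := hcardle.trans hcardW
  rw [hBxc] at this
  nlinarith

end Cfsg.Agent.S1177
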