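import Cfsg.Statements.S1178
import Cfsg.Agent.Lib.IsolatedInv

set_option autoImplicit false
open Cfsg

namespace Cfsg.Agent.S1178

open scoped Pointwise


/-- Let A be a subgroup of a Sylow 2-subgroup S of the finite group G which is weakly closed in S. If a conjugate g A g⁻¹ commutes elementwise with A, then g A g⁻¹ = A. -/
theorem result {G : Type*} [Group G] [Finite G] (S : Sylow 2 G) (A : Subgroup G) (hW : Cfsg.IsWeaklyClosed A (S : Subgroup G)) (g : G) (hc : ∀ a ∈ A, ∀ b ∈ A.map (MulAut.conj g).toMonoidHom, a * b = b * a) : A.map (MulAut.conj g).toMonoidHom = A := by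
  set B := A.map (MulAut.conj g).toMonoidHom with hB
  have : Fact (Nat.Prime 2) := ⟨Nat.prime_two⟩
  have hA2 : IsPGroup 2 A := S.isPGroup'.to_le hW.1
  have hB2 : IsPGroup 2 B := hA2.map _
  have hn : A ≤ Subgroup.normalizer (B : Set G) := fun a ha =>
    Subgroup.mem_normalizer_iff.mpr fun b => by
      constructor
      · intro hb; rw [hc a ha b hb, mul_inv_cancel_right]; exact hb
      · intro hb
        have h1 := hc a ha _ hb
        have h2 : a * b * a⁻¹ = b := by
          calc a * b * a⁻¹ = a⁻¹ * (a * (a * b * a⁻¹)) := by group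
            _ = a⁻¹ * ((a * b * a⁻¹) * a) := by rw [h1]
            _ = b := by group
        rwa [h2] at hb
  have hAB : IsPGroup 2 (A ⊔ B : Subgroup G) := hA2.to_sup_of_normal_right' hB2 hn
  obtain ⟨R, hR⟩ := hAB.exists_le_sylow
  obtain ⟨h, hh⟩ := MulAction.exists_smul_eq G R S
  have hmap : (R : Subgroup G).map (MulAut.conj h).toMonoidHom = (S : Subgroup G) := by
    rw [← hh, Sylow.coe_subgroup_smul]; rfl
  have hA' := hW.2 h (hmap ▸ Subgroup.map_mono (le_sup_left.trans hR))
  have hB' : B.map (MulAut.conj h).toMonoidHom ≤ (S : Subgroup G) :=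
    hmap ▸ Subgroup.map_mono (le_sup_right.trans hR)
  have hcomp : B.map (MulAut.conj h).toMonoidHom = A.map (MulAut.conj (h * g)).toMonoidHom := by
    rw [hB, Subgroup.map_map]; congr 1; ext x; simp [mul_assoc]
  have hB'' : B.map (MulAut.conj h).toMonoidHom = A := hcomp.trans (hW.2 (h * g) (hcomp ▸ hB'))
  exact Subgroup.map_injective (f := (MulAut.conj h).toMonoidHom) (MulAut.conj h).injective
    (hB''.trans hA'.symm)

end Cfsg.Agent.S1178
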