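import Cfsg.Statements.S1183
import Cfsg.Agent.Lib.IsolatedInv

set_option autoImplicit false
open Cfsg

namespace Cfsg.Agent.S1183

open scoped Pointwise

universe u v

theorem eq_one_of_top {X : Type u} [Group X] (hX : Cfsg.pResidual 2 X = ⊤) {A : Type v}
    [CommGroup A] (hA : IsPGroup 2 A) (φ : X →* A) : φ = 1 := by
  have h : Cfsg.pResidual 2 X ≤ φ.ker := by
    rw [Cfsg.pResidual, Subgroup.closure_le]
    intro g hg
    obtain ⟨n, hn⟩ := hA (φ g)
    exact MonoidHom.mem_ker.mpr (orderOf_eq_one_iff.mp (Nat.eq_one_of_dvd_coprimes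
      (Nat.Coprime.pow_left n (Nat.Coprime.symm hg))
      (orderOf_dvd_of_pow_eq_one hn) (orderOf_map_dvd φ g)))
  rw [hX, top_le_iff] at h
  ext g
  exact MonoidHom.mem_ker.mp (h ▸ Subgroup.mem_top g)

theorem exists_hom_of_ne_top {X : Type u} [Group X] [Finite X] (hX : Cfsg.pResidual 2 X ≠ ⊤) :
    ∃ (A : Type u) (_ : CommGroup A) (_ : Finite A), IsPGroup 2 A ∧ ∃ φ : X →* A, φ ≠ 1 := by
  have : Fact (Nat.Prime 2) := ⟨Nat.prime_two⟩
  set R := Cfsg.pResidual 2 X with hR
  have hn : R.Normal := by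
    rw [← Subgroup.normalizer_eq_top_iff, eq_top_iff]
    intro g _
    rw [Subgroup.mem_normalizer_iff]
    have key : ∀ g : X, R ≤ R.comap (MulAut.conj g).toMonoidHom := by
      intro g
      rw [hR, Cfsg.pResidual, Subgroup.closure_le]
      intro x hx
      refine Subgroup.subset_closure ?_
      change Nat.Coprime (orderOf (MulAut.conj g x)) 2
      rw [MulEquiv.orderOf_eq]; exact hx
    intro x
    refine ⟨fun hx => key g hx, fun hx => ?_⟩
    simpa [mul_assoc] using key g⁻¹ hx
  have hQ : IsPGroup 2 (X ⧸ R) := by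
    intro q
    induction q using QuotientGroup.induction_on with
    | _ g =>
      refine ⟨(orderOf g).factorization 2, ?_⟩
      rw [← QuotientGroup.mk_pow, QuotientGroup.eq_one_iff]
      refine Subgroup.subset_closure ?_
      change Nat.Coprime _ 2
      rw [orderOf_pow_of_dvd (pow_ne_zero _ two_ne_zero) (Nat.ordProj_dvd _ _)]
      exact (Nat.coprime_ordCompl Nat.prime_two (orderOf_pos g).ne').symm
  have hnt : Nontrivial (X ⧸ R) :=
    (QuotientGroup.nontrivial_iff (N := R)).mpr hX
  have : Group.IsNilpotent (X ⧸ R) := hQ.isNilpotent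
  have hlt : commutator (X ⧸ R) ≠ ⊤ :=
    (Group.IsSolvable.commutator_lt_top_of_nontrivial (X ⧸ R)).ne
  refine ⟨Abelianization (X ⧸ R), inferInstance, inferInstance, ?_,
    Abelianization.of.comp (QuotientGroup.mk' R), ?_⟩
  · exact hQ.of_surjective Abelianization.of QuotientGroup.mk_surjective
  · intro h
    apply hlt
    rw [← Abelianization.ker_of, eq_top_iff]
    intro q _
    induction q using QuotientGroup.induction_on with
    | _ g => exact MonoidHom.mem_ker.mpr (DFunLike.congr_fun h g)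

theorem transfer_eq {G : Type u} [Group G] [Finite G] {z : G}
    (hz : Cfsg.IsIsolatedInvolution z) {A : Type v} [CommGroup A] {C : Subgroup G}
    (hC : C = Subgroup.centralizer ({z} : Set G))
    (φ : C →* A) (c : C) :
    MonoidHom.transfer φ (c : G) = φ c ^ C.index := by
  classical
  let : Fintype (G ⧸ C) := C.fintypeQuotientOfFiniteIndex
  rw [MonoidHom.transfer_eq_prod_quotient_orbitRel_zpowers_quot]
  have hidx := Subgroup.index_eq_sum_minimalPeriod C (c : G)
  rw [hidx, ← Finset.prod_pow_eq_pow_sum]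
  refine Finset.prod_congr rfl fun q _ => ?_
  rw [← map_pow]
  set r := Function.minimalPeriod ((c : G) • ·) q.out
  set g := q.out.out
  set y : C := ⟨g⁻¹ * (c : G) ^ r * g, QuotientGroup.out_conj_pow_minimalPeriod_mem C (c : G) q.out⟩
  obtain ⟨e, _, he, hey⟩ := IsolatedInv.exists_commute_conj hz ⊤
    (x := ((c ^ r : C) : G)) (y := (y : G)) (h := g⁻¹)
    (Subgroup.le_normalizer (Subgroup.mem_top z)) (Subgroup.mem_top _)
    (Subgroup.mem_centralizer_singleton_iff.mp (hC.le (c ^ r).2))
    (Subgroup.mem_centralizer_singleton_iff.mp (hC.le y.2)) (by simp [y])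
  have heC : e ∈ C := hC.ge (Subgroup.mem_centralizer_singleton_iff.mpr he.eq)
  have : y = ⟨e, heC⟩ * c ^ r * ⟨e, heC⟩⁻¹ := Subtype.ext hey.symm
  rw [this, map_mul, map_mul, map_inv, mul_comm (φ _) (φ (c ^ r)), mul_inv_cancel_right]


/-- Let z be an isolated involution of the finite group G and C = C_G(z). Then the subgroup of G generated by its elements of odd order is all of G if and only if the subgroup of C generated by its elements of odd order is all of C. -/
theorem result {G : Type*} [Group G] [Finite G] (z : G) (hz : Cfsg.IsIsolatedInvolution z) : Cfsg.pResidual 2 G = ⊤ ↔ Cfsg.pResidual 2 ↥(Subgroup.centralizer ({z} : Set G)) = ⊤ := by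
  have hz2 := IsolatedInv.sq_of_orderOf_two hz.1
  have : Fact (Nat.Prime 2) := ⟨Nat.prime_two⟩
  set C := Subgroup.centralizer ({z} : Set G) with hC
  constructor
  · intro hG
    by_contra hne
    obtain ⟨A, _, _, hA, φ, hφ⟩ := exists_hom_of_ne_top hne
    have : ∃ c : C, φ c ≠ 1 := by
      by_contra h
      push Not at h
      exact hφ (MonoidHom.ext h)
    obtain ⟨c, hc⟩ := this
    have htr := eq_one_of_top hG hA (MonoidHom.transfer φ)
    have h1 : MonoidHom.transfer φ (c : G) = φ c ^ C.index := transfer_eq hz hC φ c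
    rw [htr, MonoidHom.one_apply] at h1
    obtain ⟨n, hn⟩ := hA (φ c)
    have h2 : orderOf (φ c) = 1 :=
      Nat.eq_one_of_dvd_coprimes
        (Nat.Coprime.pow_left n (Nat.coprime_two_left.mpr (IsolatedInv.odd_index_centralizer hz)))
        (orderOf_dvd_of_pow_eq_one hn) (orderOf_dvd_of_pow_eq_one h1.symm)
    exact hc (orderOf_eq_one_iff.mp h2)
  · intro hCt
    by_contra hne
    obtain ⟨A, _, _, hA, φ, hφ⟩ := exists_hom_of_ne_top hne
    apply hφ
    have hres := eq_one_of_top hCt hA (φ.comp C.subtype)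
    ext g
    obtain ⟨k, ⟨hk, _⟩, hkc⟩ := IsolatedInv.decomp_exists hz g
    have h1 : φ (g⁻¹ * k) = 1 := DFunLike.congr_fun hres ⟨_, hkc⟩
    obtain ⟨n, hn⟩ := hA (φ k)
    have h2 : orderOf (φ k) = 1 :=
      Nat.eq_one_of_dvd_coprimes (Nat.Coprime.pow_left n (Nat.coprime_two_left.mpr hk))
        (orderOf_dvd_of_pow_eq_one hn) (orderOf_map_dvd φ k)
    rw [map_mul, map_inv, orderOf_eq_one_iff.mp h2, mul_one, inv_eq_one] at h1
    exact h1

end Cfsg.Agent.S1183
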