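import Cfsg.Statements.S1184
import Cfsg.Agent.Lib.IsolatedInv

set_option autoImplicit false
open Cfsg

namespace Cfsg.Agent.S1184

open scoped Pointwise


/-- Let z be an isolated involution of the finite group G. If s and t are distinct conjugates of z, then st does not commute with z. -/
theorem result {G : Type*} [Group G] [Finite G] (z : G) (hz : Cfsg.IsIsolatedInvolution z) (g h : G) (hne : g * z * g⁻¹ ≠ h * z * h⁻¹) : ¬ Commute (g * z * g⁻¹ * (h * z * h⁻¹)) z := by
  intro hcomm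
  have hz2 := IsolatedInv.sq_of_orderOf_two hz.1
  set u := g * z * g⁻¹ with hu
  set v := h * z * h⁻¹ with hv
  have hu2 : u * u = 1 := IsolatedInv.conj_sq hz.1 g
  have hv2 : v * v = 1 := IsolatedInv.conj_sq hz.1 h
  set k := u * v with hk
  have h1 : u * k * u⁻¹ = k⁻¹ := by have := IsolatedInv.conj_mul_pow hu2 hv2 1; rwa [pow_one] at this
  obtain ⟨j, hj⟩ := IsolatedInv.odd_pow_sq (IsolatedInv.odd_orderOf_mul_conj hz g)
  rw [← hu] at hj
  set d := z * u with hd
  have h2 : d * k * d⁻¹ = k⁻¹ := by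
    calc d * k * d⁻¹ = z * (u * k * u⁻¹) * z⁻¹ := by rw [hd]; group
      _ = k⁻¹ := by rw [h1, hcomm.inv_left.symm.eq, mul_inv_cancel_right]
  have h3 : Commute (d ^ 2) k := by
    have h4 : d * k⁻¹ * d⁻¹ = k := by rw [← conj_inv, h2, inv_inv]
    apply mul_inv_eq_iff_eq_mul.mp
    calc d ^ 2 * k * (d ^ 2)⁻¹ = d * (d * k * d⁻¹) * d⁻¹ := by rw [pow_two]; group
      _ = k := by rw [h2, h4]
  have h5 : Commute d k := by rw [← hj]; exact h3.pow_left j
  have h6 : k = k⁻¹ := by rw [← h2, h5.eq, mul_inv_cancel_right]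
  have h7 : k ^ 2 = 1 := by rw [pow_two]; exact mul_eq_one_iff_eq_inv.mpr h6
  have h8 : orderOf k = 1 :=
    Nat.eq_one_of_dvd_coprimes (Nat.coprime_two_right.mpr (IsolatedInv.odd_orderOf_conj_mul_conj hz g h))
      dvd_rfl (orderOf_dvd_of_pow_eq_one h7)
  rw [orderOf_eq_one_iff, hk, mul_eq_one_iff_inv_eq, IsolatedInv.inv_eq_self_of_sq hu2] at h8
  exact hne h8

end Cfsg.Agent.S1184
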