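import Cfsg.Statements.S1186
import Mathlib
import Cfsg.Agent.Lib.IsolatedInv
-- import your own Cfsg.Agent.* helpers here

set_option autoImplicit false
open Cfsg

namespace Cfsg.Agent.S1186

open Cfsg.Agent.IsolatedInv

variable {G : Type*} [Group G] [Finite G]

set_option linter.unusedSectionVars false

/-- The odd-order elements inverted by `z`. -/
def InX (z k : G) : Prop := Odd (orderOf k) ∧ z * k * z⁻¹ = k⁻¹

/-- The conjugates of `z`. -/
def InK (z i : G) : Prop := ∃ g : G, g * z * g⁻¹ = i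

theorem sq_inj {k k' : G} (hk : Odd (orderOf k)) (hk' : Odd (orderOf k')) (h : k ^ 2 = k' ^ 2) :
    k = k' := by
  have e : ∀ {d : G}, Odd (orderOf d) → orderOf (d ^ 2) = orderOf d := fun hd =>
    Nat.Coprime.orderOf_pow (Nat.coprime_two_right.mpr hd)
  have ho : orderOf k = orderOf k' := by rw [← e hk, h, e hk']
  obtain ⟨m, hm⟩ := hk
  calc k = (k ^ 2) ^ (m + 1) := by
        rw [← pow_mul, show 2 * (m + 1) = orderOf k + 1 by omega, pow_succ, pow_orderOf_eq_one, one_mul]
    _ = (k' ^ 2) ^ (m + 1) := by rw [h]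
    _ = k' := by
        rw [← pow_mul, show 2 * (m + 1) = orderOf k' + 1 by omega, pow_succ, pow_orderOf_eq_one, one_mul]

omit [Finite G] in
theorem InX.pow {z k : G} (h : InX z k) (j : ℕ) : InX z (k ^ j) :=
  ⟨h.1.of_dvd_nat (orderOf_pow_dvd j), by rw [← conj_pow, h.2, inv_pow]⟩

theorem InX.exists_sqrt {z k : G} (h : InX z k) : ∃ j : ℕ, (k ^ j) ^ 2 = k := by
  obtain ⟨j, hj⟩ := odd_pow_sq h.1
  exact ⟨j, by rw [← pow_mul, mul_comm, pow_mul, hj]⟩

omit [Finite G] in
theorem InX.z_mul {z k : G} (h : InX z k) : z * k = k⁻¹ * z := mul_inv_eq_iff_eq_mul.1 h.2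

theorem inK_of_inX {z k : G} (h : InX z k) : InK z (z * k) := by
  obtain ⟨j, hj⟩ := h.exists_sqrt
  refine ⟨(k ^ j)⁻¹, ?_⟩
  rw [inv_inv, ← (h.pow j).z_mul, mul_assoc, ← sq, hj]

theorem inX_of_inK {z i : G} (hz : Cfsg.IsIsolatedInvolution z) (h : InK z i) : InX z (z * i) := by
  obtain ⟨g, rfl⟩ := h
  refine ⟨odd_orderOf_mul_conj hz g, ?_⟩
  have := conj_mul_pow (sq_of_orderOf_two hz.1) (conj_sq hz.1 g) 1
  rwa [pow_one] at this

omit [Finite G] in
theorem InK.conj {z i : G} (h : InK z i) (a : G) : InK z (a * i * a⁻¹) := by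
  obtain ⟨g, rfl⟩ := h
  exact ⟨a * g, by group⟩

theorem mid_unique {z P R R' : G} (hz : Cfsg.IsIsolatedInvolution z) (hP : InK z P) (hR : InK z R)
    (hR' : InK z R') (h : R * P * R = R' * P * R') : R = R' := by
  obtain ⟨g, rfl⟩ := hP
  have hz2 := sq_of_orderOf_two hz.1
  have key : ∀ T, InK z T → g⁻¹ * T * g * z * (g⁻¹ * T * g) = z * (z * (g⁻¹ * T * g)) ^ 2 := by
    intro T _
    rw [sq]; simp only [← mul_assoc, hz2, one_mul]
  have hX : ∀ T, InK z T → InX z (z * (g⁻¹ * T * g)) := fun T hT =>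
    inX_of_inK hz (by simpa using hT.conj g⁻¹)
  have h2 : (z * (g⁻¹ * R * g)) ^ 2 = (z * (g⁻¹ * R' * g)) ^ 2 := by
    apply mul_left_cancel (a := z)
    rw [← key R hR, ← key R' hR']
    calc g⁻¹ * R * g * z * (g⁻¹ * R * g) = g⁻¹ * (R * (g * z * g⁻¹) * R) * g := by group
      _ = g⁻¹ * (R' * (g * z * g⁻¹) * R') * g := by rw [h]
      _ = g⁻¹ * R' * g * z * (g⁻¹ * R' * g) := by group
  simpa using sq_inj (hX R hR).1 (hX R' hR').1 h2

theorem mid_exists {z P Q : G} (hz : Cfsg.IsIsolatedInvolution z) (hP : InK z P) (hQ : InK z Q) :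
    ∃ R, InK z R ∧ R * P * R = Q := by
  obtain ⟨g, rfl⟩ := hP
  have hz2 := sq_of_orderOf_two hz.1
  have hq : InX z (z * (g⁻¹ * Q * g)) := inX_of_inK hz (by simpa using hQ.conj g⁻¹)
  obtain ⟨j, hj⟩ := hq.exists_sqrt
  set q := (z * (g⁻¹ * Q * g)) ^ j
  refine ⟨g * (z * q) * g⁻¹, (inK_of_inX (hq.pow j)).conj g, ?_⟩
  calc g * (z * q) * g⁻¹ * (g * z * g⁻¹) * (g * (z * q) * g⁻¹)
      = g * (z * q * (z * z) * q) * g⁻¹ := by group
    _ = g * (z * q ^ 2) * g⁻¹ := by rw [hz2, mul_one, sq, mul_assoc z]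
    _ = g * ((z * z) * (g⁻¹ * Q * g)) * g⁻¹ := by rw [hj, mul_assoc z z]
    _ = Q := by rw [hz2, one_mul]; group


/-- Let z be an isolated involution of the finite group G, C = C_G(z), K the set of elements of odd order inverted by z, and s an involution of C. Then |G| = |C| · |C_K(sz)| · |C_K(s)|. -/
theorem result {G : Type*} [Group G] [Finite G] (z : G) (hz : Cfsg.IsIsolatedInvolution z) (s : G) (hs : orderOf s = 2) (hsz : Commute s z) : Nat.card G = Nat.card (Subgroup.centralizer ({z} : Set G)) * Nat.card {k : G // Odd (orderOf k) ∧ z * k * z⁻¹ = k⁻¹ ∧ Commute k (s * z)} * Nat.card {k : G // Odd (orderOf k) ∧ z * k * z⁻¹ = k⁻¹ ∧ Commute k s} := by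
  have hz2 := sq_of_orderOf_two hz.1
  have hzi : z⁻¹ = z := inv_eq_self_of_sq hz2
  have hs2 := sq_of_orderOf_two hs
  have hsi : s⁻¹ = s := inv_eq_self_of_sq hs2
  -- commuting with `s * z` means being inverted by `s`
  have hsinv : ∀ k, InX z k → (Commute k (s * z) ↔ s * k * s = k⁻¹) := by
    intro k hk
    constructor
    · intro h
      have h1 : k * s = s * (k⁻¹) := by
        apply mul_right_cancel (b := z)
        rw [mul_assoc, h.eq, mul_assoc s z k, hk.z_mul, ← mul_assoc]
      calc s * k * s = s * (k * s) := by group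
        _ = (s * s) * k⁻¹ := by rw [h1]; group
        _ = k⁻¹ := by rw [hs2, one_mul]
    · intro h
      show k * (s * z) = s * z * k
      rw [mul_assoc s z k, hk.z_mul, ← mul_assoc, ← h]
      simp only [← mul_assoc, hs2, one_mul]
  have hK : ∀ {a b : G}, InX z a → InX z b → InX z (a * b * a) := by
    intro a b ha hb
    have h1 : InK z (z * (a * b * a)) := by
      have h2 := (inK_of_inX hb).conj a⁻¹
      rw [inv_inv] at h2
      rwa [show z * (a * b * a) = a⁻¹ * (z * b) * a by rw [← mul_assoc, ← mul_assoc, ha.z_mul]; group]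
    have h3 := inX_of_inK hz h1
    rwa [← mul_assoc z z, hz2, one_mul] at h3
  let F : {k : G // InX z k ∧ Commute k (s * z)} × {k : G // InX z k ∧ Commute k s} →
      {k : G // InX z k} := fun p => ⟨p.2.1 * p.1.1 * p.2.1, hK p.2.2.1 p.1.2.1⟩
  have hF : Function.Bijective F := by
    constructor
    · rintro ⟨⟨b, hb, hbs⟩, ⟨a, ha, has⟩⟩ ⟨⟨b', hb', hbs'⟩, ⟨a', ha', has'⟩⟩ heq
      simp only [F, Subtype.mk.injEq] at heq
      have key : ∀ a b, InX z a → InX z b → Commute a s → Commute b (s * z) →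
          (z * a ^ 2) * (z * (a * b * a)) * (z * a ^ 2) = s * (z * (a * b * a)) * s := by
        intro a b ha hb has hbs
        have h1 : s * (a * b * a) * s = a * b⁻¹ * a := by
          rw [← (hsinv b hb).1 hbs]
          calc s * (a * b * a) * s = (s * a) * b * (a * s) := by group
            _ = (a * s) * b * (s * a) := by rw [has.eq]
            _ = a * (s * b * s) * a := by group
        have h2 := (hK ha hb).z_mul
        calc z * a ^ 2 * (z * (a * b * a)) * (z * a ^ 2)
            = z * a ^ 2 * ((a * b * a)⁻¹ * z) * (z * a ^ 2) := by rw [h2]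
          _ = z * a ^ 2 * (a * b * a)⁻¹ * (z * z) * a ^ 2 := by group
          _ = z * (a * b⁻¹ * a) := by rw [hz2]; group
          _ = z * (s * (a * b * a) * s) := by rw [h1]
          _ = s * (z * (a * b * a)) * s := by
            rw [← mul_assoc z, ← mul_assoc z, ← hsz.eq]; group
      have h3 := mid_unique hz (inK_of_inX (hK ha hb)) (inK_of_inX (ha.pow 2))
        (inK_of_inX (ha'.pow 2)) (by rw [key a b ha hb has hbs, heq, key a' b' ha' hb' has' hbs'])
      have h4 : a = a' := sq_inj ha.1 ha'.1 (mul_left_cancel h3)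
      subst h4
      have h5 : b = b' := mul_left_cancel (mul_right_cancel heq)
      subst h5
      rfl
    · rintro ⟨x, hx⟩
      have hP := inK_of_inX hx
      have hsK : ∀ {T}, InK z T → InK z (s * T * s) := fun hT => by
        have := hT.conj s; rwa [hsi] at this
      have hQ := hsK hP
      obtain ⟨R, hR, hRe⟩ := mid_exists hz hP hQ
      have hR2 : R * R = 1 := by
        obtain ⟨g, rfl⟩ := hR
        exact conj_sq hz.1 g
      have hRb : R * (s * (z * x) * s) * R = z * x := by
        rw [← hRe]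
        calc R * (R * (z * x) * R) * R = (R * R) * (z * x) * (R * R) := by group
          _ = z * x := by rw [hR2]; group
      have hRs : s * R * s = R := by
        refine mid_unique hz hP (hsK hR) hR ?_
        calc s * R * s * (z * x) * (s * R * s) = s * (R * (s * (z * x) * s) * R) * s := by group
          _ = s * (z * x) * s := by rw [hRb]
          _ = R * (z * x) * R := hRe.symm
      have hw := inX_of_inK hz hR
      have hws : Commute (z * R) s := by
        show z * R * s = s * (z * R)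
        calc z * R * s = z * (s * R * s) * s := by rw [hRs]
          _ = (z * s) * R * (s * s) := by group
          _ = s * (z * R) := by rw [hs2, ← hsz.eq]; group
      obtain ⟨j, hj⟩ := hw.exists_sqrt
      set a := (z * R) ^ j with hadef
      have ha : InX z a := hw.pow j
      have has : Commute a s := hws.pow_left j
      set b := a⁻¹ * x * a⁻¹ with hbdef
      have hb : InX z b := by
        have hai : InX z a⁻¹ := ⟨by rw [orderOf_inv]; exact ha.1,
          by rw [← conj_inv, ha.2]⟩
        exact hK hai hx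
      have hR' : R = z * a ^ 2 := by rw [hj, ← mul_assoc, hz2, one_mul]
      have hsx : s * x * s = a ^ 2 * x⁻¹ * a ^ 2 := by
        have h1 : s * (z * x) * s = z * (s * x * s) := by
          rw [← mul_assoc z, ← mul_assoc z, ← hsz.eq]; group
        rw [h1, hR', hx.z_mul] at hRe
        have h2 : z * (a ^ 2 * x⁻¹ * a ^ 2) = z * (s * x * s) := by
          rw [← hRe]
          calc z * (a ^ 2 * x⁻¹ * a ^ 2) = z * a ^ 2 * x⁻¹ * (z * z) * a ^ 2 := by rw [hz2]; group
            _ = z * a ^ 2 * (x⁻¹ * z) * (z * a ^ 2) := by group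
        exact (mul_left_cancel h2).symm
      refine ⟨⟨⟨b, hb, (hsinv b hb).2 ?_⟩, ⟨a, ha, has⟩⟩, Subtype.ext ?_⟩
      · have h3 : s * a⁻¹ = a⁻¹ * s := has.inv_left.eq.symm
        calc s * b * s = s * a⁻¹ * x * (a⁻¹ * s) := by rw [hbdef]; group
          _ = a⁻¹ * s * x * (s * a⁻¹) := by rw [h3]
          _ = a⁻¹ * (s * x * s) * a⁻¹ := by group
          _ = b⁻¹ := by rw [hsx, hbdef]; group
      · show a * b * a = x
        rw [hbdef]; group
  set C := Subgroup.centralizer ({z} : Set G) with hCdef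
  have hcoset : Function.Bijective (fun k : {k : G // InX z k} => (QuotientGroup.mk k.1 : G ⧸ C)) := by
    constructor
    · rintro ⟨k, hk⟩ ⟨k', hk'⟩ h
      exact Subtype.ext (decomp_unique hz (g := k') ⟨hk, QuotientGroup.eq.1 h.symm⟩
        ⟨hk', by simp⟩)
    · intro q
      induction q using QuotientGroup.induction_on with
      | H g =>
        obtain ⟨k, hk, hkC⟩ := decomp_exists hz g
        exact ⟨⟨k, hk⟩, (QuotientGroup.eq.2 hkC).symm⟩
  have h1 : C.index = Nat.card {k : G // InX z k} := (Nat.card_eq_of_bijective _ hcoset).symm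
  rw [← C.card_mul_index, h1, ← Nat.card_eq_of_bijective F hF, Nat.card_prod, mul_assoc]
  congr 2 <;> exact Nat.card_congr (Equiv.subtypeEquivRight fun k => and_assoc)

end Cfsg.Agent.S1186
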