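import Cfsg.Statements.S1189
import Mathlib
import Cfsg.Agent.Lib.QDWreathQDSub
-- import your own Cfsg.Agent.* helpers here

set_option autoImplicit false
open Cfsg
open Cfsg.Agent.QDWreathBase Cfsg.Agent.QDWreathQD Cfsg.Agent.QDWreathQDSub

namespace Cfsg.Agent.S1189

/-- A quasi-dihedral 2-group has exactly two conjugacy classes of elements of order 2 and exactly two conjugacy classes of elements of order 4. -/
theorem result {S : Type*} [Group S] [Finite S] (hS : Cfsg.IsQuasiDihedral S) : Nat.card {C : ConjClasses S // ∃ t : S, orderOf t = 2 ∧ ConjClasses.mk t = C} = 2 ∧ Nat.card {C : ConjClasses S // ∃ t : S, orderOf t = 4 ∧ ConjClasses.mk t = C} = 2 := by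
  obtain ⟨n, hn, hcard, l, hl0, hl, ⟨E⟩⟩ := exists_equiv hS
  have hEo : ∀ (a : QD l) (m : ℕ), orderOf (E a) = m ↔ orderOf a = m := fun a m => by
    rw [MulEquiv.orderOf_eq]
  have hEc : ∀ a b : QD l, IsConj (E a) (E b) ↔ IsConj a b := by
    intro a b
    constructor
    · intro h; simpa using E.symm.toMonoidHom.map_isConj h
    · intro h; exact E.toMonoidHom.map_isConj h
  have h2 : ∀ a : QD l, orderOf a = 2 ↔ a ^ 2 = 1 ∧ a ≠ 1 := fun a => orderOf_eq_prime_iff
  have hconj : ∀ t i : ZMod (8 * l), IsConj (⟨i, true⟩ : QD l) ⟨i + 2 * t, true⟩ :=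
    fun t i => isConj_iff.2 ⟨_, conj_even t i⟩
  have h4 : ∀ a : QD l, orderOf a = 4 ↔ a ^ 4 = 1 ∧ a ^ 2 ≠ 1 := by
    intro a
    constructor
    · intro h
      exact ⟨h ▸ pow_orderOf_eq_one a, fun h' => by
        have := orderOf_dvd_of_pow_eq_one h'; rw [h] at this; omega⟩
    · rintro ⟨h, h'⟩
      exact orderOf_eq_prime_pow (p := 2) (n := 1) (by simpa using h') (by simpa using h)
  constructor
  · rw [card_classes_eq (P := fun t => orderOf t = 2) [E (C l), E (Y l)]]
    · rfl
    · intro a ha
      simp only [List.mem_cons, List.not_mem_nil, or_false] at ha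
      rcases ha with rfl | rfl <;> rw [hEo, h2]
      · exact ⟨C_sq, C_ne_one⟩
      · exact ⟨by rw [Y, sq_true, mul_zero]; rfl, fun h => by simp [Y, one_def] at h⟩
    · intro t ht
      obtain ⟨a, rfl⟩ := E.surjective t
      rw [hEo, h2, sq_one_iff] at ht
      rcases ht.1 with rfl | rfl | ⟨u, rfl⟩
      · exact absurd rfl ht.2
      · exact ⟨E (C l), by simp, IsConj.refl _⟩
      · exact ⟨E (Y l), by simp, (hEc _ _).2 (by simpa [Y] using hconj u 0)⟩
    · simp only [List.pairwise_cons, List.mem_cons, List.not_mem_nil, or_false, forall_eq,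
        List.Pairwise.nil, and_true, false_implies, implies_true, hEc]
      intro h
      obtain ⟨c, hc⟩ := isConj_iff.1 h
      rw [C_central, mul_inv_cancel_right] at hc
      exact absurd (congrArg QD.e hc) (by simp [C, Y])
  · rw [card_classes_eq (P := fun t => orderOf t = 4)
      [E ⟨2 * (l : ZMod (8 * l)), false⟩, E ⟨1, true⟩]]
    · rfl
    · intro a ha
      simp only [List.mem_cons, List.not_mem_nil, or_false] at ha
      rcases ha with rfl | rfl <;> rw [hEo, h4]
      · constructor
        · rw [pow_false, one_def]; congr 1; push_cast; linear_combination eight_l (l := l)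
        · rw [pow_false, one_def]; intro h
          have h1 := congrArg QD.i h
          simp only [Nat.cast_ofNat] at h1
          exact four_l_ne (l := l) (by linear_combination h1)
      · have h := sq_true_odd (l := l) 0
        rw [mul_zero, zero_add] at h
        exact ⟨by rw [show (4 : ℕ) = 2 * 2 from rfl, pow_mul, h, C_sq], by rw [h]; exact C_ne_one⟩
    · intro t ht
      obtain ⟨a, rfl⟩ := E.surjective t
      rw [hEo, h4] at ht
      obtain ⟨i, _ | _⟩ := a
      · refine ⟨E ⟨2 * (l : ZMod (8 * l)), false⟩, by simp, (hEc _ _).2 ?_⟩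
        rw [pow_false, pow_false] at ht
        have h0 : 4 * i = 0 := by simpa [one_def] using congrArg QD.i ht.1
        obtain ⟨u, rfl⟩ := four_mul_zero h0
        obtain ⟨v, rfl | rfl⟩ := even_or_odd u
        · exact absurd (by rw [one_def]; congr 1; push_cast; linear_combination v * eight_l (l := l)) ht.2
        · rcases four_l_mul v with hv | hv
          · convert IsConj.refl _ using 2; linear_combination hv
          · refine isConj_iff.2 ⟨Y l, ?_⟩
            simp only [Y, mk_mul_true, mk_inv_true, mk_mul_false, Bool.not_false]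
            congr 1
            unfold k
            linear_combination -hv + ((l : ZMod (8 * l)) - 1) * eight_l (l := l)
      · obtain ⟨u, rfl | rfl⟩ := even_or_odd i
        · exact absurd (sq_true_even u) ht.2
        · exact ⟨E ⟨1, true⟩, by simp, (hEc _ _).2 (by simpa [add_comm] using hconj u 1)⟩
    · simp only [List.pairwise_cons, List.mem_cons, List.not_mem_nil, or_false, forall_eq,
        List.Pairwise.nil, and_true, false_implies, implies_true, hEc]
      intro h
      obtain ⟨⟨c, _ | _⟩, hc⟩ := isConj_iff.1 h <;>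
        exact absurd (congrArg QD.e hc) (by simp)

end Cfsg.Agent.S1189
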