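import Cfsg.Statements.S1190
import Mathlib
import Cfsg.Agent.Lib.QDWreathQDSub
import Cfsg.Agent.Lib.QDWreathQDFour
-- import your own Cfsg.Agent.* helpers here

set_option autoImplicit false
open Cfsg
open Cfsg.Agent.QDWreathBase Cfsg.Agent.QDWreathQD Cfsg.Agent.QDWreathQDSub Cfsg.Agent.QDWreathQDFour

namespace Cfsg.Agent.S1190

/-- In a quasi-dihedral 2-group S, any two Klein four-subgroups are conjugate, and every Klein four-subgroup T satisfies C_S(T) = T and |N_S(T) : T| = 2. -/
theorem result {S : Type*} [Group S] [Finite S] (hS : Cfsg.IsQuasiDihedral S) : (∀ T₁ T₂ : Subgroup S, IsKleinFour T₁ → IsKleinFour T₂ → ∃ s : S, T₁.map (MulAut.conj s).toMonoidHom = T₂) ∧ (∀ T : Subgroup S, IsKleinFour T → Subgroup.centralizer (T : Set S) = T ∧ T.relIndex (Subgroup.normalizer (T : Set S)) = 2) := by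
  obtain ⟨n, hn, hcard, l, hl0, hl, ⟨E⟩⟩ := exists_equiv hS
  constructor
  · intro T₁ T₂ h₁ h₂
    obtain ⟨t₁, -, -, e₁⟩ := klein_pullback E T₁ h₁
    obtain ⟨t₂, hg₂, hC₂, e₂⟩ := klein_pullback E T₂ h₂
    obtain ⟨c, hc⟩ := conj_rot t₁ t₂
    refine ⟨E c, Subgroup.eq_of_le_of_card_ge ?_ ?_⟩
    · rintro _ ⟨b, hb, rfl⟩
      obtain ⟨a, rfl⟩ := E.surjective b
      have ha : a ∈ (T₁.comap E.toMonoidHom : Set (QD l)) := hb
      rw [e₁] at ha
      have key : c * a * c⁻¹ ∈ T₂.comap E.toMonoidHom := by
        rw [← SetLike.mem_coe, e₂]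
        rcases ha with rfl | rfl | rfl | rfl
        · simp [fourSet]
        · simp [fourSet, conj_C]
        · simp [fourSet, hc]
        · rw [← conj_mul, conj_C, hc]; simp [fourSet]
      simpa using key
    · rw [Subgroup.card_map_of_injective (f := (MulAut.conj (E c)).toMonoidHom) (MulAut.conj (E c)).injective,
        h₁.card_four, h₂.card_four]
  · intro T hT
    obtain ⟨t, hg, hC, e⟩ := klein_pullback E T hT
    set g : QD l := ⟨2 * t, true⟩ with hgdef
    have hmem : ∀ a, a ∈ T.comap E.toMonoidHom ↔ a ∈ fourSet g := fun a => by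
      rw [← SetLike.mem_coe, e]
    constructor
    · apply le_antisymm
      · intro b hb
        obtain ⟨a, rfl⟩ := E.surjective b
        have h1 : a * g = g * a := E.injective (by
          rw [map_mul, map_mul]; exact (Subgroup.mem_centralizer_iff.1 hb _ hg).symm)
        exact (hmem a).2 (by simpa [fourSet] using commute_true_iff.1 h1)
      · intro b hb
        rw [Subgroup.mem_centralizer_iff]
        intro a ha
        have := hT
        exact congrArg Subtype.val ((IsKleinFour.isMulCommutative (G := T)).is_comm.comm ⟨a, ha⟩ ⟨b, hb⟩)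
    · have hnorm : ∀ a : QD l, E a ∈ Subgroup.normalizer (T : Set S) ↔
          ∀ b, b ∈ fourSet g ↔ a * b * a⁻¹ ∈ fourSet g := by
        intro a
        rw [Subgroup.mem_normalizer_iff]
        constructor
        · intro h b
          rw [← hmem, ← hmem]
          simpa using h (E b)
        · intro h b
          obtain ⟨b, rfl⟩ := E.surjective b
          have := h b
          rw [← hmem, ← hmem] at this
          simpa using this
      set a₀ : QD l := ⟨2 * (l : ZMod (8 * l)), false⟩ with ha₀
      have hcg : a₀ * g * a₀⁻¹ = C l * g := by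
        rw [ha₀, hgdef, conj_false, C, mk_mul_false]
        congr 1
        linear_combination -(l : ZMod (8 * l)) * eight_l (l := l)
      have hgg : g * g = 1 := by rw [← sq]; exact sq_true_even t
      have hCC : C l * C l = 1 := by rw [← sq]; exact C_sq
      have ha₀N : E a₀ ∈ Subgroup.normalizer (T : Set S) := by
        rw [hnorm]
        have hback : a₀ * (C l * g) * a₀⁻¹ = g := by
          rw [← conj_mul, conj_C, hcg, ← mul_assoc, hCC, one_mul]
        intro b
        constructor
        · intro hb
          rcases hb with rfl | rfl | rfl | rfl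
          · simp [fourSet]
          · simp [fourSet, conj_C]
          · simp [fourSet, hcg]
          · simp [fourSet, hback]
        · intro hb
          have hb' : b = a₀⁻¹ * (a₀ * b * a₀⁻¹) * a₀ := by group
          rcases hb with h | h | h | h
          · rw [h] at hb'; simp [hb', fourSet]
          · rw [h, mul_assoc, ← C_central, ← mul_assoc, inv_mul_cancel, one_mul] at hb'
            rw [hb']; simp [fourSet]
          · rw [h, ← hback] at hb'
            rw [hb']; simp [fourSet, mul_assoc]
          · rw [h, ← hcg] at hb'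
            rw [hb']; simp [fourSet, mul_assoc]
      refine Subgroup.index_eq_two_iff.2 ⟨⟨E a₀, ha₀N⟩, ?_⟩
      rintro ⟨b, hb⟩
      obtain ⟨a, rfl⟩ := E.surjective b
      simp only [Subgroup.mem_subgroupOf, Subgroup.coe_mul, ← map_mul]
      have hC' : ∀ z, z * g * z⁻¹ = g ↔ z ∈ fourSet g := by
        intro z
        rw [mul_inv_eq_iff_eq_mul, hgdef, commute_true_iff]
        simp [fourSet]
      have himg : a * g * a⁻¹ = g ∨ a * g * a⁻¹ = C l * g := by
        have h := ((hnorm a).1 hb g).1 (by simp [fourSet])
        rcases h with h | h | h | h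
        · rw [conj_eq_one_iff] at h; exact absurd h (by simp [hgdef, one_def])
        · have : g = C l := mul_left_cancel (mul_right_cancel (h.trans (conj_C a).symm))
          exact absurd (congrArg QD.e this) (by simp [hgdef, C])
        · exact Or.inl h
        · exact Or.inr h
      have hne : C l * g ≠ g := fun h => C_ne_one (mul_eq_right.1 h)
      have ht1 : E (a * a₀) ∈ T ↔ a * a₀ * g * (a * a₀)⁻¹ = g := by
        rw [hC', ← hmem]; rfl
      have ht2 : E a ∈ T ↔ a * g * a⁻¹ = g := by
        rw [hC', ← hmem]; rfl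
      have e3 : a * a₀ * g * (a * a₀)⁻¹ = C l * (a * g * a⁻¹) := by
        calc a * a₀ * g * (a * a₀)⁻¹ = a * (a₀ * g * a₀⁻¹) * a⁻¹ := by group
          _ = C l * (a * g * a⁻¹) := by rw [hcg, ← conj_mul, conj_C]
      rw [ht1, ht2, e3]
      rcases himg with h | h <;> rw [h]
      · simp [hne]
      · rw [← mul_assoc, hCC, one_mul]; simp [hne]

end Cfsg.Agent.S1190
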