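import Cfsg.Statements.S1191
import Mathlib
import Cfsg.Agent.Lib.QDWreathQDSub
import Cfsg.Agent.Lib.QDWreathQDFour
-- import your own Cfsg.Agent.* helpers here

set_option autoImplicit false
open Cfsg
open Cfsg.Agent.QDWreathBase Cfsg.Agent.QDWreathQD Cfsg.Agent.QDWreathQDSub Cfsg.Agent.QDWreathQDFour

namespace Cfsg.Agent.S1191

/-- In a quasi-dihedral 2-group S, any two subgroups isomorphic to the quaternion group of order 8 are conjugate, and each such subgroup Q satisfies C_S(Q) = Z(Q) and |N_S(Q) : Q| = 2. -/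
theorem result {S : Type*} [Group S] [Finite S] (hS : Cfsg.IsQuasiDihedral S) : (∀ Q₁ Q₂ : Subgroup S, Nonempty (Q₁ ≃* QuaternionGroup 2) → Nonempty (Q₂ ≃* QuaternionGroup 2) → ∃ s : S, Q₁.map (MulAut.conj s).toMonoidHom = Q₂) ∧ (∀ Q : Subgroup S, Nonempty (Q ≃* QuaternionGroup 2) → Subgroup.centralizer (Q : Set S) = (Subgroup.center Q).map Q.subtype ∧ Q.relIndex (Subgroup.normalizer (Q : Set S)) = 2) := by
  obtain ⟨n, hn, hcard, l, hl0, hl, ⟨E⟩⟩ := exists_equiv hS
  constructor
  · rintro Q₁ Q₂ ⟨e₁⟩ ⟨e₂⟩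
    obtain ⟨t₁, -, s₁⟩ := quat_pullback E Q₁ e₁
    obtain ⟨t₂, -, s₂⟩ := quat_pullback E Q₂ e₂
    set j : ZMod (8 * l) := (1 - 2 * (l : ZMod (8 * l))) * (t₂ - t₁)
    refine ⟨E ⟨j, false⟩, Subgroup.eq_of_le_of_card_ge ?_ ?_⟩
    · rintro _ ⟨b, hb, rfl⟩
      obtain ⟨a, rfl⟩ := E.surjective b
      have ha : a ∈ (Q₁.comap E.toMonoidHom : Set (QD l)) := hb
      rw [s₁] at ha
      have h := quatSet_conj_false j _ ha
      rw [show (2 * t₁ + 1 + (2 - 4 * (l : ZMod (8 * l))) * j) = 2 * t₂ + 1 by
        linear_combination (t₂ - t₁) * unit_eq (l := l), ← s₂, SetLike.mem_coe, Subgroup.mem_comap] at h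
      simp only [MulEquiv.coe_toMonoidHom, map_mul, map_inv] at h
      exact h
    · rw [Subgroup.card_map_of_injective (f := (MulAut.conj (E ⟨j, false⟩)).toMonoidHom)
        (MulAut.conj (E ⟨j, false⟩)).injective, Nat.card_congr e₁.toEquiv, Nat.card_congr e₂.toEquiv]
  · rintro Q ⟨eQ⟩
    obtain ⟨t, hg, hs⟩ := quat_pullback E Q eQ
    set i : ZMod (8 * l) := 2 * t + 1 with hi
    have hmem : ∀ a, a ∈ Q.comap E.toMonoidHom ↔ a ∈ quatSet i := fun a => by
      rw [← SetLike.mem_coe, hs]
    set d : QD l := ⟨2 * (l : ZMod (8 * l)), false⟩ with hd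
    have hdQ : d ∈ Q.comap E.toMonoidHom := (hmem d).2 ⟨1, Or.inl (by rw [hd, mul_one])⟩
    have hCQ : C l ∈ Q.comap E.toMonoidHom := (hmem _).2 ⟨2, Or.inl (by rw [C]; congr 1; ring)⟩
    constructor
    · apply le_antisymm
      · intro b hb
        obtain ⟨a, rfl⟩ := E.surjective b
        have h1 : a * ⟨i, true⟩ = (⟨i, true⟩ : QD l) * a := E.injective (by
          rw [map_mul, map_mul]; exact (Subgroup.mem_centralizer_iff.1 hb _ hg).symm)
        have h2 : a * d = d * a := E.injective (by
          rw [map_mul, map_mul]; exact (Subgroup.mem_centralizer_iff.1 hb _ hdQ).symm)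
        obtain ⟨j, _ | _⟩ := a
        · have haQ : E (⟨j, false⟩ : QD l) ∈ Q := by
            rcases commute_true_iff.1 h1 with h | h | h | h
            · rw [h, map_one]; exact one_mem Q
            · rw [h]; exact hCQ
            all_goals exact absurd (congrArg QD.e h) (by simp [C])
          refine ⟨⟨_, haQ⟩, ?_, rfl⟩
          rw [SetLike.mem_coe, Subgroup.mem_center_iff]
          intro c
          exact Subtype.ext (Subgroup.mem_centralizer_iff.1 hb _ c.2)
        · exfalso
          have h3 := congrArg QD.i h2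
          simp only [hd, mk_mul_true, mk_mul_false] at h3
          exact four_l_ne (l := l) (by
            unfold k at h3; linear_combination -h3 + (l : ZMod (8 * l)) * eight_l (l := l))
      · rintro _ ⟨c, hc, rfl⟩
        rw [Subgroup.mem_centralizer_iff]
        intro b hb
        exact congrArg Subtype.val (Subgroup.mem_center_iff.1 hc ⟨b, hb⟩)
    · set e : QD l := ⟨(l : ZMod (8 * l)), false⟩ with he
      have hnorm : ∀ a : QD l, E a ∈ Subgroup.normalizer (Q : Set S) ↔
          ∀ b, b ∈ quatSet i ↔ a * b * a⁻¹ ∈ quatSet i := by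
        intro a
        rw [Subgroup.mem_normalizer_iff]
        constructor
        · intro h b
          rw [← hmem, ← hmem]
          simpa using h (E b)
        · intro h b
          obtain ⟨b, rfl⟩ := E.surjective b
          have := h b
          rw [← hmem, ← hmem] at this
          simpa using this
      have hsub : ∀ j j' : ZMod (8 * l), (∃ s, j = 2 * (l : ZMod (8 * l)) * s + j') →
          quatSet j ⊆ quatSet j' := by
        rintro j j' ⟨s, rfl⟩ a ⟨r, rfl | rfl⟩
        · exact ⟨r, Or.inl rfl⟩
        · exact ⟨r + s, Or.inr (by congr 1; ring)⟩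
      have heN : E e ∈ Subgroup.normalizer (Q : Set S) := by
        rw [hnorm]
        intro b
        constructor
        · intro hb
          refine hsub _ _ ⟨1 - 2 * (l : ZMod (8 * l)), ?_⟩ (quatSet_conj_false _ _ hb)
          ring
        · intro hb
          have h := quatSet_conj_false (-(l : ZMod (8 * l))) _ hb
          rw [← mk_inv_false, inv_inv, ← mul_assoc, ← mul_assoc, inv_mul_cancel, one_mul,
            inv_mul_cancel_right] at h
          refine hsub _ _ ⟨-(1 - 2 * (l : ZMod (8 * l))), ?_⟩ h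
          ring
      refine Subgroup.index_eq_two_iff.2 ⟨⟨E e, heN⟩, ?_⟩
      rintro ⟨b, hb⟩
      obtain ⟨a, rfl⟩ := E.surjective b
      simp only [Subgroup.mem_subgroupOf, Subgroup.coe_mul, ← map_mul]
      have hQmem : ∀ z, E z ∈ Q ↔ z ∈ quatSet i := fun z => hmem z
      have hnotboth : ¬ (E (a * e) ∈ Q ∧ E a ∈ Q) := by
        rintro ⟨h1, h2⟩
        have h3 : E e ∈ Q := by
          have := mul_mem (inv_mem h2) h1
          rwa [← map_inv, ← map_mul, inv_mul_cancel_left] at this
        rw [hQmem] at h3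
        obtain ⟨s, h | h⟩ := h3
        · have h4 : (l : ZMod (8 * l)) = 2 * (l : ZMod (8 * l)) * s := congrArg QD.i h
          exact four_l_ne (l := l) (by linear_combination 4 * h4 + s * eight_l (l := l))
        · exact absurd (congrArg QD.e h) (by simp [he])
      -- reduce to a rotation
      have hrot : ∀ j, E ⟨j, false⟩ ∈ Subgroup.normalizer (Q : Set S) →
          E ⟨j, false⟩ ∈ Q ∨ E (⟨j, false⟩ * e) ∈ Q := by
        intro j hj
        have h := ((hnorm _).1 hj ⟨i, true⟩).1 ⟨0, Or.inr (by simp)⟩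
        rw [conj_false] at h
        obtain ⟨s, h | h⟩ := h
        · exact absurd (congrArg QD.e h) (by simp)
        · have h1 := congrArg QD.i h
          simp only at h1
          set v := s * (1 - 2 * (l : ZMod (8 * l))) with hv
          have h2 : 2 * (j - (l : ZMod (8 * l)) * v) = 0 := by
            rw [hv]
            linear_combination (1 - 2 * (l : ZMod (8 * l))) * h1 - j * unit_eq (l := l)
          have hj : ∃ w, j = (l : ZMod (8 * l)) * w := by
            rcases two_mul_zero h2 with h3 | h3
            · exact ⟨v, by linear_combination h3⟩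
            · exact ⟨v + 4, by linear_combination h3⟩
          obtain ⟨w, rfl⟩ := hj
          obtain ⟨u, rfl | rfl⟩ := even_or_odd w
          · exact Or.inl ((hQmem _).2 ⟨u, Or.inl (by congr 1; ring)⟩)
          · refine Or.inr ((hQmem _).2 ⟨u + 1, Or.inl ?_⟩)
            rw [he, mk_mul_false]; congr 1; ring
      have hone : E a ∈ Q ∨ E (a * e) ∈ Q := by
        obtain ⟨j, _ | _⟩ := a
        · exact hrot j hb
        · have hgQ : E (⟨i, true⟩ : QD l) ∈ Q := hg
          have hN' : E ((⟨i, true⟩ : QD l)⁻¹ * ⟨j, true⟩) ∈ Subgroup.normalizer (Q : Set S) := by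
            rw [map_mul, map_inv]
            exact mul_mem (inv_mem (Subgroup.le_normalizer hgQ)) hb
          rw [mk_inv_true, mk_mul_true, Bool.not_true] at hN'
          have heq : (⟨j, true⟩ : QD l) = ⟨i, true⟩ * ⟨-(k l * i) + k l * j, false⟩ := by
            rw [mk_mul_true, Bool.not_false]; congr 1
            linear_combination (i - j) * k_mul_k (l := l)
          rcases hrot _ hN' with h | h
          · left; rw [heq, map_mul]; exact mul_mem hgQ h
          · right; rw [heq, mul_assoc, map_mul]; exact mul_mem hgQ h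
      rcases hone with h | h
      · exact Or.inr ⟨h, fun h1 => hnotboth ⟨h1, h⟩⟩
      · exact Or.inl ⟨h, fun h2 => hnotboth ⟨h, h2⟩⟩

end Cfsg.Agent.S1191
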