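import Cfsg.Statements.S1192
import Mathlib
import Cfsg.Agent.Lib.QDWreathQDSub
-- import your own Cfsg.Agent.* helpers here

set_option autoImplicit false
open Cfsg
open Cfsg.Agent.QDWreathBase Cfsg.Agent.QDWreathQD Cfsg.Agent.QDWreathQDSub

namespace Cfsg.Agent.S1192

/-- A quasi-dihedral group S of order 2^(n+1) has exactly three maximal subgroups; one is cyclic, one is isomorphic to the generalized quaternion group of order 2^n and one to the dihedral group of order 2^n. -/
theorem result {S : Type*} [Group S] [Finite S] (hS : Cfsg.IsQuasiDihedral S) (n : ℕ) (hn : Nat.card S = 2 ^ (n + 1)) : ∃ M₁ M₂ M₃ : Subgroup S, IsCoatom M₁ ∧ IsCoatom M₂ ∧ IsCoatom M₃ ∧ M₁ ≠ M₂ ∧ M₁ ≠ M₃ ∧ M₂ ≠ M₃ ∧ (∀ M : Subgroup S, IsCoatom M → M = M₁ ∨ M = M₂ ∨ M = M₃) ∧ IsCyclic M₁ ∧ Nonempty (M₂ ≃* QuaternionGroup (2 ^ (n - 2))) ∧ Nonempty (M₃ ≃* DihedralGroup (2 ^ (n - 1))) := by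
  obtain ⟨n', hn', hcard, l, hl0, hl, ⟨E⟩⟩ := exists_equiv hS
  obtain rfl : n = n' := by
    have := Nat.pow_right_injective (le_refl 2) (hn.symm.trans hcard); omega
  have hidx : ∀ M : Subgroup (QD l), (M.map E.toMonoidHom).index = M.index :=
    fun M => Subgroup.index_map_equiv M E
  have h4 : 2 ^ (n - 1) = 4 * l := by
    rw [hl, show n - 1 = n - 3 + 2 by omega, pow_add]; ring
  have h2 : 2 ^ (n - 2) = 2 * l := by
    rw [hl, show n - 2 = n - 3 + 1 by omega, pow_add]; ring
  have hne : ∀ A B : Subgroup (QD l), A ≠ B → A.map E.toMonoidHom ≠ B.map E.toMonoidHom :=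
    fun A B h e => h (Subgroup.map_injective E.injective e)
  refine ⟨(MC l).map E.toMonoidHom, (MQ l).map E.toMonoidHom, (MD l).map E.toMonoidHom,
    isCoatom_of_index_two (by rw [hidx]; exact maxSub_index (Or.inr one_ne_zero)),
    isCoatom_of_index_two (by rw [hidx]; exact maxSub_index (Or.inl one_ne_zero)),
    isCoatom_of_index_two (by rw [hidx]; exact maxSub_index (Or.inl one_ne_zero)),
    hne _ _ MC_ne_MQ, hne _ _ MC_ne_MD, hne _ _ MQ_ne_MD, ?_, ?_, ?_, ?_⟩
  · intro M hM
    have hi := index_eq_two_of_isCoatom hn hM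
    have hM' : M = (M.comap E.toMonoidHom).map E.toMonoidHom :=
      (Subgroup.map_comap_eq_self_of_surjective E.surjective M).symm
    rw [hM', hidx] at hi
    rw [hM']
    rcases index_two_cases hi with h | h | h <;> rw [h] <;> simp
  · have := MC_isCyclic (l := l)
    exact isCyclic_of_surjective _ ((MC l).equivMapOfInjective E.toMonoidHom E.injective).surjective
  · rw [h2]
    have e1 := MonoidHom.ofInjective (quaternionHom_injective (l := l))
    rw [quaternionHom_range] at e1
    exact ⟨((MQ l).equivMapOfInjective E.toMonoidHom E.injective).symm.trans e1.symm⟩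
  · rw [h4]
    have e1 := MonoidHom.ofInjective (dihedralHom_injective (l := l))
    rw [dihedralHom_range] at e1
    exact ⟨((MD l).equivMapOfInjective E.toMonoidHom E.injective).symm.trans e1.symm⟩

end Cfsg.Agent.S1192
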