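import Cfsg.Statements.S1193
import Mathlib
import Cfsg.Agent.Lib.QDWreathQDSub
-- import your own Cfsg.Agent.* helpers here

set_option autoImplicit false
open Cfsg
open Cfsg.Agent.QDWreathBase Cfsg.Agent.QDWreathQD Cfsg.Agent.QDWreathQDSub

namespace Cfsg.Agent.S1193

/-- Let S be quasi-dihedral of order 2^(n+1). Then S' = Φ(S) is cyclic of order 2^(n-1), the centre of S has order 2, and the subgroup generated by the involutions of S is dihedral of order 2^n. -/
theorem result {S : Type*} [Group S] [Finite S] (hS : Cfsg.IsQuasiDihedral S) (n : ℕ) (hn : Nat.card S = 2 ^ (n + 1)) : commutator S = frattini S ∧ IsCyclic (commutator S) ∧ Nat.card (commutator S) = 2 ^ (n - 1) ∧ Nat.card (Subgroup.center S) = 2 ∧ Nonempty (↥(Subgroup.closure {x : S | orderOf x = 2}) ≃* DihedralGroup (2 ^ (n - 1))) := by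
  obtain ⟨n', hn', hcard, l, hl0, hl, ⟨E⟩⟩ := exists_equiv hS
  obtain rfl : n = n' := by
    have := Nat.pow_right_injective (le_refl 2) (hn.symm.trans hcard); omega
  have h4 : 2 ^ (n - 1) = 4 * l := by
    rw [hl, show n - 1 = n - 3 + 2 by omega, pow_add]; ring
  have hidx : ∀ M : Subgroup (QD l), (M.map E.toMonoidHom).index = M.index :=
    fun M => Subgroup.index_map_equiv M E
  have hcomm : commutator S = (E2 l).map E.toMonoidHom := by
    rw [← commutator_eq, commutator_def, commutator_def, Subgroup.map_commutator,
      Subgroup.map_top_of_surjective E.toMonoidHom E.surjective]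
  refine ⟨?_, ?_, ?_, ?_, ?_⟩
  · rw [hcomm]
    apply le_antisymm
    · rw [frattini, Order.radical]
      refine le_iInf₂ fun M hM => ?_
      have hi := index_eq_two_of_isCoatom hn hM
      rw [← Subgroup.map_comap_eq_self_of_surjective (f := E.toMonoidHom) E.surjective M] at hi ⊢
      rw [hidx] at hi
      apply Subgroup.map_mono
      rcases index_two_cases hi with h | h | h <;> rw [h] <;> exact E2_le _ _
    · refine le_trans ?_ (Subgroup.map_inf_eq (MC l) (MD l) E.toMonoidHom E.injective).ge
      exact le_inf
        (frattini_le_coatom (isCoatom_of_index_two (by rw [hidx]; exact maxSub_index (Or.inr one_ne_zero))))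
        (frattini_le_coatom (isCoatom_of_index_two (by rw [hidx]; exact maxSub_index (Or.inl one_ne_zero))))
  · rw [hcomm]
    have := E2_isCyclic (l := l)
    exact isCyclic_of_surjective _ ((E2 l).equivMapOfInjective E.toMonoidHom E.injective).surjective
  · rw [hcomm, Subgroup.card_map_of_injective (f := E.toMonoidHom) E.injective, E2_card, h4]
  · refine card_eq_two_of_mem (c := E (C l)) (fun h => C_ne_one (E.injective (by simpa using h))) fun s => ?_
    obtain ⟨a, rfl⟩ := E.surjective s
    rw [Subgroup.mem_center_iff]
    constructor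
    · intro h
      have h' : ∀ b, b * a = a * b := fun b => E.injective (by simpa using h (E b))
      obtain ⟨i, _ | _⟩ := a
      · rcases commute_true_iff.1 (h' ⟨0, true⟩).symm with h2 | h2 | h2 | h2
        · simp [h2]
        · simp [h2]
        all_goals exact absurd (congrArg QD.e h2) (by simp [C])
      · exfalso
        have h2 := congrArg QD.i (h' (X l))
        simp only [X, mk_mul_false, mk_mul_true] at h2
        apply four_l_ne (l := l)
        have h3 : (2 : ZMod (8 * l)) - 4 * (l : ZMod (8 * l)) = 0 := by
          unfold k at h2; linear_combination h2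
        linear_combination (2 * (l : ZMod (8 * l))) * h3 + (l : ZMod (8 * l)) * eight_l (l := l)
    · intro h g
      obtain ⟨b, rfl⟩ := E.surjective g
      rcases h with h | h
      · simp [h]
      · rw [h, ← map_mul, ← map_mul, C_central]
  · have hcl : Subgroup.closure {x : S | orderOf x = 2} = (MD l).map E.toMonoidHom := by
      apply le_antisymm
      · rw [Subgroup.closure_le]
        intro x hx
        obtain ⟨a, rfl⟩ := E.surjective x
        rw [Set.mem_ofPred_eq, MulEquiv.orderOf_eq] at hx
        refine ⟨a, ?_, rfl⟩
        rw [SetLike.mem_coe, mem_MD]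
        rcases sq_one_iff.1 (hx ▸ pow_orderOf_eq_one a) with rfl | rfl | ⟨t, rfl⟩
        · exact ⟨0, by simp [one_def]⟩
        · exact ⟨2 * (l : ZMod (8 * l)), by rw [C]; ring⟩
        · exact ⟨t, rfl⟩
      · rintro _ ⟨a, ha, rfl⟩
        obtain ⟨t, ht⟩ := mem_MD.1 ha
        have key : ∀ u, E ⟨2 * u, true⟩ ∈ Subgroup.closure {x : S | orderOf x = 2} := fun u =>
          Subgroup.subset_closure (by
            rw [Set.mem_ofPred_eq, MulEquiv.orderOf_eq, orderOf_eq_prime_iff]
            exact ⟨sq_true_even u, fun h => by simp [one_def] at h⟩)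
        obtain ⟨i, _ | _⟩ := a
        · simp only at ht
          subst ht
          have h := mul_mem (key t) (key 0)
          rw [← map_mul, mk_mul_true, mul_zero, mul_zero, add_zero, Bool.not_true] at h
          exact h
        · simp only at ht
          subst ht
          exact key t
    rw [hcl, h4]
    have e1 := MonoidHom.ofInjective (dihedralHom_injective (l := l))
    rw [dihedralHom_range] at e1
    exact ⟨((MD l).equivMapOfInjective E.toMonoidHom E.injective).symm.trans e1.symm⟩

end Cfsg.Agent.S1193
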