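import Cfsg.Statements.S1194
import Mathlib
import Cfsg.Agent.Lib.QDWreathQDSub
-- import your own Cfsg.Agent.* helpers here

set_option autoImplicit false
open Cfsg
open Cfsg.Agent.QDWreathBase Cfsg.Agent.QDWreathQD Cfsg.Agent.QDWreathQDSub

namespace Cfsg.Agent.S1194

/-- In a quasi-dihedral 2-group S, every proper normal subgroup is either a maximal subgroup or a cyclic subgroup contained in the derived subgroup S'. -/
theorem result {S : Type*} [Group S] [Finite S] (hS : Cfsg.IsQuasiDihedral S) (N : Subgroup S) [N.Normal] (hN : N ≠ ⊤) : IsCoatom N ∨ (IsCyclic N ∧ N ≤ commutator S) := by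
  obtain ⟨n, hn, hcard, l, hl0, hl, ⟨E⟩⟩ := exists_equiv hS
  have hidx : ∀ M : Subgroup (QD l), (M.map E.toMonoidHom).index = M.index :=
    fun M => Subgroup.index_map_equiv M E
  have hcomm : commutator S = (E2 l).map E.toMonoidHom := by
    rw [← commutator_eq, commutator_def, commutator_def, Subgroup.map_commutator,
      Subgroup.map_top_of_surjective E.toMonoidHom E.surjective]
  have hN' : N = (N.comap E.toMonoidHom).map E.toMonoidHom :=
    (Subgroup.map_comap_eq_self_of_surjective E.surjective N).symm
  set M := N.comap E.toMonoidHom with hM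
  have hMn : M.Normal := Subgroup.Normal.comap ‹N.Normal› _
  by_cases hle : M ≤ E2 l
  · right
    have hle' : N ≤ commutator S := by rw [hcomm, hN']; exact Subgroup.map_mono hle
    refine ⟨?_, hle'⟩
    have hc : IsCyclic (commutator S) := by
      rw [hcomm]
      have := E2_isCyclic (l := l)
      exact isCyclic_of_surjective _ ((E2 l).equivMapOfInjective E.toMonoidHom E.injective).surjective
    exact isCyclic_of_injective _ (Subgroup.inclusion_injective hle')
  · left
    obtain ⟨a, ha, haE⟩ := Set.not_subset.1 hle
    have hkey : ∀ u v : ZMod 2, (u ≠ 0 ∨ v ≠ 0) → maxSub l u v ≤ M → IsCoatom N := by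
      intro u v huv hsub
      have hco := isCoatom_of_index_two (maxSub_index (l := l) huv)
      have hMe : M = maxSub l u v := by
        by_contra hne
        have := hco.2 M (lt_of_le_of_ne hsub (Ne.symm hne))
        exact hN (by rw [hN', this, Subgroup.map_top_of_surjective E.toMonoidHom E.surjective])
      rw [hN', hMe]
      exact isCoatom_of_index_two (by rw [hidx]; exact maxSub_index huv)
    obtain ⟨i, _ | _⟩ := a
    · refine hkey 0 1 (Or.inr one_ne_zero) fun b hb => ?_
      obtain ⟨t, rfl | rfl⟩ := even_or_odd i
      · exact absurd (mem_E2.2 ⟨t, rfl⟩) haE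
      · obtain ⟨j, f⟩ := b
        obtain rfl : f = false := mem_MC.1 hb
        -- an odd multiple of `1` generates, as it is invertible modulo `8 l`
        have hu : IsUnit (2 * t + 1 : ZMod (8 * l)) := by
          refine IsNilpotent.isUnit_add_one ⟨n, ?_⟩
          rw [mul_pow]
          have h8 : (2 : ZMod (8 * l)) ^ n = 0 := by
            have h : ((2 ^ n : ℕ) : ZMod (8 * l)) = 0 := by
              rw [show 2 ^ n = 8 * l by
                rw [hl]; conv_lhs => rw [show n = n - 3 + 3 by omega, pow_add]
                ring]
              exact ZMod.natCast_self _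
            exact_mod_cast h
          rw [h8, zero_mul]
        obtain ⟨w, hw⟩ := hu
        have h := pow_mem ha (j * (↑w⁻¹ : ZMod (8 * l))).val
        rw [pow_false, ZMod.natCast_zmod_val, ← hw, mul_assoc, Units.inv_mul, mul_one] at h
        exact h
    · have hE : E2 l ≤ M := by
        intro b hb
        obtain ⟨t, rfl⟩ := mem_E2.1 hb
        have h := mul_mem (hMn.conj_mem _ ha ⟨(1 - 2 * (l : ZMod (8 * l))) * t, false⟩) (inv_mem ha)
        rw [conj_even, mk_inv_true, mk_mul_true, Bool.not_true] at h
        convert h using 2
        linear_combination i * k_mul_k (l := l)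
      rcases exists_maxSub_le hE ha haE with h | h | h
      · exact hkey 0 1 (Or.inr one_ne_zero) h
      · exact hkey 1 0 (Or.inl one_ne_zero) h
      · exact hkey 1 1 (Or.inl one_ne_zero) h

end Cfsg.Agent.S1194
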