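import Cfsg.Statements.S1195
import Mathlib
import Cfsg.Agent.Lib.QDWreathWrSub
-- import your own Cfsg.Agent.* helpers here

set_option autoImplicit false
open Cfsg
open Cfsg.Agent.QDWreathBase Cfsg.Agent.QDWreathWr Cfsg.Agent.QDWreathWrSub

namespace Cfsg.Agent.S1195

/-- A wreathed 2-group has exactly three conjugacy classes of elements of order 2. -/
theorem result {S : Type*} [Group S] [Finite S] (hS : Cfsg.IsWreathed S) : Nat.card {C : ConjClasses S // ∃ t : S, orderOf t = 2 ∧ ConjClasses.mk t = C} = 3 := by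
  obtain ⟨n, hn, hcard, l, hl0, hl, ⟨E⟩⟩ := exists_equiv hS
  have hEc : ∀ a b : WM l, IsConj (E a) (E b) ↔ IsConj a b := by
    intro a b
    constructor
    · intro h; simpa using E.symm.toMonoidHom.map_isConj h
    · intro h; exact E.toMonoidHom.map_isConj h
  rw [card_classes_eq (P := fun t => orderOf t = 2)
    [E ⟨hh l, hh l, false⟩, E ⟨hh l, 0, false⟩, E ⟨0, 0, true⟩]]
  · rfl
  · intro a ha
    simp only [List.mem_cons, List.not_mem_nil, or_false] at ha
    rcases ha with rfl | rfl | rfl <;> rw [MulEquiv.orderOf_eq, orderOf_eq_prime_iff, sq_one_iff', one_def]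
    · exact ⟨Or.inl ⟨Or.inr rfl, Or.inr rfl, rfl⟩, fun h => hh_ne (congrArg WM.a h)⟩
    · exact ⟨Or.inl ⟨Or.inr rfl, Or.inl rfl, rfl⟩, fun h => hh_ne (congrArg WM.a h)⟩
    · exact ⟨Or.inr ⟨0, by simp⟩, fun h => by simp at h⟩
  · intro t ht
    obtain ⟨⟨a, b, e⟩, rfl⟩ := E.surjective t
    rw [MulEquiv.orderOf_eq, orderOf_eq_prime_iff, sq_one_iff'] at ht
    obtain ⟨⟨ha, hb, he⟩ | ⟨u, hu⟩, hne⟩ := ht
    · simp only at ha hb he
      subst he
      rcases ha with rfl | rfl <;> rcases hb with rfl | rfl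
      · exact absurd rfl hne
      · refine ⟨E ⟨hh l, 0, false⟩, by simp, (hEc _ _).2 (isConj_iff.2 ⟨⟨0, 0, true⟩, ?_⟩)⟩
        simp
      · exact ⟨_, by simp, IsConj.refl _⟩
      · exact ⟨_, by simp, IsConj.refl _⟩
    · refine ⟨E ⟨0, 0, true⟩, by simp, (hEc _ _).2 (isConj_iff.2 ⟨⟨u, 0, false⟩, ?_⟩)⟩
      rw [conj_false, hu]
      simp
  · simp only [List.pairwise_cons, List.mem_cons, List.not_mem_nil, or_false, forall_eq,
      List.Pairwise.nil, and_true, false_implies, implies_true, hEc, forall_eq_or_imp]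
    refine ⟨⟨?_, ?_⟩, ?_⟩ <;> intro h <;> obtain ⟨⟨a, b, _ | _⟩, hc⟩ := isConj_iff.1 h <;>
      simp [WM.ext_iff, hh_ne, Ne.symm hh_ne] at hc

end Cfsg.Agent.S1195
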