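import Cfsg.Statements.S1196
import Mathlib
import Cfsg.Agent.Lib.QDWreathWrSub
-- import your own Cfsg.Agent.* helpers here

set_option autoImplicit false
open Cfsg
open Cfsg.Agent.QDWreathBase Cfsg.Agent.QDWreathWr Cfsg.Agent.QDWreathWrSub

namespace Cfsg.Agent.S1196

/-- A wreathed 2-group S of order 2^(2n+1) has a unique commutative subgroup of order 2^(2n), and this subgroup is isomorphic to the direct product of two cyclic groups of order 2^n. -/
theorem result {S : Type*} [Group S] [Finite S] (hS : Cfsg.IsWreathed S) (n : ℕ) (hn : Nat.card S = 2 ^ (2 * n + 1)) : (∃! U : Subgroup S, IsMulCommutative U ∧ Nat.card U = 2 ^ (2 * n)) ∧ ∀ U : Subgroup S, IsMulCommutative U → Nat.card U = 2 ^ (2 * n) → Nonempty (U ≃* Multiplicative (ZMod (2 ^ n) × ZMod (2 ^ n))) := by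
  obtain ⟨n', hn', hcard, l, hl0, hl, ⟨E⟩⟩ := exists_equiv hS
  obtain rfl : n = n' := by
    have := Nat.pow_right_injective (le_refl 2) (hn.symm.trans hcard); omega
  have hN : 2 ^ n = 4 * l := by
    rw [hl]; conv_lhs => rw [show n = n - 2 + 2 by omega, pow_add]
    ring
  have hA : Nat.card ((AS l).map E.toMonoidHom) = 2 ^ (2 * n) := by
    rw [Subgroup.card_map_of_injective (f := E.toMonoidHom) E.injective, AS_card, mul_comm 2 n, pow_mul, hN]
    ring
  have huniq : ∀ U : Subgroup S, IsMulCommutative U → Nat.card U = 2 ^ (2 * n) →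
      U = (AS l).map E.toMonoidHom := by
    intro U hU hUc
    refine Subgroup.eq_of_le_of_card_ge ?_ (by rw [hA, hUc])
    intro s hs
    obtain ⟨p, rfl⟩ := E.surjective s
    refine ⟨p, ?_, rfl⟩
    obtain ⟨a, b, _ | _⟩ := p
    · exact mem_AS.2 rfl
    · exfalso
      let g : ZMod (4 * l) × Bool → S := fun v =>
        E (if v.2 then ⟨a + v.1, b + v.1, true⟩ else ⟨v.1, v.1, false⟩)
      have hsub : (U : Set S) ⊆ Set.range g := by
        intro t ht
        obtain ⟨q, rfl⟩ := E.surjective t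
        have h1 := congrArg Subtype.val (hU.is_comm.comm ⟨_, ht⟩ ⟨_, hs⟩)
        simp only [Subgroup.coe_mul, ← map_mul, EmbeddingLike.apply_eq_iff_eq] at h1
        obtain ⟨c, rfl | rfl⟩ := commute_true h1
        · exact ⟨(c, false), rfl⟩
        · exact ⟨(c, true), rfl⟩
      have h2 := Set.ncard_le_ncard hsub (Set.toFinite _)
      rw [← Nat.card_coe_set_eq, SetLike.coe_sort_coe, hUc, ← Nat.card_coe_set_eq] at h2
      have h3 := Finite.card_range_le g
      rw [Nat.card_prod, Nat.card_zmod, Nat.card_eq_fintype_card (α := Bool), Fintype.card_bool] at h3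
      rw [mul_comm 2 n, pow_mul, hN] at h2
      have : 4 * l * 4 ≤ (4 * l) ^ 2 := by
        rw [sq]; exact Nat.mul_le_mul_left _ (by have := NeZero.pos l; omega)
      have := NeZero.pos l
      omega
  constructor
  · refine ⟨(AS l).map E.toMonoidHom, ⟨⟨⟨?_⟩⟩, hA⟩, fun U hU => huniq U hU.1 hU.2⟩
    rintro ⟨_, p, hp, rfl⟩ ⟨_, q, hq, rfl⟩
    exact Subtype.ext (show E p * E q = E q * E p by rw [← map_mul, ← map_mul, AS_comm hp hq])
  · intro U hU hUc
    rw [huniq U hU hUc, hN]
    exact ⟨((AS l).equivMapOfInjective E.toMonoidHom E.injective).symm.trans (asEquiv l)⟩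

end Cfsg.Agent.S1196
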