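import Cfsg.Statements.S1197
import Mathlib
import Cfsg.Agent.Lib.QDWreathWrSub
-- import your own Cfsg.Agent.* helpers here

set_option autoImplicit false
open Cfsg
open Cfsg.Agent.QDWreathBase Cfsg.Agent.QDWreathWr Cfsg.Agent.QDWreathWrSub

namespace Cfsg.Agent.S1197

/-- Let S be a wreathed 2-group of order 2^(2n+1). Then Z(S) is cyclic of order 2^n, the derived subgroup S' is cyclic of order 2^n, and S/Z(S) is isomorphic to the dihedral group of order 2^(n+1). -/
theorem result {S : Type*} [Group S] [Finite S] (hS : Cfsg.IsWreathed S) (n : ℕ) (hn : Nat.card S = 2 ^ (2 * n + 1)) : IsCyclic (Subgroup.center S) ∧ Nat.card (Subgroup.center S) = 2 ^ n ∧ IsCyclic (commutator S) ∧ Nat.card (commutator S) = 2 ^ n ∧ Nonempty (S ⧸ Subgroup.center S ≃* DihedralGroup (2 ^ n)) := by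
  obtain ⟨n', hn', hcard, l, hl0, hl, ⟨E⟩⟩ := exists_equiv hS
  obtain rfl : n = n' := by
    have := Nat.pow_right_injective (le_refl 2) (hn.symm.trans hcard); omega
  have hN : 2 ^ n = 4 * l := by
    rw [hl]; conv_lhs => rw [show n = n - 2 + 2 by omega, pow_add]
    ring
  have hcen : Subgroup.center S = (diagHom l).range.map E.toMonoidHom := by
    rw [← center_eq]
    ext s
    obtain ⟨p, rfl⟩ := E.surjective s
    simp only [Subgroup.mem_center_iff]
    constructor
    · intro h
      exact ⟨p, Subgroup.mem_center_iff.2 fun q => E.injective (by simpa using h (E q)), rfl⟩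
    · rintro ⟨q, hq, hqp⟩ t
      obtain ⟨t, rfl⟩ := E.surjective t
      obtain rfl := E.injective hqp
      rw [← map_mul, ← map_mul, Subgroup.mem_center_iff.1 hq t]
  have hcomm : commutator S = (antiHom l).range.map E.toMonoidHom := by
    rw [← commutator_eq, commutator_def, commutator_def, Subgroup.map_commutator,
      Subgroup.map_top_of_surjective E.toMonoidHom E.surjective]
  have hc : ∀ f : Multiplicative (ZMod (4 * l)) →* WM l, Function.Injective f →
      IsCyclic (f.range.map E.toMonoidHom) ∧ Nat.card (f.range.map E.toMonoidHom) = 4 * l := by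
    intro f hf
    have e := ((MonoidHom.ofInjective hf)).trans (f.range.equivMapOfInjective E.toMonoidHom E.injective)
    exact ⟨isCyclic_of_surjective e e.surjective, by
      rw [← Nat.card_congr e.toEquiv, Nat.card_congr Multiplicative.toAdd, Nat.card_zmod]⟩
  refine ⟨?_, ?_, ?_, ?_, ?_⟩
  · rw [hcen]; exact (hc _ diagHom_injective).1
  · rw [hcen, hN]; exact (hc _ diagHom_injective).2
  · rw [hcomm]; exact (hc _ antiHom_injective).1
  · rw [hcomm, hN]; exact (hc _ antiHom_injective).2
  · rw [hN]
    let ψ := (dihedralQuot l).comp E.symm.toMonoidHom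
    have hker : ψ.ker = Subgroup.center S := by
      rw [hcen, ← center_eq, ← dihedralQuot_ker]
      ext s
      simp [ψ, Subgroup.mem_map_equiv]
    exact ⟨(QuotientGroup.quotientMulEquivOfEq hker).symm.trans
      (QuotientGroup.quotientKerEquivOfSurjective ψ (dihedralQuot_surjective.comp E.symm.surjective))⟩

end Cfsg.Agent.S1197
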