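import Cfsg.Statements.S1198
import Mathlib
import Cfsg.Agent.Lib.QDWreathWrSub
-- import your own Cfsg.Agent.* helpers here

set_option autoImplicit false
open Cfsg
open Cfsg.Agent.QDWreathBase Cfsg.Agent.QDWreathWr Cfsg.Agent.QDWreathWrSub

namespace Cfsg.Agent.S1198

/-- A wreathed 2-group S has a normal Klein four-subgroup T such that every Klein four-subgroup of S other than T is conjugate in S to any other such subgroup; in particular S has exactly two conjugacy classes of Klein four-subgroups. -/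
theorem result {S : Type*} [Group S] [Finite S] (hS : Cfsg.IsWreathed S) : ∃ T : Subgroup S, IsKleinFour T ∧ T.Normal ∧ (∃ T₀ : Subgroup S, IsKleinFour T₀ ∧ T₀ ≠ T) ∧ ∀ T₁ T₂ : Subgroup S, IsKleinFour T₁ → IsKleinFour T₂ → T₁ ≠ T → T₂ ≠ T → ∃ s : S, T₁.map (MulAut.conj s).toMonoidHom = T₂ := by
  obtain ⟨n, hn, hcard, l, hl0, hl, ⟨E⟩⟩ := exists_equiv hS
  have hsq : ∀ T : Subgroup S, IsKleinFour T → ∀ p ∈ T.comap E.toMonoidHom, p ^ 2 = 1 := by
    intro T hT p hp
    apply E.injective
    rw [map_pow, map_one, sq]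
    have := hT
    exact congrArg Subtype.val (IsKleinFour.mul_self (⟨E p, hp⟩ : T))
  have hcard4 : ∀ T : Subgroup S, IsKleinFour T → Nat.card (T.comap E.toMonoidHom) = 4 := by
    intro T hT
    rw [← hT.card_four]
    exact Nat.card_congr (E.toEquiv.subtypeEquiv fun a => Iff.rfl)
  have hklein : ∀ V : Subgroup (WM l), Nat.card V = 4 → (∀ p ∈ V, p ^ 2 = 1) →
      IsKleinFour (V.map E.toMonoidHom) := by
    intro V h4 h2
    have hc : Nat.card (V.map E.toMonoidHom) = 4 := by
      rw [Subgroup.card_map_of_injective (f := E.toMonoidHom) E.injective, h4]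
    refine ⟨hc, ?_⟩
    have hne : Monoid.exponent (V.map E.toMonoidHom) ≠ 1 := by
      intro h
      have := (Monoid.exp_eq_one_iff).1 h
      rw [Nat.card_of_subsingleton (1 : V.map E.toMonoidHom)] at hc
      omega
    have hdvd : Monoid.exponent (V.map E.toMonoidHom) ∣ 2 := by
      rw [Monoid.exponent_dvd_iff_forall_pow_eq_one]
      rintro ⟨_, p, hp, rfl⟩
      exact Subtype.ext (show (E p) ^ 2 = 1 by rw [← map_pow, h2 p hp, map_one])
    exact ((Nat.dvd_prime Nat.prime_two).1 hdvd).resolve_left hne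
  refine ⟨(TS l).map E.toMonoidHom, hklein _ TS_card (fun p hp => (mem_TS.1 hp).2), ?_, ?_, ?_⟩
  · refine Subgroup.Normal.map ⟨fun p hp g => ?_⟩ _ E.surjective
    obtain ⟨hp1, hp2⟩ := mem_TS.1 hp
    refine mem_TS.2 ⟨?_, by rw [conj_pow, hp2, mul_one, mul_inv_cancel]⟩
    obtain ⟨a, b, e⟩ := g; obtain ⟨c, d, f⟩ := p
    simp only at hp1; subst hp1
    cases e <;> simp
  · let V : Subgroup (WM l) :=
      { carrier := fourSetW (0 : ZMod (4 * l))
        one_mem' := Or.inl rfl
        mul_mem' := by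
          rintro p q (rfl | rfl | rfl | rfl) (rfl | rfl | rfl | rfl) <;>
            simp [fourSetW, hh_add_hh]
        inv_mem' := by
          rintro p (rfl | rfl | rfl | rfl) <;> simp [fourSetW, neg_hh] }
    have hV : ∀ p ∈ V, p ^ 2 = 1 := by
      rintro p (rfl | rfl | rfl | rfl) <;> simp [sq, one_def, hh_add_hh]
    have hV4 : Nat.card V = 4 := by
      show Nat.card (fourSetW (0 : ZMod (4 * l)) : Set (WM l)) = 4
      rw [Nat.card_coe_set_eq, fourSetW, Set.ncard_insert_of_notMem (by simp [WM.ext_iff, Ne.symm hh_ne]),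
        Set.ncard_insert_of_notMem (by simp [WM.ext_iff]), Set.ncard_pair (by simp [WM.ext_iff, Ne.symm hh_ne])]
    refine ⟨V.map E.toMonoidHom, hklein V hV4 hV, fun h => ?_⟩
    have h1 : (⟨0, 0, true⟩ : WM l) ∈ V := Or.inr (Or.inr (Or.inl (by simp)))
    have h2 := Subgroup.map_injective E.injective h
    rw [h2] at h1
    simpa using (mem_TS.1 h1).1
  · intro T₁ T₂ h₁ h₂ n₁ n₂
    have hshape : ∀ T : Subgroup S, IsKleinFour T → T ≠ (TS l).map E.toMonoidHom →
        ∃ u, ((T.comap E.toMonoidHom : Subgroup (WM l)) : Set (WM l)) = fourSetW u := by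
      intro T hT hne
      obtain ⟨u, -, hu⟩ := klein_shape (hcard4 T hT) (hsq T hT) (fun h => hne (by
        rw [← h, Subgroup.map_comap_eq_self_of_surjective (f := E.toMonoidHom) E.surjective]))
      exact ⟨u, hu⟩
    obtain ⟨u, hu⟩ := hshape T₁ h₁ n₁
    obtain ⟨v, hv⟩ := hshape T₂ h₂ n₂
    refine ⟨E ⟨v - u, 0, false⟩, Subgroup.eq_of_le_of_card_ge ?_ ?_⟩
    · rintro _ ⟨b, hb, rfl⟩
      obtain ⟨p, rfl⟩ := E.surjective b
      have hp : p ∈ (T₁.comap E.toMonoidHom : Set (WM l)) := hb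
      rw [hu] at hp
      have h := fourSetW_conj (v := v) hp
      rw [← hv, SetLike.mem_coe, Subgroup.mem_comap] at h
      simp only [MulEquiv.coe_toMonoidHom, map_mul, map_inv] at h
      exact h
    · rw [Subgroup.card_map_of_injective (f := (MulAut.conj (E ⟨v - u, 0, false⟩)).toMonoidHom)
        (MulAut.conj (E ⟨v - u, 0, false⟩)).injective, h₁.card_four, h₂.card_four]

end Cfsg.Agent.S1198
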