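import Cfsg.Statements.S1199
import Mathlib
import Cfsg.Agent.Lib.QDWreathWrSub
-- import your own Cfsg.Agent.* helpers here

set_option autoImplicit false
open Cfsg
open Cfsg.Agent.QDWreathBase Cfsg.Agent.QDWreathWr Cfsg.Agent.QDWreathWrSub

namespace Cfsg.Agent.S1199

/-- A wreathed 2-group S of order 2^(2n+1) has exactly one subgroup of order 2^(n+1) isomorphic to a generalized quaternion group, and that subgroup is normal in S. -/
theorem result {S : Type*} [Group S] [Finite S] (hS : Cfsg.IsWreathed S) (n : ℕ) (hn : Nat.card S = 2 ^ (2 * n + 1)) : (∃! Y : Subgroup S, Nat.card Y = 2 ^ (n + 1) ∧ Nonempty (Y ≃* QuaternionGroup (2 ^ (n - 1)))) ∧ ∀ Y : Subgroup S, Nat.card Y = 2 ^ (n + 1) → Nonempty (Y ≃* QuaternionGroup (2 ^ (n - 1))) → Y.Normal := by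
  obtain ⟨n', hn', hcard, l, hl0, hl, ⟨E⟩⟩ := exists_equiv hS
  obtain rfl : n = n' := by
    have := Nat.pow_right_injective (le_refl 2) (hn.symm.trans hcard); omega
  have hN : 2 ^ n = 4 * l := by
    rw [hl]; conv_lhs => rw [show n = n - 2 + 2 by omega, pow_add]
    ring
  have hY : Nat.card ((YS l).map E.toMonoidHom) = 2 ^ (n + 1) := by
    rw [Subgroup.card_map_of_injective (f := E.toMonoidHom) E.injective, YS_card, pow_succ, hN]
    ring
  have hQ : 2 ^ (n - 1) = 2 * l := by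
    rw [hl, show n - 1 = n - 2 + 1 by omega, pow_succ]; ring
  have huniq : ∀ Y : Subgroup S, Nat.card Y = 2 ^ (n + 1) →
      Nonempty (Y ≃* QuaternionGroup (2 ^ (n - 1))) → Y = (YS l).map E.toMonoidHom := by
    intro Y hYc he
    rw [hQ] at he
    obtain ⟨e⟩ := he
    let f : QuaternionGroup (2 * l) →* WM l :=
      E.symm.toMonoidHom.comp (Y.subtype.comp e.symm.toMonoidHom)
    have hf : Function.Injective f := fun a b h =>
      e.symm.injective (Subtype.ext (E.symm.injective h))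
    refine Subgroup.eq_of_le_of_card_ge ?_ (by rw [hY, hYc])
    intro s hs
    refine ⟨E.symm s, quat_le_YS f hf ⟨e ⟨s, hs⟩, by simp [f]⟩, by simp⟩
  have hex : Nonempty (((YS l).map E.toMonoidHom : Subgroup S) ≃* QuaternionGroup (2 ^ (n - 1))) := by
    rw [hQ]
    have e1 := MonoidHom.ofInjective (quatHom_injective (l := l))
    rw [quatHom_range] at e1
    exact ⟨((YS l).equivMapOfInjective E.toMonoidHom E.injective).symm.trans e1.symm⟩
  refine ⟨⟨(YS l).map E.toMonoidHom, ⟨hY, hex⟩, fun Y hh' => huniq Y hh'.1 hh'.2⟩, ?_⟩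
  intro Y hYc he
  refine ⟨fun y hy g => ?_⟩
  have hc : Nat.card (Y.map (MulAut.conj g).toMonoidHom) = 2 ^ (n + 1) := by
    rw [Subgroup.card_map_of_injective (f := (MulAut.conj g).toMonoidHom) (MulAut.conj g).injective, hYc]
  obtain ⟨e⟩ := he
  have h := huniq _ hc ⟨(Y.equivMapOfInjective (MulAut.conj g).toMonoidHom (MulAut.conj g).injective).symm.trans e⟩
  rw [huniq Y hYc ⟨e⟩] at hy ⊢
  rw [← h]
  exact ⟨y, by rw [huniq Y hYc ⟨e⟩]; exact hy, rfl⟩

end Cfsg.Agent.S1199
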