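import Cfsg.Statements.S1200
import Mathlib
import Cfsg.Agent.Lib.QDWreathWrSub
-- import your own Cfsg.Agent.* helpers here

set_option autoImplicit false
open Cfsg
open Cfsg.Agent.QDWreathBase Cfsg.Agent.QDWreathWr Cfsg.Agent.QDWreathWrSub

namespace Cfsg.Agent.S1200

/-- Let S be a wreathed 2-group of order 2^(2n+1) and Ω the subgroup generated by its involutions. Then Ω has order 2^(n+2) and S/Ω is cyclic: some s ∈ S together with Ω generates S. -/
theorem result {S : Type*} [Group S] [Finite S] (hS : Cfsg.IsWreathed S) (n : ℕ) (hn : Nat.card S = 2 ^ (2 * n + 1)) : Nat.card (Subgroup.closure {x : S | orderOf x = 2}) = 2 ^ (n + 2) ∧ ∃ s : S, Subgroup.closure {x : S | orderOf x = 2} ⊔ Subgroup.zpowers s = ⊤ := by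
  obtain ⟨n', hn', hcard, l, hl0, hl, ⟨E⟩⟩ := exists_equiv hS
  obtain rfl : n = n' := by
    have := Nat.pow_right_injective (le_refl 2) (hn.symm.trans hcard); omega
  have hN : 2 ^ n = 4 * l := by
    rw [hl]; conv_lhs => rw [show n = n - 2 + 2 by omega, pow_add]
    ring
  have key : ∀ u, E ⟨u, -u, true⟩ ∈ Subgroup.closure {x : S | orderOf x = 2} := fun u =>
    Subgroup.subset_closure (by
      rw [Set.mem_ofPred_eq, MulEquiv.orderOf_eq, orderOf_eq_prime_iff]
      exact ⟨sq_one_iff'.2 (Or.inr ⟨u, rfl⟩), fun h => by simp [one_def] at h⟩)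
  have keyh : E ⟨hh l, 0, false⟩ ∈ Subgroup.closure {x : S | orderOf x = 2} :=
    Subgroup.subset_closure (by
      rw [Set.mem_ofPred_eq, MulEquiv.orderOf_eq, orderOf_eq_prime_iff]
      exact ⟨sq_one_iff'.2 (Or.inl ⟨Or.inr rfl, Or.inl rfl, rfl⟩), fun h => hh_ne (congrArg WM.a h)⟩)
  have hcl : Subgroup.closure {x : S | orderOf x = 2} = (IS l).map E.toMonoidHom := by
    apply le_antisymm
    · rw [Subgroup.closure_le]
      intro x hx
      obtain ⟨p, rfl⟩ := E.surjective x
      rw [Set.mem_ofPred_eq, MulEquiv.orderOf_eq] at hx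
      refine ⟨p, ?_, rfl⟩
      rw [SetLike.mem_coe, mem_IS]
      rcases sq_one_iff'.1 (hx ▸ pow_orderOf_eq_one p) with ⟨ha, hb, -⟩ | ⟨u, rfl⟩
      · rcases ha with ha | ha <;> rcases hb with hb | hb <;> simp [ha, hb, hh_add_hh]
      · simp
    · rintro _ ⟨p, hp, rfl⟩
      have hanti : ∀ a e, E ⟨a, -a, e⟩ ∈ Subgroup.closure {x : S | orderOf x = 2} := by
        intro a e
        cases e
        · have h := mul_mem (key a) (key 0)
          rw [← map_mul] at h
          simpa using h
        · exact key a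
      obtain ⟨a, b, e⟩ := p
      rcases mem_IS.1 hp with h | h <;> simp only at h
      · obtain rfl : b = -a := by linear_combination h
        exact hanti a e
      · obtain rfl : b = hh l - a := by linear_combination h
        have h2 := mul_mem keyh (hanti (a - hh l) e)
        rw [← map_mul] at h2
        simpa [sub_eq_add_neg, add_comm, add_left_comm] using h2
  refine ⟨?_, E ⟨1, 0, false⟩, ?_⟩
  · rw [hcl, Subgroup.card_map_of_injective (f := E.toMonoidHom) E.injective, IS_card, pow_add, hN]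
    ring
  · rw [hcl, eq_top_iff]
    intro s _
    obtain ⟨⟨a, b, e⟩, rfl⟩ := E.surjective s
    have h1 : E ⟨-b, b, e⟩ ∈ (IS l).map E.toMonoidHom := ⟨_, mem_IS.2 (Or.inl (by simp)), rfl⟩
    have h2 : E ⟨a + b, 0, false⟩ ∈ Subgroup.zpowers (E ⟨1, 0, false⟩) :=
      ⟨(((a + b).val : ℕ) : ℤ), by
        show (E ⟨1, 0, false⟩) ^ (((a + b).val : ℕ) : ℤ) = _
        rw [zpow_natCast, ← map_pow, pow_false]
        simp⟩
    have h3 := mul_mem (Subgroup.mem_sup_right h2) (Subgroup.mem_sup_left h1)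
      (s := (IS l).map E.toMonoidHom ⊔ Subgroup.zpowers (E ⟨1, 0, false⟩))
    rw [← map_mul] at h3
    simpa [add_assoc] using h3

end Cfsg.Agent.S1200
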