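import Cfsg.Statements.S1201
import Mathlib
import Cfsg.Agent.Lib.QDWreathWrSub
-- import your own Cfsg.Agent.* helpers here

set_option autoImplicit false
open Cfsg
open Cfsg.Agent.QDWreathBase Cfsg.Agent.QDWreathWr Cfsg.Agent.QDWreathWrSub

namespace Cfsg.Agent.S1201

/-- If X is a non-commutative subgroup of a wreathed 2-group S, then Z(X) ≤ Z(S). -/
theorem result {S : Type*} [Group S] [Finite S] (hS : Cfsg.IsWreathed S) (X : Subgroup S) (hX : ¬ IsMulCommutative X) : (Subgroup.center X).map X.subtype ≤ Subgroup.center S := by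
  obtain ⟨n, hn, hcard, l, hl0, hl, ⟨E⟩⟩ := exists_equiv hS
  rintro _ ⟨c, hc, rfl⟩
  obtain ⟨p, hp⟩ := E.surjective (c : S)
  have hcomm : ∀ q, E q ∈ X → q * p = p * q := by
    intro q hq
    have h := congrArg Subtype.val (Subgroup.mem_center_iff.1 hc ⟨E q, hq⟩)
    simp only [Subgroup.coe_mul, ← hp, ← map_mul] at h
    exact E.injective h
  have hdiag : ∃ a, p = ⟨a, a, false⟩ := by
    obtain ⟨a, b, _ | _⟩ := p
    · by_contra hne
      apply hX
      refine ⟨⟨fun u v => ?_⟩⟩
      obtain ⟨q, hq⟩ := E.surjective (u : S)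
      obtain ⟨r, hr⟩ := E.surjective (v : S)
      have hA : ∀ s, E s ∈ X → s.e = false := by
        rintro ⟨c, d, _ | _⟩ hs
        · rfl
        · exfalso
          apply hne
          have h := hcomm _ hs
          simp only [mk_mul_true, mk_mul_false, Bool.not_false, WM.ext_iff] at h
          refine ⟨a, ?_⟩
          congr 1
          linear_combination h.1
      refine Subtype.ext ?_
      rw [Subgroup.coe_mul, Subgroup.coe_mul, ← hq, ← hr, ← map_mul, ← map_mul,
        AS_comm (hA q (by rw [hq]; exact u.2)) (hA r (by rw [hr]; exact v.2))]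
    · exfalso
      apply hX
      refine ⟨⟨fun u v => ?_⟩⟩
      obtain ⟨q, hq⟩ := E.surjective (u : S)
      obtain ⟨r, hr⟩ := E.surjective (v : S)
      obtain ⟨i, hi⟩ := commute_true (hcomm q (by rw [hq]; exact u.2))
      obtain ⟨j, hj⟩ := commute_true (hcomm r (by rw [hr]; exact v.2))
      refine Subtype.ext ?_
      rw [Subgroup.coe_mul, Subgroup.coe_mul, ← hq, ← hr, ← map_mul, ← map_mul]
      rcases hi with rfl | rfl <;> rcases hj with rfl | rfl <;> simp [WM.ext_iff] <;> ring_nf <;> simp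
  obtain ⟨a, rfl⟩ := hdiag
  rw [Subgroup.coe_subtype, ← hp, Subgroup.mem_center_iff]
  intro s
  obtain ⟨q, rfl⟩ := E.surjective s
  rw [← map_mul, ← map_mul]
  congr 1
  exact Subgroup.mem_center_iff.1 (by rw [center_eq, mem_diag]; exact ⟨a, rfl⟩) q

end Cfsg.Agent.S1201
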