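import Cfsg.Statements.S1202
import Mathlib
import Cfsg.Agent.Lib.QDWreathWrQZ
-- import your own Cfsg.Agent.* helpers here

set_option autoImplicit false
open Cfsg
open Cfsg.Agent.QDWreathWr Cfsg.Agent.QDWreathWrSub Cfsg.Agent.QDWreathWrAut Cfsg.Agent.QDWreathWrQZ

namespace Cfsg.Agent.S1202

theorem exists_odd_aut {X : Type*} [Group X] [Finite X] (hA : ¬ IsPGroup 2 (MulAut X)) :
    ∃ (σ : MulAut X) (k : ℕ), Odd k ∧ σ ^ k = 1 ∧ σ ≠ 1 := by
  rw [IsPGroup] at hA
  push Not at hA
  obtain ⟨τ, hτ⟩ := hA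
  have : Finite (MulAut X) := Finite.of_injective (fun e : MulAut X => (e : X → X)) DFunLike.coe_injective
  obtain ⟨a, k, hk, heq⟩ := Nat.exists_eq_two_pow_mul_odd (orderOf_pos τ).ne'
  exact ⟨τ ^ 2 ^ a, k, hk, by rw [← pow_mul, ← heq, pow_orderOf_eq_one], hτ a⟩

/-- The possible shapes of a self-centralizing subgroup with an automorphism of odd order. -/
theorem shapes {S : Type*} [Group S] [Finite S] {l m : ℕ} [NeZero l] (hl : l = 2 ^ m)
    (E : WM l ≃* S) (X : Subgroup S) (hC : Subgroup.centralizer (X : Set S) ≤ X)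
    (hA : ¬ IsPGroup 2 (MulAut X)) :
    X = (AS l).map E.toMonoidHom ∨
      ∃ s : S, X = ((QZ l).map E.toMonoidHom).map (MulAut.conj s).toMonoidHom := by
  set Y := X.comap E.toMonoidHom with hY
  have hXY : X = Y.map E.toMonoidHom := (Subgroup.map_comap_eq_self_of_surjective E.surjective X).symm
  have hCY : Subgroup.centralizer (Y : Set (WM l)) ≤ Y := by
    intro p hp
    refine hC (Subgroup.mem_centralizer_iff.2 fun q hq => ?_)
    obtain ⟨q', rfl⟩ := E.surjective q
    show E q' * E p = E p * E q'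
    rw [← map_mul, ← map_mul, Subgroup.mem_centralizer_iff.1 hp q' hq]
  let e : Y ≃* X :=
    { toEquiv := E.toEquiv.subtypeEquiv fun a => Iff.rfl
      map_mul' := fun a b => Subtype.ext (map_mul E (a : WM l) b) }
  obtain ⟨σ, k, hk, hσ, hne⟩ := exists_odd_aut (X := Y) (fun h => hA (h.of_equiv (MulAut.congr e)))
  rcases classify hl hCY hk hσ hne with h | ⟨v, h⟩
  · exact Or.inl (h ▸ hXY)
  · refine Or.inr ⟨E ⟨v, 0, false⟩, ?_⟩
    rw [hXY, h, Subgroup.map_map, Subgroup.map_map]
    congr 1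
    ext p
    simp only [MonoidHom.coe_comp, MulEquiv.coe_toMonoidHom, Function.comp_apply, MulAut.conj_apply,
      map_mul, map_inv]

theorem conj_relIndex {S : Type*} [Group S] (s : S) (X : Subgroup S) :
    (X.map (MulAut.conj s).toMonoidHom).relIndex
      (Subgroup.normalizer (X.map (MulAut.conj s).toMonoidHom : Set S)) =
      X.relIndex (Subgroup.normalizer (X : Set S)) := by
  rw [← Subgroup.map_equiv_normalizer_eq, Subgroup.relIndex_map_map_of_injective]
  exact (MulAut.conj s).injective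

theorem map_center {A B : Type*} [Group A] [Group B] (e : A ≃* B) :
    (Subgroup.center A).map e.toMonoidHom = Subgroup.center B := by
  ext b
  obtain ⟨a, rfl⟩ := e.surjective b
  constructor
  · rintro ⟨a', ha', h⟩
    obtain rfl : a' = a := e.injective h
    rw [Subgroup.mem_center_iff]
    intro g
    obtain ⟨g', rfl⟩ := e.surjective g
    rw [← map_mul, ← map_mul, Subgroup.mem_center_iff.1 ha' g']
  · intro h
    refine ⟨a, Subgroup.mem_center_iff.2 fun g => e.injective ?_, rfl⟩
    rw [map_mul, map_mul, Subgroup.mem_center_iff.1 h (e g)]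

/-- Let S be a wreathed 2-group of order 2^(2n+1) and X a subgroup with C_S(X) ≤ X such that Aut(X) is not a 2-group. Then |N_S(X) : X| = 2, and either X is the commutative subgroup of order 2^(2n), or X = Q·Z(S) for some subgroup Q ≅ Q₈; in the latter case any two such subgroups are conjugate in S. -/
theorem result {S : Type*} [Group S] [Finite S] (hS : Cfsg.IsWreathed S) (n : ℕ) (hn : Nat.card S = 2 ^ (2 * n + 1)) (X : Subgroup S) (hC : Subgroup.centralizer (X : Set S) ≤ X) (hA : ¬ IsPGroup 2 (MulAut X)) : X.relIndex (Subgroup.normalizer (X : Set S)) = 2 ∧ ((IsMulCommutative X ∧ Nat.card X = 2 ^ (2 * n)) ∨ ∃ Q : Subgroup S, Nonempty (Q ≃* QuaternionGroup 2) ∧ X = Q ⊔ Subgroup.center S) ∧ ∀ X' : Subgroup S, Subgroup.centralizer (X' : Set S) ≤ X' → ¬ IsPGroup 2 (MulAut X') → ¬ IsMulCommutative X → ¬ IsMulCommutative X' → ∃ s : S, X.map (MulAut.conj s).toMonoidHom = X' := by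
  obtain ⟨n', hn', hcard, l, hl0, hl, ⟨E⟩⟩ := exists_equiv hS
  obtain rfl : n' = n := by
    rw [hn] at hcard
    have := Nat.pow_right_injective (by norm_num) hcard
    omega
  have hAScomm : IsMulCommutative ((AS l).map E.toMonoidHom) := by
    refine ⟨⟨fun a b => Subtype.ext ?_⟩⟩
    obtain ⟨a', ha', ha⟩ := a.2
    obtain ⟨b', hb', hb⟩ := b.2
    rw [Subgroup.coe_mul, Subgroup.coe_mul, ← ha, ← hb, ← map_mul, ← map_mul, AS_comm ha' hb']
  refine ⟨?_, ?_, ?_⟩
  · rcases shapes hl E X hC hA with h | ⟨s, h⟩ <;> rw [h]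
    · rw [← Subgroup.map_equiv_normalizer_eq, Subgroup.relIndex_map_map_of_injective _ _ (f := E.toMonoidHom) E.injective, AS_relIndex]
    · rw [conj_relIndex, ← Subgroup.map_equiv_normalizer_eq,
        Subgroup.relIndex_map_map_of_injective _ _ (f := E.toMonoidHom) E.injective, QZ_relIndex]
  · rcases shapes hl E X hC hA with h | ⟨s, h⟩
    · refine Or.inl ⟨h ▸ hAScomm, ?_⟩
      rw [h, Subgroup.card_map_of_injective (f := E.toMonoidHom) E.injective, AS_card, hl, ← pow_mul]
      obtain ⟨c, rfl⟩ : ∃ c, n' = c + 2 := ⟨n' - 2, by omega⟩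
      rw [show c + 2 - 2 = c by omega, show 2 * (c + 2) = c * 2 + 4 by ring, pow_add]
      ring
    · refine Or.inr ⟨((q8Hom l).range.map E.toMonoidHom).map (MulAut.conj s).toMonoidHom, ?_, ?_⟩
      · rw [Subgroup.map_map]
        exact ⟨((MonoidHom.ofInjective q8Hom_injective).trans
          (Subgroup.equivMapOfInjective _ _ ((MulAut.conj s).injective.comp E.injective))).symm⟩
      · rw [h, QZ_eq, Subgroup.map_sup, Subgroup.map_sup, map_center, map_center]
  · intro X' hC' hA' hnc hnc'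
    rcases shapes hl E X hC hA with h | ⟨s, h⟩
    · exact absurd (h ▸ hAScomm) hnc
    rcases shapes hl E X' hC' hA' with h' | ⟨s', h'⟩
    · exact absurd (h' ▸ hAScomm) hnc'
    refine ⟨s' * s⁻¹, ?_⟩
    rw [h, h', Subgroup.map_map]
    congr 1
    ext p
    simp [mul_assoc]

end Cfsg.Agent.S1202
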