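import Cfsg.Statements.S3742
import Mathlib
-- import your own Cfsg.Agent.* helpers here

set_option autoImplicit false
open Cfsg

namespace Cfsg.Agent.S3742

open QuaternionGroup

/-- A quaternion as a subset of `Fin 4`, coded by its characteristic function. -/
def toVec : QuaternionGroup 2 → Fin 4 → Bool
  | .a i => if i = 1 then ![true, true, false, false] else if i = 3 then ![false, false, true, true] else ![false, false, false, false]
  | .xa i => if i = 0 then ![true, false, true, false] else if i = 2 then ![false, true, false, true] else if i = 3 then ![true, false, false, true] else ![false, true, true, false]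

/-- The inverse coding. -/
def ofVec (v : Fin 4 → Bool) : QuaternionGroup 2 :=
  match v 0, v 1, v 2 with
  | true, true, _ => .a 1
  | true, false, true => .xa 0
  | true, false, false => .xa 3
  | false, true, true => .xa 1
  | false, true, false => .xa 2
  | false, false, _ => .a 3

/-- The action of a permutation on the quaternion group. -/
def act (σ : Equiv.Perm (Fin 4)) (q : QuaternionGroup 2) : QuaternionGroup 2 :=
  if q * q = 1 then q else
    if Equiv.Perm.sign σ = 1 then ofVec (fun i => toVec q (σ.symm i))
    else (ofVec (fun i => toVec q (σ.symm i)))⁻¹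

theorem act_mul : ∀ σ : Equiv.Perm (Fin 4), ∀ x y : QuaternionGroup 2, act σ (x * y) = act σ x * act σ y := by
  decide +kernel

theorem act_comp : ∀ σ τ : Equiv.Perm (Fin 4), ∀ x : QuaternionGroup 2, act (σ * τ) x = act σ (act τ x) := by
  decide +kernel

theorem act_one : ∀ x : QuaternionGroup 2, act 1 x = x := by decide +kernel

theorem act_faithful : ∀ σ : Equiv.Perm (Fin 4),
    act σ (.a 1) = .a 1 → act σ (.xa 0) = .xa 0 → σ = 1 := by decide +kernel

theorem act_full : ∀ u v : QuaternionGroup 2, u * u ≠ 1 → v * v ≠ 1 → v ≠ u → v ≠ u⁻¹ →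
    ∃ σ : Equiv.Perm (Fin 4), act σ (.a 1) = u ∧ act σ (.xa 0) = v := by decide +kernel

theorem gens : ∀ q : QuaternionGroup 2, ∃ i : Fin 4, ∃ j : Fin 2,
    q = (.xa 0) ^ (j : ℕ) * (.a 1) ^ (i : ℕ) := by decide +kernel

/-- The homomorphism. -/
def toAut : Equiv.Perm (Fin 4) →* MulAut (QuaternionGroup 2) where
  toFun σ :=
    { toFun := act σ
      invFun := act σ⁻¹
      left_inv := fun x => by rw [← act_comp, inv_mul_cancel, act_one]
      right_inv := fun x => by rw [← act_comp, mul_inv_cancel, act_one]
      map_mul' := act_mul σ }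
  map_one' := MulEquiv.ext act_one
  map_mul' σ τ := MulEquiv.ext (act_comp σ τ)

/-- The automorphism group of the quaternion group of order 8 is isomorphic to the symmetric group of degree 4. -/
theorem result : Nonempty (MulAut (QuaternionGroup 2) ≃* Equiv.Perm (Fin 4)) := by
  refine ⟨(MulEquiv.ofBijective toAut ⟨?_, ?_⟩).symm⟩
  · rw [injective_iff_map_eq_one]
    intro σ h
    exact act_faithful σ (DFunLike.congr_fun h (.a 1)) (DFunLike.congr_fun h (.xa 0))
  · intro f
    have hu : f (.a 1) * f (.a 1) ≠ 1 := by
      rw [← map_mul, Ne, MulEquiv.map_eq_one_iff]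
      decide
    have hv : f (.xa 0) * f (.xa 0) ≠ 1 := by
      rw [← map_mul, Ne, MulEquiv.map_eq_one_iff]
      decide
    have h1 : f (.xa 0) ≠ f (.a 1) := f.injective.ne (by decide)
    have h2 : f (.xa 0) ≠ (f (.a 1))⁻¹ := by
      rw [← map_inv]
      exact f.injective.ne (by decide)
    obtain ⟨σ, hσ1, hσ2⟩ := act_full _ _ hu hv h1 h2
    refine ⟨σ, MulEquiv.ext fun q => ?_⟩
    obtain ⟨i, j, rfl⟩ := gens q
    simp only [map_mul, map_pow]
    rw [show toAut σ (.a 1) = f (.a 1) from hσ1, show toAut σ (.xa 0) = f (.xa 0) from hσ2]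

end Cfsg.Agent.S3742
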