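import Cfsg.Statements.S1203
import Mathlib
import Cfsg.Agent.Lib.QDWreathQDFour
import Cfsg.Agent.Lib.QDWreathLocal
import Cfsg.Agent.S3742
-- import your own Cfsg.Agent.* helpers here

set_option autoImplicit false
open Cfsg
open Cfsg.Agent.QDWreathBase Cfsg.Agent.QDWreathQD Cfsg.Agent.QDWreathQDFour Cfsg.Agent.QDWreathLocal

namespace Cfsg.Agent.S1203

theorem klein_aut_dvd {T : Type*} [Group T] [IsKleinFour T] : Nat.card (MulAut T) ∣ 6 := by
  classical
  have : Finite T := Nat.finite_of_card_ne_zero (by rw [IsKleinFour.card_four]; norm_num)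
  let f : MulAut T →* Equiv.Perm {x : T // x ≠ 1} :=
    { toFun := fun φ => φ.toEquiv.subtypeEquiv (fun x => by simp)
      map_one' := by ext x; rfl
      map_mul' := fun φ ψ => by ext x; rfl }
  have hf : Function.Injective f := by
    intro φ ψ h
    ext x
    by_cases hx : x = 1
    · simp [hx]
    · exact congrArg Subtype.val (Equiv.congr_fun h ⟨x, hx⟩)
  refine (Subgroup.card_dvd_of_injective f hf).trans (dvd_of_eq ?_)
  have : Fintype T := Fintype.ofFinite T
  rw [Nat.card_perm, Nat.card_eq_fintype_card, Fintype.card_subtype_compl, Fintype.card_subtype_eq,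
    ← Nat.card_eq_fintype_card, IsKleinFour.card_four]
  rfl

theorem q8_outer {Q : Type*} [Group Q] (e : Q ≃* QuaternionGroup 2) :
    (MulAut.conj : Q →* MulAut Q).range.index ∣ 6 := by
  have : Finite Q := Finite.of_equiv _ e.toEquiv.symm
  obtain ⟨σ⟩ := Cfsg.Agent.S3742.result
  have hA : Nat.card (MulAut Q) = 24 := by
    rw [Nat.card_congr ((MulAut.congr e).trans σ).toEquiv, Nat.card_perm, Nat.card_eq_fintype_card,
      Fintype.card_fin]
    rfl
  have hsurj : Function.Surjective e := e.surjective
  have hne : ∀ b : QuaternionGroup 2, ∃ c, b = 1 ∨ b = QuaternionGroup.a 2 ∨ b * c ≠ c * b := by decide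
  have hker : Nat.card (MulAut.conj : Q →* MulAut Q).ker ∣ 2 := by
    have hcard : Nat.card (MulAut.conj : Q →* MulAut Q).ker ≤ 2 := by
      have hsub : ((MulAut.conj : Q →* MulAut Q).ker : Set Q) ⊆ {e.symm 1, e.symm (QuaternionGroup.a 2)} := by
        intro x hx
        obtain ⟨c, h | h | h⟩ := hne (e x)
        · left; rw [← h, MulEquiv.symm_apply_apply]
        · right; rw [Set.mem_singleton_iff, ← h, MulEquiv.symm_apply_apply]
        · exfalso
          apply h
          obtain ⟨d, rfl⟩ := hsurj c
          rw [← map_mul, ← map_mul]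
          have hx' := DFunLike.congr_fun (MonoidHom.mem_ker.1 hx) d
          simp only [MulAut.conj_apply, MulAut.one_apply] at hx'
          rw [mul_inv_eq_iff_eq_mul] at hx'
          rw [hx']
      have := Set.ncard_le_ncard hsub
      rw [← Nat.card_coe_set_eq, SetLike.coe_sort_coe] at this
      exact this.trans ((Set.ncard_insert_le _ _).trans (by simp))
    have hpos : 0 < Nat.card (MulAut.conj : Q →* MulAut Q).ker := Nat.card_pos
    interval_cases (Nat.card (MulAut.conj : Q →* MulAut Q).ker) <;> norm_num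
  have h1 := (MulAut.conj : Q →* MulAut Q).range.index_mul_card
  have h2 := (MulAut.conj : Q →* MulAut Q).ker.card_eq_card_quotient_mul_card_subgroup
  rw [Nat.card_congr (QuotientGroup.quotientKerEquivRange _).toEquiv, Nat.card_congr e.toEquiv,
    Nat.card_eq_fintype_card (α := QuaternionGroup 2), QuaternionGroup.card] at h2
  rw [hA] at h1
  rcases (Nat.dvd_prime Nat.prime_two).1 hker with hk | hk <;> rw [hk] at h2
  · rw [show Nat.card (MulAut.conj : Q →* MulAut Q).range = 8 by omega] at h1
    exact ⟨2, by omega⟩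
  · rw [show Nat.card (MulAut.conj : Q →* MulAut Q).range = 4 by omega] at h1
    exact ⟨1, by omega⟩

/-- Let G be a finite group with quasi-dihedral Sylow 2-subgroup S, T a Klein four-subgroup of S and Q a quaternion subgroup of order 8 of S. Then |N_G(T) : C_G(T)| ∈ {2, 6} and |N_G(Q) : Q C_G(Q)| ∈ {2, 6}. -/
theorem result {G : Type*} [Group G] [Finite G] (S : Sylow 2 G) (hS : Cfsg.IsQuasiDihedral (S : Subgroup G)) (T : Subgroup G) (hT : IsKleinFour T) (hTS : T ≤ S) (Q : Subgroup G) (hQS : Q ≤ S) (eQ : Q ≃* QuaternionGroup 2) : ((Subgroup.centralizer (T : Set G)).relIndex (Subgroup.normalizer (T : Set G)) = 2 ∨ (Subgroup.centralizer (T : Set G)).relIndex (Subgroup.normalizer (T : Set G)) = 6) ∧ ((Q ⊔ Subgroup.centralizer (Q : Set G)).relIndex (Subgroup.normalizer (Q : Set G)) = 2 ∨ (Q ⊔ Subgroup.centralizer (Q : Set G)).relIndex (Subgroup.normalizer (Q : Set G)) = 6) := by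
  obtain ⟨n, hn, hcard, l, hl0, hl, ⟨E⟩⟩ := exists_equiv hS
  have hpow : 2 ^ 4 ≤ Nat.card (S : Subgroup G) := by
    rw [hcard]; exact Nat.pow_le_pow_right (by norm_num) (by omega)
  constructor
  · have := hT
    have hTle : T ≤ Subgroup.centralizer (T : Set G) := by
      intro x hx
      rw [Subgroup.mem_centralizer_iff]
      intro y hy
      have := mul_comm_of_exponent_two (G := T) IsKleinFour.exponent_two ⟨y, hy⟩ ⟨x, hx⟩
      exact congrArg Subtype.val this
    have hsup : T ⊔ Subgroup.centralizer (T : Set G) = Subgroup.centralizer (T : Set G) := sup_eq_right.2 hTle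
    rw [← hsup]
    have e4 := Subgroup.subgroupOfEquivOfLe hTS
    have hT' : IsKleinFour (T.subgroupOf (S : Subgroup G)) :=
      ⟨(Nat.card_congr e4.toEquiv).trans hT.card_four,
        (Monoid.exponent_eq_of_mulEquiv e4).trans hT.exponent_two⟩
    obtain ⟨t, ht, hC, hset⟩ := klein_pullback E _ hT'
    refine two_or_six (two_dvd_relIndex S.2 (lt_of_le_of_ne hTS ?_) ?_) ?_
    · intro h
      rw [← h, hT.card_four] at hpow
      omega
    · intro c hc hcc
      obtain ⟨a, ha⟩ := E.surjective ⟨c, hc⟩
      have hg : ((E ⟨2 * t, true⟩ : (S : Subgroup G)) : G) ∈ T := ht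
      have hcomm : a * ⟨2 * t, true⟩ = (⟨2 * t, true⟩ : QD l) * a := by
        apply E.injective
        apply Subtype.ext
        rw [map_mul, map_mul, ha]
        exact (Subgroup.mem_centralizer_iff.1 hcc _ hg).symm
      have ham : a ∈ ((T.subgroupOf (S : Subgroup G)).comap E.toMonoidHom : Subgroup (QD l)) := by
        rw [← SetLike.mem_coe, hset]
        simpa [fourSet] using commute_true_iff.1 hcomm
      have : ((E a : (S : Subgroup G)) : G) ∈ T := ham
      rwa [ha] at this
    · refine (relIndex_sup_dvd T).trans ?_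
      exact (Subgroup.index_dvd_card _).trans klein_aut_dvd
  · have e8 := Subgroup.subgroupOfEquivOfLe hQS
    obtain ⟨t, ht, hset⟩ := quat_pullback E (Q.subgroupOf (S : Subgroup G)) (e8.trans eQ)
    refine two_or_six (two_dvd_relIndex S.2 (lt_of_le_of_ne hQS ?_) ?_) ((relIndex_sup_dvd Q).trans (q8_outer eQ))
    · intro h
      rw [← h, Nat.card_congr eQ.toEquiv, Nat.card_eq_fintype_card, QuaternionGroup.card] at hpow
      omega
    · intro c hc hcc
      obtain ⟨a, ha⟩ := E.surjective ⟨c, hc⟩
      have hg : ((E ⟨2 * t + 1, true⟩ : (S : Subgroup G)) : G) ∈ Q := ht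
      have hcomm : a * ⟨2 * t + 1, true⟩ = (⟨2 * t + 1, true⟩ : QD l) * a := by
        apply E.injective
        apply Subtype.ext
        rw [map_mul, map_mul, ha]
        exact (Subgroup.mem_centralizer_iff.1 hcc _ hg).symm
      have hC : C l ∈ ((Q.subgroupOf (S : Subgroup G)).comap E.toMonoidHom : Subgroup (QD l)) := by
        rw [← sq_true_odd t]
        exact pow_mem ht 2
      have ham : a ∈ ((Q.subgroupOf (S : Subgroup G)).comap E.toMonoidHom : Subgroup (QD l)) := by
        rcases commute_true_iff.1 hcomm with rfl | rfl | rfl | rfl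
        · exact one_mem _
        · exact hC
        · exact ht
        · exact mul_mem hC ht
      have : ((E a : (S : Subgroup G)) : G) ∈ Q := ham
      rwa [ha] at this

end Cfsg.Agent.S1203
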