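import Cfsg.Statements.S1204
import Mathlib
import Cfsg.Agent.Lib.QDFusionSub
-- import your own Cfsg.Agent.* helpers here

set_option autoImplicit false
open Cfsg
open Cfsg.Agent.QDWreathBase Cfsg.Agent.QDWreathQD Cfsg.Agent.QDWreathQDSub Cfsg.Agent.QDFusion Cfsg.Agent.QDFusionSub
open Cfsg.Agent.TwoFusionTools

namespace Cfsg.Agent.S1204

/-- Let G be a finite group with quasi-dihedral Sylow 2-subgroup S, T a Klein four-subgroup and Q a quaternion subgroup of order 8 of S, with |N_G(T) : C_G(T)| = 6 and |N_G(Q) : Q C_G(Q)| = 6. Then G has no subgroup of index 2, exactly one conjugacy class of involutions and exactly one conjugacy class of elements of order 4. -/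
theorem result {G : Type*} [Group G] [Finite G] (S : Sylow 2 G) (hS : Cfsg.IsQuasiDihedral (S : Subgroup G)) (T : Subgroup G) (hT : IsKleinFour T) (hTS : T ≤ S) (Q : Subgroup G) (hQS : Q ≤ S) (eQ : Q ≃* QuaternionGroup 2) (h₁ : (Subgroup.centralizer (T : Set G)).relIndex (Subgroup.normalizer (T : Set G)) = 6) (h₂ : (Q ⊔ Subgroup.centralizer (Q : Set G)).relIndex (Subgroup.normalizer (Q : Set G)) = 6) : (∀ H : Subgroup G, H.index ≠ 2) ∧ Nat.card {C : ConjClasses G // ∃ t : G, orderOf t = 2 ∧ ConjClasses.mk t = C} = 1 ∧ Nat.card {C : ConjClasses G // ∃ t : G, orderOf t = 4 ∧ ConjClasses.mk t = C} = 1 := by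
  obtain ⟨n, hn, hcard, l, hl0, hl, ⟨E⟩⟩ := exists_equiv hS
  have hT6 := T_six S E hT hTS h₁
  have hQ6 := Q_six S E hQS eQ h₂
  refine ⟨fun H hH => ?_, inv_classes_one S E hT6, four_classes_one S E hQ6⟩
  have : H.Normal := Subgroup.normal_of_index_eq_two hH
  have hI := I_mem_of_index_two S E hH
  have hC : C l ∈ pre S E H := by rw [C_eq]; exact mul_mem hI hI
  have hev : ∀ t, (⟨2 * t, true⟩ : QD l) ∈ pre S E H := fun t =>
    mem_of_isConj (M := H) (y := emb S E (C l)) hC (hT6.trans (conj_even' S E 0 t))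
  have hodd : ∀ t, (⟨2 * t + 1, true⟩ : QD l) ∈ pre S E H := fun t =>
    mem_of_isConj (M := H) (y := emb S E (I l)) hI (hQ6.trans (conj_odd S E 0 t))
  have htrue : ∀ i, (⟨i, true⟩ : QD l) ∈ pre S E H := fun i => by
    obtain ⟨t, rfl | rfl⟩ := even_or_odd i
    · exact hev t
    · exact hodd t
  have hS' : (S : Subgroup G) ≤ H := by
    intro y hy
    obtain ⟨⟨i, e⟩, rfl⟩ := exists_emb S E hy
    cases e
    · have := mul_mem (htrue i) (htrue 0)
      simp only [mk_mul_true, mul_zero, add_zero, Bool.not_true] at this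
      exact this
    · exact htrue i
  have h3 := Subgroup.index_dvd_of_le hS'
  rw [hH] at h3
  exact S.not_dvd_index h3

end Cfsg.Agent.S1204
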