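import Cfsg.Statements.S1205
import Mathlib
import Cfsg.Agent.Lib.QDFusionSub
-- import your own Cfsg.Agent.* helpers here

set_option autoImplicit false
open Cfsg
open Cfsg.Agent.QDWreathBase Cfsg.Agent.QDWreathQD Cfsg.Agent.QDWreathQDSub Cfsg.Agent.QDFusion Cfsg.Agent.QDFusionSub
open Cfsg.Agent.TwoFusionTools

namespace Cfsg.Agent.S1205

/-- Let G be a finite group with quasi-dihedral Sylow 2-subgroup S, T a Klein four-subgroup and Q a quaternion subgroup of order 8 of S, with |N_G(T) : C_G(T)| = 2 and |N_G(Q) : Q C_G(Q)| = 6. Then G has a normal subgroup K of index 2 whose Sylow 2-subgroups are generalized quaternion and which has no subgroup of index 2; the centre of S is weakly closed in S; and G has exactly two classes of involutions and one class of elements of order 4. -/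
theorem result {G : Type*} [Group G] [Finite G] (S : Sylow 2 G) (hS : Cfsg.IsQuasiDihedral (S : Subgroup G)) (T : Subgroup G) (hT : IsKleinFour T) (hTS : T ≤ S) (Q : Subgroup G) (hQS : Q ≤ S) (eQ : Q ≃* QuaternionGroup 2) (h₁ : (Subgroup.centralizer (T : Set G)).relIndex (Subgroup.normalizer (T : Set G)) = 2) (h₂ : (Q ⊔ Subgroup.centralizer (Q : Set G)).relIndex (Subgroup.normalizer (Q : Set G)) = 6) : (∃ K : Subgroup G, K.Normal ∧ K.index = 2 ∧ (∀ P : Sylow 2 ↥K, ∃ m : ℕ, 1 ≤ m ∧ Nonempty ((P : Subgroup ↥K) ≃* QuaternionGroup (2 ^ m))) ∧ (∀ H : Subgroup ↥K, H.index ≠ 2)) ∧ Cfsg.IsWeaklyClosed ((Subgroup.center (S : Subgroup G)).map (S : Subgroup G).subtype) (S : Subgroup G) ∧ Nat.card {C : ConjClasses G // ∃ t : G, orderOf t = 2 ∧ ConjClasses.mk t = C} = 2 ∧ Nat.card {C : ConjClasses G // ∃ t : G, orderOf t = 4 ∧ ConjClasses.mk t = C} = 1 := by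
  obtain ⟨n, hn, hcard, l, hl0, hl, ⟨E⟩⟩ := exists_equiv hS
  have hT2 := T_two S E hT hTS h₁
  have hQ6 := Q_six S E hQS eQ h₂
  obtain ⟨M, hMn, hM, htM⟩ := exists_index_two_t S E hT2
  have hpre := pre_eq_MQ S E hM htM hQ6
  refine ⟨⟨M, hMn, hM, fun P => ?_, no_index_two S M fun φ x hx => ?_⟩, ⟨?_, ?_⟩,
    inv_classes_two S E hT2, four_classes_one S E hQ6⟩
  · obtain ⟨e⟩ := sylow_model S E M P
    refine ⟨n - 3 + 1, by omega, ⟨e.trans ?_⟩⟩
    rw [hpre, show 2 ^ (n - 3 + 1) = 2 * l by rw [hl, pow_succ']]
    rw [← quaternionHom_range]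
    exact (MonoidHom.ofInjective quaternionHom_injective).symm
  · let ψ : pre S E M →* Multiplicative (ZMod 2) := φ.comp ((emb S E).subgroupComap M)
    have hψ : ∀ p, ψ p = 1 := by
      have hI : I l ∈ pre S E M := I_mem_of_index_two S E hM
      have hb : ∀ t, (⟨2 * t + 1, true⟩ : QD l) ∈ pre S E M := fun t =>
        mem_of_isConj (M := M) (y := emb S E (I l)) hI (hQ6.trans (conj_odd S E 0 t))
      have hfus : ∀ t, ψ ⟨_, hb t⟩ = ψ ⟨_, hI⟩ := by
        intro t
        obtain ⟨g, hg⟩ := isConj_iff.1 (hQ6.trans (conj_odd S E 0 t))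
        obtain ⟨g', hg'M, hg'⟩ : ∃ g' ∈ M, g' * emb S E (I l) * g'⁻¹ = emb S E ⟨2 * t + 1, true⟩ := by
          by_cases hgM : g ∈ M
          · exact ⟨g, hgM, hg⟩
          · refine ⟨g * emb S E (X l), (Subgroup.mul_mem_iff_of_index_two hM).2 (iff_of_false hgM ?_), ?_⟩
            · intro hX
              have hX' : X l ∈ pre S E M := hX
              rw [hpre] at hX'
              rcases mem_MQ.1 hX' with ⟨-, u, hu⟩ | ⟨h', -⟩
              · have := congrArg par hu
                simp only [X, par_one, par_even] at this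
                exact one_ne_zero this
              · exact Bool.noConfusion h'
            · rw [← hg, mul_inv_rev, show g * emb S E (X l) * emb S E (I l) * ((emb S E (X l))⁻¹ * g⁻¹) =
                g * (emb S E (X l) * emb S E (I l) * (emb S E (X l))⁻¹) * g⁻¹ by group,
                ← map_inv, ← map_mul, ← map_mul, show X l * I l * (X l)⁻¹ = I l by simp [X, I]]
        have e : ((emb S E).subgroupComap M ⟨_, hb t⟩ : M) =
            ⟨g', hg'M⟩ * ((emb S E).subgroupComap M ⟨_, hI⟩) * ⟨g', hg'M⟩⁻¹ := Subtype.ext hg'.symm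
        show φ _ = φ _
        rw [e, map_mul, map_mul, map_inv, mul_comm (φ ⟨g', hg'M⟩), mul_inv_cancel_right]
      have h0 : ψ ⟨_, hI⟩ = 1 := by
        have e : (⟨_, hb (0 + (l : ZMod (8 * l)))⟩ : pre S E M) = ⟨_, hI⟩ * ⟨_, hb 0⟩ := by
          apply Subtype.ext
          simp only [Subgroup.coe_mul, I, mk_mul_false]
          congr 1; ring
        have h := congrArg ψ e
        rw [map_mul, hfus, hfus] at h
        exact mul_eq_right.1 h.symm
      rintro ⟨⟨i, e⟩, hp⟩
      have hp' := hp
      rw [hpre] at hp'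
      rcases mem_MQ.1 hp' with ⟨he, u, hu⟩ | ⟨he, u, hu⟩ <;> simp only at he hu <;> subst he hu
      · have e : (⟨⟨2 * u, false⟩, hp⟩ : pre S E M) = ⟨_, hb (u - 2 * (l : ZMod (8 * l)))⟩ * ⟨_, hb 0⟩ := by
          apply Subtype.ext
          simp only [Subgroup.coe_mul, mk_mul_true, Bool.not_true]
          congr 1; unfold k; ring
        rw [e, map_mul, hfus, hfus, h0, one_mul]
      · rw [hfus, h0]
    obtain ⟨a, ha⟩ := exists_emb S E hx
    have := hψ ⟨a, show emb S E a ∈ M from ha ▸ x.2⟩
    rw [← this]
    exact congrArg φ (Subtype.ext ha.symm)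
  · rintro _ ⟨z, -, rfl⟩; exact z.2
  · intro g hle
    have hW : ∀ y, y ∈ (Subgroup.center (S : Subgroup G)).map (S : Subgroup G).subtype ↔
        y = 1 ∨ y = emb S E (C l) := by
      intro y
      constructor
      · rintro ⟨z, hz, rfl⟩
        obtain ⟨a, rfl⟩ := E.surjective z
        have h1 : a * ⟨1, true⟩ = (⟨1, true⟩ : QD l) * a := E.injective (by
          rw [map_mul, map_mul]; exact (Subgroup.mem_center_iff.1 hz _).symm)
        have h0 : a * ⟨0, true⟩ = (⟨0, true⟩ : QD l) * a := E.injective (by
          rw [map_mul, map_mul]; exact (Subgroup.mem_center_iff.1 hz _).symm)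
        rcases commute_true_iff.1 h1 with rfl | rfl | rfl | rfl
        · left; simp
        · right; rfl
        all_goals exfalso
        · rcases commute_true_iff.1 h0 with h | h | h | h
          · simp [one_def] at h
          · simp [C] at h
          · exact two_mul_ne_one (show 2 ∣ 8 * l from Dvd.intro (4 * l) (by ring)) 0
              (by linear_combination -congrArg QD.i h)
          · rw [C, mk_mul_false] at h
            exact two_mul_ne_one (show 2 ∣ 8 * l from Dvd.intro (4 * l) (by ring)) (2 * (l : ZMod (8 * l)))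
              (by linear_combination -congrArg QD.i h)
        · rw [C, mk_mul_false] at h0
          rcases commute_true_iff.1 h0 with h | h | h | h
          · simp [one_def] at h
          · simp [C] at h
          · exact two_mul_ne_one (show 2 ∣ 8 * l from Dvd.intro (4 * l) (by ring)) (-(2 * (l : ZMod (8 * l))))
              (by linear_combination -congrArg QD.i h)
          · rw [C, mk_mul_false] at h
            exact two_mul_ne_one (show 2 ∣ 8 * l from Dvd.intro (4 * l) (by ring)) 0
              (by linear_combination -congrArg QD.i h)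
      · rintro (rfl | rfl)
        · exact one_mem _
        · refine ⟨E (C l), Subgroup.mem_center_iff.2 fun z => ?_, rfl⟩
          obtain ⟨a, rfl⟩ := E.surjective z
          rw [← map_mul, ← map_mul, C_central]
    have hgc : g * emb S E (C l) * g⁻¹ = emb S E (C l) := by
      have hmem := hle ⟨emb S E (C l), (hW _).2 (Or.inr rfl), rfl⟩
      simp only [MulEquiv.coe_toMonoidHom, MulAut.conj_apply] at hmem
      rcases inv_cases S E hmem (by
        rw [← order_C (l := l), ← orderOf_injective _ (emb_injective S E) (C l)]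
        exact MulEquiv.orderOf_eq (MulAut.conj g) _) with h | ⟨t, h⟩
      · exact h
      · exact absurd ((isConj_iff.2 ⟨g, h⟩).trans (conj_even' S E t 0)) hT2
    ext y
    constructor
    · rintro ⟨w, hw, rfl⟩
      rcases (hW w).1 hw with rfl | rfl
      · rw [map_one]; exact one_mem _
      · simp only [MulEquiv.coe_toMonoidHom, MulAut.conj_apply, hgc]; exact hw
    · intro hy
      refine ⟨y, hy, ?_⟩
      rcases (hW y).1 hy with rfl | rfl
      · simp
      · simp only [MulEquiv.coe_toMonoidHom, MulAut.conj_apply, hgc]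

end Cfsg.Agent.S1205
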