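import Cfsg.Statements.S1206
import Mathlib
import Cfsg.Agent.Lib.QDFusionSub
-- import your own Cfsg.Agent.* helpers here

set_option autoImplicit false
open Cfsg
open Cfsg.Agent.QDWreathBase Cfsg.Agent.QDWreathQD Cfsg.Agent.QDWreathQDSub Cfsg.Agent.QDFusion Cfsg.Agent.QDFusionSub
open Cfsg.Agent.TwoFusionTools

namespace Cfsg.Agent.S1206

/-- Let G be a finite group with quasi-dihedral Sylow 2-subgroup S, T a Klein four-subgroup and Q a quaternion subgroup of order 8 of S, with |N_G(T) : C_G(T)| = 6 and |N_G(Q) : Q C_G(Q)| = 2. Then G has a normal subgroup K of index 2 whose Sylow 2-subgroups are dihedral and which has no subgroup of index 2, and G has exactly one class of involutions and two classes of elements of order 4. -/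
theorem result {G : Type*} [Group G] [Finite G] (S : Sylow 2 G) (hS : Cfsg.IsQuasiDihedral (S : Subgroup G)) (T : Subgroup G) (hT : IsKleinFour T) (hTS : T ≤ S) (Q : Subgroup G) (hQS : Q ≤ S) (eQ : Q ≃* QuaternionGroup 2) (h₁ : (Subgroup.centralizer (T : Set G)).relIndex (Subgroup.normalizer (T : Set G)) = 6) (h₂ : (Q ⊔ Subgroup.centralizer (Q : Set G)).relIndex (Subgroup.normalizer (Q : Set G)) = 2) : (∃ K : Subgroup G, K.Normal ∧ K.index = 2 ∧ (∀ P : Sylow 2 ↥K, ∃ m : ℕ, Nonempty ((P : Subgroup ↥K) ≃* DihedralGroup m)) ∧ (∀ H : Subgroup ↥K, H.index ≠ 2)) ∧ Nat.card {C : ConjClasses G // ∃ t : G, orderOf t = 2 ∧ ConjClasses.mk t = C} = 1 ∧ Nat.card {C : ConjClasses G // ∃ t : G, orderOf t = 4 ∧ ConjClasses.mk t = C} = 2 := by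
  obtain ⟨n, hn, hcard, l, hl0, hl, ⟨E⟩⟩ := exists_equiv hS
  have hT6 := T_six S E hT hTS h₁
  have hQ2 := Q_two S E hQS eQ h₂
  obtain ⟨M, hMn, hM, hbM⟩ := exists_index_two_b S E hQ2
  have hpre := pre_eq_MD S E hM hbM hT6
  refine ⟨⟨M, hMn, hM, fun P => ?_, no_index_two S M fun φ x hx => ?_⟩,
    inv_classes_one S E hT6, four_classes_two S E hQ2⟩
  · obtain ⟨e⟩ := sylow_model S E M P
    refine ⟨4 * l, ⟨e.trans ?_⟩⟩
    rw [hpre, ← dihedralHom_range]
    exact (MonoidHom.ofInjective dihedralHom_injective).symm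
  · let ψ : pre S E M →* Multiplicative (ZMod 2) := φ.comp ((emb S E).subgroupComap M)
    have hI : I l ∈ pre S E M := I_mem_of_index_two S E hM
    have hC : C l ∈ pre S E M := by rw [C_eq]; exact mul_mem hI hI
    have hev : ∀ t, (⟨2 * t, true⟩ : QD l) ∈ pre S E M := fun t =>
      mem_of_isConj (M := M) (y := emb S E (C l)) hC (hT6.trans (conj_even' S E 0 t))
    have hkill : ∀ t, ψ ⟨_, hev t⟩ = 1 := by
      intro t
      obtain ⟨g, hg⟩ := isConj_iff.1 (hT6.trans (conj_even' S E 0 t))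
      have e : ((emb S E).subgroupComap M ⟨_, hev t⟩ : M) =
          (⟨g * emb S E (I l) * g⁻¹, Subgroup.Normal.conj_mem inferInstance (emb S E (I l)) hI g⟩ : M) *
            ⟨g * emb S E (I l) * g⁻¹, Subgroup.Normal.conj_mem inferInstance (emb S E (I l)) hI g⟩ := by
        apply Subtype.ext
        show emb S E ⟨2 * t, true⟩ = g * emb S E (I l) * g⁻¹ * (g * emb S E (I l) * g⁻¹)
        rw [← hg, C_eq, map_mul]; group
      show φ _ = 1
      rw [e]
      exact hom_sq φ _
    obtain ⟨⟨i, e⟩, ha⟩ := exists_emb S E hx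
    have hp : (⟨i, e⟩ : QD l) ∈ pre S E M := show emb S E ⟨i, e⟩ ∈ M from ha ▸ x.2
    have hp' := hp
    rw [hpre] at hp'
    obtain ⟨u, hu⟩ := mem_MD.1 hp'
    simp only at hu; subst hu
    have h : ψ ⟨_, hp⟩ = 1 := by
      cases e
      · rw [show (⟨⟨2 * u, false⟩, hp⟩ : pre S E M) = ⟨_, hev u⟩ * ⟨_, hev 0⟩ from Subtype.ext (by
          simp only [Subgroup.coe_mul, mk_mul_true, Bool.not_true]; congr 1; ring), map_mul, hkill, hkill, one_mul]
      · exact hkill u
    rw [← h]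
    exact congrArg φ (Subtype.ext ha.symm)

end Cfsg.Agent.S1206
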