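import Cfsg.Statements.S1207
import Mathlib
import Cfsg.Agent.Lib.QDFusionSub
-- import your own Cfsg.Agent.* helpers here

set_option autoImplicit false
open Cfsg
open Cfsg.Agent.QDWreathBase Cfsg.Agent.QDWreathQD Cfsg.Agent.QDWreathQDSub Cfsg.Agent.QDFusion Cfsg.Agent.QDFusionSub
open Cfsg.Agent.TwoFusionTools

namespace Cfsg.Agent.S1207

/-- Let G be a finite group with quasi-dihedral Sylow 2-subgroup S, T a Klein four-subgroup and Q a quaternion subgroup of order 8 of S, with |N_G(T) : C_G(T)| = 2 and |N_G(Q) : Q C_G(Q)| = 2. Then G has a normal 2-complement, exactly two classes of involutions and exactly two classes of elements of order 4. -/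
theorem result {G : Type*} [Group G] [Finite G] (S : Sylow 2 G) (hS : Cfsg.IsQuasiDihedral (S : Subgroup G)) (T : Subgroup G) (hT : IsKleinFour T) (hTS : T ≤ S) (Q : Subgroup G) (hQS : Q ≤ S) (eQ : Q ≃* QuaternionGroup 2) (h₁ : (Subgroup.centralizer (T : Set G)).relIndex (Subgroup.normalizer (T : Set G)) = 2) (h₂ : (Q ⊔ Subgroup.centralizer (Q : Set G)).relIndex (Subgroup.normalizer (Q : Set G)) = 2) : Cfsg.HasNormalPComplement 2 G ∧ Nat.card {C : ConjClasses G // ∃ t : G, orderOf t = 2 ∧ ConjClasses.mk t = C} = 2 ∧ Nat.card {C : ConjClasses G // ∃ t : G, orderOf t = 4 ∧ ConjClasses.mk t = C} = 2 := by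
  obtain ⟨n, hn, hcard, l, hl0, hl, ⟨E⟩⟩ := exists_equiv hS
  have hT2 := T_two S E hT hTS h₁
  have hQ2 := Q_two S E hQS eQ h₂
  refine ⟨?_, inv_classes_two S E hT2, four_classes_two S E hQ2⟩
  obtain ⟨M₁, hn₁, hi₁, hm₁⟩ := exists_index_two_t S E hT2
  obtain ⟨M₂, hn₂, hi₂, hm₂⟩ := exists_index_two_b S E hQ2
  have hidx : ∃ a, (M₁ ⊓ M₂).index = 2 ^ a := by
    have h1 : M₁.relIndex M₂ ∣ 2 := hi₁ ▸ Subgroup.relIndex_dvd_index_of_normal M₁ M₂
    have h2 := Subgroup.relIndex_mul_index (inf_le_right : M₁ ⊓ M₂ ≤ M₂)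
    rw [Subgroup.inf_relIndex_right, hi₂] at h2
    rcases (Nat.dvd_prime Nat.prime_two).1 h1 with h | h <;> rw [h] at h2
    · exact ⟨1, by omega⟩
    · exact ⟨2, by omega⟩
  obtain ⟨a, ha⟩ := hidx
  refine hasNormalPComplement_of_cyclic S (M₁ ⊓ M₂) ha ?_
  let f : (S : Subgroup G).subgroupOf (M₁ ⊓ M₂) →* MC l :=
    { toFun := fun y => ⟨E.symm ⟨_, y.2⟩, by
        rw [mem_MC]
        by_contra he
        rw [Bool.not_eq_false] at he
        rcases hb : E.symm ⟨_, y.2⟩ with ⟨i, e⟩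
        rw [hb] at he; simp only at he; subst he
        have hy : emb S E ⟨i, true⟩ = ((y : ↥(M₁ ⊓ M₂)) : G) := by rw [← hb]; simp [emb]
        obtain ⟨t, rfl | rfl⟩ := even_or_odd i
        · exact hm₁ (mem_of_isConj (M := M₁) (y := emb S E ⟨2 * t, true⟩) (hy ▸ y.1.2.1) (conj_even' S E t 0))
        · exact hm₂ (mem_of_isConj (M := M₂) (y := emb S E ⟨2 * t + 1, true⟩) (hy ▸ y.1.2.2) (conj_odd S E t 0))⟩
      map_one' := by apply Subtype.ext; exact map_one E.symm
      map_mul' := fun y z => by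
        apply Subtype.ext
        exact map_mul E.symm ⟨_, y.2⟩ ⟨_, z.2⟩ }
  have hf : Function.Injective f := fun y z h => by
    have := E.symm.injective (congrArg Subtype.val h)
    exact Subtype.ext (Subtype.ext (congrArg (fun v : (S : Subgroup G) => (v : G)) this))
  have := MC_isCyclic (l := l)
  exact isCyclic_of_injective f hf

end Cfsg.Agent.S1207
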