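import Cfsg.Statements.S1209
import Mathlib
import Cfsg.Agent.Lib.WrFusionSub
import Cfsg.Agent.Lib.QDFusionSub
-- import your own Cfsg.Agent.* helpers here

set_option autoImplicit false
open Cfsg
open Cfsg.Agent.QDWreathBase Cfsg.Agent.QDWreathWr Cfsg.Agent.QDWreathWrSub Cfsg.Agent.QDWreathWrAut Cfsg.Agent.QDWreathWrQZ
open Cfsg.Agent.WrFusion Cfsg.Agent.WrFusionSub Cfsg.Agent.TwoFusionTools

namespace Cfsg.Agent.S1209

/-- Let G be a finite group whose Sylow 2-subgroup S is wreathed of order 2^(2n+1), U the commutative subgroup of index 2 in S, Q a quaternion subgroup of order 8 of S and V = Q Z(S). If |N_G(U) : C_G(U)| = 6 and |N_G(V) : V C_G(V)| = 6, then G has no subgroup of index 2 and exactly one conjugacy class of involutions. -/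
theorem result {G : Type*} [Group G] [Finite G] (S : Sylow 2 G) (hS : Cfsg.IsWreathed (S : Subgroup G)) (n : ℕ) (hn : Nat.card S = 2 ^ (2 * n + 1)) (U : Subgroup G) (hUS : U ≤ S) (hUab : IsMulCommutative U) (hUcard : Nat.card U = 2 ^ (2 * n)) (Q : Subgroup G) (hQS : Q ≤ S) (eQ : Q ≃* QuaternionGroup 2) (h₁ : (Subgroup.centralizer (U : Set G)).relIndex (Subgroup.normalizer (U : Set G)) = 6) (h₂ : ((Q ⊔ ((Subgroup.center (S : Subgroup G)).map (S : Subgroup G).subtype)) ⊔ Subgroup.centralizer ((Q ⊔ ((Subgroup.center (S : Subgroup G)).map (S : Subgroup G).subtype) : Subgroup G) : Set G)).relIndex (Subgroup.normalizer ((Q ⊔ ((Subgroup.center (S : Subgroup G)).map (S : Subgroup G).subtype) : Subgroup G) : Set G)) = 6) : (∀ H : Subgroup G, H.index ≠ 2) ∧ Nat.card {C : ConjClasses G // ∃ t : G, orderOf t = 2 ∧ ConjClasses.mk t = C} = 1 := by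
  obtain ⟨n', hn', hcard, l, hl0, hl, ⟨E⟩⟩ := exists_equiv hS
  obtain rfl : n' = n := by
    rw [hn] at hcard
    have := Nat.pow_right_injective (by norm_num) hcard
    omega
  obtain rfl := index_U S E hUS hUab hn' hUcard hl
  obtain ⟨g₀, hg₀⟩ := standard_V S E hQS eQ
  rw [hg₀, supC_index_conj] at h₂
  have hlm : ∃ m, l = 2 ^ m := ⟨_, hl⟩
  have hzd := U_six_fused S E hlm h₁
  have hdt := V_six_fused S E hlm h₂
  refine ⟨fun H hH => ?_, classes_one S E hzd hdt⟩
  have : H.Normal := Subgroup.normal_of_index_eq_two hH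
  have hc : IsCyclic (G ⧸ H) := isCyclic_of_prime_card (p := 2) (hp := ⟨Nat.prime_two⟩) hH
  let e : G ⧸ H ≃* Multiplicative (ZMod 2) :=
    mulEquivOfCyclicCardEq (by rw [show Nat.card (G ⧸ H) = 2 from hH]; simp)
  let φ : G →* Multiplicative (ZMod 2) := e.toMonoidHom.comp (QuotientGroup.mk' H)
  have hU : ∀ x ∈ U0 S E, x ∈ H := fun x hx => by
    rw [← QuotientGroup.eq_one_iff, ← e.injective.eq_iff, map_one]
    exact U_kill S E hlm h₁ (K := ⊤) (fun _ _ => Subgroup.mem_top _) le_top (φ.comp (⊤ : Subgroup G).subtype) x hx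
  have ht : emb S E (tI l) ∈ H := by
    obtain ⟨g, hg⟩ := isConj_iff.1 hdt
    rw [← hg]
    exact Subgroup.Normal.conj_mem inferInstance _ (hU _ (Subgroup.mem_map_of_mem _ (mem_AS.2 rfl))) g
  have hSH : (S : Subgroup G) ≤ H := by
    intro y hy
    obtain ⟨⟨a, b, e⟩, rfl⟩ := exists_emb S E hy
    cases e
    · exact hU _ (Subgroup.mem_map_of_mem _ (mem_AS.2 rfl))
    · rw [show (⟨a, b, true⟩ : WM l) = ⟨a, b, false⟩ * tI l by simp, map_mul]
      exact mul_mem (hU _ (Subgroup.mem_map_of_mem _ (mem_AS.2 rfl))) ht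
  have h3 := Subgroup.index_dvd_of_le hSH
  rw [hH] at h3
  exact S.not_dvd_index h3

end Cfsg.Agent.S1209
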