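import Cfsg.Statements.S1210
import Mathlib
import Cfsg.Agent.Lib.WrFusionSub
import Cfsg.Agent.Lib.QDFusionSub
-- import your own Cfsg.Agent.* helpers here

set_option autoImplicit false
open Cfsg
open Cfsg.Agent.QDWreathBase Cfsg.Agent.QDWreathWr Cfsg.Agent.QDWreathWrSub Cfsg.Agent.QDWreathWrAut Cfsg.Agent.QDWreathWrQZ
open Cfsg.Agent.WrFusion Cfsg.Agent.WrFusionSub Cfsg.Agent.TwoFusionTools

namespace Cfsg.Agent.S1210

/-- Let G be a finite group whose Sylow 2-subgroup S is wreathed of order 2^(2n+1), U the commutative subgroup of index 2 in S, Q a quaternion subgroup of order 8 of S and V = Q Z(S). If |N_G(U) : C_G(U)| = 2 and |N_G(V) : V C_G(V)| = 6, then G has a normal subgroup K of index 2^n whose Sylow 2-subgroups are generalized quaternion and which has no subgroup of index 2; every subgroup of Z(S) is weakly closed in S; and G has exactly two classes of involutions. -/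
theorem result {G : Type*} [Group G] [Finite G] (S : Sylow 2 G) (hS : Cfsg.IsWreathed (S : Subgroup G)) (n : ℕ) (hn : Nat.card S = 2 ^ (2 * n + 1)) (U : Subgroup G) (hUS : U ≤ S) (hUab : IsMulCommutative U) (hUcard : Nat.card U = 2 ^ (2 * n)) (Q : Subgroup G) (hQS : Q ≤ S) (eQ : Q ≃* QuaternionGroup 2) (h₁ : (Subgroup.centralizer (U : Set G)).relIndex (Subgroup.normalizer (U : Set G)) = 2) (h₂ : ((Q ⊔ ((Subgroup.center (S : Subgroup G)).map (S : Subgroup G).subtype)) ⊔ Subgroup.centralizer ((Q ⊔ ((Subgroup.center (S : Subgroup G)).map (S : Subgroup G).subtype) : Subgroup G) : Set G)).relIndex (Subgroup.normalizer ((Q ⊔ ((Subgroup.center (S : Subgroup G)).map (S : Subgroup G).subtype) : Subgroup G) : Set G)) = 6) : (∃ K : Subgroup G, K.Normal ∧ K.index = 2 ^ n ∧ (∀ P : Sylow 2 ↥K, ∃ m : ℕ, 1 ≤ m ∧ Nonempty ((P : Subgroup ↥K) ≃* QuaternionGroup (2 ^ m))) ∧ (∀ H : Subgroup ↥K, H.index ≠ 2)) ∧ (∀ Z₀ : Subgroup G, Z₀ ≤ ((Subgroup.center (S : Subgroup G)).map (S : Subgroup G).subtype) → Cfsg.IsWeaklyClosed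 Z₀ (S : Subgroup G)) ∧ Nat.card {C : ConjClasses G // ∃ t : G, orderOf t = 2 ∧ ConjClasses.mk t = C} = 2 := by
  obtain ⟨n', hn', hcard, l, hl0, hl, ⟨E⟩⟩ := exists_equiv hS
  obtain rfl : n' = n := by
    rw [hn] at hcard
    have := Nat.pow_right_injective (by norm_num) hcard
    omega
  obtain rfl := index_U S E hUS hUab hn' hUcard hl
  obtain ⟨g₀, hg₀⟩ := standard_V S E hQS eQ
  rw [hg₀, supC_index_conj] at h₂
  have hlm : ∃ m, l = 2 ^ m := ⟨_, hl⟩
  have hzd := U_two S E h₁
  have hdt := V_six_fused S E hlm h₂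
  have hfix := central_fixed S E hlm h₁ hdt
  refine ⟨?_, ?_, classes_dt S E hzd hdt⟩
  · -- the transfer to the cyclic group
    let χ : WM l →* Multiplicative (ZMod (4 * l)) :=
      MonoidHom.mk' (fun p => Multiplicative.ofAdd (p.a + p.b + if p.e then hh l else 0)) (by
        rintro ⟨a, b, e⟩ ⟨c, d, f⟩
        have h2 := hh_add_hh (l := l)
        cases e <;> cases f <;> simp [← ofAdd_add] <;> first | linear_combination h2 | linear_combination -h2 | ring)
    let ϕ : (S : Subgroup G) →* Multiplicative (ZMod (4 * l)) := χ.comp E.symm.toMonoidHom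
    let V := MonoidHom.transfer ϕ
    let ψ : WM l →* Multiplicative (ZMod (4 * l)) := V.comp (emb S E)
    set N := (S : Subgroup G).index with hN
    have hzc : ∀ c, ψ (zc c) = χ (zc c) ^ N := by
      intro c
      have h := TransferPow.transfer_eq_pow_index ϕ ⟨_, emb_mem S E (zc c)⟩ (fun k g hmem => by
        refine (congrArg ϕ (Subtype.ext ?_)).trans (map_pow ϕ _ k)
        have e1 : emb S E (zc c) ^ k = emb S E (zc ((k : ZMod (4 * l)) * c)) := by
          rw [← map_pow]; simp [zc, pow_false]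
        have h3 := hfix ((k : ZMod (4 * l)) * c) g⁻¹ (by rw [inv_inv, ← e1]; exact hmem)
        rw [inv_inv, ← e1] at h3
        simpa using h3)
      have e2 : ϕ ⟨_, emb_mem S E (zc c)⟩ = χ (zc c) := by
        show χ (E.symm _) = _
        congr 1
        exact E.injective (by rw [MulEquiv.apply_symm_apply]; rfl)
      rw [e2] at h
      exact h
    set v : ZMod (4 * l) := Multiplicative.toAdd (ψ ⟨1, 0, false⟩) with hv
    have h01 : ψ ⟨0, 1, false⟩ = ψ ⟨1, 0, false⟩ := by
      have h := congrArg ψ (show tI l * ⟨1, 0, false⟩ * (tI l)⁻¹ = (⟨0, 1, false⟩ : WM l) by simp)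
      rw [map_mul, map_mul, map_inv, mul_comm (ψ (tI l)), mul_inv_cancel_right] at h
      exact h.symm
    have hAS : ∀ a b, ψ ⟨a, b, false⟩ = Multiplicative.ofAdd (v * (a + b)) := by
      intro a b
      rw [show (⟨a, b, false⟩ : WM l) = ⟨1, 0, false⟩ ^ a.val * ⟨0, 1, false⟩ ^ b.val by simp [pow_false],
        map_mul, map_pow, map_pow, h01]
      apply Multiplicative.toAdd.injective
      simp only [toAdd_mul, toAdd_pow, toAdd_ofAdd, ← hv, nsmul_eq_mul, ZMod.natCast_zmod_val]
      ring
    have hodd : ∃ i, v = 2 * i + 1 := by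
      have h := hzc 1
      rw [hAS] at h
      have h2 := congrArg Multiplicative.toAdd h
      simp only [χ, MonoidHom.mk'_apply, toAdd_pow, toAdd_ofAdd, nsmul_eq_mul, Bool.false_eq_true, if_false, add_zero] at h2
      obtain ⟨r, hr⟩ : ∃ r, N = 2 * r + 1 := by
        rcases Nat.even_or_odd N with ⟨r, hr⟩ | ⟨r, hr⟩
        · exact absurd ⟨r, by rw [← hN, hr]; ring⟩ S.not_dvd_index
        · exact ⟨r, hr⟩
      rw [hr] at h2
      push_cast at h2
      rcases two_mul_zero (show (v - (2 * (r : ZMod (4 * l)) + 1)) + (v - (2 * (r : ZMod (4 * l)) + 1)) = 0 by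
        linear_combination h2) with h3 | h3
      · exact ⟨r, by linear_combination h3⟩
      · exact ⟨r + (l : ZMod (4 * l)), by unfold hh at h3; linear_combination h3⟩
    obtain ⟨i, hi⟩ := hodd
    have hvh : v * hh l = hh l := by rw [hi, hh]; linear_combination i * four_l (l := l)
    have hψt : ψ (tI l) = Multiplicative.ofAdd (hh l) := by
      obtain ⟨g, hg⟩ := isConj_iff.1 hdt
      show V (emb S E (tI l)) = _
      rw [← hg, map_mul, map_mul, map_inv, mul_comm (V g), mul_inv_cancel_right]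
      show ψ (dI l) = _
      rw [hAS, add_zero, hvh]
    have hψ : ∀ p : WM l, ψ p = Multiplicative.ofAdd (v * (p.a + p.b + if p.e then hh l else 0)) := by
      rintro ⟨a, b, e⟩
      cases e
      · rw [hAS]; simp
      · rw [show (⟨a, b, true⟩ : WM l) = ⟨a, b, false⟩ * tI l by simp, map_mul, hAS, hψt, ← ofAdd_add]
        congr 1
        simp only [mk_mul_false, add_zero, if_true]
        linear_combination -hvh
    obtain ⟨vu, hvu⟩ := hi ▸ isUnit_odd (m := _) hl i
    have hsurj : Function.Surjective V := by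
      intro w
      refine ⟨emb S E ⟨↑vu⁻¹ * Multiplicative.toAdd w, 0, false⟩, ?_⟩
      show ψ _ = w
      rw [hψ]
      simp only [Bool.false_eq_true, if_false, add_zero]
      rw [← hvu, ← mul_assoc, Units.mul_inv, one_mul, ofAdd_toAdd]
    set M := V.ker with hMdef
    have hM : M.index = 2 ^ n' := by
      rw [hMdef, Subgroup.index_ker, MonoidHom.range_eq_top_of_surjective V hsurj, Subgroup.card_top,
        Nat.card_congr Multiplicative.toAdd, Nat.card_zmod, hl]
      obtain ⟨c, rfl⟩ : ∃ c, n' = c + 2 := ⟨n' - 2, by omega⟩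
      rw [show c + 2 - 2 = c by omega, pow_add]; ring
    have hpre : ∀ p : WM l, emb S E p ∈ M ↔ p ∈ YS l := by
      rintro ⟨a, b, e⟩
      rw [MonoidHom.mem_ker, show V (emb S E ⟨a, b, e⟩) = ψ ⟨a, b, e⟩ from rfl, hψ, ofAdd_eq_one, mem_YS, ← hvu,
        Units.mul_right_eq_zero]
      constructor <;> intro h <;> cases e <;> simp at h ⊢
      · exact h
      · linear_combination h - hh_add_hh (l := l)
      · exact h
      · linear_combination h + hh_add_hh (l := l)
    refine ⟨M, inferInstance, hM, fun P => ?_, no_index_two S M fun φ x hx => ?_⟩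
    · obtain ⟨e⟩ := sylow_equiv S M P
      refine ⟨n' - 2 + 1, by omega, ⟨e.trans ?_⟩⟩
      rw [show 2 ^ (n' - 2 + 1) = 2 * l by rw [hl, pow_succ']]
      refine MulEquiv.trans ?_ ((MulEquiv.subgroupCongr quatHom_range).symm.trans
        (MonoidHom.ofInjective quatHom_injective).symm)
      exact MulEquiv.symm
        { toFun := fun a => ⟨⟨emb S E a, (hpre _).2 a.2⟩, emb_mem S E a⟩
          invFun := fun y => ⟨E.symm ⟨_, y.2⟩, (hpre _).1 (by
            show emb S E (E.symm ⟨_, y.2⟩) ∈ M
            simp [emb])⟩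
          left_inv := fun a => by apply Subtype.ext; exact E.symm_apply_apply a.1
          right_inv := fun y => by apply Subtype.ext; apply Subtype.ext; simp [emb]
          map_mul' := fun a b => by apply Subtype.ext; apply Subtype.ext; simp }
    · let χ' : YS l →* Multiplicative (ZMod 2) := φ.comp
        (((emb S E).comp (YS l).subtype).codRestrict M fun p => (hpre _).2 p.2)
      obtain ⟨y, hy, hyo, hyz, w, hw, hw2⟩ := V_six S E hlm h₂
      have hyM : y ∈ M := mem_of_odd_order hM hyo
      have hI : (⟨(l : ZMod (4 * l)), -(l : ZMod (4 * l)), false⟩ : WM l) ∈ YS l := by rw [mem_YS]; simp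
      have hq : ∀ a : ZMod (4 * l), (⟨a, hh l - a, true⟩ : WM l) ∈ YS l := fun a => by rw [mem_YS]; simp
      have hrot : ∀ a, χ' ⟨_, hq a⟩ = χ' ⟨_, hI⟩ := by
        intro a
        set s : G := emb S E ⟨a - (w - (l : ZMod (4 * l))), 0, false⟩ with hs
        have hyM' : s * y * s⁻¹ ∈ M := Subgroup.Normal.conj_mem inferInstance y hyM s
        have hc1 : s⁻¹ * emb S E ⟨(l : ZMod (4 * l)), -(l : ZMod (4 * l)), false⟩ * s =
            emb S E ⟨(l : ZMod (4 * l)), -(l : ZMod (4 * l)), false⟩ := by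
          rw [hs, ← map_inv, ← map_mul, ← map_mul]
          congr 1; simp; try ring
        have hc2 : y * emb S E ⟨(l : ZMod (4 * l)), -(l : ZMod (4 * l)), false⟩ * y⁻¹ =
            emb S E ⟨w - (l : ZMod (4 * l)), -w - (l : ZMod (4 * l)), true⟩ := by
          rw [show (⟨(l : ZMod (4 * l)), -(l : ZMod (4 * l)), false⟩ : WM l) = dI l * zc (-(l : ZMod (4 * l))) by
            simp [zc, hh, two_mul], map_mul,
            show y * (emb S E (dI l) * emb S E (zc (-(l : ZMod (4 * l))))) * y⁻¹ =
              (y * emb S E (dI l) * y⁻¹) * (y * emb S E (zc (-(l : ZMod (4 * l)))) * y⁻¹) by group,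
            hw, hyz, ← map_mul]
          congr 1
          simp [zc, sub_eq_add_neg]
        have e : ((((emb S E).comp (YS l).subtype).codRestrict M fun p => (hpre _).2 p.2) ⟨_, hq a⟩ : M) =
            ⟨_, hyM'⟩ * ((((emb S E).comp (YS l).subtype).codRestrict M fun p => (hpre _).2 p.2) ⟨_, hI⟩) *
              ⟨_, hyM'⟩⁻¹ := by
          apply Subtype.ext
          simp only [Subgroup.coe_mul, Subgroup.coe_inv]
          show emb S E ⟨a, hh l - a, true⟩ =
            s * y * s⁻¹ * emb S E ⟨(l : ZMod (4 * l)), -(l : ZMod (4 * l)), false⟩ * (s * y * s⁻¹)⁻¹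
          rw [show s * y * s⁻¹ * emb S E ⟨(l : ZMod (4 * l)), -(l : ZMod (4 * l)), false⟩ * (s * y * s⁻¹)⁻¹ =
            s * (y * (s⁻¹ * emb S E ⟨(l : ZMod (4 * l)), -(l : ZMod (4 * l)), false⟩ * s) * y⁻¹) * s⁻¹ by group,
            hc1, hc2, hs, ← map_inv, ← map_mul, ← map_mul]
          congr 1
          rw [conj_false, if_pos rfl]
          simp only [WM.ext_iff]
          exact ⟨by ring, by rw [hh]; linear_combination four_l (l := l), trivial⟩
        show φ _ = φ _
        rw [e, map_mul, map_mul, map_inv, mul_comm (φ ⟨_, hyM'⟩), mul_inv_cancel_right]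
      have h0 : χ' ⟨_, hI⟩ = 1 := by
        have e : (⟨_, hq ((l : ZMod (4 * l)))⟩ : YS l) = ⟨_, hI⟩ * ⟨_, hq 0⟩ := by
          apply Subtype.ext
          simp [sub_eq_add_neg, add_comm]
        have h := congrArg χ' e
        rw [map_mul, hrot, hrot] at h
        exact mul_eq_right.1 h.symm
      obtain ⟨⟨a, b, e⟩, ha⟩ := exists_emb S E hx
      have hp : (⟨a, b, e⟩ : WM l) ∈ YS l := (hpre _).1 (ha ▸ x.2)
      have h : χ' ⟨_, hp⟩ = 1 := by
        have hp' := hp
        rw [mem_YS] at hp'
        cases e <;> simp at hp'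
        · have e' : (⟨⟨a, b, false⟩, hp⟩ : YS l) = ⟨_, hq (a + hh l)⟩ * ⟨_, hq 0⟩ * 1 * 1 * 1 := by
            apply Subtype.ext
            simp only [Subgroup.coe_mul, OneMemClass.coe_one, mul_one, mk_mul_true, Bool.not_true, WM.ext_iff]
            exact ⟨by linear_combination -2 * 0 - hh_add_hh (l := l), by linear_combination hp' + 0, trivial⟩
          rw [e', map_mul, map_mul, map_mul, map_mul, map_one, hrot, hrot, h0]
          simp
        · rw [show (⟨⟨a, b, true⟩, hp⟩ : YS l) = ⟨_, hq a⟩ from Subtype.ext (WM.ext rfl (by linear_combination hp') rfl), hrot, h0]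
      rw [← h]
      exact congrArg φ (Subtype.ext ha.symm)
  · intro Z₀ hZ₀
    refine ⟨fun z hz => ?_, fun g hle => ?_⟩
    · obtain ⟨c, rfl⟩ := mem_center_map S E (hZ₀ hz)
      exact emb_mem S E _
    · have key : ∀ z ∈ Z₀, g * z * g⁻¹ = z := fun z hz => by
        obtain ⟨c, rfl⟩ := mem_center_map S E (hZ₀ hz)
        exact hfix c g (hle ⟨_, hz, rfl⟩)
      ext y
      constructor
      · rintro ⟨z, hz, rfl⟩
        simp only [MulEquiv.coe_toMonoidHom, MulAut.conj_apply, key z hz]
        exact hz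
      · intro hy
        exact ⟨y, hy, by simp [key y hy]⟩

end Cfsg.Agent.S1210
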