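import Cfsg.Statements.S1211
import Mathlib
import Cfsg.Agent.Lib.WrFusionSub
import Cfsg.Agent.Lib.QDFusionSub
-- import your own Cfsg.Agent.* helpers here

set_option autoImplicit false
open Cfsg
open Cfsg.Agent.QDWreathBase Cfsg.Agent.QDWreathWr Cfsg.Agent.QDWreathWrSub Cfsg.Agent.QDWreathWrAut Cfsg.Agent.QDWreathWrQZ
open Cfsg.Agent.WrFusion Cfsg.Agent.WrFusionSub Cfsg.Agent.TwoFusionTools

namespace Cfsg.Agent.S1211

/-- Let G be a finite group whose Sylow 2-subgroup S is wreathed of order 2^(2n+1), U the commutative subgroup of index 2 in S, Q a quaternion subgroup of order 8 of S and V = Q Z(S). If |N_G(U) : C_G(U)| = 6 and |N_G(V) : V C_G(V)| = 2, then G has a normal subgroup K of index 2 containing U (so U is a Sylow 2-subgroup of K) which has no subgroup of index 2, and G has exactly two classes of involutions. -/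
theorem result {G : Type*} [Group G] [Finite G] (S : Sylow 2 G) (hS : Cfsg.IsWreathed (S : Subgroup G)) (n : ℕ) (hn : Nat.card S = 2 ^ (2 * n + 1)) (U : Subgroup G) (hUS : U ≤ S) (hUab : IsMulCommutative U) (hUcard : Nat.card U = 2 ^ (2 * n)) (Q : Subgroup G) (hQS : Q ≤ S) (eQ : Q ≃* QuaternionGroup 2) (h₁ : (Subgroup.centralizer (U : Set G)).relIndex (Subgroup.normalizer (U : Set G)) = 6) (h₂ : ((Q ⊔ ((Subgroup.center (S : Subgroup G)).map (S : Subgroup G).subtype)) ⊔ Subgroup.centralizer ((Q ⊔ ((Subgroup.center (S : Subgroup G)).map (S : Subgroup G).subtype) : Subgroup G) : Set G)).relIndex (Subgroup.normalizer ((Q ⊔ ((Subgroup.center (S : Subgroup G)).map (S : Subgroup G).subtype) : Subgroup G) : Set G)) = 2) : (∃ K : Subgroup G, K.Normal ∧ K.index = 2 ∧ U ≤ K ∧ (∀ H : Subgroup ↥K, H.index ≠ 2)) ∧ Nat.card {C : ConjClasses G // ∃ t : G, orderOf t = 2 ∧ ConjClasses.mk t = C} = 2 := by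
  obtain ⟨n', hn', hcard, l, hl0, hl, ⟨E⟩⟩ := exists_equiv hS
  obtain rfl : n' = n := by
    rw [hn] at hcard
    have := Nat.pow_right_injective (by norm_num) hcard
    omega
  obtain rfl := index_U S E hUS hUab hn' hUcard hl
  obtain ⟨g₀, hg₀⟩ := standard_V S E hQS eQ
  rw [hg₀, supC_index_conj] at h₂
  have hlm : ∃ m, l = 2 ^ m := ⟨_, hl⟩
  have hzd := U_six_fused S E hlm h₁
  have hdt := V_two S E h₂
  have hnt : ∀ p : WM l, p ∈ AS l → ¬ IsConj (emb S E p) (emb S E (tI l)) := by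
    intro p hp hconj
    obtain ⟨g, hg⟩ := isConj_iff.1 hconj
    have ho : orderOf (emb S E p) = 2 := by
      rw [← order_t S E, ← hg, show g * emb S E p * g⁻¹ = MulAut.conj g (emb S E p) from rfl,
        MulEquiv.orderOf_eq]
    rcases inv_cases S E (emb_mem S E p) ho with h | h | h | ⟨u, h⟩
    · exact hdt (hzd.symm.trans (h ▸ hconj))
    · exact hdt (h ▸ hconj)
    · exact hdt ((conj_d S E).symm.trans (h ▸ hconj))
    · rw [emb_injective S E h] at hp
      exact Bool.noConfusion (mem_AS.1 hp)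
  obtain ⟨M, hMn, hM, htM⟩ := exists_index_two S ((AS l).map E.toMonoidHom) (x := emb S E (tI l))
    (by
      rw [Subgroup.index_map_of_bijective (f := E.toMonoidHom) E.bijective]
      have h1 := (AS l).card_mul_index
      rw [AS_card, card_eq] at h1
      have : 0 < 16 * l ^ 2 := by have := NeZero.pos l; positivity
      exact Nat.eq_of_mul_eq_mul_left this (by rw [h1]; ring))
    (emb_mem S E _)
    (by
      rintro ⟨p, hp, h⟩
      rw [emb_injective S E (congrArg Subtype.val h)] at hp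
      exact Bool.noConfusion (mem_AS.1 hp))
    (fun g k hk hmem => by
      obtain ⟨j, rfl⟩ := hk
      have e : (⟨g⁻¹ * emb S E (tI l) ^ (2 * j) * g, hmem⟩ : (S : Subgroup G)) = 1 := Subtype.ext (by
        show g⁻¹ * emb S E (tI l) ^ (2 * j) * g = 1
        rw [pow_mul, show emb S E (tI l) ^ 2 = 1 by rw [← order_t S E]; exact pow_orderOf_eq_one _]
        simp)
      rw [e]; exact one_mem _)
    (fun g hmem ⟨p, hp, h⟩ => hnt p hp (isConj_iff.2 ⟨g, by
      rw [show emb S E p = g⁻¹ * emb S E (tI l) * g from congrArg Subtype.val h]; group⟩))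
  have hc : IsCyclic (G ⧸ M) := isCyclic_of_prime_card (p := 2) (hp := ⟨Nat.prime_two⟩) hM
  let e : G ⧸ M ≃* Multiplicative (ZMod 2) :=
    mulEquivOfCyclicCardEq (by rw [show Nat.card (G ⧸ M) = 2 from hM]; simp)
  have hUM : U0 S E ≤ M := fun x hx => by
    rw [← QuotientGroup.eq_one_iff, ← e.injective.eq_iff, map_one]
    exact U_kill S E hlm h₁ (K := ⊤) (fun _ _ => Subgroup.mem_top _) le_top
      ((e.toMonoidHom.comp (QuotientGroup.mk' M)).comp (⊤ : Subgroup G).subtype) x hx
  refine ⟨⟨M, hMn, hM, hUM, no_index_two S M fun φ x hx => ?_⟩, classes_zd S E hzd hdt⟩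
  obtain ⟨⟨a, b, e'⟩, ha⟩ := exists_emb S E hx
  cases e'
  · have hxU : (x : G) ∈ U0 S E := ha ▸ Subgroup.mem_map_of_mem _ (mem_AS.2 rfl)
    exact U_kill S E hlm h₁ (fun y hy => mem_of_odd_order (a := 1) hM hy) hUM φ x hxU
  · exfalso
    apply htM
    have h1 : emb S E ⟨a, b, false⟩ ∈ M := hUM (Subgroup.mem_map_of_mem _ (mem_AS.2 rfl))
    have h2 : emb S E ⟨a, b, true⟩ ∈ M := ha ▸ x.2
    have := mul_mem (inv_mem h1) h2
    rwa [← map_inv, ← map_mul, show (⟨a, b, false⟩ : WM l)⁻¹ * ⟨a, b, true⟩ = tI l by simp] at this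

end Cfsg.Agent.S1211
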