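import Cfsg.Statements.S1213
import Mathlib
import Cfsg.Agent.S1203
import Cfsg.Agent.S1205
import Cfsg.Agent.S1208
import Cfsg.Agent.S1210
import Cfsg.Agent.S1211
import Cfsg.Agent.Lib.QDWreathLift
-- import your own Cfsg.Agent.* helpers here

set_option autoImplicit false
open Cfsg

namespace Cfsg.Agent.S1213

open Cfsg.Agent.QDWreathBase Cfsg.Agent.TwoFusionTools

theorem eq_top_of_index_pow {G : Type*} [Group G] [Finite G] (hG : ∀ H : Subgroup G, H.index ≠ 2)
    {K : Subgroup G} [K.Normal] {a : ℕ} (hK : K.index = 2 ^ a) : K = ⊤ := by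
  have : Fact (Nat.Prime 2) := ⟨Nat.prime_two⟩
  have h1 : Cfsg.pResidual 2 G = ⊤ :=
    TransferPResidual.pResidual_eq_top_iff.2 fun N _ => hG N
  exact top_le_iff.1 (h1 ▸ TransferPResidual.pResidual_le_of_index hK)

theorem no_complement {G : Type*} [Group G] [Finite G] (hG : ∀ H : Subgroup G, H.index ≠ 2)
    (h2 : 2 ∣ Nat.card G) (h : Cfsg.HasNormalPComplement 2 G) : False := by
  have : Fact (Nat.Prime 2) := ⟨Nat.prime_two⟩
  rw [TransferPResidual.hasNormalPComplement_iff_not_dvd,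
    TransferPResidual.pResidual_eq_top_iff.2 (fun N _ => hG N), Subgroup.card_top] at h
  exact h h2

theorem index_subgroupOf {G : Type*} [Group G] {C H : Subgroup G} (hH : H ≤ C)
    (hN : Subgroup.normalizer (H : Set G) ≤ C) :
    (H.subgroupOf C ⊔ Subgroup.centralizer (H.subgroupOf C : Set C)).relIndex
      (Subgroup.normalizer (H.subgroupOf C : Set C)) =
      (H ⊔ Subgroup.centralizer (H : Set G)).relIndex (Subgroup.normalizer (H : Set G)) := by
  have hc : Subgroup.centralizer (H.subgroupOf C : Set C) = (Subgroup.centralizer (H : Set G)).subgroupOf C := by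
    ext x
    rw [Subgroup.mem_subgroupOf, Subgroup.mem_centralizer_iff, Subgroup.mem_centralizer_iff]
    exact ⟨fun h y hy => congrArg Subtype.val (h ⟨y, hH hy⟩ hy), fun h y hy => Subtype.ext (h y hy)⟩
  have hn : Subgroup.normalizer (H.subgroupOf C : Set C) = (Subgroup.normalizer (H : Set G)).subgroupOf C := by
    ext x
    rw [Subgroup.mem_subgroupOf, Subgroup.mem_normalizer_iff, Subgroup.mem_normalizer_iff]
    constructor
    · intro h y
      constructor
      · intro hy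
        exact (h ⟨y, hH hy⟩).1 hy
      · intro hy
        have hyC : y ∈ C := by
          have := mul_mem (mul_mem (inv_mem x.2) (hH hy)) x.2
          simpa [mul_assoc] using this
        exact (h ⟨y, hyC⟩).2 hy
    · exact fun h y => h y
  rw [hc, hn, ← Subgroup.subgroupOf_sup hH ((Subgroup.centralizer_le_normalizer _).trans hN),
    Subgroup.relIndex_subgroupOf hN]

section QD

open Cfsg.Agent.QDWreathQD Cfsg.Agent.QDWreathQDFour Cfsg.Agent.QDFusion Cfsg.Agent.QDFusionSub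
open Cfsg.Agent.QDWreathQDSub

variable {l : ℕ} [NeZero l]

/-- The standard four-group. -/
def qT (l : ℕ) [NeZero l] : Subgroup (QD l) where
  carrier := fourSet ⟨0, true⟩
  one_mem' := Or.inl rfl
  mul_mem' {a b} ha hb := by
    have c1 : C l * C l = 1 := by rw [← sq]; exact C_sq
    have y1 : (⟨0, true⟩ : QD l) * ⟨0, true⟩ = 1 := by simp [one_def]
    have yc : (⟨0, true⟩ : QD l) * C l = C l * ⟨0, true⟩ := C_central _
    have c2 : ∀ a, C l * (C l * a) = a := fun a => by rw [← mul_assoc, c1, one_mul]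
    have y2 : ∀ a, (⟨0, true⟩ : QD l) * ((⟨0, true⟩ : QD l) * a) = a := fun a => by
      rw [← mul_assoc, y1, one_mul]
    have yc2 : ∀ a, (⟨0, true⟩ : QD l) * (C l * a) = C l * ((⟨0, true⟩ : QD l) * a) := fun a => by
      rw [← mul_assoc, yc, mul_assoc]
    simp only [fourSet, Set.mem_insert_iff, Set.mem_singleton_iff] at ha hb ⊢
    rcases ha with rfl | rfl | rfl | rfl <;> rcases hb with rfl | rfl | rfl | rfl <;>
      simp only [one_mul, mul_one, mul_assoc, c1, y1, yc, c2, y2, yc2, true_or, or_true]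
  inv_mem' {a} ha := by
    have hy : (⟨0, true⟩ : QD l) ^ 2 = 1 := by simp [sq, one_def]
    have hcy : (C l * ⟨0, true⟩ : QD l) ^ 2 = 1 := by
      rw [(show Commute (C l) (⟨0, true⟩ : QD l) from (C_central _).symm).mul_pow, C_sq, hy, one_mul]
    simp only [fourSet, Set.mem_insert_iff, Set.mem_singleton_iff] at ha ⊢
    have key : ∀ {a : QD l}, a ^ 2 = 1 → a⁻¹ = a := fun h => inv_eq_of_mul_eq_one_left (by rw [← sq]; exact h)
    rcases ha with rfl | rfl | rfl | rfl
    · exact Or.inl inv_one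
    · exact Or.inr (Or.inl (key C_sq))
    · exact Or.inr (Or.inr (Or.inl (key hy)))
    · exact Or.inr (Or.inr (Or.inr (key hcy)))

theorem qT_four : IsKleinFour (qT l) := by
  classical
  have hne : (C l : QD l) ≠ ⟨0, true⟩ := fun h => Bool.noConfusion (congrArg QD.e h)
  have h1 : (C l * ⟨0, true⟩ : QD l) ≠ 1 := fun h => by simp [C, one_def] at h
  have h2 : (C l * ⟨0, true⟩ : QD l) ≠ C l := fun h => by simp [C] at h
  have h3 : (C l * ⟨0, true⟩ : QD l) ≠ ⟨0, true⟩ := fun h => C_ne_one (mul_eq_right.1 h)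
  have h4 : (⟨0, true⟩ : QD l) ≠ 1 := fun h => Bool.noConfusion (congrArg QD.e h)
  have hcard : Nat.card (qT l) = 4 := by
    rw [← SetLike.coe_sort_coe, Nat.card_coe_set_eq,
      show ((qT l : Subgroup (QD l)) : Set (QD l)) = ↑({1, C l, ⟨0, true⟩, C l * ⟨0, true⟩} : Finset (QD l)) by
        simp [qT, fourSet], Set.ncard_coe_finset]
    rw [Finset.card_insert_of_notMem, Finset.card_insert_of_notMem, Finset.card_pair h3.symm]
    · simp [hne, h2.symm]
    · simp [C_ne_one.symm, h4.symm, h1.symm]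
  refine ⟨hcard, ?_⟩
  have : Nontrivial (qT l) := Finite.one_lt_card_iff_nontrivial.1 (by omega)
  rw [Monoid.exponent_eq_prime_iff Nat.prime_two]
  rintro ⟨a, ha⟩ ha1
  rw [← Subgroup.orderOf_coe]
  refine orderOf_eq_prime ?_ (fun h => ha1 (Subtype.ext h))
  rw [sq_one_iff]
  rcases ha with h | h | h | h
  · exact Or.inl h
  · exact Or.inr (Or.inl h)
  · exact Or.inr (Or.inr ⟨0, show a = _ from h.trans (by rw [mul_zero])⟩)
  · exact Or.inr (Or.inr ⟨2 * (l : ZMod (8 * l)), show a = _ from h.trans (by rw [C, mk_mul_false]; congr 1; ring)⟩)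

/-- Multiplication by `2 l` on `ZMod 4`. -/
def m2 (l : ℕ) : ZMod (2 * 2) →+ ZMod (8 * l) :=
  ZMod.lift (2 * 2) ⟨zmultiplesHom (ZMod (8 * l)) (2 * (l : ZMod (8 * l))), by
    simp only [zmultiplesHom_apply, zsmul_eq_mul]
    push_cast
    linear_combination eight_l (l := l)⟩

theorem m2_nat (a : ℕ) : m2 l (a : ZMod (2 * 2)) = (a : ZMod (8 * l)) * (2 * (l : ZMod (8 * l))) := by
  rw [show ((a : ZMod (2 * 2))) = ((a : ℤ) : ZMod (2 * 2)) from (Int.cast_natCast a).symm, m2, ZMod.lift_coe]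
  simp

theorem m2_k (i : ZMod (2 * 2)) : k l * m2 l i = -m2 l i := by
  rw [← ZMod.natCast_zmod_val i, m2_nat,
    show ((i.val : ZMod (8 * l)) * (2 * (l : ZMod (8 * l)))) = 2 * ((i.val : ZMod (8 * l)) * (l : ZMod (8 * l))) by ring,
    k_mul_even]

theorem m2_inj : Function.Injective (m2 l) := by
  rw [injective_iff_map_eq_zero]
  intro i hi
  rw [← ZMod.natCast_zmod_val i, m2_nat] at hi
  have hlt : i.val < 4 := ZMod.val_lt i
  rw [← ZMod.natCast_zmod_val i]
  interval_cases i.val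
  · rfl
  · exact absurd (by linear_combination hi) (two_l_ne (l := l))
  · exact absurd (by linear_combination hi) (four_l_ne (l := l))
  · exact absurd (by linear_combination -hi + eight_l (l := l)) (two_l_ne (l := l))

/-- The standard quaternion subgroup. -/
noncomputable def qQ (l : ℕ) [NeZero l] : QuaternionGroup 2 →* QD l :=
  MonoidHom.mk' (fun g => match g with
    | .a i => ⟨m2 l i, false⟩
    | .xa i => ⟨1 - m2 l i, true⟩) (by
    have hn : m2 l ((2 : ℕ) : ZMod (2 * 2)) = 4 * (l : ZMod (8 * l)) := by rw [m2_nat]; push_cast; ring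
    rintro (i | i) (j | j)
    all_goals simp only [QuaternionGroup.a_mul_a, QuaternionGroup.a_mul_xa, QuaternionGroup.xa_mul_a,
      QuaternionGroup.xa_mul_xa, mk_mul_false, mk_mul_true, Bool.not_true, Bool.not_false,
      map_add, map_sub, mul_sub, mul_one, m2_k, hn]
    all_goals congr 1
    all_goals (try unfold k)
    all_goals ring)

theorem qQ_inj : Function.Injective (qQ l) := by
  rintro (i | i) (j | j) h <;> simp only [qQ, MonoidHom.mk'_apply, QD.ext_iff] at h
  · rw [m2_inj h.1]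
  · exact absurd h.2 (by simp)
  · exact absurd h.2 (by simp)
  · rw [m2_inj (sub_right_injective h.1)]

variable {G : Type*} [Group G] [Finite G] (S : Sylow 2 G) (E : QD l ≃* (S : Subgroup G))

include E in
theorem isQD (hS : Cfsg.IsQuasiDihedral (S : Subgroup G)) (hG : ∀ H : Subgroup G, H.index ≠ 2) :
    (∀ x : G, orderOf x = 2 → IsConj (emb S E (C l)) x) ∧
    ∀ Q : Subgroup G, Q ≤ S → (Q ≃* QuaternionGroup 2) →
      (Q ⊔ Subgroup.centralizer (Q : Set G)).relIndex (Subgroup.normalizer (Q : Set G)) = 6 := by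
  have hQ0 : ∃ (Q : Subgroup G) (_ : Q ≤ S), Nonempty (Q ≃* QuaternionGroup 2) :=
    ⟨((emb S E).comp (qQ l)).range, by rintro _ ⟨r, rfl⟩; exact emb_mem S E _,
      ⟨(MonoidHom.ofInjective (f := (emb S E).comp (qQ l)) ((emb_injective S E).comp qQ_inj)).symm⟩⟩
  obtain ⟨Q₀, hQ₀S, ⟨e₀⟩⟩ := hQ0
  have := qT_four (l := l)
  have eT := Subgroup.equivMapOfInjective (qT l) (emb S E) (emb_injective S E)
  have hT : IsKleinFour ((qT l).map (emb S E)) :=
    ⟨(Nat.card_congr eT.symm.toEquiv).trans qT_four.card_four,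
      (Monoid.exponent_eq_of_mulEquiv eT.symm).trans qT_four.exponent_two⟩
  have hTS : (qT l).map (emb S E) ≤ S := by rintro _ ⟨p, -, rfl⟩; exact emb_mem S E p
  have h3 := fun Q hQS eQ => Cfsg.Agent.S1203.result S hS _ hT hTS Q hQS eQ
  have hT6 := ((h3 Q₀ hQ₀S e₀).1).resolve_left (fun h => by
    obtain ⟨M, -, hM, -⟩ := exists_index_two_t S E (T_two S E hT hTS h)
    exact hG M hM)
  refine ⟨fun x hx => ?_, fun Q hQS eQ => ((h3 Q hQS eQ).2).resolve_left (fun h => by
    obtain ⟨M, -, hM, -⟩ := exists_index_two_b S E (Q_two S E hQS eQ h)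
    exact hG M hM)⟩
  rcases inv_conj S E hx with h | h
  · exact h
  · exact (T_six S E hT hTS hT6).trans h

theorem qd_main (hS : Cfsg.IsQuasiDihedral (S : Subgroup G)) (hG : ∀ H : Subgroup G, H.index ≠ 2)
    {x : G} (hx : x = emb S E (C l)) :
    ∃ R : Sylow 2 ↥(Subgroup.centralizer ({x} : Set G)), Nat.card R = Nat.card S ∧ (∃ K : Subgroup ↥(Subgroup.centralizer ({x} : Set G)), K.Normal ∧ (∃ a : ℕ, K.index = 2 ^ a) ∧ (∀ H : Subgroup ↥K, H.index ≠ 2) ∧ (∀ P : Sylow 2 ↥K, ∃ m : ℕ, 1 ≤ m ∧ Nonempty ((P : Subgroup ↥K) ≃* QuaternionGroup (2 ^ m)))) ∧ (∀ Z₀ : Subgroup ↥(Subgroup.centralizer ({x} : Set G)), Z₀ ≤ ((Subgroup.center (R : Subgroup ↥(Subgroup.centralizer ({x} : Set G)))).map (R : Subgroup ↥(Subgroup.centralizer ({x} : Set G))).subtype) → Cfsg.IsWeaklyClosed Z₀ (R : Subgroup ↥(Subgroup.centralizer ({x} : Set G)))) := by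
  subst hx
  set C' := Subgroup.centralizer ({emb S E (C l)} : Set G) with hC'
  have hSC : (S : Subgroup G) ≤ C' := by
    intro y hy
    obtain ⟨p, rfl⟩ := exists_emb S E hy
    rw [hC', Subgroup.mem_centralizer_singleton_iff, ← map_mul, ← map_mul, C_central]
  let R : Sylow 2 C' := S.subtype hSC
  let eR : (R : Subgroup C') ≃* (S : Subgroup G) := Subgroup.subgroupOfEquivOfLe hSC
  obtain ⟨n, hn, hc, x₀, y₀, h1, h2, h3⟩ := hS
  have hRQ : Cfsg.IsQuasiDihedral (R : Subgroup C') :=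
    ⟨n, hn, (Nat.card_congr eR.toEquiv).trans hc, eR.symm x₀, eR.symm y₀,
      (MulEquiv.orderOf_eq _ _).trans h1, (MulEquiv.orderOf_eq _ _).trans h2, by
        rw [← map_inv, ← map_mul, ← map_mul, h3, map_pow]⟩
  have hS' : Cfsg.IsQuasiDihedral (S : Subgroup G) := ⟨n, hn, hc, x₀, y₀, h1, h2, h3⟩
  let ER : QD l ≃* (R : Subgroup C') := E.trans eR.symm
  have hER : ∀ p, ((emb R ER p : C') : G) = emb S E p := fun p => rfl
  -- the four-group
  have := qT_four (l := l)
  have eT := Subgroup.equivMapOfInjective (qT l) (emb R ER) (emb_injective R ER)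
  have hT : IsKleinFour ((qT l).map (emb R ER)) :=
    ⟨(Nat.card_congr eT.symm.toEquiv).trans qT_four.card_four,
      (Monoid.exponent_eq_of_mulEquiv eT.symm).trans qT_four.exponent_two⟩
  have hTR : (qT l).map (emb R ER) ≤ R := by rintro _ ⟨p, -, rfl⟩; exact emb_mem R ER p
  -- the quaternion group
  set Q : Subgroup G := ((emb S E).comp (qQ l)).range with hQ
  have eQ : Q ≃* QuaternionGroup 2 := (MonoidHom.ofInjective (f := (emb S E).comp (qQ l)) ((emb_injective S E).comp qQ_inj)).symm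
  have hQS : Q ≤ S := by rintro _ ⟨r, rfl⟩; exact emb_mem S E _
  obtain ⟨t, ht⟩ := quat_data S E hQS eQ
  have hNC : Subgroup.normalizer (Q : Set G) ≤ C' := by
    intro y hy
    have hCQ : emb S E (C l) ∈ Q := (ht _).2 ⟨C l, by rw [C_eq, I, mk_mul_false]; exact ⟨2, Or.inl (by congr 1; ring)⟩, rfl⟩
    obtain ⟨a, ha, hae⟩ := (ht _).1 ((Subgroup.mem_normalizer_iff.1 hy _).1 hCQ)
    have ho : orderOf a = 2 := by
      rw [← orderOf_injective _ (emb_injective S E) a, hae,
        show y * emb S E (C l) * y⁻¹ = MulAut.conj y (emb S E (C l)) from rfl, MulEquiv.orderOf_eq,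
        orderOf_injective _ (emb_injective S E), order_C]
    have hac : a = C l := by
      rw [orderOf_eq_prime_iff] at ho
      rcases sq_one_iff.1 ho.1 with h | h | ⟨u, h⟩
      · exact absurd h ho.2
      · exact h
      · exfalso
        obtain ⟨s, hs | hs⟩ := ha <;> rw [h] at hs
        · exact Bool.noConfusion (congrArg QD.e hs)
        · have := congrArg QD.i hs
          simp only at this
          exact two_mul_ne_one (show 2 ∣ 8 * l from Dvd.intro (4 * l) (by ring))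
            (u - (l : ZMod (8 * l)) * s - t) (by linear_combination this)
    rw [hac] at hae
    rw [hC', Subgroup.mem_centralizer_singleton_iff]
    exact mul_inv_eq_iff_eq_mul.1 hae.symm
  have hQC : Q ≤ C' := hQS.trans hSC
  have eQ' : Q.subgroupOf C' ≃* QuaternionGroup 2 := (Subgroup.subgroupOfEquivOfLe hQC).trans eQ
  have hQR : Q.subgroupOf C' ≤ R := fun y hy => hQS hy
  have hQ6 : (Q.subgroupOf C' ⊔ Subgroup.centralizer (Q.subgroupOf C' : Set C')).relIndex
      (Subgroup.normalizer (Q.subgroupOf C' : Set C')) = 6 := by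
    rw [index_subgroupOf hQC hNC]
    exact (isQD S E hS' hG).2 Q hQS eQ
  have hT2 := ((Cfsg.Agent.S1203.result R hRQ _ hT hTR _ hQR eQ').1).resolve_right (fun h => by
    obtain ⟨g, hg⟩ := isConj_iff.1 (T_six R ER hT hTR h)
    have hz : g * emb R ER (C l) * g⁻¹ = emb R ER (C l) := by
      rw [mul_inv_eq_iff_eq_mul]
      exact Subtype.ext (Subgroup.mem_centralizer_singleton_iff.1 g.2)
    exact Bool.noConfusion (congrArg QD.e (emb_injective R ER (hz.symm.trans hg))))
  obtain ⟨⟨K, hKn, hK, hKP, hK2⟩, hw, -, -⟩ :=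
    Cfsg.Agent.S1205.result R hRQ _ hT hTR _ hQR eQ' hT2 hQ6
  refine ⟨R, Nat.card_congr eR.toEquiv, ⟨K, hKn, ⟨1, by rw [hK, pow_one]⟩, hK2, hKP⟩, fun Z₀ hZ₀ => ?_⟩
  refine ⟨hZ₀.trans hw.1, fun g hle => ?_⟩
  have hgz : ∀ z ∈ (Subgroup.center (R : Subgroup C')).map (R : Subgroup C').subtype, g * z * g⁻¹ = z := by
    rintro _ ⟨⟨z, hzR⟩, hz, rfl⟩
    obtain ⟨p, hp⟩ := exists_emb R ER hzR
    have h0 : p * ⟨0, true⟩ = (⟨0, true⟩ : QD l) * p := ER.injective (by
      have : ER p = ⟨z, hzR⟩ := Subtype.ext hp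
      rw [map_mul, map_mul, this]
      exact (Subgroup.mem_center_iff.1 hz _).symm)
    have h1' : p * ⟨1, true⟩ = (⟨1, true⟩ : QD l) * p := ER.injective (by
      have : ER p = ⟨z, hzR⟩ := Subtype.ext hp
      rw [map_mul, map_mul, this]
      exact (Subgroup.mem_center_iff.1 hz _).symm)
    show g * z * g⁻¹ = z
    rw [← hp]
    rcases commute_true_iff.1 h0 with rfl | rfl | rfl | rfl
    · rw [map_one, mul_one, mul_inv_cancel]
    · rw [mul_inv_eq_iff_eq_mul]
      exact Subtype.ext (Subgroup.mem_centralizer_singleton_iff.1 g.2)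
    all_goals exfalso
    · simp only [mk_mul_true, Bool.not_true, QD.ext_iff] at h1'
      exact four_l_ne (l := l) (by
        unfold k at h1'
        linear_combination (-(2 * (l : ZMod (8 * l)))) * h1'.1 + (l : ZMod (8 * l)) * eight_l (l := l))
    · simp only [C, mk_mul_false, mk_mul_true, Bool.not_true, QD.ext_iff] at h1'
      exact four_l_ne (l := l) (by
        unfold k at h1'
        linear_combination (-(2 * (l : ZMod (8 * l)))) * h1'.1 +
          (l : ZMod (8 * l)) * (3 - 4 * (l : ZMod (8 * l))) * eight_l (l := l))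
  ext y
  constructor
  · rintro ⟨z, hz, rfl⟩
    simp only [MulEquiv.coe_toMonoidHom, MulAut.conj_apply, hgz z (hZ₀ hz)]
    exact hz
  · intro hy
    exact ⟨y, hy, by simp [hgz y (hZ₀ hy)]⟩

end QD

section Wr

open Cfsg.Agent.QDWreathWr Cfsg.Agent.QDWreathWrSub Cfsg.Agent.QDWreathWrAut Cfsg.Agent.QDWreathWrQZ
open Cfsg.Agent.QDWreathWrLocal Cfsg.Agent.WrFusion Cfsg.Agent.WrFusionSub

variable {l : ℕ} [NeZero l] {G : Type*} [Group G] [Finite G] (S : Sylow 2 G) (E : WM l ≃* (S : Subgroup G))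

theorem wr_data (hS : Cfsg.IsWreathed (S : Subgroup G)) :
    ∃ n, 2 ≤ n ∧ Nat.card S = 2 ^ (2 * n + 1) ∧ Nat.card (U0 S E) = 2 ^ (2 * n) ∧ ∃ m, l = 2 ^ m := by
  obtain ⟨n, hn, hc, l', hl0, hl', ⟨E'⟩⟩ := exists_equiv hS
  have hll : l = l' := by
    have h1 := card_S S E
    rw [← Nat.card_congr E'.toEquiv, card_eq] at h1
    exact (Nat.pow_left_injective two_ne_zero (Nat.eq_of_mul_eq_mul_left (by norm_num) h1)).symm
  refine ⟨n, hn, hc, ?_, ⟨_, hll.trans hl'⟩⟩
  rw [U0_card S E, hll, hl', ← pow_mul]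
  obtain ⟨c, rfl⟩ : ∃ c, n = c + 2 := ⟨n - 2, by omega⟩
  rw [show c + 2 - 2 = c by omega, show 2 * (c + 2) = c * 2 + 4 by ring, pow_add]
  ring

include E in
theorem isWr (hS : Cfsg.IsWreathed (S : Subgroup G)) (hG : ∀ H : Subgroup G, H.index ≠ 2) :
    (∀ x : G, orderOf x = 2 → IsConj (emb S E (zI l)) x) ∧
    ∀ Q : Subgroup G, Q ≤ S → (Q ≃* QuaternionGroup 2) →
      ((Q ⊔ (Subgroup.center (S : Subgroup G)).map (S : Subgroup G).subtype) ⊔
        Subgroup.centralizer ((Q ⊔ (Subgroup.center (S : Subgroup G)).map (S : Subgroup G).subtype : Subgroup G) : Set G)).relIndex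
          (Subgroup.normalizer ((Q ⊔ (Subgroup.center (S : Subgroup G)).map (S : Subgroup G).subtype : Subgroup G) : Set G)) = 6 := by
  obtain ⟨n, hn, hc, hU, hl⟩ := wr_data S E hS
  have hUab : IsMulCommutative (U0 S E) := ⟨⟨fun a b => Subtype.ext (U0_comm S E a.2 b.2)⟩⟩
  have main : ∀ Q : Subgroup G, Q ≤ S → (Q ≃* QuaternionGroup 2) → (Subgroup.centralizer (U0 S E : Set G)).relIndex
      (Subgroup.normalizer (U0 S E : Set G)) = 6 ∧
      ((Q ⊔ (Subgroup.center (S : Subgroup G)).map (S : Subgroup G).subtype) ⊔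
        Subgroup.centralizer ((Q ⊔ (Subgroup.center (S : Subgroup G)).map (S : Subgroup G).subtype : Subgroup G) : Set G)).relIndex
          (Subgroup.normalizer ((Q ⊔ (Subgroup.center (S : Subgroup G)).map (S : Subgroup G).subtype : Subgroup G) : Set G)) = 6 := by
    intro Q hQS eQ
    obtain ⟨hU', hV'⟩ := Cfsg.Agent.S1208.result S hS n hc (U0 S E) (U0_le S E) hUab hU Q hQS eQ
    rcases hU' with hU2 | hU6 <;> rcases hV' with hV2 | hV6
    · exfalso
      obtain ⟨g₀, hg₀⟩ := standard_V S E hQS eQ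
      rw [hg₀, supC_index_conj] at hV2
      refine no_complement hG ?_ (complement S E hl hU2 hV2)
      refine dvd_trans ?_ (Subgroup.card_subgroup_dvd_card (S : Subgroup G))
      rw [hc]; exact dvd_pow_self 2 (by omega)
    · exfalso
      obtain ⟨⟨K, hKn, hK, -, -⟩, -, -⟩ :=
        Cfsg.Agent.S1210.result S hS n hc (U0 S E) (U0_le S E) hUab hU Q hQS eQ hU2 hV6
      rw [eq_top_of_index_pow hG hK, Subgroup.index_top, eq_comm, Nat.pow_eq_one] at hK
      omega
    · exfalso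
      obtain ⟨⟨K, hKn, hK, -, -⟩, -⟩ :=
        Cfsg.Agent.S1211.result S hS n hc (U0 S E) (U0_le S E) hUab hU Q hQS eQ hU6 hV2
      exact hG K hK
    · exact ⟨hU6, hV6⟩
  refine ⟨fun x hx => ?_, fun Q hQS eQ => (main Q hQS eQ).2⟩
  have hQ0 : ((emb S E).comp (q8Hom l)).range ≤ (S : Subgroup G) := by rintro _ ⟨r, rfl⟩; exact emb_mem S E _
  have e0 := (MonoidHom.ofInjective (f := (emb S E).comp (q8Hom l)) ((emb_injective S E).comp q8Hom_injective)).symm
  obtain ⟨hU6, hV6⟩ := main _ hQ0 e0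
  obtain ⟨g₀, hg₀⟩ := standard_V S E hQ0 e0
  rw [hg₀, supC_index_conj] at hV6
  have hzd := U_six_fused S E hl hU6
  rcases inv_conj S E hx with h | h | h
  · exact h
  · exact hzd.trans h
  · exact (hzd.trans (V_six_fused S E hl hV6)).trans h

theorem wr_main (hS : Cfsg.IsWreathed (S : Subgroup G)) (hG : ∀ H : Subgroup G, H.index ≠ 2)
    {x : G} (hx : x = emb S E (zI l)) :
    ∃ R : Sylow 2 ↥(Subgroup.centralizer ({x} : Set G)), Nat.card R = Nat.card S ∧ (∃ K : Subgroup ↥(Subgroup.centralizer ({x} : Set G)), K.Normal ∧ (∃ a : ℕ, K.index = 2 ^ a) ∧ (∀ H : Subgroup ↥K, H.index ≠ 2) ∧ (∀ P : Sylow 2 ↥K, ∃ m : ℕ, 1 ≤ m ∧ Nonempty ((P : Subgroup ↥K) ≃* QuaternionGroup (2 ^ m)))) ∧ (∀ Z₀ : Subgroup ↥(Subgroup.centralizer ({x} : Set G)), Z₀ ≤ ((Subgroup.center (R : Subgroup ↥(Subgroup.centralizer ({x} : Set G)))).map (R : Subgroup ↥(Subgroup.centralizer ({x} : Set G))).subtype) → Cfsg.IsWeaklyClosed Z₀ (R : Subgroup ↥(Subgroup.centralizer ({x} : Set G))))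 := by
  subst hx
  set C' := Subgroup.centralizer ({emb S E (zI l)} : Set G) with hC'
  have hSC : (S : Subgroup G) ≤ C' := by
    intro y hy
    obtain ⟨p, rfl⟩ := exists_emb S E hy
    rw [hC', Subgroup.mem_centralizer_singleton_iff, ← map_mul, ← map_mul, zc_mul_comm]
  let R : Sylow 2 C' := S.subtype hSC
  let eR : (R : Subgroup C') ≃* (S : Subgroup G) := Subgroup.subgroupOfEquivOfLe hSC
  let ER : WM l ≃* (R : Subgroup C') := E.trans eR.symm
  have hER : ∀ p, ((emb R ER p : C') : G) = emb S E p := fun p => rfl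
  obtain ⟨n, hn, hc, hU, m, hm⟩ := wr_data S E hS
  obtain ⟨n₁, hn₁, hc₁, x₀, y₀, z₀, h1, h2, h3, h4, h5⟩ := hS
  have hS' : Cfsg.IsWreathed (S : Subgroup G) := ⟨n₁, hn₁, hc₁, x₀, y₀, z₀, h1, h2, h3, h4, h5⟩
  have hRW : Cfsg.IsWreathed (R : Subgroup C') :=
    QDWreathLift.isWreathed_of_mulEquiv hm ER
  have hcR : Nat.card R = 2 ^ (2 * n + 1) := (Nat.card_congr eR.toEquiv).trans hc
  set Q : Subgroup G := ((emb S E).comp (q8Hom l)).range with hQ
  have eQ : Q ≃* QuaternionGroup 2 := (MonoidHom.ofInjective (f := (emb S E).comp (q8Hom l)) ((emb_injective S E).comp q8Hom_injective)).symm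
  have hQS : Q ≤ S := by rintro _ ⟨r, rfl⟩; exact emb_mem S E _
  have hQC : Q ≤ C' := hQS.trans hSC
  have hQR : Q.subgroupOf C' ≤ R := fun y hy => hQS hy
  have eQ' : Q.subgroupOf C' ≃* QuaternionGroup 2 := (Subgroup.subgroupOfEquivOfLe hQC).trans eQ
  have hUab : IsMulCommutative (U0 R ER) := ⟨⟨fun a b => Subtype.ext (U0_comm R ER a.2 b.2)⟩⟩
  have hUc : Nat.card (U0 R ER) = 2 ^ (2 * n) := by rw [U0_card R ER, ← U0_card S E]; exact hU
  set Zs := (Subgroup.center (S : Subgroup G)).map (S : Subgroup G).subtype with hZs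
  set Zr := (Subgroup.center (R : Subgroup C')).map (R : Subgroup C').subtype with hZr
  have hV0 : Q ⊔ Zs = V0 S E := by
    rw [hQ, hZs, center_map S E, V0, QZ_eq, Subgroup.map_sup, MonoidHom.map_range]
  have hV0C : V0 S E ≤ C' := (V0_le S E).trans hSC
  have hVR : Q.subgroupOf C' ⊔ Zr = (V0 S E).subgroupOf C' := by
    rw [← hV0, Subgroup.subgroupOf_sup hQC (le_sup_right.trans (hV0.le.trans hV0C))]
    congr 1
    rw [hZr, center_map R ER, hZs, center_map S E]
    ext y
    rw [Subgroup.mem_subgroupOf]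
    constructor
    · rintro ⟨p, hp, rfl⟩; exact ⟨p, hp, (hER p).symm⟩
    · rintro ⟨p, hp, hpe⟩; exact ⟨p, hp, Subtype.ext ((hER p).trans hpe)⟩
  have hNC : Subgroup.normalizer (V0 S E : Set G) ≤ C' := by
    intro y hy
    obtain ⟨a, ha⟩ := V0_center_conj S E hy (hh l)
    have ho : orderOf (emb S E (zc a)) = 2 := by
      rw [← ha, show y * emb S E (zc (hh l)) * y⁻¹ = MulAut.conj y (emb S E (zI l)) from rfl,
        MulEquiv.orderOf_eq, order_z S E]
    have haz : emb S E (zc a) = emb S E (zI l) := by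
      rcases inv_cases S E (emb_mem S E _) ho with h | h | h | ⟨u, h⟩
      · exact h
      all_goals
        exfalso
        have h' := emb_injective S E h
        simp only [zc, WM.ext_iff] at h'
      · exact hh_ne (h'.1.symm.trans h'.2.1)
      · exact hh_ne (h'.2.1.symm.trans h'.1)
      · exact Bool.noConfusion h'.2.2
    rw [hC', Subgroup.mem_centralizer_singleton_iff]
    exact mul_inv_eq_iff_eq_mul.1 (ha.trans haz)
  have hV6 : ((Q.subgroupOf C' ⊔ Zr) ⊔ Subgroup.centralizer ((Q.subgroupOf C' ⊔ Zr : Subgroup C') : Set C')).relIndex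
      (Subgroup.normalizer ((Q.subgroupOf C' ⊔ Zr : Subgroup C') : Set C')) = 6 := by
    rw [hVR, index_subgroupOf hV0C hNC, ← hV0]
    exact (isWr S E hS' hG).2 Q hQS eQ
  have hU2 := ((Cfsg.Agent.S1208.result R hRW n hcR (U0 R ER) (U0_le R ER) hUab hUc _ hQR eQ').1).resolve_right
    (fun h => by
      obtain ⟨g, hg⟩ := isConj_iff.1 (U_six_fused R ER ⟨m, hm⟩ h)
      have hz : g * emb R ER (zI l) * g⁻¹ = emb R ER (zI l) := by
        rw [mul_inv_eq_iff_eq_mul]
        exact Subtype.ext (Subgroup.mem_centralizer_singleton_iff.1 g.2)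
      exact hh_ne (congrArg WM.b (emb_injective R ER (hz.symm.trans hg))))
  obtain ⟨⟨K, hKn, hK, hKP, hK2⟩, hw, -⟩ :=
    Cfsg.Agent.S1210.result R hRW n hcR (U0 R ER) (U0_le R ER) hUab hUc _ hQR eQ' hU2 hV6
  exact ⟨R, Nat.card_congr eR.toEquiv, ⟨K, hKn, ⟨n, hK⟩, hK2, hKP⟩, hw⟩

end Wr

theorem exists_sylow_equiv {G : Type*} [Group G] (S : Sylow 2 G) (g : G) :
    ∃ f : (S : Subgroup G) ≃* ((g • S : Sylow 2 G) : Subgroup G), ∀ y, ((f y : _) : G) = g * y * g⁻¹ :=
  ⟨Subgroup.equivSMul (MulAut.conj g) (S : Subgroup G), fun _ => rfl⟩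


/-- Let G be a finite group with quasi-dihedral or wreathed Sylow 2-subgroups and no subgroup of index 2, and let x be an involution with centralizer C. Then C has a Sylow 2-subgroup R which is a Sylow 2-subgroup of G; C has a normal subgroup K of index a power of 2 which has no subgroup of index 2 and whose Sylow 2-subgroups are generalized quaternion; and every subgroup of the centre of R is weakly closed in R with respect to C. -/
theorem result {G : Type*} [Group G] [Finite G] (S : Sylow 2 G) (hS : Cfsg.IsQuasiDihedral (S : Subgroup G) ∨ Cfsg.IsWreathed (S : Subgroup G)) (hG : ∀ H : Subgroup G, H.index ≠ 2) (x : G) (hx : orderOf x = 2) : ∃ R : Sylow 2 ↥(Subgroup.centralizer ({x} : Set G)), Nat.card R = Nat.card S ∧ (∃ K : Subgroup ↥(Subgroup.centralizer ({x} : Set G)), K.Normal ∧ (∃ a : ℕ, K.index = 2 ^ a) ∧ (∀ H : Subgroup ↥K, H.index ≠ 2) ∧ (∀ P : Sylow 2 ↥K, ∃ m : ℕ, 1 ≤ m ∧ Nonempty ((P : Subgroup ↥K) ≃* QuaternionGroup (2 ^ m)))) ∧ (∀ Z₀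 : Subgroup ↥(Subgroup.centralizer ({x} : Set G)), Z₀ ≤ ((Subgroup.center (R : Subgroup ↥(Subgroup.centralizer ({x} : Set G)))).map (R : Subgroup ↥(Subgroup.centralizer ({x} : Set G))).subtype) → Cfsg.IsWeaklyClosed Z₀ (R : Subgroup ↥(Subgroup.centralizer ({x} : Set G)))) := by
  rcases hS with hS | hS
  · obtain ⟨n, hn, hcard, l, hl0, hl, ⟨E⟩⟩ := QDWreathQD.exists_equiv hS
    obtain ⟨g, hg⟩ := isConj_iff.1 ((isQD S E hS hG).1 x hx)
    obtain ⟨f, hf⟩ := exists_sylow_equiv S g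
    obtain ⟨R, hR, hrest⟩ := qd_main (g • S) (E.trans f)
      (QDWreathLift.isQuasiDihedral_of_mulEquiv hl (E.trans f)) hG (x := x)
      (by rw [← hg]; exact (hf _).symm)
    exact ⟨R, hR.trans (Nat.card_congr f.symm.toEquiv), hrest⟩
  · obtain ⟨n, hn, hcard, l, hl0, hl, ⟨E⟩⟩ := QDWreathWr.exists_equiv hS
    obtain ⟨g, hg⟩ := isConj_iff.1 ((isWr S E hS hG).1 x hx)
    obtain ⟨f, hf⟩ := exists_sylow_equiv S g
    obtain ⟨R, hR, hrest⟩ := wr_main (g • S) (E.trans f)
      (QDWreathLift.isWreathed_of_mulEquiv hl (E.trans f)) hG (x := x)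
      (by rw [← hg]; exact (hf _).symm)
    exact ⟨R, hR.trans (Nat.card_congr f.symm.toEquiv), hrest⟩

end Cfsg.Agent.S1213
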