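import Cfsg.Statements.S1214
import Mathlib
import Cfsg.Agent.S1213
import Cfsg.Agent.Lib.MinNormalFactors
import Cfsg.Agent.Lib.HallCore

set_option autoImplicit false
open Cfsg

namespace Cfsg.Agent.S1214

open Cfsg.Agent

theorem oc {G : Type*} [Group G] (g t : G) : orderOf (g * t * g⁻¹) = orderOf t :=
  (MulAut.conj g).orderOf_eq t

theorem qd_gens {S : Type*} [Group S] [Finite S] (h : Cfsg.IsQuasiDihedral S) :
    ∃ x z : S, orderOf z = 2 ∧ Subgroup.closure {x, z} = ⊤ ∧
      z * (x * z * x⁻¹) ≠ x * z * x⁻¹ * z := by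
  obtain ⟨n, hn, hc, x, y, hx, hy, hyx⟩ := h
  have h1 : 2 ^ n = 2 * 2 ^ (n - 1) := by rw [← pow_succ']; congr 1; omega
  have h4 : 4 ≤ 2 ^ (n - 1) := le_trans (by norm_num) (Nat.pow_le_pow_right (n := 2) (by norm_num) (show 2 ≤ n - 1 by omega))
  refine ⟨x, y, hy, ?_, ?_⟩
  · set H := Subgroup.closure ({x, y} : Set S)
    have hxH : x ∈ H := Subgroup.subset_closure (by simp)
    have hyH : y ∈ H := Subgroup.subset_closure (by simp)
    have hlt : 2 ^ n < Nat.card H := by
      rw [← hx, ← Nat.card_zpowers]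
      refine lt_of_le_of_ne (Subgroup.card_le_of_le (Subgroup.zpowers_le.2 hxH)) fun e => ?_
      have heq := Subgroup.eq_of_le_of_card_ge (Subgroup.zpowers_le.2 hxH) e.ge
      obtain ⟨i, hi⟩ := Subgroup.mem_zpowers_iff.1 (heq.ge hyH)
      have : y * x * y⁻¹ = x := by rw [← hi, ((Commute.refl x).zpow_left i).eq, mul_inv_cancel_right]
      rw [hyx] at this
      have h3 : x ^ (2 ^ (n - 1) - 2) = 1 := by
        rw [show 2 ^ (n - 1) - 1 = (2 ^ (n - 1) - 2) + 1 by omega, pow_succ] at this
        exact mul_eq_right.1 this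
      have := Nat.le_of_dvd (by omega) (orderOf_dvd_of_pow_eq_one h3)
      omega
    have hm := H.index_mul_card
    rw [hc, pow_succ'] at hm
    have : H.index = 1 := by
      rcases Nat.lt_or_ge H.index 2 with h | h
      · have := H.index_ne_zero_of_finite; omega
      · have := Nat.mul_le_mul_right (Nat.card H) h; omega
    exact Subgroup.index_eq_one.1 this
  · intro hcm
    have hyy : y * y = 1 := by rw [← sq, ← hy, pow_orderOf_eq_one]
    have hyi : y⁻¹ = y := inv_eq_of_mul_eq_one_left hyy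
    have e : x * y * x⁻¹ * y = x * (x ^ (2 ^ (n - 1) - 1))⁻¹ := by
      rw [← hyx]; simp only [mul_inv_rev, inv_inv, hyi]; group
    have hsq : (x * y * x⁻¹ * y) ^ 2 = 1 := by
      have hw : (x * y * x⁻¹) * (x * y * x⁻¹) = 1 := by
        rw [show (x * y * x⁻¹) * (x * y * x⁻¹) = x * (y * y) * x⁻¹ by group, hyy]; group
      rw [(show Commute (x * y * x⁻¹) y from hcm.symm).mul_pow, sq, sq, hw, hyy, one_mul]
    rw [e, (Commute.inv_right ((Commute.refl x).pow_right _)).mul_pow, inv_pow, mul_inv_eq_one,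
      ← pow_mul] at hsq
    have h3 : x ^ ((2 ^ (n - 1) - 1) * 2 - 2) = 1 := by
      have e2 : (2 ^ (n - 1) - 1) * 2 = ((2 ^ (n - 1) - 1) * 2 - 2) + 2 := by omega
      rw [e2, pow_add] at hsq
      exact mul_eq_right.1 hsq.symm
    have := Nat.le_of_dvd (by omega) (orderOf_dvd_of_pow_eq_one h3)
    omega

theorem wr_gens {S : Type*} [Group S] [Finite S] (h : Cfsg.IsWreathed S) :
    ∃ x z : S, orderOf z = 2 ∧ Subgroup.closure {x, z} = ⊤ ∧
      z * (x * z * x⁻¹) ≠ x * z * x⁻¹ * z := by
  obtain ⟨n, hn, hc, x, y, z, hx, hxy, hd, hz, hzx⟩ := h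
  have hoy : orderOf y = 2 ^ n := by
    rw [← hzx, ← hx]
    exact oc z x
  have h4 : 4 ≤ 2 ^ n := le_trans (by norm_num) (Nat.pow_le_pow_right (n := 2) (by norm_num) hn)
  refine ⟨x, z, hz, ?_, ?_⟩
  · set H := Subgroup.closure ({x, z} : Set S)
    have hxH : x ∈ H := Subgroup.subset_closure (by simp)
    have hzH : z ∈ H := Subgroup.subset_closure (by simp)
    have hyH : y ∈ H := hzx ▸ mul_mem (mul_mem hzH hxH) (inv_mem hzH)
    let f : Subgroup.zpowers x × Subgroup.zpowers y → H := fun p =>
      ⟨p.1.1 * p.2.1, mul_mem (Subgroup.zpowers_le.2 hxH p.1.2) (Subgroup.zpowers_le.2 hyH p.2.2)⟩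
    have hf : Function.Injective f := fun p q e => by
      have e' : (p.1 : S) * p.2 = q.1 * q.2 := congrArg Subtype.val e
      have hmem : (q.1 : S)⁻¹ * p.1 ∈ Subgroup.zpowers x ⊓ Subgroup.zpowers y := by
        refine Subgroup.mem_inf.2 ⟨mul_mem (inv_mem q.1.2) p.1.2, ?_⟩
        rw [show (q.1 : S)⁻¹ * p.1 = q.2 * (p.2 : S)⁻¹ by
          rw [inv_mul_eq_iff_eq_mul, ← mul_assoc, ← e', mul_inv_cancel_right]]
        exact mul_mem q.2.2 (inv_mem p.2.2)
      rw [hd, Subgroup.mem_bot, inv_mul_eq_one] at hmem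
      rw [hmem] at e'
      exact Prod.ext (Subtype.ext hmem.symm) (Subtype.ext (mul_left_cancel e'))
    have hnz : ∀ p, f p ≠ ⟨z, hzH⟩ := fun p e => by
      have e' : (p.1 : S) * p.2 = z := congrArg Subtype.val e
      obtain ⟨i, hi⟩ := Subgroup.mem_zpowers_iff.1 p.1.2
      obtain ⟨j, hj⟩ := Subgroup.mem_zpowers_iff.1 p.2.2
      have hcz : Commute x z := by
        rw [← e', ← hi, ← hj]
        exact ((Commute.refl x).zpow_right i).mul_right ((show Commute x y from hxy).zpow_right j)
      have hyx : y = x := by rw [← hzx, ← hcz.eq, mul_inv_cancel_right]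
      rw [hyx, inf_idem, Subgroup.zpowers_eq_bot] at hd
      rw [hd, orderOf_one] at hx
      omega
    have hlt : 2 ^ n * 2 ^ n < Nat.card H := by
      have : Nat.card (Option (Subgroup.zpowers x × Subgroup.zpowers y)) ≤ Nat.card H :=
        Nat.card_le_card_of_injective (fun o => o.elim ⟨z, hzH⟩ f) (by
          rintro (_ | p) (_ | q) e
          · rfl
          · exact absurd e.symm (hnz q)
          · exact absurd e (hnz p)
          · exact congrArg some (hf e))
      rw [Finite.card_option, Nat.card_prod, Nat.card_zpowers, Nat.card_zpowers, hx, hoy] at this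
      omega
    have hm := H.index_mul_card
    rw [hc, pow_succ', two_mul n, pow_add] at hm
    have : H.index = 1 := by
      rcases Nat.lt_or_ge H.index 2 with h | h
      · have := H.index_ne_zero_of_finite; omega
      · have := Nat.mul_le_mul_right (Nat.card H) h; omega
    exact Subgroup.index_eq_one.1 this
  · intro hcm
    have hzz : z * z = 1 := by rw [← sq, ← hz, pow_orderOf_eq_one]
    have hzi : z⁻¹ = z := inv_eq_of_mul_eq_one_left hzz
    have e : x * z * x⁻¹ * z = x * y⁻¹ := by
      rw [← hzx]; simp only [mul_inv_rev, inv_inv, hzi]; group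
    have hsq : (x * z * x⁻¹ * z) ^ 2 = 1 := by
      have hw : (x * z * x⁻¹) * (x * z * x⁻¹) = 1 := by
        rw [show (x * z * x⁻¹) * (x * z * x⁻¹) = x * (z * z) * x⁻¹ by group, hzz]; group
      rw [(show Commute (x * z * x⁻¹) z from hcm.symm).mul_pow, sq, sq, hw, hzz, one_mul]
    rw [e, (show Commute x y⁻¹ from Commute.inv_right hxy).mul_pow, inv_pow, mul_inv_eq_one] at hsq
    have hmem : x ^ 2 ∈ Subgroup.zpowers x ⊓ Subgroup.zpowers y :=
      Subgroup.mem_inf.2 ⟨pow_mem (Subgroup.mem_zpowers x) 2, hsq ▸ pow_mem (Subgroup.mem_zpowers y) 2⟩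
    rw [hd, Subgroup.mem_bot] at hmem
    have := Nat.le_of_dvd (by omega) (orderOf_dvd_of_pow_eq_one hmem)
    omega

theorem one_class {G : Type*} [Group G] [Finite G] (S : Sylow 2 G)
    (hS : Cfsg.IsQuasiDihedral (S : Subgroup G) ∨ Cfsg.IsWreathed (S : Subgroup G))
    (hG : ∀ H : Subgroup G, H.index ≠ 2) (a b : G) (ha : orderOf a = 2) (hb : orderOf b = 2) :
    IsConj a b := by
  rcases hS with hS | hS
  · obtain ⟨n, -, -, l, hl, -, ⟨E⟩⟩ := QDWreathQD.exists_equiv hS
    have h := (S1213.isQD S E hS hG).1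
    exact (h a ha).symm.trans (h b hb)
  · obtain ⟨n, -, -, l, hl, -, ⟨E⟩⟩ := QDWreathWr.exists_equiv hS
    have h := (S1213.isWr S E hS hG).1
    exact (h a ha).symm.trans (h b hb)

theorem core_simple {G : Type*} [Group G] [Finite G]
    (hone : ∀ a b : G, orderOf a = 2 → orderOf b = 2 → IsConj a b)
    (hG : ∀ H : Subgroup G, H.index ≠ 2) (hO : Cfsg.pPrimeCore 2 G = ⊥)
    (S : Sylow 2 G) {x z : G} (hzS : z ∈ S) (hxS : x ∈ S) (hz : orderOf z = 2)
    (hgen : (S : Subgroup G) = Subgroup.closure {x, z})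
    (hnc : z * (x * z * x⁻¹) ≠ x * z * x⁻¹ * z) :
    ∃ L : Subgroup G, L.Normal ∧ Odd L.index ∧ IsSimpleGroup L ∧ ¬ IsMulCommutative L := by
  have : Fact (Nat.Prime 2) := ⟨Nat.prime_two⟩
  have : Nontrivial G := ⟨⟨z, 1, fun h => by rw [h, orderOf_one] at hz; omega⟩⟩
  have : (⊤ : Subgroup G).Normal := inferInstance
  obtain ⟨N, -, hN⟩ := MinNormalFactors.exists_isMNS_le (⊤ : Subgroup G) top_ne_bot
  have hNn := hN.normal
  have h2N : 2 ∣ Nat.card N := by
    by_contra h
    apply hN.ne_bot
    rw [← le_bot_iff, ← hO]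
    exact le_sSup ⟨hN.normal, Nat.Coprime.symm ((Nat.prime_two.coprime_iff_not_dvd).2 h)⟩
  obtain ⟨u, hu⟩ := exists_prime_orderOf_dvd_card' 2 h2N
  have hinv : ∀ a : G, orderOf a = 2 → a ∈ N := by
    intro a ha
    obtain ⟨g, rfl⟩ := isConj_iff.1 (hone u a (by rw [Subgroup.orderOf_coe]; exact hu) ha)
    exact hNn.conj_mem _ u.2 g
  have hab : ¬ IsMulCommutative N := fun hab => by
    have h1 : x * z * x⁻¹ ∈ N := hNn.conj_mem z (hinv z hz) x
    exact hnc (congrArg Subtype.val (hab.is_comm.comm ⟨z, hinv z hz⟩ ⟨_, h1⟩))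
  obtain ⟨T, -, hT⟩ := MinNormalFactors.exists_isFactor_le N le_rfl hN.ne_bot
    Subgroup.le_normalizer
  have center_bot : ∀ T, MinNormalFactors.IsFactor N T → ∀ t ∈ T, (∀ y ∈ T, y * t = t * y) → t = 1 := by
    intro T hT t ht hc
    have hs := MinNormalFactors.isSimpleGroup hN hT
    rcases hs.eq_bot_or_eq_top_of_normal (Subgroup.center T) inferInstance with h | h
    · have hm : (⟨t, ht⟩ : T) ∈ Subgroup.center T :=
        Subgroup.mem_center_iff.2 fun y => Subtype.ext (hc y y.2)
      rw [h, Subgroup.mem_bot] at hm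
      exact congrArg Subtype.val hm
    · exact absurd ⟨⟨fun a b => Subgroup.mem_center_iff.1 (h ▸ Subgroup.mem_top b) a⟩⟩
        (MinNormalFactors.not_abelian hN hab hT)
  obtain ⟨V, t, hV, htV, ht⟩ : ∃ V t, MinNormalFactors.IsFactor N V ∧ t ∈ V ∧ orderOf t = 2 := by
    have hu' : orderOf (u : G) = 2 := by rw [Subgroup.orderOf_coe]; exact hu
    by_contra hcon
    push Not at hcon
    have hcentral : ∀ g : G, MinNormalFactors.conjSub g T ≤ Subgroup.centralizer {(u : G)} := by
      intro g y hy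
      have hTg := hT.conj hN.normal g
      obtain ⟨t, ht, c, hc, e⟩ := MinNormalFactors.decomp hN hTg u.2
      have htc : t * c = c * t := Subgroup.mem_centralizer_iff.1 hc.2 t ht
      have ht2 : t ^ 2 = 1 := by
        refine center_bot _ hTg _ (pow_mem ht 2) fun w hw => ?_
        have hcw : w * c = c * w := Subgroup.mem_centralizer_iff.1 hc.2 w hw
        have e2 : t ^ 2 * c ^ 2 = 1 := by
          rw [← (show Commute t c from htc).mul_pow, ← e, ← hu', pow_orderOf_eq_one]
        rw [mul_eq_one_iff_eq_inv.1 e2]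
        exact (((show Commute w c from hcw).pow_right 2).inv_right).eq
      by_cases ht1 : t = 1
      · rw [ht1, one_mul] at e
        rw [Subgroup.mem_centralizer_singleton_iff, e]
        exact Subgroup.mem_centralizer_iff.1 hc.2 y hy
      · exact absurd (orderOf_eq_prime ht2 ht1) (hcon _ t hTg ht)
    have hNc : N ≤ Subgroup.centralizer {(u : G)} :=
      (MinNormalFactors.iSup_conj_eq hN hT).ge.trans (iSup_le hcentral)
    have hmem : (u : G) ∈ N ⊓ Subgroup.centralizer (N : Set G) := ⟨u.2,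
      Subgroup.mem_centralizer_iff.2 fun n hn => Subgroup.mem_centralizer_singleton_iff.1 (hNc hn)⟩
    rw [MinNormalFactors.center_trivial hN hab, Subgroup.mem_bot] at hmem
    rw [hmem, orderOf_one] at hu'
    omega
  have hnorm : ∀ g : G, g ∈ Subgroup.normalizer (V : Set G) := by
    intro g
    refine MinNormalFactors.mem_normalizer_of_conjSub_eq ?_
    by_contra hne
    set U := MinNormalFactors.conjSub g V with hU
    have hUf : MinNormalFactors.IsFactor N U := hV.conj hN.normal g
    set s := g * t * g⁻¹ with hs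
    have hsU : s ∈ U := MinNormalFactors.conj_mem_conjSub htV
    have hs2 : orderOf s = 2 := by
      rw [hs, ← ht]
      exact oc g t
    have hcomm : t * s = s * t := hV.commute hUf (Ne.symm hne) htV hsU
    have hw : orderOf (t * s) = 2 := by
      refine orderOf_eq_prime ?_ fun h1 => ?_
      · rw [(show Commute t s from hcomm).mul_pow]
        nth_rewrite 1 [← ht]
        rw [pow_orderOf_eq_one, one_mul]
        nth_rewrite 1 [← hs2]
        exact pow_orderOf_eq_one s
      · have hts : t = 1 := by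
          refine center_bot V hV t htV fun y hy => ?_
          rw [mul_eq_one_iff_eq_inv.1 h1]
          exact ((show Commute y s from hV.commute hUf (Ne.symm hne) hy hsU).inv_right).eq
        rw [hts, orderOf_one] at ht
        omega
    obtain ⟨k, hk⟩ := isConj_iff.1 (hone t (t * s) ht hw)
    set W := MinNormalFactors.conjSub k V with hW
    have hWf : MinNormalFactors.IsFactor N W := hV.conj hN.normal k
    have hwW : t * s ∈ W := hk ▸ MinNormalFactors.conj_mem_conjSub htV
    by_cases hWV : W = V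
    · have : s = 1 := by
        refine center_bot U hUf s hsU fun y hy => ?_
        have h1 : Commute (t * s) y := hWf.commute hUf (by rw [hWV]; exact Ne.symm hne) hwW hy
        have h2 : Commute t y := hV.commute hUf (Ne.symm hne) htV hy
        have := (h2.inv_left.mul_left h1).symm
        rwa [inv_mul_cancel_left] at this
      rw [this, orderOf_one] at hs2
      omega
    · have : t = 1 := by
        refine center_bot V hV t htV fun y hy => ?_
        have h1 : Commute (t * s) y := hWf.commute hV hWV hwW hy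
        have h2 : Commute s y := hUf.commute hV hne hsU hy
        have := (h1.mul_left h2.inv_left).symm
        rwa [mul_inv_cancel_right] at this
      rw [this, orderOf_one] at ht
      omega
  have hVn : V.Normal := Subgroup.normalizer_eq_top_iff.1 (eq_top_iff.2 fun g _ => hnorm g)
  have hVN : V = N := (hN.min V hVn hV.le).resolve_left hV.ne_bot
  refine ⟨N, hNn, ?_, hVN ▸ MinNormalFactors.isSimpleGroup hN hV, hab⟩
  by_contra hodd
  have h2Q : 2 ∣ Nat.card (G ⧸ N) := by
    rw [← Subgroup.index_eq_card]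
    exact even_iff_two_dvd.1 (Nat.not_odd_iff_even.1 hodd)
  have hQ : ∀ H : Subgroup (G ⧸ N), H.index ≠ 2 := fun H hH =>
    hG (H.comap (QuotientGroup.mk' N))
      (by rw [Subgroup.index_comap_of_surjective _ (QuotientGroup.mk'_surjective N), hH])
  let R : Sylow 2 (G ⧸ N) := S.mapSurjective (QuotientGroup.mk'_surjective N)
  have hR : (R : Subgroup (G ⧸ N)) = Subgroup.zpowers (QuotientGroup.mk' N x) := by
    show (S : Subgroup G).map (QuotientGroup.mk' N) = _
    rw [hgen, MonoidHom.map_closure, Set.image_pair,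
      show QuotientGroup.mk' N z = 1 from (QuotientGroup.eq_one_iff z).2 (hinv z hz),
      Set.pair_comm, Subgroup.closure_insert_one, ← Subgroup.zpowers_eq_closure]
  refine S1213.no_complement hQ h2Q (TwoFusionTools.hasNormalPComplement_of_cyclic R ⊤ (a := 0)
    (by rw [Subgroup.index_top, pow_zero]) ?_)
  have : IsCyclic (R : Subgroup (G ⧸ N)) := by rw [hR]; infer_instance
  exact isCyclic_of_injective ((Subgroup.subgroupOfEquivOfLe
    (le_top : (R : Subgroup (G ⧸ N)) ≤ ⊤)).toMonoidHom) (MulEquiv.injective _)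


/-- Let G be a finite group with quasi-dihedral or wreathed Sylow 2-subgroups and no subgroup of index 2. Then G/O(G), the quotient by the largest normal subgroup of odd order, has a normal subgroup of odd index which is a non-abelian simple group. -/
theorem result {G : Type*} [Group G] [Finite G] (S : Sylow 2 G) (hS : Cfsg.IsQuasiDihedral (S : Subgroup G) ∨ Cfsg.IsWreathed (S : Subgroup G)) (hG : ∀ H : Subgroup G, H.index ≠ 2) : ∃ L : Subgroup (G ⧸ Cfsg.oddCore G), L.Normal ∧ Odd L.index ∧ IsSimpleGroup L ∧ ¬ IsMulCommutative L := by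
  have : Fact (Nat.Prime 2) := ⟨Nat.prime_two⟩
  have hOn : (Cfsg.oddCore G).Normal := HallCore.pPrimeCore_normal 2 G
  set π := QuotientGroup.mk' (Cfsg.oddCore G) with hπ
  have hinj : ∀ s ∈ S, π s = 1 → s = 1 := by
    intro s hs h1
    have hso : s ∈ Cfsg.oddCore G := (QuotientGroup.eq_one_iff s).1 h1
    obtain ⟨k, hk⟩ := (IsPGroup.iff_orderOf.1 S.isPGroup') ⟨s, hs⟩
    rw [Subgroup.orderOf_mk] at hk
    have h2 : orderOf s ∣ Nat.card (Cfsg.oddCore G) := Subgroup.orderOf_dvd_natCard _ hso
    rw [← orderOf_eq_one_iff]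
    exact Nat.Coprime.eq_one_of_dvd (hk ▸ ((HallCore.coprime_card_pPrimeCore 2 G).symm.pow_left k)) h2
  let R : Sylow 2 (G ⧸ Cfsg.oddCore G) := S.mapSurjective (QuotientGroup.mk'_surjective _)
  obtain ⟨x, z, hz, hgen, hnc⟩ : ∃ x z : (S : Subgroup G), orderOf z = 2 ∧
      Subgroup.closure {x, z} = ⊤ ∧ z * (x * z * x⁻¹) ≠ x * z * x⁻¹ * z :=
    hS.elim qd_gens wr_gens
  have hord : ∀ s ∈ S, orderOf s = 2 → orderOf (π s) = 2 := by
    intro s hs h2
    refine orderOf_eq_prime (by rw [← map_pow, ← h2, pow_orderOf_eq_one, map_one]) fun h => ?_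
    rw [hinj s hs h, orderOf_one] at h2
    omega
  have hone : ∀ a b : G ⧸ Cfsg.oddCore G, orderOf a = 2 → orderOf b = 2 → IsConj a b := by
    have key : ∀ a : G ⧸ Cfsg.oddCore G, orderOf a = 2 → IsConj (π (z : G)) a := by
      intro a ha
      have hp : IsPGroup 2 (Subgroup.zpowers a) :=
        IsPGroup.of_card (n := 1) (by rw [Nat.card_zpowers, ha, pow_one])
      obtain ⟨P, hP⟩ := hp.exists_le_sylow
      obtain ⟨g, rfl⟩ := MulAction.exists_smul_eq (G ⧸ Cfsg.oddCore G) R P
      have h1 := hP (Subgroup.mem_zpowers a)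
      rw [Sylow.coe_subgroup_smul] at h1
      obtain ⟨_, ⟨s, hs, rfl⟩, rfl⟩ := h1
      have hsR : orderOf (π s) = 2 := by
        rw [← ha]
        exact (oc g (π s)).symm
      have hs2 : orderOf s = 2 := by
        refine orderOf_eq_prime (hinj _ (pow_mem hs 2) (by rw [map_pow, ← hsR, pow_orderOf_eq_one]))
          fun h => ?_
        rw [h, map_one, orderOf_one] at hsR
        omega
      obtain ⟨c, hc⟩ := isConj_iff.1 (one_class S hS hG (z : G) s (by rw [Subgroup.orderOf_coe]; exact hz) hs2)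
      exact (isConj_iff.2 ⟨π c, by rw [← map_inv, ← map_mul, ← map_mul, hc]⟩).trans (isConj_iff.2 ⟨g, rfl⟩)
    exact fun a b ha hb => (key a ha).symm.trans (key b hb)
  refine core_simple hone (fun H hH => hG (H.comap π)
      (by rw [Subgroup.index_comap_of_surjective _ (QuotientGroup.mk'_surjective _), hH]))
    (HallCore.pPrimeCore_quotient_self 2 G) R (x := π x) (z := π z)
    (Subgroup.mem_map_of_mem _ z.2) (Subgroup.mem_map_of_mem _ x.2)
    (hord _ z.2 (by rw [Subgroup.orderOf_coe]; exact hz)) ?_ ?_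
  · show (S : Subgroup G).map π = _
    have e := congrArg (Subgroup.map (π.comp (S : Subgroup G).subtype)) hgen
    rw [MonoidHom.map_closure, Set.image_pair, ← MonoidHom.range_eq_map, MonoidHom.range_comp,
      Subgroup.range_subtype] at e
    exact e.symm
  · intro h
    apply hnc
    apply Subtype.ext
    rw [← mul_inv_eq_one]
    refine hinj _ ?_ ?_
    · exact mul_mem (Subtype.coe_prop _) (inv_mem (Subtype.coe_prop _))
    · simp only [Subgroup.coe_mul, Subgroup.coe_inv, map_mul, map_inv]
      rw [mul_inv_eq_one]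
      exact h

end Cfsg.Agent.S1214
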