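import Cfsg.Statements.S1215
import Cfsg.Agent.Lib.ZStarFusion

set_option autoImplicit false
open Cfsg

namespace Cfsg.Agent.S1215

/-- Elements of a subgroup `Z₀` of the centre of a Sylow 2-subgroup, weakly closed with all its
cyclic subgroups, are not fused inside the Sylow subgroup. -/
theorem unfused {G : Type*} [Group G] [Finite G] (S : Sylow 2 G) {x : G} (hxS : x ∈ S)
    (hxc : ∀ s ∈ S, s * x = x * s)
    (hw : Cfsg.IsWeaklyClosed (Subgroup.zpowers x) (S : Subgroup G)) (g : G)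
    (hg : g * x * g⁻¹ ∈ S) : g * x * g⁻¹ = x := by
  have : Fact (Nat.Prime 2) := ⟨Nat.prime_two⟩
  set X := Subgroup.zpowers x with hX
  have e : X.map (MulAut.conj g).toMonoidHom = X := by
    refine hw.2 g ?_
    rw [hX, MonoidHom.map_zpowers, Subgroup.zpowers_le]
    exact hg
  set N := Subgroup.normalizer (X : Set G) with hN
  have hgN : g ∈ N := by
    rw [hN, Subgroup.mem_normalizer_iff]
    intro n
    constructor
    · intro hn; rw [← e]; exact ⟨n, hn, rfl⟩
    · intro hn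
      rw [← e] at hn
      obtain ⟨m, hm, hm'⟩ := hn
      simp only [MulEquiv.coe_toMonoidHom, MulAut.conj_apply, mul_left_inj, mul_right_inj] at hm'
      rwa [← hm']
  let f : N →* MulAut X := X.normalizerMonoidHom
  obtain ⟨k, hk⟩ := (IsPGroup.iff_orderOf.1 S.isPGroup') ⟨x, hxS⟩
  rw [Subgroup.orderOf_mk] at hk
  have hcardX : Nat.card X = 2 ^ k := by rw [hX, Nat.card_zpowers, hk]
  have haut : Nat.card (MulAut X) ∣ 2 ^ k := by
    rw [IsCyclic.card_mulAut X, hcardX]
    rcases k with - | k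
    · simp
    · rw [Nat.totient_prime_pow_succ Nat.prime_two]
      simp [pow_succ]
  have hSN : (S : Subgroup G) ≤ N := by
    intro s hs
    rw [hN, Subgroup.mem_normalizer_iff]
    have hc : ∀ i : ℤ, s * x ^ i = x ^ i * s := fun i => (Commute.zpow_right (hxc s hs) i)
    intro n
    constructor
    · intro hn
      obtain ⟨i, rfl⟩ := Subgroup.mem_zpowers_iff.1 hn
      rw [hc i, mul_inv_cancel_right]; exact hn
    · intro hn
      obtain ⟨i, hi⟩ := Subgroup.mem_zpowers_iff.1 hn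
      have : n = x ^ i := by
        calc n = s⁻¹ * (s * n * s⁻¹) * s := by group
          _ = s⁻¹ * x ^ i * s := by rw [hi]
          _ = x ^ i := by rw [mul_assoc, ← hc i, inv_mul_cancel_left]
      rw [this]; exact Subgroup.zpow_mem_zpowers x i
  have hker : (S : Subgroup G).subgroupOf N ≤ f.ker := by
    intro s hs
    rw [MonoidHom.mem_ker]
    ext ⟨y, hy⟩
    obtain ⟨i, rfl⟩ := Subgroup.mem_zpowers_iff.1 hy
    show (s : G) * x ^ i * (s : G)⁻¹ = x ^ i
    rw [(Commute.zpow_right (hxc s hs) i).eq, mul_inv_cancel_right]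
  have h1 : f.ker.index ∣ ((S : Subgroup G).subgroupOf N).index :=
    Subgroup.index_dvd_of_le hker
  have h2 : f.ker.index ∣ 2 ^ k := by
    rw [Subgroup.index_ker]
    exact (Subgroup.card_subgroup_dvd_card _).trans haut
  have h3 : ¬ 2 ∣ ((S : Subgroup G).subgroupOf N).index := by
    intro h
    exact S.not_dvd_index (h.trans (Subgroup.relIndex_dvd_index_of_le hSN))
  have h4 : f.ker.index = 1 := by
    obtain ⟨j, -, hj⟩ := (Nat.dvd_prime_pow Nat.prime_two).1 h2
    rcases j with - | j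
    · exact hj
    · exact absurd ((dvd_pow_self 2 (Nat.succ_ne_zero j)).trans (hj ▸ h1)) h3
  have h5 : (⟨g, hgN⟩ : N) ∈ f.ker := by
    rw [Subgroup.index_eq_one.1 h4]; trivial
  have h6 := congrArg (fun φ : MulAut X => ((φ ⟨x, Subgroup.mem_zpowers x⟩ : X) : G))
    (MonoidHom.mem_ker.1 h5)
  exact h6

/-- Let H be a finite group with quasi-dihedral or wreathed Sylow 2-subgroup S such that H has a normal subgroup K of index a power of 2 with no subgroup of index 2 and with generalized quaternion Sylow 2-subgroups, and such that every subgroup of Z(S) is weakly closed in S with respect to H. Then H = O(H) C_H(Z(S)): every element of H is the product of an element of the largest normal odd-order subgroup and an element centralizing Z(S). -/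
theorem result {H : Type*} [Group H] [Finite H] (S : Sylow 2 H) (hS : Cfsg.IsQuasiDihedral (S : Subgroup H) ∨ Cfsg.IsWreathed (S : Subgroup H)) (hQ : (∃ K : Subgroup H, K.Normal ∧ (∃ a : ℕ, K.index = 2 ^ a) ∧ (∀ M : Subgroup ↥K, M.index ≠ 2) ∧ (∀ P : Sylow 2 ↥K, ∃ m : ℕ, 1 ≤ m ∧ Nonempty ((P : Subgroup ↥K) ≃* QuaternionGroup (2 ^ m)))) ∧ (∀ Z₀ : Subgroup H, Z₀ ≤ ((Subgroup.center (S : Subgroup H)).map (S : Subgroup H).subtype) → Cfsg.IsWeaklyClosed Z₀ (S : Subgroup H))) (h : H) : ∃ o ∈ Cfsg.oddCore H, ∃ c ∈ Subgroup.centralizer (((Subgroup.center (S : Subgroup H)).map (S : Subgroup H).subtype : Subgroup H) : Set H), h = o * c := by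
  set Z := ((Subgroup.center (S : Subgroup H)).map (S : Subgroup H).subtype) with hZ
  have hZS : ∀ x ∈ Z, x ∈ S ∧ ∀ s ∈ S, s * x = x * s := by
    rintro _ ⟨x, hx, rfl⟩
    refine ⟨x.2, fun s hs => ?_⟩
    exact congrArg Subtype.val (Subgroup.mem_center_iff.1 hx ⟨s, hs⟩)
  have hft : ∀ x ∈ Z, ∀ (j : ℕ) (g : H), g * x ^ j * g⁻¹ ∈ S → g * x ^ j * g⁻¹ = x ^ j := by
    intro x hx j g hg
    obtain ⟨h1, h2⟩ := hZS _ (pow_mem hx j)
    exact unfused S h1 h2 (hQ.2 _ (Subgroup.zpowers_le.2 (pow_mem hx j))) g hg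
  have hcongr : ∀ x ∈ Z, h * x * h⁻¹ * (1 * x * 1⁻¹)⁻¹ ∈ Cfsg.oddCore H := by
    intro x hx
    have hc := Subgroup.mem_center_iff.1
      (Cfsg.Agent.ZStarFusion.mk_mem_center S (hZS x hx).1 (hft x hx))
      (QuotientGroup.mk' (Cfsg.pPrimeCore 2 H) h)
    rw [one_mul, inv_one, mul_one]
    refine (QuotientGroup.eq_one_iff _).1 ?_
    show QuotientGroup.mk' (Cfsg.pPrimeCore 2 H) (h * x * h⁻¹ * x⁻¹) = 1
    rw [map_mul, map_mul, map_mul, map_inv, map_inv, hc, mul_inv_cancel_right, mul_inv_cancel]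
  have hn : (Cfsg.oddCore H).Normal := Cfsg.Agent.HallCore.pPrimeCore_normal 2 H
  have hP : IsPGroup 2 Z := S.isPGroup'.to_le (Subgroup.map_subtype_le _)
  obtain ⟨m, hm, hm'⟩ := Cfsg.Agent.ZStarFusion.exists_conj_of_congr
    Cfsg.Agent.ZStarTheorem.odd_card_pPrimeCore hP 1 h
    (fun x _ => by rw [Subgroup.normalizer_eq_top (Cfsg.oddCore H)]; trivial) hcongr
  refine ⟨m, hm, m⁻¹ * h, ?_, by group⟩
  rw [Subgroup.mem_centralizer_iff]
  intro x hx
  have e := hm' x hx
  rw [one_mul, inv_one, mul_one] at e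
  calc x * (m⁻¹ * h) = m⁻¹ * (m * x * m⁻¹) * h := by group
    _ = m⁻¹ * (h * x * h⁻¹) * h := by rw [e]
    _ = m⁻¹ * h * x := by group

end Cfsg.Agent.S1215
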