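import Cfsg.Statements.S1217
import Mathlib
import Cfsg.Agent.Lib.QDWreathLift
import Cfsg.Agent.Lib.PSLCard
-- import your own Cfsg.Agent.* helpers here

set_option autoImplicit false
open scoped MatrixGroups
open Cfsg

namespace Cfsg.Agent.S1217

open Cfsg.Agent

theorem sylow_equiv {G : Type*} [Group G] [Finite G] (P : Sylow 2 G) {M : Type*} [Group M]
    (f : M →* G) (hf : Function.Injective f) {N r : ℕ} (hr : Odd r)
    (hG : Nat.card G = 2 ^ N * r) (hM : Nat.card M = 2 ^ N) :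
    Nonempty (M ≃* (P : Subgroup G)) := by
  have hp : Fact (Nat.Prime 2) := ⟨Nat.prime_two⟩
  have hc : Nat.card f.range = 2 ^ N := by
    rw [← Nat.card_congr (MonoidHom.ofInjective hf).toEquiv, hM]
  have hidx : f.range.index = r := by
    have := f.range.card_mul_index
    rw [hc, hG] at this
    exact Nat.eq_of_mul_eq_mul_left (by positivity) this
  have hnd : ¬ 2 ∣ f.range.index := by
    rw [hidx]; exact fun h => Nat.not_even_iff_odd.2 hr (even_iff_two_dvd.2 h)
  let Q : Sylow 2 G := (IsPGroup.of_card hc).toSylow hnd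
  exact ⟨(MonoidHom.ofInjective hf).trans
    ((MulEquiv.subgroupCongr (IsPGroup.toSylow_coe (IsPGroup.of_card hc) hnd).symm).trans (Sylow.equiv Q P))⟩

theorem exists_two_part {N : ℕ} (hN : N ≠ 0) : ∃ n r, Odd r ∧ N = 2 ^ n * r := by
  obtain ⟨n, r, hr, h⟩ := Nat.exists_eq_pow_mul_and_not_dvd hN 2 (by norm_num)
  exact ⟨n, r, Nat.not_even_iff_odd.1 (fun he => hr (even_iff_two_dvd.1 he)), h⟩

variable {F : Type*} [Field F]

/-- A diagonal element of `GL₂`. -/
def dg (u v : Fˣ) : GL (Fin 2) F where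
  val := !![(u : F), 0; 0, (v : F)]
  inv := !![((u⁻¹ : Fˣ) : F), 0; 0, ((v⁻¹ : Fˣ) : F)]
  val_inv := by rw [Matrix.mul_fin_two, Matrix.one_fin_two]; simp
  inv_val := by rw [Matrix.mul_fin_two, Matrix.one_fin_two]; simp

theorem dg_mul (u v u' v' : Fˣ) : dg u v * dg u' v' = dg (u * u') (v * v') := by
  apply Units.ext
  simp [dg, Matrix.mul_fin_two]

theorem dg_one : dg (1 : Fˣ) 1 = 1 := by
  apply Units.ext
  simp [dg, Matrix.one_fin_two]

theorem dg_pow (u v : Fˣ) (n : ℕ) : dg u v ^ n = dg (u ^ n) (v ^ n) := by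
  induction n with
  | zero => simp [dg_one]
  | succ n ih => rw [pow_succ, ih, dg_mul, pow_succ, pow_succ]

theorem wreathed_case [Fintype F] (h1 : Fintype.card F % 4 = 1) (P : Sylow 2 (GL (Fin 2) F)) :
    Cfsg.IsWreathed (P : Subgroup (GL (Fin 2) F)) := by
  obtain ⟨n, r, hr, hnr⟩ := exists_two_part (N := Fintype.card F - 1) (by have := Fintype.one_lt_card (α := F); omega)
  have hq : Fintype.card F = 2 ^ n * r + 1 := by have := Fintype.one_lt_card (α := F); omega
  obtain ⟨m, rfl⟩ : ∃ m, n = m + 2 := by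
    obtain ⟨j, rfl⟩ := hr
    rcases n with _ | _ | n
    · simp at hq; omega
    · simp at hq; omega
    · exact ⟨n, rfl⟩
  have : NeZero (2 ^ m) := ⟨by positivity⟩
  have h4 : 4 * 2 ^ m = 2 ^ (m + 2) := by rw [pow_add]; ring
  obtain ⟨a, ha⟩ : ∃ a : Fˣ, orderOf a = 4 * 2 ^ m := by
    obtain ⟨g, hg⟩ := IsCyclic.exists_generator (α := Fˣ)
    have ho : orderOf g = 4 * 2 ^ m * r := by
      rw [orderOf_eq_card_of_forall_mem_zpowers hg, Nat.card_units, Nat.card_eq_fintype_card, hnr, h4]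
    refine ⟨g ^ r, ?_⟩
    rw [orderOf_pow' _ (by rintro rfl; exact absurd hr (by simp)), ho, Nat.gcd_eq_right (dvd_mul_left _ _), Nat.mul_div_cancel _ hr.pos]
  let z : GL (Fin 2) F :=
    { val := !![0, 1; 1, 0], inv := !![0, 1; 1, 0],
      val_inv := by rw [Matrix.mul_fin_two, Matrix.one_fin_two]; simp,
      inv_val := by rw [Matrix.mul_fin_two, Matrix.one_fin_two]; simp }
  have hz : z * z = 1 := by
    apply Units.ext
    simp [z, Matrix.mul_fin_two, Matrix.one_fin_two]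
  have hx : (dg a 1) ^ (4 * 2 ^ m) = (1 : GL (Fin 2) F) := by
    rw [dg_pow, one_pow, ← ha, pow_orderOf_eq_one, dg_one]
  have hxy : dg a 1 * dg 1 a = dg 1 a * dg a 1 := by rw [dg_mul, dg_mul, mul_comm a, mul_comm 1 a]
  have hzxy : z * dg a 1 * z⁻¹ = dg 1 a := by
    rw [mul_inv_eq_iff_eq_mul]
    apply Units.ext
    simp [z, dg, Matrix.mul_fin_two]
  let f := QDWreathLift.wmLift (dg a 1) (dg 1 a) z hx hxy hz hzxy
  have hf : Function.Injective f := by
    rw [injective_iff_map_eq_one]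
    rintro ⟨i, j, e⟩ h
    simp only [f, QDWreathLift.wmLift_apply] at h
    rw [dg_pow, dg_pow, dg_mul, one_pow, one_pow, mul_one, one_mul] at h
    have h' := congrArg (fun g : GL (Fin 2) F => (g : Matrix (Fin 2) (Fin 2) F)) h
    cases e
    · have h00 := congrFun (congrFun h' 0) 0
      have h11 := congrFun (congrFun h' 1) 1
      simp [dg] at h00 h11
      rw [← Units.val_pow_eq_pow_val, Units.val_eq_one] at h00 h11
      have e0 := orderOf_dvd_of_pow_eq_one h00
      have e1 := orderOf_dvd_of_pow_eq_one h11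
      rw [ha] at e0 e1
      rw [QDWreathWr.one_def]
      congr 1
      · exact (ZMod.val_eq_zero i).1 (Nat.eq_zero_of_dvd_of_lt e0 (ZMod.val_lt i))
      · exact (ZMod.val_eq_zero j).1 (Nat.eq_zero_of_dvd_of_lt e1 (ZMod.val_lt j))
    · have h00 := congrFun (congrFun h' 0) 0
      simp [dg, z, Matrix.mul_fin_two] at h00
  have hcard : Nat.card (GL (Fin 2) F) = 2 ^ (2 * m + 5) * (r ^ 2 * (2 ^ (m + 1) * r + 1) * Fintype.card F) := by
    rw [PSLCard.card_GL2, Nat.card_eq_fintype_card, hq]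
    have h5 : (2 ^ (m + 2) * r + 1) ^ 2 - 1 = 2 ^ (m + 2) * r * (2 ^ (m + 2) * r + 2) := by
      rw [show (2 ^ (m + 2) * r + 1) ^ 2 = 2 ^ (m + 2) * r * (2 ^ (m + 2) * r + 2) + 1 by ring, Nat.add_sub_cancel]
    have h6 : (2 ^ (m + 2) * r + 1) ^ 2 - (2 ^ (m + 2) * r + 1) = (2 ^ (m + 2) * r + 1) * (2 ^ (m + 2) * r) := by
      rw [show (2 ^ (m + 2) * r + 1) ^ 2 = (2 ^ (m + 2) * r + 1) * (2 ^ (m + 2) * r) + (2 ^ (m + 2) * r + 1) by ring, Nat.add_sub_cancel]
    rw [h5, h6]
    ring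
  have hM : Nat.card (QDWreathWr.WM (2 ^ m)) = 2 ^ (2 * m + 5) := by
    rw [QDWreathWr.card_eq]; ring
  have hodd : Odd (r ^ 2 * (2 ^ (m + 1) * r + 1) * Fintype.card F) := by
    refine ((hr.pow).mul ?_).mul ?_
    · exact (Even.mul_right (Nat.even_pow.2 ⟨by norm_num, by omega⟩) r).add_one
    · exact Nat.odd_iff.2 (by omega)
  obtain ⟨e⟩ := sylow_equiv P f hf hodd hcard hM
  exact QDWreathLift.isWreathed_of_mulEquiv rfl e

theorem exists_trace [Fintype F] {l c : ℕ} (hl : 0 < l) (hq : Fintype.card F + 1 = 4 * l * (2 * c + 1))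
    (h2 : (2 : F) ≠ 0) :
    ∃ (t : F) (ζ : AlgebraicClosure F), ζ ^ (4 * l) = -1 ∧ ζ ≠ 0 ∧
      algebraMap F (AlgebraicClosure F) t = ζ - ζ⁻¹ := by
  classical
  obtain ⟨p, hchar⟩ := CharP.exists F
  haveI := hchar
  obtain ⟨n, hp, hpn⟩ := FiniteField.card F p
  haveI : Fact p.Prime := ⟨hp⟩
  haveI : CharP (AlgebraicClosure F) p := charP_of_injective_algebraMap (algebraMap F _).injective p
  obtain ⟨ζ, hζ⟩ := IsAlgClosed.exists_pow_nat_eq (-1 : AlgebraicClosure F) (show 0 < 4 * l by omega)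
  have hζ0 : ζ ≠ 0 := by
    rintro rfl
    rw [zero_pow (by omega)] at hζ
    exact one_ne_zero (neg_eq_zero.1 hζ.symm)
  set q := Fintype.card F with hqdef
  have hq1 : ζ ^ q * ζ = -1 := by
    rw [← pow_succ, hq, pow_mul, hζ, Odd.neg_one_pow ⟨c, rfl⟩]
  have hq2 : ζ ^ q = -ζ⁻¹ := by
    field_simp
    linear_combination hq1
  have hq0 : (ζ - ζ⁻¹) ^ q = ζ - ζ⁻¹ := by
    rw [hpn, sub_pow_char_pow, ← hpn, inv_pow, hq2, inv_neg, inv_inv]
    ring
  have hsplit : (Polynomial.X ^ q - Polynomial.X : Polynomial F).roots = (Finset.univ : Finset F).val :=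
    FiniteField.roots_X_pow_card_sub_X F
  have hne : (Polynomial.X ^ q - Polynomial.X : Polynomial F) ≠ 0 :=
    FiniteField.X_pow_card_sub_X_ne_zero F (Fintype.one_lt_card)
  have hdeg : (Polynomial.X ^ q - Polynomial.X : Polynomial F).natDegree = q :=
    FiniteField.X_pow_card_sub_X_natDegree_eq F (Fintype.one_lt_card)
  have hroots : Multiset.map (algebraMap F (AlgebraicClosure F)) (Polynomial.X ^ q - Polynomial.X : Polynomial F).roots
      = ((Polynomial.X ^ q - Polynomial.X : Polynomial F).map (algebraMap F (AlgebraicClosure F))).roots := by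
    refine Polynomial.roots_map_of_injective_of_card_eq_natDegree (algebraMap F (AlgebraicClosure F)).injective ?_
    rw [hdeg, hsplit]; rfl
  have hmem : ζ - ζ⁻¹ ∈ ((Polynomial.X ^ q - Polynomial.X : Polynomial F).map (algebraMap F (AlgebraicClosure F))).roots := by
    rw [Polynomial.mem_roots (Polynomial.map_ne_zero hne)]
    simp [hq0]
  rw [← hroots, Multiset.mem_map] at hmem
  obtain ⟨t, -, ht⟩ := hmem
  exact ⟨t, ζ, hζ, hζ0, ht⟩

theorem qd_case [Fintype F] (h3 : Fintype.card F % 4 = 3) (P : Sylow 2 (GL (Fin 2) F)) :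
    Cfsg.IsQuasiDihedral (P : Subgroup (GL (Fin 2) F)) := by
  obtain ⟨n, r, hr, hnr⟩ := exists_two_part (N := Fintype.card F + 1) (by omega)
  obtain ⟨c, rfl⟩ := hr
  obtain ⟨m, rfl⟩ : ∃ m, n = m + 2 := by
    rcases n with _ | _ | n
    · simp at hnr; omega
    · simp at hnr; omega
    · exact ⟨n, rfl⟩
  have hl : 0 < 2 ^ m := by positivity
  have : NeZero (2 ^ m) := ⟨by positivity⟩
  have hq : Fintype.card F + 1 = 4 * 2 ^ m * (2 * c + 1) := by rw [hnr]; ring
  have h2 : (2 : F) ≠ 0 := by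
    intro h
    have h' : ringChar F = 2 := CharP.ringChar_of_prime_eq_zero Nat.prime_two (by exact_mod_cast h)
    have := FiniteField.even_card_iff_char_two.1 h'
    omega
  obtain ⟨t, ζ, hζ, hζ0, ht⟩ := exists_trace hl hq h2
  let A : GL (Fin 2) F :=
    { val := !![0, 1; 1, t], inv := !![-t, 1; 1, 0],
      val_inv := by rw [Matrix.mul_fin_two, Matrix.one_fin_two]; simp,
      inv_val := by rw [Matrix.mul_fin_two, Matrix.one_fin_two]; simp }
  let y : GL (Fin 2) F :=
    { val := !![1, t; 0, -1], inv := !![1, t; 0, -1],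
      val_inv := by rw [Matrix.mul_fin_two, Matrix.one_fin_two]; simp,
      inv_val := by rw [Matrix.mul_fin_two, Matrix.one_fin_two]; simp }
  let alg := algebraMap F (AlgebraicClosure F)
  have hlin : ∀ k : ℕ, ∃ b d : F, (A : Matrix (Fin 2) (Fin 2) F) ^ k = !![d, b; b, b * t + d] ∧
      ∀ ρ : AlgebraicClosure F, ρ * ρ = alg t * ρ + 1 → ρ ^ k = alg b * ρ + alg d := by
    intro k
    induction k with
    | zero => exact ⟨0, 1, by simp [Matrix.one_fin_two], fun ρ _ => by simp⟩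
    | succ k ih =>
      obtain ⟨b, d, h1, h2⟩ := ih
      refine ⟨b * t + d, b, ?_, fun ρ hρ => ?_⟩
      · rw [pow_succ, h1]
        simp only [A, Matrix.mul_fin_two]
        ext i j
        fin_cases i <;> fin_cases j <;> simp <;> ring
      · rw [pow_succ, h2 ρ hρ, map_add, map_mul]
        linear_combination alg b * hρ
  obtain ⟨b, d, hAk, hroot⟩ := hlin (4 * 2 ^ m)
  have e1 := hroot ζ (by show ζ * ζ = algebraMap F _ t * ζ + 1; rw [ht]; field_simp; ring)
  have e2 := hroot (-ζ⁻¹) (by show -ζ⁻¹ * -ζ⁻¹ = algebraMap F _ t * -ζ⁻¹ + 1; rw [ht]; field_simp; ring)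
  rw [hζ] at e1
  rw [Even.neg_pow (Even.mul_right (by norm_num) _), inv_pow, hζ, inv_neg, inv_one] at e2
  have hsum : ζ + ζ⁻¹ ≠ 0 := by
    intro h
    have h1 : ζ ^ 2 = -1 := by field_simp at h; linear_combination h
    have h5 : (1 : AlgebraicClosure F) = -1 := by
      rw [← hζ, show 4 * 2 ^ m = 2 * (2 * 2 ^ m) by ring, pow_mul, h1,
        Even.neg_one_pow (even_two_mul _)]
    apply h2
    apply (algebraMap F (AlgebraicClosure F)).injective
    rw [map_ofNat, map_zero]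
    linear_combination h5
  have hb : b = 0 := by
    have : alg b * (ζ + ζ⁻¹) = 0 := by linear_combination e2 - e1
    exact alg.injective (by rw [map_zero]; exact (mul_eq_zero.1 this).resolve_right hsum)
  have hd : d = -1 := alg.injective (by rw [hb, map_zero, zero_mul, zero_add] at e1; rw [map_neg, map_one, ← e1])
  have hA4 : ((A ^ (4 * 2 ^ m) : GL (Fin 2) F) : Matrix (Fin 2) (Fin 2) F) = !![-1, 0; 0, -1] := by
    rw [Units.val_pow_eq_pow_val, hAk, hb, hd]; simp
  have hA8 : A ^ (8 * 2 ^ m) = 1 := by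
    apply Units.ext
    rw [show 8 * 2 ^ m = 4 * 2 ^ m + 4 * 2 ^ m by ring, pow_add, Units.val_mul, hA4]
    simp [Matrix.mul_fin_two, Matrix.one_fin_two]
  have hAo : orderOf A = 8 * 2 ^ m := by
    haveI : Fact (Nat.Prime 2) := ⟨Nat.prime_two⟩
    rw [show 8 * 2 ^ m = 2 ^ (m + 2 + 1) by ring] at hA8 ⊢
    refine orderOf_eq_prime_pow ?_ hA8
    intro h
    rw [show 2 ^ (m + 2) = 4 * 2 ^ m by ring] at h
    rw [h] at hA4
    have := congrFun (congrFun hA4 0) 0
    simp at this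
    exact h2 (by linear_combination this)
  have hy : y * y = 1 := by
    apply Units.ext
    simp [y, Matrix.mul_fin_two, Matrix.one_fin_two]
  have hAy : y * A * y⁻¹ = A ^ (4 * 2 ^ m - 1) := by
    rw [pow_sub A (by omega), pow_one, mul_inv_eq_iff_eq_mul]
    apply Units.ext
    rw [Units.val_mul, Units.val_mul, Units.val_mul, hA4]
    simp [y, A, Matrix.mul_fin_two]
    ring
  have hcard : Nat.card (GL (Fin 2) F) = 2 ^ (m + 4) * ((2 * c + 1) * (2 * 2 ^ m * (2 * c + 1) - 1) ^ 2 * Fintype.card F) := by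
    rw [PSLCard.card_GL2, Nat.card_eq_fintype_card]
    obtain ⟨a, ha⟩ : ∃ a, 2 * 2 ^ m * (2 * c + 1) = a + 1 := Nat.exists_eq_succ_of_ne_zero (by positivity)
    have hq' : Fintype.card F = 2 * a + 1 := by
      have : 4 * 2 ^ m * (2 * c + 1) = 2 * (a + 1) := by rw [← ha]; ring
      omega
    rw [ha, Nat.add_sub_cancel, hq', show (2 * a + 1) ^ 2 - 1 = 4 * a * (a + 1) by
      rw [show (2 * a + 1) ^ 2 = 4 * a * (a + 1) + 1 by ring, Nat.add_sub_cancel]]
    rw [show (2 * a + 1) ^ 2 - (2 * a + 1) = (2 * a + 1) * (2 * a) by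
      rw [show (2 * a + 1) ^ 2 = (2 * a + 1) * (2 * a) + (2 * a + 1) by ring, Nat.add_sub_cancel], ← ha]
    ring
  have hodd : Odd ((2 * c + 1) * (2 * 2 ^ m * (2 * c + 1) - 1) ^ 2 * Fintype.card F) := by
    refine (Odd.mul ⟨c, rfl⟩ (Odd.pow (Nat.Even.sub_odd ?_ ((even_two_mul _).mul_right _) odd_one))).mul (Nat.odd_iff.2 (by omega))
    exact Nat.one_le_iff_ne_zero.2 (by positivity)
  have hM : Nat.card (QDWreathQD.QD (2 ^ m)) = 2 ^ (m + 4) := by rw [QDWreathQD.card_eq]; ring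
  obtain ⟨e⟩ := sylow_equiv P _ (QDWreathLift.qdLift_injective A y hAo hy hAy) hodd hcard hM
  exact QDWreathLift.isQuasiDihedral_of_mulEquiv rfl e


/-- Let F be a finite field with q elements, q odd, and P a Sylow 2-subgroup of GL(2,F). If q ≡ 3 (mod 4) then P is quasi-dihedral; if q ≡ 1 (mod 4) then P is wreathed. -/
theorem result {F : Type*} [Field F] [Fintype F] (P : Sylow 2 (GL (Fin 2) F)) : (Fintype.card F % 4 = 3 → Cfsg.IsQuasiDihedral (P : Subgroup (GL (Fin 2) F))) ∧ (Fintype.card F % 4 = 1 → Cfsg.IsWreathed (P : Subgroup (GL (Fin 2) F))) := by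
  exact ⟨fun h => qd_case h P, fun h => wreathed_case h P⟩

end Cfsg.Agent.S1217
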