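import Cfsg.Statements.S1218
import Mathlib
import Cfsg.Agent.S1217
import Cfsg.Agent.Lib.OrthUnitaryHerm

set_option autoImplicit false
open scoped MatrixGroups
open Cfsg

namespace Cfsg.Agent.S1218

open Cfsg.Agent Matrix

variable {F : Type*} [Field F] [Fintype F] {q : ℕ}

theorem card_GU2 (hF : Fintype.card F = q ^ 2) :
    Nat.card ↥(Cfsg.preserving (Units.coeHom (Matrix (Fin 2) (Fin 2) F)) (Cfsg.hermForm 2 F q))
      = q * ((q + 1) * ((q + 1) * (q - 1))) := by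
  show Nat.card (Cfsg.GU 2 F q) = _
  rw [OrthUnitaryHerm.card_GU hF 2, Finset.prod_range_succ, Finset.prod_range_succ,
    Finset.prod_range_zero, one_mul, if_pos Even.zero, if_neg (by decide), ← Nat.sq_sub_sq q 1]
  norm_num

theorem exists_orderOf (hF : Fintype.card F = q ^ 2) {d : ℕ} (hd : d ∣ (q + 1) * (q - 1)) :
    ∃ a : Fˣ, orderOf a = d := by
  obtain ⟨g, hg⟩ := IsCyclic.exists_generator (α := Fˣ)
  have ho : orderOf g = (q + 1) * (q - 1) := by
    rw [orderOf_eq_card_of_forall_mem_zpowers hg, OrthUnitaryHerm.card_units_eq hF]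
  refine ⟨g ^ (orderOf g / d), ?_⟩
  exact orderOf_pow_orderOf_div (orderOf_pos g).ne' (ho.symm ▸ hd)

omit [Fintype F] in
theorem dg_mem (q : ℕ) {a b : Fˣ} (ha : (a : F) * (a : F) ^ q = 1) (hb : (b : F) * (b : F) ^ q = 1) :
    S1217.dg a b ∈ Cfsg.preserving (Units.coeHom (Matrix (Fin 2) (Fin 2) F)) (Cfsg.hermForm 2 F q) := by
  intro u v
  simp only [Units.coeHom_apply, S1217.dg, Cfsg.hermForm, Fin.sum_univ_two, Matrix.mulVec,
    dotProduct, Matrix.of_apply, Matrix.cons_val', Matrix.cons_val_zero, Matrix.cons_val_one,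
    Matrix.cons_val_fin_one, zero_mul, add_zero, zero_add, mul_pow]
  linear_combination (u 0 * v 0 ^ q) * ha + (u 1 * v 1 ^ q) * hb

/-- The swap matrix. -/
def sw (F : Type*) [Field F] : GL (Fin 2) F :=
  { val := !![0, 1; 1, 0], inv := !![0, 1; 1, 0],
    val_inv := by rw [Matrix.mul_fin_two, Matrix.one_fin_two]; simp,
    inv_val := by rw [Matrix.mul_fin_two, Matrix.one_fin_two]; simp }

omit [Fintype F] in
theorem sw_sq : sw F * sw F = 1 := by
  apply Units.ext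
  simp [sw, Matrix.mul_fin_two, Matrix.one_fin_two]

omit [Fintype F] in
theorem sw_dg (a b : Fˣ) : sw F * S1217.dg a b * (sw F)⁻¹ = S1217.dg b a := by
  rw [mul_inv_eq_iff_eq_mul]
  apply Units.ext
  simp [sw, S1217.dg, Matrix.mul_fin_two]

omit [Fintype F] in
theorem sw_mem (q : ℕ) :
    sw F ∈ Cfsg.preserving (Units.coeHom (Matrix (Fin 2) (Fin 2) F)) (Cfsg.hermForm 2 F q) := by
  intro u v
  simp [sw, Cfsg.hermForm, Fin.sum_univ_two, Matrix.mulVec, dotProduct]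
  ring

theorem wreathed_case (hF : Fintype.card F = q ^ 2) (h3 : q % 4 = 3)
    (P : Sylow 2 ↥(Cfsg.preserving (Units.coeHom (Matrix (Fin 2) (Fin 2) F)) (Cfsg.hermForm 2 F q))) :
    Cfsg.IsWreathed (P : Subgroup ↥(Cfsg.preserving (Units.coeHom (Matrix (Fin 2) (Fin 2) F)) (Cfsg.hermForm 2 F q))) := by
  obtain ⟨n, r, hr, hnr⟩ := S1217.exists_two_part (N := q + 1) (by omega)
  obtain ⟨m, rfl⟩ : ∃ m, n = m + 2 := by
    obtain ⟨j, rfl⟩ := hr
    rcases n with _ | _ | n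
    · simp at hnr; omega
    · simp at hnr; omega
    · exact ⟨n, rfl⟩
  have : NeZero (2 ^ m) := ⟨by positivity⟩
  have h4 : 4 * 2 ^ m = 2 ^ (m + 2) := by rw [pow_add]; ring
  obtain ⟨a, ha⟩ := exists_orderOf hF (d := 4 * 2 ^ m)
    (Dvd.dvd.mul_right ⟨r, by rw [hnr, h4]⟩ _)
  have han : (a : F) * (a : F) ^ q = 1 := by
    rw [← pow_succ', ← Units.val_pow_eq_pow_val, Units.val_eq_one]
    exact orderOf_dvd_iff_pow_eq_one.1 ⟨r, by rw [ha, hnr, h4]⟩
  let K := Cfsg.preserving (Units.coeHom (Matrix (Fin 2) (Fin 2) F)) (Cfsg.hermForm 2 F q)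
  let x : K := ⟨S1217.dg a 1, dg_mem q han (by simp)⟩
  let y : K := ⟨S1217.dg 1 a, dg_mem q (by simp) han⟩
  let z : K := ⟨sw F, sw_mem q⟩
  have hx : x ^ (4 * 2 ^ m) = 1 := Subtype.ext (by
    show S1217.dg a 1 ^ (4 * 2 ^ m) = 1
    rw [S1217.dg_pow, one_pow, ← ha, pow_orderOf_eq_one, S1217.dg_one])
  have hxy : x * y = y * x := Subtype.ext (by
    show S1217.dg a 1 * S1217.dg 1 a = S1217.dg 1 a * S1217.dg a 1
    rw [S1217.dg_mul, S1217.dg_mul, mul_comm a, mul_comm 1 a])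
  let f := QDWreathLift.wmLift x y z hx hxy (Subtype.ext sw_sq) (Subtype.ext (sw_dg a 1))
  have hf : Function.Injective f := by
    rw [injective_iff_map_eq_one]
    rintro ⟨i, j, e⟩ h
    simp only [f, QDWreathLift.wmLift_apply] at h
    have h1 := congrArg (fun g : K => (g : GL (Fin 2) F)) h
    simp only [Subgroup.coe_mul, Subgroup.coe_pow, Subgroup.coe_one, x, y, z] at h1
    rw [S1217.dg_pow, S1217.dg_pow, S1217.dg_mul, one_pow, one_pow, mul_one, one_mul] at h1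
    cases e
    · simp only [Bool.false_eq_true, if_false, Subgroup.coe_one, mul_one] at h1
      have h' := congrArg (fun g : GL (Fin 2) F => (g : Matrix (Fin 2) (Fin 2) F)) h1
      have h00 := congrFun (congrFun h' 0) 0
      have h11 := congrFun (congrFun h' 1) 1
      simp [S1217.dg] at h00 h11
      rw [← Units.val_pow_eq_pow_val, Units.val_eq_one] at h00 h11
      have e0 := orderOf_dvd_of_pow_eq_one h00
      have e1 := orderOf_dvd_of_pow_eq_one h11
      rw [ha] at e0 e1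
      rw [QDWreathWr.one_def]
      congr 1
      · exact (ZMod.val_eq_zero i).1 (Nat.eq_zero_of_dvd_of_lt e0 (ZMod.val_lt i))
      · exact (ZMod.val_eq_zero j).1 (Nat.eq_zero_of_dvd_of_lt e1 (ZMod.val_lt j))
    · simp only [if_true] at h1
      have h' := congrArg (fun g : GL (Fin 2) F => (g : Matrix (Fin 2) (Fin 2) F)) h1
      have h00 := congrFun (congrFun h' 0) 0
      simp [S1217.dg, sw, Matrix.mul_fin_two] at h00
  have hM : Nat.card (QDWreathWr.WM (2 ^ m)) = 2 ^ (2 * m + 5) := by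
    rw [QDWreathWr.card_eq]; ring
  obtain ⟨s, hs⟩ : ∃ s, 2 ^ (m + 1) * r = s + 1 := Nat.exists_eq_succ_of_ne_zero (by
    have := hr.pos; positivity)
  have hq1 : q - 1 = 2 * s := by
    have : 2 * (2 ^ (m + 1) * r) = q + 1 := by rw [hnr]; ring
    omega
  have hcard : Nat.card K = 2 ^ (2 * m + 5) * (q * (r ^ 2 * s)) := by
    rw [card_GU2 hF, hq1, hnr]; ring
  have hsodd : Odd s := by
    have he : Even (s + 1) := hs ▸ (Even.mul_right (Nat.even_pow.2 ⟨by norm_num, by omega⟩) r)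
    obtain ⟨k, hk⟩ := he
    exact Nat.odd_iff.2 (by omega)
  obtain ⟨e⟩ := S1217.sylow_equiv P f hf ((Nat.odd_iff.2 (by omega)).mul ((hr.pow).mul hsodd)) hcard hM
  exact QDWreathLift.isWreathed_of_mulEquiv rfl e

theorem qd_case (hF : Fintype.card F = q ^ 2) (h1 : q % 4 = 1) (hq : 1 < q)
    (P : Sylow 2 ↥(Cfsg.preserving (Units.coeHom (Matrix (Fin 2) (Fin 2) F)) (Cfsg.hermForm 2 F q))) :
    Cfsg.IsQuasiDihedral (P : Subgroup ↥(Cfsg.preserving (Units.coeHom (Matrix (Fin 2) (Fin 2) F)) (Cfsg.hermForm 2 F q))) := by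
  obtain ⟨n, r, hr, hnr⟩ := S1217.exists_two_part (N := q - 1) (by omega)
  obtain ⟨m, rfl⟩ : ∃ m, n = m + 2 := by
    obtain ⟨j, rfl⟩ := hr
    rcases n with _ | _ | n
    · simp at hnr; omega
    · simp at hnr; omega
    · exact ⟨n, rfl⟩
  have : NeZero (2 ^ m) := ⟨by positivity⟩
  have h2 : (2 : F) ≠ 0 := by
    intro h
    have h' : ringChar F = 2 := CharP.ringChar_of_prime_eq_zero Nat.prime_two (by exact_mod_cast h)
    have h3 := FiniteField.even_card_of_char_two h'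
    rw [hF, Nat.pow_mod] at h3
    have : q % 2 = 1 := by omega
    rw [this] at h3
    norm_num at h3
  have hnr' : q - 1 = 4 * 2 ^ m * r := by rw [hnr]; ring
  have hm2 : 4 * 2 ^ m * r = 2 * (2 ^ (m + 1) * r) := by ring
  have hq1 : q + 1 = 2 * (2 ^ (m + 1) * r + 1) := by omega
  obtain ⟨a, ha⟩ := exists_orderOf hF (d := 8 * 2 ^ m)
    ⟨(2 ^ (m + 1) * r + 1) * r, by rw [hq1, hnr']; ring⟩
  obtain ⟨i, hi⟩ := OrthUnitaryHerm.exists_norm_eq hF (a := (-1 : F)) (by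
    rw [Odd.neg_one_pow (Nat.odd_iff.2 (by omega))])
  set ι := i with hι
  have hi0 : ι ≠ 0 := by
    intro h
    rw [h] at hi
    simp at hi
  have hM4 : 1 ≤ 4 * 2 ^ m := by have : 0 < 2 ^ m := by positivity
                                 omega
  set k := 4 * 2 ^ m - 1 with hk
  have hqk : 8 * 2 ^ m ∣ q + k := by
    obtain ⟨j, rfl⟩ := hr
    refine ⟨j + 1, ?_⟩
    have : 8 * 2 ^ m * (j + 1) = 4 * 2 ^ m * (2 * j + 1) + 4 * 2 ^ m := by ring
    omega
  have hkk : 8 * 2 ^ m * (2 * 2 ^ m - 1) + 1 = k * k := by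
    rw [hk]
    obtain ⟨w, hw⟩ : ∃ w, 2 * 2 ^ m = w + 1 := Nat.exists_eq_succ_of_ne_zero (by positivity)
    rw [show 8 * 2 ^ m = 4 * (w + 1) by rw [← hw]; ring, show 4 * 2 ^ m = 2 * (w + 1) by rw [← hw]; ring,
      hw, Nat.add_sub_cancel, show 2 * (w + 1) - 1 = 2 * w + 1 by omega]
    ring
  set b := a ^ k with hb
  have hab : b * a ^ q = 1 := by
    rw [hb, ← pow_add, add_comm]
    exact orderOf_dvd_iff_pow_eq_one.1 (ha ▸ hqk)
  have hbk : b ^ k = a := by
    rw [hb, ← pow_mul, ← hkk, pow_add, pow_mul, ← ha, pow_orderOf_eq_one, one_pow, one_mul, pow_one]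
  let Pm : GL (Fin 2) F := Matrix.GeneralLinearGroup.mkOfDetNeZero !![1, 1; ι, -ι] (by
    rw [Matrix.det_fin_two_of, one_mul, one_mul, show -ι - ι = (-2) * ι by ring]
    exact mul_ne_zero (neg_ne_zero.2 h2) hi0)
  have hPy : S1217.dg 1 (-1) * Pm = Pm * sw F := by
    apply Units.ext
    simp [Pm, S1217.dg, sw, Matrix.GeneralLinearGroup.mkOfDetNeZero, Matrix.mul_fin_two]
  have hK : ∀ u v, Cfsg.hermForm 2 F q ((Pm : Matrix (Fin 2) (Fin 2) F) *ᵥ u)
      ((Pm : Matrix (Fin 2) (Fin 2) F) *ᵥ v) = 2 * (u 0 * v 1 ^ q + u 1 * v 0 ^ q) := by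
    intro u v
    have hi' : ι * ι ^ q = -1 := by rw [← pow_succ']; exact hi
    simp only [Pm, Matrix.GeneralLinearGroup.mkOfDetNeZero, Cfsg.hermForm, Fin.sum_univ_two]
    simp [Matrix.mulVec, dotProduct, OrthUnitaryHerm.add_pow_q hF, OrthUnitaryHerm.neg_pow_q hF,
      mul_pow]
    linear_combination ((u 0 - u 1) * v 0 ^ q - (u 0 - u 1) * v 1 ^ q) * hi'
  let G0 := Cfsg.preserving (Units.coeHom (Matrix (Fin 2) (Fin 2) F)) (Cfsg.hermForm 2 F q)
  set D := S1217.dg a b with hD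
  have hxmem : Pm * D * Pm⁻¹ ∈ G0 := by
    intro u v
    simp only [Units.coeHom_apply, Units.val_mul, ← Matrix.mulVec_mulVec]
    rw [hK]
    have e : ∀ w : Fin 2 → F, ((Pm : GL (Fin 2) F) : Matrix (Fin 2) (Fin 2) F) *ᵥ
        (((Pm⁻¹ : GL (Fin 2) F) : Matrix (Fin 2) (Fin 2) F) *ᵥ w) = w := fun w => by
      rw [Matrix.mulVec_mulVec, ← Units.val_mul, mul_inv_cancel]; simp
    conv_rhs => rw [← e u, ← e v, hK]
    have hab' : (b : F) * (a : F) ^ q = 1 := by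
      rw [← Units.val_pow_eq_pow_val, ← Units.val_mul, hab, Units.val_one]
    have hba : (a : F) * (b : F) ^ q = 1 := by
      have h := congrArg (fun t : F => t ^ q) hab'
      simp only [mul_pow, one_pow] at h
      rw [OrthUnitaryHerm.pow_q_q hF] at h
      linear_combination h
    generalize ((Pm⁻¹ : GL (Fin 2) F) : Matrix (Fin 2) (Fin 2) F) *ᵥ u = u'
    generalize ((Pm⁻¹ : GL (Fin 2) F) : Matrix (Fin 2) (Fin 2) F) *ᵥ v = v'
    simp [hD, S1217.dg, Matrix.mulVec, dotProduct, Fin.sum_univ_two, mul_pow]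
    left
    linear_combination (u' 0 * v' 1 ^ q) * hba + (u' 1 * v' 0 ^ q) * hab'
  let x : G0 := ⟨Pm * D * Pm⁻¹, hxmem⟩
  let y : G0 := ⟨S1217.dg 1 (-1), dg_mem q (by simp) (by
    rw [← pow_succ', Units.val_neg, Units.val_one]
    exact Even.neg_one_pow (Nat.even_iff.2 (by omega)))⟩
  have hy : y * y = 1 := Subtype.ext (by
    show S1217.dg 1 (-1) * S1217.dg 1 (-1) = (1 : GL (Fin 2) F)
    rw [S1217.dg_mul]; simp [S1217.dg_one])
  have hpow : ∀ j : ℕ, (Pm * D * Pm⁻¹) ^ j = Pm * S1217.dg (a ^ j) (b ^ j) * Pm⁻¹ := fun j => by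
    rw [conj_pow, hD, S1217.dg_pow]
  have hxo : orderOf x = 8 * 2 ^ m := by
    rw [← Subgroup.orderOf_coe, ← ha]
    refine Nat.dvd_antisymm (orderOf_dvd_of_pow_eq_one ?_) (orderOf_dvd_of_pow_eq_one ?_)
    · show (Pm * D * Pm⁻¹) ^ orderOf a = 1
      rw [hpow, pow_orderOf_eq_one, hb, ← pow_mul, mul_comm, pow_mul, pow_orderOf_eq_one, one_pow,
        S1217.dg_one, mul_one, mul_inv_cancel]
    · have h := pow_orderOf_eq_one (x : GL (Fin 2) F)
      rw [show (x : GL (Fin 2) F) = Pm * D * Pm⁻¹ from rfl, hpow, conj_eq_one_iff] at h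
      have h' := congrArg (fun g : GL (Fin 2) F => (g : Matrix (Fin 2) (Fin 2) F) 0 0) h
      simp [S1217.dg] at h'
      rw [← Units.val_pow_eq_pow_val, Units.val_eq_one] at h'
      exact h'
  have hrel : y * x * y⁻¹ = x ^ (4 * 2 ^ m - 1) := Subtype.ext (by
    show S1217.dg 1 (-1) * (Pm * D * Pm⁻¹) * (S1217.dg 1 (-1))⁻¹ = (Pm * D * Pm⁻¹) ^ k
    rw [hpow, ← hb, hbk]
    have hyP : S1217.dg 1 (-1) = Pm * sw F * Pm⁻¹ := by rw [← hPy, mul_inv_cancel_right]
    rw [hyP, hD]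
    calc _ = Pm * (sw F * S1217.dg a b * (sw F)⁻¹) * Pm⁻¹ := by group
      _ = _ := by rw [sw_dg])
  have hM : Nat.card (QDWreathQD.QD (2 ^ m)) = 2 ^ (m + 4) := by rw [QDWreathQD.card_eq]; ring
  have hcard : Nat.card G0 = 2 ^ (m + 4) * (q * ((2 ^ (m + 1) * r + 1) ^ 2 * r)) := by
    rw [card_GU2 hF, hq1, hnr']; ring
  have hodd : Odd (q * ((2 ^ (m + 1) * r + 1) ^ 2 * r)) :=
    (Nat.odd_iff.2 (by omega)).mul (((Even.mul_right (Nat.even_pow.2 ⟨by norm_num, by omega⟩) r).add_one.pow).mul hr)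
  obtain ⟨e⟩ := S1217.sylow_equiv P _ (QDWreathLift.qdLift_injective x y hxo hy hrel) hodd hcard hM
  exact QDWreathLift.isQuasiDihedral_of_mulEquiv rfl e


/-- Let F be a finite field with q² elements, q odd, let GU be the subgroup of GL(2,F) preserving the Hermitian form u₁v₁^q + u₂v₂^q, and P a Sylow 2-subgroup of GU. If q ≡ 1 (mod 4) then P is quasi-dihedral; if q ≡ 3 (mod 4) then P is wreathed. -/
theorem result {F : Type*} [Field F] [Fintype F] (q : ℕ) (hF : Fintype.card F = q ^ 2) (hq : Odd q) (P : Sylow 2 ↥(Cfsg.preserving (Units.coeHom (Matrix (Fin 2) (Fin 2) F)) (Cfsg.hermForm 2 F q))) : (q % 4 = 1 → Cfsg.IsQuasiDihedral (P : Subgroup ↥(Cfsg.preserving (Units.coeHom (Matrix (Fin 2) (Fin 2) F)) (Cfsg.hermForm 2 F q)))) ∧ (q % 4 = 3 → Cfsg.IsWreathed (P : Subgroup ↥(Cfsg.preserving (Units.coeHom (Matrix (Fin 2) (Fin 2) F)) (Cfsg.hermForm 2 F q)))) := by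
  refine ⟨fun h => qd_case hF h ?_ P, fun h => wreathed_case hF h P⟩
  exact OrthUnitaryHerm.two_le_q hF

end Cfsg.Agent.S1218
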