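import Cfsg.Statements.S1219
import Mathlib

set_option autoImplicit false
open scoped MatrixGroups
open Cfsg

namespace Cfsg.Agent.S1219

open Matrix

variable {F : Type*} [Field F]

/-- The diagonal matrix `diag(1, -1, -1)`. -/
def dd (F : Type*) [Field F] : Matrix.SpecialLinearGroup (Fin 3) F :=
  ⟨!![(1 : F), 0, 0; 0, -1, 0; 0, 0, -1], by simp [Matrix.det_fin_three]⟩

/-- The matrix `diag(det A⁻¹, A)`. -/
def blockFun (A : GL (Fin 2) F) : Matrix.SpecialLinearGroup (Fin 3) F :=
  ⟨!![((Matrix.GeneralLinearGroup.det A)⁻¹ : Fˣ).1, 0, 0;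
      0, (A : Matrix (Fin 2) (Fin 2) F) 0 0, (A : Matrix (Fin 2) (Fin 2) F) 0 1;
      0, (A : Matrix (Fin 2) (Fin 2) F) 1 0, (A : Matrix (Fin 2) (Fin 2) F) 1 1], by
    have h : (Matrix.GeneralLinearGroup.det A : F) = (A : Matrix (Fin 2) (Fin 2) F).det := rfl
    rw [Matrix.det_fin_three]
    have e := (Matrix.GeneralLinearGroup.det A).inv_mul
    rw [h, Matrix.det_fin_two] at e
    simp only [Matrix.of_apply, Matrix.cons_val', Matrix.cons_val_zero, Matrix.cons_val_one,
      Matrix.cons_val, Matrix.empty_val', Matrix.cons_val_fin_one]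
    linear_combination e⟩

/-- The embedding `A ↦ diag(det A⁻¹, A)`. -/
def block : GL (Fin 2) F →* Matrix.SpecialLinearGroup (Fin 3) F :=
  MonoidHom.mk' blockFun fun A B => by
    apply Subtype.ext
    ext i j
    rw [Matrix.SpecialLinearGroup.coe_mul, Matrix.mul_apply, Fin.sum_univ_three]
    fin_cases i <;> fin_cases j <;>
      simp [blockFun, Matrix.mul_apply, Fin.sum_univ_two, mul_comm]

theorem block_coe (A : GL (Fin 2) F) :
    ((block A : Matrix.SpecialLinearGroup (Fin 3) F) : Matrix (Fin 3) (Fin 3) F) =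
    !![((Matrix.GeneralLinearGroup.det A)⁻¹ : Fˣ).1, 0, 0;
      0, (A : Matrix (Fin 2) (Fin 2) F) 0 0, (A : Matrix (Fin 2) (Fin 2) F) 0 1;
      0, (A : Matrix (Fin 2) (Fin 2) F) 1 0, (A : Matrix (Fin 2) (Fin 2) F) 1 1] := rfl

theorem dd_coe : ((dd F : Matrix.SpecialLinearGroup (Fin 3) F) : Matrix (Fin 3) (Fin 3) F) =
    !![(1 : F), 0, 0; 0, -1, 0; 0, 0, -1] := rfl

theorem eq_zero_of_eq_neg (h2 : (2 : F) ≠ 0) {x : F} (h : x = -x) : x = 0 := by
  have : (2 : F) * x = 0 := by rw [two_mul]; nth_rewrite 1 [h]; exact neg_add_cancel x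
  exact (mul_eq_zero.1 this).resolve_left h2

theorem block_comm (A : GL (Fin 2) F) : block A * dd F = dd F * block A := by
  apply Subtype.ext
  ext i j
  rw [Matrix.SpecialLinearGroup.coe_mul, Matrix.SpecialLinearGroup.coe_mul, Matrix.mul_apply,
    Matrix.mul_apply, Fin.sum_univ_three, Fin.sum_univ_three]
  fin_cases i <;> fin_cases j <;> simp [block_coe, dd_coe]

theorem exists_block (h2 : (2 : F) ≠ 0) (B : Matrix.SpecialLinearGroup (Fin 3) F)
    (hB : B * dd F = dd F * B) : ∃ A, block A = B := by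
  have e : ∀ i j, ((B * dd F : Matrix.SpecialLinearGroup (Fin 3) F) : Matrix (Fin 3) (Fin 3) F) i j
      = ((dd F * B : Matrix.SpecialLinearGroup (Fin 3) F) : Matrix (Fin 3) (Fin 3) F) i j :=
    fun i j => by rw [hB]
  have h01 : (B : Matrix (Fin 3) (Fin 3) F) 0 1 = 0 := by
    have := e 0 1
    simp [dd_coe, Matrix.mul_apply, Fin.sum_univ_three] at this
    exact eq_zero_of_eq_neg h2 this.symm
  have h02 : (B : Matrix (Fin 3) (Fin 3) F) 0 2 = 0 := by
    have := e 0 2
    simp [dd_coe, Matrix.mul_apply, Fin.sum_univ_three] at this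
    exact eq_zero_of_eq_neg h2 this.symm
  have h10 : (B : Matrix (Fin 3) (Fin 3) F) 1 0 = 0 := by
    have := e 1 0
    simp [dd_coe, Matrix.mul_apply, Fin.sum_univ_three] at this
    exact eq_zero_of_eq_neg h2 this
  have h20 : (B : Matrix (Fin 3) (Fin 3) F) 2 0 = 0 := by
    have := e 2 0
    simp [dd_coe, Matrix.mul_apply, Fin.sum_univ_three] at this
    exact eq_zero_of_eq_neg h2 this
  set M : Matrix (Fin 2) (Fin 2) F := !![(B : Matrix (Fin 3) (Fin 3) F) 1 1,
    (B : Matrix (Fin 3) (Fin 3) F) 1 2; (B : Matrix (Fin 3) (Fin 3) F) 2 1,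
    (B : Matrix (Fin 3) (Fin 3) F) 2 2] with hM
  have hd : (B : Matrix (Fin 3) (Fin 3) F) 0 0 * M.det = 1 := by
    have h := B.2
    rw [Matrix.det_fin_three, h01, h02] at h
    rw [hM, Matrix.det_fin_two_of]
    linear_combination h
  have hM0 : M.det ≠ 0 := fun h => by
    rw [h, mul_zero] at hd
    exact zero_ne_one hd
  refine ⟨Matrix.GeneralLinearGroup.mkOfDetNeZero M hM0, ?_⟩
  apply Subtype.ext
  ext i j
  fin_cases i <;> fin_cases j <;>
    simp [block_coe, Matrix.GeneralLinearGroup.mkOfDetNeZero, hM, h01, h02, h10, h20]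
  rw [hM, Matrix.det_fin_two_of] at hd
  simpa using (eq_inv_of_mul_eq_one_left hd).symm

/-- Every involution of `SL₃(F)` is conjugate in `SL₃(F)` to `diag(1, -1, -1)`. -/
theorem exists_conj (h2 : (2 : F) ≠ 0) (a : Matrix.SpecialLinearGroup (Fin 3) F) (ha : a * a = 1)
    (ha1 : a ≠ 1) : ∃ g, g * dd F = a * g := by
  classical
  set f : (Fin 3 → F) →ₗ[F] (Fin 3 → F) := Matrix.toLin' (a : Matrix (Fin 3) (Fin 3) F) with hf
  have hff : ∀ x, f (f x) = x := fun x => by
    rw [hf, ← LinearMap.comp_apply, ← Matrix.toLin'_mul, ← Matrix.SpecialLinearGroup.coe_mul, ha]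
    simp
  set P := LinearMap.ker (f - LinearMap.id) with hP
  set N := LinearMap.ker (f + LinearMap.id) with hN
  have memP : ∀ x, x ∈ P ↔ f x = x := fun x => by
    rw [hP, LinearMap.mem_ker, LinearMap.sub_apply, LinearMap.id_apply, sub_eq_zero]
  have memN : ∀ x, x ∈ N ↔ f x = -x := fun x => by
    rw [hN, LinearMap.mem_ker, LinearMap.add_apply, LinearMap.id_apply, add_eq_zero_iff_eq_neg]
  have hc : IsCompl P N := by
    constructor
    · rw [Submodule.disjoint_def]
      intro x hx hx'
      funext i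
      exact eq_zero_of_eq_neg h2 (congrFun ((memP x).1 hx ▸ (memN x).1 hx') i)
    · rw [codisjoint_iff, eq_top_iff]
      intro x _
      refine Submodule.mem_sup.2 ⟨(2 : F)⁻¹ • (x + f x), ?_, (2 : F)⁻¹ • (x - f x), ?_, ?_⟩
      · rw [memP, map_smul, map_add, hff, add_comm]
      · rw [memN, map_smul, map_sub, hff, ← smul_neg, neg_sub]
      · rw [← smul_add, show x + f x + (x - f x) = (2 : F) • x by rw [two_smul]; abel,
          smul_smul, inv_mul_cancel₀ h2, one_smul]
  let b := ((Module.finBasis F P).prod (Module.finBasis F N)).map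
    (Submodule.prodEquivOfIsCompl P N hc)
  have hbl : ∀ i, f (b (Sum.inl i)) = b (Sum.inl i) := fun i => by
    have : b (Sum.inl i) = (Module.finBasis F P i : Fin 3 → F) := by simp [b]
    rw [this]; exact (memP _).1 (Module.finBasis F P i).2
  have hbr : ∀ i, f (b (Sum.inr i)) = -b (Sum.inr i) := fun i => by
    have : b (Sum.inr i) = (Module.finBasis F N i : Fin 3 → F) := by simp [b]
    rw [this]; exact (memN _).1 (Module.finBasis F N i).2
  have hmat : LinearMap.toMatrix b b f = Matrix.diagonal (Sum.elim (fun _ => 1) (fun _ => -1)) := by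
    ext i j
    rw [LinearMap.toMatrix_apply]
    rcases j with j | j
    · rw [hbl, b.repr_self, Finsupp.single_apply, Matrix.diagonal_apply]
      by_cases h : Sum.inl j = i
      · subst h; simp
      · simp [h, Ne.symm h]
    · rw [hbr, map_neg, Finsupp.neg_apply, b.repr_self, Finsupp.single_apply, Matrix.diagonal_apply]
      by_cases h : Sum.inr j = i
      · subst h; simp
      · simp [h, Ne.symm h]
  have hdet : ((-1 : F)) ^ (Module.finrank F N) = 1 := by
    have h := LinearMap.det_toMatrix b f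
    rw [hmat, hf, LinearMap.det_toLin', a.2, Matrix.det_diagonal] at h
    simpa using h
  have hsum : Module.finrank F P + Module.finrank F N = 3 := by
    rw [Submodule.finrank_add_eq_of_isCompl hc, Module.finrank_fin_fun]
  have hne : (-1 : F) ≠ 1 := fun h => h2 (by linear_combination -h)
  have hN2 : Module.finrank F N = 2 := by
    have hN3 : Module.finrank F N ≤ 3 := by omega
    rcases (show Module.finrank F N = 0 ∨ Module.finrank F N = 1 ∨ Module.finrank F N = 2 ∨
      Module.finrank F N = 3 by omega) with hk | hk | hk | hk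
    · exfalso
      apply ha1
      have hid : f = LinearMap.id := LinearMap.ext fun x => by
        have hNbot : N = ⊥ := Submodule.finrank_eq_zero.1 hk
        have : P = ⊤ := by simpa [hNbot] using hc.sup_eq_top
        exact (memP x).1 (this ▸ Submodule.mem_top)
      apply Subtype.ext
      rw [hf, ← Matrix.toLin'_one] at hid
      exact Matrix.toLin'.injective hid
    · exact absurd (by simpa [hk] using hdet) hne
    · exact hk
    · exact absurd (by simpa [hk, pow_succ] using hdet) hne
  have hP1 : Module.finrank F P = 1 := by omega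
  let e : Fin (Module.finrank F P) ⊕ Fin (Module.finrank F N) ≃ Fin 3 :=
    ((finCongr hP1).sumCongr (finCongr hN2)).trans finSumFinEquiv
  let b' := b.reindex e
  have h0 : f (b' 0) = b' 0 := by
    have : e.symm 0 = Sum.inl ⟨0, by omega⟩ := by
      rw [Equiv.symm_apply_eq]; rfl
    simp only [b', Module.Basis.reindex_apply, this, hbl]
  have h1 : f (b' 1) = -b' 1 := by
    have : e.symm 1 = Sum.inr ⟨0, by omega⟩ := by
      rw [Equiv.symm_apply_eq]; rfl
    simp only [b', Module.Basis.reindex_apply, this, hbr]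
  have h2' : f (b' 2) = -b' 2 := by
    have : e.symm 2 = Sum.inr ⟨1, by omega⟩ := by
      rw [Equiv.symm_apply_eq]; rfl
    simp only [b', Module.Basis.reindex_apply, this, hbr]
  set g := (Pi.basisFun F (Fin 3)).toMatrix b' with hg
  have hgd : IsUnit g.det := by
    have := (Pi.basisFun F (Fin 3)).invertibleToMatrix b'
    exact Matrix.isUnit_det_of_invertible g
  set c : F := g.det⁻¹ with hcdef
  let g' : Matrix (Fin 3) (Fin 3) F := g * !![c, 0, 0; 0, 1, 0; 0, 0, 1]
  have hg' : g'.det = 1 := by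
    simp only [g', Matrix.det_mul]
    rw [Matrix.det_fin_three !![c, 0, 0; 0, 1, 0; 0, 0, 1]]
    simp [hcdef, hgd.ne_zero]
  obtain ⟨γ, hγ⟩ : ∃ γ : Matrix.SpecialLinearGroup (Fin 3) F,
      (γ : Matrix (Fin 3) (Fin 3) F) = g' := ⟨⟨g', hg'⟩, rfl⟩
  refine ⟨γ, ?_⟩
  have hcol : ∀ i j, ((a : Matrix (Fin 3) (Fin 3) F) * g) i j = f (b' j) i := fun i j => by
    simp [hf, hg, Matrix.mul_apply, Matrix.toLin'_apply, Matrix.mulVec, dotProduct,
      Module.Basis.toMatrix_apply]
  have hag : (a : Matrix (Fin 3) (Fin 3) F) * g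
      = g * !![(1 : F), 0, 0; 0, -1, 0; 0, 0, -1] := by
    ext i j
    rw [hcol]
    fin_cases j <;>
      simp [h0, h1, h2', hg, Matrix.mul_apply, Fin.sum_univ_three, Module.Basis.toMatrix_apply]
  apply Subtype.ext
  rw [Matrix.SpecialLinearGroup.coe_mul, Matrix.SpecialLinearGroup.coe_mul, dd_coe, hγ]
  show g * !![c, 0, 0; 0, 1, 0; 0, 0, 1] * !![(1 : F), 0, 0; 0, -1, 0; 0, 0, -1] = (a : Matrix (Fin 3) (Fin 3) F) * (g * !![c, 0, 0; 0, 1, 0; 0, 0, 1])
  rw [← mul_assoc, hag, mul_assoc, mul_assoc]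
  congr 1
  ext i j
  fin_cases i <;> fin_cases j <;> simp [Matrix.mul_apply, Fin.sum_univ_three]


/-- Let F be a finite field of odd order q and t an involution of PSL(3,F). Then C(t) is isomorphic to the quotient of GL(2,F) by a central subgroup of order gcd(q−1, 3). -/
theorem result {F : Type*} [Field F] [Fintype F] (hF : Odd (Fintype.card F)) (t : Matrix.ProjectiveSpecialLinearGroup (Fin 3) F) (ht : orderOf t = 2) : ∃ (Z : Subgroup (GL (Fin 2) F)) (_ : Z.Normal), Z ≤ Subgroup.center (GL (Fin 2) F) ∧ Nat.card Z = Nat.gcd (Fintype.card F - 1) 3 ∧ Nonempty (↥(Subgroup.centralizer ({t} : Set (Matrix.ProjectiveSpecialLinearGroup (Fin 3) F))) ≃* GL (Fin 2) F ⧸ Z) := by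
  have h2 : (2 : F) ≠ 0 := by
    intro h
    have : ringChar F = 2 := by
      have := ringChar.dvd (R := F) (x := 2) (by exact_mod_cast h)
      rcases (Nat.dvd_prime Nat.prime_two).1 this with h1 | h1
      · exact absurd h1 (CharP.ringChar_ne_one (R := F))
      · exact h1
    exact Nat.not_even_iff_odd.2 hF
      (Nat.even_iff.2 (FiniteField.even_card_of_char_two this))
  set Z₀ := Subgroup.center (Matrix.SpecialLinearGroup (Fin 3) F) with hZ₀
  set π : Matrix.SpecialLinearGroup (Fin 3) F →* Matrix.ProjectiveSpecialLinearGroup (Fin 3) F :=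
    QuotientGroup.mk' Z₀ with hπ
  have hker : ∀ x, π x = 1 ↔ x ∈ Z₀ := fun x => QuotientGroup.eq_one_iff x
  have hcube : ∀ c ∈ Z₀, c * c * c = 1 := by
    intro c hc
    obtain ⟨r, hr, hr'⟩ := Matrix.SpecialLinearGroup.mem_center_iff.1 hc
    rw [Fintype.card_fin] at hr
    apply Subtype.ext
    rw [Matrix.SpecialLinearGroup.coe_mul, Matrix.SpecialLinearGroup.coe_mul, ← hr', ← map_mul,
      ← map_mul, show r * r * r = 1 by rw [← hr]; ring, map_one]
    rfl
  obtain ⟨a₀, ha₀⟩ := QuotientGroup.mk'_surjective Z₀ t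
  have hsq : a₀ * a₀ ∈ Z₀ := (hker _).1 (by
    rw [map_mul, hπ, ha₀, ← pow_two, ← ht, pow_orderOf_eq_one])
  set a := a₀ * a₀ * a₀ with ha
  have hta : π a = t := by
    rw [ha, map_mul, (hker _).2 hsq, one_mul, hπ, ha₀]
  have haa : a * a = 1 := by
    have := hcube _ hsq
    rw [ha]; simp only [mul_assoc] at this ⊢; exact this
  have ha1 : a ≠ 1 := by
    intro h
    rw [h, map_one] at hta
    rw [← hta, orderOf_one] at ht
    omega
  obtain ⟨g, hg⟩ := exists_conj h2 a haa ha1
  have hga : a = g * dd F * g⁻¹ := by rw [hg, mul_inv_cancel_right]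
  let φ : GL (Fin 2) F →* Matrix.SpecialLinearGroup (Fin 3) F :=
    (MulAut.conj g).toMonoidHom.comp block
  have hφa : ∀ A, φ A * a = a * φ A := fun A => by
    show g * block A * g⁻¹ * a = a * (g * block A * g⁻¹)
    rw [hga]
    calc g * block A * g⁻¹ * (g * dd F * g⁻¹) = g * (block A * dd F) * g⁻¹ := by group
      _ = g * (dd F * block A) * g⁻¹ := by rw [block_comm]
      _ = g * dd F * g⁻¹ * (g * block A * g⁻¹) := by group
  let ψ : GL (Fin 2) F →* Subgroup.centralizer ({t} : Set (Matrix.ProjectiveSpecialLinearGroup (Fin 3) F)) :=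
    (π.comp φ).codRestrict _ (fun A => by
      rw [Subgroup.mem_centralizer_singleton_iff, ← hta, MonoidHom.comp_apply, ← map_mul, ← map_mul,
        hφa])
  have hsurj : Function.Surjective ψ := by
    rintro ⟨y, hy⟩
    obtain ⟨x, rfl⟩ := QuotientGroup.mk'_surjective Z₀ y
    have hc : x * a * x⁻¹ * a⁻¹ ∈ Z₀ := (hker _).1 (by
      rw [map_mul, map_mul, map_mul, map_inv, map_inv, hta, hπ,
        Subgroup.mem_centralizer_singleton_iff.1 hy]
      simp)
    have hc2 := hcube _ hc
    set c := x * a * x⁻¹ * a⁻¹ with hcdef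
    have hcc : c * c = 1 := by
      have hca : c * a = x * a * x⁻¹ := by rw [hcdef, inv_mul_cancel_right]
      have hcomm : a * c = c * a := (Subgroup.mem_center_iff.1 hc a)
      calc c * c = c * c * (a * a) := by rw [haa, mul_one]
        _ = (c * a) * (c * a) := by rw [mul_assoc c a, ← mul_assoc a c a, hcomm]; group
        _ = x * (a * a) * x⁻¹ := by rw [hca]; group
        _ = 1 := by rw [haa]; group
    rw [hcc, one_mul] at hc2
    have hxa : x * a = a * x := by
      rw [hcdef, mul_inv_eq_one, mul_inv_eq_iff_eq_mul] at hc2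
      exact hc2
    obtain ⟨A, hA⟩ := exists_block h2 (g⁻¹ * x * g) (by
      calc g⁻¹ * x * g * dd F = g⁻¹ * (x * a) * g := by rw [hga]; group
        _ = g⁻¹ * (a * x) * g := by rw [hxa]
        _ = dd F * (g⁻¹ * x * g) := by rw [hga]; group)
    refine ⟨A, Subtype.ext ?_⟩
    show π (g * block A * g⁻¹) = π x
    rw [hA]; congr 1; group
  have hkmem : ∀ A, A ∈ ψ.ker ↔ ∃ r : F, r ^ 3 = 1 ∧
      (A : Matrix (Fin 2) (Fin 2) F) = Matrix.scalar (Fin 2) r := by
    intro A
    have h1 : A ∈ ψ.ker ↔ block A ∈ Z₀ := by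
      rw [MonoidHom.mem_ker, ← Subtype.coe_inj]
      show π (g * block A * g⁻¹) = 1 ↔ _
      rw [hker]
      have hn : Z₀.Normal := inferInstance
      constructor
      · intro h
        have := hn.conj_mem _ h g⁻¹
        rwa [show g⁻¹ * (g * block A * g⁻¹) * g⁻¹⁻¹ = block A by group] at this
      · exact fun h => hn.conj_mem _ h g
    rw [h1, Matrix.SpecialLinearGroup.mem_center_iff, Fintype.card_fin]
    refine exists_congr fun r => and_congr_right fun hr => ?_
    constructor
    · intro h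
      have e := fun i j => congrFun (congrFun h i) j
      ext i j
      fin_cases i <;> fin_cases j
      · simpa [block_coe, Matrix.scalar_apply] using (e 1 1).symm
      · simpa [block_coe, Matrix.scalar_apply] using (e 1 2).symm
      · simpa [block_coe, Matrix.scalar_apply] using (e 2 1).symm
      · simpa [block_coe, Matrix.scalar_apply] using (e 2 2).symm
    · intro h
      have hdet : (Matrix.GeneralLinearGroup.det A : F) = r * r := by
        show (A : Matrix (Fin 2) (Fin 2) F).det = r * r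
        rw [h, Matrix.det_fin_two]; simp [Matrix.scalar_apply]
      have hr0 : r ≠ 0 := fun h0 => by simp [h0] at hr
      have hinv : (((Matrix.GeneralLinearGroup.det A)⁻¹ : Fˣ) : F) = r := by
        rw [Units.val_inv_eq_inv_val, hdet]
        field_simp
        linear_combination -hr
      ext i j
      fin_cases i <;> fin_cases j <;>
        simp [block_coe, Matrix.scalar_apply, h, hinv]
  refine ⟨ψ.ker, inferInstance, ?_, ?_, ⟨(QuotientGroup.quotientKerEquivOfSurjective ψ hsurj).symm⟩⟩
  · intro A hA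
    obtain ⟨r, -, hA⟩ := (hkmem A).1 hA
    rw [Subgroup.mem_center_iff]
    intro B
    apply Units.ext
    rw [Units.val_mul, Units.val_mul, hA]
    exact (Matrix.scalar_commute r (Commute.all r) _).symm
  · rw [← Nat.card_eq_fintype_card, ← Nat.card_units F]
    rw [← IsCyclic.card_powMonoidHom_ker (G := Fˣ) 3]
    have hmem : ∀ u : (powMonoidHom 3 : Fˣ →* Fˣ).ker, Units.map
        (Matrix.scalar (Fin 2) : F →+* Matrix (Fin 2) (Fin 2) F).toMonoidHom u.1 ∈ ψ.ker := by
      intro u
      refine (hkmem _).2 ⟨(u.1 : F), ?_, rfl⟩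
      have := MonoidHom.mem_ker.1 u.2
      rw [powMonoidHom_apply] at this
      rw [← Units.val_pow_eq_pow_val, this, Units.val_one]
    refine (Nat.card_congr (Equiv.ofBijective (β := ψ.ker) (fun u => ⟨_, hmem u⟩) ⟨?_, ?_⟩)).symm
    · intro u v h
      have := congrArg (fun z : ψ.ker => (((z : GL (Fin 2) F) : Matrix (Fin 2) (Fin 2) F) 0 0)) h
      simp [Matrix.scalar_apply] at this
      exact Subtype.ext (Units.ext this)
    · rintro ⟨A, hA⟩
      obtain ⟨r, hr, hA'⟩ := (hkmem A).1 hA
      refine ⟨⟨Units.mk0 r (fun h0 => by simp [h0] at hr), ?_⟩, Subtype.ext (Units.ext hA'.symm)⟩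
      rw [MonoidHom.mem_ker, powMonoidHom_apply]
      exact Units.ext hr

end Cfsg.Agent.S1219
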