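import Cfsg.Statements.S1228
import Mathlib
import Cfsg.Agent.Lib.ElemCentralizerGroup
-- import your own Cfsg.Agent.* helpers here

set_option autoImplicit false
open Cfsg
open Cfsg.Agent Cfsg.Agent.ElemCentralizerGroup

namespace Cfsg.Agent.S1228

/-- Let G be a finite group with a Sylow 2-subgroup T that is neither cyclic nor normal, such that the centralizer of every involution is an elementary abelian 2-group; put H = N_G(T), let u be an involution outside H and D = H ∩ uHu⁻¹. Then N_G(D) = D ⊔ ⟨u⟩, and a coset gH is fixed by every element of D exactly when gH = H or gH = uH. -/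
theorem result {G : Type*} [Group G] [Finite G] (T : Sylow 2 G) (hnc : ¬ IsCyclic (T : Subgroup G)) (hnn : ¬ (T : Subgroup G).Normal) (hC : ∀ t : G, orderOf t = 2 → IsMulCommutative (Subgroup.centralizer ({t} : Set G)) ∧ ∀ c ∈ Subgroup.centralizer ({t} : Set G), c ^ 2 = 1) (u : G) (hu : orderOf u = 2) (huH : u ∉ Subgroup.normalizer ((T : Subgroup G) : Set G)) : Subgroup.normalizer ((Subgroup.normalizer ((T : Subgroup G) : Set G) ⊓ (Subgroup.normalizer ((T : Subgroup G) : Set G)).map (MulAut.conj u).toMonoidHom : Subgroup G) : Set G) = (Subgroup.normalizer ((T : Subgroup G) : Set G) ⊓ (Subgroup.normalizer ((T : Subgroup G) : Set G)).map (MulAut.conj u).toMonoidHom) ⊔ Subgroup.zpowers u ∧ ∀ g : G, ((∀ d ∈ Subgroup.normalizer ((T : Subgroup G) : Set G) ⊓ (Subgroup.normalizer ((T : Subgroup G) : Set G)).map (MulAut.conj u).toMonoidHom, d • (QuotientGroup.mk g : G ⧸ Subgroup.normalizer ((T : Subgroup G) : Set G)) = QuotientGroup.mk g) ↔ (QuotientGroup.mk g : G ⧸ Subgroup.normalizer ((T : Subgroup G) : Set G)) = QuotientGroup.mk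 1 ∨ (QuotientGroup.mk g : G ⧸ Subgroup.normalizer ((T : Subgroup G) : Set G)) = QuotientGroup.mk u) := by
  have h : Hyp T := ⟨hnc, hnn, hC⟩
  change Subgroup.normalizer (DD T u : Set G) = DD T u ⊔ Subgroup.zpowers u ∧
    ∀ g : G, ((∀ d ∈ DD T u, d • (QuotientGroup.mk g : G ⧸ HH T) = QuotientGroup.mk g) ↔
      (QuotientGroup.mk g : G ⧸ HH T) = QuotientGroup.mk 1 ∨ (QuotientGroup.mk g : G ⧸ HH T) = QuotientGroup.mk u)
  have hsmul : ∀ d g : G, d • (QuotientGroup.mk g : G ⧸ HH T) = QuotientGroup.mk g ↔ g⁻¹ * d * g ∈ HH T := by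
    intro d g
    rw [eq_comm]
    show (QuotientGroup.mk g : G ⧸ HH T) = QuotientGroup.mk (d * g) ↔ _
    rw [QuotientGroup.eq, mul_assoc]
  constructor
  · apply le_antisymm
    · intro n hn
      rw [Subgroup.mem_normalizer_iff] at hn
      by_cases hnH : n ∈ HH T
      · exact Subgroup.mem_sup_left (h.normalizer_inf hu huH hnH fun d hd => (hn d).1 hd)
      · have hfx := h.fixed hu huH hnH (fun d hd => by
          have : n⁻¹ * d * n ∈ DD T u := (hn _).2 (by simpa [mul_assoc] using hd)
          exact ((h.mem_DD_iff hu huH).1 this).1)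
        have hm : u⁻¹ * n ∈ HH T := QuotientGroup.eq.1 hfx.symm
        have hd := h.normalizer_inf hu huH hm fun d hd => by
          have h1 := h.normalizes hu huH ((hn d).1 hd)
          rw [SignalizerStrongEmb.involution_inv hu] at h1 ⊢
          simpa [mul_assoc, SignalizerStrongEmb.involution_inv hu] using h1
        have hsum := mul_mem (Subgroup.mem_sup_right (Subgroup.mem_zpowers u)) (Subgroup.mem_sup_left hd)
          (s := DD T u ⊔ Subgroup.zpowers u)
        simpa using hsum
    · refine sup_le Subgroup.le_normalizer (Subgroup.zpowers_le.2 ?_)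
      rw [Subgroup.mem_normalizer_iff]
      intro d
      refine ⟨fun hd => h.normalizes hu huH hd, fun hd => ?_⟩
      have h1 := h.normalizes hu huH hd
      have e : u * (u * d * u⁻¹) * u⁻¹ = (u * u) * d * (u * u)⁻¹ := by group
      rw [e, SignalizerStrongEmb.involution_mul_self hu, inv_one, one_mul, mul_one] at h1
      exact h1
  · intro g
    constructor
    · intro hfx
      by_cases hg : g ∈ HH T
      · left
        rw [eq_comm, QuotientGroup.eq]
        simpa using hg
      · exact Or.inr (h.fixed hu huH hg fun d hd => (hsmul d g).1 (hfx d hd))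
    · rintro (e | e) d hd
      · rw [e, hsmul, inv_one, one_mul, mul_one]; exact ((h.mem_DD_iff hu huH).1 hd).1
      · rw [e, hsmul]
        have := ((h.mem_DD_iff hu huH).1 hd).2
        rwa [SignalizerStrongEmb.involution_inv hu] at this ⊢

end Cfsg.Agent.S1228
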