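import Cfsg.Statements.S1231
import Mathlib
-- import your own Cfsg.Agent.* helpers here

set_option autoImplicit false
open Cfsg

namespace Cfsg.Agent.S1231

def Big {G : Type*} [Group G] (p k : ℕ) (X : Subgroup G) : Prop :=
  ∃ A : Subgroup G, A ≤ X ∧ (∀ a ∈ A, ∀ b ∈ A, a * b = b * a) ∧ (∀ a ∈ A, a ^ p = 1) ∧
    p ^ k < Nat.card A

theorem big_iff {G : Type*} [Group G] (p k : ℕ) (X : Subgroup G) :
    Big p k X ↔ ¬ Cfsg.PRankLE p k ↥X := by
  constructor
  · rintro ⟨A, hAX, hc, hp, hA⟩ hr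
    have h := hr (A.subgroupOf X) ⟨⟨fun a b => Subtype.ext (Subtype.ext
      (hc _ (Subgroup.mem_subgroupOf.1 a.2) _ (Subgroup.mem_subgroupOf.1 b.2)))⟩⟩
      (fun a ha => Subtype.ext (by simpa using hp _ (Subgroup.mem_subgroupOf.1 ha)))
    rw [Nat.card_congr (Subgroup.subgroupOfEquivOfLe hAX).toEquiv] at h
    omega
  · intro h
    simp only [Cfsg.PRankLE, not_forall, not_le] at h
    obtain ⟨A, hc, hp, hA⟩ := h
    refine ⟨A.map X.subtype, Subgroup.map_subtype_le A, ?_, ?_, ?_⟩
    · rintro _ ⟨a, ha, rfl⟩ _ ⟨b, hb, rfl⟩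
      have := hc.is_comm.comm ⟨a, ha⟩ ⟨b, hb⟩
      exact congrArg (fun z : A => ((z : X) : G)) this
    · rintro _ ⟨a, ha, rfl⟩
      rw [← map_pow, hp a ha, map_one]
    · rwa [Subgroup.card_map_of_injective X.subtype_injective]

theorem Big.mono {G : Type*} [Group G] {p k : ℕ} {X Y : Subgroup G} (h : Big p k X) (hXY : X ≤ Y) :
    Big p k Y := by
  obtain ⟨A, hA, h1⟩ := h
  exact ⟨A, hA.trans hXY, h1⟩

theorem Big.conj {G : Type*} [Group G] {p k : ℕ} {X : Subgroup G} (h : Big p k X) (c : G) :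
    Big p k (X.map (MulAut.conj c).toMonoidHom) := by
  obtain ⟨A, hA, hc, hp, hk⟩ := h
  refine ⟨A.map (MulAut.conj c).toMonoidHom, Subgroup.map_mono hA, ?_, ?_, ?_⟩
  · rintro _ ⟨a, ha, rfl⟩ _ ⟨b, hb, rfl⟩
    rw [← map_mul, hc a ha b hb, map_mul]
  · rintro _ ⟨a, ha, rfl⟩
    rw [← map_pow, hp a ha, map_one]
  · rwa [Subgroup.card_map_of_injective (MulAut.conj c).injective]

theorem map_map_conj {G : Type*} [Group G] (A : Subgroup G) (a b : G) :
    (A.map (MulAut.conj a).toMonoidHom).map (MulAut.conj b).toMonoidHom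
      = A.map (MulAut.conj (b * a)).toMonoidHom := by
  rw [Subgroup.map_map]
  congr 1
  ext x
  simp [mul_assoc]

theorem map_conj_one {G : Type*} [Group G] (A : Subgroup G) :
    A.map (MulAut.conj (1 : G)).toMonoidHom = A := by
  ext x
  simp

theorem conj_le_self {G : Type*} [Group G] {H X : Subgroup G} (hX : X ≤ H) {c : G} (hc : c ∈ H) :
    X.map (MulAut.conj c).toMonoidHom ≤ H := by
  rintro _ ⟨x, hx, rfl⟩
  exact mul_mem (mul_mem hc (hX hx)) (inv_mem hc)

theorem conj_into {G : Type*} [Group G] [Finite G] {p : ℕ} [Fact p.Prime] (C A : Subgroup G)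
    (hA : IsPGroup p A) (hAC : A ≤ C) (P : Sylow p C) :
    ∃ c ∈ C, A.map (MulAut.conj c).toMonoidHom ≤ (P : Subgroup C).map C.subtype := by
  have hA' : IsPGroup p (A.subgroupOf C) :=
    hA.of_equiv (Subgroup.subgroupOfEquivOfLe hAC).symm
  obtain ⟨Q, hQ⟩ := hA'.exists_le_sylow
  obtain ⟨c, hc⟩ := MulAction.exists_smul_eq C Q P
  refine ⟨c, c.2, ?_⟩
  rintro _ ⟨a, ha, rfl⟩
  refine ⟨c * ⟨a, hAC ha⟩ * c⁻¹, ?_, by simp⟩
  rw [← hc, Sylow.coe_subgroup_smul]
  exact Subgroup.smul_mem_pointwise_smul (⟨a, hAC ha⟩ : C) (MulAut.conj c) _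
    (hQ (Subgroup.mem_subgroupOf.2 ha))

theorem conj_mem_normalizer {G : Type*} [Group G] {X : Subgroup G} {r : G} (g : G)
    (hr : r ∈ Subgroup.normalizer (X : Set G)) :
    g * r * g⁻¹ ∈ Subgroup.normalizer (X.map (MulAut.conj g).toMonoidHom : Set G) := by
  rw [Subgroup.mem_normalizer_iff] at hr ⊢
  intro y
  simp only [Subgroup.mem_map_equiv, MulAut.conj_symm_apply]
  rw [hr (g⁻¹ * y * g)]
  simp [mul_assoc]

theorem mem_normalizer_of_map {G : Type*} [Group G] (A : Subgroup G) (g : G)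
    (h : A.map (MulAut.conj g).toMonoidHom = A) : g ∈ Subgroup.normalizer (A : Set G) := by
  rw [Subgroup.mem_normalizer_iff]
  intro x
  have h' : g * x * g⁻¹ ∈ A.map (MulAut.conj g).toMonoidHom ↔ x ∈ A := by
    simp [Subgroup.mem_map_equiv, mul_assoc]
  rw [h] at h'
  exact h'.symm

theorem core_lemma {G : Type*} [Group G] [Finite G] {p : ℕ} [Fact p.Prime] (k : ℕ)
    (H : Subgroup G) (P : Sylow p H)
    (hN : ∀ X : Subgroup G, X ≤ (P : Subgroup H).map H.subtype → Big p k X →
      Subgroup.normalizer (X : Set G) ≤ H) :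
    ∀ (X : Subgroup G), IsPGroup p X → X ≤ H → Big p k X → ∀ g : G,
      X.map (MulAut.conj g).toMonoidHom ≤ H → g ∈ H := by
  set Pm := (P : Subgroup H).map H.subtype with hPm
  have hN' : ∀ X : Subgroup G, IsPGroup p X → X ≤ H → Big p k X →
      Subgroup.normalizer (X : Set G) ≤ H := by
    intro X hX hXH hb r hr
    obtain ⟨c, hc, hcX⟩ := conj_into H X hX hXH P
    have h1 := hN _ hcX (hb.conj c) (conj_mem_normalizer c hr)
    simpa [mul_assoc] using mul_mem (mul_mem (inv_mem hc) h1) hc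
  suffices h : ∀ (d : ℕ) (X : Subgroup G), Nat.card G - Nat.card X = d → IsPGroup p X → X ≤ H →
      Big p k X → ∀ g : G, X.map (MulAut.conj g).toMonoidHom ≤ H → g ∈ H from
    fun X => h _ X rfl
  intro d
  induction d using Nat.strong_induction_on with
  | _ d ih =>
    intro X hd hX hXH hb g hg
    obtain ⟨c, hc, hcX⟩ := conj_into H X hX hXH P
    replace hcX : X.map (MulAut.conj c).toMonoidHom ≤ Pm := hcX
    rcases eq_or_lt_of_le hcX with heq | hlt
    · obtain ⟨e, he, heX⟩ := conj_into H _ (hX.map (MulAut.conj g).toMonoidHom) hg P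
      replace heX : (X.map (MulAut.conj g).toMonoidHom).map (MulAut.conj e).toMonoidHom ≤ Pm := heX
      have h2 : ((X.map (MulAut.conj g).toMonoidHom).map (MulAut.conj e).toMonoidHom) = Pm := by
        refine Subgroup.eq_of_le_of_card_ge heX (le_of_eq ?_)
        rw [← heq, Subgroup.card_map_of_injective (MulAut.conj c).injective,
          Subgroup.card_map_of_injective (MulAut.conj e).injective,
          Subgroup.card_map_of_injective (MulAut.conj g).injective]
      have h3 : Pm.map (MulAut.conj (e * g * c⁻¹)).toMonoidHom = Pm := by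
        conv_rhs => rw [← h2, map_map_conj]
        rw [← heq, map_map_conj, inv_mul_cancel_right]
      have hbP : Big p k Pm := by rw [← heq]; exact hb.conj c
      have h4 := hN Pm le_rfl hbP (mem_normalizer_of_map _ _ h3)
      simpa [mul_assoc] using mul_mem (mul_mem (inv_mem he) h4) hc
    · set Y := X.map (MulAut.conj c).toMonoidHom with hY
      have : Group.IsNilpotent Pm := (P.isPGroup'.map H.subtype).isNilpotent
      have hlt' : Y.subgroupOf Pm < ⊤ := by
        rw [lt_top_iff_ne_top, Ne, Subgroup.subgroupOf_eq_top]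
        exact not_le_of_gt hlt
      have hnc := normalizerCondition_of_isNilpotent (G := Pm) _ hlt'
      obtain ⟨r, hr, hrY⟩ := SetLike.exists_of_lt hnc
      have hrn : (r : G) ∈ Subgroup.normalizer (Y : Set G) := by
        rw [Subgroup.mem_normalizer_iff]
        intro y
        rw [Subgroup.mem_normalizer_iff] at hr
        constructor
        · intro hy
          simpa [Subgroup.mem_subgroupOf] using (hr ⟨y, hcX hy⟩).1 (Subgroup.mem_subgroupOf.2 hy)
        · intro hy
          have h5 : (r : G)⁻¹ * ((r : G) * y * (r : G)⁻¹) * r ∈ Pm :=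
            mul_mem (mul_mem (inv_mem r.2) (hcX hy)) r.2
          simp only [mul_assoc, inv_mul_cancel_left, inv_mul_cancel, mul_one] at h5
          simpa [Subgroup.mem_subgroupOf] using
            (hr ⟨y, h5⟩).2 (Subgroup.mem_subgroupOf.2 (by simpa using hy))
      set R := (Pm ⊓ Subgroup.normalizer (Y : Set G)).map (MulAut.conj c⁻¹).toMonoidHom with hR
      have hXY : X = Y.map (MulAut.conj c⁻¹).toMonoidHom := by
        rw [hY, map_map_conj, inv_mul_cancel, map_conj_one]
      have hXR : X ≤ R := by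
        conv_lhs => rw [hXY]
        exact Subgroup.map_mono (le_inf hcX Subgroup.le_normalizer)
      have hlt2 : Nat.card X < Nat.card R := by
        refine lt_of_le_of_ne (Subgroup.card_le_of_le hXR) fun he => ?_
        have h6 : X = R := Subgroup.eq_of_le_of_card_ge hXR he.ge
        have h7 : c⁻¹ * (r : G) * c ∈ R := ⟨r, ⟨r.2, hrn⟩, by simp⟩
        rw [← h6, hXY, Subgroup.mem_map_equiv] at h7
        simp [mul_assoc] at h7
        exact hrY (Subgroup.mem_subgroupOf.2 h7)
      have hRp : IsPGroup p R := ((P.isPGroup'.map H.subtype).to_le inf_le_left).map _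
      have hRH : R ≤ H := conj_le_self (inf_le_left.trans (Subgroup.map_subtype_le _)) (inv_mem hc)
      have hRg : R.map (MulAut.conj g).toMonoidHom ≤ H := by
        refine le_trans ?_ (hN' _ (hX.map (MulAut.conj g).toMonoidHom) hg (hb.conj g))
        rw [hR, map_map_conj]
        rintro _ ⟨s, ⟨_, hs⟩, rfl⟩
        have h8 := conj_mem_normalizer (g * c⁻¹) hs
        rw [hY, map_map_conj, inv_mul_cancel_right] at h8
        exact h8
      have hle : Nat.card R ≤ Nat.card G := Subgroup.card_le_card_group R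
      exact ih _ (by omega) R rfl hRp hRH (hb.mono hXR) g hRg


/-- Let H be a subgroup of the finite group G, p a prime, k ≥ 1, and P a Sylow p-subgroup of H whose p-rank is at least k. Then N_G(X) ≤ H for every subgroup X of P of p-rank at least k if and only if H ∩ gHg⁻¹ has p-rank less than k for every g ∉ H. -/
theorem result {G : Type*} [Group G] [Finite G] {p : ℕ} [Fact p.Prime] (k : ℕ) (hk : 1 ≤ k) (H : Subgroup G) (P : Sylow p ↥H) (hP : ¬ Cfsg.PRankLE p (k - 1) ↥(P : Subgroup ↥H)) : (∀ X : Subgroup G, X ≤ (P : Subgroup ↥H).map H.subtype → ¬ Cfsg.PRankLE p (k - 1) ↥X → Subgroup.normalizer (X : Set G) ≤ H) ↔ (∀ g : G, g ∉ H → Cfsg.PRankLE p (k - 1) ↥(H ⊓ H.map (MulAut.conj g).toMonoidHom)) := by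
  constructor
  · intro hN g hg
    by_contra hr
    obtain ⟨A, hA, hc, hpow, hcard⟩ := (big_iff p (k - 1) _).2 hr
    have hAp : IsPGroup p A := fun a => ⟨1, Subtype.ext (by simpa using hpow _ a.2)⟩
    have hg' : A.map (MulAut.conj g⁻¹).toMonoidHom ≤ H := by
      rintro _ ⟨a, ha, rfl⟩
      obtain ⟨_, b, hb, rfl⟩ := hA ha
      simpa [mul_assoc] using hb
    exact hg (inv_mem_iff.1 (core_lemma (k - 1) H P
      (fun X hX hb => hN X hX ((big_iff _ _ _).1 hb)) A hAp (hA.trans inf_le_left)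
      ⟨A, le_rfl, hc, hpow, hcard⟩ g⁻¹ hg'))
  · intro hr X hX hb n hn
    by_contra hnH
    have hXH : X ≤ H := hX.trans (Subgroup.map_subtype_le _)
    refine (big_iff p (k - 1) _).1 (((big_iff _ _ _).2 hb).mono (le_inf hXH ?_)) (hr n hnH)
    intro x hx
    exact ⟨n⁻¹ * x * n, hXH ((Subgroup.mem_normalizer_iff.1 hn _).2 (by simpa [mul_assoc] using hx)),
      by simp [mul_assoc]⟩

end Cfsg.Agent.S1231
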