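import Cfsg.Statements.S1233
import Cfsg.Agent.Lib.SelfCentE8Extra94

set_option autoImplicit false
open Cfsg

namespace Cfsg.Agent.S1233

open QuaternionGroup in
theorem quat_facts : (a 1 : QuaternionGroup 2) * a 1 = a 2 ∧ (xa 0 : QuaternionGroup 2) * xa 0 = a 2 ∧
    (xa 0 : QuaternionGroup 2) * a 1 = a 2 * (a 1 * xa 0) ∧ (a 2 : QuaternionGroup 2) * a 2 = 1 ∧
    (a 2 : QuaternionGroup 2) ≠ 1 ∧
    (∀ x : QuaternionGroup 2, x * a 1 = a 1 * x → x * xa 0 = xa 0 * x → x = 1 ∨ x = a 2) ∧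
    (∀ x : QuaternionGroup 2, ∃ m : Fin 4, ∃ b : Fin 2, x = xa 0 ^ (b : ℕ) * a 1 ^ (m : ℕ)) := by
  decide

/-- Let S be a finite 2-group and Q a subgroup of order 32 generated by two elementwise-commuting subgroups Q₁, Q₂ each isomorphic to the quaternion group of order 8 (so Q = Q₁ ∗ Q₂). If C_S(Q) ≤ Q, then every section of S has 2-rank at most 4. -/
theorem result {S : Type*} [Group S] [Finite S] (hS : IsPGroup 2 S) (Q Q₁ Q₂ : Subgroup S) (e₁ : Q₁ ≃* QuaternionGroup 2) (e₂ : Q₂ ≃* QuaternionGroup 2) (hcomm : ∀ a ∈ Q₁, ∀ b ∈ Q₂, a * b = b * a) (hQ : Q₁ ⊔ Q₂ = Q) (hQ32 : Nat.card Q = 32) (hC : Subgroup.centralizer (Q : Set S) ≤ Q) : Cfsg.SectionalPRankLE 2 4 S := by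
  classical
  obtain ⟨q1, q2, q3, q4, q5, qc, qgen⟩ := quat_facts
  let f₁ : QuaternionGroup 2 →* S := Q₁.subtype.comp e₁.symm.toMonoidHom
  let f₂ : QuaternionGroup 2 →* S := Q₂.subtype.comp e₂.symm.toMonoidHom
  have hi₁ : Function.Injective f₁ := Subtype.val_injective.comp e₁.symm.injective
  have hi₂ : Function.Injective f₂ := Subtype.val_injective.comp e₂.symm.injective
  have hm₁ : ∀ x, f₁ x ∈ Q₁ := fun x => (e₁.symm x).2
  have hm₂ : ∀ x, f₂ x ∈ Q₂ := fun x => (e₂.symm x).2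
  have hs₁ : ∀ u ∈ Q₁, ∃ x, f₁ x = u := fun u hu =>
    ⟨e₁ ⟨u, hu⟩, congrArg Subtype.val (e₁.symm_apply_apply ⟨u, hu⟩)⟩
  have hs₂ : ∀ u ∈ Q₂, ∃ x, f₂ x = u := fun u hu =>
    ⟨e₂ ⟨u, hu⟩, congrArg Subtype.val (e₂.symm_apply_apply ⟨u, hu⟩)⟩
  have hc : ∀ x y, Commute (f₁ x) (f₂ y) := fun x y => hcomm _ (hm₁ x) _ (hm₂ y)
  have hzz : f₁ (QuaternionGroup.a 2) = f₂ (QuaternionGroup.a 2) := by
    by_contra hne
    have hdisj : ∀ u, u ∈ Q₁ → u ∈ Q₂ → u = 1 := by
      intro u h1 h2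
      obtain ⟨x, hx⟩ := hs₁ u h1
      obtain ⟨y, hy⟩ := hs₂ u h2
      have hx' : ∀ t, x * t = t * x := fun t => hi₁ (by
        rw [map_mul, map_mul, hx, ← hy]; exact (hc t y).symm.eq)
      have hy' : ∀ t, y * t = t * y := fun t => hi₂ (by
        rw [map_mul, map_mul, hy, ← hx]; exact (hc x t).eq)
      rcases qc x (hx' _) (hx' _) with rfl | rfl
      · rw [← hx, map_one]
      · rcases qc y (hy' _) (hy' _) with rfl | rfl
        · rw [← hy, map_one]
        · exact absurd (hx.trans hy.symm) hne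
    let φ : Q₁ × Q₂ → Q := fun v => ⟨v.1 * v.2, hQ ▸ mul_mem (Subgroup.mem_sup_left v.1.2)
      (Subgroup.mem_sup_right v.2.2)⟩
    have hφ : Function.Injective φ := by
      intro v w h
      have h' : (v.1 : S) * v.2 = w.1 * w.2 := congrArg Subtype.val h
      have e : (w.1 : S)⁻¹ * v.1 = w.2 * (v.2 : S)⁻¹ := by
        rw [eq_mul_inv_iff_mul_eq, mul_assoc, h', inv_mul_cancel_left]
      have h1 := hdisj _ (mul_mem (inv_mem w.1.2) v.1.2) (e ▸ mul_mem w.2.2 (inv_mem v.2.2))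
      have ea : (v.1 : S) = w.1 := (inv_mul_eq_one.mp h1).symm
      rw [ea] at h'
      exact Prod.ext (Subtype.ext ea) (Subtype.ext (mul_left_cancel h'))
    have := Nat.card_le_card_of_injective φ hφ
    rw [Nat.card_prod, Nat.card_congr e₁.toEquiv, Nat.card_congr e₂.toEquiv, hQ32,
      Nat.card_eq_fintype_card, QuaternionGroup.card] at this
    omega
  let g : SelfCentE8Extra94.Gens S :=
    { i := f₁ (QuaternionGroup.a 1), j := f₁ (QuaternionGroup.xa 0)
      k := f₂ (QuaternionGroup.a 1), l := f₂ (QuaternionGroup.xa 0)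
      z := f₁ (QuaternionGroup.a 2)
      z2 := by rw [← map_mul, q4, map_one]
      z1 := fun h => q5 (hi₁ (by rw [h, map_one]))
      ii := by rw [← map_mul, q1]
      jj := by rw [← map_mul, q2]
      kk := by rw [← map_mul, q1, hzz]
      ll := by rw [← map_mul, q2, hzz]
      ji := by rw [← map_mul, q3, map_mul, map_mul]
      lk := by rw [← map_mul, q3, map_mul, map_mul, hzz]
      ki := (hc _ _).symm, li := (hc _ _).symm, kj := (hc _ _).symm, lj := (hc _ _).symm }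
  have hgQ : g.Q = Q := by
    refine le_antisymm ?_ ?_
    · rw [SelfCentE8Extra94.Gens.Q, Subgroup.closure_le, ← hQ]
      rintro w (rfl | rfl | rfl | rfl)
      exacts [Subgroup.mem_sup_left (hm₁ _), Subgroup.mem_sup_left (hm₁ _),
        Subgroup.mem_sup_right (hm₂ _), Subgroup.mem_sup_right (hm₂ _)]
    · rw [← hQ]
      refine sup_le (fun u hu => ?_) (fun u hu => ?_)
      · obtain ⟨x, rfl⟩ := hs₁ u hu
        obtain ⟨m, b, rfl⟩ := qgen x
        rw [map_mul, map_pow, map_pow]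
        exact mul_mem (pow_mem (SelfCentE8Extra94.mem_j g) _) (pow_mem (SelfCentE8Extra94.mem_i g) _)
      · obtain ⟨x, rfl⟩ := hs₂ u hu
        obtain ⟨m, b, rfl⟩ := qgen x
        rw [map_mul, map_pow, map_pow]
        exact mul_mem (pow_mem (SelfCentE8Extra94.mem_l g) _) (pow_mem (SelfCentE8Extra94.mem_k g) _)
  obtain ⟨A, hAc, hAs, hA8, hself⟩ :=
    SelfCentE8Extra94.exists_self_centralizing g hS (by rw [hgQ]; exact hC)
  have htop : IsPGroup 2 (⊤ : Subgroup S) := hS.to_subgroup ⊤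
  exact SectionalFourGroup.sectional_of_sylow ⟨⊤, htop, fun _ hle => le_antisymm le_top hle⟩
    fun H _ => SelfCentE8Main94.frattiniLE_four hS A hAc hAs hA8 hself H

end Cfsg.Agent.S1233
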