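import Cfsg.Statements.S1234
import Cfsg.Agent.Lib.SelfCentE8Main94

set_option autoImplicit false
open Cfsg

namespace Cfsg.Agent.S1234

/-- Let S be a finite 2-group and Q ≤ S a subgroup of order 32 having an elementary abelian subgroup E of order 16 and an involution s ∉ E whose centralizer in E has order 4 (so Q ≅ (Z₂ × Z₂) ≀ Z₂). If C_S(Z(Q)) = Q, then every section of S has 2-rank at most 4. -/
theorem result {S : Type*} [Group S] [Finite S] (hS : IsPGroup 2 S) (Q E : Subgroup S) (hEQ : E ≤ Q) (hE : Cfsg.IsElementaryAbelian 2 E) (hE16 : Nat.card E = 16) (hQ32 : Nat.card Q = 32) (s : S) (hsQ : s ∈ Q) (hsE : s ∉ E) (hs : orderOf s = 2) (hfix : Nat.card ↥(E ⊓ Subgroup.centralizer ({s} : Set S)) = 4) (hC : Subgroup.centralizer (((Subgroup.center Q).map Q.subtype : Subgroup S) : Set S) = Q) : Cfsg.SectionalPRankLE 2 4 S := by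
  classical
  have hc : ∀ x ∈ E, ∀ y ∈ E, x * y = y * x := fun x hx y hy =>
    congrArg Subtype.val (hE.1.is_comm.comm ⟨x, hx⟩ ⟨y, hy⟩)
  have he2 : ∀ x ∈ E, x * x = 1 := fun x hx => by rw [← sq]; exact hE.2 x hx
  have hs2 : s * s = 1 := by rw [← sq, ← hs]; exact pow_orderOf_eq_one s
  set F : Subgroup S := E ⊓ Subgroup.centralizer ({s} : Set S) with hF
  have hFmem : ∀ x, x ∈ F ↔ x ∈ E ∧ x * s = s * x := fun x => by
    rw [hF, Subgroup.mem_inf, SelfCentE8Base94.mem_cent]
  have hidx : (E.subgroupOf Q).index = 2 := by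
    have h := (E.subgroupOf Q).card_mul_index
    rw [Nat.card_congr (Subgroup.subgroupOfEquivOfLe hEQ).toEquiv, hE16, hQ32] at h
    omega
  have hcov : ∀ x ∈ Q, x ∈ E ∨ s * x ∈ E := fun x hx => by
    by_cases h : x ∈ E
    · exact Or.inl h
    · have h2 : ((⟨s, hsQ⟩ : Q) * ⟨x, hx⟩) ∈ E.subgroupOf Q := by
        rw [Subgroup.mul_mem_iff_of_index_two hidx]
        simp [Subgroup.mem_subgroupOf, hsE, h]
      exact Or.inr (Subgroup.mem_subgroupOf.mp h2)
  have hsF : ∀ x ∈ Q, x * s = s * x → x ∈ F ∨ s * x ∈ F := fun x hx hxs =>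
    (hcov x hx).imp (fun h => (hFmem x).mpr ⟨h, hxs⟩)
      fun h => (hFmem _).mpr ⟨h, by rw [mul_assoc, hxs]⟩
  -- the centre of `Q` is contained in `F`
  have hZ : ∀ z : Q, z ∈ Subgroup.center Q → (z : S) ∈ F := by
    intro z hz
    have hzc : ∀ y : S, y ∈ Q → (z : S) * y = y * z := fun y hy =>
      (congrArg Subtype.val (Subgroup.mem_center_iff.mp hz ⟨y, hy⟩)).symm
    have hzE : (z : S) ∈ E := by
      refine (hcov z z.2).resolve_right fun h => ?_
      have hall : E ≤ F := fun e he => (hFmem e).mpr ⟨he, by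
        have h1 := hc _ h e he
        rw [mul_assoc, hzc e (hEQ he), ← mul_assoc, ← mul_assoc] at h1
        exact (mul_right_cancel h1).symm⟩
      have := Subgroup.card_le_of_le hall
      rw [hE16, hfix] at this
      omega
    exact (hFmem _).mpr ⟨hzE, hzc s hsQ⟩
  let A : Subgroup S :=
    { carrier := {x | x ∈ Q ∧ x * s = s * x}
      one_mem' := ⟨one_mem Q, by rw [one_mul, mul_one]⟩
      mul_mem' := fun {x y} hx hy => ⟨mul_mem hx.1 hy.1, by
        rw [mul_assoc, hy.2, ← mul_assoc, hx.2, mul_assoc]⟩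
      inv_mem' := fun {x} hx => ⟨inv_mem hx.1, (Commute.inv_left (hx.2 : Commute x s)).eq⟩ }
  have hAmem : ∀ x, x ∈ A ↔ x ∈ Q ∧ x * s = s * x := fun x => Iff.rfl
  have hAcomm : ∀ x ∈ A, ∀ y ∈ A, x * y = y * x := by
    have hdec : ∀ x ∈ A, ∃ e ∈ F, x = e ∨ x = s * e := fun x hx => by
      rcases hsF x hx.1 hx.2 with h | h
      · exact ⟨x, h, Or.inl rfl⟩
      · exact ⟨s * x, h, Or.inr (by rw [← mul_assoc, hs2, one_mul])⟩
    intro x hx y hy
    obtain ⟨e, he, hxe⟩ := hdec x hx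
    obtain ⟨d, hd, hyd⟩ := hdec y hy
    have k1 : Commute s e := ((hFmem e).mp he).2.symm
    have k2 : Commute s d := ((hFmem d).mp hd).2.symm
    have k3 : Commute e d := hc e ((hFmem e).mp he).1 d ((hFmem d).mp hd).1
    rcases hxe with hxe | hxe <;> rcases hyd with hyd | hyd <;> rw [hxe, hyd]
    · exact k3.eq
    · exact (k1.symm.mul_right k3).eq
    · exact (k2.mul_left k3).eq
    · exact (((Commute.refl s).mul_right k2).mul_left (k1.symm.mul_right k3)).eq
  have hAsq : ∀ x ∈ A, x * x = 1 := by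
    intro x hx
    rcases hsF x hx.1 hx.2 with h | h
    · exact he2 x ((hFmem x).mp h).1
    · have h1 := he2 _ ((hFmem _).mp h).1
      rwa [show s * x * (s * x) = s * (x * s) * x by group, hx.2, ← mul_assoc s s, hs2, one_mul] at h1
  have hA8 : Nat.card A = 8 := by
    have hFA : F ≤ A := fun x hx => ⟨hEQ ((hFmem x).mp hx).1, ((hFmem x).mp hx).2⟩
    have hsA : s ∈ A := ⟨hsQ, rfl⟩
    have hi : (F.subgroupOf A).index = 2 := by
      rw [Subgroup.index_eq_two_iff]
      refine ⟨⟨s, hsA⟩, fun y => ?_⟩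
      simp only [Subgroup.mem_subgroupOf, Subgroup.coe_mul]
      have hys : (y : S) * s = s * y := y.2.2
      rw [hys]
      rcases hsF y y.2.1 y.2.2 with h | h
      · refine Or.inr ⟨h, fun h' => hsE ?_⟩
        have := mul_mem ((hFmem _).mp h').1 (inv_mem ((hFmem _).mp h).1)
        rwa [mul_inv_cancel_right] at this
      · refine Or.inl ⟨h, fun h' => hsE ?_⟩
        have := mul_mem ((hFmem _).mp h).1 (inv_mem ((hFmem _).mp h').1)
        rwa [mul_inv_cancel_right] at this
    have h := (F.subgroupOf A).card_mul_index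
    rw [hi, Nat.card_congr (Subgroup.subgroupOfEquivOfLe hFA).toEquiv, hfix] at h
    omega
  have hself : Subgroup.centralizer (A : Set S) = A := by
    refine le_antisymm (fun x hx => ?_) fun x hx =>
      Subgroup.mem_centralizer_iff.mpr fun y hy => hAcomm y hy x hx
    have hxs : x * s = s * x := (Subgroup.mem_centralizer_iff.mp hx s ⟨hsQ, rfl⟩).symm
    refine ⟨?_, hxs⟩
    rw [← hC]
    refine Subgroup.mem_centralizer_iff.mpr ?_
    rintro y ⟨z, hz, rfl⟩
    have hzF := (hFmem _).mp (hZ z hz)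
    exact Subgroup.mem_centralizer_iff.mp hx (Q.subtype z) ⟨hEQ hzF.1, hzF.2⟩
  have htop : IsPGroup 2 (⊤ : Subgroup S) := hS.to_subgroup ⊤
  exact SectionalFourGroup.sectional_of_sylow ⟨⊤, htop, fun _ hle => le_antisymm le_top hle⟩
    fun H _ => SelfCentE8Main94.frattiniLE_four hS A hAcomm hAsq hA8 hself H

end Cfsg.Agent.S1234
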