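import Cfsg.Statements.S1235
import Mathlib
import Cfsg.Agent.Lib.QDWreathQDSub
import Cfsg.Agent.Lib.SectionalFourGroupMain
-- import your own Cfsg.Agent.* helpers here

set_option autoImplicit false
open Cfsg
open Cfsg.Agent.QDWreathBase Cfsg.Agent.QDWreathQD Cfsg.Agent.QDWreathQDSub
open Cfsg.Agent.SectionalFourGroup

namespace Cfsg.Agent.S1235

theorem exists_cyclic {D : Type*} [Group D] [Finite D]
    (hD : (∃ m : ℕ, 2 ≤ m ∧ Nonempty (D ≃* DihedralGroup m)) ∨ Cfsg.IsQuasiDihedral D) :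
    ∃ X : Subgroup D, X.index = 2 ∧ IsCyclic X ∧
      ∀ w ∉ X, ∀ c ∈ X, w * c = c * w → c ^ 2 = 1 := by
  rcases hD with ⟨m, hm, ⟨e⟩⟩ | hQ
  · have : NeZero m := ⟨by omega⟩
    have hr : ∀ a, a ∈ Subgroup.zpowers (DihedralGroup.r (1 : ZMod m)) ↔
        ∃ i, a = DihedralGroup.r i := by
      intro a
      constructor
      · rintro ⟨k, rfl⟩; exact ⟨k, by simp⟩
      · rintro ⟨i, rfl⟩; exact ⟨(i.val : ℤ), by simp⟩
    refine ⟨(Subgroup.zpowers (DihedralGroup.r (1 : ZMod m))).map e.symm.toMonoidHom, ?_, ?_, ?_⟩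
    · refine (Subgroup.index_map_equiv _ e.symm).trans ?_
      refine Subgroup.index_eq_two_iff.2 ⟨DihedralGroup.sr 0, fun b => ?_⟩
      rw [hr, hr]
      rcases b with i | i <;> simp [xor_def]
    · exact isCyclic_of_surjective _ ((Subgroup.zpowers (DihedralGroup.r (1 : ZMod m))).equivMapOfInjective
        e.symm.toMonoidHom e.symm.injective).surjective
    · intro w hw c hc hwc
      obtain ⟨c, hc, rfl⟩ := hc
      obtain ⟨w, rfl⟩ := e.symm.surjective w
      have hw' : w ∉ Subgroup.zpowers (DihedralGroup.r (1 : ZMod m)) := fun h => hw ⟨w, h, rfl⟩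
      obtain ⟨i, rfl⟩ := (hr c).1 hc
      rw [hr] at hw'
      rcases w with j | j
      · exact absurd ⟨j, rfl⟩ hw'
      · have h1 : DihedralGroup.sr j * DihedralGroup.r i = DihedralGroup.r i * DihedralGroup.sr j :=
          e.symm.injective (by rw [map_mul, map_mul]; exact hwc)
        simp only [DihedralGroup.sr_mul_r, DihedralGroup.r_mul_sr, DihedralGroup.sr.injEq] at h1
        show (e.symm (DihedralGroup.r i)) ^ 2 = 1
        rw [← map_pow, sq, DihedralGroup.r_mul_r, show i + i = 0 by linear_combination h1,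
          DihedralGroup.r_zero, map_one]
  · obtain ⟨n, -, -, l, hl0, -, ⟨E⟩⟩ := exists_equiv hQ
    refine ⟨(MC l).map E.toMonoidHom, ?_, ?_, ?_⟩
    · refine (Subgroup.index_map_equiv _ E).trans ?_
      exact maxSub_index (Or.inr one_ne_zero)
    · have := MC_isCyclic (l := l)
      exact isCyclic_of_surjective _ ((MC l).equivMapOfInjective E.toMonoidHom E.injective).surjective
    · intro w hw c hc hwc
      obtain ⟨c, hc, rfl⟩ := hc
      obtain ⟨w, rfl⟩ := E.surjective w
      obtain ⟨j, _ | _⟩ := w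
      · exact absurd ⟨_, mem_MC.2 rfl, rfl⟩ hw
      · have h1 : c * ⟨j, true⟩ = (⟨j, true⟩ : QD l) * c := E.injective (by simpa using hwc.symm)
        show (E c) ^ 2 = 1
        rcases commute_true_iff.1 h1 with rfl | rfl | rfl | rfl
        · simp
        · rw [← map_pow, C_sq, map_one]
        all_goals exact absurd (mem_MC.1 hc) (by simp [C])

theorem relIndex_le_two {G : Type*} [Group G] [Finite G] {L H : Subgroup G}
    (h : ∀ a ∈ H, ∀ b ∈ H, a ∉ L → b ∉ L → a⁻¹ * b ∈ L) : L.relIndex H ≤ 2 := by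
  by_cases hHL : H ≤ L
  · rw [Subgroup.relIndex_eq_one.2 hHL]; omega
  obtain ⟨a, ha, haL⟩ := Set.not_subset.1 hHL
  have : L.relIndex H = 2 := by
    refine Subgroup.index_eq_two_iff.2 ⟨⟨a, ha⟩, fun b => ?_⟩
    simp only [Subgroup.mem_subgroupOf, Subgroup.coe_mul, Subgroup.coe_inv, xor_def]
    by_cases hb : (b : G) ∈ L
    · exact Or.inr ⟨hb, fun hh => haL (by
        have := Subgroup.mul_mem_cancel_left L hb |>.1 hh
        simpa using inv_mem this)⟩
    · refine Or.inl ⟨?_, hb⟩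
      have h1 := h a ha (b : G)⁻¹ (inv_mem b.2) haL (fun hh => hb (by simpa using inv_mem hh))
      have := inv_mem h1
      simpa using this
  omega

theorem direct_bound {G : Type*} [Group G] [Finite G] {T D B : Subgroup G}
    (hprod : Cfsg.IsInternalDirectProduct D B T) (hB : IsKleinFour B)
    (X : Subgroup D) (hX : X.index = 2) (hcyc : IsCyclic X) {U : Subgroup G} (hU : U ≤ T) :
    FrattiniLE 4 U := by
  intro K hKU hsq
  obtain ⟨hDT, hBT, hcomm, hdisj, hsup⟩ := hprod
  set XG := X.map D.subtype with hXG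
  have hXD : XG ≤ D := Subgroup.map_subtype_le X
  have hnorm : ∀ x ∈ XG, ∀ b ∈ B, x * b * x⁻¹ ∈ B := fun x hx b hb => by
    rw [hcomm x (hXD hx) b hb, mul_inv_cancel_right]; exact hb
  have hnormD : ∀ x ∈ D, ∀ b ∈ B, x * b * x⁻¹ ∈ B := fun x hx b hb => by
    rw [hcomm x hx b hb, mul_inv_cancel_right]; exact hb
  set Y := U ⊓ (XG ⊔ B) with hY
  set UB := U ⊓ B with hUB
  have hfUB : K.relIndex UB ≤ 4 := le_trans relIndex_le_card
    (le_trans (Subgroup.card_le_of_le inf_le_right) hB.card_four.le)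
  have hUY : Y.relIndex U ≤ 2 := by
    refine relIndex_le_two fun a ha b hb haY hbY => Subgroup.mem_inf.2 ⟨mul_mem (inv_mem ha) hb, ?_⟩
    obtain ⟨d, hd, e, he, rfl⟩ := mem_sup_of_le_normalizer hnormD
      (show a ∈ D ⊔ B by rw [hsup]; exact hU ha)
    obtain ⟨d', hd', e', he', rfl⟩ := mem_sup_of_le_normalizer hnormD
      (show b ∈ D ⊔ B by rw [hsup]; exact hU hb)
    have h1 : (⟨d, hd⟩ : D) ∉ X := fun h =>
      haY ⟨ha, Subgroup.mul_mem_sup ⟨_, h, rfl⟩ he⟩
    have h2 : (⟨d', hd'⟩ : D) ∉ X := fun h =>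
      hbY ⟨hb, Subgroup.mul_mem_sup ⟨_, h, rfl⟩ he'⟩
    have h3 : (⟨d, hd⟩⁻¹ * ⟨d', hd'⟩ : D) ∈ X := (Subgroup.mul_mem_iff_of_index_two hX).2
      (iff_of_false (fun h => h1 (by simpa using inv_mem h)) h2)
    have e1 : (d * e)⁻¹ * (d' * e') = (d⁻¹ * d') * (e⁻¹ * e') := by
      rw [mul_inv_rev, show e⁻¹ * d⁻¹ * (d' * e') = e⁻¹ * (d⁻¹ * d') * e' by group,
        ← hcomm _ (mul_mem (inv_mem hd) hd') _ (inv_mem he)]
      group
    rw [e1]
    exact Subgroup.mul_mem_sup ⟨_, h3, rfl⟩ (mul_mem (inv_mem he) he')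
  let V : Subgroup X :=
    { carrier := {x | ∃ b ∈ B, ((x : D) : G) * b ∈ U}
      one_mem' := ⟨1, one_mem B, by simp⟩
      mul_mem' := by
        rintro x y ⟨b, hb, hxb⟩ ⟨c, hc, hyc⟩
        refine ⟨b * c, mul_mem hb hc, ?_⟩
        have h := mul_mem hxb hyc
        rw [show ((x : D) : G) * b * (((y : D) : G) * c) = ((x : D) : G) * (b * ((y : D) : G)) * c
          by group, ← hcomm _ (y : D).2 b hb] at h
        simpa [mul_assoc] using h
      inv_mem' := by
        rintro x ⟨b, hb, hxb⟩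
        refine ⟨b⁻¹, inv_mem hb, ?_⟩
        have h := inv_mem hxb
        rw [mul_inv_rev, ← hcomm _ (inv_mem (x : D).2) _ (inv_mem hb)] at h
        simpa using h }
  obtain ⟨x0, hx0⟩ := IsCyclic.exists_generator (α := V)
  obtain ⟨b0, hb0, hu0⟩ := x0.2
  set u0 := (((x0 : X) : D) : G) * b0 with hu0def
  set L := K ⊔ UB with hL
  have hrep : ∀ y ∈ Y, ∃ i : ℤ, ∃ b ∈ UB, y = u0 ^ i * b := by
    intro y hy
    obtain ⟨x, hx, b, hb, rfl⟩ := mem_sup_of_le_normalizer hnorm hy.2
    obtain ⟨x', hx', rfl⟩ := hx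
    obtain ⟨i, hi⟩ := hx0 ⟨⟨x', hx'⟩, b, hb, hy.1⟩
    have hi' : (((x0 : X) : D) : G) ^ i = (x' : G) := by
      have := congrArg (fun v : V => (((v : X) : D) : G)) hi
      simpa using this
    refine ⟨i, b0 ^ (-i) * b, Subgroup.mem_inf.2 ⟨?_, mul_mem (zpow_mem hb0 _) hb⟩, ?_⟩
    · have h1 := mul_mem (inv_mem (zpow_mem hu0 i)) hy.1
      have hc : Commute (((x0 : X) : D) : G) b0 := hcomm _ ((x0 : X) : D).2 _ hb0
      rw [hc.mul_zpow, hi'] at h1
      simpa [mul_assoc] using h1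
    · have hc : Commute (((x0 : X) : D) : G) b0 := hcomm _ ((x0 : X) : D).2 _ hb0
      rw [hu0def, hc.mul_zpow, hi']
      simp [mul_assoc]
  have hYL : (Y ⊓ L).relIndex Y ≤ 2 := by
    rw [inf_comm, Subgroup.inf_relIndex_right]
    refine relIndex_le_two fun a ha b hb haL hbL => ?_
    obtain ⟨i, c, hc, rfl⟩ := hrep a ha
    obtain ⟨j, c', hc', rfl⟩ := hrep b hb
    have hsqu : u0 ^ (2 : ℤ) ∈ L := by
      rw [zpow_two]; exact Subgroup.mem_sup_left (hsq u0 hu0)
    have heven : ∀ k : ℤ, ∀ c ∈ UB, u0 ^ k * c ∉ L → ∃ t : ℤ, k = 2 * t + 1 := by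
      intro k c hc hk
      rcases Int.even_or_odd k with ⟨t, ht⟩ | ⟨t, ht⟩
      · exact absurd (mul_mem (by rw [ht, ← two_mul, zpow_mul]; exact zpow_mem hsqu t)
          (Subgroup.mem_sup_right hc)) hk
      · exact ⟨t, ht⟩
    obtain ⟨s, rfl⟩ := heven i c hc haL
    obtain ⟨t, rfl⟩ := heven j c' hc' hbL
    rw [show (u0 ^ (2 * s + 1) * c)⁻¹ * (u0 ^ (2 * t + 1) * c')
      = c⁻¹ * (u0 ^ (2 : ℤ)) ^ (t - s) * c' by rw [← zpow_mul]; group]
    exact mul_mem (mul_mem (inv_mem (Subgroup.mem_sup_right hc)) (zpow_mem hsqu _))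
      (Subgroup.mem_sup_right hc')
  have hfY : K.relIndex Y ≤ 4 * 2 := le_trans (relIndex_step inf_le_left)
    (Nat.mul_le_mul (le_trans (relIndex_sup_le hKU hsq inf_le_left inf_le_right) hfUB) hYL)
  calc K.relIndex U ≤ K.relIndex Y * Y.relIndex U := relIndex_step inf_le_left
    _ ≤ 4 * 2 * 2 := Nat.mul_le_mul hfY hUY
    _ = 2 ^ 4 := by norm_num

/-- Let G be a finite group, x an involution and T ≤ G a Sylow 2-subgroup of C_G(x) (T ≤ C_G(x) with |C_G(x) : T| odd) which is the internal direct product of a subgroup D that is dihedral (of order ≥ 4) or quasi-dihedral and a Klein four-subgroup B. Suppose that for every involution b ∈ B, T ≤ C_G(b) with |C_G(b) : T| odd. Then every section of G has 2-rank at most 4. -/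
theorem result {G : Type*} [Group G] [Finite G] (x : G) (hx : orderOf x = 2) (T D B : Subgroup G) (hT : IsPGroup 2 T) (hTx : T ≤ Subgroup.centralizer ({x} : Set G)) (hTxi : Odd (T.relIndex (Subgroup.centralizer ({x} : Set G)))) (hprod : Cfsg.IsInternalDirectProduct D B T) (hD : (∃ m : ℕ, 2 ≤ m ∧ Nonempty (D ≃* DihedralGroup m)) ∨ Cfsg.IsQuasiDihedral D) (hB : IsKleinFour B) (hTb : ∀ b ∈ B, orderOf b = 2 → T ≤ Subgroup.centralizer ({b} : Set G) ∧ Odd (T.relIndex (Subgroup.centralizer ({b} : Set G)))) : Cfsg.SectionalPRankLE 2 4 G := by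
  classical
  haveI := Fact.mk Nat.prime_two
  obtain ⟨X, hXi, hXcyc, hXc⟩ := exists_cyclic hD
  obtain ⟨S, hTS⟩ := hT.exists_le_sylow
  refine sectional_of_sylow S fun U hU => ?_
  obtain ⟨hDT, hBT, hcomm, hdisj, hsup⟩ := id hprod
  have hBsq : ∀ b ∈ B, b * b = 1 := fun b hb => by
    have h := IsKleinFour.mul_self (G := B) ⟨b, hb⟩
    exact congrArg Subtype.val h
  have hnormD : ∀ d ∈ D, ∀ b ∈ B, d * b * d⁻¹ ∈ B := fun d hd b hb => by
    rw [hcomm d hd b hb, mul_inv_cancel_right]; exact hb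
  have hdec : ∀ t ∈ T, ∃ d ∈ D, ∃ b ∈ B, t = d * b := fun t ht =>
    mem_sup_of_le_normalizer hnormD (show t ∈ D ⊔ B by rw [hsup]; exact ht)
  -- centralizers of members of B
  have hcb : ∀ b ∈ B, b ≠ 1 → ∀ s ∈ (S : Subgroup G), s * b = b * s → s ∈ T := by
    intro b hb hb1 s hs hsb
    have ho : orderOf b = 2 := orderOf_eq_prime (by rw [sq]; exact hBsq b hb) hb1
    obtain ⟨hTC, hodd⟩ := hTb b hb ho
    set R := (S : Subgroup G) ⊓ Subgroup.centralizer ({b} : Set G) with hR
    have hTR : T ≤ R := le_inf hTS hTC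
    have hdvd : T.relIndex R ∣ T.relIndex (Subgroup.centralizer ({b} : Set G)) :=
      Dvd.intro _ (Subgroup.relIndex_mul_relIndex T R _ hTR inf_le_right)
    obtain ⟨k, hk⟩ := two_pow_relIndex (H := T) S.isPGroup'
      (inf_le_left : R ≤ (S : Subgroup G))
    have h1 : T.relIndex R = 1 := by
      rcases Nat.eq_zero_or_pos k with h0 | h0
      · rw [hk, h0, pow_zero]
      · exact absurd (Nat.even_iff.1 ((even_iff_two_dvd).2
          ((hk ▸ dvd_pow_self 2 (by omega : k ≠ 0)).trans hdvd))) (by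
            rw [Nat.odd_iff.1 hodd]; omega)
    exact Subgroup.relIndex_eq_one.1 h1 (show s ∈ R from
      ⟨hs, Subgroup.mem_centralizer_iff.2 fun y hy => by rw [Set.mem_singleton_iff.1 hy, hsb]⟩)
  -- the central involutions of T
  let Ω : Subgroup G :=
    { carrier := {t | t ∈ T ∧ (∀ y ∈ T, t * y = y * t) ∧ t * t = 1}
      one_mem' := ⟨one_mem T, fun y _ => by simp, one_mul 1⟩
      mul_mem' := by
        rintro a b ⟨ha, hac, ha2⟩ ⟨hb, hbc, hb2⟩
        refine ⟨mul_mem ha hb, fun y hy => ?_, ?_⟩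
        · rw [mul_assoc, hbc y hy, ← mul_assoc, hac y hy, mul_assoc]
        · rw [mul_assoc, ← mul_assoc b a b, hbc a ha, mul_assoc a b b, hb2, mul_one, ha2]
      inv_mem' := by
        rintro a ⟨ha, hac, ha2⟩
        rw [inv_eq_of_mul_eq_one_right ha2]
        exact ⟨ha, hac, ha2⟩ }
  have hΩmem : ∀ {t : G}, t ∈ Ω ↔ t ∈ T ∧ (∀ y ∈ T, t * y = y * t) ∧ t * t = 1 := Iff.rfl
  have hBΩ : B ≤ Ω := fun b hb => hΩmem.2 ⟨hBT hb, fun y hy => by
    obtain ⟨d, hd, c, hc, rfl⟩ := hdec y hy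
    have hbc : b * c = c * b := by
      have e : ∀ z ∈ B, z⁻¹ = z := fun z hz => inv_eq_of_mul_eq_one_right (hBsq z hz)
      calc b * c = (b * c)⁻¹ := (e _ (mul_mem hb hc)).symm
        _ = c * b := by rw [mul_inv_rev, e b hb, e c hc]
    rw [← mul_assoc, ← hcomm d hd b hb, mul_assoc, hbc, mul_assoc], hBsq b hb⟩
  have hB4 : Nat.card B = 4 := hB.card_four
  by_cases hΩ8 : Nat.card Ω ≤ 8
  · -- T is the Sylow subgroup
    have hST : (S : Subgroup G) = T := by
      by_contra hne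
      obtain ⟨g0, hg0, hg0T, hg0n⟩ := exists_normalizing S.isPGroup' hTS (Ne.symm hne)
      obtain ⟨g, hg, hmin⟩ := Finset.exists_min_image
        ((Set.toFinite {y | y ∈ nor (S : Subgroup G) T ∧ y ∉ T}).toFinset) orderOf
        ⟨g0, by simpa using ⟨mem_nor.2 ⟨hg0, hg0n⟩, hg0T⟩⟩
      simp only [Set.Finite.mem_toFinset, Set.mem_ofPred_eq] at hg hmin
      obtain ⟨hgN, hgT⟩ := hg
      obtain ⟨hgS, hgn⟩ := mem_nor.1 hgN
      have hgg : g * g ∈ T := by
        by_contra hcon
        have h1 := hmin (g * g) ⟨mul_mem hgN hgN, hcon⟩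
        obtain ⟨k, hk⟩ := S.isPGroup' ⟨g, hgS⟩
        have hk' : g ^ (2 ^ k) = 1 := by simpa using congrArg Subtype.val hk
        obtain ⟨j, -, hj⟩ := (Nat.dvd_prime_pow Nat.prime_two).1 (orderOf_dvd_of_pow_eq_one hk')
        have hs1 : orderOf g ≠ 1 := fun h =>
          hgT (by rw [orderOf_eq_one_iff.1 h]; exact one_mem T)
        have heven : 2 ∣ orderOf g := by
          rw [hj]
          exact dvd_pow_self 2 (fun h => hs1 (by rw [hj, h, pow_zero]))
        have hpos := orderOf_pos g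
        rw [← sq, orderOf_pow_of_dvd (by norm_num) heven] at h1
        omega
      have hgΩ : ∀ t ∈ Ω, g * t * g⁻¹ ∈ Ω := by
        intro t ht
        obtain ⟨htT, htc, ht2⟩ := hΩmem.1 ht
        have hgi := (mem_nor.1 (inv_mem hgN)).2
        refine hΩmem.2 ⟨hgn t htT, fun y hy => ?_, ?_⟩
        · have h := htc _ (hgi y hy)
          rw [inv_inv] at h
          calc g * t * g⁻¹ * y = g * (t * (g⁻¹ * y * g)) * g⁻¹ := by group
            _ = g * ((g⁻¹ * y * g) * t) * g⁻¹ := by rw [h]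
            _ = y * (g * t * g⁻¹) := by group
        · rw [show g * t * g⁻¹ * (g * t * g⁻¹) = g * (t * t) * g⁻¹ by group, ht2, mul_one,
            mul_inv_cancel]
      let F : Subgroup G := Ω ⊓ Subgroup.centralizer ({g} : Set G)
      have hF : ∀ {t : G}, t ∈ F ↔ t ∈ Ω ∧ g * t = t * g := by
        intro t
        show t ∈ Ω ⊓ Subgroup.centralizer ({g} : Set G) ↔ _
        rw [Subgroup.mem_inf, Subgroup.mem_centralizer_iff]
        simp
      let d : Ω →* G := MonoidHom.mk' (fun t => g * (t : G) * g⁻¹ * (t : G)⁻¹) (fun a b => by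
        have h1 := mul_mem (hgΩ b b.2) (inv_mem b.2)
        calc g * ((a * b : Ω) : G) * g⁻¹ * ((a * b : Ω) : G)⁻¹
            = (g * a * g⁻¹) * (g * b * g⁻¹ * (b : G)⁻¹) * (a : G)⁻¹ := by
              rw [Subgroup.coe_mul]; group
          _ = (g * a * g⁻¹) * ((a : G)⁻¹ * (g * b * g⁻¹ * (b : G)⁻¹)) := by
              rw [mul_assoc, (hΩmem.1 h1).2.1 _ (inv_mem (hΩmem.1 a.2).1)]
          _ = _ := by group)
      have hrange : d.range ≤ F := by
        rintro _ ⟨t, rfl⟩
        obtain ⟨htT, htc, ht2⟩ := hΩmem.1 t.2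
        obtain ⟨h1, h2, h3⟩ := hΩmem.1 (hgΩ t t.2)
        refine hF.2 ⟨mul_mem (hgΩ t t.2) (inv_mem t.2), ?_⟩
        show g * (g * (t : G) * g⁻¹ * (t : G)⁻¹) = (g * (t : G) * g⁻¹ * (t : G)⁻¹) * g
        have hti : (t : G)⁻¹ = t := inv_eq_of_mul_eq_one_right ht2
        rw [hti]
        calc g * (g * (t : G) * g⁻¹ * t)
            = (g * g * t) * (g * g)⁻¹ * (g * t * g⁻¹) * g := by group
          _ = (t : G) * (g * t * g⁻¹) * g := by rw [← htc _ hgg, mul_inv_cancel_right]
          _ = _ := by rw [htc _ h1]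
      have hker : Nat.card d.ker ≤ Nat.card F :=
        Nat.card_le_card_of_injective
          (fun y : d.ker => (⟨((y : Ω) : G), hF.2 ⟨(y : Ω).2, by
            have h : g * ((y : Ω) : G) * g⁻¹ * ((y : Ω) : G)⁻¹ = 1 := y.2
            rwa [mul_inv_eq_one, mul_inv_eq_iff_eq_mul] at h⟩⟩ : F))
          (fun a b h => Subtype.ext (Subtype.ext (congrArg (fun z : F => (z : G)) h)))
      have hdis : F ⊓ B = ⊥ := (Subgroup.eq_bot_iff_forall _).2 fun y hy => by
        by_contra hy1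
        exact hgT (hcb y hy.2 hy1 g hgS (hF.1 hy.1).2)
      have hinj := Nat.card_le_card_of_injective
        (fun p : F × B => (⟨(p.1 : G) * p.2, mul_mem (hF.1 p.1.2).1 (hBΩ p.2.2)⟩ : Ω))
        (fun p q h => Subgroup.mul_injective_of_disjoint (disjoint_iff.2 hdis)
          (congrArg Subtype.val h))
      rw [Nat.card_prod, hB4] at hinj
      have hmul : Nat.card d.ker * Nat.card d.range = Nat.card Ω := by
        rw [← Subgroup.index_ker, Subgroup.card_mul_index]
      have hr := Subgroup.card_le_of_le hrange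
      have h2 : Nat.card Ω ≤ Nat.card F * Nat.card F := hmul ▸ Nat.mul_le_mul hker hr
      have hFpos : 0 < Nat.card F := Nat.card_pos
      nlinarith
    exact direct_bound hprod hB X hXi hXcyc (hST ▸ hU)
  · -- T is elementary abelian of order 16
    push Not at hΩ8
    set ΩD := Ω ⊓ D with hΩD
    have hle : Nat.card Ω ≤ Nat.card ΩD * 4 := by
      have h : ∀ t : Ω, ∃ p : ΩD × B, ((p.1 : G) * p.2 = (t : G)) := by
        intro t
        obtain ⟨d, hd, b, hb, htb⟩ := hdec t (hΩmem.1 t.2).1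
        have hdΩ : d ∈ Ω := by
          have h1 := mul_mem t.2 (inv_mem (hBΩ hb))
          rwa [htb, mul_inv_cancel_right] at h1
        exact ⟨(⟨d, hdΩ, hd⟩, ⟨b, hb⟩), htb.symm⟩
      choose f hf using h
      have := Nat.card_le_card_of_injective f (fun a b e => Subtype.ext (by rw [← hf a, ← hf b, e]))
      rwa [Nat.card_prod, hB4] at this
    obtain ⟨w, hwΩ, hwD, hwX⟩ : ∃ w, w ∈ Ω ∧ ∃ hwD : w ∈ D, (⟨w, hwD⟩ : D) ∉ X := by
      by_contra hcon
      push Not at hcon
      haveI := hXcyc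
      have : Fintype X := Fintype.ofFinite X
      have h2 := IsCyclic.card_pow_eq_one_le (α := X) (n := 2) (by norm_num)
      have h3 : Nat.card ΩD ≤ 2 := by
        refine le_trans (Nat.card_le_card_of_injective
          (fun y : ΩD => (⟨⟨⟨(y : G), y.2.2⟩, hcon _ y.2.1 y.2.2⟩,
            Finset.mem_filter.2 ⟨Finset.mem_univ _, Subtype.ext (Subtype.ext (by
              simpa [sq] using (hΩmem.1 y.2.1).2.2))⟩⟩ :
              {c : X // c ∈ Finset.univ.filter fun c : X => c ^ 2 = 1})) ?_) ?_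
        · intro a b e
          exact Subtype.ext (congrArg (fun c => (((c : X) : D) : G)) (congrArg Subtype.val e))
        · rw [Nat.card_eq_fintype_card, Fintype.card_coe]; exact h2
      omega
    have hX2 : Nat.card X ≤ 2 := by
      haveI := hXcyc
      have : Fintype X := Fintype.ofFinite X
      have h2 := IsCyclic.card_pow_eq_one_le (α := X) (n := 2) (by norm_num)
      have h3 : (Finset.univ.filter fun c : X => c ^ 2 = 1) = Finset.univ := by
        ext c
        simp only [Finset.mem_filter, Finset.mem_univ, true_and, iff_true]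
        exact Subtype.ext (by
          simpa using hXc ⟨w, hwD⟩ hwX c c.2 (Subtype.ext
            ((hΩmem.1 hwΩ).2.1 _ (hDT (c : D).2))))
      rw [h3, Finset.card_univ] at h2
      rwa [Nat.card_eq_fintype_card]
    have hDcard : Nat.card D ≤ 4 := by
      have h := X.card_mul_index
      rw [hXi] at h
      omega
    have hΩD3 : 3 ≤ Nat.card ΩD := by omega
    have hΩDle : Nat.card ΩD ≤ Nat.card D := Subgroup.card_le_of_le inf_le_right
    have hΩDD : ΩD = D := by
      refine Subgroup.eq_of_le_of_card_ge inf_le_right ?_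
      obtain ⟨c, hc⟩ : Nat.card ΩD ∣ Nat.card D := Subgroup.card_dvd_of_le inf_le_right
      show Nat.card D ≤ Nat.card ΩD
      have hc1 : c = 1 := by
        rcases c with _ | _ | c
        · omega
        · rfl
        · rw [Nat.mul_add, Nat.mul_add] at hc
          omega
      rw [hc, hc1, Nat.mul_one]
    have hTΩ : T ≤ Ω := fun t ht => by
      obtain ⟨d, hd, b, hb, rfl⟩ := hdec t ht
      exact mul_mem (hΩDD.symm.le hd).1 (hBΩ hb)
    have hT16 : Nat.card T = 16 := by
      obtain ⟨k, hk⟩ := IsPGroup.iff_card.1 hT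
      have h1 := Subgroup.card_le_of_le hTΩ
      have h2 : Nat.card Ω ≤ Nat.card T := Subgroup.card_le_of_le fun t ht => (hΩmem.1 ht).1
      have h3 : Nat.card T ≤ 16 := le_trans h1 (le_trans hle (by omega))
      rw [hk] at h2 h3 ⊢
      have : k = 4 := by
        have hk4 : k < 5 := by
          by_contra hcon
          have := Nat.pow_le_pow_right two_pos (not_lt.1 hcon)
          omega
        interval_cases k <;> omega
      rw [this]; norm_num
    exact frattiniLE_of_good S.isPGroup'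
      ⟨hTS, hT16, fun a ha => (hΩmem.1 (hTΩ ha)).2.2, B, hBT, hB4, hcb⟩ hU

end Cfsg.Agent.S1235
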