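import Cfsg.Statements.S1236
import Mathlib
import Cfsg.Agent.Lib.QDWreathQDSub
-- import your own Cfsg.Agent.* helpers here

set_option autoImplicit false
open Cfsg
open Cfsg.Agent.QDWreathBase Cfsg.Agent.QDWreathQD Cfsg.Agent.QDWreathQDSub

namespace Cfsg.Agent.S1236

theorem four_self_centralizing {D : Type*} [Group D] [Finite D] (X : Subgroup D) (hX : X.index = 2)
    (hcyc : IsCyclic X) (h : ∀ w ∉ X, ∀ c ∈ X, w * c = c * w → c ^ 2 = 1) (V : Subgroup D)
    (hcomm : ∀ a ∈ V, ∀ b ∈ V, a * b = b * a) (hsq : ∀ a ∈ V, a ^ 2 = 1) (hV : Nat.card V = 4)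
    (d : D) (hd : ∀ v ∈ V, v * d = d * v) : d ∈ V := by
  classical
  have : Fintype D := Fintype.ofFinite D
  set K : Set D := {c | c ∈ X ∧ c ^ 2 = 1} with hK
  have hK2 : K.ncard ≤ 2 := by
    have h1 := IsCyclic.card_pow_eq_one_le (α := X) (n := 2) (by norm_num)
    have h2 : K = Subtype.val '' (↑(Finset.univ.filter fun c : X => c ^ 2 = 1) : Set X) := by
      ext c
      simp only [hK, Set.mem_ofPred_eq, Finset.coe_filter, Finset.mem_univ, true_and, Set.mem_image]
      constructor
      · rintro ⟨hc, hc2⟩; exact ⟨⟨c, hc⟩, Subtype.ext (by simpa using hc2), rfl⟩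
      · rintro ⟨c, hc2, rfl⟩; exact ⟨c.2, by simpa using congrArg Subtype.val hc2⟩
    rw [h2, Set.ncard_image_of_injective _ Subtype.val_injective, Set.ncard_coe_finset]
    exact h1
  have hVc : (V : Set D).ncard = 4 := by rw [← Nat.card_coe_set_eq, SetLike.coe_sort_coe, hV]
  obtain ⟨w, hw, hwX⟩ : ∃ w ∈ V, w ∉ X := by
    by_contra hh
    push Not at hh
    have := Set.ncard_le_ncard (s := (V : Set D)) (t := K) fun a ha => ⟨hh a ha, hsq a ha⟩
    omega
  set U : Set D := K ∪ (fun c => c * w) '' K with hU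
  have hsub : ∀ a, w * a = a * w → a ∈ U := by
    intro a ha
    by_cases haX : a ∈ X
    · exact Or.inl ⟨haX, h w hwX a haX ha⟩
    · have h1 : a * w ∈ X := (Subgroup.mul_mem_iff_of_index_two hX).2 (iff_of_false haX hwX)
      refine Or.inr ⟨a * w, ⟨h1, h w hwX _ h1 (by rw [← mul_assoc, ha])⟩, ?_⟩
      have hw2 : w * w = 1 := by rw [← sq]; exact hsq w hw
      show a * w * w = a
      rw [mul_assoc, hw2, mul_one]
  have hUc : U.ncard ≤ 4 := by
    refine le_trans (Set.ncard_union_le _ _) ?_
    have := Set.ncard_image_le (s := K) (f := fun c => c * w)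
    omega
  have heq : (V : Set D) = U :=
    Set.eq_of_subset_of_ncard_le (fun a ha => hsub a (hcomm w hw a ha)) (by omega)
  rw [← SetLike.mem_coe, heq]
  exact hsub d (hd w hw)


/-- Let R be a finite group, t a central involution of R such that R ⧸ ⟨t⟩ is dihedral (of order ≥ 4) or quasi-dihedral, and A ≤ R an elementary abelian subgroup of order 8 containing t. Then C_R(A) = A. -/
theorem result {R : Type*} [Group R] [Finite R] (t : R) (ht : orderOf t = 2) (htz : t ∈ Subgroup.center R) [(Subgroup.zpowers t).Normal] (hq : (∃ m : ℕ, 2 ≤ m ∧ Nonempty (R ⧸ Subgroup.zpowers t ≃* DihedralGroup m)) ∨ Cfsg.IsQuasiDihedral (R ⧸ Subgroup.zpowers t)) (A : Subgroup R) (hA : Cfsg.IsElementaryAbelian 2 A) (hA8 : Nat.card A = 8) (htA : t ∈ A) : Subgroup.centralizer (A : Set R) = A := by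
  have hdq := hq
  clear hq
  set q := QuotientGroup.mk' (Subgroup.zpowers t) with hq
  have hqs := QuotientGroup.mk'_surjective (Subgroup.zpowers t)
  have htA' : Subgroup.zpowers t ≤ A := Subgroup.zpowers_le.2 htA
  have hcard : Nat.card (A.map q) = 4 := by
    have h2 : Nat.card A = Nat.card (Subgroup.zpowers t) * Nat.card (A.map q) := by
      have h3 := Subgroup.card_mul_index ((q.comp A.subtype).ker)
      rw [Subgroup.index_ker, MonoidHom.range_comp, Subgroup.range_subtype] at h3
      rw [← h3]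
      congr 1
      rw [← Nat.card_congr (Subgroup.subgroupOfEquivOfLe htA').toEquiv]
      congr 2
      ext a
      simp [hq, Subgroup.mem_subgroupOf]
    rw [hA8, Nat.card_zpowers, ht] at h2
    omega
  have hcomm : ∀ a ∈ A.map q, ∀ b ∈ A.map q, a * b = b * a := by
    rintro _ ⟨a, ha, rfl⟩ _ ⟨b, hb, rfl⟩
    rw [← map_mul, ← map_mul]
    exact congrArg q (congrArg Subtype.val (hA.1.is_comm.comm ⟨a, ha⟩ ⟨b, hb⟩))
  have hsq : ∀ a ∈ A.map q, a ^ 2 = 1 := by
    rintro _ ⟨a, ha, rfl⟩
    rw [← map_pow, hA.2 a ha, map_one]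
  have key : ∀ d : R ⧸ Subgroup.zpowers t, (∀ v ∈ A.map q, v * d = d * v) → d ∈ A.map q := by
    rcases hdq with ⟨m, hm, ⟨e⟩⟩ | hQ
    · have : NeZero m := ⟨by omega⟩
      let X : Subgroup (R ⧸ Subgroup.zpowers t) := (Subgroup.zpowers (DihedralGroup.r 1)).map e.symm.toMonoidHom
      have hr : ∀ a, a ∈ Subgroup.zpowers (DihedralGroup.r (1 : ZMod m)) ↔ ∃ i, a = DihedralGroup.r i := by
        intro a
        constructor
        · rintro ⟨k, rfl⟩
          exact ⟨k, by simp⟩
        · rintro ⟨i, rfl⟩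
          exact ⟨(i.val : ℤ), by simp⟩
      refine four_self_centralizing X ?_ ?_ ?_ _ hcomm hsq hcard
      · show (Subgroup.map _ _).index = 2
        refine (Subgroup.index_map_equiv _ e.symm).trans ?_
        refine Subgroup.index_eq_two_iff.2 ⟨DihedralGroup.sr 0, fun b => ?_⟩
        rw [hr, hr]
        rcases b with i | i <;> simp [xor_def]
      · exact isCyclic_of_surjective _ ((Subgroup.zpowers (DihedralGroup.r (1 : ZMod m))).equivMapOfInjective e.symm.toMonoidHom e.symm.injective).surjective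
      · intro w hw c hc hwc
        obtain ⟨c, hc, rfl⟩ := hc
        obtain ⟨w, rfl⟩ := e.symm.surjective w
        have hw' : w ∉ Subgroup.zpowers (DihedralGroup.r (1 : ZMod m)) := fun h => hw ⟨w, h, rfl⟩
        obtain ⟨i, rfl⟩ := (hr c).1 hc
        rw [hr] at hw'
        rcases w with j | j
        · exact absurd ⟨j, rfl⟩ hw'
        · have h1 : DihedralGroup.sr j * DihedralGroup.r i = DihedralGroup.r i * DihedralGroup.sr j :=
            e.symm.injective (by rw [map_mul, map_mul]; exact hwc)
          simp only [DihedralGroup.sr_mul_r, DihedralGroup.r_mul_sr, DihedralGroup.sr.injEq] at h1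
          show (e.symm (DihedralGroup.r i)) ^ 2 = 1
          rw [← map_pow, sq, DihedralGroup.r_mul_r, show i + i = 0 by linear_combination h1,
            DihedralGroup.r_zero, map_one]
    · obtain ⟨n, -, -, l, hl0, -, ⟨E⟩⟩ := exists_equiv hQ
      refine four_self_centralizing ((MC l).map E.toMonoidHom) ?_ ?_ ?_ _ hcomm hsq hcard
      · refine (Subgroup.index_map_equiv _ E).trans ?_
        exact maxSub_index (Or.inr one_ne_zero)
      · have := MC_isCyclic (l := l)
        exact isCyclic_of_surjective _ ((MC l).equivMapOfInjective E.toMonoidHom E.injective).surjective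
      · intro w hw c hc hwc
        obtain ⟨c, hc, rfl⟩ := hc
        obtain ⟨w, rfl⟩ := E.surjective w
        obtain ⟨j, _ | _⟩ := w
        · exact absurd ⟨_, mem_MC.2 rfl, rfl⟩ hw
        · have h1 : c * ⟨j, true⟩ = (⟨j, true⟩ : QD l) * c := E.injective (by simpa using hwc.symm)
          show (E c) ^ 2 = 1
          rcases commute_true_iff.1 h1 with rfl | rfl | rfl | rfl
          · simp
          · rw [← map_pow, C_sq, map_one]
          all_goals exact absurd (mem_MC.1 hc) (by simp [C])
  apply le_antisymm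
  · intro x hx
    have h1 : q x ∈ A.map q := key (q x) (by
      rintro _ ⟨a, ha, rfl⟩
      rw [← map_mul, ← map_mul, Subgroup.mem_centralizer_iff.1 hx a ha])
    rw [← Subgroup.mem_comap, Subgroup.comap_map_eq, QuotientGroup.ker_mk', sup_eq_left.2 htA'] at h1
    exact h1
  · intro a ha
    rw [Subgroup.mem_centralizer_iff]
    intro b hb
    exact congrArg Subtype.val (hA.1.is_comm.comm ⟨b, hb⟩ ⟨a, ha⟩)

end Cfsg.Agent.S1236
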