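import Cfsg.Statements.S1239
import Cfsg.Agent.Lib.ZStarWreathed

set_option autoImplicit false
open Cfsg

namespace Cfsg.Agent.S1239

/-- Let X be a finite group whose Sylow 2-subgroup S is quasi-dihedral or wreathed, and suppose some involution of S is isolated in X. Then the product of the largest normal odd-order subgroup O(X) with the centre of S is normal in X. -/
theorem result {X : Type*} [Group X] [Finite X] (S : Sylow 2 X) (hS : Cfsg.IsQuasiDihedral (S : Subgroup X) ∨ Cfsg.IsWreathed (S : Subgroup X)) (z : X) (hzS : z ∈ S) (hz : Cfsg.IsIsolatedInvolution z) : (Cfsg.oddCore X ⊔ (Subgroup.center (S : Subgroup X)).map (S : Subgroup X).subtype).Normal := by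
  set O := Cfsg.oddCore X
  have hOn : O.Normal := Cfsg.Agent.HallCore.pPrimeCore_normal 2 X
  have hle : O ⊔ (Subgroup.center (S : Subgroup X)).map (S : Subgroup X).subtype ≤
      (Subgroup.center (X ⧸ O)).comap (QuotientGroup.mk' O) := by
    refine sup_le (fun x hx => ?_) (Cfsg.Agent.ZStarWreathed.center_le S hS hzS hz)
    rw [Subgroup.mem_comap, QuotientGroup.mk'_apply, (QuotientGroup.eq_one_iff x).2 hx]
    exact one_mem _
  refine ⟨fun m hm g => ?_⟩
  have h1 : g * m * g⁻¹ * m⁻¹ ∈ O := by
    rw [← QuotientGroup.eq_one_iff]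
    simp only [QuotientGroup.mk_mul, QuotientGroup.mk_inv]
    have hcc : (g : X ⧸ O) * (m : X ⧸ O) = m * g := Subgroup.mem_center_iff.1 (hle hm) _
    rw [hcc]
    simp
  have h2 := mul_mem (Subgroup.mem_sup_left (T := (Subgroup.center (S : Subgroup X)).map (S : Subgroup X).subtype) h1) hm
  rwa [inv_mul_cancel_right] at h2

end Cfsg.Agent.S1239
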