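import Cfsg.Statements.S1241
import Mathlib
-- import your own Cfsg.Agent.* helpers here

set_option autoImplicit false
open Cfsg

namespace Cfsg.Agent.S1241

theorem transfer_value {G : Type*} [Group G] [Finite G] (H : Subgroup G)
    {A : Type*} [CommGroup A] (φ : H →* A) (g : G) (hgH : g ∈ H)
    (hctrl : ∀ (m : ℕ) (a : G) (ha : a * g ^ m * a⁻¹ ∈ H),
      φ ⟨a * g ^ m * a⁻¹, ha⟩ = φ ⟨g ^ m, pow_mem hgH m⟩) :
    MonoidHom.transfer φ g = φ ⟨g, hgH⟩ ^ H.index := by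
  classical
  let := H.fintypeQuotientOfFiniteIndex
  rw [MonoidHom.transfer_eq_prod_quotient_orbitRel_zpowers_quot]
  rw [Subgroup.index_eq_sum_minimalPeriod H g, ← Finset.prod_pow_eq_pow_sum]
  refine Finset.prod_congr rfl fun q _ => ?_
  rw [← map_pow]
  have hq : q.out.out⁻¹ * g ^ Function.minimalPeriod (g • ·) q.out * q.out.out ∈ H :=
    QuotientGroup.out_conj_pow_minimalPeriod_mem H g q.out
  have h := hctrl (Function.minimalPeriod (g • ·) q.out) q.out.out⁻¹ (by rwa [inv_inv])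
  simp only [inv_inv] at h
  exact h


/-- Let G be a finite group, p a prime, H a subgroup of index prime to p, K a subgroup of H normal in H with H/K commutative, and g ∈ H ∖ K an element of p-power order such that for all integers m and all a ∈ G with a g^m a⁻¹ ∈ H one has a g^m a⁻¹ ∈ g^m K. Then g ∉ G'. -/
theorem result {G : Type*} [Group G] [Finite G] {p : ℕ} [Fact p.Prime] (H K : Subgroup G) (hHK : K ≤ H) (hKn : (K.subgroupOf H).Normal) (hab : ∀ x ∈ H, ∀ y ∈ H, x * y * x⁻¹ * y⁻¹ ∈ K) (hidx : Nat.Coprime p H.index) (g : G) (hgH : g ∈ H) (hgK : g ∉ K) (hgp : ∃ k : ℕ, orderOf g = p ^ k) (hctrl : ∀ (m : ℤ) (a : G), a * g ^ m * a⁻¹ ∈ H → (a * g ^ m * a⁻¹) * (g ^ m)⁻¹ ∈ K) : g ∉ commutator G := by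
  intro hgc
  have hn := hKn
  have hcomm : ∀ a b : H ⧸ K.subgroupOf H, a * b = b * a := by
    intro a b
    obtain ⟨a, rfl⟩ := QuotientGroup.mk'_surjective _ a
    obtain ⟨b, rfl⟩ := QuotientGroup.mk'_surjective _ b
    rw [← commutatorElement_eq_one_iff_mul_comm, ← map_commutatorElement,
      QuotientGroup.mk'_apply, QuotientGroup.eq_one_iff, Subgroup.mem_subgroupOf]
    exact hab _ a.2 _ b.2
  let : CommGroup (H ⧸ K.subgroupOf H) :=
    { (inferInstance : Group (H ⧸ K.subgroupOf H)) with mul_comm := hcomm }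
  let φ : H →* H ⧸ K.subgroupOf H := QuotientGroup.mk' (K.subgroupOf H)
  have hv := transfer_value H φ g hgH (fun m a ha => by
    show QuotientGroup.mk' _ _ = QuotientGroup.mk' _ _
    rw [eq_comm, QuotientGroup.mk'_eq_mk']
    refine ⟨(⟨g ^ m, pow_mem hgH m⟩ : H)⁻¹ * ⟨a * g ^ m * a⁻¹, ha⟩, ?_, by simp⟩
    rw [Subgroup.mem_subgroupOf]
    have h1 := hctrl m a (by simpa using ha)
    have h2 : (g ^ m)⁻¹ * (a * g ^ m * a⁻¹ * (g ^ m)⁻¹) * ((g ^ m)⁻¹)⁻¹ ∈ K := by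
      have h3 := hKn.conj_mem ⟨_, hHK h1⟩ (Subgroup.mem_subgroupOf.2 (by simpa using h1))
        ⟨(g ^ m)⁻¹, inv_mem (pow_mem hgH m)⟩
      rw [Subgroup.mem_subgroupOf] at h3
      simpa using h3
    simpa [mul_assoc] using h2)
  have h1 : MonoidHom.transfer φ g = 1 :=
    MonoidHom.mem_ker.1 (Abelianization.commutator_subset_ker _ hgc)
  rw [h1, eq_comm] at hv
  obtain ⟨k, hk⟩ := hgp
  have h2 : φ ⟨g, hgH⟩ ^ p ^ k = 1 := by
    rw [← map_pow, ← map_one φ]
    congr 1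
    refine Subtype.ext ?_
    simp [← hk, pow_orderOf_eq_one]
  have h3 : φ ⟨g, hgH⟩ = 1 := by
    have := pow_gcd_eq_one.2 ⟨h2, hv⟩
    rwa [(Nat.Coprime.pow_left k hidx).gcd_eq_one, pow_one] at this
  exact hgK (Subgroup.mem_subgroupOf.1 ((QuotientGroup.eq_one_iff _).1 h3))

end Cfsg.Agent.S1241
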