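import Cfsg.Statements.S1242
import Cfsg.Agent.Lib.TransferTate

set_option autoImplicit false
open Cfsg

namespace Cfsg.Agent.S1242

/-- Let G be a finite group, p a prime and H a subgroup of index prime to p such that any two elements of H of p-power order that are conjugate in G are conjugate in H. Then (O^p(G)·G') ∩ H = O^p(H)·H', where O^p denotes the subgroup generated by the elements of order prime to p. -/
theorem result {G : Type*} [Group G] [Finite G] {p : ℕ} [Fact p.Prime] (H : Subgroup G) (hidx : Nat.Coprime p H.index) (hfus : ∀ g ∈ H, (∃ k : ℕ, orderOf g = p ^ k) → ∀ a : G, a * g * a⁻¹ ∈ H → ∃ h ∈ H, h * g * h⁻¹ = a * g * a⁻¹) : (Cfsg.pResidual p G ⊔ commutator G) ⊓ H = (Cfsg.pResidual p ↥H ⊔ commutator ↥H).map H.subtype := by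
  classical
  set K := Cfsg.pResidual p G ⊔ commutator G with hK
  obtain ⟨P1⟩ : Nonempty (Sylow p H) := inferInstance
  obtain ⟨Q, hQ⟩ := (P1.isPGroup'.map H.subtype).exists_le_sylow
  have hcop : ¬ p ∣ H.index := (Nat.Prime.coprime_iff_not_dvd Fact.out).mp hidx
  -- the Sylow subgroup of `H` is one of `G`
  have hcard : Nat.card (Q : Subgroup G) ≤ Nat.card ((P1 : Subgroup H).map H.subtype) := by
    rw [Q.card_eq_multiplicity, Subgroup.card_map_of_injective H.subtype_injective,
      P1.card_eq_multiplicity, ← H.card_mul_index,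
      Nat.factorization_mul Nat.card_pos.ne' Subgroup.index_ne_zero_of_finite]
    simp [Nat.factorization_eq_zero_of_not_dvd hcop]
  have hQeq := Subgroup.eq_of_le_of_card_ge hQ hcard
  have hQH : (Q : Subgroup G) ≤ H := hQeq ▸ Subgroup.map_subtype_le _
  have hctrl : TransferTate.ControlsFusion H (Q : Subgroup G) := by
    intro x hx a ha
    obtain ⟨k, hk⟩ := IsPGroup.iff_orderOf.mp Q.isPGroup' ⟨x, hx⟩
    rw [Subgroup.orderOf_mk] at hk
    exact hfus x (hQH hx) ⟨k, hk⟩ a (hQH ha)
  have hfoc : K ⊓ (Q : Subgroup G) =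
      ((Cfsg.pResidual p H ⊔ commutator H) ⊓ ((Q.subtype hQH : Sylow p H) : Subgroup H)).map H.subtype := by
    rw [hK, TransferPResidual.inf_pResidual_sup_commutator Q,
      TransferPResidual.inf_pResidual_sup_commutator (Q.subtype hQH),
      TransferTate.focalSubgroup_eq_of_control hQH hctrl]
    rfl
  refine le_antisymm ?_ (le_inf ?_ (Subgroup.map_subtype_le _))
  · intro x hx
    obtain ⟨hxK, hxH⟩ := Subgroup.mem_inf.mp hx
    have hm : (⟨x, hxH⟩ : H) ∈ (((Q.subtype hQH : Sylow p H) : Subgroup H) ⊔
        (Cfsg.pResidual p H) : Subgroup H) := by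
      rw [TransferPResidual.sylow_sup_pResidual]
      exact Subgroup.mem_top _
    obtain ⟨a, ha, b, hb, e⟩ := Subgroup.mem_sup_of_normal_right.mp hm
    have e' : (a : G) * (b : G) = x := congrArg Subtype.val e
    have hb' : (b : G) ∈ (Cfsg.pResidual p H ⊔ commutator H).map H.subtype :=
      Subgroup.mem_map_of_mem _ (Subgroup.mem_sup_left hb)
    have haK : (a : G) ∈ K := by
      have := mul_mem hxK (inv_mem (Subgroup.mem_sup_left (T := commutator G)
        (TransferPResidual.map_pResidual_subtype_le H (Subgroup.mem_map_of_mem _ hb))))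
      rwa [← e', Subgroup.coe_subtype, mul_inv_cancel_right] at this
    have ha' : (a : G) ∈ K ⊓ (Q : Subgroup G) := ⟨haK, Subgroup.mem_subgroupOf.mp ha⟩
    rw [hfoc] at ha'
    rw [← e']
    exact mul_mem (Subgroup.map_mono inf_le_left ha') hb'
  · rw [Subgroup.map_sup]
    refine sup_le_sup (TransferPResidual.map_pResidual_subtype_le H) ?_
    rw [Subgroup.map_subtype_commutator, commutator_def]
    exact Subgroup.commutator_mono le_top le_top

end Cfsg.Agent.S1242
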