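import Cfsg.Statements.S1243
import Mathlib
-- import your own Cfsg.Agent.* helpers here

set_option autoImplicit false
open Cfsg

namespace Cfsg.Agent.S1243

theorem conj_into {G : Type*} [Group G] [Finite G] {p : ℕ} [Fact p.Prime] (C A : Subgroup G)
    (hA : IsPGroup p A) (hAC : A ≤ C) (P : Sylow p C) :
    ∃ c ∈ C, A.map (MulAut.conj c).toMonoidHom ≤ (P : Subgroup C).map C.subtype := by
  have hA' : IsPGroup p (A.subgroupOf C) :=
    hA.of_equiv (Subgroup.subgroupOfEquivOfLe hAC).symm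
  obtain ⟨Q, hQ⟩ := hA'.exists_le_sylow
  obtain ⟨c, hc⟩ := MulAction.exists_smul_eq C Q P
  refine ⟨c, c.2, ?_⟩
  rintro _ ⟨a, ha, rfl⟩
  refine ⟨c * ⟨a, hAC ha⟩ * c⁻¹, ?_, by simp⟩
  rw [← hc, Sylow.coe_subgroup_smul]
  exact Subgroup.smul_mem_pointwise_smul (⟨a, hAC ha⟩ : C) (MulAut.conj c) _
    (hQ (Subgroup.mem_subgroupOf.2 ha))

theorem map_map_conj {G : Type*} [Group G] (A : Subgroup G) (a b : G) :
    (A.map (MulAut.conj a).toMonoidHom).map (MulAut.conj b).toMonoidHom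
      = A.map (MulAut.conj (b * a)).toMonoidHom := by
  rw [Subgroup.map_map]
  congr 1
  ext x
  simp [mul_assoc]

theorem mem_normalizer_of_map {G : Type*} [Group G] (A : Subgroup G) (g : G)
    (h : A.map (MulAut.conj g).toMonoidHom = A) : g ∈ Subgroup.normalizer (A : Set G) := by
  rw [Subgroup.mem_normalizer_iff]
  intro x
  constructor
  · intro hx
    rw [← h]
    exact ⟨x, hx, rfl⟩
  · intro hx
    rw [← h] at hx
    obtain ⟨y, hy, hyx⟩ := hx
    simp only [MulEquiv.coe_toMonoidHom, MulAut.conj_apply, mul_left_inj, mul_right_inj] at hyx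
    exact hyx ▸ hy


/-- Let T be a Sylow p-subgroup of the finite group G and W ≤ T a subgroup weakly closed in T. If d and g d g⁻¹ both centralize W, then g d g⁻¹ = h d h⁻¹ for some h ∈ N_G(W). -/
theorem result {G : Type*} [Group G] [Finite G] {p : ℕ} [Fact p.Prime] (T : Sylow p G) (W : Subgroup G) (hW : Cfsg.IsWeaklyClosed W (T : Subgroup G)) (d g : G) (hd : d ∈ Subgroup.centralizer (W : Set G)) (hgd : g * d * g⁻¹ ∈ Subgroup.centralizer (W : Set G)) : ∃ h ∈ Subgroup.normalizer (W : Set G), h * d * h⁻¹ = g * d * g⁻¹ := by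
  set C := Subgroup.centralizer ({g * d * g⁻¹} : Set G) with hC
  have hWC : W ≤ C := fun w hw => Subgroup.mem_centralizer_singleton_iff.2
    (Subgroup.mem_centralizer_iff.1 hgd w hw)
  have hWgC : W.map (MulAut.conj g).toMonoidHom ≤ C := by
    rintro _ ⟨w, hw, rfl⟩
    refine Subgroup.mem_centralizer_singleton_iff.2 ?_
    have := Subgroup.mem_centralizer_iff.1 hd w hw
    simp only [MulEquiv.coe_toMonoidHom, MulAut.conj_apply]
    calc g * w * g⁻¹ * (g * d * g⁻¹) = g * (w * d) * g⁻¹ := by group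
      _ = g * (d * w) * g⁻¹ := by rw [this]
      _ = g * d * g⁻¹ * (g * w * g⁻¹) := by group
  have hWp : IsPGroup p W := T.isPGroup'.to_le hW.1
  obtain ⟨P⟩ := (inferInstance : Nonempty (Sylow p C))
  obtain ⟨c₁, hc₁, h₁⟩ := conj_into C W hWp hWC P
  obtain ⟨c₂, hc₂, h₂⟩ := conj_into C _ (hWp.map (MulAut.conj g).toMonoidHom) hWgC P
  obtain ⟨R, hR⟩ := (P.isPGroup'.map C.subtype).exists_le_sylow
  obtain ⟨a, ha⟩ := MulAction.exists_smul_eq G R T
  have hle : ∀ x : G, W.map (MulAut.conj x).toMonoidHom ≤ (P : Subgroup C).map C.subtype →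
      W.map (MulAut.conj (a * x)).toMonoidHom = W := by
    intro x hx
    refine hW.2 _ ?_
    rw [← map_map_conj, ← ha, Sylow.coe_subgroup_smul]
    rintro _ ⟨y, hy, rfl⟩
    exact Subgroup.smul_mem_pointwise_smul y (MulAut.conj a) _ (hR (hx hy))
  have n₁ := mem_normalizer_of_map _ _ (hle c₁ h₁)
  have n₂ := mem_normalizer_of_map _ _ (hle (c₂ * g) (by rw [← map_map_conj]; exact h₂))
  refine ⟨(a * c₁)⁻¹ * (a * (c₂ * g)), mul_mem (inv_mem n₁) n₂, ?_⟩
  have e : (a * c₁)⁻¹ * (a * (c₂ * g)) = (c₁⁻¹ * c₂) * g := by group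
  have hcomm := Subgroup.mem_centralizer_singleton_iff.1 (mul_mem (inv_mem hc₁) hc₂ : c₁⁻¹ * c₂ ∈ C)
  rw [e]
  calc c₁⁻¹ * c₂ * g * d * (c₁⁻¹ * c₂ * g)⁻¹ = (c₁⁻¹ * c₂) * (g * d * g⁻¹) * (c₁⁻¹ * c₂)⁻¹ := by group
    _ = g * d * g⁻¹ := by rw [hcomm]; group

end Cfsg.Agent.S1243
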