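import Cfsg.Statements.S1244
import Mathlib
-- import your own Cfsg.Agent.* helpers here

set_option autoImplicit false
open Cfsg

namespace Cfsg.Agent.S1244

theorem prod_mem_iff_even {A : Type*} [CommGroup A] (W V : Subgroup A)
    (hindex : ∀ a ∈ V, a ∉ W → ∀ b ∈ V, b ∉ W → a * b ∈ W) {ι : Type*} (s : Finset ι)
    (f : ι → A) (hf : ∀ i, f i ∈ V ∧ f i ∉ W) : (∏ i ∈ s, f i) ∈ W ↔ Even s.card := by
  classical
  induction s using Finset.induction with
  | empty => simp
  | insert i s his ih =>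
    rw [Finset.prod_insert his, Finset.card_insert_of_notMem his, Nat.even_add_one]
    have hV : (∏ j ∈ s, f j) ∈ V := Subgroup.prod_mem _ fun j _ => (hf j).1
    constructor
    · intro h he
      exact (hf i).2 ((W.mul_mem_cancel_right (ih.2 he)).1 h)
    · intro h
      exact hindex _ (hf i).1 (hf i).2 _ hV (fun hh => h (ih.1 hh))

theorem exists_index_two {G : Type*} [Group G] [Finite G] {A : Type*} [Group A] [Finite A]
    (hA : IsPGroup 2 A) (f : G →* A) (v : G) (hv : f v ≠ 1) :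
    ∃ H : Subgroup G, H.index = 2 := by
  haveI : Fact (Nat.Prime 2) := ⟨Nat.prime_two⟩
  have hR : IsPGroup 2 f.range := hA.to_subgroup _
  obtain ⟨m, hm⟩ := IsPGroup.iff_card.1 hR
  have hm0 : m ≠ 0 := by
    rintro rfl
    rw [pow_zero] at hm
    have := Subgroup.card_eq_one.1 hm
    exact hv ((Subgroup.mem_bot).1 (this ▸ ⟨v, rfl⟩))
  obtain ⟨K, hK⟩ := Sylow.exists_subgroup_card_pow_prime 2 (G := f.range) (n := m - 1)
    (hm ▸ pow_dvd_pow 2 (Nat.sub_le m 1))
  refine ⟨K.comap f.rangeRestrict, ?_⟩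
  rw [Subgroup.index_comap_of_surjective _ f.rangeRestrict_surjective]
  have h := K.card_mul_index
  rw [hK, hm] at h
  obtain ⟨j, rfl⟩ := Nat.exists_eq_succ_of_ne_zero hm0
  rw [Nat.succ_eq_add_one, Nat.add_sub_cancel, pow_succ] at h
  exact Nat.eq_of_mul_eq_mul_left (by positivity) h


/-- Let G be a finite group with no subgroup of index 2 whose Sylow 2-subgroup S is commutative, and let R ≤ S be a subgroup whose 2-rank is exactly one less than the 2-rank r of S. Then every involution of S is conjugate, by an element of N_G(S), to an element of R. -/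
theorem result {G : Type*} [Group G] [Finite G] (hG : ∀ H : Subgroup G, H.index ≠ 2) (S : Sylow 2 G) (hS : IsMulCommutative (S : Subgroup G)) (r : ℕ) (hr1 : 1 ≤ r) (hSr : Cfsg.PRankLE 2 r (S : Subgroup G) ∧ ¬ Cfsg.PRankLE 2 (r - 1) (S : Subgroup G)) (R : Subgroup G) (hRS : R ≤ S) (hRr : Cfsg.PRankLE 2 (r - 1) R ∧ (r = 1 ∨ ¬ Cfsg.PRankLE 2 (r - 2) R)) (t : G) (ht : orderOf t = 2) (htS : t ∈ S) : ∃ n ∈ Subgroup.normalizer ((S : Subgroup G) : Set G), n * t * n⁻¹ ∈ R := by
  classical
  haveI : Fact (Nat.Prime 2) := ⟨Nat.prime_two⟩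
  let : CommGroup (S : Subgroup G) :=
    { (inferInstance : Group (S : Subgroup G)) with mul_comm := fun a b => hS.is_comm.comm a b }
  by_contra hno
  simp only [not_exists, not_and] at hno
  let V : Subgroup (S : Subgroup G) := (powMonoidHom 2).ker
  have hV : ∀ a, a ∈ V ↔ a ^ 2 = 1 := fun a => Iff.rfl
  have hVc : Nat.card V ≤ 2 ^ r := hSr.1 V inferInstance fun a ha => (hV a).1 ha
  obtain ⟨W, hWR, hWV, hWc⟩ : ∃ W : Subgroup (S : Subgroup G),
      (∀ a ∈ W, (a : G) ∈ R) ∧ W ≤ V ∧ 2 ^ (r - 1) ≤ Nat.card W := by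
    rcases hRr.2 with h | h
    · exact ⟨⊥, fun a ha => by simp [Subgroup.mem_bot.1 ha], bot_le, by simp [h]⟩
    · simp only [Cfsg.PRankLE, not_forall, not_le] at h
      obtain ⟨A, hc, hp, hA⟩ := h
      refine ⟨A.map (Subgroup.inclusion hRS), ?_, ?_, ?_⟩
      · rintro _ ⟨a, ha, rfl⟩; exact a.2
      · rintro _ ⟨a, ha, rfl⟩
        rw [hV, ← map_pow, hp a ha, map_one]
      · rw [Subgroup.card_map_of_injective (Subgroup.inclusion_injective hRS)]
        have hAp : IsPGroup 2 A := fun a => ⟨1, Subtype.ext (by simpa using hp _ a.2)⟩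
        obtain ⟨j, hj⟩ := IsPGroup.iff_card.1 hAp
        rw [hj] at hA ⊢
        have := (Nat.pow_lt_pow_iff_right (by norm_num : 1 < 2)).1 hA
        exact Nat.pow_le_pow_right (by norm_num) (by omega)
  have hindex : ∀ a ∈ V, a ∉ W → ∀ b ∈ V, b ∉ W → a * b ∈ W := by
    intro a ha haW b hb hbW
    have hle : (W.subgroupOf V).index ≤ 2 := by
      have h := (W.subgroupOf V).card_mul_index
      rw [Nat.card_congr (Subgroup.subgroupOfEquivOfLe hWV).toEquiv] at h
      have h2 : 2 ^ r = 2 ^ (r - 1) * 2 := by rw [← pow_succ, Nat.sub_add_cancel hr1]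
      by_contra hgt
      have h3 : Nat.card W * 3 ≤ Nat.card W * (W.subgroupOf V).index :=
        Nat.mul_le_mul_left _ (by omega)
      have h4 : 0 < 2 ^ (r - 1) := by positivity
      omega
    have hne : (W.subgroupOf V).index ≠ 1 := by
      rw [Ne, Subgroup.index_eq_one, Subgroup.subgroupOf_eq_top]
      exact fun hh => haW (hh ha)
    have h0 : (W.subgroupOf V).index ≠ 0 := Subgroup.index_ne_zero_of_finite
    have := Subgroup.mul_mem_iff_of_index_two (H := W.subgroupOf V) (by omega)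
      (a := ⟨a, ha⟩) (b := ⟨b, hb⟩)
    simp only [Subgroup.mem_subgroupOf, Subgroup.coe_mul] at this
    exact this.2 (iff_of_false haW hbW)
  set N := Subgroup.normalizer ((S : Subgroup G) : Set G) with hN
  have hnS : ∀ n ∈ N, ∀ a ∈ (S : Subgroup G), n * a * n⁻¹ ∈ (S : Subgroup G) :=
    fun n hn a ha => (Subgroup.mem_normalizer_iff.1 hn a).1 ha
  let c : N → (S : Subgroup G) := fun n => ⟨(n : G) * t * (n : G)⁻¹, hnS n n.2 t htS⟩
  have hwd : ∀ n m : N, (QuotientGroup.leftRel ((S : Subgroup G).subgroupOf N)) n m → c n = c m := by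
    intro n m h
    rw [QuotientGroup.leftRel_apply, Subgroup.mem_subgroupOf] at h
    have h1 : ((n : G)⁻¹ * m) * t = t * ((n : G)⁻¹ * m) :=
      congrArg Subtype.val (hS.is_comm.comm ⟨_, h⟩ ⟨t, htS⟩)
    apply Subtype.ext
    show (n : G) * t * (n : G)⁻¹ = (m : G) * t * (m : G)⁻¹
    calc (n : G) * t * (n : G)⁻¹
        = n * (((n : G)⁻¹ * m) * t * ((n : G)⁻¹ * m)⁻¹) * (n : G)⁻¹ := by rw [h1]; group
      _ = (m : G) * t * (m : G)⁻¹ := by group
  let Q := N ⧸ (S : Subgroup G).subgroupOf N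
  have : Fintype Q := Fintype.ofFinite Q
  let f : Q → (S : Subgroup G) := fun q => Quotient.liftOn' q c hwd
  have hf : ∀ q, f q ∈ V ∧ f q ∉ W := by
    intro q
    induction q using QuotientGroup.induction_on with
    | _ n =>
      show c n ∈ V ∧ c n ∉ W
      refine ⟨?_, fun h => hno _ n.2 (hWR _ h)⟩
      rw [hV]
      apply Subtype.ext
      have h2 : t ^ 2 = 1 := ht ▸ pow_orderOf_eq_one t
      show ((n : G) * t * (n : G)⁻¹) ^ 2 = 1
      rw [conj_pow, h2, mul_one, mul_inv_cancel]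
  have hodd : ¬ Even (Finset.univ : Finset Q).card := by
    rw [Finset.card_univ, ← Nat.card_eq_fintype_card, even_iff_two_dvd]
    exact fun hd => S.not_dvd_index (hd.trans (Subgroup.relIndex_dvd_index_of_le Subgroup.le_normalizer))
  set v := ∏ q : Q, f q with hv
  have hvV : v ∈ V := Subgroup.prod_mem _ fun q _ => (hf q).1
  have hvW : v ∉ W := fun h => hodd ((prod_mem_iff_even W V hindex _ f hf).1 h)
  have hfix : ∀ n ∈ N, n * (v : G) * n⁻¹ = v := by
    intro n hn
    let ψ : (S : Subgroup G) →* (S : Subgroup G) :=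
      { toFun := fun a => ⟨n * (a : G) * n⁻¹, hnS n hn a a.2⟩
        map_one' := Subtype.ext (by simp)
        map_mul' := fun a b => Subtype.ext (by simp [mul_assoc]) }
    have h : ψ v = v := by
      rw [hv, map_prod]
      refine Fintype.prod_equiv (MulAction.toPerm (⟨n, hn⟩ : N)) _ _ fun q => ?_
      induction q using QuotientGroup.induction_on with
      | _ m => exact Subtype.ext (show n * ((m : G) * t * (m : G)⁻¹) * n⁻¹
          = (n * (m : G)) * t * (n * (m : G))⁻¹ by group)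
    exact congrArg Subtype.val h
  have hkey : ∀ (k : ℕ) (g₀ : G), g₀⁻¹ * (v : G) ^ k * g₀ ∈ (S : Subgroup G) →
      g₀⁻¹ * (v : G) ^ k * g₀ = (v : G) ^ k := by
    intro k g₀ h
    haveI : IsMulCommutative (S : Subgroup G) := hS
    obtain ⟨n, hn, he⟩ := S.conj_eq_normalizer_conj_of_mem _ g₀ (pow_mem v.2 k) h
    rw [he]
    have h1 : n⁻¹ * (v : G) ^ k * (n⁻¹)⁻¹ = (v : G) ^ k := by
      rw [← conj_pow, hfix _ (inv_mem hn)]
    simpa using h1
  have hτ := MonoidHom.transfer_eq_pow (MonoidHom.id (S : Subgroup G)) (v : G) hkey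
  have hv1 : MonoidHom.transfer (MonoidHom.id (S : Subgroup G)) (v : G) ≠ 1 := by
    rw [hτ]
    intro h
    have h1 : v ^ (S : Subgroup G).index = 1 := Subtype.ext (by simpa using congrArg Subtype.val h)
    obtain ⟨j, hj⟩ : Odd (S : Subgroup G).index := by
      rw [← Nat.not_even_iff_odd, even_iff_two_dvd]; exact S.not_dvd_index
    rw [hj, pow_succ, pow_mul, (hV v).1 hvV, one_pow, one_mul] at h1
    exact hvW (h1 ▸ W.one_mem)
  obtain ⟨H, hH⟩ := exists_index_two (S.isPGroup') _ (v : G) hv1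
  exact hG H hH

end Cfsg.Agent.S1244
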