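import Cfsg.Statements.S1246
import Cfsg.Agent.Lib.CharPLocal
import Cfsg.Agent.Lib.ComponentsFitting

set_option autoImplicit false
open Cfsg

namespace Cfsg.Agent.S1246

/-- Let V ≤ U be p-subgroups of the finite group G. If the generalized Fitting subgroup of C_G(V) is a p-group, then so is that of C_G(U). -/
theorem result {G : Type*} [Group G] [Finite G] {p : ℕ} [Fact p.Prime] (U V : Subgroup G) (hVU : V ≤ U) (hU : IsPGroup p U) (hV : IsPGroup p ↥(Cfsg.generalizedFittingSubgroup ↥(Subgroup.centralizer (V : Set G)))) : IsPGroup p ↥(Cfsg.generalizedFittingSubgroup ↥(Subgroup.centralizer (U : Set G))) := by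
  have hcharp : ∀ (H : Type _) [Group H] [Finite H], IsPGroup p ↥(Cfsg.generalizedFittingSubgroup H) →
      Cfsg.generalizedFittingSubgroup H = Cfsg.pCore p H := by
    intro H _ _ h
    exact le_antisymm (ComponentsCores.le_pCore' h)
      ((ComponentsFitting.pCore_le_fitting (Fact.out : p.Prime)).trans ComponentsFitting.fitting_le_gen)
  have h0 := CharPLocal.gen_eq_pCore_iff.mp (hcharp _ hV)
  obtain ⟨W, ⟨hVW, hWU, hW⟩, hmax⟩ := (Set.toFinite {W : Subgroup G | V ≤ W ∧ W ≤ U ∧
    CharPBasic.HasCharP p ↥(Subgroup.centralizer (W : Set G))}).exists_maximal ⟨V, le_rfl, hVU, h0⟩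
  have hWU' : W = U := by
    refine le_antisymm hWU ?_
    by_contra hne
    haveI := hU.isNilpotent
    have hlt : W.subgroupOf U < ⊤ := lt_top_iff_ne_top.mpr fun ht => hne (Subgroup.subgroupOf_eq_top.mp ht)
    have hn := normalizerCondition_of_isNilpotent (W.subgroupOf U) hlt
    set W2 := U ⊓ Subgroup.normalizer (W : Set G)
    have hW2 : CharPBasic.HasCharP p ↥(Subgroup.centralizer (W2 : Set G)) :=
      CharPLocal.hasCharP_centralizer_of_le W2 (Subgroup.normalizer (W : Set G)) (hU.to_le inf_le_left) inf_le_right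
        ((Subgroup.centralizer_le (le_inf hWU Subgroup.le_normalizer : W ≤ W2)).trans (Subgroup.centralizer_le_normalizer _))
        (CharPLocal.hasCharP_normalizer_of_centralizer W (hU.to_le hWU) hW)
    have h3 : W2 ≤ W := hmax ⟨hVW.trans (le_inf hWU Subgroup.le_normalizer), inf_le_left, hW2⟩ (le_inf hWU Subgroup.le_normalizer)
    obtain ⟨x, hx, hxn⟩ := SetLike.exists_of_lt hn
    refine hxn (Subgroup.mem_subgroupOf.mpr (h3 ⟨x.2, ?_⟩))
    show (x : G) ∈ Subgroup.normalizer (W : Set G)
    rw [Subgroup.mem_normalizer_iff] at hx ⊢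
    intro y
    constructor
    · intro hy
      exact Subgroup.mem_subgroupOf.mp ((hx ⟨y, hWU hy⟩).mp (Subgroup.mem_subgroupOf.mpr hy))
    · intro hy
      have h5 : y ∈ U := by
        have := U.mul_mem (U.mul_mem (U.inv_mem x.2) (hWU hy)) x.2
        simpa [mul_assoc] using this
      exact Subgroup.mem_subgroupOf.mp ((hx ⟨y, h5⟩).mpr (Subgroup.mem_subgroupOf.mpr hy))
  subst hWU'
  rw [CharPLocal.gen_eq_pCore_iff.mpr hW]
  exact ComponentsCores.isPGroup_pCore p

end Cfsg.Agent.S1246
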