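import Cfsg.Statements.S1248
import Cfsg.Agent.Lib.SU3TwoHeisEmbed
-- import your own Cfsg.Agent.* helpers here

set_option autoImplicit false
open Cfsg

namespace Cfsg.Agent.S1248

open Cfsg.Agent.SU3TwoHeis

/-- Let F be a field with 16 elements and S a Sylow 2-subgroup of PSU(3) over F (the unitary group U₃(4)). Then |S| = 64; the centre Z(S) is a Klein four-group and coincides with the subgroup generated by the involutions of S and with the derived subgroup; and every element of S ⧸ Z(S) squares to the identity, S ⧸ Z(S) having order 16. -/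
theorem result {F : Type*} [Field F] [Fintype F] (hF : Fintype.card F = 16) (S : Sylow 2 (Cfsg.PSU 3 F 4)) : Nat.card S = 64 ∧ IsKleinFour (Subgroup.center (S : Subgroup (Cfsg.PSU 3 F 4))) ∧ Subgroup.center (S : Subgroup (Cfsg.PSU 3 F 4)) = Subgroup.closure {x : (S : Subgroup (Cfsg.PSU 3 F 4)) | orderOf x = 2} ∧ Subgroup.center (S : Subgroup (Cfsg.PSU 3 F 4)) = commutator (S : Subgroup (Cfsg.PSU 3 F 4)) ∧ Nat.card ((S : Subgroup (Cfsg.PSU 3 F 4)) ⧸ Subgroup.center (S : Subgroup (Cfsg.PSU 3 F 4))) = 16 ∧ ∀ x : (S : Subgroup (Cfsg.PSU 3 F 4)) ⧸ Subgroup.center (S : Subgroup (Cfsg.PSU 3 F 4)), x ^ 2 = 1 := by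
  classical
  obtain ⟨_, σ, _, hσ, hne, hk, hcard, -, hP⟩ := SU3TwoHeisEmbed.exists_model (F := F) (n := 2)
    (by norm_num) (by rw [hF]; norm_num)
  obtain ⟨e⟩ := hP S
  have hmem : ∀ x, x ∈ Subgroup.center (S : Subgroup (Cfsg.PSU 3 F 4)) ↔ fA (e x) = 0 := fun x => by
    rw [← mem_center_iff hne]
    constructor
    · exact fun h => (Subgroup.centerCongr e ⟨x, h⟩).2
    · intro h
      rw [← e.symm_apply_apply x]
      exact ((Subgroup.centerCongr e).symm ⟨e x, h⟩).2
  have hsq : ∀ x, x * x = 1 ↔ x ∈ Subgroup.center (S : Subgroup (Cfsg.PSU 3 F 4)) := fun x => by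
    rw [hmem, ← SU3TwoHeis.sq_eq_one_iff, ← map_mul, MulEquiv.map_eq_one_iff]
  have hS : Nat.card (S : Subgroup (Cfsg.PSU 3 F 4)) = 64 := by
    exact (Nat.card_congr e.toEquiv).trans (hcard.trans (by norm_num))
  have hZ : Nat.card (Subgroup.center (S : Subgroup (Cfsg.PSU 3 F 4))) = 4 := by
    exact (Nat.card_congr (Subgroup.centerCongr e).toEquiv).trans
      ((Nat.card_congr (centerEquiv hne)).trans (hk.trans (by norm_num)))
  refine ⟨hS, ⟨hZ, ?_⟩, ?_, ?_, ?_, ?_⟩
  · refine le_antisymm ?_ ?_ |> fun h => h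
    · refine Nat.le_of_dvd two_pos (Monoid.exponent_dvd_of_forall_pow_eq_one fun x => ?_)
      rw [sq]; exact Subtype.ext ((hsq x.1).2 x.2)
    · by_contra h
      have h1 : Monoid.exponent (Subgroup.center (S : Subgroup (Cfsg.PSU 3 F 4))) ≤ 1 := by omega
      have h0 := Monoid.ExponentExists.of_finite.exponent_pos
        (G := Subgroup.center (S : Subgroup (Cfsg.PSU 3 F 4)))
      have := Monoid.exp_eq_one_iff.1 (le_antisymm h1 h0)
      have := Nat.card_unique (α := Subgroup.center (S : Subgroup (Cfsg.PSU 3 F 4)))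
      omega
  · refine le_antisymm (fun x hx => ?_) ((Subgroup.closure_le _).2 fun x hx => ?_)
    · by_cases h1 : x = 1
      · rw [h1]; exact Subgroup.one_mem _
      · exact Subgroup.subset_closure (orderOf_eq_prime (by rw [sq]; exact (hsq x).2 hx) h1)
    · refine (hsq x).1 ?_
      have h := pow_orderOf_eq_one x
      rwa [show orderOf x = 2 from hx, sq] at h
  · apply Subgroup.map_injective (f := e.toMonoidHom) e.injective
    have h1 : (commutator (S : Subgroup (Cfsg.PSU 3 F 4))).map e.toMonoidHom = commutator (HU σ) := by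
      rw [commutator_def, Subgroup.map_commutator, Subgroup.map_top_of_surjective _ e.surjective, commutator_def]
    rw [h1, commutator_eq_center hne]
    ext y
    rw [Subgroup.mem_map]
    constructor
    · rintro ⟨x, hx, rfl⟩; exact (mem_center_iff hne _).2 ((hmem x).1 hx)
    · intro hy
      exact ⟨e.symm y, (hmem _).2 (by rw [e.apply_symm_apply]; exact (mem_center_iff hne _).1 hy),
        e.apply_symm_apply y⟩
  · have := Subgroup.card_eq_card_quotient_mul_card_subgroup
      (Subgroup.center (S : Subgroup (Cfsg.PSU 3 F 4)))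
    rw [hS, hZ] at this
    omega
  · intro x
    obtain ⟨y, rfl⟩ := QuotientGroup.mk_surjective x
    rw [← QuotientGroup.mk_pow, QuotientGroup.eq_one_iff, hmem, pow_two y, map_mul]
    exact sq_fA _

end Cfsg.Agent.S1248
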