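import Cfsg.Statements.S1249
import Mathlib
-- import your own Cfsg.Agent.* helpers here

set_option autoImplicit false
open Cfsg

namespace Cfsg.Agent.S1249

/-- Let P and Q be Sylow p-subgroups of the finite group G both containing the subgroup A. If A is strongly closed in P, then A is strongly closed in Q. -/
theorem result {G : Type*} [Group G] [Finite G] {p : ℕ} [Fact p.Prime] (P Q : Sylow p G) (A : Subgroup G) (hAQ : A ≤ Q) (hA : Cfsg.IsStronglyClosed A (P : Subgroup G)) : Cfsg.IsStronglyClosed A (Q : Subgroup G) := by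
  obtain ⟨g, hg⟩ := MulAction.exists_smul_eq G P Q
  have hQ : ∀ y : G, y ∈ (Q : Subgroup G) ↔ g⁻¹ * y * g ∈ (P : Subgroup G) := by
    intro y
    rw [← hg, Sylow.coe_subgroup_smul]
    simp [Subgroup.mem_pointwise_smul_iff_inv_smul_mem, ← map_inv, mul_assoc]
  have hsub : ∀ x ∈ A, g⁻¹ * x * g ∈ A := by
    intro x hx
    have h := hA.2 x hx g⁻¹
    rw [inv_inv] at h
    exact h ((hQ x).1 (hAQ hx))
  have hsurj : ∀ x ∈ A, g * x * g⁻¹ ∈ A := by
    intro x hx
    have hinj : Function.Injective (fun a : A => (⟨g⁻¹ * (a : G) * g, hsub _ a.2⟩ : A)) := by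
      intro a b hab
      simp only [Subtype.mk.injEq, mul_left_inj, mul_right_inj] at hab
      exact Subtype.ext hab
    obtain ⟨a, ha⟩ := Finite.surjective_of_injective hinj ⟨x, hx⟩
    have ha' : g⁻¹ * (a : G) * g = x := congrArg Subtype.val ha
    rw [← ha']
    simp [mul_assoc]
  refine ⟨hAQ, fun x hx h hh => ?_⟩
  have h1 : g⁻¹ * h * x * (g⁻¹ * h)⁻¹ ∈ (P : Subgroup G) := by
    have := (hQ _).1 hh
    simpa [mul_assoc] using this
  have h2 := hsurj _ (hA.2 x hx _ h1)
  simpa [mul_assoc] using h2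

end Cfsg.Agent.S1249
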