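import Cfsg.Statements.S1253
import Cfsg.Agent.S1187
-- import your own Cfsg.Agent.* helpers here

set_option autoImplicit false
open Cfsg

namespace Cfsg.Agent.S1253

/-- Let z be an isolated involution of the finite group G with centralizer C, p an odd prime and P a Sylow p-subgroup of G normalized by z. Then P ∩ C has p-power-free index in C (it is a Sylow p-subgroup of C), and |P : C_P(z)| equals the number of elements x ∈ P with z x z⁻¹ = x⁻¹. -/
theorem result {G : Type*} [Group G] [Finite G] (z : G) (hz : Cfsg.IsIsolatedInvolution z) {p : ℕ} [Fact p.Prime] (hp : p ≠ 2) (P : Sylow p G) (hzP : z ∈ Subgroup.normalizer ((P : Subgroup G) : Set G)) : ¬ p ∣ ((P : Subgroup G) ⊓ Subgroup.centralizer ({z} : Set G)).relIndex (Subgroup.centralizer ({z} : Set G)) ∧ ((P : Subgroup G) ⊓ Subgroup.centralizer ({z} : Set G)).relIndex (P : Subgroup G) = Nat.card {x : G // x ∈ P ∧ z * x * z⁻¹ = x⁻¹} := by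
  have hzz : z * z = 1 := IsolatedInv.sq_of_orderOf_two hz.1
  have hzi : z⁻¹ = z := inv_eq_of_mul_eq_one_left hzz
  generalize hCdef : Subgroup.centralizer ({z} : Set G) = C
  have hCmem : ∀ x, x ∈ C ↔ x * z = z * x := fun x => by
    rw [← hCdef, Subgroup.mem_centralizer_singleton_iff]
  have hUC : (P : Subgroup G) ⊓ C ≤ C := inf_le_right
  constructor
  · obtain ⟨R⟩ : Nonempty (Sylow p C) := inferInstance
    have hQC : (R : Subgroup C).map C.subtype ≤ C := Subgroup.map_subtype_le _
    have hzQ : z ∈ Subgroup.normalizer (((R : Subgroup C).map C.subtype : Subgroup G) : Set G) := by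
      rw [Subgroup.mem_normalizer_iff]
      intro x
      constructor
      · intro hx
        rwa [← (hCmem x).1 (hQC hx), mul_inv_cancel_right]
      · intro hx
        have hxc := (hCmem _).1 (hQC hx)
        have e : z * (z * x * z⁻¹) * z⁻¹ = x := by
          rw [show z * (z * x * z⁻¹) * z⁻¹ = (z * z) * x * (z * z)⁻¹ by group, hzz]; group
        rw [← hxc, mul_inv_cancel_right] at e
        rwa [← e]
    obtain ⟨P', hQP', hzP'⟩ := S1187.exists_invariant_ge hz (R.2.map C.subtype) hzQ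
    obtain ⟨g, hg⟩ := MulAction.exists_smul_eq G P P'
    have hmem : ∀ x, x ∈ (P' : Subgroup G) ↔ g⁻¹ * x * g ∈ (P : Subgroup G) := fun x => by
      rw [← hg, Sylow.coe_subgroup_smul, Subgroup.mem_pointwise_smul_iff_inv_smul_mem]
      simp [MulAut.smul_def, mul_assoc]
    have ht : g⁻¹ * z * g⁻¹⁻¹ ∈ Subgroup.normalizer ((P : Subgroup G) : Set G) := by
      rw [Subgroup.mem_normalizer_iff]
      intro x
      have h1 := hmem (g * x * g⁻¹)
      have h2 := Subgroup.mem_normalizer_iff.1 hzP' (g * x * g⁻¹)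
      rw [hmem, hmem] at h2
      rw [show g⁻¹ * (g * x * g⁻¹) * g = x by group] at h2
      rw [h2]
      rw [show g⁻¹ * (z * (g * x * g⁻¹) * z⁻¹) * g =
        g⁻¹ * z * g⁻¹⁻¹ * x * (g⁻¹ * z * g⁻¹⁻¹)⁻¹ by group]
    obtain ⟨c, hc, hcz⟩ := IsolatedInv.exists_conj hz g⁻¹
    have hcN : c ∈ Subgroup.normalizer ((P : Subgroup G) : Set G) :=
      Subgroup.zpowers_le.2 (mul_mem hzP ht) hc
    have hdC : g * c ∈ C := by
      rw [hCmem]
      calc g * c * z = g * (c * z * c⁻¹) * c := by group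
        _ = z * (g * c) := by rw [hcz]; group
    have hle : (R : Subgroup C).map C.subtype ≤
        ((P : Subgroup G) ⊓ C).map (MulAut.conj (g * c)).toMonoidHom := by
      intro x hx
      refine ⟨(g * c)⁻¹ * x * (g * c), ⟨?_, C.mul_mem (C.mul_mem (C.inv_mem hdC) (hQC hx)) hdC⟩,
        by simp [mul_assoc]⟩
      have h1 := (hmem x).1 (hQP' hx)
      have h2 := (Subgroup.mem_normalizer_iff.1 (inv_mem hcN) _).1 h1
      rw [show (g * c)⁻¹ * x * (g * c) = c⁻¹ * (g⁻¹ * x * g) * c⁻¹⁻¹ by group]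
      exact h2
    have hcard := Subgroup.card_le_of_le hle
    rw [Subgroup.card_map_of_injective C.subtype_injective,
      Subgroup.card_map_of_injective (f := (MulAut.conj (g * c)).toMonoidHom)
        (MulAut.conj (g * c)).injective] at hcard
    intro hd
    obtain ⟨m, hm⟩ := IsPGroup.iff_card.1 (P.2.to_le (inf_le_left : (P : Subgroup G) ⊓ C ≤ _))
    have h1 := Subgroup.relIndex_mul_relIndex ⊥ _ C bot_le hUC
    rw [Subgroup.relIndex_bot_left, Subgroup.relIndex_bot_left, hm] at h1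
    rw [R.card_eq_multiplicity, hm, Nat.pow_le_pow_iff_right (Fact.out : p.Prime).one_lt] at hcard
    have h2 : p ^ (m + 1) ∣ Nat.card C := by
      rw [← h1, pow_succ]
      exact Nat.mul_dvd_mul_left _ hd
    have := ((Fact.out : p.Prime).pow_dvd_iff_le_factorization Nat.card_pos.ne').1 h2
    omega
  · have hodd : ∀ x ∈ (P : Subgroup G), Odd (orderOf x) := fun x hx => by
      obtain ⟨k, hk⟩ := IsPGroup.iff_orderOf.1 P.2 ⟨x, hx⟩
      rw [Subgroup.orderOf_mk] at hk
      rw [hk]
      exact ((Fact.out : p.Prime).odd_of_ne_two hp).pow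
    have hrel : ((P : Subgroup G) ⊓ C).relIndex (P : Subgroup G) =
        Nat.card (↥(P : Subgroup G) ⧸ ((P : Subgroup G) ⊓ C).subgroupOf (P : Subgroup G)) := rfl
    rw [hrel]
    let Φ : {x : G // x ∈ P ∧ z * x * z⁻¹ = x⁻¹} →
        ↥(P : Subgroup G) ⧸ ((P : Subgroup G) ⊓ C).subgroupOf (P : Subgroup G) :=
      fun x => ((⟨x.1, x.2.1⟩ : ↥(P : Subgroup G)) : _ ⧸ _)
    refine (Nat.card_eq_of_bijective Φ ⟨fun x y h => Subtype.ext ?_, fun q => ?_⟩).symm
    · rw [QuotientGroup.eq, Subgroup.mem_subgroupOf] at h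
      refine IsolatedInv.decomp_unique hz (g := x.1) ⟨⟨hodd _ x.2.1, x.2.2⟩, ?_⟩
        ⟨⟨hodd _ y.2.1, y.2.2⟩, ?_⟩
      · rw [inv_mul_cancel]; exact one_mem _
      · rw [hCdef]; exact h.2
    · induction q using QuotientGroup.induction_on with
      | H g =>
        obtain ⟨c, hc, hcz⟩ := IsolatedInv.exists_conj hz (g : G)
        have hmem : z * ((g : G) * z * (g : G)⁻¹) ∈ (P : Subgroup G) := by
          rw [show z * ((g : G) * z * (g : G)⁻¹) = (z * g * z) * (g : G)⁻¹ by group]
          refine mul_mem ?_ (inv_mem g.2)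
          have h := (Subgroup.mem_normalizer_iff.1 hzP (g : G)).1 g.2
          rwa [hzi] at h
        have hcP : c ∈ (P : Subgroup G) := Subgroup.zpowers_le.2 hmem hc
        refine ⟨⟨c, hcP, ?_⟩, ?_⟩
        · obtain ⟨n, rfl⟩ := Subgroup.mem_zpowers_iff.mp hc
          rw [← conj_zpow, ← inv_zpow]
          congr 1
          have h1 := IsolatedInv.conj_mul_pow hzz (IsolatedInv.conj_sq hz.1 (g : G)) 1
          rwa [pow_one] at h1
        · rw [QuotientGroup.eq, Subgroup.mem_subgroupOf]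
          refine ⟨(P : Subgroup G).mul_mem ((P : Subgroup G).inv_mem hcP) g.2, ?_⟩
          show c⁻¹ * (g : G) ∈ C
          rw [hCmem]
          calc c⁻¹ * (g : G) * z = c⁻¹ * ((g : G) * z * (g : G)⁻¹) * g := by group
            _ = c⁻¹ * (c * z * c⁻¹) * g := by rw [hcz]
            _ = z * (c⁻¹ * g) := by group

end Cfsg.Agent.S1253
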