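import Cfsg.Statements.S1254
-- import your own Cfsg.Agent.* helpers here
import Cfsg.Agent.Lib.DihedralSylow77
import Cfsg.Agent.Lib.TransferAlperin
open DihedralGroup
open Cfsg.Agent.DihedralSylow77

set_option autoImplicit false
open Cfsg

namespace Cfsg.Agent.S1254

lemma fix_of_pair {X : Type*} [Group X] [Finite X] (Q : Subgroup X) (h : Nat.card Q ≤ 2) (g : X)
    (hg : g ∈ Subgroup.normalizer (Q : Set X)) : g ∈ Subgroup.centralizer (Q : Set X) := by
  rw [Subgroup.mem_centralizer_iff]
  intro x hx
  by_cases hx1 : x = 1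
  · subst hx1; simp
  by_contra hne
  have hgx : g * x * g⁻¹ ∈ Q := (Subgroup.mem_normalizer_iff.1 hg x).1 hx
  let f : Fin 3 → Q := ![1, ⟨x, hx⟩, ⟨g * x * g⁻¹, hgx⟩]
  have h1 : g * x * g⁻¹ ≠ 1 := by simpa using hx1
  have h2 : g * x * g⁻¹ ≠ x := by
    intro h; apply hne
    calc x * g = g * x * g⁻¹ * g := by rw [h]
      _ = g * x := by group
  have hf : Function.Injective f := by
    intro a b hab
    have h := congrArg (fun q : Q => (q : X)) hab
    fin_cases a <;> fin_cases b <;>
      first
      | rfl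
      | (exfalso; simp [f] at h;
         first
         | exact hx1 h | exact hx1 h.symm | exact h1 h | exact h1 h.symm | exact h2 h
         | exact h2 h.symm)
  have h3 := Nat.card_le_card_of_injective f hf
  simp at h3
  omega


/-- Let X be a finite group whose Sylow 2-subgroup S is dihedral (of order at least 4). Then X has a normal 2-complement if and only if, for every Klein four-subgroup U ≤ S, the normalizer N_X(U) is generated by C_X(U) and N_S(U). -/
theorem result {X : Type*} [Group X] [Finite X] (S : Sylow 2 X) (m : ℕ) (hm : 2 ≤ m) (eS : (S : Subgroup X) ≃* DihedralGroup m) : Cfsg.HasNormalPComplement 2 X ↔ ∀ U : Subgroup X, U ≤ S → IsKleinFour U → Subgroup.normalizer (U : Set X) = Subgroup.centralizer (U : Set X) ⊔ ((S : Subgroup X) ⊓ Subgroup.normalizer (U : Set X)) := by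
  classical
  constructor
  · intro h U hUS _
    obtain ⟨P, K, hKn, hKP⟩ := h
    haveI := hKn
    have hKS : K.IsComplement' (S : Subgroup X) := by
      obtain ⟨c, hc⟩ := MulAction.exists_smul_eq X P S
      apply Subgroup.isComplement'_of_card_mul_and_disjoint
      · rw [Nat.card_congr (S.equiv P).toEquiv]; exact hKP.card_mul
      · rw [Subgroup.disjoint_def]
        intro x hxK hxS
        rw [← hc, Sylow.coe_subgroup_smul, Subgroup.mem_pointwise_smul_iff_inv_smul_mem] at hxS
        have hxK' : (MulAut.conj c)⁻¹ • x ∈ K := by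
          rw [MulAut.smul_def, ← map_inv, MulAut.conj_apply]
          exact hKn.conj_mem x hxK c⁻¹
        have h1 : (MulAut.conj c)⁻¹ • x = 1 :=
          (Subgroup.disjoint_def.1 hKP.disjoint) hxK' hxS
        rw [MulAut.smul_def] at h1
        exact (map_eq_one_iff _ (MulEquiv.injective _)).1 h1
    apply le_antisymm
    · intro g hg
      have hgtop : g ∈ K ⊔ (S : Subgroup X) := by rw [hKS.sup_eq_top]; trivial
      obtain ⟨a, ha, s, hs, rfl⟩ := Subgroup.mem_sup_of_normal_left.1 hgtop
      have key : ∀ u ∈ U, a * (s * u * s⁻¹) = (s * u * s⁻¹) * a ∧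
          a * s * u * (a * s)⁻¹ = s * u * s⁻¹ := by
        intro u hu
        have h1 : s * u * s⁻¹ ∈ (S : Subgroup X) := mul_mem (mul_mem hs (hUS hu)) (inv_mem hs)
        have h2 : a * s * u * (a * s)⁻¹ ∈ (S : Subgroup X) :=
          hUS ((Subgroup.mem_normalizer_iff.1 hg u).1 hu)
        have h3 : a * (s * u * s⁻¹) * a⁻¹ * (s * u * s⁻¹)⁻¹ = 1 := by
          apply Subgroup.disjoint_def.1 hKS.disjoint
          · rw [mul_assoc, mul_assoc]
            refine mul_mem ha ?_
            rw [← mul_assoc]
            exact hKn.conj_mem _ (inv_mem ha) _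
          · refine mul_mem ?_ (inv_mem h1)
            convert h2 using 1; group
        have h4 : a * (s * u * s⁻¹) = (s * u * s⁻¹) * a := by
          rw [mul_inv_eq_one, mul_inv_eq_iff_eq_mul] at h3; exact h3
        refine ⟨h4, ?_⟩
        calc a * s * u * (a * s)⁻¹ = a * (s * u * s⁻¹) * a⁻¹ := by group
          _ = s * u * s⁻¹ := by rw [h4]; group
      have hsN : s ∈ Subgroup.normalizer (U : Set X) := by
        apply Subgroup.mem_normalizer_iff_map_conj_eq.2
        apply Subgroup.eq_of_le_of_card_ge
        · rintro _ ⟨u, hu, rfl⟩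
          simp only [MulEquiv.toMonoidHom_eq_coe, MonoidHom.coe_coe, MulAut.conj_apply]
          rw [← (key u hu).2]
          exact (Subgroup.mem_normalizer_iff.1 hg u).1 hu
        · rw [Subgroup.card_map_of_injective (MulAut.conj s).injective]
      have haC : a ∈ Subgroup.centralizer (U : Set X) := by
        rw [Subgroup.mem_centralizer_iff]
        intro u hu
        have hu' : s⁻¹ * u * s ∈ U := (Subgroup.mem_normalizer_iff''.1 hsN u).1 hu
        have := (key _ hu').1
        rw [show s * (s⁻¹ * u * s) * s⁻¹ = u by group] at this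
        exact this.symm
      exact mul_mem (Subgroup.mem_sup_left haC) (Subgroup.mem_sup_right ⟨hs, hsN⟩)
    · exact sup_le (Subgroup.centralizer_le_normalizer _) inf_le_right
  · intro h
    rw [TransferAlperin.hasNormalPComplement_iff_centralizer S]
    intro Q hQS g hg hcop
    have hodd : Odd (orderOf g) := Nat.coprime_two_right.1 hcop
    obtain ⟨k, hk, ψ, hψ, hr⟩ := exists_embedding S m hm eS
    have hQ2 : IsPGroup 2 Q := S.isPGroup'.to_le hQS
    have hQr : ∀ x ∈ Q, ∃ d, ψ d = x := fun x hx => by
      have := hQS hx; rw [← hr] at this; exact this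
    have hgQ : ∀ x ∈ Q, g * x * g⁻¹ ∈ Q := fun x hx => (Subgroup.mem_normalizer_iff.1 hg x).1 hx
    by_cases hA : ∃ w ∈ Q, w * w ≠ 1
    · -- `Q` has a nontrivial cyclic part, which is `g`-invariant
      obtain ⟨w, hwQ, hw⟩ := hA
      have hbig : ∀ x ∈ Q, x * x ≠ 1 → ∃ i, ψ (r i) = x := by
        intro x hx hx2
        obtain ⟨d, rfl⟩ := hQr x hx
        cases d with
        | r i => exact ⟨i, rfl⟩
        | sr i => rw [← map_mul, sr_mul_self, map_one] at hx2; exact absurd rfl hx2
      let C : Subgroup X := Q ⊓ (Subgroup.zpowers (r (1 : ZMod (2 * k)))).map ψ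
      have hmemR : ∀ i, ψ (r i) ∈ (Subgroup.zpowers (r (1 : ZMod (2 * k)))).map ψ := fun i =>
        ⟨_, Subgroup.mem_zpowers_iff.2 ⟨(i.cast : ℤ), by rw [r_one_zpow, ZMod.intCast_zmod_cast]⟩,
          rfl⟩
      have hCR : ∀ x ∈ C, ∃ i, ψ (r i) = x := by
        rintro x ⟨-, d, hd, rfl⟩
        obtain ⟨n, rfl⟩ := Subgroup.mem_zpowers_iff.1 hd
        exact ⟨n, by rw [r_one_zpow]⟩
      have hzC : ψ (r (k : ZMod (2 * k))) ∈ Q := by
        obtain ⟨j, hj⟩ := IsPGroup.iff_orderOf.1 hQ2 ⟨w, hwQ⟩
        rw [Subgroup.orderOf_mk] at hj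
        obtain ⟨i, rfl⟩ := hbig w hwQ hw
        rcases Nat.eq_zero_or_pos j with rfl | hj0
        · rw [pow_zero, orderOf_eq_one_iff] at hj; rw [hj] at hw; simp at hw
        have ho : orderOf (ψ (r i) ^ 2 ^ (j - 1)) = 2 := by
          rw [orderOf_pow_of_dvd (by positivity) (by rw [hj]; exact pow_dvd_pow 2 (by omega)), hj,
            Nat.pow_div (by omega) (by norm_num), show j - (j - 1) = 1 by omega, pow_one]
        have hmem : ψ (r i) ^ 2 ^ (j - 1) ∈ Q := pow_mem hwQ _
        rw [← map_pow, r_pow] at ho hmem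
        have hsq : ψ (r (i * (2 ^ (j - 1) : ℕ))) * ψ (r (i * (2 ^ (j - 1) : ℕ))) = 1 := by
          have h2 := pow_orderOf_eq_one (ψ (r (i * (2 ^ (j - 1) : ℕ))))
          rwa [ho, pow_two] at h2
        rcases map_sq_one_cases ψ hk hψ ⟨_, rfl⟩ hsq with h1 | h1 | ⟨l, h1⟩
        · rw [h1, orderOf_one] at ho; norm_num at ho
        · rwa [h1] at hmem
        · exact absurd (hψ h1) (by simp)
      have hCinv : ∀ x ∈ C, g * x * g⁻¹ ∈ C := by
        intro x hx
        refine ⟨hgQ x hx.1, ?_⟩
        have key : ∀ y ∈ Q, y * y ≠ 1 → g * y * g⁻¹ ∈ (Subgroup.zpowers (r (1 : ZMod (2 * k)))).map ψ := by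
          intro y hy hy2
          obtain ⟨i, hi⟩ := hbig _ (hgQ y hy) (by
            intro h1
            apply hy2
            calc y * y = g⁻¹ * (g * y * g⁻¹ * (g * y * g⁻¹)) * g := by group
              _ = 1 := by rw [h1]; group)
          rw [← hi]; exact hmemR i
        by_cases hx2 : x * x = 1
        · -- `x = (x * w) * w⁻¹`
          have hwR : w ∈ (Subgroup.zpowers (r (1 : ZMod (2 * k)))).map ψ := by
            obtain ⟨i, rfl⟩ := hbig w hwQ hw; exact hmemR i
          have hcomm : x * w = w * x := by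
            obtain ⟨i, rfl⟩ := hCR x hx
            obtain ⟨l, rfl⟩ := hbig w hwQ hw
            rw [← map_mul, ← map_mul, r_mul_r, r_mul_r, add_comm]
          have hxw : x * w * (x * w) ≠ 1 := by
            intro h1; apply hw
            calc w * w = x * x * (w * w) := by rw [hx2, one_mul]
              _ = x * (w * x) * w := by rw [← hcomm]; group
              _ = 1 := by rw [← h1]; group
          have h1 := key _ (mul_mem hx.1 hwQ) hxw
          have h2 := key w hwQ hw
          have : g * x * g⁻¹ = g * (x * w) * g⁻¹ * (g * w * g⁻¹)⁻¹ := by group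
          rw [this]; exact Subgroup.mul_mem _ h1 (Subgroup.inv_mem _ h2)
        · exact key x hx.1 hx2
      have hfixC := centralizes_of_fix_involutions C (hQ2.to_le inf_le_left) (by
        intro x hx y hy
        obtain ⟨i, rfl⟩ := hCR x hx
        obtain ⟨l, rfl⟩ := hCR y hy
        rw [← map_mul, ← map_mul, r_mul_r, r_mul_r, add_comm]) g hCinv hodd (by
        intro x hx hx2
        have hone : ∀ y ∈ C, y * y = 1 → y = 1 ∨ y = ψ (r (k : ZMod (2 * k))) := by
          intro y hy hy2
          obtain ⟨i, rfl⟩ := hCR y hy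
          rcases map_sq_one_cases ψ hk hψ ⟨_, rfl⟩ hy2 with h1 | h1 | ⟨l, h1⟩
          · exact Or.inl h1
          · exact Or.inr h1
          · exact absurd (hψ h1) (by simp)
        rcases hone x hx (by rw [← pow_two, hx2]) with rfl | rfl
        · simp
        · rcases hone _ (hCinv _ hx) (by rw [← pow_two, conj_pow, hx2]; simp) with h1 | h1
          · rw [conj_eq_one_iff] at h1
            rw [h1]; simp
          · exact h1)
      rw [Subgroup.mem_centralizer_iff]
      intro x hx
      suffices hfix : g * x * g⁻¹ = x by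
        calc x * g = g * x * g⁻¹ * g := by rw [hfix]
          _ = g * x := by group
      by_cases hxC : x ∈ C
      · exact hfixC x hxC
      obtain ⟨i, rfl⟩ : ∃ i, x = ψ (sr i) := by
        obtain ⟨d, rfl⟩ := hQr x hx
        cases d with
        | r i => exact absurd ⟨hx, hmemR i⟩ hxC
        | sr i => exact ⟨i, rfl⟩
      have hgx : g * ψ (sr i) * g⁻¹ ∉ C := by
        intro hc
        obtain ⟨j, hj⟩ := hCR _ hc
        have h1 : ψ (r j) * ψ (r j) = 1 := by
          rw [hj, ← pow_two, conj_pow, pow_two, ← map_mul, sr_mul_self, map_one, mul_one,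
            mul_inv_cancel]
        rcases map_sq_one_cases ψ hk hψ ⟨_, rfl⟩ h1 with h2 | h2 | ⟨l, h2⟩
        · rw [hj, conj_eq_one_iff] at h2
          exact hxC (h2 ▸ one_mem C)
        · have hzfix := hfixC _ (show ψ (r (k : ZMod (2 * k))) ∈ C from ⟨hzC, hmemR _⟩)
          rw [hj] at h2
          have : g * ψ (sr i) * g⁻¹ = g * ψ (r (k : ZMod (2 * k))) * g⁻¹ := h2.trans hzfix.symm
          rw [mul_left_inj, mul_right_inj] at this
          exact absurd (hψ this) (by simp)
        · exact absurd (hψ h2) (by simp)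
      obtain ⟨j, hj⟩ : ∃ j, g * ψ (sr i) * g⁻¹ = ψ (sr j) := by
        obtain ⟨d, hd⟩ := hQr _ (hgQ _ hx)
        cases d with
        | r j => exact absurd ⟨hgQ _ hx, hd ▸ hmemR j⟩ hgx
        | sr j => exact ⟨j, hd.symm⟩
      obtain ⟨c, hcdef⟩ : ∃ c, c = ψ (sr i) * (g * ψ (sr i) * g⁻¹) := ⟨_, rfl⟩
      have hcC : c ∈ C := by
        refine ⟨hcdef ▸ mul_mem hx (hgQ _ hx), ?_⟩
        rw [hcdef, hj, ← map_mul, sr_mul_sr]; exact hmemR _
      have hgc : g * c * g⁻¹ = c := hfixC c hcC
      have hxx : ψ (sr i) * ψ (sr i) = 1 := by rw [← map_mul, sr_mul_self, map_one]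
      have hstep : g * ψ (sr i) * g⁻¹ = ψ (sr i) * c := by
        rw [hcdef, ← mul_assoc (ψ (sr i)), hxx, one_mul]
      have hiter : ∀ n : ℕ, g ^ n * ψ (sr i) * (g ^ n)⁻¹ = ψ (sr i) * c ^ n := by
        intro n
        induction n with
        | zero => simp
        | succ n ihn =>
          calc g ^ (n + 1) * ψ (sr i) * (g ^ (n + 1))⁻¹
              = g * (g ^ n * ψ (sr i) * (g ^ n)⁻¹) * g⁻¹ := by rw [pow_succ']; group
            _ = (g * ψ (sr i) * g⁻¹) * (g * c * g⁻¹) ^ n := by
              rw [ihn, conj_pow]; group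
            _ = ψ (sr i) * c ^ (n + 1) := by rw [hstep, hgc, mul_assoc, ← pow_succ']
      have h1 := hiter (orderOf g)
      rw [pow_orderOf_eq_one, one_mul, inv_one, mul_one, left_eq_mul] at h1
      obtain ⟨e, he⟩ := (hQ2.to_le (inf_le_left : C ≤ Q)) ⟨c, hcC⟩
      have he' : c ^ 2 ^ e = 1 := congrArg Subtype.val he
      have hc1 : c = 1 := by
        rw [← orderOf_eq_one_iff]
        exact Nat.eq_one_of_dvd_coprimes (Nat.Coprime.pow_right e hcop) (orderOf_dvd_of_pow_eq_one h1)
          (orderOf_dvd_of_pow_eq_one he')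
      rw [hstep, hc1, mul_one]
    · -- all elements square to one
      push Not at hA
      by_cases hsmall : Nat.card Q ≤ 2
      · exact fix_of_pair Q hsmall g hg
      obtain ⟨i, hi⟩ : ∃ i, ψ (sr i) ∈ Q := by
        by_contra hcon
        push Not at hcon
        apply hsmall
        have : ∀ x : Q, (x : X) = 1 ∨ (x : X) = ψ (r (k : ZMod (2 * k))) := by
          rintro ⟨x, hx⟩
          obtain ⟨d, rfl⟩ := hQr x hx
          rcases map_sq_one_cases ψ hk hψ ⟨d, rfl⟩ (hA _ hx) with h1 | h1 | ⟨l, h1⟩
          · exact Or.inl h1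
          · exact Or.inr h1
          · exact absurd (h1 ▸ hx) (hcon l)
        let f : Q → Bool := fun x => decide ((x : X) = 1)
        have hf : Function.Injective f := by
          intro x y hxy
          simp only [f, decide_eq_decide] at hxy
          apply Subtype.ext
          rcases this x with h1 | h1 <;> rcases this y with h2 | h2
          · rw [h1, h2]
          · rw [h1, hxy.1 h1]
          · rw [hxy.2 h2, h2]
          · rw [h1, h2]
        simpa using Nat.card_le_card_of_injective f hf
      have hQU : Q ≤ four ψ hψ i := by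
        intro x hx
        rw [mem_four]
        rcases map_sq_one_cases ψ hk hψ (by rw [hr]; exact hQS hx) (hA x hx) with h1 | h1 | ⟨l, h1⟩
        · exact Or.inl h1
        · exact Or.inr (Or.inl h1)
        · subst h1
          have hp : ψ (sr i) * ψ (sr l) * (ψ (sr i) * ψ (sr l)) = 1 := hA _ (mul_mem hi hx)
          rw [← map_mul, sr_mul_sr] at hp
          rcases map_sq_one_cases ψ hk hψ ⟨_, rfl⟩ hp with h2 | h2 | ⟨q, h2⟩
          · rw [← map_one ψ] at h2
            have h3 := hψ h2
            rw [one_def] at h3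
            simp only [r.injEq, sub_eq_zero] at h3
            exact Or.inr (Or.inr (Or.inl (by rw [h3])))
          · have h3 := hψ h2
            simp only [r.injEq] at h3
            exact Or.inr (Or.inr (Or.inr (by rw [← h3, add_sub_cancel])))
          · exact absurd (hψ h2) (by simp)
      have h4 := (isKleinFour_four ψ hk hψ i).card_four
      haveI : Finite (four ψ hψ i) := Nat.finite_of_card_ne_zero (by rw [h4]; norm_num)
      have hQeq : Q = four ψ hψ i := by
        apply Subgroup.eq_of_le_of_card_ge hQU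
        rw [h4]
        obtain ⟨e, he⟩ := hQ2.exists_card_eq
        rw [he] at hsmall ⊢
        calc 4 = 2 ^ 2 := by norm_num
          _ ≤ 2 ^ e := Nat.pow_le_pow_right (by norm_num) (by
              by_contra hlt
              exact hsmall (le_trans (Nat.pow_le_pow_right (by norm_num) (show e ≤ 1 by omega))
                (by norm_num)))
      have hN := h Q hQS (hQeq ▸ isKleinFour_four ψ hk hψ i)
      haveI hCn : ((Subgroup.centralizer (Q : Set X)).subgroupOf
          (Subgroup.normalizer (Q : Set X))).Normal := by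
        rw [← Subgroup.normalizerMonoidHom_ker]; infer_instance
      have hgm : g ∈ Subgroup.centralizer (Q : Set X) ⊔
          ((S : Subgroup X) ⊓ Subgroup.normalizer (Q : Set X)) := hN ▸ hg
      have hCle := Subgroup.centralizer_le_normalizer (Q : Set X)
      have hnorm : (S : Subgroup X) ⊓ Subgroup.normalizer (Q : Set X) ≤
          Subgroup.normalizer (Subgroup.centralizer (Q : Set X) : Set X) := by
        intro s hs
        rw [Subgroup.mem_normalizer_iff]
        intro c
        have hN' : s ∈ Subgroup.normalizer (Q : Set X) := hs.2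
        constructor
        · intro hc
          have := hCn.conj_mem ⟨c, hCle hc⟩ hc ⟨s, hN'⟩
          exact this
        · intro hc
          have hmem : c ∈ Subgroup.normalizer (Q : Set X) := by
            have := mul_mem (mul_mem (inv_mem hN') (hCle hc)) hN'
            simpa [mul_assoc] using this
          have := hCn.conj_mem ⟨s * c * s⁻¹, mul_mem (mul_mem hN' hmem) (inv_mem hN')⟩ hc
            (⟨s, hN'⟩⁻¹)
          simpa [Subgroup.mem_subgroupOf, mul_assoc] using this
      rw [← SetLike.mem_coe, Subgroup.coe_mul_of_right_le_normalizer_left _ _ hnorm] at hgm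
      obtain ⟨c, hc, s, hs, hcs⟩ := Set.mem_mul.1 hgm
      obtain ⟨e, he⟩ := S.isPGroup' ⟨s, hs.1⟩
      have he' : s ^ 2 ^ e = 1 := congrArg Subtype.val he
      let q := QuotientGroup.mk' ((Subgroup.centralizer (Q : Set X)).subgroupOf
          (Subgroup.normalizer (Q : Set X)))
      have hq : q ⟨g, hg⟩ = q ⟨s, hs.2⟩ := by
        rw [show (⟨g, hg⟩ : Subgroup.normalizer (Q : Set X)) = ⟨c, hCle hc⟩ * ⟨s, hs.2⟩ from
          Subtype.ext hcs.symm, map_mul]
        have : q ⟨c, hCle hc⟩ = 1 := (QuotientGroup.eq_one_iff _).2 hc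
        rw [this, one_mul]
      have h1 : orderOf (q ⟨g, hg⟩) ∣ orderOf g := by
        rw [← Subgroup.orderOf_mk g hg]
        exact orderOf_map_dvd q _
      have h2 : orderOf (q ⟨g, hg⟩) ∣ 2 ^ e := by
        rw [hq]
        exact orderOf_dvd_of_pow_eq_one (by
          rw [← map_pow, show (⟨s, hs.2⟩ : Subgroup.normalizer (Q : Set X)) ^ 2 ^ e = 1 from
            Subtype.ext he', map_one])
      have h3 : q ⟨g, hg⟩ = 1 :=
        orderOf_eq_one_iff.1 (Nat.eq_one_of_dvd_coprimes (Nat.Coprime.pow_right e hcop) h1 h2)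
      exact (QuotientGroup.eq_one_iff (⟨g, hg⟩ : Subgroup.normalizer (Q : Set X))).1 h3

end Cfsg.Agent.S1254
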