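import Cfsg.Statements.S1255
-- import your own Cfsg.Agent.* helpers here
import Cfsg.Agent.Lib.DihedralSylow77
import Cfsg.Agent.Lib.TransferThompson
open DihedralGroup
open Cfsg.Agent.DihedralSylow77

set_option autoImplicit false
open Cfsg

namespace Cfsg.Agent.S1255


/-- Let X be a finite group whose Sylow 2-subgroup S is dihedral of order 2m ≥ 4. Then X has no subgroup of index 2 and no isolated involution if and only if either all involutions of X are conjugate, or for every Klein four-subgroup U ≤ S the index |N_X(U) : C_X(U)| equals 3 when |S| = 4 and equals 6 when |S| > 4. -/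
theorem result {X : Type*} [Group X] [Finite X] (S : Sylow 2 X) (m : ℕ) (hm : 2 ≤ m) (eS : (S : Subgroup X) ≃* DihedralGroup m) : ((∀ H : Subgroup X, H.index ≠ 2) ∧ (∀ z : X, ¬ Cfsg.IsIsolatedInvolution z)) ↔ ((∀ a b : X, orderOf a = 2 → orderOf b = 2 → IsConj a b) ∨ (∀ U : Subgroup X, U ≤ S → IsKleinFour U → (Subgroup.centralizer (U : Set X)).relIndex (Subgroup.normalizer (U : Set X)) = (if Nat.card S = 4 then 3 else 6))) := by
  classical
  obtain ⟨k, hk, ψ, hψ, hr⟩ := exists_embedding S m hm eS
  have hS : ∀ d, ψ d ∈ (S : Subgroup X) := fun d => hr ▸ ⟨d, rfl⟩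
  set z := ψ (r (k : ZMod (2 * k))) with hzdef
  have hz2 : orderOf z = 2 := orderOf_z ψ hk hψ
  -- all involutions conjugate, once all reflections are conjugate to `z`
  have allconj : (∀ i, IsConj (ψ (sr i)) z) →
      ∀ a b : X, orderOf a = 2 → orderOf b = 2 → IsConj a b := by
    intro hrefl
    have toz : ∀ a : X, orderOf a = 2 → IsConj a z := by
      intro a ha
      have hpg : IsPGroup 2 (Subgroup.zpowers a) := by
        rw [IsPGroup.iff_card]; exact ⟨1, by rw [Nat.card_zpowers, ha, pow_one]⟩
      obtain ⟨Q, hQ⟩ := hpg.exists_le_sylow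
      obtain ⟨c, hc⟩ := MulAction.exists_smul_eq X Q S
      have hmem : c * a * c⁻¹ ∈ (S : Subgroup X) := by
        rw [← hc, Sylow.coe_subgroup_smul]
        exact Subgroup.mem_pointwise_smul_iff_inv_smul_mem.2 (by
          simpa [MulAut.smul_def, ← map_inv, MulAut.conj_apply, mul_assoc] using
            hQ (Subgroup.mem_zpowers a))
      rw [← hr] at hmem
      have hsq : c * a * c⁻¹ * (c * a * c⁻¹) = 1 := by
        rw [← pow_two, conj_pow, ← ha, pow_orderOf_eq_one, mul_one, mul_inv_cancel]
      refine (isConj_iff.2 ⟨c, rfl⟩ : IsConj a (c * a * c⁻¹)).trans ?_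
      rcases map_sq_one_cases ψ hk hψ hmem hsq with h | h | ⟨i, h⟩
      · rw [conj_eq_one_iff] at h
        rw [h, orderOf_one] at ha; norm_num at ha
      · rw [h]
      · rw [h]; exact hrefl i
    exact fun a b ha hb => (toz a ha).trans (toz b hb).symm
  constructor
  · rintro ⟨hidx, -⟩
    left
    apply allconj
    intro i
    by_contra hnc
    let R : Subgroup X := (Subgroup.zpowers (r (1 : ZMod (2 * k)))).map ψ
    have hRS : R ≤ (S : Subgroup X) := by
      rintro _ ⟨d, -, rfl⟩; exact hS d
    have hR : R.relIndex (S : Subgroup X) = 2 := by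
      rw [← hr, MonoidHom.range_eq_map, Subgroup.relIndex_map_map_of_injective _ _ hψ,
        Subgroup.relIndex_top_right]
      have h := (Subgroup.zpowers (r (1 : ZMod (2 * k)))).card_mul_index
      rw [Nat.card_zpowers, orderOf_r_one, DihedralGroup.nat_card, mul_comm 2 (2 * k)] at h
      exact Nat.eq_of_mul_eq_mul_left (by omega) h
    have hconj : ∀ g : X, g * ψ (sr i) * g⁻¹ ∉ R := by
      rintro g ⟨d, hd, hde⟩
      obtain ⟨n, rfl⟩ := Subgroup.mem_zpowers_iff.1 hd
      have hsq : g * ψ (sr i) * g⁻¹ * (g * ψ (sr i) * g⁻¹) = 1 := by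
        rw [← pow_two, conj_pow, pow_two, ← map_mul, sr_mul_self, map_one, mul_one, mul_inv_cancel]
      have hmem : g * ψ (sr i) * g⁻¹ ∈ ψ.range := ⟨_, hde⟩
      rcases map_sq_one_cases ψ hk hψ hmem hsq with h | h | ⟨j, h⟩
      · rw [conj_eq_one_iff] at h
        have := orderOf_sr' ψ hψ i
        rw [h, orderOf_one] at this; norm_num at this
      · exact hnc (isConj_iff.2 ⟨g, h⟩)
      · rw [← hde] at h
        have h' := hψ h
        rw [r_one_zpow] at h'
        simp at h'
    obtain ⟨M, -, hM, -⟩ := TransferThompson.thompson_transfer S R hRS hR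
      (orderOf_sr' ψ hψ i) (hS _) hconj
    exact hidx M hM
  · intro h
    have hall : ∀ a b : X, orderOf a = 2 → orderOf b = 2 → IsConj a b := by
      rcases h with h | h
      · exact h
      apply allconj
      intro i
      set U := four ψ hψ i with hU
      have hUS : U ≤ (S : Subgroup X) := by
        intro x hx
        rcases (mem_four ψ).1 hx with rfl | rfl | rfl | rfl
        · exact one_mem _
        all_goals exact hS _
      have hrel := h U hUS (isKleinFour_four ψ hk hψ i)
      have h3 : 3 ∣ (Subgroup.centralizer (U : Set X)).relIndex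
          (Subgroup.normalizer (U : Set X)) := by
        rw [hrel]; split_ifs <;> norm_num
      haveI : Fact (Nat.Prime 3) := ⟨by norm_num⟩
      obtain ⟨Q⟩ : Nonempty (Sylow 3 ↥(Subgroup.normalizer (U : Set X))) := inferInstance
      obtain ⟨g, hgQ, hgC⟩ : ∃ g ∈ (Q : Subgroup ↥(Subgroup.normalizer (U : Set X))),
          (g : X) ∉ Subgroup.centralizer (U : Set X) := by
        by_contra hcon
        push Not at hcon
        apply Q.not_dvd_index
        refine dvd_trans ?_ (Subgroup.index_dvd_of_le
          (show (Q : Subgroup ↥(Subgroup.normalizer (U : Set X))) ≤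
            (Subgroup.centralizer (U : Set X)).subgroupOf (Subgroup.normalizer (U : Set X)) from
            fun g hg => hcon g hg))
        exact h3
      obtain ⟨j, hj⟩ := IsPGroup.iff_orderOf.1 Q.isPGroup' ⟨g, hgQ⟩
      have hodd : Odd (orderOf (g : X)) := by
        rw [Subgroup.orderOf_coe]
        rw [Subgroup.orderOf_mk] at hj
        rw [hj]; exact Odd.pow (by decide)
      exact isConj_of_not_centralized ψ hk hψ i hodd g.2 hgC
    refine ⟨?_, ?_⟩
    · intro H hH
      haveI : H.Normal := Subgroup.normal_of_index_eq_two hH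
      have hall' : ∀ a : X, orderOf a = 2 → a ∈ H := by
        obtain ⟨t, ht, htH⟩ : ∃ t, orderOf t = 2 ∧ t ∈ H := by
          by_cases h0 : ψ (sr 0) ∈ H
          · exact ⟨_, orderOf_sr' ψ hψ 0, h0⟩
          by_cases h1 : ψ (sr 1) ∈ H
          · exact ⟨_, orderOf_sr' ψ hψ 1, h1⟩
          refine ⟨z, hz2, ?_⟩
          have h2 : ψ (r 1) ∈ H := by
            have : r (1 : ZMod (2 * k)) = sr 0 * sr 1 := by rw [sr_mul_sr, sub_zero]
            rw [this, map_mul, Subgroup.mul_mem_iff_of_index_two hH]
            exact iff_of_false h0 h1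
          have h3 : z = ψ (r 1) ^ k := by rw [hzdef, ← map_pow, r_one_pow]
          rw [h3]; exact pow_mem h2 k
        intro a ha
        obtain ⟨c, rfl⟩ := isConj_iff.1 (hall t a ht ha)
        exact Subgroup.Normal.conj_mem inferInstance t htH c
      have hSH : (S : Subgroup X) ≤ H := by
        rw [← hr]
        rintro _ ⟨d, rfl⟩
        cases d with
        | r i =>
          have : r i = sr (0 : ZMod (2 * k)) * sr i := by rw [sr_mul_sr, sub_zero]
          rw [this, map_mul]
          exact mul_mem (hall' _ (orderOf_sr' ψ hψ 0)) (hall' _ (orderOf_sr' ψ hψ i))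
        | sr i => exact hall' _ (orderOf_sr' ψ hψ i)
      have := Subgroup.index_dvd_of_le hSH
      rw [hH] at this
      exact S.not_dvd_index this
    · intro w hw
      obtain ⟨p, hp⟩ := isConj_iff.1 (hall w z hw.1 hz2)
      obtain ⟨q, hq⟩ := isConj_iff.1 (hall w (ψ (sr 0)) hw.1 (orderOf_sr' ψ hψ 0))
      have hcomm : Commute z (ψ (sr 0)) := by
        rw [hzdef, commute_iff_eq, ← map_mul, ← map_mul, r_mul_sr, sr_mul_r, sub_eq_add_neg, neg_k]
      have hw' := hw.2 (p⁻¹ * q) (by
        have h1 : w = p⁻¹ * z * p := by rw [← hp]; group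
        have h2 : p⁻¹ * q * w * (p⁻¹ * q)⁻¹ = p⁻¹ * ψ (sr 0) * p := by rw [← hq]; group
        rw [h2]
        conv_lhs => rw [h1]
        simpa using hcomm.conj p⁻¹)
      have : ψ (sr 0) = z := by
        rw [← hq, ← hp]
        calc q * w * q⁻¹ = p * (p⁻¹ * q * w * (p⁻¹ * q)⁻¹) * p⁻¹ := by group
          _ = p * w * p⁻¹ := by rw [hw']
      simpa [hzdef] using hψ this

end Cfsg.Agent.S1255
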