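import Cfsg.Statements.S1256
import Mathlib
import Cfsg.Agent.Lib.DihedralSylow77
import Cfsg.Agent.Lib.DihedralFour35

set_option autoImplicit false
open Cfsg

namespace Cfsg.Agent.S1256

/-- Let X be a finite group whose Sylow 2-subgroup S is dihedral of order 2m ≥ 4. If |S| = 4, any two Klein four-subgroups of X are conjugate; if |S| > 4, there are Klein four-subgroups U₁, U₂ of X that are not conjugate, and every Klein four-subgroup of X is conjugate to U₁ or to U₂. -/
theorem result {X : Type*} [Group X] [Finite X] (S : Sylow 2 X) (m : ℕ) (hm : 2 ≤ m) (eS : (S : Subgroup X) ≃* DihedralGroup m) : (Nat.card S = 4 → ∀ U V : Subgroup X, IsKleinFour U → IsKleinFour V → (∃ x : X, U.map (MulAut.conj x).toMonoidHom = V)) ∧ (4 < Nat.card S → ∃ U₁ U₂ : Subgroup X, IsKleinFour U₁ ∧ IsKleinFour U₂ ∧ ¬ (∃ x : X, U₁.map (MulAut.conj x).toMonoidHom = U₂) ∧ ∀ V : Subgroup X, IsKleinFour V → (∃ x : X, V.map (MulAut.conj x).toMonoidHom = U₁) ∨ (∃ x : X, V.map (MulAut.conj x).toMonoidHom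 = U₂)) := by
  have : Fact (Nat.Prime 2) := ⟨Nat.prime_two⟩
  have hK : ∀ U : Subgroup X, IsKleinFour U → IsPGroup 2 U := fun U hU =>
    IsPGroup.of_card (n := 2) (by rw [hU.card_four]; norm_num)
  refine ⟨fun h4 U V hU hV => ?_, fun h4 => ?_⟩
  · obtain ⟨P, hP⟩ := (hK U hU).exists_le_sylow
    obtain ⟨Q, hQ⟩ := (hK V hV).exists_le_sylow
    have eq : ∀ (W : Subgroup X) (R : Sylow 2 X), IsKleinFour W → W ≤ R → W = R :=
      fun W R hW hWR => Subgroup.eq_of_le_of_card_ge hWR (by
        rw [hW.card_four, R.card_eq_multiplicity, ← S.card_eq_multiplicity, h4])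
    obtain ⟨x, hx⟩ := MulAction.exists_smul_eq X P Q
    refine ⟨x, ?_⟩
    rw [eq U P hU hP, eq V Q hV hQ, ← hx, Sylow.coe_subgroup_smul]
    rfl
  obtain ⟨k, hk, ψ₀, hψ₀, hr₀⟩ := DihedralSylow77.exists_embedding S m hm eS
  have hcard : Nat.card (S : Subgroup X) = 4 * k := by
    rw [← hr₀, ← Nat.card_congr (MonoidHom.ofInjective hψ₀).toEquiv, DihedralGroup.nat_card]
    ring
  obtain ⟨j, hj⟩ := S.isPGroup'.exists_card_eq
  rw [hcard] at hj
  obtain ⟨n, hn, hkn⟩ : ∃ n, 1 ≤ n ∧ k = 2 ^ n := by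
    obtain ⟨n, -, hn⟩ := (Nat.dvd_prime_pow Nat.prime_two).1 (hj ▸ dvd_mul_left k 4)
    refine ⟨n, ?_, hn⟩
    by_contra h
    have h0 : n = 0 := by omega
    subst h0
    rw [hcard] at h4
    simp at hn
    omega
  subst hkn
  obtain ⟨ψ, hψ, hr⟩ : ∃ ψ : DihedralGroup (2 ^ (n + 1)) →* X,
      Function.Injective ψ ∧ ψ.range = (S : Subgroup X) := by
    rw [show 2 ^ (n + 1) = 2 * 2 ^ n by ring]
    exact ⟨ψ₀, hψ₀, hr₀⟩
  set U : ZMod (2 ^ (n + 1)) → Subgroup X :=
    fun i => (DihedralFour35.dsub (Nat.le_succ n) i).map ψ with hU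
  have hcardU : ∀ i, Nat.card (U i) = 4 := fun i => by
    rw [hU]
    simp only
    rw [Subgroup.card_map_of_injective hψ, DihedralFour35.card_dsub, Nat.add_sub_cancel_left]
    norm_num
  have hUS : ∀ i, U i ≤ (S : Subgroup X) := fun i => (Subgroup.map_le_range _ _).trans hr.le
  have hclass : ∀ V : Subgroup X, IsKleinFour V → ∃ (x : X) (i : ZMod (2 ^ (n + 1))),
      V.map (MulAut.conj x).toMonoidHom = U i := by
    intro V hV
    obtain ⟨c, hc⟩ := DihedralFour35.exists_conj_le S (hK V hV)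
    set H := V.map (MulAut.conj c).toMonoidHom with hH
    have hHW : (H.comap ψ).map ψ = H := Subgroup.map_comap_eq_self (hr ▸ hc)
    have h4c : Nat.card (H.comap ψ) = 4 := by
      rw [← Subgroup.card_map_of_injective (K := H.comap ψ) hψ, hHW, hH,
        Subgroup.card_map_of_injective (MulAut.conj c).injective, hV.card_four]
    have hsq : ∀ u ∈ H.comap ψ, u * u = 1 := by
      intro u hu
      obtain ⟨v, hv, hv'⟩ := Subgroup.mem_comap.1 hu
      have hv2 : v * v = 1 := congrArg Subtype.val (IsKleinFour.mul_self (⟨v, hv⟩ : V))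
      apply hψ
      rw [map_mul, map_one, ← hv', ← map_mul, hv2, map_one]
    have : Finite (H.comap ψ) := Nat.finite_of_card_ne_zero (by omega)
    have : Fintype (H.comap ψ) := Fintype.ofFinite _
    obtain ⟨u, v, hu1, hv1, huv⟩ : ∃ u v : H.comap ψ, u ≠ 1 ∧ v ≠ 1 ∧ u ≠ v := by
      classical
      have h3 : 1 < (Finset.univ.erase (1 : H.comap ψ)).card := by
        rw [Finset.card_erase_of_mem (Finset.mem_univ _), Finset.card_univ,
          ← Nat.card_eq_fintype_card, h4c]
        norm_num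
      obtain ⟨u, hu, v, hv, huv⟩ := Finset.one_lt_card.1 h3
      exact ⟨u, v, (Finset.mem_erase.1 hu).1, (Finset.mem_erase.1 hv).1, huv⟩
    obtain ⟨l, hl⟩ := DihedralFour35.exists_eq_dsub (Nat.le_succ n) (H.comap ψ)
      (by rw [h4c, Nat.add_sub_cancel_left]; norm_num) u.2 v.2 (hsq _ u.2) (hsq _ v.2)
      (fun h => hu1 (Subtype.ext h)) (fun h => hv1 (Subtype.ext h)) (fun h => huv (Subtype.ext h))
    exact ⟨c, l, by rw [hU]; simp only; rw [← hl, hHW]⟩
  have hklein : ∀ i, IsKleinFour (U i) := by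
    intro i
    haveI : Finite (U i) := Nat.finite_of_card_ne_zero (by rw [hcardU i]; norm_num)
    haveI : Nontrivial (U i) := Finite.one_lt_card_iff_nontrivial.1 (by rw [hcardU i]; norm_num)
    refine ⟨hcardU i, ?_⟩
    rw [Monoid.exponent_eq_prime_iff Nat.prime_two]
    intro x hx
    refine orderOf_eq_prime (Subtype.ext ?_) hx
    obtain ⟨d, hd, hd'⟩ := x.2
    rw [Subgroup.coe_pow, ← hd', Subgroup.coe_one, pow_two, ← map_mul, ← map_one ψ]
    congr 1
    cases d with
    | sr y => exact DihedralGroup.sr_mul_self y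
    | r y =>
      have h0 := (DihedralFour35.red_eq_zero_iff _ _).1 (DihedralFour35.r_mem.1 hd)
      rw [DihedralGroup.r_mul_r, DihedralGroup.one_def]
      congr 1
      obtain ⟨q, hq⟩ := h0
      rw [← ZMod.natCast_zmod_val y, ← Nat.cast_add, ZMod.natCast_eq_zero_iff, hq]
      exact ⟨q, by ring⟩
  refine ⟨U 0, U 1, hklein 0, hklein 1, ?_, ?_⟩
  · rintro ⟨x, hx⟩
    refine DihedralFour35.not_conj S hψ hr hn 0 1 ?_ x hx
    rw [map_zero, map_one]
    have : Fact (1 < 2 ^ 1) := ⟨by norm_num⟩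
    exact zero_ne_one
  · intro V hV
    obtain ⟨x, i, hx⟩ := hclass V hV
    have shift : ∀ y i : ZMod (2 ^ (n + 1)),
        (U (i + (y + y))).map (MulAut.conj (ψ (DihedralGroup.r y))).toMonoidHom = U i := by
      intro y i
      refine Subgroup.eq_of_le_of_card_ge ?_
        (by rw [Subgroup.card_map_of_injective (K := U (i + (y + y))) (MulAut.conj _).injective, hcardU, hcardU])
      rintro _ ⟨_, ⟨d, hd, rfl⟩, rfl⟩
      refine ⟨DihedralGroup.r y * d * (DihedralGroup.r y)⁻¹, ?_, by simp [-DihedralGroup.inv_r]⟩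
      cases d with
      | r z =>
        rw [DihedralGroup.inv_r, DihedralGroup.r_mul_r, DihedralGroup.r_mul_r]
        refine DihedralFour35.r_mem.2 ?_
        have h2 := DihedralFour35.r_mem.1 hd
        simp only [map_add, map_neg]
        linear_combination h2
      | sr z =>
        rw [DihedralGroup.inv_r, DihedralGroup.r_mul_sr, DihedralGroup.sr_mul_r]
        refine DihedralFour35.sr_mem.2 ?_
        have h2 := DihedralFour35.sr_mem.1 hd
        simp only [map_add, map_sub, map_neg] at h2 ⊢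
        linear_combination h2
    set y : ZMod (2 ^ (n + 1)) := ((i.val / 2 : ℕ) : ZMod (2 ^ (n + 1))) with hy
    have hi : i = ((i.val % 2 : ℕ) : ZMod (2 ^ (n + 1))) + (y + y) := by
      rw [hy, ← Nat.cast_add, ← Nat.cast_add]
      conv_lhs => rw [← ZMod.natCast_zmod_val i]
      congr 1
      omega
    rw [hi] at hx
    have hfin := (DihedralFour35.map_map_conj V x (ψ (DihedralGroup.r y))).symm.trans
      ((congrArg _ hx).trans (shift y _))
    rcases Nat.mod_two_eq_zero_or_one i.val with h | h <;> rw [h] at hfin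
    · exact Or.inl ⟨ψ (DihedralGroup.r y) * x, by simpa using hfin⟩
    · exact Or.inr ⟨ψ (DihedralGroup.r y) * x, by simpa using hfin⟩

end Cfsg.Agent.S1256
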