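import Cfsg.Statements.S1258
import Mathlib
-- import your own Cfsg.Agent.* helpers here

set_option autoImplicit false
open Cfsg
open scoped commutatorElement

namespace Cfsg.Agent.S1258

/-- If the central quotient of a finite group X is non-abelian simple, then X = X' Z(X) and the commutator subgroup X' is quasisimple. -/
theorem result {X : Type*} [Group X] [Finite X] (hs : IsSimpleGroup (X ⧸ Subgroup.center X)) (hna : ¬ IsMulCommutative (X ⧸ Subgroup.center X)) : commutator X ⊔ Subgroup.center X = ⊤ ∧ Cfsg.IsQuasisimple ↥(commutator X) := by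
  set Z := Subgroup.center X with hZ
  set q := QuotientGroup.mk' Z with hq
  have hqs : Function.Surjective q := QuotientGroup.mk'_surjective Z
  have hn : ((commutator X).map q).Normal := Subgroup.Normal.map inferInstance q hqs
  have htop : (commutator X).map q = ⊤ := by
    rcases hn.eq_bot_or_eq_top with h | h
    · refine absurd ⟨⟨fun a b => ?_⟩⟩ hna
      obtain ⟨a, rfl⟩ := hqs a
      obtain ⟨b, rfl⟩ := hqs b
      have : q ⁅a, b⁆ = 1 := by
        rw [← Subgroup.mem_bot, ← h]
        exact ⟨_, Subgroup.commutator_mem_commutator (Subgroup.mem_top a) (Subgroup.mem_top b), rfl⟩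
      rw [map_commutatorElement, commutatorElement_eq_one_iff_mul_comm] at this
      exact this
    · exact h
  have hsup : commutator X ⊔ Z = ⊤ := by
    have : Subgroup.comap q ((commutator X).map q) = ⊤ := by rw [htop, Subgroup.comap_top]
    rwa [Subgroup.comap_map_eq, QuotientGroup.ker_mk'] at this
  refine ⟨hsup, ?_, ?_⟩
  · rw [Subgroup.isPerfect_iff]
    refine le_antisymm (Subgroup.commutator_le_self _) ?_
    conv_lhs => rw [commutator_def]
    rw [Subgroup.commutator_le]
    intro a _ b _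
    have ha : a ∈ commutator X ⊔ Z := hsup ▸ Subgroup.mem_top a
    have hb : b ∈ commutator X ⊔ Z := hsup ▸ Subgroup.mem_top b
    obtain ⟨a₁, ha₁, z₁, hz₁, rfl⟩ := Subgroup.mem_sup_of_normal_right.1 ha
    obtain ⟨b₁, hb₁, z₂, hz₂, rfl⟩ := Subgroup.mem_sup_of_normal_right.1 hb
    have e1 : ∀ c : X, ∀ z ∈ Z, c * z = z * c := fun c z hz => Subgroup.mem_center_iff.1 hz c
    have e : ⁅a₁ * z₁, b₁ * z₂⁆ = ⁅a₁, b₁⁆ := by
      simp only [commutatorElement_def, mul_inv_rev]
      calc a₁ * z₁ * (b₁ * z₂) * (z₁⁻¹ * a₁⁻¹) * (z₂⁻¹ * b₁⁻¹)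
          = a₁ * (z₁ * (b₁ * z₂)) * (z₁⁻¹ * a₁⁻¹) * (z₂⁻¹ * b₁⁻¹) := by group
        _ = a₁ * b₁ * (z₂ * a₁⁻¹) * (z₂⁻¹ * b₁⁻¹) := by rw [← e1 _ z₁ hz₁]; group
        _ = a₁ * b₁ * a₁⁻¹ * b₁⁻¹ := by rw [← e1 _ z₂ hz₂]; group
    rw [e]
    exact Subgroup.commutator_mem_commutator ha₁ hb₁
  · set f := q.comp (commutator X).subtype with hf
    have hfs : Function.Surjective f := by
      intro a
      have : a ∈ (commutator X).map q := htop ▸ Subgroup.mem_top a
      obtain ⟨b, hb, rfl⟩ := this
      exact ⟨⟨b, hb⟩, rfl⟩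
    have hker : f.ker = Subgroup.center (commutator X) := by
      ext c
      rw [MonoidHom.mem_ker, Subgroup.mem_center_iff]
      show (QuotientGroup.mk (c : X) : X ⧸ Z) = 1 ↔ _
      rw [QuotientGroup.eq_one_iff]
      constructor
      · intro hc d
        exact Subtype.ext (Subgroup.mem_center_iff.1 hc _)
      · intro hc
        rw [hZ, Subgroup.mem_center_iff]
        intro a
        have ha : a ∈ commutator X ⊔ Z := hsup ▸ Subgroup.mem_top a
        obtain ⟨a₁, ha₁, z₁, hz₁, rfl⟩ := Subgroup.mem_sup_of_normal_right.1 ha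
        have h1 : a₁ * (c : X) = c * a₁ := congrArg Subtype.val (hc ⟨a₁, ha₁⟩)
        have h2 := Subgroup.mem_center_iff.1 hz₁ (c : X)
        calc a₁ * z₁ * c = a₁ * (c * z₁) := by rw [h2]; group
          _ = a₁ * c * z₁ := by group
          _ = c * (a₁ * z₁) := by rw [h1]; group
    have e := (QuotientGroup.quotientMulEquivOfEq hker).symm.trans (QuotientGroup.quotientKerEquivOfSurjective f hfs)
    exact MulEquiv.isSimpleGroup e

end Cfsg.Agent.S1258
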