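import Cfsg.Statements.S1259
import Mathlib
-- import your own Cfsg.Agent.* helpers here

set_option autoImplicit false
open Cfsg
open scoped commutatorElement

namespace Cfsg.Agent.S1259

/-- In a quasisimple group, every subnormal subgroup is either the whole group or central. -/
theorem result {X : Type*} [Group X] [Finite X] (hX : Cfsg.IsQuasisimple X) (H : Subgroup X) (hH : H.IsSubnormal) : H = ⊤ ∨ H ≤ Subgroup.center X := by
  obtain ⟨hp, hs⟩ := hX
  have hnorm : ∀ K : Subgroup X, K.Normal → K = ⊤ ∨ K ≤ Subgroup.center X := by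
    intro K hK
    have hqs := QuotientGroup.mk'_surjective (Subgroup.center X)
    have hn : (K.map (QuotientGroup.mk' (Subgroup.center X))).Normal := hK.map _ hqs
    rcases hn.eq_bot_or_eq_top with h | h
    · right
      rwa [Subgroup.map_eq_bot_iff, QuotientGroup.ker_mk'] at h
    · left
      have h1 : K ⊔ Subgroup.center X = ⊤ := by
        have : Subgroup.comap (QuotientGroup.mk' (Subgroup.center X))
          (K.map (QuotientGroup.mk' (Subgroup.center X))) = ⊤ := by rw [h, Subgroup.comap_top]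
        rwa [Subgroup.comap_map_eq, QuotientGroup.ker_mk'] at this
      rw [eq_top_iff, ← (Group.isPerfect_def.1 hp), commutator_def, Subgroup.commutator_le]
      intro a _ b _
      have ha : a ∈ K ⊔ Subgroup.center X := h1 ▸ Subgroup.mem_top a
      obtain ⟨a₁, ha₁, z₁, hz₁, rfl⟩ := Subgroup.mem_sup_of_normal_right.1 ha
      have e : ⁅a₁ * z₁, b⁆ = a₁ * (b * a₁⁻¹ * b⁻¹) := by
        simp only [commutatorElement_def, mul_inv_rev]
        calc a₁ * z₁ * b * (z₁⁻¹ * a₁⁻¹) * b⁻¹
            = a₁ * (z₁ * b) * z₁⁻¹ * a₁⁻¹ * b⁻¹ := by group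
          _ = a₁ * (b * a₁⁻¹ * b⁻¹) := by rw [← Subgroup.mem_center_iff.1 hz₁ b]; group
      rw [e]
      exact mul_mem ha₁ (hK.conj_mem _ (inv_mem ha₁) b)
  rcases hH.lt_normal with h | ⟨K, hK, hHK, hlt⟩
  · exact Or.inl h
  · rcases hnorm K hK with h | h
    · exact absurd h hlt.ne
    · exact Or.inr (hHK.trans h)

end Cfsg.Agent.S1259
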