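import Cfsg.Statements.S1263
import Cfsg.Agent.Lib.ComponentsFitting

set_option autoImplicit false
open Cfsg

namespace Cfsg.Agent.S1263

open Cfsg.Agent.ComponentsBasic in
theorem center_sup_finset {G : Type*} [Group G] (S : Finset (Subgroup G))
    (hS : ∀ L ∈ S, IsComponent L) {x : G} (hx : x ∈ S.sup id)
    (hc : x ∈ Subgroup.centralizer ((S.sup id : Subgroup G) : Set G)) :
    x ∈ S.sup fun L => L ⊓ Subgroup.centralizer (L : Set G) := by
  classical
  induction S using Finset.cons_induction generalizing x with
  | empty => simpa using hx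
  | cons a S ha ih =>
    simp only [Finset.mem_cons, forall_eq_or_imp] at hS
    rw [Finset.sup_cons] at hx hc ⊢
    simp only [id_eq] at hx hc ih
    have hcom : a ≤ Subgroup.centralizer ((S.sup id : Subgroup G) : Set G) := by
      rw [Subgroup.le_centralizer_iff]
      refine Finset.sup_le fun L hL => ?_
      exact Subgroup.commutator_eq_bot_iff_le_centralizer.mp
        (components_commute (hS.2 L hL) hS.1 fun h => ha (by rwa [← h]))
    have hR : S.sup id ≤ Subgroup.centralizer (a : Set G) :=
      Subgroup.le_centralizer_iff.mp hcom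
    rw [← SetLike.mem_coe,
      Subgroup.coe_mul_of_right_le_normalizer_left _ _ (hR.trans (Subgroup.centralizer_le_normalizer _))] at hx
    obtain ⟨l, hl, y, hy, rfl⟩ := hx
    have h1 : l ∈ Subgroup.centralizer (a : Set G) := by
      have := mul_mem (Subgroup.centralizer_le (show (a : Set G) ⊆ (a ⊔ S.sup id : Subgroup G) from
        fun z hz => Subgroup.mem_sup_left hz) hc) (inv_mem (hR hy))
      simpa using this
    have h2 : y ∈ Subgroup.centralizer ((S.sup id : Subgroup G) : Set G) := by
      have := mul_mem (inv_mem (hcom hl)) (Subgroup.centralizer_le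
        (show ((S.sup id : Subgroup G) : Set G) ⊆ (a ⊔ S.sup id : Subgroup G) from
          fun z hz => Subgroup.mem_sup_right hz) hc)
      simpa using this
    exact Subgroup.mul_mem_sup ⟨hl, h1⟩ (ih hS.2 hy h2)

/-- For a finite group G, Z(E(G)) is the subgroup generated by the centres Z(L) of the components L of G (all viewed as subgroups of G). -/
theorem result {G : Type*} [Group G] [Finite G] : (Subgroup.center ↥(Cfsg.layer G)).map (Cfsg.layer G).subtype = ⨆ L : {K : Subgroup G // Cfsg.IsComponent K}, (Subgroup.center ↥(L : Subgroup G)).map (L : Subgroup G).subtype := by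
  simp only [ComponentsBasic.map_center_subtype]
  apply le_antisymm
  · rintro x ⟨hx, hc⟩
    classical
    have hfin := Set.toFinite {K : Subgroup G | Cfsg.IsComponent K}
    have e : hfin.toFinset.sup id = Cfsg.layer G := by
      rw [Finset.sup_id_eq_sSup, Set.Finite.coe_toFinset]; rfl
    have h := center_sup_finset hfin.toFinset (fun L hL => (Set.Finite.mem_toFinset hfin).mp hL)
      (e.symm ▸ hx) (e.symm ▸ hc)
    refine SetLike.le_def.mp ?_ h
    exact Finset.sup_le fun L hL => le_iSup (fun K : {K : Subgroup G // Cfsg.IsComponent K} =>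
      (K : Subgroup G) ⊓ Subgroup.centralizer ((K : Subgroup G) : Set G))
      ⟨L, (Set.Finite.mem_toFinset hfin).mp hL⟩
  · refine iSup_le fun W => ?_
    refine le_inf (inf_le_left.trans (ComponentsBasic.component_le_layer W.2)) ?_
    rw [Subgroup.le_centralizer_iff]
    refine sSup_le fun K hK => ?_
    rw [Subgroup.le_centralizer_iff]
    by_cases h : K = (W : Subgroup G)
    · exact le_trans inf_le_right (le_of_eq (congrArg (fun X : Subgroup G => Subgroup.centralizer (X : Set G)) h.symm))
    · exact inf_le_left.trans (Subgroup.commutator_eq_bot_iff_le_centralizer.mp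
        (ComponentsBasic.components_commute W.2 hK (Ne.symm h)))

end Cfsg.Agent.S1263
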