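import Cfsg.Statements.S1268
import Cfsg.Agent.Lib.ComponentsNormalizer

set_option autoImplicit false
open Cfsg

namespace Cfsg.Agent.S1268

/-- Let G be finite with F*(G) = O_p(G). Then F*(N) = O_p(N) for N the normalizer of any p-subgroup P of G. -/
theorem result {G : Type*} [Group G] [Finite G] (p : ℕ) [Fact p.Prime] (h : Cfsg.generalizedFittingSubgroup G = Cfsg.pCore p G) (P : Subgroup G) (hP : IsPGroup p ↥P) : Cfsg.generalizedFittingSubgroup ↥(Subgroup.normalizer ((P : Subgroup G) : Set G)) = Cfsg.pCore p ↥(Subgroup.normalizer ((P : Subgroup G) : Set G)) := by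
  have hCQ : Subgroup.centralizer (Cfsg.pCore p G : Set G) ≤ Cfsg.pCore p G := by
    have := ComponentsFitting.centralizer_gen_le (G := G)
    rwa [h] at this
  haveI : Group.IsNilpotent ↥(Cfsg.pCore p G) := (ComponentsCores.isPGroup_pCore p).isNilpotent
  have hlay : Cfsg.layer ↥(Subgroup.normalizer (P : Set G)) = ⊥ := by
    refine sSup_eq_bot.mpr fun L hL => ?_
    refine absurd ?_ (ComponentsBasic.isQuasisimple_not_le_solvable (S := Cfsg.pCore p G)
      (ComponentsBasic.isQuasisimple_map_of_injective _ (Subgroup.subtype_injective _) hL.2))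
    exact (ComponentsNormalizer.component_normalizer_le_centralizer_pCore hP hL).trans hCQ
  rw [ComponentsFitting.gen_eq_fitting_iff.mpr hlay]
  refine le_antisymm ?_ (ComponentsFitting.pCore_le_fitting Fact.out)
  rw [ComponentsFitting.fittingSubgroup_eq_iSup]
  refine iSup_le fun ⟨q, hq⟩ => ?_
  have hq' := Nat.prime_of_mem_primeFactors hq
  rcases eq_or_ne q p with rfl | hne
  · exact le_rfl
  set A := (Cfsg.pCore q ↥(Subgroup.normalizer (P : Set G))).map (Subgroup.normalizer (P : Set G)).subtype
  haveI := Fact.mk hq'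
  have hA : IsPGroup q A := (ComponentsCores.isPGroup_pCore q).map _
  have key : ∀ T : Subgroup G, T ≤ Subgroup.normalizer (P : Set G) → IsPGroup p T →
      (T.subgroupOf (Subgroup.normalizer (P : Set G))).Normal → ⁅A, T⁆ = ⊥ := by
    intro T hT hTp hTn
    rw [Subgroup.commutator_eq_bot_iff_le_centralizer]
    rintro _ ⟨a, ha, rfl⟩ t ht
    exact congrArg Subtype.val (Subgroup.commute_of_normal_of_disjoint _ _ inferInstance hTn
      (IsPGroup.disjoint_of_ne q p hne _ _ (ComponentsCores.isPGroup_pCore q)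
        (IsPGroup.of_equiv hTp (Subgroup.subgroupOfEquivOfLe hT).symm)) a ⟨t, hT ht⟩ ha ht).symm
  have hcop : (Nat.card A).Coprime p := by
    obtain ⟨n, hn⟩ := IsPGroup.iff_card.mp hA
    rw [hn]
    exact ((Nat.coprime_primes hq' Fact.out).mpr hne).pow_left n
  have h2 := (ComponentsNormalizer.le_centralizer_pCore hP (.inr hcop) (Subgroup.map_subtype_le _)
    (key P Subgroup.le_normalizer hP Subgroup.normal_in_normalizer)
    (key _ inf_le_right ((ComponentsCores.isPGroup_pCore p).to_le inf_le_left)
      (by rw [Subgroup.inf_subgroupOf_right]; infer_instance))).trans hCQ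
  have h3 : A = ⊥ := by
    rw [eq_bot_iff]
    exact (IsPGroup.disjoint_of_ne q p hne _ _ hA (ComponentsCores.isPGroup_pCore p)).le_bot.trans' (le_inf le_rfl h2)
  rw [Subgroup.map_eq_bot_iff_of_injective _ (Subgroup.subtype_injective _)] at h3
  rw [h3]
  exact bot_le

end Cfsg.Agent.S1268
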