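import Mathlib
import Cfsg.Statements.S1271
import Cfsg.Agent.Lib.BalanceComponents

set_option autoImplicit false
open Cfsg
open scoped Pointwise commutatorElement

namespace Cfsg.Agent.S1271

open Subgroup

open Cfsg.Agent.LayerBalance Cfsg.Agent.ComponentBalance Cfsg.Agent.BalanceComponents

/-- Let G be finite with O_{p'}(G) = 1. Suppose that for every component L of G and every subgroup H ≥ L in which L is normal, the quotient H / C_H(L) is balanced for the prime p. Then G is balanced for p. -/
theorem result {G : Type*} [Group G] [Finite G] (p : ℕ) [Fact p.Prime] (hO : Cfsg.pPrimeCore p G = ⊥) (h : ∀ L : Subgroup G, Cfsg.IsComponent L → ∀ H : Subgroup G, L ≤ H → (L.subgroupOf H).Normal → ∀ [((Subgroup.centralizer (L : Set G)).subgroupOf H).Normal], Cfsg.IsBalancedFor p (↥H ⧸ (Subgroup.centralizer (L : Set G)).subgroupOf H)) : Cfsg.IsBalancedFor p G := by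
  intro x hx
  rw [hO]
  refine le_bot_iff.mpr (eq_bot_of_centralizes_components hO hx le_rfl fun L hL => ?_)
  by_cases hne : ⁅L, zpowers x⁆ = L
  swap
  · exact component_centralized hx hO hL hne
  have hxN : x ∈ normalizer (L : Set G) := by
    have hn : zpowers x ≤ normalizer (L : Set G) := by
      rw [le_normalizer_iff_commutator_le_left, hne]
    exact hn (mem_zpowers x)
  set D := Cfsg.centralizerPPrimeCore p x
  set M := zpowers x ⊔ D
  set H := L ⊔ centralizer (L : Set G) ⊔ M with hH
  have hMC : M ≤ centralizer ({x} : Set G) := sup_le (local_hyps hx).2.1 (map_subtype_le _)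
  have hMN : M ≤ normalizer (L : Set G) :=
    sup_le (zpowers_le.mpr hxN) (cppc_le_normalizer hx hO hL)
  have hHN : H ≤ normalizer (L : Set G) := sup_le (sup_le le_normalizer (centralizer_le_normalizer _)) hMN
  have hLH : L ≤ H := le_sup_of_le_left le_sup_left
  haveI : ((centralizer (L : Set G)).subgroupOf H).Normal :=
    normal_subgroupOf_of_le_normalizer (hHN.trans (normalizer_le_normalizer_centralizer L))
  have hbal := h L hL H hLH (normal_subgroupOf_of_le_normalizer hHN)
  set f := QuotientGroup.mk' ((centralizer (L : Set G)).subgroupOf H)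
  have hxH : x ∈ H := mem_sup_right (mem_sup_left (mem_zpowers x))
  have hxC : x ∉ centralizer (L : Set G) := by
    intro hc
    refine ComponentsBasic.IsComponent.ne_bot hL (hne.symm.trans ?_)
    rw [commutator_comm, commutator_eq_bot_iff_le_centralizer, zpowers_le]
    exact hc
  have hox : orderOf (f ⟨x, hxH⟩) = p := by
    refine orderOf_eq_prime ?_ ?_
    · rw [← map_pow, show (⟨x, hxH⟩ : ↥H) ^ p = 1 from Subtype.ext (by
        show x ^ p = 1
        rw [← hx]; exact pow_orderOf_eq_one x), map_one]
    · intro h1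
      exact hxC ((QuotientGroup.eq_one_iff (N := (centralizer (L : Set G)).subgroupOf H) _).mp h1)
  have hb := hbal (f ⟨x, hxH⟩) hox
  rw [core_image_bot hO hL hLH hHN f (QuotientGroup.mk'_surjective _) (QuotientGroup.ker_mk' _)] at hb
  intro d hd
  have hdH : d ∈ H := mem_sup_right (mem_sup_right hd)
  have hmem := hb (image_mem_cppc hO hx hL hMC hMN hH (mem_sup_left (mem_zpowers x)) f
    (QuotientGroup.mk'_surjective _) (QuotientGroup.ker_mk' _) (d := ⟨d, hdH⟩) hd ⟨x, hxH⟩ rfl)
  exact (QuotientGroup.eq_one_iff (N := (centralizer (L : Set G)).subgroupOf H) _).mp (mem_bot.mp hmem)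

end Cfsg.Agent.S1271
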