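import Cfsg.Statements.S1277
import Cfsg.Agent.Lib.ComponentsP

set_option autoImplicit false
open Cfsg

namespace Cfsg.Agent.S1277

/-- For a finite group X with core O(X): the image of E(X) in X / O(X) is all of E(X / O(X)) if and only if every 2-component of X is a component, i.e. L_{2'}(X) ≤ E(X). -/
theorem result {X : Type*} [Group X] [Finite X] : (Cfsg.layer X).map (QuotientGroup.mk' (Cfsg.oddCore X)) = Cfsg.layer (X ⧸ Cfsg.oddCore X) ↔ Cfsg.pLayer 2 X ≤ Cfsg.layer X := by
  have himg : ∀ L : Subgroup X, Cfsg.IsComponent L → L.map (ComponentsP.bar 2 X) = ⊥ ∨ Cfsg.IsPComponent 2 L := by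
    intro L hL
    by_cases h : L ≤ Cfsg.pPrimeCore 2 X
    · exact .inl (ComponentsP.map_bar_eq_bot_iff.mpr h)
    · exact .inr (ComponentsP.isPComponent_of_component hL h)
  constructor
  · intro h
    refine sSup_le fun K hK => ?_
    by_contra hnot
    have h2 : ∀ L : Subgroup X, Cfsg.IsComponent L → ⁅K.map (ComponentsP.bar 2 X), L.map (ComponentsP.bar 2 X)⁆ = ⊥ := by
      intro L hL
      rcases himg L hL with h1 | h1
      · rw [h1, Subgroup.commutator_bot_right]
      · exact ComponentsBasic.components_commute hK.2.1 h1.2.1 fun he =>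
          hnot (ComponentsP.isPComponent_ext hK h1 he ▸ ComponentsBasic.component_le_layer hL)
    have h3 : (Cfsg.layer X).map (ComponentsP.bar 2 X) ≤ Subgroup.centralizer ((K.map (ComponentsP.bar 2 X) : Subgroup _) : Set _) := by
      rw [Subgroup.map_le_iff_le_comap]
      refine sSup_le fun L hL => ?_
      rw [← Subgroup.map_le_iff_le_comap]
      exact Subgroup.commutator_eq_bot_iff_le_centralizer.mp (by rw [Subgroup.commutator_comm]; exact h2 L hL)
    have h4 : K.map (ComponentsP.bar 2 X) ≤ Subgroup.centralizer ((K.map (ComponentsP.bar 2 X) : Subgroup _) : Set _) :=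
      (ComponentsBasic.component_le_layer hK.2.1).trans (h.ge.trans h3)
    exact ComponentsBasic.IsComponent.ne_bot hK.2.1 ((ComponentsBasic.IsComponent.perfect hK.2.1).symm.trans
      (Subgroup.commutator_eq_bot_iff_le_centralizer.mpr h4))
  · intro h
    refine le_antisymm ?_ ((ComponentsP.pLayer_map_bar (p := 2)).ge.trans (Subgroup.map_mono h))
    rw [Subgroup.map_le_iff_le_comap]
    refine sSup_le fun L hL => ?_
    rw [← Subgroup.map_le_iff_le_comap]
    rcases himg L hL with h1 | h1
    · exact h1.le.trans bot_le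
    · exact ComponentsBasic.component_le_layer h1.2.1

end Cfsg.Agent.S1277
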