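import Cfsg.Statements.S1281
import Cfsg.Agent.Lib.SignalizerBasic
import Cfsg.Agent.Lib.SignalizerComplete

set_option autoImplicit false
open Cfsg
open Cfsg.Agent.SignalizerCoprime Cfsg.Agent.SignalizerBasic

namespace Cfsg.Agent.S1281

/-- Let θ be a solvable A-signalizer functor on the finite group G (A a noncyclic elementary abelian p-subgroup) and N a normal subgroup of order prime to p. Then for all non-identity a, b ∈ A, the image of θ a in G / N meets the centralizer of the image of b inside the image of θ b. -/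
theorem result {G : Type*} [Group G] [Finite G] (p : ℕ) [Fact p.Prime] (A : Subgroup G) (hA : Cfsg.IsElementaryAbelian p A) (hA2 : p ^ 2 ≤ Nat.card ↥A) (θ : G → Subgroup G) (hθ : Cfsg.IsSolvableSignalizerFunctor p A θ) (N : Subgroup G) [N.Normal] (hN : ¬ p ∣ Nat.card ↥N) (a b : G) (ha : a ∈ A) (ha1 : a ≠ 1) (hb : b ∈ A) (hb1 : b ≠ 1) : (θ a).map (QuotientGroup.mk' N) ⊓ Subgroup.centralizer {QuotientGroup.mk' N b} ≤ (θ b).map (QuotientGroup.mk' N) := by
  obtain ⟨hθ1, hθ2, hθ3, hθ4⟩ := hθ.1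
  rintro _ ⟨⟨z, hz, rfl⟩, hc⟩
  have hn : A ≤ Subgroup.normalizer (θ a : Set G) := le_normalizer_of_forall (hθ3 a ha ha1)
  have hcb : Commute (QuotientGroup.mk' N b) (QuotientGroup.mk' N z) :=
    (Subgroup.mem_centralizer_singleton_iff.1 hc).symm
  have hfix : ∀ g ∈ Subgroup.zpowers b, g * z * g⁻¹ * z⁻¹ ∈ θ a ⊓ N := by
    intro g hg
    refine Subgroup.mem_inf.2
      ⟨mul_mem (mem_normalizer_conj (hn ((Subgroup.zpowers_le.2 hb) hg)) hz) (inv_mem hz), ?_⟩
    obtain ⟨i, rfl⟩ := hg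
    rw [← QuotientGroup.eq_one_iff, ← QuotientGroup.mk'_apply]
    simp only [map_mul, map_inv, map_zpow]
    rw [(hcb.zpow_left i).eq]
    simp
  obtain ⟨d, hd, hdc⟩ := exists_fixed_in_coset (isPGroup_zpowers (hA.2 b hb))
    (fun h => hN (h.trans (Subgroup.card_dvd_of_le (inf_le_right : θ a ⊓ N ≤ N))))
    ((Subgroup.zpowers_le.2 hb).trans (le_normalizer_inf hn
      (by rw [Subgroup.normalizer_eq_top_iff.2 inferInstance]; exact le_top))) hfix
  refine ⟨d * z, hθ4 a ha ha1 b hb hb1 ⟨mul_mem hd.1 hz,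
    Subgroup.mem_centralizer_singleton_iff.2 (hdc b (Subgroup.mem_zpowers b)).symm⟩, ?_⟩
  rw [map_mul, show QuotientGroup.mk' N d = 1 from (QuotientGroup.eq_one_iff d).2 hd.2, one_mul]

end Cfsg.Agent.S1281
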