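import Cfsg.Statements.S1284
import Cfsg.Agent.Lib.SignalizerTransitivity

set_option autoImplicit false
open Cfsg

namespace Cfsg.Agent.S1284

/-- Let θ be a solvable A-signalizer functor on the finite group G, A elementary abelian of rank at least 3, q a prime dividing some |θ a|, and Q maximal among the q-subgroups in the family of θ. Then (a) for every member H of the family, some c in the intersection of the θ a (a ∈ A non-identity) makes c Q c⁻¹ ∩ H a Sylow q-subgroup of H; and (b) for every nontrivial subgroup B ≤ A, C_Q(B) is a Sylow q-subgroup of the intersection of the θ b over the non-identity b ∈ B. -/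
theorem result {G : Type*} [Group G] [Finite G] (p : ℕ) [Fact p.Prime] (A : Subgroup G) (hA : Cfsg.IsElementaryAbelian p A) (hA3 : p ^ 3 ≤ Nat.card ↥A) (θ : G → Subgroup G) (hθ : Cfsg.IsSolvableSignalizerFunctor p A θ) (q : ℕ) [Fact q.Prime] (hq : ∃ a ∈ A, a ≠ 1 ∧ q ∣ Nat.card ↥(θ a)) (Q : Subgroup G) (hQW : Q ∈ Cfsg.signalizerFamily p A θ) (hQq : IsPGroup q ↥Q) (hQmax : ∀ R ∈ Cfsg.signalizerFamily p A θ, IsPGroup q ↥R → Q ≤ R → R = Q) : (∀ H : Subgroup G, H ∈ Cfsg.signalizerFamily p A θ → ∃ c ∈ Cfsg.signalizerInf A θ, ∃ S : Sylow q ↥H, (S : Subgroup ↥H).map H.subtype = Q.map (MulAut.conj c).toMonoidHom ⊓ H) ∧ (∀ B : Subgroup G, B ≤ A → B ≠ ⊥ → ∃ S : Sylow q ↥(Cfsg.signalizerInf B θ), (S : Subgroup ↥(Cfsg.signalizerInf B θ)).map (Cfsg.signalizerInf B θ).subtype = Q ⊓ Subgroup.centralizer (B : Set G)) := by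
  have hqp : q ≠ p := by
    rintro rfl
    obtain ⟨a, ha, ha1, h⟩ := hq
    exact hθ.1.2.1 a ha ha1 h
  have hQ : SignalizerTransitivity.IsMaxMember p A θ q Q := ⟨hQW, hQq, hQmax⟩
  refine ⟨fun H hH => SignalizerTransitivity.exists_conj_inf_card hA hA3 hθ hqp hQ hH,
    fun B hBA hB => ?_⟩
  obtain ⟨b, hb, hb1⟩ : ∃ b ∈ B, b ≠ 1 := (Subgroup.bot_or_exists_ne_one B).resolve_left hB
  set X := Cfsg.signalizerInf B θ with hX
  obtain ⟨c, hc, S, hS⟩ := SignalizerTransitivity.exists_conj_inf_card hA hA3 hθ hqp hQ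
    (SignalizerTransitivity.signalizerInf_mem_family hθ hBA hb hb1)
  have hcX : c ∈ X := Subgroup.mem_iInf.2 fun x =>
    SignalizerTransitivity.signalizerInf_le (hBA x.2.1) x.2.2 hc
  have heq : Q ⊓ Subgroup.centralizer (B : Set G) = Q ⊓ X := le_antisymm
    (le_inf inf_le_left fun x hx => Subgroup.mem_iInf.2 fun y =>
      hQW.2.2.2 y.1 (hBA y.2.1) y.2.2
        ⟨hx.1, Subgroup.centralizer_le (Set.singleton_subset_iff.2 y.2.1) hx.2⟩)
    (inf_le_inf_left _ (SignalizerTransitivity.signalizerInf_le_centralizer hθ.1 hBA))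
  have hconj : (Q ⊓ X).map (MulAut.conj c).toMonoidHom =
      Q.map (MulAut.conj c).toMonoidHom ⊓ X := by
    ext x
    simp only [Subgroup.mem_inf, SignalizerTransitivity.mem_map_conj]
    refine and_congr_right fun _ => ⟨fun h => ?_, fun h => mul_mem (mul_mem (inv_mem hcX) h) hcX⟩
    have := mul_mem (mul_mem hcX h) (inv_mem hcX)
    rwa [show c * (c⁻¹ * x * c) * c⁻¹ = x by group] at this
  refine ⟨Sylow.ofCard ((Q ⊓ X).subgroupOf X) ?_, ?_⟩
  · rw [Nat.card_congr (Subgroup.subgroupOfEquivOfLe (inf_le_right : Q ⊓ X ≤ X)).toEquiv,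
      ← Subgroup.card_map_of_injective (f := (MulAut.conj c).toMonoidHom)
        (MulAut.conj c).injective, hconj, ← hS,
      Subgroup.card_map_of_injective X.subtype_injective]
    exact S.card_eq_multiplicity
  · rw [Sylow.coe_ofCard, Subgroup.map_subgroupOf_eq_of_le inf_le_right, heq]

end Cfsg.Agent.S1284
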