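import Cfsg.Statements.S1285
import Cfsg.Agent.Lib.SignalizerTransitivity

set_option autoImplicit false
open Cfsg

namespace Cfsg.Agent.S1285

/-- Let θ be a solvable A-signalizer functor on the finite group G with A elementary abelian of rank at least 3, and suppose that for some prime q every θ a (a ∈ A non-identity) is a q-group. Then θ is complete. -/
theorem result {G : Type*} [Group G] [Finite G] (p : ℕ) [Fact p.Prime] (A : Subgroup G) (hA : Cfsg.IsElementaryAbelian p A) (hA3 : p ^ 3 ≤ Nat.card ↥A) (θ : G → Subgroup G) (hθ : Cfsg.IsSolvableSignalizerFunctor p A θ) (q : ℕ) [Fact q.Prime] (hq : ∀ a ∈ A, a ≠ 1 → IsPGroup q ↥(θ a)) : Cfsg.IsCompleteSignalizerFunctor p A θ := by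
  refine ⟨hθ.1, ?_⟩
  by_cases hqp : q = p
  · subst hqp
    refine ⟨⊥, fun b _ x hx => ?_, ?_, fun a ha ha1 => ?_⟩
    · rw [Subgroup.mem_bot.1 hx]
      simp
    · simpa using (Fact.out : q.Prime).ne_one
    · rw [bot_inf_eq, eq_comm, ← Subgroup.card_eq_one]
      obtain ⟨k, hk⟩ := IsPGroup.iff_card.1 (hq a ha ha1)
      cases k with
      | zero => simpa using hk
      | succ k => exact absurd (hk ▸ dvd_pow_self q k.succ_ne_zero) (hθ.1.2.1 a ha ha1)
  · have hbot : (⊥ : Subgroup G) ∈ Cfsg.signalizerFamily p A θ :=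
      ⟨inferInstance, by simpa using (Fact.out : p.Prime).ne_one,
        fun b _ x hx => by rw [Subgroup.mem_bot.1 hx]; simp, fun a _ _ => by simp⟩
    obtain ⟨Q, -, hQ⟩ := SignalizerTransitivity.exists_isMaxMember_ge hbot
      (IsPGroup.of_bot (p := q))
    exact ⟨Q, hQ.1.2.2.1, hQ.1.2.1, fun a ha ha1 =>
      SignalizerTransitivity.exists_isMaxMember_inf_centralizer hA hA3 hθ hqp hq hQ ha ha1⟩

end Cfsg.Agent.S1285
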