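import Mathlib
import Cfsg.Statements.S1286

set_option autoImplicit false
open Cfsg

namespace Cfsg.Agent.S1286

abbrev P5 := Equiv.Perm (Fin 5)

def ga : P5 := Equiv.swap 0 1
def gb : P5 := Equiv.swap 2 3
/-- (2 3 4) -/
def gx : P5 := Equiv.swap 2 3 * Equiv.swap 3 4
/-- (0 1 4) -/
def gy : P5 := Equiv.swap 0 1 * Equiv.swap 1 4

def grpA : Subgroup P5 where
  carrier := {g | g = 1 ∨ g = ga ∨ g = gb ∨ g = ga * gb}
  one_mem' := Or.inl rfl
  mul_mem' := by
    intro a b ha hb
    simp only [Set.mem_setOf_eq] at *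
    rcases ha with rfl | rfl | rfl | rfl <;> rcases hb with rfl | rfl | rfl | rfl <;> decide +kernel
  inv_mem' := by
    intro a ha
    simp only [Set.mem_setOf_eq] at *
    rcases ha with rfl | rfl | rfl | rfl <;> decide +kernel

def cycX : Subgroup P5 where
  carrier := {g | g = 1 ∨ g = gx ∨ g = gx * gx}
  one_mem' := Or.inl rfl
  mul_mem' := by
    intro a b ha hb
    simp only [Set.mem_setOf_eq] at *
    rcases ha with rfl | rfl | rfl <;> rcases hb with rfl | rfl | rfl <;> decide +kernel
  inv_mem' := by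
    intro a ha
    simp only [Set.mem_setOf_eq] at *
    rcases ha with rfl | rfl | rfl <;> decide +kernel

def cycY : Subgroup P5 where
  carrier := {g | g = 1 ∨ g = gy ∨ g = gy * gy}
  one_mem' := Or.inl rfl
  mul_mem' := by
    intro a b ha hb
    simp only [Set.mem_setOf_eq] at *
    rcases ha with rfl | rfl | rfl <;> rcases hb with rfl | rfl | rfl <;> decide +kernel
  inv_mem' := by
    intro a ha
    simp only [Set.mem_setOf_eq] at *
    rcases ha with rfl | rfl | rfl <;> decide +kernel

def theta (g : P5) : Subgroup P5 := if g = ga then cycX else if g = gb then cycY else ⊥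

theorem mem_grpA {g : P5} : g ∈ grpA ↔ g = 1 ∨ g = ga ∨ g = gb ∨ g = ga * gb := Iff.rfl
theorem mem_cycX {g : P5} : g ∈ cycX ↔ g = 1 ∨ g = gx ∨ g = gx * gx := Iff.rfl
theorem mem_cycY {g : P5} : g ∈ cycY ↔ g = 1 ∨ g = gy ∨ g = gy * gy := Iff.rfl

theorem theta_ga : theta ga = cycX := if_pos rfl
theorem theta_gb : theta gb = cycY := by
  rw [theta, if_neg (by decide +kernel), if_pos rfl]
theorem theta_gab : theta (ga * gb) = ⊥ := by
  rw [theta, if_neg (by decide +kernel), if_neg (by decide +kernel)]

theorem card_cycX : Nat.card cycX = 3 := by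
  have : (cycX : Set P5) = ↑({1, gx, gx * gx} : Finset P5) := by
    ext g; simp [mem_cycX]
  rw [← SetLike.coe_sort_coe, this, Nat.card_coe_set_eq, Set.ncard_coe_finset]
  decide +kernel

theorem card_cycY : Nat.card cycY = 3 := by
  have : (cycY : Set P5) = ↑({1, gy, gy * gy} : Finset P5) := by
    ext g; simp [mem_cycY]
  rw [← SetLike.coe_sort_coe, this, Nat.card_coe_set_eq, Set.ncard_coe_finset]
  decide +kernel

theorem card_grpA : Nat.card grpA = 4 := by
  have : (grpA : Set P5) = ↑({1, ga, gb, ga * gb} : Finset P5) := by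
    ext g; simp [mem_grpA]
  rw [← SetLike.coe_sort_coe, this, Nat.card_coe_set_eq, Set.ncard_coe_finset]
  decide +kernel

theorem solv_of_card_prime {H : Subgroup P5} (h : Nat.card H = 3) : Group.IsSolvable H := by
  haveI : Fact (Nat.Prime 3) := ⟨Nat.prime_three⟩
  haveI := isCyclic_of_prime_card h
  letI : CommGroup H := IsCyclic.commGroup
  infer_instance

theorem isFunctor : Cfsg.IsSolvableSignalizerFunctor 2 grpA theta := by
  refine ⟨⟨?_, ?_, ?_, ?_⟩, ?_⟩
  · intro a ha ha1 x hx
    rw [Subgroup.mem_centralizer_singleton_iff]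
    rcases mem_grpA.mp ha with rfl | rfl | rfl | rfl
    · exact absurd rfl ha1
    · rw [theta_ga] at hx
      rcases mem_cycX.mp hx with rfl | rfl | rfl <;> decide +kernel
    · rw [theta_gb] at hx
      rcases mem_cycY.mp hx with rfl | rfl | rfl <;> decide +kernel
    · rw [theta_gab, Subgroup.mem_bot] at hx
      subst hx; simp
  · intro a ha ha1
    rcases mem_grpA.mp ha with rfl | rfl | rfl | rfl
    · exact absurd rfl ha1
    · rw [theta_ga, card_cycX]; decide
    · rw [theta_gb, card_cycY]; decide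
    · rw [theta_gab, Subgroup.card_bot]; decide
  · intro a ha ha1 b hb x hx
    rcases mem_grpA.mp ha with rfl | rfl | rfl | rfl
    · exact absurd rfl ha1
    · rw [theta_ga] at hx ⊢
      rw [mem_cycX]
      rcases mem_grpA.mp hb with rfl | rfl | rfl | rfl <;>
        rcases mem_cycX.mp hx with rfl | rfl | rfl <;> decide +kernel
    · rw [theta_gb] at hx ⊢
      rw [mem_cycY]
      rcases mem_grpA.mp hb with rfl | rfl | rfl | rfl <;>
        rcases mem_cycY.mp hx with rfl | rfl | rfl <;> decide +kernel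
    · rw [theta_gab, Subgroup.mem_bot] at hx ⊢
      subst hx; simp
  · intro a ha ha1 b hb hb1 x hx
    obtain ⟨hx1, hx2⟩ := Subgroup.mem_inf.mp hx
    rw [Subgroup.mem_centralizer_singleton_iff] at hx2
    by_cases hab : a = b
    · subst hab; exact hx1
    suffices x = 1 by subst this; exact one_mem _
    rcases mem_grpA.mp ha with rfl | rfl | rfl | rfl
    · exact absurd rfl ha1
    · rw [theta_ga] at hx1
      rcases mem_grpA.mp hb with rfl | rfl | rfl | rfl <;>
        rcases mem_cycX.mp hx1 with rfl | rfl | rfl <;>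
        revert hb1 hab hx2 <;> decide +kernel
    · rw [theta_gb] at hx1
      rcases mem_grpA.mp hb with rfl | rfl | rfl | rfl <;>
        rcases mem_cycY.mp hx1 with rfl | rfl | rfl <;>
        revert hb1 hab hx2 <;> decide +kernel
    · rwa [theta_gab, Subgroup.mem_bot] at hx1
  · intro a ha ha1
    rcases mem_grpA.mp ha with rfl | rfl | rfl | rfl
    · exact absurd rfl ha1
    · rw [theta_ga]; exact solv_of_card_prime card_cycX
    · rw [theta_gb]; exact solv_of_card_prime card_cycY
    · rw [theta_gab]; infer_instance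

theorem not_complete : ¬ Cfsg.IsCompleteSignalizerFunctor 2 grpA theta := by
  rintro ⟨-, X, -, hodd, hX⟩
  have hga : ga ∈ grpA := Or.inr (Or.inl rfl)
  have hgb : gb ∈ grpA := Or.inr (Or.inr (Or.inl rfl))
  have hx : gx ∈ X := by
    have h : gx ∈ theta ga := by rw [theta_ga]; exact Or.inr (Or.inl rfl)
    rw [← hX ga hga (by decide +kernel)] at h
    exact h.1
  have hy : gy ∈ X := by
    have h : gy ∈ theta gb := by rw [theta_gb]; exact Or.inr (Or.inl rfl)
    rw [← hX gb hgb (by decide +kernel)] at h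
    exact h.1
  have hu : gx * gx * gy * gx * gy ∈ X :=
    mul_mem (mul_mem (mul_mem (mul_mem hx hx) hy) hx) hy
  haveI : Fact (Nat.Prime 2) := ⟨Nat.prime_two⟩
  have ho : orderOf (gx * gx * gy * gx * gy) = 2 :=
    orderOf_eq_prime (by decide +kernel) (by decide +kernel)
  apply hodd
  have := Subgroup.orderOf_dvd_natCard X hu
  rwa [ho] at this

/-- There exist a finite group X, an elementary abelian subgroup A of order 4 and a solvable A-signalizer functor θ on X for the prime 2 which is not complete. -/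
theorem result : ∃ (X : Type) (_ : Group X) (_ : Finite X) (A : Subgroup X) (θ : X → Subgroup X), Cfsg.IsElementaryAbelian 2 A ∧ Nat.card ↥A = 4 ∧ Cfsg.IsSolvableSignalizerFunctor 2 A θ ∧ ¬ Cfsg.IsCompleteSignalizerFunctor 2 A θ := by
  refine ⟨P5, inferInstance, inferInstance, grpA, theta, ⟨⟨⟨?_⟩⟩, ?_⟩, card_grpA, isFunctor, not_complete⟩
  · rintro ⟨a, ha⟩ ⟨b, hb⟩
    apply Subtype.ext
    show a * b = b * a
    rcases mem_grpA.mp ha with rfl | rfl | rfl | rfl <;>
      rcases mem_grpA.mp hb with rfl | rfl | rfl | rfl <;> decide +kernel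
  · intro a ha
    rcases mem_grpA.mp ha with rfl | rfl | rfl | rfl <;> decide +kernel

end Cfsg.Agent.S1286
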