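import Mathlib
import Cfsg.Statements.S1287
import Cfsg.Agent.Lib.CoprimeAction
import Cfsg.Agent.Lib.CoprimeGen
import Cfsg.Agent.S1324

set_option autoImplicit false
set_option linter.style.haveILetI false
open Cfsg Subgroup
open scoped Pointwise

namespace Cfsg.Agent.S1287

variable {G : Type*} [Group G] [Finite G]

theorem card_setMul (X Y : Subgroup G) :
    Nat.card ↥((X : Set G) * (Y : Set G)) * Nat.card ↥(X ⊓ Y) = Nat.card X * Nat.card Y := by
  have h1 := card_mul_eq_card_subgroup_mul_card_quotient Y (X : Set G)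
  have h2 : Nat.card ↥((X : Set G).image (QuotientGroup.mk : G → G ⧸ Y)) = (Y.subgroupOf X).index := by
    rw [index]
    refine (Nat.card_congr (Equiv.ofBijective
      (Quotient.lift (fun x : X => (⟨QuotientGroup.mk (x : G), ⟨x, x.2, rfl⟩⟩ :
        ↥((X : Set G).image (QuotientGroup.mk : G → G ⧸ Y)))) ?_) ⟨?_, ?_⟩)).symm
    · intro a b hab
      apply Subtype.ext
      refine QuotientGroup.eq.mpr ?_
      exact (QuotientGroup.leftRel_apply (α := ↥X)).mp hab
    · intro a b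
      induction a using Quotient.inductionOn with
      | _ a =>
        induction b using Quotient.inductionOn with
        | _ b =>
          intro h
          have h' : (QuotientGroup.mk (a : G) : G ⧸ Y) = QuotientGroup.mk (b : G) := congrArg Subtype.val h
          exact Quotient.sound ((QuotientGroup.leftRel_apply (α := ↥X)).mpr (mem_subgroupOf.mpr (QuotientGroup.eq.mp h')))
    · rintro ⟨_, x, hx, rfl⟩
      exact ⟨Quotient.mk _ ⟨x, hx⟩, rfl⟩
  rw [h1, h2, mul_comm (Nat.card X)]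
  rw [mul_assoc, ← Nat.card_congr (subgroupOfEquivOfLe (inf_le_left : X ⊓ Y ≤ X)).toEquiv,
    inf_subgroupOf_left, index_mul_card]

variable {p : ℕ} [hp : Fact p.Prime] {A : Subgroup G}

theorem coprime_card_A (hA : IsElementaryAbelian p A) {K : Subgroup G} (hK : ¬ p ∣ Nat.card K) :
    (Nat.card A).Coprime (Nat.card K) := by
  have hAp : IsPGroup p ↥A := fun a => ⟨1, Subtype.ext (by simpa using hA.2 a.1 a.2)⟩
  obtain ⟨n, hn⟩ := IsPGroup.iff_card.1 hAp
  rw [hn]
  exact ((Fact.out : p.Prime).coprime_iff_not_dvd.mpr hK).pow_left n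

theorem solvable_A (hA : IsElementaryAbelian p A) : Group.IsSolvable A := by
  haveI := hA.1
  exact CoprimeAction.isSolvable_of_isPGroup (p := p) fun a => ⟨1, Subtype.ext (by simpa using hA.2 a.1 a.2)⟩

theorem le_normalizer_inf_centralizer (hA : IsElementaryAbelian p A) {K : Subgroup G}
    (hK : A ≤ normalizer (K : Set G)) {a : G} (ha : a ∈ A) :
    A ≤ normalizer ((K ⊓ centralizer ({a} : Set G) : Subgroup G) : Set G) := by
  haveI := hA.1
  refine CoprimeAction.le_normalizer_inf hK (le_trans ?_ le_normalizer)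
  intro b hb
  exact mem_centralizer_singleton_iff.mpr
    (congrArg (fun z : A => (z : G)) (mul_comm' (⟨b, hb⟩ : A) ⟨a, ha⟩))

/-- An invariant Sylow subgroup meets `C_K(a)` in a Sylow subgroup. -/
theorem card_sylow_inf (hA : IsElementaryAbelian p A) {K : Subgroup G} (hAK : A ≤ normalizer (K : Set G))
    (hK : ¬ p ∣ Nat.card K) {t : ℕ} [Fact t.Prime] (T : Sylow t K)
    (hT : A ≤ normalizer ((T : Subgroup K).map K.subtype : Set G)) {a : G} (ha : a ∈ A) :
    Nat.card ↥((T : Subgroup K).map K.subtype ⊓ centralizer ({a} : Set G)) =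
      t ^ (Nat.card ↥(K ⊓ centralizer ({a} : Set G))).factorization t := by
  set T' := (T : Subgroup K).map K.subtype
  set Ka := K ⊓ centralizer ({a} : Set G)
  have hcop := coprime_card_A hA hK
  have hsol : Group.IsSolvable A ∨ Group.IsSolvable K := Or.inl (solvable_A hA)
  have hAKa := le_normalizer_inf_centralizer hA hAK ha
  have hle : T' ⊓ centralizer ({a} : Set G) ≤ Ka := inf_le_inf_right _ (map_subtype_le _)
  apply le_antisymm
  · obtain ⟨m, hm⟩ := IsPGroup.iff_card.1 ((T.2.map K.subtype).to_le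
      (inf_le_left : T' ⊓ centralizer ({a} : Set G) ≤ T'))
    rw [hm]
    exact Nat.pow_le_pow_right (Fact.out : t.Prime).pos
      ((Nat.Prime.pow_dvd_iff_le_factorization Fact.out Nat.card_pos.ne').mp (hm ▸ card_dvd_of_le hle))
  obtain ⟨W, hW⟩ := CoprimeAction.exists_invariant_sylow hAKa
    (CoprimeAction.coprime_of_le_right inf_le_left hcop) (Or.inl (solvable_A hA)) t
  obtain ⟨T₂, hT₂, hT₂A⟩ := CoprimeAction.exists_invariant_sylow_ge hAK hcop hsol
    ((map_subtype_le _).trans inf_le_left) (W.2.map Ka.subtype) hW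
  obtain ⟨c, hc, hcT⟩ := CoprimeAction.invariant_sylow_conj hAK hcop hsol T₂ T hT₂A hT
  rw [← CoprimeAction.card_map_sylow W]
  refine le_trans ?_ (le_of_eq (card_map_of_injective (f := (MulAut.conj (c : G)⁻¹).toMonoidHom)
    (MulAut.conj (c : G)⁻¹).injective))
  refine card_le_of_le fun w hw => ⟨(c : G) * w * (c : G)⁻¹, ⟨?_, ?_⟩, by simp [mul_assoc]⟩
  · obtain ⟨s, hs, hsw⟩ := hT₂ hw
    refine ⟨c * s * c⁻¹, ?_, by rw [← hsw]; rfl⟩
    rw [← hcT]
    exact ⟨s, hs, rfl⟩
  · have h1 : (c : G) ∈ centralizer ({a} : Set G) := centralizer_le (Set.singleton_subset_iff.mpr ha) hc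
    have h2 : w ∈ centralizer ({a} : Set G) := (map_subtype_le _ hw : w ∈ Ka).2
    exact Subgroup.mul_mem _ (Subgroup.mul_mem _ h1 h2) (Subgroup.inv_mem _ h1)

/-- The factorisation for an invariant `t`-group. -/
theorem pgroup_factor {G : Type*} [Group G] [Finite G] {p : ℕ} [Fact p.Prime] {A : Subgroup G}
    (hA : IsElementaryAbelian p A) (hA2 : p ^ 2 ≤ Nat.card ↥A) {t : ℕ} [Fact t.Prime] (htp : t ≠ p)
    (T : Subgroup G) (hT : IsPGroup t T) (hAT : A ≤ normalizer (T : Set G)) (U V : Subgroup G)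
    (hU : U ≤ T) (hV : V ≤ T) (hAU : A ≤ normalizer (U : Set G)) (hAV : A ≤ normalizer (V : Set G))
    (h : ∀ a ∈ A, a ≠ 1 → ((T ⊓ centralizer {a} : Subgroup G) : Set G) ⊆
      ((U ⊓ centralizer {a} : Subgroup G) : Set G) * ((V ⊓ centralizer {a} : Subgroup G) : Set G)) :
    (T : Set G) ⊆ (U : Set G) * (V : Set G) := by
  induction hn : Nat.card T using Nat.strong_induction_on generalizing G with
  | _ n ih =>
    by_cases hT1 : T = ⊥
    · subst hT1
      intro x hx
      rw [SetLike.mem_coe, mem_bot] at hx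
      exact ⟨1, one_mem U, 1, one_mem V, by simp [hx]⟩
    haveI : Nontrivial ↥T := (nontrivial_iff_ne_bot T).mpr hT1
    haveI := IsPGroup.center_nontrivial hT
    set Z₀ := (center ↥T).map T.subtype
    have hAZ₀ : A ≤ normalizer (Z₀ : Set G) :=
      hAT.trans (fun g hg => by
        rw [mem_normalizer_iff]
        have key : ∀ g ∈ normalizer (T : Set G), ∀ z ∈ Z₀, g * z * g⁻¹ ∈ Z₀ := by
          rintro g hg _ ⟨z, hz, rfl⟩
          refine ⟨⟨g * z * g⁻¹, (mem_normalizer_iff.mp hg z).mp z.2⟩, mem_center_iff.mpr fun y => ?_, rfl⟩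
          apply Subtype.ext
          have hy : g⁻¹ * y * g ∈ T := by simpa using (mem_normalizer_iff.mp (Subgroup.inv_mem _ hg) (y : G)).mp y.2
          have := congrArg Subtype.val (mem_center_iff.mp hz ⟨_, hy⟩)
          simp only [Subgroup.coe_mul] at this ⊢
          calc (y : G) * (g * z * g⁻¹) = g * ((g⁻¹ * y * g) * z) * g⁻¹ := by group
            _ = g * (z * (g⁻¹ * y * g)) * g⁻¹ := by rw [this]
            _ = _ := by group
        refine fun z => ⟨key g hg z, fun hz => ?_⟩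
        simpa [mul_assoc] using key g⁻¹ (Subgroup.inv_mem _ hg) _ hz)
    haveI := hA.1
    have hpT : ¬ p ∣ Nat.card ↥T := by
      obtain ⟨k, hk⟩ := IsPGroup.iff_card.1 hT
      rw [hk]
      exact fun h => htp ((Nat.prime_dvd_prime_iff_eq Fact.out Fact.out).mp
        ((Fact.out : p.Prime).dvd_of_dvd_pow h)).symm
    have hncyc : ¬ IsCyclic A := by
      intro hc
      obtain ⟨g, hg⟩ := hc.exists_generator
      have h1 : Nat.card A = orderOf g := (orderOf_eq_card_of_forall_mem_zpowers hg).symm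
      have h2 : orderOf g ∣ p := orderOf_dvd_of_pow_eq_one (Subtype.ext (by simpa using hA.2 g.1 g.2))
      have h3 := Nat.le_of_dvd (Fact.out : p.Prime).pos (h1 ▸ h2)
      have h4 : p ^ 1 < p ^ 2 := Nat.pow_lt_pow_right (Fact.out : p.Prime).one_lt (by norm_num)
      rw [pow_one] at h4
      omega
    obtain ⟨a, ha, ha1, hZa⟩ : ∃ a ∈ A, a ≠ 1 ∧ Z₀ ⊓ centralizer ({a} : Set G) ≠ ⊥ := by
      by_contra hcon
      push Not at hcon
      have hle : Z₀ ≤ ⊥ := CoprimeGen.le_of_centralizers hncyc hAZ₀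
        (CoprimeAction.coprime_of_le_right (map_subtype_le _) (coprime_card_A hA hpT))
        fun a ha ha1 => (hcon a ha ha1).le
      obtain ⟨z, hz⟩ := exists_ne (1 : ↥(center ↥T))
      exact hz (Subtype.ext (Subtype.ext (mem_bot.mp (hle (mem_map_of_mem T.subtype z.2)))))
    set Z := Z₀ ⊓ centralizer ({a} : Set G)
    have hZT : Z ≤ T := inf_le_left.trans (map_subtype_le _)
    have hZc : ∀ z ∈ Z, ∀ x ∈ T, x * z = z * x := by
      rintro _ ⟨⟨z, hz, rfl⟩, -⟩ x hx
      exact congrArg Subtype.val (mem_center_iff.mp hz ⟨x, hx⟩)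
    have hAZ : A ≤ normalizer (Z : Set G) := le_normalizer_inf_centralizer hA hAZ₀ ha
    set N := normalizer (Z : Set G)
    have hTN : T ≤ N := by
      refine le_trans ?_ (centralizer_le_normalizer _)
      exact fun x hx => mem_centralizer_iff.mpr fun z hz => (hZc z hz x hx).symm
    haveI : (Z.subgroupOf N).Normal := normal_subgroupOf_of_le_normalizer le_rfl
    set π := QuotientGroup.mk' (Z.subgroupOf N)
    let im := fun S : Subgroup G => (S.subgroupOf N).map π
    have hnorm : ∀ S : Subgroup G, A ≤ normalizer (S : Set G) → im A ≤ normalizer (im S : Set _) := by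
      rintro S hS _ ⟨b, hb, rfl⟩
      refine le_normalizer_map π (mem_map_of_mem π ?_)
      rw [mem_normalizer_iff]
      intro x
      exact mem_normalizer_iff.mp (hS hb) (x : G)
    have hZne : Z.subgroupOf N ≠ ⊥ := by
      rw [Ne, subgroupOf_eq_bot]
      exact fun h => hZa (by rw [← inf_eq_left.mpr (hZT.trans hTN)]; exact disjoint_iff.mp h)
    have hinj : ∀ b ∈ A, ∀ b' ∈ A, ∀ (h1 : b ∈ N) (h2 : b' ∈ N), π ⟨b, h1⟩ = π ⟨b', h2⟩ → b = b' := by
      intro b hb b' hb' h1 h2 he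
      have h3 : b⁻¹ * b' ∈ Z := mem_subgroupOf.mp (QuotientGroup.eq.mp (he : (QuotientGroup.mk ⟨b, h1⟩ : N ⧸ Z.subgroupOf N) = QuotientGroup.mk ⟨b', h2⟩))
      have h4 : b⁻¹ * b' ∈ T := hZT h3
      have := (disjoint_iff.mp (disjoint_of_coprime_natCard (coprime_card_A hA hpT))).le
        ⟨A.mul_mem (A.inv_mem hb) hb', h4⟩
      exact inv_mul_eq_one.mp (mem_bot.mp this)
    have hAb : IsElementaryAbelian p (im A) := by
      refine ⟨⟨⟨?_⟩⟩, ?_⟩
      · rintro ⟨_, b, hb, rfl⟩ ⟨_, c, hc, rfl⟩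
        apply Subtype.ext
        show π b * π c = π c * π b
        rw [← map_mul, ← map_mul]
        congr 1
        exact Subtype.ext (show (b : G) * c = c * b from
          congrArg (fun z : A => (z : G)) (mul_comm' (⟨(b : G), hb⟩ : A) ⟨(c : G), hc⟩))
      · rintro _ ⟨b, hb, rfl⟩
        rw [← map_pow, show b ^ p = 1 from Subtype.ext (hA.2 (b : G) hb), map_one]
    have hAN : A ≤ N := hAZ
    have hAcard : p ^ 2 ≤ Nat.card ↥(im A) := by
      refine hA2.trans (Nat.card_le_card_of_injective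
        (fun b : A => (⟨π ⟨b, hAN b.2⟩, mem_map_of_mem π (show (⟨b, hAN b.2⟩ : N) ∈ A.subgroupOf N from b.2)⟩ : im A)) ?_)
      intro b b' he
      exact Subtype.ext (hinj b b.2 b' b'.2 _ _ (congrArg Subtype.val he))
    have hlt : Nat.card ↥(im T) < n := by
      rw [← hn, ← Nat.card_congr (subgroupOfEquivOfLe hTN).toEquiv]
      set f := π.subgroupMap (T.subgroupOf N)
      have hf : Function.Surjective f := MonoidHom.subgroupMap_surjective _ _
      rw [← f.ker.index_mul_card, index_ker, f.range_eq_top.mpr hf, card_top]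
      refine lt_mul_of_one_lt_right Nat.card_pos ?_
      rw [one_lt_card_iff_ne_bot]
      intro hk
      apply hZne
      rw [eq_bot_iff]
      intro z hz
      have hzT : z ∈ T.subgroupOf N := hZT hz
      have : (⟨z, hzT⟩ : T.subgroupOf N) ∈ f.ker :=
        Subtype.ext ((QuotientGroup.eq_one_iff z).mpr hz)
      rw [hk, mem_bot] at this
      exact mem_bot.mpr (congrArg Subtype.val this)
    have hrec := ih _ hlt hAb hAcard (im T)
      ((hT.of_equiv (subgroupOfEquivOfLe hTN).symm).map π) (hnorm T hAT) (im U) (im V)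
      (map_mono (comap_mono hU)) (map_mono (comap_mono hV)) (hnorm U hAU) (hnorm V hAV) ?_ rfl
    swap
    · rintro _ ⟨b, hb, rfl⟩ hb1 x hx
      obtain ⟨⟨y, hy, rfl⟩, hyb⟩ := hx
      have hb1' : (b : G) ≠ 1 := fun h => hb1 (by rw [show b = 1 from Subtype.ext h, map_one])
      obtain ⟨c, hc, hyc⟩ := CoprimeAction.exists_fixed_mem_coset_zpowers (a := (b : G)) (D := Z)
        (k := (y : G)) (hAZ hb) (by
          refine Nat.Coprime.coprime_dvd_left (orderOf_dvd_natCard A hb)
            (CoprimeAction.coprime_of_le_right hZT (coprime_card_A hA hpT))) (by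
          have h1 := mem_centralizer_singleton_iff.mp hyb
          have h2 : π (y⁻¹ * b * y * b⁻¹) = 1 := by
            calc π (y⁻¹ * b * y * b⁻¹) = (π y)⁻¹ * (π b * π y) * (π b)⁻¹ := by simp [mul_assoc]
              _ = 1 := by rw [← h1]; group
          exact (QuotientGroup.eq_one_iff (N := Z.subgroupOf N) _).mp h2)
      have hcT : c ∈ T := by simpa using mul_mem (show (y : G) ∈ T from hy) (hZT hyc)
      obtain ⟨u, hu, v, hv, huv⟩ := h b hb hb1'
        (show c ∈ T ⊓ centralizer {(b : G)} from ⟨hcT, mem_centralizer_singleton_iff.mpr hc.symm⟩)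
      refine ⟨π ⟨u, hTN (hU hu.1)⟩, ?_, π ⟨v, hTN (hV hv.1)⟩, ?_, ?_⟩
      · refine mem_inf.mpr ⟨mem_map_of_mem π (show (⟨u, hTN (hU hu.1)⟩ : N) ∈ U.subgroupOf N from hu.1), ?_⟩
        rw [mem_centralizer_singleton_iff, ← map_mul, ← map_mul]
        exact congrArg π (Subtype.ext (mem_centralizer_singleton_iff.mp hu.2))
      · refine mem_inf.mpr ⟨mem_map_of_mem π (show (⟨v, hTN (hV hv.1)⟩ : N) ∈ V.subgroupOf N from hv.1), ?_⟩
        rw [mem_centralizer_singleton_iff, ← map_mul, ← map_mul]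
        exact congrArg π (Subtype.ext (mem_centralizer_singleton_iff.mp hv.2))
      · show π ⟨u, hTN (hU hu.1)⟩ * π ⟨v, hTN (hV hv.1)⟩ = π y
        rw [← map_mul]
        symm
        refine QuotientGroup.eq.mpr ?_
        rw [mem_subgroupOf]
        show (y : G)⁻¹ * (u * v) ∈ Z
        rwa [show u * v = c from huv]
    intro x hx
    obtain ⟨_, ⟨u, hu, rfl⟩, _, ⟨v, hv, rfl⟩, huv⟩ :=
      hrec (mem_map_of_mem π (show (⟨x, hTN hx⟩ : N) ∈ T.subgroupOf N from hx))
    replace huv : π (u * v) = π ⟨x, hTN hx⟩ := by rw [map_mul]; exact huv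
    have hz : ((u : G) * (v : G))⁻¹ * x ∈ Z := mem_subgroupOf.mp (QuotientGroup.eq.mp huv)
    set z := ((u : G) * (v : G))⁻¹ * x with hzdef
    obtain ⟨u', hu', v', hv', hzz⟩ := h a ha ha1 (show z ∈ T ⊓ centralizer {a} from ⟨hZT hz, hz.2⟩)
    refine ⟨(u : G) * u', mul_mem hu hu'.1, v' * (v : G), mul_mem hv'.1 hv, ?_⟩
    have hzv : (v : G) * z = z * (v : G) := hZc z hz v (hV hv)
    calc (u : G) * u' * (v' * (v : G)) = (u : G) * (u' * v') * (v : G) := by group
      _ = (u : G) * z * (v : G) := by rw [show u' * v' = z from hzz]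
      _ = (u : G) * ((v : G) * z) := by rw [hzv]; group
      _ = x := by simp only [hzdef]; group

/-- The factorisation theorem. -/
theorem result {H : Type*} [Group H] [Finite H] (p : ℕ) [Fact p.Prime] (A K X Y : Subgroup H) (hA : Cfsg.IsElementaryAbelian p A) (hA2 : p ^ 2 ≤ Nat.card ↥A) (hK : ¬ p ∣ Nat.card ↥K) (hAK : A ≤ Subgroup.normalizer (K : Set H)) (hX : X ≤ K) (hY : Y ≤ K) (hAX : A ≤ Subgroup.normalizer (X : Set H)) (hAY : A ≤ Subgroup.normalizer (Y : Set H)) (hCX : K ⊓ Subgroup.centralizer (A : Set H) ≤ Subgroup.normalizer (X : Set H)) (hfac : ∀ a ∈ A, a ≠ 1 → ((K ⊓ Subgroup.centralizer {a} : Subgroup H) : Set H) = ((X ⊓ Subgroup.centralizer {a} : Subgroup H) : Set H) * ((Y ⊓ Subgroup.centralizer {a} : Subgroup H) : Set H)) : (K : Set H) = (X : Set H) * (Y : Set H) := by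
  classical
  have hsub : (X : Set H) * (Y : Set H) ⊆ (K : Set H) := by
    rintro _ ⟨x, hx, y, hy, rfl⟩
    exact mul_mem (hX hx) (hY hy)
  have hcop := coprime_card_A hA hK
  have hsolA := solvable_A hA
  have hsol : Group.IsSolvable A ∨ Group.IsSolvable K := Or.inl hsolA
  have hA1 : A ≠ ⊥ := by
    intro h
    rw [h, card_bot] at hA2
    have := Nat.one_lt_pow (two_ne_zero) (Fact.out : p.Prime).one_lt
    omega
  obtain ⟨a₀, ha₀, ha₀1⟩ := (bot_or_exists_ne_one A).resolve_left hA1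
  suffices hcard : Nat.card K * Nat.card ↥(X ⊓ Y) ∣ Nat.card X * Nat.card Y by
    refine (Set.eq_of_subset_of_ncard_le hsub ?_).symm
    rw [← card_setMul X Y] at hcard
    have := Nat.le_of_mul_le_mul_right (Nat.le_of_dvd ?_ hcard) Nat.card_pos
    · rwa [← Nat.card_coe_set_eq, ← Nat.card_coe_set_eq]
    · haveI : Nonempty ↥((X : Set H) * (Y : Set H)) := ⟨⟨1, 1, one_mem X, 1, one_mem Y, mul_one 1⟩⟩
      exact Nat.mul_pos Nat.card_pos Nat.card_pos
  have hpos : ∀ S : Subgroup H, Nat.card S ≠ 0 := fun S => Nat.card_pos.ne'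
  rw [← Nat.factorization_le_iff_dvd (mul_ne_zero (hpos _) (hpos _)) (mul_ne_zero (hpos _) (hpos _))]
  intro t
  by_cases ht : t.Prime
  swap
  · simp [Nat.factorization_eq_zero_of_not_prime _ ht]
  haveI := Fact.mk ht
  simp only [Nat.factorization_mul (hpos _) (hpos _), Finsupp.coe_add, Pi.add_apply]
  by_cases htp : t = p
  · subst htp
    rw [Nat.factorization_eq_zero_of_not_dvd hK,
      Nat.factorization_eq_zero_of_not_dvd fun h => hK (h.trans (card_dvd_of_le (inf_le_left.trans hX)))]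
    simp
  have hpX : ¬ p ∣ Nat.card X := fun h => hK (h.trans (card_dvd_of_le hX))
  have hpY : ¬ p ∣ Nat.card Y := fun h => hK (h.trans (card_dvd_of_le hY))
  obtain ⟨SX, hSX⟩ := CoprimeAction.exists_invariant_sylow hAX
    (CoprimeAction.coprime_of_le_right hX hcop) (Or.inl hsolA) t
  obtain ⟨SY, hSY⟩ := CoprimeAction.exists_invariant_sylow hAY
    (CoprimeAction.coprime_of_le_right hY hcop) (Or.inl hsolA) t
  obtain ⟨T1, hT1, hT1A⟩ := CoprimeAction.exists_invariant_sylow_ge hAK hcop hsol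
    ((map_subtype_le _).trans hX) (SX.2.map X.subtype) hSX
  obtain ⟨T2, hT2, hT2A⟩ := CoprimeAction.exists_invariant_sylow_ge hAK hcop hsol
    ((map_subtype_le _).trans hY) (SY.2.map Y.subtype) hSY
  obtain ⟨c, hc, hcT⟩ := CoprimeAction.invariant_sylow_conj hAK hcop hsol T1 T2 hT1A hT2A
  -- `c = y * x` with both factors fixed by `A`
  obtain ⟨x, hx, y, hy, hxy⟩ : ∃ x ∈ X ⊓ centralizer (A : Set H), ∃ y ∈ Y ⊓ centralizer (A : Set H),
      x * y = (c : H)⁻¹ := by
    have hmem : (c : H)⁻¹ ∈ ((K ⊓ centralizer {a₀} : Subgroup H) : Set H) :=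
      inv_mem (mem_inf.mpr ⟨c.2, centralizer_le (Set.singleton_subset_iff.mpr ha₀) hc⟩)
    rw [hfac a₀ ha₀ ha₀1] at hmem
    obtain ⟨x, hx, y, hy, hxy⟩ := Set.mem_mul.mp hmem
    obtain ⟨x', hx', y', hy', he⟩ := CoprimeAction.exists_mul_fixed_of_product hAX hAY
      (CoprimeAction.coprime_of_le_right hX hcop) (Or.inl hsolA) hx.1 hy.1 (by rw [hxy]; exact inv_mem hc)
    exact ⟨x', hx', y', hy', he.symm.trans hxy⟩
  -- the common Sylow subgroup `x⁻¹ T1 x`
  set T := MulAut.conj (⟨x, hX hx.1⟩⁻¹ : ↥K) • T1 with hTdef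
  set T' := (T : Subgroup K).map K.subtype
  have hT1T : ∀ w ∈ (T1 : Subgroup K).map K.subtype, x⁻¹ * w * x ∈ T' := by
    rintro _ ⟨s, hs, rfl⟩
    refine ⟨(⟨x, hX hx.1⟩⁻¹ : ↥K) * s * ((⟨x, hX hx.1⟩⁻¹ : ↥K))⁻¹, ?_, by simp⟩
    rw [hTdef]
    exact ⟨s, hs, rfl⟩
  have hTA : A ≤ normalizer (T' : Set H) := by
    intro b hb
    have hxb : b * x = x * b := mem_centralizer_iff.mp hx.2 b hb
    have key : ∀ b ∈ A, ∀ w ∈ T', b * w * b⁻¹ ∈ T' := by
      rintro b hb _ ⟨w, hw, rfl⟩
      rw [hTdef] at hw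
      obtain ⟨s, hs, rfl⟩ := hw
      have hxb : b * x = x * b := mem_centralizer_iff.mp hx.2 b hb
      have h1 := hT1T _ ((mem_normalizer_iff.mp (hT1A hb) (s : H)).mp (mem_map_of_mem _ hs))
      have e : b * K.subtype ((⟨x, hX hx.1⟩⁻¹ : ↥K) * s * ((⟨x, hX hx.1⟩⁻¹ : ↥K))⁻¹) * b⁻¹ =
          x⁻¹ * (b * (s : H) * b⁻¹) * x := by
        have e1 : b * x⁻¹ = x⁻¹ * b := ((Commute.inv_right (show Commute b x from hxb))).eq
        have e2 : x * b⁻¹ = b⁻¹ * x := ((Commute.inv_left (show Commute b x from hxb))).eq.symm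
        simp only [map_mul, map_inv, inv_inv, coe_subtype]
        calc b * (x⁻¹ * (s : H) * x) * b⁻¹ = (b * x⁻¹) * (s : H) * (x * b⁻¹) := by group
          _ = _ := by rw [e1, e2]; group
      exact e ▸ h1
    rw [mem_normalizer_iff]
    refine fun w => ⟨key b hb w, fun hw => ?_⟩
    simpa [mul_assoc] using key b⁻¹ (inv_mem hb) _ hw
  set UX := T' ⊓ X
  set UY := T' ⊓ Y
  have hUX : Nat.card UX = t ^ (Nat.card X).factorization t := by
    apply le_antisymm
    · obtain ⟨m, hm⟩ := IsPGroup.iff_card.1 ((T.2.map K.subtype).to_le (inf_le_left : UX ≤ T'))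
      rw [hm]
      exact Nat.pow_le_pow_right ht.pos ((Nat.Prime.pow_dvd_iff_le_factorization ht (hpos _)).mp
        (hm ▸ card_dvd_of_le inf_le_right))
    · rw [← CoprimeAction.card_map_sylow SX]
      refine le_trans ?_ (le_of_eq (card_map_of_injective (f := (MulAut.conj x).toMonoidHom)
        (MulAut.conj x).injective))
      refine card_le_of_le fun w hw => ⟨x⁻¹ * w * x, ⟨hT1T w (hT1 hw), ?_⟩, by simp [mul_assoc]⟩
      exact Subgroup.mul_mem _ (Subgroup.mul_mem _ (Subgroup.inv_mem _ hx.1) (map_subtype_le _ hw)) hx.1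
  have hUY : Nat.card UY = t ^ (Nat.card Y).factorization t := by
    apply le_antisymm
    · obtain ⟨m, hm⟩ := IsPGroup.iff_card.1 ((T.2.map K.subtype).to_le (inf_le_left : UY ≤ T'))
      rw [hm]
      exact Nat.pow_le_pow_right ht.pos ((Nat.Prime.pow_dvd_iff_le_factorization ht (hpos _)).mp
        (hm ▸ card_dvd_of_le inf_le_right))
    · rw [← CoprimeAction.card_map_sylow SY]
      refine le_trans ?_ (le_of_eq (card_map_of_injective (f := (MulAut.conj y⁻¹).toMonoidHom)
        (MulAut.conj y⁻¹).injective))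
      refine card_le_of_le fun w hw => ⟨y * w * y⁻¹, ⟨?_, ?_⟩, by simp [mul_assoc]⟩
      · obtain ⟨s, hs, hsw⟩ := hT2 hw
        rw [← hcT] at hs
        obtain ⟨r, hr, hrs⟩ := hs
        have h1 := hT1T _ (mem_map_of_mem K.subtype hr)
        have e : y * w * y⁻¹ = x⁻¹ * K.subtype r * x := by
          have hy' : y = x⁻¹ * (c : H)⁻¹ := by rw [← hxy]; group
          rw [← hsw, ← hrs]
          show y * ((c : H) * r * (c : H)⁻¹) * y⁻¹ = x⁻¹ * (r : H) * x
          rw [hy']; group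
        rw [e]; exact h1
      · exact Subgroup.mul_mem _ (Subgroup.mul_mem _ hy.1 (map_subtype_le _ hw)) (Subgroup.inv_mem _ hy.1)
  obtain ⟨SX', hSX'⟩ := CoprimeAction.exists_sylow_map_eq (inf_le_right : UX ≤ X) hUX
  obtain ⟨SY', hSY'⟩ := CoprimeAction.exists_sylow_map_eq (inf_le_right : UY ≤ Y) hUY
  have hAUX : A ≤ normalizer (UX : Set H) := CoprimeAction.le_normalizer_inf hTA hAX
  have hAUY : A ≤ normalizer (UY : Set H) := CoprimeAction.le_normalizer_inf hTA hAY
  have hAXY : A ≤ normalizer ((X ⊓ Y : Subgroup H) : Set H) := CoprimeAction.le_normalizer_inf hAX hAY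
  set R := UX ⊓ UY
  have hAR : A ≤ normalizer (R : Set H) := CoprimeAction.le_normalizer_inf hAUX hAUY
  have hRXY : R ≤ X ⊓ Y := inf_le_inf inf_le_right inf_le_right
  obtain ⟨S, hRS, hSA⟩ := CoprimeAction.exists_invariant_sylow_ge hAXY
    (CoprimeAction.coprime_of_le_right (inf_le_left.trans hX) hcop) (Or.inl hsolA) hRXY
    ((T.2.map K.subtype).to_le (inf_le_left.trans inf_le_left)) hAR
  set S' := (S : Subgroup ↥(X ⊓ Y)).map (X ⊓ Y).subtype
  have key : ∀ a ∈ A, a ≠ 1 →
      ((T' ⊓ centralizer {a} : Subgroup H) : Set H) ⊆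
        ((UX ⊓ centralizer {a} : Subgroup H) : Set H) * ((UY ⊓ centralizer {a} : Subgroup H) : Set H) ∧
      S' ⊓ centralizer {a} ≤ R := by
    intro a ha ha1
    set C := centralizer ({a} : Set H)
    have eT := card_sylow_inf hA hAK hK T hTA ha
    have eX : Nat.card ↥(UX ⊓ C) = t ^ (Nat.card ↥(X ⊓ C)).factorization t := by
      have := card_sylow_inf hA hAX hpX SX' (by rw [hSX']; exact hAUX) ha
      rwa [hSX'] at this
    have eY : Nat.card ↥(UY ⊓ C) = t ^ (Nat.card ↥(Y ⊓ C)).factorization t := by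
      have := card_sylow_inf hA hAY hpY SY' (by rw [hSY']; exact hAUY) ha
      rwa [hSY'] at this
    have eS := card_sylow_inf hA hAXY (fun h => hpX (h.trans (card_dvd_of_le inf_le_left))) S hSA ha
    have hRle : R ⊓ C ≤ S' ⊓ C := inf_le_inf_right _ hRS
    have hK' := card_setMul (X ⊓ C) (Y ⊓ C)
    rw [← hfac a ha ha1, inf_inf_inf_comm X C Y C, inf_idem] at hK'
    have hU' := card_setMul (UX ⊓ C) (UY ⊓ C)
    rw [inf_inf_inf_comm UX C UY C, inf_idem] at hU'
    have hsub' : ((UX ⊓ C : Subgroup H) : Set H) * ((UY ⊓ C : Subgroup H) : Set H) ⊆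
        ((T' ⊓ C : Subgroup H) : Set H) := by
      rintro _ ⟨u, hu, v, hv, rfl⟩
      exact mul_mem (show u ∈ T' ⊓ C from ⟨hu.1.1, hu.2⟩) (show v ∈ T' ⊓ C from ⟨hv.1.1, hv.2⟩)
    have hprod : Nat.card ↥(T' ⊓ C) * Nat.card ↥(S' ⊓ C) =
        Nat.card ↥(UX ⊓ C) * Nat.card ↥(UY ⊓ C) := by
      rw [eT, eS, eX, eY, ← pow_add, ← pow_add]
      congr 1
      have hK'' : Nat.card ↥(K ⊓ C) * Nat.card ↥(X ⊓ Y ⊓ C) = Nat.card ↥(X ⊓ C) * Nat.card ↥(Y ⊓ C) := hK'
      have := congrArg (fun n => n.factorization t) hK''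
      simp only [Nat.factorization_mul (hpos _) (hpos _), Finsupp.coe_add, Pi.add_apply] at this
      exact this
    set S0 := ((UX ⊓ C : Subgroup H) : Set H) * ((UY ⊓ C : Subgroup H) : Set H)
    have hle1 : Nat.card ↥S0 ≤ Nat.card ↥(T' ⊓ C) := Nat.card_mono (Set.toFinite _) hsub'
    have hle2 : Nat.card ↥(R ⊓ C) ≤ Nat.card ↥(S' ⊓ C) := card_le_of_le hRle
    have hU'' : Nat.card ↥S0 * Nat.card ↥(R ⊓ C) = Nat.card ↥(UX ⊓ C) * Nat.card ↥(UY ⊓ C) := hU'
    have hge1 : Nat.card ↥(T' ⊓ C) ≤ Nat.card ↥S0 := by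
      by_contra hlt
      push Not at hlt
      have := Nat.mul_lt_mul_of_lt_of_le hlt hle2 Nat.card_pos
      omega
    have hge2 : Nat.card ↥(S' ⊓ C) ≤ Nat.card ↥(R ⊓ C) := by
      by_contra hlt
      push Not at hlt
      have := Nat.mul_lt_mul_of_le_of_lt hle1 hlt Nat.card_pos
      omega
    refine ⟨(Set.eq_of_subset_of_ncard_le hsub' ?_).ge, ?_⟩
    · rw [← Nat.card_coe_set_eq, ← Nat.card_coe_set_eq]; exact hge1
    · rw [← eq_of_le_of_card_ge hRle hge2]; exact inf_le_left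
  have hfactor := pgroup_factor hA hA2 htp T' (T.2.map K.subtype) hTA UX UY inf_le_left inf_le_left
    hAUX hAUY fun a ha ha1 => (key a ha ha1).1
  haveI := hA.1
  have hncyc : ¬ IsCyclic A := by
    intro hc
    obtain ⟨g, hg⟩ := hc.exists_generator
    have h1 : Nat.card A = orderOf g := (orderOf_eq_card_of_forall_mem_zpowers hg).symm
    have h2 : orderOf g ∣ p := orderOf_dvd_of_pow_eq_one (Subtype.ext (by simpa using hA.2 g.1 g.2))
    have h3 := Nat.le_of_dvd (Fact.out : p.Prime).pos (h1 ▸ h2)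
    have h4 : p ^ 1 < p ^ 2 := Nat.pow_lt_pow_right (Fact.out : p.Prime).one_lt (by norm_num)
    rw [pow_one] at h4
    omega
  have hSR : S' ≤ R := CoprimeGen.le_of_centralizers hncyc hSA
    (CoprimeAction.coprime_of_le_right ((map_subtype_le _).trans (inf_le_left.trans hX)) hcop)
    fun a ha ha1 => (key a ha ha1).2
  have hRS' : R = S' := le_antisymm hRS hSR
  have hprodset : (UX : Set H) * (UY : Set H) = (T' : Set H) := by
    refine Set.Subset.antisymm ?_ hfactor
    rintro _ ⟨u, hu, v, hv, rfl⟩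
    exact mul_mem (show u ∈ T' from hu.1) (show v ∈ T' from hv.1)
  have hU := card_setMul UX UY
  rw [hprodset, hUX, hUY, show UX ⊓ UY = S' from hRS'] at hU
  change Nat.card ↥T' * Nat.card ↥S' = _ at hU
  rw [CoprimeAction.card_map_sylow T, CoprimeAction.card_map_sylow S, ← pow_add, ← pow_add] at hU
  exact le_of_eq (Nat.pow_right_injective ht.two_le hU)

end Cfsg.Agent.S1287
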