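import Mathlib
import Cfsg.Statements.S1288
import Cfsg.Agent.S1324
import Cfsg.Agent.Lib.HallCore
import Cfsg.Agent.Lib.HallSolvable
import Cfsg.Agent.Lib.ComponentsCores

set_option autoImplicit false
open Cfsg
open scoped Pointwise commutatorElement

namespace Cfsg.Agent.S1288

open Subgroup

/-- Let A be a noncyclic elementary abelian p-subgroup of a finite group H normalizing a solvable subgroup K of order prime to p, q a prime dividing |K|, and U ≤ K a subgroup of order prime to q such that ⁅U, C_K(B)⁆ has order prime to q for every subgroup B of index p in A. Then U ≤ O_{q'}(K). -/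
theorem result {H : Type*} [Group H] [Finite H] (p : ℕ) [Fact p.Prime] (A K : Subgroup H) (hA : Cfsg.IsElementaryAbelian p A) (hA2 : p ^ 2 ≤ Nat.card ↥A) (hK : ¬ p ∣ Nat.card ↥K) (hKs : Group.IsSolvable ↥K) (hAK : A ≤ Subgroup.normalizer (K : Set H)) (q : ℕ) [Fact q.Prime] (hqK : q ∣ Nat.card ↥K) (U : Subgroup H) (hU : U ≤ K) (hUq : ¬ q ∣ Nat.card ↥U) (hcomm : ∀ B : Subgroup H, B ≤ A → B.relIndex A = p → ¬ q ∣ Nat.card ↥⁅U, K ⊓ Subgroup.centralizer (B : Set H)⁆) : U ≤ (Cfsg.pPrimeCore q ↥K).map K.subtype := by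
  haveI := hKs
  set D := Cfsg.pPrimeCore q ↥K
  set π := QuotientGroup.mk' D
  set Qb := Cfsg.pCore q (↥K ⧸ D)
  set R := Qb.comap π
  set RG := R.map K.subtype
  haveI hRn : R.Normal := inferInstance
  haveI : R.Characteristic := by
    refine characteristic_iff_map_le.mpr fun e => ?_
    rintro _ ⟨r, hr, rfl⟩
    have he : D.map e.toMonoidHom = D := HallCore.map_equiv_pPrimeCore e
    have h2 := HallCore.map_equiv_pCore (p := q) (QuotientGroup.congr D D e he)
    show π (e r) ∈ Qb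
    have h3 : (QuotientGroup.congr D D e he).toMonoidHom (π r) ∈ Qb := h2.le (mem_map_of_mem _ hr)
    exact h3
  have hAR : A ≤ normalizer (RG : Set H) :=
    hAK.trans (ComponentsCores.normalizer_le_normalizer_map_subtype K R)
  have hRp : ¬ p ∣ Nat.card ↥RG := fun h => hK (h.trans (card_dvd_of_le (map_subtype_le _)))
  have hgen := S1324.result p A RG hA hA2 hRp hAR
  -- the image of `U` centralises `O_q` of the quotient
  set Ub := (U.subgroupOf K).map π
  set C := (centralizer (Ub : Set (↥K ⧸ D))).comap π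
  have hUb : (Nat.card Ub).Coprime q := by
    refine Nat.Coprime.coprime_dvd_left (card_map_dvd _ π) ?_
    rw [Nat.card_congr (subgroupOfEquivOfLe hU).toEquiv]
    exact ((Fact.out : q.Prime).coprime_iff_not_dvd.mpr hUq).symm
  have hcard : ∀ n, Nat.card ↥A = p ^ n → 2 ≤ n := by
    intro n hn
    by_contra h
    have h3 : p ^ n < p ^ 2 := Nat.pow_lt_pow_right (Fact.out : p.Prime).one_lt (by omega)
    omega
  have hAp : IsPGroup p ↥A := fun a => ⟨1, Subtype.ext (by simpa using hA.2 a.1 a.2)⟩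
  obtain ⟨n, hn⟩ := IsPGroup.iff_card.1 hAp
  have hn2 := hcard n hn
  obtain ⟨B₀, hB₀⟩ := Sylow.exists_subgroup_card_pow_prime p (G := ↥A) (n := n - 1)
    (hn ▸ pow_dvd_pow p (by omega))
  have hB₀i : (B₀.map A.subtype).relIndex A = p := by
    rw [relIndex, subgroupOf, comap_map_eq_self_of_injective A.subtype_injective]
    have h2 := B₀.card_mul_index
    have e : p ^ n = p ^ (n - 1) * p := by rw [← pow_succ]; congr 1; omega
    rw [hB₀, hn, e] at h2
    exact Nat.eq_of_mul_eq_mul_left (pow_pos (Fact.out : p.Prime).pos _) h2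
  have key : ∀ B : Subgroup H, B ≤ A → B.relIndex A = p →
      RG ⊓ centralizer (B : Set H) ≤ C.map K.subtype := by
    rintro B hB hBi x ⟨⟨r, hr, rfl⟩, hxB⟩
    refine mem_map_of_mem _ ?_
    show π r ∈ centralizer (Ub : Set (↥K ⧸ D))
    rw [mem_centralizer_iff]
    rintro _ ⟨u, hu, rfl⟩
    have hW := hcomm B hB hBi
    have hw : ((⁅u, r⁆ : ↥K) : H) ∈ ⁅U, K ⊓ centralizer (B : Set H)⁆ :=
      commutator_mem_commutator (show (u : H) ∈ U from hu) (mem_inf.mpr ⟨r.2, hxB⟩)
    have hwR : π ⁅u, r⁆ ∈ Qb := by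
      show ⁅u, r⁆ ∈ R
      rw [commutatorElement_def]
      exact mul_mem (hRn.conj_mem r hr u) (inv_mem hr)
    obtain ⟨k, hk⟩ := HallCore.isPGroup_pCore q (↥K ⧸ D) ⟨_, hwR⟩
    have h1 : orderOf (π ⁅u, r⁆) ∣ q ^ k := orderOf_dvd_of_pow_eq_one (congrArg Subtype.val hk)
    have h2 : orderOf (π ⁅u, r⁆) ∣ Nat.card ↥⁅U, K ⊓ centralizer (B : Set H)⁆ := by
      refine (orderOf_map_dvd π _).trans ?_
      rw [← orderOf_coe]
      exact orderOf_dvd_natCard _ hw
    have h3 : π ⁅u, r⁆ = 1 := orderOf_eq_one_iff.mp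
      (Nat.eq_one_of_dvd_coprimes (((Fact.out : q.Prime).coprime_iff_not_dvd.mpr hW).pow_left k) h1 h2)
    rw [map_commutatorElement, commutatorElement_eq_one_iff_mul_comm] at h3
    exact h3
  have hRC : RG ≤ C.map K.subtype := by
    rw [hgen]
    refine iSup_le ?_
    rintro ⟨B, hB, hBi⟩
    have hd : B.relIndex A ∣ p ^ n := hn ▸ relIndex_dvd_card B A
    obtain ⟨m, -, hm⟩ := (Nat.dvd_prime_pow (Fact.out : p.Prime)).mp hd
    rcases Nat.lt_or_ge m 1 with h0 | h0
    · have hm0 : B.relIndex A = 1 := by rw [hm, show m = 0 by omega, pow_zero]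
      refine le_trans (inf_le_inf_left _ (centralizer_le ?_)) (key _ (map_subtype_le B₀) hB₀i)
      exact SetLike.coe_subset_coe.mpr ((map_subtype_le B₀).trans (relIndex_eq_one.mp hm0))
    · have hm1 : B.relIndex A = p := by
        refine le_antisymm hBi ?_
        rw [hm]
        calc p = p ^ 1 := (pow_one p).symm
          _ ≤ p ^ m := Nat.pow_le_pow_right (Fact.out : p.Prime).pos h0
      exact key B hB hm1
  intro x hx
  have hxK := hU hx
  have hsol : Cfsg.IsPSolvable q (↥K ⧸ D) := HallSolvable.isPSolvable_of_solvable q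
  have hxC : π ⟨x, hxK⟩ ∈ centralizer (Qb : Set (↥K ⧸ D)) := by
    rw [mem_centralizer_iff]
    intro y hy
    obtain ⟨r, rfl⟩ := QuotientGroup.mk'_surjective D y
    obtain ⟨c, hc, hcr⟩ := hRC (mem_map_of_mem K.subtype (show r ∈ R from hy))
    have hcr' : c = r := Subtype.ext hcr
    subst hcr'
    exact ((mem_centralizer_iff.mp hc) _ (mem_map_of_mem π (show (⟨x, hxK⟩ : ↥K) ∈ U.subgroupOf K from hx))).symm
  have hxQ := HallSolvable.centralizer_pCore_le hsol (HallCore.pPrimeCore_quotient_self q _) hxC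
  have hbot : Qb ⊓ Ub = ⊥ := by
    refine disjoint_iff.mp (disjoint_of_coprime_natCard ?_)
    obtain ⟨k, hk⟩ := HallCore.card_pCore q (↥K ⧸ D)
    rw [show Nat.card Qb = q ^ k from hk]
    exact hUb.symm.pow_left k
  have h1 := hbot.le ⟨hxQ, mem_map_of_mem π (show (⟨x, hxK⟩ : ↥K) ∈ U.subgroupOf K from hx)⟩
  exact ⟨⟨x, hxK⟩, (QuotientGroup.eq_one_iff _).mp (mem_bot.mp h1), rfl⟩

end Cfsg.Agent.S1288
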