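import Cfsg.Statements.S1289
import Cfsg.Agent.Lib.ComponentsP

set_option autoImplicit false
open Cfsg

namespace Cfsg.Agent.S1289

/-- A p-component K of the finite group X is subnormal, perfect, of order divisible by p, and minimal among the subnormal perfect subgroups of X of order divisible by p. -/
theorem result {X : Type*} [Group X] [Finite X] (p : ℕ) [Fact p.Prime] (K : Subgroup X) (hK : Cfsg.IsPComponent p K) : K.IsSubnormal ∧ ⁅K, K⁆ = K ∧ p ∣ Nat.card ↥K ∧ ∀ H : Subgroup X, H ≤ K → H.IsSubnormal → ⁅H, H⁆ = H → p ∣ Nat.card ↥H → H = K := by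
  refine ⟨hK.1, ComponentsP.isPComponent_perfect hK, ComponentsP.isPComponent_dvd_card hK, fun H hle hH hperf hdvd => ?_⟩
  have hle' : H.map (ComponentsP.bar p X) ≤ K.map (ComponentsP.bar p X) := Subgroup.map_mono hle
  rcases ComponentsBasic.component_le_or_commute hK.2.1 (hH.map ComponentsP.bar_surjective) with h | h
  · exact hK.2.2 H hH hle (le_antisymm hle' h)
  · exfalso
    have h2 : H.map (ComponentsP.bar p X) = ⊥ := by
      conv_lhs => rw [← hperf, Subgroup.map_commutator]
      rw [← le_bot_iff, ← h]
      exact Subgroup.commutator_mono hle' le_rfl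
    have h3 := (ComponentsCores.pPrimeCore_coprime p).coprime_dvd_left
      (hdvd.trans (Subgroup.card_dvd_of_le (ComponentsP.map_bar_eq_bot_iff.mp h2)))
    exact (Fact.out : p.Prime).ne_one (Nat.coprime_self p |>.mp h3)

end Cfsg.Agent.S1289
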