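import Mathlib
import Cfsg.Statements.S1292
import Cfsg.Agent.Lib.CharTwoLocal

set_option autoImplicit false
open Cfsg
open scoped Pointwise commutatorElement

namespace Cfsg.Agent.S1292

open Subgroup

/-- Let G be a finite group such that F*(C_G(t)) = O_2(C_G(t)) for every involution t. Then F*(N_G(T)) = O_2(N_G(T)) for every nontrivial 2-subgroup T of G. -/
theorem result {G : Type*} [Group G] [Finite G] (h : ∀ t : G, orderOf t = 2 → Cfsg.generalizedFittingSubgroup ↥(Subgroup.centralizer ({t} : Set G)) = Cfsg.pCore 2 ↥(Subgroup.centralizer ({t} : Set G))) (T : Subgroup G) (hT : IsPGroup 2 ↥T) (hT1 : T ≠ ⊥) : Cfsg.generalizedFittingSubgroup ↥(Subgroup.normalizer (T : Set G)) = Cfsg.pCore 2 ↥(Subgroup.normalizer (T : Set G)) := by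
  haveI : Fact (Nat.Prime 2) := ⟨Nat.prime_two⟩
  haveI : Nontrivial ↥T := nontrivial_iff_ne_bot T |>.mpr hT1
  haveI := IsPGroup.center_nontrivial hT
  obtain ⟨⟨z, hz⟩, hzo⟩ := exists_prime_orderOf_dvd_card' (G := ↥(center ↥T)) 2 (by
    obtain ⟨n, hn⟩ := IsPGroup.iff_card.1 (hT.to_subgroup (center ↥T))
    have h1 : 1 < Nat.card ↥(center ↥T) := Finite.one_lt_card
    rw [hn] at h1 ⊢
    exact dvd_pow_self 2 (by rintro rfl; simp at h1))
  have ht : orderOf (z : G) = 2 := by
    rw [orderOf_coe, ← hzo, ← orderOf_coe (⟨z, hz⟩ : ↥(center ↥T))]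
  set X := centralizer ({(z : G)} : Set G)
  have hTX : T ≤ X := fun a ha => mem_centralizer_singleton_iff.mpr
    (congrArg Subtype.val (mem_center_iff.mp hz ⟨a, ha⟩))
  have hC : centralizer (T : Set G) ≤ X := fun a ha =>
    mem_centralizer_singleton_iff.mpr (mem_centralizer_iff.mp ha z z.2).symm
  exact CharTwoLocal.gen_eq_of_charTwo
    (CharTwoLocal.charTwo_normalizer (CharTwoLocal.charTwo_of_gen_eq (h z ht)) hT hTX hC)

end Cfsg.Agent.S1292
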