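import Mathlib
import Cfsg.Statements.S1293
import Cfsg.Agent.S1268
import Cfsg.Agent.Lib.ComponentsP
import Cfsg.Agent.Lib.HallCore
import Cfsg.Agent.Lib.CoprimeSZ
import Cfsg.Agent.Lib.CoprimeAction

set_option autoImplicit false
open Cfsg
open scoped Pointwise commutatorElement

namespace Cfsg.Agent.S1293

open Subgroup

open Cfsg.Agent.ComponentsBasic Cfsg.Agent.ComponentsFitting

/-- Let G be finite with L_{p'}(G) = 1, and H = N_G(P) for a nontrivial p-subgroup P. Then L_{p'}(H) = 1 and O_{p'}(H) ≤ O_{p'}(G). -/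
theorem result {G : Type*} [Group G] [Finite G] (p : ℕ) [Fact p.Prime] (hL : Cfsg.pLayer p G = ⊥) (P : Subgroup G) (hP : IsPGroup p ↥P) (hP1 : P ≠ ⊥) : Cfsg.pLayer p ↥(Subgroup.normalizer (P : Set G)) = ⊥ ∧ (Cfsg.pPrimeCore p ↥(Subgroup.normalizer (P : Set G))).map (Subgroup.normalizer (P : Set G)).subtype ≤ Cfsg.pPrimeCore p G := by
  set O := Cfsg.pPrimeCore p G
  set q := QuotientGroup.mk' O
  have hO' : Cfsg.pPrimeCore p (G ⧸ O) = ⊥ := HallCore.pPrimeCore_quotient_self p G
  have hlay : Cfsg.layer (G ⧸ O) = ⊥ := ComponentsP.pLayer_eq_bot_iff.mp hL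
  have hgen : Cfsg.generalizedFittingSubgroup (G ⧸ O) = Cfsg.pCore p (G ⧸ O) := by
    rw [gen_eq_fitting_iff.mpr hlay, ComponentsP.fitting_eq_pCore_of_bot hO']
  have hPb := hP.map q
  have hN := S1268.result p hgen (P.map q) hPb
  set Nb := normalizer ((P.map q : Subgroup (G ⧸ O)) : Set (G ⧸ O))
  have hNlay : Cfsg.layer ↥Nb = ⊥ := by
    refine sSup_eq_bot.mpr fun K hK => ?_
    exfalso
    haveI : Group.IsNilpotent ↥(Cfsg.pCore p ↥Nb) := (ComponentsCores.isPGroup_pCore p).isNilpotent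
    exact isQuasisimple_not_le_solvable (S := Cfsg.pCore p ↥Nb) hK.2 (hN ▸ component_le_gen hK)
  have hNO : Cfsg.pPrimeCore p ↥Nb = ⊥ := by
    rw [eq_bot_iff, ← HallCore.pCore_inf_pPrimeCore p ↥Nb]
    refine le_inf (fun x hx => ?_) le_rfl
    rw [← hN]
    refine centralizer_gen_le (mem_centralizer_iff.mpr fun y hy => ?_)
    rw [hN] at hy
    exact HallCore.commute_pCore_pPrimeCore hy hx
  set N := normalizer (P : Set G)
  have hmap : N.map q ≤ Nb := le_normalizer_map q
  let φ : ↥N →* ↥Nb := (q.comp N.subtype).codRestrict Nb fun x => hmap (mem_map_of_mem q x.2)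
  have hφ : Function.Surjective φ := by
    rintro ⟨gb, hgb⟩
    obtain ⟨g, rfl⟩ := QuotientGroup.mk'_surjective O gb
    have hB : P.map (MulAut.conj g).toMonoidHom ≤ O ⊔ P := by
      rintro _ ⟨x, hx, rfl⟩
      obtain ⟨y, hy, hyx⟩ := (mem_normalizer_iff.mp hgb (q x)).mp (mem_map_of_mem q hx)
      have e : y⁻¹ * (g * x * g⁻¹) ∈ O := by
        rw [← QuotientGroup.eq_one_iff]
        show q (y⁻¹ * (g * x * g⁻¹)) = 1
        rw [map_mul, map_inv, hyx]
        simp only [map_mul, map_inv]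
        exact inv_mul_cancel _
      have : (MulAut.conj g).toMonoidHom x = y * (y⁻¹ * (g * x * g⁻¹)) := by simp
      rw [this]
      exact mul_mem (mem_sup_right hy) (mem_sup_left e)
    have hcop : (Nat.card P).Coprime (Nat.card O) := by
      obtain ⟨n, hn⟩ := IsPGroup.iff_card.1 hP
      rw [hn]; exact (HallCore.coprime_card_pPrimeCore p G).symm.pow_left n
    obtain ⟨n, hn, hnP⟩ := CoprimeSZ.exists_conj_of_card_eq (N := O) (A := P)
      (by rw [normalizer_eq_top_iff.2 inferInstance]; exact le_top) hcop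
      (Or.inl (CoprimeAction.isSolvable_of_isPGroup hP)) hB
      (card_map_of_injective (MulAut.conj g).injective)
    rw [CoprimeSZ.conj_smul_eq_map] at hnP
    have hgN : n⁻¹ * g ∈ N := by
      rw [mem_normalizer_iff_map_conj_eq]
      apply map_injective (f := (MulAut.conj n).toMonoidHom) (MulAut.conj n).injective
      rw [Subgroup.map_map]
      refine Eq.trans ?_ hnP.symm
      congr 1
      ext x
      simp [mul_assoc]
    refine ⟨⟨_, hgN⟩, Subtype.ext ?_⟩
    show q (n⁻¹ * g) = q g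
    rw [map_mul, map_inv, show q n = 1 from (QuotientGroup.eq_one_iff n).mpr hn, inv_one, one_mul]
  have hcore : (Cfsg.pPrimeCore p ↥N).map N.subtype ≤ O := by
    rintro _ ⟨x, hx, rfl⟩
    have := HallCore.map_pPrimeCore_le (p := p) hφ (mem_map_of_mem φ hx)
    rw [hNO, mem_bot] at this
    exact (QuotientGroup.eq_one_iff (x : G)).mp (congrArg Subtype.val this)
  refine ⟨?_, hcore⟩
  rw [ComponentsP.pLayer_eq_bot_iff]
  have hker : φ.ker = Cfsg.pPrimeCore p ↥N := by
    apply le_antisymm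
    · refine HallCore.le_pPrimeCore ?_
      have hle : φ.ker.map N.subtype ≤ O := by
        rintro _ ⟨x, hx, rfl⟩
        exact (QuotientGroup.eq_one_iff (x : G)).mp (congrArg Subtype.val (MonoidHom.mem_ker.mp hx))
      refine Nat.Coprime.coprime_dvd_left ?_ (HallCore.coprime_card_pPrimeCore p G)
      rw [← card_map_of_injective N.subtype_injective]
      exact card_dvd_of_le hle
    · intro x hx
      have := HallCore.map_pPrimeCore_le (p := p) hφ (mem_map_of_mem φ hx)
      rwa [hNO, mem_bot] at this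
  let e : (↥N ⧸ Cfsg.pPrimeCore p ↥N) ≃* ↥Nb :=
    (QuotientGroup.quotientMulEquivOfEq hker.symm).trans (QuotientGroup.quotientKerEquivOfSurjective φ hφ)
  have := layer_map_mulEquiv e
  rw [hNlay, Subgroup.map_eq_bot_iff_of_injective _ e.injective] at this
  exact this

end Cfsg.Agent.S1293
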