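import Mathlib
import Cfsg.Statements.S1297
import Cfsg.Agent.Lib.BalanceComponents

set_option autoImplicit false
open Cfsg
open scoped Pointwise commutatorElement

namespace Cfsg.Agent.S1297

open Subgroup

/-- Let G be finite. Suppose that for every involution x, writing C = C_G(x), every component K of C / O(C) has K / Z(K) locally balanced. Then G is balanced. -/
theorem result {G : Type*} [Group G] [Finite G] (h : ∀ x : G, orderOf x = 2 → ∀ K : Subgroup (↥(Subgroup.centralizer ({x} : Set G)) ⧸ Cfsg.oddCore ↥(Subgroup.centralizer ({x} : Set G))), Cfsg.IsComponent K → Cfsg.IsLocallyBalanced (↥K ⧸ Subgroup.center ↥K)) : Cfsg.IsBalanced G := by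
  haveI : Fact (Nat.Prime 2) := ⟨Nat.prime_two⟩
  have hloc : ∀ x : G, orderOf x = 2 → ∀ K : Subgroup (↥(centralizer ({x} : Set G)) ⧸
      Cfsg.pPrimeCore 2 ↥(centralizer ({x} : Set G))), Cfsg.IsComponent K →
      Cfsg.IsLocallyKBalanced 2 1 (↥K ⧸ center ↥K) := by
    intro x hx K hK H hH A hA hA2
    obtain ⟨a, ha, ha1⟩ := (bot_or_exists_ne_one A).resolve_left fun h => by
      rw [h, card_bot] at hA2; omega
    rw [eq_bot_iff, ← h x hx K hK H hH a (orderOf_eq_prime (hA.2 a ha) ha1)]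
    exact iInf_le (fun a : {a : ↥H // a ∈ A ∧ a ≠ 1} => Cfsg.centralizerPPrimeCore 2 (a : ↥H)) ⟨a, ha, ha1⟩
  have hk := BalanceComponents.isKBalanced_of_components le_rfl hloc
  have key : ∀ x y : G, orderOf x = 2 → orderOf y = 2 → x * y = y * x →
      Cfsg.centralizerPPrimeCore 2 x ⊓ centralizer {y} ≤
        Cfsg.centralizerPPrimeCore 2 y ⊓ centralizer {x} := by
    intro x y hx hy hxy
    refine le_inf ?_ (inf_le_left.trans (map_subtype_le _))
    have hx2 : x ^ 2 = 1 := by rw [← hx]; exact pow_orderOf_eq_one x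
    have hA : Cfsg.IsElementaryAbelian 2 (zpowers x) := by
      refine ⟨inferInstance, ?_⟩
      rintro _ ⟨n, rfl⟩
      show (x ^ n) ^ 2 = 1
      rw [← zpow_natCast, ← zpow_mul, mul_comm, zpow_mul, zpow_natCast, hx2, one_zpow]
    refine le_trans (inf_le_inf_right _ ?_) (hk (zpowers x) hA (by rw [Nat.card_zpowers, hx, pow_one]) y hy ?_)
    · refine le_iInf ?_
      rintro ⟨a, ⟨n, rfl⟩, ha1⟩
      rcases Int.even_or_odd n with ⟨m, rfl⟩ | ⟨m, rfl⟩
      · exact absurd (show x ^ (m + m) = 1 by rw [← two_mul, zpow_mul, zpow_ofNat, hx2, one_zpow]) ha1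
      · show _ ≤ Cfsg.centralizerPPrimeCore 2 (x ^ (2 * m + 1))
        rw [zpow_add_one, zpow_mul, zpow_ofNat, hx2, one_zpow, one_mul]
    · rintro _ ⟨n, rfl⟩
      exact (Commute.zpow_left hxy n).eq
  exact fun x y hx hy hxy => le_antisymm (key x y hx hy hxy) (key y x hy hx hxy.symm)

end Cfsg.Agent.S1297
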