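import Cfsg.Statements.S1299
import Cfsg.Agent.Lib.SignalizerBasic
import Cfsg.Agent.Lib.SignalizerComplete

set_option autoImplicit false
open Cfsg
open Cfsg.Agent.SignalizerCoprime Cfsg.Agent.SignalizerBasic

namespace Cfsg.Agent.S1299

/-- Let G be finite and k-balanced for the prime p (k ≥ 1), A an elementary abelian p-subgroup of order at least p^(k+2) such that O_{p'}(C_G(a)) is solvable for every non-identity a ∈ A. For a ∈ A put θ a = the subgroup generated by the Δ_G(D) ∩ C_G(a) over the subgroups D ≤ A of order p^k. Then θ is an A-signalizer functor. -/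
theorem result {G : Type*} [Group G] [Finite G] (p k : ℕ) [Fact p.Prime] (hk : 1 ≤ k) (hbal : Cfsg.IsKBalanced p k G) (A : Subgroup G) (hA : Cfsg.IsElementaryAbelian p A) (hAk : p ^ (k + 2) ≤ Nat.card ↥A) (hsolv : ∀ a ∈ A, a ≠ 1 → Group.IsSolvable ↥(Cfsg.centralizerPPrimeCore p a)) : Cfsg.IsSignalizerFunctor p A (fun a => ⨆ D : {D : Subgroup G // D ≤ A ∧ Nat.card ↥D = p ^ k}, Cfsg.signalizerDelta p (D : Subgroup G) ⊓ Subgroup.centralizer {a}) := by
  have hp := (Fact.out : p.Prime)
  have hcenA : ∀ a ∈ A, A ≤ Subgroup.centralizer ({a} : Set G) := fun a ha b hb =>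
    Subgroup.mem_centralizer_singleton_iff.2 (comm_of_mem hA hb ha)
  have hAC : ∀ D : Subgroup G, D ≤ A → A ≤ Subgroup.centralizer (D : Set G) :=
    fun D hD b hb z hz => comm_of_mem hA (hD hz) hb
  -- subgroups of order `p ^ k` inside larger ones
  have hsub : ∀ D : Subgroup G, D ≤ A → p ^ k ≤ Nat.card D →
      ∃ D' : Subgroup G, D' ≤ D ∧ Nat.card D' = p ^ k := by
    intro D hD hDk
    obtain ⟨D', hD'⟩ := Sylow.exists_subgroup_card_pow_prime_of_le_card hp
      ((isPGroup_of_elementaryAbelian hA).to_le hD) hDk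
    refine ⟨D'.map D.subtype, Subgroup.map_subtype_le _, ?_⟩
    rw [Subgroup.card_map_of_injective D.subtype_injective]
    exact hD'
  have hkb : ∀ D : Subgroup G, D ≤ A → p ^ k ≤ Nat.card D → ∀ a ∈ A, a ≠ 1 →
      signalizerDelta p D ⊓ Subgroup.centralizer {a} ≤ centralizerPPrimeCore p a := by
    intro D hD hDk a ha ha1
    obtain ⟨D', hD', hcard⟩ := hsub D hD hDk
    refine le_trans (inf_le_inf_right _ (signalizerDelta_antitone hD')) ?_
    exact hbal D' (elementaryAbelian_of_le hA (hD'.trans hD)) hcard a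
      (orderOf_eq_prime (hA.2 a ha) ha1) fun z hz => comm_of_mem hA (hD (hD' hz)) ha
  set θ : G → Subgroup G := fun a => ⨆ D : {D : Subgroup G // D ≤ A ∧ Nat.card ↥D = p ^ k},
    signalizerDelta p (D : Subgroup G) ⊓ Subgroup.centralizer {a} with hθdef
  have hθle : ∀ a ∈ A, a ≠ 1 → θ a ≤ centralizerPPrimeCore p a := fun a ha ha1 =>
    iSup_le fun D => hkb D.1 D.2.1 D.2.2.ge a ha ha1
  have hmemθ : ∀ a : G, ∀ D : Subgroup G, D ≤ A → p ^ k ≤ Nat.card D →
      signalizerDelta p D ⊓ Subgroup.centralizer {a} ≤ θ a := by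
    intro a D hD hDk
    obtain ⟨D', hD', hcard⟩ := hsub D hD hDk
    exact le_iSup_of_le (⟨D', hD'.trans hD, hcard⟩ :
      {D : Subgroup G // D ≤ A ∧ Nat.card ↥D = p ^ k})
      (inf_le_inf_right _ (signalizerDelta_antitone hD'))
  have hθinv : ∀ a ∈ A, A ≤ Subgroup.normalizer (θ a : Set G) := fun a ha =>
    le_normalizer_iSup fun D => le_normalizer_inf
      ((hAC D.1 D.2.1).trans (centralizer_le_normalizer_signalizerDelta p _))
      ((hcenA a ha).trans Subgroup.le_normalizer)
  refine ⟨fun a ha ha1 => (hθle a ha ha1).trans (centralizerPPrimeCore_le p a),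
    fun a ha ha1 h => not_dvd_card_centralizerPPrimeCore p a
      (h.trans (Subgroup.card_dvd_of_le (hθle a ha ha1))),
    fun a ha _ => forall_conj_mem (hθinv a ha), ?_⟩
  intro a ha ha1 b hb hb1
  have hsolθ : Group.IsSolvable ↥(θ a) := by
    haveI := hsolv a ha ha1
    exact solvable_of_solvable_injective (Subgroup.inclusion_injective (hθle a ha ha1))
  have hpθ : ¬ p ∣ Nat.card ↥(θ a) := fun h => not_dvd_card_centralizerPPrimeCore p a
    (h.trans (Subgroup.card_dvd_of_le (hθle a ha ha1)))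
  -- completeness inside `θ a`
  have hcompl : ∀ E : Subgroup G, E ≤ A → p ^ k ≤ Nat.card E →
      θ a ⊓ Subgroup.centralizer (E : Set G) ≤
        signalizerDelta p E ⊓ Subgroup.centralizer {a} ⊓ Subgroup.centralizer (E : Set G) := by
    intro E hE hEk
    refine SignalizerComplete.inf_centralizer_le hA hAk
      (fun D => signalizerDelta p D ⊓ Subgroup.centralizer {a} ⊓ Subgroup.centralizer (D : Set G))
      (θ a) (fun D hD hDk => inf_le_left.trans (hmemθ a D hD hDk)) (fun D _ _ => inf_le_right)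
      ?_ ?_ ?_ hsolθ hpθ E hE hEk
    · exact fun D hD _ => le_normalizer_inf (le_normalizer_inf
        ((hAC D hD).trans (centralizer_le_normalizer_signalizerDelta p D))
        ((hcenA a ha).trans Subgroup.le_normalizer)) ((hAC D hD).trans Subgroup.le_normalizer)
    · intro D hD hDk F hF hFk z hz
      refine Subgroup.mem_inf.2 ⟨Subgroup.mem_inf.2 ⟨mem_signalizerDelta.2 fun f hf hf1 => ?_,
        hz.1.1.2⟩, hz.2⟩
      exact hkb D hD hDk f (hF hf) hf1
        ⟨hz.1.1.1, Subgroup.mem_centralizer_singleton_iff.2 (hz.2 f hf).symm⟩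
    · refine iSup_le fun D => ?_
      have hX : A ≤ Subgroup.normalizer
          ((signalizerDelta p (D : Subgroup G) ⊓ Subgroup.centralizer {a} : Subgroup G) : Set G) :=
        le_normalizer_inf ((hAC D.1 D.2.1).trans (centralizer_le_normalizer_signalizerDelta p _))
          ((hcenA a ha).trans Subgroup.le_normalizer)
      refine le_of_hyperplane_centralizers_le hA
        (le_trans (Nat.pow_le_pow_right hp.pos (by omega)) hAk) hX
        (fun h => not_dvd_card_centralizerPPrimeCore p a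
          (h.trans (Subgroup.card_dvd_of_le (hkb D.1 D.2.1 D.2.2.ge a ha ha1))))
        fun F hF hFi z hz => ?_
      have hFk := SignalizerComplete.pow_le_card_of_relIndex hF k
        (le_trans (Nat.pow_le_pow_right hp.pos (by omega)) hAk) hFi
      refine Subgroup.mem_iSup_of_mem
        (⟨F, hF, hFk⟩ : {D : Subgroup G // D ≤ A ∧ p ^ k ≤ Nat.card D}) ?_
      refine Subgroup.mem_inf.2 ⟨Subgroup.mem_inf.2 ⟨mem_signalizerDelta.2 fun f hf hf1 => ?_,
        hz.1.2⟩, hz.2⟩
      exact hkb D.1 D.2.1 D.2.2.ge f (hF hf) hf1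
        ⟨hz.1.1, Subgroup.mem_centralizer_singleton_iff.2 (hz.2 f hf).symm⟩
  refine le_of_hyperplane_centralizers_le hA
    (le_trans (Nat.pow_le_pow_right hp.pos (by omega)) hAk)
    (le_normalizer_inf (hθinv a ha) ((hcenA b hb).trans Subgroup.le_normalizer))
    (fun h => hpθ (h.trans (Subgroup.card_dvd_of_le inf_le_left))) fun F hF hFi z hz => ?_
  have hFk := SignalizerComplete.pow_le_card_of_relIndex hF k
    (le_trans (Nat.pow_le_pow_right hp.pos (by omega)) hAk) hFi
  exact hmemθ b F hF hFk ⟨(hcompl F hF hFk ⟨hz.1.1, hz.2⟩).1.1, hz.1.2⟩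

end Cfsg.Agent.S1299
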