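import Cfsg.Statements.S1300
import Cfsg.Agent.Lib.SignalizerStrongEmb

set_option autoImplicit false
open Cfsg

namespace Cfsg.Agent.S1300

/-- For a finite group G, balance in the sense of commuting involutions is the same as 1-balance for the prime 2. -/
theorem result {G : Type*} [Group G] [Finite G] : Cfsg.IsBalanced G ↔ Cfsg.IsKBalanced 2 1 G := by
  have hA : ∀ (A : Subgroup G), Nat.card A = 2 → ∃ a, orderOf a = 2 ∧ a ∈ A ∧
      signalizerDelta 2 A = centralizerPPrimeCore 2 a ∧ ∀ x ∈ A, x = 1 ∨ x = a := by
    intro A hA2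
    obtain ⟨v, hv, hvuniq⟩ := (Nat.card_eq_two_iff' (1 : ↥A)).1 hA2
    have ha1 : (v : G) ≠ 1 := fun h => hv (Subtype.ext h)
    have hmem : ∀ x ∈ A, x = 1 ∨ x = (v : G) := by
      intro x hx
      by_cases h : x = 1
      · exact Or.inl h
      · exact Or.inr (congrArg Subtype.val (hvuniq ⟨x, hx⟩ fun h' => h (congrArg Subtype.val h')))
    have hord : orderOf (v : G) = 2 := by
      refine SignalizerStrongEmb.orderOf_eq_two_of_mul_self ?_ ha1
      rcases hmem _ (mul_mem v.2 v.2) with h | h
      · exact h
      · exact absurd (mul_eq_left.1 h) ha1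
    refine ⟨v, hord, v.2, ?_, hmem⟩
    apply le_antisymm
    · exact iInf_le_of_le ⟨(v : G), v.2, ha1⟩ le_rfl
    · refine le_iInf ?_
      rintro ⟨x, hx, hx1⟩
      rcases hmem x hx with h | h
      · exact absurd h hx1
      · subst h
        exact le_rfl
  constructor
  · intro h A _ hcard b hb hcomm
    obtain ⟨a, ha2, haA, hdel, -⟩ := hA A (by simpa using hcard)
    rw [hdel, h a b ha2 hb (hcomm a haA)]
    exact inf_le_left
  · intro h
    have key : ∀ x y : G, orderOf x = 2 → orderOf y = 2 → x * y = y * x →
        centralizerPPrimeCore 2 x ⊓ Subgroup.centralizer {y} ≤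
          centralizerPPrimeCore 2 y ⊓ Subgroup.centralizer {x} := by
      intro x y hx hy hxy
      refine le_inf ?_ (inf_le_left.trans (Subgroup.map_subtype_le _))
      have hcard : Nat.card (Subgroup.zpowers x) = 2 := by rw [Nat.card_zpowers, hx]
      obtain ⟨a, ha2, haA, hdel, hmem⟩ := hA _ hcard
      have hax : a = x := by
        rcases hmem x (Subgroup.mem_zpowers x) with h | h
        · exact absurd h (SignalizerStrongEmb.involution_ne_one hx)
        · exact h.symm
      subst hax
      rw [← hdel]
      refine h _ ⟨inferInstance, fun z hz => ?_⟩ (by simpa using hcard) y hy ?_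
      · rcases hmem z hz with h1 | h1 <;> rw [h1]
        · simp
        · rw [pow_two, SignalizerStrongEmb.involution_mul_self hx]
      · intro z hz
        rcases hmem z hz with h1 | h1 <;> rw [h1]
        · simp
        · exact hxy
    exact fun x y hx hy hxy => le_antisymm (key x y hx hy hxy) (key y x hy hx hxy.symm)

end Cfsg.Agent.S1300
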