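import Mathlib
import Cfsg.Statements.S1302
import Cfsg.Agent.Lib.PConstrained
import Cfsg.Agent.Lib.ThompsonAQ

set_option autoImplicit false
open Cfsg
open scoped Pointwise commutatorElement

namespace Cfsg.Agent.S1302

open Subgroup

/-- Let X be a finite p-constrained group, p an odd prime, and A an abelian p-subgroup of X containing every element of order p of C_X(A). Then every subgroup of X of order prime to p that is normalized by A lies in O_{p'}(X). -/
theorem result {X : Type*} [Group X] [Finite X] (p : ℕ) [Fact p.Prime] (hp : p ≠ 2) (hX : Cfsg.IsPConstrained p X) (A : Subgroup X) (hA : IsMulCommutative ↥A) (hAp : IsPGroup p ↥A) (hΩ : ∀ x ∈ Subgroup.centralizer (A : Set X), orderOf x = p → x ∈ A) (Q : Subgroup X) (hQ : ¬ p ∣ Nat.card ↥Q) (hAQ : A ≤ Subgroup.normalizer (Q : Set X)) : Q ≤ Cfsg.pPrimeCore p X := by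
  set N := Cfsg.pPrimeCore p X
  set q := QuotientGroup.mk' N
  set P := Cfsg.pCore p (X ⧸ N)
  haveI hPn : P.Normal := HallCore.pCore_normal p _
  have hNn : ∀ g : X, g ∈ normalizer (N : Set X) := fun g => by
    rw [normalizer_eq_top_iff.2 inferInstance]; exact mem_top g
  have hP : IsPGroup p P := HallCore.isPGroup_pCore p _
  have hC : centralizer (P : Set (X ⧸ N)) ≤ P := PConstrained.centralizer_pCore_quotient_le hX
  set Ab := A.map q
  set Qb := Q.map q
  have hQc : (Nat.card Q).Coprime p :=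
    ((Fact.out : p.Prime).coprime_iff_not_dvd.mpr hQ).symm
  have hQb : (Nat.card Qb).Coprime p := hQc.coprime_dvd_left (card_map_dvd Q q)
  have hnormP : ∀ R : Subgroup (X ⧸ N), R ≤ normalizer (P : Set (X ⧸ N)) := fun R => by
    rw [normalizer_eq_top_iff.2 hPn]; exact le_top
  have hAQb : Ab ≤ normalizer (Qb : Set (X ⧸ N)) :=
    (map_mono hAQ).trans (le_normalizer_map _)
  have hPQ : P ⊓ Qb = ⊥ := inf_eq_bot_of_coprime (PConstrained.coprime_card_of_isPGroup hP hQb)
  -- elements of order p centralising the image of A lie in it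
  have hΩb : ∀ y ∈ P, y ∈ centralizer (Ab : Set (X ⧸ N)) → y ^ p = 1 → y ∈ Ab := by
    intro y _ hy hyp
    by_cases hy1 : y = 1
    · exact hy1 ▸ one_mem _
    obtain ⟨x, rfl⟩ := QuotientGroup.mk'_surjective N y
    obtain ⟨c, hc, hxc⟩ := CoprimeAction.exists_fixed_mem_coset (A := A) (D := N) (fun a _ => hNn a)
      (PConstrained.coprime_card_of_isPGroup hAp (HallCore.coprime_card_pPrimeCore p X))
      (Or.inl (CoprimeAction.isSolvable_of_isPGroup hAp)) x (fun a ha => by
        rw [← QuotientGroup.eq_one_iff]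
        have h1 := mem_centralizer_iff.mp hy (q a) (mem_map_of_mem q ha)
        show q (x⁻¹ * a * x * a⁻¹) = 1
        calc q (x⁻¹ * a * x * a⁻¹) = (q x)⁻¹ * (q a * q x) * (q a)⁻¹ := by simp [mul_assoc]
          _ = 1 := by
            have h1' : q a * q x = q x * q a := h1
            rw [h1']; group)
    have hqc : q c = q x := by
      have : q (x⁻¹ * c) = 1 := (QuotientGroup.eq_one_iff _).mpr hxc
      rw [map_mul, map_inv, inv_mul_eq_one] at this
      exact this.symm
    rw [← hqc] at hy1 hyp ⊢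
    -- the `p`-part of `c`
    obtain ⟨k, m, hm, he⟩ := Nat.exists_eq_pow_mul_and_not_dvd (orderOf_pos c).ne' p
      (Fact.out : p.Prime).ne_one
    have hm' : m.Coprime p := ((Fact.out : p.Prime).coprime_iff_not_dvd.mpr hm).symm
    have hcm : (c ^ m) ^ p = 1 := by
      have h1 : (c ^ m) ^ p ^ k = 1 := by
        rw [← pow_mul, mul_comm, ← he, pow_orderOf_eq_one]
      have h2 : (c ^ m) ^ p ∈ N := by
        rw [← QuotientGroup.eq_one_iff]
        show q ((c ^ m) ^ p) = 1
        rw [map_pow, map_pow, ← pow_mul, mul_comm, pow_mul, hyp, one_pow]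
      have h3 : orderOf ((c ^ m) ^ p) ∣ p ^ k := orderOf_dvd_of_pow_eq_one (by
        rw [← pow_mul, mul_comm, pow_mul, h1, one_pow])
      rw [← orderOf_eq_one_iff]
      exact Nat.eq_one_of_dvd_coprimes ((HallCore.coprime_card_pPrimeCore p X).symm.pow_left k) h3
        (orderOf_dvd_natCard N h2)
    have hcm1 : c ^ m ≠ 1 := by
      intro h
      apply hy1
      rw [← orderOf_eq_one_iff]
      refine Nat.eq_one_of_dvd_coprimes hm' (orderOf_dvd_of_pow_eq_one ?_) (orderOf_dvd_of_pow_eq_one hyp)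
      rw [← map_pow, h, map_one]
    have hcA : c ^ m ∈ A := hΩ _ (pow_mem hc m) (orderOf_eq_prime hcm hcm1)
    have h4 : (q c) ^ m ∈ Ab := by rw [← map_pow]; exact mem_map_of_mem q hcA
    obtain ⟨j, hj⟩ := exists_pow_eq_self_of_coprime (n := m) (x := q c)
      (hm'.coprime_dvd_right (orderOf_dvd_of_pow_eq_one hyp))
    rw [← hj]; exact pow_mem h4 j
  have hQC : Qb ≤ centralizer (P : Set (X ⧸ N)) := by
    refine ThompsonAQ.main hp (IsPGroup.map hAp q) hQb hAQb P hP (hnormP _) (hnormP _) ?_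
    intro y hyP hyA hyp w hw
    have hyAb := hΩb y hyP hyA hyp
    refine commutatorElement_eq_one_iff_commute.mp (mem_bot.mp (hPQ ▸ ?_))
    refine ⟨?_, ?_⟩
    · have : w * y * w⁻¹ ∈ P := hPn.conj_mem y hyP w
      simpa [commutatorElement_def] using mul_mem this (inv_mem hyP)
    · have h1 : y * w⁻¹ * y⁻¹ ∈ Qb := (mem_normalizer_iff.mp (hAQb hyAb) _).mp (inv_mem hw)
      simpa [commutatorElement_def, mul_assoc] using mul_mem hw h1
  have hbot : Qb ≤ ⊥ := hPQ ▸ le_inf (hQC.trans hC) le_rfl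
  intro x hx
  exact (QuotientGroup.eq_one_iff x).mp (mem_bot.mp (hbot (mem_map_of_mem q hx)))

end Cfsg.Agent.S1302
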