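import Mathlib
import Cfsg.Statements.S1303
import Cfsg.Agent.Lib.HallCore

set_option autoImplicit false
open Cfsg
open scoped commutatorElement

namespace Cfsg.Agent.S1303

abbrev SL := Matrix.SpecialLinearGroup (Fin 2) (ZMod 3)

def quat : Subgroup SL where
  carrier := {g | g ^ 4 = 1}
  one_mem' := one_pow 4
  mul_mem' := by
    have : ∀ a b : SL, a ^ 4 = 1 → b ^ 4 = 1 → (a * b) ^ 4 = 1 := by decide +kernel
    exact fun {a b} ha hb => this a b ha hb
  inv_mem' := by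
    intro a ha
    simp only [Set.mem_setOf_eq, inv_pow, inv_eq_one] at *
    exact ha

theorem mem_quat {g : SL} : g ∈ quat ↔ g ^ 4 = 1 := Iff.rfl

theorem quat_normal : quat.Normal :=
  ⟨fun n hn g => by
    rw [mem_quat] at hn ⊢
    rw [conj_pow, hn, mul_one, mul_inv_cancel]⟩

theorem key_odd : ∀ n : SL, n ≠ 1 → n ^ 4 = 1 ∨ ∃ g : SL, ⁅g, n⁆ ^ 4 = 1 ∧ ⁅g, n⁆ ≠ 1 := by
  decide +kernel

theorem eq_one_of_odd {N : Subgroup SL} (h : (Nat.card N).Coprime 2) {c : SL} (hc : c ∈ N)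
    (h4 : c ^ 4 = 1) : c = 1 := by
  rw [← orderOf_eq_one_iff]
  have h1 : orderOf c ∣ 4 := orderOf_dvd_of_pow_eq_one h4
  have h2 : orderOf c ∣ Nat.card N := Subgroup.orderOf_dvd_natCard N hc
  have h3 : (Nat.card N).Coprime 4 := h.pow_right 2
  exact Nat.eq_one_of_dvd_coprimes h3 h2 h1

theorem core_bot : Cfsg.pPrimeCore 2 SL = ⊥ := by
  rw [eq_bot_iff]
  intro n hn
  rw [Subgroup.mem_bot]
  by_contra hne
  have hc := HallCore.coprime_card_pPrimeCore 2 SL
  rcases key_odd n hne with h | ⟨g, h4, hne'⟩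
  · exact hne (eq_one_of_odd hc hn h)
  · refine hne' (eq_one_of_odd hc ?_ h4)
    rw [commutatorElement_def]
    exact mul_mem ((HallCore.pPrimeCore_normal 2 SL).conj_mem n hn g) (inv_mem hn)

theorem quat_isPGroup : IsPGroup 2 quat := fun g => ⟨2, Subtype.ext (by simpa using mem_quat.mp g.2)⟩

theorem quat_le : quat ≤ Cfsg.pPrimePCore 2 SL := by
  haveI := quat_normal
  exact (HallCore.le_pCore quat_isPGroup).trans (HallCore.pCore_le_pPrimePCore 2 SL)

theorem centralizer_quat : ∀ g : SL, (∀ q : SL, q ^ 4 = 1 → q * g = g * q) → g ^ 4 = 1 := by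
  decide +kernel

theorem pPrimePCore_isPGroup : IsPGroup 2 (Cfsg.pPrimePCore 2 SL) := by
  refine HallCore.isPGroup_comap_mk' ?_ ?_
  · rw [core_bot]; exact IsPGroup.of_bot
  · exact HallCore.isPGroup_pCore 2 _

theorem constrained : Cfsg.IsPConstrained 2 SL := by
  intro P g hg
  haveI : Fact (Nat.Prime 2) := ⟨Nat.prime_two⟩
  have hP : ((P : Subgroup ↥(Cfsg.pPrimePCore 2 SL)).map (Cfsg.pPrimePCore 2 SL).subtype) =
      Cfsg.pPrimePCore 2 SL := by
    have : (P : Subgroup ↥(Cfsg.pPrimePCore 2 SL)) = ⊤ :=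
      (P.3 (Q := ⊤) (pPrimePCore_isPGroup.of_equiv Subgroup.topEquiv.symm) le_top).symm
    rw [this, ← MonoidHom.range_eq_map, Subgroup.range_subtype]
  rw [hP] at hg
  refine quat_le (mem_quat.mpr (centralizer_quat g fun q hq => ?_))
  exact Subgroup.mem_centralizer_iff.mp hg q (quat_le (mem_quat.mpr hq))

def u3 : SL := ⟨!![1, 1; 0, 1], by decide⟩

def c3 : Subgroup SL := Subgroup.zpowers u3

theorem card_c3 : Nat.card c3 = 3 := by
  haveI : Fact (Nat.Prime 3) := ⟨Nat.prime_three⟩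
  rw [c3, Nat.card_zpowers]
  exact orderOf_eq_prime (by decide +kernel) (by decide +kernel)

/-- SL(2,3) is 2-constrained with trivial core and has a subgroup of order 3 outside the core. -/
theorem result : Cfsg.IsPConstrained 2 (Matrix.SpecialLinearGroup (Fin 2) (ZMod 3)) ∧ Cfsg.pPrimeCore 2 (Matrix.SpecialLinearGroup (Fin 2) (ZMod 3)) = ⊥ ∧ (∀ t : Matrix.SpecialLinearGroup (Fin 2) (ZMod 3), orderOf t = 2 → t ∈ Subgroup.center (Matrix.SpecialLinearGroup (Fin 2) (ZMod 3))) ∧ ∃ Q : Subgroup (Matrix.SpecialLinearGroup (Fin 2) (ZMod 3)), Nat.card ↥Q = 3 ∧ ¬ (Q ≤ Cfsg.pPrimeCore 2 (Matrix.SpecialLinearGroup (Fin 2) (ZMod 3))) := by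
  refine ⟨constrained, core_bot, ?_, c3, card_c3, ?_⟩
  · intro t ht
    have h2 : t ^ 2 = 1 := by
      have := pow_orderOf_eq_one t
      rwa [ht] at this
    have key : ∀ t : SL, t ^ 2 = 1 → ∀ g : SL, g * t = t * g := by decide +kernel
    exact Subgroup.mem_center_iff.mpr (key t h2)
  · rw [core_bot]
    intro h
    have := Subgroup.card_le_of_le h
    rw [card_c3, Subgroup.card_bot] at this
    omega

end Cfsg.Agent.S1303
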