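import Mathlib
import Cfsg.Statements.S1304

set_option autoImplicit false
open Cfsg

namespace Cfsg.Agent.S1304

/-- A central automorphism of a perfect group is trivial. -/
theorem result {X : Type*} [Group X] (hperf : commutator X = ⊤) (α : X ≃* X) (h : ∀ x : X, α x * x⁻¹ ∈ Subgroup.center X) : ∀ x : X, α x = x := by
  let f : X →* ↥(Subgroup.center X) :=
    { toFun := fun x => ⟨α x * x⁻¹, h x⟩
      map_one' := by ext; simp
      map_mul' := fun x y => by
        apply Subtype.ext
        have hc := (Subgroup.mem_center_iff.mp (h y)) x⁻¹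
        simp only [map_mul, mul_inv_rev, Subgroup.coe_mul]
        rw [mul_assoc (α x) (α y), ← mul_assoc (α y) y⁻¹ x⁻¹, ← hc]
        group }
  intro x
  have hx : x ∈ f.ker := by
    have : commutator X ≤ f.ker := by
      rw [commutator_def, Subgroup.commutator_le]
      intro a _ b _
      rw [MonoidHom.mem_ker, map_commutatorElement, commutatorElement_eq_one_iff_mul_comm]
      exact mul_comm' _ _
    rw [hperf] at this
    exact this (Subgroup.mem_top x)
  have : α x * x⁻¹ = 1 := congrArg Subtype.val (MonoidHom.mem_ker.mp hx)
  exact mul_inv_eq_one.mp this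

end Cfsg.Agent.S1304
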