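import Mathlib
import Cfsg.Statements.S1306
import Cfsg.Agent.Lib.ComponentsBasic

set_option autoImplicit false
open Cfsg
open scoped Pointwise commutatorElement

namespace Cfsg.Agent.S1306

open Subgroup Cfsg.Agent.ComponentsBasic

/-- Let G be finite, x an involution and L ≤ C_G(x) a component of C_G(x). Suppose L is a component of C_G(y) for every involution y ∈ C_G(L), and ⁅L, g L g⁻¹⁆ ≠ 1 whenever g L g⁻¹ ≠ L. Then L is a standard subgroup of G. -/
theorem result {G : Type*} [Group G] [Finite G] (x : G) (hx : orderOf x = 2) (L : Subgroup G) (hLx : L ≤ Subgroup.centralizer ({x} : Set G)) (hL : Cfsg.IsComponent (L.subgroupOf (Subgroup.centralizer ({x} : Set G)))) (hne : ∀ y : G, orderOf y = 2 → y ∈ Subgroup.centralizer (L : Set G) → L ≤ Subgroup.centralizer ({y} : Set G) ∧ Cfsg.IsComponent (L.subgroupOf (Subgroup.centralizer ({y} : Set G)))) (hnc : ∀ g : G, L.map (MulAut.conj g).toMonoidHom ≠ L → ⁅L, L.map (MulAut.conj g).toMonoidHom⁆ ≠ ⊥) : Cfsg.IsStandardSubgroup L := by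
  have hqL : Cfsg.IsQuasisimple ↥L :=
    isQuasisimple_of_mulEquiv (subgroupOfEquivOfLe hLx) hL.2
  have hxC : x ∈ centralizer (L : Set G) :=
    mem_centralizer_iff.mpr fun l hl => (mem_centralizer_singleton_iff.mp (hLx hl))
  set C := centralizer (L : Set G)
  -- an involution of C meeting C^g
  have key : ∀ g y : G, orderOf y = 2 → y ∈ C → g⁻¹ * y * g ∈ C →
      g ∈ normalizer (L : Set G) := by
    intro g y hy hyC hyC'
    have hord : orderOf (g⁻¹ * y * g) = 2 := by
      rw [← hy]
      have h : SemiconjBy g⁻¹ y (g⁻¹ * y * g) := by simp [SemiconjBy, mul_assoc]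
      exact (h.orderOf_eq (x := y) (y := g⁻¹ * y * g) (a := g⁻¹)).symm
    obtain ⟨h1, h2⟩ := hne y hy hyC
    obtain ⟨h3, h4⟩ := hne _ hord hyC'
    set M := L.map (MulAut.conj g).toMonoidHom with hM
    set Dy := centralizer ({y} : Set G)
    set Dz := centralizer ({g⁻¹ * y * g} : Set G)
    have hDmap : Dz.map (MulAut.conj g).toMonoidHom = Dy := by
      ext w
      rw [show (MulAut.conj g).toMonoidHom = (MulAut.conj g : MulAut G).toMonoidHom from rfl,
        mem_map_equiv, mem_centralizer_singleton_iff, mem_centralizer_singleton_iff,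
        MulAut.conj_symm_apply]
      constructor <;> intro h
      · calc w * y = g * ((g⁻¹ * w * g) * (g⁻¹ * y * g)) * g⁻¹ := by group
          _ = g * ((g⁻¹ * y * g) * (g⁻¹ * w * g)) * g⁻¹ := by rw [h]
          _ = y * w := by group
      · calc g⁻¹ * w * g * (g⁻¹ * y * g) = g⁻¹ * (w * y) * g := by group
          _ = g⁻¹ * (y * w) * g := by rw [h]
          _ = _ := by group
    let e : ↥Dz ≃* ↥Dy :=
      ((MulAut.conj g : MulAut G).subgroupMap Dz).trans (MulEquiv.subgroupCongr hDmap)
    have hMle : M ≤ Dy := hDmap ▸ map_mono h3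
    have hMcomp : Cfsg.IsComponent (M.subgroupOf Dy) := by
      have h5 := isComponent_map_mulEquiv e h4
      have : (L.subgroupOf Dz).map e.toMonoidHom = M.subgroupOf Dy := by
        apply map_injective Dy.subtype_injective
        rw [map_subgroupOf_eq_of_le hMle, Subgroup.map_map,
          show Dy.subtype.comp e.toMonoidHom = (MulAut.conj g).toMonoidHom.comp Dz.subtype from rfl,
          ← Subgroup.map_map, map_subgroupOf_eq_of_le h3]
      rwa [this] at h5
    by_contra hg
    have hML : M ≠ L := by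
      intro h
      exact hg (mem_normalizer_iff_map_conj_eq.mpr h)
    have hne' : L.subgroupOf Dy ≠ M.subgroupOf Dy := by
      intro h
      have := congrArg (Subgroup.map Dy.subtype) h
      rw [map_subgroupOf_eq_of_le h1, map_subgroupOf_eq_of_le hMle] at this
      exact hML this.symm
    have hc := congrArg (Subgroup.map Dy.subtype) (components_commute h2 hMcomp hne')
    rw [map_commutator, map_subgroupOf_eq_of_le h1, map_subgroupOf_eq_of_le hMle, Subgroup.map_bot] at hc
    exact hnc g hML hc
  have hNN : normalizer (L : Set G) ≤ normalizer (C : Set G) := by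
    have key2 : ∀ g ∈ normalizer (L : Set G), ∀ c ∈ C, g * c * g⁻¹ ∈ C := by
      intro g hg c hc
      refine mem_centralizer_iff.mpr fun l hl => ?_
      have hl' : g⁻¹ * l * g ∈ L := by
        have := (mem_normalizer_iff.mp (inv_mem hg) l).mp hl
        simpa using this
      have := mem_centralizer_iff.mp hc _ hl'
      calc l * (g * c * g⁻¹) = g * ((g⁻¹ * l * g) * c) * g⁻¹ := by group
        _ = g * (c * (g⁻¹ * l * g)) * g⁻¹ := by rw [this]
        _ = g * c * g⁻¹ * l := by group
    intro g hg
    rw [mem_normalizer_iff]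
    refine fun c => ⟨key2 g hg c, fun hc => ?_⟩
    have h2 := key2 g⁻¹ (inv_mem hg) _ hc
    simpa [mul_assoc] using h2
  refine ⟨hqL, ⟨?_, ?_⟩, hnc, le_antisymm hNN ?_⟩
  · rw [even_iff_two_dvd, ← hx]
    exact orderOf_dvd_natCard C hxC
  · intro g hg
    rw [← Nat.not_even_iff_odd, even_iff_two_dvd]
    intro h2
    haveI : Fact (Nat.Prime 2) := ⟨Nat.prime_two⟩
    obtain ⟨⟨y, hy⟩, hyo⟩ := exists_prime_orderOf_dvd_card' 2 h2
    rw [← orderOf_coe] at hyo
    refine hg (hNN (key g y hyo hy.1 ?_))
    obtain ⟨c, hc, hcy⟩ := hy.2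
    have : g⁻¹ * y * g = c := by
      change g * c * g⁻¹ = y at hcy
      rw [← hcy]; group
    rw [this]; exact hc
  · intro g hg
    refine key g x hx hxC ?_
    have := (mem_normalizer_iff.mp (inv_mem hg) x).mp hxC
    simpa using this

end Cfsg.Agent.S1306
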