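import Cfsg.Statements.S1307
import Cfsg.Agent.Lib.ZStarTheorem
import Cfsg.Agent.Lib.ComponentsBasic
import Cfsg.Agent.Lib.PGroupsCyclic

set_option autoImplicit false
open Cfsg

namespace Cfsg.Agent.S1307

/-- Let G be finite, x an involution and L ≤ C_G(x) a component of C_G(x) of even order and 2-rank 1, such that L is a component of C_G(y) for every involution y ∈ C_G(L). Then some involution of L is a classical involution of G. -/
theorem result {G : Type*} [Group G] [Finite G] (x : G) (hx : orderOf x = 2) (L : Subgroup G) (hLx : L ≤ Subgroup.centralizer ({x} : Set G)) (hL : Cfsg.IsComponent (L.subgroupOf (Subgroup.centralizer ({x} : Set G)))) (heven : Even (Nat.card ↥L)) (hrk : Cfsg.PRankLE 2 1 ↥L) (hne : ∀ y : G, orderOf y = 2 → y ∈ Subgroup.centralizer (L : Set G) → L ≤ Subgroup.centralizer ({y} : Set G) ∧ Cfsg.IsComponent (L.subgroupOf (Subgroup.centralizer ({y} : Set G)))) : ∃ t ∈ L, Cfsg.IsClassicalInvolution t := by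
  classical
  have : Fact (Nat.Prime 2) := ⟨Nat.prime_two⟩
  obtain ⟨hsub, hqs'⟩ := hL
  have hqs : Cfsg.IsQuasisimple ↥L :=
    Cfsg.Agent.ComponentsBasic.isQuasisimple_of_mulEquiv (Subgroup.subgroupOfEquivOfLe hLx) hqs'
  haveI := hqs.1
  obtain ⟨t, ht⟩ := exists_prime_orderOf_dvd_card' (G := ↥L) 2 heven.two_dvd
  have huniq : ∀ s : ↥L, orderOf s = 2 → Commute s t → s = t := by
    intro s hs hc
    by_contra hne
    have hs2 := Cfsg.Agent.IsolatedInv.sq_of_orderOf_two hs
    have ht2 := Cfsg.Agent.IsolatedInv.sq_of_orderOf_two ht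
    let A : Subgroup ↥L := Subgroup.closure {s, t}
    have hA : IsMulCommutative A := Subgroup.isMulCommutative_closure (by
      rintro a (rfl | rfl) b (rfl | rfl)
      exacts [rfl, hc.eq, hc.eq.symm, rfl])
    have hexp : ∀ a ∈ A, a ^ 2 = 1 := by
      intro a ha
      induction ha using Subgroup.closure_induction with
      | mem x hx => rcases hx with rfl | rfl <;> rw [pow_two] <;> assumption
      | one => simp
      | mul x y hx hy hx2 hy2 =>
        have hxy : Commute x y := congrArg Subtype.val (hA.1.comm ⟨x, hx⟩ ⟨y, hy⟩)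
        rw [hxy.mul_pow, hx2, hy2, one_mul]
      | inv x _ hx2 => rw [inv_pow, hx2, inv_one]
    have h4 : 3 ≤ Nat.card A := by
      have := Fintype.ofFinite A
      rw [Nat.card_eq_fintype_card, ← Finset.card_univ]
      refine le_trans (le_of_eq ?_) (Finset.card_le_card (Finset.subset_univ
        ({1, ⟨s, Subgroup.subset_closure (Or.inl rfl)⟩,
          ⟨t, Subgroup.subset_closure (Or.inr rfl)⟩} : Finset A)))
      rw [Finset.card_insert_of_notMem, Finset.card_pair]
      · exact fun h => hne (congrArg Subtype.val h)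
      · simp only [Finset.mem_insert, Finset.mem_singleton, not_or]
        exact ⟨fun h => Cfsg.Agent.IsolatedInv.ne_one_of_orderOf_two hs (congrArg Subtype.val h).symm,
          fun h => Cfsg.Agent.IsolatedInv.ne_one_of_orderOf_two ht (congrArg Subtype.val h).symm⟩
    have := hrk A hA hexp
    omega
  have hz : Cfsg.IsIsolatedInvolution t :=
    Cfsg.Agent.ZStarBasic.Solitary.isolated ⟨ht, huniq⟩
  have hOn : (Cfsg.pPrimeCore 2 ↥L).Normal := Cfsg.Agent.HallCore.pPrimeCore_normal 2 ↥L
  have hOZ : Cfsg.pPrimeCore 2 ↥L ≤ Subgroup.center ↥L :=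
    (Cfsg.Agent.ComponentsBasic.normal_le_center_or_eq_top hqs _).resolve_right fun h =>
      Cfsg.Agent.ZStarTheorem.notMem_pPrimeCore ht (h ▸ Subgroup.mem_top t)
  have htc : t ∈ Subgroup.center ↥L := by
    rw [Subgroup.mem_center_iff]
    let φ : ↥L →* Subgroup.center ↥L :=
      { toFun := fun g => ⟨t * g * t⁻¹ * g⁻¹, hOZ (Cfsg.Agent.ZStarTheorem.commutator_mem hz g)⟩
        map_one' := Subtype.ext (by simp)
        map_mul' := fun g h => Subtype.ext (by
          have hc := Subgroup.mem_center_iff.1 (hOZ (Cfsg.Agent.ZStarTheorem.commutator_mem hz h))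
          show t * (g * h) * t⁻¹ * (g * h)⁻¹ = (t * g * t⁻¹ * g⁻¹) * (t * h * t⁻¹ * h⁻¹)
          calc t * (g * h) * t⁻¹ * (g * h)⁻¹
              = (t * g * t⁻¹) * (t * h * t⁻¹ * h⁻¹) * g⁻¹ := by group
            _ = (t * h * t⁻¹ * h⁻¹) * (t * g * t⁻¹) * g⁻¹ := by rw [hc]
            _ = (t * h * t⁻¹ * h⁻¹) * (t * g * t⁻¹ * g⁻¹) := by group
            _ = _ := (hc _).symm) }
    intro g
    have h1 : commutator ↥L ≤ φ.ker := by
      rw [commutator_def, Subgroup.commutator_le]
      intro a _ b _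
      rw [MonoidHom.mem_ker, map_commutatorElement, commutatorElement_eq_one_iff_commute]
      exact Subtype.ext (Subgroup.mem_center_iff.1 (φ b).2 (φ a))
    rw [Group.IsPerfect.commutator_eq_top] at h1
    have h2 : t * g * t⁻¹ * g⁻¹ = 1 := congrArg Subtype.val (MonoidHom.mem_ker.1 (h1 (Subgroup.mem_top g)))
    rw [mul_inv_eq_one, mul_inv_eq_iff_eq_mul] at h2
    exact h2.symm
  have htC : (t : G) ∈ Subgroup.centralizer (L : Set G) := Subgroup.mem_centralizer_iff.2
    fun g hg => congrArg Subtype.val (Subgroup.mem_center_iff.1 htc ⟨g, hg⟩)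
  have hto : orderOf (t : G) = 2 := (Subgroup.orderOf_coe t).trans ht
  obtain ⟨hLt, hcomp⟩ := hne (t : G) hto htC
  refine ⟨t, t.2, hto, L, hLt, t.2, hcomp.1, ?_⟩
  obtain ⟨S⟩ : Nonempty (Sylow 2 ↥L) := inferInstance
  refine ⟨S, ?_⟩
  have hall : ∀ s : ↥L, orderOf s = 2 → s = t := fun s hs => huniq s hs (Subgroup.mem_center_iff.1 htc s)
  have hncyc : ¬ IsCyclic ↥(S : Subgroup ↥L) := by
    intro hcyc
    have hmin : (Nat.card ↥L).minFac = 2 := (Nat.minFac_eq_two_iff _).2 heven.two_dvd
    have hcompl := IsCyclic.isComplement' hmin hcyc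
    set K := (MonoidHom.transferSylow S (IsCyclic.normalizer_le_centralizer hmin hcyc)).ker
    have hK : K = ⊤ := top_le_iff.1 (by
      rw [← Group.IsPerfect.commutator_eq_top (G := ↥L), commutator_def, Subgroup.commutator_le]
      intro a _ b _
      rw [MonoidHom.mem_ker, map_commutatorElement, commutatorElement_eq_one_iff_commute]
      have := hcyc.isMulCommutative
      exact this.1.comm _ _)
    rw [hK, Subgroup.isComplement'_top_left] at hcompl
    have hdvd : 2 ∣ Nat.card ↥(S : Subgroup ↥L) := S.dvd_card_of_dvd_card heven.two_dvd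
    rw [hcompl, Subgroup.card_bot] at hdvd
    omega
  have hcard2 : ∀ H K : Subgroup ↥(S : Subgroup ↥L), Nat.card H = 2 → Nat.card K = 2 → H = K := by
    have key : ∀ H : Subgroup ↥(S : Subgroup ↥L), Nat.card H = 2 →
        ∀ h : ↥(S : Subgroup ↥L), orderOf h = 2 → h ∈ H := by
      intro H hH h hh
      obtain ⟨l, hl⟩ := exists_prime_orderOf_dvd_card' (G := ↥H) 2 (dvd_of_eq hH.symm)
      have h1 := hall _ ((Subgroup.orderOf_coe h).trans hh)
      have h2 := hall _ (((Subgroup.orderOf_coe (l : ↥(S : Subgroup ↥L))).trans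
        (Subgroup.orderOf_coe l)).trans hl)
      have : h = (l : ↥(S : Subgroup ↥L)) := Subtype.ext (h1.trans h2.symm)
      rw [this]; exact l.2
    intro H K hH hK
    refine Subgroup.eq_of_le_of_card_ge ?_ (hK.trans hH.symm).le
    intro h hh
    rcases eq_or_ne h 1 with rfl | h1
    · exact one_mem _
    refine key K hK h (orderOf_eq_prime ?_ h1)
    have := congrArg Subtype.val (pow_card_eq_one' (x := (⟨h, hh⟩ : H)))
    rw [hH] at this
    exact this
  rcases Cfsg.Agent.PGroupsCyclic.isCyclic_or_quaternion S.isPGroup' hcard2 with hc | ⟨-, n, ⟨e⟩⟩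
  · exact absurd hc hncyc
  · rcases n with - | k
    · refine absurd ?_ hncyc
      have : IsCyclic (QuaternionGroup (2 ^ 0)) := by
        rw [pow_zero]; exact QuaternionGroup.quaternionGroup_one_isCyclic
      exact isCyclic_of_surjective e.symm.toMonoidHom e.symm.surjective
    · exact ⟨k, ⟨e⟩⟩

end Cfsg.Agent.S1307
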