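import Mathlib
import Cfsg.Statements.S1313
import Cfsg.Agent.Lib.ComponentsBasic
import Cfsg.Agent.Lib.ComponentsCores
import Cfsg.Agent.Lib.ComponentsFitting

set_option autoImplicit false
open Cfsg
open scoped Pointwise commutatorElement

namespace Cfsg.Agent.S1313

open Subgroup Cfsg.Agent.ComponentsBasic Cfsg.Agent.ComponentsCores Cfsg.Agent.ComponentsFitting

/-- For a finite group H, |H| ≤ |F*(H)|!. -/
theorem result {H : Type*} [Group H] [Finite H] : Nat.card H ≤ Nat.factorial (Nat.card ↥(Cfsg.generalizedFittingSubgroup H)) := by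
  classical
  set F := Cfsg.generalizedFittingSubgroup H
  have hker : (MulAut.conjNormal (G := H) (H := F)).ker ≤ F := by
    intro g hg
    refine centralizer_gen_le (mem_centralizer_iff.mpr fun y hy => ?_)
    have h := congrArg (fun (e : MulAut ↥F) => (e ⟨y, hy⟩ : H)) (MonoidHom.mem_ker.mp hg)
    simp at h
    exact (mul_inv_eq_iff_eq_mul.mp h).symm
  let φ := MulAut.conjNormal (G := H) (H := F)
  have h1 : Nat.card H = Nat.card φ.range * Nat.card φ.ker := by
    rw [← Subgroup.index_ker φ, φ.ker.index_mul_card]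
  let g : MulAut ↥F → Equiv.Perm {x : ↥F // x ≠ 1} := fun e =>
    e.toEquiv.subtypeEquiv fun x => by simp
  have hg : Function.Injective g := by
    intro e e' h
    ext x
    by_cases hx : x = 1
    · simp [hx]
    · have := congrArg (fun (q : Equiv.Perm {x : ↥F // x ≠ 1}) => ((q ⟨x, hx⟩ : ↥F) : H)) h
      simpa [g] using this
  haveI : Fintype ↥F := Fintype.ofFinite _
  have h2 : Nat.card (MulAut ↥F) ≤ Nat.factorial (Nat.card ↥F - 1) := by
    have := Nat.card_le_card_of_injective g hg
    have hc : Nat.card {x : ↥F // x ≠ 1} = Nat.card ↥F - 1 := by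
      simp only [Nat.card_eq_fintype_card]
      exact Set.card_ne_eq (1 : ↥F)
    rwa [Nat.card_perm, hc] at this
  have h3 : Nat.card φ.range ≤ Nat.card (MulAut ↥F) := Subgroup.card_le_card_group _
  have h4 : Nat.card φ.ker ≤ Nat.card ↥F := card_le_of_le hker
  have h5 : Nat.card ↥F * Nat.factorial (Nat.card ↥F - 1) = Nat.factorial (Nat.card ↥F) :=
    Nat.mul_factorial_pred Nat.card_pos.ne'
  rw [h1, ← h5, mul_comm (Nat.card ↥F)]
  exact Nat.mul_le_mul (h3.trans h2) h4

end Cfsg.Agent.S1313
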