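import Mathlib
import Cfsg.Statements.S1314

set_option autoImplicit false
open Cfsg
open scoped Pointwise commutatorElement

namespace Cfsg.Agent.S1314

/-- The map l ↦ l·l^x on a perfect subgroup commuting with its conjugate. -/
theorem result {G : Type*} [Group G] [Finite G] (x : G) (hx : orderOf x = 2) (L : Subgroup G) (hperf : ⁅L, L⁆ = L) (hcomm : ⁅L, L.map (MulAut.conj x).toMonoidHom⁆ = ⊥) : ∃ π : ↥L →* G, (∀ l : ↥L, π l = (l : G) * (x * (l : G) * x⁻¹)) ∧ π.ker ≤ Subgroup.center ↥L ∧ π.range ≤ Subgroup.centralizer ({x} : Set G) ∧ ⁅(L ⊔ L.map (MulAut.conj x).toMonoidHom) ⊓ Subgroup.centralizer ({x} : Set G), (L ⊔ L.map (MulAut.conj x).toMonoidHom) ⊓ Subgroup.centralizer ({x} : Set G)⁆ = π.range := by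
  set M := L.map (MulAut.conj x).toMonoidHom with hM
  have hLM : ∀ a ∈ L, ∀ b ∈ M, a * b = b * a := by
    intro a ha b hb
    have h := Subgroup.commutator_eq_bot_iff_le_centralizer.mp hcomm ha
    exact (Subgroup.mem_centralizer_iff.mp h b hb).symm
  have hxx : x * x = 1 := by
    have := pow_orderOf_eq_one x
    rwa [hx, pow_two] at this
  have hxi : x⁻¹ = x := inv_eq_of_mul_eq_one_right hxx
  have hmemM : ∀ l : G, l ∈ L → x * l * x⁻¹ ∈ M := fun l hl => ⟨l, hl, rfl⟩
  let π : ↥L →* G :=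
    { toFun := fun l => (l : G) * (x * (l : G) * x⁻¹)
      map_one' := by simp
      map_mul' := fun a b => by
        simp only [Subgroup.coe_mul]
        rw [show x * ((a : G) * b) * x⁻¹ = (x * (a : G) * x⁻¹) * (x * (b : G) * x⁻¹) by group]
        have h := hLM (b : G) b.2 _ (hmemM (a : G) a.2)
        calc (a : G) * b * (x * (a : G) * x⁻¹ * (x * (b : G) * x⁻¹))
            = a * ((b : G) * (x * (a : G) * x⁻¹)) * (x * (b : G) * x⁻¹) := by group
          _ = a * ((x * (a : G) * x⁻¹) * (b : G)) * (x * (b : G) * x⁻¹) := by rw [h]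
          _ = _ := by group }
  have hinv : ∀ a : G, x * (x * a * x⁻¹) * x⁻¹ = a := by
    intro a
    calc x * (x * a * x⁻¹) * x⁻¹ = (x * x) * a * (x * x)⁻¹ := by group
      _ = a := by rw [hxx]; group
  have hπ : ∀ l : ↥L, π l = (l : G) * (x * (l : G) * x⁻¹) := fun _ => rfl
  have hfix : ∀ l : ↥L, π l ∈ Subgroup.centralizer ({x} : Set G) := by
    intro l
    rw [Subgroup.mem_centralizer_singleton_iff]
    have h2 : x * π l * x⁻¹ = π l := by
      rw [hπ]
      calc x * ((l : G) * (x * (l : G) * x⁻¹)) * x⁻¹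
          = (x * (l : G) * x⁻¹) * (x * (x * (l : G) * x⁻¹) * x⁻¹) := by group
        _ = (x * (l : G) * x⁻¹) * (l : G) := by rw [hinv]
        _ = _ := (hLM (l : G) l.2 _ (hmemM (l : G) l.2)).symm
    calc π l * x = (x * π l * x⁻¹) * x := by rw [h2]
      _ = x * π l := by group
  set P := L ⊔ M
  have hLc : L ≤ Subgroup.centralizer (M : Set G) :=
    fun a ha => Subgroup.mem_centralizer_iff.mpr fun b hb => (hLM a ha b hb).symm
  have hnorm : L ≤ Subgroup.normalizer (M : Set G) := hLc.trans (Subgroup.centralizer_le_normalizer _)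
  have hcentral : ∀ z ∈ L, z ∈ M → ∀ g ∈ P, z * g = g * z := by
    intro z hzL hzM g hg
    have : P ≤ Subgroup.centralizer ({z} : Set G) := by
      refine sup_le (fun a ha => ?_) (fun b hb => ?_)
      · rw [Subgroup.mem_centralizer_singleton_iff]; exact hLM a ha z hzM
      · rw [Subgroup.mem_centralizer_singleton_iff]; exact (hLM z hzL b hb).symm
    exact (Subgroup.mem_centralizer_singleton_iff.mp (this hg)).symm
  have hrange : π.range ≤ P ⊓ Subgroup.centralizer ({x} : Set G) := by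
    rintro _ ⟨l, rfl⟩
    exact Subgroup.mem_inf.mpr ⟨mul_mem (Subgroup.mem_sup_left l.2)
      (Subgroup.mem_sup_right (hmemM _ l.2)), hfix l⟩
  refine ⟨π, hπ, ?_, fun g hg => (hrange hg).2, ?_⟩
  · intro l hl
    have h1 : (l : G) * (x * (l : G) * x⁻¹) = 1 := hl
    have hl2 : (l : G) ∈ M := by
      rw [eq_inv_of_mul_eq_one_left h1]; exact inv_mem (hmemM _ l.2)
    rw [Subgroup.mem_center_iff]
    exact fun m => Subtype.ext (hLM (m : G) m.2 (l : G) hl2)
  · apply le_antisymm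
    · rw [Subgroup.commutator_le]
      have key : ∀ c ∈ P ⊓ Subgroup.centralizer ({x} : Set G), ∃ l : ↥L, ∃ z ∈ L, z ∈ M ∧ c = π l * z := by
        intro c hc
        obtain ⟨hcP, hcx⟩ := Subgroup.mem_inf.mp hc
        have hc' : c ∈ ((L : Set G) * (M : Set G)) := by
          rw [← Subgroup.coe_mul_of_left_le_normalizer_right L M hnorm]
          exact hcP
        obtain ⟨l, hl, m, hm, rfl⟩ := Set.mem_mul.mp hc'
        obtain ⟨n, hn, rfl⟩ := hm
        replace hcx : l * (x * n * x⁻¹) ∈ Subgroup.centralizer ({x} : Set G) := hcx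
        show ∃ l₁ : ↥L, ∃ z ∈ L, z ∈ M ∧ l * (x * n * x⁻¹) = π l₁ * z
        rw [Subgroup.mem_centralizer_singleton_iff] at hcx
        refine ⟨⟨l, hl⟩, (x * l * x⁻¹)⁻¹ * (x * n * x⁻¹), ?_, ?_, ?_⟩
        · have h1 : x * (l * (x * n * x⁻¹)) * x⁻¹ = l * (x * n * x⁻¹) := by
            rw [← hcx]; group
          have h2 : x * l * x⁻¹ * n = l * (x * n * x⁻¹) := by
            calc x * l * x⁻¹ * n = (x * l * x⁻¹) * (x * (x * n * x⁻¹) * x⁻¹) := by rw [hinv]
              _ = x * (l * (x * n * x⁻¹)) * x⁻¹ := by group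
              _ = _ := h1
          have hA := hLM n hn _ (hmemM l hl)
          have h3 : x * n * x⁻¹ * (x * l * x⁻¹)⁻¹ = l⁻¹ * n := by
            rw [← hA] at h2
            calc x * n * x⁻¹ * (x * l * x⁻¹)⁻¹ = l⁻¹ * (l * (x * n * x⁻¹)) * (x * l * x⁻¹)⁻¹ := by group
              _ = _ := by rw [← h2]; group
          have hw : l⁻¹ * n ∈ L := mul_mem (inv_mem hl) hn
          have hw' : l⁻¹ * n ∈ M := h3 ▸ mul_mem (hmemM n hn) (inv_mem (hmemM l hl))
          have h4 : (x * l * x⁻¹)⁻¹ * (x * n * x⁻¹) = l⁻¹ * n := by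
            calc (x * l * x⁻¹)⁻¹ * (x * n * x⁻¹)
                = (x * l * x⁻¹)⁻¹ * ((x * n * x⁻¹ * (x * l * x⁻¹)⁻¹) * (x * l * x⁻¹)) := by group
              _ = (x * l * x⁻¹)⁻¹ * ((l⁻¹ * n) * (x * l * x⁻¹)) := by rw [h3]
              _ = (x * l * x⁻¹)⁻¹ * ((x * l * x⁻¹) * (l⁻¹ * n)) := by
                    rw [hcentral _ hw hw' _ (Subgroup.mem_sup_right (hmemM l hl))]
              _ = _ := by group
          rw [h4]; exact hw
        · exact mul_mem (inv_mem (hmemM l hl)) (hmemM n hn)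
        · rw [hπ]; group
      intro a ha b hb
      obtain ⟨la, za, hza, hza', rfl⟩ := key a ha
      obtain ⟨lb, zb, hzb, hzb', rfl⟩ := key b hb
      refine ⟨⁅la, lb⁆, ?_⟩
      rw [map_commutatorElement]
      have e1 : za * π lb = π lb * za := hcentral za hza hza' _ (hrange ⟨lb, rfl⟩).1
      have e2 : za * π la = π la * za := hcentral za hza hza' _ (hrange ⟨la, rfl⟩).1
      have e3 : zb * π la = π la * zb := hcentral zb hzb hzb' _ (hrange ⟨la, rfl⟩).1
      have e4 : zb * π lb = π lb * zb := hcentral zb hzb hzb' _ (hrange ⟨lb, rfl⟩).1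
      have e5 : za * zb = zb * za := hcentral za hza hza' _ (Subgroup.mem_sup_left hzb)
      have f1 : Commute za (π lb) := e1
      have f2 : Commute za (π la) := e2
      have f3 : Commute zb (π la) := e3
      have f4 : Commute zb (π lb) := e4
      have f5 : Commute za zb := e5
      rw [commutatorElement_def, commutatorElement_def, mul_inv_rev, mul_inv_rev]
      have g1 : π la * za * (π lb * zb) = π la * π lb * (za * zb) := by
        rw [mul_assoc, ← mul_assoc za, f1.eq]; group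
      have g2 : za⁻¹ * (π la)⁻¹ * (zb⁻¹ * (π lb)⁻¹) = (π la)⁻¹ * (π lb)⁻¹ * (za⁻¹ * zb⁻¹) := by
        rw [f2.inv_inv.eq, f4.inv_inv.eq, mul_assoc, ← mul_assoc za⁻¹, f1.inv_inv.eq]
        group
      have g3 : Commute (za * zb) ((π la)⁻¹ * (π lb)⁻¹) :=
        ((f2.inv_right.mul_left f3.inv_right)).mul_right (f1.inv_right.mul_left f4.inv_right)
      symm
      calc π la * za * (π lb * zb) * (za⁻¹ * (π la)⁻¹) * (zb⁻¹ * (π lb)⁻¹)
          = π la * π lb * (za * zb) * (za⁻¹ * (π la)⁻¹ * (zb⁻¹ * (π lb)⁻¹)) := by rw [g1]; group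
        _ = π la * π lb * (za * zb) * ((π la)⁻¹ * (π lb)⁻¹ * (za⁻¹ * zb⁻¹)) := by rw [g2]
        _ = π la * π lb * ((za * zb) * ((π la)⁻¹ * (π lb)⁻¹)) * (za⁻¹ * zb⁻¹) := by group
        _ = π la * π lb * ((π la)⁻¹ * (π lb)⁻¹ * (za * zb)) * (za⁻¹ * zb⁻¹) := by rw [g3.eq]
        _ = π la * π lb * (π la)⁻¹ * (π lb)⁻¹ * ((za * zb) * (za⁻¹ * zb⁻¹)) := by group
        _ = _ := by rw [f5.eq]; group
    · rw [MonoidHom.range_eq_map]
      have : (⊤ : Subgroup ↥L) = ⁅(⊤ : Subgroup ↥L), ⊤⁆ := by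
        apply Subgroup.map_injective L.subtype_injective
        rw [Subgroup.map_commutator, ← MonoidHom.range_eq_map, Subgroup.range_subtype, hperf]
      rw [this, Subgroup.map_commutator]
      apply Subgroup.commutator_mono <;> rw [← MonoidHom.range_eq_map] <;> exact hrange

end Cfsg.Agent.S1314
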