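import Cfsg.Statements.S1315
import Cfsg.Agent.Lib.Cls81Second

set_option autoImplicit false
open Cfsg

namespace Cfsg.Agent.S1315

open Subgroup Cfsg.Agent.ComponentsP Cfsg.Agent.Cls81

/-- The image of a subgroup of `C(z)` in `Qz z`. -/
noncomputable def barJ {G : Type*} [Group G] (z : G) (J : Subgroup G) : Subgroup (Qz z) :=
  (J.subgroupOf (centralizer ({z} : Set G))).map (bar 2 _)

theorem mem_barJ {G : Type*} [Group G] {z : G} {J : Subgroup G}
    (hJ : J ≤ centralizer ({z} : Set G)) {g : G} (hg : g ∈ J) : cls z g ∈ barJ z J :=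
  ⟨⟨g, hJ hg⟩, hg, (cls_coe (⟨g, hJ hg⟩ : Cz z)).symm⟩

theorem isCls_barJ {G : Type*} [Group G] [Finite G] {z : G} {J : Subgroup G}
    (hzJ : z ∈ J ∧ orderOf z = 2 ∧ ∀ t ∈ J, orderOf t = 2 → t = z)
    (hJ : J ≤ centralizer ({z} : Set G))
    (hc : Cfsg.IsPComponent 2 (J.subgroupOf (centralizer ({z} : Set G)))) :
    IsCls z (barJ z J) := by
  obtain ⟨hm, ho, hu⟩ := hzJ
  rw [orderOf_eq_prime_iff] at ho
  refine ⟨by rw [← pow_two]; exact ho.1, ho.2, hc.2.1, mem_barJ hJ hm, ?_⟩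
  rintro _ ⟨j, hj, rfl⟩ h2
  have hjz : Commute (j : G) z := commute_of_mem_Cz j
  rw [← cls_coe j] at h2 ⊢
  obtain ⟨n, -, hn, hn2⟩ := exists_two_part (j : G) 1
  have h1 : cls z ((j : G) ^ n) = cls z (j : G) := by
    rw [cls_pow hjz, pow_eq_self_of_modEq (k := 1) (by rw [pow_one, pow_two, h2]) hn]
  have h3 : (j : G) ^ n * (j : G) ^ n = 1 :=
    eq_one_of_cls ((hjz.pow_left n).mul_left (hjz.pow_left n)) (hn2.mul hn2 (Commute.refl _))
      (by rw [cls_mul (hjz.pow_left n) (hjz.pow_left n), h1, h2])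
  rw [← h1]
  by_cases h : (j : G) ^ n = 1
  · left; rw [h, cls_one]
  · right
    rw [hu _ (pow_mem (mem_subgroupOf.1 hj) n : (j : G) ^ n ∈ J) (orderOf_eq_prime (by rw [pow_two, h3]) h)]

theorem card_barJ {G : Type*} [Group G] [Finite G] {z : G} {J : Subgroup G}
    (hJ : J ≤ centralizer ({z} : Set G))
    (hc : Cfsg.IsPComponent 2 (J.subgroupOf (centralizer ({z} : Set G)))) :
    Nat.card (barJ z J) = Nat.card (↥J ⧸ Cfsg.oddCore ↥J) := by
  haveI : Fact (Nat.Prime 2) := ⟨Nat.prime_two⟩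
  set C := centralizer ({z} : Set G)
  set J' := J.subgroupOf C
  have hker : ((bar 2 C).comp J'.subtype).ker = Cfsg.pPrimeCore 2 J' := by
    apply map_injective J'.subtype_injective
    rw [pPrimeCore_pComponent hc, ← MonoidHom.comap_ker, ker_bar, map_comap_eq, range_subtype]
  have h1 : Nat.card (barJ z J) = (Cfsg.pPrimeCore 2 J').index := by
    rw [← hker, index_ker, MonoidHom.range_comp, range_subtype]
    rfl
  rw [h1, index_eq_card]
  exact Nat.card_congr (QuotientGroup.congr _ _ (subgroupOfEquivOfLe hJ)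
    (ComponentsCores.pPrimeCore_map_mulEquiv _ 2)).toEquiv

theorem card_double {H : Type*} [Group H] (h : Cfsg.IsNonsplitDoubleCover H ↥(alternatingGroup (Fin 7))) :
    Nat.card H = Nat.card ↥(alternatingGroup (Fin 7)) * 2 := by
  obtain ⟨h2, ⟨e⟩, -⟩ := h
  rw [card_eq_card_quotient_mul_card_subgroup (center H), h2, Nat.card_congr e.toEquiv]

theorem mem_normalizer_of_cls {G : Type*} [Group G] [Finite G] {z g : G} {J : Subgroup G}
    (hJ : J ≤ centralizer ({z} : Set G))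
    (hc : Cfsg.IsPComponent 2 (J.subgroupOf (centralizer ({z} : Set G))))
    (hg : Commute g z) (h : cls z g ∈ normalizer (barJ z J : Set (Qz z))) :
    g ∈ normalizer (J : Set G) := by
  haveI : Fact (Nat.Prime 2) := ⟨Nat.prime_two⟩
  rw [cls_eq hg] at h
  have h1 : (⟨g, mem_Cz hg⟩ : Cz z) ∈
      normalizer ((J.subgroupOf (centralizer ({z} : Set G))) : Set (Cz z)) :=
    normalizer_le_normalizer_pComponent hc h
  have h2 := le_normalizer_map (centralizer ({z} : Set G)).subtype (mem_map_of_mem _ h1)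
  rwa [map_subgroupOf_eq_of_le hJ] at h2

/-- Let G be finite and J ≠ K subgroups, each containing exactly one involution, z(J) resp. z(K), each a 2-component of the centralizer of its involution, with J / O(J) and K / O(K) both isomorphic to SL(2, F) for one finite field F of odd order, or both non-split double covers of A7. Then (i) every 2-element of K of order at least 4 centralizing z(J) normalizes J; (ii) if z(J) normalizes K then z(K) normalizes J. -/
theorem result {G : Type*} [Group G] [Finite G] (J K : Subgroup G) (hJK : J ≠ K) (zJ zK : G) (hzJ : zJ ∈ J ∧ orderOf zJ = 2 ∧ ∀ t ∈ J, orderOf t = 2 → t = zJ) (hzK : zK ∈ K ∧ orderOf zK = 2 ∧ ∀ t ∈ K, orderOf t = 2 → t = zK) (hJ : J ≤ Subgroup.centralizer ({zJ} : Set G) ∧ Cfsg.IsPComponent 2 (J.subgroupOf (Subgroup.centralizer ({zJ} : Set G)))) (hK : K ≤ Subgroup.centralizer ({zK} : Set G) ∧ Cfsg.IsPComponent 2 (K.subgroupOf (Subgroup.centralizer ({zK} : Set G)))) (htype : (∃ (F : Type)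 (_ : Field F) (_ : Fintype F), Odd (Fintype.card F) ∧ Nonempty (↥J ⧸ Cfsg.oddCore ↥J ≃* Matrix.SpecialLinearGroup (Fin 2) F) ∧ Nonempty (↥K ⧸ Cfsg.oddCore ↥K ≃* Matrix.SpecialLinearGroup (Fin 2) F)) ∨ (Cfsg.IsNonsplitDoubleCover (↥J ⧸ Cfsg.oddCore ↥J) ↥(alternatingGroup (Fin 7)) ∧ Cfsg.IsNonsplitDoubleCover (↥K ⧸ Cfsg.oddCore ↥K) ↥(alternatingGroup (Fin 7)))) : (∀ y ∈ K, IsPGroup 2 ↥(Subgroup.zpowers y) → 4 ≤ orderOf y → y * zJ = zJ * y → y ∈ Subgroup.normalizer (J : Set G)) ∧ (zJ ∈ Subgroup.normalizer (K : Set G) → zK ∈ Subgroup.normalizer (J : Set G)) := by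
  obtain ⟨hJle, hJc⟩ := hJ
  obtain ⟨hKle, hKc⟩ := hK
  have hJ' := isCls_barJ hzJ hJle hJc
  have hK' := isCls_barJ hzK hKle hKc
  refine ⟨fun y hy hpy hord hcom => ?_, fun hn => ?_⟩
  · obtain ⟨k, hk⟩ := hpy ⟨y, Subgroup.mem_zpowers y⟩
    have hk' : y ^ 2 ^ k = 1 := congrArg Subtype.val hk
    obtain ⟨i, -, hi⟩ := (Nat.dvd_prime_pow Nat.prime_two).1 (orderOf_dvd_of_pow_eq_one hk')
    obtain ⟨j, rfl⟩ : ∃ j, i = j + 2 := ⟨i - 2, by
      rcases i with _ | _ | i
      · norm_num [hi] at hord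
      · norm_num [hi] at hord
      · omega⟩
    have hyz : y ^ 2 ^ (j + 1) = zK := by
      refine hzK.2.2 _ (pow_mem hy _) (orderOf_eq_prime ?_ ?_)
      · rw [← pow_mul, ← pow_succ, ← hi, pow_orderOf_eq_one]
      · intro h
        have := orderOf_dvd_of_pow_eq_one h
        rw [hi, Nat.pow_dvd_pow_iff_le_right (by norm_num)] at this
        omega
    exact mem_normalizer_of_cls hJle hJc hcom
      (Cls81.normalizes hJ' hK' hcom (mem_barJ hKle hy) (Nat.le_add_left 1 j) hyz)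
  · have hzK2 : orderOf (zJ * zK * zJ⁻¹) = 2 := by
      rw [← MulAut.conj_apply, MulEquiv.orderOf_eq]
      exact hzK.2.1
    have hzw : Commute zJ zK := mul_inv_eq_iff_eq_mul.1
      (hzK.2.2 _ ((Subgroup.mem_normalizer_iff.1 hn zK).1 hzK.1) hzK2)
    have hz : Cls81.cls zK zJ ∈ Subgroup.normalizer (barJ zK K : Set (Cls81.Qz zK)) := by
      rw [Cls81.cls_eq hzw]
      refine Subgroup.le_normalizer_map _ (Subgroup.mem_map_of_mem _ ?_)
      rw [Subgroup.mem_normalizer_iff]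
      intro x
      exact Subgroup.mem_normalizer_iff.1 hn (x : G)
    refine mem_normalizer_of_cls hJle hJc hzw.symm (Cls81.normalizes_second hJ' hK' hzw hz ?_)
    rw [card_barJ hJle hJc, card_barJ hKle hKc]
    rcases htype with ⟨F, _, _, -, ⟨e1⟩, ⟨e2⟩⟩ | ⟨h1, h2⟩
    · rw [Nat.card_congr e1.toEquiv, Nat.card_congr e2.toEquiv]
    · rw [card_double h1, card_double h2]

end Cfsg.Agent.S1315
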