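import Mathlib
import Cfsg.Statements.S1316
import Cfsg.Agent.Lib.ComponentsBasic
import Cfsg.Agent.Lib.ComponentsCores
import Cfsg.Agent.Lib.ComponentsFitting
import Cfsg.Agent.Lib.GenFittingStructure

set_option autoImplicit false
open Cfsg
open scoped Pointwise commutatorElement

namespace Cfsg.Agent.S1316

open Subgroup Cfsg.Agent.ComponentsBasic Cfsg.Agent.ComponentsCores Cfsg.Agent.ComponentsFitting

/-- For a finite group X, E(X) equals the intersection of the derived series of F*(X) (its last term). -/
theorem result {X : Type*} [Group X] [Finite X] : (⨅ n : ℕ, (derivedSeries ↥(Cfsg.generalizedFittingSubgroup X) n).map (Cfsg.generalizedFittingSubgroup X).subtype) = Cfsg.layer X := by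
  set F := Cfsg.generalizedFittingSubgroup X
  apply le_antisymm
  · let f : ↥F →* X ⧸ Cfsg.layer X := (QuotientGroup.mk' (Cfsg.layer X)).comp F.subtype
    have hr : f.range ≤ (Cfsg.fittingSubgroup X).map (QuotientGroup.mk' (Cfsg.layer X)) := by
      rw [MonoidHom.range_comp, range_subtype]
      show (Cfsg.layer X ⊔ Cfsg.fittingSubgroup X).map _ ≤ _
      rw [Subgroup.map_sup]
      refine sup_le ?_ le_rfl
      rintro _ ⟨x, hx, rfl⟩
      rw [show QuotientGroup.mk' (Cfsg.layer X) x = 1 from (QuotientGroup.eq_one_iff x).mpr hx]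
      exact one_mem _
    haveI : Group.IsSolvable ↥((Cfsg.fittingSubgroup X).map (QuotientGroup.mk' (Cfsg.layer X))) :=
      Group.isSolvable_of_surjective (f := (QuotientGroup.mk' (Cfsg.layer X)).subgroupMap _)
        (MonoidHom.subgroupMap_surjective _ _)
    haveI : Group.IsSolvable f.range :=
      Group.isSolvable_of_isSolvable_injective (f := inclusion hr) (inclusion_injective hr)
    obtain ⟨n, hn⟩ := (Group.IsSolvable.solvable (G := f.range))
    refine (iInf_le _ n).trans ?_
    rintro _ ⟨x, hx, rfl⟩
    have h2 : f.rangeRestrict x ∈ derivedSeries f.range n :=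
      map_derivedSeries_le_derivedSeries f.rangeRestrict n ⟨x, hx, rfl⟩
    rw [hn, mem_bot] at h2
    exact (QuotientGroup.eq_one_iff (x : X)).mp (congrArg Subtype.val h2)
  · refine le_iInf fun n => ?_
    have hle : Cfsg.layer X ≤ F := le_sup_left
    rw [← map_subgroupOf_eq_of_le hle]
    refine map_mono (perfect_le_derivedSeries ?_ n)
    apply map_injective F.subtype_injective
    rw [map_commutator, map_subgroupOf_eq_of_le hle, layer_perfect]

end Cfsg.Agent.S1316
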