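import Mathlib
import Cfsg.Statements.S1319
import Cfsg.Agent.Lib.ComponentsBasic
import Cfsg.Agent.Lib.ComponentsCores
import Cfsg.Agent.Lib.ComponentsFitting
import Cfsg.Agent.Lib.GenFittingStructure

set_option autoImplicit false
open Cfsg
open scoped Pointwise commutatorElement

namespace Cfsg.Agent.S1319

open Subgroup Cfsg.Agent.ComponentsBasic Cfsg.Agent.ComponentsCores Cfsg.Agent.ComponentsFitting

/-- Let A be a subnormal subgroup of the finite group X with E(A) = A. Then A ≤ E(X) and A is normal in E(X). -/
theorem result {X : Type*} [Group X] [Finite X] (A : Subgroup X) (hsn : A.IsSubnormal) (hA : Cfsg.layer ↥A = ⊤) : A ≤ Cfsg.layer X ∧ (A.subgroupOf (Cfsg.layer X)).Normal := by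
  have h1 : A = sSup {L : Subgroup X | Cfsg.IsComponent L ∧ L ≤ A} := by
    rw [← layer_map_subtype hsn, hA, ← MonoidHom.range_eq_map, range_subtype]
  have h2 : A ≤ Cfsg.layer X := by
    rw [h1]; exact sSup_le fun L hL => component_le_layer hL.1
  refine ⟨h2, normal_subgroupOf_of_le_normalizer ?_⟩
  rw [h1]
  exact GenFittingStructure.le_normalizer_sSup _ fun L hL => layer_le_normalizer_component hL.1

end Cfsg.Agent.S1319
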