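import Mathlib
import Cfsg.Statements.S1320
import Cfsg.Agent.Lib.ComponentsBasic
import Cfsg.Agent.Lib.ComponentsCores
import Cfsg.Agent.Lib.ComponentsFitting
import Cfsg.Agent.Lib.GenFittingStructure

set_option autoImplicit false
open Cfsg
open scoped Pointwise commutatorElement

namespace Cfsg.Agent.S1320

open Subgroup Cfsg.Agent.ComponentsBasic Cfsg.Agent.ComponentsCores Cfsg.Agent.ComponentsFitting

/-- Let B be a normal subgroup of the finite group A. Then F*(A) ∩ B = F*(B). -/
theorem result {A : Type*} [Group A] [Finite A] (B : Subgroup A) [B.Normal] : Cfsg.generalizedFittingSubgroup A ⊓ B = (Cfsg.generalizedFittingSubgroup ↥B).map B.subtype := by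
  refine le_antisymm ?_ (le_inf (gen_map_subtype_le (Normal.isSubnormal inferInstance)) (map_subtype_le _))
  set S := Cfsg.generalizedFittingSubgroup A ⊓ B
  have hB : B.IsSubnormal := Normal.isSubnormal inferInstance
  have hS : S.IsSubnormal := Normal.isSubnormal inferInstance
  rw [← GenFittingStructure.subnormal_gen_eq hS inf_le_left]
  refine sup_le ?_ ?_
  · rw [fitting_map_subtype_eq hS]
    refine le_trans ?_ (map_mono le_sup_right)
    rw [fitting_map_subtype_eq hB]
    exact inf_le_inf_left _ inf_le_right
  · refine le_trans ?_ (map_mono le_sup_left)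
    rw [layer_map_subtype hS, layer_map_subtype hB]
    exact sSup_le fun L hL => le_sSup ⟨hL.1, hL.2.trans inf_le_right⟩

end Cfsg.Agent.S1320
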