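import Mathlib
import Cfsg.Statements.S1321
import Cfsg.Agent.Lib.ComponentsBasic
import Cfsg.Agent.Lib.ComponentsCores
import Cfsg.Agent.Lib.ComponentsFitting

set_option autoImplicit false
open Cfsg
open scoped Pointwise commutatorElement

namespace Cfsg.Agent.S1321

open Subgroup Cfsg.Agent.ComponentsBasic Cfsg.Agent.ComponentsCores Cfsg.Agent.ComponentsFitting

/-- Let X be finite and U ≤ X. Then E(X) is generated by C_{E(X)}(U) together with ⁅E(X), U⁆ (indeed it is their product, ⁅E(X), U⁆ being normal in E(X)). -/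
theorem result {X : Type*} [Group X] [Finite X] (U : Subgroup X) : Cfsg.layer X = (Cfsg.layer X ⊓ Subgroup.centralizer (U : Set X)) ⊔ ⁅Cfsg.layer X, U⁆ ∧ ⁅Cfsg.layer X, U⁆ ≤ Cfsg.layer X := by
  have hle : ⁅Cfsg.layer X, U⁆ ≤ Cfsg.layer X := commutator_le_left _ _
  refine ⟨le_antisymm ?_ (sup_le inf_le_left hle), hle⟩
  have hn : Cfsg.layer X ≤ normalizer ((⁅Cfsg.layer X, U⁆ : Subgroup X) : Set X) := by
    have key : ∀ e ∈ Cfsg.layer X, ∀ y ∈ ⁅Cfsg.layer X, U⁆, e * y * e⁻¹ ∈ ⁅Cfsg.layer X, U⁆ := by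
      intro e he y hy
      have hsub : ⁅Cfsg.layer X, U⁆ ≤ (⁅Cfsg.layer X, U⁆).comap (MulAut.conj e).toMonoidHom := by
        rw [commutator_le]
        intro a ha b hb
        show e * ⁅a, b⁆ * e⁻¹ ∈ ⁅Cfsg.layer X, U⁆
        have : e * ⁅a, b⁆ * e⁻¹ = ⁅e * a, b⁆ * (⁅e, b⁆)⁻¹ := by
          simp only [commutatorElement_def]; group
        rw [this]
        exact mul_mem (commutator_mem_commutator (mul_mem he ha) hb)
          (inv_mem (commutator_mem_commutator he hb))
      exact hsub hy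
    intro e he
    rw [mem_normalizer_iff]
    refine fun y => ⟨key e he y, fun hy => ?_⟩
    have h2 := key e⁻¹ (inv_mem he) _ hy
    simpa [mul_assoc] using h2
  have hsn : (⁅Cfsg.layer X, U⁆).IsSubnormal :=
    isSubnormal_of_le_normalizer hle (Normal.isSubnormal inferInstance) hn
  refine sSup_le fun L hL => ?_
  rcases component_le_or_commute hL hsn with h | h
  · exact le_sup_of_le_right h
  · refine le_sup_of_le_left (le_inf (component_le_layer hL) ?_)
    rw [← commutator_eq_bot_iff_le_centralizer]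
    have h1 : ⁅L, U⁆ ≤ ⁅Cfsg.layer X, U⁆ := commutator_mono (component_le_layer hL) le_rfl
    have h2 : ⁅⁅L, U⁆, L⁆ = ⊥ := by
      rw [← le_bot_iff, ← h, commutator_comm]
      exact commutator_mono le_rfl h1
    have h3 : ⁅⁅L, L⁆, U⁆ = ⊥ :=
      commutator_commutator_eq_bot_of_rotate h2 (by rwa [commutator_comm U L])
    rwa [IsComponent.perfect hL] at h3

end Cfsg.Agent.S1321
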