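import Mathlib
import Cfsg.Statements.S1323
import Cfsg.Agent.Lib.ComponentsBasic

set_option autoImplicit false
open Cfsg Equiv Subgroup

namespace Cfsg.Agent.S1323

variable {α : Type*} [Fintype α] [DecidableEq α]

/-- Even permutations fixing each point of `T`. -/
def fixPts (T : Finset α) : Subgroup (alternatingGroup α) where
  carrier := {g | ∀ x ∈ T, (g : Perm α) x = x}
  one_mem' := by intro x _; rfl
  mul_mem' := by
    intro a b ha hb x hx
    show (a : Perm α) ((b : Perm α) x) = x
    rw [hb x hx, ha x hx]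
  inv_mem' := by
    intro a ha x hx
    show (a : Perm α)⁻¹ x = x
    exact (Perm.inv_eq_iff_eq).mpr (ha x hx).symm

theorem mem_fixPts {T : Finset α} {g : alternatingGroup α} :
    g ∈ fixPts T ↔ ∀ x ∈ T, (g : Perm α) x = x := Iff.rfl

theorem fixPts_sup (T U : Finset α) : fixPts T ⊓ fixPts U = fixPts (T ∪ U) := by
  ext g
  simp [mem_fixPts, Finset.mem_union, or_imp, forall_and]

/-- The image of a set of points. -/
def im (g : alternatingGroup α) (T : Finset α) : Finset α := T.image (g : Perm α)

theorem map_conj_fixPts (g : alternatingGroup α) (T : Finset α) :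
    (fixPts T).map (MulAut.conj g).toMonoidHom = fixPts (im g T) := by
  ext h
  constructor
  · rintro ⟨k, hk, rfl⟩ x hx
    obtain ⟨y, hy, rfl⟩ := Finset.mem_image.mp hx
    simp [hk y hy]
  · intro hh
    refine ⟨g⁻¹ * h * g, fun x hx => ?_, by simp [mul_assoc]⟩
    have := hh ((g : Perm α) x) (Finset.mem_image_of_mem _ hx)
    simp [this]

/-- A three-cycle as an element of the alternating group. -/
theorem exists_threeCycle {x y z : α} (hxy : x ≠ y) (hxz : x ≠ z) (hyz : y ≠ z) :
    ∃ t : alternatingGroup α, (t : Perm α) x = y ∧ (t : Perm α) y = z ∧ (t : Perm α) z = x ∧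
      ∀ w, w ≠ x → w ≠ y → w ≠ z → (t : Perm α) w = w := by
  refine ⟨⟨swap x y * swap y z, ?_⟩, ?_, ?_, ?_, ?_⟩
  · rw [Perm.mem_alternatingGroup]
    simp [hxy, hyz]
  · simp [swap_apply_of_ne_of_ne hxy hxz]
  · simp [swap_apply_of_ne_of_ne hxz.symm hyz.symm]
  · simp
  · intro w h1 h2 h3
    simp [swap_apply_of_ne_of_ne h2 h3, swap_apply_of_ne_of_ne h1 h2]

theorem exists_moving {T : Finset α} (hT : 3 ≤ Tᶜ.card) {x : α} (hx : x ∉ T) :
    ∃ t ∈ fixPts T, (t : Perm α) x ≠ x := by
  have h1 : 2 ≤ (Tᶜ.erase x).card := by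
    rw [Finset.card_erase_of_mem (Finset.mem_compl.mpr hx)]
    omega
  obtain ⟨y, hy, z, hz, hyz⟩ := Finset.one_lt_card.mp h1
  simp only [Finset.mem_erase, Finset.mem_compl] at hy hz
  obtain ⟨t, t1, -, -, t4⟩ := exists_threeCycle hy.1.symm hz.1.symm hyz
  refine ⟨t, fun w hw => t4 w ?_ ?_ ?_, by rw [t1]; exact hy.1⟩
  · exact fun h => hx (h ▸ hw)
  · exact fun h => hy.2 (h ▸ hw)
  · exact fun h => hz.2 (h ▸ hw)

theorem subset_of_fixPts_le {T U : Finset α} (hT : 3 ≤ Tᶜ.card) (h : fixPts T ≤ fixPts U) :
    U ⊆ T := by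
  intro x hx
  by_contra hxT
  obtain ⟨t, ht, htx⟩ := exists_moving hT hxT
  exact htx (h ht x hx)

theorem card_im (g : alternatingGroup α) (T : Finset α) : (im g T).card = T.card :=
  Finset.card_image_of_injective _ (Equiv.injective _)

theorem mem_normalizer_fixPts {T : Finset α} (hT : 3 ≤ Tᶜ.card) (g : alternatingGroup α) :
    g ∈ normalizer (fixPts T : Set (alternatingGroup α)) ↔ im g T = T := by
  have key : g ∈ normalizer (fixPts T : Set (alternatingGroup α)) ↔
      (fixPts T).map (MulAut.conj g).toMonoidHom = fixPts T :=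
    ⟨fun h => by
      ext z
      constructor
      · rintro ⟨k, hk, rfl⟩
        exact (mem_normalizer_iff.mp h k).mp hk
      · intro hz
        refine ⟨g⁻¹ * z * g, ?_, by simp [mul_assoc]⟩
        exact (mem_normalizer_iff.mp h _).mpr (by simpa [mul_assoc] using hz),
    fun h => mem_normalizer_iff.mpr fun k => by
      constructor
      · intro hk
        rw [← h]
        exact ⟨k, hk, rfl⟩
      · intro hk
        rw [← h] at hk
        obtain ⟨k', hk', e⟩ := hk
        rwa [← show k' = k from (MulAut.conj g).injective e]⟩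
  rw [key, map_conj_fixPts]
  refine ⟨fun h => ?_, fun h => by rw [h]⟩
  refine Finset.eq_of_subset_of_card_le ?_ (by rw [card_im])
  exact subset_of_fixPts_le hT h.ge

theorem centralizer_fixPts {T : Finset α} (hT : 5 ≤ Tᶜ.card) :
    centralizer (fixPts T : Set (alternatingGroup α)) = fixPts Tᶜ := by
  apply le_antisymm
  · intro g hg x hx
    have hxT : x ∉ T := Finset.mem_compl.mp hx
    have htriple : ∀ y z, y ∉ T → z ∉ T → x ≠ y → x ≠ z → y ≠ z →
        (g : Perm α) x = x ∨ (g : Perm α) x = y ∨ (g : Perm α) x = z := by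
      intro y z hy hz hxy hxz hyz
      obtain ⟨t, t1, -, -, t4⟩ := exists_threeCycle hxy hxz hyz
      have ht : t ∈ fixPts T := fun w hw => t4 w (fun h => hxT (h ▸ hw)) (fun h => hy (h ▸ hw))
        (fun h => hz (h ▸ hw))
      have hc := congrArg (fun u : alternatingGroup α => (u : Perm α) x)
        (mem_centralizer_iff.mp hg t ht)
      simp only [Subgroup.coe_mul, Perm.coe_mul, Function.comp_apply, t1] at hc
      by_contra hcon
      push Not at hcon
      rw [t4 _ hcon.1 hcon.2.1 hcon.2.2] at hc
      exact hxy ((g : Perm α).injective hc)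
    have h4 : 4 ≤ (Tᶜ.erase x).card := by
      rw [Finset.card_erase_of_mem hx]; omega
    obtain ⟨R, hR, hRc⟩ := Finset.exists_subset_card_eq h4
    obtain ⟨a, b, c, d, hab, hac, had, hbc, hbd, hcd, rfl⟩ :=
      Finset.card_eq_four.mp hRc
    have hm : ∀ w ∈ ({a, b, c, d} : Finset α), w ≠ x ∧ w ∉ T := fun w hw => by
      simpa using hR hw
    have h1 := htriple a b (hm a (by simp)).2 (hm b (by simp)).2 (hm a (by simp)).1.symm
      (hm b (by simp)).1.symm hab
    have h2 := htriple c d (hm c (by simp)).2 (hm d (by simp)).2 (hm c (by simp)).1.symm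
      (hm d (by simp)).1.symm hcd
    grind
  · intro g hg
    rw [mem_centralizer_iff]
    intro t ht
    apply Subtype.ext
    refine Perm.Disjoint.commute ?_
    intro x
    by_cases hx : x ∈ T
    · exact Or.inl (ht x hx)
    · exact Or.inr (hg x (Finset.mem_compl.mpr hx))

/-- The even permutations of the points outside `T`. -/
noncomputable def fixEquiv (T : Finset α) :
    alternatingGroup {x // x ∉ T} ≃* fixPts T :=
  MulEquiv.ofBijective
    (MonoidHom.codRestrict
      (MonoidHom.codRestrict ((Perm.ofSubtype).comp (alternatingGroup {x // x ∉ T}).subtype)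
        (alternatingGroup α) (fun s => by
          rw [Perm.mem_alternatingGroup]
          show Perm.sign (Perm.ofSubtype (s : Perm {x // x ∉ T})) = 1
          rw [Perm.sign_ofSubtype]
          exact Perm.mem_alternatingGroup.mp s.2))
      (fixPts T) (fun s x hx => Perm.ofSubtype_apply_of_not_mem (p := fun x => x ∉ T) _ (by simp [hx])))
    ⟨fun a b h => Subtype.ext (Perm.ofSubtype_injective
        (congrArg (fun u : fixPts T => ((u : alternatingGroup α) : Perm α)) h)),
      fun g => by
        have h1 : ∀ x, ((g : alternatingGroup α) : Perm α) x ∉ T ↔ x ∉ T := by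
          intro x
          constructor
          · intro h hx
            exact h (by rw [g.2 x hx]; exact hx)
          · intro hx h
            exact hx (by rw [← ((g : alternatingGroup α) : Perm α).injective (g.2 _ h)]; exact h)
        have h2 : Perm.ofSubtype (Perm.subtypePerm ((g : alternatingGroup α) : Perm α) h1) =
            ((g : alternatingGroup α) : Perm α) :=
          Perm.ofSubtype_subtypePerm h1 fun x hx hxT => hx (g.2 x hxT)
        have hs : Perm.subtypePerm ((g : alternatingGroup α) : Perm α) h1 ∈ alternatingGroup {x // x ∉ T} :=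
          Perm.mem_alternatingGroup.mpr (by
            convert (Perm.sign_subtypePerm _ h1 (fun x hx hxT => hx (g.2 x hxT))).trans
              (Perm.mem_alternatingGroup.mp (g : alternatingGroup α).2))
        refine ⟨⟨_, hs⟩, Subtype.ext (Subtype.ext ?_)⟩
        show Perm.ofSubtype _ = _
        ext x
        by_cases hx : x ∈ T
        · rw [g.2 x hx, Perm.ofSubtype_apply_of_not_mem (p := fun x => x ∉ T) _ (not_not.mpr hx)]
        · rw [Perm.ofSubtype_apply_of_mem (p := fun x => x ∉ T) _ hx]; rfl⟩

theorem card_subtype_compl (T : Finset α) : Fintype.card {x // x ∉ T} = Tᶜ.card := by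
  rw [Fintype.card_of_subtype Tᶜ (fun x => by simp)]

theorem odd_card_fixPts {T : Finset α} (hT : Tᶜ.card ≤ 3) : Odd (Nat.card (fixPts T)) := by
  rw [← Nat.card_congr (fixEquiv T).toEquiv, Nat.card_eq_fintype_card]
  rw [← card_subtype_compl] at hT
  rcases Nat.lt_or_ge (Fintype.card {x // x ∉ T}) 2 with h | h
  · haveI : Subsingleton {x // x ∉ T} := Fintype.card_le_one_iff_subsingleton.mp (by omega)
    rw [Fintype.card_eq_one_iff.mpr ⟨1, fun y => Subsingleton.elim y 1⟩]
    exact odd_one
  · haveI : Nontrivial {x // x ∉ T} := Fintype.one_lt_card_iff_nontrivial.mp (by omega)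
    have h1 := two_mul_card_alternatingGroup (α := {x // x ∉ T})
    rw [Fintype.card_perm] at h1
    interval_cases hm : Fintype.card {x // x ∉ T}
    · rw [show Fintype.card ↥(alternatingGroup {x // x ∉ T}) = 1 by
        have : (2 : ℕ).factorial = 2 := rfl
        omega]
      decide
    · rw [show Fintype.card ↥(alternatingGroup {x // x ∉ T}) = 3 by
        have : (3 : ℕ).factorial = 6 := rfl
        omega]
      decide

theorem standard {T : Finset α} (hT4 : T.card = 4) (hn : 9 ≤ Fintype.card α) :
    Cfsg.IsStandardSubgroup (fixPts T) := by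
  have hc : Tᶜ.card = Fintype.card α - 4 := by rw [Finset.card_compl, hT4]
  have hT5 : 5 ≤ Tᶜ.card := by omega
  have hTc : Tᶜᶜ.card = 4 := by rw [compl_compl, hT4]
  have hC := centralizer_fixPts hT5
  have himc : ∀ g : alternatingGroup α, im g Tᶜ = (im g T)ᶜ := fun g => by
    ext x
    simp [im, Finset.mem_image]
    constructor
    · rintro ⟨y, hy, rfl⟩ z hz e
      exact hy ((g : Perm α).injective e ▸ hz)
    · intro h
      exact ⟨(g : Perm α)⁻¹ x, fun hx => h _ hx (by simp), by simp⟩
  have hnot : ∀ U : Finset α, U.card = 4 → ¬ fixPts U ≤ fixPts Tᶜ := by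
    intro U hU hle
    have h1 := Finset.card_le_card (subset_of_fixPts_le (by rw [Finset.card_compl]; omega) hle)
    omega
  refine ⟨?_, ⟨?_, ?_⟩, ?_, ?_⟩
  · apply ComponentsBasic.isQuasisimple_of_simple
    · haveI := alternatingGroup.isSimpleGroup (α := {x // x ∉ T})
        (by rw [Nat.card_eq_fintype_card, card_subtype_compl]; exact hT5)
      exact (fixEquiv T).isSimpleGroup_congr.mp inferInstance
    · intro hcomm
      refine hnot T hT4 (hC ▸ ?_)
      intro a ha
      rw [mem_centralizer_iff]
      intro b hb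
      exact congrArg Subtype.val (hcomm.is_comm.comm (⟨b, hb⟩ : fixPts T) ⟨a, ha⟩)
  · rw [hC]
    obtain ⟨a, b, c, d, hab, hac, had, hbc, hbd, hcd, hTeq⟩ := Finset.card_eq_four.mp hT4
    let t : alternatingGroup α := ⟨swap a b * swap c d, by
      rw [Perm.mem_alternatingGroup]; simp [hab, hcd]⟩
    have ht : t ∈ fixPts Tᶜ := by
      intro x hx
      rw [Finset.mem_compl, hTeq] at hx
      simp only [Finset.mem_insert, Finset.mem_singleton, not_or] at hx
      simp [t, swap_apply_of_ne_of_ne hx.2.2.1 hx.2.2.2, swap_apply_of_ne_of_ne hx.1 hx.2.1]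
    have ho : orderOf (⟨t, ht⟩ : fixPts Tᶜ) = 2 := by
      refine orderOf_eq_prime ?_ ?_
      · apply Subtype.ext; apply Subtype.ext
        show (swap a b * swap c d) ^ 2 = 1
        ext x
        simp only [pow_two, Perm.coe_mul, Function.comp_apply, Perm.coe_one, id]
        simp only [swap_apply_def]
        grind
      · intro h
        have := congrArg (fun u : fixPts Tᶜ => ((u : alternatingGroup α) : Perm α) a) h
        simp [t, swap_apply_of_ne_of_ne hac had] at this
        exact hab this.symm
    exact even_iff_two_dvd.mpr (ho ▸ orderOf_dvd_natCard _)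
  · intro g hg
    rw [hC] at hg ⊢
    rw [map_conj_fixPts, fixPts_sup]
    apply odd_card_fixPts
    rw [mem_normalizer_fixPts (by omega)] at hg
    rw [himc] at hg ⊢
    rw [Finset.compl_union, compl_compl, compl_compl]
    have h1 : T ∩ im g T ⊂ T := by
      refine Finset.ssubset_iff_subset_ne.mpr ⟨Finset.inter_subset_left, fun h => hg ?_⟩
      rw [show im g T = T from (Finset.eq_of_subset_of_card_le (Finset.inter_eq_left.mp h)
        (by rw [card_im])).symm]
    have := Finset.card_lt_card h1
    omega
  · intro g _ h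
    rw [commutator_eq_bot_iff_le_centralizer] at h
    rw [map_conj_fixPts] at h
    have h2 : fixPts (im g T) ≤ centralizer (fixPts T : Set (alternatingGroup α)) := by
      intro x hx
      rw [mem_centralizer_iff]
      intro y hy
      exact (mem_centralizer_iff.mp (h hy) x hx).symm
    rw [hC] at h2
    exact hnot _ (by rw [card_im, hT4]) h2
  · rw [hC]
    ext g
    rw [mem_normalizer_fixPts (by omega), mem_normalizer_fixPts (by omega), himc, compl_inj_iff]

/-- For `n ≥ 9`, the stabilizer of four points in `A_n` is a standard subgroup. -/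
theorem result (n : ℕ) (h4 : 4 ≤ n) (hn : 9 ≤ n) : Cfsg.IsStandardSubgroup (⨅ i : Fin 4, MulAction.stabilizer ↥(alternatingGroup (Fin n)) (Fin.castLE h4 i : Fin n)) := by
  have he : (⨅ i : Fin 4, MulAction.stabilizer ↥(alternatingGroup (Fin n)) (Fin.castLE h4 i : Fin n)) =
      fixPts ((Finset.univ : Finset (Fin 4)).image (Fin.castLE h4)) := by
    ext g
    simp [mem_fixPts, Subgroup.mem_iInf]
    rfl
  rw [he]
  refine standard ?_ (by simpa using hn)
  rw [Finset.card_image_of_injective _ (Fin.castLE_injective h4)]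
  rfl

end Cfsg.Agent.S1323
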