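import Mathlib
import Cfsg.Statements.S1326
import Cfsg.Agent.Lib.ComponentsBasic
import Cfsg.Agent.Lib.ComponentsCores
import Cfsg.Agent.Lib.ComponentsFitting

set_option autoImplicit false
open Cfsg
open scoped Pointwise commutatorElement

namespace Cfsg.Agent.S1326

open Subgroup Cfsg.Agent.ComponentsBasic Cfsg.Agent.ComponentsCores Cfsg.Agent.ComponentsFitting

/-- For a finite group X: the Fitting subgroup contains its centralizer if and only if the layer of X is trivial. -/
theorem result {X : Type*} [Group X] [Finite X] : Subgroup.centralizer (Cfsg.fittingSubgroup X : Set X) ≤ Cfsg.fittingSubgroup X ↔ Cfsg.layer X = ⊥ := by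
  refine ⟨fun h => ?_, fun h => centralizer_fitting_le_of_layer_eq_bot h⟩
  refine perfect_eq_bot_of_le_solvable layer_perfect (S := Cfsg.fittingSubgroup X) (h := ?_)
  exact layer_le_centralizer_fitting.trans h

end Cfsg.Agent.S1326
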