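import Cfsg.Statements.S1327
import Cfsg.Agent.Lib.ComponentsP
import Cfsg.Agent.Lib.HallConstrained

set_option autoImplicit false
open Cfsg

namespace Cfsg.Agent.S1327

/-- A finite group X is p-constrained if and only if its p-layer L_{p'}(X) is trivial (equivalently X / O_{p'}(X) has trivial layer). -/
theorem result {X : Type*} [Group X] [Finite X] (p : ℕ) [Fact p.Prime] : Cfsg.IsPConstrained p X ↔ Cfsg.pLayer p X = ⊥ := by
  rw [HallConstrained.isPConstrained_iff, ComponentsP.pLayer_eq_bot_iff]
  have hbot := HallCore.pPrimeCore_quotient_self p X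
  rw [← ComponentsP.fitting_eq_pCore_of_bot hbot]
  refine ⟨fun h => sSup_eq_bot.mpr fun L hL => ?_, ComponentsFitting.centralizer_fitting_le_of_layer_eq_bot⟩
  refine absurd ?_ (ComponentsBasic.isQuasisimple_not_le_solvable (S := Cfsg.fittingSubgroup (X ⧸ Cfsg.pPrimeCore p X)) hL.2)
  exact (Subgroup.commutator_eq_bot_iff_le_centralizer.mp (ComponentsFitting.component_commute_fitting hL)).trans h

end Cfsg.Agent.S1327
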