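import Mathlib
import Cfsg.Statements.S1328
import Cfsg.Agent.Lib.BalanceComponents

set_option autoImplicit false
open Cfsg
open scoped Pointwise commutatorElement

namespace Cfsg.Agent.S1328

open Subgroup

open Cfsg.Agent.LayerBalance Cfsg.Agent.ComponentBalance Cfsg.Agent.BalanceComponents
open Cfsg.Agent.ComponentsBasic

/-- Let G be finite, H ≤ G with O(H) = 1, t an involution of G normalizing H, and Y a nontrivial subgroup of O(C_H(t)). Then some component E of H is normalized by t and by Y and centralized by neither t nor Y. -/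
theorem result {G : Type*} [Group G] [Finite G] (H : Subgroup G) (hO : Cfsg.oddCore ↥H = ⊥) (t : G) (ht : orderOf t = 2) (htH : t ∈ Subgroup.normalizer (H : Set G)) (Y : Subgroup G) (hY1 : Y ≠ ⊥) (hY : Y ≤ (Cfsg.oddCore ↥(H ⊓ Subgroup.centralizer ({t} : Set G))).map (H ⊓ Subgroup.centralizer ({t} : Set G)).subtype) : ∃ E : Subgroup ↥H, Cfsg.IsComponent E ∧ (E.map H.subtype).map (MulAut.conj t).toMonoidHom = E.map H.subtype ∧ Y ≤ Subgroup.normalizer ((E.map H.subtype : Subgroup G) : Set G) ∧ ¬ (t ∈ Subgroup.centralizer ((E.map H.subtype : Subgroup G) : Set G)) ∧ ¬ (Y ≤ Subgroup.centralizer ((E.map H.subtype : Subgroup G) : Set G)) := by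
  haveI : Fact (Nat.Prime 2) := ⟨Nat.prime_two⟩
  set T := H ⊔ zpowers t with hT
  have hHT : H ≤ T := le_sup_left
  have htT : t ∈ T := mem_sup_right (mem_zpowers t)
  have hTH : T ≤ normalizer (H : Set G) := sup_le le_normalizer (zpowers_le.mpr htH)
  haveI hH'n : (H.subgroupOf T).Normal := normal_subgroupOf_of_le_normalizer hTH
  have ht2 : t ^ 2 = 1 := by rw [← ht]; exact pow_orderOf_eq_one t
  have hdec : ∀ g ∈ T, g ∈ H ∨ g * t⁻¹ ∈ H := by
    intro g hg
    rw [hT, sup_comm, ← SetLike.mem_coe,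
      coe_mul_of_left_le_normalizer_right (zpowers t) H (zpowers_le.mpr htH)] at hg
    obtain ⟨_, ⟨n, rfl⟩, h, hh, rfl⟩ := Set.mem_mul.mp hg
    rcases Int.even_or_odd n with ⟨m, rfl⟩ | ⟨m, rfl⟩
    · left
      show t ^ (m + m) * h ∈ H
      rw [← two_mul, zpow_mul, zpow_ofNat, ht2, one_zpow, one_mul]; exact hh
    · right
      show t ^ (2 * m + 1) * h * t⁻¹ ∈ H
      rw [zpow_add_one, zpow_mul, zpow_ofNat, ht2, one_zpow, one_mul]
      exact (mem_normalizer_iff.mp htH h).mp hh
  -- the core of `T` is trivial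
  have hTO : Cfsg.pPrimeCore 2 ↥T = ⊥ := by
    have hle : Cfsg.pPrimeCore 2 ↥T ≤ H.subgroupOf T := by
      intro r hr
      by_contra hrH
      set q := QuotientGroup.mk' (H.subgroupOf T)
      have hqr : q r = q ⟨t, htT⟩ := by
        have h1 := (hdec r r.2).resolve_left hrH
        have h2 : (⟨t, htT⟩ : ↥T) * r⁻¹ ∈ H.subgroupOf T := by
          rw [mem_subgroupOf]; simpa using inv_mem h1
        have : q ((⟨t, htT⟩ : ↥T) * r⁻¹) = 1 := (QuotientGroup.eq_one_iff _).mpr h2
        rw [map_mul, map_inv, mul_inv_eq_one] at this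
        exact this.symm
      have h3 : (q r) ^ 2 ^ 1 = 1 := by
        rw [hqr, pow_one, ← map_pow, show (⟨t, htT⟩ : ↥T) ^ 2 = 1 from Subtype.ext ht2, map_one]
      have h4 := eq_one_of_pPower_coprime h3
        ((orderOf_map_dvd q r).trans (orderOf_dvd_natCard _ hr)) (HallCore.coprime_card_pPrimeCore 2 ↥T)
      exact hrH ((QuotientGroup.eq_one_iff r).mp h4)
    let e : ↥(H.subgroupOf T) ≃* ↥H := subgroupOfEquivOfLe hHT
    have h1 : Cfsg.pPrimeCore 2 ↥(H.subgroupOf T) = ⊥ := by
      apply map_injective (f := e.toMonoidHom) e.injective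
      rw [HallCore.map_equiv_pPrimeCore e, Subgroup.map_bot]
      exact hO
    have h2 := HallCore.map_subtype_pPrimeCore (p := 2) (H.subgroupOf T)
    rw [h1, Subgroup.map_bot] at h2
    rw [eq_bot_iff, h2]
    exact le_inf le_rfl hle
  -- `Y` lies in the core of the centraliser of `t` in `T`
  set S := (Cfsg.oddCore ↥(H ⊓ centralizer ({t} : Set G))).map (H ⊓ centralizer ({t} : Set G)).subtype
  have hSH : S ≤ H ⊓ centralizer ({t} : Set G) := map_subtype_le _
  have hScard : (Nat.card S).Coprime 2 := by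
    rw [card_map_of_injective (subtype_injective _)]
    exact HallCore.coprime_card_pPrimeCore 2 _
  set K := centralizer ({(⟨t, htT⟩ : ↥T)} : Set ↥T)
  have hSK : S.subgroupOf T ≤ K := by
    intro s hs
    rw [mem_centralizer_singleton_iff]
    exact Subtype.ext (mem_centralizer_singleton_iff.mp (hSH hs).2)
  haveI : ((S.subgroupOf T).subgroupOf K).Normal := by
    refine ⟨fun s hs g => ?_⟩
    have hg1 : ((g : ↥T) : G) ∈ centralizer ({t} : Set G) :=
      mem_centralizer_singleton_iff.mpr (congrArg Subtype.val (mem_centralizer_singleton_iff.mp g.2))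
    have hg2 : ((g : ↥T) : G) ∈ normalizer ((H ⊓ centralizer ({t} : Set G) : Subgroup G) : Set G) := by
      rw [mem_normalizer_iff]
      intro y
      simp only [SetLike.mem_coe, mem_inf]
      exact and_congr (mem_normalizer_iff.mp (hTH (g : ↥T).2) y) (mem_normalizer_iff.mp (le_normalizer hg1) y)
    exact (mem_normalizer_iff.mp (ComponentsCores.normalizer_le_normalizer_map_subtype _ _ hg2) _).mp hs
  have hYT : Y ≤ T := hY.trans ((hSH.trans inf_le_left).trans hHT)
  have hY' : Y.subgroupOf T ≤ Cfsg.centralizerPPrimeCore 2 (⟨t, htT⟩ : ↥T) := by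
    have hle : (S.subgroupOf T).subgroupOf K ≤ Cfsg.pPrimeCore 2 K := by
      refine ComponentsCores.le_pPrimeCore' ?_
      rw [Nat.card_congr (subgroupOfEquivOfLe hSK).toEquiv,
        Nat.card_congr (subgroupOfEquivOfLe ((hSH.trans inf_le_left).trans hHT)).toEquiv]
      exact hScard
    have := map_mono (f := K.subtype) hle
    rw [map_subgroupOf_eq_of_le hSK] at this
    exact le_trans (comap_mono hY) this
  have hto : orderOf (⟨t, htT⟩ : ↥T) = 2 := by rw [← orderOf_coe]; exact ht
  obtain ⟨E, hE, hYE⟩ : ∃ E : Subgroup ↥T, Cfsg.IsComponent E ∧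
      ¬ Y.subgroupOf T ≤ centralizer (E : Set ↥T) := by
    by_contra hcon
    push Not at hcon
    apply hY1
    rw [← map_subgroupOf_eq_of_le hYT, eq_bot_of_centralizes_components hTO hto hY' hcon, Subgroup.map_bot]
  have hne : ⁅E, zpowers (⟨t, htT⟩ : ↥T)⁆ = E := by
    by_contra h
    exact hYE (hY'.trans (component_centralized hto hTO hE h))
  have hcl : ∀ a : ↥T, a * ⟨t, htT⟩ * a⁻¹ * (⟨t, htT⟩ : ↥T)⁻¹ ∈ H.subgroupOf T := by
    intro a
    rw [mem_subgroupOf]
    show (a : G) * t * (a : G)⁻¹ * t⁻¹ ∈ H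
    rcases hdec a a.2 with h | h
    · have : t * (a : G)⁻¹ * t⁻¹ ∈ H := (mem_normalizer_iff.mp htH _).mp (inv_mem h)
      simpa [mul_assoc] using mul_mem h this
    · have : t * ((a : G) * t⁻¹)⁻¹ * t⁻¹ ∈ H := (mem_normalizer_iff.mp htH _).mp (inv_mem h)
      simpa [mul_assoc] using mul_mem h this
  have hEH : E ≤ H.subgroupOf T := by
    rw [← hne, commutator_le]
    intro a _ b hb
    obtain ⟨n, rfl⟩ := hb
    rcases Int.even_or_odd n with ⟨m, rfl⟩ | ⟨m, rfl⟩
    · show ⁅a, (⟨t, htT⟩ : ↥T) ^ (m + m)⁆ ∈ _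
      rw [← two_mul, zpow_mul, zpow_ofNat, show (⟨t, htT⟩ : ↥T) ^ 2 = 1 from Subtype.ext ht2, one_zpow,
        commutatorElement_one_right]
      exact one_mem _
    · show ⁅a, (⟨t, htT⟩ : ↥T) ^ (2 * m + 1)⁆ ∈ _
      rw [zpow_add_one, zpow_mul, zpow_ofNat, show (⟨t, htT⟩ : ↥T) ^ 2 = 1 from Subtype.ext ht2, one_zpow,
        one_mul, commutatorElement_def]
      exact hcl a
  let e : ↥(H.subgroupOf T) ≃* ↥H := subgroupOfEquivOfLe hHT
  set EH := (E.subgroupOf (H.subgroupOf T)).map e.toMonoidHom with hEHdef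
  have hmap : EH.map H.subtype = E.map T.subtype := by
    rw [hEHdef, Subgroup.map_map,
      show H.subtype.comp e.toMonoidHom = T.subtype.comp (H.subgroupOf T).subtype from rfl,
      ← Subgroup.map_map, map_subgroupOf_eq_of_le hEH]
  have htE : t ∈ normalizer (E.map T.subtype : Set G) := by
    have hn : zpowers (⟨t, htT⟩ : ↥T) ≤ normalizer (E : Set ↥T) := by
      rw [le_normalizer_iff_commutator_le_left, hne]
    exact le_normalizer_map T.subtype (mem_map_of_mem _ (hn (mem_zpowers _)))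
  refine ⟨EH, isComponent_map_mulEquiv e (isComponent_subgroupOf hE hEH), ?_, ?_, ?_, ?_⟩
  · rw [hmap]; exact cj_eq_iff.mpr htE
  · intro y hy
    have h1 := (hY'.trans (cppc_le_normalizer hto hTO hE)) (show (⟨y, hYT hy⟩ : ↥T) ∈ Y.subgroupOf T from hy)
    rw [hmap]
    exact le_normalizer_map T.subtype (mem_map_of_mem _ h1)
  · intro h
    rw [hmap] at h
    refine IsComponent.ne_bot hE (hne.symm.trans ?_)
    rw [commutator_comm, commutator_eq_bot_iff_le_centralizer, zpowers_le, mem_centralizer_iff]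
    exact fun y hy => Subtype.ext (mem_centralizer_iff.mp h (y : G) (mem_map_of_mem T.subtype hy))
  · intro h
    rw [hmap] at h
    refine hYE fun y hy => mem_centralizer_iff.mpr fun z hz => ?_
    exact Subtype.ext (mem_centralizer_iff.mp (h (mem_subgroupOf.mp hy)) (z : G) (mem_map_of_mem T.subtype hz))

end Cfsg.Agent.S1328
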