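import Cfsg.Statements.S1331
import Cfsg.Agent.Lib.SignalizerBasic
import Cfsg.Agent.Lib.SignalizerComplete

set_option autoImplicit false
open Cfsg
open Cfsg.Agent.SignalizerCoprime Cfsg.Agent.SignalizerBasic

namespace Cfsg.Agent.S1331

/-- Let θ be a solvable A-signalizer functor on the finite group G for the prime p, A elementary abelian of rank at least 3, X a member of the family of θ, and B ≤ A with |B| ≥ p². Then X is generated by the subgroups X ∩ ⋂_{d ∈ D, d ≠ 1} θ d, D ranging over the subgroups of index p in B. -/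
theorem result {G : Type*} [Group G] [Finite G] (p : ℕ) [Fact p.Prime] (A : Subgroup G) (hA : Cfsg.IsElementaryAbelian p A) (hA3 : p ^ 3 ≤ Nat.card ↥A) (θ : G → Subgroup G) (hθ : Cfsg.IsSolvableSignalizerFunctor p A θ) (X : Subgroup G) (hX : X ∈ Cfsg.signalizerFamily p A θ) (B : Subgroup G) (hB : B ≤ A) (hB2 : p ^ 2 ≤ Nat.card ↥B) : X = ⨆ D : {D : Subgroup G // D ≤ B ∧ D.relIndex B = p}, X ⊓ Cfsg.signalizerInf (D : Subgroup G) θ := by
  obtain ⟨-, hXp, hXA, hXθ⟩ := hX
  refine le_antisymm ?_ (iSup_le fun _ => inf_le_left)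
  refine le_of_hyperplane_centralizers_le (elementaryAbelian_of_le hA hB) hB2
    (hB.trans (le_normalizer_of_forall hXA)) hXp fun D hDB hD z hz => ?_
  refine Subgroup.mem_iSup_of_mem (⟨D, hDB, hD⟩ : {D : Subgroup G // D ≤ B ∧ D.relIndex B = p})
    (Subgroup.mem_inf.2 ⟨hz.1, ?_⟩)
  refine Subgroup.mem_iInf.2 fun d => ?_
  exact hXθ d (hB (hDB d.2.1)) d.2.2
    ⟨hz.1, Subgroup.mem_centralizer_singleton_iff.2 (hz.2 d d.2.1).symm⟩

end Cfsg.Agent.S1331
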