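import Cfsg.Statements.S1335
import Mathlib

set_option autoImplicit false
open Cfsg

namespace Cfsg.Agent.S1335

/-- Let H be a subgroup of the finite group G, p a prime, k ≥ 1, P a Sylow p-subgroup of H of p-rank at least k, and suppose N_G(X) ≤ H for every subgroup X ≤ P of p-rank at least k. Then P is a Sylow p-subgroup of G. -/
theorem result {G : Type*} [Group G] [Finite G] {p : ℕ} [Fact p.Prime] (k : ℕ) (hk : 1 ≤ k) (H : Subgroup G) (P : Sylow p ↥H) (hP : ¬ Cfsg.PRankLE p (k - 1) ↥(P : Subgroup ↥H)) (hΓ : (∀ X : Subgroup G, X ≤ (P : Subgroup ↥H).map H.subtype → ¬ Cfsg.PRankLE p (k - 1) ↥X → Subgroup.normalizer (X : Set G) ≤ H)) : ∃ Q : Sylow p G, (Q : Subgroup G) = (P : Subgroup ↥H).map H.subtype := by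
  have hXp : IsPGroup p ↥((P : Subgroup ↥H).map H.subtype) := P.isPGroup'.map _
  obtain ⟨Q, hQ⟩ := hXp.exists_le_sylow
  have hN : Subgroup.normalizer (((P : Subgroup ↥H).map H.subtype : Subgroup G) : Set G) ≤ H := by
    refine hΓ _ le_rfl fun hle => hP ?_
    intro A hA hAp
    let e := Subgroup.equivMapOfInjective (P : Subgroup ↥H) H.subtype H.subtype_injective
    have hc : IsMulCommutative ↥(A.map e.toMonoidHom) := by
      refine ⟨⟨fun a b => ?_⟩⟩
      obtain ⟨a0, ha0, ha⟩ := a.2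
      obtain ⟨b0, hb0, hb⟩ := b.2
      have hab : (⟨a0, ha0⟩ : A) * ⟨b0, hb0⟩ = ⟨b0, hb0⟩ * ⟨a0, ha0⟩ := hA.is_comm.comm _ _
      have hab' : a0 * b0 = b0 * a0 := congrArg Subtype.val hab
      apply Subtype.ext
      rw [Subgroup.coe_mul, Subgroup.coe_mul, ← ha, ← hb, ← map_mul, ← map_mul, hab']
    have := hle (A.map e.toMonoidHom) hc (by
      rintro b ⟨a, ha, rfl⟩
      rw [← map_pow, hAp a ha, map_one])
    rwa [Nat.card_congr (Subgroup.equivMapOfInjective A e.toMonoidHom e.injective).toEquiv.symm] at this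
  refine ⟨Q, ?_⟩
  by_contra hne
  have hlt : (P : Subgroup ↥H).map H.subtype < (Q : Subgroup G) := lt_of_le_of_ne hQ (Ne.symm hne)
  haveI : Group.IsNilpotent ↥(Q : Subgroup G) := Q.isPGroup'.isNilpotent
  set X := (P : Subgroup ↥H).map H.subtype with hX
  have h1 : X.subgroupOf (Q : Subgroup G) < ⊤ := by
    rw [lt_top_iff_ne_top, Ne, Subgroup.subgroupOf_eq_top]
    exact not_le_of_gt hlt
  have h2 := normalizerCondition_of_isNilpotent (G := ↥(Q : Subgroup G)) _ h1
  obtain ⟨g, hg, hgX⟩ := SetLike.exists_of_lt h2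
  have hgN : (g : G) ∈ Subgroup.normalizer (X : Set G) := by
    rw [Subgroup.mem_normalizer_iff]
    intro x
    constructor
    · intro hx
      have := (Subgroup.mem_normalizer_iff.mp hg ⟨x, hQ hx⟩).mp (by simpa [Subgroup.mem_subgroupOf] using hx)
      simpa [Subgroup.mem_subgroupOf] using this
    · intro hx
      have hxQ : x ∈ (Q : Subgroup G) := by
        have := Subgroup.mul_mem _ (Subgroup.mul_mem _ (Subgroup.inv_mem _ g.2) (hQ hx)) g.2
        simpa [mul_assoc] using this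
      have := (Subgroup.mem_normalizer_iff.mp hg ⟨x, hxQ⟩).mpr (by simpa [Subgroup.mem_subgroupOf] using hx)
      simpa [Subgroup.mem_subgroupOf] using this
  set Y : Subgroup G := Subgroup.normalizer (X : Set G) ⊓ (Q : Subgroup G) with hY
  have hYH : Y ≤ H := inf_le_left.trans hN
  have hYp : IsPGroup p ↥(Y.subgroupOf H) :=
    (Q.isPGroup'.to_le inf_le_right).of_equiv (Subgroup.subgroupOfEquivOfLe hYH).symm
  have hPY : (P : Subgroup ↥H) ≤ Y.subgroupOf H := by
    intro x hx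
    have : (x : G) ∈ X := ⟨x, hx, rfl⟩
    exact ⟨Subgroup.le_normalizer this, hQ this⟩
  have heq := P.is_maximal' hYp hPY
  have : (g : G) ∈ X := by
    have hgY : (⟨(g : G), hYH ⟨hgN, g.2⟩⟩ : H) ∈ Y.subgroupOf H := ⟨hgN, g.2⟩
    rw [heq] at hgY
    exact ⟨_, hgY, rfl⟩
  exact hgX (by simpa [Subgroup.mem_subgroupOf] using this)

end Cfsg.Agent.S1335
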