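import Cfsg.Statements.S1336
import Mathlib

set_option autoImplicit false
open Cfsg

namespace Cfsg.Agent.S1336

variable {G : Type*} [Group G]

/-- Vertices of the commuting graph. -/
def Vert (p : ℕ) (E : Subgroup G) : Prop := IsElementaryAbelian p E ∧ p ^ 1 ≤ Nat.card ↥E

/-- Edges of the commuting graph. -/
def Edge (p : ℕ) (A B : Subgroup G) : Prop :=
  IsElementaryAbelian p A ∧ p ^ 1 ≤ Nat.card ↥A ∧ IsElementaryAbelian p B ∧
    p ^ 1 ≤ Nat.card ↥B ∧ ∀ a ∈ A, ∀ b ∈ B, a * b = b * a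

theorem edge_symm {p : ℕ} {A B : Subgroup G} (h : Edge p A B) : Edge p B A :=
  ⟨h.2.2.1, h.2.2.2.1, h.1, h.2.1, fun a ha b hb => (h.2.2.2.2 b hb a ha).symm⟩

theorem chain_symm {p : ℕ} {A B : Subgroup G} (h : Relation.ReflTransGen (Edge p) A B) :
    Relation.ReflTransGen (Edge p) B A := by
  induction h with
  | refl => exact Relation.ReflTransGen.refl
  | tail _ h2 ih => exact Relation.ReflTransGen.head (edge_symm h2) ih

/-- Conjugate of a subgroup. -/
def cj (g : G) (E : Subgroup G) : Subgroup G := E.map (MulAut.conj g).toMonoidHom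

theorem cj_cj (g h : G) (E : Subgroup G) : cj g (cj h E) = cj (g * h) E := by
  rw [cj, cj, cj, Subgroup.map_map]
  congr 1
  ext x
  simp [mul_assoc]

theorem cj_one (E : Subgroup G) : cj (1 : G) E = E := by
  rw [cj]
  convert Subgroup.map_id E
  ext x
  simp

theorem mem_cj {g x : G} {E : Subgroup G} : x ∈ cj g E ↔ g⁻¹ * x * g ∈ E := by
  constructor
  · rintro ⟨e, he, rfl⟩
    simpa [mul_assoc] using he
  · intro h
    exact ⟨g⁻¹ * x * g, h, by simp [mul_assoc]⟩

theorem vert_cj {p : ℕ} {E : Subgroup G} (g : G) (h : Vert p E) : Vert p (cj g E) := by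
  refine ⟨⟨⟨⟨fun a b => ?_⟩⟩, ?_⟩, ?_⟩
  · obtain ⟨a0, ha0, ha⟩ := a.2
    obtain ⟨b0, hb0, hb⟩ := b.2
    have hab : a0 * b0 = b0 * a0 :=
      congrArg Subtype.val (h.1.1.is_comm.comm (⟨a0, ha0⟩ : E) ⟨b0, hb0⟩)
    apply Subtype.ext
    rw [Subgroup.coe_mul, Subgroup.coe_mul, ← ha, ← hb, ← map_mul, ← map_mul, hab]
  · rintro x ⟨a, ha, rfl⟩
    rw [← map_pow, h.1.2 a ha, map_one]
  · exact h.2.trans (le_of_eq (Nat.card_congr
      (Subgroup.equivMapOfInjective E (MulAut.conj g).toMonoidHom (MulAut.conj g).injective).toEquiv))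

theorem chain_cj {p : ℕ} {A B : Subgroup G} (g : G) (h : Relation.ReflTransGen (Edge p) A B) :
    Relation.ReflTransGen (Edge p) (cj g A) (cj g B) := by
  refine h.lift _ ?_
  rintro X Y ⟨hX, hX', hY, hY', hc⟩
  refine ⟨(vert_cj g ⟨hX, hX'⟩).1, (vert_cj g ⟨hX, hX'⟩).2, (vert_cj g ⟨hY, hY'⟩).1,
    (vert_cj g ⟨hY, hY'⟩).2, ?_⟩
  rintro a ⟨a0, ha, rfl⟩ b ⟨b0, hb, rfl⟩
  rw [← map_mul, ← map_mul, hc a0 ha b0 hb]

theorem vert_zpowers {p : ℕ} {x : G} (hx : orderOf x = p) : Vert p (Subgroup.zpowers x) := by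
  refine ⟨⟨inferInstance, ?_⟩, by rw [Nat.card_zpowers, hx, pow_one]⟩
  intro a ha
  obtain ⟨k, rfl⟩ := Subgroup.mem_zpowers_iff.mp ha
  rw [← zpow_natCast, ← zpow_mul, mul_comm, zpow_mul, zpow_natCast, ← hx, pow_orderOf_eq_one,
    one_zpow]

theorem exists_orderOf_of_vert [Finite G] {p : ℕ} [hp : Fact p.Prime] {E : Subgroup G}
    (h : Vert p E) : ∃ x ∈ E, orderOf x = p := by
  have h1 : E ≠ ⊥ := by
    intro hb
    have := h.2
    rw [hb, Subgroup.card_bot, pow_one] at this
    exact absurd this (not_le_of_gt hp.out.one_lt)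
  obtain ⟨x, hx, hx1⟩ := E.bot_or_exists_ne_one.resolve_left h1
  exact ⟨x, hx, orderOf_eq_prime (h.1.2 x hx) hx1⟩

theorem isPGroup_of_vert {p : ℕ} [hp : Fact p.Prime] {E : Subgroup G}
    (h : Vert p E) : IsPGroup p E :=
  fun a => ⟨1, by rw [pow_one]; exact Subtype.ext (h.1.2 a a.2)⟩

/-- Let G be finite and p prime. Then G has a proper subgroup H with p ∣ |H| and p ∤ |H ∩ gHg⁻¹| for every g ∉ H (a strongly p-embedded subgroup) if and only if G is not 1-connected for p. -/
theorem result {G : Type*} [Group G] [Finite G] (p : ℕ) [Fact p.Prime] : (∃ H : Subgroup G, H ≠ ⊤ ∧ p ∣ Nat.card ↥H ∧ ∀ g : G, g ∉ H → ¬ p ∣ Nat.card ↥(H ⊓ H.map (MulAut.conj g).toMonoidHom)) ↔ ¬ Cfsg.IsKConnected p 1 G := by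
  constructor
  · rintro ⟨H, hH, hpH, hse⟩ hconn
    apply hH
    obtain ⟨x, hx⟩ := exists_prime_orderOf_dvd_card' p hpH
    have hxG : orderOf (x : G) = p := by rw [← hx, Subgroup.orderOf_coe]
    have key : ∀ g y : G, orderOf y = p → y ∈ H → g⁻¹ * y * g ∈ H → g ∈ H := by
      intro g y hy hyH hyg
      by_contra hg
      apply hse g hg
      rw [← hy, ← Subgroup.orderOf_mk y (H := H ⊓ cj g H) ⟨hyH, mem_cj.mpr hyg⟩]
      exact orderOf_dvd_natCard _
    have hall : ∀ E : Subgroup G, Vert p E → E ≤ H := by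
      intro E hE
      have hc : Relation.ReflTransGen (Edge p) (Subgroup.zpowers (x : G)) E :=
        hconn _ _ (vert_zpowers hxG).1 (vert_zpowers hxG).2 hE.1 hE.2
      clear hE
      induction hc with
      | refl => exact Subgroup.zpowers_le.mpr x.2
      | tail _ h2 ih =>
        intro b hb
        obtain ⟨y, hyA, hy⟩ := exists_orderOf_of_vert ⟨h2.1, h2.2.1⟩
        refine key b y hy (ih hyA) ?_
        rw [mul_assoc, h2.2.2.2.2 y hyA b hb, inv_mul_cancel_left]
        exact ih hyA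
    refine (Subgroup.eq_top_iff' H).mpr fun g => key g x hxG x.2 ?_
    exact hall _ (vert_cj g⁻¹ (vert_zpowers hxG))
      ⟨x, Subgroup.mem_zpowers _, by simp⟩
  · intro hnc
    have hex : ∃ E E' : Subgroup G, Vert p E ∧ Vert p E' ∧ ¬ Relation.ReflTransGen (Edge p) E E' := by
      by_contra hcon
      apply hnc
      intro E E' h1 h2 h3 h4
      by_contra h5
      exact hcon ⟨E, E', ⟨h1, h2⟩, ⟨h3, h4⟩, h5⟩
    obtain ⟨E₀, F, hE₀, hF, hEF⟩ := hex
    let H : Subgroup G :=
      { carrier := {g | Relation.ReflTransGen (Edge p) (cj g E₀) E₀}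
        one_mem' := by
          show Relation.ReflTransGen (Edge p) (cj 1 E₀) E₀
          rw [cj_one]
        mul_mem' := by
          intro a b ha hb
          show Relation.ReflTransGen (Edge p) (cj (a * b) E₀) E₀
          rw [← cj_cj]
          exact (chain_cj a hb).trans ha
        inv_mem' := by
          intro a ha
          show Relation.ReflTransGen (Edge p) (cj a⁻¹ E₀) E₀
          have := chain_cj a⁻¹ ha
          rw [cj_cj, inv_mul_cancel, cj_one] at this
          exact chain_symm this }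
    obtain ⟨P, hP⟩ := (isPGroup_of_vert hE₀).exists_le_sylow
    have hPbot : (P : Subgroup G) ≠ ⊥ := by
      intro hb
      obtain ⟨x, hx, hxo⟩ := exists_orderOf_of_vert hE₀
      have h1 : x ∈ (⊥ : Subgroup G) := hb ▸ hP hx
      rw [Subgroup.mem_bot.mp h1, orderOf_one] at hxo
      exact (Fact.out : p.Prime).one_lt.ne hxo
    haveI : Nontrivial ↥(P : Subgroup G) := (Subgroup.nontrivial_iff_ne_bot _).mpr hPbot
    haveI := P.isPGroup'.center_nontrivial
    obtain ⟨z, hz⟩ : ∃ z : ↥(Subgroup.center ↥(P : Subgroup G)), orderOf z = p := by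
      apply exists_prime_orderOf_dvd_card'
      obtain ⟨n, hn0, hn⟩ :=
        (IsPGroup.nontrivial_iff_card (P.isPGroup'.to_subgroup _)).mp this
      rw [hn]
      exact dvd_pow_self p hn0.ne'
    have hzo : orderOf ((z : ↥(P : Subgroup G)) : G) = p := by
      rw [Subgroup.orderOf_coe, Subgroup.orderOf_coe, hz]
    have hPconn : ∀ E : Subgroup G, Vert p E → E ≤ (P : Subgroup G) →
        Relation.ReflTransGen (Edge p) E E₀ := by
      have hedge : ∀ E : Subgroup G, Vert p E → E ≤ (P : Subgroup G) →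
          Edge p E (Subgroup.zpowers ((z : ↥(P : Subgroup G)) : G)) := by
        intro E hE hle
        refine ⟨hE.1, hE.2, (vert_zpowers hzo).1, (vert_zpowers hzo).2, ?_⟩
        intro a ha b hb
        obtain ⟨k, rfl⟩ := Subgroup.mem_zpowers_iff.mp hb
        have : Commute a ((z : ↥(P : Subgroup G)) : G) :=
          congrArg Subtype.val (Subgroup.mem_center_iff.mp z.2 ⟨a, hle ha⟩)
        exact this.zpow_right k
      intro E hE hle
      exact (Relation.ReflTransGen.single (hedge E hE hle)).trans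
        (Relation.ReflTransGen.single (edge_symm (hedge E₀ hE₀ hP)))
    have hPH : (P : Subgroup G) ≤ H := by
      intro g hg
      apply hPconn _ (vert_cj g hE₀)
      rintro y ⟨e, he, rfl⟩
      exact Subgroup.mul_mem _ (Subgroup.mul_mem _ hg (hP he)) (Subgroup.inv_mem _ hg)
    refine ⟨H, ?_, ?_, ?_⟩
    · intro htop
      apply hEF
      obtain ⟨Q, hQ⟩ := (isPGroup_of_vert hF).exists_le_sylow
      obtain ⟨g, hg⟩ := MulAction.exists_smul_eq G Q P
      have hgF : cj g F ≤ (P : Subgroup G) := by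
        rintro y ⟨e, he, rfl⟩
        rw [← hg, Sylow.coe_subgroup_smul]
        exact Subgroup.smul_mem_pointwise_smul _ _ _ (hQ he)
      have h1 := chain_cj g⁻¹ (hPconn _ (vert_cj g hF) hgF)
      rw [cj_cj, inv_mul_cancel, cj_one] at h1
      have h2 : g⁻¹ ∈ H := by rw [htop]; exact Subgroup.mem_top _
      exact chain_symm (h1.trans h2)
    · obtain ⟨x, hxE, hx⟩ := exists_orderOf_of_vert hE₀
      rw [← hx, ← Subgroup.orderOf_mk x (H := H) (hPH (hP hxE))]
      exact orderOf_dvd_natCard _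
    · intro g hg hdvd
      obtain ⟨x, hx⟩ := exists_prime_orderOf_dvd_card' p hdvd
      apply hg
      have hcomp : ∀ y : G, orderOf y = p → y ∈ H →
          Relation.ReflTransGen (Edge p) (Subgroup.zpowers y) E₀ := by
        intro y hy hyH
        have hzp : IsPGroup p ↥(Subgroup.zpowers (⟨y, hyH⟩ : H)) :=
          IsPGroup.of_card (n := 1) (by rw [Nat.card_zpowers, Subgroup.orderOf_mk, hy, pow_one])
        obtain ⟨Q, hQ⟩ := hzp.exists_le_sylow
        obtain ⟨h, hh⟩ := MulAction.exists_smul_eq (↥H) Q (P.subtype hPH)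
        have hle : cj (h : G) (Subgroup.zpowers y) ≤ (P : Subgroup G) := by
          rw [cj, MonoidHom.map_zpowers, Subgroup.zpowers_le]
          have : MulAut.conj h ⟨y, hyH⟩ ∈ ((h • Q : Sylow p H) : Subgroup H) := by
            rw [Sylow.coe_subgroup_smul]
            exact Subgroup.smul_mem_pointwise_smul _ _ _ (hQ (Subgroup.mem_zpowers _))
          rw [hh, Sylow.coe_subtype, Subgroup.mem_subgroupOf] at this
          exact this
        have h1 := chain_cj (h : G)⁻¹ (hPconn _ (vert_cj _ (vert_zpowers hy)) hle)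
        rw [cj_cj, inv_mul_cancel, cj_one] at h1
        exact h1.trans (H.inv_mem h.2)
      have hxo : orderOf (x : G) = p := by rw [← hx, Subgroup.orderOf_coe]
      have hx2 : g⁻¹ * (x : G) * g ∈ H := mem_cj.mp x.2.2
      have hxo2 : orderOf (g⁻¹ * (x : G) * g) = p := by
        have := MulEquiv.orderOf_eq (MulAut.conj g⁻¹) (x : G)
        simpa [hxo] using this
      have h3 := chain_cj g (hcomp _ hxo2 hx2)
      have h4 : cj g (Subgroup.zpowers (g⁻¹ * (x : G) * g)) = Subgroup.zpowers (x : G) := by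
        rw [cj, MonoidHom.map_zpowers]
        simp [mul_assoc]
      rw [h4] at h3
      exact (chain_symm h3).trans (hcomp _ hxo x.2.1)

end Cfsg.Agent.S1336
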