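import Cfsg.Statements.S1337
import Cfsg.Agent.Lib.NormalRankTwo

set_option autoImplicit false
open Cfsg

namespace Cfsg.Agent.S1337

open PGroupsBasic

variable {P : Type*} [Group P] [Finite P] {p : ℕ}

theorem elem_inf {E : Subgroup P} (hE : IsElementaryAbelian p E) (H : Subgroup P) :
    IsElementaryAbelian p (E ⊓ H) := isElementaryAbelian_mono hE inf_le_left

theorem not_pRankLE_of_elem {Q E : Subgroup P} (hle : E ≤ Q) (hE : IsElementaryAbelian p E)
    {k : ℕ} (hc : p ^ k < Nat.card E) : ¬ PRankLE p k Q := by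
  intro h
  refine absurd (h (E.subgroupOf Q) ?_ ?_) (not_le_of_gt ?_)
  · exact isMulCommutative_of_forall fun x hx y hy => Subtype.ext (comm_of_isMulCommutative hE.1 hx hy)
  · intro a ha
    exact Subtype.ext (by simpa using hE.2 (a : P) ha)
  · rwa [Nat.card_congr (Subgroup.subgroupOfEquivOfLe hle).toEquiv]

theorem card_ge_pow_three [hp : Fact p.Prime] {E : Subgroup P} (hE : IsElementaryAbelian p E)
    (h : p ^ 2 < Nat.card E) : p ^ 3 ≤ Nat.card E := by
  obtain ⟨n, hn⟩ := exists_card_eq_pow_of_isPGroup (p := p) (isPGroup_of_isElementaryAbelian hE)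
  rw [hn] at h ⊢
  exact Nat.pow_le_pow_right hp.out.pos ((Nat.pow_lt_pow_iff_right hp.out.one_lt).mp h)

theorem exists_in_centralizer [Fact p.Prime] {Q : Subgroup P} (h : ¬ PRankLE p 2 Q) :
    ∃ E : Subgroup P, E ≤ Q ∧ IsElementaryAbelian p E ∧ p ^ 3 ≤ Nat.card E := by
  obtain ⟨F, hF, hFc⟩ := NormalRankTwo.exists_elementary_of_not_pRankLE h
  refine ⟨F.map Q.subtype, Subgroup.map_subtype_le F, isElementaryAbelian_map_hom hF Q.subtype, ?_⟩
  rwa [← Nat.card_congr (F.equivMapOfInjective _ Q.subtype_injective).toEquiv]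

/-- The centralizer of a normal subgroup of order p^2 has index at most p. -/
theorem relIndex_centralizer_le [hp : Fact p.Prime] (hP : IsPGroup p P) {U : Subgroup P} [U.Normal]
    (hUe : IsElementaryAbelian p U) (hU : Nat.card U = p ^ 2) (E : Subgroup P) :
    (Subgroup.centralizer (U : Set P)).relIndex E ≤ p := by
  obtain ⟨u0, hu0, hu0o⟩ := exists_orderOf_eq_of_ne_bot (p := p) (hP.to_subgroup _)
    (inf_center_ne_bot hP (N := U) (by
      intro h
      rw [h, Subgroup.card_bot] at hU
      exact absurd hU.symm (Nat.one_lt_pow two_ne_zero hp.out.one_lt).ne'))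
  haveI : (Subgroup.zpowers u0).Normal := normal_of_le_center (Subgroup.zpowers_le.mpr hu0.2)
  have hlt : Subgroup.zpowers u0 < U := by
    refine lt_of_le_of_ne (Subgroup.zpowers_le.mpr hu0.1) fun h => ?_
    rw [← h, Nat.card_zpowers, hu0o] at hU
    have := Nat.pow_right_injective hp.out.two_le (show p ^ 1 = p ^ 2 by rw [pow_one]; exact hU)
    omega
  obtain ⟨u, hu, hu'⟩ := SetLike.exists_of_lt hlt
  have huo : orderOf u = p := orderOf_eq_prime (hUe.2 u hu) fun h => hu' (h ▸ one_mem _)
  have hUeq : Subgroup.zpowers u0 ⊔ Subgroup.zpowers u = U := by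
    refine Subgroup.eq_of_le_of_card_ge (sup_le hlt.le (Subgroup.zpowers_le.mpr hu)) ?_
    rw [card_sup_zpowers huo hu', Nat.card_zpowers, hu0o, hU, pow_two]
  -- commutators with u land in the central line
  have hcomm : ∀ g : P, g * u * g⁻¹ * u⁻¹ ∈ Subgroup.zpowers u0 := by
    intro g
    have hnormal : (U.map (QuotientGroup.mk' (Subgroup.zpowers u0))).Normal :=
      Subgroup.Normal.map inferInstance _ (QuotientGroup.mk'_surjective _)
    have hcard : Nat.card (U.map (QuotientGroup.mk' (Subgroup.zpowers u0))) = p := by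
      rw [← Subgroup.relIndex_ker, QuotientGroup.ker_mk']
      have h := Subgroup.relIndex_mul_relIndex ⊥ _ U bot_le hlt.le
      rw [Subgroup.relIndex_bot_left, Subgroup.relIndex_bot_left, Nat.card_zpowers, hu0o, hU, pow_two] at h
      exact Nat.eq_of_mul_eq_mul_left hp.out.pos h
    have := Subgroup.mem_center_iff.mp (le_center_of_card_eq_prime (hP.to_quotient _) hcard
      ⟨u, hu, rfl⟩) (QuotientGroup.mk' (Subgroup.zpowers u0) g)
    apply (QuotientGroup.eq_one_iff _).mp
    show QuotientGroup.mk' (Subgroup.zpowers u0) (g * u * g⁻¹ * u⁻¹) = 1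
    rw [map_mul, map_mul, map_mul, this, map_inv, map_inv, mul_inv_cancel_right, mul_inv_cancel]
  let f : ↥E ⧸ (Subgroup.centralizer (U : Set P)).subgroupOf E → ↥(Subgroup.zpowers u0) :=
    Quotient.lift (fun g => ⟨(g : P) * u * (g : P)⁻¹ * u⁻¹, hcomm g⟩) (by
      intro a b hab
      have hab' : (a⁻¹ * b : E) ∈ (Subgroup.centralizer (U : Set P)).subgroupOf E :=
        QuotientGroup.leftRel_apply.mp hab
      have h : u * ((a : P)⁻¹ * b) = (a : P)⁻¹ * b * u := hab' u hu
      apply Subtype.ext
      show (a : P) * u * (a : P)⁻¹ * u⁻¹ = (b : P) * u * (b : P)⁻¹ * u⁻¹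
      congr 1
      calc (a : P) * u * (a : P)⁻¹ = a * (u * ((a : P)⁻¹ * b)) * (b : P)⁻¹ := by group
        _ = (b : P) * u * (b : P)⁻¹ := by rw [h]; group)
  have hf : Function.Injective f := by
    intro x y
    induction x using QuotientGroup.induction_on with | _ a => ?_
    induction y using QuotientGroup.induction_on with | _ b => ?_
    intro h
    have h' : (a : P) * u * (a : P)⁻¹ = (b : P) * u * (b : P)⁻¹ :=
      mul_right_cancel (congrArg Subtype.val h)
    refine QuotientGroup.eq.mpr ?_
    rw [Subgroup.mem_subgroupOf, ← hUeq, Subgroup.sup_eq_closure, Subgroup.centralizer_closure,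
      Subgroup.mem_centralizer_iff]
    rintro v (hv | hv)
    · exact (Subgroup.mem_center_iff.mp ((Subgroup.zpowers_le.mpr hu0.2) hv) _).symm
    · obtain ⟨k, rfl⟩ := Subgroup.mem_zpowers_iff.mp hv
      refine ((show Commute u ((a⁻¹ * b : E) : P) from ?_).zpow_left k).eq
      show u * ((a : P)⁻¹ * b) = (a : P)⁻¹ * b * u
      calc u * ((a : P)⁻¹ * b) = (a : P)⁻¹ * ((a : P) * u * (a : P)⁻¹) * b := by group
        _ = (a : P)⁻¹ * b * u := by rw [h']; group
  refine le_trans (Nat.card_le_card_of_injective f hf) ?_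
  rw [Nat.card_zpowers, hu0o]

/-- Let P be a finite p-group of p-rank greater than 2. Then P has a normal elementary abelian subgroup U of order p², and for every elementary abelian X ≤ P with |X| ≥ p²: X is joined to U by a chain of pairwise commuting elementary abelian subgroups of order ≥ p² if and only if C_P(X) has p-rank greater than 2. -/
theorem result {P : Type*} [Group P] [Finite P] (p : ℕ) [Fact p.Prime] (hP : IsPGroup p P) (hrk : ¬ Cfsg.PRankLE p 2 P) : ∃ U : Subgroup P, U.Normal ∧ Cfsg.IsElementaryAbelian p U ∧ Nat.card ↥U = p ^ 2 ∧ ∀ X : Subgroup P, Cfsg.IsElementaryAbelian p X → p ^ 2 ≤ Nat.card ↥X → (Relation.ReflTransGen (fun A B : Subgroup P => Cfsg.IsElementaryAbelian p A ∧ p ^ 2 ≤ Nat.card ↥A ∧ Cfsg.IsElementaryAbelian p B ∧ p ^ 2 ≤ Nat.card ↥B ∧ ∀ a ∈ A, ∀ b ∈ B, a * b = b * a) X U ↔ ¬ Cfsg.PRankLE p 2 ↥(Subgroup.centralizer (X : Set P))) := by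
  obtain ⟨U, hUn, hUe, hUc⟩ := NormalRankTwo.exists_normal_elementary_sq hP hrk
  haveI := hUn
  refine ⟨U, hUn, hUe, hUc, fun X hX hXc => ?_⟩
  -- every rank three elementary abelian subgroup meets the centralizer of U in order at least p^2
  have hmeet : ∀ E : Subgroup P, IsElementaryAbelian p E → p ^ 3 ≤ Nat.card E →
      p ^ 2 ≤ Nat.card ↥(E ⊓ Subgroup.centralizer (U : Set P)) := by
    intro E hE hEc
    have hle := relIndex_centralizer_le hP hUe hUc E
    have hmul := Subgroup.relIndex_mul_relIndex ⊥ (E ⊓ Subgroup.centralizer (U : Set P)) E bot_le inf_le_left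
    rw [Subgroup.relIndex_bot_left, Subgroup.relIndex_bot_left, Subgroup.inf_relIndex_left] at hmul
    have hpos := (Fact.out : p.Prime).pos
    by_contra hlt
    have h1 := Nat.mul_lt_mul_of_lt_of_le (Nat.not_le.mp hlt) hle hpos
    rw [hmul, ← pow_succ] at h1
    norm_num at h1
    omega
  have hUrk : ¬ PRankLE p 2 ↥(Subgroup.centralizer (U : Set P)) := by
    obtain ⟨E, hE, hEc⟩ := NormalRankTwo.exists_elementary_of_not_pRankLE hrk
    have hV : IsElementaryAbelian p (E ⊓ Subgroup.centralizer (U : Set P) ⊔ U) :=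
      isElementaryAbelian_sup (elem_inf hE _) hUe inf_le_right
    have hVle : E ⊓ Subgroup.centralizer (U : Set P) ⊔ U ≤ Subgroup.centralizer (U : Set P) :=
      sup_le inf_le_right (le_centralizer_of_isMulCommutative hUe.1)
    refine not_pRankLE_of_elem hVle hV ?_
    by_contra hle
    have h1 : U = E ⊓ Subgroup.centralizer (U : Set P) ⊔ U :=
      Subgroup.eq_of_le_of_card_ge le_sup_right (by rw [hUc]; omega)
    have h2 : E ⊓ Subgroup.centralizer (U : Set P) ≤ U := le_sup_left.trans h1.ge
    have h3 : U ≤ E := by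
      have := Subgroup.eq_of_le_of_card_ge h2 (by rw [hUc]; exact hmeet E hE hEc)
      exact this.symm.le.trans inf_le_left
    have h4 : E ≤ Subgroup.centralizer (U : Set P) :=
      (le_centralizer_of_isMulCommutative hE.1).trans (Subgroup.centralizer_le h3)
    have h5 : E ≤ U := (le_inf le_rfl h4).trans h2
    have h6 := (hEc.trans (Subgroup.card_le_of_le h5))
    rw [hUc] at h6
    have := (Nat.pow_le_pow_iff_right (Fact.out : p.Prime).one_lt).mp h6
    omega
  constructor
  · intro h
    rcases h.cases_head with rfl | ⟨Y, hXY, hrest⟩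
    · exact hUrk
    · by_cases hYX : Y ≤ X
      · have hX3 : X = Y ∨ p ^ 2 < Nat.card X := by
          rcases lt_or_eq_of_le hXc with hlt | heq
          · exact Or.inr hlt
          · exact Or.inl (Subgroup.eq_of_le_of_card_ge hYX (by rw [← heq]; exact hXY.2.2.2.1)).symm
        rcases hX3 with rfl | hlt
        · -- a loop at X; use the rest of the chain
          clear hXY hYX
          induction hrest using Relation.ReflTransGen.head_induction_on with
          | refl => exact hUrk
          | head hstep hrest' ih =>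
            rename_i a c
            by_cases hca : c ≤ a
            · rcases lt_or_eq_of_le hstep.2.1 with hlt | heq
              · exact not_pRankLE_of_elem (le_centralizer_of_isMulCommutative hstep.1.1) hstep.1 hlt
              · have : c = a := Subgroup.eq_of_le_of_card_ge hca (by rw [← heq]; exact hstep.2.2.2.1)
                exact this ▸ ih hstep.2.2.1 hstep.2.2.2.1 (this.symm ▸ h)
            · have hle : a ⊔ c ≤ Subgroup.centralizer (a : Set P) :=
                sup_le (le_centralizer_of_isMulCommutative hstep.1.1) fun b hb a ha => hstep.2.2.2.2 a ha b hb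
              refine not_pRankLE_of_elem hle (isElementaryAbelian_sup hstep.1 hstep.2.2.1
                fun a ha b hb => (hstep.2.2.2.2 a ha b hb).symm) ?_
              refine lt_of_le_of_lt hstep.2.1 (lt_of_le_of_ne (Subgroup.card_le_of_le le_sup_left) ?_)
              intro hc
              exact hca (le_sup_right.trans (Subgroup.eq_of_le_of_card_ge le_sup_left hc.ge).ge)
        · exact not_pRankLE_of_elem (le_centralizer_of_isMulCommutative hX.1) hX hlt
      · have hle : X ⊔ Y ≤ Subgroup.centralizer (X : Set P) :=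
          sup_le (le_centralizer_of_isMulCommutative hX.1) fun b hb a ha => hXY.2.2.2.2 a ha b hb
        refine not_pRankLE_of_elem hle (isElementaryAbelian_sup hX hXY.2.2.1
          fun a ha b hb => (hXY.2.2.2.2 a ha b hb).symm) ?_
        refine lt_of_le_of_lt hXc (lt_of_le_of_ne (Subgroup.card_le_of_le le_sup_left) ?_)
        intro hc
        exact hYX (le_sup_right.trans (Subgroup.eq_of_le_of_card_ge le_sup_left hc.ge).ge)
  · intro h
    obtain ⟨F, hFX, hF, hFc⟩ := exists_in_centralizer h
    have hW := hmeet F hF hFc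
    have hF2 : p ^ 2 ≤ Nat.card F :=
      (Nat.pow_le_pow_right (Fact.out : p.Prime).pos (by norm_num)).trans hFc
    refine Relation.ReflTransGen.head ⟨hX, hXc, hF, hF2, fun a ha b hb => hFX hb a ha⟩ ?_
    refine Relation.ReflTransGen.head ⟨hF, hF2, elem_inf hF _, hW,
      fun a ha b hb => comm_of_isMulCommutative hF.1 ha hb.1⟩ ?_
    exact Relation.ReflTransGen.single
      ⟨elem_inf hF _, hW, hUe, hUc.ge, fun a ha b hb => (ha.2 b hb).symm⟩

end Cfsg.Agent.S1337
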