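import Cfsg.Statements.S1338
import Cfsg.Agent.S0122

set_option autoImplicit false
open Cfsg

namespace Cfsg.Agent.S1338

open Subgroup Cfsg.Agent.PGroupsBasic

theorem cube_identity {H : Type*} [CommGroup H] (u v w : H) (hv : v ^ 3 = 1) (hw : w ^ 3 = 1) :
    u * w⁻¹ * (w * v⁻¹)⁻¹ * (w * v⁻¹ * (v * u⁻¹)⁻¹)⁻¹ = 1 := by
  have h : u * w⁻¹ * (w * v⁻¹)⁻¹ * (w * v⁻¹ * (v * u⁻¹)⁻¹)⁻¹ = v ^ 3 * (w ^ 3)⁻¹ := by
    apply Additive.ofMul.injective
    simp only [ofMul_mul, ofMul_inv, ofMul_pow]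
    abel
  rw [h, hv, hw, inv_one, one_mul]

theorem card_le_ker_mul_map {G H : Type*} [Group G] [Finite G] [Group H] (f : G →* H)
    (K : Subgroup G) : Nat.card K ≤ Nat.card f.ker * Nat.card (K.map f) := by
  have h := card_mul_index (f.comp K.subtype).ker
  rw [index_ker, MonoidHom.range_comp, range_subtype] at h
  rw [← h]
  refine Nat.mul_le_mul_right _ (Nat.card_le_card_of_injective
    (fun x : (f.comp K.subtype).ker => (⟨(x : K), x.2⟩ : f.ker)) ?_)
  intro x y hxy
  exact Subtype.ext (Subtype.ext (congrArg (fun z : f.ker => (z : G)) hxy))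

theorem centralizer_card {P : Type*} [Group P] [Finite P] {E : Subgroup P} [hEn : E.Normal]
    (hE : Cfsg.IsElementaryAbelian 3 E) (hE4 : Nat.card E = 3 ^ 4) {a : P} (ha : a ^ 3 = 1) :
    9 ≤ Nat.card (E ⊓ centralizer ({a} : Set P) : Subgroup P) := by
  have hc : ∀ u v : E, u * v = v * u := fun u v => Subtype.ext (comm_of_isMulCommutative hE.1 u.2 v.2)
  letI : CommGroup E := { (inferInstance : Group E) with mul_comm := hc }
  let α : E →* E := MonoidHom.mk' (fun e => ⟨a * e * a⁻¹, hEn.conj_mem e e.2 a⟩)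
    (fun u v => Subtype.ext (by simp [mul_assoc]))
  have hα : ∀ e : E, α (α (α e)) = e := fun e => Subtype.ext (by
    show a * (a * (a * (e : P) * a⁻¹) * a⁻¹) * a⁻¹ = e
    rw [show a * (a * (a * (e : P) * a⁻¹) * a⁻¹) * a⁻¹ = a ^ 3 * e * (a ^ 3)⁻¹ by
      simp only [pow_succ, pow_zero, one_mul, mul_inv_rev, mul_assoc], ha]
    simp)
  let d : E →* E := MonoidHom.mk' (fun e => α e * e⁻¹)
    (fun u v => by rw [map_mul, mul_inv, mul_mul_mul_comm])
  have hd : ∀ e, d (d (d e)) = 1 := fun e => by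
    have h3 : ∀ u : E, u ^ 3 = 1 := fun u => Subtype.ext (hE.2 u u.2)
    show α (α (α e * e⁻¹) * (α e * e⁻¹)⁻¹) * (α (α e * e⁻¹) * (α e * e⁻¹)⁻¹)⁻¹ = 1
    simp only [map_mul, map_inv, hα]
    exact cube_identity _ _ _ (h3 (α e)) (h3 (α (α e)))
  have hb : (((⊤ : Subgroup E).map d).map d).map d = ⊥ := by
    rw [eq_bot_iff]
    rintro _ ⟨_, ⟨_, ⟨e, -, rfl⟩, rfl⟩, rfl⟩
    exact mem_bot.mpr (hd e)
  have h1 := card_le_ker_mul_map d ⊤
  have h2 := card_le_ker_mul_map d ((⊤ : Subgroup E).map d)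
  have h3 := card_le_ker_mul_map d (((⊤ : Subgroup E).map d).map d)
  rw [hb, card_bot, mul_one] at h3
  rw [card_top, hE4] at h1
  have h4 : Nat.card d.ker = Nat.card (E ⊓ centralizer ({a} : Set P) : Subgroup P) := by
    have hk : d.ker = (centralizer ({a} : Set P)).subgroupOf E := by
      ext e
      rw [MonoidHom.mem_ker, mem_subgroupOf, mem_centralizer_singleton_iff]
      show α e * e⁻¹ = 1 ↔ _
      rw [mul_inv_eq_one, Subtype.ext_iff]
      show a * (e : P) * a⁻¹ = e ↔ _
      rw [mul_inv_eq_iff_eq_mul]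
      exact eq_comm
    rw [hk, ← inf_subgroupOf_left,
      Nat.card_congr (subgroupOfEquivOfLe (inf_le_left : E ⊓ centralizer ({a} : Set P) ≤ E)).toEquiv]
  rw [← h4]
  by_contra hlt
  obtain ⟨k, -, hk⟩ := (Nat.dvd_prime_pow Nat.prime_three).mp (hE4 ▸ card_subgroup_dvd_card d.ker)
  have hk3 : Nat.card d.ker ≤ 3 := by
    have : k ≤ 1 := by
      by_contra hk1
      exact hlt (hk ▸ le_trans (by norm_num) (Nat.pow_le_pow_right (by norm_num) (Nat.lt_of_not_le hk1)))
    exact hk ▸ (Nat.pow_le_pow_right (by norm_num) this).trans (by norm_num)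
  have := h1.trans (Nat.mul_le_mul hk3 (h2.trans (Nat.mul_le_mul hk3 (h3.trans hk3))))
  norm_num at this

/-- A finite 3-group of 3-rank at least 4 is 2-connected for the prime 3: its commuting graph on elementary abelian subgroups of order ≥ 9 is connected. -/
theorem result {P : Type*} [Group P] [Finite P] (hP : IsPGroup 3 P) (hrk : ¬ Cfsg.PRankLE 3 3 P) : Cfsg.IsKConnected 3 2 P := by
  haveI : Fact (Nat.Prime 3) := ⟨Nat.prime_three⟩
  obtain ⟨B, hBc, hBe, hBcard⟩ : ∃ B : Subgroup P, IsMulCommutative B ∧ (∀ a ∈ B, a ^ 3 = 1) ∧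
      3 ^ 3 < Nat.card B := by
    simp only [Cfsg.PRankLE] at hrk
    push Not at hrk
    exact hrk
  have hB : Cfsg.IsElementaryAbelian 3 B := ⟨hBc, hBe⟩
  obtain ⟨b, hb⟩ := IsPGroup.iff_card.mp (hP.to_subgroup B)
  obtain ⟨C, hC⟩ := Sylow.exists_subgroup_card_pow_prime (G := B) 3 (n := 4) (hb ▸ pow_dvd_pow 3 (by
    rw [hb] at hBcard
    have := (Nat.pow_lt_pow_iff_right (by norm_num)).mp hBcard
    omega))
  obtain ⟨E, hEn, hE, hE4⟩ := Cfsg.Agent.S0122.result (by norm_num) hP (C.map B.subtype)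
    (isElementaryAbelian_mono hB (map_subtype_le C))
    (by rw [card_map_of_injective B.subtype_injective, hC])
  haveI := hEn
  set R := fun A B : Subgroup P => Cfsg.IsElementaryAbelian 3 A ∧ 3 ^ 2 ≤ Nat.card ↥A ∧
    Cfsg.IsElementaryAbelian 3 B ∧ 3 ^ 2 ≤ Nat.card ↥B ∧ ∀ a ∈ A, ∀ b ∈ B, a * b = b * a with hR
  have hE9 : 3 ^ 2 ≤ Nat.card E := by rw [hE4]; norm_num
  haveI : Nontrivial P := by
    by_contra hn
    rw [not_nontrivial_iff_subsingleton] at hn
    have : Nat.card E ≤ 1 := Finite.card_le_one_iff_subsingleton.mpr inferInstance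
    omega
  haveI := hP.center_nontrivial
  obtain ⟨z, hzc, hzo⟩ := exists_orderOf_eq_of_ne_bot (p := 3) (hP.to_subgroup (center P))
    (fun h => by
      have : Subsingleton (center P) := by rw [h]; infer_instance
      exact not_subsingleton (center P) this)
  have hz3 : z ^ 3 = 1 := hzo ▸ pow_orderOf_eq_one z
  have hzcomm : ∀ g : P, g * z = z * g := fun g => mem_center_iff.mp hzc g
  have key : ∀ A : Subgroup P, Cfsg.IsElementaryAbelian 3 A → 3 ^ 2 ≤ Nat.card A →
      Relation.ReflTransGen R A E ∧ Relation.ReflTransGen R E A := by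
    intro A hA hA9
    obtain ⟨a, ha, haz⟩ : ∃ a ∈ A, a ∉ zpowers z := SetLike.not_le_iff_exists.mp fun h => by
      have := card_le_of_le h
      rw [Nat.card_zpowers, hzo] at this
      omega
    have ha3 : a ^ 3 = 1 := hA.2 a ha
    set A' := zpowers a ⊔ zpowers z with hA'
    have hA'e : Cfsg.IsElementaryAbelian 3 A' :=
      isElementaryAbelian_sup (isElementaryAbelian_zpowers ha3) (isElementaryAbelian_zpowers hz3)
        (zpowers_le.mpr (mem_centralizer_iff.mpr fun u hu => by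
          obtain ⟨k, rfl⟩ := mem_zpowers_iff.mp hu
          exact ((show Commute z a from (hzcomm a).symm).zpow_left k).eq))
    have hA'9 : 3 ^ 2 ≤ Nat.card A' := by
      haveI : (zpowers z).Normal := normal_of_le_center (zpowers_le.mpr hzc)
      have ha1 : a ≠ 1 := fun h => haz (h ▸ one_mem _)
      have h := card_sup_of_normal (A := zpowers z) (B := zpowers a)
        (by rw [inf_comm]; exact inf_zpowers_eq_bot hzo (fun hm => haz (by
          obtain ⟨k, hk⟩ := mem_zpowers_iff.mp hm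
          rcases le_or_inf_eq_bot (p := 3) (show Nat.card (zpowers a) = 3 by
            rw [Nat.card_zpowers]; exact orderOf_eq_of_pow_eq_one ha3 ha1) (zpowers z) with h1 | h1
          · exact h1 (mem_zpowers a)
          · exfalso
            have : z ∈ zpowers a ⊓ zpowers z := ⟨hm, mem_zpowers z⟩
            rw [h1, mem_bot] at this
            rw [this, orderOf_one] at hzo
            norm_num at hzo)))
      rw [sup_comm] at h
      rw [hA', h, Nat.card_zpowers, Nat.card_zpowers, hzo, orderOf_eq_of_pow_eq_one ha3 ha1]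
      norm_num
    have hle : A' ≤ centralizer (A : Set P) := by
      refine sup_le (zpowers_le.mpr (le_centralizer_of_isMulCommutative hA.1 ha)) (zpowers_le.mpr ?_)
      exact center_le_centralizer _ hzc
    set U := E ⊓ centralizer ({a} : Set P) with hU
    have hUe : Cfsg.IsElementaryAbelian 3 U := isElementaryAbelian_mono hE inf_le_left
    have hU9 : 3 ^ 2 ≤ Nat.card U := centralizer_card hE hE4 ha3
    have hle2 : A' ≤ centralizer (U : Set P) := by
      refine sup_le (zpowers_le.mpr (mem_centralizer_iff.mpr fun u hu => ?_))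
        (zpowers_le.mpr (center_le_centralizer _ hzc))
      exact (mem_centralizer_singleton_iff.mp hu.2)
    have h1 : R A A' := ⟨hA, hA9, hA'e, hA'9, fun u hu v hv => mem_centralizer_iff.mp (hle hv) u hu⟩
    have h1' : R A' A := ⟨hA'e, hA'9, hA, hA9, fun u hu v hv => (mem_centralizer_iff.mp (hle hu) v hv).symm⟩
    have h2 : R A' U := ⟨hA'e, hA'9, hUe, hU9, fun u hu v hv => (mem_centralizer_iff.mp (hle2 hu) v hv).symm⟩
    have h2' : R U A' := ⟨hUe, hU9, hA'e, hA'9, fun u hu v hv => mem_centralizer_iff.mp (hle2 hv) u hu⟩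
    have h3 : R U E := ⟨hUe, hU9, hE, hE9, fun u hu v hv => comm_of_isMulCommutative hE.1 hu.1 hv⟩
    have h3' : R E U := ⟨hE, hE9, hUe, hU9, fun u hu v hv => comm_of_isMulCommutative hE.1 hu hv.1⟩
    exact ⟨((Relation.ReflTransGen.single h1).tail h2).tail h3,
      ((Relation.ReflTransGen.single h3').tail h2').tail h1'⟩
  exact fun A A' hA hA9 hA' hA'9 => (key A hA hA9).1.trans (key A' hA' hA'9).2

end Cfsg.Agent.S1338
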