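import Cfsg.Statements.S1339
import Cfsg.Agent.Lib.ComponentsFitting
import Mathlib

set_option autoImplicit false
open Cfsg

namespace Cfsg.Agent.S1339

theorem gen_eq_pCore {C : Type*} [Group C] [Finite C] {p : ℕ} [hp : Fact p.Prime] (Q : Subgroup C)
    [Q.Normal] (hQ : IsPGroup p Q) (hcQ : Subgroup.centralizer (Q : Set C) ≤ Q) :
    generalizedFittingSubgroup C = pCore p C := by
  have hQle : Q ≤ pCore p C := ComponentsCores.le_pCore' hQ
  haveI : Group.IsSolvable Q := haveI := hQ.isNilpotent; inferInstance
  have hlayer : layer C = ⊥ := by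
    refine sSup_eq_bot.mpr fun L hL => absurd ?_
      (ComponentsBasic.isQuasisimple_not_le_solvable (S := Q) hL.2)
    exact (Subgroup.commutator_eq_bot_iff_le_centralizer.mp
      (ComponentsBasic.component_commute_solvable hL (Subgroup.Normal.isSubnormal inferInstance))).trans hcQ
  rw [generalizedFittingSubgroup, hlayer, bot_sup_eq, ComponentsFitting.fittingSubgroup_eq_iSup]
  refine le_antisymm (iSup_le fun q => ?_) ?_
  · by_cases hq : (q : ℕ) = p
    · rw [hq]
    · have hle : pCore q C ≤ Q := fun x hx => hcQ fun y hy =>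
        (ComponentsFitting.commute_pCore (Nat.prime_of_mem_primeFactors q.2) hp.out hq x y hx
          (hQle hy)).symm.eq
      haveI := Fact.mk (Nat.prime_of_mem_primeFactors q.2)
      have hd := IsPGroup.disjoint_of_ne (q : ℕ) p hq _ _ (ComponentsCores.isPGroup_pCore (G := C) q)
        (ComponentsCores.isPGroup_pCore (G := C) p)
      rw [disjoint_iff_inf_le, inf_eq_left.mpr (hle.trans hQle)] at hd
      exact hd.trans bot_le
  · by_cases hmem : p ∈ (Nat.card C).primeFactors
    · exact le_iSup (fun q : (Nat.card C).primeFactors => pCore q C) ⟨p, hmem⟩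
    · have hndvd : ¬ p ∣ Nat.card C := fun hd =>
        hmem (Nat.mem_primeFactors.mpr ⟨hp.out, hd, Nat.card_pos.ne'⟩)
      have : pCore p C = ⊥ := by
        rcases (ComponentsCores.isPGroup_pCore (G := C) p).card_eq_or_dvd with h | h
        · exact Subgroup.eq_bot_of_card_eq _ h
        · exact absurd (h.trans (Subgroup.card_subgroup_dvd_card _)) hndvd
      rw [this]
      exact bot_le

variable {F : Type*} [Field F] [Fintype F] [DecidableEq F]

theorem field_two (hF : Fintype.card F = 2) (x : F) : x = 0 ∨ x = 1 := by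
  by_contra h
  have h3 : ({x, 0, 1} : Finset F).card = 3 := by
    simp only [not_or] at h
    rw [Finset.card_insert_of_notMem (by simp [h.1, h.2]), Finset.card_insert_of_notMem (by simp),
      Finset.card_singleton]
  have := Finset.card_le_univ ({x, 0, 1} : Finset F)
  rw [h3, hF] at this
  omega

theorem field_two_add (hF : Fintype.card F = 2) (x : F) : x + x = 0 := by
  rcases field_two hF x with rfl | rfl
  · simp
  · rcases field_two hF ((1 : F) + 1) with h | h
    · exact h
    · exact absurd (add_eq_left.mp h) one_ne_zero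

variable {n : ℕ} {i j : Fin n} {t : Matrix.SpecialLinearGroup (Fin n) F}

/-- The centralizer of `t`. -/
abbrev C (t : Matrix.SpecialLinearGroup (Fin n) F) : Subgroup (Matrix.SpecialLinearGroup (Fin n) F) :=
  Subgroup.centralizer {t}

/-- The matrix of an element of the centralizer. -/
abbrev mat (g : C t) : Matrix (Fin n) (Fin n) F := ((g : Matrix.SpecialLinearGroup (Fin n) F) : Matrix _ _ F)

theorem comm_mat (ht : (t : Matrix (Fin n) (Fin n) F) = Matrix.transvection i j 1) (g : C t) :
    mat g * Matrix.transvection i j 1 = Matrix.transvection i j 1 * mat g := by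
  have h := congrArg (fun x : Matrix.SpecialLinearGroup (Fin n) F => (x : Matrix (Fin n) (Fin n) F))
    (Subgroup.mem_centralizer_singleton_iff.mp g.2)
  simpa [ht] using h

theorem col_zero (hij : i ≠ j) (ht : (t : Matrix (Fin n) (Fin n) F) = Matrix.transvection i j 1)
    (g : C t) {k : Fin n} (hk : k ≠ i) : mat g k i = 0 := by
  have h := congrFun (congrFun (comm_mat ht g) k) j
  rw [Matrix.mul_transvection_apply_same, Matrix.transvection_mul_apply_of_ne _ _ _ _ hk] at h
  simpa using h

theorem row_zero (hij : i ≠ j) (ht : (t : Matrix (Fin n) (Fin n) F) = Matrix.transvection i j 1)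
    (g : C t) {l : Fin n} (hl : l ≠ j) : mat g j l = 0 := by
  have h := congrFun (congrFun (comm_mat ht g) i) l
  rw [Matrix.mul_transvection_apply_of_ne _ _ _ _ hl, Matrix.transvection_mul_apply_same] at h
  simpa using h

theorem diag_eq (hij : i ≠ j) (ht : (t : Matrix (Fin n) (Fin n) F) = Matrix.transvection i j 1)
    (g : C t) : mat g i i = mat g j j := by
  have h := congrFun (congrFun (comm_mat ht g) i) j
  rw [Matrix.mul_transvection_apply_same, Matrix.transvection_mul_apply_same] at h
  simpa using h

theorem diag_one (hF : Fintype.card F = 2) (hij : i ≠ j)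
    (ht : (t : Matrix (Fin n) (Fin n) F) = Matrix.transvection i j 1) (g : C t) : mat g i i = 1 := by
  rcases field_two hF (mat g i i) with h | h
  · exfalso
    have h0 : (mat g).det = 0 := Matrix.det_eq_zero_of_column_eq_zero i fun k => by
      rcases eq_or_ne k i with rfl | hk
      · exact h
      · exact col_zero hij ht g hk
    exact one_ne_zero ((g : Matrix.SpecialLinearGroup (Fin n) F).2.symm.trans h0)
  · exact h

/-- Restriction to the indices other than `i` and `j`. -/
def restr (hij : i ≠ j) (ht : (t : Matrix (Fin n) (Fin n) F) = Matrix.transvection i j 1) :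
    C t →* Matrix {m : Fin n // m ≠ i ∧ m ≠ j} {m : Fin n // m ≠ i ∧ m ≠ j} F where
  toFun g := (mat g).submatrix Subtype.val Subtype.val
  map_one' := by
    show (1 : Matrix (Fin n) (Fin n) F).submatrix Subtype.val Subtype.val = 1
    exact Matrix.submatrix_one _ Subtype.val_injective
  map_mul' g h := by
    ext k l
    show (mat g * mat h) k.1 l.1 = _
    rw [Matrix.mul_apply, Matrix.mul_apply]
    symm
    show (∑ m : {m : Fin n // m ≠ i ∧ m ≠ j}, mat g k.1 m.1 * mat h m.1 l.1) = _
    rw [← Finset.sum_subtype (Finset.univ.filter fun m : Fin n => m ≠ i ∧ m ≠ j) (by simp)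
      (fun m => mat g k.1 m * mat h m l.1)]
    refine Finset.sum_subset (Finset.subset_univ _) fun m _ hm => ?_
    simp only [Finset.mem_filter, Finset.mem_univ, true_and, not_and_or, not_not] at hm
    rcases hm with rfl | rfl
    · rw [col_zero hij ht g k.2.1, zero_mul]
    · rw [row_zero hij ht h l.2.2, mul_zero]

theorem entry_of_ker (hF : Fintype.card F = 2) (hij : i ≠ j)
    (ht : (t : Matrix (Fin n) (Fin n) F) = Matrix.transvection i j 1) {g : C t}
    (hg : g ∈ (restr hij ht).ker) {k l : Fin n} (hk : k ≠ i) (hl : l ≠ j) :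
    mat g k l = (1 : Matrix (Fin n) (Fin n) F) k l := by
  rcases eq_or_ne k j with rfl | hkj
  · rw [row_zero hij ht g hl, Matrix.one_apply_ne hl.symm]
  rcases eq_or_ne l i with rfl | hli
  · rw [col_zero hij ht g hk, Matrix.one_apply_ne hk]
  have h0 : (mat g).submatrix Subtype.val Subtype.val =
      (1 : Matrix {m : Fin n // m ≠ i ∧ m ≠ j} {m : Fin n // m ≠ i ∧ m ≠ j} F) := MonoidHom.mem_ker.mp hg
  have h1 := Matrix.ext_iff.mpr h0 ⟨k, hk, hkj⟩ ⟨l, hli, hl⟩
  rw [Matrix.submatrix_apply] at h1
  show mat g k l = _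
  rw [h1]
  simp [Matrix.one_apply]

theorem isPGroup_ker (hF : Fintype.card F = 2) (hij : i ≠ j)
    (ht : (t : Matrix (Fin n) (Fin n) F) = Matrix.transvection i j 1) :
    IsPGroup 2 (restr hij ht).ker := by
  intro g
  refine ⟨2, ?_⟩
  set N : Matrix (Fin n) (Fin n) F := mat (g : C t) - 1 with hN
  have hNz : ∀ k l, k ≠ i → l ≠ j → N k l = 0 := fun k l hk hl => by
    rw [hN, Matrix.sub_apply, entry_of_ker hF hij ht g.2 hk hl, sub_self]
  have hNii : N i i = 0 := by rw [hN, Matrix.sub_apply, diag_one hF hij ht, Matrix.one_apply_eq, sub_self]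
  have hNjj : N j j = 0 := by
    rw [hN, Matrix.sub_apply, ← diag_eq hij ht, diag_one hF hij ht, Matrix.one_apply_eq, sub_self]
  have hN2 : ∀ k l, ¬ (k = i ∧ l = j) → (N * N) k l = 0 := by
    intro k l hkl
    rw [Matrix.mul_apply]
    refine Finset.sum_eq_zero fun m _ => ?_
    rcases eq_or_ne k i with rfl | hk
    · have hl : l ≠ j := fun h => hkl ⟨rfl, h⟩
      rcases eq_or_ne m k with rfl | hm
      · rw [hNii, zero_mul]
      · rw [hNz m l hm hl, mul_zero]
    · rcases eq_or_ne m j with rfl | hm
      · rcases eq_or_ne l m with rfl | hl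
        · rw [hNjj, mul_zero]
        · rw [hNz m l hij.symm hl, mul_zero]
      · rw [hNz k m hk hm, zero_mul]
  have hN4 : N * N * (N * N) = 0 := by
    ext k l
    rw [Matrix.mul_apply, Matrix.zero_apply]
    refine Finset.sum_eq_zero fun m _ => ?_
    rcases eq_or_ne m i with rfl | hm
    · rw [hN2 k m (fun h => hij h.2), zero_mul]
    · rw [hN2 m l (fun h => hm h.1), mul_zero]
  have h2 : ∀ A : Matrix (Fin n) (Fin n) F, (A + 1) * (A + 1) = A * A + 1 := by
    intro A
    have hAA : A + A = 0 := by ext a b; simp [field_two_add hF]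
    calc (A + 1) * (A + 1) = A * A + (A + A) + 1 := by noncomm_ring
      _ = A * A + 1 := by rw [hAA, add_zero]
  apply Subtype.ext
  apply Subtype.ext
  apply Subtype.ext
  have hg : mat (g : C t) = N + 1 := by rw [hN, sub_add_cancel]
  show mat (g : C t) ^ 4 = 1
  rw [hg, show (4 : ℕ) = 2 * 2 from rfl, pow_mul, pow_two, pow_two, h2, h2, hN4, zero_add]

theorem centralizer_le (hF : Fintype.card F = 2) (hij : i ≠ j)
    (ht : (t : Matrix (Fin n) (Fin n) F) = Matrix.transvection i j 1) :
    Subgroup.centralizer ((restr hij ht).ker : Set (C t)) ≤ (restr hij ht).ker := by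
  intro g hg
  rw [MonoidHom.mem_ker]
  ext ⟨l, hli, hlj⟩ ⟨m, hmi, hmj⟩
  show mat g l m = (1 : Matrix {m : Fin n // m ≠ i ∧ m ≠ j} _ F) _ _
  set x : Matrix.SpecialLinearGroup (Fin n) F :=
    ⟨Matrix.transvection i l 1, Matrix.det_transvection_of_ne _ _ hli.symm 1⟩ with hx
  have hxC : x ∈ C t := by
    rw [Subgroup.mem_centralizer_singleton_iff]
    apply Subtype.ext
    show Matrix.transvection i l 1 * (t : Matrix (Fin n) (Fin n) F) = (t : Matrix (Fin n) (Fin n) F) * Matrix.transvection i l 1
    rw [ht]
    simp only [Matrix.transvection, add_mul, mul_add, one_mul, mul_one,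
      Matrix.single_mul_single_of_ne _ _ _ _ hli, Matrix.single_mul_single_of_ne _ _ _ _ hij.symm]
    abel
  have hxK : (⟨x, hxC⟩ : C t) ∈ (restr hij ht).ker := by
    rw [MonoidHom.mem_ker]
    ext a b
    show Matrix.transvection i l (1 : F) a.1 b.1 = _
    rw [Matrix.transvection, Matrix.add_apply,
      Matrix.single_apply_of_row_ne a.2.1.symm, add_zero, Matrix.one_apply, Matrix.one_apply]
    simp [Subtype.ext_iff]
  have hcomm : Matrix.transvection i l (1 : F) * mat g = mat g * Matrix.transvection i l (1 : F) :=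
    congrArg (fun y : C t => mat y) (hg _ hxK)
  have h1 : mat g l l = 1 := by
    have h := congrFun (congrFun hcomm i) l
    rw [Matrix.mul_transvection_apply_same, Matrix.transvection_mul_apply_same] at h
    have h' : mat g l l = mat g i i := by simpa using h
    rw [h', diag_one hF hij ht]
  rcases eq_or_ne m l with rfl | hml
  · simp [h1]
  · have h := congrFun (congrFun hcomm i) m
    rw [Matrix.mul_transvection_apply_of_ne _ _ _ _ hml, Matrix.transvection_mul_apply_same] at h
    rw [Matrix.one_apply_ne (fun e => hml (congrArg Subtype.val e).symm)]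
    simpa using h

/-- Let F be a field with 2 elements, n ≥ 3, and t ∈ SL(n, F) a transvection (t = 1 + E_{ij}, i ≠ j). Then the generalized Fitting subgroup of C(t) is O_2(C(t)). -/
theorem result {F : Type*} [Field F] [Fintype F] [DecidableEq F] (hF : Fintype.card F = 2) (n : ℕ) (hn : 3 ≤ n) (i j : Fin n) (hij : i ≠ j) (t : Matrix.SpecialLinearGroup (Fin n) F) (ht : (t : Matrix (Fin n) (Fin n) F) = Matrix.transvection i j 1) : Cfsg.generalizedFittingSubgroup ↥(Subgroup.centralizer ({t} : Set (Matrix.SpecialLinearGroup (Fin n) F))) = Cfsg.pCore 2 ↥(Subgroup.centralizer ({t} : Set (Matrix.SpecialLinearGroup (Fin n) F))) := by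
  haveI : Fact (Nat.Prime 2) := ⟨Nat.prime_two⟩
  exact gen_eq_pCore (restr hij ht).ker (isPGroup_ker hF hij ht) (centralizer_le hF hij ht)

end Cfsg.Agent.S1339
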