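import Cfsg.Statements.S1340
import Mathlib
import Cfsg.Agent.Lib.ComponentsBasic
import Cfsg.Agent.Lib.HallCore
import Cfsg.Agent.Lib.PSLSimple
import Cfsg.Agent.Lib.PSL2Proj52

set_option autoImplicit false
open Cfsg

namespace Cfsg.Agent.S1340


open Matrix

variable {F : Type*} [Field F] {m : ℕ}

/-- `diag(1, A)`. -/
def ext1 (A : Matrix (Fin m) (Fin m) F) : Matrix (Fin (m + 1)) (Fin (m + 1)) F :=
  Matrix.of (Fin.cases (Fin.cases 1 fun _ => 0) fun i => Fin.cases 0 (A i))

@[simp] theorem ext1_00 (A : Matrix (Fin m) (Fin m) F) : ext1 A 0 0 = 1 := rfl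
@[simp] theorem ext1_0s (A : Matrix (Fin m) (Fin m) F) (j : Fin m) : ext1 A 0 j.succ = 0 := rfl
@[simp] theorem ext1_s0 (A : Matrix (Fin m) (Fin m) F) (i : Fin m) : ext1 A i.succ 0 = 0 := rfl
@[simp] theorem ext1_ss (A : Matrix (Fin m) (Fin m) F) (i j : Fin m) :
    ext1 A i.succ j.succ = A i j := rfl

theorem ext1_one : ext1 (1 : Matrix (Fin m) (Fin m) F) = 1 := by
  ext i j
  refine Fin.cases ?_ (fun i => ?_) i <;> refine Fin.cases ?_ (fun j => ?_) j <;>
    simp [Matrix.one_apply, Fin.succ_ne_zero, (Fin.succ_ne_zero _).symm]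

theorem ext1_mul (A B : Matrix (Fin m) (Fin m) F) : ext1 (A * B) = ext1 A * ext1 B := by
  ext i j
  refine Fin.cases ?_ (fun i => ?_) i <;> refine Fin.cases ?_ (fun j => ?_) j <;>
    simp [Matrix.mul_apply, Fin.sum_univ_succ]

theorem det_ext1 (A : Matrix (Fin m) (Fin m) F) : (ext1 A).det = A.det := by
  rw [Matrix.det_succ_row_zero, Fin.sum_univ_succ]
  simp [Matrix.submatrix, Fin.succAbove_zero]
  congr 1

theorem ext1_injective : Function.Injective (ext1 : Matrix (Fin m) (Fin m) F → _) := fun A B h => by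
  ext i j
  have := congrArg (fun M => M i.succ j.succ) h
  simpa using this

/-- The involution `diag(-1, 1, …, 1)`. -/
def dm (F : Type*) [Field F] (m : ℕ) : Matrix (Fin (m + 1)) (Fin (m + 1)) F :=
  Matrix.diagonal (Fin.cases (-1) fun _ => 1)

theorem dm_sq : dm F m * dm F m = 1 := by
  rw [dm, Matrix.diagonal_mul_diagonal, ← Matrix.diagonal_one]
  congr 1
  funext i
  refine Fin.cases ?_ (fun i => ?_) i <;> simp

/-- The involution, as an element of `GL`. -/
def invol (F : Type*) [Field F] (m : ℕ) : GL (Fin (m + 1)) F := ⟨dm F m, dm F m, dm_sq, dm_sq⟩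

theorem mem_cent {g : GL (Fin (m + 1)) F} :
    g ∈ Subgroup.centralizer ({invol F m} : Set (GL (Fin (m + 1)) F)) ↔
      g.1 * dm F m = dm F m * g.1 := by
  rw [Subgroup.mem_centralizer_singleton_iff, Units.ext_iff]
  rfl

theorem cent_entries (h2 : (2 : F) ≠ 0) {g : Matrix (Fin (m + 1)) (Fin (m + 1)) F}
    (h : g * dm F m = dm F m * g) (j : Fin m) : g 0 j.succ = 0 ∧ g j.succ 0 = 0 := by
  have a := congrArg (fun M => M 0 j.succ) h
  have b := congrArg (fun M => M j.succ 0) h
  simp [dm, Matrix.mul_diagonal, Matrix.diagonal_mul] at a b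
  exact ⟨(mul_eq_zero.mp (show 2 * g 0 j.succ = 0 by linear_combination a)).resolve_left h2,
    (mul_eq_zero.mp (show 2 * g j.succ 0 = 0 by linear_combination -b)).resolve_left h2⟩

/-- `A ↦ diag(1, A)` into the centraliser. -/
def emb (F : Type*) [Field F] (m : ℕ) : SpecialLinearGroup (Fin m) F →*
    Subgroup.centralizer ({invol F m} : Set (GL (Fin (m + 1)) F)) where
  toFun A := ⟨⟨ext1 A.1, ext1 (A⁻¹).1,
      by rw [← ext1_mul]; exact (congrArg ext1 (congrArg Subtype.val (mul_inv_cancel A))).trans ext1_one,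
      by rw [← ext1_mul]; exact (congrArg ext1 (congrArg Subtype.val (inv_mul_cancel A))).trans ext1_one⟩,
    mem_cent.mpr (by
      show ext1 A.1 * dm F m = dm F m * ext1 A.1
      ext i j
      refine Fin.cases ?_ (fun i => ?_) i <;> refine Fin.cases ?_ (fun j => ?_) j <;>
        simp [dm, Matrix.mul_diagonal, Matrix.diagonal_mul])⟩
  map_one' := Subtype.ext (Units.ext (by simp [ext1_one]))
  map_mul' A B := Subtype.ext (Units.ext (by simp [ext1_mul]))

theorem range_normal (h2 : (2 : F) ≠ 0) : (emb F m).range.Normal := by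
  refine ⟨?_⟩
  rintro _ ⟨A, rfl⟩ c
  set x := c * emb F m A * c⁻¹ with hx
  have hx1 : x.1.1 = c.1.1 * ext1 A.1 * (c⁻¹).1.1 := rfl
  have ent := cent_entries h2 (mem_cent.mp x.2)
  have ec := cent_entries h2 (mem_cent.mp c.2)
  have e00 : x.1.1 0 0 = 1 := by
    have hcc : (c.1.1 * (c⁻¹).1.1) 0 0 = 1 := by
      rw [show c.1.1 * (c⁻¹).1.1 = 1 from c.1.val_inv]
      rfl
    rw [Matrix.mul_apply, Fin.sum_univ_succ] at hcc
    rw [hx1]
    simpa [Matrix.mul_apply, Fin.sum_univ_succ, (fun j => (ec j).1 : ∀ j : Fin m, c.1.1 0 j.succ = 0)]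
      using hcc
  have hdet : x.1.1.det = 1 := by
    rw [hx1, det_mul, det_mul, det_ext1, A.2, mul_one, ← det_mul,
      show c.1.1 * (c⁻¹).1.1 = 1 from c.1.val_inv, det_one]
  have hxe : x.1.1 = ext1 (x.1.1.submatrix Fin.succ Fin.succ) := by
    ext i j
    refine Fin.cases ?_ (fun i => ?_) i <;> refine Fin.cases ?_ (fun j => ?_) j
    · simpa using e00
    · simpa using (ent j).1
    · simpa using (ent i).2
    · simp
  refine ⟨⟨x.1.1.submatrix Fin.succ Fin.succ, ?_⟩, Subtype.ext (Units.ext hxe.symm)⟩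
  rw [← det_ext1, ← hxe, hdet]

theorem quasisimple_sl [Finite F] (hm : 2 ≤ m) (h4 : m = 2 → 4 ≤ Nat.card F) :
    Cfsg.IsQuasisimple (SpecialLinearGroup (Fin m) F) :=
  ⟨⟨PSLSimple.commutator_SL_fin_eq_top hm fun h => PSLSimple.exists_sq_ne_one (h4 h)⟩,
    PSLSimple.isSimpleGroup_PSL_fin' hm h4⟩

theorem exists_even_elt (h2 : (2 : F) ≠ 0) (hm : 2 ≤ m) :
    ∃ A : SpecialLinearGroup (Fin m) F, orderOf A = 2 := by
  obtain ⟨k, rfl⟩ : ∃ k, m = k + 2 := ⟨m - 2, by omega⟩
  let d : Fin (k + 2) → F := Fin.cases (-1) (Fin.cases (-1) fun _ => 1)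
  have hd : ∀ i, d i * d i = 1 := fun i => by
    refine Fin.cases ?_ (fun i => ?_) i
    · simp [d]
    · show Fin.cases (motive := fun _ => F) (-1) (fun _ => 1) i *
        Fin.cases (motive := fun _ => F) (-1) (fun _ => 1) i = 1
      refine Fin.cases ?_ (fun i => ?_) i <;> simp
  let A : SpecialLinearGroup (Fin (k + 2)) F := ⟨Matrix.diagonal d, by
    simp [Matrix.det_diagonal, Fin.prod_univ_succ, d]⟩
  refine ⟨A, orderOf_eq_prime (Subtype.ext ?_) ?_⟩
  · rw [sq]
    show Matrix.diagonal d * Matrix.diagonal d = 1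
    simp only [Matrix.diagonal_mul_diagonal, hd, Matrix.diagonal_one]
  · intro h
    have := congrArg (fun M : SpecialLinearGroup (Fin (k + 2)) F => M.1 0 0) h
    simp [A, d] at this
    exact h2 (by linear_combination -this)
/-- Let F be a finite field of odd order and n ≥ 3 with (n, |F|) ≠ (3, 3). Then GL(n, F) has a non-central involution t such that C(t) / O(C(t)) has a component. -/
theorem result {F : Type*} [Field F] [Fintype F] [DecidableEq F] (hF : Odd (Fintype.card F)) (n : ℕ) (hn : 3 ≤ n) (h33 : ¬ (n = 3 ∧ Fintype.card F = 3)) : ∃ t : Matrix.GeneralLinearGroup (Fin n) F, orderOf t = 2 ∧ t ∉ Subgroup.center (Matrix.GeneralLinearGroup (Fin n) F) ∧ Cfsg.HasComponent (↥(Subgroup.centralizer ({t} : Set (Matrix.GeneralLinearGroup (Fin n) F))) ⧸ Cfsg.oddCore ↥(Subgroup.centralizer ({t} : Set (Matrix.GeneralLinearGroup (Fin n) F)))) := by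
  obtain ⟨m, rfl⟩ : ∃ m, n = m + 1 := ⟨n - 1, by omega⟩
  have hq : Nat.card F = Fintype.card F := Nat.card_eq_fintype_card
  have h2 : (2 : F) ≠ 0 := PSL2Proj52.two_ne_of_odd (by rw [hq]; exact hF)
  have h4 : m = 2 → 4 ≤ Nat.card F := fun e => by
    have h3 : Fintype.card F ≠ 3 := fun e' => h33 ⟨by omega, e'⟩
    have := Fintype.one_lt_card (α := F)
    rw [Nat.odd_iff] at hF
    omega
  refine ⟨invol F m, orderOf_eq_prime (Units.ext ((sq _).trans dm_sq)) ?_, ?_, ?_⟩
  · intro h
    have := congrArg (fun M : GL (Fin (m + 1)) F => M.1 0 0) h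
    simp [invol, dm] at this
    exact h2 (by linear_combination -this)
  · intro h
    have hm : 0 < m := by omega
    let T : Matrix (Fin (m + 1)) (Fin (m + 1)) F := Matrix.transvection 0 (⟨0, hm⟩ : Fin m).succ 1
    have hne : (0 : Fin (m + 1)) ≠ (⟨0, hm⟩ : Fin m).succ := (Fin.succ_ne_zero _).symm
    let g : GL (Fin (m + 1)) F := GeneralLinearGroup.mkOfDetNeZero T
      (by rw [Matrix.det_transvection_of_ne _ _ hne]; exact one_ne_zero)
    have hg := mem_cent.mp (Subgroup.mem_centralizer_singleton_iff.mpr (Subgroup.mem_center_iff.mp h g))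
    have := (cent_entries h2 hg (⟨0, hm⟩ : Fin m)).1
    simp [g, T, Matrix.transvection, Matrix.one_apply, hne] at this
  set C := Subgroup.centralizer ({invol F m} : Set (GL (Fin (m + 1)) F))
  haveI : (Cfsg.oddCore C).Normal := inferInstance
  let q := QuotientGroup.mk' (Cfsg.oddCore C)
  let f := q.comp (emb F m)
  have hnorm : f.range.Normal := by
    rw [MonoidHom.range_comp]
    exact Subgroup.Normal.map (range_normal h2) q (QuotientGroup.mk'_surjective _)
  refine ⟨f.range, Subgroup.Normal.isSubnormal hnorm, ?_⟩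
  obtain ⟨A, hA⟩ := exists_even_elt (m := m) h2 (by omega)
  have hne : f A ≠ 1 := by
    intro e
    have hmem : emb F m A ∈ Cfsg.oddCore C := (QuotientGroup.eq_one_iff _).mp e
    have hd := orderOf_dvd_natCard (⟨_, hmem⟩ : Cfsg.oddCore C)
    have hinj : Function.Injective (emb F m) := fun X Y h =>
      Subtype.ext (ext1_injective (congrArg (fun z : C => z.1.1) h))
    rw [Subgroup.orderOf_mk, orderOf_injective _ hinj, hA] at hd
    exact absurd hd (Nat.prime_two.coprime_iff_not_dvd.mp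
      (HallCore.coprime_card_pPrimeCore 2 C).symm)
  haveI : Nontrivial f.range :=
    ⟨⟨⟨f A, A, rfl⟩, 1, fun e => hne (congrArg Subtype.val e)⟩⟩
  exact ComponentsBasic.isQuasisimple_of_surjective f.rangeRestrict f.rangeRestrict_surjective
    (quasisimple_sl (by omega) h4)

end Cfsg.Agent.S1340
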