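import Cfsg.Statements.S1344
import Cfsg.Agent.Lib.ExtTwoLayer
import Cfsg.Agent.Lib.ComponentsCores

set_option autoImplicit false
open Cfsg

namespace Cfsg.Agent.S1344

variable {X : Type*} [Group X]

/-- An element of 2-power order. -/
def TwoElt (x : X) : Prop := ∃ k : ℕ, x ^ 2 ^ k = 1

theorem twoElt_mem [Finite X] {H : Subgroup X} (hH : H.IsSubnormal) {x : X} (hx : TwoElt x)
    (hm : QuotientGroup.mk' (oddCore X) x ∈ H.map (QuotientGroup.mk' (oddCore X))) : x ∈ H := by
  induction hH with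
  | top => exact Subgroup.mem_top x
  | step H K hle _ hN ih =>
    have hxK : x ∈ K := ih (Subgroup.map_mono hle hm)
    obtain ⟨h, hh, hhx⟩ := hm
    have ho : h⁻¹ * x ∈ oddCore X := QuotientGroup.eq.mp hhx
    haveI := hN
    set r := QuotientGroup.mk' (H.subgroupOf K) with hr
    have hoK : h⁻¹ * x ∈ K := Subgroup.mul_mem _ (Subgroup.inv_mem _ (hle hh)) hxK
    have heq : r ⟨x, hxK⟩ = r ⟨h⁻¹ * x, hoK⟩ := by
      symm
      refine QuotientGroup.eq.mpr ?_
      show (h⁻¹ * x)⁻¹ * x ∈ H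
      have : (h⁻¹ * x)⁻¹ * x = x⁻¹ * h * x := by group
      rw [this]
      have := hN.conj_mem ⟨h, hle hh⟩ hh ⟨x⁻¹, K.inv_mem hxK⟩
      simpa [Subgroup.mem_subgroupOf] using this
    obtain ⟨k, hk⟩ := hx
    have h2 : r ⟨x, hxK⟩ ^ 2 ^ k = 1 := by
      rw [← map_pow]
      convert map_one r
      exact Subtype.ext (by simpa using hk)
    have h1 : r ⟨x, hxK⟩ ^ Nat.card ↥(oddCore X) = 1 := by
      rw [heq, ← map_pow]
      convert map_one r
      apply Subtype.ext
      rw [SubmonoidClass.coe_pow, OneMemClass.coe_one]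
      exact orderOf_dvd_iff_pow_eq_one.mp (Subgroup.orderOf_dvd_natCard _ ho)
    have hcop : Nat.gcd (2 ^ k) (Nat.card ↥(oddCore X)) = 1 :=
      (Nat.Coprime.pow_left k (Nat.coprime_two_left.mpr (ExtTwoLayer.odd_oddCore X)))
    have h3 := pow_gcd_eq_one.mpr ⟨h2, h1⟩
    rw [hcop, pow_one] at h3
    exact (QuotientGroup.eq_one_iff (⟨x, hxK⟩ : K)).mp h3

theorem exists_twoElt_not_central [Finite X] (hO : oddCore X = ⊥) {L : Subgroup X}
    (hL : IsComponent L) : ∃ y ∈ L, TwoElt y ∧ ∃ z ∈ L, y * z ≠ z * y := by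
  by_contra hcon
  have hc : ∀ y ∈ L, TwoElt y → ∀ z ∈ L, y * z = z * y := by
    intro y hy hy2 z hz
    by_contra hne
    exact hcon ⟨y, hy, hy2, z, hz, hne⟩
  obtain ⟨P⟩ : Nonempty (Sylow 2 ↥L) := inferInstance
  have hPc : ∀ a ∈ (P : Subgroup L), ∀ b : L, a * b = b * a := by
    intro a ha b
    obtain ⟨k, hk⟩ := P.isPGroup' ⟨a, ha⟩
    exact Subtype.ext (hc a a.2 ⟨k, congrArg (fun t : (P : Subgroup L) => ((t : L) : X)) hk⟩ b b.2)
  have hP : Subgroup.normalizer ((P : Subgroup L) : Set L) ≤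
      Subgroup.centralizer ((P : Subgroup L) : Set L) := fun g _ a ha => hPc a ha g
  haveI : IsMulCommutative ↥(P : Subgroup L) := ⟨⟨fun a b => Subtype.ext (hPc a a.2 b)⟩⟩
  have hk := MonoidHom.ker_transferSylow_isComplement' P hP
  have hker : (MonoidHom.transferSylow P hP).ker = ⊤ := by
    rw [eq_top_iff]
    have hperf : commutator ↥L = ⊤ := hL.2.1.commutator_eq_top
    rw [← hperf, commutator_def, Subgroup.commutator_le]
    intro a _ b _
    rw [MonoidHom.mem_ker, map_commutatorElement]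
    exact commutatorElement_eq_one_iff_mul_comm.mpr (IsMulCommutative.is_comm.comm _ _)
  rw [hker] at hk
  have hPbot : (P : Subgroup L) = ⊥ := Subgroup.isComplement'_top_left.mp hk
  have hodd : (Nat.card ↥L).Coprime 2 := by
    rw [Nat.coprime_comm, Nat.Prime.coprime_iff_not_dvd Nat.prime_two]
    exact fun hd => P.ne_bot_of_dvd_card hd hPbot
  have : L ≤ oddCore X := ComponentsCores.subnormal_coprime_le_pPrimeCore hL.1 hodd
  rw [hO, le_bot_iff] at this
  exact ComponentsBasic.IsComponent.ne_bot hL this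

theorem conj_map_mk (g : X) (K : Subgroup X) :
    (K.map (MulAut.conj g).toMonoidHom).map (QuotientGroup.mk' (oddCore X)) =
      (K.map (QuotientGroup.mk' (oddCore X))).map
        (MulAut.conj (QuotientGroup.mk' (oddCore X) g)).toMonoidHom := by
  rw [Subgroup.map_map, Subgroup.map_map]
  congr 1

theorem oddCore_quotient [Finite X] : oddCore (X ⧸ oddCore X) = ⊥ :=
  HallCore.pPrimeCore_quotient_self 2 X

theorem two_power_lift [Finite X] {K : Subgroup X} {y : X ⧸ oddCore X}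
    (hy : y ∈ K.map (QuotientGroup.mk' (oddCore X))) (hy2 : TwoElt y) :
    ∃ x ∈ K, TwoElt x ∧ y ∈ Subgroup.zpowers (QuotientGroup.mk' (oddCore X) x) := by
  obtain ⟨x, hx, rfl⟩ := hy
  obtain ⟨k, hk⟩ := hy2
  obtain ⟨a, m, hm, hxm⟩ := Nat.exists_eq_pow_mul_and_not_dvd (orderOf_pos x).ne' 2 (by norm_num)
  refine ⟨x ^ m, K.pow_mem hx m, ⟨a, by rw [← pow_mul, mul_comm, ← hxm, pow_orderOf_eq_one]⟩, ?_⟩
  rw [map_pow]
  have hcop : m.Coprime (orderOf (QuotientGroup.mk' (oddCore X) x)) :=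
    Nat.Coprime.coprime_dvd_right (orderOf_dvd_of_pow_eq_one hk)
      ((Nat.Coprime.pow_left k ((Nat.Prime.coprime_iff_not_dvd Nat.prime_two).mpr hm)).symm)
  obtain ⟨j, hj⟩ := exists_pow_eq_self_of_coprime hcop
  exact ⟨(j : ℤ), by simpa using hj⟩

theorem closure_twoElt [Finite X] {K : Subgroup X} (hK : IsPComponent 2 K) :
    Subgroup.closure {x : X | x ∈ K ∧ TwoElt x} = K := by
  set R := Subgroup.closure {x : X | x ∈ K ∧ TwoElt x} with hR
  set q := QuotientGroup.mk' (oddCore X) with hq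
  have hRK : R ≤ K := (Subgroup.closure_le _).mpr fun x hx => hx.1
  have hKR : K ≤ Subgroup.normalizer (R : Set X) := by
    have key : ∀ g ∈ K, R.map (MulAut.conj g).toMonoidHom ≤ R := by
      intro g hg
      rw [hR, MonoidHom.map_closure]
      refine (Subgroup.closure_le _).mpr ?_
      rintro y ⟨x, ⟨hx, k, hk⟩, rfl⟩
      refine Subgroup.subset_closure ⟨K.mul_mem (K.mul_mem hg hx) (K.inv_mem hg), k, ?_⟩
      rw [← map_pow, hk, map_one]
    intro g hg
    rw [Subgroup.mem_normalizer_iff]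
    intro x
    refine ⟨fun hx => key g hg ⟨x, hx, rfl⟩, fun hx => ?_⟩
    have := key g⁻¹ (K.inv_mem hg) ⟨_, hx, rfl⟩
    simpa [mul_assoc] using this
  have hRs : R.IsSubnormal := ComponentsBasic.isSubnormal_of_le_normalizer hRK hK.1 hKR
  refine hK.2.2 R hRs hRK ?_
  set Kb := K.map q with hKb
  haveI : ((R.map q).subgroupOf Kb).Normal := by
    constructor
    rintro ⟨y, hy⟩ hyR ⟨g, hg⟩
    obtain ⟨g0, hg0, rfl⟩ := hg
    obtain ⟨r, hr, hry⟩ : y ∈ R.map q := hyR
    refine ⟨g0 * r * g0⁻¹, (Subgroup.mem_normalizer_iff.mp (hKR hg0) r).mp hr, ?_⟩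
    simp [hry]
  rcases ComponentsBasic.normal_le_center_or_eq_top hK.2.1.2 ((R.map q).subgroupOf Kb) with h | h
  · exfalso
    obtain ⟨y, hy, hy2, z, hz, hne⟩ := exists_twoElt_not_central oddCore_quotient hK.2.1
    obtain ⟨x, hx, hx2, hyx⟩ := two_power_lift hy hy2
    have hyR : y ∈ R.map q := by
      refine (Subgroup.zpowers_le.mpr ?_) hyx
      exact ⟨x, Subgroup.subset_closure ⟨hx, hx2⟩, rfl⟩
    exact hne (congrArg Subtype.val (Subgroup.mem_center_iff.mp (h (x := ⟨y, hy⟩) hyR) ⟨z, hz⟩)).symm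
  · exact le_antisymm (Subgroup.map_mono hRK) (Subgroup.subgroupOf_eq_top.mp h)

theorem mem_normalizer_of_image [Finite X] {K : Subgroup X} (hK : IsPComponent 2 K) {g : X}
    (hg : QuotientGroup.mk' (oddCore X) g ∈
      Subgroup.normalizer ((K.map (QuotientGroup.mk' (oddCore X))) : Set (X ⧸ oddCore X))) :
    g ∈ Subgroup.normalizer (K : Set X) := by
  set q := QuotientGroup.mk' (oddCore X) with hq
  have key : ∀ g : X, q g ∈ Subgroup.normalizer ((K.map q) : Set (X ⧸ oddCore X)) →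
      K.map (MulAut.conj g).toMonoidHom ≤ K := by
    intro g hg
    conv_lhs => rw [← closure_twoElt hK, MonoidHom.map_closure]
    refine (Subgroup.closure_le _).mpr ?_
    rintro y ⟨x, ⟨hx, k, hk⟩, rfl⟩
    refine twoElt_mem hK.1 ⟨k, by rw [← map_pow, hk, map_one]⟩ ?_
    have := (Subgroup.mem_normalizer_iff.mp hg (q x)).mp ⟨x, hx, rfl⟩
    show q (g * x * g⁻¹) ∈ K.map q
    rw [map_mul, map_mul, map_inv]
    exact this
  rw [Subgroup.mem_normalizer_iff]
  intro x
  refine ⟨fun hx => key g hg ⟨x, hx, rfl⟩, fun hx => ?_⟩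
  have := key g⁻¹ (by rw [map_inv]; exact Subgroup.inv_mem _ hg) ⟨_, hx, rfl⟩
  simpa [mul_assoc] using this

theorem base_le_normalizer [Finite X] {K : Subgroup X} (hK : IsPComponent 2 K) :
    (ExtTwoLayer.base X).map (QuotientGroup.mk' (oddCore X)) ≤
      Subgroup.normalizer ((K.map (QuotientGroup.mk' (oddCore X))) : Set (X ⧸ oddCore X)) := by
  rw [Subgroup.map_sup]
  refine sup_le ?_ ?_
  · rw [Subgroup.map_le_iff_le_comap]
    refine sSup_le fun J hJ => ?_
    rw [← Subgroup.map_le_iff_le_comap]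
    exact ComponentsBasic.component_le_normalizer hJ.2.1 hK.2.1
  · have hsol : Group.IsSolvable ↥(pCore 2 (X ⧸ oddCore X)) :=
      haveI := (HallCore.isPGroup_pCore 2 (X ⧸ oddCore X)).isNilpotent
      inferInstance
    have hcom := ComponentsBasic.component_commute_solvable hK.2.1
      (Subgroup.Normal.isSubnormal inferInstance) (H := pCore 2 (X ⧸ oddCore X))
    rw [Subgroup.map_le_iff_le_comap]
    intro y hy
    apply Subgroup.centralizer_le_normalizer
    intro k hk
    exact commutatorElement_eq_one_iff_mul_comm.mp (Subgroup.mem_bot.mp (hcom ▸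
      Subgroup.commutator_mem_commutator hk hy))

theorem coreC_le_normalizer [Finite X] {K : Subgroup X} (hK : IsPComponent 2 K)
    (T : Sylow 2 ↥(ExtTwoLayer.base X)) :
    ExtTwoLayer.coreC ((T : Subgroup ↥(ExtTwoLayer.base X)).map (ExtTwoLayer.base X).subtype) ≤
      Subgroup.normalizer (K : Set X) := by
  intro c hc
  apply mem_normalizer_of_image hK
  set q := QuotientGroup.mk' (oddCore X) with hq
  set Kb := K.map q with hKb
  by_contra hcn
  have hKc : IsComponent (Kb.map (MulAut.conj (q c)).toMonoidHom) :=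
    ComponentsBasic.isComponent_conj hK.2.1 _
  have hne : Kb ≠ Kb.map (MulAut.conj (q c)).toMonoidHom := by
    intro he
    apply hcn
    rw [Subgroup.mem_normalizer_iff]
    intro x
    constructor
    · intro hx
      rw [he]
      exact ⟨x, hx, rfl⟩
    · intro hx
      rw [he] at hx
      obtain ⟨y, hy, hxy⟩ := hx
      have : y = x := (MulAut.conj (q c)).injective hxy
      exact this ▸ hy
  obtain ⟨y, hy, hy2, z, hz, hyz⟩ := exists_twoElt_not_central oddCore_quotient hK.2.1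
  obtain ⟨x, hx, hx2, hyx⟩ := two_power_lift hy hy2
  have hxN : x ∈ ExtTwoLayer.base X :=
    Subgroup.mem_sup_left (ExtTwoLayer.isPComponent_le_pLayer hK hx)
  obtain ⟨k, hk⟩ := hx2
  have hzp : IsPGroup 2 ↥(Subgroup.zpowers (⟨x, hxN⟩ : ExtTwoLayer.base X)) := by
    obtain ⟨j, _, hj⟩ := (Nat.dvd_prime_pow Nat.prime_two).mp
      (orderOf_dvd_of_pow_eq_one (show (⟨x, hxN⟩ : ExtTwoLayer.base X) ^ 2 ^ k = 1 from
        Subtype.ext (by simpa using hk)))
    exact IsPGroup.of_card (n := j) (by rw [Nat.card_zpowers, hj])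
  obtain ⟨T', hT'⟩ := hzp.exists_le_sylow
  obtain ⟨n, hn⟩ := MulAction.exists_smul_eq (↥(ExtTwoLayer.base X)) T' T
  have ht : (n : X) * x * (n : X)⁻¹ ∈
      (T : Subgroup ↥(ExtTwoLayer.base X)).map (ExtTwoLayer.base X).subtype := by
    refine ⟨MulAut.conj n ⟨x, hxN⟩, ?_, rfl⟩
    rw [← hn, SetLike.mem_coe, Sylow.coe_subgroup_smul]
    exact Subgroup.smul_mem_pointwise_smul _ _ _ (hT' (Subgroup.mem_zpowers _))
  have hnN := base_le_normalizer hK (Subgroup.mem_map_of_mem q n.2)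
  set t := q n * q x * (q n)⁻¹ with htdef
  have htK : t ∈ Kb := (Subgroup.mem_normalizer_iff.mp hnN (q x)).mp ⟨x, hx, rfl⟩
  have htKc : t ∈ Kb.map (MulAut.conj (q c)).toMonoidHom := by
    refine ⟨t, htK, ?_⟩
    have hcom := Subgroup.mem_centralizer_iff.mp (ExtTwoLayer.coreC_le_centralizer _ hc) _ ht
    show q c * t * (q c)⁻¹ = t
    rw [htdef, ← map_inv, ← map_mul, ← map_mul, ← map_mul, ← hcom, ← map_inv, ← map_mul,
      mul_inv_cancel_right]
  have hbot := ComponentsBasic.components_commute hK.2.1 hKc hne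
  have hcomm : ∀ w ∈ Kb, Commute w t := fun w hw => commutatorElement_eq_one_iff_mul_comm.mp
    (Subgroup.mem_bot.mp (hbot ▸ Subgroup.commutator_mem_commutator hw htKc))
  have hxz : Commute (q x) z := by
    have h2 := hcomm _ ((Subgroup.mem_normalizer_iff.mp hnN z).mp hz)
    rw [htdef] at h2
    exact (Commute.conj_iff (q n)).mp h2.symm
  obtain ⟨j, rfl⟩ := Subgroup.mem_zpowers_iff.mp hyx
  exact hyz (hxz.zpow_left j)

/-- Let K be a 2-component of the finite group X. Then K ≤ L*_{2'}(X) and K is normal in L*_{2'}(X). -/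
theorem result {X : Type*} [Group X] [Finite X] (K : Subgroup X) (hK : Cfsg.IsPComponent 2 K) : K ≤ Cfsg.extendedTwoLayer X ∧ (K.subgroupOf (Cfsg.extendedTwoLayer X)).Normal := by
  refine ⟨(ExtTwoLayer.isPComponent_le_pLayer hK).trans (le_sup_left.trans le_sup_left), ?_⟩
  apply Subgroup.normal_subgroupOf_of_le_normalizer
  rw [ExtTwoLayer.extendedTwoLayer_eq]
  refine sup_le (sup_le ?_ ?_) (iSup_le (coreC_le_normalizer hK))
  · refine fun g hg => mem_normalizer_of_image hK ?_
    exact base_le_normalizer hK (Subgroup.mem_map_of_mem _ (Subgroup.mem_sup_left hg))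
  · intro g hg
    apply mem_normalizer_of_image hK
    rw [QuotientGroup.mk'_apply, (QuotientGroup.eq_one_iff g).mpr hg]
    exact Subgroup.one_mem _

end Cfsg.Agent.S1344
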