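import Mathlib
import Cfsg.Statements.S1348
import Cfsg.Agent.Lib.ComponentsBasic
import Cfsg.Agent.Lib.BalanceComponents
import Cfsg.Agent.Lib.PSLSimple
import Cfsg.Agent.Lib.ComponentsCores

set_option autoImplicit false
set_option linter.style.haveILetI false
open Cfsg Subgroup Matrix
open scoped MatrixGroups

namespace Cfsg.Agent.S1348

variable {F : Type*} [Field F] [Fintype F] [DecidableEq F] {m : ℕ}

theorem quasisimple_SL {ι : Type*} [Fintype ι] [DecidableEq ι] [Nontrivial ι]
    (h3 : 3 ≤ Fintype.card ι) : Cfsg.IsQuasisimple (Matrix.SpecialLinearGroup ι F) :=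
  ⟨⟨PSLSimple.commutator_SL_eq_top h3⟩,
    PSLSimple.isSimpleGroup_PSL (PSLSimple.commutator_SL_eq_top h3)⟩

theorem standard_core {G : Type*} [Group G] [Finite G] {L : Subgroup G} {t : G}
    (hq : Cfsg.IsQuasisimple L) (ht : orderOf t = 2) (htC : t ∈ centralizer (L : Set G))
    (hab : IsMulCommutative ↥(centralizer (L : Set G)))
    (huniq : ∀ x ∈ centralizer (L : Set G), orderOf x = 2 → x = t)
    (hN : centralizer ({t} : Set G) ≤ normalizer (L : Set G)) :
    Cfsg.IsStandardSubgroup L := by
  set C := centralizer (L : Set G)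
  have hNC : normalizer (L : Set G) ≤ normalizer (C : Set G) :=
    BalanceComponents.normalizer_le_normalizer_centralizer L
  have hfix : ∀ g : G, ∀ x ∈ C, orderOf x = 2 → g * x * g⁻¹ ∈ C → g ∈ centralizer ({t} : Set G) := by
    intro g x hx hx2 hgx
    have h1 := huniq x hx hx2
    subst h1
    have h2 : g * x * g⁻¹ = x := huniq _ hgx (by
      rw [← MulAut.conj_apply, MulEquiv.orderOf_eq]; exact hx2)
    rw [mem_centralizer_singleton_iff]
    exact mul_inv_eq_iff_eq_mul.mp h2
  refine ⟨hq, ⟨?_, fun g hg => ?_⟩, fun g _ h => ?_, le_antisymm hNC fun g hg => ?_⟩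
  · rw [even_iff_two_dvd, ← ht, ← orderOf_mk t htC]
    exact orderOf_dvd_natCard _
  · by_contra hev
    rw [Nat.not_odd_iff_even, even_iff_two_dvd] at hev
    obtain ⟨⟨x, hx⟩, hx2⟩ := exists_prime_orderOf_dvd_card' 2 hev
    rw [orderOf_mk] at hx2
    obtain ⟨hxC, s, hs, hsx⟩ := mem_inf.mp hx
    have hs2 : orderOf s = 2 := by
      rw [← hx2, ← hsx]
      exact (MulEquiv.orderOf_eq (MulAut.conj g) s).symm
    exact hg (hNC (hN (hfix g s hs hs2 (by rw [← MulAut.conj_apply]; exact hsx ▸ hxC))))
  · rw [Subgroup.commutator_comm, commutator_eq_bot_iff_le_centralizer] at h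
    apply ComponentsBasic.isQuasisimple_not_commutative hq
    refine ⟨⟨fun a b => ?_⟩⟩
    have h1 := congrArg Subtype.val (hab.is_comm.comm
      (⟨_, h (mem_map_of_mem _ a.2)⟩ : C) ⟨_, h (mem_map_of_mem _ b.2)⟩)
    apply Subtype.ext
    apply (MulAut.conj g).injective
    simp only [Subgroup.coe_mul, map_mul, MulEquiv.toMonoidHom_eq_coe, MonoidHom.coe_coe] at h1 ⊢
    exact h1
  · exact hN (hfix g t htC ht ((mem_normalizer_iff.mp hg t).mp htC))

/-- The block embedding. -/
def blockMat (A : Matrix (Fin m) (Fin m) F) (d : F) : Matrix (Fin (m + 1)) (Fin (m + 1)) F :=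
  Matrix.reindex finSumFinEquiv finSumFinEquiv
    (Matrix.fromBlocks A 0 0 (Matrix.diagonal fun _ : Fin 1 => d))

theorem det_blockMat (A : Matrix (Fin m) (Fin m) F) (d : F) : (blockMat A d).det = A.det * d := by
  rw [blockMat, det_reindex_self, det_fromBlocks_zero₂₁, det_diagonal]
  simp

theorem blockMat_mul (A B : Matrix (Fin m) (Fin m) F) (c d : F) :
    blockMat A c * blockMat B d = blockMat (A * B) (c * d) := by
  simp only [blockMat, reindex_apply, submatrix_mul_equiv, fromBlocks_multiply]
  simp

theorem blockMat_one : blockMat (1 : Matrix (Fin m) (Fin m) F) 1 = 1 := by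
  simp [blockMat, Matrix.submatrix_one_equiv]

/-- The block embedding of `SL m`. -/
def emb : SpecialLinearGroup (Fin m) F →* SpecialLinearGroup (Fin (m + 1)) F where
  toFun A := ⟨blockMat A.1 1, by rw [det_blockMat, A.2, one_mul]⟩
  map_one' := Subtype.ext (by simpa using blockMat_one (F := F) (m := m))
  map_mul' A B := Subtype.ext (by
    show blockMat (A.1 * B.1) 1 = blockMat A.1 1 * blockMat B.1 1
    rw [blockMat_mul, one_mul])

theorem inl_eq (i : Fin m) :
    finSumFinEquiv.symm (Fin.castSucc i) = (Sum.inl i : Fin m ⊕ Fin 1) :=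
  finSumFinEquiv_symm_apply_castAdd i

theorem inr_eq : finSumFinEquiv.symm (Fin.last m) = (Sum.inr 0 : Fin m ⊕ Fin 1) :=
  finSumFinEquiv_symm_apply_natAdd 0

theorem blockMat_castSucc (A : Matrix (Fin m) (Fin m) F) (d : F) (i j : Fin m) :
    blockMat A d i.castSucc j.castSucc = A i j := by
  simp [blockMat, inl_eq]

theorem blockMat_castSucc_last (A : Matrix (Fin m) (Fin m) F) (d : F) (i : Fin m) :
    blockMat A d i.castSucc (Fin.last m) = 0 := by
  simp [blockMat, inl_eq, inr_eq]

theorem blockMat_last_castSucc (A : Matrix (Fin m) (Fin m) F) (d : F) (i : Fin m) :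
    blockMat A d (Fin.last m) i.castSucc = 0 := by
  simp [blockMat, inl_eq, inr_eq]

theorem blockMat_last (A : Matrix (Fin m) (Fin m) F) (d : F) :
    blockMat A d (Fin.last m) (Fin.last m) = d := by
  simp [blockMat, inr_eq]

theorem eq_blockMat {g : Matrix (Fin (m + 1)) (Fin (m + 1)) F}
    (h1 : ∀ i : Fin m, g i.castSucc (Fin.last m) = 0)
    (h2 : ∀ i : Fin m, g (Fin.last m) i.castSucc = 0) :
    g = blockMat (g.submatrix Fin.castSucc Fin.castSucc) (g (Fin.last m) (Fin.last m)) := by
  ext i j
  induction i using Fin.lastCases with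
  | last =>
    induction j using Fin.lastCases with
    | last => rw [blockMat_last]
    | cast j => rw [blockMat_last_castSucc, h2]
  | cast i =>
    induction j using Fin.lastCases with
    | last => rw [blockMat_castSucc_last, h1]
    | cast j => rw [blockMat_castSucc]; rfl

/-- For `n ≥ 7` odd, the layer of the centralizer of the diagonal involution is standard. -/
theorem result {F : Type*} [Field F] [Fintype F] [DecidableEq F] (hF : Odd (Fintype.card F)) (n : ℕ) (hn : 7 ≤ n) (hodd : Odd n) (t : Matrix.SpecialLinearGroup (Fin n) F) (ht : (t : Matrix (Fin n) (Fin n) F) = Matrix.diagonal (fun i : Fin n => if (i : ℕ) + 1 = n then (1 : F) else -1)) : Cfsg.IsStandardSubgroup ((Cfsg.layer ↥(Subgroup.centralizer ({t} : Set (Matrix.SpecialLinearGroup (Fin n) F)))).map (Subgroup.centralizer ({t} : Set (Matrix.SpecialLinearGroup (Fin n) F))).subtype) := by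
  classical
  obtain ⟨m, rfl⟩ : ∃ m, n = m + 1 := ⟨n - 1, by omega⟩
  have hm : Even m := by
    rcases Nat.even_or_odd m with h | h
    · exact h
    · exact absurd hodd (Nat.not_odd_iff_even.mpr (h.add_odd odd_one))
  have h2 : (2 : F) ≠ 0 := by
    intro h
    have : ringChar F = 2 := by
      have h3 : (ringChar F) ∣ 2 := (ringChar.spec F 2).mp (by exact_mod_cast h)
      rcases (Nat.dvd_prime Nat.prime_two).mp h3 with h4 | h4
      · exact absurd h4 (CharP.ringChar_ne_one (R := F))
      · exact h4
    exact Nat.not_even_iff_odd.mpr hF (Nat.even_iff.mpr (FiniteField.even_card_iff_char_two.mp this))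
  have hneg : (-1 : F) ≠ 1 := by
    intro h
    apply h2
    linear_combination -h
  -- the matrix of `t`
  have htblock : (t : Matrix (Fin (m + 1)) (Fin (m + 1)) F) = blockMat (-1) 1 := by
    rw [ht]
    refine Eq.trans (eq_blockMat (fun i => ?_) (fun i => ?_)) ?_
    · exact Matrix.diagonal_apply_ne _ (Fin.castSucc_ne_last i)
    · exact Matrix.diagonal_apply_ne _ (Fin.castSucc_ne_last i).symm
    · congr 1
      · ext i j
        by_cases hij : i = j
        · subst hij
          simp [Fin.val_castSucc, Nat.ne_of_lt i.2]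
        · simp [hij]
      · simp
  set Ct := centralizer ({t} : Set (SpecialLinearGroup (Fin (m + 1)) F))
  have hzero : ∀ g ∈ Ct, (∀ i : Fin m, g.1 i.castSucc (Fin.last m) = 0) ∧
      (∀ i : Fin m, g.1 (Fin.last m) i.castSucc = 0) := by
    intro g hg
    have h1 := congrArg (fun u : SpecialLinearGroup (Fin (m + 1)) F => u.1) (mem_centralizer_singleton_iff.mp hg)
    change g.1 * t.1 = t.1 * g.1 at h1
    rw [ht] at h1
    constructor <;> intro i
    · have h3 := congrFun (congrFun h1 i.castSucc) (Fin.last m)
      rw [Matrix.mul_diagonal, Matrix.diagonal_mul] at h3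
      simp [Nat.ne_of_lt i.2] at h3
      have h5 : (2 : F) * g.1 i.castSucc (Fin.last m) = 0 := by linear_combination h3
      exact (mul_eq_zero.mp h5).resolve_left h2
    · have h3 := congrFun (congrFun h1 (Fin.last m)) i.castSucc
      rw [Matrix.mul_diagonal, Matrix.diagonal_mul] at h3
      simp [Nat.ne_of_lt i.2] at h3
      have h5 : (2 : F) * g.1 (Fin.last m) i.castSucc = 0 := by linear_combination -h3
      exact (mul_eq_zero.mp h5).resolve_left h2
  -- the block determinant character
  let χ : Ct →* F :=
    { toFun := fun g => g.1.1 (Fin.last m) (Fin.last m)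
      map_one' := by simp
      map_mul' := fun a b => by
        obtain ⟨a1, a2⟩ := hzero a a.2
        obtain ⟨b1, b2⟩ := hzero b b.2
        show (a.1.1 * b.1.1) (Fin.last m) (Fin.last m) = _
        rw [eq_blockMat a1 a2, eq_blockMat b1 b2, blockMat_mul, blockMat_last, blockMat_last,
          blockMat_last] }
  have hembC : ∀ A : SpecialLinearGroup (Fin m) F, emb A ∈ Ct := by
    intro A
    rw [mem_centralizer_singleton_iff]
    apply Subtype.ext
    show blockMat A.1 1 * t.1 = t.1 * blockMat A.1 1
    rw [htblock, blockMat_mul, blockMat_mul]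
    simp
  let ε : SpecialLinearGroup (Fin m) F →* χ.ker :=
    MonoidHom.codRestrict (MonoidHom.codRestrict emb Ct hembC) χ.ker (fun A => blockMat_last A.1 1)
  have hεinj : Function.Injective ε := fun A B h => by
    apply Subtype.ext
    ext i j
    have h3 := congrArg (fun u : χ.ker => u.1.1.1 i.castSucc j.castSucc) h
    change blockMat A.1 1 i.castSucc j.castSucc = blockMat B.1 1 i.castSucc j.castSucc at h3
    simpa [blockMat_castSucc] using h3
  have hεsurj : Function.Surjective ε := by
    intro g
    obtain ⟨g1, g2⟩ := hzero g.1.1 g.1.2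
    have hg : g.1.1.1 (Fin.last m) (Fin.last m) = 1 := g.2
    have heq := eq_blockMat g1 g2
    rw [hg] at heq
    refine ⟨⟨g.1.1.1.submatrix Fin.castSucc Fin.castSucc, ?_⟩, ?_⟩
    · have h3 := congrArg Matrix.det heq
      rw [det_blockMat, mul_one, g.1.1.2] at h3
      exact h3.symm
    · exact Subtype.ext (Subtype.ext (Subtype.ext heq.symm))
  haveI : Nontrivial (Fin m) := Fin.nontrivial_iff_two_le.mpr (by omega)
  have hq : Cfsg.IsQuasisimple χ.ker :=
    ComponentsBasic.isQuasisimple_of_mulEquiv (MulEquiv.ofBijective ε ⟨hεinj, hεsurj⟩)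
      (quasisimple_SL (by simp; omega))
  set K := χ.ker.map Ct.subtype
  have hqK : Cfsg.IsQuasisimple K :=
    ComponentsBasic.isQuasisimple_map_of_injective _ Ct.subtype_injective hq
  have htt : t ∈ Ct := mem_centralizer_singleton_iff.mpr rfl
  -- the centralizer consists of scalar blocks
  have hcent : ∀ g ∈ centralizer (K : Set (SpecialLinearGroup (Fin (m + 1)) F)),
      (∀ i j : Fin (m + 1), i ≠ j → g.1 i j = 0) ∧
      ∀ i j : Fin m, g.1 i.castSucc i.castSucc = g.1 j.castSucc j.castSucc := by
    intro g hg
    have key : ∀ i j : Fin m, i ≠ j →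
        g.1 * Matrix.single i.castSucc j.castSucc 1 = Matrix.single i.castSucc j.castSucc 1 * g.1 := by
      intro i j hij
      have hne : i.castSucc ≠ j.castSucc := fun h => hij (Fin.castSucc_injective m h)
      let T : SpecialLinearGroup (Fin (m + 1)) F :=
        ⟨Matrix.transvection i.castSucc j.castSucc 1, Matrix.det_transvection_of_ne _ _ hne 1⟩
      have hT : T ∈ Ct := by
        rw [mem_centralizer_singleton_iff]
        apply Subtype.ext
        show Matrix.transvection i.castSucc j.castSucc 1 * t.1 = t.1 * Matrix.transvection i.castSucc j.castSucc 1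
        rw [ht, Matrix.transvection, add_mul, mul_add, one_mul, mul_one]
        congr 1
        ext a b
        rw [Matrix.mul_diagonal, Matrix.diagonal_mul, Matrix.single_apply]
        by_cases hab' : i.castSucc = a ∧ j.castSucc = b
        · obtain ⟨rfl, rfl⟩ := hab'
          simp [Nat.ne_of_lt i.2, Nat.ne_of_lt j.2]
        · rw [if_neg hab', zero_mul, mul_zero]
      have hTK : T ∈ K := by
        refine ⟨⟨T, hT⟩, ?_, rfl⟩
        show (Matrix.transvection i.castSucc j.castSucc (1 : F)) (Fin.last m) (Fin.last m) = 1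
        simp [Matrix.transvection, Matrix.single_apply, Fin.castSucc_ne_last]
      have h3 := congrArg (fun u : SpecialLinearGroup (Fin (m + 1)) F => u.1) (mem_centralizer_iff.mp hg T hTK)
      change Matrix.transvection i.castSucc j.castSucc 1 * g.1 =
        g.1 * Matrix.transvection i.castSucc j.castSucc 1 at h3
      simp only [Matrix.transvection, add_mul, mul_add, one_mul,
        mul_one, add_right_inj] at h3
      exact h3.symm
    have hex : ∀ i : Fin m, ∃ j : Fin m, i ≠ j := fun i =>
      (exists_ne i).imp fun j h => h.symm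
    have hcol : ∀ (i : Fin m) (k : Fin (m + 1)), k ≠ i.castSucc → g.1 k i.castSucc = 0 := by
      intro i k hk
      obtain ⟨j, hij⟩ := hex i
      have h3 := congrFun (congrFun (key i j hij) k) j.castSucc
      rw [Matrix.mul_single_apply_same, Matrix.single_mul_apply_of_ne _ _ _ _ _ hk] at h3
      simpa using h3
    have hrow : ∀ (i : Fin m) (k : Fin (m + 1)), k ≠ i.castSucc → g.1 i.castSucc k = 0 := by
      intro i k hk
      obtain ⟨j, hij⟩ := hex i
      have h3 := congrFun (congrFun (key j i hij.symm) j.castSucc) k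
      rw [Matrix.single_mul_apply_same, Matrix.mul_single_apply_of_ne _ _ _ _ _ hk] at h3
      simpa using h3.symm
    refine ⟨fun i j hij => ?_, fun i j => ?_⟩
    · induction j using Fin.lastCases with
      | cast j => exact hcol j i hij
      | last =>
        induction i using Fin.lastCases with
        | last => exact absurd rfl hij
        | cast i => exact hrow i _ hij.symm
    · by_cases hij : i = j
      · rw [hij]
      have h3 := congrFun (congrFun (key i j hij) i.castSucc) j.castSucc
      rw [Matrix.mul_single_apply_same, Matrix.single_mul_apply_same] at h3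
      simpa using h3
  have hcentC : centralizer (K : Set (SpecialLinearGroup (Fin (m + 1)) F)) ≤ Ct := by
    intro g hg
    rw [mem_centralizer_singleton_iff]
    apply Subtype.ext
    show g.1 * t.1 = t.1 * g.1
    rw [ht]
    ext i j
    rw [Matrix.mul_diagonal, Matrix.diagonal_mul]
    by_cases hij : i = j
    · subst hij; exact mul_comm _ _
    · rw [(hcent g hg).1 i j hij, zero_mul, mul_zero]
  have hdiag : ∀ g ∈ centralizer (K : Set (SpecialLinearGroup (Fin (m + 1)) F)),
      g.1 = Matrix.diagonal (fun i => g.1 i i) := by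
    intro g hg
    ext i j
    by_cases hij : i = j
    · subst hij; simp
    · rw [Matrix.diagonal_apply_ne _ hij, (hcent g hg).1 i j hij]
  have hab : IsMulCommutative ↥(centralizer (K : Set (SpecialLinearGroup (Fin (m + 1)) F))) := by
    refine ⟨⟨fun a b => ?_⟩⟩
    apply Subtype.ext; apply Subtype.ext
    show a.1.1 * b.1.1 = b.1.1 * a.1.1
    rw [hdiag a a.2, hdiag b b.2, Matrix.diagonal_mul_diagonal, Matrix.diagonal_mul_diagonal]
    simp_rw [mul_comm]
  -- the layer is `K`
  have hcomp : IsComponent χ.ker := ⟨Subgroup.Normal.isSubnormal inferInstance, hq⟩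
  have hlayer : Cfsg.layer ↥Ct = χ.ker := by
    refine le_antisymm (sSup_le fun J hJ => ?_) (ComponentsBasic.component_le_layer hcomp)
    by_contra hne
    have h3 := ComponentsBasic.components_commute hJ hcomp (fun h => hne h.le)
    apply ComponentsBasic.isQuasisimple_not_commutative hJ.2
    refine ⟨⟨fun a b => ?_⟩⟩
    rw [commutator_eq_bot_iff_le_centralizer] at h3
    have hmem : ∀ x : J, ((x : Ct) : SpecialLinearGroup (Fin (m + 1)) F) ∈
        centralizer (K : Set (SpecialLinearGroup (Fin (m + 1)) F)) := by
      intro x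
      rw [mem_centralizer_iff]
      rintro _ ⟨k, hk, rfl⟩
      exact congrArg Subtype.val (mem_centralizer_iff.mp (h3 x.2) k hk)
    apply Subtype.ext; apply Subtype.ext
    show ((a : Ct) : SpecialLinearGroup (Fin (m + 1)) F) * ((b : Ct) : SpecialLinearGroup (Fin (m + 1)) F) =
      ((b : Ct) : SpecialLinearGroup (Fin (m + 1)) F) * ((a : Ct) : SpecialLinearGroup (Fin (m + 1)) F)
    exact congrArg Subtype.val (hab.is_comm.comm ⟨_, hmem a⟩ ⟨_, hmem b⟩)
  rw [hlayer]
  haveI : Finite (SpecialLinearGroup (Fin (m + 1)) F) := inferInstance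
  have htC : t ∈ centralizer (K : Set (SpecialLinearGroup (Fin (m + 1)) F)) := by
    rw [mem_centralizer_iff]
    rintro _ ⟨k, -, rfl⟩
    exact mem_centralizer_singleton_iff.mp k.2
  have i₀ : Fin m := ⟨0, by omega⟩
  refine standard_core hqK ?_ htC hab ?_ ?_
  · refine orderOf_eq_prime (Subtype.ext ?_) fun h => ?_
    · show (t ^ 2).1 = (1 : Matrix (Fin (m + 1)) (Fin (m + 1)) F)
      rw [pow_two]
      show t.1 * t.1 = _
      rw [htblock, blockMat_mul]
      simpa using blockMat_one (F := F) (m := m)
    · have h3 := congrArg (fun g : SpecialLinearGroup (Fin (m + 1)) F => g.1 i₀.castSucc i₀.castSucc) h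
      simp [htblock, blockMat_castSucc] at h3
      exact hneg h3
  · intro x hx hx2
    have hsq : x.1 * x.1 = 1 := by
      have h3 : x * x = 1 := by rw [← pow_two, ← hx2, pow_orderOf_eq_one]
      exact congrArg (fun u : SpecialLinearGroup (Fin (m + 1)) F => u.1) h3
    have hxd := hdiag x hx
    have ha : x.1 i₀.castSucc i₀.castSucc * x.1 i₀.castSucc i₀.castSucc = 1 := by
      have h3 := congrFun (congrFun hsq i₀.castSucc) i₀.castSucc
      rw [hxd, Matrix.diagonal_mul_diagonal] at h3
      simpa using h3
    have hdet := x.2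
    rw [hxd, Matrix.det_diagonal, Fin.prod_univ_castSucc,
      Finset.prod_congr rfl (fun i _ => (hcent x hx).2 i i₀), Finset.prod_const, Finset.card_univ,
      Fintype.card_fin] at hdet
    obtain ⟨k, hk⟩ := hm
    rcases mul_self_eq_one_iff.mp ha with h | h
    · exfalso
      have hl : x.1 (Fin.last m) (Fin.last m) = 1 := by simpa [h] using hdet
      have : x = 1 := by
        apply Subtype.ext
        show x.1 = (1 : Matrix (Fin (m + 1)) (Fin (m + 1)) F)
        rw [hxd, ← Matrix.diagonal_one]
        congr 1
        funext i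
        induction i using Fin.lastCases with
        | last => exact hl
        | cast i => rw [(hcent x hx).2 i i₀, h]
      rw [this, orderOf_one] at hx2
      omega
    · have hl : x.1 (Fin.last m) (Fin.last m) = 1 := by
        simpa [h, hk, ← two_mul, pow_mul] using hdet
      apply Subtype.ext
      rw [hxd, ht]
      congr 1
      funext i
      induction i using Fin.lastCases with
      | last => simp [hl]
      | cast i => simp [(hcent x hx).2 i i₀, h, Nat.ne_of_lt i.2]
  · intro g hg
    exact le_normalizer_map Ct.subtype (mem_map_of_mem _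
      (show (⟨g, hg⟩ : Ct) ∈ normalizer ((χ.ker : Subgroup Ct) : Set Ct) by
        rw [normalizer_eq_top]; exact mem_top _))

end Cfsg.Agent.S1348
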