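import Cfsg.Statements.S1367
import Mathlib
import Cfsg.Agent.Lib.BGTypePPair
import Cfsg.Agent.Lib.BGTypePUnique

set_option autoImplicit false
open Cfsg

namespace Cfsg.Agent.S1367

open scoped Pointwise commutatorElement

open Cfsg.Agent.BGTypeP in
theorem key {G : Type*} [Group G] [Finite G] {M K : Subgroup G} (h : TypeP M K) (X : Subgroup G)
    (hX : X ≤ Ks M K) (hp : (Nat.card X).Prime) :
    Subgroup.centralizer (X : Set G) ≤ M ∧
      ∀ L : Subgroup G, IsCoatom L → Subgroup.centralizer (X : Set G) ≤ L → L = M := by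
  haveI := Fact.mk hp
  obtain ⟨⟨y, hy⟩, hyq⟩ := exists_prime_orderOf_dvd_card' (G := X) (Nat.card X) dvd_rfl
  rw [Subgroup.orderOf_mk] at hyq
  have hy1 : y ≠ 1 := fun e => hp.ne_one (by rw [← hyq, e, orderOf_one])
  have e : X = Subgroup.zpowers y :=
    (Subgroup.eq_of_le_of_card_ge (Subgroup.zpowers_le.2 hy) (by rw [Nat.card_zpowers, hyq])).symm
  have ec : Subgroup.centralizer (X : Set G) = Subgroup.centralizer ({y} : Set G) := by
    rw [e, Subgroup.zpowers_eq_closure, Subgroup.centralizer_closure]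
  rw [ec]
  exact ⟨h.centralizer_le (hX hy) hy1, fun L hL hle => h.centralizer_unique (hX hy) hyq hL hle⟩

/-- Let G be a minimal simple group of odd order, M a maximal subgroup with standard factorisation M = K U M_σ, K ≠ 1, K* = M_σ ∩ C_G(K), and M* a maximal subgroup with K = M*_σ ∩ C_G(K*) and K* a Hall κ(M*)-subgroup of M*. Then for subgroups X ≤ K* and Y ≤ K of prime order, M is the only maximal subgroup containing C_G(X) and M* the only one containing C_G(Y). -/
theorem result {G : Type*} [Group G] [Finite G] (hG : Cfsg.IsMinSimpleOddOrder G)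
    (M : Subgroup G) (hM : IsCoatom M) (K U : Subgroup G) (hKU : Cfsg.IsSigmaDecomposition M K U) (hK1 : K ≠ ⊥) (Mstar : Subgroup G) (hMstar : IsCoatom Mstar)
    (hKst : K = Cfsg.sigmaCore Mstar ⊓ Subgroup.centralizer ((Cfsg.sigmaCore M ⊓ Subgroup.centralizer (K : Set G)) : Set G))
    (hKstH : Cfsg.IsPiHallOf (Cfsg.kappa Mstar) (Cfsg.sigmaCore M ⊓ Subgroup.centralizer (K : Set G)) Mstar) :
    (∀ X : Subgroup G, X ≤ (Cfsg.sigmaCore M ⊓ Subgroup.centralizer (K : Set G)) → (Nat.card X).Prime →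
        Subgroup.centralizer (X : Set G) ≤ M ∧ ∀ L : Subgroup G, IsCoatom L → Subgroup.centralizer (X : Set G) ≤ L → L = M) ∧
      (∀ Y : Subgroup G, Y ≤ K → (Nat.card Y).Prime →
        Subgroup.centralizer (Y : Set G) ≤ Mstar ∧ ∀ L : Subgroup G, IsCoatom L → Subgroup.centralizer (Y : Set G) ≤ L → L = Mstar) := by
  have h : BGTypeP.TypeP M K := ⟨hG, hM, hKU.hall, hK1⟩
  have hp : BGTypeP.Pair M K Mstar := ⟨h, ⟨hG, hMstar, hKstH, h.Ks_ne⟩, hKst.symm⟩
  refine ⟨fun X hX hXp => key h X hX hXp, fun Y hY hYp => key hp.right Y ?_ hYp⟩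
  rwa [hp.eq]

end Cfsg.Agent.S1367
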