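import Cfsg.Statements.S1384
import Cfsg.Agent.Lib.BGTypeSetup
import Cfsg.Agent.Lib.BGFinalBasic72
import Cfsg.Agent.Lib.BGSigmaRank
import Cfsg.Agent.S1351
import Cfsg.Agent.S1354
import Cfsg.Agent.S1378
import Cfsg.Agent.S1417
import Cfsg.Agent.S1431
import Cfsg.Agent.S1438

set_option autoImplicit false
open Cfsg

namespace Cfsg.Agent.S1384

open BGTypeBasic FittingHallBasic BGTypeSetup
open scoped Pointwise

theorem relIndex_dvd_index {G : Type*} [Group G] {A B : Subgroup G} (h : A ≤ B) :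
    A.relIndex B ∣ A.index := ⟨_, (Subgroup.relIndex_mul_index h).symm⟩

/-- The fusion statement when the Sylow `p`-subgroup of `H` lies in a maximal subgroup with `p` in sigma. -/
theorem fusion_aux {G : Type*} [Group G] [Finite G] (hG : Cfsg.IsMinSimpleOddOrder G)
    (H : Subgroup G) (hHn : Group.IsNilpotent H) (hHall : (Nat.card H).Coprime H.index)
    {M : Subgroup G} (hM : IsCoatom M) {p : ℕ} [Fact p.Prime] (hpH : p ∣ Nat.card H)
    (hpσ : p ∈ Cfsg.sigma M) (S : Sylow p H) (hSM : (S : Subgroup H).map H.subtype ≤ M) :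
    ∀ x ∈ H, ∀ g : G, g * x * g⁻¹ ∈ H →
      ∃ n ∈ Subgroup.normalizer (H : Set G), n * x * n⁻¹ = g * x * g⁻¹ := by
  have hp : p.Prime := Fact.out
  set P := (S : Subgroup H).map H.subtype with hP
  have hPH : P ≤ H := Subgroup.map_subtype_le _
  have maxP : ∀ {q : ℕ} [Fact q.Prime] (T : Sylow q H), q ∣ Nat.card H →
      BGUnique.IsMaxP q ((T : Subgroup H).map H.subtype) ⊤ := by
    intro q _ T hq
    refine ⟨le_top, T.isPGroup'.map _, fun R hTR _ hR => (le_antisymm hTR ?_).symm⟩
    refine Subgroup.relIndex_eq_one.mp ?_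
    obtain ⟨k, hk⟩ := hR.exists_card_eq
    have hd1 : ((T : Subgroup H).map H.subtype).relIndex R ∣ q ^ k :=
      hk ▸ ⟨_, by rw [← HallCore.card_mul_relIndex hTR]; ring⟩
    have hd2 : ((T : Subgroup H).map H.subtype).relIndex R ∣ (T : Subgroup H).index * H.index := by
      have h1 : ((T : Subgroup H).map H.subtype).index = (T : Subgroup H).index * H.index :=
        Subgroup.index_map_subtype _
      rw [← h1]
      exact relIndex_dvd_index hTR
    refine Nat.eq_one_of_dvd_coprimes (Nat.Coprime.pow_left k ?_) hd1 hd2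
    refine ((Fact.out : q.Prime).coprime_iff_not_dvd).mpr fun hd => ?_
    rcases (Fact.out : q.Prime).dvd_mul.mp hd with h | h
    · exact T.not_dvd_index h
    · exact (Fact.out : q.Prime).not_dvd_one (hHall.gcd_eq_one ▸ Nat.dvd_gcd hq h)
  have hPmax : BGUnique.IsMaxP p P M := by
    refine ⟨hSM, S.isPGroup'.map _, fun R hR hRM hRp => ?_⟩
    exact (maxP S hpH).eq_of_le R hR le_top hRp
  have hHM : H ≤ M := by
    refine le_trans ?_ (BGSigma.normalizer_le_of_sigma hpσ hPmax)
    haveI := hHn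
    haveI : (S : Subgroup H).Characteristic := S.characteristic_of_normal inferInstance
    exact Subgroup.le_normalizer.trans
      (ComponentsCores.normalizer_le_normalizer_map_subtype H (S : Subgroup H))
  have hPσ : P ≤ Cfsg.sigmaCore M := fun a ha => sigma_element_mem hG hM (hSM ha) fun r hr hd => by
    obtain ⟨k, hk⟩ := (S.isPGroup'.map H.subtype).exists_card_eq
    have h2 := hd.trans (Subgroup.orderOf_dvd_natCard _ ha)
    rw [hk] at h2
    rwa [(Nat.prime_dvd_prime_iff_eq hr hp).mp (hr.dvd_of_dvd_pow h2)]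
  have hP1 : P ≠ ⊥ := fun h => S.ne_bot_of_dvd_card hpH
    ((Subgroup.map_eq_bot_iff_of_injective _ H.subtype_injective).mp h)
  -- all primes of `H` lie in sigma
  have hallσ : ∀ q : ℕ, q.Prime → q ∣ Nat.card H → q ∈ Cfsg.sigma M := by
    intro q hq hqH
    by_contra hqσ
    haveI := Fact.mk hq
    let T : Sylow q H := default
    set Q := (T : Subgroup H).map H.subtype with hQ
    have hQM : Q ≤ M := (Subgroup.map_subtype_le _).trans hHM
    have hcomm : ∀ a ∈ Q, ∀ b ∈ P, Commute a b := by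
      rintro _ ⟨a, ha, rfl⟩ _ ⟨b, hb, rfl⟩
      haveI := hHn
      refine (commute_of_coprime_orderOf ?_).map H.subtype
      obtain ⟨i, hi⟩ := T.isPGroup'.exists_card_eq
      obtain ⟨j, hj⟩ := S.isPGroup'.exists_card_eq
      refine (Nat.Coprime.coprime_dvd_left ?_ (Nat.Coprime.coprime_dvd_right ?_
        (Nat.Coprime.pow i j ((Nat.coprime_primes hq hp).mpr fun h => hqσ (h ▸ hpσ)))))
      · exact hi ▸ Subgroup.orderOf_dvd_natCard _ ha
      · exact hj ▸ Subgroup.orderOf_dvd_natCard _ hb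
    obtain ⟨y, hy, hy1⟩ := P.bot_or_exists_ne_one.resolve_left hP1
    have hQmax : BGUnique.IsMaxP q Q M :=
      ⟨hQM, T.isPGroup'.map _, fun R hR hRM hRq => (maxP T hqH).eq_of_le R hR le_top hRq⟩
    obtain ⟨⟨a, ha⟩, haord⟩ := exists_prime_orderOf_dvd_card' (G := Q) q
      (by
        rw [Subgroup.card_map_of_injective H.subtype_injective]
        exact T.dvd_card_of_dvd_card hqH)
    rw [Subgroup.orderOf_mk] at haord
    by_cases hqκ : q ∈ Cfsg.kappa M
    · -- `Q` is cyclic, and the Sylow `p`-subgroup would lie in `W₂`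
      obtain ⟨T', hT'⟩ := hQmax.exists_sylow
      obtain ⟨⟨K, hK⟩, hKc⟩ := S1351.result hG M hM
      have hnd : ¬ q ∣ K.relIndex M := hK.2.2 q hq hqκ
      haveI : IsCyclic Q := by
        have h1 : IsCyclic (T' : Subgroup M) := (hqκ.2.2.2 T').1
        exact hT' ▸ ((T' : Subgroup M).equivMapOfInjective _ M.subtype_injective).isCyclic.mp h1
      obtain ⟨⟨z, hz⟩, hzgen⟩ := IsCyclic.exists_generator (α := Q)
      have hzp : IsPGroup q (Subgroup.zpowers z) :=
        (T.isPGroup'.map H.subtype).to_le (Subgroup.zpowers_le.mpr hz)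
      obtain ⟨m, hm, hk⟩ := exists_conj_mem_of_not_dvd_relIndex hnd (hQM hz) hzp
      set k := m⁻¹ * z * m with hkdef
      have hk1 : k ≠ 1 := by
        intro h
        have hz1 : z = 1 := by
          have := congrArg (fun t => m * t * m⁻¹) h
          simpa [hkdef, mul_assoc] using this
        obtain ⟨i, hi⟩ := hzgen ⟨a, ha⟩
        have : a = 1 := by
          have h2 := congrArg Subtype.val hi
          simpa [hz1] using h2.symm
        rw [this, orderOf_one] at haord
        exact hq.ne_one haord.symm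
      have hK1 : K ≠ ⊥ := fun h => hk1 (by simpa [h] using hk)
      have h54 := (S1354.result hG M hM K (hKc K hK) hK).2 hK1 k hk hk1
      set W := Cfsg.sigmaCore M ⊓ Subgroup.centralizer (K : Set G) with hW
      have hP'W : MulAut.conj m⁻¹ • P ≤ W := by
        intro b hb
        rw [mem_conj_smul, inv_inv] at hb
        have hbσ : b ∈ Cfsg.sigmaCore M := by
          have := conj_mem_sigmaCore (M.inv_mem hm) (hPσ hb)
          simpa [mul_assoc] using this
        have hbc : b ∈ M ⊓ Subgroup.centralizer ({k} : Set G) := by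
          refine ⟨sigmaCore_le M hbσ, Subgroup.mem_centralizer_singleton_iff.mpr ?_⟩
          have := ((hcomm z hz _ hb).map (MulAut.conj m⁻¹)).symm.eq
          simpa [hkdef, mul_assoc] using this
        rw [h54, sup_comm, ← SetLike.mem_coe, Subgroup.coe_mul_of_right_le_normalizer_left W K
          (fun c hc => Subgroup.centralizer_le_normalizer _ fun w hw => (hw.2 c hc).symm)] at hbc
        obtain ⟨w, hw, c, hc, rfl⟩ := Set.mem_mul.mp hbc
        have hcσ : c ∈ Cfsg.sigmaCore M := by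
          simpa using (Cfsg.sigmaCore M).mul_mem ((Cfsg.sigmaCore M).inv_mem hw.1) hbσ
        have hc1 : c = 1 := by
          refine orderOf_eq_one_iff.mp (Nat.eq_one_of_dvd_coprimes ?_
            (Subgroup.orderOf_dvd_natCard _ hc) (Subgroup.orderOf_dvd_natCard _ hcσ))
          exact coprime_of_primes fun r hr h1 h2 =>
            not_mem_sigma_of_kappa (hK.2.1 r hr h1) (mem_sigma_of_dvd hG hM hr h2)
        simpa [hc1] using hw
      have hP'σ : MulAut.conj m⁻¹ • P ≤ Cfsg.sigmaCore M := hP'W.trans inf_le_left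
      have hidx : ¬ p ∣ ((MulAut.conj m⁻¹ • P).subgroupOf (Cfsg.sigmaCore M)).index := by
        intro hd
        have h1 : p ∣ (MulAut.conj m⁻¹ • P).index :=
          hd.trans (relIndex_dvd_index hP'σ)
        rw [conj_smul_eq_map, Subgroup.index_map_of_bijective
          (f := (MulAut.conj m⁻¹).toMonoidHom) (MulAut.conj m⁻¹).bijective, hP,
          Subgroup.index_map_subtype] at h1
        rcases hp.dvd_mul.mp h1 with h | h
        · exact S.not_dvd_index h
        · exact hp.not_dvd_one (hHall.gcd_eq_one ▸ Nat.dvd_gcd hpH h)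
      have hP'p : IsPGroup p ((MulAut.conj m⁻¹ • P).subgroupOf (Cfsg.sigmaCore M)) :=
        ((S.isPGroup'.map H.subtype).map _).of_equiv (Subgroup.subgroupOfEquivOfLe hP'σ).symm
      have hpW : p ∣ Nat.card W := by
        refine dvd_trans ?_ (Subgroup.card_dvd_of_le hP'W)
        rw [Nat.card_congr (Subgroup.equivSMul _ P).toEquiv.symm, hP,
          Subgroup.card_map_of_injective H.subtype_injective]
        exact S.dvd_card_of_dvd_card hpH
      refine ((S1431.result hG M hM K hK hK1).2.2.1 p hp hpW (hP'p.toSylow hidx)).2.2 ?_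
      exact le_of_eq_of_le (Subgroup.map_subgroupOf_eq_of_le hP'σ) hP'W
    · -- rank two
      have hτ := BGFinal72.mem_tau2_of_fixed hG hM hq hqσ hqκ (hQM ha) haord (hPσ hy) hy1
        (hcomm a ha y hy).eq
      obtain ⟨A, hAM, hA, hAc⟩ := BGUnique.pow_le_of_not_pRankLE hτ.2.2.2
      have hAc' : Nat.card A = q ^ 2 := le_antisymm (BGSigma.card_le_of_pRankLE hτ.2.2.1 hAM hA) hAc
      obtain ⟨m, hm, hmA⟩ := BGSigma.exists_conj_maxP hQmax hAM
        (PGroupsBasic.isPGroup_of_isElementaryAbelian hA)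
      have hA' : Cfsg.IsElementaryAbelian q (MulAut.conj m • A : Subgroup G) :=
        PGroupsBasic.isElementaryAbelian_map_hom hA _
      have hA'c : Nat.card (MulAut.conj m • A : Subgroup G) = q ^ 2 := by
        rw [← Nat.card_congr (Subgroup.equivSMul _ A).toEquiv, hAc']
      obtain ⟨-, -, -, hC, -⟩ := S1417.result hG M hM q hτ (MulAut.conj m • A)
        ⟨hmA.trans hQM, hA', hA'c⟩
      have hyC : y ∈ Cfsg.sigmaCore M ⊓ Subgroup.centralizer ((MulAut.conj m • A : Subgroup G) : Set G) :=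
        ⟨hPσ hy, fun b hb => (hcomm b (hmA hb) y hy).eq⟩
      rw [hC, Subgroup.mem_bot] at hyC
      exact hy1 hyC
  have hHσ : H ≤ Cfsg.sigmaCore M := fun a ha => sigma_element_mem hG hM (hHM ha) fun r hr hd =>
    hallσ r hr (hd.trans (Subgroup.orderOf_dvd_natCard _ ha))
  have hH1 : H ≠ ⊥ := fun h => hP1 (le_bot_iff.mp (h ▸ hPH))
  intro x hx g hgx
  obtain ⟨n, hn, hne⟩ := (S1438.result hG M hM H hHσ hH1
    (hHall.coprime_dvd_right (relIndex_dvd_index hHσ))).2 x hx g hgx
  exact ⟨n, hn.2, hne⟩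

/-- Let G be a minimal simple group of odd order and H a nilpotent subgroup whose order is coprime to its index. If x ∈ H and gxg⁻¹ ∈ H for some g ∈ G, then nxn⁻¹ = gxg⁻¹ for some n in the normalizer of H. -/
theorem result {G : Type*} [Group G] [Finite G] (hG : Cfsg.IsMinSimpleOddOrder G)
    (H : Subgroup G) (hHn : Group.IsNilpotent H) (hHall : (Nat.card H).Coprime H.index) :
    ∀ x ∈ H, ∀ g : G, g * x * g⁻¹ ∈ H → ∃ n ∈ Subgroup.normalizer (H : Set G), n * x * n⁻¹ = g * x * g⁻¹ := by
  intro x hx g hgx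
  by_cases hH : H = ⊥
  · subst hH
    rw [Subgroup.mem_bot] at hx
    exact ⟨1, one_mem _, by simp [hx]⟩
  obtain ⟨p, hp, hpH⟩ := Nat.exists_prime_and_dvd (fun h => hH (H.eq_bot_of_card_eq h))
  haveI := Fact.mk hp
  obtain ⟨M, hM, hpσ⟩ := (S1378.result hG).1 p hp (hpH.trans (Subgroup.card_subgroup_dvd_card H))
  let S : Sylow p H := default
  obtain ⟨P₀, hP₀⟩ : ∃ P₀, BGUnique.IsMaxP p P₀ M := ⟨_, BGUnique.isMaxP_sylow M default⟩
  obtain ⟨c, -, hc⟩ := BGSigma.exists_conj_maxP (BGSigma.isMaxP_top_of_sigma hpσ hP₀)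
    (le_top : (S : Subgroup H).map H.subtype ≤ ⊤) (S.isPGroup'.map _)
  -- move to the conjugate
  set H' := H.map (MulAut.conj c).toMonoidHom with hH'
  let e : H ≃* H' := H.equivMapOfInjective _ (MulAut.conj c).injective
  have hH'n : Group.IsNilpotent H' := by haveI := hHn; exact Group.nilpotent_of_mulEquiv e
  have hH'hall : (Nat.card H').Coprime H'.index := by
    rw [hH', Subgroup.card_map_of_injective (f := (MulAut.conj c).toMonoidHom) (MulAut.conj c).injective,
      Subgroup.index_map_of_bijective (f := (MulAut.conj c).toMonoidHom) (MulAut.conj c).bijective]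
    exact hHall
  let S' : Sylow p H' := default
  obtain ⟨d, hd⟩ : ∃ d : H', ((S' : Subgroup H').map H'.subtype).map (MulAut.conj (d : G)).toMonoidHom ≤ M := by
    have hidx : ¬ p ∣ ((S : Subgroup H).map e.toMonoidHom).index := by
      rw [Subgroup.index_map_of_bijective (f := e.toMonoidHom) e.bijective]
      exact S.not_dvd_index
    obtain ⟨d, hd⟩ := MulAction.exists_smul_eq H' S' ((S.isPGroup'.map e.toMonoidHom).toSylow hidx)
    refine ⟨d, le_trans ?_ (hc.trans hP₀.le)⟩
    rintro _ ⟨_, ⟨s, hs, rfl⟩, rfl⟩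
    have h1 : d * s * d⁻¹ ∈ ((d • S' : Sylow p H') : Subgroup H') := ⟨s, hs, rfl⟩
    rw [hd] at h1
    obtain ⟨t, ht, hts⟩ := h1
    refine ⟨(t : G), ⟨t, ht, rfl⟩, ?_⟩
    have := congrArg Subtype.val hts
    exact this
  have hSM : (((d • S' : Sylow p H') : Subgroup H')).map H'.subtype ≤ M := by
    refine le_trans ?_ hd
    rintro _ ⟨_, ⟨s, hs, rfl⟩, rfl⟩
    exact ⟨s, ⟨s, hs, rfl⟩, rfl⟩
  have hx' : MulAut.conj c x ∈ H' := ⟨x, hx, rfl⟩
  have hgx' : (c * g * c⁻¹) * MulAut.conj c x * (c * g * c⁻¹)⁻¹ ∈ H' :=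
    ⟨g * x * g⁻¹, hgx, by simp [MulAut.conj_apply, mul_assoc]⟩
  obtain ⟨n, hn, hne⟩ := fusion_aux hG H' hH'n hH'hall hM
    (by rwa [hH', Subgroup.card_map_of_injective (f := (MulAut.conj c).toMonoidHom) (MulAut.conj c).injective])
    hpσ (d • S') hSM _ hx' _ hgx'
  refine ⟨c⁻¹ * n * c, ?_, ?_⟩
  · rw [hH', ← conj_smul_eq_map, conj_smul_normalizer, mem_conj_smul] at hn
    exact hn
  · have h1 := congrArg (fun t => c⁻¹ * t * c) hne
    simpa [MulAut.conj_apply, mul_assoc] using h1

end Cfsg.Agent.S1384
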