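import Cfsg.Statements.S1386
import Cfsg.Agent.Lib.FittingHallBasic

set_option autoImplicit false
open Cfsg
open scoped commutatorElement

namespace Cfsg.Agent.S1386

theorem cyclic_subgroup_ext {C : Type*} [Group C] [Finite C] [IsCyclic C] {A B : Subgroup C}
    (h : Nat.card A = Nat.card B) : A = B := by
  classical
  haveI := Fintype.ofFinite C
  have key : ∀ D : Subgroup C, Nat.card D = Nat.card A →
      (D : Set C) = {x : C | x ^ Nat.card A = 1} := by
    intro D hD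
    refine Set.eq_of_subset_of_ncard_le (fun x hx => ?_) ?_ (Set.toFinite _)
    · exact hD ▸ orderOf_dvd_iff_pow_eq_one.mp (Subgroup.orderOf_dvd_natCard _ hx)
    · rw [Set.ncard_eq_toFinset_card', Set.toFinset_ofFinset]
      refine le_trans (IsCyclic.card_pow_eq_one_le Nat.card_pos) ?_
      rw [← Nat.card_coe_set_eq]
      exact le_of_eq hD.symm
  exact SetLike.coe_injective ((key A rfl).trans (key B h.symm).symm)

/-- Let G be a finite group, W₁, W₂ subgroups forming a self-normalizing cyclic pair, S a subgroup with W₂ ≤ S and W₁ a complement to S' in S, and (W₁, U, W₂') type-P data for S. Then W₂' = W₂ (that is, C_{S'}(W₁) = W₂). -/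
theorem result {G : Type*} [Group G] [Finite G] (W₁ W₂ S U W₂' : Subgroup G) (hW : Cfsg.IsSelfNormalizingCyclic W₁ W₂)
    (hSW : Cfsg.IsComplIn ⁅S, S⁆ W₁ S) (hW₂S : W₂ ≤ S) (hP : Cfsg.IsTypePWith S W₁ U W₂') :
    W₂' = W₂ := by
  haveI := hP.W₁_cyclic
  obtain ⟨hne1, hne2, hinf, hcomm, hcyc, hnorm⟩ := hW
  obtain ⟨-, hne2', hinf', hcomm', hcyc', hnorm'⟩ := hP.selfNormalizing
  have hW₁S : W₁ ≤ S := hSW.2.1
  -- order of the complement
  have hidx : ⁅S, S⁆.relIndex S = Nat.card W₁ := FittingHallBasic.card_compl_eq_relIndex hSW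
  have hsub : W₂ ≤ W₁ ⊔ W₂' := by
    intro w hw
    obtain ⟨a, ha, b, hb, hwab⟩ := hSW.2.2.2 w (hW₂S hw)
    obtain ⟨x, hx, hx1⟩ := W₁.bot_or_exists_ne_one.resolve_left hne1
    have hxb : Commute x b := ((IsMulCommutative.is_comm.comm (⟨x, hx⟩ : W₁) ⟨b, hb⟩)
      |> congrArg Subtype.val)
    have hxw : Commute x w := hcomm x hx w hw
    have ha' : a = w * b⁻¹ := by rw [hwab]; group
    have hxa : Commute x a := by
      rw [ha']
      exact hxw.mul_right hxb.inv_right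
    have haW : a ∈ W₂' := by
      rw [← hP.W₂_centralizer x hx hx1]
      refine ⟨ha, ?_⟩
      show a ∈ Subgroup.centralizer ({x} : Set G)
      rw [Subgroup.mem_centralizer_singleton_iff]
      exact hxa.eq.symm
    rw [hwab]
    exact Subgroup.mul_mem _ (Subgroup.mem_sup_right haW) (Subgroup.mem_sup_left hb)
  haveI := hcyc'
  haveI : IsMulCommutative ↥(W₁ ⊔ W₂') := inferInstance
  -- a test element outside both factors
  obtain ⟨x, hx, hx1⟩ := W₁.bot_or_exists_ne_one.resolve_left hne1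
  obtain ⟨y, hy, hy1⟩ := W₂.bot_or_exists_ne_one.resolve_left hne2
  have hz1 : x * y ∈ W₁ ⊔ W₂ := Subgroup.mul_mem_sup hx hy
  have hz : ({x * y} : Set G) ⊆ (↑(W₁ ⊔ W₂) : Set G) \ (↑W₁ ∪ ↑W₂) := by
    rw [Set.singleton_subset_iff]
    refine ⟨hz1, ?_⟩
    rintro (h | h)
    · refine hy1 (Subgroup.mem_bot.mp (hinf ▸ ⟨?_, hy⟩))
      simpa using W₁.mul_mem (W₁.inv_mem hx) h
    · refine hx1 (Subgroup.mem_bot.mp (hinf ▸ ⟨hx, ?_⟩))
      simpa using W₂.mul_mem h (W₂.inv_mem hy)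
  have hN := hnorm _ hz (Set.singleton_nonempty _)
  have hW2' : W₂' ≤ W₁ ⊔ W₂ := by
    rw [← hN]
    intro v hv
    apply Subgroup.centralizer_le_normalizer
    rw [Subgroup.mem_centralizer_singleton_iff]
    exact congrArg Subtype.val (IsMulCommutative.is_comm.comm
      (⟨v, Subgroup.mem_sup_right hv⟩ : ↥(W₁ ⊔ W₂'))
      ⟨x * y, sup_le le_sup_left hsub hz1⟩)
  have heq : W₁ ⊔ W₂ = W₁ ⊔ W₂' :=
    le_antisymm (sup_le le_sup_left hsub) (sup_le le_sup_left hW2')
  have hN₁ : W₁ ≤ Subgroup.normalizer (W₂ : Set G) := fun a ha =>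
    Subgroup.centralizer_le_normalizer _ (fun b hb => (hcomm a ha b hb).symm)
  have hN₁' : W₁ ≤ Subgroup.normalizer (W₂' : Set G) := fun a ha =>
    Subgroup.centralizer_le_normalizer _ (fun b hb => (hcomm' a ha b hb).symm)
  have hcards : ∀ V : Subgroup G, W₁ ⊓ V = ⊥ → W₁ ≤ Subgroup.normalizer (V : Set G) →
      Nat.card ↥(W₁ ⊔ V) = Nat.card W₁ * Nat.card V := by
    intro V h hN
    rw [← HallCore.card_mul_relIndex (A := V) (B := W₁ ⊔ V) le_sup_right]
    have h2 : V.relIndex (W₁ ⊔ V) = Nat.card W₁ := by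
      refine FittingHallBasic.card_compl_eq_relIndex ⟨le_sup_right, le_sup_left, by rw [inf_comm, h], ?_⟩
      intro m hm
      rw [sup_comm, ← SetLike.mem_coe, Subgroup.coe_mul_of_right_le_normalizer_left V W₁ hN] at hm
      obtain ⟨a, ha, b, hb, hab⟩ := Set.mem_mul.mp hm
      exact ⟨a, ha, b, hb, hab.symm⟩
    rw [h2, mul_comm]
  have hcard : Nat.card W₂ = Nat.card W₂' := by
    have h1 := hcards W₂ hinf hN₁
    have h2 := hcards W₂' hinf' hN₁'
    rw [heq] at h1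
    exact Nat.eq_of_mul_eq_mul_left Nat.card_pos (h1.symm.trans h2)
  have hW2le : W₂ ≤ W₁ ⊔ W₂' := hsub
  have h3 : W₂.subgroupOf (W₁ ⊔ W₂') = W₂'.subgroupOf (W₁ ⊔ W₂') := by
    refine cyclic_subgroup_ext ?_
    rw [Nat.card_congr (Subgroup.subgroupOfEquivOfLe hW2le).toEquiv,
      Nat.card_congr (Subgroup.subgroupOfEquivOfLe (le_sup_right : W₂' ≤ _)).toEquiv, hcard]
  ext v
  constructor
  · intro hv
    have : (⟨v, Subgroup.mem_sup_right hv⟩ : ↥(W₁ ⊔ W₂')) ∈ W₂'.subgroupOf (W₁ ⊔ W₂') := hv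
    rw [← h3] at this
    exact this
  · intro hv
    have : (⟨v, hW2le hv⟩ : ↥(W₁ ⊔ W₂')) ∈ W₂.subgroupOf (W₁ ⊔ W₂') := hv
    rw [h3] at this
    exact this

end Cfsg.Agent.S1386
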