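import Cfsg.Statements.S1387
import Cfsg.Agent.Lib.FittingHallBasic

set_option autoImplicit false
open Cfsg
open scoped commutatorElement

namespace Cfsg.Agent.S1387

open FittingHallBasic

variable {G : Type*} [Group G] [Finite G]

theorem card_U_coprime {M W₁ U W₂ : Subgroup G} (hP : Cfsg.IsTypePWith M W₁ U W₂) :
    (Nat.card (fittingHallOf M)).Coprime (Nat.card U) := by
  rw [← card_compl_eq_relIndex hP.U_compl]
  refine (fittingHallOf_coprime M).coprime_dvd_right ?_
  exact ⟨_, (Subgroup.relIndex_mul_relIndex _ _ _ hP.U_compl.1 (Subgroup.commutator_le_self _)).symm⟩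

theorem inf_fitting_le_centralizer {M W₁ U W₂ : Subgroup G} (hP : Cfsg.IsTypePWith M W₁ U W₂) :
    U ⊓ fittingOf M ≤ Subgroup.centralizer (fittingHallOf M : Set G) := by
  intro u hu h hh
  haveI := fittingOf_isNilpotent M
  have hcop : (orderOf (⟨h, fittingHallOf_le_fittingOf M hh⟩ : fittingOf M)).Coprime
      (orderOf (⟨u, hu.2⟩ : fittingOf M)) := by
    rw [Subgroup.orderOf_mk, Subgroup.orderOf_mk]
    exact ((card_U_coprime hP).coprime_dvd_left (Subgroup.orderOf_dvd_natCard _ hh)).coprime_dvd_right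
      (Subgroup.orderOf_dvd_natCard _ hu.1)
  exact congrArg Subtype.val (commute_of_coprime_orderOf hcop).eq

/-- Let M be a subgroup of a finite group G with type-P data (W₁, U, W₂) and H = M_F. Then the Fitting subgroup F(M) is generated by H and the centralizer of H in U. -/
theorem result {G : Type*} [Group G] [Finite G] (M W₁ U W₂ : Subgroup G) (hP : Cfsg.IsTypePWith M W₁ U W₂) :
    Cfsg.fittingOf M = Cfsg.fittingHallOf M ⊔ (U ⊓ Subgroup.centralizer (Cfsg.fittingHallOf M : Set G)) := by
  refine le_antisymm ?_ (sup_le (fittingHallOf_le_fittingOf M) ?_)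
  · intro m hm
    obtain ⟨h, hh, u, hu, rfl⟩ := hP.U_compl.2.2.2 m (hP.fitting_le hm)
    have huF : u ∈ fittingOf M := by
      simpa using Subgroup.mul_mem _ (Subgroup.inv_mem _ (fittingHallOf_le_fittingOf M hh)) hm
    exact Subgroup.mul_mem_sup hh ⟨hu, inf_fitting_le_centralizer hP ⟨hu, huF⟩⟩
  · rw [← hP.fitting_eq]
    exact le_sup_of_le_right (inf_le_inf_right _ (hP.U_compl.2.1.trans (Subgroup.commutator_le_self _)))

end Cfsg.Agent.S1387
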