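import Cfsg.Statements.S1388
import Cfsg.Agent.Lib.FittingHallBasic

set_option autoImplicit false
open Cfsg
open scoped commutatorElement

namespace Cfsg.Agent.S1388

open FittingHallBasic

variable {G : Type*} [Group G] [Finite G]

theorem card_U_coprime {M W₁ U W₂ : Subgroup G} (hP : Cfsg.IsTypePWith M W₁ U W₂) :
    (Nat.card (fittingHallOf M)).Coprime (Nat.card U) := by
  rw [← card_compl_eq_relIndex hP.U_compl]
  refine (fittingHallOf_coprime M).coprime_dvd_right ?_
  exact ⟨_, (Subgroup.relIndex_mul_relIndex _ _ _ hP.U_compl.1 (Subgroup.commutator_le_self _)).symm⟩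

theorem inf_fitting_le_centralizer {M W₁ U W₂ : Subgroup G} (hP : Cfsg.IsTypePWith M W₁ U W₂) :
    U ⊓ fittingOf M ≤ Subgroup.centralizer (fittingHallOf M : Set G) := by
  intro u hu h hh
  haveI := fittingOf_isNilpotent M
  have hcop : (orderOf (⟨h, fittingHallOf_le_fittingOf M hh⟩ : fittingOf M)).Coprime
      (orderOf (⟨u, hu.2⟩ : fittingOf M)) := by
    rw [Subgroup.orderOf_mk, Subgroup.orderOf_mk]
    exact ((card_U_coprime hP).coprime_dvd_left (Subgroup.orderOf_dvd_natCard _ hh)).coprime_dvd_right
      (Subgroup.orderOf_dvd_natCard _ hu.1)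
  exact congrArg Subtype.val (commute_of_coprime_orderOf hcop).eq

/-- Let M be a subgroup of a finite group G with type-P data (W₁, U, W₂) and H = M_F. Then the derived subgroup of U centralizes H, and if U ≠ 1 then U does not centralize H. -/
theorem result {G : Type*} [Group G] [Finite G] (M W₁ U W₂ : Subgroup G) (hP : Cfsg.IsTypePWith M W₁ U W₂) :
    ⁅U, U⁆ ≤ Subgroup.centralizer (Cfsg.fittingHallOf M : Set G) ∧ (U ≠ ⊥ → ¬ U ≤ Subgroup.centralizer (Cfsg.fittingHallOf M : Set G)) := by
  have hUM : U ≤ M := hP.U_compl.2.1.trans (Subgroup.commutator_le_self _)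
  refine ⟨?_, fun hne hUC => hne ?_⟩
  · refine le_trans (le_inf ?_ ?_) (inf_fitting_le_centralizer hP)
    · exact Subgroup.commutator_le_self U
    · refine le_trans (Subgroup.commutator_mono hP.U_compl.2.1 hP.U_compl.2.1) ?_
      exact hP.derived_two_le.trans hP.fitting_eq.le
  · have hUF : U ≤ fittingOf M := (le_inf hUM hUC).trans (le_sup_right.trans hP.fitting_eq.le)
    haveI := fittingOf_isNilpotent M
    have hUn : Group.IsNilpotent U := hP.U_nilpotent
    have hN : M ≤ Subgroup.normalizer (U : Set G) := by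
      intro m hm
      obtain ⟨a, ha, w, hw, rfl⟩ := hP.W₁_compl.2.2.2 m hm
      obtain ⟨h, hh, u, hu, rfl⟩ := hP.U_compl.2.2.2 a ha
      refine Subgroup.mul_mem _ (Subgroup.mul_mem _ ?_ (Subgroup.le_normalizer hu)) (hP.U_normal hw)
      exact Subgroup.centralizer_le_normalizer _ (fun v hv => (hUC hv h hh).symm)
    have hle : U.subgroupOf M ≤ fittingHall M := by
      refine le_fittingHall (Subgroup.normal_subgroupOf_of_le_normalizer hN) ?_ ?_
      · exact Group.nilpotent_of_mulEquiv (Subgroup.subgroupOfEquivOfLe hUM).symm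
      · rw [Nat.card_congr (Subgroup.subgroupOfEquivOfLe hUM).toEquiv]
        show (Nat.card U).Coprime (U.relIndex M)
        have hUM' := hP.U_compl.2.1
        have hHM' := hP.U_compl.1
        have h1 : Nat.card U * U.relIndex ⁅M, M⁆ = Nat.card U * Nat.card (fittingHallOf M) := by
          rw [HallCore.card_mul_relIndex hUM', ← HallCore.card_mul_relIndex hHM',
            card_compl_eq_relIndex hP.U_compl, mul_comm]
        rw [← Subgroup.relIndex_mul_relIndex _ _ _ hUM' (Subgroup.commutator_le_self M),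
          Nat.eq_of_mul_eq_mul_left Nat.card_pos h1]
        refine Nat.Coprime.mul_right (card_U_coprime hP).symm ?_
        rw [card_compl_eq_relIndex hP.W₁_compl]
        refine (Nat.Coprime.coprime_dvd_left (k := Nat.card ↥⁅M, M⁆) ?_ ?_)
        · exact Subgroup.card_dvd_of_le hUM'
        · have hWM := hP.W₁_compl.2.1
          have h2 : Nat.card W₁ * W₁.relIndex M = Nat.card W₁ * Nat.card ↥⁅M, M⁆ := by
            rw [HallCore.card_mul_relIndex hWM, ← HallCore.card_mul_relIndex (Subgroup.commutator_le_self M),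
              card_compl_eq_relIndex hP.W₁_compl, mul_comm]
          rw [← Nat.eq_of_mul_eq_mul_left Nat.card_pos h2]
          exact hP.W₁_hall.symm
    have : U ≤ fittingHallOf M := fun u hu => ⟨⟨u, hUM hu⟩, hle hu, rfl⟩
    rw [← le_bot_iff, ← hP.U_compl.2.2.1]
    exact le_inf this le_rfl

end Cfsg.Agent.S1388
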