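import Cfsg.Statements.S1399
import Cfsg.Agent.Lib.BGUniqueBasic

set_option autoImplicit false
open Cfsg

namespace Cfsg.Agent.S1399

/-- Let G be a minimal simple group of odd order, L a subgroup contained in exactly one maximal subgroup of G, and K a subgroup of C_G(L) having, for some prime p, an elementary abelian subgroup of order p ^ 2. Then K is contained in exactly one maximal subgroup of G. -/
theorem result {G : Type*} [Group G] [Finite G] (hG : Cfsg.IsMinSimpleOddOrder G)
    (L K : Subgroup G) (hL : Cfsg.InUniqueMaximal L) (hK : K ≤ Subgroup.centralizer (L : Set G)) (hKr : ¬ Cfsg.RankLE 1 K) :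
    Cfsg.InUniqueMaximal K := by
  obtain ⟨E, hEK, p, hp, hE, hE2⟩ : ∃ (E : Subgroup G), E ≤ K ∧ ∃ p : ℕ, p.Prime ∧
      Cfsg.IsElementaryAbelian p E ∧ p ^ 2 ≤ Nat.card E := by
    unfold Cfsg.RankLE at hKr
    push Not at hKr
    obtain ⟨p, hp, h⟩ := hKr
    haveI := Fact.mk hp
    obtain ⟨E, h1, h2, h3⟩ := BGUnique.pow_le_of_not_pRankLE h
    exact ⟨E, h1, p, hp, h2, h3⟩
  haveI := Fact.mk hp
  exact BGUnique.unique_of_le_centralizer hG hL hK hEK hE.1
    (PGroupsBasic.isPGroup_of_isElementaryAbelian hE) (BGUnique.not_isCyclic_of_sq_le hE hE2)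

end Cfsg.Agent.S1399
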