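import Cfsg.Statements.S1413
import Cfsg.Agent.Lib.BGSylowNormalizer

set_option autoImplicit false
open Cfsg Subgroup

namespace Cfsg.Agent.S1413

/-- Let G be a minimal simple group of odd order, p a prime and P a Sylow p-subgroup. (c) If Q ≤ P and xQx⁻¹ ≤ P then xQx⁻¹ = yQy⁻¹ for some y ∈ N_G(P). (d) For every Q ≤ P, p does not divide the index of N_P(Q) in N_G(Q). (e) If R is a p-subgroup and Q ≤ P ∩ R is normal in N_G(P), then Q is normal in N_G(R). -/
theorem result {G : Type*} [Group G] [Finite G] (hG : Cfsg.IsMinSimpleOddOrder G) (p : ℕ) [Fact p.Prime] (P : Sylow p G) :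
    (∀ (Q : Subgroup G) (x : G), Q ≤ (P : Subgroup G) → Q.map (MulAut.conj x).toMonoidHom ≤ (P : Subgroup G) →
        ∃ y ∈ Subgroup.normalizer ((P : Subgroup G) : Set G), Q.map (MulAut.conj x).toMonoidHom = Q.map (MulAut.conj y).toMonoidHom) ∧
      (∀ Q : Subgroup G, Q ≤ (P : Subgroup G) →
        ¬ p ∣ ((P : Subgroup G) ⊓ Subgroup.normalizer (Q : Set G)).relIndex (Subgroup.normalizer (Q : Set G))) ∧
      (∀ (R Q : Subgroup G), IsPGroup p R → Q ≤ (P : Subgroup G) ⊓ R →
        Subgroup.normalizer ((P : Subgroup G) : Set G) ≤ Subgroup.normalizer (Q : Set G) →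
        Subgroup.normalizer (R : Set G) ≤ Subgroup.normalizer (Q : Set G)) := by
  refine ⟨fun Q x hQ hx => ?_, fun Q hQ => ?_, fun R Q hR hQ hN => ?_⟩
  · obtain ⟨y, hy, h⟩ := BGSylowNormalizer.fusion_normalizer hG P hQ (x := x)
      (fun q hq => hx ⟨q, hq, rfl⟩)
    refine ⟨y, hy, ?_⟩
    ext z
    constructor <;> rintro ⟨q, hq, rfl⟩ <;> refine ⟨q, hq, ?_⟩
    · simpa using (h q hq).symm
    · simpa using h q hq
  · set N := normalizer (Q : Set G) with hN
    set D := (P : Subgroup G) ⊓ N with hD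
    obtain ⟨S, hS⟩ := ((P.isPGroup'.to_le (inf_le_left : D ≤ P)).comap_of_injective N.subtype
      N.subtype_injective).exists_le_sylow
    obtain ⟨g, hg⟩ := BGSylowNormalizer.exists_conj_le (S.isPGroup'.map N.subtype) P
    have hQS : ∀ q ∈ Q, q ∈ (S : Subgroup N).map N.subtype := fun q hq =>
      ⟨⟨q, le_normalizer hq⟩, hS ⟨hQ hq, le_normalizer hq⟩, rfl⟩
    obtain ⟨y, hy, h⟩ := BGSylowNormalizer.fusion_normalizer hG P hQ (x := g)
      (fun q hq => hg q (hQS q hq))
    have hN' : y⁻¹ * g ∈ N := BGSylowNormalizer.mem_normalizer_of_forall fun q hq => by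
      rw [show y⁻¹ * g * q * (y⁻¹ * g)⁻¹ = y⁻¹ * (g * q * g⁻¹) * y by group, h q hq]
      simpa [mul_assoc] using hq
    have hle : ((S : Subgroup N).map N.subtype).map (MulAut.conj (y⁻¹ * g)).toMonoidHom ≤ D := by
      rintro _ ⟨_, ⟨s, hs, rfl⟩, rfl⟩
      refine ⟨?_, N.mul_mem (N.mul_mem hN' s.2) (N.inv_mem hN')⟩
      show y⁻¹ * g * (s : G) * (y⁻¹ * g)⁻¹ ∈ (P : Subgroup G)
      have := (mem_normalizer_iff.1 (inv_mem hy) _).1 (hg _ ⟨s, hs, rfl⟩)
      rw [show y⁻¹ * g * (s : G) * (y⁻¹ * g)⁻¹ = y⁻¹ * (g * (s : G) * g⁻¹) * y⁻¹⁻¹ by group]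
      exact this
    have hc := card_le_of_le hle
    rw [card_map_of_injective (MulAut.conj (y⁻¹ * g)).injective,
      card_map_of_injective N.subtype_injective] at hc
    have he : D.subgroupOf N = S := eq_of_le_of_card_ge hS
      (hc.trans (Nat.card_congr (subgroupOfEquivOfLe (inf_le_right : D ≤ N)).toEquiv).ge)
    rw [relIndex, he]
    exact S.not_dvd_index
  · intro g hgR
    obtain ⟨k, hk⟩ := BGSylowNormalizer.exists_conj_le hR P
    have key : ∀ z : G, (∀ q ∈ Q, z * q * z⁻¹ ∈ (P : Subgroup G)) → z ∈ normalizer (Q : Set G) := by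
      intro z hz
      obtain ⟨y, hy, h⟩ := BGSylowNormalizer.fusion_normalizer hG P (hQ.trans inf_le_left) hz
      refine BGSylowNormalizer.mem_normalizer_of_forall fun q hq => ?_
      rw [h q hq]
      exact (mem_normalizer_iff.1 (hN hy) q).1 hq
    have h1 := key k fun q hq => hk q (hQ hq).2
    have h2 := key (k * g) fun q hq => by
      have := hk _ ((mem_normalizer_iff.1 hgR q).1 (hQ hq).2)
      simpa [mul_assoc] using this
    have := mul_mem (inv_mem h1) h2
    rwa [inv_mul_cancel_left] at this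

end Cfsg.Agent.S1413
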