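import Cfsg.Statements.S1441
import Cfsg.Agent.Lib.OddLocalBase

set_option autoImplicit false
open Cfsg
open scoped commutatorElement

namespace Cfsg.Agent.S1441

/-- Let G be a finite group, H a solvable subgroup and A a subgroup normalizing H. Suppose there is a chain H = H₀ ≥ H₁ ≥ ⋯ ≥ H_n = 1 of subgroups normal in H and normalized by A such that A acts trivially on each factor H_{i-1}/H_i (that is, [H_{i-1}, A] ≤ H_i). Then every prime dividing the index of C_A(H) in A divides the order of H. -/
theorem result {G : Type*} [Group G] [Finite G] (H A : Subgroup G) (hH : Group.IsSolvable H) (hA : (A ≤ Subgroup.normalizer (H : Set G)))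
    (n : ℕ) (c : Fin (n + 1) → Subgroup G) (hc0 : c 0 = H) (hcn : c (Fin.last n) = ⊥) (hanti : Antitone c)
    (hcN : ∀ i, H ≤ Subgroup.normalizer ((c i : Subgroup G) : Set G)) (hcA : ∀ i, A ≤ Subgroup.normalizer ((c i : Subgroup G) : Set G))
    (htriv : ∀ i : Fin n, ⁅c i.castSucc, A⁆ ≤ c i.succ) :
    ∀ p : ℕ, p.Prime → p ∣ (A ⊓ Subgroup.centralizer (H : Set G)).relIndex A → p ∣ Nat.card H := by
  intro p hp hdvd
  by_contra hnd
  have : Fact p.Prime := ⟨hp⟩
  obtain ⟨Q⟩ : Nonempty (Sylow p A) := inferInstance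
  have hQ : (Q : Subgroup A) ≤ (A ⊓ Subgroup.centralizer (H : Set G)).subgroupOf A := by
    intro a ha
    obtain ⟨k, hk⟩ := IsPGroup.iff_orderOf.1 Q.isPGroup' ⟨a, ha⟩
    have hk' : orderOf (a : G) = p ^ k := by
      rw [← hk, Subgroup.orderOf_mk, Subgroup.orderOf_coe]
    refine ⟨a.2, fun h hh => ?_⟩
    have key : ∀ i : Fin (n + 1), ∀ x ∈ c i, (a : G) * x = x * (a : G) := by
      intro i
      induction i using Fin.reverseInduction with
      | last => intro x hx; rw [hcn, Subgroup.mem_bot] at hx; simp [hx]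
      | cast i ih =>
        intro x hx
        have hy : x⁻¹ * (a : G) * x * (a : G)⁻¹ ∈ c i.succ := by
          have := htriv i (Subgroup.commutator_mem_commutator ((c i.castSucc).inv_mem hx) a.2)
          simpa [commutatorElement_def] using this
        have hyH : x⁻¹ * (a : G) * x * (a : G)⁻¹ ∈ H := hc0 ▸ hanti (Fin.zero_le _) hy
        refine OddLocalBase.comm_of_coprime_fixed _ _ ?_ (ih _ hy)
        rw [hk']
        refine Nat.Coprime.pow_right k (Nat.Coprime.symm ((Nat.Prime.coprime_iff_not_dvd hp).2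
          fun hd => hnd (hd.trans ?_)))
        exact Subgroup.orderOf_dvd_natCard H hyH
    exact (key 0 h (hc0.symm ▸ hh)).symm
  exact Q.not_dvd_index (hdvd.trans (Subgroup.index_dvd_of_le hQ))

end Cfsg.Agent.S1441
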