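import Cfsg.Statements.S1459
import Cfsg.Agent.Lib.CoprimeAction
import Cfsg.Agent.Lib.HallCore
import Cfsg.Agent.Lib.PGroupsBasic

set_option autoImplicit false
open Cfsg
open scoped commutatorElement Pointwise

namespace Cfsg.Agent.S1459

/-- Let G be a finite solvable group. (a) If H is a normal subgroup of order coprime to its index, K is a complement to H, and H ≤ G', then H = [H, K] and H ∩ C_G(K) ≤ [H, H]. (b) If G' is nilpotent and has prime index in G, then the order of G' is coprime to its index and G' = [G, K] (the subgroup generated by commutators of elements of G with elements of K) for every complement K of G'. -/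
theorem result {G : Type*} [Group G] [Finite G] [Group.IsSolvable G] :
    (∀ (H K : Subgroup G), H.Normal → (Nat.card H).Coprime H.index → Subgroup.IsComplement' H K → H ≤ commutator G →
        H = ⁅H, K⁆ ∧ H ⊓ Subgroup.centralizer (K : Set G) ≤ ⁅H, H⁆) ∧
      (Group.IsNilpotent ↥(commutator G) → (commutator G).index.Prime →
        (Nat.card ↥(commutator G)).Coprime (commutator G).index ∧
        ∀ K : Subgroup G, Subgroup.IsComplement' (commutator G) K → commutator G = ⁅(⊤ : Subgroup G), K⁆) := by
  have part1 : ∀ (H K : Subgroup G), H.Normal → (Nat.card H).Coprime H.index →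
      Subgroup.IsComplement' H K → H ≤ commutator G →
      H = ⁅H, K⁆ ∧ H ⊓ Subgroup.centralizer (K : Set G) ≤ ⁅H, H⁆ := by
    intro H K hHn hcop hc hHG
    have hKH : K ≤ Subgroup.normalizer (H : Set G) := by
      rw [Subgroup.normalizer_eq_top]; exact le_top
    have htop : H ⊔ K = ⊤ := hc.sup_eq_top
    have hNH : ⁅H, K⁆ ≤ H := Subgroup.le_normalizer_iff_commutator_le_left.1 hKH
    have hNn : ⁅H, K⁆.Normal := by
      refine Subgroup.normalizer_eq_top_iff.1 (top_le_iff.1 ?_)
      rw [← htop]
      exact sup_le (Subgroup.normalizer_commutator_ge_left H K)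
        (Subgroup.normalizer_commutator_ge_right H K)
    have hDn : ⁅H, H⁆.Normal := Subgroup.commutator_normal H H
    set M := ⁅H, K⁆ ⊔ ⁅H, H⁆ with hM
    have hMn : M.Normal := inferInstance
    have hMH : M ≤ H := sup_le hNH (Subgroup.le_normalizer_iff_commutator_le_left.1
      Subgroup.le_normalizer)
    -- `G' ≤ M K'`
    have hG' : commutator G ≤ ⁅K, K⁆ ⊔ M := by
      intro x hx
      have hle : (commutator G).map (QuotientGroup.mk' M) ≤ (⁅K, K⁆).map (QuotientGroup.mk' M) := by
        rw [commutator_def, Subgroup.map_commutator, Subgroup.commutator_le]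
        have hcomm : ∀ h ∈ H, ∀ g : G, Commute (QuotientGroup.mk' M h) (QuotientGroup.mk' M g) := by
          intro h hh g
          obtain ⟨h', hh', k, hk, rfl⟩ := Subgroup.mem_sup_of_normal_left.1
            (htop ▸ Subgroup.mem_top g)
          rw [map_mul]
          refine Commute.mul_right ?_ ?_
          · refine commutatorElement_eq_one_iff_mul_comm.1 ?_
            rw [← map_commutatorElement]
            exact (QuotientGroup.eq_one_iff _).2 (Subgroup.mem_sup_right
              (Subgroup.commutator_mem_commutator hh hh'))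
          · refine commutatorElement_eq_one_iff_mul_comm.1 ?_
            rw [← map_commutatorElement]
            exact (QuotientGroup.eq_one_iff _).2 (Subgroup.mem_sup_left
              (Subgroup.commutator_mem_commutator hh hk))
        rintro _ ⟨a, -, rfl⟩ _ ⟨b, -, rfl⟩
        obtain ⟨h, hh, k, hk, rfl⟩ := Subgroup.mem_sup_of_normal_left.1 (htop ▸ Subgroup.mem_top a)
        obtain ⟨h', hh', k', hk', rfl⟩ := Subgroup.mem_sup_of_normal_left.1 (htop ▸ Subgroup.mem_top b)
        refine ⟨⁅k, k'⁆, Subgroup.commutator_mem_commutator hk hk', ?_⟩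
        rw [map_commutatorElement]
        set π := QuotientGroup.mk' M
        have c1 : ∀ g, Commute (π h) g := fun g => by
          obtain ⟨g, rfl⟩ := QuotientGroup.mk'_surjective M g; exact hcomm h hh g
        have c2 : ∀ g, Commute (π h') g := fun g => by
          obtain ⟨g, rfl⟩ := QuotientGroup.mk'_surjective M g; exact hcomm h' hh' g
        simp only [map_mul, commutatorElement_def, mul_inv_rev]
        calc π k * π k' * (π k)⁻¹ * (π k')⁻¹
            = π k * π k' * ((π k)⁻¹ * ((π h)⁻¹ * π h)) * ((π k')⁻¹ * ((π h')⁻¹ * π h')) := by group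
          _ = π h * (π k * π k') * ((π k)⁻¹ * (π h)⁻¹) * ((π k')⁻¹ * (π h')⁻¹ * π h') := by
              rw [(c1 (π k * π k')).eq]
              simp only [mul_assoc, inv_mul_cancel_left, inv_mul_cancel, mul_one]
              rw [← mul_assoc (π h) (π k)⁻¹, (c1 (π k)⁻¹).eq]
              simp only [mul_assoc, mul_inv_cancel_left]
          _ = π h' * (π h * (π k * π k') * ((π k)⁻¹ * (π h)⁻¹) * ((π k')⁻¹ * (π h')⁻¹)) := by
              rw [(c2 _).eq]; group
          _ = π h * π k * (π h' * π k') * ((π k)⁻¹ * (π h)⁻¹) * ((π k')⁻¹ * (π h')⁻¹) := by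
              rw [← mul_assoc (π h * π k) (π h'), ← (c2 (π h * π k)).eq]; group
      obtain ⟨c, hc, hcx⟩ := hle (Subgroup.mem_map_of_mem _ hx)
      have h3 : c⁻¹ * x ∈ M := QuotientGroup.eq.1 hcx
      have := Subgroup.mul_mem _ (Subgroup.mem_sup_left (T := M) hc) (Subgroup.mem_sup_right h3)
      simpa using this
    have hHM : H ≤ M := by
      intro x hx
      obtain ⟨c, hc', m, hm, rfl⟩ := Subgroup.mem_sup_of_normal_right.1 (hG' (hHG hx))
      have hcH : c ∈ H := by simpa using H.mul_mem hx (H.inv_mem (hMH hm))
      have hcK : c ∈ K := (Subgroup.le_normalizer_iff_commutator_le_left.1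
        (Subgroup.le_normalizer (H := K))) hc'
      have : c ∈ H ⊓ K := ⟨hcH, hcK⟩
      rw [hc.disjoint.eq_bot, Subgroup.mem_bot] at this
      rwa [this, one_mul]
    have hH : H = ⁅H, K⁆ := by
      set π := QuotientGroup.mk' ⁅H, K⁆
      have h1 : H.map π = ⁅H.map π, H.map π⁆ := by
        rw [← Subgroup.map_commutator]
        refine le_antisymm ((Subgroup.map_mono hHM).trans ?_)
          (Subgroup.map_mono (Subgroup.le_normalizer_iff_commutator_le_left.1 Subgroup.le_normalizer))
        rw [Subgroup.map_sup, QuotientGroup.map_mk'_self, bot_sup_eq]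
      have h2 : H.map π = ⊥ := by
        by_contra hne
        exact absurd h1.symm (Group.IsSolvable.commutator_lt_of_ne_bot hne).ne
      rw [Subgroup.map_eq_bot_iff, QuotientGroup.ker_mk'] at h2
      exact le_antisymm h2 hNH
    refine ⟨hH, ?_⟩
    set π := QuotientGroup.mk' ⁅H, H⁆
    rintro c ⟨hcH, hcK⟩
    have hV : IsMulCommutative (H.map π) := by
      refine ⟨⟨?_⟩⟩
      rintro ⟨_, a, ha, rfl⟩ ⟨_, b, hb, rfl⟩
      refine Subtype.ext ?_
      show π a * π b = π b * π a
      rw [← commutatorElement_eq_one_iff_mul_comm, ← map_commutatorElement]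
      exact (QuotientGroup.eq_one_iff _).2 (Subgroup.commutator_mem_commutator ha hb)
    have hcop' : (Nat.card (K.map π)).Coprime (Nat.card (H.map π)) := by
      have : Nat.card K = H.index := hc.symm.index_eq_card.symm
      exact Nat.Coprime.coprime_dvd_left (Subgroup.card_map_dvd _ _)
        (Nat.Coprime.coprime_dvd_right (Subgroup.card_map_dvd _ _) (this ▸ hcop.symm))
    have hbot := CoprimeAction.inf_centralizer_inf_commutator_eq_bot (V := H.map π) (A := K.map π)
      ((Subgroup.map_mono hKH).trans (Subgroup.le_normalizer_map π)) hcop'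
    have hmem : π c ∈ (H.map π ⊓ Subgroup.centralizer ((K.map π : Subgroup (G ⧸ ⁅H, H⁆)) : Set (G ⧸ ⁅H, H⁆)))
        ⊓ ⁅H.map π, K.map π⁆ := by
      refine ⟨⟨⟨c, hcH, rfl⟩, ?_⟩, ?_⟩
      · rintro _ ⟨k, hk, rfl⟩
        rw [← map_mul, ← map_mul, hcK k hk]
      · rw [← Subgroup.map_commutator, ← hH]; exact ⟨c, hcH, rfl⟩
    rw [hbot, Subgroup.mem_bot] at hmem
    exact (QuotientGroup.eq_one_iff c).1 hmem
  refine ⟨part1, fun hnil hprime => ?_⟩
  have hcop : (Nat.card (commutator G)).Coprime (commutator G).index := by
    set q := (commutator G).index with hq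
    have : Fact q.Prime := ⟨hprime⟩
    set N := commutator G with hN
    set R := (Cfsg.pPrimeCore q N).map N.subtype with hR
    have hRn : R.Normal := by
      have := HallCore.pPrimeCore_characteristic q N
      rw [hR]; infer_instance
    have hRN : R ≤ N := Subgroup.map_subtype_le _
    have hRcop : (Nat.card R).Coprime q := by
      rw [hR, Subgroup.card_map_of_injective N.subtype_injective]
      exact HallCore.coprime_card_pPrimeCore q N
    -- the only prime of `N.index * [N : R]` is `q`
    have hpow : IsPGroup q (G ⧸ R) := by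
      refine IsPGroup.of_card (Nat.eq_prime_pow_of_unique_prime_dvd Nat.card_pos.ne'
        (fun {r} hr hrd => ?_))
      rw [← Subgroup.index_eq_card, ← Subgroup.relIndex_mul_index hRN] at hrd
      rcases (Nat.Prime.dvd_mul hr).1 hrd with h | h
      · by_contra hrq
        have := Fact.mk hr
        obtain ⟨P⟩ : Nonempty (Sylow r N) := inferInstance
        have : (P : Subgroup N).Normal := by
          have := Group.normalizerCondition_of_isNilpotent (G := N)
          exact P.normal_of_normalizerCondition this
        have hle : (P : Subgroup N) ≤ Cfsg.pPrimeCore q N := by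
          refine HallCore.le_pPrimeCore ?_
          rw [P.card_eq_multiplicity]
          exact ((Nat.coprime_primes hr hprime).2 hrq).pow_left _
        have h' : r ∣ (Cfsg.pPrimeCore q N).index := by
          rwa [hR, Subgroup.relIndex, Subgroup.subgroupOf,
            Subgroup.comap_map_eq_self_of_injective N.subtype_injective] at h
        exact P.not_dvd_index (h'.trans (Subgroup.index_dvd_of_le hle))
      · exact (Nat.prime_dvd_prime_iff_eq hr hprime).1 h
    -- so `G/R` is cyclic, hence abelian
    obtain ⟨x, hx⟩ := SetLike.not_le_iff_exists.1 (fun h : (⊤ : Subgroup G) ≤ N => by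
      rw [top_le_iff] at h
      rw [hq, h, Subgroup.index_top] at hprime
      exact Nat.not_prime_one hprime)
    set π := QuotientGroup.mk' R
    have hcyc : Subgroup.zpowers (π x) = ⊤ := by
      refine frattini_nongenerating (top_le_iff.1 ?_)
      have hle : commutator (G ⧸ R) ≤ frattini (G ⧸ R) := PGroupsBasic.commutator_le_frattini hpow
      refine le_trans ?_ (sup_le_sup_left hle _)
      intro z _
      obtain ⟨g, rfl⟩ := QuotientGroup.mk'_surjective R z
      have htop : Subgroup.zpowers x ⊔ N = ⊤ := by
        have hlt : N < Subgroup.zpowers x ⊔ N := lt_of_le_of_ne le_sup_right fun h =>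
          hx.2 (h ▸ Subgroup.mem_sup_left (Subgroup.mem_zpowers x))
        have h1 : (Subgroup.zpowers x ⊔ N).index ∣ q := Subgroup.index_dvd_of_le le_sup_right
        rcases (Nat.dvd_prime hprime).1 h1 with h | h
        · exact Subgroup.index_eq_one.1 h
        · exact absurd (Subgroup.index_strictAnti hlt) (by rw [h]; exact lt_irrefl q)
      have hmap := congrArg (Subgroup.map π) htop
      rw [Subgroup.map_sup, MonoidHom.map_zpowers] at hmap
      have hg : π g ∈ Subgroup.zpowers (π x) ⊔ N.map π := by
        rw [hmap]; exact ⟨g, Subgroup.mem_top g, rfl⟩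
      refine SetLike.le_def.1 (sup_le_sup_left ?_ _) hg
      rw [hN, commutator_def, commutator_def, Subgroup.map_commutator]
      exact Subgroup.commutator_mono le_top le_top
    have hNR : N ≤ R := by
      rw [hN, commutator_def, Subgroup.commutator_le]
      intro a _ b _
      rw [← QuotientGroup.eq_one_iff]
      show π ⁅a, b⁆ = 1
      rw [map_commutatorElement, commutatorElement_eq_one_iff_mul_comm]
      obtain ⟨m, hm⟩ := Subgroup.mem_zpowers_iff.1 (hcyc ▸ Subgroup.mem_top (π a))
      obtain ⟨n, hn⟩ := Subgroup.mem_zpowers_iff.1 (hcyc ▸ Subgroup.mem_top (π b))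
      rw [← hm, ← hn]
      exact (Commute.zpow_zpow (Commute.refl (π x)) m n).eq
    exact hRcop.coprime_dvd_left (Subgroup.card_dvd_of_le hNR)
  refine ⟨hcop, fun K hK => le_antisymm ?_ ?_⟩
  · calc commutator G = ⁅commutator G, K⁆ := (part1 _ K inferInstance hcop hK le_rfl).1
      _ ≤ ⁅(⊤ : Subgroup G), K⁆ := Subgroup.commutator_mono le_top le_rfl
  · rw [commutator_def]
    exact Subgroup.commutator_mono le_top le_top

end Cfsg.Agent.S1459
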