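import Cfsg.Statements.S1460
import Cfsg.Agent.Lib.CoprimeAction
import Cfsg.Agent.Lib.CoprimeSZ
import Cfsg.Agent.Lib.PLengthOne

set_option autoImplicit false
open Cfsg
open scoped commutatorElement Pointwise

namespace Cfsg.Agent.S1460

/-- Let G be a finite solvable group, K a normal subgroup and U a subgroup with G = KU, and H ≤ U a subgroup whose order is coprime to that of K. Then H ∩ G' = H ∩ U'; N_G(H) is generated by K ∩ C_G(H) and U ∩ N_G(H); and if gHg⁻¹ ≤ U for some g ∈ G then g = u c with u ∈ U and c ∈ K ∩ C_G(H). -/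
theorem result {G : Type*} [Group G] [Finite G] [Group.IsSolvable G] (K U H : Subgroup G) [K.Normal] (hKU : K ⊔ U = ⊤) (hH : H ≤ U) (hcop : (Nat.card H).Coprime (Nat.card K)) :
    H ⊓ commutator G = H ⊓ ⁅U, U⁆ ∧
      Subgroup.normalizer (H : Set G) = (K ⊓ Subgroup.centralizer (H : Set G)) ⊔ (U ⊓ Subgroup.normalizer (H : Set G)) ∧
      ∀ g : G, H.map (MulAut.conj g).toMonoidHom ≤ U → ∃ u ∈ U, ∃ c ∈ K ⊓ Subgroup.centralizer (H : Set G), g = u * c := by
  have hinf : ∀ x, x ∈ H → x ∈ K → x = 1 := fun x h1 h2 => by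
    rw [← orderOf_eq_one_iff]
    exact Nat.eq_one_of_dvd_coprimes hcop (Subgroup.orderOf_dvd_natCard H h1)
      (Subgroup.orderOf_dvd_natCard K h2)
  have htop : U ⊔ K = ⊤ := by rw [sup_comm, hKU]
  have hfus : ∀ g : G, H.map (MulAut.conj g).toMonoidHom ≤ U →
      ∃ u ∈ U, ∃ c ∈ K ⊓ Subgroup.centralizer (H : Set G), g = u * c := by
    intro g hg
    obtain ⟨u, hu, k, hk, rfl⟩ := Subgroup.mem_sup_of_normal_right.1 (htop ▸ Subgroup.mem_top g)
    have hkU : ∀ h ∈ H, k * h * k⁻¹ ∈ U := by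
      intro h hh
      have h1 : u * k * h * (u * k)⁻¹ ∈ U := hg ⟨h, hh, rfl⟩
      have := U.mul_mem (U.mul_mem (U.inv_mem hu) h1) hu
      simpa [mul_assoc] using this
    set D := K ⊓ U with hD
    have hHD : H ≤ Subgroup.normalizer (D : Set G) :=
      CoprimeAction.le_normalizer_inf (by rw [Subgroup.normalizer_eq_top]; exact le_top)
        (hH.trans Subgroup.le_normalizer)
    have hB : MulAut.conj k • H ≤ D ⊔ H := by
      intro x hx
      rw [CoprimeSZ.mem_conj_smul] at hx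
      obtain ⟨h, hh, rfl⟩ : ∃ h ∈ H, k * h * k⁻¹ = x := ⟨_, hx, by simp [mul_assoc]⟩
      have : k * h * k⁻¹ = (k * h * k⁻¹ * h⁻¹) * h := by group
      rw [this]
      refine Subgroup.mul_mem_sup ⟨?_, ?_⟩ hh
      · have := K.mul_mem hk (‹K.Normal›.conj_mem _ (K.inv_mem hk) h)
        simpa [mul_assoc] using this
      · exact U.mul_mem (hkU h hh) (U.inv_mem (hH hh))
    obtain ⟨d, hd, hdH⟩ := CoprimeSZ.exists_conj_of_card_eq hHD
      (hcop.coprime_dvd_right (Subgroup.card_dvd_of_le inf_le_left))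
      (Or.inl inferInstance) hB (CoprimeSZ.card_conj_smul _ _)
    -- `d⁻¹ k` normalizes `H`
    have hcn : ∀ h ∈ H, (d⁻¹ * k) * h * (d⁻¹ * k)⁻¹ ∈ H := by
      intro h hh
      have h1 : k * h * k⁻¹ ∈ MulAut.conj d • H := by
        rw [hdH]; exact CoprimeSZ.conj_mul_mem_conj_smul hh
      rw [CoprimeSZ.mem_conj_smul] at h1
      simpa [mul_assoc] using h1
    have hcK : d⁻¹ * k ∈ K := K.mul_mem (K.inv_mem hd.1) hk
    refine ⟨u * d, U.mul_mem hu hd.2, d⁻¹ * k, ⟨hcK, fun h hh => ?_⟩, by group⟩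
    have h1 : ⁅d⁻¹ * k, h⁆ ∈ H := by
      rw [commutatorElement_def]
      exact H.mul_mem (hcn h hh) (H.inv_mem hh)
    have h2 : ⁅d⁻¹ * k, h⁆ ∈ K := by
      have := K.mul_mem hcK (‹K.Normal›.conj_mem _ (K.inv_mem hcK) h)
      simpa [commutatorElement_def, mul_assoc] using this
    exact (commutatorElement_eq_one_iff_mul_comm.1 (hinf _ h1 h2)).symm
  refine ⟨le_antisymm ?_ ?_, le_antisymm ?_ ?_, hfus⟩
  · rintro h ⟨hh, hhG⟩
    refine ⟨hh, ?_⟩
    obtain ⟨v, hv, k, hk, hvk⟩ :=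
      Subgroup.mem_sup_of_normal_right.1 (PLengthOne.commutator_le_sup htop hhG)
    have hvU : v ∈ U := by
      have : ⁅U, U⁆ ≤ U := Subgroup.commutator_le.2 fun a ha b hb => by
        rw [commutatorElement_def]
        exact U.mul_mem (U.mul_mem (U.mul_mem ha hb) (U.inv_mem ha)) (U.inv_mem hb)
      exact this hv
    have hkU : k ∈ U := by
      have := U.mul_mem (U.inv_mem hvU) (hH hh)
      rwa [← hvk, inv_mul_cancel_left] at this
    refine PLengthOne.mem_commutator_of_coprime (hH hh) hkU ?_ ?_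
    · exact (hcop.coprime_dvd_left (Subgroup.orderOf_dvd_natCard H hh)).coprime_dvd_right
        (Subgroup.orderOf_dvd_natCard K hk)
    · have h1 : k⁻¹ * v⁻¹ * k ∈ ⁅U, U⁆ := by
        have := (Subgroup.mem_normalizer_iff.1 (Subgroup.normalizer_commutator_ge_left U U
          (U.inv_mem hkU)) v⁻¹).1 (Subgroup.inv_mem _ hv)
        simpa using this
      have : h⁻¹ * k = k⁻¹ * v⁻¹ * k := by rw [← hvk]; group
      rwa [this]
  · rintro h ⟨hh, hhU⟩
    refine ⟨hh, ?_⟩
    rw [commutator_def]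
    exact Subgroup.commutator_mono le_top le_top hhU
  · intro g hg
    obtain ⟨u, hu, c, hc, rfl⟩ := hfus g (by
      rintro _ ⟨h, hh, rfl⟩
      exact hH ((Subgroup.mem_normalizer_iff.1 hg h).1 hh))
    have hcN : c ∈ Subgroup.normalizer (H : Set G) := Subgroup.centralizer_le_normalizer _ hc.2
    have huN : u ∈ Subgroup.normalizer (H : Set G) := by
      have := Subgroup.mul_mem _ hg (Subgroup.inv_mem _ hcN)
      simpa using this
    exact Subgroup.mul_mem _ (Subgroup.mem_sup_right ⟨hu, huN⟩) (Subgroup.mem_sup_left hc)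
  · exact sup_le (inf_le_right.trans (Subgroup.centralizer_le_normalizer _)) inf_le_right

end Cfsg.Agent.S1460
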