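import Cfsg.Statements.S1461
import Cfsg.Agent.Lib.PLengthOne

set_option autoImplicit false
open Cfsg
open scoped commutatorElement Pointwise

namespace Cfsg.Agent.S1461

/-- Let G be a finite solvable group, p a prime with G = O_{p',p,p'}(G), and S a Sylow p-subgroup. Then: if S ≤ G' then S ≤ [N_G(S), N_G(S)]; if Y ⊆ S and xYx⁻¹ ⊆ S then x = g c for some g ∈ N_G(S) and c centralizing Y; and for every p-subgroup Q there is x ∈ C_G(Q ∩ S) with xQx⁻¹ ≤ S. -/
theorem result {G : Type*} [Group G] [Finite G] [Group.IsSolvable G] (p : ℕ) [Fact p.Prime] (hpl : Cfsg.PLengthLE p 1 G) (S : Sylow p G) :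
    ((S : Subgroup G) ≤ commutator G → (S : Subgroup G) ≤ ⁅Subgroup.normalizer ((S : Subgroup G) : Set G), Subgroup.normalizer ((S : Subgroup G) : Set G)⁆) ∧
      (∀ (Y : Set G) (x : G), Y ⊆ (S : Subgroup G) → (fun y => x * y * x⁻¹) '' Y ⊆ (S : Subgroup G) →
        ∃ g ∈ Subgroup.normalizer ((S : Subgroup G) : Set G), ∃ c ∈ Subgroup.centralizer Y, g * c = x) ∧
      ∀ Q : Subgroup G, IsPGroup p Q → ∃ x ∈ Subgroup.centralizer ((Q ⊓ (S : Subgroup G) : Subgroup G) : Set G), Q.map (MulAut.conj x).toMonoidHom ≤ (S : Subgroup G) := by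
  have hO := HallCore.pPrimeCore_normal p G
  have hSp : IsPGroup p (S : Subgroup G) := S.isPGroup'
  refine ⟨fun hS s hs => ?_, fun Y x hY hxY => ?_, fun Q hQ => ?_⟩
  · set N := Subgroup.normalizer ((S : Subgroup G) : Set G) with hN
    have htop : N ⊔ Cfsg.pPrimeCore p G = ⊤ := by
      rw [Subgroup.eq_top_iff']
      intro x
      obtain ⟨n, hn, o, ho, rfl⟩ := PLengthOne.exists_normalizer_mul hpl S x
      exact Subgroup.mul_mem_sup hn ho
    obtain ⟨v, hv, o, ho, hvo⟩ :=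
      Subgroup.mem_sup_of_normal_right.1 (PLengthOne.commutator_le_sup htop (hS hs))
    have hsN : s ∈ N := Subgroup.le_normalizer hs
    have hvN : v ∈ N := by
      have : ⁅N, N⁆ ≤ N := Subgroup.commutator_le.2 fun a ha b hb => by
        rw [commutatorElement_def]
        exact N.mul_mem (N.mul_mem (N.mul_mem ha hb) (N.inv_mem ha)) (N.inv_mem hb)
      exact this hv
    have hoN : o ∈ N := by
      have := N.mul_mem (N.inv_mem hvN) hsN
      rwa [← hvo, inv_mul_cancel_left] at this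
    refine PLengthOne.mem_commutator_of_coprime hsN hoN ?_ ?_
    · obtain ⟨k, hk⟩ := IsPGroup.iff_orderOf.1 hSp ⟨s, hs⟩
      rw [Subgroup.orderOf_mk] at hk
      rw [hk]
      exact Nat.Coprime.coprime_dvd_right (Subgroup.orderOf_dvd_natCard _ ho)
        ((HallCore.coprime_card_pPrimeCore p G).symm.pow_left k)
    · -- `s⁻¹ o = o⁻¹ v⁻¹ o`
      have h1 : o⁻¹ * v⁻¹ * o ∈ ⁅N, N⁆ := by
        have := (Subgroup.mem_normalizer_iff.1 (Subgroup.normalizer_commutator_ge_left N N
          (N.inv_mem hoN)) v⁻¹).1 (Subgroup.inv_mem _ hv)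
        simpa using this
      have : s⁻¹ * o = o⁻¹ * v⁻¹ * o := by rw [← hvo]; group
      rwa [this]
  · obtain ⟨n, hn, o, ho, rfl⟩ := PLengthOne.exists_normalizer_mul hpl S x
    refine ⟨n, hn, o, fun y hy => ?_, rfl⟩
    refine (PLengthOne.commute_of_conj_mem hSp ho (hY hy) ?_).eq.symm
    have h1 : n * (o * y * o⁻¹) * n⁻¹ ∈ (S : Subgroup G) := by
      have : n * o * y * (n * o)⁻¹ ∈ (S : Subgroup G) := hxY ⟨y, hy, rfl⟩
      simpa [mul_assoc] using this
    exact (Subgroup.mem_normalizer_iff.1 hn _).2 h1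
  · obtain ⟨T, hT⟩ := hQ.exists_le_sylow
    obtain ⟨g, hg⟩ := MulAction.exists_smul_eq G T S
    obtain ⟨n, hn, o, ho, rfl⟩ := PLengthOne.exists_normalizer_mul hpl S g
    have key : ∀ q ∈ Q, o * q * o⁻¹ ∈ (S : Subgroup G) := by
      intro q hq
      have h1 : n * o * q * (n * o)⁻¹ ∈ (S : Subgroup G) := by
        rw [← hg, Sylow.coe_subgroup_smul]
        exact Subgroup.smul_mem_pointwise_smul q (MulAut.conj (n * o)) _ (hT hq)
      refine (Subgroup.mem_normalizer_iff.1 hn _).2 ?_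
      simpa [mul_assoc] using h1
    refine ⟨o, fun y hy => (PLengthOne.commute_of_conj_mem hSp ho hy.2 (key y hy.1)).eq.symm, ?_⟩
    rintro _ ⟨q, hq, rfl⟩
    exact key q hq

end Cfsg.Agent.S1461
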