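import Cfsg.Statements.S1466
import Cfsg.Agent.Lib.PuigBasic

set_option autoImplicit false
open Cfsg

namespace Cfsg.Agent.S1466

/-- Let p be a prime and R a nontrivial finite p-group. Then for every i > 0, Z(R) ≤ C_R(L_i(R)) ≤ L_i(R); likewise Z(R) ≤ C_R(L_*(R)) ≤ L_*(R) and Z(R) ≤ C_R(L(R)) ≤ L(R); and L(R) ≠ 1, L_*(R) ≠ 1. -/
theorem result {R : Type*} [Group R] [Finite R] (p : ℕ) [Fact p.Prime] (hR : IsPGroup p R) [Nontrivial R] :
    (∀ i : ℕ, 0 < i → Subgroup.center R ≤ Subgroup.centralizer ((Cfsg.puigSeq R i : Subgroup R) : Set R) ∧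
        Subgroup.centralizer ((Cfsg.puigSeq R i : Subgroup R) : Set R) ≤ Cfsg.puigSeq R i) ∧
      (Subgroup.center R ≤ Subgroup.centralizer ((Cfsg.puigLower R : Subgroup R) : Set R) ∧ Subgroup.centralizer ((Cfsg.puigLower R : Subgroup R) : Set R) ≤ Cfsg.puigLower R) ∧
      (Subgroup.center R ≤ Subgroup.centralizer ((Cfsg.puigSubgroup R : Subgroup R) : Set R) ∧ Subgroup.centralizer ((Cfsg.puigSubgroup R : Subgroup R) : Set R) ≤ Cfsg.puigSubgroup R) ∧
      Cfsg.puigSubgroup R ≠ ⊥ ∧ Cfsg.puigLower R ≠ ⊥ := by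
  obtain ⟨A, hAn, hAc, hAC⟩ := PuigBasic.exists_scn p hR
  have hA1 : A ≠ ⊥ := by
    rintro rfl
    have h : Subgroup.centralizer ((⊥ : Subgroup R) : Set R) = ⊤ := by
      rw [Subgroup.eq_top_iff']
      intro x y hy
      rw [SetLike.mem_coe, Subgroup.mem_bot] at hy
      simp [hy]
    rw [h] at hAC
    exact top_ne_bot hAC
  have key : ∀ L : Subgroup R, A ≤ L →
      Subgroup.center R ≤ Subgroup.centralizer (L : Set R) ∧
        Subgroup.centralizer (L : Set R) ≤ L := fun L hL =>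
    ⟨Subgroup.center_le_centralizer _,
      (Subgroup.centralizer_le (show (A : Set R) ⊆ L from hL)).trans (hAC.le.trans hL)⟩
  obtain ⟨k, hk⟩ := PuigBasic.exists_stable (G := R)
  have hlow : A ≤ Cfsg.puigLower R := by
    rw [← (hk (k + 1) k.le_succ).1]
    exact PuigBasic.scn_le_puigSeq hAn hAc (by omega)
  have hup : A ≤ Cfsg.puigSubgroup R := by
    rw [← (hk k le_rfl).2]
    exact PuigBasic.scn_le_puigSeq hAn hAc (by omega)
  exact ⟨fun i hi => key _ (PuigBasic.scn_le_puigSeq hAn hAc hi), key _ hlow, key _ hup,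
    fun h => hA1 (le_bot_iff.1 (h ▸ hup)), fun h => hA1 (le_bot_iff.1 (h ▸ hlow))⟩

end Cfsg.Agent.S1466
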