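import Cfsg.Statements.S1468
import Cfsg.Agent.S1465
import Cfsg.Agent.Lib.PuigRel
import Cfsg.Agent.Lib.HallCore

set_option autoImplicit false
open Cfsg

namespace Cfsg.Agent.S1468

open Cfsg.Agent.PuigRel in
/-- The inductive step: abelian subgroups of `S` normalized by `L_i(T)` lie in `T = O_p(G)`. -/
theorem le_pCore_of_normalized {G : Type*} [Group G] [Finite G] [Group.IsSolvable G]
    (hodd : Odd (Nat.card G)) (p : ℕ) [Fact p.Prime] (hp : p ≠ 2) (hO : Cfsg.pPrimeCore p G = ⊥)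
    (i : ℕ) {A : Subgroup G} (hA : IsPGroup p A) (hAc : IsMulCommutative A)
    (hn : rel (Cfsg.pCore p G) (i + 1) ≤ Subgroup.normalizer (A : Set G)) : A ≤ Cfsg.pCore p G := by
  set T := Cfsg.pCore p G with hT
  have hTp : IsPGroup p T := HallCore.isPGroup_pCore p G
  obtain ⟨B, hBn, hBc, hBC⟩ := PuigBasic.exists_scn p hTp
  have hK : (rel T (i + 1)).Normal := rel_normal _
  have hBK : B.map T.subtype ≤ rel T (i + 1) := Subgroup.map_mono (PuigBasic.scn_le_puigSeq hBn hBc i.succ_pos)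
  have h := (Cfsg.Agent.S1465.result hodd p hp (rel T (i + 1)) (hTp.to_le (rel_le T _)) {A} (by
    intro C hC
    rw [Set.mem_singleton_iff] at hC
    subst hC
    exact ⟨hAc, hA, hn⟩)).2 hO (by
      rintro x ⟨hxT, hxC⟩
      refine hBK ⟨⟨x, hxT⟩, hBC ▸ Subgroup.mem_centralizer_iff.2 fun b hb => Subtype.ext ?_, rfl⟩
      exact Subgroup.mem_centralizer_iff.1 hxC _ (hBK ⟨b, hb, rfl⟩))
  rwa [sSup_singleton] at h

open Cfsg.Agent.PuigRel in
theorem rel_chain {G : Type*} [Group G] [Finite G] [Group.IsSolvable G]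
    (hodd : Odd (Nat.card G)) (p : ℕ) [Fact p.Prime] (hp : p ≠ 2) (hO : Cfsg.pPrimeCore p G = ⊥)
    (S : Sylow p G) (n : ℕ) :
    rel (S : Subgroup G) (2 * n) ≤ rel (Cfsg.pCore p G) (2 * n) ∧
      rel (Cfsg.pCore p G) (2 * n + 1) ≤ rel (S : Subgroup G) (2 * n + 1) := by
  induction n with
  | zero =>
    refine ⟨by rw [Nat.mul_zero, rel_zero]; exact bot_le, ?_⟩
    rw [rel_one, rel_one]
    exact HallCore.pCore_le_sylow S
  | succ n ih =>
    have ha : rel (S : Subgroup G) (2 * (n + 1)) ≤ rel (Cfsg.pCore p G) (2 * (n + 1)) :=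
      rel_succ_le (n := 2 * n + 1) fun A hA hAc hAn =>
        le_rel (le_pCore_of_normalized hodd p hp hO _ (S.2.to_le hA) hAc (ih.2.trans hAn)) hAc
          (ih.2.trans hAn)
    exact ⟨ha, rel_succ_le fun A hA hAc hAn =>
      le_rel (hA.trans (HallCore.pCore_le_sylow S)) hAc (ha.trans hAn)⟩

open Cfsg.Agent.PuigRel in
theorem relL_chain {G : Type*} [Group G] [Finite G] [Group.IsSolvable G]
    (hodd : Odd (Nat.card G)) (p : ℕ) [Fact p.Prime] (hp : p ≠ 2) (hO : Cfsg.pPrimeCore p G = ⊥)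
    (S : Sylow p G) :
    relLower (S : Subgroup G) ≤ relLower (Cfsg.pCore p G) ∧
      relL (Cfsg.pCore p G) ≤ relL (S : Subgroup G) := by
  obtain ⟨k, hk⟩ := exists_stable (S : Subgroup G)
  obtain ⟨l, hl⟩ := exists_stable (Cfsg.pCore p G)
  have h := rel_chain hodd p hp hO S (max k l)
  rw [(hk _ (le_max_left _ _)).1, (hk _ (le_max_left _ _)).2, (hl _ (le_max_right _ _)).1,
    (hl _ (le_max_right _ _)).2] at h
  exact h

/-- Let p be an odd prime, G a solvable group of odd order with O_{p'}(G) = 1, S a Sylow p-subgroup and T = O_p(G). Then, viewing the Puig subgroups of S and of T inside G, L_*(S) ≤ L_*(T) ≤ L(T) ≤ L(S). -/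
theorem result {G : Type*} [Group G] [Finite G] [Group.IsSolvable G] (hodd : Odd (Nat.card G)) (p : ℕ) [Fact p.Prime] (hp : p ≠ 2) (hO : Cfsg.pPrimeCore p G = ⊥) (S : Sylow p G) :
    (Cfsg.puigLower ↥(S : Subgroup G)).map (S : Subgroup G).subtype ≤ (Cfsg.puigLower ↥(Cfsg.pCore p G)).map (Cfsg.pCore p G).subtype ∧
      (Cfsg.puigLower ↥(Cfsg.pCore p G)).map (Cfsg.pCore p G).subtype ≤ (Cfsg.puigSubgroup ↥(Cfsg.pCore p G)).map (Cfsg.pCore p G).subtype ∧
      (Cfsg.puigSubgroup ↥(Cfsg.pCore p G)).map (Cfsg.pCore p G).subtype ≤ (Cfsg.puigSubgroup ↥(S : Subgroup G)).map (S : Subgroup G).subtype := by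
  exact ⟨(relL_chain hodd p hp hO S).1, PuigRel.relLower_le_relL _, (relL_chain hodd p hp hO S).2⟩

end Cfsg.Agent.S1468
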