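import Cfsg.Statements.S1469
import Cfsg.Agent.S1468
import Cfsg.Agent.Lib.SylowCount

set_option autoImplicit false
open Cfsg

namespace Cfsg.Agent.S1469

open Cfsg.Agent.PuigRel in
/-- The case `O_{p'}(G) = 1`. -/
theorem relZ_normal {G : Type*} [Group G] [Finite G] [Group.IsSolvable G]
    (hodd : Odd (Nat.card G)) (p : ℕ) [Fact p.Prime] (hp : p ≠ 2) (hO : Cfsg.pPrimeCore p G = ⊥)
    (S : Sylow p G) : (relZ (S : Subgroup G)).Normal := by
  set Sg := (S : Subgroup G) with hSg
  set T := Cfsg.pCore p G with hT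
  have hTS : T ≤ Sg := HallCore.pCore_le_sylow S
  have hTp : IsPGroup p T := HallCore.isPGroup_pCore p G
  obtain ⟨hlow, hhigh⟩ := Cfsg.Agent.S1468.relL_chain hodd p hp hO S
  have hSn : ∀ g ∈ Sg, ∀ x, x ∈ relL Sg → g * x * g⁻¹ ∈ relL Sg := fun g hg x hx => by
    have hmap : Sg.map (MulAut.conj g).toMonoidHom = Sg :=
      Subgroup.mem_normalizer_iff_map_conj_eq.mp (Subgroup.le_normalizer hg)
    have h := map_relL (MulAut.conj g).toMonoidHom (R := Sg) (MulAut.conj g).injective.injOn
    rw [hmap] at h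
    rw [← h]
    exact ⟨x, hx, rfl⟩
  -- `Z(L(S)) ≤ Z(L(T))`
  have hZn : Sg ≤ Subgroup.normalizer (relZ Sg : Set G) := by
    intro g hg
    have hmap : Sg.map (MulAut.conj g).toMonoidHom = Sg :=
      Subgroup.mem_normalizer_iff_map_conj_eq.mp (Subgroup.le_normalizer hg)
    have h := map_relZ (MulAut.conj g).toMonoidHom (R := Sg) (MulAut.conj g).injective.injOn
    rw [hmap] at h
    exact Subgroup.mem_normalizer_iff_map_conj_eq.mpr h
  have hZS : relZ Sg ≤ Sg := inf_le_left.trans (relL_le _)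
  have hZlow : relZ Sg ≤ relLower T :=
    ((abelian_normal_le_rel hZS (relZ_comm _) hZn 1).trans (rel_even_le_relLower Sg 1)).trans hlow
  set Z₀ := relZ T with hZ0
  have hZle : relZ Sg ≤ Z₀ := fun x hx =>
    ⟨relLower_le_relL T (hZlow hx),
      Subgroup.centralizer_le (SetLike.coe_subset_coe.2 hhigh) hx.2⟩
  have hZ0n : Z₀.Normal := by
    refine ⟨fun x hx g => ?_⟩
    have h := map_relZ (MulAut.conj g).toMonoidHom (R := T) (MulAut.conj g).injective.injOn
    have hTg : T.map (MulAut.conj g).toMonoidHom = T := Subgroup.Normal.map_conj_eq T g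
    rw [hTg] at h
    rw [hZ0, ← h]
    exact ⟨x, hx, rfl⟩
  have hZ0T : Z₀ ≤ T := inf_le_left.trans (relL_le _)
  -- `L(S)` acts quadratically on `Z(L(T))`
  set C := Subgroup.centralizer (Z₀ : Set G) with hC
  set K := (Cfsg.pCore p (G ⧸ C)).comap (QuotientGroup.mk' C) with hKdef
  have hKn : K.Normal := Subgroup.Normal.comap inferInstance _
  have hZ0Low : Z₀ ≤ relLower Sg :=
    (abelian_normal_le_rel (hZ0T.trans hTS) (relZ_comm _) (by
      rw [Subgroup.normalizer_eq_top]; exact le_top) 1).trans (rel_even_le_relLower Sg 1)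
  have hLK : relL Sg ≤ K := by
    refine relL_le_of fun A hA hAc hAn => ?_
    have h := (Cfsg.Agent.S1465.result hodd p hp Z₀ (hTp.to_le hZ0T) {A} (by
      intro B hB
      rw [Set.mem_singleton_iff] at hB
      subst hB
      exact ⟨hAc, S.2.to_le hA, hZ0Low.trans hAn⟩)).1
    rw [sSup_singleton] at h
    exact Subgroup.map_le_iff_le_comap.1 h
  set R := Sg ⊓ K with hR
  have hL : relL R = relL Sg := relL_eq_of_le (le_inf (relL_le _) hLK) inf_le_left
  -- Frattini
  have hfr := Sylow.normalizer_sup_eq_top (N := K) (SylowCount.infSylow S K)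
  have hmap : ((SylowCount.infSylow S K : Sylow p K) : Subgroup K).map K.subtype = R := by
    show (((Sg ⊓ K).subgroupOf K)).map K.subtype = R
    rw [Subgroup.subgroupOf_map_subtype, inf_eq_left.2 inf_le_right]
  rw [hmap] at hfr
  have hNR : Subgroup.normalizer (R : Set G) ≤ Subgroup.normalizer (relZ Sg : Set G) := by
    intro g hg
    have h := map_relZ (MulAut.conj g).toMonoidHom (R := R) (MulAut.conj g).injective.injOn
    have hm : R.map (MulAut.conj g).toMonoidHom = R := Subgroup.mem_normalizer_iff_map_conj_eq.mp hg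
    rw [hm, relZ, hL] at h
    exact Subgroup.mem_normalizer_iff_map_conj_eq.mpr h
  have hCK : C ≤ K := QuotientGroup.le_comap_mk' C _
  have hKle : K ≤ C ⊔ R := by
    rw [← Subgroup.relIndex_eq_one]
    have h1 : (C ⊔ R).relIndex K ∣ C.relIndex K := Subgroup.relIndex_dvd_of_le_left K le_sup_left
    have h2 : (C ⊔ R).relIndex K ∣ R.relIndex K := Subgroup.relIndex_dvd_of_le_left K le_sup_right
    have h3 : ¬ p ∣ R.relIndex K := SylowCount.inf_normal_not_dvd S K
    obtain ⟨k, hk⟩ := HallCore.card_pCore p (G ⧸ C)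
    have h4 : C.relIndex K ∣ p ^ k := by
      rw [← hk, ← Subgroup.map_comap_eq_self_of_surjective (QuotientGroup.mk'_surjective C)
        (Cfsg.pCore p (G ⧸ C)), ← hKdef, ← Subgroup.relIndex_ker, QuotientGroup.ker_mk']
    obtain ⟨i, -, hi⟩ := (Nat.dvd_prime_pow Fact.out).1 (h1.trans h4)
    rcases i with _ | i
    · simpa using hi
    · exact absurd ((dvd_pow_self p i.succ_ne_zero).trans (hi ▸ h2)) h3
  rw [← Subgroup.normalizer_eq_top_iff, eq_top_iff, ← hfr]
  refine sup_le hNR (hKle.trans (sup_le ?_ (inf_le_left.trans hZn)))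
  exact (Subgroup.centralizer_le (SetLike.coe_subset_coe.2 hZle)).trans (Subgroup.centralizer_le_normalizer _)

/-- Let p be an odd prime, G a solvable group of odd order and S a Sylow p-subgroup, and let Z be the centre of the Puig subgroup L(S), viewed inside G. Then G is generated by O_{p'}(G) and N_G(Z); and if O_{p'}(G) = 1 then Z is normal in G. -/
theorem result {G : Type*} [Group G] [Finite G] [Group.IsSolvable G] (hodd : Odd (Nat.card G)) (p : ℕ) [Fact p.Prime] (hp : p ≠ 2) (S : Sylow p G) :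
    Cfsg.pPrimeCore p G ⊔ Subgroup.normalizer ((((Subgroup.center ↥(Cfsg.puigSubgroup ↥(S : Subgroup G))).map (Cfsg.puigSubgroup ↥(S : Subgroup G)).subtype).map (S : Subgroup G).subtype : Subgroup G) : Set G) = ⊤ ∧
      (Cfsg.pPrimeCore p G = ⊥ → (((Subgroup.center ↥(Cfsg.puigSubgroup ↥(S : Subgroup G))).map (Cfsg.puigSubgroup ↥(S : Subgroup G)).subtype).map (S : Subgroup G).subtype).Normal) := by
  rw [PuigRel.relZ_eq]
  refine ⟨?_, fun hO => relZ_normal hodd p hp hO S⟩
  set N := Cfsg.pPrimeCore p G with hN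
  set q := QuotientGroup.mk' N with hq
  have hs : Function.Surjective q := QuotientGroup.mk'_surjective _
  have hinj : Set.InjOn q ((S : Subgroup G) : Set G) := by
    intro a ha b hb hab
    have h1 : a⁻¹ * b ∈ (S : Subgroup G) ⊓ N :=
      ⟨(S : Subgroup G).mul_mem ((S : Subgroup G).inv_mem ha) hb, QuotientGroup.eq.1 hab⟩
    have hdisj : Disjoint (S : Subgroup G) N := by
      refine Subgroup.disjoint_of_coprime_natCard ?_
      obtain ⟨k, hk⟩ := IsPGroup.iff_card.mp S.2
      rw [hk]
      exact ((HallCore.coprime_card_pPrimeCore p G).symm).pow_left k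
    rw [hdisj.eq_bot, Subgroup.mem_bot, inv_mul_eq_one] at h1
    exact h1
  set Z := PuigRel.relZ (S : Subgroup G) with hZ
  have hn := relZ_normal (Odd.of_dvd_nat hodd (Subgroup.card_quotient_dvd_card N)) p hp
    (HallCore.pPrimeCore_quotient_self p G) (S.mapSurjective hs)
  rw [Sylow.coe_mapSurjective, ← PuigRel.map_relZ q hinj, ← hZ] at hn
  have hKn : (Z ⊔ N).Normal := by
    have h := hn.comap q
    rwa [Subgroup.comap_map_eq, QuotientGroup.ker_mk'] at h
  have hZp : IsPGroup p Z := S.2.to_le (inf_le_left.trans (PuigRel.relL_le _))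
  -- `Z` is a Sylow subgroup of `Z N`
  set K := Z ⊔ N with hK
  have hnd : ¬ p ∣ (Z.subgroupOf K).index := by
    have h1 : Z.relIndex K ∣ Nat.card N := by
      have h2 := HallCore.card_sup_dvd Z N
      rw [← hK, ← HallCore.card_mul_relIndex (le_sup_left : Z ≤ K)] at h2
      exact (Nat.mul_dvd_mul_iff_left Nat.card_pos).1 h2
    intro hd
    exact HallCore.not_dvd_card_pPrimeCore p G (hd.trans h1)
  let Q : Sylow p K := IsPGroup.toSylow
    (hZp.of_equiv (Subgroup.subgroupOfEquivOfLe (le_sup_left : Z ≤ K)).symm) hnd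
  have hfr := Sylow.normalizer_sup_eq_top (N := K) Q
  have hmap : ((Q : Sylow p K) : Subgroup K).map K.subtype = Z := by
    show (Z.subgroupOf K).map K.subtype = Z
    rw [Subgroup.subgroupOf_map_subtype, inf_eq_left.2 le_sup_left]
  rw [hmap] at hfr
  rw [eq_top_iff, ← hfr]
  exact sup_le le_sup_right (sup_le (Subgroup.le_normalizer.trans le_sup_right) le_sup_left)

end Cfsg.Agent.S1469
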