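import Mathlib
import Cfsg.Statements.S1470
-- import your own Cfsg.Agent.* helpers here

set_option autoImplicit false
open Cfsg

namespace Cfsg.Agent.S1470

open Polynomial in
theorem aux_roots {F : Type*} [Field F] (p q : ℕ) [Fact p.Prime] [CharP F p] (hq : 0 < q) (x : F)
    (hx : x ≠ 0)
    (h : ∀ n : ℕ, ∏ i ∈ Finset.range q, (1 + (n : F) * x ^ (p ^ i)) = 1) : p ≤ q := by
  classical
  set P : F[X] := ∏ i ∈ Finset.range q, (C (x ^ (p ^ i)) * X + C 1) with hP
  have hdeg : P.natDegree = q := by
    rw [hP, natDegree_prod _ _ (fun i _ => by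
      intro h0
      have := congrArg (fun f : F[X] => f.coeff 0) h0
      simp at this)]
    rw [Finset.sum_congr rfl (fun i _ => natDegree_linear (pow_ne_zero (p ^ i) hx))]
    simp
  have hne : P - 1 ≠ 0 := by
    intro h0
    rw [sub_eq_zero] at h0
    rw [h0, natDegree_one] at hdeg
    omega
  have hroots : (Finset.range p).image (fun n : ℕ => (n : F)) ⊆ (P - 1).roots.toFinset := by
    intro z hz
    obtain ⟨n, hn, rfl⟩ := Finset.mem_image.1 hz
    rw [Multiset.mem_toFinset, mem_roots hne]
    simp only [IsRoot.def, eval_sub, eval_one, hP, eval_prod, eval_add, eval_mul, eval_C, eval_X]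
    rw [sub_eq_zero]
    refine Eq.trans (Finset.prod_congr rfl fun i _ => ?_) (h n)
    ring
  have hc : ((Finset.range p).image (fun n : ℕ => (n : F))).card = p := by
    rw [Finset.card_image_of_injOn, Finset.card_range]
    intro a ha b hb hab
    exact CharP.natCast_injOn_Iio F p (by simpa using ha) (by simpa using hb) hab
  calc p = ((Finset.range p).image (fun n : ℕ => (n : F))).card := hc.symm
    _ ≤ (P - 1).roots.toFinset.card := Finset.card_le_card hroots
    _ ≤ Multiset.card (P - 1).roots := Multiset.toFinset_card_le _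
    _ ≤ (P - 1).natDegree := card_roots' _
    _ ≤ q := le_trans (natDegree_sub_le _ _) (by simp [hdeg])

/-- Let p and q be odd primes with (p^q − 1)/(p − 1) coprime to p − 1, and let E be the set of elements a of the field with p ^ q elements whose norm to the prime field is 1 and for which 2 − a also has norm 1. If a⁻¹ ∈ E for every a ∈ E and E has at least two elements, then p ≤ q. -/
theorem result (p q : ℕ) [Fact p.Prime] [Fact q.Prime] (hp : p ≠ 2) (hq : q ≠ 2) (hA : Nat.Coprime ((p ^ q - 1) / (p - 1)) (p - 1))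
    (hinv : ∀ a ∈ {a : GaloisField p q | Algebra.norm (ZMod p) a = 1 ∧ Algebra.norm (ZMod p) (2 - a) = 1}, a⁻¹ ∈ {a : GaloisField p q | Algebra.norm (ZMod p) a = 1 ∧ Algebra.norm (ZMod p) (2 - a) = 1})
    (h2 : 2 ≤ Set.ncard {a : GaloisField p q | Algebra.norm (ZMod p) a = 1 ∧ Algebra.norm (ZMod p) (2 - a) = 1}) :
    p ≤ q := by
  have hqpos : 0 < q := (Fact.out : q.Prime).pos
  obtain ⟨a, ha, ha1⟩ := Set.exists_ne_of_one_lt_ncard (by omega : 1 < Set.ncard {a : GaloisField p q |
    Algebra.norm (ZMod p) a = 1 ∧ Algebra.norm (ZMod p) (2 - a) = 1}) 1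
  set x : GaloisField p q := a - 1 with hxdef
  have hseq : ∀ n : ℕ, ∃ b : GaloisField p q,
      (Algebra.norm (ZMod p) b = 1 ∧ Algebra.norm (ZMod p) (2 - b) = 1) ∧
      b * (1 + (n : GaloisField p q) * x) = 1 + ((n : GaloisField p q) + 1) * x := by
    intro n
    induction n with
    | zero => exact ⟨a, ha, by simp [hxdef]⟩
    | succ n ih =>
      obtain ⟨b, hb, hbeq⟩ := ih
      have hb0 : b ≠ 0 := by
        rintro rfl
        simp at hb
      obtain ⟨h1, h2'⟩ := hinv b hb
      refine ⟨2 - b⁻¹, ⟨h2', by simpa using h1⟩, ?_⟩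
      push_cast
      rw [sub_mul, ← hbeq, inv_mul_cancel_left₀ hb0]
      linear_combination (2 : GaloisField p q) * hbeq
  have hN : ∀ n : ℕ, Algebra.norm (ZMod p) (1 + (n : GaloisField p q) * x) = 1 := by
    intro n
    induction n with
    | zero => simp
    | succ n ih =>
      obtain ⟨b, hb, hbeq⟩ := hseq n
      push_cast
      rw [← hbeq, map_mul, ih, hb.1, one_mul]
  refine aux_roots (F := GaloisField p q) p q hqpos x (sub_ne_zero.2 ha1) fun n => ?_
  have hfr : Module.finrank (ZMod p) (GaloisField p q) = q :=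
    GaloisField.finrank p hqpos.ne'
  have := FiniteField.algebraMap_norm_eq_prod_pow (ZMod p) (GaloisField p q)
    (1 + (n : GaloisField p q) * x)
  rw [hN n, hfr, map_one, Nat.card_eq_fintype_card, ZMod.card] at this
  refine (Finset.prod_congr rfl fun i _ => ?_).trans this.symm
  have hn : ∀ k : ℕ, (n : GaloisField p q) ^ (p ^ k) = (n : GaloisField p q) := by
    intro k
    induction k with
    | zero => simp
    | succ k ih =>
      rw [pow_succ, pow_mul, ih]
      exact map_natCast (frobenius (GaloisField p q) p) n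
  rw [add_pow_char_pow, one_pow, mul_pow, hn]

end Cfsg.Agent.S1470
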