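import Cfsg.Statements.S1476
import Cfsg.Agent.Lib.CNSolvable

set_option autoImplicit false
open Cfsg

namespace Cfsg.Agent.S1476

/-- Let G be a finite solvable group in which every non-identity element has nilpotent centralizer. Then either G is nilpotent; or G has a normal subgroup K with a Frobenius complement E (K E = G, K ∩ E = 1, E meets its conjugates by outside elements trivially) such that E is cyclic or E is generated by two elementwise-commuting subgroups, one cyclic of odd order and one isomorphic to a generalized quaternion group; or G is a three-step group with respect to some prime p. -/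
theorem result {G : Type*} [Group G] [Finite G] [Group.IsSolvable G] (hCN : Cfsg.IsCNGroup G) :
    Group.IsNilpotent G ∨
      (∃ K E : Subgroup G, K.Normal ∧ Subgroup.IsComplement' K E ∧ Cfsg.IsFrobeniusComplement E ∧
        (IsCyclic E ∨ ∃ C Q : Subgroup G, C ⊔ Q = E ∧ (∀ a ∈ C, ∀ b ∈ Q, a * b = b * a) ∧ IsCyclic C ∧ Odd (Nat.card C) ∧
          ∃ n : ℕ, Nonempty (↥Q ≃* QuaternionGroup (2 ^ n)))) ∨
      ∃ p : ℕ, p.Prime ∧ Cfsg.IsThreeStepGroup p G := by
  by_cases hn : Group.IsNilpotent G
  · exact Or.inl hn
  refine Or.inr ?_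
  by_cases h : ∃ (p : ℕ) (_ : Fact p.Prime) (P : Sylow p G),
      (P : Subgroup G) ≠ ⊥ ∧ (P : Subgroup G).Normal
  · obtain ⟨p, _, P, hP1, hPn⟩ := h
    obtain ⟨-, h1, -, E, hc, hF, hfpf, hE⟩ := CNSolvable.normal_sylow hCN hn P hP1 hPn
    exact Or.inl ⟨_, E, inferInstance, hc, hF, CNSolvable.complement_shape hc h1 hfpf⟩
  · have hnt : Nontrivial G := by
      by_contra hs
      have : Subsingleton G := not_nontrivial_iff_subsingleton.mp hs
      exact hn inferInstance
    have hF : Cfsg.fittingSubgroup G ≠ ⊥ := fun e => by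
      have h1 := ComponentsFitting.gen_ne_bot (G := G)
      rw [ComponentsFitting.gen_eq_fitting_iff.mpr ComponentsFitting.layer_eq_bot_of_isSolvable] at h1
      exact h1 e
    obtain ⟨p, hp, hpd⟩ := Nat.exists_prime_and_dvd
      (fun e => hF (Subgroup.eq_bot_of_card_eq _ e))
    have := Fact.mk hp
    have hK := CNSolvable.mem_pCore_of_dvd_fitting hpd
    obtain ⟨P⟩ := (inferInstance : Nonempty (Sylow p G))
    refine Or.inr ⟨p, hp, CNSolvable.three_step hCN hK P fun e => h ⟨p, this, P, ?_, ?_⟩⟩
    · rw [e]; exact hK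
    · rw [e]; exact HallCore.pCore_normal p G

end Cfsg.Agent.S1476
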