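import Cfsg.Statements.S1477
import Cfsg.Agent.Lib.CNBasic
import Cfsg.Agent.Lib.CNGlobal
import Cfsg.Agent.Lib.FittingHallBasic
import Cfsg.Agent.Lib.ThompsonAQ

set_option autoImplicit false
open Cfsg

namespace Cfsg.Agent.S1477

section
set_option linter.unusedSectionVars false
variable {G : Type*} [Group G] [Finite G] {H : Subgroup G}

/-- Coprime elements of a nilpotent subgroup commute. -/
theorem commute_mem (hH : Group.IsNilpotent H) {a b : G} (ha : a ∈ H) (hb : b ∈ H)
    (hab : (orderOf a).Coprime (orderOf b)) : Commute a b := by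
  have := hH
  have h := FittingHallBasic.commute_of_coprime_orderOf (N := H) (a := ⟨a, ha⟩) (b := ⟨b, hb⟩)
    (by rwa [Subgroup.orderOf_mk, Subgroup.orderOf_mk])
  exact congrArg Subtype.val h.eq

/-- Coprime elements centralizing the same non-identity element commute. -/
theorem commute_cent (hCN : Cfsg.IsCNGroup G) {g a b : G} (hg : g ≠ 1) (ha : Commute a g)
    (hb : Commute b g) (hab : (orderOf a).Coprime (orderOf b)) : Commute a b :=
  CNBasic.commute hCN hg ha.eq.symm hb.eq.symm hab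

theorem coprime_of_prime_pow {a b : G} {r s i j : ℕ} (hr : r.Prime) (hs : s.Prime) (hne : r ≠ s)
    (ha : orderOf a = r ^ i) (hb : orderOf b = s ^ j) : (orderOf a).Coprime (orderOf b) := by
  rw [ha, hb]
  exact Nat.Coprime.pow _ _ ((Nat.coprime_primes hr hs).2 hne)

/-- A `p`-element commuting with a Sylow `p`-subgroup of a nilpotent group is central. -/
theorem central_of_commute_sylow (hH : Group.IsNilpotent H) {p : ℕ} [hp : Fact p.Prime] (S : Sylow p H)
    {z : G} (hz : z ∈ H) {i : ℕ} (hzi : orderOf z = p ^ i)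
    (hc : ∀ s ∈ (S : Subgroup H), Commute (s : G) z) : ∀ h ∈ H, Commute h z := by
  intro h hh
  have hmem : h ∈ Subgroup.centralizer ({z} : Set G) := by
    refine CNGlobal.mem_of_prime_parts _ h fun r hr y hy j hyj => ?_
    rw [Subgroup.mem_centralizer_singleton_iff]
    have hyH : y ∈ H := Subgroup.zpowers_le.2 hh hy
    by_cases hrp : r = p
    · subst hrp
      have hyp : IsPGroup r (Subgroup.zpowers (⟨y, hyH⟩ : H)) :=
        IsPGroup.of_card (n := j) (by rw [Nat.card_zpowers, Subgroup.orderOf_mk, hyj])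
      obtain ⟨T, hT⟩ := hyp.exists_le_sylow
      have := hH
      have hS : (S : Subgroup H).Normal := inferInstance
      have := Sylow.unique_of_normal S hS
      rw [Subsingleton.elim T S] at hT
      exact (hc _ (hT (Subgroup.mem_zpowers _))).eq
    · exact (commute_mem hH hyH hz (coprime_of_prime_pow hr hp.out hrp hyj hzi)).eq
  exact Subgroup.mem_centralizer_singleton_iff.1 hmem

theorem centralizer_eq (hCN : Cfsg.IsCNGroup G)
    (hmax : ∀ L : Subgroup G, Group.IsNilpotent L → H ≤ L → L = H) {w : G} (hw1 : w ≠ 1)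
    (hw : ∀ h ∈ H, Commute h w) : Subgroup.centralizer ({w} : Set G) = H :=
  hmax _ (hCN w hw1) fun h hh => Subgroup.mem_centralizer_singleton_iff.2 (hw h hh).eq

/-- Every prime divisor of `|H|` gives a full Sylow subgroup inside `H` with central `z`. -/
theorem sylow_le (hCN : Cfsg.IsCNGroup G) (hH : Group.IsNilpotent H)
    (hmax : ∀ L : Subgroup G, Group.IsNilpotent L → H ≤ L → L = H) {p : ℕ} [hp : Fact p.Prime]
    (hpd : p ∣ Nat.card H) :
    ∃ P : Sylow p G, (P : Subgroup G) ≤ H ∧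
      ∃ z ∈ (P : Subgroup G), z ≠ 1 ∧ ∀ h ∈ H, Commute h z := by
  obtain ⟨S⟩ := (inferInstance : Nonempty (Sylow p H))
  have hSne : (S : Subgroup H) ≠ ⊥ := S.ne_bot_of_dvd_card hpd
  have hnt : Nontrivial (S : Subgroup H) := (Subgroup.nontrivial_iff_ne_bot _).2 hSne
  have := S.2.center_nontrivial
  obtain ⟨⟨w, hwc⟩, hw1⟩ := exists_ne (1 : Subgroup.center (S : Subgroup H))
  obtain ⟨i, hi⟩ := IsPGroup.iff_orderOf.1 S.2 w
  have hwG : orderOf ((w : H) : G) = p ^ i := by rw [Subgroup.orderOf_coe, Subgroup.orderOf_coe, hi]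
  have hw1' : ((w : H) : G) ≠ 1 := fun h => hw1 (Subtype.ext (Subtype.ext (Subtype.ext h)))
  have hwcen := central_of_commute_sylow hH S (w : H).2 hwG fun s hs => by
    have := congrArg (fun t : (S : Subgroup H) => ((t : H) : G)) (Subgroup.mem_center_iff.1 hwc ⟨s, hs⟩)
    exact this
  have hCw := centralizer_eq hCN hmax hw1' hwcen
  have hSp : IsPGroup p ((S : Subgroup H).map H.subtype) := S.2.map _
  obtain ⟨P, hSP⟩ := hSp.exists_le_sylow
  have hPne : Nontrivial (P : Subgroup G) :=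
    ⟨⟨_, hSP ⟨(w : H), w.2, rfl⟩⟩, 1, fun h => hw1' (congrArg Subtype.val h)⟩
  have := P.2.center_nontrivial
  obtain ⟨⟨z, hzc⟩, hz1⟩ := exists_ne (1 : Subgroup.center (P : Subgroup G))
  have hzP : ∀ a ∈ (P : Subgroup G), Commute a (z : G) := fun a ha =>
    congrArg Subtype.val (Subgroup.mem_center_iff.1 hzc ⟨a, ha⟩)
  have hzH : (z : G) ∈ H := by
    rw [← hCw, Subgroup.mem_centralizer_singleton_iff]
    exact (hzP _ (hSP ⟨(w : H), w.2, rfl⟩)).symm.eq
  obtain ⟨j, hj⟩ := IsPGroup.iff_orderOf.1 P.2 z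
  rw [← Subgroup.orderOf_coe] at hj
  have hzcen := central_of_commute_sylow hH S hzH hj fun s hs => hzP _ (hSP ⟨s, hs, rfl⟩)
  have hz1' : (z : G) ≠ 1 := fun h => hz1 (Subtype.ext (Subtype.ext h))
  refine ⟨P, fun a ha => ?_, z, z.2, hz1', hzcen⟩
  rw [← centralizer_eq hCN hmax hz1' hzcen, Subgroup.mem_centralizer_singleton_iff]
  exact (hzP a ha).eq

theorem coprime_index (hCN : Cfsg.IsCNGroup G) (hH : Group.IsNilpotent H)
    (hmax : ∀ L : Subgroup G, Group.IsNilpotent L → H ≤ L → L = H) :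
    (Nat.card H).Coprime H.index := by
  refine Nat.coprime_of_dvd fun r hr hrH hri => ?_
  have := Fact.mk hr
  obtain ⟨P, hPH, -⟩ := sylow_le hCN hH hmax hrH
  exact P.not_dvd_index (hri.trans (Subgroup.index_dvd_of_le hPH))

theorem ti (hCN : Cfsg.IsCNGroup G) (hH : Group.IsNilpotent H)
    (hmax : ∀ L : Subgroup G, Group.IsNilpotent L → H ≤ L → L = H)
    (hnp : ¬ IsPrimePow (Nat.card H)) (g : G)
    (hg : H.map (MulAut.conj g).toMonoidHom ≠ H) :
    H ⊓ H.map (MulAut.conj g).toMonoidHom = ⊥ := by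
  set φ := (MulAut.conj g).toMonoidHom with hφ
  by_contra hne
  obtain ⟨p, hp, hpd⟩ := Nat.exists_prime_and_dvd (n := Nat.card (H ⊓ H.map φ : Subgroup G))
    (fun h => hne (Subgroup.card_eq_one.1 h))
  have := Fact.mk hp
  obtain ⟨x, hx⟩ := exists_prime_orderOf_dvd_card' (G := (H ⊓ H.map φ : Subgroup G)) p hpd
  rw [← Subgroup.orderOf_coe] at hx
  have hpH : p ∣ Nat.card H := hpd.trans (Subgroup.card_dvd_of_le inf_le_left)
  obtain ⟨q, hq, hqH, hqp⟩ : ∃ q, q.Prime ∧ q ∣ Nat.card H ∧ q ≠ p := by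
    by_contra hall
    push Not at hall
    apply hnp
    have h1 := Nat.eq_prime_pow_of_unique_prime_dvd (n := Nat.card H) Nat.card_pos.ne'
      (fun {d} hd hdd => hall d hd hdd)
    refine (isPrimePow_nat_iff _).2 ⟨p, (Nat.card H).primeFactorsList.length, hp, ?_, h1.symm⟩
    rw [Nat.pos_iff_ne_zero]
    intro h0
    rw [h0, pow_zero] at h1
    exact hp.ne_one (Nat.dvd_one.1 (h1 ▸ hpH))
  have := Fact.mk hq
  obtain ⟨P, hPH, z, hzP, hz1, hzc⟩ := sylow_le hCN hH hmax hqH
  have hx1 : (x : G) ≠ 1 := fun h => by rw [h, orderOf_one] at hx; exact hp.ne_one hx.symm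
  obtain ⟨a, haH, hax⟩ := x.2.2
  -- both Sylow `q`-subgroups lie in the nilpotent centralizer of `x`
  have hφP : ∀ c ∈ (P : Subgroup G), ∃ i, orderOf c = q ^ i := fun c hc => by
    obtain ⟨i, hi⟩ := IsPGroup.iff_orderOf.1 P.2 ⟨c, hc⟩
    exact ⟨i, by rw [← hi, Subgroup.orderOf_mk]⟩
  have hoa : orderOf a = p ^ 1 := by
    rw [pow_one, ← hx, ← hax]
    exact (orderOf_injective φ (MulAut.conj g).injective a).symm
  have h1 : (P : Subgroup G) ≤ Subgroup.centralizer ({(x : G)} : Set G) := fun c hc => by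
    obtain ⟨i, hi⟩ := hφP c hc
    exact Subgroup.mem_centralizer_singleton_iff.2
      (commute_mem hH (hPH hc) x.2.1 (coprime_of_prime_pow hq hp hqp hi (by rw [hx, pow_one]))).eq
  have h2 : (P : Subgroup G).map φ ≤ Subgroup.centralizer ({(x : G)} : Set G) := by
    rintro _ ⟨c, hc, rfl⟩
    obtain ⟨i, hi⟩ := hφP c hc
    rw [Subgroup.mem_centralizer_singleton_iff, ← hax, ← map_mul, ← map_mul,
      (commute_mem hH (hPH hc) haH (coprime_of_prime_pow hq hp hqp hi hoa)).eq]
  set C := Subgroup.centralizer ({(x : G)} : Set G)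
  have hC : Group.IsNilpotent C := hCN _ hx1
  have hSC : IsPGroup q ((P : Subgroup G).subgroupOf C) :=
    P.2.of_equiv (Subgroup.subgroupOfEquivOfLe h1).symm
  obtain ⟨T, hT⟩ := hSC.exists_le_sylow
  have hT2 : ((P : Subgroup G).map φ).subgroupOf C ≤ (P : Subgroup G).subgroupOf C := by
    obtain ⟨T', hT'⟩ := (((P.2.map φ).of_equiv (Subgroup.subgroupOfEquivOfLe h2).symm :
      IsPGroup q (((P : Subgroup G).map φ).subgroupOf C))).exists_le_sylow
    have := hC
    have hTn : (T : Subgroup C).Normal := inferInstance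
    have := Sylow.unique_of_normal T hTn
    rw [Subsingleton.elim T' T] at hT'
    have hTe : (T : Subgroup C).map C.subtype = (P : Subgroup G) := by
      refine P.3 (T.2.map _) ?_
      intro c hc
      exact ⟨⟨c, h1 hc⟩, hT hc, rfl⟩
    intro c hc
    show (c : G) ∈ (P : Subgroup G)
    rw [← hTe]
    exact ⟨c, hT' hc, rfl⟩
  have hPP : (P : Subgroup G).map φ ≤ (P : Subgroup G) := fun c hc =>
    hT2 (show (⟨c, h2 hc⟩ : C) ∈ ((P : Subgroup G).map φ).subgroupOf C from hc)
  have hPeq : (P : Subgroup G).map φ = (P : Subgroup G) :=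
    Subgroup.eq_of_le_of_card_ge hPP
      (Subgroup.card_map_of_injective (f := φ) (MulAut.conj g).injective).ge
  have hzc' : ∀ h ∈ H, Commute h (φ z) := by
    obtain ⟨i, hi⟩ := hφP z hzP
    refine central_of_commute_sylow hH (P.subtype hPH) (i := i)
      (hPH (hPeq ▸ ⟨z, hzP, rfl⟩)) ?_ ?_
    · rw [orderOf_injective φ (MulAut.conj g).injective, hi]
    · intro s hs
      have hs' : (s : G) ∈ (P : Subgroup G).map φ := hPeq.symm ▸ hs
      obtain ⟨c, hc, hcs⟩ := hs'
      rw [← hcs]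
      exact (hzc c (hPH hc)).map φ
  have hz1' : φ z ≠ 1 := fun h => hz1 ((map_eq_one_iff φ (MulAut.conj g).injective).1 h)
  apply hg
  refine Subgroup.eq_of_le_of_card_ge ?_
    (Subgroup.card_map_of_injective (f := φ) (MulAut.conj g).injective).ge
  rw [← centralizer_eq hCN hmax hz1' hzc']
  rintro _ ⟨c, hc, rfl⟩
  rw [Subgroup.mem_centralizer_singleton_iff]
  have hcH : c ∈ H := by rwa [centralizer_eq hCN hmax hz1' hzc'] at hc
  exact ((hzc c hcH).map φ).eq

theorem centralizer_le (hCN : Cfsg.IsCNGroup G) (hH : Group.IsNilpotent H)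
    (hmax : ∀ L : Subgroup G, Group.IsNilpotent L → H ≤ L → L = H)
    (hti : ∀ g : G, H.map (MulAut.conj g).toMonoidHom ≠ H → H ⊓ H.map (MulAut.conj g).toMonoidHom = ⊥)
    {x : G} (hxH : x ∈ H) (hx1 : x ≠ 1) : Subgroup.centralizer ({x} : Set G) ≤ H := by
  set C := Subgroup.centralizer ({x} : Set G) with hC
  have hxC : x ∈ C := Subgroup.mem_centralizer_singleton_iff.2 rfl
  by_contra hnle
  have := hCN x hx1
  have hlt : (H.subgroupOf C) ≠ ⊤ := fun h => hnle (Subgroup.subgroupOf_eq_top.1 h)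
  obtain ⟨n, hnN, hn⟩ := SetLike.exists_of_lt
    (Group.normalizerCondition_of_isNilpotent (H.subgroupOf C) (lt_top_iff_ne_top.2 hlt))
  -- a prime power part outside `H`
  obtain ⟨r, hr, y, hy, j, hyj, hyH⟩ : ∃ r, r.Prime ∧ ∃ y ∈ Subgroup.zpowers (n : G),
      ∃ j, orderOf y = r ^ j ∧ y ∉ H := by
    by_contra hall
    push Not at hall
    exact hn (CNGlobal.mem_of_prime_parts H (n : G) fun r hr y hy j hj => hall r hr y hy j hj)
  obtain ⟨m, rfl⟩ := Subgroup.mem_zpowers_iff.1 hy
  have hyC : ((n : G) ^ m) ∈ C := C.zpow_mem n.2 m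
  have hyN := Subgroup.zpow_mem _ hnN m
  set g := (n : G) ^ m with hgdef
  have hgH : g ∈ Subgroup.normalizer (H : Set G) := by
    rw [Subgroup.mem_normalizer_iff_map_conj_eq]
    by_contra hne
    have hb : x ∈ H ⊓ H.map (MulAut.conj g).toMonoidHom := by
      refine ⟨hxH, x, hxH, ?_⟩
      show g * x * g⁻¹ = x
      rw [Subgroup.mem_centralizer_singleton_iff.1 hyC, mul_inv_cancel_right]
    rw [hti g hne, Subgroup.mem_bot] at hb
    exact hx1 hb
  by_cases hrH : r ∣ Nat.card H
  · -- `g` is trivial modulo `H`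
    apply hyH
    set N := Subgroup.normalizer (H : Set G)
    have h1 : orderOf (QuotientGroup.mk' (H.subgroupOf N) ⟨g, hgH⟩) ∣ r ^ j := by
      rw [← hyj]
      refine (orderOf_map_dvd _ _).trans ?_
      rw [Subgroup.orderOf_mk]
    have h2 : orderOf (QuotientGroup.mk' (H.subgroupOf N) ⟨g, hgH⟩) ∣ H.index :=
      (orderOf_dvd_natCard _).trans (Subgroup.relIndex_dvd_index_of_le Subgroup.le_normalizer)
    have hco : (r ^ j).Coprime H.index :=
      ((coprime_index hCN hH hmax).coprime_dvd_left hrH).pow_left j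
    have h3 := orderOf_eq_one_iff.1 (Nat.eq_one_of_dvd_coprimes hco h1 h2)
    exact Subgroup.mem_subgroupOf.1 ((QuotientGroup.eq_one_iff _).1 h3)
  · have hHne : (⊤ : Subgroup H) ≠ ⊥ := fun h => by
      have : (⟨x, hxH⟩ : H) ∈ (⊥ : Subgroup H) := h ▸ Subgroup.mem_top _
      exact hx1 (congrArg Subtype.val (Subgroup.mem_bot.1 this))
    have := hH
    obtain ⟨w, -, hw1, hwc⟩ := ThompsonAQ.exists_central_mem hHne
    have hwG : ∀ h ∈ H, Commute h (w : G) := fun h hh =>
      congrArg Subtype.val (Subgroup.mem_center_iff.1 hwc ⟨h, hh⟩)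
    have hgw : Commute g (w : G) := by
      refine commute_cent hCN hx1 (Subgroup.mem_centralizer_singleton_iff.1 hyC) (hwG x hxH).symm ?_
      rw [hyj, Subgroup.orderOf_coe]
      exact (((Fact.mk hr).out.coprime_iff_not_dvd.2 hrH).coprime_dvd_right
        (orderOf_dvd_natCard w)).pow_left j
    apply hyH
    rw [← centralizer_eq hCN hmax (fun h => hw1 (Subtype.ext h)) hwG,
      Subgroup.mem_centralizer_singleton_iff]
    exact hgw.eq

end

/-- Let G be a finite group in which every non-identity element has nilpotent centralizer, and H a nilpotent subgroup not properly contained in any nilpotent subgroup. Then the order of H is coprime to its index; if the order of H is not a prime power then H ∩ gHg⁻¹ = 1 whenever gHg⁻¹ ≠ H; and if H ∩ gHg⁻¹ = 1 whenever gHg⁻¹ ≠ H, then C_G(x) ≤ H for every non-identity x ∈ H. -/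
theorem result {G : Type*} [Group G] [Finite G] (hCN : Cfsg.IsCNGroup G) (H : Subgroup G) (hH : Group.IsNilpotent H)
    (hmax : ∀ L : Subgroup G, Group.IsNilpotent L → H ≤ L → L = H) :
    (Nat.card H).Coprime H.index ∧
      (¬ IsPrimePow (Nat.card H) → Nat.card H ≠ 1 → ∀ g : G, H.map (MulAut.conj g).toMonoidHom ≠ H → H ⊓ H.map (MulAut.conj g).toMonoidHom = ⊥) ∧
      ((∀ g : G, H.map (MulAut.conj g).toMonoidHom ≠ H → H ⊓ H.map (MulAut.conj g).toMonoidHom = ⊥) → ∀ x ∈ H, x ≠ 1 → Subgroup.centralizer ({x} : Set G) ≤ H) := by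
  exact ⟨coprime_index hCN hH hmax, fun hnp _ g hg => ti hCN hH hmax hnp g hg,
    fun hti x hx hx1 => centralizer_le hCN hH hmax hti hx hx1⟩

end Cfsg.Agent.S1477
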