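import Cfsg.Statements.S1487
import Cfsg.Agent.Lib.CharInducedClifford

set_option autoImplicit false
open Cfsg

namespace Cfsg.Agent.S1487

/-- Let A ≤ H be normal subgroups of the finite group G and θ an irreducible character of H. Then θ takes the value θ 1 on all of A if and only if the function induced from θ to G takes its value at 1 on all of A. -/
theorem result {G : Type*} [Group G] [Fintype G] (A H : Subgroup G) [A.Normal] [H.Normal] (hAH : A ≤ H) (θ : H → ℂ) (hθ : Cfsg.IsIrrCharacter H θ) : (∀ a : H, (a : G) ∈ A → θ a = θ 1) ↔ (∀ a : G, a ∈ A → Cfsg.indFun H θ a = Cfsg.indFun H θ 1) := by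
  classical
  have := Fintype.ofFinite H
  have hidx : (H.index : ℂ) ≠ 0 := Nat.cast_ne_zero.2 H.index_ne_zero_of_finite
  obtain ⟨d, hd, hd1⟩ := Cfsg.Agent.CharBasic.isIrrCharacter_apply_one hθ
  constructor
  · intro h a ha
    rw [Cfsg.Agent.CharInduced.ind_one_apply, Cfsg.Agent.CharInduced.indFun_apply,
      Finset.sum_congr rfl (g := fun _ => θ 1) (fun x _ => ?_), Finset.sum_const, Finset.card_univ,
      ← Nat.card_eq_fintype_card, nsmul_eq_mul, ← H.card_mul_index, Nat.cast_mul, mul_assoc,
      inv_mul_cancel_left₀ (Cfsg.Agent.CharInduced.card_subgroup_ne_zero H)]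
    have hm : x⁻¹ * a * x ∈ A := Subgroup.Normal.conj_mem' inferInstance a ha x
    rw [Cfsg.Agent.CharInduced.ext_zero_of_mem θ (hAH hm)]
    exact h _ hm
  · intro h a ha
    have h1 := h (a : G) ha
    rw [Cfsg.Agent.CharInduced.ind_normal_coe, Cfsg.Agent.CharInduced.ind_one_apply, hd1,
      inv_mul_eq_iff_eq_mul₀ (Cfsg.Agent.CharInduced.card_subgroup_ne_zero H), ← mul_assoc,
      ← Nat.cast_mul, H.card_mul_index] at h1
    have hb : ∀ x ∈ (Finset.univ : Finset G),
        (Cfsg.Agent.CharInduced.conjFun H θ x a).re ≤ (d : ℝ) := by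
      intro x _
      refine (Complex.re_le_norm _).trans ?_
      have := Cfsg.Agent.CharBasic.isCharacter_norm_le
        (Cfsg.Agent.CharInduced.isCharacter_conjFun H
          (Cfsg.Agent.CharBasic.isCharacter_of_isIrrCharacter hθ) x) a
      refine this.trans (le_of_eq ?_)
      show (θ _).re = _
      rw [show (⟨x * ((1 : H) : G) * x⁻¹, _⟩ : H) = 1 from Subtype.ext (by simp), hd1,
        Complex.natCast_re]
    have hs : ∑ x : G, (Cfsg.Agent.CharInduced.conjFun H θ x a).re = ∑ _x : G, (d : ℝ) := by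
      rw [← Complex.re_sum, h1]
      simp [Nat.card_eq_fintype_card]
    have h2 := (Finset.sum_eq_sum_iff_of_le hb).1 hs 1 (Finset.mem_univ _)
    rw [Cfsg.Agent.CharInduced.conjFun_one] at h2
    have h3 := Cfsg.Agent.CharBasic.isCharacter_norm_le
      (Cfsg.Agent.CharBasic.isCharacter_of_isIrrCharacter hθ) a
    rw [hd1, Complex.natCast_re] at h3
    have h4 : ‖θ a‖ = (θ a).re := le_antisymm (h2.symm ▸ h3) (Complex.re_le_norm _)
    rw [hd1]
    apply Complex.ext
    · simpa using h2
    · simpa using ((Complex.nonneg_iff.1 (Complex.re_eq_norm.1 h4.symm)).2).symm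

end Cfsg.Agent.S1487
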