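import Cfsg.Statements.S1488
import Cfsg.Agent.Lib.CharInducedBasic

set_option autoImplicit false
open Cfsg

namespace Cfsg.Agent.S1488

/-- Let A be a normal subgroup of the finite group G contained in the subgroup H, let θ be a function on H and θ₁ a function on the image of H in G ⧸ A whose composite with the projection is θ. Then the function induced from θ₁ to G ⧸ A, composed with the projection G → G ⧸ A, equals the function induced from θ to G. -/
theorem result {G : Type*} [Group G] [Fintype G] (A H : Subgroup G) [A.Normal] (hAH : A ≤ H) [Fintype (G ⧸ A)] [Fintype ↥(H.map (QuotientGroup.mk' A))] (θ : H → ℂ) (θ₁ : ↥(H.map (QuotientGroup.mk' A)) → ℂ) (hθ : ∀ x : H, θ₁ ⟨QuotientGroup.mk' A x, Subgroup.mem_map_of_mem _ x.2⟩ = θ x) (g : G) : Cfsg.indFun (H.map (QuotientGroup.mk' A)) θ₁ (QuotientGroup.mk' A g) = Cfsg.indFun H θ g := by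
  classical
  have hA : (Nat.card A : ℂ) ≠ 0 := Cfsg.Agent.CharInduced.card_subgroup_ne_zero A
  have hext : ∀ y : G, Cfsg.extendByZero (H.map (QuotientGroup.mk' A)) θ₁ (QuotientGroup.mk' A y) =
      Cfsg.extendByZero H θ y := by
    intro y
    by_cases hy : y ∈ H
    · rw [Cfsg.Agent.CharInduced.ext_zero_of_mem θ hy,
        Cfsg.Agent.CharInduced.ext_zero_of_mem θ₁ (Subgroup.mem_map_of_mem _ hy)]
      exact hθ ⟨y, hy⟩
    · rw [Cfsg.Agent.CharInduced.ext_zero_of_not_mem θ hy,
        Cfsg.Agent.CharInduced.ext_zero_of_not_mem]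
      intro h
      have h2 : y ∈ (H.map (QuotientGroup.mk' A)).comap (QuotientGroup.mk' A) := h
      rw [Subgroup.comap_map_eq, QuotientGroup.ker_mk', sup_of_le_left hAH] at h2
      exact hy h2
  have hcard : (Nat.card H : ℂ) = Nat.card A * Nat.card (H.map (QuotientGroup.mk' A)) := by
    rw [← Nat.cast_mul]
    congr 1
    have h1 := Subgroup.relIndex_ker H (QuotientGroup.mk' A)
    rw [QuotientGroup.ker_mk'] at h1
    have h2 := (A.subgroupOf H).card_mul_index
    rw [Nat.card_congr (Subgroup.subgroupOfEquivOfLe hAH).toEquiv] at h2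
    rw [← h1]
    exact h2.symm
  have hsum : ∑ x : G, Cfsg.extendByZero H θ (x⁻¹ * g * x) = (Nat.card A : ℂ) *
      ∑ q : G ⧸ A, Cfsg.extendByZero (H.map (QuotientGroup.mk' A)) θ₁
        (q⁻¹ * QuotientGroup.mk' A g * q) := by
    have hfib : ∀ q : G ⧸ A,
        (Finset.univ.filter fun x : G => (x : G ⧸ A) = q).card = Nat.card A := by
      intro q
      rw [← Fintype.card_subtype, ← Nat.card_eq_fintype_card]
      induction q using QuotientGroup.induction_on with
      | H x =>
        refine Nat.card_congr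
          ⟨fun y => ⟨x⁻¹ * y.1, QuotientGroup.eq.1 y.2.symm⟩,
            fun h => ⟨x * h.1, (QuotientGroup.eq.2 (by simp)).symm⟩, fun y => by simp,
            fun h => by simp⟩
    rw [← Finset.sum_fiberwise Finset.univ (fun x : G => (x : G ⧸ A)), Finset.mul_sum]
    refine Finset.sum_congr rfl fun q _ => ?_
    rw [Finset.sum_congr rfl (g := fun _ => Cfsg.extendByZero (H.map (QuotientGroup.mk' A)) θ₁
        (q⁻¹ * QuotientGroup.mk' A g * q)) (fun x hx => ?_),
      Finset.sum_const, hfib, nsmul_eq_mul]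
    rw [← hext, map_mul, map_mul, map_inv, ← (Finset.mem_filter.1 hx).2]
    rfl
  rw [Cfsg.Agent.CharInduced.indFun_apply, Cfsg.Agent.CharInduced.indFun_apply, hsum, hcard]
  field_simp

end Cfsg.Agent.S1488
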