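import Cfsg.Statements.S1491
import Cfsg.Agent.Lib.CharInducedAbelianQuot
import Cfsg.Agent.S0867

set_option autoImplicit false
open Cfsg

namespace Cfsg.Agent.S1491

/-- Let H be a normal subgroup of the finite group G and θ an irreducible character of H with inertia group T, where T/H is abelian (commutators of T lie in H) and the index of H in T is coprime to the order of H. Then the function induced from θ is the sum of a set of exactly [T:H] irreducible characters of G, each of degree [G:T] * θ(1). -/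
theorem result {G : Type*} [Group G] [Fintype G] (H T : Subgroup G) [hN : H.Normal] (θ : H → ℂ) (hθ : Cfsg.IsIrrCharacter H θ) (hT : ∀ g : G, g ∈ T ↔ ∀ h : H, θ ⟨g * h * g⁻¹, hN.conj_mem h h.2 g⟩ = θ h) (hab : ∀ x ∈ T, ∀ y ∈ T, x * y * x⁻¹ * y⁻¹ ∈ H) (hcop : Nat.Coprime (Nat.card H) (H.relIndex T)) : ∃ C : Finset (G → ℂ), (∀ χ ∈ C, Cfsg.IsIrrCharacter G χ) ∧ C.card = H.relIndex T ∧ Cfsg.indFun H θ = ∑ χ ∈ C, χ ∧ ∀ χ ∈ C, χ 1 = (T.index : ℂ) * θ 1 := by
  classical
  have := Fintype.ofFinite H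
  have := Fintype.ofFinite T
  have hT' : ∀ g : G, g ∈ T ↔ Cfsg.Agent.CharInduced.conjFun H θ g = θ := fun g => by
    rw [hT g, funext_iff]; rfl
  have hHT : H ≤ T := fun x hx => (hT' x).2
    (Cfsg.Agent.CharInduced.conjFun_mem_eq H (Cfsg.Agent.CharInduced.isClassFunction_irr hθ) hx)
  obtain ⟨e, C, he, hC, hcard, hind, hdeg⟩ :=
    Cfsg.Agent.CharInduced.exists_constituents_inertia_abelian H T hθ hT' hab
  -- `θ` extends to its inertia group, so `e = 1`
  let H' := H.subgroupOf T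
  let θ' : H' → ℂ := Cfsg.Agent.CharInduced.toSubgroupOf θ
  have := Fintype.ofFinite H'
  have hθ' : Cfsg.IsIrrCharacter H' θ' :=
    Cfsg.Agent.CharInduced.isIrrCharacter_toSubgroupOf H T hHT hθ
  have hinv : ∀ t : T, Cfsg.Agent.CharInduced.conjFun H' θ' t = θ' := by
    intro t
    funext x
    exact congrFun ((hT' t).1 t.2) ⟨(x : T), Subgroup.mem_subgroupOf.1 x.2⟩
  obtain ⟨d, hd, hd1, hddvd⟩ := Cfsg.Agent.CharBasicInt.exists_apply_one_dvd_card hθ'
  have hcardH : Nat.card H' = Nat.card H :=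
    Nat.card_congr (Subgroup.subgroupOfEquivOfLe hHT).toEquiv
  have hdet : Cfsg.detOrder θ' ∣ Nat.card H' := by
    have hθc : Cfsg.IsCharacter H' θ' := Cfsg.Agent.CharBasic.isCharacter_of_isIrrCharacter hθ'
    refine orderOf_dvd_of_pow_eq_one ?_
    funext x
    rw [Pi.pow_apply, Pi.one_apply, Cfsg.detChar, dif_pos hθc]
    show LinearMap.det (_ : (Fin _ → ℂ) →ₗ[ℂ] _) ^ _ = 1
    rw [← map_pow, ← map_pow, pow_card_eq_one', map_one, map_one]
  obtain ⟨χ, ⟨hχ, hext, -⟩, -⟩ := Cfsg.Agent.S0867.result H' θ' hθ'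
    (fun g n => congrFun (hinv g) n) d hd1 (by
      refine Nat.Coprime.mul_right (Nat.Coprime.coprime_dvd_right (hcardH ▸ hdet) hcop.symm)
        (Nat.Coprime.coprime_dvd_right (hcardH ▸ hddvd) hcop.symm))
  obtain ⟨e', C', he', hC', hcard', hind', hdeg'⟩ :=
    Cfsg.Agent.CharInduced.exists_constituents_abelian_quotient H' hθ' hinv
      (fun x y => hab x x.2 y y.2)
  have hres : (fun n : H' => χ n) = θ' := funext hext
  have hcoef : Cfsg.classInner (Cfsg.indFun H' θ') χ = 1 := by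
    rw [Cfsg.Agent.CharInduced.inner_ind_left H' θ' (Cfsg.Agent.CharInduced.isClassFunction_irr hχ),
      hres, Cfsg.Agent.CharBasicOrth.classInner_irr_self hθ']
  have he1 : e' = 1 := by
    rw [hind', Cfsg.Agent.CharInduced.inner_smul_left, Cfsg.Agent.CharInduced.inner_sum_left] at hcoef
    by_cases hmem : χ ∈ C'
    · rw [Finset.sum_eq_single χ
        (fun ψ hψ hne => Cfsg.Agent.CharBasicOrth.classInner_irr_ne (hC' ψ hψ) hχ hne)
        (fun h => absurd hmem h), Cfsg.Agent.CharBasicOrth.classInner_irr_self hχ, mul_one] at hcoef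
      exact_mod_cast hcoef
    · rw [Finset.sum_eq_zero fun ψ hψ => Cfsg.Agent.CharBasicOrth.classInner_irr_ne (hC' ψ hψ) hχ
        (fun h => hmem (h ▸ hψ)), mul_zero] at hcoef
      exact absurd hcoef zero_ne_one
  -- compare the two descriptions of `θ` induced to `G`
  have hnorm : (e : ℂ) ^ 2 * C.card = (H.relIndex T : ℂ) := by exact_mod_cast hcard
  have hind2 : Cfsg.indFun H θ = ∑ ψ ∈ C', Cfsg.indFun T ψ := by
    rw [← Cfsg.Agent.CharInduced.ind_trans hHT θ]
    show Cfsg.indFun T (Cfsg.indFun H' θ') = _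
    rw [hind', he1, Nat.cast_one, one_smul, Cfsg.Agent.CharInduced.ind_sum]
  have hover : ∀ ψ ∈ C', Cfsg.classInner (fun n : H => ψ ⟨n, hHT n.2⟩) θ ≠ 0 := by
    intro ψ hψ
    rw [← Cfsg.Agent.CharBasicOrth.classInner_congr_equiv (G := H)
      (Subgroup.subgroupOfEquivOfLe hHT) (fun n : H => ψ ⟨n, hHT n.2⟩) θ]
    exact ((hdeg' ψ hψ).2).symm ▸ Nat.cast_ne_zero.2 he'.ne'
  have hinj : Set.InjOn (Cfsg.indFun T) (C' : Set (T → ℂ)) := fun a ha b hb hab' =>
    Cfsg.Agent.CharInduced.ind_inertia_injective H T hHT hθ hT' (hC' a ha) (hC' b hb)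
      (hover a ha) (hover b hb) hab'
  refine ⟨C'.image (Cfsg.indFun T), ?_, ?_, ?_, ?_⟩
  · intro φ hφ
    obtain ⟨ψ, hψ, rfl⟩ := Finset.mem_image.1 hφ
    exact Cfsg.Agent.CharInduced.ind_inertia_irr H T hHT hθ hT' (hC' ψ hψ) (hover ψ hψ)
  · rw [Finset.card_image_of_injOn hinj]
    rw [he1, one_pow, one_mul] at hcard'
    exact hcard'
  · rw [Finset.sum_image hinj, hind2]
  · intro φ hφ
    obtain ⟨ψ, hψ, rfl⟩ := Finset.mem_image.1 hφ
    rw [Cfsg.Agent.CharInduced.ind_one_apply, (hdeg' ψ hψ).1, he1, Nat.cast_one, one_mul]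
    rfl

end Cfsg.Agent.S1491
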