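import Cfsg.Statements.S1494
import Cfsg.Agent.Lib.CharBasic

set_option autoImplicit false
open Cfsg

namespace Cfsg.Agent.S1494

theorem integral_trace_of_pow {V : Type*} [AddCommGroup V] [Module ℂ V] [FiniteDimensional ℂ V]
    (f : Module.End ℂ V) {m : ℕ} (hm : 0 < m) (hf : f ^ m = 1) :
    IsIntegral ℤ (LinearMap.trace ℂ V f) := by
  obtain ⟨b, μ, h1, h2⟩ := Cfsg.Agent.CharBasic.exists_eigenbasis f hm hf
  rw [Cfsg.Agent.CharBasic.trace_eq_sum_of_eigenbasis b f μ h1]
  refine IsIntegral.sum _ fun i _ => IsIntegral.of_pow hm ?_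
  rw [h2]; exact isIntegral_one

theorem root_sub_one_dvd {ζ lam : ℂ} {p : ℕ} [NeZero p] (hζ : IsPrimitiveRoot ζ p)
    (hlam : lam ^ p = 1) : ∃ c : ℂ, IsIntegral ℤ c ∧ lam - 1 = (1 - ζ) * c := by
  obtain ⟨k, -, rfl⟩ := hζ.eq_pow_of_pow_eq_one hlam
  refine ⟨-(∑ j ∈ Finset.range k, ζ ^ j), (IsIntegral.sum _ fun j _ => ?_).neg, ?_⟩
  · exact (hζ.isIntegral (NeZero.pos p)).pow j
  · rw [← geom_sum_mul]; ring

theorem trace_congr {V : Type*} [AddCommGroup V] [Module ℂ V] [FiniteDimensional ℂ V]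
    (f g : Module.End ℂ V) {p m : ℕ} [NeZero p] (hm : 0 < m) (hf : f ^ p = 1) (hg : g ^ m = 1)
    (hfg : Commute f g) {ζ : ℂ} (hζ : IsPrimitiveRoot ζ p) :
    ∃ c : ℂ, IsIntegral ℤ c ∧
      LinearMap.trace ℂ V (f * g) - LinearMap.trace ℂ V g = (1 - ζ) * c := by
  classical
  have hp : 0 < p := NeZero.pos p
  have hsq : Squarefree (Polynomial.X ^ p - 1 : Polynomial ℂ) :=
    (Polynomial.separable_X_pow_sub_C (1 : ℂ) (by exact_mod_cast hp.ne') one_ne_zero).squarefree
  have hss : f.IsSemisimple :=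
    Module.End.isSemisimple_of_squarefree_aeval_eq_zero hsq (by simp [hf])
  have hint := DirectSum.isInternal_submodule_of_iSupIndep_of_iSup_eq_top
    f.eigenspaces_iSupIndep hss.iSup_eigenspace_eq_top
  have hfin : {μ : ℂ | f.eigenspace μ ≠ ⊥}.Finite :=
    WellFoundedGT.finite_ne_bot_of_iSupIndep f.eigenspaces_iSupIndep
  have hgM : ∀ μ : ℂ, Set.MapsTo g (f.eigenspace μ) (f.eigenspace μ) :=
    fun μ => Module.End.mapsTo_genEigenspace_of_comm hfg μ _
  have hfgM : ∀ μ : ℂ, Set.MapsTo (f * g) (f.eigenspace μ) (f.eigenspace μ) := by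
    intro μ v hv
    have h1 := Module.End.mem_eigenspace_iff.1 (hgM μ hv)
    show (f * g) v ∈ f.eigenspace μ
    rw [Module.End.mul_apply, h1]
    exact Submodule.smul_mem _ _ (hgM μ hv)
  rw [LinearMap.trace_eq_sum_trace_restrict' hint hfin hfgM,
    LinearMap.trace_eq_sum_trace_restrict' hint hfin hgM, ← Finset.sum_sub_distrib]
  have key : ∀ μ ∈ hfin.toFinset, ∃ c : ℂ, IsIntegral ℤ c ∧
      LinearMap.trace ℂ _ (LinearMap.restrict (f * g) (hfgM μ)) -
        LinearMap.trace ℂ _ (LinearMap.restrict g (hgM μ)) = (1 - ζ) * c := by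
    intro μ hμ
    have hne : f.eigenspace μ ≠ ⊥ := hfin.mem_toFinset.1 hμ
    obtain ⟨v, hv, hv0⟩ := Submodule.exists_mem_ne_zero_of_ne_bot hne
    have hpow : ∀ k : ℕ, (f ^ k) v = μ ^ k • v := by
      intro k
      induction k with
      | zero => simp
      | succ k ih =>
        rw [pow_succ', Module.End.mul_apply, ih, map_smul, Module.End.mem_eigenspace_iff.1 hv,
          smul_smul, pow_succ]
    have hroot : μ ^ p = 1 := by
      have h := hpow p
      rw [hf, Module.End.one_apply] at h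
      exact smul_left_injective ℂ hv0 (by simpa using h.symm)
    obtain ⟨c, hc, hce⟩ := root_sub_one_dvd hζ hroot
    have heq : LinearMap.restrict (f * g) (hfgM μ) = μ • LinearMap.restrict g (hgM μ) := by
      refine LinearMap.ext fun w => Subtype.ext ?_
      exact Module.End.mem_eigenspace_iff.1 (hgM μ w.2)
    have hint' : IsIntegral ℤ (LinearMap.trace ℂ _ (LinearMap.restrict g (hgM μ))) := by
      refine integral_trace_of_pow _ hm ?_
      refine LinearMap.ext fun w => Subtype.ext ?_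
      have hk : ∀ j : ℕ, (((LinearMap.restrict g (hgM μ)) ^ j) w : V) = (g ^ j) (w : V) := by
        intro j
        induction j with
        | zero => simp
        | succ j ih =>
          rw [pow_succ', pow_succ', Module.End.mul_apply, Module.End.mul_apply, ← ih]
          rfl
      rw [hk m, hg]
      rfl
    refine ⟨c * LinearMap.trace ℂ _ (LinearMap.restrict g (hgM μ)), hc.mul hint', ?_⟩
    rw [heq, map_smul, smul_eq_mul, ← mul_assoc, ← hce]; ring
  choose! c hc hce using key
  exact ⟨∑ μ ∈ hfin.toFinset, c μ, IsIntegral.sum _ hc, by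
    rw [Finset.mul_sum]; exact Finset.sum_congr rfl hce⟩


/-- Let χ be a generalized character of the finite group G, p a prime, x an element of order p and y an element commuting with x. Then χ(x * y) − χ(y) = (1 − ε) * ω for some algebraic integer ω, where ε = exp(2πi/p). -/
theorem result {G : Type*} [Group G] [Finite G] (χ : G → ℂ) (hχ : Cfsg.IsGeneralizedCharacter G χ) (p : ℕ) (hp : p.Prime) (x y : G) (hx : orderOf x = p) (hxy : x * y = y * x) : ∃ ω : ℂ, IsIntegral ℤ ω ∧ χ (x * y) - χ y = (1 - Complex.exp (2 * Real.pi * Complex.I / p)) * ω := by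
  obtain ⟨α, β, ⟨n, ρ, rfl⟩, ⟨k, σ, rfl⟩, rfl⟩ := hχ
  have : NeZero p := ⟨hp.ne_zero⟩
  have hζ := Complex.isPrimitiveRoot_exp p hp.ne_zero
  have hc : Commute x y := hxy
  have hxp : x ^ p = 1 := hx ▸ pow_orderOf_eq_one x
  have hy : 0 < orderOf y := (isOfFinOrder_of_finite y).orderOf_pos
  obtain ⟨a, ha, hae⟩ := trace_congr (ρ x) (ρ y) hy
    (by rw [← map_pow, hxp, map_one]) (by rw [← map_pow, pow_orderOf_eq_one, map_one])
    (hc.map ρ) hζ
  obtain ⟨b, hb, hbe⟩ := trace_congr (σ x) (σ y) hy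
    (by rw [← map_pow, hxp, map_one]) (by rw [← map_pow, pow_orderOf_eq_one, map_one])
    (hc.map σ) hζ
  refine ⟨a - b, ha.sub hb, ?_⟩
  rw [← map_mul] at hae hbe
  simp only [Pi.sub_apply, Representation.character]
  linear_combination hae - hbe

end Cfsg.Agent.S1494
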