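import Cfsg.Statements.S1495
import Mathlib

set_option autoImplicit false
open Cfsg

namespace Cfsg.Agent.S1495

/-- Let p be a prime, ε = exp(2πi/p), and n an integer such that n = (1 − ε) * ω for some algebraic integer ω. Then p divides n. -/
theorem result (p : ℕ) (hp : p.Prime) (n : ℤ) (ω : ℂ) (hω : IsIntegral ℤ ω) (h : (n : ℂ) = (1 - Complex.exp (2 * Real.pi * Complex.I / p)) * ω) : (p : ℤ) ∣ n := by
  classical
  set e0 : ℂ := Complex.exp (2 * Real.pi * Complex.I / p) with he0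
  have hpr : IsPrimitiveRoot e0 p := Complex.isPrimitiveRoot_exp p hp.ne_zero
  have hint : IsIntegral ℤ e0 :=
    IsIntegral.of_pow hp.pos (by rw [hpr.pow_eq_one]; exact isIntegral_one)
  let e : integralClosure ℤ ℂ := ⟨e0, hint⟩
  let w : integralClosure ℤ ℂ := ⟨ω, hω⟩
  have hn : (n : integralClosure ℤ ℂ) = (1 - e) * w := Subtype.ext (by simpa [e, w] using h)
  have hep : e ^ p = 1 := Subtype.ext (by simpa [e] using hpr.pow_eq_one)
  have hsum : ∑ i ∈ Finset.range p, e ^ i = 0 :=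
    Subtype.ext (by simpa [e] using hpr.geom_sum_eq_zero hp.one_lt)
  have hdp : (1 - e) ∣ (p : integralClosure ℤ ℂ) := by
    have : (p : integralClosure ℤ ℂ) = ∑ i ∈ Finset.range p, (1 - e ^ i) := by
      rw [Finset.sum_sub_distrib, hsum, sub_zero]
      simp
    rw [this]
    exact Finset.dvd_sum fun i _ => by simpa using sub_dvd_pow_sub_pow (1 : integralClosure ℤ ℂ) e i
  by_contra hnd
  have hco : IsCoprime n (p : ℤ) :=
    ((Nat.prime_iff_prime_int.mp hp).coprime_iff_not_dvd.mpr hnd).symm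
  obtain ⟨u, v, huv⟩ := hco
  have hunit : IsUnit (1 - e) := by
    apply isUnit_of_dvd_one
    have h1 : (u : integralClosure ℤ ℂ) * n + (v : integralClosure ℤ ℂ) * p = 1 := by
      exact_mod_cast congrArg (fun z : ℤ => (z : integralClosure ℤ ℂ)) huv
    have h2 : (1 - e) ∣ (u : integralClosure ℤ ℂ) * n + (v : integralClosure ℤ ℂ) * p := by
      rw [hn]
      exact dvd_add (Dvd.dvd.mul_left (dvd_mul_right _ _) _) (Dvd.dvd.mul_left hdp _)
    rwa [h1] at h2
  have hpd : (p : integralClosure ℤ ℂ) ∣ (1 - e) ^ p := by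
    obtain ⟨r, hr⟩ := exists_add_pow_prime_eq hp (1 : integralClosure ℤ ℂ) (-e)
    rw [← sub_eq_add_neg, one_pow] at hr
    rw [hr]
    refine dvd_add ?_ ?_
    · rcases hp.eq_two_or_odd' with h2 | ho
      · rw [show (-e) ^ p = (-1) ^ p * e ^ p from neg_pow e p, hep, h2]
        exact ⟨1, by norm_num⟩
      · rw [ho.neg_pow, hep]
        simp
    · exact Dvd.dvd.mul_right (Dvd.dvd.mul_right (dvd_mul_right _ _) _) _
  obtain ⟨z, hz⟩ : (p : integralClosure ℤ ℂ) ∣ 1 := hpd.trans (hunit.pow p).dvd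
  have hq : IsIntegral ℤ ((p : ℚ)⁻¹) := by
    have hz' : (algebraMap ℚ ℂ) ((p : ℚ)⁻¹) = (z : ℂ) := by
      have := congrArg Subtype.val hz
      simp at this
      rw [map_inv₀, map_natCast]
      exact inv_eq_of_mul_eq_one_right this.symm
    exact (isIntegral_algebraMap_iff (algebraMap ℚ ℂ).injective).mp (hz' ▸ z.2)
  obtain ⟨m, hm⟩ := IsIntegrallyClosed.isIntegral_iff.mp hq
  have hm' : (p : ℤ) * m = 1 := by
    have h0 : (p : ℚ) ≠ 0 := by exact_mod_cast hp.ne_zero
    have : ((p : ℤ) : ℚ) * (m : ℚ) = 1 := by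
      rw [show (m : ℚ) = algebraMap ℤ ℚ m from rfl, hm]
      push_cast
      field_simp
    exact_mod_cast this
  have h1 : (p : ℤ) ∣ 1 := ⟨m, hm'.symm⟩
  exact hp.not_dvd_one (by exact_mod_cast h1)

end Cfsg.Agent.S1495
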