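import Cfsg.Statements.S1497


set_option autoImplicit false
open Cfsg

namespace Cfsg.Agent.S1497

/-- Let A be a nonempty subset of the finite group G not containing 1 and L a subgroup. Then A is a TI-subset whose normaliser is L if and only if the Dade hypothesis holds for A, L and the constant choice H(a) = ⊥. -/
theorem result {G : Type*} [Group G] [Finite G] (A : Set G) (hA : A.Nonempty) (h1 : (1 : G) ∉ A) (L : Subgroup G) : (Cfsg.IsTISubset A ∧ Subgroup.normalizer A = L) ↔ Cfsg.DadeHypothesis A L (fun _ => ⊥) := by
  constructor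
  · rintro ⟨hTI, hN⟩
    have key : ∀ a ∈ A, ∀ g : G, g * a * g⁻¹ ∈ A → g ∈ L := by
      intro a ha g hg
      by_contra hgL
      exact h1 (hTI g (hN ▸ hgL) a ha hg ▸ ha)
    constructor
    · exact h1
    · intro a ha
      exact key a ha a (by rwa [mul_inv_cancel_right])
    · intro x hx a ha
      rw [← hN] at hx
      exact (Subgroup.mem_set_normalizer_iff.mp hx a).mp ha
    · intro a ha g hg
      exact ⟨g, key a ha g hg, rfl⟩
    · intro a _; exact bot_le
    · intro a _ c _ u hu
      rw [Subgroup.mem_bot] at hu ⊢
      simp [hu]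
    · intro a _; exact bot_inf_eq _
    · intro a ha
      rw [bot_sup_eq, inf_eq_right]
      intro c hc
      apply key a ha c
      rw [Subgroup.mem_centralizer_singleton_iff.mp hc, mul_inv_cancel_right]
      exact ha
    · intro a _ b _
      simp
  · intro hD
    have key : ∀ a ∈ A, ∀ g : G, g * a * g⁻¹ ∈ A → g ∈ L := by
      intro a ha g hg
      obtain ⟨x, hx, hxa⟩ := hD.fusion a ha g hg
      have hc : x⁻¹ * g ∈ Subgroup.centralizer ({a} : Set G) := by
        rw [Subgroup.mem_centralizer_singleton_iff]
        calc x⁻¹ * g * a = x⁻¹ * (g * a * g⁻¹) * g := by group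
          _ = x⁻¹ * (x * a * x⁻¹) * g := by rw [hxa]
          _ = a * (x⁻¹ * g) := by group
      rw [← hD.sup_eq a ha, bot_sup_eq] at hc
      simpa using L.mul_mem hx hc.1
    have hN : Subgroup.normalizer A = L := by
      apply le_antisymm
      · intro g hg
        obtain ⟨a, ha⟩ := hA
        exact key a ha g ((Subgroup.mem_set_normalizer_iff.mp hg a).mp ha)
      · intro g hg
        rw [Subgroup.mem_set_normalizer_iff]
        intro a
        refine ⟨hD.conj_mem g hg a, fun h => ?_⟩
        have := hD.conj_mem g⁻¹ (L.inv_mem hg) _ h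
        simpa [mul_assoc] using this
    exact ⟨fun g hg a ha hga => absurd (key a ha g hga) (hN ▸ hg), hN⟩

end Cfsg.Agent.S1497
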