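import Cfsg.Statements.S1504
import Cfsg.Agent.Lib.CyclicTI

set_option autoImplicit false
open Cfsg

namespace Cfsg.Agent.S1504

/-- Let W₁, W₂ be subgroups of a finite group with W₁ ⊓ W₂ = ⊥ whose elements commute, and W = W₁ ⊔ W₂. For linear characters φ, ψ of W with φ trivial on W₂ and ψ trivial on W₁, the function (1 − φ)(1 − ψ) vanishes on W₁ ∪ W₂; and the family of these functions, indexed by pairs (φ, ψ) with φ ≠ 1 ≠ ψ, is linearly independent over ℂ. -/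
theorem result {G : Type*} [Group G] [Finite G] (W₁ W₂ : Subgroup G) (hdisj : W₁ ⊓ W₂ = ⊥) (hcomm : ∀ a ∈ W₁, ∀ b ∈ W₂, a * b = b * a) : (∀ φ ψ : ↥(W₁ ⊔ W₂) →* ℂˣ, (∀ w : ↥(W₁ ⊔ W₂), (w : G) ∈ W₂ → φ w = 1) → (∀ w : ↥(W₁ ⊔ W₂), (w : G) ∈ W₁ → ψ w = 1) → ∀ w : ↥(W₁ ⊔ W₂), ((w : G) ∈ W₁ ∨ (w : G) ∈ W₂) → (1 - (φ w : ℂ) - (ψ w : ℂ) + (φ w : ℂ) * (ψ w : ℂ)) = 0) ∧ LinearIndependent ℂ (fun p : {p : (↥(W₁ ⊔ W₂) →* ℂˣ) × (↥(W₁ ⊔ W₂) →* ℂˣ) // p.1 ≠ 1 ∧ p.2 ≠ 1 ∧ (∀ w : ↥(W₁ ⊔ W₂), (w : G) ∈ W₂ → p.1 w = 1) ∧ (∀ w : ↥(W₁ ⊔ W₂), (w : G) ∈ W₁ → p.2 w = 1)} => fun w : ↥(W₁ ⊔ W₂) => 1 - (p.1.1 w : ℂ) - (p.1.2 w : ℂ) + (p.1.1 w : ℂ) * (p.1.2 w : ℂ)) := by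
  classical
  open Cfsg.Agent.CyclicTI in
  refine ⟨fun φ ψ hφ hψ w hw => alpha_eq_zero hφ hψ hw, ?_⟩
  haveI : Fintype ↥(W₁ ⊔ W₂) := Fintype.ofFinite _
  rw [linearIndependent_iff']
  intro s c hc p₀ hp₀
  have key : ∀ p : {p : (↥(W₁ ⊔ W₂) →* ℂˣ) × (↥(W₁ ⊔ W₂) →* ℂˣ) // p.1 ≠ 1 ∧ p.2 ≠ 1 ∧ (∀ w : ↥(W₁ ⊔ W₂), (w : G) ∈ W₂ → p.1 w = 1) ∧ (∀ w : ↥(W₁ ⊔ W₂), (w : G) ∈ W₁ → p.2 w = 1)},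
      Cfsg.classInner (fun w : ↥(W₁ ⊔ W₂) => 1 - (p.1.1 w : ℂ) - (p.1.2 w : ℂ) + (p.1.1 w : ℂ) * (p.1.2 w : ℂ))
        (fun w => ((p₀.1.1 * p₀.1.2) w : ℂ)) = if p = p₀ then 1 else 0 := by
    intro p
    refine (Cfsg.Agent.CyclicTI.inner_alpha_hom (φ := p.1.1) (ψ := p.1.2) (p₀.1.1 * p₀.1.2)).trans ?_
    have hu := fun {φ φ' ψ ψ' : ↥(W₁ ⊔ W₂) →* ℂˣ} (a : Cfsg.Agent.CyclicTI.TrivOn W₂ φ) (b : Cfsg.Agent.CyclicTI.TrivOn W₂ φ')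
      (c : Cfsg.Agent.CyclicTI.TrivOn W₁ ψ) (d : Cfsg.Agent.CyclicTI.TrivOn W₁ ψ') =>
      (Cfsg.Agent.CyclicTI.mul_left_inj_of_triv hdisj hcomm a b c d)
    obtain ⟨⟨φ, ψ⟩, hφ1, hψ1, hφ, hψ⟩ := p
    obtain ⟨⟨φ₀, ψ₀⟩, hφ01, hψ01, hφ0, hψ0⟩ := p₀
    have e1 : (1 : ↥(W₁ ⊔ W₂) →* ℂˣ) ≠ φ₀ * ψ₀ := fun h =>
      hφ01 ((hu (Cfsg.Agent.CyclicTI.trivOn_one _) hφ0 (Cfsg.Agent.CyclicTI.trivOn_one _) hψ0).mp (by rw [Cfsg.Agent.CyclicTI.hom_one_mul]; exact h)).1.symm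
    have e2 : φ ≠ φ₀ * ψ₀ := fun h =>
      hψ01 ((hu hφ hφ0 (Cfsg.Agent.CyclicTI.trivOn_one _) hψ0).mp (by rw [Cfsg.Agent.CyclicTI.hom_mul_one]; exact h)).2.symm
    have e3 : ψ ≠ φ₀ * ψ₀ := fun h =>
      hφ01 ((hu (Cfsg.Agent.CyclicTI.trivOn_one _) hφ0 hψ hψ0).mp (by rw [Cfsg.Agent.CyclicTI.hom_one_mul]; exact h)).1.symm
    simp only [if_neg e1, if_neg e2, if_neg e3, sub_zero, zero_add]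
    refine if_congr ?_ rfl rfl
    rw [hu hφ hφ0 hψ hψ0, Subtype.ext_iff, Prod.ext_iff]
  have h := congrArg (fun f => Cfsg.classInner f (fun w => ((p₀.1.1 * p₀.1.2) w : ℂ))) hc
  simp only [Cfsg.Agent.CharBasicOrth.classInner_sum_left, Cfsg.Agent.CharBasicOrth.classInner_smul_left, key,
    Cfsg.Agent.CharBasicOrth.classInner_zero_left] at h
  simpa [hp₀] using h

end Cfsg.Agent.S1504
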