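import Cfsg.Statements.S1507
import Cfsg.Agent.Lib.CyclicTI

set_option autoImplicit false
open Cfsg

namespace Cfsg.Agent.S1507

open Cfsg.Agent.CyclicTI

/-- An additive rectangle with few nonzero entries is constant in one direction. -/
theorem additive_rectangle {I J : Type*} [Fintype I] [Fintype J] [DecidableEq I] [DecidableEq J] {r : I → ℂ}
    {c : J → ℂ} (hI : Fintype.card I < Fintype.card J) (hIJ : Fintype.card I + 2 ≤ Fintype.card J)
    (hfew : (Finset.univ.filter fun p : I × J => r p.1 + c p.2 ≠ 0).card < 2 * Fintype.card I) :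
    (∀ i i' : I, r i = r i') ∨ (∀ j j' : J, c j = c j') := by
  by_contra hno
  push Not at hno
  obtain ⟨⟨i₁, i₂, hi⟩, ⟨j₁, j₂, hj⟩⟩ := hno
  by_cases hz : ∃ p : I × J, r p.1 + c p.2 = 0
  · obtain ⟨⟨i₀, j₀⟩, h0⟩ := hz
    set R := Finset.univ.filter fun i => r i = r i₀ with hR
    set C := Finset.univ.filter fun j => c j = c j₀ with hC
    have hR1 : 1 ≤ R.card := Finset.card_pos.mpr ⟨i₀, by simp [hR]⟩
    have hC1 : 1 ≤ C.card := Finset.card_pos.mpr ⟨j₀, by simp [hC]⟩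
    have hR2 : 1 ≤ Rᶜ.card := Finset.card_pos.mpr (by
      by_cases h : r i₁ = r i₀
      · exact ⟨i₂, by simp [hR]; exact fun e => hi (h.trans e.symm)⟩
      · exact ⟨i₁, by simpa [hR] using h⟩)
    have hC2 : 1 ≤ Cᶜ.card := Finset.card_pos.mpr (by
      by_cases h : c j₁ = c j₀
      · exact ⟨j₂, by simp [hC]; exact fun e => hj (h.trans e.symm)⟩
      · exact ⟨j₁, by simpa [hC] using h⟩)
    have hsub : R ×ˢ Cᶜ ∪ Rᶜ ×ˢ C ⊆ Finset.univ.filter fun p : I × J => r p.1 + c p.2 ≠ 0 := by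
      rintro ⟨i, j⟩ hp
      simp only [Finset.mem_union, Finset.mem_product, Finset.mem_compl, hR, hC, Finset.mem_filter,
        Finset.mem_univ, true_and] at hp ⊢
      intro e
      rcases hp with ⟨h1, h2⟩ | ⟨h1, h2⟩
      · exact h2 (by linear_combination e - h1 - h0)
      · exact h1 (by linear_combination e - h2 - h0)
    have hdis : Disjoint (R ×ˢ Cᶜ) (Rᶜ ×ˢ C) := Finset.disjoint_left.mpr fun p h h' => by
      rw [Finset.mem_product] at h h'
      exact (Finset.mem_compl.mp h'.1) h.1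
    have hle := Finset.card_le_card hsub
    rw [Finset.card_union_of_disjoint hdis, Finset.card_product, Finset.card_product] at hle
    have e1 := Finset.card_add_card_compl R
    have e2 := Finset.card_add_card_compl C
    obtain ⟨x, hx⟩ : ∃ x, R.card = x + 1 := ⟨R.card - 1, by omega⟩
    obtain ⟨x', hx'⟩ : ∃ x, Rᶜ.card = x + 1 := ⟨Rᶜ.card - 1, by omega⟩
    obtain ⟨y, hy⟩ : ∃ y, C.card = y + 1 := ⟨C.card - 1, by omega⟩
    obtain ⟨y', hy'⟩ : ∃ y, Cᶜ.card = y + 1 := ⟨Cᶜ.card - 1, by omega⟩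
    rw [hx, hx', hy, hy'] at hle
    nlinarith
  · push Not at hz
    rw [Finset.filter_true_of_mem (fun p _ => hz p), Finset.card_univ, Fintype.card_prod] at hfew
    nlinarith

theorem trichotomy {G : Type*} [Group G] [Fintype G] {W₁ W₂ : Subgroup G}
    (hW : Cfsg.IsSelfNormalizingCyclic W₁ W₂) (hodd : Odd (Nat.card ↥(W₁ ⊔ W₂)))
    {χ : (↥(W₁ ⊔ W₂) →* ℂˣ) → (G → ℂ)} (hχ : Cfsg.IsCyclicTIFamily W₁ W₂ χ)
    (hlt : Nat.card W₁ < Nat.card W₂) {θ : G → ℂ} (hθ : Cfsg.IsClassFunction G θ)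
    (hθV : ∀ w : ↥(W₁ ⊔ W₂), (w : G) ∉ W₁ → (w : G) ∉ W₂ → θ w = 0)
    (hfew : Nat.card {ω : ↥(W₁ ⊔ W₂) →* ℂˣ // Cfsg.classInner θ (χ ω) ≠ 0} < 2 * Nat.card W₁)
    [∀ (ψ₀ ω : ↥(W₁ ⊔ W₂) →* ℂˣ) (V : Subgroup G), Decidable (∀ w : ↥(W₁ ⊔ W₂), (w : G) ∈ V → (ω * ψ₀⁻¹) w = 1)] :
    (∀ ω, Cfsg.classInner θ (χ ω) = 0) ∨
      (∃ (ψ₀ : ↥(W₁ ⊔ W₂) →* ℂˣ) (a : ℂ), ∀ ω, Cfsg.classInner θ (χ ω) =
        if (∀ w : ↥(W₁ ⊔ W₂), (w : G) ∈ W₂ → (ω * ψ₀⁻¹) w = 1) then a else 0) ∨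
      (∃ (φ₀ : ↥(W₁ ⊔ W₂) →* ℂˣ) (a : ℂ), ∀ ω, Cfsg.classInner θ (χ ω) =
        if (∀ w : ↥(W₁ ⊔ W₂), (w : G) ∈ W₁ → (ω * φ₀⁻¹) w = 1) then a else 0) := by
  classical
  have hd := hdisj hW
  have hc := hcomm hW
  haveI := hom_fintype ↥(W₁ ⊔ W₂)
  haveI : Fintype (↥(W₁ ⊔ W₂) →* ℂˣ) := Fintype.ofFinite _
  set I := {φ : ↥(W₁ ⊔ W₂) →* ℂˣ // TrivOn W₂ φ}
  set J := {ψ : ↥(W₁ ⊔ W₂) →* ℂˣ // TrivOn W₁ ψ}
  set a : (↥(W₁ ⊔ W₂) →* ℂˣ) → ℂ := fun ω => Cfsg.classInner θ (χ ω) with ha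
  have hrect : ∀ ω, a ω = a (part₁ hd hc ω) + a (part₂ hd hc ω) - a 1 := rectangle hW hχ hθ hθV
  -- cardinalities
  have card_aux : ∀ {V V' : Subgroup G} (p : ↥(W₁ ⊔ W₂) →* ↥(W₁ ⊔ W₂)), (∀ w, (p w : G) ∈ V) →
      V ≤ W₁ ⊔ W₂ → (∀ w : ↥(W₁ ⊔ W₂), (w : G) ∈ V → p w = w) →
      (∀ w : ↥(W₁ ⊔ W₂), (w : G) ∈ V' → p w = 1) →
      (∀ φ : ↥(W₁ ⊔ W₂) →* ℂˣ, TrivOn V' φ → ∀ w, φ w = φ (p w)) →
      Nat.card {φ : ↥(W₁ ⊔ W₂) →* ℂˣ // TrivOn V' φ} = Nat.card V := by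
    intro V V' p hp hle hid hker hfix
    letI : CommGroup V := { (inferInstance : Group V) with mul_comm := fun x y => Subtype.ext (by
      have := CyclicTI.comm hW ⟨x, hle x.2⟩ ⟨y, hle y.2⟩
      exact congrArg (fun z : ↥(W₁ ⊔ W₂) => (z : G)) this) }
    rw [← CommGroup.card_monoidHom_of_hasEnoughRootsOfUnity V ℂ]
    let q : ↥(W₁ ⊔ W₂) →* V := ((Subgroup.subtype _).comp p).codRestrict V hp
    have hqe : ∀ x : V, q ⟨x, hle x.2⟩ = x := fun x =>
      Subtype.ext (congrArg (fun z : ↥(W₁ ⊔ W₂) => (z : G)) (hid ⟨x, hle x.2⟩ x.2))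
    refine Nat.card_congr
      { toFun := fun φ => φ.1.comp (Subgroup.inclusion hle)
        invFun := fun f => ⟨f.comp q, fun w hw => ?_⟩
        left_inv := fun φ => Subtype.ext (MonoidHom.ext fun w => ?_)
        right_inv := fun f => MonoidHom.ext fun x => ?_ }
    · have : q w = 1 := Subtype.ext (congrArg (fun z : ↥(W₁ ⊔ W₂) => (z : G)) (hker w hw))
      rw [MonoidHom.comp_apply, this, map_one]
    · exact (hfix φ.1 φ.2 w).symm
    · simp only [MonoidHom.comp_apply]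
      exact congrArg f (hqe x)
  have hI : Fintype.card I = Nat.card W₁ := by
    rw [← Nat.card_eq_fintype_card]
    refine card_aux (proj₁ hd hc) (proj₁_mem hd hc) le_sup_left (fun w hw => ?_) (fun w hw => proj₁_of_mem hd hc hw)
      (fun φ hφ w => ?_)
    · conv_rhs => rw [← proj_mul hd hc w, proj₂_of_mem hd hc hw, mul_one]
    · conv_lhs => rw [← proj_mul hd hc w, map_mul, hφ _ (proj₂_mem hd hc w), mul_one]
  have hJ : Fintype.card J = Nat.card W₂ := by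
    rw [← Nat.card_eq_fintype_card]
    refine card_aux (proj₂ hd hc) (proj₂_mem hd hc) le_sup_right (fun w hw => ?_) (fun w hw => proj₂_of_mem hd hc hw)
      (fun φ hφ w => ?_)
    · conv_rhs => rw [← proj_mul hd hc w, proj₁_of_mem hd hc hw, one_mul]
    · conv_lhs => rw [← proj_mul hd hc w, map_mul, hφ _ (proj₁_mem hd hc w), one_mul]
  let e : (↥(W₁ ⊔ W₂) →* ℂˣ) ≃ I × J :=
    { toFun := fun ω => (⟨_, part₁_triv hd hc ω⟩, ⟨_, part₂_triv hd hc ω⟩)
      invFun := fun p => p.1.1 * p.2.1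
      left_inv := part_mul hd hc
      right_inv := fun p => Prod.ext (Subtype.ext (part₁_eq hd hc p.1.2 p.2.2))
        (Subtype.ext (part₂_eq hd hc p.1.2 p.2.2)) }
  set r : I → ℂ := fun i => a i.1 - a 1
  set c : J → ℂ := fun j => a j.1
  have hp : ∀ ω, a ω = r (e ω).1 + c (e ω).2 := fun ω => by
    show a ω = (a (part₁ hd hc ω) - a 1) + a (part₂ hd hc ω)
    rw [hrect ω]; ring
  have hcard : (Finset.univ.filter fun p : I × J => r p.1 + c p.2 ≠ 0).card =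
      Nat.card {ω : ↥(W₁ ⊔ W₂) →* ℂˣ // a ω ≠ 0} := by
    rw [Nat.card_eq_fintype_card, Fintype.card_subtype]
    refine (Finset.card_bij (fun ω _ => e ω) ?_ (fun x _ y _ h => e.injective h) ?_).symm
    · intro ω hω; simp only [Finset.mem_filter, Finset.mem_univ, true_and] at hω ⊢; rwa [← hp]
    · intro p hp'
      refine ⟨e.symm p, ?_, e.apply_symm_apply p⟩
      simp only [Finset.mem_filter, Finset.mem_univ, true_and] at hp' ⊢
      rw [hp, e.apply_symm_apply]; exact hp'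
  have hodd1 : Odd (Nat.card W₁) := hodd.of_dvd_nat (Subgroup.card_dvd_of_le le_sup_left)
  have hodd2 : Odd (Nat.card W₂) := hodd.of_dvd_nat (Subgroup.card_dvd_of_le le_sup_right)
  have hgap : Nat.card W₁ + 2 ≤ Nat.card W₂ := by
    obtain ⟨m, hm⟩ := hodd1; obtain ⟨n, hn⟩ := hodd2; omega
  have hfew' : Nat.card {ω : ↥(W₁ ⊔ W₂) →* ℂˣ // a ω ≠ 0} < 2 * Nat.card W₁ := hfew
  rcases additive_rectangle (r := r) (c := c) (by omega) (by omega) (by rw [hcard, hI]; exact hfew') with h | h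
  · -- the value depends only on the part trivial on W₁
    have hv : ∀ ω, a ω = a (part₂ hd hc ω) := fun ω => by
      rw [hp ω, h (e ω).1 ⟨1, trivOn_one _⟩]
      show (a 1 - a 1) + _ = _
      rw [sub_self, zero_add]; rfl
    have hs : (Finset.univ.filter fun j : J => a j.1 ≠ 0).card ≤ 1 := by
      by_contra hgt
      push Not at hgt
      have hsub : (Finset.univ : Finset I) ×ˢ (Finset.univ.filter fun j : J => a j.1 ≠ 0) ⊆
          Finset.univ.filter fun p : I × J => r p.1 + c p.2 ≠ 0 := by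
        rintro ⟨i, j⟩ hij
        simp only [Finset.mem_product, Finset.mem_filter, Finset.mem_univ, true_and] at hij ⊢
        rw [h i ⟨1, trivOn_one _⟩]
        show a 1 - a 1 + a j.1 ≠ 0
        rw [sub_self, zero_add]; exact hij
      have := Finset.card_le_card hsub
      rw [Finset.card_product, Finset.card_univ, hcard, hI] at this
      nlinarith
    by_cases hall : ∀ ω, a ω = 0
    · exact Or.inl hall
    · push Not at hall
      obtain ⟨ω₀, hω₀⟩ := hall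
      refine Or.inr (Or.inl ⟨part₂ hd hc ω₀, a ω₀, fun ω => ?_⟩)
      have hiff : (∀ w : ↥(W₁ ⊔ W₂), (w : G) ∈ W₂ → (ω * (part₂ hd hc ω₀)⁻¹) w = 1) ↔
          part₂ hd hc ω = part₂ hd hc ω₀ := by
        simp only [MonoidHom.mul_apply, MonoidHom.inv_apply, mul_inv_eq_one]
        refine ⟨fun hh => MonoidHom.ext fun w => ?_, fun hh w hw => ?_⟩
        · show ω (proj₂ hd hc w) = ω₀ (proj₂ hd hc w)
          rw [hh _ (proj₂_mem hd hc w)]
          show ω₀ (proj₂ hd hc (proj₂ hd hc w)) = _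
          have := (proj_eq_of hd hc 1 (proj₂ hd hc w) W₁.one_mem (proj₂_mem hd hc w)).2
          rw [one_mul] at this
          rw [this]
        · rw [← hh]
          show ω w = ω (proj₂ hd hc w)
          conv_lhs => rw [← proj_mul hd hc w, proj₁_of_mem hd hc hw, one_mul]
      show a ω = _
      by_cases hh : part₂ hd hc ω = part₂ hd hc ω₀
      · rw [if_pos (hiff.mpr hh), hv ω, hv ω₀, hh]
      · rw [if_neg (fun x => hh (hiff.mp x)), hv ω]
        by_contra hne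
        exact hh (congrArg Subtype.val (Finset.card_le_one.mp hs ⟨_, part₂_triv hd hc ω⟩ (by simp [hne])
          ⟨_, part₂_triv hd hc ω₀⟩ (by simp [← hv ω₀, hω₀])))
  · -- the value depends only on the part trivial on W₂
    have hv : ∀ ω, a ω = a (part₁ hd hc ω) := fun ω => by
      rw [hp ω, h (e ω).2 ⟨1, trivOn_one _⟩]
      show (a (part₁ hd hc ω) - a 1) + a 1 = _
      ring
    have hs : (Finset.univ.filter fun i : I => a i.1 ≠ 0).card ≤ 1 := by
      by_contra hgt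
      push Not at hgt
      have hsub : (Finset.univ.filter fun i : I => a i.1 ≠ 0) ×ˢ (Finset.univ : Finset J) ⊆
          Finset.univ.filter fun p : I × J => r p.1 + c p.2 ≠ 0 := by
        rintro ⟨i, j⟩ hij
        simp only [Finset.mem_product, Finset.mem_filter, Finset.mem_univ, true_and, and_true] at hij ⊢
        rw [h j ⟨1, trivOn_one _⟩]
        show a i.1 - a 1 + a 1 ≠ 0
        rw [sub_add_cancel]; exact hij
      have := Finset.card_le_card hsub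
      rw [Finset.card_product, Finset.card_univ, hcard, hJ] at this
      nlinarith
    by_cases hall : ∀ ω, a ω = 0
    · exact Or.inl hall
    · push Not at hall
      obtain ⟨ω₀, hω₀⟩ := hall
      refine Or.inr (Or.inr ⟨part₁ hd hc ω₀, a ω₀, fun ω => ?_⟩)
      have hiff : (∀ w : ↥(W₁ ⊔ W₂), (w : G) ∈ W₁ → (ω * (part₁ hd hc ω₀)⁻¹) w = 1) ↔
          part₁ hd hc ω = part₁ hd hc ω₀ := by
        simp only [MonoidHom.mul_apply, MonoidHom.inv_apply, mul_inv_eq_one]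
        refine ⟨fun hh => MonoidHom.ext fun w => ?_, fun hh w hw => ?_⟩
        · show ω (proj₁ hd hc w) = ω₀ (proj₁ hd hc w)
          rw [hh _ (proj₁_mem hd hc w)]
          show ω₀ (proj₁ hd hc (proj₁ hd hc w)) = _
          have := (proj_eq_of hd hc (proj₁ hd hc w) 1 (proj₁_mem hd hc w) W₂.one_mem).1
          rw [mul_one] at this
          rw [this]
        · rw [← hh]
          show ω w = ω (proj₁ hd hc w)
          conv_lhs => rw [← proj_mul hd hc w, proj₂_of_mem hd hc hw, mul_one]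
      show a ω = _
      by_cases hh : part₁ hd hc ω = part₁ hd hc ω₀
      · rw [if_pos (hiff.mpr hh), hv ω, hv ω₀, hh]
      · rw [if_neg (fun x => hh (hiff.mp x)), hv ω]
        by_contra hne
        exact hh (congrArg Subtype.val (Finset.card_le_one.mp hs ⟨_, part₁_triv hd hc ω⟩ (by simp [hne])
          ⟨_, part₁_triv hd hc ω₀⟩ (by simp [← hv ω₀, hω₀])))


open Classical in
/-- Let W₁, W₂ ≤ G form a self-normalising cyclic subgroup W = W₁ ⊔ W₂ of odd order with Nat.card W₁ < Nat.card W₂, and χ an orthonormal family of irreducible characters of G up to sign, indexed by the linear characters ω of W, with χ_1 = 1, χ_ω = ω on W outside W₁ ∪ W₂, and the induction identity for (1 − φ)(1 − ψ). Let θ be a class function of G vanishing on W outside W₁ ∪ W₂, and suppose fewer than 2 · Nat.card W₁ linear characters ω of W have ⟨θ, χ ω⟩ ≠ 0. Then one of: all ⟨θ, χ ω⟩ vanish; or there are ψ₀ and a with ⟨θ, χ ω⟩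 = a when ω ψ₀⁻¹ is trivial on W₂ and 0 otherwise; or there are φ₀ and a with ⟨θ, χ ω⟩ = a when ω φ₀⁻¹ is trivial on W₁ and 0 otherwise. -/
theorem result {G : Type*} [Group G] [Fintype G] (W₁ W₂ : Subgroup G) (hW : Cfsg.IsSelfNormalizingCyclic W₁ W₂) (hodd : Odd (Nat.card ↥(W₁ ⊔ W₂))) (χ : (↥(W₁ ⊔ W₂) →* ℂˣ) → (G → ℂ)) (hχ : Cfsg.IsCyclicTIFamily W₁ W₂ χ) (hlt : Nat.card W₁ < Nat.card W₂) (θ : G → ℂ) (hθ : Cfsg.IsClassFunction G θ) (hθV : ∀ w : ↥(W₁ ⊔ W₂), (w : G) ∉ W₁ → (w : G) ∉ W₂ → θ w = 0) (hfew : Nat.card {ω : ↥(W₁ ⊔ W₂) →* ℂˣ // Cfsg.classInner θ (χ ω) ≠ 0} < 2 * Nat.card W₁) : (∀ ω, Cfsg.classInner θ (χ ω) = 0) ∨ (∃ (ψ₀ : ↥(W₁ ⊔ W₂) →* ℂˣ) (a : ℂ), ∀ ω, Cfsg.classInner θ (χ ω) = if (∀ w : ↥(W₁ ⊔ W₂), (w : G) ∈ W₂ → (ω * ψ₀⁻¹) w = 1) then a else 0) ∨ (∃ (φ₀ : ↥(W₁ ⊔ W₂) →* ℂˣ) (a : ℂ), ∀ ω, Cfsg.classInner θ (χ ω) = if (∀ w : ↥(W₁ ⊔ W₂), (w : G) ∈ W₁ → (ω * φ₀⁻¹) w = 1) then a else 0) := by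
  classical
  exact Cfsg.Agent.S1507.trichotomy hW hodd hχ hlt hθ hθV hfew

end Cfsg.Agent.S1507
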