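import Cfsg.Statements.S1515
import Cfsg.Agent.Lib.CoherenceBasic

set_option autoImplicit false
open Cfsg

namespace Cfsg.Agent.S1515

open Cfsg.Agent.CoherenceBasic Cfsg.Agent.CharBasicOrth Cfsg.Agent.CharBasicDecomp Cfsg.Agent.CharBasic

theorem coh_projection {L : Type*} [Group L] [Fintype L] {G : Type*} [Group G] [Fintype G]
    {S : Set (L → ℂ)} {τ : (L → ℂ) → (G → ℂ)} {R : (L → ℂ) → Finset (G → ℂ)}
    (hS : Cfsg.IsCoherenceSystem S τ R) {χ : L → ℂ} (hχ : χ ∈ S) {ψ : L → ℂ}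
    (h1 : Cfsg.classInner χ ψ = 0) (h2 : Cfsg.classInner (Cfsg.conjFun χ) ψ = 0)
    {τ₁ : (L → ℂ) → (G → ℂ)}
    (hτ₁ : Cfsg.IsLinearIsometryOn (Cfsg.zspan {χ - ψ, χ - Cfsg.conjFun χ}) τ₁)
    (hagree : ∀ n : ℤ, τ₁ (n • (χ - Cfsg.conjFun χ)) = τ (n • (χ - Cfsg.conjFun χ))) :
    (Cfsg.classInner χ χ).re ≤ ∑ α ∈ R χ, ‖Cfsg.classInner (τ₁ (χ - ψ)) α‖ ^ 2 ∧
      ((Cfsg.classInner ψ ψ).re ≤ (Cfsg.classInner (τ₁ (χ - ψ)) (τ₁ (χ - ψ))).re -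
          ∑ α ∈ R χ, ‖Cfsg.classInner (τ₁ (χ - ψ)) α‖ ^ 2 →
        (∑ α ∈ R χ, ‖Cfsg.classInner (τ₁ (χ - ψ)) α‖ ^ 2 = (Cfsg.classInner χ χ).re ∧
          ∀ α ∈ R χ, Cfsg.classInner (τ₁ (χ - ψ)) α = 0 ∨ Cfsg.classInner (τ₁ (χ - ψ)) α = 1)) := by
  classical
  set β := τ₁ (χ - ψ) with hβ
  have m1 : χ - ψ ∈ Cfsg.zspan ({χ - ψ, χ - Cfsg.conjFun χ} : Set (L → ℂ)) := subset_zspan (by simp)
  have m2 : χ - Cfsg.conjFun χ ∈ Cfsg.zspan ({χ - ψ, χ - Cfsg.conjFun χ} : Set (L → ℂ)) :=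
    subset_zspan (by simp)
  choose! a ha using fun α (hα : α ∈ R χ) =>
    classInner_isGeneralizedCharacter (hτ₁.2.2.2 _ m1) (hS.virtual χ hχ α hα)
  have hnorm : ∑ α ∈ R χ, ‖Cfsg.classInner β α‖ ^ 2 = ∑ α ∈ R χ, (a α : ℝ) ^ 2 :=
    Finset.sum_congr rfl fun α hα => by rw [ha α hα, Complex.norm_intCast, sq_abs]
  have hψχ : Cfsg.classInner ψ χ = 0 := by rw [← conj_classInner, h1, map_zero]
  have hψc : Cfsg.classInner ψ (Cfsg.conjFun χ) = 0 := by rw [← conj_classInner, h2, map_zero]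
  have hsum : ((∑ α ∈ R χ, (a α : ℝ) : ℝ) : ℂ) = Cfsg.classInner χ χ := by
    have h := hτ₁.2.2.1 _ m1 _ m2
    have e : τ₁ (χ - Cfsg.conjFun χ) = ∑ α ∈ R χ, α := by
      rw [← hS.sum_eq χ hχ]; simpa using hagree 1
    rw [e, classInner_sum_right, classInner_sub_left, classInner_sub_right, classInner_sub_right,
      hψχ, hψc, hS.orthogonal χ hχ _ (hS.conj_mem χ hχ) (Ne.symm (hS.conj_ne χ hχ))] at h
    rw [sub_zero, sub_zero, sub_zero] at h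
    rw [← h]; push_cast
    exact Finset.sum_congr rfl fun α hα => (ha α hα).symm
  have hsum' : ∑ α ∈ R χ, (a α : ℝ) = (Cfsg.classInner χ χ).re := by
    rw [← hsum, Complex.ofReal_re]
  have hpt : ∀ α ∈ R χ, (a α : ℝ) ≤ (a α : ℝ) ^ 2 := fun α _ => by
    exact_mod_cast Int.le_self_sq (a α)
  have hle := Finset.sum_le_sum hpt
  rw [hsum'] at hle
  refine ⟨hnorm ▸ hle, fun h => ?_⟩
  have hββ : (Cfsg.classInner β β).re = (Cfsg.classInner χ χ).re + (Cfsg.classInner ψ ψ).re := by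
    rw [hβ, hτ₁.2.2.1 _ m1 _ m1, classInner_sub_left, classInner_sub_right, classInner_sub_right, h1, hψχ]
    simp
  rw [hββ, hnorm] at h
  have heq : ∑ α ∈ R χ, (a α : ℝ) ^ 2 = (Cfsg.classInner χ χ).re := le_antisymm (by linarith) hle
  refine ⟨hnorm.trans heq, fun α hα => ?_⟩
  have := (Finset.sum_eq_sum_iff_of_le hpt).mp (hsum'.trans heq.symm) α hα
  have h01 : a α = 0 ∨ a α = 1 := by
    have h' : a α = a α ^ 2 := by exact_mod_cast this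
    rcases eq_or_ne (a α) 0 with e | e
    · exact Or.inl e
    · exact Or.inr (mul_right_cancel₀ e (by linear_combination -h'))
  rw [ha α hα]
  rcases h01 with e | e <;> simp [e]


/-- Let (S, τ, R) be a coherence system from L to G, χ ∈ S, and ψ an integer combination of S with ⟨χ, ψ⟩ = ⟨conj χ, ψ⟩ = 0. Let τ₁ be a linear isometry on the integer combinations of χ − ψ and χ − conj χ, with virtual-character values, agreeing with τ on integer multiples of χ − conj χ. Then the sum over α ∈ R χ of the squared absolute values of ⟨τ₁(χ − ψ), α⟩ is at least ⟨χ, χ⟩; and if ⟨τ₁(χ − ψ), τ₁(χ − ψ)⟩ minus that sum is at least ⟨ψ, ψ⟩, then the sum equals ⟨χ, χ⟩ and every ⟨τ₁(χ − ψ), α⟩ with α ∈ R χ is 0 or 1. -/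
theorem result {L : Type*} [Group L] [Fintype L] {G : Type*} [Group G] [Fintype G] (S : Set (L → ℂ)) (τ : (L → ℂ) → (G → ℂ)) (R : (L → ℂ) → Finset (G → ℂ)) (hS : Cfsg.IsCoherenceSystem S τ R) (χ : L → ℂ) (hχ : χ ∈ S) (ψ : L → ℂ) (hψ : ψ ∈ Cfsg.zspan S) (h1 : Cfsg.classInner χ ψ = 0) (h2 : Cfsg.classInner (Cfsg.conjFun χ) ψ = 0) (τ₁ : (L → ℂ) → (G → ℂ)) (hτ₁ : Cfsg.IsLinearIsometryOn (Cfsg.zspan {χ - ψ, χ - Cfsg.conjFun χ}) τ₁) (hagree : ∀ n : ℤ, τ₁ (n • (χ - Cfsg.conjFun χ)) = τ (n • (χ - Cfsg.conjFun χ))) : (Cfsg.classInner χ χ).re ≤ ∑ α ∈ R χ, ‖Cfsg.classInner (τ₁ (χ - ψ)) α‖ ^ 2 ∧ ((Cfsg.classInner ψ ψ).re ≤ (Cfsg.classInner (τ₁ (χ - ψ)) (τ₁ (χ - ψ))).re - ∑ α ∈ R χ, ‖Cfsg.classInner (τ₁ (χ - ψ)) α‖ ^ 2 → (∑ α ∈ R χ, ‖Cfsg.classInner (τ₁ (χ - ψ)) α‖ ^ 2 = (Cfsg.classInner χ χ).re ∧ ∀ α ∈ R χ, Cfsg.classInner (τ₁ (χ - ψ)) α = 0 ∨ Cfsg.classInner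 (τ₁ (χ - ψ)) α = 1)) := by
  exact coh_projection hS hχ h1 h2 hτ₁ hagree

end Cfsg.Agent.S1515
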