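import Cfsg.Statements.S1524
import Cfsg.Agent.Lib.PF6Sibley43

set_option autoImplicit false
open Cfsg

namespace Cfsg.Agent.S1524

/-- Let G be a finite group and H ≤ L subgroups with L of odd order, H ≠ ⊥ nilpotent and normal in L with a nontrivial complement W₁ in L (H ⊓ W₁ = ⊥, H ⊔ W₁ = L) acting on H without non-identity fixed points (L is a Frobenius group with kernel H), and suppose the underlying set of H is a TI-subset of G whose normaliser is L. Let S be the set of functions on L induced from the non-principal irreducible characters of H. Then (S, L minus 1, induction to G) is coherent. -/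
theorem result {G : Type*} [Group G] [Fintype G] (H L W₁ : Subgroup G) [Fintype L] (hodd : Odd (Nat.card L)) (hHL : H ≤ L) (hW₁L : W₁ ≤ L) (hH1 : H ≠ ⊥) (hW1 : W₁ ≠ ⊥) (hnil : Group.IsNilpotent H) (hHn : ∀ x ∈ L, ∀ h ∈ H, x * h * x⁻¹ ∈ H) (hinf : H ⊓ W₁ = ⊥) (hsup : H ⊔ W₁ = L) (hfpf : ∀ w ∈ W₁, w ≠ 1 → ∀ h ∈ H, w * h = h * w → h = 1) (hTI : Cfsg.IsTISubset (H : Set G)) (hN : Subgroup.normalizer (H : Set G) = L) : Cfsg.IsCoherent (Cfsg.inducedIrrAbove (H.subgroupOf L) ⊥) {1}ᶜ (fun α : L → ℂ => Cfsg.indFun L α) := by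
  classical
  haveI : (H.subgroupOf L).Normal := Subgroup.normal_subgroupOf_of_le_normalizer hN.ge
  have hbot : H.subgroupOf L ⊓ W₁.subgroupOf L = ⊥ := by
    rw [eq_bot_iff]
    intro x hx
    have h2 : (x : G) ∈ H ⊓ W₁ := hx
    rw [hinf, Subgroup.mem_bot] at h2
    exact Subgroup.mem_bot.2 (Subtype.ext h2)
  have htop : H.subgroupOf L ⊔ W₁.subgroupOf L = ⊤ := by
    rw [← Subgroup.subgroupOf_sup hHL hW₁L, hsup, Subgroup.subgroupOf_self]
  have hCL := CharInduced.centralizer_le_of_fpf (H.subgroupOf L) (W₁.subgroupOf L) hbot htop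
    fun w hw hw1 k hk e => Subtype.ext
      (hfpf (w : G) hw (fun h => hw1 (Subtype.ext h)) (k : G) hk (congrArg Subtype.val e))
  have hC : ∀ k ∈ H, k ≠ 1 → Subgroup.centralizer ({k} : Set G) ≤ H := by
    intro k hk hk1 g hg
    have hg' := Subgroup.mem_centralizer_singleton_iff.1 hg
    have hgL : g ∈ L := by
      by_contra hgn
      refine hk1 (hTI g (hN.symm ▸ hgn) k hk ?_)
      rw [hg', mul_inv_cancel_right]
      exact hk
    exact hCL ⟨k, hHL hk⟩ hk (fun h => hk1 (congrArg Subtype.val h)) (x := ⟨g, hgL⟩)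
      (Subgroup.mem_centralizer_singleton_iff.2 (Subtype.ext hg'))
  have hlt : H < L := by
    refine lt_of_le_of_ne hHL fun h => hW1 ?_
    rw [← hinf, inf_eq_right.2 (h ▸ hW₁L)]
  have hCN := PF6.centralizer_subgroupOf (N := L) hC
  obtain ⟨-, -, -, hSeq⟩ := PF6.ti_setup (K := H) (N := L) (fun g hg => hTI g (hN.symm ▸ hg)) hCN
  rw [hSeq]
  have hHodd : Odd (Nat.card H) := hodd.of_dvd_nat (Subgroup.card_dvd_of_le hHL)
  have heodd : Odd (H.subgroupOf L).index := hodd.of_dvd_nat (Subgroup.index_dvd_card _)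
  rcases PF6.feit_sibley H hH1 hTI (hN.symm ▸ hlt) hC L hN with ⟨-, h2, -⟩ | ⟨h1, -⟩ | h
  · exfalso
    rw [h2] at hHodd
    exact Nat.not_even_iff_odd.2 hHodd (heodd.add_one)
  · exfalso
    rw [h1] at hHodd
    rcases Nat.eq_zero_or_pos ((Nat.card G).factorization 2) with h0 | h0
    · exact hH1 (Subgroup.card_eq_one.1 (by rw [h1, h0, pow_zero]))
    · exact Nat.not_even_iff_odd.2 hHodd (Nat.even_pow.2 ⟨even_two, h0.ne'⟩)
  · exact h

end Cfsg.Agent.S1524
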