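import Cfsg.Statements.S1527


set_option autoImplicit false
open Cfsg

namespace Cfsg.Agent.S1527

/-- Let G be a finite group and H i (i in a finite index type) subgroups of pairwise coprime orders, each of whose underlying sets is a TI-subset of G, such that every non-identity element of G is conjugate to an element of some H i. Then Nat.card G − 1 = Σ_i [G : N_G(H i)] · (Nat.card (H i) − 1). -/
theorem result {G : Type*} [Group G] [Finite G] {ι : Type*} [Fintype ι] (H : ι → Subgroup G) (hcop : ∀ i j, i ≠ j → Nat.Coprime (Nat.card (H i)) (Nat.card (H j))) (hTI : ∀ i, Cfsg.IsTISubset (H i : Set G)) (hcover : ∀ g : G, g ≠ 1 → ∃ i, ∃ x : G, x * g * x⁻¹ ∈ H i) : Nat.card G - 1 = ∑ i, (Subgroup.normalizer (H i : Set G)).index * (Nat.card (H i) - 1) := by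
  classical
  have hN : ∀ i, ∀ g : G, g ∈ Subgroup.normalizer (H i : Set G) → ∀ h : G, h ∈ H i → g * h * g⁻¹ ∈ H i :=
    fun i g hg h hh => (Subgroup.mem_set_normalizer_iff.mp hg h).mp hh
  let f : (Σ i, (G ⧸ Subgroup.normalizer (H i : Set G)) × {h : G // h ∈ H i ∧ h ≠ 1}) → {g : G // g ≠ 1} :=
    fun s => ⟨s.2.1.out * (s.2.2 : G) * s.2.1.out⁻¹, by
      intro h
      exact s.2.2.2.2 (conj_eq_one_iff.mp h)⟩
  have hbij : Function.Bijective f := by
    refine ⟨?_, ?_⟩
    · rintro ⟨i, q, h, hh, hh1⟩ ⟨j, q', h', hh', hh1'⟩ he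
      have he' : q.out * h * q.out⁻¹ = q'.out * h' * q'.out⁻¹ := congrArg Subtype.val he
      have hij : i = j := by
        by_contra hne
        have ho : orderOf h = orderOf h' := by
          have e1 := orderOf_injective (MulAut.conj q.out).toMonoidHom (MulAut.conj q.out).injective h
          have e2 := orderOf_injective (MulAut.conj q'.out).toMonoidHom (MulAut.conj q'.out).injective h'
          simp only [MulEquiv.coe_toMonoidHom, MulAut.conj_apply] at e1 e2
          rw [← e1, ← e2, he']
        have h2 := Nat.dvd_gcd (Subgroup.orderOf_dvd_natCard _ hh)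
          (ho ▸ Subgroup.orderOf_dvd_natCard _ hh')
        rw [(hcop i j hne).gcd_eq_one, Nat.dvd_one, orderOf_eq_one_iff] at h2
        exact hh1 h2
      subst hij
      have hc : (q'.out⁻¹ * q.out) * h * (q'.out⁻¹ * q.out)⁻¹ = h' := by
        calc _ = q'.out⁻¹ * (q.out * h * q.out⁻¹) * q'.out := by group
          _ = h' := by rw [he']; group
      have hz : q'.out⁻¹ * q.out ∈ Subgroup.normalizer (H i : Set G) := by
        by_contra hn
        exact hh1 (hTI i _ hn h hh (hc.symm ▸ hh'))
      have hq : q' = q := by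
        rw [← q.out_eq', ← q'.out_eq']
        exact QuotientGroup.eq.mpr hz
      subst hq
      have : h = h' := by simpa using hc
      subst this
      rfl
    · rintro ⟨g, hg⟩
      obtain ⟨i, x, hx⟩ := hcover g hg
      obtain ⟨n, hn⟩ := QuotientGroup.mk_out_eq_mul (Subgroup.normalizer (H i : Set G)) x⁻¹
      have hmem : (n : G)⁻¹ * (x * g * x⁻¹) * (n : G)⁻¹⁻¹ ∈ H i :=
        hN i _ (inv_mem n.2) _ hx
      refine ⟨⟨i, (x⁻¹ : G), ⟨_, hmem, ?_⟩⟩, Subtype.ext ?_⟩
      · intro h
        exact hg (conj_eq_one_iff.mp (conj_eq_one_iff.mp h))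
      · show (QuotientGroup.mk x⁻¹ : G ⧸ Subgroup.normalizer (H i : Set G)).out * _ *
          (QuotientGroup.mk x⁻¹ : G ⧸ Subgroup.normalizer (H i : Set G)).out⁻¹ = g
        rw [hn]; group
  haveI : Fintype G := Fintype.ofFinite G
  have hc := Nat.card_congr (Equiv.ofBijective f hbij)
  rw [Nat.card_sigma] at hc
  simp only [Nat.card_prod] at hc
  have hG : Nat.card {g : G // g ≠ 1} = Nat.card G - 1 := by
    rw [Nat.card_eq_fintype_card, Nat.card_eq_fintype_card, Fintype.card_subtype_compl,
      Fintype.card_subtype_eq]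
  rw [← hG, ← hc]
  refine Finset.sum_congr rfl fun i _ => ?_
  congr 1
  have e : {h : G // h ∈ H i ∧ h ≠ 1} ≃ {h : H i // h ≠ 1} :=
    { toFun := fun h => ⟨⟨h, h.2.1⟩, fun e => h.2.2 (congrArg Subtype.val e)⟩
      invFun := fun h => ⟨h.1, h.1.2, fun e => h.2 (Subtype.ext e)⟩
      left_inv := fun _ => rfl
      right_inv := fun _ => rfl }
  rw [Nat.card_congr e, Nat.card_eq_fintype_card, Fintype.card_subtype_compl, Fintype.card_subtype_eq,
    Nat.card_eq_fintype_card]

end Cfsg.Agent.S1527
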