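import Cfsg.Statements.S1529
import Cfsg.Agent.Lib.CoherenceBasic

set_option autoImplicit false
open Cfsg

namespace Cfsg.Agent.S1529

open Cfsg.Agent.CoherenceBasic Cfsg.Agent.CharBasicOrth Cfsg.Agent.CharBasicDecomp Cfsg.Agent.CharBasic

theorem signs_uniform {N : Type*} [Group N] [Fintype N] {G : Type*} [Group G] [Fintype G]
    {S : Set (N → ℂ)} (hirr : ∀ χ ∈ S, Cfsg.IsIrrCharacter N χ) (htwo : ∃ χ ∈ S, ∃ ψ ∈ S, χ ≠ ψ)
    {τ₁ : (N → ℂ) → (G → ℂ)} (hτ₁ : Cfsg.IsLinearIsometryOn (Cfsg.zspan S) τ₁)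
    (h0 : ∀ α ∈ Cfsg.zspan S, α 1 = 0 → τ₁ α 1 = 0) :
    ∃ ε : ℂ, (ε = 1 ∨ ε = -1) ∧ (∀ χ ∈ S, Cfsg.IsIrrCharacter G (ε • τ₁ χ)) ∧
      (∀ χ ∈ S, ∀ ψ ∈ S, τ₁ χ = τ₁ ψ → χ = ψ) := by
  classical
  have hsi : ∀ χ ∈ S, SignedIrr (τ₁ χ) := fun χ hχ =>
    si_of_norm_one (hτ₁.2.2.2 χ (subset_zspan hχ))
      ((hτ₁.2.2.1 χ (subset_zspan hχ) χ (subset_zspan hχ)).trans (classInner_irr_self (hirr χ hχ)))
  have hdeg : ∀ χ ∈ S, ∀ ψ ∈ S, χ 1 * τ₁ ψ 1 = ψ 1 * τ₁ χ 1 := by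
    intro χ hχ ψ hψ
    obtain ⟨c, -, hc⟩ := isIrrCharacter_apply_one (hirr χ hχ)
    obtain ⟨e, -, he⟩ := isIrrCharacter_apply_one (hirr ψ hψ)
    have h1 := zspan_natCast_smul c (subset_zspan hψ)
    have h2 := zspan_natCast_smul e (subset_zspan hχ)
    have h := h0 _ (zspan_sub h1 h2) (by simp [hc, he, mul_comm])
    rw [span_map_sub hτ₁ h1 h2, span_map_natCast_smul hτ₁ c (subset_zspan hψ),
      span_map_natCast_smul hτ₁ e (subset_zspan hχ)] at h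
    rw [hc, he]
    simpa [sub_eq_zero] using h
  obtain ⟨χ₀, hχ₀, -⟩ := htwo
  have hpos : ∀ χ ∈ S, ∀ ε : ℂ, Cfsg.IsIrrCharacter G (ε • τ₁ χ₀) → (ε = 1 ∨ ε = -1) →
      Cfsg.IsIrrCharacter G (ε • τ₁ χ) := by
    intro χ hχ ε hε hε1
    have hdp : ∀ θ : G → ℂ, Cfsg.IsIrrCharacter G θ → ∃ n : ℕ, 0 < n ∧ θ 1 = n := fun θ h =>
      isIrrCharacter_apply_one h
    obtain ⟨m, hm0, hm⟩ := hdp _ hε
    obtain ⟨c, hc0, hc⟩ := isIrrCharacter_apply_one (hirr χ₀ hχ₀)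
    obtain ⟨e, he0, he⟩ := isIrrCharacter_apply_one (hirr χ hχ)
    by_contra hno
    have hneg : Cfsg.IsIrrCharacter G (-(ε • τ₁ χ)) := by
      rcases hsi χ hχ with h | h <;> rcases hε1 with rfl | rfl <;> simp_all
    obtain ⟨k, hk0, hk⟩ := hdp _ hneg
    have hd := hdeg χ₀ hχ₀ χ hχ
    simp only [Pi.smul_apply, Pi.neg_apply, smul_eq_mul] at hm hk
    rw [hc, he] at hd
    have : ((c * k + e * m : ℕ) : ℂ) = 0 := by
      push_cast; rw [← hm, ← hk]; linear_combination (-ε) * hd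
    have h' : c * k + e * m = 0 := by exact_mod_cast this
    have := Nat.mul_pos hc0 hk0
    omega
  have hinj : ∀ χ ∈ S, ∀ ψ ∈ S, τ₁ χ = τ₁ ψ → χ = ψ := by
    intro χ hχ ψ hψ h
    by_contra hne
    have := hτ₁.2.2.1 χ (subset_zspan hχ) ψ (subset_zspan hψ)
    rw [← h, si_self (hsi χ hχ), classInner_irr_ne (hirr χ hχ) (hirr ψ hψ) hne] at this
    exact one_ne_zero this
  rcases hsi χ₀ hχ₀ with h | h
  · exact ⟨1, Or.inl rfl, fun χ hχ => hpos χ hχ 1 (by simpa using h) (Or.inl rfl), hinj⟩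
  · exact ⟨-1, Or.inr rfl, fun χ hχ => hpos χ hχ (-1) (by simpa using h) (Or.inr rfl), hinj⟩


/-- Let N be a subgroup of the finite group G, S a set of irreducible characters of N with at least two members, and τ₁ a linear isometry on the integer combinations of S with virtual-character values such that τ₁ α vanishes at 1 whenever α ∈ ℤ[S] does. Then there is ε ∈ {1, −1} such that ε • τ₁ χ is an irreducible character of G for every χ ∈ S, and distinct members of S give distinct characters. -/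
theorem result {G : Type*} [Group G] [Fintype G] (N : Subgroup G) [Fintype N] (S : Set (N → ℂ)) (hirr : ∀ χ ∈ S, Cfsg.IsIrrCharacter N χ) (htwo : ∃ χ ∈ S, ∃ ψ ∈ S, χ ≠ ψ) (τ₁ : (N → ℂ) → (G → ℂ)) (hτ₁ : Cfsg.IsLinearIsometryOn (Cfsg.zspan S) τ₁) (h0 : ∀ α ∈ Cfsg.zspan S, α 1 = 0 → τ₁ α 1 = 0) : ∃ ε : ℂ, (ε = 1 ∨ ε = -1) ∧ (∀ χ ∈ S, Cfsg.IsIrrCharacter G (ε • τ₁ χ)) ∧ (∀ χ ∈ S, ∀ ψ ∈ S, τ₁ χ = τ₁ ψ → χ = ψ) := by
  exact signs_uniform hirr htwo hτ₁ h0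

end Cfsg.Agent.S1529
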