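import Cfsg.Statements.S1532
import Cfsg.Agent.Lib.PF6Feit43
import Cfsg.Agent.Lib.FourCoherence
import Cfsg.Agent.Lib.CharInducedTI

set_option autoImplicit false
open Cfsg

namespace Cfsg.Agent.S1532

/-- Let G be a finite group, p an odd prime and P a Sylow p-subgroup that is non-abelian, whose underlying set is a TI-subset of G, with P properly contained in its set normaliser N and C_G(x) ≤ P for every non-identity x ∈ P. Let Z be a nontrivial subgroup of the centre of P normalised by N. Then the set of irreducible characters χ of N with χ z ≠ χ 1 for some z ∈ Z is coherent for the map induced by induction from N to G. -/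
theorem result {G : Type*} [Group G] [Fintype G] (p : ℕ) [Fact p.Prime] (hp : p ≠ 2) (P : Sylow p G) (hna : ¬ IsMulCommutative (P : Subgroup G)) (hTI : Cfsg.IsTISubset ((P : Subgroup G) : Set G)) (hlt : (P : Subgroup G) < Subgroup.normalizer ((P : Subgroup G) : Set G)) (hC : ∀ k ∈ (P : Subgroup G), k ≠ 1 → Subgroup.centralizer ({k} : Set G) ≤ (P : Subgroup G)) [Fintype ↥(Subgroup.normalizer ((P : Subgroup G) : Set G))] (Z : Subgroup G) (hZ1 : Z ≠ ⊥) (hZP : ∀ z ∈ Z, z ∈ (P : Subgroup G) ∧ ∀ y ∈ (P : Subgroup G), z * y = y * z) (hZn : ∀ x ∈ Subgroup.normalizer ((P : Subgroup G) : Set G), ∀ z ∈ Z, x * z * x⁻¹ ∈ Z) : Cfsg.IsCoherent {χ : ↥(Subgroup.normalizer ((P : Subgroup G) : Set G)) → ℂ | Cfsg.IsIrrCharacter ↥(Subgroup.normalizer ((P : Subgroup G) : Set G)) χ ∧ ∃ z : ↥(Subgroup.normalizer ((P : Subgroup G) : Set G)), (z : G) ∈ Z ∧ χ z ≠ χ 1} {1}ᶜ (fun α => Cfsg.indFun (Subgroup.normalizer ((P : Subgroup G) : Set G)) α) := by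
  classical
  generalize hN : Subgroup.normalizer ((P : Subgroup G) : Set G) = N at *
  have hPN : (P : Subgroup G) ≤ N := hN ▸ Subgroup.le_normalizer
  set K := (P : Subgroup G).subgroupOf N with hK
  haveI : K.Normal := Subgroup.normal_subgroupOf_of_le_normalizer hN.ge
  set Zn := Z.subgroupOf N with hZn'
  haveI : Zn.Normal := ⟨fun z hz g => hZn (g : G) g.2 _ hz⟩
  have hCN : ∀ k ∈ K, k ≠ 1 → Subgroup.centralizer ({k} : Set N) ≤ K := fun k hk hk1 g hg =>
    hC (k : G) hk (fun e => hk1 (Subtype.ext e)) (Subgroup.mem_centralizer_singleton_iff.2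
      (congrArg Subtype.val (Subgroup.mem_centralizer_singleton_iff.1 hg)))
  have hirr : ∀ χ ∈ Cfsg.inducedIrrAbove K ⊥ \ Cfsg.inducedIrrAbove K Zn, Cfsg.IsIrrCharacter N χ :=
    fun χ hχ => by
      obtain ⟨θ, hθ, rfl⟩ := PF6.mem_induced.1 hχ.1
      exact CharInduced.isIrrCharacter_ind_of_centralizer K hCN θ.2 (PF6.mem_aboveFin.1 hθ).1
  have hZK : Zn ≤ K := fun z hz => (hZP _ hz).1
  have hX : Cfsg.inducedIrrAbove K ⊥ \ Cfsg.inducedIrrAbove K Zn =
      {χ | Cfsg.IsIrrCharacter N χ ∧ ∃ z : N, (z : G) ∈ Z ∧ χ z ≠ χ 1} := PF6.diff_eq_irr hZK hirr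
  rw [← hX]
  have hKp : IsPGroup p ↥K := P.2.of_equiv (Subgroup.subgroupOfEquivOfLe hPN).symm
  have hZne : Zn ≠ ⊥ := by
    intro h
    obtain ⟨z, hz, hz1⟩ := Z.bot_or_exists_ne_one.resolve_left hZ1
    have hmem : (⟨z, hPN (hZP z hz).1⟩ : N) ∈ Zn := hz
    rw [h, Subgroup.mem_bot] at hmem
    exact hz1 (congrArg Subtype.val hmem)
  have hKne : K ≠ ⊥ := fun h => hZne (le_bot_iff.1 (h ▸ hZK))
  have hpK : p ∣ Nat.card K := by
    obtain ⟨k, hk⟩ := hKp.exists_card_eq
    have hk0 : k ≠ 0 := fun h0 => hKne (Subgroup.card_eq_one.1 (by rw [hk, h0, pow_zero]))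
    exact hk ▸ dvd_pow_self p hk0
  have hcop : K.index.Coprime p := by
    rw [Nat.coprime_comm, Nat.Prime.coprime_iff_not_dvd Fact.out]
    exact fun h => P.not_dvd_index (h.trans (Subgroup.relIndex_dvd_index_of_le hPN))
  have hodd : Odd (Nat.card N) := by
    by_contra hev
    obtain ⟨t, ht⟩ := exists_prime_orderOf_dvd_card' 2 (even_iff_two_dvd.1 (Nat.not_odd_iff_even.1 hev))
    have htK : t ∉ K := fun h => by
      obtain ⟨k, hk⟩ := IsPGroup.iff_orderOf.1 hKp ⟨t, h⟩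
      rw [Subgroup.orderOf_mk, ht] at hk
      exact hp ((Nat.prime_dvd_prime_iff_eq Nat.prime_two Fact.out).1
        (Nat.prime_two.dvd_of_dvd_pow (dvd_of_eq hk))).symm
    have htt : t * t = 1 := by rw [← sq, ← ht, pow_orderOf_eq_one]
    have hfp : MonoidHom.FixedPointFree (MulAut.conjNormal t : MulAut K).toMonoidHom := by
      intro k hk
      by_contra hk1
      refine htK (hCN k k.2 (fun e => hk1 (Subtype.ext e)) (Subgroup.mem_centralizer_singleton_iff.2 ?_))
      have h := congrArg Subtype.val hk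
      change ((MulAut.conjNormal t k : K) : N) = k at h
      rw [MulAut.conjNormal_apply] at h
      exact mul_inv_eq_iff_eq_mul.1 h
    have hinv : Function.Involutive (MulAut.conjNormal t : MulAut K).toMonoidHom := fun k => by
      show MulAut.conjNormal t (MulAut.conjNormal t k) = k
      rw [← MulAut.mul_apply, ← map_mul, htt, map_one, MulAut.one_apply]
    refine hna ⟨⟨fun a b => ?_⟩⟩
    exact Subtype.ext (congrArg (fun x : K => ((x : N) : G))
      (hfp.commute_all_of_involutive hinv ⟨⟨a, hPN a.2⟩, a.2⟩ ⟨⟨b, hPN b.2⟩, b.2⟩).eq)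
  have hp3 : 3 ≤ p := by
    have := (Fact.out : p.Prime).two_le
    omega
  set X := Cfsg.inducedIrrAbove K ⊥ \ Cfsg.inducedIrrAbove K Zn with hXdef
  have hTI' : ∀ g : G, g ∉ N → ∀ t ∈ ((P : Subgroup G) : Set G), g * t * g⁻¹ ∈ ((P : Subgroup G) : Set G) → t = 1 :=
    fun g hg => hTI g (hN.symm ▸ hg)
  have hsupp : ∀ a ∈ Cfsg.zspan X, ∀ x : N, (x : G) ∉ (P : Subgroup G) → a x = 0 := by
    intro a ha
    refine CoherenceBasic.zspan_induction (P := fun a : N → ℂ => ∀ x : N, (x : G) ∉ (P : Subgroup G) → a x = 0)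
      ?_ (fun x _ => rfl) ?_ ?_ ha
    · intro φ hφ x hx
      obtain ⟨θ, -, rfl⟩ := PF6.mem_induced.1 hφ.1
      exact CharInduced.ind_normal_eq_zero K _ hx
    · intro a b _ _ ha hb x hx; simp [ha x hx, hb x hx]
    · intro n a _ ha x hx; simp [ha x hx]
  have hchar : ∀ φ ∈ X, Cfsg.IsCharacter N φ := fun φ hφ =>
    CharBasic.isCharacter_of_isIrrCharacter (hirr φ hφ)
  have hgen : ∀ a ∈ Cfsg.zspan X, Cfsg.IsGeneralizedCharacter N a := fun a ha =>
    CoherenceBasic.isClassFunction_zspan hchar ha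
  have hτ : Cfsg.IsLinearIsometryOn (Cfsg.zspanOn X {1}ᶜ) (fun α => Cfsg.indFun N α) := by
    refine ⟨fun a _ b _ => CharInduced.ind_add N a b, fun a _ n => ?_, fun a ha b hb => ?_, fun a ha =>
      CharInduced.isGenChar_ind N (hgen a ha.1)⟩
    · show Cfsg.indFun N (n • a) = n • Cfsg.indFun N a
      rw [← Int.cast_smul_eq_zsmul ℂ, ← Int.cast_smul_eq_zsmul ℂ, CharInduced.ind_smul]
    · exact CharInduced.classInner_ind_of_ti _ N hTI' a b
        (CharBasicDecomp.isClassFunction_of_isGeneralizedCharacter (hgen b hb.1))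
        (fun x hx => hsupp a ha.1 x hx) (fun x hx => hsupp b hb.1 x hx)
        (CoherenceBasic.apply_one_of_mem_zspanOn ha)
  have hτ1 : ∀ a ∈ Cfsg.zspanOn X {1}ᶜ, (fun α => Cfsg.indFun N α) a 1 = 0 := fun a ha => by
    show Cfsg.indFun N a 1 = 0
    rw [CharInduced.ind_one_apply, CoherenceBasic.apply_one_of_mem_zspanOn ha, mul_zero]
  have hXc : ∀ φ ∈ X, Cfsg.conjFun φ ∈ X := fun φ hφ => ⟨PF6.induced_conj hφ.1, fun h => hφ.2 (by
    simpa [CoherenceBasic.conjFun_conjFun] using PF6.induced_conj h)⟩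
  refine PF6.coherent_central_pGroup hp3 hKp hcop hZK hZne
    (fun z hz k hk => Subtype.ext ((hZP _ hz).2 _ hk)) hirr (PF6.extends_irr hirr hXc hτ hτ1) ?_
  intro S₀ hne hsub hc hdeg _
  obtain ⟨χ, hχ⟩ := hne
  have hreal : Cfsg.conjFun χ ≠ χ := by
    intro e
    have hχX := (Set.ext_iff.1 hX χ).1 (hsub hχ)
    obtain ⟨z, -, hzne⟩ := hχX.2
    apply hzne
    have h1 := FourCoherence.eq_one_of_real hodd ⟨χ, hχX.1⟩ (fun x => congrFun e x)
    simp only at h1
    rw [h1]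
  exact PF6.coherent_irr_constant (fun φ hφ => hirr φ (hsub hφ)) ⟨_, hc χ hχ, χ, hχ, hreal⟩ hdeg
    (PF6.iso_mono hsub hτ) (fun a ha => hτ1 a (CoherenceBasic.zspanOn_mono hsub ha))

end Cfsg.Agent.S1532
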