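import Cfsg.Statements.S1536
import Cfsg.Agent.Lib.RealChars
import Cfsg.Agent.Lib.CoprimeAction

set_option autoImplicit false
open Cfsg

namespace Cfsg.Agent.S1536

/-- Let H be a normal subgroup of the finite group M whose order is coprime to its index. For x ∈ M: some non-principal irreducible character of H is unchanged under h ↦ θ(x h x⁻¹) if and only if some non-identity element of H commutes with x. -/
theorem result {M : Type*} [Group M] [Finite M] (H : Subgroup M) [hN : H.Normal] (hHall : Nat.Coprime (Nat.card H) H.index) (x : M) : (∃ θ : H → ℂ, Cfsg.IsIrrCharacter H θ ∧ θ ≠ (fun _ => 1) ∧ (fun h : H => θ ⟨x * h * x⁻¹, hN.conj_mem h h.2 x⟩) = θ) ↔ ∃ h ∈ H, h ≠ 1 ∧ x * h = h * x := by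
  classical
  haveI : Finite (Cfsg.IrrCharacter H) := CharBasicOrth.finite_irrCharacter
  set c : H ≃* H := MulAut.conjNormal x with hc
  have hcapp : ∀ h : H, (⟨x * h * x⁻¹, hN.conj_mem h h.2 x⟩ : H) = c h := fun h =>
    Subtype.ext (MulAut.conjNormal_apply x h).symm
  have key := RealChars.card_fixed_eq (G := H) c (fun χ =>
    CharBasic.isIrrCharacter_comap c.toMonoidHom c.surjective χ.2)
  set A := {χ : Cfsg.IrrCharacter H // ∀ g, (χ : H → ℂ) (c g) = (χ : H → ℂ) g}
  set B := {C : ConjClasses H // ∀ g, ConjClasses.mk g = C → IsConj (c g) g}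
  let a1 : A := ⟨CharBasicDecomp.trivIrr H, fun _ => rfl⟩
  let b1 : B := ⟨ConjClasses.mk 1, fun g hg => by
    rw [isConj_one_left.mp (ConjClasses.mk_eq_mk_iff_isConj.mp hg), map_one]⟩
  have hA : (∃ θ : H → ℂ, Cfsg.IsIrrCharacter H θ ∧ θ ≠ (fun _ => 1) ∧
      (fun h : H => θ ⟨x * h * x⁻¹, hN.conj_mem h h.2 x⟩) = θ) ↔ Nontrivial A := by
    simp only [hcapp]
    constructor
    · rintro ⟨θ, hθ, hne, hfix⟩
      exact ⟨⟨⟨θ, hθ⟩, fun g => congrFun hfix g⟩, a1,
        fun e => hne (congrArg (fun z : A => (z.1 : H → ℂ)) e)⟩
    · intro hnt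
      obtain ⟨θ, hθ⟩ := exists_ne a1
      exact ⟨θ.1, θ.1.2, fun e => hθ (Subtype.ext (Subtype.ext e)), funext θ.2⟩
  have hB : (∃ h ∈ H, h ≠ 1 ∧ x * h = h * x) ↔ Nontrivial B := by
    constructor
    · rintro ⟨h, hh, h1, hcomm⟩
      have hch : c ⟨h, hh⟩ = ⟨h, hh⟩ := by
        rw [← hcapp]; apply Subtype.ext
        show x * h * x⁻¹ = h
        rw [hcomm, mul_inv_cancel_right]
      refine ⟨⟨ConjClasses.mk ⟨h, hh⟩, fun g hg => ?_⟩, b1, fun e => h1 ?_⟩
      · have h2 := ConjClasses.mk_eq_mk_iff_isConj.mp hg
        have h3 := c.toMonoidHom.map_isConj h2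
        simp only [MulEquiv.coe_toMonoidHom, hch] at h3
        exact h3.trans h2.symm
      · have := ConjClasses.mk_eq_mk_iff_isConj.mp (congrArg (fun z : B => z.1) e)
        exact congrArg Subtype.val (isConj_one_left.mp this)
    · intro hnt
      obtain ⟨⟨C, hC⟩, hne⟩ := exists_ne b1
      obtain ⟨h, rfl⟩ := ConjClasses.mk_surjective C
      have hh1 : (h : M) ≠ 1 := fun e => hne
        (Subtype.ext (congrArg ConjClasses.mk (Subtype.ext e)))
      -- reduce to an element of order prime to the order of `H`
      set n := H.index with hn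
      have hxn : x ^ n ∈ H := Subgroup.pow_index_mem H x
      by_cases hx1 : x ^ n = 1
      · -- coprime action on the class
        have hcop : (Nat.card (Subgroup.zpowers (ConjAct.toConjAct x))).Coprime
            (Nat.card (H.map (ConjAct.toConjAct (G := M)).toMonoidHom)) := by
          rw [Nat.card_zpowers, Subgroup.card_map_of_injective
            (ConjAct.toConjAct (G := M)).injective]
          refine Nat.Coprime.coprime_dvd_left ?_ hHall.symm
          rw [show orderOf (ConjAct.toConjAct x) = orderOf x from
            MulEquiv.orderOf_eq (ConjAct.toConjAct (G := M)) x]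
          exact orderOf_dvd_of_pow_eq_one hx1
        haveI : (H.map (ConjAct.toConjAct (G := M)).toMonoidHom).Normal :=
          hN.map _ (ConjAct.toConjAct (G := M)).surjective
        have hstep : IsConj (c h) h := hC h rfl
        haveI : Finite (ConjAct M) := Finite.of_equiv _ (ConjAct.toConjAct (G := M)).toEquiv
        have hsol : Group.IsSolvable (Subgroup.zpowers (ConjAct.toConjAct x)) :=
          Group.isSolvable_of_comm (fun a b => IsCyclic.commutative.is_comm.comm a b)
        obtain ⟨k, hk, hfix⟩ := CoprimeAction.exists_fixed_point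
          (G := ConjAct M) (Ω := M) (A := Subgroup.zpowers (ConjAct.toConjAct x))
          (K := H.map (ConjAct.toConjAct (G := M)).toMonoidHom)
          (by rw [Subgroup.normalizer_eq_top]; exact le_top) hcop
          (Or.inl hsol) (h : M) (by
            intro a ha
            obtain ⟨i, rfl⟩ := ha
            have hall : ∀ j : ℤ, IsConj ((ConjAct.toConjAct x) ^ j • (h : M) : M) (h : M) ∧
                ∃ u : H, (ConjAct.toConjAct x) ^ j • (h : M) = ((u * h * u⁻¹ : H) : M) := by
              intro j
              induction j using Int.induction_on with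
              | zero => exact ⟨by rw [zpow_zero, one_smul], 1, by simp⟩
              | succ j ih =>
                obtain ⟨-, u, hu⟩ := ih
                obtain ⟨w, hw⟩ := isConj_iff.mp hstep.symm
                have e : (ConjAct.toConjAct x) ^ ((j : ℤ) + 1) • (h : M) =
                    ((c u * w * h * (c u * w)⁻¹ : H) : M) := by
                  rw [add_comm, zpow_add, zpow_one, mul_smul, hu, ConjAct.toConjAct_smul]
                  rw [show c u * w * h * (c u * w)⁻¹ = c u * (w * h * w⁻¹) * (c u)⁻¹ by group, hw]
                  simp only [hc, Subgroup.coe_mul, Subgroup.coe_inv, MulAut.conjNormal_apply]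
                  group
                refine ⟨?_, _, e⟩
                rw [e, isConj_comm, isConj_iff]
                exact ⟨((c u * w : H) : M), by simp⟩
              | pred j ih =>
                obtain ⟨-, u, hu⟩ := ih
                obtain ⟨w, hw⟩ := isConj_iff.mp hstep
                have e : (ConjAct.toConjAct x) ^ (-(j : ℤ) - 1) • (h : M) =
                    ((c.symm (u * w) * h * (c.symm (u * w))⁻¹ : H) : M) := by
                  rw [sub_eq_neg_add, zpow_add, mul_smul, hu, zpow_neg, zpow_one, inv_smul_eq_iff,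
                    ConjAct.toConjAct_smul, ← MulAut.conjNormal_apply, ← hc, map_mul, map_mul,
                    map_inv, MulEquiv.apply_symm_apply]
                  rw [show u * w * c h * (u * w)⁻¹ = u * (w * c h * w⁻¹) * u⁻¹ by group, hw]
                refine ⟨?_, _, e⟩
                rw [e, isConj_comm, isConj_iff]
                exact ⟨((c.symm (u * w) : H) : M), by simp⟩
            obtain ⟨-, u, hu⟩ := hall i
            refine ⟨ConjAct.toConjAct (u : M), Subgroup.mem_map_of_mem _ u.2, ?_⟩
            show _ = (ConjAct.toConjAct x) ^ i • (h : M)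
            rw [hu, ConjAct.toConjAct_smul]
            simp)
        obtain ⟨u, hu, rfl⟩ := hk
        have h2 := hfix _ (Subgroup.mem_zpowers _)
        simp only [MulEquiv.coe_toMonoidHom, ConjAct.toConjAct_smul] at h2
        refine ⟨u * h * u⁻¹, hN.conj_mem _ h.2 u, by simpa [conj_eq_one_iff] using hh1, ?_⟩
        exact mul_inv_eq_iff_eq_mul.mp h2
      · exact ⟨x ^ n, hxn, hx1, ((Commute.refl x).pow_right n).eq⟩
  rw [hA, hB, ← Finite.one_lt_card_iff_nontrivial, ← Finite.one_lt_card_iff_nontrivial, key]

end Cfsg.Agent.S1536
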