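import Cfsg.Statements.S1538
import Cfsg.Agent.Lib.PF8Sets
import Cfsg.Agent.S1391

set_option autoImplicit false
open Cfsg

namespace Cfsg.Agent.S1538

/-- Let G be a minimal simple group of odd order and M a maximal subgroup of Type II. Then each of A₀(M), A(M), A₁(M) is a TI-subset of G whose set normaliser is M. -/
theorem result {G : Type*} [Group G] [Finite G] (hG : Cfsg.IsMinSimpleOddOrder G) (M : Subgroup G) (hM : IsCoatom M) (hII : Cfsg.IsOfTypeII M) : (Cfsg.IsTISubset (Cfsg.typeA0 M) ∧ Subgroup.normalizer (Cfsg.typeA0 M) = M) ∧ (Cfsg.IsTISubset (Cfsg.typeA M) ∧ Subgroup.normalizer (Cfsg.typeA M) = M) ∧ (Cfsg.IsTISubset (Cfsg.typeA1 M) ∧ Subgroup.normalizer (Cfsg.typeA1 M) = M) := by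
  have h1A : Cfsg.typeA1 M ⊆ Cfsg.typeA M := PF8Sets.typeA1_subset_typeA hG hM
  obtain ⟨hfus, hD, -⟩ := S1391.result hG M hM (Cfsg.typeA0 M) (Or.inr rfl)
  obtain ⟨W₁, U, W₂, hd, -, -, hTI, -⟩ := id hII
  have hFbot : Cfsg.fittingHallOf M ≠ ⊥ := fun he => hd.H_not_cyclic (by rw [he]; infer_instance)
  obtain ⟨y, hy, hy1⟩ :=
    (Cfsg.fittingHallOf M).bot_or_exists_ne_one.resolve_left hFbot
  have hFne : Cfsg.fittingOf M ≠ ⊥ := fun he =>
    hy1 (Subgroup.mem_bot.1 (he ▸ FittingHallBasic.fittingHallOf_le_fittingOf M hy))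
  have hNF : Subgroup.normalizer (Cfsg.fittingOf M : Set G) ≤ M := by
    have hle : M ≤ Subgroup.normalizer (Cfsg.fittingOf M : Set G) := by
      intro m hm
      refine Subgroup.mem_normalizer_iff_map_conj_eq.2 ?_
      have := BGTypeConj.fittingOf_map (MulAut.conj m) M
      rw [PF8Sets.map_conj_of_mem hm] at this
      exact this.symm
    refine ((hM.le_iff.1 hle).resolve_left fun h => ?_).le
    exact BGTransitivity.normalizer_ne_top hG hFne
      (fun h' => hM.1 (top_le_iff.1 (h' ▸ FittingHallBasic.fittingOf_le M))) h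
  -- no element of `A₀(M)` is supported outside
  have hC : ∀ x ∈ Cfsg.typeA0 M, Subgroup.centralizer ({x} : Set G) ≤ M := by
    intro x hx
    by_contra hc
    apply hc
    obtain ⟨⟨hx1, hxne⟩, -⟩ := hD x hx hc
    rw [SetLike.mem_coe, PF8Sets.typeCore_eq_of_typeII hII] at hx1
    have hxF : x ∈ Cfsg.fittingOf M := FittingHallBasic.fittingHallOf_le_fittingOf M hx1
    intro g hg
    refine hNF ?_
    by_contra hgN
    have hgx : g * x * g⁻¹ = x := by
      rw [Subgroup.mem_centralizer_singleton_iff.1 hg]; group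
    exact hxne (hTI g hgN x hxF (by rw [hgx]; exact hxF))
  have key : ∀ A : Set G, A.Nonempty → A ⊆ Cfsg.typeA0 M →
      (∀ m ∈ M, ∀ a ∈ A, m * a * m⁻¹ ∈ A) →
      Cfsg.IsTISubset A ∧ Subgroup.normalizer A = M := by
    intro A hne hA hinv
    have hN := PF8Sets.normalizer_eq hG hM hne (fun a ha => PF8Sets.typeA0_subset_self (hA ha)) hinv
    refine ⟨fun g hg x hx hgx => ?_, hN⟩
    exfalso
    rw [hN] at hg
    obtain ⟨m, hm, he⟩ := hfus x (hA hx) g (hA hgx)
    have hc : m⁻¹ * g ∈ Subgroup.centralizer ({x} : Set G) := by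
      rw [Subgroup.mem_centralizer_singleton_iff]
      have h2 := congrArg (fun t => m⁻¹ * t * g) he
      simpa [mul_assoc] using h2.symm
    exact hg (by simpa using M.mul_mem hm (hC x (hA hx) hc))
  obtain ⟨a, ha⟩ := PF8Sets.typeA1_nonempty hG hM hFbot
  exact ⟨key _ ⟨a, Or.inl (h1A ha)⟩ subset_rfl fun m hm b hb => PF8Sets.conj_mem_typeA0 hm hb,
    key _ ⟨a, h1A ha⟩ (fun b hb => Or.inl hb) fun m hm b hb => PF8Sets.conj_mem_typeA hm hb,
    key _ ⟨a, ha⟩ (fun b hb => Or.inl (h1A hb)) fun m hm b hb => PF8Sets.conj_mem_typeA1 hm hb⟩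

end Cfsg.Agent.S1538
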