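import Cfsg.Statements.S1551
import Cfsg.Agent.Lib.GolaySextetKer
-- import your own Cfsg.Agent.* helpers here

set_option autoImplicit false
open scoped Pointwise
open Cfsg

namespace Cfsg.Agent.S1551

open Cfsg.Agent.GolaySextetKer Cfsg.Agent.GolayOrbit
open scoped Pointwise

/-- the action on the members of a family -/
def action (S : Finset (Finset Cfsg.GolayPt)) :
    ↥(MulAction.stabilizer ↥Cfsg.M24 S) →* Equiv.Perm ↥S where
  toFun g :=
    { toFun := fun t => ⟨(g : ↥Cfsg.M24) • (t : Finset Cfsg.GolayPt), by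
        have h := Finset.smul_mem_smul_finset (a := (g : ↥Cfsg.M24)) t.2
        rwa [show (g : ↥Cfsg.M24) • S = S from g.2] at h⟩
      invFun := fun t => ⟨(g : ↥Cfsg.M24)⁻¹ • (t : Finset Cfsg.GolayPt), by
        have h := Finset.smul_mem_smul_finset (a := (g : ↥Cfsg.M24)⁻¹) t.2
        rwa [show (g : ↥Cfsg.M24)⁻¹ • S = S from inv_smul_eq_iff.2 g.2.symm] at h⟩
      left_inv := fun t => Subtype.ext (inv_smul_smul _ _)
      right_inv := fun t => Subtype.ext (smul_inv_smul _ _) }
  map_one' := Equiv.ext fun t => Subtype.ext (one_smul _ _)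
  map_mul' a b := Equiv.ext fun t => Subtype.ext (mul_smul (a : ↥Cfsg.M24) (b : ↥Cfsg.M24) _)

theorem action_eq_one {S : Finset (Finset Cfsg.GolayPt)}
    (g : ↥(MulAction.stabilizer ↥Cfsg.M24 S)) : action S g = 1 ↔ Fixes S g :=
  ⟨fun h t ht => congrArg Subtype.val (Equiv.congr_fun h ⟨t, ht⟩),
    fun h => Equiv.ext fun t => Subtype.ext (h t t.2)⟩

/-- Structure of a sextet stabiliser: it induces every permutation of the six tetrads, the subgroup fixing each tetrad setwise has order 192, and there is a normal subgroup of order 64 consisting of elements squaring to the identity. -/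
theorem result (S : Finset (Finset Cfsg.GolayPt)) (hS : S ∈ Cfsg.sextets) : (∀ e : Equiv.Perm ↥S, ∃ g ∈ MulAction.stabilizer Cfsg.M24 S, ∀ t : ↥S, (g : Equiv.Perm Cfsg.GolayPt) • (t : Finset Cfsg.GolayPt) = ((e t : ↥S) : Finset Cfsg.GolayPt)) ∧ Nat.card {g : ↥(MulAction.stabilizer Cfsg.M24 S) // ∀ t ∈ S, ((g : Cfsg.M24) : Equiv.Perm Cfsg.GolayPt) • t = t} = 192 ∧ ∃ N : Subgroup ↥(MulAction.stabilizer Cfsg.M24 S), N.Normal ∧ Nat.card N = 64 ∧ ∀ x ∈ N, x * x = 1 := by
  obtain ⟨k, hk⟩ : ∃ k : ↥Cfsg.M24, k • fam sx = S := GolayOrbitThms.exists_smul_sextet hS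
  set H := MulAction.stabilizer ↥Cfsg.M24 S with hH
  let f := action S
  have hker : Nat.card f.ker = 192 := by
    rw [← card_fixes_std, ← card_transport (fun k h => fixes_conj k h) k (fam sx), hk]
    exact Nat.card_congr
      { toFun := fun g => ⟨((g : ↥H) : ↥Cfsg.M24), (action_eq_one g.1).1 g.2⟩
        invFun := fun g => ⟨⟨g.1, fixes_smul g.2⟩, (action_eq_one (⟨g.1, fixes_smul g.2⟩ : ↥H)).2 g.2⟩
        left_inv := fun _ => rfl
        right_inv := fun _ => rfl }
  have hH' : Nat.card ↥H = 138240 := by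
    refine GolayOrbitThms.card_stab_trans GolayOrbitThms.sextets_inv hS (fun X hX => ?_)
      GolayOrbitThms.ncard_sextets (by norm_num) (by norm_num)
    obtain ⟨b, hb⟩ := GolayOrbitThms.exists_smul_sextet hX
    refine ⟨b * k⁻¹, ?_⟩
    rw [mul_smul, ← hk, inv_smul_smul]
    exact hb
  have hsur : Function.Surjective f := by
    rw [← MonoidHom.range_eq_top]
    refine Subgroup.eq_top_of_card_eq _ ?_
    have h := Subgroup.card_eq_card_quotient_mul_card_subgroup f.ker
    rw [Nat.card_congr (QuotientGroup.quotientKerEquivRange f).toEquiv, hker, hH'] at h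
    rw [Nat.card_perm, Nat.card_eq_fintype_card (α := ↥S), Fintype.card_coe, hS.1,
      show Nat.factorial 6 = 720 from rfl]
    omega
  refine ⟨fun e => ?_, ?_, (fourSub S).subgroupOf H, ?_, ?_, ?_⟩
  · obtain ⟨g, hg⟩ := hsur e
    exact ⟨(g : ↥Cfsg.M24), g.2, fun t => congrArg Subtype.val (Equiv.congr_fun hg t)⟩
  · rw [← card_fixes_std, ← card_transport (fun k h => fixes_conj k h) k (fam sx), hk]
    exact Nat.card_congr
      { toFun := fun g => ⟨(g.1 : ↥Cfsg.M24), g.2⟩
        invFun := fun g => ⟨⟨g.1, fixes_smul g.2⟩, g.2⟩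
        left_inv := fun _ => rfl
        right_inv := fun _ => rfl }
  · refine ⟨fun x hx y => ?_⟩
    rw [Subgroup.mem_subgroupOf] at hx ⊢
    have h := four_conj (y : ↥Cfsg.M24) hx
    rwa [show (y : ↥Cfsg.M24) • S = S from y.2] at h
  · rw [Nat.card_congr (Subgroup.subgroupOfEquivOfLe
      (show fourSub S ≤ H from fun g hg => fixes_smul hg.1)).toEquiv, ← card_four_std,
      ← card_transport (fun k h => four_conj k h) k (fam sx), hk]
    rfl
  · intro x hx
    rw [Subgroup.mem_subgroupOf] at hx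
    have hx' : Four S (x : ↥Cfsg.M24) := hx
    have h := four_conj k⁻¹ hx'
    rw [← hk, inv_smul_smul, inv_inv] at h
    have h2 := sq_four_std h
    refine Subtype.ext ?_
    rw [Subgroup.coe_mul, Subgroup.coe_one]
    calc (x : ↥Cfsg.M24) * x = k * ((k⁻¹ * x * k) * (k⁻¹ * x * k)) * k⁻¹ := by group
      _ = 1 := by rw [h2, mul_one, mul_inv_cancel]

end Cfsg.Agent.S1551
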