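import Cfsg.Statements.S1552
import Cfsg.Agent.Lib.GolayCoatom
-- import your own Cfsg.Agent.* helpers here

set_option autoImplicit false
open scoped Pointwise
open Cfsg

namespace Cfsg.Agent.S1552

/-- A sextet stabiliser has four orbits on the 1771 sextets, of sizes 1, 90, 240, 1440; and the stabiliser is a maximal proper subgroup. -/
theorem result (S : Finset (Finset Cfsg.GolayPt)) (hS : S ∈ Cfsg.sextets) : ∃ X₁ ∈ Cfsg.sextets, ∃ X₂ ∈ Cfsg.sextets, ∃ X₃ ∈ Cfsg.sextets, (MulAction.orbit ↥(MulAction.stabilizer Cfsg.M24 S) X₁).ncard = 90 ∧ (MulAction.orbit ↥(MulAction.stabilizer Cfsg.M24 S) X₂).ncard = 240 ∧ (MulAction.orbit ↥(MulAction.stabilizer Cfsg.M24 S) X₃).ncard = 1440 ∧ Cfsg.sextets = {S} ∪ MulAction.orbit ↥(MulAction.stabilizer Cfsg.M24 S) X₁ ∪ MulAction.orbit ↥(MulAction.stabilizer Cfsg.M24 S) X₂ ∪ MulAction.orbit ↥(MulAction.stabilizer Cfsg.M24 S) X₃ ∧ IsCoatom (MulAction.stabilizer Cfsg.M24 S) := by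
  have hd := GolayOrbitThms.sextet_sextets hS
  have hd' := hd
  obtain ⟨L, hL, hsz, hU⟩ := hd
  rcases L with _ | ⟨x, _ | ⟨y, _ | ⟨z, _ | ⟨u, _ | ⟨w, L⟩⟩⟩⟩⟩ <;> simp at hsz
  obtain ⟨h0, h1, h2, h3⟩ := hsz
  have hx : MulAction.orbit ↥(MulAction.stabilizer Cfsg.M24 S) x = {S} := by
    obtain ⟨r, hr, hS'⟩ := (hU S).1 hS
    have := GolayCoatom.ncard_orbit_self hS'
    simp only [List.mem_cons, List.not_mem_nil, or_false] at hr
    rcases hr with rfl | rfl | rfl | rfl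
    · exact GolayCoatom.eq_singleton_of_one (Set.ncard_eq_one.2 h0) hS'
    all_goals omega
  refine ⟨y, hL y (by simp), z, hL z (by simp), u, hL u (by simp), h1, h2, h3, ?_, ?_⟩
  · ext X; simp [hU X, hx, or_assoc]
  · refine GolayCoatom.isCoatom_stab GolayOrbitThms.sextets_inv hS (fun X hX => ?_)
      GolayOrbitThms.ncard_sextets hd' (by decide) (by norm_num) (by decide +kernel)
    obtain ⟨a, ha⟩ := GolayOrbitThms.exists_smul_sextet hS
    obtain ⟨b, hb⟩ := GolayOrbitThms.exists_smul_sextet hX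
    exact ⟨b * a⁻¹, by rw [mul_smul, ← ha, inv_smul_smul, hb]⟩

end Cfsg.Agent.S1552
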