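import Cfsg.Statements.S1553
import Cfsg.Agent.Lib.GolayHexad
-- import your own Cfsg.Agent.* helpers here

set_option autoImplicit false
open scoped Pointwise
open Cfsg

namespace Cfsg.Agent.S1553

open Cfsg.Agent.GolaySix Cfsg.Agent.GolayHexad Cfsg.Agent.GolayBasic Cfsg.Agent.GolayOrbitThms Cfsg.Agent.GolayCount
open scoped Pointwise

/-- The stabiliser of an octad in the group of the length-24 code induces on the octad exactly its alternating group. -/
theorem result (o : Finset Cfsg.GolayPt) (ho : o ∈ Cfsg.octads) : {e : Equiv.Perm ↥o | ∃ g : Equiv.Perm Cfsg.GolayPt, g ∈ Cfsg.M24 ∧ ∃ h : (∀ x, g x ∈ o ↔ x ∈ o), g.subtypePerm h = e} = (alternatingGroup ↥o : Set (Equiv.Perm ↥o)) := by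
  rw [← range_octad ho]
  ext e
  simp only [Set.mem_ofPred_eq, SetLike.mem_coe, MonoidHom.mem_range]
  constructor
  · rintro ⟨g, hg, h, rfl⟩
    refine ⟨⟨⟨g, hg⟩, ?_⟩, ?_⟩
    · refine Finset.eq_of_subset_of_card_le ?_ (by
        rw [show (⟨g, hg⟩ : ↥Cfsg.M24) • o = g • o from rfl, Finset.card_smul_finset])
      intro p hp
      obtain ⟨q, hq, rfl⟩ := Finset.mem_smul_finset.1 hp
      exact (h q).2 hq
    · exact Equiv.ext fun p => rfl
  · rintro ⟨g, rfl⟩
    exact ⟨((g : ↥Cfsg.M24) : Equiv.Perm Cfsg.GolayPt), (g : ↥Cfsg.M24).2,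
      mem_iff_of_smul g.2, rfl⟩

end Cfsg.Agent.S1553
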