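import Cfsg.Statements.S1554
import Cfsg.Agent.Lib.GolayHexad
-- import your own Cfsg.Agent.* helpers here

set_option autoImplicit false
open scoped Pointwise
open Cfsg

namespace Cfsg.Agent.S1554

open Cfsg.Agent.GolaySix Cfsg.Agent.GolayHexad Cfsg.Agent.GolayBasic Cfsg.Agent.GolayOrbitThms Cfsg.Agent.GolayCount
open scoped Pointwise

/-- An octad stabiliser is a split extension: the joint stabiliser of the octad and a point outside it is a complement to the pointwise stabiliser of the octad, and is isomorphic to the alternating group of degree 8. -/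
theorem result (o : Finset Cfsg.GolayPt) (ho : o ∈ Cfsg.octads) (p : Cfsg.GolayPt) (hp : p ∉ o) : (Cfsg.M24 ⊓ fixingSubgroup (Equiv.Perm Cfsg.GolayPt) (o : Set Cfsg.GolayPt)) ⊓ (Cfsg.M24 ⊓ MulAction.stabilizer (Equiv.Perm Cfsg.GolayPt) o ⊓ MulAction.stabilizer (Equiv.Perm Cfsg.GolayPt) p) = ⊥ ∧ (Cfsg.M24 ⊓ fixingSubgroup (Equiv.Perm Cfsg.GolayPt) (o : Set Cfsg.GolayPt)) ⊔ (Cfsg.M24 ⊓ MulAction.stabilizer (Equiv.Perm Cfsg.GolayPt) o ⊓ MulAction.stabilizer (Equiv.Perm Cfsg.GolayPt) p) = (Cfsg.M24 ⊓ MulAction.stabilizer (Equiv.Perm Cfsg.GolayPt) o) ∧ Nonempty (↥(Cfsg.M24 ⊓ MulAction.stabilizer (Equiv.Perm Cfsg.GolayPt) o ⊓ MulAction.stabilizer (Equiv.Perm Cfsg.GolayPt) p) ≃* alternatingGroup (Fin 8)) := by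
  set N := Cfsg.M24 ⊓ fixingSubgroup (Equiv.Perm Cfsg.GolayPt) (o : Set Cfsg.GolayPt) with hN
  set K := Cfsg.M24 ⊓ MulAction.stabilizer (Equiv.Perm Cfsg.GolayPt) o ⊓
    MulAction.stabilizer (Equiv.Perm Cfsg.GolayPt) p with hK
  have hNmem : ∀ g, g ∈ N ↔ g ∈ Cfsg.M24 ∧ ∀ q ∈ o, g q = q := fun g => by
    rw [hN, Subgroup.mem_inf, mem_fixingSubgroup_iff]
    simp only [Finset.mem_coe]
    rfl
  have hKmem : ∀ g, g ∈ K ↔ g ∈ Cfsg.M24 ∧ g • o = o ∧ g p = p := fun g => by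
    rw [hK, Subgroup.mem_inf, Subgroup.mem_inf, MulAction.mem_stabilizer_iff,
      MulAction.mem_stabilizer_iff, and_assoc]
    rfl
  have hdis : N ⊓ K = ⊥ := by
    rw [Subgroup.eq_bot_iff_forall]
    intro g hg
    exact fix_regular ho ((hNmem g).1 hg.1).1 ((hNmem g).1 hg.1).2 hp ((hKmem g).1 hg.2).2.2
  have hdec : ∀ g ∈ Cfsg.M24, g • o = o → ∃ n ∈ N, n⁻¹ * g ∈ K := by
    intro g hg hgo
    have hq : g p ∉ o := fun h => hp ((mem_iff_of_smul hgo p).1 h)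
    obtain ⟨n, hn, hno, hnp⟩ := fix_transitive ho hp hq
    refine ⟨n, (hNmem n).2 ⟨hn, hno⟩, (hKmem _).2 ⟨mul_mem (inv_mem hn) hg, ?_, ?_⟩⟩
    · rw [mul_smul, hgo, inv_smul_eq_iff, smul_of_fix hno]
    · rw [Equiv.Perm.mul_apply, Equiv.Perm.inv_eq_iff_eq, hnp]
  refine ⟨hdis, ?_, ?_⟩
  · refine le_antisymm (sup_le (fun g hg => ?_) inf_le_left) fun g hg => ?_
    · exact ⟨((hNmem g).1 hg).1, MulAction.mem_stabilizer_iff.2 (smul_of_fix ((hNmem g).1 hg).2)⟩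
    · obtain ⟨n, hn, hk⟩ := hdec g hg.1 hg.2
      rw [show g = n * (n⁻¹ * g) by group]
      exact mul_mem (Subgroup.mem_sup_left hn) (Subgroup.mem_sup_right hk)
  · set f := restrict (MulAction.stabilizer ↥Cfsg.M24 o) o fun g hg => hg with hf
    let φ : ↥K →* ↥(alternatingGroup ↥o) := MonoidHom.mk'
      (fun g => ⟨f ⟨⟨g, ((hKmem g).1 g.2).1⟩, ((hKmem g).1 g.2).2.1⟩, by
        rw [← range_octad ho]; exact ⟨_, rfl⟩⟩)
      (fun a b => Subtype.ext (Equiv.ext fun q => rfl))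
    have hinj : Function.Injective φ := by
      rw [injective_iff_map_eq_one]
      intro g hg
      have hfix := (restrict_eq_one _ _).1 (congrArg Subtype.val hg)
      exact Subtype.ext (fix_regular ho ((hKmem g).1 g.2).1 hfix hp ((hKmem g).1 g.2).2.2)
    have hsur : Function.Surjective φ := by
      rintro ⟨e, he⟩
      rw [← range_octad ho] at he
      obtain ⟨⟨⟨g, hg⟩, hgo⟩, rfl⟩ := he
      obtain ⟨n, hn, hk⟩ := hdec g hg hgo
      refine ⟨⟨n⁻¹ * g, hk⟩, Subtype.ext (Equiv.ext fun q => Subtype.ext ?_)⟩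
      show n⁻¹ (g q) = g q
      rw [Equiv.Perm.inv_eq_iff_eq, ((hNmem n).1 hn).2 _ ((mem_iff_of_smul hgo _).2 q.2)]
    exact ⟨(MulEquiv.ofBijective φ ⟨hinj, hsur⟩).trans
      (Equiv.altCongrHom (Fintype.equivFinOfCardEq (by rw [Fintype.card_coe, ho.2])))⟩

end Cfsg.Agent.S1554
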