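import Cfsg.Statements.S1555
import Cfsg.Agent.Lib.GolayCount
-- import your own Cfsg.Agent.* helpers here

set_option autoImplicit false
open scoped Pointwise
open Cfsg

namespace Cfsg.Agent.S1555

open scoped Pointwise
open Cfsg.Agent.GolayBasic Cfsg.Agent.GolayOrbitThms Cfsg.Agent.GolayCount Cfsg.Agent.GolaySteiner

/-- A symmetry carrying the standard octad to `o` and five given points to a listing of it. -/
theorem exists_frame {o : Finset GolayPt} (ho : o ∈ octads) (x : Fin 5 → GolayPt)
    (hx : Function.Injective x) (hxo : ∀ i, x i ∈ o) :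
    ∃ g : ↥M24, g • mset 13062145 = o ∧ g • pt 23 = x 0 ∧ g • pt 0 = x 1 ∧ g • pt 12 = x 2 ∧
      g • pt 14 = x 3 := by
  obtain ⟨g, hg, e0, e1, e2, e3, e4⟩ := GolayM24.exists_map_five x hx
  refine ⟨⟨g, hg⟩, ?_, e0, e1, e2, e3⟩
  refine octad_eq_of_five (GolayPerm.smul_mem_octads hg GolayM24.octad_five_mem) ho
    (s := Finset.univ.image x) (by rw [Finset.card_image_of_injective _ hx]; simp) ?_ ?_
  · intro p hp
    obtain ⟨i, -, rfl⟩ := Finset.mem_image.1 hp
    fin_cases i
    · exact Finset.mem_smul_finset.2 ⟨pt 23, by decide +kernel, e0⟩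
    · exact Finset.mem_smul_finset.2 ⟨pt 0, by decide +kernel, e1⟩
    · exact Finset.mem_smul_finset.2 ⟨pt 12, by decide +kernel, e2⟩
    · exact Finset.mem_smul_finset.2 ⟨pt 14, by decide +kernel, e3⟩
    · exact Finset.mem_smul_finset.2 ⟨pt 16, by decide +kernel, e4⟩
  · intro p hp
    obtain ⟨i, -, rfl⟩ := Finset.mem_image.1 hp
    exact hxo i

/-- count on the standard configuration -/
theorem count_sub {o : Finset GolayPt} (g : ↥M24) (hgo : g • mset 13062145 = o) (m c : ℕ)
    (hm : m < 2 ^ 24)
    (hc : ((ofWeight 8).filter fun x => (13062145 &&& enc x) == m).length = c) :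
    {o' : Finset GolayPt | o' ∈ octads ∧ o ∩ o' = g • mset m}.ncard = c := by
  subst hgo
  rw [ncard_smul octads_inv g (Q := fun o' => mset 13062145 ∩ o' = mset m) (fun o' => by
      rw [← Finset.smul_finset_inter, (MulAction.injective g).eq_iff]),
    ncard_octads_filter _ (fun x => (13062145 &&& x) == m) (fun x _ => by
      rw [beq_iff_eq, ← mset_and]
      exact ⟨fun h => by rw [h], fun h =>
        mset_inj (lt_of_le_of_lt Nat.and_le_left (by norm_num)) hm h⟩), hc]


/-- Bottom row of the Leech triangle: an octad is met in a prescribed pair of its points by exactly 16 octads and in a prescribed 4-subset by exactly 4 octads. -/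
theorem result (o : Finset Cfsg.GolayPt) (ho : o ∈ Cfsg.octads) (s : Finset Cfsg.GolayPt) (hs : s ⊆ o) : (s.card = 2 → {o' : Finset Cfsg.GolayPt | o' ∈ Cfsg.octads ∧ o ∩ o' = s}.ncard = 16) ∧ (s.card = 4 → {o' : Finset Cfsg.GolayPt | o' ∈ Cfsg.octads ∧ o ∩ o' = s}.ncard = 4) := by
  classical
  have frame : 2 ≤ s.card → s.card ≤ 5 → ∃ x : Fin 5 → GolayPt, Function.Injective x ∧
      (∀ i, x i ∈ o) ∧ ∀ i : Fin 5, (i : ℕ) < s.card → x i ∈ s := by
    intro _ h5
    have hl : (s.toList ++ (o \ s).toList).Nodup := by
      refine List.nodup_append.2 ⟨Finset.nodup_toList _, Finset.nodup_toList _, ?_⟩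
      intro a ha b hb e
      subst e
      exact (Finset.mem_sdiff.1 (Finset.mem_toList.1 hb)).2 (Finset.mem_toList.1 ha)
    have hlen : (s.toList ++ (o \ s).toList).length = 8 := by
      rw [List.length_append, Finset.length_toList, Finset.length_toList,
        Finset.card_sdiff_of_subset hs, ho.2]
      have := Finset.card_le_card hs
      rw [ho.2] at this
      omega
    refine ⟨fun i => (s.toList ++ (o \ s).toList)[(i : ℕ)]'(by omega), ?_, ?_, ?_⟩
    · intro i j h
      exact Fin.ext ((List.Nodup.getElem_inj_iff hl).1 h)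
    · intro i
      have := List.getElem_mem (l := s.toList ++ (o \ s).toList) (n := (i : ℕ)) (by omega)
      rcases List.mem_append.1 this with h | h
      · exact hs (Finset.mem_toList.1 h)
      · exact (Finset.mem_sdiff.1 (Finset.mem_toList.1 h)).1
    · intro i hi
      show (s.toList ++ (o \ s).toList)[(i : ℕ)] ∈ s
      rw [List.getElem_append_left (by rw [Finset.length_toList]; exact hi)]
      exact Finset.mem_toList.1 (List.getElem_mem _)
  refine ⟨fun h2 => ?_, fun h4 => ?_⟩
  · obtain ⟨x, hx, hxo, hxs⟩ := frame (by omega) (by omega)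
    obtain ⟨g, hgo, g0, g1, -, -⟩ := exists_frame ho x hx hxo
    have hsub : g • mset 8388609 ⊆ s := by
      rw [show mset 8388609 = {pt 23, pt 0} by decide +kernel, Finset.smul_finset_insert,
        Finset.smul_finset_singleton, g0, g1]
      simp [Finset.insert_subset_iff, hxs 0 (by rw [h2]; decide), hxs 1 (by rw [h2]; decide)]
    have e : s = g • mset 8388609 := (Finset.eq_of_subset_of_card_le hsub (by
      rw [Finset.card_smul_finset, card_mset, h2]; decide +kernel)).symm
    subst e
    exact count_sub g hgo 8388609 16 (by norm_num) (by decide +kernel)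
  · obtain ⟨x, hx, hxo, hxs⟩ := frame (by omega) (by omega)
    obtain ⟨g, hgo, g0, g1, g2, g3⟩ := exists_frame ho x hx hxo
    have hsub : g • mset 8409089 ⊆ s := by
      rw [show mset 8409089 = {pt 23, pt 0, pt 12, pt 14} by decide +kernel,
        Finset.smul_finset_insert, Finset.smul_finset_insert, Finset.smul_finset_insert,
        Finset.smul_finset_singleton, g0, g1, g2, g3]
      simp [Finset.insert_subset_iff, hxs 0 (by rw [h4]; decide), hxs 1 (by rw [h4]; decide),
        hxs 2 (by rw [h4]; decide), hxs 3 (by rw [h4]; decide)]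
    have e : s = g • mset 8409089 := (Finset.eq_of_subset_of_card_le hsub (by
      rw [Finset.card_smul_finset, card_mset, h4]; decide +kernel)).symm
    subst e
    exact count_sub g hgo 8409089 4 (by norm_num) (by decide +kernel)

end Cfsg.Agent.S1555
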