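import Cfsg.Statements.S1558
import Cfsg.Agent.Lib.GolayTrioStab
-- import your own Cfsg.Agent.* helpers here

set_option autoImplicit false
open scoped Pointwise
open Cfsg

namespace Cfsg.Agent.S1558

attribute [local irreducible] GolayTrioStab.trio0 GolayTrioStab.both

/-- Structure of a trio stabiliser: every permutation of the three octads is induced, and there is a normal subgroup of order 64 of elements squaring to the identity whose quotient is isomorphic to the product of GL(3, 2) with the symmetric group of degree 3. -/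
theorem result (T : Finset (Finset Cfsg.GolayPt)) (hT : T ∈ Cfsg.trios) : (∀ e : Equiv.Perm ↥T, ∃ g ∈ MulAction.stabilizer Cfsg.M24 T, ∀ o : ↥T, (g : Equiv.Perm Cfsg.GolayPt) • (o : Finset Cfsg.GolayPt) = ((e o : ↥T) : Finset Cfsg.GolayPt)) ∧ ∃ (N : Subgroup ↥(MulAction.stabilizer Cfsg.M24 T)) (_ : N.Normal), Nat.card N = 64 ∧ (∀ x ∈ N, x * x = 1) ∧ Nonempty (↥(MulAction.stabilizer Cfsg.M24 T) ⧸ N ≃* GL (Fin 3) (ZMod 2) × Equiv.Perm (Fin 3)) := by
  obtain ⟨a, rfl⟩ : ∃ a : Cfsg.M24, a • GolayTrioStab.trio0 = T :=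
    GolayTrioStab.exists_smul_trio0 hT
  obtain ⟨hker, hsurj⟩ := GolayTrioStab.card_ker_surjective
  -- the conjugate stabiliser
  let E : ↥(MulAction.stabilizer Cfsg.M24 (a • GolayTrioStab.trio0)) ≃* ↥GolayTrioStab.G :=
    (MulAction.stabilizerEquivStabilizer (g := a) rfl).symm
  let ψ := GolayTrioStab.both.comp E.toMonoidHom
  have hψ : Function.Surjective ψ := hsurj.comp E.surjective
  have h3 : GolayTrioStab.trio0.card = 3 := GolayTrioStab.trio0_mem.1
  refine ⟨fun e => ?_, ψ.ker, MonoidHom.normal_ker ψ, ?_, ?_, ?_⟩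
  · have hmem : ∀ o : ↥(a • GolayTrioStab.trio0), a⁻¹ • o.1 ∈ GolayTrioStab.trio0 := fun o => by
      obtain ⟨u, hu, hue⟩ := Finset.mem_smul_finset.1 o.2
      rw [← hue, inv_smul_smul]
      exact hu
    obtain ⟨c, hc⟩ : ∃ c : ↥GolayTrioStab.trio0 ≃ ↥(a • GolayTrioStab.trio0),
        ∀ o, (c.symm o).1 = a⁻¹ • o.1 :=
      ⟨{ toFun := fun o => ⟨a • o.1, Finset.smul_mem_smul_finset o.2⟩
         invFun := fun o => ⟨a⁻¹ • o.1, hmem o⟩
         left_inv := fun o => Subtype.ext (inv_smul_smul a o.1)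
         right_inv := fun o => Subtype.ext (smul_inv_smul a o.1) }, fun o => rfl⟩
    obtain ⟨g, hg⟩ := hsurj (1, c.trans (e.trans c.symm))
    refine ⟨a * (g : Cfsg.M24) * a⁻¹, ?_, fun o => ?_⟩
    · rw [MulAction.mem_stabilizer_iff, mul_smul, mul_smul, inv_smul_smul]
      exact congrArg (a • ·) (MulAction.mem_stabilizer_iff.1 g.2)
    · have h2 : ((g : Cfsg.M24) • (a⁻¹ • o.1) : Finset Cfsg.GolayPt) = a⁻¹ • (e o).1 := by
        have := congrArg Subtype.val
          (DFunLike.congr_fun (congrArg Prod.snd hg) (c.symm o))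
        rw [GolayTrioStab.both_snd_apply] at this
        rw [← hc, ← hc, this]
        simp only [Equiv.trans_apply, Equiv.apply_symm_apply]
      show (a * (g : Cfsg.M24) * a⁻¹ : Cfsg.M24) • o.1 = (e o).1
      rw [mul_smul, mul_smul, h2, smul_inv_smul]
  · rw [← hker]
    exact Nat.card_congr
      { toFun := fun x => ⟨E x.1, x.2⟩
        invFun := fun x => ⟨E.symm x.1, by
          show GolayTrioStab.both (E (E.symm x.1)) = 1
          rw [E.apply_symm_apply]; exact x.2⟩
        left_inv := fun x => Subtype.ext (E.symm_apply_apply x.1)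
        right_inv := fun x => Subtype.ext (E.apply_symm_apply x.1) }
  · intro x hx
    have := GolayTrioStab.ker_sq (g := E x) hx
    rw [← map_mul] at this
    exact E.injective (this.trans (map_one E).symm)
  · clear_value ψ
    let e3 : Equiv.Perm ↥GolayTrioStab.trio0 ≃* Equiv.Perm (Fin 3) :=
      (Finset.equivFinOfCardEq h3).permCongrHom
    let q := QuotientGroup.quotientKerEquivOfSurjective ψ hψ
    exact ⟨q.trans (MulEquiv.prodCongr (MulEquiv.refl _) e3)⟩

end Cfsg.Agent.S1558
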