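import Cfsg.Statements.S1560
import Cfsg.Agent.Lib.GolayCount
-- import your own Cfsg.Agent.* helpers here

set_option autoImplicit false
open scoped Pointwise
open Cfsg

namespace Cfsg.Agent.S1560

open scoped Pointwise
open Cfsg.Agent.GolayBasic Cfsg.Agent.GolayOrbit Cfsg.Agent.GolayOrbitThms Cfsg.Agent.GolayCount


/-- Intersection numbers of dodecads: a dodecad meets every other dodecad in 0, 4, 6 or 8 points, meeting 495 of them in 4 points, 1584 in 6 points and 495 in 8 points. -/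
theorem result (d : Finset Cfsg.GolayPt) (hd : d ∈ Cfsg.dodecads) : (∀ d' ∈ Cfsg.dodecads, d' ≠ d → (d ∩ d').card = 0 ∨ (d ∩ d').card = 4 ∨ (d ∩ d').card = 6 ∨ (d ∩ d').card = 8) ∧ {d' : Finset Cfsg.GolayPt | d' ∈ Cfsg.dodecads ∧ (d ∩ d').card = 4}.ncard = 495 ∧ {d' : Finset Cfsg.GolayPt | d' ∈ Cfsg.dodecads ∧ (d ∩ d').card = 6}.ncard = 1584 ∧ {d' : Finset Cfsg.GolayPt | d' ∈ Cfsg.dodecads ∧ (d ∩ d').card = 8}.ncard = 495 := by
  refine ⟨fun d' hd' hne => ?_, count_dodecad_inter hd 4 495 (by decide +kernel),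
    count_dodecad_inter hd 6 1584 (by decide +kernel), count_dodecad_inter hd 8 495 (by decide +kernel)⟩
  obtain ⟨g, rfl⟩ := exists_smul_dodecad' hd
  have hmem : g⁻¹ • d' ∈ Cfsg.dodecads := dodecads_inv g⁻¹ d' hd'
  obtain ⟨x, hx, hxe⟩ := mem_wordsOfWeight.1 hmem
  have hchk : ((ofWeight 12).all fun x => enc x == 340831 || wt (340831 &&& enc x) == 0 ||
      wt (340831 &&& enc x) == 4 || wt (340831 &&& enc x) == 6 || wt (340831 &&& enc x) == 8) = true := by
    decide +kernel
  have h := List.all_eq_true.1 hchk x hx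
  simp only [Bool.or_eq_true, beq_iff_eq] at h
  have e : d' = g • mset (enc x) := by rw [hxe, smul_inv_smul]
  subst e
  rw [card_inter_smul, ← mset_and, card_mset]
  rcases h with (((h | h) | h) | h) | h
  · exact absurd (by rw [h]) hne
  all_goals omega

end Cfsg.Agent.S1560
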