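import Cfsg.Statements.S1562
import Cfsg.Agent.Lib.GolayHexad
-- import your own Cfsg.Agent.* helpers here

set_option autoImplicit false
open scoped Pointwise
open Cfsg

namespace Cfsg.Agent.S1562

open Cfsg.Agent.GolaySix Cfsg.Agent.GolayBasic
open scoped Pointwise

theorem counts (T : Finset Cfsg.GolayPt) (hT : T.card = 3) :
    {U : Finset Cfsg.GolayPt | U.card = 3 ∧ Disjoint T U ∧ (∃ o ∈ Cfsg.octads, T ∪ U ⊆ o)}.ncard = 210 ∧
    {U : Finset Cfsg.GolayPt |
      U.card = 3 ∧ Disjoint T U ∧ ¬ (∃ o ∈ Cfsg.octads, T ∪ U ⊆ o)}.ncard = 1120 := by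
  classical
  set B := GolayTrioSextet.octF.filter fun o => (o ∩ T).card = 3 with hB
  have hB21 : B.card = 21 := (AbstractGolay.triple_counts (by decide +kernel)
    (B := GolayTrioSextet.octF) (by rw [GolayTrioSextet.coe_octF]; exact GolaySteiner.isSteinerSystem_octads)
    T hT).1
  have hsub : ∀ o, o ∈ B ↔ o ∈ Cfsg.octads ∧ T ⊆ o := by
    intro o
    rw [hB, Finset.mem_filter, GolayTrioSextet.mem_octF]
    refine and_congr_right fun _ => ⟨fun h => ?_, fun h => by rw [Finset.inter_eq_right.2 h, hT]⟩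
    exact Finset.inter_eq_right.1 (Finset.eq_of_subset_of_card_le Finset.inter_subset_right (by omega))
  set P := (Finset.univ \ T).powersetCard 3 with hP
  have hP' : ∀ U, U ∈ P ↔ U.card = 3 ∧ Disjoint T U := by
    intro U
    rw [hP, Finset.mem_powersetCard, Finset.subset_sdiff]
    simp [disjoint_comm, and_comm]
  set G := P.filter fun U => ∃ o ∈ Cfsg.octads, T ∪ U ⊆ o with hG
  have hdis : (B : Set (Finset Cfsg.GolayPt)).PairwiseDisjoint
      fun o => (o \ T).powersetCard 3 := by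
    intro o ho o' ho' hne
    rw [Function.onFun, Finset.disjoint_left]
    intro U h h'
    rw [Finset.mem_powersetCard, Finset.subset_sdiff] at h h'
    obtain ⟨ho1, ho2⟩ := (hsub o).1 ho
    obtain ⟨ho1', ho2'⟩ := (hsub o').1 ho'
    refine hne (GolaySteiner.octad_eq_of_five ho1 ho1' (s := T ∪ U) ?_ (Finset.union_subset ho2 h.1.1)
      (Finset.union_subset ho2' h'.1.1))
    rw [Finset.card_union_of_disjoint h.1.2.symm, hT, h.2]
    norm_num
  have hGeq : G = B.biUnion fun o => (o \ T).powersetCard 3 := by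
    ext U
    simp only [hG, Finset.mem_filter, hP', Finset.mem_biUnion, Finset.mem_powersetCard,
      Finset.subset_sdiff, hsub]
    constructor
    · rintro ⟨⟨h3, hd⟩, o, ho, hTU⟩
      exact ⟨o, ⟨ho, Finset.union_subset_left hTU⟩, ⟨Finset.union_subset_right hTU, hd.symm⟩, h3⟩
    · rintro ⟨o, ⟨ho, hTo⟩, ⟨hUo, hd⟩, h3⟩
      exact ⟨⟨h3, hd.symm⟩, o, ho, Finset.union_subset hTo hUo⟩
  have hG210 : G.card = 210 := by
    rw [hGeq, Finset.card_biUnion hdis, Finset.sum_congr rfl (fun o ho => ?_), Finset.sum_const,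
      hB21, smul_eq_mul]
    show 21 * 10 = 210
    · rfl
    · rw [Finset.card_powersetCard, Finset.card_sdiff, Finset.inter_eq_left.2 ((hsub o).1 ho).2, hT,
        ((hsub o).1 ho).1.2]
      rfl
  have hN : (P.filter fun U => ¬ ∃ o ∈ Cfsg.octads, T ∪ U ⊆ o).card = 1120 := by
    have h := Finset.card_filter_add_card_filter_not (s := P) fun U => ∃ o ∈ Cfsg.octads, T ∪ U ⊆ o
    rw [hP, Finset.card_powersetCard, Finset.card_sdiff, Finset.inter_univ, hT, Finset.card_univ,
      show Fintype.card Cfsg.GolayPt = 24 from by decide +kernel] at h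
    rw [← hP, ← hG, hG210, show Nat.choose (24 - 3) 3 = 1330 from by decide +kernel] at h
    omega
  constructor
  · rw [← hG210, ← Set.ncard_coe_finset]
    congr 1
    ext U
    simp [hG, hP', and_assoc]
  · rw [← hN, ← Set.ncard_coe_finset]
    congr 1
    ext U
    simp [hP', and_assoc]

/-- Orbits of a triad stabiliser on the triads disjoint from it: the 210 triads inside a common octad with it form one orbit and the remaining 1120 another. -/
theorem result (T : Finset Cfsg.GolayPt) (hT : T.card = 3) : {U : Finset Cfsg.GolayPt | U.card = 3 ∧ Disjoint T U ∧ (∃ o ∈ Cfsg.octads, T ∪ U ⊆ o)}.ncard = 210 ∧ {U : Finset Cfsg.GolayPt | U.card = 3 ∧ Disjoint T U ∧ ¬ (∃ o ∈ Cfsg.octads, T ∪ U ⊆ o)}.ncard = 1120 ∧ ∀ U U' : Finset Cfsg.GolayPt, U.card = 3 → U'.card = 3 → Disjoint T U → Disjoint T U' → ((∃ o ∈ Cfsg.octads, T ∪ U ⊆ o) ↔ (∃ o ∈ Cfsg.octads, T ∪ U' ⊆ o)) → ∃ g : Equiv.Perm Cfsg.GolayPt, g ∈ Cfsg.M24 ∧ g • T = T ∧ g • U = U' := by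
  obtain ⟨h21, hall⟩ := counts T hT
  refine ⟨h21, hall, fun U U' hU hU' hd hd' hiff => ?_⟩
  obtain ⟨t, ht, htT⟩ := exists_fin_enum hT
  obtain ⟨u, hu, huU⟩ := exists_fin_enum hU
  obtain ⟨u', hu', huU'⟩ := exists_fin_enum hU'
  have hinj : ∀ (V : Finset Cfsg.GolayPt) (v : Fin 3 → Cfsg.GolayPt), Function.Injective v →
      (∀ p, p ∈ V ↔ ∃ i, v i = p) → Disjoint T V → Function.Injective (Fin.append t v) := by
    intro V v hv hvV hTV i j e
    induction i using Fin.addCases with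
    | left i =>
      induction j using Fin.addCases with
      | left j => rw [Fin.append_left, Fin.append_left] at e; rw [ht e]
      | right j =>
        rw [Fin.append_left, Fin.append_right] at e
        exact absurd ((hvV _).2 ⟨j, e.symm⟩) (Finset.disjoint_left.1 hTV ((htT _).2 ⟨i, rfl⟩))
    | right i =>
      induction j using Fin.addCases with
      | left j =>
        rw [Fin.append_left, Fin.append_right] at e
        exact absurd ((hvV _).2 ⟨i, e⟩) (Finset.disjoint_left.1 hTV ((htT _).2 ⟨j, rfl⟩))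
      | right j => rw [Fin.append_right, Fin.append_right] at e; rw [hv e]
  have hoct : ∀ (V : Finset Cfsg.GolayPt) (v : Fin 3 → Cfsg.GolayPt),
      (∀ p, p ∈ V ↔ ∃ i, v i = p) →
      ((∃ o ∈ Cfsg.octads, T ∪ V ⊆ o) ↔ ∃ o ∈ Cfsg.octads, ∀ i, Fin.append t v i ∈ o) := by
    intro V v hvV
    refine exists_congr fun o => and_congr_right fun _ => ⟨fun h i => ?_, fun h p hp => ?_⟩
    · induction i using Fin.addCases with
      | left i => rw [Fin.append_left]; exact h (Finset.mem_union_left _ ((htT _).2 ⟨i, rfl⟩))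
      | right i => rw [Fin.append_right]; exact h (Finset.mem_union_right _ ((hvV _).2 ⟨i, rfl⟩))
    · rcases Finset.mem_union.1 hp with hp | hp
      · obtain ⟨i, rfl⟩ := (htT p).1 hp
        have := h (Fin.castAdd 3 i)
        rwa [Fin.append_left] at this
      · obtain ⟨i, rfl⟩ := (hvV p).1 hp
        have := h (Fin.natAdd 3 i)
        rwa [Fin.append_right] at this
  obtain ⟨a, b, S, ha, hb⟩ : ∃ a b : ↥Cfsg.M24, ∃ S : List ℕ,
      (∀ i : Fin 6, (a : Equiv.Perm Cfsg.GolayPt) (pt (S.getD i.val 0)) = Fin.append t u i) ∧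
      ∀ i : Fin 6, (b : Equiv.Perm Cfsg.GolayPt) (pt (S.getD i.val 0)) = Fin.append t u' i := by
    by_cases h : ∃ o ∈ Cfsg.octads, T ∪ U ⊆ o
    · obtain ⟨a, ha⟩ := (exists_map_six _ (hinj U u hu huU hd)).1 ((hoct U u huU).1 h)
      obtain ⟨b, hb⟩ := (exists_map_six _ (hinj U' u' hu' huU' hd')).1 ((hoct U' u' huU').1 (hiff.1 h))
      exact ⟨a, b, _, ha, hb⟩
    · obtain ⟨a, ha⟩ := (exists_map_six _ (hinj U u hu huU hd)).2 fun h' => h ((hoct U u huU).2 h')
      obtain ⟨b, hb⟩ := (exists_map_six _ (hinj U' u' hu' huU' hd')).2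
        fun h' => h (hiff.2 ((hoct U' u' huU').2 h'))
      exact ⟨a, b, _, ha, hb⟩
  set g := (b : Equiv.Perm Cfsg.GolayPt) * (a : Equiv.Perm Cfsg.GolayPt)⁻¹
  have hg : ∀ i, g (Fin.append t u i) = Fin.append t u' i := fun i => by
    rw [Equiv.Perm.mul_apply, ← ha i, Equiv.Perm.inv_def, Equiv.symm_apply_apply, hb i]
  refine ⟨g, mul_mem b.2 (inv_mem a.2), ?_, ?_⟩
  · refine Finset.eq_of_subset_of_card_le ?_ (by rw [Finset.card_smul_finset])
    intro p hp
    obtain ⟨q, hq, rfl⟩ := Finset.mem_smul_finset.1 hp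
    obtain ⟨i, rfl⟩ := (htT q).1 hq
    have := hg (Fin.castAdd 3 i)
    rw [Fin.append_left, Fin.append_left] at this
    rw [Equiv.Perm.smul_def, this]
    exact hq
  · refine Finset.eq_of_subset_of_card_le ?_ (by rw [Finset.card_smul_finset, hU, hU'])
    intro p hp
    obtain ⟨q, hq, rfl⟩ := Finset.mem_smul_finset.1 hp
    obtain ⟨i, rfl⟩ := (huU q).1 hq
    have := hg (Fin.natAdd 3 i)
    rw [Fin.append_right, Fin.append_right] at this
    rw [Equiv.Perm.smul_def, this]
    exact (huU' _).2 ⟨i, rfl⟩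

end Cfsg.Agent.S1562
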