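import Cfsg.Statements.S1563
import Cfsg.Agent.Lib.GolayM24
-- import your own Cfsg.Agent.* helpers here

set_option autoImplicit false
open scoped Pointwise
open Cfsg

namespace Cfsg.Agent.S1563

open Cfsg.Agent.GolayM24

theorem exists_notMem_range {k : ℕ} (hk : k < 24) (x : Fin k → GolayPt) :
    ∃ z, z ∉ Set.range x := by
  by_contra h
  push Not at h
  have := Fintype.card_le_of_surjective x h
  simp [GolayPt] at this
  omega

theorem exists_map_le : ∀ (e k : ℕ), k + e = 5 → ∀ x y : Fin k → GolayPt, Function.Injective x →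
    Function.Injective y → ∃ g ∈ M24, ∀ i, g (x i) = y i := by
  intro e
  induction e with
  | zero =>
    intro k hk x y hx hy
    obtain rfl : k = 5 := by omega
    exact exists_map_five_five x y hx hy
  | succ e ih =>
    intro k hk x y hx hy
    obtain ⟨z, hz⟩ := exists_notMem_range (by omega) x
    obtain ⟨w, hw⟩ := exists_notMem_range (by omega) y
    obtain ⟨g, hg, h⟩ := ih (k + 1) (by omega) (Fin.cons z x) (Fin.cons w y)
      (Fin.cons_injective_iff.2 ⟨hz, hx⟩) (Fin.cons_injective_iff.2 ⟨hw, hy⟩)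
    exact ⟨g, hg, fun i => by simpa using h i.succ⟩

theorem smul_pair (g : Equiv.Perm GolayPt) (a b : GolayPt) :
    g • ({a, b} : Finset GolayPt) = {g a, g b} := by
  rw [Finset.smul_finset_insert, Finset.smul_finset_singleton]; rfl

/-- the stabiliser of a pair is transitive on the pairs in a given position to it -/
theorem exists_stab_map {s t u : Finset GolayPt} (hs : s.card = 2) (ht : t.card = 2)
    (hu : u.card = 2) (hts : t ≠ s) (hus : u ≠ s) (h : Disjoint t s ↔ Disjoint u s) :
    ∃ g ∈ M24, g • s = s ∧ g • t = u := by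
  obtain ⟨a, b, hab, rfl⟩ := Finset.card_eq_two.1 hs
  by_cases hd : Disjoint t {a, b}
  · obtain ⟨c, c', hc, rfl⟩ := Finset.card_eq_two.1 ht
    obtain ⟨e, e', he, rfl⟩ := Finset.card_eq_two.1 hu
    have hd' := h.1 hd
    simp only [Finset.disjoint_insert_left, Finset.disjoint_singleton_left, Finset.mem_insert,
      Finset.mem_singleton, not_or] at hd hd'
    obtain ⟨g, hg, hgx⟩ := exists_map_le 1 4 rfl ![a, b, c, c'] ![a, b, e, e']
      (by intro i j hij; fin_cases i <;> fin_cases j <;> simp_all)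
      (by intro i j hij; fin_cases i <;> fin_cases j <;> simp_all)
    have h0 : g a = a := hgx 0
    have h1 : g b = b := hgx 1
    have h2 : g c = e := hgx 2
    have h3 : g c' = e' := hgx 3
    exact ⟨g, hg, by rw [smul_pair, h0, h1], by rw [smul_pair, h2, h3]⟩
  · have split : ∀ v : Finset GolayPt, v.card = 2 → v ≠ {a, b} → ¬ Disjoint v {a, b} →
        ∃ x x' c, ({x, x'} : Finset GolayPt) = {a, b} ∧ v = {x, c} ∧ x ≠ x' ∧ c ≠ x ∧ c ≠ x' := by
      intro v hv hne hnd
      obtain ⟨x, hxv, hxs⟩ := Finset.not_disjoint_iff.1 hnd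
      obtain ⟨c, hcx, rfl⟩ : ∃ c, c ≠ x ∧ v = {x, c} := by
        obtain ⟨p, q, hpq, rfl⟩ := Finset.card_eq_two.1 hv
        simp only [Finset.mem_insert, Finset.mem_singleton] at hxv
        rcases hxv with rfl | rfl
        · exact ⟨q, hpq.symm, rfl⟩
        · exact ⟨p, hpq, Finset.pair_comm _ _⟩
      simp only [Finset.mem_insert, Finset.mem_singleton] at hxs
      rcases hxs with rfl | rfl
      · exact ⟨x, b, c, rfl, rfl, hab, hcx, fun hh => hne (by rw [hh])⟩
      · exact ⟨x, a, c, Finset.pair_comm _ _, rfl, hab.symm, hcx,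
          fun hh => hne (by rw [hh]; exact Finset.pair_comm _ _)⟩
    obtain ⟨x, x', c, hxs, rfl, hxx, hcx, hcx'⟩ := split t ht hts hd
    obtain ⟨y, y', e, hys, rfl, hyy, hey, hey'⟩ := split u hu hus (fun hh => hd (h.2 hh))
    obtain ⟨g, hg, hgx⟩ := exists_map_le 2 3 rfl ![x, x', c] ![y, y', e]
      (by intro i j hij; fin_cases i <;> fin_cases j <;> simp_all)
      (by intro i j hij; fin_cases i <;> fin_cases j <;> simp_all)
    have h0 : g x = y := hgx 0
    have h1 : g x' = y' := hgx 1
    have h2 : g c = e := hgx 2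
    exact ⟨g, hg, by rw [← hxs, smul_pair, h0, h1, hys, hxs], by rw [smul_pair, h0, h2]⟩

/-- The stabiliser of a pair of points (setwise) is a maximal proper subgroup of the group of the length-24 code. -/
theorem result (s : Finset Cfsg.GolayPt) (hs : s.card = 2) : IsCoatom (MulAction.stabilizer Cfsg.M24 s) := by
  obtain ⟨a, b, hab, hsab⟩ := Finset.card_eq_two.1 hs
  have other : ∀ l : List GolayPt, l.length < 24 → ∃ z, z ∉ l := by
    intro l hl
    obtain ⟨z, hz⟩ := exists_notMem_range hl l.get
    exact ⟨z, fun hm => hz (List.mem_iff_get.1 hm)⟩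
  constructor
  · intro htop
    obtain ⟨c, hc⟩ := other [a, b] (by simp)
    simp only [List.mem_cons, List.not_mem_nil, or_false, not_or] at hc
    obtain ⟨g, hg, hgx⟩ := exists_map_le 3 2 rfl ![a, b] ![a, c]
      (by intro i j hij; fin_cases i <;> fin_cases j <;> simp_all)
      (by intro i j hij; fin_cases i <;> fin_cases j <;> simp_all)
    have h0 : g a = a := hgx 0
    have h1 : g b = c := hgx 1
    have hmem : (⟨g, hg⟩ : M24) ∈ MulAction.stabilizer M24 s := htop ▸ Subgroup.mem_top _
    have hgs : g • s = s := hmem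
    rw [hsab, smul_pair, h0, h1] at hgs
    have hcm : c ∈ ({a, b} : Finset GolayPt) := hgs ▸ (by simp)
    simp only [Finset.mem_insert, Finset.mem_singleton] at hcm
    tauto
  · intro K hK
    obtain ⟨hle, g, hgK, hgs⟩ := SetLike.lt_iff_le_and_exists.1 hK
    -- the orbit of the pair under `K`
    let O : Set (Finset GolayPt) := {t | ∃ k ∈ K, k • s = t}
    have hclose : ∀ k ∈ K, ∀ t, t ∈ O → k • t ∈ O := by
      rintro k hk t ⟨l, hl, rfl⟩
      exact ⟨k * l, mul_mem hk hl, mul_smul k l s⟩
    have hcard : ∀ (k : M24) (t : Finset GolayPt), (k • t).card = t.card := fun k t =>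
      Finset.card_smul_finset (k : Equiv.Perm GolayPt) t
    have hO2 : ∀ t ∈ O, t.card = 2 := by
      rintro t ⟨k, -, rfl⟩; rw [hcard, hs]
    have hpos : ∀ t ∈ O, ∀ u : Finset GolayPt, u.card = 2 → t ≠ s → u ≠ s →
        (Disjoint t s ↔ Disjoint u s) → u ∈ O := by
      intro t ht u hu hts hus hiff
      obtain ⟨h, hh, hhs, hht⟩ := exists_stab_map hs (hO2 t ht) hu hts hus hiff
      have hhK : (⟨h, hh⟩ : M24) ∈ K := hle hhs
      exact hht ▸ hclose _ hhK t ht
    -- the orbit is invariant in position relative to each of its members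
    have hrel : ∀ t ∈ O, ∀ v ∈ O, v ≠ t → ∀ u : Finset GolayPt, u.card = 2 → u ≠ t →
        (Disjoint v t ↔ Disjoint u t) → u ∈ O := by
      rintro t ⟨k, hk, rfl⟩ v hv hvt u hu hut hiff
      have hdis : ∀ w : Finset GolayPt, Disjoint (k⁻¹ • w) s ↔ Disjoint w (k • s) := by
        intro w
        have := Finset.disjoint_map (Equiv.toEmbedding ((k : M24) : Equiv.Perm GolayPt))
          (s := k⁻¹ • w) (t := s)
        rw [← this, Finset.map_eq_image, Finset.map_eq_image]
        show Disjoint (((k : M24) : Equiv.Perm GolayPt) • (k⁻¹ • w)) ((k : Equiv.Perm GolayPt) • s) ↔ _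
        rw [show ((k : M24) : Equiv.Perm GolayPt) • (k⁻¹ • w) = w from smul_inv_smul k w]
        rfl
      have h1 := hpos (k⁻¹ • v) (hclose _ (inv_mem hk) v hv) (k⁻¹ • u)
        (by rw [hcard, hu]) (fun e => hvt (by rw [← e, smul_inv_smul]))
        (fun e => hut (by rw [← e, smul_inv_smul])) (by rw [hdis, hdis, hiff])
      have h2 := hclose k hk _ h1
      rwa [smul_inv_smul] at h2
    have hsO : s ∈ O := ⟨1, one_mem _, one_smul _ _⟩
    have hgO : g • s ∈ O := ⟨g, hgK, rfl⟩
    obtain ⟨c, hc⟩ := other [a, b] (by simp)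
    obtain ⟨e, he⟩ := other [a, b, c] (by simp)
    obtain ⟨f, hf⟩ := other [a, b, c, e] (by simp)
    simp only [List.mem_cons, List.not_mem_nil, or_false, not_or] at hc he hf
    have nd : ¬ Disjoint ({a, c} : Finset GolayPt) s := by simp [hsab]
    have dd : Disjoint ({c, e} : Finset GolayPt) s := by simp [hsab, Ne.symm hc.1, Ne.symm hc.2, Ne.symm he.1, Ne.symm he.2.1]
    have ncs : ({a, c} : Finset GolayPt) ≠ s := fun hh => by
      have : c ∈ ({a, b} : Finset GolayPt) := by rw [← hsab, ← hh]; simp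
      simp [hc.1, hc.2] at this
    have des : ({c, e} : Finset GolayPt) ≠ s := fun hh => by
      have : c ∈ ({a, b} : Finset GolayPt) := by rw [← hsab, ← hh]; simp
      simp [hc.1, hc.2] at this
    have c1 : ({a, c} : Finset GolayPt).card = 2 := Finset.card_pair (Ne.symm hc.1)
    have c2 : ({c, e} : Finset GolayPt).card = 2 := Finset.card_pair (Ne.symm he.2.2)
    have both : ({a, c} : Finset GolayPt) ∈ O ∧ ({c, e} : Finset GolayPt) ∈ O := by
      by_cases hd : Disjoint (g • s) s
      · have m2 : ({c, e} : Finset GolayPt) ∈ O :=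
          hpos _ hgO _ c2 hgs des (iff_of_true hd dd)
        refine ⟨?_, m2⟩
        have m3 : ({a, f} : Finset GolayPt) ∈ O :=
          hrel _ m2 s hsO (Ne.symm des) _ (Finset.card_pair (Ne.symm hf.1)) (fun hh => by
            have : a ∈ ({c, e} : Finset GolayPt) := hh ▸ (by simp)
            simp [Ne.symm hc.1, Ne.symm he.1] at this)
            (iff_of_true dd.symm (by
              simp [hc.1, he.1, Ne.symm hf.2.2.1, Ne.symm hf.2.2.2]))
        refine hpos _ m3 _ c1 (fun hh => ?_) ncs (iff_of_false (by simp [hsab]) nd)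
        have : f ∈ ({a, b} : Finset GolayPt) := by rw [← hsab, ← hh]; simp
        simp [hf.1, hf.2.1] at this
      · have m1 : ({a, c} : Finset GolayPt) ∈ O :=
          hpos _ hgO _ c1 hgs ncs (iff_of_false hd nd)
        refine ⟨m1, ?_⟩
        refine hrel _ m1 s hsO (Ne.symm ncs) _ c2 (fun hh => ?_) (iff_of_false (fun h' => nd h'.symm) (by simp))
        have : a ∈ ({c, e} : Finset GolayPt) := hh ▸ (by simp)
        simp [Ne.symm hc.1, Ne.symm he.1] at this
    rw [eq_top_iff]
    intro x _
    have hx : x • s ∈ O := by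
      by_cases hxs : x • s = s
      · rw [hxs]; exact hsO
      by_cases hd : Disjoint (x • s) s
      · exact hpos _ both.2 _ (by rw [hcard, hs]) des hxs (iff_of_true dd hd)
      · exact hpos _ both.1 _ (by rw [hcard, hs]) ncs hxs (iff_of_false nd hd)
    obtain ⟨k, hk, hkx⟩ := hx
    have hmem : k⁻¹ * x ∈ K := hle (by
      rw [MulAction.mem_stabilizer_iff, mul_smul, ← hkx, inv_smul_smul])
    simpa using mul_mem hk hmem

end Cfsg.Agent.S1563
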