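import Cfsg.Statements.S1564
import Cfsg.Agent.Lib.GolayStabCoatom
import Cfsg.Agent.S1563
-- import your own Cfsg.Agent.* helpers here

set_option autoImplicit false
open scoped Pointwise
open Cfsg

namespace Cfsg.Agent.S1564

open Cfsg.Agent.S1563

theorem smul_triple (g : M24) (a b c : Cfsg.GolayPt) :
    g • ({a, b, c} : Finset Cfsg.GolayPt) =
      {(g : Equiv.Perm Cfsg.GolayPt) a, (g : Equiv.Perm Cfsg.GolayPt) b,
        (g : Equiv.Perm Cfsg.GolayPt) c} := by
  show (g : Equiv.Perm Cfsg.GolayPt) • ({a, b, c} : Finset Cfsg.GolayPt) = _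
  rw [Finset.smul_finset_insert, Finset.smul_finset_insert, Finset.smul_finset_singleton]; rfl

theorem inj3 {a b c : Cfsg.GolayPt} (h1 : a ≠ b) (h2 : a ≠ c) (h3 : b ≠ c) :
    Function.Injective ![a, b, c] := by
  intro i j h; fin_cases i <;> fin_cases j <;> simp_all

theorem inj4 {a b c d : Cfsg.GolayPt} (h1 : a ≠ b) (h2 : a ≠ c) (h3 : b ≠ c) (h4 : d ≠ a)
    (h5 : d ≠ b) (h6 : d ≠ c) : Function.Injective ![a, b, c, d] := by
  intro i j h; fin_cases i <;> fin_cases j <;> simp_all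

theorem inj5 {a b c d e : Cfsg.GolayPt} (h1 : a ≠ b) (h2 : a ≠ c) (h3 : b ≠ c) (h4 : d ≠ a)
    (h5 : d ≠ b) (h6 : d ≠ c) (h7 : e ≠ a) (h8 : e ≠ b) (h9 : e ≠ c) (h10 : d ≠ e) :
    Function.Injective ![a, b, c, d, e] := by
  intro i j h; fin_cases i <;> fin_cases j <;> simp_all

/-- The stabiliser of a set of three points (setwise) is a maximal proper subgroup of the group of the length-24 code. -/
theorem result (s : Finset Cfsg.GolayPt) (hs : s.card = 3) : IsCoatom (MulAction.stabilizer Cfsg.M24 s) := by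
  have other : ∀ l : List Cfsg.GolayPt, l.length < 24 → ∃ z, z ∉ l := by
    intro l hl
    obtain ⟨z, hz⟩ := exists_notMem_range hl l.get
    exact ⟨z, fun hm => hz (List.mem_iff_get.1 hm)⟩
  refine GolayStabCoatom.isCoatom_stabilizer s {t | t.card = 3}
    (fun g x hx => (Finset.card_smul_finset (g : Equiv.Perm Cfsg.GolayPt) x).trans hx) hs ?_ ?_
  · obtain ⟨a, b, c, hab, hac, hbc, rfl⟩ := Finset.card_eq_three.1 hs
    obtain ⟨d, hd⟩ := other [a, b, c] (by simp)
    simp only [List.mem_cons, List.not_mem_nil, or_false, not_or] at hd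
    obtain ⟨g, hg, hgx⟩ := exists_map_le 2 3 rfl ![a, b, c] ![a, b, d] (inj3 hab hac hbc)
      (inj3 hab (Ne.symm hd.1) (Ne.symm hd.2.1))
    refine ⟨⟨g, hg⟩, fun e => ?_⟩
    have h0 : g a = a := hgx 0
    have h1 : g b = b := hgx 1
    have h2 : g c = d := hgx 2
    rw [smul_triple, h0, h1, h2] at e
    have : d ∈ ({a, b, c} : Finset Cfsg.GolayPt) := e ▸ (by simp)
    simp [hd.1, hd.2.1, hd.2.2] at this
  rintro O hOU hsO ⟨x, hx, hxs⟩ hclose
  have htrans : ∀ t : Finset Cfsg.GolayPt, t.card = 3 → ∃ g : M24, g • s = t := by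
    intro t ht
    obtain ⟨a, b, c, hab, hac, hbc, rfl⟩ := Finset.card_eq_three.1 hs
    obtain ⟨d, e, f, hde, hdf, hef, rfl⟩ := Finset.card_eq_three.1 ht
    obtain ⟨g, hg, hgx⟩ := exists_map_le 2 3 rfl ![a, b, c] ![d, e, f] (inj3 hab hac hbc)
      (inj3 hde hdf hef)
    refine ⟨⟨g, hg⟩, ?_⟩
    rw [smul_triple]
    exact congrArg₂ _ (hgx 0) (congrArg₂ _ (hgx 1) (congrArg _ (hgx 2)))
  have hdis : ∀ (g : M24) (u v : Finset Cfsg.GolayPt), Disjoint (g • u) (g • v) ↔ Disjoint u v := by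
    intro g u v
    rw [Finset.disjoint_iff_inter_eq_empty, Finset.disjoint_iff_inter_eq_empty,
      ← Finset.smul_finset_inter]
    exact Finset.smul_finset_eq_empty
  -- some member meets the fixed triple in two points
  have two : ∃ a b c d, a ≠ b ∧ a ≠ c ∧ b ≠ c ∧ d ≠ a ∧ d ≠ b ∧ d ≠ c ∧
      s = ({a, b, c} : Finset Cfsg.GolayPt) ∧ ({a, b, d} : Finset Cfsg.GolayPt) ∈ O := by
    have one : ∀ a b c d e, a ≠ b → a ≠ c → b ≠ c → d ≠ a → d ≠ b → d ≠ c → e ≠ a → e ≠ b →
        e ≠ c → d ≠ e → s = ({a, b, c} : Finset Cfsg.GolayPt) →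
        ({a, d, e} : Finset Cfsg.GolayPt) ∈ O → ∃ a b c d, a ≠ b ∧ a ≠ c ∧ b ≠ c ∧ d ≠ a ∧ d ≠ b ∧
          d ≠ c ∧ s = ({a, b, c} : Finset Cfsg.GolayPt) ∧ ({a, b, d} : Finset Cfsg.GolayPt) ∈ O := by
      intro a b c d e hab hac hbc hda hdb hdc hea heb hec hde hsab hmem
      obtain ⟨f, hf⟩ := other [a, b, c, d, e] (by simp)
      simp only [List.mem_cons, List.not_mem_nil, or_false, not_or] at hf
      obtain ⟨hfa, hfb, hfc, hfd, hfe⟩ := hf
      obtain ⟨g, hg, hgx⟩ := exists_map_le 0 5 rfl ![a, b, c, d, e] ![a, d, e, b, f]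
        (inj5 hab hac hbc hda hdb hdc hea heb hec hde)
        (inj5 (Ne.symm hda) (Ne.symm hea) hde (Ne.symm hab) (Ne.symm hdb) (Ne.symm heb) hfa hfd hfe
          (Ne.symm hfb))
      have h0 : g a = a := hgx 0
      have h1 : g b = d := hgx 1
      have h2 : g c = e := hgx 2
      have h3 : g d = b := hgx 3
      have h4 : g e = f := hgx 4
      have m := hclose ⟨g, hg⟩ (by rw [hsab, smul_triple, h0, h1, h2]; exact hmem) _ hmem
      rw [smul_triple, h0, h3, h4] at m
      exact ⟨a, b, c, f, hab, hac, hbc, hfa, hfb, hfc, hsab, m⟩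
    obtain ⟨d, e, f, hde, hdf, hef, rfl⟩ := Finset.card_eq_three.1 (hOU hx)
    have overlap : ∀ u ∈ O, ∀ p ∈ u, p ∈ s → ∀ q ∈ u, q ∉ s →
        ∃ a b c d, a ≠ b ∧ a ≠ c ∧ b ≠ c ∧ d ≠ a ∧ d ≠ b ∧
          d ≠ c ∧ s = ({a, b, c} : Finset Cfsg.GolayPt) ∧ ({a, b, d} : Finset Cfsg.GolayPt) ∈ O := by
      intro u hu p hpu hps q hqu hqs
      obtain ⟨r, hrp, hrq, hur⟩ : ∃ r, r ≠ p ∧ r ≠ q ∧ u = {p, q, r} := by
        have hpq : p ≠ q := fun h => hqs (h ▸ hps)
        have hu3 : u.card = 3 := hOU hu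
        obtain ⟨r, hr⟩ := Finset.card_eq_one.1 (show (u \ {p, q}).card = 1 by
          rw [Finset.card_sdiff_of_subset (by simp [Finset.insert_subset_iff, hpu, hqu]), hu3,
            Finset.card_pair hpq])
        have hrm : r ∈ u \ {p, q} := by rw [hr]; simp
        simp only [Finset.mem_sdiff, Finset.mem_insert, Finset.mem_singleton, not_or] at hrm
        refine ⟨r, hrm.2.1, hrm.2.2, ?_⟩
        rw [← Finset.union_sdiff_of_subset (show ({p, q} : Finset Cfsg.GolayPt) ⊆ u by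
          simp [Finset.insert_subset_iff, hpu, hqu]), hr]
        ext z; simp [or_assoc]
      by_cases hrs : r ∈ s
      · obtain ⟨c, hc⟩ := Finset.card_eq_one.1 (show (s \ {p, r}).card = 1 by
          rw [Finset.card_sdiff_of_subset (by simp [Finset.insert_subset_iff, hps, hrs]), hs,
            Finset.card_pair hrp.symm])
        have hcm : c ∈ s \ {p, r} := by rw [hc]; simp
        simp only [Finset.mem_sdiff, Finset.mem_insert, Finset.mem_singleton, not_or] at hcm
        refine ⟨p, r, c, q, hrp.symm, Ne.symm hcm.2.1, Ne.symm hcm.2.2, fun h => hqs (h ▸ hps),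
          hrq.symm, fun h => hqs (h ▸ hcm.1), ?_, ?_⟩
        · rw [← Finset.union_sdiff_of_subset (show ({p, r} : Finset Cfsg.GolayPt) ⊆ s by
            simp [Finset.insert_subset_iff, hps, hrs]), hc]
          ext z; simp [or_assoc]
        · rw [hur, Finset.pair_comm q r] at hu; exact hu
      · obtain ⟨b, c, hbc, hbc'⟩ := Finset.card_eq_two.1 (show (s.erase p).card = 2 by
          rw [Finset.card_erase_of_mem hps, hs])
        have hb : b ∈ s.erase p := by rw [hbc']; simp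
        have hc : c ∈ s.erase p := by rw [hbc']; simp
        rw [Finset.mem_erase] at hb hc
        exact one p b c q r (Ne.symm hb.1) (Ne.symm hc.1) hbc (fun h => hqs (h ▸ hps))
          (fun h => hqs (h ▸ hb.2)) (fun h => hqs (h ▸ hc.2)) hrp (fun h => hrs (h ▸ hb.2))
          (fun h => hrs (h ▸ hc.2)) hrq.symm (by rw [← hbc', Finset.insert_erase hps]) (hur ▸ hu)
    by_cases hd : Disjoint ({d, e, f} : Finset Cfsg.GolayPt) s
    · simp only [Finset.disjoint_insert_left, Finset.disjoint_singleton_left] at hd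
      obtain ⟨a, b, c, hab, hac, hbc, hsab⟩ := Finset.card_eq_three.1 hs
      have ne : ∀ {z w : Cfsg.GolayPt}, z ∈ s → w ∉ s → z ≠ w := fun h1 h2 h => h2 (h ▸ h1)
      have ma : a ∈ s := by rw [hsab]; simp
      have mb : b ∈ s := by rw [hsab]; simp
      have mc : c ∈ s := by rw [hsab]; simp
      obtain ⟨q, hq⟩ := other [a, b, c, d, e, f] (by simp)
      simp only [List.mem_cons, List.not_mem_nil, or_false, not_or] at hq
      obtain ⟨qa, qb, qc, qd, qe, qf⟩ := hq
      obtain ⟨g, hg, hgx⟩ := exists_map_le 0 5 rfl ![a, b, c, d, e] ![d, e, f, a, q]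
        (inj5 hab hac hbc (ne ma hd.1).symm (ne mb hd.1).symm (ne mc hd.1).symm (ne ma hd.2.1).symm
          (ne mb hd.2.1).symm (ne mc hd.2.1).symm hde)
        (inj5 hde hdf hef (ne ma hd.1) (ne ma hd.2.1) (ne ma hd.2.2) qd qe qf (Ne.symm qa))
      have h0 : g a = d := hgx 0
      have h1 : g b = e := hgx 1
      have h2 : g c = f := hgx 2
      have h3 : g d = a := hgx 3
      have h4 : g e = q := hgx 4
      have m := hclose ⟨g, hg⟩ (by rw [hsab, smul_triple, h0, h1, h2]; exact hx) _ hx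
      rw [smul_triple, h3, h4] at m
      exact overlap _ m a (by simp) ma q (by simp) (by rw [hsab]; simp [qa, qb, qc])
    · obtain ⟨p, hp, hps⟩ := Finset.not_disjoint_iff.1 hd
      obtain ⟨q, hq, hqs⟩ : ∃ q ∈ ({d, e, f} : Finset Cfsg.GolayPt), q ∉ s := by
        by_contra h
        push Not at h
        exact hxs (Finset.eq_of_subset_of_card_le h (by rw [hs]; exact (hOU hx).ge))
      exact overlap _ hx p hp hps q hq hqs
  -- adjacency closes
  obtain ⟨a, b, c, d, hab, hac, hbc, hda, hdb, hdc, hsab, hd⟩ := two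
  have adj : ∀ p q r w : Cfsg.GolayPt, p ≠ q → p ≠ r → q ≠ r → w ≠ p → w ≠ q → w ≠ r →
      ({p, q, r} : Finset Cfsg.GolayPt) ∈ O → ({p, q, w} : Finset Cfsg.GolayPt) ∈ O := by
    intro p q r w hpq hpr hqr hwp hwq hwr hm
    obtain ⟨g, hg, hgx⟩ := exists_map_le 1 4 rfl ![a, b, c, d] ![p, q, r, w]
      (inj4 hab hac hbc hda hdb hdc) (inj4 hpq hpr hqr hwp hwq hwr)
    have h0 : g a = p := hgx 0
    have h1 : g b = q := hgx 1
    have h2 : g c = r := hgx 2
    have h3 : g d = w := hgx 3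
    have m := hclose ⟨g, hg⟩ (by rw [hsab, smul_triple, h0, h1, h2]; exact hm) _ hd
    rwa [smul_triple, h0, h1, h3] at m
  have all : ∀ n, ∀ t : Finset Cfsg.GolayPt, t.card = 3 → (t \ s).card = n → t ∈ O := by
    intro n
    induction n with
    | zero =>
      intro t ht h0
      rw [Finset.card_eq_zero, Finset.sdiff_eq_empty_iff_subset] at h0
      rw [Finset.eq_of_subset_of_card_le h0 (by rw [hs, ht])]
      exact hsO
    | succ n ih =>
      intro t ht hn
      obtain ⟨w, hw⟩ := Finset.card_pos.1 (show 0 < (t \ s).card by omega)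
      rw [Finset.mem_sdiff] at hw
      obtain ⟨r, hr, hrt⟩ := Finset.not_subset.1 (fun hst : s ⊆ t =>
        hw.2 (Finset.eq_of_subset_of_card_le hst (by rw [hs, ht]) ▸ hw.1))
      obtain ⟨p, q, hpq, hpq'⟩ := Finset.card_eq_two.1 (show (t.erase w).card = 2 by
        rw [Finset.card_erase_of_mem hw.1, ht])
      have hp : p ∈ t.erase w := by rw [hpq']; simp
      have hq : q ∈ t.erase w := by rw [hpq']; simp
      rw [Finset.mem_erase] at hp hq
      have nr : ∀ {z}, z ∈ t → z ≠ r := fun hz h => hrt (h ▸ hz)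
      have m : ({p, q, r} : Finset Cfsg.GolayPt) ∈ O := by
        refine ih _ (Finset.card_eq_three.2 ⟨p, q, r, hpq, nr hp.2, nr hq.2, rfl⟩) ?_
        have e : ({p, q, r} : Finset Cfsg.GolayPt) \ s = (t \ s).erase w := by
          rw [show ({p, q, r} : Finset Cfsg.GolayPt) = insert r (t.erase w) by
            rw [hpq']; ext z; simp; tauto, Finset.insert_sdiff_of_mem _ hr, Finset.erase_sdiff_comm]
        rw [e, Finset.card_erase_of_mem (Finset.mem_sdiff.2 hw), hn]
        omega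
      have m' := adj p q r w hpq (nr hp.2) (nr hq.2) (Ne.symm hp.1) (Ne.symm hq.1) (nr hw.1) m
      rw [← Finset.insert_erase hw.1, hpq']
      convert m' using 1
      ext z; simp; tauto
  exact fun t ht => all _ t ht rfl

end Cfsg.Agent.S1564
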