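import Cfsg.Statements.S1565
import Cfsg.Agent.Lib.GolayStabCoatom
import Cfsg.Agent.Lib.GolayHeptad
-- import your own Cfsg.Agent.* helpers here

set_option autoImplicit false
open scoped Pointwise
open Cfsg

namespace Cfsg.Agent.S1565

open Cfsg.Agent.GolayBasic Cfsg.Agent.GolayPerm Cfsg.Agent.GolayCount Cfsg.Agent.GolayOrbitThms

/-- two octads in a chain from the standard one with prescribed intersections -/
def witCheck (i j t u : ℕ) : Bool :=
  inCode t && wt t == 8 && inCode u && wt u == 8 && wt (13062145 &&& t) == i && wt (t &&& u) == i &&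
    wt (13062145 &&& u) == j

/-- The stabiliser of an octad is a maximal proper subgroup of the group of the length-24 code. -/
theorem result (o : Finset Cfsg.GolayPt) (ho : o ∈ Cfsg.octads) : IsCoatom (MulAction.stabilizer Cfsg.M24 o) := by
  have htr : ∀ x ∈ Cfsg.octads, ∃ g : M24, g • o = x := fun x hx => by
    obtain ⟨a, ha⟩ := exists_smul_octad ho
    obtain ⟨b, hb⟩ := exists_smul_octad hx
    exact ⟨b * a⁻¹, by rw [mul_smul, ← ha, inv_smul_smul, hb]⟩
  refine GolayStabCoatom.isCoatom_stabilizer o Cfsg.octads octads_inv ho ?_ ?_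
  · obtain ⟨x, hx, hx0⟩ := exists_of_ncard (count_octad_inter ho 0 30 (by decide +kernel)) (by norm_num)
    obtain ⟨g, rfl⟩ := htr x hx
    refine ⟨g, fun e => ?_⟩
    rw [e, Finset.inter_self, ho.2] at hx0
    exact absurd hx0 (by norm_num)
  rintro O hOU hoO ⟨x, hx, hxo⟩ hclose
  have R : ∀ {i : ℕ}, (∃ x ∈ O, (o ∩ x).card = i) →
      ∀ t ∈ O, ∀ u ∈ Cfsg.octads, (t ∩ u).card = i → u ∈ O := by
    rintro i ⟨x, hx, rfl⟩ t ht u hu he
    exact GolayStabCoatom.closed_of_separate (fun s t => (s ∩ t).card) octads_inv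
      (fun g s t => card_inter_smul g s t)
      (fun x hx y hy e => by
        obtain ⟨g, hg⟩ := octad_separate ho x hx y hy e
        exact ⟨(g : M24), MulAction.mem_stabilizer_iff.1 g.2, hg⟩)
      htr hOU hoO hclose hx ht hu he
  have step : ∀ {i j : ℕ}, (∃ x ∈ O, (o ∩ x).card = i) →
      (∃ t ∈ Cfsg.octads, ∃ u ∈ Cfsg.octads, (o ∩ t).card = i ∧ (t ∩ u).card = i ∧
        (o ∩ u).card = j) → ∃ x ∈ O, (o ∩ x).card = j := by
    rintro i j hi ⟨t, ht, u, hu, h1, h2, h3⟩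
    exact ⟨u, R hi t (R hi o hoO t ht h1) u hu h2, h3⟩
  obtain ⟨a, ha⟩ := exists_smul_octad ho
  have W : ∀ {i j : ℕ} (t u : ℕ), witCheck i j t u = true →
      ∃ t ∈ Cfsg.octads, ∃ u ∈ Cfsg.octads, (o ∩ t).card = i ∧ (t ∩ u).card = i ∧
        (o ∩ u).card = j := by
    intro i j t u h
    simp only [witCheck, Bool.and_eq_true, beq_iff_eq] at h
    obtain ⟨⟨⟨⟨⟨⟨tc, tw⟩, uc⟩, uw⟩, h1⟩, h2⟩, h3⟩ := h
    refine ⟨a • mset t, octads_inv a _ ((mset_mem_octads (inCode_lt tc)).2 ⟨tc, tw⟩),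
      a • mset u, octads_inv a _ ((mset_mem_octads (inCode_lt uc)).2 ⟨uc, uw⟩), ?_, ?_, ?_⟩ <;>
      simp only [← ha, card_inter_smul, ← mset_and, card_mset]
    exacts [h1, h2, h3]
  have all : (∃ x ∈ O, (o ∩ x).card = 0) ∧ (∃ x ∈ O, (o ∩ x).card = 2) ∧
      ∃ x ∈ O, (o ∩ x).card = 4 := by
    have f42 := fun h => step (i := 4) (j := 2) h (W 4845570 2207772 (by decide +kernel))
    have f40 := fun h => step (i := 4) (j := 0) h (W 4845570 1613974 (by decide +kernel))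
    rcases GolayHeptad.inter_cases ho (hOU hx) with hk | hk | hk | hk
    · have h4 := step (j := 4) ⟨x, hx, hk⟩ (W 1613974 6750560 (by decide +kernel))
      exact ⟨⟨x, hx, hk⟩, f42 h4, h4⟩
    · have h4 := step (j := 4) ⟨x, hx, hk⟩ (W 12222476 4845570 (by decide +kernel))
      exact ⟨f40 h4, ⟨x, hx, hk⟩, h4⟩
    · exact ⟨f40 ⟨x, hx, hk⟩, f42 ⟨x, hx, hk⟩, ⟨x, hx, hk⟩⟩
    · exact absurd (GolayHeptad.eq_of_inter_eight ho (hOU hx) hk) hxo
  intro u hu
  rcases GolayHeptad.inter_cases ho hu with hk | hk | hk | hk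
  · exact R all.1 o hoO u hu hk
  · exact R all.2.1 o hoO u hu hk
  · exact R all.2.2 o hoO u hu hk
  · rw [GolayHeptad.eq_of_inter_eight ho hu hk]; exact hoO

end Cfsg.Agent.S1565
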