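import Cfsg.Statements.S1566
import Cfsg.Agent.Lib.GolayStabCoatom
-- import your own Cfsg.Agent.* helpers here

set_option autoImplicit false
open scoped Pointwise
open Cfsg

namespace Cfsg.Agent.S1566

open Cfsg.Agent.GolayBasic Cfsg.Agent.GolayPerm Cfsg.Agent.GolayCount Cfsg.Agent.GolayOrbitThms

/-- the intersection numbers of two families -/
def rel (X Y : Finset (Finset Cfsg.GolayPt)) : Finset ℕ := (X ×ˢ Y).image fun p => (p.1 ∩ p.2).card

/-- two dodecads in a chain from the standard one; an intersection number counts up to complement -/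
def witCheck (i j t u : ℕ) : Bool :=
  inCode t && wt t == 12 && inCode u && wt u == 12 && wt (340831 &&& t) == i && wt (t &&& u) == i &&
    wt (340831 &&& u) == j

/-- a witness mask -/
def wit4t : ℕ := 16748578

/-- a witness mask -/
def wit4u : ℕ := 11690445

/-- a witness mask -/
def wit6t : ℕ := 8245261

/-- a witness mask -/
def wit6u : ℕ := 15900839

theorem smul_compl_set (g : M24) (e : Finset Cfsg.GolayPt) : g • eᶜ = (g • e)ᶜ := by
  show (g : Equiv.Perm Cfsg.GolayPt) • eᶜ = ((g : Equiv.Perm Cfsg.GolayPt) • e)ᶜ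
  rw [Finset.compl_eq_univ_sdiff, Finset.smul_finset_sdiff, Finset.smul_finset_univ,
    ← Finset.compl_eq_univ_sdiff]

theorem smul_pair (g : M24) (e : Finset Cfsg.GolayPt) :
    g • ({e, eᶜ} : Finset (Finset Cfsg.GolayPt)) = {g • e, (g • e)ᶜ} := by
  rw [Finset.smul_finset_insert, Finset.smul_finset_singleton, smul_compl_set]

theorem rel_smul (g : M24) (X Y : Finset (Finset Cfsg.GolayPt)) : rel (g • X) (g • Y) = rel X Y := by
  ext k
  simp only [rel, Finset.mem_image, Finset.mem_product, Prod.exists, Finset.mem_smul_finset]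
  constructor
  · rintro ⟨_, _, ⟨⟨p, hp, rfl⟩, q, hq, rfl⟩, rfl⟩
    exact ⟨p, q, ⟨hp, hq⟩, (card_inter_smul g p q).symm⟩
  · rintro ⟨p, q, ⟨hp, hq⟩, rfl⟩
    exact ⟨g • p, g • q, ⟨⟨p, hp, rfl⟩, q, hq, rfl⟩, card_inter_smul g p q⟩

theorem compl_dodecad {e : Finset Cfsg.GolayPt} (he : e ∈ Cfsg.dodecads) : eᶜ ∈ Cfsg.dodecads :=
  ⟨GolayBasic.compl_mem_supports he.1, by
    rw [Finset.card_compl, he.2]; simp [Cfsg.GolayPt]⟩

theorem rel_parts {d e : Finset Cfsg.GolayPt} (hd : d ∈ Cfsg.dodecads) (he : e ∈ Cfsg.dodecads) :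
    (d ∩ e).card + (d ∩ eᶜ).card = 12 ∧ (dᶜ ∩ e).card + (d ∩ e).card = 12 ∧
      (dᶜ ∩ eᶜ).card + (dᶜ ∩ e).card = 12 := by
  have h1 := Finset.card_sdiff_add_card_inter d e
  have h2 := Finset.card_sdiff_add_card_inter e d
  have h3 := Finset.card_sdiff_add_card_inter dᶜ e
  rw [Finset.sdiff_eq_inter_compl, hd.2] at h1
  rw [Finset.sdiff_eq_inter_compl, he.2, Finset.inter_comm e dᶜ, Finset.inter_comm e d] at h2
  rw [Finset.sdiff_eq_inter_compl, (compl_dodecad hd).2] at h3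
  exact ⟨by omega, h2, by omega⟩

theorem rel_eq {d e : Finset Cfsg.GolayPt} (hd : d ∈ Cfsg.dodecads) (he : e ∈ Cfsg.dodecads) :
    rel {d, dᶜ} {e, eᶜ} = {(d ∩ e).card, 12 - (d ∩ e).card} := by
  obtain ⟨h1, h2, h3⟩ := rel_parts hd he
  ext k
  simp only [rel, Finset.mem_image, Finset.mem_product, Finset.mem_insert, Finset.mem_singleton,
    Prod.exists]
  constructor
  · rintro ⟨p, q, ⟨rfl | rfl, rfl | rfl⟩, rfl⟩ <;> omega
  · rintro (rfl | rfl)
    · exact ⟨d, e, ⟨Or.inl rfl, Or.inl rfl⟩, rfl⟩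
    · exact ⟨d, eᶜ, ⟨Or.inl rfl, Or.inr rfl⟩, by omega⟩

theorem inter_cases_dodecad {d : Finset Cfsg.GolayPt} (hd : d ∈ Cfsg.dodecads) :
    ∀ e ∈ Cfsg.dodecads, (d ∩ e).card = 0 ∨ (d ∩ e).card = 4 ∨ (d ∩ e).card = 6 ∨
      (d ∩ e).card = 8 ∨ (d ∩ e).card = 12 := by
  obtain ⟨a, rfl⟩ := exists_smul_dodecad' hd
  intro e he
  obtain ⟨x, hx, hxe⟩ := mem_wordsOfWeight.1 (dodecads_inv a⁻¹ e he)
  have he' : e = a • mset (enc x) := by rw [hxe, smul_inv_smul]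
  rw [he', card_inter_smul, ← mset_and, card_mset]
  have key : ∀ x ∈ ofWeight 12, wt (340831 &&& enc x) = 0 ∨ wt (340831 &&& enc x) = 4 ∨
      wt (340831 &&& enc x) = 6 ∨ wt (340831 &&& enc x) = 8 ∨ wt (340831 &&& enc x) = 12 := by
    decide +kernel
  exact key x hx

theorem eq_of_inter {d e : Finset Cfsg.GolayPt} (hd : d ∈ Cfsg.dodecads) (he : e ∈ Cfsg.dodecads)
    (h : (d ∩ e).card = 12) : e = d := by
  have h1 : d ∩ e = d := Finset.eq_of_subset_of_card_le Finset.inter_subset_left (by rw [h, hd.2])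
  exact (Finset.eq_of_subset_of_card_le (Finset.inter_eq_left.1 h1) (by rw [he.2, hd.2])).symm

theorem eq_compl_of_disjoint {d e : Finset Cfsg.GolayPt} (hd : d ∈ Cfsg.dodecads)
    (he : e ∈ Cfsg.dodecads) (h : (d ∩ e).card = 0) : e = dᶜ := by
  refine Finset.eq_of_subset_of_card_le (fun z hz => ?_) (by rw [(compl_dodecad hd).2, he.2])
  rw [Finset.mem_compl]
  intro hzd
  have : z ∈ d ∩ e := Finset.mem_inter.2 ⟨hzd, hz⟩
  rw [Finset.card_eq_zero.1 h] at this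
  simp at this

/-- The setwise stabiliser of a dodecad together with its complement is a maximal proper subgroup of the group of the length-24 code. -/
theorem result (d : Finset Cfsg.GolayPt) (hd : d ∈ Cfsg.dodecads) : IsCoatom (MulAction.stabilizer Cfsg.M24 ({d, dᶜ} : Finset (Finset Cfsg.GolayPt))) := by
  obtain ⟨a, ha⟩ := exists_smul_dodecad' hd
  have hcase := inter_cases_dodecad hd
  have htr : ∀ e ∈ Cfsg.dodecads, ∃ g : M24, g • d = e := fun x hx => by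
    obtain ⟨b, hb⟩ := exists_smul_dodecad' hx
    exact ⟨b * a⁻¹, by rw [mul_smul, ← ha, inv_smul_smul, hb]⟩
  let U : Set (Finset (Finset Cfsg.GolayPt)) := {X | ∃ e ∈ Cfsg.dodecads, X = ({e, eᶜ} : Finset _)}
  have hU : ∀ g : M24, ∀ X ∈ U, g • X ∈ U := by
    rintro g _ ⟨e, he, rfl⟩
    exact ⟨g • e, dodecads_inv g e he, smul_pair g e⟩
  refine GolayStabCoatom.isCoatom_stabilizer _ U hU ⟨d, hd, rfl⟩ ?_ ?_
  · obtain ⟨x, hx, hx6⟩ := exists_of_ncard (count_dodecad_inter hd 6 1584 (by decide +kernel))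
      (by norm_num)
    obtain ⟨g, rfl⟩ := htr x hx
    refine ⟨g, fun e => ?_⟩
    rw [smul_pair] at e
    have hm : g • d ∈ ({d, dᶜ} : Finset (Finset Cfsg.GolayPt)) := e ▸ Finset.mem_insert_self _ _
    simp only [Finset.mem_insert, Finset.mem_singleton] at hm
    rcases hm with hm | hm <;> rw [hm] at hx6
    · rw [Finset.inter_self, hd.2] at hx6; exact absurd hx6 (by norm_num)
    · rw [Finset.inter_compl, Finset.card_empty] at hx6; exact absurd hx6 (by norm_num)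
  rintro O hOU haO ⟨X, hX, hXa⟩ hclose
  have htrU : ∀ Y ∈ U, ∃ g : M24, g • ({d, dᶜ} : Finset (Finset Cfsg.GolayPt)) = Y := by
    rintro _ ⟨e, he, rfl⟩
    obtain ⟨g, rfl⟩ := htr e he
    exact ⟨g, smul_pair g d⟩
  have hsep : ∀ x ∈ U, ∀ y ∈ U, rel {d, dᶜ} x = rel {d, dᶜ} y →
      ∃ g : M24, g • ({d, dᶜ} : Finset (Finset Cfsg.GolayPt)) = {d, dᶜ} ∧ g • x = y := by
    rintro _ ⟨e, he, rfl⟩ _ ⟨e', he', rfl⟩ h
    have hm : (d ∩ e).card ∈ rel {d, dᶜ} {e, eᶜ} :=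
      Finset.mem_image.2 ⟨(d, e), by simp, rfl⟩
    rw [h] at hm
    obtain ⟨⟨p, q⟩, hpq, hc⟩ := Finset.mem_image.1 hm
    simp only [Finset.mem_product, Finset.mem_insert, Finset.mem_singleton] at hpq
    have h12 := rel_parts hd he'
    obtain ⟨f, hfd, hf, hfc⟩ : ∃ f ∈ Cfsg.dodecads, ({f, fᶜ} : Finset _) = {e', e'ᶜ} ∧
        (d ∩ e).card = (d ∩ f).card := by
      have hcd := compl_dodecad he'
      have hswap : ({e'ᶜ, e'ᶜᶜ} : Finset (Finset Cfsg.GolayPt)) = {e', e'ᶜ} := by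
        rw [compl_compl, Finset.pair_comm]
      simp only at hc
      rcases hpq with ⟨h1 | h1, h2 | h2⟩ <;> rw [h1, h2] at hc
      · exact ⟨e', he', rfl, hc.symm⟩
      · exact ⟨e'ᶜ, hcd, hswap, hc.symm⟩
      · exact ⟨e'ᶜ, hcd, hswap, by omega⟩
      · exact ⟨e', he', rfl, by omega⟩
    obtain ⟨g, hg⟩ := dodecad_separate hd e he f hfd hfc
    refine ⟨(g : M24), ?_, ?_⟩
    · rw [smul_pair, MulAction.mem_stabilizer_iff.1 g.2]
    · rw [smul_pair, ← hf, ← hg]; rfl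
  have hrel : ∀ (g : M24) (x y : Finset (Finset Cfsg.GolayPt)), rel (g • x) (g • y) = rel x y :=
    rel_smul
  have R : ∀ {Y}, Y ∈ O → ∀ t ∈ O, ∀ u ∈ U, rel t u = rel {d, dᶜ} Y → u ∈ O :=
    fun hY t ht u hu he =>
      GolayStabCoatom.closed_of_separate rel hU hrel hsep htrU hOU haO hclose hY ht hu he
  have step : ∀ {i j : ℕ}, (∃ Y ∈ O, rel {d, dᶜ} Y = {i, 12 - i}) → (∀ t u, witCheck i j t u = true →
      ∃ Y ∈ O, rel {d, dᶜ} Y = {j, 12 - j}) := by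
    rintro i j ⟨Y, hY, hYi⟩ t u h
    simp only [witCheck, Bool.and_eq_true, beq_iff_eq] at h
    obtain ⟨⟨⟨⟨⟨⟨tc, tw⟩, uc⟩, uw⟩, h1⟩, h2⟩, h3⟩ := h
    have ht : a • mset t ∈ Cfsg.dodecads :=
      dodecads_inv a _ ((mset_mem_dodecads (inCode_lt tc)).2 ⟨tc, tw⟩)
    have hu : a • mset u ∈ Cfsg.dodecads :=
      dodecads_inv a _ ((mset_mem_dodecads (inCode_lt uc)).2 ⟨uc, uw⟩)
    refine ⟨{a • mset u, (a • mset u)ᶜ},
      R hY _ (R hY _ haO {a • mset t, (a • mset t)ᶜ} ⟨_, ht, rfl⟩ ?_) _ ⟨_, hu, rfl⟩ ?_, ?_⟩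
    · rw [hYi, rel_eq hd ht, ← ha, card_inter_smul, ← mset_and, card_mset, h1]
    · rw [hYi, rel_eq ht hu, card_inter_smul, ← mset_and, card_mset, h2]
    · rw [rel_eq hd hu, ← ha, card_inter_smul, ← mset_and, card_mset, h3]
  have all : (∃ Y ∈ O, rel {d, dᶜ} Y = {4, 12 - 4}) ∧ ∃ Y ∈ O, rel {d, dᶜ} Y = {6, 12 - 6} := by
    obtain ⟨e, he, rfl⟩ := hOU hX
    have self : rel {d, dᶜ} {e, eᶜ} = {(d ∩ e).card, 12 - (d ∩ e).card} := rel_eq hd he
    rcases hcase e he with hk | hk | hk | hk | hk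
    · refine absurd ?_ hXa
      have : e = dᶜ := eq_compl_of_disjoint hd he hk
      rw [this, compl_compl, Finset.pair_comm]
    · have h4 : ∃ Y ∈ O, rel {d, dᶜ} Y = {4, 12 - 4} := ⟨_, hX, by rw [self, hk]⟩
      exact ⟨h4, step h4 wit4t wit4u (by decide +kernel)⟩
    · have h6 : ∃ Y ∈ O, rel {d, dᶜ} Y = {6, 12 - 6} := ⟨_, hX, by rw [self, hk]⟩
      exact ⟨step h6 wit6t wit6u (by decide +kernel), h6⟩
    · have h4 : ∃ Y ∈ O, rel {d, dᶜ} Y = {4, 12 - 4} := ⟨_, hX, by rw [self, hk]; decide⟩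
      exact ⟨h4, step h4 wit4t wit4u (by decide +kernel)⟩
    · refine absurd ?_ hXa
      have : e = d := eq_of_inter hd he hk
      rw [this]
  rintro _ ⟨u, hu, rfl⟩
  obtain ⟨⟨Y4, hY4, e4⟩, Y6, hY6, e6⟩ := all
  rcases hcase u hu with hk | hk | hk | hk | hk
  · rw [eq_compl_of_disjoint hd hu hk, compl_compl, Finset.pair_comm]; exact haO
  · exact R hY4 _ haO _ ⟨u, hu, rfl⟩ (by rw [e4, rel_eq hd hu, hk])
  · exact R hY6 _ haO _ ⟨u, hu, rfl⟩ (by rw [e6, rel_eq hd hu, hk])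
  · exact R hY4 _ haO _ ⟨u, hu, rfl⟩ (by rw [e4, rel_eq hd hu, hk]; decide)
  · rw [eq_of_inter hd hu hk]; exact haO

end Cfsg.Agent.S1566
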