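import Cfsg.Statements.S1568
import Cfsg.Agent.Lib.LeechCount

set_option autoImplicit false
open Cfsg

namespace Cfsg.Agent.S1568

/-- Shape census of the lattice vectors of sum of squares 48 (customary norm 6): the four families (2^12, 0^12), (±3^3, ±1^21), (±4, ±2^8, 0^15) and (±5, ±1^23) have 5275648, 8290304, 3108864 and 98304 members. -/
theorem result : {x : Cfsg.GolayPt → ℤ | x ∈ Cfsg.leechLattice ∧ Cfsg.sqNorm x = 48 ∧ ∀ i, x i = 0 ∨ x i = 2 ∨ x i = -2}.ncard = 5275648 ∧ {x : Cfsg.GolayPt → ℤ | x ∈ Cfsg.leechLattice ∧ Cfsg.sqNorm x = 48 ∧ ∃ i j k, i ≠ j ∧ j ≠ k ∧ i ≠ k ∧ |x i| = 3 ∧ |x j| = 3 ∧ |x k| = 3}.ncard = 8290304 ∧ {x : Cfsg.GolayPt → ℤ | x ∈ Cfsg.leechLattice ∧ Cfsg.sqNorm x = 48 ∧ ∃ i, |x i| = 4}.ncard = 3108864 ∧ {x : Cfsg.GolayPt → ℤ | x ∈ Cfsg.leechLattice ∧ Cfsg.sqNorm x = 48 ∧ ∃ i, |x i| = 5}.ncard = 98304 := by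
  -- all norm-48 vectors have coordinates in `allVals`
  have hall : ∀ x : Cfsg.GolayPt → ℤ, Cfsg.sqNorm x = 48 → ∀ i, x i ∈ LeechCount.allVals :=
    fun x hx => LeechCount.mem_allVals_of_sqNorm (by omega)
  have hsub : ∀ vals : List ℤ, ∀ hnd : vals.Nodup,
      {x : Cfsg.GolayPt → ℤ | x ∈ Cfsg.leechLattice ∧ Cfsg.sqNorm x = 48 ∧ ∀ i, x i ∈ vals}.ncard =
        LeechCount.countLattice vals 48 := fun vals hnd => LeechCount.ncard_eq_countLattice vals hnd 48
  -- vectors having some coordinate of a given absolute value, by complement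
  have hex : ∀ (a : ℤ) (vals : List ℤ), vals.Nodup → (∀ v, v ∈ vals ↔ v ∈ LeechCount.allVals ∧ |v| ≠ a) →
      {x : Cfsg.GolayPt → ℤ | x ∈ Cfsg.leechLattice ∧ Cfsg.sqNorm x = 48 ∧ ∃ i, |x i| = a}.ncard =
        16773120 - LeechCount.countLattice vals 48 := by
    intro a vals hnd hv
    have htot : {x : Cfsg.GolayPt → ℤ | x ∈ Cfsg.leechLattice ∧ Cfsg.sqNorm x = 48}.ncard = 16773120 :=
      (LeechCount.ncard_norm 48 (by norm_num)).trans LeechCount.count_48
    have hfin : {x : Cfsg.GolayPt → ℤ | x ∈ Cfsg.leechLattice ∧ Cfsg.sqNorm x = 48}.Finite :=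
      Set.finite_of_ncard_ne_zero (by rw [htot]; norm_num)
    rw [← hsub vals hnd, ← htot, ← Set.ncard_sdiff' ?_ hfin]
    · congr 1
      ext x
      simp only [Set.mem_sdiff, Set.mem_setOf_eq]
      constructor
      · rintro ⟨h1, h2, i, hi⟩
        exact ⟨⟨h1, h2⟩, fun ⟨_, _, h⟩ => ((hv _).mp (h i)).2 hi⟩
      · rintro ⟨⟨h1, h2⟩, h⟩
        refine ⟨h1, h2, ?_⟩
        by_contra hne
        push Not at hne
        exact h ⟨h1, h2, fun i => (hv _).mpr ⟨hall x h2 i, hne i⟩⟩
    · exact fun x hx => ⟨hx.1, hx.2.1⟩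
  refine ⟨?_, ?_, ?_, ?_⟩
  · rw [show (5275648 : ℕ) = LeechCount.countLattice [2, -2, 0] 48 by decide +kernel,
      ← hsub _ (by decide)]
    congr 1
    ext x
    simp only [Set.mem_setOf_eq, List.mem_cons, List.not_mem_nil, or_false]
    refine and_congr_right fun _ => and_congr_right fun _ => forall_congr' fun i => ?_
    tauto
  · rw [show (8290304 : ℕ) = LeechCount.countLattice [3, -3, 1, -1] 48 by decide +kernel,
      ← hsub _ (by decide)]
    congr 1
    ext x
    simp only [Set.mem_setOf_eq, List.mem_cons, List.not_mem_nil, or_false]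
    refine and_congr_right fun hL => and_congr_right fun hn => ?_
    constructor
    · rintro ⟨i, j, k, hij, hjk, hik, hi, hj, hk⟩ l
      have hpar := (LeechBasic.mem_leechLattice.mp hL).1
      have hodd : ∀ l, x l % 2 = 1 := fun l => by
        have := hpar i; have := hpar l
        rcases abs_eq (by norm_num : (0:ℤ) ≤ 3) |>.mp hi with h | h <;> omega
      have hge : ∀ l, (0 : ℤ) ≤ x l ^ 2 - 1 := fun l => by
        have := hodd l
        have : x l ≠ 0 := by omega
        nlinarith [Int.one_le_abs this, sq_abs (x l), abs_nonneg (x l)]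
      have htot : ∑ l, (x l ^ 2 - 1) = 24 := by
        rw [Finset.sum_sub_distrib]
        have : ∑ l, x l ^ 2 = 48 := hn
        rw [this]; simp
      have h9 : ∀ l, |x l| = 3 → x l ^ 2 - 1 = 8 := fun l hl => by rw [← sq_abs, hl]; norm_num
      by_cases h3 : |x l| = 3
      · rcases abs_eq (by norm_num : (0:ℤ) ≤ 3) |>.mp h3 with h | h <;> omega
      · have hli : l ≠ i := fun h => h3 (h ▸ hi)
        have hlj : l ≠ j := fun h => h3 (h ▸ hj)
        have hlk : l ≠ k := fun h => h3 (h ▸ hk)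
        have := Finset.sum_le_sum_of_subset_of_nonneg (f := fun l => x l ^ 2 - 1)
          (Finset.subset_univ ({l, i, j, k} : Finset Cfsg.GolayPt)) (fun l _ _ => hge l)
        rw [Finset.sum_insert (by simp [hli, hlj, hlk]), Finset.sum_insert (by simp [hij, hik]),
          Finset.sum_pair hjk, htot, h9 i hi, h9 j hj, h9 k hk] at this
        have hsq : x l ^ 2 = 1 := by have := hge l; omega
        rcases sq_eq_one_iff.mp hsq with h | h <;> omega
    · intro h
      let T := Finset.univ.filter fun l => |x l| = 3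
      have hc : T.card = 3 := by
        have hsum : ∑ l, x l ^ 2 = 48 := hn
        have hl : ∀ l, x l ^ 2 = 1 + 8 * (if |x l| = 3 then 1 else 0) := fun l => by
          rcases h l with h' | h' | h' | h' <;> simp [h']
        rw [Finset.sum_congr rfl (fun l _ => hl l), Finset.sum_add_distrib, ← Finset.mul_sum,
          Finset.sum_boole] at hsum
        simp at hsum
        show (Finset.univ.filter fun l => |x l| = 3).card = 3
        omega
      obtain ⟨i, j, k, hij, hik, hjk, hT⟩ := Finset.card_eq_three.mp hc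
      have hm : ∀ l ∈ T, |x l| = 3 := fun l hl => (Finset.mem_filter.mp hl).2
      exact ⟨i, j, k, hij, hjk, hik, hm i (by simp [hT]), hm j (by simp [hT]), hm k (by simp [hT])⟩
  · rw [hex 4 [8, -8, 7, -7, 6, -6, 5, -5, 3, -3, 2, -2, 1, -1, 0] (by decide)]
    · decide +kernel
    · intro v
      simp only [LeechCount.allVals, List.mem_cons, List.not_mem_nil, or_false, ne_eq, abs_eq (by norm_num : (0:ℤ) ≤ 4)]
      omega
  · rw [hex 5 [8, -8, 7, -7, 6, -6, 4, -4, 3, -3, 2, -2, 1, -1, 0] (by decide)]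
    · decide +kernel
    · intro v
      simp only [LeechCount.allVals, List.mem_cons, List.not_mem_nil, or_false, ne_eq, abs_eq (by norm_num : (0:ℤ) ≤ 5)]
      omega

end Cfsg.Agent.S1568
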