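import Cfsg.Statements.S1573
import Cfsg.Agent.Lib.LeechCertBase
import Cfsg.Agent.Lib.LeechCertOrbA

set_option autoImplicit false
open Cfsg
open Cfsg.Agent.LeechBasic Cfsg.Agent.LeechAut Cfsg.Agent.LeechOrbit Cfsg.Agent.LeechCert

namespace Cfsg.Agent.S1573

/-- Census of minimal vectors by inner product with a fixed minimal vector: 4600 have customary inner product −2, 47104 have −1, and 93150 are orthogonal. -/
theorem result (v : Cfsg.GolayPt → ℤ) (hv : v ∈ Cfsg.leechLattice) (hvn : Cfsg.sqNorm v = 32) : {w : Cfsg.GolayPt → ℤ | w ∈ Cfsg.leechLattice ∧ Cfsg.sqNorm w = 32 ∧ Cfsg.dotInt v w = -16}.ncard = 4600 ∧ {w : Cfsg.GolayPt → ℤ | w ∈ Cfsg.leechLattice ∧ Cfsg.sqNorm w = 32 ∧ Cfsg.dotInt v w = -8}.ncard = 47104 ∧ {w : Cfsg.GolayPt → ℤ | w ∈ Cfsg.leechLattice ∧ Cfsg.sqNorm w = 32 ∧ Cfsg.dotInt v w = 0}.ncard = 93150 := by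
  obtain ⟨h, hh⟩ := exists_smul_eq (v := ⟨v, hv⟩) (Or.inl rfl) hvn
    (show sqNorm ((Spor.leechU : leechLattice) : GolayPt → ℤ) = (32 : ℕ) by decide +kernel)
  have key : ∀ d : ℤ, {w : GolayPt → ℤ | w ∈ leechLattice ∧ sqNorm w = 32 ∧ dotInt v w = d}.ncard =
      (census (cU, c0, c0) 32 (d, 0, 0)).ncard := by
    intro d
    rw [ncard_coe (fun w => sqNorm w = 32 ∧ dotInt v w = d)]
    refine ncard_of_smul h fun x => ?_
    rw [mem_census₁, sqNorm_smul, dotInt_eq_of_smul hh coe_leechU]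
    rfl
  exact ⟨(key (-16)).trans LeechCert.OrbA.ncard, (key (-8)).trans LeechCert.Fix1.ncard_neg_eight,
    (key 0).trans LeechCert.Fix1.ncard_orth⟩

end Cfsg.Agent.S1573
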