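import Cfsg.Statements.S1574
import Cfsg.Agent.Lib.LeechCertBase
import Cfsg.Agent.Lib.LeechCertOrbA

set_option autoImplicit false
open Cfsg
open Cfsg.Agent.LeechBasic Cfsg.Agent.LeechAut Cfsg.Agent.LeechOrbit Cfsg.Agent.LeechCert

namespace Cfsg.Agent.S1574

/-- The stabiliser of a minimal vector is transitive on the minimal vectors of customary inner product −2 with it. -/
theorem result (v w w' : ↥Cfsg.leechLattice) (hv : Cfsg.sqNorm (v : Cfsg.GolayPt → ℤ) = 32) (hw : Cfsg.sqNorm (w : Cfsg.GolayPt → ℤ) = 32) (hw' : Cfsg.sqNorm (w' : Cfsg.GolayPt → ℤ) = 32) (hd : Cfsg.dotInt (v : Cfsg.GolayPt → ℤ) (w : Cfsg.GolayPt → ℤ) = -16) (hd' : Cfsg.dotInt (v : Cfsg.GolayPt → ℤ) (w' : Cfsg.GolayPt → ℤ) = -16) : ∃ g : ↥Cfsg.Co0, g • v = v ∧ g • w = w' := by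
  obtain ⟨h, hh⟩ := exists_smul_eq (Or.inl rfl) hv (show sqNorm ((Spor.leechU : leechLattice) : GolayPt → ℤ) = (32 : ℕ) by decide +kernel)
  have hr : LeechXi.isL (vec LeechCert.OrbA.root) = true := by decide +kernel
  have hmem : ∀ x : leechLattice, sqNorm (x : GolayPt → ℤ) = 32 → dotInt (v : GolayPt → ℤ) x = -16 →
      h • x ∈ census (cU, c0, c0) 32 (-16, 0, 0) := fun x h1 h2 => mem_census₁.mpr
    ⟨by rw [sqNorm_smul]; exact h1, by rw [dotInt_eq_of_smul hh coe_leechU]; exact h2⟩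
  obtain ⟨g, hg, hgw⟩ := exists_fixes_smul LeechCert.OrbA.cert LeechCert.OrbA.ncard (by norm_num) (by norm_num)
    (a := Spor.leechU) (b := 0) (c := 0) coe_leechU coe_zero_vec coe_zero_vec (r := ofCode _ hr) rfl
    (mem_census₁.mpr (by rw [coe_ofCode]; decide +kernel)) (hmem w hw hd) (hmem w' hw' hd')
  refine ⟨h⁻¹ * g * h, ?_, ?_⟩
  · rw [mul_smul, mul_smul, hh, fixes₁ hg coe_leechU, inv_smul_eq_iff, hh]
  · rw [mul_smul, mul_smul, hgw, inv_smul_smul]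

end Cfsg.Agent.S1574
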