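import Cfsg.Statements.S1577
import Cfsg.Agent.Lib.LeechUnitaryStab
import Cfsg.Agent.Lib.LeechUnitary62
import Cfsg.Agent.Lib.LeechCertOrbA

set_option autoImplicit false
open Cfsg
open Cfsg.Agent.GolayBasic Cfsg.Agent.LeechBasic Cfsg.Agent.LeechAut Cfsg.Agent.LeechXi Cfsg.Agent.LeechOrbit
open Cfsg.Agent.LeechCert Cfsg.Agent.LeechPairs Cfsg.Agent.LeechImage

namespace Cfsg.Agent.S1577

/-- The joint stabiliser of two minimal vectors of customary inner product −2 is isomorphic to PSU(6, 2). -/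
theorem result (v w : ↥Cfsg.leechLattice) (hv : Cfsg.sqNorm (v : Cfsg.GolayPt → ℤ) = 32) (hw : Cfsg.sqNorm (w : Cfsg.GolayPt → ℤ) = 32) (hd : Cfsg.dotInt (v : Cfsg.GolayPt → ℤ) (w : Cfsg.GolayPt → ℤ) = -16) (F : Type) [Field F] [Fintype F] (hF : Fintype.card F = 4) : Nonempty (↥(MulAction.stabilizer ↥Cfsg.Co0 v ⊓ MulAction.stabilizer ↥Cfsg.Co0 w) ≃* Cfsg.PSU 6 F 2) := by
  obtain ⟨h₁, hh₁⟩ := exists_smul_eq (Or.inl rfl) hv (w := Spor.leechU) (by decide +kernel)
  have hr : LeechXi.isL (vec LeechCert.OrbA.root) = true := by decide +kernel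
  set r : leechLattice := ofCode _ hr with hrdef
  have hrm : r ∈ census (cU, c0, c0) 32 (-16, 0, 0) := mem_census₁.mpr (by rw [hrdef, coe_ofCode]; decide +kernel)
  have htr : ∀ {x y : leechLattice}, x ∈ census (cU, c0, c0) 32 (-16, 0, 0) →
      y ∈ census (cU, c0, c0) 32 (-16, 0, 0) → ∃ g : Co0, Fixes (cU, c0, c0) g ∧ g • x = y := fun hx hy =>
    exists_fixes_smul LeechCert.OrbA.cert LeechCert.OrbA.ncard (by norm_num) (by norm_num)
      (a := Spor.leechU) (b := 0) (c := 0) coe_leechU coe_zero_vec coe_zero_vec (r := r) rfl hrm hx hy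
  obtain ⟨g, hg, hgw⟩ := htr (x := h₁ • w)
    (mem_census₁.mpr ⟨by rw [sqNorm_smul]; exact hw, (dotInt_eq_of_smul hh₁ coe_leechU _).trans hd⟩) hrm
  obtain ⟨e₁⟩ := LeechUnitaryStab.nonempty_conj (g * h₁) (MulAction.stabilizer Co0 v ⊓ MulAction.stabilizer Co0 w)
    (c := (0 : leechLattice)) (a' := Spor.leechU) (b' := r) (c' := (0 : leechLattice))
    (by rw [mul_smul, hh₁]; exact fixes₁ hg coe_leechU) (by rw [mul_smul, hgw]) (smul_zero_vec _)
    (fun k => by
      rw [Subgroup.mem_inf, MulAction.mem_stabilizer_iff, MulAction.mem_stabilizer_iff]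
      exact and_congr_right fun _ => (and_iff_left (smul_zero_vec k)).symm)
  have h0 : ∀ k : Co0, k • (0 : leechLattice) = 0 := fun k => smul_zero_vec k
  have hcard : Nat.card ↥(stab3 Spor.leechU r (0 : leechLattice)) = 9196830720 := by
    have h1 := LeechUnitaryStab.census_mul_card (F := (cU, c0, c0)) (a := Spor.leechU) (b := (0 : leechLattice))
      (c := (0 : leechLattice)) coe_leechU coe_zero_vec coe_zero_vec (y := r) (fun z hz => htr hrm hz) hrm
    have e₂ : stab3 Spor.leechU (0 : leechLattice) 0 ⊓ MulAction.stabilizer Co0 r = stab3 Spor.leechU r 0 := by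
      ext k; simp [h0 k]
    have e₃ : stab3 Spor.leechU (0 : leechLattice) 0 = MulAction.stabilizer Co0 Spor.leechU := by
      ext k; simp [h0 k]
    rw [show (census (cU, c0, c0) 32 (-16, 0, 0)).ncard = 4600 from LeechCert.OrbA.ncard, e₂, e₃,
      LeechCertOrders.card_stab_norm32 (v := Spor.leechU) (by decide +kernel)] at h1
    omega
  obtain ⟨e₄⟩ := LeechUnitary62.nonempty_stab_iso (a := Spor.leechU) (b := r) (c := (0 : leechLattice))
    coe_leechU rfl coe_zero_vec hcard F hF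
  exact ⟨e₁.trans e₄⟩

end Cfsg.Agent.S1577
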