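import Cfsg.Statements.S1578
import Cfsg.Agent.Lib.LeechPairs

set_option autoImplicit false
open Cfsg
open Cfsg.Agent.LeechBasic Cfsg.Agent.LeechAut Cfsg.Agent.LeechOrbit Cfsg.Agent.LeechCert Cfsg.Agent.LeechPairs

namespace Cfsg.Agent.S1578

/-- A lattice vector of customary norm 6 is the sum of an unordered pair of minimal vectors in exactly 276 ways (552 ordered summands). -/
theorem result (u : ↥Cfsg.leechLattice) (hu : Cfsg.sqNorm (u : Cfsg.GolayPt → ℤ) = 48) : {v : ↥Cfsg.leechLattice | Cfsg.sqNorm (v : Cfsg.GolayPt → ℤ) = 32 ∧ Cfsg.sqNorm ((u - v) : Cfsg.GolayPt → ℤ) = 32}.ncard = 552 := by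
  obtain ⟨h, hh⟩ := move48 hu
  rw [ncard_of_smul (S := census (cV, c0, c0) 32 (24, 0, 0)) h]
  · exact LeechCert.OrbB.ncard
  · intro x
    rw [mem_census₁, sqNorm_smul, dotInt_eq_of_smul hh coe_leechV]
    exact and_congr_right fun hx => sqNorm_sub_eq_iff hu hx

end Cfsg.Agent.S1578
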