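import Cfsg.Statements.S1583
import Cfsg.Agent.Lib.LeechPairs
import Cfsg.Agent.Lib.LeechCertOrbF

set_option autoImplicit false
open Cfsg
open Cfsg.Agent.LeechBasic Cfsg.Agent.LeechAut Cfsg.Agent.LeechOrbit Cfsg.Agent.LeechCert Cfsg.Agent.LeechPairs

namespace Cfsg.Agent.S1583

/-- The Higman–Sims configuration: for two vectors of customary norm 6 with inner product −4, exactly 100 minimal vectors have customary inner products 3 and −3 with them, and the joint stabiliser permutes these transitively. -/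
theorem result (v w : ↥Cfsg.leechLattice) (hv : Cfsg.sqNorm (v : Cfsg.GolayPt → ℤ) = 48) (hw : Cfsg.sqNorm (w : Cfsg.GolayPt → ℤ) = 48) (hvw : Cfsg.dotInt (v : Cfsg.GolayPt → ℤ) (w : Cfsg.GolayPt → ℤ) = -32) : {x : ↥Cfsg.leechLattice | Cfsg.sqNorm (x : Cfsg.GolayPt → ℤ) = 32 ∧ Cfsg.dotInt (v : Cfsg.GolayPt → ℤ) (x : Cfsg.GolayPt → ℤ) = 24 ∧ Cfsg.dotInt (w : Cfsg.GolayPt → ℤ) (x : Cfsg.GolayPt → ℤ) = -24}.ncard = 100 ∧ ∀ x ∈ {x : ↥Cfsg.leechLattice | Cfsg.sqNorm (x : Cfsg.GolayPt → ℤ) = 32 ∧ Cfsg.dotInt (v : Cfsg.GolayPt → ℤ) (x : Cfsg.GolayPt → ℤ) = 24 ∧ Cfsg.dotInt (w : Cfsg.GolayPt → ℤ) (x : Cfsg.GolayPt → ℤ) = -24}, ∀ x' ∈ {x : ↥Cfsg.leechLattice | Cfsg.sqNorm (x : Cfsg.GolayPt → ℤ) = 32 ∧ Cfsg.dotInt (v : Cfsg.GolayPt → ℤ) (x : Cfsg.GolayPt → ℤ) = 24 ∧ Cfsg.dotInt (w : Cfsg.GolayPt → ℤ) (x : Cfsg.GolayPt → ℤ) = -24}, ∃ g : ↥Cfsg.Co0, g • v = v ∧ g • w = w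 ∧ g • x = x' := by
  obtain ⟨h, h1, h2⟩ := pairHS hv hw hvw
  have hr : LeechXi.isL (vec LeechCert.OrbF.root) = true := by decide +kernel
  have hiff : ∀ x : leechLattice, (sqNorm (x : GolayPt → ℤ) = 32 ∧ dotInt (v : GolayPt → ℤ) x = 24 ∧
      dotInt (w : GolayPt → ℤ) x = -24) ↔ h • x ∈ census (cV, cW, c0) 32 (24, -24, 0) := fun x => by
    rw [mem_census₂, sqNorm_smul, dotInt_eq_of_smul h1 coe_leechV, dotInt_eq_of_smul h2 coe_negVU']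
    rfl
  refine ⟨(ncard_of_smul h hiff).trans LeechCert.OrbF.ncard, fun x hx x' hx' => ?_⟩
  obtain ⟨g, hg, hgx⟩ := exists_fixes_smul LeechCert.OrbF.cert LeechCert.OrbF.ncard (by norm_num) (by norm_num)
    (a := Spor.leechV) (b := -(Spor.leechV + Spor.leechU')) (c := 0) coe_leechV coe_negVU' coe_zero_vec
    (r := ofCode _ hr) rfl
    (mem_census₂.mpr (by rw [coe_ofCode]; decide +kernel)) ((hiff x).mp hx) ((hiff x').mp hx')
  exact ⟨h⁻¹ * g * h, by rw [mul_smul, mul_smul, h1, hg _ (Or.inl coe_leechV), inv_smul_eq_iff, h1],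
    by rw [mul_smul, mul_smul, h2, hg _ (Or.inr (Or.inl coe_negVU')), inv_smul_eq_iff, h2],
    by rw [mul_smul, mul_smul, hgx, inv_smul_smul]⟩

end Cfsg.Agent.S1583
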