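import Cfsg.Statements.S1584
import Cfsg.Agent.Lib.LeechPairs
import Cfsg.Agent.Lib.LeechCertOrbF
import Cfsg.Agent.Lib.LeechCertOrbGa
import Cfsg.Agent.Lib.LeechCertOrbGb

set_option autoImplicit false
open Cfsg
open Cfsg.Agent.LeechBasic Cfsg.Agent.LeechAut Cfsg.Agent.LeechOrbit Cfsg.Agent.LeechCert Cfsg.Agent.LeechPairs

namespace Cfsg.Agent.S1584

/-- The Higman–Sims group acts with rank 3 and subdegrees 1, 22, 77 on its 100 points, the orbits of a point stabiliser being distinguished by customary inner product 1 with the fixed point. -/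
theorem result (v w x : ↥Cfsg.leechLattice) (hv : Cfsg.sqNorm (v : Cfsg.GolayPt → ℤ) = 48) (hw : Cfsg.sqNorm (w : Cfsg.GolayPt → ℤ) = 48) (hvw : Cfsg.dotInt (v : Cfsg.GolayPt → ℤ) (w : Cfsg.GolayPt → ℤ) = -32) (hx : x ∈ {x : ↥Cfsg.leechLattice | Cfsg.sqNorm (x : Cfsg.GolayPt → ℤ) = 32 ∧ Cfsg.dotInt (v : Cfsg.GolayPt → ℤ) (x : Cfsg.GolayPt → ℤ) = 24 ∧ Cfsg.dotInt (w : Cfsg.GolayPt → ℤ) (x : Cfsg.GolayPt → ℤ) = -24}) : {y : ↥Cfsg.leechLattice | y ∈ {x : ↥Cfsg.leechLattice | Cfsg.sqNorm (x : Cfsg.GolayPt → ℤ) = 32 ∧ Cfsg.dotInt (v : Cfsg.GolayPt → ℤ) (x : Cfsg.GolayPt → ℤ) = 24 ∧ Cfsg.dotInt (w : Cfsg.GolayPt → ℤ) (x : Cfsg.GolayPt → ℤ) = -24} ∧ Cfsg.dotInt (x : Cfsg.GolayPt → ℤ) (y : Cfsg.GolayPt → ℤ) = 8}.ncard = 22 ∧ {y : ↥Cfsg.leechLattice | y ∈ {x : ↥Cfsg.leechLattice | Cfsg.sqNorm (x : Cfsg.GolayPt → ℤ) = 32 ∧ Cfsg.dotInt (v : Cfsg.GolayPt → ℤ) (x : Cfsg.GolayPt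 → ℤ) = 24 ∧ Cfsg.dotInt (w : Cfsg.GolayPt → ℤ) (x : Cfsg.GolayPt → ℤ) = -24} ∧ y ≠ x ∧ Cfsg.dotInt (x : Cfsg.GolayPt → ℤ) (y : Cfsg.GolayPt → ℤ) ≠ 8}.ncard = 77 ∧ ∀ y ∈ {x : ↥Cfsg.leechLattice | Cfsg.sqNorm (x : Cfsg.GolayPt → ℤ) = 32 ∧ Cfsg.dotInt (v : Cfsg.GolayPt → ℤ) (x : Cfsg.GolayPt → ℤ) = 24 ∧ Cfsg.dotInt (w : Cfsg.GolayPt → ℤ) (x : Cfsg.GolayPt → ℤ) = -24}, ∀ y' ∈ {x : ↥Cfsg.leechLattice | Cfsg.sqNorm (x : Cfsg.GolayPt → ℤ) = 32 ∧ Cfsg.dotInt (v : Cfsg.GolayPt → ℤ) (x : Cfsg.GolayPt → ℤ) = 24 ∧ Cfsg.dotInt (w : Cfsg.GolayPt → ℤ) (x : Cfsg.GolayPt → ℤ) = -24}, y ≠ x → y' ≠ x → (Cfsg.dotInt (x : Cfsg.GolayPt → ℤ) (y : Cfsg.GolayPt → ℤ) = 8 ↔ Cfsg.dotInt (x : Cfsg.GolayPt → ℤ) (y' : Cfsg.GolayPt → ℤ) = 8) → ∃ g : ↥Cfsg.Co0, g • v = v ∧ g • w = w ∧ g • x = x ∧ g • y = y' := by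
  obtain ⟨hx32, hxv, hxw⟩ := hx
  obtain ⟨h₀, p1, p2⟩ := pairHS hv hw hvw
  have hr : LeechXi.isL (vec LeechCert.OrbF.root) = true := by decide +kernel
  have hra : LeechXi.isL (vec LeechCert.OrbGa.root) = true := by decide +kernel
  have hrb : LeechXi.isL (vec LeechCert.OrbGb.root) = true := by decide +kernel
  set r : leechLattice := ofCode _ hr
  have hrm : r ∈ census (cV, cW, c0) 32 (24, -24, 0) := mem_census₂.mpr (by rw [coe_ofCode]; decide +kernel)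
  obtain ⟨g₀, q1, q2⟩ := exists_fixes_smul LeechCert.OrbF.cert LeechCert.OrbF.ncard (by norm_num) (by norm_num)
    (a := Spor.leechV) (b := -(Spor.leechV + Spor.leechU')) (c := 0) coe_leechV coe_negVU' coe_zero_vec (r := r) rfl
    hrm (x := h₀ • x) (mem_census₂.mpr ⟨by rw [sqNorm_smul]; exact hx32,
      (dotInt_eq_of_smul p1 coe_leechV _).trans hxv,
      (dotInt_eq_of_smul p2 coe_negVU' _).trans hxw⟩) hrm
  obtain ⟨h, h1, h2, h3⟩ : ∃ h : Co0, h • v = Spor.leechV ∧ h • w = -(Spor.leechV + Spor.leechU') ∧ h • x = r :=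
    ⟨g₀ * h₀, by rw [mul_smul, p1, q1 _ (Or.inl coe_leechV)],
      by rw [mul_smul, p2, q1 _ (Or.inr (Or.inl coe_negVU'))], by rw [mul_smul, q2]⟩
  clear g₀ q1 q2 h₀ p1 p2
  let Q : leechLattice → Prop := fun y => sqNorm (y : GolayPt → ℤ) = 32 ∧
    dotInt (v : GolayPt → ℤ) y = 24 ∧ dotInt (w : GolayPt → ℤ) y = -24
  have hiff : ∀ y, Q y ↔ h • y ∈ census (cV, cW, c0) 32 (24, -24, 0) := fun y => by
    rw [mem_census₂, sqNorm_smul, dotInt_eq_of_smul h1 coe_leechV, dotInt_eq_of_smul h2 coe_negVU']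
    rfl
  have hiff3 : ∀ (k : ℤ) (y : leechLattice), (Q y ∧ dotInt (x : GolayPt → ℤ) y = k) ↔
      h • y ∈ census (cV, cW, LeechCert.OrbF.root) 32 (24, -24, k) := fun k y => by
    rw [mem_census₃, hiff y, mem_census₂, dotInt_eq_of_smul h3 (coe_ofCode _ hr), and_assoc, and_assoc]
  have hA : {y : leechLattice | Q y ∧ dotInt (x : GolayPt → ℤ) y = 8}.ncard = 22 :=
    (ncard_of_smul h (hiff3 8)).trans LeechCert.OrbGa.ncard
  have hB : {y : leechLattice | Q y ∧ dotInt (x : GolayPt → ℤ) y = 16}.ncard = 77 :=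
    (ncard_of_smul h (hiff3 16)).trans LeechCert.OrbGb.ncard
  have hxx : dotInt (x : GolayPt → ℤ) x = 32 := by
    rw [← hx32, sqNorm, dotInt]; exact Finset.sum_congr rfl fun i _ => (sq _).symm
  have hS : {y : leechLattice | Q y}.ncard = 100 := (ncard_of_smul h hiff).trans LeechCert.OrbF.ncard
  have hcov : ∀ y, Q y → y ≠ x → dotInt (x : GolayPt → ℤ) y = 8 ∨ dotInt (x : GolayPt → ℤ) y = 16 :=
    fun y hy hne => eq_or_of_card_split hS (x := x) (show Q x from ⟨hx32, hxv, hxw⟩)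
      (fun z => dotInt (x : GolayPt → ℤ) z) 8 16 (by norm_num) (by rw [hxx]; norm_num) (by rw [hxx]; norm_num)
      hA hB (by norm_num) (by norm_num) (y := y) hy hne
  refine ⟨hA, ?_, ?_⟩
  · rw [← hB]
    refine congrArg Set.ncard (Set.ext fun y => ?_)
    exact ⟨fun ⟨a, b, c⟩ => ⟨a, (hcov y a b).resolve_left c⟩,
      fun ⟨a, b⟩ => ⟨a, fun e => by rw [e, hxx] at b; omega, by rw [b]; norm_num⟩⟩
  · intro y hy y' hy' hne hne' heq
    obtain ⟨g, hg, hgy⟩ : ∃ g : Co0, Fixes (cV, cW, LeechCert.OrbF.root) g ∧ g • (h • y) = h • y' := by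
      rcases hcov y hy hne with e | e
      · exact exists_fixes_smul LeechCert.OrbGa.cert LeechCert.OrbGa.ncard (by norm_num) (by norm_num)
          (a := Spor.leechV) (b := -(Spor.leechV + Spor.leechU')) (c := r) coe_leechV coe_negVU' rfl (r := ofCode _ hra) rfl
          (mem_census₃.mpr (by rw [coe_ofCode]; decide +kernel))
          ((hiff3 8 y).mp ⟨hy, e⟩) ((hiff3 8 y').mp ⟨hy', heq.mp e⟩)
      · exact exists_fixes_smul LeechCert.OrbGb.cert LeechCert.OrbGb.ncard (by norm_num) (by norm_num)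
          (a := Spor.leechV) (b := -(Spor.leechV + Spor.leechU')) (c := r) coe_leechV coe_negVU' rfl (r := ofCode _ hrb) rfl
          (mem_census₃.mpr (by rw [coe_ofCode]; decide +kernel))
          ((hiff3 16 y).mp ⟨hy, e⟩)
          ((hiff3 16 y').mp ⟨hy', (hcov y' hy' hne').resolve_left fun e' => by have := heq.mpr e'; omega⟩)
    exact ⟨h⁻¹ * g * h, by rw [mul_smul, mul_smul, h1, hg _ (Or.inl coe_leechV), inv_smul_eq_iff, h1],
      by rw [mul_smul, mul_smul, h2, hg _ (Or.inr (Or.inl coe_negVU')), inv_smul_eq_iff, h2],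
      by rw [mul_smul, mul_smul, h3, hg _ (Or.inr (Or.inr rfl)), inv_smul_eq_iff, h3],
      by rw [mul_smul, mul_smul, hgy, inv_smul_smul]⟩

end Cfsg.Agent.S1584
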