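import Cfsg.Statements.S1585
import Cfsg.Agent.Lib.LeechPairs
import Cfsg.Agent.Lib.LeechMonomial

set_option autoImplicit false
open Cfsg
open Cfsg.Agent.LeechBasic Cfsg.Agent.LeechAut Cfsg.Agent.LeechOrbit Cfsg.Agent.LeechCert Cfsg.Agent.LeechPairs

namespace Cfsg.Agent.S1585

/-- Two vectors of customary norm 6 with inner product −4 are exchanged by some automorphism of the lattice. -/
theorem result (v w : ↥Cfsg.leechLattice) (hv : Cfsg.sqNorm (v : Cfsg.GolayPt → ℤ) = 48) (hw : Cfsg.sqNorm (w : Cfsg.GolayPt → ℤ) = 48) (hvw : Cfsg.dotInt (v : Cfsg.GolayPt → ℤ) (w : Cfsg.GolayPt → ℤ) = -32) : ∃ g : ↥Cfsg.Co0, g • v = w ∧ g • w = v := by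
  have hsymm : dotInt (w : GolayPt → ℤ) v = -32 := by rw [dotInt_comm]; exact hvw
  obtain ⟨h, h1, h2⟩ := pairHS hv hw hvw
  obtain ⟨k, k1, k2⟩ := pairHS hw hv hsymm
  exact ⟨k⁻¹ * h, by rw [mul_smul, inv_smul_eq_iff, h1, k1], by rw [mul_smul, inv_smul_eq_iff, h2, k2]⟩

end Cfsg.Agent.S1585
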