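import Cfsg.Statements.S1588
import Cfsg.Agent.Lib.LatticeMod2

set_option autoImplicit false
open Matrix
open Cfsg

namespace Cfsg.Agent.S1588

/-- Second step of the characterisation: under the vector counts of the rank-24 lattice, the norm-8 vectors fall into congruence classes of exactly 48 modulo twice the lattice. -/
theorem result (B : Matrix (Fin 24) (Fin 24) ℤ) (hsymm : B.IsSymm) (hpos : ∀ x : Fin 24 → ℤ, x ≠ 0 → 0 < x ⬝ᵥ (B *ᵥ x)) (heven : ∀ x : Fin 24 → ℤ, (2 : ℤ) ∣ x ⬝ᵥ (B *ᵥ x)) (h2 : ∀ x : Fin 24 → ℤ, x ⬝ᵥ (B *ᵥ x) ≠ 2) (h4 : {x : Fin 24 → ℤ | x ⬝ᵥ (B *ᵥ x) = 4}.ncard = 196560) (h6 : {x : Fin 24 → ℤ | x ⬝ᵥ (B *ᵥ x) = 6}.ncard = 16773120) (h8 : {x : Fin 24 → ℤ | x ⬝ᵥ (B *ᵥ x) = 8}.ncard = 398034000) (x : Fin 24 → ℤ) (hx : x ⬝ᵥ (B *ᵥ x) = 8) : {y : Fin 24 → ℤ | y ⬝ᵥ (B *ᵥ y) = 8 ∧ ∀ i, (2 : ℤ) ∣ (x - y) i}.ncard = 48 := by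
  classical
  have hB : LatticeMod2.Rootless B := ⟨hsymm, hpos, heven, h2⟩
  let N : ℤ → Set (Fin 24 → ℤ) := fun k => {v | v ⬝ᵥ (B *ᵥ v) = k}
  have fin4 : (N 4).Finite := Set.finite_of_ncard_ne_zero (by show Set.ncard {v | v ⬝ᵥ (B *ᵥ v) = 4} ≠ 0; rw [h4]; norm_num)
  have fin6 : (N 6).Finite := Set.finite_of_ncard_ne_zero (by show Set.ncard {v | v ⬝ᵥ (B *ᵥ v) = 6} ≠ 0; rw [h6]; norm_num)
  have fin8 : (N 8).Finite := Set.finite_of_ncard_ne_zero (by show Set.ncard {v | v ⬝ᵥ (B *ᵥ v) = 8} ≠ 0; rw [h8]; norm_num)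
  set T4 := fin4.toFinset with hT4
  set T6 := fin6.toFinset with hT6
  set T8 := fin8.toFinset with hT8
  have m4 : ∀ {v}, v ∈ T4 ↔ LatticeMod2.bil B v v = 4 := fun {v} => fin4.mem_toFinset
  have m6 : ∀ {v}, v ∈ T6 ↔ LatticeMod2.bil B v v = 6 := fun {v} => fin6.mem_toFinset
  have m8 : ∀ {v}, v ∈ T8 ↔ LatticeMod2.bil B v v = 8 := fun {v} => fin8.mem_toFinset
  have c4 : T4.card = 196560 := by rw [hT4, ← Set.ncard_eq_toFinset_card _ fin4]; exact h4
  have c6 : T6.card = 16773120 := by rw [hT6, ← Set.ncard_eq_toFinset_card _ fin6]; exact h6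
  have c8 : T8.card = 398034000 := by rw [hT8, ← Set.ncard_eq_toFinset_card _ fin8]; exact h8
  have small : ∀ (k : ℤ), k < 8 → ∀ (T : Finset (Fin 24 → ℤ)), (∀ v ∈ T, LatticeMod2.bil B v v = k) →
      T.card ≤ 2 * (T.image LatticeMod2.red).card := by
    intro k hk T hT
    refine Finset.card_le_mul_card_image T 2 ?_
    intro b hb
    obtain ⟨a, ha, rfl⟩ := Finset.mem_image.mp hb
    refine (Finset.card_le_card (t := {a, -a}) ?_).trans Finset.card_le_two
    intro v hv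
    obtain ⟨hvT, hva⟩ := Finset.mem_filter.mp hv
    rcases hB.eq_or_neg_of_small ((LatticeMod2.red_eq_iff v a).mp hva)
      (by rw [hT v hvT, hT a ha]; omega) with h | h <;> simp [h]
  have fib : ∀ b : Fin 24 → ZMod 2, (T8.filter fun v => LatticeMod2.red v = b).card ≤ 48 := by
    intro b
    refine hB.class_card_le _ (fun v hv => m8.mp (Finset.mem_filter.mp hv).1) ?_
    intro v hv w hw
    exact (LatticeMod2.red_eq_iff v w).mp
      ((Finset.mem_filter.mp hv).2.trans (Finset.mem_filter.mp hw).2.symm)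
  set I4 := T4.image LatticeMod2.red with hI4
  set I6 := T6.image LatticeMod2.red with hI6
  set I8 := T8.image LatticeMod2.red with hI8
  have b4 : 98280 ≤ I4.card := by
    have : T4.card ≤ 2 * I4.card := small 4 (by norm_num) T4 (fun v hv => m4.mp hv)
    omega
  have b6 : 8386560 ≤ I6.card := by
    have : T6.card ≤ 2 * I6.card := small 6 (by norm_num) T6 (fun v hv => m6.mp hv)
    omega
  have sep : ∀ v w : Fin 24 → ℤ, LatticeMod2.red v = LatticeMod2.red w →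
      LatticeMod2.bil B v v + LatticeMod2.bil B w w < 16 →
      LatticeMod2.bil B v v = LatticeMod2.bil B w w := by
    intro v w hr hs
    rcases hB.eq_or_neg_of_small ((LatticeMod2.red_eq_iff v w).mp hr) hs with h | h
    · rw [h]
    · rw [h, LatticeMod2.bil_neg_left, LatticeMod2.bil_neg_right, neg_neg]
  have zz : LatticeMod2.bil B 0 0 = 0 := by simp [LatticeMod2.bil]
  have dis : ∀ (T T' : Finset (Fin 24 → ℤ)) (k k' : ℤ), (∀ v ∈ T, LatticeMod2.bil B v v = k) →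
      (∀ v ∈ T', LatticeMod2.bil B v v = k') → k + k' < 16 → k ≠ k' →
      Disjoint (T.image LatticeMod2.red) (T'.image LatticeMod2.red) := by
    intro T T' k k' hT hT' hlt hne
    rw [Finset.disjoint_left]
    intro b hb hb'
    obtain ⟨v, hv, rfl⟩ := Finset.mem_image.mp hb
    obtain ⟨w, hw, hwv⟩ := Finset.mem_image.mp hb'
    exact hne (by rw [← hT v hv, ← hT' w hw]; exact sep v w hwv.symm (by rw [hT v hv, hT' w hw]; exact hlt))
  have d46 : Disjoint I4 I6 := dis T4 T6 4 6 (fun v hv => m4.mp hv) (fun v hv => m6.mp hv) (by norm_num) (by norm_num)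
  have d48 : Disjoint I4 I8 := dis T4 T8 4 8 (fun v hv => m4.mp hv) (fun v hv => m8.mp hv) (by norm_num) (by norm_num)
  have d68 : Disjoint I6 I8 := dis T6 T8 6 8 (fun v hv => m6.mp hv) (fun v hv => m8.mp hv) (by norm_num) (by norm_num)
  have z0 : ∀ (T : Finset (Fin 24 → ℤ)) (k : ℤ), (∀ v ∈ T, LatticeMod2.bil B v v = k) → k < 16 → k ≠ 0 →
      LatticeMod2.red (0 : Fin 24 → ℤ) ∉ T.image LatticeMod2.red := by
    intro T k hT hlt hne hmem
    obtain ⟨v, hv, hv0⟩ := Finset.mem_image.mp hmem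
    have := sep v 0 hv0 (by rw [zz, hT v hv]; omega)
    rw [zz, hT v hv] at this
    exact hne this
  have tot : 1 + I4.card + I6.card + I8.card ≤ 2 ^ 24 := by
    have hsub := Finset.card_le_univ (insert (LatticeMod2.red (0 : Fin 24 → ℤ)) ((I4 ∪ I6) ∪ I8))
    rw [Finset.card_insert_of_notMem, Finset.card_union_of_disjoint, Finset.card_union_of_disjoint d46] at hsub
    · simp only [Fintype.card_fun, ZMod.card, Fintype.card_fin] at hsub
      omega
    · exact Finset.disjoint_union_left.mpr ⟨d48, d68⟩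
    · simp only [Finset.mem_union, not_or]
      exact ⟨⟨z0 T4 4 (fun v hv => m4.mp hv) (by norm_num) (by norm_num),
        z0 T6 6 (fun v hv => m6.mp hv) (by norm_num) (by norm_num)⟩,
        z0 T8 8 (fun v hv => m8.mp hv) (by norm_num) (by norm_num)⟩
  have hsum : T8.card = ∑ b ∈ I8, (T8.filter fun v => LatticeMod2.red v = b).card :=
    Finset.card_eq_sum_card_image _ _
  have h8le : I8.card * 48 ≤ 398034000 := by omega
  have hall : ∀ b ∈ I8, (T8.filter fun v => LatticeMod2.red v = b).card = 48 := by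
    by_contra hne
    push Not at hne
    obtain ⟨b, hb, hb48⟩ := hne
    have hlt : (∑ c ∈ I8, (T8.filter fun v => LatticeMod2.red v = c).card) < ∑ _c ∈ I8, 48 :=
      Finset.sum_lt_sum (fun c _ => fib c) ⟨b, hb, lt_of_le_of_ne (fib b) hb48⟩
    rw [← hsum, Finset.sum_const, smul_eq_mul] at hlt
    omega
  have hxb : LatticeMod2.red x ∈ I8 := Finset.mem_image_of_mem _ (m8.mpr hx)
  rw [← hall _ hxb, ← Set.ncard_coe_finset]
  congr 1
  ext v
  rw [Finset.coe_filter]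
  simp only [Set.mem_setOf_eq]
  constructor
  · rintro ⟨hv, hcv⟩
    exact ⟨m8.mpr hv, ((LatticeMod2.red_eq_iff x v).mpr hcv).symm⟩
  · rintro ⟨hv, hcv⟩
    exact ⟨m8.mp hv, (LatticeMod2.red_eq_iff x v).mp hcv.symm⟩

end Cfsg.Agent.S1588
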