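import Cfsg.Statements.S1590
import Cfsg.Agent.Lib.TernaryGolay

set_option autoImplicit false
open Cfsg

namespace Cfsg.Agent.S1590

/-- The length-12 ternary code has 729 words with weight distribution 0^1 6^264 9^440 12^24. -/
theorem result : Nat.card ↥Cfsg.ternaryGolayCode = 729 ∧ (∀ x ∈ Cfsg.ternaryGolayCode, x ≠ 0 → (Cfsg.ternarySupport x).card = 6 ∨ (Cfsg.ternarySupport x).card = 9 ∨ (Cfsg.ternarySupport x).card = 12) ∧ {x : Cfsg.ArrayPt → ZMod 3 | x ∈ Cfsg.ternaryGolayCode ∧ (Cfsg.ternarySupport x).card = 6}.ncard = 264 ∧ {x : Cfsg.ArrayPt → ZMod 3 | x ∈ Cfsg.ternaryGolayCode ∧ (Cfsg.ternarySupport x).card = 9}.ncard = 440 ∧ {x : Cfsg.ArrayPt → ZMod 3 | x ∈ Cfsg.ternaryGolayCode ∧ (Cfsg.ternarySupport x).card = 12}.ncard = 24 := by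
  classical
  have key : (∀ v : TernaryGolay.Coeff,
        (Cfsg.ternarySupport (TernaryGolay.word v)).card = 0 ∧ v = (0, 0, 0, 0, 0, 0) ∨
        (Cfsg.ternarySupport (TernaryGolay.word v)).card = 6 ∨
        (Cfsg.ternarySupport (TernaryGolay.word v)).card = 9 ∨
        (Cfsg.ternarySupport (TernaryGolay.word v)).card = 12) ∧
      (Finset.univ.filter fun v => (Cfsg.ternarySupport (TernaryGolay.word v)).card = 6).card = 264 ∧
      (Finset.univ.filter fun v => (Cfsg.ternarySupport (TernaryGolay.word v)).card = 9).card = 440 ∧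
      (Finset.univ.filter fun v => (Cfsg.ternarySupport (TernaryGolay.word v)).card = 12).card = 24 := by
    decide +kernel
  obtain ⟨kw, k6, k9, k12⟩ := key
  refine ⟨?_, ?_, ?_, ?_, ?_⟩
  · show Nat.card ↥(Cfsg.ternaryGolayCode : Set (Cfsg.ArrayPt → ZMod 3)) = 729
    rw [Nat.card_congr (Equiv.setCongr TernaryGolay.code_eq_range),
      ← Nat.card_congr (Equiv.ofInjective _ TernaryGolay.word_injective), Nat.card_eq_fintype_card]
    simp [TernaryGolay.Coeff, Fintype.card_prod, ZMod.card]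
  · intro x hx hx0
    rw [← TernaryGolay.word_coeff hx] at hx0 ⊢
    rcases kw (TernaryGolay.coeff x) with ⟨-, hz⟩ | h
    · exfalso
      apply hx0
      rw [hz]
      funext p
      simp [TernaryGolay.word]
    · exact h
  · rw [TernaryGolay.ncard_code_filter (fun x => (Cfsg.ternarySupport x).card = 6)]; exact k6
  · rw [TernaryGolay.ncard_code_filter (fun x => (Cfsg.ternarySupport x).card = 9)]; exact k9
  · rw [TernaryGolay.ncard_code_filter (fun x => (Cfsg.ternarySupport x).card = 12)]; exact k12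

end Cfsg.Agent.S1590
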