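import Cfsg.Statements.S1591
import Cfsg.Agent.Lib.TernaryGolay

set_option autoImplicit false
open Cfsg

namespace Cfsg.Agent.S1591

theorem mem_span (z : Cfsg.ArrayPt → ZMod 3) (hz : z ∈ Cfsg.ternaryGolayCode) :
    z ∈ Submodule.span (ZMod 3) (Set.range TernaryGolay.basisWord) := by
  have h := fun (k : Fin 6) (c : ZMod 3) =>
    Submodule.smul_mem (Submodule.span (ZMod 3) (Set.range TernaryGolay.basisWord)) c
      (Submodule.subset_span (s := Set.range TernaryGolay.basisWord) (Set.mem_range_self k))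
  rw [← TernaryGolay.word_coeff hz]
  exact add_mem (add_mem (add_mem (add_mem (add_mem (h 0 _) (h 1 _)) (h 2 _)) (h 3 _)) (h 4 _)) (h 5 _)

/-- Any two words of the length-12 ternary code have dot product zero. -/
theorem result (x y : Cfsg.ArrayPt → ZMod 3) (hx : x ∈ Cfsg.ternaryGolayCode) (hy : y ∈ Cfsg.ternaryGolayCode) : ∑ p, x p * y p = 0 := by
  have key : ∀ j k : Fin 6,
      ∑ p, TernaryGolay.basisWord j p * TernaryGolay.basisWord k p = 0 := by decide +kernel
  have hx' : x ∈ Submodule.span (ZMod 3) (Set.range TernaryGolay.basisWord) := mem_span x hx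
  have hy' : y ∈ Submodule.span (ZMod 3) (Set.range TernaryGolay.basisWord) := mem_span y hy
  refine Submodule.span_induction (p := fun a _ => ∑ p, a p * y p = 0) ?_ ?_ ?_ ?_ hx'
  · rintro _ ⟨j, rfl⟩
    refine Submodule.span_induction (p := fun b _ => ∑ p, TernaryGolay.basisWord j p * b p = 0)
      ?_ ?_ ?_ ?_ hy'
    · rintro _ ⟨k, rfl⟩
      exact key j k
    · simp
    · intro a b _ _ ha hb
      simp [mul_add, Finset.sum_add_distrib, ha, hb]
    · intro c a _ ha
      simp [mul_left_comm _ c, ← Finset.mul_sum, ha]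
  · simp
  · intro a b _ _ ha hb
    simp [add_mul, Finset.sum_add_distrib, ha, hb]
  · intro c a _ ha
    simp [mul_assoc, ← Finset.mul_sum, ha]

end Cfsg.Agent.S1591
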