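import Cfsg.Statements.S1594
import Cfsg.Agent.Lib.TernaryHexads

set_option autoImplicit false
open Cfsg

namespace Cfsg.Agent.S1594

/-- The monomial automorphism group of the length-12 ternary code has order 190080 and its permutation parts are exactly the automorphisms of its hexad system. -/
theorem result : Nat.card {f : Equiv.Perm Cfsg.ArrayPt × (Cfsg.ArrayPt → (ZMod 3)ˣ) // (∀ x ∈ Cfsg.ternaryGolayCode, Cfsg.monomialMap f.1 f.2 x ∈ Cfsg.ternaryGolayCode)} = 190080 ∧ {σ : Equiv.Perm Cfsg.ArrayPt | ∃ c : Cfsg.ArrayPt → (ZMod 3)ˣ, (∀ x ∈ Cfsg.ternaryGolayCode, Cfsg.monomialMap σ c x ∈ Cfsg.ternaryGolayCode)} = (Cfsg.setSystemAut {h : Finset Cfsg.ArrayPt | ∃ x ∈ Cfsg.ternaryGolayCode, Cfsg.ternarySupport x = h ∧ h.card = 6} : Set (Equiv.Perm Cfsg.ArrayPt)) := by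
  classical
  have hset : {σ : Equiv.Perm Cfsg.ArrayPt | TernaryHexads.Liftable σ}
      = (Cfsg.setSystemAut TernaryHexads.hexads : Set (Equiv.Perm Cfsg.ArrayPt)) :=
    Set.ext TernaryHexads.liftable_iff
  refine ⟨?_, hset⟩
  choose lift hlift using fun σ : Cfsg.setSystemAut TernaryHexads.hexads =>
    TernaryHexads.Liftable.of_mem_aut σ.2
  let Φ : Cfsg.setSystemAut TernaryHexads.hexads × (ZMod 3)ˣ →
      {f : Equiv.Perm Cfsg.ArrayPt × (Cfsg.ArrayPt → (ZMod 3)ˣ) //
        (∀ x ∈ Cfsg.ternaryGolayCode, Cfsg.monomialMap f.1 f.2 x ∈ Cfsg.ternaryGolayCode)} :=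
    fun su => ⟨((su.1 : Equiv.Perm Cfsg.ArrayPt), fun p => su.2 * lift su.1 p), fun x hx => by
      have h : Cfsg.monomialMap (su.1 : Equiv.Perm Cfsg.ArrayPt) (fun p => su.2 * lift su.1 p) x
          = (su.2 : ZMod 3) • Cfsg.monomialMap (su.1 : Equiv.Perm Cfsg.ArrayPt) (lift su.1) x := by
        funext p
        simp [Cfsg.monomialMap, mul_assoc]
      rw [h]
      exact Submodule.smul_mem _ _ (hlift su.1 x hx)⟩
  have hΦ : Function.Bijective Φ := by
    constructor
    · rintro ⟨σ, u⟩ ⟨τ, v⟩ h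
      have h' := Subtype.ext_iff.mp h
      simp only [Φ, Prod.ext_iff] at h'
      obtain ⟨h1, h2⟩ := h'
      have hσ : σ = τ := Subtype.ext h1
      subst hσ
      have := congrFun h2 (0, 0)
      simp only [mul_left_inj] at this
      exact Prod.ext rfl this
    · rintro ⟨⟨σ, c⟩, hc⟩
      let s : Cfsg.setSystemAut TernaryHexads.hexads :=
        ⟨σ, TernaryHexads.Liftable.mem_aut ⟨c, hc⟩⟩
      let F : ↥Cfsg.ternaryGolayCode → ↥Cfsg.ternaryGolayCode :=
        fun x => ⟨Cfsg.monomialMap σ (lift s) x, hlift s x x.2⟩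
      have hF : Function.Injective F := by
        intro x y hxy
        apply Subtype.ext
        funext p
        have h1 := congrFun (Subtype.ext_iff.mp hxy) (σ p)
        simp only [F, Cfsg.monomialMap, Equiv.symm_apply_apply] at h1
        exact mul_left_cancel₀ (Units.ne_zero _) h1
      have hratio : ∀ x ∈ Cfsg.ternaryGolayCode,
          Cfsg.monomialMap 1 (fun p => c p * (lift s p)⁻¹) x ∈ Cfsg.ternaryGolayCode := by
        intro x hx
        obtain ⟨⟨y, hy⟩, hyx⟩ := Finite.surjective_of_injective hF ⟨x, hx⟩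
        have hyx' : Cfsg.monomialMap σ (lift s) y = x := Subtype.ext_iff.mp hyx
        have h : Cfsg.monomialMap 1 (fun p => c p * (lift s p)⁻¹) x = Cfsg.monomialMap σ c y := by
          funext p
          rw [← hyx']
          show ((c p * (lift s p)⁻¹ : (ZMod 3)ˣ) : ZMod 3) * ((lift s p : ZMod 3) * y (σ.symm p))
            = (c p : ZMod 3) * y (σ.symm p)
          rw [← mul_assoc, ← Units.val_mul, inv_mul_cancel_right]
        rw [h]
        exact hc y hy
      refine ⟨(s, c (1, 2) * (lift s (1, 2))⁻¹), ?_⟩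
      apply Subtype.ext
      refine Prod.ext rfl ?_
      funext p
      show c (1, 2) * (lift s (1, 2))⁻¹ * lift s p = c p
      rw [← TernaryGolay.diagonal_const _ hratio p, inv_mul_cancel_right]
  rw [← Nat.card_eq_of_bijective Φ hΦ, Nat.card_prod, TernaryHexads.card_aut,
    Nat.card_eq_fintype_card, show Fintype.card (ZMod 3)ˣ = 2 from rfl]

end Cfsg.Agent.S1594
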