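import Cfsg.Statements.S1595
import Cfsg.Agent.Lib.SteinerSmall

set_option autoImplicit false
open Cfsg

namespace Cfsg.Agent.S1595

/-- Leech triangle of S(5, 6, 12): blocks meet in 0, 2, 3 or 4 points, and a block is met exactly in a given 2-, 3- or 4-subset by 3, 2, 3 blocks respectively. -/
theorem result {α : Type*} [Fintype α] [DecidableEq α] (hα : Fintype.card α = 12) {B : Set (Finset α)} (hB : Cfsg.IsSteinerSystem 5 6 B) (b : Finset α) (hb : b ∈ B) : (∀ c ∈ B, c ≠ b → (b ∩ c).card = 0 ∨ (b ∩ c).card = 2 ∨ (b ∩ c).card = 3 ∨ (b ∩ c).card = 4) ∧ ∀ s ⊆ b, (s.card = 2 → {c : Finset α | c ∈ B ∧ b ∩ c = s}.ncard = 3) ∧ (s.card = 3 → {c : Finset α | c ∈ B ∧ b ∩ c = s}.ncard = 2) ∧ (s.card = 4 → {c : Finset α | c ∈ B ∧ b ∩ c = s}.ncard = 3) := by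
  classical
  have h : SteinerSmall.IsS56 Finset.univ B.toFinset :=
    ⟨by rw [Finset.card_univ, hα], fun c _ => Finset.subset_univ c,
      fun c hc => hB.1 c (Set.mem_toFinset.mp hc),
      fun s _ hs => by simpa only [Set.mem_toFinset] using hB.2 s hs⟩
  have hb' : b ∈ B.toFinset := Set.mem_toFinset.mpr hb
  refine ⟨fun c hc hne => h.inter_card hb' (Set.mem_toFinset.mpr hc) hne, fun s hsb => ?_⟩
  have hset : ∀ k : ℕ, s.card = k → k < 6 →
      {c : Finset α | c ∈ B ∧ b ∩ c = s}.ncard = SteinerSmall.tri k := by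
    intro k hk hk6
    rw [← hk, ← h.exact_card hb' s hsb, ← Set.ncard_coe_finset]
    congr 1
    ext c
    simp only [SteinerSmall.exact, Finset.coe_filter, Finset.mem_erase, Set.mem_toFinset]
    refine ⟨fun hc => ⟨⟨?_, hc.1⟩, hc.2⟩, fun hc => ⟨hc.1.2, hc.2⟩⟩
    rintro rfl
    have := hB.1 c hb
    rw [← Finset.inter_self c, hc.2, hk] at this
    omega
  exact ⟨fun hk => hset 2 hk (by norm_num), fun hk => hset 3 hk (by norm_num),
    fun hk => hset 4 hk (by norm_num)⟩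

end Cfsg.Agent.S1595
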