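import Cfsg.Statements.S1598
import Cfsg.Agent.Lib.QuartetGroup
-- import your own Cfsg.Agent.* helpers here

set_option autoImplicit false
open scoped Pointwise
open Cfsg

namespace Cfsg.Agent.S1598

/-- A quartet stabiliser inside the dodecad stabiliser has order 432, a normal subgroup of order 9 with quotient GL(2, 3), and is transitive on the dodecad. -/
theorem result (d : Finset Cfsg.GolayPt) (hd : d ∈ Cfsg.dodecads) (Q : Finset (Finset Cfsg.GolayPt)) (hQ : Q ∈ Cfsg.quartets d) : Nat.card ↥(MulAction.stabilizer Cfsg.M24 d ⊓ MulAction.stabilizer Cfsg.M24 Q) = 432 ∧ (∃ (N : Subgroup ↥(MulAction.stabilizer Cfsg.M24 d ⊓ MulAction.stabilizer Cfsg.M24 Q)) (_ : N.Normal), Nat.card N = 9 ∧ Nonempty (↥(MulAction.stabilizer Cfsg.M24 d ⊓ MulAction.stabilizer Cfsg.M24 Q) ⧸ N ≃* GL (Fin 2) (ZMod 3))) ∧ ∀ p ∈ d, ∀ q ∈ d, ∃ g ∈ (MulAction.stabilizer Cfsg.M24 d ⊓ MulAction.stabilizer Cfsg.M24 Q), ((g : ↥Cfsg.M24) : Equiv.Perm Cfsg.GolayPt) p =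 q := by
  refine ⟨DodecadQuartets.card_stab_quartet hd hQ, ?_, fun p hp q hq => ?_⟩
  · obtain ⟨a, ha, had, haQ⟩ := QuartetGroup.exists_frame hd hQ
    let E := DodecadConj.conjEquiv QuartetGroup.grp_le a ha (QuartetGroup.stab_iff ha had haQ)
    obtain ⟨φ, hφ, hker⟩ := QuartetGroup.exists_to_GL
    refine ⟨φ.ker.comap E.toMonoidHom, inferInstance, ?_, ?_⟩
    · rw [← hker]
      exact Nat.card_congr
        { toFun := fun x => ⟨E x.1, x.2⟩
          invFun := fun x => ⟨E.symm x.1, Subgroup.mem_comap.2 (by simp)⟩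
          left_inv := fun x => Subtype.ext (E.symm_apply_apply x.1)
          right_inv := fun x => Subtype.ext (E.apply_symm_apply x.1) }
    · have hsurj : Function.Surjective (φ.comp E.toMonoidHom) := hφ.comp E.surjective
      exact ⟨(QuotientGroup.quotientMulEquivOfEq (by rw [MonoidHom.comap_ker])).trans
        (QuotientGroup.quotientKerEquivOfSurjective _ hsurj)⟩
  · obtain ⟨t, ht, hpt⟩ := DodecadQuartets.quartet_cover hd hQ hp
    obtain ⟨u, hu, hqu⟩ := DodecadQuartets.quartet_cover hd hQ hq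
    obtain ⟨g, hg, hgd, hgQ, -, hgp⟩ := DodecadQuartets.exists_map_quartet hd hQ hQ ht hu hpt hqu
    exact ⟨⟨g, hg⟩, ⟨hgd, hgQ⟩, hgp⟩

end Cfsg.Agent.S1598
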