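import Cfsg.Statements.S1599
import Cfsg.Agent.Lib.QuartetOrbits
-- import your own Cfsg.Agent.* helpers here

set_option autoImplicit false
open scoped Pointwise
open Cfsg

namespace Cfsg.Agent.S1599

/-- A quartet stabiliser has five orbits on the quartets of its dodecad, of sizes 1, 12, 27, 72, 108. -/
theorem result (d : Finset Cfsg.GolayPt) (hd : d ∈ Cfsg.dodecads) (Q : Finset (Finset Cfsg.GolayPt)) (hQ : Q ∈ Cfsg.quartets d) : ∃ X₁ ∈ Cfsg.quartets d, ∃ X₂ ∈ Cfsg.quartets d, ∃ X₃ ∈ Cfsg.quartets d, ∃ X₄ ∈ Cfsg.quartets d, (MulAction.orbit ↥(MulAction.stabilizer Cfsg.M24 d ⊓ MulAction.stabilizer Cfsg.M24 Q) X₁).ncard = 12 ∧ (MulAction.orbit ↥(MulAction.stabilizer Cfsg.M24 d ⊓ MulAction.stabilizer Cfsg.M24 Q) X₂).ncard = 27 ∧ (MulAction.orbit ↥(MulAction.stabilizer Cfsg.M24 d ⊓ MulAction.stabilizer Cfsg.M24 Q) X₃).ncard = 72 ∧ (MulAction.orbit ↥(MulAction.stabilizer Cfsg.M24 d ⊓ MulAction.stabilizer Cfsg.M24 Q) X₄).ncard = 108 ∧ Cfsg.quartets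 d = {Q} ∪ MulAction.orbit ↥(MulAction.stabilizer Cfsg.M24 d ⊓ MulAction.stabilizer Cfsg.M24 Q) X₁ ∪ MulAction.orbit ↥(MulAction.stabilizer Cfsg.M24 d ⊓ MulAction.stabilizer Cfsg.M24 Q) X₂ ∪ MulAction.orbit ↥(MulAction.stabilizer Cfsg.M24 d ⊓ MulAction.stabilizer Cfsg.M24 Q) X₃ ∪ MulAction.orbit ↥(MulAction.stabilizer Cfsg.M24 d ⊓ MulAction.stabilizer Cfsg.M24 Q) X₄ := by
  obtain ⟨a, ha, had, haQ⟩ := QuartetGroup.exists_frame hd hQ
  obtain ⟨m1, m2, m3, m4⟩ := QuartetOrbits.rep_mem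
  have hq : ∀ {X}, X ∈ Cfsg.quartets (GolayBasic.mset 340831) → a • X ∈ Cfsg.quartets d :=
    fun hX => had ▸ DodecadQuartets.smul_quartet ha hX
  refine ⟨_, hq m1, _, hq m2, _, hq m3, _, hq m4, ?_, ?_, ?_, ?_, ?_⟩
  · exact (QuartetOrbits.ncard_conj ha had haQ QuartetOrbits.check1 (by decide +kernel)
      (by decide +kernel)).trans (by decide +kernel)
  · exact (QuartetOrbits.ncard_conj ha had haQ QuartetOrbits.check2 (by decide +kernel)
      (by decide +kernel)).trans (by decide +kernel)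
  · exact (QuartetOrbits.ncard_conj ha had haQ QuartetOrbits.check3 (by decide +kernel)
      (by decide +kernel)).trans (by decide +kernel)
  · exact (QuartetOrbits.ncard_conj ha had haQ QuartetOrbits.check4 (by decide +kernel)
      (by decide +kernel)).trans (by decide +kernel)
  · rw [QuartetOrbits.orbit_conj ha had haQ, QuartetOrbits.orbit_conj ha had haQ,
      QuartetOrbits.orbit_conj ha had haQ, QuartetOrbits.orbit_conj ha had haQ,
      show ({Q} : Set (Finset (Finset Cfsg.GolayPt))) = (a • ·) '' {QuartetGroup.Q0} by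
        rw [Set.image_singleton, haQ],
      ← Set.image_union, ← Set.image_union, ← Set.image_union, ← Set.image_union,
      ← QuartetOrbits.standard]
    ext X
    refine ⟨fun hX => ⟨a⁻¹ • X, ?_, smul_inv_smul a X⟩, ?_⟩
    · have := DodecadQuartets.smul_quartet (inv_mem ha) hX
      rwa [← had, inv_smul_smul] at this
    · rintro ⟨Y, hY, rfl⟩
      exact hq hY

end Cfsg.Agent.S1599
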