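import Cfsg.Statements.S1600
import Cfsg.Agent.Lib.DodecadConj
-- import your own Cfsg.Agent.* helpers here

set_option autoImplicit false
open scoped Pointwise
open Cfsg

namespace Cfsg.Agent.S1600

open Cfsg.Agent.GolayBasic Cfsg.Agent.GolayPerm Cfsg.Agent.GolayM24 Cfsg.Agent.DodecadConj

/-- members of the stabiliser of the standard dodecad fixing three points, by image of point 5 -/
def ts : List ℕ :=
   [984818244535754528103549039458486304,
    891385682027558266148352467872712736,
    899214583888558003150069357295700000,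
    629863500390412654982178157189269536,
    719923664328491199848526586197411872,
    486073779993727295785104656607348768,
    608405391266436187982588441666881568,
    984769902586367543974814854303385632,
    424698032726113400716592269113985056,
    716016777081418520089506884598499360,
    233054687951835244750033064009402400,
    227578386318009578406903204956702752]

theorem tcheck_ts : tcheck 340831 [0, 1, 2] 5 16436384 ts = true := by decide +kernel

theorem outer_mem : ∀ z : GolayPt, z ∉ mset 340831 → z ∈ mset 16436384 := by decide +kernel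

theorem stab_iff {d : Finset GolayPt} {p q r : GolayPt} {a : Equiv.Perm GolayPt} (ha : a ∈ M24)
    (had : a • mset 340831 = d) (h0 : a (pt 0) = p) (h1 : a (pt 1) = q) (h2 : a (pt 2) = r)
    (g : M24) :
    g ∈ MulAction.stabilizer M24 d ⊓ MulAction.stabilizer M24 p ⊓ MulAction.stabilizer M24 q ⊓
        MulAction.stabilizer M24 r ↔
      a⁻¹ * (g : Equiv.Perm GolayPt) * a ∈ fixList Spor.M12 [0, 1, 2] := by
  have hm : a⁻¹ * (g : Equiv.Perm GolayPt) * a ∈ M24 := mul_mem (mul_mem (inv_mem ha) g.2) ha
  rw [mem_fixList, mem_M12]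
  simp only [← Equiv.Perm.smul_def, List.forall_mem_cons, List.not_mem_nil, false_implies,
    implies_true, and_true, conj_fix_iff, had, hm, true_and, Subgroup.mem_inf,
    MulAction.mem_stabilizer_iff]
  rw [Equiv.Perm.smul_def a, Equiv.Perm.smul_def a, Equiv.Perm.smul_def a, h0, h1, h2]
  simp [Subgroup.smul_def, and_assoc]

/-- The pointwise stabiliser of three points of a dodecad inside the dodecad stabiliser (order 72) is transitive on the complementary dodecad. -/
theorem result (d : Finset Cfsg.GolayPt) (hd : d ∈ Cfsg.dodecads) (p q r : Cfsg.GolayPt) (hp : p ∈ d) (hq : q ∈ d) (hr : r ∈ d) (hpq : p ≠ q) (hpr : p ≠ r) (hqr : q ≠ r) : Nat.card ↥(MulAction.stabilizer Cfsg.M24 d ⊓ MulAction.stabilizer Cfsg.M24 p ⊓ MulAction.stabilizer Cfsg.M24 q ⊓ MulAction.stabilizer Cfsg.M24 r) = 72 ∧ ∀ x ∉ d, ∀ y ∉ d, ∃ g ∈ (MulAction.stabilizer Cfsg.M24 d ⊓ MulAction.stabilizer Cfsg.M24 p ⊓ MulAction.stabilizer Cfsg.M24 q ⊓ MulAction.stabilizer Cfsg.M24 r), ((g : ↥Cfsg.M24) : Equiv.Perm Cfsg.GolayPt) x = y :=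 by
  obtain ⟨a, ha, had, h0, h1, h2⟩ := exists_frame_three hd hp hq hr hpq hpr hqr
  have hiff := stab_iff ha had h0 h1 h2
  refine ⟨?_, fun x hx y hy => ?_⟩
  · rw [Nat.card_congr (conjEquiv (fixList_le_M24 _) a ha hiff).toEquiv, card_chain12_3,
      card_chain12_4, card_chain12_5]
  · have hout : ∀ z ∉ d, a⁻¹ z ∈ mset 16436384 := fun z hz => outer_mem _ fun hc => hz (by
      rw [← had]
      exact Finset.mem_smul_finset.2 ⟨_, hc, a.apply_symm_apply z⟩)
    obtain ⟨g1, hg1, e1⟩ := exists_of_tcheck (by norm_num) (by decide) tcheck_ts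
      (H := Spor.M12) (fun g hg hk => mem_M12.2 ⟨hg, hk⟩) _ (hout x hx)
    obtain ⟨g2, hg2, e2⟩ := exists_of_tcheck (by norm_num) (by decide) tcheck_ts
      (H := Spor.M12) (fun g hg hk => mem_M12.2 ⟨hg, hk⟩) _ (hout y hy)
    refine exists_of_conj (fixList_le_M24 _) ha hiff ⟨g2 * g1⁻¹, mul_mem hg2 (inv_mem hg1), ?_⟩
    rw [← e1, Equiv.Perm.mul_apply, Equiv.Perm.inv_def, Equiv.symm_apply_apply, e2,
      Equiv.Perm.inv_def]

end Cfsg.Agent.S1600
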