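import Cfsg.Statements.S1601
import Cfsg.Agent.Lib.OuterPointPSL
-- import your own Cfsg.Agent.* helpers here

set_option autoImplicit false
open scoped Pointwise
open Cfsg

namespace Cfsg.Agent.S1601

open Cfsg.Agent.GolayBasic Cfsg.Agent.GolayPerm Cfsg.Agent.GolayM24 Cfsg.Agent.DodecadConj

/-- In the 3-transitive action of the smallest Mathieu group on the complementary dodecad, a point stabiliser is isomorphic to PSL(2, 11). -/
theorem result (d : Finset Cfsg.GolayPt) (hd : d ∈ Cfsg.dodecads) (p q : Cfsg.GolayPt) (hp : p ∈ d) (hq : q ∉ d) : Nonempty (↥(MulAction.stabilizer Cfsg.M24 d ⊓ MulAction.stabilizer Cfsg.M24 p ⊓ MulAction.stabilizer Cfsg.M24 q) ≃* Matrix.ProjectiveSpecialLinearGroup (Fin 2) (ZMod 11)) := by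
  obtain ⟨q', hq', hne⟩ : ∃ q', q' ∉ d ∧ q ≠ q' := by
    by_contra h
    push Not at h
    have hsub : dᶜ ⊆ {q} := fun z hz => by
      rw [Finset.mem_compl] at hz
      rw [Finset.mem_singleton, h z hz]
    have := Finset.card_le_card hsub
    rw [Finset.card_compl, hd.2, Finset.card_singleton] at this
    simp [Cfsg.GolayPt] at this
  obtain ⟨a, ha, had, h0, h5, -⟩ := OuterPointStab.exists_frame hd hp hq hq' hne
  refine ⟨(conjEquiv (fixList_le_M24 [0, 5]) a ha fun g => ?_).trans
    OuterPointPSL.nonempty_iso.some⟩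
  have hm : a⁻¹ * (g : Equiv.Perm Cfsg.GolayPt) * a ∈ M24 :=
    mul_mem (mul_mem (inv_mem ha) g.2) ha
  rw [mem_fixList, mem_M12]
  simp only [← Equiv.Perm.smul_def, List.forall_mem_cons, List.not_mem_nil, false_implies,
    implies_true, and_true, conj_fix_iff, had, hm, true_and, Subgroup.mem_inf,
    MulAction.mem_stabilizer_iff]
  rw [Equiv.Perm.smul_def a, Equiv.Perm.smul_def a, h0, h5]
  simp [Subgroup.smul_def, and_assoc]

end Cfsg.Agent.S1601
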