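import Cfsg.Statements.S1602
import Cfsg.Agent.Lib.OuterPairStab
-- import your own Cfsg.Agent.* helpers here

set_option autoImplicit false
open scoped Pointwise
open Cfsg

namespace Cfsg.Agent.S1602

open Cfsg.Agent.GolayBasic Cfsg.Agent.GolayPerm Cfsg.Agent.GolayM24 Cfsg.Agent.DodecadConj

/-- In the 12-point action of the smallest Mathieu group the setwise stabiliser of a pair is isomorphic to the symmetric group of degree 5. -/
theorem result (d : Finset Cfsg.GolayPt) (hd : d ∈ Cfsg.dodecads) (p q q' : Cfsg.GolayPt) (hp : p ∈ d) (hq : q ∉ d) (hq' : q' ∉ d) (hqq' : q ≠ q') : Nonempty (↥(MulAction.stabilizer Cfsg.M24 d ⊓ MulAction.stabilizer Cfsg.M24 p ⊓ MulAction.stabilizer Cfsg.M24 ({q, q'} : Finset Cfsg.GolayPt)) ≃* Equiv.Perm (Fin 5)) := by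
  obtain ⟨a, ha, had, h0, h5, h7⟩ := OuterPointStab.exists_frame hd hp hq hq' hqq'
  refine ⟨(conjEquiv OuterPairStab.grp_le a ha fun g => ?_).trans OuterPairStab.nonempty_iso.some⟩
  have hm : a⁻¹ * (g : Equiv.Perm Cfsg.GolayPt) * a ∈ M24 :=
    mul_mem (mul_mem (inv_mem ha) g.2) ha
  have hpair : a • ({pt 5, pt 7} : Finset Cfsg.GolayPt) = {q, q'} := by
    rw [OuterPairStab.smul_pair, h5, h7]
  rw [OuterPairStab.grp, Subgroup.mem_inf, Subgroup.mem_inf, Subgroup.mem_inf, mem_fixList,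
    mem_M12]
  show ((g • d = d ∧ g • p = p) ∧ g • ({q, q'} : Finset Cfsg.GolayPt) = {q, q'}) ↔
    (((_ ∧ (a⁻¹ * (g : Equiv.Perm Cfsg.GolayPt) * a) • mset 340831 = mset 340831) ∧ _) ∧
      (a⁻¹ * (g : Equiv.Perm Cfsg.GolayPt) * a) • ({pt 5, pt 7} : Finset Cfsg.GolayPt) = _)
  simp only [← Equiv.Perm.smul_def, List.forall_mem_cons, List.not_mem_nil, false_implies,
    implies_true, and_true, conj_fix_iff, had, hpair, hm, true_and]
  rw [Equiv.Perm.smul_def a, h0]
  simp [Subgroup.smul_def]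

end Cfsg.Agent.S1602
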