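import Cfsg.Statements.S1603
import Cfsg.Agent.Lib.InvolutionCentralizer
-- import your own Cfsg.Agent.* helpers here

set_option autoImplicit false
open scoped Pointwise
open Cfsg

namespace Cfsg.Agent.S1603

open Cfsg.Agent.GolayBasic Cfsg.Agent.GolayPerm Cfsg.Agent.GolayM24 Cfsg.Agent.DodecadConj

/-- a centraliser of an element of a subgroup, inside the bigger group -/
def centralizerEquiv {G : Type*} [Group G] (K : Subgroup G) (x : K) :
    Subgroup.centralizer ({x} : Set K) ≃* ↥(K ⊓ Subgroup.centralizer ({(x : G)} : Set G)) where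
  toFun g := ⟨g.1.1, g.1.2, Subgroup.mem_centralizer_singleton_iff.2
    (congrArg Subtype.val (Subgroup.mem_centralizer_singleton_iff.1 g.2))⟩
  invFun g := ⟨⟨g.1, g.2.1⟩, Subgroup.mem_centralizer_singleton_iff.2
    (Subtype.ext (Subgroup.mem_centralizer_singleton_iff.1 g.2.2))⟩
  left_inv _ := rfl
  right_inv _ := rfl
  map_mul' _ _ := rfl

theorem comm_conj {G : Type*} [Group G] (a g x : G) :
    (a⁻¹ * g * a) * (a⁻¹ * x * a) = (a⁻¹ * x * a) * (a⁻¹ * g * a) ↔ g * x = x * g := by
  simp only [show ∀ u v : G, (a⁻¹ * u * a) * (a⁻¹ * v * a) = a⁻¹ * (u * v) * a from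
    fun u v => by group, mul_left_inj, mul_right_inj]

/-- Involution centralisers in the smallest Mathieu group are isomorphic to GL(2, 3). -/
theorem result (d : Finset Cfsg.GolayPt) (hd : d ∈ Cfsg.dodecads) (p : Cfsg.GolayPt) (hp : p ∈ d) (x : ↥(MulAction.stabilizer Cfsg.M24 d ⊓ MulAction.stabilizer Cfsg.M24 p)) (hx : orderOf x = 2) : Nonempty (↥(Subgroup.centralizer ({x} : Set ↥(MulAction.stabilizer Cfsg.M24 d ⊓ MulAction.stabilizer Cfsg.M24 p))) ≃* GL (Fin 2) (ZMod 3)) := by
  obtain ⟨hxd, hxp⟩ := x.2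
  have hx2 : x * x = 1 := by
    rw [← pow_two, ← hx]; exact pow_orderOf_eq_one x
  have hval : ((x : M24) : Equiv.Perm Cfsg.GolayPt) * ((x : M24) : Equiv.Perm Cfsg.GolayPt) = 1 :=
    congrArg (fun k : ↥(MulAction.stabilizer M24 d ⊓ MulAction.stabilizer M24 p) =>
      ((k : M24) : Equiv.Perm Cfsg.GolayPt)) hx2
  have hx1 : ((x : M24) : Equiv.Perm Cfsg.GolayPt) ≠ 1 := fun h => by
    have h' : x = 1 := Subtype.ext (Subtype.ext h)
    rw [h', orderOf_one] at hx
    exact absurd hx (by norm_num)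
  obtain ⟨a, ha, had, h0, hax⟩ := InvolutionCentralizer.exists_frame hd hp
    (x : M24).2 hxd hxp hval hx1
  refine ⟨((centralizerEquiv _ x).trans
    (conjEquiv InvolutionCentralizer.cent0_le a ha fun g => ?_)).trans
      InvolutionCentralizer.nonempty_iso.some⟩
  have hm : a⁻¹ * (g : Equiv.Perm Cfsg.GolayPt) * a ∈ M24 :=
    mul_mem (mul_mem (inv_mem ha) g.2) ha
  rw [InvolutionCentralizer.cent0, Subgroup.mem_inf, Subgroup.mem_inf, Subgroup.mem_inf,
    mem_fixList, mem_M12, Subgroup.mem_centralizer_singleton_iff,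
    Subgroup.mem_centralizer_singleton_iff, ← hax, comm_conj]
  simp only [← Equiv.Perm.smul_def, List.forall_mem_cons, List.not_mem_nil, false_implies,
    implies_true, and_true, conj_fix_iff, had, hm, true_and, MulAction.mem_stabilizer_iff]
  rw [Equiv.Perm.smul_def a, h0]
  simp [Subgroup.smul_def, Subtype.ext_iff]

end Cfsg.Agent.S1603
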