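import Cfsg.Statements.S1604
import Cfsg.Agent.Lib.GolayHeptad
-- import your own Cfsg.Agent.* helpers here

set_option autoImplicit false
open scoped Pointwise
open Cfsg

namespace Cfsg.Agent.S1604

open Cfsg.Agent.GolayBasic Cfsg.Agent.GolayPerm Cfsg.Agent.GolayHeptad Cfsg.Agent.GolayHeptadData

/-- A hexad stabiliser in the two-point stabiliser has orbits of sizes 1, 16, 60 on the 77 hexads: the 16 hexads disjoint from it and the 60 meeting it in two points. -/
theorem result (p q : Cfsg.GolayPt) (hpq : p ≠ q) (o o' o'' : Finset Cfsg.GolayPt) (ho : o ∈ Cfsg.octads) (ho' : o' ∈ Cfsg.octads) (ho'' : o'' ∈ Cfsg.octads) (hp : p ∈ o ∧ p ∈ o' ∧ p ∈ o'') (hq : q ∈ o ∧ q ∈ o' ∧ q ∈ o'') (h : (o ∩ o').card = (o ∩ o'').card) : {x : Finset Cfsg.GolayPt | x ∈ Cfsg.octads ∧ p ∈ x ∧ q ∈ x ∧ (o ∩ x).card = 2}.ncard = 16 ∧ {x : Finset Cfsg.GolayPt | x ∈ Cfsg.octads ∧ p ∈ x ∧ q ∈ x ∧ (o ∩ x).card = 4}.ncard = 60 ∧ ∃ g : Equiv.Perm Cfsg.GolayPt, g ∈ Cfsg.M24 ∧ g p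 = p ∧ g q = q ∧ g • o = o ∧ g • o' = o'' := by
  obtain ⟨a, ha, hao, hap, haq⟩ := exists_frame_in ho hp.1 hq.1 hpq
  subst hao hap haq
  refine ⟨?_, ?_, ?_⟩
  · rw [count ha _ (fun m => m.testBit 0 && m.testBit 12 && wt (13062145 &&& m) == 2) fun m => by
      simp [testBit_of_mem, wt_of_inter, and_assoc]]
    decide +kernel
  · rw [count ha _ (fun m => m.testBit 0 && m.testBit 12 && wt (13062145 &&& m) == 4) fun m => by
      simp [testBit_of_mem, wt_of_inter, and_assoc]]
    decide +kernel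
  · have cl : ∀ k, (a • mset 13062145 ∩ o').card = k →
        (∀ m, a • mset m = o' → (m.testBit 0 && m.testBit 12 && wt (13062145 &&& m) == k) = true) ∧
        (∀ m, a • mset m = o'' → (m.testBit 0 && m.testBit 12 && wt (13062145 &&& m) == k) = true) := by
      intro k hk
      constructor <;> intro m hm <;> subst hm <;>
        simp only [Bool.and_eq_true, beq_iff_eq, ← wt_of_inter (a := a),
          ← testBit_of_mem (a := a) (show 0 < 24 by norm_num),
          ← testBit_of_mem (a := a) (show 12 < 24 by norm_num)]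
      · exact ⟨⟨hp.2.1, hq.2.1⟩, hk⟩
      · exact ⟨⟨hp.2.2, hq.2.2⟩, h ▸ hk⟩
    rcases inter_cases ho ho' with hk | hk | hk | hk
    · have : a (pt 0) ∈ a • mset 13062145 ∩ o' := Finset.mem_inter.2 ⟨hp.1, hp.2.1⟩
      rw [Finset.card_eq_zero.1 hk] at this
      simp at this
    · obtain ⟨g, h1, h2, h3, h4⟩ := transfer ha (fix := [0, 12]) (by simp)
        (show reachCheck pq2Gens [0, 12] pq2Root pq2Steps
          (octsWith fun m => m.testBit 0 && m.testBit 12 && wt (13062145 &&& m) == 2) = true by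
          decide +kernel) ho' ho'' (cl 2 hk).1 (cl 2 hk).2
      exact ⟨g, h1, h3 0 (by simp), h3 12 (by simp), h2, h4⟩
    · obtain ⟨g, h1, h2, h3, h4⟩ := transfer ha (fix := [0, 12]) (by simp)
        (show reachCheck pq4Gens [0, 12] pq4Root pq4Steps
          (octsWith fun m => m.testBit 0 && m.testBit 12 && wt (13062145 &&& m) == 4) = true by
          decide +kernel) ho' ho'' (cl 4 hk).1 (cl 4 hk).2
      exact ⟨g, h1, h3 0 (by simp), h3 12 (by simp), h2, h4⟩
    · have e1 := eq_of_inter_eight ho ho' hk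
      have e2 := eq_of_inter_eight ho ho'' (h ▸ hk)
      exact ⟨1, one_mem _, rfl, rfl, one_smul _ _, by rw [one_smul, e1, e2]⟩

end Cfsg.Agent.S1604
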