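import Cfsg.Statements.S1605
import Cfsg.Agent.Lib.GolayHeptad
import Cfsg.Agent.Lib.GolayStab
-- import your own Cfsg.Agent.* helpers here

set_option autoImplicit false
open scoped Pointwise
open Cfsg

namespace Cfsg.Agent.S1605

open Cfsg.Agent.GolayBasic Cfsg.Agent.GolayPerm Cfsg.Agent.GolayHeptad Cfsg.Agent.GolayHeptadData

theorem exists_octad_in_out {p q : Cfsg.GolayPt} (hpq : p ≠ q) :
    ∃ o ∈ Cfsg.octads, p ∈ o ∧ q ∉ o := by
  obtain ⟨g, hg, h0, h1⟩ := GolayStab.exists_map_two hpq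
  -- a standard octad through the first base point avoiding the second
  obtain ⟨m, hm, hm23, hm0⟩ : ∃ m ∈ octsWith (fun _ => true),
      m.testBit 23 = true ∧ m.testBit 0 = false := by decide +kernel
  obtain ⟨x, hx, rfl⟩ := List.mem_map.1 hm
  refine ⟨g • mset (enc x), smul_mem_octads hg
    (mem_wordsOfWeight.2 ⟨x, (List.mem_filter.1 hx).1, rfl⟩), ?_, ?_⟩
  · rw [← h0, Finset.smul_mem_smul_finset_iff, mem_mset, ← GolayM24.pt_none, idx_pt (by norm_num)]
    exact hm23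
  · rw [← h1, Finset.smul_mem_smul_finset_iff, mem_mset, ← GolayM24.pt_zero, idx_pt (by norm_num),
      hm0]
    simp

/-- The two-point stabiliser acts on the 176 octads through the first point avoiding the second with rank 3 and subdegrees 1, 70, 105 (intersections 8, 2, 4). -/
theorem result (p q : Cfsg.GolayPt) (hpq : p ≠ q) : {x : Finset Cfsg.GolayPt | (x ∈ Cfsg.octads ∧ p ∈ x ∧ q ∉ x)}.ncard = 176 ∧ (∀ o o' : Finset Cfsg.GolayPt, (o ∈ Cfsg.octads ∧ p ∈ o ∧ q ∉ o) → (o' ∈ Cfsg.octads ∧ p ∈ o' ∧ q ∉ o') → ∃ g : Equiv.Perm Cfsg.GolayPt, g ∈ Cfsg.M24 ∧ g p = p ∧ g q = q ∧ g • o = o') ∧ ∀ o : Finset Cfsg.GolayPt, (o ∈ Cfsg.octads ∧ p ∈ o ∧ q ∉ o) → {x : Finset Cfsg.GolayPt | (x ∈ Cfsg.octads ∧ p ∈ x ∧ q ∉ x) ∧ (o ∩ x).card = 2}.ncard = 70 ∧ {x : Finset Cfsg.GolayPt | (x ∈ Cfsg.octads ∧ p ∈ x ∧ q ∉ x) ∧ (o ∩ x).card = 4}.ncard = 105 ∧ ∀ o' o'' : Finset Cfsg.GolayPt, (o' ∈ Cfsg.octads ∧ p ∈ o' ∧ q ∉ o') → (o'' ∈ Cfsg.octads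 ∧ p ∈ o'' ∧ q ∉ o'') → (o ∩ o').card = (o ∩ o'').card → ∃ g : Equiv.Perm Cfsg.GolayPt, g ∈ Cfsg.M24 ∧ g p = p ∧ g q = q ∧ g • o = o ∧ g • o' = o'' := by
  obtain ⟨o0, ho0, hp0, hq0⟩ := exists_octad_in_out hpq
  refine ⟨?_, fun o o' ho ho' => ?_, fun o ho => ?_⟩
  · obtain ⟨a, ha, hao, hap, haq⟩ := exists_frame_out ho0 hp0 hq0
    subst hap haq
    rw [count ha _ (fun m => m.testBit 0 && !m.testBit 1) fun m => by simp [testBit_of_mem]]
    decide +kernel
  · obtain ⟨a, ha, hao, hap, haq⟩ := exists_frame_out ho.1 ho.2.1 ho.2.2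
    obtain ⟨b, hb, hbo, hbp, hbq⟩ := exists_frame_out ho'.1 ho'.2.1 ho'.2.2
    refine ⟨b * a⁻¹, mul_mem hb (inv_mem ha), ?_, ?_, ?_⟩
    · rw [Equiv.Perm.mul_apply, ← hap, Equiv.Perm.inv_def, Equiv.symm_apply_apply, hap, hbp]
    · rw [Equiv.Perm.mul_apply, ← haq, Equiv.Perm.inv_def, Equiv.symm_apply_apply, haq, hbq]
    · rw [mul_smul, ← hao, inv_smul_smul, hbo]
  · obtain ⟨a, ha, hao, hap, haq⟩ := exists_frame_out ho.1 ho.2.1 ho.2.2
    subst hao hap haq
    refine ⟨?_, ?_, fun o' o'' ho' ho'' h => ?_⟩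
    · simp only [and_assoc]
      rw [count ha _ (fun m => m.testBit 0 && !m.testBit 1 && wt (13062145 &&& m) == 2) fun m => by
        simp [testBit_of_mem, wt_of_inter, and_assoc]]
      decide +kernel
    · simp only [and_assoc]
      rw [count ha _ (fun m => m.testBit 0 && !m.testBit 1 && wt (13062145 &&& m) == 4) fun m => by
        simp [testBit_of_mem, wt_of_inter, and_assoc]]
      decide +kernel
    have cl : ∀ k, (a • mset 13062145 ∩ o').card = k →
        (∀ m, a • mset m = o' →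
          (m.testBit 0 && !m.testBit 1 && wt (13062145 &&& m) == k) = true) ∧
        (∀ m, a • mset m = o'' →
          (m.testBit 0 && !m.testBit 1 && wt (13062145 &&& m) == k) = true) := by
      intro k hk
      constructor <;> intro m hm <;> subst hm <;>
        simp only [Bool.and_eq_true, Bool.not_eq_true', beq_iff_eq, ← wt_of_inter (a := a),
          ← Bool.not_eq_true, ← testBit_of_mem (a := a) (show 0 < 24 by norm_num),
          ← testBit_of_mem (a := a) (show 1 < 24 by norm_num)]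
      · exact ⟨⟨ho'.2.1, ho'.2.2⟩, hk⟩
      · exact ⟨⟨ho''.2.1, ho''.2.2⟩, h ▸ hk⟩
    rcases inter_cases ho.1 ho'.1 with hk | hk | hk | hk
    · have : a (pt 0) ∈ a • mset 13062145 ∩ o' := Finset.mem_inter.2 ⟨ho.2.1, ho'.2.1⟩
      rw [Finset.card_eq_zero.1 hk] at this
      simp at this
    · obtain ⟨g, h1, h2, h3, h4⟩ := transfer ha (fix := [0, 1]) (by simp)
        (show reachCheck pr2Gens [0, 1] pr2Root pr2Steps
          (octsWith fun m => m.testBit 0 && !m.testBit 1 && wt (13062145 &&& m) == 2) = true by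
          decide +kernel) ho'.1 ho''.1 (cl 2 hk).1 (cl 2 hk).2
      exact ⟨g, h1, h3 0 (by simp), h3 1 (by simp), h2, h4⟩
    · obtain ⟨g, h1, h2, h3, h4⟩ := transfer ha (fix := [0, 1]) (by simp)
        (show reachCheck pr4Gens [0, 1] pr4Root pr4Steps
          (octsWith fun m => m.testBit 0 && !m.testBit 1 && wt (13062145 &&& m) == 4) = true by
          decide +kernel) ho'.1 ho''.1 (cl 4 hk).1 (cl 4 hk).2
      exact ⟨g, h1, h3 0 (by simp), h3 1 (by simp), h2, h4⟩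
    · have e1 := eq_of_inter_eight ho.1 ho'.1 hk
      have e2 := eq_of_inter_eight ho.1 ho''.1 (h ▸ hk)
      exact ⟨1, one_mem _, rfl, rfl, one_smul _ _, by rw [one_smul, e1, e2]⟩

end Cfsg.Agent.S1605
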