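import Cfsg.Statements.S1607
import Cfsg.Agent.Lib.GolayHeptad
-- import your own Cfsg.Agent.* helpers here

set_option autoImplicit false
open scoped Pointwise
open Cfsg

namespace Cfsg.Agent.S1607

open Cfsg.Agent.GolayBasic Cfsg.Agent.GolayPerm Cfsg.Agent.GolayHeptad Cfsg.Agent.GolayHeptadData

/-- The point stabiliser acts on the 253 heptads of its S(4, 7, 23) with rank 3 and subdegrees 1, 112, 140 (intersections 8, 2, 4). -/
theorem result (x : Cfsg.GolayPt) (o : Finset Cfsg.GolayPt) (ho : o ∈ Cfsg.octads) (hx : x ∈ o) : {o' : Finset Cfsg.GolayPt | o' ∈ Cfsg.octads ∧ x ∈ o' ∧ (o ∩ o').card = 2}.ncard = 112 ∧ {o' : Finset Cfsg.GolayPt | o' ∈ Cfsg.octads ∧ x ∈ o' ∧ (o ∩ o').card = 4}.ncard = 140 ∧ ∀ o' o'' : Finset Cfsg.GolayPt, o' ∈ Cfsg.octads → o'' ∈ Cfsg.octads → x ∈ o' → x ∈ o'' → (o ∩ o').card = (o ∩ o'').card → ∃ g : Equiv.Perm Cfsg.GolayPt, g ∈ Cfsg.M24 ∧ g x = x ∧ g • o = o ∧ g • o' = o'' := by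
  obtain ⟨q, hq, hqx⟩ := Finset.exists_mem_ne (show 1 < o.card by rw [ho.2]; norm_num) x
  obtain ⟨a, ha, hao, hap, -⟩ := exists_frame_in ho hx hq hqx.symm
  subst hao hap
  refine ⟨?_, ?_, fun o' o'' ho' ho'' hx' hx'' h => ?_⟩
  · rw [count ha _ (fun m => m.testBit 0 && wt (13062145 &&& m) == 2) fun m => by
      simp [testBit_of_mem, wt_of_inter]]
    decide +kernel
  · rw [count ha _ (fun m => m.testBit 0 && wt (13062145 &&& m) == 4) fun m => by
      simp [testBit_of_mem, wt_of_inter]]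
    decide +kernel
  · have cl : ∀ k, (a • mset 13062145 ∩ o').card = k →
        (∀ m, a • mset m = o' → (m.testBit 0 && wt (13062145 &&& m) == k) = true) ∧
        (∀ m, a • mset m = o'' → (m.testBit 0 && wt (13062145 &&& m) == k) = true) := by
      intro k hk
      constructor <;> intro m hm <;> subst hm <;>
        simp only [Bool.and_eq_true, beq_iff_eq, ← wt_of_inter (a := a),
          ← testBit_of_mem (a := a) (show 0 < 24 by norm_num)]
      · exact ⟨hx', hk⟩
      · exact ⟨hx'', h ▸ hk⟩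
    rcases inter_cases ho ho' with hk | hk | hk | hk
    · have : a (pt 0) ∈ a • mset 13062145 ∩ o' := Finset.mem_inter.2 ⟨hx, hx'⟩
      rw [Finset.card_eq_zero.1 hk] at this
      simp at this
    · obtain ⟨g, h1, h2, h3, h4⟩ := transfer ha (fix := [0]) (by simp)
        (show reachCheck p2Gens [0] p2Root p2Steps
          (octsWith fun m => m.testBit 0 && wt (13062145 &&& m) == 2) = true by
          decide +kernel) ho' ho'' (cl 2 hk).1 (cl 2 hk).2
      exact ⟨g, h1, h3 0 (by simp), h2, h4⟩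
    · obtain ⟨g, h1, h2, h3, h4⟩ := transfer ha (fix := [0]) (by simp)
        (show reachCheck p4Gens [0] p4Root p4Steps
          (octsWith fun m => m.testBit 0 && wt (13062145 &&& m) == 4) = true by
          decide +kernel) ho' ho'' (cl 4 hk).1 (cl 4 hk).2
      exact ⟨g, h1, h3 0 (by simp), h2, h4⟩
    · have e1 := eq_of_inter_eight ho ho' hk
      have e2 := eq_of_inter_eight ho ho'' (h ▸ hk)
      exact ⟨1, one_mem _, rfl, one_smul _ _, by rw [one_smul, e1, e2]⟩

end Cfsg.Agent.S1607
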