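import Cfsg.Statements.S1608
import Cfsg.Agent.Lib.GolayHeptad
-- import your own Cfsg.Agent.* helpers here

set_option autoImplicit false
open scoped Pointwise
open Cfsg

namespace Cfsg.Agent.S1608

open Cfsg.Agent.GolayBasic Cfsg.Agent.GolayPerm Cfsg.Agent.GolayHeptad Cfsg.Agent.GolayHeptadData

/-- The point stabiliser acts on the 506 octads avoiding the point with rank 4 and subdegrees 1, 15, 210, 280, the suborbits being given by intersection size with the fixed octad. -/
theorem result (x : Cfsg.GolayPt) (o : Finset Cfsg.GolayPt) (ho : o ∈ Cfsg.octads) (hx : x ∉ o) : {o' : Finset Cfsg.GolayPt | o' ∈ Cfsg.octads ∧ x ∉ o' ∧ (o ∩ o').card = 0}.ncard = 15 ∧ {o' : Finset Cfsg.GolayPt | o' ∈ Cfsg.octads ∧ x ∉ o' ∧ (o ∩ o').card = 4}.ncard = 210 ∧ {o' : Finset Cfsg.GolayPt | o' ∈ Cfsg.octads ∧ x ∉ o' ∧ (o ∩ o').card = 2}.ncard = 280 ∧ ∀ o' o'' : Finset Cfsg.GolayPt, o' ∈ Cfsg.octads → o'' ∈ Cfsg.octads → x ∉ o' → x ∉ o'' → (o ∩ o').card = (o ∩ o'').card → ∃ g : Equiv.Perm Cfsg.GolayPt,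 g ∈ Cfsg.M24 ∧ g x = x ∧ g • o = o ∧ g • o' = o'' := by
  obtain ⟨a, ha, hao, hap⟩ := exists_frame_avoid ho hx
  subst hao hap
  refine ⟨?_, ?_, ?_, fun o' o'' ho' ho'' hx' hx'' h => ?_⟩
  · rw [count ha _ (fun m => !m.testBit 1 && wt (13062145 &&& m) == 0) fun m => by
      simp [testBit_of_mem, ← wt_of_inter (a := a)]]
    decide +kernel
  · rw [count ha _ (fun m => !m.testBit 1 && wt (13062145 &&& m) == 4) fun m => by
      simp [testBit_of_mem, ← wt_of_inter (a := a)]]
    decide +kernel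
  · rw [count ha _ (fun m => !m.testBit 1 && wt (13062145 &&& m) == 2) fun m => by
      simp [testBit_of_mem, ← wt_of_inter (a := a)]]
    decide +kernel
  · have cl : ∀ k, (a • mset 13062145 ∩ o').card = k →
        (∀ m, a • mset m = o' → (!m.testBit 1 && wt (13062145 &&& m) == k) = true) ∧
        (∀ m, a • mset m = o'' → (!m.testBit 1 && wt (13062145 &&& m) == k) = true) := by
      intro k hk
      constructor <;> intro m hm <;> subst hm <;>
        simp only [Bool.and_eq_true, Bool.not_eq_true', beq_iff_eq, ← wt_of_inter (a := a),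
          ← Bool.not_eq_true, ← testBit_of_mem (a := a) (show 1 < 24 by norm_num)]
      · exact ⟨hx', hk⟩
      · exact ⟨hx'', h ▸ hk⟩
    rcases inter_cases ho ho' with hk | hk | hk | hk
    · obtain ⟨g, h1, h2, h3, h4⟩ := transfer ha (fix := [1]) (by simp)
        (show reachCheck r0Gens [1] r0Root r0Steps
          (octsWith fun m => !m.testBit 1 && wt (13062145 &&& m) == 0) = true by
          decide +kernel) ho' ho'' (cl 0 hk).1 (cl 0 hk).2
      exact ⟨g, h1, h3 1 (by simp), h2, h4⟩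
    · obtain ⟨g, h1, h2, h3, h4⟩ := transfer ha (fix := [1]) (by simp)
        (show reachCheck r2Gens [1] r2Root r2Steps
          (octsWith fun m => !m.testBit 1 && wt (13062145 &&& m) == 2) = true by
          decide +kernel) ho' ho'' (cl 2 hk).1 (cl 2 hk).2
      exact ⟨g, h1, h3 1 (by simp), h2, h4⟩
    · obtain ⟨g, h1, h2, h3, h4⟩ := transfer ha (fix := [1]) (by simp)
        (show reachCheck r4Gens [1] r4Root r4Steps
          (octsWith fun m => !m.testBit 1 && wt (13062145 &&& m) == 4) = true by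
          decide +kernel) ho' ho'' (cl 4 hk).1 (cl 4 hk).2
      exact ⟨g, h1, h3 1 (by simp), h2, h4⟩
    · have e1 := eq_of_inter_eight ho ho' hk
      have e2 := eq_of_inter_eight ho ho'' (h ▸ hk)
      exact ⟨1, one_mem _, rfl, one_smul _ _, by rw [one_smul, e1, e2]⟩

end Cfsg.Agent.S1608
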