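import Cfsg.Statements.S1610
import Cfsg.Agent.Lib.Hexacode

set_option autoImplicit false
open Cfsg

namespace Cfsg.Agent.S1610

/-- The hexacode has 64 words, minimum weight 4, and weight distribution 0^1 4^45 6^18. -/
theorem result (F : Type*) [Field F] [Fintype F] [DecidableEq F] (hF : Fintype.card F = 4) (ω : F) (hω : ω ^ 2 + ω + 1 = 0) : Nat.card ↥(Cfsg.hexacode F ω) = 64 ∧ (∀ x ∈ Cfsg.hexacode F ω, x ≠ 0 → (Finset.univ.filter fun i => x i ≠ 0).card = 4 ∨ (Finset.univ.filter fun i => x i ≠ 0).card = 6) ∧ {x : Fin 6 → F | x ∈ Cfsg.hexacode F ω ∧ (Finset.univ.filter fun i => x i ≠ 0).card = 4}.ncard = 45 ∧ {x : Fin 6 → F | x ∈ Cfsg.hexacode F ω ∧ (Finset.univ.filter fun i => x i ≠ 0).card = 6}.ncard = 18 := by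
  have hbij := Hexacode.phi_bijective hF hω
  have hwt : ∀ v, (Finset.univ.filter fun i => Hexacode.toF ω (Hexacode.word4 v) i ≠ 0).card
      = (Finset.univ.filter fun i => Hexacode.word4 v i ≠ 0).card := by
    intro v
    congr 1
    refine Finset.filter_congr fun i _ => not_congr ?_
    exact ⟨fun h => hbij.1 (h.trans (rfl : (0 : F) = Hexacode.phi ω 0)),
      fun h => (congrArg (Hexacode.phi ω) h : _)⟩
  have key : (∀ v, v = (0, 0, 0) ∨ (Finset.univ.filter fun i => Hexacode.word4 v i ≠ 0).card = 4 ∨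
        (Finset.univ.filter fun i => Hexacode.word4 v i ≠ 0).card = 6) ∧
      (Finset.univ.filter fun v : Fin 4 × Fin 4 × Fin 4 =>
        (Finset.univ.filter fun i => Hexacode.word4 v i ≠ 0).card = 4).card = 45 ∧
      (Finset.univ.filter fun v : Fin 4 × Fin 4 × Fin 4 =>
        (Finset.univ.filter fun i => Hexacode.word4 v i ≠ 0).card = 6).card = 18 := by
    decide +kernel
  obtain ⟨kw, k4, k6⟩ := key
  have hcode : (Cfsg.hexacode F ω : Set (Fin 6 → F))
      = Set.range fun v => Hexacode.toF ω (Hexacode.word4 v) := Set.ext (Hexacode.mem_iff hF hω)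
  have hcount : ∀ n, {x : Fin 6 → F | x ∈ Cfsg.hexacode F ω ∧
      (Finset.univ.filter fun i => x i ≠ 0).card = n}.ncard =
      (Finset.univ.filter fun v : Fin 4 × Fin 4 × Fin 4 =>
        (Finset.univ.filter fun i => Hexacode.word4 v i ≠ 0).card = n).card := by
    intro n
    rw [← Finset.card_image_of_injective _ (Hexacode.toF_word4_injective hF hω),
      ← Set.ncard_coe_finset]
    congr 1
    ext x
    simp only [Finset.coe_image, Finset.coe_filter, Finset.mem_univ, true_and, Set.mem_image]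
    constructor
    · rintro ⟨hx, hn⟩
      obtain ⟨v, rfl⟩ := (Hexacode.mem_iff hF hω x).mp hx
      exact ⟨v, (hwt v).symm.trans hn, rfl⟩
    · rintro ⟨v, hv, rfl⟩
      exact ⟨(Hexacode.mem_iff hF hω _).mpr ⟨v, rfl⟩, (hwt v).trans hv⟩
  refine ⟨?_, ?_, (hcount 4).trans k4, (hcount 6).trans k6⟩
  · show Nat.card ↥(Cfsg.hexacode F ω : Set (Fin 6 → F)) = 64
    rw [Nat.card_congr (Equiv.setCongr hcode),
      ← Nat.card_congr (Equiv.ofInjective _ (Hexacode.toF_word4_injective hF hω)),
      Nat.card_eq_fintype_card]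
    simp [Fintype.card_prod]
  · intro x hx hx0
    obtain ⟨v, rfl⟩ := (Hexacode.mem_iff hF hω x).mp hx
    rw [hwt]
    rcases kw v with rfl | h
    · exact absurd (funext fun i => by fin_cases i <;> rfl) hx0
    · exact h

end Cfsg.Agent.S1610
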