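import Cfsg.Statements.S1611
import Cfsg.Agent.Lib.Hexacode

set_option autoImplicit false
open Cfsg

namespace Cfsg.Agent.S1611

/-- The monomial automorphism group of the hexacode has order 1080: its diagonal part is the scalars and its permutation parts form the alternating group of degree 6. -/
theorem result (F : Type*) [Field F] [Fintype F] [DecidableEq F] (hF : Fintype.card F = 4) (ω : F) (hω : ω ^ 2 + ω + 1 = 0) : Nat.card {f : Equiv.Perm (Fin 6) × (Fin 6 → Fˣ) // (∀ x ∈ Cfsg.hexacode F ω, Cfsg.monomialMap f.1 f.2 x ∈ Cfsg.hexacode F ω)} = 1080 ∧ (∀ c : Fin 6 → Fˣ, (∀ x ∈ Cfsg.hexacode F ω, Cfsg.monomialMap 1 c x ∈ Cfsg.hexacode F ω) → ∀ i j, c i = c j) ∧ {σ : Equiv.Perm (Fin 6) | ∃ c : Fin 6 → Fˣ, (∀ x ∈ Cfsg.hexacode F ω, Cfsg.monomialMap σ c x ∈ Cfsg.hexacode F ω)} = (alternatingGroup (Fin 6) : Set (Equiv.Perm (Fin 6))) := by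
  classical
  set code := Cfsg.hexacode F ω with hcode
  have hdiag : ∀ c : Fin 6 → Fˣ, (∀ x ∈ code, Cfsg.monomialMap 1 c x ∈ code) →
      ∀ i j, c i = c j := by
    intro c hc
    choose d hd using fun i => Hexacode.unitOf_surjective hF hω ((c 0)⁻¹ * c i)
    have hd0 : d 0 = 0 := by
      have h := hd 0
      rw [inv_mul_cancel] at h
      exact Fin.succ_injective _ ((Hexacode.phi_bijective hF hω).1
        (show Hexacode.phi ω (Hexacode.nz (d 0)) = Hexacode.phi ω (Hexacode.nz 0) from
          congrArg Units.val h))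
    have hp : Hexacode.Pres4 1 (Hexacode.tup (d 1, d 2, d 3, d 4, d 5)) := by
      have ht : Hexacode.tup (d 1, d 2, d 3, d 4, d 5) = d := by
        funext i; fin_cases i
        exacts [hd0.symm, rfl, rfl, rfl, rfl, rfl]
      rw [ht]
      apply (Hexacode.pres_iff hF hω 1 d).mp
      intro x hx
      have h : Cfsg.monomialMap 1 (fun i => Hexacode.unitOf hF hω (d i)) x
          = ((c 0)⁻¹ : Fˣ).val • Cfsg.monomialMap 1 c x := by
        funext i
        simp [Cfsg.monomialMap, hd i, mul_assoc]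
      rw [h]
      exact Submodule.smul_mem _ _ (hc x hx)
    have hp0 := Hexacode.pres4_const _ hp
    simp only [Prod.mk.injEq] at hp0
    have hall : ∀ i, d i = 0 := by
      intro i; fin_cases i
      exacts [hd0, hp0.1, hp0.2.1, hp0.2.2.1, hp0.2.2.2.1, hp0.2.2.2.2]
    have hci : ∀ i, c i = c 0 := by
      intro i
      have h1 := hd i
      have h0 := hd 0
      rw [hall i, ← hd0, h0, inv_mul_cancel] at h1
      exact (inv_mul_eq_one.mp h1.symm).symm
    intro i j
    rw [hci i, hci j]
  let L : Equiv.Perm (Fin 6) → Prop := fun σ =>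
    ∃ c : Fin 6 → Fˣ, ∀ x ∈ code, Cfsg.monomialMap σ c x ∈ code
  have hLmul : ∀ {σ τ}, L σ → L τ → L (σ * τ) := by
    rintro σ τ ⟨c, hc⟩ ⟨d, hd⟩
    refine ⟨fun i => c i * d (σ.symm i), fun x hx => ?_⟩
    have h : Cfsg.monomialMap (σ * τ) (fun i => c i * d (σ.symm i)) x
        = Cfsg.monomialMap σ c (Cfsg.monomialMap τ d x) := by
      funext i
      simp [Cfsg.monomialMap, Equiv.Perm.mul_def, mul_assoc]
    rw [h]
    exact hc _ (hd _ hx)
  have hLone : L 1 := ⟨fun _ => 1, fun x hx => by
    have h : Cfsg.monomialMap (1 : Equiv.Perm (Fin 6)) (fun _ => (1 : Fˣ)) x = x := by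
      funext i; simp [Cfsg.monomialMap, Equiv.Perm.one_def]
    rw [h]; exact hx⟩
  have hLtup : ∀ σ p, Hexacode.Pres4 σ (Hexacode.tup p) → L σ := fun σ p h =>
    ⟨_, (Hexacode.pres_iff hF hω σ _).mpr h⟩
  have hs : ¬ L (Equiv.swap 0 1) := by
    rintro ⟨c, hc⟩
    choose d hd using fun i => Hexacode.unitOf_surjective hF hω ((c 0)⁻¹ * c i)
    have hd0 : d 0 = 0 := by
      have h := hd 0
      rw [inv_mul_cancel] at h
      exact Fin.succ_injective _ ((Hexacode.phi_bijective hF hω).1
        (show Hexacode.phi ω (Hexacode.nz (d 0)) = Hexacode.phi ω (Hexacode.nz 0) from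
          congrArg Units.val h))
    have ht : Hexacode.tup (d 1, d 2, d 3, d 4, d 5) = d := by
      funext i; fin_cases i
      exacts [hd0.symm, rfl, rfl, rfl, rfl, rfl]
    refine Hexacode.swap_not_liftable (d 1, d 2, d 3, d 4, d 5) ?_
    rw [ht]
    apply (Hexacode.pres_iff hF hω _ d).mp
    intro x hx
    have h : Cfsg.monomialMap (Equiv.swap 0 1) (fun i => Hexacode.unitOf hF hω (d i)) x
        = ((c 0)⁻¹ : Fˣ).val • Cfsg.monomialMap (Equiv.swap 0 1) c x := by
      funext i
      simp [Cfsg.monomialMap, hd i, mul_assoc]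
    rw [h]
    exact Submodule.smul_mem _ _ (hc x hx)
  have heven : ∀ σ : Equiv.Perm (Fin 6), (Equiv.Perm.sign σ = 1 → L σ) ∧
      (Equiv.Perm.sign σ = -1 → L (Equiv.swap 0 1 * σ)) := by
    intro σ
    induction σ using Equiv.Perm.swap_induction_on with
    | one => exact ⟨fun _ => hLone, fun h => absurd h (by simp)⟩
    | swap_mul f x y hxy ih =>
      obtain ⟨⟨p, hp⟩, ⟨q, hq⟩⟩ := Hexacode.swap_pairs x y hxy
      rw [Equiv.Perm.sign_mul, Equiv.Perm.sign_swap hxy]
      constructor
      · intro h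
        have hf : Equiv.Perm.sign f = -1 := by
          rcases Int.units_eq_one_or (Equiv.Perm.sign f) with e | e
          · rw [e] at h; simp at h
          · exact e
        have h' := hLmul (hLtup _ p hp) (ih.2 hf)
        rwa [mul_assoc, Equiv.swap_mul_self_mul] at h'
      · intro h
        have hf : Equiv.Perm.sign f = 1 := by
          rcases Int.units_eq_one_or (Equiv.Perm.sign f) with e | e
          · exact e
          · rw [e] at h; simp at h
        rw [← mul_assoc]
        exact hLmul (hLtup _ q hq) (ih.1 hf)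
  have hiff : ∀ σ, L σ ↔ σ ∈ alternatingGroup (Fin 6) := by
    intro σ
    rw [Equiv.Perm.mem_alternatingGroup]
    refine ⟨fun hσ => ?_, (heven σ).1⟩
    rcases Int.units_eq_one_or (Equiv.Perm.sign σ) with e | e
    · exact e
    · refine absurd ?_ hs
      have h1 : Equiv.Perm.sign σ⁻¹ = -1 := by rw [Equiv.Perm.sign_inv, e]
      have h2 := hLmul ((heven σ⁻¹).2 h1) hσ
      rwa [inv_mul_cancel_right] at h2
  refine ⟨?_, hdiag, Set.ext hiff⟩
  choose lift hlift using fun σ : alternatingGroup (Fin 6) => (hiff σ).mpr σ.2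
  let Φ : alternatingGroup (Fin 6) × Fˣ →
      {f : Equiv.Perm (Fin 6) × (Fin 6 → Fˣ) //
        (∀ x ∈ code, Cfsg.monomialMap f.1 f.2 x ∈ code)} :=
    fun su => ⟨((su.1 : Equiv.Perm (Fin 6)), fun p => su.2 * lift su.1 p), fun x hx => by
      have h : Cfsg.monomialMap (su.1 : Equiv.Perm (Fin 6)) (fun p => su.2 * lift su.1 p) x
          = (su.2 : F) • Cfsg.monomialMap (su.1 : Equiv.Perm (Fin 6)) (lift su.1) x := by
        funext p
        simp [Cfsg.monomialMap, mul_assoc]
      rw [h]
      exact Submodule.smul_mem _ _ (hlift su.1 x hx)⟩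
  have hΦ : Function.Bijective Φ := by
    constructor
    · rintro ⟨σ, u⟩ ⟨τ, v⟩ h
      have h' := Subtype.ext_iff.mp h
      simp only [Φ, Prod.ext_iff] at h'
      obtain ⟨h1, h2⟩ := h'
      have hσ : σ = τ := Subtype.ext h1
      subst hσ
      have := congrFun h2 0
      simp only [mul_left_inj] at this
      exact Prod.ext rfl this
    · rintro ⟨⟨σ, c⟩, hc⟩
      let s : alternatingGroup (Fin 6) := ⟨σ, (hiff σ).mp ⟨c, hc⟩⟩
      let G : ↥code → ↥code := fun x => ⟨Cfsg.monomialMap σ (lift s) x, hlift s x x.2⟩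
      have hG : Function.Injective G := by
        intro x y hxy
        apply Subtype.ext
        funext p
        have h1 := congrFun (Subtype.ext_iff.mp hxy) (σ p)
        simp only [G, Cfsg.monomialMap, Equiv.symm_apply_apply] at h1
        exact mul_left_cancel₀ (Units.ne_zero _) h1
      have hratio : ∀ x ∈ code,
          Cfsg.monomialMap 1 (fun p => c p * (lift s p)⁻¹) x ∈ code := by
        intro x hx
        obtain ⟨⟨y, hy⟩, hyx⟩ := Finite.surjective_of_injective hG ⟨x, hx⟩
        have hyx' : Cfsg.monomialMap σ (lift s) y = x := Subtype.ext_iff.mp hyx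
        have h : Cfsg.monomialMap 1 (fun p => c p * (lift s p)⁻¹) x = Cfsg.monomialMap σ c y := by
          funext p
          rw [← hyx']
          show ((c p * (lift s p)⁻¹ : Fˣ) : F) * ((lift s p : F) * y (σ.symm p))
            = (c p : F) * y (σ.symm p)
          rw [← mul_assoc, ← Units.val_mul, inv_mul_cancel_right]
        rw [h]
        exact hc y hy
      refine ⟨(s, c 0 * (lift s 0)⁻¹), ?_⟩
      apply Subtype.ext
      refine Prod.ext rfl ?_
      funext p
      show c 0 * (lift s 0)⁻¹ * lift s p = c p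
      rw [← hdiag _ hratio p 0, inv_mul_cancel_right]
  rw [← Nat.card_eq_of_bijective Φ hΦ, Nat.card_prod, nat_card_alternatingGroup, Nat.card_units,
    Nat.card_eq_fintype_card (α := F), hF]
  simp only [Nat.card_eq_fintype_card, Fintype.card_fin]
  rfl

end Cfsg.Agent.S1611
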