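import Cfsg.Agent.Lib.ThreeTranspRank3
-- import your own Cfsg.Agent.* helpers here

set_option autoImplicit false
open Cfsg

namespace Cfsg.Agent.S1612

/-- In a 3-transposition group (no solvable normal subgroup, perfect derived group), the normaliser of a commuting set of transpositions of maximum size contains a Sylow 2-subgroup and is doubly transitive on the set. -/
theorem result {G : Type*} [Group G] [Finite G] (hsol : ∀ N : Subgroup G, N.Normal → Group.IsSolvable ↥N → N = ⊥) (hperf : ⁅commutator G, commutator G⁆ = commutator G) {D : Set G} (hD : Cfsg.IsThreeTranspositionClass D) {E : Set G} (hE : E ⊆ D) (hc : ∀ a ∈ E, ∀ b ∈ E, Commute a b) (hmax : ∀ E' : Set G, E' ⊆ D → (∀ a ∈ E', ∀ b ∈ E', Commute a b) → E'.ncard ≤ E.ncard) : (∃ P : Sylow 2 G, (P : Subgroup G) ≤ Subgroup.normalizer E) ∧ ∀ a ∈ E, ∀ b ∈ E, ∀ c ∈ E, ∀ d ∈ E, a ≠ b → c ≠ d → ∃ g ∈ Subgroup.normalizer E, g * a * g⁻¹ = c ∧ g * b * g⁻¹ = d := by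
  have h := ThreeTransp.tc_of_class hD
  have hsol' : ∀ N : Subgroup G, N.Normal → Group.IsSolvable ↥N → N ≤ commutator G → N = ⊥ :=
    fun N hN hs _ => hsol N hN hs
  haveI : Fact (Nat.Prime 2) := ⟨Nat.prime_two⟩
  -- transpositions in a 2-group commute
  have hcomm : ∀ (H : Subgroup G), IsPGroup 2 H → ∀ u ∈ D, ∀ v ∈ D, u ∈ H → v ∈ H →
      Commute u v := by
    intro H hH u hu v hv hu' hv'
    rcases h.or3 u hu v hv with hc' | h3
    · exact hc'
    obtain ⟨k, hk⟩ := (IsPGroup.iff_orderOf.mp hH) ⟨u * v, mul_mem hu' hv'⟩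
    rw [Subgroup.orderOf_mk] at hk
    have h1 : orderOf (u * v) = 1 :=
      Nat.eq_one_of_dvd_coprimes (Nat.Coprime.pow_left k (by norm_num)) (dvd_of_eq hk)
        (orderOf_dvd_of_pow_eq_one h3)
    have h2 : u * v = 1 := orderOf_eq_one_iff.mp h1
    have : v = u := by
      rw [← inv_eq_of_mul_eq_one_right h2, h.inv_eq hu]
    rw [this]
  have hEp : IsPGroup 2 (Subgroup.closure E) := by
    haveI := Subgroup.isMulCommutative_closure fun x hx y hy => (hc x hx y hy).eq
    intro x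
    refine ⟨1, ?_⟩
    obtain ⟨x, hx⟩ := x
    refine Subtype.ext ?_
    simp only [pow_one, SubmonoidClass.coe_pow, OneMemClass.coe_one]
    induction hx using Subgroup.closure_induction with
    | mem y hy => rw [pow_two]; exact h.sq y (hE hy)
    | one => simp
    | mul y z hy hz ihy ihz =>
      have : Commute y z := congrArg Subtype.val
        (mul_comm' (⟨y, hy⟩ : Subgroup.closure E) ⟨z, hz⟩)
      rw [this.mul_pow, ihy, ihz, one_mul]
    | inv y _ ihy => rw [inv_pow, ihy, inv_one]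
  -- the maximal commuting sets are the traces of Sylow subgroups
  have htrace : ∀ (H : Subgroup G), IsPGroup 2 H → Subgroup.closure E ≤ H →
      {u | u ∈ D ∧ u ∈ H} = E := by
    intro H hH hle
    refine (Set.eq_of_subset_of_ncard_le (fun u hu => ?_) ?_ (Set.toFinite _)).symm
    · exact ⟨hE hu, hle (Subgroup.subset_closure hu)⟩
    · exact hmax _ (fun u hu => hu.1) fun u hu v hv => hcomm H hH u hu.1 v hv.1 hu.2 hv.2
  constructor
  · obtain ⟨P, hP⟩ := hEp.exists_le_sylow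
    refine ⟨P, fun x hx => ?_⟩
    have ht := htrace _ P.2 hP
    have key : ∀ y ∈ (P : Subgroup G), ∀ u ∈ E, y * u * y⁻¹ ∈ E := by
      intro y hy u hu
      rw [← ht] at hu ⊢
      exact ⟨h.conj y u hu.1, mul_mem (mul_mem hy hu.2) (inv_mem hy)⟩
    show ∀ u, u ∈ E ↔ _ ∈ E
    intro u
    refine ⟨key x hx u, fun hu => ?_⟩
    have := key x⁻¹ (inv_mem hx) _ hu
    rw [show x⁻¹ * (x * u * x⁻¹) * x⁻¹⁻¹ = u by group] at this
    exact this
  intro a ha b hb c hc' d hd hab hcd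
  obtain ⟨g0, hg0⟩ := h.trans a (hE ha) c (hE hc')
  have hmem : g0 * b * g0⁻¹ ∈ ThreeTransp.Dx D c := by
    rw [← hg0, h.dx_conj]
    exact ⟨b, ⟨hE hb, hab.symm, hc a ha b hb⟩, rfl⟩
  obtain ⟨k, hk, hkd⟩ := ThreeTransp.dx_transitive h hsol' (hE hc') hmem
    (⟨hE hd, hcd.symm, hc c hc' d hd⟩ : d ∈ ThreeTransp.Dx D c)
  have hkc : k * c * k⁻¹ = c := by
    have : Subgroup.closure (ThreeTransp.Dx D c) ≤ Subgroup.centralizer {c} :=
      (Subgroup.closure_le _).mpr fun z hz =>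
        Subgroup.mem_centralizer_singleton_iff.mpr hz.2.2.symm.eq
    rw [Subgroup.mem_centralizer_singleton_iff.mp (this hk), mul_inv_cancel_right]
  set g1 := k * g0 with hg1
  have h1a : g1 * a * g1⁻¹ = c := by
    calc g1 * a * g1⁻¹ = k * (g0 * a * g0⁻¹) * k⁻¹ := by rw [hg1]; group
      _ = c := by rw [hg0, hkc]
  have h1b : g1 * b * g1⁻¹ = d := by
    calc g1 * b * g1⁻¹ = k * (g0 * b * g0⁻¹) * k⁻¹ := by rw [hg1]; group
      _ = d := hkd
  -- both `E` and its image lie in the centralizer of `c` and `d`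
  set H := Subgroup.centralizer ({c, d} : Set G) with hH
  set A := Subgroup.closure E with hA
  set A' := A.map (MulAut.conj g1).toMonoidHom with hA'
  have hAH : A ≤ H := (Subgroup.closure_le _).mpr fun u hu =>
    Subgroup.mem_centralizer_iff.mpr fun z hz => by
      rcases hz with rfl | rfl
      · exact (hc _ hc' u hu).eq
      · exact (hc _ hd u hu).eq
  have hA'H : A' ≤ H := by
    rw [hA', hA, MonoidHom.map_closure, Subgroup.closure_le]
    rintro _ ⟨u, hu, rfl⟩
    refine Subgroup.mem_centralizer_iff.mpr fun z hz => ?_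
    have hcu : Commute (g1 * a * g1⁻¹) (g1 * u * g1⁻¹) :=
      ThreeTransp.commute_conj_iff.mpr (hc a ha u hu)
    have hdu : Commute (g1 * b * g1⁻¹) (g1 * u * g1⁻¹) :=
      ThreeTransp.commute_conj_iff.mpr (hc b hb u hu)
    rcases hz with rfl | rfl
    · rw [h1a] at hcu; simpa [MulAut.conj_apply] using hcu.eq
    · rw [h1b] at hdu; simpa [MulAut.conj_apply] using hdu.eq
  obtain ⟨Q, hQ⟩ :=
    (hEp.comap_of_injective H.subtype H.subtype_injective).exists_le_sylow
  obtain ⟨Q', hQ'⟩ := ((hEp.map (MulAut.conj g1).toMonoidHom).comap_of_injective H.subtype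
    H.subtype_injective).exists_le_sylow
  obtain ⟨m, hm⟩ := MulAction.exists_smul_eq ↥H Q' Q
  set R := (Q : Subgroup ↥H).map H.subtype with hR
  have hRp : IsPGroup 2 R := Q.2.map _
  have hER : A ≤ R := fun u hu => ⟨⟨u, hAH hu⟩, hQ hu, rfl⟩
  have ht := htrace R hRp hER
  have hsub : ∀ u ∈ E, (m : G) * (g1 * u * g1⁻¹) * (m : G)⁻¹ ∈ E := by
    intro u hu
    have hu' : g1 * u * g1⁻¹ ∈ A' := ⟨u, Subgroup.subset_closure hu, rfl⟩
    have hq : m * ⟨_, hA'H hu'⟩ * m⁻¹ ∈ ((m • Q' : Sylow 2 ↥H) : Subgroup ↥H) :=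
      Subgroup.mem_map.mpr ⟨⟨_, hA'H hu'⟩, hQ' hu', by
        simp [MulDistribMulAction.toMonoidEnd_apply]⟩
    rw [hm] at hq
    rw [← ht]
    exact ⟨h.conj _ _ (h.conj _ _ (hE hu)), ⟨_, hq, rfl⟩⟩
  set g := (m : G) * g1 with hg
  have hgE : ∀ u ∈ E, g * u * g⁻¹ ∈ E := fun u hu => by
    have := hsub u hu
    convert this using 1
    rw [hg]; group
  have himg : (fun u => g * u * g⁻¹) '' E = E :=
    Set.eq_of_subset_of_ncard_le (Set.image_subset_iff.mpr hgE)
      (Set.ncard_image_of_injective _ fun _ _ e => ThreeTransp.conj_inj e).ge (Set.toFinite _)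
  have hmc : (m : G) * c * (m : G)⁻¹ = c := by
    rw [← Subgroup.mem_centralizer_iff.mp m.2 c (Set.mem_insert c _), mul_inv_cancel_right]
  have hmd : (m : G) * d * (m : G)⁻¹ = d := by
    rw [← Subgroup.mem_centralizer_iff.mp m.2 d (Set.mem_insert_of_mem c rfl), mul_inv_cancel_right]
  refine ⟨g, ?_, ?_, ?_⟩
  · show ∀ u, u ∈ E ↔ g * u * g⁻¹ ∈ E
    intro u
    refine ⟨hgE u, fun hu => ?_⟩
    rw [← himg] at hu
    obtain ⟨v, hv, hv'⟩ := hu
    rwa [← ThreeTransp.conj_inj hv']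
  · calc g * a * g⁻¹ = (m : G) * (g1 * a * g1⁻¹) * (m : G)⁻¹ := by rw [hg]; group
      _ = c := by rw [h1a, hmc]
  · calc g * b * g⁻¹ = (m : G) * (g1 * b * g1⁻¹) * (m : G)⁻¹ := by rw [hg]; group
      _ = d := by rw [h1b, hmd]

end Cfsg.Agent.S1612
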