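import Cfsg.Statements.S1617
import Cfsg.Agent.Lib.PTranspRank70
import Cfsg.Agent.S0199
import Cfsg.Agent.S0205
import Cfsg.Agent.S0215
-- import your own Cfsg.Agent.* helpers here

set_option autoImplicit false
open Cfsg

namespace Cfsg.Agent.S1617

/-- A generating conjugacy class of involutions on which the group (with trivial solvable radical) acts with rank 3 is a class of 3-transpositions. -/
theorem result {G : Type*} [Group G] [Finite G] (hsol : ∀ N : Subgroup G, N.Normal → Group.IsSolvable ↥N → N = ⊥) {D : Set G} (hinv : ∀ d ∈ D, orderOf d = 2) (hconj : ∃ d ∈ D, D = conjugatesOf d) (hgen : Subgroup.closure D = ⊤) (hrank : ∀ x ∈ D, ∃ y ∈ D, ∃ z ∈ D, {w : G | ∃ g : G, Commute g x ∧ g * y * g⁻¹ = w} ≠ {w : G | ∃ g : G, Commute g x ∧ g * x * g⁻¹ = w} ∧ {w : G | ∃ g : G, Commute g x ∧ g * z * g⁻¹ = w} ≠ {w : G | ∃ g : G, Commute g x ∧ g * x * g⁻¹ = w} ∧ {w : G | ∃ g : G, Commute g x ∧ g * y * g⁻¹ = w} ≠ {w : G | ∃ g : G, Commute g x ∧ g * z * g⁻¹ = w} ∧ D = {w : G | ∃ g : G, Commute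 g x ∧ g * x * g⁻¹ = w} ∪ {w : G | ∃ g : G, Commute g x ∧ g * y * g⁻¹ = w} ∪ {w : G | ∃ g : G, Commute g x ∧ g * z * g⁻¹ = w}) : Cfsg.IsThreeTranspositionClass D := by
  classical
  obtain ⟨x, hxD, hD⟩ := hconj
  have conjD : ∀ a ∈ D, ∀ g : G, g * a * g⁻¹ ∈ D := by
    intro a ha g
    rw [hD] at ha ⊢
    exact IsConj.trans ha (isConj_iff.2 ⟨g, rfl⟩)
  have cls : ∀ a ∈ D, ∀ b ∈ D, ∃ g : G, g * a * g⁻¹ = b := by
    intro a ha b hb
    rw [hD] at ha hb
    exact isConj_iff.1 (IsConj.trans (IsConj.symm ha) hb)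
  have sq : ∀ a ∈ D, a * a = 1 := fun a ha => Cfsg.Agent.IsolatedInv.sq_of_orderOf_two (hinv a ha)
  have ne1 : ∀ a ∈ D, a ≠ 1 := fun a ha =>
    Cfsg.Agent.IsolatedInv.ne_one_of_orderOf_two (hinv a ha)
  have invD : ∀ a ∈ D, a⁻¹ = a := fun a ha =>
    Cfsg.Agent.IsolatedInv.inv_eq_self_of_sq (sq a ha)
  have csq : ∀ a ∈ D, ∀ b ∈ D, (a * b) * (a * b) = 1 → Commute a b := by
    intro a ha b hb h
    calc a * b = (a * b)⁻¹ := (inv_eq_of_mul_eq_one_right h).symm
      _ = b * a := by rw [mul_inv_rev, invD a ha, invD b hb]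
  have hne_top : ¬ Group.IsSolvable G := by
    intro h
    have := hsol ⊤ inferInstance inferInstance
    exact ne1 x hxD (Subgroup.mem_bot.1 (this ▸ Subgroup.mem_top x))
  obtain ⟨y, hy, z, hz, hyx, hzx, hyz, hun⟩ := hrank x hxD
  set O : G → Set G := fun v => {w : G | ∃ g : G, Commute g x ∧ g * v * g⁻¹ = w} with hO
  have hself : ∀ v, v ∈ O v := fun v => ⟨1, Commute.one_left x, by simp⟩
  have hOx : O x = {x} := by
    ext w
    refine ⟨?_, fun h => h ▸ hself x⟩
    rintro ⟨g, hg, rfl⟩
    rw [Set.mem_singleton_iff, hg.eq, mul_inv_cancel_right]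
  have htri : ∀ w ∈ D, w = x ∨ w ∈ O y ∨ w ∈ O z := by
    intro w hw
    have h1 : w ∈ O x ∪ O y ∪ O z := hun ▸ hw
    rcases h1 with (h1 | h1) | h1
    · exact Or.inl (by rwa [hOx, Set.mem_singleton_iff] at h1)
    · exact Or.inr (Or.inl h1)
    · exact Or.inr (Or.inr h1)
  have hinvO : ∀ v w, w ∈ O v → Commute x v → Commute x w := by
    rintro v w ⟨g, hg, rfl⟩ h
    have h1 := h.map (MulAut.conj g).toMonoidHom
    simpa [hg.eq] using h1
  -- some two different members commute
  obtain ⟨d, hd, hxd, hdx⟩ : ∃ d ∈ D, Commute x d ∧ d ≠ x := by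
    by_contra hno
    push Not at hno
    have hiso : Cfsg.IsIsolatedInvolution x :=
      ⟨hinv x hxD, fun g h => hno _ (conjD x hxD g) h⟩
    have h2 : Fact (Nat.Prime 2) := ⟨Nat.prime_two⟩
    obtain ⟨P, hP⟩ := (IsPGroup.of_card (p := 2) (n := 1)
      (by rw [Nat.card_zpowers, hinv x hxD, pow_one]) :
      IsPGroup 2 (Subgroup.zpowers x)).exists_le_sylow
    have hxP : x ∈ (P : Subgroup G) := hP (Subgroup.mem_zpowers x)
    obtain ⟨N, hN, hNodd, hNc⟩ := Cfsg.Agent.S0215.result P x (hinv x hxD) hxP (fun g hg => by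
      obtain ⟨k, hk⟩ := P.isPGroup' ⟨x * (g * x * g⁻¹), mul_mem hxP hg⟩
      have h3 : (x * (g * x * g⁻¹)) ^ (2 ^ k) = 1 := by
        simpa using congrArg Subtype.val hk
      obtain ⟨i, -, hi⟩ := (Nat.dvd_prime_pow Nat.prime_two).1 (orderOf_dvd_of_pow_eq_one h3)
      have hodd := Cfsg.Agent.IsolatedInv.odd_orderOf_mul_conj hiso g
      rw [hi] at hodd
      rcases i with _ | i
      · rw [pow_zero, orderOf_eq_one_iff] at hi
        exact (inv_eq_of_mul_eq_one_right hi).symm.trans (invD x hxD)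
      · exact absurd hodd (Nat.not_odd_iff_even.2 ⟨2 ^ i, by ring⟩))
    have hNb := hsol N hN (Cfsg.Agent.S0205.result hNodd)
    have hc : ∀ g : G, g * x * g⁻¹ = x := by
      intro g
      have h4 := hNc g
      rw [hNb, Subgroup.mem_bot, mul_inv_eq_one, mul_inv_eq_iff_eq_mul] at h4
      rw [mul_inv_eq_iff_eq_mul]
      exact h4.symm
    refine hyx ?_
    obtain ⟨g, hg⟩ := cls x hxD y hy
    rw [hc g] at hg
    rw [← hg]
  -- exactly one orbit of members not commuting with `x`
  obtain ⟨z0, hz0, hxz0, htrans⟩ : ∃ z0 ∈ D, ¬ Commute x z0 ∧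
      ∀ w ∈ D, ¬ Commute x w → ∃ g : G, Commute g x ∧ g * z0 * g⁻¹ = w := by
    by_cases hcy : Commute x y
    · refine ⟨z, hz, fun hcz => hne_top ?_, fun w hw hxw => ?_⟩
      · have hall : ∀ w ∈ D, Commute x w := fun w hw => by
          rcases htri w hw with h | h | h
          · exact h ▸ Commute.refl x
          · exact hinvO _ _ h hcy
          · exact hinvO _ _ h hcz
        have hall' : ∀ a ∈ D, ∀ b ∈ D, Commute a b := by
          intro a ha b hb
          obtain ⟨g, rfl⟩ := cls x hxD a ha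
          have h1 := (hall _ (conjD b hb g⁻¹)).map (MulAut.conj g).toMonoidHom
          simpa [mul_assoc] using h1
        have h2 : Subgroup.closure D ≤ Subgroup.centralizer D :=
          (Subgroup.closure_le _).2 fun a ha b hb => (hall' b hb a ha).eq
        have h3 : Subgroup.closure D ≤ Subgroup.centralizer (Subgroup.closure D : Set G) := by
          rwa [Subgroup.centralizer_closure]
        have h4 : ∀ a b : G, a * b = b * a := fun a b =>
          h3 (hgen ▸ Subgroup.mem_top b : b ∈ Subgroup.closure D) a (hgen ▸ Subgroup.mem_top a)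
        exact Group.isSolvable_of_comm h4
      · rcases htri w hw with h | h | h
        · exact absurd (h ▸ Commute.refl x) hxw
        · exact absurd (hinvO _ _ h hcy) hxw
        · exact h
    · refine ⟨y, hy, hcy, fun w hw hxw => ?_⟩
      have hcz : Commute x z := by
        by_contra hcz
        rcases htri d hd with h | h | h
        · exact hdx h
        all_goals
          obtain ⟨g, hg, rfl⟩ := h
          have h1 := hxd.map (MulAut.conj g⁻¹).toMonoidHom
          simp only [MulEquiv.coe_toMonoidHom, MulAut.conj_apply, inv_inv] at h1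
          rw [(hg.inv_left).eq, inv_mul_cancel_right] at h1
          simp only [mul_assoc, inv_mul_cancel_left, inv_mul_cancel, mul_one] at h1
        · exact hcy h1
        · exact hcz h1
      rcases htri w hw with h | h | h
      · exact absurd (h ▸ Commute.refl x) hxw
      · exact h
      · exact absurd (hinvO _ _ h hcz) hxw
  -- all noncommuting pairs are conjugate
  have pairs : ∀ a ∈ D, ∀ b ∈ D, ¬ Commute a b →
      ∃ g : G, g * x * g⁻¹ = a ∧ g * z0 * g⁻¹ = b := by
    intro a ha b hb hab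
    obtain ⟨g, rfl⟩ := cls x hxD a ha
    obtain ⟨k, hk, hkb⟩ := htrans (g⁻¹ * b * g⁻¹⁻¹) (conjD b hb g⁻¹) fun h => hab (by
      have h1 := h.map (MulAut.conj g).toMonoidHom
      simpa [mul_assoc] using h1)
    refine ⟨g * k, ?_, ?_⟩
    · rw [show g * k * x * (g * k)⁻¹ = g * (k * x * k⁻¹) * g⁻¹ by group, hk.eq,
        mul_inv_cancel_right]
    · rw [show g * k * z0 * (g * k)⁻¹ = g * (k * z0 * k⁻¹) * g⁻¹ by group, hkb]
      group
  set m := orderOf (x * z0) with hm
  have hord : ∀ a ∈ D, ∀ b ∈ D, ¬ Commute a b → orderOf (a * b) = m := by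
    intro a ha b hb hab
    obtain ⟨g, rfl, rfl⟩ := pairs a ha b hb hab
    rw [show g * x * g⁻¹ * (g * z0 * g⁻¹) = MulAut.conj g (x * z0) by
      rw [MulAut.conj_apply]; group, MulEquiv.orderOf_eq, hm]
  have hm3 : 3 ≤ m := by
    by_contra hlt
    have hpos : 0 < m := orderOf_pos _
    refine hxz0 (csq x hxD z0 hz0 ?_)
    rw [← pow_two]
    refine orderOf_dvd_iff_pow_eq_one.1 ?_
    rw [← hm]
    rcases (show m = 1 ∨ m = 2 by omega) with h | h <;> rw [h] <;> norm_num
  rcases Nat.even_or_odd m with hme | hmo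
  · -- products of order four: Baer-Suzuki
    exfalso
    have hx' : z0 * x * z0 ∈ D := by
      have := conjD x hxD z0
      rwa [invD z0 hz0] at this
    have hm4 : m = 4 := by
      have e : x * (z0 * x * z0) = (x * z0) ^ 2 := by rw [pow_two]; group
      by_cases hc : Commute x (z0 * x * z0)
      · have h4 : (x * z0) ^ 4 = 1 := by
          rw [show 4 = 2 * 2 by norm_num, pow_mul, ← e, hc.mul_pow, pow_two, pow_two, sq x hxD,
            sq _ hx', one_mul]
        have := Nat.le_of_dvd (by norm_num) (orderOf_dvd_of_pow_eq_one h4)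
        obtain ⟨k, hk⟩ := hme
        omega
      · have h2 := hord x hxD _ hx' hc
        rw [e, orderOf_pow' _ two_ne_zero, ← hm] at h2
        obtain ⟨k, hk⟩ := hme
        rw [Nat.gcd_eq_right (hk ▸ ⟨k, by ring⟩ : 2 ∣ m)] at h2
        omega
    have h2 : Fact (Nat.Prime 2) := ⟨Nat.prime_two⟩
    have hfour : ∀ b ∈ D, (x * b) ^ (2 ^ 2) = 1 := by
      intro b hb
      by_cases hc : Commute x b
      · rw [show (2 : ℕ) ^ 2 = 2 * 2 by norm_num, pow_mul, hc.mul_pow, pow_two x, pow_two b,
          sq x hxD, sq b hb, one_mul, one_pow]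
      · rw [show (2 : ℕ) ^ 2 = m by rw [hm4]; norm_num, ← hord x hxD b hb hc, pow_orderOf_eq_one]
    have hzp : ∀ v : G, v ^ (2 ^ 2) = 1 → IsPGroup 2 (Subgroup.zpowers v) := by
      intro v hv
      obtain ⟨i, -, hi⟩ := (Nat.dvd_prime_pow Nat.prime_two).1 (orderOf_dvd_of_pow_eq_one hv)
      exact IsPGroup.of_card (n := i) (by rw [Nat.card_zpowers, hi])
    obtain ⟨N, hN, hNp, hxN⟩ := Cfsg.Agent.S0199.result (p := 2) (Subgroup.zpowers x)
      (hzp x (by rw [show (2 : ℕ) ^ 2 = 2 * 2 by norm_num, pow_mul, pow_two x, sq x hxD, one_pow]))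
      (fun g => by
        set b := g * x * g⁻¹ with hb
        have hbD : b ∈ D := conjD x hxD g
        have hmap : (Subgroup.zpowers x).map (MulAut.conj g).toMonoidHom = Subgroup.zpowers b := by
          rw [MonoidHom.map_zpowers]; rfl
        rw [hmap]
        set K := Subgroup.zpowers (x * b)
        have hnorm : Subgroup.zpowers x ≤ Subgroup.normalizer (K : Set G) := by
          rw [Subgroup.zpowers_le]
          refine Subgroup.mem_normalizer_fintype fun v hv => ?_
          obtain ⟨k, rfl⟩ := Subgroup.mem_zpowers_iff.1 hv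
          refine Subgroup.mem_zpowers_iff.2 ⟨-k, ?_⟩
          have h1 : x * (x * b) * x⁻¹ = (x * b)⁻¹ := by
            have := Cfsg.Agent.IsolatedInv.conj_mul_pow (sq x hxD) (sq b hbD) 1
            simpa using this
          rw [← conj_zpow, h1, inv_zpow']
        have hx2 : IsPGroup 2 (Subgroup.zpowers x) :=
          hzp x (by rw [show (2 : ℕ) ^ 2 = 2 * 2 by norm_num, pow_mul, pow_two x, sq x hxD, one_pow])
        refine ((hx2).to_sup_of_normal_right' (hzp _ (hfour b hbD)) hnorm).to_le ?_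
        refine sup_le le_sup_left ?_
        rw [Subgroup.zpowers_le]
        have e : x * (x * b) = b := by rw [← mul_assoc, sq x hxD, one_mul]
        have h5 : x * (x * b) ∈ Subgroup.zpowers x ⊔ K :=
          Subgroup.mul_mem_sup (Subgroup.mem_zpowers x) (Subgroup.mem_zpowers _)
        rwa [e] at h5)
    have hNs : Group.IsSolvable N := by
      have := hNp.isNilpotent
      infer_instance
    have := hxN (Subgroup.mem_zpowers x)
    rw [hsol N hN hNs, Subgroup.mem_bot] at this
    exact ne1 x hxD this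
  · -- odd order: a prime
    have hprime : m.Prime := by
      set q := m.minFac with hq
      have hqp : q.Prime := Nat.minFac_prime (by omega)
      obtain ⟨j, hj⟩ := Nat.minFac_dvd m
      have hjpos : 0 < j := by
        rcases Nat.eq_zero_or_pos j with h | h
        · rw [h, mul_zero] at hj; omega
        · exact h
      set k := j * ((m + 1) / 2) with hk
      have h2k : (x * z0) ^ j = (x * z0) ^ (2 * k) := by
        rw [hk, show 2 * (j * ((m + 1) / 2)) = j * (2 * ((m + 1) / 2)) by ring,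
          show 2 * ((m + 1) / 2) = m + 1 by obtain ⟨i, hi⟩ := hmo; omega, mul_add, mul_one,
          pow_add, mul_comm j m, pow_mul, hm, pow_orderOf_eq_one, one_pow, one_mul]
      have hw : x * (x * z0) ^ j ∈ D := by
        have h1 := conjD x hxD ((x * z0) ^ k)⁻¹
        have h2 : ((x * z0) ^ k)⁻¹ * x * (x * z0) ^ k = x * (x * z0) ^ (2 * k) := by
          have h3 := Cfsg.Agent.IsolatedInv.conj_mul_pow (sq x hxD) (sq z0 hz0) k
          rw [← h3, two_mul, pow_add, invD x hxD, mul_assoc (x * (x * z0) ^ k) x x, sq x hxD,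
            mul_one, mul_assoc]
        rw [inv_inv, h2, ← h2k] at h1
        exact h1
      have e : x * (x * (x * z0) ^ j) = (x * z0) ^ j := by rw [← mul_assoc, sq x hxD, one_mul]
      have hoj : orderOf ((x * z0) ^ j) = q := by
        rw [orderOf_pow' _ hjpos.ne', ← hm, Nat.gcd_eq_right ⟨q, by rw [hj, mul_comm]⟩]
        nth_rw 1 [hj]
        exact Nat.mul_div_cancel _ hjpos
      have hnc : ¬ Commute x (x * (x * z0) ^ j) := by
        intro hc
        have h4 : ((x * z0) ^ j) ^ 2 = 1 := by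
          rw [← e, hc.mul_pow, pow_two, pow_two, sq x hxD, sq _ hw, one_mul]
        have h5 := orderOf_dvd_of_pow_eq_one h4
        rw [hoj] at h5
        have hq2 := Nat.le_of_dvd (by norm_num) h5
        have : q = 2 := le_antisymm hq2 hqp.two_le
        exact Nat.not_even_iff_odd.2 hmo (even_iff_two_dvd.2 (this ▸ Nat.minFac_dvd m))
      have h6 := hord x hxD _ hw hnc
      rw [e, hoj] at h6
      exact h6 ▸ hqp
    have hpair : ∀ a ∈ D, ∀ b ∈ D, Commute a b ∨ (a * b) ^ m = 1 := by
      intro a ha b hb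
      by_cases h : Commute a b
      · exact Or.inl h
      · exact Or.inr (by rw [← hord a ha b hb h, pow_orderOf_eq_one])
    rcases eq_or_lt_of_le hm3 with h3 | h4
    · refine ⟨⟨hinv, fun a ha b hb => ?_⟩, ⟨x, hxD, hD⟩, hgen⟩
      rcases hpair a ha b hb with h | h
      · left; rw [h.mul_pow, pow_two, pow_two, sq a ha, sq b hb, one_mul]
      · right; rw [h3]; exact h
    · exfalso
      have hp5 : 5 ≤ m := by obtain ⟨i, hi⟩ := hmo; omega
      have hset : Cfsg.Agent.PTransp70.IsPSet m D := ⟨hinv, conjD, hpair⟩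
      refine hset.false_of_const hprime hp5 hsol hgen cls hxD hd hxd hdx.symm
        (Nat.card {w : G // w ∈ D ∧ Commute w x ∧ Commute w z0}) fun a ha b hb hab => ?_
      obtain ⟨g, rfl, rfl⟩ := pairs a ha b hb hab
      refine (Nat.card_congr ((MulAut.conj g).toEquiv.subtypeEquiv fun w => ?_)).symm
      simp only [MulEquiv.toEquiv_eq_coe, MulEquiv.coe_toEquiv, MulAut.conj_apply]
      refine and_congr ⟨fun h => conjD w h g, fun h => ?_⟩ (and_congr ?_ ?_)
      · have := conjD _ h g⁻¹
        simpa [mul_assoc] using this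
      all_goals
        refine ⟨fun h => h.map (MulAut.conj g).toMonoidHom, fun h => ?_⟩
        have := h.map (MulAut.conj g⁻¹).toMonoidHom
        simpa [mul_assoc] using this

end Cfsg.Agent.S1617
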