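import Cfsg.Agent.Lib.J2Chain
import Cfsg.Statements.S1619

set_option autoImplicit false
open Quaternion
open Cfsg

namespace Cfsg.Agent.S1619

open Cfsg.Spor Cfsg.Agent.J2Group Cfsg.Agent.J2Lines Quaternion

/-- The icosian reflection group has order 1209600 with centre {±1}; the Hall–Janko group has order 604800 = 2^7·3^3·5^2·7. -/
theorem result : Nat.card ↥Cfsg.Spor.twoJ2 = 1209600 ∧ Nat.card ↥(Subgroup.center ↥Cfsg.Spor.twoJ2) = 2 ∧ (∃ z ∈ Subgroup.center ↥Cfsg.Spor.twoJ2, ∀ x : ↥Cfsg.Spor.icoLeech, (((z : Equiv.Perm ↥Cfsg.Spor.icoLeech) x : ↥Cfsg.Spor.icoLeech) : Fin 3 → ℍ[ℝ]) = -(x : Fin 3 → ℍ[ℝ])) ∧ Nat.card Cfsg.Spor.J2 = 604800 := by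
  refine ⟨J2Chain.card_twoJ2, by rw [← ker_eq_center]; exact card_ker, ?_, J2Chain.card_J2⟩
  obtain ⟨z, hz⟩ : ∃ z : twoJ2, (z : Equiv.Perm icoLeech) = J2Lines.refl 0 * J2Lines.refl 9 * J2Lines.refl 314 :=
    ⟨⟨_, mul_mem (mul_mem (refl_mem _) (refl_mem _)) (refl_mem _)⟩, rfl⟩
  refine ⟨z, ?_, fun x => by rw [hz]; exact axis_product x⟩
  rw [← ker_eq_center, MonoidHom.mem_ker]
  refine Equiv.ext fun k => refl_injective ?_
  rw [← toLines_spec, Equiv.Perm.one_apply, mul_inv_eq_iff_eq_mul, hz]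
  refine Equiv.ext fun x => Subtype.ext ?_
  rw [Equiv.Perm.mul_apply, axis_product, Equiv.Perm.mul_apply, refl_apply, refl_apply, axis_product x]
  have := IcosianRefl.qrefl_add (IcosianCoords.val3 (root k)) (-(x : Fin 3 → ℍ[ℝ])) x
  have h00 := IcosianRefl.qrefl_add (IcosianCoords.val3 (root k)) 0 0
  rw [add_zero] at h00
  have h02 : qrefl (IcosianCoords.val3 (root k)) (0 : Fin 3 → ℍ[ℝ]) = 0 := by simpa using h00
  rw [neg_add_cancel, h02] at this
  exact neg_eq_of_add_eq_zero_left this.symm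

end Cfsg.Agent.S1619
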