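import Cfsg.Agent.Lib.J2Group
import Cfsg.Statements.S1621

set_option autoImplicit false
open Quaternion
open Cfsg

namespace Cfsg.Agent.S1621

open Cfsg.Spor Cfsg.Agent.J2Group Cfsg.Agent.J2Lines Cfsg.Agent.IcosianCoords Cfsg.Agent.IcosianRefl Cfsg.Agent.IcosianData Quaternion

theorem units_nodup : units.Nodup ∧ units.length = 120 := by decide +kernel

/-- The icosian Leech lattice has 37800 minimal vectors giving 315 distinct reflections. -/
theorem result : {r : Fin 3 → ℍ[ℝ] | r ∈ Cfsg.Spor.icoLeech ∧ Cfsg.Spor.qip r r = 4}.ncard = 37800 ∧ {f : Equiv.Perm ↥Cfsg.Spor.icoLeech | Cfsg.Spor.IsIcoReflection f}.ncard = 315 := by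
  constructor
  · have hset : {r : Fin 3 → ℍ[ℝ] | r ∈ icoLeech ∧ qip r r = 4} =
        Set.range (fun p : Fin 120 × Fin 315 => lsmul (val (units.get (p.1.cast units_nodup.2.symm))) (val3 (root p.2))) := by
      ext r
      constructor
      · rintro ⟨h1, h2⟩
        obtain ⟨k, hk, u, hu, rfl⟩ := J2Minimal.exists_root h1 h2
        obtain ⟨n, hn, rfl⟩ := List.getElem_of_mem hu
        exact ⟨(⟨n, units_nodup.2 ▸ hn⟩, ⟨k, hk⟩), rfl⟩
      · rintro ⟨⟨i, k⟩, rfl⟩
        obtain ⟨hl, hn, -⟩ := root_facts k k.2
        have hu := List.get_mem units (i.cast units_nodup.2.symm)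
        obtain ⟨-, -, hI, -⟩ := units_norm _ hu
        refine ⟨lattice_smul ((mem_icosians _).mpr ⟨_, hI, rfl⟩) hl, ?_⟩
        show qip (lsmul _ _) (lsmul _ _) = 4
        rw [qip_lsmul_left, qip_lsmul_right, hn, ← mul_assoc]
        have h4 : val (units.get (i.cast units_nodup.2.symm)) * (4 : ℍ[ℝ]) = 4 * val (units.get (i.cast units_nodup.2.symm)) := by
          simp [show (4 : ℍ[ℝ]) = 1 + 1 + 1 + 1 by norm_num, add_mul, mul_add]
        rw [h4, mul_assoc, (unit_star hu).2, mul_one]
    rw [hset, Set.ncard_range_of_injective]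
    · simp
    · rintro ⟨i, k⟩ ⟨i', k'⟩ h
      simp only at h
      have hu := List.get_mem units (i.cast units_nodup.2.symm)
      have hu' := List.get_mem units (i'.cast units_nodup.2.symm)
      have hk : k = k' := refl_injective (Equiv.ext fun x => Subtype.ext (by
        rw [refl_apply, refl_apply, ← qrefl_unit (unit_star hu).1, h, qrefl_unit (unit_star hu').1]))
      subst hk
      obtain ⟨-, hn, -⟩ := root_facts k k.2
      have h1 := congrArg (fun v => qip v (val3 (root k))) h
      simp only [qip_lsmul_left, hn] at h1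
      have h4 : (4 : ℍ[ℝ]) ≠ 0 := fun e => by
        have e1 := congrArg QuaternionAlgebra.re e
        rw [show QuaternionAlgebra.re (4 : ℍ[ℝ]) = 4 from rfl] at e1
        simp at e1
      have := units_nodup.1.injective_get (val_injective (mul_right_cancel₀ h4 h1))
      simp [Fin.ext_iff] at this ⊢
      exact this
  · have : {f : Equiv.Perm icoLeech | IsIcoReflection f} = Set.range J2Lines.refl := by
      ext f
      exact ⟨fun h => (exists_refl h).imp fun k hk => hk.symm, fun ⟨k, hk⟩ => hk ▸ isRefl_refl k⟩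
    rw [this, Set.ncard_range_of_injective refl_injective]
    simp

end Cfsg.Agent.S1621
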