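import Cfsg.Agent.Lib.J2Group
import Cfsg.Statements.S1622

set_option autoImplicit false
open Quaternion
open Cfsg

namespace Cfsg.Agent.S1622

open Cfsg.Spor Cfsg.Agent.J2Group Cfsg.Agent.J2Lines

/-- The reflection group is transitive on its 315 reflections by conjugation. -/
theorem result (f f' : Equiv.Perm ↥Cfsg.Spor.icoLeech) (hf : Cfsg.Spor.IsIcoReflection f) (hf' : Cfsg.Spor.IsIcoReflection f') : ∃ g ∈ Cfsg.Spor.twoJ2, g * f * g⁻¹ = f' := by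
  obtain ⟨j, rfl⟩ := exists_refl hf
  obtain ⟨k, rfl⟩ := exists_refl hf'
  obtain ⟨σ, hσ, hσ0⟩ := lineGroup_transitive j
  obtain ⟨τ, hτ, hτ0⟩ := lineGroup_transitive k
  obtain ⟨g, hg, hc⟩ := exists_lift (mul_mem hτ (inv_mem hσ))
  refine ⟨g, gens_eq ▸ hg, ?_⟩
  rw [hc j]
  congr 1
  rw [Equiv.Perm.mul_apply, ← hσ0, ← hτ0, Equiv.Perm.inv_def, Equiv.symm_apply_apply]

end Cfsg.Agent.S1622
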