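import Cfsg.Statements.S1628
import Cfsg.Agent.Lib.RuLattice90

set_option autoImplicit false
open Cfsg

namespace Cfsg.Agent.S1628

/-- The Conway–Wales lattice as stored is even with no vectors of true norm 2: stored norms are multiples of 8, never equal to 8, and the minimum over nonzero vectors is 16. -/
theorem result : (∀ x ∈ Cfsg.Spor.ruLattice, (8 : ℤ) ∣ Cfsg.Spor.ruNorm x) ∧ (∀ x ∈ Cfsg.Spor.ruLattice, Cfsg.Spor.ruNorm x ≠ 8) ∧ (∀ x ∈ Cfsg.Spor.ruLattice, x ≠ 0 → 16 ≤ Cfsg.Spor.ruNorm x) ∧ ∃ x ∈ Cfsg.Spor.ruLattice, Cfsg.Spor.ruNorm x = 16 := by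
  have h8 : ∀ x ∈ Cfsg.Spor.ruLattice, (8 : ℤ) ∣ Cfsg.Spor.ruNorm x := fun x hx => by
    rw [RuLattice90.ruNorm_eq]; exact RuLattice90.norm_dvd (RuLattice90.enc_mem hx)
  have hne : ∀ x ∈ Cfsg.Spor.ruLattice, Cfsg.Spor.ruNorm x ≠ 8 := fun x hx => by
    rw [RuLattice90.ruNorm_eq]; exact RuLattice90.norm_ne_eight (RuLattice90.enc_mem hx)
  refine ⟨h8, hne, fun x hx hx0 => ?_, ?_⟩
  · have hpos : 0 < Cfsg.Spor.ruNorm x := by
      obtain ⟨p, hp⟩ : ∃ p, x p ≠ 0 := by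
        by_contra h
        push_neg at h
        exact hx0 (funext h)
      exact lt_of_lt_of_le (GaussianInt.norm_pos.mpr hp)
        (Finset.single_le_sum (fun i _ => GaussianInt.norm_nonneg (x i)) (Finset.mem_univ p))
    have := h8 x hx
    have := hne x hx
    omega
  · refine ⟨Cfsg.Spor.ruTable.head (by simp [Cfsg.Spor.ruTable]), ?_, by decide +kernel⟩
    rw [Cfsg.Spor.ruLattice, AddSubgroup.mem_sInf]
    exact fun L hL => hL.1 _ (List.head_mem _)

end Cfsg.Agent.S1628
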