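import Cfsg.Statements.S1630
import Cfsg.Agent.Lib.OrthUnitaryForms
import Cfsg.Agent.Lib.OrthUnitaryStd
import Cfsg.Agent.Lib.OrthUnitaryTranspositions
-- import your own Cfsg.Agent.* helpers here

set_option autoImplicit false
open scoped MatrixGroups
open Cfsg

namespace Cfsg.Agent.S1630

open Cfsg.Agent.OrthUnitaryForms
open Cfsg.Agent.OrthUnitaryStd
open Cfsg.Agent.OrthUnitaryTranspositions

/-- The orthogonal transvections of the minus-type orthogonal group in dimension ≥ 6 over the field with two elements form a generating conjugacy class of 3-transpositions. -/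
theorem result (m : ℕ) (hm : 2 ≤ m) : Cfsg.IsThreeTranspositionClass {g : ↥(Cfsg.isometryGroup (ZMod 2) (Cfsg.quadFormMinus m (ZMod 2) 1 1)) | (((g : GL ((Fin m ⊕ Fin m) ⊕ Fin 2) (ZMod 2)) : Matrix ((Fin m ⊕ Fin m) ⊕ Fin 2) ((Fin m ⊕ Fin m) ⊕ Fin 2) (ZMod 2)) - 1).rank = 1} := by
  refine isThreeTranspositionClass _
    (comp_symm_apply _ _ (eqMinus m) (eqMinus_isometry m 1 1))
    (nondegenerate_congr (eqMinus m) (fun x => by simp) (nondegenerate_withBase (nondegenerate_qfBin (show IsAniso (1 : ZMod 2) 1 by unfold IsAniso; decide)) m)) ?_ ?_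
  all_goals simp [Module.finrank_fintype_fun_eq_card]
  all_goals omega

end Cfsg.Agent.S1630
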