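import Cfsg.Statements.S1631
import Cfsg.Agent.Lib.UnitaryF4Transvection
import Cfsg.Agent.Lib.ThreeTranspositionRecognise

set_option autoImplicit false
open scoped MatrixGroups
open Cfsg

namespace Cfsg.Agent.S1631

section
open UnitaryF4Geo

variable {F : Type} [Field F] [Fintype F] [hF : FourField F] {n : ℕ}

/-- The matrix of an element of the special unitary group, as a linear map. -/
def lin (g : ↥(Cfsg.SU n F 2)) : Module.End F (Fin n → F) :=
  Matrix.toLin' ((g : Matrix.SpecialLinearGroup (Fin n) F) : Matrix (Fin n) (Fin n) F)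

theorem lin_inj {g g' : ↥(Cfsg.SU n F 2)} (e : lin g = lin g') : g = g' :=
  Subtype.ext (Subtype.ext (Matrix.toLin'.injective e))

theorem lin_mul (g g' : ↥(Cfsg.SU n F 2)) : lin (g * g') = lin g * lin g' :=
  Matrix.toLin'_mul _ _

theorem lin_one : lin (1 : ↥(Cfsg.SU n F 2)) = 1 := Matrix.toLin'_one

theorem lin_isom (g : ↥(Cfsg.SU n F 2)) (v w : Fin n → F) : h (lin g v) (lin g w) = h v w := by
  have := g.2 v w
  rw [h_eq, h_eq, lin, Matrix.toLin'_apply, Matrix.toLin'_apply]
  exact this

theorem rank_iff (g : ↥(Cfsg.SU n F 2)) :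
    (((g : Matrix.SpecialLinearGroup (Fin n) F) : Matrix (Fin n) (Fin n) F) - 1).rank = 1 ↔
      ∃ u, u ≠ 0 ∧ h u u = 0 ∧ lin g = tv u := by
  classical
  set M := ((g : Matrix.SpecialLinearGroup (Fin n) F) : Matrix (Fin n) (Fin n) F) with hM
  have hlin : ∀ v, lin g v = M.mulVec v := fun v => Matrix.toLin'_apply _ _
  have hsub : ∀ v, (M - 1).mulVec v = lin g v + v := fun v => by
    rw [Matrix.sub_mulVec, Matrix.one_mulVec, hlin, sub_eq_add_neg]
    congr 1
    exact funext fun i => UnitaryF4Geo.neg_eq _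
  constructor
  · intro hr
    rw [Matrix.rank] at hr
    obtain ⟨u₀, hu₀, hspan⟩ := finrank_eq_one_iff'.mp hr
    set u := (u₀ : Fin n → F) with hu
    have hu0 : u ≠ 0 := fun e => hu₀ (Subtype.ext e)
    obtain ⟨z, -, hz⟩ := exists_h_eq_one hu0
    let φ : (Fin n → F) → F := fun v => h (lin g v + v) z
    have hφ : ∀ v, lin g v = v + φ v • u := by
      intro v
      obtain ⟨c, hc⟩ := hspan ⟨(M - 1).mulVec v, LinearMap.mem_range.mpr ⟨v, rfl⟩⟩
      have e : lin g v + v = c • u := by
        rw [← hsub]; exact (congrArg Subtype.val hc).symm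
      show lin g v = v + h (lin g v + v) z • u
      rw [e, h_smul_left, hz, mul_one, ← e, ← add_assoc, add_comm v, add_assoc, vec_add_self,
        add_zero]
    have hM' : M = 1 + Matrix.replicateCol Unit u * Matrix.replicateRow Unit
        (fun j => φ (Pi.single j 1)) := by
      ext i j
      have := congrFun (hφ (Pi.single j 1)) i
      rw [hlin, Matrix.mulVec_single_one] at this
      simp only [Matrix.col_apply, Pi.add_apply, Pi.smul_apply, smul_eq_mul] at this
      simp [Matrix.mul_apply, this, Matrix.one_apply, Pi.single_apply, mul_comm]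
    have hφu : φ u = 0 := by
      have e := (g : Matrix.SpecialLinearGroup (Fin n) F).2
      rw [← hM, hM', Matrix.det_one_add_replicateCol_mul_replicateRow] at e
      have e' : (fun j => φ (Pi.single j 1)) ⬝ᵥ u = 0 := by linear_combination e
      rw [← e']
      show h (lin g u + u) z = _
      conv_lhs => rw [show u = ∑ j, u j • (Pi.single j (1 : F) : Fin n → F) from
        (pi_eq_sum_univ' u)]
      rw [map_sum, ← Finset.sum_add_distrib]
      simp only [map_smul, ← smul_add]
      rw [h_sum_left]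
      exact Finset.sum_congr rfl fun j _ => mul_comm _ _
    have hid : ∀ v w, φ v * h u w + φ w ^ 2 * h v u + φ v * φ w ^ 2 * h u u = 0 := by
      intro v w
      have := lin_isom g v w
      rw [hφ, hφ] at this
      simp only [h_add_left, h_add_right, h_smul_left, h_smul_right] at this
      linear_combination this
    obtain ⟨v₁, hv₁⟩ : ∃ v, φ v ≠ 0 := by
      by_contra hno
      push_neg at hno
      obtain ⟨v, hv⟩ := LinearMap.mem_range.mp u₀.2
      refine hu0 ?_
      rw [hu, ← hv]
      show (M - 1).mulVec v = 0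
      rw [hsub, hφ, hno, zero_smul, add_zero, vec_add_self]
    have huu : h u u = 0 := by
      have := hid u v₁
      rw [hφu] at this
      exact (mul_eq_zero.mp (show φ v₁ ^ 2 * h u u = 0 by linear_combination this)).resolve_left
        (pow_ne_zero 2 hv₁)
    have h1 : ∀ v, φ v = φ z ^ 2 * h v u := fun v => by
      have := hid v z
      rw [hz, huu] at this
      exact UnitaryF4Geo.eq_of_add_eq_zero (by linear_combination this)
    have hz0 : φ z ≠ 0 := fun e => hv₁ (by rw [h1, e]; ring)
    have hz1 : φ z = 1 := by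
      have e := h1 z
      rw [h_comm_one hz, mul_one] at e
      exact (fixed_cases e.symm).resolve_left hz0
    refine ⟨u, hu0, huu, LinearMap.ext fun v => ?_⟩
    rw [hφ, h1, hz1, one_pow, one_mul]
    rfl
  · rintro ⟨u, hu, huu, he⟩
    have hrange : LinearMap.range (M - 1).mulVecLin = Submodule.span F {u} := by
      have key : ∀ v, (M - 1).mulVec v = h v u • u := fun v => by
        rw [hsub, he, tv_apply, add_comm v, add_assoc, vec_add_self, add_zero]
      refine le_antisymm ?_ ?_
      · rintro - ⟨v, rfl⟩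
        exact Submodule.mem_span_singleton.mpr ⟨_, (key v).symm⟩
      · rw [Submodule.span_singleton_le_iff_mem]
        obtain ⟨z, hz, -⟩ := exists_h_eq_one hu
        exact ⟨z, by rw [Matrix.mulVecLin_apply, key, hz, one_smul]⟩
    rw [Matrix.rank, hrange, finrank_span_singleton hu]

theorem exists_el {u : Fin n → F} (hu : h u u = 0) : ∃ g : ↥(Cfsg.SU n F 2), lin g = tv u := by
  obtain ⟨g, hg⟩ := ThreeTranspositionRecognise.exists_tv u hu
  exact ⟨g, LinearMap.ext hg⟩

theorem lin_conj {g d : ↥(Cfsg.SU n F 2)} {u : Fin n → F} (hd : lin d = tv u) :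
    lin (g * d * g⁻¹) = tv (lin g u) := by
  refine LinearMap.ext fun v => ?_
  rw [lin_mul, lin_mul, Module.End.mul_apply, Module.End.mul_apply, hd,
    tv_conj _ (lin_isom g)]
  rw [← Module.End.mul_apply (lin g) (lin g⁻¹), ← lin_mul, mul_inv_cancel, lin_one]
  rfl

theorem main (hn : 4 ≤ n) :
    Cfsg.IsThreeTranspositionClass {g : ↥(Cfsg.SU n F 2) |
      (((g : Matrix.SpecialLinearGroup (Fin n) F) : Matrix (Fin n) (Fin n) F) - 1).rank = 1} := by
  set D := {g : ↥(Cfsg.SU n F 2) |
    (((g : Matrix.SpecialLinearGroup (Fin n) F) : Matrix (Fin n) (Fin n) F) - 1).rank = 1}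
  have mem : ∀ g, g ∈ D ↔ ∃ u, u ≠ 0 ∧ h u u = 0 ∧ lin g = tv u := rank_iff
  have sq : ∀ {g : ↥(Cfsg.SU n F 2)} {u : Fin n → F}, h u u = 0 → lin g = tv u → g * g = 1 := fun {g u} hu e => lin_inj (by
    rw [lin_mul, e, lin_one]; exact LinearMap.ext (tv_tv hu))
  have step : ∀ {w z : Fin n → F} {d e : ↥(Cfsg.SU n F 2)}, h w w = 0 → h z z = 0 → h w z ≠ 0 →
      lin d = tv w → lin e = tv z → lin ((d * e) * d * (d * e)⁻¹) = tv z := by
    intro w z d e hw hz hwz hd he
    rw [lin_conj hd, lin_mul, Module.End.mul_apply, hd, he,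
      ThreeTranspositionRecognise.third hw hz hwz,
      tv_smul (inv_ne_zero fun e' => hwz (h_comm_zero e'))]
  refine ⟨⟨fun d hd => ?_, fun d hd e he => ?_⟩, ?_, ?_⟩
  · obtain ⟨u, hu, huu, e⟩ := (mem d).mp hd
    refine orderOf_eq_prime (by rw [pow_two, sq huu e]) fun h1 => ?_
    obtain ⟨z, hz, -⟩ := exists_h_eq_one hu
    have := LinearMap.congr_fun e z
    rw [h1, lin_one, tv_apply, hz, one_smul] at this
    exact hu (add_left_cancel (a := z) (by rw [add_zero]; exact this.symm))
  · obtain ⟨u, hu, huu, ed⟩ := (mem d).mp hd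
    obtain ⟨w, hw, hww, ee⟩ := (mem e).mp he
    have id' : d⁻¹ = d := inv_eq_of_mul_eq_one_left (sq huu ed)
    have ie : e⁻¹ = e := inv_eq_of_mul_eq_one_left (sq hww ee)
    by_cases huw : h u w = 0
    · left
      have hc : d * e * d⁻¹ = e := lin_inj (by
        rw [lin_conj ee, ed, tv_fix (h_comm_zero huw), ← ee])
      have hc' : d * e * d = e := by simpa [id'] using hc
      rw [pow_two, ← mul_assoc, hc', sq hww ee]
    · right
      have hs := step huu hww huw ed ee
      have hc : d * e * d * (d * e)⁻¹ = e := lin_inj (hs.trans ee.symm)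
      have hc' : d * e * d = e * (d * e) := mul_inv_eq_iff_eq_mul.mp hc
      calc (d * e) ^ 3 = (d * e * d) * (e * d * e) := by
            simp only [pow_succ, pow_zero, one_mul, mul_assoc]
        _ = (e * (d * e)) * (e * d * e) := by rw [hc']
        _ = 1 := by
            simp only [mul_assoc, ← mul_assoc e e, sq hww ee, one_mul,
              ← mul_assoc d d, sq huu ed]
  · obtain ⟨y, hy, -⟩ := exists_one (F := F) (n := n) (k := 0) (f := Fin.elim0)
      (fun i => i.elim0) (by omega)
    obtain ⟨y', hy', hyy⟩ := exists_one (ON_one hy) (by omega)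
    have hyy' : h y' y = 0 := by simpa using (hyy 0).1
    have h0 : h (y + y') (y + y') = 0 := by
      simp [h_add_left, h_add_right, hy, hy', hyy', h_comm_zero hyy', UnitaryF4Geo.add_self]
    have hne : y + y' ≠ 0 := fun e => by
      rw [vec_eq_of_add e, hy'] at hyy'
      exact one_ne_zero hyy'
    obtain ⟨d₀, hd₀⟩ := exists_el h0
    refine ⟨d₀, (mem d₀).mpr ⟨_, hne, h0, hd₀⟩, Set.ext fun d => ⟨fun hd => ?_, fun hd => ?_⟩⟩
    · obtain ⟨u, hu, huu, ed⟩ := (mem d).mp hd
      have via : ∀ {w z : Fin n → F} {a b : ↥(Cfsg.SU n F 2)}, h w w = 0 → h z z = 0 → h w z ≠ 0 →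
          lin a = tv w → lin b = tv z → IsConj a b := fun hw hz hwz ha hb =>
        isConj_iff.mpr ⟨_, lin_inj ((step hw hz hwz ha hb).trans hb.symm)⟩
      by_cases hwu : h (y + y') u = 0
      · obtain ⟨s, hs, hsw, hsu⟩ := ThreeTranspositionRecognise.exists_mid hne hu h0 hwu
        obtain ⟨c, hc⟩ := exists_el hs
        exact (via h0 hs (fun e => hsw (h_comm_zero e)) hd₀ hc).trans (via hs huu hsu hc ed)
      · exact via h0 huu hwu hd₀ ed
    · obtain ⟨g, rfl⟩ := isConj_iff.mp hd
      refine (mem _).mpr ⟨lin g (y + y'), ?_, by rw [lin_isom, h0], lin_conj hd₀⟩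
      intro e
      have := lin_isom g (y + y') y
      rw [e, h_zero_left, h_add_left, hy, hyy', add_zero] at this
      exact zero_ne_one this
  · rw [Subgroup.eq_top_iff']
    intro g
    have hdet : LinearMap.det (lin g) = 1 := by
      rw [lin, LinearMap.det_toLin']; exact (g : Matrix.SpecialLinearGroup (Fin n) F).2
    have hmem := UnitaryF4Transvection.mem_prods hn (lin_isom g) hdet
    suffices ∀ s ∈ UnitaryF4Transvection.prods F n, ∃ k ∈ Subgroup.closure D, lin k = s by
      obtain ⟨k, hk, e⟩ := this _ hmem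
      rwa [← lin_inj e]
    intro s hs
    induction hs using Submonoid.closure_induction with
    | mem x hx =>
      obtain ⟨u, hu, rfl⟩ := hx
      by_cases h0 : u = 0
      · exact ⟨1, one_mem _, by rw [lin_one, h0]; exact LinearMap.ext fun v => by simp [tv_apply]⟩
      · obtain ⟨k, hk⟩ := exists_el hu
        exact ⟨k, Subgroup.subset_closure ((mem k).mpr ⟨u, h0, hu, hk⟩), hk⟩
    | one => exact ⟨1, one_mem _, lin_one⟩
    | mul a b _ _ ha hb =>
      obtain ⟨k, hk, rfl⟩ := ha
      obtain ⟨k', hk', rfl⟩ := hb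
      exact ⟨k * k', mul_mem hk hk', lin_mul k k'⟩

end

/-- The unitary transvections of SU(n, 2), n ≥ 4, form a generating conjugacy class of 3-transpositions. -/
theorem result (F : Type) [Field F] [Fintype F] [DecidableEq F] (hF : Fintype.card F = 4) (n : ℕ) (hn : 4 ≤ n) : Cfsg.IsThreeTranspositionClass {g : ↥(Cfsg.SU n F 2) | (((g : Matrix.SpecialLinearGroup (Fin n) F) : Matrix (Fin n) (Fin n) F) - 1).rank = 1} := by
  haveI : UnitaryF4Geo.FourField F := ⟨hF⟩
  exact main hn

end Cfsg.Agent.S1631
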