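import Cfsg.Statements.S1632
import Mathlib
import Cfsg.Agent.Lib.LatticeThetaForm

set_option autoImplicit false
open Matrix
open Cfsg

namespace Cfsg.Agent.S1632

open UpperHalfPlane ModularForm EisensteinSeries Cfsg.Agent.LatticeThetaForm
open scoped MatrixGroups

theorem E4_coeff (m : ℕ) : (qExpansion 1 E₄).coeff m =
    if m = 0 then 1 else 240 * (ArithmeticFunction.sigma 3 m : ℂ) := by
  rw [E_qExpansion_coeff _ ⟨2, rfl⟩]
  split_ifs with h
  · rfl
  · norm_num [show bernoulli 4 = -1 / 30 by decide +kernel]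

theorem E6_coeff (m : ℕ) : (qExpansion 1 E₆).coeff m =
    if m = 0 then 1 else -504 * (ArithmeticFunction.sigma 5 m : ℂ) := by
  rw [E_qExpansion_coeff _ ⟨3, rfl⟩]
  split_ifs with h
  · rfl
  · norm_num [show bernoulli 6 = 1 / 42 by decide +kernel]

theorem sigma_vals :
    ArithmeticFunction.sigma 3 1 = 1 ∧ ArithmeticFunction.sigma 3 2 = 9 ∧
    ArithmeticFunction.sigma 3 3 = 28 ∧ ArithmeticFunction.sigma 3 4 = 73 ∧
    ArithmeticFunction.sigma 5 1 = 1 ∧ ArithmeticFunction.sigma 5 2 = 33 ∧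
    ArithmeticFunction.sigma 5 3 = 244 ∧ ArithmeticFunction.sigma 5 4 = 1057 := by
  simp only [ArithmeticFunction.sigma_apply]
  decide +kernel

/-- The weight 12 combination matching constant term 1 and no `q`-term. -/
noncomputable def target : PowerSeries ℂ :=
  (7 / 12 : ℂ) • (qExpansion 1 E₄) ^ 3 + (5 / 12 : ℂ) • (qExpansion 1 E₆) ^ 2

theorem coeff_cube (P : PowerSeries ℂ) (m : ℕ) : (P ^ 3).coeff m =
    ∑ x ∈ Finset.HasAntidiagonal.antidiagonal m, (∑ y ∈ Finset.HasAntidiagonal.antidiagonal x.1, P.coeff y.1 * P.coeff y.2) *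
      P.coeff x.2 := by
  rw [pow_succ, pow_two, PowerSeries.coeff_mul]
  simp only [PowerSeries.coeff_mul]

theorem coeff_square (P : PowerSeries ℂ) (m : ℕ) : (P ^ 2).coeff m =
    ∑ y ∈ Finset.HasAntidiagonal.antidiagonal m, P.coeff y.1 * P.coeff y.2 := by
  rw [pow_two, PowerSeries.coeff_mul]

theorem target_coeffs : target.coeff 0 = 1 ∧ target.coeff 1 = 0 ∧ target.coeff 2 = 196560 ∧
    target.coeff 3 = 16773120 ∧ target.coeff 4 = 398034000 := by
  obtain ⟨a1, a2, a3, a4, b1, b2, b3, b4⟩ := sigma_vals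
  refine ⟨?_, ?_, ?_, ?_, ?_⟩ <;>
    norm_num [target, PowerSeries.coeff_smul, -PowerSeries.coeff_zero_eq_constantCoeff,
      coeff_cube, coeff_square, Finset.Nat.antidiagonal_succ, E4_coeff, E6_coeff,
      a1, a2, a3, a4, b1, b2, b3, b4]


/-- An even unimodular lattice of rank 24 without roots has 196560, 16773120 and 398034000 vectors of norms 4, 6 and 8. -/
theorem result (B : Matrix (Fin 24) (Fin 24) ℤ) (hsymm : B.IsSymm) (hpos : ∀ x : Fin 24 → ℤ, x ≠ 0 → 0 < x ⬝ᵥ (B *ᵥ x)) (heven : ∀ x : Fin 24 → ℤ, (2 : ℤ) ∣ x ⬝ᵥ (B *ᵥ x)) (hdet : B.det = 1) (h2 : ∀ x : Fin 24 → ℤ, x ⬝ᵥ (B *ᵥ x) ≠ 2) : {x : Fin 24 → ℤ | x ⬝ᵥ (B *ᵥ x) = 4}.ncard = 196560 ∧ {x : Fin 24 → ℤ | x ⬝ᵥ (B *ᵥ x) = 6}.ncard = 16773120 ∧ {x : Fin 24 → ℤ | x ⬝ᵥ (B *ᵥ x) = 8}.ncard = 398034000 := by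
  have h : EvenUnimodular B := ⟨hsymm, hpos, heven, hdet⟩
  set f := thetaForm h (k := 12) rfl (by norm_num) with hf
  have hc : ∀ m : ℕ, (qExpansion 1 f).coeff m =
      ({v : Fin 24 → ℤ | norm' B v = 2 * (m : ℤ)}.ncard : ℂ) :=
    thetaForm_coeff h rfl (by norm_num)
  set g : ModularForm 𝒮ℒ ((12 : ℕ) : ℤ) := f -
    ((7 / 12 : ℂ) • ModularForm.mcast (by norm_num) (E₄.pow 3) +
     (5 / 12 : ℂ) • ModularForm.mcast (by norm_num) (E₆.pow 2)) with hg
  have hq : qExpansion 1 g = qExpansion 1 f - target := by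
    rw [hg, target, FunLike.coe_sub,
      ModularForm.qExpansion_sub one_pos one_mem_strictPeriods_SL f, FunLike.coe_add,
      ModularForm.qExpansion_add one_pos one_mem_strictPeriods_SL, FunLike.coe_smul,
      FunLike.coe_smul,
      ModularForm.qExpansion_smul one_pos one_mem_strictPeriods_SL,
      ModularForm.qExpansion_smul one_pos one_mem_strictPeriods_SL]
    simp only [coe_mcast]
    rw [ModularForm.qExpansion_pow one_pos one_mem_strictPeriods_SL,
      ModularForm.qExpansion_pow one_pos one_mem_strictPeriods_SL]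
  obtain ⟨t0, t1, t2, t3, t4⟩ := target_coeffs
  have h00 : {v : Fin 24 → ℤ | norm' B v = 2 * ((0 : ℕ) : ℤ)} = {0} := by
    ext v
    simp only [Set.mem_ofPred_eq, Nat.cast_zero, mul_zero, Set.mem_singleton_iff]
    refine ⟨fun hv => by_contra fun hne => (hpos v hne).ne' hv, fun hv => by simp [hv, norm']⟩
  have h01 : {v : Fin 24 → ℤ | norm' B v = 2 * ((1 : ℕ) : ℤ)} = ∅ :=
    Set.eq_empty_of_forall_notMem fun v hv => h2 v (by simpa [norm'] using hv)
  have hgz : g = 0 := by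
    refine ModularForm.sturm_bound_levelOne_nat ?_
    rw [show (12 / 12 : ℕ) = 1 from rfl]
    refine lt_of_lt_of_le (by norm_num : ((1 : ℕ) : ℕ∞) < ((2 : ℕ) : ℕ∞))
      (PowerSeries.nat_le_order _ 2 fun i hi => ?_)
    rw [hq, map_sub, hc]
    interval_cases i
    · rw [h00, t0]; simp
    · rw [h01, t1]; simp
  have heq : qExpansion 1 f = target := by
    rw [hgz] at hq
    rw [← sub_eq_zero, ← hq, FunLike.coe_zero, qExpansion_zero]
  have key : ∀ (m : ℕ) (c : ℕ), target.coeff m = (c : ℂ) →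
      {x : Fin 24 → ℤ | x ⬝ᵥ (B *ᵥ x) = 2 * (m : ℤ)}.ncard = c := by
    intro m c hm
    have := hc m
    rw [heq, hm] at this
    exact_mod_cast this.symm
  exact ⟨key 2 196560 (by rw [t2]; norm_num), key 3 16773120 (by rw [t3]; norm_num),
    key 4 398034000 (by rw [t4]; norm_num)⟩

end Cfsg.Agent.S1632
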