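import Cfsg.Statements.S1633
import Cfsg.Agent.Lib.LeechUnitaryStab
import Cfsg.Agent.Lib.LeechUnitary35
import Cfsg.Agent.Lib.LeechCertOrbIa
import Cfsg.Agent.Lib.LeechCo2

set_option autoImplicit false
open Cfsg
open Cfsg.Agent.GolayBasic Cfsg.Agent.LeechBasic Cfsg.Agent.LeechAut Cfsg.Agent.LeechXi Cfsg.Agent.LeechOrbit
open Cfsg.Agent.LeechCert Cfsg.Agent.LeechPairs Cfsg.Agent.LeechImage

namespace Cfsg.Agent.S1633

/-- The Higman–Sims group acts transitively on 352 vectors, a set closed under x ↦ −w − x, with vector stabiliser isomorphic to PSU(3, 5). -/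
theorem result (v w : ↥Cfsg.leechLattice) (hv : Cfsg.sqNorm (v : Cfsg.GolayPt → ℤ) = 48) (hw : Cfsg.sqNorm (w : Cfsg.GolayPt → ℤ) = 48) (hvw : Cfsg.dotInt (v : Cfsg.GolayPt → ℤ) (w : Cfsg.GolayPt → ℤ) = -32) (F : Type) [Field F] [Fintype F] (hF : Fintype.card F = 25) : {x : ↥Cfsg.leechLattice | Cfsg.sqNorm (x : Cfsg.GolayPt → ℤ) = 32 ∧ Cfsg.dotInt (v : Cfsg.GolayPt → ℤ) (x : Cfsg.GolayPt → ℤ) = 16 ∧ Cfsg.dotInt (w : Cfsg.GolayPt → ℤ) (x : Cfsg.GolayPt → ℤ) = -24}.ncard = 352 ∧ (∀ x ∈ {x : ↥Cfsg.leechLattice | Cfsg.sqNorm (x : Cfsg.GolayPt → ℤ) = 32 ∧ Cfsg.dotInt (v : Cfsg.GolayPt → ℤ) (x : Cfsg.GolayPt → ℤ) = 16 ∧ Cfsg.dotInt (w : Cfsg.GolayPt → ℤ) (x : Cfsg.GolayPt → ℤ) = -24}, -w - x ∈ {x : ↥Cfsg.leechLattice | Cfsg.sqNorm (x : Cfsg.GolayPt → ℤ) = 32 ∧ Cfsg.dotInt (v : Cfsg.GolayPt → ℤ) (x : Cfsg.GolayPt → ℤ) = 16 ∧ Cfsg.dotInt (w : Cfsg.GolayPt → ℤ) (x : Cfsg.GolayPt → ℤ) = -24}) ∧ (∀ x ∈ {x : ↥Cfsg.leechLattice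 | Cfsg.sqNorm (x : Cfsg.GolayPt → ℤ) = 32 ∧ Cfsg.dotInt (v : Cfsg.GolayPt → ℤ) (x : Cfsg.GolayPt → ℤ) = 16 ∧ Cfsg.dotInt (w : Cfsg.GolayPt → ℤ) (x : Cfsg.GolayPt → ℤ) = -24}, ∀ x' ∈ {x : ↥Cfsg.leechLattice | Cfsg.sqNorm (x : Cfsg.GolayPt → ℤ) = 32 ∧ Cfsg.dotInt (v : Cfsg.GolayPt → ℤ) (x : Cfsg.GolayPt → ℤ) = 16 ∧ Cfsg.dotInt (w : Cfsg.GolayPt → ℤ) (x : Cfsg.GolayPt → ℤ) = -24}, ∃ g : ↥Cfsg.Co0, g • v = v ∧ g • w = w ∧ g • x = x') ∧ ∀ x ∈ {x : ↥Cfsg.leechLattice | Cfsg.sqNorm (x : Cfsg.GolayPt → ℤ) = 32 ∧ Cfsg.dotInt (v : Cfsg.GolayPt → ℤ) (x : Cfsg.GolayPt → ℤ) = 16 ∧ Cfsg.dotInt (w : Cfsg.GolayPt → ℤ) (x : Cfsg.GolayPt → ℤ) = -24}, Nonempty (↥(MulAction.stabilizer ↥Cfsg.Co0 v ⊓ MulAction.stabilizer ↥Cfsg.Co0 w ⊓ MulAction.stabilizer ↥Cfsg.Co0 x) ≃* Cfsg.PSU 3 F 5) := by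
  obtain ⟨h₀, p1, p2⟩ := pairHS hv hw hvw
  have p3 : h₀ • (-(v + w)) = Spor.leechU' := by
    rw [smul_neg_vec, smul_add_vec, p1, p2]; abel
  have hr : LeechXi.isL (vec LeechCert.OrbIa.root) = true := by decide +kernel
  set r : leechLattice := ofCode _ hr with hrdef
  have hrm : r ∈ census (cV, cU', c0) 32 (-16, -8, 0) := mem_census₂.mpr (by rw [hrdef, coe_ofCode]; decide +kernel)
  have htr : ∀ {x y : leechLattice}, x ∈ census (cV, cU', c0) 32 (-16, -8, 0) →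
      y ∈ census (cV, cU', c0) 32 (-16, -8, 0) → ∃ g : Co0, Fixes (cV, cU', c0) g ∧ g • x = y := fun hx hy =>
    exists_fixes_smul LeechCert.OrbIa.cert LeechCert.OrbIa.ncard (by norm_num) (by norm_num)
      (a := Spor.leechV) (b := Spor.leechU') (c := 0) coe_leechV coe_leechU' coe_zero_vec (r := r) rfl hrm hx hy
  have dneg : ∀ p q : GolayPt → ℤ, dotInt p (-q) = -dotInt p q := fun p q => by
    rw [dotInt, dotInt, ← Finset.sum_neg_distrib]
    exact Finset.sum_congr rfl fun i _ => by rw [Pi.neg_apply]; ring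
  have dadd : ∀ p q t : GolayPt → ℤ, dotInt (-(p + q)) t = -dotInt p t - dotInt q t := fun p q t => by
    rw [dotInt, dotInt, dotInt, ← Finset.sum_neg_distrib, ← Finset.sum_sub_distrib]
    exact Finset.sum_congr rfl fun i _ => by rw [Pi.neg_apply, Pi.add_apply]; ring
  have dsub : ∀ p q t : GolayPt → ℤ, dotInt p (-q - t) = -dotInt p q - dotInt p t := fun p q t => by
    rw [dotInt, dotInt, dotInt, ← Finset.sum_neg_distrib, ← Finset.sum_sub_distrib]
    exact Finset.sum_congr rfl fun i _ => by rw [Pi.sub_apply, Pi.neg_apply]; ring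
  have hiff : ∀ x : leechLattice, (sqNorm (x : GolayPt → ℤ) = 32 ∧ dotInt (v : GolayPt → ℤ) x = 16 ∧
      dotInt (w : GolayPt → ℤ) x = -24) ↔ h₀ • (-x) ∈ census (cV, cU', c0) 32 (-16, -8, 0) := fun x => by
    rw [mem_census₂, sqNorm_smul, dotInt_eq_of_smul p1 coe_leechV, dotInt_eq_of_smul p3 coe_leechU',
      show ((-x : leechLattice) : GolayPt → ℤ) = -(x : GolayPt → ℤ) from rfl, LeechCo2.sqNorm_neg', dneg, dneg,
      show ((-(v + w) : leechLattice) : GolayPt → ℤ) = -((v : GolayPt → ℤ) + (w : GolayPt → ℤ)) from rfl, dadd]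
    push_cast
    omega
  have hcount : {x : leechLattice | sqNorm (x : GolayPt → ℤ) = 32 ∧ dotInt (v : GolayPt → ℤ) x = 16 ∧
      dotInt (w : GolayPt → ℤ) x = -24}.ncard = 352 := by
    rw [← Set.ncard_image_of_injective _ (neg_injective (G := leechLattice))]
    rw [show ((fun x : leechLattice => -x) '' {x : leechLattice | sqNorm (x : GolayPt → ℤ) = 32 ∧
        dotInt (v : GolayPt → ℤ) x = 16 ∧ dotInt (w : GolayPt → ℤ) x = -24}) =
        {y : leechLattice | h₀ • y ∈ census (cV, cU', c0) 32 (-16, -8, 0)} from Set.ext fun y =>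
      ⟨by rintro ⟨x, hx, rfl⟩; exact (hiff x).mp hx,
        fun hy => ⟨-y, (hiff (-y)).mpr (by rwa [neg_neg]), neg_neg y⟩⟩]
    exact (ncard_of_smul h₀ fun x => Iff.rfl).trans LeechCert.OrbIa.ncard
  refine ⟨hcount, ?_, ?_, ?_⟩
  · rintro x ⟨hx32, hxv, hxw⟩
    have cw : dotInt (x : GolayPt → ℤ) w = -24 := by
      rw [← hxw]; exact Finset.sum_congr rfl fun i _ => mul_comm _ _
    have e : ((-w - x : leechLattice) : GolayPt → ℤ) = -(w : GolayPt → ℤ) - (x : GolayPt → ℤ) := rfl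
    refine ⟨?_, ?_, ?_⟩
    · rw [e, sqNorm_sub, LeechCo2.sqNorm_neg', hw, hx32]
      have : dotInt (-(w : GolayPt → ℤ)) x = 24 := by
        rw [← Int.neg_neg 24, ← hxw, dotInt, dotInt, ← Finset.sum_neg_distrib]
        exact Finset.sum_congr rfl fun i _ => by rw [Pi.neg_apply]; ring
      rw [this]; norm_num
    · rw [e, dsub, hvw, hxv]; norm_num
    · rw [e, dsub, hxw, show dotInt (w : GolayPt → ℤ) w = 48 from
        (Finset.sum_congr rfl fun i _ => (sq _).symm).trans hw]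
      norm_num
  · intro x hx x' hx'
    obtain ⟨g, hg, hgx⟩ := htr ((hiff x).mp hx) ((hiff x').mp hx')
    have g1 : g • Spor.leechV = Spor.leechV := hg _ (Or.inl coe_leechV)
    have g2 : g • Spor.leechU' = Spor.leechU' := hg _ (Or.inr (Or.inl coe_leechU'))
    refine ⟨h₀⁻¹ * g * h₀, by rw [mul_smul, mul_smul, p1, g1, inv_smul_eq_iff, p1], ?_, ?_⟩
    · rw [mul_smul, mul_smul, p2, smul_neg_vec, smul_add_vec, g1, g2, inv_smul_eq_iff, p2]
    · rw [← neg_inj, ← smul_neg_vec, mul_smul, mul_smul, hgx, inv_smul_smul]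
  · intro x hx
    obtain ⟨g, hg, hgx⟩ := htr ((hiff x).mp hx) hrm
    have g1 : g • Spor.leechV = Spor.leechV := hg _ (Or.inl coe_leechV)
    have g2 : g • Spor.leechU' = Spor.leechU' := hg _ (Or.inr (Or.inl coe_leechU'))
    have hcx : ((-r : leechLattice) : GolayPt → ℤ) = vec LeechUnitary35.fixedCodes.2.2 := by
      rw [show ((-r : leechLattice) : GolayPt → ℤ) = -(r : GolayPt → ℤ) from rfl, hrdef, coe_ofCode]
      funext p; revert p; decide +kernel
    obtain ⟨e₁⟩ := LeechUnitaryStab.nonempty_conj (g * h₀)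
      (MulAction.stabilizer Co0 v ⊓ MulAction.stabilizer Co0 w ⊓ MulAction.stabilizer Co0 x)
      (a' := Spor.leechV) (b' := -(Spor.leechV + Spor.leechU')) (c' := -r)
      (by rw [mul_smul, p1, g1]) (by rw [mul_smul, p2, smul_neg_vec, smul_add_vec, g1, g2])
      (by rw [← neg_inj, ← smul_neg_vec, mul_smul, hgx, neg_neg]) (fun k => by simp [and_assoc])
    have hcard : Nat.card ↥(stab3 Spor.leechV (-(Spor.leechV + Spor.leechU')) (-r)) = 126000 := by
      have h1 := LeechUnitaryStab.census_mul_card (F := (cV, cU', c0)) (a := Spor.leechV) (b := Spor.leechU')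
        (c := (0 : leechLattice)) coe_leechV coe_leechU' coe_zero_vec (y := r) (fun z hz => htr hrm hz) hrm
      have e₂ : stab3 Spor.leechV Spor.leechU' (0 : leechLattice) ⊓ MulAction.stabilizer Co0 r =
          stab3 Spor.leechV (-(Spor.leechV + Spor.leechU')) (-r) := by
        ext k
        simp only [Subgroup.mem_inf, MulAction.mem_stabilizer_iff, smul_zero_vec, and_true, smul_neg_vec,
          smul_add_vec, neg_inj]
        exact and_congr_left fun _ => and_congr_right fun h => by rw [h, add_right_inj]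
      have e₃ : stab3 Spor.leechV Spor.leechU' (0 : leechLattice) =
          MulAction.stabilizer Co0 Spor.leechV ⊓ MulAction.stabilizer Co0 Spor.leechU' := by
        ext k; simp [smul_zero_vec]
      rw [show (census (cV, cU', c0) 32 (-16, -8, 0)).ncard = 352 from LeechCert.OrbIa.ncard, e₂, e₃,
        LeechCertOrders.card_stab_pair11178 (u := Spor.leechV) (x := Spor.leechU') sqNorm_leechV (by decide +kernel)
          (by decide +kernel)] at h1
      omega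
    obtain ⟨e₄⟩ := LeechUnitary35.nonempty_stab_iso coe_leechV coe_negVU' hcx hcard F hF
    exact ⟨e₁.trans e₄⟩

end Cfsg.Agent.S1633
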