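import Cfsg.Statements.S1634
import Cfsg.Agent.Lib.LeechPairs
import Cfsg.Agent.Lib.LeechCertOrbH
import Cfsg.Agent.Lib.LeechCertOrbHa
import Cfsg.Agent.Lib.LeechCertOrbHb
import Cfsg.Agent.Lib.LeechCertOrbHc

set_option autoImplicit false
open Cfsg
open Cfsg.Agent.LeechBasic Cfsg.Agent.LeechAut Cfsg.Agent.LeechOrbit Cfsg.Agent.LeechCert Cfsg.Agent.LeechPairs

namespace Cfsg.Agent.S1634

/-- The McLaughlin group acts on 2025 points (minimal vectors orthogonal to v with customary inner product 2 with w) transitively with rank 4 and subdegrees 1, 330, 462, 1232. -/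
theorem result (v w : ↥Cfsg.leechLattice) (hv : Cfsg.sqNorm (v : Cfsg.GolayPt → ℤ) = 32) (hw : Cfsg.sqNorm (w : Cfsg.GolayPt → ℤ) = 32) (hvw : Cfsg.dotInt (v : Cfsg.GolayPt → ℤ) (w : Cfsg.GolayPt → ℤ) = -8) : {x : ↥Cfsg.leechLattice | Cfsg.sqNorm (x : Cfsg.GolayPt → ℤ) = 32 ∧ Cfsg.dotInt (v : Cfsg.GolayPt → ℤ) (x : Cfsg.GolayPt → ℤ) = 0 ∧ Cfsg.dotInt (w : Cfsg.GolayPt → ℤ) (x : Cfsg.GolayPt → ℤ) = 16}.ncard = 2025 ∧ (∀ x ∈ {x : ↥Cfsg.leechLattice | Cfsg.sqNorm (x : Cfsg.GolayPt → ℤ) = 32 ∧ Cfsg.dotInt (v : Cfsg.GolayPt → ℤ) (x : Cfsg.GolayPt → ℤ) = 0 ∧ Cfsg.dotInt (w : Cfsg.GolayPt → ℤ) (x : Cfsg.GolayPt → ℤ) = 16}, ∀ x' ∈ {x : ↥Cfsg.leechLattice | Cfsg.sqNorm (x : Cfsg.GolayPt → ℤ) = 32 ∧ Cfsg.dotInt (v : Cfsg.GolayPt → ℤ) (x : Cfsg.GolayPt → ℤ) = 0 ∧ Cfsg.dotInt (w : Cfsg.GolayPt → ℤ) (x : Cfsg.GolayPt → ℤ) = 16}, ∃ g : ↥Cfsg.Co0, g • v = v ∧ g • w = w ∧ g • x = x') ∧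 ∀ x ∈ {x : ↥Cfsg.leechLattice | Cfsg.sqNorm (x : Cfsg.GolayPt → ℤ) = 32 ∧ Cfsg.dotInt (v : Cfsg.GolayPt → ℤ) (x : Cfsg.GolayPt → ℤ) = 0 ∧ Cfsg.dotInt (w : Cfsg.GolayPt → ℤ) (x : Cfsg.GolayPt → ℤ) = 16}, ∃ y₁ ∈ {x : ↥Cfsg.leechLattice | Cfsg.sqNorm (x : Cfsg.GolayPt → ℤ) = 32 ∧ Cfsg.dotInt (v : Cfsg.GolayPt → ℤ) (x : Cfsg.GolayPt → ℤ) = 0 ∧ Cfsg.dotInt (w : Cfsg.GolayPt → ℤ) (x : Cfsg.GolayPt → ℤ) = 16}, ∃ y₂ ∈ {x : ↥Cfsg.leechLattice | Cfsg.sqNorm (x : Cfsg.GolayPt → ℤ) = 32 ∧ Cfsg.dotInt (v : Cfsg.GolayPt → ℤ) (x : Cfsg.GolayPt → ℤ) = 0 ∧ Cfsg.dotInt (w : Cfsg.GolayPt → ℤ) (x : Cfsg.GolayPt → ℤ) = 16}, ∃ y₃ ∈ {x : ↥Cfsg.leechLattice | Cfsg.sqNorm (x : Cfsg.GolayPt → ℤ) = 32 ∧ Cfsg.dotInt (v : Cfsg.GolayPt → ℤ) (x : Cfsg.GolayPt → ℤ) = 0 ∧ Cfsg.dotInt (w : Cfsg.GolayPt → ℤ) (x : Cfsg.GolayPt → ℤ) = 16}, (MulAction.orbit ↥(MulAction.stabilizer ↥Cfsg.Co0 v ⊓ MulAction.stabilizer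 ↥Cfsg.Co0 w ⊓ MulAction.stabilizer ↥Cfsg.Co0 x) y₁).ncard = 330 ∧ (MulAction.orbit ↥(MulAction.stabilizer ↥Cfsg.Co0 v ⊓ MulAction.stabilizer ↥Cfsg.Co0 w ⊓ MulAction.stabilizer ↥Cfsg.Co0 x) y₂).ncard = 462 ∧ (MulAction.orbit ↥(MulAction.stabilizer ↥Cfsg.Co0 v ⊓ MulAction.stabilizer ↥Cfsg.Co0 w ⊓ MulAction.stabilizer ↥Cfsg.Co0 x) y₃).ncard = 1232 := by
  obtain ⟨h₀, p1, p2⟩ := pairMcL hv hw hvw
  let Q : leechLattice → Prop := fun y => sqNorm (y : GolayPt → ℤ) = 32 ∧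
    dotInt (v : GolayPt → ℤ) y = 0 ∧ dotInt (w : GolayPt → ℤ) y = 16
  have hs : ∀ y : leechLattice, dotInt ((v + w : leechLattice) : GolayPt → ℤ) y =
      dotInt (v : GolayPt → ℤ) y + dotInt (w : GolayPt → ℤ) y := fun y => by
    simp only [AddSubgroup.coe_add, dotInt, Pi.add_apply, add_mul, Finset.sum_add_distrib]
  have p3 : h₀ • (v + w) = Spor.leechV := by rw [smul_add_vec, p1, p2]; abel
  have hiff : ∀ (h : Co0), h • v = -Spor.leechU → h • (v + w) = Spor.leechV → ∀ y, Q y ↔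
      h • y ∈ census (cV, cX, c0) 32 (16, 0, 0) := fun h e1 e2 y => by
    rw [mem_census₂, sqNorm_smul, dotInt_eq_of_smul e2 coe_leechV, dotInt_eq_of_smul e1 coe_negU, hs y]
    exact ⟨fun ⟨a, b, c⟩ => ⟨a, by omega, b⟩, fun ⟨a, b, c⟩ => ⟨a, c, by omega⟩⟩
  have hr : LeechXi.isL (vec LeechCert.OrbH.root) = true := by decide +kernel
  set r : leechLattice := ofCode _ hr
  have hrm : r ∈ census (cV, cX, c0) 32 (16, 0, 0) := mem_census₂.mpr (by rw [coe_ofCode]; decide +kernel)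
  have move : ∀ x, Q x → ∃ h : Co0, h • v = -Spor.leechU ∧ h • (v + w) = Spor.leechV ∧ h • x = r := by
    intro x hx
    obtain ⟨g, hg, hgx⟩ := exists_fixes_smul LeechCert.OrbH.cert LeechCert.OrbH.ncard (by norm_num) (by norm_num)
      (a := Spor.leechV) (b := -Spor.leechU) (c := 0) coe_leechV coe_negU coe_zero_vec (r := r) rfl hrm
      ((hiff h₀ p1 p3 x).mp hx) hrm
    exact ⟨g * h₀, by rw [mul_smul, p1, hg _ (Or.inr (Or.inl coe_negU))],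
      by rw [mul_smul, p3, hg _ (Or.inl coe_leechV)], by rw [mul_smul, hgx]⟩
  refine ⟨(ncard_of_smul h₀ (hiff h₀ p1 p3)).trans LeechCert.OrbH.ncard, ?_, ?_⟩
  · intro x hx x' hx'
    obtain ⟨h, a1, a2, a3⟩ := move x hx
    obtain ⟨k, b1, b2, b3⟩ := move x' hx'
    refine ⟨k⁻¹ * h, by rw [mul_smul, inv_smul_eq_iff, a1, b1], ?_, by rw [mul_smul, inv_smul_eq_iff, a3, b3]⟩
    rw [mul_smul, inv_smul_eq_iff, show w = (v + w) - v by abel, smul_sub_vec, smul_sub_vec, a1, a2, b1, b2]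
  · intro x hx
    obtain ⟨h, h1, h2, h3⟩ := move x hx
    set H := MulAction.stabilizer Co0 v ⊓ MulAction.stabilizer Co0 w ⊓ MulAction.stabilizer Co0 x
    have hiff3 : ∀ (k : ℤ) (y : leechLattice), (Q y ∧ dotInt (x : GolayPt → ℤ) y = k) ↔
        h • y ∈ census (cV, cX, LeechCert.OrbH.root) 32 (16, 0, k) := fun k y => by
      rw [mem_census₃, hiff h h1 h2 y, mem_census₂, dotInt_eq_of_smul h3 (coe_ofCode _ hr), and_assoc, and_assoc]
    have orb : ∀ (k : ℤ) (n : ℕ) (root : ℕ) (gens : List (List Step)) (B : ℕ) (scripts : List ℕ),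
        certOK (cV, cX, LeechCert.OrbH.root) root gens B scripts n = true →
        (census (cV, cX, LeechCert.OrbH.root) 32 (16, 0, k)).ncard = n → 0 < n →
        LeechXi.isL (vec root) = true →
        (sqNorm (vec root) = 32 ∧ dotInt (vec cV) (vec root) = 16 ∧ dotInt (vec cX) (vec root) = 0 ∧
          dotInt (vec LeechCert.OrbH.root) (vec root) = k) →
        ∃ y ∈ {y | Q y}, (MulAction.orbit H y).ncard = n := by
      intro k n root gens B scripts hc hn hn0 hroot hm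
      have hmem : (ofCode root hroot) ∈ census (cV, cX, LeechCert.OrbH.root) 32 (16, 0, k) :=
        mem_census₃.mpr (by rw [coe_ofCode]; exact hm)
      have hy : Q (h⁻¹ • ofCode root hroot) ∧
          dotInt (x : GolayPt → ℤ) (h⁻¹ • ofCode root hroot : leechLattice) = k :=
        (hiff3 k _).mpr (by rwa [smul_inv_smul])
      refine ⟨_, hy.1, ?_⟩
      rw [orbit_eq_of_transitive (S := {y | Q y ∧ dotInt (x : GolayPt → ℤ) y = k}) hy ?_ ?_]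
      · exact (ncard_of_smul h (hiff3 k)).trans hn
      · intro g hg z hz
        simp only [H, Subgroup.mem_inf, MulAction.mem_stabilizer_iff] at hg
        obtain ⟨⟨a, b, b'⟩, c⟩ := hz
        refine ⟨⟨by rw [sqNorm_smul]; exact a, ?_, ?_⟩, ?_⟩
        · rw [← b]; conv_lhs => rw [← hg.1.1]
          exact dotInt_smul g v z
        · rw [← b']; conv_lhs => rw [← hg.1.2]
          exact dotInt_smul g w z
        · rw [← c]; conv_lhs => rw [← hg.2]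
          exact dotInt_smul g x z
      · intro z hz
        obtain ⟨g, hg, hgz⟩ := exists_fixes_smul hc hn hn0 (by norm_num)
          (a := Spor.leechV) (b := -Spor.leechU) (c := r) coe_leechV coe_negU rfl
          (r := ofCode root hroot) rfl hmem hmem ((hiff3 k z).mp hz)
        have gv : (h⁻¹ * g * h) • v = v := by
          rw [mul_smul, mul_smul, h1, hg _ (Or.inr (Or.inl coe_negU)), inv_smul_eq_iff, h1]
        have gu : (h⁻¹ * g * h) • (v + w) = v + w := by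
          rw [mul_smul, mul_smul, h2, hg _ (Or.inl coe_leechV), inv_smul_eq_iff, h2]
        refine ⟨h⁻¹ * g * h, ?_, by rw [mul_smul, mul_smul, smul_inv_smul, hgz, inv_smul_smul]⟩
        simp only [H, Subgroup.mem_inf, MulAction.mem_stabilizer_iff]
        refine ⟨⟨gv, ?_⟩, by rw [mul_smul, mul_smul, h3, hg _ (Or.inr (Or.inr rfl)), inv_smul_eq_iff, h3]⟩
        rw [smul_add_vec, gv] at gu
        exact add_left_cancel gu
    obtain ⟨y₁, m1, o1⟩ := orb 0 _ _ _ _ _ LeechCert.OrbHa.cert LeechCert.OrbHa.ncard (by norm_num)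
      (by decide +kernel) (by decide +kernel)
    obtain ⟨y₂, m2, o2⟩ := orb 16 _ _ _ _ _ LeechCert.OrbHb.cert LeechCert.OrbHb.ncard (by norm_num)
      (by decide +kernel) (by decide +kernel)
    obtain ⟨y₃, m3, o3⟩ := orb 8 _ _ _ _ _ LeechCert.OrbHc.cert LeechCert.OrbHc.ncard (by norm_num)
      (by decide +kernel) (by decide +kernel)
    exact ⟨y₁, m1, y₂, m2, y₃, m3, o1, o2, o3⟩

end Cfsg.Agent.S1634
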