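import Cfsg.Statements.S1636
import Cfsg.Agent.Lib.GolayCosets

set_option autoImplicit false
open Cfsg

namespace Cfsg.Agent.S1636

/-- The punctured length-23 code has weight distribution 0^1 7^253 8^506 11^1288 12^1288 15^506 16^253 23^1. -/
theorem result : {u : ZMod 23 → ZMod 2 | ∃ w ∈ Cfsg.golayCode, ∀ x : ZMod 23, u x = w (some x)}.ncard = 4096 ∧ {u : ZMod 23 → ZMod 2 | u ∈ {u : ZMod 23 → ZMod 2 | ∃ w ∈ Cfsg.golayCode, ∀ x : ZMod 23, u x = w (some x)} ∧ hammingNorm u = 7}.ncard = 253 ∧ {u : ZMod 23 → ZMod 2 | u ∈ {u : ZMod 23 → ZMod 2 | ∃ w ∈ Cfsg.golayCode, ∀ x : ZMod 23, u x = w (some x)} ∧ hammingNorm u = 8}.ncard = 506 ∧ {u : ZMod 23 → ZMod 2 | u ∈ {u : ZMod 23 → ZMod 2 | ∃ w ∈ Cfsg.golayCode, ∀ x : ZMod 23, u x = w (some x)} ∧ hammingNorm u = 11}.ncard = 1288 ∧ {u : ZMod 23 → ZMod 2 | u ∈ {u : ZMod 23 → ZMod 2 | ∃ w ∈ Cfsg.golayCode, ∀ x : ZMod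 23, u x = w (some x)} ∧ hammingNorm u = 12}.ncard = 1288 ∧ {u : ZMod 23 → ZMod 2 | u ∈ {u : ZMod 23 → ZMod 2 | ∃ w ∈ Cfsg.golayCode, ∀ x : ZMod 23, u x = w (some x)} ∧ hammingNorm u = 15}.ncard = 506 ∧ {u : ZMod 23 → ZMod 2 | u ∈ {u : ZMod 23 → ZMod 2 | ∃ w ∈ Cfsg.golayCode, ∀ x : ZMod 23, u x = w (some x)} ∧ hammingNorm u = 16}.ncard = 253 ∧ ∀ u ∈ {u : ZMod 23 → ZMod 2 | ∃ w ∈ Cfsg.golayCode, ∀ x : ZMod 23, u x = w (some x)}, u ≠ 0 → 7 ≤ hammingNorm u := by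
  refine ⟨?_, ?_, ?_, ?_, ?_, ?_, ?_, ?_⟩
  · have e : {u : ZMod 23 → ZMod 2 | ∃ w ∈ Cfsg.golayCode, ∀ x : ZMod 23, u x = w (some x)} =
        GolayCosets.punct '' (Cfsg.golayCode : Set (Cfsg.GolayPt → ZMod 2)) := by
      ext u
      exact ⟨fun ⟨w, hw, h⟩ => ⟨w, hw, (funext h).symm⟩, fun ⟨w, hw, h⟩ => ⟨w, hw, fun x => (congrFun h x).symm⟩⟩
    rw [e, Set.InjOn.ncard_image GolayCosets.punct_injOn, ← Nat.card_coe_set_eq]
    exact GolayBasic.card_golayCode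
  · rw [GolayCosets.ncard_punct]; decide +kernel
  · rw [GolayCosets.ncard_punct]; decide +kernel
  · rw [GolayCosets.ncard_punct]; decide +kernel
  · rw [GolayCosets.ncard_punct]; decide +kernel
  · rw [GolayCosets.ncard_punct]; decide +kernel
  · rw [GolayCosets.ncard_punct]; decide +kernel
  · rintro u ⟨w, hw, hu⟩ hne
    obtain rfl : u = GolayCosets.punct w := funext hu
    exact GolayCosets.seven_le hw hne


end Cfsg.Agent.S1636
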