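import Cfsg.Statements.S1638
import Cfsg.Agent.Lib.GolayPairs

set_option autoImplicit false
open scoped Pointwise
open Cfsg
open scoped Pointwise

namespace Cfsg.Agent.S1638

/-- Fix two points p ≠ q and a pair s of two further points. Among the pairs avoiding p, q and disjoint from s, exactly 30 lie in an octad together with p, q and s and exactly 160 do not; and any two pairs other than s that meet s in equally many points and agree on that octad property are carried to one another by an element of the group of the length-24 code fixing p, q and s. -/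
theorem result (p q : Cfsg.GolayPt) (hpq : p ≠ q) (s : Finset Cfsg.GolayPt) (hs : (s.card = 2 ∧ p ∉ s ∧ q ∉ s)) : {t : Finset Cfsg.GolayPt | (t.card = 2 ∧ p ∉ t ∧ q ∉ t) ∧ Disjoint s t ∧ (∃ o ∈ Cfsg.octads, p ∈ o ∧ q ∈ o ∧ s ∪ t ⊆ o)}.ncard = 30 ∧ {t : Finset Cfsg.GolayPt | (t.card = 2 ∧ p ∉ t ∧ q ∉ t) ∧ Disjoint s t ∧ ¬ (∃ o ∈ Cfsg.octads, p ∈ o ∧ q ∈ o ∧ s ∪ t ⊆ o)}.ncard = 160 ∧ ∀ t t' : Finset Cfsg.GolayPt, (t.card = 2 ∧ p ∉ t ∧ q ∉ t) → (t'.card = 2 ∧ p ∉ t' ∧ q ∉ t') → t ≠ s → t' ≠ s → (s ∩ t).card = (s ∩ t').card → ((∃ o ∈ Cfsg.octads, p ∈ o ∧ q ∈ o ∧ s ∪ t ⊆ o) ↔ (∃ o ∈ Cfsg.octads, p ∈ o ∧ q ∈ o ∧ s ∪ t' ⊆ o)) → ∃ g : Equiv.Perm Cfsg.GolayPt, g ∈ Cfsg.M24 ∧ g p = p ∧ g q = q ∧ g • s = s ∧ g • t = t' := by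
  classical
  obtain ⟨hs2, hps, hqs⟩ := hs
  obtain ⟨g, hg, rfl, rfl, rfl⟩ := GolayPairs.exists_base p q hpq s hs2 hps hqs
  have hcard : ∀ t : Finset Cfsg.GolayPt, (g • t).card = t.card := fun t => Finset.card_smul_finset g t
  have hmem : ∀ (x : Cfsg.GolayPt) (t : Finset Cfsg.GolayPt), g x ∈ g • t ↔ x ∈ t := fun x t =>
    Finset.smul_mem_smul_finset_iff g
  have hdisj : ∀ a b : Finset Cfsg.GolayPt, Disjoint (g • a) (g • b) ↔ Disjoint a b := fun a b => by
    rw [Finset.disjoint_iff_inter_eq_empty, Finset.disjoint_iff_inter_eq_empty,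
      ← Finset.smul_finset_inter, ← Finset.card_eq_zero, ← Finset.card_eq_zero, hcard]
  have hcount : ∀ b : Bool, {t : Finset Cfsg.GolayPt | (t.card = 2 ∧ g (GolayBasic.pt 23) ∉ t ∧ g (GolayBasic.pt 0) ∉ t) ∧
      Disjoint (g • GolayPairs.s₀) t ∧
      (GolayPairs.InOct (g (GolayBasic.pt 23)) (g (GolayBasic.pt 0)) (g • GolayPairs.s₀) t ↔ b = true)}.ncard =
      (GolayPairs.pairMasks.filter fun m => GolayPairs.inOctMask m == b).length := by
    intro b
    rw [← GolayPairs.count_base b]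
    symm
    rw [
      ← Set.ncard_image_of_injective _ (MulAction.injective g (β := Finset Cfsg.GolayPt))]
    congr 1
    ext t
    obtain ⟨t, rfl⟩ : ∃ u, g • u = t := ⟨g⁻¹ • t, smul_inv_smul g t⟩
    rw [(MulAction.injective g).mem_set_image]
    simp only [Set.mem_ofPred_eq, hcard, hmem, hdisj, GolayPairs.inOct_smul_iff hg]
  refine ⟨?_, ?_, ?_⟩
  · have h := hcount true
    simp only [iff_true, GolayPairs.InOct] at h
    rw [h]
    decide +kernel
  · have h := hcount false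
    simp only [Bool.false_eq_true, iff_false, GolayPairs.InOct] at h
    rw [h]
    decide +kernel
  · intro t t' ht ht' hts hts' hcap hoct
    obtain ⟨t, rfl⟩ : ∃ u, g • u = t := ⟨g⁻¹ • t, smul_inv_smul g t⟩
    obtain ⟨t', rfl⟩ : ∃ u, g • u = t' := ⟨g⁻¹ • t', smul_inv_smul g t'⟩
    rw [hcard, hmem, hmem] at ht ht'
    rw [← Finset.smul_finset_inter, ← Finset.smul_finset_inter, hcard, hcard] at hcap
    have hoct' : GolayPairs.InOct (GolayBasic.pt 23) (GolayBasic.pt 0) GolayPairs.s₀ t ↔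
        GolayPairs.InOct (GolayBasic.pt 23) (GolayBasic.pt 0) GolayPairs.s₀ t' :=
      (GolayPairs.inOct_smul_iff hg).symm.trans (hoct.trans (GolayPairs.inOct_smul_iff hg))
    obtain ⟨a, ha, a1, a2, a3, a4⟩ := GolayPairs.canon ht.1 ht.2.1 ht.2.2 fun e => hts (by rw [e])
    obtain ⟨b, hb, b1, b2, b3, b4⟩ := GolayPairs.canon ht'.1 ht'.2.1 ht'.2.2 fun e => hts' (by rw [e])
    have hc : GolayPairs.canonPair t = GolayPairs.canonPair t' := by
      unfold GolayPairs.canonPair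
      simp only [hcap, hoct']
    have ai : ∀ x, a x = x → (Equiv.symm a) x = x := fun x h => (Equiv.symm_apply_eq a).2 h.symm
    refine ⟨g * b * a⁻¹ * g⁻¹, mul_mem (mul_mem (mul_mem hg hb) (inv_mem ha)) (inv_mem hg), ?_, ?_, ?_, ?_⟩
    · simp [ai _ a1, b1]
    · simp [ai _ a2, b2]
    · simp only [mul_smul, inv_smul_smul]
      rw [show a⁻¹ • GolayPairs.s₀ = GolayPairs.s₀ from inv_smul_eq_iff.2 a3.symm, b3]
    · simp only [mul_smul, inv_smul_smul]
      rw [show a⁻¹ • t = GolayPairs.canonPair t from inv_smul_eq_iff.2 a4.symm, hc, b4]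


end Cfsg.Agent.S1638
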