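import Cfsg.Statements.S1639
import Cfsg.Agent.Lib.GolayDodecadSuborbit

set_option autoImplicit false
open scoped Pointwise
open Cfsg
open scoped Pointwise

namespace Cfsg.Agent.S1639

/-- The point stabiliser acts on the 1288 dodecads through the point with rank 4 and subdegrees 1, 165, 330, 792, distinguished by intersection 4, 8, 6 with the fixed dodecad. -/
theorem result (x : Cfsg.GolayPt) (d : Finset Cfsg.GolayPt) (hd : d ∈ Cfsg.dodecads) (hx : x ∈ d) : {d' : Finset Cfsg.GolayPt | d' ∈ Cfsg.dodecads ∧ x ∈ d' ∧ (d ∩ d').card = 4}.ncard = 165 ∧ {d' : Finset Cfsg.GolayPt | d' ∈ Cfsg.dodecads ∧ x ∈ d' ∧ (d ∩ d').card = 8}.ncard = 330 ∧ {d' : Finset Cfsg.GolayPt | d' ∈ Cfsg.dodecads ∧ x ∈ d' ∧ (d ∩ d').card = 6}.ncard = 792 ∧ ∀ d' d'' : Finset Cfsg.GolayPt, d' ∈ Cfsg.dodecads → d'' ∈ Cfsg.dodecads → x ∈ d' → x ∈ d'' → (d ∩ d').card = (d ∩ d'').card → ∃ g : Equiv.Perm Cfsg.GolayPt, g ∈ Cfsg.M24 ∧ g x = x ∧ g • d = d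 ∧ g • d' = d'' := by
  classical
  obtain ⟨a, ha, had, hap⟩ := GolayStab.exists_map_dodecad_point hd hx
  rw [GolayM24.squareDodecad_eq] at had
  rw [← GolayM24.pt_zero] at hap
  subst had hap
  have hcard : ∀ t : Finset Cfsg.GolayPt, (a • t).card = t.card := fun t => Finset.card_smul_finset a t
  have hd' : ∀ t : Finset Cfsg.GolayPt, a • t ∈ Cfsg.dodecads ↔ t ∈ Cfsg.dodecads := fun t =>
    ⟨fun h => by simpa using GolayPerm.smul_mem_dodecads (inv_mem ha) h, GolayPerm.smul_mem_dodecads ha⟩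
  have hcount : ∀ k, {d' : Finset Cfsg.GolayPt | d' ∈ Cfsg.dodecads ∧ a • GolayBasic.pt 0 ∈ d' ∧
      (a • GolayBasic.mset 340831 ∩ d').card = k}.ncard = {s : Finset Cfsg.GolayPt |
      s ∈ Cfsg.dodecads ∧ (GolayBasic.pt 0 ∈ s ∧ (GolayBasic.mset 340831 ∩ s).card = k)}.ncard := by
    intro k
    symm
    rw [← Set.ncard_image_of_injective _ (MulAction.injective a (β := Finset Cfsg.GolayPt))]
    congr 1
    ext t
    obtain ⟨t, rfl⟩ : ∃ u, a • u = t := ⟨a⁻¹ • t, smul_inv_smul a t⟩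
    rw [(MulAction.injective a).mem_set_image]
    simp only [Set.mem_ofPred_eq, hd', Finset.smul_mem_smul_finset_iff, ← Finset.smul_finset_inter, hcard]
  refine ⟨?_, ?_, ?_, ?_⟩
  · rw [hcount]; exact GolayDodecadSuborbit.count_through 4 165 (by decide +kernel)
  · rw [hcount]; exact GolayDodecadSuborbit.count_through 8 330 (by decide +kernel)
  · rw [hcount]; exact GolayDodecadSuborbit.count_through 6 792 (by decide +kernel)
  · intro X Y hX hY hxX hxY hcap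
    obtain ⟨X, rfl⟩ : ∃ u, a • u = X := ⟨a⁻¹ • X, smul_inv_smul a X⟩
    obtain ⟨Y, rfl⟩ : ∃ u, a • u = Y := ⟨a⁻¹ • Y, smul_inv_smul a Y⟩
    rw [hd'] at hX hY
    rw [Finset.smul_mem_smul_finset_iff] at hxX hxY
    rw [← Finset.smul_finset_inter, ← Finset.smul_finset_inter, hcard, hcard] at hcap
    obtain ⟨g, hg, g0, g1, g2⟩ := GolayDodecadSuborbit.separate_base hX hY hxX hxY hcap
    refine ⟨a * g * a⁻¹, mul_mem (mul_mem ha hg) (inv_mem ha), ?_, ?_, ?_⟩
    · show (a * g * a⁻¹) • (a • GolayBasic.pt 0) = a • GolayBasic.pt 0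
      rw [mul_smul, mul_smul, inv_smul_smul, Equiv.Perm.smul_def g, g0]
    · rw [mul_smul, mul_smul, inv_smul_smul, g1]
    · rw [mul_smul, mul_smul, inv_smul_smul, g2]


end Cfsg.Agent.S1639
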