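import Cfsg.Statements.S1640
import Cfsg.Agent.Lib.LeechPairs

set_option autoImplicit false
open Cfsg
open Cfsg.Agent.LeechBasic Cfsg.Agent.LeechAut Cfsg.Agent.LeechOrbit Cfsg.Agent.LeechCert Cfsg.Agent.LeechPairs

namespace Cfsg.Agent.S1640

/-- The stabiliser of a vector of customary norm 6 is transitive on the 11178 minimal vectors of customary inner product −2 with it. -/
theorem result (u : ↥Cfsg.leechLattice) (hu : Cfsg.sqNorm (u : Cfsg.GolayPt → ℤ) = 48) : {x : ↥Cfsg.leechLattice | Cfsg.sqNorm (x : Cfsg.GolayPt → ℤ) = 32 ∧ Cfsg.dotInt (u : Cfsg.GolayPt → ℤ) (x : Cfsg.GolayPt → ℤ) = -16}.ncard = 11178 ∧ ∀ x ∈ {x : ↥Cfsg.leechLattice | Cfsg.sqNorm (x : Cfsg.GolayPt → ℤ) = 32 ∧ Cfsg.dotInt (u : Cfsg.GolayPt → ℤ) (x : Cfsg.GolayPt → ℤ) = -16}, ∀ x' ∈ {x : ↥Cfsg.leechLattice | Cfsg.sqNorm (x : Cfsg.GolayPt → ℤ) = 32 ∧ Cfsg.dotInt (u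 : Cfsg.GolayPt → ℤ) (x : Cfsg.GolayPt → ℤ) = -16}, ∃ g : ↥Cfsg.Co0, g • u = u ∧ g • x = x' := by
  refine ⟨?_, ?_⟩
  · obtain ⟨h, hh⟩ := move48 hu
    rw [ncard_of_smul (S := census (cV, c0, c0) 32 (-16, 0, 0)) h]
    · exact LeechCert.OrbC.ncard
    · intro x; rw [mem_census₁, sqNorm_smul, dotInt_eq_of_smul hh coe_leechV]; rfl
  · rintro x ⟨hx, hxd⟩ x' ⟨hx', hxd'⟩
    obtain ⟨h, h1, h2⟩ := pair11178 hu hx hxd
    obtain ⟨k, k1, k2⟩ := pair11178 hu hx' hxd'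
    exact ⟨k⁻¹ * h, by rw [mul_smul, inv_smul_eq_iff, h1, k1], by rw [mul_smul, inv_smul_eq_iff, h2, k2]⟩

end Cfsg.Agent.S1640
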