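import Cfsg.Statements.S1641
import Cfsg.Agent.Lib.LeechPairs
import Cfsg.Agent.Lib.LeechCertOrbIa
import Cfsg.Agent.Lib.LeechCertOrbIb
import Cfsg.Agent.Lib.LeechCertOrbIc
import Cfsg.Agent.Lib.LeechCertOrbId

set_option autoImplicit false
open Cfsg
open Cfsg.Agent.LeechBasic Cfsg.Agent.LeechAut Cfsg.Agent.LeechOrbit Cfsg.Agent.LeechCert Cfsg.Agent.LeechPairs

namespace Cfsg.Agent.S1641

/-- The third Conway group acts on the 11178 cosets of the Higman–Sims group with rank 5 and subdegrees 1, 352, 1100, 4125, 5600. -/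
theorem result (u x : ↥Cfsg.leechLattice) (hu : Cfsg.sqNorm (u : Cfsg.GolayPt → ℤ) = 48) (hx : x ∈ {x : ↥Cfsg.leechLattice | Cfsg.sqNorm (x : Cfsg.GolayPt → ℤ) = 32 ∧ Cfsg.dotInt (u : Cfsg.GolayPt → ℤ) (x : Cfsg.GolayPt → ℤ) = -16}) : ∃ y₁ ∈ {x : ↥Cfsg.leechLattice | Cfsg.sqNorm (x : Cfsg.GolayPt → ℤ) = 32 ∧ Cfsg.dotInt (u : Cfsg.GolayPt → ℤ) (x : Cfsg.GolayPt → ℤ) = -16}, ∃ y₂ ∈ {x : ↥Cfsg.leechLattice | Cfsg.sqNorm (x : Cfsg.GolayPt → ℤ) = 32 ∧ Cfsg.dotInt (u : Cfsg.GolayPt → ℤ) (x : Cfsg.GolayPt → ℤ) = -16}, ∃ y₃ ∈ {x : ↥Cfsg.leechLattice | Cfsg.sqNorm (x : Cfsg.GolayPt → ℤ) = 32 ∧ Cfsg.dotInt (u : Cfsg.GolayPt → ℤ) (x : Cfsg.GolayPt → ℤ) = -16}, ∃ y₄ ∈ {x : ↥Cfsg.leechLattice | Cfsg.sqNorm (x : Cfsg.GolayPt → ℤ) = 32 ∧ Cfsg.dotInt (u : Cfsg.GolayPt → ℤ) (x : Cfsg.GolayPt → ℤ) = -16}, (MulAction.orbit ↥(MulAction.stabilizer ↥Cfsg.Co0 u ⊓ MulAction.stabilizer ↥Cfsg.Co0 x) y₁).ncard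 = 352 ∧ (MulAction.orbit ↥(MulAction.stabilizer ↥Cfsg.Co0 u ⊓ MulAction.stabilizer ↥Cfsg.Co0 x) y₂).ncard = 1100 ∧ (MulAction.orbit ↥(MulAction.stabilizer ↥Cfsg.Co0 u ⊓ MulAction.stabilizer ↥Cfsg.Co0 x) y₃).ncard = 4125 ∧ (MulAction.orbit ↥(MulAction.stabilizer ↥Cfsg.Co0 u ⊓ MulAction.stabilizer ↥Cfsg.Co0 x) y₄).ncard = 5600 ∧ {x : ↥Cfsg.leechLattice | Cfsg.sqNorm (x : Cfsg.GolayPt → ℤ) = 32 ∧ Cfsg.dotInt (u : Cfsg.GolayPt → ℤ) (x : Cfsg.GolayPt → ℤ) = -16} = {x} ∪ MulAction.orbit ↥(MulAction.stabilizer ↥Cfsg.Co0 u ⊓ MulAction.stabilizer ↥Cfsg.Co0 x) y₁ ∪ MulAction.orbit ↥(MulAction.stabilizer ↥Cfsg.Co0 u ⊓ MulAction.stabilizer ↥Cfsg.Co0 x) y₂ ∪ MulAction.orbit ↥(MulAction.stabilizer ↥Cfsg.Co0 u ⊓ MulAction.stabilizer ↥Cfsg.Co0 x) y₃ ∪ MulAction.orbit ↥(MulAction.stabilizer ↥Cfsg.Co0 u ⊓ MulAction.stabilizer ↥Cfsg.Co0 x) y₄ := by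
  obtain ⟨hx32, hxd⟩ := hx
  obtain ⟨h, h1, h2⟩ := pair11178 hu hx32 hxd
  let Q : leechLattice → Prop := fun y => sqNorm (y : GolayPt → ℤ) = 32 ∧ dotInt (u : GolayPt → ℤ) y = -16
  have hiff : ∀ (k : ℤ) (y : leechLattice), (Q y ∧ dotInt (x : GolayPt → ℤ) y = k) ↔
      h • y ∈ census (cV, cU', c0) 32 (-16, k, 0) := fun k y => by
    rw [mem_census₂, sqNorm_smul, dotInt_eq_of_smul h1 coe_leechV, dotInt_eq_of_smul h2 coe_leechU', and_assoc]
    rfl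
  set H := MulAction.stabilizer Co0 u ⊓ MulAction.stabilizer Co0 x
  have orb : ∀ (k : ℤ) (n : ℕ) (root : ℕ) (gens : List (List Step)) (B : ℕ) (scripts : List ℕ),
      certOK (cV, cU', c0) root gens B scripts n = true → (census (cV, cU', c0) 32 (-16, k, 0)).ncard = n →
      0 < n → LeechXi.isL (vec root) = true →
      (sqNorm (vec root) = 32 ∧ dotInt (vec cV) (vec root) = -16 ∧ dotInt (vec cU') (vec root) = k) →
      ∃ y ∈ {y | Q y}, MulAction.orbit H y = {y | Q y ∧ dotInt (x : GolayPt → ℤ) y = k} ∧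
        {y | Q y ∧ dotInt (x : GolayPt → ℤ) y = k}.ncard = n := by
    intro k n root gens B scripts hc hn hn0 hroot hm
    have hmem : (ofCode root hroot) ∈ census (cV, cU', c0) 32 (-16, k, 0) :=
      mem_census₂.mpr (by rw [coe_ofCode]; exact hm)
    have hy : Q (h⁻¹ • ofCode root hroot) ∧ dotInt (x : GolayPt → ℤ) (h⁻¹ • ofCode root hroot : leechLattice) = k :=
      (hiff k _).mpr (by rwa [smul_inv_smul])
    refine ⟨_, hy.1, ?_, (ncard_of_smul h (hiff k)).trans hn⟩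
    refine orbit_eq_of_transitive (S := {y | Q y ∧ dotInt (x : GolayPt → ℤ) y = k}) hy ?_ ?_
    · intro g hg z hz
      rw [Subgroup.mem_inf, MulAction.mem_stabilizer_iff, MulAction.mem_stabilizer_iff] at hg
      obtain ⟨⟨a, b⟩, c⟩ := hz
      refine ⟨⟨by rw [sqNorm_smul]; exact a, ?_⟩, ?_⟩
      · rw [← b]; conv_lhs => rw [← hg.1]
        exact dotInt_smul g u z
      · rw [← c]; conv_lhs => rw [← hg.2]
        exact dotInt_smul g x z
    · intro z hz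
      obtain ⟨g, hg, hgz⟩ := exists_fixes_smul hc hn hn0 (by norm_num)
        (a := Spor.leechV) (b := Spor.leechU') (c := 0) coe_leechV coe_leechU' coe_zero_vec
        (r := ofCode root hroot) rfl hmem hmem ((hiff k z).mp hz)
      refine ⟨h⁻¹ * g * h, Subgroup.mem_inf.mpr ⟨MulAction.mem_stabilizer_iff.mpr ?_,
        MulAction.mem_stabilizer_iff.mpr ?_⟩, ?_⟩
      · rw [mul_smul, mul_smul, h1, hg _ (Or.inl coe_leechV), inv_smul_eq_iff, h1]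
      · rw [mul_smul, mul_smul, h2, hg _ (Or.inr (Or.inl coe_leechU')), inv_smul_eq_iff, h2]
      · rw [mul_smul, mul_smul, smul_inv_smul, hgz, inv_smul_smul]
  obtain ⟨y₁, m1, o1, c1⟩ := orb (-8) _ _ _ _ _ LeechCert.OrbIa.cert LeechCert.OrbIa.ncard (by norm_num)
    (by decide +kernel) (by decide +kernel)
  obtain ⟨y₂, m2, o2, c2⟩ := orb 16 _ _ _ _ _ LeechCert.OrbIb.cert LeechCert.OrbIb.ncard (by norm_num)
    (by decide +kernel) (by decide +kernel)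
  obtain ⟨y₃, m3, o3, c3⟩ := orb 0 _ _ _ _ _ LeechCert.OrbIc.cert LeechCert.OrbIc.ncard (by norm_num)
    (by decide +kernel) (by decide +kernel)
  obtain ⟨y₄, m4, o4, c4⟩ := orb 8 _ _ _ _ _ LeechCert.OrbId.cert LeechCert.OrbId.ncard (by norm_num)
    (by decide +kernel) (by decide +kernel)
  refine ⟨y₁, m1, y₂, m2, y₃, m3, y₄, m4, (congrArg Set.ncard o1).trans c1, (congrArg Set.ncard o2).trans c2,
    (congrArg Set.ncard o3).trans c3, (congrArg Set.ncard o4).trans c4, ?_⟩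
  rw [o1, o2, o3, o4]
  have hall : {y : leechLattice | Q y}.ncard = 11178 := by
    refine (ncard_of_smul h fun y => ?_).trans LeechCert.OrbC.ncard
    show _ ↔ h • y ∈ census (cV, c0, c0) 32 (-16, 0, 0)
    rw [mem_census₁, sqNorm_smul, dotInt_eq_of_smul h1 coe_leechV]
    rfl
  have hfin : {y : leechLattice | Q y}.Finite := Set.finite_of_ncard_pos (by rw [hall]; norm_num)
  have hxx : dotInt (x : GolayPt → ℤ) x = 32 := by
    rw [← hx32, sqNorm, dotInt]; exact Finset.sum_congr rfl fun i _ => (sq _).symm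
  have hf : ∀ k : ℤ, {y | Q y ∧ dotInt (x : GolayPt → ℤ) y = k}.Finite := fun k => hfin.subset fun z hz => hz.1
  symm
  refine Set.eq_of_subset_of_ncard_le ?_ (le_of_eq ?_) hfin
  · rintro z ((((hz | hz) | hz) | hz) | hz)
    · rw [Set.mem_singleton_iff.mp hz]; exact ⟨hx32, hxd⟩
    all_goals exact hz.1
  · rw [Set.ncard_union_eq ?_ ((((Set.finite_singleton x).union (hf _)).union (hf _)).union (hf _)) (hf _),
      Set.ncard_union_eq ?_ (((Set.finite_singleton x).union (hf _)).union (hf _)) (hf _),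
      Set.ncard_union_eq ?_ ((Set.finite_singleton x).union (hf _)) (hf _),
      Set.ncard_union_eq ?_ (Set.finite_singleton x) (hf _), Set.ncard_singleton, c1, c2, c3, c4, hall]
    all_goals
      rw [Set.disjoint_left]
      rintro z hz ⟨-, e⟩
      simp only [Set.mem_union, Set.mem_singleton_iff, Set.mem_ofPred_eq] at hz
      aesop

end Cfsg.Agent.S1641
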