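import Cfsg.Statements.S1642
import Cfsg.Agent.Lib.LeechPairs
import Cfsg.Agent.Lib.LeechFreeInvolution

set_option autoImplicit false
open Cfsg
open Cfsg.Agent.LeechBasic Cfsg.Agent.LeechAut Cfsg.Agent.LeechOrbit Cfsg.Agent.LeechCert Cfsg.Agent.LeechPairs

namespace Cfsg.Agent.S1642

/-- Some involution of the Higman–Sims group acts without fixed points on its 100 points. -/
theorem result (v w : ↥Cfsg.leechLattice) (hv : Cfsg.sqNorm (v : Cfsg.GolayPt → ℤ) = 48) (hw : Cfsg.sqNorm (w : Cfsg.GolayPt → ℤ) = 48) (hvw : Cfsg.dotInt (v : Cfsg.GolayPt → ℤ) (w : Cfsg.GolayPt → ℤ) = -32) : ∃ g : ↥Cfsg.Co0, g • v = v ∧ g • w = w ∧ orderOf g = 2 ∧ ∀ x ∈ {x : ↥Cfsg.leechLattice | Cfsg.sqNorm (x : Cfsg.GolayPt → ℤ) = 32 ∧ Cfsg.dotInt (v : Cfsg.GolayPt → ℤ) (x : Cfsg.GolayPt → ℤ) = 24 ∧ Cfsg.dotInt (w : Cfsg.GolayPt → ℤ) (x : Cfsg.GolayPt → ℤ) = -24}, g • x ≠ x := by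
  obtain ⟨h, h1, h2⟩ := pairHS hv hw hvw
  obtain ⟨g, g1, g2, g3, g4⟩ := LeechFreeInvolution.exists_free_involution
  refine ⟨h⁻¹ * g * h, by rw [mul_smul, mul_smul, h1, g1, inv_smul_eq_iff, h1],
    by rw [mul_smul, mul_smul, h2, g2, inv_smul_eq_iff, h2], ?_, ?_⟩
  · rw [← g3]
    have := SemiconjBy.orderOf_eq (x := h⁻¹ * g * h) (y := g) h (by simp [SemiconjBy, mul_assoc])
    exact this
  · rintro x ⟨hx, hxv, hxw⟩ he
    refine g4 (h • x) (mem_census₂.mpr ⟨by rw [sqNorm_smul]; exact hx,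
      by rw [dotInt_eq_of_smul h1 coe_leechV]; exact hxv,
      by rw [dotInt_eq_of_smul h2 coe_negVU']; exact hxw⟩) ?_
    rw [mul_smul, mul_smul, inv_smul_eq_iff] at he
    exact he

end Cfsg.Agent.S1642
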