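import Cfsg.Statements.S1645
import Cfsg.Agent.Lib.DoubleCover90Main
import Cfsg.Agent.Lib.DoubleCoverQuot36
import Cfsg.Agent.Lib.DoubleCoverCore91

set_option autoImplicit false
open Cfsg

namespace Cfsg.Agent.S1645

/-- If some involution of a finite simple group has centraliser a non-split double cover of the alternating group of degree n ≥ 5, then n is 8 or 11 (the McLaughlin and Lyons cases). -/
theorem result {G : Type*} [Group G] [Finite G] [IsSimpleGroup G] (n : ℕ) (hn : 5 ≤ n) (z : G) (hz : orderOf z = 2) (hcov : Cfsg.IsNonsplitDoubleCover (Subgroup.centralizer ({z} : Set G)) (alternatingGroup (Fin n))) : n = 8 ∨ n = 11 := by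
  obtain ⟨D⟩ := DoubleCover90.exists_dc hn hz hcov
  obtain ⟨g, hgc, hgne⟩ := DoubleCover90.exists_conjugate hn D
  set u := g * z * g⁻¹ with hu
  have D' : DoubleCover90.DC u n := D.conj g
  have hu2 : orderOf u = 2 := (MulEquiv.orderOf_eq (MulAut.conj g) z).trans hz
  have huu : u * u = 1 := by rw [← pow_two, ← hu2]; exact pow_orderOf_eq_one u
  have hu1 : u ≠ 1 := DoubleCover90.ne_one_of_two hu2
  have h11 : n ≤ 11 := D.le_eleven D' hgc hgne
  obtain ⟨-, h8, hsn⟩ := D.card_support_invol hgc huu hu1 hgne
  by_contra hne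
  have h9 : 9 ≤ n := by omega
  have h10 : n ≤ 10 := by omega
  have S : DoubleCover90.Small D := by
    refine ⟨h9, h10, fun t ht htz => ?_⟩
    by_cases htne : t = z
    · exact ⟨1, by rw [htne]; group⟩
    have htt : t * t = 1 := DoubleCover90.mul_self_of_two ht
    obtain ⟨d8, t8, tn⟩ := D.card_support_invol htz htt (DoubleCover90.ne_one_of_two ht) htne
    obtain ⟨e8, -, -⟩ := D.card_support_invol hgc huu hu1 hgne
    obtain ⟨k, -, hk⟩ := D.conj_invol hgc htz (D.p_sq_of_invol hgc huu)
      (D.p_sq_of_invol htz htt) (fun e => by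
        rcases (D.p_eq_one_iff hgc).1 e with e' | e'
        exacts [hu1 e', hgne e']) (by omega)
    exact ⟨k * g, by rw [← hk, hu]; group⟩
  exact DoubleCover90.small_cases D S (fun F hC => DoubleCoverQuot36.small_false S F hC)
    fun D9 F S' C => DoubleCoverCore91.core_false S' F C

end Cfsg.Agent.S1645
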