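import Cfsg.Statements.S1680
import Cfsg.Agent.Lib.CosetCertSuzG
-- import your own Cfsg.Agent.* helpers here

set_option autoImplicit false
open Cfsg

namespace Cfsg.Agent.S1680

open CosetCertCore CosetCertTable CosetCertPres in
theorem main : (CosetCertSuzGData.pres.sub CosetCertSuzGData.subgens).index = 1782 ∧
    ∃ q1 q2 : CosetCertSuzGData.pres.Grp ⧸ CosetCertSuzGData.pres.sub CosetCertSuzGData.subgens,
      (MulAction.orbit (CosetCertSuzGData.pres.sub CosetCertSuzGData.subgens) q1).ncard = 416 ∧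
      (MulAction.orbit (CosetCertSuzGData.pres.sub CosetCertSuzGData.subgens) q2).ncard = 1365 := by
  obtain ⟨φ, -, hφ⟩ := exists_coset_equiv CosetCertSuzG.enumerated
  have e2 : (MulAction.orbit (CosetCertSuzGData.pres.sub CosetCertSuzGData.subgens) (φ ⟨47, by decide +kernel⟩)).ncard = 416 := by
    rw [orbit_ncard CosetCertSuzG.enumerated CosetCertSuzG.orbits 2 47 (by decide +kernel) (by decide +kernel) (by decide +kernel) φ hφ]
    exact CosetCertSuzG.count2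
  have e1 : (MulAction.orbit (CosetCertSuzGData.pres.sub CosetCertSuzGData.subgens) (φ ⟨1, by decide +kernel⟩)).ncard = 1365 := by
    rw [orbit_ncard CosetCertSuzG.enumerated CosetCertSuzG.orbits 1 1 (by decide +kernel) (by decide +kernel) (by decide +kernel) φ hφ]
    exact CosetCertSuzG.count1
  refine ⟨?_, φ ⟨47, by decide +kernel⟩, φ ⟨1, by decide +kernel⟩, e2, e1⟩
  rw [index_sub CosetCertSuzG.enumerated]
  rfl

open CosetCertCore CosetCertTable CosetCertPres in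
theorem sub_eq : (((Subgroup.closure ({Cfsg.Spor.Suz.a, Cfsg.Spor.Suz.b, Cfsg.Spor.Suz.c, Cfsg.Spor.Suz.d, Cfsg.Spor.Suz.e, Cfsg.Spor.Suz.f} : Set (FreeGroup Cfsg.Spor.Suz.Gen))).map (PresentedGroup.mk (Cfsg.Spor.coxRelators Cfsg.Spor.Suz.edges ∪ {r | r ∈ Cfsg.Spor.Suz.extra})))) = CosetCertSuzGData.pres.sub CosetCertSuzGData.subgens := by
  refine congrArg (fun S => (Subgroup.closure S).map (PresentedGroup.mk _)) (Set.ext fun r => ?_)
  simp [CosetCertSuzGData.subgens, CosetCertSuzGData.pres, Wx.eval, Pres.gen, or_assoc]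

/-- In the presented sporadic Suzuki group, let H be the subgroup generated by the images of a, …, f. Then H has index 1782, H has orbits of sizes 416 and 1365 on the cosets of H other than H itself (with the index 1782 this makes the action rank 3). -/
theorem result : (((Subgroup.closure ({Cfsg.Spor.Suz.a, Cfsg.Spor.Suz.b, Cfsg.Spor.Suz.c, Cfsg.Spor.Suz.d, Cfsg.Spor.Suz.e, Cfsg.Spor.Suz.f} : Set (FreeGroup Cfsg.Spor.Suz.Gen))).map (PresentedGroup.mk (Cfsg.Spor.coxRelators Cfsg.Spor.Suz.edges ∪ {r | r ∈ Cfsg.Spor.Suz.extra})))).index = 1782 ∧ ∃ q₁ q₂ : Cfsg.Spor.Suz ⧸ (((Subgroup.closure ({Cfsg.Spor.Suz.a, Cfsg.Spor.Suz.b, Cfsg.Spor.Suz.c, Cfsg.Spor.Suz.d, Cfsg.Spor.Suz.e, Cfsg.Spor.Suz.f} : Set (FreeGroup Cfsg.Spor.Suz.Gen))).map (PresentedGroup.mk (Cfsg.Spor.coxRelators Cfsg.Spor.Suz.edges ∪ {r | r ∈ Cfsg.Spor.Suz.extra})))), (MulAction.orbit (((Subgroup.closure ({Cfsg.Spor.Suz.a, Cfsg.Spor.Suz.b, Cfsg.Spor.Suz.c,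 Cfsg.Spor.Suz.d, Cfsg.Spor.Suz.e, Cfsg.Spor.Suz.f} : Set (FreeGroup Cfsg.Spor.Suz.Gen))).map (PresentedGroup.mk (Cfsg.Spor.coxRelators Cfsg.Spor.Suz.edges ∪ {r | r ∈ Cfsg.Spor.Suz.extra})))) q₁).ncard = 416 ∧ (MulAction.orbit (((Subgroup.closure ({Cfsg.Spor.Suz.a, Cfsg.Spor.Suz.b, Cfsg.Spor.Suz.c, Cfsg.Spor.Suz.d, Cfsg.Spor.Suz.e, Cfsg.Spor.Suz.f} : Set (FreeGroup Cfsg.Spor.Suz.Gen))).map (PresentedGroup.mk (Cfsg.Spor.coxRelators Cfsg.Spor.Suz.edges ∪ {r | r ∈ Cfsg.Spor.Suz.extra})))) q₂).ncard = 1365 := by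
  rw [sub_eq]
  exact main

end Cfsg.Agent.S1680
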