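import Cfsg.Statements.S1682
import Cfsg.Agent.Lib.CosetCertSp44
-- import your own Cfsg.Agent.* helpers here

set_option autoImplicit false
open Cfsg

namespace Cfsg.Agent.S1682

open CosetCertCore CosetCertTable CosetCertPres in
theorem sub_eq : (((Subgroup.closure ({Cfsg.Spor.He.a, Cfsg.Spor.He.c, Cfsg.Spor.He.d, Cfsg.Spor.He.e, Cfsg.Spor.He.f, (Cfsg.Spor.He.a * Cfsg.Spor.He.b) ^ 2, (Cfsg.Spor.He.b * Cfsg.Spor.He.c * Cfsg.Spor.He.d * Cfsg.Spor.He.e) ^ 7} : Set (FreeGroup Cfsg.Spor.He.Gen))).map (PresentedGroup.mk (Cfsg.Spor.coxRelators Cfsg.Spor.He.edges ∪ {r | r ∈ Cfsg.Spor.He.extra})))) = CosetCertHeHData.pres.sub CosetCertHeHData.subgens := by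
  refine congrArg (fun S => (Subgroup.closure S).map (PresentedGroup.mk _)) (Set.ext fun r => ?_)
  simp [CosetCertHeHData.subgens, CosetCertHeHData.pres, Wx.eval, Pres.gen, or_assoc]

open CosetCertSp44 in
theorem transfer {S : Subgroup (CosetCertPres.Pres.Grp PH)} (h : S = HH) {N : Subgroup HH} (hN : N.index = 2)
    {K : Type} [Field K] [Fintype K] (hK : Fintype.card K = 4) (e : N ≃* Matrix.symplecticGroup (Fin 2) K) :
    ∃ (N : Subgroup S) (K : Type) (_ : Field K) (_ : Fintype K), N.Normal ∧ N.index = 2 ∧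
      Fintype.card K = 4 ∧ Nonempty (N ≃* Matrix.symplecticGroup (Fin 2) K) := by
  subst h
  exact ⟨N, K, inferInstance, inferInstance, Subgroup.normal_of_index_eq_two hN, hN, hK, ⟨e⟩⟩

/-- In the presented Held group, the subgroup H generated by the images of a, c, d, e, f, (ab)^2 and (bcde)^7 has a normal subgroup of index 2 isomorphic to the 4-dimensional symplectic group over a field with four elements. -/
theorem result : ∃ (N : Subgroup (((Subgroup.closure ({Cfsg.Spor.He.a, Cfsg.Spor.He.c, Cfsg.Spor.He.d, Cfsg.Spor.He.e, Cfsg.Spor.He.f, (Cfsg.Spor.He.a * Cfsg.Spor.He.b) ^ 2, (Cfsg.Spor.He.b * Cfsg.Spor.He.c * Cfsg.Spor.He.d * Cfsg.Spor.He.e) ^ 7} : Set (FreeGroup Cfsg.Spor.He.Gen))).map (PresentedGroup.mk (Cfsg.Spor.coxRelators Cfsg.Spor.He.edges ∪ {r | r ∈ Cfsg.Spor.He.extra}))))) (K : Type) (_ : Field K) (_ : Fintype K), N.Normal ∧ N.index = 2 ∧ Fintype.card K = 4 ∧ Nonempty (N ≃* Matrix.symplecticGroup (Fin 2) K) := by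
  letI : Fintype (GaloisField 2 2) := Fintype.ofFinite _
  have h4 : Fintype.card (GaloisField 2 2) = 4 := by
    rw [← Nat.card_eq_fintype_card, GaloisField.card 2 2 (by norm_num)]
    norm_num
  haveI : UnitaryF4Geo.FourField (GaloisField 2 2) := ⟨h4⟩
  obtain ⟨w, hw⟩ := UnitaryF4Geo.exists_omega (F := GaloisField 2 2)
  obtain ⟨hidx, ⟨e⟩⟩ := CosetCertSp44.fstR_range hw
  exact transfer sub_eq hidx h4 e

end Cfsg.Agent.S1682
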