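import Cfsg.Statements.S1683
import Cfsg.Agent.Lib.CosetCertHeH
-- import your own Cfsg.Agent.* helpers here

set_option autoImplicit false
open Cfsg

namespace Cfsg.Agent.S1683

open CosetCertCore CosetCertTable CosetCertPres in
theorem main : (CosetCertHeHData.pres.sub CosetCertHeHData.subgens).index = 2058 ∧
    ∃ q1 q2 q3 q4 : CosetCertHeHData.pres.Grp ⧸ CosetCertHeHData.pres.sub CosetCertHeHData.subgens,
      MulAction.orbit (CosetCertHeHData.pres.sub CosetCertHeHData.subgens) q1 ≠ MulAction.orbit (CosetCertHeHData.pres.sub CosetCertHeHData.subgens) q2 ∧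
      (MulAction.orbit (CosetCertHeHData.pres.sub CosetCertHeHData.subgens) q1).ncard = 136 ∧
      (MulAction.orbit (CosetCertHeHData.pres.sub CosetCertHeHData.subgens) q2).ncard = 136 ∧
      (MulAction.orbit (CosetCertHeHData.pres.sub CosetCertHeHData.subgens) q3).ncard = 425 ∧
      (MulAction.orbit (CosetCertHeHData.pres.sub CosetCertHeHData.subgens) q4).ncard = 1360 := by
  obtain ⟨φ, -, hφ⟩ := exists_coset_equiv CosetCertHeH.enumerated
  have hne : MulAction.orbit (CosetCertHeHData.pres.sub CosetCertHeHData.subgens) (φ ⟨46, by decide +kernel⟩) ≠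
      MulAction.orbit (CosetCertHeHData.pres.sub CosetCertHeHData.subgens) (φ ⟨65, by decide +kernel⟩) := by
    rw [exists_orbit CosetCertHeH.enumerated CosetCertHeH.orbits 3 46 (by decide +kernel) (by decide +kernel) (by decide +kernel) φ hφ,
      exists_orbit CosetCertHeH.enumerated CosetCertHeH.orbits 4 65 (by decide +kernel) (by decide +kernel) (by decide +kernel) φ hφ]
    intro he
    have hm : φ ⟨46, by decide +kernel⟩ ∈ φ '' {i | oLabel (entry CosetCertHeHData.orbTbl 48 i) = 3} :=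
      ⟨⟨46, by decide +kernel⟩, by show oLabel (entry CosetCertHeHData.orbTbl 48 46) = 3; decide +kernel, rfl⟩
    rw [he] at hm
    obtain ⟨i, hi, hi'⟩ := hm
    rw [φ.injective hi'] at hi
    exact absurd hi (by show ¬ oLabel (entry CosetCertHeHData.orbTbl 48 46) = 4; decide +kernel)
  have e3 : (MulAction.orbit (CosetCertHeHData.pres.sub CosetCertHeHData.subgens) (φ ⟨46, by decide +kernel⟩)).ncard = 136 := by
    rw [orbit_ncard CosetCertHeH.enumerated CosetCertHeH.orbits 3 46 (by decide +kernel) (by decide +kernel) (by decide +kernel) φ hφ]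
    exact CosetCertHeH.count3
  have e4 : (MulAction.orbit (CosetCertHeHData.pres.sub CosetCertHeHData.subgens) (φ ⟨65, by decide +kernel⟩)).ncard = 136 := by
    rw [orbit_ncard CosetCertHeH.enumerated CosetCertHeH.orbits 4 65 (by decide +kernel) (by decide +kernel) (by decide +kernel) φ hφ]
    exact CosetCertHeH.count4
  have e2 : (MulAction.orbit (CosetCertHeHData.pres.sub CosetCertHeHData.subgens) (φ ⟨2, by decide +kernel⟩)).ncard = 425 := by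
    rw [orbit_ncard CosetCertHeH.enumerated CosetCertHeH.orbits 2 2 (by decide +kernel) (by decide +kernel) (by decide +kernel) φ hφ]
    exact CosetCertHeH.count2
  have e1 : (MulAction.orbit (CosetCertHeHData.pres.sub CosetCertHeHData.subgens) (φ ⟨1, by decide +kernel⟩)).ncard = 1360 := by
    rw [orbit_ncard CosetCertHeH.enumerated CosetCertHeH.orbits 1 1 (by decide +kernel) (by decide +kernel) (by decide +kernel) φ hφ]
    exact CosetCertHeH.count1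
  refine ⟨?_, φ ⟨46, by decide +kernel⟩, φ ⟨65, by decide +kernel⟩, φ ⟨2, by decide +kernel⟩, φ ⟨1, by decide +kernel⟩, hne, e3, e4, e2, e1⟩
  rw [index_sub CosetCertHeH.enumerated]
  rfl

open CosetCertCore CosetCertTable CosetCertPres in
theorem sub_eq : (((Subgroup.closure ({Cfsg.Spor.He.a, Cfsg.Spor.He.c, Cfsg.Spor.He.d, Cfsg.Spor.He.e, Cfsg.Spor.He.f, (Cfsg.Spor.He.a * Cfsg.Spor.He.b) ^ 2, (Cfsg.Spor.He.b * Cfsg.Spor.He.c * Cfsg.Spor.He.d * Cfsg.Spor.He.e) ^ 7} : Set (FreeGroup Cfsg.Spor.He.Gen))).map (PresentedGroup.mk (Cfsg.Spor.coxRelators Cfsg.Spor.He.edges ∪ {r | r ∈ Cfsg.Spor.He.extra})))) = CosetCertHeHData.pres.sub CosetCertHeHData.subgens := by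
  refine congrArg (fun S => (Subgroup.closure S).map (PresentedGroup.mk _)) (Set.ext fun r => ?_)
  simp [CosetCertHeHData.subgens, CosetCertHeHData.pres, Wx.eval, Pres.gen, or_assoc]

/-- In the presented Held group, let H be the subgroup generated by the images of a, c, d, e, f, (ab)^2 and (bcde)^7. Then H has index 2058, there are four distinct H-orbits on the cosets of H other than H itself, of sizes 136, 136, 425 and 1360. -/
theorem result : (((Subgroup.closure ({Cfsg.Spor.He.a, Cfsg.Spor.He.c, Cfsg.Spor.He.d, Cfsg.Spor.He.e, Cfsg.Spor.He.f, (Cfsg.Spor.He.a * Cfsg.Spor.He.b) ^ 2, (Cfsg.Spor.He.b * Cfsg.Spor.He.c * Cfsg.Spor.He.d * Cfsg.Spor.He.e) ^ 7} : Set (FreeGroup Cfsg.Spor.He.Gen))).map (PresentedGroup.mk (Cfsg.Spor.coxRelators Cfsg.Spor.He.edges ∪ {r | r ∈ Cfsg.Spor.He.extra})))).index = 2058 ∧ ∃ q₁ q₂ q₃ q₄ : Cfsg.Spor.He ⧸ (((Subgroup.closure ({Cfsg.Spor.He.a, Cfsg.Spor.He.c,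 Cfsg.Spor.He.d, Cfsg.Spor.He.e, Cfsg.Spor.He.f, (Cfsg.Spor.He.a * Cfsg.Spor.He.b) ^ 2, (Cfsg.Spor.He.b * Cfsg.Spor.He.c * Cfsg.Spor.He.d * Cfsg.Spor.He.e) ^ 7} : Set (FreeGroup Cfsg.Spor.He.Gen))).map (PresentedGroup.mk (Cfsg.Spor.coxRelators Cfsg.Spor.He.edges ∪ {r | r ∈ Cfsg.Spor.He.extra})))), MulAction.orbit (((Subgroup.closure ({Cfsg.Spor.He.a, Cfsg.Spor.He.c, Cfsg.Spor.He.d, Cfsg.Spor.He.e, Cfsg.Spor.He.f, (Cfsg.Spor.He.a * Cfsg.Spor.He.b) ^ 2, (Cfsg.Spor.He.b * Cfsg.Spor.He.c * Cfsg.Spor.He.d * Cfsg.Spor.He.e) ^ 7} : Set (FreeGroup Cfsg.Spor.He.Gen))).map (PresentedGroup.mk (Cfsg.Spor.coxRelators Cfsg.Spor.He.edges ∪ {r | r ∈ Cfsg.Spor.He.extra})))) q₁ ≠ MulAction.orbit (((Subgroup.closure ({Cfsg.Spor.He.a, Cfsg.Spor.He.c, Cfsg.Spor.He.d, Cfsg.Spor.He.e, Cfsg.Spor.He.f, (Cfsg.Spor.He.a * Cfsg.Spor.He.b) ^ 2, (Cfsg.Spor.He.b * Cfsg.Spor.He.c * Cfsg.Spor.He.d * Cfsg.Spor.He.e)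 ^ 7} : Set (FreeGroup Cfsg.Spor.He.Gen))).map (PresentedGroup.mk (Cfsg.Spor.coxRelators Cfsg.Spor.He.edges ∪ {r | r ∈ Cfsg.Spor.He.extra})))) q₂ ∧ (MulAction.orbit (((Subgroup.closure ({Cfsg.Spor.He.a, Cfsg.Spor.He.c, Cfsg.Spor.He.d, Cfsg.Spor.He.e, Cfsg.Spor.He.f, (Cfsg.Spor.He.a * Cfsg.Spor.He.b) ^ 2, (Cfsg.Spor.He.b * Cfsg.Spor.He.c * Cfsg.Spor.He.d * Cfsg.Spor.He.e) ^ 7} : Set (FreeGroup Cfsg.Spor.He.Gen))).map (PresentedGroup.mk (Cfsg.Spor.coxRelators Cfsg.Spor.He.edges ∪ {r | r ∈ Cfsg.Spor.He.extra})))) q₁).ncard = 136 ∧ (MulAction.orbit (((Subgroup.closure ({Cfsg.Spor.He.a, Cfsg.Spor.He.c, Cfsg.Spor.He.d, Cfsg.Spor.He.e, Cfsg.Spor.He.f, (Cfsg.Spor.He.a * Cfsg.Spor.He.b) ^ 2, (Cfsg.Spor.He.b * Cfsg.Spor.He.c * Cfsg.Spor.He.d * Cfsg.Spor.He.e) ^ 7} : Set (FreeGroup Cfsg.Spor.He.Gen))).map (PresentedGroup.mk (Cfsg.Spor.coxRelators Cfsg.Spor.He.edges ∪ {r | r ∈ Cfsg.Spor.He.extra}))))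 q₂).ncard = 136 ∧ (MulAction.orbit (((Subgroup.closure ({Cfsg.Spor.He.a, Cfsg.Spor.He.c, Cfsg.Spor.He.d, Cfsg.Spor.He.e, Cfsg.Spor.He.f, (Cfsg.Spor.He.a * Cfsg.Spor.He.b) ^ 2, (Cfsg.Spor.He.b * Cfsg.Spor.He.c * Cfsg.Spor.He.d * Cfsg.Spor.He.e) ^ 7} : Set (FreeGroup Cfsg.Spor.He.Gen))).map (PresentedGroup.mk (Cfsg.Spor.coxRelators Cfsg.Spor.He.edges ∪ {r | r ∈ Cfsg.Spor.He.extra})))) q₃).ncard = 425 ∧ (MulAction.orbit (((Subgroup.closure ({Cfsg.Spor.He.a, Cfsg.Spor.He.c, Cfsg.Spor.He.d, Cfsg.Spor.He.e, Cfsg.Spor.He.f, (Cfsg.Spor.He.a * Cfsg.Spor.He.b) ^ 2, (Cfsg.Spor.He.b * Cfsg.Spor.He.c * Cfsg.Spor.He.d * Cfsg.Spor.He.e) ^ 7} : Set (FreeGroup Cfsg.Spor.He.Gen))).map (PresentedGroup.mk (Cfsg.Spor.coxRelators Cfsg.Spor.He.edges ∪ {r | r ∈ Cfsg.Spor.He.extra})))) q₄).ncard = 1360 := by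
  rw [sub_eq]
  exact main

end Cfsg.Agent.S1683
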