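import Cfsg.Statements.S1691
import Mathlib
-- import your own Cfsg.Agent.* helpers here

set_option autoImplicit false
open Cfsg

namespace Cfsg.Agent.S1691

open Cfsg.Spor

/-- The image of a generator in the abelianization. -/
noncomputable def ab (x : Fi24.Gen) : Abelianization Fi24 :=
  Abelianization.of (PresentedGroup.of x)

theorem mem_nodes (x : Fi24.Gen) : x ∈ coxNodes Fi24.edges := by
  cases x <;> decide

theorem rel_ab (x y : Fi24.Gen) : (ab x * ab y) ^ coxLabel Fi24.edges x y = 1 := by
  have h : (PresentedGroup.mk (coxRelators Fi24.edges ∪ {r | r ∈ Fi24.extra})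
      ((FreeGroup.of x * FreeGroup.of y) ^ coxLabel Fi24.edges x y)) = 1 :=
    PresentedGroup.one_of_mem (Or.inl ⟨x, mem_nodes x, y, mem_nodes y, rfl⟩)
  rw [map_pow, map_mul] at h
  have h2 := congrArg (Abelianization.of (G := Fi24)) h
  rw [map_pow, map_mul, map_one] at h2
  exact h2

theorem ab_sq (x : Fi24.Gen) : ab x * ab x = 1 := by
  have h := rel_ab x x
  simpa [coxLabel] using h

theorem ab_edge {x y : Fi24.Gen} (hl : coxLabel Fi24.edges x y = 3) : ab x = ab y := by
  have h := rel_ab x y
  have h2 : (ab x * ab y) ^ 2 = 1 := by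
    rw [pow_two, mul_mul_mul_comm, ab_sq, ab_sq, one_mul]
  rw [hl, pow_succ, h2, one_mul] at h
  calc ab x = ab x * (ab y * ab y) := by rw [ab_sq, mul_one]
    _ = (ab x * ab y) * ab y := (mul_assoc _ _ _).symm
    _ = ab y := by rw [h, one_mul]

theorem ab_const (x : Fi24.Gen) : ab x = ab .d := by
  have hlk := ab_edge (x := .l) (y := .k) (by decide)
  have hka := ab_edge (x := .k) (y := .a) (by decide)
  have hab := ab_edge (x := .a) (y := .b) (by decide)
  have hbc := ab_edge (x := .b) (y := .c) (by decide)
  have hcd := ab_edge (x := .c) (y := .d) (by decide)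
  have hde := ab_edge (x := .d) (y := .e) (by decide)
  have hdh := ab_edge (x := .d) (y := .h) (by decide)
  have hef := ab_edge (x := .e) (y := .f) (by decide)
  have hfg := ab_edge (x := .f) (y := .g) (by decide)
  have hgj := ab_edge (x := .g) (y := .j) (by decide)
  have hhi := ab_edge (x := .h) (y := .i) (by decide)
  cases x
  all_goals simp only [hlk, hka, hab, hbc, hcd, ← hgj, ← hfg, ← hef, ← hde, ← hhi, ← hdh]

/-- The generator of `ZMod 2`, multiplicatively. -/
def sgn : Fi24.Gen → Multiplicative (ZMod 2) := fun _ => Multiplicative.ofAdd 1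

theorem sgn_rel : ∀ r ∈ coxRelators Fi24.edges ∪ {r | r ∈ Fi24.extra},
    FreeGroup.lift sgn r = 1 := by
  rintro r (⟨x, -, y, -, rfl⟩ | hr)
  · rw [map_pow, map_mul, FreeGroup.lift_apply_of, FreeGroup.lift_apply_of]
    show (Multiplicative.ofAdd (1 : ZMod 2) * Multiplicative.ofAdd 1) ^ _ = 1
    have : (Multiplicative.ofAdd (1 : ZMod 2) * Multiplicative.ofAdd 1) = 1 := by decide
    rw [this, one_pow]
  · simp only [Fi24.extra, Set.mem_setOf_eq, List.mem_cons, List.not_mem_nil, or_false] at hr
    rcases hr with rfl | rfl
    · simp only [map_mul, map_pow, map_inv, FreeGroup.lift_apply_of, sgn]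
      decide
    · simp only [map_mul, map_pow, FreeGroup.lift_apply_of, sgn]
      decide

/-- The sign homomorphism. -/
def sign : Fi24 →* Multiplicative (ZMod 2) := PresentedGroup.toGroup sgn_rel

theorem sign_surjective : Function.Surjective sign := by
  intro z
  rcases (by decide +revert : z = 1 ∨ z = Multiplicative.ofAdd (1 : ZMod 2)) with rfl | rfl
  · exact ⟨1, map_one _⟩
  · exact ⟨PresentedGroup.of .d, PresentedGroup.toGroup.of sgn_rel⟩

theorem ker_sign : sign.ker = commutator Fi24 := by
  refine le_antisymm ?_ (Abelianization.commutator_subset_ker sign)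
  have hu : ab .d * ab .d = 1 := ab_sq .d
  let psi : Multiplicative (ZMod 2) →* Abelianization Fi24 :=
    { toFun := fun z => if z = 1 then 1 else ab .d
      map_one' := if_pos rfl
      map_mul' := by
        intro z w
        rcases (by decide +revert : z = 1 ∨ z = Multiplicative.ofAdd (1 : ZMod 2)) with rfl | rfl <;>
          rcases (by decide +revert : w = 1 ∨ w = Multiplicative.ofAdd (1 : ZMod 2)) with rfl | rfl
        · simp
        · simp
        · simp
        · rw [if_pos (by decide), if_neg (by decide), hu] }
  have heq : psi.comp sign = Abelianization.of := by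
    refine PresentedGroup.ext fun x => ?_
    show psi (sign (PresentedGroup.of x)) = ab x
    rw [show sign (PresentedGroup.of x) = sgn x from PresentedGroup.toGroup.of sgn_rel, ab_const x]
    show (if sgn x = 1 then (1 : Abelianization Fi24) else ab .d) = ab .d
    exact if_neg (show sgn x ≠ 1 by simp [sgn])
  intro g hg
  rw [MonoidHom.mem_ker] at hg
  have : Abelianization.of g = 1 := by rw [← heq, MonoidHom.comp_apply, hg, map_one]
  rw [← Abelianization.ker_of]
  exact this

/-- The commutator subgroup of the presented group Fi₂₄ has index 2 (the presented group is Fi₂₄′:2 with Fi₂₄′ its derived subgroup). -/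
theorem result : (commutator Cfsg.Spor.Fi24).index = 2 := by
  rw [← ker_sign, Subgroup.index_ker, MonoidHom.range_eq_top.2 sign_surjective,
    Subgroup.card_top, Nat.card_eq_fintype_card]
  rfl

end Cfsg.Agent.S1691
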