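import Cfsg.Statements.S1698
import Cfsg.Agent.Lib.Fi24Orbits90
import Cfsg.Agent.Lib.Fi24Index64
import Cfsg.Agent.Lib.Fi24Table88Rho

set_option autoImplicit false
open Cfsg

namespace Cfsg.Agent.S1698

/-- The commutator subgroup of the presented Fi₂₄ (our definition of Fi₂₄′) is simple of the expected order (that is, it is a simple group of the order of the Fischer group Fi₂₄′). -/
theorem result : Cfsg.IsFi24' Cfsg.Spor.Fi24' := by
  have hidx := Fi24Index64.index_of_rho Fi24Table88.rho Fi24Table88.rho_gg
  exact Fi24Down90.isFi24' (Fi24Down90.spider_of (Fi24Spider54Core.spider_of Fi24Table88.rho Fi24Table88.rho_gg))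
    (Fi24Down90.index_of hidx) (Fi24Orbits90.threeOrbits Fi24Table88.rho Fi24Table88.rho_gg hidx)

end Cfsg.Agent.S1698
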