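import Cfsg.Statements.S1714
import Cfsg.Agent.Lib.Fi23Final94
import Cfsg.Agent.Lib.Fi23Bridge79
import Cfsg.Agent.Lib.Fi23Iso95

set_option autoImplicit false
open Cfsg

namespace Cfsg.Agent.S1714

/-- The Fischer group Fi₂₃ from a transposition centraliser: let G be a finite group with an involution d such that the centraliser C of d is quasisimple, C modulo the subgroup generated by d is isomorphic to the presented Fischer group Fi₂₂, and some conjugate of d different from d commutes with d. Then G is isomorphic to the presented Fischer group Fi₂₃. -/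
theorem result {G : Type*} [Group G] [Finite G] (d : G) (hd : orderOf d = 2) (hq : Cfsg.IsQuasisimple (Subgroup.centralizer ({d} : Set G))) [((Subgroup.zpowers d).subgroupOf (Subgroup.centralizer ({d} : Set G))).Normal] (e : Cfsg.Spor.IsoFi22 ((Subgroup.centralizer ({d} : Set G)) ⧸ (Subgroup.zpowers d).subgroupOf (Subgroup.centralizer ({d} : Set G)))) (hnwc : ∃ g : G, g * d * g⁻¹ ∈ Subgroup.centralizer ({d} : Set G) ∧ g * d * g⁻¹ ≠ d) : Cfsg.Spor.IsoFi23 G := by
  obtain ⟨E, z, H⟩ := Fi23Final94.full_of_iso hd hq e hnwc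
  obtain ⟨j, w, c⟩ := Fi23Bridge79.exists_config_of_full H
  exact Fi23Iso95.isoFi23 H (Fi23Final94.type23_of_config H ⟨w, j, fun i hi => c.pat.mem i hi,
    c.jmem, c.zj, fun i hi k hk => c.pat.commute_iff hi hk, c.comm⟩).2

end Cfsg.Agent.S1714
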