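import Mathlib
import Cfsg.Statements.S1717
-- import your own Cfsg.Agent.* helpers here

set_option autoImplicit false
open Cfsg

namespace Cfsg.Agent.S1717
open scoped Pointwise

open Matrix

/-- The position of a coordinate in the order `0, 2, 3, 4, 1`. -/
def pos : Fin 5 → ℕ := ![0, 4, 1, 2, 3]

/-- Matrices which are unitriangular for the order given by `pos`. -/
def IsUni (M : Matrix (Fin 5) (Fin 5) (ZMod 2)) : Prop :=
  (∀ i, M i i = 1) ∧ ∀ i j, pos j < pos i → M i j = 0

theorem pos_inj : Function.Injective pos := by decide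

theorem isUni_mul {M N : Matrix (Fin 5) (Fin 5) (ZMod 2)} (hM : IsUni M) (hN : IsUni N) :
    IsUni (M * N) := by
  constructor
  · intro i
    rw [Matrix.mul_apply, Finset.sum_eq_single i]
    · rw [hM.1, hN.1, one_mul]
    · intro k _ hk
      rcases lt_or_gt_of_ne (fun h => hk (pos_inj h) : pos k ≠ pos i) with h | h
      · rw [hM.2 i k h, zero_mul]
      · rw [hN.2 k i h, mul_zero]
    · simp
  · intro i j hij
    rw [Matrix.mul_apply]
    refine Finset.sum_eq_zero fun k _ => ?_
    rcases lt_or_ge (pos k) (pos i) with h | h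
    · rw [hM.2 i k h, zero_mul]
    · rw [hN.2 k j (lt_of_lt_of_le hij h), mul_zero]

theorem pow_eight {M : Matrix (Fin 5) (Fin 5) (ZMod 2)} (hM : IsUni M) : M ^ 8 = 1 := by
  have key : ∀ (k : ℕ) (i j : Fin 5), pos j < pos i + k → ((M - 1) ^ k) i j = 0 := by
    intro k
    induction k with
    | zero =>
      intro i j h
      have hne : i ≠ j := fun e => by subst e; simp at h
      simp [Matrix.one_apply_ne hne]
    | succ k ih =>
      intro i j h
      rw [pow_succ, Matrix.mul_apply]
      refine Finset.sum_eq_zero fun l _ => ?_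
      rcases lt_or_ge (pos l) (pos i + k) with hl | hl
      · rw [ih i l hl, zero_mul]
      · have hle : pos j ≤ pos l := by omega
        rcases eq_or_lt_of_le hle with e | e
        · rw [pos_inj e]; simp [hM.1]
        · have hne : l ≠ j := fun he => by subst he; exact lt_irrefl _ e
          simp [hM.2 l j e, Matrix.one_apply_ne hne]
  have h8 : (M - 1) ^ 8 = 0 := by
    ext i j
    refine key 8 i j ?_
    have : pos j ≤ 4 := by revert j; decide
    omega
  have h := add_pow_char_pow_of_commute (R := Matrix (Fin 5) (Fin 5) (ZMod 2)) 2 3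
    (Commute.one_right (M - 1))
  norm_num at h
  rw [h8, zero_add] at h
  exact h

abbrev SL := Matrix.SpecialLinearGroup (Fin 5) (ZMod 2)

/-- The unitriangular subgroup for the order `0, 2, 3, 4, 1`. -/
def U : Subgroup SL where
  carrier := {A | IsUni (A : Matrix (Fin 5) (Fin 5) (ZMod 2))}
  one_mem' := by
    refine ⟨fun i => by simp, fun i j h => ?_⟩
    have hne : i ≠ j := fun e => by subst e; exact lt_irrefl _ h
    simp [Matrix.one_apply_ne hne]
  mul_mem' := fun {A B} hA hB => by
    simpa using isUni_mul hA hB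
  inv_mem' := fun {A} hA => by
    have h8 : A ^ 8 = 1 := by
      apply Subtype.ext
      simpa using pow_eight hA
    have hinv : A⁻¹ = A ^ 7 := inv_eq_of_mul_eq_one_right (by rw [← pow_succ']; exact h8)
    show IsUni _
    rw [hinv, Matrix.SpecialLinearGroup.coe_pow]
    have hA' : IsUni (A : Matrix (Fin 5) (Fin 5) (ZMod 2)) := hA
    simp only [pow_succ, pow_zero, one_mul]
    exact isUni_mul (isUni_mul (isUni_mul (isUni_mul (isUni_mul (isUni_mul hA' hA') hA') hA') hA') hA') hA'

theorem isPGroup_U : IsPGroup 2 U := fun A => ⟨3, by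
  apply Subtype.ext
  apply Subtype.ext
  simpa using pow_eight A.2⟩

theorem centralizes_U {s : SL} (hs : (s : Matrix (Fin 5) (Fin 5) (ZMod 2)) = Matrix.transvection 0 1 1)
    {A : SL} (hA : ∀ B ∈ U, A * B = B * A) : A = 1 ∨ A = s := by
  obtain ⟨X, hdet⟩ := A
  have key : ∀ i j : Fin 5, pos i < pos j → ∀ k l,
      (if l = j then X k i else 0) = (if k = i then X j l else 0) := by
    intro i j hij k l
    have hne : i ≠ j := fun e => by subst e; exact lt_irrefl _ hij
    let B : SL := ⟨Matrix.transvection i j 1, Matrix.det_transvection_of_ne i j hne 1⟩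
    have hB : B ∈ U := by
      show IsUni (Matrix.transvection i j 1)
      refine ⟨fun a => ?_, fun a b hab => ?_⟩
      · rcases eq_or_ne i a with rfl | ha
        · simp [Matrix.transvection, Matrix.single_apply_of_col_ne _ _ hne.symm]
        · simp [Matrix.transvection, Matrix.single_apply_of_row_ne ha]
      · have hab' : a ≠ b := fun e => by subst e; exact lt_irrefl _ hab
        have : ¬ (i = a ∧ j = b) := by rintro ⟨rfl, rfl⟩; exact lt_asymm hij hab
        simp [Matrix.transvection, Matrix.one_apply_ne hab', Matrix.single_apply, this]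
    have h : (X * Matrix.transvection i j (1 : ZMod 2) : Matrix (Fin 5) (Fin 5) (ZMod 2)) k l =
        (Matrix.transvection i j (1 : ZMod 2) * X : Matrix (Fin 5) (Fin 5) (ZMod 2)) k l :=
      congrArg (fun C : SL => (C : Matrix (Fin 5) (Fin 5) (ZMod 2)) k l) (hA B hB)
    simp only [Matrix.transvection, Matrix.mul_add,
      Matrix.add_mul, Matrix.mul_one, Matrix.one_mul, Matrix.add_apply, add_right_inj] at h
    rw [Matrix.mul_apply, Matrix.mul_apply] at h
    simp only [Matrix.single_apply, ite_mul, mul_ite, mul_zero, zero_mul, mul_one, one_mul] at h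
    rw [Finset.sum_eq_single i (fun b _ hb => by simp [hb.symm]) (by simp),
      Finset.sum_eq_single j (fun b _ hb => by simp [hb.symm]) (by simp)] at h
    simpa [eq_comm] using h
  have col : ∀ i k : Fin 5, i ≠ 1 → k ≠ i → X k i = 0 := fun i k hi hk => by
    have hp : pos i < pos 1 := by clear hk; revert i; decide
    simpa [hk] using key i 1 hp k 1
  have row : ∀ j l : Fin 5, j ≠ 0 → l ≠ j → X j l = 0 := fun j l hj hl => by
    have hp : pos 0 < pos j := by clear hl; revert j; decide
    simpa [hl] using (key 0 j hp 0 l).symm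
  have diag : ∀ j : Fin 5, X j j = X 0 0 := fun j => by
    rcases eq_or_ne j 0 with rfl | hj
    · rfl
    have hp : pos 0 < pos j := by revert j; decide
    simpa using (key 0 j hp 0 j).symm
  have h01 : ∀ a : ZMod 2, a = 0 ∨ a = 1 := by decide
  have hX00 : X 0 0 = 1 := by
    refine (h01 _).resolve_left fun h0 => ?_
    have hz : ∀ j, X 1 j = 0 := fun j => by
      rcases eq_or_ne j 1 with rfl | hj
      · rw [diag, h0]
      · exact row 1 j (by decide) hj
    rw [Matrix.det_eq_zero_of_row_eq_zero 1 hz] at hdet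
    exact zero_ne_one hdet
  have hoff : ∀ a b : Fin 5, a ≠ b → ¬ (0 = a ∧ 1 = b) → X a b = 0 := fun a b hab hne => by
    rcases eq_or_ne b 1 with rfl | hb
    · exact row a 1 (fun h => hne ⟨h.symm, rfl⟩) hab.symm
    · exact col b a hb hab
  rcases h01 (X 0 1) with h | h
  · left
    apply Subtype.ext
    ext a b
    rcases eq_or_ne a b with rfl | hab
    · simp [diag, hX00]
    · by_cases hc : 0 = a ∧ 1 = b
      · obtain ⟨rfl, rfl⟩ := hc; simpa using h
      · simp [Matrix.one_apply_ne hab, hoff a b hab hc]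
  · right
    apply Subtype.ext
    rw [hs]
    ext a b
    rcases eq_or_ne a b with rfl | hab
    · have : ¬ (0 = a ∧ 1 = a) := fun ⟨e1, e2⟩ => absurd (e1.trans e2.symm) (by decide)
      simp [Matrix.transvection, Matrix.single_apply, diag, hX00, this]
    · by_cases hc : 0 = a ∧ 1 = b
      · obtain ⟨rfl, rfl⟩ := hc; simp [Matrix.transvection, h]
      · simp [Matrix.transvection, Matrix.single_apply, Matrix.one_apply_ne hab, hoff a b hab hc, hc]

theorem U_le_centralizer {s : SL} (hs : (s : Matrix (Fin 5) (Fin 5) (ZMod 2)) = Matrix.transvection 0 1 1) :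
    U ≤ Subgroup.centralizer ({s} : Set SL) := by
  intro A hA
  rw [Subgroup.mem_centralizer_singleton_iff]
  apply Subtype.ext
  have hA' : IsUni (A : Matrix (Fin 5) (Fin 5) (ZMod 2)) := hA
  simp only [Matrix.SpecialLinearGroup.coe_mul, hs, Matrix.transvection, Matrix.mul_add,
    Matrix.add_mul, Matrix.mul_one, Matrix.one_mul]
  have hA0 : ∀ a : Fin 5, a ≠ 0 → A a 0 = 0 := fun a ha => hA'.2 a 0 (by revert a; decide)
  have hA1 : ∀ b : Fin 5, b ≠ 1 → A 1 b = 0 := fun b hb => hA'.2 1 b (by revert b; decide)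
  congr 1
  ext a b
  rw [Matrix.mul_apply, Matrix.mul_apply]
  simp only [Matrix.single_apply, ite_mul, mul_ite, mul_zero, zero_mul, mul_one, one_mul]
  rw [Finset.sum_eq_single 0 (fun c _ hc => by simp [hc.symm]) (by simp),
    Finset.sum_eq_single 1 (fun c _ hc => by simp [hc.symm]) (by simp)]
  rcases eq_or_ne a 0 with rfl | ha <;> rcases eq_or_ne b 1 with rfl | hb <;>
    simp [*, hA'.1, eq_comm]

theorem sylow_centre {s : SL} (hs : (s : Matrix (Fin 5) (Fin 5) (ZMod 2)) = Matrix.transvection 0 1 1)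
    (T : Sylow 2 (Subgroup.centralizer ({s} : Set SL))) (x : Subgroup.centralizer ({s} : Set SL))
    (hx : ∀ y ∈ T, x * y = y * x) : (x : SL) = 1 ∨ (x : SL) = s := by
  haveI : Fact (Nat.Prime 2) := ⟨Nat.prime_two⟩
  let C := Subgroup.centralizer ({s} : Set SL)
  have hU : IsPGroup 2 ↥(U.subgroupOf C) :=
    isPGroup_U.of_equiv (Subgroup.subgroupOfEquivOfLe (U_le_centralizer hs)).symm
  obtain ⟨T₀, hT₀⟩ := hU.exists_le_sylow
  obtain ⟨g, hg⟩ := MulAction.exists_smul_eq ↥C T₀ T
  have h := centralizes_U hs (A := ((g⁻¹ * x * g : ↥C) : SL)) (fun B hB => by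
    have hB' : (⟨B, U_le_centralizer hs hB⟩ : ↥C) ∈ T₀ := hT₀ hB
    generalize hBC : (⟨B, U_le_centralizer hs hB⟩ : ↥C) = BC at hB'
    have hBv : B = (BC : SL) := by rw [← hBC]
    have hm : g * BC * g⁻¹ ∈ T := by
      rw [← hg]
      show _ ∈ MulAut.conj g • (T₀ : Subgroup ↥C)
      rw [Subgroup.mem_pointwise_smul_iff_inv_smul_mem]
      have : (MulAut.conj g)⁻¹ • (g * BC * g⁻¹) = BC := by simp [mul_assoc]
      rw [this]
      exact hB'
    have h := hx _ hm
    rw [hBv, ← Subgroup.coe_mul, ← Subgroup.coe_mul]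
    refine congrArg Subtype.val ?_
    calc g⁻¹ * x * g * BC = g⁻¹ * (x * (g * BC * g⁻¹)) * g := by group
      _ = g⁻¹ * (g * BC * g⁻¹ * x) * g := by rw [h]
      _ = BC * (g⁻¹ * x * g) := by group)
  have hgs : (g : SL) * s = s * g := Subgroup.mem_centralizer_singleton_iff.mp g.2
  simp only [Subgroup.coe_mul, Subgroup.coe_inv] at h
  rcases h with h | h
  · left
    calc (x : SL) = g * ((g : SL)⁻¹ * x * g) * (g : SL)⁻¹ := by group
      _ = 1 := by rw [h]; group
  · right
    calc (x : SL) = g * ((g : SL)⁻¹ * x * g) * (g : SL)⁻¹ := by group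
      _ = s := by rw [h, hgs]; group

/-- Let G be a finite group with an involution z whose centraliser C is isomorphic to the centraliser of a transvection of SL(5, 2). Then a Sylow 2-subgroup of C, viewed in G, is a Sylow 2-subgroup of G (its index in G is odd). -/
theorem result {G : Type*} [Group G] [Finite G] (s : Matrix.SpecialLinearGroup (Fin 5) (ZMod 2)) (hs : (s : Matrix (Fin 5) (Fin 5) (ZMod 2)) = Matrix.transvection 0 1 1) (z : G) (hz : orderOf z = 2) (e : (Subgroup.centralizer ({z} : Set G)) ≃* Subgroup.centralizer ({s} : Set (Matrix.SpecialLinearGroup (Fin 5) (ZMod 2)))) (T : Sylow 2 (Subgroup.centralizer ({z} : Set G))) : ¬ 2 ∣ ((T : Subgroup (Subgroup.centralizer ({z} : Set G))).map (Subgroup.subtype (Subgroup.centralizer ({z} : Set G)))).index := by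
  classical
  haveI : Fact (Nat.Prime 2) := ⟨Nat.prime_two⟩
  let C := Subgroup.centralizer ({z} : Set G)
  let zC : ↥C := ⟨z, Subgroup.mem_centralizer_singleton_iff.mpr rfl⟩
  have hz1 : z ≠ 1 := fun h => by rw [h, orderOf_one] at hz; norm_num at hz
  have hzcent : ∀ c : ↥C, c * zC = zC * c := fun c =>
    Subtype.ext (Subgroup.mem_centralizer_singleton_iff.mp c.2)
  let T' : Sylow 2 (Subgroup.centralizer ({s} : Set SL)) := T.comapOfInjective e.symm.toMonoidHom
    e.symm.injective (by simp [MonoidHom.range_eq_top.mpr (show Function.Surjective e.symm.toMonoidHom from e.symm.surjective)])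
  have hcen : ∀ x : ↥C, (∀ y ∈ T, x * y = y * x) → x = 1 ∨ x = zC := by
    have hval : ∀ x : ↥C, (∀ y ∈ T, x * y = y * x) → (e x : SL) = 1 ∨ (e x : SL) = s := by
      intro x hx
      refine sylow_centre hs T' (e x) fun y hy => ?_
      have hy' : e.symm y ∈ T := hy
      have h := congrArg e (hx _ hy')
      simpa using h
    intro x hx
    have hzs : (e zC : SL) = s := by
      refine (hval zC (fun y _ => (hzcent y).symm)).resolve_left fun h => ?_
      have : e zC = 1 := Subtype.ext h
      exact hz1 (congrArg Subtype.val (e.injective (this.trans (map_one e).symm)))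
    rcases hval x hx with h | h
    · exact Or.inl (e.injective (by rw [map_one]; exact Subtype.ext h))
    · exact Or.inr (e.injective (Subtype.ext (h.trans hzs.symm)))
  have hzT : zC ∈ T := by
    have hP : IsPGroup 2 ↥(Subgroup.zpowers zC) := by
      refine IsPGroup.of_card (n := 1) ?_
      rw [Nat.card_zpowers, ← Subgroup.orderOf_coe zC, pow_one]
      exact hz
    haveI : (Subgroup.zpowers zC).Normal := ⟨fun x hx c => by
      have hle : Subgroup.zpowers zC ≤ Subgroup.center ↥C :=
        Subgroup.zpowers_le.mpr (Subgroup.mem_center_iff.mpr fun c => hzcent c)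
      rwa [Subgroup.mem_center_iff.mp (hle hx) c, mul_assoc, mul_inv_cancel, mul_one]⟩
    exact hP.le_sylow_of_normal T (Subgroup.mem_zpowers zC)
  let S : Subgroup G := (T : Subgroup ↥C).map C.subtype
  have hS : IsPGroup 2 ↥S := T.isPGroup'.map _
  obtain ⟨P, hP⟩ := hS.exists_le_sylow
  suffices h : S = P by
    show ¬ 2 ∣ S.index
    rw [h]
    exact P.not_dvd_index
  by_contra hne
  haveI : Group.IsNilpotent ↥(P : Subgroup G) := P.isPGroup'.isNilpotent
  have hlt : S.subgroupOf P < ⊤ := by
    rw [lt_top_iff_ne_top, Ne, Subgroup.subgroupOf_eq_top]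
    exact fun h => hne (le_antisymm hP h)
  obtain ⟨⟨g, hgP⟩, hgN, hgS⟩ :=
    SetLike.exists_of_lt (Group.normalizerCondition_of_isNilpotent _ hlt)
  rw [Subgroup.mem_subgroupOf] at hgS
  rw [Subgroup.mem_normalizer_iff] at hgN
  have hg : ∀ x ∈ S, g * x * g⁻¹ ∈ S := fun x hx => by
    have := (hgN ⟨x, hP hx⟩).mp (by simpa [Subgroup.mem_subgroupOf] using hx)
    simpa [Subgroup.mem_subgroupOf] using this
  have hg' : ∀ x ∈ S, g⁻¹ * x * g ∈ S := fun x hx => by
    have := (hgN ⟨g⁻¹ * x * g, P.toSubgroup.mul_mem (P.toSubgroup.mul_mem (P.toSubgroup.inv_mem hgP) (hP hx)) hgP⟩).mpr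
      (by simpa [Subgroup.mem_subgroupOf, mul_assoc] using hx)
    simpa [Subgroup.mem_subgroupOf] using this
  obtain ⟨w, hwT, hwv⟩ := Subgroup.mem_map.mp (hg z (Subgroup.mem_map.mpr ⟨zC, hzT, rfl⟩))
  have hwv' : (w : G) = g * z * g⁻¹ := hwv
  have hgz : g * z = z * g := by
    have hw : w = 1 ∨ w = zC := hcen w fun y hy => by
      obtain ⟨u, hu, huv⟩ := Subgroup.mem_map.mp (hg' y (Subgroup.mem_map.mpr ⟨y, hy, rfl⟩))
      have huv' : (u : G) = g⁻¹ * y * g := huv
      have h : (u : G) * z = z * u := congrArg Subtype.val (hzcent u)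
      rw [huv'] at h
      apply Subtype.ext
      show (w : G) * y = y * w
      rw [hwv']
      calc g * z * g⁻¹ * y = g * (z * (g⁻¹ * y * g)) * g⁻¹ := by group
        _ = g * (g⁻¹ * y * g * z) * g⁻¹ := by rw [h]
        _ = y * (g * z * g⁻¹) := by group
    rcases hw with h | h
    · exfalso
      rw [h, Subgroup.coe_one] at hwv'
      exact hz1 (by simpa using hwv'.symm)
    · rw [h] at hwv'
      exact mul_inv_eq_iff_eq_mul.mp hwv'.symm
  have hgC : g ∈ C := Subgroup.mem_centralizer_singleton_iff.mpr hgz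
  have hPC : IsPGroup 2 ↥((P : Subgroup G).subgroupOf C) :=
    P.isPGroup'.comap_of_injective _ C.subtype_injective
  have hTP : (T : Subgroup ↥C) ≤ (P : Subgroup G).subgroupOf C := fun x hx =>
    hP (Subgroup.mem_map.mpr ⟨x, hx, rfl⟩)
  have heq := T.is_maximal' hPC hTP
  have : (⟨g, hgC⟩ : ↥C) ∈ (T : Subgroup ↥C) := heq ▸ hgP
  exact hgS (Subgroup.mem_map.mpr ⟨_, this, rfl⟩)

end Cfsg.Agent.S1717
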