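import Cfsg.Statements.S1724
import Cfsg.Agent.Lib.J2TypeSetting79
import Cfsg.Agent.Lib.J2TypeFive79
import Cfsg.Agent.Lib.J2TypeThreeSylow79

set_option autoImplicit false
open Cfsg

namespace Cfsg.Agent.S1724

open Subgroup Cfsg.Agent.J2TypePoints79 Cfsg.Agent.J2TypeCyc79 Cfsg.Agent.J2TypeCent79

/-- The arithmetic of the normalizer of a Sylow seven-subgroup. -/
theorem arith {c m n : ℕ} (hc : c ∣ 175) (h7 : 7 ∣ c) (hm : m ∣ 6) (hn : n % 7 = 1)
    (h : n * (c * m) = 604800) : c = 7 ∧ m = 6 := by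
  have hc' : c ∈ Nat.divisors 175 := Nat.mem_divisors.2 ⟨hc, by norm_num⟩
  have hm' : m ∈ Nat.divisors 6 := Nat.mem_divisors.2 ⟨hm, by norm_num⟩
  rw [show Nat.divisors 175 = {1, 5, 7, 25, 35, 175} from by decide +kernel] at hc'
  rw [show Nat.divisors 6 = {1, 2, 3, 6} from by decide +kernel] at hm'
  simp only [Finset.mem_insert, Finset.mem_singleton] at hc' hm'
  rcases hc' with rfl | rfl | rfl | rfl | rfl | rfl <;>
    rcases hm' with rfl | rfl | rfl | rfl <;> omega

theorem seven {G : Type*} [Group G] [Finite G] {Q : Subgroup G} {z : G} {a : Fin 5 → G}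
    {u u' y : G} (C : Cyc Q z a u u' y) {K : Subgroup G} (hK : Kern C K) (h60 : Nat.card K = 60)
    (hG : Nat.card G = 604800) (D : Sylow 7 G) :
    centralizer ((D : Subgroup G) : Set G) = D ∧
      Nat.card (normalizer ((D : Subgroup G) : Set G)) = 42 ∧
      ¬ IsMulCommutative (normalizer ((D : Subgroup G) : Set G)) := by
  haveI h7 : Fact (Nat.Prime 7) := ⟨by norm_num⟩
  haveI : Fact (Nat.Prime 3) := ⟨Nat.prime_three⟩
  haveI : Fact (Nat.Prime 2) := ⟨Nat.prime_two⟩
  obtain ⟨x, X⟩ := J2TypeThree79.exists_elt C hK h60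
  have hD : Nat.card D = 7 := by
    rw [Sylow.card_eq_multiplicity, hG, show (604800 : ℕ) = 7 ^ 1 * 86400 by norm_num,
      Nat.factorization_def _ h7.out, padicValNat.mul (by norm_num) (by norm_num),
      padicValNat.prime_pow, padicValNat.eq_zero_of_not_dvd (by norm_num)]
    norm_num
  obtain ⟨d, hd⟩ : ∃ d : (D : Subgroup G), orderOf d = 7 :=
    exists_prime_orderOf_dvd_card' 7 (dvd_of_eq hD.symm)
  rw [← Subgroup.orderOf_coe] at hd
  set Cd := centralizer ((D : Subgroup G) : Set G)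
  -- the centralizer of an element of order two or three has order prime to seven
  have hno : ∀ t ∈ Cd, ∀ n : ℕ, (∃ g, ∃ v : G, g * t * g⁻¹ = v ∧
      Nat.card ↥(centralizer ({v} : Set G)) = n) → 7 ∣ n := by
    rintro t ht n ⟨g, v, rfl, rfl⟩
    have h1 : (D : Subgroup G) ≤ centralizer ({t} : Set G) := fun w hw =>
      mem_centralizer_singleton_iff.2 (mem_centralizer_iff.1 ht w hw)
    rw [J2TypeNorm79.centralizer_conj, card_map_of_injective (MulAut.conj g).injective]
    exact hD ▸ card_dvd_of_le h1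
  have h2 : ¬ 2 ∣ Nat.card Cd := by
    intro h
    obtain ⟨t, ht⟩ := exists_prime_orderOf_dvd_card' 2 h
    rw [← Subgroup.orderOf_coe] at ht
    rcases J2TypeClasses79.conj_cases C.loc ht with hc | hc <;> obtain ⟨g, hg⟩ := isConj_iff.1 hc.symm
    · have := hno _ t.2 1920 ⟨g, z, hg, card_H C.loc.fr.hJ⟩
      norm_num at this
    · have := hno _ t.2 240 ⟨g, u, hg, J2TypeNorm79.card_cent C hK h60⟩
      norm_num at this
  have h3 : ¬ 3 ∣ Nat.card Cd := by
    intro h
    obtain ⟨t, ht⟩ := exists_prime_orderOf_dvd_card' 3 h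
    rw [← Subgroup.orderOf_coe] at ht
    rcases J2TypeThreeSylow79.classes C hK h60 hG X ht with hc | hc <;>
      obtain ⟨g, hg⟩ := isConj_iff.1 hc
    · have := hno _ t.2 1080 ⟨g, x, hg, J2TypeThree79.card_cent C hK h60 X⟩
      norm_num at this
    · rcases J2TypeThree79.card_cent_y C hK h60 X with e | e <;>
        · have := hno _ t.2 _ ⟨g, y, hg, e⟩
          norm_num at this
  haveI hDc : IsCyclic (D : Subgroup G) := isCyclic_of_prime_card hD
  have hDC : (D : Subgroup G) ≤ Cd := fun w hw => mem_centralizer_iff.2 fun v hv =>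
    congrArg Subtype.val (hDc.commutative.is_comm.comm (⟨v, hv⟩ : (D : Subgroup G)) ⟨w, hw⟩)
  set N := normalizer ((D : Subgroup G) : Set G)
  have hCN : Cd ≤ N := centralizer_le_normalizer _
  set c := Nat.card Cd
  have hc7 : 7 ∣ c := hD ▸ card_dvd_of_le hDC
  have hc175 : c ∣ 175 := by
    have h1 : c ∣ 2 ^ 7 * (3 ^ 3 * 175) := by
      have := Cd.card_subgroup_dvd_card
      rwa [hG] at this
    have c2 : Nat.Coprime c (2 ^ 7) :=
      (((Nat.prime_two.coprime_iff_not_dvd).2 h2).pow_left 7).symm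
    have c3 : Nat.Coprime c (3 ^ 3) :=
      (((Nat.prime_three.coprime_iff_not_dvd).2 h3).pow_left 3).symm
    exact c3.dvd_of_dvd_mul_left (c2.dvd_of_dvd_mul_left h1)
  set φ := (D : Subgroup G).normalizerMonoidHom
  have haut : Nat.card (MulAut (D : Subgroup G)) = 6 := by
    rw [IsCyclic.card_mulAut, hD]; decide
  have hr : Nat.card φ.range ∣ 6 := haut ▸ φ.range.card_subgroup_dvd_card
  have hN : Nat.card N = c * Nat.card φ.range := by
    have h1 := φ.ker.card_mul_index
    rw [Subgroup.index_ker, (D : Subgroup G).normalizerMonoidHom_ker,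
      Nat.card_congr (subgroupOfEquivOfLe hCN).toEquiv] at h1
    exact h1.symm
  have hn : Nat.card (Sylow 7 G) % 7 = 1 := card_sylow_modEq_one 7 G
  have hmul : Nat.card (Sylow 7 G) * (c * Nat.card φ.range) = 604800 := by
    have h1 := N.card_mul_index
    rw [hN, hG] at h1
    rw [D.card_eq_index_normalizer, mul_comm]
    exact h1
  obtain ⟨hc, hm⟩ := arith hc175 hc7 hr hn hmul
  have hDeq : Cd = D := (eq_of_le_of_card_ge hDC (by rw [hD]; exact hc.le)).symm
  refine ⟨hDeq, by rw [hN, hc, hm], fun hcom => ?_⟩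
  have hle : N ≤ Cd := fun n hn => mem_centralizer_iff.2 fun v hv =>
    congrArg Subtype.val (hcom.is_comm.comm (⟨v, le_normalizer hv⟩ : N) ⟨n, hn⟩)
  have h1 := card_le_of_le hle
  rw [hN] at h1
  change c * Nat.card φ.range ≤ c at h1
  rw [hc, hm] at h1
  norm_num at h1

/-- In a group of Hall–Janko type (large-extraspecial hypothesis with Q of order 32, quotient Ω⁻(4, 2), z not weakly closed in Q, more than one class of involutions), a Sylow 7-subgroup is its own centraliser and its normaliser is non-abelian of order 42. -/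
theorem result {G : Type*} [Group G] [Finite G] (z : G) (hz : orderOf z = 2) (Q : Subgroup (Subgroup.centralizer ({z} : Set G))) [Q.Normal] (hF : Cfsg.generalizedFittingSubgroup (Subgroup.centralizer ({z} : Set G)) = Q) (hQ : Cfsg.IsExtraspecial 2 Q) (hcard : Nat.card Q = 2 ^ 5) (e : (Subgroup.centralizer ({z} : Set G)) ⧸ Q ≃* Cfsg.Omega (ZMod 2) (Cfsg.quadFormMinus 1 (ZMod 2) 1 1)) (hnwc : ∃ g : G, (∃ hq : g * z * g⁻¹ ∈ Subgroup.centralizer ({z} : Set G), (⟨g * z * g⁻¹, hq⟩ : Subgroup.centralizer ({z} : Set G)) ∈ Q) ∧ g * z * g⁻¹ ≠ z) (hcl : ∃ x y : G, orderOf x = 2 ∧ orderOf y = 2 ∧ ¬ IsConj x y) (D : Sylow 7 G) : Subgroup.centralizer ((D : Subgroup G) : Set G) = D ∧ Nat.card (Subgroup.normalizer ((D : Subgroup G) : Set G)) = 42 ∧ ¬ IsMulCommutative (Subgroup.normalizer ((D : Subgroup G) : Set G)) := by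
  obtain ⟨a, u, u', y, C, K, hK, h60, hG⟩ :=
    J2TypeFive79.exists_kern_order (J2TypeSetting79.hyp_of_setting hz Q hF hQ hcard e hnwc hcl)
  exact seven C hK h60 hG D

end Cfsg.Agent.S1724
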