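import Cfsg.Statements.S1743
import Cfsg.Agent.Lib.G2SylowEmbed15
import Cfsg.Agent.Lib.G2SylowFusion15

set_option autoImplicit false
open Cfsg

namespace Cfsg.Agent.S1743

/-- Let G be a finite simple group whose Sylow 2-subgroups are isomorphic to a Sylow 2-subgroup of the Chevalley group of type G₂ over a finite field of odd order, and let S be a Sylow 2-subgroup of G. Then either all involutions of G are conjugate, or S has order 64 and the involutions of G form exactly two conjugacy classes. -/
theorem result {G : Type*} [Group G] [Finite G] [IsSimpleGroup G]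
    {F : Type*} [Field F] [Fintype F] (hF : Odd (Fintype.card F)) (S : Sylow 2 G) (P : Sylow 2 ↥(Cfsg.Lie.chevG2.group F))
    (hS : Nonempty (↥(S : Subgroup G) ≃* ↥(P : Subgroup ↥(Cfsg.Lie.chevG2.group F)))) :
    (∀ x y : G, orderOf x = 2 → orderOf y = 2 → IsConj x y) ∨
      (Nat.card ↥(S : Subgroup G) = 64 ∧ ∃ x y : G, orderOf x = 2 ∧ orderOf y = 2 ∧ ¬ IsConj x y ∧
        ∀ z : G, orderOf z = 2 → IsConj z x ∨ IsConj z y) := by
  obtain ⟨e⟩ := hS
  obtain ⟨l, hl, ⟨e'⟩⟩ := Cfsg.Agent.G2SylowEmbed15.sylow_model hF P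
  have hna : ¬ IsMulCommutative G := fun hc => by
    let y : Cfsg.Agent.G2SylowModel15.M (4 * l) := ⟨1, 0, false, false⟩
    let w : Cfsg.Agent.G2SylowModel15.M (4 * l) := Cfsg.Agent.G2SylowModel15.w l
    have h : y * w = w * y := by
      apply (e.trans e').symm.injective
      rw [map_mul, map_mul]
      exact Subtype.ext (hc.is_comm.comm _ _)
    have h1 := congrArg Cfsg.Agent.G2SylowModel15.M.x h
    simp [y, w, Cfsg.Agent.G2SylowModel15.w, Cfsg.Agent.G2SylowModel15.M.mul_def,
      Cfsg.Agent.G2SylowModel15.M.act] at h1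
    have h4 := ZMod.natCast_eq_zero_iff 1 (4 * l) |>.1 (by exact_mod_cast h1)
    have := Nat.le_of_dvd one_pos h4
    have := NeZero.pos l
    omega
  exact Cfsg.Agent.G2SylowFusion15.main hna S l (e.trans e')

end Cfsg.Agent.S1743
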