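import Mathlib
import Cfsg.Statements.S1756
-- import your own Cfsg.Agent.* helpers here

set_option autoImplicit false
open Cfsg

namespace Cfsg.Agent.S1756

theorem two_valued {P : Type*} [Group P] (hc : Nat.card (Subgroup.center P) = 2) {a b : P}
    (ha : a ∈ Subgroup.center P) (hb : b ∈ Subgroup.center P) (ha1 : a ≠ 1) (hb1 : b ≠ 1) :
    a = b := by
  have h := (Nat.card_eq_two_iff' (1 : ↥(Subgroup.center P))).mp hc
  obtain ⟨d, -, hd⟩ := h
  have h1 := hd ⟨a, ha⟩ (fun h => ha1 (congrArg Subtype.val h))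
  have h2 := hd ⟨b, hb⟩ (fun h => hb1 (congrArg Subtype.val h))
  exact congrArg Subtype.val (h1.trans h2.symm)

theorem comm_mem_center {P : Type*} [Group P] (hs : commutator P = Subgroup.center P) (a b : P) :
    a * b * a⁻¹ * b⁻¹ ∈ Subgroup.center P := by
  rw [← hs, commutator_def]
  exact Subgroup.commutator_mem_commutator (Subgroup.mem_top a) (Subgroup.mem_top b)

theorem comm_mul {P : Type*} [Group P] (hs : commutator P = Subgroup.center P) (a a' b : P) :
    (a * a') * b * (a * a')⁻¹ * b⁻¹ = (a * b * a⁻¹ * b⁻¹) * (a' * b * a'⁻¹ * b⁻¹) := by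
  have h := Subgroup.mem_center_iff.mp (comm_mem_center hs a' b) a
  have h' := Subgroup.mem_center_iff.mp (comm_mem_center hs a' b) (b * a⁻¹ * b⁻¹)
  calc (a * a') * b * (a * a')⁻¹ * b⁻¹
      = a * (a' * b * a'⁻¹ * b⁻¹) * (b * a⁻¹ * b⁻¹) := by group
    _ = a * ((b * a⁻¹ * b⁻¹) * (a' * b * a'⁻¹ * b⁻¹)) := by rw [mul_assoc, h']
    _ = (a * b * a⁻¹ * b⁻¹) * (a' * b * a'⁻¹ * b⁻¹) := by group

theorem sq_mem_center {P : Type*} [Group P] (hc : Nat.card (Subgroup.center P) = 2)
    (hs : commutator P = Subgroup.center P) (x : P) : x * x ∈ Subgroup.center P := by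
  rw [Subgroup.mem_center_iff]
  intro g
  have h := comm_mul hs x x g
  have h2 : (x * g * x⁻¹ * g⁻¹) * (x * g * x⁻¹ * g⁻¹) = 1 := by
    rcases eq_or_ne (x * g * x⁻¹ * g⁻¹) 1 with h1 | h1
    · rw [h1, one_mul]
    · by_contra hne
      have := two_valued hc (Subgroup.mul_mem _ (comm_mem_center hs x g) (comm_mem_center hs x g))
        (comm_mem_center hs x g) hne h1
      exact h1 (mul_eq_left.mp this)
  rw [h2, mul_inv_eq_one, mul_inv_eq_iff_eq_mul] at h
  exact h.symm

/-- A subgroup of index 2 containing the centre has a centralizer larger than the centre. -/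
theorem exists_centralizing {P : Type*} [Group P] [Finite P]
    (hc : Nat.card (Subgroup.center P) = 2) (hs : commutator P = Subgroup.center P)
    (C : Subgroup P) (hC : C.index = 2) (hZC : Subgroup.center P ≤ C) :
    ∃ y : P, y ∉ Subgroup.center P ∧ ∀ x ∈ C, x * y = y * x := by
  classical
  by_contra hno
  push Not at hno
  let Z := Subgroup.center P
  let W : Subgroup ↥C := Z.subgroupOf C
  let V := ↥C ⧸ W
  letI : CommGroup V :=
    { (inferInstance : Group V) with
      mul_comm := by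
        rintro ⟨a⟩ ⟨b⟩
        refine QuotientGroup.eq.mpr ?_
        have h := comm_mem_center hs ((b : P)⁻¹) ((a : P)⁻¹)
        simpa [W, Z, Subgroup.mem_subgroupOf, mul_assoc] using h }
  let χ : P → (↥C →* ℂˣ) := fun y =>
    { toFun := fun x => if (x : P) * y * (x : P)⁻¹ * y⁻¹ = 1 then 1 else -1
      map_one' := by simp
      map_mul' := fun u v => by
        simp only [Subgroup.coe_mul, comm_mul hs]
        rcases eq_or_ne ((u : P) * y * (u : P)⁻¹ * y⁻¹) 1 with hu | hu
        · simp [hu]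
        rcases eq_or_ne ((v : P) * y * (v : P)⁻¹ * y⁻¹) 1 with hv | hv
        · simp [hu, hv]
        have huv := two_valued hc (comm_mem_center hs (u : P) y) (comm_mem_center hs (v : P) y) hu hv
        have h2 : ((u : P) * y * (u : P)⁻¹ * y⁻¹) * ((v : P) * y * (v : P)⁻¹ * y⁻¹) = 1 := by
          rw [← huv]
          by_contra hne
          exact hu (mul_eq_left.mp (two_valued hc (Subgroup.mul_mem _ (comm_mem_center hs (u : P) y)
            (comm_mem_center hs (u : P) y)) (comm_mem_center hs (u : P) y) hne hu))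
        rw [if_pos h2, if_neg hu, if_neg hv]
        simp }
  have hker : ∀ y, W ≤ (χ y).ker := by
    intro y x hx
    have h := Subgroup.mem_center_iff.mp (Subgroup.mem_subgroupOf.mp hx) y
    have h' : (x : P) * y * (x : P)⁻¹ * y⁻¹ = 1 := by rw [← h]; group
    simp [MonoidHom.mem_ker, χ, h']
  let ψ : P ⧸ Z → (V →* ℂˣ) := fun q => QuotientGroup.lift W (χ q.out) (hker _)
  have hψ : Function.Injective ψ := by
    intro q q' h
    rw [← q.out_eq', ← q'.out_eq', QuotientGroup.eq]
    by_contra hn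
    obtain ⟨x, hx, hxy⟩ := hno _ hn
    apply hxy
    have hx' : χ q.out ⟨x, hx⟩ = χ q'.out ⟨x, hx⟩ := by
      have := DFunLike.congr_fun h (QuotientGroup.mk ⟨x, hx⟩)
      exact this
    simp only [χ, MonoidHom.coe_mk, OneHom.coe_mk] at hx'
    have hne : (1 : ℂˣ) ≠ -1 := by
      intro h1
      have := congrArg Units.val h1
      norm_num at this
    have hcc : x * q.out * x⁻¹ * q.out⁻¹ = x * q'.out * x⁻¹ * q'.out⁻¹ := by
      rcases eq_or_ne (x * q.out * x⁻¹ * q.out⁻¹) 1 with h1 | h1 <;>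
        rcases eq_or_ne (x * q'.out * x⁻¹ * q'.out⁻¹) 1 with h2 | h2
      · rw [h1, h2]
      · rw [if_pos h1, if_neg h2] at hx'; exact absurd hx' hne
      · rw [if_neg h1, if_pos h2] at hx'; exact absurd hx'.symm hne
      · exact two_valued hc (comm_mem_center hs x _) (comm_mem_center hs x _) h1 h2
    generalize q.out = a at hcc ⊢
    generalize q'.out = b at hcc ⊢
    have e1 : x * a * x⁻¹ = (x * b * x⁻¹ * b⁻¹) * a := by rw [← hcc]; group
    have hz := Subgroup.mem_center_iff.mp (comm_mem_center hs x b)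
    calc x * (a⁻¹ * b) = (x * a * x⁻¹)⁻¹ * (x * b * x⁻¹) * x := by group
      _ = a⁻¹ * ((x * b * x⁻¹ * b⁻¹)⁻¹ * (x * b * x⁻¹)) * x := by rw [e1]; group
      _ = (a⁻¹ * b) * x := by group
  have hcardV : Nat.card (V →* ℂˣ) = Nat.card V :=
    CommGroup.card_monoidHom_of_hasEnoughRootsOfUnity V ℂ
  haveI : Finite (V →* ℂˣ) :=
    Nat.finite_of_card_ne_zero (by rw [hcardV]; exact Nat.card_pos.ne')
  have h1 := Nat.card_le_card_of_injective ψ hψ
  rw [hcardV] at h1
  have h2 : Z.relIndex C * C.index = Z.index := Subgroup.relIndex_mul_index hZC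
  have h3 : Nat.card V = Z.relIndex C := rfl
  have h4 : Nat.card (P ⧸ Z) = Z.index := rfl
  have h5 : 0 < Nat.card V := Nat.card_pos
  rw [hC] at h2
  omega

theorem involutory_aut_inner {P : Type*} [Group P] [Finite P]
    (hc : Nat.card (Subgroup.center P) = 2) (hs : commutator P = Subgroup.center P)
    (τ : P ≃* P) (hτ : ∀ x, τ (τ x) = x) (C : Subgroup P) (hCmem : ∀ x, x ∈ C ↔ τ x = x)
    (hC : C.index ≤ 2) : ∃ p : P, ∀ x, τ x = p * x * p⁻¹ := by
  have hpos : C.index ≠ 0 := Subgroup.index_ne_zero_of_finite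
  rcases Nat.lt_or_ge C.index 2 with h1 | h1
  · refine ⟨1, fun x => ?_⟩
    have htop : C = ⊤ := Subgroup.index_eq_one.mp (by omega)
    simp [(hCmem x).mp (htop ▸ Subgroup.mem_top x)]
  have h2 : C.index = 2 := by omega
  have hZC : Subgroup.center P ≤ C := by
    intro a ha
    rw [hCmem]
    rcases eq_or_ne a 1 with rfl | ha1
    · exact map_one τ
    refine two_valued hc ?_ ha (fun h => ha1 (τ.injective (h.trans (map_one τ).symm))) ha1
    rw [Subgroup.mem_center_iff]
    intro g
    obtain ⟨u, rfl⟩ := τ.surjective g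
    rw [← map_mul, ← map_mul, Subgroup.mem_center_iff.mp ha u]
  obtain ⟨y, hyZ, hy⟩ := exists_centralizing hc hs C h2 hZC
  haveI : C.Normal := Subgroup.normal_of_index_eq_minFac_card (by
    rw [h2]
    have hd : 2 ∣ Nat.card P := h2 ▸ Subgroup.index_dvd_card C
    exact ((Nat.minFac_eq_two_iff _).mpr hd).symm)
  obtain ⟨q, hq⟩ : ∃ q, q ∉ C := by
    by_contra h
    push Not at h
    exact absurd (Subgroup.index_eq_one.mpr ((Subgroup.eq_top_iff' C).mpr h)) (by omega)
  have hcover : ∀ x, x ∈ C ∨ ∃ u ∈ C, x = q * u := by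
    intro x
    rcases em (x ∈ C) with h | h
    · exact Or.inl h
    refine Or.inr ⟨q⁻¹ * x, ?_, by group⟩
    rw [Subgroup.mul_mem_iff_of_index_two h2, Subgroup.inv_mem_iff]
    simp [hq, h]
  have hcent : ∀ a, (∀ x ∈ C, x * a = a * x) → q * a = a * q → a ∈ Subgroup.center P := by
    intro a ha hqa
    rw [Subgroup.mem_center_iff]
    intro g
    rcases hcover g with h | ⟨u, hu, rfl⟩
    · exact ha g h
    · rw [mul_assoc, ha u hu, ← mul_assoc, hqa, mul_assoc]
  have hyC : y ∈ C := by
    by_contra h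
    apply hyZ
    rw [Subgroup.mem_center_iff]
    intro g
    rcases em (g ∈ C) with hg | hg
    · exact hy g hg
    · have h' : y⁻¹ * g ∈ C := by
        rw [Subgroup.mul_mem_iff_of_index_two h2, Subgroup.inv_mem_iff]
        simp [h, hg]
      have := hy _ h'
      rw [mul_assoc] at this
      calc g * y = y * (y⁻¹ * (g * y)) := by group
        _ = y * (y * (y⁻¹ * g)) := by rw [this]
        _ = y * g := by group
  obtain ⟨w, hw⟩ : ∃ w, τ q = q * w := ⟨q⁻¹ * τ q, by group⟩
  have hwcent : ∀ x ∈ C, x * w = w * x := by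
    intro x hx
    have hn : q * x * q⁻¹ ∈ C := Subgroup.Normal.conj_mem ‹_› x hx q
    have h := (hCmem _).mp hn
    rw [map_mul, map_mul, map_inv, hw, (hCmem x).mp hx] at h
    calc x * w = q⁻¹ * (q * x * q⁻¹) * q * w := by group
      _ = q⁻¹ * (q * w * x * (q * w)⁻¹) * q * w := by rw [h]
      _ = w * x := by group
  have hqy : q * y ≠ y * q := fun h => hyZ (hcent y hy h)
  by_cases hwq : q * w = w * q
  · have hwZ : w ∈ Subgroup.center P := hcent w hwcent hwq
    have hw1 : w ≠ 1 := fun h => hq ((hCmem q).mpr (by rw [hw, h, mul_one]))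
    have hd : y * q * y⁻¹ * q⁻¹ = w := two_valued hc (comm_mem_center hs y q) hwZ
      (fun h => hqy (by rw [mul_inv_eq_one, mul_inv_eq_iff_eq_mul] at h; exact h.symm)) hw1
    have hq' : τ q = y * q * y⁻¹ := by
      rw [hw, Subgroup.mem_center_iff.mp hwZ q, ← hd]; group
    refine ⟨y, fun x => ?_⟩
    have hfix : ∀ u ∈ C, τ u = y * u * y⁻¹ := fun u hu => by
      rw [(hCmem u).mp hu, ← hy u hu, mul_assoc, mul_inv_cancel, mul_one]
    rcases hcover x with h | ⟨u, hu, rfl⟩
    · exact hfix x h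
    · rw [map_mul, hq', hfix u hu]; group
  · exfalso
    have hd : y * q * y⁻¹ * q⁻¹ = w * q * w⁻¹ * q⁻¹ := two_valued hc (comm_mem_center hs y q)
      (comm_mem_center hs w q)
      (fun h => hqy (by rw [mul_inv_eq_one, mul_inv_eq_iff_eq_mul] at h; exact h.symm))
      (fun h => hwq (by rw [mul_inv_eq_one, mul_inv_eq_iff_eq_mul] at h; exact h.symm))
    have hyw : y⁻¹ * w ∈ Subgroup.center P := by
      apply hcent
      · intro x hx
        have e1 : x * y⁻¹ = y⁻¹ * x := by
          calc x * y⁻¹ = y⁻¹ * (y * x) * y⁻¹ := by group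
            _ = y⁻¹ * (x * y) * y⁻¹ := by rw [hy x hx]
            _ = y⁻¹ * x := by group
        rw [← mul_assoc, e1, mul_assoc, hwcent x hx, mul_assoc]
      · have e : y * q * y⁻¹ = w * q * w⁻¹ := mul_right_cancel hd
        calc q * (y⁻¹ * w) = y⁻¹ * (y * q * y⁻¹) * w := by group
          _ = y⁻¹ * (w * q * w⁻¹) * w := by rw [e]
          _ = y⁻¹ * w * q := by group
    have hwC : w ∈ C := by
      simpa using C.mul_mem hyC (hZC hyw)
    have hww : w * w = 1 := by
      have h := hτ q
      rw [hw, map_mul, hw, (hCmem w).mp hwC, mul_assoc] at h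
      exact mul_eq_left.mp h
    have hsq := (hCmem _).mp (hZC (sq_mem_center hc hs q))
    rw [map_mul, hw] at hsq
    apply hwq
    have e : w * q * w = q := by
      calc w * q * w = q⁻¹ * (q * w * (q * w)) := by group
        _ = q := by rw [hsq]; group
    calc q * w = w * q * w * w := by rw [e]
      _ = w * q := by rw [mul_assoc (w * q), hww, mul_one]

/-- Let Q be an extraspecial 2-subgroup of the finite group G (special with centre of order 2) and t an involution of G normalizing Q such that the centralizer of t in Q has index at most 2 in Q. Then t lies in the product of Q with the centralizer of Q. -/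
theorem result {G : Type*} [Group G] [Finite G] (Q : Subgroup G)
    (hQ : Cfsg.IsExtraspecial 2 ↥Q) (t : G) (ht : orderOf t = 2) (htN : t ∈ Subgroup.normalizer (Q : Set G))
    (hi : (Subgroup.centralizer ({t} : Set G) ⊓ Q).relIndex Q ≤ 2) :
    t ∈ Q ⊔ Subgroup.centralizer (Q : Set G) := by
  obtain ⟨⟨-, -, hs⟩, hc⟩ := hQ
  rw [Subgroup.mem_normalizer_iff] at htN
  have htt : t * t = 1 := by rw [← pow_two, ← ht, pow_orderOf_eq_one]
  let τ : ↥Q ≃* ↥Q :=
    { toFun := fun x => ⟨t * x * t⁻¹, (htN x).mp x.2⟩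
      invFun := fun x => ⟨t⁻¹ * x * t, by
        have := (htN (t⁻¹ * x * t)).mpr (by simpa [mul_assoc] using x.2)
        exact this⟩
      left_inv := fun x => by ext; simp [mul_assoc]
      right_inv := fun x => by ext; simp [mul_assoc]
      map_mul' := fun a b => by ext; simp [mul_assoc] }
  have hτ : ∀ x, τ (τ x) = x := fun x => by
    ext
    show t * (t * x * t⁻¹) * t⁻¹ = x
    calc t * (t * ↑x * t⁻¹) * t⁻¹ = (t * t) * ↑x * (t * t)⁻¹ := by group
      _ = ↑x := by rw [htt]; simp
  let C : Subgroup ↥Q := (Subgroup.centralizer ({t} : Set G) ⊓ Q).subgroupOf Q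
  have hCmem : ∀ x, x ∈ C ↔ τ x = x := fun x => by
    simp only [C, Subgroup.mem_subgroupOf, Subgroup.mem_inf, Subgroup.mem_centralizer_singleton_iff,
      x.2, and_true, Subtype.ext_iff]
    show _ ↔ t * x * t⁻¹ = x
    rw [mul_inv_eq_iff_eq_mul]
    exact eq_comm
  obtain ⟨p, hp⟩ := involutory_aut_inner hc hs τ hτ C hCmem hi
  have hpt : (p : G)⁻¹ * t ∈ Subgroup.centralizer (Q : Set G) := by
    rw [Subgroup.mem_centralizer_iff]
    intro x hx
    have h : t * x * t⁻¹ = p * x * (p : G)⁻¹ := congrArg Subtype.val (hp ⟨x, hx⟩)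
    calc x * ((p : G)⁻¹ * t) = (p : G)⁻¹ * (p * x * (p : G)⁻¹) * t := by group
      _ = (p : G)⁻¹ * (t * x * t⁻¹) * t := by rw [h]
      _ = (p : G)⁻¹ * t * x := by group
  have : t = p * ((p : G)⁻¹ * t) := by group
  rw [this]
  exact Subgroup.mul_mem_sup p.2 hpt

end Cfsg.Agent.S1756
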