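import Cfsg.Statements.S1757
-- import your own Cfsg.Agent.* helpers here

set_option autoImplicit false
open Cfsg

namespace Cfsg.Agent.S1757
open scoped Pointwise

/-- Let p be a prime and A, B p-subgroups of the finite group G, each of which meets every conjugate of itself other than itself trivially. Suppose the order of A is at most that of B, A and B intersect trivially, and B normalizes A. Then A and B commute elementwise. -/
theorem result {G : Type*} [Group G] [Finite G] (p : ℕ) [Fact p.Prime] (A B : Subgroup G)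
    (hA : IsPGroup p ↥A) (hB : IsPGroup p ↥B)
    (hAti : ∀ g : G, A.map (MulAut.conj g).toMonoidHom = A ∨ A.map (MulAut.conj g).toMonoidHom ⊓ A = ⊥)
    (hBti : ∀ g : G, B.map (MulAut.conj g).toMonoidHom = B ∨ B.map (MulAut.conj g).toMonoidHom ⊓ B = ⊥)
    (hle : Nat.card ↥A ≤ Nat.card ↥B) (hAB : A ⊓ B = ⊥) (hN : B ≤ Subgroup.normalizer (A : Set G)) : ⁅A, B⁆ = ⊥ := by
  classical
  by_contra hne
  let D : Subgroup G := A ⊓ Subgroup.centralizer (B : Set G)
  have hDA : ¬ A ≤ D := by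
    intro h
    apply hne
    rw [Subgroup.commutator_eq_bot_iff_le_centralizer]
    exact h.trans inf_le_right
  have hlt : D < A := lt_of_le_of_ne inf_le_left (fun h => hDA h.ge)
  let P : Subgroup G := A ⊔ B
  have hP : IsPGroup p ↥P := IsPGroup.to_sup_of_normal_left' hA hB hN
  let M : Subgroup G := D ⊔ B
  have hMP : M ≤ P := sup_le_sup_right inf_le_left _
  have hDB : D ≤ Subgroup.centralizer (B : Set G) := inf_le_right
  have hDN : D ≤ Subgroup.normalizer (B : Set G) := hDB.trans (Subgroup.centralizer_le_normalizer _)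
  have hMne : M ≠ P := by
    intro h
    apply hDA
    intro a ha
    refine ⟨ha, Subgroup.mem_centralizer_iff.mpr fun b hb => ?_⟩
    have haM : a ∈ M := h.symm ▸ (Subgroup.mem_sup_left ha : a ∈ P)
    have hMN : M ≤ Subgroup.normalizer (B : Set G) := sup_le hDN Subgroup.le_normalizer
    have h1 : a * b * a⁻¹ ∈ B := (Subgroup.mem_normalizer_iff.mp (hMN haM) b).mp hb
    have h2 : a * b * a⁻¹ * b⁻¹ ∈ B := B.mul_mem h1 (B.inv_mem hb)
    have h3 : b * a⁻¹ * b⁻¹ ∈ A :=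
      (Subgroup.mem_normalizer_iff.mp (hN hb) a⁻¹).mp (A.inv_mem ha)
    have h4 : a * b * a⁻¹ * b⁻¹ ∈ A := by
      simpa [mul_assoc] using A.mul_mem ha h3
    have h5 : a * b * a⁻¹ * b⁻¹ = 1 := Subgroup.mem_bot.mp (hAB ▸ ⟨h4, h2⟩)
    rw [mul_inv_eq_one, mul_inv_eq_iff_eq_mul] at h5
    exact h5.symm
  haveI : Group.IsNilpotent ↥P := hP.isNilpotent
  have hMlt : M.subgroupOf P < ⊤ := by
    rw [lt_top_iff_ne_top, Ne, Subgroup.subgroupOf_eq_top]
    exact fun h => hMne (le_antisymm hMP h)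
  have hgrow := Group.normalizerCondition_of_isNilpotent (M.subgroupOf P) hMlt
  obtain ⟨⟨g, hgP⟩, hgN, hgM⟩ := SetLike.exists_of_lt hgrow
  rw [Subgroup.mem_subgroupOf] at hgM
  rw [Subgroup.mem_normalizer_iff] at hgN
  have hgconj : ∀ x ∈ M, g * x * g⁻¹ ∈ M := fun x hx => by
    have := (hgN ⟨x, hMP hx⟩).mp (by simpa [Subgroup.mem_subgroupOf] using hx)
    simpa [Subgroup.mem_subgroupOf] using this
  have hgA : ∃ a ∈ A, ∃ b ∈ B, g = a * b := by
    have : (↑(A ⊔ B) : Set G) = (A : Set G) * (B : Set G) :=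
      Subgroup.coe_mul_of_right_le_normalizer_left A B hN
    have hg' : g ∈ (A : Set G) * (B : Set G) := this ▸ hgP
    obtain ⟨a, ha, b, hb, rfl⟩ := Set.mem_mul.mp hg'
    exact ⟨a, ha, b, hb, rfl⟩
  obtain ⟨a, ha, b, hb, rfl⟩ := hgA
  have hbM : b ∈ M := Subgroup.mem_sup_right hb
  have haM : a ∉ M := fun h => hgM (M.mul_mem h hbM)
  have haconj : ∀ x ∈ B, a * x * a⁻¹ ∈ M := fun x hx => by
    have := hgconj (b⁻¹ * x * b) (Subgroup.mem_sup_right (B.mul_mem (B.mul_mem (B.inv_mem hb) hx) hb))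
    simpa [mul_assoc] using this
  have hMprod : ∀ x ∈ M, ∃ d ∈ D, ∃ y ∈ B, x = d * y := by
    intro x hx
    have : (↑(D ⊔ B) : Set G) = (D : Set G) * (B : Set G) :=
      Subgroup.coe_mul_of_left_le_normalizer_right D B hDN
    have hx' : x ∈ (D : Set G) * (B : Set G) := this ▸ hx
    obtain ⟨d, hd, y, hy, rfl⟩ := Set.mem_mul.mp hx'
    exact ⟨d, hd, y, hy, rfl⟩
  rcases hBti a with hfix | hdis
  · refine haM (Subgroup.mem_sup_left ⟨ha, Subgroup.mem_centralizer_iff.mpr fun y hy => ?_⟩)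
    have h1 : a * y * a⁻¹ ∈ B := hfix.le (Subgroup.mem_map.mpr ⟨y, hy, rfl⟩)
    have h3 : y * a⁻¹ * y⁻¹ ∈ A :=
      (Subgroup.mem_normalizer_iff.mp (hN hy) a⁻¹).mp (A.inv_mem ha)
    have h4 : a * y * a⁻¹ * y⁻¹ ∈ A := by
      simpa [mul_assoc] using A.mul_mem ha h3
    have h5 : a * y * a⁻¹ * y⁻¹ = 1 :=
      Subgroup.mem_bot.mp (hAB ▸ ⟨h4, B.mul_mem h1 (B.inv_mem hy)⟩)
    rw [mul_inv_eq_one, mul_inv_eq_iff_eq_mul] at h5
    exact h5.symm
  · choose d hd y hy he using fun x : ↥B => hMprod _ (haconj x x.2)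
    have hinj : Function.Injective (fun x : ↥B => (⟨d x, hd x⟩ : ↥D)) := by
      intro u v huv
      have hduv : d u = d v := congrArg Subtype.val huv
      have h1 : (a * ↑u * a⁻¹)⁻¹ * (a * ↑v * a⁻¹) = (y u)⁻¹ * y v := by
        rw [he u, he v, hduv]; group
      have h2 : (a * ↑u * a⁻¹)⁻¹ * (a * ↑v * a⁻¹) ∈ B.map (MulAut.conj a).toMonoidHom :=
        Subgroup.mem_map.mpr ⟨(u : G)⁻¹ * v, B.mul_mem (B.inv_mem u.2) v.2, by
          simp [MulAut.conj_apply, mul_assoc]⟩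
      have h3 : (a * ↑u * a⁻¹)⁻¹ * (a * ↑v * a⁻¹) = 1 :=
        Subgroup.mem_bot.mp (hdis ▸ ⟨h2, h1 ▸ B.mul_mem (B.inv_mem (hy u)) (hy v)⟩)
      rw [inv_mul_eq_one, mul_left_inj, mul_right_inj] at h3
      exact Subtype.ext h3
    have h6 : Nat.card ↥B ≤ Nat.card ↥D := Nat.card_le_card_of_injective _ hinj
    have h7 : Nat.card ↥D < Nat.card ↥A :=
      lt_of_le_of_ne (Subgroup.card_le_of_le inf_le_left) (fun h =>
        hlt.ne (Subgroup.eq_of_le_of_card_ge inf_le_left h.ge))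
    omega

end Cfsg.Agent.S1757
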