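import Mathlib
import Cfsg.Statements.S1775
import Cfsg.Agent.Lib.ComponentsPMap
import Cfsg.Agent.Lib.ComponentsFitting
import Cfsg.Agent.Lib.CoprimeAction

set_option autoImplicit false
set_option linter.style.haveILetI false
open Cfsg Subgroup
open scoped commutatorElement
open Cfsg.Agent.ComponentsBasic Cfsg.Agent.ComponentsCores Cfsg.Agent.ComponentsP
open Cfsg.Agent.ComponentsPMap Cfsg.Agent.ComponentsFitting

namespace Cfsg.Agent.S1775

/-- A component of even order centralizes every subgroup of odd order that it normalizes. -/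
theorem commute_odd {W : Type*} [Group W] [Finite W] {L : Subgroup W} (hL : IsComponent L)
    (heven : 2 ∣ Nat.card L) {E : Subgroup W} (hodd : Odd (Nat.card E))
    (hLE : L ≤ normalizer (E : Set W)) : ⁅L, E⁆ = ⊥ := by
  have hperf := IsComponent.perfect hL
  set M := ⁅L, E⁆
  have hME : M ≤ E := le_normalizer_iff_commutator_le_right.mp hLE
  have hMlay : M ≤ layer W :=
    (commutator_mono (component_le_layer hL) le_top).trans (commutator_le_left (layer W) ⊤)
  have hMN : M ≤ normalizer (L : Set W) := hMlay.trans (layer_le_normalizer_component hL)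
  set Z := L ⊓ E
  have hLM : ⁅L, M⁆ ≤ Z :=
    le_inf (le_normalizer_iff_commutator_le_left.mp hMN)
      ((commutator_mono le_rfl hME).trans hME)
  have hZn : (Z.subgroupOf L).Normal :=
    normal_subgroupOf_of_le_normalizer ((le_inf le_normalizer hLE).trans
      (fun g hg => by
        rw [mem_normalizer_iff]
        intro h
        exact and_congr (mem_normalizer_iff.mp hg.1 h) (mem_normalizer_iff.mp hg.2 h)))
  have hZC : Z ≤ centralizer (L : Set W) := by
    rcases normal_le_center_or_eq_top hL.2 (Z.subgroupOf L) with h | h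
    · have h2 := map_mono (f := L.subtype) h
      rw [map_subgroupOf_eq_of_le inf_le_left, map_center_subtype] at h2
      exact h2.trans inf_le_right
    · exfalso
      have h2 : Nat.card L ∣ Nat.card E :=
        card_dvd_of_le ((subgroupOf_eq_top.mp h).trans inf_le_right)
      exact hodd.not_two_dvd_nat (heven.trans h2)
  have h1 : ⁅⁅M, L⁆, L⁆ = ⊥ := by
    rw [commutator_comm M L, commutator_eq_bot_iff_le_centralizer]
    exact hLM.trans hZC
  have h2 : ⁅L, M⁆ = ⊥ := commutator_eq_bot_of_perfect hperf h1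
  refine commutator_eq_bot_of_perfect hperf ?_
  rw [commutator_comm E L, commutator_comm]
  exact h2

theorem result {G : Type*} [Group G] [Finite G]
    (hF : IsSimpleGroup ↥(Cfsg.generalizedFittingSubgroup G)) (hF' : ¬ IsMulCommutative ↥(Cfsg.generalizedFittingSubgroup G))
    (hsec : ∀ (H : Subgroup G) (N : Subgroup ↥H) [N.Normal], (H ≠ ⊤ ∨ N ≠ ⊥) → Cfsg.HasBProperty (↥H ⧸ N))
    (x y : G) (hx : orderOf x = 2) (hy : orderOf y = 2) (hxy : x * y = y * x)
    (J : Subgroup ↥((Cfsg.pLayer 2 ↥(Subgroup.centralizer ({x} : Set G))).map (Subgroup.centralizer ({x} : Set G)).subtype ⊓ Subgroup.centralizer ({y} : Set G)))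
    (hJ : Cfsg.IsPComponent 2 J) :
    Cfsg.IsComponent
        ((((J.map (Subgroup.subtype _)).subgroupOf (Subgroup.centralizer ({y} : Set G))).map (QuotientGroup.mk' (Cfsg.oddCore ↥(Subgroup.centralizer ({y} : Set G))))).subgroupOf
          (Subgroup.centralizer ({(QuotientGroup.mk' (Cfsg.oddCore ↥(Subgroup.centralizer ({y} : Set G))) ⟨x, Subgroup.mem_centralizer_singleton_iff.mpr hxy⟩ : ↥(Subgroup.centralizer ({y} : Set G)) ⧸ Cfsg.oddCore ↥(Subgroup.centralizer ({y} : Set G)))} : Set _))) ∧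
      ∀ E : Subgroup G, E ≤ Subgroup.centralizer ({x} : Set G) ⊓ Subgroup.centralizer ({y} : Set G) → Odd (Nat.card ↥E) →
        (∀ j ∈ J.map (Subgroup.subtype _), ∀ e ∈ E, j * e * j⁻¹ ∈ E) →
          ⁅J.map (Subgroup.subtype _), E⁆ ≤ (Cfsg.oddCore ↥(Subgroup.centralizer ({y} : Set G))).map (Subgroup.centralizer ({y} : Set G)).subtype := by
  revert hJ J
  set Cx := centralizer ({x} : Set G)
  set Cy := centralizer ({y} : Set G)
  set L := (pLayer 2 ↥Cx).map Cx.subtype
  set D := L ⊓ Cy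
  intro J hJ
  -- `C(y)` is proper
  have hCy : Cy ≠ ⊤ := by
    intro h
    set F := generalizedFittingSubgroup G
    have hyC : y ∈ centralizer (F : Set G) := by
      rw [mem_centralizer_iff]
      intro f _
      exact mem_centralizer_singleton_iff.mp (h ▸ mem_top f : f ∈ Cy)
    have hyF : y ∈ F := centralizer_gen_le hyC
    haveI := hF
    have hyZ : (⟨y, hyF⟩ : F) ∈ center F :=
      mem_center_iff.mpr fun g => Subtype.ext (mem_centralizer_iff.mp hyC g g.2)
    rcases IsSimpleGroup.eq_bot_or_eq_top_of_normal (center F) inferInstance with h1 | h1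
    · rw [h1, mem_bot] at hyZ
      have : y = 1 := congrArg Subtype.val hyZ
      rw [this, orderOf_one] at hy
      omega
    · exact hF' ⟨⟨fun a b => mem_center_iff.mp (h1 ▸ mem_top b) a⟩⟩
  set O := oddCore ↥Cy
  set q := QuotientGroup.mk' O
  set x' : Cy := ⟨x, mem_centralizer_singleton_iff.mpr hxy⟩
  set H := centralizer ({x'} : Set Cy)
  set C := centralizer ({q x'} : Set (Cy ⧸ O))
  have hHmem : ∀ h : Cy, h ∈ H ↔ (h : G) ∈ Cx := fun h => by
    rw [mem_centralizer_singleton_iff, mem_centralizer_singleton_iff, Subtype.ext_iff]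
    rfl
  -- the map of centralizers
  let ρ : H →* C := MonoidHom.codRestrict (q.comp H.subtype) C (fun h => by
    rw [mem_centralizer_singleton_iff]
    show q h * q x' = q x' * q h
    rw [← map_mul, ← map_mul, mem_centralizer_singleton_iff.mp h.2])
  have hρ : Function.Surjective ρ := by
    intro c
    obtain ⟨g, hg⟩ := QuotientGroup.mk'_surjective O (c : Cy ⧸ O)
    have hxo : orderOf x' = 2 := by rw [orderOf_mk]; exact hx
    obtain ⟨w, hw, hgw⟩ := CoprimeAction.exists_fixed_mem_coset_zpowers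
      (a := x') (D := O) (by rw [normalizer_eq_top_iff.2 inferInstance]; exact mem_top _)
      (by rw [hxo]; exact (pPrimeCore_coprime 2).symm) g (by
        rw [← QuotientGroup.eq_one_iff]
        have h1 : q g * q x' = q x' * q g := by
          rw [show q g = (c : Cy ⧸ O) from hg]
          exact mem_centralizer_singleton_iff.mp c.2
        show q (g⁻¹ * x' * g * x'⁻¹) = 1
        calc q (g⁻¹ * x' * g * x'⁻¹) = (q g)⁻¹ * (q x' * q g) * (q x')⁻¹ := by simp [mul_assoc]
          _ = 1 := by rw [← h1]; group)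
    refine ⟨⟨w, mem_centralizer_singleton_iff.mpr hw.symm⟩, Subtype.ext ?_⟩
    exact (QuotientGroup.eq.mpr hgw).symm.trans hg
  have hρk : (Nat.card ρ.ker).Coprime 2 := by
    refine (pPrimeCore_coprime (G := Cy) 2).coprime_dvd_left ?_
    rw [Nat.card_congr (ρ.ker.equivMapOfInjective _ H.subtype_injective).toEquiv]
    refine card_dvd_of_le ?_
    rintro _ ⟨h, hh, rfl⟩
    exact (QuotientGroup.eq_one_iff _).mp (congrArg Subtype.val hh)
  -- `D` sits normally in `H`
  have hDx : D ≤ Cx := inf_le_left.trans (map_subtype_le _)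
  let ι : D →* H :=
    { toFun := fun d => ⟨⟨d, d.2.2⟩, (hHmem _).mpr (hDx d.2)⟩
      map_one' := rfl
      map_mul' := fun a b => rfl }
  have hιinj : Function.Injective ι := fun a b h =>
    Subtype.ext (congrArg (fun z : H => ((z : Cy) : G)) h)
  have hιmem : ∀ h : H, h ∈ ι.range ↔ ((h : Cy) : G) ∈ L := fun h =>
    ⟨fun ⟨d, hd⟩ => hd ▸ d.2.1, fun hL => ⟨⟨_, hL, (h : Cy).2⟩, rfl⟩⟩
  haveI hrn : ι.range.Normal := by
    refine ⟨fun h hh g => ?_⟩
    rw [hιmem] at hh ⊢
    obtain ⟨l, hl, hle⟩ := hh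
    have hg : ((g : Cy) : G) ∈ Cx := (hHmem _).mp g.2
    refine ⟨⟨((g : Cy) : G), hg⟩ * l * ⟨((g : Cy) : G), hg⟩⁻¹,
      (pLayer_normal_inst (p := 2) (G := Cx)).conj_mem l hl _, ?_⟩
    rw [map_mul, map_mul, map_inv, hle]
    rfl
  set K₀ := J.map ι
  have hK₀ : IsPComponent 2 K₀ := by
    have h := isPComponent_map_subtype (Normal.isSubnormal hrn)
      (isPComponent_map_mulEquiv (MonoidHom.ofInjective hιinj) hJ)
    rwa [map_map] at h
  set K₁ := K₀.map ρ
  have hK₁ : IsPComponent 2 K₁ := isPComponent_map hρ hρk hK₀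
  -- quasisimplicity from the B-property of `C(y) / O(C(y))`
  have hQ : oddCore (Cy ⧸ O) = ⊥ := HallCore.pPrimeCore_quotient_self 2 Cy
  have hqx : orderOf (q x') = 2 := by
    refine orderOf_eq_prime ?_ ?_
    · rw [← map_pow, show x' ^ 2 = 1 from Subtype.ext (hx ▸ pow_orderOf_eq_one x), map_one]
    · intro h
      have h1 : orderOf x' ∣ Nat.card O :=
        orderOf_mk x' ((QuotientGroup.eq_one_iff _).mp h) ▸ orderOf_dvd_natCard _
      rw [orderOf_mk, hx] at h1
      exact absurd (Nat.dvd_gcd h1 dvd_rfl) (by rw [(pPrimeCore_coprime 2)]; omega)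
  have hcomp : IsComponent K₁ := by
    refine ⟨hK₁.1, (isQuasisimple_pComponent_iff_core hK₁).mpr ?_⟩
    have hB := hsec Cy O (Or.inl hCy) (q x') hqx
    rw [hQ, le_bot_iff, Subgroup.map_eq_bot_iff, ker_subtype, le_bot_iff] at hB
    rw [← le_bot_iff, ← hB]
    exact commutator_mono (pComponent_le_pLayer hK₁) le_rfl
  have heq : (((J.map D.subtype).subgroupOf Cy).map q).subgroupOf C = K₁ := by
    ext c
    constructor
    · intro hc
      obtain ⟨w, hw, hwc⟩ := mem_subgroupOf.mp hc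
      obtain ⟨d, hd, hdw⟩ := mem_subgroupOf.mp hw
      refine ⟨ι d, mem_map_of_mem ι hd, Subtype.ext ?_⟩
      rw [← hwc]
      exact congrArg q (Subtype.ext hdw)
    · rintro ⟨_, ⟨d, hd, rfl⟩, rfl⟩
      exact mem_subgroupOf.mpr ⟨⟨d, d.2.2⟩, mem_subgroupOf.mpr ⟨d, hd, rfl⟩, rfl⟩
  refine ⟨heq ▸ hcomp, fun E hE hodd hinv => ?_⟩
  set E₁ := ((E.subgroupOf Cy).map q).subgroupOf C
  have hEC : ∀ e : Cy, (e : G) ∈ E → q e ∈ C := fun e he =>
    (ρ ⟨e, (hHmem e).mpr (hE he).1⟩).2
  have hE₁ : Odd (Nat.card E₁) := by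
    refine hodd.of_dvd_nat ?_
    rw [← Nat.card_congr (subgroupOfEquivOfLe (hE.trans inf_le_right : E ≤ Cy)).toEquiv]
    refine (card_comap_dvd_of_injective _ C.subtype C.subtype_injective).trans ?_
    exact card_map_dvd _ q
  have hJN : K₁ ≤ normalizer (E₁ : Set C) := by
    refine CoprimeAction.le_normalizer_of_conj_mem ?_
    rintro _ ⟨_, ⟨d, hd, rfl⟩, rfl⟩ e he
    obtain ⟨e', he', hee⟩ := mem_subgroupOf.mp he
    refine mem_subgroupOf.mpr ⟨⟨d, d.2.2⟩ * e' * ⟨d, d.2.2⟩⁻¹, ?_, ?_⟩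
    · exact hinv _ ⟨d, hd, rfl⟩ _ he'
    · rw [map_mul, map_mul, map_inv, hee]
      rfl
  have hcm := commute_odd hcomp (isPComponent_dvd_card hK₁) hE₁ hJN
  rw [commutator_le]
  rintro _ ⟨d, hd, rfl⟩ e he
  refine ⟨⁅(⟨d, d.2.2⟩ : Cy), ⟨e, (hE he).2⟩⁆, ?_, rfl⟩
  rw [SetLike.mem_coe, ← QuotientGroup.eq_one_iff, ← QuotientGroup.mk'_apply, map_commutatorElement]
  have h := commutator_mem_commutator (mem_map_of_mem ρ (mem_map_of_mem ι hd) : ρ (ι d) ∈ K₁)
    (mem_subgroupOf.mpr ⟨⟨e, (hE he).2⟩, mem_subgroupOf.mpr he, rfl⟩ :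
      (⟨q ⟨e, (hE he).2⟩, hEC _ he⟩ : C) ∈ E₁)
  rw [hcm, mem_bot] at h
  exact congrArg Subtype.val h

end Cfsg.Agent.S1775
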