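import Cfsg.Statements.S1780
-- import your own Cfsg.Agent.* helpers here

set_option autoImplicit false
open Cfsg

namespace Cfsg.Agent.S1780

/-- Let A be a finite abelian 2-group and t an automorphism of A whose order is a power of 2. If every element of A fixed by t² is fixed by t, then t fixes every element of A. -/
theorem result {A : Type*} [CommGroup A] [Finite A]
    (hA : IsPGroup 2 A) (t : MulAut A) (ht : ∃ k : ℕ, orderOf t = 2 ^ k) (hC : ∀ a : A, t (t a) = a → t a = a) :
    ∀ a : A, t a = a := by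
  classical
  intro a
  by_contra hne
  let f : A →* A := MonoidHom.mk' (fun a => t a * a⁻¹) (fun a b => by
    simp only [map_mul, mul_inv_rev]; ac_rfl)
  have hfd : ∀ a, f a = t a * a⁻¹ := fun _ => rfl
  let B : Subgroup A := f.range ⊓ (powMonoidHom 2 : A →* A).ker
  have hB : ∀ b ∈ B, t b ∈ B := by
    rintro b ⟨⟨x, rfl⟩, hx⟩
    refine ⟨⟨t x, ?_⟩, ?_⟩
    · simp [hfd, map_mul, map_inv]
    · have h1 : (f x) ^ 2 = 1 := by simpa [MonoidHom.mem_ker] using hx
      simp [MonoidHom.mem_ker, ← map_pow, h1]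
  -- `B` is nontrivial
  have hBne : B ≠ ⊥ := by
    intro hbot
    have key : ∀ m : ℕ, ∀ y ∈ f.range, y ^ 2 ^ m = 1 → y = 1 := by
      intro m
      induction m with
      | zero => intro y _ hm; simpa using hm
      | succ m ih =>
        intro y hy hm
        have h2 : y ^ 2 = 1 :=
          ih (y ^ 2) (f.range.pow_mem hy 2) (by rw [← pow_mul, ← pow_succ']; exact hm)
        have h3 : y ∈ B := ⟨hy, by simpa [MonoidHom.mem_ker] using h2⟩
        rw [hbot] at h3
        exact h3
    obtain ⟨m, hm⟩ := hA (f a)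
    have hfa := key m (f a) ⟨a, rfl⟩ hm
    rw [hfd, mul_inv_eq_one] at hfa
    exact hne hfa
  -- the fixed points of `⟨t⟩` on `B`
  obtain ⟨k, hk⟩ := ht
  have hpow : ∀ n : ℕ, ∀ b ∈ B, (t ^ n) b ∈ B := by
    intro n
    induction n with
    | zero => intro b hb; simpa using hb
    | succ n ih =>
      intro b hb
      rw [pow_succ', MulAut.mul_apply]
      exact hB _ (ih b hb)
  have hB' : ∀ g ∈ Subgroup.zpowers t, ∀ b ∈ B, g b ∈ B := by
    intro g hg b hb
    obtain ⟨n, hn⟩ := (mem_powers_iff_mem_zpowers).mpr hg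
    rw [← hn]
    exact hpow n b hb
  letI : MulAction (Subgroup.zpowers t) B :=
    { smul := fun g b => ⟨(g : MulAut A) b, hB' g g.2 b b.2⟩
      one_smul := fun b => Subtype.ext rfl
      mul_smul := fun g h b => Subtype.ext rfl }
  have hP : IsPGroup 2 (Subgroup.zpowers t) :=
    IsPGroup.of_card (n := k) (by rw [Nat.card_zpowers, hk])
  have hB2 : IsPGroup 2 B := hA.to_subgroup B
  obtain ⟨n, hn⟩ := IsPGroup.iff_card.mp hB2
  have hn0 : n ≠ 0 := by
    rintro rfl
    exact hBne (Subgroup.card_eq_one.mp (by simpa using hn))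
  have hdvd : 2 ∣ Nat.card B := by rw [hn]; exact dvd_pow_self 2 hn0
  have h1 : (1 : B) ∈ MulAction.fixedPoints (Subgroup.zpowers t) B := fun g =>
    Subtype.ext (map_one (g : MulAut A))
  obtain ⟨b, hb, hb1⟩ := hP.exists_fixed_point_of_prime_dvd_card_of_fixed_point B hdvd h1
  have htb : t (b : A) = b := congrArg Subtype.val (hb ⟨t, Subgroup.mem_zpowers t⟩)
  obtain ⟨x, hx⟩ := b.2.1
  have hb2 : (b : A) ^ 2 = 1 := by simpa [MonoidHom.mem_ker] using b.2.2
  have hx' : t x = b * x := by rw [← hx, hfd]; simp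
  have htt : t (t x) = x := by
    rw [hx', map_mul, htb, hx', ← mul_assoc, ← pow_two, hb2, one_mul]
  have h3 := hC x htt
  rw [hx'] at h3
  exact hb1 (Subtype.ext (by simpa using h3)).symm

end Cfsg.Agent.S1780
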