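import Cfsg.Statements.S1781
import Cfsg.Agent.S1780
-- import your own Cfsg.Agent.* helpers here

set_option autoImplicit false
open Cfsg

namespace Cfsg.Agent.S1781

theorem mem_normalizer_of_commute {G : Type*} [Group G] (A : Subgroup G)
    (hti : ∀ h : G, A.map (MulAut.conj h).toMonoidHom = A ∨ A.map (MulAut.conj h).toMonoidHom ⊓ A = ⊥)
    {u x : G} (hu : u ∈ A) (hu1 : u ≠ 1) (hx : x * u = u * x) :
    x ∈ Subgroup.normalizer (A : Set G) := by
  rcases hti x with h | h
  · rw [Subgroup.mem_normalizer_iff]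
    intro a
    constructor
    · intro ha
      rw [← h]
      exact ⟨a, ha, rfl⟩
    · intro ha
      rw [← h] at ha
      obtain ⟨b, hb, hb'⟩ := ha
      have : b = a := (MulAut.conj x).injective hb'
      exact this ▸ hb
  · exfalso
    apply hu1
    have : u ∈ (⊥ : Subgroup G) := by
      rw [← h]
      exact ⟨⟨u, hu, by simp [hx]⟩, hu⟩
    simpa using this

/-- If an element of order at least `4` of the TI subgroup `A` normalizes `B`, then `B` normalizes `A`. -/
theorem le_normalizer {G : Type*} [Group G] [Finite G] (A B : Subgroup G)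
    (hA2 : IsPGroup 2 ↥A) (hB2 : IsPGroup 2 ↥B) (hBa : IsMulCommutative ↥B) (hAB : A ⊓ B = ⊥)
    (hti : ∀ h : G, A.map (MulAut.conj h).toMonoidHom = A ∨ A.map (MulAut.conj h).toMonoidHom ⊓ A = ⊥)
    {u : G} (hu : u ∈ A) (hu2 : u ^ 2 ≠ 1) (huN : u ∈ Subgroup.normalizer (B : Set G)) :
    B ≤ Subgroup.normalizer (A : Set G) := by
  letI : CommGroup ↥B := { (inferInstance : Group ↥B) with mul_comm := hBa.is_comm.comm }
  let t : MulAut ↥B := B.normalizerMonoidHom ⟨u, huN⟩
  have ht_apply : ∀ b : B, ((t b : B) : G) = u * b * u⁻¹ := fun b => rfl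
  have hu1 : u ≠ 1 := fun h => hu2 (by simp [h])
  have ht : ∃ k : ℕ, orderOf t = 2 ^ k := by
    obtain ⟨m, hm⟩ := hA2 ⟨u, hu⟩
    have hum : u ^ 2 ^ m = 1 := congrArg Subtype.val hm
    have : orderOf t ∣ 2 ^ m := by
      apply orderOf_dvd_of_pow_eq_one
      rw [← map_pow]
      have : (⟨u, huN⟩ : Subgroup.normalizer (B : Set G)) ^ 2 ^ m = 1 := Subtype.ext (by simpa using hum)
      rw [this, map_one]
    obtain ⟨k, -, hk⟩ := (Nat.dvd_prime_pow Nat.prime_two).mp this
    exact ⟨k, hk⟩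
  have hfix : ∀ b : B, t (t b) = b → t b = b := by
    intro b hb
    have h2 : u * (u * b * u⁻¹) * u⁻¹ = b := by
      rw [← ht_apply, ← ht_apply, hb]
    have hc : (b : G) * u ^ 2 = u ^ 2 * b := by
      conv_lhs => rw [← h2]
      simp [pow_two, mul_assoc]
    have hN : (b : G) ∈ Subgroup.normalizer (A : Set G) :=
      mem_normalizer_of_commute A hti (A.pow_mem hu 2) hu2 hc
    have h3 : u * b * u⁻¹ * (b : G)⁻¹ ∈ A ⊓ B := by
      refine ⟨?_, ?_⟩
      · have := (Subgroup.mem_normalizer_iff.mp hN u⁻¹).mp (A.inv_mem hu)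
        have h := A.mul_mem hu this
        simpa [mul_assoc] using h
      · exact B.mul_mem ((Subgroup.mem_normalizer_iff.mp huN b).mp b.2) (B.inv_mem b.2)
    rw [hAB, Subgroup.mem_bot, mul_inv_eq_one] at h3
    exact Subtype.ext (by rw [ht_apply]; exact h3)
  have hall := Cfsg.Agent.S1780.result hB2 t ht hfix
  intro b hb
  have h : u * b * u⁻¹ = b := by
    have := congrArg Subtype.val (hall ⟨b, hb⟩)
    rwa [ht_apply] at this
  exact mem_normalizer_of_commute A hti hu hu1 (mul_inv_eq_iff_eq_mul.mp h).symm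

/-- Let A be an abelian 2-subgroup of the finite group G such that every conjugate of A equals A or meets A trivially, and let g ∈ G with g A g⁻¹ ≠ A. Then either the subgroup of those elements of A that normalize g A g⁻¹ is an elementary abelian 2-group, or A and g A g⁻¹ commute elementwise. -/
theorem result {G : Type*} [Group G] [Finite G] (A : Subgroup G)
    (hA2 : IsPGroup 2 ↥A) (hAa : IsMulCommutative ↥A)
    (hti : ∀ h : G, A.map (MulAut.conj h).toMonoidHom = A ∨ A.map (MulAut.conj h).toMonoidHom ⊓ A = ⊥)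
    (g : G) (hg : A.map (MulAut.conj g).toMonoidHom ≠ A) :
    Cfsg.IsElementaryAbelian 2 (A ⊓ Subgroup.normalizer ((A.map (MulAut.conj g).toMonoidHom : Subgroup G) : Set G)) ∨
      ⁅A, A.map (MulAut.conj g).toMonoidHom⁆ = ⊥ := by
  set c : MulAut G := MulAut.conj g with hc
  set B : Subgroup G := A.map c.toMonoidHom with hB
  rw [or_iff_not_imp_left]
  intro hel
  have hBA : B ⊓ A = ⊥ := (hti g).resolve_left hg
  have hcomm : IsMulCommutative ↥(A ⊓ Subgroup.normalizer (B : Set G) : Subgroup G) :=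
    ⟨⟨fun a b => Subtype.ext (congrArg Subtype.val
      (hAa.is_comm.comm ⟨(a : G), a.2.1⟩ ⟨(b : G), b.2.1⟩) :)⟩⟩
  have hu : ∃ u ∈ A, u ∈ Subgroup.normalizer (B : Set G) ∧ u ^ 2 ≠ 1 := by
    by_contra h
    push Not at h
    exact hel ⟨hcomm, fun a ha => h a ha.1 ha.2⟩
  obtain ⟨u, hu, huN, hu2⟩ := hu
  have hB2 : IsPGroup 2 ↥B := hA2.map c.toMonoidHom
  have hBa : IsMulCommutative ↥B := by
    constructor
    constructor
    rintro ⟨a, x, hx, rfl⟩ ⟨b, y, hy, rfl⟩
    apply Subtype.ext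
    have h : x * y = y * x := congrArg Subtype.val (hAa.is_comm.comm ⟨x, hx⟩ ⟨y, hy⟩)
    simp [← map_mul, h]
  have h1 : B ≤ Subgroup.normalizer (A : Set G) :=
    le_normalizer A B hA2 hB2 hBa (by rwa [inf_comm]) hti hu hu2 huN
  have hcu : c u ∈ B := ⟨u, hu, rfl⟩
  have htiB : ∀ h : G, B.map (MulAut.conj h).toMonoidHom = B ∨ B.map (MulAut.conj h).toMonoidHom ⊓ B = ⊥ := by
    intro h
    have e : B.map (MulAut.conj h).toMonoidHom =
        (A.map (MulAut.conj (g⁻¹ * h * g)).toMonoidHom).map c.toMonoidHom := by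
      rw [hB, Subgroup.map_map, Subgroup.map_map]
      congr 1
      ext x
      simp [hc, mul_assoc]
    rcases hti (g⁻¹ * h * g) with h' | h'
    · exact Or.inl (by rw [e, h'])
    · refine Or.inr ?_
      rw [e, hB, ← Subgroup.map_inf _ _ c.toMonoidHom c.injective, h', Subgroup.map_bot]
  have hcu2 : (c u) ^ 2 ≠ 1 := by
    rw [← map_pow]
    exact fun h => hu2 (c.injective (h.trans (map_one c).symm))
  have h2 : A ≤ Subgroup.normalizer (B : Set G) :=
    le_normalizer B A hB2 hA2 hAa hBA htiB hcu hcu2 (h1 hcu)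
  rw [eq_bot_iff, Subgroup.commutator_le]
  intro a ha b hb
  have h3 : a * b * a⁻¹ * b⁻¹ ∈ B ⊓ A := by
    refine ⟨B.mul_mem ((Subgroup.mem_normalizer_iff.mp (h2 ha) b).mp hb) (B.inv_mem hb), ?_⟩
    have := A.mul_mem ha ((Subgroup.mem_normalizer_iff.mp (h1 hb) a⁻¹).mp (A.inv_mem ha))
    simpa [mul_assoc] using this
  rw [hBA] at h3
  simpa [commutatorElement_def] using h3

end Cfsg.Agent.S1781
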