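import Cfsg.Statements.S1782
-- import your own Cfsg.Agent.* helpers here

set_option autoImplicit false
open Cfsg

namespace Cfsg.Agent.S1782

theorem frattini_eq_bot_of_exp_two {R : Type*} [Group R] [Finite R] (h : ∀ r : R, r ^ 2 = 1) :
    frattini R = ⊥ := by
  have hinv : ∀ a : R, a⁻¹ = a := fun a => inv_eq_of_mul_eq_one_right (by rw [← pow_two]; exact h a)
  have hc : ∀ a b : R, a * b = b * a := fun a b => by
    conv_lhs => rw [← hinv (a * b), mul_inv_rev, hinv a, hinv b]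
  rw [eq_bot_iff]
  intro x hx
  rw [Subgroup.mem_bot]
  by_contra hx1
  obtain ⟨H, -, hH⟩ := Finite.exists_le_maximal (p := fun H : Subgroup R => x ∉ H) (a := ⊥) (by simpa using hx1)
  have hcoatom : IsCoatom H := by
    refine ⟨fun he => hH.1 (he ▸ Subgroup.mem_top x), fun K hK => eq_top_iff.mpr fun y _ => ?_⟩
    have hxK : x ∈ K := by
      by_contra hxK
      exact hK.ne (le_antisymm hK.le (hH.2 hxK hK.le))
    by_cases hy : y ∈ H
    · exact hK.le hy
    let L : Subgroup R :=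
      { carrier := {z | z ∈ H ∨ y * z ∈ H}
        one_mem' := Or.inl H.one_mem
        mul_mem' := by
          rintro a b (ha | ha) (hb | hb)
          · exact Or.inl (H.mul_mem ha hb)
          · refine Or.inr ?_
            rw [← mul_assoc, hc y a, mul_assoc]; exact H.mul_mem ha hb
          · refine Or.inr ?_
            rw [← mul_assoc]; exact H.mul_mem ha hb
          · refine Or.inl ?_
            have := H.mul_mem ha hb
            rwa [mul_assoc, ← mul_assoc a, hc a y, mul_assoc y, ← mul_assoc y y, ← pow_two, h y,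
              one_mul] at this
        inv_mem' := fun {a} ha => by rw [hinv a]; exact ha }
    rcases (show x ∈ L from not_not.mp fun hxL => hy (hH.2 hxL (fun z hz => Or.inl hz)
      (show y ∈ L from Or.inr (by rw [← pow_two, h y]; exact H.one_mem)))) with hx' | hx'
    · exact absurd hx' hH.1
    · have := K.mul_mem (hK.le hx') (K.inv_mem hxK)
      simpa using this
  exact hH.1 (frattini_le_coatom hcoatom hx)

variable {S : Type*} [Group S]

/-- `t` moves `R`, and `R` meets its image trivially and commutes with it elementwise. -/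
def Moves (R T : Subgroup S) : Prop :=
  ∀ t ∈ T, t ∉ Subgroup.normalizer (R : Set S) →
    (∀ r ∈ R, ∀ r' ∈ R, r * (t * r' * t⁻¹) = (t * r' * t⁻¹) * r) ∧
    (∀ x ∈ R, t⁻¹ * x * t ∈ R → x = 1)

theorem central_le_normalizer [Finite S] (hS : IsPGroup 2 S) {R T : Subgroup S}
    (hΦ : frattini ↥R ≠ ⊥) (hR : Moves R T) (hT : Moves T R) {t : S} (ht : t ∈ T)
    (htc : ∀ u ∈ T, u * t = t * u) : t ∈ Subgroup.normalizer (R : Set S) := by
  by_contra htN
  obtain ⟨k, hk⟩ := hS t
  -- replace `t` by a power moving `R` whose square fixes `R`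
  have : ∃ j, t ^ 2 ^ j ∉ Subgroup.normalizer (R : Set S) ∧ t ^ 2 ^ (j + 1) ∈ Subgroup.normalizer (R : Set S) := by
    clear hS
    induction k with
    | zero => rw [pow_zero, pow_one] at hk; exact absurd (hk ▸ Subgroup.one_mem _) htN
    | succ k ih =>
      by_cases h : t ^ 2 ^ k ∈ Subgroup.normalizer (R : Set S)
      · clear ih hk
        induction k with
        | zero => rw [pow_zero, pow_one] at h; exact absurd h htN
        | succ k ih =>
          by_cases h' : t ^ 2 ^ k ∈ Subgroup.normalizer (R : Set S)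
          · exact ih h'
          · exact ⟨k, h', h⟩
      · exact ⟨k, h, hk ▸ Subgroup.one_mem _⟩
  obtain ⟨j, hjN, hj2⟩ := this
  set u := t ^ 2 ^ j with hu
  have huT : u ∈ T := T.pow_mem ht _
  have huc : ∀ v ∈ T, v * u = u * v := fun v hv => (Commute.pow_right (htc v hv) _).eq
  have hu2 : u * u ∈ Subgroup.normalizer (R : Set S) := by
    rwa [hu, ← pow_add, ← two_mul, ← pow_succ']
  apply hΦ
  apply frattini_eq_bot_of_exp_two
  rintro ⟨r, hr⟩
  apply Subtype.ext
  show r ^ 2 = 1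
  have hcomm : u * (r * u⁻¹ * r⁻¹) = (r * u⁻¹ * r⁻¹) * u := by
    by_cases hrN : r ∈ Subgroup.normalizer (T : Set S)
    · exact (huc _ ((Subgroup.mem_normalizer_iff.mp hrN _).mp (T.inv_mem huT))).symm
    · exact (hT r hr hrN).1 u huT _ (T.inv_mem huT)
  set r' := u * r * u⁻¹ with hr'
  set r'' := u * u * r * (u * u)⁻¹ with hr''
  have hr''R : r'' ∈ R := (Subgroup.mem_normalizer_iff.mp hu2 r).mp hr
  have hrr' : r * r' = r' * r := (hR u huT hjN).1 r hr r hr
  have e : r'' = r' * r⁻¹ * r' := by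
    have e1 : u * (r' * r⁻¹) * u⁻¹ = r' * r⁻¹ := by
      have : r' * r⁻¹ = u * (r * u⁻¹ * r⁻¹) := by simp [hr', mul_assoc]
      rw [this]
      conv_lhs => rw [hcomm]
      simp [mul_assoc]
    calc r'' = (u * (r' * r⁻¹) * u⁻¹) * r' := by simp [hr', hr'', mul_assoc]
      _ = r' * r⁻¹ * r' := by rw [e1]
  have e2 : r' ^ 2 = r'' * r := by
    rw [e, pow_two, mul_assoc (r' * r⁻¹), ← hrr']
    simp [mul_assoc]
  have e3 : u⁻¹ * r' ^ 2 * u = r ^ 2 := by simp [hr', pow_two, mul_assoc]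
  have e4 := (hR u huT hjN).2 (r' ^ 2) (e2 ▸ R.mul_mem hr''R hr) (e3 ▸ R.pow_mem hr 2)
  rw [← e3, e4]
  simp

theorem commute_pair [Finite S] (hS : IsPGroup 2 S) {R T : Subgroup S}
    (hRT : R ⊓ T = ⊥) (hcard : Nat.card ↥R = Nat.card ↥T)
    (hΦR : frattini ↥R ≠ ⊥) (hΦT : frattini ↥T ≠ ⊥) (hR : Moves R T) (hT : Moves T R) :
    ⁅R, T⁆ = ⊥ := by
  haveI := Fact.mk Nat.prime_two
  -- one of the two normalizes the other
  have key : T ≤ Subgroup.normalizer (R : Set S) ∨ R ≤ Subgroup.normalizer (T : Set S) := by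
    by_contra h
    rw [not_or, SetLike.not_le_iff_exists, SetLike.not_le_iff_exists] at h
    obtain ⟨⟨t, ht, htN⟩, ⟨r, hr, hrN⟩⟩ := h
    haveI : Nontrivial ↥R := by
      by_contra hn
      rw [not_nontrivial_iff_subsingleton] at hn
      exact hΦR (Subgroup.eq_bot_of_subsingleton _)
    haveI := (hS.to_subgroup R).center_nontrivial
    obtain ⟨⟨⟨z, hzR⟩, hzc⟩, hz1⟩ := exists_ne (1 : Subgroup.center ↥R)
    have hzc' : ∀ v ∈ R, v * z = z * v := fun v hv =>
      congrArg Subtype.val (Subgroup.mem_center_iff.mp hzc ⟨v, hv⟩)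
    have hzN : z ∈ Subgroup.normalizer (T : Set S) := central_le_normalizer hS hΦT hT hR hzR hzc'
    set y := z * t * z⁻¹ * t⁻¹ with hy
    have hyT : y ∈ T := T.mul_mem ((Subgroup.mem_normalizer_iff.mp hzN t).mp ht) (T.inv_mem ht)
    have hry : r * y = y * r := by
      have h1 : r * (t * z⁻¹ * t⁻¹) = (t * z⁻¹ * t⁻¹) * r := (hR t ht htN).1 r hr _ (R.inv_mem hzR)
      have e : y = z * (t * z⁻¹ * t⁻¹) := by simp [hy, mul_assoc]
      rw [e]
      exact (Commute.mul_right (hzc' r hr) h1)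
    have hy1 : y = 1 := (hT r hr hrN).2 y hyT (by rw [mul_assoc, ← hry, inv_mul_cancel_left]; exact hyT)
    have : t⁻¹ * z * t = z := by
      have h2 : z * t = t * z := by
        rw [hy] at hy1
        calc z * t = (z * t * z⁻¹ * t⁻¹) * (t * z) := by simp [mul_assoc]
          _ = t * z := by rw [hy1, one_mul]
      rw [mul_assoc, h2, inv_mul_cancel_left]
    exact hz1 (Subtype.ext (Subtype.ext ((hR t ht htN).2 z hzR (this.symm ▸ hzR))))
  -- and then both do
  have half : ∀ A B : Subgroup S, A ⊓ B = ⊥ → Nat.card ↥A = Nat.card ↥B → frattini ↥B ≠ ⊥ →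
      Moves A B → Moves B A → B ≤ Subgroup.normalizer (A : Set S) →
        A ≤ Subgroup.normalizer (B : Set S) := by
    intro A B hAB hc hΦB hA hB hBN r hr
    by_contra hrN
    have hu : ∀ t ∈ B, ∀ t₁ ∈ B, t₁ * (r * t⁻¹ * r⁻¹) = (r * t⁻¹ * r⁻¹) * t₁ := fun t ht t₁ ht₁ =>
      (hB r hr hrN).1 t₁ ht₁ _ (B.inv_mem ht)
    have hψ : ∀ t ∈ B, t * (r * t⁻¹ * r⁻¹) ∈ A := fun t ht => by
      have := A.mul_mem ((Subgroup.mem_normalizer_iff.mp (hBN ht) r).mp hr) (A.inv_mem hr)
      simpa [mul_assoc] using this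
    have hab : ∀ t ∈ B, ∀ t₁ ∈ B, t₁ * t = t * t₁ := by
      intro t ht t₁ ht₁
      have h1 : t₁ * (t * (r * t⁻¹ * r⁻¹)) * t₁⁻¹ ∈ A :=
        (Subgroup.mem_normalizer_iff.mp (hBN ht₁) _).mp (hψ t ht)
      have e : t₁ * (t * (r * t⁻¹ * r⁻¹)) * t₁⁻¹ = t₁ * t * t₁⁻¹ * (r * t⁻¹ * r⁻¹) := by
        have := hu t ht t₁⁻¹ (B.inv_mem ht₁)
        rw [mul_assoc t₁, mul_assoc t, ← this]
        simp [mul_assoc]
      rw [e] at h1
      have h2 : t₁ * t * t₁⁻¹ * t⁻¹ ∈ A ⊓ B := by
        refine ⟨?_, B.mul_mem (B.mul_mem (B.mul_mem ht₁ ht) (B.inv_mem ht₁)) (B.inv_mem ht)⟩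
        have := A.mul_mem h1 (A.inv_mem (hψ t ht))
        simpa [mul_assoc] using this
      rw [hAB, Subgroup.mem_bot, mul_inv_eq_one, mul_inv_eq_iff_eq_mul] at h2
      exact h2
    let ψ : ↥B →* ↥A := MonoidHom.mk' (fun t => ⟨(t : S) * (r * (t : S)⁻¹ * r⁻¹), hψ t t.2⟩) (by
      rintro ⟨a, ha⟩ ⟨b, hb⟩
      apply Subtype.ext
      show a * b * (r * (a * b)⁻¹ * r⁻¹) = a * (r * a⁻¹ * r⁻¹) * (b * (r * b⁻¹ * r⁻¹))
      have e : r * (a * b)⁻¹ * r⁻¹ = (r * a⁻¹ * r⁻¹) * (r * b⁻¹ * r⁻¹) := by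
        rw [show (a * b)⁻¹ = (b * a)⁻¹ by rw [hab a ha b hb], mul_inv_rev]
        simp [mul_assoc]
      rw [e, ← mul_assoc (a * b), mul_assoc a b, hu a ha b hb]
      simp [mul_assoc])
    have hinj : Function.Injective ψ := by
      rw [injective_iff_map_eq_one]
      rintro ⟨t, ht⟩ h1
      have h2 : t * (r * t⁻¹ * r⁻¹) = 1 := congrArg Subtype.val h1
      apply Subtype.ext
      refine (hB r hr hrN).2 t ht ?_
      have : t * r = r * t := by
        have h3 := eq_inv_of_mul_eq_one_left h2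
        simp [mul_assoc] at h3
        calc t * r = r * (t * r⁻¹) * r := by rw [← h3]
          _ = r * t := by simp [mul_assoc]
      rw [mul_assoc, this, inv_mul_cancel_left]
      exact ht
    have hsurj : Function.Surjective ψ :=
      ((Nat.bijective_iff_injective_and_card ψ).mpr ⟨hinj, hc.symm⟩).2
    apply hrN
    refine central_le_normalizer hS hΦB hB hA hr fun v hv => ?_
    obtain ⟨a, ha⟩ := hsurj ⟨v, hv⟩
    obtain ⟨b, hb⟩ := hsurj ⟨r, hr⟩
    have : (⟨v, hv⟩ : ↥A) * ⟨r, hr⟩ = ⟨r, hr⟩ * ⟨v, hv⟩ := by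
      rw [← ha, ← hb, ← map_mul, ← map_mul, show a * b = b * a from Subtype.ext (hab b b.2 a a.2)]
    exact congrArg Subtype.val this
  have hboth : T ≤ Subgroup.normalizer (R : Set S) ∧ R ≤ Subgroup.normalizer (T : Set S) := by
    rcases key with h | h
    · exact ⟨h, half R T hRT hcard hΦT hR hT h⟩
    · exact ⟨half T R (inf_comm R T ▸ hRT) hcard.symm hΦR hT hR h, h⟩
  rw [eq_bot_iff, Subgroup.commutator_le]
  intro a ha b hb
  rw [← hRT]
  refine ⟨?_, T.mul_mem ((Subgroup.mem_normalizer_iff.mp (hboth.2 ha) b).mp hb) (T.inv_mem hb)⟩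
  have := R.mul_mem ha ((Subgroup.mem_normalizer_iff.mp (hboth.1 hb) a⁻¹).mp (R.inv_mem ha))
  simpa [commutatorElement_def, mul_assoc] using this

/-- Let S be a finite 2-group and Δ a set of subgroups of S closed under conjugation by S, all of the same order, each with nontrivial Frattini subgroup, and such that two distinct members of Δ meet trivially. Then any two distinct members of Δ commute elementwise. -/
theorem result {S : Type*} [Group S] [Finite S] (hS : IsPGroup 2 S)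
    (Δ : Set (Subgroup S)) (hinv : ∀ s : S, ∀ R ∈ Δ, R.map (MulAut.conj s).toMonoidHom ∈ Δ)
    (hΦ : ∀ R ∈ Δ, frattini ↥R ≠ ⊥) (hord : ∀ R ∈ Δ, ∀ T ∈ Δ, Nat.card ↥R = Nat.card ↥T)
    (hti : ∀ R ∈ Δ, ∀ T ∈ Δ, R = T ∨ R ⊓ T = ⊥) :
    ∀ R ∈ Δ, ∀ T ∈ Δ, R ≠ T → ⁅R, T⁆ = ⊥ := by
  haveI := Fact.mk Nat.prime_two
  suffices ∀ n : ℕ, ∀ H : Subgroup S, Nat.card ↥H = n → ∀ R ∈ Δ, ∀ T ∈ Δ, R ≤ H → T ≤ H → R ≠ T →
      ⁅R, T⁆ = ⊥ from fun R hR T hT h => this _ ⊤ rfl R hR T hT le_top le_top h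
  intro n
  induction n using Nat.strong_induction_on with
  | _ n ih =>
    intro H hn R hR T hT hRH hTH hne
    have moves : ∀ A ∈ Δ, ∀ B ∈ Δ, A ≤ H → B ≤ H → A ≠ B → Moves A B := by
      intro A hA B hB hAH hBH hAB t ht htN
      have htH : t ∈ H := hBH ht
      set At := A.map (MulAut.conj t).toMonoidHom with hAt
      have hAtΔ : At ∈ Δ := hinv t A hA
      have hAtne : A ≠ At := by
        intro he
        apply htN
        refine Subgroup.mem_normalizer_fintype fun a ha => ?_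
        show t * a * t⁻¹ ∈ A
        rw [he]
        exact ⟨a, ha, rfl⟩
      have hBne : ¬ B ≤ A := by
        intro hle
        rcases hti B hB A hA with h | h
        · exact hAB h.symm
        · apply hΦ B hB
          rw [inf_of_le_left hle] at h
          subst h
          exact Subgroup.eq_bot_of_subsingleton _
      haveI : Group.IsNilpotent ↥H := (hS.to_subgroup H).isNilpotent
      obtain ⟨M, hM, hAM⟩ := (eq_top_or_exists_le_coatom (A.subgroupOf H)).resolve_left
        (fun h => hBne (hBH.trans (Subgroup.subgroupOf_eq_top.mp h)))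
      haveI : M.Normal := Subgroup.NormalizerCondition.normal_of_coatom M Group.normalizerCondition_of_isNilpotent hM
      have hlt : Nat.card ↥(M.map H.subtype) < n := by
        rw [← hn, Subgroup.card_map_of_injective H.subtype_injective]
        refine lt_of_le_of_ne (Nat.card_le_card_of_injective _ M.subtype_injective) ?_
        exact fun h => hM.1 (Subgroup.eq_top_of_card_eq M h)
      have hAM' : A ≤ M.map H.subtype := fun a ha => ⟨⟨a, hAH ha⟩, hAM ha, rfl⟩
      have hAtM : At ≤ M.map H.subtype := by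
        rintro x ⟨a, ha, rfl⟩
        exact ⟨_, Subgroup.Normal.conj_mem ‹M.Normal› ⟨a, hAH ha⟩ (hAM ha) ⟨t, htH⟩, rfl⟩
      have hcm := ih _ hlt _ rfl A hA At hAtΔ hAM' hAtM hAtne
      rw [eq_bot_iff, Subgroup.commutator_le] at hcm
      refine ⟨fun r hr r' hr' => ?_, fun x hx hx' => ?_⟩
      · exact commutatorElement_eq_one_iff_mul_comm.mp (hcm r hr _ ⟨r', hr', rfl⟩)
      · have : x ∈ A ⊓ At := ⟨hx, ⟨t⁻¹ * x * t, hx', by simp [mul_assoc]⟩⟩
        rwa [(hti A hA At hAtΔ).resolve_left hAtne, Subgroup.mem_bot] at this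
    exact commute_pair hS ((hti R hR T hT).resolve_left hne) (hord R hR T hT) (hΦ R hR) (hΦ T hT)
      (moves R hR T hT hRH hTH hne) (moves T hT R hR hTH hRH hne.symm)

end Cfsg.Agent.S1782
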