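import Cfsg.Statements.S1783
import Cfsg.Agent.S1782
import Cfsg.Agent.Lib.CharTwoLocal
import Cfsg.Agent.Lib.CoprimeAction
import Cfsg.Agent.Lib.PGroupsBasic
-- import your own Cfsg.Agent.* helpers here

set_option autoImplicit false
open Cfsg

namespace Cfsg.Agent.S1783

theorem sq_mem_pCore {X : Type*} [Group X] [Finite X]
    (hX : Cfsg.generalizedFittingSubgroup X = Cfsg.pCore 2 X) (A : Subgroup X) (hA2 : IsPGroup 2 ↥A)
    (hAa : IsMulCommutative ↥A)
    (hti : ∀ h : X, A.map (MulAut.conj h).toMonoidHom = A ∨ A.map (MulAut.conj h).toMonoidHom ⊓ A = ⊥)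
    {a : X} (ha : a ∈ A) : a ^ 2 ∈ Cfsg.pCore 2 X := by
  haveI := Fact.mk Nat.prime_two
  by_cases he : ∀ x ∈ A, x ^ 2 = 1
  · rw [he a ha]; exact one_mem _
  obtain ⟨a₀, ha₀, ha₀2⟩ := by simpa using he
  set Q := Cfsg.pCore 2 X with hQ
  have hQp : IsPGroup 2 ↥Q := Cfsg.Agent.ComponentsCores.isPGroup_pCore 2
  have hQn : Q.Normal := inferInstance
  set S : Subgroup X := Q ⊔ A with hS
  have hSp : IsPGroup 2 ↥S := hQp.to_sup_of_normal_left hA2
  set D : Subgroup X := (frattini ↥Q).map Q.subtype with hD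
  -- conjugates of `A` under `Q` commute with `A`
  have hcomm : ∀ q ∈ Q, ∀ x ∈ A, ∀ y ∈ A, x * (q * y * q⁻¹) = (q * y * q⁻¹) * x := by
    intro q hq x hx y hy
    have hqy : q * y * q⁻¹ ∈ A.map (MulAut.conj q).toMonoidHom := ⟨y, hy, rfl⟩
    rcases hti q with h | h
    · rw [h] at hqy
      exact congrArg Subtype.val (hAa.is_comm.comm ⟨x, hx⟩ ⟨_, hqy⟩)
    let R₀ : Subgroup ↥S := A.subgroupOf S
    let Δ : Set (Subgroup ↥S) := {R | ∃ s : ↥S, R = R₀.map (MulAut.conj s).toMonoidHom}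
    have hmem : ∀ (s t : ↥S), t ∈ R₀.map (MulAut.conj s).toMonoidHom ↔
        (t : X) ∈ A.map (MulAut.conj (s : X)).toMonoidHom := by
      intro s t
      constructor
      · rintro ⟨r, hr, rfl⟩
        exact ⟨r, hr, rfl⟩
      · rintro ⟨r, hr, hr'⟩
        exact ⟨⟨r, (le_sup_right : A ≤ S) hr⟩, hr, Subtype.ext hr'⟩
    have hne : R₀ ≠ R₀.map (MulAut.conj (⟨q, (le_sup_left : Q ≤ S) hq⟩ : ↥S)).toMonoidHom := by
      intro e
      have hin : (⟨a₀, (le_sup_right : A ≤ S) ha₀⟩ : ↥S) ∈ R₀ := ha₀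
      rw [e, hmem] at hin
      have : a₀ ∈ A.map (MulAut.conj q).toMonoidHom ⊓ A := ⟨hin, ha₀⟩
      rw [h, Subgroup.mem_bot] at this
      simp [this] at ha₀2
    have h1782 := Cfsg.Agent.S1782.result hSp Δ (fun s R hR => ?_) (fun R hR => ?_) (fun R hR T hT => ?_)
      (fun R hR T hT => ?_) R₀ ⟨1, by ext t; simp⟩ _ ⟨_, rfl⟩ hne
    · rw [eq_bot_iff, Subgroup.commutator_le] at h1782
      have hqyS : (⟨q * y * q⁻¹, S.mul_mem (S.mul_mem ((le_sup_left : Q ≤ S) hq) ((le_sup_right : A ≤ S) hy))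
          (S.inv_mem ((le_sup_left : Q ≤ S) hq))⟩ : ↥S) ∈
          R₀.map (MulAut.conj (⟨q, (le_sup_left : Q ≤ S) hq⟩ : ↥S)).toMonoidHom := (hmem _ _).mpr hqy
      have := h1782 ⟨x, (le_sup_right : A ≤ S) hx⟩ hx _ hqyS
      exact congrArg Subtype.val (commutatorElement_eq_one_iff_mul_comm.mp this)
    · obtain ⟨t, rfl⟩ := hR
      refine ⟨s * t, ?_⟩
      rw [Subgroup.map_map]
      congr 1
      ext r
      simp [mul_assoc]
    · obtain ⟨t, rfl⟩ := hR
      intro hbot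
      have hp := Cfsg.Agent.PGroupsBasic.pow_mem_frattini (hSp.to_subgroup _)
        (⟨(MulAut.conj t) ⟨a₀, (le_sup_right : A ≤ S) ha₀⟩, ⟨_, ha₀, rfl⟩⟩ :
          ↥(R₀.map (MulAut.conj t).toMonoidHom))
      rw [hbot, Subgroup.mem_bot] at hp
      have h2 : ((t : X) * a₀ * (t : X)⁻¹) ^ 2 = 1 :=
        congrArg (fun z : ↥(R₀.map (MulAut.conj t).toMonoidHom) => ((z : ↥S) : X)) hp
      rw [conj_pow, conj_eq_one_iff] at h2
      exact ha₀2 h2
    · obtain ⟨s, rfl⟩ := hR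
      obtain ⟨t, rfl⟩ := hT
      rw [Subgroup.card_map_of_injective (f := (MulAut.conj s).toMonoidHom) (MulAut.conj s).injective,
        Subgroup.card_map_of_injective (f := (MulAut.conj t).toMonoidHom) (MulAut.conj t).injective]
    · obtain ⟨s, rfl⟩ := hR
      obtain ⟨t, rfl⟩ := hT
      have key : ∀ r, r ∈ A.map (MulAut.conj (s : X)).toMonoidHom ↔ (t : X)⁻¹ * r * t ∈
          A.map (MulAut.conj ((t : X)⁻¹ * s)).toMonoidHom := by
        intro r
        constructor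
        · rintro ⟨w, hw, rfl⟩; exact ⟨w, hw, by simp [mul_assoc]⟩
        · rintro ⟨w, hw, hw'⟩
          refine ⟨w, hw, ?_⟩
          simp only [MulEquiv.coe_toMonoidHom, MulAut.conj_apply] at hw' ⊢
          calc (s : X) * w * (s : X)⁻¹ = (t : X) * ((t : X)⁻¹ * s * w * ((t : X)⁻¹ * s)⁻¹) * (t : X)⁻¹ := by
                simp [mul_assoc]
            _ = r := by rw [hw']; simp [mul_assoc]
      have keyt : ∀ r, r ∈ A.map (MulAut.conj (t : X)).toMonoidHom ↔ (t : X)⁻¹ * r * t ∈ A := by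
        intro r
        constructor
        · rintro ⟨w, hw, rfl⟩; simpa [mul_assoc] using hw
        · intro hr; exact ⟨_, hr, by simp [mul_assoc]⟩
      rcases hti ((t : X)⁻¹ * s) with e | e
      · left
        ext r
        rw [hmem, hmem, key, keyt, e]
      · right
        rw [eq_bot_iff]
        rintro r ⟨hr1, hr2⟩
        have hr1' := (key _).mp ((hmem _ _).mp hr1)
        have hr2' := (keyt _).mp ((hmem _ _).mp hr2)
        have h0 : (t : X)⁻¹ * (r : X) * t ∈ A.map (MulAut.conj ((t : X)⁻¹ * s)).toMonoidHom ⊓ A := ⟨hr1', hr2'⟩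
        rw [e, Subgroup.mem_bot] at h0
        rw [Subgroup.mem_bot]
        apply Subtype.ext
        calc (r : X) = (t : X) * ((t : X)⁻¹ * (r : X) * t) * (t : X)⁻¹ := by simp [mul_assoc]
          _ = _ := by rw [h0]; simp
  -- the kernel of the action on `Q / Φ(Q)`
  have hDn : D.Normal := by rw [hD]; infer_instance
  let K : Subgroup X :=
    { carrier := {g | ∀ q ∈ Q, g * q * g⁻¹ * q⁻¹ ∈ D}
      one_mem' := fun q _ => by simp [one_mem]
      mul_mem' := fun {g h} hg hh q hq => by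
        have h1 : g * (h * q * h⁻¹) * g⁻¹ * (h * q * h⁻¹)⁻¹ ∈ D := hg _ (hQn.conj_mem q hq h)
        have := D.mul_mem h1 (hh q hq)
        simpa [mul_assoc] using this
      inv_mem' := fun {g} hg q hq => by
        have h1 := hg _ (hQn.conj_mem q hq g⁻¹)
        have := D.inv_mem h1
        simpa [mul_assoc] using this }
  have hKn : K.Normal := ⟨fun g hg x q hq => by
    have h1 := hDn.conj_mem _ (hg _ (hQn.conj_mem q hq x⁻¹)) x
    simpa [mul_assoc] using h1⟩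
  have hKp : IsPGroup 2 ↥K := by
    refine Cfsg.Agent.CharTwoLocal.isPGroup_two_of_orderOf fun y r hr hr2 hy => ?_
    set Z : Subgroup X := Subgroup.zpowers (y : X) with hZ
    have hZK : Z ≤ K := by rw [hZ, Subgroup.zpowers_le]; exact y.2
    have hZQ : Z ≤ Subgroup.centralizer (Q : Set X) := by
      refine Cfsg.Agent.CoprimeAction.le_centralizer_of_frattini
        (fun g _ => by rw [Subgroup.normalizer_eq_top_iff.mpr hQn]; trivial) ?_ (fun g hg => hZK hg)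
      obtain ⟨k, hk⟩ := IsPGroup.iff_card.mp (hQp.to_subgroup (frattini ↥Q))
      rw [hk, hZ, Nat.card_zpowers, Subgroup.orderOf_coe, hy]
      exact Nat.Coprime.pow_right k ((Nat.coprime_primes hr Nat.prime_two).mpr hr2)
    have hyQ : (y : X) ∈ Q := by
      have hc := Cfsg.Agent.ComponentsFitting.centralizer_gen_le (G := X)
      rw [hX] at hc
      exact hc (hZQ (Subgroup.mem_zpowers _))
    obtain ⟨k, hk⟩ := IsPGroup.iff_orderOf.mp hQp ⟨_, hyQ⟩
    have hyo : orderOf (⟨(y : X), hyQ⟩ : ↥Q) = r := by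
      rw [← Subgroup.orderOf_coe]
      show orderOf ((y : ↥K) : X) = r
      rw [Subgroup.orderOf_coe, hy]
    rw [hyo] at hk
    exact hr2 ((Nat.prime_dvd_prime_iff_eq hr Nat.prime_two).mp (hr.dvd_of_dvd_pow hk.dvd))
  refine Cfsg.Agent.ComponentsCores.le_pCore' hKp (show a ^ 2 ∈ K from fun q hq => ?_)
  set c := a * q * a⁻¹ * q⁻¹ with hc
  have hcQ : c ∈ Q := Q.mul_mem (hQn.conj_mem q hq a) (Q.inv_mem hq)
  have hac : a * c * a⁻¹ = c := by
    have h1 : a * (q * a⁻¹ * q⁻¹) = (q * a⁻¹ * q⁻¹) * a := hcomm q hq a ha _ (A.inv_mem ha)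
    calc a * c * a⁻¹ = a * (a * (q * a⁻¹ * q⁻¹)) * a⁻¹ := by simp [hc, mul_assoc]
      _ = a * ((q * a⁻¹ * q⁻¹) * a) * a⁻¹ := by rw [h1]
      _ = c := by simp [hc, mul_assoc]
  have e : a ^ 2 * q * (a ^ 2)⁻¹ * q⁻¹ = c ^ 2 := by
    calc a ^ 2 * q * (a ^ 2)⁻¹ * q⁻¹ = (a * c * a⁻¹) * c := by simp [hc, pow_two, mul_assoc]
      _ = c ^ 2 := by rw [hac, pow_two]
  rw [e]
  exact ⟨_, Cfsg.Agent.PGroupsBasic.pow_mem_frattini hQp ⟨c, hcQ⟩, rfl⟩

/-- Let X be a finite group whose generalized Fitting subgroup equals its largest normal 2-subgroup Q, and let A be an abelian 2-subgroup of X such that every conjugate of A equals A or meets A trivially. Let B be the subgroup generated by the squares of the elements of A. Then B lies in Q, and if B is not an elementary abelian 2-group then the normal closure of B in X is commutative. -/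
theorem result {X : Type*} [Group X] [Finite X]
    (hX : Cfsg.generalizedFittingSubgroup X = Cfsg.pCore 2 X) (A : Subgroup X) (hA2 : IsPGroup 2 ↥A) (hAa : IsMulCommutative ↥A)
    (hti : ∀ h : X, A.map (MulAut.conj h).toMonoidHom = A ∨ A.map (MulAut.conj h).toMonoidHom ⊓ A = ⊥) :
    Subgroup.closure ((fun a : X => a ^ 2) '' (A : Set X)) ≤ Cfsg.pCore 2 X ∧
      (¬ Cfsg.IsElementaryAbelian 2 (Subgroup.closure ((fun a : X => a ^ 2) '' (A : Set X))) →
        IsMulCommutative ↥(Subgroup.normalClosure ((fun a : X => a ^ 2) '' (A : Set X)))) := by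
  haveI := Fact.mk Nat.prime_two
  set B := Subgroup.closure ((fun a : X => a ^ 2) '' (A : Set X)) with hB
  set Q := Cfsg.pCore 2 X with hQ
  have hsq : ∀ a ∈ A, a ^ 2 ∈ Q := fun a ha => sq_mem_pCore hX A hA2 hAa hti ha
  refine ⟨(Subgroup.closure_le _).mpr (by rintro _ ⟨a, ha, rfl⟩; exact hsq a ha), fun hne => ?_⟩
  have hBA : B ≤ A := (Subgroup.closure_le _).mpr (by rintro _ ⟨a, ha, rfl⟩; exact A.pow_mem ha 2)
  obtain ⟨a₀, ha₀, ha₀4⟩ : ∃ a ∈ A, (a ^ 2) ^ 2 ≠ 1 := by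
    by_contra h
    push Not at h
    apply hne
    refine ⟨⟨⟨fun u v => Subtype.ext (congrArg Subtype.val
      (hAa.is_comm.comm ⟨(u : X), hBA u.2⟩ ⟨(v : X), hBA v.2⟩) :)⟩⟩, fun b hb => ?_⟩
    have key : b ∈ A ∧ b ^ 2 = 1 := by
      refine Subgroup.closure_induction (p := fun z _ => z ∈ A ∧ z ^ 2 = 1) ?_ ⟨one_mem _, one_pow 2⟩ ?_ ?_ hb
      · rintro _ ⟨a, ha, rfl⟩; exact ⟨A.pow_mem ha 2, h a ha⟩
      · rintro u v - - ⟨hu, hu2⟩ ⟨hv, hv2⟩
        refine ⟨mul_mem hu hv, ?_⟩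
        have hc : Commute u v := congrArg Subtype.val (hAa.is_comm.comm ⟨u, hu⟩ ⟨v, hv⟩)
        rw [hc.mul_pow, hu2, hv2, one_mul]
      · rintro u - ⟨hu, hu2⟩; exact ⟨inv_mem hu, by rw [inv_pow, hu2, inv_one]⟩
    exact key.2
  have hQn : Q.Normal := inferInstance
  have hQp : IsPGroup 2 ↥Q := Cfsg.Agent.ComponentsCores.isPGroup_pCore 2
  let F : X → Subgroup ↥Q := fun h => (A.map (MulAut.conj h).toMonoidHom).subgroupOf Q
  let Δ : Set (Subgroup ↥Q) := {R | ∃ h, R = F h}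
  have hin : ∀ h, ∀ a ∈ A, ∀ hq : h * a * h⁻¹ ∈ Q, (⟨h * a * h⁻¹, hq⟩ : ↥Q) ∈ F h :=
    fun h a ha hq => ⟨a, ha, rfl⟩
  have hcj : ∀ h, h * a₀ ^ 2 * h⁻¹ ∈ Q := fun h => hQn.conj_mem _ (hsq a₀ ha₀) h
  have ti : ∀ h k, A.map (MulAut.conj h).toMonoidHom = A.map (MulAut.conj k).toMonoidHom ∨
      A.map (MulAut.conj h).toMonoidHom ⊓ A.map (MulAut.conj k).toMonoidHom = ⊥ := by
    intro h k
    have e : A.map (MulAut.conj h).toMonoidHom =
        (A.map (MulAut.conj (k⁻¹ * h)).toMonoidHom).map (MulAut.conj k).toMonoidHom := by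
      rw [Subgroup.map_map]; congr 1; ext x; simp [mul_assoc]
    rcases hti (k⁻¹ * h) with h' | h'
    · exact Or.inl (by rw [e, h'])
    · exact Or.inr (by rw [e, ← Subgroup.map_inf _ _ _ (MulAut.conj k).injective, h', Subgroup.map_bot])
  have hcard : ∀ h, Nat.card ↥(F h) = Nat.card ↥(A ⊓ Q : Subgroup X) := by
    intro h
    have e : A.map (MulAut.conj h).toMonoidHom ⊓ Q = (A ⊓ Q).map (MulAut.conj h).toMonoidHom := by
      ext x
      constructor
      · rintro ⟨⟨a, ha, rfl⟩, hx⟩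
        refine ⟨a, ⟨ha, ?_⟩, rfl⟩
        have := hQn.conj_mem _ hx h⁻¹
        simpa [mul_assoc] using this
      · rintro ⟨a, ⟨ha, haQ⟩, rfl⟩
        exact ⟨⟨a, ha, rfl⟩, hQn.conj_mem a haQ h⟩
    rw [show F h = (A.map (MulAut.conj h).toMonoidHom ⊓ Q).subgroupOf Q from
      (Subgroup.inf_subgroupOf_right _ _).symm,
      Nat.card_congr (Subgroup.subgroupOfEquivOfLe inf_le_right).toEquiv, e,
      Subgroup.card_map_of_injective (f := (MulAut.conj h).toMonoidHom) (MulAut.conj h).injective]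
  have hΦ : ∀ R ∈ Δ, frattini ↥R ≠ ⊥ := by
    rintro R ⟨h, rfl⟩ hbot
    have hp := Cfsg.Agent.PGroupsBasic.pow_mem_frattini (hQp.to_subgroup _)
      (⟨_, hin h _ (A.pow_mem ha₀ 2) (hcj h)⟩ : ↥(F h))
    rw [hbot, Subgroup.mem_bot] at hp
    have h2 := congrArg (fun z : ↥(F h) => ((z : ↥Q) : X)) hp
    simp only [SubmonoidClass.coe_pow, OneMemClass.coe_one, conj_pow, conj_eq_one_iff] at h2
    exact ha₀4 h2
  have h1782 := Cfsg.Agent.S1782.result hQp Δ
    (by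
      rintro q R ⟨h, rfl⟩
      refine ⟨(q : X) * h, ?_⟩
      ext x
      constructor
      · rintro ⟨y, ⟨a, ha, hy⟩, rfl⟩
        refine ⟨a, ha, ?_⟩
        simp only [MulEquiv.coe_toMonoidHom, MulAut.conj_apply, Subgroup.coe_subtype] at hy ⊢
        simp [← hy, mul_assoc]
      · rintro ⟨a, ha, hx⟩
        refine ⟨q⁻¹ * x * q, ⟨a, ha, ?_⟩, by simp [mul_assoc]⟩
        simp only [MulEquiv.coe_toMonoidHom, MulAut.conj_apply, Subgroup.coe_subtype] at hx ⊢
        simp [← hx, mul_assoc])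
    hΦ (by rintro R ⟨h, rfl⟩ T ⟨k, rfl⟩; rw [hcard, hcard])
    (by
      rintro R ⟨h, rfl⟩ T ⟨k, rfl⟩
      rcases ti h k with e | e
      · left; show Subgroup.subgroupOf _ Q = Subgroup.subgroupOf _ Q; rw [e]
      · right
        rw [eq_bot_iff]
        intro x hx
        have : (x : X) ∈ A.map (MulAut.conj h).toMonoidHom ⊓ A.map (MulAut.conj k).toMonoidHom := hx
        rw [e, Subgroup.mem_bot] at this
        rw [Subgroup.mem_bot]
        exact Subtype.ext this)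
  rw [Subgroup.normalClosure]
  refine Subgroup.isMulCommutative_closure ?_
  intro u hu v hv
  simp only [Group.mem_conjugatesOfSet_iff, Set.mem_image, SetLike.mem_coe] at hu hv
  obtain ⟨_, ⟨a, ha, rfl⟩, hu⟩ := hu
  obtain ⟨_, ⟨b, hb, rfl⟩, hv⟩ := hv
  obtain ⟨h, rfl⟩ := isConj_iff.mp hu
  obtain ⟨k, rfl⟩ := isConj_iff.mp hv
  rcases ti h k with e | e
  · obtain ⟨b', hb', hb''⟩ : k * b ^ 2 * k⁻¹ ∈ A.map (MulAut.conj h).toMonoidHom := by
      rw [e]; exact ⟨_, A.pow_mem hb 2, rfl⟩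
    simp only [MulEquiv.coe_toMonoidHom, MulAut.conj_apply] at hb''
    rw [← hb'']
    have hc : a ^ 2 * b' = b' * a ^ 2 := congrArg Subtype.val (hAa.is_comm.comm ⟨_, A.pow_mem ha 2⟩ ⟨b', hb'⟩)
    calc h * a ^ 2 * h⁻¹ * (h * b' * h⁻¹) = h * (a ^ 2 * b') * h⁻¹ := by simp [mul_assoc]
      _ = h * (b' * a ^ 2) * h⁻¹ := by rw [hc]
      _ = h * b' * h⁻¹ * (h * a ^ 2 * h⁻¹) := by simp [mul_assoc]
  · have hne' : F h ≠ F k := by
      intro hFe
      have h1 : (⟨h * a₀ ^ 2 * h⁻¹, hcj h⟩ : ↥Q) ∈ F k := hFe ▸ hin h _ (A.pow_mem ha₀ 2) (hcj h)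
      have h2 : h * a₀ ^ 2 * h⁻¹ ∈ A.map (MulAut.conj h).toMonoidHom ⊓ A.map (MulAut.conj k).toMonoidHom :=
        ⟨⟨_, A.pow_mem ha₀ 2, rfl⟩, h1⟩
      rw [e, Subgroup.mem_bot, conj_eq_one_iff] at h2
      exact ha₀4 (by rw [h2, one_pow])
    have hc := h1782 _ ⟨h, rfl⟩ _ ⟨k, rfl⟩ hne'
    rw [eq_bot_iff, Subgroup.commutator_le] at hc
    have := hc _ (hin h _ (A.pow_mem ha 2) (hQn.conj_mem _ (hsq a ha) h)) _
      (hin k _ (A.pow_mem hb 2) (hQn.conj_mem _ (hsq b hb) k))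
    exact congrArg Subtype.val (commutatorElement_eq_one_iff_mul_comm.mp this)

end Cfsg.Agent.S1783
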