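import Mathlib
import Cfsg.Statements.S1784
import Cfsg.Agent.Lib.LargeExtraspecialSetting
-- import your own Cfsg.Agent.* helpers here

set_option autoImplicit false
open Cfsg

namespace Cfsg.Agent.S1784

open Subgroup Cfsg.Agent.LargeExtraspecial

/-- Double centralizer of a finite subset of an extraspecial group. -/
theorem mem_closure_of_commute {G : Type*} [Group G] {Q : Subgroup G} {z : G} (h : Ext Q z) (T : Finset G) :
    (∀ t ∈ T, t ∈ Q) → ∀ d ∈ Q, (∀ s ∈ Q, (∀ t ∈ T, s * t = t * s) → s * d = d * s) →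
      d ∈ closure (insert z (T : Set G)) := by
  classical
  induction T using Finset.induction with
  | empty =>
    intro _ d hd hc
    rcases h.central hd (fun y hy => hc y hy (by simp)) with e | e
    · rw [e]; exact one_mem _
    · rw [e]; exact subset_closure (Set.mem_insert _ _)
  | @insert x T hx ih =>
    intro hT d hd hc
    have hxQ : x ∈ Q := hT x (Finset.mem_insert_self x T)
    have hTQ : ∀ t ∈ T, t ∈ Q := fun t ht => hT t (Finset.mem_insert_of_mem ht)
    have hmono : closure (insert z (T : Set G)) ≤ closure (insert z ((insert x T : Finset G) : Set G)) := by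
      apply Subgroup.closure_mono
      intro a ha
      rcases ha with rfl | ha
      · exact Set.mem_insert _ _
      · exact Set.mem_insert_of_mem _ (Finset.mem_coe.mpr (Finset.mem_insert_of_mem ha))
    have hxmem : x ∈ closure (insert z ((insert x T : Finset G) : Set G)) :=
      subset_closure (Set.mem_insert_of_mem _ (Finset.mem_coe.mpr (Finset.mem_insert_self x T)))
    by_cases hu : ∃ u ∈ Q, (∀ t ∈ T, u * t = t * u) ∧ ¬ u * x = x * u
    swap
    · refine hmono (ih hTQ d hd fun s hs hst => hc s hs fun t ht => ?_)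
      rcases Finset.mem_insert.mp ht with rfl | ht
      · by_contra hne
        exact hu ⟨s, hs, hst, hne⟩
      · exact hst t ht
    obtain ⟨u, hu, hut, hux⟩ := hu
    have key : ∀ e ∈ Q, (∀ s ∈ Q, (∀ t ∈ insert x T, s * t = t * s) → s * e = e * s) →
        u * e = e * u → e ∈ closure (insert z (T : Set G)) := by
      intro e he hce hue
      refine ih hTQ e he fun s hs hst => ?_
      by_cases hsx : s * x = x * s
      · refine hce s hs fun t ht => ?_
        rcases Finset.mem_insert.mp ht with rfl | ht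
        exacts [hsx, hst t ht]
      · have h1 : u * s * e = e * (u * s) := by
          refine hce (u * s) (Q.mul_mem hu hs) fun t ht => ?_
          rcases Finset.mem_insert.mp ht with rfl | ht
          · exact mul_inv_eq_iff_eq_mul.mp (h.mul_fix hu ((h.not_comm_iff hxQ hu).mp hux)
              ((h.not_comm_iff hxQ hs).mp hsx))
          · exact Commute.mul_left (hut t ht) (hst t ht)
        have e2 : u * (s * e) = u * (e * s) := by
          rw [← mul_assoc, h1, ← mul_assoc, ← hue, mul_assoc]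
        exact mul_left_cancel e2
    by_cases hud : u * d = d * u
    · exact hmono (key d hd hc hud)
    · have h2 : d * x ∈ closure (insert z (T : Set G)) := by
        refine key (d * x) (Q.mul_mem hd hxQ) (fun s hs hst => ?_) ?_
        · exact Commute.mul_right (hc s hs hst) (hst x (Finset.mem_insert_self x T))
        · have e1 := (h.not_comm_iff hd hu).mp hud
          have e2 := (h.not_comm_iff hxQ hu).mp hux
          have e3 : u * (d * x) * u⁻¹ = (u * d * u⁻¹) * (u * x * u⁻¹) := by group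
          rw [e1, e2, mul_assoc z d (z * x), ← mul_assoc d z x, h.comm d hd, mul_assoc z d x,
            h.z_mul_z_mul] at e3
          exact mul_inv_eq_iff_eq_mul.mp e3
      have h3 := mul_mem (hmono h2) (inv_mem hxmem)
      rwa [mul_inv_cancel_right] at h3

/-- The general form of (a), for an involution moving an extraspecial subgroup. -/
theorem commutators_eq_center {G : Type*} [Group G] [Finite G] {Q : Subgroup G} {z : G} (h : Ext Q z)
    {α : G} (hα2 : α * α = 1) (hαz : α * z = z * α) (hnorm : ∀ x ∈ Q, α * x * α⁻¹ ∈ Q)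
    (hne : ∃ q ∈ Q, α * q * α⁻¹ * q⁻¹ ≠ 1)
    (Q₀ : Subgroup G) (hQ₀ : ∀ q : G, q ∈ Q₀ ↔ (q ∈ Q ∧ α * q * α⁻¹ * q⁻¹ ∈ zpowers z)) :
    closure ((fun q : G => α * q * α⁻¹ * q⁻¹) '' (Q : Set G)) = (center ↥Q₀).map Q₀.subtype := by
  classical
  have hαi : α⁻¹ = α := inv_eq_of_mul_eq_one_right hα2
  have hzQ₀ : z ∈ Q₀ := (hQ₀ z).mpr ⟨h.mem, by rw [hαz, mul_inv_cancel_right, mul_inv_cancel]; exact one_mem _⟩
  set D := closure ((fun q : G => α * q * α⁻¹ * q⁻¹) '' (Q : Set G)) with hD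
  have hgen : ∀ q ∈ Q, α * q * α⁻¹ * q⁻¹ ∈ D := fun q hq => subset_closure ⟨q, hq, rfl⟩
  have hDQ₀ : D ≤ Q₀ := by
    rw [hD, closure_le]
    rintro _ ⟨q, hq, rfl⟩
    set d := α * q * α⁻¹ * q⁻¹ with hd
    have hdQ : d ∈ Q := Q.mul_mem (hnorm q hq) (Q.inv_mem hq)
    refine (hQ₀ _).mpr ⟨hdQ, ?_⟩
    have e1 : α * d * α⁻¹ = d⁻¹ := by
      rw [hd, hαi]
      calc α * (α * q * α * q⁻¹) * α = (α * α) * q * α * q⁻¹ * α := by group
        _ = q * α * q⁻¹ * α := by rw [hα2, one_mul]
        _ = q * α⁻¹ * q⁻¹ * α⁻¹ := by rw [hαi]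
        _ = (α * q * α * q⁻¹)⁻¹ := by group
    change α * d * α⁻¹ * d⁻¹ ∈ zpowers z
    rw [e1, ← mul_inv_rev]
    refine inv_mem ?_
    rcases h.sq d hdQ with e | e <;> rw [e]
    exacts [one_mem _, mem_zpowers z]
  -- commuting criterion
  have hiff : ∀ x ∈ Q, (x ∈ Q₀ ↔ ∀ q ∈ Q, x * (α * q * α⁻¹ * q⁻¹) = (α * q * α⁻¹ * q⁻¹) * x) := by
    intro x hx
    have hcz : ∀ c ∈ zpowers z, ∀ y ∈ Q, y * c = c * y := by
      intro c hc y hy
      rcases h.eq_of_mem_zpowers hc with e | e <;> rw [e]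
      exacts [by simp, h.comm y hy]
    have hfix : ∀ c ∈ zpowers z, α * c * α⁻¹ = c := by
      intro c hc
      rcases h.eq_of_mem_zpowers hc with e | e <;> rw [e]
      exacts [by simp, by rw [hαz, mul_inv_cancel_right]]
    have hcomm : ∀ q ∈ Q, x * q * x⁻¹ * q⁻¹ ∈ zpowers z := by
      intro q hq
      rcases h.conj x hx q hq with e | e <;> rw [e]
      · rw [mul_inv_cancel]; exact one_mem _
      · rw [mul_inv_cancel_right]; exact mem_zpowers z
    -- images of commutators
    have himg : ∀ q ∈ Q, (α * x * α⁻¹) * (α * q * α⁻¹) * (α * x * α⁻¹)⁻¹ * (α * q * α⁻¹)⁻¹ = x * q * x⁻¹ * q⁻¹ := by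
      intro q hq
      rw [show (α * x * α⁻¹) * (α * q * α⁻¹) * (α * x * α⁻¹)⁻¹ * (α * q * α⁻¹)⁻¹ = α * (x * q * x⁻¹ * q⁻¹) * α⁻¹ by group]
      exact hfix _ (hcomm q hq)
    constructor
    · intro hx0 q hq
      obtain ⟨-, hc⟩ := (hQ₀ x).mp hx0
      set a := α * q * α⁻¹ with ha
      have haQ : a ∈ Q := hnorm q hq
      set c := α * x * α⁻¹ * x⁻¹ with hc'
      have e0 : α * x * α⁻¹ = c * x := by rw [hc']; group
      have e1 : x * a * x⁻¹ * a⁻¹ = x * q * x⁻¹ * q⁻¹ := by
        rw [← himg q hq, e0]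
        have e2 : c * x * a * (c * x)⁻¹ * a⁻¹ = c * (x * a * x⁻¹) * (c⁻¹ * a⁻¹) := by group
        rw [e2]
        have e3 : c⁻¹ * a⁻¹ = a⁻¹ * c⁻¹ := (hcz c⁻¹ (inv_mem hc) a⁻¹ (Q.inv_mem haQ)).symm
        rw [e3]
        have e4 : c * (x * a * x⁻¹) * (a⁻¹ * c⁻¹) = c * (x * a * x⁻¹ * a⁻¹) * c⁻¹ := by group
        rw [e4, ← hcz c hc _ (Q.mul_mem (Q.mul_mem (Q.mul_mem hx haQ) (Q.inv_mem hx)) (Q.inv_mem haQ)),
          mul_inv_cancel_right]
      set k := x * q * x⁻¹ * q⁻¹ with hk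
      have e5 : x * a * x⁻¹ = k * a := mul_inv_eq_iff_eq_mul.mp e1
      have e6 : x * q * x⁻¹ = k * q := by rw [hk]; group
      have e7 : x * (a * q⁻¹) * x⁻¹ = a * q⁻¹ := by
        rw [show x * (a * q⁻¹) * x⁻¹ = (x * a * x⁻¹) * (x * q * x⁻¹)⁻¹ by group, e5, e6,
          show k * a * (k * q)⁻¹ = k * (a * q⁻¹) * k⁻¹ by group,
          ← hcz k (hcomm q hq) _ (Q.mul_mem haQ (Q.inv_mem hq)), mul_inv_cancel_right]
      exact mul_inv_eq_iff_eq_mul.mp e7
    · intro hc
      refine (hQ₀ x).mpr ⟨hx, ?_⟩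
      have hmem : α * x * α⁻¹ * x⁻¹ ∈ Q := Q.mul_mem (hnorm x hx) (Q.inv_mem hx)
      have key : ∀ y ∈ Q, y * (α * x * α⁻¹ * x⁻¹) = α * x * α⁻¹ * x⁻¹ * y := by
        intro y hy
        set q := α * y * α⁻¹ with hq
        have hqQ : q ∈ Q := hnorm y hy
        have haq : α * q * α⁻¹ = y := by
          rw [hq, hαi, show α * (α * y * α) * α = (α * α) * y * (α * α) by group, hα2, one_mul, mul_one]
        have e1 := himg q hqQ
        rw [haq] at e1
        have h2 := hc q hqQ
        rw [haq] at h2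
        have e2 : x * y * x⁻¹ * y⁻¹ = x * q * x⁻¹ * q⁻¹ := by
          have e3 : x * (y * q⁻¹) * x⁻¹ = y * q⁻¹ := by rw [h2, mul_inv_cancel_right]
          calc x * y * x⁻¹ * y⁻¹ = (x * (y * q⁻¹) * x⁻¹) * (x * q * x⁻¹) * y⁻¹ := by group
            _ = y * q⁻¹ * (x * q * x⁻¹) * y⁻¹ := by rw [e3]
            _ = y * (q⁻¹ * (x * q * x⁻¹ * q⁻¹)) * (q * y⁻¹) := by group
            _ = y * ((x * q * x⁻¹ * q⁻¹) * q⁻¹) * (q * y⁻¹) := by
              rw [hcz _ (hcomm q hqQ) q⁻¹ (Q.inv_mem hqQ)]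
            _ = y * (x * q * x⁻¹ * q⁻¹) * y⁻¹ := by group
            _ = x * q * x⁻¹ * q⁻¹ := by rw [hcz _ (hcomm q hqQ) y hy, mul_inv_cancel_right]
        rw [← e2] at e1
        set w := α * x * α⁻¹ with hw
        have e4 : w * y * w⁻¹ = x * y * x⁻¹ := mul_right_cancel e1
        rcases h.conj (w * x⁻¹) (Q.mul_mem (hnorm x hx) (Q.inv_mem hx)) y hy with e | e
        · exact (mul_inv_eq_iff_eq_mul.mp e).symm
        · exfalso
          have e5 : (w * x⁻¹) * (x * y * x⁻¹) * (w * x⁻¹)⁻¹ = x * y * x⁻¹ := by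
            rw [show (w * x⁻¹) * (x * y * x⁻¹) * (w * x⁻¹)⁻¹ = w * y * w⁻¹ by group, e4]
          rcases h.conj x hx y hy with e6 | e6
          · rw [e6] at e5
            exact h.z_mul_ne y (e.symm.trans e5)
          · rw [e6, show (w * x⁻¹) * (z * y) * (w * x⁻¹)⁻¹ = ((w * x⁻¹) * z * (w * x⁻¹)⁻¹) * ((w * x⁻¹) * y * (w * x⁻¹)⁻¹) by group,
              h.comm _ (Q.mul_mem (hnorm x hx) (Q.inv_mem hx)), mul_inv_cancel_right, e] at e5
            exact h.z_mul_ne y (mul_left_cancel e5)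
      rcases h.central hmem key with e | e
      · exact e.symm ▸ one_mem _
      · exact e.symm ▸ mem_zpowers z
  have hDQ : D ≤ Q := fun d hd => ((hQ₀ d).mp (hDQ₀ hd)).1
  have hDc : ∀ d ∈ D, ∀ x ∈ Q₀, x * d = d * x := by
    intro d hd x hx
    have hxQ := ((hQ₀ x).mp hx).1
    induction hd using closure_induction with
    | mem d hd => obtain ⟨q, hq, rfl⟩ := hd; exact (hiff x hxQ).mp hx q hq
    | one => simp
    | mul a b _ _ ha hb => exact Commute.mul_right ha hb
    | inv a _ ha => exact Commute.inv_right ha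
  have hzD : z ∈ D := by
    obtain ⟨q, hq, hne⟩ := hne
    set d := α * q * α⁻¹ * q⁻¹ with hd
    have hdQ : d ∈ Q := Q.mul_mem (hnorm q hq) (Q.inv_mem hq)
    have hdD : d ∈ D := hgen q hq
    by_cases hdz : d = z
    · exact hdz ▸ hdD
    obtain ⟨y, hy, ey⟩ := h.partner d hdQ hne hdz
    have e1 : y * d * y⁻¹ = (α * y * α⁻¹ * y⁻¹)⁻¹ * (α * (y * q) * α⁻¹ * (y * q)⁻¹) := by
      rw [hd]; group
    have e2 : y * d * y⁻¹ ∈ D := e1 ▸ D.mul_mem (D.inv_mem (hgen y hy)) (hgen _ (Q.mul_mem hy hq))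
    rw [ey] at e2
    have h3 := D.mul_mem e2 (D.inv_mem hdD)
    rwa [mul_inv_cancel_right] at h3
  apply le_antisymm
  · intro d hd
    exact ⟨⟨d, hDQ₀ hd⟩, mem_center_iff.mpr fun y => Subtype.ext (hDc d hd y y.2), rfl⟩
  · rintro d ⟨⟨d, hd0⟩, hdc, rfl⟩
    change d ∈ D
    set T : Finset G := (Set.toFinite (D : Set G)).toFinset with hT
    have hTm : ∀ t, t ∈ T ↔ t ∈ D := fun t => by simp [hT]
    have := mem_closure_of_commute h T (fun t ht => hDQ ((hTm t).mp ht)) d ((hQ₀ d).mp hd0).1 fun s hs hst => by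
      have hs0 : s ∈ Q₀ := (hiff s hs).mpr fun q hq => hst _ ((hTm _).mpr (hgen q hq))
      exact congrArg Subtype.val (mem_center_iff.mp hdc ⟨s, hs0⟩)
    refine (closure_le D).mpr ?_ this
    intro a ha
    rcases ha with rfl | ha
    · exact hzD
    · exact (hTm a).mp ha

/-- Let G be a finite group and let z be an involution of G such that Q, the generalized Fitting subgroup of the centralizer C of z, is a 2-group of symplectic type (every characteristic abelian subgroup of Q is cyclic); suppose Q is extraspecial, and view Q inside G. Let α be an involution of C that is not in Q, and let Q₀ be the subgroup of those q ∈ Q whose commutator with α lies in the subgroup generated by z. Then (a) the subgroup generated by the commutators α q α⁻¹ q⁻¹, q ∈ Q, equals the centre of Q₀; and (b) if Q₀ is not contained in the product of the centralizer of α in Q with the subgroup generated by z, then some element of Q conjugates α to α z. -/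
theorem result {G : Type*} [Group G] [Finite G] (z : G) (hz : orderOf z = 2) (hQ : Cfsg.IsOfSymplecticType ↥(Cfsg.generalizedFittingSubgroup ↥(Subgroup.centralizer ({z} : Set G)))) (hE : Cfsg.IsExtraspecial 2 ↥(Cfsg.generalizedFittingSubgroup ↥(Subgroup.centralizer ({z} : Set G))))
    (α : G) (hα : orderOf α = 2) (hαC : α ∈ Subgroup.centralizer ({z} : Set G)) (hαQ : α ∉ (Cfsg.generalizedFittingSubgroup ↥(Subgroup.centralizer ({z} : Set G))).map (Subgroup.centralizer ({z} : Set G)).subtype)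
    (Q₀ : Subgroup G) (hQ₀ : ∀ q : G, q ∈ Q₀ ↔ (q ∈ (Cfsg.generalizedFittingSubgroup ↥(Subgroup.centralizer ({z} : Set G))).map (Subgroup.centralizer ({z} : Set G)).subtype ∧ α * q * α⁻¹ * q⁻¹ ∈ Subgroup.zpowers z)) :
    Subgroup.closure ((fun q : G => α * q * α⁻¹ * q⁻¹) '' ((Cfsg.generalizedFittingSubgroup ↥(Subgroup.centralizer ({z} : Set G))).map (Subgroup.centralizer ({z} : Set G)).subtype : Set G)) = (Subgroup.center ↥Q₀).map Q₀.subtype ∧
      (¬ Q₀ ≤ ((Cfsg.generalizedFittingSubgroup ↥(Subgroup.centralizer ({z} : Set G))).map (Subgroup.centralizer ({z} : Set G)).subtype ⊓ Subgroup.centralizer ({α} : Set G)) ⊔ Subgroup.zpowers z →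
        ∃ q ∈ (Cfsg.generalizedFittingSubgroup ↥(Subgroup.centralizer ({z} : Set G))).map (Subgroup.centralizer ({z} : Set G)).subtype, q * α * q⁻¹ = α * z) := by
  obtain ⟨hL, hzC, hzmem⟩ := LargeExtraspecialSetting.lhyp_of_fitting hz _ rfl hE
  set QQ := (Cfsg.generalizedFittingSubgroup ↥(Subgroup.centralizer ({z} : Set G))).map
    (Subgroup.centralizer ({z} : Set G)).subtype with hQQ
  have hα2 : α * α = 1 := by rw [← pow_two, ← hα, pow_orderOf_eq_one]
  have hαz : α * z = z * α := Subgroup.mem_centralizer_singleton_iff.mp hαC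
  refine ⟨commutators_eq_center hL.toExt hα2 hαz (fun x hx => hL.norm α hαz x hx) ?_ Q₀ hQ₀, ?_⟩
  · by_contra hno
    push Not at hno
    apply hαQ
    rcases hL.cent α (fun x hx => mul_inv_eq_iff_eq_mul.mp (mul_inv_eq_one.mp (hno x hx))) with e | e
    · rw [e]; exact one_mem _
    · rw [e]; exact hL.toExt.mem
  · intro hno
    obtain ⟨q, hq, hqn⟩ := SetLike.not_le_iff_exists.mp hno
    obtain ⟨hqQ, hc⟩ := (hQ₀ q).mp hq
    refine ⟨q, hqQ, ?_⟩
    rcases hL.toExt.eq_of_mem_zpowers hc with e | e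
    · exfalso
      refine hqn (Subgroup.mem_sup_left ⟨hqQ, ?_⟩)
      exact Subgroup.mem_centralizer_singleton_iff.mpr (mul_inv_eq_iff_eq_mul.mp (mul_inv_eq_one.mp e)).symm
    · have hαi : α⁻¹ = α := inv_eq_of_mul_eq_one_right hα2
      calc q * α * q⁻¹ = α⁻¹ * (α * q * α * q⁻¹) := by group
        _ = α⁻¹ * (α * q * α⁻¹ * q⁻¹) := by rw [hαi]
        _ = α⁻¹ * z := by rw [e]
        _ = α * z := by rw [hαi]

end Cfsg.Agent.S1784
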