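import Mathlib
import Cfsg.Statements.S1785

set_option autoImplicit false
open Cfsg

namespace Cfsg.Agent.S1785

open Subgroup

variable {X : Type*} [Group X]

theorem commute_of_el {A : Subgroup X} (hA : Cfsg.IsElementaryAbelian 2 A) {x y : X} (hx : x ∈ A)
    (hy : y ∈ A) : Commute x y :=
  congrArg Subtype.val ((isMulCommutative_iff.mp hA.1) ⟨x, hx⟩ ⟨y, hy⟩)

theorem el_of_le {A B : Subgroup X} (hA : Cfsg.IsElementaryAbelian 2 A) (h : B ≤ A) :
    Cfsg.IsElementaryAbelian 2 B :=
  ⟨isMulCommutative_iff.mpr fun x y => Subtype.ext (commute_of_el hA (h x.2) (h y.2)),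
    fun a ha => hA.2 a (h ha)⟩

theorem el_sup {A B : Subgroup X} (hA : Cfsg.IsElementaryAbelian 2 A)
    (hB : Cfsg.IsElementaryAbelian 2 B) (h : B ≤ centralizer (A : Set X)) :
    Cfsg.IsElementaryAbelian 2 (A ⊔ B) := by
  have hA' : A ≤ centralizer (A : Set X) := fun x hx => mem_centralizer_iff.mpr fun y hy =>
    (commute_of_el hA hy hx).eq
  have hB' : B ≤ centralizer (B : Set X) := fun x hx => mem_centralizer_iff.mpr fun y hy =>
    (commute_of_el hB hy hx).eq
  have h1 : A ⊔ B ≤ centralizer (A : Set X) := sup_le hA' h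
  have h2 : A ⊔ B ≤ centralizer (B : Set X) := sup_le (le_centralizer_iff.mp h) hB'
  have h3 : A ⊔ B ≤ centralizer ((A ⊔ B : Subgroup X) : Set X) :=
    le_centralizer_iff.mp (sup_le (le_centralizer_iff.mp h1) (le_centralizer_iff.mp h2))
  refine ⟨isMulCommutative_iff.mpr fun x y =>
    Subtype.ext (mem_centralizer_iff.mp (h3 y.2) x x.2), fun c hc => ?_⟩
  rw [← closure_eq A, ← closure_eq B, ← Subgroup.closure_union] at hc
  have hmem : ∀ z, z ∈ closure ((A : Set X) ∪ B) → z ∈ A ⊔ B := fun z hz => by
    rwa [Subgroup.closure_union, closure_eq, closure_eq] at hz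
  induction hc using closure_induction with
  | mem z hz => exact hz.elim (hA.2 z) (hB.2 z)
  | one => exact one_pow 2
  | mul u v hu hv ihu ihv =>
    have huv : Commute u v := mem_centralizer_iff.mp (h3 (hmem v hv)) u (hmem u hu)
    rw [huv.mul_pow, ihu, ihv, one_mul]
  | inv u _ ihu => rw [inv_pow, ihu, inv_one]

theorem mid [Finite X] (hX : IsPGroup 2 X) (F S : Subgroup X) (hFS : F ≤ S) (m : ℕ)
    (hF : Nat.card F ≤ 2 ^ m) (hS : 2 ^ m ≤ Nat.card S) :
    ∃ K, F ≤ K ∧ K ≤ S ∧ Nat.card K = 2 ^ m := by
  haveI : Fact (Nat.Prime 2) := ⟨Nat.prime_two⟩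
  obtain ⟨n, hn⟩ := (hX.to_subgroup F).exists_card_eq
  obtain ⟨k, hk⟩ := (hX.to_subgroup S).exists_card_eq
  rw [hn] at hF; rw [hk] at hS
  have hnm : n ≤ m := (Nat.pow_le_pow_iff_right (by norm_num)).mp hF
  have hmk : m ≤ k := (Nat.pow_le_pow_iff_right (by norm_num)).mp hS
  obtain ⟨K', hK', hFK⟩ := Sylow.exists_subgroup_card_pow_prime_le (G := S) 2 (n := n) (m := m)
    (hk ▸ pow_dvd_pow 2 hmk) (F.subgroupOf S)
    (by rw [Nat.card_congr (subgroupOfEquivOfLe hFS).toEquiv, hn]) hnm
  refine ⟨K'.map S.subtype, ?_, map_subtype_le _, by rw [card_subtype, hK']⟩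
  intro x hx
  exact ⟨⟨x, hFS hx⟩, hFK hx, rfl⟩

theorem sqrt_fix [Finite X] {E : Subgroup X} (hE : Cfsg.IsElementaryAbelian 2 E) (b : X) (hb : b ^ 2 = 1)
    (F : Subgroup X) (hFE : F ≤ E) (hF : ∀ e ∈ F, b * e * b⁻¹ ∈ F) :
    Nat.card F ≤ Nat.card (F ⊓ centralizer ({b} : Set X) : Subgroup X) ^ 2 := by
  have hbb : b * b = 1 := by rw [← pow_two]; exact hb
  have hib : b⁻¹ = b := inv_eq_of_mul_eq_one_right hbb
  have hs : ∀ e ∈ F, e * e = 1 := fun e he => by simpa [pow_two] using hE.2 e (hFE he)
  have hc : ∀ x ∈ F, ∀ y ∈ F, x * y = y * x := fun x hx y hy => (commute_of_el hE (hFE hx) (hFE hy)).eq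
  let φ : F →* F :=
    { toFun := fun e => e * ⟨b * e * b⁻¹, hF e e.2⟩
      map_one' := by apply Subtype.ext; simp
      map_mul' := by
        intro x y
        apply Subtype.ext
        simp only [Subgroup.coe_mul]
        have h := hc (b * x * b⁻¹) (hF x x.2) y y.2
        calc (x : X) * y * (b * (x * y) * b⁻¹)
            = x * ((y : X) * (b * x * b⁻¹)) * (b * y * b⁻¹) := by group
          _ = x * ((b * x * b⁻¹) * y) * (b * y * b⁻¹) := by rw [h]
          _ = (x * (b * x * b⁻¹)) * (y * (b * y * b⁻¹)) := by group }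
  set C := (F ⊓ centralizer ({b} : Set X) : Subgroup X) with hC
  have hker : φ.ker.map F.subtype ≤ C := by
    rintro _ ⟨e, he, rfl⟩
    have h' : (e : X) * (b * e * b⁻¹) = 1 := congrArg Subtype.val he
    refine mem_inf.mpr ⟨e.2, mem_centralizer_singleton_iff.mpr ?_⟩
    have h2 : b * e * b⁻¹ = e := by
      rw [← inv_eq_of_mul_eq_one_right h', inv_eq_of_mul_eq_one_right (hs e e.2)]
    show (e : X) * b = b * e
    calc (e : X) * b = b * e * b⁻¹ * b := by rw [h2]
      _ = b * e := by group
  have hrange : φ.range.map F.subtype ≤ C := by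
    rintro _ ⟨x, ⟨e, rfl⟩, rfl⟩
    refine mem_inf.mpr ⟨(φ e).2, mem_centralizer_singleton_iff.mpr ?_⟩
    show (e : X) * (b * e * b⁻¹) * b = b * ((e : X) * (b * e * b⁻¹))
    have h3 := hc (b * e * b⁻¹) (hF e e.2) e e.2
    rw [hib] at h3 ⊢
    calc (e : X) * (b * e * b) * b = (b * e * b * e) * b := by rw [h3]
      _ = b * (e * (b * e * b)) := by group
  have h1 : Nat.card φ.ker * Nat.card φ.range = Nat.card F := by
    rw [mul_comm, ← Nat.card_congr (QuotientGroup.quotientKerEquivRange φ).toEquiv,
      ← Subgroup.card_eq_card_quotient_mul_card_subgroup]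
  have hk := card_le_of_le hker
  have hr := card_le_of_le hrange
  rw [card_subtype] at hk hr
  rw [← h1, pow_two]
  exact Nat.mul_le_mul hk hr

theorem result {X : Type*} [Group X] [Finite X]
    (hX : IsPGroup 2 X) (E : Subgroup X) [E.Normal] (hE : Cfsg.IsElementaryAbelian 2 E) (hE32 : 32 ≤ Nat.card ↥E) :
    (∀ A B : Subgroup X, Cfsg.IsElementaryAbelian 2 A → Nat.card ↥A = 8 → Cfsg.IsElementaryAbelian 2 B → Nat.card ↥B = 8 →
        Relation.ReflTransGen
          (fun C D : Subgroup X => Cfsg.IsElementaryAbelian 2 C ∧ Nat.card ↥C = 8 ∧ Cfsg.IsElementaryAbelian 2 D ∧ Nat.card ↥D = 8 ∧ ⁅C, D⁆ = ⊥)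
          A B) ∧
      (∀ V : Subgroup X, Cfsg.IsElementaryAbelian 2 V → Nat.card ↥V = 4 →
        ∃ A : Subgroup X, V ≤ A ∧ Cfsg.IsElementaryAbelian 2 A ∧ Nat.card ↥A = 8) := by
  classical
  haveI : Fact (Nat.Prime 2) := ⟨Nat.prime_two⟩
  have hpow : ∀ (H : Subgroup X) (k : ℕ), 2 ^ k < Nat.card H → 2 ^ (k + 1) ≤ Nat.card H := by
    intro H k hk
    obtain ⟨n, hn⟩ := (hX.to_subgroup H).exists_card_eq
    rw [hn] at hk ⊢
    exact Nat.pow_le_pow_right (by norm_num) ((Nat.pow_lt_pow_iff_right (by norm_num)).mp hk)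
  have hEn : ∀ b : X, ∀ e ∈ E, b * e * b⁻¹ ∈ E := fun b e he => ‹E.Normal›.conj_mem e he b
  have hC1 : ∀ a : X, a ^ 2 = 1 → 8 ≤ Nat.card (E ⊓ centralizer ({a} : Set X) : Subgroup X) := by
    intro a ha
    have := sqrt_fix hE a ha E le_rfl (hEn a)
    refine hpow _ 2 ?_
    by_contra hle
    have h2 := Nat.pow_le_pow_left (not_lt.mp hle) 2
    have h3 := this.trans h2
    rw [show ((2 : ℕ) ^ 2) ^ 2 = 16 by norm_num] at h3
    omega
  have hC2 : ∀ U : Subgroup X, Cfsg.IsElementaryAbelian 2 U → Nat.card U = 4 →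
      4 ≤ Nat.card (E ⊓ centralizer (U : Set X) : Subgroup X) := by
    intro U hU hU4
    obtain ⟨a, haU, ha1⟩ : ∃ a ∈ U, a ≠ 1 := by
      by_contra hno
      push Not at hno
      rw [card_eq_one.mpr ((eq_bot_iff_forall _).mpr hno)] at hU4
      omega
    obtain ⟨b, hbU, hb⟩ : ∃ b ∈ U, b ∉ zpowers a := by
      by_contra hno
      push Not at hno
      have h1 := card_le_of_le (show U ≤ zpowers a from hno)
      rw [Nat.card_zpowers, hU4] at h1
      have := orderOf_le_of_pow_eq_one (by norm_num : 0 < 2) (hU.2 a haU)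
      omega
    set F := (E ⊓ centralizer ({a} : Set X) : Subgroup X) with hF
    have hcab := commute_of_el hU hbU haU
    have := sqrt_fix hE b (hU.2 b hbU) F inf_le_left (fun e he => by
      refine mem_inf.mpr ⟨hEn b e (mem_inf.mp he).1, mem_centralizer_singleton_iff.mpr ?_⟩
      have h1 : Commute e a := mem_centralizer_singleton_iff.mp (mem_inf.mp he).2
      exact (hcab.mul_left h1).mul_left hcab.inv_left)
    have h8 := hC1 a (hU.2 a haU)
    have h4 : 4 ≤ Nat.card (F ⊓ centralizer ({b} : Set X) : Subgroup X) := by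
      refine hpow _ 1 ?_
      by_contra hle
      have h2 := Nat.pow_le_pow_left (not_lt.mp hle) 2
      change 8 ≤ Nat.card F at h8
      have h3 := this.trans h2
      rw [show ((2 : ℕ) ^ 1) ^ 2 = 4 by norm_num] at h3
      omega
    refine h4.trans (card_le_of_le ?_)
    intro x hx
    simp only [hF, mem_inf] at hx
    refine mem_inf.mpr ⟨hx.1.1, le_centralizer_iff.mp (?_ : U ≤ centralizer ((zpowers x : Subgroup X) : Set X)) (mem_zpowers x)⟩
    have hgen : U = zpowers a ⊔ zpowers b := by
      refine (eq_of_le_of_card_ge (sup_le (zpowers_le.mpr haU) (zpowers_le.mpr hbU)) ?_).symm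
      have h1 : zpowers a < zpowers a ⊔ zpowers b :=
        lt_of_le_of_ne le_sup_left fun h => hb (h ▸ mem_sup_right (mem_zpowers b))
      have h2 : 1 < Nat.card (zpowers a) := by
        haveI := (zpowers a).nontrivial_iff_ne_bot.mpr (by simpa using ha1)
        exact Finite.one_lt_card
      have h3 : Nat.card (zpowers a) < Nat.card (zpowers a ⊔ zpowers b : Subgroup X) :=
        lt_of_not_ge fun h => h1.ne (eq_of_le_of_card_ge h1.le h)
      rw [hU4]
      exact hpow _ 1 (by omega)
    rw [hgen]
    refine sup_le (zpowers_le.mpr ?_) (zpowers_le.mpr ?_)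
    · exact mem_centralizer_iff.mpr fun y hy => by
        obtain ⟨i, rfl⟩ := hy
        exact ((show Commute x a from mem_centralizer_singleton_iff.mp hx.1.2).zpow_left i).eq
    · exact mem_centralizer_iff.mpr fun y hy => by
        obtain ⟨i, rfl⟩ := hy
        exact ((show Commute x b from mem_centralizer_singleton_iff.mp hx.2).zpow_left i).eq
  refine ⟨?_, ?_⟩
  · set R := fun C D : Subgroup X => Cfsg.IsElementaryAbelian 2 C ∧ Nat.card ↥C = 8 ∧
      Cfsg.IsElementaryAbelian 2 D ∧ Nat.card ↥D = 8 ∧ ⁅C, D⁆ = ⊥ with hR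
    obtain ⟨E0, -, hE0E, hE0⟩ := mid hX ⊥ E bot_le 3 (by simp) (by omega)
    norm_num at hE0
    have hE0el := el_of_le hE hE0E
    have hstep : ∀ C D : Subgroup X, Cfsg.IsElementaryAbelian 2 C → Nat.card C = 8 →
        Cfsg.IsElementaryAbelian 2 D → Nat.card D = 8 → C ≤ centralizer (D : Set X) → R C D :=
      fun C D h1 h2 h3 h4 h5 => ⟨h1, h2, h3, h4, commutator_eq_bot_iff_le_centralizer.mpr h5⟩
    have hEE : ∀ C D : Subgroup X, C ≤ E → D ≤ E → C ≤ centralizer (D : Set X) := fun C D hC hD x hx =>
      mem_centralizer_iff.mpr fun y hy => (commute_of_el hE (hD hy) (hC hx)).eq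
    -- subgroups meeting E in at least four elements
    have hgood : ∀ B F : Subgroup X, Cfsg.IsElementaryAbelian 2 B → Nat.card B = 8 → F ≤ B → F ≤ E →
        4 ≤ Nat.card F → Relation.ReflTransGen R B E0 := by
      intro B F hB hB8 hFB hFE hF4
      by_cases hBE : B ≤ E
      · exact .single (hstep _ _ hB hB8 hE0el hE0 (hEE _ _ hBE hE0E))
      obtain ⟨b, hbB, hbE⟩ := SetLike.not_le_iff_exists.mp hBE
      obtain ⟨D, -, hD, hD8⟩ := mid hX ⊥ (E ⊓ centralizer ({b} : Set X)) bot_le 3 (by simp)
        (by simpa using hC1 b (hB.2 b hbB))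
      norm_num at hD8
      have hBgen : B = F ⊔ zpowers b := by
        refine (eq_of_le_of_card_ge (sup_le hFB (zpowers_le.mpr hbB)) ?_).symm
        have h3 : Nat.card F < Nat.card (F ⊔ zpowers b : Subgroup X) := by
          refine lt_of_not_ge fun h => ?_
          exact hbE (hFE ((eq_of_le_of_card_ge le_sup_left h) ▸ mem_sup_right (mem_zpowers b)))
        rw [hB8]
        exact hpow _ 2 (by omega)
      have hBD : B ≤ centralizer (D : Set X) := by
        rw [hBgen]
        refine sup_le (hEE _ _ hFE (hD.trans inf_le_left)) (zpowers_le.mpr ?_)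
        exact mem_centralizer_iff.mpr fun y hy =>
          mem_centralizer_singleton_iff.mp (mem_inf.mp (hD hy)).2
      exact (Relation.ReflTransGen.single
        (hstep _ _ hB hB8 (el_of_le hE (hD.trans inf_le_left)) hD8 hBD)).tail
        (hstep _ _ (el_of_le hE (hD.trans inf_le_left)) hD8 hE0el hE0 (hEE _ _ (hD.trans inf_le_left) hE0E))
    have key : ∀ A : Subgroup X, Cfsg.IsElementaryAbelian 2 A → Nat.card A = 8 →
        Relation.ReflTransGen R A E0 := by
      intro A hA hA8
      set F0 := (E ⊓ centralizer (A : Set X) : Subgroup X) with hF0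
      have hS : Cfsg.IsElementaryAbelian 2 (A ⊔ F0) := el_sup hA (el_of_le hE inf_le_left) inf_le_right
      have hScent : ∀ B : Subgroup X, B ≤ A ⊔ F0 → A ≤ centralizer (B : Set X) := fun B hB x hx =>
        mem_centralizer_iff.mpr fun y hy => (commute_of_el hS (hB hy) (le_sup_left (b := F0) hx)).eq
      have hS8 : 8 ≤ Nat.card (A ⊔ F0 : Subgroup X) := hA8 ▸ card_le_of_le le_sup_left
      by_cases hF04 : 4 ≤ Nat.card F0
      · obtain ⟨F, -, hFF0, hF4⟩ := mid hX ⊥ F0 bot_le 2 (by simp) (by simpa using hF04)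
        norm_num at hF4
        obtain ⟨B, hFB, hBS, hB8⟩ := mid hX F (A ⊔ F0) (hFF0.trans le_sup_right) 3 (by omega)
          (by simpa using hS8)
        norm_num at hB8
        exact Relation.ReflTransGen.head (hstep _ _ hA hA8 (el_of_le hS hBS) hB8 (hScent B hBS))
          (hgood B F (el_of_le hS hBS) hB8 hFB (hFF0.trans inf_le_left) (by omega))
      have hF0le : Nat.card F0 ≤ 2 := by
        by_contra h
        exact hF04 (hpow _ 1 (by omega))
      -- a four subgroup of A avoiding E
      obtain ⟨U, hUA, hU4, hUE⟩ : ∃ U : Subgroup X, U ≤ A ∧ Nat.card U = 4 ∧ U ⊓ E = ⊥ := by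
        have hAE : A ⊓ E ≤ F0 := le_inf inf_le_right fun x hx => mem_centralizer_iff.mpr fun y hy =>
          (commute_of_el hA hy (mem_inf.mp hx).1).eq
        have hAE2 := (card_le_of_le hAE).trans hF0le
        by_cases h1 : A ⊓ E = ⊥
        · obtain ⟨U, -, hUA, hU4⟩ := mid hX ⊥ A bot_le 2 (by simp) (by omega)
          norm_num at hU4
          exact ⟨U, hUA, hU4, le_bot_iff.mp ((inf_le_inf_right E hUA).trans h1.le)⟩
        obtain ⟨⟨e, he⟩, he1⟩ := (ne_bot_iff_exists_ne_one).mp h1
        have he1' : e ≠ 1 := fun h => he1 (Subtype.ext h)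
        have hAE' : ∀ x ∈ A ⊓ E, x = 1 ∨ x = e := by
          intro x hx
          by_contra hne
          push Not at hne
          have : ({1, x, e} : Finset X).card ≤ 2 := by
            have hsub : (↑({1, x, e} : Finset X) : Set X) ⊆ ((A ⊓ E : Subgroup X) : Set X) := by
              intro z hz
              simp only [Finset.coe_insert, Finset.coe_singleton, Set.mem_insert_iff,
                Set.mem_singleton_iff] at hz
              rcases hz with rfl | rfl | rfl
              exacts [one_mem _, hx, he]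
            have := Set.ncard_le_ncard hsub (Set.toFinite _)
            rw [Set.ncard_coe_finset, ← Nat.card_coe_set_eq] at this
            exact this.trans hAE2
          rw [Finset.card_insert_of_notMem (by simp [Ne.symm hne.1, Ne.symm he1']),
            Finset.card_insert_of_notMem (by simp [hne.2]), Finset.card_singleton] at this
          omega
        obtain ⟨heA, heE⟩ := mem_inf.mp he
        -- grow a subgroup avoiding e
        obtain ⟨a, haA, hae⟩ : ∃ a ∈ A, a ∉ zpowers e := by
          by_contra hno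
          push Not at hno
          have h2 := card_le_of_le (show A ≤ zpowers e from hno)
          rw [Nat.card_zpowers, hA8] at h2
          have := orderOf_le_of_pow_eq_one (by norm_num : 0 < 2) (hA.2 e heA)
          omega
        obtain ⟨b, hbA, hb⟩ : ∃ b ∈ A, b ∉ zpowers e ⊔ zpowers a := by
          by_contra hno
          push Not at hno
          have h2 := card_le_of_le (show A ≤ zpowers e ⊔ zpowers a from hno)
          have hn : zpowers a ≤ normalizer ((zpowers e : Subgroup X) : Set X) :=
            (zpowers_le.mpr (mem_centralizer_iff.mpr fun y hy =>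
              (commute_of_el hA (zpowers_le.mpr heA hy) haA).eq)).trans (centralizer_le_normalizer _)
          have h3 : Nat.card (zpowers e ⊔ zpowers a : Subgroup X) ≤
              Nat.card (zpowers e) * Nat.card (zpowers a) := by
            rw [← SetLike.coe_sort_coe (zpowers e ⊔ zpowers a),
              coe_mul_of_right_le_normalizer_left _ _ hn]
            exact Set.natCard_mul_le
          rw [Nat.card_zpowers, Nat.card_zpowers] at h3
          have h4 := orderOf_le_of_pow_eq_one (by norm_num : 0 < 2) (hA.2 e heA)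
          have h5 := orderOf_le_of_pow_eq_one (by norm_num : 0 < 2) (hA.2 a haA)
          have := Nat.mul_le_mul h4 h5
          omega
        set U := zpowers a ⊔ zpowers b with hU
        have hUA : U ≤ A := sup_le (zpowers_le.mpr haA) (zpowers_le.mpr hbA)
        have hn : zpowers b ≤ normalizer ((zpowers a : Subgroup X) : Set X) :=
            (zpowers_le.mpr (mem_centralizer_iff.mpr fun y hy =>
              (commute_of_el hA (zpowers_le.mpr haA hy) hbA).eq)).trans (centralizer_le_normalizer _)
        have hel : ∀ x ∈ U, ∃ i j : ℤ, x = a ^ i * b ^ j := fun x hx => by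
          rw [hU, ← SetLike.mem_coe, coe_mul_of_right_le_normalizer_left _ _ hn] at hx
          obtain ⟨_, ⟨i, rfl⟩, _, ⟨j, rfl⟩, rfl⟩ := hx
          exact ⟨i, j, rfl⟩
        have hUcard : Nat.card U = 4 := by
          have ha1 : 1 < Nat.card (zpowers a) := by
            haveI := (zpowers a).nontrivial_iff_ne_bot.mpr (by
              simp only [ne_eq, zpowers_eq_bot]; rintro rfl; exact hae (one_mem _))
            exact Finite.one_lt_card
          have h1 : Nat.card (zpowers a) < Nat.card U := by
            refine lt_of_not_ge fun h => hb ?_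
            exact mem_sup_right ((eq_of_le_of_card_ge le_sup_left h) ▸ mem_sup_right (mem_zpowers b))
          have h4 := hpow U 1 (by omega)
          have h8 : Nat.card U ≤ 4 := by
            rw [← SetLike.coe_sort_coe U, hU, coe_mul_of_right_le_normalizer_left _ _ hn]
            refine Set.natCard_mul_le.trans ?_
            rw [SetLike.coe_sort_coe, SetLike.coe_sort_coe, Nat.card_zpowers, Nat.card_zpowers]
            exact Nat.mul_le_mul (orderOf_le_of_pow_eq_one (by norm_num) (hA.2 a haA))
              (orderOf_le_of_pow_eq_one (by norm_num) (hA.2 b hbA))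
          omega
        refine ⟨U, hUA, hUcard, (eq_bot_iff_forall _).mpr fun x hx => ?_⟩
        obtain ⟨hxU, hxE⟩ := mem_inf.mp hx
        rcases hAE' x (mem_inf.mpr ⟨hUA hxU, hxE⟩) with h | h
        · exact h
        · exfalso
          obtain ⟨i, j, hij⟩ := hel x hxU
          rw [h] at hij
          rcases Int.even_or_odd j with ⟨k, hk⟩ | ⟨k, hk⟩
          · have : b ^ j = 1 := by
              rw [hk, ← two_mul, zpow_mul]
              norm_cast
              simp [hA.2 b hbA]
            rw [this, mul_one] at hij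
            rcases Int.even_or_odd i with ⟨l, hl⟩ | ⟨l, hl⟩
            · rw [hl, ← two_mul, zpow_mul] at hij
              norm_cast at hij
              simp [hA.2 a haA] at hij
              exact he1' hij
            · rw [hl, zpow_add, zpow_mul, zpow_one] at hij
              norm_cast at hij
              simp [hA.2 a haA] at hij
              exact hae (hij ▸ mem_zpowers e)
          · apply hb
            have : b ^ j = b := by
              rw [hk, zpow_add, zpow_mul, zpow_one]
              norm_cast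
              simp [hA.2 b hbA]
            rw [this] at hij
            have hbe : b = (a ^ i)⁻¹ * e := by rw [hij]; group
            rw [hbe]
            exact mul_mem (mem_sup_right (inv_mem (zpow_mem (mem_zpowers a) i)))
              (mem_sup_left (mem_zpowers e))
      have hUel := el_of_le hA hUA
      set G0 := (E ⊓ centralizer (U : Set X) : Subgroup X) with hG0
      have hF01 : F0 ≠ ⊥ := by
        intro hbot
        haveI : Nontrivial E := Finite.one_lt_card_iff_nontrivial.mp (by omega)
        let act : MulAction A E :=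
          { smul := fun a e => ⟨(a : X) * e * (a : X)⁻¹, hEn a e e.2⟩
            one_smul := fun e => Subtype.ext (by show ((1 : A) : X) * e * ((1 : A) : X)⁻¹ = e; simp)
            mul_smul := fun a b e => Subtype.ext (by
              show ((a * b : A) : X) * e * ((a * b : A) : X)⁻¹ = a * (b * e * (b : X)⁻¹) * (a : X)⁻¹
              simp [mul_assoc]) }
        obtain ⟨n, hn⟩ := (hX.to_subgroup E).exists_card_eq
        have hdvd : 2 ∣ Nat.card E := by
          rw [hn]; refine dvd_pow_self 2 fun h => ?_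
          rw [h] at hn; omega
        obtain ⟨e, he, he1⟩ := (hX.to_subgroup A).exists_fixed_point_of_prime_dvd_card_of_fixed_point
          (α := E) hdvd (a := 1) (fun a => Subtype.ext (by show (a : X) * (1 : E) * (a : X)⁻¹ = _; simp))
        apply he1
        have : (e : X) ∈ F0 := mem_inf.mpr ⟨e.2, mem_centralizer_iff.mpr fun a ha => by
          have h := congrArg Subtype.val (he ⟨a, ha⟩)
          exact mul_inv_eq_iff_eq_mul.mp h⟩
        rw [hbot, mem_bot] at this
        exact (Subtype.ext this).symm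
      have hG04 := hC2 U hUel hU4
      have hF0G0 : F0 ≤ G0 := inf_le_inf_left E (centralizer_le hUA)
      -- the intermediate subgroup
      have hA' : 8 ≤ Nat.card (U ⊔ F0 : Subgroup X) := by
        refine hpow _ 2 (lt_of_le_of_ne ?_ ?_)
        · calc 2 ^ 2 = Nat.card U := by rw [hU4]; rfl
            _ ≤ _ := card_le_of_le le_sup_left
        · intro h
          have h1 : U = U ⊔ F0 := eq_of_le_of_card_ge le_sup_left (by rw [hU4, ← h]; rfl)
          apply hF01
          rw [eq_bot_iff, ← hUE]
          exact le_inf (h1 ▸ le_sup_right) inf_le_left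
      obtain ⟨A', hUA', hA'le, hA'8⟩ := mid hX U (U ⊔ F0) le_sup_left 3 (by omega) (by simpa using hA')
      norm_num at hA'8
      have hS' : U ⊔ F0 ≤ A ⊔ F0 := sup_le_sup_right hUA F0
      obtain ⟨F, -, hFG0, hF4⟩ := mid hX ⊥ G0 bot_le 2 (by simp) (by rw [show (2 : ℕ) ^ 2 = 4 by norm_num]; exact hG04)
      norm_num at hF4
      have hT : Cfsg.IsElementaryAbelian 2 (U ⊔ G0) := el_sup hUel (el_of_le hE inf_le_left) inf_le_right
      have hA'T : A' ≤ U ⊔ G0 := hA'le.trans (sup_le_sup_left hF0G0 U)
      have hT8 : 8 ≤ Nat.card (U ⊔ G0 : Subgroup X) := hA'8 ▸ card_le_of_le hA'T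
      obtain ⟨B, hFB, hBT, hB8⟩ := mid hX F (U ⊔ G0) (hFG0.trans le_sup_right) 3 (by omega)
        (by simpa using hT8)
      norm_num at hB8
      refine Relation.ReflTransGen.head (hstep _ _ hA hA8 (el_of_le hS (hA'le.trans hS')) hA'8
        (hScent A' (hA'le.trans hS'))) ?_
      refine Relation.ReflTransGen.head (hstep _ _ (el_of_le hS (hA'le.trans hS')) hA'8
        (el_of_le hT hBT) hB8 fun x hx => mem_centralizer_iff.mpr fun y hy =>
          (commute_of_el hT (hBT hy) (hA'T hx)).eq) ?_
      exact hgood B F (el_of_le hT hBT) hB8 hFB (hFG0.trans inf_le_left) (by omega)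
    intro A B hA hA8 hB hB8
    refine (key A hA hA8).trans ?_
    have hsymm : ∀ C D, Relation.ReflTransGen R C D → Relation.ReflTransGen R D C := by
      intro C D h
      induction h with
      | refl => exact .refl
      | tail _ h2 ih =>
        exact Relation.ReflTransGen.head ⟨h2.2.2.1, h2.2.2.2.1, h2.1, h2.2.1, by
          rw [commutator_comm]; exact h2.2.2.2.2⟩ ih
    exact hsymm _ _ (key B hB hB8)
  · intro V hV hV4
    set G0 := (E ⊓ centralizer (V : Set X) : Subgroup X) with hG0
    have hS : Cfsg.IsElementaryAbelian 2 (V ⊔ G0) := el_sup hV (el_of_le hE inf_le_left) inf_le_right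
    have h8 : 8 ≤ Nat.card (V ⊔ G0 : Subgroup X) := by
      refine hpow _ 2 (lt_of_le_of_ne ?_ ?_)
      · calc 2 ^ 2 = Nat.card V := by rw [hV4]; rfl
          _ ≤ _ := card_le_of_le le_sup_left
      · intro h
        have h1 : V = V ⊔ G0 := eq_of_le_of_card_ge le_sup_left (by rw [hV4, ← h]; rfl)
        have h2 : G0 ≤ V := h1 ▸ le_sup_right
        have h3 : G0 = V := eq_of_le_of_card_ge h2 (hV4 ▸ hC2 V hV hV4)
        have hVE : V ≤ E := h3 ▸ inf_le_left
        have h4 : E ≤ V := h3 ▸ le_inf le_rfl fun x hx => mem_centralizer_iff.mpr fun y hy =>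
          (commute_of_el hE (hVE hy) hx).eq
        have := card_le_of_le h4
        omega
    obtain ⟨A, hVA, hAS, hA⟩ := mid hX V (V ⊔ G0) le_sup_left 3 (by omega) (by simpa using h8)
    exact ⟨A, hVA, el_of_le hS hAS, by simpa using hA⟩

end Cfsg.Agent.S1785
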