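import Cfsg.Statements.S2116
import Cfsg.Agent.Lib.StemSexticGlue69
import Cfsg.Agent.Lib.AltDoubleCover
import Cfsg.Agent.Lib.TripleCoverA6Hexad
import Cfsg.Agent.Lib.TripleCoverA7Monomial69
-- import your own Cfsg.Agent.* helpers here

set_option autoImplicit false
open Cfsg

namespace Cfsg.Agent.S2116

open Equiv

theorem not_dvd_index {G : Type} [Group G] [Finite G] (r s : G) (k l N m q : ℕ) (hN : Nat.card G = N)
    (hl : l.Prime) (hr : orderOf r = k) (hs : s ^ l = 1) (hsn : ∀ i : ℕ, i < k → r ^ i ≠ s)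
    (hconj : s * r * s⁻¹ ∈ Subgroup.zpowers r) (hNk : N = k * l * m) (hk0 : 0 < k * l) (hq : ¬ q ∣ m) :
    ¬ q ∣ (Subgroup.closure ({r, s} : Set G)).index := by
  obtain ⟨t, ht⟩ := StemSexticGlue69.dvd_card_closure_pair r s k l hl hr hs hsn hconj
  have h := (Subgroup.closure ({r, s} : Set G)).card_mul_index
  rw [ht, hN, hNk, mul_assoc (k * l)] at h
  intro hd
  exact hq (Nat.eq_of_mul_eq_mul_left hk0 h ▸ hd.mul_left t)

theorem index_zpowers_prime {G : Type} [Group G] [Finite G] (x : G) (N l m : ℕ) (hN : Nat.card G = N)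
    (hl : l.Prime) (hx : x ^ l = 1) (hx1 : x ≠ 1) (hNl : N = l * m) :
    (Subgroup.zpowers x).index = m := by
  haveI : Fact l.Prime := ⟨hl⟩
  have h := (Subgroup.zpowers x).card_mul_index
  rw [Nat.card_zpowers, orderOf_eq_prime hx hx1, hN, hNl] at h
  exact Nat.eq_of_mul_eq_mul_left hl.pos h

theorem card_alt (n : ℕ) (N : ℕ) (hn : 2 ≤ n) (h : n.factorial = 2 * N) :
    Nat.card ↥(alternatingGroup (Fin n)) = N := by
  haveI : Nontrivial (Fin n) := Fin.nontrivial_iff_two_le.2 hn
  have h2 := two_mul_card_alternatingGroup (α := Fin n)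
  rw [Fintype.card_perm, Fintype.card_fin, h] at h2
  rw [Nat.card_eq_fintype_card]
  omega

set_option maxHeartbeats 2000000 in
theorem six : Cfsg.HasCyclicSchurMultiplier ↥(alternatingGroup (Fin 6)) 6 := by
  refine ⟨StemSexticGlue69.exists_sextic (AltDoubleCover.proj 6) TripleCoverA6Hexad.proj ?_ ?_
    (AltDoubleCover.z 6) TripleCoverA6Hexad.z (AltDoubleCover.ker_proj 6) TripleCoverA6Hexad.ker_proj
    (AltDoubleCover.orderOf_z 6) (haveI : Fact (Nat.Prime 3) := ⟨Nat.prime_three⟩;
      orderOf_eq_prime TripleCoverA6Hexad.z_pow_three TripleCoverA6Hexad.z_ne_one), ?_⟩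
  · refine ⟨AltDoubleCover.proj_surjective 6, ?_, ?_⟩
    · rw [AltDoubleCover.ker_proj, Subgroup.zpowers_le]; exact AltDoubleCover.z_mem_center 6
    · rw [AltDoubleCover.ker_proj, Subgroup.zpowers_le,
        AltDoubleCover.z_eq_commutator (a := (0 : Fin 6)) (b := 1) (c := 2) (d := 3) (by decide) (by decide)
          (by decide) (by decide) (by unfold AltDoubleCover.Disj; decide)]
      exact Subgroup.commutator_mem_commutator (Subgroup.mem_top _) (Subgroup.mem_top _)
  · refine ⟨TripleCoverA6Hexad.proj_surjective, TripleCoverA6Hexad.ker_central, ?_⟩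
    rw [TripleCoverA6Hexad.ker_proj, Subgroup.zpowers_le]
    exact Subgroup.commutator_mem_commutator (Subgroup.mem_top TripleCoverA6Hexad.liftA)
      (Subgroup.mem_top TripleCoverA6Hexad.liftB)
  · intro Δ _ _ τ hτ
    let G := ↥(alternatingGroup (Fin 6))
    let r : G := ⟨swap 0 1 * swap 1 2 * swap 2 3 * swap 4 5, by simp [Equiv.Perm.mem_alternatingGroup]⟩
    let s : G := ⟨swap 1 3 * swap 4 5, by simp [Equiv.Perm.mem_alternatingGroup]⟩
    let a : G := ⟨swap 0 1 * swap 1 2, by simp [Equiv.Perm.mem_alternatingGroup]⟩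
    let b : G := ⟨swap 3 4 * swap 4 5, by simp [Equiv.Perm.mem_alternatingGroup]⟩
    have hN : Nat.card G = 360 := card_alt 6 360 (by norm_num) (by rfl)
    have hsr : s * r * s⁻¹ = r⁻¹ := by decide +kernel
    have hr4 : orderOf r = 4 := orderOf_eq_prime_pow (p := 2) (n := 1) (by decide +kernel) (by decide +kernel)
    have hab : b * a = a * b := by decide +kernel
    have ha3 : a ^ 3 = 1 := by decide +kernel
    haveI : Fact (Nat.Prime 3) := ⟨Nat.prime_three⟩
    refine StemSexticGlue69.exists_surjective hτ r s a b hsr ?_ (by decide +kernel)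
      hab ha3 ?_ ?_ ?_
    · exact hr4
    · exact not_dvd_index r s 4 2 360 45 2 hN Nat.prime_two hr4 (by decide +kernel) (by decide +kernel)
        (by rw [hsr]; exact inv_mem (Subgroup.mem_zpowers r)) rfl (by norm_num) (by norm_num)
    · exact not_dvd_index a b 3 3 360 40 3 hN Nat.prime_three
        (orderOf_eq_prime ha3 (by decide +kernel)) (by decide +kernel) (by decide +kernel)
        (by rw [hab, mul_inv_cancel_right]; exact Subgroup.mem_zpowers a) rfl (by norm_num) (by norm_num)
    · intro l hl hl2 hl3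
      by_cases hl5 : l = 5
      · subst hl5
        refine ⟨⟨swap 0 1 * swap 1 2 * swap 2 3 * swap 3 4, by
          simp [Equiv.Perm.mem_alternatingGroup]⟩, ?_⟩
        rw [index_zpowers_prime _ 360 5 72 hN hl (by decide +kernel) (by decide +kernel) rfl]
        norm_num
      · refine ⟨1, ?_⟩
        rw [Subgroup.zpowers_one_eq_bot, Subgroup.index_bot, hN, show 360 = 2 ^ 3 * (3 ^ 2 * 5) by rfl]
        intro h
        have hq : ∀ q : ℕ, q.Prime → ∀ k, l ∣ q ^ k → l = q := fun q hq k h =>
          (Nat.prime_dvd_prime_iff_eq hl hq).1 (hl.dvd_of_dvd_pow h)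
        rcases hl.dvd_mul.1 h with h | h
        · exact hl2 (hq 2 Nat.prime_two 3 h)
        rcases hl.dvd_mul.1 h with h | h
        · exact hl3 (hq 3 Nat.prime_three 2 h)
        · exact hl5 (hq 5 Nat.prime_five 1 (by simpa using h))

set_option maxHeartbeats 2000000 in
theorem seven : Cfsg.HasCyclicSchurMultiplier ↥(alternatingGroup (Fin 7)) 6 := by
  refine ⟨StemSexticGlue69.exists_sextic (AltDoubleCover.proj 7) TripleCoverA7Monomial69.proj ?_ ?_
    (AltDoubleCover.z 7) TripleCoverA7Monomial69.z (AltDoubleCover.ker_proj 7) TripleCoverA7Monomial69.ker_proj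
    (AltDoubleCover.orderOf_z 7) TripleCoverA7Monomial69.orderOf_z, ?_⟩
  · refine ⟨AltDoubleCover.proj_surjective 7, ?_, ?_⟩
    · rw [AltDoubleCover.ker_proj, Subgroup.zpowers_le]; exact AltDoubleCover.z_mem_center 7
    · rw [AltDoubleCover.ker_proj, Subgroup.zpowers_le,
        AltDoubleCover.z_eq_commutator (a := (0 : Fin 7)) (b := 1) (c := 2) (d := 3) (by decide) (by decide)
          (by decide) (by decide) (by unfold AltDoubleCover.Disj; decide)]
      exact Subgroup.commutator_mem_commutator (Subgroup.mem_top _) (Subgroup.mem_top _)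
  · exact TripleCoverA7Monomial69.proj_isStem
  · intro Δ _ _ τ hτ
    let G := ↥(alternatingGroup (Fin 7))
    let r : G := ⟨swap 0 1 * swap 1 2 * swap 2 3 * swap 4 5, by simp [Equiv.Perm.mem_alternatingGroup]⟩
    let s : G := ⟨swap 1 3 * swap 4 5, by simp [Equiv.Perm.mem_alternatingGroup]⟩
    let a : G := ⟨swap 0 1 * swap 1 2, by simp [Equiv.Perm.mem_alternatingGroup]⟩
    let b : G := ⟨swap 3 4 * swap 4 5, by simp [Equiv.Perm.mem_alternatingGroup]⟩
    have hN : Nat.card G = 2520 := card_alt 7 2520 (by norm_num) (by rfl)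
    have hsr : s * r * s⁻¹ = r⁻¹ := by decide +kernel
    have hr4 : orderOf r = 4 := orderOf_eq_prime_pow (p := 2) (n := 1) (by decide +kernel) (by decide +kernel)
    have hab : b * a = a * b := by decide +kernel
    have ha3 : a ^ 3 = 1 := by decide +kernel
    haveI : Fact (Nat.Prime 3) := ⟨Nat.prime_three⟩
    refine StemSexticGlue69.exists_surjective hτ r s a b hsr ?_ (by decide +kernel)
      hab ha3 ?_ ?_ ?_
    · exact hr4
    · exact not_dvd_index r s 4 2 2520 315 2 hN Nat.prime_two hr4 (by decide +kernel) (by decide +kernel)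
        (by rw [hsr]; exact inv_mem (Subgroup.mem_zpowers r)) rfl (by norm_num) (by norm_num)
    · exact not_dvd_index a b 3 3 2520 280 3 hN Nat.prime_three
        (orderOf_eq_prime ha3 (by decide +kernel)) (by decide +kernel) (by decide +kernel)
        (by rw [hab, mul_inv_cancel_right]; exact Subgroup.mem_zpowers a) rfl (by norm_num) (by norm_num)
    · intro l hl hl2 hl3
      by_cases hl5 : l = 5
      · subst hl5
        refine ⟨⟨swap 0 1 * swap 1 2 * swap 2 3 * swap 3 4, by
          simp [Equiv.Perm.mem_alternatingGroup]⟩, ?_⟩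
        rw [index_zpowers_prime _ 2520 5 504 hN hl (by decide +kernel) (by decide +kernel) rfl]
        norm_num
      by_cases hl7 : l = 7
      · subst hl7
        refine ⟨⟨swap 0 1 * swap 1 2 * swap 2 3 * swap 3 4 * swap 4 5 * swap 5 6, by
          simp [Equiv.Perm.mem_alternatingGroup]⟩, ?_⟩
        rw [index_zpowers_prime _ 2520 7 360 hN hl (by decide +kernel) (by decide +kernel) rfl]
        norm_num
      · refine ⟨1, ?_⟩
        rw [Subgroup.zpowers_one_eq_bot, Subgroup.index_bot, hN, show 2520 = 2 ^ 3 * (3 ^ 2 * (5 * 7)) by rfl]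
        intro h
        have hq : ∀ q : ℕ, q.Prime → ∀ k, l ∣ q ^ k → l = q := fun q hq k h =>
          (Nat.prime_dvd_prime_iff_eq hl hq).1 (hl.dvd_of_dvd_pow h)
        rcases hl.dvd_mul.1 h with h | h
        · exact hl2 (hq 2 Nat.prime_two 3 h)
        rcases hl.dvd_mul.1 h with h | h
        · exact hl3 (hq 3 Nat.prime_three 2 h)
        rcases hl.dvd_mul.1 h with h | h
        · exact hl5 (hq 5 Nat.prime_five 1 (by simpa using h))
        · exact hl7 (hq 7 (by norm_num) 1 (by simpa using h))

/-- Exceptional Schur multipliers of the alternating groups: for n = 6 and n = 7 the Schur multiplier of the alternating group of degree n is cyclic of order 6 (here the Schur multiplier is described through stem extensions, as in the definitions). -/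
theorem result (n : ℕ) (hn : n = 6 ∨ n = 7) : Cfsg.HasCyclicSchurMultiplier (alternatingGroup (Fin n)) 6 := by
  rcases hn with rfl | rfl
  exacts [six, seven]

end Cfsg.Agent.S2116
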