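import Cfsg.Statements.S2118
import Cfsg.Agent.Lib.TripleCoverA6Hexad
import Cfsg.Agent.Lib.StemSL2
import Cfsg.Agent.S0254

set_option autoImplicit false
open Cfsg

namespace Cfsg.Agent.S2118

open Subgroup
open scoped MatrixGroups commutatorElement

/-- A group with central kernel over a group killed by two has `w ^ 4 = (fst w ^ 4, 1)`. -/
theorem kernel_bound {F : Type*} [Field F] [Fintype F] (hF : Fintype.card F = 9) {Δ : Type*} [Group Δ]
    [Finite Δ] {τ : Δ →* SL(2, F)} (hτ : Cfsg.IsStemExtension τ) :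
    ∃ c : Δ, τ c = 1 ∧ c ^ 3 = 1 ∧ ∀ z : Δ, τ z = 1 → z ∈ zpowers c := by
  haveI : Fact (Nat.Prime 3) := ⟨Nat.prime_three⟩
  have h3 : (3 : F) = 0 := by
    have h9 : ((9 : ℕ) : F) = 0 := by rw [← hF]; exact Nat.cast_card_eq_zero F
    exact pow_eq_zero_iff (n := 2) (by norm_num) |>.1 (by push_cast at h9; linear_combination h9)
  haveI : CharP F 3 := CharP.charP_iff_prime_eq_zero Nat.prime_three |>.2 (by exact_mod_cast h3)
  have hu3 : ∀ x : F, PSL2Elements.u x ^ 3 = 1 := fun x => by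
    rw [pow_succ, pow_two, PSL2Elements.u_mul, PSL2Elements.u_mul,
      show x + x + x = 0 by linear_combination x * h3]
    exact map_one (PSL2Elements.uHom (F := F))
  set U : Subgroup SL(2, F) := (PSL2Elements.uHom (F := F)).range with hU
  have hUcard : Nat.card U = 9 := by
    rw [← Nat.card_congr (MonoidHom.ofInjective PSL2Elements.uHom_injective).toEquiv,
      Nat.card_congr Multiplicative.toAdd, Nat.card_eq_fintype_card, hF]
  have humem : ∀ x : F, PSL2Elements.u x ∈ U := fun x => ⟨Multiplicative.ofAdd x, rfl⟩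
  -- two generators
  have hone : PSL2Elements.u (1 : F) ≠ 1 := fun h => one_ne_zero (α := F)
    (congrArg Multiplicative.toAdd (PSL2Elements.uHom_injective (F := F)
      (a₁ := Multiplicative.ofAdd 1) (a₂ := 1) (h.trans (map_one PSL2Elements.uHom).symm)))
  have ho : orderOf (PSL2Elements.u (1 : F)) = 3 := orderOf_eq_prime (hu3 1) hone
  obtain ⟨t, ht⟩ : ∃ t : F, PSL2Elements.u t ∉ zpowers (PSL2Elements.u (1 : F)) := by
    by_contra! h
    have hle : U ≤ zpowers (PSL2Elements.u (1 : F)) := by rintro _ ⟨x, rfl⟩; exact h x.toAdd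
    have := Subgroup.card_le_of_le hle
    rw [Nat.card_zpowers, ho, hUcard] at this
    omega
  have hgen : closure ({PSL2Elements.u (1 : F), PSL2Elements.u t} : Set SL(2, F)) = U := by
    have hle : closure ({PSL2Elements.u (1 : F), PSL2Elements.u t} : Set SL(2, F)) ≤ U := by
      rw [closure_le]
      rintro x (rfl | rfl) <;> exact humem _
    refine Subgroup.eq_of_le_of_card_ge hle ?_
    have h1 : zpowers (PSL2Elements.u (1 : F)) ≤ closure {PSL2Elements.u (1 : F), PSL2Elements.u t} :=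
      zpowers_le.2 (subset_closure (Set.mem_insert _ _))
    have hdvd : Nat.card ↥(closure ({PSL2Elements.u (1 : F), PSL2Elements.u t} : Set SL(2, F))) ∣ 3 ^ 2 := by
      have := Subgroup.card_dvd_of_le hle
      rwa [hUcard] at this
    obtain ⟨k, hk, hk'⟩ := (Nat.dvd_prime_pow Nat.prime_three).1 hdvd
    interval_cases k
    · have := Subgroup.card_le_of_le h1
      rw [Nat.card_zpowers, ho, hk'] at this
      norm_num at this
    · exfalso
      have e := Subgroup.eq_of_le_of_card_ge h1 (by rw [hk', Nat.card_zpowers, ho]; norm_num)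
      exact ht (e ▸ subset_closure (Set.mem_insert_of_mem _ rfl))
    · rw [hk', hUcard]; norm_num
  obtain ⟨α, hα⟩ := hτ.1 (PSL2Elements.u (1 : F))
  obtain ⟨β, hβ⟩ := hτ.1 (PSL2Elements.u t)
  set c : Δ := β * α * β⁻¹ * α⁻¹ with hc
  have hτc : τ c = 1 := by
    simp only [hc, map_mul, map_inv, hα, hβ]
    rw [PSL2Elements.u_mul, add_comm t 1, ← PSL2Elements.u_mul, mul_inv_cancel_right, mul_inv_cancel]
  have hcen : ∀ z : Δ, τ z = 1 → ∀ g : Δ, g * z = z * g := fun z hz g =>
    StemBasic.ker_comm hτ.2.1 hz g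
  have hc3 : c ^ 3 = 1 := by
    have hcomm : Commute c α := (hcen c hτc α).symm
    have hconj : (c * α) ^ 3 = α ^ 3 := by
      have e : c * α = β * α * β⁻¹ := by rw [hc]; group
      rw [e, conj_pow, hcen (α ^ 3) (by rw [map_pow, hα, hu3]) β, mul_inv_cancel_right]
    rw [hcomm.mul_pow] at hconj
    exact mul_right_cancel (hconj.trans (one_mul _).symm)
  refine ⟨c, hτc, hc3, fun z hz => ?_⟩
  -- the order of `z` is a power of three
  have hcop : Nat.Coprime (orderOf z) U.index := by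
    have hidx : U.index = 80 := by
      have h := U.index_mul_card
      rw [StemSL2.card_SL2', hUcard, hF] at h
      omega
    rw [hidx]
    refine Nat.coprime_of_dvd fun l hl hlz hl80 => ?_
    by_cases hl3 : l = 3
    · subst hl3; norm_num at hl80
    · exact StemSL2.kill_prime 3 hτ hl hl3 (z := z ^ (orderOf z / l))
        (by rw [map_pow, hz, one_pow]) (orderOf_pow_orderOf_div (orderOf_pos z).ne' hlz)
  set K : Subgroup Δ := U.comap τ with hK
  have hzK : z ∈ K := by show τ z ∈ U; rw [hz]; exact one_mem U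
  obtain ⟨⟨w, hwK⟩, hw, rfl⟩ := StemBasic.mem_commutator_of_index hzK (hτ.2.1 hz) (hτ.2.2 hz)
    (by rw [hK, StemBasic.index_comap hτ.1]; exact hcop)
  have hαK : α ∈ K := by show τ α ∈ U; rw [hα]; exact humem _
  have hβK : β ∈ K := by show τ β ∈ U; rw [hβ]; exact humem _
  have hcK : c ∈ K := by show τ c ∈ U; rw [hτc]; exact one_mem U
  have hKeq : K = closure {α, β} ⊔ τ.ker := by
    rw [hK, ← Subgroup.comap_map_eq, MonoidHom.map_closure, Set.image_pair, hα, hβ, hgen]
  have hgenK : closure (({⟨α, hαK⟩, ⟨β, hβK⟩} : Set K) ∪ (center K : Set K)) = ⊤ := by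
    rw [eq_top_iff]
    have hle : K ≤ (closure (({⟨α, hαK⟩, ⟨β, hβK⟩} : Set K) ∪ (center K : Set K))).map K.subtype := by
      conv_lhs => rw [hKeq]
      refine sup_le ((closure_le _).2 ?_) ?_
      · rintro x (rfl | rfl)
        · exact ⟨⟨x, hαK⟩, subset_closure (Or.inl (Or.inl rfl)), rfl⟩
        · exact ⟨⟨x, hβK⟩, subset_closure (Or.inl (Or.inr rfl)), rfl⟩
      · intro x hx
        have hxK : x ∈ K := by show τ x ∈ U; rw [MonoidHom.mem_ker.1 hx]; exact one_mem U
        exact ⟨⟨x, hxK⟩, subset_closure (Or.inr (mem_center_iff.2 fun g =>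
          Subtype.ext (hcen x hx g))), rfl⟩
    rintro ⟨x, hx⟩ -
    obtain ⟨y, hy, rfl⟩ := hle hx
    exact hy
  have hcz : ∀ g : K, g * ⟨c, hcK⟩ = ⟨c, hcK⟩ * g := fun g => Subtype.ext (hcen c hτc g)
  have hmem : ∀ g : K, g * ⟨c, hcK⟩ * g⁻¹ ∈ zpowers (⟨c, hcK⟩ : K) := fun g => by
    rw [hcz g, mul_inv_cancel_right]; exact mem_zpowers _
  have hmem' : ∀ g : K, g⁻¹ * ⟨c, hcK⟩ * g ∈ zpowers (⟨c, hcK⟩ : K) := fun g => by
    rw [mul_assoc, ← hcz g, inv_mul_cancel_left]; exact mem_zpowers _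
  obtain ⟨k, hk⟩ := StemBasic.commutator_le_zpowers (⟨α, hαK⟩ : K) ⟨β, hβK⟩ hgenK ⟨c, hcK⟩ rfl
    (hmem _) (hmem _) (hmem' _) (hmem' _) hw
  exact ⟨k, by simpa using congrArg Subtype.val hk⟩


/-- For the field with 9 elements, the special linear group SL₂ has Schur multiplier cyclic of order 3 (here the Schur multiplier is described through stem extensions, as in the definitions). -/
theorem result {F : Type*} [Field F] [Fintype F] (hF : Fintype.card F = 9) : Cfsg.HasCyclicSchurMultiplier (Matrix.SpecialLinearGroup (Fin 2) F) 3 := by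
  obtain ⟨e⟩ := Cfsg.Agent.S0254.result hF
  let ψ : SL(2, F) →* ↥(alternatingGroup (Fin 6)) :=
    e.toMonoidHom.comp (QuotientGroup.mk' (Subgroup.center SL(2, F)))
  have hψs : Function.Surjective ψ := e.surjective.comp (QuotientGroup.mk'_surjective _)
  have hψk : ∀ y, ψ y = 1 → y ∈ Subgroup.center SL(2, F) := fun y hy =>
    (QuotientGroup.eq_one_iff y).1 ((map_eq_one_iff _ e.injective).1 hy)
  let θ := TripleCoverA6Hexad.proj
  let Γ : Subgroup (↥TripleCoverA6Hexad.cover × SL(2, F)) :=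
    MonoidHom.eqLocus (θ.comp (MonoidHom.fst _ _)) (ψ.comp (MonoidHom.snd _ _))
  let σ : ↥Γ →* SL(2, F) := (MonoidHom.snd _ _).comp Γ.subtype
  have hσs : Function.Surjective σ := fun y => by
    obtain ⟨d, hd⟩ := TripleCoverA6Hexad.proj_surjective (ψ y)
    exact ⟨⟨(d, y), hd⟩, rfl⟩
  let z₀ : ↥Γ := ⟨(TripleCoverA6Hexad.z, 1), by
    show θ TripleCoverA6Hexad.z = ψ 1
    rw [map_one]; exact TripleCoverA6Hexad.proj_z⟩
  have hker : σ.ker = Subgroup.zpowers z₀ := by
    refine le_antisymm ?_ (Subgroup.zpowers_le.2 rfl)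
    rintro ⟨⟨d, y⟩, hdy⟩ hx
    have hy : y = 1 := hx
    subst hy
    have hd : d ∈ θ.ker := by
      rw [MonoidHom.mem_ker]
      have h : θ d = ψ 1 := hdy
      rw [h, map_one]
    rw [TripleCoverA6Hexad.ker_proj] at hd
    obtain ⟨k, hk⟩ := hd
    exact ⟨k, Subtype.ext (Prod.ext (by simpa [z₀] using hk) (by simp [z₀]))⟩
  have hz3 : z₀ ^ 3 = 1 := Subtype.ext (Prod.ext TripleCoverA6Hexad.z_pow_three (one_pow 3))
  have hz1 : z₀ ≠ 1 := fun h => TripleCoverA6Hexad.z_ne_one
    (congrArg (fun x : ↥Γ => x.1.1) h)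
  haveI : Fact (Nat.Prime 3) := ⟨Nat.prime_three⟩
  have hoz : orderOf z₀ = 3 := orderOf_eq_prime hz3 hz1
  have hcen : σ.ker ≤ Subgroup.center ↥Γ := by
    rw [hker, Subgroup.zpowers_le, Subgroup.mem_center_iff]
    intro x
    refine Subtype.ext (Prod.ext ?_ ?_)
    · exact Subgroup.mem_center_iff.1
        (TripleCoverA6Hexad.ker_central TripleCoverA6Hexad.proj_z) x.1.1
    · show x.1.2 * 1 = 1 * x.1.2
      rw [one_mul, mul_one]
  have hcomm : σ.ker ≤ commutator ↥Γ := by
    rw [hker, Subgroup.zpowers_le]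
    obtain ⟨A, hA⟩ := hψs (θ TripleCoverA6Hexad.liftA)
    obtain ⟨B, hB⟩ := hψs (θ TripleCoverA6Hexad.liftB)
    let a : ↥Γ := ⟨(TripleCoverA6Hexad.liftA, A), hA.symm⟩
    let b : ↥Γ := ⟨(TripleCoverA6Hexad.liftB, B), hB.symm⟩
    have hy : ⁅A, B⁆ ^ 4 = 1 := by
      have hcc : ⁅A, B⁆ ∈ Subgroup.center SL(2, F) := hψk _ (by
        rw [map_commutatorElement, hA, hB, ← map_commutatorElement]
        exact TripleCoverA6Hexad.proj_z)
      obtain ⟨r, hr, hr'⟩ := Matrix.SpecialLinearGroup.mem_center_iff.1 hcc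
      rw [Fintype.card_fin] at hr
      refine Subtype.ext ?_
      rw [Matrix.SpecialLinearGroup.coe_pow, ← hr', ← map_pow,
        show r ^ 4 = 1 by rw [show (4 : ℕ) = 2 * 2 from rfl, pow_mul, hr, one_pow], map_one]
      rfl
    have hab : ⁅a, b⁆ ∈ commutator ↥Γ :=
      Subgroup.commutator_mem_commutator (Subgroup.mem_top a) (Subgroup.mem_top b)
    have heq : z₀ = ⁅a, b⁆ ^ 4 := by
      refine Subtype.ext (Prod.ext ?_ hy.symm)
      show TripleCoverA6Hexad.z = TripleCoverA6Hexad.z ^ 4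
      rw [pow_succ, TripleCoverA6Hexad.z_pow_three, one_mul]
    rw [heq]
    exact pow_mem hab 4
  refine ⟨⟨↥Γ, inferInstance, inferInstance, σ, ⟨hσs, hcen, hcomm⟩, ?_⟩, ?_⟩
  · have hcard : Nat.card σ.ker = 3 := by rw [hker, Nat.card_zpowers, hoz]
    haveI : IsCyclic σ.ker := isCyclic_of_prime_card hcard
    exact ⟨(zmodCyclicMulEquiv (G := σ.ker) inferInstance).symm.trans
      ((ZMod.ringEquivCongr hcard).toAddEquiv.toMultiplicative)⟩
  · intro Δ _ _ τ hτ
    obtain ⟨c, hτc, hc3, hgen⟩ := kernel_bound hF hτ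
    let f : ZMod 3 →+ Additive τ.ker := ZMod.lift 3
      ⟨zmultiplesHom _ (Additive.ofMul (⟨c, hτc⟩ : τ.ker)), by
        refine Additive.toMul.injective ?_
        apply Subtype.ext
        simpa [zpow_natCast] using hc3⟩
    refine ⟨AddMonoidHom.toMultiplicativeLeft f, fun x => ?_⟩
    obtain ⟨k, hk⟩ := hgen x.1 x.2
    refine ⟨Multiplicative.ofAdd (k : ZMod 3), Subtype.ext ?_⟩
    show ((Additive.toMul (f (k : ZMod 3)) : τ.ker) : Δ) = x.1
    simp [f, ← hk]

end Cfsg.Agent.S2118
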