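import Cfsg.Statements.S1850
import Cfsg.Agent.Lib.CharTwoLocal
-- import your own Cfsg.Agent.* helpers here

set_option autoImplicit false
open Cfsg

namespace Cfsg.Agent.S1850

/-- Let G be a non-abelian finite simple QTKE-group and T a Sylow 2-subgroup of G. If U is a nontrivial 2-subgroup of G with U ∩ Z(T) ≠ 1, then F*(N_G(U)) = O₂(N_G(U)). -/
theorem result {G : Type*} [Group G] [Finite G] [IsSimpleGroup G]
    (hG : ¬ IsMulCommutative G) (hQ : Cfsg.IsQTKE G) (T : Sylow 2 G) (U : Subgroup G)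
    (hU : IsPGroup 2 ↥U) (hZ : U ⊓ ((T : Subgroup G) ⊓ Subgroup.centralizer ((T : Subgroup G) : Set G)) ≠ ⊥) :
    Subgroup.normalizer (U : Set G) ∈ Cfsg.calHe G := by
  haveI := Fact.mk Nat.prime_two
  set D : Subgroup G := U ⊓ ((T : Subgroup G) ⊓ Subgroup.centralizer ((T : Subgroup G) : Set G)) with hD
  obtain ⟨k, hk⟩ := IsPGroup.iff_card.mp (hU.to_le (inf_le_left : D ≤ U))
  have hk0 : k ≠ 0 := by
    rintro rfl
    exact hZ (Subgroup.card_eq_one.mp (hk.trans (pow_zero 2)))
  obtain ⟨z, hz⟩ := exists_prime_orderOf_dvd_card' (G := ↥D) 2 (by rw [hk]; exact dvd_pow_self 2 hk0)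
  set w : G := (z : G) with hw
  have hwo : orderOf w = 2 := by rw [hw, Subgroup.orderOf_coe, hz]
  set X := Subgroup.centralizer ({w} : Set G) with hX
  have hTX : (T : Subgroup G) ≤ X := fun a ha => by
    rw [hX, Subgroup.mem_centralizer_singleton_iff]
    exact Subgroup.mem_centralizer_iff.mp z.2.2.2 a ha
  have hloc : Cfsg.IsTwoLocal X := by
    refine ⟨Subgroup.zpowers w, IsPGroup.of_card (n := 1) (by rw [Nat.card_zpowers, hwo, pow_one]), ?_, ?_⟩
    · rw [Ne, Subgroup.zpowers_eq_bot]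
      intro h
      rw [h, orderOf_one] at hwo
      omega
    · refine le_antisymm (fun x hx => ?_) (fun x hx => ?_)
      · refine Subgroup.mem_normalizer_fintype fun a ha => ?_
        obtain ⟨i, rfl⟩ := Subgroup.mem_zpowers_iff.mp ha
        rw [hX, Subgroup.mem_centralizer_singleton_iff] at hx
        rw [(Commute.zpow_right hx i).eq, mul_inv_cancel_right]
        exact Subgroup.zpow_mem_zpowers w i
      · rw [hX, Subgroup.mem_centralizer_singleton_iff]
        have h := (Subgroup.mem_normalizer_iff.mp hx w).mp (Subgroup.mem_zpowers w)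
        obtain ⟨i, hi⟩ := Subgroup.mem_zpowers_iff.mp h
        have h2 : w ^ 2 = 1 := by rw [← hwo]; exact pow_orderOf_eq_one w
        rcases Int.even_or_odd' i with ⟨j, rfl | rfl⟩
        · rw [zpow_mul, zpow_two, ← pow_two, h2, one_zpow, eq_comm, mul_inv_eq_one, mul_eq_left] at hi
          rw [hi, orderOf_one] at hwo
          omega
        · rw [zpow_add, zpow_mul, zpow_two, ← pow_two, h2, one_zpow, one_mul, zpow_one] at hi
          exact (eq_mul_inv_iff_mul_eq.mp hi).symm
  have hXc : Cfsg.IsOfCharacteristicTwo ↥X := hQ.2.2 X hloc ⟨T, hTX⟩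
  -- climb from `C_U(w)` to `U`
  let P : Subgroup G → Prop := fun V => V ≤ U ∧
    Subgroup.centralizer (V : Set G) ≤ X ∧ Cfsg.IsOfCharacteristicTwo ↥(Subgroup.normalizer (V : Set G))
  have hP : P (U ⊓ X) := by
    have hc : Subgroup.centralizer ((U ⊓ X : Subgroup G) : Set G) ≤ X :=
      Subgroup.centralizer_le (Set.singleton_subset_iff.mpr
        ⟨z.2.1, Subgroup.mem_centralizer_singleton_iff.mpr rfl⟩)
    exact ⟨inf_le_left, hc,
      Cfsg.Agent.CharTwoLocal.charTwo_normalizer hXc (hU.to_le inf_le_left) inf_le_right hc⟩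
  obtain ⟨V, -, ⟨hVU, hVC, hV⟩, hmax⟩ := Finite.exists_le_maximal (p := P) hP
  have hVeq : V = U := by
    by_contra hne
    haveI : Group.IsNilpotent ↥U := hU.isNilpotent
    have hne' : V.subgroupOf U ≠ ⊤ := fun h => hne (le_antisymm hVU (Subgroup.subgroupOf_eq_top.mp h))
    obtain ⟨x, hxN, hxV⟩ := SetLike.exists_of_lt
      (Group.normalizerCondition_of_isNilpotent (V.subgroupOf U) (lt_top_iff_ne_top.mpr hne'))
    have hxN' : (x : G) ∈ Subgroup.normalizer (V : Set G) :=
      Subgroup.mem_normalizer_fintype fun a ha =>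
        (Subgroup.mem_normalizer_iff.mp hxN ⟨a, hVU ha⟩).mp ha
    set W : Subgroup G := U ⊓ Subgroup.normalizer (V : Set G) with hW
    have hVW : V ≤ W := le_inf hVU Subgroup.le_normalizer
    have hc : Subgroup.centralizer (W : Set G) ≤ Subgroup.centralizer (V : Set G) :=
      Subgroup.centralizer_le hVW
    have hPW : P W := ⟨inf_le_left, hc.trans hVC,
      Cfsg.Agent.CharTwoLocal.charTwo_normalizer hV (hU.to_le inf_le_left) inf_le_right
        (hc.trans (Subgroup.centralizer_le_normalizer _))⟩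
    exact hxV (hmax hPW hVW ⟨x.2, hxN'⟩)
  rw [hVeq] at hV
  exact Cfsg.Agent.CharTwoLocal.gen_eq_of_charTwo hV

end Cfsg.Agent.S1850
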