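import Cfsg.Statements.S1851
import Cfsg.Agent.Lib.CharTwoLocal
-- import your own Cfsg.Agent.* helpers here

set_option autoImplicit false
open Cfsg

namespace Cfsg.Agent.S1851

open Subgroup Cfsg.Agent.CharTwoLocal
open scoped commutatorElement

theorem odd_mem_of_subnormal {M : Type*} [Group M] [Finite M] {L Q : Subgroup M} [Q.Normal]
    (hQ : IsPGroup 2 ↥Q) (htop : L ⊔ Q = ⊤) {L₀ : Subgroup M} (h : L₀.IsSubnormal) :
    L ≤ L₀ → ∀ y : M, Odd (orderOf y) → y ∈ L₀ := by
  induction h with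
  | top => intro _ y _; exact mem_top y
  | step A B hle hB hN ih =>
    intro hLA y hy
    haveI := hN
    have hyB : y ∈ B := ih (hLA.trans hle) y hy
    have hy' : y ∈ (↑(L ⊔ Q) : Set M) := by rw [htop]; trivial
    rw [mul_normal] at hy'
    obtain ⟨l, hl, q, hq, rfl⟩ := hy'
    have hqB : q ∈ B := by
      have := B.mul_mem (B.inv_mem (hle (hLA hl))) hyB
      simpa using this
    obtain ⟨k, hk⟩ := hQ ⟨q, hq⟩
    have hk' : q ^ 2 ^ k = 1 := by simpa [Subtype.ext_iff] using hk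
    set π := QuotientGroup.mk' (A.subgroupOf B)
    have e : π ⟨l * q, hyB⟩ = π ⟨q, hqB⟩ := by
      have : (⟨l * q, hyB⟩ : ↥B) = ⟨l, hle (hLA hl)⟩ * ⟨q, hqB⟩ := rfl
      rw [this, map_mul, show π ⟨l, hle (hLA hl)⟩ = 1 from (QuotientGroup.eq_one_iff _).mpr (hLA hl),
        one_mul]
    have h1 : orderOf (π ⟨l * q, hyB⟩) ∣ orderOf (l * q) := by
      have := orderOf_map_dvd π (⟨l * q, hyB⟩ : ↥B)
      rwa [← Subgroup.orderOf_coe] at this
    have h2 : orderOf (π ⟨l * q, hyB⟩) ∣ 2 ^ k := by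
      rw [e]
      refine orderOf_dvd_of_pow_eq_one ?_
      rw [← map_pow, show (⟨q, hqB⟩ : ↥B) ^ 2 ^ k = 1 from Subtype.ext (by simpa using hk'), map_one]
    have h3 : orderOf (π ⟨l * q, hyB⟩) = 1 :=
      Nat.eq_one_of_dvd_coprimes (Nat.Coprime.pow_right k (Nat.coprime_two_right.mpr hy)) h1 h2
    exact (QuotientGroup.eq_one_iff (N := A.subgroupOf B) (⟨l * q, hyB⟩ : ↥B)).mp (orderOf_eq_one_iff.mp h3)

theorem odd_sup_mem {G : Type*} [Group G] [Finite G] {H L Q : Subgroup G} (hLH : L ≤ H) (hQH : Q ≤ H)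
    (hL : (L.subgroupOf H).IsSubnormal) (hQn : H ≤ normalizer (Q : Set G)) (hQ : IsPGroup 2 ↥Q)
    {y : G} (hy : y ∈ L ⊔ Q) (ho : Odd (orderOf y)) : y ∈ L := by
  set M : Subgroup G := L ⊔ Q with hM
  haveI : (Q.subgroupOf M).Normal :=
    (normal_subgroupOf_iff_le_normalizer le_sup_right).mpr ((sup_le hLH hQH).trans hQn)
  have htop : L.subgroupOf M ⊔ Q.subgroupOf M = ⊤ := by
    rw [← subgroupOf_sup le_sup_left le_sup_right, subgroupOf_self]
  have hsub : (L.subgroupOf M).IsSubnormal := by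
    have := hL.comap (inclusion (sup_le hLH hQH : M ≤ H))
    exact this
  exact odd_mem_of_subnormal (hQ.of_equiv (subgroupOfEquivOfLe le_sup_right).symm) htop hsub le_rfl
    (⟨y, hy⟩ : ↥M) (by rwa [← Subgroup.orderOf_coe])

theorem perfect_oddGenerated {G : Type*} [Group G] [Finite G] {K : Subgroup G} (hK : ⁅K, K⁆ = K) :
    Cfsg.oddGenerated K = K := by
  haveI := Fact.mk Nat.prime_two
  have hle : Cfsg.oddGenerated K ≤ K := (closure_le _).mpr fun x hx => hx.1
  refine le_antisymm hle ?_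
  have hn : ∀ x ∈ K, ∀ a ∈ Cfsg.oddGenerated K, x * a * x⁻¹ ∈ Cfsg.oddGenerated K := by
    intro x hx
    suffices Cfsg.oddGenerated K ≤ (Cfsg.oddGenerated K).comap (MulAut.conj x).toMonoidHom from
      fun a ha => this ha
    refine (closure_le _).mpr ?_
    rintro a ⟨ha, hao⟩
    refine subset_closure ⟨K.mul_mem (K.mul_mem hx ha) (K.inv_mem hx), ?_⟩
    show Odd (orderOf ((MulAut.conj x).toMonoidHom a))
    rwa [orderOf_injective (MulAut.conj x).toMonoidHom (MulAut.conj x).injective a]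
  set N : Subgroup ↥K := (Cfsg.oddGenerated K).subgroupOf K with hNdef
  haveI : N.Normal := ⟨fun a ha x => hn x x.2 a ha⟩
  have hp : IsPGroup 2 (↥K ⧸ N) := by
    rintro ⟨g⟩
    obtain ⟨a, m, hm, hg⟩ := Nat.exists_eq_pow_mul_and_not_dvd (orderOf_pos g).ne' 2 (by norm_num)
    refine ⟨a, ?_⟩
    show ((g : ↥K) : ↥K ⧸ N) ^ 2 ^ a = 1
    rw [← QuotientGroup.mk_pow, QuotientGroup.eq_one_iff]
    refine subset_closure ⟨(g ^ 2 ^ a).2, ?_⟩
    have : orderOf (g ^ 2 ^ a) = m := by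
      rw [orderOf_pow' g (by positivity), hg, Nat.gcd_eq_right (dvd_mul_right _ _),
        Nat.mul_div_cancel_left _ (by positivity)]
    show Odd (orderOf ((g ^ 2 ^ a : ↥K) : G))
    rw [Subgroup.orderOf_coe, this, Nat.odd_iff]
    omega
  haveI := hp.isNilpotent
  have hK' : ⁅(⊤ : Subgroup ↥K), (⊤ : Subgroup ↥K)⁆ = (⊤ : Subgroup ↥K) := by
    apply map_injective K.subtype_injective
    rw [map_commutator, ← MonoidHom.range_eq_map, range_subtype, hK]
  have := Cfsg.Agent.ComponentsBasic.perfect_le_of_quotient_solvable hK' N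
  exact fun x hx => this (show (⟨x, hx⟩ : ↥K) ∈ (⊤ : Subgroup ↥K) from mem_top _)

variable {G : Type*} [Group G] [Finite G]

/-- The subgroup generated by `T` and a member of `ℒ(G, T)` has characteristic 2. -/
theorem charTwo_sup (hQ : Cfsg.IsOfEvenCharacteristic G) (T : Sylow 2 G) {K : Subgroup G}
    (hK : K ∈ Cfsg.calL (T : Subgroup G)) :
    Cfsg.IsOfCharacteristicTwo ↥(K ⊔ (T : Subgroup G)) := by
  set H : Subgroup G := K ⊔ (T : Subgroup G) with hH
  set R : Subgroup G := (Cfsg.pCore 2 ↥H).map H.subtype with hR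
  have hRne : R ≠ ⊥ := by
    rw [hR, Ne, map_eq_bot_iff_of_injective _ H.subtype_injective]
    exact hK.2.2
  have hHX : H ≤ normalizer (R : Set G) := le_normalizer_pCore_map H
  have hTX : (T : Subgroup G) ≤ normalizer (R : Set G) := le_sup_right.trans hHX
  refine charTwo_of_between (hQ _ ⟨R, isPGroup_pCore_map H, hRne, rfl⟩ ⟨T, hTX⟩) hHX ?_
  refine le_trans ?_ (le_sup_right : (T : Subgroup G) ≤ H)
  set W : Subgroup G := (Cfsg.pCore 2 ↥(normalizer (R : Set G))).map (normalizer (R : Set G)).subtype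
  have hW : IsPGroup 2 ↥((T : Subgroup G) ⊔ W) :=
    T.2.to_sup_of_normal_right' (isPGroup_pCore_map _) (hTX.trans (le_normalizer_pCore_map _))
  exact sup_eq_left.mp (T.3 hW le_sup_left)

theorem calL_mem_calX (hQ : Cfsg.IsOfEvenCharacteristic G) (T : Sylow 2 G) {K : Subgroup G}
    (hK : K ∈ Cfsg.calL (T : Subgroup G)) :
    Cfsg.IsOfCharacteristicTwo ↥K ∧ K ∈ Cfsg.calX G := by
  have hc := charTwo_sup hQ T hK
  obtain ⟨⟨hne, hperf, hsn, -⟩, -, -⟩ := hK
  set H : Subgroup G := K ⊔ (T : Subgroup G) with hH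
  have hKc : Cfsg.IsOfCharacteristicTwo ↥K :=
    charTwo_congr (subgroupOfEquivOfLe (le_sup_left : K ≤ H)) (charTwo_of_subnormal hsn hc)
  refine ⟨hKc, ?_, perfect_oddGenerated ?_, gen_eq_of_charTwo hKc⟩
  · rintro rfl
    exact hne (bot_subgroupOf H)
  · have := congrArg (fun J : Subgroup ↥H => J.map H.subtype) hperf
    simp only [map_commutator] at this
    rwa [map_subgroupOf_eq_of_le (le_sup_left : K ≤ H)] at this

theorem mem_calLf_of_le (hQ : Cfsg.IsOfEvenCharacteristic G) (T : Sylow 2 G) {L K : Subgroup G}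
    (hL : L ∈ Cfsg.calLf (T : Subgroup G)) (hK : K ∈ Cfsg.calL (T : Subgroup G)) (hLK : L ≤ K) :
    K ∈ Cfsg.calLf (T : Subgroup G) := by
  haveI := Fact.mk Nat.prime_two
  obtain ⟨hKc, hKX⟩ := calL_mem_calX hQ T hK
  refine ⟨hK, hKX, fun hbot => hL.2.2 ?_⟩
  have hLX := hL.2.1
  obtain ⟨⟨-, -, hLsn, -⟩, -, -⟩ := hL.1
  obtain ⟨⟨-, -, hKsn, -⟩, ⟨P, hP⟩, -⟩ := hK
  set H : Subgroup G := L ⊔ (T : Subgroup G) with hH
  set H' : Subgroup G := K ⊔ (T : Subgroup G) with hH'
  set R' := Cfsg.pCoreTwoOf K with hR'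
  set R := Cfsg.pCoreTwoOf L with hR
  set Q : Subgroup G := (Cfsg.pCore 2 ↥H).map H.subtype with hQd
  have hHH' : H ≤ H' := sup_le_sup_right hLK _
  -- `O₂(K) ≤ O₂(H)`
  have hR'Q : R' ≤ Q := by
    set W : Subgroup G := (Cfsg.pCore 2 ↥H').map H'.subtype with hWd
    have h1 : R' ≤ W := by
      have hs : ((R'.subgroupOf H')).IsSubnormal := by
        refine Cfsg.Agent.ComponentsBasic.isSubnormal_of_le_normalizer
          (fun x hx => ?_) hKsn (fun k hk => ?_)
        · obtain ⟨r, -, hr⟩ := hx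
          show (x : G) ∈ K
          have hr' : (r : G) = x := hr
          rw [← hr']
          exact r.2
        · exact mem_normalizer_fintype fun r hr =>
            (mem_normalizer_iff.mp (le_normalizer_pCore_map K hk) r).mp hr
      intro x hx
      have hle : R' ≤ H' := (map_subtype_le _).trans le_sup_left
      exact ⟨⟨x, hle hx⟩, Cfsg.Agent.ComponentsCores.subnormal_pGroup_le_pCore hs
        ((isPGroup_pCore_map K).of_equiv (subgroupOfEquivOfLe hle).symm) hx, rfl⟩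
    have hW : W ≤ (T : Subgroup G) := by
      have hW' : IsPGroup 2 ↥((T : Subgroup G) ⊔ W) :=
        T.2.to_sup_of_normal_right' (isPGroup_pCore_map _)
          ((le_sup_right : (T : Subgroup G) ≤ H').trans (le_normalizer_pCore_map _))
      exact sup_eq_left.mp (T.3 hW' le_sup_left)
    exact h1.trans (le_pCore_map (isPGroup_pCore_map H') (hW.trans le_sup_right)
      (hHH'.trans (le_normalizer_pCore_map H')))
  have hQH : Q ≤ H := map_subtype_le _
  have hQn : H ≤ normalizer (Q : Set G) := le_normalizer_pCore_map H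
  -- `O₂(H)` normalizes `L`
  have hQL : Q ≤ normalizer (L : Set G) := by
    intro q hq
    refine mem_normalizer_fintype fun a ha => ?_
    have : Cfsg.oddGenerated L ≤ L.comap (MulAut.conj q).toMonoidHom := by
      refine (closure_le _).mpr ?_
      rintro x ⟨hx, hxo⟩
      refine odd_sup_mem le_sup_left hQH hLsn hQn (isPGroup_pCore_map H) ?_ ?_
      · exact mul_mem (mul_mem (mem_sup_right hq) (mem_sup_left hx)) (inv_mem (mem_sup_right hq))
      · show Odd (orderOf ((MulAut.conj q).toMonoidHom x))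
        rwa [orderOf_injective (MulAut.conj q).toMonoidHom (MulAut.conj q).injective x]
    rw [hLX.2.1] at this
    exact this ha
  have hRn : ∀ g : G, g ∈ normalizer (L : Set G) → g ∈ normalizer (R : Set G) := fun g hg =>
    Cfsg.Agent.ComponentsCores.normalizer_le_normalizer_map_subtype L (Cfsg.pCore 2 ↥L) hg
  set Z := Cfsg.omegaOne 2 (R ⊓ centralizer (R : Set G)) with hZ
  have hZR : Z ≤ R ⊓ centralizer (R : Set G) := (closure_le _).mpr fun x hx => hx.1
  have hZn : ∀ g : G, g ∈ normalizer (R : Set G) → g ∈ normalizer (Z : Set G) := by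
    intro g hg
    refine mem_normalizer_fintype fun a ha => ?_
    suffices Z ≤ Z.comap (MulAut.conj g).toMonoidHom from this ha
    refine (closure_le _).mpr ?_
    rintro x ⟨⟨hxR, hxC⟩, hx2⟩
    refine subset_closure ⟨⟨(mem_normalizer_iff.mp hg x).mp hxR, mem_centralizer_iff.mpr fun r hr => ?_⟩, ?_⟩
    · have h := mem_centralizer_iff.mp hxC _ ((mem_normalizer_iff.mp (inv_mem hg) r).mp hr)
      simp only [inv_inv] at h
      show r * (g * x * g⁻¹) = g * x * g⁻¹ * r
      calc r * (g * x * g⁻¹) = g * ((g⁻¹ * r * g) * x) * g⁻¹ := by simp [mul_assoc]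
        _ = g * x * g⁻¹ * r := by rw [h]; simp [mul_assoc]
    · show ((MulAut.conj g) x) ^ 2 = 1
      rw [← map_pow, hx2, map_one]
  have hZsq : ∀ x ∈ Z, x ^ 2 = 1 := by
    intro x hx
    refine (closure_induction (p := fun x _ => x ∈ R ⊓ centralizer (R : Set G) ∧ x ^ 2 = 1)
      (fun y hy => hy) ⟨one_mem _, one_pow 2⟩ ?_ ?_ hx).2
    · rintro a b - - ⟨ha, ha2⟩ ⟨hb, hb2⟩
      refine ⟨mul_mem ha hb, ?_⟩
      have hc : Commute a b := (mem_centralizer_iff.mp ha.2 b hb.1).symm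
      rw [hc.mul_pow, ha2, hb2, one_mul]
    · rintro a - ⟨ha, ha2⟩
      exact ⟨inv_mem ha, by rw [inv_pow, ha2, inv_one]⟩
  have hZL : Z ≤ L := hZR.trans (inf_le_left.trans (map_subtype_le _))
  show ⁅Z, L⁆ = ⊥
  rw [commutator_comm, commutator_eq_bot_iff_le_centralizer]
  rw [← hLX.2.1]
  refine (closure_le _).mpr ?_
  rintro y ⟨hyL, hyo⟩
  refine mem_centralizer_pq_mod (isPGroup_pCore_map K) (Nat.coprime_two_right.mpr hyo) (fun a ha => ?_)
    ((isPGroup_pCore_map L).to_le (hZR.trans inf_le_left))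
    (fun a ha => hZn a (hRn a (hQL (hR'Q ha)))) (hZn y (hRn y (le_normalizer hyL))) (fun x hx hxc => ?_)
  · have haQ : a ∈ Q := hR'Q ha
    have h1 : ⁅y, a⁆ ∈ L := by
      have := L.mul_mem hyL ((mem_normalizer_iff.mp (hQL haQ) y⁻¹).mp (L.inv_mem hyL))
      simpa [commutatorElement_def, mul_assoc] using this
    have h2 : ⁅y, a⁆ ∈ Q := by
      have hyH : y ∈ H := (le_sup_left : L ≤ H) hyL
      have := Q.mul_mem ((mem_normalizer_iff.mp (hQn hyH) a).mp haQ) (Q.inv_mem haQ)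
      simpa [commutatorElement_def, mul_assoc] using this
    have h3 : L ⊓ Q ≤ R := le_pCore_map ((isPGroup_pCore_map H).to_le inf_le_right) inf_le_left
      fun g hg => mem_normalizer_fintype fun w hw =>
        ⟨(mem_normalizer_iff.mp (le_normalizer hg) w).mp hw.1,
          (mem_normalizer_iff.mp (hQn ((le_sup_left : L ≤ H) hg)) w).mp hw.2⟩
    exact centralizer_le (hZR.trans inf_le_right : Z ≤ centralizer (R : Set G))
      (mem_centralizer_iff.mpr fun c hc => (mem_centralizer_iff.mp hc _ (h3 ⟨h1, h2⟩)).symm)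
  · have hxK : x ∈ K := hLK (hZL hx)
    have hxR' : x ∈ R' := ⟨⟨x, hxK⟩, hKc (mem_centralizer_iff.mpr fun r hr =>
      Subtype.ext (hxc r ⟨r, hr, rfl⟩)), rfl⟩
    have hxZ : x ∈ Cfsg.omegaOne 2 (R' ⊓ centralizer (R' : Set G)) :=
      subset_closure ⟨⟨hxR', mem_centralizer_iff.mpr hxc⟩, hZsq x hx⟩
    have hc : ⁅Cfsg.omegaOne 2 (R' ⊓ centralizer (R' : Set G)), K⁆ = ⊥ := hbot
    rw [commutator_eq_bot_iff_le_centralizer] at hc
    exact mem_centralizer_iff.mp (hc hxZ) y (hLK hyL)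

/-- Let G be a non-abelian finite simple QTKE-group and T a Sylow 2-subgroup of G, and let L be a member of ℒ_f(G, T) (a member of ℒ(G, T) that lies in 𝒳 — L ≠ 1, L = O²(L), F*(L) = O₂(L) — and acts nontrivially on Ω₁(Z(O₂(L)))). Then (1) every member K of ℒ(G, T) containing L is again in ℒ_f(G, T) (a sharper form of (1) also compares the modules [Ω₁(Z(R)), L] and [Ω₁(Z(R')), K] for suitable 2-subgroups R, R'; that comparison is not included); and (2) if L is maximal under inclusion among the members of ℒ_f(G, T), then L is a maximal member of ℒ(G, T), hence a member of ℒ_f*(G, T). -/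
theorem result {G : Type*} [Group G] [Finite G] [IsSimpleGroup G]
    (hG : ¬ IsMulCommutative G) (hQ : Cfsg.IsQTKE G) (T : Sylow 2 G) (L : Subgroup G)
    (hL : L ∈ Cfsg.calLf (T : Subgroup G)) :
    (∀ K ∈ Cfsg.calL (T : Subgroup G), L ≤ K → K ∈ Cfsg.calLf (T : Subgroup G)) ∧
    ((∀ K ∈ Cfsg.calLf (T : Subgroup G), L ≤ K → K = L) → L ∈ Cfsg.calLfMax (T : Subgroup G)) := by
  refine ⟨fun K hK hLK => mem_calLf_of_le hQ.2.2 T hL hK hLK, fun h => ⟨⟨hL.1, fun K hK hLK => ?_⟩, hL.2⟩⟩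
  exact h K (mem_calLf_of_le hQ.2.2 T hL hK hLK) hLK

end Cfsg.Agent.S1851
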