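import Cfsg.Statements.S3743
import Mathlib
import Cfsg.Agent.Lib.HallCore
import Cfsg.Agent.Lib.ComponentsFitting
-- import your own Cfsg.Agent.* helpers here

set_option autoImplicit false
open Cfsg

namespace Cfsg.Agent.S3743


/-- In a finite group G, every subnormal nilpotent subgroup lies in the Fitting subgroup F(G), and, for a set of primes π, every subnormal subgroup all of whose prime divisors lie in π lies in O_π(G). -/
theorem result {G : Type*} [Group G] [Finite G] (A : Subgroup G) (hA : A.IsSubnormal) : (Group.IsNilpotent A → A ≤ Cfsg.fittingSubgroup G) ∧ ∀ π : Set ℕ, (∀ p : ℕ, p.Prime → p ∣ Nat.card A → p ∈ π) → A ≤ Cfsg.piCore π G := by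
  refine ⟨fun h => Cfsg.Agent.ComponentsFitting.subnormal_nilpotent_le_fitting hA h, fun π hπ => ?_⟩
  have key : ∀ K : Subgroup G, K.IsSubnormal → (Cfsg.piCore π K).map K.subtype ≤ Cfsg.piCore π G := by
    intro K hK
    induction hK with
    | top => exact (Cfsg.Agent.HallCore.map_equiv_piCore (π := π) (Subgroup.topEquiv (G := G))).le
    | step H K h_le hSubn hN ih =>
      haveI := hN
      have h1 : (Cfsg.piCore π ↥(H.subgroupOf K)).map (H.subgroupOf K).subtype ≤ Cfsg.piCore π ↥K := by
        rw [Cfsg.Agent.HallCore.map_subtype_piCore]; exact inf_le_left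
      let e : ↥(H.subgroupOf K) ≃* ↥H := Subgroup.subgroupOfEquivOfLe h_le
      rw [← Cfsg.Agent.HallCore.map_equiv_piCore e, Subgroup.map_map]
      refine le_trans ?_ ih
      rw [show H.subtype.comp e.toMonoidHom = K.subtype.comp (H.subgroupOf K).subtype from rfl,
        ← Subgroup.map_map]
      exact Subgroup.map_mono h1
  have h1 : Cfsg.piCore π A = ⊤ := Cfsg.Agent.HallCore.piCore_eq_top_iff.2 hπ
  have := key A hA
  rwa [h1, ← MonoidHom.range_eq_map, Subgroup.range_subtype] at this

end Cfsg.Agent.S3743
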