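import Cfsg.Statements.S1892
import Cfsg.Agent.Lib.CoprimeTools
import Cfsg.Agent.Lib.HallSolvable
-- import your own Cfsg.Agent.* helpers here

set_option autoImplicit false
open Cfsg

namespace Cfsg.Agent.S1892

open scoped Pointwise commutatorElement
open Cfsg.Agent.CoprimeSZ Cfsg.Agent.CoprimeAction Cfsg.Agent.CoprimeGen Cfsg.Agent.CoprimeExtra Cfsg.Agent.CoprimeTools


/-- Let S be a finite p-solvable group with no nontrivial normal subgroup of order prime to p, A a p-subgroup of S, and Q a nontrivial A-invariant subgroup of order prime to p with [A, Q] = Q. Then the commutator [O_p(S), A, Q] is nontrivial. -/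
theorem result {S : Type*} [Group S] [Finite S] {p : ℕ} [Fact p.Prime]
    (hS : Cfsg.IsPSolvable p S) (hred : Cfsg.pPrimeCore p S = ⊥)
    (A Q : Subgroup S) (hA : IsPGroup p A) (hQ : ¬ p ∣ Nat.card Q) (hQ1 : Q ≠ ⊥)
    (hinv : ∀ a ∈ A, ∀ x ∈ Q, a * x * a⁻¹ ∈ Q) (hAQ : ⁅A, Q⁆ = Q) :
    ⁅⁅Cfsg.pCore p S, A⁆, Q⁆ ≠ ⊥ := by
  intro h0
  have hp : p.Prime := Fact.out
  set U := Cfsg.pCore p S with hU
  have hUn : U.Normal := Cfsg.Agent.HallCore.pCore_normal p S
  have hUp : IsPGroup p U := Cfsg.Agent.HallCore.isPGroup_pCore p S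
  have htop : ∀ X : Subgroup S, X ≤ Subgroup.normalizer (U : Set S) := fun X => by
    rw [Subgroup.normalizer_eq_top_iff.2 hUn]; exact le_top
  set W : Subgroup S := ⁅U, A⁆ with hW
  have hWU : W ≤ U := commutator_le_self_of_le_normalizer (htop A)
  have hQW : Q ≤ Subgroup.centralizer (W : Set S) := by
    rw [← Subgroup.commutator_eq_bot_iff_le_centralizer, Subgroup.commutator_comm]; exact h0
  have hQnW : Q ≤ Subgroup.normalizer (W : Set S) :=
    hQW.trans (Subgroup.centralizer_le_normalizer _)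
  have h1 : ⁅⁅A, Q⁆, U⁆ ≤ W := by
    refine commutator_rotate_le (Subgroup.normalizer_commutator_ge_right U A) hQnW
      (Subgroup.normalizer_commutator_ge_left U A) ?_ (by rw [← hW, h0]; exact bot_le)
    refine Subgroup.commutator_mono ?_ le_rfl
    rw [Subgroup.commutator_comm]
    exact commutator_le_self_of_le_normalizer (htop Q)
  rw [hAQ, Subgroup.commutator_comm] at h1
  have hcop : (Nat.card Q).Coprime (Nat.card U) := by
    obtain ⟨m, hm⟩ := IsPGroup.iff_card.1 hUp
    rw [hm]
    exact Nat.Coprime.pow_right _ ((Nat.Prime.coprime_iff_not_dvd hp).2 hQ).symm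
  have hQU : Q ≤ Subgroup.centralizer (U : Set S) :=
    le_centralizer_of_commutator_commutator_eq_bot (htop Q) hcop
      (Or.inr (isSolvable_of_isPGroup hUp))
      (le_bot_iff.1 (le_trans (Subgroup.commutator_mono h1 le_rfl) h0.le))
  have hle : Q ≤ U := hQU.trans (Cfsg.Agent.HallSolvable.centralizer_pCore_le hS hred)
  apply hQ1
  rw [← inf_eq_left.2 hle]
  exact Subgroup.inf_eq_bot_of_coprime hcop

end Cfsg.Agent.S1892
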