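import Cfsg.Statements.S1893
import Cfsg.Agent.Lib.QuadraticStable
import Cfsg.Agent.Lib.GlaubermanStable
import Cfsg.Agent.Lib.ComponentsFitting
import Cfsg.Agent.Lib.HallTheorem
import Cfsg.Agent.Lib.HallCore
import Cfsg.Agent.Lib.CoprimeAction

set_option autoImplicit false
open Cfsg

namespace Cfsg.Agent.S1893

universe u

/-- A `p`-group centralizing a self-centralizing normal subgroup of an overgroup of the Fitting
subgroup of a solvable group lies in it (`p ≥ 5`). -/
theorem core_step {G : Type u} [Group G] [Finite G] [Group.IsSolvable G] {p : ℕ} [hp : Fact p.Prime]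
    (hp5 : 5 ≤ p) (A E T : Subgroup G) (hF : Cfsg.fittingSubgroup G ≤ E)
    (hEA : E ≤ Subgroup.normalizer (A : Set G)) (hA : E ⊓ Subgroup.centralizer (A : Set G) = A)
    (hT : IsPGroup p T) (hTA : T ≤ Subgroup.centralizer (A : Set G)) : T ≤ A := by
  classical
  set F := Cfsg.fittingSubgroup G
  haveI hpn : ∀ q : ℕ, (Cfsg.pCore q G).Normal := fun q => HallCore.pCore_normal q G
  have hcF : ∀ q : ℕ, q.Prime → Cfsg.pCore q G ≤ F := fun q hq =>
    ComponentsFitting.pCore_le_fitting hq
  -- `T` acts quadratically on normal subgroups of `G` inside `E`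
  have hstab : ∀ M : Subgroup G, M.Normal → M ≤ E → ⁅⁅M, T⁆, T⁆ = ⊥ := by
    intro M hMn hME
    haveI := hMn
    have hTA' : ⁅T, A⁆ = ⊥ := Subgroup.commutator_eq_bot_iff_le_centralizer.2 hTA
    have hAT' : ⁅A, T⁆ = ⊥ := by rw [Subgroup.commutator_comm, hTA']
    have hAM : ⁅A, M⁆ ≤ A := by
      first
        | exact CoprimeAction.commutator_le_self_of_le_normalizer (hME.trans hEA)
        | (rw [Subgroup.commutator_comm]; exact CoprimeAction.commutator_le_self_of_le_normalizer (hME.trans hEA))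
    have h1 : ⁅⁅M, T⁆, A⁆ = ⊥ := by
      refine Subgroup.commutator_commutator_eq_bot_of_rotate ?_ ?_
      · rw [hTA', Subgroup.commutator_bot_left]
      · exact le_bot_iff.1 ((Subgroup.commutator_mono hAM le_rfl).trans hAT'.le)
    have h2 : ⁅M, T⁆ ≤ A := by
      rw [← hA]
      exact le_inf ((Subgroup.commutator_le_left M T).trans hME)
        (Subgroup.commutator_eq_bot_iff_le_centralizer.1 h1)
    exact le_bot_iff.1 ((Subgroup.commutator_mono h2 le_rfl).trans hAT'.le)
  set M : Subgroup G := ⨆ q : {q : (Nat.card G).primeFactors // (q : ℕ) ≠ p}, Cfsg.pCore (q.1 : ℕ) G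
    with hMdef
  have hTM : T ≤ Subgroup.centralizer (M : Set G) := by
    rw [Subgroup.le_centralizer_iff, hMdef, iSup_le_iff]
    intro q
    haveI : Fact (q.1 : ℕ).Prime := ⟨Nat.prime_of_mem_primeFactors q.1.2⟩
    rw [Subgroup.le_centralizer_iff]
    refine CoprimeAction.le_centralizer_of_commutator_commutator_eq_bot ?_ ?_ ?_ ?_
    · rw [Subgroup.normalizer_eq_top]; exact le_top
    · exact IsPGroup.coprime_card_of_ne p (q.1 : ℕ) (Ne.symm q.2) T _ hT
        (HallCore.isPGroup_pCore _ G)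
    · exact Or.inl inferInstance
    · exact hstab _ (hpn _) ((hcF _ (Nat.prime_of_mem_primeFactors q.1.2)).trans hF)
  haveI hMn : M.Normal := Subgroup.iSup_normal _
  set Y := Subgroup.centralizer (M : Set G) with hY
  set R := Cfsg.pCore p G with hR
  have hRp : IsPGroup p R := HallCore.isPGroup_pCore p G
  have hRY : R ≤ Y := by
    rw [hY, Subgroup.le_centralizer_iff, hMdef, iSup_le_iff]
    intro q x hx y hy
    exact ((ComponentsFitting.commute_pCore (Nat.prime_of_mem_primeFactors q.1.2) hp.out q.2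
      x y hx hy).eq).symm
  have hFle : F ≤ R ⊔ M := by
    show Cfsg.fittingSubgroup G ≤ _
    rw [ComponentsFitting.fittingSubgroup_eq_iSup, iSup_le_iff]
    intro q
    by_cases hq : (q : ℕ) = p
    · rw [hq]; exact le_sup_left
    · exact le_sup_of_le_right (le_iSup_of_le ⟨q, hq⟩ le_rfl)
  -- stability on `R`, inside `Y`
  set R' : Subgroup Y := R.subgroupOf Y with hR'
  haveI : R'.Normal := by rw [hR']; infer_instance
  have hR'p : IsPGroup p R' := hRp.of_equiv (Subgroup.subgroupOfEquivOfLe hRY).symm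
  have hst : Cfsg.IsPStableOn p R' :=
    GlaubermanStable.isPStableOn_of_elementary (p := p)
      (fun (Z : Type u) _ => Cfsg.IsPSolvable p Z)
      (fun _ _ _ N _ _ h => HallSolvable.isPSolvable_quotient h N)
      (fun _ _ _ h V _ hV => QuadraticMain.isPStableOn_of_psolvable hp5 h V hV)
      Y (HallSolvable.isPSolvable_of_solvable p) R' hR'p
  set C := Subgroup.centralizer (R' : Set Y) with hC
  haveI := HallCore.pCore_normal p (Y ⧸ C)
  set D : Subgroup Y := (Cfsg.pCore p (Y ⧸ C)).comap (QuotientGroup.mk' C) with hD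
  -- `D` is nilpotent
  have hDnil : Group.IsNilpotent D := by
    have hq : IsPGroup p (D ⧸ Subgroup.center D) := by
      intro xq
      obtain ⟨x, rfl⟩ := QuotientGroup.mk_surjective xq
      obtain ⟨k, hk⟩ := HallCore.isPGroup_pCore p (Y ⧸ C) ⟨QuotientGroup.mk (x : Y), x.2⟩
      obtain ⟨j, hj⟩ := IsPGroup.iff_card.1 hRp
      have hyC : ((x : Y) ^ p ^ k) ∈ C := by
        rw [← QuotientGroup.eq_one_iff, QuotientGroup.mk_pow]
        exact congrArg Subtype.val hk
      set y : G := (((x : Y) ^ p ^ k : Y) : G) with hy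
      have hyRM : y ∈ R ⊔ M := by
        refine hFle (ComponentsFitting.centralizer_fitting_le_of_solvable ?_)
        have hle : F ≤ Subgroup.centralizer ({y} : Set G) := by
          refine hFle.trans (sup_le ?_ ?_)
          · intro r hr
            rw [Subgroup.mem_centralizer_singleton_iff]
            exact congrArg Subtype.val (Subgroup.mem_centralizer_iff.1 hyC ⟨r, hRY hr⟩ hr)
          · intro m hm
            rw [Subgroup.mem_centralizer_singleton_iff]
            exact Subgroup.mem_centralizer_iff.1 ((x : Y) ^ p ^ k).2 m hm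
        rw [Subgroup.mem_centralizer_iff]
        exact fun f hf => Subgroup.mem_centralizer_singleton_iff.1 (hle hf)
      have hyM : y ^ p ^ j ∈ M := by
        obtain ⟨r, hr, m, hm, hrm⟩ := Subgroup.mem_sup_of_normal_right.1 hyRM
        rw [← QuotientGroup.eq_one_iff, QuotientGroup.mk_pow, ← hrm, QuotientGroup.mk_mul,
          (QuotientGroup.eq_one_iff m).2 hm, mul_one, ← QuotientGroup.mk_pow, ← hj]
        have : (⟨r, hr⟩ : R) ^ Nat.card R = 1 := pow_card_eq_one'
        rw [show r ^ Nat.card R = 1 from congrArg Subtype.val this]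
        rfl
      refine ⟨k + j, ?_⟩
      rw [← QuotientGroup.mk_pow, QuotientGroup.eq_one_iff, Subgroup.mem_center_iff]
      intro d
      refine Subtype.ext (Subtype.ext ?_)
      have hd := Subgroup.mem_centralizer_iff.1 (d : Y).2 _ hyM
      rw [hy] at hd
      simp only [SubmonoidClass.coe_pow, Subgroup.coe_mul, pow_add, pow_mul] at hd ⊢
      exact hd.symm
    haveI := hq.isNilpotent
    exact Subgroup.isNilpotent_of_ker_le_center (QuotientGroup.mk' (Subgroup.center D))
      (by rw [QuotientGroup.ker_mk'])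
  intro t ht
  have htY : t ∈ Y := hTM ht
  have hq : ⁅⁅R', Subgroup.zpowers (⟨t, htY⟩ : Y)⁆, Subgroup.zpowers (⟨t, htY⟩ : Y)⁆ = ⊥ := by
    refine Subgroup.map_injective Y.subtype_injective ?_
    rw [Subgroup.map_commutator, Subgroup.map_commutator, Subgroup.map_bot, MonoidHom.map_zpowers,
      hR', Subgroup.map_subgroupOf_eq_of_le hRY]
    refine le_bot_iff.1 ((Subgroup.commutator_mono (Subgroup.commutator_mono le_rfl ?_) ?_).trans
      (hstab R (hpn p) ((hcF p hp.out).trans hF)).le) <;>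
    exact Subgroup.zpowers_le.2 ht
  have htD : (⟨t, htY⟩ : Y) ∈ D := hst ⟨t, htY⟩ hq
  haveI : Y.Normal := by rw [hY]; infer_instance
  have htF : t ∈ F :=
    ComponentsFitting.fitting_map_subtype_le (Subgroup.Normal.isSubnormal inferInstance)
      ⟨⟨t, htY⟩, (HallSolvable.le_fitting (N := D) (hN := by rw [hD]; infer_instance)) htD, rfl⟩
  rw [← hA]
  exact ⟨hF htF, hTA ht⟩

/-- Let S be a finite solvable group, π a set of primes containing neither 2 nor 3, H a Hall π-subgroup of S, and A a self-centralizing normal subgroup of the Fitting subgroup F(H). Then C_S(A) = A × D for a normal subgroup D of C_S(A) whose order has no prime divisor in π. -/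
theorem result {S : Type*} [Group S] [Finite S] [Group.IsSolvable S]
    (π : Set ℕ) (h2 : 2 ∉ π) (h3 : 3 ∉ π) (H : Subgroup S) (hH : Cfsg.IsPiHall π H)
    (A : Subgroup S) (hA : Cfsg.IsSCN ((Cfsg.fittingSubgroup H).map H.subtype) A) :
    ∃ D : Subgroup S, D ≤ Subgroup.centralizer (A : Set S) ∧
      (∀ c ∈ Subgroup.centralizer (A : Set S), ∀ d ∈ D, c * d * c⁻¹ ∈ D) ∧
      A ⊓ D = ⊥ ∧ A ⊔ D = Subgroup.centralizer (A : Set S) ∧
      ∀ q : ℕ, q.Prime → q ∣ Nat.card D → q ∉ π := by
  classical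
  obtain ⟨hAE, hEA, hAC⟩ := hA
  set E : Subgroup S := (Cfsg.fittingSubgroup H).map H.subtype with hE
  have hEH : E ≤ H := Subgroup.map_subtype_le _
  set π' : Set ℕ := {q | q ∉ π} with hπ'
  set N := Cfsg.piCore π' S with hNdef
  have hNc : HallCore.PiNat π' (Nat.card N) := HallCore.piNat_card_piCore π' S
  have hHN : H ⊓ N = ⊥ := by
    refine Subgroup.inf_eq_bot_of_coprime (Nat.coprime_of_dvd fun q hq h1 h2 => ?_)
    exact hNc q hq h2 (hH.1 q hq h1)
  set f := QuotientGroup.mk' N with hf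
  have hinjH : Set.InjOn f (H : Set S) := by
    intro a ha b hb hab
    have h1 : a⁻¹ * b ∈ H ⊓ N :=
      ⟨H.mul_mem (H.inv_mem ha) hb, (QuotientGroup.eq).1 hab⟩
    rw [hHN, Subgroup.mem_bot, inv_mul_eq_one] at h1
    exact h1
  set Hb := H.map f with hHb
  have hHbHall : Cfsg.IsPiHall π Hb :=
    HallTheorem.isPiHall_map hH (QuotientGroup.mk'_surjective N)
  -- the cores of `S / N`
  have hcore : ∀ q : ℕ, q.Prime → Cfsg.pCore q (S ⧸ N) ≤ E.map f := by
    intro q hq
    haveI : Fact q.Prime := ⟨hq⟩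
    haveI := HallCore.pCore_normal q (S ⧸ N)
    set X := Cfsg.pCore q (S ⧸ N) with hX
    have hXp : IsPGroup q X := HallCore.isPGroup_pCore q _
    obtain ⟨k, hk⟩ := IsPGroup.iff_card.1 hXp
    have hXnum : ∀ r : ℕ, r.Prime → r ∣ Nat.card X → r = q := fun r hr hd =>
      (Nat.prime_dvd_prime_iff_eq hr hq).1 (hr.dvd_of_dvd_pow (hk ▸ hd))
    by_cases hqπ : q ∈ π
    swap
    · intro x hx
      have hle : X.comap f ≤ N := by
        refine HallCore.le_piCore (HallTheorem.piNat_card_comap hNc ?_)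
        intro r hr hd
        rw [hXnum r hr hd]
        exact hqπ
      obtain ⟨y, rfl⟩ := QuotientGroup.mk'_surjective N x
      rw [show f y = 1 from (QuotientGroup.eq_one_iff y).2 (hle hx)]
      exact one_mem _
    have hXH : X ≤ Hb := by
      have hpi : HallCore.PiNat π (Nat.card (Hb ⊔ X : Subgroup (S ⧸ N))) := by
        intro r hr hd
        rw [← (X.subgroupOf (Hb ⊔ X)).card_mul_index, Nat.card_congr (Subgroup.subgroupOfEquivOfLe
          (le_sup_right : X ≤ Hb ⊔ X)).toEquiv, ← Subgroup.relIndex, Subgroup.relIndex_sup_right] at hd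
        rcases hr.dvd_mul.1 hd with h | h
        · rw [hXnum r hr h]; exact hqπ
        · exact hHbHall.1 r hr (h.trans (Subgroup.relIndex_dvd_card X Hb))
      rw [HallTheorem.eq_of_isPiHall_le hHbHall le_sup_left hpi]
      exact le_sup_right
    have hinj : Function.Injective (f.comp H.subtype) := fun a b hab =>
      Subtype.ext (hinjH a.2 b.2 hab)
    haveI : Group.IsNilpotent (X.comap (f.comp H.subtype)) :=
      (hXp.comap_of_injective _ hinj).isNilpotent
    have hle : X.comap (f.comp H.subtype) ≤ Cfsg.fittingSubgroup H := HallSolvable.le_fitting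
    intro x hx
    obtain ⟨h, hh, rfl⟩ := hXH hx
    exact ⟨h, ⟨⟨h, hh⟩, hle hx, rfl⟩, rfl⟩
  have hF : Cfsg.fittingSubgroup (S ⧸ N) ≤ E.map f := by
    rw [ComponentsFitting.fittingSubgroup_eq_iSup]
    exact iSup_le fun q => hcore q (Nat.prime_of_mem_primeFactors q.2)
  have hnorm : E.map f ≤ Subgroup.normalizer ((A.map f : Subgroup (S ⧸ N)) : Set (S ⧸ N)) :=
    (Subgroup.map_mono hEA).trans (Subgroup.le_normalizer_map f)
  have hAcomm : A ≤ Subgroup.centralizer (A : Set S) := fun a ha => (hAC.ge ha).2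
  have hself : E.map f ⊓ Subgroup.centralizer ((A.map f : Subgroup (S ⧸ N)) : Set (S ⧸ N)) = A.map f := by
    refine le_antisymm ?_ (le_inf (Subgroup.map_mono hAE) ?_)
    · rintro x ⟨⟨e, he, rfl⟩, hxc⟩
      refine ⟨e, hAC ▸ ⟨he, ?_⟩, rfl⟩
      refine Subgroup.mem_centralizer_iff.2 fun a ha => hinjH (mul_mem (hEH (hAE ha)) (hEH he))
        (mul_mem (hEH he) (hEH (hAE ha))) ?_
      rw [map_mul, map_mul]
      exact Subgroup.mem_centralizer_iff.1 hxc _ ⟨a, ha, rfl⟩
    · rintro _ ⟨a, ha, rfl⟩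
      refine Subgroup.mem_centralizer_iff.2 ?_
      rintro _ ⟨b, hb, rfl⟩
      rw [← map_mul, ← map_mul, Subgroup.mem_centralizer_iff.1 (hAcomm ha) b hb]
  set C := Subgroup.centralizer (A : Set S) with hC
  set A' := A.subgroupOf C with hA'
  have hAcard : Nat.card A' = Nat.card A := Nat.card_congr (Subgroup.subgroupOfEquivOfLe hAcomm).toEquiv
  -- the index of `A` in its centralizer has no prime in `π`
  have hidx : ∀ q : ℕ, q.Prime → q ∣ A'.index → q ∉ π := by
    intro q hq hd hqπ
    haveI : Fact q.Prime := ⟨hq⟩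
    have h5 : 5 ≤ q := by
      have h2' : q ≠ 2 := fun h => h2 (h ▸ hqπ)
      have h3' : q ≠ 3 := fun h => h3 (h ▸ hqπ)
      have h4' : q ≠ 4 := fun h => by rw [h] at hq; norm_num at hq
      have := hq.two_le
      omega
    obtain ⟨T⟩ : Nonempty (Sylow q C) := inferInstance
    set T₀ : Subgroup S := (T : Subgroup C).map C.subtype with hT₀
    have hT₀p : IsPGroup q T₀ := T.isPGroup'.map _
    have hT₀C : T₀ ≤ C := Subgroup.map_subtype_le _
    have hle : T₀.map f ≤ A.map f := by
      refine core_step h5 _ _ _ hF hnorm hself (hT₀p.map f) ?_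
      rintro _ ⟨t, ht, rfl⟩
      refine Subgroup.mem_centralizer_iff.2 ?_
      rintro _ ⟨a, ha, rfl⟩
      rw [← map_mul, ← map_mul, Subgroup.mem_centralizer_iff.1 (hT₀C ht) a ha]
    have hdisj : T₀ ⊓ f.ker = ⊥ := by
      rw [hf, QuotientGroup.ker_mk']
      refine Subgroup.inf_eq_bot_of_coprime (Nat.coprime_of_dvd fun r hr h1 h2 => ?_)
      obtain ⟨k, hk⟩ := IsPGroup.iff_card.1 hT₀p
      rw [hk] at h1
      exact hNc r hr h2 ((Nat.prime_dvd_prime_iff_eq hr hq).1 (hr.dvd_of_dvd_pow h1) ▸ hqπ)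
    have hTdvd : Nat.card (T : Subgroup C) ∣ Nat.card A := by
      have e1 : Nat.card (T₀.map f) = Nat.card (T : Subgroup C) := by
        have hinjT : Function.Injective (f.comp T₀.subtype) := by
          rw [← MonoidHom.ker_eq_bot_iff, eq_bot_iff]
          intro x hx
          have : (x : S) ∈ T₀ ⊓ f.ker := ⟨x.2, hx⟩
          rw [hdisj, Subgroup.mem_bot] at this
          exact Subgroup.mem_bot.2 (Subtype.ext this)
        have hr : T₀.map f = (f.comp T₀.subtype).range := by
          rw [MonoidHom.range_comp, Subgroup.range_subtype]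
        rw [hr, ← Nat.card_congr (MonoidHom.ofInjective hinjT).toEquiv, hT₀,
          Subgroup.card_subtype]
      rw [← e1]
      exact (Subgroup.card_dvd_of_le hle).trans (Subgroup.card_map_dvd _ _)
    have hpow : q * q ^ (Nat.card A).factorization q ∣ Nat.card C := by
      rw [← A'.card_mul_index, hAcard, mul_comm q]
      exact mul_dvd_mul (Nat.ordProj_dvd _ _) hd
    rw [← pow_succ'] at hpow
    have := (T.pow_dvd_card_of_pow_dvd_card hpow).trans hTdvd
    exact Nat.pow_succ_factorization_not_dvd Nat.card_pos.ne' hq this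
  have hcop : (Nat.card A').Coprime A'.index := by
    refine Nat.coprime_of_dvd fun q hq h1 h2 => hidx q hq h2 ?_
    rw [hAcard] at h1
    exact hH.1 q hq (h1.trans (Subgroup.card_dvd_of_le (hAE.trans hEH)))
  haveI hA'n : A'.Normal := by
    refine ⟨fun a ha g => ?_⟩
    have : g * a * g⁻¹ = a := by
      refine Subtype.ext ?_
      show (g : S) * a * (g : S)⁻¹ = a
      rw [← Subgroup.mem_centralizer_iff.1 g.2 a ha, mul_inv_cancel_right]
    rwa [this]
  obtain ⟨D', hD'⟩ := Subgroup.exists_right_complement'_of_coprime hcop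
  refine ⟨D'.map C.subtype, Subgroup.map_subtype_le _, ?_, ?_, ?_, ?_⟩
  · rintro c hc _ ⟨d, hd, rfl⟩
    obtain ⟨⟨⟨a, ha⟩, ⟨d₁, hd₁⟩⟩, h⟩ := hD'.2 ⟨c, hc⟩
    refine ⟨d₁ * d * d₁⁻¹, mul_mem (mul_mem hd₁ hd) (inv_mem hd₁), ?_⟩
    have hc' : (a : S) * d₁ = c := congrArg Subtype.val h
    have hcomm := Subgroup.mem_centralizer_iff.1 (d₁ * d * d₁⁻¹).2 a ha
    simp only [Subgroup.subtype_apply, Subgroup.coe_mul, InvMemClass.coe_inv] at hcomm ⊢
    calc (d₁ : S) * d * (d₁ : S)⁻¹ = (a : S) * (d₁ * d * (d₁ : S)⁻¹) * (a : S)⁻¹ := by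
          rw [hcomm]; group
      _ = c * d * c⁻¹ := by rw [← hc']; group
  · rw [← Subgroup.map_subgroupOf_eq_of_le hAcomm, ← Subgroup.map_inf _ _ _ C.subtype_injective,
      disjoint_iff.1 hD'.disjoint, Subgroup.map_bot]
  · rw [← Subgroup.map_subgroupOf_eq_of_le hAcomm, ← Subgroup.map_sup, hD'.sup_eq_top,
      ← MonoidHom.range_eq_map, Subgroup.range_subtype]
  · intro q hq hd
    rw [Subgroup.card_subtype, ← hD'.symm.index_eq_card] at hd
    exact hidx q hq hd


end Cfsg.Agent.S1893
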