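import Mathlib
import Cfsg.Statements.S1894
-- import your own Cfsg.Agent.* helpers here

set_option autoImplicit false
open Cfsg

namespace Cfsg.Agent.S1894



/-- Let P be a finite p-group, A a normal subgroup of P and B an abelian subgroup of A that is normal in P. Then some subgroup C of A containing B is normal in P and is self-centralizing and normal in A (C ∈ SCN(A)). -/
theorem result {P : Type*} [Group P] [Finite P] {p : ℕ} [Fact p.Prime] (hP : IsPGroup p P)
    (A : Subgroup P) [A.Normal] (B : Subgroup P) [B.Normal] (hBA : B ≤ A) (hB : IsMulCommutative B) :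
    ∃ C : Subgroup P, C.Normal ∧ B ≤ C ∧ Cfsg.IsSCN A C := by

  classical
  set Sset := {C : Subgroup P | C.Normal ∧ B ≤ C ∧ C ≤ A ∧ IsMulCommutative C} with hS
  obtain ⟨C, hC, hmax⟩ := (Set.toFinite Sset).exists_maximal ⟨B, inferInstance, le_rfl, hBA, hB⟩
  obtain ⟨hCn, hBC, hCA, hCc⟩ := hC
  haveI := hCn
  refine ⟨C, hCn, hBC, hCA, fun a _ => by rw [Subgroup.normalizer_eq_top]; trivial, ?_⟩
  have hle : C ≤ A ⊓ Subgroup.centralizer (C : Set P) :=
    le_inf hCA (fun x hx => Subgroup.mem_centralizer_iff.2 fun y hy =>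
      congrArg Subtype.val (hCc.is_comm.comm ⟨y, hy⟩ ⟨x, hx⟩))
  by_contra hne
  set D := A ⊓ Subgroup.centralizer (C : Set P) with hD
  haveI : D.Normal := Subgroup.normal_inf_normal A _
  set π := QuotientGroup.mk' C
  have hDn : (D.map π).Normal := Subgroup.Normal.map inferInstance π (QuotientGroup.mk'_surjective C)
  have hDne : D.map π ≠ ⊥ := by
    intro h
    apply hne
    refine le_antisymm (fun x hx => ?_) hle
    have : π x ∈ D.map π := ⟨x, hx, rfl⟩
    rw [h, Subgroup.mem_bot] at this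
    exact (QuotientGroup.eq_one_iff x).1 this
  have hQ : IsPGroup p (P ⧸ C) := hP.to_quotient C
  obtain ⟨zbar, ⟨hzD, hzc⟩, hz1⟩ : ∃ z, (z ∈ D.map π ∧ z ∈ Subgroup.center (P ⧸ C)) ∧ z ≠ 1 := by
    letI : MulAction (ConjAct (P ⧸ C)) (D.map π) :=
      { smul := fun g d => ⟨g • d.1, by
          rw [ConjAct.smul_def]; exact hDn.conj_mem _ d.2 _⟩
        one_smul := fun d => Subtype.ext (one_smul _ d.1)
        mul_smul := fun g h d => Subtype.ext (mul_smul g h d.1) }
    have hQ' : IsPGroup p (ConjAct (P ⧸ C)) := hQ.of_equiv ConjAct.toConjAct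
    have hdvd : p ∣ Nat.card (D.map π) := by
      have hD' : IsPGroup p (D.map π) := hQ.to_subgroup _
      obtain ⟨n, hn⟩ := IsPGroup.iff_card.1 hD'
      rcases n with _ | n
      · rw [pow_zero, Subgroup.card_eq_one] at hn; exact absurd hn hDne
      · rw [hn]; exact dvd_pow_self p (Nat.succ_ne_zero n)
    have h1 : (1 : D.map π) ∈ MulAction.fixedPoints (ConjAct (P ⧸ C)) (D.map π) := fun g =>
      Subtype.ext (smul_one g)
    obtain ⟨b, hb, hb1⟩ := hQ'.exists_fixed_point_of_prime_dvd_card_of_fixed_point _ hdvd h1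
    refine ⟨b.1, ⟨b.2, Subgroup.mem_center_iff.2 fun g => ?_⟩, fun h => hb1 (Subtype.ext h.symm)⟩
    have := congrArg Subtype.val (hb (ConjAct.toConjAct g))
    change g * b.1 * g⁻¹ = b.1 at this
    exact mul_inv_eq_iff_eq_mul.1 this
  obtain ⟨z, hzD', rfl⟩ := hzD
  set C' := C ⊔ Subgroup.zpowers z with hC'
  have hnorm : C'.Normal := by
    have : C' = (Subgroup.zpowers (π z)).comap π := by
      rw [← MonoidHom.map_zpowers, Subgroup.comap_map_eq, QuotientGroup.ker_mk', sup_comm]
    rw [this]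
    have : (Subgroup.zpowers (π z)).Normal := ⟨fun n hn g => by
      have hn' : n ∈ Subgroup.center (P ⧸ C) := (Subgroup.zpowers_le.2 hzc) hn
      rw [Subgroup.mem_center_iff.1 hn' g, mul_inv_cancel_right]; exact hn⟩
    exact this.comap π
  have hcomm : IsMulCommutative C' := by
    rw [← Subgroup.le_centralizer_iff_isMulCommutative]
    refine sup_le ?_ ?_
    · rw [Subgroup.le_centralizer_iff, sup_le_iff]
      exact ⟨(hle.trans inf_le_right), Subgroup.zpowers_le.2 hzD'.2⟩
    · rw [Subgroup.le_centralizer_iff, sup_le_iff]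
      refine ⟨Subgroup.le_centralizer_iff.1 (Subgroup.zpowers_le.2 hzD'.2), ?_⟩
      rw [Subgroup.le_centralizer_iff_isMulCommutative]
      infer_instance
  have hsub : C' ≤ A := sup_le hCA (Subgroup.zpowers_le.2 hzD'.1)
  have := hmax ⟨hnorm, hBC.trans le_sup_left, hsub, hcomm⟩ le_sup_left
  exact hz1 ((QuotientGroup.eq_one_iff z).2 (this (Subgroup.mem_sup_right (Subgroup.mem_zpowers z))))

end Cfsg.Agent.S1894
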