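import Cfsg.Statements.S1896
import Cfsg.Agent.Lib.PGroupsCyclic
import Cfsg.Agent.Lib.CoprimeActionAut

set_option autoImplicit false
open Cfsg

namespace Cfsg.Agent.S1896

open Subgroup Cfsg.Agent.PGroupsBasic
open scoped commutatorElement

variable {X : Type*} [Group X] [Finite X]

/-- The automorphism moves every element outside the Frattini subgroup to an independent one. -/
def Spread (α : MulAut X) : Prop :=
  (frattini X).index = 4 ∧ ∀ x, x ∉ frattini X → closure ({x, α x} : Set X) = ⊤

theorem spread_of_order (hX : IsPGroup 2 X) {α : MulAut X} {q : ℕ} [hq : Fact q.Prime] (hq2 : q ≠ 2)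
    (hαq : α ^ q = 1) (hα : α ≠ 1) {a b : X} (hab : closure ({a, b} : Set X) = ⊤) : Spread α := by
  classical
  have hfr : (frattini X).map α.toMonoidHom = frattini X :=
    (characteristic_iff_map_eq.mp inferInstance) α
  let ψ : MulAut (X ⧸ frattini X) := QuotientGroup.congr (frattini X) (frattini X) α hfr
  have hψk : ∀ (k : ℕ) (x : X), (ψ ^ k) (x : X ⧸ frattini X) = ((α ^ k) x : X) := by
    intro k x
    induction k with
    | zero => rfl
    | succ k ih => rw [pow_succ', pow_succ', MulAut.mul_apply, MulAut.mul_apply, ih]; rfl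
  have hψq : ψ ^ q = 1 := MulEquiv.ext fun x => by
    induction x using QuotientGroup.induction_on with
    | _ x => rw [hψk, hαq]; rfl
  have hψ : ψ ≠ 1 := by
    intro h1
    refine hα (MulEquiv.ext fun x => ?_)
    have hA : Nat.card (zpowers α) ∣ q := by
      rw [Nat.card_zpowers]; exact orderOf_dvd_of_pow_eq_one hαq
    exact Cfsg.Agent.CoprimeActionAut.eq_self_of_frattini (zpowers α).subtype
      (by
        obtain ⟨k, hk⟩ := IsPGroup.iff_card.mp (hX.to_subgroup (frattini X))
        rw [hk]
        exact (((Nat.coprime_primes hq.out Nat.prime_two).mpr hq2).pow_right k).coprime_dvd_left hA)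
      (fun g y => by
        obtain ⟨k, hk⟩ := (isOfFinOrder_of_finite α).mem_powers_iff_mem_zpowers.mpr g.2
        have h2 : (g : MulAut X) = α ^ k := hk.symm
        rw [coe_subtype, h2, ← QuotientGroup.eq, ← hψk, h1, one_pow, MulAut.one_apply])
      ⟨α, mem_zpowers α⟩ x
  have hle : (frattini X).index ≤ 4 := by
    refine (pow_card_ge_index_frattini (p := 2) hX {a, b} (by simpa using hab)).trans ?_
    calc 2 ^ ({a, b} : Finset X).card ≤ 2 ^ 2 := Nat.pow_le_pow_right (by norm_num) Finset.card_le_two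
      _ = 4 := by norm_num
  obtain ⟨k, hk⟩ := IsPGroup.iff_card.mp (hX.to_quotient (frattini X))
  have ho : orderOf ψ = q := orderOf_eq_prime hψq hψ
  have hP : IsPGroup q (zpowers ψ) := IsPGroup.of_card (n := 1) (by rw [Nat.card_zpowers, ho, pow_one])
  set F : Subgroup (X ⧸ frattini X) := MonoidHom.eqLocus ψ.toMonoidHom (MonoidHom.id _) with hF
  have hfix : ∀ x, x ∈ MulAction.fixedPoints (zpowers ψ) (X ⧸ frattini X) ↔ x ∈ F := by
    intro x
    constructor
    · exact fun h => h ⟨ψ, mem_zpowers ψ⟩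
    · rintro (h : ψ x = x) ⟨g, hg⟩
      obtain ⟨j, rfl⟩ := mem_zpowers_iff.mp hg
      exact (MulAction.mem_stabilizer_iff (G := MulAut (X ⧸ frattini X))).mp
        (zpow_mem (show ψ ∈ MulAction.stabilizer (MulAut (X ⧸ frattini X)) x from h) j)
  have h1 := hP.card_modEq_card_fixedPoints (X ⧸ frattini X)
  rw [Nat.card_congr (Equiv.subtypeEquivRight hfix : _ ≃ F), hk] at h1
  obtain ⟨j, hj, hj'⟩ := (Nat.dvd_prime_pow Nat.prime_two).mp (hk ▸ card_subgroup_dvd_card F)
  have hjk : j < k := lt_of_le_of_ne hj fun h => hψ (MulEquiv.ext fun x =>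
    ((eq_top_of_card_eq F (by rw [hj', h, hk])) ▸ mem_top x : x ∈ F))
  rw [hj', Nat.modEq_iff_dvd] at h1
  have hk2 : k ≤ 2 := by
    have : 2 ^ k ≤ 2 ^ 2 := by rw [← hk, ← index_eq_card]; exact hle
    exact (Nat.pow_le_pow_iff_right (by norm_num)).mp this
  have hq1 := hq.out.one_lt
  have hkj : k = 2 ∧ j = 0 := by
    have h3 : q ∣ 2 ^ k - 2 ^ j := by
      have := h1.neg_right
      rw [neg_sub, ← Nat.cast_sub (Nat.pow_le_pow_right (by norm_num) hjk.le)] at this
      exact_mod_cast this
    rcases (show (k = 1 ∧ j = 0) ∨ (k = 2 ∧ j = 0) ∨ (k = 2 ∧ j = 1) by omega) with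
      ⟨rfl, rfl⟩ | h | ⟨rfl, rfl⟩
    · simp at h3; omega
    · exact h
    · have := Nat.le_of_dvd (by norm_num) h3
      norm_num at this
      omega
  obtain ⟨rfl, rfl⟩ := hkj
  have hidx : (frattini X).index = 4 := by rw [index_eq_card, hk]; norm_num
  refine ⟨hidx, fun x hx => frattini_nongenerating ?_⟩
  set H := closure ({x, α x} : Set X) with hH
  have hbot : F = ⊥ := eq_bot_of_card_eq _ hj'
  have hx1 : (x : X ⧸ frattini X) ≠ 1 := fun h => hx ((QuotientGroup.eq_one_iff x).mp h)
  have hψx : ψ (x : X ⧸ frattini X) ≠ x := fun h => hx1 (mem_bot.mp (hbot ▸ (h : (x : X ⧸ frattini X) ∈ F)))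
  set W := H.map (QuotientGroup.mk' (frattini X)) with hW
  have hxW : (x : X ⧸ frattini X) ∈ W := mem_map_of_mem _ (subset_closure (by simp))
  have hψW : ψ (x : X ⧸ frattini X) ∈ W := mem_map_of_mem _ (subset_closure (by simp) : α x ∈ H)
  have h3 : 3 ≤ Nat.card W := by
    have hne1 : ψ (x : X ⧸ frattini X) ≠ 1 := fun h => hx1 (ψ.injective (h.trans (map_one ψ).symm))
    have hfin := (W : Set (X ⧸ frattini X)).toFinite
    rw [show Nat.card W = (W : Set (X ⧸ frattini X)).ncard from rfl]
    calc 3 = ({1, (x : X ⧸ frattini X), ψ x} : Set (X ⧸ frattini X)).ncard :=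
          (Set.ncard_eq_three.mpr ⟨(1 : X ⧸ frattini X), (x : X ⧸ frattini X), ψ (x : X ⧸ frattini X),
            hx1.symm, hne1.symm, hψx.symm, rfl⟩).symm
      _ ≤ _ := Set.ncard_le_ncard (Set.insert_subset (one_mem W)
          (Set.insert_subset hxW (Set.singleton_subset_iff.mpr hψW))) hfin
  have htop : W = ⊤ := by
    refine eq_top_of_card_eq _ ?_
    obtain ⟨i, hi, hi'⟩ := (Nat.dvd_prime_pow Nat.prime_two).mp (hk ▸ card_subgroup_dvd_card W)
    interval_cases i <;> simp_all
  have := congrArg (Subgroup.comap (QuotientGroup.mk' (frattini X))) htop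
  rwa [comap_map_eq, comap_top, QuotientGroup.ker_mk'] at this

theorem eq_top_of_invariant {α : MulAut X} (hS : Spread α) (S : Subgroup X)
    (hinv : ∀ x ∈ S, α x ∈ S) (hi : S.index ≤ 2) : S = ⊤ := by
  by_cases h : ∃ x ∈ S, x ∉ frattini X
  · obtain ⟨x, hx, hxf⟩ := h
    rw [eq_top_iff, ← hS.2 x hxf, closure_le]
    rintro y (rfl | rfl)
    · exact hx
    · exact hinv x hx
  · push Not at h
    have := index_antitone (H := S) (K := frattini X) h
    rw [hS.1] at this
    omega

theorem hom_trivial {α : MulAut X} (hS : Spread α) {Y : Type*} [Group Y] [Finite Y]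
    (f : X →* Y) (hr : Nat.card f.range ≤ 2) (hinv : ∀ x, f x = 1 → f (α x) = 1) (x : X) : f x = 1 := by
  have hi : f.ker.index ≤ 2 := by rwa [index_ker]
  refine MonoidHom.mem_ker.mp ((eq_top_of_invariant hS f.ker (fun y hy => hinv y hy) hi).ge (mem_top x))

theorem mem_closure_pair {H : Subgroup X} {x y : X} (hxy : closure ({x, y} : Set X) = ⊤)
    (hx : x ∈ H) (hy : y ∈ H) : H = ⊤ := by
  rw [eq_top_iff, ← hxy, closure_le]
  rintro z (rfl | rfl) <;> assumption

/-- The abelian case. -/
theorem homocyclic (hX : IsPGroup 2 X) (hc : ∀ a b : X, a * b = b * a) {α : MulAut X} (hS : Spread α)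
    {x : X} (hx : x ∉ frattini X) :
    ∃ n, 1 ≤ n ∧ orderOf x = 2 ^ n ∧ orderOf (α x) = 2 ^ n ∧ zpowers x ⊓ zpowers (α x) = ⊥ ∧
      Nat.card X = 2 ^ n * 2 ^ n ∧ ∀ g : X, g ^ 2 ^ n = 1 := by
  obtain ⟨n, hn⟩ := IsPGroup.iff_orderOf.mp hX x
  have hn' : orderOf (α x) = 2 ^ n := by rw [MulEquiv.orderOf_eq, hn]
  have hx1 : x ≠ 1 := fun h => hx (h ▸ one_mem _)
  have hn1 : 1 ≤ n := Nat.pos_of_ne_zero fun h => hx1 (orderOf_eq_one_iff.mp (by rw [hn, h, pow_zero]))
  have hxy := hS.2 x hx
  let g0 : ℕ → X →* X := fun k => MonoidHom.mk' (fun g => g ^ k) fun a b => Commute.mul_pow (hc a b) k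
  have hexp : ∀ g : X, g ^ 2 ^ n = 1 := fun g =>
    MonoidHom.mem_ker.mp ((mem_closure_pair hxy
      (show x ∈ (g0 (2 ^ n)).ker from MonoidHom.mem_ker.mpr (hn ▸ pow_orderOf_eq_one x))
      (show α x ∈ (g0 (2 ^ n)).ker from MonoidHom.mem_ker.mpr (hn' ▸ pow_orderOf_eq_one (α x)))).ge
        (mem_top g))
  have hinf : zpowers x ⊓ zpowers (α x) = ⊥ := by
    by_contra hne
    obtain ⟨z, hz, hz2⟩ := exists_orderOf_eq_of_ne_bot (p := 2) (hX.to_subgroup _) hne
    have key : ∀ w : X, orderOf w = 2 ^ n → z ∈ zpowers w → z = w ^ 2 ^ (n - 1) := by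
      intro w hw hzw
      obtain ⟨j, rfl⟩ := mem_zpowers_iff.mp hzw
      have h2 : (w ^ j) ^ 2 = 1 := hz2 ▸ pow_orderOf_eq_one _
      rw [← zpow_natCast, ← zpow_mul, ← orderOf_dvd_iff_zpow_eq_one, hw] at h2
      have h3 : ((2 ^ (n - 1) : ℕ) : ℤ) ∣ j := by
        rw [show (2 : ℕ) ^ n = 2 ^ (n - 1) * 2 by rw [← pow_succ, Nat.sub_add_cancel hn1]] at h2
        push_cast at h2 ⊢
        exact Int.dvd_of_mul_dvd_mul_right (by norm_num) h2
      obtain ⟨i, hi⟩ := h3
      rcases Int.even_or_odd i with ⟨m, hm⟩ | ⟨m, hm⟩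
      · exfalso
        refine absurd hz2 ?_
        have : w ^ j = 1 := by
          rw [← orderOf_dvd_iff_zpow_eq_one, hw, hi, hm]
          exact ⟨m, by rw [show (2 : ℕ) ^ n = 2 ^ (n - 1) * 2 by
            rw [← pow_succ, Nat.sub_add_cancel hn1]]; push_cast; ring⟩
        rw [this, orderOf_one]; norm_num
      · rw [← zpow_natCast, hi, hm, mul_add, mul_one, zpow_add, zpow_mul, zpow_mul, zpow_natCast]
        have : (w ^ 2 ^ (n - 1)) ^ (2 : ℤ) = 1 := by
          rw [zpow_ofNat, ← pow_mul, ← pow_succ, Nat.sub_add_cancel hn1, ← hw, pow_orderOf_eq_one]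
        rw [this, one_zpow, one_mul]
    have h1 := key x hn hz.1
    have h2 := key (α x) hn' hz.2
    have hr : (g0 (2 ^ (n - 1))).range ≤ zpowers z := by
      rw [MonoidHom.range_eq_map, map_le_iff_le_comap, ← hxy, closure_le]
      rintro w (rfl | rfl)
      · exact h1 ▸ mem_zpowers z
      · exact h2 ▸ mem_zpowers z
    have h3 := hom_trivial hS (g0 (2 ^ (n - 1)))
      ((card_le_of_le hr).trans (by rw [Nat.card_zpowers, hz2]))
      (fun w (hw : w ^ 2 ^ (n - 1) = 1) => show (α w) ^ 2 ^ (n - 1) = 1 by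
        rw [← map_pow, hw, map_one]) x
    rw [show z = 1 from h1.trans h3, orderOf_one] at hz2
    norm_num at hz2
  refine ⟨n, hn1, hn, hn', hinf, ?_, hexp⟩
  haveI : (zpowers x).Normal := ⟨fun a ha b => by rwa [hc b a, mul_inv_cancel_right]⟩
  have h := card_sup_of_normal (A := zpowers x) (B := zpowers (α x)) hinf
  rw [mem_closure_pair hxy (mem_sup_left (mem_zpowers x) : x ∈ zpowers x ⊔ zpowers (α x))
    (mem_sup_right (mem_zpowers (α x))), card_top, Nat.card_zpowers, Nat.card_zpowers, hn, hn'] at h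
  exact h

/-- A finite metacyclic 2-group whose automorphism group is not a 2-group is isomorphic to the quaternion group of order 8 or to a homocyclic abelian group Z_{2^n} × Z_{2^n}. -/
theorem result {X : Type*} [Group X] [Finite X] (hX : IsPGroup 2 X)
    (hm : Cfsg.IsMetacyclic X) (hA : ¬ IsPGroup 2 (MulAut X)) :
    Nonempty (X ≃* QuaternionGroup 2) ∨
      ∃ n : ℕ, Nonempty (X ≃* Multiplicative (ZMod (2 ^ n)) × Multiplicative (ZMod (2 ^ n))) := by
  classical
  obtain ⟨q, hq, hq2, hdvd⟩ : ∃ q, q.Prime ∧ q ≠ 2 ∧ q ∣ Nat.card (MulAut X) := by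
    by_contra hno
    push Not at hno
    exact hA (IsPGroup.of_card (Nat.eq_prime_pow_of_unique_prime_dvd Nat.card_pos.ne'
      fun {d} hd hdd => by
        by_contra hne
        exact hno d hd hne hdd))
  haveI := Fact.mk hq
  obtain ⟨α, hαo⟩ := exists_prime_orderOf_dvd_card' q hdvd
  have hαq : α ^ q = 1 := hαo ▸ pow_orderOf_eq_one α
  have hα1 : α ≠ 1 := fun h => hq.one_lt.ne (by rw [← hαo, h, orderOf_one])
  obtain ⟨A, hAn, hAc, hQc⟩ := hm
  obtain ⟨⟨a, ha⟩, hag⟩ := hAc.exists_generator
  obtain ⟨b', hbg⟩ := hQc.exists_generator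
  obtain ⟨b, rfl⟩ := QuotientGroup.mk'_surjective A b'
  have hAle : ∀ y ∈ A, y ∈ zpowers a := fun y hy => by
    obtain ⟨k, hk⟩ := mem_zpowers_iff.mp (hag ⟨y, hy⟩)
    exact mem_zpowers_iff.mpr ⟨k, congrArg Subtype.val hk⟩
  have hab : closure ({a, b} : Set X) = ⊤ := by
    refine eq_top_iff.mpr fun g _ => ?_
    obtain ⟨k, hk⟩ := mem_zpowers_iff.mp (hbg (QuotientGroup.mk' A g))
    rw [← map_zpow, QuotientGroup.mk'_eq_mk'] at hk
    obtain ⟨z, hz, rfl⟩ := hk
    exact mul_mem (zpow_mem (subset_closure (by simp)) k)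
      (zpowers_le.mpr (subset_closure (by simp)) (hAle z hz))
  have hS := spread_of_order hX hq2 hαq hα1 hab
  obtain ⟨x, hx⟩ : ∃ x, x ∉ frattini X := by
    by_contra h
    push Not at h
    have := hS.1
    rw [(eq_top_iff.mpr fun g _ => h g : frattini X = ⊤), index_top] at this
    omega
  have hxy := hS.2 x hx
  by_cases hc : ∀ u v : X, u * v = v * u
  · right
    obtain ⟨n, hn1, hnx, hny, hinf, hcard, hexp⟩ := homocyclic hX hc hS hx
    refine ⟨n, ⟨(MulEquiv.ofBijective (MonoidHom.noncommCoprod (zpowers x).subtype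
      (zpowers (α x)).subtype fun u v => hc u v) ?_).symm.trans ?_⟩⟩
    · rw [Nat.bijective_iff_surjective_and_card]
      refine ⟨fun g => ?_, by rw [Nat.card_prod, Nat.card_zpowers, Nat.card_zpowers, hnx, hny, hcard]⟩
      refine MonoidHom.mem_range.mp ((mem_closure_pair hxy ?_ ?_).ge (mem_top g))
      · exact ⟨(⟨x, mem_zpowers x⟩, 1), mul_one x⟩
      · exact ⟨(1, ⟨α x, mem_zpowers _⟩), one_mul _⟩
    · haveI h1 : IsCyclic (zpowers x) := inferInstance
      refine MulEquiv.prodCongr ?_ ?_
      · exact (zmodCyclicMulEquiv (G := zpowers x) inferInstance).symm.trans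
          (AddEquiv.toMultiplicative (ZMod.ringEquivCongr (by rw [Nat.card_zpowers, hnx])).toAddEquiv)
      · exact (zmodCyclicMulEquiv (G := zpowers (α x)) inferInstance).symm.trans
          (AddEquiv.toMultiplicative (ZMod.ringEquivCongr (by rw [Nat.card_zpowers, hny])).toAddEquiv)
  left
  -- the derived group is cyclic, inside `A`
  set D := commutator X with hD
  have hQab : ∀ u v : X ⧸ A, u * v = v * u := fun u v =>
    (IsCyclic.isMulCommutative (α := X ⧸ A)).is_comm.comm u v
  have hDA : D ≤ A := by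
    rw [hD, _root_.commutator_def, Subgroup.commutator_le]
    intro u _ v _
    rw [← QuotientGroup.eq_one_iff, ← QuotientGroup.mk'_apply, map_commutatorElement,
      commutatorElement_eq_one_iff_mul_comm]
    exact hQab _ _
  haveI : IsCyclic D := isCyclic_of_injective (inclusion hDA) (inclusion_injective hDA)
  obtain ⟨⟨d, hd⟩, hdg⟩ := IsCyclic.exists_generator (α := D)
  have hDle : ∀ y ∈ D, y ∈ zpowers d := fun y hy => by
    obtain ⟨k, hk⟩ := mem_zpowers_iff.mp (hdg ⟨y, hy⟩)
    exact mem_zpowers_iff.mpr ⟨k, congrArg Subtype.val hk⟩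
  have hDeq : D = zpowers d := le_antisymm hDle (zpowers_le.mpr hd)
  -- `N` is the subgroup of squares of the derived group
  set N := zpowers (d ^ 2) with hN
  have hNiff : ∀ y, y ∈ N ↔ ∃ w ∈ D, w ^ 2 = y := by
    intro y
    constructor
    · rintro ⟨k, rfl⟩
      exact ⟨d ^ k, zpow_mem hd k, by
        show (d ^ k) ^ 2 = (d ^ 2) ^ k
        rw [← zpow_natCast, ← zpow_natCast d, ← zpow_mul, ← zpow_mul, mul_comm]⟩
    · rintro ⟨w, hw, rfl⟩
      obtain ⟨k, rfl⟩ := mem_zpowers_iff.mp (hDle w hw)
      exact mem_zpowers_iff.mpr ⟨k, by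
        rw [← zpow_natCast, ← zpow_natCast (d ^ k), ← zpow_mul, ← zpow_mul, mul_comm]⟩
  have hDinv : ∀ w ∈ D, α w ∈ D := fun w hw =>
    ((characteristic_iff_map_eq.mp (inferInstance : D.Characteristic)) α).le (mem_map_of_mem _ hw)
  have hNinv : ∀ w ∈ N, α w ∈ N := fun w hw => by
    obtain ⟨v, hv, rfl⟩ := (hNiff w).mp hw
    exact (hNiff _).mpr ⟨α v, hDinv v hv, (map_pow α v 2).symm⟩
  haveI hNn : N.Normal := ⟨fun y hy g => by
    obtain ⟨w, hw, rfl⟩ := (hNiff y).mp hy
    exact (hNiff _).mpr ⟨g * w * g⁻¹, (inferInstance : D.Normal).conj_mem w hw g, conj_pow⟩⟩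
  have hND : N ≤ D := zpowers_le.mpr (pow_mem hd 2)
  have hd1 : d ≠ 1 := fun h => hc fun u v => by
    have : ⁅u, v⁆ ∈ zpowers d := hDle _ (commutator_mem_commutator (mem_top u) (mem_top v))
    rw [h, zpowers_one_eq_bot, mem_bot, commutatorElement_eq_one_iff_mul_comm] at this
    exact this
  have hdN : d ∉ N := by
    intro h
    obtain ⟨k, hk⟩ := mem_zpowers_iff.mp h
    obtain ⟨j, hj⟩ := IsPGroup.iff_orderOf.mp hX d
    have h1 : d ^ ((2 * k - 1 : ℤ)) = 1 := by
      rw [zpow_sub, zpow_mul, zpow_one, zpow_ofNat, hk, mul_inv_cancel]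
    rw [← orderOf_dvd_iff_zpow_eq_one, hj] at h1
    rcases Nat.eq_zero_or_pos j with rfl | hj0
    · exact hd1 (orderOf_eq_one_iff.mp (by rw [hj, pow_zero]))
    · have : ((2 : ℕ) : ℤ) ∣ 2 * k - 1 := (Int.natCast_dvd_natCast.mpr (dvd_pow_self 2 hj0.ne')).trans h1
      push_cast at this
      omega
  -- the quotient by the derived group is homocyclic
  have hQp : IsPGroup 2 (X ⧸ D) := hX.to_quotient D
  have hDmap : D.map α.toMonoidHom = D := (characteristic_iff_map_eq.mp inferInstance) α
  let β : MulAut (X ⧸ D) := QuotientGroup.congr D D α hDmap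
  have hβ : ∀ g : X, β (g : X ⧸ D) = (α g : X ⧸ D) := fun g => rfl
  have hfrQ : (frattini X).map (QuotientGroup.mk' D) = frattini (X ⧸ D) :=
    map_frattini (p := 2) hX (QuotientGroup.mk'_surjective D)
  have hDfr : D ≤ frattini X := commutator_le_frattini (p := 2) hX
  have hmemQ : ∀ g : X, (g : X ⧸ D) ∈ frattini (X ⧸ D) ↔ g ∈ frattini X := fun g => by
    rw [← hfrQ, ← QuotientGroup.mk'_apply, ← mem_comap, comap_map_eq, QuotientGroup.ker_mk',
      sup_eq_left.mpr hDfr]
  have hSQ : Spread β := by
    refine ⟨?_, fun u => ?_⟩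
    · rw [← hfrQ, index_map_eq _ (QuotientGroup.mk'_surjective D) (by rwa [QuotientGroup.ker_mk']), hS.1]
    · obtain ⟨g, rfl⟩ := QuotientGroup.mk'_surjective D u
      intro hu
      have h := congrArg (Subgroup.map (QuotientGroup.mk' D)) (hS.2 g fun h => hu ((hmemQ g).mpr h))
      rw [MonoidHom.map_closure, map_top_of_surjective _ (QuotientGroup.mk'_surjective D),
        Set.image_pair] at h
      exact h
  have hQc' : ∀ u v : X ⧸ D, u * v = v * u := by
    intro u v
    obtain ⟨g, rfl⟩ := QuotientGroup.mk'_surjective D u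
    obtain ⟨h, rfl⟩ := QuotientGroup.mk'_surjective D v
    rw [← commutatorElement_eq_one_iff_mul_comm, ← map_commutatorElement, QuotientGroup.mk'_apply,
      QuotientGroup.eq_one_iff]
    exact commutator_mem_commutator (mem_top g) (mem_top h)
  obtain ⟨n, hn1, -, -, -, hcard, hexp⟩ := homocyclic hQp hQc' hSQ (x := (x : X ⧸ D))
    (fun h => hx ((hmemQ x).mp h))
  have hDpow : ∀ g : X, g ^ 2 ^ n ∈ D := fun g => by
    rw [← QuotientGroup.eq_one_iff, QuotientGroup.mk_pow]; exact hexp _
  -- `X / N` has derived group of order two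
  set π := QuotientGroup.mk' N with hπ
  have hNmap : ∀ y, y ∈ N ↔ π y = 1 := fun y => (QuotientGroup.eq_one_iff y).symm
  have hD2 : Nat.card (D.map π) = 2 := by
    rw [hDeq, MonoidHom.map_zpowers, Nat.card_zpowers]
    refine orderOf_eq_prime ?_ ((hNmap d).not.mp hdN)
    rw [← map_pow, ← hNmap]
    exact mem_zpowers _
  haveI : (D.map π).Normal := Subgroup.Normal.map inferInstance _ (QuotientGroup.mk'_surjective N)
  have hcen : D.map π ≤ center (X ⧸ N) := le_center_of_card_eq_prime (hX.to_quotient N) hD2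
  have hcomm : ∀ u v : X, ⁅π u, π v⁆ ∈ center (X ⧸ N) := fun u v => hcen (by
    rw [← map_commutatorElement]
    exact mem_map_of_mem _ (commutator_mem_commutator (mem_top u) (mem_top v)))
  have hsq : ∀ u v : X, ⁅π u, π v⁆ ^ 2 = 1 := fun u v => by
    rw [← map_commutatorElement]
    exact orderOf_dvd_iff_pow_eq_one.mp (by
      rw [← Subgroup.orderOf_mk (H := D.map π) _
        (mem_map_of_mem _ (commutator_mem_commutator (mem_top u) (mem_top v)))]
      exact hD2 ▸ orderOf_dvd_natCard _)
  rcases Nat.lt_or_ge 1 n with hn | hn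
  · exfalso
    have hhom : ∀ u v : X, π (u * v) ^ 2 ^ n = π u ^ 2 ^ n * π v ^ 2 ^ n := by
      intro u v
      rw [map_mul, mul_pow_of_central (hcomm v u)]
      obtain ⟨m, hm⟩ : 2 ∣ (2 ^ n).choose 2 := Nat.prime_two.dvd_choose_pow (by norm_num) (by
        have : 2 ^ 1 < 2 ^ n := Nat.pow_lt_pow_right (by norm_num) hn
        simp at this; omega)
      rw [hm, pow_mul, hsq, one_pow, mul_one]
    let f : X →* X ⧸ N := MonoidHom.mk' (fun g => π g ^ 2 ^ n) hhom
    have hr : Nat.card f.range ≤ 2 := hD2 ▸ card_le_of_le (by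
      rintro _ ⟨g, rfl⟩
      exact ⟨g ^ 2 ^ n, hDpow g, map_pow π g _⟩)
    have hall : ∀ g : X, π g ^ 2 ^ n = 1 := hom_trivial hS f hr
      (fun g (hg : π g ^ 2 ^ n = 1) => show π (α g) ^ 2 ^ n = 1 by
        rw [← map_pow, ← hNmap] at hg ⊢
        rw [← map_pow]
        exact hNinv _ hg)
    have h1 : Nat.card (A.map π) ≤ 2 ^ n := by
      have : A.map π ≤ zpowers (π a) := by
        rintro _ ⟨y, hy, rfl⟩
        obtain ⟨k, rfl⟩ := mem_zpowers_iff.mp (hAle y hy)
        exact ⟨k, (map_zpow π a k).symm⟩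
      refine (card_le_of_le this).trans ?_
      rw [Nat.card_zpowers]
      exact Nat.le_of_dvd (by positivity) (orderOf_dvd_of_pow_eq_one (hall a))
    have h2 : (A.map π).index ≤ 2 ^ n := by
      rw [index_map_eq _ (QuotientGroup.mk'_surjective N)
        (by rw [QuotientGroup.ker_mk']; exact hND.trans hDA), index_eq_card,
        ← orderOf_eq_card_of_forall_mem_zpowers hbg, QuotientGroup.mk'_apply]
      refine Nat.le_of_dvd (by positivity) (orderOf_dvd_of_pow_eq_one ?_)
      rw [← QuotientGroup.mk_pow, QuotientGroup.eq_one_iff]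
      exact hDA (hDpow b)
    have h3 : Nat.card (X ⧸ N) = 2 ^ n * 2 ^ n * 2 := by
      rw [← card_mul_index (D.map π), hD2, index_map_eq _ (QuotientGroup.mk'_surjective N)
        (by rw [QuotientGroup.ker_mk']; exact hND), index_eq_card, hcard, mul_comm]
    have h4 := Nat.mul_le_mul h1 h2
    rw [card_mul_index, h3] at h4
    have : 0 < 2 ^ n * 2 ^ n := by positivity
    omega
  obtain rfl : n = 1 := by omega
  simp only [pow_one] at hcard hDpow
  have hDfr' : frattini X = D := by
    refine (eq_of_le_of_card_ge hDfr ?_).symm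
    have h1 := card_mul_index (frattini X)
    have h2 := card_mul_index D
    rw [hS.1] at h1
    rw [index_eq_card, hcard] at h2
    omega
  -- the square of `x` generates the derived group
  have hgen : ∀ g : X, g ∉ frattini X → g ^ 2 ∉ N := by
    intro g hg hg2
    have h2 : ∀ m, α^[m] g ^ 2 ∈ N := by
      intro m
      induction m with
      | zero => exact hg2
      | succ m ih => rw [Function.iterate_succ_apply', ← map_pow]; exact hNinv _ ih
    have hne : ∀ m, α^[m] g ∉ frattini X := by
      intro m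
      induction m with
      | zero => exact hg
      | succ m ih =>
        rw [Function.iterate_succ_apply']
        intro h
        refine ih ?_
        have := ((characteristic_iff_map_eq.mp
          (inferInstance : (frattini X).Characteristic)) α).symm ▸ h
        obtain ⟨w, hw, hwe⟩ := this
        exact (α.injective hwe) ▸ hw
    have hgy := hS.2 g hg
    have hyz := hS.2 (α g) (hne 1)
    have hsq1 : ∀ m, π (α^[m] g) ^ 2 = 1 := fun m => by rw [← map_pow, ← hNmap]; exact h2 m
    set u := π g with hu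
    set v := π (α g) with hv
    set w := π (α (α g)) with hw
    -- `w = u v` modulo the derived group
    have hex : ∃ e ∈ D, α (α g) = g * α g * e := by
      have key : ∀ s : X ⧸ frattini X, s = 1 ∨ s = (g : X) ∨ s = (α g : X) ∨ s = (g * α g : X) := by
        intro s
        have hc4 : Nat.card (X ⧸ frattini X) = 4 := by rw [← index_eq_card, hS.1]
        have hne1 : ((g : X) : X ⧸ frattini X) ≠ 1 := fun h => hg ((QuotientGroup.eq_one_iff g).mp h)
        have hne2 : ((α g : X) : X ⧸ frattini X) ≠ 1 := fun h =>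
          hne 1 ((QuotientGroup.eq_one_iff _).mp h)
        have hne3 : ((g : X) : X ⧸ frattini X) ≠ (α g : X) := fun h => by
          have h' : closure ({g, α g} : Set X) ≤ zpowers g ⊔ frattini X := by
            rw [closure_le]
            rintro y (rfl | rfl)
            · exact mem_sup_left (mem_zpowers _)
            · rw [← mul_inv_cancel_left g (α g)]
              exact mul_mem (mem_sup_left (mem_zpowers g)) (mem_sup_right (QuotientGroup.eq.mp h))
          rw [hgy, top_le_iff] at h'
          have h5 := frattini_nongenerating h'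
          exact hc fun s t => by
            obtain ⟨i, rfl⟩ := mem_zpowers_iff.mp (h5 ▸ mem_top s)
            obtain ⟨j, rfl⟩ := mem_zpowers_iff.mp (h5 ▸ mem_top t)
            exact (Commute.zpow_zpow (Commute.refl g) i j).eq
        have hset : ({1, ((g : X) : X ⧸ frattini X), ((α g : X) : X ⧸ frattini X),
            ((g * α g : X) : X ⧸ frattini X)} : Set (X ⧸ frattini X)) = Set.univ := by
          have hinv2 : ∀ r : X ⧸ frattini X, r⁻¹ = r := fun r =>
            inv_eq_of_mul_eq_one_left (by rw [← pow_two]; exact (quotient_frattini_elementary (p := 2) hX).2 r)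
          refine Set.eq_of_subset_of_ncard_le (Set.subset_univ _) (le_of_eq ?_) Set.finite_univ
          rw [Set.ncard_univ, hc4]
          rw [Set.ncard_insert_of_notMem, Set.ncard_eq_three.mpr ⟨_, _, _, hne3, ?_, ?_, rfl⟩]
          · rw [QuotientGroup.mk_mul]; intro h; exact hne2 (left_eq_mul.mp h)
          · rw [QuotientGroup.mk_mul]; intro h; exact hne1 (right_eq_mul.mp h)
          · simp only [Set.mem_insert_iff, Set.mem_singleton_iff, not_or]
            refine ⟨hne1.symm, hne2.symm, fun h => hne3 ?_⟩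
            rw [QuotientGroup.mk_mul] at h
            exact (eq_inv_of_mul_eq_one_left h.symm).trans (hinv2 _)
        have := hset.ge (Set.mem_univ s)
        simpa using this
      have h0 : ((α (α g) : X) : X ⧸ frattini X) = (g * α g : X) := by
        rcases key (α (α g) : X) with h | h | h | h
        · exact absurd ((QuotientGroup.eq_one_iff _).mp h) (hne 2)
        · -- `α² g ≡ g` makes `⟨α g, α² g⟩ = ⟨g, α g⟩` fixed by squaring of `α`
          exfalso
          have h3 : ∀ m : ℕ, ((α^[2 * m] g : X) : X ⧸ frattini X) = (g : X) := by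
            intro m
            induction m with
            | zero => rfl
            | succ m ih =>
              rw [show 2 * (m + 1) = 2 * m + 2 by ring, Function.iterate_add_apply]
              have hmap : ∀ r t : X, ((r : X) : X ⧸ frattini X) = (t : X) →
                  ((α r : X) : X ⧸ frattini X) = (α t : X) := fun r t h => by
                rw [QuotientGroup.eq] at h ⊢
                rw [← map_inv, ← map_mul]
                exact ((characteristic_iff_map_eq.mp inferInstance) α).le (mem_map_of_mem _ h)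
              refine (?_ : _ = ((α^[2 * m] g : X) : X ⧸ frattini X)).trans ih
              have hit : ∀ (k : ℕ) (r t : X), ((r : X) : X ⧸ frattini X) = (t : X) →
                  ((α^[k] r : X) : X ⧸ frattini X) = (α^[k] t : X) := by
                intro k
                induction k with
                | zero => exact fun r t h => h
                | succ k ihk =>
                  intro r t h
                  rw [Function.iterate_succ_apply', Function.iterate_succ_apply']
                  exact hmap _ _ (ihk r t h)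
              exact hit _ _ _ h
          have hq' : α^[q] g = g := by
            have : ∀ k : ℕ, (α ^ k) g = α^[k] g := by
              intro k
              induction k with
              | zero => rfl
              | succ k ihk => rw [pow_succ', MulAut.mul_apply, ihk, Function.iterate_succ_apply']
            rw [← this, hαq, MulAut.one_apply]
          obtain ⟨m, hm⟩ := hq.odd_of_ne_two ‹q ≠ 2›
          have h4 := h3 (m + 1)
          rw [show 2 * (m + 1) = 1 + q by omega, Function.iterate_add_apply, hq'] at h4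
          have h5 : closure ({g, α g} : Set X) ≤ zpowers g ⊔ frattini X := by
            rw [closure_le]
            rintro y (rfl | rfl)
            · exact mem_sup_left (mem_zpowers _)
            · rw [← mul_inv_cancel_left g (α g)]
              exact mul_mem (mem_sup_left (mem_zpowers g))
                (mem_sup_right (QuotientGroup.eq.mp h4.symm))
          rw [hgy, top_le_iff] at h5
          have h6 := frattini_nongenerating h5
          exact hc fun s t => by
            obtain ⟨i, rfl⟩ := mem_zpowers_iff.mp (h6 ▸ mem_top s)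
            obtain ⟨j, rfl⟩ := mem_zpowers_iff.mp (h6 ▸ mem_top t)
            exact (Commute.zpow_zpow (Commute.refl g) i j).eq
        · exfalso
          have h5 : closure ({α g, α (α g)} : Set X) ≤ zpowers (α g) ⊔ frattini X := by
            rw [closure_le]
            rintro y (rfl | rfl)
            · exact mem_sup_left (mem_zpowers _)
            · rw [← mul_inv_cancel_left (α g) (α (α g))]
              exact mul_mem (mem_sup_left (mem_zpowers _))
                (mem_sup_right (QuotientGroup.eq.mp h.symm))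
          rw [hyz, top_le_iff] at h5
          have h6 := frattini_nongenerating h5
          exact hc fun s t => by
            obtain ⟨i, rfl⟩ := mem_zpowers_iff.mp (h6 ▸ mem_top s)
            obtain ⟨j, rfl⟩ := mem_zpowers_iff.mp (h6 ▸ mem_top t)
            exact (Commute.zpow_zpow (Commute.refl (α g)) i j).eq
        · exact h
      exact ⟨(g * α g)⁻¹ * α (α g), hDfr' ▸ QuotientGroup.eq.mp h0.symm, by rw [mul_inv_cancel_left]⟩
    obtain ⟨e, he, hee⟩ := hex
    have hecen : π e ∈ center (X ⧸ N) := hcen (mem_map_of_mem _ he)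
    have he2 : π e ^ 2 = 1 := by
      rw [← map_pow, ← hNmap]; exact (hNiff _).mpr ⟨e, he, rfl⟩
    have huv : (u * v) ^ 2 = 1 := by
      have h := hsq1 2
      rw [show α^[2] g = α (α g) from rfl, hee, map_mul, map_mul,
        Commute.mul_pow (mem_center_iff.mp hecen _), he2, mul_one] at h
      exact h
    have hu1 : u ^ 2 = 1 := hsq1 0
    have hv1 : v ^ 2 = 1 := hsq1 1
    have huv' : Commute u v := by
      rw [pow_two] at huv hu1 hv1
      calc u * v = (u * v)⁻¹ := (inv_eq_of_mul_eq_one_right huv).symm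
        _ = v⁻¹ * u⁻¹ := mul_inv_rev u v
        _ = v * u := by rw [inv_eq_of_mul_eq_one_right hu1, inv_eq_of_mul_eq_one_right hv1]
    refine hdN (hNmap d |>.mpr ?_)
    have htop : ∀ s : X, Commute (π s) u ∧ Commute (π s) v := fun s => by
      have hle : closure ({g, α g} : Set X) ≤
          (centralizer ({u, v} : Set (X ⧸ N))).comap π := by
        rw [closure_le]
        rintro y (rfl | rfl) <;> refine mem_centralizer_iff.mpr ?_ <;>
          rintro r (rfl | rfl)
        · rfl
        · exact huv'.symm.eq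
        · exact huv'.eq
        · rfl
      have hs := mem_centralizer_iff.mp ((hgy ▸ hle) (mem_top s))
      exact ⟨(hs u (by simp)).symm, (hs v (by simp)).symm⟩
    have hall : ∀ s t : X, Commute (π s) (π t) := fun s t => by
      have hle : closure ({g, α g} : Set X) ≤ (centralizer ({π s} : Set (X ⧸ N))).comap π := by
        rw [closure_le]
        rintro y (rfl | rfl)
        · exact mem_centralizer_singleton_iff.mpr (htop s).1.symm.eq
        · exact mem_centralizer_singleton_iff.mpr (htop s).2.symm.eq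
      exact (mem_centralizer_singleton_iff.mp ((hgy ▸ hle) (mem_top t))).symm
    have hDbot : D ≤ π.ker := by
      rw [hD, _root_.commutator_def, Subgroup.commutator_le]
      intro s _ t _
      rw [MonoidHom.mem_ker, map_commutatorElement, commutatorElement_eq_one_iff_commute]
      exact hall s t
    exact hDbot hd
  have hsqgen : ∀ g : X, g ∉ frattini X → zpowers (g ^ 2) = D := by
    intro g hg
    refine le_antisymm (zpowers_le.mpr (hDpow g)) ?_
    obtain ⟨k, hk⟩ := mem_zpowers_iff.mp (hDle _ (hDpow g))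
    rcases Int.even_or_odd k with ⟨m, hm⟩ | ⟨m, hm⟩
    · refine absurd ((hNiff _).mpr ⟨d ^ m, zpow_mem hd m, ?_⟩) (hgen g hg)
      rw [← hk, hm, ← two_mul, zpow_mul, zpow_ofNat, ← zpow_natCast, ← zpow_natCast d, ← zpow_mul,
        ← zpow_mul, mul_comm]
    · rw [hDeq]
      obtain ⟨j, hj⟩ := IsPGroup.iff_orderOf.mp hX d
      obtain ⟨u, v, huv⟩ : IsCoprime k ((2 : ℤ) ^ j) :=
        (IsCoprime.symm (by rw [hm]; exact ⟨-m, 1, by ring⟩ : IsCoprime (2 : ℤ) k).symm.symm).pow_right
      refine zpowers_le.mpr (mem_zpowers_iff.mpr ⟨u, ?_⟩)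
      have : (d ^ ((2 : ℤ) ^ j)) = 1 := by
        rw [← orderOf_dvd_iff_zpow_eq_one, hj]; simp
      calc (g ^ 2) ^ u = d ^ (u * k + v * 2 ^ j) := by
            rw [zpow_add, mul_comm v, zpow_mul, zpow_mul d ((2 : ℤ) ^ j), this, one_zpow, mul_one,
              ← zpow_mul, mul_comm, zpow_mul, hk]
        _ = d := by rw [huv, zpow_one]
  have hyne : α x ∉ frattini X := fun h => by
    obtain ⟨w, hw, hwe⟩ :=
      ((characteristic_iff_map_eq.mp (inferInstance : (frattini X).Characteristic)) α).symm ▸ h
    exact hx ((α.injective hwe) ▸ hw)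
  set y := α x with hy
  have hdc : d ∈ center X := by
    have hle : closure ({x, y} : Set X) ≤ centralizer ({d} : Set X) := by
      rw [closure_le]
      rintro z (hz | hz) <;> rw [hz]
      · obtain ⟨k, hk⟩ := mem_zpowers_iff.mp (show d ∈ zpowers (x ^ 2) by rw [hsqgen x hx]; exact hd)
        exact mem_centralizer_singleton_iff.mpr
          (hk ▸ (((Commute.refl x).pow_right 2).zpow_right k).eq)
      · obtain ⟨k, hk⟩ := mem_zpowers_iff.mp (show d ∈ zpowers ((α x) ^ 2) by
          rw [hsqgen _ hyne]; exact hd)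
        exact mem_centralizer_singleton_iff.mpr
          (hk ▸ (((Commute.refl (α x)).pow_right 2).zpow_right k).eq)
    exact mem_center_iff.mpr fun g => mem_centralizer_singleton_iff.mp ((hxy ▸ hle) (mem_top g))
  have hDcen : D ≤ center X := hDeq ▸ zpowers_le.mpr hdc
  have hcxy := hDcen (commutator_mem_commutator (mem_top x) (mem_top y))
  have hc2 : ⁅x, y⁆ ^ 2 = 1 := by
    rw [← commutatorElement_pow_left hcxy, commutatorElement_eq_one_iff_mul_comm]
    exact (mem_center_iff.mp (hDcen (hDpow x)) y).symm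
  have hcd : D = zpowers ⁅x, y⁆ := by
    refine le_antisymm ?_ (zpowers_le.mpr (commutator_mem_commutator (mem_top x) (mem_top y)))
    set C := zpowers ⁅x, y⁆ with hC
    haveI : C.Normal := normal_of_le_center (zpowers_le.mpr hcxy)
    rw [hD, _root_.commutator_def, Subgroup.commutator_le]
    have hQxy : ∀ s t : X, ⁅s, t⁆ ∈ C := by
      have h0 : Commute ((x : X) : X ⧸ C) (y : X) := by
        rw [← commutatorElement_eq_one_iff_commute, ← QuotientGroup.mk'_apply,
          ← QuotientGroup.mk'_apply, ← map_commutatorElement]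
        exact (QuotientGroup.eq_one_iff _).mpr (mem_zpowers _)
      intro s t
      have h1 : ∀ r : X, Commute ((r : X) : X ⧸ C) (x : X) ∧ Commute ((r : X) : X ⧸ C) (y : X) := by
        intro r
        induction (hxy ▸ mem_top r : r ∈ closure ({x, y} : Set X)) using closure_induction with
        | mem z hz =>
          rcases hz with rfl | rfl
          · exact ⟨Commute.refl _, h0⟩
          · exact ⟨h0.symm, Commute.refl _⟩
        | one => exact ⟨Commute.one_left _, Commute.one_left _⟩
        | mul _ _ _ _ i1 i2 => exact ⟨i1.1.mul_left i2.1, i1.2.mul_left i2.2⟩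
        | inv _ _ i1 => exact ⟨i1.1.inv_left, i1.2.inv_left⟩
      rw [← QuotientGroup.eq_one_iff, ← QuotientGroup.mk'_apply, map_commutatorElement,
        commutatorElement_eq_one_iff_commute]
      induction (hxy ▸ mem_top t : t ∈ closure ({x, y} : Set X)) using closure_induction with
      | mem z hz => rcases hz with rfl | rfl; exacts [(h1 s).1, (h1 s).2]
      | one => rw [map_one]; exact Commute.one_right _
      | mul _ _ _ _ i1 i2 => rw [map_mul]; exact i1.mul_right i2
      | inv _ _ i1 => rw [map_inv]; exact i1.inv_right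
    exact fun s _ t _ => hQxy s t
  have hc1 : ⁅x, y⁆ ≠ 1 := fun h => hd1 (by
    have := hd
    rwa [hcd, h, zpowers_one_eq_bot, mem_bot] at this)
  have hDcard : Nat.card D = 2 := by
    rw [hcd, Nat.card_zpowers]; exact orderOf_eq_prime hc2 hc1
  have hX8 : Nat.card X = 4 * 2 := by
    rw [← card_mul_index D, index_eq_card, hcard, hDcard]
  have huniq : ∀ s ∈ D, s ≠ 1 → s = ⁅x, y⁆ := by
    intro s hs hs1
    rw [hcd] at hs
    obtain ⟨k, rfl⟩ := mem_zpowers_iff.mp hs
    rcases Int.even_or_odd k with ⟨m, rfl⟩ | ⟨m, rfl⟩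
    · exact absurd (by rw [← two_mul, zpow_mul, zpow_ofNat, hc2, one_zpow]) hs1
    · rw [zpow_add, zpow_mul, zpow_ofNat, hc2, one_zpow, one_mul, zpow_one]
  have hx2 : x ^ 2 = ⁅x, y⁆ := huniq _ (hDpow x) fun h => hgen x hx (h ▸ one_mem N)
  have hy2 : y ^ 2 = ⁅x, y⁆ := huniq _ (hDpow y) fun h => hgen y hyne (h ▸ one_mem N)
  have hox : orderOf x = 2 * 2 := by
    have := orderOf_eq_prime_pow (p := 2) (n := 1) (x := x) (by rwa [pow_one, hx2])
      (by rw [show (2 : ℕ) ^ (1 + 1) = 2 * 2 by norm_num, pow_mul, hx2, hc2])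
    simpa using this
  refine Cfsg.Agent.PGroupsCyclic.nonempty_mulEquiv_quaternion hox (fun hmem => hc1 ?_) ?_
    (by rw [hy2, hx2]) (by rw [hX8])
  · obtain ⟨k, hk⟩ := mem_zpowers_iff.mp hmem
    rw [commutatorElement_eq_one_iff_commute, ← hk]
    exact (Commute.refl x).zpow_right k
  · have h1 : y * x * y⁻¹ = ⁅x, y⁆⁻¹ * x := by rw [commutatorElement_def]; group
    rw [h1, inv_eq_of_mul_eq_one_right (by rw [← pow_two, hc2]) , ← hx2]
    refine (eq_inv_of_mul_eq_one_left ?_)
    rw [mul_assoc, ← pow_two, ← pow_two, hx2, hc2]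

end Cfsg.Agent.S1896
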