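import Mathlib
import Cfsg.Prelude.Def_Classical
import Cfsg.Agent.Lib.TableFrobenius
import Cfsg.Agent.Lib.SpectrumThreeByThree

set_option autoImplicit false

namespace Cfsg.Agent.S3438

open Cfsg.Agent.TableFrobenius Matrix

/-- Matrix with sixteen 4-bit entries. -/
def matOf (p c : ℕ) : Matrix (Fin 4) (Fin 4) (ZMod p) :=
  Matrix.of fun a b => ((c / 2 ^ (4 * (4 * a.val + b.val)) % 16 : ℕ) : ZMod p)

/-- Table data: a fixed-point-free group of order 24. -/
def data : Data where
  p := 7
  n := 23
  depth := 2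
  mat i := matOf 7 (([1152922604119523329, 4611690416475996162, 281887562006784, 2305845208241143812, 1126106602144256,
    563294624547840, 72163147154260064, 288283152709976144, 144203149006340144, 27021623550828544,
    13510811800588288, 22518019678810112, 6917535624717139974, 3458767812360667141,
    5764613020595519491, 1688920190354944, 844701150217472, 1407513127813888, 432363156414005264,
    216243150858289184, 360323154561925184, 4503604023005184, 18014415773245440, 9007207895023616] : List ℕ).getD i.val 0)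
  mul i j := Fin.ofNat 24 ((([8135923166407745605679949624286930577137728, 7444551830043782523426138603577571503259841,
    364812424959302519496138050864410224779586, 7782198296640136586852418404389119490019331,
    1045463517411962554093499455967179511722116, 5728107912688719869058680899548805103877,
    1764197939873173516934866407221898587967942, 724461221915091331933863242469192918147591,
    1405112293923082486050340860233132908786056, 2483215994017814574283136550848704155271881,
    2820862440174491131466931217589815057633866, 2129489795346650333975684174969670180594315,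
    3888162176211435217268195159467842051044172, 3196790839842402751512928847602362635846541,
    3534437306443748188880098213261515186049806, 4607096489440408013086286009560030731379791,
    4944742956036762076215129356005580244071376, 4253371619672798974920662907403916413846545,
    6012042671309591020771785961539903555720402, 5320671334945627938517901171591572296918291,
    5658317801541982001944253606453580131038356, 6730976984538562597999170861272828736964053,
    7068623451134916661425450662080047396689238, 6377252114770953579171639641093611392873879] : List ℕ).getD i.val 0 >>> (6 * j.val)) % 64)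
  inv i := Fin.ofNat 24 (([0, 3, 21, 1, 22, 23, 18, 20, 19, 15, 16, 17, 12, 14, 13, 9, 10, 11, 6, 8, 7, 2, 4, 5] : List ℕ).getD i.val 0)
  par i := Fin.ofNat 24 (([0, 0, 0, 1, 1, 2, 2, 4, 5, 6, 7, 8, 9, 10, 11, 12, 13, 14, 15, 16, 17, 18, 19, 20] : List ℕ).getD i.val 0)
  gen i := Fin.ofNat 24 (([1, 1, 2, 1, 2, 1, 2, 2, 2, 2, 2, 2, 2, 2, 2, 2, 2, 2, 2, 2, 2, 2, 2, 2] : List ℕ).getD i.val 0)
  fix i := matOf 7 (([0, 2305845208243240966, 4914610488161350708, 6917535624712945666, 4923054882635931956,
    4927277080586244660, 4899973569188200500, 6196976177009524755, 3891130968774672405,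
    4842570486309401668, 4851014880783982916, 4855237078734295620, 4611690416478093316,
    3458767812360667141, 5764613020595519491, 4918832685541245748, 4910388291066664500,
    4906166093116351796, 4827933567336251460, 5836776167749779555, 3530930959514927205,
    4846792683689296708, 4838348289214715460, 4834126091264402756] : List ℕ).getD i.val 0)
  chain k i := ((([16777215, 11, 1] : List ℕ).getD k 1) / 2 ^ i.val) % 2 == 1

theorem data_valid : data.Valid where
  prime := by norm_num [data]
  mat_zero := by decide +kernel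
  mat_gen := by decide +kernel
  par_lt := by decide +kernel
  mul_par := by decide +kernel
  mul_zero := by decide +kernel
  mul_word := by decide +kernel
  mul_inv := by decide +kernel
  fix_mul := by decide +kernel
  chain_zero := by decide +kernel
  chain_one := by decide +kernel
  chain_mul := by decide +kernel
  chain_inv := by decide +kernel
  chain_comm := by decide +kernel
  chain_last := by decide +kernel

theorem data_exp : ∀ i, (data.mul i)^[8] 0 = 0 ∨ (data.mul i)^[12] 0 = 0 := by decide +kernel

theorem data_eight : (data.mul 2)^[8] 0 = 0 ∧ ∀ m < 8, 0 < m → data.mat ((data.mul 2)^[m] 0) ≠ 1 := by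
  decide +kernel

theorem data_twelve : (data.mul 7)^[12] 0 = 0 ∧ ∀ m < 12, 0 < m → data.mat ((data.mul 7)^[m] 0) ≠ 1 := by
  decide +kernel

/-- The field with nine elements as `(ZMod 3)[i]`. -/
abbrev K9 : Type := QuadraticAlgebra (ZMod 3) (-1) 0

theorem charpoly_cases : ∀ x y : ZMod 3,
    (SpectrumThreeByThree.step (⟨x, y⟩ : K9) (⟨x, y⟩ * ⟨x, y⟩ * ⟨x, y⟩))^[7] (0, 0, 1) = (0, 0, 1) ∨
    (SpectrumThreeByThree.step (⟨x, y⟩ : K9) (⟨x, y⟩ * ⟨x, y⟩ * ⟨x, y⟩))^[8] (0, 0, 1) = (0, 0, 1) ∨
    (SpectrumThreeByThree.step (⟨x, y⟩ : K9) (⟨x, y⟩ * ⟨x, y⟩ * ⟨x, y⟩))^[12] (0, 0, 1) = (0, 0, 1) := by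
  decide +kernel

/-- Shorthand for elements of the field with nine elements. -/
def el (x y : ZMod 3) : K9 := ⟨x, y⟩

/-- Witness matrices (element, non-commuting partner, order). -/
def wit : List (Matrix (Fin 3) (Fin 3) K9 × Matrix (Fin 3) (Fin 3) K9 × ℕ) :=
  [(!![0, 0, el 0 1; el 1 1, el 1 1, 0; el 1 1, el 2 2, 0], !![0, 0, el 0 1; 0, el 0 1, 0; 1, 0, 0], 7),
   (!![0, 0, el 0 1; 0, el 0 1, 0; 1, 0, 0], !![0, 0, el 0 1; el 0 1, 0, 0; 0, el 2 0, 0], 8),
   (!![0, 0, el 0 1; el 1 1, el 2 1, 0; el 1 2, el 2 2, 0], !![0, 0, el 0 1; 0, el 0 1, 0; 1, 0, 0], 12)]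

theorem wit_spec : ∀ w ∈ wit, w.1.det = 1 ∧ w.2.1.det = 1 ∧
    w.1.transpose * w.1.map (fun z => z ^ 3) = 1 ∧ w.2.1.transpose * w.2.1.map (fun z => z ^ 3) = 1 ∧
    w.1 ^ w.2.2 = 1 ∧ ∀ m < w.2.2, 0 < m → w.1 ^ m * w.2.1 ≠ w.2.1 * w.1 ^ m := by
  decide +kernel

lemma mem_SU_iff {F : Type*} [Field F] (A : Matrix.SpecialLinearGroup (Fin 3) F) [CharP F 3] :
    A ∈ Cfsg.SU 3 F 3 ↔
      (A : Matrix (Fin 3) (Fin 3) F).transpose * (A : Matrix (Fin 3) (Fin 3) F).map (fun z => z ^ 3) = 1 := by
  constructor
  · intro h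
    ext i j
    have := h (Pi.single i 1) (Pi.single j 1)
    simp only [Cfsg.hermForm, Cfsg.slToMat] at this
    fin_cases i <;> fin_cases j <;>
      simpa [Matrix.mul_apply, Matrix.mulVec, dotProduct, Fin.sum_univ_three, Pi.single_apply] using this
  · intro h u v
    show Cfsg.hermForm 3 F 3 ((A : Matrix (Fin 3) (Fin 3) F) *ᵥ u) ((A : Matrix (Fin 3) (Fin 3) F) *ᵥ v) = _
    haveI : Fact (Nat.Prime 3) := ⟨Nat.prime_three⟩
    simp only [Cfsg.hermForm]
    have e : ∀ i, ((A : Matrix (Fin 3) (Fin 3) F) *ᵥ v) i ^ 3 =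
        ((A : Matrix (Fin 3) (Fin 3) F).map (fun z => z ^ 3) *ᵥ (fun j => v j ^ 3)) i := by
      intro i
      simp only [Matrix.mulVec, dotProduct, sum_pow_char, mul_pow, Matrix.map_apply]
    simp only [e]
    show ((A : Matrix (Fin 3) (Fin 3) F) *ᵥ u) ⬝ᵥ ((A : Matrix (Fin 3) (Fin 3) F).map (fun z => z ^ 3) *ᵥ (fun j => v j ^ 3)) = u ⬝ᵥ (fun j => v j ^ 3)
    rw [Matrix.dotProduct_mulVec, ← Matrix.mulVec_transpose, Matrix.mulVec_mulVec, dotProduct_comm]
    have h' : ((A : Matrix (Fin 3) (Fin 3) F).map (fun z => z ^ 3)).transpose * (A : Matrix (Fin 3) (Fin 3) F) = 1 := by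
      rw [← Matrix.transpose_transpose (A : Matrix (Fin 3) (Fin 3) F), ← Matrix.transpose_mul,
        Matrix.transpose_transpose, h, Matrix.transpose_one]
    rw [h', Matrix.one_mulVec, dotProduct_comm]

lemma neg_one_not_square : ∀ r : ZMod 3, -1 ≠ r * r := by decide

lemma psu_range {F : Type*} [Field F] [Fintype F] (hF : Fintype.card F = 9) :
    Set.range (orderOf : Cfsg.PSU 3 F 3 → ℕ) = {m | ∃ k ∈ ({7, 8, 12} : Finset ℕ), m ∣ k} := by
  haveI : CharP F 3 := by
    obtain ⟨p, hp⟩ := CharP.exists F
    obtain ⟨n, hpp, hn⟩ := FiniteField.card F p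
    have h1 : p ∣ 3 ^ 2 := by
      rw [show (3 : ℕ) ^ 2 = 9 from rfl, ← hF, hn]; exact dvd_pow_self p n.pos.ne'
    exact ((Nat.prime_dvd_prime_iff_eq hpp Nat.prime_three).1 (hpp.dvd_of_dvd_pow h1)) ▸ hp
  haveI : Fact (Nat.Prime 3) := ⟨Nat.prime_three⟩
  letI : Algebra (ZMod 3) F := ZMod.algebra F 3
  obtain ⟨i0, hi0⟩ : IsSquare (-1 : F) := FiniteField.isSquare_neg_one_iff.2 (by rw [hF]; decide)
  let ψa : K9 →ₐ[ZMod 3] F := QuadraticAlgebra.lift ⟨i0, by rw [← hi0]; simp⟩
  let ψ : K9 →+* F := ψa.toRingHom
  have hψapply : ∀ z : K9, ψ z = algebraMap (ZMod 3) F z.re + algebraMap (ZMod 3) F z.im * i0 := by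
    intro z
    simp [ψ, ψa, QuadraticAlgebra.lift, Algebra.smul_def]
  have hinj : Function.Injective ψ := by
    rw [injective_iff_map_eq_zero]
    intro z hz
    rw [hψapply] at hz
    by_cases h : z.im = 0
    · rw [h, map_zero, zero_mul, add_zero, map_eq_zero] at hz
      exact QuadraticAlgebra.ext hz h
    · exfalso
      have h' : i0 = algebraMap (ZMod 3) F (-(z.re / z.im)) := by
        have h0 : algebraMap (ZMod 3) F z.im ≠ 0 := by simpa using h
        rw [map_neg, map_div₀]
        field_simp
        linear_combination hz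
      rw [h', ← map_mul, show (-1 : F) = algebraMap (ZMod 3) F (-1) by simp] at hi0
      have hno : ∀ r : ZMod 3, -1 ≠ r * r := fun r => neg_one_not_square r
      exact hno _ ((algebraMap (ZMod 3) F).injective hi0)
  have hψ : Function.Bijective ψ := by
    haveI : Finite K9 := Finite.of_equiv _ (QuadraticAlgebra.equivProd (-1 : ZMod 3) 0).symm
    letI : Fintype K9 := Fintype.ofFinite K9
    rw [Fintype.bijective_iff_injective_and_card]
    refine ⟨hinj, ?_⟩
    rw [hF, Fintype.card_congr (QuadraticAlgebra.equivProd (-1 : ZMod 3) 0), Fintype.card_prod, ZMod.card]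
  refine range_orderOf _ (by decide) ?_ ?_
  · intro x
    obtain ⟨A, rfl⟩ := QuotientGroup.mk_surjective x
    obtain ⟨M, hM⟩ : ∃ M : Matrix (Fin 3) (Fin 3) F, M = ((A : Matrix.SpecialLinearGroup (Fin 3) F) : Matrix (Fin 3) (Fin 3) F) :=
      ⟨_, rfl⟩
    have hdet : M.det = 1 := hM ▸ (A : Matrix.SpecialLinearGroup (Fin 3) F).2
    have hu : M.transpose * M.map (fun z => z ^ 3) = 1 := hM ▸ (mem_SU_iff _).1 A.2
    have hadj : M.adjugate.trace = M.trace ^ 3 := by
      have h1 : M.transpose.adjugate = M.map (fun z => z ^ 3) := by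
        calc M.transpose.adjugate = M.transpose.adjugate * (M.transpose * M.map (fun z => z ^ 3)) := by
              rw [hu, mul_one]
          _ = M.map (fun z => z ^ 3) := by
              rw [← mul_assoc, Matrix.adjugate_mul, Matrix.det_transpose, hdet, one_smul, one_mul]
      rw [← Matrix.trace_transpose, Matrix.adjugate_transpose, h1]
      simp only [Matrix.trace, Matrix.diag, Matrix.map_apply]
      exact (sum_pow_char 3 _ _).symm
    obtain ⟨t, ht⟩ := hψ.2 M.trace
    have key : ∀ k, (SpectrumThreeByThree.step t (t * t * t))^[k] (0, 0, 1) = (0, 0, 1) →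
        (QuotientGroup.mk A : Cfsg.PSU 3 F 3) ^ k = 1 := by
      intro k hk
      have h1 : M ^ k = 1 := by
        apply SpectrumThreeByThree.pow_eq_one _ hdet
        rw [hadj, ← ht, ← map_pow, show t ^ 3 = t * t * t by rw [pow_succ, pow_two],
          SpectrumThreeByThree.map_step, hk]
        simp
      have h2 : A ^ k = 1 := Subtype.ext (Subtype.ext (by rw [hM] at h1; simpa using h1))
      rw [← QuotientGroup.mk_pow, h2]; rfl
    rcases charpoly_cases t.re t.im with h | h | h
    · exact ⟨7, by simp, key 7 h⟩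
    · exact ⟨8, by simp, key 8 h⟩
    · exact ⟨12, by simp, key 12 h⟩
  · intro k hk
    have hw : ∃ w ∈ wit, w.2.2 = k := by
      simp only [Finset.mem_insert, Finset.mem_singleton] at hk
      rcases hk with rfl | rfl | rfl <;> decide +kernel
    obtain ⟨w, hw, rfl⟩ := hw
    obtain ⟨d1, d2, u1, u2, hp, hnc⟩ := wit_spec w hw
    let φ := Matrix.SpecialLinearGroup.map (n := Fin 3) ψ
    have hφinj : Function.Injective φ := by
      intro a b hab
      apply Subtype.ext
      exact Matrix.map_injective hψ.1 (congrArg Subtype.val hab)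
    have hmem : ∀ a : Matrix.SpecialLinearGroup (Fin 3) K9,
        (a : Matrix (Fin 3) (Fin 3) K9).transpose * (a : Matrix (Fin 3) (Fin 3) K9).map (fun z => z ^ 3) = 1 →
        φ a ∈ Cfsg.SU 3 F 3 := by
      intro a ha
      rw [mem_SU_iff]
      have h1 := congrArg (fun N : Matrix (Fin 3) (Fin 3) K9 => N.map ψ) ha
      simp only [Matrix.map_mul, Matrix.map_one _ (map_zero ψ) (map_one ψ)] at h1
      rw [← h1]
      show ((a : Matrix (Fin 3) (Fin 3) K9).map ψ).transpose * ((a : Matrix (Fin 3) (Fin 3) K9).map ψ).map (fun z => z ^ 3) = _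
      rw [Matrix.transpose_map, Matrix.map_map, Matrix.map_map]
      congr 1
      ext i j
      simp
    let a : Matrix.SpecialLinearGroup (Fin 3) K9 := ⟨w.1, d1⟩
    let b : Matrix.SpecialLinearGroup (Fin 3) K9 := ⟨w.2.1, d2⟩
    let a' : Cfsg.SU 3 F 3 := ⟨φ a, hmem a u1⟩
    let b' : Cfsg.SU 3 F 3 := ⟨φ b, hmem b u2⟩
    refine ⟨QuotientGroup.mk a', SpectrumThreeByThree.orderOf_mk_center a' b' _ ?_ ?_ ?_⟩
    · simp only [Finset.mem_insert, Finset.mem_singleton] at hk
      omega
    · have ha : a ^ w.2.2 = 1 := Subtype.ext hp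
      apply Subtype.ext
      show φ a ^ w.2.2 = 1
      rw [← map_pow φ a, ha, map_one]
    · intro m hm hm0 heq
      have heq' : φ a ^ m * φ b = φ b * φ a ^ m := congrArg Subtype.val heq
      rw [← map_pow φ a, ← map_mul φ, ← map_mul φ] at heq'
      exact hnc m hm hm0 (congrArg Subtype.val (hφinj heq'))

/-- There is a finite solvable group with exactly the same set of element orders as the simple group PSU(3,3) (realised over the field with 9 elements). -/
theorem result {F : Type*} [Field F] [Fintype F] (hF : Fintype.card F = 9) :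
    ∃ (H : Type) (_ : Group H) (_ : Fintype H), Group.IsSolvable H ∧ Set.range (orderOf : H → ℕ) = Set.range (orderOf : Cfsg.PSU 3 F 3 → ℕ) := by
  haveI := data_valid.prime
  haveI := Data.frob_finite data_valid
  refine ⟨Data.Frob data_valid, inferInstance, Fintype.ofFinite _, Data.frob_solvable data_valid, ?_⟩
  rw [psu_range hF, Data.frob_range data_valid {8, 12} (by decide) ?_ ?_]
  · ext m
    simp [show data.p = 7 from rfl]
  · intro i
    rcases data_exp i with h | h
    · exact ⟨8, by simp, h⟩
    · exact ⟨12, by simp, h⟩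
  · intro k hk
    simp only [Finset.mem_insert, Finset.mem_singleton] at hk
    rcases hk with rfl | rfl
    · exact ⟨_, data_eight⟩
    · exact ⟨_, data_twelve⟩

end Cfsg.Agent.S3438
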