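-- PSL(2,7) inside PSU(3,3)
import Cfsg.Statements.S1897
import Cfsg.Agent.S3438
import Cfsg.Agent.Lib.SL2PresData

set_option autoImplicit false
open Cfsg

namespace Cfsg.Agent.S1897

open Matrix
open Cfsg.Agent.S3438 (K9 el)

/-- Images of the upper unitriangular matrices. -/
def uMat (x : ZMod 7) : Matrix (Fin 3) (Fin 3) K9 :=
  ![!![1, 0, 0; 0, 1, 0; 0, 0, 1],
    !![0, el 1 1, el 1 2; el 1 1, 1, el 0 1; el 1 1, el 2 0, el 0 2],
    !![el 2 2, el 0 2, 1; el 0 2, el 1 1, el 0 1; el 0 1, el 2 0, el 1 2],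
    !![el 2 0, el 2 0, el 2 2; el 2 0, el 2 2, el 2 0; el 1 2, el 0 2, el 0 2],
    !![el 2 0, el 2 0, el 1 1; el 2 0, el 2 1, el 0 1; el 2 1, el 2 0, el 0 1],
    !![el 2 1, el 0 1, el 0 2; el 0 1, el 1 2, el 2 0; 1, el 0 2, el 1 1],
    !![0, el 1 2, el 1 2; el 1 2, 1, el 2 0; el 1 1, el 0 2, el 0 1]] x

/-- Images of the diagonal matrices. -/
def dMat (a : ZMod 7) : Matrix (Fin 3) (Fin 3) K9 :=
  ![!![1, 0, 0; 0, 1, 0; 0, 0, 1],
    !![1, 0, 0; 0, 1, 0; 0, 0, 1],
    !![el 0 1, el 2 2, el 0 1; el 2 2, 0, el 1 1; el 0 2, el 2 2, el 0 2],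
    !![el 0 2, el 2 1, el 0 1; el 2 1, 0, el 2 1; el 0 2, el 1 2, el 0 1],
    !![el 0 2, el 2 1, el 0 1; el 2 1, 0, el 2 1; el 0 2, el 1 2, el 0 1],
    !![el 0 1, el 2 2, el 0 1; el 2 2, 0, el 1 1; el 0 2, el 2 2, el 0 2],
    !![1, 0, 0; 0, 1, 0; 0, 0, 1]] a

/-- Image of the Weyl element. -/
def wMat : Matrix (Fin 3) (Fin 3) K9 := !![0, 0, el 0 1; 0, el 2 0, 0; el 0 2, 0, 0]

/-- The map on entries, by the Bruhat decomposition. -/
def fVal (a b c d : ZMod 7) : Matrix (Fin 3) (Fin 3) K9 :=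
  if c = 0 then dMat a * uMat (b * a ^ 5) else uMat (a * c ^ 5) * wMat * dMat c * uMat (d * c ^ 5)

theorem fVal_one : fVal 1 0 0 1 = 1 := by decide +kernel

theorem fVal_mul_t : ∀ a b c d : ZMod 7, a * d - b * c = 1 →
    fVal a (a + b) c (c + d) = fVal a b c d * uMat 1 := by decide +kernel

theorem fVal_mul_w : ∀ a b c d : ZMod 7, a * d - b * c = 1 →
    fVal b (-a) d (-c) = fVal a b c d * wMat := by decide +kernel

theorem fVal_kernel : ∀ a b c d : ZMod 7, a * d - b * c = 1 →
    fVal a b c d * uMat 1 = uMat 1 * fVal a b c d → fVal a b c d * wMat = wMat * fVal a b c d →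
      b = 0 ∧ c = 0 ∧ a = d := by decide +kernel

theorem fVal_neg : ∀ a : ZMod 7, a * a = 1 → fVal a 0 0 a = 1 := by decide +kernel

theorem gens_unitary : (wMat.det = 1 ∧ wMat.transpose * wMat.map (fun z => z ^ 3) = 1) ∧
    (uMat 1).det = 1 ∧ (uMat 1).transpose * (uMat 1).map (fun z => z ^ 3) = 1 := by decide +kernel


instance fact_seven : Fact (Nat.Prime 7) := ⟨by norm_num⟩

/-- The hom candidate on `SL(2,7)`. -/
def F0 (g : SpecialLinearGroup (Fin 2) (ZMod 7)) : Matrix (Fin 3) (Fin 3) K9 :=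
  fVal (g.1 0 0) (g.1 0 1) (g.1 1 0) (g.1 1 1)

theorem det_eq (g : SpecialLinearGroup (Fin 2) (ZMod 7)) :
    g.1 0 0 * g.1 1 1 - g.1 0 1 * g.1 1 0 = 1 := by
  rw [← Matrix.det_fin_two]; exact g.2

/-- Unipotent generator. -/
def genT : SpecialLinearGroup (Fin 2) (ZMod 7) := ⟨!![1, 1; 0, 1], by decide⟩

/-- Weyl generator. -/
def genW : SpecialLinearGroup (Fin 2) (ZMod 7) := ⟨!![0, -1; 1, 0], by decide⟩

theorem mul_apply_two (g h : SpecialLinearGroup (Fin 2) (ZMod 7)) (i j : Fin 2) :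
    (g * h).1 i j = g.1 i 0 * h.1 0 j + g.1 i 1 * h.1 1 j := by
  show (g.1 * h.1) i j = _
  rw [Matrix.mul_apply, Fin.sum_univ_two]

theorem F0_mul_t (g : SpecialLinearGroup (Fin 2) (ZMod 7)) : F0 (g * genT) = F0 g * uMat 1 := by
  rw [F0, F0, ← fVal_mul_t _ _ _ _ (det_eq g)]
  rw [mul_apply_two, mul_apply_two, mul_apply_two, mul_apply_two]
  simp [genT]

theorem F0_mul_w (g : SpecialLinearGroup (Fin 2) (ZMod 7)) : F0 (g * genW) = F0 g * wMat := by
  rw [F0, F0, ← fVal_mul_w _ _ _ _ (det_eq g)]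
  rw [mul_apply_two, mul_apply_two, mul_apply_two, mul_apply_two]
  simp [genW]

theorem F0_one : F0 1 = 1 := by rw [← fVal_one]; simp [F0]

theorem F0_genT : F0 genT = uMat 1 := by
  rw [← one_mul genT, F0_mul_t, F0_one, one_mul]

theorem F0_genW : F0 genW = wMat := by
  rw [← one_mul genW, F0_mul_w, F0_one, one_mul]

theorem gens_top :
    Submonoid.closure ({genT, genW} : Set (SpecialLinearGroup (Fin 2) (ZMod 7))) = ⊤ := by
  have h : Subgroup.closure ({genT, genW} : Set (SpecialLinearGroup (Fin 2) (ZMod 7))) = ⊤ := by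
    refine Cfsg.Agent.SL2PresData.closure_eq_top _ (fun r => ?_) ?_
    · have e : Cfsg.Agent.PSL2Elements.u r = genT ^ r.val := by
        revert r; decide +kernel
      rw [e]
      exact pow_mem (Subgroup.subset_closure (by simp)) _
    · have e : (Cfsg.Agent.SL2PresData.W : SpecialLinearGroup (Fin 2) (ZMod 7)) = genW ^ 3 := by
        decide +kernel
      rw [e]
      exact pow_mem (Subgroup.subset_closure (by simp)) _
  rw [← Subgroup.closure_toSubmonoid_of_finite, h, Subgroup.top_toSubmonoid]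

theorem F0_mul (g h : SpecialLinearGroup (Fin 2) (ZMod 7)) : F0 (g * h) = F0 g * F0 h := by
  have hh : h ∈ Submonoid.closure ({genT, genW} : Set (SpecialLinearGroup (Fin 2) (ZMod 7))) :=
    gens_top ▸ Submonoid.mem_top h
  induction hh using Submonoid.closure_induction generalizing g with
  | mem x hx =>
    rcases hx with rfl | rfl
    · rw [F0_mul_t, F0_genT]
    · rw [F0_mul_w, F0_genW]
  | one => rw [mul_one, F0_one, mul_one]
  | mul x y _ _ hx hy => rw [← mul_assoc, hy, hx, hy x, mul_assoc]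

/-- The homomorphism to matrices. -/
def F0hom : SpecialLinearGroup (Fin 2) (ZMod 7) →* Matrix (Fin 3) (Fin 3) K9 where
  toFun := F0
  map_one' := F0_one
  map_mul' := F0_mul

theorem F0_unitary (g : SpecialLinearGroup (Fin 2) (ZMod 7)) :
    (F0 g).det = 1 ∧ (F0 g).transpose * (F0 g).map (fun z => z ^ 3) = 1 := by
  have hg : g ∈ Submonoid.closure ({genT, genW} : Set (SpecialLinearGroup (Fin 2) (ZMod 7))) :=
    gens_top ▸ Submonoid.mem_top g
  obtain ⟨⟨hw1, hw2⟩, hu1, hu2⟩ := gens_unitary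
  induction hg using Submonoid.closure_induction with
  | mem x hx =>
    rcases hx with rfl | rfl
    · rw [F0_genT]; exact ⟨hu1, hu2⟩
    · rw [F0_genW]; exact ⟨hw1, hw2⟩
  | one => rw [F0_one]; exact ⟨Matrix.det_one, by simp⟩
  | mul x y _ _ hx hy =>
    rw [F0_mul]
    refine ⟨by rw [Matrix.det_mul, hx.1, hy.1, one_mul], ?_⟩
    have e : (fun z : K9 => z ^ 3) = fun z => z * z * z := funext fun z => by ring
    have hm : (F0 x * F0 y).map (fun z => z ^ 3) =
        (F0 x).map (fun z => z ^ 3) * (F0 y).map (fun z => z ^ 3) := by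
      haveI : Fact (Nat.Prime 3) := ⟨Nat.prime_three⟩
      haveI : CharP K9 3 := charP_of_injective_ringHom (algebraMap (ZMod 3) K9).injective 3
      exact Matrix.map_mul (f := frobenius K9 3)
    rw [hm, Matrix.transpose_mul, mul_assoc, ← mul_assoc (F0 x).transpose, hx.2, one_mul, hy.2]

/-- The embedding of the field with nine elements. -/
theorem exists_psi {F : Type*} [Field F] [Fintype F] [CharP F 3] (hF : Fintype.card F = 9) :
    ∃ ψ : K9 →+* F, Function.Injective ψ := by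
  haveI : Fact (Nat.Prime 3) := ⟨Nat.prime_three⟩
  letI : Algebra (ZMod 3) F := ZMod.algebra F 3
  obtain ⟨i0, hi0⟩ : IsSquare (-1 : F) := FiniteField.isSquare_neg_one_iff.2 (by rw [hF]; decide)
  let ψa : K9 →ₐ[ZMod 3] F := QuadraticAlgebra.lift ⟨i0, by rw [← hi0]; simp⟩
  refine ⟨ψa.toRingHom, ?_⟩
  rw [injective_iff_map_eq_zero]
  intro z hz
  have hψ : algebraMap (ZMod 3) F z.re + algebraMap (ZMod 3) F z.im * i0 = 0 := by
    rw [← hz]; simp [ψa, QuadraticAlgebra.lift, Algebra.smul_def]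
  by_cases h : z.im = 0
  · rw [h, map_zero, zero_mul, add_zero, map_eq_zero] at hψ
    exact QuadraticAlgebra.ext hψ h
  · exfalso
    have h' : i0 = algebraMap (ZMod 3) F (-(z.re / z.im)) := by
      have h0 : algebraMap (ZMod 3) F z.im ≠ 0 := by simpa using h
      rw [map_neg, map_div₀]
      field_simp
      linear_combination hψ
    rw [h', ← map_mul, show (-1 : F) = algebraMap (ZMod 3) F (-1) by simp] at hi0
    exact Cfsg.Agent.S3438.neg_one_not_square _ ((algebraMap (ZMod 3) F).injective hi0)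

/-- The projective special unitary group PSU₃(3) (realised over the field with 9 elements) has a subgroup isomorphic to PSL₂(7). -/
theorem result {F : Type*} [Field F] [Fintype F] (hF : Fintype.card F = 9)
    {K : Type*} [Field K] [Fintype K] (hK : Fintype.card K = 7) :
    ∃ H : Subgroup (Cfsg.PSU 3 F 3), Nonempty (H ≃* Matrix.ProjectiveSpecialLinearGroup (Fin 2) K) := by
  haveI : CharP F 3 := by
    haveI : Fact (Nat.Prime 3) := ⟨Nat.prime_three⟩
    exact charP_of_card_eq_prime_pow (f := 2) (by rw [hF]; norm_num)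
  obtain ⟨ψ, hψ⟩ := exists_psi hF
  let ε : ZMod 7 ≃+* K := ZMod.ringEquivOfPrime K (by norm_num) hK
  let toSU : SpecialLinearGroup (Fin 2) (ZMod 7) →* SU 3 F 3 :=
    { toFun := fun g => ⟨SpecialLinearGroup.map ψ ⟨F0 g, (F0_unitary g).1⟩, by
        rw [Cfsg.Agent.S3438.mem_SU_iff]
        show ((F0 g).map ψ).transpose * ((F0 g).map ψ).map (fun z => z ^ 3) = 1
        rw [Matrix.map_map, show (fun z : F => z ^ 3) ∘ ψ = ψ ∘ fun z => z ^ 3 from
          funext fun z => (map_pow ψ z 3).symm, ← Matrix.map_map, ← Matrix.transpose_map,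
          ← Matrix.map_mul, (F0_unitary g).2, Matrix.map_one _ (map_zero ψ) (map_one ψ)]⟩
      map_one' := Subtype.ext (Subtype.ext (by
        show (F0 1).map ψ = 1
        rw [F0_one, Matrix.map_one _ (map_zero ψ) (map_one ψ)]))
      map_mul' := fun g h => Subtype.ext (Subtype.ext (by
        show (F0 (g * h)).map ψ = (F0 g).map ψ * (F0 h).map ψ
        rw [F0_mul, Matrix.map_mul])) }
  let σ : SpecialLinearGroup (Fin 2) K →* SpecialLinearGroup (Fin 2) (ZMod 7) :=
    SpecialLinearGroup.map ε.symm.toRingHom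
  let Φ : SpecialLinearGroup (Fin 2) K →* Cfsg.PSU 3 F 3 :=
    (QuotientGroup.mk' (Subgroup.center (SU 3 F 3))).comp (toSU.comp σ)
  have hcom : ∀ g h, F0 (σ g) * F0 h = F0 h * F0 (σ g) ↔ toSU (σ g) * toSU h = toSU h * toSU (σ g) := by
    intro g h
    rw [← map_mul toSU, ← map_mul toSU, ← F0_mul, ← F0_mul]
    constructor
    · intro e
      refine Subtype.ext (Subtype.ext ?_)
      show (F0 _).map ψ = (F0 _).map ψ
      rw [e]
    · intro e
      exact Matrix.map_injective hψ (congrArg (fun x : SU 3 F 3 => x.1.1) e)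
  have hker : Φ.ker = Subgroup.center (SpecialLinearGroup (Fin 2) K) := by
    ext g
    rw [MonoidHom.mem_ker]
    show (QuotientGroup.mk (toSU (σ g)) : Cfsg.PSU 3 F 3) = 1 ↔ _
    rw [QuotientGroup.eq_one_iff, Subgroup.mem_center_iff (G := SU 3 F 3), Matrix.SpecialLinearGroup.mem_center_iff]
    constructor
    · intro hc
      have h1 := (hcom g genT).2 (hc _).symm
      have h2 := (hcom g genW).2 (hc _).symm
      rw [F0_genT] at h1
      rw [F0_genW] at h2
      obtain ⟨e1, e2, e3⟩ := fVal_kernel _ _ _ _ (det_eq (σ g)) h1 h2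
      have f1 : g.1 0 1 = 0 := by simpa [σ] using e1
      have f2 : g.1 1 0 = 0 := by simpa [σ] using e2
      have f3 : g.1 0 0 = g.1 1 1 := by simpa [σ] using e3
      refine ⟨g.1 0 0, ?_, ?_⟩
      · have := g.2
        rw [Matrix.det_fin_two, f1, f2, ← f3] at this
        simpa [pow_two] using this
      · ext i j
        fin_cases i <;> fin_cases j <;> simp [f1, f2, f3, Matrix.scalar]
    · rintro ⟨r, hr, hg⟩ x
      have e : F0 (σ g) = 1 := by
        have hr' : ε.symm r * ε.symm r = 1 := by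
          rw [← map_mul, ← pow_two]; simpa using congrArg ε.symm hr
        rw [← fVal_neg _ hr']
        simp [F0, σ, ← hg, Matrix.scalar]
      have : toSU (σ g) = 1 := Subtype.ext (Subtype.ext (by
        show (F0 (σ g)).map ψ = 1
        rw [e, Matrix.map_one _ (map_zero ψ) (map_one ψ)]))
      rw [this, mul_one, one_mul]
  refine ⟨Φ.range, ⟨?_⟩⟩
  exact (QuotientGroup.quotientKerEquivRange Φ).symm.trans (QuotientGroup.quotientMulEquivOfEq hker)

end Cfsg.Agent.S1897
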