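import Mathlib
import Cfsg.Statements.S1898
-- import your own Cfsg.Agent.* helpers here

set_option autoImplicit false
open Cfsg

namespace Cfsg.Agent.S1898

open scoped commutatorElement
lemma four {X : Type*} [Group X]
    (hel : ∀ c ∈ commutator X, c ^ 2 = 1) (hcen : commutator X ≤ Subgroup.center X) (x y : X) :
    (x * y) ^ 4 = x ^ 4 * y ^ 4 := by
  have hc : ∀ a b : X, ⁅a, b⁆ ∈ commutator X := fun a b => Subgroup.commutator_mem_commutator (Subgroup.mem_top a) (Subgroup.mem_top b)
  set c := ⁅y, x⁆ with hcdef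
  have hcc : ∀ a, a * c = c * a := Subgroup.mem_center_iff.1 (hcen (hc y x))
  have hc2 : c * c = 1 := by rw [← sq]; exact hel c (hc y x)
  have hyx : y * x = c * (x * y) := by rw [hcdef, commutatorElement_def]; group
  have h2 : (x * y) ^ 2 = c * (x ^ 2 * y ^ 2) := by
    calc (x * y) ^ 2 = x * (y * x) * y := by rw [sq]; group
      _ = x * c * (x * y) * y := by rw [hyx]; group
      _ = c * x * (x * y) * y := by rw [hcc x]
      _ = _ := by rw [sq, sq]; group
  have hsq : ∀ a b : X, a ^ 2 * b = b * a ^ 2 := by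
    intro a b
    have hd := Subgroup.mem_center_iff.1 (hcen (hc a b))
    have hd2 : ⁅a, b⁆ * ⁅a, b⁆ = 1 := by rw [← sq]; exact hel _ (hc a b)
    have hab : a * b = ⁅a, b⁆ * (b * a) := by rw [commutatorElement_def]; group
    calc a ^ 2 * b = a * (a * b) := by rw [sq, mul_assoc]
      _ = a * ⁅a, b⁆ * b * a := by rw [hab]; group
      _ = ⁅a, b⁆ * (a * b) * a := by rw [hd a]; group
      _ = ⁅a, b⁆ * ⁅a, b⁆ * (b * a) * a := by rw [hab]; group
      _ = _ := by rw [hd2, sq]; group
  calc (x * y) ^ 4 = (x * y) ^ 2 * (x * y) ^ 2 := by rw [← pow_add]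
    _ = c * (x ^ 2 * y ^ 2 * c) * (x ^ 2 * y ^ 2) := by rw [h2]; group
    _ = c * c * (x ^ 2 * (y ^ 2 * x ^ 2) * y ^ 2) := by rw [hcc]; group
    _ = _ := by rw [hc2, hsq y (x ^ 2)]; simp only [one_mul, ← mul_assoc, ← pow_add]; simp only [mul_assoc, ← pow_add]

/-- Let X be a finite 2-group whose derived subgroup is elementary abelian and central. Then the subgroup generated by the elements of order dividing 4 has exponent dividing 4, and every automorphism of X fixing each element of order dividing 4 has 2-power order. -/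
theorem result {X : Type*} [Group X] [Finite X] (hX : IsPGroup 2 X)
    (hel : Cfsg.IsElementaryAbelian 2 (commutator X)) (hcen : commutator X ≤ Subgroup.center X) :
    (∀ x ∈ Subgroup.closure {g : X | g ^ 4 = 1}, x ^ 4 = 1) ∧
      ∀ φ : MulAut X, (∀ g : X, g ^ 4 = 1 → φ g = g) → ∃ k : ℕ, φ ^ (2 ^ k) = 1 := by

  have hel2 : ∀ c ∈ commutator X, c ^ 2 = 1 := fun c hc => by
    have := hel.2 c hc
    exact this
  constructor
  · intro x hx
    refine Subgroup.closure_induction (p := fun g _ => g ^ 4 = 1) (fun g hg => hg) (one_pow 4)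
      (fun a b _ _ ha hb => by rw [four hel2 hcen, ha, hb, one_mul])
      (fun a _ ha => by rw [inv_pow, ha, inv_one]) hx
  · intro φ hfix
    obtain ⟨k, m, hm, hkm⟩ := Nat.exists_eq_two_pow_mul_odd (n := orderOf φ) (orderOf_pos φ).ne'
    refine ⟨k, ?_⟩
    set ψ := φ ^ (2 ^ k) with hψ
    have hψm : ψ ^ m = 1 := by rw [hψ, ← pow_mul, ← hkm, pow_orderOf_eq_one]
    have hψfix : ∀ g : X, g ^ 4 = 1 → ψ g = g := by
      intro g hg
      rw [hψ]
      induction (2 ^ k) with
      | zero => rfl
      | succ n ih => rw [pow_succ, MulAut.mul_apply, hfix g hg, ih]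
    have key : ∀ n : ℕ, ∀ x : X, orderOf x = n → ψ x = x := by
      intro n
      induction n using Nat.strong_induction_on with
      | _ n ih =>
        intro x hx
        obtain ⟨j, hj⟩ : ∃ j, orderOf x = 2 ^ j := by
          obtain ⟨k', hk'⟩ := hX x
          obtain ⟨j, _, hj⟩ := (Nat.dvd_prime_pow Nat.prime_two).1 (orderOf_dvd_of_pow_eq_one hk')
          exact ⟨j, hj⟩
        rcases Nat.eq_zero_or_pos j with rfl | hj0
        · rw [pow_zero, orderOf_eq_one_iff] at hj; subst hj; exact map_one ψ
        have hlt : orderOf (x ^ 2) < n := by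
          rw [← hx, orderOf_pow' x two_ne_zero]
          have h2 : 2 ∣ orderOf x := hj ▸ dvd_pow_self 2 hj0.ne'
          rw [Nat.gcd_eq_right h2]
          exact Nat.div_lt_self (orderOf_pos x) one_lt_two
        have hx2 : ψ (x ^ 2) = x ^ 2 := ih _ hlt _ rfl
        set d := x⁻¹ * ψ x with hd
        have hψx : ψ x = x * d := by rw [hd, mul_inv_cancel_left]
        have hd4 : d ^ 4 = 1 := by
          have h4 : (x * d) ^ 4 = x ^ 4 := by
            rw [← hψx, ← map_pow, show x ^ 4 = (x ^ 2) ^ 2 by rw [← pow_mul], map_pow, hx2]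
          rw [four hel2 hcen] at h4
          exact mul_left_cancel (h4.trans (mul_one _).symm)
        have hpow : ∀ i : ℕ, (ψ ^ i) x = x * d ^ i := by
          intro i
          induction i with
          | zero => simp
          | succ i ihi =>
            rw [pow_succ', MulAut.mul_apply, ihi, map_mul, hψx, hψfix (d ^ i) (by rw [← pow_mul, mul_comm, pow_mul, hd4, one_pow]),
              pow_succ', mul_assoc]
        have hdm : d ^ m = 1 := by
          have := hpow m
          rw [hψm] at this
          simpa using this.symm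
        have : d = 1 := orderOf_eq_one_iff.1 (Nat.dvd_one.1 (by
          have h1 : orderOf d ∣ Nat.gcd (2 ^ 2) m := Nat.dvd_gcd (orderOf_dvd_of_pow_eq_one (by simpa using hd4)) (orderOf_dvd_of_pow_eq_one hdm)
          rwa [(Nat.Coprime.pow_left 2 (Nat.coprime_two_left.2 hm)).gcd_eq_one] at h1))
        rw [hψx, this, mul_one]
    ext x
    exact key _ x rfl

end Cfsg.Agent.S1898
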