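import Mathlib
import Cfsg.Statements.S1899
-- import your own Cfsg.Agent.* helpers here

set_option autoImplicit false
open Cfsg

namespace Cfsg.Agent.S1899



/-- Let a dihedral group of order 2n, n odd and n > 1, act on a finite abelian 2-group A through automorphisms d and t with d^n = 1, t² = 1 and t d t⁻¹ = d⁻¹, and suppose that d fixes only the identity. Then A is the internal direct product of C_A(t) and its image under d. -/
theorem result {A : Type*} [CommGroup A] [Finite A] (hA : IsPGroup 2 A)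
    {n : ℕ} (hn : Odd n) (hn1 : 1 < n) (d t : MulAut A) (hd : d ^ n = 1) (ht : t ^ 2 = 1) (hdt : t * d * t⁻¹ = d⁻¹)
    (hfix : ∀ a : A, d a = a → a = 1) :
    (MulEquiv.toMonoidHom t).eqLocus (MonoidHom.id A) ⊓ ((MulEquiv.toMonoidHom t).eqLocus (MonoidHom.id A)).map d.toMonoidHom = ⊥ ∧
      (MulEquiv.toMonoidHom t).eqLocus (MonoidHom.id A) ⊔ ((MulEquiv.toMonoidHom t).eqLocus (MonoidHom.id A)).map d.toMonoidHom = ⊤ := by

  classical
  set C := (MulEquiv.toMonoidHom t).eqLocus (MonoidHom.id A) with hC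
  have memC : ∀ a, a ∈ C ↔ t a = a := fun a => Iff.rfl
  have td : ∀ a, t (d a) = d⁻¹ (t a) := fun a => by
    have : t * d = d⁻¹ * t := by rw [← hdt]; group
    exact DFunLike.congr_fun this a
  have tt : ∀ a, t (t a) = a := fun a => DFunLike.congr_fun (show t * t = 1 by rw [← sq, ht]) a
  have dd : ∀ a, d (d a) = a → a = 1 := by
    intro a ha
    apply hfix
    obtain ⟨j, hj⟩ := hn
    have hp : ∀ i : ℕ, (d ^ (2 * i)) a = a := by
      intro i
      induction i with
      | zero => simp
      | succ i ih =>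
        rw [show 2 * (i + 1) = 2 * i + 2 by ring, pow_add, MulAut.mul_apply, sq, MulAut.mul_apply, ha, ih]
    have h := DFunLike.congr_fun hd a
    rw [hj, pow_succ', MulAut.mul_apply, hp] at h
    exact h
  have hinf : C ⊓ C.map d.toMonoidHom = ⊥ := by
    rw [eq_bot_iff]
    rintro x ⟨hx, b, hb, rfl⟩
    have h1 : t (d b) = d b := hx
    rw [td, (memC b).1 hb] at h1
    have : d (d b) = b := by
      conv_rhs => rw [← (MulEquiv.apply_symm_apply d b)]
      exact congrArg d h1.symm
    simp [dd b this]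
  refine ⟨hinf, ?_⟩
  set f : C × C →* A := C.subtype.coprod ((d.toMonoidHom).comp C.subtype) with hf
  have hfinj : Function.Injective f := by
    rw [injective_iff_map_eq_one]
    rintro ⟨u, w⟩ h
    simp only [hf, MonoidHom.coprod_apply, Subgroup.coe_subtype, MonoidHom.comp_apply] at h
    have hu : (u : A) = d (w : A)⁻¹ := by
      rw [map_inv]; exact eq_inv_of_mul_eq_one_left h
    have : (u : A) ∈ C ⊓ C.map d.toMonoidHom := ⟨u.2, (w : A)⁻¹, C.inv_mem w.2, hu.symm⟩
    rw [hinf, Subgroup.mem_bot] at this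
    have hw : (w : A) = 1 := by
      rw [this, one_mul] at h
      exact (map_eq_one_iff _ d.injective).1 h
    exact Prod.ext (Subtype.ext this) (Subtype.ext hw)
  let g : A →* C × C :=
    { toFun := fun a => (⟨a * t a, by rw [memC, map_mul, tt, mul_comm]⟩, ⟨d a * t (d a), by rw [memC, map_mul, tt, mul_comm]⟩)
      map_one' := by simp
      map_mul' := fun a b => by
        simp only [Prod.mk_mul_mk, Subgroup.mk_eq_one, MulMemClass.mk_mul_mk, map_mul, Prod.mk.injEq, Subtype.mk.injEq]
        exact ⟨mul_mul_mul_comm _ _ _ _, mul_mul_mul_comm _ _ _ _⟩ }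
  have hginj : Function.Injective g := by
    rw [injective_iff_map_eq_one]
    intro a h
    simp only [g, MonoidHom.coe_mk, OneHom.coe_mk, Prod.mk_eq_one, Subgroup.mk_eq_one] at h
    obtain ⟨h1, h2⟩ := h
    have ha : t a = a⁻¹ := eq_inv_of_mul_eq_one_right h1
    rw [td, ha, map_inv, mul_inv_eq_one] at h2
    apply dd
    exact (congrArg d h2).trans (MulEquiv.apply_symm_apply d a)
  have hsurj : Function.Surjective f :=
    (Nat.bijective_iff_injective_and_card f).2
      ⟨hfinj, le_antisymm (Nat.card_le_card_of_injective f hfinj) (Nat.card_le_card_of_injective g hginj)⟩ |>.2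
  rw [eq_top_iff]
  intro a _
  obtain ⟨⟨u, w⟩, rfl⟩ := hsurj a
  exact Subgroup.mul_mem_sup u.2 ⟨w, w.2, rfl⟩

end Cfsg.Agent.S1899
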