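import Cfsg.Statements.S1900
import Cfsg.Agent.Lib.CoprimeTools
-- import your own Cfsg.Agent.* helpers here

set_option autoImplicit false
open Cfsg

namespace Cfsg.Agent.S1900

open scoped Pointwise commutatorElement
open Cfsg.Agent.CoprimeSZ Cfsg.Agent.CoprimeAction Cfsg.Agent.CoprimeGen Cfsg.Agent.CoprimeExtra Cfsg.Agent.CoprimeTools


/-- Let S = PQ be a finite group with P a normal Sylow p-subgroup and Q elementary abelian of order q², q a prime different from p. If exactly two subgroups X₁, X₂ of order q in Q have a nontrivial centralizer in P, then P is the internal direct product of C_P(X₁) and C_P(X₂): they commute elementwise, meet trivially and generate P. -/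
theorem result {S : Type*} [Group S] [Finite S] {p q : ℕ} [Fact p.Prime] [Fact q.Prime] (hpq : p ≠ q)
    (P : Sylow p S) [(P : Subgroup S).Normal] (Q : Subgroup S) (hQ : Cfsg.IsElementaryAbelian q Q) (hQc : Nat.card Q = q ^ 2)
    (hS : (P : Subgroup S) ⊔ Q = ⊤)
    (X₁ X₂ : Subgroup S) (h₁ : X₁ ≤ Q) (h₂ : X₂ ≤ Q) (h₁₂ : X₁ ≠ X₂) (hc₁ : Nat.card X₁ = q) (hc₂ : Nat.card X₂ = q)
    (hf₁ : (P : Subgroup S) ⊓ Subgroup.centralizer (X₁ : Set S) ≠ ⊥)
    (hf₂ : (P : Subgroup S) ⊓ Subgroup.centralizer (X₂ : Set S) ≠ ⊥)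
    (honly : ∀ X : Subgroup S, X ≤ Q → Nat.card X = q →
      (P : Subgroup S) ⊓ Subgroup.centralizer (X : Set S) ≠ ⊥ → X = X₁ ∨ X = X₂) :
    ⁅(P : Subgroup S) ⊓ Subgroup.centralizer (X₁ : Set S), (P : Subgroup S) ⊓ Subgroup.centralizer (X₂ : Set S)⁆ = ⊥ ∧
      ((P : Subgroup S) ⊓ Subgroup.centralizer (X₁ : Set S)) ⊓ ((P : Subgroup S) ⊓ Subgroup.centralizer (X₂ : Set S)) = ⊥ ∧
      ((P : Subgroup S) ⊓ Subgroup.centralizer (X₁ : Set S)) ⊔ ((P : Subgroup S) ⊓ Subgroup.centralizer (X₂ : Set S)) = P := by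
  have hp : p.Prime := Fact.out
  have hq : q.Prime := Fact.out
  obtain ⟨hQcomm, hQexp⟩ := hQ
  set C₁ := (P : Subgroup S) ⊓ Subgroup.centralizer (X₁ : Set S) with hC₁
  set C₂ := (P : Subgroup S) ⊓ Subgroup.centralizer (X₂ : Set S) with hC₂
  have hcopQP : (Nat.card Q).Coprime (Nat.card (P : Subgroup S)) := by
    obtain ⟨m, hm⟩ := IsPGroup.iff_card.1 P.2
    rw [hQc, hm]
    exact Nat.Coprime.pow _ _ ((Nat.coprime_primes hq hp).2 (Ne.symm hpq))
  have hPn : ∀ X : Subgroup S, X ≤ Subgroup.normalizer ((P : Subgroup S) : Set S) := fun X => by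
    rw [Subgroup.normalizer_eq_top_iff.2 inferInstance]; exact le_top
  have hcomm : ∀ x ∈ Q, ∀ y ∈ Q, x * y = y * x := fun x hx y hy =>
    congrArg Subtype.val (mul_comm' (⟨x, hx⟩ : Q) ⟨y, hy⟩)
  have hX12 : X₁ ⊔ X₂ = Q := by
    refine Subgroup.eq_of_le_of_card_ge (sup_le h₁ h₂) ?_
    rw [hQc]
    obtain ⟨i, hi, hci⟩ := (Nat.dvd_prime_pow hq).1 (hQc ▸ Subgroup.card_dvd_of_le (sup_le h₁ h₂))
    rw [hci]
    refine Nat.pow_le_pow_right hq.pos ?_
    by_contra hlt
    have h3 : Nat.card (X₁ ⊔ X₂ : Subgroup S) ≤ q := by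
      rw [hci]
      exact (Nat.pow_le_pow_right hq.pos (show i ≤ 1 by omega)).trans (pow_one q).le
    exact h₁₂ ((Subgroup.eq_of_le_of_card_ge le_sup_left (h3.trans hc₁.ge)).trans
      (Subgroup.eq_of_le_of_card_ge le_sup_right (h3.trans hc₂.ge)).symm)
  have hQnc : ¬ IsCyclic Q := by
    intro hc
    obtain ⟨g, hg⟩ := hc.exists_generator
    have h1 : orderOf g = Nat.card Q := orderOf_eq_card_of_forall_mem_zpowers hg
    have h2 : orderOf g ∣ q := orderOf_dvd_of_pow_eq_one (Subtype.ext (by simpa using hQexp g g.2))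
    rw [h1, hQc] at h2
    have := Nat.le_of_dvd hq.pos h2
    nlinarith [hq.two_le]
  -- the fixed point subgroups of nontrivial elements
  have hfixX : ∀ e ∈ Q, e ≠ 1 →
      (P : Subgroup S) ⊓ Subgroup.centralizer {e} ≠ ⊥ →
        (P : Subgroup S) ⊓ Subgroup.centralizer {e} = C₁ ∨
        (P : Subgroup S) ⊓ Subgroup.centralizer {e} = C₂ := by
    intro e he he1 hne
    have h1 : Nat.card (Subgroup.zpowers e) = q := by
      rw [Nat.card_zpowers]
      exact orderOf_eq_prime (hQexp e he) he1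
    have h2 : Subgroup.centralizer ((Subgroup.zpowers e : Subgroup S) : Set S) =
        Subgroup.centralizer {e} := by
      rw [Subgroup.zpowers_eq_closure, Subgroup.centralizer_closure]
    rcases honly _ (Subgroup.zpowers_le.2 he) h1 (by rwa [h2]) with h | h
    · left; rw [hC₁, ← h, h2]
    · right; rw [hC₂, ← h, h2]
  have hgen : C₁ ⊔ C₂ = (P : Subgroup S) := by
    refine le_antisymm (sup_le inf_le_left inf_le_left) ?_
    refine le_of_centralizers hQnc (hPn Q) hcopQP fun e he he1 => ?_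
    by_cases hne : (P : Subgroup S) ⊓ Subgroup.centralizer {e} = ⊥
    · rw [hne]; exact bot_le
    rcases hfixX e he he1 hne with h | h <;> rw [h]
    · exact le_sup_left
    · exact le_sup_right
  have hbot : C₁ ⊓ C₂ = ⊥ := by
    rw [eq_bot_iff]
    intro x hx
    rw [Subgroup.mem_bot]
    by_contra hx1
    have hQx : Q ≤ Subgroup.centralizer {x} := by
      rw [← hX12]
      refine sup_le ?_ ?_
      · intro y hy
        exact Subgroup.mem_centralizer_singleton_iff.2 (Subgroup.mem_centralizer_iff.1 hx.1.2 y hy)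
      · intro y hy
        exact Subgroup.mem_centralizer_singleton_iff.2 (Subgroup.mem_centralizer_iff.1 hx.2.2 y hy)
    -- a third subgroup of order `q`
    have hthird : ∃ X : Subgroup S, X ≤ Q ∧ Nat.card X = q ∧ X ≠ X₁ ∧ X ≠ X₂ := by
      obtain ⟨a, ha, ha1⟩ := (Subgroup.ne_bot_iff_exists_ne_one.1
        (show X₁ ≠ ⊥ from fun h => by rw [h, Subgroup.card_bot] at hc₁; exact hq.one_lt.ne hc₁)) |>
        fun ⟨y, hy⟩ => (⟨y.1, y.2, fun h => hy (Subtype.ext h)⟩ : ∃ a ∈ X₁, a ≠ 1)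
      obtain ⟨b, hb, hb1⟩ := (Subgroup.ne_bot_iff_exists_ne_one.1
        (show X₂ ≠ ⊥ from fun h => by rw [h, Subgroup.card_bot] at hc₂; exact hq.one_lt.ne hc₂)) |>
        fun ⟨y, hy⟩ => (⟨y.1, y.2, fun h => hy (Subtype.ext h)⟩ : ∃ b ∈ X₂, b ≠ 1)
      have hinf : X₁ ⊓ X₂ = ⊥ := by
        rcases (Nat.dvd_prime hq).1 (hc₁ ▸ Subgroup.card_dvd_of_le (inf_le_left : X₁ ⊓ X₂ ≤ X₁))
          with h | h
        · exact Subgroup.card_eq_one.1 h
        · exact absurd ((Subgroup.eq_of_le_of_card_ge inf_le_left (hc₁.trans h.symm).le).symm.trans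
            (Subgroup.eq_of_le_of_card_ge inf_le_right (hc₂.trans h.symm).le)) h₁₂
      have hab : a * b ∈ Q := Q.mul_mem (h₁ ha) (h₂ hb)
      have hn1 : a * b ∉ X₁ := fun h => hb1 (Subgroup.mem_bot.1 (hinf ▸
        ⟨by simpa using X₁.mul_mem (X₁.inv_mem ha) h, hb⟩))
      have hn2 : a * b ∉ X₂ := fun h => ha1 (Subgroup.mem_bot.1 (hinf ▸
        ⟨ha, by simpa using X₂.mul_mem h (X₂.inv_mem hb)⟩))
      refine ⟨Subgroup.zpowers (a * b), Subgroup.zpowers_le.2 hab, ?_,
        fun h => hn1 (h ▸ Subgroup.mem_zpowers _), fun h => hn2 (h ▸ Subgroup.mem_zpowers _)⟩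
      rw [Nat.card_zpowers]
      exact orderOf_eq_prime (hQexp _ hab) (fun h => hn1 (h ▸ one_mem _))
    obtain ⟨X, hXQ, hXc, hX1, hX2⟩ := hthird
    have hne : (P : Subgroup S) ⊓ Subgroup.centralizer (X : Set S) ≠ ⊥ := by
      intro h
      apply hx1
      rw [← Subgroup.mem_bot, ← h]
      exact ⟨hx.1.1, Subgroup.mem_centralizer_iff.2 fun y hy =>
        Subgroup.mem_centralizer_singleton_iff.1 (hQx (hXQ hy))⟩
    rcases honly X hXQ hXc hne with h | h
    · exact hX1 h
    · exact hX2 h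
  refine ⟨?_, hbot, hgen⟩
  have hXn : ∀ {X : Subgroup S}, X ≤ Q → Q ≤ Subgroup.normalizer (X : Set S) := by
    intro X hX
    refine le_normalizer_of_conj_mem fun a ha b hb => ?_
    rw [hcomm a ha b (hX hb), mul_inv_cancel_right]
    exact hb
  have hCn : ∀ {X : Subgroup S}, X ≤ Q →
      Q ≤ Subgroup.normalizer (((P : Subgroup S) ⊓ Subgroup.centralizer (X : Set S) : Subgroup S) : Set S) :=
    fun hX => le_normalizer_inf (hPn Q) (le_normalizer_centralizer_of_le (hXn hX))
  have hQC : (P : Subgroup S) ⊓ Subgroup.centralizer (Q : Set S) = ⊥ := by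
    rw [eq_bot_iff, ← hbot]
    exact le_inf (inf_le_inf_left _ (Subgroup.centralizer_le h₁))
      (inf_le_inf_left _ (Subgroup.centralizer_le h₂))
  have hcentQ : ∀ x : S, x ∈ Subgroup.centralizer (X₁ : Set S) →
      x ∈ Subgroup.centralizer (X₂ : Set S) → x ∈ Subgroup.centralizer (Q : Set S) := by
    intro x hx hx'
    rw [← hX12]
    refine Subgroup.mem_centralizer_iff.2 fun y hy => ?_
    have : X₁ ⊔ X₂ ≤ Subgroup.centralizer {x} := sup_le
      (fun z hz => Subgroup.mem_centralizer_singleton_iff.2 (Subgroup.mem_centralizer_iff.1 hx z hz))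
      (fun z hz => Subgroup.mem_centralizer_singleton_iff.2 (Subgroup.mem_centralizer_iff.1 hx' z hz))
    exact Subgroup.mem_centralizer_singleton_iff.1 (this hy)
  -- `[C₁, X₂] = C₁` and `[C₂, X₁] = C₂`
  have hsol : ∀ X : Subgroup S, X ≤ Q → Group.IsSolvable X := fun X hX => by
    have := Group.isSolvable_of_comm (G := Q) fun x y => mul_comm' x y
    exact isSolvable_of_le hX
  have hC12 : ⁅C₁, X₂⁆ = C₁ := by
    refine commutator_eq_self (le_trans h₂ (hCn h₁))
      (coprime_of_le_right inf_le_left (coprime_of_le_left h₂ hcopQP)) (Or.inl (hsol X₂ h₂)) ?_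
    rw [eq_bot_iff, ← hQC]
    exact fun x hx => ⟨hx.1.1, hcentQ x hx.1.2 hx.2⟩
  have hC21 : ⁅C₂, X₁⁆ = C₂ := by
    refine commutator_eq_self (le_trans h₁ (hCn h₂))
      (coprime_of_le_right inf_le_left (coprime_of_le_left h₁ hcopQP)) (Or.inl (hsol X₁ h₁)) ?_
    rw [eq_bot_iff, ← hQC]
    exact fun x hx => ⟨hx.1.1, hcentQ x hx.2 hx.1.2⟩
  have step : ∀ N : Subgroup S, N ≤ (P : Subgroup S) → N.Normal → ⁅C₁, C₂⁆ ≤ N →
      ⁅C₁, C₂⁆ ≤ ⁅N, (P : Subgroup S)⁆ := by
    intro N hNP hNn hCN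
    set M : Subgroup S := ⁅N, (P : Subgroup S)⁆ with hM
    have hMn : M.Normal := inferInstance
    have hMN : M ≤ N := Subgroup.commutator_le_left _ _
    have hQN : ∀ X : Subgroup S, X ≤ Subgroup.normalizer (N : Set S) := fun X => by
      rw [Subgroup.normalizer_eq_top_iff.2 hNn]; exact le_top
    have hNgen : N = (N ⊓ C₁) ⊔ (N ⊓ C₂) := by
      refine le_antisymm ?_ (sup_le inf_le_left inf_le_left)
      refine le_of_centralizers hQnc (hQN Q) (coprime_of_le_right hNP hcopQP) fun e he he1 => ?_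
      by_cases hne : (P : Subgroup S) ⊓ Subgroup.centralizer {e} = ⊥
      · refine le_trans ?_ bot_le
        rw [← hne]
        exact inf_le_inf_right _ hNP
      have h0 : N ⊓ Subgroup.centralizer {e} ≤ N ⊓ ((P : Subgroup S) ⊓ Subgroup.centralizer {e}) :=
        le_inf inf_le_left (inf_le_inf_right _ hNP)
      rcases hfixX e he he1 hne with h | h <;> rw [h] at h0
      · exact h0.trans le_sup_left
      · exact h0.trans le_sup_right
    have hMX : ∀ {X : Subgroup S}, X ≤ Q → ∀ {C : Subgroup S}, C ≤ N →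
        Q ≤ Subgroup.normalizer (C : Set S) →
          X ⊔ (P : Subgroup S) ≤ Subgroup.normalizer ((M ⊔ C : Subgroup S) : Set S) := by
      intro X hX C hCle hCnorm
      refine sup_le (fun x hx => mem_normalizer_of_conj_smul_eq ?_) ?_
      · rw [Subgroup.smul_sup, conj_smul_eq_self (hCnorm (hX hx)),
          conj_smul_eq_self (by rw [Subgroup.normalizer_eq_top_iff.2 hMn]; trivial)]
      · rw [Subgroup.le_normalizer_iff_commutator_le_left]
        refine le_trans ?_ (le_sup_left : M ≤ M ⊔ C)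
        exact Subgroup.commutator_mono (sup_le hMN hCle) le_rfl
    -- the two inclusions
    have hT : ∀ {Xi Xj : Subgroup S} {Ci Cj : Subgroup S}, Xi ≤ Q → Xj ≤ Q →
        Ci ≤ (P : Subgroup S) → Cj ≤ (P : Subgroup S) →
        ⁅Ci, Xj⁆ = Ci → ⁅Xj, Cj⁆ = ⊥ → ⁅Cj, Ci⁆ ≤ N → ⁅N, Xj⁆ ≤ M ⊔ (N ⊓ Ci) →
        Q ≤ Subgroup.normalizer ((N ⊓ Ci : Subgroup S) : Set S) →
        ⁅Ci, Cj⁆ ≤ M ⊔ (N ⊓ Ci) := by
      intro Xi Xj Ci Cj hXi hXj hCi hCj hcij hcjj hN' hNX hnorm
      have hn := hMX hXj (inf_le_left : N ⊓ Ci ≤ N) hnorm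
      rw [← hcij]
      refine commutator_rotate_le (hCi.trans (le_sup_right.trans hn)) (le_sup_left.trans hn)
        (hCj.trans (le_sup_right.trans hn)) ?_ ?_ |>.trans (by rw [hcij])
      · rw [hcjj, Subgroup.commutator_bot_left]; exact bot_le
      · exact le_trans (Subgroup.commutator_mono hN' le_rfl) hNX
    have hNiX : ∀ {Xi Xj : Subgroup S}, Xi ≤ Q → Xj ≤ Q →
        N = (N ⊓ ((P : Subgroup S) ⊓ Subgroup.centralizer (Xi : Set S))) ⊔
          (N ⊓ ((P : Subgroup S) ⊓ Subgroup.centralizer (Xj : Set S))) →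
        ⁅N, Xj⁆ ≤ M ⊔ (N ⊓ ((P : Subgroup S) ⊓ Subgroup.centralizer (Xi : Set S))) := by
      intro Xi Xj hXi hXj hgenN
      set Ni := N ⊓ ((P : Subgroup S) ⊓ Subgroup.centralizer (Xi : Set S)) with hNi
      set Nj := N ⊓ ((P : Subgroup S) ⊓ Subgroup.centralizer (Xj : Set S)) with hNj
      have hnorm : Q ≤ Subgroup.normalizer (Ni : Set S) := le_normalizer_inf (hQN Q) (hCn hXi)
      rw [hgenN]
      refine commutator_sup_le ?_ ?_ ?_
      · rw [← hgenN]
        exact hNP.trans (le_sup_right.trans (hMX hXj (inf_le_left : Ni ≤ N) hnorm))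
      · exact (commutator_le_self_of_le_normalizer (hXj.trans hnorm)).trans le_sup_right
      · refine le_trans (le_of_eq ?_) bot_le
        rw [Subgroup.commutator_eq_bot_iff_le_centralizer]
        exact inf_le_right.trans inf_le_right
    have hCC : ⁅C₂, C₁⁆ ≤ N := by rw [Subgroup.commutator_comm]; exact hCN
    have k1 : ⁅C₁, C₂⁆ ≤ M ⊔ (N ⊓ C₁) :=
      hT h₁ h₂ inf_le_left inf_le_left hC12
        (by rw [Subgroup.commutator_comm, Subgroup.commutator_eq_bot_iff_le_centralizer]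
            exact inf_le_right)
        hCC (hNiX h₁ h₂ hNgen) (le_normalizer_inf (hQN Q) (hCn h₁))
    have k2 : ⁅C₂, C₁⁆ ≤ M ⊔ (N ⊓ C₂) :=
      hT h₂ h₁ inf_le_left inf_le_left hC21
        (by rw [Subgroup.commutator_comm, Subgroup.commutator_eq_bot_iff_le_centralizer]
            exact inf_le_right)
        hCN (hNiX h₂ h₁ (hNgen.trans (sup_comm _ _))) (le_normalizer_inf (hQN Q) (hCn h₂))
    intro x hx
    have x1 := k1 hx
    have x2 := k2 (Subgroup.commutator_comm C₁ C₂ ▸ hx)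
    rw [← SetLike.mem_coe, Subgroup.normal_mul] at x1 x2
    obtain ⟨m, hm, c, hc, rfl⟩ := x1
    obtain ⟨m', hm', c', hc', he⟩ := x2
    refine M.mul_mem hm ?_
    -- `c ∈ M`: its coset contains a point fixed by `Q`
    have hcosetQ : ∀ a ∈ Q, c⁻¹ * a * c * a⁻¹ ∈ M := by
      have hle : Q ≤ ({ carrier := {a : S | c⁻¹ * a * c * a⁻¹ ∈ M}
                        one_mem' := by simp
                        mul_mem' := fun {a b} ha hb => by
                          have : c⁻¹ * (a * b) * c * (a * b)⁻¹ =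
                              (c⁻¹ * a * c * a⁻¹) * (a * (c⁻¹ * b * c * b⁻¹) * a⁻¹) := by
                            simp [mul_assoc]
                          change c⁻¹ * (a * b) * c * (a * b)⁻¹ ∈ M
                          rw [this]
                          exact M.mul_mem ha (hMn.conj_mem _ hb a)
                        inv_mem' := fun {a} ha => by
                          have : c⁻¹ * a⁻¹ * c * a⁻¹⁻¹ = a⁻¹ * (c⁻¹ * a * c * a⁻¹)⁻¹ * a⁻¹⁻¹ := by
                            simp [mul_assoc]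
                          change c⁻¹ * a⁻¹ * c * a⁻¹⁻¹ ∈ M
                          rw [this]
                          exact hMn.conj_mem _ (M.inv_mem ha) a⁻¹ } : Subgroup S) := by
        rw [← hX12]
        refine sup_le (fun a ha => ?_) (fun a ha => ?_)
        · change c⁻¹ * a * c * a⁻¹ ∈ M
          rw [mul_assoc c⁻¹ a c, Subgroup.mem_centralizer_iff.1 hc.2.2 a ha, inv_mul_cancel_left,
            mul_inv_cancel]
          exact M.one_mem
        · change c⁻¹ * a * c * a⁻¹ ∈ M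
          have hc' : a * c' * a⁻¹ = c' := mem_centralizer_iff_conj.1 hc'.2.2 a ha
          have hmem : m⁻¹ * m' ∈ M := M.mul_mem (M.inv_mem hm) hm'
          have hceq : c = (m⁻¹ * m') * c' := by
            rw [mul_assoc, show m' * c' = m * c from he, inv_mul_cancel_left]
          have : c⁻¹ * a * c * a⁻¹ = c⁻¹ * (a * (m⁻¹ * m') * a⁻¹) * (a * c' * a⁻¹) := by
            rw [hceq]; simp [mul_assoc]
          rw [this, hc', hceq]
          have h5 := M.mul_mem (M.inv_mem hmem) (hMn.conj_mem _ hmem a)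
          have h6 := hMn.conj_mem _ h5 c'⁻¹
          simpa [mul_assoc] using h6
      exact fun a ha => hle ha
    have hMP : M ≤ (P : Subgroup S) := hMN.trans hNP
    obtain ⟨d, hd, hcd⟩ := exists_fixed_mem_coset (A := Q) (D := M)
      (by rw [Subgroup.normalizer_eq_top_iff.2 hMn]; exact le_top)
      (coprime_of_le_right hMP hcopQP) (Or.inl (hsol Q le_rfl)) c hcosetQ
    have hd1 : d ∈ (P : Subgroup S) ⊓ Subgroup.centralizer (Q : Set S) := by
      refine ⟨?_, hd⟩
      have := (P : Subgroup S).mul_mem hc.2.1 (hMP hcd)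
      rw [mul_inv_cancel_left] at this
      exact this
    rw [hQC, Subgroup.mem_bot] at hd1
    rw [hd1, mul_one] at hcd
    simpa using M.inv_mem hcd
  -- descend along a central series
  have hdesc : ∀ k, ⁅C₁, C₂⁆ ≤ (P : Subgroup S).lowerCentralSeries k ∧
      ((P : Subgroup S).lowerCentralSeries k).Normal ∧
      (P : Subgroup S).lowerCentralSeries k ≤ (P : Subgroup S) := by
    intro k
    induction k with
    | zero =>
      exact ⟨(Subgroup.commutator_mono inf_le_left inf_le_left).trans (Subgroup.commutator_le_self _),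
        inferInstance, le_rfl⟩
    | succ k ih =>
      obtain ⟨h1, h2, h3⟩ := ih
      exact ⟨step _ h3 h2 h1, Subgroup.commutator_normal _ _, (Subgroup.commutator_le_left _ _).trans h3⟩
  have := P.2.isNilpotent
  obtain ⟨k, hk⟩ := (Subgroup.isNilpotent_iff_lowerCentralSeries (S := (P : Subgroup S))).1 inferInstance
  exact le_bot_iff.1 (hk ▸ (hdesc k).1)

end Cfsg.Agent.S1900
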