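import Cfsg.Statements.S1901
import Cfsg.Agent.Lib.CoprimeTools
import Cfsg.Agent.Lib.HallSolvable
-- import your own Cfsg.Agent.* helpers here

set_option autoImplicit false
open Cfsg

namespace Cfsg.Agent.S1901

open scoped Pointwise commutatorElement
open Cfsg.Agent.CoprimeSZ Cfsg.Agent.CoprimeAction Cfsg.Agent.CoprimeGen Cfsg.Agent.CoprimeExtra Cfsg.Agent.CoprimeTools

universe u in
theorem le_centralizer_of_normalizes_sylow (p : ℕ) [Fact p.Prime] (n : ℕ) :
    ∀ (G : Type u) [Group G] [Finite G], Nat.card G ≤ n → Cfsg.IsPSolvable p G →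
    ∀ (Q A : Subgroup G), ¬ p ∣ Nat.card Q → IsPGroup p A →
      A ≤ Subgroup.normalizer (Q : Set G) → ∀ P : Sylow p G,
      Q ≤ Subgroup.normalizer ((P : Subgroup G) : Set G) →
      A ≤ Subgroup.centralizer (Q : Set G) := by
  induction n with
  | zero => intro G _ _ h; exact absurd h (by simp [Nat.card_pos.ne'])
  | succ n ih =>
    intro G _ _ hcard hG Q A hQ hA hAQ P hQP
    have hp : p.Prime := Fact.out
    have hcopAQ : (Nat.card A).Coprime (Nat.card Q) := by
      obtain ⟨m, hm⟩ := IsPGroup.iff_card.1 hA
      rw [hm]
      exact Nat.Coprime.pow_left _ ((Nat.Prime.coprime_iff_not_dvd hp).2 hQ)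
    have hsAQ : Group.IsSolvable A ∨ Group.IsSolvable Q := Or.inl (isSolvable_of_isPGroup hA)
    cases subsingleton_or_nontrivial G with
    | inl hs =>
      intro a _
      rw [Subgroup.mem_centralizer_iff]
      intro x _
      exact Subsingleton.elim _ _
    | inr hnt =>
      set R : Subgroup G := ⁅Q, A⁆ with hR
      have hRQ : R ≤ Q := commutator_le_self_of_le_normalizer hAQ
      have key : ∀ M : Subgroup G, M.Normal → M ≠ ⊥ → R ≤ M := by
        intro M hMn hMne
        have hlt : Nat.card (G ⧸ M) ≤ n := by
          have := Cfsg.Agent.HallSolvable.card_quotient_lt hMne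
          omega
        set π := QuotientGroup.mk' M
        have h1 := ih (G ⧸ M) hlt (Cfsg.Agent.HallSolvable.isPSolvable_quotient hG M)
          (Q.map π) (A.map π) (fun hd => hQ (hd.trans (Subgroup.card_map_dvd Q π)))
          (hA.map π) (le_trans (Subgroup.map_mono hAQ) (Subgroup.le_normalizer_map π))
          (P.mapSurjective (QuotientGroup.mk'_surjective M))
          (le_trans (Subgroup.map_mono hQP) (Subgroup.le_normalizer_map π))
        have h2 : (R.map π) = ⊥ := by
          rw [hR, Subgroup.map_commutator, Subgroup.commutator_comm]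
          exact Subgroup.commutator_eq_bot_iff_le_centralizer.2 h1
        rwa [Subgroup.map_eq_bot_iff, QuotientGroup.ker_mk'] at h2
      suffices hR1 : R = ⊥ by
        rw [← Subgroup.commutator_eq_bot_iff_le_centralizer, Subgroup.commutator_comm]
        exact hR1
      have hsep := (Cfsg.Agent.HallSolvable.isPSolvable_iff p).1 hG
      by_cases hM : Cfsg.pPrimeCore p G = ⊥
      · have hU : Cfsg.pCore p G ≠ ⊥ := by
          rw [Cfsg.Agent.HallCore.pCore_eq_piCore]
          refine (Cfsg.Agent.HallSolvable.IsPiSeparable.exists_core_ne_bot hsep).resolve_right ?_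
          rw [← Cfsg.Agent.HallCore.pPrimeCore_eq_piCore]
          exact not_not_intro hM
        have h1 := key _ (Cfsg.Agent.HallCore.pCore_normal p G) hU
        obtain ⟨m, hm⟩ := IsPGroup.iff_card.1 (Cfsg.Agent.HallCore.isPGroup_pCore p G)
        have hcop : (Nat.card (Cfsg.pCore p G)).Coprime (Nat.card Q) := by
          rw [hm]; exact Nat.Coprime.pow_left _ ((Nat.Prime.coprime_iff_not_dvd hp).2 hQ)
        rw [← le_bot_iff, ← Subgroup.inf_eq_bot_of_coprime hcop]
        exact le_inf h1 hRQ
      · set M := Cfsg.pPrimeCore p G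
        have hMn : M.Normal := Cfsg.Agent.HallCore.pPrimeCore_normal p G
        have hRM := key M hMn hM
        have hPR : R ≤ Subgroup.centralizer ((P : Subgroup G) : Set G) := by
          rw [← Subgroup.commutator_eq_bot_iff_le_centralizer, ← le_bot_iff]
          obtain ⟨m, hm⟩ := IsPGroup.iff_card.1 P.2
          have hcop : (Nat.card M).Coprime (Nat.card (P : Subgroup G)) := by
            rw [hm]
            exact Nat.Coprime.pow_right _ (Cfsg.Agent.HallCore.coprime_card_pPrimeCore p G)
          rw [← Subgroup.inf_eq_bot_of_coprime hcop]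
          refine le_inf ((Subgroup.commutator_mono hRM le_rfl).trans (Subgroup.commutator_le_left _ _)) ?_
          rw [Subgroup.commutator_comm]
          exact commutator_le_self_of_le_normalizer (hRQ.trans hQP)
        have hPC : (P : Subgroup G) ≤ Subgroup.centralizer (R : Set G) :=
          Subgroup.le_centralizer_iff.1 hPR
        set NR := Subgroup.normalizer (R : Set G)
        have hCNR : Subgroup.centralizer (R : Set G) ≤ NR := Subgroup.centralizer_le_normalizer _
        have hCn : ((Subgroup.centralizer (R : Set G)).subgroupOf NR).Normal :=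
          Subgroup.normal_subgroupOf_of_le_normalizer (le_normalizer_centralizer_of_le le_rfl)
        have hAN : A ≤ NR := Subgroup.normalizer_commutator_ge_right Q A
        have hidx : ¬ p ∣ ((Subgroup.centralizer (R : Set G)).subgroupOf NR).index := by
          intro hd
          apply P.not_dvd_index
          have h1 : (Subgroup.centralizer (R : Set G)).relIndex NR ∣
              (P : Subgroup G).relIndex NR := Subgroup.relIndex_dvd_of_le_left _ hPC
          exact hd.trans (h1.trans (Subgroup.relIndex_dvd_index_of_le (hPC.trans hCNR)))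
        have hAC : A ≤ Subgroup.centralizer (R : Set G) := by
          intro a ha
          set C := (Subgroup.centralizer (R : Set G)).subgroupOf NR
          obtain ⟨k, hk⟩ := hA ⟨a, ha⟩
          have h1 : ((⟨a, hAN ha⟩ : NR) : NR ⧸ C) ^ (p ^ k) = 1 := by
            rw [← QuotientGroup.mk_pow,
              show (⟨a, hAN ha⟩ : NR) ^ (p ^ k) = 1 from
                Subtype.ext (by simpa using congrArg Subtype.val hk)]
            rfl
          have h2 : ((⟨a, hAN ha⟩ : NR) : NR ⧸ C) = 1 := by
            refine orderOf_eq_one_iff.1 (Nat.eq_one_of_dvd_coprimes ?_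
              (orderOf_dvd_of_pow_eq_one h1) (orderOf_dvd_natCard _))
            exact Nat.Coprime.pow_left _ ((Nat.Prime.coprime_iff_not_dvd hp).2 hidx)
          exact ((QuotientGroup.eq_one_iff _).1 h2 : _)
        have h3 : ⁅R, A⁆ = ⊥ := by
          rw [Subgroup.commutator_comm]
          exact Subgroup.commutator_eq_bot_iff_le_centralizer.2 hAC
        rw [commutator_commutator_eq hAQ hcopAQ hsAQ] at h3
        exact h3


/-- Let G be a finite p-solvable group and Q a subgroup of order prime to p such that p divides the index of C_G(Q) in N_G(Q). Then Q normalizes no Sylow p-subgroup of G. -/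
theorem result {G : Type*} [Group G] [Finite G] {p : ℕ} [Fact p.Prime]
    (hG : Cfsg.IsPSolvable p G) (Q : Subgroup G) (hQ : ¬ p ∣ Nat.card Q)
    (hA : p ∣ (Subgroup.centralizer (Q : Set G)).relIndex (Subgroup.normalizer (Q : Set G)))
    (P : Sylow p G) : ¬ Q ≤ Subgroup.normalizer ((P : Subgroup G) : Set G) := by
  intro hQP
  have hp : p.Prime := Fact.out
  obtain ⟨R⟩ := (inferInstance : Nonempty (Sylow p (Subgroup.normalizer (Q : Set G))))
  set A := (R : Subgroup (Subgroup.normalizer (Q : Set G))).map
    (Subgroup.normalizer (Q : Set G)).subtype with hAdef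
  have hle := le_centralizer_of_normalizes_sylow p (Nat.card G) G le_rfl hG Q A hQ (R.2.map _)
    (Subgroup.map_subtype_le _) P hQP
  have h1 : (Subgroup.centralizer (Q : Set G)).relIndex (Subgroup.normalizer (Q : Set G)) ∣
      A.relIndex (Subgroup.normalizer (Q : Set G)) := Subgroup.relIndex_dvd_of_le_left _ hle
  have h2 : A.relIndex (Subgroup.normalizer (Q : Set G)) =
      (R : Subgroup (Subgroup.normalizer (Q : Set G))).index := by
    change (A.subgroupOf _).index = _
    rw [hAdef, Subgroup.subgroupOf, Subgroup.comap_map_eq_self_of_injective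
      (Subgroup.subtype_injective _)]
  exact R.not_dvd_index (h2 ▸ hA.trans h1)

end Cfsg.Agent.S1901
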