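import Cfsg.Statements.S1902
import Cfsg.Agent.Lib.ClassTwoBaer
import Cfsg.Agent.Lib.BGRankTwo

set_option autoImplicit false
set_option linter.style.haveILetI false
open Cfsg

namespace Cfsg.Agent.S1902

open Subgroup
open scoped commutatorElement

/-- The reduced case: `O_{p'} = 1`, so `C(R) ≤ R`. -/
theorem eq_bot_of_reduced {X : Type*} [Group X] [Finite X] {p : ℕ} [hp : Fact p.Prime] (hp2 : p ≠ 2)
    {R B Q : Subgroup X} [R.Normal] (hR : IsPGroup p R) (hcR : centralizer (R : Set X) ≤ R)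
    {b : X} (hb : b ∈ B) (hbp : b ^ p = 1) (hQ : (Nat.card Q).Coprime p)
    (hBQ : ∀ x ∈ B, ∀ q ∈ Q, x * q * x⁻¹ ∈ Q)
    (hin : ∀ x ∈ R, x ^ p = 1 → Commute x b → x ∈ B) : Q = ⊥ := by
  obtain ⟨C, hCR, hNC, hself, hcl, -⟩ := ClassTwoBaer.exists_critical_sub hR
  have hN : ∀ S : Subgroup X, S ≤ normalizer (C : Set X) :=
    fun S => le_trans (by rw [normalizer_eq_top R]; exact le_top) hNC
  have hCn : ∀ g : X, ∀ x ∈ C, g * x * g⁻¹ ∈ C := fun g x hx =>
    (mem_normalizer_iff.1 (hN ⊤ (mem_top g)) x).1 hx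
  have hz : ∀ s t : C, ⁅s, t⁆ ∈ center C := fun s t => mem_center_iff.2 fun w =>
    Subtype.ext ((hcl s s.2 t t.2).2 w w.2)
  let E : Subgroup X :=
    { carrier := {x | x ∈ C ∧ x ^ p = 1}
      one_mem' := ⟨one_mem C, one_pow p⟩
      mul_mem' := fun {u v} hu hv => ⟨mul_mem hu.1 hv.1, by
        have h1 := PGroupsBasic.mul_pow_of_central (a := (⟨u, hu.1⟩ : C)) (b := ⟨v, hv.1⟩) (hz _ _) p
        have hu' : (⟨u, hu.1⟩ : C) ^ p = 1 := Subtype.ext hu.2
        have hv' : (⟨v, hv.1⟩ : C) ^ p = 1 := Subtype.ext hv.2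
        have h2 := PGroupsBasic.commutatorElement_pow_right (a := (⟨v, hv.1⟩ : C))
          (b := ⟨u, hu.1⟩) (hz _ _) p
        rw [hu', commutatorElement_one_right] at h2
        obtain ⟨m, hm⟩ : p ∣ p.choose 2 := hp.out.dvd_choose_self two_ne_zero
          (lt_of_le_of_ne hp.out.two_le (Ne.symm hp2))
        rw [hu', hv', hm, pow_mul, ← h2] at h1
        simpa using congrArg Subtype.val h1⟩
      inv_mem' := fun {x} hx => ⟨inv_mem hx.1, by rw [inv_pow, hx.2, inv_one]⟩ }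
  have hEC : E ≤ C := fun x hx => hx.1
  have hEn : ∀ S : Subgroup X, S ≤ normalizer (E : Set X) := by
    intro S g _
    refine CoprimeAction.le_normalizer_of_conj_mem (A := ⊤) ?_ (mem_top g)
    intro a _ x hx
    exact ⟨hCn a x hx.1, by rw [conj_pow, hx.2, mul_one, mul_inv_cancel]⟩
  have hQR : Q ⊓ R = ⊥ := by
    refine disjoint_iff.1 (disjoint_of_coprime_natCard ?_)
    obtain ⟨k, hk⟩ := IsPGroup.iff_card.1 hR
    rw [hk]; exact hQ.pow_right k
  have hBR : ∀ x ∈ B, x ∈ R → ∀ q ∈ Q, q * x = x * q := by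
    intro x hxB hxR q hq
    have h1 : q * x * q⁻¹ * x⁻¹ ∈ Q ⊓ R := by
      refine ⟨?_, R.mul_mem ((inferInstance : R.Normal).conj_mem x hxR q) (R.inv_mem hxR)⟩
      rw [show q * x * q⁻¹ * x⁻¹ = q * (x * q⁻¹ * x⁻¹) by group]
      exact Q.mul_mem hq (hBQ x hxB _ (Q.inv_mem hq))
    rw [hQR, mem_bot] at h1
    exact (mul_inv_eq_iff_eq_mul.1 (mul_inv_eq_one.1 h1))
  have hQE : Q ≤ centralizer (E : Set X) := by
    refine ClassTwoBaer.le_centralizer_of_class_two hp2 (P := zpowers b) ?_ hQ ?_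
      (hR.to_le (hEC.trans hCR)) (hEn _) (hEn _) ?_ ?_
    · rintro ⟨y, i, rfl⟩
      refine ⟨1, Subtype.ext ?_⟩
      show (b ^ i) ^ p ^ 1 = 1
      rw [pow_one, ← zpow_natCast, ← zpow_mul, mul_comm, zpow_mul, zpow_natCast, hbp, one_zpow]
    · exact (zpowers_le.2 hb).trans (CoprimeAction.le_normalizer_of_conj_mem hBQ)
    · intro s t
      refine mem_center_iff.2 fun w => Subtype.ext ?_
      exact (hcl s (hEC s.2) t (hEC t.2)).2 w (hEC w.2)
    · intro x hx q hq
      exact hBR x (hin x (hCR (hEC hx.1)) hx.1.2 (hx.2 b (mem_zpowers b)).symm) (hCR (hEC hx.1)) q hq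
  have hQC : Q ≤ centralizer (C : Set X) := by
    intro q hq c hc
    have hcop : (orderOf q).Coprime p := hQ.coprime_dvd_left (Subgroup.orderOf_dvd_natCard Q hq)
    exact (OmegaCoprime.commute_of_forall_pow_eq_one hp2 hcop C (hR.to_le hCR) (hCn q)
      (fun x hx hxp => ((hQE hq) x ⟨hx, hxp⟩).symm) c hc).eq.symm
  have h := ClassTwoBaer.centralizes_of_critical hR hCR (hN R)
    (by rw [normalizer_eq_top R]; exact le_top) hQ hself hQC
  exact le_bot_iff.1 (hQR ▸ le_inf le_rfl (h.trans hcR))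

/-- Let p be an odd prime, G a finite p-solvable group, and B an elementary abelian subgroup of order p² such that B is the subgroup generated by the elements of order p of some Sylow p-subgroup of C_G(b₀), for some nontrivial b₀ ∈ B. Then every B-invariant subgroup of G of order prime to p lies in O_{p'}(G). -/
theorem result {G : Type*} [Group G] [Finite G] {p : ℕ} [Fact p.Prime] (hp : p ≠ 2)
    (hG : Cfsg.IsPSolvable p G) (B : Subgroup G) (hB : Cfsg.IsElementaryAbelian p B) (hBc : Nat.card B = p ^ 2)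
    (b₀ : G) (hb₀ : b₀ ∈ B) (hb₁ : b₀ ≠ 1) (P : Sylow p ↥(Subgroup.centralizer ({b₀} : Set G)))
    (hBP : B = Subgroup.closure {x : G | x ∈ ((P : Subgroup ↥(Subgroup.centralizer ({b₀} : Set G))).map
      (Subgroup.centralizer ({b₀} : Set G)).subtype : Subgroup G) ∧ orderOf x = p})
    (Q : Subgroup G) (hQ : ¬ p ∣ Nat.card Q) (hinv : ∀ b ∈ B, ∀ x ∈ Q, b * x * b⁻¹ ∈ Q) :
    Q ≤ Cfsg.pPrimeCore p G := by
  have hp' : p.Prime := Fact.out
  haveI := HallCore.pPrimeCore_normal p G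
  set N := Cfsg.pPrimeCore p G with hN
  set X := G ⧸ N
  set π := QuotientGroup.mk' N with hπ
  haveI := HallCore.pCore_normal p X
  have hRp := HallCore.isPGroup_pCore p X
  have hB' := hB
  rw [Cfsg.IsElementaryAbelian] at hB'
  have hBp : IsPGroup p B := IsPGroup.of_card hBc
  have hbB : π b₀ ∈ B.map π := mem_map_of_mem π hb₀
  have hker : (Nat.card π.ker).Coprime p := by
    rw [hπ, QuotientGroup.ker_mk', hN]; exact HallCore.coprime_card_pPrimeCore p G
  have hQc : (Nat.card Q).Coprime p := ((Nat.Prime.coprime_iff_not_dvd hp').2 hQ).symm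
  have h := eq_bot_of_reduced hp hRp
    (PConstrained.centralizer_pCore_quotient_le (HallSolvable.isPConstrained_of_isPSolvable hG))
    hbB (by rw [← map_pow, hB'.2 b₀ hb₀, map_one]) (Q := Q.map π)
    (hQc.coprime_dvd_left (Subgroup.card_map_dvd Q π)) ?_ ?_
  · rwa [Subgroup.map_eq_bot_iff, hπ, QuotientGroup.ker_mk'] at h
  · rintro _ ⟨x, hx, rfl⟩ _ ⟨q, hq, rfl⟩
    exact ⟨_, hinv x hx q hq, by simp⟩
  intro x hxR hxp hxb
  set S := Cfsg.pCore p X ⊓ centralizer ({π b₀} : Set X) with hS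
  set T' := S ⊔ B.map π with hT'
  have hBS : B.map π ≤ normalizer (S : Set X) := by
    refine CoprimeAction.le_normalizer_of_conj_mem ?_
    rintro _ ⟨a, ha, rfl⟩ s ⟨hs, hsc⟩
    refine ⟨(inferInstance : (Cfsg.pCore p X).Normal).conj_mem s hs _,
      mem_centralizer_singleton_iff.2 ?_⟩
    have hab : Commute (π a) (π b₀) :=
      (show Commute a b₀ from congrArg Subtype.val (hB'.1.is_comm.comm ⟨a, ha⟩ ⟨b₀, hb₀⟩)).map π
    exact ((hab.mul_left (mem_centralizer_singleton_iff.1 hsc)).mul_left hab.inv_left).eq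
  have hT'p : IsPGroup p T' :=
    IsPGroup.to_sup_of_normal_left' (hRp.to_le inf_le_left) (hBp.map π) hBS
  have hT'c : T' ≤ centralizer ({π b₀} : Set X) := by
    refine sup_le inf_le_right ?_
    rintro _ ⟨a, ha, rfl⟩
    exact mem_centralizer_singleton_iff.2
      ((show Commute a b₀ from congrArg Subtype.val (hB'.1.is_comm.comm ⟨a, ha⟩ ⟨b₀, hb₀⟩)).map π).eq
  -- lift
  set D := T'.comap π with hD
  have hBD : B ≤ D := map_le_iff_le_comap.1 le_sup_right
  obtain ⟨T, hT⟩ := (hBp.comap_subtype (K := D)).exists_le_sylow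
  let f := π.subgroupComap T'
  have hfs : Function.Surjective f :=
    π.subgroupComap_surjective_of_surjective T' (QuotientGroup.mk'_surjective N)
  have hfT : (T : Subgroup D).map f = ⊤ := by
    rw [← Sylow.coe_mapSurjective hfs T]
    exact ((T.mapSurjective hfs).is_maximal' (hT'p.to_subgroup ⊤) le_top).symm
  have hinj := GlaubermanQuotient.injOn_of_coprime (T.isPGroup'.map D.subtype) hker
  set T₀ := (T : Subgroup D).map D.subtype with hT₀
  have hBT : B ≤ T₀ := fun a ha => ⟨⟨a, hBD ha⟩, hT ha, rfl⟩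
  obtain ⟨t, htT, htx⟩ : ∃ t ∈ T₀, π t = x := by
    have : (⟨x, mem_sup_left ⟨hxR, mem_centralizer_singleton_iff.2 hxb⟩⟩ : T') ∈
        (T : Subgroup D).map f := hfT ▸ mem_top _
    obtain ⟨t, ht, e⟩ := this
    exact ⟨t, ⟨t, ht, rfl⟩, congrArg Subtype.val e⟩
  have hTc : T₀ ≤ centralizer ({b₀} : Set G) := by
    rintro _ ⟨u, hu, rfl⟩
    refine mem_centralizer_singleton_iff.2 (hinj (mul_mem ⟨u, hu, rfl⟩ (hBT hb₀))
      (mul_mem (hBT hb₀) ⟨u, hu, rfl⟩) ?_)
    rw [map_mul, map_mul]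
    exact mem_centralizer_singleton_iff.1 (hT'c u.2)
  obtain ⟨P', hP'⟩ := ((T.isPGroup'.map D.subtype).comap_subtype
    (K := centralizer ({b₀} : Set G))).exists_le_sylow
  obtain ⟨g, hg⟩ := MulAction.exists_smul_eq (centralizer ({b₀} : Set G)) P' P
  have hconj : ∀ u ∈ T₀, orderOf u = p → (g : G) * u * (g : G)⁻¹ ∈ B := by
    intro u hu hup
    rw [hBP]
    refine subset_closure ⟨⟨g * ⟨u, hTc hu⟩ * g⁻¹, ?_, rfl⟩, ?_⟩
    · rw [← hg]
      exact smul_mem_pointwise_smul _ (MulAut.conj g) _ (hP' hu)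
    · rw [← hup]
      exact (MulAut.conj (g : G)).orderOf_eq u
  have hord : ∀ u : G, u ^ p = 1 → u ≠ 1 → orderOf u = p := fun u h1 h2 => orderOf_eq_prime h1 h2
  have hgB : B.map (MulAut.conj (g : G)).toMonoidHom = B := by
    refine eq_of_le_of_card_ge ?_ (card_map_of_injective (MulAut.conj (g : G)).injective).ge
    rintro _ ⟨a, ha, rfl⟩
    by_cases ha1 : a = 1
    · rw [ha1, map_one]; exact one_mem B
    exact hconj a (hBT ha) (hord a (hB'.2 a ha) ha1)
  have htp : t ^ p = 1 := hinj (pow_mem htT p) (one_mem _) (by rw [map_pow, htx, hxp, map_one])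
  refine ⟨t, ?_, htx⟩
  by_cases ht1 : t = 1
  · rw [ht1]; exact one_mem B
  have h2 := hconj t htT (hord t htp ht1)
  rw [← hgB] at h2
  obtain ⟨a, ha, e⟩ := h2
  rwa [show t = a from (MulAut.conj (g : G)).injective e.symm]

end Cfsg.Agent.S1902
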