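import Cfsg.Statements.S1903
import Cfsg.Agent.Lib.Order320Unique65
import Cfsg.Agent.Lib.SU3TwoHeisEmbed

set_option autoImplicit false
open Cfsg

namespace Cfsg.Agent.S1903

open Matrix Cfsg.Agent.OrthUnitaryHerm Cfsg.Agent.SpectrumPSU61 Cfsg.Agent.SU3TwoHeis
  Cfsg.Agent.SU3TwoHeisEmbed
open scoped MatrixGroups commutatorElement

variable {F : Type*} [Field F] [Fintype F]

/-- The antidiagonal form. -/
def J3 : Matrix (Fin 3) (Fin 3) F := !![0, 0, 1; 0, 1, 0; 1, 0, 0]

/-- The unitary group of the antidiagonal form. -/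
def UJ (hF : Fintype.card F = 4 ^ 2) : Subgroup SL(3, F) where
  carrier := {M | adj 4 M.1 * J3 * M.1 = J3}
  one_mem' := by
    show adj 4 (1 : SL(3, F)).1 * J3 * (1 : SL(3, F)).1 = J3
    rw [Matrix.SpecialLinearGroup.coe_one, adj_one hF, Matrix.one_mul, Matrix.mul_one]
  mul_mem' := fun {M N} hM hN => by
    show adj 4 (M * N).1 * J3 * (M * N).1 = J3
    rw [Matrix.SpecialLinearGroup.coe_mul, adj_mul hF]
    calc adj 4 N.1 * adj 4 M.1 * J3 * (M.1 * N.1)
        = adj 4 N.1 * (adj 4 M.1 * J3 * M.1) * N.1 := by simp only [Matrix.mul_assoc]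
      _ = J3 := by
        rw [show adj 4 M.1 * J3 * M.1 = J3 from hM]
        exact hN
  inv_mem' := fun {M} hM => by
    show adj 4 (M⁻¹).1 * J3 * (M⁻¹).1 = J3
    have h1 : M.1 * (M⁻¹).1 = 1 := by
      rw [← Matrix.SpecialLinearGroup.coe_mul, mul_inv_cancel, Matrix.SpecialLinearGroup.coe_one]
    nth_rw 1 [← show adj 4 M.1 * J3 * M.1 = J3 from hM]
    calc adj 4 (M⁻¹).1 * (adj 4 M.1 * J3 * M.1) * (M⁻¹).1
        = (adj 4 (M⁻¹).1 * adj 4 M.1) * J3 * (M.1 * (M⁻¹).1) := by simp only [Matrix.mul_assoc]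
      _ = J3 := by rw [← adj_mul hF, h1, adj_one hF, Matrix.one_mul, Matrix.mul_one]

/-- The antidiagonal model of `SU(3, 4)`. -/
theorem exists_equiv (hF : Fintype.card F = 4 ^ 2) [CharP F 2] (σ : F →+* F)
    [Fact (Function.Involutive σ)] (hσ : ∀ x, σ x = x ^ 4) (hne : ∃ c : F, σ c ≠ c) :
    Nonempty (↥(UJ hF) ≃* PSU 3 F 4) := by
  classical
  obtain ⟨P, hP, hPP⟩ := exists_basis σ hF hσ hne
  have hQP := Matrix.nonsing_inv_mul P hP
  have hPQ := Matrix.mul_nonsing_inv P hP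
  have hadj : adj 4 P⁻¹ * adj 4 P = 1 := by rw [← adj_mul hF, hPQ, adj_one hF]
  have hto : ∀ M : ↥(UJ hF), IsU 4 (P * M.1.1 * P⁻¹) := fun M => by
    rw [isU_iff hF, adj_mul hF, adj_mul hF]
    calc adj 4 P⁻¹ * (adj 4 M.1.1 * adj 4 P) * (P * M.1.1 * P⁻¹)
        = adj 4 P⁻¹ * (adj 4 M.1.1 * (adj 4 P * P) * M.1.1) * P⁻¹ := by simp only [Matrix.mul_assoc]
      _ = (adj 4 P⁻¹ * adj 4 P) * (P * P⁻¹) := by
        rw [hPP, show adj 4 M.1.1 * !![0, 0, 1; 0, 1, 0; 1, 0, 0] * M.1.1 = _ from M.2]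
        show _ * J3 * _ = _
        rw [show (J3 : Matrix (Fin 3) (Fin 3) F) = adj 4 P * P from hPP.symm]
        simp only [Matrix.mul_assoc]
      _ = 1 := by rw [hadj, hPQ, Matrix.mul_one]
  have hd : ∀ M : ↥(UJ hF), (P * M.1.1 * P⁻¹).det = 1 := fun M => by
    rw [Matrix.det_mul, Matrix.det_mul, M.1.2, mul_one, ← Matrix.det_mul, hPQ, Matrix.det_one]
  let ψ : ↥(UJ hF) →* SU 3 F 4 := MonoidHom.mk' (fun M => mkSU _ (hd M) (hto M)) fun M N =>
    Subtype.ext (Subtype.ext (by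
      show P * (M * N).1.1 * P⁻¹ = (P * M.1.1 * P⁻¹) * (P * N.1.1 * P⁻¹)
      rw [Subgroup.coe_mul, Matrix.SpecialLinearGroup.coe_mul]
      calc P * (M.1.1 * N.1.1) * P⁻¹ = P * M.1.1 * ((P⁻¹ * P) * N.1.1) * P⁻¹ := by
            rw [hQP, Matrix.one_mul]; simp only [Matrix.mul_assoc]
        _ = _ := by simp only [Matrix.mul_assoc]))
  have hψi : Function.Injective ψ := by
    intro M N h
    have h' : P * M.1.1 * P⁻¹ = P * N.1.1 * P⁻¹ := congrArg (fun g : SU 3 F 4 => g.1.1) h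
    refine Subtype.ext (Subtype.ext ?_)
    calc M.1.1 = P⁻¹ * (P * M.1.1 * P⁻¹) * P := by
          simp only [← Matrix.mul_assoc, hQP, Matrix.one_mul]
          rw [Matrix.mul_assoc, hQP, Matrix.mul_one]
      _ = N.1.1 := by
          rw [h']
          simp only [← Matrix.mul_assoc, hQP, Matrix.one_mul]
          rw [Matrix.mul_assoc, hQP, Matrix.mul_one]
  have hψs : Function.Surjective ψ := by
    intro g
    have hg := (isU_iff hF _).1 (isU_of_mem_SU g)
    set A : Matrix (Fin 3) (Fin 3) F := g.1.1 with hA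
    have hdA : (P⁻¹ * A * P).det = 1 := by
      rw [Matrix.det_mul, Matrix.det_mul, g.1.2, mul_one, ← Matrix.det_mul, hQP, Matrix.det_one]
    have hmem : adj 4 (P⁻¹ * A * P) * J3 * (P⁻¹ * A * P) = J3 := by
      rw [adj_mul hF, adj_mul hF, show (J3 : Matrix (Fin 3) (Fin 3) F) = adj 4 P * P from hPP.symm]
      calc adj 4 P * (adj 4 A * adj 4 P⁻¹) * (adj 4 P * P) * (P⁻¹ * A * P)
          = adj 4 P * (adj 4 A * (adj 4 P⁻¹ * adj 4 P) * (P * P⁻¹) * A) * P := by
            simp only [Matrix.mul_assoc]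
        _ = adj 4 P * P := by rw [hadj, hPQ, Matrix.mul_one, Matrix.mul_one, hg, Matrix.mul_one]
    refine ⟨⟨⟨_, hdA⟩, hmem⟩, Subtype.ext (Subtype.ext ?_)⟩
    show P * (P⁻¹ * A * P) * P⁻¹ = A
    simp only [← Matrix.mul_assoc, hPQ, Matrix.one_mul]
    rw [Matrix.mul_assoc, hPQ, Matrix.mul_one]
  have hZ : Subgroup.center (SU 3 F 4) = ⊥ := by
    apply Subgroup.eq_bot_of_card_eq
    rw [card_center_SU hF (by norm_num)]
    norm_num
  have hπ : Function.Bijective (QuotientGroup.mk' (Subgroup.center (SU 3 F 4))) :=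
    ⟨by rw [← MonoidHom.ker_eq_bot_iff, QuotientGroup.ker_mk', hZ], QuotientGroup.mk'_surjective _⟩
  exact ⟨(MulEquiv.ofBijective ψ ⟨hψi, hψs⟩).trans (MulEquiv.ofBijective _ hπ)⟩

/-- The torus element. -/
def torus (hF : Fintype.card F = 4 ^ 2) (μ : F) (h : μ ^ 5 = 1) : ↥(UJ hF) :=
  ⟨⟨!![μ, 0, 0; 0, μ ^ 3, 0; 0, 0, μ], by
      rw [Matrix.det_fin_three]; simp; linear_combination h⟩, by
    show adj 4 !![μ, 0, 0; 0, μ ^ 3, 0; 0, 0, μ] * J3 * !![μ, 0, 0; 0, μ ^ 3, 0; 0, 0, μ] = J3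
    have h15 : (μ ^ 5) ^ 3 = 1 := by rw [h, one_pow]
    ext i j
    fin_cases i <;> fin_cases j <;> simp [J3, Matrix.mul_apply, Fin.sum_univ_three, adj_apply] <;>
      first
        | linear_combination h
        | linear_combination h15⟩

section Centralizer

variable (hF : Fintype.card F = 4 ^ 2) [CharP F 2] (σ : F →+* F) [Fact (Function.Involutive σ)]
  (hσ : ∀ x, σ x = x ^ 4)
include hσ

theorem heis_mem (x : HU σ) : (⟨heisMat σ x, heisMat_det σ x⟩ : SL(3, F)) ∈ UJ hF :=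
  heisMat_unitary σ hF hσ x

/-- The Heisenberg group inside the model. -/
def heisHom : HU σ →* ↥(UJ hF) :=
  MonoidHom.mk' (fun x => ⟨⟨heisMat σ x, heisMat_det σ x⟩, heis_mem hF σ hσ x⟩)
    fun x y => Subtype.ext (Subtype.ext (heisMat_mul σ x y))

/-- A central involution. -/
def invo : ↥(UJ hF) := heisHom hF σ hσ (zc 1 (map_one σ))

theorem invo_val : (invo hF σ hσ).1.1 = !![1, 0, 1; 0, 1, 0; 0, 0, 1] := by
  show heisMat σ (zc 1 (map_one σ)) = _
  simp [heisMat]

theorem orderOf_invo : orderOf (invo hF σ hσ) = 2 := by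
  refine orderOf_eq_prime (hp := ⟨Nat.prime_two⟩) ?_ ?_
  · rw [invo, ← map_pow, pow_two, (sq_eq_one_iff _).2 (fA_zc 1 (map_one σ)), map_one]
  · intro h
    have := congrArg (fun g : ↥(UJ hF) => g.1.1 0 2) h
    simp [invo_val] at this

theorem heis_mem_cent (x : HU σ) :
    heisHom hF σ hσ x ∈ Subgroup.centralizer ({invo hF σ hσ} : Set ↥(UJ hF)) := by
  rw [Subgroup.mem_centralizer_singleton_iff, invo, ← map_mul, ← map_mul]
  exact congrArg _ ((commute_iff _ _).2 (by simp)).eq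

theorem torus_mem_cent (μ : F) (h : μ ^ 5 = 1) :
    torus hF μ h ∈ Subgroup.centralizer ({invo hF σ hσ} : Set ↥(UJ hF)) := by
  rw [Subgroup.mem_centralizer_singleton_iff]
  refine Subtype.ext (Subtype.ext ?_)
  show !![μ, 0, 0; 0, μ ^ 3, 0; 0, 0, μ] * (invo hF σ hσ).1.1 = (invo hF σ hσ).1.1 * _
  rw [invo_val]
  show _ = _ * !![μ, 0, 0; 0, μ ^ 3, 0; 0, 0, μ]
  ext i j
  fin_cases i <;> fin_cases j <;> simp [Matrix.mul_apply, Fin.sum_univ_three]

theorem torus_mul_val (μ : F) (h : μ ^ 5 = 1) (x : HU σ) :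
    (torus hF μ h * heisHom hF σ hσ x).1.1 =
      !![μ, μ * σ (fA x), μ * σ (fB x); 0, μ ^ 3, μ ^ 3 * fA x; 0, 0, μ] := by
  show !![μ, 0, 0; 0, μ ^ 3, 0; 0, 0, μ] * heisMat σ x = _
  ext i j
  fin_cases i <;> fin_cases j <;> simp [heisMat, Matrix.mul_apply, Fin.sum_univ_three]

/-- Entries of an element commuting with the central involution. -/
theorem shape {M : ↥(UJ hF)} (hM : M ∈ Subgroup.centralizer ({invo hF σ hσ} : Set ↥(UJ hF))) :
    M.1.1 1 0 = 0 ∧ M.1.1 2 0 = 0 ∧ M.1.1 2 1 = 0 ∧ M.1.1 2 2 = M.1.1 0 0 := by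
  rw [Subgroup.mem_centralizer_singleton_iff] at hM
  have h : M.1.1 * (invo hF σ hσ).1.1 = (invo hF σ hσ).1.1 * M.1.1 :=
    congrArg (fun g : ↥(UJ hF) => g.1.1) hM
  rw [invo_val] at h
  have e := fun i j => congrFun (congrFun h i) j
  have e00 := e 0 0
  have e01 := e 0 1
  have e02 := e 0 2
  have e12 := e 1 2
  simp [Matrix.mul_apply, Fin.sum_univ_three] at e00 e01 e02 e12
  refine ⟨?_, ?_, ?_, ?_⟩ <;> first | assumption | exact e00.symm | linear_combination e12 | linear_combination e02 | linear_combination -e02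

theorem decomp {M : ↥(UJ hF)} (hM : M ∈ Subgroup.centralizer ({invo hF σ hσ} : Set ↥(UJ hF))) :
    ∃ (h : M.1.1 0 0 ^ 5 = 1) (x : HU σ), torus hF (M.1.1 0 0) h * heisHom hF σ hσ x = M := by
  obtain ⟨h10, h20, h21, h22⟩ := shape hF σ hσ hM
  have hU := M.2
  change adj 4 M.1.1 * J3 * M.1.1 = J3 at hU
  have e := fun i j => congrFun (congrFun hU i) j
  have e02 := e 0 2
  have e12 := e 1 2
  have e22 := e 2 2
  simp [J3, Matrix.mul_apply, Fin.sum_univ_three, adj_apply, h10, h20, h21, h22] at e02 e12 e22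
  have hd := M.1.2
  rw [Matrix.det_fin_three, h10, h20, h21, h22] at hd
  set μ := M.1.1 0 0 with hμ
  have h5 : μ ^ 5 = 1 := by linear_combination e02
  have hm11 : M.1.1 1 1 = μ ^ 3 := by linear_combination μ ^ 3 * hd - M.1.1 1 1 * h5
  rw [hm11] at e12
  have hb : μ ^ 4 * M.1.1 0 2 + σ (μ ^ 4 * M.1.1 0 2) =
      (μ ^ 2 * M.1.1 1 2) * σ (μ ^ 2 * M.1.1 1 2) := by
    have h20' : μ ^ 20 = 1 := by rw [show 20 = 5 * 4 from rfl, pow_mul, h5, one_pow]
    simp only [hσ, mul_pow, ← pow_mul]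
    have h2 : (2 : F) = 0 := two_zero
    have h10' : μ ^ 10 = 1 := by rw [show 10 = 5 * 2 from rfl, pow_mul, h5, one_pow]
    have h16' : μ ^ 16 = μ := by rw [show μ ^ 16 = μ ^ 15 * μ by ring, show μ ^ 15 = (μ ^ 5) ^ 3 by ring, h5]; ring
    linear_combination e22 + (M.1.1 0 2) ^ 4 * h16' - M.1.1 1 2 * (M.1.1 1 2) ^ 4 * h10' -
      M.1.1 1 2 * (M.1.1 1 2) ^ 4 * h2
  let x : HU σ := ⟨(μ ^ 2 * M.1.1 1 2, σ (μ ^ 4 * M.1.1 0 2)), by
    show σ (μ ^ 4 * M.1.1 0 2) + σ (σ (μ ^ 4 * M.1.1 0 2)) = _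
    rw [invol, add_comm]
    exact hb⟩
  refine ⟨h5, x, Subtype.ext (Subtype.ext ?_)⟩
  rw [torus_mul_val]
  have hx1 : σ (fA x) = μ ^ 8 * (M.1.1 1 2) ^ 4 := by
    show σ (μ ^ 2 * M.1.1 1 2) = _
    rw [hσ]; ring
  have hx2 : σ (fB x) = μ ^ 4 * M.1.1 0 2 := invol _
  rw [hx1, hx2]
  have h2 : (2 : F) = 0 := two_zero
  ext i j
  fin_cases i <;> fin_cases j <;> simp [h10, h20, h21, h22, hm11, x, fA, ← hμ] <;>
    first
      | linear_combination M.1.1 0 2 * h5
      | linear_combination M.1.1 1 2 * h5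
      | skip
  have e12' := congrArg σ e12
  rw [map_add, map_mul, map_mul, map_zero, hσ, hσ, hσ, hσ, ← pow_mul (M.1.1 0 1),
    show M.1.1 0 1 ^ (4 * 4) = M.1.1 0 1 by
      rw [show 4 * 4 = Fintype.card F by rw [hF]; norm_num]; exact FiniteField.pow_card _] at e12'
  have h40 : μ ^ 40 = 1 := by rw [show 40 = 5 * 8 from rfl, pow_mul, h5, one_pow]
  linear_combination μ * e12' - M.1.1 1 2 ^ 4 * μ ^ 9 * h40 - M.1.1 0 1 * h5 - M.1.1 0 1 * h2

variable [DecidableEq F]

theorem card_cent (hcard : Nat.card (HU σ) = 64) :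
    Nat.card (Subgroup.centralizer ({invo hF σ hσ} : Set ↥(UJ hF))) = 320 := by
  let f : {μ : F // μ ^ 5 = 1} × HU σ → Subgroup.centralizer ({invo hF σ hσ} : Set ↥(UJ hF)) :=
    fun p => ⟨torus hF p.1.1 p.1.2 * heisHom hF σ hσ p.2,
      mul_mem (torus_mem_cent hF σ hσ _ _) (heis_mem_cent hF σ hσ _)⟩
  have hf : Function.Bijective f := by
    constructor
    · rintro ⟨⟨μ, hμ⟩, x⟩ ⟨⟨ν, hν⟩, y⟩ h
      have h' : (torus hF μ hμ * heisHom hF σ hσ x).1.1 = (torus hF ν hν * heisHom hF σ hσ y).1.1 :=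
        congrArg (fun g : Subgroup.centralizer ({invo hF σ hσ} : Set ↥(UJ hF)) => g.1.1.1) h
      rw [torus_mul_val, torus_mul_val] at h'
      have e00 := congrFun (congrFun h' 0) 0
      have e12 := congrFun (congrFun h' 1) 2
      have e02 := congrFun (congrFun h' 0) 2
      simp at e00 e12 e02
      subst e00
      have hμ0 : μ ≠ 0 := fun h => by rw [h] at hμ; simp at hμ
      refine Prod.ext rfl (ext' ?_ ?_)
      · simpa [hμ0] using e12
      · exact σ.injective (by simpa [hμ0] using e02)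
    · rintro ⟨M, hM⟩
      obtain ⟨h5, x, hx⟩ := decomp hF σ hσ hM
      exact ⟨(⟨_, h5⟩, x), Subtype.ext hx⟩
  rw [← Nat.card_congr (Equiv.ofBijective f hf), Nat.card_prod, hcard]
  have h5 : Nat.card {μ : F // μ ^ 5 = 1} = 5 := by
    have e : {μ : F // μ ^ 5 = 1} ≃ (powMonoidHom 5 : Fˣ →* Fˣ).ker :=
      { toFun := fun μ => ⟨Units.mk0 μ.1 (fun h => by have := μ.2; rw [h] at this; simp at this),
          Units.ext μ.2⟩
        invFun := fun u => ⟨(u.1 : F), by
          have := congrArg Units.val (show u.1 ^ 5 = 1 from u.2)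
          simpa using this⟩
        left_inv := fun μ => rfl
        right_inv := fun u => Subtype.ext (Units.ext rfl) }
    rw [Nat.card_congr e, IsCyclic.card_powMonoidHom_ker, Nat.card_units, Nat.card_eq_fintype_card, hF]
    norm_num
  rw [h5]

theorem commutator_cent (hne : ∃ c : F, σ c ≠ c) (hμ : ∃ μ : F, μ ^ 5 = 1 ∧ μ ≠ 1) :
    ∃ e : HU σ ≃* ↥(commutator (Subgroup.centralizer ({invo hF σ hσ} : Set ↥(UJ hF)))), True := by
  set C := Subgroup.centralizer ({invo hF σ hσ} : Set ↥(UJ hF)) with hC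
  let h₁ : HU σ →* C := (heisHom hF σ hσ).codRestrict C (heis_mem_cent hF σ hσ)
  have hinj : Function.Injective h₁ := by
    intro x y h
    have h' : heisMat σ x = heisMat σ y := congrArg (fun g : C => g.1.1.1) h
    have a := congrFun (congrFun h' 1) 2
    have b := congrFun (congrFun h' 0) 2
    simp [heisMat] at a b
    exact ext' a (σ.injective b)
  let d : C →* F :=
    { toFun := fun M => M.1.1.1 0 0
      map_one' := rfl
      map_mul' := fun M N => by
        obtain ⟨n10, n20, -, -⟩ := shape hF σ hσ N.2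
        show (M.1.1.1 * N.1.1.1) 0 0 = _
        simp [Matrix.mul_apply, Fin.sum_univ_three, n10, n20] }
  have hle : commutator C ≤ h₁.range := by
    rw [_root_.commutator_def, Subgroup.commutator_le]
    intro M _ N _
    have hd : d ⁅M, N⁆ = 1 := by
      rw [commutatorElement_def, map_mul, map_mul, map_mul, mul_comm (d M) (d N), mul_assoc (d N),
        ← map_mul, mul_inv_cancel, map_one, mul_one, ← map_mul, mul_inv_cancel, map_one]
    obtain ⟨h5, x, hx⟩ := decomp hF σ hσ (⁅M, N⁆ : C).2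
    refine ⟨x, Subtype.ext ?_⟩
    have e1 : torus hF ((⁅M, N⁆ : C).1.1.1 0 0) h5 = 1 := by
      refine Subtype.ext (Subtype.ext ?_)
      show !![(⁅M, N⁆ : C).1.1.1 0 0, 0, 0; 0, _, 0; 0, 0, _] = (1 : Matrix (Fin 3) (Fin 3) F)
      rw [show (⁅M, N⁆ : C).1.1.1 0 0 = 1 from hd]
      ext i j
      fin_cases i <;> fin_cases j <;> simp
    rw [e1, one_mul] at hx
    exact hx
  have hge : h₁.range ≤ commutator C := by
    obtain ⟨μ, hμ5, hμ1⟩ := hμ
    let τ : C := ⟨torus hF μ hμ5, torus_mem_cent hF σ hσ μ hμ5⟩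
    have hzero : ∀ x : HU σ, fA x = 0 → h₁ x ∈ commutator C := by
      intro x hx
      have hm : x ∈ commutator (HU σ) := by
        rw [commutator_eq_center hne]; exact (SU3TwoHeis.mem_center_iff hne x).2 hx
      have := Subgroup.mem_map_of_mem h₁ hm
      rw [_root_.commutator_def, Subgroup.map_commutator] at this
      exact Subgroup.commutator_mono le_top le_top this
    rintro _ ⟨x, rfl⟩
    have hc2 : μ ^ 2 + 1 ≠ 0 := by
      intro h
      have h2 : (2 : F) = 0 := two_zero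
      have : (μ + 1) ^ 2 = 0 := by linear_combination h + μ * h2
      have hμ' : μ = 1 := by
        have := pow_eq_zero_iff two_ne_zero |>.1 this
        linear_combination this - h2
      exact hμ1 hμ'
    obtain ⟨y, hy⟩ := exists_fA hne (fA x * (μ ^ 2 + 1)⁻¹)
    -- `y'` is the conjugate of `y`
    let y' : HU σ := ⟨(μ ^ 2 * fA y, fB y), by
      show fB y + σ (fB y) = μ ^ 2 * fA y * σ (μ ^ 2 * fA y)
      rw [rel y, map_mul, hσ (μ ^ 2)]
      linear_combination (-(fA y * σ (fA y)) * (μ ^ 5 + 1)) * hμ5⟩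
    have hy' : τ * h₁ y = h₁ y' * τ := by
      refine Subtype.ext (Subtype.ext (Subtype.ext ?_))
      show (torus hF μ hμ5 * heisHom hF σ hσ y).1.1 = heisMat σ y' * !![μ, 0, 0; 0, μ ^ 3, 0; 0, 0, μ]
      rw [torus_mul_val]
      have h8 : μ ^ 8 = μ ^ 3 := by linear_combination μ ^ 3 * hμ5
      ext i j
      fin_cases i <;> fin_cases j <;>
        simp [heisMat, Matrix.mul_apply, Fin.sum_univ_three, y', fA, fB, map_mul, hσ (μ ^ 2)]
      all_goals first
        | ring1
        | linear_combination (-(μ * σ y.1.1) * (μ ^ 5 + 1)) * hμ5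
        | linear_combination (-(μ * σ y.1.1) * (μ ^ 5 + 1) * hμ5)
    have hcm : h₁ (y' * y⁻¹) ∈ commutator C := by
      have e : ⁅τ, h₁ y⁆ = h₁ (y' * y⁻¹) := by
        rw [commutatorElement_def, hy', mul_inv_cancel_right, map_mul, map_inv]
      rw [← e]
      exact Subgroup.commutator_mem_commutator (Subgroup.mem_top _) (Subgroup.mem_top _)
    have hrest : h₁ ((y' * y⁻¹)⁻¹ * x) ∈ commutator C := hzero _ (by
      simp only [fA_mul, fA_inv]
      show μ ^ 2 * fA y + fA y + fA x = 0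
      rw [hy]
      have := mul_inv_cancel₀ hc2
      linear_combination fA x * this + fA x * two_zero (K := F))
    have := mul_mem hcm hrest
    rwa [← map_mul, mul_inv_cancel_left] at this
  exact ⟨(MonoidHom.ofInjective hinj).trans (MulEquiv.subgroupCongr (le_antisymm hge hle)), trivial⟩

end Centralizer


/-- A finite group of order 320 whose derived subgroup has order 64 and has centre a Klein four-group is isomorphic to the centralizer of an involution in PSU₃(4). -/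
theorem result {G : Type*} [Group G] [Finite G] (hG : Nat.card G = 320) (hD : Nat.card (commutator G) = 64)
    (hZ : IsKleinFour (Subgroup.center (commutator G)))
    {F : Type*} [Field F] [Fintype F] (hF : Fintype.card F = 16) :
    ∃ t : Cfsg.PSU 3 F 4, orderOf t = 2 ∧ Nonempty (G ≃* Subgroup.centralizer ({t} : Set (Cfsg.PSU 3 F 4))) := by
  classical
  have hF2 : Fintype.card F = 4 ^ 2 := by rw [hF]; norm_num
  obtain ⟨_, σ, _, hσ', hne, hk, hcard, -, -⟩ := SU3TwoHeisEmbed.exists_model (F := F) (n := 2)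
    (by norm_num) (by rw [hF]; norm_num)
  have hσ : ∀ x, σ x = x ^ 4 := fun x => (hσ' x).trans (by norm_num)
  have hcard' : Nat.card (HU σ) = 64 := hcard.trans (by norm_num)
  obtain ⟨E⟩ := exists_equiv hF2 σ hσ hne
  refine ⟨E (invo hF2 σ hσ), ?_, ?_⟩
  · rw [MulEquiv.orderOf_eq, orderOf_invo]
  -- the centraliser in the model
  set C := Subgroup.centralizer ({invo hF2 σ hσ} : Set ↥(UJ hF2)) with hC
  have hC320 : Nat.card C = 320 := card_cent hF2 σ hσ hcard'
  have hμ : ∃ μ : F, μ ^ 5 = 1 ∧ μ ≠ 1 := by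
    haveI : Fact (Nat.Prime 5) := ⟨by norm_num⟩
    obtain ⟨u, hu⟩ := exists_prime_orderOf_dvd_card' (G := Fˣ) 5
      (by rw [Nat.card_units, Nat.card_eq_fintype_card, hF]; norm_num)
    refine ⟨(u : F), ?_, fun h => ?_⟩
    · rw [← Units.val_pow_eq_pow_val, ← hu, pow_orderOf_eq_one, Units.val_one]
    · rw [Units.val_eq_one] at h
      rw [h, orderOf_one] at hu
      norm_num at hu
  obtain ⟨e, -⟩ := commutator_cent hF2 σ hσ hne hμ
  have hC64 : Nat.card (commutator C) = 64 := (Nat.card_congr e.toEquiv).symm.trans hcard'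
  have hKlein : IsKleinFour (Subgroup.center (commutator C)) := by
    have hc4 : Nat.card (Subgroup.center (HU σ)) = 4 :=
      (Nat.card_congr (centerEquiv hne)).trans (hk.trans (by norm_num))
    haveI hsrc : IsKleinFour (Subgroup.center (HU σ)) := by
      refine ⟨hc4, le_antisymm (Nat.le_of_dvd two_pos (Monoid.exponent_dvd_of_forall_pow_eq_one
        fun x => ?_)) ?_⟩
      · rw [pow_two]
        exact Subtype.ext ((sq_eq_one_iff _).2 ((SU3TwoHeis.mem_center_iff hne _).1 x.2))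
      · by_contra h
        have h1 : Monoid.exponent (Subgroup.center (HU σ)) ≤ 1 := by omega
        haveI : Finite (Subgroup.center (HU σ)) := Nat.finite_of_card_ne_zero (by rw [hc4]; norm_num)
        have h0 := Monoid.ExponentExists.of_finite.exponent_pos (G := Subgroup.center (HU σ))
        have := Monoid.exp_eq_one_iff.1 (le_antisymm h1 h0)
        have := Nat.card_unique (α := Subgroup.center (HU σ))
        omega
    refine ⟨(Nat.card_congr (Subgroup.centerCongr e).toEquiv).symm.trans hc4, ?_⟩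
    rw [← Monoid.exponent_eq_of_mulEquiv (Subgroup.centerCongr e)]
    exact hsrc.exponent_two
  obtain ⟨i⟩ := Order320Unique65.nonempty_equiv hG hD hZ hC320 hC64 hKlein
  have hmap : C.map E.toMonoidHom = Subgroup.centralizer ({E (invo hF2 σ hσ)} : Set (Cfsg.PSU 3 F 4)) := by
    ext y
    rw [Subgroup.mem_map_equiv, Subgroup.mem_centralizer_singleton_iff,
      Subgroup.mem_centralizer_singleton_iff]
    constructor
    · intro h
      have := congrArg E h
      simpa [map_mul] using this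
    · intro h
      apply E.injective
      simpa [map_mul] using h
  exact ⟨i.trans ((E.subgroupMap C).trans (MulEquiv.subgroupCongr hmap))⟩

end Cfsg.Agent.S1903
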