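import Cfsg.Statements.S1904
import Cfsg.Agent.Lib.NoE8Moving20
-- import your own Cfsg.Agent.* helpers here

set_option autoImplicit false
open Cfsg

namespace Cfsg.Agent.S1904

open Cfsg.Agent.NoE8Base20 Cfsg.Agent.NoE8Central20 Cfsg.Agent.NoE8Moving20

/-- Let X be a finite nonabelian 2-group with no normal abelian subgroup that is self-centralizing and contains an elementary abelian subgroup of order 8. Suppose a group A of automorphisms of X of odd order satisfies [X, A] = X. Then X is the quaternion group of order 8, or X is special of order 64 with exactly three involutions, all central, or X is extraspecial of order 32 with exactly eleven involutions (the central product of a quaternion group and a dihedral group of order 8). -/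
theorem result {X : Type*} [Group X] [Finite X] (hX : IsPGroup 2 X) (hna : ¬ IsMulCommutative X)
    (hscn : ¬ ∃ A : Subgroup X, A.Normal ∧ Subgroup.centralizer (A : Set X) = A ∧
      ∃ E : Subgroup X, E ≤ A ∧ Cfsg.IsElementaryAbelian 2 E ∧ Nat.card E = 8)
    (A : Subgroup (MulAut X)) (hA : Odd (Nat.card A))
    (hXA : Subgroup.closure {g : X | ∃ φ ∈ A, ∃ x : X, g = x⁻¹ * φ x} = ⊤) :
    Nonempty (X ≃* QuaternionGroup 2) ∨
      (Cfsg.IsSpecial 2 X ∧ Nat.card X = 64 ∧ Nat.card {x : X // orderOf x = 2} = 3 ∧
        ∀ x : X, orderOf x = 2 → x ∈ Subgroup.center X) ∨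
      (Cfsg.IsExtraspecial 2 X ∧ Nat.card X = 32 ∧ Nat.card {x : X // orderOf x = 2} = 11) := by
  have h := NoE8Base20.hyp_of hX hna hscn A hA hXA
  obtain ⟨K⟩ := exists_crit h
  by_cases hfix : ∀ φ ∈ A, ∀ a ∈ K.E, φ a = a
  · have F := fixed_case h K hfix
    rcases K.card with hE | hE
    · rcases two_case F h hE with q | q
      · exact Or.inl q
      · exact Or.inr (Or.inr q)
    · exact Or.inr (Or.inl (four_case F h hE))
  · push Not at hfix
    obtain ⟨φ, hφ, e, he, hmov⟩ := hfix
    obtain ⟨F⟩ := exists_frame h K hφ he hmov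
    exact Or.inr (Or.inl (moving_case F))
end Cfsg.Agent.S1904
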