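import Cfsg.Statements.S1905
import Cfsg.Agent.Lib.SignalizerStrongEmb

set_option autoImplicit false
set_option linter.style.haveILetI false
open Cfsg

namespace Cfsg.Agent.S1905

/-- Let M be a subgroup of even order of a finite group S such that M contains the centralizer in S of each of its involutions and the normal core of M in S has odd order. Then all involutions of S are conjugate. If moreover N_S(X) ≤ M for a Sylow 2-subgroup X of M and I is an involution in the centre of X, then all involutions of M are conjugate in M and M = M₀ C_M(I) for some subgroup M₀ of M of odd order. -/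
theorem result {S : Type*} [Group S] [Finite S] (M : Subgroup S) (hM : Even (Nat.card M))
    (hC : ∀ i ∈ M, orderOf i = 2 → Subgroup.centralizer ({i} : Set S) ≤ M) (hcore : Odd (Nat.card M.normalCore)) :
    (∀ x y : S, orderOf x = 2 → orderOf y = 2 → IsConj x y) ∧
      ∀ (X : Sylow 2 M) (I : M), I ∈ (Subgroup.center ↥(X : Subgroup ↥M)).map (X : Subgroup ↥M).subtype → orderOf I = 2 →
        Subgroup.normalizer (((X : Subgroup M).map M.subtype : Subgroup S) : Set S) ≤ M →
        (∀ x y : M, orderOf x = 2 → orderOf y = 2 → IsConj x y) ∧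
          ∃ M₀ : Subgroup M, Odd (Nat.card M₀) ∧
            ∀ m : M, ∃ a ∈ M₀, ∃ c ∈ Subgroup.centralizer ({I} : Set M), m = a * c := by
  classical
  haveI : Fact (Nat.Prime 2) := ⟨Nat.prime_two⟩
  have hmem : ∀ t ∈ M, orderOf t = 2 → ∀ c : S, c * t = t * c → c ∈ M := fun t htM ht c hc =>
    hC t htM ht (Subgroup.mem_centralizer_singleton_iff.2 hc)
  have key : ∀ t ∈ M, orderOf t = 2 → ∀ u, u ∉ M → orderOf u = 2 → IsConj t u := by
    intro t htM ht u huM hu
    by_contra hne
    rcases Nat.even_or_odd (orderOf (t * u)) with he | ho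
    · obtain ⟨w, -, hw2, htw, huw⟩ := SignalizerStrongEmb.exists_commuting_of_even ht hu he
      exact huM (hmem w (hmem t htM ht w htw.symm) hw2 u huw)
    · obtain ⟨w, -, hw⟩ := SignalizerStrongEmb.exists_conj_of_odd ht hu ho
      exact hne (isConj_iff.2 ⟨w, hw⟩)
  obtain ⟨t₀, ht₀M, ht₀⟩ := SignalizerStrongEmb.exists_involution_of_even hM
  have hout : ∃ u, u ∉ M ∧ orderOf u = 2 := by
    by_contra hno
    push Not at hno
    have h1 : Subgroup.normalClosure ({t₀} : Set S) ≤ M := by
      refine (Subgroup.closure_le _).2 ?_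
      intro x hx
      obtain ⟨a, ha, hax⟩ := Group.mem_conjugatesOfSet_iff.1 hx
      rw [Set.mem_singleton_iff] at ha
      subst ha
      obtain ⟨g, hg⟩ := isConj_iff.1 hax
      by_contra hxM
      exact hno x hxM (by rw [← hg, SignalizerStrongEmb.orderOf_conj, ht₀])
    have h2 : t₀ ∈ M.normalCore := Subgroup.normal_le_normalCore.2 h1
      (Subgroup.subset_normalClosure (Set.mem_singleton t₀))
    exact (Nat.not_even_iff_odd.2 hcore)
      (SignalizerStrongEmb.even_card_of_involution_mem ht₀ h2)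
  obtain ⟨u, huM, hu⟩ := hout
  have hall : ∀ x y : S, orderOf x = 2 → orderOf y = 2 → IsConj x y := by
    have h1 : ∀ x : S, orderOf x = 2 → IsConj t₀ x := fun x hx => by
      by_cases hxM : x ∈ M
      · exact (key t₀ ht₀M ht₀ u huM hu).trans (key x hxM hx u huM hu).symm
      · exact key t₀ ht₀M ht₀ x hxM hx
    exact fun x y hx hy => (h1 x hx).symm.trans (h1 y hy)
  refine ⟨hall, fun X I hI hIord hN => ?_⟩
  obtain ⟨z, hz, hzI⟩ := hI
  subst hzI
  have hzc : ∀ x ∈ (X : Subgroup M), x * z.1 = z.1 * x := fun x hx =>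
    congrArg Subtype.val (Subgroup.mem_center_iff.1 hz ⟨x, hx⟩)
  set I : M := z.1 with hIdef
  have hIS : orderOf (I : S) = 2 := by rw [Subgroup.orderOf_coe]; exact hIord
  have hsyl : ∀ t : M, orderOf t = 2 → ∃ m : M, m * t * m⁻¹ ∈ (X : Subgroup M) := by
    intro t ht
    have hp : IsPGroup 2 ↥(Subgroup.zpowers t) :=
      IsPGroup.of_card (n := 1) (by rw [Nat.card_zpowers, ht, pow_one])
    obtain ⟨P, hP⟩ := hp.exists_le_sylow
    obtain ⟨m, hm⟩ := MulAction.exists_smul_eq M P X
    refine ⟨m, ?_⟩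
    rw [← hm, Sylow.coe_subgroup_smul]
    exact ⟨t, hP (Subgroup.mem_zpowers t), rfl⟩
  have hmain : ∀ t : M, t ∈ (X : Subgroup M) → orderOf t = 2 → ∀ g : S,
      g * (t : S) * g⁻¹ ∈ M → g ∈ M := by
    intro t htX ht g hg
    set X₀ := (X : Subgroup M).map M.subtype with hX₀
    have hz1 : g * (I : S) * g⁻¹ ∈ M := by
      refine hmem _ hg (by rw [SignalizerStrongEmb.orderOf_conj, Subgroup.orderOf_coe, ht]) _ ?_
      have h := congrArg (Subtype.val : M → S) (hzc t htX)
      simp only [Subgroup.coe_mul] at h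
      calc g * (I : S) * g⁻¹ * (g * t * g⁻¹) = g * ((I : S) * t) * g⁻¹ := by group
        _ = g * ((t : S) * I) * g⁻¹ := by rw [h]
        _ = _ := by group
    have hle : ∀ x ∈ X₀, g * x * g⁻¹ ∈ M := by
      rintro _ ⟨x, hx, rfl⟩
      refine hmem _ hz1 (by rw [SignalizerStrongEmb.orderOf_conj, hIS]) _ ?_
      have h := congrArg (Subtype.val : M → S) (hzc x hx)
      simp only [Subgroup.coe_mul] at h
      show g * (x : S) * g⁻¹ * (g * I * g⁻¹) = g * I * g⁻¹ * (g * (x : S) * g⁻¹)
      calc g * (x : S) * g⁻¹ * (g * I * g⁻¹) = g * ((x : S) * I) * g⁻¹ := by group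
        _ = g * ((I : S) * x) * g⁻¹ := by rw [h]
        _ = _ := by group
    set Q : Subgroup M := (X₀.map (MulAut.conj g).toMonoidHom).subgroupOf M with hQ
    have hQle : X₀.map (MulAut.conj g).toMonoidHom ≤ M := by
      rintro _ ⟨x, hx, rfl⟩
      exact hle x hx
    have hQcard : Nat.card Q = Nat.card (X : Subgroup M) := by
      rw [hQ, Nat.card_congr (Subgroup.subgroupOfEquivOfLe hQle).toEquiv,
        Subgroup.card_map_of_injective (MulAut.conj g).injective,
        Subgroup.card_map_of_injective M.subtype_injective]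
    obtain ⟨P, hP⟩ := (IsPGroup.of_card (p := 2) (G := ↥Q)
      (n := (Nat.card M).factorization 2) (by rw [hQcard]; exact X.card_eq_multiplicity)).exists_le_sylow
    obtain ⟨m, hm⟩ := MulAction.exists_smul_eq M P X
    have hgm : (m : S) * g ∈ Subgroup.normalizer (X₀ : Set S) := by
      have himg : X₀.map (MulAut.conj ((m : S) * g)).toMonoidHom ≤ X₀ := by
        rintro _ ⟨x, hx, rfl⟩
        have h1 : (⟨g * x * g⁻¹, hle x hx⟩ : M) ∈ Q :=
          Subgroup.mem_subgroupOf.2 ⟨x, hx, rfl⟩
        have h2 : m * ⟨g * x * g⁻¹, hle x hx⟩ * m⁻¹ ∈ (X : Subgroup M) := by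
          rw [← hm, Sylow.coe_subgroup_smul]
          exact ⟨_, hP h1, rfl⟩
        refine ⟨_, h2, ?_⟩
        show (m : S) * (g * x * g⁻¹) * (m : S)⁻¹ = (m : S) * g * x * ((m : S) * g)⁻¹
        group
      have heq : X₀.map (MulAut.conj ((m : S) * g)).toMonoidHom = X₀ :=
        Subgroup.eq_of_le_of_card_ge himg
          (le_of_eq (Nat.card_congr (X₀.equivMapOfInjective (MulAut.conj ((m : S) * g)).toMonoidHom
            (MulAut.conj ((m : S) * g)).injective).toEquiv))
      rw [Subgroup.mem_normalizer_iff]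
      intro x
      constructor
      · intro hx
        exact heq.le ⟨x, hx, rfl⟩
      · intro hx
        obtain ⟨y, hy, hyx⟩ := heq.ge hx
        have : y = x := (MulAut.conj ((m : S) * g)).injective hyx
        exact this ▸ hy
    have := mul_mem (inv_mem m.2) (hN hgm)
    rwa [inv_mul_cancel_left] at this
  have hH : Cfsg.IsStronglyEmbedded M := by
    refine SignalizerStrongEmb.isStronglyEmbedded_iff.2 ⟨fun h => huM (h ▸ Subgroup.mem_top u), hM, ?_⟩
    intro t htM ht g hg
    obtain ⟨m, hm⟩ := hsyl ⟨t, htM⟩ (by rw [Subgroup.orderOf_mk]; exact ht)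
    have h1 := hmain _ hm (by
      rw [SignalizerStrongEmb.orderOf_conj, Subgroup.orderOf_mk]; exact ht) (g * (m : S)⁻¹) (by
      show g * (m : S)⁻¹ * ((m : S) * t * (m : S)⁻¹) * (g * (m : S)⁻¹)⁻¹ ∈ M
      convert hg using 1
      group)
    have := mul_mem h1 m.2
    rwa [inv_mul_cancel_right] at this
  refine ⟨fun x y hx hy => ?_, ?_⟩
  · obtain ⟨h, hh, he⟩ := SignalizerStrongEmb.IsStronglyEmbedded.conj_in hH x.2 y.2
      (by rw [Subgroup.orderOf_coe]; exact hx)
      (hall _ _ (by rw [Subgroup.orderOf_coe]; exact hx) (by rw [Subgroup.orderOf_coe]; exact hy))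
    exact isConj_iff.2 ⟨⟨h, hh⟩, Subtype.ext he⟩
  · refine ⟨(M ⊓ M.map (MulAut.conj u).toMonoidHom).subgroupOf M, ?_, fun m => ?_⟩
    · rw [Nat.card_congr (Subgroup.subgroupOfEquivOfLe inf_le_left).toEquiv]
      exact hH.2.2 u huM
    · obtain ⟨d, hd, he⟩ := SignalizerStrongEmb.exists_conj_in_inf hH hu huM hIS I.2
        (t := (m : S) * I * (m : S)⁻¹) (by rw [SignalizerStrongEmb.orderOf_conj, hIS])
        (mul_mem (mul_mem m.2 I.2) (inv_mem m.2))
      have hdM : d ∈ M := (Subgroup.mem_inf.1 hd).1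
      refine ⟨⟨d, hdM⟩, Subgroup.mem_subgroupOf.2 hd, ⟨d, hdM⟩⁻¹ * m, ?_, (mul_inv_cancel_left _ _).symm⟩
      rw [Subgroup.mem_centralizer_singleton_iff]
      apply Subtype.ext
      show d⁻¹ * (m : S) * I = (I : S) * (d⁻¹ * (m : S))
      calc d⁻¹ * (m : S) * I = d⁻¹ * ((m : S) * I * (m : S)⁻¹) * m := by group
        _ = d⁻¹ * (d * I * d⁻¹) * m := by rw [he]
        _ = _ := by group

end Cfsg.Agent.S1905
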