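import Mathlib
import Cfsg.Statements.S1906
import Cfsg.Agent.Lib.PGroupsBasic
-- import your own Cfsg.Agent.* helpers here

set_option autoImplicit false
open Cfsg

namespace Cfsg.Agent.S1906

section linear

variable {F : Type*} [Field F]

/-- The joint sign eigenvectors of commuting involutory matrices span. -/
theorem span_sign_eq_top (h2 : (2 : F) ≠ 0) (B : Subgroup (GL (Fin 3) F))
    (hc : ∀ a ∈ B, ∀ b ∈ B, a * b = b * a) (hi : ∀ a ∈ B, a * a = 1) (s : Finset (GL (Fin 3) F)) :
    (∀ b ∈ s, b ∈ B) → Submodule.span F {v : Fin 3 → F | ∀ b ∈ s,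
      Matrix.mulVec (b : Matrix (Fin 3) (Fin 3) F) v = v ∨
      Matrix.mulVec (b : Matrix (Fin 3) (Fin 3) F) v = -v} = ⊤ := by
  classical
  induction s using Finset.induction_on with
  | empty => intro _; simp
  | insert a s ha ih =>
    intro hs
    rw [eq_top_iff, ← ih (fun b hb => hs b (Finset.mem_insert_of_mem hb)), Submodule.span_le]
    intro v hv
    set A := (a : Matrix (Fin 3) (Fin 3) F)
    have hAA : ∀ u, A.mulVec (A.mulVec u) = u := fun u => by
      rw [Matrix.mulVec_mulVec, ← Units.val_mul, hi a (hs a (Finset.mem_insert_self ..)), Units.val_one,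
        Matrix.one_mulVec]
    have hcom : ∀ b ∈ s, ∀ u, (b : Matrix (Fin 3) (Fin 3) F).mulVec (A.mulVec u)
        = A.mulVec ((b : Matrix (Fin 3) (Fin 3) F).mulVec u) := fun b hb u => by
      rw [Matrix.mulVec_mulVec, Matrix.mulVec_mulVec, ← Units.val_mul, ← Units.val_mul,
        hc b (hs b (Finset.mem_insert_of_mem hb)) a (hs a (Finset.mem_insert_self ..))]
    have h1 : v + A.mulVec v ∈ Submodule.span F {v : Fin 3 → F | ∀ b ∈ insert a s,
        Matrix.mulVec (b : Matrix (Fin 3) (Fin 3) F) v = v ∨
        Matrix.mulVec (b : Matrix (Fin 3) (Fin 3) F) v = -v} := by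
      refine Submodule.subset_span fun b hb => ?_
      rcases Finset.mem_insert.1 hb with rfl | hb
      · exact Or.inl (by rw [Matrix.mulVec_add, hAA, add_comm])
      · rcases hv b hb with h | h
        · exact Or.inl (by rw [Matrix.mulVec_add, hcom b hb, h])
        · exact Or.inr (by rw [Matrix.mulVec_add, hcom b hb, h, Matrix.mulVec_neg, neg_add])
    have h3 : v - A.mulVec v ∈ Submodule.span F {v : Fin 3 → F | ∀ b ∈ insert a s,
        Matrix.mulVec (b : Matrix (Fin 3) (Fin 3) F) v = v ∨
        Matrix.mulVec (b : Matrix (Fin 3) (Fin 3) F) v = -v} := by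
      refine Submodule.subset_span fun b hb => ?_
      rcases Finset.mem_insert.1 hb with rfl | hb
      · exact Or.inr (by rw [Matrix.mulVec_sub, hAA, neg_sub])
      · rcases hv b hb with h | h
        · exact Or.inl (by rw [Matrix.mulVec_sub, hcom b hb, h])
        · exact Or.inr (by
            rw [Matrix.mulVec_sub, hcom b hb, h, Matrix.mulVec_neg]
            abel)
    have h4 := Submodule.smul_mem _ (2 : F)⁻¹ (Submodule.add_mem _ h1 h3)
    rwa [add_add_sub_cancel, ← two_smul F v, smul_smul, inv_mul_cancel₀ h2, one_smul] at h4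

/-- An elementary abelian `2`-subgroup of `GL₃` has order at most `8`, and if it has order `8` its
centralizer is commutative. -/
theorem elementary_bound [Fintype F] (h2 : (2 : F) ≠ 0) (B : Subgroup (GL (Fin 3) F))
    (hc : ∀ a ∈ B, ∀ b ∈ B, a * b = b * a) (hi : ∀ a ∈ B, a * a = 1) :
    Nat.card B ≤ 8 ∧ (Nat.card B = 8 → ∀ c d : GL (Fin 3) F,
      (∀ b ∈ B, c * b = b * c) → (∀ b ∈ B, d * b = b * d) → c * d = d * c) := by
  classical
  haveI := Fintype.ofFinite B
  set S := {v : Fin 3 → F | ∀ b : B,
    Matrix.mulVec ((b : GL (Fin 3) F) : Matrix (Fin 3) (Fin 3) F) v = v ∨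
    Matrix.mulVec ((b : GL (Fin 3) F) : Matrix (Fin 3) (Fin 3) F) v = -v} with hS
  have hspan : Submodule.span F S = ⊤ := by
    rw [eq_top_iff, ← span_sign_eq_top h2 B hc hi ((Finset.univ : Finset B).image Subtype.val)
      (fun b hb => by
        obtain ⟨x, -, rfl⟩ := Finset.mem_image.1 hb
        exact x.2)]
    refine Submodule.span_mono fun v hv b => hv b (Finset.mem_image.2 ⟨b, Finset.mem_univ _, rfl⟩)
  let e0 := Module.Basis.ofSpan hspan.ge
  have he0 : ∀ i, e0 i ∈ S := fun i => by
    have := Module.Basis.ofSpan_subset hspan.ge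
    exact this ⟨i, rfl⟩
  let e := e0.reindex (e0.indexEquiv (Pi.basisFun F (Fin 3)))
  have he : ∀ i, e i ∈ S := fun i => by
    rw [Module.Basis.reindex_apply]
    exact he0 _
  have hext : ∀ x y : GL (Fin 3) F, (∀ i, (x : Matrix (Fin 3) (Fin 3) F).mulVec (e i)
      = (y : Matrix (Fin 3) (Fin 3) F).mulVec (e i)) → x = y := by
    intro x y h
    refine Units.ext (Matrix.toLin'.injective (e.ext fun i => ?_))
    simpa using h i
  let sgn : B → Fin 3 → Bool := fun b i =>
    decide (Matrix.mulVec ((b : GL (Fin 3) F) : Matrix (Fin 3) (Fin 3) F) (e i) = e i)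
  have hsgn : ∀ (b : B) i, Matrix.mulVec ((b : GL (Fin 3) F) : Matrix (Fin 3) (Fin 3) F) (e i)
      = (if sgn b i then (1 : F) else -1) • e i := by
    intro b i
    by_cases h : Matrix.mulVec ((b : GL (Fin 3) F) : Matrix (Fin 3) (Fin 3) F) (e i) = e i
    · simp [sgn, h]
    · have h' := (he i b).resolve_left h
      simp only [sgn, h, decide_false, Bool.false_eq_true, if_false]
      rw [h', neg_one_smul]
  have hinj : Function.Injective sgn := fun a b hab =>
    Subtype.ext (hext _ _ fun i => by rw [hsgn, hsgn, hab])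
  have hle := Nat.card_le_card_of_injective sgn hinj
  rw [Nat.card_eq_fintype_card (α := Fin 3 → Bool)] at hle
  simp only [Fintype.card_fun, Fintype.card_bool, Fintype.card_fin] at hle
  refine ⟨by simpa using hle, fun h8 => ?_⟩
  have hsurj : Function.Surjective sgn := ((Fintype.bijective_iff_injective_and_card sgn).2 ⟨hinj, by
    rw [← Nat.card_eq_fintype_card (α := B), h8]
    simp⟩).2
  have hdiag : ∀ c : GL (Fin 3) F, (∀ b ∈ B, c * b = b * c) →
      ∀ i, ∃ l : F, (c : Matrix (Fin 3) (Fin 3) F).mulVec (e i) = l • e i := by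
    intro c hcB i
    refine ⟨e.repr ((c : Matrix (Fin 3) (Fin 3) F).mulVec (e i)) i, e.repr.injective ?_⟩
    ext j
    by_cases hij : j = i
    · subst hij
      simp
    obtain ⟨b, hb⟩ := hsurj (fun k => decide (k = i))
    set w := (c : Matrix (Fin 3) (Fin 3) F).mulVec (e i)
    have hbw : Matrix.mulVec ((b : GL (Fin 3) F) : Matrix (Fin 3) (Fin 3) F) w = w := by
      rw [Matrix.mulVec_mulVec, ← Units.val_mul, ← hcB b b.2, Units.val_mul, ← Matrix.mulVec_mulVec,
        hsgn, hb]
      simp [w]
    have hexp : Matrix.mulVec ((b : GL (Fin 3) F) : Matrix (Fin 3) (Fin 3) F) w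
        = ∑ k, (e.repr w k * if k = i then 1 else -1) • e k := by
      conv_lhs => rw [← e.sum_repr w]
      rw [Matrix.mulVec_sum]
      refine Finset.sum_congr rfl fun k _ => ?_
      rw [Matrix.mulVec_smul, hsgn, hb, smul_smul]
      simp
    have hj := congrArg (fun u => e.repr u j) (hexp.symm.trans hbw)
    simp only [e.repr_sum_self, if_neg hij, mul_neg, mul_one] at hj
    have hz : (2 : F) * e.repr w j = 0 := by linear_combination -hj
    simp [(mul_eq_zero.1 hz).resolve_left h2, hij, Ne.symm hij]
  intro c d hcB hdB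
  refine hext _ _ fun i => ?_
  obtain ⟨l, hl⟩ := hdiag c hcB i
  obtain ⟨m, hm⟩ := hdiag d hdB i
  rw [Units.val_mul, Units.val_mul, ← Matrix.mulVec_mulVec, ← Matrix.mulVec_mulVec, hl, hm,
    Matrix.mulVec_smul, Matrix.mulVec_smul, hl, hm, smul_comm]

end linear

section transfer

open MulAction

variable {G : Type*} [Group G] [Finite G]

/-- Transfer of an involution that is central in a Sylow `2`-subgroup `X`: only the cosets of
`N(X)` contribute. -/
theorem transfer_central_involution (H : Subgroup G) (hHp : IsPGroup 2 H)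
    (hHi : ¬ 2 ∣ H.index) {A : Type*} [CommGroup A]
    (φ : H →* A) (z : H) (hz : z * z = 1)
    (hzc : ∀ x : H, x * z = z * x) (a : A)
    (hN : ∀ n ∈ Subgroup.normalizer (H : Set G), ∀ hm : n⁻¹ * z * n ∈ H,
      φ ⟨_, hm⟩ = a) :
    MonoidHom.transfer φ (z : G) = a ∧ a = φ z := by
  classical
  haveI : Fintype (G ⧸ H) := Fintype.ofFinite _
  haveI : Fintype (Quotient (orbitRel (Subgroup.zpowers (z : G)) (G ⧸ H))) := Fintype.ofFinite _
  have haz : a = φ z := by
    have := hN 1 (Subgroup.one_mem _) (by simpa using z.2)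
    rw [← this]
    simp
  refine ⟨?_, haz⟩
  rw [MonoidHom.transfer_eq_prod_quotient_orbitRel_zpowers_quot]
  let ψ : G ⧸ H → A := fun x =>
    if h : x.out⁻¹ * z * x.out ∈ H then φ ⟨_, h⟩ else 1
  have hfix : ∀ x : G ⧸ H, (z : G) • x = x ↔ x.out⁻¹ * z * x.out ∈ H := by
    intro x
    conv_lhs => rw [← QuotientGroup.out_eq' x, MulAction.Quotient.smul_coe, smul_eq_mul]
    rw [eq_comm, QuotientGroup.eq, mul_assoc]
  have hψ : ∀ g : G, ∀ hm : g⁻¹ * z * g ∈ H, ψ (g : G ⧸ H) = φ ⟨_, hm⟩ := by
    intro g hm
    obtain ⟨h, hg⟩ := QuotientGroup.mk_out_eq_mul H g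
    have e : ((g : G ⧸ H)).out⁻¹ * z * ((g : G ⧸ H)).out = (h : G)⁻¹ * (g⁻¹ * z * g) * h := by
      rw [hg]; group
    have hm' : ((g : G ⧸ H)).out⁻¹ * z * ((g : G ⧸ H)).out ∈ H := by
      rw [e]
      exact H.mul_mem (H.mul_mem (H.inv_mem h.2) hm) h.2
    have e2 : (⟨_, hm'⟩ : H) = h⁻¹ * ⟨_, hm⟩ * h := Subtype.ext e
    simp only [ψ, dif_pos hm']
    rw [e2, map_mul, map_mul, map_inv, mul_right_comm, inv_mul_cancel, one_mul]
  have hψ2 : ∀ x, ψ x * ψ x = 1 := by
    intro x
    simp only [ψ]
    split_ifs with h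
    · rw [← map_mul]
      convert map_one φ
      refine Subtype.ext ?_
      have : (z : G) * z = 1 := congrArg Subtype.val hz
      calc x.out⁻¹ * z * x.out * (x.out⁻¹ * z * x.out) = x.out⁻¹ * ((z : G) * z) * x.out := by group
        _ = 1 := by rw [this]; group
    · simp
  -- only the fixed cosets contribute
  have step1 : (∏ q : Quotient (orbitRel (Subgroup.zpowers (z : G)) (G ⧸ H)),
      φ ⟨q.out.out⁻¹ * (z : G) ^ Function.minimalPeriod ((z : G) • ·) q.out * q.out.out,
        QuotientGroup.out_conj_pow_minimalPeriod_mem H (z : G) q.out⟩) = ∏ x : G ⧸ H, ψ x := by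
    rw [← Finset.prod_fiberwise Finset.univ (Quotient.mk (orbitRel (Subgroup.zpowers (z : G)) (G ⧸ H))) ψ]
    refine Finset.prod_congr rfl fun q _ => ?_
    have hmem : ∀ x : G ⧸ H, Quotient.mk (orbitRel (Subgroup.zpowers (z : G)) (G ⧸ H)) x = q ↔
        x = q.out ∨ x = (z : G) • q.out := by
      intro x
      rw [← Quotient.out_eq q, Quotient.eq, Quotient.out_eq, orbitRel_apply]
      constructor
      · rintro ⟨⟨k, hk⟩, rfl⟩
        obtain ⟨n, rfl⟩ := Subgroup.mem_zpowers_iff.1 hk
        have hz' : (z : G) ^ (2 : ℤ) = 1 := by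
          rw [zpow_two]; exact congrArg Subtype.val hz
        rcases Int.even_or_odd n with ⟨m, rfl⟩ | ⟨m, rfl⟩
        · left
          show (z : G) ^ (m + m) • q.out = q.out
          rw [← two_mul, zpow_mul, hz', one_zpow, one_smul]
        · right
          show (z : G) ^ (2 * m + 1) • q.out = (z : G) • q.out
          rw [zpow_add, zpow_mul, hz', one_zpow, one_mul, zpow_one]
      · rintro (rfl | rfl)
        · exact mem_orbit_self _
        · exact ⟨⟨z, Subgroup.mem_zpowers _⟩, rfl⟩
    have hp2 : Function.IsPeriodicPt ((z : G) • ·) 2 q.out := by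
      show (z : G) • (z : G) • q.out = q.out
      rw [smul_smul, show (z : G) * z = 1 from congrArg Subtype.val hz, one_smul]
    by_cases hq : (z : G) • q.out = q.out
    · have hfil : Finset.univ.filter (fun x => Quotient.mk (orbitRel (Subgroup.zpowers (z : G)) (G ⧸ H)) x = q) = {q.out} := by
        ext x
        simp [hmem, hq]
      have h1 : Function.minimalPeriod ((z : G) • ·) q.out = 1 :=
        Function.minimalPeriod_eq_one_iff_isFixedPt.2 hq
      rw [hfil, Finset.prod_singleton]
      conv_rhs => rw [← QuotientGroup.out_eq' q.out]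
      rw [hψ _ ((hfix _).1 hq)]
      congr 1
      exact Subtype.ext (by simp [h1])
    · have hfil : Finset.univ.filter (fun x => Quotient.mk (orbitRel (Subgroup.zpowers (z : G)) (G ⧸ H)) x = q) =
          {q.out, (z : G) • q.out} := by
        ext x
        simp [hmem]
      have h1 : Function.minimalPeriod ((z : G) • ·) q.out = 2 := by
        rcases (Nat.dvd_prime Nat.prime_two).1 hp2.minimalPeriod_dvd with h | h
        · exact absurd (Function.minimalPeriod_eq_one_iff_isFixedPt.1 h) hq
        · exact h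
      have hz0 : ∀ x : G ⧸ H, (z : G) • x ≠ x → ψ x = 1 := fun x hx => by
        simp only [ψ]
        rw [dif_neg fun h => hx ((hfix x).2 h)]
      rw [hfil, Finset.prod_pair (Ne.symm hq), hz0 _ hq, hz0 _ (fun h => hq (by
        rw [smul_smul, show (z : G) * z = 1 from congrArg Subtype.val hz, one_smul] at h
        exact h.symm)), one_mul]
      convert map_one φ
      have : (z : G) * z = 1 := congrArg Subtype.val hz
      simp [h1, pow_two, this]
  rw [step1]
  -- the action of `X` on the cosets
  haveI : Fintype (Quotient (orbitRel H (G ⧸ H))) := Fintype.ofFinite _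
  have hinv : ∀ (x : H) (y : G ⧸ H), ψ (x • y) = ψ y := by
    intro x y
    induction y using QuotientGroup.induction_on with
    | _ g =>
      have hxz : (x : G)⁻¹ * z * x = z := by
        have := congrArg Subtype.val (hzc x)
        simp only [Subgroup.coe_mul] at this
        rw [mul_assoc, ← this]
        group
      have e : ((x : G) * g)⁻¹ * z * ((x : G) * g) = g⁻¹ * z * g := by
        calc ((x : G) * g)⁻¹ * z * ((x : G) * g) = g⁻¹ * ((x : G)⁻¹ * z * x) * g := by group
          _ = _ := by rw [hxz]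
      show ψ (((x : G) * g : G) : G ⧸ H) = ψ (g : G ⧸ H)
      by_cases hm : g⁻¹ * z * g ∈ H
      · rw [hψ g hm, hψ _ (by rw [e]; exact hm)]
        congr 1
        exact Subtype.ext e
      · have h0 : ∀ k : G, k⁻¹ * z * k ∉ H → ψ (k : G ⧸ H) = 1 := by
          intro k hk
          simp only [ψ]
          rw [dif_neg]
          intro h
          obtain ⟨u, hu⟩ := QuotientGroup.mk_out_eq_mul H k
          refine hk ?_
          rw [hu] at h
          have := H.mul_mem (H.mul_mem u.2 h) (H.inv_mem u.2)
          simpa [mul_assoc] using this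
        rw [h0 g hm, h0 _ (by rw [e]; exact hm)]
  rw [← Finset.prod_filter_mul_prod_filter_not Finset.univ (fun y => y ∈ fixedPoints H (G ⧸ H))]
  have hrest : ∏ y ∈ Finset.univ.filter (fun y => y ∉ fixedPoints H (G ⧸ H)), ψ y = 1 := by
    rw [← Finset.prod_fiberwise _ (Quotient.mk (orbitRel H (G ⧸ H))) ψ]
    refine Finset.prod_eq_one fun q _ => ?_
    by_cases hq : q.out ∈ fixedPoints H (G ⧸ H)
    · refine Finset.prod_eq_one fun y hy => absurd ?_ (Finset.mem_filter.1 (Finset.mem_filter.1 hy).1).2
      have hy' := (Finset.mem_filter.1 hy).2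
      rw [← Quotient.out_eq q, Quotient.eq, orbitRel_apply] at hy'
      obtain ⟨x, rfl⟩ := hy'
      simp only [hq x]
      exact hq
    · have hall : (Finset.univ.filter (fun y => y ∉ fixedPoints H (G ⧸ H))).filter
          (fun y => Quotient.mk (orbitRel H (G ⧸ H)) y = q) = (orbit H q.out).toFinset := by
        ext y
        simp only [Finset.mem_filter, Finset.mem_univ, true_and, Set.mem_toFinset]
        rw [← Quotient.out_eq q, Quotient.eq, Quotient.out_eq, orbitRel_apply]
        refine ⟨fun h => h.2, fun h => ⟨fun hy => hq ?_, h⟩⟩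
        obtain ⟨x, rfl⟩ := h
        have h1 := hy x⁻¹
        rw [inv_smul_smul] at h1
        rw [h1]
        exact hy
      have hcongr : ∀ y ∈ (orbit H q.out).toFinset, ψ y = ψ q.out := fun y hy => by
        obtain ⟨x, rfl⟩ := Set.mem_toFinset.1 hy
        exact hinv x _
      rw [hall, Finset.prod_congr rfl hcongr, Finset.prod_const, Set.toFinset_card]
      obtain ⟨k, hk⟩ := hHp.card_orbit q.out
      have hev : 2 ∣ Fintype.card (orbit H q.out) := by
        rw [Nat.card_eq_fintype_card] at hk
        rw [hk]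
        refine dvd_pow_self 2 ?_
        rintro rfl
        refine hq fun x => ?_
        rw [pow_zero, Fintype.card_eq_one_iff] at hk
        obtain ⟨w, hw⟩ := hk
        exact (congrArg Subtype.val ((hw ⟨_, mem_orbit q.out x⟩).trans (hw ⟨_, mem_orbit_self q.out⟩).symm))
      obtain ⟨m, hm⟩ := hev
      rw [hm, pow_mul, pow_two, hψ2, one_pow]
  rw [hrest, mul_one]
  have hfx : ∀ y ∈ Finset.univ.filter (fun y => y ∈ fixedPoints H (G ⧸ H)), ψ y = a := by
    intro y hy
    have hy' := (Finset.mem_filter.1 hy).2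
    induction y using QuotientGroup.induction_on with
    | _ g =>
      have hn : g ∈ Subgroup.normalizer (H : Set G) :=
        Sylow.mem_fixedPoints_mul_left_cosets_iff_mem_normalizer.1 hy'
      have hm : g⁻¹ * z * g ∈ H := (Subgroup.mem_normalizer_iff.1 hn _).2 (by
        simp [mul_assoc])
      rw [hψ g hm]
      exact hN g hn hm
  rw [Finset.prod_congr rfl hfx, Finset.prod_const]
  have hodd : Odd (Finset.univ.filter (fun y => y ∈ fixedPoints H (G ⧸ H))).card := by
    rw [← Fintype.card_subtype, ← Nat.card_eq_fintype_card,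
      Nat.card_congr (Sylow.fixedPointsMulLeftCosetsEquivQuotient H)]
    rw [Nat.odd_iff, ← Nat.two_dvd_ne_zero]
    intro h2
    have h3 : (H.subgroupOf (Subgroup.normalizer (H : Set G))).index ∣ H.index :=
      Subgroup.relIndex_dvd_index_of_le Subgroup.le_normalizer
    exact hHi (h2.trans h3)
  obtain ⟨m, hm⟩ := hodd
  rw [hm, pow_succ, pow_mul, pow_two, haz, ← map_mul, hz, map_one, one_pow, one_mul]

end transfer

theorem main {G : Type*} [Group G] [Finite G] (hG : ∀ H : Subgroup G, H.index ≠ 2) (H : Subgroup G)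
    (hXp : IsPGroup 2 H) (hXi : ¬ 2 ∣ H.index)
    {F : Type*} [Field F] [Fintype F] (hF : Odd (Fintype.card F))
    (f : ↥H →* GL (Fin 3) F) (hf : Function.Injective f)
    (E : Subgroup G) (hE : E ≤ H) (hEa : Cfsg.IsElementaryAbelian 2 E) (hE8 : Nat.card E = 8) :
    IsMulCommutative H := by
  classical
  obtain ⟨hEm, hEi⟩ := hEa
  by_contra hnc
  have h2 : (2 : F) ≠ 0 := by
    intro h
    have h1 : ringChar F = 2 := CharP.ringChar_of_prime_eq_zero Nat.prime_two (by exact_mod_cast h)
    exact Nat.not_even_iff_odd.2 hF (FiniteField.even_card_iff_char_two.1 h1 |> Nat.even_iff.2)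
  have hneg1 : (-1 : Fˣ) ≠ 1 := fun h => h2 (by
    have h' : (-1 : F) = 1 := by simpa using congrArg Units.val h
    linear_combination -h')
  have hXnc : ¬ ∀ x y : H, x * y = y * x := fun h => hnc ⟨⟨h⟩⟩
  have hEc : ∀ a ∈ E.subgroupOf H, ∀ b ∈ E.subgroupOf H, a * b = b * a := fun a ha b hb =>
    Subtype.ext (by simpa using congrArg Subtype.val (hEm.is_comm.comm (⟨_, ha⟩ : E) ⟨_, hb⟩))
  have hE2 : ∀ a ∈ E.subgroupOf H, a * a = 1 := fun a ha =>
    Subtype.ext (by simpa [sq] using hEi _ ha)
  set B := (E.subgroupOf H).map f with hB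
  have hBc : ∀ a ∈ B, ∀ b ∈ B, a * b = b * a := by
    rintro _ ⟨a, ha, rfl⟩ _ ⟨b, hb, rfl⟩
    rw [← map_mul, ← map_mul, hEc a ha b hb]
  have hBi : ∀ a ∈ B, a * a = 1 := by
    rintro _ ⟨a, ha, rfl⟩
    rw [← map_mul, hE2 a ha, map_one]
  have hB8 : Nat.card B = 8 := by
    rw [hB, Subgroup.card_map_of_injective hf, Nat.card_congr (Subgroup.subgroupOfEquivOfLe hE).toEquiv, hE8]
  -- `-1` lies in the image of `E`
  have hneg : (-1 : GL (Fin 3) F) ∈ B := by
    have hm : ∀ b : GL (Fin 3) F, -1 * b = b * -1 := fun b => Units.ext (by simp)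
    set B' := Subgroup.closure (insert (-1 : GL (Fin 3) F) (B : Set (GL (Fin 3) F))) with hB'
    have hgc : ∀ a ∈ insert (-1 : GL (Fin 3) F) (B : Set (GL (Fin 3) F)),
        ∀ b ∈ insert (-1 : GL (Fin 3) F) (B : Set (GL (Fin 3) F)), a * b = b * a := by
      rintro a (rfl | ha) b (rfl | hb)
      exacts [rfl, hm b, (hm a).symm, hBc a ha b hb]
    have hc' : ∀ a ∈ B', ∀ b ∈ B', a * b = b * a := fun a ha b hb =>
      congrArg Subtype.val ((Subgroup.isMulCommutative_closure hgc).is_comm.comm (⟨a, ha⟩ : B') ⟨b, hb⟩)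
    have hi' : ∀ a ∈ B', a * a = 1 := by
      intro a ha
      have hsub : ∀ x ∈ B', ∀ y ∈ B', (x * y) * (x * y) = (x * x) * (y * y) := fun x hx y hy => by
        rw [mul_assoc x y, ← mul_assoc y x, hc' y hy x hx, mul_assoc x y, ← mul_assoc]
      induction ha using Subgroup.closure_induction with
      | mem a ha =>
        rcases ha with rfl | ha
        · exact Units.ext (by simp)
        · exact hBi a ha
      | one => simp
      | mul x y hx hy ihx ihy => rw [hsub x hx y hy, ihx, ihy, one_mul]
      | inv x _ ihx => rw [← mul_inv_rev, ihx, inv_one]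
    have hle : B ≤ B' := fun b hb => Subgroup.subset_closure (Or.inr hb)
    have heq : B = B' := Subgroup.eq_of_le_of_card_ge hle (by
      rw [hB8]; exact (elementary_bound h2 B' hc' hi').1)
    rw [heq]
    exact Subgroup.subset_closure (Or.inl rfl)
  obtain ⟨z, -, hfz⟩ := hneg
  have hzz : z * z = 1 := hf (by rw [map_mul, hfz, map_one]; exact Units.ext (by simp))
  have hzc : ∀ x : H, x * z = z * x := fun x => hf (by
    rw [map_mul, map_mul, hfz]; exact Units.ext (by simp))
  set φ : H →* Fˣ := Matrix.GeneralLinearGroup.det.comp f with hφ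
  have hφz : φ z = -1 := by
    refine Units.ext ?_
    simp [hφ, hfz, Matrix.det_neg, Fintype.card_fin]
    norm_num
  have hφcomm : commutator H ≤ φ.ker := Abelianization.commutator_subset_ker φ
  -- an involution of `Z(X) ∩ X'`
  haveI : Group.IsNilpotent H := (hXp).isNilpotent
  obtain ⟨w, hwC, hw1, hw2⟩ : ∃ w : H, w ∈ commutator H ⊓ Subgroup.center H ∧ w ≠ 1 ∧ w * w = 1 := by
    have hne : commutator H ≠ ⊥ := fun h => hXnc fun x y => by
      rw [← commutatorElement_eq_one_iff_mul_comm, ← Subgroup.mem_bot, ← h]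
      exact Subgroup.commutator_mem_commutator (Subgroup.mem_top _) (Subgroup.mem_top _)
    have hne2 := PGroupsBasic.inf_center_ne_bot hXp hne
    obtain ⟨u, hu⟩ := exists_prime_orderOf_dvd_card' (G := (commutator H ⊓ Subgroup.center H : Subgroup H)) 2 (by
      obtain ⟨k, hk⟩ := IsPGroup.iff_card.1 (hXp.to_subgroup (commutator H ⊓ Subgroup.center H))
      rw [hk]
      refine dvd_pow_self 2 ?_
      rintro rfl
      rw [pow_zero] at hk
      exact hne2 (Subgroup.card_eq_one.1 hk))
    refine ⟨u, u.2, fun h => ?_, ?_⟩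
    · rw [← Subgroup.orderOf_coe, h, orderOf_one] at hu
      norm_num at hu
    · rw [← sq, ← Subgroup.coe_pow, ← hu, pow_orderOf_eq_one]
      rfl
  have hφw : φ w = 1 := hφcomm hwC.1
  have hwc : ∀ x : H, x * w = w * x := Subgroup.mem_center_iff.1 hwC.2
  -- the central involutions of `X`
  have hfour : ∀ v : H, v * v = 1 → (∀ x : H, x * v = v * x) → v = 1 ∨ v = z ∨ v = w ∨ v = z * w := by
    intro v hv hvc
    by_contra hne
    simp only [not_or] at hne
    obtain ⟨hv1, hvz, hvw, hvzw⟩ := hne
    set C := Subgroup.closure ({z, w, v} : Set H) with hC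
    have hCc : C ≤ Subgroup.center H := by
      rw [hC, Subgroup.closure_le]
      rintro x (rfl | rfl | rfl) <;> exact Subgroup.mem_center_iff.2 (by assumption)
    have hCi : ∀ a ∈ C, a * a = 1 := by
      intro a ha
      induction ha using Subgroup.closure_induction with
      | mem a ha => rcases ha with rfl | rfl | rfl <;> assumption
      | one => simp
      | mul x y hx hy ihx ihy =>
        rw [mul_assoc x y, ← mul_assoc y x, Subgroup.mem_center_iff.1 (hCc hx) y, mul_assoc x y,
          ← mul_assoc, ihx, ihy, one_mul]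
      | inv x _ ihx => rw [← mul_inv_rev, ihx, inv_one]
    have hzw : z ≠ w := by
      intro h
      have := hφw
      rw [← h, hφz] at this
      exact hneg1 this
    have hz1 : z ≠ 1 := fun h => by
      have := hφz
      rw [h, map_one] at this
      exact hneg1 this.symm
    set Bc := C.map f with hBc'
    have hb1 := elementary_bound h2 Bc
      (by rintro _ ⟨a, ha, rfl⟩ _ ⟨b, hb, rfl⟩
          rw [← map_mul, ← map_mul, Subgroup.mem_center_iff.1 (hCc hb) a])
      (by rintro _ ⟨a, ha, rfl⟩
          rw [← map_mul, hCi a ha, map_one])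
    have h5 : 4 < Nat.card C := by
      have hmem : ∀ x ∈ ({1, z, w, z * w, v} : Finset H), x ∈ C := by
        intro x hx
        simp only [Finset.mem_insert, Finset.mem_singleton] at hx
        have hz : z ∈ C := Subgroup.subset_closure (by simp)
        have hw' : w ∈ C := Subgroup.subset_closure (by simp)
        rcases hx with rfl | rfl | rfl | rfl | rfl
        exacts [C.one_mem, hz, hw', C.mul_mem hz hw', Subgroup.subset_closure (by simp)]
      have hzw1 : z * w ≠ 1 := fun h => hzw ((eq_inv_of_mul_eq_one_left h).trans (inv_eq_of_mul_eq_one_right hw2))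
      have hcard : ({1, z, w, z * w, v} : Finset H).card = 5 := by
        rw [Finset.card_insert_of_notMem (by simp [Ne.symm hz1, Ne.symm hw1, Ne.symm hzw1, Ne.symm hv1]),
          Finset.card_insert_of_notMem (by simp [hzw, Ne.symm hvz, hw1]),
          Finset.card_insert_of_notMem (by simp [hz1, Ne.symm hvw]),
          Finset.card_pair (Ne.symm hvzw)]
      haveI := Fintype.ofFinite C
      have hsub : ({1, z, w, z * w, v} : Finset H) ⊆ Finset.univ.image (Subtype.val : C → H) := fun x hx =>
        Finset.mem_image.2 ⟨⟨x, hmem x hx⟩, Finset.mem_univ _, rfl⟩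
      have := (Finset.card_le_card hsub).trans Finset.card_image_le
      rw [Finset.card_univ, ← Nat.card_eq_fintype_card] at this
      omega
    have hC8 : Nat.card C = 8 := by
      obtain ⟨k, hk⟩ := IsPGroup.iff_card.1 (hXp.to_subgroup C)
      have hle : Nat.card C ≤ 8 := by
        rw [← Subgroup.card_map_of_injective hf]; exact hb1.1
      rw [hk] at h5 hle ⊢
      have hk3 : k ≤ 3 := (Nat.pow_le_pow_iff_right (le_refl 2)).1 (show 2 ^ k ≤ 2 ^ 3 from hle)
      interval_cases k <;> omega
    refine hXnc fun x y => hf ?_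
    rw [map_mul, map_mul]
    refine hb1.2 (by rw [Subgroup.card_map_of_injective hf, hC8]) _ _ ?_ ?_ <;>
    · rintro _ ⟨a, ha, rfl⟩
      rw [← map_mul, ← map_mul, Subgroup.mem_center_iff.1 (hCc ha)]
  -- the transfer
  have hN : ∀ n ∈ Subgroup.normalizer (H : Set G), ∀ hm : n⁻¹ * z * n ∈ H, φ ⟨_, hm⟩ = -1 := by
    intro n hn hm
    have hnH : ∀ x : G, x ∈ H ↔ n * x * n⁻¹ ∈ H := Subgroup.mem_normalizer_iff.1 hn
    let c : H ≃* H :=
      { toFun := fun x => ⟨n * x * n⁻¹, (hnH x).1 x.2⟩
        invFun := fun x => ⟨n⁻¹ * x * n, (hnH _).2 (by simp [mul_assoc])⟩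
        left_inv := fun x => Subtype.ext (by simp [mul_assoc])
        right_inv := fun x => Subtype.ext (by simp [mul_assoc])
        map_mul' := fun x y => Subtype.ext (by simp [mul_assoc]) }
    set v : H := ⟨_, hm⟩ with hv
    have hcv : c v = z := Subtype.ext (by simp [c, v, mul_assoc])
    have hvv : v * v = 1 := c.injective (by rw [map_mul, hcv, hzz, map_one])
    have hvc : ∀ x : H, x * v = v * x := fun x => c.injective (by rw [map_mul, map_mul, hcv, hzc])
    have hnot : v ∉ commutator H := by
      intro h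
      have : z ∈ commutator H := by
        rw [← hcv]
        exact Subgroup.characteristic_iff_map_le.1 inferInstance c ⟨v, h, rfl⟩
      have h1 : φ z = 1 := hφcomm this
      rw [hφz] at h1
      exact hneg1 h1
    rcases hfour v hvv hvc with h | h | h | h
    · exact absurd (h ▸ Subgroup.one_mem _) hnot
    · rw [h, hφz]
    · exact absurd (h ▸ hwC.1) hnot
    · rw [h, map_mul, hφz, hφw, mul_one]
  obtain ⟨hV, -⟩ := transfer_central_involution H hXp hXi φ z hzz hzc (-1) hN
  set V := MonoidHom.transfer φ with hVdef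
  -- an index two subgroup
  set R := V.range
  have heven : 2 ∣ Nat.card R := by
    have h1 : orderOf (⟨-1, ⟨(z : G), hV⟩⟩ : R) = 2 := by
      refine orderOf_eq_prime (Subtype.ext ?_) ?_
      · simp
      · intro h
        have := congrArg (fun u : R => ((u : Fˣ) : F)) h
        simp only [Units.val_neg, Units.val_one, OneMemClass.coe_one] at this
        exact h2 (by linear_combination -this)
    exact h1 ▸ orderOf_dvd_natCard _
  have hidx : (powMonoidHom 2 : R →* R).range.index = 2 := by
    haveI : IsCyclic R := inferInstance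
    rw [IsCyclic.index_powMonoidHom_range, Nat.gcd_eq_right heven]
  exact hG (((powMonoidHom 2 : R →* R).range).comap V.rangeRestrict)
    (by rw [Subgroup.index_comap_of_surjective _ V.rangeRestrict_surjective, hidx])


/-- Let G be a finite group with no subgroup of index 2 whose Sylow 2-subgroup X embeds in GL₃(F) for a finite field F of odd order. If X contains an elementary abelian subgroup of order 8, then X is abelian. -/
theorem result {G : Type*} [Group G] [Finite G] (hG : ∀ H : Subgroup G, H.index ≠ 2) (X : Sylow 2 G)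
    {F : Type*} [Field F] [Fintype F] (hF : Odd (Fintype.card F))
    (f : ↥(X : Subgroup G) →* GL (Fin 3) F) (hf : Function.Injective f)
    (E : Subgroup G) (hE : E ≤ (X : Subgroup G)) (hEa : Cfsg.IsElementaryAbelian 2 E) (hE8 : Nat.card E = 8) :
    IsMulCommutative (X : Subgroup G) := by
  exact main hG _ X.isPGroup' X.not_dvd_index hF f hf E hE hEa hE8

end Cfsg.Agent.S1906
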