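import Cfsg.Statements.S1907
import Cfsg.Agent.Lib.CoprimeTools
import Cfsg.Agent.Lib.HallCore
-- import your own Cfsg.Agent.* helpers here

set_option autoImplicit false
open Cfsg

namespace Cfsg.Agent.S1907

open scoped Pointwise commutatorElement
open Cfsg.Agent.CoprimeSZ Cfsg.Agent.CoprimeAction Cfsg.Agent.CoprimeTools

/-- Let P be a Sylow p-subgroup of a finite group G, H = P ∩ O_{p',p}(G), N = N_G(H) and D = O_{p'}(G). (a) If y is an element of p-power order of N and d ∈ D with d⁻¹ y d ∈ N, then d = d₁ d₂ with d₁ ∈ C_D(y) and d₂ ∈ C_D(H). (b) Two elements of P that are conjugate in G are conjugate in N. -/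
theorem result {G : Type*} [Group G] [Finite G] {p : ℕ} [Fact p.Prime] (P : Sylow p G) :
    (∀ y ∈ Subgroup.normalizer (((P : Subgroup G) ⊓ Cfsg.pPrimePCore p G : Subgroup G) : Set G), (∃ k : ℕ, orderOf y = p ^ k) →
      ∀ d ∈ Cfsg.pPrimeCore p G, d⁻¹ * y * d ∈ Subgroup.normalizer (((P : Subgroup G) ⊓ Cfsg.pPrimePCore p G : Subgroup G) : Set G) →
        ∃ d₁ ∈ Cfsg.pPrimeCore p G ⊓ Subgroup.centralizer ({y} : Set G),
          ∃ d₂ ∈ Cfsg.pPrimeCore p G ⊓ Subgroup.centralizer (((P : Subgroup G) ⊓ Cfsg.pPrimePCore p G : Subgroup G) : Set G), d = d₁ * d₂) ∧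
    ∀ x y : G, x ∈ (P : Subgroup G) → y ∈ (P : Subgroup G) → IsConj x y →
      ∃ n ∈ Subgroup.normalizer (((P : Subgroup G) ⊓ Cfsg.pPrimePCore p G : Subgroup G) : Set G), n * x * n⁻¹ = y := by
  have hp : p.Prime := Fact.out
  set D := Cfsg.pPrimeCore p G with hD
  set M := Cfsg.pPrimePCore p G with hM
  set H : Subgroup G := (P : Subgroup G) ⊓ M with hH
  have hDn : D.Normal := Cfsg.Agent.HallCore.pPrimeCore_normal p G
  have hMn : M.Normal := Cfsg.Agent.HallCore.pPrimePCore_normal p G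
  have hDc : (Nat.card D).Coprime p := Cfsg.Agent.HallCore.coprime_card_pPrimeCore p G
  have hDp : ∀ X : Subgroup G, IsPGroup p X → (Nat.card X).Coprime (Nat.card D) := fun X hX => by
    obtain ⟨m, hm⟩ := IsPGroup.iff_card.1 hX
    rw [hm]
    exact Nat.Coprime.pow_left _ hDc.symm
  have hHp : IsPGroup p H := P.2.to_le inf_le_left
  -- `N_D(H) = C_D(H)`
  have hND : ∀ d ∈ D, d ∈ Subgroup.normalizer (H : Set G) → d ∈ Subgroup.centralizer (H : Set G) := by
    intro d hd hdN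
    rw [mem_centralizer_iff_conj]
    intro x hx
    have h1 : d⁻¹ * x * d * x⁻¹ ∈ H ⊓ D := by
      refine ⟨H.mul_mem (conj_mem' hdN hx) (H.inv_mem hx), ?_⟩
      have := D.mul_mem (D.inv_mem hd) (hDn.conj_mem d hd x)
      simpa [mul_assoc] using this
    rw [Subgroup.inf_eq_bot_of_coprime (hDp H hHp), Subgroup.mem_bot, mul_inv_eq_one, mul_assoc,
      inv_mul_eq_iff_eq_mul] at h1
    rw [h1, mul_inv_cancel_right]
  have part1 : ∀ y ∈ Subgroup.normalizer (H : Set G), (∃ k : ℕ, orderOf y = p ^ k) →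
      ∀ d ∈ D, d⁻¹ * y * d ∈ Subgroup.normalizer (H : Set G) →
        ∃ d₁ ∈ D ⊓ Subgroup.centralizer ({y} : Set G),
          ∃ d₂ ∈ D ⊓ Subgroup.centralizer (H : Set G), d = d₁ * d₂ := by
    intro y hy hyk d hd hdy
    obtain ⟨k, hk⟩ := hyk
    have hC : y ∈ Subgroup.normalizer ((D ⊓ Subgroup.centralizer (H : Set G) : Subgroup G) : Set G) :=
      Subgroup.inf_normalizer_le_normalizer_inf
        ⟨by rw [Subgroup.normalizer_eq_top_iff.2 hDn]; trivial,
          le_normalizer_centralizer_of_le (le_refl _) hy⟩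
    have hfix : d⁻¹ * y * d * y⁻¹ ∈ D ⊓ Subgroup.centralizer (H : Set G) := by
      have h1 : d⁻¹ * y * d * y⁻¹ ∈ D := by
        have := D.mul_mem (D.inv_mem hd) (hDn.conj_mem d hd y)
        simpa [mul_assoc] using this
      exact ⟨h1, hND _ h1 (mul_mem hdy (inv_mem hy))⟩
    obtain ⟨c, hc, hdc⟩ := exists_fixed_mem_coset_zpowers hC (by
      rw [hk]
      exact Nat.Coprime.pow_left _
        (hDc.symm.coprime_dvd_right (Subgroup.card_dvd_of_le inf_le_left))) d hfix
    have hcD : c ∈ D := by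
      have := D.mul_mem hd hdc.1
      rwa [mul_inv_cancel_left] at this
    refine ⟨c, ⟨hcD, Subgroup.mem_centralizer_singleton_iff.2 hc.symm⟩, (d⁻¹ * c)⁻¹,
      Subgroup.inv_mem _ hdc, by simp⟩
  refine ⟨part1, fun x y hx hy hxy => ?_⟩
  obtain ⟨g, hg⟩ := isConj_iff.1 hxy
  -- `G = N(H) D`
  have hHM : H ≤ M := inf_le_right
  have hsyl : M ≤ D ⊔ H := by
    have hsub : (H.subgroupOf M) = ((P : Subgroup G).subgroupOf M) := Subgroup.inf_subgroupOf_right _ _
    obtain ⟨k, hk⟩ := Cfsg.Agent.HallCore.relIndex_pPrimePCore p G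
    rw [← hD, ← hM] at hk
    set L := D ⊔ H
    have hLM : L ≤ M := sup_le (Cfsg.Agent.HallCore.pPrimeCore_le_pPrimePCore p G) hHM
    have h1 : L.relIndex M ∣ p ^ k := hk ▸ Subgroup.relIndex_dvd_of_le_left M le_sup_left
    have h2 : ¬ p ∣ H.relIndex M := by
      intro hd
      apply P.not_dvd_index
      refine hd.trans ?_
      have e1 := Subgroup.card_mul_index ((P : Subgroup G))
      have e2 := Cfsg.Agent.HallCore.card_mul_relIndex hHM
      have e3 := Cfsg.Agent.HallCore.card_mul_relIndex (inf_le_left : (P : Subgroup G) ⊓ M ≤ P)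
      have e4 := Cfsg.Agent.HallCore.card_mul_relIndex (le_sup_right : M ≤ (P : Subgroup G) ⊔ M)
      have e5 : (P : Subgroup G).relIndex ((P : Subgroup G) ⊔ M) ∣ (P : Subgroup G).index :=
        Subgroup.relIndex_dvd_index_of_le le_sup_left
      have e6 := Cfsg.Agent.HallCore.card_mul_relIndex (le_sup_left : (P : Subgroup G) ≤ (P : Subgroup G) ⊔ M)
      rw [Subgroup.relIndex_sup_right] at e4
      rw [Subgroup.inf_relIndex_left] at e3
      have key : Nat.card H * M.relIndex (P : Subgroup G) * (P : Subgroup G).relIndex ((P : Subgroup G) ⊔ M) =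
          Nat.card H * M.relIndex (P : Subgroup G) * H.relIndex M := by
        rw [e3, e6, ← e4, ← e3, mul_right_comm, e2]
      have e7 := Nat.eq_of_mul_eq_mul_left
        (Nat.mul_pos Nat.card_pos (Nat.pos_of_ne_zero Subgroup.index_ne_zero_of_finite)) key
      rw [← e7]
      exact e5
    have h3 : L.relIndex M ∣ H.relIndex M := Subgroup.relIndex_dvd_of_le_left M le_sup_right
    have h4 : L.relIndex M = 1 := by
      obtain ⟨i, -, hi⟩ := (Nat.dvd_prime_pow hp).1 h1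
      rcases i with _ | i
      · simpa using hi
      · exact absurd ((hi ▸ dvd_pow_self p (Nat.succ_ne_zero i) : p ∣ L.relIndex M).trans h3) h2
    exact Subgroup.relIndex_eq_one.1 h4
  have hsolvH : Group.IsSolvable H := isSolvable_of_isPGroup hHp
  have hgD : ∃ n ∈ Subgroup.normalizer (H : Set G), ∃ d ∈ D, g = n * d := by
    have hle : MulAut.conj g⁻¹ • H ≤ D ⊔ H := by
      refine le_trans ?_ hsyl
      intro z hz
      rw [mem_conj_smul] at hz
      have := hMn.conj_mem _ (hHM hz) g⁻¹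
      simpa [mul_assoc] using this
    obtain ⟨d, hd, hdH⟩ := exists_conj_of_card_eq (N := D)
      (by rw [Subgroup.normalizer_eq_top_iff.2 hDn]; exact le_top) (hDp H hHp) (Or.inl hsolvH) hle
      (card_conj_smul _ _)
    refine ⟨g * d, mem_normalizer_of_conj_smul_eq ?_, d⁻¹, D.inv_mem hd, by simp⟩
    rw [conj_smul_mul, hdH, ← conj_smul_mul, mul_inv_cancel, map_one, one_smul]
  obtain ⟨n, hn, d, hd, rfl⟩ := hgD
  have hPN : (P : Subgroup G) ≤ Subgroup.normalizer (H : Set G) :=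
    le_normalizer_inf Subgroup.le_normalizer (by rw [Subgroup.normalizer_eq_top_iff.2 hMn]; exact le_top)
  have hdx : d * x * d⁻¹ ∈ Subgroup.normalizer (H : Set G) := by
    have : d * x * d⁻¹ = n⁻¹ * y * n := by rw [← hg]; simp [mul_assoc]
    rw [this]
    exact mul_mem (mul_mem (inv_mem hn) (hPN hy)) hn
  obtain ⟨k, hk⟩ := IsPGroup.iff_orderOf.1 P.2 ⟨x, hx⟩
  obtain ⟨d₁, hd₁, d₂, hd₂, hde⟩ := part1 x (hPN hx)
    ⟨k, by rw [← Subgroup.orderOf_coe] at hk; exact hk⟩ d⁻¹ (D.inv_mem hd) (by simpa using hdx)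
  refine ⟨n * d₂⁻¹, mul_mem hn (inv_mem (Subgroup.centralizer_le_normalizer _ hd₂.2)), ?_⟩
  have hcx : d₁⁻¹ * x * d₁ = x := by
    rw [mul_assoc, ← Subgroup.mem_centralizer_singleton_iff.1 hd₁.2, inv_mul_cancel_left]
  have hd' : d = d₂⁻¹ * d₁⁻¹ := by rw [← inv_inv d, hde, mul_inv_rev]
  rw [← hg, hd']
  calc n * d₂⁻¹ * x * (n * d₂⁻¹)⁻¹ = n * d₂⁻¹ * (d₁⁻¹ * x * d₁) * (n * d₂⁻¹)⁻¹ := by rw [hcx]
    _ = _ := by simp [mul_assoc]

end Cfsg.Agent.S1907
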