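import Cfsg.Statements.S1910
import Cfsg.Agent.Lib.PGroupsBasic

set_option autoImplicit false
open Cfsg

namespace Cfsg.Agent.S1910

open Subgroup

variable {G : Type*} [Group G] [Finite G]

theorem eq_one_of_odd {T X : Subgroup G} (hT : IsPGroup 2 T) (hX : Odd (Nat.card X)) {y : G}
    (hy : y ∈ T) (hyX : y ∈ X) : y = 1 := by
  obtain ⟨k, hk⟩ := hT ⟨y, hy⟩
  have hk' : y ^ 2 ^ k = 1 := congrArg Subtype.val hk
  exact orderOf_eq_one_iff.mp (Nat.eq_one_of_dvd_coprimes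
    ((Nat.coprime_two_right.mpr hX).pow_right k) (orderOf_dvd_natCard X hyX)
    (orderOf_dvd_of_pow_eq_one hk'))

/-- The tight embedding condition. -/
def Tight (X : Subgroup G) : Prop :=
  ∀ y : G, y ∉ normalizer (X : Set G) → Odd (Nat.card ↥(X ⊓ X.map (MulAut.conj y).toMonoidHom))

theorem Tight.conj {X : Subgroup G} (h : Tight X) (g : G) : Tight (X.map (MulAut.conj g).toMonoidHom) := by
  intro y hy
  have hy' : g⁻¹ * y * g ∉ normalizer (X : Set G) := by
    intro hn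
    refine hy (mem_normalizer_iff.mpr fun z => ?_)
    have h1 := mem_normalizer_iff.mp hn (g⁻¹ * z * g)
    simp only [map_equiv_eq_comap_symm', mem_comap]
    simp only [MulEquiv.coe_toMonoidHom, MulAut.conj_symm_apply]
    rw [show g⁻¹ * y * g * (g⁻¹ * z * g) * (g⁻¹ * y * g)⁻¹ = g⁻¹ * (y * z * y⁻¹) * g by group] at h1
    exact h1
  have := h _ hy'
  convert this using 1
  rw [← card_map_of_injective (f := (MulAut.conj g).toMonoidHom)
    (K := X ⊓ X.map (MulAut.conj (g⁻¹ * y * g)).toMonoidHom) (MulAut.conj g).injective,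
    map_inf _ _ _ (MulAut.conj g).injective, map_map, map_map]
  congr 4
  ext z; simp [mul_assoc]

theorem mem_normalizer_of_fixed {X : Subgroup G} (h : Tight X) {T : Subgroup G} (hT : IsPGroup 2 T)
    (hTX : T ≤ X) (hT1 : T ≠ ⊥) {y : G} (hy : ∀ t ∈ T, y⁻¹ * t * y ∈ X) : y ∈ normalizer (X : Set G) := by
  by_contra hn
  refine hT1 (eq_bot_iff.mpr fun t ht => eq_one_of_odd hT (h y hn) ht ⟨hTX ht, ?_⟩)
  exact ⟨y⁻¹ * t * y, hy t ht, by simp [mul_assoc]⟩

theorem exists_injection (g : G) (A B : Subgroup G) (hB : B = A.map (MulAut.conj g).toMonoidHom)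
    (hB2 : Tight B) (hAB : Odd (Nat.card ↥(A ⊓ B))) (T S : Subgroup G) (hT : IsPGroup 2 T) (hT1 : T ≠ ⊥)
    (hTB : T ≤ B) (hTA : T ≤ normalizer (A : Set G)) (hTS : T ≤ S) (hS : S ≤ A ⊔ T)
    (hSp : IsPGroup 2 S) (hSA : ¬ 2 ∣ (S ⊓ A).relIndex A) :
    ∃ f : T →* ↥(S ⊓ A ⊓ centralizer (T : Set G)), Function.Injective f := by
  set U := S ⊓ A ⊓ centralizer (T : Set G) with hU
  have hTAbot : ∀ y ∈ T, y ∈ A → y = 1 := fun y hy hyA => eq_one_of_odd hT hAB hy ⟨hyA, hTB hy⟩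
  have hdec : ∀ s ∈ S, ∃ a ∈ S ⊓ A, ∃ t ∈ T, a * t = s := by
    intro s hs
    have h1 : s ∈ ((A ⊔ T : Subgroup G) : Set G) := hS hs
    rw [coe_mul_of_right_le_normalizer_left A T hTA] at h1
    obtain ⟨a, ha, t, ht, rfl⟩ := h1
    refine ⟨a, mem_inf.mpr ⟨?_, ha⟩, t, ht, rfl⟩
    simpa using mul_mem hs (inv_mem (hTS ht))
  by_cases hcase : S ⊓ A ≤ centralizer (T : Set G)
  · -- the centralizer is a Sylow subgroup of A
    have hUA : U = S ⊓ A := inf_eq_left.mpr hcase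
    let P : Sylow 2 A := ((hSp.to_le inf_le_left : IsPGroup 2 ↥(S ⊓ A)).comap_subtype
      (K := A)).toSylow (by rwa [← relIndex_subgroupOf le_rfl, subgroupOf_self, relIndex_top_right] at hSA)
    let T' : Subgroup A := (T.map (MulAut.conj g⁻¹).toMonoidHom).subgroupOf A
    have hT'p : IsPGroup 2 T' := (hT.map _).comap_subtype
    obtain ⟨P2, hP2⟩ := hT'p.exists_le_sylow
    obtain ⟨a, ha⟩ := MulAction.exists_smul_eq A P2 P
    have hin : ∀ t : T, (MulAut.conj ((a : G) * g⁻¹)) (t : G) ∈ U := by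
      intro t
      have h1 : g⁻¹ * (t : G) * g ∈ A := by
        obtain ⟨z, hz, hzt⟩ := hB ▸ hTB t.2
        rw [← hzt]; simpa [mul_assoc] using hz
      have h2 : (⟨g⁻¹ * (t : G) * g, h1⟩ : A) ∈ P2 := hP2 ⟨(t : G), t.2, by simp⟩
      have h3 : a * ⟨g⁻¹ * (t : G) * g, h1⟩ * a⁻¹ ∈ P := by
        rw [← ha]
        exact ⟨_, h2, rfl⟩
      rw [hUA]
      have h4 : ((a * ⟨g⁻¹ * (t : G) * g, h1⟩ * a⁻¹ : A) : G) ∈ S ⊓ A := h3
      simpa [mul_assoc] using h4
    exact ⟨((MulAut.conj ((a : G) * g⁻¹)).toMonoidHom.comp T.subtype).codRestrict U hin,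
      fun x y h => Subtype.ext ((MulAut.conj ((a : G) * g⁻¹)).injective (congrArg Subtype.val h))⟩
  · obtain ⟨s0, hs0, hs0T⟩ := SetLike.not_le_iff_exists.mp hcase
    set W := S ⊓ normalizer (T : Set G) with hW
    have hTU : ∀ s ∈ W, ∃ a ∈ U, ∃ t ∈ T, a * t = s := by
      intro s hs
      obtain ⟨a, ha, t, ht, rfl⟩ := hdec s hs.1
      refine ⟨a, mem_inf.mpr ⟨ha, mem_centralizer_iff.mpr fun r hr => ?_⟩, t, ht, rfl⟩
      have han : a ∈ normalizer (T : Set G) := by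
        have h0 : a * t ∈ normalizer (T : Set G) := hs.2
        simpa using mul_mem h0 (inv_mem (le_normalizer ht))
      have h1 : r * (a * r⁻¹ * a⁻¹) ∈ T :=
        mul_mem hr ((mem_normalizer_iff.mp han r⁻¹).mp (inv_mem hr))
      have h2 : r * (a * r⁻¹ * a⁻¹) ∈ A := by
        rw [← mul_assoc, ← mul_assoc]
        exact mul_mem ((mem_normalizer_iff.mp (hTA hr) a).mp ha.2) (inv_mem ha.2)
      have h3 := hTAbot _ h1 h2
      rw [show r * (a * r⁻¹ * a⁻¹) = r * a * (a * r)⁻¹ by group, mul_inv_eq_one] at h3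
      exact h3
    have hlt : W.subgroupOf S ≠ ⊤ := by
      intro e
      have hsW : s0 ∈ W := (subgroupOf_eq_top.mp e) hs0.1
      obtain ⟨a, ha, t, ht, hat⟩ := hTU s0 hsW
      have ht1 : t = 1 := hTAbot t ht (by
        have : t = a⁻¹ * s0 := by rw [← hat]; group
        rw [this]; exact mul_mem (inv_mem ha.1.2) hs0.2)
      exact hs0T (by rw [← hat, ht1, mul_one]; exact ha.2)
    obtain ⟨x, hx, hxW⟩ := SetLike.exists_of_lt (Cfsg.Agent.PGroupsBasic.lt_normalizer hSp hlt)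
    have hTW : T ≤ W := le_inf hTS le_normalizer
    have hxA : (x : G) ∈ normalizer (A : Set G) := by
      obtain ⟨a, ha, t, ht, hat⟩ := hdec x x.2
      rw [← hat]; exact mul_mem (le_normalizer ha.2) (hTA ht)
    have hconj : ∀ t ∈ T, (x : G) * t * (x : G)⁻¹ ∈ W := fun t ht => by
      have := (mem_normalizer_iff.mp hx ⟨t, hTS ht⟩).mp (hTW ht)
      exact this
    have hWB : ∀ w ∈ W, w ∈ B → w ∈ T := by
      intro w hw hwB
      obtain ⟨a, ha, t, ht, rfl⟩ := hTU w hw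
      have ha1 : a = 1 := eq_one_of_odd (hSp.to_le inf_le_left) hAB ha.1
        ⟨ha.1.2, by simpa using mul_mem hwB (inv_mem (hTB ht))⟩
      rwa [ha1, one_mul]
    have hxB : (x : G) ∉ normalizer (B : Set G) := fun hn => hxW (by
      refine ⟨x.2, ?_⟩
      refine mem_normalizer_iff_map_conj_eq.mpr (eq_of_le_of_card_ge ?_
        (card_map_of_injective (MulAut.conj (x : G)).injective).ge)
      rintro _ ⟨t, ht, rfl⟩
      exact hWB _ (hconj t ht) ((mem_normalizer_iff.mp hn t).mp (hTB ht)))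
    have hkey : ∀ t ∈ T, (x : G) * t * (x : G)⁻¹ ∈ T → t = 1 := by
      intro t ht hc
      have h1 := eq_one_of_odd hT (hB2 _ hxB) hc ⟨hTB hc, ⟨t, hTB ht, rfl⟩⟩
      exact conj_eq_one_iff.mp h1
    choose α hα τ hτ hατ using fun t : T => hTU _ (hconj t t.2)
    have huniq : ∀ a ∈ U, ∀ t ∈ T, ∀ b ∈ U, ∀ r ∈ T, a * t = b * r → a = b := by
      intro a ha t ht b hb r hr he
      have h1 : b⁻¹ * a = r * t⁻¹ := by
        rw [eq_mul_inv_iff_mul_eq, mul_assoc, he, ← mul_assoc, inv_mul_cancel, one_mul]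
      have h2 : b⁻¹ * a = 1 := h1 ▸ hTAbot _ (mul_mem hr (inv_mem ht))
        (h1 ▸ mul_mem (inv_mem hb.1.2) ha.1.2)
      exact (inv_mul_eq_one.mp h2).symm
    let f : T →* U := MonoidHom.mk' (fun t => ⟨α t, hα t⟩) fun t r => Subtype.ext (by
      show α (t * r) = α t * α r
      refine huniq _ (hα _) _ (hτ (t * r)) _ (mul_mem (hα t) (hα r)) _ (mul_mem (hτ t) (hτ r)) ?_
      have hc : α r * τ t = τ t * α r := (mem_centralizer_iff.mp (hα r).2 _ (hτ t)).symm
      calc α (t * r) * τ (t * r) = (x : G) * ((t * r : T) : G) * (x : G)⁻¹ := hατ _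
        _ = ((x : G) * t * (x : G)⁻¹) * ((x : G) * r * (x : G)⁻¹) := by
            rw [coe_mul]; group
        _ = α t * τ t * (α r * τ r) := by rw [hατ, hατ]
        _ = α t * (α r * τ t) * τ r := by rw [hc]; group
        _ = α t * α r * (τ t * τ r) := by group)
    refine ⟨f, (MonoidHom.ker_eq_bot_iff f).mp (eq_bot_iff.mpr fun t ht => ?_)⟩
    have h1 : α t = 1 := congrArg Subtype.val ht
    refine Subtype.ext (hkey t t.2 ?_)
    rw [← hατ t, h1, one_mul]; exact hτ t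

/-- Let Q be a tightly embedded subgroup of a finite group G, g an element outside N_G(Q), T a nontrivial Sylow 2-subgroup of Q^g ∩ N_G(Q), and S a Sylow 2-subgroup of QT containing T. Then T ∩ Q = 1, and N_S(T) is the direct product of T and N_S(T) ∩ Q, with N_S(T) ∩ Q isomorphic to T. -/
theorem result {G : Type*} [Group G] [Finite G] (Q : Subgroup G) (hQ : Cfsg.IsTightlyEmbedded Q)
    (g : G) (hg : g ∉ Subgroup.normalizer (Q : Set G))
    (T : Subgroup G) (hT1 : T ≠ ⊥) (hT : T ≤ Q.map (MulAut.conj g).toMonoidHom ⊓ Subgroup.normalizer (Q : Set G))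
    (hTsyl : IsPGroup 2 T ∧ ¬ 2 ∣ T.relIndex (Q.map (MulAut.conj g).toMonoidHom ⊓ Subgroup.normalizer (Q : Set G)))
    (S : Subgroup G) (hTS : T ≤ S) (hS : S ≤ Q ⊔ T) (hSsyl : IsPGroup 2 S ∧ ¬ 2 ∣ S.relIndex (Q ⊔ T)) :
    T ⊓ Q = ⊥ ∧
      T ⊓ (S ⊓ Subgroup.normalizer (T : Set G) ⊓ Q) = ⊥ ∧
      ⁅T, S ⊓ Subgroup.normalizer (T : Set G) ⊓ Q⁆ = ⊥ ∧
      T ⊔ (S ⊓ Subgroup.normalizer (T : Set G) ⊓ Q) = S ⊓ Subgroup.normalizer (T : Set G) ∧
      Nonempty (↥(S ⊓ Subgroup.normalizer (T : Set G) ⊓ Q) ≃* T) := by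
  set B := Q.map (MulAut.conj g).toMonoidHom with hB
  have htQ : Tight Q := hQ.2
  have htB : Tight B := htQ.conj g
  have hQB : Odd (Nat.card ↥(Q ⊓ B)) := hQ.2 g hg
  have hTB : T ≤ B := hT.trans inf_le_left
  have hTN : T ≤ normalizer (Q : Set G) := hT.trans inf_le_right
  have hTQ : ∀ y ∈ T, y ∈ Q → y = 1 := fun y hy hyQ => eq_one_of_odd hTsyl.1 hQB hy ⟨hyQ, hTB hy⟩
  set U := S ⊓ normalizer (T : Set G) ⊓ Q with hU
  have hcen : ∀ a ∈ U, a ∈ centralizer (T : Set G) := by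
    intro a ha
    refine mem_centralizer_iff.mpr fun r hr => ?_
    have h1 : r * (a * r⁻¹ * a⁻¹) ∈ T := mul_mem hr ((mem_normalizer_iff.mp ha.1.2 r⁻¹).mp (inv_mem hr))
    have h2 : r * (a * r⁻¹ * a⁻¹) ∈ Q := by
      rw [← mul_assoc, ← mul_assoc]
      exact mul_mem ((mem_normalizer_iff.mp (hTN hr) a).mp ha.2) (inv_mem ha.2)
    have h3 := hTQ _ h1 h2
    rw [show r * (a * r⁻¹ * a⁻¹) = r * a * (a * r)⁻¹ by group, mul_inv_eq_one] at h3
    exact h3
  have hUeq : S ⊓ Q ⊓ centralizer (T : Set G) = U := le_antisymm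
    (fun a ha => ⟨⟨ha.1.1, centralizer_le_normalizer _ ha.2⟩, ha.1.2⟩)
    (fun a ha => ⟨⟨ha.1.1, ha.2⟩, hcen a ha⟩)
  refine ⟨eq_bot_iff.mpr fun y hy => hTQ y hy.1 hy.2,
    eq_bot_iff.mpr fun y hy => hTQ y hy.1 hy.2.2,
    commutator_eq_bot_iff_le_centralizer.mpr fun t ht =>
      mem_centralizer_iff.mpr fun a ha => (mem_centralizer_iff.mp (hcen a ha) t ht).symm,
    le_antisymm (sup_le (le_inf hTS le_normalizer) inf_le_left) ?_, ?_⟩
  · intro s hs
    have h1 : s ∈ ((Q ⊔ T : Subgroup G) : Set G) := hS hs.1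
    rw [coe_mul_of_right_le_normalizer_left Q T hTN] at h1
    obtain ⟨a, ha, t, ht, rfl⟩ := h1
    refine mul_mem (mem_sup_right ⟨⟨?_, ?_⟩, ha⟩) (mem_sup_left ht)
    · have h0 : a * t ∈ S := hs.1
      simpa using mul_mem h0 (inv_mem (hTS ht))
    · have h0 : a * t ∈ normalizer (T : Set G) := hs.2
      simpa using mul_mem h0 (inv_mem (le_normalizer ht))
  -- Sylow subgroups
  have hSA : ∀ (A T' S' : Subgroup G), T' ≤ normalizer (A : Set G) → S' ≤ A ⊔ T' →
      ¬ 2 ∣ S'.relIndex (A ⊔ T') → ¬ 2 ∣ (S' ⊓ A).relIndex A := by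
    intro A T' S' hn hle hodd hd
    refine hodd (hd.trans ?_)
    rw [inf_relIndex_right]
    have : (A.subgroupOf (A ⊔ T')).Normal := (normal_subgroupOf_iff_le_normalizer le_sup_left).mpr
      (sup_le le_normalizer hn)
    set K := A ⊔ T'
    set H := S'.subgroupOf K
    set N := A.subgroupOf K
    have h1 : S'.relIndex A = H.relIndex N := (relIndex_subgroupOf (L := K) le_sup_left).symm
    rw [h1]
    refine dvd_trans (dvd_of_eq ?_) (relIndex_dvd_index_of_le (le_sup_left : H ≤ H ⊔ N))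
    have e1 := relIndex_mul_relIndex ⊥ H (H ⊔ N) bot_le le_sup_left
    have e2 := relIndex_mul_relIndex ⊥ N (H ⊔ N) bot_le le_sup_right
    have e3 := relIndex_mul_relIndex ⊥ (H ⊓ N) N bot_le inf_le_right
    have e4 := relIndex_mul_relIndex ⊥ (H ⊓ N) H bot_le inf_le_left
    rw [inf_relIndex_right] at e3
    rw [inf_relIndex_left] at e4
    rw [relIndex_bot_left, relIndex_bot_left] at e1 e2 e3 e4
    rw [relIndex_sup_right] at e2
    have h0 : 0 < Nat.card H := Nat.card_pos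
    refine Nat.eq_of_mul_eq_mul_left h0 ?_
    rw [e1, ← e2, ← e4, ← e3]
    ring
  obtain ⟨f, hf⟩ : ∃ f : T →* U, Function.Injective f := hUeq ▸ exists_injection g Q B rfl htB hQB T S
    hTsyl.1 hT1 hTB hTN hTS hS hSsyl.1 (hSA Q T S hTN hS hSsyl.2)
  have hU1 : U ≠ ⊥ := fun e => hT1 (eq_bot_iff.mpr fun t ht => by
    have : f ⟨t, ht⟩ = f 1 := Subtype.ext (by
      have h1 : ∀ y ∈ U, y = 1 := fun y hy => by rw [e] at hy; exact hy
      rw [map_one]; exact h1 _ (f ⟨t, ht⟩).2)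
    exact congrArg Subtype.val (hf this))
  have hUB : U ≤ normalizer (B : Set G) := fun a ha =>
    mem_normalizer_of_fixed htB hTsyl.1 hTB hT1 fun t ht => by
      rw [mul_assoc, mem_centralizer_iff.mp (hcen a ha) t ht, inv_mul_cancel_left]; exact hTB ht
  -- the mirror configuration
  have hTU2 : IsPGroup 2 (U ⊔ T : Subgroup G) := hSsyl.1.to_le (sup_le (inf_le_left.trans inf_le_left) hTS)
  have hUTle : U ⊔ T ≤ B ⊔ U := sup_le le_sup_right (hTB.trans le_sup_left)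
  obtain ⟨P, hP⟩ := (hTU2.comap_subtype (K := B ⊔ U)).exists_le_sylow
  set S2 := (P : Subgroup ↥(B ⊔ U)).map (B ⊔ U).subtype with hS2
  have hUTS2 : U ⊔ T ≤ S2 := fun y hy => ⟨⟨y, hUTle hy⟩, hP hy, rfl⟩
  have hS2p : IsPGroup 2 S2 := P.isPGroup'.map _
  have hS2le : S2 ≤ B ⊔ U := map_subtype_le _
  have hS2odd : ¬ 2 ∣ S2.relIndex (B ⊔ U) := by
    rw [hS2, relIndex, subgroupOf, comap_map_eq_self_of_injective (B ⊔ U).subtype_injective]
    exact P.not_dvd_index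
  obtain ⟨f2', hf2'⟩ := exists_injection g⁻¹ B Q (by
      rw [hB, map_map]
      convert (map_id Q).symm using 2
      ext z; simp [mul_assoc]) htQ (by rwa [inf_comm]) U S2
    (hSsyl.1.to_le (inf_le_left.trans inf_le_left)) hU1 inf_le_right hUB (le_sup_left.trans hUTS2) hS2le hS2p
    (hSA B U S2 hUB hS2le hS2odd)
  have hT2 : S2 ⊓ B ⊓ centralizer (U : Set G) = T := by
    set T2 := S2 ⊓ B ⊓ centralizer (U : Set G)
    have hTT2 : T ≤ T2 := fun t ht => ⟨⟨hUTS2 (mem_sup_right ht), hTB ht⟩,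
      mem_centralizer_iff.mpr fun a ha => (mem_centralizer_iff.mp (hcen a ha) t ht).symm⟩
    have hT2N : T2 ≤ B ⊓ normalizer (Q : Set G) := fun y hy => ⟨hy.1.2,
      mem_normalizer_of_fixed htQ (hSsyl.1.to_le (inf_le_left.trans inf_le_left)) inf_le_right hU1 fun a ha => by
        rw [mul_assoc, mem_centralizer_iff.mp hy.2 a ha, inv_mul_cancel_left]; exact ha.2⟩
    have h1 := relIndex_mul_relIndex T T2 _ hTT2 hT2N
    obtain ⟨k, hk⟩ := (hS2p.to_le (inf_le_left.trans inf_le_left : T2 ≤ S2)).index (T.subgroupOf T2)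
    rcases Nat.eq_zero_or_pos k with rfl | hk0
    · exact le_antisymm (subgroupOf_eq_top.mp (index_eq_one.mp (by simpa using hk))) hTT2
    · exfalso; refine hTsyl.2 ?_
      rw [← h1, relIndex, hk]
      exact dvd_mul_of_dvd_left (dvd_pow_self 2 hk0.ne') _
  obtain ⟨f2, hf2⟩ : ∃ f : U →* T, Function.Injective f := hT2 ▸ ⟨f2', hf2'⟩
  have c1 := Nat.card_le_card_of_injective f hf
  exact ⟨MulEquiv.ofBijective f2 ((Nat.bijective_iff_injective_and_card f2).mpr
    ⟨hf2, le_antisymm (Nat.card_le_card_of_injective f2 hf2) c1⟩)⟩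

end Cfsg.Agent.S1910
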