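import Cfsg.Statements.S1914
import Cfsg.Agent.CyclicFourFixed1914.Main
import Cfsg.Agent.Lib.ComponentsBasic

set_option autoImplicit false
open Cfsg

namespace Cfsg.Agent.S1914

/-- Let A be a semisimple subgroup (a central product of quasisimple groups, A = E(A)) of a finite group and t an involution normalizing A such that the Sylow 2-subgroups of C_A(t) are cyclic of order 4. Then A has 2-rank exactly 1. -/
theorem result {G : Type*} [Group G] [Finite G] (A : Subgroup G) (hA : Cfsg.layer ↥A = ⊤)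
    (t : G) (ht : orderOf t = 2) (htA : t ∈ Subgroup.normalizer (A : Set G))
    (hC : ∀ R : Sylow 2 ↥(A ⊓ Subgroup.centralizer ({t} : Set G)), IsCyclic R ∧ Nat.card R = 4) :
    Cfsg.PRankLE 2 1 A ∧ ¬ Cfsg.PRankLE 2 0 A := by
  have : Fact (Nat.Prime 2) := ⟨Nat.prime_two⟩
  have hperf : ⁅(⊤ : Subgroup A), (⊤ : Subgroup A)⁆ = ⊤ := by
    have h := Cfsg.Agent.ComponentsBasic.layer_perfect (G := A)
    rwa [hA] at h
  constructor
  · intro E hEc hEsq
    by_contra hcard
    rw [pow_one, not_le] at hcard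
    set E' := E.map A.subtype with hE'
    have hc' : IsMulCommutative E' := by
      refine ⟨⟨fun x y => ?_⟩⟩
      obtain ⟨x', hx', hxe⟩ := x.2
      obtain ⟨y', hy', hye⟩ := y.2
      apply Subtype.ext
      show (x : G) * y = y * x
      rw [← hxe, ← hye, ← map_mul, ← map_mul,
        Cfsg.Agent.PGroupsBasic.comm_of_isMulCommutative hEc hx' hy']
    have he' : ∀ x ∈ E', x ^ 2 = 1 := by
      rintro _ ⟨x, hx, rfl⟩
      rw [← map_pow, hEsq x hx, map_one]
    obtain ⟨a, ha, b, hb, hab⟩ := Cfsg.FourGroupRank1915.four_of_card hc' he' (by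
      rwa [← Nat.card_congr (E.equivMapOfInjective _ A.subtype_injective).toEquiv])
    exact Cfsg.CyclicFourFixed1914.no_four hperf ht htA hC (Subgroup.map_subtype_le _ ha)
      (Subgroup.map_subtype_le _ hb) hab
  · intro h0
    obtain ⟨R⟩ : Nonempty (Sylow 2 ↥(A ⊓ Subgroup.centralizer ({t} : Set G))) := inferInstance
    obtain ⟨x, hx⟩ := exists_prime_orderOf_dvd_card' (G := R) 2 (by rw [(hC R).2]; norm_num)
    let y : A := ⟨((x : ↥(A ⊓ Subgroup.centralizer ({t} : Set G))) : G),
      (x : ↥(A ⊓ Subgroup.centralizer ({t} : Set G))).2.1⟩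
    have hy : orderOf y = 2 := by
      rw [← Subgroup.orderOf_coe]
      show orderOf ((x : ↥(A ⊓ Subgroup.centralizer ({t} : Set G))) : G) = 2
      rw [Subgroup.orderOf_coe, Subgroup.orderOf_coe, hx]
    have hsq : ∀ g ∈ Subgroup.zpowers y, g ^ 2 = 1 := by
      intro g hg
      obtain ⟨i, rfl⟩ := Subgroup.mem_zpowers_iff.mp hg
      rw [← zpow_natCast, ← zpow_mul, mul_comm, zpow_mul, zpow_natCast, ← hy, pow_orderOf_eq_one,
        one_zpow]
    have h1 := h0 (Subgroup.zpowers y) inferInstance hsq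
    rw [Nat.card_zpowers, hy, pow_zero] at h1
    omega

end Cfsg.Agent.S1914
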