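import Cfsg.Statements.S1915
import Cfsg.Agent.FourGroupRank1915.Main
import Cfsg.Agent.Lib.ComponentsBasic
-- Template for statement S1915 (row 1915; see /opt/grader/pristine/manifest.json for weights).
-- Copy to Cfsg/Agent/S1915.lean and replace the sorry. The statement below is byte-identical to the frozen
-- statement Cfsg.CfsgFrozen.S1915 (Cfsg/Statements/S1915.lean; the theorem Cfsg.tech_four_group_on_semisimple_group_normalizers_rank_one);
-- the grader kernel-checks Cfsg.Agent.S1915.result against that frozen type. Keep the theorem IN THIS FILE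
-- (a `result` declared elsewhere and merely imported here is not credited); helpers may live anywhere
-- under Cfsg/Agent/.

set_option autoImplicit false
open Cfsg

namespace Cfsg.Agent.S1915

/-- Let A be a semisimple subgroup (A = E(A)) of a finite group and U a Klein four-group normalizing A. If the subgroup of A generated by the normalizers N_A(V) of the nontrivial subgroups V of U has 2-rank exactly 1, then A has 2-rank exactly 1. -/
theorem result {G : Type*} [Group G] [Finite G] (A : Subgroup G) (hA : Cfsg.layer ↥A = ⊤)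
    (U : Subgroup G) (hU : IsKleinFour U) (hUA : U ≤ Subgroup.normalizer (A : Set G))
    (hΓ : Cfsg.PRankLE 2 1 ↥(⨆ V : {V : Subgroup G // V ≤ U ∧ V ≠ ⊥}, A ⊓ Subgroup.normalizer ((V : Subgroup G) : Set G)) ∧
      ¬ Cfsg.PRankLE 2 0 ↥(⨆ V : {V : Subgroup G // V ≤ U ∧ V ≠ ⊥}, A ⊓ Subgroup.normalizer ((V : Subgroup G) : Set G))) :
    Cfsg.PRankLE 2 1 A ∧ ¬ Cfsg.PRankLE 2 0 A := by
  have hperf : ⁅(⊤ : Subgroup A), (⊤ : Subgroup A)⁆ = ⊤ := by
    have h := Cfsg.Agent.ComponentsBasic.layer_perfect (G := A)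
    rwa [hA] at h
  set Γ := ⨆ V : {V : Subgroup G // V ≤ U ∧ V ≠ ⊥},
    A ⊓ Subgroup.normalizer ((V : Subgroup G) : Set G) with hΓdef
  have hΓA : Γ ≤ A := iSup_le fun _ => inf_le_left
  constructor
  · intro E hEc hEsq
    by_contra hcard
    rw [pow_one, not_le] at hcard
    set E' := E.map A.subtype with hE'
    have hc' : IsMulCommutative E' := by
      refine ⟨⟨fun x y => ?_⟩⟩
      obtain ⟨x', hx', hxe⟩ := x.2
      obtain ⟨y', hy', hye⟩ := y.2
      apply Subtype.ext
      show (x : G) * y = y * x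
      rw [← hxe, ← hye, ← map_mul, ← map_mul,
        Cfsg.Agent.PGroupsBasic.comm_of_isMulCommutative hEc hx' hy']
    have he' : ∀ x ∈ E', x ^ 2 = 1 := by
      rintro _ ⟨x, hx, rfl⟩
      rw [← map_pow, hEsq x hx, map_one]
    obtain ⟨a, ha, b, hb, hab⟩ := Cfsg.FourGroupRank1915.four_of_card hc' he' (by
      rwa [← Nat.card_congr (E.equivMapOfInjective _ A.subtype_injective).toEquiv])
    refine Cfsg.FourGroupRank1915.no_four hperf hUA hU ?_ (Subgroup.map_subtype_le _ ha)
      (Subgroup.map_subtype_le _ hb) hab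
    intro u hu hu1 a ha b hb hab hua hub
    set K := Cfsg.FourGroupRank1915.klein hab
    have hne : Subgroup.zpowers u ≠ ⊥ := by simpa using hu1
    have hmem : ∀ x ∈ A, u * x = x * u → x ∈ Γ := by
      intro x hx hux
      refine Subgroup.mem_iSup_of_mem ⟨Subgroup.zpowers u, Subgroup.zpowers_le.mpr hu, hne⟩
        (Subgroup.mem_inf.mpr ⟨hx, Subgroup.centralizer_le_normalizer _ ?_⟩)
      rw [Subgroup.mem_centralizer_iff]
      intro g hg
      obtain ⟨i, rfl⟩ := Subgroup.mem_zpowers_iff.mp hg
      exact ((show Commute x u from hux.symm).zpow_right i).eq.symm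
    have hKΓ : K ≤ Γ := by
      intro x hx
      rcases Cfsg.FourGroupRank1915.mem_klein.1 hx with rfl | rfl | rfl | rfl
      · exact one_mem _
      · exact hmem _ ha hua
      · exact hmem _ hb hub
      · exact mul_mem (hmem _ ha hua) (hmem _ hb hub)
    have hel := Cfsg.FourGroupRank1915.klein_elementary hab
    have hle := hΓ.1 (K.subgroupOf Γ)
      (⟨⟨fun x y => Subtype.ext (Subtype.ext
        (Cfsg.Agent.PGroupsBasic.comm_of_isMulCommutative hel.1 x.2 y.2))⟩⟩)
      (fun x hx => Subtype.ext (by simpa using hel.2 _ hx))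
    rw [Nat.card_congr (Subgroup.subgroupOfEquivOfLe hKΓ).toEquiv, pow_one] at hle
    exact absurd (Cfsg.FourGroupRank1915.two_lt_card_klein hab) (not_lt.mpr hle)
  · intro h0
    apply hΓ.2
    intro E hEc hEsq
    have h1 := h0 (E.map (Subgroup.inclusion hΓA)) (by
      refine ⟨⟨fun x y => ?_⟩⟩
      obtain ⟨x', hx', hxe⟩ := x.2
      obtain ⟨y', hy', hye⟩ := y.2
      apply Subtype.ext
      show (x : A) * y = y * x
      rw [← hxe, ← hye, ← map_mul, ← map_mul,
        Cfsg.Agent.PGroupsBasic.comm_of_isMulCommutative hEc hx' hy']) (by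
      rintro _ ⟨x, hx, rfl⟩
      rw [← map_pow, hEsq x hx, map_one])
    rwa [← Nat.card_congr (E.equivMapOfInjective _ (Subgroup.inclusion_injective hΓA)).toEquiv] at h1

end Cfsg.Agent.S1915
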