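import Mathlib
import Cfsg.Statements.S1921
import Cfsg.Agent.Lib.ComponentsBasic
-- import your own Cfsg.Agent.* helpers here

set_option autoImplicit false
open Cfsg

namespace Cfsg.Agent.S1921



/-- Let a be an involution of a finite group H and L a component of H with a L a⁻¹ ≠ L; put M = ⟨L, aLa⁻¹⟩ and let J be the subgroup generated by the elements x · a x a⁻¹ with x ∈ L (the diagonal). Then every element of M outside J·Z(M) generates M together with J. -/
theorem result {H : Type*} [Group H] [Finite H] (a : H) (ha : orderOf a = 2) (L : Subgroup H) (hL : Cfsg.IsComponent L)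
    (hLa : L.map (MulAut.conj a).toMonoidHom ≠ L) (x : H) (hxM : x ∈ L ⊔ L.map (MulAut.conj a).toMonoidHom)
    (hxJ : x ∉ Subgroup.closure {y : H | ∃ l ∈ L, y = l * (a * l * a⁻¹)} ⊔
      ((L ⊔ L.map (MulAut.conj a).toMonoidHom) ⊓ Subgroup.centralizer ((L ⊔ L.map (MulAut.conj a).toMonoidHom : Subgroup H) : Set H))) :
    Subgroup.closure {y : H | ∃ l ∈ L, y = l * (a * l * a⁻¹)} ⊔ Subgroup.zpowers x = L ⊔ L.map (MulAut.conj a).toMonoidHom := by

  classical
  have ha2 : a * a = 1 := by rw [← sq, ← ha, pow_orderOf_eq_one]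
  have hai : a⁻¹ = a := inv_eq_of_mul_eq_one_left ha2
  set L' := L.map (MulAut.conj a).toMonoidHom with hL'
  have hL'c : Cfsg.IsComponent L' := Cfsg.Agent.ComponentsBasic.isComponent_conj hL a
  have hcomm := Cfsg.Agent.ComponentsBasic.components_commute hL hL'c (Ne.symm hLa)
  have hc : ∀ l ∈ L, ∀ l' ∈ L', l * l' = l' * l := by
    intro l hl l' hl'
    have hle : L ≤ Subgroup.centralizer (L' : Set H) := Subgroup.commutator_eq_bot_iff_le_centralizer.1 hcomm
    exact ((Subgroup.mem_centralizer_iff.1 (hle hl)) l' hl').symm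
  have mem' : ∀ l ∈ L, a * l * a⁻¹ ∈ L' := fun l hl => ⟨l, hl, rfl⟩
  set J := Subgroup.closure {y : H | ∃ l ∈ L, y = l * (a * l * a⁻¹)} with hJ
  set M := L ⊔ L' with hM
  set Z := M ⊓ Subgroup.centralizer (M : Set H) with hZ
  set N := J ⊔ Subgroup.zpowers x with hN
  have hJM : J ≤ M := by
    rw [hJ, Subgroup.closure_le]
    rintro y ⟨l, hl, rfl⟩
    exact M.mul_mem (Subgroup.mem_sup_left hl) (Subgroup.mem_sup_right (mem' l hl))
  have hJmem : ∀ l ∈ L, l * (a * l * a⁻¹) ∈ J := fun l hl => Subgroup.subset_closure ⟨l, hl, rfl⟩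
  refine le_antisymm (sup_le hJM (Subgroup.zpowers_le.2 hxM)) ?_
  haveI hnorm : L.Normal → True := fun _ => trivial
  obtain ⟨l, hl, m, hm, hx⟩ : ∃ l ∈ L, ∃ m ∈ L', x = l * m := by
    have hn : L' ≤ Subgroup.normalizer (L : Set H) := by
      intro m hm
      rw [Subgroup.mem_normalizer_iff]
      intro n
      constructor
      · intro hn'; rwa [← hc n hn' m hm, mul_inv_cancel_right]
      · intro h
        have e := hc _ h m hm
        have h1 : m * n * m⁻¹ * m = m * n := by group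
        rw [h1] at e
        have : n = m * n * m⁻¹ := mul_left_cancel e
        rwa [this]
    obtain ⟨l, hl, m, hm, h⟩ := (show ∃ l ∈ L, ∃ m ∈ L', l * m = x from by
      have h : x ∈ ((L ⊔ L' : Subgroup H) : Set H) := hxM
      rw [Subgroup.coe_mul_of_right_le_normalizer_left L L' hn] at h
      obtain ⟨l, hl, m, hm, h⟩ := Set.mem_mul.1 h
      exact ⟨l, hl, m, hm, h⟩)
    exact ⟨l, hl, m, hm, h.symm⟩
  obtain ⟨k, hk, hkm⟩ := hm
  replace hkm : a * k * a⁻¹ = m := hkm
  set d := l * k⁻¹ with hd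
  have hdL : d ∈ L := L.mul_mem hl (L.inv_mem hk)
  have hxd : x = d * (k * (a * k * a⁻¹)) := by rw [hx, hd, ← hkm]; group
  have hdN : d ∈ N := by
    have : x * (k * (a * k * a⁻¹))⁻¹ = d := by rw [hxd]; group
    rw [← this]
    exact N.mul_mem (Subgroup.mem_sup_right (Subgroup.mem_zpowers x)) (N.inv_mem (Subgroup.mem_sup_left (hJmem k hk)))
  have hdnc : ¬ (⟨d, hdL⟩ : L) ∈ Subgroup.center L := by
    intro h
    apply hxJ
    rw [Subgroup.mem_center_iff] at h
    have hdZ : d ∈ Z := by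
      refine ⟨Subgroup.mem_sup_left hdL, ?_⟩
      show d ∈ Subgroup.centralizer (M : Set H)
      rw [Subgroup.mem_centralizer_iff]
      intro y hy
      have : M ≤ Subgroup.centralizer ({d} : Set H) := sup_le
        (fun z hz => Subgroup.mem_centralizer_singleton_iff.2 (congrArg Subtype.val (h ⟨z, hz⟩)))
        (fun z hz => Subgroup.mem_centralizer_singleton_iff.2 ((hc d hdL z hz).symm))
      exact Subgroup.mem_centralizer_singleton_iff.1 (this hy)
    have hz2 := Subgroup.mem_centralizer_iff.1 hdZ.2 (k * (a * k * a⁻¹)) (hJM (hJmem k hk))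
    rw [hxd, ← hz2]
    exact Subgroup.mul_mem_sup (hJmem k hk) hdZ
  have hNL : (N.subgroupOf L).Normal := by
    constructor
    intro n hn g
    rw [Subgroup.mem_subgroupOf] at hn ⊢
    have hj : (g : H) * (a * g * a⁻¹) ∈ N := Subgroup.mem_sup_left (hJmem g g.2)
    have h1 := N.mul_mem (N.mul_mem hj hn) (N.inv_mem hj)
    have h2 : (g : H) * (a * g * a⁻¹) * n * ((g : H) * (a * g * a⁻¹))⁻¹ = g * n * (g : H)⁻¹ := by
      have := hc n n.2 (a * g * a⁻¹) (mem' g g.2)
      calc (g : H) * (a * g * a⁻¹) * n * ((g : H) * (a * g * a⁻¹))⁻¹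
          = g * ((a * g * a⁻¹) * n) * (a * g * a⁻¹)⁻¹ * (g : H)⁻¹ := by group
        _ = _ := by rw [← this]; group
    rw [h2] at h1
    simpa using h1
  have hLN : L ≤ N := by
    rcases Cfsg.Agent.ComponentsBasic.normal_le_center_or_eq_top hL.2 (N.subgroupOf L) with h | h
    · exact absurd (h (show (⟨d, hdL⟩ : L) ∈ N.subgroupOf L from hdN)) hdnc
    · exact Subgroup.subgroupOf_eq_top.1 h
  refine sup_le hLN ?_
  rintro _ ⟨z, hz, rfl⟩
  have := N.mul_mem (N.inv_mem (hLN hz)) (Subgroup.mem_sup_left (hJmem z hz) : z * (a * z * a⁻¹) ∈ N)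
  rw [inv_mul_cancel_left] at this
  exact this

end Cfsg.Agent.S1921
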