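import Cfsg.Statements.S1922
-- import your own Cfsg.Agent.* helpers here

set_option autoImplicit false
open Cfsg

namespace Cfsg.Agent.S1922

open Function in
/-- An involutive map with a single fixed point lives on a set of odd cardinality. -/
theorem odd_of_unique_fixed {α : Type*} [Finite α] (f : α → α) (hf : ∀ x, f (f x) = x) (a : α)
    (ha : f a = a) (huniq : ∀ x, f x = x → x = a) : Odd (Nat.card α) := by
  classical
  haveI := Fintype.ofFinite α
  haveI : Fact (Nat.Prime 2) := ⟨Nat.prime_two⟩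
  have h := Equiv.Perm.card_fixedPoints_modEq (α := α) (f := (f : Function.End α)) (p := 2) (n := 1)
    (funext hf)
  have h1 : Fintype.card ↑(Function.fixedPoints f) = 1 :=
    Fintype.card_eq_one_iff.2 ⟨⟨a, ha⟩, fun x => Subtype.ext (huniq x.1 x.2)⟩
  rw [Nat.card_eq_fintype_card, Nat.odd_iff]
  have h' : Fintype.card α % 2 = Fintype.card ↑(Function.fixedPoints f) % 2 := h
  omega

variable {G : Type*} [Group G] [Finite G] {z : G} {H : Subgroup G}

/-- Conjugation, as a function. -/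
def c (g x : G) : G := g * x * g⁻¹

omit [Finite G] in
theorem mem_map_conj {g x : G} :
    x ∈ H.map (MulAut.conj g).toMonoidHom ↔ g⁻¹ * x * g ∈ H := by
  constructor
  · rintro ⟨h, hh, rfl⟩
    simpa [mul_assoc] using hh
  · intro h
    exact ⟨_, h, by simp [mul_assoc]⟩

omit [Finite G] in
/-- A conjugate of `z` lying in `H` comes from an element of `H`. -/
theorem mem_of_conj_mem (h0 : ∀ g : G, z ∈ H.map (MulAut.conj g).toMonoidHom ↔ g ∈ H) {g : G}
    (hg : g * z * g⁻¹ ∈ H) : g ∈ H := by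
  have h := (h0 g⁻¹).1 (mem_map_conj.2 (by rwa [inv_inv]))
  simpa using H.inv_mem h

omit [Finite G] in
theorem z_mem (h0 : ∀ g : G, z ∈ H.map (MulAut.conj g).toMonoidHom ↔ g ∈ H) : z ∈ H := by
  simpa using mem_map_conj.1 ((h0 1).2 H.one_mem)

omit [Finite G] in
theorem mem_of_commute (h0 : ∀ g : G, z ∈ H.map (MulAut.conj g).toMonoidHom ↔ g ∈ H) {x : G}
    (hx : x * z = z * x) : x ∈ H :=
  mem_of_conj_mem h0 (by rw [hx, mul_inv_cancel_right]; exact z_mem h0)

omit [Finite G] in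
theorem conj_sq (hz2 : z * z = 1) (g : G) : (g * z * g⁻¹) * (g * z * g⁻¹) = 1 := by
  rw [show (g * z * g⁻¹) * (g * z * g⁻¹) = g * (z * z) * g⁻¹ by group, hz2, mul_one, mul_inv_cancel]

/-- Two conjugates of `z` in different fibres are swapped by a third one. -/
theorem exists_swap (hz2 : z * z = 1) (h0 : ∀ g : G, z ∈ H.map (MulAut.conj g).toMonoidHom ↔ g ∈ H)
    (h1 : ∀ t : G, IsConj z t → t ≠ z → t * z = z * t → ∀ g : G,
      z * t ∈ H.map (MulAut.conj g).toMonoidHom ↔ g ∈ H)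
    {g : G} (hg : g ∉ H) :
    ∃ y : G, IsConj z y ∧ y * z * y = g * z * g⁻¹ := by
  generalize hb : g * z * g⁻¹ = b
  have hb2 : b * b = 1 := hb ▸ conj_sq hz2 g
  have hzi : z⁻¹ = z := inv_eq_of_mul_eq_one_left hz2
  have hbi : b⁻¹ = b := inv_eq_of_mul_eq_one_left hb2
  -- conjugation by `z` inverts `z b`
  have hinv : ∀ i : ℕ, z * (z * b) ^ i * z = ((z * b) ^ i)⁻¹ := by
    intro i
    have h := conj_pow (i := i) (a := z) (b := z * b)
    rw [hzi] at h
    rw [← h, ← inv_pow, mul_inv_rev, hzi, hbi, ← mul_assoc z z, hz2, one_mul]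
  have hcj : ∀ i : ℕ, ((z * b) ^ i)⁻¹ * z * (z * b) ^ i = z * (z * b) ^ (2 * i) := by
    intro i
    rw [← hinv i, mul_assoc (z * (z * b) ^ i) z z, hz2, mul_one, mul_assoc, ← pow_add, two_mul]
  rcases Nat.even_or_odd (orderOf (z * b)) with ⟨k, hk⟩ | ⟨k, hk⟩
  · exfalso
    have hk0 : 0 < k := by have := orderOf_pos (z * b); omega
    have hvv : (z * b) ^ k * (z * b) ^ k = 1 := by rw [← pow_add, ← hk, pow_orderOf_eq_one]
    have hv1 : (z * b) ^ k ≠ 1 := fun h => by
      have := Nat.le_of_dvd hk0 (orderOf_dvd_of_pow_eq_one h); omega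
    generalize hv : (z * b) ^ k = v at hvv hv1
    have hvi : v⁻¹ = v := inv_eq_of_mul_eq_one_left hvv
    have hzv : z * v = v * z := by
      have h := hinv k
      rw [hv, hvi] at h
      calc z * v = z * v * (z * z) := by rw [hz2, mul_one]
        _ = (z * v * z) * z := by group
        _ = v * z := by rw [h]
    have hbv : v * b = b * v := by
      have h := (Commute.self_pow (z * b) k).eq
      rw [hv] at h
      calc v * b = v * z * (z * b) := by rw [mul_assoc v z, ← mul_assoc z z, hz2, one_mul]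
        _ = z * v * (z * b) := by rw [hzv]
        _ = z * ((z * b) * v) := by rw [mul_assoc, h]
        _ = b * v := by rw [← mul_assoc, ← mul_assoc, hz2, one_mul]
    -- `z v` is a conjugate of `z`
    have hconj : IsConj z (z * v) := by
      rcases Nat.even_or_odd k with ⟨i, hi⟩ | ⟨i, hi⟩
      · refine isConj_iff.2 ⟨((z * b) ^ i)⁻¹, ?_⟩
        rw [inv_inv, hcj i, two_mul, ← hi, hv]
      · refine (isConj_iff.2 ⟨g, hb⟩ : IsConj z b).trans (isConj_iff.2 ⟨((z * b) ^ i)⁻¹, ?_⟩)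
        have e : b = z * (z * b) := by rw [← mul_assoc, hz2, one_mul]
        conv_lhs => arg 1; arg 2; rw [e]
        rw [inv_inv, ← mul_assoc, mul_assoc (((z * b) ^ i)⁻¹ * z), ← pow_succ', ← hinv i,
          mul_assoc (z * (z * b) ^ i) z z, hz2, mul_one, mul_assoc, ← pow_add,
          show i + (i + 1) = k by omega, hv]
    have hzvz : z * v ≠ z := fun h => hv1 (by simpa using h)
    have hcomm : z * v * z = z * (z * v) := by rw [mul_assoc, ← hzv]
    refine hg ((h1 (z * v) hconj hzvz hcomm g).1 ?_)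
    rw [← mul_assoc, hz2, one_mul, mem_map_conj]
    refine mem_of_commute h0 ?_
    rw [← hb] at hbv
    calc g⁻¹ * v * g * z = g⁻¹ * (v * (g * z * g⁻¹)) * g := by group
      _ = g⁻¹ * (g * z * g⁻¹ * v) * g := by rw [hbv]
      _ = z * (g⁻¹ * v * g) := by group
  · obtain ⟨i, hi⟩ : ∃ i, 2 * i = k + 1 + (2 * k + 1) ∨ 2 * i = k + 1 := by
      rcases Nat.even_or_odd (k + 1) with ⟨a, ha⟩ | ⟨a, ha⟩
      · exact ⟨a, Or.inr (by omega)⟩
      · exact ⟨a + k + 1, Or.inl (by omega)⟩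
    have hpow : (z * b) ^ (2 * i) = (z * b) ^ (k + 1) := by
      rcases hi with h | h
      · rw [h, pow_add, ← hk, pow_orderOf_eq_one, mul_one]
      · rw [h]
    refine ⟨z * (z * b) ^ (k + 1), isConj_iff.2 ⟨((z * b) ^ i)⁻¹, ?_⟩, ?_⟩
    · rw [inv_inv, hcj i, hpow]
    · calc z * (z * b) ^ (k + 1) * z * (z * (z * b) ^ (k + 1))
          = z * (z * b) ^ (k + 1) * (z * z) * (z * b) ^ (k + 1) := by group
        _ = z * ((z * b) ^ (k + 1) * (z * b) ^ (k + 1)) := by rw [hz2]; group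
        _ = z * (z * b) := by
            rw [← pow_add, show k + 1 + (k + 1) = (2 * k + 1) + 1 by omega, pow_succ, ← hk,
              pow_orderOf_eq_one, one_mul]
        _ = b := by rw [← mul_assoc, hz2, one_mul]

/-- The number of conjugates of `z` in `H` is odd. -/
theorem odd_fibre (hz2 : z * z = 1) (hH : H ≠ ⊤)
    (h0 : ∀ g : G, z ∈ H.map (MulAut.conj g).toMonoidHom ↔ g ∈ H)
    (h1 : ∀ t : G, IsConj z t → t ≠ z → t * z = z * t → ∀ g : G,
      z * t ∈ H.map (MulAut.conj g).toMonoidHom ↔ g ∈ H) :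
    Odd (Nat.card {x : G // IsConj z x ∧ x ∈ H}) := by
  have hzH := z_mem h0
  have hzi : z⁻¹ = z := inv_eq_of_mul_eq_one_left hz2
  have hsq : ∀ {y : G}, IsConj z y → y * y = 1 := fun {y} hy => by
    obtain ⟨a, rfl⟩ := isConj_iff.1 hy
    exact conj_sq hz2 a
  have hinvy : ∀ {y : G}, IsConj z y → y⁻¹ = y := fun hy => inv_eq_of_mul_eq_one_left (hsq hy)
  -- conjugates of `z` outside `H` are determined by where they send `z`
  have hψ : ∀ y₁ y₂ : {y : G // IsConj z y ∧ y ∉ H},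
      (y₁ : G) * z * y₁ = y₂ * z * y₂ → y₁ = y₂ := by
    let ψ : {y : G // IsConj z y ∧ y ∉ H} → {y : G // IsConj z y ∧ y ∉ H} := fun y =>
      ⟨y.1 * z * y.1, by
        have e : y.1 * z * y.1 = y.1 * z * y.1⁻¹ := by rw [hinvy y.2.1]
        exact ⟨isConj_iff.2 ⟨y.1, e.symm⟩, fun h => y.2.2 (mem_of_conj_mem h0 (e ▸ h))⟩⟩
    have hsurj : Function.Surjective ψ := by
      rintro ⟨b, hb, hbH⟩
      obtain ⟨g, rfl⟩ := isConj_iff.1 hb
      have hgH : g ∉ H := fun h => hbH (H.mul_mem (H.mul_mem h hzH) (H.inv_mem h))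
      obtain ⟨y, hy, he⟩ := exists_swap hz2 h0 h1 hgH
      exact ⟨⟨y, hy, fun h => hbH (he ▸ H.mul_mem (H.mul_mem h hzH) h)⟩, Subtype.ext he⟩
    intro y₁ y₂ h
    exact Finite.injective_iff_surjective.2 hsurj (Subtype.ext h)
  obtain ⟨g₀, hg₀⟩ : ∃ g₀, g₀ ∉ H := by
    by_contra h
    exact hH ((Subgroup.eq_top_iff' H).2 (by simpa using h))
  let Y := {y : G // IsConj z y ∧ y * g₀ ∈ H}
  let Φ : Y → {x : G // IsConj z x ∧ x ∈ H} := fun y =>
    ⟨y.1 * (g₀ * z * g₀⁻¹) * y.1, by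
      have e : y.1 * (g₀ * z * g₀⁻¹) * y.1 = (y.1 * g₀) * z * (y.1 * g₀)⁻¹ := by
        rw [mul_inv_rev, hinvy y.2.1]; group
      rw [e]
      exact ⟨isConj_iff.2 ⟨_, rfl⟩, H.mul_mem (H.mul_mem y.2.2 hzH) (H.inv_mem y.2.2)⟩⟩
  have hΦ : Function.Bijective Φ := by
    constructor
    · intro y₁ y₂ h
      have e := congrArg Subtype.val h
      obtain ⟨a, ha⟩ := isConj_iff.1 (Φ y₁).2.1
      have haH : a ∈ H := mem_of_conj_mem h0 (ha.symm ▸ (Φ y₁).2.2)
      have key : ∀ y : Y, (Φ y).1 = (Φ y₁).1 → IsConj z (a⁻¹ * y.1 * a) ∧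
          a⁻¹ * y.1 * a ∉ H ∧ a⁻¹ * y.1 * a * z * (a⁻¹ * y.1 * a) = a⁻¹ * (g₀ * z * g₀⁻¹) * a := by
        intro y hy
        refine ⟨y.2.1.trans (isConj_iff.2 ⟨a⁻¹, by group⟩), fun hm => ?_, ?_⟩
        · have hyH : y.1 ∈ H := by
            have := H.mul_mem (H.mul_mem haH hm) (H.inv_mem haH)
            simpa [mul_assoc] using this
          have := H.mul_mem (H.inv_mem hyH) y.2.2
          rw [inv_mul_cancel_left] at this
          exact hg₀ this
        · calc a⁻¹ * y.1 * a * z * (a⁻¹ * y.1 * a) = a⁻¹ * y.1 * (a * z * a⁻¹) * y.1 * a := by group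
            _ = a⁻¹ * y.1 * (y.1 * (g₀ * z * g₀⁻¹) * y.1) * y.1 * a := by rw [ha, ← hy]
            _ = a⁻¹ * (y.1 * y.1) * (g₀ * z * g₀⁻¹) * (y.1 * y.1) * a := by group
            _ = a⁻¹ * (g₀ * z * g₀⁻¹) * a := by rw [hsq y.2.1, mul_one, mul_one]
      obtain ⟨a1, b1, c1⟩ := key y₁ rfl
      obtain ⟨a2, b2, c2⟩ := key y₂ e.symm
      have := congrArg Subtype.val (hψ ⟨_, a1, b1⟩ ⟨_, a2, b2⟩ (c1.trans c2.symm))
      exact Subtype.ext (mul_left_cancel (mul_right_cancel this))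
    · rintro ⟨x, hx, hxH⟩
      obtain ⟨a, rfl⟩ := isConj_iff.1 hx
      have haH : a ∈ H := mem_of_conj_mem h0 hxH
      have hng : a⁻¹ * g₀ ∉ H := fun h => hg₀ (by simpa using H.mul_mem haH h)
      obtain ⟨y, hy, he⟩ := exists_swap hz2 h0 h1 hng
      have hy2 := hsq hy
      have he' : a * y * a⁻¹ * (g₀ * z * g₀⁻¹) * (a * y * a⁻¹) = a * z * a⁻¹ := by
        calc a * y * a⁻¹ * (g₀ * z * g₀⁻¹) * (a * y * a⁻¹)
            = a * y * ((a⁻¹ * g₀) * z * (a⁻¹ * g₀)⁻¹) * y * a⁻¹ := by group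
          _ = a * (y * y) * z * (y * y) * a⁻¹ := by rw [← he]; group
          _ = a * z * a⁻¹ := by rw [hy2, mul_one, mul_one]
      have hy' : IsConj z (a * y * a⁻¹) := hy.trans (isConj_iff.2 ⟨a, rfl⟩)
      refine ⟨⟨a * y * a⁻¹, hy', mem_of_conj_mem h0 ?_⟩, Subtype.ext he'⟩
      have e : a * y * a⁻¹ * g₀ * z * (a * y * a⁻¹ * g₀)⁻¹ = a * z * a⁻¹ := by
        rw [← he', mul_inv_rev, hinvy hy']; group
      rw [e]
      exact H.mul_mem (H.mul_mem haH hzH) (H.inv_mem haH)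
  rw [← Nat.card_eq_of_bijective Φ hΦ]
  obtain ⟨y₀, hy₀⟩ : ∃ y : Y, True := ⟨(hΦ.2 ⟨z, IsConj.refl z, hzH⟩).choose, trivial⟩
  have hgy : ∀ {y : G}, IsConj z y → y * g₀ ∈ H → g₀ * (y * g₀)⁻¹ = y := fun {y} hy _ => by
    rw [mul_inv_rev, mul_inv_cancel_left, hinvy hy]
  refine odd_of_unique_fixed (fun y : Y => (⟨y₀.1 * y.1 * y₀.1, ?_, ?_⟩ : Y)) ?_ y₀ ?_ ?_
  · exact y.2.1.trans (isConj_iff.2 ⟨y₀.1, by rw [hinvy y₀.2.1]⟩)
  · have e : y₀.1 * y.1 * y₀.1 * g₀ = (y₀.1 * g₀) * (y.1 * g₀)⁻¹ * (y₀.1 * g₀) := by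
      rw [mul_inv_rev, hinvy y.2.1]; group
    rw [e]
    exact H.mul_mem (H.mul_mem y₀.2.2 (H.inv_mem y.2.2)) y₀.2.2
  · intro y
    refine Subtype.ext ?_
    show y₀.1 * (y₀.1 * y.1 * y₀.1) * y₀.1 = y.1
    rw [show y₀.1 * (y₀.1 * y.1 * y₀.1) * y₀.1 = (y₀.1 * y₀.1) * y.1 * (y₀.1 * y₀.1) by group,
      hsq y₀.2.1, one_mul, mul_one]
  · exact Subtype.ext (by show y₀.1 * y₀.1 * y₀.1 = y₀.1; rw [hsq y₀.2.1, one_mul])
  · intro y hfix
    by_contra hne
    have hf : y₀.1 * y.1 * y₀.1 = y.1 := congrArg Subtype.val hfix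
    have hcomm : y.1 * y₀.1 = y₀.1 * y.1 := by
      calc y.1 * y₀.1 = y₀.1 * y.1 * y₀.1 * y₀.1 := by rw [hf]
        _ = y₀.1 * y.1 := by rw [mul_assoc, hsq y₀.2.1, mul_one]
    obtain ⟨a, ha⟩ := isConj_iff.1 y₀.2.1
    have hmem : y₀.1 * y.1 ∈ H := by
      have := H.mul_mem y₀.2.2 (H.inv_mem y.2.2)
      rwa [mul_inv_rev, ← mul_assoc, mul_inv_cancel_right, hinvy y.2.1] at this
    have hz' : a⁻¹ * y₀.1 * a = z := by rw [← ha]; group
    have h := (h1 (a⁻¹ * y.1 * a) (y.2.1.trans (isConj_iff.2 ⟨a⁻¹, by group⟩)) ?_ ?_ a⁻¹).1 ?_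
    · have haH : a ∈ H := by simpa using H.inv_mem h
      have hy₀H : y₀.1 ∈ H := ha ▸ H.mul_mem (H.mul_mem haH hzH) (H.inv_mem haH)
      have := H.mul_mem (H.inv_mem hy₀H) y₀.2.2
      rw [inv_mul_cancel_left] at this
      exact hg₀ this
    · intro e
      exact hne (Subtype.ext (mul_left_cancel (mul_right_cancel (e.trans hz'.symm))))
    · calc a⁻¹ * y.1 * a * z = a⁻¹ * y.1 * a * (a⁻¹ * y₀.1 * a) := by rw [hz']
        _ = a⁻¹ * (y.1 * y₀.1) * a := by group
        _ = a⁻¹ * (y₀.1 * y.1) * a := by rw [hcomm]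
        _ = (a⁻¹ * y₀.1 * a) * (a⁻¹ * y.1 * a) := by group
        _ = z * (a⁻¹ * y.1 * a) := by rw [hz']
    · have e : z * (a⁻¹ * y.1 * a) = (a⁻¹ * y₀.1 * a) * (a⁻¹ * y.1 * a) := by rw [hz']
      rw [mem_map_conj, inv_inv, e]
      convert hmem using 1
      group

/-- Let z be an involution of a finite group G and H a proper subgroup such that z lies in gHg⁻¹ exactly when g ∈ H. Then the following are equivalent: (1) for every conjugate t ≠ z of z commuting with z, the product zt lies in gHg⁻¹ exactly when g ∈ H; (2) z lies in the centre of some Sylow 2-subgroup of G, and for every conjugate t ≠ z of z commuting with z, the centralizer of zt is contained in H. -/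
theorem result {G : Type*} [Group G] [Finite G] (z : G) (hz : orderOf z = 2) (H : Subgroup G) (hH : H ≠ ⊤)
    (h0 : ∀ g : G, z ∈ H.map (MulAut.conj g).toMonoidHom ↔ g ∈ H) :
    (∀ t : G, IsConj z t → t ≠ z → t * z = z * t → ∀ g : G, z * t ∈ H.map (MulAut.conj g).toMonoidHom ↔ g ∈ H) ↔
      ((∃ P : Sylow 2 G, z ∈ (Subgroup.center ↥(P : Subgroup G)).map (P : Subgroup G).subtype) ∧
        ∀ t : G, IsConj z t → t ≠ z → t * z = z * t → Subgroup.centralizer ({z * t} : Set G) ≤ H) := by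
  have hz2 : z * z = 1 := by rw [← sq, ← hz, pow_orderOf_eq_one]
  haveI : Fact (Nat.Prime 2) := ⟨Nat.prime_two⟩
  have hzH := z_mem h0
  have hzi : z⁻¹ = z := inv_eq_of_mul_eq_one_left hz2
  have hodd : Odd H.index := by
    rw [Subgroup.index]
    refine odd_of_unique_fixed (fun x => z • x) (fun x => by rw [smul_smul, hz2, one_smul])
      ((1 : G) : G ⧸ H) ?_ fun x => ?_
    · show ((z * 1 : G) : G ⧸ H) = ((1 : G) : G ⧸ H)
      rw [mul_one, QuotientGroup.eq, mul_one]
      exact H.inv_mem hzH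
    · induction x using QuotientGroup.induction_on with
      | H g =>
        intro hx
        have h : ((z * g : G) : G ⧸ H) = (g : G ⧸ H) := hx
        rw [QuotientGroup.eq, mul_inv_rev, hzi] at h
        have hg : g⁻¹ * z * g⁻¹⁻¹ ∈ H := by rwa [inv_inv]
        rw [QuotientGroup.eq, mul_one]
        exact mem_of_conj_mem h0 hg
  constructor
  · intro h1
    refine ⟨?_, fun t ht htz hc g hg => ?_⟩
    · -- `z` is central in a Sylow subgroup
      have hm := odd_fibre hz2 hH h0 h1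
      generalize hC : Subgroup.centralizer ({z} : Set G) = C
      have hCmem : ∀ x, x ∈ C ↔ x * z = z * x := fun x => by
        rw [← hC, Subgroup.mem_centralizer_singleton_iff]
      let Φ : ↥H ⧸ C.subgroupOf H → {x : G // IsConj z x ∧ x ∈ H} :=
        Quotient.lift (fun h => ⟨h.1 * z * (h.1)⁻¹, isConj_iff.2 ⟨h.1, rfl⟩,
          H.mul_mem (H.mul_mem h.2 hzH) (H.inv_mem h.2)⟩) (by
          intro a b hab
          refine Subtype.ext ?_
          have h : a.1⁻¹ * b.1 * z = z * (a.1⁻¹ * b.1) :=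
            (hCmem _).1 ((QuotientGroup.leftRel_apply (s := C.subgroupOf H)).1 hab)
          show a.1 * z * a.1⁻¹ = b.1 * z * b.1⁻¹
          calc a.1 * z * a.1⁻¹ = a.1 * (z * (a.1⁻¹ * b.1)) * b.1⁻¹ := by group
            _ = a.1 * (a.1⁻¹ * b.1 * z) * b.1⁻¹ := by rw [← h]
            _ = b.1 * z * b.1⁻¹ := by group)
      have hΦ : Function.Bijective Φ := by
        constructor
        · intro x y
          induction x using QuotientGroup.induction_on with
          | H a =>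
            induction y using QuotientGroup.induction_on with
            | H b =>
              intro h
              have e : a.1 * z * a.1⁻¹ = b.1 * z * b.1⁻¹ := congrArg Subtype.val h
              rw [QuotientGroup.eq, Subgroup.mem_subgroupOf, hCmem]
              show a.1⁻¹ * b.1 * z = z * (a.1⁻¹ * b.1)
              calc a.1⁻¹ * b.1 * z = a.1⁻¹ * (b.1 * z * b.1⁻¹) * b.1 := by group
                _ = a.1⁻¹ * (a.1 * z * a.1⁻¹) * b.1 := by rw [e]
                _ = z * (a.1⁻¹ * b.1) := by group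
        · rintro ⟨x, hx, hxH⟩
          obtain ⟨a, rfl⟩ := isConj_iff.1 hx
          exact ⟨((⟨a, mem_of_conj_mem h0 hxH⟩ : ↥H) : ↥H ⧸ C.subgroupOf H), Subtype.ext rfl⟩
      have hrel : Odd (C.relIndex H) := by
        rw [Subgroup.relIndex, Subgroup.index, Nat.card_eq_of_bijective Φ hΦ]
        exact hm
      have hCH : C ≤ H := fun x hx => mem_of_commute h0 ((hCmem x).1 hx)
      have hCodd : Odd C.index := by
        rw [← Subgroup.relIndex_mul_index hCH]
        exact hrel.mul hodd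
      have hzC : z ∈ C := (hCmem z).2 rfl
      obtain ⟨R, hR⟩ := (IsPGroup.of_card (p := 2) (n := 1)
        (by rw [Nat.card_zpowers, Subgroup.orderOf_mk, hz, pow_one]) :
          IsPGroup 2 (Subgroup.zpowers (⟨z, hzC⟩ : C))).exists_le_sylow
      have hRcard : Nat.card ((R : Subgroup C).map C.subtype) = 2 ^ (Nat.card G).factorization 2 := by
        rw [Subgroup.card_map_of_injective C.subtype_injective, R.card_eq_multiplicity,
          ← C.card_mul_index, Nat.factorization_mul Nat.card_pos.ne' Subgroup.index_ne_zero_of_finite,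
          Finsupp.add_apply, Nat.factorization_eq_zero_of_not_dvd (n := C.index) (p := 2)
            (fun h => Nat.not_even_iff_odd.2 hCodd (even_iff_two_dvd.2 h)), add_zero]
      refine ⟨Sylow.ofCard ((R : Subgroup C).map C.subtype) hRcard, ?_⟩
      have hzR : z ∈ (R : Subgroup C).map C.subtype := ⟨_, hR (Subgroup.mem_zpowers _), rfl⟩
      refine ⟨⟨z, hzR⟩, Subgroup.mem_center_iff.2 fun x => Subtype.ext ?_, rfl⟩
      obtain ⟨x, y, -, rfl⟩ := x
      exact (hCmem _).1 y.2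
    · refine (h1 t ht htz hc g).1 (mem_map_conj.2 ?_)
      rw [Subgroup.mem_centralizer_singleton_iff] at hg
      rw [mul_assoc, ← hg, inv_mul_cancel_left]
      exact H.mul_mem hzH (mem_of_commute h0 hc)
  · rintro ⟨⟨P, hzP⟩, hcent⟩ t ht htz hc g
    have hwH : z * t ∈ H := H.mul_mem hzH (mem_of_commute h0 hc)
    refine ⟨fun hw => ?_, fun hg => mem_map_conj.2 (H.mul_mem (H.mul_mem (H.inv_mem hg) hwH) hg)⟩
    generalize hK : H.map (MulAut.conj g).toMonoidHom = K at hw
    have hKodd : Odd K.index := by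
      rw [← hK, Subgroup.index_map_of_bijective (MulAut.conj g).bijective]
      exact hodd
    have ht2 : t * t = 1 := by
      obtain ⟨a, rfl⟩ := isConj_iff.1 ht
      exact conj_sq hz2 a
    have hw2 : (z * t) ^ 2 = 1 := by
      rw [sq, show z * t * (z * t) = z * (t * z) * t by group, hc, ← mul_assoc, hz2, one_mul, ht2]
    have hw2' : (⟨z * t, hw⟩ : K) ^ 2 = 1 := Subtype.ext (by simpa using hw2)
    have hp : IsPGroup 2 (Subgroup.zpowers (⟨z * t, hw⟩ : K)) := by
      intro x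
      obtain ⟨i, hi⟩ := Subgroup.mem_zpowers_iff.1 x.2
      refine ⟨1, Subtype.ext ?_⟩
      rw [pow_one, Subgroup.coe_pow, ← hi, ← zpow_natCast, ← zpow_mul, mul_comm, zpow_mul,
        zpow_natCast, hw2', one_zpow, Subgroup.coe_one]
    obtain ⟨R, hR⟩ := hp.exists_le_sylow
    have hRcard : Nat.card ((R : Subgroup K).map K.subtype) = 2 ^ (Nat.card G).factorization 2 := by
      rw [Subgroup.card_map_of_injective K.subtype_injective, R.card_eq_multiplicity,
        ← K.card_mul_index, Nat.factorization_mul Nat.card_pos.ne' Subgroup.index_ne_zero_of_finite,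
        Finsupp.add_apply, Nat.factorization_eq_zero_of_not_dvd (n := K.index) (p := 2)
          (fun h => Nat.not_even_iff_odd.2 hKodd (even_iff_two_dvd.2 h)), add_zero]
    let Q : Sylow 2 G := Sylow.ofCard ((R : Subgroup K).map K.subtype) hRcard
    obtain ⟨a, ha⟩ := MulAction.exists_smul_eq G P Q
    obtain ⟨⟨z', hz'⟩, hzc, rfl⟩ := hzP
    simp only [Subgroup.coe_subtype] at *
    have hQmem : ∀ x, x ∈ (Q : Subgroup G) ↔ a⁻¹ * x * a ∈ (P : Subgroup G) := fun x => by
      rw [← ha, Sylow.coe_subgroup_smul, Subgroup.mem_pointwise_smul_iff_inv_smul_mem]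
      simp [MulAut.smul_def, mul_assoc]
    have huQ : a * z' * a⁻¹ ∈ (Q : Subgroup G) := by
      rw [hQmem, show a⁻¹ * (a * z' * a⁻¹) * a = z' by group]
      exact hz'
    have hwQ : z' * t ∈ (Q : Subgroup G) := ⟨_, hR (Subgroup.mem_zpowers _), rfl⟩
    have hwP := (hQmem _).1 hwQ
    have hcz : a⁻¹ * (z' * t) * a * z' = z' * (a⁻¹ * (z' * t) * a) :=
      congrArg Subtype.val (Subgroup.mem_center_iff.1 hzc ⟨_, hwP⟩)
    have hcu : a * z' * a⁻¹ ∈ Subgroup.centralizer ({z' * t} : Set G) := by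
      rw [Subgroup.mem_centralizer_singleton_iff]
      calc a * z' * a⁻¹ * (z' * t) = a * (z' * (a⁻¹ * (z' * t) * a)) * a⁻¹ := by group
        _ = a * (a⁻¹ * (z' * t) * a * z') * a⁻¹ := by rw [hcz]
        _ = z' * t * (a * z' * a⁻¹) := by group
    have haH : a ∈ H := mem_of_conj_mem h0 (hcent t ht htz hc hcu)
    have huK : a * z' * a⁻¹ ∈ K := Subgroup.map_subtype_le _ huQ
    rw [← hK, mem_map_conj] at huK
    have hga : g⁻¹ * a ∈ H := mem_of_conj_mem h0 (by
      convert huK using 1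
      group)
    have := H.mul_mem haH (H.inv_mem hga)
    simpa using this

end Cfsg.Agent.S1922
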