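import Cfsg.Statements.S1924
-- import your own Cfsg.Agent.* helpers here
import Cfsg.Agent.Lib.TransferThompson
import Cfsg.Agent.Lib.SylowCount
open Cfsg.Agent

set_option autoImplicit false
open Cfsg

namespace Cfsg.Agent.S1924

/-- A semiregular cyclic 2-group with an odd number of orbits gives an odd permutation. -/
lemma sign_of_semiregular {Ω : Type*} [Fintype Ω] [DecidableEq Ω] (σ : Equiv.Perm Ω) (l m : ℕ)
    (hl : Even l) (hl0 : l ≠ 0) (hm : Odd m) (hord : σ ^ l = 1)
    (hfree : ∀ x n, (σ ^ n) x = x → l ∣ n) (hcard : Fintype.card Ω = l * m) :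
    Equiv.Perm.sign σ = -1 := by
  have hall : ∀ q ∈ σ.cycleType, q = l := by
    intro q hq
    rw [Equiv.Perm.cycleType_def, Multiset.mem_map] at hq
    obtain ⟨c, hc, rfl⟩ := hq
    obtain ⟨hcyc, -⟩ := Equiv.Perm.mem_cycleFactorsFinset_iff.1 (Finset.mem_def.2 hc)
    obtain ⟨x, hx⟩ := hcyc.nonempty_support
    have hxc : c = σ.cycleOf x :=
      Equiv.Perm.cycle_is_cycleOf hx (Finset.mem_def.2 hc)
    have hpow : c ^ c.support.card = 1 := by rw [← hcyc.orderOf]; exact pow_orderOf_eq_one c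
    have h1 : (σ ^ c.support.card) x = x := by
      rw [← Equiv.Perm.cycleOf_pow_apply_self, ← hxc, hpow]; rfl
    have h2 := hfree x _ h1
    have h3 : c.support.card ∣ l := by
      rw [← hcyc.orderOf]
      apply orderOf_dvd_of_pow_eq_one
      have hcl : (c ^ l) x = x := by
        rw [hxc, Equiv.Perm.cycleOf_pow_apply_self, hord]; rfl
      exact (hcyc.pow_eq_one_iff' (Equiv.Perm.mem_support.1 hx)).2 hcl
    exact Nat.dvd_antisymm h3 h2
  have hsupp : σ.support = Finset.univ := by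
    ext x
    simp only [Finset.mem_univ, iff_true, Equiv.Perm.mem_support]
    intro hx
    have h1 := hfree x 1 (by simpa using hx)
    obtain ⟨r, rfl⟩ := hl
    have := Nat.le_of_dvd one_pos h1
    omega
  have hrep := Multiset.eq_replicate_of_mem hall
  have hsum := σ.sum_cycleType
  rw [hsupp, Finset.card_univ, hcard, hrep, Multiset.sum_replicate, smul_eq_mul, mul_comm l m] at hsum
  have hcm : Multiset.card σ.cycleType = m := Nat.eq_of_mul_eq_mul_right (Nat.pos_of_ne_zero hl0) hsum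
  rw [Equiv.Perm.sign_of_cycleType, hrep, hcm, Multiset.sum_replicate, Multiset.card_replicate,
    smul_eq_mul]
  exact ((hl.mul_left m).add_odd hm).neg_one_pow

lemma card_mul_relIndex {G : Type*} [Group G] {H K : Subgroup G} (h : H ≤ K) :
    Nat.card H * H.relIndex K = Nat.card K := by
  rw [← (H.subgroupOf K).card_mul_index, Nat.card_congr (Subgroup.subgroupOfEquivOfLe h).toEquiv]
  rfl

/-- Elements outside a cyclic subgroup of index 2 in a dihedral group are involutions. -/
lemma outside_sq {n : ℕ} (hn : 2 ≤ n) (C : Subgroup (DihedralGroup n)) (hC : IsCyclic C)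
    (hi : C.index = 2) {x : DihedralGroup n} (hx : x ∉ C) : x * x = 1 := by
  obtain ⟨⟨g0, hg0⟩, hgen⟩ := hC.exists_generator
  have hCz : C = Subgroup.zpowers g0 := by
    apply le_antisymm
    · intro y hy
      obtain ⟨k, hk⟩ := Subgroup.mem_zpowers_iff.1 (hgen ⟨y, hy⟩)
      exact Subgroup.mem_zpowers_iff.2 ⟨k, by simpa using congrArg Subtype.val hk⟩
    · exact Subgroup.zpowers_le.2 hg0
  haveI : NeZero n := ⟨by omega⟩
  have hcard := C.card_mul_index
  rw [hi, DihedralGroup.nat_card] at hcard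
  cases g0 with
  | r i =>
    have hle : C ≤ Subgroup.zpowers (DihedralGroup.r (1 : ZMod n)) := by
      rw [hCz, Subgroup.zpowers_le]
      exact Subgroup.mem_zpowers_iff.2 ⟨(i.cast : ℤ), by
        rw [DihedralGroup.r_one_zpow, ZMod.intCast_zmod_cast]⟩
    have heq : C = Subgroup.zpowers (DihedralGroup.r (1 : ZMod n)) := by
      apply Subgroup.eq_of_le_of_card_ge hle
      rw [Nat.card_zpowers, DihedralGroup.orderOf_r_one]
      omega
    cases x with
    | r j =>
      exact absurd (heq ▸ Subgroup.mem_zpowers_iff.2 ⟨(j.cast : ℤ), by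
        rw [DihedralGroup.r_one_zpow, ZMod.intCast_zmod_cast]⟩) hx
    | sr j => exact DihedralGroup.sr_mul_self j
  | sr i =>
    have h2 : Nat.card C = 2 := by
      rw [hCz, Nat.card_zpowers, DihedralGroup.orderOf_sr]
    obtain rfl : n = 2 := by omega
    have : ∀ d : DihedralGroup 2, d * d = 1 := by decide
    exact this x


/-- A consequence of Thompson's transfer lemma. Let G be a finite group, L a subgroup with O²(L) = L, T a Sylow 2-subgroup of L and S a Sylow 2-subgroup of G containing T. Suppose D ≤ S is a dihedral subgroup of order at least 4 (the four-group counts) with D ∩ T = 1 and S = TD as a set of products (so |S| = |T|·|D|), and C ≤ D is cyclic of index 2 in D. If no involution of D outside C is G-conjugate to an involution of the subgroup generated by T and C, and the involution of C is not G-conjugate to any involution of T, then G has a normal subgroup K, containing every Sylow 2-subgroup of L as a Sylow 2-subgroup, with G = KD. -/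
theorem result {G : Type*} [Group G] [Finite G] (L T S D C : Subgroup G) (hL : Cfsg.pResidual 2 ↥L = ⊤)
    (hTL : T ≤ L) (hT2 : IsPGroup 2 T) (hTsyl : ¬ 2 ∣ T.relIndex L)
    (hS2 : IsPGroup 2 S) (hSsyl : ¬ 2 ∣ S.index) (hTS : T ≤ S)
    (hDS : D ≤ S) (hDih : ∃ n : ℕ, 2 ≤ n ∧ Nonempty (↥D ≃* DihedralGroup n)) (hDT : D ⊓ T = ⊥) (hTD : T ⊔ D = S) (hTDc : Nat.card T * Nat.card D = Nat.card S)
    (hCD : C ≤ D) (hC : IsCyclic ↥C) (hCi : C.relIndex D = 2)
    (h1 : ∀ x ∈ D, x ∉ C → orderOf x = 2 → ∀ g : G, g * x * g⁻¹ ∈ T ⊔ C → False)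
    (h2 : ∀ c ∈ C, orderOf c = 2 → ∀ g : G, g * c * g⁻¹ ∈ T → False) :
    ∃ K : Subgroup G, K.Normal ∧ K ⊔ D = ⊤ ∧
      ∀ T' : Subgroup G, T' ≤ L → IsPGroup 2 T' → ¬ 2 ∣ T'.relIndex L → T' ≤ K ∧ ¬ 2 ∣ T'.relIndex K := by
  classical
  haveI : Fact (Nat.Prime 2) := ⟨Nat.prime_two⟩
  obtain ⟨n, hn, ⟨e⟩⟩ := hDih
  set P : Sylow 2 G := hS2.toSylow hSsyl with hPdef
  have hP : (P : Subgroup G) = S := rfl
  set K := Cfsg.pResidual 2 G with hK
  haveI hKn : K.Normal := by rw [hK]; infer_instance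
  have hLK : L ≤ K := by
    have h := TransferPResidual.map_pResidual_subtype_le (p := 2) L
    rw [hL, ← MonoidHom.range_eq_map, Subgroup.range_subtype] at h
    exact h
  have hTK : T ≤ K := hTL.trans hLK
  -- product decomposition
  have hinj : ∀ t₁ ∈ T, ∀ d₁ ∈ D, ∀ t₂ ∈ T, ∀ d₂ ∈ D, t₁ * d₁ = t₂ * d₂ → t₁ = t₂ ∧ d₁ = d₂ := by
    intro t₁ ht₁ d₁ hd₁ t₂ ht₂ d₂ hd₂ h
    have h' : t₂⁻¹ * t₁ = d₂ * d₁⁻¹ := by
      rw [inv_mul_eq_iff_eq_mul, ← mul_assoc, eq_mul_inv_iff_mul_eq]; exact h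
    have hm : t₂⁻¹ * t₁ ∈ D ⊓ T :=
      ⟨h' ▸ D.mul_mem hd₂ (D.inv_mem hd₁), T.mul_mem (T.inv_mem ht₂) ht₁⟩
    rw [hDT, Subgroup.mem_bot, inv_mul_eq_one] at hm
    exact ⟨hm.symm, by subst hm; exact mul_left_cancel h⟩
  have hdec : ∀ s ∈ S, ∃ t ∈ T, ∃ d ∈ D, s = t * d := by
    intro s hs
    let f : T × D → S := fun p => ⟨p.1 * p.2, mul_mem (hTS p.1.2) (hDS p.2.2)⟩
    have hf : Function.Injective f := by
      intro a b h
      obtain ⟨h1, h2⟩ := hinj _ a.1.2 _ a.2.2 _ b.1.2 _ b.2.2 (congrArg Subtype.val h)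
      exact Prod.ext (Subtype.ext h1) (Subtype.ext h2)
    obtain ⟨p, hp⟩ := ((Nat.bijective_iff_injective_and_card f).2
      ⟨hf, by rw [Nat.card_prod, hTDc]⟩).2 ⟨s, hs⟩
    exact ⟨p.1, p.1.2, p.2, p.2.2, (congrArg Subtype.val hp).symm⟩
  have hKD : K ⊔ D = ⊤ := by
    rw [eq_top_iff, ← TransferPResidual.sylow_sup_pResidual P, hP, sup_le_iff]
    exact ⟨hTD ▸ sup_le (hTK.trans le_sup_left) le_sup_right, le_sup_left⟩
  -- involutions outside `C`
  have hout : ∀ x ∈ D, x ∉ C → orderOf x = 2 := by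
    intro x hx hxC
    have hC' : IsCyclic ((C.subgroupOf D).map e.toMonoidHom) := by
      haveI : IsCyclic (C.subgroupOf D) :=
        isCyclic_of_surjective (Subgroup.subgroupOfEquivOfLe hCD).symm.toMonoidHom
          (MulEquiv.surjective _)
      exact isCyclic_of_surjective ((C.subgroupOf D).equivMapOfInjective e.toMonoidHom
        e.injective).toMonoidHom (MulEquiv.surjective _)
    have hi' : ((C.subgroupOf D).map e.toMonoidHom).index = 2 := by
      exact (Subgroup.index_map_equiv (C.subgroupOf D) e).trans hCi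
    have hx' : e ⟨x, hx⟩ ∉ (C.subgroupOf D).map e.toMonoidHom := by
      rintro ⟨y, hy, hye⟩
      have : y = (⟨x, hx⟩ : D) := e.injective hye
      subst this
      exact hxC hy
    have h := outside_sq hn _ hC' hi' hx'
    rw [← map_mul, ← map_one e] at h
    have h' : x * x = 1 := congrArg Subtype.val (e.injective h)
    exact orderOf_eq_prime (by rw [pow_two, h']) (fun h1 => hxC (h1 ▸ one_mem C))
  have hTCS : T ⊔ C ≤ S := sup_le hTS (hCD.trans hDS)
  have hcardC : Nat.card C * 2 = Nat.card D := by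
    rw [← hCi]
    exact card_mul_relIndex hCD
  have hKDC : ∀ x ∈ K, x ∈ D → x ∈ C := by
    intro x hxK hxD
    by_contra hxC
    have hx2 := hout x hxD hxC
    have hne : T ⊔ C ≠ S := fun h => h1 x hxD hxC hx2 1 (by rw [h]; simpa using hDS hxD)
    have hrel : (T ⊔ C).relIndex (P : Subgroup G) = 2 := by
      rw [hP]
      have hmul := card_mul_relIndex hTCS
      have hge : Nat.card T * Nat.card C ≤ Nat.card ↥(T ⊔ C : Subgroup G) := by
        rw [← Nat.card_prod]
        refine Nat.card_le_card_of_injective (fun p : T × C =>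
          (⟨p.1 * p.2, Subgroup.mul_mem_sup p.1.2 p.2.2⟩ : ↥(T ⊔ C : Subgroup G))) ?_
        intro a b h
        obtain ⟨h1, h2⟩ := hinj _ a.1.2 _ (hCD a.2.2) _ b.1.2 _ (hCD b.2.2) (congrArg Subtype.val h)
        exact Prod.ext (Subtype.ext h1) (Subtype.ext h2)
      have hr1 : (T ⊔ C).relIndex S ≠ 1 := fun h =>
        hne (le_antisymm hTCS (Subgroup.relIndex_eq_one.1 h))
      have hr0 : (T ⊔ C).relIndex S ≠ 0 := fun h => by
        rw [h, mul_zero] at hmul; exact absurd hmul.symm Nat.card_pos.ne'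
      rw [← hTDc, ← hcardC] at hmul
      have hpos : 0 < Nat.card T * Nat.card C := Nat.mul_pos Nat.card_pos Nat.card_pos
      have : (T ⊔ C).relIndex S ≤ 2 := by
        by_contra hgt
        have := Nat.mul_le_mul hge (Nat.lt_of_not_le hgt : 3 ≤ (T ⊔ C).relIndex S)
        rw [hmul] at this
        nlinarith
      omega
    obtain ⟨M, hMn, hM, hxM⟩ := TransferThompson.thompson_transfer P (T ⊔ C) (hP ▸ hTCS) hrel hx2
      (hP ▸ hDS hxD) (fun g hg => h1 x hxD hxC hx2 g hg)
    haveI := hMn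
    exact hxM (TransferPResidual.pResidual_le_of_index (k := 1) (by rw [hM, pow_one]) hxK)
  have hbot : K ⊓ D = ⊥ := by
    by_contra hne
    set C1 := K ⊓ D with hC1
    have hC1C : C1 ≤ C := fun x hx => hKDC x hx.1 hx.2
    haveI : IsCyclic C1 := by
      haveI := hC
      exact isCyclic_of_injective (Subgroup.inclusion hC1C) (Subgroup.inclusion_injective hC1C)
    obtain ⟨⟨a, ha⟩, hgen⟩ := IsCyclic.exists_generator (α := C1)
    obtain ⟨j, hj⟩ := (hS2.to_le hDS).to_le (inf_le_right : C1 ≤ D) |>.exists_card_eq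
    have hoa : orderOf a = 2 ^ j := by
      rw [← hj, ← Subgroup.orderOf_mk a ha]
      exact orderOf_eq_card_of_forall_mem_zpowers hgen
    obtain ⟨i, rfl⟩ : ∃ i, j = i + 1 := by
      refine ⟨j - 1, ?_⟩
      rcases Nat.eq_zero_or_pos j with rfl | h
      · exact absurd (Subgroup.card_eq_one.1 (by rw [hj, pow_zero])) hne
      · omega
    -- the relevant index
    have hSK : Nat.card ↥(S ⊓ K : Subgroup G) = Nat.card T * Nat.card C1 := by
      rw [← Nat.card_prod]
      symm
      refine Nat.card_eq_of_bijective (fun p : T × C1 =>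
        (⟨p.1 * p.2, mul_mem (hTS p.1.2) (hDS p.2.2.2), mul_mem (hTK p.1.2) p.2.2.1⟩ :
          ↥(S ⊓ K : Subgroup G))) ⟨?_, ?_⟩
      · intro a b h
        obtain ⟨h1, h2⟩ := hinj _ a.1.2 _ a.2.2.2 _ b.1.2 _ b.2.2.2 (congrArg Subtype.val h)
        exact Prod.ext (Subtype.ext h1) (Subtype.ext h2)
      · rintro ⟨s, hs, hsK⟩
        obtain ⟨t, ht, d, hd, rfl⟩ := hdec s hs
        have hdK : d ∈ K := by
          have := mul_mem (inv_mem (hTK ht)) hsK
          simpa [← mul_assoc] using this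
        exact ⟨(⟨t, ht⟩, ⟨d, hdK, hd⟩), rfl⟩
    have hTSK : T ≤ S ⊓ K := le_inf hTS hTK
    have hrel1 : T.relIndex (S ⊓ K) = 2 ^ (i + 1) := by
      have h := card_mul_relIndex hTSK
      rw [hSK, hj] at h
      exact Nat.eq_of_mul_eq_mul_left Nat.card_pos h
    obtain ⟨m, hm, hidx⟩ : ∃ m, Odd m ∧ (T.subgroupOf K).index = 2 ^ (i + 1) * m := by
      refine ⟨(S ⊓ K).relIndex K, ?_, ?_⟩
      · rw [Subgroup.inf_relIndex_right, SylowCount.relIndex_eq_sup S K]
        rw [Nat.odd_iff, ← Nat.two_dvd_ne_zero]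
        intro h
        exact hSsyl (h.trans (Subgroup.relIndex_dvd_index_of_le le_sup_left))
      · rw [← hrel1, Subgroup.relIndex_mul_relIndex _ _ _ hTSK inf_le_right]
        rfl
    haveI : Fintype (↥K ⧸ T.subgroupOf K) := Fintype.ofFinite _
    let ρ := MulAction.toPermHom ↥K (↥K ⧸ T.subgroupOf K)
    let a' : ↥K := ⟨a, ha.1⟩
    have hsign := sign_of_semiregular (ρ a') (2 ^ (i + 1)) m (by simp [Nat.even_pow]) (by positivity) hm
      (by
        rw [← map_pow, show a' ^ 2 ^ (i + 1) = 1 from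
          Subtype.ext (by change a ^ 2 ^ (i + 1) = 1; rw [← hoa, pow_orderOf_eq_one]), map_one])
      (by
        intro x r hx
        rw [← map_pow] at hx
        change a' ^ r • x = x at hx
        induction x using QuotientGroup.induction_on with
        | _ k =>
          rw [MulAction.Quotient.smul_mk, QuotientGroup.eq, Subgroup.mem_subgroupOf] at hx
          simp only [smul_eq_mul, Subgroup.coe_mul, Subgroup.coe_inv, Subgroup.coe_pow, mul_inv_rev] at hx
          have hmem : (k : G)⁻¹ * a ^ r * k ∈ T := by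
            have := inv_mem hx
            simpa [a', mul_assoc] using this
          rw [← hoa]
          apply orderOf_dvd_of_pow_eq_one
          by_contra hne'
          obtain ⟨u, hu⟩ : ∃ u, orderOf (a ^ r) = 2 ^ u := by
            obtain ⟨u, -, hu⟩ := (Nat.dvd_prime_pow Nat.prime_two).1 (hoa ▸ orderOf_pow_dvd r)
            exact ⟨u, hu⟩
          have hu0 : u ≠ 0 := by
            rintro rfl
            exact hne' (orderOf_eq_one_iff.1 (by simpa using hu))
          have hc : orderOf ((a ^ r) ^ 2 ^ (u - 1)) = 2 := by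
            rw [orderOf_pow_of_dvd (by positivity) (by rw [hu]; exact pow_dvd_pow 2 (by omega)), hu,
              Nat.pow_div (by omega) (by norm_num), show u - (u - 1) = 1 by omega, pow_one]
          refine h2 _ (pow_mem (pow_mem (hC1C ha) r) _) hc (k : G)⁻¹ ?_
          rw [inv_inv]
          have hp := pow_mem hmem (2 ^ (u - 1))
          have hq : ((k : G)⁻¹ * a ^ r * k) ^ 2 ^ (u - 1) = (k : G)⁻¹ * (a ^ r) ^ 2 ^ (u - 1) * k := by
            have := conj_pow (a := (k : G)⁻¹) (b := a ^ r) (i := 2 ^ (u - 1))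
            rwa [inv_inv] at this
          rwa [hq] at hp)
      (by rw [← Nat.card_eq_fintype_card, ← Subgroup.index_eq_card, hidx])
    let f : ↥K →* ℤˣ := Equiv.Perm.sign.comp ρ
    have h := TransferPResidual.pResidual_le_ker (p := 2) f (IsPGroup.of_card (n := 1)
      (by rw [Nat.card_eq_fintype_card]; rfl))
    have e0 : Cfsg.pResidual 2 ↥K = ⊤ := TransferPResidual.pResidual_pResidual
    rw [e0] at h
    have h3 : f a' = 1 := h (Subgroup.mem_top _)
    rw [show f a' = -1 from hsign] at h3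
    exact absurd h3 (by decide)
  refine ⟨K, hKn, hKD, fun T' hT'L hT'2 hT'odd => ⟨hT'L.trans hLK, ?_⟩⟩
  have hSKT : S ⊓ K = T := by
    refine le_antisymm ?_ (le_inf hTS hTK)
    rintro s ⟨hs, hsK⟩
    obtain ⟨t, ht, d, hd, rfl⟩ := hdec s hs
    have hdK : d ∈ K ⊓ D := ⟨by
      have := mul_mem (inv_mem (hTK ht)) hsK
      simpa [← mul_assoc] using this, hd⟩
    rw [hbot, Subgroup.mem_bot] at hdK
    rw [hdK, mul_one]; exact ht
  rw [← Subgroup.relIndex_mul_relIndex T' L K hT'L hLK, Nat.prime_two.dvd_mul, not_or]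
  refine ⟨hT'odd, fun h => hSsyl ?_⟩
  have hdvd : L.relIndex K ∣ T.relIndex K := Dvd.intro_left _ (Subgroup.relIndex_mul_relIndex T L K hTL hLK)
  have h' : 2 ∣ S.relIndex K := by
    rw [← Subgroup.inf_relIndex_right, hSKT]; exact h.trans hdvd
  rw [SylowCount.relIndex_eq_sup S K] at h'
  exact h'.trans (Subgroup.relIndex_dvd_index_of_le le_sup_left)

end Cfsg.Agent.S1924
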