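import Cfsg.Statements.S1930
import Cfsg.Agent.Lib.QuadMeetGroup20
-- import your own Cfsg.Agent.* helpers here

set_option autoImplicit false
open Cfsg

namespace Cfsg.Agent.S1930

open Subgroup Cfsg.Agent
open scoped Pointwise

/-- Inside a finite group let G be a nontrivial subgroup and R an r-subgroup (r a prime) normalizing G, with the order of G prime to r. Let p > 3 be a prime with F*(G) = O_p(G), and let P be the intersection of all R-invariant Sylow p-subgroups of G. Then P has a nontrivial characteristic subgroup that is normalized by G. -/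
theorem result {X : Type*} [Group X] [Finite X] (G R : Subgroup X) (r : ℕ) [Fact r.Prime] (hR : IsPGroup r ↥R) (hcop : (Nat.card ↥G).Coprime r) (hnorm : R ≤ Subgroup.normalizer (G : Set X)) (hG : G ≠ ⊥) (p : ℕ) [Fact p.Prime] (hp : 3 < p) (hF : Cfsg.generalizedFittingSubgroup ↥G = Cfsg.pCore p ↥G) (P : Subgroup X) (hP : P = ⨅ S : {S : Sylow p ↥G // ∀ a ∈ R, ((S : Subgroup ↥G).map G.subtype).map (MulAut.conj a).toMonoidHom = (S : Subgroup ↥G).map G.subtype}, ((S : Sylow p ↥G) : Subgroup ↥G).map G.subtype) : ∃ C : Subgroup ↥P, C.Characteristic ∧ C ≠ ⊥ ∧ G ≤ Subgroup.normalizer ((C.map P.subtype : Subgroup X) : Set X) := by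
  have hco : QuadMeet20.Coact G R := by
    obtain ⟨n, hn⟩ := IsPGroup.iff_card.1 hR
    exact ⟨hnorm, hn ▸ (hcop.symm.pow_left n), CoprimeAction.isSolvable_of_isPGroup hR⟩
  have hmem : ∀ S, QuadMeet20.IsSyl p G S → R ≤ normalizer (S : Set X) → P ≤ S := by
    intro S hS hSR
    obtain ⟨Q, rfl⟩ := hS.exists_sylow
    rw [hP]
    exact iInf_le_of_le ⟨Q, fun a ha => RankOne.conjBy_eq_self_iff.2 (hSR ha)⟩ le_rfl
  have hge : ∀ U : Subgroup X, (∀ S, QuadMeet20.IsSyl p G S → U ≤ S) → U ≤ P := by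
    intro U hU
    rw [hP]
    exact le_iInf fun S => hU _ (QuadMeet20.isSyl_coe (S : Sylow p G))
  obtain ⟨S₀, hS₀, hS₀R⟩ := hco.exists_inv (p := p)
  have hPG : P ≤ G := (hmem S₀ hS₀ hS₀R).trans hS₀.1
  have hPp : IsPGroup p P := hS₀.isPGroup.to_le (hmem S₀ hS₀ hS₀R)
  have hchar : CharPBasic.HasCharP p G := CharPLocal.gen_eq_pCore_iff.1 hF
  have hT0 : Cfsg.pCore p G ≠ ⊥ := by
    intro h
    have h1 : centralizer ((Cfsg.pCore p G : Subgroup G) : Set G) ≤ Cfsg.pCore p G := hchar
    rw [h] at h1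
    refine hG ((eq_bot_iff_forall G).2 fun x hx => ?_)
    have h2 : (⟨x, hx⟩ : G) ∈ (⊥ : Subgroup G) := h1 (mem_centralizer_iff.2 fun y hy => by
      rw [mem_bot.1 hy, one_mul, mul_one])
    exact congrArg Subtype.val (mem_bot.1 h2)
  have hrp : r ≠ p := by
    rintro rfl
    obtain ⟨x, hx, hx1⟩ := (Subgroup.bot_or_exists_ne_one _).resolve_left hT0
    obtain ⟨k, hk⟩ := HallCore.isPGroup_pCore r G ⟨x, hx⟩
    have h1 : orderOf x ∣ r ^ k := orderOf_dvd_of_pow_eq_one (congrArg Subtype.val hk)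
    have h2 : (orderOf x).Coprime (orderOf x) :=
      ((hcop.pow_right k).coprime_dvd_left (orderOf_dvd_natCard x)).coprime_dvd_right h1
    exact hx1 (orderOf_eq_one_iff.1 ((Nat.coprime_self _).1 h2))
  -- the group `Y = GR`
  set Y := G ⊔ R
  have hGY : G ≤ Y := le_sup_left
  have hRY : R ≤ Y := le_sup_right
  set N := G.subgroupOf Y
  set R' := R.subgroupOf Y
  set P' := P.subgroupOf Y
  haveI : N.Normal := (Subgroup.normal_subgroupOf_iff_le_normalizer hGY).2 (sup_le le_normalizer hnorm)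
  have hNR : N ⊔ R' = ⊤ := by rw [← subgroupOf_sup hGY hRY, subgroupOf_self]
  have hN : N.map Y.subtype = G := map_subgroupOf_eq_of_le hGY
  have hR'' : R'.map Y.subtype = R := map_subgroupOf_eq_of_le hRY
  have hR' : IsPGroup r R' := hR.of_equiv (subgroupOfEquivOfLe hRY).symm
  have hcopN : (Nat.card N).Coprime r := by
    rwa [Nat.card_congr (subgroupOfEquivOfLe hGY).toEquiv]
  have hcN : CharPBasic.HasCharP p N :=
    CharPBasic.hasCharP_of_equiv (subgroupOfEquivOfLe hGY).symm hchar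
  set T := Cfsg.pCore p Y
  have hTN : T ≤ N := by
    rw [← QuotientGroup.ker_mk' N, ← Subgroup.map_eq_bot_iff]
    have h1 : T.map (QuotientGroup.mk' N) ≤ R'.map (QuotientGroup.mk' N) := by
      calc T.map (QuotientGroup.mk' N) ≤ (N ⊔ R').map (QuotientGroup.mk' N) :=
            map_mono (hNR ▸ le_top)
        _ = R'.map (QuotientGroup.mk' N) := by
            rw [Subgroup.map_sup, QuotientGroup.map_mk'_self, bot_sup_eq]
    exact disjoint_self.1 (IsPGroup.disjoint_of_ne p r hrp.symm _ _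
      ((HallCore.isPGroup_pCore p Y).map _) ((hR'.map _).to_le h1))
  have hTN' : (Cfsg.pCore p N).map N.subtype = T := by
    rw [HallCore.map_subtype_pCore]; exact inf_eq_left.2 hTN
  have hTP : T ≤ P' := by
    intro t ht
    refine mem_subgroupOf.2 (hge _ ?_ (mem_map_of_mem Y.subtype ht))
    intro S hS
    obtain ⟨Q, rfl⟩ := hS.exists_sylow
    rw [← hTN', Subgroup.map_map]
    rintro _ ⟨n, hn, rfl⟩
    refine ⟨subgroupOfEquivOfLe hGY n, HallCore.pCore_le_sylow Q ?_, rfl⟩
    exact HallCore.map_pCore_le (f := (subgroupOfEquivOfLe hGY).toMonoidHom)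
      (subgroupOfEquivOfLe hGY).surjective (mem_map_of_mem _ hn)
  have hc : ∀ x ∈ N, x ∈ centralizer (T : Set Y) → x ∈ T := by
    intro x hx hxT
    have h1 : (⟨x, hx⟩ : N) ∈ Cfsg.pCore p N := hcN (mem_centralizer_iff.2 fun y hy =>
      Subtype.ext (mem_centralizer_iff.1 hxT y (hTN' ▸ mem_map_of_mem N.subtype hy)))
    exact hTN' ▸ mem_map_of_mem N.subtype h1
  have hPmeet : ∀ g ∈ P', QuadMeet20.InMeet p N R' g := by
    intro g hg
    refine ⟨mem_subgroupOf.2 (hPG hg), fun S hS hSR => ?_⟩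
    have h1 := hS.map Y.subtype
    rw [hN] at h1
    have h2 : (g : X) ∈ S.map Y.subtype :=
      hmem _ h1 (hR'' ▸ (map_mono hSR).trans (le_normalizer_map _)) hg
    exact (mem_map_iff_mem Y.subtype_injective).1 h2
  have hPY : P ≤ Y := hPG.trans hGY
  have hnormal := QuadMeetGroup20.kInfLower_normal (p := p) (by
    have h4 : p ≠ 4 := fun h => absurd ((Fact.out : p.Prime)) (h ▸ by decide)
    omega) hrp hNR hR' hcopN hc P' (hPp.of_equiv (subgroupOfEquivOfLe hPY).symm) hTP hPmeet
  refine ⟨Cfsg.kInfLower P, ConjFunctorKInf.kInfLower_characteristic P, ?_, ?_⟩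
  · intro h
    have h1 := (ConjFunctorKInf.centralizer_kInf P hPp).1
    rw [h] at h1
    have hP0 : P = ⊥ := (eq_bot_iff_forall P).2 fun x hx =>
      congrArg Subtype.val (mem_bot.1 (h1 (mem_centralizer_iff.2 fun y hy => by
        rw [mem_bot.1 hy, one_mul, mul_one]) : (⟨x, hx⟩ : P) ∈ (⊥ : Subgroup P)))
    have hT : T = ⊥ := by
      rw [eq_bot_iff]
      refine hTP.trans ?_
      rw [show P' = ⊥ by simp [P', hP0]]
    rw [← hTN', map_eq_bot_iff_of_injective _ N.subtype_injective] at hT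
    refine hT0 (eq_bot_iff.2 fun x hx => ?_)
    have h2 : (subgroupOfEquivOfLe hGY).symm x ∈ Cfsg.pCore p N :=
      HallCore.map_pCore_le (f := (subgroupOfEquivOfLe hGY).symm.toMonoidHom)
        (subgroupOfEquivOfLe hGY).symm.surjective (mem_map_of_mem _ hx)
    rw [hT, mem_bot, MulEquiv.map_eq_one_iff] at h2
    exact mem_bot.2 h2
  · have h : (Cfsg.kInfLower P).map P.subtype =
        ((Cfsg.kInfLower P').map P'.subtype).map Y.subtype := by
      rw [← ConjFunctorKInf.map_kInfLower (subgroupOfEquivOfLe hPY), Subgroup.map_map,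
        Subgroup.map_map]
      rfl
    haveI := hnormal
    rw [h]
    refine le_trans ?_ (le_normalizer_map _)
    rw [normalizer_eq_top]
    exact hGY.trans (le_of_eq (by rw [← MonoidHom.range_eq_map, range_subtype]))
end Cfsg.Agent.S1930
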