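import Cfsg.Statements.S1931
import Cfsg.Agent.Lib.LocalResidual20
-- import your own Cfsg.Agent.* helpers here

set_option autoImplicit false
open Cfsg

namespace Cfsg.Agent.S1931

open Cfsg.Agent.LocalResidual20 Subgroup
open scoped commutatorElement Pointwise

variable {X : Type*} [Group X] [Finite X]

/-- The case `r = p`. -/
theorem same_prime {G R : Subgroup X} {p : ℕ} [Fact p.Prime] [IsMulCommutative R]
    (hnorm : R ≤ normalizer (G : Set X)) (hco : (Nat.card R).Coprime (Nat.card G))
    (hnc : ¬ IsCyclic R) (hGp : (Nat.card G).Coprime p)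
    (hloc : ∀ a ∈ R, a ≠ 1 → R ≤ centralizer (Res p (G ⊓ centralizer ({a} : Set X)) : Set X)) :
    G ≤ centralizer (R : Set X) := by
  haveI := Cfsg.Agent.ComponentsBasic.isSolvable_of_commutative (H := R)
  refine CoprimeGen.le_of_centralizers hnc hnorm hco fun a ha ha1 => ?_
  set C := G ⊓ centralizer ({a} : Set X) with hC
  have hRC : R ≤ normalizer (C : Set X) := by
    refine CoprimeAction.le_normalizer_inf hnorm fun x hx => ?_
    exact le_normalizer (mem_centralizer_singleton_iff.2
      (congrArg Subtype.val (mul_comm' (⟨x, hx⟩ : R) ⟨a, ha⟩)))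
  have hcoC : (Nat.card R).Coprime (Nat.card C) := CoprimeAction.coprime_of_le_right inf_le_left hco
  have hcpC : ∀ x ∈ C, (orderOf x).Coprime p := fun x hx =>
    hGp.coprime_dvd_left (G.orderOf_dvd_natCard (Subgroup.mem_inf.1 hx).1)
  refine le_centralizer_iff.1 (CoprimeAction.le_centralizer_of_commutator_commutator_eq_bot hRC hcoC
    (Or.inl inferInstance) (commutator_eq_bot_iff_le_centralizer.2 fun x hx => ?_))
  have hxC : x ∈ C := CoprimeAction.commutator_le_self_of_le_normalizer hRC hx
  refine le_centralizer_iff.1 (hloc a ha ha1) (mem_res_of_commute hxC (hcpC x hxC) ?_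
    (commutator_centralizes (hloc a ha ha1) (le_normalizer.trans (normalizer_le_res C)) hx))
  refine mem_centralizer_iff.2 fun y hy => ?_
  rw [CharPBasic.eq_one_of_coprime_of_mem (isPGroup_op C) hy (hcpC y (op_le C hy)), one_mul, mul_one]

/-- The case `r ≠ p`. -/
theorem other_prime {G R : Subgroup X} {p r : ℕ} [Fact p.Prime] [Fact r.Prime] [IsMulCommutative R]
    (hR : IsPGroup r R) (hp : 5 ≤ p) (hrp : r ≠ p)
    (hnorm : R ≤ normalizer (G : Set X)) (hco : (Nat.card R).Coprime (Nat.card G))
    (hnc : ¬ IsCyclic R)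
    (hloc : ∀ a ∈ R, a ≠ 1 → R ≤ centralizer (Res p (G ⊓ centralizer ({a} : Set X)) : Set X)) :
    Res p G ≤ centralizer (R : Set X) := by
  -- the `O_q`
  have hQ : ∀ q : ℕ, q.Prime → q ≠ p → Cfsg.pCoreOf q G ≤ centralizer (R : Set X) := by
    intro q hq hqp
    haveI := Fact.mk hq
    set Q := Cfsg.pCoreOf q G
    refine CoprimeGen.le_of_centralizers hnc (hnorm.trans (normalizer_le_op G))
      (CoprimeAction.coprime_of_le_right (op_le G) hco) fun a ha ha1 => ?_
    set C := G ⊓ centralizer ({a} : Set X)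
    refine le_trans (fun x hx => ?_) (le_centralizer_iff.1 (hloc a ha ha1))
    have h1 : Q ⊓ centralizer ({a} : Set X) ≤ Cfsg.pCoreOf q C :=
      le_op (inf_le_inf_right _ (op_le G))
        (CoprimeAction.le_normalizer_inf (inf_le_left.trans (le_normalizer.trans (normalizer_le_op G)))
          (inf_le_right.trans le_normalizer))
        ((isPGroup_op G).to_le inf_le_left)
    refine mem_res (map_mono ((ComponentsFitting.pCore_le_fitting hq).trans
      ComponentsFitting.fitting_le_gen) (h1 hx)) ?_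
    obtain ⟨k, hk⟩ := IsPGroup.iff_orderOf.mp (isPGroup_op (p := q) C) ⟨x, h1 hx⟩
    rw [Subgroup.orderOf_mk] at hk
    rw [hk]
    exact Nat.Coprime.pow_left _ ((Nat.coprime_primes hq Fact.out).2 hqp)
  -- the layer
  set E := Lay G
  have hEG : E ≤ G := map_subtype_le _
  have hNE : normalizer (G : Set X) ≤ normalizer (E : Set X) :=
    ComponentsCores.normalizer_le_normalizer_map_subtype G _
  have hEO : E ≤ centralizer (Cfsg.pCoreOf p G : Set X) := by
    rintro _ ⟨e, he, rfl⟩
    refine mem_centralizer_iff.2 ?_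
    rintro _ ⟨t, ht, rfl⟩
    rw [← map_mul, ← map_mul, mem_centralizer_iff.1 (ComponentsFitting.layer_le_centralizer_fitting he) t
      (ComponentsFitting.pCore_le_fitting Fact.out ht)]
  obtain ⟨q, hq, hqR, a, ha, b, hb, hab, haq, hbq, hb1, hna⟩ :=
    CoprimeGen.exists_pair_of_not_isCyclic R hnc
  obtain rfl : q = r := by
    obtain ⟨k, hk⟩ := IsPGroup.iff_card.1 hR
    rw [hk] at hqR
    exact (Nat.prime_dvd_prime_iff_eq hq Fact.out).1 (hq.dvd_of_dvd_pow hqR)
  set R₀ := CoprimeGen.pairSubgroup a b hab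
  have hR₀ : R₀ ≤ R := CoprimeGen.pairSubgroup_le ha hb
  have hob : orderOf b = q := orderOf_eq_prime hbq hb1
  have hoa : orderOf a = q := orderOf_eq_prime haq fun h => hna (h ▸ one_mem _)
  have hcard : Nat.card R₀ = q ^ 2 := by
    have h1 := CoprimeGen.card_pairSubgroup_dvd a b hab
    rw [hoa, hob, ← pow_two] at h1
    obtain ⟨i, hi, hi'⟩ := (Nat.dvd_prime_pow hq).1 h1
    have hlt : ¬ Nat.card R₀ ≤ q := fun h => hna (by
      have hle : zpowers b ≤ R₀ := zpowers_le.2 (CoprimeGen.right_mem_pairSubgroup a b hab)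
      rw [Subgroup.eq_of_le_of_card_ge hle (by rw [Nat.card_zpowers, hob]; exact h)]
      exact CoprimeGen.left_mem_pairSubgroup a b hab)
    rw [hi'] at hlt ⊢
    obtain rfl : i = 2 := by
      by_contra hne
      exact hlt ((Nat.pow_le_pow_right hq.pos (show i ≤ 1 by omega)).trans_eq (pow_one q))
    rfl
  have hS : Setup p q E R₀ := by
    refine ⟨hp, hrp, hR.to_le hR₀, ⟨hR₀.trans (hnorm.trans hNE), ?_, CoprimeGen.isSolvable_pairSubgroup a b hab⟩,
      fun x hx y hy => congrArg Subtype.val (mul_comm' (⟨x, hR₀ hx⟩ : R) ⟨y, hR₀ hy⟩), ?_, hcard, ?_⟩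
    · exact CoprimeAction.coprime_of_le_left hR₀ (CoprimeAction.coprime_of_le_right hEG hco)
    · intro x hx
      obtain ⟨m, n, rfl⟩ := CoprimeGen.mem_pairSubgroup_iff.1 hx
      rw [(hab.zpow_zpow m n).mul_pow, ← zpow_natCast, ← zpow_natCast (b ^ n), zpow_comm, zpow_natCast,
        zpow_comm b, zpow_natCast, haq, hbq, one_zpow, one_zpow, one_mul]
    · intro c hc hc1
      refine hR₀.trans ((hloc c (hR₀ hc) hc1).trans (centralizer_le (SetLike.coe_subset_coe.2 ?_)))
      refine res_le_iff.2 fun x hx hxc => mem_res (fst_mono (inf_le_inf_right _ hEG) ?_ hx) hxc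
      exact CoprimeAction.le_normalizer_inf (inf_le_left.trans (le_normalizer.trans hNE))
        (inf_le_right.trans le_normalizer)
  have hR₀E : R₀ ≤ centralizer (E : Set X) := by
    refine hS.R_fixes (lay_perfect G) ?_
    refine le_trans (le_op ((op_le E).trans hEG)
      ((le_normalizer.trans hNE).trans (normalizer_le_op E)) (isPGroup_op E)) ?_
    exact le_centralizer_iff.1 hEO
  have hER : E ≤ centralizer (R : Set X) := by
    set K := G ⊓ centralizer ({b} : Set X)
    have hEK : E ≤ K := le_inf hEG fun x hx => mem_centralizer_singleton_iff.2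
      (mem_centralizer_iff.1 (hR₀E (CoprimeGen.right_mem_pairSubgroup a b hab)) x hx)
    exact (perfect_le_res (lay_perfect G) (lay_le_fst inf_le_left hEK)).trans
      (le_centralizer_iff.1 (hloc b hb hb1))
  -- conclusion
  set O := Cfsg.pCoreOf p G
  set M := centralizer (R : Set X) ⊓ centralizer (O : Set X)
  have hMO : M ≤ normalizer (O : Set X) := inf_le_right.trans (centralizer_le_normalizer _)
  have hF : Fst G ≤ O ⊔ M := by
    rw [Fst, Cfsg.generalizedFittingSubgroup, ComponentsFitting.fittingSubgroup_eq_iSup,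
      Subgroup.map_sup, Subgroup.map_iSup]
    refine sup_le (le_sup_of_le_right (le_inf hER hEO)) (iSup_le fun s => ?_)
    rcases eq_or_ne (s : ℕ) p with h | h
    · rw [h]; exact le_sup_left
    refine le_sup_of_le_right (le_inf (hQ s (Nat.prime_of_mem_primeFactors s.2) h) ?_)
    rintro _ ⟨z, hz, rfl⟩
    refine mem_centralizer_iff.2 ?_
    rintro _ ⟨t, ht, rfl⟩
    rw [← map_mul, ← map_mul, (ComponentsFitting.commute_pCore Fact.out
      (Nat.prime_of_mem_primeFactors s.2) (Ne.symm h) t z ht hz).eq]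
  refine res_le_iff.2 fun x hx hxc => ?_
  have hx' : x ∈ (O : Set X) * (M : Set X) := by
    rw [← Subgroup.coe_mul_of_right_le_normalizer_left O M hMO]
    exact hF hx
  obtain ⟨t, ht, k, hk, rfl⟩ := hx'
  simp only at hxc ⊢
  obtain ⟨n, hn⟩ := isPGroup_op G ⟨t, ht⟩
  have htn : t ^ p ^ n = 1 := congrArg Subtype.val hn
  have hcomm : Commute t k := mem_centralizer_iff.1 hk.2 t ht
  obtain ⟨s, hs⟩ := exists_pow_eq_self_of_coprime (n := p ^ n) (x := t * k) (hxc.pow_right n).symm
  rw [← hs, hcomm.mul_pow, htn, one_mul]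
  exact pow_mem (pow_mem hk.1 _) _

/-- Inside a finite group let G be a subgroup and R a noncyclic abelian r-subgroup (r a prime) normalizing G, with the order of G prime to r, and let p > 3 be a prime. Suppose that for every nonidentity a ∈ R, R centralizes the subgroup O^p(F*(C_G(a))) generated by the p'-elements of the generalized Fitting subgroup of C_G(a). Then R centralizes O^p(F*(G)). -/
theorem result {X : Type*} [Group X] [Finite X] (G R : Subgroup X) (r : ℕ) [Fact r.Prime] (hR : IsPGroup r ↥R) (hcop : (Nat.card ↥G).Coprime r) (hnorm : R ≤ Subgroup.normalizer (G : Set X)) (hab : IsMulCommutative ↥R) (hnc : ¬ IsCyclic ↥R) (p : ℕ) [Fact p.Prime] (hp : 3 < p) (hloc : ∀ a ∈ R, a ≠ 1 → R ≤ Subgroup.centralizer ((((Cfsg.pResidual p ↥(Cfsg.generalizedFittingSubgroup ↥(G ⊓ Subgroup.centralizer ({a} : Set X)))).map (Cfsg.generalizedFittingSubgroup ↥(G ⊓ Subgroup.centralizer ({a} : Set X))).subtype).map (G ⊓ Subgroup.centralizer ({a} : Set X)).subtype : Subgroup X) : Set X)) : R ≤ Subgroup.centralizer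 ((((Cfsg.pResidual p ↥(Cfsg.generalizedFittingSubgroup ↥G)).map (Cfsg.generalizedFittingSubgroup ↥G).subtype).map G.subtype : Subgroup X) : Set X) := by
  haveI := hab
  obtain ⟨k, hk⟩ := IsPGroup.iff_card.1 hR
  have hco : (Nat.card R).Coprime (Nat.card G) := by
    rw [hk]; exact (hcop.pow_right k).symm
  rcases eq_or_ne r p with rfl | hrp
  · exact le_centralizer_iff.1
      ((LocalResidual20.res_le G).trans (same_prime hnorm hco hnc hcop hloc))
  · have h5 : 5 ≤ p := by
      rcases Nat.lt_or_ge p 5 with h | h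
      · obtain rfl : p = 4 := by omega
        exact absurd (Fact.out : Nat.Prime 4) (by norm_num)
      · exact h
    exact le_centralizer_iff.1 (other_prime hR h5 hrp hnorm hco hnc hloc)
end Cfsg.Agent.S1931
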