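import Cfsg.Statements.S1932
import Cfsg.Agent.Lib.QuadOffenderAbelian
import Cfsg.Agent.Lib.HallConstrained
import Cfsg.Agent.S2010

set_option autoImplicit false
open Cfsg

namespace Cfsg.Agent.S1932

open Subgroup Cfsg.Agent.QuadOffenderS4
open scoped commutatorElement

universe u

/-- With `C(O₂) ≤ O₂`, every largest elementary abelian subgroup of `S` lies in `O₂(G)`. -/
theorem max_le_pCore {G : Type u} [Group G] [Finite G]
    (hS4 : ¬ Cfsg.Involves (Equiv.Perm (Fin 4)) G)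
    (hcon : centralizer (Cfsg.pCore 2 G : Set G) ≤ Cfsg.pCore 2 G) (S : Sylow 2 G)
    (hcl : ∀ x ∈ (S : Subgroup G), ∀ y ∈ (S : Subgroup G), ∀ z ∈ (S : Subgroup G),
      (x * y * x⁻¹ * y⁻¹) * z = z * (x * y * x⁻¹ * y⁻¹))
    {A : Subgroup G} (hA : Offenders.IsMaxIn 2 (S : Subgroup G) A) : A ≤ Cfsg.pCore 2 G := by
  classical
  haveI : Fact (Nat.Prime 2) := ⟨Nat.prime_two⟩
  obtain ⟨hAS, ⟨hAc, hA2⟩, hAmax⟩ := hA
  have hAc' : ∀ x ∈ A, ∀ y ∈ A, x * y = y * x := fun x hx y hy =>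
    congrArg Subtype.val (hAc.is_comm.comm ⟨x, hx⟩ ⟨y, hy⟩)
  have hA2' : ∀ x ∈ A, x * x = 1 := fun x hx => by rw [← pow_two]; exact hA2 x hx
  set Q := Cfsg.pCore 2 G with hQdef
  haveI : Q.Normal := HallCore.pCore_normal 2 G
  have hQp : IsPGroup 2 Q := HallCore.isPGroup_pCore 2 G
  have hQS : Q ≤ (S : Subgroup G) := HallCore.pCore_le_sylow S
  set Z := Q ⊓ centralizer (Q : Set G) with hZdef
  haveI : Z.Normal := inferInstance
  have hZab : ∀ x ∈ Z, ∀ y ∈ Z, x * y = y * x := fun x hx y hy =>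
    mem_centralizer_iff.mp hy.2 x hx.1
  set W := Cfsg.omegaOne 2 Z with hWdef
  have hWe : Cfsg.IsElementaryAbelian 2 W := Offenders.omegaOne_ea hZab
  have hWZ : W ≤ Z := Offenders.omegaOne_le Z
  have hWS : W ≤ (S : Subgroup G) := (hWZ.trans inf_le_left).trans hQS
  haveI : W.Normal := by
    constructor
    intro w hw g
    have h1 : w ∈ (W : Subgroup G).comap (MulAut.conj g).toMonoidHom := by
      refine (closure_le _).mpr ?_ hw
      rintro x ⟨hx, hx2⟩
      exact Offenders.mem_omegaOne (Normal.conj_mem ‹Z.Normal› x hx g)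
        (show (g * x * g⁻¹) ^ 2 = 1 by rw [conj_pow, hx2, mul_one, mul_inv_cancel])
    exact h1
  have hW2 : ∀ w ∈ W, w * w = 1 := fun w hw => by rw [← pow_two]; exact hWe.2 w hw
  set f := QuotientGroup.mk' Z
  set M := (centralizer (Q.map f : Set (G ⧸ Z))).comap f with hM
  have hMmem : ∀ g, g ∈ M ↔ ∀ q ∈ Q, q * g * q⁻¹ * g⁻¹ ∈ Z := by
    intro g
    rw [hM, mem_comap, mem_centralizer_iff]
    constructor
    · intro h q hq
      refine (QuotientGroup.eq_one_iff _).mp ?_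
      show f (q * g * q⁻¹ * g⁻¹) = 1
      rw [map_mul, map_mul, map_mul, map_inv, map_inv, h _ (mem_map_of_mem f hq)]
      group
    · rintro h _ ⟨q, hq, rfl⟩
      have h1 : f (q * g * q⁻¹ * g⁻¹) = 1 := (QuotientGroup.eq_one_iff _).mpr (h q hq)
      rw [map_mul, map_mul, map_mul, map_inv, map_inv, mul_inv_eq_one, mul_inv_eq_iff_eq_mul] at h1
      exact h1
  haveI : M.Normal := by
    haveI : (Q.map f).Normal := Normal.map inferInstance f (QuotientGroup.mk'_surjective Z)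
    infer_instance
  have hAM : A ≤ M := fun a ha => (hMmem a).mpr fun q hq => by
    refine ⟨?_, mem_centralizer_iff.mpr fun y hy => (hcl q (hQS hq) a (hAS ha) y (hQS hy)).symm⟩
    have := mul_mem hq (Normal.conj_mem ‹Q.Normal› _ (inv_mem hq) a)
    simpa [mul_assoc] using this
  by_contra hle
  letI : CommGroup W := { (inferInstance : Group W) with mul_comm := hWe.1.is_comm.comm }
  let endHom : MulAut W →* AddMonoid.End (Additive W) :=
    { toFun := fun e => MonoidHom.toAdditive e.toMonoidHom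
      map_one' := rfl
      map_mul' := fun _ _ => rfl }
  let ρ0 : G →* AddMonoid.End (Additive W) := endHom.comp (MulAut.conjNormal : G →* MulAut W)
  let ρ : (G ⧸ ρ0.ker) →* AddMonoid.End (Additive W) := QuotientGroup.lift ρ0.ker ρ0 le_rfl
  set π := QuotientGroup.mk' ρ0.ker with hπ
  have hπs : Function.Surjective π := QuotientGroup.mk'_surjective _
  have hρ : ∀ (g : G) (v : Additive W),
      ((Additive.toMul (ρ (π g) v) : W) : G) = g * (Additive.toMul v : W) * g⁻¹ := fun g v => rfl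
  have hρinj : Function.Injective ρ := by
    intro x y h
    obtain ⟨a, rfl⟩ := hπs x
    obtain ⟨b, rfl⟩ := hπs y
    refine QuotientGroup.eq.mpr (MonoidHom.mem_ker.mpr ?_)
    have hm := map_mul ρ0 a⁻¹ a
    rw [inv_mul_cancel, map_one] at hm
    rw [map_mul, show ρ0 b = ρ0 a from h.symm, ← hm]
  set T := S.mapSurjective hπs
  have hquadS : ∀ a ∈ (T : Subgroup (G ⧸ ρ0.ker)), ∀ b ∈ (T : Subgroup (G ⧸ ρ0.ker)), ∀ v : Additive W,
      ρ a (ρ b v + v) = ρ b v + v := by
    rintro _ ⟨a, ha, rfl⟩ _ ⟨b, hb, rfl⟩ v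
    set w : W := Additive.toMul v
    refine Additive.toMul.injective (Subtype.ext ?_)
    rw [hρ, toMul_add, Subgroup.coe_mul, hρ]
    have hwi : (w : G)⁻¹ = w := inv_eq_of_mul_eq_one_right (hW2 w w.2)
    have := hcl b hb w (hWS w.2) a ha
    rw [hwi] at this
    rw [← this, mul_inv_cancel_right]
  have hquad : ∀ P : Subgroup (G ⧸ ρ0.ker), IsPGroup 2 P → ∀ a ∈ P, ∀ b ∈ P, ∀ v : Additive W,
      ρ a (ρ b v + v) = ρ b v + v := by
    intro P hP a ha b hb v
    obtain ⟨P', hPP'⟩ := hP.exists_le_sylow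
    obtain ⟨c, hc⟩ := MulAction.exists_smul_eq (G ⧸ ρ0.ker) P' T
    have hmem : ∀ x ∈ P, c * x * c⁻¹ ∈ (T : Subgroup (G ⧸ ρ0.ker)) := fun x hx => by
      rw [← hc]
      exact ⟨x, hPP' hx, rfl⟩
    have key := hquadS _ (hmem a ha) _ (hmem b hb) (ρ c v)
    have e : ∀ x : (G ⧸ ρ0.ker), ∀ u, ρ (c * x * c⁻¹) (ρ c u) = ρ c (ρ x u) := fun x u => by
      rw [← QuadOffenderAbelian.apply_mul, inv_mul_cancel_right, QuadOffenderAbelian.apply_mul]
    rw [e, ← QuadOffenderAbelian.apply_add, e] at key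
    have := congrArg (ρ c⁻¹) key
    simpa only [← QuadOffenderAbelian.apply_mul, inv_mul_cancel_left, inv_mul_cancel,
      QuadOffenderAbelian.apply_one] using this
  have hMC : M ⊓ ρ0.ker ≤ Q := by
    refine HallCore.le_pCore (p := 2) ?_
    rintro ⟨g, hgM, hgC⟩
    obtain ⟨k, m, hm, hkm⟩ := Nat.exists_eq_pow_mul_and_not_dvd (orderOf_pos g).ne' 2 (by norm_num)
    set g' := g ^ 2 ^ k with hg'
    have hcop : (orderOf g').Coprime 2 := by
      rw [hg', orderOf_pow' _ (by positivity), hkm, Nat.gcd_eq_right (Dvd.intro m rfl),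
        Nat.mul_div_cancel_left _ (by positivity)]
      exact (Nat.prime_two.coprime_iff_not_dvd.mpr hm).symm
    have hW' : ∀ w ∈ W, Commute g' w := by
      intro w hw
      refine Commute.pow_left ?_ _
      have h1 : g * w * g⁻¹ = w := congrArg (fun e : AddMonoid.End (Additive W) =>
        ((Additive.toMul (e (Additive.ofMul ⟨w, hw⟩)) : W) : G)) (MonoidHom.mem_ker.mp hgC)
      exact mul_inv_eq_iff_eq_mul.mp h1
    have hZ' : ∀ z ∈ Z, Commute g' z :=
      S2010.commute_of_fixed_involutions (hQp.to_le inf_le_left) hZab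
        (fun z hz => Normal.conj_mem ‹Z.Normal› z hz g') hcop
        fun z hz hz2 => hW' z (Offenders.mem_omegaOne hz hz2)
    have hQ' : ∀ q ∈ Q, Commute g' q :=
      OmegaCoprime.commute_of_fixed_comms hQp (fun q hq => Normal.conj_mem ‹Q.Normal› q hq g') hcop
        fun q hq => hZ' _ (by
          have := (hMmem g').mp (pow_mem hgM _) q⁻¹ (inv_mem hq)
          simpa [mul_assoc] using this)
    obtain ⟨j, hj⟩ := hQp ⟨g', hcon (mem_centralizer_iff.mpr fun q hq => (hQ' q hq).eq.symm)⟩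
    refine ⟨k + j, Subtype.ext ?_⟩
    show g ^ 2 ^ (k + j) = 1
    rw [pow_add, pow_mul]
    exact congrArg Subtype.val hj
  set X := A.map π with hX
  have hAC : A ⊓ ρ0.ker ≤ Q := le_trans (inf_le_inf_right _ hAM) hMC
  have hXne : X ≠ ⊥ := by
    rw [hX, Ne, Subgroup.map_eq_bot_iff, QuotientGroup.ker_mk']
    exact fun h => hle (le_trans (le_inf le_rfl h) hAC)
  have hXO : ∀ x ∈ X, x ∈ Cfsg.pCore 2 (G ⧸ ρ0.ker) → x = 1 := by
    rintro _ ⟨a, ha, rfl⟩ hxc
    haveI : (Cfsg.pCore 2 (G ⧸ ρ0.ker)).Normal := HallCore.pCore_normal 2 (G ⧸ ρ0.ker)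
    set N := M ⊓ (Cfsg.pCore 2 (G ⧸ ρ0.ker)).comap π
    have hN : N ≤ Q := by
      refine HallCore.le_pCore (p := 2) ?_
      rintro ⟨n, hn⟩
      obtain ⟨k, hk⟩ := HallCore.isPGroup_pCore 2 (G ⧸ ρ0.ker) ⟨π n, hn.2⟩
      have h1 : π (n ^ 2 ^ k) = 1 := by rw [map_pow]; exact congrArg Subtype.val hk
      obtain ⟨j, hj⟩ := hQp ⟨n ^ 2 ^ k, hMC ⟨pow_mem hn.1 _, (QuotientGroup.eq_one_iff _).mp h1⟩⟩
      refine ⟨k + j, Subtype.ext ?_⟩
      show n ^ 2 ^ (k + j) = 1
      rw [pow_add, pow_mul]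
      exact congrArg Subtype.val hj
    have haQ : a ∈ Q := hN ⟨hAM ha, hxc⟩
    refine (QuotientGroup.eq_one_iff a).mpr (MonoidHom.mem_ker.mpr (AddMonoidHom.ext fun v => ?_))
    refine Additive.toMul.injective (Subtype.ext ?_)
    show a * ((Additive.toMul v : W) : G) * a⁻¹ = _
    rw [mem_centralizer_iff.mp (hWZ (Additive.toMul v).2).2 a haQ, mul_inv_cancel_right]
    rfl
  have hoff : Nat.card (Additive W) ≤ Nat.card X * Nat.card (fixedPts ρ X) := by
    have hcomm : ∀ w ∈ W, ∀ q ∈ A ⊓ ρ0.ker, w * q = q * w := by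
      intro w hw q hq
      have h1 : q * w * q⁻¹ = w := congrArg (fun e : AddMonoid.End (Additive W) =>
        ((Additive.toMul (e (Additive.ofMul ⟨w, hw⟩)) : W) : G)) (MonoidHom.mem_ker.mp hq.2)
      exact (mul_inv_eq_iff_eq_mul.mp h1).symm
    set E := W ⊔ (A ⊓ ρ0.ker)
    have hEe : Cfsg.IsElementaryAbelian 2 E :=
      Offenders.ea_sup hWe (Offenders.ea_mono ⟨hAc, hA2⟩ inf_le_left) hcomm
    have hES : E ≤ (S : Subgroup G) := sup_le hWS (inf_le_left.trans hAS)
    have h1 := hAmax E hES hEe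
    have h2 := OffendersReplace.card_sup_mul_card_inf W (A ⊓ ρ0.ker)
      (le_trans (fun w hw => mem_centralizer_iff.mpr fun q hq => (hcomm w hw q hq).symm)
        (centralizer_le_normalizer _))
    have hcardA : Nat.card A = Nat.card X * Nat.card (A ⊓ ρ0.ker : Subgroup G) := by
      have h3 := index_ker (π.comp A.subtype)
      rw [MonoidHom.range_eq_map, ← Subgroup.map_map, ← MonoidHom.range_eq_map, range_subtype,
        ← MonoidHom.comap_ker, QuotientGroup.ker_mk'] at h3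
      change (ρ0.ker.subgroupOf A).index = Nat.card X at h3
      rw [← h3, ← card_mul_index (ρ0.ker.subgroupOf A), mul_comm]
      congr 1
      rw [← card_map_of_injective A.subtype_injective, subgroupOf_map_subtype, inf_comm]
    have hWA : Nat.card (W ⊓ (A ⊓ ρ0.ker) : Subgroup G) ≤ Nat.card (fixedPts ρ X) := by
      refine Nat.card_le_card_of_injective (fun w => ⟨Additive.ofMul ⟨(w : G), w.2.1⟩, ?_⟩) ?_
      · rintro _ ⟨a, ha, rfl⟩
        refine Additive.toMul.injective (Subtype.ext ?_)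
        rw [hρ, toMul_ofMul]
        show a * (w : G) * a⁻¹ = w
        rw [hAc' a ha _ w.2.2.1, mul_inv_cancel_right]
      · intro v w h
        exact Subtype.ext (congrArg (fun u : fixedPts ρ X => ((Additive.toMul (u : Additive W) : W) : G)) h :)
    rw [show Nat.card (Additive W) = Nat.card W from Nat.card_congr Additive.toMul]
    refine Nat.le_of_mul_le_mul_right ?_ (Nat.card_pos (α := (A ⊓ ρ0.ker : Subgroup G)))
    calc Nat.card W * Nat.card (A ⊓ ρ0.ker : Subgroup G)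
        = Nat.card E * Nat.card (W ⊓ (A ⊓ ρ0.ker) : Subgroup G) := h2.symm
      _ ≤ Nat.card A * Nat.card (fixedPts ρ X) := Nat.mul_le_mul h1 hWA
      _ = _ := by rw [hcardA]; ring
  obtain ⟨_, ⟨a, ha, rfl⟩, _, ⟨a', ha', rfl⟩, g, v, w, hv0, hw0, hne, hav, haw, hbw, hbv⟩ :=
    QuadOffenderAbelian.exists_pair ρ hρinj
      (fun v => congrArg Additive.ofMul (Subtype.ext (hW2 _ (Additive.toMul v).2) :
        (Additive.toMul v : W) * Additive.toMul v = 1))
      hquad X ((S.isPGroup'.to_le hAS).map π) hXne hXO hoff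
  obtain ⟨x, rfl⟩ := hπs g
  rw [← map_inv, ← map_mul, ← map_mul] at hbw hbv
  let val : Additive W → G := fun u => ((Additive.toMul u : W) : G)
  have hinj : Function.Injective val := fun u u' h => Additive.toMul.injective (Subtype.ext h)
  exact hS4 (QuadOffenderAbelian.involves_s4_of_action W hW2 a (x * a' * x⁻¹) (hA2' a ha)
    (by rw [conj_mul, hA2' a' ha', mul_one, mul_inv_cancel])
    (Additive.toMul v).2 (Additive.toMul w).2
    (fun h => hv0 (hinj (h : val v = val 0))) (fun h => hw0 (hinj (h : val w = val 0)))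
    (fun h => hne (hinj h))
    ((hρ a v).symm.trans (congrArg val hav)) ((hρ a w).symm.trans (congrArg val haw))
    ((hρ _ w).symm.trans (congrArg val hbw)) ((hρ _ v).symm.trans (congrArg val hbv)))

/-- The factorization. -/
theorem result {G : Type*} [Group G] [Finite G] (hcon : Cfsg.IsPConstrained 2 G) (hS4 : ¬ Cfsg.Involves (Equiv.Perm (Fin 4)) G) (S : Sylow 2 G) (hcl : Subgroup.lowerCentralSeries (S : Subgroup G) 2 = ⊥) : Subgroup.normalizer ((Cfsg.thompsonSubgroupOf 2 (S : Subgroup G)) : Set G) ⊔ Cfsg.pPrimeCore 2 G = ⊤ := by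
  haveI : Fact (Nat.Prime 2) := ⟨Nat.prime_two⟩
  set N := Cfsg.pPrimeCore 2 G
  haveI : N.Normal := HallCore.pPrimeCore_normal 2 G
  set π := QuotientGroup.mk' N
  have hπs : Function.Surjective π := QuotientGroup.mk'_surjective N
  have hNp : ¬ 2 ∣ Nat.card N := Nat.prime_two.coprime_iff_not_dvd.mp
    (HallCore.coprime_card_pPrimeCore 2 G).symm
  set T := S.mapSurjective hπs with hT
  have hS4' : ¬ Cfsg.Involves (Equiv.Perm (Fin 4)) (G ⧸ N) := by
    rintro ⟨K, R, hR, ⟨e⟩⟩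
    refine hS4 (involves_of_surjective' (K := K.comap π)
      (e.toMonoidHom.comp ((QuotientGroup.mk' (R.subgroupOf K)).comp (π.subgroupComap K))) ?_)
    refine e.surjective.comp ((QuotientGroup.mk'_surjective _).comp fun y => ?_)
    obtain ⟨g, hg⟩ := hπs y
    exact ⟨⟨g, show π g ∈ K from hg ▸ y.2⟩, Subtype.ext hg⟩
  have hcl' : ∀ x ∈ (T : Subgroup (G ⧸ N)), ∀ y ∈ (T : Subgroup (G ⧸ N)), ∀ z ∈ (T : Subgroup (G ⧸ N)),
      (x * y * x⁻¹ * y⁻¹) * z = z * (x * y * x⁻¹ * y⁻¹) := by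
    rintro _ ⟨x, hx, rfl⟩ _ ⟨y, hy, rfl⟩ _ ⟨z, hz, rfl⟩
    have h1 : ⁅⁅x, y⁆, z⁆ ∈ Subgroup.lowerCentralSeries (S : Subgroup G) 2 :=
      Subgroup.commutator_mem_commutator (Subgroup.commutator_mem_commutator hx hy) hz
    rw [hcl, mem_bot, commutatorElement_eq_one_iff_mul_comm, commutatorElement_def] at h1
    rw [← map_inv, ← map_inv, ← map_mul, ← map_mul, ← map_mul, ← map_mul, ← map_mul, h1]
  set Q := Cfsg.pCore 2 (G ⧸ N)
  have hmax : ∀ A, Offenders.IsMaxIn 2 (T : Subgroup (G ⧸ N)) A → A ≤ Q := fun A hA =>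
    max_le_pCore hS4' ((HallConstrained.isPConstrained_iff (p := 2)).mp hcon) T hcl' hA
  have hQT : Q ≤ (T : Subgroup (G ⧸ N)) := HallCore.pCore_le_sylow T
  have hJ : Cfsg.thompsonSubgroupOf 2 (T : Subgroup (G ⧸ N)) = Cfsg.thompsonSubgroupOf 2 Q := by
    rw [Offenders.thompsonOf_eq, Offenders.thompsonOf_eq]
    congr 1
    ext A
    constructor
    · exact fun hA => ⟨hmax A hA, hA.2.1, fun B hB hBe => hA.2.2 B (hB.trans hQT) hBe⟩
    · intro hA
      refine ⟨hA.1.trans hQT, hA.2.1, fun B hB hBe => ?_⟩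
      obtain ⟨A₀, hA₀⟩ := FrobeniusThompson.exists_isMaxIn (p := 2) (T : Subgroup (G ⧸ N))
      exact (hA₀.2.2 B hB hBe).trans (hA.2.2 A₀ (hmax A₀ hA₀) hA₀.2.1)
  have hinj : Function.Injective (π.comp (S : Subgroup G).subtype) := by
    rw [injective_iff_map_eq_one]
    intro x hx
    have hd : (S : Subgroup G) ⊓ N = ⊥ := by
      obtain ⟨k, hk⟩ := IsPGroup.iff_card.mp S.isPGroup'
      refine Subgroup.inf_eq_bot_of_coprime ?_
      rw [hk]
      exact Nat.Coprime.pow_left k (Nat.prime_two.coprime_iff_not_dvd.mpr hNp)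
    exact Subtype.ext (mem_bot.mp (hd ▸ ⟨x.2, (QuotientGroup.eq_one_iff _).mp hx⟩))
  rw [eq_top_iff]
  intro g _
  have hg : π g ∈ normalizer (Cfsg.thompsonSubgroupOf 2 (T : Subgroup (G ⧸ N)) : Set (G ⧸ N)) := by
    rw [hJ]
    refine FrobeniusThompson.normalizer_le_normalizer_thompsonOf _ ?_
    haveI : Q.Normal := HallCore.pCore_normal 2 _
    rw [normalizer_eq_top]
    exact mem_top _
  rw [hT, Sylow.coe_mapSurjective, ← FrobeniusThompson.map_thompsonOf _ _ hinj] at hg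
  obtain ⟨y, hy, hxy⟩ := FrobeniusThompson.exists_mem_normalizer_of_map N hNp
    (S.isPGroup'.to_le (Offenders.thompsonOf_le _)) hg
  have hk : y⁻¹ * g ∈ N := QuotientGroup.eq.mp hxy
  rw [← mul_inv_cancel_left y g]
  exact mul_mem (mem_sup_left hy) (mem_sup_right hk)

end Cfsg.Agent.S1932
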