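import Cfsg.Statements.S1935
import Cfsg.Agent.Lib.QuadDegenMax78
import Cfsg.Agent.Lib.PGVReplace

set_option autoImplicit false
open Cfsg
open scoped commutatorElement

namespace Cfsg.Agent.S1935

open Cfsg.Agent.QuadDegen78 Cfsg.Agent.QuadDegenMax78 Cfsg.Agent.PGVBasic Cfsg.Agent.PGVReplace

/-- Linear version: `Γ` a finite `p`-group acting faithfully on `W` of exponent `p`. -/
theorem linear {Γ W : Type*} [Group Γ] [Finite Γ] [AddCommGroup W] [Finite W]
    [DistribMulAction Γ W] [FaithfulSMul Γ W] {p : ℕ} [Fact p.Prime] (hp : Odd p)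
    (hΓ : IsPGroup p Γ) (hW : ∀ w : W, p • w = 0) {E : Subgroup Γ} (hne : E ≠ ⊥)
    (hcomm : ∀ a ∈ E, ∀ b ∈ E, Commute a b) (hpow : ∀ a ∈ E, a ^ p = 1)
    (hE : Nat.card W ≤ wt W E) :
    ∃ A : Subgroup Γ, A ≠ ⊥ ∧ Nat.card W ≤ wt W A ∧
      (∀ a ∈ A, ∀ b ∈ A, Commute a b) ∧ (∀ a ∈ A, a ^ p = 1) ∧
      (∀ a ∈ A, ∀ b ∈ A, ∀ v : W, b • (a • v - v) = a • v - v) ∧
      ∀ h : Γ, ∀ a ∈ A, h * a * h⁻¹ ∈ Subgroup.normalizer (A : Set Γ) := by
  classical
  -- a quadratic offender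
  obtain ⟨X0, hX0ne, hX0q, hX0⟩ : ∃ X : Subgroup Γ, X ≠ ⊥ ∧
      (∀ a ∈ X, ∀ b ∈ X, ∀ v : W, b • (a • v - v) = a • v - v) ∧ Nat.card W ≤ wt W X := by
    have hbot : wt W (⊥ : Subgroup Γ) = Nat.card W := by
      have h : fixA W (⊥ : Subgroup Γ) = ⊤ := by
        rw [eq_top_iff]
        intro w _ x hx
        rw [Subgroup.mem_bot.mp hx, one_smul]
      rw [wt, h, Subgroup.card_bot, one_mul, AddSubgroup.card_top]
    have : Nonempty {B : Subgroup Γ // B ≤ E} := ⟨⟨E, le_rfl⟩⟩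
    obtain ⟨⟨A0, hA0⟩, hmax⟩ :=
      Finite.exists_max fun B : {B : Subgroup Γ // B ≤ E} => wt W (B : Subgroup Γ)
    obtain ⟨A1, hA1, hA1ne, hA1max⟩ : ∃ A1, A1 ≤ E ∧ A1 ≠ ⊥ ∧ Maxi W A1 := by
      by_cases h0 : A0 = ⊥
      · refine ⟨E, le_rfl, hne, fun B hB => ?_⟩
        have h1 : wt W B ≤ wt W A0 := hmax ⟨B, hB⟩
        rw [h0, hbot] at h1
        exact h1.trans hE
      · exact ⟨A0, hA0, h0, fun B hB => hmax ⟨B, hB.trans hA0⟩⟩
    obtain ⟨X, hXA, hXne, hXfix, hXw⟩ := exists_star hW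
      (fun a ha b hb => hcomm a (hA1 ha) b (hA1 hb)) (fun a ha => hpow a (hA1 ha)) hA1ne hA1max
    exact ⟨X, hXne, fun a ha b hb v => hXfix b hb a (hXA ha) v, hXw⟩
  -- the representation
  let R' := AddMonoid.End (W × ZMod p)
  have : Finite R' := Finite.of_injective (fun f : R' => (f : W × ZMod p → W × ZMod p))
    DFunLike.coe_injective
  let ρ0 : Γ →* R' :=
    { toFun := fun g => AddMonoidHom.prodMap (DistribSMul.toAddMonoidHom W g) (AddMonoidHom.id _)
      map_one' := AddMonoidHom.ext fun z => Prod.ext (one_smul Γ z.1) rfl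
      map_mul' := fun g h => AddMonoidHom.ext fun z => Prod.ext (mul_smul g h z.1) rfl }
  have ρ0_apply : ∀ g z, ρ0 g z = (g • z.1, z.2) := fun g z => rfl
  let ρ : Γ →* R'ˣ := ρ0.toHomUnits
  have ρ_val : ∀ g, ((ρ g : R'ˣ) : R') = ρ0 g := fun g => rfl
  have ρ_inj : Function.Injective ρ := by
    intro g h e
    refine FaithfulSMul.eq_of_smul_eq_smul fun w : W => ?_
    have := congrArg (fun u : R'ˣ => ((u : R') ((w, 0) : W × ZMod p)).1) e
    exact this
  have hchar : ∀ x : R', p • x = 0 := by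
    intro x
    refine AddMonoidHom.ext fun z => ?_
    have hz : p • z = 0 := Prod.ext (hW z.1) (by simp)
    show p • x z = 0
    rw [← map_nsmul, hz, map_zero]
  have hh : Half R' := by
    intro x
    obtain ⟨k, hk⟩ := hp
    refine ⟨k + 1, ?_⟩
    rw [← two_nsmul, ← mul_nsmul', show (k + 1) * 2 = p + 1 by omega, add_nsmul, hchar, one_nsmul,
      zero_add]
  let N : AddSubgroup R' :=
    { carrier := {f | (∀ m : W, f (m, 0) = 0) ∧ (f (0, 1)).2 = 0}
      zero_mem' := ⟨fun _ => rfl, rfl⟩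
      add_mem' := fun {f g} hf hg => ⟨fun m => by
          show f (m, 0) + g (m, 0) = 0
          rw [hf.1, hg.1, add_zero], by
          show (f (0, 1) + g (0, 1)).2 = 0
          rw [Prod.snd_add, hf.2, hg.2, add_zero]⟩
      neg_mem' := fun {f} hf => ⟨fun m => by
          show -f (m, 0) = 0
          rw [hf.1, neg_zero], by
          show (-f (0, 1)).2 = 0
          rw [Prod.snd_neg, hf.2, neg_zero]⟩ }
  have hN : ∀ h ∈ ρ.range, ∀ v ∈ N, ((h : R'ˣ) : R') * v ∈ N := by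
    rintro _ ⟨g, rfl⟩ f hf
    refine ⟨fun m => ?_, ?_⟩
    · show ρ0 g (f (m, 0)) = 0
      rw [hf.1, map_zero]
    · show (ρ0 g (f (0, 1))).2 = 0
      rw [ρ0_apply]; exact hf.2
  have hext : ∀ f ∈ N, ∀ g ∈ N, (f (0, 1)).1 = (g (0, 1)).1 → f = g := by
    intro f hf g hg e
    refine AddMonoidHom.ext fun z => ?_
    have hz : z = (z.1, (0 : ZMod p)) + z.2.val • ((0 : W), (1 : ZMod p)) := by
      ext <;> simp
    rw [hz]
    refine (AddMonoidHom.map_add f _ _).trans (Eq.trans ?_ (AddMonoidHom.map_add g _ _).symm)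
    refine congrArg₂ (· + ·) ((hf.1 _).trans (hg.1 _).symm) ?_
    refine (AddMonoidHom.map_nsmul f _ _).trans (Eq.trans ?_ (AddMonoidHom.map_nsmul g _ _).symm)
    exact congrArg _ (Prod.ext e (hf.2.trans hg.2.symm))
  have hfixcard : ∀ X : Subgroup Γ, Nat.card ↥(fixN N (X.map ρ)) = Nat.card ↥(fixA W X) := by
    intro X
    refine Nat.card_eq_of_bijective
      (fun f : ↥(fixN N (X.map ρ)) => (⟨((f : R') (0, 1)).1, fun x hx => ?_⟩ : ↥(fixA W X))) ⟨?_, ?_⟩
    · have h := congrArg (fun g : R' => (g (0, 1)).1) (f.2.2 (ρ x) ⟨x, hx, rfl⟩)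
      exact h
    · intro f g e
      exact Subtype.ext (hext _ f.2.1 _ g.2.1 (congrArg Subtype.val e))
    · rintro ⟨v, hv⟩
      let l : ZMod p →+ W := ZMod.lift p ⟨zmultiplesHom W v, by
        rw [zmultiplesHom_apply, natCast_zsmul]; exact hW v⟩
      have l1 : l 1 = v := by
        have := ZMod.lift_coe p ⟨zmultiplesHom W v, by
          rw [zmultiplesHom_apply, natCast_zsmul]; exact hW v⟩ 1
        simpa using this
      let f : R' := (AddMonoidHom.inl W (ZMod p)).comp (l.comp (AddMonoidHom.snd W (ZMod p)))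
      have hf : ∀ z, f z = (l z.2, 0) := fun z => rfl
      refine ⟨⟨f, ⟨fun m => ?_, ?_⟩, ?_⟩, Subtype.ext ?_⟩
      · rw [hf, map_zero]; rfl
      · rw [hf]
      · rintro _ ⟨x, hx, rfl⟩
        refine AddMonoidHom.ext fun z => ?_
        show ρ0 x (f z) = f z
        rw [hf, ρ0_apply]
        refine Prod.ext ?_ rfl
        have hz : l z.2 = z.2.val • v := by
          conv_lhs => rw [← ZMod.natCast_zmod_val z.2, ← nsmul_one, map_nsmul, l1]
        show x • l z.2 = l z.2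
        rw [hz]
        exact ((fixA W X).nsmul_mem hv _) x hx
      · show (f (0, 1)).1 = v
        rw [hf]; exact l1
  have hquad : ∀ X : Subgroup Γ, Quad (X.map ρ) ↔
      ∀ a ∈ X, ∀ b ∈ X, ∀ v : W, b • (a • v - v) = a • v - v := by
    intro X
    constructor
    · intro h a ha b hb v
      have := congrArg (fun g : R' => (g (v, 0)).1) (h _ ⟨b, hb, rfl⟩ _ ⟨a, ha, rfl⟩)
      change b • (a • v - v) - (a • v - v) = 0 at this
      exact sub_eq_zero.1 this
    · rintro h _ ⟨b, hb, rfl⟩ _ ⟨a, ha, rfl⟩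
      refine AddMonoidHom.ext fun z => ?_
      show ρ0 b (ρ0 a z - z) - (ρ0 a z - z) = 0
      simp only [ρ0_apply, Prod.fst_sub, Prod.snd_sub, sub_self]
      exact Prod.ext (sub_eq_zero.2 (h a ha b hb z.1)) (by simp)
  have hH : IsPGroup p ↥ρ.range := hΓ.of_surjective ρ.rangeRestrict ρ.rangeRestrict_surjective
  obtain ⟨A', hA'H, hA'ne, hA'q, hA'w, hA'n⟩ := exists_twoSubnormal (p := p) hh hH (N := N) hN
    (m := Nat.card W) ⟨X0.map ρ, Subgroup.map_le_range ρ X0,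
      fun h => hX0ne ((Subgroup.map_eq_bot_iff_of_injective _ ρ_inj).1 h), (hquad X0).2 hX0q, by
        rw [Subgroup.card_map_of_injective ρ_inj, hfixcard]; exact hX0⟩
  have hmap : (A'.comap ρ).map ρ = A' := Subgroup.map_comap_eq_self hA'H
  have hsq : ∀ a ∈ A'.comap ρ, ∀ b ∈ A'.comap ρ,
      ((ρ a : R'ˣ) : R') * ((ρ b : R'ˣ) : R') =
        1 + (((ρ a : R'ˣ) : R') - 1) + (((ρ b : R'ˣ) : R') - 1) := by
    intro a ha b hb
    have h := mul_sub_one (hA'q _ ha _ hb)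
    rw [sub_eq_iff_eq_add, Units.val_mul] at h
    rw [h]; abel
  refine ⟨A'.comap ρ, fun h => hA'ne (by rw [← hmap, h, Subgroup.map_bot]), ?_, ?_, ?_,
    (hquad _).1 (hmap.symm ▸ hA'q), fun h a ha => ?_⟩
  · rw [wt, ← hfixcard, hmap, ← Subgroup.card_map_of_injective ρ_inj, hmap]
    exact hA'w
  · intro a ha b hb
    refine ρ_inj (Units.ext ?_)
    rw [map_mul, map_mul, Units.val_mul, Units.val_mul, hsq a ha b hb, hsq b hb a ha]
    abel
  · intro a ha
    refine ρ_inj (Units.ext ?_)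
    have key : ∀ n : ℕ, ((ρ (a ^ n) : R'ˣ) : R') = 1 + n • (((ρ a : R'ˣ) : R') - 1) := by
      intro n
      induction n with
      | zero => simp
      | succ n ih =>
        rw [pow_succ, map_mul, Units.val_mul, hsq _ (pow_mem ha n) a ha, ih, succ_nsmul]
        abel
    rw [key, hchar, add_zero, map_one, Units.val_one]
  · rw [Subgroup.mem_normalizer_iff]
    intro x
    have := Subgroup.mem_normalizer_iff.1 (hA'n (ρ h) ⟨h, rfl⟩ (ρ a) ha) (ρ x)
    simpa [Subgroup.mem_comap] using this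

/-- Let p ≥ 5 be a prime and, inside an ambient finite group, let G be a p-subgroup acting faithfully by conjugation on an elementary abelian p-subgroup V that it normalizes (only the identity of G centralizes V). Suppose V is an F-module for G: some nontrivial elementary abelian subgroup E of G satisfies #E · #C_V(E) ≥ #V. Then G contains such an offender A that moreover acts quadratically on V ([V, A, A] = 1) and is normal in its normal closure in G. -/
theorem result {Ω : Type*} [Group Ω] [Finite Ω] (p : ℕ) [Fact p.Prime] (hp : 5 ≤ p) (V G : Subgroup Ω) (hV : Cfsg.IsElementaryAbelian p V) (hG : IsPGroup p ↥G) (hGV : G ≤ Subgroup.normalizer (V : Set Ω)) (hfaith : G ⊓ Subgroup.centralizer (V : Set Ω) = ⊥) (hF : ∃ E : Subgroup Ω, E ≤ G ∧ E ≠ ⊥ ∧ Cfsg.IsElementaryAbelian p E ∧ Nat.card ↥V ≤ Nat.card ↥E * Nat.card ↥(V ⊓ Subgroup.centralizer (E : Set Ω))) : ∃ A : Subgroup Ω, A ≤ G ∧ A ≠ ⊥ ∧ Cfsg.IsElementaryAbelian p A ∧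 Nat.card ↥V ≤ Nat.card ↥A * Nat.card ↥(V ⊓ Subgroup.centralizer (A : Set Ω)) ∧ ⁅⁅V, A⁆, A⁆ = ⊥ ∧ ∀ g ∈ Subgroup.closure {x : Ω | ∃ h ∈ G, ∃ a ∈ A, x = h * a * h⁻¹}, ∀ a ∈ A, g * a * g⁻¹ ∈ A := by
  classical
  obtain ⟨E, hEG, hEne, ⟨hEc, hEp⟩, hEw⟩ := hF
  have hodd : Odd p := (Fact.out : p.Prime).odd_of_ne_two (by omega)
  have hVc : ∀ a ∈ V, ∀ b ∈ V, a * b = b * a := fun a ha b hb =>
    congrArg Subtype.val (hV.1.is_comm.comm ⟨a, ha⟩ ⟨b, hb⟩)
  letI cg : CommGroup ↥V :=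
    { (inferInstance : Group ↥V) with
      mul_comm := fun a b => Subtype.ext (hVc a a.2 b b.2) }
  have hnorm : ∀ g : ↥G, ∀ v : ↥V, (g : Ω) * v * (g : Ω)⁻¹ ∈ V := fun g v =>
    (Subgroup.mem_normalizer_iff.1 (hGV g.2) v).1 v.2
  letI act : DistribMulAction ↥G (Additive ↥V) :=
    { smul := fun g v => Additive.ofMul ⟨_, hnorm g v.toMul⟩
      one_smul := fun v => by
        apply Additive.toMul.injective; apply Subtype.ext
        show (1 : Ω) * _ * (1 : Ω)⁻¹ = _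
        group
      mul_smul := fun g h v => by
        apply Additive.toMul.injective; apply Subtype.ext
        show (g : Ω) * (h : Ω) * _ * ((g : Ω) * (h : Ω))⁻¹ =
          (g : Ω) * ((h : Ω) * _ * (h : Ω)⁻¹) * (g : Ω)⁻¹
        group
      smul_zero := fun g => by
        apply Additive.toMul.injective; apply Subtype.ext
        show (g : Ω) * (1 : Ω) * (g : Ω)⁻¹ = 1
        group
      smul_add := fun g v w => by
        apply Additive.toMul.injective; apply Subtype.ext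
        show (g : Ω) * ((v.toMul : Ω) * (w.toMul : Ω)) * (g : Ω)⁻¹ =
          ((g : Ω) * (v.toMul : Ω) * (g : Ω)⁻¹) * ((g : Ω) * (w.toMul : Ω) * (g : Ω)⁻¹)
        group }
  have smul_val : ∀ (g : ↥G) (v : Additive ↥V),
      (((g • v).toMul : ↥V) : Ω) = (g : Ω) * (v.toMul : Ω) * (g : Ω)⁻¹ := fun g v => rfl
  have fix_iff : ∀ (g : ↥G) (v : Additive ↥V),
      g • v = v ↔ (g : Ω) * (v.toMul : Ω) = (v.toMul : Ω) * g := by
    intro g v
    rw [← Additive.toMul.injective.eq_iff, ← Subtype.val_injective.eq_iff, smul_val,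
      mul_inv_eq_iff_eq_mul]
  have : FaithfulSMul ↥G (Additive ↥V) := ⟨fun {g h} e => by
    have h1 : ∀ v : Additive ↥V, (h⁻¹ * g) • v = v := fun v => by
      rw [mul_smul, e v, inv_smul_smul]
    have h2 : ((h⁻¹ * g : ↥G) : Ω) ∈ G ⊓ Subgroup.centralizer (V : Set Ω) :=
      ⟨(h⁻¹ * g).2, fun v hv => ((fix_iff _ _).1 (h1 (Additive.ofMul ⟨v, hv⟩))).symm⟩
    rw [hfaith, Subgroup.mem_bot] at h2
    exact (inv_mul_eq_one.1 (Subtype.ext h2 : h⁻¹ * g = 1)).symm⟩
  have hW : ∀ w : Additive ↥V, p • w = 0 := fun w => by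
    apply Additive.toMul.injective; apply Subtype.ext
    exact hV.2 _ w.toMul.2
  have hfix : ∀ X : Subgroup ↥G, Nat.card ↥(fixA (Additive ↥V) X) =
      Nat.card ↥(V ⊓ Subgroup.centralizer ((X.map G.subtype : Subgroup Ω) : Set Ω)) := by
    intro X
    refine Nat.card_eq_of_bijective
      (fun v : ↥(fixA (Additive ↥V) X) => (⟨((v : Additive ↥V).toMul : Ω),
        (v : Additive ↥V).toMul.2, ?_⟩ :
          ↥(V ⊓ Subgroup.centralizer ((X.map G.subtype : Subgroup Ω) : Set Ω)))) ⟨?_, ?_⟩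
    · rintro _ ⟨x, hx, rfl⟩
      exact (fix_iff x _).1 (v.2 x hx)
    · intro v w e
      exact Subtype.ext (Additive.toMul.injective (Subtype.ext (congrArg (fun z : ↥(V ⊓ Subgroup.centralizer ((X.map G.subtype : Subgroup Ω) : Set Ω)) => (z : Ω)) e)))
    · rintro ⟨v, hvV, hvc⟩
      exact ⟨⟨Additive.ofMul ⟨v, hvV⟩, fun x hx => (fix_iff x _).2 (hvc _ ⟨x, hx, rfl⟩)⟩, rfl⟩
  have hcardG : ∀ X : Subgroup ↥G, Nat.card ↥(X.map G.subtype) = Nat.card ↥X := fun X =>
    Subgroup.card_map_of_injective G.subtype_injective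
  have hEmap : (E.subgroupOf G).map G.subtype = E := Subgroup.map_subgroupOf_eq_of_le hEG
  have hVcard : Nat.card (Additive ↥V) = Nat.card ↥V := Nat.card_congr Additive.toMul
  obtain ⟨A, hAne, hAw, hAc, hAp, hAq, hAn⟩ := linear hodd hG hW
    (E := E.subgroupOf G) (fun h => hEne (by rw [← hEmap, h, Subgroup.map_bot]))
    (fun a ha b hb => Subtype.ext (congrArg (fun z : ↥E => (z : Ω)) (hEc.is_comm.comm ⟨_, ha⟩ ⟨_, hb⟩)))
    (fun a ha => Subtype.ext (by simpa using hEp _ ha))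
    (by rw [hVcard, wt, hfix, ← hcardG, hEmap]; exact hEw)
  refine ⟨A.map G.subtype, Subgroup.map_subtype_le A,
    fun h => hAne ((Subgroup.map_eq_bot_iff_of_injective _ G.subtype_injective).1 h),
    ⟨⟨⟨?_⟩⟩, ?_⟩, ?_, ?_, ?_⟩
  · rintro ⟨_, a, ha, rfl⟩ ⟨_, b, hb, rfl⟩
    exact Subtype.ext (congrArg (fun z : ↥G => (z : Ω)) (hAc a ha b hb).eq)
  · rintro _ ⟨a, ha, rfl⟩
    rw [← map_pow, hAp a ha, map_one]
  · rw [hcardG, ← hfix, ← hVcard]; exact hAw
  · rw [Subgroup.commutator_eq_bot_iff_le_centralizer, Subgroup.commutator_le]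
    intro v hv a ha
    obtain ⟨a, ha', rfl⟩ := ha
    rintro _ ⟨b, hb, rfl⟩
    have key := (fix_iff b _).1 (hAq a ha' b hb (Additive.ofMul (⟨v, hv⟩ : ↥V)))
    have e : ((((a • (Additive.ofMul (⟨v, hv⟩ : ↥V))) -
        Additive.ofMul (⟨v, hv⟩ : ↥V)).toMul : ↥V) : Ω) = ((⁅v, (a : Ω)⁆ : Ω))⁻¹ := by
      show ((a : Ω) * v * (a : Ω)⁻¹) / v = _
      rw [div_eq_mul_inv, commutatorElement_def]; group
    rw [e] at key
    have := congrArg (fun z => ((⁅v, (a : Ω)⁆ : Ω)) * z * ((⁅v, (a : Ω)⁆ : Ω))) key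
    simp only [mul_assoc, inv_mul_cancel, mul_one, mul_inv_cancel_left] at this
    exact this.symm
  · intro g hg a ha
    have hle : Subgroup.closure {x : Ω | ∃ h ∈ G, ∃ a ∈ A.map G.subtype, x = h * a * h⁻¹} ≤
        Subgroup.normalizer ((A.map G.subtype : Subgroup Ω) : Set Ω) := by
      refine (Subgroup.closure_le _).2 ?_
      rintro _ ⟨h, hh, _, ⟨a, ha, rfl⟩, rfl⟩
      exact Subgroup.le_normalizer_map G.subtype
        ⟨(⟨h, hh⟩ : ↥G) * a * (⟨h, hh⟩ : ↥G)⁻¹, hAn _ a ha, rfl⟩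
    exact (Subgroup.mem_normalizer_iff.1 (hle hg) a).1 ha

end Cfsg.Agent.S1935
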