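import Cfsg.Statements.S1939
import Mathlib

set_option autoImplicit false
open Cfsg

namespace Cfsg.Agent.S1939

/-- Let S be a Sylow p-subgroup of the finite group G and a an element of S that is the only G-conjugate of a lying in S. Then every power of a has the same property: for every n, the only G-conjugate of a^n lying in S is a^n. -/
theorem result {G : Type*} [Group G] [Finite G] {p : ℕ} [Fact p.Prime] (S : Sylow p G) (a : G)
    (haS : a ∈ (S : Subgroup G)) (hwc : ∀ g : G, g * a * g⁻¹ ∈ (S : Subgroup G) → g * a * g⁻¹ = a) (n : ℕ) :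
    ∀ g : G, g * a ^ n * g⁻¹ ∈ (S : Subgroup G) → g * a ^ n * g⁻¹ = a ^ n := by
  intro g hg
  have key : ∀ R : Subgroup G, IsPGroup p R → a ∈ R → ∀ k : G, k * a * k⁻¹ ∈ R → k * a * k⁻¹ = a := by
    intro R hR haR k hk
    obtain ⟨Q, hQ⟩ := hR.exists_le_sylow
    obtain ⟨t, ht⟩ := MulAction.exists_smul_eq G Q S
    have conjmem : ∀ x ∈ R, t * x * t⁻¹ ∈ (S : Subgroup G) := by
      intro x hx
      rw [← ht, Sylow.coe_subgroup_smul]
      exact Subgroup.mem_pointwise_smul_iff_inv_smul_mem.mpr (by simpa [MulAut.smul_def, mul_assoc] using hQ hx)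
    have h1 := hwc t (conjmem a haR)
    have h2 : (t * k) * a * (t * k)⁻¹ = a := hwc (t * k) (by simpa [mul_assoc] using conjmem _ hk)
    have h3 : t⁻¹ * a * t = a := by
      calc t⁻¹ * a * t = t⁻¹ * (t * a * t⁻¹) * t := by rw [h1]
        _ = a := by group
    calc k * a * k⁻¹ = t⁻¹ * ((t * k) * a * (t * k)⁻¹) * t := by group
      _ = a := by rw [h2, h3]
  have hcen : ∀ s ∈ (S : Subgroup G), s * a * s⁻¹ = a :=
    fun s hs => hwc s ((S : Subgroup G).mul_mem ((S : Subgroup G).mul_mem hs haS) ((S : Subgroup G).inv_mem hs))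
  set c := g * a ^ n * g⁻¹ with hc
  set C := Subgroup.centralizer ({c} : Set G) with hC
  have haC : a ∈ C := by
    rw [hC, Subgroup.mem_centralizer_singleton_iff]
    have := hcen c hg
    calc a * c = (c * a * c⁻¹) * c := by rw [this]
      _ = c * a := by group
  have hbC : g * a * g⁻¹ ∈ C := by
    rw [hC, Subgroup.mem_centralizer_singleton_iff]
    have : g * a * g⁻¹ * (g * a ^ n * g⁻¹) = g * (a * a ^ n) * g⁻¹ := by group
    rw [hc, this, Commute.self_pow a n]; group
  -- `a` is a `p`-element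
  obtain ⟨j, hj⟩ := (IsPGroup.iff_orderOf.mp S.isPGroup') ⟨a, haS⟩
  rw [← Subgroup.orderOf_coe] at hj
  simp only at hj
  have hpa : ∀ (x : C), orderOf x = p ^ j → IsPGroup p (Subgroup.zpowers x) := by
    intro x hx
    exact IsPGroup.of_card (n := j) (by rw [Nat.card_zpowers, hx])
  set a' : C := ⟨a, haC⟩ with ha'
  set b' : C := ⟨g * a * g⁻¹, hbC⟩ with hb'
  have hoa : orderOf a' = p ^ j := by rw [← Subgroup.orderOf_coe]; exact hj
  have hob : orderOf b' = p ^ j := by
    rw [← Subgroup.orderOf_coe]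
    show orderOf (g * a * g⁻¹) = p ^ j
    rw [show g * a * g⁻¹ = (MulAut.conj g) a from rfl, MulEquiv.orderOf_eq]; exact hj
  obtain ⟨P, hP⟩ := (hpa a' hoa).exists_le_sylow
  obtain ⟨Q, hQ⟩ := (hpa b' hob).exists_le_sylow
  obtain ⟨k, hk⟩ := MulAction.exists_smul_eq C Q P
  have hkb : k * b' * k⁻¹ ∈ (P : Subgroup C) := by
    rw [← hk, Sylow.coe_subgroup_smul]
    exact Subgroup.mem_pointwise_smul_iff_inv_smul_mem.mpr
      (by simpa [MulAut.smul_def, mul_assoc] using hQ (Subgroup.mem_zpowers b'))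
  have hR : IsPGroup p ((P : Subgroup C).map C.subtype) := P.isPGroup'.map _
  have haR : a ∈ (P : Subgroup C).map C.subtype :=
    ⟨a', hP (Subgroup.mem_zpowers a'), rfl⟩
  have hkR : ((k : G) * g) * a * ((k : G) * g)⁻¹ ∈ (P : Subgroup C).map C.subtype :=
    ⟨_, hkb, by simp [hb', mul_assoc]⟩
  have h4 := key _ hR haR _ hkR
  have hkc : (k : G) * c = c * (k : G) := by
    exact Subgroup.mem_centralizer_singleton_iff.mp k.2
  have h5 : ((k : G) * g) * a ^ n * ((k : G) * g)⁻¹ = a ^ n := by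
    rw [← conj_pow, h4]
  calc c = (k : G) * c * (k : G)⁻¹ := by rw [hkc]; group
    _ = ((k : G) * g) * a ^ n * ((k : G) * g)⁻¹ := by rw [hc]; group
    _ = a ^ n := h5

end Cfsg.Agent.S1939
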