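import Cfsg.Statements.S1940
import Mathlib

set_option autoImplicit false
open Cfsg

namespace Cfsg.Agent.S1940

/-- Let the finite group L act by automorphisms on the finite abelian group M, and let N be an L-invariant subgroup of M such that M/N is a p-group on which L acts trivially (every l • m lies in the coset mN). If every element of M is a product of an element of N and an element fixed by a Sylow p-subgroup T of L, then every element of M is a product of an element of N and an element fixed by all of L. -/
theorem result {L : Type*} [Group L] [Finite L] {M : Type*} [CommGroup M] [Finite M] [MulDistribMulAction L M]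
    {p : ℕ} [Fact p.Prime] (N : Subgroup M) (hN : ∀ (l : L) (m : M), m ∈ N → l • m ∈ N)
    (hquot : IsPGroup p (M ⧸ N)) (htriv : ∀ (l : L) (m : M), (l • m) * m⁻¹ ∈ N) (T : Sylow p L)
    (hT : ∀ m : M, ∃ n ∈ N, ∃ c : M, (∀ t ∈ (T : Subgroup L), t • c = c) ∧ m = n * c) :
    ∀ m : M, ∃ n ∈ N, ∃ c : M, (∀ l : L, l • c = c) ∧ m = n * c := by
  intro m
  classical
  obtain ⟨n0, hn0, c, hc, rfl⟩ := hT m
  haveI : Fintype (L ⧸ (T : Subgroup L)) := Fintype.ofFinite _
  let f : L ⧸ (T : Subgroup L) → M := Quotient.lift (fun l : L => l • c) (by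
    intro a b hab
    have h : a⁻¹ * b ∈ (T : Subgroup L) := QuotientGroup.leftRel_apply.mp hab
    calc a • c = a • ((a⁻¹ * b) • c) := by rw [hc _ h]
      _ = b • c := by rw [smul_smul, mul_inv_cancel_left])
  have hf : ∀ l : L, f (QuotientGroup.mk l) = l • c := fun l => rfl
  set d := ∏ x, f x with hd
  have hfix : ∀ l : L, l • d = d := by
    intro l
    rw [hd, Finset.smul_prod']
    refine Fintype.prod_equiv (MulAction.toPerm l) _ _ ?_
    intro x
    induction x using QuotientGroup.induction_on with
    | H a => show l • (a • c) = (l * a) • c; rw [smul_smul]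
  have hmod : (QuotientGroup.mk d : M ⧸ N) = (QuotientGroup.mk c) ^ (T : Subgroup L).index := by
    rw [hd, Subgroup.index_eq_card, Nat.card_eq_fintype_card]
    rw [show (QuotientGroup.mk (∏ x, f x) : M ⧸ N) = ∏ x, (QuotientGroup.mk' N) (f x) from map_prod (QuotientGroup.mk' N) f Finset.univ]
    rw [← Finset.card_univ, ← Finset.prod_const]
    refine Finset.prod_congr rfl ?_
    intro x _
    induction x using QuotientGroup.induction_on with
    | H a =>
      rw [hf]
      refine QuotientGroup.eq.mpr ?_
      have := N.inv_mem (htriv a c)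
      simpa [mul_comm] using this
  obtain ⟨k, hk⟩ := hquot (QuotientGroup.mk c)
  have hcop : ((T : Subgroup L).index).Coprime (p ^ k) :=
    (Nat.Coprime.pow_right k (((Fact.out : p.Prime).coprime_iff_not_dvd.mpr T.not_dvd_index).symm))
  obtain ⟨u, hu⟩ := exists_pow_eq_self_of_coprime (x := (QuotientGroup.mk c : M ⧸ N))
    (hcop.coprime_dvd_right (orderOf_dvd_of_pow_eq_one hk))
  have hu' : (QuotientGroup.mk (d ^ u) : M ⧸ N) = QuotientGroup.mk c := by
    rw [QuotientGroup.mk_pow, hmod]; exact hu
  refine ⟨n0 * c * (d ^ u)⁻¹, ?_, d ^ u, fun l => by rw [smul_pow', hfix], by group⟩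
  have h1 : (d ^ u)⁻¹ * c ∈ N := QuotientGroup.eq.mp hu'
  rw [mul_assoc, mul_comm c]
  exact N.mul_mem hn0 h1

end Cfsg.Agent.S1940
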