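import Cfsg.Statements.S1941
import Cfsg.Agent.Lib.ComponentsP

set_option autoImplicit false
open Cfsg

namespace Cfsg.Agent.S1941

open Subgroup in
theorem cocycle_split {G : Type*} [Group G] [Finite G] {Z H : Subgroup G} [Z.Normal] [IsMulCommutative Z]
    (hco : H.index.Coprime (Nat.card Z)) (c : G → Z)
    (hc : ∀ g h : G, (c (g * h) : G) = c g * (g * c h * g⁻¹)) (hH : ∀ t ∈ H, c t = 1) :
    ∃ w : G, ∀ g : G, (c g : G) * g = w * g * w⁻¹ := by
  classical
  open scoped IsMulCommutative in
  have : Fintype (G ⧸ H) := Fintype.ofFinite _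
  have hrep : ∀ (a b : G), QuotientGroup.mk (s := H) a = QuotientGroup.mk b → c a = c b := by
    intro a b hab
    have h := hc a (a⁻¹ * b)
    rw [mul_inv_cancel_left, hH _ (QuotientGroup.eq.mp hab)] at h
    apply Subtype.ext
    simpa using h.symm
  let z : Z := ∏ q : G ⧸ H, c q.out
  have key : ∀ g : G, c g ^ Fintype.card (G ⧸ H) * MulAut.conjNormal g z = z := by
    intro g
    have e1 : ∀ q : G ⧸ H, c ((g • q).out) = c g * MulAut.conjNormal g (c q.out) := by
      intro q
      rw [hrep ((g • q).out) (g * q.out) (by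
        rw [QuotientGroup.out_eq']
        conv_lhs => rw [← QuotientGroup.out_eq' q]
        rfl)]
      apply Subtype.ext
      rw [hc, Subgroup.coe_mul, MulAut.conjNormal_apply]
    calc c g ^ Fintype.card (G ⧸ H) * MulAut.conjNormal g z
        = ∏ q : G ⧸ H, c g * MulAut.conjNormal g (c q.out) := by
          rw [Finset.prod_mul_distrib, Finset.prod_const, map_prod, Finset.card_univ]
      _ = ∏ q : G ⧸ H, c ((g • q).out) := by simp only [e1]
      _ = z := Equiv.prod_comp (MulAction.toPerm g) (fun q : G ⧸ H => c q.out)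
  have hn : Fintype.card (G ⧸ H) = H.index := by rw [← Nat.card_eq_fintype_card]; rfl
  obtain ⟨m, hm⟩ : ∃ m : ℕ, ∀ x : Z, (x ^ H.index) ^ m = x := by
    refine ⟨(Nat.gcdA H.index (Nat.card Z) % (Nat.card Z : ℤ)).toNat, fun x => ?_⟩
    have hb := Nat.gcd_eq_gcd_ab H.index (Nat.card Z)
    rw [hco.gcd_eq_one] at hb
    have hne : (Nat.card Z : ℤ) ≠ 0 := by simp [Nat.card_pos.ne']
    rw [← pow_mul, ← zpow_natCast x, Nat.cast_mul, Int.toNat_of_nonneg (Int.emod_nonneg _ hne),
      Int.emod_def, mul_sub]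
    rw [zpow_sub, ← mul_assoc (H.index : ℤ) (Nat.card Z : ℤ), mul_comm (H.index : ℤ) (Nat.card Z : ℤ),
      mul_assoc, zpow_mul x (Nat.card Z : ℤ), zpow_natCast, pow_card_eq_one', one_zpow, inv_one, mul_one,
      show (H.index : ℤ) * Nat.gcdA H.index (Nat.card Z) = 1 - (Nat.card Z : ℤ) * Nat.gcdB H.index (Nat.card Z) by omega,
      zpow_sub, zpow_one, zpow_mul, zpow_natCast, pow_card_eq_one', one_zpow, inv_one, mul_one]
  refine ⟨((z ^ m : Z) : G), fun g => ?_⟩
  have h1 : c g ^ H.index = z * (MulAut.conjNormal g z)⁻¹ := by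
    rw [eq_mul_inv_iff_mul_eq, ← hn, key]
  have h2 : c g = z ^ m * (MulAut.conjNormal g (z ^ m))⁻¹ := by
    conv_lhs => rw [← hm (c g), h1, mul_pow, inv_pow, ← map_pow]
  rw [h2, Subgroup.coe_mul, Subgroup.coe_inv, MulAut.conjNormal_apply]
  group

/-- Let G be a finite group with no nontrivial normal subgroup of order prime to p, T a Sylow p-subgroup of G and E(G) the layer of G (the subgroup generated by its components). An automorphism of G of p-power order that fixes T and E(G) elementwise is inner. -/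
theorem result {G : Type*} [Group G] [Finite G] {p : ℕ} [Fact p.Prime] (hcore : Cfsg.pPrimeCore p G = ⊥)
    (T : Sylow p G) (α : MulAut G) (hα : ∃ j : ℕ, orderOf α = p ^ j) (hfixT : ∀ x ∈ (T : Subgroup G), α x = x)
    (hfixE : ∀ x ∈ Cfsg.layer G, α x = x) : ∃ g : G, ∀ x : G, α x = g * x * g⁻¹ := by
  haveI : Group.IsNilpotent ↥(Cfsg.fittingSubgroup G) := inferInstance
  set X := Cfsg.generalizedFittingSubgroup G with hX
  have hOT : Cfsg.pCore p G ≤ (T : Subgroup G) :=
    le_sup_right.trans (T.3 (T.2.to_sup_of_normal_right (ComponentsCores.isPGroup_pCore p)) le_sup_left).le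
  have hfix : ∀ x ∈ X, α x = x := by
    have : X ≤ MonoidHom.eqLocus α.toMonoidHom (MonoidHom.id G) := by
      refine sup_le (fun x hx => hfixE x hx) fun x hx => hfixT x (hOT ?_)
      rwa [← ComponentsP.fitting_eq_pCore_of_bot hcore]
    exact fun x hx => this hx
  set Z := X ⊓ Subgroup.centralizer (X : Set G)
  haveI hZn : Z.Normal := inferInstance
  haveI hZc : IsMulCommutative ↥Z :=
    Subgroup.le_centralizer_iff_isMulCommutative.mp (inf_le_right.trans (Subgroup.centralizer_le inf_le_left))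
  have hZF : Z ≤ Cfsg.fittingSubgroup G := ComponentsCores.le_fitting (by
    open scoped IsMulCommutative in infer_instance)
  have hc : ∀ g : G, α g * g⁻¹ ∈ Z := by
    intro g
    have h1 : g⁻¹ * α g ∈ Subgroup.centralizer (X : Set G) := by
      rw [Subgroup.mem_centralizer_iff]
      intro x hx
      have h2 := hfix _ ((inferInstance : X.Normal).conj_mem x hx g)
      rw [map_mul, map_mul, map_inv, hfix x hx] at h2
      calc x * (g⁻¹ * α g) = g⁻¹ * (g * x * g⁻¹) * α g := by group
        _ = g⁻¹ * α g * x := by rw [← h2]; group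
    have h3 := (inferInstance : Z.Normal).conj_mem _ ⟨ComponentsFitting.centralizer_gen_le h1, h1⟩ g
    rwa [mul_inv_cancel_left] at h3
  have hco : (T : Subgroup G).index.Coprime (Nat.card ↥Z) := by
    have h4 : IsPGroup p Z := (ComponentsCores.isPGroup_pCore p).to_le
      (hZF.trans (ComponentsP.fitting_eq_pCore_of_bot hcore).le)
    obtain ⟨k, hk⟩ := IsPGroup.iff_card.mp h4
    rw [hk]
    exact ((Fact.out : p.Prime).coprime_iff_not_dvd.mpr T.not_dvd_index).symm.pow_right k
  obtain ⟨w, hw⟩ := cocycle_split hco (fun g => ⟨α g * g⁻¹, hc g⟩)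
    (fun g h => by show α (g * h) * (g * h)⁻¹ = α g * g⁻¹ * (g * (α h * h⁻¹) * g⁻¹); rw [map_mul]; group)
    (fun t ht => by apply Subtype.ext; show α t * t⁻¹ = 1; rw [hfixT t ht, mul_inv_cancel])
  exact ⟨w, fun g => by have h := hw g; simpa using h⟩

end Cfsg.Agent.S1941
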