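import Cfsg.Statements.S5294
import Cfsg.Agent.Lib.FusionSysNormal

set_option autoImplicit false
universe u
open Cfsg

namespace Cfsg.Agent.S5294

open Cfsg.FusionSystem Cfsg.Agent.FusionSysBasic Cfsg.Agent.FusionSysSaturated
  Cfsg.Agent.FusionSysNormal

/-- A complement, in the points fixed by a subgroup of index prime to `p`, to the fixed points. -/
theorem exists_fixed_complement {A G : Type*} [CommGroup A] [Finite A] [Group G] [Finite G]
    [MulDistribMulAction G A] {p : ℕ} [Fact p.Prime] (hA : IsPGroup p A) (T : Subgroup G)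
    (hT : ¬ p ∣ T.index) :
    ∃ K : Subgroup A, (∀ a ∈ K, ∀ t ∈ T, t • a = a) ∧
      (∀ a ∈ K, (∀ g : G, g • a = a) → a = 1) ∧
      ∀ a : A, (∀ t ∈ T, t • a = a) → ∃ c k, (∀ g : G, g • c = c) ∧ k ∈ K ∧ a = c * k := by
  classical
  haveI : Fintype (G ⧸ T) := Fintype.ofFinite _
  let N : A →* A :=
    { toFun := fun a => ∏ q : G ⧸ T, q.out • a
      map_one' := by simp
      map_mul' := fun a b => by simp [Finset.prod_mul_distrib, smul_mul'] }
  let Z : Subgroup A :=
    { carrier := {a | ∀ t ∈ T, t • a = a}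
      one_mem' := fun t _ => smul_one t
      mul_mem' := fun {a b} ha hb t ht => by rw [smul_mul', ha t ht, hb t ht]
      inv_mem' := fun {a} ha t ht => by rw [smul_inv', ha t ht] }
  have hN : ∀ a ∈ Z, ∀ g : G, g • N a = N a := by
    intro a ha g
    show g • (∏ q : G ⧸ T, q.out • a) = _
    rw [Finset.smul_prod']
    refine Fintype.prod_equiv (MulAction.toPerm g) _ _ fun q => ?_
    obtain ⟨h, hh⟩ := QuotientGroup.mk_out_eq_mul T (g * q.out)
    have hq : ((g * q.out : G) : G ⧸ T) = g • q := by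
      conv_rhs => rw [← QuotientGroup.out_eq' q]
      rfl
    rw [MulAction.toPerm_apply, ← hq, hh, smul_smul (g * q.out) (h : G) a |>.symm, ha h h.2,
      mul_smul]
  have hfix : ∀ a : A, (∀ g : G, g • a = a) → N a = a ^ T.index := fun a ha => by
    show (∏ q : G ⧸ T, q.out • a) = _
    rw [Finset.prod_congr rfl fun q _ => ha q.out, Finset.prod_const, Finset.card_univ,
      ← Nat.card_eq_fintype_card]
    rfl
  have hco : (Nat.card A).Coprime T.index := by
    obtain ⟨n, hn⟩ := IsPGroup.iff_card.1 hA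
    rw [hn]
    exact Nat.Coprime.pow_left _ ((Fact.out : p.Prime).coprime_iff_not_dvd.2 hT)
  refine ⟨Z ⊓ N.ker, fun a ha => ha.1, fun a ha hg => ?_, fun a ha => ?_⟩
  · have h1 : N a = 1 := ha.2
    rw [hfix a hg] at h1
    exact (powCoprime hco).injective (show a ^ T.index = (1 : A) ^ T.index by rw [h1, one_pow])
  · obtain ⟨c, hc⟩ := (powCoprime hco).surjective (N a)
    have hc' : c ^ T.index = N a := hc
    have hcf : ∀ g : G, g • c = c := fun g => (powCoprime hco).injective
      (show (g • c) ^ T.index = c ^ T.index by rw [← smul_pow', hc', hN a ha g])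
    refine ⟨c, c⁻¹ * a, hcf, ⟨Z.mul_mem (Z.inv_mem fun t _ => hcf t) ha, ?_⟩,
      (mul_inv_cancel_left c a).symm⟩
    show N (c⁻¹ * a) = 1
    rw [map_mul, map_inv, hfix c hcf, hc', inv_mul_cancel]

/-- Let F be a saturated fusion system over a finite p-group S whose centre Z(S) lies in the largest subgroup O_p(F) normal in F. Then the centre Z(F) of F is a direct factor of Z(S): there is a subgroup K of Z(S) with Z(F) ∩ K = 1 and Z(F)K = Z(S). -/
theorem result {Ω : Type u} [Group Ω] {S : Subgroup Ω} [Finite S] (p : ℕ) [Fact p.Prime] (hS : IsPGroup p S)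
    (F : Cfsg.FusionSystem S) (hF : F.IsSaturated p) (hZ : (S ⊓ Subgroup.centralizer (S : Set Ω)) ≤ F.core) :
    ∃ K : Subgroup Ω, K ≤ (S ⊓ Subgroup.centralizer (S : Set Ω)) ∧ F.center ⊓ K = ⊥ ∧ F.center ⊔ K = (S ⊓ Subgroup.centralizer (S : Set Ω)) := by
  set Q := F.core with hQdef
  have hQn : F.IsNormal Q := core_isNormal
  have hQS : Q ≤ S := hQn.1
  have hNQ : normalizerIn S Q = S :=
    le_antisymm inf_le_left (le_inf le_rfl (le_normalizer_of_normal hQn))
  have hQfn : F.IsFullyNormalized Q :=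
    ⟨hQS, fun R _ => by rw [hNQ]; exact Subgroup.card_le_of_le inf_le_left⟩
  haveI := finite_autGroup (F := F) Q
  haveI := finite_of_le hQS
  obtain ⟨T, hT⟩ := (fullyAutomized_of_fullyNormalized hS hF hQfn).2
  -- `Aut_F(Q)` acts on the centre of `Q`
  letI : MulDistribMulAction (F.autGroup Q) (Subgroup.center Q) :=
    { smul := fun g a => ⟨(g : MulAut Q) a, Subgroup.mem_center_iff.2 fun y => by
        obtain ⟨y, rfl⟩ := (g : MulAut Q).surjective y
        rw [← map_mul, ← map_mul, Subgroup.mem_center_iff.1 a.2 y]⟩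
      one_smul := fun a => rfl
      mul_smul := fun g h a => rfl
      smul_mul := fun g a b => Subtype.ext (map_mul (g : MulAut Q) _ _)
      smul_one := fun g => Subtype.ext (map_one (g : MulAut Q)) }
  letI : CommGroup (Subgroup.center Q) :=
    { (inferInstance : Group (Subgroup.center Q)) with
      mul_comm := fun a b => Subtype.ext (Subgroup.mem_center_iff.1 b.2 a) }
  obtain ⟨K, hKT, hKfix, hKgen⟩ := exists_fixed_complement (A := Subgroup.center Q)
    ((hS.to_le hQS).to_subgroup _) (T : Subgroup (F.autGroup Q)) T.not_dvd_index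
  have hsmul : ∀ (g : F.autGroup Q) (a : Subgroup.center Q),
      ((((g • a : Subgroup.center Q)) : Q) : Ω) = afun (g : MulAut Q) ((a : Q) : Ω) :=
    fun g a => (afun_coe (g : MulAut Q) (a : Q)).symm
  have hTfix : ∀ a : Subgroup.center Q, (∀ t ∈ (T : Subgroup (F.autGroup Q)), t • a = a) →
      ((a : Q) : Ω) ∈ S ⊓ Subgroup.centralizer (S : Set Ω) := by
    intro a ha
    refine Subgroup.mem_inf.2 ⟨hQS (a : Q).2, Subgroup.mem_centralizer_iff.2 fun s hs => ?_⟩
    have hc : nHom S Q ⟨s, hs, le_normalizer_of_normal hQn hs⟩ ∈ Cfsg.autInducedBy S Q :=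
      autInducedBy_eq_range S Q ▸ ⟨_, rfl⟩
    have h := ha ⟨_, autInducedBy_le hQS hc⟩ (hT ▸ hc)
    have h' := congrArg (fun z : Subgroup.center Q => ((z : Q) : Ω)) h
    simp only [hsmul, afun_nHom _ (a : Q).2] at h'
    exact mul_inv_eq_iff_eq_mul.1 h'
  have hcS : F.center ≤ S := center_isCentral.1
  have hcZ : F.center ≤ S ⊓ Subgroup.centralizer (S : Set Ω) :=
    le_inf hcS fun c hc => Subgroup.mem_centralizer_iff.2 fun s hs => by
      obtain ⟨f, -, hag, hfix⟩ :=
        (isCentral_iff.1 center_isCentral).2 S _ (mor_cj (F := F) le_rfl hs)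
      have h : cj s c = c := by rw [← hag c (hcS hc), hfix c hc]
      exact mul_inv_eq_iff_eq_mul.1 h
  -- central elements are the fixed points
  have hcfix : ∀ a : Subgroup.center Q, ((a : Q) : Ω) ∈ F.center ↔
      ∀ g : F.autGroup Q, g • a = a := by
    intro a
    constructor
    · intro hac g
      refine Subtype.ext (Subtype.ext ?_)
      rw [hsmul]
      obtain ⟨f, -, hag, hfix⟩ :=
        (isCentral_iff.1 center_isCentral).2 Q _ ((mem_autGroup hQS).1 g.2)
      rw [← hag _ (a : Q).2, hfix _ hac]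
    · intro ha
      have hle : Subgroup.zpowers ((a : Q) : Ω) ≤ Q := Subgroup.zpowers_le.2 (a : Q).2
      refine le_center (isCentral_iff.2 ⟨hle.trans hQS, fun P f hf => ?_⟩)
        (Subgroup.mem_zpowers _)
      obtain ⟨f', hf', hag, him⟩ := (isNormal_iff.1 hQn).2 P f hf
      have hres := hf'.restrict_to (le_sup_right : Q ≤ P ⊔ Q)
      obtain ⟨γ, hγ, hγe⟩ := hres.exists_aut him
      refine ⟨f', hf'.restrict_to (sup_le_sup_left hle _), hag, ?_⟩
      rintro _ ⟨i, rfl⟩
      have h1 : afun γ ((a : Q) : Ω) = ((a : Q) : Ω) := by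
        rw [← hsmul ⟨γ, hγ⟩ a, ha]
      have h2 : (⟨γ, hγ⟩ : F.autGroup Q) • (a ^ i) = a ^ i := by
        rw [smul_zpow', ha]
      have h3 := congrArg (fun z : Subgroup.center Q => ((z : Q) : Ω)) h2
      simp only [hsmul, SubgroupClass.coe_zpow] at h3
      rw [← hγe _ (zpow_mem (a : Q).2 i)]
      exact h3
  refine ⟨(K.map (Subgroup.center Q).subtype).map Q.subtype, ?_, ?_, ?_⟩
  · rintro _ ⟨_, ⟨a, ha, rfl⟩, rfl⟩
    exact hTfix a (hKT a ha)
  · rw [Subgroup.eq_bot_iff_forall]
    rintro _ ⟨hxc, ⟨_, ⟨a, ha, rfl⟩, rfl⟩⟩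
    have := hKfix a ha ((hcfix a).1 hxc)
    rw [this]; rfl
  · refine le_antisymm (sup_le hcZ ?_) fun z hz => ?_
    · rintro _ ⟨_, ⟨a, ha, rfl⟩, rfl⟩
      exact hTfix a (hKT a ha)
    · have hzQ : z ∈ Q := hZ hz
      have hzS : ∀ s ∈ S, s * z = z * s := Subgroup.mem_centralizer_iff.1 (Subgroup.mem_inf.1 hz).2
      let a : Subgroup.center Q := ⟨⟨z, hzQ⟩, Subgroup.mem_center_iff.2 fun y =>
        Subtype.ext (hzS y (hQS y.2))⟩
      obtain ⟨c, k, hc, hk, hck⟩ := hKgen a fun t ht => Subtype.ext (Subtype.ext (by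
        rw [hsmul]
        rw [hT, Subgroup.mem_subgroupOf, mem_autInducedBy] at ht
        obtain ⟨g, hg, -, hge⟩ := ht
        rw [hge _ (a : Q).2, cj_apply, hzS g hg, mul_inv_cancel_right]))
      have hzck : z = ((c : Q) : Ω) * ((k : Q) : Ω) :=
        congrArg (fun w : Subgroup.center Q => ((w : Q) : Ω)) hck
      rw [hzck]
      exact Subgroup.mul_mem_sup ((hcfix c).2 hc) ⟨(k : Q), ⟨k, hk, rfl⟩, rfl⟩

end Cfsg.Agent.S5294
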