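import Cfsg.Statements.S5336
import Cfsg.Agent.Lib.FusionTransport88

set_option autoImplicit false
open Cfsg

namespace Cfsg.Agent.S5336

open Cfsg.FusionSystem Cfsg.Agent.FusionSysBasic Cfsg.Agent.FusionSysSaturated
open Cfsg.Agent.FusionSysGroup Cfsg.Agent.FusionTransport88

variable {G : Type*} [Group G] [Finite G] {p : ℕ} [Fact p.Prime]

/-- `S ∩ N` is a Sylow subgroup of the normal subgroup `N`. -/
theorem sylIn_inf (S : Sylow p G) (N : Subgroup G) [hN : N.Normal] :
    SylIn p ((S : Subgroup G) ⊓ N) N := by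
  have hT : IsPGroup p ↥((S : Subgroup G) ⊓ N) := S.2.to_le inf_le_left
  refine (sylIn_iff_card inf_le_right).2 (le_antisymm (card_le_pow_factorization hT inf_le_right) ?_)
  obtain ⟨Q⟩ : Nonempty (Sylow p N) := inferInstance
  obtain ⟨g, hg⟩ := exists_cj_le S (Q.2.map N.subtype)
  calc p ^ (Nat.card N).factorization p = Nat.card (Q : Subgroup N) := Q.card_eq_multiplicity.symm
    _ = Nat.card ↥((Q : Subgroup N).map N.subtype) := Nat.card_congr
          ((Q : Subgroup N).equivMapOfInjective _ N.subtype_injective).toEquiv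
    _ = Nat.card ↥(im ((Q : Subgroup N).map N.subtype) (cj g)) := (card_im_cj _ g).symm
    _ ≤ _ := Subgroup.card_le_of_le (le_inf (im_le_iff.2 hg) (im_le_iff.2 fun x hx =>
          hN.conj_mem x (Subgroup.map_subtype_le _ hx) g))

/-- The system of a normal subgroup is normal in the system of the group. -/
theorem isNormalIn_of_normal (S : Sylow p G) (N : Subgroup G) [hN : N.Normal] (T : Subgroup G)
    (hT : (S : Subgroup G) ⊓ N = T) (hTN : T ≤ N) :
    (Cfsg.fusionSystemOfSubgroup N T hTN).IsNormalIn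
      (Cfsg.groupFusionSystem (S : Subgroup G)) p := by
  have hTS : T ≤ S := hT ▸ inf_le_left
  obtain ⟨R, hR⟩ : SylIn p T N := hT ▸ sylIn_inf S N
  have hTm : ∀ {x : G}, x ∈ (S : Subgroup G) → x ∈ N → x ∈ T := fun hs hn => hT ▸ ⟨hs, hn⟩
  have hclosed : ∀ g : G, ∀ x ∈ T, cj g x ∈ (S : Subgroup G) → cj g x ∈ T := fun g x hx hs =>
    hTm hs (hN.conj_mem x (hTN hx) g)
  have hstrong : (Cfsg.groupFusionSystem (S : Subgroup G)).StronglyClosed T := by
    refine ⟨hTS, fun P hP φ hφ x => ?_⟩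
    obtain ⟨-, hφS, g, hg⟩ := hφ
    rw [hg x]
    exact hclosed g x (hP x.2) (by rw [cj_apply, ← hg x]; exact hφS x)
  refine ⟨⟨saturated_subgroup hTN R hR, saturated_group S, ?_, hstrong, ?_, ?_⟩, ?_⟩
  · rintro P φ ⟨hP, hφT, g, -, hg⟩
    exact ⟨hP.trans hTS, fun x => hTS (hφT x), g, hg⟩
  · -- invariance
    rintro P hPT φ ⟨-, hφT, n, hn, hg⟩ α hα
    obtain ⟨g, -, -, hge⟩ := mem_autInducedBy.1 ((mem_autGroup_group hTS).1 hα)
    refine ⟨Cfsg.conjHom _ (g * n * g⁻¹), ⟨?_, ?_, g * n * g⁻¹, hN.conj_mem n hn g, fun _ => rfl⟩,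
      fun x hφx hαx => ?_⟩
    · rintro _ ⟨x, -, rfl⟩
      exact (α x).2
    · rintro ⟨_, x, hx, rfl⟩
      show g * n * g⁻¹ * ((α x : T) : G) * (g * n * g⁻¹)⁻¹ ∈ T
      rw [← afun_apply α x.2, hge x x.2]
      have h1 : cj g (cj n (x : G)) = afun α (cj n (x : G)) := by
        refine (hge _ ?_).symm
        rw [cj_apply, ← hg ⟨x, hx⟩]
        exact hφT _
      have h2 : g * n * g⁻¹ * cj g (x : G) * (g * n * g⁻¹)⁻¹ = cj g (cj n (x : G)) := by
        simp only [cj_apply]; group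
      rw [h2, h1]
      exact afun_mem α (by rw [cj_apply, ← hg ⟨x, hx⟩]; exact hφT _)
    · show g * n * g⁻¹ * ((α ⟨x, hPT x.2⟩ : T) : G) * (g * n * g⁻¹)⁻¹ = _
      rw [← afun_apply α (hPT x.2), hge _ (hPT x.2), ← afun_apply α hφx, hge _ hφx, hg x]
      simp only [cj_apply]; group
  · -- Frattini
    rintro P hP φ ⟨-, hφS, g, hg⟩
    have hfr := Sylow.normalizer_sup_eq_top R
    rw [hR, Subgroup.subgroupOf_map_subtype, inf_eq_left.2 hTN] at hfr
    have hgm : g ∈ ((Subgroup.normalizer (T : Set G) ⊔ N : Subgroup G) : Set G) := by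
      rw [hfr]; trivial
    rw [Subgroup.mul_normal] at hgm
    obtain ⟨h, hh, n, hn, rfl⟩ := Set.mem_mul.1 hgm
    have hval : ∀ x : P, cj n (x : G) ∈ T := by
      intro x
      have h1 : cj (h * n) (x : G) ∈ T :=
        hclosed _ x (hP x.2) (by rw [cj_apply, ← hg x]; exact hφS x)
      rw [← cj_cj] at h1
      have h2 := cj_mem_of_normalizer (Subgroup.inv_mem _ hh) h1
      rwa [cj_inv_cj] at h2
    let g' : ↥((⊤ : Subgroup G) ⊓ Subgroup.normalizer (T : Set G)) := ⟨h, trivial, hh⟩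
    refine ⟨nHom ⊤ T g', (mem_autGroup_group hTS).2 (by rw [autInducedBy_eq_range]; exact ⟨_, rfl⟩),
      Cfsg.conjHom P n, ⟨hP, hval, n, hn, fun _ => rfl⟩, fun x hx => ?_⟩
    rw [← afun_apply _ hx, afun_nHom _ hx, hg x]
    show h * n * (x : G) * (h * n)⁻¹ = h * (n * (x : G) * n⁻¹) * h⁻¹
    group
  · -- extension
    intro α hα
    obtain ⟨-, n, hn, hne, -⟩ := mor_subgroup_iff.1 ((mem_autGroup le_rfl).1 hα)
    have hnT : n ∈ Subgroup.normalizer (T : Set G) := by
      rw [mem_normalizer_iff_im_cj, ← im_congr hne, im_afun]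
    have hfc : (Cfsg.groupFusionSystem (S : Subgroup G)).IsFullyCentralized T := by
      refine ⟨hTS, fun Q hQ => le_of_eq ?_⟩
      obtain ⟨-, hQS, g, rfl⟩ := isConj_group_iff.1 hQ
      have : im T (cj g) = T := by
        refine eq_of_le_of_card_ge hTS (im_le_iff.2 fun x hx =>
          hclosed g x hx (hQS (apply_mem_im hx))) ?_
        rw [card_im_cj]
      rw [this]
    have hsylC := (fullyCentralized_group_iff S hTS).1 hfc
    -- the subgroup `X = C_S(T) C_N(T)`
    obtain ⟨Cs, hCs⟩ : ∃ Cs, Cs = centralizerIn (S : Subgroup G) T := ⟨_, rfl⟩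
    rw [← hCs] at hsylC
    have hCsC : Cs ≤ Subgroup.centralizer (T : Set G) := hCs.le.trans cIn_le
    have hCsS : Cs ≤ S := hCs.le.trans cIn_le_left
    have hCn : Cs ≤ Subgroup.normalizer ((N ⊓ Subgroup.centralizer (T : Set G) : Subgroup G) : Set G) := by
      intro c hc
      refine mem_normalizer_of_cj_le (S := (⊤ : Subgroup G)) le_top fun y hy => ⟨hN.conj_mem y hy.1 c, ?_⟩
      exact mul_mem (mul_mem (hCsC hc) hy.2) (Subgroup.inv_mem _ (hCsC hc))
    have hX : Cs ⊔ (N ⊓ Subgroup.centralizer (T : Set G)) ≤ Subgroup.centralizer (T : Set G) :=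
      sup_le hCsC inf_le_right
    have hsylX : SylIn p Cs (Cs ⊔ (N ⊓ Subgroup.centralizer (T : Set G))) := by
      refine (sylIn_iff_card le_sup_left).2 (le_antisymm
        (card_le_pow_factorization (S.2.to_le hCsS) le_sup_left) ?_)
      rw [(sylIn_iff_card hCsC).1 hsylC]
      exact Nat.pow_le_pow_right (Fact.out (p := p.Prime)).pos
        ((Nat.factorization_le_iff_dvd Nat.card_pos.ne' Nat.card_pos.ne').2
          (Subgroup.card_dvd_of_le hX) p)
    have hKle : im Cs (cj n) ≤ Cs ⊔ (N ⊓ Subgroup.centralizer (T : Set G)) := by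
      refine im_le_iff.2 fun c hc => ?_
      have h1 : cj n c = c * (c⁻¹ * cj n c) := (mul_inv_cancel_left _ _).symm
      have h2 : cj n c ∈ Subgroup.centralizer (T : Set G) := by
        have := centralizer_im_cj T n
        rw [mem_normalizer_iff_im_cj.1 hnT] at this
        exact this.ge (apply_mem_im (hCsC hc))
      rw [h1]
      refine mul_mem (Subgroup.mem_sup_left hc) (Subgroup.mem_sup_right ⟨?_,
        mul_mem (Subgroup.inv_mem _ (hCsC hc)) h2⟩)
      have h3 : c⁻¹ * cj n c = (c⁻¹ * n * c) * n⁻¹ := by simp only [cj_apply]; group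
      rw [h3]
      exact mul_mem (by simpa using hN.conj_mem n hn c⁻¹) (Subgroup.inv_mem _ hn)
    have hKp : IsPGroup p ↥(im Cs (cj n)) := by
      rw [im_cj]; exact (S.2.to_le hCsS).map _
    obtain ⟨a, ha, haC⟩ := sylIn_absorb hsylX hKp hKle
    rw [← SetLike.mem_coe, Subgroup.coe_mul_of_left_le_normalizer_right _ _ hCn] at ha
    obtain ⟨c₀, hc₀, k, hk, rfl⟩ := Set.mem_mul.1 ha
    have hmC : ∀ c ∈ Cs, cj (k * n) c ∈ Cs := by
      intro c hc
      have h1 : c₀ * k * cj n c * (c₀ * k)⁻¹ ∈ Cs := haC _ (apply_mem_im hc)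
      have h2 : cj (k * n) c = c₀⁻¹ * (c₀ * k * cj n c * (c₀ * k)⁻¹) * c₀ := by
        simp only [cj_apply]; group
      rw [h2]
      exact mul_mem (mul_mem (Subgroup.inv_mem _ hc₀) h1) hc₀
    have hmT : ∀ x ∈ T, cj (k * n) x = afun α x := by
      intro x hx
      rw [← cj_cj, ← hne x hx, cj_apply,
        ← Subgroup.mem_centralizer_iff.1 hk.2 _ (afun_mem α hx), mul_inv_cancel_right]
    have hmU : ∀ x ∈ T ⊔ Cs, cj (k * n) x ∈ T ⊔ Cs := by
      intro x hx
      have : T ⊔ Cs ≤ (T ⊔ Cs).comap (MulAut.conj (k * n)).toMonoidHom := by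
        refine sup_le (fun x hx => ?_) fun c hc => Subgroup.mem_sup_right (hmC c hc)
        refine Subgroup.mem_sup_left ?_
        show cj (k * n) x ∈ T
        rw [hmT x hx]
        exact afun_mem α hx
      exact this hx
    have hmor : Mor (Cfsg.groupFusionSystem (S : Subgroup G)) (T ⊔ Cs) (cj (k * n)) :=
      mor_group_iff.2 ⟨sup_le hTS hCsS, k * n, fun _ _ => rfl,
        fun x hx => sup_le hTS hCsS (hmU x hx)⟩
    subst hCs
    obtain ⟨β, hβ, hβe⟩ := hmor.exists_aut (hmor.im_self hmU)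
    refine ⟨β, hβ, fun x => ?_, fun c hc => ?_⟩
    · show ((β ⟨(x : G), _⟩ : ↥(T ⊔ _)) : G) = _
      rw [← afun_apply β (Subgroup.mem_sup_left x.2), hβe _ (Subgroup.mem_sup_left x.2),
        hmT x x.2, afun_apply α x.2]
    · rw [← afun_apply β c.2, hβe _ c.2]
      have h1 : (c : G)⁻¹ * cj (k * n) c ∈ centralizerIn (S : Subgroup G) T :=
        mul_mem (Subgroup.inv_mem _ hc) (hmC _ hc)
      refine ⟨hTm h1.1 ?_, h1.2⟩
      have h3 : (c : G)⁻¹ * cj (k * n) c = ((c : G)⁻¹ * (k * n) * c) * (k * n)⁻¹ := by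
        simp only [cj_apply]; group
      rw [h3]
      exact mul_mem (by simpa using hN.conj_mem _ (mul_mem hk.1 hn) (c : G)⁻¹)
        (Subgroup.inv_mem _ (mul_mem hk.1 hn))

/-- Let G be a finite group with Sylow p-subgroup S whose fusion system F_S(G) is simple. If G has no nontrivial normal subgroup of order prime to p and no proper subgroup H containing S induces the same fusion system on S as G does, then G is a simple group. -/
theorem result {G : Type*} [Group G] [Finite G] (p : ℕ) [Fact p.Prime] (S : Sylow p G) (hsimple : (Cfsg.groupFusionSystem (S : Subgroup G)).IsSimple p) (hcore : Cfsg.pPrimeCore p G = ⊥) (hmin : ∀ (H : Subgroup G) (hSH : (S : Subgroup G) ≤ H), H ≠ ⊤ → ∃ P : Subgroup G, (Cfsg.fusionSystemOfSubgroup H (S : Subgroup G) hSH).Hom P ≠ (Cfsg.groupFusionSystem (S : Subgroup G)).Hom P) : IsSimpleGroup G := by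
  obtain ⟨-, hS, hmax⟩ := hsimple
  obtain ⟨x, -, hx1⟩ := (Subgroup.bot_or_exists_ne_one (S : Subgroup G)).resolve_left hS
  haveI : Nontrivial G := ⟨⟨x, 1, hx1⟩⟩
  refine { eq_bot_or_eq_top_of_normal := fun N hN => ?_ }
  haveI := hN
  rcases hmax _ _ (isNormalIn_of_normal S N _ rfl inf_le_right) with h | ⟨h, hE⟩
  · left
    have h1 := (sylIn_iff_card inf_le_right).1 (sylIn_inf S N)
    rw [h, Subgroup.card_bot] at h1
    refine le_bot_iff.1 (le_of_le_of_eq (show N ≤ Cfsg.pPrimeCore p G from le_sSup ⟨hN, ?_⟩) hcore)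
    refine (((Fact.out (p := p.Prime)).coprime_iff_not_dvd).2 fun hd => ?_).symm
    have := (Fact.out (p := p.Prime)).factorization_pos_of_dvd Nat.card_pos.ne' hd
    exact absurd h1.symm (Nat.one_lt_pow this.ne' (Fact.out (p := p.Prime)).one_lt).ne'
  · right
    by_contra hne
    have hSN : (S : Subgroup G) ≤ N := inf_eq_left.1 h
    obtain ⟨P, hP⟩ := hmin N hSN hne
    apply hP
    rw [← hE P]
    have key : ∀ (T₁ T₂ : Subgroup G) (h₁ : T₁ ≤ N) (h₂ : T₂ ≤ N), T₁ = T₂ →
        (Cfsg.fusionSystemOfSubgroup N T₁ h₁).Hom P = (Cfsg.fusionSystemOfSubgroup N T₂ h₂).Hom P := by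
      rintro T₁ T₂ h₁ h₂ rfl
      rfl
    exact key _ _ _ _ h.symm

end Cfsg.Agent.S5336
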