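import Cfsg.Statements.S1944
import Cfsg.Agent.S5294
import Cfsg.Agent.S5336
import Cfsg.Agent.Lib.HallCore
-- import your own Cfsg.Agent.* helpers here

set_option autoImplicit false
open Cfsg

namespace Cfsg.Agent.S1944

open Cfsg.FusionSystem Cfsg.Agent.FusionSysBasic Cfsg.Agent.FusionSysSaturated
open Cfsg.Agent.FusionSysNormal Cfsg.Agent.FusionSysGroup

/-- `S ∩ O_{p',p}(G)` is normal in the fusion system of `G`. -/
theorem isNormal_inf {G : Type*} [Group G] [Finite G] {p : ℕ} [Fact p.Prime] (S : Sylow p G) :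
    (Cfsg.groupFusionSystem (S : Subgroup G)).IsNormal
      ((S : Subgroup G) ⊓ Cfsg.pPrimePCore p G) := by
  have hKn : (Cfsg.pPrimeCore p G).Normal := HallCore.pPrimeCore_normal p G
  have hLn : (Cfsg.pPrimePCore p G).Normal := by
    have := HallCore.pCore_normal p (G ⧸ Cfsg.pPrimeCore p G)
    exact this.comap _
  have hQcard := (sylIn_iff_card inf_le_right).1 (S5336.sylIn_inf S (Cfsg.pPrimePCore p G))
  have hKL : Cfsg.pPrimeCore p G ≤ Cfsg.pPrimePCore p G := fun x hx => by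
    show QuotientGroup.mk' (Cfsg.pPrimeCore p G) x ∈ Cfsg.pCore p (G ⧸ Cfsg.pPrimeCore p G)
    rw [QuotientGroup.mk'_apply, (QuotientGroup.eq_one_iff x).2 hx]
    exact one_mem _
  have hcardL : ∃ a : ℕ, Nat.card (Cfsg.pPrimePCore p G) = Nat.card (Cfsg.pPrimeCore p G) * p ^ a := by
    obtain ⟨a, ha⟩ := IsPGroup.iff_card.1 (HallCore.isPGroup_pCore p (G ⧸ Cfsg.pPrimeCore p G))
    exact ⟨a, by rw [← ha, mul_comm]; exact (HallCore.card_comap_mk' _ _).symm⟩
  set K := Cfsg.pPrimeCore p G with hK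
  set L := Cfsg.pPrimePCore p G with hL
  obtain ⟨R, hR⟩ := S5336.sylIn_inf S L
  have hK' : ¬ p ∣ Nat.card K := HallCore.not_dvd_card_pPrimeCore p G
  generalize hQ : (S : Subgroup G) ⊓ L = Q at hR hQcard
  have hQL : Q ≤ L := hQ ▸ inf_le_right
  have hQS : Q ≤ S := hQ ▸ inf_le_left
  have hsup : L ≤ Q ⊔ K := by
    obtain ⟨a, ha⟩ := hcardL
    have hp := (Fact.out (p := p.Prime))
    have hv : (Nat.card L).factorization p = a := by
      rw [ha, Nat.factorization_mul Nat.card_pos.ne' (pow_ne_zero _ hp.ne_zero), Finsupp.add_apply,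
        Nat.factorization_eq_zero_of_not_dvd hK', hp.factorization_pow, Finsupp.single_eq_same,
        zero_add]
    rw [hv] at hQcard
    refine (Subgroup.eq_of_le_of_card_ge (sup_le hQL hKL) (Nat.le_of_dvd Nat.card_pos ?_)).ge
    rw [ha]
    exact Nat.Coprime.mul_dvd_of_dvd_of_dvd (((hp.coprime_iff_not_dvd).2 hK').symm.pow_right a)
      (Subgroup.card_dvd_of_le le_sup_right) (hQcard ▸ Subgroup.card_dvd_of_le le_sup_left)
  have hSn : (S : Subgroup G) ≤ Subgroup.normalizer (Q : Set G) := fun s hs =>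
    mem_normalizer_of_cj_le hQS fun x hx => by
      rw [← hQ]
      exact ⟨S.1.mul_mem (S.1.mul_mem hs (hQS hx)) (S.1.inv_mem hs), hLn.conj_mem x (hQL hx) s⟩
  have hfr : Subgroup.normalizer (Q : Set G) ⊔ K = ⊤ := by
    have h := Sylow.normalizer_sup_eq_top R
    rw [hR, Subgroup.subgroupOf_map_subtype, inf_eq_left.2 hQL] at h
    exact top_le_iff.1 (h.symm.le.trans (sup_le le_sup_left (hsup.trans
      (sup_le (Subgroup.le_normalizer.trans le_sup_left) le_sup_right))))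
  refine isNormal_iff.2 ⟨hQS, fun P f hf => ?_⟩
  obtain ⟨hPS, g, hge, hgS⟩ := mor_group_iff.1 hf
  have hg : g ∈ ((K ⊔ Subgroup.normalizer (Q : Set G) : Subgroup G) : Set G) := by
    rw [sup_comm, hfr]; trivial
  rw [Subgroup.normal_mul] at hg
  obtain ⟨k, hk, h, hh, rfl⟩ := Set.mem_mul.1 hg
  have hPp : IsPGroup p ↥(im P (cj h)) := by rw [im_cj]; exact (S.2.to_le hPS).map _
  have hsyl : SylIn p (S : Subgroup G) ((((S : Subgroup G) ⊔ K) ⊓ Subgroup.normalizer (Q : Set G))) := by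
    refine (sylIn_iff_card (le_inf le_sup_left hSn)).2 (le_antisymm
      (card_le_pow_factorization S.2 (le_inf le_sup_left hSn)) ?_)
    rw [S.card_eq_multiplicity]
    exact Nat.pow_le_pow_right (Fact.out (p := p.Prime)).pos
      ((Nat.factorization_le_iff_dvd Nat.card_pos.ne' Nat.card_pos.ne').2
        (Subgroup.card_subgroup_dvd_card _) p)
  have hMle : im P (cj h) ≤ ((S : Subgroup G) ⊔ K) ⊓ Subgroup.normalizer (Q : Set G) := by
    refine im_le_iff.2 fun x hx => ⟨?_, ?_⟩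
    · have e : cj h x = k⁻¹ * cj (k * h) x * k := by simp only [cj_apply]; group
      rw [e]
      exact mul_mem (mul_mem (Subgroup.mem_sup_right (K.inv_mem hk)) (Subgroup.mem_sup_left (hgS x hx)))
        (Subgroup.mem_sup_right hk)
    · exact mul_mem (mul_mem hh (hSn (hPS hx))) (Subgroup.inv_mem _ hh)
  obtain ⟨a, ⟨haSK, han⟩, haS⟩ := sylIn_absorb hsyl hPp hMle
  have haSK' : a ∈ (((S : Subgroup G) ⊔ K : Subgroup G) : Set G) := haSK
  rw [Subgroup.mul_normal] at haSK'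
  obtain ⟨s, hs, m, hm, rfl⟩ := Set.mem_mul.1 haSK'
  have hmn : m ∈ Subgroup.normalizer (Q : Set G) := by
    have := mul_mem (Subgroup.inv_mem _ (hSn hs)) han
    rwa [inv_mul_cancel_left] at this
  have hmS : ∀ x ∈ P, cj (m * h) x ∈ (S : Subgroup G) := by
    intro x hx
    have h1 : s * m * cj h x * (s * m)⁻¹ ∈ (S : Subgroup G) := haS _ (apply_mem_im hx)
    have e : cj (m * h) x = s⁻¹ * (s * m * cj h x * (s * m)⁻¹) * s := by
      simp only [cj_apply]; group
    rw [e]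
    exact mul_mem (mul_mem (Subgroup.inv_mem _ hs) h1) hs
  have heq : ∀ x ∈ P, cj (m * h) x = f x := by
    intro x hx
    rw [hge x hx]
    have h1 : (cj (k * h) x)⁻¹ * cj (m * h) x ∈ K := by
      have e : (cj (k * h) x)⁻¹ * cj (m * h) x =
          ((cj (k * h) x)⁻¹ * (m * k⁻¹) * cj (k * h) x) * (m * k⁻¹)⁻¹ := by
        simp only [cj_apply]; group
      rw [e]
      have hmk : m * k⁻¹ ∈ K := K.mul_mem hm (K.inv_mem hk)
      refine K.mul_mem ?_ (K.inv_mem hmk)
      simpa using hKn.conj_mem _ hmk (cj (k * h) x)⁻¹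
    have h2 : (cj (k * h) x)⁻¹ * cj (m * h) x ∈ (S : Subgroup G) :=
      mul_mem (Subgroup.inv_mem _ (hgS x hx)) (hmS x hx)
    obtain ⟨j, hj⟩ := IsPGroup.iff_orderOf.1 S.2 ⟨_, h2⟩
    rw [Subgroup.orderOf_mk] at hj
    have hd : orderOf ((cj (k * h) x)⁻¹ * cj (m * h) x) ∣ Nat.card K := by
      have := orderOf_dvd_natCard (⟨_, h1⟩ : K)
      rwa [Subgroup.orderOf_mk] at this
    have h3 : orderOf ((cj (k * h) x)⁻¹ * cj (m * h) x) = 1 := by
      rw [hj] at hd ⊢
      rcases j with _ | j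
      · rfl
      · exact absurd ((dvd_pow_self p j.succ_ne_zero).trans hd) hK'
    exact (inv_mul_eq_one.1 (orderOf_eq_one_iff.1 h3)).symm
  have hn : m * h ∈ Subgroup.normalizer (Q : Set G) := mul_mem hmn hh
  refine ⟨cj (m * h), mor_group_iff.2 ⟨sup_le hPS hQS, m * h, fun _ _ => rfl, fun x hx => ?_⟩,
    heq, mem_normalizer_iff_im_cj.1 hn⟩
  have : P ⊔ Q ≤ (S : Subgroup G).comap (MulAut.conj (m * h)).toMonoidHom :=
    sup_le (fun y hy => hmS y hy) fun y hy => hQS (cj_mem_of_normalizer hn hy)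
  exact this hx

/-- Let S be a Sylow p-subgroup of the finite group G and suppose that the centre Z(S) lies in O_{p',p}(G). The elements of S each of which is its only G-conjugate in S form a subgroup W of Z(S); W is then a direct factor of Z(S): there is a subgroup K of Z(S) with W ∩ K = 1 and WK = Z(S). -/
theorem result {G : Type*} [Group G] [Finite G] {p : ℕ} [Fact p.Prime] (S : Sylow p G)
    (hZ : ((S : Subgroup G) ⊓ Subgroup.centralizer ((S : Subgroup G) : Set G)) ≤ Cfsg.pPrimePCore p G) :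
    ∃ W K : Subgroup G, (∀ x : G, x ∈ W ↔ (x ∈ (S : Subgroup G) ∧ ∀ g : G, g * x * g⁻¹ ∈ (S : Subgroup G) → g * x * g⁻¹ = x)) ∧
      K ≤ ((S : Subgroup G) ⊓ Subgroup.centralizer ((S : Subgroup G) : Set G)) ∧ W ⊓ K = ⊥ ∧ W ⊔ K = ((S : Subgroup G) ⊓ Subgroup.centralizer ((S : Subgroup G) : Set G)) := by
  have hF := saturated_group S
  have hQn := isNormal_inf S
  have hZQ : (S : Subgroup G) ⊓ Subgroup.centralizer ((S : Subgroup G) : Set G) ≤
      (S : Subgroup G) ⊓ Cfsg.pPrimePCore p G := le_inf inf_le_left hZ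
  obtain ⟨K, hK, hWK, hsup⟩ := S5294.result p S.2 (Cfsg.groupFusionSystem (S : Subgroup G)) hF
    (hZQ.trans (le_core hQn))
  refine ⟨_, K, fun x => ⟨fun hx => ⟨center_isCentral.1 hx, fun g hg => ?_⟩, ?_⟩, hK, hWK, hsup⟩
  · have hmor : Mor (Cfsg.groupFusionSystem (S : Subgroup G)) (Subgroup.zpowers x) (cj g) := by
      refine mor_group_iff.2 ⟨Subgroup.zpowers_le.2 (center_isCentral.1 hx), g, fun _ _ => rfl, ?_⟩
      rintro _ ⟨i, rfl⟩
      show g * x ^ i * g⁻¹ ∈ (S : Subgroup G)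
      rw [← conj_zpow]
      exact Subgroup.zpow_mem _ hg i
    obtain ⟨f, -, hfe, hfix⟩ := (isCentral_iff.1 center_isCentral).2 _ _ hmor
    rw [← cj_apply, ← hfe x (Subgroup.mem_zpowers x), hfix x hx]
  rintro ⟨hxS, hfix⟩
  have hxZ : x ∈ (S : Subgroup G) ⊓ Subgroup.centralizer ((S : Subgroup G) : Set G) :=
    ⟨hxS, Subgroup.mem_centralizer_iff.2 fun s hs =>
      mul_inv_eq_iff_eq_mul.1 (hfix s (mul_mem (mul_mem hs hxS) (Subgroup.inv_mem _ hs)))⟩
  refine le_center (isCentral_of_fixed S.2 hF (Subgroup.zpowers_le.2 hxS) fun y hy z hz => ?_)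
    (Subgroup.mem_zpowers x)
  obtain ⟨φ, hφ, rfl⟩ := hz
  obtain ⟨f, hf, hfe, -⟩ := (isNormal_iff.1 hQn).2 _ _ (mor_toFun hφ)
  rw [← toFun_apply φ (Subgroup.mem_zpowers y), ← hfe y (Subgroup.mem_zpowers y)]
  obtain ⟨i, rfl⟩ := hy
  have hxd : x ∈ Subgroup.zpowers (x ^ i) ⊔ ((S : Subgroup G) ⊓ Cfsg.pPrimePCore p G) :=
    Subgroup.mem_sup_right (hZQ hxZ)
  obtain ⟨-, g, hge, hgS⟩ := mor_group_iff.1 hf
  have hx1 : g * x * g⁻¹ = x := hfix g (hgS x hxd)
  rw [hge _ (Subgroup.zpow_mem _ hxd i), cj_apply]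
  show g * x ^ i * g⁻¹ = x ^ i
  rw [← conj_zpow, hx1]

end Cfsg.Agent.S1944
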