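import Cfsg.Statements.S1945
import Cfsg.Agent.Lib.GlaubermanWeak
import Cfsg.Agent.Lib.HallSolvable
-- import your own Cfsg.Agent.* helpers here

set_option autoImplicit false
open Cfsg

namespace Cfsg.Agent.S1945

open Subgroup

section
variable {G : Type*} [Group G] [Finite G] {p : ℕ} [Fact p.Prime]

/-- Averaging the conjugates of a central root. -/
theorem exists_fixed_pow (R : Sylow p G) (V : Subgroup G) [V.Normal]
    (hV : ∀ u ∈ V, ∀ v ∈ V, u * v = v * u) {z w : G} (hzV : z ∈ V)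
    (hz : ∀ r ∈ (R : Subgroup G), r * z = z * r) {n : ℕ} (hzw : z ^ n = w)
    (hw : ∀ g, g * w * g⁻¹ = w) :
    ∃ t ∈ V, (∀ g, g * t * g⁻¹ = t) ∧ t ^ n = w ^ (R : Subgroup G).index := by
  classical
  letI : CommGroup V :=
    { (inferInstance : Group V) with mul_comm := fun a b => Subtype.ext (hV a a.2 b b.2) }
  haveI : Fintype (G ⧸ (R : Subgroup G)) := Fintype.ofFinite _
  let F : G ⧸ (R : Subgroup G) → V := Quotient.lift (fun g => MulAut.conjNormal g ⟨z, hzV⟩) (by
    intro g g' h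
    have h' : g⁻¹ * g' ∈ (R : Subgroup G) := QuotientGroup.leftRel_apply.mp h
    refine Subtype.ext ?_
    show g * z * g⁻¹ = g' * z * g'⁻¹
    calc g * z * g⁻¹ = g * ((g⁻¹ * g') * z * (g⁻¹ * g')⁻¹) * g⁻¹ := by
          rw [hz _ h', mul_inv_cancel_right]
      _ = g' * z * g'⁻¹ := by group)
  have heq : ∀ (g : G) r, (F (g • r) : G) = g * F r * g⁻¹ := by
    intro g r
    obtain ⟨k, rfl⟩ := QuotientGroup.mk_surjective r
    show g * k * z * (g * k)⁻¹ = g * (k * z * k⁻¹) * g⁻¹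
    group
  refine ⟨((∏ r, F r : V) : G), SetLike.coe_mem _, fun g => ?_, ?_⟩
  · have h1 : MulAut.conjNormal g (∏ r, F r) = ∏ r, F r := by
      rw [map_prod]
      exact Fintype.prod_equiv (MulAction.toPerm g) _ _ fun r => Subtype.ext (heq g r).symm
    exact congrArg Subtype.val h1
  · have h2 : (∏ r, F r) ^ n = (⟨w, hzw ▸ pow_mem hzV n⟩ : V) ^ (R : Subgroup G).index := by
      rw [← Finset.prod_pow, Subgroup.index, Nat.card_eq_fintype_card, ← Finset.card_univ]
      refine Finset.prod_eq_pow_card fun r _ => ?_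
      obtain ⟨k, rfl⟩ := QuotientGroup.mk_surjective r
      refine Subtype.ext ?_
      show (k * z * k⁻¹) ^ n = w
      rw [conj_pow, hzw, hw]
    exact congrArg Subtype.val h2

end

/-- A pure subgroup of a finite abelian group has a complement. -/
theorem exists_complement {A : Type*} [CommGroup A] [Finite A] (W : Subgroup A)
    (hpure : ∀ (z : A) (n : ℕ), z ^ n ∈ W → ∃ w ∈ W, w ^ n = z ^ n) :
    ∃ K : Subgroup A, W ⊓ K = ⊥ ∧ W ⊔ K = ⊤ := by
  classical
  obtain ⟨ι, _, n, hn, ⟨e⟩⟩ := CommGroup.equiv_prod_multiplicative_zmod_of_finite (A ⧸ W)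
  have hlift : ∀ i, ∃ l : A, l ^ n i = 1 ∧
      QuotientGroup.mk' W l = e.symm (Pi.mulSingle i (Multiplicative.ofAdd 1)) := by
    intro i
    obtain ⟨z, hz⟩ := QuotientGroup.mk'_surjective W
      (e.symm (Pi.mulSingle i (Multiplicative.ofAdd 1)))
    have h1 : z ^ n i ∈ W := by
      refine (QuotientGroup.eq_one_iff _).mp ?_
      show QuotientGroup.mk' W (z ^ n i) = 1
      rw [map_pow, hz, ← map_pow, ← Pi.mulSingle_pow, ← ofAdd_nsmul, nsmul_one, ZMod.natCast_self,
        ofAdd_zero, Pi.mulSingle_one, map_one]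
    obtain ⟨w, hw, hwz⟩ := hpure z (n i) h1
    refine ⟨z * w⁻¹, ?_, ?_⟩
    · rw [mul_pow, inv_pow, hwz, mul_inv_cancel]
    · rw [map_mul, map_inv, show QuotientGroup.mk' W w = 1 from (QuotientGroup.eq_one_iff _).mpr hw,
        inv_one, mul_one, hz]
  choose l hl hlq using hlift
  let ψ : ∀ i, Multiplicative (ZMod (n i)) →* A := fun i =>
    AddMonoidHom.toMultiplicativeLeft (ZMod.lift (n i) ⟨zmultiplesHom (Additive A) (Additive.ofMul (l i)), by
      rw [zmultiplesHom_apply, natCast_zsmul, ← ofMul_pow, hl, ofMul_one]⟩)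
  have hψ : ∀ i a, QuotientGroup.mk' W (ψ i a) = e.symm (Pi.mulSingle i a) := by
    intro i a
    obtain ⟨k, hk⟩ := ZMod.intCast_surjective (Multiplicative.toAdd a)
    have ha : a = Multiplicative.ofAdd (1 : ZMod (n i)) ^ k := by
      rw [← ofAdd_zsmul, zsmul_one, hk, ofAdd_toAdd]
    have h1 : ψ i (Multiplicative.ofAdd (1 : ZMod (n i))) = l i := by
      have := ZMod.lift_coe (n i) ⟨zmultiplesHom (Additive A) (Additive.ofMul (l i)), by
        rw [zmultiplesHom_apply, natCast_zsmul, ← ofMul_pow, hl, ofMul_one]⟩ 1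
      rw [Int.cast_one] at this
      show Additive.toMul (ZMod.lift (n i) _ (1 : ZMod (n i))) = l i
      rw [this, zmultiplesHom_apply, one_zsmul]
      rfl
    rw [ha, map_zpow, map_zpow, h1, hlq, ← map_zpow, ← Pi.mulSingle_zpow]
  let φ : (∀ i, Multiplicative (ZMod (n i))) →* A :=
    { toFun := fun f => ∏ i, ψ i (f i)
      map_one' := by simp
      map_mul' := fun f g => by simp [Finset.prod_mul_distrib] }
  have hφ : ∀ f, QuotientGroup.mk' W (φ f) = e.symm f := by
    intro f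
    show QuotientGroup.mk' W (∏ i, ψ i (f i)) = _
    rw [map_prod, Finset.prod_congr rfl fun i _ => hψ i (f i), ← map_prod, Finset.univ_prod_mulSingle]
  refine ⟨φ.range, (eq_bot_iff_forall _).mpr ?_, eq_top_iff.mpr fun a _ => ?_⟩
  · rintro _ ⟨hW, f, rfl⟩
    have h1 : e.symm f = 1 := (hφ f).symm.trans ((QuotientGroup.eq_one_iff _).mpr hW)
    rw [(EmbeddingLike.map_eq_one_iff).mp h1, map_one]
  · obtain ⟨w, hw, he⟩ := (QuotientGroup.mk'_eq_mk' W).mp
      (show QuotientGroup.mk' W (φ (e (QuotientGroup.mk' W a))) = QuotientGroup.mk' W a by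
        rw [hφ, e.symm_apply_apply])
    rw [← he]
    exact mul_mem (mem_sup_right ⟨_, rfl⟩) (mem_sup_left hw)

/-- Splitting inside an ambient group. -/
theorem exists_complement_in {G : Type*} [Group G] [Finite G] (Z W : Subgroup G) (hWZ : W ≤ Z)
    (hZ : ∀ u ∈ Z, ∀ v ∈ Z, u * v = v * u)
    (hpure : ∀ z ∈ Z, ∀ n : ℕ, z ^ n ∈ W → ∃ w ∈ W, w ^ n = z ^ n) :
    ∃ K : Subgroup G, K ≤ Z ∧ W ⊓ K = ⊥ ∧ W ⊔ K = Z := by
  letI : CommGroup Z :=
    { (inferInstance : Group Z) with mul_comm := fun a b => Subtype.ext (hZ a a.2 b b.2) }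
  obtain ⟨K, h1, h2⟩ := exists_complement (W.subgroupOf Z) fun z n hz => by
    obtain ⟨w, hw, hwz⟩ := hpure z z.2 n hz
    exact ⟨⟨w, hWZ hw⟩, hw, Subtype.ext hwz⟩
  have hW : (W.subgroupOf Z).map Z.subtype = W := by
    rw [subgroupOf_map_subtype, inf_eq_left.mpr hWZ]
  refine ⟨K.map Z.subtype, map_subtype_le K, ?_, ?_⟩
  · have e := congrArg (fun H : Subgroup Z => H.map Z.subtype) h1
    simp only [Subgroup.map_bot, Subgroup.map_inf _ _ Z.subtype Z.subtype_injective] at e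
    rwa [hW] at e
  · have e := congrArg (fun H : Subgroup Z => H.map Z.subtype) h2
    simp only [Subgroup.map_sup] at e
    rwa [hW, ← MonoidHom.range_eq_map, Subgroup.range_subtype] at e

/-- Let S be a Sylow p-subgroup of the finite group G, and assume that p is odd or that G is solvable. The elements of S each of which is its only G-conjugate in S form a subgroup W of Z(S); W is then a direct factor of Z(S): there is a subgroup K of Z(S) with W ∩ K = 1 and WK = Z(S). (For p = 2 and G not solvable this can fail.) -/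
theorem result {G : Type*} [Group G] [Finite G] {p : ℕ} [Fact p.Prime] (S : Sylow p G) (h : p ≠ 2 ∨ Group.IsSolvable G) :
    ∃ W K : Subgroup G, (∀ x : G, x ∈ W ↔ (x ∈ (S : Subgroup G) ∧ ∀ g : G, g * x * g⁻¹ ∈ (S : Subgroup G) → g * x * g⁻¹ = x)) ∧
      K ≤ ((S : Subgroup G) ⊓ Subgroup.centralizer ((S : Subgroup G) : Set G)) ∧ W ⊓ K = ⊥ ∧ W ⊔ K = ((S : Subgroup G) ⊓ Subgroup.centralizer ((S : Subgroup G) : Set G)) := by
  classical
  set P := (S : Subgroup G) with hP
  set Z := P ⊓ centralizer (P : Set G) with hZ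
  have hPp : IsPGroup p P := S.isPGroup'
  have hZab : ∀ u ∈ Z, ∀ v ∈ Z, u * v = v * u := fun u hu v hv =>
    mem_centralizer_iff.mp hv.2 u hu.1
  have hZc : ∀ z ∈ Z, ∀ s ∈ P, s * z = z * s := fun z hz s hs =>
    mem_centralizer_iff.mp hz.2 s hs
  have hisoZ : ∀ x ∈ P, (∀ g, g * x * g⁻¹ ∈ P → g * x * g⁻¹ = x) → x ∈ Z := fun x hx hiso =>
    ⟨hx, mem_centralizer_iff.mpr fun s hs =>
      mul_inv_eq_iff_eq_mul.mp (hiso s (mul_mem (mul_mem hs hx) (inv_mem hs)))⟩
  -- roots of isolated elements can be chosen isolated, up to a power prime to `p`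
  suffices hmain : ∃ W : Subgroup G, (∀ x : G, x ∈ W ↔
      (x ∈ P ∧ ∀ g : G, g * x * g⁻¹ ∈ P → g * x * g⁻¹ = x)) ∧
      ∀ z ∈ Z, ∀ n : ℕ, z ^ n ∈ W → ∃ t ∈ W, ∃ m : ℕ, m.Coprime p ∧ t ^ n = (z ^ n) ^ m by
    obtain ⟨W, hW, hroot⟩ := hmain
    have hWZ : W ≤ Z := fun x hx => hisoZ x ((hW x).mp hx).1 ((hW x).mp hx).2
    obtain ⟨K, h1, h2, h3⟩ := exists_complement_in Z W hWZ hZab fun z hz n hzn => by
      obtain ⟨t, ht, m, hm, htm⟩ := hroot z hz n hzn
      obtain ⟨k, hk⟩ := hPp ⟨_, (hWZ hzn).1⟩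
      have hk' : (z ^ n) ^ p ^ k = 1 := congrArg Subtype.val hk
      obtain ⟨y, y', hyy⟩ := Int.isCoprime_iff_nat_coprime.mpr (show Nat.Coprime (Int.natAbs (m : ℤ))
        (Int.natAbs ((p ^ k : ℕ) : ℤ)) by simpa using hm.pow_right k)
      refine ⟨t ^ y, zpow_mem ht y, ?_⟩
      rw [← zpow_natCast (t ^ y) n, ← zpow_mul, mul_comm, zpow_mul, zpow_natCast, htm,
        ← zpow_natCast (z ^ n) m, ← zpow_mul, mul_comm]
      conv_rhs => rw [← zpow_one (z ^ n), ← hyy, zpow_add, mul_comm y' _, zpow_mul (z ^ n) _ y',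
        zpow_natCast (z ^ n) (p ^ k), hk', one_zpow, mul_one]
    exact ⟨W, K, hW, h1, h2, h3⟩
  by_cases hp2 : p = 2
  · -- the solvable case
    haveI hsol : Group.IsSolvable G := h.resolve_left (not_not.mpr hp2)
    set O := Cfsg.pPrimeCore p G with hO
    set π := QuotientGroup.mk' O
    set Sb := S.mapSurjective (QuotientGroup.mk'_surjective O)
    have hSb : (Sb : Subgroup (G ⧸ O)) = P.map π := Sylow.coe_mapSurjective _ _
    have hinj : ∀ s ∈ P, π s = 1 → s = 1 := by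
      intro s hs he
      have h1 : s ∈ P ⊓ O := ⟨hs, (QuotientGroup.eq_one_iff s).mp he⟩
      rwa [Subgroup.inf_eq_bot_of_coprime (by
        obtain ⟨k, hk⟩ := IsPGroup.iff_card.mp hPp
        rw [hk]
        exact ((HallCore.coprime_card_pPrimeCore p G).symm).pow_left k), mem_bot] at h1
    have hinj2 : ∀ s ∈ P, ∀ s' ∈ P, π s = π s' → s = s' := fun s hs s' hs' he =>
      mul_inv_eq_one.mp (hinj _ (mul_mem hs (inv_mem hs')) (by rw [map_mul, map_inv, he, mul_inv_cancel]))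
    have hcons : centralizer (Cfsg.pCore p (G ⧸ O) : Set (G ⧸ O)) ≤ Cfsg.pCore p (G ⧸ O) :=
      HallSolvable.centralizer_pCore_le
        (HallSolvable.isPSolvable_of_surjective (HallSolvable.isPSolvable_of_solvable p)
          (QuotientGroup.mk'_surjective O)) (HallCore.pPrimeCore_quotient_self p G)
    have hOS : Cfsg.pCore p (G ⧸ O) ≤ P.map π :=
      hSb ▸ (HallCore.isPGroup_pCore p _).le_sylow_of_normal Sb
    -- central elements of `P` go into the centre of `O_p`
    have hzb : ∀ z ∈ Z, π z ∈ Cfsg.pCore p (G ⧸ O) ⊓ centralizer (Cfsg.pCore p (G ⧸ O) : Set (G ⧸ O)) := by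
      intro z hz
      have h1 : π z ∈ centralizer (Cfsg.pCore p (G ⧸ O) : Set (G ⧸ O)) :=
        mem_centralizer_iff.mpr fun y hy => by
          obtain ⟨s, hs, rfl⟩ := hOS hy
          rw [← map_mul, ← map_mul, hZc z hz s hs]
      exact ⟨hcons h1, h1⟩
    let W : Subgroup G := Z ⊓ (center (G ⧸ O)).comap π
    have hW : ∀ x, x ∈ W ↔ (x ∈ P ∧ ∀ g : G, g * x * g⁻¹ ∈ P → g * x * g⁻¹ = x) := by
      refine fun x => ⟨fun hx => ⟨hx.1.1, fun g hg => hinj2 _ hg _ hx.1.1 ?_⟩, fun ⟨hx, hiso⟩ =>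
        ⟨hisoZ x hx hiso, mem_center_iff.mpr fun gb => ?_⟩⟩
      · rw [map_mul, map_mul, map_inv, mem_center_iff.mp hx.2 (π g), mul_inv_cancel_right]
      · obtain ⟨g, rfl⟩ := QuotientGroup.mk'_surjective O gb
        have hn : π (g * x * g⁻¹) ∈ P.map π := hOS (by
          rw [map_mul, map_mul, map_inv]
          exact (HallCore.pCore_normal p (G ⧸ O)).conj_mem _ (hzb x (hisoZ x hx hiso)).1 _)
        obtain ⟨s, hs, hse⟩ := hn
        -- `⟨g x g⁻¹⟩` is conjugate into `P` by an element of `O`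
        set H := (P.map π).comap π with hH
        have hPH : P ≤ H := fun y hy => mem_map_of_mem π hy
        have hyH : g * x * g⁻¹ ∈ H := mem_comap.mpr ⟨s, hs, hse⟩
        have hyp : IsPGroup p (zpowers (⟨_, hyH⟩ : H)) := by
          obtain ⟨k, hk⟩ := hPp ⟨x, hx⟩
          have hk' : x ^ p ^ k = 1 := congrArg Subtype.val hk
          rintro ⟨_, i, rfl⟩
          refine ⟨k, Subtype.ext ?_⟩
          show ((⟨_, hyH⟩ : H) ^ i) ^ p ^ k = 1
          rw [← zpow_natCast, ← zpow_mul, mul_comm, zpow_mul, zpow_natCast,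
            show (⟨_, hyH⟩ : H) ^ p ^ k = 1 from Subtype.ext (by
              rw [SubgroupClass.coe_pow, conj_pow, hk']; simp), one_zpow]
        obtain ⟨T, hT⟩ := hyp.exists_le_sylow
        set SH := S.subtype hPH
        obtain ⟨k, hk⟩ := MulAction.exists_smul_eq H T SH
        obtain ⟨u, hu, huk⟩ := mem_comap.mp k.2
        -- correct `k` by an element of `P`
        have h1 : (k : G) * (g * x * g⁻¹) * (k : G)⁻¹ ∈ P := by
          have h2 : k * (⟨_, hyH⟩ : H) * k⁻¹ ∈ (SH : Subgroup H) := by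
            rw [← hk, TransferAlperin.smul_coe_eq_cj]
            exact TransferAlperin.conj_mem_cj (hT (mem_zpowers _))
          exact h2
        have h3 : ((u⁻¹ * k) * g) * x * ((u⁻¹ * k) * g)⁻¹ ∈ P := by
          have := mul_mem (mul_mem (inv_mem hu) h1) hu
          simpa [mul_assoc] using this
        have h4 := congrArg π (hiso _ h3)
        rw [map_mul, map_mul, map_inv, map_mul, map_mul, map_inv π u, huk, inv_mul_cancel, one_mul] at h4
        exact mul_inv_eq_iff_eq_mul.mp h4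
    refine ⟨W, hW, fun z hz n hzn => ?_⟩
    set Ob := Cfsg.pCore p (G ⧸ O)
    haveI : (Ob ⊓ centralizer (Ob : Set (G ⧸ O))).Normal := inferInstance
    obtain ⟨t, htV, htfix, htn⟩ := exists_fixed_pow Sb (Ob ⊓ centralizer (Ob : Set (G ⧸ O)))
      (fun u hu v hv => mem_centralizer_iff.mp hv.2 u hu.1) (hzb z hz) (n := n)
      (fun r hr => by
        rw [hSb] at hr
        obtain ⟨s, hs, rfl⟩ := hr
        rw [← map_mul, ← map_mul, hZc z hz s hs]) (map_pow π z n).symm
      (fun g => mul_inv_eq_iff_eq_mul.mpr (mem_center_iff.mp hzn.2 g))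
    obtain ⟨s, hs, rfl⟩ := hOS htV.1
    have hsZ : s ∈ Z := ⟨hs, mem_centralizer_iff.mpr fun y hy =>
      hinj2 _ (mul_mem hy hs) _ (mul_mem hs hy) (by
        rw [map_mul, map_mul]; exact mul_inv_eq_iff_eq_mul.mp (htfix (π y)))⟩
    refine ⟨s, ⟨hsZ, mem_center_iff.mpr fun g => mul_inv_eq_iff_eq_mul.mp (htfix g)⟩,
      (Sb : Subgroup (G ⧸ O)).index, ?_,
      hinj2 _ (pow_mem hs n) _ (pow_mem (pow_mem hz.1 n) _) (by rw [map_pow, map_pow, htn])⟩
    exact ((Fact.out : p.Prime).coprime_iff_not_dvd.mpr Sb.not_dvd_index).symm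
  · -- odd primes
    set J := GlaubermanZJ.thomJ 0 P with hJ
    set N := normalizer (J : Set G) with hN
    have hPN : P ≤ N := le_normalizer.trans (GlaubermanZJ.normalizer_le_thomJ P)
    let W : Subgroup G := P ⊓ centralizer (N : Set G)
    have hW : ∀ x, x ∈ W ↔ (x ∈ P ∧ ∀ g : G, g * x * g⁻¹ ∈ P → g * x * g⁻¹ = x) := by
      refine fun x => ⟨fun hx => ⟨hx.1, GlaubermanWeak.weakly_closed S hx.1 (fun m hm => ?_) (Or.inl hp2)⟩,
        fun ⟨hx, hiso⟩ => ⟨hx, mem_centralizer_iff.mpr fun m hm => ?_⟩⟩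
      · refine mem_centralizer_iff.mpr fun y hy => ?_
        rw [Set.mem_singleton_iff.mp hy]
        exact (mem_centralizer_iff.mp hx.2 m hm).symm
      · exact mul_inv_eq_iff_eq_mul.mp (hiso m (GlaubermanZJ.thomJ_le P
          ((mem_normalizer_iff.mp hm x).mp (GlaubermanWeak.mem_thomJ hx (hZc x (hisoZ x hx hiso))))))
    refine ⟨W, hW, fun z hz n hzn => ?_⟩
    set V := J ⊓ centralizer (J : Set G) with hV
    have hNV : N ≤ normalizer (V : Set G) :=
      LocalBasics.le_normalizer_inf le_rfl (LocalBasics.le_normalizer_centralizer le_rfl)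
    haveI : (V.subgroupOf N).Normal := LocalBasics.normal_subgroupOf_of_le hNV
    have hzV : z ∈ V := ⟨GlaubermanWeak.mem_thomJ hz.1 (hZc z hz),
      mem_centralizer_iff.mpr fun j hj => hZc z hz j (GlaubermanZJ.thomJ_le P hj)⟩
    obtain ⟨t, htV, htfix, htn⟩ := exists_fixed_pow (S.subtype hPN) (V.subgroupOf N)
      (fun u hu v hv => Subtype.ext (mem_centralizer_iff.mp (mem_subgroupOf.mp hv).2 u
        (mem_subgroupOf.mp hu).1))
      (z := ⟨z, hPN hz.1⟩) (w := ⟨z ^ n, hPN hzn.1⟩) (mem_subgroupOf.mpr hzV)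
      (fun r hr => Subtype.ext (hZc z hz r hr)) rfl
      (fun g => Subtype.ext (mul_inv_eq_iff_eq_mul.mpr (mem_centralizer_iff.mp hzn.2 g g.2)))
    refine ⟨t, ⟨GlaubermanZJ.thomJ_le P (mem_subgroupOf.mp htV).1, mem_centralizer_iff.mpr fun m hm =>
      congrArg Subtype.val (mul_inv_eq_iff_eq_mul.mp (htfix ⟨m, hm⟩))⟩, _, ?_, congrArg Subtype.val htn⟩
    exact ((Fact.out : p.Prime).coprime_iff_not_dvd.mpr (S.subtype hPN).not_dvd_index).symm
end Cfsg.Agent.S1945
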