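import Cfsg.Statements.S1947
import Cfsg.Agent.Lib.TransferOmega

set_option autoImplicit false
open Cfsg

namespace Cfsg.Agent.S1947

/-- Let G be a finite group and p a prime. If every element of G of order dividing p (dividing 4 when p = 2) lies in some fixed term Z_n(G) of the upper central series, then G has a normal p-complement. -/
theorem result {G : Type*} [Group G] [Finite G] {p : ℕ} [Fact p.Prime] (n : ℕ)
    (h : ∀ a : G, (a ^ p = 1 ∨ (p = 2 ∧ a ^ 4 = 1)) → a ∈ Subgroup.upperCentralSeries G n) : Cfsg.HasNormalPComplement p G := by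
  obtain ⟨P⟩ : Nonempty (Sylow p G) := inferInstance
  refine TransferOmega.hasNormalPComplement_of_small P fun R hR hs g hg hcop => ?_
  suffices ∀ (i : ℕ) (x : G), x ∈ R → x ∈ Subgroup.upperCentralSeries G i → g * x * g⁻¹ = x by
    rw [Subgroup.mem_centralizer_iff]
    intro x hx
    exact (mul_inv_eq_iff_eq_mul.mp (this n x hx (h x (hs x hx)))).symm
  intro i
  induction i with
  | zero =>
    intro x _ hi
    rw [Subgroup.upperCentralSeries_zero, Subgroup.mem_bot] at hi
    rw [hi]; group
  | succ i ih =>
    intro x hx hi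
    have hcR : x⁻¹ * (g * x * g⁻¹) ∈ R :=
      mul_mem (inv_mem hx) ((Subgroup.mem_normalizer_iff.mp hg x).mp hx)
    have hci : x⁻¹ * (g * x * g⁻¹) ∈ Subgroup.upperCentralSeries G i := by
      have h1 := Subgroup.mem_upperCentralSeries_succ_iff.mp (inv_mem hi) g
      convert h1 using 1
      rw [commutatorElement_def]
      group
    obtain ⟨j, hj⟩ := IsPGroup.iff_orderOf.mp (P.isPGroup'.to_le hR) ⟨_, hcR⟩
    rw [Subgroup.orderOf_mk] at hj
    exact TransferOmega.conj_eq_of_step ⟨j, hj⟩ hcop (by group) (ih _ hcR hci)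

end Cfsg.Agent.S1947
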