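import Cfsg.Statements.S1948
import Cfsg.Agent.Lib.HallConstrained
import Cfsg.Agent.Lib.HallTheorem
-- import your own Cfsg.Agent.* helpers here

set_option autoImplicit false
open Cfsg

namespace Cfsg.Agent.S1948

open Cfsg.Agent.HallCore Cfsg.Agent.HallSolvable Cfsg.Agent.HallTheorem Cfsg.Agent.HallConstrained

/-- Let S be a Sylow p-subgroup of the finite group G. Then G = N_G(S)·O_{p'}(G) if and only if G is p-constrained and N_G(S) controls fusion in S, in the sense that whenever a subgroup Q of S has a conjugate g Q g⁻¹ inside S, the element g is a product n c with n normalizing S and c centralizing Q. -/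
theorem result {G : Type*} [Group G] [Finite G] {p : ℕ} [Fact p.Prime] (S : Sylow p G) :
    Subgroup.normalizer ((S : Subgroup G) : Set G) ⊔ Cfsg.pPrimeCore p G = ⊤ ↔
      (Cfsg.IsPConstrained p G ∧
        ∀ Q : Subgroup G, Q ≤ (S : Subgroup G) → ∀ g : G, Q.map (MulAut.conj g).toMonoidHom ≤ (S : Subgroup G) →
          ∃ n ∈ Subgroup.normalizer ((S : Subgroup G) : Set G), ∃ c ∈ Subgroup.centralizer (Q : Set G), g = n * c) := by
  set N := Cfsg.pPrimeCore p G with hN
  set q := QuotientGroup.mk' N
  have hqs : Function.Surjective q := QuotientGroup.mk'_surjective N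
  have hSN : (S : Subgroup G) ⊓ N = ⊥ := by
    obtain ⟨j, hj⟩ := IsPGroup.iff_card.mp S.2
    refine disjoint_iff.mp (Subgroup.disjoint_of_coprime_natCard ?_)
    rw [hj]
    exact Nat.Coprime.pow_left _ (coprime_card_pPrimeCore p G).symm
  constructor
  · intro h
    refine ⟨?_, fun Q hQ g hg => ?_⟩
    · rw [isPConstrained_iff]
      have hSn : ((S.mapSurjective hqs : Sylow p (G ⧸ N)) : Subgroup (G ⧸ N)).Normal := by
        rw [← Subgroup.normalizer_eq_top_iff, ← top_le_iff, Sylow.coe_mapSurjective]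
        intro x _
        obtain ⟨g, rfl⟩ := hqs x
        obtain ⟨n, hn, m, hm, rfl⟩ :=
          Subgroup.mem_sup_of_normal_right.mp (h.ge (Subgroup.mem_top g))
        rw [map_mul, show q m = 1 from (QuotientGroup.eq_one_iff m).mpr hm, mul_one]
        exact Subgroup.le_normalizer_map (f := q) ⟨n, hn, rfl⟩
      have hsol : Cfsg.IsPSolvable p (G ⧸ N) := by
        refine isPSolvable_extension ((S.mapSurjective hqs : Sylow p (G ⧸ N)) : Subgroup (G ⧸ N))
          ?_ ?_
        · exact (isPSolvable_iff p).mpr (isPiSeparable_of_piece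
            (Or.inl (isPGroup_iff_piNat.mp (S.mapSurjective hqs).2)))
        · refine (isPSolvable_iff p).mpr (isPiSeparable_of_piece (Or.inr ?_))
          rw [piNat_compl_singleton_iff Fact.out, ← Subgroup.index_eq_card]
          exact ((Nat.Prime.coprime_iff_not_dvd Fact.out).mpr
            (S.mapSurjective hqs).not_dvd_index).symm
      exact centralizer_pCore_le hsol (pPrimeCore_quotient_self p G)
    · obtain ⟨n, hn, m, hm, rfl⟩ := Subgroup.mem_sup_of_normal_right.mp (h.ge (Subgroup.mem_top g))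
      refine ⟨n, hn, m, fun y hy => ?_, rfl⟩
      have h1 : n * (m * y * m⁻¹) * n⁻¹ ∈ (S : Subgroup G) := by
        have := hg ⟨y, hy, rfl⟩
        simpa [mul_assoc] using this
      have h2 : m * y * m⁻¹ * y⁻¹ ∈ (S : Subgroup G) ⊓ N := by
        refine ⟨Subgroup.mul_mem _ ((Subgroup.mem_normalizer_iff.mp hn _).mpr h1)
          (Subgroup.inv_mem _ (hQ hy)), ?_⟩
        rw [mul_assoc, mul_assoc, ← mul_assoc y m⁻¹ y⁻¹]
        exact N.mul_mem hm ((pPrimeCore_normal p G).conj_mem _ (N.inv_mem hm) y)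
      rw [hSN, Subgroup.mem_bot, mul_inv_eq_one, mul_inv_eq_iff_eq_mul] at h2
      exact h2.symm
  · rintro ⟨hc, hctl⟩
    set U := Cfsg.pPrimePCore p G with hU
    have hT : ¬ p ∣ ((S : Subgroup G).subgroupOf U).index :=
      (isPiHall_subgroupOf (π := {p}) (H := (S : Subgroup G))
        (isPiHall_iff.mpr ⟨isPGroup_iff_piNat.mp S.2, fun r hr hd (hrp : r = p) =>
          S.not_dvd_index (hrp ▸ hd)⟩) U).2 p Fact.out rfl
    let T : Sylow p U := IsPGroup.toSylow (P := (S : Subgroup G).subgroupOf U)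
      (S.2.comap_of_injective U.subtype U.subtype_injective) hT
    have hTimg : sylImg T = (S : Subgroup G) ⊓ U := Subgroup.subgroupOf_map_subtype _ _
    rw [eq_top_iff]
    intro g _
    obtain ⟨m, hm, u, hu, rfl⟩ :=
      Subgroup.mem_sup_of_normal_right.mp (T.normalizer_sup_eq_top.ge (Subgroup.mem_top g))
    have hconj : (sylImg T).map (MulAut.conj m).toMonoidHom ≤ (S : Subgroup G) := by
      rintro _ ⟨y, hy, rfl⟩
      have h1 : MulAut.conj m y ∈ sylImg T := (Subgroup.mem_normalizer_iff.mp hm y).mp hy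
      rw [hTimg] at h1
      exact h1.1
    obtain ⟨n, hn, c, hcc, rfl⟩ := hctl (sylImg T) (hTimg ▸ inf_le_left) m hconj
    have hcu : c * u ∈ sylImg T ⊔ N := by
      rw [sylImg_sup]
      exact Subgroup.mul_mem _ (hc T hcc) hu
    rw [mul_assoc]
    refine Subgroup.mul_mem _ (Subgroup.mem_sup_left hn) ?_
    exact sup_le_sup_right ((hTimg ▸ inf_le_left : sylImg T ≤ (S : Subgroup G)).trans
      Subgroup.le_normalizer) N hcu

end Cfsg.Agent.S1948
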