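import Cfsg.Statements.S1949
import Mathlib
import Cfsg.Agent.Lib.PGroupsBasic
import Cfsg.Agent.Lib.PGroupsCritical

set_option autoImplicit false
open Cfsg

namespace Cfsg.Agent.S1949

open scoped commutatorElement
open Subgroup

variable {P : Type*} [Group P] [Finite P] {p : ℕ} [Fact p.Prime]

theorem fixed_of_step (hP : IsPGroup p P) {β : MulAut P} (hβ : (orderOf β).Coprime p) {x : P}
    (h : β (x⁻¹ * β x) = x⁻¹ * β x) : β x = x := by
  set z := x⁻¹ * β x with hz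
  have key : ∀ k : ℕ, (β ^ k) x = x * z ^ k := by
    intro k
    induction k with
    | zero => simp
    | succ k ih =>
      rw [pow_succ', MulAut.mul_apply, ih, map_mul, map_pow, h, pow_succ', ← mul_assoc, hz,
        mul_inv_cancel_left]
  have h4 := key (orderOf β)
  rw [pow_orderOf_eq_one, MulAut.one_apply, eq_comm, mul_eq_left] at h4
  obtain ⟨j, hj⟩ := hP z
  have : z = 1 := orderOf_eq_one_iff.mp (Nat.eq_one_of_dvd_coprimes (hβ.pow_right j)
    (orderOf_dvd_of_pow_eq_one h4) (orderOf_dvd_of_pow_eq_one hj))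
  rw [hz, inv_mul_eq_one] at this
  exact this.symm

theorem main (hP : IsPGroup p P) (G : Subgroup (MulAut P)) (hG : Cfsg.Inn P ≤ G) :
    ∃ D : Subgroup P,
      (∀ α ∈ G, D.map α.toMonoidHom = D) ∧
      D ≤ Subgroup.closure {y : P | ∃ α ∈ Cfsg.pResidual p ↥G, ∃ x : P, y = x⁻¹ * (α : MulAut P) x} ∧
      (∀ d ∈ D, d ^ p = 1 ∨ (p = 2 ∧ d ^ 4 = 1)) ∧
      ⁅D, (⊤ : Subgroup P)⁆ ≤ D ⊓ Subgroup.centralizer (D : Set P) ∧
      (∀ α ∈ G, (orderOf α).Coprime p → (∀ d ∈ D, α d = d) → α = 1) ∧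
      ∀ A : Subgroup P, A ≤ D → IsMulCommutative ↥A →
        (∀ B : Subgroup P, A ≤ B → B ≤ D → IsMulCommutative ↥B → B = A) →
        A.Normal ∧ ∀ α ∈ G, (∀ a ∈ A, α a = a) → ∃ k : ℕ, orderOf α = p ^ k := by
  obtain ⟨C, hCchar, hfr, hCT, hCC⟩ := PGroupsCritical.exists_critical hP
  set K := Subgroup.closure {y : P | ∃ α ∈ Cfsg.pResidual p ↥G, ∃ x : P, y = x⁻¹ * (α : MulAut P) x}
  have hres : ∀ g r : ↥G, r ∈ Cfsg.pResidual p ↥G → g * r * g⁻¹ ∈ Cfsg.pResidual p ↥G := by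
    intro g r hr
    refine Subgroup.closure_induction (fun r hr => ?_) ?_ (fun a b _ _ ha hb => ?_) (fun a _ ha => ?_) hr
    · refine subset_closure ?_
      show Nat.Coprime (orderOf (g * r * g⁻¹)) p
      have e : g * r * g⁻¹ = MulAut.conj g r := rfl
      rwa [e, MulEquiv.orderOf_eq]
    · rw [mul_one, mul_inv_cancel]; exact one_mem _
    · rw [show g * (a * b) * g⁻¹ = g * a * g⁻¹ * (g * b * g⁻¹) by group]; exact mul_mem ha hb
    · rw [show g * a⁻¹ * g⁻¹ = (g * a * g⁻¹)⁻¹ by group]; exact inv_mem ha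
  have hKinv : ∀ α ∈ G, ∀ y ∈ K, α y ∈ K := by
    intro α hα y hy
    refine Subgroup.closure_induction (fun y hy => ?_) ?_ (fun a b _ _ ha hb => ?_) (fun a _ ha => ?_) hy
    · obtain ⟨β, hβ, x, rfl⟩ := hy
      let γ : ↥G := ⟨α, hα⟩
      have hr : γ * β * γ⁻¹ ∈ Cfsg.pResidual p ↥G := hres γ β hβ
      refine subset_closure ?_
      refine ⟨γ * β * γ⁻¹, hr, α x, ?_⟩
      rw [map_mul, map_inv, Subgroup.coe_mul, Subgroup.coe_mul, MulAut.mul_apply, MulAut.mul_apply]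
      show (α x)⁻¹ * α ((β : MulAut P) x) = (α x)⁻¹ * α ((β : MulAut P) (α⁻¹ (α x)))
      rw [MulAut.inv_apply_self]
    · rw [map_one]; exact one_mem _
    · rw [map_mul]; exact mul_mem ha hb
    · rw [map_inv]; exact inv_mem ha
  have hKgen : ∀ α ∈ G, (orderOf α).Coprime p → ∀ x : P, x⁻¹ * α x ∈ K := fun α hα hαc x =>
    subset_closure ⟨⟨α, hα⟩, subset_closure (by simpa [Subgroup.orderOf_mk] using hαc), x, rfl⟩
  have hCinv : ∀ (α : MulAut P), ∀ y ∈ C, α y ∈ C := fun α y hy => (hCchar.fixed α).ge hy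
  have hcc : ∀ a b : C, ⁅a, b⁆ ∈ center C := fun a b => mem_center_iff.mpr fun w => Subtype.ext
    (mem_centralizer_iff.mp (hCT (commutator_mem_commutator a.2 (mem_top (b : P)))).2 w w.2)
  have hpc : ∀ x : C, x ^ p ∈ center C := fun x => mem_center_iff.mpr fun w => Subtype.ext
    (mem_centralizer_iff.mp (hfr ⟨_, PGroupsBasic.pow_mem_frattini (hP.to_subgroup C) x, rfl⟩) w w.2)
  have hce : ∀ a b : C, ⁅a, b⁆ ^ p = 1 := fun a b => by
    rw [← PGroupsBasic.commutatorElement_pow_left (hcc a b), commutatorElement_eq_one_iff_mul_comm]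
    exact (mem_center_iff.mp (hpc a) b).symm
  have hp := (Fact.out : p.Prime)
  obtain ⟨q, hq1, hq2, hq3⟩ : ∃ q : ℕ, (∀ d : P, d ^ q = 1 → d ^ p = 1 ∨ (p = 2 ∧ d ^ 4 = 1)) ∧
      p ∣ q.choose 2 ∧ ((p = 2 ∧ q = 4) ∨ (p ≠ 2 ∧ q = p)) := by
    by_cases h2 : p = 2
    · exact ⟨4, fun d hd => Or.inr ⟨h2, hd⟩, by rw [h2]; decide, Or.inl ⟨h2, rfl⟩⟩
    · refine ⟨p, fun d hd => Or.inl hd, hp.dvd_choose_self (by omega) ?_, Or.inr ⟨h2, rfl⟩⟩
      exact lt_of_le_of_ne hp.two_le (Ne.symm h2)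
  have hmulq : ∀ a b : C, a ^ q = 1 → b ^ q = 1 → (a * b) ^ q = 1 := by
    intro a b ha hb
    obtain ⟨k, hk⟩ := hq2
    rw [PGroupsBasic.mul_pow_of_central (hcc b a), ha, hb, one_mul, one_mul, hk, pow_mul, hce,
      one_pow]
  let D : Subgroup P :=
    { carrier := {x | x ∈ C ∧ x ∈ K ∧ x ^ q = 1}
      one_mem' := ⟨one_mem _, one_mem _, one_pow q⟩
      mul_mem' := fun {a b} ha hb => ⟨mul_mem ha.1 hb.1, mul_mem ha.2.1 hb.2.1,
        congrArg Subtype.val (hmulq ⟨a, ha.1⟩ ⟨b, hb.1⟩ (Subtype.ext ha.2.2) (Subtype.ext hb.2.2))⟩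
      inv_mem' := fun {a} ha => ⟨inv_mem ha.1, inv_mem ha.2.1, by rw [inv_pow, ha.2.2, inv_one]⟩ }
  have hDinv : ∀ α ∈ G, ∀ d ∈ D, α d ∈ D := fun α hα d hd =>
    ⟨hCinv α d hd.1, hKinv α hα d hd.2.1, by rw [← map_pow, hd.2.2, map_one]⟩
  have hDn : D.Normal := ⟨fun d hd g => hDinv (MulAut.conj g) (hG ⟨g, rfl⟩) d hd⟩
  have hDT : ⁅D, (⊤ : Subgroup P)⁆ ≤ D ⊓ centralizer (D : Set P) := by
    refine le_inf (Subgroup.commutator_le_left D ⊤) ?_
    have hDC : D ≤ C := fun d hd => hd.1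
    exact (commutator_mono hDC le_rfl).trans (hCT.trans (inf_le_right.trans (centralizer_le hDC)))
  have hfix : ∀ α ∈ G, (orderOf α).Coprime p → (∀ d ∈ D, α d = d) → α = 1 := by
    intro α hα hαc hfix
    have hCK : ∀ x, x ∈ C → x ∈ K → α x = x := by
      intro x
      induction hn : orderOf x using Nat.strong_induction_on generalizing x with
      | _ n ih =>
      intro hxC hxK
      subst hn
      by_cases hx1 : x = 1
      · rw [hx1, map_one]
      have hlt : orderOf (x ^ p) < orderOf x := by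
        obtain ⟨k, hk⟩ := IsPGroup.iff_orderOf.mp hP x
        have hk0 : k ≠ 0 := fun h => hx1 (orderOf_eq_one_iff.mp (by rw [hk, h, pow_zero]))
        rw [orderOf_pow' x hp.ne_zero, hk, Nat.gcd_eq_right (dvd_pow_self p hk0)]
        exact Nat.div_lt_self (pow_pos hp.pos k) hp.one_lt
      have hxp := ih _ hlt (x ^ p) rfl (pow_mem hxC p) (pow_mem hxK p)
      set z := x⁻¹ * α x with hz
      have hzC : z ∈ C := mul_mem (inv_mem hxC) (hCinv α x hxC)
      have hzK : z ∈ K := mul_mem (inv_mem hxK) (hKinv α hα x hxK)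
      refine fixed_of_step hP hαc (hfix _ ⟨hzC, hzK, ?_⟩)
      set X : C := ⟨x, hxC⟩
      set Z : C := ⟨z, hzC⟩
      have h1 : (X * Z) ^ p = X ^ p := Subtype.ext (by
        show (x * z) ^ p = x ^ p
        rw [hz, mul_inv_cancel_left, ← map_pow, hxp])
      rw [PGroupsBasic.mul_pow_of_central (hcc Z X), mul_assoc, mul_eq_left] at h1
      suffices Z ^ q = 1 from congrArg Subtype.val this
      rcases hq3 with ⟨h2, rfl⟩ | ⟨h2, rfl⟩
      · subst h2
        rw [show (2 : ℕ).choose 2 = 1 from rfl, pow_one] at h1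
        rw [show (4 : ℕ) = 2 * 2 from rfl, pow_mul, eq_inv_of_mul_eq_one_left h1, inv_pow,
          hce Z X, inv_one]
      · obtain ⟨k, hk⟩ := hp.dvd_choose_self (k := 2) (by omega) (lt_of_le_of_ne hp.two_le (Ne.symm h2))
        rwa [hk, pow_mul, hce, one_pow, mul_one] at h1
    have hC1 : ∀ c ∈ C, α c = c := fun c hc => fixed_of_step hP hαc
      (hCK _ (mul_mem (inv_mem hc) (hCinv α c hc)) (hKgen α hα hαc c))
    refine MulEquiv.ext fun t => ?_
    rw [MulAut.one_apply]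
    refine fixed_of_step hP hαc (hC1 _ (hCC (mem_centralizer_iff.mpr fun h hh => ?_)))
    have h2 : t * h * t⁻¹ ∈ C := (inferInstance : C.Normal).conj_mem h hh t
    have h3 := hC1 _ h2
    rw [map_mul, map_mul, map_inv, hC1 h hh] at h3
    calc h * (t⁻¹ * α t) = t⁻¹ * (t * h * t⁻¹) * α t := by group
      _ = t⁻¹ * (α t * h * (α t)⁻¹) * α t := by rw [h3]
      _ = t⁻¹ * α t * h := by group
  refine ⟨D, fun α hα => ?_, fun d hd => hd.2.1, fun d hd => hq1 d hd.2.2, hDT, hfix,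
    fun A hAD hAc hmax => ?_⟩
  · refine le_antisymm ?_ fun d hd => ⟨α⁻¹ d, hDinv α⁻¹ (inv_mem hα) d hd, ?_⟩
    · rintro _ ⟨d, hd, rfl⟩; exact hDinv α hα d hd
    · show α (α⁻¹ d) = d
      exact MulEquiv.apply_symm_apply α d
  -- the centre of `D` lies in `A`
  have hAZ : ∀ z ∈ D, (∀ a ∈ A, a * z = z * a) → z ∈ A := by
    intro z hz hcom
    have := hmax (A ⊔ zpowers z) le_sup_left (sup_le hAD (zpowers_le.mpr hz))
      (PGroupsCritical.isMulCommutative_sup_zpowers hAc (mem_centralizer_iff.mpr hcom))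
    exact this ▸ mem_sup_right (mem_zpowers z)
  have hcomA : ∀ a ∈ A, ∀ g : P, ⁅a, g⁆ ∈ A ∧ ⁅a, g⁆ ∈ centralizer (D : Set P) := by
    intro a ha g
    have h := hDT (commutator_mem_commutator (hAD ha) (mem_top g))
    exact ⟨hAZ _ h.1 fun b hb => mem_centralizer_iff.mp h.2 b (hAD hb), h.2⟩
  refine ⟨⟨fun a ha g => ?_⟩, fun α hα hfa => ?_⟩
  · have := mul_mem (hcomA a⁻¹ (inv_mem ha) g).1 ha
    have e : a * ⁅a⁻¹, g⁆ = g * a * g⁻¹ := by simp [commutatorElement_def, mul_assoc]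
    have := mul_mem ha (hcomA a⁻¹ (inv_mem ha) g).1
    rwa [e] at this
  obtain ⟨k, m, hm, hkm⟩ := Nat.exists_eq_pow_mul_and_not_dvd (orderOf_pos α).ne' p hp.ne_one
  refine ⟨k, ?_⟩
  have hord : orderOf (α ^ p ^ k) = m := by
    rw [orderOf_pow_of_dvd (pow_ne_zero _ hp.ne_zero) (hkm ▸ dvd_mul_right _ _), hkm,
      Nat.mul_div_cancel_left _ (pow_pos hp.pos _)]
  have hcop : (orderOf (α ^ p ^ k)).Coprime p := by
    rw [hord]; exact ((hp.coprime_iff_not_dvd).mpr hm).symm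
  have hfb : ∀ (i : ℕ), ∀ a ∈ A, (α ^ i) a = a := by
    intro i
    induction i with
    | zero => intro a _; simp
    | succ i ih => intro a ha; rw [pow_succ, MulAut.mul_apply, hfa a ha, ih a ha]
  have hone : α ^ p ^ k = 1 := by
    refine hfix _ (pow_mem hα _) hcop fun d hd => fixed_of_step hP hcop (hfb _ _ ?_)
    set β := α ^ p ^ k
    refine hAZ _ (mul_mem (inv_mem hd) (hDinv β (pow_mem hα _) d hd)) fun a ha => ?_
    have hz : ⁅a, d⁆ ∈ A := (hcomA a ha d).1
    have h3 := hfb (p ^ k) _ hz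
    rw [map_commutatorElement, hfb (p ^ k) a ha] at h3
    simp only [commutatorElement_def] at h3
    calc a * (d⁻¹ * β d) = d⁻¹ * (d * a * d⁻¹) * β d := by group
      _ = d⁻¹ * (β d * a * (β d)⁻¹) * β d := by
        have e : d * a * d⁻¹ = β d * a * (β d)⁻¹ := by
          have h4 := congrArg (fun y => y⁻¹ * a) h3
          simp only [mul_inv_rev, inv_inv, mul_assoc, inv_mul_cancel, mul_one] at h4
          simpa [mul_assoc] using h4.symm
        rw [e]
      _ = d⁻¹ * β d * a := by group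
  rw [hkm, ← hord, hone, orderOf_one, mul_one]

/-- Let P be a finite p-group and G a group of automorphisms of P containing the inner automorphisms. Then there is a G-invariant subgroup D of P, contained in the subgroup generated by the elements x⁻¹α(x) with x in P and α in O^p(G), of exponent dividing p when p is odd and dividing 4 when p = 2, with [D, P] ≤ Z(D), such that every automorphism in G of order prime to p that fixes D elementwise is the identity; moreover every maximal abelian subgroup A of D is normal in P and every automorphism in G fixing A elementwise has p-power order. -/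
theorem result {P : Type*} [Group P] [Finite P] {p : ℕ} [Fact p.Prime] (hP : IsPGroup p P)
    (G : Subgroup (MulAut P)) (hG : Cfsg.Inn P ≤ G) :
    ∃ D : Subgroup P,
      (∀ α ∈ G, D.map α.toMonoidHom = D) ∧
      D ≤ Subgroup.closure {y : P | ∃ α ∈ Cfsg.pResidual p ↥G, ∃ x : P, y = x⁻¹ * (α : MulAut P) x} ∧
      (∀ d ∈ D, d ^ p = 1 ∨ (p = 2 ∧ d ^ 4 = 1)) ∧
      ⁅D, (⊤ : Subgroup P)⁆ ≤ D ⊓ Subgroup.centralizer (D : Set P) ∧
      (∀ α ∈ G, (orderOf α).Coprime p → (∀ d ∈ D, α d = d) → α = 1) ∧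
      ∀ A : Subgroup P, A ≤ D → IsMulCommutative ↥A →
        (∀ B : Subgroup P, A ≤ B → B ≤ D → IsMulCommutative ↥B → B = A) →
        A.Normal ∧ ∀ α ∈ G, (∀ a ∈ A, α a = a) → ∃ k : ℕ, orderOf α = p ^ k := by
  exact main hP G hG

end Cfsg.Agent.S1949
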