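import Cfsg.Statements.S1950
import Cfsg.Agent.Lib.CyclicSylowPairs35
import Cfsg.Agent.Lib.HallSolvable

set_option autoImplicit false
open Cfsg

namespace Cfsg.Agent.S1950

open Cfsg.Agent.HallCore Cfsg.Agent.HallSolvable Cfsg.Agent.BlockPrincipal81

attribute [local instance] Classical.propDecidable

universe u

variable {G : Type u} [Group G] [Finite G] {p : ℕ} [hp : Fact p.Prime]

theorem cyclic_of_isPGroup (hS : ∀ Q : Sylow p G, IsCyclic (Q : Subgroup G)) {A : Subgroup G}
    (hA : IsPGroup p A) : IsCyclic A := by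
  obtain ⟨Q, hQ⟩ := hA.exists_le_sylow
  haveI := hS Q
  exact isCyclic_of_injective _ (Subgroup.inclusion_injective hQ)

theorem sylow_subgroup (hS : ∀ Q : Sylow p G, IsCyclic (Q : Subgroup G)) (H : Subgroup G) :
    ∀ Q : Sylow p H, IsCyclic (Q : Subgroup H) := by
  intro Q
  have hc := cyclic_of_isPGroup hS (Q.isPGroup'.map H.subtype)
  exact ((Q : Subgroup H).equivMapOfInjective _ H.subtype_injective).isCyclic.2 hc

theorem sylow_quotient (hS : ∀ Q : Sylow p G, IsCyclic (Q : Subgroup G)) (N : Subgroup G) [N.Normal] :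
    ∀ Q : Sylow p (G ⧸ N), IsCyclic (Q : Subgroup (G ⧸ N)) := by
  intro Q
  obtain ⟨P, rfl⟩ := Sylow.mapSurjective_surjective (f := QuotientGroup.mk' N)
    (QuotientGroup.mk'_surjective N) p Q
  haveI := hS P
  exact isCyclic_of_surjective ((QuotientGroup.mk' N).subgroupMap (P : Subgroup G))
    (MonoidHom.subgroupMap_surjective _ _)

omit [Finite G] hp in
theorem isPSolvable_of_coprime (h : (Nat.card G).Coprime p) : IsPSolvable p G := by
  refine ⟨1, fun i => if i = 0 then ⊥ else ⊤, by simp, by simp, ?_, ?_, ?_⟩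
  · intro i j hij
    by_cases h1 : i = 0
    · simp [h1]
    · have h2 : j ≠ 0 := fun h => h1 (le_antisymm (h ▸ hij) (Fin.zero_le i))
      simp [h1, h2]
  · intro i
    simp only
    split_ifs <;> infer_instance
  · intro i
    rw [Fin.eq_zero i]
    refine Or.inr ?_
    simpa using h

omit hp in
theorem pow_mem_of_cyclic {A : Type u} [Group A] [Finite A] [IsCyclic A] {x z : A} {n : ℕ}
    (hn : 0 < n) (hx : orderOf x = n) (hz : z ^ n = 1) : ∃ i < n, x ^ i = z := by
  haveI := Fintype.ofFinite A
  set B := Finset.univ.filter fun a : A => a ^ n = 1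
  set C := (Finset.range n).image fun i => x ^ i
  have hsub : C ⊆ B := fun a ha => by
    obtain ⟨i, -, rfl⟩ := Finset.mem_image.1 ha
    exact Finset.mem_filter.2 ⟨Finset.mem_univ _,
      by rw [← pow_mul, mul_comm, pow_mul, orderOf_dvd_iff_pow_eq_one.1 hx.dvd, one_pow]⟩
  have hC : C.card = n := by
    rw [Finset.card_image_of_injOn, Finset.card_range]
    intro i hi j hj h
    exact pow_injOn_Iio_orderOf (by simpa [hx] using hi) (by simpa [hx] using hj) h
  have hB : B.card ≤ n := IsCyclic.card_pow_eq_one_le hn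
  have hCB : C = B := Finset.eq_of_subset_of_card_le hsub (by omega)
  have hz' : z ∈ C := hCB ▸ Finset.mem_filter.2 ⟨Finset.mem_univ z, hz⟩
  simpa [C] using hz'

theorem notMem_of_order {N : Subgroup G} (hN : ¬ p ∣ Nat.card N) {a : G} (ha : orderOf a = p) :
    a ∉ N :=
  fun h => hN (ha ▸ Subgroup.orderOf_dvd_natCard N h)

/-- A `p`-solvable group generated by two elements of order `p`, with cyclic Sylow subgroups. -/
theorem pair_structure (hS : ∀ Q : Sylow p G, IsCyclic (Q : Subgroup G)) (hsolv : IsPSolvable p G)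
    {a b : G} (ha : orderOf a = p) (hb : orderOf b = p) :
    ∃ j ∈ Finset.Ico 1 p, (a ^ j)⁻¹ * b ∈ pPrimeCore p G := by
  set N := pPrimeCore p G with hN
  haveI : N.Normal := pPrimeCore_normal p G
  have hNd := not_dvd_card_pPrimeCore p G
  set R := pCore p (G ⧸ N)
  have hC := centralizer_pCore_le (isPSolvable_quotient hsolv N) (pPrimeCore_quotient_self p G)
  have hmem : ∀ c : G, orderOf c = p → QuotientGroup.mk' N c ∈ R ∧
      orderOf (QuotientGroup.mk' N c) = p := by
    intro c hc
    have ho : orderOf (QuotientGroup.mk' N c) = p := by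
      have hd : orderOf (QuotientGroup.mk' N c) ∣ p := hc ▸ orderOf_map_dvd _ c
      refine (hp.out.eq_one_or_self_of_dvd _ hd).resolve_left fun h1 => ?_
      exact notMem_of_order hNd hc ((QuotientGroup.eq_one_iff c).1 (orderOf_eq_one_iff.1 h1))
    refine ⟨?_, ho⟩
    obtain ⟨S, hSle⟩ := (IsPGroup.of_card (n := 1) (by rw [Nat.card_zpowers, ho, pow_one]) :
      IsPGroup p (Subgroup.zpowers (QuotientGroup.mk' N c))).exists_le_sylow
    haveI := sylow_quotient hS N S
    refine hC (Subgroup.mem_centralizer_iff.2 fun r hr => ?_)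
    letI := IsCyclic.commGroup (α := (S : Subgroup (G ⧸ N)))
    exact congrArg Subtype.val (mul_comm (⟨r, pCore_le_sylow S hr⟩ : (S : Subgroup (G ⧸ N)))
      ⟨_, hSle (Subgroup.mem_zpowers _)⟩)
  haveI : IsCyclic R := cyclic_of_isPGroup (sylow_quotient hS N) (isPGroup_pCore p _)
  obtain ⟨haR, hao⟩ := hmem a ha
  obtain ⟨hbR, hbo⟩ := hmem b hb
  obtain ⟨j, hj, hje⟩ := pow_mem_of_cyclic (x := (⟨_, haR⟩ : R)) (z := ⟨_, hbR⟩) hp.out.pos
    (by rw [Subgroup.orderOf_mk, hao])
    (orderOf_dvd_iff_pow_eq_one.1 (by rw [Subgroup.orderOf_mk, hbo]))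
  have hje' : (QuotientGroup.mk' N a) ^ j = QuotientGroup.mk' N b := congrArg Subtype.val hje
  refine ⟨j, Finset.mem_Ico.2 ⟨Nat.one_le_iff_ne_zero.2 fun h0 => ?_, hj⟩, ?_⟩
  · rw [h0, pow_zero] at hje'
    rw [← hje', orderOf_one] at hbo
    exact hp.out.ne_one hbo.symm
  · rw [← map_pow, QuotientGroup.mk'_apply, QuotientGroup.mk'_apply, QuotientGroup.eq] at hje'
    exact hje'

/-- `O_{p'}` of the subgroup generated by two elements, inside the group. -/
noncomputable def pairCore (p : ℕ) {G : Type u} [Group G] (a b : G) : Subgroup G :=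
  (pPrimeCore p ↥(Subgroup.closure ({a, b} : Set G))).map (Subgroup.closure ({a, b} : Set G)).subtype

theorem not_dvd_pairCore (a b : G) : ¬ p ∣ Nat.card (pairCore p a b) := by
  rw [pairCore, Subgroup.card_map_of_injective (Subgroup.subtype_injective _)]
  exact not_dvd_card_pPrimeCore p _

theorem exists_exp (hS : ∀ Q : Sylow p G, IsCyclic (Q : Subgroup G)) {a b : G}
    (hab : IsPSolvable p ↥(Subgroup.closure ({a, b} : Set G))) (ha : orderOf a = p)
    (hb : orderOf b = p) : ∃ j ∈ Finset.Ico 1 p, (a ^ j)⁻¹ * b ∈ pairCore p a b := by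
  obtain ⟨j, hj, hm⟩ := pair_structure (G := ↥(Subgroup.closure ({a, b} : Set G)))
    (sylow_subgroup hS _) hab (a := ⟨a, Subgroup.subset_closure (by simp)⟩)
    (b := ⟨b, Subgroup.subset_closure (by simp)⟩) (by rw [Subgroup.orderOf_mk, ha])
    (by rw [Subgroup.orderOf_mk, hb])
  exact ⟨j, hj, _, hm, rfl⟩

theorem exp_unique {a b : G} (ha : orderOf a = p) {i j : ℕ} (hi : i < p) (hj : j < p)
    (h1 : (a ^ i)⁻¹ * b ∈ pairCore p a b) (h2 : (a ^ j)⁻¹ * b ∈ pairCore p a b) : i = j := by
  by_contra hne
  have h3 : (a ^ i)⁻¹ * a ^ j ∈ pairCore p a b := by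
    simpa [mul_assoc] using mul_mem h1 (inv_mem h2)
  have h4 : (a ^ i)⁻¹ * a ^ j = 1 := by
    by_contra h
    refine notMem_of_order (not_dvd_pairCore a b) ?_ h3
    refine orderOf_eq_prime ?_ h
    rw [((Commute.pow_pow_self a i j).inv_left).mul_pow, inv_pow, ← pow_mul, ← pow_mul, mul_comm i,
      mul_comm j, pow_mul, pow_mul, orderOf_dvd_iff_pow_eq_one.1 ha.dvd]
    simp
  exact hne (pow_injOn_Iio_orderOf (by simpa [ha] using hi) (by simpa [ha] using hj)
    (inv_mul_eq_one.1 h4))

omit [Finite G] hp in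
theorem closure_pow {a b : G} {i k : ℕ} (hik : (b ^ i) ^ k = b) :
    Subgroup.closure ({a, b ^ i} : Set G) = Subgroup.closure ({a, b} : Set G) := by
  apply le_antisymm <;> rw [Subgroup.closure_le] <;> intro z hz <;>
    simp only [Set.mem_insert_iff, Set.mem_singleton_iff] at hz <;> rcases hz with rfl | rfl
  · exact Subgroup.subset_closure (by simp)
  · exact pow_mem (Subgroup.subset_closure (by simp)) i
  · exact Subgroup.subset_closure (by simp)
  · have h : (z ^ i) ^ k ∈ Subgroup.closure ({a, z ^ i} : Set G) :=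
      pow_mem (Subgroup.subset_closure (by simp)) k
    rwa [hik] at h

omit [Finite G] hp in
theorem pairCore_pow {a b : G} {i k : ℕ} (hik : (b ^ i) ^ k = b) :
    pairCore p a (b ^ i) = pairCore p a b := by
  exact congrArg (fun H : Subgroup G => (pPrimeCore p ↥H).map H.subtype) (closure_pow hik)

omit [Finite G] hp in
theorem pow_mem_pairCore {a b : G} {j : ℕ} (i : ℕ) (h : (a ^ j)⁻¹ * b ∈ pairCore p a b) :
    (a ^ (j * i))⁻¹ * b ^ i ∈ pairCore p a b := by
  obtain ⟨c, hc, hce⟩ := h
  haveI := pPrimeCore_normal p ↥(Subgroup.closure ({a, b} : Set G))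
  let a' : ↥(Subgroup.closure ({a, b} : Set G)) := ⟨a, Subgroup.subset_closure (by simp)⟩
  let b' : ↥(Subgroup.closure ({a, b} : Set G)) := ⟨b, Subgroup.subset_closure (by simp)⟩
  have hcq : c = (a' ^ j)⁻¹ * b' := Subtype.ext (by simpa [a', b'] using hce)
  subst hcq
  refine ⟨(a' ^ (j * i))⁻¹ * b' ^ i, ?_, by simp [a', b']⟩
  have hq := QuotientGroup.eq.2 hc
  apply QuotientGroup.eq.1
  rw [QuotientGroup.mk_pow, QuotientGroup.mk_pow, pow_mul, ← QuotientGroup.mk_pow, hq]

theorem not_hasOrdPart_iff {a b : G} (ha : orderOf a = p) {j : ℕ} (hj : j < p) (hj1 : 1 ≤ j)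
    (h : (a ^ j)⁻¹ * b ∈ pairCore p a b) :
    ¬ CyclicSylowPairs35.HasOrdPart p (a * b) ↔ j = p - 1 := by
  have hp2 := hp.out.two_le
  have hprod : a * b = a ^ (1 + j) * ((a ^ j)⁻¹ * b) := by rw [pow_add, pow_one]; group
  constructor
  · intro hno
    by_contra hne
    apply hno
    set H := Subgroup.closure ({a, b} : Set G) with hH
    obtain ⟨c, hc, hce⟩ : ∃ c, c ∈ pPrimeCore p ↥H ∧ (c : G) = (a ^ j)⁻¹ * b := h
    haveI := pPrimeCore_normal p ↥H
    let a' : ↥H := ⟨a, Subgroup.subset_closure (by simp)⟩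
    let z : ↥H := a' ^ (1 + j) * c
    have hz : (z : G) = a * b := by
      rw [hprod, ← hce]; simp [z, a']
    obtain ⟨x, y, hxy, hcm, ⟨k, hk⟩, hy⟩ := BlockTheoryIdem.exists_pPart hp.out z
    set π := QuotientGroup.mk' (pPrimeCore p ↥H)
    have hπc : π c = 1 := (QuotientGroup.eq_one_iff c).2 hc
    have hπa : orderOf (π a') = p := by
      have hd : orderOf (π a') ∣ p := by
        refine (orderOf_map_dvd π a').trans (dvd_of_eq ?_)
        rw [Subgroup.orderOf_mk, ha]
      refine (hp.out.eq_one_or_self_of_dvd _ hd).resolve_left fun h1 => ?_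
      exact notMem_of_order (not_dvd_card_pPrimeCore p ↥H) (a := a') (by rw [Subgroup.orderOf_mk, ha])
        ((QuotientGroup.eq_one_iff a').1 (orderOf_eq_one_iff.1 h1))
    have hπz : orderOf (π z) = p := by
      simp only [z, map_mul, map_pow, hπc, mul_one]
      rw [Nat.Coprime.orderOf_pow, hπa]
      rw [hπa, hp.out.coprime_iff_not_dvd]
      exact fun hd => absurd (Nat.le_of_dvd (by omega) hd) (by omega)
    have hox : orderOf (π x) ∣ p ^ k := hk ▸ orderOf_map_dvd π x
    have hoy : ¬ p ∣ orderOf (π y) := fun hd => hy (hd.trans (orderOf_map_dvd π y))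
    have hcop : (orderOf (π x)).Coprime (orderOf (π y)) :=
      Nat.Coprime.of_dvd_left hox ((hp.out.coprime_iff_not_dvd.2 hoy).pow_left k)
    rw [← hxy, map_mul, (hcm.map π).orderOf_mul_eq_mul_orderOf_of_coprime hcop] at hπz
    have hxp : x ^ p = 1 := by
      have h1 : x ^ p ∈ pPrimeCore p ↥H := by
        rw [← QuotientGroup.eq_one_iff, ← QuotientGroup.mk'_apply, map_pow]
        exact orderOf_dvd_iff_pow_eq_one.1 (Dvd.intro _ hπz)
      rw [← orderOf_eq_one_iff]
      refine Nat.eq_one_of_dvd_coprimes ((coprime_card_pPrimeCore p ↥H).pow_right k)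
        (Subgroup.orderOf_dvd_natCard _ h1) ?_
      exact hk ▸ orderOf_pow_dvd p
    have hx1 : x ≠ 1 := by
      rintro rfl
      rw [map_one, orderOf_one, one_mul] at hπz
      exact hoy (dvd_of_eq hπz.symm)
    refine ⟨x, ⟨y, by rw [← Subgroup.coe_mul, hxy, hz], hcm.map H.subtype, ⟨1, ?_⟩, ?_⟩, ?_⟩
    · rw [Subgroup.orderOf_coe, orderOf_eq_prime hxp hx1, pow_one]
    · rwa [Subgroup.orderOf_coe]
    · rw [Subgroup.orderOf_coe, orderOf_eq_prime hxp hx1]
  · rintro rfl ⟨x, hx, hxo⟩
    have hm : a * b ∈ pairCore p a b := by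
      rw [hprod, show 1 + (p - 1) = p by omega, orderOf_dvd_iff_pow_eq_one.1 ha.dvd, one_mul]
      exact h
    have hreg : ¬ p ∣ orderOf (a * b) := fun hd =>
      not_dvd_pairCore a b (hd.trans (Subgroup.orderOf_dvd_natCard _ hm))
    have := BlockTheoryIdem.pPart_unique hp.out hx (x' := 1)
      ⟨a * b, one_mul _, Commute.one_left _, ⟨0, by simp⟩, hreg⟩
    rw [this, orderOf_one] at hxo
    omega

/-- The count of pairs. -/
theorem count_pairs [Fintype G] (hS : ∀ Q : Sylow p G, IsCyclic (Q : Subgroup G))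
    (h : ∀ x y : G, orderOf x = p → orderOf y = p →
      IsPSolvable p ↥(Subgroup.closure ({x, y} : Set G))) (a : G) (ha : orderOf a = p) :
    (p - 1) * (Finset.univ.filter fun b : G =>
        orderOf b = p ∧ ¬ CyclicSylowPairs35.HasOrdPart p (a * b)).card =
      (Finset.univ.filter fun b : G => orderOf b = p).card := by
  set T := Finset.univ.filter fun b : G => orderOf b = p with hT
  set Tj := fun j : ℕ => T.filter fun b => (a ^ j)⁻¹ * b ∈ pairCore p a b with hTj
  have hp2 := hp.out.two_le
  have hTm : ∀ b ∈ T, orderOf b = p := fun b hb => (Finset.mem_filter.1 hb).2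
  have hone : ∀ b ∈ T, ((Finset.Ico 1 p).filter fun j => b ∈ Tj j).card = 1 := by
    intro b hb
    obtain ⟨j, hj, hm⟩ := exists_exp hS (h a b ha (hTm b hb)) ha (hTm b hb)
    rw [Finset.card_eq_one]
    refine ⟨j, ?_⟩
    ext i
    simp only [Finset.mem_filter, Finset.mem_singleton, hTj]
    exact ⟨fun hi => exp_unique ha (Finset.mem_Ico.1 hi.1).2 (Finset.mem_Ico.1 hj).2 hi.2.2 hm,
      fun hi => hi ▸ ⟨hj, hb, hm⟩⟩
  have hmap : ∀ i k j : ℕ, (∀ b ∈ T, (b ^ i) ^ k = b) → (Tj j).card ≤ (Tj ((j * i) % p)).card := by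
    intro i k j hik
    refine Finset.card_le_card_of_injOn (fun b => b ^ i) ?_ ?_
    · intro b hb
      simp only [hTj, Finset.coe_filter, Set.mem_ofPred_eq] at hb ⊢
      refine ⟨Finset.mem_filter.2 ⟨Finset.mem_univ _, ?_⟩, ?_⟩
      · refine orderOf_eq_prime ?_ fun h1 => ?_
        · rw [← pow_mul, mul_comm, pow_mul, orderOf_dvd_iff_pow_eq_one.1 (hTm b hb.1).dvd, one_pow]
        · have h2 := hik b hb.1
          rw [h1, one_pow] at h2
          have h3 := hTm b hb.1
          rw [← h2, orderOf_one] at h3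
          omega
      · have he : a ^ (j * i % p) = a ^ (j * i) := by
          conv_rhs => rw [← pow_mod_orderOf, ha]
        rw [pairCore_pow (hik b hb.1), he]
        exact pow_mem_pairCore i hb.2
    · intro b hb c hc he
      rw [← hik b (Finset.mem_filter.1 hb).1, ← hik c (Finset.mem_filter.1 hc).1]
      exact congrArg (· ^ k) he
  have hconst : ∀ j ∈ Finset.Ico 1 p, (Tj j).card = (Tj 1).card := by
    intro j hj
    rw [Finset.mem_Ico] at hj
    have hj0 : (j : ZMod p) ≠ 0 := by
      rw [Ne, ZMod.natCast_eq_zero_iff]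
      exact fun hd => absurd (Nat.le_of_dvd (by omega) hd) (by omega)
    set k := ((j : ZMod p)⁻¹).val with hk
    have hjk : (j * k) % p = 1 := by
      rw [← ZMod.val_natCast, Nat.cast_mul, hk, ZMod.natCast_zmod_val, mul_inv_cancel₀ hj0,
        ZMod.val_one]
    have hpow : ∀ b ∈ T, b ^ (j * k) = b := fun b hb => by
      rw [← pow_mod_orderOf, hTm b hb, hjk, pow_one]
    have h1 := hmap j k 1 fun b hb => by rw [← pow_mul, hpow b hb]
    have h2 := hmap k j j fun b hb => by rw [← pow_mul, mul_comm, hpow b hb]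
    rw [one_mul, Nat.mod_eq_of_lt hj.2] at h1
    rw [hjk] at h2
    omega
  have hTcard : T.card = (p - 1) * (Tj 1).card := by
    calc T.card = ∑ b ∈ T, ((Finset.Ico 1 p).filter fun j => b ∈ Tj j).card := by
          rw [Finset.sum_congr rfl hone, Finset.sum_const, smul_eq_mul, mul_one]
      _ = ∑ j ∈ Finset.Ico 1 p, (Tj j).card := by
          simp only [Finset.card_filter]
          rw [Finset.sum_comm]
          refine Finset.sum_congr rfl fun j _ => ?_
          simp only [hTj, Finset.card_filter, Finset.mem_filter]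
          exact Finset.sum_congr rfl fun b hb => by simp [hb]
      _ = (p - 1) * (Tj 1).card := by
          rw [Finset.sum_congr rfl hconst, Finset.sum_const, Nat.card_Ico, smul_eq_mul]
  have hbad : (Finset.univ.filter fun b : G =>
      orderOf b = p ∧ ¬ CyclicSylowPairs35.HasOrdPart p (a * b)) = Tj (p - 1) := by
    ext b
    simp only [hTj, hT, Finset.mem_filter, Finset.mem_univ, true_and]
    refine and_congr_right fun hb => ?_
    obtain ⟨j, hj, hm⟩ := exists_exp hS (h a b ha hb) ha hb
    rw [Finset.mem_Ico] at hj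
    rw [not_hasOrdPart_iff ha hj.2 hj.1 hm]
    exact ⟨fun e => e ▸ hm, fun hm' => exp_unique ha hj.2 (by omega) hm hm'⟩
  rw [hbad, hconst _ (Finset.mem_Ico.2 ⟨by omega, by omega⟩), hTcard]

theorem isPSolvable_of_pCore (hS : ∀ Q : Sylow p G, IsCyclic (Q : Subgroup G))
    (hR : pCore p G ≠ ⊥) : IsPSolvable p G := by
  haveI := pCore_normal p G
  obtain ⟨P⟩ := (inferInstance : Nonempty (Sylow p G))
  haveI := hS P
  haveI : IsCyclic (pCore p G) := cyclic_of_isPGroup hS (isPGroup_pCore p G)
  have hd : p ∣ Nat.card (pCore p G) := by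
    obtain ⟨n, hn⟩ := IsPGroup.iff_card.1 (isPGroup_pCore p G)
    rcases n with _ | n
    · exact absurd (Subgroup.eq_bot_of_card_eq _ (by rw [hn, pow_zero])) hR
    · rw [hn]; exact dvd_pow_self p (Nat.succ_ne_zero n)
  obtain ⟨x, hx⟩ := exists_prime_orderOf_dvd_card' (G := pCore p G) p hd
  have hxo : orderOf (x : G) = p := by rw [Subgroup.orderOf_coe, hx]
  set X := Subgroup.zpowers (x : G) with hX
  haveI : X.Normal := by
    refine ⟨fun z hz g => ?_⟩
    obtain ⟨k, rfl⟩ := Subgroup.mem_zpowers_iff.1 hz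
    rw [← conj_zpow]
    refine Subgroup.zpow_mem _ ?_ k
    have hm : g * (x : G) * g⁻¹ ∈ pCore p G := (pCore_normal p G).conj_mem _ x.2 g
    have ho : orderOf (⟨_, hm⟩ : pCore p G) = p := by
      rw [Subgroup.orderOf_mk]
      exact (orderOf_injective (MulAut.conj g).toMonoidHom (MulAut.conj g).injective _).trans hxo
    obtain ⟨i, -, hi⟩ := pow_mem_of_cyclic hp.out.pos hx (orderOf_dvd_iff_pow_eq_one.1 ho.dvd)
    have hi' : (x : G) ^ i = g * (x : G) * g⁻¹ := congrArg Subtype.val hi
    rw [← hi']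
    exact Subgroup.pow_mem _ (Subgroup.mem_zpowers _) i
  set C := Subgroup.centralizer (X : Set G) with hC
  haveI : C.Normal := Subgroup.normal_centralizer
  -- the quotient by the centralizer is abelian
  haveI : Group.IsSolvable (G ⧸ C) := by
    have hker : (MulAut.conjNormal : G →* MulAut X).ker = C := by
      ext g
      simp only [MonoidHom.mem_ker, MulEquiv.ext_iff, Subtype.ext_iff, MulAut.conjNormal_apply,
        MulAut.one_apply, Subtype.forall, hC, Subgroup.mem_centralizer_iff, SetLike.mem_coe]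
      exact forall₂_congr fun z _ => mul_inv_eq_iff_eq_mul.trans eq_comm
    haveI hsolvA : Group.IsSolvable (MulAut X) :=
      solvable_of_solvable_injective (f := (IsCyclic.mulAutMulEquiv X).toMonoidHom)
        (IsCyclic.mulAutMulEquiv X).injective
    exact solvable_of_solvable_injective
      (f := (QuotientGroup.kerLift (MulAut.conjNormal : G →* MulAut X)).comp
        (QuotientGroup.quotientMulEquivOfEq hker.symm).toMonoidHom)
      ((QuotientGroup.kerLift_injective _).comp (MulEquiv.injective _))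
  refine isPSolvable_extension C ?_ (isPSolvable_of_solvable p)
  have hPC : (P : Subgroup G) ≤ C := by
    intro z hz
    rw [hC, hX, Subgroup.zpowers_eq_closure, Subgroup.centralizer_closure,
      Subgroup.mem_centralizer_singleton_iff]
    letI := IsCyclic.commGroup (α := (P : Subgroup G))
    exact congrArg Subtype.val
      (mul_comm (⟨z, hz⟩ : (P : Subgroup G)) ⟨x, pCore_le_sylow P x.2⟩)
  set Q := P.subtype hPC
  have hmem : ∀ c : C, c ∈ (Q : Subgroup C) ↔ (c : G) ∈ (P : Subgroup G) := fun c => by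
    rw [Sylow.coe_subtype, Subgroup.mem_subgroupOf]
  have hnc : Subgroup.normalizer ((Q : Subgroup C) : Set C) ≤
      Subgroup.centralizer ((Q : Subgroup C) : Set C) := by
    intro n hn
    have hnN : (n : G) ∈ Subgroup.normalizer ((P : Subgroup G) : Set G) := by
      refine Subgroup.mem_normalizer_iff.2 fun z => ⟨fun hz => ?_, fun hz => ?_⟩
      · exact (hmem _).1 ((Subgroup.mem_normalizer_iff.1 hn ⟨z, hPC hz⟩).1 ((hmem _).2 hz))
      · have hzC : z ∈ C := by
          have := mul_mem (mul_mem (inv_mem n.2) (hPC hz)) n.2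
          simpa [mul_assoc] using this
        exact (hmem ⟨z, hzC⟩).1 ((Subgroup.mem_normalizer_iff.1 hn ⟨z, hzC⟩).2 ((hmem _).2 hz))
    have hnC := H74Basic.centralizes P inferInstance hnN (Or.inl ⟨x, pCore_le_sylow P x.2,
      fun h => hp.out.ne_one (by rw [← hxo, h, orderOf_one]),
      mul_inv_eq_iff_eq_mul.2 (Subgroup.mem_centralizer_iff.1 n.2 x (Subgroup.mem_zpowers _)).symm⟩)
    exact Subgroup.mem_centralizer_iff.2 fun z hz =>
      Subtype.ext (Subgroup.mem_centralizer_iff.1 hnC z ((hmem z).1 hz))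
  set K := (MonoidHom.transferSylow Q hnc).ker
  have hK := MonoidHom.ker_transferSylow_isComplement' Q hnc
  have hKd : ¬ p ∣ Nat.card K := hK.index_eq_card ▸ Q.not_dvd_index
  refine isPSolvable_extension K (isPSolvable_of_coprime ((hp.out.coprime_iff_not_dvd.2 hKd).symm)) ?_
  have hcard : Nat.card (C ⧸ K) = Nat.card (Q : Subgroup C) := by
    rw [← Subgroup.index_eq_card]; exact hK.symm.index_eq_card
  obtain ⟨e, he⟩ := IsPGroup.iff_card.1 Q.isPGroup'
  haveI : Group.IsNilpotent (C ⧸ K) := (IsPGroup.of_card (hcard.trans he)).isNilpotent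
  haveI : Group.IsSolvable (C ⧸ K) := inferInstance
  exact isPSolvable_of_solvable p

/-- Every pair of elements of order `p` generating a `p`-solvable subgroup forces `p`-solvability. -/
theorem backward : ∀ (n : ℕ) (G : Type u) [Group G] [Finite G], Nat.card G = n →
    (∀ Q : Sylow p G, IsCyclic (Q : Subgroup G)) →
    (∀ x y : G, orderOf x = p → orderOf y = p →
      IsPSolvable p ↥(Subgroup.closure ({x, y} : Set G))) → IsPSolvable p G := by
  intro n
  induction n using Nat.strong_induction_on with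
  | _ n ih =>
  intro G _ _ hn hS h
  by_cases hpG : p ∣ Nat.card G
  swap
  · exact isPSolvable_of_coprime ((hp.out.coprime_iff_not_dvd.2 hpG).symm)
  by_cases hR : pCore p G ≠ ⊥
  · exact isPSolvable_of_pCore hS hR
  push Not at hR
  haveI := pPrimeCore_normal p G
  by_cases hO : pPrimeCore p G ≠ ⊥
  · -- lift pairs from the quotient
    set N := pPrimeCore p G with hN
    have hNd := not_dvd_card_pPrimeCore p G
    refine isPSolvable_extension N (isPSolvable_of_coprime (coprime_card_pPrimeCore p G)) ?_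
    refine ih _ (hn ▸ card_quotient_lt hO) (G ⧸ N) rfl (sylow_quotient hS N) ?_
    have lift : ∀ x : G ⧸ N, orderOf x = p → ∃ x' : G, orderOf x' = p ∧ QuotientGroup.mk' N x' = x := by
      intro x hx
      obtain ⟨g, rfl⟩ := QuotientGroup.mk'_surjective N x
      obtain ⟨u, v, huv, hcm, ⟨k, hk⟩, hv⟩ := BlockTheoryIdem.exists_pPart hp.out g
      set π := QuotientGroup.mk' N
      have hox : orderOf (π u) ∣ p ^ k := hk ▸ orderOf_map_dvd π u
      have hoy : ¬ p ∣ orderOf (π v) := fun hd => hv (hd.trans (orderOf_map_dvd π v))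
      have hcop : (orderOf (π u)).Coprime (orderOf (π v)) :=
        Nat.Coprime.of_dvd_left hox ((hp.out.coprime_iff_not_dvd.2 hoy).pow_left k)
      rw [← huv, map_mul, (hcm.map π).orderOf_mul_eq_mul_orderOf_of_coprime hcop] at hx
      have hv1 : π v = 1 := by
        rcases hp.out.eq_one_or_self_of_dvd _ (Dvd.intro_left _ hx) with h1 | h1
        · exact orderOf_eq_one_iff.1 h1
        · exact absurd (dvd_of_eq h1.symm) hoy
      refine ⟨u, orderOf_eq_prime ?_ ?_, by rw [← huv, map_mul, hv1, mul_one]⟩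
      · have h1 : u ^ p ∈ N := by
          rw [← QuotientGroup.eq_one_iff, ← QuotientGroup.mk'_apply, map_pow]
          exact orderOf_dvd_iff_pow_eq_one.1 (Dvd.intro _ hx)
        rw [← orderOf_eq_one_iff]
        exact Nat.eq_one_of_dvd_coprimes ((coprime_card_pPrimeCore p G).pow_right k)
          (Subgroup.orderOf_dvd_natCard _ h1) (hk ▸ orderOf_pow_dvd p)
      · rintro rfl
        rw [hv1, map_one, orderOf_one, one_mul] at hx
        exact hp.out.ne_one hx.symm
    intro x y hx hy
    obtain ⟨x', hx', rfl⟩ := lift x hx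
    obtain ⟨y', hy', rfl⟩ := lift y hy
    have e : Subgroup.closure ({QuotientGroup.mk' N x', QuotientGroup.mk' N y'} : Set (G ⧸ N)) =
        (Subgroup.closure ({x', y'} : Set G)).map (QuotientGroup.mk' N) := by
      rw [MonoidHom.map_closure, Set.image_pair]
    rw [e]
    exact isPSolvable_of_surjective (h x' y' hx' hy')
      (MonoidHom.subgroupMap_surjective (QuotientGroup.mk' N) _)
  push Not at hO
  -- no proper nontrivial normal subgroup
  have hsimple : ∀ N : Subgroup G, N.Normal → N = ⊥ ∨ N = ⊤ := by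
    intro N hN
    by_contra hne
    push Not at hne
    obtain ⟨hN1, hN2⟩ := hne
    have hlt : Nat.card N < Nat.card G := lt_of_le_of_ne N.card_le_card_group
      fun e => hN2 (Subgroup.eq_top_of_card_eq N e)
    have hNs : IsPSolvable p N := ih _ (hn ▸ hlt) N rfl (sylow_subgroup hS N) fun x y hx hy => by
      have hmap : (Subgroup.closure ({x, y} : Set N)).map N.subtype =
          Subgroup.closure ({(x : G), (y : G)} : Set G) := by
        rw [MonoidHom.map_closure, Set.image_pair]; rfl
      have hsol := h x y (by rw [Subgroup.orderOf_coe, hx]) (by rw [Subgroup.orderOf_coe, hy])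
      rw [← hmap] at hsol
      exact isPSolvable_of_surjective hsol (f := ((Subgroup.closure ({x, y} : Set N)).equivMapOfInjective
        N.subtype N.subtype_injective).symm.toMonoidHom) (MulEquiv.surjective _)
    haveI := (Subgroup.nontrivial_iff_ne_bot N).2 hN1
    rcases ((isPSolvable_iff p).1 hNs).exists_core_ne_bot with h0 | h0
    · rw [← pCore_eq_piCore p N] at h0
      apply h0
      haveI := pCore_characteristic p N
      have hle : (pCore p N).map N.subtype ≤ pCore p G :=
        le_pCore ((isPGroup_pCore p N).map N.subtype)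
      rw [hR, le_bot_iff, Subgroup.map_eq_bot_iff_of_injective _ N.subtype_injective] at hle
      exact hle
    · rw [← pPrimeCore_eq_piCore p N] at h0
      apply h0
      haveI := pPrimeCore_characteristic p N
      have hle : (pPrimeCore p N).map N.subtype ≤ pPrimeCore p G := le_pPrimeCore (by
        rw [Subgroup.card_map_of_injective N.subtype_injective]; exact coprime_card_pPrimeCore p N)
      rw [hO, le_bot_iff, Subgroup.map_eq_bot_iff_of_injective _ N.subtype_injective] at hle
      exact hle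
  obtain ⟨P⟩ := (inferInstance : Nonempty (Sylow p G))
  haveI : Fintype G := Fintype.ofFinite G
  haveI : Fintype ↥(P : Subgroup G) := Fintype.ofFinite _
  refine (CyclicSylowPairs35.false_of_pairs P (hS P) hpG ?_ ?_ (fun a ha => by convert count_pairs hS h a ha)).elim
  · intro hnc
    have hK := MonoidHom.ker_transferSylow_isComplement' P hnc
    have hKd : ¬ p ∣ Nat.card (MonoidHom.transferSylow P hnc).ker := hK.index_eq_card ▸ P.not_dvd_index
    rcases hsimple (MonoidHom.transferSylow P hnc).ker inferInstance with h0 | h0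
    · rw [h0, Subgroup.isComplement'_bot_left] at hK
      have hG : IsPGroup p G := by
        obtain ⟨e, he⟩ := IsPGroup.iff_card.1 P.isPGroup'
        rw [hK, Subgroup.card_top] at he
        exact IsPGroup.of_card he
      rw [(pCore_eq_top_iff).2 hG] at hR
      have : Nat.card (⊤ : Subgroup G) = Nat.card (⊥ : Subgroup G) := by rw [hR]
      rw [Subgroup.card_top, Subgroup.card_bot] at this
      rw [this] at hpG
      exact hp.out.not_dvd_one hpG
    · rw [h0, Subgroup.card_top] at hKd
      exact hKd hpG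
  · intro χ hne g hg hval
    haveI := CharKernel.irrKer_normal χ
    have hgK : g ∈ CharKernel.irrKer χ := CharKernel.mem_irrKer.2 hval
    rcases hsimple (CharKernel.irrKer χ) inferInstance with h0 | h0
    · rw [h0, Subgroup.mem_bot] at hgK; exact hg hgK
    · have hconst : ∀ z, (χ : G → ℂ) z = (χ : G → ℂ) 1 := fun z =>
        CharKernel.mem_irrKer.1 (h0 ▸ Subgroup.mem_top z)
      have hz := CharBasicOrth.classInner_irr_ne χ.2 (oneChar G).2 fun e => hne (Subtype.ext e)
      simp only [classInner, oneChar, map_one, mul_one, hconst, Finset.sum_const, nsmul_eq_mul,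
        Finset.card_univ, mul_eq_zero, inv_eq_zero, Nat.cast_eq_zero, Nat.card_pos.ne',
        Fintype.card_ne_zero, false_or, CharBasic.isIrrCharacter_apply_one_ne_zero χ.2] at hz

/-- Let G be a finite group whose Sylow p-subgroups are cyclic. Then G is p-solvable if and only if every two elements of order p of G generate a p-solvable subgroup. -/
theorem result {G : Type*} [Group G] [Finite G] {p : ℕ} [Fact p.Prime] (P : Sylow p G) (hP : IsCyclic ↥(P : Subgroup G)) :
    Cfsg.IsPSolvable p G ↔ ∀ x y : G, orderOf x = p → orderOf y = p → Cfsg.IsPSolvable p ↥(Subgroup.closure ({x, y} : Set G)) := by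
  refine ⟨fun h x y _ _ => isPSolvable_subgroup h _, fun h => backward _ G rfl (fun Q => ?_) h⟩
  haveI := hP
  exact (P.equiv Q).isCyclic.1 hP

end Cfsg.Agent.S1950
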