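import Cfsg.Statements.S1951
import Cfsg.Agent.Lib.ZStarPrincipal
import Cfsg.Agent.Lib.ZStarCount
import Cfsg.Agent.Lib.HallPLength
import Cfsg.Agent.Lib.PLengthOne

set_option autoImplicit false
open Cfsg

namespace Cfsg.Agent.S1951

open Cfsg.Agent.CharBasic Cfsg.Agent.CharBasicOrth Cfsg.Agent.BlockTheoryCentre
  Cfsg.Agent.BlockPrincipal81 Cfsg.Agent.ZStarPrincipal
open scoped ComplexConjugate

universe u

variable {G : Type u} [Group G]

attribute [local instance] Classical.propDecidable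

open scoped Pointwise

/-- Members of a conjugate Sylow subgroup. -/
theorem mem_of_smul {p : ℕ} (P : Sylow p G) {g v : G} (h : v ∈ ((g • P : Sylow p G) : Subgroup G)) :
    g⁻¹ * v * g ∈ (P : Subgroup G) := by
  rw [Sylow.coe_subgroup_smul, Subgroup.mem_pointwise_smul_iff_inv_smul_mem] at h
  simpa using h

/-- In a group generated by two elements of order `p` with abelian Sylow subgroups and
`p`-solvable, `x * y ^ j` is regular for at most one residue `j`. -/
theorem not_regular_twice [Finite G] {p : ℕ} [Fact p.Prime] (P : Sylow p G)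
    (hP : ∀ a ∈ (P : Subgroup G), ∀ b ∈ (P : Subgroup G), a * b = b * a)
    {x y : G} (hx : orderOf x = p) (hy : orderOf y = p)
    (hs : Cfsg.IsPSolvable p ↥(Subgroup.closure ({x, y} : Set G))) {i j : ℕ} (hij : i < j) (hjp : j < p)
    (h1 : ¬ p ∣ orderOf (x * y ^ i)) (h2 : ¬ p ∣ orderOf (x * y ^ j)) : False := by
  have hp : p.Prime := Fact.out
  set X := Subgroup.closure ({x, y} : Set G) with hX
  have hxX : x ∈ X := Subgroup.subset_closure (by simp)
  have hyX : y ∈ X := Subgroup.subset_closure (by simp)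
  have hT : ∀ w : X, orderOf w = p → w ∈ Cfsg.pPrimePCore p X := by
    intro w hw
    have hwp : IsPGroup p (Subgroup.zpowers w) :=
      IsPGroup.of_card (n := 1) (by rw [Nat.card_zpowers, hw, pow_one])
    obtain ⟨S, hS⟩ := hwp.exists_le_sylow
    obtain ⟨R, hR⟩ := (S.isPGroup'.map X.subtype).exists_le_sylow
    obtain ⟨g, hg⟩ := MulAction.exists_smul_eq G P R
    have hRab : ∀ a ∈ (R : Subgroup G), ∀ b ∈ (R : Subgroup G), a * b = b * a := by
      intro a ha b hb
      rw [← hg] at ha hb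
      have h := hP _ (mem_of_smul P ha) _ (mem_of_smul P hb)
      calc a * b = g * ((g⁻¹ * a * g) * (g⁻¹ * b * g)) * g⁻¹ := by group
        _ = g * ((g⁻¹ * b * g) * (g⁻¹ * a * g)) * g⁻¹ := by rw [h]
        _ = b * a := by group
    have := HallPLength.center_sylow_le_term_two hs S (hS (Subgroup.mem_zpowers w)) fun s hs' =>
      Subtype.ext (hRab _ (hR (Subgroup.mem_map_of_mem _ hs')) _
        (hR (Subgroup.mem_map_of_mem _ (hS (Subgroup.mem_zpowers w)))))
    rwa [← PLengthOne.upperPSeries_two]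
  let π : X →* X ⧸ Cfsg.pPrimeCore p X := QuotientGroup.mk' _
  have hcore : ∀ w : X, w ∈ Cfsg.pPrimePCore p X → π w ∈ Cfsg.pCore p (X ⧸ Cfsg.pPrimeCore p X) :=
    fun w hw => hw
  set a : X := ⟨x, hxX⟩
  set b : X := ⟨y, hyX⟩
  have ha : orderOf a = p := by rw [← Subgroup.orderOf_coe]; exact hx
  have hb : orderOf b = p := by rw [← Subgroup.orderOf_coe]; exact hy
  have hreg : ∀ k : ℕ, ¬ p ∣ orderOf (x * y ^ k) → π a * π b ^ k = 1 := by
    intro k hk
    rw [← map_pow, ← map_mul, ← orderOf_eq_one_iff]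
    have hmem := hcore _ (mul_mem (hT a ha) (pow_mem (hT b hb) k))
    obtain ⟨e, he⟩ := IsPGroup.iff_orderOf.1 (HallCore.isPGroup_pCore p _) ⟨_, hmem⟩
    rw [Subgroup.orderOf_mk] at he
    have hdvd := orderOf_map_dvd π (a * b ^ k)
    rw [← Subgroup.orderOf_coe (a * b ^ k)] at hdvd
    rw [he] at hdvd ⊢
    rcases Nat.eq_zero_or_pos e with rfl | he0
    · exact pow_zero p
    · exact absurd ((dvd_pow_self p he0.ne').trans hdvd) hk
  have e1 := hreg i h1
  have e2 := hreg j h2
  rw [← e1, mul_left_cancel_iff, ← Nat.sub_add_cancel hij.le, pow_add, mul_eq_right] at e2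
  rw [← map_pow, ← orderOf_eq_one_iff] at e2
  have h3 : b ^ (j - i) ∈ Cfsg.pPrimeCore p X :=
    (QuotientGroup.eq_one_iff _).1 (orderOf_eq_one_iff.1 e2)
  have h4 : orderOf (b ^ (j - i)) = p := by
    rw [Nat.Coprime.orderOf_pow, hb]
    rw [hb]
    exact Nat.coprime_of_lt_prime (by omega) (by omega : j - i < p) hp
  refine HallCore.not_dvd_card_pPrimeCore p X ?_
  have h5 := Subgroup.orderOf_dvd_natCard _ h3
  rwa [h4] at h5

/-- The inequality on the squares of the column. -/
theorem real_bound {ι : Type*} (s : Finset ι) (i₀ i₁ : ι) (hi₀ : i₀ ∈ s) (hi₁ : i₁ ∈ s) (a d : ι → ℤ)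
    (q : ℕ) (hq : 3 ≤ q) (hd : ∀ i, 0 < d i) (ha0 : a i₀ = 1) (hd0 : d i₀ = 1) (ha1 : a i₁ < 0)
    (hsq : ∑ i ∈ s, (a i) ^ 2 = q)
    (hpos : ∀ i ∈ s, i ≠ i₀ → 0 < a i → a i + q ≤ d i) :
    ∑ i ∈ s, ((a i : ℝ) ^ 3 / (d i : ℝ)) ≤ 1 + ((q : ℝ) - 2) / 3 := by
  classical
  have hne : i₁ ≠ i₀ := fun e => by rw [e, ha0] at ha1; omega
  rw [← Finset.add_sum_erase s _ hi₀, ha0, hd0]
  simp only [Int.cast_one, one_pow, div_one, add_le_add_iff_left]
  have hsq' := hsq
  rw [← Finset.add_sum_erase s _ hi₀, ha0, one_pow] at hsq'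
  set s' := s.erase i₀ with hs'
  have hi₁' : i₁ ∈ s' := Finset.mem_erase.2 ⟨hne, hi₁⟩
  rw [← Finset.add_sum_erase s' _ hi₁'] at hsq' ⊢
  set s'' := s'.erase i₁ with hs''
  have h1 : (a i₁ : ℝ) ^ 3 / (d i₁ : ℝ) ≤ 0 := by
    have : (a i₁ : ℝ) < 0 := by exact_mod_cast ha1
    have hd' : (0 : ℝ) < d i₁ := by exact_mod_cast hd i₁
    refine div_nonpos_of_nonpos_of_nonneg ?_ hd'.le
    nlinarith [sq_nonneg (a i₁ : ℝ)]
  have hone : 1 ≤ (a i₁) ^ 2 := by nlinarith
  have hrest : ∑ i ∈ s'', (a i) ^ 2 ≤ (q : ℤ) - 2 := by omega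
  have h2 : ∀ i ∈ s'', (a i : ℝ) ^ 3 / (d i : ℝ) ≤ (a i : ℝ) ^ 2 / 3 := by
    intro i hi
    have hd' : (0 : ℝ) < d i := by exact_mod_cast hd i
    rw [div_le_div_iff₀ hd' (by norm_num)]
    rcases le_or_gt (a i) 0 with h | h
    · have : (a i : ℝ) ≤ 0 := by exact_mod_cast h
      nlinarith [sq_nonneg (a i : ℝ), mul_nonneg (sq_nonneg (a i : ℝ)) hd'.le]
    · have hle : (a i) ^ 2 ≤ (q : ℤ) - 2 :=
        (Finset.single_le_sum (f := fun j => (a j) ^ 2) (fun j _ => sq_nonneg _) hi).trans hrest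
      have hd2 := hpos i (Finset.mem_of_mem_erase (Finset.mem_of_mem_erase hi))
        (Finset.ne_of_mem_erase (Finset.mem_of_mem_erase hi)) h
      have h3 : 3 * a i ≤ d i := by nlinarith
      have h3' : (3 : ℝ) * a i ≤ d i := by exact_mod_cast h3
      nlinarith [sq_nonneg (a i : ℝ)]
  have h3 : ∑ i ∈ s'', (a i : ℝ) ^ 2 ≤ (q : ℝ) - 2 := by exact_mod_cast hrest
  calc _ ≤ 0 + ∑ i ∈ s'', (a i : ℝ) ^ 2 / 3 := add_le_add h1 (Finset.sum_le_sum h2)
    _ ≤ _ := by rw [zero_add, ← Finset.sum_div]; exact div_le_div_of_nonneg_right h3 (by norm_num)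

/-- An integral rational number is an integer. -/
theorem int_of_integral {z : ℂ} (hz : IsIntegral ℤ z) (r : ℚ) (hr : z = (r : ℂ)) :
    ∃ n : ℤ, z = (n : ℂ) := by
  subst hr
  rw [show ((r : ℂ)) = algebraMap ℚ ℂ r from (eq_ratCast (algebraMap ℚ ℂ) r).symm] at hz
  obtain ⟨n, hn⟩ := IsIntegrallyClosed.isIntegral_iff.1
    ((isIntegral_algebraMap_iff (algebraMap ℚ ℂ).injective).1 hz)
  exact ⟨n, by rw [← hn]; simp⟩

/-- Let p be a prime and P a nontrivial elementary abelian Sylow p-subgroup of a finite nonabelian simple group G whose nonidentity elements are all conjugate in G. Suppose that two elements of P are conjugate in G only if they are conjugate in N_G(P), that the centralizer of every element of order p of P has a normal p-complement, and that every two elements of order p of G generate a p-solvable subgroup. Then p = 2. -/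
theorem result {G : Type*} [Group G] [Finite G] [IsSimpleGroup G] (hG : ¬ IsMulCommutative G) {p : ℕ} [Fact p.Prime] (P : Sylow p G)
    (hP1 : (P : Subgroup G) ≠ ⊥) (hPe : Cfsg.IsElementaryAbelian p (P : Subgroup G))
    (hconj : ∀ x ∈ (P : Subgroup G), ∀ y ∈ (P : Subgroup G), x ≠ 1 → y ≠ 1 → ∃ g : G, g * x * g⁻¹ = y)
    (ha : ∀ x ∈ (P : Subgroup G), ∀ y ∈ (P : Subgroup G), (∃ g : G, g * x * g⁻¹ = y) →
      ∃ n ∈ Subgroup.normalizer ((P : Subgroup G) : Set G), n * x * n⁻¹ = y)
    (hb : ∀ x ∈ (P : Subgroup G), orderOf x = p → Cfsg.HasNormalPComplement p ↥(Subgroup.centralizer ({x} : Set G)))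
    (hc : ∀ x y : G, orderOf x = p → orderOf y = p → Cfsg.IsPSolvable p ↥(Subgroup.closure ({x, y} : Set G))) :
    p = 2 := by
  classical
  have := Fintype.ofFinite G
  have hp : p.Prime := Fact.out
  by_contra hp2
  have hp3 : 3 ≤ p := by have := hp.two_le; omega
  set S : Subgroup G := (P : Subgroup G) with hS
  have hab : ∀ a ∈ S, ∀ b ∈ S, a * b = b * a := fun a ha' b hb' =>
    congrArg Subtype.val (hPe.1.is_comm.comm ⟨a, ha'⟩ ⟨b, hb'⟩)
  have hordS : ∀ a ∈ S, a ≠ 1 → orderOf a = p := fun a ha' ha1 =>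
    orderOf_eq_prime (hPe.2 a ha') ha1
  obtain ⟨u, huS, hu1⟩ := (Subgroup.bot_or_exists_ne_one S).resolve_left hP1
  have hu : orderOf u = p := hordS u huS hu1
  -- elements of p-power order
  have hcls : ∀ v : G, IsConj u v ↔ orderOf v = p := by
    intro v
    constructor
    · intro h
      obtain ⟨g, rfl⟩ := isConj_iff.1 h
      rw [show g * u * g⁻¹ = (MulAut.conj g).toMonoidHom u from rfl,
        orderOf_injective _ (MulAut.conj g).injective, hu]
    · intro hv
      have hvp : IsPGroup p (Subgroup.zpowers v) :=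
        IsPGroup.of_card (n := 1) (by rw [Nat.card_zpowers, hv, pow_one])
      obtain ⟨R, hR⟩ := hvp.exists_le_sylow
      obtain ⟨g, hg⟩ := MulAction.exists_smul_eq G P R
      have hvR := hR (Subgroup.mem_zpowers v)
      rw [← hg] at hvR
      have hv' := mem_of_smul P hvR
      set v' := g⁻¹ * v * g with hv'def
      have hv'' : g * v' * g⁻¹ = v := by rw [hv'def]; group
      have hv'1 : v' ≠ 1 := by
        intro e
        rw [e, mul_one, mul_inv_cancel] at hv''
        rw [← hv'', orderOf_one] at hv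
        exact hp.ne_one hv.symm
      obtain ⟨h, hh⟩ := hconj u huS v' hv' hu1 hv'1
      exact (isConj_iff.2 ⟨h, hh⟩).trans (isConj_iff.2 ⟨g, hv''⟩)
  have hppow : ∀ v : G, (∃ k, orderOf v = p ^ k) → v ≠ 1 → orderOf v = p := by
    rintro v ⟨k, hk⟩ hv1
    have hvp : IsPGroup p (Subgroup.zpowers v) :=
      IsPGroup.of_card (n := k) (by rw [Nat.card_zpowers, hk])
    obtain ⟨R, hR⟩ := hvp.exists_le_sylow
    obtain ⟨g, hg⟩ := MulAction.exists_smul_eq G P R
    have hvR := hR (Subgroup.mem_zpowers v)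
    rw [← hg] at hvR
    have hv' := mem_of_smul P hvR
    have h1 : orderOf (g⁻¹ * v * g) = orderOf v := by
      rw [show g⁻¹ * v * g = (MulAut.conj g⁻¹).toMonoidHom v by simp]
      exact orderOf_injective _ (MulAut.conj g⁻¹).injective v
    rw [← h1]
    refine hordS _ hv' fun e => hv1 ?_
    rw [e, orderOf_one] at h1
    exact orderOf_eq_one_iff.1 h1.symm
  -- the centralizer of u
  set C := Subgroup.centralizer ({u} : Set G) with hC
  obtain ⟨Q, W, hWn, hWQ⟩ := hb u huS hu
  have hSC : S ≤ C := fun s hs => Subgroup.mem_centralizer_singleton_iff.2 (hab s hs u huS)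
  have hQcard : Nat.card (Q : Subgroup C) = Nat.card S := by
    refine le_antisymm ?_ ?_
    · obtain ⟨R, hR⟩ := (Q.isPGroup'.map C.subtype).exists_le_sylow
      rw [← Subgroup.card_map_of_injective (f := C.subtype) Subtype.val_injective]
      refine (Subgroup.card_le_of_le hR).trans_eq ?_
      rw [hS, R.card_eq_multiplicity, P.card_eq_multiplicity]
    · obtain ⟨R, hR⟩ := (P.isPGroup'.comap_of_injective C.subtype Subtype.val_injective).exists_le_sylow
      obtain ⟨c, hc⟩ := MulAction.exists_smul_eq C R Q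
      rw [← Nat.card_congr (Subgroup.subgroupOfEquivOfLe hSC).toEquiv, ← hc]
      refine (Subgroup.card_le_of_le hR).trans_eq ?_
      rw [Sylow.card_eq_multiplicity, Sylow.card_eq_multiplicity]
  set q := Nat.card S with hq
  have hCcard : Nat.card C = q * Nat.card W := by rw [← hWQ.card_mul, hQcard, mul_comm]
  have hWp : ¬ p ∣ Nat.card W := by
    intro h
    refine Q.not_dvd_index ?_
    rw [hWQ.index_eq_card]
    exact h
  have hWreg : ∀ w : C, w ∈ W → ¬ p ∣ orderOf (w : G) := fun w hw h =>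
    hWp (h.trans (by rw [Subgroup.orderOf_coe]; exact Subgroup.orderOf_dvd_natCard W hw))
  have hregW : ∀ w : C, ¬ p ∣ orderOf (w : G) → w ∈ W := by
    intro w hw
    rw [Subgroup.orderOf_coe] at hw
    rw [← QuotientGroup.eq_one_iff, ← orderOf_eq_one_iff]
    obtain ⟨k, hk⟩ := IsPGroup.iff_card.1 Q.isPGroup'
    have hidx : W.index = p ^ k := by rw [hWQ.symm.index_eq_card, hk]
    refine Nat.eq_one_of_dvd_coprimes (((hp.coprime_iff_not_dvd).2 hw).pow_left k)
      (by rw [← hidx, Subgroup.index_eq_card]; exact orderOf_dvd_natCard _)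
      (orderOf_map_dvd (QuotientGroup.mk' W) w)
  set Wc : ℕ := Nat.card W with hWc
  have hWc0 : (Wc : ℂ) ≠ 0 := Nat.cast_ne_zero.2 Nat.card_pos.ne'
  -- the values on u
  let aC : Cfsg.IrrCharacter G → ℂ := fun χ => (χ : G → ℂ) u
  have hval : ∀ (χ : Cfsg.IrrCharacter G) (v : G), orderOf v = p → (χ : G → ℂ) v = aC χ :=
    fun χ v hv => (apply_eq_of_isConj (irr_classFun χ) ((hcls v).2 hv)).symm
  obtain ⟨k₀, hk₀⟩ := IsPGroup.iff_card.1 P.isPGroup'
  have hqk : q = p ^ k₀ := hk₀
  have hqp : p ≤ q := by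
    rw [hqk]
    refine Nat.le_self_pow (fun h0 => hP1 ?_) p
    rw [h0, pow_zero] at hk₀
    exact Subgroup.card_eq_one.1 hk₀
  have hint : ∀ χ : Cfsg.IrrCharacter G, ∃ A D : ℤ, aC χ = A ∧ (χ : G → ℂ) 1 = D ∧ 0 < D ∧
      (q : ℤ) ∣ D - A ∧ |A| ≤ D := by
    intro χ
    obtain ⟨n, hn0, hn⟩ := isIrrCharacter_apply_one χ.2
    obtain ⟨k, hk⟩ := CharBasicOrth.classInner_isCharacter
      (CharBasic.isCharacter_comap S.subtype (isCharacter_of_isIrrCharacter χ.2))
      (isCharacter_of_isIrrCharacter (CharBasicDecomp.isIrrCharacter_one (G := S)))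
    have hsum : ∑ s : S, (χ : G → ℂ) s = (q : ℂ) * k := by
      rw [← hk, Cfsg.classInner, ← mul_assoc, hq,
        mul_inv_cancel₀ (Nat.cast_ne_zero.2 Nat.card_pos.ne'), one_mul]
      simp
    rw [← Finset.add_sum_erase _ _ (Finset.mem_univ (1 : S)), OneMemClass.coe_one, hn,
      Finset.sum_congr rfl (fun (s : S) hs => hval χ (s : G) (hordS _ s.2 fun e =>
        Finset.ne_of_mem_erase hs (Subtype.ext e))),
      Finset.sum_const, Finset.card_erase_of_mem (Finset.mem_univ _), Finset.card_univ,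
      ← Nat.card_eq_fintype_card, ← hq, nsmul_eq_mul] at hsum
    have hq1 : ((q - 1 : ℕ) : ℂ) ≠ 0 := Nat.cast_ne_zero.2 (by omega)
    have hrat : aC χ = (((((q * k : ℕ) : ℚ) - n) / ((q - 1 : ℕ) : ℚ) : ℚ) : ℂ) := by
      push_cast
      rw [eq_div_iff hq1, ← hsum]
      ring
    obtain ⟨A, hA⟩ := int_of_integral
      (isCharacter_integral (isCharacter_of_isIrrCharacter χ.2) u) _ hrat
    refine ⟨A, n, hA, by rw [hn]; simp, by exact_mod_cast hn0, ?_, ?_⟩
    · refine ⟨(k : ℤ) - A, ?_⟩
      rw [show aC χ = (A : ℂ) from hA, Nat.cast_sub (show 1 ≤ q by omega)] at hsum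
      have : (n : ℤ) + ((q : ℤ) - 1) * A = q * k := by exact_mod_cast hsum
      linarith
    · have h1 := isCharacter_norm_le (isCharacter_of_isIrrCharacter χ.2) u
      rw [show (χ : G → ℂ) u = (A : ℂ) from hA, hn, Complex.norm_intCast, Complex.natCast_re] at h1
      exact_mod_cast h1
  choose A D hA hD hD0 hdvd hAD using hint
  -- the singular elements
  obtain ⟨M, hM⟩ := ZStarCount.exists_isPModular p hp
  let SW : Cfsg.IrrCharacter G → ℂ := fun χ => ∑ w : W, (χ : G → ℂ) (u * ((w : C) : G))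
  have hsing : ∀ f : G → ℂ, Cfsg.IsClassFunction G f →
      (Nat.card G : ℂ) * ∑ w : W, f (u * ((w : C) : G)) =
        (Nat.card C : ℂ) * ∑ s : G, if p ∣ orderOf s then f s else 0 := by
    intro f hf
    let φ : G × W → G := fun gw => gw.1 * (u * ((gw.2 : C) : G)) * gw.1⁻¹
    have hcm : ∀ w : W, Commute u ((w : C) : G) := fun w =>
      (Subgroup.mem_centralizer_singleton_iff.1 (w : C).2).symm
    have hpp : ∀ gw : G × W, Cfsg.IsPPart p (φ gw) (gw.1 * u * gw.1⁻¹) := by
      rintro ⟨g, w⟩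
      refine ⟨g * ((w : C) : G) * g⁻¹, by simp [φ, mul_assoc], ?_, ⟨1, ?_⟩, ?_⟩
      · exact (hcm w).map (MulAut.conj g).toMonoidHom
      · rw [pow_one]; exact (hcls _).1 (isConj_iff.2 ⟨g, rfl⟩)
      · rw [show g * ((w : C) : G) * g⁻¹ = (MulAut.conj g).toMonoidHom ((w : C) : G) from rfl,
          orderOf_injective _ (MulAut.conj g).injective]
        exact hWreg w w.2
    have hfib : ∀ s : G, (Finset.univ.filter fun gw => φ gw = s).card =
        if p ∣ orderOf s then Nat.card C else 0 := by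
      intro s
      obtain ⟨v, y, hvy, hcvy, hv, hy⟩ := BlockTheoryIdem.exists_pPart hp s
      split_ifs with hs
      · have hv1 : v ≠ 1 := by rintro rfl; rw [one_mul] at hvy; exact hy (hvy ▸ hs)
        have hvp := hppow v hv hv1
        obtain ⟨g₀, hg₀⟩ := isConj_iff.1 ((hcls v).2 hvp)
        have hw : ∀ c : C, ∃ w : W, φ (g₀ * c, w) = s := by
          intro c
          have hvg : g₀ * c * u * (g₀ * c)⁻¹ = v := by
            rw [← hg₀, mul_assoc g₀, Subgroup.mem_centralizer_singleton_iff.1 c.2]; group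
          have hwC : (g₀ * c)⁻¹ * y * (g₀ * c) ∈ C := by
            refine Subgroup.mem_centralizer_singleton_iff.2 ?_
            set z : G := g₀ * c with hz
            have hu' : u = z⁻¹ * v * z := by rw [← hvg]; group
            rw [hu']
            calc z⁻¹ * y * z * (z⁻¹ * v * z) = z⁻¹ * (y * v) * z := by group
              _ = z⁻¹ * (v * y) * z := by rw [hcvy.eq]
              _ = z⁻¹ * v * z * (z⁻¹ * y * z) := by group
          refine ⟨⟨⟨_, hwC⟩, hregW _ ?_⟩, ?_⟩
          · show ¬ p ∣ orderOf ((g₀ * c : G)⁻¹ * y * (g₀ * c))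
            rw [show (g₀ * c : G)⁻¹ * y * (g₀ * c) = (MulAut.conj (g₀ * c : G)⁻¹).toMonoidHom y by simp [mul_assoc],
              orderOf_injective _ (MulAut.conj _).injective]
            exact hy
          · show g₀ * c * (u * ((g₀ * c : G)⁻¹ * y * (g₀ * c))) * (g₀ * c : G)⁻¹ = s
            rw [← hvy, ← hvg]; group
        choose w hw using hw
        rw [Nat.card_eq_fintype_card, ← Finset.card_univ]
        symm
        refine Finset.card_bij (fun c _ => (g₀ * (c : G), w c)) (fun c _ => by simpa using hw c)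
          (fun c _ c' _ h => Subtype.ext (mul_left_cancel (congrArg Prod.fst h))) ?_
        rintro ⟨g, w'⟩ hgw
        simp only [Finset.mem_filter, Finset.mem_univ, true_and] at hgw
        have hgu : g * u * g⁻¹ = v := BlockTheoryIdem.pPart_unique hp (hgw ▸ hpp (g, w'))
          ⟨y, hvy, hcvy, hv, hy⟩
        have hcC : g₀⁻¹ * g ∈ C := by
          refine Subgroup.mem_centralizer_singleton_iff.2 ?_
          calc g₀⁻¹ * g * u = g₀⁻¹ * (g * u * g⁻¹) * g := by group
            _ = g₀⁻¹ * (g₀ * u * g₀⁻¹) * g := by rw [hgu, hg₀]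
            _ = _ := by group
        refine ⟨⟨_, hcC⟩, Finset.mem_univ _, ?_⟩
        have hfst : g₀ * ((⟨g₀⁻¹ * g, hcC⟩ : C) : G) = g := mul_inv_cancel_left g₀ g
        refine Prod.ext hfst (Subtype.ext (Subtype.ext ?_))
        have h1 := hw ⟨g₀⁻¹ * g, hcC⟩
        rw [hfst, ← hgw] at h1
        exact mul_left_cancel (mul_left_cancel (mul_right_cancel h1))
      · rw [Finset.card_eq_zero, Finset.filter_eq_empty_iff]
        intro gw _ he
        apply hs
        obtain ⟨y', hy', hcy, -, hyr⟩ := hpp gw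
        have h1 : orderOf (gw.1 * u * gw.1⁻¹) = p := (hcls _).1 (isConj_iff.2 ⟨gw.1, rfl⟩)
        rw [← he, ← hy', hcy.orderOf_mul_eq_mul_orderOf_of_coprime
          (by rw [h1]; exact hp.coprime_iff_not_dvd.2 hyr), h1]
        exact dvd_mul_right p _
    have h1 : ∑ gw : G × W, f (φ gw) = (Nat.card G : ℂ) * ∑ w : W, f (u * ((w : C) : G)) := by
      rw [Fintype.sum_prod_type]
      simp only [φ, hf _ _, Finset.sum_const, Finset.card_univ, nsmul_eq_mul,
        ← Nat.card_eq_fintype_card]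
    rw [← h1, ← Finset.sum_fiberwise Finset.univ φ, Finset.mul_sum]
    refine Finset.sum_congr rfl fun s _ => ?_
    rw [Finset.sum_congr rfl (fun gw hgw => congrArg f (Finset.mem_filter.1 hgw).2),
      Finset.sum_const, hfib, nsmul_eq_mul]
    split_ifs <;> simp
  set B := principalBlock M G with hBdef
  have hone := oneChar_mem (G := G) hM
  have hG0 : (Nat.card G : ℂ) ≠ 0 := Nat.cast_ne_zero.2 Nat.card_pos.ne'
  have hC0 : (Nat.card C : ℂ) ≠ 0 := Nat.cast_ne_zero.2 Nat.card_pos.ne'
  have hreg : ∀ χ : Cfsg.IrrCharacter G, regSum p (χ : G → ℂ) =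
      (Nat.card G : ℂ) * (if χ = oneChar G then 1 else 0) -
        (Nat.card G : ℂ) * SW χ / (Nat.card C : ℂ) := by
    intro χ
    have h0 : ∑ g : G, (χ : G → ℂ) g = (Nat.card G : ℂ) * (if χ = oneChar G then 1 else 0) := by
      have h1 : classInner (χ : G → ℂ) ((oneChar G : Cfsg.IrrCharacter G) : G → ℂ) =
          if χ = oneChar G then 1 else 0 := by
        split_ifs with h
        · rw [h]; exact classInner_irr_self (oneChar G).2
        · exact classInner_irr_ne χ.2 (oneChar G).2 fun e => h (Subtype.ext e)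
      rw [← h1, Cfsg.classInner, ← mul_assoc, mul_inv_cancel₀ hG0, one_mul]
      simp [oneChar]
    rw [← h0, show (Nat.card G : ℂ) * SW χ = _ from hsing _ (irr_classFun χ),
      mul_div_cancel_left₀ _ hC0, regSum, ← Finset.sum_sub_distrib]
    exact Finset.sum_congr rfl fun g _ => by split_ifs <;> simp
  have hSW : ∀ χ : Cfsg.IrrCharacter G, SW χ = if χ ∈ B then (Wc : ℂ) * A χ else 0 := by
    intro χ
    split_ifs with hχ
    · have hKC : ∀ k ∈ W.map C.subtype, Commute u k := by
        rintro _ ⟨w, -, rfl⟩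
        exact (Subgroup.mem_centralizer_singleton_iff.1 w.2).symm
      have hK : ¬ p ∣ Nat.card ↥(W.map C.subtype) := by
        rwa [Subgroup.card_map_of_injective Subtype.val_injective]
      have hKn : ∀ g, Commute u g → ∀ k ∈ W.map C.subtype, g * k * g⁻¹ ∈ W.map C.subtype := by
        rintro g hg _ ⟨w, hw, rfl⟩
        exact ⟨⟨g, Subgroup.mem_centralizer_singleton_iff.2 hg.eq.symm⟩ * w *
          ⟨g, Subgroup.mem_centralizer_singleton_iff.2 hg.eq.symm⟩⁻¹, hWn.conj_mem w hw _, rfl⟩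
      rw [← hA χ]
      show ∑ w : W, _ = _
      refine (Finset.sum_congr rfl (g := fun _ => (χ : G → ℂ) u) (fun (w : W) _ => apply_eq_of_mem hM ⟨1, by rw [pow_one]; exact hu⟩
        hKC hK hKn hχ (Subgroup.mem_map_of_mem C.subtype w.2))).trans ?_
      rw [Finset.sum_const, Finset.card_univ, nsmul_eq_mul, ← Nat.card_eq_fintype_card]
    · have h1 := hreg χ
      rw [regSum_eq_zero hM hχ, if_neg (fun (e : χ = oneChar G) => hχ (e ▸ hone)), mul_zero, zero_sub,
        eq_comm, neg_eq_zero, div_eq_zero_iff, mul_eq_zero] at h1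
      exact (h1.resolve_right hC0).resolve_left hG0
  set Bf := Finset.univ.filter (fun χ : Cfsg.IrrCharacter G => χ ∈ B) with hBf
  -- column orthogonality
  have hcol : ∀ t : G, (∀ w : W, ((w : C) : G) ≠ 1 → ¬ IsConj (u * ((w : C) : G)) t) →
      ∑ χ : Cfsg.IrrCharacter G, SW χ * conj ((χ : G → ℂ) t) =
        if IsConj u t then (Nat.card C : ℂ) else 0 := by
    intro t ht
    show ∑ χ : Cfsg.IrrCharacter G, (∑ w : W, (χ : G → ℂ) (u * ((w : C) : G))) * _ = _
    simp only [Finset.sum_mul]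
    rw [Finset.sum_comm, Finset.sum_eq_single (1 : W)]
    · rw [show u * (((1 : W) : C) : G) = u by simp]
      exact sum_irr_mul_conj u t
    · intro w _ hw
      rw [sum_irr_mul_conj, if_neg]
      exact ht w fun e => hw (Subtype.ext (Subtype.ext e))
    · simp
  have hordW : ∀ w : W, ((w : C) : G) ≠ 1 → orderOf (u * ((w : C) : G)) ≠ p := by
    intro w hw he
    rw [Commute.orderOf_mul_eq_mul_orderOf_of_coprime
      (show Commute u ((w : C) : G) from (Subgroup.mem_centralizer_singleton_iff.1 (w : C).2).symm)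
      (by rw [hu]; exact hp.coprime_iff_not_dvd.2 (hWreg w w.2)), hu] at he
    exact hw (orderOf_eq_one_iff.1 (Nat.eq_of_mul_eq_mul_left hp.pos (he.trans (mul_one p).symm)))
  have hsq : ∑ χ ∈ Bf, (A χ) ^ 2 = (q : ℤ) := by
    have h := hcol u fun w hw hc => hordW w hw ((hcls _).1 hc.symm)
    rw [if_pos (IsConj.refl u), hCcard, Nat.cast_mul,
      Finset.sum_congr rfl (fun χ _ => show SW χ * conj ((χ : G → ℂ) u) =
        if χ ∈ B then (Wc : ℂ) * ((A χ : ℂ) ^ 2) else 0 by
          rw [hSW, show (χ : G → ℂ) u = (A χ : ℂ) from hA χ, map_intCast]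
          split_ifs <;> ring),
      ← Finset.sum_filter, ← Finset.mul_sum, mul_comm (q : ℂ)] at h
    exact_mod_cast mul_left_cancel₀ hWc0 h
  have hlin : ∑ χ ∈ Bf, A χ * D χ = 0 := by
    have h := hcol 1 fun w _ hc => by
      have h1 := isConj_one_left.1 hc
      have h2 := hWreg w w.2
      rw [eq_inv_of_mul_eq_one_right h1, orderOf_inv, hu] at h2
      exact h2 dvd_rfl
    rw [if_neg (fun hc => hu1 (isConj_one_left.1 hc)),
      Finset.sum_congr rfl (fun χ _ => show SW χ * conj ((χ : G → ℂ) 1) =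
        if χ ∈ B then (Wc : ℂ) * ((A χ : ℂ) * (D χ : ℂ)) else 0 by
          rw [hSW, hD, map_intCast]
          split_ifs <;> ring),
      ← Finset.sum_filter, ← Finset.mul_sum, mul_eq_zero] at h
    exact_mod_cast h.resolve_left hWc0
  have hA1 : A (oneChar G) = 1 := by
    have := hA (oneChar G)
    simp only [aC, oneChar] at this
    exact_mod_cast this.symm
  have hD1 : D (oneChar G) = 1 := by
    have := hD (oneChar G)
    simp only [oneChar] at this
    exact_mod_cast this.symm
  have hfaithful : ∀ χ : Cfsg.IrrCharacter G, χ ≠ oneChar G → A χ ≠ D χ := by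
    intro χ hχ he
    obtain ⟨n, ρ, hρ, hρe⟩ := χ.2
    have hn1 : (χ : G → ℂ) 1 = (n : ℂ) := by
      rw [← hρe, Representation.char_one]; simp
    have hid : ρ u = LinearMap.id := by
      refine eq_one_of_character_eq_finrank ρ u ?_
      rw [hρe, show (χ : G → ℂ) u = (A χ : ℂ) from hA χ, he, ← hD χ, hn1]
      simp
    rcases IsSimpleGroup.eq_bot_or_eq_top_of_normal ρ.ker (MonoidHom.normal_ker ρ) with h | h
    · have hk : u ∈ ρ.ker := hid
      rw [h, Subgroup.mem_bot] at hk
      exact hu1 hk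
    · apply hχ
      apply Subtype.ext
      by_contra hne
      have h1 := classInner_irr_ne χ.2 (oneChar G).2 hne
      have hconst : (χ : G → ℂ) = (n : ℂ) • fun _ => (1 : ℂ) := by
        funext g
        have hg : ρ g = 1 := MonoidHom.mem_ker.1 (h ▸ Subgroup.mem_top g)
        rw [← hρe, Representation.character, hg]
        simp [LinearMap.trace_one]
      rw [hconst, CharBasicOrth.classInner_smul_left,
        show classInner (fun _ : G => (1 : ℂ)) ((oneChar G : Cfsg.IrrCharacter G) : G → ℂ) = 1 from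
          classInner_irr_self (oneChar G).2, mul_one] at h1
      exact isIrrCharacter_apply_one_ne_zero χ.2 (hn1.trans h1)
  obtain ⟨χ₁, hχ₁, hneg⟩ : ∃ χ ∈ Bf, A χ < 0 := by
    by_contra hc'
    push Not at hc'
    have h1 := Finset.single_le_sum (f := fun χ => A χ * D χ)
      (fun χ hχ => mul_nonneg (hc' χ hχ) (hD0 χ).le) (show oneChar G ∈ Bf by simpa [hBf] using hone)
    rw [hlin] at h1
    simp [hA1, hD1] at h1
  have hS3 := real_bound Bf (oneChar G) χ₁ (by simpa [hBf] using hone) hχ₁ A D q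
    (by omega) hD0 hA1 hD1 hneg hsq (fun χ _ hχ hpos => by
      have h1 : A χ ≤ D χ := (le_abs_self _).trans (hAD χ)
      have h2 : 0 < D χ - A χ := by
        have := hfaithful χ hχ
        omega
      have := Int.le_of_dvd h2 (hdvd χ)
      omega)
  -- counting the regular products
  set K := Finset.univ.filter (fun v : G => orderOf v = p) with hKdef
  have hKi : (Subgroup.centralizer ({u} : Set G)).index = K.card := by
    rw [index_centralizer_eq, Nat.card_eq_fintype_card, Fintype.card_subtype, hKdef]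
    simp only [hcls]
  let R : G → ℕ → Finset G := fun x j => K.filter fun y => ¬ p ∣ orderOf (x * y ^ j)
  have hRcard : ∀ x j, 1 ≤ j → j < p → (R x j).card = (R x 1).card := by
    intro x j hj1 hjp
    have hco : ∀ y ∈ K, orderOf (y ^ j) = p := by
      intro y hy
      have hy' := (Finset.mem_filter.1 hy).2
      rw [Nat.Coprime.orderOf_pow, hy']
      rw [hy']
      exact Nat.coprime_of_lt_prime (by omega) hjp hp
    refine Finset.card_bij (fun y _ => y ^ j) ?_ ?_ ?_
    · intro y hy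
      simp only [R, Finset.mem_filter, pow_one] at hy ⊢
      exact ⟨Finset.mem_filter.2 ⟨Finset.mem_univ _, hco y hy.1⟩, hy.2⟩
    · intro y hy z hz h
      have hy' := (Finset.mem_filter.1 (Finset.mem_filter.1 hy).1).2
      have hz' := (Finset.mem_filter.1 (Finset.mem_filter.1 hz).1).2
      obtain ⟨m, hm⟩ := Nat.exists_mul_mod_eq_one_of_coprime
        (Nat.coprime_of_lt_prime (by omega) hjp hp).symm hp.one_lt
      have e : ∀ t : G, orderOf t = p → (t ^ j) ^ m = t := fun t ht => by
        rw [← pow_mul, ← pow_mod_orderOf, ht, hm.2, pow_one]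
      rw [← e y hy', ← e z hz']
      exact congrArg (· ^ m) h
    · intro z hz
      simp only [R, Finset.mem_filter, pow_one] at hz
      have hz' := (Finset.mem_filter.1 hz.1).2
      obtain ⟨m, hm⟩ := Nat.exists_mul_mod_eq_one_of_coprime
        (Nat.coprime_of_lt_prime (by omega) hjp hp).symm hp.one_lt
      have e : (z ^ m) ^ j = z := by
        rw [← pow_mul, mul_comm, ← pow_mod_orderOf, hz', hm.2, pow_one]
      have ho : orderOf (z ^ m) = p := by
        refine orderOf_eq_prime ?_ fun h0 => ?_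
        · rw [← pow_mul, mul_comm, pow_mul, ← hz', pow_orderOf_eq_one, one_pow]
        · rw [h0, one_pow] at e
          rw [← e, orderOf_one] at hz'
          exact hp.ne_one hz'.symm
      exact ⟨z ^ m, Finset.mem_filter.2 ⟨Finset.mem_filter.2 ⟨Finset.mem_univ _, ho⟩,
        by rw [e]; exact hz.2⟩, e⟩
  have hRle : ∀ x ∈ K, (p - 1) * (R x 1).card ≤ K.card := by
    intro x hx
    have hx' := (Finset.mem_filter.1 hx).2
    have hdisj : (↑(Finset.Icc 1 (p - 1)) : Set ℕ).PairwiseDisjoint (R x) := by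
      intro i hi j hj hij
      simp only [Finset.coe_Icc, Set.mem_Icc] at hi hj
      refine Finset.disjoint_left.2 fun y hy hy' => ?_
      obtain ⟨hyK, h1⟩ := Finset.mem_filter.1 hy
      obtain ⟨-, h2⟩ := Finset.mem_filter.1 hy'
      have hyo := (Finset.mem_filter.1 hyK).2
      have hsol := hc x y hx' hyo
      rcases lt_or_gt_of_ne hij with h | h
      · exact not_regular_twice P hab hx' hyo hsol h (by omega) h1 h2
      · exact not_regular_twice P hab hx' hyo hsol h (by omega) h2 h1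
    calc (p - 1) * (R x 1).card = ∑ j ∈ Finset.Icc 1 (p - 1), (R x j).card := by
          rw [Finset.sum_congr rfl (fun j hj => hRcard x j (Finset.mem_Icc.1 hj).1
            (by have := (Finset.mem_Icc.1 hj).2; omega)), Finset.sum_const, Nat.card_Icc,
            smul_eq_mul]
          congr 1
      _ = ((Finset.Icc 1 (p - 1)).biUnion (R x)).card := (Finset.card_biUnion hdisj).symm
      _ ≤ K.card := Finset.card_le_card (Finset.biUnion_subset.2 fun j _ => Finset.filter_subset _ _)
  let f : G → ℂ := fun g => if p ∣ orderOf g then 0 else 1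
  have hf : Cfsg.IsClassFunction G f := fun g h => by
    simp only [f]
    rw [show h * g * h⁻¹ = (MulAut.conj h).toMonoidHom g from rfl,
      orderOf_injective _ (MulAut.conj h).injective]
  set N : ℕ := ∑ x ∈ K, (R x 1).card with hN
  set S3 : ℝ := ∑ χ ∈ Bf, ((A χ : ℝ) ^ 3 / (D χ : ℝ)) with hS3def
  have hcount : (N : ℂ) = (K.card : ℂ) ^ 2 * (1 - (q : ℂ)⁻¹ * (S3 : ℂ)) := by
    have hclassSum : classSum u = ∑ v ∈ K, MonoidAlgebra.single v (1 : ℂ) := by
      rw [eq_sum_single (classSum u), hKdef, Finset.sum_filter]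
      refine Finset.sum_congr rfl fun v _ => ?_
      simp only [classSum, coeff_ofFun, hcls]
      split_ifs <;> simp
    have h1 : chiSum f (classSum u * classSum u) = (N : ℂ) := by
      rw [hclassSum, Finset.sum_mul, map_sum, hN, Nat.cast_sum]
      refine Finset.sum_congr rfl fun x _ => ?_
      rw [Finset.mul_sum, map_sum, Finset.natCast_card_filter]
      refine Finset.sum_congr rfl fun y _ => ?_
      rw [MonoidAlgebra.single_mul_single, one_mul, chiSum_single, one_mul, pow_one]
      simp only [f]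
      split_ifs <;> rfl
    rw [← h1, eq_sum_classInner hf, ZStarCount.chiSum_sum_smul]
    have key : ∀ χ : Cfsg.IrrCharacter G, chiSum (χ : G → ℂ) (classSum u * classSum u) =
        (K.card : ℂ) ^ 2 * ((A χ : ℂ) ^ 2 / (D χ : ℂ)) := by
      intro χ
      rw [chiSum_mul χ (isCen_classSum u), omega_apply, chiSum_classSum (irr_classFun χ), hKi,
        show (χ : G → ℂ) u = (A χ : ℂ) from hA χ, hD χ, div_eq_mul_inv]
      ring
    have hcI : ∀ χ : Cfsg.IrrCharacter G, classInner f (χ : G → ℂ) =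
        (if χ = oneChar G then 1 else 0) - if χ ∈ B then (q : ℂ)⁻¹ * (A χ : ℂ) else 0 := by
      intro χ
      have h2 : classInner f (χ : G → ℂ) = (Nat.card G : ℂ)⁻¹ * conj (regSum p (χ : G → ℂ)) := by
        rw [Cfsg.classInner, regSum, map_sum]
        congr 1
        refine Finset.sum_congr rfl fun g _ => ?_
        simp only [f]
        split_ifs <;> simp
      rw [h2, conj_regSum, hreg, hSW, hCcard, Nat.cast_mul, mul_sub, ← mul_assoc,
        inv_mul_cancel₀ hG0, one_mul]
      congr 1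
      split_ifs
      · have hq0 : (q : ℂ) ≠ 0 := Nat.cast_ne_zero.2 Nat.card_pos.ne'
        field_simp
      · simp
    simp only [key, hcI, sub_mul, Finset.sum_sub_distrib]
    rw [Finset.sum_eq_single (oneChar G) (fun χ _ hχ => by rw [if_neg hχ, zero_mul])
      (fun h => absurd (Finset.mem_univ _) h), if_pos rfl, hA1, hD1, mul_sub,
      show ((1 : ℂ) * ((K.card : ℂ) ^ 2 * (((1 : ℤ) : ℂ) ^ 2 / ((1 : ℤ) : ℂ)))) = (K.card : ℂ) ^ 2 * 1 by
        simp]
    congr 1
    rw [hS3def, Complex.ofReal_sum, Finset.mul_sum, Finset.mul_sum, hBf, Finset.sum_filter]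
    refine Finset.sum_congr rfl fun χ _ => ?_
    split_ifs
    · push_cast; ring
    · rw [zero_mul]
  have hreal : (N : ℝ) = (K.card : ℝ) ^ 2 * (1 - (q : ℝ)⁻¹ * S3) := by
    apply Complex.ofReal_injective
    push_cast
    exact hcount
  have hle : ((p : ℝ) - 1) * N ≤ (K.card : ℝ) ^ 2 := by
    have h1 : (p - 1) * N ≤ K.card * K.card := by
      rw [hN, Finset.mul_sum]
      exact (Finset.sum_le_card_nsmul _ _ K.card hRle).trans_eq (smul_eq_mul _ _)
    have h2 : (((p - 1) * N : ℕ) : ℝ) ≤ ((K.card * K.card : ℕ) : ℝ) := Nat.cast_le.2 h1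
    rw [Nat.cast_mul, Nat.cast_mul, Nat.cast_sub hp.one_le, Nat.cast_one] at h2
    rw [pow_two]; exact h2
  have hKpos : (0 : ℝ) < (K.card : ℝ) ^ 2 := by
    have : 0 < K.card := Finset.card_pos.2 ⟨u, Finset.mem_filter.2 ⟨Finset.mem_univ _, hu⟩⟩
    positivity
  rw [hreal] at hle
  have h5 : ((p : ℝ) - 1) * (1 - (q : ℝ)⁻¹ * S3) ≤ 1 := by
    refine le_of_mul_le_mul_left ?_ hKpos
    rw [mul_one]
    linarith
  have hp3' : (3 : ℝ) ≤ p := by exact_mod_cast hp3
  have hq3' : (3 : ℝ) ≤ q := by exact_mod_cast (le_trans hp3 hqp)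
  have h6 : ((p : ℝ) - 1) * ((q : ℝ) - S3) ≤ q := by
    have hq0 : (q : ℝ) ≠ 0 := by positivity
    calc ((p : ℝ) - 1) * ((q : ℝ) - S3) = ((p : ℝ) - 1) * (1 - (q : ℝ)⁻¹ * S3) * q := by
          field_simp
      _ ≤ 1 * q := mul_le_mul_of_nonneg_right h5 (by positivity)
      _ = q := one_mul _
  nlinarith

end Cfsg.Agent.S1951
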