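import Cfsg.Statements.S1952
import Mathlib
-- import your own Cfsg.Agent.* helpers here

set_option autoImplicit false
open Cfsg

namespace Cfsg.Agent.S1952

open Polynomial in
/-- In characteristic `p`, `(X - 1)^(p-1) = 1 + X + ⋯ + X^(p-1)`. -/
theorem geom_eq (p : ℕ) [Fact p.Prime] :
    ((X : (ZMod p)[X]) - 1) ^ (p - 1) = ∑ i ∈ Finset.range p, (X : (ZMod p)[X]) ^ i := by
  have h : ((X : (ZMod p)[X]) - 1) ≠ 0 := by
    simpa using X_sub_C_ne_zero (1 : ZMod p)
  apply mul_right_cancel₀ h
  rw [← pow_succ, Nat.sub_add_cancel (Fact.out : p.Prime).pos, sub_pow_char, one_pow, geom_sum_mul]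

open Polynomial in
/-- The vectors `n^k x` are independent modulo an `n`-invariant subspace not containing
`n^(p-1) x`. -/
theorem coeff_eq_zero {R V : Type*} [Field R] [AddCommGroup V] [Module R V] {p : ℕ}
    (n : Module.End R V) (hn : n ^ p = 0) (K : Submodule R V) (hK : ∀ v ∈ K, n v ∈ K) {x : V}
    (hx : (n ^ (p - 1)) x ∉ K) (c : Fin p → R) (hc : ∑ k, c k • (n ^ (k : ℕ)) x ∈ K) : c = 0 := by
  classical
  by_contra hne
  have hex : ∃ k, c k ≠ 0 := by
    by_contra h
    exact hne (funext fun k => not_not.1 fun hk => h ⟨k, hk⟩)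
  obtain ⟨k₀, hk₀, hmin⟩ : ∃ k₀, c k₀ ≠ 0 ∧ ∀ k, c k ≠ 0 → k₀ ≤ k := by
    obtain ⟨k₀, hk₀, hm⟩ := Finset.exists_min_image (Finset.univ.filter fun k => c k ≠ 0) id
      (by simpa [Finset.filter_nonempty_iff] using hex)
    exact ⟨k₀, (Finset.mem_filter.1 hk₀).2, fun k hk => hm k (by simp [hk])⟩
  have hKpow : ∀ j : ℕ, ∀ v ∈ K, (n ^ j) v ∈ K := by
    intro j
    induction j with
    | zero => intro v hv; simpa using hv
    | succ j ih => intro v hv; rw [pow_succ']; exact hK _ (ih v hv)
  have h1 := hKpow (p - 1 - (k₀ : ℕ)) _ hc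
  rw [map_sum, Finset.sum_eq_single k₀] at h1
  · rw [map_smul, ← Module.End.mul_apply, ← pow_add,
      Nat.sub_add_cancel (by have := k₀.2; omega : (k₀ : ℕ) ≤ p - 1),
      K.smul_mem_iff hk₀] at h1
    exact hx h1
  · intro k _ hk
    by_cases hck : c k = 0
    · rw [hck, zero_smul, map_zero]
    have hlt : (k₀ : ℕ) < k := lt_of_le_of_ne (hmin k hck) (fun e => hk (Fin.ext e).symm)
    rw [map_smul, ← Module.End.mul_apply, ← pow_add]
    obtain ⟨e, he⟩ : ∃ e, p - 1 - (k₀ : ℕ) + k = e + p := ⟨k - k₀ - 1, by omega⟩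
    rw [he, pow_add, hn, mul_zero, LinearMap.zero_apply, smul_zero]
  · simp

/-- Let P be a finite p-group with a normal elementary abelian subgroup A of index p, and let x ∈ A and y ∈ P with y outside A. If the product of the p conjugates y^(-i) x y^i (i = 0, …, p−1) is not the identity, then the wreath product Z_p ≀ Z_p, realised as a Sylow p-subgroup of the symmetric group of degree p², is a homomorphic image of P. -/
theorem result {P : Type*} [Group P] [Finite P] {p : ℕ} [Fact p.Prime] (hP : IsPGroup p P) (A : Subgroup P) [A.Normal]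
    (hA : Cfsg.IsElementaryAbelian p A) (hidx : A.index = p) (x y : P) (hx : x ∈ A) (hy : y ∉ A)
    (hprod : ((List.range p).map (fun i => (y ^ i)⁻¹ * x * y ^ i)).prod ≠ 1) :
    ∃ (Q : Sylow p (Equiv.Perm (Fin (p ^ 2)))) (f : P →* ↥(Q : Subgroup (Equiv.Perm (Fin (p ^ 2))))), Function.Surjective f := by
  classical
  have hp := (Fact.out : p.Prime)
  letI : CommGroup A := { (inferInstance : Group A) with mul_comm := fun a b => hA.1.1.comm a b }
  have hexp : ∀ a : A, a ^ p = 1 := fun a => Subtype.ext (by simpa using hA.2 a.1 a.2)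
  haveI : Module (ZMod p) (Additive A) :=
    AddCommGroup.zmodModule (fun v => show Additive.ofMul ((Additive.toMul v) ^ p) = 0 by
      rw [hexp]; rfl)
  let σ₀ : A →* A :=
    { toFun := fun a => ⟨y⁻¹ * a * y, by simpa using ‹A.Normal›.conj_mem a a.2 y⁻¹⟩
      map_one' := Subtype.ext (by simp)
      map_mul' := fun a b => Subtype.ext (by simp [mul_assoc]) }
  let σ : Module.End (ZMod p) (Additive A) := (MonoidHom.toAdditive σ₀).toZModLinearMap p
  have hσ : ∀ (i : ℕ) (v : Additive A),
      ((Additive.toMul ((σ ^ i) v) : A) : P) = (y ^ i)⁻¹ * (Additive.toMul v : A) * y ^ i := by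
    intro i
    induction i with
    | zero => intro v; simp
    | succ i ih =>
      intro v
      rw [pow_succ', Module.End.mul_apply]
      show y⁻¹ * _ * y = _
      rw [ih, pow_succ]
      group
  have hyq : orderOf (QuotientGroup.mk' A y) = p := by
    have h := orderOf_dvd_natCard (QuotientGroup.mk' A y)
    rw [show Nat.card (P ⧸ A) = p from hidx] at h
    exact (hp.eq_one_or_self_of_dvd _ h).resolve_left fun h1 =>
      hy ((QuotientGroup.eq_one_iff y).1 (orderOf_eq_one_iff.1 h1))
  have hyp : y ^ p ∈ A := by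
    rw [← QuotientGroup.eq_one_iff, ← QuotientGroup.mk'_apply, map_pow]
    exact (congrArg (_ ^ ·) hyq.symm).trans (pow_orderOf_eq_one _)
  have hσp : σ ^ p = 1 := by
    refine LinearMap.ext fun v => Additive.toMul.injective (Subtype.ext ?_)
    rw [hσ, Module.End.one_apply]
    have hc : ((Additive.toMul v : A) : P) * y ^ p = y ^ p * (Additive.toMul v : A) :=
      congrArg Subtype.val (hA.1.1.comm (Additive.toMul v) ⟨_, hyp⟩)
    rw [mul_assoc, hc, inv_mul_cancel_left]
  generalize hn : σ - 1 = n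
  have hnsum : n ^ (p - 1) = ∑ i ∈ Finset.range p, σ ^ i := by
    have h := congrArg (Polynomial.aeval σ) (geom_eq p)
    simpa [hn] using h
  have hnp : n ^ p = 0 := by
    have h := congrArg (Polynomial.aeval σ)
      (sub_pow_char (Polynomial.X : Polynomial (ZMod p)) 1)
    simpa [hn, hσp] using h
  let x' : Additive A := Additive.ofMul ⟨x, hx⟩
  have hN : ((Additive.toMul ((n ^ (p - 1)) x') : A) : P) =
      ((List.range p).map (fun i => (y ^ i)⁻¹ * x * y ^ i)).prod := by
    rw [hnsum, LinearMap.sum_apply]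
    have key : ∀ m : ℕ, ((Additive.toMul (∑ i ∈ Finset.range m, (σ ^ i) x') : A) : P) =
        ((List.range m).map (fun i => (y ^ i)⁻¹ * x * y ^ i)).prod := by
      intro m
      induction m with
      | zero => simp
      | succ m ih =>
        rw [Finset.sum_range_succ, toMul_add, Subgroup.coe_mul, ih, List.range_succ,
          List.map_append, List.prod_append, hσ]
        simp [x']
    exact key p
  have hz : (n ^ (p - 1)) x' ≠ 0 := fun h => hprod (by rw [← hN, h]; rfl)
  generalize hzdef : (n ^ (p - 1)) x' = z at hz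
  -- a hyperplane avoiding `z`
  obtain ⟨W, hW⟩ := Submodule.exists_isCompl (Submodule.span (ZMod p) ({z} : Set (Additive A)))
  let B : Subgroup P :=
    { carrier := {g | ∃ v ∈ W, ((Additive.toMul v : A) : P) = g}
      one_mem' := ⟨0, W.zero_mem, rfl⟩
      mul_mem' := by
        rintro _ _ ⟨v, hv, rfl⟩ ⟨w, hw, rfl⟩
        exact ⟨v + w, W.add_mem hv hw, rfl⟩
      inv_mem' := by
        rintro _ ⟨v, hv, rfl⟩
        exact ⟨-v, W.neg_mem hv, rfl⟩ }
  have hBW : ∀ v : Additive A, ((Additive.toMul v : A) : P) ∈ B ↔ v ∈ W := fun v =>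
    ⟨fun ⟨w, hw, e⟩ => Additive.toMul.injective (Subtype.ext e) ▸ hw, fun hv => ⟨v, hv, rfl⟩⟩
  have hBA : B ≤ A := by rintro _ ⟨v, -, rfl⟩; exact (Additive.toMul v).2
  have hBcard : Nat.card (P ⧸ B) = p ^ 2 := by
    have h1 : Nat.card B = Nat.card W := (Nat.card_congr (Equiv.ofBijective
      (fun v : W => (⟨_, (hBW v).2 v.2⟩ : B))
      ⟨fun v w e => by have h := congrArg (fun b : B => (b : P)) e; exact Subtype.ext (Additive.toMul.injective (Subtype.ext h)),
        fun ⟨_, v, hv, e⟩ => ⟨⟨v, hv⟩, Subtype.ext e⟩⟩)).symm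
    have h2 := Nat.card_congr (Submodule.prodEquivOfIsCompl _ W hW).toEquiv
    rw [Nat.card_prod] at h2
    have hspan : Nat.card (Submodule.span (ZMod p) ({z} : Set (Additive A))) = p := by
      rw [← Nat.card_congr (LinearEquiv.toSpanNonzeroSingleton (ZMod p) (Additive A) z hz).toEquiv,
        Nat.card_zmod]
    rw [hspan, Nat.card_congr Additive.toMul] at h2
    have h3 := A.card_mul_index
    have h4 := B.card_mul_index
    rw [hidx, ← h2] at h3
    rw [← h3, h1] at h4
    have h5 : Nat.card W * B.index = Nat.card W * p ^ 2 := by rw [h4]; ring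
    exact Nat.eq_of_mul_eq_mul_left Nat.card_pos h5
  let f := MulAction.toPermHom P (P ⧸ B)
  have hker : f.ker = B.normalCore := (Subgroup.normalCore_eq_ker B).symm
  let K : Submodule (ZMod p) (Additive A) := AddSubgroup.toZModSubmodule p
    { carrier := {v | ((Additive.toMul v : A) : P) ∈ f.ker}
      zero_mem' := f.ker.one_mem
      add_mem' := fun ha hb => f.ker.mul_mem ha hb
      neg_mem' := fun ha => f.ker.inv_mem ha }
  have hKmem : ∀ v, v ∈ K ↔ ((Additive.toMul v : A) : P) ∈ f.ker := fun v => Iff.rfl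
  have hKinv : ∀ v ∈ K, n v ∈ K := by
    intro v hv
    rw [← hn, LinearMap.sub_apply, Module.End.one_apply]
    refine K.sub_mem ((hKmem _).2 ?_) hv
    have h := (inferInstance : f.ker.Normal).conj_mem _ ((hKmem v).1 hv) y⁻¹
    have e := hσ 1 v
    rw [pow_one, pow_one] at e
    rw [e]
    rwa [inv_inv] at h
  have hzK : (n ^ (p - 1)) x' ∉ K := by
    rw [hzdef]
    intro h
    have h1 := (hKmem z).1 h
    rw [hker] at h1
    have h2 := (hBW z).1 (B.normalCore_le h1)
    exact hz (Submodule.disjoint_def.1 hW.disjoint z (Submodule.mem_span_singleton_self z) h2)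
  -- the image is large
  let v : (Fin p → ZMod p) → Additive A := fun c => ∑ k, c k • (n ^ (k : ℕ)) x'
  let Ψ : (Fin p → ZMod p) × Fin p → f.range := fun q =>
    ⟨f (((Additive.toMul (v q.1) : A) : P) * y ^ (q.2 : ℕ)), ⟨_, rfl⟩⟩
  have hΨ : Function.Injective Ψ := by
    rintro ⟨c, j⟩ ⟨d, i⟩ h
    have h1 : f (((Additive.toMul (v c) : A) : P) * y ^ (j : ℕ)) =
        f (((Additive.toMul (v d) : A) : P) * y ^ (i : ℕ)) := congrArg Subtype.val h
    rw [f.eq_iff] at h1
    have hA' := hBA (B.normalCore_le (hker ▸ h1))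
    rw [← QuotientGroup.eq_one_iff, ← QuotientGroup.mk'_apply] at hA'
    have h0 : ∀ a : A, QuotientGroup.mk' A (a : P) = 1 := fun a => (QuotientGroup.eq_one_iff _).2 a.2
    simp only [map_mul, map_inv, h0, one_mul, map_pow, inv_mul_eq_one] at hA'
    obtain rfl : j = i := by
      refine Fin.ext (pow_injOn_Iio_orderOf ?_ ?_ (hA'.symm))
      · show (j : ℕ) < _; rw [hyq]; exact j.2
      · show (i : ℕ) < _; rw [hyq]; exact i.2
    refine Prod.ext (sub_eq_zero.1 (coeff_eq_zero n hnp K hKinv hzK (c - d) ?_)) rfl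
    have e : ∑ k, (c - d) k • (n ^ (k : ℕ)) x' = v c - v d := by
      simp [v, sub_smul, Finset.sum_sub_distrib]
    rw [e]
    refine (hKmem _).2 ?_
    have h2 := (inferInstance : f.ker.Normal).conj_mem _ h1 (y ^ (j : ℕ))
    have e2 : ∀ a b : P, y ^ (j : ℕ) * ((a * y ^ (j : ℕ))⁻¹ * (b * y ^ (j : ℕ))) * (y ^ (j : ℕ))⁻¹ =
        a⁻¹ * b := fun a b => by group
    rw [e2] at h2
    have hab : ((Additive.toMul (v c - v d) : A) : P) =
        ((Additive.toMul (v d) : A) : P)⁻¹ * (Additive.toMul (v c) : A) := by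
      rw [toMul_sub, div_eq_mul_inv, mul_comm]
      rfl
    rw [hab]
    exact h2
  have hcard : p ^ (p + 1) ≤ Nat.card f.range := by
    refine le_trans (le_of_eq ?_) (Nat.card_le_card_of_injective Ψ hΨ)
    rw [Nat.card_prod, Nat.card_fun, Nat.card_zmod, Nat.card_fin, pow_succ]
  -- transport to `Fin (p ^ 2)`
  haveI : Finite (P ⧸ B) := inferInstance
  let e : P ⧸ B ≃ Fin (p ^ 2) := Finite.equivFinOfCardEq hBcard
  let g : P →* Equiv.Perm (Fin (p ^ 2)) := e.permCongrHom.toMonoidHom.comp f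
  have hgcard : Nat.card g.range = Nat.card f.range := by
    rw [MonoidHom.range_comp, Subgroup.card_map_of_injective e.permCongrHom.injective]
  obtain ⟨Q, hQ⟩ := ((hP.of_surjective g.rangeRestrict g.rangeRestrict_surjective)).exists_le_sylow
  have hQcard : Nat.card (Q : Subgroup (Equiv.Perm (Fin (p ^ 2)))) = p ^ (p + 1) := by
    rw [Q.card_eq_multiplicity, Nat.card_perm, Nat.card_fin, Nat.factorization_def _ hp, sq,
      padicValNat_factorial_mul, add_comm]
    congr 2
    have := padicValNat_factorial_mul (p := p) 1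
    simpa using this
  have hQeq : g.range = (Q : Subgroup (Equiv.Perm (Fin (p ^ 2)))) :=
    Subgroup.eq_of_le_of_card_ge hQ (by rw [hQcard, hgcard]; exact hcard)
  refine ⟨Q, g.codRestrict _ (fun a => hQ ⟨a, rfl⟩), fun q => ?_⟩
  obtain ⟨a, ha⟩ := hQeq.ge q.2
  exact ⟨a, Subtype.ext ha⟩

end Cfsg.Agent.S1952
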