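import Cfsg.Statements.S1954
import Mathlib
import Cfsg.Agent.Lib.ConjFunctorBasic
import Cfsg.Agent.Lib.ConjFunctorControl
import Cfsg.Agent.Lib.ConjFunctorMaster
import Cfsg.Agent.Lib.CentralSylow

set_option autoImplicit false
open Cfsg

namespace Cfsg.Agent.S1954

open Subgroup Cfsg.Agent.ConjFunctorBasic

variable {G : Type*} [Group G] [Finite G] {p : ℕ} [Fact p.Prime]

theorem cmap_eq_of_agree {Q : Subgroup G} {g h : G} (H : ∀ q ∈ Q, g * q * g⁻¹ = h * q * h⁻¹) :
    cmap g Q = cmap h Q := ConjFunctorControl.cmap_congr H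

/-- Inside `N`, fusion in `T` is realised by elements normalising all the conjugates of `V`. -/
theorem extend_all {N T V : Subgroup G} [N.Normal] (hV : V ≤ T)
    (hctrl : ∀ A : Subgroup G, A ≤ T → ∀ n ∈ N, cmap n A ≤ T →
      ∃ h ∈ N ⊓ normalizer (V : Set G), ∀ a ∈ A, h * a * h⁻¹ = n * a * n⁻¹)
    (s : Finset G) (hs : ∀ x ∈ s, x ∈ normalizer (T : Set G))
    {A : Subgroup G} (hA : A ≤ T) {n : G} (hn : n ∈ N) (hnA : cmap n A ≤ T) :
    ∃ h ∈ N, (∀ a ∈ A, h * a * h⁻¹ = n * a * n⁻¹) ∧ ∀ x ∈ s, cmap h (cmap x V) = cmap x V := by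
  classical
  induction s using Finset.induction_on with
  | empty => exact ⟨n, hn, fun a _ => rfl, fun x hx => absurd hx (Finset.notMem_empty x)⟩
  | @insert y s _ ih =>
    obtain ⟨h, hhN, hag, hfix⟩ := ih fun x hx => hs x (Finset.mem_insert_of_mem hx)
    have hy := hs y (Finset.mem_insert_self y s)
    have hxT : ∀ x ∈ s, cmap x V ≤ T := fun x hx =>
      (cmap_mono x hV).trans (mem_normalizer_iff_cmap.mp (hs x (Finset.mem_insert_of_mem hx))).le
    set A1 := A ⊔ ⨆ x ∈ s, cmap x V with hA1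
    have hA1T : A1 ≤ T := sup_le hA (iSup₂_le hxT)
    have hhA1 : cmap h A1 ≤ T := by
      rw [hA1, cmap, Subgroup.map_sup, Subgroup.map_iSup]
      refine sup_le ((cmap_eq_of_agree hag).le.trans hnA) (iSup_le fun x => ?_)
      rw [Subgroup.map_iSup]
      exact iSup_le fun hx => (hfix x hx).le.trans (hxT x hx)
    have hy1 : cmap y⁻¹ A1 ≤ T :=
      (cmap_mono _ hA1T).trans (mem_normalizer_iff_cmap.mp (inv_mem hy)).le
    have hy2 : cmap (y⁻¹ * h * y) (cmap y⁻¹ A1) ≤ T := by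
      rw [← cmap_mul, show y⁻¹ * h * y * y⁻¹ = y⁻¹ * h by group, cmap_mul]
      exact (cmap_mono _ hhA1).trans (mem_normalizer_iff_cmap.mp (inv_mem hy)).le
    have hconjN : y⁻¹ * h * y ∈ N := by
      have := Normal.conj_mem (H := N) inferInstance h hhN y⁻¹
      rwa [inv_inv] at this
    obtain ⟨k, hk, hka⟩ := hctrl _ hy1 _ hconjN hy2
    have key : ∀ a ∈ A1, y * k * y⁻¹ * a * (y * k * y⁻¹)⁻¹ = h * a * h⁻¹ := fun a ha => by
      have := hka (y⁻¹ * a * y) (by simpa using conj_mem_cmap (g := y⁻¹) ha)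
      calc y * k * y⁻¹ * a * (y * k * y⁻¹)⁻¹ = y * (k * (y⁻¹ * a * y) * k⁻¹) * y⁻¹ := by group
        _ = y * (y⁻¹ * h * y * (y⁻¹ * a * y) * (y⁻¹ * h * y)⁻¹) * y⁻¹ := by rw [this]
        _ = h * a * h⁻¹ := by group
    refine ⟨y * k * y⁻¹, Normal.conj_mem inferInstance k hk.1 y,
      fun a ha => (key a (mem_sup_left ha)).trans (hag a ha), fun x hx => ?_⟩
    rcases Finset.mem_insert.mp hx with rfl | hx
    · rw [← cmap_mul, inv_mul_cancel_right, cmap_mul, mem_normalizer_iff_cmap.mp hk.2]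
    · rw [cmap_eq_of_agree fun q hq => key q ?_, hfix x hx]
      exact mem_sup_right (mem_iSup_of_mem x (mem_iSup_of_mem hx hq))

theorem main (N : Subgroup G) [N.Normal] (P : Sylow p G) (V : Subgroup G)
    (hV : V ≤ (P : Subgroup G) ⊓ N)
    (hctrl : ∀ A : Subgroup G, A ≤ (P : Subgroup G) ⊓ N → ∀ n ∈ N, cmap n A ≤ (P : Subgroup G) ⊓ N →
      ∃ h ∈ N ⊓ normalizer (V : Set G), ∀ a ∈ A, h * a * h⁻¹ = n * a * n⁻¹)
    (W : Subgroup G) (hW : W = Subgroup.closure
      (⋃ x ∈ normalizer (((P : Subgroup G) ⊓ N : Subgroup G) : Set G),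
        ((cmap x V : Subgroup G) : Set G))) :
    ∀ A ≤ (P : Subgroup G), ∀ g : G, cmap g A ≤ (P : Subgroup G) →
      ∃ h ∈ normalizer (W : Set G), ∀ a ∈ A, h * a * h⁻¹ = g * a * g⁻¹ := by
  classical
  set T := (P : Subgroup G) ⊓ N with hT
  have hVW : ∀ x ∈ normalizer (T : Set G), cmap x V ≤ W := fun x hx y hy =>
    hW ▸ subset_closure (Set.mem_biUnion hx hy)
  have hWT : W ≤ T := by
    rw [hW, closure_le]
    exact Set.iUnion₂_subset fun x hx => (cmap_mono x hV).trans (mem_normalizer_iff_cmap.mp hx).le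
  have hNW : ∀ h : G, (∀ x ∈ normalizer (T : Set G), cmap h (cmap x V) ≤ W) →
      h ∈ normalizer (W : Set G) := by
    intro h hh
    refine mem_normalizer_of_cmap_le (cmap_le_iff.mpr fun w hw => ?_)
    have hle : W ≤ W.comap (MulAut.conj h).toMonoidHom := by
      nth_rw 1 [hW]
      rw [closure_le]
      exact Set.iUnion₂_subset fun x hx y hy => hh x hx (conj_mem_cmap hy)
    exact hle hw
  have hTW : normalizer (T : Set G) ≤ normalizer (W : Set G) := fun y hy => hNW y fun x hx => by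
    rw [← cmap_mul]; exact hVW _ (mul_mem hy hx)
  have hTsyl : IsSylowIn p T N := ConjFunctorMaster.not_dvd_relIndex_of_ge
  -- fusion inside `T` by elements of `G`
  have hstep1 : ∀ R ≤ T, ∀ g : G, cmap g R ≤ T →
      ∃ h ∈ normalizer (W : Set G), ∀ r ∈ R, h * r * h⁻¹ = g * r * g⁻¹ := by
    intro R hR g hg
    obtain ⟨c, hc, m, hm, e⟩ := ConjFunctorMaster.frattini_split (H := ⊤) hTsyl
      (by rw [normalizer_eq_top]) (mem_top g⁻¹)
    obtain rfl : g = m⁻¹ * c⁻¹ := by rw [← inv_inv g, e, mul_inv_rev]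
    have hcR : cmap c⁻¹ R ≤ T := by
      have h1 := cmap_mono m hg
      rw [← cmap_mul, mul_inv_cancel_left, mem_normalizer_iff_cmap.mp hm] at h1
      exact h1
    obtain ⟨h, -, hag, hfix⟩ := extend_all hV hctrl
      (Set.toFinite (normalizer (T : Set G) : Set G)).toFinset (fun x hx => by simpa using hx) hR
      (inv_mem hc) hcR
    refine ⟨m⁻¹ * h, mul_mem (hTW (inv_mem hm))
      (hNW h fun x hx => (hfix x (by simpa using hx)).le.trans (hVW x hx)), fun r hr => ?_⟩
    calc m⁻¹ * h * r * (m⁻¹ * h)⁻¹ = m⁻¹ * (h * r * h⁻¹) * m := by group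
      _ = m⁻¹ * (c⁻¹ * r * c⁻¹⁻¹) * m := by rw [hag r hr]
      _ = m⁻¹ * c⁻¹ * r * (m⁻¹ * c⁻¹)⁻¹ := by group
  let Φ : Subgroup G → G → Prop := fun Q g =>
    ∃ h ∈ normalizer (W : Set G), ∀ a ∈ Q, h * a * h⁻¹ = g * a * g⁻¹
  have hΦ : FusRel (P : Subgroup G) Φ :=
    { triv := fun g => ⟨1, one_mem _, fun a ha => by simp [mem_bot.mp ha]⟩
      mono := by
        rintro Q Q' g hle - - ⟨h, hh, he⟩
        exact ⟨h, hh, fun a ha => he a (hle ha)⟩
      trans := by
        rintro Q g k - - - ⟨h, hh, he⟩ ⟨h', hh', he'⟩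
        refine ⟨h' * h, mul_mem hh' hh, fun a ha => ?_⟩
        calc h' * h * a * (h' * h)⁻¹ = h' * (h * a * h⁻¹) * h'⁻¹ := by group
          _ = k * (g * a * g⁻¹) * k⁻¹ := by rw [he a ha, he' _ (conj_mem_cmap ha)]
          _ = k * g * a * (k * g)⁻¹ := by group
      symm := by
        rintro Q g - - ⟨h, hh, he⟩
        refine ⟨h⁻¹, inv_mem hh, fun a ha => ?_⟩
        rw [mem_cmap] at ha
        have := he _ ha
        calc h⁻¹ * a * h⁻¹⁻¹ = h⁻¹ * (g * (g⁻¹ * a * g) * g⁻¹) * h := by group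
          _ = h⁻¹ * (h * (g⁻¹ * a * g) * h⁻¹) * h := by rw [this]
          _ = g⁻¹ * a * g⁻¹⁻¹ := by group }
  refine fusion_induction hΦ (Full p (P : Subgroup G)) (fun _ h => h)
    (fun Q hQ => (exists_full P hQ).imp fun a ha => ha.1) (fun U hU hU1 habove n hn => ?_)
  set R := U ⊓ N with hR
  have hnU := mem_normalizer_iff_cmap.mp hn
  have hfixN : ∀ x : G, cmap x N = N := fun x =>
    mem_normalizer_iff_cmap.mp (by rw [normalizer_eq_top]; exact mem_top x)
  have hfixR : ∀ x ∈ normalizer (U : Set G), cmap x R = R := fun x hx => by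
    rw [hR, cmap_inf, hfixN, mem_normalizer_iff_cmap.mp hx]
  have hRT : R ≤ T := inf_le_inf_right _ hU.1
  by_cases hWU : W ≤ U
  · obtain ⟨h, hh, he⟩ := hstep1 R hRT n ((hfixR n hn).le.trans hRT)
    refine ⟨n, mem_normalizer_iff_cmap.mpr ?_, fun a _ => rfl⟩
    rw [← cmap_eq_of_agree fun q hq => he q (le_inf hWU (hWT.trans inf_le_right) hq)]
    exact mem_normalizer_iff_cmap.mp hh
  let K : Subgroup G :=
    { carrier := {m | m ∈ N ∧ m ∈ normalizer (U : Set G) ∧
        ∃ w ∈ W, w ∈ normalizer (R : Set G) ∧ ∀ r ∈ R, m * r * m⁻¹ = w * r * w⁻¹}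
      one_mem' := ⟨one_mem _, one_mem _, 1, one_mem _, one_mem _, fun r _ => rfl⟩
      mul_mem' := by
        rintro a b ⟨haN, haU, v, hv, hvR, hva⟩ ⟨hbN, hbU, w, hw, hwR, hwb⟩
        refine ⟨mul_mem haN hbN, mul_mem haU hbU, v * w, mul_mem hv hw, mul_mem hvR hwR, fun r hr => ?_⟩
        have hr' : w * r * w⁻¹ ∈ R := (mem_normalizer_iff.mp hwR r).mp hr
        calc a * b * r * (a * b)⁻¹ = a * (b * r * b⁻¹) * a⁻¹ := by group
          _ = v * (w * r * w⁻¹) * v⁻¹ := by rw [hwb r hr, hva _ hr']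
          _ = v * w * r * (v * w)⁻¹ := by group
      inv_mem' := by
        rintro a ⟨haN, haU, v, hv, hvR, hva⟩
        refine ⟨inv_mem haN, inv_mem haU, v⁻¹, inv_mem hv, inv_mem hvR, fun r hr => ?_⟩
        have hr' : v⁻¹ * r * v ∈ R := by
          simpa using (mem_normalizer_iff.mp (inv_mem hvR) r).mp hr
        have := hva _ hr'
        calc a⁻¹ * r * a⁻¹⁻¹ = a⁻¹ * (v * (v⁻¹ * r * v) * v⁻¹) * a := by group
          _ = a⁻¹ * (a * (v⁻¹ * r * v) * a⁻¹) * a := by rw [this]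
          _ = v⁻¹ * r * v⁻¹⁻¹ := by group }
  have hKU : K ≤ normalizer (U : Set G) := fun m hm => hm.2.1
  have hKn : normalizer (U : Set G) ≤ normalizer (K : Set G) := by
    intro x hx
    refine mem_normalizer_of_cmap_le (cmap_le_iff.mpr ?_)
    rintro m ⟨hmN, hmU, w, hw, hwR, hwm⟩
    obtain ⟨h, hh, he⟩ := hstep1 R hRT x ((hfixR x hx).le.trans hRT)
    have hhR : h ∈ normalizer (R : Set G) := mem_normalizer_iff_cmap.mpr
      ((cmap_eq_of_agree he).trans (hfixR x hx))
    refine ⟨Normal.conj_mem inferInstance m hmN x, mul_mem (mul_mem hx hmU) (inv_mem hx),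
      h * w * h⁻¹, (mem_normalizer_iff.mp hh w).mp hw, mul_mem (mul_mem hhR hwR) (inv_mem hhR),
      fun r hr => ?_⟩
    have h1 : x⁻¹ * r * x ∈ R := by
      have := conj_mem_cmap (g := x⁻¹) hr
      rw [hfixR x⁻¹ (inv_mem hx), inv_inv] at this
      exact this
    have h2 : w * (x⁻¹ * r * x) * w⁻¹ ∈ R := (mem_normalizer_iff.mp hwR _).mp h1
    have e1 : h * (x⁻¹ * r * x) * h⁻¹ = r := by rw [he _ h1]; group
    calc x * m * x⁻¹ * r * (x * m * x⁻¹)⁻¹ = x * (m * (x⁻¹ * r * x) * m⁻¹) * x⁻¹ := by group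
      _ = h * (w * (x⁻¹ * r * x) * w⁻¹) * h⁻¹ := by rw [hwm _ h1, he _ h2]
      _ = h * w * h⁻¹ * (h * (x⁻¹ * r * x) * h⁻¹) * (h * w * h⁻¹)⁻¹ := by group
      _ = h * w * h⁻¹ * r * (h * w * h⁻¹)⁻¹ := by rw [e1]
  set D := (P : Subgroup G) ⊓ K
  have hD : IsSylowIn p D K := by
    have hR' := hU.isSylowIn
    haveI : (K.subgroupOf (normalizer (U : Set G))).Normal := normal_subgroupOf_of_le_normalizer hKn
    have h := CentralSylow.not_dvd_relIndex_normal hR'.toSylow (K.subgroupOf (normalizer (U : Set G)))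
    refine ⟨inf_le_right, isPGroup_mono P.isPGroup' inf_le_left, ?_⟩
    rw [← relIndex_map_map_of_injective _ _ (normalizer (U : Set G)).subtype_injective,
      map_inf _ _ _ (normalizer (U : Set G)).subtype_injective, hR'.map_toSylow,
      map_subgroupOf_eq_of_le hKU, inf_assoc, inf_eq_right.mpr hKU] at h
    exact h
  obtain ⟨k, hk, m, hm, rfl⟩ := ConjFunctorMaster.frattini_split hD hKn hn
  set C := N ⊓ centralizer (U : Set G)
  have hCK : C ≤ K := fun c hc => ⟨hc.1, centralizer_le_normalizer (U : Set G) hc.2, 1, one_mem _,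
    one_mem _, fun r hr => by
      rw [← mem_centralizer_iff.mp hc.2 r hr.1]; group⟩
  have hCn : K ≤ normalizer (C : Set G) := fun x hx => by
    refine mem_normalizer_iff_cmap.mpr ?_
    rw [cmap_inf, hfixN]
    congr 1
    show (centralizer (U : Set G)).map (MulAut.conj x).toMonoidHom = _
    ext y
    rw [mem_map]
    constructor
    · rintro ⟨z, hz, rfl⟩
      refine mem_centralizer_iff.mpr fun u hu => ?_
      have hu' : x⁻¹ * u * x ∈ U := by
        simpa using (mem_normalizer_iff.mp (inv_mem (hKU hx)) u).mp hu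
      have := mem_centralizer_iff.mp hz _ hu'
      calc u * (x * z * x⁻¹) = x * (x⁻¹ * u * x * z) * x⁻¹ := by group
        _ = x * (z * (x⁻¹ * u * x)) * x⁻¹ := by rw [this]
        _ = x * z * x⁻¹ * u := by group
    · intro hy
      refine ⟨x⁻¹ * y * x, mem_centralizer_iff.mpr fun u hu => ?_, by simp [mul_assoc]⟩
      have := mem_centralizer_iff.mp hy _ ((mem_normalizer_iff.mp (hKU hx) u).mp hu)
      calc u * (x⁻¹ * y * x) = x⁻¹ * (x * u * x⁻¹ * y) * x := by group
        _ = x⁻¹ * (y * (x * u * x⁻¹)) * x := by rw [this]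
        _ = x⁻¹ * y * x * u := by group
  -- `K = C D` since `K / C` is a `p`-group
  haveI : (C.subgroupOf K).Normal := normal_subgroupOf_of_le_normalizer hCn
  have hKC : IsPGroup p (↥K ⧸ C.subgroupOf K) := by
    intro x
    induction x using QuotientGroup.induction_on with
    | H y =>
      obtain ⟨hyN, hyU, w, hw, hwR, hwy⟩ := y.2
      obtain ⟨j, hj⟩ := (isPGroup_mono P.isPGroup' (hWT.trans inf_le_left)) ⟨w, hw⟩
      have hwj : w ^ p ^ j = 1 := congrArg Subtype.val hj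
      set z : G := (y : G) ^ p ^ j with hz
      have hagree : ∀ (i : ℕ), ∀ r ∈ R, (y : G) ^ i * r * ((y : G) ^ i)⁻¹ = w ^ i * r * (w ^ i)⁻¹ := by
        intro i
        induction i with
        | zero => intro r _; simp
        | succ i ih =>
          intro r hr
          have hr' : w * r * w⁻¹ ∈ R := (mem_normalizer_iff.mp hwR r).mp hr
          calc (y : G) ^ (i + 1) * r * ((y : G) ^ (i + 1))⁻¹
              = (y : G) ^ i * ((y : G) * r * (y : G)⁻¹) * ((y : G) ^ i)⁻¹ := by rw [pow_succ]; group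
            _ = w ^ i * (w * r * w⁻¹) * (w ^ i)⁻¹ := by rw [hwy r hr, ih _ hr']
            _ = w ^ (i + 1) * r * (w ^ (i + 1))⁻¹ := by rw [pow_succ]; group
      have hzR : ∀ r ∈ R, z * r = r * z := fun r hr => by
        have := hagree (p ^ j) r hr
        rw [hwj, one_mul, inv_one, mul_one, ← hz] at this
        exact mul_inv_eq_iff_eq_mul.mp this
      have hzU : z ∈ normalizer (U : Set G) := pow_mem hyU _
      have hzN : z ∈ N := pow_mem hyN _
      obtain ⟨l, hl⟩ : ∃ l, ∀ r ∈ R, r ^ p ^ l = 1 := by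
        obtain ⟨l, hl⟩ := IsPGroup.iff_card.mp (isPGroup_mono P.isPGroup' (inf_le_left.trans hU.1) :
          IsPGroup p R)
        exact ⟨l, fun r hr => hl ▸ congrArg Subtype.val (pow_card_eq_one' (x := (⟨r, hr⟩ : R)))⟩
      refine ⟨j + l, ?_⟩
      rw [← QuotientGroup.mk_pow, QuotientGroup.eq_one_iff, mem_subgroupOf]
      refine ⟨pow_mem hyN _, mem_centralizer_iff.mpr fun u hu => ?_⟩
      set d := z * u * z⁻¹ * u⁻¹ with hd
      have hdR : d ∈ R := ⟨show d ∈ U from mul_mem (show z * u * z⁻¹ ∈ U from (mem_normalizer_iff.mp hzU u).mp hu)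
        (inv_mem (show u ∈ U from hu)), by
        rw [hd, mul_assoc z, mul_assoc z]
        exact mul_mem hzN (Normal.conj_mem inferInstance _ (inv_mem hzN) u)⟩
      have key : ∀ i : ℕ, z ^ i * u = d ^ i * u * z ^ i := by
        intro i
        induction i with
        | zero => simp
        | succ i ih =>
          have e1 : z * u = d * u * z := by rw [hd]; group
          have e2 : Commute (z ^ i) d := (show Commute z d from hzR d hdR).pow_left i
          calc z ^ (i + 1) * u = z ^ i * (d * u * z) := by rw [pow_succ, mul_assoc, e1]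
            _ = d * (z ^ i * u) * z := by rw [← mul_assoc, ← mul_assoc, e2.eq, mul_assoc d]
            _ = d ^ (i + 1) * u * z ^ (i + 1) := by rw [ih, pow_succ', pow_succ]; simp [mul_assoc]
      have := key (p ^ l)
      rw [hl d hdR, one_mul, hz, ← pow_mul, ← pow_add] at this
      rw [SubmonoidClass.coe_pow]
      exact this.symm
  have hDC : K ≤ C ⊔ D := by
    set π := QuotientGroup.mk' (C.subgroupOf K)
    let D' := hD.toSylow.mapSurjective (f := π) (QuotientGroup.mk'_surjective _)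
    have hD' : (D' : Subgroup (↥K ⧸ C.subgroupOf K)) = ⊤ :=
      (D'.is_maximal' (Q := ⊤) (hKC.to_subgroup ⊤) le_top).symm
    intro x hx
    have h1 : π ⟨x, hx⟩ ∈ (D' : Subgroup _) := hD'.symm ▸ mem_top _
    rw [Sylow.coe_mapSurjective] at h1
    obtain ⟨d, hd, he⟩ := h1
    have h2 : d⁻¹ * ⟨x, hx⟩ ∈ C.subgroupOf K := QuotientGroup.eq.mp he
    have hd' : (d : G) ∈ D := hD.map_toSylow ▸ mem_map_of_mem K.subtype hd
    have := mul_mem (mem_sup_right (S := C) hd') (mem_sup_left (T := D) (mem_subgroupOf.mp h2))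
    simpa using this
  have hkCD := hDC hk
  have hDN : D ≤ normalizer (C : Set G) := inf_le_right.trans hCn
  rw [← SetLike.mem_coe, coe_mul_of_right_le_normalizer_left C D hDN] at hkCD
  obtain ⟨c, hc, d, hd, rfl⟩ := Set.mem_mul.mp hkCD
  have hdm : d * m ∈ normalizer (D : Set G) := mul_mem (le_normalizer hd) hm
  have hdmU : d * m ∈ normalizer (U : Set G) := by
    have := mul_mem (inv_mem (centralizer_le_normalizer (U : Set G) hc.2)) hn
    rwa [show c⁻¹ * (c * d * m) = d * m by group] at this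
  set U' := U ⊔ D
  have hU'S : U' ≤ (P : Subgroup G) := sup_le hU.1 inf_le_left
  have hU'fix : cmap (d * m) U' = U' := by
    rw [cmap, Subgroup.map_sup]
    exact congrArg₂ (· ⊔ ·) (mem_normalizer_iff_cmap.mp hdmU) (mem_normalizer_iff_cmap.mp hdm)
  have hlt : Nat.card U < Nat.card U' := by
    refine lt_of_le_of_ne (Subgroup.card_le_of_le le_sup_left) fun hc' => hWU ?_
    have hUU' : U' = U := (eq_of_le_of_card_ge le_sup_left hc'.ge).symm
    -- the normaliser of `U` in `U W`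
    have hPN : (P : Subgroup G) ≤ normalizer (W : Set G) := by
      refine le_trans (fun y hy => mem_normalizer_iff_cmap.mpr ?_) hTW
      rw [hT, cmap_inf, hfixN, mem_normalizer_iff_cmap.mp (le_normalizer hy)]
    by_contra hWU'
    have hUW : U ⊔ W ≤ (P : Subgroup G) := sup_le hU.1 (hWT.trans inf_le_left)
    haveI : Group.IsNilpotent ↥(U ⊔ W) := (isPGroup_mono P.isPGroup' hUW).isNilpotent
    have hne : U.subgroupOf (U ⊔ W) < ⊤ := lt_top_iff_ne_top.mpr fun h' =>
      hWU' (le_sup_right.trans (subgroupOf_eq_top.mp h'))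
    obtain ⟨⟨y, hy⟩, hyN, hyU⟩ := SetLike.exists_of_lt
      (Group.normalizerCondition_of_isNilpotent (G := ↥(U ⊔ W)) _ hne)
    rw [← SetLike.mem_coe, coe_mul_of_left_le_normalizer_right U W (hU.1.trans hPN)] at hy
    obtain ⟨u, hu, w, hw, rfl⟩ := Set.mem_mul.mp hy
    have hwU : w ∈ normalizer (U : Set G) := by
      have h1 : u * w ∈ normalizer (U : Set G) := by
        refine mem_normalizer_of_cmap_le (cmap_le_iff.mpr fun z hz => ?_)
        exact (mem_normalizer_iff.mp hyN ⟨z, mem_sup_left hz⟩).mp hz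
      have := mul_mem (inv_mem (le_normalizer hu : u ∈ normalizer (U : Set G))) h1
      rwa [inv_mul_cancel_left] at this
    have hwR : w ∈ normalizer (R : Set G) := mem_normalizer_iff_cmap.mpr (hfixR w hwU)
    have hwD : w ∈ D := ⟨(hWT.trans inf_le_left) hw, (hWT.trans inf_le_right) hw, hwU, w, hw, hwR,
      fun r _ => rfl⟩
    exact hyU (mem_subgroupOf.mpr (mul_mem hu (hUU' ▸ mem_sup_right (S := U) hwD)))
  obtain ⟨h, hh, he⟩ := habove U' hlt hU'S (d * m) (hU'fix.le.trans hU'S)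
  refine ⟨h, hh, fun a ha => ?_⟩
  rw [he a (mem_sup_left ha)]
  have := mem_centralizer_iff.mp hc.2 _ ((mem_normalizer_iff.mp hdmU a).mp ha)
  calc d * m * a * (d * m)⁻¹ = c * (d * m * a * (d * m)⁻¹) * c⁻¹ := by
        rw [← this, mul_inv_cancel_right]
    _ = c * d * m * a * (c * d * m)⁻¹ := by group

/-- Let N be a normal subgroup of the finite group G, P a Sylow p-subgroup of G, and V a subgroup of P ∩ N normal in P ∩ N such that N_N(V) controls strong fusion in P ∩ N with respect to N (whenever a subgroup A of P ∩ N has n A n⁻¹ ≤ P ∩ N for some n in N, then n = h c with h in N_N(V) and c in C_N(A)). Let W be the subgroup generated by the conjugates of V under N_G(P ∩ N). Then N_G(W) controls strong fusion in P with respect to G. -/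
theorem result {G : Type*} [Group G] [Finite G] {p : ℕ} [Fact p.Prime] (N : Subgroup G) [N.Normal] (P : Sylow p G) (V : Subgroup G)
    (hV : V ≤ (P : Subgroup G) ⊓ N) (hVn : ∀ x ∈ (P : Subgroup G) ⊓ N, V.map (MulAut.conj x).toMonoidHom = V)
    (hctrl : ∀ A : Subgroup G, A ≤ (P : Subgroup G) ⊓ N → ∀ n ∈ N, A.map (MulAut.conj n).toMonoidHom ≤ (P : Subgroup G) ⊓ N →
      ∃ h ∈ N ⊓ Subgroup.normalizer (V : Set G), ∃ c ∈ N ⊓ Subgroup.centralizer (A : Set G), n = h * c)
    (W : Subgroup G) (hW : W = Subgroup.closure (⋃ x ∈ Subgroup.normalizer (((P : Subgroup G) ⊓ N : Subgroup G) : Set G),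
      ((V.map (MulAut.conj x).toMonoidHom : Subgroup G) : Set G))) :
    ∀ A : Subgroup G, A ≤ (P : Subgroup G) → ∀ g : G, A.map (MulAut.conj g).toMonoidHom ≤ (P : Subgroup G) →
        ∃ h ∈ Subgroup.normalizer (W : Set G), ∃ c ∈ Subgroup.centralizer (A : Set G), g = h * c := by
  intro A hA g hg
  have hctrl' : ∀ A : Subgroup G, A ≤ (P : Subgroup G) ⊓ N → ∀ n ∈ N,
      ConjFunctorBasic.cmap n A ≤ (P : Subgroup G) ⊓ N →
        ∃ h ∈ N ⊓ Subgroup.normalizer (V : Set G), ∀ a ∈ A, h * a * h⁻¹ = n * a * n⁻¹ := by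
    intro A hA n hn hnA
    obtain ⟨h, hh, c, hc, rfl⟩ := hctrl A hA n hn hnA
    refine ⟨h, hh, fun a ha => ?_⟩
    have := Subgroup.mem_centralizer_iff.mp hc.2 a ha
    calc h * a * h⁻¹ = h * (c * a * c⁻¹) * h⁻¹ := by rw [← this, mul_inv_cancel_right]
      _ = h * c * a * (h * c)⁻¹ := by group
  obtain ⟨h, hh, he⟩ := main N P V hV hctrl' W hW A hA g hg
  refine ⟨h, hh, h⁻¹ * g, Subgroup.mem_centralizer_iff.mpr fun a ha => ?_, by group⟩
  have := he a ha
  calc a * (h⁻¹ * g) = h⁻¹ * (h * a * h⁻¹) * g := by group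
    _ = h⁻¹ * (g * a * g⁻¹) * g := by rw [this]
    _ = h⁻¹ * g * a := by group

end Cfsg.Agent.S1954
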