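import Cfsg.Statements.S1957
import Cfsg.Agent.Lib.CoprimeTools
import Cfsg.Agent.Lib.PGroupsBasic
import Cfsg.Agent.Lib.HallCore
-- import your own Cfsg.Agent.* helpers here

set_option autoImplicit false
open Cfsg

namespace Cfsg.Agent.S1957

open scoped Pointwise commutatorElement
open Cfsg.Agent.CoprimeSZ Cfsg.Agent.CoprimeAction Cfsg.Agent.CoprimeGen

/-- In a group of characteristic 2, a subgroup that stabilises `O₂ ⊇ ⟨z⟩ ⊇ 1` lies in `O₂`. -/
theorem le_pCore_of_commutator_le {H : Type*} [Group H] [Finite H]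
    (hchar : Cfsg.IsOfCharacteristicTwo H) {z : H} (hz : z ∈ Subgroup.center H) (hz2 : z ^ 2 = 1)
    (U₀ : Subgroup H) (T : Sylow 2 H)
    (hTU : ∀ t ∈ (T : Subgroup H), ∀ u ∈ U₀, ⁅u, t⁆ ∈ Subgroup.zpowers z) :
    U₀ ≤ Cfsg.pCore 2 H := by
  set Z := Subgroup.zpowers z with hZ
  have hZc : Z ≤ Subgroup.center H := Subgroup.zpowers_le.2 hz
  have hZn : Z.Normal := Cfsg.Agent.PGroupsBasic.normal_of_le_center hZc
  set O := Cfsg.pCore 2 H with hO
  have hOn : O.Normal := Cfsg.Agent.HallCore.pCore_normal 2 H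
  have : (O.map (QuotientGroup.mk' Z)).Normal := hOn.map _ (QuotientGroup.mk'_surjective Z)
  set X := (Subgroup.centralizer (O.map (QuotientGroup.mk' Z) : Set (H ⧸ Z))).comap
    (QuotientGroup.mk' Z) with hX
  have hXn : X.Normal := inferInstance
  have hmemX : ∀ x, x ∈ X → ∀ o ∈ O, x⁻¹ * o * x * o⁻¹ ∈ Z := by
    intro x hx o ho
    rw [← QuotientGroup.eq_one_iff]
    have h1 := Subgroup.mem_centralizer_iff.1 hx (QuotientGroup.mk' Z o) (Subgroup.mem_map_of_mem _ ho)
    change QuotientGroup.mk' Z (x⁻¹ * o * x * o⁻¹) = 1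
    rw [map_mul, map_mul, map_mul, map_inv, map_inv, mul_assoc (QuotientGroup.mk' Z x)⁻¹, h1]
    simp
  have hUX : U₀ ≤ X := by
    intro u hu
    rw [hX, Subgroup.mem_comap, Subgroup.mem_centralizer_iff]
    rintro _ ⟨o, ho, rfl⟩
    have h1 := hTU o (Cfsg.Agent.HallCore.pCore_le_sylow T ho) u hu
    rw [← QuotientGroup.eq_one_iff] at h1
    change QuotientGroup.mk' Z ⁅u, o⁆ = 1 at h1
    rw [map_commutatorElement, commutatorElement_eq_one_iff_mul_comm] at h1
    exact h1.symm
  have hXp : IsPGroup 2 X := by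
    intro x
    obtain ⟨a, b, hb, hab⟩ := Nat.exists_eq_two_pow_mul_odd (orderOf_pos (x : H)).ne'
    refine ⟨a, Subtype.ext ?_⟩
    change (x : H) ^ (2 ^ a) = 1
    set y := (x : H) ^ (2 ^ a) with hy
    have hyo : orderOf y = b := by
      rw [hy, orderOf_pow_of_dvd (by positivity) (hab ▸ dvd_mul_right _ _), hab,
        Nat.mul_div_cancel_left _ (by positivity)]
    have hyX : y ∈ X := X.pow_mem x.2 _
    have hcopZ : (Nat.card (Subgroup.zpowers y)).Coprime (Nat.card Z) := by
      rw [Nat.card_zpowers, hyo, Nat.card_zpowers]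
      exact (Nat.Coprime.coprime_dvd_left (orderOf_dvd_of_pow_eq_one hz2)
        ((Nat.coprime_two_left).2 hb)).symm
    have hyC : y ∈ Subgroup.centralizer (O : Set H) := by
      rw [Subgroup.mem_centralizer_iff]
      intro o ho
      refine (Subgroup.mem_centralizer_iff.1 (mem_centralizer_of_stabilizes hcopZ ?_ o
        (fun w hw => ?_)) y (Subgroup.mem_zpowers y)).symm
      · exact hZc.trans (Subgroup.center_le_centralizer _)
      · have hw' : w ∈ X := Subgroup.zpowers_le.2 hyX hw
        have h8 := hmemX w hw' o⁻¹ (O.inv_mem ho)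
        rw [inv_inv] at h8
        have h9 : o⁻¹ * w * o * w⁻¹ = w * (w⁻¹ * o⁻¹ * w * o) * w⁻¹ := by simp [mul_assoc]
        rw [h9]
        exact hZn.conj_mem _ h8 w
    have hyO := hchar hyC
    obtain ⟨j, hj⟩ := IsPGroup.iff_orderOf.1 (Cfsg.Agent.HallCore.isPGroup_pCore 2 H) ⟨y, hyO⟩
    rw [← Subgroup.orderOf_coe] at hj
    change orderOf y = 2 ^ j at hj
    rw [hyo] at hj
    rcases j with _ | j
    · rw [pow_zero] at hj
      exact orderOf_eq_one_iff.1 (hyo.trans hj)
    · exfalso
      rw [hj, pow_succ'] at hb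
      exact Nat.not_odd_iff_even.2 (even_two.mul_right _) hb
  exact hUX.trans (Cfsg.Agent.HallCore.le_pCore hXp)

/-- Let `G` be a finite non-abelian simple group in which every local subgroup is solvable and which is of characteristic 2 type. Let `P` be a Sylow 2-subgroup of `G` and `U` a normal subgroup of `P` that is a four-group, with `U` central in `P` if the centre of `P` is not cyclic. Then `U` centralizes every subgroup of odd order of `G` that it normalizes. -/
theorem result {G : Type*} [Group G] [Finite G]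
    [IsSimpleGroup G] (hna : ¬ IsMulCommutative G) (hN : Cfsg.IsNGroup G) (h2 : Cfsg.IsCharacteristicTwoType G)
    (P : Sylow 2 G) (U : Subgroup G) (hUP : U ≤ (P : Subgroup G)) (hUn : (P : Subgroup G) ≤ Subgroup.normalizer (U : Set G))
    (hU4 : IsKleinFour ↥U)
    (hUZ : ¬ IsCyclic ↥((P : Subgroup G) ⊓ Subgroup.centralizer ((P : Subgroup G) : Set G)) →
      U ≤ Subgroup.centralizer ((P : Subgroup G) : Set G))
    (K : Subgroup G) (hK : Odd (Nat.card K)) (hUK : U ≤ Subgroup.normalizer (K : Set G)) :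
    U ≤ Subgroup.centralizer (K : Set G) := by
  set C := (P : Subgroup G) ⊓ Subgroup.centralizer (U : Set G) with hC
  have hUcomm : IsMulCommutative U := IsKleinFour.isMulCommutative
  have hexp : ∀ u ∈ U, u * u = 1 := fun u hu =>
    congrArg Subtype.val (IsKleinFour.mul_self (⟨u, hu⟩ : U))
  have hUC : U ≤ C := le_inf hUP (fun u hu => Subgroup.mem_centralizer_iff.2 fun v hv =>
    congrArg Subtype.val (mul_comm' (⟨v, hv⟩ : U) ⟨u, hu⟩))
  -- a central involution in `U`
  obtain ⟨z₀, hz₀U, hz₀1, hz₀P⟩ : ∃ z₀, z₀ ∈ U ∧ z₀ ≠ 1 ∧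
      z₀ ∈ Subgroup.centralizer ((P : Subgroup G) : Set G) := by
    have hn : (U.subgroupOf P).Normal := Subgroup.normal_subgroupOf_of_le_normalizer hUn
    have hne : U.subgroupOf P ≠ ⊥ := by
      intro h
      have h1 := Nat.card_congr (Subgroup.subgroupOfEquivOfLe hUP).toEquiv
      rw [h, Subgroup.card_bot, IsKleinFour.card_four] at h1
      exact absurd h1 (by norm_num)
    have h2 := Cfsg.Agent.PGroupsBasic.inf_center_ne_bot P.2 (N := U.subgroupOf P) hne
    obtain ⟨⟨x, hxU, hxc⟩, hx1⟩ := Subgroup.ne_bot_iff_exists_ne_one.1 h2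
    refine ⟨x, hxU, fun h => hx1 (Subtype.ext (Subtype.ext h)), ?_⟩
    rw [Subgroup.mem_centralizer_iff]
    intro y hy
    exact congrArg Subtype.val (Subgroup.mem_center_iff.1 hxc ⟨y, hy⟩)
  -- any element of `P` outside `C` moves every `u ∉ ⟨z₀⟩` to `u z₀`
  have hmove : ∀ a ∈ (P : Subgroup G), a ∉ C → ∀ u ∈ U, u ≠ 1 → u ≠ z₀ →
      a * u * a⁻¹ = u * z₀ := by
    have hfour : ∀ u ∈ U, u ≠ 1 → u ≠ z₀ → ∀ v ∈ U, v = 1 ∨ v = z₀ ∨ v = u ∨ v = u * z₀ := by
      intro u hu hu1 huz v hv
      by_cases h1 : v = 1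
      · exact Or.inl h1
      by_cases h2 : v = z₀
      · exact Or.inr (Or.inl h2)
      by_cases h3 : v = u
      · exact Or.inr (Or.inr (Or.inl h3))
      refine Or.inr (Or.inr (Or.inr ?_))
      exact congrArg Subtype.val (IsKleinFour.eq_mul_of_ne_all (x := (⟨u, hu⟩ : U))
        (y := ⟨z₀, hz₀U⟩) (z := ⟨v, hv⟩) (fun h => hu1 (congrArg Subtype.val h))
        (fun h => hz₀1 (congrArg Subtype.val h)) (fun h => huz (congrArg Subtype.val h))
        (fun h => h1 (congrArg Subtype.val h)) (fun h => h3 (congrArg Subtype.val h))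
        (fun h => h2 (congrArg Subtype.val h)))
    intro a ha haC u hu hu1 huz
    have hz₀a : a * z₀ * a⁻¹ = z₀ := by
      rw [Subgroup.mem_centralizer_iff.1 hz₀P a ha, mul_inv_cancel_right]
    rcases hfour u hu hu1 huz _ (conj_mem (hUn ha) hu) with h | h | h | h
    · exact absurd (conj_eq_one_iff.1 h) hu1
    · exact absurd (mul_left_cancel (mul_right_cancel (h.trans hz₀a.symm))) huz
    · exfalso
      apply haC
      refine ⟨ha, Subgroup.mem_centralizer_iff.2 fun v hv => ?_⟩
      have hcu : Commute u a := (mul_inv_eq_iff_eq_mul.1 h).symm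
      have hcz : Commute z₀ a := (mul_inv_eq_iff_eq_mul.1 hz₀a).symm
      rcases hfour u hu hu1 huz v hv with rfl | rfl | rfl | rfl
      · simp
      · exact hcz
      · exact hcu
      · exact hcu.mul_left hcz
    · exact h
  -- `C` has index at most two in `P`
  have hidx : ∀ a ∈ (P : Subgroup G), ∀ b ∈ (P : Subgroup G), a ∉ C → b ∉ C → a⁻¹ * b ∈ C := by
    intro a ha b hb haC hbC
    classical
    refine ⟨(P : Subgroup G).mul_mem ((P : Subgroup G).inv_mem ha) hb, Subgroup.mem_centralizer_iff.2 fun u hu => ?_⟩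
    have hcase : ∀ x ∈ (P : Subgroup G), x ∉ C →
        x * u * x⁻¹ = if u = 1 ∨ u = z₀ then u else u * z₀ := by
      intro x hx hxC
      split_ifs with h
      · rcases h with rfl | rfl
        · simp
        · rw [Subgroup.mem_centralizer_iff.1 hz₀P x hx, mul_inv_cancel_right]
      · exact hmove x hx hxC u hu (fun h' => h (Or.inl h')) (fun h' => h (Or.inr h'))
    have h1 := (hcase a ha haC).trans (hcase b hb hbC).symm
    have h2 : (a⁻¹ * b) * u * (a⁻¹ * b)⁻¹ = u := by
      calc (a⁻¹ * b) * u * (a⁻¹ * b)⁻¹ = a⁻¹ * (b * u * b⁻¹) * a := by simp [mul_assoc]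
        _ = u := by rw [← h1]; simp [mul_assoc]
    exact (mul_inv_eq_iff_eq_mul.1 h2).symm
  have hCP : C ≤ (P : Subgroup G) := inf_le_left
  have hcardP : Nat.card (P : Subgroup G) ≤ 2 * Nat.card C := by
    by_cases h : ∀ a ∈ (P : Subgroup G), a ∈ C
    · have := Subgroup.card_le_of_le (show (P : Subgroup G) ≤ C from h)
      omega
    simp only [not_forall] at h
    obtain ⟨a, ha, haC⟩ := h
    have h2 : (C.subgroupOf P).index = 2 := by
      rw [Subgroup.index_eq_two_iff]
      refine ⟨⟨a⁻¹, inv_mem ha⟩, fun b => ?_⟩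
      change Xor' ((b : G) * a⁻¹ ∈ C) ((b : G) ∈ C)
      by_cases hb : (b : G) ∈ C
      · exact Or.inr ⟨hb, fun h => haC (by
          have := C.mul_mem (C.inv_mem h) hb
          simpa [mul_assoc] using this)⟩
      · refine Or.inl ⟨?_, hb⟩
        have := hidx (b : G)⁻¹ (inv_mem b.2) a⁻¹ (inv_mem ha) (fun h => hb (inv_mem_iff.1 h))
          (fun h => haC (inv_mem_iff.1 h))
        simpa using this
    have h3 := Subgroup.card_mul_index (C.subgroupOf P)
    rw [h2, Nat.card_congr (Subgroup.subgroupOfEquivOfLe hCP).toEquiv] at h3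
    omega
  -- involutions of `Z(C)` lie in `U` when `C ≠ P`
  have hW : ∀ a ∈ (P : Subgroup G), a ∉ C → ∀ w ∈ C, w * w = 1 → (∀ c ∈ C, c * w = w * c) → w ∈ U := by
    intro a ha haC
    have hcyc : IsCyclic ↥((P : Subgroup G) ⊓ Subgroup.centralizer ((P : Subgroup G) : Set G)) := by
      by_contra hnc
      refine haC ⟨ha, Subgroup.mem_centralizer_iff.2 fun u hu => ?_⟩
      exact (Subgroup.mem_centralizer_iff.1 (hUZ hnc hu) a ha).symm
    have hcent : ∀ y ∈ C, (∀ c ∈ C, c * y = y * c) → a * y * a⁻¹ = y → y * y = 1 →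
        y = 1 ∨ y = z₀ := by
      intro y hy hyC hya hyy
      have hyP : y ∈ (P : Subgroup G) ⊓ Subgroup.centralizer ((P : Subgroup G) : Set G) := by
        refine ⟨hCP hy, Subgroup.mem_centralizer_iff.2 fun x hx => ?_⟩
        by_cases hxC : x ∈ C
        · exact hyC x hxC
        · have h1 := hidx a ha x hx haC hxC
          have h2 : Commute (a⁻¹ * x) y := hyC _ h1
          have h3 : Commute a y := mul_inv_eq_iff_eq_mul.1 hya
          have := h3.mul_left h2
          rwa [mul_inv_cancel_left] at this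
      have hzP : z₀ ∈ (P : Subgroup G) ⊓ Subgroup.centralizer ((P : Subgroup G) : Set G) :=
        ⟨hUP hz₀U, hz₀P⟩
      by_contra hcon
      simp only [not_or] at hcon
      classical
      set Z := (P : Subgroup G) ⊓ Subgroup.centralizer ((P : Subgroup G) : Set G)
      have := Fintype.ofFinite Z
      have h4 := IsCyclic.card_pow_eq_one_le (α := Z) (n := 2) two_pos
      have h5 : ({1, ⟨z₀, hzP⟩, ⟨y, hyP⟩} : Finset Z) ⊆
          (Finset.univ.filter fun x : Z => x ^ 2 = 1) := by
        intro w hw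
        simp only [Finset.mem_insert, Finset.mem_singleton] at hw
        rw [Finset.mem_filter]
        refine ⟨Finset.mem_univ _, ?_⟩
        rcases hw with rfl | rfl | rfl
        · simp
        · exact Subtype.ext (by simpa [sq] using hexp z₀ hz₀U)
        · exact Subtype.ext (by simpa [sq] using hyy)
      have h6 : ({1, ⟨z₀, hzP⟩, ⟨y, hyP⟩} : Finset Z).card = 3 := by
        rw [Finset.card_insert_of_notMem, Finset.card_pair]
        · exact fun h => hcon.2 (congrArg Subtype.val h).symm
        · simp only [Finset.mem_insert, Finset.mem_singleton, not_or]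
          exact ⟨fun h => hz₀1 (congrArg Subtype.val h).symm, fun h => hcon.1 (congrArg Subtype.val h).symm⟩
      have h7 := (Finset.card_le_card h5).trans h4
      omega
    have hCn : ∀ c ∈ C, a * c * a⁻¹ ∈ C := fun c hc =>
      conj_mem ((le_normalizer_inf Subgroup.le_normalizer
        (CoprimeTools.le_normalizer_centralizer_of_le hUn)) ha) hc
    have haa : ∀ y ∈ C, (∀ c ∈ C, c * y = y * c) → a * (a * y * a⁻¹) * a⁻¹ = y := by
      intro y hy hyC
      have haa' : a * a ∈ C := by
        have := hidx a⁻¹ (inv_mem ha) a ha (fun h => haC (inv_mem_iff.1 h)) haC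
        simpa using this
      have := hyC _ haa'
      calc a * (a * y * a⁻¹) * a⁻¹ = (a * a) * y * (a * a)⁻¹ := by simp [mul_assoc]
        _ = y := by rw [this, mul_inv_cancel_right]
    intro w hw hww hwC
    -- `y = w * w^a` is central in `P`
    set y := w * (a * w * a⁻¹) with hy
    have hcwa : ∀ c ∈ C, c * (a * w * a⁻¹) = (a * w * a⁻¹) * c := by
      intro c hc
      have h1 := hwC (a⁻¹ * c * a) (conj_mem' ((le_normalizer_inf Subgroup.le_normalizer
        (CoprimeTools.le_normalizer_centralizer_of_le hUn)) ha) hc)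
      calc c * (a * w * a⁻¹) = a * (a⁻¹ * c * a * w) * a⁻¹ := by simp [mul_assoc]
        _ = _ := by rw [h1]; simp [mul_assoc]
    have hya : a * y * a⁻¹ = y := by
      calc a * y * a⁻¹ = (a * w * a⁻¹) * (a * (a * w * a⁻¹) * a⁻¹) := by simp [hy, mul_assoc]
        _ = (a * w * a⁻¹) * w := by rw [haa w hw hwC]
        _ = y := (hcwa w hw).symm
    have hw2 : (a * w * a⁻¹) * (a * w * a⁻¹) = 1 := by
      calc (a * w * a⁻¹) * (a * w * a⁻¹) = a * (w * w) * a⁻¹ := by simp [mul_assoc]
        _ = 1 := by rw [hww]; simp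
    have hyy : y * y = 1 := by
      calc y * y = w * ((a * w * a⁻¹) * w) * (a * w * a⁻¹) := by simp [hy, mul_assoc]
        _ = (w * w) * ((a * w * a⁻¹) * (a * w * a⁻¹)) := by rw [← hcwa w hw]; simp [mul_assoc]
        _ = 1 := by rw [hww, hw2, one_mul]
    rcases hcent y (C.mul_mem hw (hCn w hw)) (fun c hc => (show Commute c w from hwC c hc).mul_right (hcwa c hc))
      hya hyy with hy1 | hy1
    · -- `w` is fixed
      have hfix : a * w * a⁻¹ = w := mul_left_cancel (hy1.trans hww.symm)
      rcases hcent w hw hwC hfix hww with rfl | rfl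
      · exact U.one_mem
      · exact hz₀U
    · -- shift by a non-central element of `U`
      have hnall : ∃ u ∈ U, u ≠ 1 ∧ u ≠ z₀ := by
        by_contra hcon
        apply haC
        refine ⟨ha, Subgroup.mem_centralizer_iff.2 fun v hv => ?_⟩
        by_cases h1 : v = 1
        · simp [h1]
        by_cases h2 : v = z₀
        · rw [h2]; exact (Subgroup.mem_centralizer_iff.1 hz₀P a ha).symm
        exact absurd ⟨v, hv, h1, h2⟩ hcon
      obtain ⟨u, hu, hu1, hu2⟩ := hnall
      have hua := hmove a ha haC u hu hu1 hu2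
      have hcu : ∀ c ∈ C, c * u = u * c := fun c hc => (Subgroup.mem_centralizer_iff.1 hc.2 u hu).symm
      have hwu : w * u * (w * u) = 1 := by
        rw [mul_assoc, ← mul_assoc u w u, ← hcu w hw, mul_assoc w u u, hexp u hu, mul_one, hww]
      have hfix : a * (w * u) * a⁻¹ = w * u := by
        calc a * (w * u) * a⁻¹ = (a * w * a⁻¹) * (a * u * a⁻¹) := by simp [mul_assoc]
          _ = (w * y) * (u * z₀) := by
            rw [hua, hy, ← mul_assoc w w, hww, one_mul]
          _ = w * u := by
            rw [hy1, mul_assoc, ← mul_assoc z₀ u z₀, hcu z₀ (hUC hz₀U), mul_assoc u z₀ z₀,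
              hexp z₀ hz₀U, mul_one]
      rcases hcent (w * u) (C.mul_mem hw (hUC hu))
        (fun c hc => (show Commute c w from hwC c hc).mul_right (hcu c hc)) hfix hwu with h | h
      · have : w = u := mul_right_cancel (h.trans (hexp u hu).symm)
        rw [this]; exact hu
      · have : w = z₀ * u := by
          rw [← h, mul_assoc, hexp u hu, mul_one]
        rw [this]; exact U.mul_mem hz₀U hu
  -- the main step
  have key : ∀ z ∈ U, z ≠ 1 →
      K ⊓ Subgroup.centralizer {z} ≤ Subgroup.centralizer (U : Set G) := by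
    intro z hz hz1
    set M := Subgroup.normalizer ((Subgroup.zpowers z : Subgroup G) : Set G) with hM
    have hz2 : z ^ 2 = 1 := by rw [sq]; exact hexp z hz
    have hzp : IsPGroup 2 (Subgroup.zpowers z) :=
      IsPGroup.of_card (n := 1) (by rw [Nat.card_zpowers, orderOf_eq_prime hz2 hz1, pow_one])
    have hchar : Cfsg.IsOfCharacteristicTwo M := h2.2 _ hzp (by simp [hz1])
    have hMz : ∀ m ∈ M, m * z * m⁻¹ = z := by
      intro m hm
      have h1 := conj_mem hm (Subgroup.mem_zpowers z)
      obtain ⟨i, hi⟩ := h1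
      change z ^ i = m * z * m⁻¹ at hi
      rcases Int.even_or_odd i with ⟨j, rfl⟩ | ⟨j, rfl⟩
      · exfalso
        rw [← two_mul, zpow_mul, zpow_two, hexp z hz, one_zpow] at hi
        exact hz1 (conj_eq_one_iff.1 hi.symm)
      · rw [zpow_add, zpow_mul, zpow_two, hexp z hz, one_zpow, one_mul, zpow_one] at hi
        exact hi.symm
    have hzc : ∀ x : G, x * z * x⁻¹ = z → x ∈ M := fun x hx => by
      refine mem_normalizer_of_conj_smul_eq ?_
      rw [conj_smul_eq_map, MonoidHom.map_zpowers]
      exact congrArg Subgroup.zpowers hx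
    have hCM : C ≤ M := fun c hc => hzc c (by
      rw [← Subgroup.mem_centralizer_iff.1 hc.2 z hz, mul_inv_cancel_right])
    obtain ⟨T, hT⟩ := ((P.2.to_le hCP).comap_of_injective M.subtype M.subtype_injective :
      IsPGroup 2 (C.subgroupOf M)).exists_le_sylow
    set T' := (T : Subgroup M).map M.subtype
    have hCT : C ≤ T' := by
      rw [← Subgroup.map_subgroupOf_eq_of_le hCM]; exact Subgroup.map_mono hT
    have hTU : T' ≤ Subgroup.normalizer (U : Set G) := by
      by_cases hTC : T' ≤ C
      · intro x hx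
        exact Subgroup.centralizer_le_normalizer _ (hTC hx).2
      have hidx2 : C.relIndex T' = 2 := by
        have hd : Nat.card T' ∣ Nat.card (P : Subgroup G) := by
          obtain ⟨j, hj⟩ := IsPGroup.iff_card.1 (T.2.map M.subtype)
          have hle : 2 ^ j ∣ Nat.card G := hj ▸ Subgroup.card_subgroup_dvd_card T'
          rw [hj, P.card_eq_multiplicity]
          exact pow_dvd_pow 2 ((Nat.Prime.pow_dvd_iff_le_factorization Nat.prime_two Nat.card_pos.ne').1 hle)
        have h1 := Cfsg.Agent.HallCore.card_mul_relIndex hCT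
        have h3 := Nat.le_of_dvd Nat.card_pos hd
        have h4 : C.relIndex T' ≠ 1 := fun h => hTC (Subgroup.relIndex_eq_one.1 h)
        have h5 : C.relIndex T' ≠ 0 := Subgroup.index_ne_zero_of_finite
        have hcC : 0 < Nat.card C := Nat.card_pos
        by_contra hne
        have h6 : 3 ≤ C.relIndex T' := by omega
        have h7 : Nat.card C * 3 ≤ Nat.card T' := h1 ▸ Nat.mul_le_mul_left _ h6
        omega
      have hTn : T' ≤ Subgroup.normalizer (C : Set G) :=
        (Subgroup.normal_subgroupOf_iff_le_normalizer hCT).1 (Subgroup.normal_of_index_eq_two hidx2)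
      obtain ⟨a, ha, haC⟩ : ∃ a ∈ (P : Subgroup G), a ∉ C := by
        by_contra hcon
        simp only [not_exists, not_and, not_not] at hcon
        apply hTC
        have h1 : Nat.card T' ≤ Nat.card (P : Subgroup G) := by
          obtain ⟨j, hj⟩ := IsPGroup.iff_card.1 (T.2.map M.subtype)
          have hle : 2 ^ j ∣ Nat.card G := hj ▸ Subgroup.card_subgroup_dvd_card T'
          rw [hj, P.card_eq_multiplicity]
          exact Nat.pow_le_pow_right two_pos
            ((Nat.Prime.pow_dvd_iff_le_factorization Nat.prime_two Nat.card_pos.ne').1 hle)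
        exact (Subgroup.eq_of_le_of_card_ge hCT
          (h1.trans (Subgroup.card_le_of_le hcon))).ge
      refine le_normalizer_of_conj_mem fun t ht u hu => hW a ha haC _ (conj_mem (hTn ht) (hUC hu)) ?_ ?_
      · calc t * u * t⁻¹ * (t * u * t⁻¹) = t * (u * u) * t⁻¹ := by simp [mul_assoc]
          _ = 1 := by rw [hexp u hu]; simp
      · intro c hc
        have h1 := (Subgroup.mem_centralizer_iff.1 (conj_mem' (hTn ht) hc).2 u hu).symm
        calc c * (t * u * t⁻¹) = t * ((t⁻¹ * c * t) * u) * t⁻¹ := by simp [mul_assoc]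
          _ = _ := by rw [h1]; simp [mul_assoc]
    have hUM : U ≤ M := hUC.trans hCM
    have hUO : U.subgroupOf M ≤ Cfsg.pCore 2 M := by
      refine le_pCore_of_commutator_le hchar (z := ⟨z, Subgroup.le_normalizer (Subgroup.mem_zpowers z)⟩)
        (Subgroup.mem_center_iff.2 fun m => Subtype.ext (mul_inv_eq_iff_eq_mul.1 (hMz m m.2)))
        (Subtype.ext (by simpa using hz2)) _ T ?_
      intro t ht u hu
      suffices h : ⁅(u : G), (t : G)⁆ ∈ Subgroup.zpowers z by
        obtain ⟨i, hi⟩ := h
        exact ⟨i, Subtype.ext hi⟩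
      have hu' : (u : G) ∈ U := hu
      have htU : (t : G) * u * (t : G)⁻¹ ∈ U := conj_mem (hTU (Subgroup.mem_map_of_mem _ ht)) hu'
      have hin : ⁅(u : G), (t : G)⁆ ∈ U := by
        have h1 : ⁅(u : G), (t : G)⁆ = u * ((t : G) * u * (t : G)⁻¹)⁻¹ := by
          simp [commutatorElement_def, mul_assoc]
        rw [h1]
        exact U.mul_mem hu' (U.inv_mem htU)
      have hcomm' : ∀ v ∈ U, ∀ v' ∈ U, v * v' = v' * v := fun v hv v' hv' =>
        congrArg Subtype.val (mul_comm' (⟨v, hv⟩ : U) ⟨v', hv'⟩)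
      -- `x ↦ t x t⁻¹` fixes `z`; on a four-group this forces `[u,t] ∈ ⟨z⟩`
      by_cases hu1 : (u : G) = 1
      · rw [hu1, commutatorElement_one_left]; exact one_mem _
      by_cases huz : (u : G) = z
      · rw [huz, commutatorElement_def, mul_assoc, mul_assoc,
          show z⁻¹ * (t : G)⁻¹ = ((t : G) * z)⁻¹ from (mul_inv_rev _ _).symm,
          ← mul_inv_eq_iff_eq_mul.1 (hMz t t.2) |>.symm, ← mul_assoc, mul_inv_cancel]
        exact one_mem _
      classical
      have := Fintype.ofFinite U
      have huniv : ({1, ⟨z, hz⟩, ⟨u, hu'⟩, ⟨u * z, U.mul_mem hu' hz⟩} : Finset U) = Finset.univ := by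
        refine Finset.eq_univ_of_card _ ?_
        have h4 : Fintype.card U = 4 := by rw [← Nat.card_eq_fintype_card, IsKleinFour.card_four]
        rw [h4, Finset.card_insert_of_notMem, Finset.card_insert_of_notMem, Finset.card_pair]
        · exact fun h => hz1 (mul_eq_left.1 (congrArg Subtype.val h).symm)
        · simp only [Finset.mem_insert, Finset.mem_singleton, not_or]
          exact ⟨fun h => huz (congrArg Subtype.val h).symm,
            fun h => hu1 (mul_eq_right.1 (congrArg Subtype.val h).symm)⟩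
        · simp only [Finset.mem_insert, Finset.mem_singleton, not_or]
          exact ⟨fun h => hz1 (congrArg Subtype.val h).symm, fun h => hu1 (congrArg Subtype.val h).symm,
            fun h => huz (mul_right_cancel ((congrArg Subtype.val h).symm.trans (hexp z hz).symm))⟩
      have hmem := Finset.mem_univ (⟨_, htU⟩ : U)
      rw [← huniv] at hmem
      simp only [Finset.mem_insert, Finset.mem_singleton, Subtype.ext_iff, OneMemClass.coe_one] at hmem
      rcases hmem with h | h | h | h
      · exact absurd (conj_eq_one_iff.1 h) hu1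
      · exact absurd (mul_left_cancel (mul_right_cancel (h.trans (hMz t t.2).symm))) huz
      · have : ⁅(u : G), (t : G)⁆ = 1 := by
          rw [commutatorElement_eq_one_iff_mul_comm]
          exact (mul_inv_eq_iff_eq_mul.1 h).symm
        rw [this]; exact one_mem _
      · have : ⁅(u : G), (t : G)⁆ = z := by
          have h1 : ⁅(u : G), (t : G)⁆ = u * ((t : G) * u * (t : G)⁻¹)⁻¹ := by
            simp [commutatorElement_def, mul_assoc]
          have hzi : z⁻¹ = z := inv_eq_of_mul_eq_one_right (hexp z hz)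
          rw [h1, h, mul_inv_rev, hzi, ← mul_assoc, hcomm' _ hu' z hz, mul_inv_cancel_right]
        rw [this]; exact Subgroup.mem_zpowers z
    -- `[Q, U] ≤ O₂(M) ⊓ K = 1`
    intro x hx
    rw [Subgroup.mem_centralizer_iff]
    intro v hv
    have hxz : x * z * x⁻¹ = z := by
      rw [Subgroup.mem_centralizer_singleton_iff.1 hx.2, mul_inv_cancel_right]
    have hxM := hzc x hxz
    have h1 : ⁅(⟨v, hUM hv⟩ : M), ⟨x, hxM⟩⁆ ∈ Cfsg.pCore 2 M := by
      have hn := Cfsg.Agent.HallCore.pCore_normal 2 M
      have hv' : (⟨v, hUM hv⟩ : M) ∈ Cfsg.pCore 2 M := hUO hv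
      have := (Cfsg.pCore 2 M).mul_mem hv' (hn.conj_mem _ (inv_mem hv') ⟨x, hxM⟩)
      rw [commutatorElement_def]
      simpa only [mul_assoc] using this
    obtain ⟨j, hj⟩ := IsPGroup.iff_orderOf.1 (Cfsg.Agent.HallCore.isPGroup_pCore 2 M) ⟨_, h1⟩
    rw [← Subgroup.orderOf_coe, ← Subgroup.orderOf_coe] at hj
    change orderOf ⁅v, x⁆ = 2 ^ j at hj
    have h3 : ⁅v, x⁆ ∈ K := by
      have := K.mul_mem (conj_mem (hUK hv) hx.1) (K.inv_mem hx.1)
      simpa [commutatorElement_def] using this
    rw [← commutatorElement_eq_one_iff_mul_comm, ← orderOf_eq_one_iff]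
    rcases j with _ | j
    · simpa using hj
    · exfalso
      have := hK.of_dvd_nat (Subgroup.orderOf_dvd_natCard K h3)
      rw [hj, pow_succ'] at this
      exact Nat.not_odd_iff_even.2 (even_two.mul_right _) this
  rw [Subgroup.le_centralizer_iff]
  refine le_of_centralizers (A := U) IsKleinFour.not_isCyclic hUK ?_ key
  rw [IsKleinFour.card_four, show (4 : ℕ) = 2 ^ 2 by norm_num]
  exact Nat.Coprime.pow_left _ (Nat.coprime_two_left.2 hK)

end Cfsg.Agent.S1957
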