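import Cfsg.Statements.S1966
import Mathlib
import Cfsg.Agent.Lib.ConjFunctorBasic
import Cfsg.Agent.Lib.ConjFunctorControl
import Cfsg.Agent.Lib.HallCore

set_option autoImplicit false
open Cfsg

namespace Cfsg.Agent.S1966

/-- Let p be a prime, G a finite group with Sylow p-subgroup S and 𝓕 a conjugation family for S in G. Then the members of 𝓕 containing O_p(G) still form a conjugation family for S in G. -/
theorem result {G : Type*} [Group G] [Finite G] {p : ℕ} [Fact p.Prime] (S : Sylow p G) (𝓕 : Set (Subgroup G)) (h : Cfsg.IsConjugationFamily 𝓕 (S : Subgroup G)) : Cfsg.IsConjugationFamily {T : Subgroup G | T ∈ 𝓕 ∧ Cfsg.pCore p G ≤ T} (S : Subgroup G) := by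
  have hCn : (Cfsg.pCore p G).Normal := Cfsg.Agent.HallCore.pCore_normal p G
  have hCS : Cfsg.pCore p G ≤ (S : Subgroup G) :=
    (Cfsg.Agent.HallCore.isPGroup_pCore p G).le_sylow_of_normal S
  refine ⟨fun T hT => h.1 T hT.1, fun A g hA hAS hg => ?_⟩
  obtain ⟨n, T, x, hprod, hT, hx, h0, hs⟩ := h.2 (A ∪ (Cfsg.pCore p G : Set G)) g
    (hA.mono Set.subset_union_left) (Set.union_subset hAS hCS) (by
      rintro _ ⟨a, ha | ha, rfl⟩
      · exact hg ⟨a, ha, rfl⟩
      · exact hCS (by simpa using hCn.conj_mem a ha g⁻¹))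
  refine ⟨n, T, x, hprod, fun i => ⟨hT i, ?_⟩, hx, fun hn => Set.subset_union_left.trans (h0 hn),
    fun i hi => (Set.image_mono Set.subset_union_left).trans (hs i hi)⟩
  obtain ⟨i, hi⟩ := i
  cases i with
  | zero => exact Set.subset_union_right.trans (h0 hi)
  | succ i =>
    intro c hc
    set k := ((List.ofFn x).take (i + 1)).prod with hk
    have := hs ⟨i, Nat.lt_of_succ_lt hi⟩ hi ⟨k * c * k⁻¹, Or.inr (hCn.conj_mem c hc k), rfl⟩
    simpa [← hk, mul_assoc] using this

end Cfsg.Agent.S1966
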