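import Cfsg.Statements.S1967
import Mathlib
import Cfsg.Agent.Lib.ConjFunctorBasic
import Cfsg.Agent.Lib.ConjFunctorControl

set_option autoImplicit false
open Cfsg

namespace Cfsg.Agent.S1967

/-- Let p be a prime, G a finite group with Sylow p-subgroup S and W a conjugacy functor for p on G. Then W controls strong fusion in G if and only if, whenever T ≤ S and g ∈ G satisfy gTg⁻¹ ≤ S, one can write g = n c with n ∈ N_G(W(S)) and c ∈ C_G(T). -/
theorem result {G : Type*} [Group G] [Finite G] {p : ℕ} [Fact p.Prime] (S : Sylow p G) (W : Subgroup G → Subgroup G) (hW : Cfsg.IsConjugacyFunctor p W) : Cfsg.ControlsStrongFusionIn p W ⊤ ↔ ∀ (T : Subgroup G) (g : G), T ≤ (S : Subgroup G) → T.map (MulAut.conj g).toMonoidHom ≤ (S : Subgroup G) → ∃ n ∈ Subgroup.normalizer ((W (S : Subgroup G) : Subgroup G) : Set G), ∃ c ∈ Subgroup.centralizer (T : Set G), g = n * c := by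
  rw [Cfsg.Agent.ConjFunctorControl.controls_iff_singleton]
  have h𝓦 : ∀ W' ∈ ({W} : Set (Subgroup G → Subgroup G)), Cfsg.IsConjugacyFunctor p W' := by simpa using hW
  constructor
  · intro h T g hT hgT
    obtain ⟨c, hc, he⟩ := Cfsg.Agent.ConjFunctorControl.reach_of_controls h𝓦 h (Cfsg.Agent.ConjFunctorBasic.isSylowIn_top S) T hT g (Subgroup.mem_top g) hgT
    refine ⟨c, ?_, c⁻¹ * g, Subgroup.mem_centralizer_iff.mpr fun y hy => ?_, by group⟩
    · clear he
      induction hc with
      | refl => exact one_mem _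
      | @tail b c' _ hb ih =>
        obtain ⟨W', hW', hm⟩ := hb.1
        rw [Set.mem_singleton_iff.mp hW'] at hm
        simpa using mul_mem hm.2 ih
    · calc y * (c⁻¹ * g) = c⁻¹ * (c * y * c⁻¹) * g := by group
        _ = c⁻¹ * (g * y * g⁻¹) * g := by rw [he y hy]
        _ = c⁻¹ * g * y := by group
  · intro h
    rw [Cfsg.Agent.ConjFunctorControl.famControls_iff]
    refine ⟨(S : Subgroup G), Cfsg.Agent.ConjFunctorBasic.isSylowIn_top S, fun Q hQ g _ hg => ?_⟩
    obtain ⟨n, hn, c, hc, rfl⟩ := h Q g hQ hg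
    have e : ∀ q ∈ Q, n * q * n⁻¹ = n * c * q * (n * c)⁻¹ := fun q hq => by
      calc n * q * n⁻¹ = n * (q * c * c⁻¹) * n⁻¹ := by group
        _ = n * (c * q * c⁻¹) * n⁻¹ := by rw [Subgroup.mem_centralizer_iff.mp hc q hq]
        _ = n * c * q * (n * c)⁻¹ := by group
    exact (Cfsg.Agent.ConjFunctorControl.reach_single (Set.mem_singleton W) ⟨Subgroup.mem_top n, hn⟩ hQ
      ((Cfsg.Agent.ConjFunctorControl.cmap_congr e).le.trans hg)).congr e

end Cfsg.Agent.S1967
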