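import Cfsg.Statements.S1968
import Mathlib
import Cfsg.Agent.Lib.ConjFunctorBasic
import Cfsg.Agent.Lib.ConjFunctorControl

set_option autoImplicit false
open Cfsg

namespace Cfsg.Agent.S1968

/-- Let p be a prime, G a finite group with Sylow p-subgroup S and W a conjugacy functor for p on G with Z(P) ≤ W(P) for every p-subgroup P. Let A be a subgroup of Z(S) normalized by N_G(W(S)) that is not weakly closed in S with respect to G. Then there is a subgroup T of S, well placed in S with respect to W, such that: A ≤ T; N_G(W(N_S(T))) normalizes A; N_S(T) is a Sylow p-subgroup of N_G(T); A ≤ Z(N_S(T)); and A is not weakly closed in N_S(T) with respect to N_G(T), that is, some N_G(T)-conjugate of A other than A lies in N_S(T). -/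
theorem result {G : Type*} [Group G] [Finite G] {p : ℕ} [Fact p.Prime] (S : Sylow p G) (W : Subgroup G → Subgroup G) (hW : Cfsg.IsConjugacyFunctor p W) (hWZ : ∀ P : Subgroup G, IsPGroup p ↥P → P ⊓ Subgroup.centralizer (P : Set G) ≤ W P) (A : Subgroup G) (hAZ : A ≤ (S : Subgroup G) ⊓ Subgroup.centralizer ((S : Subgroup G) : Set G)) (hAN : Subgroup.normalizer ((W (S : Subgroup G) : Subgroup G) : Set G) ≤ Subgroup.normalizer ((A : Subgroup G) : Set G)) (hnwc : ¬ Cfsg.IsWeaklyClosed A (S : Subgroup G)) : ∃ T : Subgroup G, Cfsg.IsWellPlaced p W (S : Subgroup G) T ∧ A ≤ T ∧ Subgroup.normalizer ((W ((S : Subgroup G) ⊓ Subgroup.normalizer ((T : Subgroup G) : Set G)) : Subgroup G) : Set G) ≤ Subgroup.normalizer ((A : Subgroup G) : Set G) ∧ ¬ p ∣ ((S : Subgroup G) ⊓ Subgroup.normalizer ((T : Subgroup G) : Set G)).relIndex (Subgroup.normalizer ((T : Subgroup G) : Set G)) ∧ A ≤ Subgroup.centralizer (((S : Subgroup G) ⊓ Subgroup.normalizer ((T : Subgroup G) : Set G) : Subgroup G)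 : Set G) ∧ ∃ g ∈ Subgroup.normalizer ((T : Subgroup G) : Set G), A.map (MulAut.conj g).toMonoidHom ≤ (S : Subgroup G) ⊓ Subgroup.normalizer ((T : Subgroup G) : Set G) ∧ A.map (MulAut.conj g).toMonoidHom ≠ A := by
  classical
  simp only [Cfsg.IsWeaklyClosed, not_and, not_forall] at hnwc
  have hAS : A ≤ (S : Subgroup G) := hAZ.trans inf_le_left
  obtain ⟨g, hg, hne⟩ := hnwc hAS
  -- some well placed subgroup containing `A` has normaliser outside `N(A)`
  have hex : ∃ T, Cfsg.IsWellPlaced p W (S : Subgroup G) T ∧ A ≤ T ∧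
      ¬ Subgroup.normalizer ((T : Subgroup G) : Set G) ≤ Subgroup.normalizer ((A : Subgroup G) : Set G) := by
    by_contra hcon
    push Not at hcon
    have hch := Cfsg.Agent.ConjFunctorControl.wellPlaced_family S hW A hAS g hg
    apply hne
    suffices ∀ c, Relation.ReflTransGen (Cfsg.Agent.ConjFunctorControl.FamStep
        {T : Subgroup G | Cfsg.IsWellPlaced p W (S : Subgroup G) T} A) 1 c →
        Cfsg.Agent.ConjFunctorBasic.cmap c⁻¹ A = A by
      have h1 := this _ hch
      rwa [inv_inv] at h1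
    intro c hc
    induction hc with
    | refl => rw [inv_one, Cfsg.Agent.ConjFunctorBasic.cmap_one]
    | @tail b c' _ hb ih =>
      obtain ⟨T, hT, hAT, hm⟩ := hb
      rw [ih] at hAT
      have h2 := Cfsg.Agent.ConjFunctorBasic.mem_normalizer_iff_cmap.mp (hcon T hT hAT (inv_mem hm))
      rw [show c'⁻¹ = (b⁻¹ * c')⁻¹ * b⁻¹ by group, Cfsg.Agent.ConjFunctorBasic.cmap_mul, ih, h2]
  obtain ⟨T, ⟨hT, hAT, hTN⟩, hmax⟩ := Set.Finite.exists_maximalFor
    (fun T : Subgroup G => Nat.card ((S : Subgroup G) ⊓ Subgroup.normalizer ((T : Subgroup G) : Set G) : Subgroup G))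
    {T | Cfsg.IsWellPlaced p W (S : Subgroup G) T ∧ A ≤ T ∧
      ¬ Subgroup.normalizer ((T : Subgroup G) : Set G) ≤ Subgroup.normalizer ((A : Subgroup G) : Set G)}
    (Set.toFinite _) hex
  set R := (S : Subgroup G) ⊓ Subgroup.normalizer ((T : Subgroup G) : Set G) with hR
  have hAR : A ≤ R := hAT.trans (Cfsg.Agent.ConjFunctorBasic.le_normalizer_inf hT.1)
  have hAC : A ≤ Subgroup.centralizer (R : Set G) :=
    hAZ.trans (inf_le_right.trans (Subgroup.centralizer_le inf_le_left))
  have hAW : A ≤ W R :=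
    (le_inf hAR hAC).trans (hWZ R (Cfsg.Agent.ConjFunctorBasic.isPGroup_mono S.isPGroup' inf_le_left))
  have hNW : Subgroup.normalizer ((W R : Subgroup G) : Set G) ≤ Subgroup.normalizer ((A : Subgroup G) : Set G) := by
    by_contra hcon
    obtain ⟨hle, hlt⟩ := Cfsg.Agent.ConjFunctorBasic.inf_normalizer_le_cfun (S := S) hW (R := R) inf_le_left
    by_cases hRS : R = (S : Subgroup G)
    · exact hcon (hRS ▸ hAN)
    · have h1 := hmax ⟨Cfsg.Agent.ConjFunctorBasic.wellPlaced_shift hW hT, hAW, hcon⟩ (Subgroup.card_le_of_le hle)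
      exact (hlt hRS).ne (Subgroup.eq_of_le_of_card_ge hle h1)
  obtain ⟨x, hxT, hxA⟩ := SetLike.not_le_iff_exists.mp hTN
  refine ⟨T, hT, hAT, hNW, hT.2 0, hAC, x, hxT, ?_, fun h => hxA (Cfsg.Agent.ConjFunctorBasic.mem_normalizer_iff_cmap.mpr h)⟩
  exact ((Subgroup.map_mono hAT).trans (Cfsg.Agent.ConjFunctorBasic.mem_normalizer_iff_cmap.mp hxT).le).trans
    (Cfsg.Agent.ConjFunctorBasic.le_normalizer_inf hT.1)

end Cfsg.Agent.S1968
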