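import Cfsg.Statements.S1969
import Mathlib
import Cfsg.Agent.Lib.ConjFunctorMain

set_option autoImplicit false
universe u
open Cfsg

namespace Cfsg.Agent.S1969

/-- Let p be a prime, G a finite group and W an isomorphism-invariant p-group functor (W assigns to every group Q a subgroup W(Q), nontrivial whenever Q is a nontrivial finite p-group, and every isomorphism from a finite p-group Q onto a group R carries W(Q) onto W(R)). Suppose that W(S*) is normal in G* whenever G* = K/R is a section of G with C_{G*}(O_p(G*)) ≤ O_p(G*) and S* is a Sylow p-subgroup of G*. Then W controls strong fusion in every section of G: for every section K/R and every Sylow p-subgroup T of K/R, the subgroup W(T) controls strong fusion in K/R. -/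
theorem result {G : Type u} [Group G] [Finite G] {p : ℕ} [Fact p.Prime] (W : ∀ (Q : Type u) [Group Q], Subgroup Q) (hW : Cfsg.IsCharPFunctor.{u} p W) (hloc : ∀ (K R : Subgroup G) [hR : (R.subgroupOf K).Normal], Subgroup.centralizer ((Cfsg.pCore p (↥K ⧸ R.subgroupOf K) : Subgroup (↥K ⧸ R.subgroupOf K)) : Set (↥K ⧸ R.subgroupOf K)) ≤ Cfsg.pCore p (↥K ⧸ R.subgroupOf K) → ∀ T : Sylow p (↥K ⧸ R.subgroupOf K), (Cfsg.inducedFunctor (G := (↥K ⧸ R.subgroupOf K)) W ((T : Subgroup (↥K ⧸ R.subgroupOf K)))).Normal) : ∀ (K R : Subgroup G) [hR : (R.subgroupOf K).Normal], ∀ T : Sylow p (↥K ⧸ R.subgroupOf K), Cfsg.ControlsStrongFusion p (Cfsg.inducedFunctor (G := (↥K ⧸ R.subgroupOf K)) W ((T : Subgroup (↥K ⧸ R.subgroupOf K)))) := by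
  intro K R hR T
  set Q := ↥K ⧸ R.subgroupOf K
  have hinv : Cfsg.Involves Q G := ⟨K, R, hR, ⟨MulEquiv.refl _⟩⟩
  have h := Cfsg.Agent.ConjFunctorMaster.fusion_master (G := Q) (p := p) (𝓦 := {W}) (by simpa using hW)
    (Set.singleton_nonempty W) fun H _ _ hH hc => by
      obtain ⟨K', R', hR', ⟨e⟩⟩ := Cfsg.Agent.ConjFunctorSection.involves_trans hH hinv
      refine Cfsg.Agent.ConjFunctorSection.controls_top_iso (by simpa using hW) e ?_
      obtain ⟨S⟩ : Nonempty (Sylow p (↥K' ⧸ R'.subgroupOf K')) := inferInstance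
      have hn := hloc K' R' (Cfsg.Agent.ConjFunctorMain.constr_congr e.symm hc) S
      refine Cfsg.Agent.ConjFunctorControl.famControls_iff.mpr ⟨(S : Subgroup _), Cfsg.Agent.ConjFunctorBasic.isSylowIn_top S, fun A hA g _ hgA => ?_⟩
      refine Cfsg.Agent.ConjFunctorControl.reach_single (show Cfsg.inducedFunctor (G := ↥K' ⧸ R'.subgroupOf K') W ∈ Cfsg.Agent.ConjFunctorSection.img {W} (↥K' ⧸ R'.subgroupOf K') from ⟨W, Set.mem_singleton W, rfl⟩) ⟨Subgroup.mem_top g, ?_⟩ hA hgA
      rw [@Subgroup.normalizer_eq_top _ _ _ hn]; exact Subgroup.mem_top g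
  exact ⟨T, Cfsg.Agent.ConjFunctorSection.inducedFunctor_le W _,
    fun A hA => ⟨hA, fun g hg => Cfsg.Agent.ConjFunctorMain.controlsStrongFusion_of_family hW h T A hA g hg⟩⟩

end Cfsg.Agent.S1969
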