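import Cfsg.Statements.S1970
import Mathlib
import Cfsg.Agent.Lib.ConjFunctorCore
import Cfsg.Agent.Lib.ConjFunctorMain

set_option autoImplicit false
universe u
open Cfsg

namespace Cfsg.Agent.S1970

/-- Let p be a prime, G a finite group and W an isomorphism-invariant p-group functor (W assigns to every group Q a subgroup W(Q), nontrivial whenever Q is a nontrivial finite p-group, and every isomorphism from a finite p-group Q onto a group R carries W(Q) onto W(R)). Suppose that for every section G* = K/R of G with C_{G*}(O_p(G*)) ≤ O_p(G*) and every Sylow p-subgroup S* of G*, one has O_p(G*) ∩ (G*)' = O_p(G*) ∩ (N_{G*}(W(S*)))'. Then W controls transfer in every section G* of G: S* ∩ (G*)' = S* ∩ (N_{G*}(W(S*)))' for a Sylow p-subgroup S* of G*. -/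
theorem result {G : Type u} [Group G] [Finite G] {p : ℕ} [Fact p.Prime] (W : ∀ (Q : Type u) [Group Q], Subgroup Q) (hW : Cfsg.IsCharPFunctor.{u} p W) (hloc : ∀ (K R : Subgroup G) [hR : (R.subgroupOf K).Normal], Subgroup.centralizer ((Cfsg.pCore p (↥K ⧸ R.subgroupOf K) : Subgroup (↥K ⧸ R.subgroupOf K)) : Set (↥K ⧸ R.subgroupOf K)) ≤ Cfsg.pCore p (↥K ⧸ R.subgroupOf K) → ∀ T : Sylow p (↥K ⧸ R.subgroupOf K), Cfsg.pCore p (↥K ⧸ R.subgroupOf K) ⊓ commutator (↥K ⧸ R.subgroupOf K) = Cfsg.pCore p (↥K ⧸ R.subgroupOf K) ⊓ ⁅Subgroup.normalizer ((Cfsg.inducedFunctor (G := (↥K ⧸ R.subgroupOf K)) W ((T : Subgroup (↥K ⧸ R.subgroupOf K))) : Subgroup (↥K ⧸ R.subgroupOf K)) : Set (↥K ⧸ R.subgroupOf K)), Subgroup.normalizer ((Cfsg.inducedFunctor (G := (↥K ⧸ R.subgroupOf K)) W ((T : Subgroup (↥K ⧸ R.subgroupOf K))) : Subgroup (↥K ⧸ R.subgroupOf K)) : Set (↥K ⧸ R.subgroupOf K))⁆) : ∀ (K R : Subgroup G) [hR : (R.subgroupOf K).Normal], Cfsg.ControlsTransferIn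 p (Cfsg.inducedFunctor (G := (↥K ⧸ R.subgroupOf K)) W) ⊤ := by
  intro K R hR
  rw [Cfsg.Agent.ConjFunctorTransfer.controlsTransfer_iff_singleton]
  have h := Cfsg.Agent.ConjFunctorCore.transfer_core_master (G := ↥K ⧸ R.subgroupOf K) (p := p) (𝓦 := {W}) (by simpa using hW)
    (Set.singleton_nonempty W) fun H _ _ hH hc hM S => ?_
  · simpa only [Cfsg.Agent.ConjFunctorSection.img, Set.image_singleton] using h
  obtain ⟨K', R', hR', ⟨e⟩⟩ := Cfsg.Agent.ConjFunctorSection.involves_trans hH (⟨K, R, hR, ⟨MulEquiv.refl _⟩⟩ : Cfsg.Involves (↥K ⧸ R.subgroupOf K) G)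
  have hc' := Cfsg.Agent.ConjFunctorMain.constr_congr e.symm hc
  set T : Sylow p (↥K' ⧸ R'.subgroupOf K') := S.mapSurjective (f := e.symm.toMonoidHom) e.symm.surjective
  have hT : (T : Subgroup (↥K' ⧸ R'.subgroupOf K')).map e.toMonoidHom = (S : Subgroup H) := by
    show ((S : Subgroup H).map e.symm.toMonoidHom).map e.toMonoidHom = _
    rw [Subgroup.map_map]
    ext x; simp
  have h0 := hloc K' R' hc' T
  have h1 : Cfsg.pCore p (↥K' ⧸ R'.subgroupOf K') ⊓ ⁅(⊤ : Subgroup (↥K' ⧸ R'.subgroupOf K')), ⊤⁆ ≤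
      Cfsg.Agent.ConjFunctorTransfer.tgt (Cfsg.Agent.ConjFunctorSection.img {W} (↥K' ⧸ R'.subgroupOf K')) (T : Subgroup (↥K' ⧸ R'.subgroupOf K')) ⊤ := by
    rw [← _root_.commutator_def, h0]
    refine le_trans ?_ (Cfsg.Agent.ConjFunctorTransfer.le_tgt (W := Cfsg.inducedFunctor (G := ↥K' ⧸ R'.subgroupOf K') W) ⟨W, rfl, rfl⟩)
    rw [top_inf_eq]
    exact inf_le_inf_right _ ((Cfsg.Agent.HallCore.isPGroup_pCore p _).le_sylow_of_normal T)
  have h2 := Subgroup.map_mono (f := e.toMonoidHom) h1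
  rw [Subgroup.map_inf _ _ _ e.injective, Subgroup.map_commutator,
    Cfsg.Agent.HallCore.map_equiv_pCore, Subgroup.map_top_of_surjective _ e.surjective] at h2
  refine h2.trans ((Cfsg.Agent.ConjFunctorSection.map_tgt_le (by simpa using hW) e.toMonoidHom e.injective T.isPGroup').trans ?_)
  rw [MonoidHom.range_eq_top.mpr e.surjective, hT]

end Cfsg.Agent.S1970
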