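import Cfsg.Statements.S1972
import Mathlib
import Cfsg.Agent.Lib.ConjFunctorCore
import Cfsg.Agent.Lib.ConjFunctorMain

set_option autoImplicit false
universe u
open Cfsg

namespace Cfsg.Agent.S1972

/-- Let p be a prime, G a finite group and W an isomorphism-invariant p-group functor (W assigns to every group Q a subgroup W(Q), nontrivial whenever Q is a nontrivial finite p-group, and every isomorphism from a finite p-group Q onto a group R carries W(Q) onto W(R)). Suppose that whenever G* = K/R is a section of G with C_{G*}(O_p(G*)) ≤ O_p(G*) and S* is a Sylow p-subgroup of G* with W(S*) not normal in G*, there is an element g of S* outside O_p(G*) such that [X, g, …, g] ≤ Y with p − 1 entries g, for every chief factor X/Y of G* with X ≤ O_p(G*). Then W controls transfer in every section of G. -/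
theorem result {G : Type u} [Group G] [Finite G] {p : ℕ} [Fact p.Prime] (W : ∀ (Q : Type u) [Group Q], Subgroup Q) (hW : Cfsg.IsCharPFunctor.{u} p W) (hloc : ∀ (K R : Subgroup G) [hR : (R.subgroupOf K).Normal], Subgroup.centralizer ((Cfsg.pCore p (↥K ⧸ R.subgroupOf K) : Subgroup (↥K ⧸ R.subgroupOf K)) : Set (↥K ⧸ R.subgroupOf K)) ≤ Cfsg.pCore p (↥K ⧸ R.subgroupOf K) → ∀ T : Sylow p (↥K ⧸ R.subgroupOf K), ¬ (Cfsg.inducedFunctor (G := (↥K ⧸ R.subgroupOf K)) W ((T : Subgroup (↥K ⧸ R.subgroupOf K)))).Normal → ∃ g : (↥K ⧸ R.subgroupOf K), g ∈ (T : Subgroup (↥K ⧸ R.subgroupOf K)) ∧ g ∉ Cfsg.pCore p (↥K ⧸ R.subgroupOf K) ∧ ∀ U V : Subgroup (↥K ⧸ R.subgroupOf K), Cfsg.IsChiefFactor U V → U ≤ Cfsg.pCore p (↥K ⧸ R.subgroupOf K) → Cfsg.iterCommutator U (Subgroup.zpowers g) (p - 1) ≤ V) : ∀ (K R : Subgroup G) [hR : (R.subgroupOf K).Normal], Cfsg.ControlsTransferIn p (Cfsg.inducedFunctor (G := (↥K ⧸ R.subgroupOf K)) W) ⊤ := by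
  intro K R hR
  rw [Cfsg.Agent.ConjFunctorTransfer.controlsTransfer_iff_singleton]
  have h := Cfsg.Agent.ConjFunctorCore.transfer_core_master (G := ↥K ⧸ R.subgroupOf K) (p := p) (𝓦 := {W}) (by simpa using hW)
    (Set.singleton_nonempty W) fun H _ _ hH hc hM S => ?_
  · simpa only [Cfsg.Agent.ConjFunctorSection.img, Set.image_singleton] using h
  obtain ⟨K', R', hR', ⟨e⟩⟩ := Cfsg.Agent.ConjFunctorSection.involves_trans hH (⟨K, R, hR, ⟨MulEquiv.refl _⟩⟩ : Cfsg.Involves (↥K ⧸ R.subgroupOf K) G)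
  have hc' := Cfsg.Agent.ConjFunctorMain.constr_congr e.symm hc
  set T : Sylow p (↥K' ⧸ R'.subgroupOf K') := S.mapSurjective (f := e.symm.toMonoidHom) e.symm.surjective
  have hT : (T : Subgroup (↥K' ⧸ R'.subgroupOf K')).map e.toMonoidHom = (S : Subgroup H) := by
    show ((S : Subgroup H).map e.symm.toMonoidHom).map e.toMonoidHom = _
    rw [Subgroup.map_map]
    ext x; simp
  by_cases hn : (Cfsg.inducedFunctor (G := ↥K' ⧸ R'.subgroupOf K') W (T : Subgroup _)).Normal
  · refine le_trans ?_ (Cfsg.Agent.ConjFunctorTransfer.le_tgt (W := Cfsg.inducedFunctor (G := H) W) ⟨W, rfl, rfl⟩)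
    have hnH : (Cfsg.inducedFunctor (G := H) W (S : Subgroup H)).Normal := by
      rw [← hT, Cfsg.Agent.ConjFunctorSection.inducedFunctor_map hW e.toMonoidHom T.isPGroup'
        (by rw [(MonoidHom.ker_eq_bot_iff _).mpr e.injective, inf_bot_eq])]
      exact Subgroup.Normal.map hn _ e.surjective
    simp only [@Subgroup.normalizer_eq_top _ _ _ hnH, inf_top_eq]
    exact inf_le_inf_right _ ((Cfsg.Agent.HallCore.isPGroup_pCore p H).le_sylow_of_normal S)
  · obtain ⟨g, hgT, hgZ, hg⟩ := hloc K' R' hc' T hn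
    refine Cfsg.Agent.ConjFunctorCore.pCore_inf_commutator_le (by simpa using hW) S hM (g := e g) ?_ ?_
      (Cfsg.Agent.ConjFunctorCore.engelOnCore_congr e hg)
    · rw [← hT]; exact Subgroup.mem_map_of_mem e.toMonoidHom hgT
    · intro hmem
      rw [← Cfsg.Agent.HallCore.map_equiv_pCore e] at hmem
      obtain ⟨g', hg', he⟩ := hmem
      exact hgZ (e.injective he ▸ hg')

end Cfsg.Agent.S1972
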