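import Cfsg.Statements.S1981
import Mathlib
import Cfsg.Agent.Lib.ConjFunctorKInf

set_option autoImplicit false
open Cfsg

namespace Cfsg.Agent.S1981

/-- Let P be a finite p-group generated by its abelian normal subgroups. Then both K-infinity subgroups of P equal P. -/
theorem result {P : Type*} [Group P] [Finite P] {p : ℕ} [Fact p.Prime] (hP : IsPGroup p P) (hgen : ⨆ A ∈ {A : Subgroup P | A.Normal ∧ IsMulCommutative ↥A}, A = ⊤) : Cfsg.kInfLower P = ⊤ ∧ Cfsg.kInfUpper P = ⊤ := by
  have key : ∀ K : Subgroup P, (∀ A : Subgroup P, A.Normal → IsMulCommutative ↥A → A ≤ K) → K = ⊤ :=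
    fun K h => top_le_iff.mp (hgen.ge.trans (iSup₂_le fun A hA => h A hA.1 hA.2))
  refine ⟨key _ fun A hn hc => le_trans (le_sSup (Cfsg.Agent.ConjFunctorKInf.normal_abelian_mem_lower (hn := hn) hc _))
    (le_iSup (Cfsg.kSeqEven P) 0), key _ fun A hn hc => le_iInf fun n => ?_⟩
  cases n with
  | zero => exact le_top
  | succ n => exact le_sSup (Cfsg.Agent.ConjFunctorKInf.normal_abelian_mem_upper (hn := hn) hc _)

end Cfsg.Agent.S1981
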