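import Cfsg.Statements.S1985
import Mathlib
import Cfsg.Agent.Lib.ConjFunctorKWeak

set_option autoImplicit false
universe u
open Cfsg

namespace Cfsg.Agent.S1985

/-- Let p be an odd prime and G a finite group. Then the lower K-infinity subgroup controls weak closure of elements in G: the lower K-infinity subgroup of every p-subgroup P of G contains Z(P), and for some (equivalently, every) Sylow p-subgroup S of G, with K the lower K-infinity subgroup of S, every element of S commuting with all of N_G(K) is weakly closed in S with respect to G (every G-conjugate of it lying in S equals it). -/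
theorem result {G : Type u} [Group G] [Finite G] {p : ℕ} [Fact p.Prime] (hp : p ≠ 2) : Cfsg.ControlsWeakClosureOfElementsIn p (Cfsg.inducedFunctor (G := G) Cfsg.kInfLower) ⊤ := by
  refine ConjFunctorWeakClosure.weakClosure_engel
    (ConjFunctorSection.isConjugacyFunctor_induced ConjFunctorKMain.isCharPFunctor_kInfLower)
    (fun P hP => ConjFunctorKWeak.center_le_kInfLower hP) (fun H T h1 h2 h3 hn => ?_) ⊤
  obtain ⟨g, hgT, hgQ, hq⟩ := ConjFunctorKWeak.exists_witness_local ⟨h1, h2, h3⟩ hn
  refine ⟨g, hgT, fun ⟨y, hy, he⟩ => hgQ (by rwa [← Subtype.ext he]), fun U V hUV hU => ?_⟩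
  haveI := hUV.2.1
  have hU' : U ≤ Cfsg.pCore p H ⊓ Subgroup.centralizer ((Cfsg.pCore p H : Subgroup H) : Set H) := by
    rw [← Subgroup.map_le_map_iff_of_injective H.subtype_injective]
    exact hU.trans (ConjFunctorKInf.map_cen_subtype _).ge
  rw [← ConjFunctorWeakClosure.iter_map_subtype]
  refine Subgroup.map_mono ?_
  have h5 : 3 ≤ p := by
    have := (Fact.out : p.Prime).two_le
    omega
  rw [show p - 1 = 2 + (p - 3) by omega]
  refine (ConjFunctorKWitness.iter_anti (ConjFunctorKWitness.le_normalizer_of_normal _ _) 2 (p - 3)).trans ?_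
  exact ((ConjFunctorKWitness.iter_mono hU' le_rfl 2).trans (le_of_eq hq)).trans bot_le

end Cfsg.Agent.S1985
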