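import Cfsg.Statements.S1990
import Cfsg.Agent.Lib.TransferQuadratic
import Cfsg.Agent.Lib.TransferAlperin
import Cfsg.Agent.Lib.CoprimeAction
import Cfsg.Agent.Lib.CoprimeSZ
import Cfsg.Agent.Lib.HallSolvable

set_option autoImplicit false
universe u
open Cfsg

namespace Cfsg.Agent.S1990

open Subgroup Cfsg.Agent.TransferPResidual Cfsg.Agent.TransferTate

universe v

/-- The functor seen inside a group. -/
abbrev WW (W : ∀ (Q : Type u) [Group Q], Subgroup Q) {X : Type u} [Group X] (T : Subgroup X) :
    Subgroup X :=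
  Cfsg.inducedFunctor (G := X) W T

/-- `X` is a section of `G`. -/
def Sec (G : Type u) [Group G] (X : Type u) [Group X] : Prop :=
  ∃ (K : Subgroup G) (f : K →* X), Function.Surjective f

theorem sec_subgroup {G X : Type u} [Group G] [Group X] (h : Sec G X) (Y : Subgroup X) :
    Sec G Y := by
  obtain ⟨K, f, hf⟩ := h
  refine ⟨(Y.comap f).map K.subtype,
    (f.subgroupComap Y).comp (equivMapOfInjective _ K.subtype K.subtype_injective).symm.toMonoidHom,
    ?_⟩
  intro y
  obtain ⟨k, hk⟩ := hf y
  exact ⟨equivMapOfInjective _ K.subtype K.subtype_injective ⟨k, by rw [mem_comap, hk]; exact y.2⟩,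
    by simp only [MonoidHom.coe_comp, Function.comp_apply, MulEquiv.coe_toMonoidHom,
        MulEquiv.symm_apply_apply]; exact Subtype.ext hk⟩

theorem sec_of_surjective {G X Z : Type u} [Group G] [Group X] [Group Z] (h : Sec G X)
    (g : X →* Z) (hg : Function.Surjective g) : Sec G Z := by
  obtain ⟨K, f, hf⟩ := h
  exact ⟨K, g.comp f, hg.comp hf⟩

variable {p : ℕ} {W : ∀ (Q : Type u) [Group Q], Subgroup Q}

theorem WW_le {X : Type u} [Group X] (T : Subgroup X) : WW W T ≤ T := map_subtype_le _

theorem WW_ne_bot (hW : Cfsg.IsCharPFunctor.{u} p W) {X : Type u} [Group X] [Finite X]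
    {T : Subgroup X} (hT : IsPGroup p T) (hne : T ≠ ⊥) : WW W T ≠ ⊥ := fun h =>
  hW.1 T hT ((nontrivial_iff_ne_bot T).mpr hne)
    ((map_eq_bot_iff_of_injective _ T.subtype_injective).mp h)

theorem map_WW (hW : Cfsg.IsCharPFunctor.{u} p W) {X Z : Type u} [Group X] [Group Z] [Finite X]
    (f : X →* Z) {T : Subgroup X} (hT : IsPGroup p T)
    (hinj : ∀ x ∈ T, f x = 1 → x = 1) : (WW W T).map f = WW W (T.map f) := by
  have hbij : Function.Bijective (f.subgroupMap T) := by
    refine ⟨?_, f.subgroupMap_surjective T⟩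
    rw [injective_iff_map_eq_one]
    exact fun x hx => Subtype.ext (hinj x x.2 (congrArg Subtype.val hx))
  have h1 := hW.2 T (T.map f) hT (MulEquiv.ofBijective _ hbij)
  change ((W T).map T.subtype).map f = (W (T.map f)).map (T.map f).subtype
  rw [← h1, Subgroup.map_map, Subgroup.map_map]
  rfl

theorem normalizer_le_WW (hW : Cfsg.IsCharPFunctor.{u} p W) {X : Type u} [Group X] [Finite X]
    {T : Subgroup X} (hT : IsPGroup p T) :
    normalizer (T : Set X) ≤ normalizer (WW W T : Set X) := by
  intro n hn
  refine TransferAlperin.mem_normalizer_of_cj_eq ?_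
  have h1 := map_WW hW (MulAut.conj n).toMonoidHom hT
    (fun x _ h => (MulAut.conj n).injective (h.trans (map_one _).symm))
  rwa [show T.map (MulAut.conj n).toMonoidHom = T from TransferAlperin.cj_eq_self hn] at h1

theorem sylow_le_normalizer_WW (hW : Cfsg.IsCharPFunctor.{u} p W) {X : Type u} [Group X] [Finite X]
    (T : Sylow p X) : (T : Subgroup X) ≤ normalizer (WW W (T : Subgroup X) : Set X) :=
  le_normalizer.trans (normalizer_le_WW hW T.isPGroup')

/-- A normal `p'`-kernel does not affect normal `p`-complements. -/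
theorem hnpc_of_quotient [Fact p.Prime] {X : Type v} [Group X] [Finite X] (R : Subgroup X)
    [R.Normal] (hR : ¬ p ∣ Nat.card R) (h : Cfsg.HasNormalPComplement p (X ⧸ R)) :
    Cfsg.HasNormalPComplement p X := by
  refine hasNormalPComplement_of_normal
    (N := (Cfsg.pResidual p (X ⧸ R)).comap (QuotientGroup.mk' R)) ?_ ?_
  · obtain ⟨k, hk⟩ := index_pResidual (G := X ⧸ R) (p := p)
    refine IsPGroup.of_card (n := k) ?_
    exact (index_comap_of_surjective _ (QuotientGroup.mk'_surjective R)).trans hk
  · rw [← HallCore.card_comap_mk']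
    intro hd
    rcases (Fact.out : p.Prime).dvd_mul.mp hd with h1 | h1
    · exact hasNormalPComplement_iff_not_dvd.mp h h1
    · exact hR h1

theorem main {G : Type u} [Group G] [Finite G] [hp : Fact p.Prime] (hp2 : p ≠ 2)
    (hW : Cfsg.IsCharPFunctor.{u} p W)
    (hctl : ∀ (K R : Subgroup G) [hR : (R.subgroupOf K).Normal],
      (∀ (K' R' : Subgroup (↥K ⧸ R.subgroupOf K)) [hR' : (R'.subgroupOf K').Normal],
        Cfsg.IsNormalizerPStable p (↥K' ⧸ R'.subgroupOf K')) →
      ∀ T : Sylow p (↥K ⧸ R.subgroupOf K), Cfsg.ControlsStrongFusion p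
        (Cfsg.inducedFunctor (G := (↥K ⧸ R.subgroupOf K)) W (T : Subgroup (↥K ⧸ R.subgroupOf K)))) :
    ∀ (n : ℕ) (X : Type u) [Group X] [Finite X], Nat.card X = n → Sec G X → ∀ T : Sylow p X,
      Cfsg.HasNormalPComplement p (normalizer (WW W (T : Subgroup X) : Set X)) →
      Cfsg.HasNormalPComplement p X := by
  intro n
  induction n using Nat.strong_induction_on with
  | _ n ih =>
  intro X _ _ hn hsec T hT
  by_contra hX
  -- proper subgroups containing a Sylow subgroup `T` inherit
  have hsub : ∀ (Y : Subgroup X), Y ≠ ⊤ → (T : Subgroup X) ≤ Y →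
      Cfsg.HasNormalPComplement p Y := by
    intro Y hY hTY
    refine ih (Nat.card Y) ?_ Y rfl (sec_subgroup hsec Y) (T.subtype hTY) ?_
    · rw [← hn]
      exact lt_of_le_of_ne (Finite.card_subtype_le _) fun h => hY (eq_top_of_card_eq Y h)
    · refine hasNormalPComplement_of_injective
        ((Y.subtype.comp (Subgroup.subtype _)).codRestrict _ ?_) ?_ hT
      · intro y
        have h1 := le_normalizer_map Y.subtype (mem_map_of_mem Y.subtype y.2)
        rwa [map_WW hW Y.subtype (T.subtype hTY).isPGroup'
          (fun x _ h => Subtype.ext h), map_subtype_sylow] at h1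
      · intro a b h
        exact Subtype.ext (Subtype.ext (congrArg Subtype.val h :))
  -- `O_{p'}(X) = 1`
  haveI hRn := HallCore.pPrimeCore_normal p X
  have hR : Cfsg.pPrimeCore p X = ⊥ := by
    by_contra hne
    set R := Cfsg.pPrimeCore p X with hRdef
    have hRp : ¬ p ∣ Nat.card R := HallCore.not_dvd_card_pPrimeCore p X
    refine hX (hnpc_of_quotient R hRp ?_)
    let π := QuotientGroup.mk' R
    have hπ : Function.Surjective π := QuotientGroup.mk'_surjective R
    refine ih (Nat.card (X ⧸ R)) ?_ _ rfl (sec_of_surjective hsec π hπ) (T.mapSurjective hπ) ?_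
    · rw [← hn, ← R.index_mul_card]
      exact lt_mul_of_one_lt_right (Nat.pos_of_ne_zero index_ne_zero_of_finite)
        (Finite.one_lt_card_iff_nontrivial.mpr ((nontrivial_iff_ne_bot R).mpr hne))
    · set A := WW W (T : Subgroup X) with hA
      have hAp : IsPGroup p A := T.isPGroup'.to_le (WW_le _)
      have hinj : ∀ x ∈ (T : Subgroup X), π x = 1 → x = 1 := by
        intro x hxT hx
        obtain ⟨k, hk⟩ := IsPGroup.iff_card.mp T.isPGroup'
        have h2 : x ∈ (T : Subgroup X) ⊓ R := ⟨hxT, (QuotientGroup.eq_one_iff x).mp hx⟩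
        rwa [(disjoint_of_coprime_natCard (hk ▸
          (((Nat.Prime.coprime_iff_not_dvd hp.out).mpr hRp).pow_left k))).eq_bot, mem_bot] at h2
      have hAm : WW W ((T.mapSurjective hπ : Sylow p (X ⧸ R)) : Subgroup (X ⧸ R)) = A.map π := by
        rw [Sylow.coe_mapSurjective]
        exact (map_WW hW π T.isPGroup' hinj).symm
      rw [hAm]
      refine hasNormalPComplement_of_surjective
        ((π.comp (Subgroup.subtype (normalizer (A : Set X)))).codRestrict
          (normalizer ((A.map π : Subgroup (X ⧸ R)) : Set (X ⧸ R)))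
          (fun y => le_normalizer_map π (mem_map_of_mem π y.2))) ?_ hT
      rintro ⟨z, hz⟩
      obtain ⟨y, rfl⟩ := hπ z
      have hle : A.map (MulAut.conj y).toMonoidHom ≤ R ⊔ A := by
        rintro _ ⟨a, ha, rfl⟩
        obtain ⟨b, hb, hbe⟩ := (mem_normalizer_iff.mp hz (π a)).mp ⟨a, ha, rfl⟩
        rw [← map_inv, ← map_mul, ← map_mul] at hbe
        obtain ⟨r, hr, hre⟩ := (QuotientGroup.mk'_eq_mk' R).mp hbe
        change y * a * y⁻¹ ∈ R ⊔ A
        rw [← hre]
        exact mul_mem (mem_sup_right hb) (mem_sup_left hr)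
      have hcop : (Nat.card A).Coprime (Nat.card R) := by
        obtain ⟨k, hk⟩ := IsPGroup.iff_card.mp hAp
        rw [hk]
        exact ((Nat.Prime.coprime_iff_not_dvd hp.out).mpr hRp).pow_left k
      have hsA : Group.IsSolvable A := by
        haveI := hAp.isNilpotent
        infer_instance
      obtain ⟨r, hr, he⟩ := CoprimeSZ.exists_conj_of_card_eq (N := R)
        (le_normalizer_of_normal : A ≤ normalizer (R : Set X)) hcop (Or.inl hsA) hle
        (card_map_of_injective (MulAut.conj y).injective)
      rw [CoprimeSZ.conj_smul_eq_map] at he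
      refine ⟨⟨r⁻¹ * y, TransferAlperin.mem_normalizer_of_cj_eq ?_⟩, Subtype.ext ?_⟩
      · rw [TransferAlperin.cj_mul]
        change TransferAlperin.cj r⁻¹ (A.map (MulAut.conj y).toMonoidHom) = A
        rw [← he]
        exact TransferAlperin.cj_inv_cj r A
      · change π (r⁻¹ * y) = π y
        rw [map_mul, map_inv, show π r = 1 from (QuotientGroup.eq_one_iff r).mpr hr, inv_one, one_mul]
  -- some `p`-local subgroup fails; choose one with largest Sylow subgroup
  obtain ⟨Q₀, hQ₀⟩ : ∃ Q : Subgroup X, IsPGroup p Q ∧ Q ≠ ⊥ ∧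
      ¬ Cfsg.HasNormalPComplement p (normalizer (Q : Set X)) := by
    by_contra hno
    push Not at hno
    exact hX (TransferAlperin.hasNormalPComplement_iff_normalizer.mpr hno)
  obtain ⟨Q, ⟨hQp, hQ1, hQN⟩, hQmax⟩ := Set.exists_max_image
    {Q : Subgroup X | IsPGroup p Q ∧ Q ≠ ⊥ ∧ ¬ Cfsg.HasNormalPComplement p (normalizer (Q : Set X))}
    (fun Q => p ^ (Nat.card (normalizer (Q : Set X))).factorization p) (Set.toFinite _) ⟨Q₀, hQ₀⟩
  have hbound : ∀ (N S : Subgroup X), S ≤ N → IsPGroup p S →
      Nat.card S ≤ p ^ (Nat.card N).factorization p := by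
    intro N S hS hSp
    obtain ⟨P, hP⟩ := (hSp.comap_subtype (K := N)).exists_le_sylow
    rw [← P.card_eq_multiplicity, ← Nat.card_congr (subgroupOfEquivOfLe hS).toEquiv]
    exact card_le_of_le hP
  have hQn : Q.Normal := by
    rw [← normalizer_eq_top_iff]
    by_contra hne
    set N := normalizer (Q : Set X) with hN
    obtain ⟨TN⟩ : Nonempty (Sylow p N) := inferInstance
    set T1 := (TN : Subgroup N).map N.subtype with hT1
    have hT1p : IsPGroup p T1 := TN.isPGroup'.map _
    have hT10 : T1 ≠ ⊥ := by
      intro h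
      refine hQN (hasNormalPComplement_of_not_dvd fun hd => ?_)
      refine TN.ne_bot_of_dvd_card hd ?_
      exact (map_eq_bot_iff_of_injective _ N.subtype_injective).mp h
    have hno : ¬ Cfsg.HasNormalPComplement p (normalizer (WW W T1 : Set X)) := by
      intro hc
      refine hQN (ih (Nat.card N) ?_ N rfl (sec_subgroup hsec N) TN ?_)
      · rw [← hn]
        exact lt_of_le_of_ne (Finite.card_subtype_le _) fun h => hne (eq_top_of_card_eq N h)
      · refine hasNormalPComplement_of_injective
          ((N.subtype.comp (Subgroup.subtype _)).codRestrict _ ?_) ?_ hc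
        · intro y
          have h1 := le_normalizer_map N.subtype (mem_map_of_mem N.subtype y.2)
          rwa [map_WW hW N.subtype TN.isPGroup' (fun x _ h => Subtype.ext h)] at h1
        · intro a b h
          exact Subtype.ext (Subtype.ext (congrArg Subtype.val h :))
    obtain ⟨P, hP⟩ := hT1p.exists_le_sylow
    rcases eq_or_lt_of_le hP with he | hlt
    · -- a full Sylow subgroup
      obtain ⟨c, hc⟩ := MulAction.exists_smul_eq X P T
      refine hno ?_
      have h1 : (WW W T1).map (MulAut.conj c).toMonoidHom = WW W (T : Subgroup X) := by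
        rw [map_WW hW _ hT1p (fun x _ h => (MulAut.conj c).injective (h.trans (map_one _).symm)),
          he, ← hc]
        rfl
      have h2 := map_equiv_normalizer_eq (WW W T1) (MulAut.conj c)
      rw [h1] at h2
      refine hasNormalPComplement_of_injective (((MulAut.conj c).toMonoidHom.comp
        (Subgroup.subtype _)).codRestrict _ (fun y => ?_)) ?_ hT
      · rw [← h2]
        exact mem_map_of_mem _ y.2
      · intro a b h
        exact Subtype.ext ((MulAut.conj c).injective (congrArg Subtype.val h :))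
    · have h1 := TransferAlperin.card_lt_card_inf_normalizer P.isPGroup' hlt
      have h2 := hbound (normalizer (WW W T1 : Set X)) ((P : Subgroup X) ⊓ normalizer (T1 : Set X))
        (inf_le_right.trans (normalizer_le_WW hW hT1p)) P.isPGroup'.to_inf_left
      have h3 := hQmax (WW W T1) ⟨hT1p.to_le (WW_le _), WW_ne_bot hW hT1p hT10, hno⟩
      have h4 : Nat.card T1 = p ^ (Nat.card N).factorization p := by
        rw [hT1, card_map_of_injective N.subtype_injective, TN.card_eq_multiplicity]
      omega
  haveI hMn := HallCore.pCore_normal p X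
  set M := Cfsg.pCore p X with hMdef
  have hMp : IsPGroup p M := HallCore.isPGroup_pCore p X
  have hM0 : M ≠ ⊥ := fun h => hQ1 (le_bot_iff.mp (h ▸ HallCore.le_pCore hQp))
  have hMT : M ≤ (T : Subgroup X) := HallCore.pCore_le_sylow T
  have hTM : ¬ (T : Subgroup X) ≤ M := by
    intro h
    have hTn : (T : Subgroup X).Normal := le_antisymm h hMT ▸ hMn
    refine hX ((hasNormalPComplement_congr topEquiv).mp ?_)
    have : normalizer (WW W (T : Subgroup X) : Set X) = ⊤ := top_le_iff.mp
      ((normalizer_eq_top_iff.mpr hTn).ge.trans (normalizer_le_WW hW T.isPGroup'))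
    rwa [this] at hT
  -- the quotient by `M` has a normal `p`-complement
  let π := QuotientGroup.mk' M
  have hπ : Function.Surjective π := QuotientGroup.mk'_surjective M
  have hbar : Cfsg.HasNormalPComplement p (X ⧸ M) := by
    refine ih (Nat.card (X ⧸ M)) ?_ _ rfl (sec_of_surjective hsec π hπ) (T.mapSurjective hπ) ?_
    · rw [← hn, ← M.index_mul_card]
      exact lt_mul_of_one_lt_right (Nat.pos_of_ne_zero index_ne_zero_of_finite)
        (Finite.one_lt_card_iff_nontrivial.mpr ((nontrivial_iff_ne_bot M).mpr hM0))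
    · set A := WW W ((T.mapSurjective hπ : Sylow p (X ⧸ M)) : Subgroup (X ⧸ M)) with hA
      have hTbar : ((T.mapSurjective hπ : Sylow p (X ⧸ M)) : Subgroup (X ⧸ M)) ≠ ⊥ := by
        rw [Sylow.coe_mapSurjective]
        intro h
        rw [Subgroup.map_eq_bot_iff, QuotientGroup.ker_mk'] at h
        exact hTM h
      have hA0 : A ≠ ⊥ := WW_ne_bot hW (T.mapSurjective hπ).isPGroup' hTbar
      have hcomap : (normalizer (A : Set (X ⧸ M))).comap π = normalizer ((A.comap π : Subgroup X) : Set X) :=
        comap_normalizer_eq_of_surjective A hπ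
      have hTle : (T : Subgroup X) ≤ normalizer ((A.comap π : Subgroup X) : Set X) := by
        rw [← hcomap, ← map_le_iff_le_comap, ← Sylow.coe_mapSurjective hπ]
        exact sylow_le_normalizer_WW hW _
      have hproper : normalizer ((A.comap π : Subgroup X) : Set X) ≠ ⊤ := by
        intro h
        have hn' := normalizer_eq_top_iff.mp h
        have hp' : IsPGroup p (A.comap π : Subgroup X) :=
          HallCore.isPGroup_comap_mk' hMp (((T.mapSurjective hπ).isPGroup').to_le (WW_le _))
        haveI := hn'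
        have h1 : A.comap π ≤ M := HallCore.le_pCore hp'
        refine hA0 (le_bot_iff.mp ?_)
        rw [← map_comap_eq_self_of_surjective hπ A]
        refine (map_mono h1).trans (le_of_eq ?_)
        rw [Subgroup.map_eq_bot_iff, QuotientGroup.ker_mk']
      refine hasNormalPComplement_of_surjective
        ((π.comp (Subgroup.subtype (normalizer ((A.comap π : Subgroup X) : Set X)))).codRestrict
          (normalizer (A : Set (X ⧸ M))) (fun y => by
            exact (SetLike.ext_iff.mp hcomap _).mpr y.2)) ?_ (hsub _ hproper hTle)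
      rintro ⟨z, hz⟩
      obtain ⟨y, rfl⟩ := hπ z
      exact ⟨⟨y, hcomap ▸ (show y ∈ (normalizer (A : Set (X ⧸ M))).comap π from hz)⟩, rfl⟩
  set K := Cfsg.pResidual p (X ⧸ M) with hK
  have hKp : ¬ p ∣ Nat.card K := hasNormalPComplement_iff_not_dvd.mp hbar
  -- `C(M) ≤ M`
  have hC : centralizer (M : Set X) ≤ M := by
    refine HallSolvable.centralizer_pCore_le ?_ hR
    refine ⟨3, ![⊥, M, K.comap π, ⊤], rfl, rfl, ?_, ?_, ?_⟩
    · refine Fin.monotone_iff_le_succ.mpr fun i => ?_
      fin_cases i
      · exact bot_le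
      · exact QuotientGroup.le_comap_mk' M K
      · exact le_top
    · intro i
      fin_cases i
      · exact (inferInstance : (⊥ : Subgroup X).Normal)
      · exact hMn
      · exact Normal.comap inferInstance π
      · exact (inferInstance : (⊤ : Subgroup X).Normal)
    · intro i
      fin_cases i
      · left
        obtain ⟨m, hm⟩ := IsPGroup.iff_card.mp hMp
        exact ⟨m, (relIndex_bot_left M).trans hm⟩
      · right
        change (M.relIndex (K.comap π)).Coprime p
        have h1 : M.relIndex (K.comap π) = Nat.card K := by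
          have h2 := relIndex_ker (K.comap π) π
          rwa [QuotientGroup.ker_mk', map_comap_eq_self_of_surjective hπ] at h2
        rw [h1]
        exact ((Nat.Prime.coprime_iff_not_dvd hp.out).mpr hKp).symm
      · left
        obtain ⟨m, hm⟩ := index_pResidual (G := X ⧸ M) (p := p)
        exact ⟨m, (relIndex_top_right _).trans ((index_comap_of_surjective _ hπ).trans hm)⟩
  -- invariant subgroups of `K` are trivial
  set Tb := (T : Subgroup X).map π with hTb
  have hTbp : IsPGroup p Tb := T.isPGroup'.map π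
  have hcopT : (Nat.card Tb).Coprime (Nat.card K) := by
    obtain ⟨k, hk⟩ := IsPGroup.iff_card.mp hTbp
    rw [hk]
    exact ((Nat.Prime.coprime_iff_not_dvd hp.out).mpr hKp).pow_left k
  have hmin : ∀ L : Subgroup (X ⧸ M), L ≤ K → Tb ≤ normalizer (L : Set (X ⧸ M)) → L = ⊥ ∨ L = K := by
    intro L hL hLn
    rcases eq_or_lt_of_le hL with h | h
    · exact Or.inr h
    left
    set X1 := (L ⊔ Tb).comap π with hX1
    have hTX1 : (T : Subgroup X) ≤ X1 := fun x hx => mem_sup_right (mem_map_of_mem π hx)
    have hX1ne : X1 ≠ ⊤ := by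
      intro he
      have h1 : L ⊔ Tb = ⊤ := by
        rw [← map_comap_eq_self_of_surjective hπ (L ⊔ Tb), ← hX1, he,
          map_top_of_surjective π hπ]
      refine h.ne (le_antisymm hL fun k hk => ?_)
      have h2 : k ∈ L ⊔ Tb := h1 ▸ mem_top k
      rw [← SetLike.mem_coe, coe_mul_of_right_le_normalizer_left L Tb hLn] at h2
      obtain ⟨l, hl, t, ht, rfl⟩ := h2
      have ht' : t ∈ K ⊓ Tb := ⟨by
        have := mul_mem (inv_mem (hL hl)) hk
        simpa using this, ht⟩
      rw [(disjoint_of_coprime_natCard hcopT.symm).eq_bot, mem_bot] at ht'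
      simpa [ht'] using hl
    have hX1c := hsub X1 hX1ne hTX1
    haveI : (M.subgroupOf X1).Normal := normal_subgroupOf
    have h3 : (Cfsg.pResidual p X1).map X1.subtype ≤ M := by
      refine le_trans ?_ hC
      rintro _ ⟨x, hx, rfl⟩
      rw [mem_centralizer_iff]
      intro m hm
      have hm' : m ∈ X1 := QuotientGroup.le_comap_mk' M (L ⊔ Tb) hm
      exact congrArg Subtype.val (mem_centralizer_iff.mp
        (le_centralizer_of_normal_pGroup hX1c (Q := M.subgroupOf X1) hMp.comap_subtype hx)
        ⟨m, hm'⟩ (mem_subgroupOf.mpr hm))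
    have h5 : Cfsg.pResidual p X1 = ⊥ := by
      have h6 := hasNormalPComplement_iff_not_dvd.mp hX1c
      refine card_eq_one.mp ?_
      rcases ((hMp.to_le h3)).card_eq_or_dvd with h7 | h7
      · rwa [card_map_of_injective X1.subtype_injective] at h7
      · rw [card_map_of_injective X1.subtype_injective] at h7
        exact absurd h7 h6
    have h8 : IsPGroup p (L ⊔ Tb : Subgroup (X ⧸ M)) := by
      have := (pResidual_eq_bot_iff.mp h5).map π
      rwa [map_comap_eq_self_of_surjective hπ] at this
    rcases (h8.to_le (le_sup_left : L ≤ L ⊔ Tb)).card_eq_or_dvd with h9 | h9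
    · exact card_eq_one.mp h9
    · exact absurd (h9.trans (card_dvd_of_le hL)) hKp
  have hK0 : K ≠ ⊥ := by
    intro h
    have h1 : IsPGroup p X := fun x => by
      obtain ⟨i, hi⟩ := pResidual_eq_bot_iff.mp h (π x)
      obtain ⟨j, hj⟩ := hMp ⟨x ^ p ^ i, (QuotientGroup.eq_one_iff _).mp ((map_pow π x _).trans hi)⟩
      exact ⟨i + j, by rw [pow_add, pow_mul]; exact congrArg Subtype.val hj⟩
    exact hX (hasNormalPComplement_of_isPGroup h1)
  -- `K` is abelian
  have hTK : Tb ≤ normalizer (K : Set (X ⧸ M)) := le_normalizer_of_normal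
  have hcomm : ⁅K, K⁆ = ⊥ := by
    have hq := Nat.minFac_prime (fun h => hK0 (card_eq_one.mp h) : Nat.card K ≠ 1)
    haveI : Fact (Nat.card K).minFac.Prime := ⟨hq⟩
    obtain ⟨P, hP⟩ := CoprimeAction.exists_invariant_sylow hTK hcopT
      (Or.inl (by haveI := hTbp.isNilpotent; infer_instance)) (Nat.card K).minFac
    rcases hmin _ (map_subtype_le _) hP with h | h
    · exact absurd ((map_eq_bot_iff_of_injective _ K.subtype_injective).mp h)
        (P.ne_bot_of_dvd_card (Nat.minFac_dvd _))
    · have hnil : Group.IsNilpotent K := by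
        have htop : (P : Subgroup K) = ⊤ := by
          apply map_injective K.subtype_injective
          rw [h, ← MonoidHom.range_eq_map, range_subtype]
        have h2 := P.isPGroup'
        rw [htop] at h2
        exact (h2.of_equiv topEquiv).isNilpotent
      have hinv : Tb ≤ normalizer ((⁅K, K⁆ : Subgroup (X ⧸ M)) : Set (X ⧸ M)) := le_normalizer_of_normal
      rcases hmin _ (commutator_le_self K) hinv with h2 | h2
      · exact h2
      · exfalso
        obtain ⟨m, hm⟩ : ∃ m, K.lowerCentralSeries m = ⊥ :=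
          (Subgroup.isNilpotent_iff_lowerCentralSeries K).mp hnil
        have : ∀ i, K.lowerCentralSeries i = K := by
          intro i
          induction i with
          | zero => exact Subgroup.lowerCentralSeries_zero _
          | succ i ihi => rw [Subgroup.lowerCentralSeries_succ, ihi, h2]
        exact hK0 ((this m).symm.trans hm)
  have hhyp : ⁅Cfsg.pResidual p X, Cfsg.pResidual p X⁆ ≤ Cfsg.pCore p X := by
    rw [← hMdef, ← QuotientGroup.ker_mk' M, ← Subgroup.map_eq_bot_iff, map_commutator,
      map_pResidual_eq_of_surjective π hπ]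
    exact hcomm
  -- apply the hypothesis to `X`, seen as `K₀/R`
  obtain ⟨K₀, f, hf⟩ := hsec
  set R := (f.ker).map K₀.subtype with hRdef
  have hRK : R.subgroupOf K₀ = f.ker := comap_map_eq_self_of_injective K₀.subtype_injective _
  haveI : (R.subgroupOf K₀).Normal := by rw [hRK]; infer_instance
  let e : (K₀ ⧸ R.subgroupOf K₀) ≃* X :=
    (QuotientGroup.quotientMulEquivOfEq hRK).trans (QuotientGroup.quotientKerEquivOfSurjective f hf)
  have hhyp' := TransferQuadratic.hyp_surjective p e.symm.toMonoidHom e.symm.surjective hhyp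
  let T0 : Sylow p (K₀ ⧸ R.subgroupOf K₀) :=
    T.comapOfInjective e.toMonoidHom e.injective (by
      rw [MonoidHom.range_eq_top.mpr e.surjective]; exact le_top)
  have hT0 : (T0 : Subgroup _).map e.toMonoidHom = (T : Subgroup X) :=
    map_comap_eq_self_of_surjective e.surjective _
  obtain ⟨T', hUT, hcf⟩ := hctl K₀ R (fun K' R' => fun {_} =>
    TransferQuadratic.isNormalizerPStable_of_hyp p hp2
      (TransferQuadratic.hyp_surjective p (QuotientGroup.mk' _) (QuotientGroup.mk'_surjective _)
        (TransferQuadratic.hyp_subgroup p hhyp' K'))) T0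
  set U := WW W (T0 : Subgroup (K₀ ⧸ R.subgroupOf K₀)) with hU
  have hle : (T' : Subgroup _) ≤ normalizer (U : Set (K₀ ⧸ R.subgroupOf K₀)) := by
    intro t ht
    obtain ⟨hsub', hxc⟩ := hcf (U : Set (K₀ ⧸ R.subgroupOf K₀)) (fun a ha => hUT ha)
    obtain ⟨x, hx, hxe⟩ := hxc t (by
      rintro _ ⟨a, ha, rfl⟩
      exact mul_mem (mul_mem ht (hUT ha)) (inv_mem ht))
    refine TransferAlperin.mem_normalizer_of_cj_eq ?_
    ext y
    rw [TransferAlperin.mem_cj]
    have hcx : ∀ a ∈ U, t * a * t⁻¹ = x * a * x⁻¹ := hxe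
    constructor
    · intro hy
      have h1 : y = x * (t⁻¹ * y * t) * x⁻¹ := by rw [← hcx _ hy]; group
      rw [h1]
      exact (mem_normalizer_iff.mp hx _).mp hy
    · intro hy
      have hy' : x⁻¹ * y * x ∈ U := by
        simpa using (mem_normalizer_iff.mp (inv_mem hx) y).mp hy
      have h2 : t * (x⁻¹ * y * x) * t⁻¹ = y := by rw [hcx _ hy']; group
      have h1 : t⁻¹ * y * t = x⁻¹ * y * x := by
        conv_lhs => rw [← h2]
        group
      rw [h1]
      exact hy'
  have hctrl : TransferTate.ControlsFusion (normalizer (U : Set (K₀ ⧸ R.subgroupOf K₀))) (T' : Subgroup _) := by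
    intro a ha g hga
    obtain ⟨_, hxc⟩ := hcf {a} (Set.singleton_subset_iff.mpr ha)
    obtain ⟨x, hx, hxe⟩ := hxc g (by
      rintro _ ⟨b, hb, rfl⟩
      rw [Set.mem_singleton_iff.mp hb]
      exact hga)
    exact ⟨x, hx, (hxe a rfl).symm⟩
  have hUn : Cfsg.HasNormalPComplement p (normalizer (U : Set (K₀ ⧸ R.subgroupOf K₀))) := by
    refine hasNormalPComplement_of_injective
      ((e.toMonoidHom.comp (Subgroup.subtype _)).codRestrict _ (fun y => ?_)) ?_ hT
    · have h1 := le_normalizer_map e.toMonoidHom (mem_map_of_mem e.toMonoidHom y.2)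
      rwa [map_WW hW e.toMonoidHom T0.isPGroup' (fun x _ h => e.injective (h.trans (map_one e).symm)),
        hT0] at h1
    · intro a b h
      exact Subtype.ext (e.injective (congrArg Subtype.val h :))
  refine hX ((hasNormalPComplement_congr e).mp ?_)
  rw [hasNormalPComplement_iff_inf_eq_bot T', inf_pResidual_eq_of_control T' hle hctrl, eq_bot_iff]
  intro y hy
  obtain ⟨hy1, z, hz, rfl⟩ := mem_inf.mp hy
  have h4 := (hasNormalPComplement_iff_inf_eq_bot (T'.subtype hle)).mp hUn
  have h5 : z ∈ ((T'.subtype hle : Sylow p _) : Subgroup _) ⊓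
      Cfsg.pResidual p (normalizer (U : Set (K₀ ⧸ R.subgroupOf K₀))) :=
    ⟨mem_subgroupOf.mpr hy1, hz⟩
  rw [h4, mem_bot] at h5
  rw [h5, map_one]
  exact one_mem _

/-- Let p be an odd prime, G a finite group with Sylow p-subgroup S, and W an isomorphism-invariant p-group functor (W assigns to every group Q a subgroup W(Q), nontrivial whenever Q is a nontrivial finite p-group, and every isomorphism from a finite p-group Q onto a group R carries W(Q) onto W(R)). Suppose N_G(W(S)) has a normal p-complement, and W(T) controls strong fusion in every section G* = K/R of G all of whose sections are p-stable in the normalizer form, for every Sylow p-subgroup T of G*. Then G has a normal p-complement. -/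
theorem result {G : Type u} [Group G] [Finite G] {p : ℕ} [Fact p.Prime] (hp : p ≠ 2) (W : ∀ (Q : Type u) [Group Q], Subgroup Q) (hW : Cfsg.IsCharPFunctor.{u} p W) (S : Sylow p G) (hN : Cfsg.HasNormalPComplement p ↥(Subgroup.normalizer ((Cfsg.inducedFunctor (G := G) W (S : Subgroup G) : Subgroup G) : Set G))) (hctl : ∀ (K R : Subgroup G) [hR : (R.subgroupOf K).Normal], (∀ (K' R' : Subgroup (↥K ⧸ R.subgroupOf K)) [hR' : (R'.subgroupOf K').Normal], Cfsg.IsNormalizerPStable p (↥K' ⧸ R'.subgroupOf K')) → ∀ T : Sylow p (↥K ⧸ R.subgroupOf K), Cfsg.ControlsStrongFusion p (Cfsg.inducedFunctor (G := (↥K ⧸ R.subgroupOf K)) W (T : Subgroup (↥K ⧸ R.subgroupOf K)))) : Cfsg.HasNormalPComplement p G := by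
  exact main hp hW hctl (Nat.card G) G rfl ⟨⊤, (Subgroup.topEquiv : (⊤ : Subgroup G) ≃* G).toMonoidHom, Subgroup.topEquiv.surjective⟩ S hN

end Cfsg.Agent.S1990
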