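import Cfsg.Statements.S1988
import Cfsg.Agent.S1990
import Cfsg.Agent.S1987
import Cfsg.Agent.Lib.TransferAlperin
import Cfsg.Agent.Lib.ConjFunctorKMain

set_option autoImplicit false
universe u
open Cfsg

namespace Cfsg.Agent.S1988

/-- Let p be an odd prime, G a finite group with Sylow p-subgroup S and K the lower K-infinity subgroup of S. If N_G(K) has a normal p-complement, or if N_G(K)/C_G(K) is a p-group (every element of N_G(K) of order prime to p centralizes K), then G has a normal p-complement. -/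
theorem result {G : Type u} [Group G] [Finite G] {p : ℕ} [Fact p.Prime] (hp : p ≠ 2) (S : Sylow p G) (h : Cfsg.HasNormalPComplement p ↥(Subgroup.normalizer ((Cfsg.inducedFunctor Cfsg.kInfLower (S : Subgroup G) : Subgroup G) : Set G)) ∨ ∀ g ∈ Subgroup.normalizer ((Cfsg.inducedFunctor Cfsg.kInfLower (S : Subgroup G) : Subgroup G) : Set G), (orderOf g).Coprime p → g ∈ Subgroup.centralizer ((Cfsg.inducedFunctor Cfsg.kInfLower (S : Subgroup G) : Subgroup G) : Set G)) : Cfsg.HasNormalPComplement p G := by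
  have hW := ConjFunctorKMain.isCharPFunctor_kInfLower.{u} (p := p)
  refine S1990.result hp Cfsg.kInfLower hW S ?_ fun K R _ hst T => S1987.result hp hst T
  rcases h with h | h
  · exact h
  set K := Cfsg.inducedFunctor Cfsg.kInfLower (S : Subgroup G) with hK
  have hSN : (S : Subgroup G) ≤ Subgroup.normalizer (K : Set G) := S1990.sylow_le_normalizer_WW hW S
  have hcen : ∀ c ∈ (S : Subgroup G), c ∈ Subgroup.centralizer (K : Set G) → c ∈ K := by
    intro c hc hcK
    refine ⟨⟨c, hc⟩, (ConjFunctorKInf.centralizer_kInf _ S.isPGroup').1 ?_, rfl⟩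
    exact Subgroup.mem_centralizer_iff.mpr fun k hk =>
      Subtype.ext (Subgroup.mem_centralizer_iff.mp hcK k ⟨k, hk, rfl⟩)
  refine (TransferAlperin.hasNormalPComplement_iff_centralizer (S.subtype hSN)).mpr
    fun Q hQ g hg hco => Subgroup.mem_centralizer_iff.mpr fun q hq => Subtype.ext ?_
  have hgK : ∀ k ∈ K, k * (g : G) = (g : G) * k :=
    Subgroup.mem_centralizer_iff.mp (h g g.2 (by rwa [Subgroup.orderOf_coe]))
  have hq2 : g * q * g⁻¹ ∈ Q := (Subgroup.mem_normalizer_iff.mp hg q).mp hq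
  set c : G := (g : G) * q * (g : G)⁻¹ * (q : G)⁻¹ with hc
  have hqS : (q : G) ∈ (S : Subgroup G) := hQ hq
  have hcS : c ∈ (S : Subgroup G) := mul_mem (hQ hq2) (inv_mem hqS)
  have hcC : c ∈ Subgroup.centralizer (K : Set G) := by
    refine Subgroup.mem_centralizer_iff.mpr fun k hk => ?_
    have hk' : (q : G)⁻¹ * k * q ∈ K := by
      have h1 := (Subgroup.mem_normalizer_iff.mp (inv_mem (hSN hqS)) k).mp hk
      rwa [inv_inv] at h1
    have e1 : (g : G)⁻¹ * k = k * (g : G)⁻¹ := by
      rw [eq_mul_inv_iff_mul_eq, mul_assoc, hgK k hk, inv_mul_cancel_left]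
    calc k * c = (g : G) * ((g : G)⁻¹ * k) * g * q * (g : G)⁻¹ * (q : G)⁻¹ := by rw [hc]; group
      _ = (g : G) * q * ((q : G)⁻¹ * k * q) * (g : G)⁻¹ * (q : G)⁻¹ := by rw [e1]; group
      _ = (g : G) * q * (g : G)⁻¹ * ((g : G) * ((q : G)⁻¹ * k * q)) * (g : G)⁻¹ * (q : G)⁻¹ := by group
      _ = (g : G) * q * (g : G)⁻¹ * (((q : G)⁻¹ * k * q) * g) * (g : G)⁻¹ * (q : G)⁻¹ := by rw [← hgK _ hk']
      _ = c * k := by rw [hc]; group
  have hcg : (g : G) * c = c * g := (hgK c (hcen c hcS hcC)).symm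
  have hpow : ∀ n : ℕ, (g : G) ^ n * q = c ^ n * q * (g : G) ^ n := by
    intro n
    induction n with
    | zero => simp
    | succ n ih =>
      calc (g : G) ^ (n + 1) * q = g * ((g : G) ^ n * q) := by rw [pow_succ', mul_assoc]
        _ = g * c ^ n * q * (g : G) ^ n := by rw [ih]; group
        _ = c ^ n * g * q * (g : G) ^ n := by rw [(show Commute (g : G) c from hcg).pow_right n |>.eq]
        _ = c ^ n * (c * q * g) * (g : G) ^ n := by rw [hc]; group
        _ = c ^ (n + 1) * q * (g : G) ^ (n + 1) := by rw [pow_succ, pow_succ']; group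
  have h1 := hpow (orderOf g)
  rw [← Subgroup.coe_pow, pow_orderOf_eq_one, Subgroup.coe_one, one_mul, mul_one] at h1
  have hc1 : c ^ orderOf g = 1 := mul_eq_right.mp h1.symm
  obtain ⟨j, hj⟩ := S.isPGroup' ⟨c, hcS⟩
  have hcj : c ^ p ^ j = 1 := congrArg Subtype.val hj
  have : c = 1 := orderOf_eq_one_iff.mp (Nat.eq_one_of_dvd_coprimes (hco.pow_right j)
    (orderOf_dvd_of_pow_eq_one hc1) (orderOf_dvd_of_pow_eq_one hcj))
  rw [hc, mul_inv_eq_one, mul_inv_eq_iff_eq_mul] at this
  simpa using this.symm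

end Cfsg.Agent.S1988
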