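import Cfsg.Statements.S1989
import Cfsg.Agent.Lib.QdStability56
import Cfsg.Agent.Lib.ConjFunctorKMain
import Cfsg.Agent.S1987

set_option autoImplicit false
universe u
open Cfsg

set_option linter.all false

namespace Cfsg.Agent.S1989

/-- Let p be an odd prime and G a finite group. Then Qd(p) (the natural semidirect product of an elementary abelian group of order p² by SL₂(p)) is not involved in G if and only if, in every section K/R of G and for every Sylow p-subgroup T of K/R, the lower K-infinity subgroup of T controls strong fusion in K/R. -/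
theorem result {G : Type u} [Group G] [Finite G] {p : ℕ} [Fact p.Prime] (hp : p ≠ 2) : ¬ Cfsg.Involves ↥(Cfsg.qd p) G ↔ ∀ (K R : Subgroup G) [hR : (R.subgroupOf K).Normal], ∀ T : Sylow p (↥K ⧸ R.subgroupOf K), Cfsg.ControlsStrongFusion p (Cfsg.inducedFunctor (G := (↥K ⧸ R.subgroupOf K)) Cfsg.kInfLower (T : Subgroup (↥K ⧸ R.subgroupOf K))) := by
  constructor
  · intro h K R hR T
    refine S1987.result hp (fun K' R' hR' => ?_) T
    refine QdStability56.isNormalizerPStable_of_free hp fun hs => h ?_
    exact QuadraticQd.exists_section (QdStability56.hasSection_of_quotient (R.subgroupOf K)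
      (QdStability56.hasSection_of_quotient (R'.subgroupOf K') hs))
  · rintro h ⟨K, R, hR, ⟨e⟩⟩
    let X := ↥K ⧸ R.subgroupOf K
    let e' : X ≃* QdStructure56.Qd (ZMod p) := e.trans QdStability56.qdEquiv.symm
    let T : Sylow p X := IsPGroup.toSylow
      (P := (QdStability56.sylT (p := p)).comap e'.toMonoidHom)
      (QdStability56.sylT_isPGroup.comap_of_injective e'.toMonoidHom e'.injective)
      (by rw [Subgroup.index_comap_of_surjective _ (f := e'.toMonoidHom) e'.surjective]
          exact QdStability56.not_dvd_index_sylT)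
    obtain ⟨T', hUT', hT'⟩ := h K R T
    set U := Cfsg.inducedFunctor (G := X) Cfsg.kInfLower (T : Subgroup X) with hU
    have hTe : (T : Subgroup X).map e'.toMonoidHom = QdStability56.sylT :=
      Subgroup.map_comap_eq_self_of_surjective (f := e'.toMonoidHom) e'.surjective _
    refine QdStability56.not_controls (U.map e'.toMonoidHom) (hTe ▸ Subgroup.map_mono (Subgroup.map_subtype_le _)) ?_ ?_ ?_
    · rw [Ne, Subgroup.map_eq_bot_iff_of_injective _ (f := e'.toMonoidHom) e'.injective]
      intro hbot
      have hb : Cfsg.kInfLower ↥(T : Subgroup X) = ⊥ :=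
        (Subgroup.map_eq_bot_iff_of_injective _ (T : Subgroup X).subtype_injective).mp hbot
      refine ConjFunctorKMain.isCharPFunctor_kInfLower.1 _ T.2 ?_ hb
      refine (Subgroup.nontrivial_iff_ne_bot _).mpr fun hbot' => ?_
      have hmem : QdStructure56.trn (Multiplicative.ofAdd (Pi.single 0 1 : Fin 2 → ZMod p)) ∈
          QdStability56.sylT :=
        QdStability56.mem_sylT.mpr ⟨0, by simp [QdStructure56.trn, PSL2Elements.u_zero]⟩
      rw [← hTe, hbot', Subgroup.map_bot, Subgroup.mem_bot] at hmem
      have := congrArg (fun M => QdStructure56.vec M 0) hmem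
      simp [QdStructure56.trn] at this
    · intro α x hx
      let r : ↥(T : Subgroup X) ≃* ↥(QdStability56.sylT (p := p)) :=
        (e'.subgroupMap (T : Subgroup X)).trans (MulEquiv.subgroupCongr hTe)
      obtain ⟨y, ⟨w, hw, rfl⟩, hye⟩ := Subgroup.mem_subgroupOf.mp hx
      have hrw : r w = x := Subtype.ext hye
      let β : ↥(T : Subgroup X) ≃* ↥(T : Subgroup X) := (r.trans α).trans r.symm
      have hβ := ConjFunctorKInf.map_kInfLower β
      have hmem : β w ∈ Cfsg.kInfLower ↥(T : Subgroup X) := hβ ▸ Subgroup.mem_map_of_mem _ hw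
      refine Subgroup.mem_subgroupOf.mpr ⟨(β w : X), ⟨β w, hmem, rfl⟩, ?_⟩
      show (r (β w) : QdStructure56.Qd (ZMod p)) = _
      simp [β, hrw]
    · refine ⟨T'.mapSurjective (f := e'.toMonoidHom) e'.surjective, Subgroup.map_mono hUT', fun A hA => ⟨hA, fun g hg => ?_⟩⟩
      obtain ⟨-, hf⟩ := hT' (e'.symm '' A) (by
        rintro _ ⟨a, ha, rfl⟩
        obtain ⟨b, hb, rfl⟩ := hA ha
        simpa using hb)
      obtain ⟨x, hx, hxa⟩ := hf (e'.symm g) (by
        rintro _ ⟨_, ⟨a, ha, rfl⟩, rfl⟩
        obtain ⟨b, hb, hbe⟩ := hg ⟨a, ha, rfl⟩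
        have : b = e'.symm g * e'.symm a * (e'.symm g)⁻¹ := by
          apply e'.injective
          simpa using hbe
        simpa [← this] using hb)
      refine ⟨e' x, ?_, fun a ha => ?_⟩
      · exact Subgroup.le_normalizer_map e'.toMonoidHom (Subgroup.mem_map_of_mem _ hx)
      · have h2 := congrArg e' (hxa (e'.symm a) ⟨a, ha, rfl⟩)
        simpa using h2

end Cfsg.Agent.S1989
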