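import Cfsg.Statements.S1992
import Mathlib
import Cfsg.Agent.Lib.ConjFunctorNilpotence
import Cfsg.Agent.Lib.ConjFunctorKMain
import Cfsg.Agent.Lib.CharInducedBurnside

set_option autoImplicit false
open Cfsg

namespace Cfsg.Agent.S1992

universe v

open Subgroup in
theorem index_five {G : Type v} [Group G] [Finite G] {p : ℕ} [Fact p.Prime] (hp : 5 ≤ p)
    (hd : p ∣ Nat.card G) (h : ∀ Q : Sylow p G, normalizer ((Q : Subgroup G) : Set G) = Q) :
    ∃ N : Subgroup G, N.Normal ∧ N.index = p := by
  obtain ⟨S⟩ : Nonempty (Sylow p G) := inferInstance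
  have hS : (S : Subgroup G) ≠ ⊥ := S.ne_bot_of_dvd_card hd
  refine ConjFunctorNilpotence.exists_index_p S (ConjFunctorNilpotence.not_le_commutator
    ConjFunctorKMain.isCharPFunctor_kInfLower
    (fun H _ _ _ => ConjFunctorKMain.transfer_of_engel ConjFunctorKMain.isCharPFunctor_kInfLower
      fun _ _ _ T hn => ConjFunctorKMain.engel_of_not_normal hp T (Or.inl hn)) S hS ?_)
  intro g hg hgc
  rw [h S] at hg
  rw [CharPBasic.eq_one_of_coprime_of_mem S.isPGroup' hg hgc]
  exact one_mem _

open Subgroup in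
theorem self_normalizing_quotient {G : Type v} [Group G] [Finite G] (N : Subgroup G) [N.Normal] {q : ℕ}
    [Fact q.Prime] (h : ∀ Q : Sylow q G, normalizer ((Q : Subgroup G) : Set G) = Q)
    (Q' : Sylow q (G ⧸ N)) : normalizer ((Q' : Subgroup (G ⧸ N)) : Set (G ⧸ N)) = Q' := by
  obtain ⟨Q, rfl⟩ := Sylow.mapSurjective_surjective (QuotientGroup.mk'_surjective N) q Q'
  rw [Sylow.coe_mapSurjective]
  set π := QuotientGroup.mk' N
  set P := (Q : Subgroup G).map π
  refine le_antisymm (fun x hx => ?_) le_normalizer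
  obtain ⟨y, rfl⟩ := QuotientGroup.mk'_surjective N x
  have hQK : (Q : Subgroup G) ≤ P.comap π := le_comap_map _ _
  have hyK : ConjFunctorBasic.cmap y (Q : Subgroup G) ≤ P.comap π := by
    refine ConjFunctorBasic.cmap_le_iff.mpr fun z hz => ?_
    rw [mem_comap, map_mul, map_mul, map_inv]
    exact (mem_normalizer_iff.mp hx _).mp (hQK hz)
  obtain ⟨c, hc, hle⟩ := ((ConjFunctorBasic.isSylowIn_top Q).mono hQK le_top).exists_conj_le
    (ConjFunctorBasic.isPGroup_cmap Q.isPGroup') hyK
  rw [← ConjFunctorBasic.cmap_mul] at hle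
  have h1 := ConjFunctorBasic.mem_normalizer_of_cmap_le hle
  rw [h Q] at h1
  have h2 : y ∈ P.comap π := by
    have := mul_mem (inv_mem hc) (hQK h1)
    rwa [inv_mul_cancel_left] at this
  exact h2

/-- Let G be a finite group in which, for every prime q dividing the order of G, every Sylow q-subgroup is its own normalizer. Then the order of G is a power of a single prime (G is a q-group for some prime q; for G trivial any prime works). -/
theorem result {G : Type*} [Group G] [Finite G] (h : ∀ q : ℕ, q.Prime → q ∣ Nat.card G → ∀ Q : Sylow q G, Subgroup.normalizer ((Q : Subgroup G) : Set G) = Q) : ∃ q : ℕ, q.Prime ∧ IsPGroup q G := by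
  induction hn : Nat.card G using Nat.strong_induction_on generalizing G with
  | _ n ih =>
  subst hn
  by_cases htriv : Nat.card G = 1
  · exact ⟨2, Nat.prime_two, IsPGroup.of_card (n := 0) (by rw [htriv, pow_zero])⟩
  have hnt : Nontrivial G := Finite.one_lt_card_iff_nontrivial.mp
    (lt_of_le_of_ne Nat.card_pos (Ne.symm htriv))
  by_cases hN : ∃ N : Subgroup G, N.Normal ∧ N ≠ ⊥ ∧ N ≠ ⊤
  · obtain ⟨N, hNn, hN1, hN2⟩ := hN
    haveI := hNn
    have hlt : Nat.card (G ⧸ N) < Nat.card G := by
      rw [N.card_eq_card_quotient_mul_card_subgroup]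
      exact lt_mul_of_one_lt_right Nat.card_pos (N.one_lt_card_iff_ne_bot.mpr hN1)
    obtain ⟨r, hr, hGN⟩ := ih _ hlt (fun q hq hqd Q' => by
      haveI : Fact q.Prime := ⟨hq⟩
      exact self_normalizing_quotient N
        (h q hq (hqd.trans (Subgroup.card_quotient_dvd_card N))) Q') rfl
    haveI : Fact r.Prime := ⟨hr⟩
    refine ⟨r, hr, IsPGroup.of_card (Nat.eq_prime_pow_of_unique_prime_dvd Nat.card_pos.ne' ?_)⟩
    intro s hs hsd
    by_contra hne
    haveI : Fact s.Prime := ⟨hs⟩
    obtain ⟨S⟩ : Nonempty (Sylow s G) := inferInstance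
    have hSN : (S : Subgroup G) ≤ N := by
      intro x hx
      rw [← QuotientGroup.eq_one_iff, ← orderOf_eq_one_iff]
      obtain ⟨i, hi⟩ := S.isPGroup' ⟨x, hx⟩
      have hx1 : x ^ s ^ i = 1 := congrArg Subtype.val hi
      obtain ⟨j, hj⟩ := hGN (x : G ⧸ N)
      exact Nat.eq_one_of_dvd_coprimes (((Nat.coprime_primes hr hs).mpr (Ne.symm hne)).pow j i)
        (orderOf_dvd_of_pow_eq_one hj)
        (orderOf_dvd_of_pow_eq_one (by rw [← QuotientGroup.mk_pow, hx1]; rfl))
    have hfr := Sylow.normalizer_sup_eq_top' S hSN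
    rw [← S.coe_coe, h s hs hsd S, sup_eq_right.mpr hSN] at hfr
    exact hN2 hfr
  push Not at hN
  by_cases h5 : ∃ p, p.Prime ∧ 5 ≤ p ∧ p ∣ Nat.card G
  · obtain ⟨p, hp, hp5, hpd⟩ := h5
    haveI : Fact p.Prime := ⟨hp⟩
    obtain ⟨M, hMn, hMi⟩ := index_five hp5 hpd (h p hp hpd)
    refine ⟨p, hp, IsPGroup.of_card (n := 1) ?_⟩
    rcases eq_or_ne M ⊥ with rfl | hM1
    · rw [pow_one, ← hMi, Subgroup.index_bot]
    · rw [hN M hMn hM1, Subgroup.index_top] at hMi
      exact absurd hMi.symm hp.ne_one
  push Not at h5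
  have hsolv : Group.IsSolvable G := by
    refine CharInduced.solvable_of_card_two_primes 2 3 ((Nat.card G).factorization 2)
      ((Nat.card G).factorization 3) Nat.prime_two Nat.prime_three ?_
    refine Nat.eq_of_factorization_eq Nat.card_pos.ne' (by positivity) fun s => ?_
    rw [Nat.factorization_mul (by positivity) (by positivity), Nat.prime_two.factorization_pow,
      Nat.prime_three.factorization_pow]
    simp only [Finsupp.add_apply, Finsupp.single_apply]
    rcases eq_or_ne s 2 with rfl | h2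
    · simp
    rcases eq_or_ne s 3 with rfl | h3
    · simp
    rw [if_neg (Ne.symm h2), if_neg (Ne.symm h3), add_zero]
    by_cases hs : s.Prime
    · refine Nat.factorization_eq_zero_of_not_dvd fun hd => ?_
      have h4 : s < 5 := by
        by_contra h5'
        exact h5 s hs (not_lt.mp h5') hd
      have := hs.two_le
      interval_cases s <;> simp_all (config := { decide := true })
    · exact Nat.factorization_eq_zero_of_not_prime _ hs
  have hcl : commutator G < ⊤ := Group.IsSolvable.commutator_lt_top_of_nontrivial G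
  have hcb : commutator G = ⊥ := by
    by_contra hne
    exact hcl.ne (hN _ inferInstance hne)
  have hab : ∀ a b : G, a * b = b * a := fun a b => by
    rw [← commutatorElement_eq_one_iff_mul_comm, ← Subgroup.mem_bot, ← hcb, commutator_def]
    exact Subgroup.commutator_mem_commutator (Subgroup.mem_top a) (Subgroup.mem_top b)
  obtain ⟨q, hq, hqd⟩ := Nat.exists_prime_and_dvd htriv
  haveI : Fact q.Prime := ⟨hq⟩
  obtain ⟨x, hx⟩ := exists_prime_orderOf_dvd_card' q hqd
  have hxn : (Subgroup.zpowers x).Normal := ⟨fun n hn g => by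
    rw [hab g n, mul_inv_cancel_right]; exact hn⟩
  have hx1 : Subgroup.zpowers x ≠ ⊥ := fun h' => by
    rw [Subgroup.zpowers_eq_bot] at h'
    rw [h', orderOf_one] at hx
    exact hq.ne_one hx.symm
  refine ⟨q, hq, IsPGroup.of_card (n := 1) ?_⟩
  rw [pow_one, ← hx, ← Nat.card_zpowers, hN _ hxn hx1, Subgroup.card_top]

end Cfsg.Agent.S1992
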