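import Cfsg.Statements.S1993
import Mathlib
import Cfsg.Agent.Lib.ConjFunctorKMain

set_option autoImplicit false
universe u
open Cfsg

namespace Cfsg.Agent.S1993

/-- Let p be a prime, G a finite group with Sylow p-subgroup S, and K the upper K-infinity subgroup of S. If p ≥ 5 then S ∩ G' = S ∩ (N_G(K))'; and if p is odd and every section of G is p-stable in the normalizer form, then K controls strong fusion in G. -/
theorem result {G : Type u} [Group G] [Finite G] {p : ℕ} [Fact p.Prime] (S : Sylow p G) : (5 ≤ p → (S : Subgroup G) ⊓ commutator G = (S : Subgroup G) ⊓ ⁅Subgroup.normalizer ((Cfsg.inducedFunctor Cfsg.kInfUpper (S : Subgroup G) : Subgroup G) : Set G), Subgroup.normalizer ((Cfsg.inducedFunctor Cfsg.kInfUpper (S : Subgroup G) : Subgroup G) : Set G)⁆) ∧ (p ≠ 2 → (∀ (K R : Subgroup G) [hR : (R.subgroupOf K).Normal], Cfsg.IsNormalizerPStable p (↥K ⧸ R.subgroupOf K)) → Cfsg.ControlsStrongFusion p (Cfsg.inducedFunctor Cfsg.kInfUpper (S : Subgroup G))) := by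
  refine ⟨fun hp => ?_, fun _ hst => ConjFunctorKMain.fusion_of_stable
    ConjFunctorKMain.isCharPFunctor_kInfUpper (fun H _ _ T hc hn => ?_) hst S⟩
  · have h := ConjFunctorKMain.transfer_of_engel (G := G) (p := p) ConjFunctorKMain.isCharPFunctor_kInfUpper
      fun H _ _ T hn => ConjFunctorKMain.engel_of_not_normal hp T (Or.inr hn)
    rw [ConjFunctorTransfer.controlsTransfer_iff_singleton] at h
    have hle := ConjFunctorTransfer.inf_commutator_le_tgt
      (fun W' hW' => by
        rw [Set.mem_singleton_iff.mp hW']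
        exact ConjFunctorSection.isConjugacyFunctor_induced ConjFunctorKMain.isCharPFunctor_kInfUpper)
      h (ConjFunctorBasic.isSylowIn_top S)
    rw [commutator_def]
    refine le_antisymm ?_ (inf_le_inf_left _ (Subgroup.commutator_mono le_top le_top))
    simpa [ConjFunctorTransfer.tgt] using hle
  · obtain ⟨g, -, -, -, -, hg⟩ := ConjFunctorKMain.witness T (Or.inr hn)
    exact hg hc

end Cfsg.Agent.S1993
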