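import Cfsg.Statements.S1996
import Mathlib
import Cfsg.Agent.Lib.ConjFunctorMain

set_option autoImplicit false
universe u
open Cfsg

namespace Cfsg.Agent.S1996

/-- Let p be a prime, G a finite group and W₁, W₂ two isomorphism-invariant p-group functors (W assigns to every group Q a subgroup W(Q), nontrivial whenever Q is a nontrivial finite p-group, and every isomorphism from a finite p-group Q onto a group R carries W(Q) onto W(R)). Suppose that G* = N_{G*}(W₁(S*)) N_{G*}(W₂(S*)) whenever G* = K/R is a section of G with C_{G*}(O_p(G*)) ≤ O_p(G*) and S* is a Sylow p-subgroup of G*. Then the pair {W₁, W₂} controls strong fusion in G. -/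
theorem result {G : Type u} [Group G] [Finite G] {p : ℕ} [Fact p.Prime] (W₁ W₂ : ∀ (Q : Type u) [Group Q], Subgroup Q) (hW₁ : Cfsg.IsCharPFunctor.{u} p W₁) (hW₂ : Cfsg.IsCharPFunctor.{u} p W₂) (hfac : ∀ (K R : Subgroup G) [hR : (R.subgroupOf K).Normal], Subgroup.centralizer ((Cfsg.pCore p (↥K ⧸ R.subgroupOf K) : Subgroup (↥K ⧸ R.subgroupOf K)) : Set (↥K ⧸ R.subgroupOf K)) ≤ Cfsg.pCore p (↥K ⧸ R.subgroupOf K) → ∀ T : Sylow p (↥K ⧸ R.subgroupOf K), ∀ x : (↥K ⧸ R.subgroupOf K), ∃ a ∈ Subgroup.normalizer ((Cfsg.inducedFunctor (G := (↥K ⧸ R.subgroupOf K)) W₁ (T : Subgroup (↥K ⧸ R.subgroupOf K)) : Subgroup (↥K ⧸ R.subgroupOf K)) : Set (↥K ⧸ R.subgroupOf K)), ∃ b ∈ Subgroup.normalizer ((Cfsg.inducedFunctor (G := (↥K ⧸ R.subgroupOf K)) W₂ (T : Subgroup (↥K ⧸ R.subgroupOf K)) : Subgroup (↥K ⧸ R.subgroupOf K)) : Set (↥K ⧸ R.subgroupOf K)), x = a * b) : Cfsg.FamilyControlsStrongFusionIn p {Cfsg.inducedFunctor (G := G)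 W₁, Cfsg.inducedFunctor (G := G) W₂} ⊤ := by
  have h := Cfsg.Agent.ConjFunctorMain.fusion_main (G := G) (p := p) (𝓦 := {W₁, W₂}) (by
    rintro W (rfl | rfl) <;> assumption) fun K R _ hc => by
      obtain ⟨T⟩ : Nonempty (Sylow p (↥K ⧸ R.subgroupOf K)) := inferInstance
      have key : ∀ W ∈ ({W₁, W₂} : Set (∀ (Q : Type u) [Group Q], Subgroup Q)),
          ∀ x ∈ Subgroup.normalizer ((Cfsg.inducedFunctor (G := ↥K ⧸ R.subgroupOf K) W
            (T : Subgroup (↥K ⧸ R.subgroupOf K)) : Subgroup _) : Set _),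
          ∀ Q ≤ (T : Subgroup (↥K ⧸ R.subgroupOf K)), Cfsg.Agent.ConjFunctorBasic.cmap x Q ≤ (T : Subgroup (↥K ⧸ R.subgroupOf K)) →
            Cfsg.Agent.ConjFunctorControl.Reach (Cfsg.Agent.ConjFunctorSection.img {W₁, W₂} (↥K ⧸ R.subgroupOf K))
              (T : Subgroup (↥K ⧸ R.subgroupOf K)) ⊤ Q x :=
        fun W hW x hx Q hQ hxQ => Cfsg.Agent.ConjFunctorControl.reach_single (show Cfsg.inducedFunctor (G := ↥K ⧸ R.subgroupOf K) W ∈ Cfsg.Agent.ConjFunctorSection.img {W₁, W₂} (↥K ⧸ R.subgroupOf K) from ⟨W, hW, rfl⟩) ⟨Subgroup.mem_top x, hx⟩ hQ hxQ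
      have hle : ∀ W, Cfsg.IsCharPFunctor.{u} p W →
          (T : Subgroup (↥K ⧸ R.subgroupOf K)) ≤ Subgroup.normalizer
            ((Cfsg.inducedFunctor (G := ↥K ⧸ R.subgroupOf K) W (T : Subgroup (↥K ⧸ R.subgroupOf K)) :
              Subgroup _) : Set _) := fun W hW => Subgroup.le_normalizer.trans
        (Cfsg.Agent.ConjFunctorBasic.normalizer_le_cfun (Cfsg.Agent.ConjFunctorSection.isConjugacyFunctor_induced hW) T.isPGroup')
      refine Cfsg.Agent.ConjFunctorControl.famControls_iff.mpr ⟨(T : Subgroup _), Cfsg.Agent.ConjFunctorBasic.isSylowIn_top T, fun Q hQ g _ hg => ?_⟩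
      exact Cfsg.Agent.ConjFunctorMaster.rel_of_factor Cfsg.Agent.ConjFunctorControl.fusRel_reach (hle W₁ hW₁) (hle W₂ hW₂)
        (fun x => hfac K R hc T x) (key W₁ (Or.inl rfl)) (key W₂ (Or.inr rfl)) Q hQ g hg
  rwa [Cfsg.Agent.ConjFunctorSection.img, Set.image_pair] at h

end Cfsg.Agent.S1996
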