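import Cfsg.Statements.S1997
import Mathlib
import Cfsg.Agent.Lib.ConjFunctorBasic
import Cfsg.Agent.Lib.ConjFunctorSection
import Cfsg.Agent.Lib.ConjFunctorMaster
import Cfsg.Agent.Lib.ConjFunctorMain
import Cfsg.Agent.S1996

set_option autoImplicit false
universe u
open Cfsg

namespace Cfsg.Agent.S1997

open scoped commutatorElement
open Subgroup Cfsg.Agent.ConjFunctorBasic Cfsg.Agent.ConjFunctorSection Cfsg.Agent.ConjFunctorMaster
  Cfsg.Agent.HallCore

/-- `Ω₁(Z(S))` as a subgroup of the ambient group. -/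
abbrev zeta (p : ℕ) {H : Type*} [Group H] (S : Subgroup H) : Subgroup H :=
  Cfsg.omegaOne p (S ⊓ centralizer (S : Set H))

theorem zeta_le {p : ℕ} {H : Type*} [Group H] (S : Subgroup H) : zeta p S ≤ S ⊓ centralizer (S : Set H) :=
  (closure_le _).mpr fun _ hx => hx.1

theorem map_zeta {p : ℕ} {H H' : Type*} [Group H] [Group H'] (f : H →* H') (S : Subgroup H)
    (hf : S ⊓ f.ker = ⊥) : (zeta p S).map f = zeta p (S.map f) := by
  have hinj : ∀ a ∈ S, f a = 1 → a = 1 := fun a ha h => mem_bot.mp (hf ▸ mem_inf.mpr ⟨ha, h⟩)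
  show (Subgroup.closure _).map f = Subgroup.closure _
  rw [MonoidHom.map_closure]
  congr 1
  ext y
  constructor
  · rintro ⟨x, ⟨⟨hxS, hxC⟩, hxp⟩, rfl⟩
    refine ⟨⟨mem_map_of_mem f hxS, mem_centralizer_iff.mpr ?_⟩, by rw [← map_pow, hxp, map_one]⟩
    rintro _ ⟨z, hz, rfl⟩
    rw [← map_mul, ← map_mul, mem_centralizer_iff.mp hxC z hz]
  · rintro ⟨⟨⟨x, hx, rfl⟩, hxC⟩, hxp⟩
    refine ⟨x, ⟨⟨hx, mem_centralizer_iff.mpr fun z hz => ?_⟩, ?_⟩, rfl⟩
    · have h1 := mem_centralizer_iff.mp hxC (f z) (mem_map_of_mem f hz)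
      have h2 : f (⁅z, x⁆) = 1 := by
        rw [map_commutatorElement]; exact commutatorElement_eq_one_iff_mul_comm.mpr h1
      exact commutatorElement_eq_one_iff_mul_comm.mp
        (hinj _ (mul_mem (mul_mem (mul_mem hz hx) (inv_mem hz)) (inv_mem hx)) h2)
    · exact hinj _ (pow_mem hx p) (by rw [map_pow, hxp])

/-- Factorisation by `C(Ω₁(Z(S)))` above a normal `p`-subgroup containing it. -/
theorem factor_normal {p : ℕ} [Fact p.Prime] {W : ∀ (Q : Type u) [Group Q], Subgroup Q}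
    (hW : Cfsg.IsCharPFunctor.{u} p W) {G : Type u} [Group G] [Finite G]
    (hloc : ∀ (H : Type u) [Group H] [Finite H], Cfsg.Involves H G → Constr p H → ∀ S : Sylow p H, ∀ x : H,
      ∃ a ∈ centralizer ((zeta p (S : Subgroup H) : Subgroup H) : Set H),
      ∃ b ∈ normalizer ((Cfsg.inducedFunctor (G := H) W (S : Subgroup H) : Subgroup H) : Set H), x = a * b)
    (S : Sylow p G) (Q : Subgroup G) [Q.Normal] (hQ : IsPGroup p Q) (hZQ : zeta p (S : Subgroup G) ≤ Q)
    (x : G) : ∃ a ∈ centralizer ((zeta p (S : Subgroup G) : Subgroup G) : Set G),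
      ∃ b ∈ normalizer ((Cfsg.inducedFunctor (G := G) W (S : Subgroup G) : Subgroup G) : Set G), x = a * b := by
  induction hn : Nat.card G using Nat.strong_induction_on generalizing G with
  | _ n ih =>
  subst hn
  set P := Cfsg.pCore p G with hP
  haveI : P.Normal := pCore_normal p G
  have hQP : Q ≤ P := le_pCore hQ
  have hPS : P ≤ (S : Subgroup G) := (isPGroup_pCore p G).le_sylow_of_normal S
  set Z := zeta p (S : Subgroup G)
  set C := centralizer (P : Set G) with hC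
  haveI : C.Normal := normal_centralizer
  have hCZ : C ≤ centralizer (Z : Set G) := centralizer_le (hZQ.trans hQP)
  by_cases hD : (S : Subgroup G) ⊓ C ≤ P
  swap
  · set D := (S : Subgroup G) ⊓ C
    set M := normalizer ((P ⊔ D : Subgroup G) : Set G)
    have hfix : ∀ (N : Subgroup G) [N.Normal] (y : G), cmap y N = N := fun N _ y =>
      mem_normalizer_iff_cmap.mp (by rw [normalizer_eq_top]; exact mem_top y)
    have hnorm : ∀ y : G, cmap y D = D → y ∈ M := fun y hy => by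
      refine mem_normalizer_iff_cmap.mpr ?_
      rw [cmap, Subgroup.map_sup]
      exact congrArg₂ (· ⊔ ·) (hfix P y) hy
    have hSM : (S : Subgroup G) ≤ M := fun s hs => hnorm s (by
      rw [cmap_inf, mem_normalizer_iff_cmap.mp (le_normalizer hs), hfix C s])
    have hMne : M ≠ ⊤ := fun h => by
      haveI := normalizer_eq_top_iff.mp h
      exact hD (le_sup_right.trans (le_pCore (isPGroup_mono S.isPGroup' (sup_le hPS inf_le_left))))
    obtain ⟨c, hc, m, hm, rfl⟩ := frattini_split (H := ⊤) (C := C)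
      (not_dvd_relIndex_of_ge (S := S)) (by rw [normalizer_eq_top]) (mem_top x)
    have hmM : m ∈ M := hnorm m (mem_normalizer_iff_cmap.mp hm)
    let SM : Sylow p M := S.subtype hSM
    have hSMmap : (SM : Subgroup M).map M.subtype = (S : Subgroup G) := map_subgroupOf_eq_of_le hSM
    have hk : (SM : Subgroup M) ⊓ M.subtype.ker = ⊥ := by rw [ker_subtype, inf_bot_eq]
    have hZmap : (zeta p (SM : Subgroup M)).map M.subtype = Z := by rw [map_zeta _ _ hk, hSMmap]
    have hQM : zeta p (SM : Subgroup M) ≤ Q.subgroupOf M := fun z hz =>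
      hZQ (hZmap ▸ mem_map_of_mem M.subtype hz)
    obtain ⟨a, ha, b, hb, hab⟩ := ih _ (card_subgroup_lt hMne)
      (fun H _ _ hH => hloc H (involves_trans hH (involves_subgroup M))) SM (Q.subgroupOf M)
      hQ.comap_subtype hQM ⟨m, hmM⟩ rfl
    refine ⟨c * a, mul_mem (hCZ hc) (mem_centralizer_iff.mpr fun z hz => ?_), b, ?_, ?_⟩
    · rw [← hZmap] at hz
      obtain ⟨y, hy, rfl⟩ := hz
      exact congrArg Subtype.val (mem_centralizer_iff.mp ha y hy)
    · have h1 := ConjFunctorSection.map_normalizer_le hW M.subtype SM.isPGroup' hk ⟨b, hb, rfl⟩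
      rwa [hSMmap] at h1
    · have := congrArg Subtype.val hab
      simp only [Subgroup.coe_mul] at this
      rw [this, mul_assoc]
  set K := Cfsg.pPrimeCore p G with hK
  haveI : K.Normal := pPrimeCore_normal p G
  have hKc : (Nat.card K).Coprime p := coprime_card_pPrimeCore p G
  set π := QuotientGroup.mk' K with hπ
  have hSK : (S : Subgroup G) ⊓ π.ker = ⊥ := by
    rw [hπ, QuotientGroup.ker_mk']; exact inf_eq_bot_of_pGroup S.isPGroup' hKc
  have hinj : ∀ a ∈ (S : Subgroup G), π a = 1 → a = 1 := fun a ha h => mem_bot.mp (hSK ▸ mem_inf.mpr ⟨ha, h⟩)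
  let Sb : Sylow p (G ⧸ K) := S.mapSurjective (QuotientGroup.mk'_surjective K)
  have hSb : (Sb : Subgroup (G ⧸ K)) = (S : Subgroup G).map π := Sylow.coe_mapSurjective _ _
  have hc : Constr p (G ⧸ K) := by
    refine centralizer_pCore_le (S := Sb) (pPrimeCore_quotient_self p G) ?_
    haveI : (P.map π).Normal := Normal.map inferInstance π (QuotientGroup.mk'_surjective K)
    have hPP : P.map π ≤ Cfsg.pCore p (G ⧸ K) := le_pCore ((isPGroup_pCore p G).map π)
    rintro y ⟨hyS, hyC⟩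
    rw [hSb] at hyS
    obtain ⟨s, hs, rfl⟩ := hyS
    refine hPP (mem_map_of_mem π (hD ⟨hs, mem_centralizer_iff.mpr fun z hz => ?_⟩))
    have h1 := mem_centralizer_iff.mp hyC (π z) (hPP (mem_map_of_mem π hz))
    have h2 : π ⁅z, s⁆ = 1 := by
      rw [map_commutatorElement]; exact commutatorElement_eq_one_iff_mul_comm.mpr h1
    exact commutatorElement_eq_one_iff_mul_comm.mp
      (hinj _ (mul_mem (mul_mem (mul_mem (hPS hz) hs) (inv_mem (hPS hz))) (inv_mem hs)) h2)
  obtain ⟨a', ha', b', hb', hab⟩ := hloc (G ⧸ K) (involves_quotient K) hc Sb (π x)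
  rw [hSb] at ha' hb'
  obtain ⟨b, hb, rfl⟩ := exists_lift_normalizer hW S.isPGroup' hKc hb'
  refine ⟨x * b⁻¹, mem_centralizer_iff.mpr fun z hz => ?_, b, hb, by group⟩
  have hxb : π (x * b⁻¹) = a' := by rw [map_mul, map_inv, hab, mul_inv_cancel_right]
  rw [← map_zeta π (S : Subgroup G) hSK] at ha'
  have h1 := mem_centralizer_iff.mp ha' (π z) (mem_map_of_mem π hz)
  rw [← hxb] at h1
  have hzQ : z ∈ Q := hZQ hz
  have h2 : ⁅x * b⁻¹, z⁆ ∈ Q := by
    rw [commutatorElement_def]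
    exact mul_mem (Normal.conj_mem inferInstance z hzQ _) (inv_mem hzQ)
  have h3 : π ⁅x * b⁻¹, z⁆ = 1 := by
    rw [map_commutatorElement]; exact commutatorElement_eq_one_iff_mul_comm.mpr h1.symm
  exact (commutatorElement_eq_one_iff_mul_comm.mp (hinj _ (hPS (hQP h2)) h3)).symm

/-- Factorisations in constrained sections, transported to involved groups. -/
theorem factor_transport {p : ℕ} [Fact p.Prime] {W : ∀ (Q : Type u) [Group Q], Subgroup Q}
    (hW : Cfsg.IsCharPFunctor.{u} p W) {G : Type u} [Group G] [Finite G]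
    (h : ∀ (K R : Subgroup G) [hR : (R.subgroupOf K).Normal], Constr p (↥K ⧸ R.subgroupOf K) →
      ∀ T : Sylow p (↥K ⧸ R.subgroupOf K), ∀ x : ↥K ⧸ R.subgroupOf K,
        ∃ a ∈ centralizer ((zeta p (T : Subgroup (↥K ⧸ R.subgroupOf K)) : Subgroup _) : Set (↥K ⧸ R.subgroupOf K)),
        ∃ b ∈ normalizer ((Cfsg.inducedFunctor (G := ↥K ⧸ R.subgroupOf K) W
          (T : Subgroup (↥K ⧸ R.subgroupOf K)) : Subgroup _) : Set (↥K ⧸ R.subgroupOf K)), x = a * b)
    (H : Type u) [Group H] [Finite H] (hH : Cfsg.Involves H G) (hc : Constr p H) (S : Sylow p H) (x : H) :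
      ∃ a ∈ centralizer ((zeta p (S : Subgroup H) : Subgroup H) : Set H),
      ∃ b ∈ normalizer ((Cfsg.inducedFunctor (G := H) W (S : Subgroup H) : Subgroup H) : Set H), x = a * b := by
  obtain ⟨K, R, hR, ⟨e⟩⟩ := hH
  let T : Sylow p (↥K ⧸ R.subgroupOf K) := S.mapSurjective (f := e.symm.toMonoidHom) e.symm.surjective
  have hk : ∀ P : Subgroup (↥K ⧸ R.subgroupOf K), P ⊓ e.toMonoidHom.ker = ⊥ := fun P => by
    rw [(MonoidHom.ker_eq_bot_iff _).mpr e.injective, inf_bot_eq]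
  have hT : (T : Subgroup (↥K ⧸ R.subgroupOf K)).map e.toMonoidHom = (S : Subgroup H) := by
    show ((S : Subgroup H).map e.symm.toMonoidHom).map e.toMonoidHom = _
    rw [Subgroup.map_map]
    ext y; simp
  obtain ⟨a, ha, b, hb, hab⟩ := h K R (ConjFunctorMain.constr_congr e.symm hc) T (e.symm x)
  refine ⟨e a, mem_centralizer_iff.mpr ?_, e b, ?_, by rw [← map_mul, ← hab, e.apply_symm_apply]⟩
  · rw [← hT, ← map_zeta _ _ (hk _)]
    rintro _ ⟨z, hz, rfl⟩
    show e z * e a = e a * e z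
    rw [← map_mul, ← map_mul, mem_centralizer_iff.mp ha z hz]
  · have h1 := ConjFunctorSection.map_normalizer_le hW e.toMonoidHom T.isPGroup' (hk _) ⟨b, hb, rfl⟩
    rwa [hT] at h1

theorem main {p : ℕ} [Fact p.Prime] {G : Type u} [Group G] [Finite G] (S : Sylow p G)
    {W₁ W₂ : ∀ (Q : Type u) [Group Q], Subgroup Q}
    (hW₁ : Cfsg.IsCharPFunctor.{u} p W₁) (hW₂ : Cfsg.IsCharPFunctor.{u} p W₂)
    (h1 : ∀ (H : Type u) [Group H] [Finite H], Cfsg.Involves H G → Constr p H → ∀ S : Sylow p H, ∀ x : H,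
      ∃ a ∈ centralizer ((zeta p (S : Subgroup H) : Subgroup H) : Set H),
      ∃ b ∈ normalizer ((Cfsg.inducedFunctor (G := H) W₁ (S : Subgroup H) : Subgroup H) : Set H), x = a * b)
    (h2 : ∀ (H : Type u) [Group H] [Finite H], Cfsg.Involves H G → Constr p H → ∀ S : Sylow p H, ∀ x : H,
      ∃ a ∈ centralizer ((zeta p (S : Subgroup H) : Subgroup H) : Set H),
      ∃ b ∈ normalizer ((Cfsg.inducedFunctor (G := H) W₂ (S : Subgroup H) : Subgroup H) : Set H), x = a * b)
    (hfam : Cfsg.FamilyControlsStrongFusionIn p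
      {Cfsg.inducedFunctor (G := G) W₁, Cfsg.inducedFunctor (G := G) W₂} ⊤)
    (hZ : zeta p (S : Subgroup G) ≤ Cfsg.inducedFunctor (G := G) W₁ (S : Subgroup G) ⊓
      Cfsg.inducedFunctor (G := G) W₂ (S : Subgroup G))
    (N₁ : Subgroup G) (hN₁ : N₁ = normalizer ((Cfsg.inducedFunctor (G := G) W₁ (S : Subgroup G) : Subgroup G) : Set G))
    (A : Subgroup G)
    (hA : A = (Subgroup.normalClosure (((zeta p (S : Subgroup G)).subgroupOf N₁ : Subgroup ↥N₁) : Set ↥N₁)).map N₁.subtype) :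
    A ≤ (S : Subgroup G) ∧ Cfsg.IsElementaryAbelian p A ∧ Cfsg.IsStronglyClosed A (S : Subgroup G) ∧
      Cfsg.ControlsStrongFusion p A := by
  set Z := zeta p (S : Subgroup G) with hZdef
  set V₁ := Cfsg.inducedFunctor (G := G) W₁ (S : Subgroup G)
  set V₂ := Cfsg.inducedFunctor (G := G) W₂ (S : Subgroup G)
  set N₂ := normalizer (V₂ : Set G)
  have hZS : Z ≤ (S : Subgroup G) := (zeta_le _).trans inf_le_left
  have hSN : ∀ W : ∀ (Q : Type u) [Group Q], Subgroup Q, Cfsg.IsCharPFunctor.{u} p W →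
      (S : Subgroup G) ≤ normalizer ((Cfsg.inducedFunctor (G := G) W (S : Subgroup G) : Subgroup G) : Set G) :=
    fun W hW => le_normalizer.trans (normalizer_le_cfun (isConjugacyFunctor_induced hW) S.isPGroup')
  have hS1 : (S : Subgroup G) ≤ N₁ := hN₁ ▸ hSN W₁ hW₁
  have hV1S : V₁ ≤ (S : Subgroup G) := inducedFunctor_le W₁ _
  have hV2S : V₂ ≤ (S : Subgroup G) := inducedFunctor_le W₂ _
  -- the factorisation inside a normaliser
  have fac : ∀ (V : Subgroup G), V ≤ (S : Subgroup G) → Z ≤ V →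
      (S : Subgroup G) ≤ normalizer (V : Set G) →
      ∀ {W : ∀ (Q : Type u) [Group Q], Subgroup Q}, Cfsg.IsCharPFunctor.{u} p W →
      (∀ (H : Type u) [Group H] [Finite H], Cfsg.Involves H G → Constr p H → ∀ S : Sylow p H, ∀ x : H,
      ∃ a ∈ centralizer ((zeta p (S : Subgroup H) : Subgroup H) : Set H),
      ∃ b ∈ normalizer ((Cfsg.inducedFunctor (G := H) W (S : Subgroup H) : Subgroup H) : Set H), x = a * b) →
      ∀ x ∈ normalizer (V : Set G), ∃ a ∈ centralizer (Z : Set G),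
        ∃ b ∈ normalizer (V : Set G) ⊓ normalizer ((Cfsg.inducedFunctor (G := G) W (S : Subgroup G) : Subgroup G) : Set G),
          x = a * b := by
    intro V hVS hZV hSV W hW hloc x hx
    set N := normalizer (V : Set G)
    let SN : Sylow p N := S.subtype hSV
    have hmap : (SN : Subgroup N).map N.subtype = (S : Subgroup G) := map_subgroupOf_eq_of_le hSV
    have hk : (SN : Subgroup N) ⊓ N.subtype.ker = ⊥ := by rw [ker_subtype, inf_bot_eq]
    have hZm : (zeta p (SN : Subgroup N)).map N.subtype = Z := by rw [map_zeta _ _ hk, hmap]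
    haveI : (V.subgroupOf N).Normal := normal_in_normalizer
    obtain ⟨a, ha, b, hb, hab⟩ := factor_normal hW
      (fun H _ _ hH => hloc H (involves_trans hH (involves_subgroup N))) SN (V.subgroupOf N)
      ((isPGroup_mono S.isPGroup' hVS).comap_subtype)
      (fun z hz => hZV (hZm ▸ mem_map_of_mem N.subtype hz)) ⟨x, hx⟩
    refine ⟨a, mem_centralizer_iff.mpr fun z hz => ?_, b, ⟨b.2, ?_⟩, congrArg Subtype.val hab⟩
    · rw [← hZm] at hz
      obtain ⟨y, hy, rfl⟩ := hz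
      exact congrArg Subtype.val (mem_centralizer_iff.mp ha y hy)
    · have h1 := ConjFunctorSection.map_normalizer_le hW N.subtype SN.isPGroup' hk ⟨b, hb, rfl⟩
      rwa [hmap] at h1
  -- orbits of `Z`
  have orb : ∀ (V : Subgroup G) (N' : Subgroup G), (∀ x ∈ normalizer (V : Set G),
      ∃ a ∈ centralizer (Z : Set G), ∃ b ∈ normalizer (V : Set G) ⊓ N', x = a * b) →
      ∀ x ∈ normalizer (V : Set G), ∃ d ∈ normalizer (V : Set G) ⊓ N', cmap x Z = cmap d Z := by
    intro V N' h x hx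
    obtain ⟨a, ha, b, hb, e⟩ := h x⁻¹ (inv_mem hx)
    refine ⟨b⁻¹, inv_mem hb, ?_⟩
    rw [← inv_inv x, e, mul_inv_rev, cmap_mul,
      mem_normalizer_iff_cmap.mp (centralizer_le_normalizer (Z : Set G) (inv_mem ha))]
  have o1 := orb V₁ N₂ (fac V₁ hV1S (hZ.trans inf_le_left) (hSN W₁ hW₁) hW₂ h2)
  have o2 := orb V₂ (normalizer (V₁ : Set G)) (fac V₂ hV2S (hZ.trans inf_le_right) (hSN W₂ hW₂) hW₁ h1)
  -- `A` is generated by the conjugates of `Z` under `N₁`
  have hgen : ∀ x ∈ N₁, cmap x Z ≤ A := by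
    intro x hx y hy
    obtain ⟨z, hz, rfl⟩ := hy
    rw [hA]
    refine ⟨⟨x, hx⟩ * ⟨z, hS1 (hZS hz)⟩ * ⟨x, hx⟩⁻¹, ?_, rfl⟩
    exact normalClosure_normal.conj_mem _
      (subset_normalClosure (show (⟨z, hS1 (hZS hz)⟩ : N₁) ∈ Z.subgroupOf N₁ from hz)) _
  have hAle : ∀ B : Subgroup G, (∀ x ∈ N₁, cmap x Z ≤ B) → A ≤ B := by
    intro B hB
    rw [hA, map_le_iff_le_comap]
    refine (Subgroup.closure_le _).mpr ?_
    intro y hy
    obtain ⟨z, hz, hzy⟩ := Group.mem_conjugatesOfSet_iff.mp hy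
    obtain ⟨c, rfl⟩ := isConj_iff.mp hzy
    exact hB c c.2 ⟨z, hz, rfl⟩
  have hAS : A ≤ (S : Subgroup G) := hAle _ fun x hx =>
    ((cmap_mono x (hZ.trans inf_le_left)).trans (mem_normalizer_iff_cmap.mp (hN₁ ▸ hx)).le).trans hV1S
  have hAN : N₁ ≤ normalizer (A : Set G) := by
    intro y hy
    refine mem_normalizer_of_cmap_le ?_
    have := hAle ((A.comap (MulAut.conj y).toMonoidHom)) fun x hx => by
      rw [← map_le_iff_le_comap]
      exact (cmap_mul y x Z).ge.trans (hgen _ (mul_mem hy hx))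
    exact map_le_iff_le_comap.mpr this
  have hAN2 : N₂ ≤ normalizer (A : Set G) := by
    intro y hy
    refine mem_normalizer_of_cmap_le ?_
    have := hAle ((A.comap (MulAut.conj y).toMonoidHom)) fun x hx => by
      rw [← map_le_iff_le_comap]
      obtain ⟨d, hd, e⟩ := o1 x (hN₁ ▸ hx)
      rw [e]
      refine (cmap_mul y d Z).ge.trans ?_
      obtain ⟨d', hd', e'⟩ := o2 _ (mul_mem hy hd.2)
      rw [e']
      exact hgen d' (hN₁ ▸ hd'.2)
    exact map_le_iff_le_comap.mpr this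
  have hgenS : ∀ x ∈ N₁, cmap x Z ≤ centralizer (A : Set G) := fun x hx => by
    rw [le_centralizer_iff]
    refine hAle _ fun x' hx' => ?_
    rw [le_centralizer_iff]
    intro y hy
    refine mem_centralizer_iff.mpr fun w hw => ?_
    -- `cmap x Z` is central in `V₁`, which contains `cmap x' Z`
    have hwV : w ∈ V₁ := (mem_normalizer_iff_cmap.mp (hN₁ ▸ hx')).le (cmap_mono x' (hZ.trans inf_le_left) hw)
    obtain ⟨z, hz, rfl⟩ := hy
    have hw' : x⁻¹ * w * x ∈ (S : Subgroup G) := hV1S (by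
      have := (mem_normalizer_iff.mp (hN₁ ▸ inv_mem hx : x⁻¹ ∈ normalizer (V₁ : Set G)) w).mp hwV
      rwa [inv_inv] at this)
    have := mem_centralizer_iff.mp (zeta_le _ hz).2 _ hw'
    show w * (x * z * x⁻¹) = x * z * x⁻¹ * w
    calc w * (x * z * x⁻¹) = x * (x⁻¹ * w * x * z) * x⁻¹ := by group
      _ = x * (z * (x⁻¹ * w * x)) * x⁻¹ := by rw [this]
      _ = x * z * x⁻¹ * w := by group
  have hab : IsMulCommutative A := by
    have h : A ≤ centralizer (A : Set G) := hAle _ hgenS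
    exact ⟨⟨fun a b => Subtype.ext (mem_centralizer_iff.mp (h b.2) a a.2)⟩⟩
  have hel : Cfsg.IsElementaryAbelian p A := by
    refine ⟨hab, fun a ha => ?_⟩
    let Ap : Subgroup G :=
      { carrier := {a | a ∈ A ∧ a ^ p = 1}
        one_mem' := ⟨one_mem _, one_pow p⟩
        mul_mem' := fun {a b} ha hb => ⟨mul_mem ha.1 hb.1, by
          have hc : Commute a b := congrArg Subtype.val (hab.is_comm.comm (⟨a, ha.1⟩ : A) ⟨b, hb.1⟩)
          rw [hc.mul_pow, ha.2, hb.2, one_mul]⟩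
        inv_mem' := fun {a} ha => ⟨inv_mem ha.1, by rw [inv_pow, ha.2, inv_one]⟩ }
    refine (hAle Ap (fun x hx => ?_) ha).2
    rw [cmap, map_le_iff_le_comap]
    refine (Subgroup.closure_le _).mpr fun z hz => ?_
    refine ⟨hgen x hx ⟨z, subset_closure hz, rfl⟩, ?_⟩
    show (x * z * x⁻¹) ^ p = 1
    rw [conj_pow, hz.2, mul_one, mul_inv_cancel]
  have hctl : ∀ (B : Set G), B ⊆ (S : Subgroup G) → ∀ g : G, (fun a => g * a * g⁻¹) '' B ⊆ (S : Subgroup G) →
      ∃ y ∈ normalizer (A : Set G), ∀ a ∈ B, g * a * g⁻¹ = y * a * y⁻¹ := by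
    intro B hB g hg
    obtain ⟨c, hc, he⟩ := ConjFunctorControl.reach_of_controls
      (fun W hW => by
        rcases hW with rfl | rfl
        · exact isConjugacyFunctor_induced hW₁
        · exact isConjugacyFunctor_induced hW₂)
      hfam (isSylowIn_top S) (Subgroup.closure B) ((closure_le _).mpr hB) g (mem_top g)
      (ConjFunctorControl.subset_cmap_iff.mp hg)
    refine ⟨c, ?_, fun a ha => (he a (subset_closure ha)).symm⟩
    clear he
    induction hc with
    | refl => exact one_mem _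
    | @tail b b' _ hb ih =>
      obtain ⟨⟨W', hW', hm⟩, -⟩ := hb
      have hstep : b' * b⁻¹ ∈ normalizer (A : Set G) := by
        rcases hW' with rfl | rfl
        · exact hAN (hN₁ ▸ (mem_inf.mp hm).2)
        · exact hAN2 (mem_inf.mp hm).2
      simpa using mul_mem hstep ih
  refine ⟨hAS, hel, ⟨hAS, fun a ha g hg => ?_⟩, S, hAS, fun B hB => ⟨hB, fun g hg => hctl B hB g hg⟩⟩
  obtain ⟨y, hy, he⟩ := hctl {a} (Set.singleton_subset_iff.mpr (hAS ha)) g
    (by rintro _ ⟨b, rfl, rfl⟩; exact hg)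
  rw [he a rfl]
  exact (mem_normalizer_iff.mp hy a).mp ha

/-- Let p be a prime, G a finite group with Sylow p-subgroup S, and W₁, W₂ two isomorphism-invariant p-group functors (W assigns to every group Q a subgroup W(Q), nontrivial whenever Q is a nontrivial finite p-group, and every isomorphism from a finite p-group Q onto a group R carries W(Q) onto W(R)). Suppose that G* = C_{G*}(Ω₁Z(S*)) N_{G*}(W₁(S*)) = C_{G*}(Ω₁Z(S*)) N_{G*}(W₂(S*)) = N_{G*}(W₁(S*)) N_{G*}(W₂(S*)) whenever G* = K/R is a section of G with C_{G*}(O_p(G*)) ≤ O_p(G*) and S* is a Sylow p-subgroup of G*, where Ω₁Z denotes the subgroup generated by the elements of order dividing p in the centre. Suppose also Ω₁Z(S) ≤ W₁(S) ∩ W₂(S), and let A be the normal closure of Ω₁Z(S) in N_G(W₁(S)). Then A is an elementary abelian subgroup of S, strongly closed in S with respect to G, and A controls strong fusion in G. -/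
theorem result {G : Type u} [Group G] [Finite G] {p : ℕ} [Fact p.Prime] (S : Sylow p G) (W₁ W₂ : ∀ (Q : Type u) [Group Q], Subgroup Q) (hW₁ : Cfsg.IsCharPFunctor.{u} p W₁) (hW₂ : Cfsg.IsCharPFunctor.{u} p W₂) (hfac : ∀ (K R : Subgroup G) [hR : (R.subgroupOf K).Normal], Subgroup.centralizer ((Cfsg.pCore p (↥K ⧸ R.subgroupOf K) : Subgroup (↥K ⧸ R.subgroupOf K)) : Set (↥K ⧸ R.subgroupOf K)) ≤ Cfsg.pCore p (↥K ⧸ R.subgroupOf K) → ∀ T : Sylow p (↥K ⧸ R.subgroupOf K), (∀ x : (↥K ⧸ R.subgroupOf K), ∃ a ∈ Subgroup.centralizer ((Cfsg.omegaOne p ((T : Subgroup (↥K ⧸ R.subgroupOf K)) ⊓ Subgroup.centralizer (((T : Subgroup (↥K ⧸ R.subgroupOf K)) : Subgroup (↥K ⧸ R.subgroupOf K)) : Set (↥K ⧸ R.subgroupOf K))) : Subgroup (↥K ⧸ R.subgroupOf K)) : Set (↥K ⧸ R.subgroupOf K)), ∃ b ∈ Subgroup.normalizer ((Cfsg.inducedFunctor (G := (↥K ⧸ R.subgroupOf K)) W₁ (T : Subgroup (↥K ⧸ R.subgroupOf K)) : Subgroup (↥K ⧸ R.subgroupOf K)) : Set (↥K ⧸ R.subgroupOf K)),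 x = a * b) ∧ (∀ x : (↥K ⧸ R.subgroupOf K), ∃ a ∈ Subgroup.centralizer ((Cfsg.omegaOne p ((T : Subgroup (↥K ⧸ R.subgroupOf K)) ⊓ Subgroup.centralizer (((T : Subgroup (↥K ⧸ R.subgroupOf K)) : Subgroup (↥K ⧸ R.subgroupOf K)) : Set (↥K ⧸ R.subgroupOf K))) : Subgroup (↥K ⧸ R.subgroupOf K)) : Set (↥K ⧸ R.subgroupOf K)), ∃ b ∈ Subgroup.normalizer ((Cfsg.inducedFunctor (G := (↥K ⧸ R.subgroupOf K)) W₂ (T : Subgroup (↥K ⧸ R.subgroupOf K)) : Subgroup (↥K ⧸ R.subgroupOf K)) : Set (↥K ⧸ R.subgroupOf K)), x = a * b) ∧ (∀ x : (↥K ⧸ R.subgroupOf K), ∃ a ∈ Subgroup.normalizer ((Cfsg.inducedFunctor (G := (↥K ⧸ R.subgroupOf K)) W₁ (T : Subgroup (↥K ⧸ R.subgroupOf K)) : Subgroup (↥K ⧸ R.subgroupOf K)) : Set (↥K ⧸ R.subgroupOf K)), ∃ b ∈ Subgroup.normalizer ((Cfsg.inducedFunctor (G := (↥K ⧸ R.subgroupOf K)) W₂ (T : Subgroup (↥K ⧸ R.subgroupOf K)) : Subgroup (↥K ⧸ R.subgroupOf K)) : Set (↥K ⧸ R.subgroupOf K)), x = a * b)) (hZ : Cfsg.omegaOne p ((S : Subgroup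 G) ⊓ Subgroup.centralizer (((S : Subgroup G) : Subgroup G) : Set G)) ≤ Cfsg.inducedFunctor (G := G) W₁ (S : Subgroup G) ⊓ Cfsg.inducedFunctor (G := G) W₂ (S : Subgroup G)) (N₁ : Subgroup G) (hN₁ : N₁ = Subgroup.normalizer ((Cfsg.inducedFunctor (G := G) W₁ (S : Subgroup G) : Subgroup G) : Set G)) (A : Subgroup G) (hA : A = (Subgroup.normalClosure (((Cfsg.omegaOne p ((S : Subgroup G) ⊓ Subgroup.centralizer (((S : Subgroup G) : Subgroup G) : Set G))).subgroupOf N₁ : Subgroup ↥N₁) : Set ↥N₁)).map N₁.subtype) : A ≤ (S : Subgroup G) ∧ Cfsg.IsElementaryAbelian p A ∧ Cfsg.IsStronglyClosed A (S : Subgroup G) ∧ Cfsg.ControlsStrongFusion p A := by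
  refine main S hW₁ hW₂ (factor_transport hW₁ fun K R _ hc T => (hfac K R hc T).1)
    (factor_transport hW₂ fun K R _ hc T => (hfac K R hc T).2.1)
    (Cfsg.Agent.S1996.result W₁ W₂ hW₁ hW₂ fun K R _ hc T => (hfac K R hc T).2.2) hZ N₁ hN₁ A hA

end Cfsg.Agent.S1997
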