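import Cfsg.Statements.S1998
import Mathlib
import Cfsg.Agent.Lib.ConjFunctorCore
import Cfsg.Agent.Lib.ConjFunctorMain

set_option autoImplicit false
universe u
open Cfsg

namespace Cfsg.Agent.S1998

open scoped commutatorElement
open Cfsg.Agent.ConjFunctorBasic Cfsg.Agent.ConjFunctorTransfer Cfsg.Agent.ConjFunctorSection
  Cfsg.Agent.ConjFunctorMaster Cfsg.Agent.ConjFunctorCore Cfsg.Agent.HallCore Cfsg.Agent.ConjFunctorMain

variable {G : Type u} [Group G] [Finite G] {p : ℕ} [Fact p.Prime]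
  {𝓦 : Set (∀ (Q : Type u) [Group Q], Subgroup Q)}

omit [Fact p.Prime] in
/-- A central element of a Sylow subgroup lying in the derived group lies in the derived group of it. -/
theorem central_mem [Fact p.Prime] (P : Sylow p G) {x : G} (hxP : x ∈ (P : Subgroup G))
    (hc : x ∈ Subgroup.center G) (hx : x ∈ commutator G) : x ∈ ⁅(P : Subgroup G), (P : Subgroup G)⁆ := by
  let ϕ : (P : Subgroup G) →* Abelianization (P : Subgroup G) := Abelianization.of
  let τ := MonoidHom.transfer ϕ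
  have key : ∀ (k : ℕ) (g₀ : G), g₀⁻¹ * x ^ k * g₀ ∈ (P : Subgroup G) → g₀⁻¹ * x ^ k * g₀ = x ^ k := by
    intro k g₀ _
    rw [mul_assoc, ← Subgroup.mem_center_iff.1 (pow_mem hc k) g₀, ← mul_assoc, inv_mul_cancel, one_mul]
  have h0 : τ x = 1 := Abelianization.commutator_subset_ker τ hx
  rw [show τ = MonoidHom.transfer ϕ from rfl, MonoidHom.transfer_eq_pow ϕ x key] at h0
  have h1 : ϕ ⟨x, hxP⟩ ^ (P : Subgroup G).index = 1 := by
    rw [← map_pow]; exact h0
  have h2 : ϕ ⟨x, hxP⟩ = 1 := by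
    obtain ⟨k, hk⟩ := P.isPGroup' ⟨x, hxP⟩
    have hcop : Nat.Coprime (p ^ k) (P : Subgroup G).index :=
      Nat.Coprime.pow_left k ((Fact.out : p.Prime).coprime_iff_not_dvd.2 P.not_dvd_index)
    have h3 : ϕ ⟨x, hxP⟩ ^ p ^ k = 1 := by rw [← map_pow, hk, map_one]
    rw [← pow_one (ϕ ⟨x, hxP⟩), ← hcop]
    exact pow_gcd_eq_one.2 ⟨h3, h1⟩
  have h4 : (⟨x, hxP⟩ : (P : Subgroup G)) ∈ commutator (P : Subgroup G) := by
    rwa [← Abelianization.ker_of]
  rw [← Subgroup.map_subtype_commutator]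
  exact ⟨_, h4, rfl⟩

theorem fam_equiv (h𝓦 : ∀ W ∈ 𝓦, Cfsg.IsCharPFunctor.{u} p W) {H : Type u} [Group H] [Finite H]
    (f : G →* H) (hf : Function.Injective f) (h : Cfsg.FamilyControlsTransferIn p (img 𝓦 G) ⊤) :
    Cfsg.FamilyControlsTransferIn p (img 𝓦 H) f.range := by
  obtain ⟨T, hT, hle⟩ := famTransfer_iff.mp h
  have h2 := Subgroup.map_mono (f := f) hle
  rw [Subgroup.map_inf _ _ _ hf, Subgroup.map_commutator, ← MonoidHom.range_eq_map] at h2
  exact famTransfer_iff.mpr ⟨T.map f, by rw [MonoidHom.range_eq_map]; exact isSylowIn_map f hf hT,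
    h2.trans (map_tgt_le h𝓦 f hf hT.2.1)⟩

/-- Let p be a prime, G a finite group with Sylow p-subgroup S, and 𝓦 a nonempty set of isomorphism-invariant p-group functors (W assigns to every group Q a subgroup W(Q), nontrivial whenever Q is a nontrivial finite p-group, and every isomorphism from a finite p-group Q onto a group R carries W(Q) onto W(R)). Suppose the induced conjugacy functors control transfer in every section of G other than G itself, but not in G. Let T be the subgroup generated by the S ∩ (N_G(W(S)))', W ∈ 𝓦, and M = N_G(T ∩ O_p(G)). Then: C_G(O_p(G)) ≤ O_p(G); M is a proper subgroup of G containing every proper subgroup of G that contains S (the unique maximal subgroup over S); [O_p(G), M] ≤ O_p(G) ∩ M' ≤ O_p(G) ∩ T; and every element u of S outside O_p(G) satisfies [X, u, …, u] ≰ Y with p − 1 entries u, for some chief factor X/Y of G with X ≤ O_p(G). -/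
theorem result {G : Type u} [Group G] [Finite G] {p : ℕ} [Fact p.Prime] (S : Sylow p G) (𝓦 : Set (∀ (Q : Type u) [Group Q], Subgroup Q)) (h𝓦 : ∀ W ∈ 𝓦, Cfsg.IsCharPFunctor.{u} p W) (hne : 𝓦.Nonempty) (hsec : ∀ (K R : Subgroup G) [hR : (R.subgroupOf K).Normal], (K = ⊤ → R ≠ ⊥) → Cfsg.FamilyControlsTransferIn p ((fun W => Cfsg.inducedFunctor (G := (↥K ⧸ R.subgroupOf K)) W) '' 𝓦) ⊤) (hG : ¬ Cfsg.FamilyControlsTransferIn p ((fun W => Cfsg.inducedFunctor (G := G) W) '' 𝓦) ⊤) (T M : Subgroup G) (hT : T = (⨆ W ∈ 𝓦, (S : Subgroup G) ⊓ ⁅Subgroup.normalizer ((Cfsg.inducedFunctor (G := G) W (S : Subgroup G) : Subgroup G) : Set G), Subgroup.normalizer ((Cfsg.inducedFunctor (G := G) W (S : Subgroup G) : Subgroup G) : Set G)⁆)) (hM : M = Subgroup.normalizer ((T ⊓ Cfsg.pCore p G : Subgroup G) : Set G)) : Subgroup.centralizer ((Cfsg.pCore p G : Subgroup G) : Set G) ≤ Cfsg.pCore p G ∧ (M ≠ ⊤ ∧ ∀ H : Subgroup G, (S : Subgroup G) ≤ H → H ≠ ⊤ → H ≤ M) ∧ (⁅Cfsg.pCore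 p G, M⁆ ≤ Cfsg.pCore p G ⊓ ⁅M, M⁆ ∧ Cfsg.pCore p G ⊓ ⁅M, M⁆ ≤ Cfsg.pCore p G ⊓ T) ∧ ∀ u : G, u ∈ (S : Subgroup G) → u ∉ Cfsg.pCore p G → ∃ U V : Subgroup G, Cfsg.IsChiefFactor U V ∧ U ≤ Cfsg.pCore p G ∧ ¬ Cfsg.iterCommutator U (Subgroup.zpowers u) (p - 1) ≤ V := by
  classical
  set Z := Cfsg.pCore p G with hZdef
  haveI : Z.Normal := pCore_normal p G
  obtain ⟨W₀, hW₀⟩ := hne
  have hZS : Z ≤ (S : Subgroup G) := (isPGroup_pCore p G).le_sylow_of_normal S
  have hsubT : ∀ K : Subgroup G, K ≠ ⊤ → Cfsg.FamilyControlsTransferIn p (img 𝓦 G) K := by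
    intro K hK
    haveI : (⊥ : Subgroup G).Normal := inferInstance
    have h := hsec K ⊥ (fun h => absurd h hK)
    let e : (↥K ⧸ (⊥ : Subgroup G).subgroupOf K) ≃* K :=
      (QuotientGroup.quotientMulEquivOfEq (Subgroup.bot_subgroupOf K)).trans QuotientGroup.quotientBot
    have h' := fam_equiv h𝓦 (K.subtype.comp e.toMonoidHom) (K.subtype_injective.comp e.injective) h
    rwa [MonoidHom.range_comp, MonoidHom.range_eq_top.2 e.surjective, ← MonoidHom.range_eq_map,
      Subgroup.range_subtype] at h'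
  have hquot : ∀ (N : Subgroup G) [N.Normal], N ≠ ⊥ → Cfsg.FamilyControlsTransferIn p (img 𝓦 (G ⧸ N)) ⊤ := by
    intro N _ hN
    have h := hsec ⊤ N (fun _ => hN)
    let e : (↥(⊤ : Subgroup G) ⧸ N.subgroupOf ⊤) ≃* G ⧸ N :=
      QuotientGroup.congr _ _ Subgroup.topEquiv
        (Subgroup.map_comap_eq_self_of_surjective (f := (Subgroup.topEquiv (G := G)).toMonoidHom)
          Subgroup.topEquiv.surjective N)
    have h' := fam_equiv h𝓦 e.toMonoidHom e.injective h
    have hr : e.toMonoidHom.range = ⊤ := MonoidHom.range_eq_top.2 e.surjective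
    rwa [hr] at h'
  have hc : Constr p G := by
    by_contra hc
    refine hG (transfer_main h𝓦 fun K R hR hcon => ?_)
    by_cases hKR : K = ⊤ → R ≠ ⊥
    · exact hsec K R hKR
    · push Not at hKR
      obtain ⟨rfl, rfl⟩ := hKR
      exact absurd (constr_congr ((QuotientGroup.quotientMulEquivOfEq (Subgroup.bot_subgroupOf ⊤)).trans
        (QuotientGroup.quotientBot.trans Subgroup.topEquiv)) hcon) hc
  have hT' : T = tgt (img 𝓦 G) (S : Subgroup G) ⊤ := by
    rw [hT]
    simp only [tgt, img, iSup_image, top_inf_eq]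
  have hfail : ¬ Z ⊓ ⁅(⊤ : Subgroup G), ⊤⁆ ≤ T := fun h =>
    hG (famTransfer_iff.mpr ⟨(S : Subgroup G), isSylowIn_top S,
      transfer_of_pCore h𝓦 hW₀ S hc hsubT (fun N _ hN => hquot N hN) (hT' ▸ h)⟩)
  have hnn : ¬ (S : Subgroup G) ≤ Z := by
    intro h
    apply hG
    refine famTransfer_iff.mpr ⟨(S : Subgroup G), isSylowIn_top S,
      le_trans ?_ (le_tgt (W := Cfsg.inducedFunctor (G := G) W₀) ⟨W₀, hW₀, rfl⟩)⟩
    have hn : Subgroup.normalizer ((Cfsg.inducedFunctor (G := G) W₀ (S : Subgroup G) : Subgroup G) : Set G) = ⊤ := by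
      refine top_le_iff.mp (le_trans ?_ (normalizer_le_cfun (isConjugacyFunctor_induced (h𝓦 W₀ hW₀)) S.isPGroup'))
      rw [show (S : Subgroup G) = Z from le_antisymm h hZS, Subgroup.normalizer_eq_top]
    rw [hn, top_inf_eq]
  have hder : ∀ K : Subgroup G, K ≠ ⊤ → (S : Subgroup G) ≤ K → (S : Subgroup G) ⊓ ⁅K, K⁆ ≤ T := by
    intro K hK hSK
    rw [hT']
    exact (inf_commutator_le_tgt (isConjugacyFunctor_img h𝓦) (hsubT K hK)
      ((isSylowIn_top S).mono hSK le_top)).trans (iSup₂_mono fun W _ => inf_le_inf_left _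
        (Subgroup.commutator_mono (inf_le_inf_right _ le_top) (inf_le_inf_right _ le_top)))
  set Z₀ := T ⊓ Z with hZ₀
  have hcom : ∀ K : Subgroup G, K ≠ ⊤ → (S : Subgroup G) ≤ K → ⁅Z, K⁆ ≤ Z₀ := by
    intro K hK hSK
    have h1 : ⁅Z, K⁆ ≤ ⁅K, K⁆ := Subgroup.commutator_mono (hZS.trans hSK) le_rfl
    have h2 : ⁅Z, K⁆ ≤ Z := Subgroup.commutator_le_left Z K
    exact le_inf ((le_inf (h2.trans hZS) h1).trans (hder K hK hSK)) h2
  have hover : ∀ K : Subgroup G, (S : Subgroup G) ≤ K → K ≠ ⊤ → K ≤ M := by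
    intro K hSK hK k hk
    rw [hM]
    refine mem_normalizer_of_cmap_le (cmap_le_iff.2 fun t ht => ?_)
    have h3 : ⁅t, k⁆ ∈ Z₀ := hcom K hK hSK (Subgroup.commutator_mem_commutator ht.2 hk)
    rw [show k * t * k⁻¹ = (t⁻¹ * ⁅t, k⁆)⁻¹ by simp only [commutatorElement_def]; group]
    exact inv_mem (mul_mem (inv_mem ht) h3)
  have hSne : (S : Subgroup G) ≠ ⊤ := by
    intro h
    apply hnn
    haveI : (S : Subgroup G).Normal := by rw [h]; infer_instance
    exact le_pCore S.isPGroup'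
  have hMne : M ≠ ⊤ := by
    intro htop
    haveI hn0 : Z₀.Normal := by
      apply Subgroup.normalizer_eq_top_iff.mp
      rw [← hM, htop]
    set π := QuotientGroup.mk' Z₀
    let C : Subgroup G := (Subgroup.centralizer ((Z.map π : Subgroup (G ⧸ Z₀)) : Set (G ⧸ Z₀))).comap π
    have hKC : ∀ K : Subgroup G, K ≠ ⊤ → (S : Subgroup G) ≤ K → K ≤ C := by
      intro K hK hSK k hk
      refine Subgroup.mem_centralizer_iff.2 ?_
      rintro _ ⟨z, hz, rfl⟩
      have h3 : ⁅z, k⁆ ∈ Z₀ := hcom K hK hSK (Subgroup.commutator_mem_commutator hz hk)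
      have h4 : ⁅π z, π k⁆ = 1 := by
        rw [← map_commutatorElement]; exact (QuotientGroup.eq_one_iff _).2 h3
      exact commutatorElement_eq_one_iff_mul_comm.1 h4
    haveI : (Z.map π).Normal := Subgroup.Normal.map inferInstance π (QuotientGroup.mk'_surjective _)
    haveI : C.Normal := Subgroup.Normal.comap inferInstance π
    have hSC : (S : Subgroup G) ≤ C := hKC _ hSne le_rfl
    have hC : C = ⊤ := by
      by_cases hN : Subgroup.normalizer ((S : Subgroup G) : Set G) = ⊤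
      · haveI := Subgroup.normalizer_eq_top_iff.mp hN
        exact absurd (le_pCore S.isPGroup') hnn
      · have h1 := hKC _ hN Subgroup.le_normalizer
        have h2 := Sylow.normalizer_sup_eq_top' S hSC
        exact (sup_eq_right.2 h1).symm.trans h2
    refine hfail fun z hz => ?_
    let P : Sylow p (G ⧸ Z₀) := S.mapSurjective (QuotientGroup.mk'_surjective Z₀)
    have hzc : π z ∈ Subgroup.center (G ⧸ Z₀) := Subgroup.mem_center_iff.2 fun y => by
      obtain ⟨g, rfl⟩ := QuotientGroup.mk'_surjective Z₀ y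
      exact (Subgroup.mem_centralizer_iff.1 (show g ∈ C from hC ▸ Subgroup.mem_top g) _ ⟨z, hz.1, rfl⟩).symm
    have hzd : π z ∈ commutator (G ⧸ Z₀) := by
      rw [_root_.commutator_def, ← Subgroup.map_top_of_surjective π (QuotientGroup.mk'_surjective _),
        ← Subgroup.map_commutator]
      exact ⟨z, hz.2, rfl⟩
    have h5 := central_mem P (x := π z)
      (by rw [Sylow.coe_mapSurjective]; exact ⟨z, hZS hz.1, rfl⟩) hzc hzd
    rw [Sylow.coe_mapSurjective, ← Subgroup.map_commutator] at h5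
    obtain ⟨s, hs, hse⟩ := h5
    have hsT : s ∈ T := hder _ hSne le_rfl ⟨(Subgroup.commutator_le_self (S : Subgroup G)) hs, hs⟩
    have h6 : s⁻¹ * z ∈ Z₀ := QuotientGroup.eq.mp hse
    have := mul_mem hsT h6.1
    rwa [mul_inv_cancel_left] at this
  have hSM : (S : Subgroup G) ≤ M := hover _ le_rfl hSne
  refine ⟨hc, ⟨hMne, hover⟩, ⟨?_, ?_⟩, ?_⟩
  · exact le_inf (Subgroup.commutator_le_left Z M) (Subgroup.commutator_mono (hZS.trans hSM) le_rfl)
  · exact le_inf inf_le_left ((inf_le_inf_right _ hZS).trans (hder M hMne hSM))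
  · intro u hu huZ
    by_contra hne'
    push Not at hne'
    refine hfail ?_
    rw [hT']
    exact pCore_inf_commutator_le h𝓦 S hsubT hu huZ (fun U V h1 h2 => hne' U V h1 h2)

end Cfsg.Agent.S1998
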