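import Cfsg.Statements.S1999
import Cfsg.Agent.Lib.S4FreeNoFF31
import Cfsg.Agent.Lib.FunctorQdReverse31
import Cfsg.Agent.S2761

set_option autoImplicit false
open Cfsg

namespace Cfsg.Agent.S1999

/-- Let G be a finite group. The symmetric group of degree 4 is not involved in G if and only if, in every section K/R of G, the pair of conjugacy functors {Z, J_e} controls strong fusion (for the prime 2): here Z(P) is the centre and J_e(P) the subgroup generated by the elementary abelian subgroups of P of largest order, and control by the pair means that 2-fusion of tuples inside a Sylow 2-subgroup T of the section is generated, staying inside T, by conjugation inside N(Z(T)) and N(J_e(T)). -/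
theorem result {G : Type*} [Group G] [Finite G] : ¬ Cfsg.Involves (Equiv.Perm (Fin 4)) G ↔ ∀ (K R : Subgroup G) [hR : (R.subgroupOf K).Normal], Cfsg.FamilyControlsStrongFusionIn 2 ({fun P : Subgroup (↥K ⧸ R.subgroupOf K) => P ⊓ Subgroup.centralizer ((P : Subgroup (↥K ⧸ R.subgroupOf K)) : Set (↥K ⧸ R.subgroupOf K)), fun P : Subgroup (↥K ⧸ R.subgroupOf K) => Cfsg.thompsonSubgroupOf 2 P} : Set (Subgroup (↥K ⧸ R.subgroupOf K) → Subgroup (↥K ⧸ R.subgroupOf K))) ⊤ := by
  haveI : Fact (Nat.Prime 2) := ⟨Nat.prime_two⟩
  have himg : ∀ (X : Type _) [Group X],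
      ({fun P : Subgroup X => P ⊓ Subgroup.centralizer (P : Set X),
        fun P : Subgroup X => Cfsg.thompsonSubgroupOf 2 P} : Set (Subgroup X → Subgroup X)) =
        ConjFunctorSection.img S4FreePair31.pair X := fun X _ => by
    show _ = (fun W => Cfsg.inducedFunctor (G := X) W) '' ({S4FreePair31.zFun, S4FreePair31.jFun} : Set _)
    rw [Set.image_pair]
    congr 1
    exact funext fun P => (S4FreePair31.zFun_induced P).symm
  constructor
  · intro h K R hR
    rw [himg]
    refine S4FreePair31.controls_pair S4FreeNoFF31.no_ff _ _ le_rfl fun hs => h ?_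
    exact FusionQd.involves_of_injective (f := K.subtype) K.subtype_injective
      (FusionQd.involves_of_surjective (QuotientGroup.mk'_surjective _) hs)
  · rintro h ⟨K, R, hR, ⟨e⟩⟩
    obtain ⟨e'⟩ := S2761.result
    refine FunctorQdReverse31.not_family_controls (p := 2) (e.trans e'.symm) S4FreePair31.isChar_pair ?_
    have := h K R
    rwa [himg] at this

end Cfsg.Agent.S1999
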