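import Cfsg.Statements.S2000
import Cfsg.Agent.Lib.S4FreeNoFF31
import Cfsg.Agent.Lib.FunctorQdReverse31
import Cfsg.Agent.Lib.ConjFunctorKMain
import Cfsg.Agent.Lib.QdStability56
import Cfsg.Agent.S2761

set_option autoImplicit false
universe u
open Cfsg

namespace Cfsg.Agent.S2000

/-- Let p be a prime and G a finite group. Then Qd(p) (the natural semidirect product of an elementary abelian group of order p² by SL₂(p)) is not involved in G if and only if there is a set 𝓦 of isomorphism-invariant p-group functors (each nontrivial on nontrivial finite p-groups and carried onto W(R) by every isomorphism from a finite p-group Q onto R, hence with characteristic values on finite p-groups) whose induced conjugacy functors control strong fusion in every section of G. -/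
theorem result {G : Type u} [Group G] [Finite G] {p : ℕ} [Fact p.Prime] : ¬ Cfsg.Involves ↥(Cfsg.qd p) G ↔ ∃ 𝓦 : Set (∀ (Q : Type u) [Group Q], Subgroup Q), (∀ W ∈ 𝓦, Cfsg.IsCharPFunctor.{u} p W) ∧ ∀ (K R : Subgroup G) [hR : (R.subgroupOf K).Normal], Cfsg.FamilyControlsStrongFusionIn p ((fun W => Cfsg.inducedFunctor (G := (↥K ⧸ R.subgroupOf K)) W) '' 𝓦) ⊤ := by
  constructor
  · intro h
    by_cases hp : p = 2
    · subst hp
      refine ⟨S4FreePair31.pair, S4FreePair31.isChar_pair, fun K R hR => ?_⟩
      refine S4FreePair31.controls_pair S4FreeNoFF31.no_ff _ _ le_rfl fun hs => h ?_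
      obtain ⟨e⟩ := S2761.result
      obtain ⟨L, f, hf⟩ := FusionQd.exists_hom_of_involves
        (FusionQd.involves_of_injective (f := K.subtype) K.subtype_injective
          (FusionQd.involves_of_surjective (QuotientGroup.mk'_surjective _) hs))
      exact FusionQd.involves_of_hom (e.symm.toMonoidHom.comp f) (e.symm.surjective.comp hf)
    · refine ⟨{Cfsg.kInfLower}, fun W hW => ?_, fun K R hR => ?_⟩
      · rw [Set.mem_singleton_iff.mp hW]; exact ConjFunctorKMain.isCharPFunctor_kInfLower
      refine ConjFunctorMaster.fusion_master (p := p) (𝓦 := {Cfsg.kInfLower})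
        (by simpa using ConjFunctorKMain.isCharPFunctor_kInfLower) (Set.singleton_nonempty _)
        fun H _ _ hH hc => ?_
      have hst : ∀ (N : Subgroup H) [N.Normal], Cfsg.IsNormalizerPStable p (H ⧸ N) := fun N _ =>
        QdStability56.isNormalizerPStable_of_free hp fun hs => by
          obtain ⟨L, R', hR', ⟨e⟩⟩ := QuadraticQd.exists_section hs
          have h1 : Cfsg.Involves ↥(Cfsg.qd p) H :=
            FusionQd.involves_of_surjective (QuotientGroup.mk'_surjective N) ⟨L, R', hR', ⟨e⟩⟩
          obtain ⟨L', f, hf⟩ := FusionQd.exists_hom_of_involves hH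
          exact h (FusionQd.involves_of_injective (f := K.subtype) K.subtype_injective
            (FusionQd.involves_of_surjective (QuotientGroup.mk'_surjective _)
              (FusionQd.involves_of_injective (f := L'.subtype) L'.subtype_injective
                (FusionQd.involves_of_surjective hf h1))))
      obtain ⟨T⟩ : Nonempty (Sylow p H) := inferInstance
      have hn : (Cfsg.inducedFunctor (G := H) Cfsg.kInfLower (T : Subgroup H)).Normal := by
        by_contra hnn
        obtain ⟨g, -, -, -, -, hg⟩ := ConjFunctorKMain.witness T (Or.inl hnn)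
        obtain ⟨N, hN, hns⟩ := hg hc
        haveI := hN
        exact hns (hst N)
      refine ConjFunctorControl.famControls_iff.mpr
        ⟨(T : Subgroup H), ConjFunctorBasic.isSylowIn_top T, fun A hA g _ hgA => ?_⟩
      refine ConjFunctorControl.reach_single
        (show Cfsg.inducedFunctor (G := H) Cfsg.kInfLower ∈ ConjFunctorSection.img {Cfsg.kInfLower} H from
          ⟨Cfsg.kInfLower, Set.mem_singleton _, rfl⟩) ⟨Subgroup.mem_top g, ?_⟩ hA hgA
      rw [@Subgroup.normalizer_eq_top _ _ _ hn]
      exact Subgroup.mem_top g
  · rintro ⟨𝓦, h𝓦, hctl⟩ ⟨K, R, hR, ⟨e⟩⟩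
    exact FunctorQdReverse31.not_family_controls e h𝓦 (hctl K R)

end Cfsg.Agent.S2000
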