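import Cfsg.Statements.S2001
import Cfsg.Agent.Lib.FunctorLocalGlobal

set_option autoImplicit false
open Cfsg Cfsg.Agent.FunctorLocalGlobal

namespace Cfsg.Agent.S2001

/-- Let p be a prime dividing the order of the finite group G, P a Sylow p-subgroup, W a conjugacy functor for p on G with Z(H) ≤ W(H) for every nontrivial p-subgroup H, and V a central functor: a conjugacy functor with V(H) ≤ Z(H), and V(H) ≤ V(K) whenever Z(H) ≤ Z(K), for nontrivial p-subgroups H, K. Say that W with V controls transfer in a subgroup L when some Sylow p-subgroup Q of L satisfies Q ∩ L' = (Q ∩ (N_L(W(Q)))')·(Q ∩ (C_L(V(Q)))') as a product of two subgroups. If W with V controls transfer in N_G(H) for every subgroup H with Z(P) ≤ H ≤ P, then W with V controls transfer in G. -/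
theorem result {G : Type*} [Group G] [Finite G] {p : ℕ} [Fact p.Prime] (hdiv : p ∣ Nat.card G) (P : Sylow p G) (W V : Subgroup G → Subgroup G) (hW : Cfsg.IsConjugacyFunctor p W) (hV : Cfsg.IsConjugacyFunctor p V) (hWZ : ∀ H : Subgroup G, IsPGroup p ↥H → H ⊓ Subgroup.centralizer ((H : Subgroup G) : Set G) ≤ W H) (hVZ : ∀ H : Subgroup G, IsPGroup p ↥H → V H ≤ H ⊓ Subgroup.centralizer ((H : Subgroup G) : Set G)) (hVmono : ∀ H K : Subgroup G, IsPGroup p ↥H → IsPGroup p ↥K → H ≠ ⊥ → K ≠ ⊥ → H ⊓ Subgroup.centralizer ((H : Subgroup G) : Set G) ≤ K ⊓ Subgroup.centralizer ((K : Subgroup G) : Set G) → V H ≤ V K) (hloc : ∀ H : Subgroup G, (P : Subgroup G) ⊓ Subgroup.centralizer (((P : Subgroup G) : Subgroup G) : Set G) ≤ H → H ≤ (P : Subgroup G) → ∃ Q : Subgroup G, Q ≤ Subgroup.normalizer ((H : Subgroup G) : Set G) ∧ IsPGroup p ↥Q ∧ ¬ p ∣ (Q).relIndex (Subgroup.normalizer ((H : Subgroup G) : Set G)) ∧ ∀ x : G, x ∈ Q ⊓ ⁅Subgroup.normalizer ((H : Subgroup G) : Set G), Subgroup.normalizer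 ((H : Subgroup G) : Set G)⁆ ↔ ∃ a ∈ Q ⊓ ⁅Subgroup.normalizer ((H : Subgroup G) : Set G) ⊓ Subgroup.normalizer ((W Q : Subgroup G) : Set G), Subgroup.normalizer ((H : Subgroup G) : Set G) ⊓ Subgroup.normalizer ((W Q : Subgroup G) : Set G)⁆, ∃ b ∈ Q ⊓ ⁅Subgroup.normalizer ((H : Subgroup G) : Set G) ⊓ Subgroup.centralizer ((V Q : Subgroup G) : Set G), Subgroup.normalizer ((H : Subgroup G) : Set G) ⊓ Subgroup.centralizer ((V Q : Subgroup G) : Set G)⁆, x = a * b) : ∃ Q : Subgroup G, IsPGroup p ↥Q ∧ ¬ p ∣ Q.index ∧ ∀ x : G, x ∈ Q ⊓ commutator G ↔ ∃ a ∈ Q ⊓ ⁅Subgroup.normalizer ((W Q : Subgroup G) : Set G), Subgroup.normalizer ((W Q : Subgroup G) : Set G)⁆, ∃ b ∈ Q ⊓ ⁅Subgroup.centralizer ((V Q : Subgroup G) : Set G), Subgroup.centralizer ((V Q : Subgroup G) : Set G)⁆, x = a * b := by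
  set M1 := Subgroup.normalizer ((W (P : Subgroup G) : Subgroup G) : Set G) with hM1
  set M2 := Subgroup.centralizer ((V (P : Subgroup G) : Subgroup G) : Set G) with hM2
  set F1 := (P : Subgroup G) ⊓ ⁅M1, M1⁆ with hF1
  set F2 := (P : Subgroup G) ⊓ ⁅M2, M2⁆ with hF2
  have hFP : F1 ⊔ F2 ≤ (P : Subgroup G) := sup_le inf_le_left inf_le_left
  have hPM1 : Subgroup.normalizer ((P : Subgroup G) : Set G) ≤ M1 :=
    normalizer_le_functor hW P.isPGroup'
  let Good : Subgroup G → G → Prop := fun X a => ∀ x ∈ X, x⁻¹ * (a⁻¹ * x * a) ∈ F1 ⊔ F2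
  let LocOK : Subgroup G → Prop := fun H =>
    (P : Subgroup G) ⊓ Subgroup.normalizer (H : Set G) ⊓
      ⁅Subgroup.normalizer (H : Set G), Subgroup.normalizer (H : Set G)⁆ ≤ F1 ⊔ F2
  obtain ⟨-, hall⟩ := local_to_global P W hW hWZ Good LocOK
    (fun {X Y a} h hXY _ _ x hx => h x (hXY hx))
    (fun {X a b} _ h1 h2 x hx => by
      have h3 := (F1 ⊔ F2).mul_mem (h1 x hx) (h2 _ (AlperinTame.conj_mem_cmap hx))
      simpa [mul_assoc] using h3)
    (fun {X c} _ hc x hx => by
      have h := Subgroup.mem_centralizer_iff.1 hc x hx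
      have : x⁻¹ * (c⁻¹ * x * c) = 1 := by
        calc x⁻¹ * (c⁻¹ * x * c) = x⁻¹ * (c⁻¹ * (x * c)) := by group
          _ = x⁻¹ * (c⁻¹ * (c * x)) := by rw [h]
          _ = 1 := by group
      rw [this]; exact one_mem _)
    (fun {X n} hX hn x hx => by
      refine Subgroup.mem_sup_left ⟨(P : Subgroup G).mul_mem (inv_mem (hX hx))
        ((Subgroup.mem_normalizer_iff''.1 hn x).1 (hX hx)), ?_⟩
      have := Subgroup.commutator_mem_commutator (inv_mem (hPM1 (Subgroup.le_normalizer (hX hx))))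
        (inv_mem (hPM1 hn))
      simpa [commutatorElement_def, mul_assoc] using this)
    (fun H _ hok X a hX ha hXa x hx => by
      have hxa := hXa (AlperinTame.conj_mem_cmap hx)
      refine hok ⟨Subgroup.mul_mem _ (inv_mem (hX hx)) hxa, ?_⟩
      have := Subgroup.commutator_mem_commutator (inv_mem (hX hx).2) (inv_mem ha)
      simpa [commutatorElement_def, mul_assoc] using this)
    (fun H hH hrec z hz => by
      obtain ⟨hHP, hZH, hfull, hcen⟩ := hH
      set L := Subgroup.normalizer (H : Set G) with hL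
      set T := (P : Subgroup G) ⊓ L with hT
      have hTp : IsPGroup p T := P.isPGroup'.to_le inf_le_left
      obtain ⟨Q, hQL, hQp, hQi, hQ⟩ := hloc H hZH hHP
      obtain ⟨l, hl, hlQ'⟩ := exists_conj_sylow_in hQL (inf_le_right : T ≤ L) hQp hTp hQi hfull
      have hlQ : AlperinTame.cmap Q l = T := hlQ'
      have hLl : AlperinTame.cmap L l = L :=
        AlperinTame.cmap_eq_self_iff.2 (Subgroup.le_normalizer hl)
      have hzQ : l * z * l⁻¹ ∈ Q ⊓ ⁅L, L⁆ := by
        rw [← AlperinTame.mem_cmap, cmap_inf, cmap_commutator, hLl, hlQ]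
        exact hz
      obtain ⟨a, ha, b, hb, hab⟩ := (hQ _).1 hzQ
      have ha' : l⁻¹ * a * l ∈ T ⊓ ⁅L ⊓ Subgroup.normalizer (W T : Set G), L ⊓ Subgroup.normalizer (W T : Set G)⁆ := by
        have h := AlperinTame.conj_mem_cmap (g := l) ha
        rwa [cmap_inf, cmap_commutator, cmap_inf, hLl, ← AlperinTame.cmap_normalizer,
          ← functor_cmap hW hQp, hlQ] at h
      have hb' : l⁻¹ * b * l ∈ T ⊓ ⁅L ⊓ Subgroup.centralizer (V T : Set G), L ⊓ Subgroup.centralizer (V T : Set G)⁆ := by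
        have h := AlperinTame.conj_mem_cmap (g := l) hb
        rwa [cmap_inf, cmap_commutator, cmap_inf, hLl, ← cmap_centralizer,
          ← functor_cmap hV hQp, hlQ] at h
      have hzab : z = (l⁻¹ * a * l) * (l⁻¹ * b * l) := by
        calc z = l⁻¹ * (l * z * l⁻¹) * l := by group
          _ = l⁻¹ * (a * b) * l := by rw [hab]
          _ = _ := by group
      rw [hzab]
      refine Subgroup.mul_mem _ ?_ (Subgroup.mem_sup_right ⟨hb'.1.1, Subgroup.commutator_mono
        (inf_le_right.trans (centralizer_functor_le P hdiv hVmono hcen))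
        (inf_le_right.trans (centralizer_functor_le P hdiv hVmono hcen)) hb'.2⟩)
      generalize l⁻¹ * a * l = u at ha'
      have hu : u ∈ ⁅Subgroup.normalizer (W T : Set G), Subgroup.normalizer (W T : Set G)⁆ :=
        Subgroup.commutator_mono inf_le_right inf_le_right ha'.2
      rcases eq_or_lt_of_le (show T ≤ (P : Subgroup G) from inf_le_left) with hTP | hTP
      · refine Subgroup.mem_sup_left ⟨ha'.1.1, ?_⟩
        rw [hTP] at hu
        exact hu
      · obtain ⟨g, hg, hgP, hok⟩ := hrec hTP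
        have hT2 : T ≤ (P : Subgroup G) ⊓ Subgroup.normalizer (W T : Set G) :=
          le_inf inf_le_left (Subgroup.le_normalizer.trans (normalizer_le_functor hW hTp))
        have h1 : g⁻¹ * u * g ∈ F1 ⊔ F2 := by
          refine hok ⟨⟨hgP (AlperinTame.conj_mem_cmap (hT2 ha'.1)), ?_⟩, ?_⟩
          · show _ ∈ Subgroup.normalizer _
            rw [AlperinTame.cmap_normalizer]
            exact AlperinTame.conj_mem_cmap (hT2 ha'.1).2
          · rw [AlperinTame.cmap_normalizer, ← cmap_commutator]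
            exact AlperinTame.conj_mem_cmap hu
        have h2 := hg u (hT2 ha'.1)
        have h3 := Subgroup.mul_mem _ h1 (inv_mem h2)
        simpa [mul_assoc] using h3)
  refine ⟨P, P.isPGroup', P.not_dvd_index, fun x => ⟨fun hx => ?_, ?_⟩⟩
  · have hsup : x ∈ F1 ⊔ F2 := by
      have hx' : x ∈ commutator G ⊓ (P : Subgroup G) := ⟨hx.2, hx.1⟩
      rw [Subgroup.commutator_inf_eq_focalSubgroup P, Subgroup.focalSubgroup_def] at hx'
      refine (Subgroup.closure_le _).2 ?_ hx'
      rintro _ ⟨hm, y, hy, u, rfl⟩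
      rw [commutatorElement_def] at hm ⊢
      have hy' : u * y⁻¹ * u⁻¹ ∈ (P : Subgroup G) := by
        have h := (P : Subgroup G).mul_mem (inv_mem hy) hm
        simpa [mul_assoc] using h
      have hcl : AlperinTame.cmap (Subgroup.zpowers y⁻¹) u⁻¹ ≤ (P : Subgroup G) := by
        rw [AlperinTame.cmap, MonoidHom.map_zpowers, Subgroup.zpowers_le]
        simpa [mul_assoc] using hy'
      have := hall (Subgroup.zpowers y⁻¹) (Subgroup.zpowers_le.2 (inv_mem hy)) u⁻¹ hcl y⁻¹
        (Subgroup.mem_zpowers _)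
      simpa [mul_assoc] using this
    have hnorm : F2 ≤ Subgroup.normalizer (F1 : Set G) := by
      intro y hy
      rw [← AlperinTame.cmap_eq_self_iff, hF1, cmap_inf, cmap_commutator,
        AlperinTame.cmap_eq_self_iff.2 (Subgroup.le_normalizer hy.1),
        AlperinTame.cmap_eq_self_iff.2 (Subgroup.le_normalizer (hPM1 (Subgroup.le_normalizer hy.1)))]
    rw [← SetLike.mem_coe, Subgroup.coe_mul_of_right_le_normalizer_left _ _ hnorm, Set.mem_mul] at hsup
    obtain ⟨a, ha, b, hb, hab⟩ := hsup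
    exact ⟨a, ha, b, hb, hab.symm⟩
  · rintro ⟨a, ha, b, hb, rfl⟩
    exact ⟨mul_mem ha.1 hb.1, mul_mem (Subgroup.commutator_mono le_top le_top ha.2)
      (Subgroup.commutator_mono le_top le_top hb.2)⟩

end Cfsg.Agent.S2001
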