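import Cfsg.Statements.S2002
import Cfsg.Agent.Lib.FunctorLocalGlobal

set_option autoImplicit false
open Cfsg Cfsg.Agent.FunctorLocalGlobal

namespace Cfsg.Agent.S2002

open Cfsg.Agent.AlperinTame

variable {G₀ : Type*} [Group G₀]

/-- A word in the elements of `S` whose partial conjugations keep `X` inside `P`. -/
inductive Word (P : Subgroup G₀) (S : Set G₀) : Subgroup G₀ → G₀ → Prop
  | refl (X : Subgroup G₀) : X ≤ P → Word P S X 1
  | cons (X : Subgroup G₀) (b g : G₀) : b ∈ S → X ≤ P → Word P S (cmap X b) g → Word P S X (b * g)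

lemma Word.le {P : Subgroup G₀} {S : Set G₀} {X : Subgroup G₀} {g : G₀} (h : Word P S X g) : X ≤ P := by
  cases h <;> assumption

lemma Word.trans {P : Subgroup G₀} {S : Set G₀} {X : Subgroup G₀} {g : G₀} (h : Word P S X g) :
    ∀ {k : G₀}, Word P S (cmap X g) k → Word P S X (g * k) := by
  induction h with
  | refl X _ => intro k hk; simpa using hk
  | cons X b g hb hX _ ih =>
    intro k hk
    rw [mul_assoc]
    exact Word.cons X b _ hb hX (ih (by rwa [← cmap_mul]))

lemma Word.mono {P : Subgroup G₀} {S : Set G₀} {X : Subgroup G₀} {g : G₀} (h : Word P S X g) :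
    ∀ {Y : Subgroup G₀}, Y ≤ X → Word P S Y g := by
  induction h with
  | refl X hX => exact fun hY => Word.refl _ (hY.trans hX)
  | cons X b g hb hX _ ih =>
    exact fun hY => Word.cons _ b g hb (hY.trans hX) (ih (cmap_mono hY b))

lemma Word.symm {P : Subgroup G₀} {S : Set G₀} (hS : ∀ s ∈ S, s⁻¹ ∈ S) {X : Subgroup G₀} {g : G₀}
    (h : Word P S X g) : Word P S (cmap X g) g⁻¹ := by
  induction h with
  | refl X hX => simpa using Word.refl (S := S) X hX
  | cons X b g hb hX hw ih =>
    rw [mul_inv_rev, cmap_mul]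
    refine ih.trans ?_
    rw [cmap_cancel]
    have h0 := Word.cons (S := S) (P := P) (cmap X b) b⁻¹ 1 (hS b hb) hw.le (Word.refl _ (by rwa [cmap_cancel]))
    simpa using h0

lemma Word.exists_fin {P : Subgroup G₀} {S : Set G₀} {X : Subgroup G₀} {g : G₀} (h : Word P S X g) :
    ∃ (n : ℕ) (b : Fin n → G₀), (∀ i, b i ∈ S) ∧ (List.ofFn b).prod = g ∧
      ∀ k : ℕ, k ≤ n → cmap X (((List.ofFn b).take k).prod) ≤ P := by
  induction h with
  | refl X hX => exact ⟨0, Fin.elim0, fun i => i.elim0, by simp, fun k _ => by simpa using hX⟩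
  | cons X b g hb hX _ ih =>
    obtain ⟨n, bs, hbs, hp, hle⟩ := ih
    refine ⟨n + 1, Fin.cons b bs, ?_, by simp [List.ofFn_succ, hp], ?_⟩
    · intro i
      cases i using Fin.cases with
      | zero => simpa using hb
      | succ j => simpa using hbs j
    · intro k hk
      cases k with
      | zero => simpa using hX
      | succ j => simpa [List.ofFn_succ, cmap_mul] using hle j (by omega)

/-- Strong fusion by a centralizing element followed by a word. -/
def Fus (P : Subgroup G₀) (S : Set G₀) (X : Subgroup G₀) (a : G₀) : Prop :=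
  ∃ c b : G₀, c ∈ Subgroup.centralizer (X : Set G₀) ∧ Word P S X b ∧ a = c * b

lemma Fus.trans {P : Subgroup G₀} {S : Set G₀} {X : Subgroup G₀} {a a' : G₀} (h : Fus P S X a)
    (h' : Fus P S (cmap X a) a') : Fus P S X (a * a') := by
  obtain ⟨c, b, hc, hb, rfl⟩ := h
  obtain ⟨c', b', hc', hb', rfl⟩ := h'
  rw [cmap_mul, cmap_eq_of_mem_centralizer hc] at hc' hb'
  refine ⟨c * (b * c' * b⁻¹), b * b', mul_mem hc (conj_mem_centralizer hc'), hb.trans hb', ?_⟩
  simp [mul_assoc]

lemma Fus.mono {P : Subgroup G₀} {S : Set G₀} {X Y : Subgroup G₀} {a : G₀} (h : Fus P S X a)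
    (hY : Y ≤ X) : Fus P S Y a := by
  obtain ⟨c, b, hc, hb, rfl⟩ := h
  exact ⟨c, b, Subgroup.centralizer_le hY hc, hb.mono hY, rfl⟩

lemma Fus.symm {P : Subgroup G₀} {S : Set G₀} (hS : ∀ s ∈ S, s⁻¹ ∈ S) {X : Subgroup G₀} {a : G₀}
    (h : Fus P S X a) : Fus P S (cmap X a) a⁻¹ := by
  obtain ⟨c, b, hc, hb, rfl⟩ := h
  rw [cmap_mul, cmap_eq_of_mem_centralizer hc]
  refine ⟨b⁻¹ * c⁻¹ * b, b⁻¹, ?_, hb.symm hS, by simp [mul_assoc]⟩
  rw [cmap_centralizer]
  exact conj_mem_cmap (inv_mem hc)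

lemma Fus.cent {P : Subgroup G₀} {S : Set G₀} {X : Subgroup G₀} {c : G₀} (hX : X ≤ P)
    (hc : c ∈ Subgroup.centralizer (X : Set G₀)) : Fus P S X c :=
  ⟨c, 1, hc, Word.refl X hX, by simp⟩

lemma Fus.step {P : Subgroup G₀} {S : Set G₀} {X : Subgroup G₀} {b : G₀} (hX : X ≤ P)
    (hXb : cmap X b ≤ P) (hb : b ∈ S) : Fus P S X b :=
  ⟨1, b * 1, one_mem _, Word.cons X b 1 hb hX (Word.refl _ hXb), by simp⟩

/-- Multiplying up steps given as a list. -/
lemma fus_list {P Q : Subgroup G₀} {S : Set G₀} (l : G₀) (hQP : cmap Q l ≤ P) (Sp : G₀ → Prop)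
    (hstep : ∀ (b : G₀) (Y : Subgroup G₀), Sp b → Y ≤ Q → cmap Y b ≤ Q →
      Fus P S (cmap Y l) (l⁻¹ * b * l)) :
    ∀ (n : ℕ) (b : Fin n → G₀) (Y : Subgroup G₀), (∀ i, Sp (b i)) →
      (∀ k : ℕ, k ≤ n → cmap Y (((List.ofFn b).take k).prod) ≤ Q) →
      Fus P S (cmap Y l) (l⁻¹ * (List.ofFn b).prod * l) := by
  intro n
  induction n with
  | zero =>
    intro b Y _ hk
    have h0 := hk 0 le_rfl
    simp only [List.take_zero, List.prod_nil, cmap_one] at h0
    simpa using Fus.cent (S := S) ((cmap_mono h0 l).trans hQP) (one_mem _)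
  | succ n ih =>
    intro b Y hb hk
    have h0 := hk 0 (Nat.zero_le _)
    have h1 := hk 1 (by omega)
    simp only [List.take_zero, List.prod_nil, cmap_one] at h0
    simp [List.ofFn_succ] at h1
    have h2 : l⁻¹ * (List.ofFn b).prod * l =
        (l⁻¹ * b 0 * l) * (l⁻¹ * (List.ofFn fun i => b i.succ).prod * l) := by
      simp [List.ofFn_succ, mul_assoc]
    rw [h2]
    refine (hstep (b 0) Y (hb 0) h0 h1).trans ?_
    have h3 : cmap (cmap Y l) (l⁻¹ * b 0 * l) = cmap (cmap Y (b 0)) l := by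
      rw [← cmap_mul, ← cmap_mul]; simp [mul_assoc]
    rw [h3]
    refine ih _ _ (fun i => hb i.succ) (fun k hk' => ?_)
    have := hk (k + 1) (by omega)
    simpa [List.ofFn_succ, cmap_mul] using this

/-- Let p be a prime dividing the order of the finite group G, P a Sylow p-subgroup, W a conjugacy functor for p on G with Z(H) ≤ W(H) for every nontrivial p-subgroup H, and V a central functor (a conjugacy functor with V(H) ≤ Z(H), and V(H) ≤ V(K) whenever Z(H) ≤ Z(K)). Say that W with V controls strong fusion in a subgroup L when some Sylow p-subgroup Q of L has the property: whenever X ⊆ Q and a ∈ L with a⁻¹Xa ⊆ Q, then a = c b with c ∈ C_L(X) and b = b₁ ⋯ bₙ a product of elements each in N_L(W(Q)) or in C_L(V(Q)) such that every partial conjugate (b₁ ⋯ bₖ)⁻¹ X (b₁ ⋯ bₖ) lies in Q. If W with V controls strong fusion in N_G(H) for every subgroup H with Z(P) ≤ H ≤ P, then W with V controls strong fusion in G. -/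
theorem result {G : Type*} [Group G] [Finite G] {p : ℕ} [Fact p.Prime] (hdiv : p ∣ Nat.card G) (P : Sylow p G) (W V : Subgroup G → Subgroup G) (hW : Cfsg.IsConjugacyFunctor p W) (hV : Cfsg.IsConjugacyFunctor p V) (hWZ : ∀ H : Subgroup G, IsPGroup p ↥H → H ⊓ Subgroup.centralizer ((H : Subgroup G) : Set G) ≤ W H) (hVZ : ∀ H : Subgroup G, IsPGroup p ↥H → V H ≤ H ⊓ Subgroup.centralizer ((H : Subgroup G) : Set G)) (hVmono : ∀ H K : Subgroup G, IsPGroup p ↥H → IsPGroup p ↥K → H ≠ ⊥ → K ≠ ⊥ → H ⊓ Subgroup.centralizer ((H : Subgroup G) : Set G) ≤ K ⊓ Subgroup.centralizer ((K : Subgroup G) : Set G) → V H ≤ V K) (hloc : ∀ H : Subgroup G, (P : Subgroup G) ⊓ Subgroup.centralizer (((P : Subgroup G) : Subgroup G) : Set G) ≤ H → H ≤ (P : Subgroup G) → ∃ Q : Subgroup G, Q ≤ Subgroup.normalizer ((H : Subgroup G) : Set G) ∧ IsPGroup p ↥Q ∧ ¬ p ∣ (Q).relIndex (Subgroup.normalizer ((H : Subgroup G) : Set G)) ∧ ∀ (X : Set G) (a : G), X ⊆ Q → a ∈ Subgroup.normalizer ((H : Subgroup G) : Set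 G) → (fun x => a⁻¹ * x * a) '' X ⊆ Q → ∃ c ∈ Subgroup.normalizer ((H : Subgroup G) : Set G) ⊓ Subgroup.centralizer X, ∃ (n : ℕ) (b : Fin n → G), (∀ i, b i ∈ Subgroup.normalizer ((H : Subgroup G) : Set G) ⊓ Subgroup.normalizer ((W Q : Subgroup G) : Set G) ∨ b i ∈ Subgroup.normalizer ((H : Subgroup G) : Set G) ⊓ Subgroup.centralizer ((V Q : Subgroup G) : Set G)) ∧ a = c * (List.ofFn b).prod ∧ ∀ k : ℕ, k ≤ n → (fun x => (((List.ofFn b).take k).prod)⁻¹ * x * ((List.ofFn b).take k).prod) '' ((fun x => c⁻¹ * x * c) '' X) ⊆ Q) : ∃ Q : Subgroup G, IsPGroup p ↥Q ∧ ¬ p ∣ Q.index ∧ ∀ (X : Set G) (a : G), X ⊆ Q → (fun x => a⁻¹ * x * a) '' X ⊆ Q → ∃ c ∈ Subgroup.centralizer X, ∃ (n : ℕ) (b : Fin n → G), (∀ i, b i ∈ ⊤ ⊓ Subgroup.normalizer ((W Q : Subgroup G) : Set G) ∨ b i ∈ ⊤ ⊓ Subgroup.centralizer ((V Q : Subgroup G) : Set G)) ∧ a = c * (List.ofFn b).prod ∧ ∀ k : ℕ, k ≤ n → (fun x => (((List.ofFn b).take k).prod)⁻¹ * x * ((List.ofFn b).take k).prod) '' ((fun x => c⁻¹ * x * c) ''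 X) ⊆ Q := by
  set M1 := Subgroup.normalizer ((W (P : Subgroup G) : Subgroup G) : Set G) with hM1
  set M2 := Subgroup.centralizer ((V (P : Subgroup G) : Subgroup G) : Set G) with hM2
  let S : Set G := {b | b ∈ M1 ∨ b ∈ M2}
  have hS : ∀ s ∈ S, s⁻¹ ∈ S := fun s hs => hs.imp inv_mem inv_mem
  let LocOK : Subgroup G → Prop := fun H => ∀ (X : Subgroup G) (a : G),
      X ≤ (P : Subgroup G) ⊓ Subgroup.normalizer (H : Set G) → a ∈ Subgroup.normalizer (H : Set G) →
      AlperinTame.cmap X a ≤ (P : Subgroup G) ⊓ Subgroup.normalizer (H : Set G) →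
      Fus (P : Subgroup G) S X a
  obtain ⟨-, hall⟩ := local_to_global P W hW hWZ (Fus (P : Subgroup G) S) LocOK
    (fun {X Y a} h hXY _ _ => h.mono hXY)
    (fun {X a b} _ h1 h2 => h1.trans h2)
    (fun {X c} hX hc => Fus.cent hX hc)
    (fun {X n} hX hn => Fus.step hX
      ((AlperinTame.cmap_mono hX n).trans (le_of_eq (AlperinTame.cmap_eq_self_iff.2 hn)))
      (Or.inl (normalizer_le_functor hW P.isPGroup' hn)))
    (fun H _ hok => hok)
    (fun H hH hrec X a hX ha hXa => by
      obtain ⟨hHP, hZH, hfull, hcen⟩ := hH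
      set L := Subgroup.normalizer (H : Set G) with hL
      set T := (P : Subgroup G) ⊓ L with hT
      have hTp : IsPGroup p T := P.isPGroup'.to_le inf_le_left
      obtain ⟨Q, hQL, hQp, hQi, hQ⟩ := hloc H hZH hHP
      obtain ⟨l, hl, hlQ'⟩ := exists_conj_sylow_in hQL (inf_le_right : T ≤ L) hQp hTp hQi hfull
      have hlQ : AlperinTame.cmap Q l = T := hlQ'
      have hXl : AlperinTame.cmap X l⁻¹ ≤ Q := by
        refine (AlperinTame.cmap_mono hX _).trans (le_of_eq ?_)
        rw [← hlQ, AlperinTame.cmap_cancel]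
      obtain ⟨c, hc, n, b, hb, hab, hchain⟩ := hQ (AlperinTame.cmap X l⁻¹ : Set G) (l * a * l⁻¹)
        hXl (mul_mem (mul_mem hl ha) (inv_mem hl)) (by
          rintro _ ⟨x, hx, rfl⟩
          have hx0 : l⁻¹ * x * l ∈ X := by
            have := AlperinTame.mem_cmap.1 hx
            simpa using this
          have h1 := hXa (AlperinTame.conj_mem_cmap (g := a) hx0)
          rw [← hlQ] at h1
          have h2 := AlperinTame.mem_cmap.1 h1
          simpa [mul_assoc] using h2)
      have hsteps : ∀ (b : G) (Y : Subgroup G),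
          (b ∈ L ⊓ Subgroup.normalizer (W Q : Set G) ∨ b ∈ L ⊓ Subgroup.centralizer (V Q : Set G)) →
          Y ≤ Q → AlperinTame.cmap Y b ≤ Q →
          Fus (P : Subgroup G) S (AlperinTame.cmap Y l) (l⁻¹ * b * l) := by
        intro b Y hb hY hYb
        have hY' : AlperinTame.cmap Y l ≤ T := (AlperinTame.cmap_mono hY l).trans hlQ.le
        have hYb' : AlperinTame.cmap (AlperinTame.cmap Y l) (l⁻¹ * b * l) ≤ T := by
          rw [← AlperinTame.cmap_mul, mul_assoc l⁻¹, mul_inv_cancel_left, AlperinTame.cmap_mul]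
          exact (AlperinTame.cmap_mono hYb l).trans hlQ.le
        generalize AlperinTame.cmap Y l = Z at hY' hYb' ⊢
        rcases hb with hb | hb
        · have hm : l⁻¹ * b * l ∈ Subgroup.normalizer (W T : Set G) := by
            rw [← hlQ, functor_cmap hW hQp, AlperinTame.cmap_normalizer]
            exact AlperinTame.conj_mem_cmap hb.2
          generalize l⁻¹ * b * l = m at hm hYb' ⊢
          rcases eq_or_lt_of_le (show T ≤ (P : Subgroup G) from inf_le_left) with hTP | hTP
          · refine Fus.step (hY'.trans inf_le_left) (hYb'.trans inf_le_left) (Or.inl ?_)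
            rw [hTP] at hm
            exact hm
          · obtain ⟨g, hg, hgP, hok⟩ := hrec hTP
            have hT2 : T ≤ (P : Subgroup G) ⊓ Subgroup.normalizer (W T : Set G) :=
              le_inf inf_le_left (Subgroup.le_normalizer.trans (normalizer_le_functor hW hTp))
            have hT3 : AlperinTame.cmap T g ≤
                (P : Subgroup G) ⊓ Subgroup.normalizer (AlperinTame.cmap (W T) g : Set G) := by
              refine le_inf ((AlperinTame.cmap_mono hT2 g).trans hgP) ?_
              rw [AlperinTame.cmap_normalizer]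
              exact AlperinTame.cmap_mono (hT2.trans inf_le_right) g
            have hmem : g⁻¹ * m * g ∈ Subgroup.normalizer (AlperinTame.cmap (W T) g : Set G) := by
              rw [AlperinTame.cmap_normalizer]; exact AlperinTame.conj_mem_cmap hm
            have e1 : AlperinTame.cmap (AlperinTame.cmap Z g) (g⁻¹ * m * g) =
                AlperinTame.cmap (AlperinTame.cmap Z m) g := by
              rw [← AlperinTame.cmap_mul, ← AlperinTame.cmap_mul]; simp [mul_assoc]
            have f1 : Fus (P : Subgroup G) S Z g := hg.mono (hY'.trans hT2)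
            have f2 := hok (AlperinTame.cmap Z g) (g⁻¹ * m * g)
              ((AlperinTame.cmap_mono hY' g).trans hT3) hmem
              (e1 ▸ (AlperinTame.cmap_mono hYb' g).trans hT3)
            have f3 := (hg.mono (hYb'.trans hT2)).symm hS
            have f4 := (f1.trans f2).trans (a' := g⁻¹) (by
              rw [AlperinTame.cmap_mul, e1]; exact f3)
            simpa [mul_assoc] using f4
        · refine Fus.step (hY'.trans inf_le_left) (hYb'.trans inf_le_left)
            (Or.inr (centralizer_functor_le P hdiv hVmono hcen ?_))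
          rw [← hlQ, functor_cmap hV hQp, cmap_centralizer]
          exact AlperinTame.conj_mem_cmap hb.2
      have hcX : AlperinTame.cmap (AlperinTame.cmap X l⁻¹) c = AlperinTame.cmap X l⁻¹ :=
        cmap_eq_of_mem_centralizer hc.2
      have hlist := fus_list (P := (P : Subgroup G)) (S := S) l (hlQ.le.trans inf_le_left) _ hsteps n b
        (AlperinTame.cmap X l⁻¹) hb (by
          intro k hk x hx
          have hx1 := AlperinTame.mem_cmap.1 hx
          have hx2 : c * (((List.ofFn b).take k).prod * x * (((List.ofFn b).take k).prod)⁻¹) * c⁻¹ ∈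
              AlperinTame.cmap X l⁻¹ := by
            rw [← AlperinTame.mem_cmap, hcX]; exact hx1
          refine hchain k hk ⟨_, ⟨_, hx2, rfl⟩, ?_⟩
          simp [mul_assoc])
      have hXX : AlperinTame.cmap (AlperinTame.cmap X l⁻¹) l = X := by
        simpa using AlperinTame.cmap_cancel X l⁻¹
      rw [hXX] at hlist
      have hc' : l⁻¹ * c * l ∈ Subgroup.centralizer (X : Set G) := by
        rw [← hXX, cmap_centralizer]
        exact AlperinTame.conj_mem_cmap hc.2
      have hfin := (Fus.cent (hX.trans inf_le_left) hc').trans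
        (a' := l⁻¹ * (List.ofFn b).prod * l) (by rwa [cmap_eq_of_mem_centralizer hc'])
      have : a = l⁻¹ * c * l * (l⁻¹ * (List.ofFn b).prod * l) := by
        calc a = l⁻¹ * (l * a * l⁻¹) * l := by group
          _ = l⁻¹ * (c * (List.ofFn b).prod) * l := by rw [hab]
          _ = _ := by group
      rwa [← this] at hfin)
  refine ⟨P, P.isPGroup', P.not_dvd_index, fun X a hX ha => ?_⟩
  have hX' : Subgroup.closure X ≤ (P : Subgroup G) := (Subgroup.closure_le _).2 hX
  have ha' : AlperinTame.cmap (Subgroup.closure X) a ≤ (P : Subgroup G) := by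
    rw [AlperinTame.cmap, MonoidHom.map_closure, Subgroup.closure_le]
    rintro _ ⟨x, hx, rfl⟩
    show a⁻¹ * x * a⁻¹⁻¹ ∈ (P : Subgroup G)
    rw [inv_inv]
    exact ha ⟨x, hx, rfl⟩
  obtain ⟨c, w, hc, hw, hcw⟩ := hall _ hX' a ha'
  obtain ⟨n, b, hb, hprod, hle⟩ := hw.exists_fin
  have hcX : c ∈ Subgroup.centralizer X := Subgroup.centralizer_le Subgroup.subset_closure hc
  refine ⟨c, hcX, n, b, fun i => (hb i).imp (fun h => ⟨trivial, h⟩) (fun h => ⟨trivial, h⟩),
    by rw [hprod]; exact hcw, ?_⟩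
  rintro k hk _ ⟨_, ⟨x, hx, rfl⟩, rfl⟩
  have hxc : c⁻¹ * x * c = x := by
    rw [mul_assoc, Subgroup.mem_centralizer_iff.1 hcX x hx, ← mul_assoc, inv_mul_cancel, one_mul]
  simp only [hxc]
  exact hle k hk (AlperinTame.conj_mem_cmap (Subgroup.subset_closure hx))

end Cfsg.Agent.S2002
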