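import Cfsg.Statements.S2003
-- import your own Cfsg.Agent.* helpers here

set_option autoImplicit false
open Cfsg
open scoped commutatorElement

namespace Cfsg.Agent.S2003

variable {K : Type*} [Group K]

/-- The filtration of `X / X'` by repeated commutation with `Z`. -/
def fil (X X' Z : Subgroup K) : ℕ → Subgroup K
  | 0 => X
  | k + 1 => ⁅fil X X' Z k, Z⁆ ⊔ X'

lemma commutator_sup_le (S N T : Subgroup K) [hN : N.Normal] :
    ⁅S ⊔ N, T⁆ ≤ ⁅S, T⁆ ⊔ N := by
  have h1 : (⁅S ⊔ N, T⁆).map (QuotientGroup.mk' N) = (⁅S, T⁆).map (QuotientGroup.mk' N) := by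
    have h0 : N.map (QuotientGroup.mk' N) = ⊥ := by
      rw [Subgroup.map_eq_bot_iff, QuotientGroup.ker_mk']
    rw [Subgroup.map_commutator, Subgroup.map_sup, h0, sup_bot_eq, Subgroup.map_commutator]
  have h2 := Subgroup.map_le_iff_le_comap.1 h1.le
  rwa [Subgroup.comap_map_eq, QuotientGroup.ker_mk'] at h2

lemma fil_le (X X' Z : Subgroup K) [X'.Normal] (k : ℕ) :
    fil X X' Z k ≤ Cfsg.iterCommutator X Z k ⊔ X' := by
  induction k with
  | zero => exact le_sup_left
  | succ k ih =>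
    refine sup_le (le_trans (Subgroup.commutator_mono ih le_rfl) ?_) le_sup_right
    exact commutator_sup_le _ _ _

lemma fil_antitone (X X' Z : Subgroup K) [X.Normal] (hX : X' ≤ X) : Antitone (fil X X' Z) := by
  refine antitone_nat_of_succ_le (fun k => ?_)
  induction k with
  | zero => exact sup_le (show ⁅X, Z⁆ ≤ X from Subgroup.commutator_le_left X Z) hX
  | succ k ih => exact sup_le_sup (Subgroup.commutator_mono ih le_rfl) le_rfl

lemma fil_eq_bot' (X X' Z : Subgroup K) [X.Normal] [X'.Normal] (hX : X' ≤ X) {n : ℕ}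
    (h : Cfsg.iterCommutator X Z n ≤ X') {k : ℕ} (hk : n ≤ k) : fil X X' Z k ≤ X' :=
  ((fil_antitone X X' Z hX hk).trans (fil_le X X' Z n)).trans (sup_le h le_rfl)

lemma iter_mono_le (U V Z : Subgroup K) [V.Normal] {n m : ℕ} (h : Cfsg.iterCommutator U Z n ≤ V)
    (hm : n ≤ m) : Cfsg.iterCommutator U Z m ≤ V := by
  induction hm with
  | refl => exact h
  | step _ ih => exact le_trans (Subgroup.commutator_mono ih le_rfl) (Subgroup.commutator_le_left _ _)

lemma iter_sup_le (A V Z : Subgroup K) [V.Normal] (n : ℕ) :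
    Cfsg.iterCommutator (A ⊔ V) Z n ≤ Cfsg.iterCommutator A Z n ⊔ V := by
  induction n with
  | zero => exact le_rfl
  | succ k ih => exact le_trans (Subgroup.commutator_mono ih le_rfl) (commutator_sup_le _ _ _)

/-- A `p`-subgroup normal in the group centralizes each chief factor inside it. -/
lemma commutator_chief_le [Finite K] {p : ℕ} [Fact p.Prime] {P B B' : Subgroup K} [P.Normal]
    (hP : IsPGroup p P) (hB : Cfsg.IsChiefFactor B B') (hBP : B ≤ P) : ⁅P, B⁆ ≤ B' := by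
  obtain ⟨hlt, hBn, hB'n, hmin⟩ := hB
  haveI := hBn; haveI := hB'n
  rcases hmin (⁅P, B⁆ ⊔ B') inferInstance le_sup_right
      (sup_le (Subgroup.commutator_le_right P B) hlt.le) with h | h
  · exact le_sup_left.trans h.le
  · exfalso
    set f := QuotientGroup.mk' B' with hf
    have hfB : B.map f ≤ ⁅P.map f, B.map f⁆ := by
      conv_lhs => rw [← h]
      rw [Subgroup.map_sup, Subgroup.map_commutator]
      refine sup_le le_rfl (le_of_eq_of_le ?_ bot_le)
      rw [Subgroup.map_eq_bot_iff, hf, QuotientGroup.ker_mk']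
    haveI : Group.IsNilpotent (P.map f) := (hP.map f).isNilpotent
    obtain ⟨n, hn⟩ := Subgroup.nilpotent_iff_lowerCentralSeries.1 (inferInstance : Group.IsNilpotent (P.map f))
    have key : ∀ k, B.map f ≤ ((Subgroup.lowerCentralSeries (⊤ : Subgroup (P.map f)) k)).map (P.map f).subtype := by
      intro k
      induction k with
      | zero =>
        rw [Subgroup.lowerCentralSeries_zero, ← MonoidHom.range_eq_map, Subgroup.range_subtype]
        exact Subgroup.map_mono hBP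
      | succ k ih =>
        refine hfB.trans ?_
        rw [Subgroup.commutator_comm]
        refine (Subgroup.commutator_mono ih le_rfl).trans (le_of_eq ?_)
        have : (P.map f) = (⊤ : Subgroup (P.map f)).map (P.map f).subtype := by
          rw [← MonoidHom.range_eq_map, Subgroup.range_subtype]
        conv_lhs => arg 2; rw [this]
        rw [← Subgroup.map_commutator, Subgroup.lowerCentralSeries_succ]
    have hbot : B.map f ≤ ⊥ := by
      have := key n
      rw [hn, Subgroup.map_bot] at this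
      exact this
    rw [le_bot_iff, Subgroup.map_eq_bot_iff, hf, QuotientGroup.ker_mk'] at hbot
    exact not_le_of_gt hlt hbot


/-- Let p be a prime, G a finite group, P a normal p-subgroup of G and Q a critical subgroup of P: a characteristic subgroup with Q/Z(Q) elementary abelian, [P, Q] ≤ Z(Q), C_P(Q) = Z(Q), and such that every automorphism of P of order prime to p fixing Q elementwise is trivial. Let g ∈ G and i, j ≥ 1, and suppose that [X, g, …, g] ≤ Y with i entries g for every chief factor X/Y of G with X ≤ Q, and with j entries g for every chief factor X/Y of G with X ≤ Z(Q). Then [X, g, …, g] ≤ Y with i + j − 1 entries g for every chief factor X/Y of G with X ≤ P. -/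
theorem result {G : Type*} [Group G] [Finite G] {p : ℕ} [Fact p.Prime] (P : Subgroup G) [P.Normal] (hP : IsPGroup p ↥P) (Q : Subgroup G) (hQP : Q ≤ P) (hQchar : (Q.subgroupOf P).Characteristic) (hQ1 : ∀ a ∈ Q, a ^ p ∈ Q ⊓ Subgroup.centralizer ((Q : Subgroup G) : Set G)) (hQ2 : ⁅Q, Q⁆ ≤ Subgroup.centralizer ((Q : Subgroup G) : Set G)) (hQ3 : ⁅P, Q⁆ ≤ Q ⊓ Subgroup.centralizer ((Q : Subgroup G) : Set G)) (hQ4 : P ⊓ Subgroup.centralizer ((Q : Subgroup G) : Set G) = Q ⊓ Subgroup.centralizer ((Q : Subgroup G) : Set G)) (hQ5 : ∀ φ : MulAut ↥P, (orderOf φ).Coprime p → (∀ a : ↥P, (a : G) ∈ Q → φ a = a) → φ = 1) (g : G) (i j : ℕ) (hi : 1 ≤ i) (hj : 1 ≤ j) (hQi : ∀ U V : Subgroup G, Cfsg.IsChiefFactor U V → U ≤ Q → Cfsg.iterCommutator U (Subgroup.zpowers g) i ≤ V) (hZj : ∀ U V : Subgroup G, Cfsg.IsChiefFactor U V → U ≤ Q ⊓ Subgroup.centralizer ((Q : Subgroup G) : Set G) → Cfsg.iterCommutator U (Subgroup.zpowers g) j ≤ V) : ∀ U V : Subgroup G, Cfsg.IsChiefFactor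 U V → U ≤ P → Cfsg.iterCommutator U (Subgroup.zpowers g) (i + j - 1) ≤ V := by
  intro U V hUV hUP
  obtain ⟨hlt, hUn, hVn, hUmin⟩ := hUV
  haveI := hUn; haveI := hVn
  set Zg := Subgroup.zpowers g with hZg
  set n := i + j - 1 with hn
  have hQn : Q.Normal := by
    have h1 : ((Q.subgroupOf P).map P.subtype) = Q := Subgroup.map_subgroupOf_eq_of_le hQP
    rw [← h1]
    haveI := hQchar
    infer_instance
  haveI := hQn
  set Z := Q ⊓ Subgroup.centralizer ((Q : Subgroup G) : Set G) with hZ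
  have hjoin : ∀ W : Subgroup G, W.Normal → W ≤ U → ¬ W ≤ V → W ⊔ V = U := by
    intro W hW hWU hWV
    haveI := hW
    rcases hUmin (W ⊔ V) inferInstance le_sup_right (sup_le hWU hlt.le) with h | h
    · exact absurd (le_sup_left.trans h.le) hWV
    · exact h
  by_cases hcase : U ⊓ Q ≤ V
  swap
  · have hc : Cfsg.IsChiefFactor (U ⊓ Q) (V ⊓ Q) := by
      refine ⟨lt_of_le_of_ne (inf_le_inf_right _ hlt.le) (fun h => hcase ?_), inferInstance,
        inferInstance, fun N hN h1 h2 => ?_⟩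
      · exact h ▸ inf_le_left
      · haveI := hN
        by_cases hNV : N ≤ V
        · exact Or.inl (le_antisymm (le_inf hNV (h2.trans inf_le_right)) h1)
        · refine Or.inr (le_antisymm h2 (fun x hx => ?_))
          have hx' : x ∈ N ⊔ V := by rw [hjoin N hN (h2.trans inf_le_left) hNV]; exact hx.1
          rw [← SetLike.mem_coe, Subgroup.mul_normal, Set.mem_mul] at hx'
          obtain ⟨a, ha, v, hv, rfl⟩ := hx'
          refine N.mul_mem ha (h1 ⟨hv, ?_⟩)
          have := Q.mul_mem (Q.inv_mem (h2 ha).2) hx.2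
          simpa using this
    have h := hQi _ _ hc inf_le_right
    have h' : Cfsg.iterCommutator (U ⊓ Q) Zg n ≤ V :=
      iter_mono_le _ _ _ (h.trans inf_le_left) (by omega)
    calc Cfsg.iterCommutator U Zg n = Cfsg.iterCommutator ((U ⊓ Q) ⊔ V) Zg n := by
          rw [hjoin _ inferInstance inf_le_left hcase]
      _ ≤ Cfsg.iterCommutator (U ⊓ Q) Zg n ⊔ V := iter_sup_le _ _ _ _
      _ ≤ V := sup_le h' le_rfl
  -- the largest part of `Q` with noncovering centralizer
  haveI := Fintype.ofFinite (Subgroup G)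
  classical
  obtain ⟨A', ⟨hA'n, hA'Q, hA'U⟩, hA'max⟩ := Set.Finite.exists_maximal
    (s := {A : Subgroup G | A.Normal ∧ A ≤ Q ∧ ¬ U ⊓ Subgroup.centralizer (A : Set G) ≤ V})
    (Set.toFinite _) ⟨⊥, inferInstance, bot_le, by
      intro h
      refine not_le_of_gt hlt (le_trans ?_ h)
      refine le_inf le_rfl (fun x _ => ?_)
      rw [Subgroup.mem_centralizer_iff]
      intro y hy
      rw [SetLike.mem_coe, Subgroup.mem_bot] at hy
      simp [hy]⟩
  have hA'ne : A' ≠ Q := by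
    rintro rfl
    apply hA'U
    refine le_trans ?_ hcase
    refine le_inf inf_le_left ?_
    exact (le_inf (inf_le_left.trans hUP) inf_le_right).trans (hQ4.le.trans inf_le_left)
  obtain ⟨A, ⟨hAn, hA'A, hAQ⟩, hAmin⟩ := Set.Finite.exists_minimal
    (s := {A : Subgroup G | A.Normal ∧ A' < A ∧ A ≤ Q}) (Set.toFinite _)
    ⟨Q, hQn, lt_of_le_of_ne hA'Q hA'ne, le_rfl⟩
  haveI := hA'n; haveI := hAn
  have hAchief : Cfsg.IsChiefFactor A A' := by
    refine ⟨hA'A, hAn, hA'n, fun N hN h1 h2 => ?_⟩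
    rcases eq_or_lt_of_le h1 with h | h
    · exact Or.inl h.symm
    · exact Or.inr (le_antisymm h2 (hAmin ⟨hN, h, h2.trans hAQ⟩ h2))
  have hUA : U ⊓ Subgroup.centralizer (A : Set G) ≤ V := by
    by_contra h
    exact not_le_of_gt hA'A (hA'max ⟨hAn, hAQ, h⟩ hA'A.le)
  set W := U ⊓ Subgroup.centralizer (A' : Set G) with hW
  have hWn : W.Normal := by infer_instance
  have hWP : W ≤ P := inf_le_left.trans hUP
  have hAP : A ≤ P := hAQ.trans hQP
  -- `M B`: the elements of `W` commutating `A` into `B`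
  let M : ∀ B : Subgroup G, B.Normal → Subgroup G := fun B hB =>
    { carrier := {x | x ∈ W ∧ ∀ a ∈ A, ⁅x, a⁆ ∈ B}
      one_mem' := ⟨one_mem _, fun a _ => by simp⟩
      mul_mem' := by
        rintro x y ⟨hx, hx'⟩ ⟨hy, hy'⟩
        refine ⟨mul_mem hx hy, fun a ha => ?_⟩
        rw [show ⁅x * y, a⁆ = x * ⁅y, a⁆ * x⁻¹ * ⁅x, a⁆ by simp [commutatorElement_def, mul_assoc]]
        exact mul_mem (hB.conj_mem _ (hy' a ha) x) (hx' a ha)
      inv_mem' := by
        rintro x ⟨hx, hx'⟩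
        refine ⟨inv_mem hx, fun a ha => ?_⟩
        rw [show ⁅x⁻¹, a⁆ = x⁻¹ * (⁅x, a⁆)⁻¹ * x⁻¹⁻¹ by simp [commutatorElement_def, mul_assoc]]
        exact hB.conj_mem _ (inv_mem (hx' a ha)) x⁻¹ }
  have hMn : ∀ (B : Subgroup G) (hB : B.Normal), (M B hB).Normal := by
    intro B hB
    refine ⟨fun x hx y => ⟨hWn.conj_mem x hx.1 y, fun a ha => ?_⟩⟩
    rw [show ⁅y * x * y⁻¹, a⁆ = y * ⁅x, y⁻¹ * a * y⁆ * y⁻¹ by simp [commutatorElement_def, mul_assoc]]
    refine hB.conj_mem _ (hx.2 _ ?_) y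
    simpa using hAn.conj_mem a ha y⁻¹
  haveI hZn : Z.Normal := by infer_instance
  obtain ⟨B, ⟨hBn, hBZ, hBV⟩, hBmin⟩ := Set.Finite.exists_minimal
    (s := {B : Subgroup G | ∃ hB : B.Normal, B ≤ Z ∧ ¬ M B hB ≤ V}) (Set.toFinite _)
    ⟨Z, hZn, le_rfl, by
      intro h
      refine hA'U (le_trans (fun x hx => (show x ∈ W ∧ ∀ a ∈ A, ⁅x, a⁆ ∈ Z from ⟨hx, fun a ha => ?_⟩)) h)
      exact hQ3 (Subgroup.commutator_mem_commutator (hWP hx) (hAQ ha))⟩
  have hBne : B ≠ ⊥ := by
    rintro rfl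
    apply hBV
    intro x hx
    refine hUA ⟨hx.1.1, Subgroup.mem_centralizer_iff.2 fun a ha => ?_⟩
    have := hx.2 a ha
    rw [Subgroup.mem_bot, commutatorElement_eq_one_iff_mul_comm] at this
    exact this.symm
  obtain ⟨B', ⟨hB'n, hB'B⟩, hB'max⟩ := Set.Finite.exists_maximal
    (s := {B' : Subgroup G | B'.Normal ∧ B' < B}) (Set.toFinite _)
    ⟨⊥, inferInstance, Ne.bot_lt hBne⟩
  haveI := hBn; haveI := hB'n
  have hB'V : M B' hB'n ≤ V := by
    by_contra h
    exact not_le_of_gt hB'B (hBmin ⟨hB'n, hB'B.le.trans hBZ, h⟩ hB'B.le)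
  have hBchief : Cfsg.IsChiefFactor B B' := by
    refine ⟨hB'B, hBn, hB'n, fun N hN h1 h2 => ?_⟩
    rcases eq_or_lt_of_le h2 with h | h
    · exact Or.inr h
    · exact Or.inl (le_antisymm (hB'max ⟨hN, h⟩ h1) h1)
  have hBP : B ≤ P := (hBZ.trans inf_le_left).trans hQP
  have hPB := commutator_chief_le hP hBchief hBP
  set π := QuotientGroup.mk' B' with hπ
  have hfix : ∀ u ∈ P, ∀ b ∈ B, π (u * b * u⁻¹) = π b := by
    intro u hu b hb
    have h1 : π ⁅u, b⁆ = 1 :=
      (QuotientGroup.eq_one_iff _).2 (hPB (Subgroup.commutator_mem_commutator hu hb))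
    rw [show u * b * u⁻¹ = ⁅u, b⁆ * b by simp [commutatorElement_def], map_mul, h1, one_mul]
  set FA := fil A A' Zg with hFA
  set FB := fil B B' Zg with hFB
  have hFAanti : Antitone FA := fil_antitone _ _ _ hA'A.le
  have hFBanti : Antitone FB := fil_antitone _ _ _ hB'B.le
  have hFAle : ∀ α, FA α ≤ A := fun α => hFAanti (Nat.zero_le α)
  have hFB' : ∀ β, B' ≤ FB β := by
    intro β
    cases β with
    | zero => exact hB'B.le
    | succ k => exact le_sup_right
  have hFB'' : ∀ β b, π b ∈ (FB β).map π → b ∈ FB β := by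
    intro β b hb
    rw [← Subgroup.mem_comap, Subgroup.comap_map_eq, hπ, QuotientGroup.ker_mk'] at hb
    exact sup_le le_rfl (hFB' β) hb
  have hAi : ∀ α, i ≤ α → FA α ≤ A' := fun α hα =>
    fil_eq_bot' _ _ _ hA'A.le (hQi _ _ hAchief hAQ) hα
  have hBj : ∀ β, j ≤ β → FB β ≤ B' := fun β hβ =>
    fil_eq_bot' _ _ _ hB'B.le (hZj _ _ hBchief hBZ) hβ
  -- the levels
  let L : ℕ → Subgroup G := fun k =>
    { carrier := {x | x ∈ M B hBn ∧ ∀ α, ∀ a ∈ FA α, ⁅x, a⁆ ∈ FB (α + k - (i - 1))}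
      one_mem' := ⟨one_mem _, fun α a _ => by simp⟩
      mul_mem' := by
        rintro x y ⟨hx, hx'⟩ ⟨hy, hy'⟩
        refine ⟨mul_mem hx hy, fun α a ha => hFB'' _ _ ?_⟩
        rw [show ⁅x * y, a⁆ = x * ⁅y, a⁆ * x⁻¹ * ⁅x, a⁆ by simp [commutatorElement_def, mul_assoc],
          map_mul, hfix x (hWP hx.1) _ (hy.2 a (hFAle α ha)), ← map_mul]
        exact Subgroup.mem_map_of_mem π (mul_mem (hy' α a ha) (hx' α a ha))
      inv_mem' := by
        rintro x ⟨hx, hx'⟩
        refine ⟨inv_mem hx, fun α a ha => hFB'' _ _ ?_⟩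
        rw [show ⁅x⁻¹, a⁆ = x⁻¹ * (⁅x, a⁆)⁻¹ * x⁻¹⁻¹ by simp [commutatorElement_def, mul_assoc],
          hfix x⁻¹ (hWP (inv_mem hx).1) _ (inv_mem (hx.2 a (hFAle α ha)))]
        exact Subgroup.mem_map_of_mem π (inv_mem (hx' α a ha)) }
  have hL0 : M B hBn ≤ L 0 := by
    intro x hx
    refine ⟨hx, fun α a ha => ?_⟩
    by_cases hα : i ≤ α
    · have h1 : ⁅x, a⁆ = 1 := by
        rw [commutatorElement_eq_one_iff_mul_comm]
        exact ((Subgroup.mem_centralizer_iff.1 hx.1.2) a (hAi α hα ha)).symm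
      rw [h1]; exact one_mem _
    · rw [show α + 0 - (i - 1) = 0 by omega]
      exact hx.2 a (hFAle α ha)
  have hstep : ∀ k, ⁅L k, Zg⁆ ≤ L (k + 1) := by
    intro k
    rw [Subgroup.commutator_le]
    rintro x ⟨hx, hx'⟩ h hh
    haveI := hMn B hBn
    refine ⟨Subgroup.commutator_le_left (M B hBn) ⊤ (Subgroup.commutator_mem_commutator hx trivial),
      fun α a ha => hFB'' _ _ ?_⟩
    set a' := h⁻¹ * a * h with ha'def
    have hcomm : ⁅a, h⁻¹⁆ ∈ FA (α + 1) :=
      Subgroup.mem_sup_left (Subgroup.commutator_mem_commutator ha (inv_mem hh))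
    have ha' : a' ∈ FA α := by
      have := mul_mem (inv_mem (hFAanti (Nat.le_succ α) hcomm)) ha
      simpa [ha'def, commutatorElement_def, mul_assoc] using this
    have hδ : a'⁻¹ * a ∈ FA (α + 1) := by
      have h1 : ⁅h⁻¹, a⁻¹⁆ ∈ FA (α + 1) := by
        refine Subgroup.mem_sup_left ?_
        rw [Subgroup.commutator_comm]
        exact Subgroup.commutator_mem_commutator (inv_mem hh) (inv_mem ha)
      have : a'⁻¹ * a = ⁅h⁻¹, a⁻¹⁆ := by simp [ha'def, commutatorElement_def, mul_assoc]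
      rwa [this]
    set δ := a'⁻¹ * a with hδdef
    have hxP := hWP hx.1
    have hc' : ⁅x, a'⁆ ∈ B := hx.2 a' (hFAle α ha')
    have he : ⁅x, δ⁆ ∈ B := hx.2 δ (hFAle _ hδ)
    have hmain : π ⁅⁅x, h⁆, a⁆ = π ((⁅(⁅x, a'⁆)⁻¹, h⁆)⁻¹ * ⁅x, δ⁆) := by
      have e1 : ⁅⁅x, h⁆, a⁆ = x * (h * (x⁻¹ * (⁅x, a'⁆)⁻¹ * x⁻¹⁻¹) * h⁻¹) * x⁻¹ *
          (⁅x, a'⁆ * (a' * ⁅x, δ⁆ * a'⁻¹)) := by
        simp [hδdef, ha'def, commutatorElement_def, mul_assoc]
      rw [e1, map_mul, hfix x hxP _ (hBn.conj_mem _ (hBn.conj_mem _ (inv_mem hc') _) h),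
        map_mul π (h * _) h⁻¹, map_mul π h, hfix x⁻¹ (inv_mem hxP) _ (inv_mem hc'),
        map_mul π ⁅x, a'⁆, hfix a' (hAP (hFAle α ha')) _ he]
      simp [commutatorElement_def, mul_assoc]
    rw [hmain]
    refine Subgroup.mem_map_of_mem π (mul_mem (inv_mem ?_) ?_)
    · refine hFBanti (show α + (k + 1) - (i - 1) ≤ (α + k - (i - 1)) + 1 by omega) ?_
      exact Subgroup.mem_sup_left (Subgroup.commutator_mem_commutator (inv_mem (hx' α a' ha')) hh)
    · have := hx' (α + 1) δ hδ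
      rwa [show α + 1 + k = α + (k + 1) by omega] at this
  have hiter : ∀ k, Cfsg.iterCommutator (M B hBn) Zg k ≤ L k := by
    intro k
    induction k with
    | zero => exact hL0
    | succ k ih => exact le_trans (Subgroup.commutator_mono ih le_rfl) (hstep k)
  have hfin : L n ≤ V := by
    refine le_trans (fun x hx => ?_) hB'V
    refine ⟨hx.1.1, fun a ha => ?_⟩
    exact hBj _ (by omega) (hx.2 0 a ha)
  calc Cfsg.iterCommutator U Zg n = Cfsg.iterCommutator (M B hBn ⊔ V) Zg n := by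
        rw [hjoin _ (hMn B hBn) (fun x hx => hx.1.1) hBV]
    _ ≤ Cfsg.iterCommutator (M B hBn) Zg n ⊔ V := iter_sup_le _ _ _ _
    _ ≤ V := sup_le ((hiter n).trans hfin) le_rfl

end Cfsg.Agent.S2003
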