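import Cfsg.Statements.S2004
import Mathlib
import Cfsg.Agent.Lib.QuadraticFree
import Cfsg.Agent.Lib.QuadraticQd
-- import your own Cfsg.Agent.* helpers here

set_option autoImplicit false
open Cfsg

namespace Cfsg.Agent.S2004

open Cfsg.Agent.QuadraticMain in
theorem hasSection_of_injective {A B Y : Type*} [Group A] [Group B] [Group Y] (j : A →* B)
    (hj : Function.Injective j) (h : HasSection A Y) : HasSection B Y := by
  obtain ⟨K, ψ, hψ⟩ := h
  exact ⟨K.map j, ψ.comp (K.equivMapOfInjective j hj).symm.toMonoidHom,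
    hψ.comp (MulEquiv.surjective _)⟩

theorem map_pCore_le {A B : Type*} [Group A] [Group B] (p : ℕ) (f : A →* B)
    (hf : Function.Surjective f) : (Cfsg.pCore p A).map f ≤ Cfsg.pCore p B := by
  rw [Subgroup.map_le_iff_le_comap]
  refine sSup_le ?_
  rintro N ⟨hN, hp⟩
  rw [← Subgroup.map_le_iff_le_comap]
  exact le_sSup ⟨hN.map f hf, hp.map f⟩

open scoped Pointwise in
open Cfsg.Agent.QuadraticMain in
/-- A section of the normalizer of a `p`-subgroup of a quotient comes from a `p`-local subgroup. -/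
theorem exists_local {G X Y : Type*} [Group G] [Finite G] [Group X] [Group Y] {p : ℕ}
    [Fact p.Prime] (K : Subgroup G) (f : K →* X) (hf : Function.Surjective f)
    (P : Subgroup X) (hP : IsPGroup p P) (hne : P ≠ ⊥)
    (h : HasSection ↥(Subgroup.normalizer (P : Set X)) Y) :
    ∃ Q : Subgroup G, IsPGroup p Q ∧ Q ≠ ⊥ ∧
      HasSection ↥(Subgroup.normalizer (Q : Set G)) Y := by
  set M := (Subgroup.normalizer (P : Set X)).comap f with hM
  let g : M →* ↥(Subgroup.normalizer (P : Set X)) :=
    (f.comp M.subtype).codRestrict _ (fun m => m.2)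
  have hg : Function.Surjective g := fun y => by
    obtain ⟨k, hk⟩ := hf y.1
    exact ⟨⟨k, show f k ∈ _ from hk.symm ▸ y.2⟩, Subtype.ext hk⟩
  set V := P.subgroupOf (Subgroup.normalizer (P : Set X)) with hV
  set L := V.comap g with hL
  haveI : V.Normal := Subgroup.normal_in_normalizer
  haveI : L.Normal := Subgroup.Normal.comap inferInstance g
  let gL : L →* V := (g.comp L.subtype).codRestrict V (fun l => l.2)
  have hgL : Function.Surjective gL := fun v => by
    obtain ⟨m, hm⟩ := hg v.1
    exact ⟨⟨m, show g m ∈ V from hm.symm ▸ v.2⟩, Subtype.ext hm⟩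
  obtain ⟨Q⟩ : Nonempty (Sylow p L) := inferInstance
  have hVp : IsPGroup p V :=
    hP.of_equiv (Subgroup.subgroupOfEquivOfLe Subgroup.le_normalizer).symm
  have htop : ((Q.mapSurjective hgL : Sylow p V) : Subgroup V) = ⊤ := by
    haveI : Finite V := Finite.of_surjective gL hgL
    exact ((Q.mapSurjective hgL).is_maximal' (hVp.to_subgroup ⊤) le_top).symm
  rw [Sylow.coe_mapSurjective] at htop
  set Qm : Subgroup M := (Q : Subgroup L).map L.subtype with hQm
  set N := Subgroup.normalizer (Qm : Set M) with hN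
  have hgN : Function.Surjective (g.comp N.subtype) := by
    intro y
    obtain ⟨m, hm⟩ := hg y
    have hsup : N ⊔ L = ⊤ := Sylow.normalizer_sup_eq_top Q
    have : m ∈ ((N : Set M) * (L : Set M)) := by
      rw [← Subgroup.mul_normal N L, hsup]; trivial
    obtain ⟨n, hn, l, hl, rfl⟩ := this
    obtain ⟨q, hq, hql⟩ : gL ⟨l, hl⟩ ∈ (Q : Subgroup L).map gL := htop ▸ Subgroup.mem_top _
    refine ⟨⟨n * q.1, N.mul_mem hn (Subgroup.le_normalizer ⟨q, hq, rfl⟩)⟩, ?_⟩
    rw [← hm]
    show g (n * q.1) = g (n * l)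
    rw [map_mul, map_mul]
    exact congrArg _ (congrArg Subtype.val hql)
  let ι : M →* G := K.subtype.comp M.subtype
  have hι : Function.Injective ι := K.subtype_injective.comp M.subtype_injective
  refine ⟨Qm.map ι, (Q.2.map L.subtype).map ι, ?_, ?_⟩
  · rw [Ne, Subgroup.map_eq_bot_iff_of_injective _ hι, hQm,
      Subgroup.map_eq_bot_iff_of_injective _ L.subtype_injective]
    intro hQ
    rw [hQ, Subgroup.map_bot] at htop
    refine hne (eq_bot_iff.2 fun x hx => ?_)
    have hx' : (⟨⟨x, Subgroup.le_normalizer hx⟩, hx⟩ : V) ∈ (⊥ : Subgroup V) :=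
      htop ▸ Subgroup.mem_top _
    exact Subgroup.mem_bot.2 (congrArg (fun v : V => (v.1 : X)) (Subgroup.mem_bot.1 hx'))
  · have hmap : N.map ι ≤ Subgroup.normalizer ((Qm.map ι : Subgroup G) : Set G) :=
      Subgroup.le_normalizer_map ι
    let j : N →* ↥(Subgroup.normalizer ((Qm.map ι : Subgroup G) : Set G)) :=
      (ι.comp N.subtype).codRestrict _ (fun n => hmap ⟨n, n.2, rfl⟩)
    have hj : Function.Injective j := fun a b hab =>
      Subtype.ext (hι (show ι a.1 = ι b.1 from by
        have h2 : (j a).1 = (j b).1 := by rw [hab]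
        exact h2))
    exact hasSection_of_injective j hj (QuadraticQd.hasSection_lift hgN h)


/-- Let p be an odd prime and G a finite group such that SL₂(p) is not involved in N_G(P) for any nonidentity p-subgroup P of G. Then every section of G is p-stable in the normalizer form: in each section, whenever an element of the normalizer of a p-subgroup Q acts quadratically on Q, its image in N(Q)/C(Q) lies in O_p(N(Q)/C(Q)). -/
theorem result {G : Type*} [Group G] [Finite G] {p : ℕ} [Fact p.Prime] (hp : p ≠ 2) (h : ∀ P : Subgroup G, IsPGroup p ↥P → P ≠ ⊥ → ¬ Cfsg.Involves (Matrix.SpecialLinearGroup (Fin 2) (ZMod p)) ↥(Subgroup.normalizer ((P : Subgroup G) : Set G))) : ∀ (K R : Subgroup G) [hR : (R.subgroupOf K).Normal], Cfsg.IsNormalizerPStable p (↥K ⧸ R.subgroupOf K) := by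
  intro K R hR P hP g hg hq
  classical
  by_cases hne : P = ⊥
  · subst hne
    have : (⟨g, hg⟩ : ↥(Subgroup.normalizer ((⊥ : Subgroup (↥K ⧸ R.subgroupOf K)) : Set _))) ∈
        (Subgroup.centralizer ((⊥ : Subgroup (↥K ⧸ R.subgroupOf K)) : Set _)).subgroupOf
          (Subgroup.normalizer ((⊥ : Subgroup (↥K ⧸ R.subgroupOf K)) : Set _)) := by
      rw [Subgroup.mem_subgroupOf, Subgroup.mem_centralizer_iff]
      intro x hx
      rw [Subgroup.coe_bot, Set.mem_singleton_iff] at hx
      simp [hx]
    rw [(QuotientGroup.eq_one_iff _).2 this]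
    exact Subgroup.one_mem _
  set Y := Subgroup.normalizer (P : Set (↥K ⧸ R.subgroupOf K)) with hY
  set V := P.subgroupOf Y with hV
  haveI : V.Normal := Subgroup.normal_in_normalizer
  have hfree : ¬ QuadraticMain.HasSection Y (Matrix.SpecialLinearGroup (Fin 2) (ZMod p)) := by
    intro hs
    obtain ⟨Q, hQ, hQ1, hsQ⟩ :=
      exists_local K (QuotientGroup.mk' _) (QuotientGroup.mk'_surjective _) P hP hne hs
    obtain ⟨A, B, hB, e⟩ := QuadraticQd.exists_section hsQ
    exact h Q hQ hQ1 ⟨A, B, hB, e⟩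
  have hst := QuadraticFree.isPStableOn_all_of_sl2_free (p := p) hp hfree V
    (hP.of_equiv (Subgroup.subgroupOfEquivOfLe Subgroup.le_normalizer).symm) ⟨g, hg⟩ (by
      apply Subgroup.map_injective Y.subtype_injective
      rw [Subgroup.map_commutator, Subgroup.map_commutator, MonoidHom.map_zpowers, hV,
        Subgroup.map_subgroupOf_eq_of_le (Subgroup.le_normalizer (H := P)), Subgroup.map_bot]
      exact hq)
  have hC : Subgroup.centralizer (V : Set Y) =
      (Subgroup.centralizer (P : Set (↥K ⧸ R.subgroupOf K))).subgroupOf Y := by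
    ext y
    simp only [Subgroup.mem_centralizer_iff, Subgroup.mem_subgroupOf, SetLike.mem_coe, hV]
    exact ⟨fun hy x hx => congrArg Subtype.val (hy ⟨x, Subgroup.le_normalizer hx⟩ hx),
      fun hy x hx => Subtype.ext (hy x.1 hx)⟩
  let E := QuotientGroup.quotientMulEquivOfEq hC
  exact map_pCore_le p E.toMonoidHom E.surjective ⟨_, hst, rfl⟩

end Cfsg.Agent.S2004
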