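import Cfsg.Statements.S2005
import Cfsg.Agent.Lib.ConjFunctorMain
import Cfsg.Agent.Lib.FrobeniusThompson

set_option autoImplicit false
universe u
open Cfsg

namespace Cfsg.Agent.S2005

open Subgroup Cfsg.Agent.ConjFunctorSection Cfsg.Agent.ConjFunctorMaster

/-- The local hypothesis, on all groups involved in `G`. -/
def Loc (p : ℕ) (W : ∀ (Q : Type u) [Group Q], Subgroup Q) (G : Type u) [Group G] : Prop :=
  ∀ (H : Type u) [Group H] [Finite H], Cfsg.Involves H G → Constr p H →
    Cfsg.HasNormalPComplement p (H ⧸ Cfsg.pCore p H) → ∀ T : Sylow p H, IsCoatom (T : Subgroup H) →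
      (Cfsg.inducedFunctor (G := H) W (T : Subgroup H)).Normal

theorem criterion_aux {p : ℕ} [hp : Fact p.Prime] (W : ∀ (Q : Type u) [Group Q], Subgroup Q)
    (hW : Cfsg.IsCharPFunctor.{u} p W) (n : ℕ) :
    ∀ (G : Type u) [Group G] [Finite G], Nat.card G < n → ∀ P : Sylow p G,
      Cfsg.HasNormalPComplement p
        (normalizer ((Cfsg.inducedFunctor (G := G) W (P : Subgroup G) : Subgroup G) : Set G)) →
      Loc p W G → Cfsg.HasNormalPComplement p G := by
  induction n with
  | zero => intro G _ _ h; omega
  | succ n ih =>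
    intro G _ _ hGn P hN hloc
    classical
    by_contra hG
    have hinjS : ∀ {M : Subgroup G} (X : Subgroup M), X ⊓ M.subtype.ker = ⊥ := fun X => by
      rw [(MonoidHom.ker_eq_bot_iff _).mpr (Subgroup.subtype_injective _), inf_bot_eq]
    have hrec : ∀ (M : Subgroup G), M ≠ ⊤ → ∀ S' : Sylow p M, Cfsg.HasNormalPComplement p
        (normalizer ((Cfsg.inducedFunctor (G := G) W ((S' : Subgroup M).map M.subtype) : Subgroup G) : Set G)) →
        Cfsg.HasNormalPComplement p M := by
      intro M hM S' h
      refine ih M (lt_of_lt_of_le (card_subgroup_lt hM) (by omega)) S' ?_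
        fun H _ _ hH => hloc H (involves_trans hH (involves_subgroup M))
      exact FrobeniusThompson.pNC_of_map_le M.subtype M.subtype_injective _ _
        (map_normalizer_le hW M.subtype S'.isPGroup' (hinjS _)) h
    have hsub : ∀ M : Subgroup G, (P : Subgroup G) ≤ M → M ≠ ⊤ → Cfsg.HasNormalPComplement p M := by
      intro M hPM hM
      refine hrec M hM (P.subtype hPM) ?_
      rwa [show ((P.subtype hPM : Sylow p M) : Subgroup M).map M.subtype = (P : Subgroup G) by
        simp [subgroupOf_map_subtype, hPM]]
    have hWne : ∀ {X : Subgroup G}, IsPGroup p X → X ≠ ⊥ →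
        Cfsg.inducedFunctor (G := G) W X ≠ ⊥ := fun hX hne =>
      (isConjugacyFunctor_induced hW _ hX).2.1 hne
    have hNW : ∀ {X : Subgroup G}, IsPGroup p X → normalizer (X : Set G) ≤
        normalizer ((Cfsg.inducedFunctor (G := G) W X : Subgroup G) : Set G) := by
      intro X hX g hg
      refine ConjFunctorBasic.mem_normalizer_iff_cmap.mpr ?_
      have h1 := (isConjugacyFunctor_induced hW _ hX).2.2 g
      have h2 : X.map (MulAut.conj g).toMonoidHom = X := ConjFunctorBasic.mem_normalizer_iff_cmap.mp hg
      rw [h2] at h1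
      exact h1.symm
    -- Step 1
    have hU : Cfsg.pCore p G ≠ ⊥ := by
      intro hcore
      have hl := mt (TransferAlperin.hasNormalPComplement_iff_normalizer (p := p)).2 hG
      push Not at hl
      obtain ⟨Q₀, hQ₀⟩ := hl
      obtain ⟨Q, ⟨hQp, hQne, hQnc⟩, hQmax⟩ := Set.exists_max_image
        {Q : Subgroup G | IsPGroup p Q ∧ Q ≠ ⊥ ∧
          ¬ Cfsg.HasNormalPComplement p (normalizer (Q : Set G))}
        (fun Q => (Nat.card (normalizer (Q : Set G))).factorization p)
        (Set.toFinite _) ⟨Q₀, hQ₀⟩
      obtain ⟨S⟩ : Nonempty (Sylow p (normalizer (Q : Set G))) := inferInstance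
      obtain ⟨T, hT⟩ := (S.isPGroup'.map (normalizer (Q : Set G)).subtype).exists_le_sylow
      obtain ⟨g, hg⟩ := MulAction.exists_smul_eq G T P
      set c := (MulAut.conj g).toMonoidHom with hc
      set Q₁ := Q.map c with hQ₁
      have hcinj : Function.Injective c := (MulAut.conj g).injective
      have hnorm : (normalizer (Q : Set G)).map c = normalizer (Q₁ : Set G) :=
        Subgroup.map_equiv_normalizer_eq _ _
      set N := normalizer (Q₁ : Set G) with hNdef
      have hQ₁ne : Q₁ ≠ ⊥ := by
        rw [hQ₁, Ne, map_eq_bot_iff_of_injective _ hcinj]; exact hQne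
      have hQ₁p : IsPGroup p Q₁ := hQp.map c
      have hcardN : Nat.card N = Nat.card (normalizer (Q : Set G)) := by
        rw [← hnorm]
        exact card_map_of_injective hcinj
      have hNnc : ¬ Cfsg.HasNormalPComplement p N := fun h =>
        hQnc (FrobeniusThompson.pNC_of_map_le c hcinj _ N hnorm.le h)
      set S₁ := (((S : Subgroup _).map (normalizer (Q : Set G)).subtype)).map c with hS₁
      have hS₁P : S₁ ≤ (P : Subgroup G) := by
        rw [← hg, Sylow.coe_subgroup_smul, CoprimeSZ.conj_smul_eq_map]
        exact map_mono hT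
      have hS₁N : S₁ ≤ N := hnorm ▸ map_mono (map_subtype_le _)
      have hS₁card : Nat.card S₁ = p ^ (Nat.card N).factorization p := by
        rw [hS₁, card_map_of_injective hcinj,
          card_map_of_injective (subtype_injective _), S.card_eq_multiplicity, hcardN]
      have hS₁p : IsPGroup p S₁ := P.isPGroup'.to_le hS₁P
      by_cases hSP : S₁ = (P : Subgroup G)
      · by_cases hNtop : N = ⊤
        · exact hQ₁ne (eq_bot_of_normalizer_eq_top hcore hQ₁p hNtop)
        · exact hNnc (hsub N (hSP ▸ hS₁N) hNtop)
      · have hlt : S₁ < (P : Subgroup G) := lt_of_le_of_ne hS₁P hSP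
        have hNtop : N ≠ ⊤ := by
          intro e
          refine hSP (eq_of_le_of_card_ge hS₁P ?_)
          rw [hS₁card, e, Nat.card_congr topEquiv.toEquiv]
          exact P.card_eq_multiplicity.le
        have hgrow : S₁ < (P : Subgroup G) ⊓ normalizer (S₁ : Set G) := by
          refine lt_of_le_of_ne (le_inf hS₁P le_normalizer) fun e => ?_
          have h1 := PGroupsBasic.lt_normalizer P.isPGroup' (H := S₁.subgroupOf (P : Subgroup G))
            (fun h => hlt.not_ge (subgroupOf_eq_top.1 h))
          refine h1.not_ge fun x hx => ?_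
          rw [mem_subgroupOf, e]
          refine ⟨x.2, CoprimeAction.mem_normalizer_of_conj_smul_eq ?_⟩
          rw [CoprimeSZ.conj_smul_eq_map]
          refine eq_of_le_of_card_ge ?_ (card_map_of_injective (MulAut.conj (x : G)).injective).ge
          rintro _ ⟨y, hy, rfl⟩
          exact mem_subgroupOf.mp ((mem_normalizer_iff.1 hx ⟨y, hS₁P hy⟩).1 hy)
        have hS₁ne : S₁ ≠ ⊥ := by
          intro e
          obtain ⟨m, hm, hm'⟩ := hQ₁p.nontrivial_iff_card.mp (nontrivial_iff_ne_bot _ |>.mpr hQ₁ne)
          have h1 : p ∣ Nat.card N := (dvd_pow_self p hm.ne').trans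
            (hm' ▸ card_dvd_of_le le_normalizer)
          rw [e, Subgroup.card_bot] at hS₁card
          have h2 := (hp.out.factorization_pos_of_dvd Nat.card_pos.ne' h1)
          exact absurd hS₁card.symm (Nat.one_lt_pow h2.ne' hp.out.one_lt).ne'
        have hWS : Cfsg.HasNormalPComplement p
            (normalizer ((Cfsg.inducedFunctor (G := G) W S₁ : Subgroup G) : Set G)) := by
          by_contra hnc
          set R := Cfsg.inducedFunctor (G := G) W S₁
          have h5 := hQmax R ⟨hS₁p.to_le (inducedFunctor_le W S₁), hWne hS₁p hS₁ne, hnc⟩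
          set X := (P : Subgroup G) ⊓ normalizer (S₁ : Set G) with hX
          obtain ⟨k, hk⟩ := IsPGroup.iff_card.1 (P.isPGroup'.to_le (inf_le_left : X ≤ P))
          have h2 : Nat.card S₁ < Nat.card X := by
            refine lt_of_le_of_ne (Nat.le_of_dvd Nat.card_pos (card_dvd_of_le hgrow.le)) ?_
            exact fun e => hgrow.ne (eq_of_le_of_card_ge hgrow.le e.ge)
          rw [hS₁card, hk, Nat.pow_lt_pow_iff_right hp.out.one_lt, hcardN] at h2
          have h3 : Nat.card X ∣ Nat.card (normalizer (R : Set G)) :=
            card_dvd_of_le (inf_le_right.trans (hNW hS₁p))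
          rw [hk] at h3
          have := (hp.out.pow_dvd_iff_le_factorization Nat.card_pos.ne').1 h3
          omega
        let S' : Sylow p N := Sylow.ofCard (S₁.subgroupOf N) (by
          rw [Nat.card_congr (subgroupOfEquivOfLe hS₁N).toEquiv, hS₁card])
        refine hNnc (hrec N hNtop S' ?_)
        rwa [show (S' : Subgroup N).map N.subtype = S₁ by
          show (S₁.subgroupOf N).map N.subtype = S₁
          rw [subgroupOf_map_subtype, inf_eq_left.2 hS₁N]]
    -- Step 2
    have hO : ∀ K : Subgroup G, K.Normal → (Nat.card K).Coprime p → K = ⊥ := by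
      intro K hKn hKp
      by_contra hne
      apply hG
      refine FrobeniusThompson.pNC_of_quotient K
        (fun h => hp.out.coprime_iff_not_dvd.mp hKp.symm h) ?_
      refine ih (G ⧸ K) (lt_of_lt_of_le (card_quotient_lt hne) (by omega))
        (P.mapSurjective (QuotientGroup.mk'_surjective K)) ?_
        fun H _ _ hH => hloc H (involves_trans hH (involves_quotient K))
      refine FrobeniusThompson.pNC_of_image (QuotientGroup.mk' K) _ _ (fun d hd => ?_) hN
      obtain ⟨d', hd', rfl⟩ := exists_lift_normalizer hW P.isPGroup' hKp hd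
      exact mem_map_of_mem _ hd'
    -- Step 3: `G / U` has a normal `p`-complement
    set U := Cfsg.pCore p G with hUdef
    haveI : U.Normal := HallCore.pCore_normal p G
    have hUp : IsPGroup p U := HallCore.isPGroup_pCore p G
    have hUP : U ≤ (P : Subgroup G) := HallCore.pCore_le_sylow P
    have hWtop : normalizer ((Cfsg.inducedFunctor (G := G) W (P : Subgroup G) : Subgroup G) : Set G) ≠ ⊤ := by
      intro e
      rw [e] at hN
      exact hG ((TransferPResidual.hasNormalPComplement_congr Subgroup.topEquiv).1 hN)
    have hPU : ¬ (P : Subgroup G) ≤ U := by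
      intro h
      refine hWtop (top_le_iff.1 ?_)
      rw [← normalizer_eq_top_iff.mpr ((le_antisymm h hUP).symm ▸ ‹U.Normal› : (P : Subgroup G).Normal)]
      exact hNW P.isPGroup'
    set f := QuotientGroup.mk' U with hfdef
    have hsurj : Function.Surjective f := QuotientGroup.mk'_surjective U
    set P' := P.mapSurjective hsurj
    have hP'ne : (P' : Subgroup (G ⧸ U)) ≠ ⊥ := by
      rw [Sylow.coe_mapSurjective, Ne, Subgroup.map_eq_bot_iff, QuotientGroup.ker_mk']
      exact hPU
    have hcoreQ : Cfsg.pCore p (G ⧸ U) = ⊥ := HallCore.pCore_quotient_self p G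
    have hQnc : Cfsg.HasNormalPComplement p (G ⧸ U) := by
      refine ih (G ⧸ U) (lt_of_lt_of_le (card_quotient_lt hU) (by omega)) P' ?_
        fun H _ _ hH => hloc H (involves_trans hH (involves_quotient U))
      set X := Cfsg.inducedFunctor (G := G ⧸ U) W (P' : Subgroup (G ⧸ U))
      have hXne : X ≠ ⊥ := (isConjugacyFunctor_induced hW _ P'.isPGroup').2.1 hP'ne
      have hne : normalizer (X : Set (G ⧸ U)) ≠ ⊤ := fun e =>
        hXne (eq_bot_of_normalizer_eq_top hcoreQ (P'.isPGroup'.to_le (inducedFunctor_le W _)) e)
      refine FrobeniusThompson.pNC_of_image f ((normalizer (X : Set (G ⧸ U))).comap f) _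
        (map_comap_eq_self_of_surjective hsurj _).ge (hsub _ ?_ ?_)
      · intro x hx
        refine (?_ : f x ∈ normalizer (X : Set (G ⧸ U)))
        refine ConjFunctorBasic.mem_normalizer_iff_cmap.mpr ?_
        have h1 := (isConjugacyFunctor_induced hW _ P'.isPGroup').2.2 (f x)
        have h2 : (P' : Subgroup (G ⧸ U)).map (MulAut.conj (f x)).toMonoidHom = P' :=
          ConjFunctorBasic.mem_normalizer_iff_cmap.mp
            (le_normalizer (show f x ∈ (P' : Subgroup (G ⧸ U)) from ⟨x, hx, rfl⟩))
        rw [h2] at h1
        exact h1.symm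
      · intro e
        apply hne
        rw [← map_comap_eq_self_of_surjective hsurj (normalizer (X : Set (G ⧸ U))), e,
          ← MonoidHom.range_eq_map, MonoidHom.range_eq_top.2 hsurj]
    -- Step 4: `C(U) ≤ U`
    set R := Cfsg.pResidual p (G ⧸ U) with hRdef
    have hRp : ¬ p ∣ Nat.card R := TransferPResidual.hasNormalPComplement_iff_not_dvd.1 hQnc
    set C := centralizer (U : Set G) with hCdef
    haveI : C.Normal := normal_centralizer
    set Cs := C ⊓ R.comap f with hCs
    haveI : Cs.Normal := inferInstance
    have hCsU : Cs ≤ U := by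
      set D := U.subgroupOf Cs
      have hDc : D ≤ center Cs := fun x hx => mem_center_iff.mpr fun y =>
        Subtype.ext (mem_centralizer_iff.mp y.2.1 _ (mem_subgroupOf.mp hx)).symm
      have hind : ¬ p ∣ D.index := by
        have h1 := index_ker (f.comp Cs.subtype)
        rw [MonoidHom.range_eq_map, ← Subgroup.map_map, ← MonoidHom.range_eq_map, range_subtype,
          ← MonoidHom.comap_ker, QuotientGroup.ker_mk'] at h1
        rw [show D.index = Nat.card (Cs.map f) from h1]
        exact fun h => hRp (h.trans (card_dvd_of_le (map_le_iff_le_comap.mpr inf_le_right)))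
      obtain ⟨O, hOeq, -, hco, hcomp, -⟩ := CentralSylow.central_sylow D hDc hUp.comap_subtype hind
      have hObot : O = ⊥ := by
        haveI : O.Characteristic := hOeq ▸ HallCore.pPrimeCore_characteristic p Cs
        have := hO (O.map Cs.subtype) inferInstance
          (by rwa [card_map_of_injective Cs.subtype_injective])
        rwa [map_eq_bot_iff_of_injective _ Cs.subtype_injective] at this
      have hDtop : D = ⊤ := by
        have := hcomp.sup_eq_top
        rwa [hObot, bot_sup_eq] at this
      exact subgroupOf_eq_top.mp hDtop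
    have hconstr : Constr p G := by
      set Cb := C.map f
      haveI : Cb.Normal := Normal.map inferInstance f hsurj
      have hCb : IsPGroup p Cb := by
        refine IsPGroup.of_injective (TransferPResidual.isPGroup_quotient_pResidual (G := G ⧸ U))
          ((QuotientGroup.mk' R).comp Cb.subtype) ?_
        rw [injective_iff_map_eq_one]
        rintro ⟨_, x, hx, rfl⟩ hk
        have hxR : f x ∈ R := (QuotientGroup.eq_one_iff _).1 hk
        exact Subtype.ext ((QuotientGroup.eq_one_iff x).2 (hCsU ⟨hx, hxR⟩))
      have := HallCore.le_pCore (p := p) hCb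
      rw [hcoreQ, le_bot_iff, Subgroup.map_eq_bot_iff, QuotientGroup.ker_mk'] at this
      exact this
    -- Step 5: `P` is a maximal subgroup
    have hmax : IsCoatom (P : Subgroup G) := by
      refine ⟨fun e => hG (TransferPResidual.hasNormalPComplement_of_isPGroup ?_), fun M hM => ?_⟩
      · exact P.isPGroup'.of_equiv ((MulEquiv.subgroupCongr e).trans topEquiv)
      · by_contra hne
        have hnc := hsub M hM.le hne
        have hUM : U ≤ M := hUP.trans hM.le
        set A := Cfsg.pResidual p M with hA
        have hAcop : (Nat.card A).Coprime p := (hp.out.coprime_iff_not_dvd.2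
          (TransferPResidual.hasNormalPComplement_iff_not_dvd.1 hnc)).symm
        haveI : (U.subgroupOf M).Normal := inferInstance
        have h1 : A ≤ centralizer ((U.subgroupOf M : Subgroup M) : Set M) :=
          TransferPResidual.le_centralizer_of_normal_pGroup hnc hUp.comap_subtype
        have h2 : A ≤ U.subgroupOf M := by
          intro a ha
          refine mem_subgroupOf.mpr (hconstr (mem_centralizer_iff.mpr fun v hv => ?_))
          exact congrArg Subtype.val (mem_centralizer_iff.mp (h1 ha) ⟨v, hUM hv⟩
            (mem_subgroupOf.mpr hv))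
        have h3 : A = ⊥ := le_bot_iff.mp
          ((le_inf h2 le_rfl).trans (inf_eq_bot_of_pGroup hUp.comap_subtype hAcop).le)
        have hMp : IsPGroup p M := TransferPResidual.pResidual_eq_bot_iff.mp h3
        exact hM.ne' (P.is_maximal' hMp hM.le)
    have hnorm := hloc G involves_refl hconstr hQnc P hmax
    exact hWtop (normalizer_eq_top_iff.mpr hnorm)


/-- Thompson's normal p-complement criterion in functor form. Let p be a prime, G a finite group with Sylow p-subgroup S, and W an isomorphism-invariant p-group functor (W assigns to every group Q a subgroup W(Q), nontrivial whenever Q is a nontrivial finite p-group, and every isomorphism from a finite p-group Q onto a group R carries W(Q) onto W(R)). Suppose N_G(W(S)) has a normal p-complement, and that W(S*) is normal in G* whenever G* = K/R is a section of G with C_{G*}(O_p(G*)) ≤ O_p(G*) such that G*/O_p(G*) has a normal p-complement, and S* is a Sylow p-subgroup of G* that is a maximal subgroup of G*. Then G has a normal p-complement. -/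
theorem result {G : Type u} [Group G] [Finite G] {p : ℕ} [Fact p.Prime] (W : ∀ (Q : Type u) [Group Q], Subgroup Q) (hW : Cfsg.IsCharPFunctor.{u} p W) (S : Sylow p G) (hN : Cfsg.HasNormalPComplement p ↥(Subgroup.normalizer ((Cfsg.inducedFunctor (G := G) W (S : Subgroup G) : Subgroup G) : Set G))) (hloc : ∀ (K R : Subgroup G) [hR : (R.subgroupOf K).Normal], Subgroup.centralizer ((Cfsg.pCore p (↥K ⧸ R.subgroupOf K) : Subgroup (↥K ⧸ R.subgroupOf K)) : Set (↥K ⧸ R.subgroupOf K)) ≤ Cfsg.pCore p (↥K ⧸ R.subgroupOf K) → Cfsg.HasNormalPComplement p ((↥K ⧸ R.subgroupOf K) ⧸ Cfsg.pCore p (↥K ⧸ R.subgroupOf K)) → ∀ T : Sylow p (↥K ⧸ R.subgroupOf K), IsCoatom (T : Subgroup (↥K ⧸ R.subgroupOf K)) → (Cfsg.inducedFunctor (G := (↥K ⧸ R.subgroupOf K)) W ((T : Subgroup (↥K ⧸ R.subgroupOf K)))).Normal) : Cfsg.HasNormalPComplement p G := by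
  refine criterion_aux W hW (Nat.card G + 1) G (Nat.lt_succ_self _) S hN ?_
  intro H _ _ hH hc hq T hT
  obtain ⟨K, R, hR, ⟨e⟩⟩ := hH
  have hcore : (Cfsg.pCore p (↥K ⧸ R.subgroupOf K)).map e.toMonoidHom = Cfsg.pCore p H :=
    HallCore.map_equiv_pCore e
  have hq' : Cfsg.HasNormalPComplement p
      ((↥K ⧸ R.subgroupOf K) ⧸ Cfsg.pCore p (↥K ⧸ R.subgroupOf K)) :=
    (TransferPResidual.hasNormalPComplement_congr (QuotientGroup.congr _ _ e hcore)).2 hq
  let T' : Sylow p (↥K ⧸ R.subgroupOf K) := T.mapSurjective (f := e.symm.toMonoidHom) e.symm.surjective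
  have hT'eq : (T' : Subgroup _).map e.toMonoidHom = (T : Subgroup H) := by
    show ((T : Subgroup H).map e.symm.toMonoidHom).map e.toMonoidHom = _
    ext x; simp
  have hco : IsCoatom (T' : Subgroup (↥K ⧸ R.subgroupOf K)) :=
    (OrderIso.isCoatom_iff (MulEquiv.mapSubgroup e.symm) (T : Subgroup H)).mpr hT
  have hn := hloc K R (ConjFunctorMain.constr_congr e.symm hc) hq' T' hco
  have := ConjFunctorSection.inducedFunctor_map hW e.toMonoidHom T'.isPGroup'
    (by rw [(MonoidHom.ker_eq_bot_iff _).mpr e.injective, inf_bot_eq])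
  rw [hT'eq] at this
  rw [this]
  exact hn.map _ e.surjective

end Cfsg.Agent.S2005
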