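import Cfsg.Statements.S2006
import Cfsg.Agent.S2005
import Cfsg.Agent.Lib.CoprimeAction

set_option autoImplicit false
universe u
open Cfsg

namespace Cfsg.Agent.S2006

open Subgroup Cfsg.Agent.ConjFunctorSection Cfsg.Agent.ConjFunctorMaster

/-- An element `g` with `(g - 1)^(p-1) = 0` in a ring of characteristic `p` commutes with any
abelian group of order prime to `p` that it normalizes. -/
theorem commutes_of_nilpotent {p : ℕ} [hp : Fact p.Prime] {A : Type*} [Ring A] (hA : (p : A) = 0)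
    {Q : Type*} [Group Q] (ρ : Q →* A) (R : Subgroup Q) [Finite R] [IsMulCommutative R]
    (hR : (Nat.card R).Coprime p) (g : Q) (hg : g ∈ normalizer (R : Set Q))
    (hnil : (ρ g - 1) ^ (p - 1) = 0) : ∀ r ∈ R, ρ (r * g * r⁻¹ * g⁻¹) = 1 := by
  classical
  haveI : Fintype R := Fintype.ofFinite R
  rcases subsingleton_or_nontrivial A with hs | hs
  · exact fun _ _ => Subsingleton.elim _ _
  haveI : CharP A p := by
    haveI := ringChar.charP A
    rcases (Nat.dvd_prime hp.out).mp (ringChar.dvd hA) with h | h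
    · haveI : CharP A 1 := h ▸ ringChar.charP A
      exact absurd (CharP.CharOne.subsingleton (R := A)) (not_subsingleton A)
    · exact h ▸ ringChar.charP A
  letI := ZMod.algebra A p
  have hpoly : ((Polynomial.X : Polynomial (ZMod p)) - 1) ^ (p - 1) =
      ∑ i ∈ Finset.range p, Polynomial.X ^ i := by
    refine mul_right_cancel₀ (b := (Polynomial.X : Polynomial (ZMod p)) - 1) ?_ ?_
    · simpa using Polynomial.X_sub_C_ne_zero (1 : ZMod p)
    · rw [geom_sum_mul, ← pow_succ, Nat.sub_add_cancel hp.out.one_le, sub_pow_char]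
      simp
  have hsum : ∑ i ∈ Finset.range p, ρ (g ^ i) = 0 := by
    have := congrArg (Polynomial.aeval (ρ g)) hpoly
    simp only [map_pow, map_sub, map_one, map_sum, Polynomial.aeval_X] at this
    simp only [map_pow, ← this, hnil]
  have hgp : ρ (g ^ p) = 1 := by
    have := geom_sum_mul (ρ g) p
    simp only [← map_pow] at this
    rw [hsum, zero_mul, eq_comm, sub_eq_zero] at this
    exact this
  have hgi : ∀ i : ℕ, g ^ i ∈ normalizer (R : Set Q) := fun i => pow_mem hg i
  have hconj : ∀ (i : ℕ), ∀ r ∈ R, g ^ i * r * (g ^ i)⁻¹ ∈ R := fun i r hr =>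
    (mem_normalizer_iff.mp (hgi i) r).mp hr
  have hcR : ∀ (i : ℕ), ∀ r ∈ R, r * g ^ i * r⁻¹ * (g ^ i)⁻¹ ∈ R := fun i r hr => by
    have := mul_mem hr (hconj i _ (inv_mem hr))
    simpa [mul_assoc] using this
  let c : ℕ → R → R := fun i r => ⟨r * g ^ i * (r : Q)⁻¹ * (g ^ i)⁻¹, hcR i r r.2⟩
  have hcmul : ∀ i (r s : R), c i (r * s) = c i r * c i s := by
    intro i r s
    have h1 : c i (r * s) = r * c i s * (⟨g ^ i * (r : Q)⁻¹ * (g ^ i)⁻¹, hconj i _ (inv_mem r.2)⟩ : R) := by
      apply Subtype.ext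
      show (r : Q) * s * g ^ i * ((r : Q) * s)⁻¹ * (g ^ i)⁻¹ =
        r * (s * g ^ i * (s : Q)⁻¹ * (g ^ i)⁻¹) * (g ^ i * (r : Q)⁻¹ * (g ^ i)⁻¹)
      group
    have h2 : c i r = r * (⟨g ^ i * (r : Q)⁻¹ * (g ^ i)⁻¹, hconj i _ (inv_mem r.2)⟩ : R) := by
      apply Subtype.ext
      show (r : Q) * g ^ i * (r : Q)⁻¹ * (g ^ i)⁻¹ = r * (g ^ i * (r : Q)⁻¹ * (g ^ i)⁻¹)
      group
    rw [h1, h2]
    simp only [mul_assoc]
    exact congrArg (r * ·) (IsMulCommutative.is_comm.comm _ _)
  have hrange : ∀ i j (r : R), ∃ r' : R, c (i * j) r = c i r' := by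
    intro i j
    induction j with
    | zero =>
      intro r
      exact ⟨1, Subtype.ext (by simp [c])⟩
    | succ j ih =>
      intro r
      obtain ⟨r', hr'⟩ := ih r
      refine ⟨r' * ⟨g ^ (i * j) * r * (g ^ (i * j))⁻¹, hconj _ r r.2⟩, ?_⟩
      rw [hcmul, ← hr']
      apply Subtype.ext
      show (r : Q) * g ^ (i * (j + 1)) * (r : Q)⁻¹ * (g ^ (i * (j + 1)))⁻¹ =
        r * g ^ (i * j) * (r : Q)⁻¹ * (g ^ (i * j))⁻¹ * (g ^ (i * j) * r * (g ^ (i * j))⁻¹ * g ^ i *
          (g ^ (i * j) * r * (g ^ (i * j))⁻¹)⁻¹ * (g ^ i)⁻¹)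
      rw [Nat.mul_succ, pow_add]
      group
  intro r₀ hr₀
  set s := r₀ * g * r₀⁻¹ * g⁻¹ with hs'
  -- the averaged relation
  have havg : ∑ i ∈ Finset.range p, (∑ r : R, ρ (c i r)) * ρ (g ^ i) = 0 := by
    simp only [Finset.sum_mul, ← map_mul]
    rw [Finset.sum_comm]
    refine Finset.sum_eq_zero fun r _ => ?_
    have : ∀ i : ℕ, ρ ((c i r : Q) * g ^ i) = ρ (r : Q) * ρ (g ^ i) * ρ ((r : Q)⁻¹) := by
      intro i
      rw [← map_mul, ← map_mul]
      simp [c]
    simp only [this, ← Finset.mul_sum, ← Finset.sum_mul, hsum, mul_zero, zero_mul]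
  have hkill : ∀ i ∈ Finset.range p, i ≠ 0 → (ρ s - 1) * ∑ r : R, ρ (c i r) = 0 := by
    intro i hi hi0
    have hco : Nat.Coprime i p := (hp.out.coprime_iff_not_dvd.mpr fun hd =>
      absurd (Nat.le_of_dvd (Nat.pos_of_ne_zero hi0) hd) (by simpa using hi)).symm
    obtain ⟨j, hj⟩ := Nat.exists_mul_mod_eq_one_of_coprime hco hp.out.one_lt
    obtain ⟨r', hr'⟩ := hrange i j ⟨r₀, hr₀⟩
    have he : ρ (c i r') = ρ s := by
      rw [← hr']
      show ρ (r₀ * g ^ (i * j) * r₀⁻¹ * (g ^ (i * j))⁻¹) = ρ s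
      obtain ⟨m, hm⟩ : ∃ m, i * j = p * m + 1 := ⟨i * j / p, by
        have := Nat.div_add_mod (i * j) p; omega⟩
      have h3 : ρ ((g ^ p) ^ m) = 1 := by rw [map_pow, hgp, one_pow]
      have h4 : ρ (((g ^ p) ^ m)⁻¹) = 1 := by
        have h5 := map_mul ρ ((g ^ p) ^ m) ((g ^ p) ^ m)⁻¹
        rwa [mul_inv_cancel, map_one, h3, one_mul, eq_comm] at h5
      rw [hm, pow_succ', pow_mul, hs', mul_inv_rev]
      simp only [map_mul, h3, h4, mul_one, one_mul]
    rw [sub_mul, one_mul, Finset.mul_sum, sub_eq_zero, ← he]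
    simp only [← map_mul, ← Subgroup.coe_mul, ← hcmul]
    exact Fintype.sum_equiv (Equiv.mulLeft r') (fun r => ρ (c i (r' * r))) (fun r => ρ (c i r))
      fun r => rfl
  have h0 : (ρ s - 1) * (Nat.card R : A) = 0 := by
    have h1 : (ρ s - 1) * ∑ i ∈ Finset.range p, (∑ r : R, ρ (c i r)) * ρ (g ^ i) = 0 := by
      rw [havg, mul_zero]
    rw [Finset.mul_sum, Finset.sum_eq_single_of_mem 0 (Finset.mem_range.mpr hp.out.pos)
      fun i hi hi0 => by rw [← mul_assoc, hkill i hi hi0, zero_mul]] at h1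
    simpa [c, Nat.card_eq_fintype_card] using h1
  have hunit : IsUnit (Nat.card R : A) := by
    have := ((ZMod.unitOfCoprime _ hR).isUnit).map (algebraMap (ZMod p) A)
    simpa using this
  exact sub_eq_zero.mp ((hunit.mul_left_eq_zero).mp h0)

/-- A minimal normal `p`-subgroup is elementary abelian and centralized by normal `p`-subgroups. -/
theorem minimal_normal_pGroup {p : ℕ} [hp : Fact p.Prime] {G : Type*} [Group G] [Finite G]
    {N : Subgroup G} [N.Normal] (hN : IsPGroup p N) (hne : N ≠ ⊥)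
    (hmin : ∀ M : Subgroup G, M.Normal → M ≤ N → M = ⊥ ∨ M = N) :
    IsMulCommutative N ∧ (∀ x ∈ N, x ^ p = 1) ∧
      ∀ B : Subgroup G, B.Normal → IsPGroup p B → B ≤ centralizer (N : Set G) := by
  have hcomm : IsMulCommutative N := by
    haveI : Nontrivial N := (nontrivial_iff_ne_bot N).mpr hne
    haveI := hN.center_nontrivial
    rcases hmin ((center N).map N.subtype) inferInstance (map_subtype_le _) with h | h
    · rw [map_eq_bot_iff_of_injective _ N.subtype_injective] at h
      exact absurd h ((nontrivial_iff_ne_bot _).mp inferInstance)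
    · refine ⟨⟨fun a b => ?_⟩⟩
      have ha : (a : G) ∈ (center N).map N.subtype := by rw [h]; exact a.2
      obtain ⟨a', ha', e⟩ := ha
      have : a' = a := Subtype.ext e
      exact (mem_center_iff.mp (this ▸ ha') b).symm
  refine ⟨hcomm, ?_, ?_⟩
  · let P : Subgroup G :=
      { carrier := {x | x ∈ N ∧ x ^ p = 1}
        one_mem' := ⟨one_mem N, one_pow p⟩
        mul_mem' := fun {a b} ha hb => ⟨mul_mem ha.1 hb.1, by
          have h : Commute a b := congrArg Subtype.val (hcomm.is_comm.comm ⟨a, ha.1⟩ ⟨b, hb.1⟩)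
          rw [h.mul_pow, ha.2, hb.2, one_mul]⟩
        inv_mem' := fun {a} ha => ⟨inv_mem ha.1, by rw [inv_pow, ha.2, inv_one]⟩ }
    have hPn : P.Normal := ⟨fun x hx g => ⟨Normal.conj_mem ‹N.Normal› x hx.1 g, by
      rw [conj_pow, hx.2, mul_one, mul_inv_cancel]⟩⟩
    rcases hmin P hPn (fun x hx => hx.1) with h | h
    · haveI : Nontrivial N := (nontrivial_iff_ne_bot N).mpr hne
      obtain ⟨k, hk, hcard⟩ := hN.nontrivial_iff_card.mp inferInstance
      obtain ⟨x, hx⟩ := exists_prime_orderOf_dvd_card' (G := N) p (hcard ▸ dvd_pow_self p hk.ne')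
      have hxP : (x : G) ∈ P := ⟨x.2, by
        rw [← hx, ← orderOf_coe]; exact pow_orderOf_eq_one _⟩
      rw [h, mem_bot, ← orderOf_eq_one_iff, orderOf_coe, hx] at hxP
      exact absurd hxP hp.out.ne_one
    · exact fun x hx => ((h.symm ▸ hx : x ∈ P)).2
  · intro B hB hBp
    have hBN : B ≤ normalizer (N : Set G) := by rw [normalizer_eq_top]; exact le_top
    obtain ⟨d, hd, hd1, hfix⟩ := FrobeniusThompson.exists_fixed hBp hN hBN hne
    rcases hmin (N ⊓ centralizer (B : Set G)) inferInstance inf_le_left with h | h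
    · refine absurd ?_ hd1
      rw [← mem_bot, ← h]
      exact ⟨hd, mem_centralizer_iff.mpr fun b hb => mul_inv_eq_iff_eq_mul.mp (hfix b hb)⟩
    · exact le_centralizer_iff.mp (h.symm.le.trans inf_le_right)

/-- The normalizer of a subgroup normalizes its center. -/
theorem normalizer_le_normalizer_center {G : Type*} [Group G] [Finite G] (H : Subgroup G) :
    normalizer (H : Set G) ≤ normalizer ((center H).map H.subtype : Set G) := by
  intro g hg
  refine mem_normalizer_fintype ?_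
  rintro _ ⟨z, hz, rfl⟩
  refine ⟨⟨g * z * g⁻¹, (mem_normalizer_iff.mp hg z).mp z.2⟩, mem_center_iff.mpr fun y => ?_, rfl⟩
  have hy : g⁻¹ * (y : G) * g ∈ H := (mem_normalizer_iff''.mp hg y).mp y.2
  have h1 := congrArg Subtype.val (mem_center_iff.mp hz ⟨_, hy⟩)
  simp only [Subgroup.coe_mul] at h1
  apply Subtype.ext
  show (y : G) * (g * z * g⁻¹) = g * z * g⁻¹ * y
  calc (y : G) * (g * z * g⁻¹) = g * (g⁻¹ * y * g * z) * g⁻¹ := by group
    _ = g * (z * (g⁻¹ * y * g)) * g⁻¹ := by rw [h1]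
    _ = _ := by group

/-- The kernel of the conjugation action on a normal subgroup. -/
theorem ker_conj {G : Type*} [Group G] (N : Subgroup G) [N.Normal] :
    ((MulAut.conjNormal : G →* MulAut N)).ker = centralizer (N : Set G) := by
  ext g
  rw [MonoidHom.mem_ker, mem_centralizer_iff]
  constructor
  · intro h x hx
    have h1 := congrArg Subtype.val (DFunLike.congr_fun h ⟨x, hx⟩)
    rw [MulAut.conjNormal_apply, MulAut.one_apply] at h1
    exact (mul_inv_eq_iff_eq_mul.mp h1).symm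
  · intro h
    ext x
    rw [MulAut.conjNormal_apply, MulAut.one_apply, ← h x x.2, mul_inv_cancel_right]

/-- Case of a maximal Sylow subgroup: no element outside the core acts with low degree. -/
theorem no_low_degree {p : ℕ} [hp : Fact p.Prime] {G : Type u} [Group G] [Finite G]
    (hq : Cfsg.HasNormalPComplement p (G ⧸ Cfsg.pCore p G)) (T : Sylow p G)
    (hT : IsCoatom (T : Subgroup G)) {g : G} (hgT : g ∈ (T : Subgroup G))
    (hg : g ∉ Cfsg.pCore p G) {U V : Subgroup G} (hchief : Cfsg.IsChiefFactor U V)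
    (hU : U ≤ Cfsg.pCore p G) (hiter : Cfsg.iterCommutator U (zpowers g) (p - 1) ≤ V)
    (hne : ¬ ⁅U, zpowers g⁆ ≤ V) : False := by
  obtain ⟨hVU, hUn, hVn, hirr⟩ := hchief
  haveI := hUn
  haveI := hVn
  set Z := Cfsg.pCore p G
  haveI : Z.Normal := HallCore.pCore_normal p G
  have hZp : IsPGroup p Z := HallCore.isPGroup_pCore p G
  set π := QuotientGroup.mk' V with hπ
  have hπs : Function.Surjective π := QuotientGroup.mk'_surjective V
  set N := U.map π with hNdef
  haveI : N.Normal := Normal.map inferInstance π hπs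
  have hNne : N ≠ ⊥ := by
    rw [hNdef, Ne, Subgroup.map_eq_bot_iff, QuotientGroup.ker_mk']
    exact hVU.not_ge
  have hNp : IsPGroup p N := (hZp.to_le hU).map π
  have hmin : ∀ M : Subgroup (G ⧸ V), M.Normal → M ≤ N → M = ⊥ ∨ M = N := by
    intro M hM hMN
    have h1 : V ≤ M.comap π := by
      intro v hv
      rw [mem_comap, show π v = 1 from (QuotientGroup.eq_one_iff v).mpr hv]
      exact one_mem M
    have h2 : M.comap π ≤ U := by
      refine (comap_mono hMN).trans ?_
      rw [hNdef, comap_map_eq, QuotientGroup.ker_mk']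
      exact sup_le le_rfl hVU.le
    rcases hirr (M.comap π) (hM.comap π) h1 h2 with h | h
    · left
      rw [← map_comap_eq_self_of_surjective hπs M, h, Subgroup.map_eq_bot_iff, QuotientGroup.ker_mk']
    · right
      rw [← map_comap_eq_self_of_surjective hπs M, h]
  obtain ⟨hcomm, hexp, hcentB⟩ := minimal_normal_pGroup hNp hNne hmin
  haveI := hcomm
  letI : CommGroup N := { (inferInstance : Group N) with mul_comm := hcomm.is_comm.comm }
  let endHom : MulAut N →* AddMonoid.End (Additive N) :=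
    { toFun := fun e => MonoidHom.toAdditive e.toMonoidHom
      map_one' := rfl
      map_mul' := fun _ _ => rfl }
  have hA : (p : AddMonoid.End (Additive N)) = 0 := by
    refine AddMonoidHom.ext fun x => ?_
    show (p : AddMonoid.End (Additive N)) x = 0
    rw [AddMonoid.End.natCast_apply]
    exact congrArg Additive.ofMul (Subtype.ext (hexp _ (Additive.toMul x).2) :
      (Additive.toMul x) ^ p = 1)
  let ρ0 : G →* MulAut N := (MulAut.conjNormal : G ⧸ V →* MulAut N).comp π
  have hker0 : ∀ x, ρ0 x = 1 ↔ π x ∈ centralizer (N : Set (G ⧸ V)) := fun x => by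
    rw [← ker_conj]; rfl
  have hZker : Z ≤ ρ0.ker := fun z hz => (hker0 z).mpr
    (hcentB (Z.map π) (Normal.map inferInstance π hπs) (hZp.map π) (mem_map_of_mem π hz))
  let ρ1 : G ⧸ Z →* MulAut N := QuotientGroup.lift Z ρ0 hZker
  let ρ : G ⧸ Z →* AddMonoid.End (Additive N) := endHom.comp ρ1
  set f := QuotientGroup.mk' Z with hf
  have hfs : Function.Surjective f := QuotientGroup.mk'_surjective Z
  -- nilpotence of `ρ g - 1`
  have hpow : ∀ (k : ℕ) (x : Additive N), ((Additive.toMul (((ρ (f g) - 1) ^ k) x) : N) : G ⧸ V) ∈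
      (Cfsg.iterCommutator U (zpowers g) k).map π := by
    intro k
    induction k with
    | zero => exact fun x => (Additive.toMul x).2
    | succ k ih =>
      intro x
      rw [pow_succ']
      obtain ⟨y, hy, hyx⟩ := ih x
      refine ⟨g * y * g⁻¹ * y⁻¹, ?_, ?_⟩
      · show g * y * g⁻¹ * y⁻¹ ∈ ⁅Cfsg.iterCommutator U (zpowers g) k, zpowers g⁆
        rw [commutator_comm]
        exact commutator_mem_commutator (mem_zpowers g) hy
      · rw [map_mul, map_mul, map_mul, map_inv, map_inv, hyx]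
        show _ = ((ρ0 g (Additive.toMul (((ρ (f g) - 1) ^ k) x)) /
          Additive.toMul (((ρ (f g) - 1) ^ k) x) : N) : G ⧸ V)
        rw [div_eq_mul_inv, Subgroup.coe_mul, Subgroup.coe_inv]
        rfl
  have hnil : (ρ (f g) - 1) ^ (p - 1) = 0 := by
    refine AddMonoidHom.ext fun x => ?_
    have h1 := map_mono (f := π) hiter (hpow (p - 1) x)
    rw [QuotientGroup.map_mk'_self, mem_bot] at h1
    exact congrArg Additive.ofMul (Subtype.ext h1 : Additive.toMul (((ρ (f g) - 1) ^ (p - 1)) x) = 1)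
  -- the structure of `G ⧸ Z`
  have hcoreQ : Cfsg.pCore p (G ⧸ Z) = ⊥ := HallCore.pCore_quotient_self p G
  set R := Cfsg.pResidual p (G ⧸ Z) with hR
  have hRp : ¬ p ∣ Nat.card R := TransferPResidual.hasNormalPComplement_iff_not_dvd.1 hq
  have hRcop : (Nat.card R).Coprime p := (hp.out.coprime_iff_not_dvd.2 hRp).symm
  set P' := T.mapSurjective hfs
  have hcompl : R.IsComplement' (P' : Subgroup (G ⧸ Z)) :=
    TransferPResidual.isComplement'_pResidual hRp P'
  have hdisj : ∀ X : Subgroup (G ⧸ Z), IsPGroup p X → X ⊓ R = ⊥ := fun X hX =>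
    inf_eq_bot_of_pGroup hX hRcop
  have hZT : Z ≤ (T : Subgroup G) := HallCore.pCore_le_sylow T
  have hinv : ∀ L : Subgroup (G ⧸ Z), L ≤ R →
      (P' : Subgroup (G ⧸ Z)) ≤ normalizer (L : Set (G ⧸ Z)) → L = ⊥ ∨ L = R := by
    intro L hL hn
    set M := (L ⊔ P').comap f
    have hTM : (T : Subgroup G) ≤ M := fun t ht => mem_sup_right (mem_map_of_mem f ht)
    rcases hT.le_iff.mp hTM with h | h
    · right
      refine le_antisymm hL fun r hr => ?_
      have hr' : r ∈ L ⊔ (P' : Subgroup (G ⧸ Z)) := by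
        obtain ⟨x, rfl⟩ := hfs r
        exact (h.symm ▸ mem_top x : x ∈ M)
      rw [← SetLike.mem_coe, coe_mul_of_right_le_normalizer_left L (P' : Subgroup (G ⧸ Z)) hn] at hr'
      obtain ⟨l, hl, t, ht, rfl⟩ := Set.mem_mul.mp hr'
      have ht' : t ∈ (P' : Subgroup (G ⧸ Z)) ⊓ R := ⟨ht, by
        have := mul_mem (inv_mem (hL hl)) hr
        rwa [inv_mul_cancel_left] at this⟩
      rw [hdisj _ P'.isPGroup', mem_bot] at ht'
      rwa [ht', mul_one]
    · left
      have h3 : L ≤ (P' : Subgroup (G ⧸ Z)) := by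
        intro l hl
        obtain ⟨x, rfl⟩ := hfs l
        exact mem_map_of_mem f (h ▸ (mem_sup_left hl : x ∈ M))
      rw [eq_bot_iff, ← hdisj _ P'.isPGroup']
      exact le_inf h3 hL
  have hRn : (P' : Subgroup (G ⧸ Z)) ≤ normalizer (R : Set (G ⧸ Z)) := by
    rw [normalizer_eq_top]; exact le_top
  have hRne : R ≠ ⊥ := by
    intro h
    have hQp : IsPGroup p (G ⧸ Z) := TransferPResidual.pResidual_eq_bot_iff.mp h
    have := HallCore.le_pCore (p := p) (hQp.to_subgroup (⊤ : Subgroup (G ⧸ Z)))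
    rw [hcoreQ] at this
    exact hg ((QuotientGroup.eq_one_iff g).mp (mem_bot.mp (this (mem_top (f g)))))
  -- `R` is abelian
  haveI hRab : IsMulCommutative R := by
    obtain ⟨q, hq', hqd⟩ := Nat.exists_prime_and_dvd (fun h => hRne (card_eq_one.mp h))
    haveI := Fact.mk hq'
    obtain ⟨Q, hQn⟩ := CoprimeAction.exists_invariant_sylow (p := q) hRn
      (by obtain ⟨k, hk⟩ := IsPGroup.iff_card.mp P'.isPGroup'; rw [hk]; exact hRcop.symm.pow_left k)
      (Or.inl (CoprimeAction.isSolvable_of_isPGroup P'.isPGroup'))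
    set Qg := (Q : Subgroup R).map R.subtype with hQg
    haveI : Nontrivial Qg := by
      rw [nontrivial_iff_ne_bot, hQg, Ne, map_eq_bot_iff_of_injective _ R.subtype_injective]
      exact Sylow.ne_bot_of_dvd_card Q hqd
    have hQp : IsPGroup q Qg := Q.2.map R.subtype
    haveI := hQp.center_nontrivial
    set C := (center Qg).map Qg.subtype
    have hCne : C ≠ ⊥ := by
      rw [Ne, map_eq_bot_iff_of_injective _ Qg.subtype_injective]
      exact (nontrivial_iff_ne_bot _).mp inferInstance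
    have hCn : (P' : Subgroup (G ⧸ Z)) ≤ normalizer (C : Set (G ⧸ Z)) :=
      hQn.trans (normalizer_le_normalizer_center Qg)
    rcases hinv C ((map_subtype_le _).trans (map_subtype_le _)) hCn with h | h
    · exact absurd h hCne
    · refine ⟨⟨fun a b => Subtype.ext ?_⟩⟩
      have ha : (a : G ⧸ Z) ∈ C := by rw [h]; exact a.2
      have hb : (b : G ⧸ Z) ∈ C := by rw [h]; exact b.2
      obtain ⟨a', ha', ea⟩ := ha
      obtain ⟨b', -, eb⟩ := hb
      rw [Subgroup.coe_mul, Subgroup.coe_mul, ← ea, ← eb]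
      exact (congrArg Subtype.val (mem_center_iff.mp ha' b')).symm
  have hgN : f g ∈ normalizer (R : Set (G ⧸ Z)) := by rw [normalizer_eq_top]; exact mem_top _
  have hact := commutes_of_nilpotent hA ρ R hRcop (f g) hgN hnil
  have hgP : f g ∈ (P' : Subgroup (G ⧸ Z)) := mem_map_of_mem f hgT
  by_cases hfaith : ρ1.ker = ⊥
  · -- faithful: `g` centralizes `R`
    have hcen : f g ∈ centralizer (R : Set (G ⧸ Z)) := by
      refine mem_centralizer_iff.mpr fun r hr => ?_
      have h1 : r * f g * r⁻¹ * (f g)⁻¹ ∈ ρ1.ker := by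
        rw [MonoidHom.mem_ker]
        refine MulEquiv.ext fun x => ?_
        exact congrArg Additive.toMul
          (DFunLike.congr_fun (hact r hr) (Additive.ofMul x) : _ = Additive.ofMul x)
      rw [hfaith, mem_bot, mul_inv_eq_one, mul_inv_eq_iff_eq_mul] at h1
      exact h1
    set X := (P' : Subgroup (G ⧸ Z)) ⊓ centralizer (R : Set (G ⧸ Z))
    haveI : X.Normal := by
      refine normalizer_eq_top_iff.mp (top_le_iff.mp ?_)
      rw [← hcompl.sup_eq_top]
      refine sup_le ?_ ?_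
      · refine le_trans ?_ (centralizer_le_normalizer _)
        exact le_centralizer_iff.mp inf_le_right
      · exact CoprimeAction.le_normalizer_inf le_normalizer (by rw [normalizer_eq_top]; exact le_top)
    have hX := HallCore.le_pCore (p := p) (P'.isPGroup'.to_le (inf_le_left : X ≤ P'))
    rw [hcoreQ] at hX
    exact hg ((QuotientGroup.eq_one_iff g).mp (mem_bot.mp (hX ⟨hgP, hcen⟩)))
  · -- otherwise everything acts trivially
    have hRK : R ≤ ρ1.ker := by
      rcases hinv (R ⊓ ρ1.ker) inf_le_left (by rw [normalizer_eq_top]; exact le_top) with h | h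
      · exfalso
        apply hfaith
        rw [eq_bot_iff, ← hcoreQ]
        refine HallCore.le_pCore ?_
        refine IsPGroup.of_injective (TransferPResidual.isPGroup_quotient_pResidual (G := G ⧸ Z))
          ((QuotientGroup.mk' R).comp ρ1.ker.subtype) ?_
        rw [injective_iff_map_eq_one]
        intro x hx
        exact Subtype.ext (mem_bot.mp (h ▸ (⟨(QuotientGroup.eq_one_iff _).1 hx, x.2⟩ :
          (x : G ⧸ Z) ∈ R ⊓ ρ1.ker)))
      · exact h.symm.le.trans inf_le_right
    obtain ⟨d, hd, hd1, hfix⟩ := FrobeniusThompson.exists_fixed (T.isPGroup'.map π) hNp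
      (by rw [normalizer_eq_top]; exact le_top) hNne
    have hall : ∀ x : G, ρ0 x ⟨d, hd⟩ = ⟨d, hd⟩ := by
      intro x
      have hx : f x ∈ R ⊔ (P' : Subgroup (G ⧸ Z)) := hcompl.sup_eq_top ▸ mem_top _
      rw [← SetLike.mem_coe, coe_mul_of_right_le_normalizer_left R (P' : Subgroup (G ⧸ Z)) hRn] at hx
      obtain ⟨r, hr, _, ⟨t, ht, rfl⟩, he⟩ := Set.mem_mul.mp hx
      show ρ1 (f x) ⟨d, hd⟩ = _
      rw [← he, map_mul, hRK hr, one_mul]
      exact Subtype.ext (hfix _ (mem_map_of_mem π ht))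
    rcases hmin (N ⊓ center (G ⧸ V)) inferInstance inf_le_left with h | h
    · refine hd1 (mem_bot.mp (h ▸ ⟨hd, mem_center_iff.mpr fun y => ?_⟩))
      obtain ⟨x, rfl⟩ := hπs y
      have h1 := congrArg Subtype.val (hall x)
      exact mul_inv_eq_iff_eq_mul.mp h1
    · refine hne ?_
      rw [← QuotientGroup.ker_mk' V, ← Subgroup.map_eq_bot_iff, map_commutator,
        commutator_eq_bot_iff_le_centralizer]
      exact ((h.symm.le.trans inf_le_right).trans (center_le_centralizer _))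

/-- Thompson's criterion with the degree hypothesis. -/
theorem result {G : Type u} [Group G] [Finite G] {p : ℕ} [Fact p.Prime] (W : ∀ (Q : Type u) [Group Q], Subgroup Q) (hW : Cfsg.IsCharPFunctor.{u} p W) (S : Sylow p G) (hN : Cfsg.HasNormalPComplement p ↥(Subgroup.normalizer ((Cfsg.inducedFunctor (G := G) W (S : Subgroup G) : Subgroup G) : Set G))) (hloc : ∀ (K R : Subgroup G) [hR : (R.subgroupOf K).Normal], Subgroup.centralizer ((Cfsg.pCore p (↥K ⧸ R.subgroupOf K) : Subgroup (↥K ⧸ R.subgroupOf K)) : Set (↥K ⧸ R.subgroupOf K)) ≤ Cfsg.pCore p (↥K ⧸ R.subgroupOf K) → ∀ T : Sylow p (↥K ⧸ R.subgroupOf K), ¬ (Cfsg.inducedFunctor (G := (↥K ⧸ R.subgroupOf K)) W ((T : Subgroup (↥K ⧸ R.subgroupOf K)))).Normal → ∃ g : (↥K ⧸ R.subgroupOf K), g ∈ (T : Subgroup (↥K ⧸ R.subgroupOf K)) ∧ g ∉ Cfsg.pCore p (↥K ⧸ R.subgroupOf K) ∧ ∃ U V : Subgroup (↥K ⧸ R.subgroupOf K), Cfsg.IsChiefFactor U V ∧ U ≤ Cfsg.pCore p (↥K ⧸ R.subgroupOf K) ∧ Cfsg.iterCommutator U (Subgroup.zpowers g)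 (p - 1) ≤ V ∧ ¬ ⁅U, Subgroup.zpowers g⁆ ≤ V) : Cfsg.HasNormalPComplement p G := by
  refine S2005.criterion_aux W hW (Nat.card G + 1) G (Nat.lt_succ_self _) S hN ?_
  intro H _ _ hH hc hq T hT
  obtain ⟨K, R, hR, ⟨e⟩⟩ := hH
  have hcore : (Cfsg.pCore p (↥K ⧸ R.subgroupOf K)).map e.toMonoidHom = Cfsg.pCore p H :=
    HallCore.map_equiv_pCore e
  have hq' : Cfsg.HasNormalPComplement p
      ((↥K ⧸ R.subgroupOf K) ⧸ Cfsg.pCore p (↥K ⧸ R.subgroupOf K)) :=
    (TransferPResidual.hasNormalPComplement_congr (QuotientGroup.congr _ _ e hcore)).2 hq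
  let T' : Sylow p (↥K ⧸ R.subgroupOf K) := T.mapSurjective (f := e.symm.toMonoidHom) e.symm.surjective
  have hT'eq : (T' : Subgroup _).map e.toMonoidHom = (T : Subgroup H) := by
    show ((T : Subgroup H).map e.symm.toMonoidHom).map e.toMonoidHom = _
    ext x; simp
  have hco : IsCoatom (T' : Subgroup (↥K ⧸ R.subgroupOf K)) :=
    (OrderIso.isCoatom_iff (MulEquiv.mapSubgroup e.symm) (T : Subgroup H)).mpr hT
  have := ConjFunctorSection.inducedFunctor_map hW e.toMonoidHom T'.isPGroup'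
    (by rw [(MonoidHom.ker_eq_bot_iff _).mpr e.injective, inf_bot_eq])
  rw [hT'eq] at this
  rw [this]
  refine Subgroup.Normal.map ?_ _ e.surjective
  by_contra hn
  obtain ⟨g, hgT, hg, U, V, hchief, hU, hiter, hne⟩ :=
    hloc K R (ConjFunctorMain.constr_congr e.symm hc) T' hn
  exact no_low_degree hq' T' hco hgT hg hchief hU hiter hne

end Cfsg.Agent.S2006
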