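import Cfsg.Statements.S2007
import Cfsg.Agent.Lib.CentralSylow

set_option autoImplicit false
open Cfsg Cfsg.Agent.CentralSylow

namespace Cfsg.Agent.S2007

/-- Let p be a prime, G a finite group with Sylow p-subgroup S, and T a normal subgroup of S containing C_S(T). If N_G(T)/C_G(T) is a p-group (every element of N_G(T) of order prime to p centralizes T), then N_G(T) has a normal p-complement. -/
theorem result {G : Type*} [Group G] [Finite G] {p : ℕ} [Fact p.Prime] (S : Sylow p G) (T : Subgroup G) (hTS : T ≤ (S : Subgroup G)) (hTn : (S : Subgroup G) ≤ Subgroup.normalizer ((T : Subgroup G) : Set G)) (hC : (S : Subgroup G) ⊓ Subgroup.centralizer ((T : Subgroup G) : Set G) ≤ T) (hN : ∀ g ∈ Subgroup.normalizer ((T : Subgroup G) : Set G), (orderOf g).Coprime p → g ∈ Subgroup.centralizer ((T : Subgroup G) : Set G)) : Cfsg.HasNormalPComplement p ↥(Subgroup.normalizer ((T : Subgroup G) : Set G)) := by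
  set N := Subgroup.normalizer ((T : Subgroup G) : Set G) with hNdef
  have hTN : T ≤ N := Subgroup.le_normalizer
  let T' : Subgroup N := T.subgroupOf N
  haveI hT' : T'.Normal := Subgroup.normal_in_normalizer
  let C : Subgroup N := Subgroup.centralizer (T' : Set N)
  haveI hCn : C.Normal := by infer_instance
  let S' : Sylow p N := S.subtype hTn
  let Z : Subgroup C := ((S' : Subgroup N) ⊓ C).subgroupOf C
  have hCmem : ∀ n : N, n ∈ C ↔ (n : G) ∈ Subgroup.centralizer (T : Set G) := by
    intro n
    simp only [C, Subgroup.mem_centralizer_iff]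
    constructor
    · intro h t ht
      exact congrArg Subtype.val (h ⟨t, hTN ht⟩ ht)
    · intro h t ht
      exact Subtype.ext (h t ht)
  have hZT : ∀ x : C, x ∈ Z → ((x : N) : G) ∈ T := by
    intro x hx
    exact hC ⟨hx.1, (hCmem x).1 x.2⟩
  have hZc : Z ≤ Subgroup.center C := by
    intro x hx
    rw [Subgroup.mem_center_iff]
    intro y
    refine Subtype.ext (Subtype.ext ?_)
    exact ((Subgroup.mem_centralizer_iff.1 ((hCmem y).1 y.2)) _ (hZT x hx)).symm
  have hZp : IsPGroup p Z := (S'.isPGroup'.to_le inf_le_left).of_equiv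
    (Subgroup.subgroupOfEquivOfLe inf_le_right).symm
  have hind : ¬ p ∣ Z.index := by
    have h1 : Z.index = ((S' : Subgroup N) ⊓ C).relIndex C := rfl
    rw [h1]
    exact not_dvd_relIndex_normal S' C
  obtain ⟨O, -, hOn, hOco, hOc, hOmem⟩ := central_sylow Z hZc hZp hind
  let M : Subgroup N := O.map C.subtype
  have hM : ∀ n : N, n ∈ C → (orderOf n).Coprime p → n ∈ M := by
    intro n hn hco
    exact ⟨⟨n, hn⟩, hOmem _ (by rwa [← Subgroup.orderOf_coe]), rfl⟩
  have hMn : M.Normal := by
    constructor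
    rintro m ⟨x, hx, rfl⟩ g
    refine hM _ (hCn.conj_mem _ x.2 g) ?_
    have : orderOf (g * (C.subtype x) * g⁻¹) = orderOf x := by
      rw [← MulAut.conj_apply, MulEquiv.orderOf_eq]
      exact Subgroup.orderOf_coe x
    rw [this]
    exact Nat.Coprime.coprime_dvd_left (Subgroup.orderOf_dvd_natCard _ hx) hOco
  haveI := hMn
  have hq : IsPGroup p (N ⧸ M) := by
    intro q
    induction q using QuotientGroup.induction_on with
    | _ n =>
      obtain ⟨k, m, hm, hkm⟩ := Nat.exists_eq_pow_mul_and_not_dvd (orderOf_pos n).ne' p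
        (Fact.out : p.Prime).ne_one
      refine ⟨k, ?_⟩
      rw [← QuotientGroup.mk_pow, QuotientGroup.eq_one_iff]
      have hd : orderOf (n ^ p ^ k) ∣ m := by
        rw [orderOf_dvd_iff_pow_eq_one, ← pow_mul, ← hkm, pow_orderOf_eq_one]
      have hco : (orderOf (n ^ p ^ k)).Coprime p :=
        Nat.Coprime.coprime_dvd_left hd ((Fact.out : p.Prime).coprime_iff_not_dvd.2 hm).symm
      refine hM _ ((hCmem _).2 (hN _ (n ^ p ^ k).2 ?_)) hco
      rwa [Subgroup.orderOf_coe]
  refine ⟨S', M, hMn, ?_⟩
  have hMco : (Nat.card M).Coprime p := by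
    rwa [Nat.card_congr (O.equivMapOfInjective C.subtype (Subgroup.subtype_injective C)).toEquiv.symm]
  obtain ⟨a, ha⟩ := IsPGroup.iff_card.1 hq
  have h1 : Nat.card M * p ^ a = Nat.card N := by
    rw [← ha]
    exact M.card_mul_index
  obtain ⟨b, hb⟩ := IsPGroup.iff_card.1 S'.isPGroup'
  have hcop : (Nat.card M).Coprime (Nat.card (S' : Subgroup N)) := by
    rw [hb]; exact hMco.pow_right b
  refine Subgroup.isComplement'_of_coprime ?_ hcop
  have h2 : Nat.card (S' : Subgroup N) = p ^ a := by
    refine S'.card_eq_multiplicity.trans ?_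
    congr 1
    rw [← h1, Nat.factorization_mul Nat.card_pos.ne' (pow_ne_zero _ (Fact.out : p.Prime).ne_zero),
      Finsupp.add_apply, (Fact.out : p.Prime).factorization_pow, Finsupp.single_eq_same,
      Nat.factorization_eq_zero_of_not_dvd ((Fact.out : p.Prime).coprime_iff_not_dvd.1 hMco.symm)]
    simp
  rw [h2]; exact h1

end Cfsg.Agent.S2007
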