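import Cfsg.Statements.S2008
-- import your own Cfsg.Agent.* helpers here

set_option autoImplicit false
open Cfsg

namespace Cfsg.Agent.S2008

open Subgroup in
lemma proper_normal_eq_bot {H : Type*} [Group H] [Finite H] (z : H) (hz : orderOf z = 2) (hN : ∀ N : Subgroup H, N.Normal → N ≠ ⊤ → N ⊓ Subgroup.centralizer ({z} : Set H) = ⊥) (E : Subgroup H) (hE : IsKleinFour ↥E) (hzE : z ∈ E) (hc : ∀ e ∈ E, e ≠ 1 → IsConj z e) (N : Subgroup H) (hn : N.Normal) (hT : N ≠ ⊤) : N = ⊥ := by
  haveI := hE
  have hsq : ∀ e ∈ E, e * e = 1 := by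
    intro e he
    have h := Monoid.pow_exponent_eq_one (⟨e, he⟩ : E)
    rw [IsKleinFour.exponent_two, pow_two] at h
    exact congrArg Subtype.val h
  have hinv : ∀ e ∈ E, e ≠ 1 → ∀ n ∈ N, e * n * e⁻¹ = n⁻¹ := by
    intro e he h1 n hnN
    obtain ⟨g, hg⟩ := isConj_iff.1 (hc e he h1)
    let φ : N →* N := (MulAut.conjNormal e : MulAut N).toMonoidHom
    have hval : ∀ m : N, ((φ m : N) : H) = e * m * e⁻¹ := fun m => by simp [φ]
    have hfp : MonoidHom.FixedPointFree φ := by
      intro m hm
      have h2 : e * (m : H) * e⁻¹ = m := by rw [← hval, hm]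
      have h3 : g⁻¹ * (m : H) * g ∈ N ⊓ Subgroup.centralizer ({z} : Set H) := by
        refine ⟨by simpa using hn.conj_mem _ m.2 g⁻¹, ?_⟩
        show _ ∈ Subgroup.centralizer ({z} : Set H)
        rw [Subgroup.mem_centralizer_singleton_iff]
        have h4 : e * (m : H) = m * e := mul_inv_eq_iff_eq_mul.1 h2
        have hz' : z = g⁻¹ * e * g := by rw [← hg]; group
        rw [hz']
        calc g⁻¹ * (m : H) * g * (g⁻¹ * e * g) = g⁻¹ * ((m : H) * e) * g := by group
          _ = g⁻¹ * (e * (m : H)) * g := by rw [h4]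
          _ = g⁻¹ * e * g * (g⁻¹ * (m : H) * g) := by group
      rw [hN N hn hT, Subgroup.mem_bot] at h3
      apply Subtype.ext
      have h5 : (m : H) = g * (g⁻¹ * (m : H) * g) * g⁻¹ := by group
      rw [h5, h3]; simp
    have hiv : Function.Involutive φ := by
      intro m
      apply Subtype.ext
      rw [hval, hval]
      calc e * (e * (m : H) * e⁻¹) * e⁻¹ = e * e * (m : H) * (e * e)⁻¹ := by group
        _ = m := by rw [hsq e he]; simp
    have := hfp.coe_eq_inv_of_involutive hiv
    have h6 := congrFun this ⟨n, hnN⟩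
    simpa [hval] using congrArg Subtype.val h6
  have hz1 : z ≠ 1 := by intro h; rw [h, orderOf_one] at hz; omega
  have hcard : Nat.card E = 4 := IsKleinFour.card_four
  obtain ⟨e, he1, hez⟩ : ∃ e : E, e ≠ 1 ∧ e ≠ ⟨z, hzE⟩ := by
    by_contra hcon
    push_neg at hcon
    have hle : Nat.card E ≤ 2 := by
      have hsub : (Set.univ : Set E) ⊆ {1, ⟨z, hzE⟩} := by
        intro x _
        by_cases hx : x = 1
        · exact Or.inl hx
        · exact Or.inr (hcon x hx)
      calc Nat.card E = (Set.univ : Set E).ncard := (Set.ncard_univ E).symm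
        _ ≤ ({1, ⟨z, hzE⟩} : Set E).ncard := Set.ncard_le_ncard hsub (Set.toFinite _)
        _ ≤ 2 := by
          refine (Set.ncard_insert_le _ _).trans ?_
          simp
    omega
  have he1' : (e : H) ≠ 1 := fun h => he1 (Subtype.ext h)
  have hze : z * (e : H) ≠ 1 := by
    intro h
    exact hez (Subtype.ext (mul_left_cancel (h.trans (hsq z hzE).symm)))
  rw [Subgroup.eq_bot_iff_forall]
  intro n hnN
  have h1 := hinv z hzE hz1 n hnN
  have h2 := hinv e e.2 he1' n hnN
  have h3 := hinv _ (E.mul_mem hzE e.2) hze n hnN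
  have h4 : n = n⁻¹ := by
    calc n = (z * n * z⁻¹)⁻¹ := by rw [h1, inv_inv]
      _ = z * n⁻¹ * z⁻¹ := by group
      _ = z * ((e : H) * n * (e : H)⁻¹) * z⁻¹ := by rw [h2]
      _ = z * (e : H) * n * (z * (e : H))⁻¹ := by group
      _ = n⁻¹ := h3
  have h5 : n ∈ N ⊓ Subgroup.centralizer ({z} : Set H) := by
    refine ⟨hnN, ?_⟩
    show _ ∈ Subgroup.centralizer ({z} : Set H)
    rw [Subgroup.mem_centralizer_singleton_iff]
    have h6 : z * n * z⁻¹ = n := by rw [h1]; exact h4.symm
    exact (mul_inv_eq_iff_eq_mul.1 h6).symm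
  rwa [hN N hn hT, Subgroup.mem_bot] at h5


/-- Let H be a finite group and z an involution such that every proper normal subgroup of H meets the centralizer of z trivially, and suppose z lies in a Klein four-subgroup E of H all three of whose involutions are conjugate to z in H. Then H has no non-trivial abelian normal subgroup. -/
theorem result {H : Type*} [Group H] [Finite H] (z : H) (hz : orderOf z = 2) (hN : ∀ N : Subgroup H, N.Normal → N ≠ ⊤ → N ⊓ Subgroup.centralizer ({z} : Set H) = ⊥) (E : Subgroup H) (hE : IsKleinFour ↥E) (hzE : z ∈ E) (hc : ∀ e ∈ E, e ≠ 1 → IsConj z e) (N : Subgroup H) [N.Normal] (hab : IsMulCommutative ↥N) : N = ⊥ := by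
  refine proper_normal_eq_bot z hz hN E hE hzE hc N inferInstance ?_
  rintro rfl
  haveI := hE
  have hcomm : ∀ a b : H, a * b = b * a := by
    intro a b
    have := hab.is_comm.comm (⟨a, Subgroup.mem_top a⟩ : (⊤ : Subgroup H)) ⟨b, Subgroup.mem_top b⟩
    exact congrArg Subtype.val this
  have hcard : Nat.card E = 4 := IsKleinFour.card_four
  have hsub : (Set.univ : Set E) ⊆ {1, ⟨z, hzE⟩} := by
    intro x _
    by_cases hx : x = 1
    · exact Or.inl hx
    · refine Or.inr ?_
      obtain ⟨g, hg⟩ := isConj_iff.1 (hc x x.2 (fun h => hx (Subtype.ext h)))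
      refine Subtype.ext ?_
      show (x : H) = z
      rw [← hg, hcomm g z]
      simp
  have hle : Nat.card E ≤ 2 := by
    calc Nat.card E = (Set.univ : Set E).ncard := (Set.ncard_univ E).symm
      _ ≤ ({1, ⟨z, hzE⟩} : Set E).ncard := Set.ncard_le_ncard hsub (Set.toFinite _)
      _ ≤ 2 := by
        refine (Set.ncard_insert_le _ _).trans ?_
        simp
  omega

end Cfsg.Agent.S2008
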