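import Cfsg.Statements.S2011
import Cfsg.Agent.Lib.CentralSylow

set_option autoImplicit false
open Cfsg

namespace Cfsg.Agent.S2011

lemma pPrimeCore_coprime (p : ℕ) (C : Type*) [Group C] [Finite C] :
    (Cfsg.pPrimeCore p C).Normal ∧ (Nat.card (Cfsg.pPrimeCore p C)).Coprime p := by
  haveI := Fintype.ofFinite (Subgroup C)
  classical
  let S : Finset (Subgroup C) := Finset.univ.filter (fun N => N.Normal ∧ (Nat.card N).Coprime p)
  have hS : Cfsg.pPrimeCore p C = S.sup id := by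
    rw [Cfsg.pPrimeCore, Finset.sup_id_eq_sSup]
    congr 1
    ext N
    simp [S]
  rw [hS]
  refine (Finset.sup_induction (p := fun N : Subgroup C => N.Normal ∧ (Nat.card N).Coprime p)
    ⟨inferInstance, by simp⟩ ?_ ?_)
  · rintro A ⟨hA, hA'⟩ B ⟨hB, hB'⟩
    haveI := hA; haveI := hB
    refine ⟨inferInstance, ?_⟩
    have h1 := Subgroup.relIndex_mul_relIndex ⊥ B (A ⊔ B) bot_le le_sup_right
    rw [Subgroup.relIndex_bot_left, Subgroup.relIndex_bot_left, Subgroup.relIndex_sup_right] at h1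
    rw [← h1]
    exact hB'.mul_left (Nat.Coprime.coprime_dvd_left (Subgroup.relIndex_dvd_card _ _) hA')
  · intro N hN
    exact (Finset.mem_filter.1 hN).2


/-- Let G be a finite group with Sylow p-subgroup P and Q ≤ P. Then Q is centric in the fusion system of G on P (C_P(R) ≤ R for every G-conjugate R of Q lying in P) if and only if C_G(Q) is the internal direct product of Z(Q) = Q ∩ C_G(Q) and the largest normal subgroup of C_G(Q) of order prime to p. -/
theorem result {G : Type*} [Group G] [Finite G] (p : ℕ) [Fact p.Prime] (P : Sylow p G) (Q : Subgroup G) (hQ : Q ≤ P) : (Cfsg.groupFusionSystem (P : Subgroup G)).IsCentric Q ↔ Cfsg.IsInternalDirectProduct (Q ⊓ Subgroup.centralizer (Q : Set G)) ((Cfsg.pPrimeCore p ↥(Subgroup.centralizer (Q : Set G))).map (Subgroup.centralizer (Q : Set G)).subtype) (Subgroup.centralizer (Q : Set G)) := by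
  set C := Subgroup.centralizer (Q : Set G) with hCdef
  set Om := (Cfsg.pPrimeCore p ↥C).map C.subtype with hOm
  let Z : Subgroup C := Q.subgroupOf C
  have hQp : IsPGroup p Q := P.isPGroup'.to_le hQ
  have hZc : Z ≤ Subgroup.center C := by
    intro x hx
    rw [Subgroup.mem_center_iff]
    intro y
    exact Subtype.ext ((Subgroup.mem_centralizer_iff.1 y.2) _ hx).symm
  have hZp : IsPGroup p Z :=
    hQp.of_injective ((C.subtype.comp Z.subtype).codRestrict Q (fun x => x.2))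
      (fun a b h => Subtype.ext (Subtype.ext (congrArg Subtype.val h :)))
  constructor
  · intro hcen
    obtain ⟨D, hD⟩ := hZp.exists_le_sylow
    have hDmap : IsPGroup p ((D : Subgroup C).map C.subtype) := D.isPGroup'.map _
    have hDn : (D : Subgroup C).map C.subtype ≤ Subgroup.normalizer (Q : Set G) := by
      rintro _ ⟨d, -, rfl⟩
      rw [Subgroup.mem_normalizer_iff]
      intro n
      have h0 : ∀ n ∈ Q, (d : G) * n * (d : G)⁻¹ = n := by
        intro n hn
        rw [← (Subgroup.mem_centralizer_iff.1 d.2) n hn]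
        simp
      refine ⟨fun hn => by simpa [h0 n hn] using hn, fun hn => ?_⟩
      have h2 := h0 _ hn
      have h3 : (d : G) * n * (d : G)⁻¹ = n := by
        have := congrArg (fun t => (d : G)⁻¹ * t * d) h2
        simpa [mul_assoc] using this
      simpa [h3] using hn
    obtain ⟨T, hT⟩ := (hDmap.to_sup_of_normal_right' hQp hDn).exists_le_sylow
    obtain ⟨g, hg⟩ := MulAction.exists_smul_eq G T P
    have hgT : ∀ x ∈ T, g * x * g⁻¹ ∈ P := by
      intro x hx
      rw [← hg]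
      have hx' : x ∈ (T : Subgroup G) := hx
      exact Subgroup.smul_mem_pointwise_smul x (MulAut.conj g) (T : Subgroup G) hx'
    let R := (Cfsg.conjHom Q g).range
    have hconj : (Cfsg.groupFusionSystem (P : Subgroup G)).IsConj Q R :=
      ⟨Cfsg.conjHom Q g, ⟨hQ, fun x => hgT _ (hT (Subgroup.mem_sup_right x.2)), g,
        fun x => rfl⟩, rfl⟩
    have hR := hcen.2 R hconj
    have hDZ : (D : Subgroup C) = Z := by
      refine le_antisymm (fun d hd => ?_) hD
      have hmem : g * (d : G) * g⁻¹ ∈ R := by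
        refine hR ⟨hgT _ (hT (Subgroup.mem_sup_left ⟨d, hd, rfl⟩)), ?_⟩
        show _ ∈ Subgroup.centralizer (R : Set G)
        rw [Subgroup.mem_centralizer_iff]
        rintro _ ⟨q, rfl⟩
        show g * (q : G) * g⁻¹ * (g * (d : G) * g⁻¹) = g * (d : G) * g⁻¹ * (g * (q : G) * g⁻¹)
        have := (Subgroup.mem_centralizer_iff.1 d.2) q q.2
        calc _ = g * ((q : G) * d) * g⁻¹ := by group
          _ = g * ((d : G) * q) * g⁻¹ := by rw [this]
          _ = _ := by group
      obtain ⟨q, hq⟩ := hmem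
      have h4 : (q : G) = d := mul_left_cancel (mul_right_cancel (hq : g * (q : G) * g⁻¹ = _))
      show (d : G) ∈ Q
      rw [← h4]; exact q.2
    have hind : ¬ p ∣ Z.index := hDZ ▸ D.not_dvd_index
    obtain ⟨O, hO, -, hOco, hOc, -⟩ := Cfsg.Agent.CentralSylow.central_sylow Z hZc hZp hind
    refine ⟨inf_le_right, by rw [hOm]; exact Subgroup.map_subtype_le _, ?_, ?_, ?_⟩
    · rintro a ⟨haQ, -⟩ b ⟨y, -, rfl⟩
      exact (Subgroup.mem_centralizer_iff.1 y.2) a haQ
    · rw [Subgroup.eq_bot_iff_forall]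
      rintro x ⟨⟨hxQ, -⟩, y, hy, rfl⟩
      have : y ∈ O ⊓ Z := ⟨hO ▸ hy, hxQ⟩
      rw [disjoint_iff.1 hOc.disjoint, Subgroup.mem_bot] at this
      simp [this]
    · refine le_antisymm (sup_le inf_le_right (Subgroup.map_subtype_le _)) (fun x hx => ?_)
      have : (⟨x, hx⟩ : C) ∈ O ⊔ Z := by rw [hOc.sup_eq_top]; exact Subgroup.mem_top _
      have h5 : x ∈ (O ⊔ Z).map C.subtype := ⟨_, this, rfl⟩
      rw [Subgroup.map_sup, sup_comm] at h5
      refine (sup_le_sup ?_ ?_ : (Z.map C.subtype ⊔ O.map C.subtype) ≤ (Q ⊓ C) ⊔ Om) h5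
      · rintro _ ⟨z, hz, rfl⟩; exact ⟨hz, z.2⟩
      · rw [hOm, hO]
  · rintro ⟨-, -, hcomm, -, htop⟩
    refine ⟨hQ, ?_⟩
    rintro R ⟨φ, ⟨-, hφP, g, hg⟩, rfl⟩ x ⟨hxP, hxC⟩
    have hy : g⁻¹ * x * g ∈ C := by
      rw [hCdef, Subgroup.mem_centralizer_iff]
      intro q hq
      have h := (Subgroup.mem_centralizer_iff.1 hxC) (φ ⟨q, hq⟩) ⟨_, rfl⟩
      rw [hg] at h
      calc q * (g⁻¹ * x * g) = g⁻¹ * (g * q * g⁻¹ * x) * g := by group
        _ = g⁻¹ * (x * (g * q * g⁻¹)) * g := by rw [h]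
        _ = g⁻¹ * x * g * q := by group
    set y : C := ⟨g⁻¹ * x * g, hy⟩ with hydef
    have hp0 : (Cfsg.pPrimeCore p ↥C).Normal := (pPrimeCore_coprime p ↥C).1
    haveI := hp0
    have hsup : Z ⊔ Cfsg.pPrimeCore p ↥C = ⊤ := by
      refine Subgroup.map_injective C.subtype_injective ?_
      rw [Subgroup.map_sup, ← MonoidHom.range_eq_map, Subgroup.range_subtype]
      refine le_antisymm (sup_le (Subgroup.map_subtype_le _) (Subgroup.map_subtype_le _)) ?_
      calc C = (Q ⊓ C) ⊔ Om := htop.symm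
        _ ≤ _ := sup_le_sup (fun z hz => Subgroup.mem_map.2 ⟨⟨z, hz.2⟩, hz.1, rfl⟩) le_rfl
    have hy' : y ∈ Z ⊔ Cfsg.pPrimeCore p ↥C := by rw [hsup]; exact Subgroup.mem_top _
    rw [sup_comm, ← SetLike.mem_coe, Subgroup.normal_mul, Set.mem_mul] at hy'
    obtain ⟨o, ho, z, hz, hoz⟩ := hy'
    obtain ⟨a, ha⟩ : ∃ a, y ^ p ^ a = 1 := by
      obtain ⟨k, hk⟩ := P.isPGroup' ⟨x, hxP⟩
      refine ⟨k, Subtype.ext ?_⟩
      have hx1 : x ^ p ^ k = 1 := congrArg Subtype.val hk
      have : g⁻¹ * x * g = MulAut.conj g⁻¹ x := by simp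
      show (g⁻¹ * x * g) ^ p ^ k = 1
      rw [this, ← map_pow, hx1, map_one]
    obtain ⟨b, hb⟩ := hZp ⟨z, hz⟩
    have hb' : z ^ p ^ b = 1 := congrArg Subtype.val hb
    have ho' : o ^ p ^ (a + b) = 1 := by
      have hc : Commute o z := (Subgroup.mem_center_iff.1 (hZc hz) o)
      have hy1 : y ^ p ^ (a + b) = 1 := by rw [pow_add, pow_mul, ha, one_pow]
      have hz1 : z ^ p ^ (a + b) = 1 := by rw [add_comm, pow_add, pow_mul, hb', one_pow]
      rw [← hoz, hc.mul_pow, hz1, mul_one] at hy1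
      exact hy1
    have hOco : ∀ o ∈ Cfsg.pPrimeCore p ↥C, (orderOf o).Coprime p := by
      intro o ho
      refine Nat.Coprime.coprime_dvd_left (Subgroup.orderOf_dvd_natCard _ ho) ?_
      exact (pPrimeCore_coprime p ↥C).2
    have ho1 : o = 1 := orderOf_eq_one_iff.1 (Nat.eq_one_of_dvd_coprimes
      ((hOco o ho).pow_right (a + b)) dvd_rfl (orderOf_dvd_of_pow_eq_one ho'))
    have hyZ : y ∈ Z := by rw [← hoz, ho1, one_mul]; exact hz
    refine ⟨⟨g⁻¹ * x * g, hyZ⟩, ?_⟩
    rw [hg]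
    simp [mul_assoc]

end Cfsg.Agent.S2011
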