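import Cfsg.Statements.S2014
-- import your own Cfsg.Agent.* helpers here

set_option autoImplicit false
open Cfsg
open scoped Pointwise

namespace Cfsg.Agent.S2014

/-- Let P be a Sylow p-subgroup of a finite group G and A, C ≤ P subgroups conjugate in G, with C extremal: N_P(C) is a Sylow p-subgroup of N_G(C). Then there is g with gAg⁻¹ = C and g N_P(A) g⁻¹ ≤ N_P(C); moreover, given any h with hAh⁻¹ = C, g can be chosen so that h g⁻¹ lies in O^p(N_G(C)), the subgroup of N_G(C) generated by its elements of order prime to p. -/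
theorem result {G : Type*} [Group G] [Finite G] (p : ℕ) [Fact p.Prime] (P : Sylow p G) (A C : Subgroup G) (hA : A ≤ P) (hC : C ≤ P) (hext : ¬ p ∣ ((P : Subgroup G) ⊓ Subgroup.normalizer ((C : Subgroup G) : Set G)).relIndex (Subgroup.normalizer ((C : Subgroup G) : Set G))) (h : G) (hh : A.map (MulAut.conj h).toMonoidHom = C) : ∃ g : G, A.map (MulAut.conj g).toMonoidHom = C ∧ ((P : Subgroup G) ⊓ Subgroup.normalizer ((A : Subgroup G) : Set G)).map (MulAut.conj g).toMonoidHom ≤ (P : Subgroup G) ⊓ Subgroup.normalizer ((C : Subgroup G) : Set G) ∧ h * g⁻¹ ∈ (Cfsg.pResidual p ↥(Subgroup.normalizer ((C : Subgroup G) : Set G))).map (Subgroup.normalizer ((C : Subgroup G) : Set G)).subtype := by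
  set N := Subgroup.normalizer ((C : Subgroup G) : Set G) with hNdef
  have hp := (Fact.out : p.Prime)
  let T0 : Subgroup N := (P : Subgroup G).subgroupOf N
  have hT0p : IsPGroup p T0 := IsPGroup.comap_of_injective P.isPGroup' N.subtype N.subtype_injective
  have hT0i : ¬ p ∣ T0.index := by
    have h1 : T0.index = ((P : Subgroup G) ⊓ N).relIndex N := by
      rw [Subgroup.inf_relIndex_right]; rfl
    rw [h1]; exact hext
  let T : Sylow p N := hT0p.toSylow hT0i
  have hA' : ∀ a, a ∈ A ↔ h * a * h⁻¹ ∈ C := by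
    intro a
    rw [← hh]
    constructor
    · intro ha; exact ⟨a, ha, rfl⟩
    · rintro ⟨b, hb, hb'⟩
      have : b = a := mul_left_cancel (mul_right_cancel (hb' : h * b * h⁻¹ = h * a * h⁻¹))
      rwa [← this]
  have hmapN : ∀ x ∈ Subgroup.normalizer ((A : Subgroup G) : Set G), h * x * h⁻¹ ∈ N := by
    intro x hx
    rw [hNdef, Subgroup.mem_normalizer_iff]
    rw [Subgroup.mem_normalizer_iff] at hx
    intro c
    have e1 : c ∈ C ↔ h⁻¹ * c * h ∈ A := by
      rw [hA']; simp [mul_assoc]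
    have e2 : h * x * h⁻¹ * c * (h * x * h⁻¹)⁻¹ ∈ C ↔ x * (h⁻¹ * c * h) * x⁻¹ ∈ A := by
      rw [hA']; simp [mul_assoc]
    exact (e1.trans (hx _)).trans e2.symm
  let D0 : Subgroup G := ((P : Subgroup G) ⊓ Subgroup.normalizer ((A : Subgroup G) : Set G)).map
    (MulAut.conj h).toMonoidHom
  have hD0N : D0 ≤ N := by rintro _ ⟨x, hx, rfl⟩; exact hmapN x hx.2
  let D : Subgroup N := D0.subgroupOf N
  have hDp : IsPGroup p D := IsPGroup.comap_of_injective
    ((P.isPGroup'.to_le inf_le_left).map _) N.subtype N.subtype_injective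
  obtain ⟨U, hU⟩ := hDp.exists_le_sylow
  obtain ⟨n, hn⟩ := MulAction.exists_smul_eq N U T
  have hR : (Cfsg.pResidual p N).Normal := by
    refine ⟨fun x hx g => ?_⟩
    have key : Cfsg.pResidual p N ≤ (Cfsg.pResidual p N).comap (MulAut.conj g).toMonoidHom := by
      unfold Cfsg.pResidual
      rw [Subgroup.closure_le]
      intro y hy
      apply Subgroup.subset_closure
      show Nat.Coprime (orderOf ((MulAut.conj g) y)) p
      rw [MulEquiv.orderOf_eq]
      exact hy
    exact key hx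
  haveI := hR
  have hgen : Cfsg.pResidual p N ⊔ T0 = ⊤ := by
    have h1 : (Cfsg.pResidual p N ⊔ T0).index ∣ T0.index :=
      Subgroup.index_dvd_of_le le_sup_right
    have h2 : (Cfsg.pResidual p N ⊔ T0).index ∣ (Cfsg.pResidual p N).index :=
      Subgroup.index_dvd_of_le le_sup_left
    have h3 : IsPGroup p (N ⧸ Cfsg.pResidual p N) := by
      intro q
      induction q using QuotientGroup.induction_on with
      | _ x =>
        obtain ⟨k, m, hm, hkm⟩ := Nat.exists_eq_pow_mul_and_not_dvd (orderOf_pos x).ne' p hp.ne_one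
        refine ⟨k, ?_⟩
        rw [← QuotientGroup.mk_pow, QuotientGroup.eq_one_iff]
        apply Subgroup.subset_closure
        have hd : orderOf (x ^ p ^ k) ∣ m := by
          rw [orderOf_dvd_iff_pow_eq_one, ← pow_mul, ← hkm, pow_orderOf_eq_one]
        exact Nat.Coprime.coprime_dvd_left hd (hp.coprime_iff_not_dvd.2 hm).symm
    obtain ⟨k, hk⟩ := IsPGroup.iff_card.1 h3
    rw [← Subgroup.index_eq_one]
    exact Nat.eq_one_of_dvd_coprimes ((hp.coprime_iff_not_dvd.2 hT0i).symm.pow_right k) h1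
      (hk ▸ h2)
  have hn' : n ∈ T0 ⊔ Cfsg.pResidual p N := by rw [sup_comm, hgen]; exact Subgroup.mem_top _
  rw [← SetLike.mem_coe, Subgroup.mul_normal, Set.mem_mul] at hn'
  obtain ⟨t, ht, k, hk, htk⟩ := hn'
  refine ⟨(k : G) * h, ?_, ?_, ?_⟩
  · rw [map_mul]
    have : (A.map (MulAut.conj h).toMonoidHom).map (MulAut.conj (k : G)).toMonoidHom = C := by
      rw [hh]
      ext y
      constructor
      · rintro ⟨c, hc, rfl⟩
        exact (Subgroup.mem_normalizer_iff.1 k.2 c).1 hc
      · intro hy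
        exact ⟨(k : G)⁻¹ * y * (k : G), (Subgroup.mem_normalizer_iff''.1 k.2 y).1 hy, by simp [mul_assoc]⟩
    rw [← this, Subgroup.map_map]; rfl
  · rintro _ ⟨x, hx, rfl⟩
    have hxD : (⟨h * x * h⁻¹, hmapN x hx.2⟩ : N) ∈ D := ⟨x, hx, rfl⟩
    have h4 : n * ⟨h * x * h⁻¹, hmapN x hx.2⟩ * n⁻¹ ∈ T0 := by
      have hmem := Subgroup.smul_mem_pointwise_smul _ (MulAut.conj n) _ (hU hxD)
      have : (MulAut.conj n) • (U : Subgroup N) = T0 := congrArg Sylow.toSubgroup hn
      rw [this] at hmem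
      exact hmem
    have h5 : k * ⟨h * x * h⁻¹, hmapN x hx.2⟩ * k⁻¹ ∈ T0 := by
      have := T0.mul_mem (T0.mul_mem (T0.inv_mem ht) h4) ht
      rw [← htk] at this
      simpa [mul_assoc] using this
    refine ⟨?_, ?_⟩
    · have h6 : (k : G) * (h * x * h⁻¹) * (k : G)⁻¹ ∈ (P : Subgroup G) := h5
      show (MulAut.conj ((k : G) * h)) x ∈ (P : Subgroup G)
      simpa [mul_assoc] using h6
    · have := (k * ⟨h * x * h⁻¹, hmapN x hx.2⟩ * k⁻¹ : N).2
      simpa [mul_assoc, hNdef] using this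
  · refine ⟨k⁻¹, (Cfsg.pResidual p N).inv_mem hk, ?_⟩
    simp

end Cfsg.Agent.S2014
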