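import Cfsg.Statements.S2015
import Mathlib
import Cfsg.Agent.Lib.ConjFunctorKMain
-- import your own Cfsg.Agent.* helpers here

set_option autoImplicit false
universe u
open Cfsg

namespace Cfsg.Agent.S2015

/-- For p ≥ 5, every finite p-group P has a characteristic subgroup K containing Z(P), depending only on P, whose normalizer controls transfer wherever P is a Sylow subgroup: for every finite group G and every embedding ι of P onto a Sylow p-subgroup of G, the intersection of ι(P) with the derived subgroup of G equals its intersection with the derived subgroup of N_G(ι(K)). -/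
theorem result (p : ℕ) [Fact p.Prime] (hp : 5 ≤ p) (P : Type u) [Group P] [Finite P] (hP : IsPGroup p P) : ∃ K : Subgroup P, K.Characteristic ∧ Subgroup.center P ≤ K ∧ ∀ (G : Type u) [Group G] [Finite G] (ι : P →* G), Function.Injective ι → (∃ T : Sylow p G, (T : Subgroup G) = ι.range) → ι.range ⊓ commutator G = ι.range ⊓ (commutator ↥(Subgroup.normalizer ((K.map ι : Subgroup G) : Set G))).map (Subgroup.normalizer ((K.map ι : Subgroup G) : Set G)).subtype := by
  have hW := ConjFunctorKMain.isCharPFunctor_kInfLower.{u} (p := p)
  refine ⟨Cfsg.kInfLower P, ?_, ?_, fun G _ _ ι hι ⟨S, hS⟩ => ?_⟩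
  · exact Subgroup.characteristic_iff_map_eq.mpr fun φ => ConjFunctorKInf.map_kInfLower φ
  · refine le_trans (fun x hx => ?_) (ConjFunctorKInf.centralizer_kInf P hP).1
    exact Subgroup.mem_centralizer_iff.mpr fun y _ => Subgroup.mem_center_iff.mp hx y
  · have hK : Cfsg.inducedFunctor (G := G) Cfsg.kInfLower (S : Subgroup G) =
        (Cfsg.kInfLower P).map ι := by
      rw [hS]
      show (Cfsg.kInfLower ↥ι.range).map ι.range.subtype = _
      rw [← hW.2 P ι.range hP (MonoidHom.ofInjective hι), Subgroup.map_map]
      rfl
    rw [← hK, ← hS, Subgroup.map_subtype_commutator, commutator_def]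
    refine le_antisymm ?_ (inf_le_inf_left _ (Subgroup.commutator_mono le_top le_top))
    have h := ConjFunctorKMain.transfer_of_engel (G := G) (p := p) hW
      fun H _ _ T hn => ConjFunctorKMain.engel_of_not_normal hp T (Or.inl hn)
    rw [ConjFunctorTransfer.controlsTransfer_iff_singleton] at h
    have hle := ConjFunctorTransfer.inf_commutator_le_tgt
      (fun W' hW' => by
        rw [Set.mem_singleton_iff.mp hW']
        exact ConjFunctorSection.isConjugacyFunctor_induced hW)
      h (ConjFunctorBasic.isSylowIn_top S)
    simpa [ConjFunctorTransfer.tgt] using hle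

end Cfsg.Agent.S2015
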