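import Cfsg.Statements.S2029
import Cfsg.Agent.Lib.KMReflect23

set_option autoImplicit false
open Cfsg

namespace Cfsg.Agent.S2029

/-- Let p be an odd prime and G a finite group that is both of local characteristic p (p divides its order and every p-local subgroup N satisfies C_N(O_p(N)) ≤ O_p(N)) and of characteristic 2 type (even order and every 2-local subgroup M satisfies C_M(O_2(M)) ≤ O_2(M)). Then every 2-local subgroup of G has p-rank at most 2. -/
theorem result {G : Type*} [Group G] [Finite G] (p : ℕ) [Fact p.Prime] (hp : p ≠ 2) (hGp : Cfsg.IsOfLocalCharacteristic p G) (hG2 : Cfsg.IsCharacteristicTwoType G) : Cfsg.TwoLocalPRankLE p 2 G := by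
  intro H hH A hA hAp
  obtain ⟨T, hT, hT1, rfl⟩ := hH
  have hB : Cfsg.Agent.KlingerMason23.Elem p (A.map (Subgroup.normalizer (T : Set G)).subtype) := by
    refine ⟨?_, ?_⟩
    · rintro _ ⟨a, ha, rfl⟩ _ ⟨b, hb, rfl⟩
      exact congrArg (fun z : ↥(Subgroup.normalizer (T : Set G)) => (z : G))
        (congrArg Subtype.val (hA.is_comm.comm ⟨a, ha⟩ ⟨b, hb⟩))
    · rintro _ ⟨a, ha, rfl⟩
      rw [← map_pow, hAp a ha, map_one]
  have := Cfsg.Agent.KlingerMason23.two_local_rank_le_two hp hGp hG2 hT hT1 hB (Subgroup.map_subtype_le _)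
  rwa [Subgroup.card_map_of_injective (Subgroup.subtype_injective _)] at this

end Cfsg.Agent.S2029
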