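import Cfsg.Statements.S2039
import Mathlib
import Cfsg.Agent.Lib.J1Facts
import Cfsg.Agent.Lib.SchurMultiplierBasic
-- import your own Cfsg.Agent.* helpers here

set_option autoImplicit false
open Cfsg

namespace Cfsg.Agent.S2039

section Abstract
universe u
variable {Γ : Type u} [Group Γ] [Finite Γ]

/-- A central element of a derived group lying in an abelian Sylow subgroup is trivial. -/
theorem eq_one_of_abelian_sylow {p : ℕ} [Fact p.Prime] (P : Sylow p Γ)
    (hab : ∀ a ∈ (P : Subgroup Γ), ∀ b ∈ (P : Subgroup Γ), a * b = b * a) (z : Γ)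
    (hzP : z ∈ (P : Subgroup Γ)) (hzc : z ∈ Subgroup.center Γ) (hz : z ∈ commutator Γ) : z = 1 := by
  letI : CommGroup (P : Subgroup Γ) :=
    { (inferInstance : Group (P : Subgroup Γ)) with mul_comm := fun a b => Subtype.ext (hab a a.2 b b.2) }
  let φ := MonoidHom.transfer (MonoidHom.id (P : Subgroup Γ))
  have h1 : φ z = 1 := MonoidHom.mem_ker.1 (Abelianization.commutator_subset_ker φ hz)
  have key : ∀ (k : ℕ) (g : Γ), g⁻¹ * z ^ k * g = z ^ k := fun k g => by
    rw [mul_assoc, ← Subgroup.mem_center_iff.1 (pow_mem hzc k) g, inv_mul_cancel_left]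
  have h2 := MonoidHom.transfer_eq_pow (MonoidHom.id (P : Subgroup Γ)) z
    (fun k g h => by rw [key] at h; exact key k g)
  have h3 : (⟨z, hzP⟩ : (P : Subgroup Γ)) ^ (P : Subgroup Γ).index = 1 := by
    apply Subtype.ext
    have := congrArg Subtype.val (h2.symm.trans h1)
    simpa using this
  have h4 := orderOf_dvd_of_pow_eq_one h3
  obtain ⟨n, hn⟩ := IsPGroup.iff_orderOf.1 P.isPGroup' ⟨z, hzP⟩
  rw [hn] at h4
  have : n = 0 := by
    by_contra hn0
    exact P.not_dvd_index ((dvd_pow_self p hn0).trans h4)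
  rw [this, pow_zero, orderOf_eq_one_iff] at hn
  exact congrArg Subtype.val hn

/-- Three generators whose commutators lie in a central subgroup of order two: some new
element commutes with all of them. -/
theorem exists_commuting_word (Z : Subgroup Γ) (hZc : Z ≤ Subgroup.center Γ) (hZ : Nat.card Z = 2)
    (a b c : Γ) (hab : a * b * a⁻¹ * b⁻¹ ∈ Z) (hac : a * c * a⁻¹ * c⁻¹ ∈ Z) (hbc : b * c * b⁻¹ * c⁻¹ ∈ Z) :
    ∃ u : Γ, u ∈ [a, b, c, a * b, a * c, b * c, a * b * c] ∧ u * a = a * u ∧ u * b = b * u ∧ u * c = c * u := by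
  classical
  obtain ⟨z, hzZ, hz1, hZel⟩ : ∃ z ∈ Z, z ≠ 1 ∧ ∀ x ∈ Z, x = 1 ∨ x = z := by
    obtain ⟨x, y, hxy, hu⟩ := Nat.card_eq_two_iff.1 hZ
    have hcases : ∀ w : Z, w = x ∨ w = y := fun w => by
      have : w ∈ ({x, y} : Set Z) := hu ▸ Set.mem_univ w
      simpa using this
    rcases hcases 1 with h | h
    · exact ⟨y, y.2, fun e => hxy (h.symm.trans (Subtype.ext e).symm), fun w hw => (hcases ⟨w, hw⟩).imp
        (fun e => congrArg Subtype.val (e.trans h.symm)) (fun e => congrArg Subtype.val e)⟩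
    · exact ⟨x, x.2, fun e => hxy ((Subtype.ext e).trans h), fun w hw => (hcases ⟨w, hw⟩).symm.imp
        (fun e => congrArg Subtype.val (e.trans h.symm)) (fun e => congrArg Subtype.val e)⟩
  have hzc : ∀ g : Γ, g * z = z * g := fun g => Subgroup.mem_center_iff.1 (hZc hzZ) g
  have hzz : z * z = 1 := by
    rcases hZel _ (Z.mul_mem hzZ hzZ) with h | h
    · exact h
    · exact absurd (mul_eq_left.1 h) hz1
  have comm : ∀ x y : Γ, x * y * x⁻¹ * y⁻¹ ∈ Z → x * y = y * x ∨ x * y = z * (y * x) := by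
    intro x y h
    rcases hZel _ h with e | e
    · left; rwa [mul_inv_eq_one, mul_inv_eq_iff_eq_mul] at e
    · right; rw [mul_inv_eq_iff_eq_mul, mul_inv_eq_iff_eq_mul, mul_assoc] at e; exact e
  have rev : ∀ x y : Γ, x * y = z * (y * x) → y * x = z * (x * y) := fun x y h => by
    rw [h, ← mul_assoc, hzz, one_mul]
  have two : ∀ x y w : Γ, x * w = z * (w * x) → y * w = z * (w * y) → (x * y) * w = w * (x * y) := by
    intro x y w hx hy
    calc x * y * w = x * (y * w) := mul_assoc _ _ _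
      _ = x * (z * (w * y)) := by rw [hy]
      _ = z * (x * w * y) := by rw [← mul_assoc, hzc x]; group
      _ = (z * z) * (w * (x * y)) := by rw [hx]; group
      _ = w * (x * y) := by rw [hzz, one_mul]
  have one' : ∀ x y w : Γ, x * w = w * x → y * w = w * y → (x * y) * w = w * (x * y) :=
    fun x y w hx hy => (Commute.mul_left hx hy : Commute (x * y) w)
  have mix : ∀ x y w : Γ, x * w = z * (w * x) → y * w = w * y → (x * y) * w = z * (w * (x * y)) := by
    intro x y w hx hy
    calc x * y * w = (x * w) * y := by rw [mul_assoc, hy, mul_assoc]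
      _ = z * (w * (x * y)) := by rw [hx]; group
  have mix' : ∀ x y w : Γ, x * w = w * x → y * w = z * (w * y) → (x * y) * w = z * (w * (x * y)) := by
    intro x y w hx hy
    calc x * y * w = x * (y * w) := mul_assoc _ _ _
      _ = z * (x * w * y) := by rw [hy, ← mul_assoc, hzc x]; group
      _ = z * (w * (x * y)) := by rw [hx]; group
  rcases comm a b hab with h1 | h1 <;> rcases comm a c hac with h2 | h2 <;>
    rcases comm b c hbc with h3 | h3
  · exact ⟨a, by simp, rfl, h1, h2⟩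
  · exact ⟨a, by simp, rfl, h1, h2⟩
  · exact ⟨b, by simp, h1.symm, rfl, h3⟩
  · exact ⟨a * b, by simp, one' a b a rfl h1.symm, one' a b b h1 rfl, two a b c h2 h3⟩
  · exact ⟨c, by simp, h2.symm, h3.symm, rfl⟩
  · exact ⟨a * c, by simp, one' a c a rfl h2.symm, two a c b h1 (rev b c h3), one' a c c h2 rfl⟩
  · exact ⟨b * c, by simp, two b c a (rev a b h1) (rev a c h2), one' b c b rfl h3.symm, one' b c c h3 rfl⟩
  · exact ⟨a * b * c, by simp, two (a * b) c a (mix' a b a rfl (rev a b h1)) (rev a c h2),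
      two (a * b) c b (mix a b b h1 rfl) (rev b c h3), one' (a * b) c c (two a b c h2 h3) rfl⟩

end Abstract

open Cfsg.Agent.J1Code Cfsg.Agent.J1Data Cfsg.Agent.J1Cert Cfsg.Agent.J1Basic Cfsg.Agent.J1Facts

attribute [local irreducible] getT gt allB M encM oneC xC yC wordC powC sC repC uC

/-- codes of the eight elements of a Sylow 2-subgroup `⟨t, a, b⟩` -/
noncomputable def ecode (n : ℕ) : ℕ :=
  match n with
  | 0 => tCode | 1 => sC 2 | 2 => sC 114 | 3 => M tCode (sC 2) | 4 => M tCode (sC 114)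
  | 5 => M (sC 2) (sC 114) | 6 => M (M tCode (sC 2)) (sC 114) | _ => oneC

/-- pairwise products, distinctness, conjugation by X -/
noncomputable def echk : Bool :=
  (allB 8 fun i => allB 8 fun j =>
    (Nat.beq i j || !(Nat.beq (ecode i) (ecode j))) &&
    Nat.beq (M (ecode i) (ecode j)) (M (ecode j) (ecode i)) &&
    !(allB 8 fun k => !(Nat.beq (M (ecode i) (ecode j)) (ecode k)))) &&
  (allB 8 fun i => !(allB 8 fun k => !(Nat.beq (M xC (ecode i)) (M (ecode k) xC)))) &&
  ordChk xC 7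

set_option maxRecDepth 100000 in
theorem hechk : echk = true := by decide +kernel

theorem allB_false {n : ℕ} {p : ℕ → Bool} (h : (!(allB n fun k => !(p k))) = true) : ∃ k < n, p k = true := by
  by_contra hcon
  push Not at hcon
  have key : ∀ m ≤ n, allB m (fun k => !(p k)) = true := by
    intro m
    induction m with
    | zero => intro _; simp only [allB]; rfl
    | succ m ih =>
      intro hm
      have e : allB (m + 1) (fun k => !(p k)) = ((!(p m)) && allB m (fun k => !(p k))) := by simp only [allB]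
      rw [e, ih (Nat.le_of_succ_le hm)]
      simpa using hcon m hm
  rw [key n le_rfl] at h
  exact absurd h (by decide)

theorem exists_e (n : ℕ) : ∃ g : Cfsg.Spor.J1, code (g : GL (Fin 7) (ZMod 11)) = ecode n := by
  have h2 := code_sEl ⟨2, by norm_num⟩
  have h114 := code_sEl ⟨114, by norm_num⟩
  match n with
  | 0 => exact ⟨t, code_t⟩
  | 1 => exact ⟨_, h2⟩
  | 2 => exact ⟨_, h114⟩
  | 3 => exact ⟨t * sEl ⟨2, by norm_num⟩, by rw [code_mul', code_t, h2]; rfl⟩
  | 4 => exact ⟨t * sEl ⟨114, by norm_num⟩, by rw [code_mul', code_t, h114]; rfl⟩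
  | 5 => exact ⟨sEl ⟨2, by norm_num⟩ * sEl ⟨114, by norm_num⟩, by rw [code_mul', h2, h114]; rfl⟩
  | 6 => exact ⟨t * sEl ⟨2, by norm_num⟩ * sEl ⟨114, by norm_num⟩, by rw [code_mul', code_mul', code_t, h2, h114]; rfl⟩
  | _ + 7 => exact ⟨1, code_one'⟩

/-- the eight elements -/
noncomputable def eEl (n : Fin 8) : Cfsg.Spor.J1 := (exists_e n).choose

theorem code_eEl (n : Fin 8) : code (eEl n : GL (Fin 7) (ZMod 11)) = ecode n := (exists_e n).choose_spec

/-- the generator X as an element of J1 -/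
noncomputable def xEl : Cfsg.Spor.J1 :=
  ⟨Cfsg.Spor.jankoX, Subgroup.subset_closure (Set.mem_insert _ _)⟩

theorem code_xEl : code (xEl : GL (Fin 7) (ZMod 11)) = xC := code_x

theorem eEl_facts :
    Function.Injective eEl ∧ (∀ i j, eEl i * eEl j = eEl j * eEl i) ∧
    (∀ i j, ∃ k, eEl i * eEl j = eEl k) ∧
    (∀ i, ∃ k, (xEl : Cfsg.Spor.J1) * eEl i =
      eEl k * xEl) ∧
    orderOf (xEl : Cfsg.Spor.J1) = 7 := by
  have h := hechk
  simp only [echk, Bool.and_eq_true] at h
  obtain ⟨⟨h1, h2⟩, h3⟩ := h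
  have key : ∀ i j : Fin 8, (Nat.beq (i : ℕ) j = true ∨ (Nat.beq (ecode i) (ecode j)) = false) ∧
      Nat.beq (M (ecode i) (ecode j)) (M (ecode j) (ecode i)) = true ∧
      ∃ k < 8, Nat.beq (M (ecode i) (ecode j)) (ecode k) = true := fun i j => by
    have := allB_spec (allB_spec h1 i i.2) j j.2
    rw [Bool.and_eq_true, Bool.and_eq_true, Bool.or_eq_true, Bool.not_eq_true'] at this
    exact ⟨this.1.1, this.1.2, allB_false this.2⟩
  refine ⟨fun i j hij => ?_, fun i j => ?_, fun i j => ?_, fun i => ?_, ?_⟩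
  · rcases (key i j).1 with h | h
    · exact Fin.ext (Nat.eq_of_beq_eq_true h)
    · rw [← code_eEl, ← code_eEl, hij, Nat.beq_refl] at h
      exact absurd h (by decide)
  · apply eq_of_code
    rw [code_mul', code_mul', code_eEl, code_eEl]
    exact Nat.eq_of_beq_eq_true (key i j).2.1
  · obtain ⟨k, hk, hk'⟩ := (key i j).2.2
    refine ⟨⟨k, hk⟩, eq_of_code ?_⟩
    rw [code_mul', code_eEl, code_eEl, code_eEl]
    exact Nat.eq_of_beq_eq_true hk'
  · obtain ⟨k, hk, hk'⟩ := allB_false (allB_spec h2 i i.2)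
    refine ⟨⟨k, hk⟩, eq_of_code ?_⟩
    rw [code_mul', code_mul', code_eEl, code_eEl, code_xEl]
    exact Nat.eq_of_beq_eq_true hk'
  · exact orderOf_of_ordChk _ _ (by norm_num) (by rw [code_xEl]; exact h3)

theorem eEl_eq : eEl 7 = 1 ∧ eEl 3 = eEl 0 * eEl 1 ∧ eEl 4 = eEl 0 * eEl 2 ∧ eEl 5 = eEl 1 * eEl 2 ∧
    eEl 6 = eEl 0 * eEl 1 * eEl 2 := by
  refine ⟨eq_of_code ?_, eq_of_code ?_, eq_of_code ?_, eq_of_code ?_, eq_of_code ?_⟩ <;>
    simp only [code_mul', code_eEl, code_one'] <;> rfl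

/-- the Sylow 2-subgroup -/
noncomputable def eSub : Subgroup Cfsg.Spor.J1 where
  carrier := Set.range eEl
  one_mem' := ⟨7, eEl_eq.1⟩
  mul_mem' := by
    rintro _ _ ⟨i, rfl⟩ ⟨j, rfl⟩
    obtain ⟨k, hk⟩ := eEl_facts.2.2.1 i j
    exact ⟨k, hk.symm⟩
  inv_mem' := by
    rintro _ ⟨i, rfl⟩
    obtain ⟨f, hf⟩ : ∃ f : Fin 8 → Fin 8, ∀ j, eEl i * eEl j = eEl (f j) :=
      ⟨fun j => (eEl_facts.2.2.1 i j).choose, fun j => (eEl_facts.2.2.1 i j).choose_spec⟩
    have hinj : Function.Injective f := fun a b hab => eEl_facts.1 (by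
      apply mul_left_cancel (a := eEl i)
      rw [hf, hf, hab])
    obtain ⟨j, hj⟩ := Finite.injective_iff_surjective.1 hinj 7
    exact ⟨j, (inv_eq_of_mul_eq_one_right (by rw [hf, hj, eEl_eq.1])).symm⟩

theorem card_eSub : Nat.card eSub = 8 := by
  show Nat.card (Set.range eEl) = 8
  rw [Nat.card_range_of_injective eEl_facts.1, Nat.card_fin]

/-- conjugation by X has no fixed point on the nontrivial elements -/
theorem orbit_all (i : Fin 8) (hi : eEl i ≠ 1) (e : Cfsg.Spor.J1) (he : e ∈ eSub) (he1 : e ≠ 1) :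
    ∃ n : ℕ, (xEl : Cfsg.Spor.J1) ^ n * eEl i *
      ((xEl : Cfsg.Spor.J1) ^ n)⁻¹ = e := by
  classical
  set x : Cfsg.Spor.J1 := xEl with hx
  have hconj : ∀ n : ℕ, x ^ n * eEl i * (x ^ n)⁻¹ ∈ eSub := by
    intro n
    induction n with
    | zero => exact ⟨i, by simp⟩
    | succ n ih =>
      obtain ⟨j, hj⟩ := ih
      obtain ⟨k, hk⟩ := eEl_facts.2.2.2.1 j
      refine ⟨k, ?_⟩
      rw [pow_succ', mul_inv_rev]
      calc eEl k = x * eEl j * x⁻¹ := by rw [hx, hk, mul_inv_cancel_right]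
        _ = _ := by rw [hj]; group
  have hfix : ∀ n < 7, x ^ n * eEl i * (x ^ n)⁻¹ = eEl i → n = 0 := by
    intro n hn hc
    by_contra h0
    have h2 : orderOf (eEl i) = 2 := by
      have hd := orderOf_dvd_natCard (⟨eEl i, i, rfl⟩ : eSub)
      rw [card_eSub, ← Subgroup.orderOf_coe] at hd
      have hd' : orderOf (eEl i) ∣ 8 := hd
      have hm := orderOf_mem (eEl i)
      simp only [orders, Set.mem_insert_iff, Set.mem_singleton_iff] at hm
      rcases hm with h | h | h | h | h | h | h | h | h | h <;> rw [h] at hd' <;> norm_num at hd'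
      · exact absurd (orderOf_eq_one_iff.1 h) hi
      · exact h
    have h7 : orderOf (x ^ n) = 7 := by
      rw [orderOf_pow' x h0, eEl_facts.2.2.2.2]
      have : Nat.gcd 7 n = 1 :=
        ((Nat.Prime.coprime_iff_not_dvd (by norm_num)).2 (fun h => by have := Nat.le_of_dvd (by omega) h; omega))
      rw [this]
    have hcom : Commute (x ^ n) (eEl i) := by rwa [mul_inv_eq_iff_eq_mul] at hc
    have h14 := hcom.orderOf_mul_eq_mul_orderOf_of_coprime (by rw [h7, h2]; norm_num)
    rw [h7, h2] at h14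
    have := orderOf_mem (x ^ n * eEl i)
    rw [h14] at this
    simp [orders] at this
  let f : Fin 7 → eSub := fun n => ⟨x ^ (n : ℕ) * eEl i * (x ^ (n : ℕ))⁻¹, hconj n⟩
  have aux : ∀ a b : ℕ, a ≤ b → b < 7 → x ^ a * eEl i * (x ^ a)⁻¹ = x ^ b * eEl i * (x ^ b)⁻¹ → a = b := by
    intro a b hab hb h
    obtain ⟨d, rfl⟩ := Nat.exists_eq_add_of_le hab
    have : d = 0 := hfix d (by omega) (by
      rw [pow_add] at h
      have h' := congrArg (fun u => (x ^ a)⁻¹ * u * x ^ a) h
      simp only [mul_assoc, inv_mul_cancel_left, mul_inv_rev, inv_mul_cancel, mul_one] at h'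
      rw [mul_assoc]
      exact h'.symm)
    omega
  have hinj : Function.Injective f := fun a b h => by
    have h' := congrArg Subtype.val h
    rcases le_total (a : ℕ) b with hab | hab
    · exact Fin.ext (aux _ _ hab b.2 h')
    · exact Fin.ext (aux _ _ hab a.2 h'.symm).symm
  have hne : ∀ n, f n ≠ 1 := fun n h => hi (by
    have h' : x ^ (n : ℕ) * eEl i * (x ^ (n : ℕ))⁻¹ = 1 := congrArg Subtype.val h
    rwa [mul_inv_eq_one, mul_eq_left] at h')
  letI : Fintype eSub := Fintype.ofFinite _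
  have him : Finset.univ.image f = Finset.univ.erase 1 := by
    apply Finset.eq_of_subset_of_card_le
    · intro y hy
      obtain ⟨n, -, rfl⟩ := Finset.mem_image.1 hy
      exact Finset.mem_erase.2 ⟨hne n, Finset.mem_univ _⟩
    · rw [Finset.card_image_of_injective _ hinj, Finset.card_erase_of_mem (Finset.mem_univ _),
        Finset.card_univ, ← Nat.card_eq_fintype_card, card_eSub, Finset.card_univ, Fintype.card_fin]
  have hmem : (⟨e, he⟩ : eSub) ∈ Finset.univ.image f := by
    rw [him]; exact Finset.mem_erase.2 ⟨fun h => he1 (congrArg Subtype.val h), Finset.mem_univ _⟩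
  obtain ⟨n, -, hn⟩ := Finset.mem_image.1 hmem
  exact ⟨n, congrArg Subtype.val hn⟩

universe u

theorem exists_index_prime {A : Type*} [Group A] [Finite A] [IsMulCommutative A] (l : ℕ) [Fact l.Prime]
    (h : l ∣ Nat.card A) : ∃ N : Subgroup A, N.index = l := by
  obtain ⟨k, hk⟩ := h
  induction k using Nat.strong_induction_on generalizing A with
  | _ k ih =>
    by_cases hk1 : k = 1
    · subst hk1
      exact ⟨⊥, by rw [Subgroup.index_bot, hk, mul_one]⟩
    have hkpos : k ≠ 0 := by rintro rfl; rw [mul_zero] at hk; exact Nat.card_pos.ne' hk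
    obtain ⟨r, hr, hrk⟩ := Nat.exists_prime_and_dvd hk1
    haveI : Fact r.Prime := ⟨hr⟩
    obtain ⟨a, ha⟩ := exists_prime_orderOf_dvd_card' r (hk ▸ hrk.trans (dvd_mul_left k l) : r ∣ Nat.card A)
    letI : CommGroup A := { (inferInstance : Group A) with mul_comm := mul_comm' }
    obtain ⟨k', hk'⟩ := hrk
    have hq : Nat.card (A ⧸ Subgroup.zpowers a) = l * k' := by
      have h2 := Subgroup.card_eq_card_quotient_mul_card_subgroup (Subgroup.zpowers a)
      rw [Nat.card_zpowers, ha, hk, hk'] at h2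
      have h3 : Nat.card (A ⧸ Subgroup.zpowers a) * r = (l * k') * r := by rw [← h2]; ring
      exact Nat.eq_of_mul_eq_mul_right hr.pos h3
    have hlt : k' < k := by
      rw [hk']
      have : 0 < k' := Nat.pos_of_ne_zero (fun h => hkpos (by rw [hk', h, mul_zero]))
      have := hr.two_le
      nlinarith
    obtain ⟨N, hN⟩ := ih k' hlt hq
    exact ⟨N.comap (QuotientGroup.mk' _), by rw [Subgroup.index_comap_of_surjective _ (QuotientGroup.mk'_surjective _), hN]⟩

theorem no_central_ext {Δ : Type u} [Group Δ] [Finite Δ] (σ : Δ →* Cfsg.Spor.J1) (hσ : Cfsg.IsStemExtension σ)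
    (l : ℕ) (hl : l.Prime) (hk : Nat.card σ.ker = l) : False := by
  haveI : Fact l.Prime := ⟨hl⟩
  obtain ⟨hsurj, hcen, hder⟩ := hσ
  have hindex : σ.ker.index = 175560 := by
    rw [Subgroup.index_ker, MonoidHom.range_eq_top.2 hsurj, Subgroup.card_top, card_J1]
  have hcard : Nat.card Δ = l * 175560 := by rw [← σ.ker.card_mul_index, hk, hindex]
  have hfac : (Nat.card Δ).factorization l = 1 + (175560 : ℕ).factorization l := by
    rw [hcard, Nat.factorization_mul hl.ne_zero (by norm_num)]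
    simp [hl.factorization_self]
  obtain ⟨⟨z, hz⟩, hz1⟩ : ∃ z : σ.ker, z ≠ 1 := by
    haveI : Nontrivial σ.ker := Finite.one_lt_card_iff_nontrivial.1 (hk.symm ▸ hl.one_lt)
    exact exists_ne 1
  have hz1' : z ≠ 1 := fun h => hz1 (Subtype.ext h)
  suffices h : ∃ P : Sylow l Δ, (∀ a ∈ (P : Subgroup Δ), ∀ b ∈ (P : Subgroup Δ), a * b = b * a) ∧ z ∈ (P : Subgroup Δ) by
    obtain ⟨P, hab, hzP⟩ := h
    exact hz1' (eq_one_of_abelian_sylow P hab z hzP (hcen hz) (hder hz))
  by_cases hl2 : l = 2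
  · subst hl2
    have hf2 : (175560 : ℕ).factorization 2 = 3 := by
      rw [show (175560 : ℕ) = 2 ^ 3 * 21945 by norm_num,
        Nat.factorization_mul (by norm_num) (by norm_num), Nat.prime_two.factorization_pow]
      simp [Nat.factorization_eq_zero_of_not_dvd]
    set P0 := eSub.comap σ with hP0
    have hP0c : Nat.card P0 = 16 := by
      have h1 : (σ.ker).relIndex P0 = 8 := by
        rw [← card_eSub, MonoidHom.comap_bot σ |>.symm, hP0, Subgroup.relIndex_comap,
          Subgroup.map_comap_eq_self_of_surjective hsurj, Subgroup.relIndex_bot_left]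
      have h2 := Subgroup.card_mul_index (σ.ker.subgroupOf P0)
      rw [Nat.card_congr (Subgroup.subgroupOfEquivOfLe (Subgroup.ker_le_comap σ eSub)).toEquiv, hk] at h2
      have h3 : (σ.ker.subgroupOf P0).index = 8 := h1
      rw [h3] at h2
      omega
    obtain ⟨P, hP⟩ : ∃ P : Sylow 2 Δ, (P : Subgroup Δ) = P0 :=
      ⟨Sylow.ofCard P0 (by rw [hP0c, hfac, hf2]; norm_num), rfl⟩
    refine ⟨P, ?_, hP ▸ (Subgroup.ker_le_comap σ eSub hz)⟩
    rw [hP]
    obtain ⟨a, ha⟩ := hsurj (eEl 0)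
    obtain ⟨b, hb⟩ := hsurj (eEl 1)
    obtain ⟨c, hc⟩ := hsurj (eEl 2)
    have hcm : ∀ u v : Δ, σ u ∈ eSub → σ v ∈ eSub → u * v * u⁻¹ * v⁻¹ ∈ σ.ker := by
      intro u v hu hv
      obtain ⟨i, hi⟩ := hu
      obtain ⟨j, hj⟩ := hv
      rw [MonoidHom.mem_ker]
      simp only [map_mul, map_inv, ← hi, ← hj, eEl_facts.2.1 i j]
      group
    have hmem : ∀ i, eEl i ∈ eSub := fun i => ⟨i, rfl⟩
    obtain ⟨w, hw, hwa, hwb, hwc⟩ := exists_commuting_word σ.ker hcen hk a b c
      (hcm a b (ha ▸ hmem 0) (hb ▸ hmem 1)) (hcm a c (ha ▸ hmem 0) (hc ▸ hmem 2))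
      (hcm b c (hb ▸ hmem 1) (hc ▸ hmem 2))
    have hwim : ∃ i : Fin 8, i ≠ 7 ∧ σ w = eEl i := by
      obtain ⟨-, e3, e4, e5, e6⟩ := eEl_eq
      simp only [List.mem_cons, List.not_mem_nil, or_false] at hw
      rcases hw with rfl | rfl | rfl | rfl | rfl | rfl | rfl
      · exact ⟨0, by decide, ha⟩
      · exact ⟨1, by decide, hb⟩
      · exact ⟨2, by decide, hc⟩
      · exact ⟨3, by decide, by rw [map_mul, ha, hb, e3]⟩
      · exact ⟨4, by decide, by rw [map_mul, ha, hc, e4]⟩
      · exact ⟨5, by decide, by rw [map_mul, hb, hc, e5]⟩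
      · exact ⟨6, by decide, by rw [map_mul, map_mul, ha, hb, hc, e6]⟩
    obtain ⟨i, hi7, hwi⟩ := hwim
    have hi1 : eEl i ≠ 1 := fun h => hi7 (eEl_facts.1 (h.trans eEl_eq.1.symm))
    have hgen : ∀ g ∈ P0, ∃ k ∈ σ.ker, ∃ u : Δ, u ∈ Subgroup.closure ({a, b, c} : Set Δ) ∧ g = k * u := by
      intro g hg
      obtain ⟨j, hj⟩ := (hg : σ g ∈ eSub)
      have hu : ∃ u ∈ Subgroup.closure ({a, b, c} : Set Δ), σ u = eEl j := by
        have hA : a ∈ Subgroup.closure ({a, b, c} : Set Δ) := Subgroup.subset_closure (by simp)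
        have hB : b ∈ Subgroup.closure ({a, b, c} : Set Δ) := Subgroup.subset_closure (by simp)
        have hC : c ∈ Subgroup.closure ({a, b, c} : Set Δ) := Subgroup.subset_closure (by simp)
        obtain ⟨e7, e3, e4, e5, e6⟩ := eEl_eq
        fin_cases j
        · exact ⟨a, hA, ha⟩
        · exact ⟨b, hB, hb⟩
        · exact ⟨c, hC, hc⟩
        · exact ⟨a * b, mul_mem hA hB, by rw [map_mul, ha, hb]; exact e3.symm⟩
        · exact ⟨a * c, mul_mem hA hC, by rw [map_mul, ha, hc]; exact e4.symm⟩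
        · exact ⟨b * c, mul_mem hB hC, by rw [map_mul, hb, hc]; exact e5.symm⟩
        · exact ⟨a * b * c, mul_mem (mul_mem hA hB) hC, by rw [map_mul, map_mul, ha, hb, hc]; exact e6.symm⟩
        · exact ⟨1, one_mem _, by rw [map_one]; exact e7.symm⟩
      obtain ⟨u, hu, hu'⟩ := hu
      exact ⟨g * u⁻¹, by rw [MonoidHom.mem_ker, map_mul, map_inv, hu', ← hj, mul_inv_cancel], u, hu,
        (inv_mul_cancel_right g u).symm⟩
    have hclo : ∀ u ∈ Subgroup.closure ({a, b, c} : Set Δ), Commute w u := by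
      intro u hu
      induction hu using Subgroup.closure_induction with
      | mem x hx => rcases hx with rfl | rfl | rfl <;> assumption
      | one => exact Commute.one_right _
      | mul x y _ _ hx hy => exact hx.mul_right hy
      | inv x _ hx => exact hx.inv_right
    have hwcent : ∀ g ∈ P0, w * g = g * w := by
      intro g hg
      obtain ⟨k, hk', u, hu, rfl⟩ := hgen g hg
      have h1 : Commute w k := Subgroup.mem_center_iff.1 (hcen hk') w
      exact h1.mul_right (hclo u hu)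
    set x : Cfsg.Spor.J1 := xEl with hx
    obtain ⟨y, hy⟩ := hsurj x
    have hynorm : ∀ (n : ℕ) (g : Δ), g ∈ P0 → y ^ n * g * (y ^ n)⁻¹ ∈ P0 := by
      intro n
      induction n with
      | zero => intro g hg; simpa using hg
      | succ n ih =>
        intro g hg
        have h1 : σ (y ^ n * g * (y ^ n)⁻¹) ∈ eSub := ih g hg
        obtain ⟨j, hj⟩ := h1
        obtain ⟨k, hk'⟩ := eEl_facts.2.2.2.1 j
        show σ _ ∈ eSub
        refine ⟨k, ?_⟩
        calc eEl k = x * eEl j * x⁻¹ := by rw [hx, hk', mul_inv_cancel_right]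
          _ = σ (y ^ (n + 1) * g * (y ^ (n + 1))⁻¹) := by
            rw [hj, ← hy, ← map_inv, ← map_mul, ← map_mul, pow_succ', mul_inv_rev]
            congr 1
            group
    intro g hg h hh
    by_cases hg1 : σ g = 1
    · exact (Subgroup.mem_center_iff.1 (hcen (MonoidHom.mem_ker.2 hg1)) h).symm
    obtain ⟨n, hn⟩ := orbit_all i hi1 (σ g) hg hg1
    have hd : g * (y ^ n * w * (y ^ n)⁻¹)⁻¹ ∈ σ.ker := by
      rw [MonoidHom.mem_ker, map_mul, map_inv, map_mul, map_mul, map_inv, map_pow, hy, hwi, hn, mul_inv_cancel]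
    set d := g * (y ^ n * w * (y ^ n)⁻¹)⁻¹ with hdd
    have hg' : g = d * (y ^ n * w * (y ^ n)⁻¹) := by rw [hdd]; group
    have hm : (y ^ n)⁻¹ * h * y ^ n ∈ P0 := by
      show σ _ ∈ eSub
      have hrev : ∀ (m : ℕ) (v : Cfsg.Spor.J1), v ∈ eSub → x ^ m * v * (x ^ m)⁻¹ ∈ eSub := by
        intro m v hv
        obtain ⟨v', rfl⟩ := hsurj v
        have := hynorm m v' hv
        rw [← hy, ← map_pow, ← map_inv, ← map_mul, ← map_mul]
        exact this
      have h2 := hrev (6 * n) (σ h) hh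
      have hx7 : x ^ 7 = 1 := by
        have := pow_orderOf_eq_one xEl
        rwa [eEl_facts.2.2.2.2] at this
      have h7 : x ^ (6 * n) = (x ^ n)⁻¹ := by
        rw [eq_inv_iff_mul_eq_one, ← pow_add, show 6 * n + n = 7 * n by ring, pow_mul,
          hx7, one_pow]
      rw [h7, inv_inv] at h2
      simpa [map_mul, map_inv, map_pow, hy] using h2
    have hc1 : Commute (y ^ n * w * (y ^ n)⁻¹) h := by
      have := hwcent _ hm
      show y ^ n * w * (y ^ n)⁻¹ * h = h * (y ^ n * w * (y ^ n)⁻¹)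
      calc y ^ n * w * (y ^ n)⁻¹ * h = y ^ n * (w * ((y ^ n)⁻¹ * h * y ^ n)) * (y ^ n)⁻¹ := by group
        _ = y ^ n * (((y ^ n)⁻¹ * h * y ^ n) * w) * (y ^ n)⁻¹ := by rw [this]
        _ = h * (y ^ n * w * (y ^ n)⁻¹) := by group
    rw [hg']
    exact (Commute.mul_left (Subgroup.mem_center_iff.1 (hcen hd) h).symm hc1).eq
  · obtain ⟨P⟩ : Nonempty (Sylow l Δ) := inferInstance
    have hfle : (175560 : ℕ).factorization l ≤ 1 := by
      by_contra h3
      push Not at h3
      have h4 : l ^ 2 ∣ 8 * 21945 := (pow_dvd_pow l h3).trans (Nat.ordProj_dvd 175560 l)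
      have h6 : l ^ 2 ∣ 21945 :=
        (Nat.Coprime.pow_left 2 (show Nat.Coprime l 8 from
          (Nat.Coprime.pow_right 3 ((Nat.coprime_primes hl Nat.prime_two).2 hl2)))).dvd_of_dvd_mul_left h4
      have h7 : Squarefree (21945 : ℕ) := by decide +kernel
      exact hl.one_lt.ne' (Nat.isUnit_iff.1 (h7 l (by rwa [← pow_two])))
    have hPc : Nat.card (P : Subgroup Δ) ∣ l ^ 2 := by
      rw [P.card_eq_multiplicity, hfac]
      exact pow_dvd_pow l (by omega)
    refine ⟨P, ?_, ?_⟩
    · obtain ⟨k, hk2, hke⟩ := (Nat.dvd_prime_pow hl).1 hPc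
      interval_cases k
      · intro a ha b hb
        haveI := (Nat.card_eq_one_iff_unique.1 (by simpa using hke : Nat.card (P : Subgroup Δ) = 1)).1
        exact congrArg Subtype.val (Subsingleton.elim ((⟨a, ha⟩ : (P : Subgroup Δ)) * ⟨b, hb⟩) (⟨b, hb⟩ * ⟨a, ha⟩))
      · intro a ha b hb
        haveI : IsCyclic (P : Subgroup Δ) := isCyclic_of_prime_card (p := l) (by simpa using hke)
        letI := IsCyclic.commGroup (α := (P : Subgroup Δ))
        exact congrArg Subtype.val (mul_comm (⟨a, ha⟩ : (P : Subgroup Δ)) ⟨b, hb⟩)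
      · intro a ha b hb
        exact congrArg Subtype.val
          (IsPGroup.commutative_of_card_eq_prime_sq hke (⟨a, ha⟩ : (P : Subgroup Δ)) ⟨b, hb⟩)
    · obtain ⟨Q, hQ⟩ := (IsPGroup.of_card (n := 1) (by rw [hk, pow_one]) : IsPGroup l σ.ker).exists_le_sylow
      obtain ⟨g, rfl⟩ := MulAction.exists_smul_eq Δ Q P
      rw [Sylow.coe_subgroup_smul, Subgroup.mem_pointwise_smul_iff_inv_smul_mem]
      refine hQ ?_
      have : (MulAut.conj g)⁻¹ • z = z := by
        show (MulAut.conj g)⁻¹ z = z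
        simp [Subgroup.mem_center_iff.1 (hcen hz) g⁻¹, mul_assoc]
      rw [this]
      exact hz

/-- The Schur multiplier of the Janko group J₁ (the group generated by two explicit 7 × 7 matrices over the integers modulo 11) is trivial; here the Schur multiplier is described through stem extensions, as in the definitions: surjective homomorphisms onto the group from a finite group, whose kernel is central in that finite group and contained in that finite group's commutator subgroup. -/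
theorem result : Cfsg.HasCyclicSchurMultiplier ↥Cfsg.Spor.J1 1 := by
  refine Cfsg.Agent.SchurMultiplierBasic.hasCyclicSchurMultiplier_one ?_
  intro Δ _ _ σ hσ
  by_contra hne
  haveI : Nontrivial σ.ker := (Subgroup.nontrivial_iff_ne_bot _).2 hne
  obtain ⟨l, hl, hld⟩ := Nat.exists_prime_and_dvd (Finite.one_lt_card (α := σ.ker)).ne'
  haveI : IsMulCommutative σ.ker :=
    ⟨⟨fun a b => Subtype.ext (Subgroup.mem_center_iff.1 (hσ.2.1 b.2) a)⟩⟩
  -- a subgroup of prime index in the kernel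
  obtain ⟨N, hN, hNk, hNi⟩ : ∃ N : Subgroup Δ, N ≤ σ.ker ∧ N.Normal ∧ N.relIndex σ.ker = l := by
    haveI : Fact l.Prime := ⟨hl⟩
    obtain ⟨N', hN'⟩ := exists_index_prime (A := σ.ker) l hld
    refine ⟨N'.map σ.ker.subtype, Subgroup.map_subtype_le N', ?_, ?_⟩
    · exact ⟨fun n hn g => by
        have hc : n ∈ Subgroup.center Δ := hσ.2.1 (Subgroup.map_subtype_le N' hn)
        rwa [Subgroup.mem_center_iff.1 hc g, mul_inv_cancel_right]⟩
    · rw [Subgroup.relIndex, Subgroup.subgroupOf, Subgroup.comap_map_eq_self_of_injective σ.ker.subtype_injective, hN']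
  haveI := hNk
  let τ : Δ ⧸ N →* Cfsg.Spor.J1 := QuotientGroup.lift N σ hN
  have hmk : ∀ x, τ (QuotientGroup.mk' N x) = σ x := fun x => rfl
  have hker : τ.ker = σ.ker.map (QuotientGroup.mk' N) := QuotientGroup.ker_lift N σ hN
  have hst : Cfsg.IsStemExtension τ := by
    refine ⟨fun y => ?_, ?_, ?_⟩
    · obtain ⟨x, rfl⟩ := hσ.1 y
      exact ⟨QuotientGroup.mk' N x, rfl⟩
    · rw [hker]
      rintro _ ⟨x, hx, rfl⟩
      rw [Subgroup.mem_center_iff]
      intro g
      obtain ⟨g, rfl⟩ := QuotientGroup.mk'_surjective N g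
      rw [← map_mul, ← map_mul, Subgroup.mem_center_iff.1 (hσ.2.1 hx) g]
    · rw [hker]
      refine (Subgroup.map_mono hσ.2.2).trans ?_
      rw [commutator_def, commutator_def, Subgroup.map_commutator]
      exact Subgroup.commutator_mono le_top le_top
  refine no_central_ext τ hst l hl ?_
  rw [hker]
  have h2 := Subgroup.relIndex_ker (QuotientGroup.mk' N) (K := σ.ker)
  rw [QuotientGroup.ker_mk', hNi] at h2
  exact h2.symm

end Cfsg.Agent.S2039
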