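import Cfsg.Statements.S2065
import Mathlib
import Cfsg.Agent.Lib.J1Facts
-- import your own Cfsg.Agent.* helpers here

set_option autoImplicit false
open Cfsg

namespace Cfsg.Agent.S2065

open Cfsg.Agent.J1Code Cfsg.Agent.J1Data Cfsg.Agent.J1Cert Cfsg.Agent.J1Basic Cfsg.Agent.J1Facts

attribute [local irreducible] getT gt allB M encM oneC xC yC wordC powC sC repC uC

/-- the seven order tests for a candidate image of `b` -/
noncomputable def sig (G : ℕ) : Bool :=
  ordChk G 3 && ordChk (M tCode G) 7 && ordChk (M tCode (M G G)) 7 &&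
    ordChk (M (M tCode G) (M tCode (M G G))) 19 &&
    ordChk (M (M (M tCode G) (M tCode G)) (M tCode (M G G))) 19 &&
    ordChk (M (M tCode G) (M (M tCode (M G G)) (M tCode (M G G)))) 19 &&
    ordChk (M (M (M (M tCode G) (M tCode G)) (M tCode G)) (M tCode (M G G))) 7

/-- only one double coset representative passes the tests -/
noncomputable def sigChk (lo : ℕ) : Bool :=
  allB 11 fun k => allB 120 fun i =>
    !(sig (M (sC i) (repC (gt repsT (lo + k))))) || (Nat.beq (lo + k) 7 && Nat.beq i 68)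

set_option maxRecDepth 100000 in
theorem hsig0 : sigChk 0 = true ∧ sigChk 11 = true ∧
    sig (M (sC 68) (repC (gt repsT 7))) = true ∧ gt repsT 7 < 1463 := by decide +kernel

/-- code of a word in t and b -/
noncomputable def wordTB (B : ℕ) : List Bool → ℕ := fun w =>
  List.rec (motive := fun _ => ℕ) oneC (fun x _ r => M (cond x B tCode) r) w

/-- X as a word -/
def wordX : List Bool :=
  [1, 0, 1, 1, 0, 1, 0, 1, 0, 1, 1, 0, 1, 1, 0, 1, 0, 1, 1, 0, 1, 0, 1, 0, 1, 1, 0, 1, 0, 1, 0, 1, 1, 0, 1, 1, 0, 1, 0, 1, 0, 1, 1, 0, 1, 0, 1, 0, 1, 1, 0, 1, 0].map (fun n => n == 1)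

/-- Y as a word -/
def wordY : List Bool :=
  [0, 1, 1, 0, 1, 0, 1, 1, 0, 1, 1, 0, 1, 0, 1, 1, 0, 1, 0, 1, 1, 0, 1, 0, 1, 1, 0, 1, 0, 1, 0, 1, 1, 0, 1, 0, 1, 1, 0, 1, 0, 1, 0, 1, 1, 0, 1, 0, 1, 0].map (fun n => n == 1)

set_option maxRecDepth 100000 in
theorem hgen : Nat.beq (wordTB (M (sC 68) (repC (gt repsT 7))) wordX) xC = true ∧
    Nat.beq (wordTB (M (sC 68) (repC (gt repsT 7))) wordY) yC = true := by decide +kernel

theorem wordTB_nil (B : ℕ) : wordTB B [] = oneC := by rw [wordTB]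

theorem wordTB_cons (B : ℕ) (x : Bool) (w : List Bool) :
    wordTB B (x :: w) = M (cond x B tCode) (wordTB B w) := by simp only [wordTB]

theorem mem_of_word (b : Cfsg.Spor.J1) (w : List Bool) (K : Subgroup Cfsg.Spor.J1) (ht : t ∈ K) (hb : b ∈ K) :
    ∃ g ∈ K, code (g : GL (Fin 7) (ZMod 11)) = wordTB (code (b : GL (Fin 7) (ZMod 11))) w := by
  induction w with
  | nil => exact ⟨1, K.one_mem, code_one'.trans (wordTB_nil _).symm⟩
  | cons x w ih =>
    obtain ⟨g, hg, hgc⟩ := ih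
    refine ⟨cond x b t * g, K.mul_mem (by cases x <;> assumption) hg, ?_⟩
    rw [code_mul', hgc]
    rw [wordTB_cons]
    cases x
    · rw [cond_false, cond_false, code_t]
    · rw [cond_true, cond_true]

/-- the tests as a statement about elements -/
theorem sig_iff (g : Cfsg.Spor.J1) (h : sig (code (g : GL (Fin 7) (ZMod 11))) = true) :
    orderOf g = 3 ∧ orderOf (t * g) = 7 ∧ orderOf (t * (g * g)) = 7 ∧
    orderOf ((t * g) * (t * (g * g))) = 19 ∧ orderOf ((t * g) * (t * g) * (t * (g * g))) = 19 ∧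
    orderOf ((t * g) * ((t * (g * g)) * (t * (g * g)))) = 19 ∧
    orderOf ((t * g) * (t * g) * (t * g) * (t * (g * g))) = 7 := by
  simp only [sig, Bool.and_eq_true] at h
  refine ⟨?_, ?_, ?_, ?_, ?_, ?_, ?_⟩ <;> apply orderOf_of_ordChk _ _ (by norm_num) <;>
    (try simp only [code_mul', code_t])
  exacts [h.1.1.1.1.1.1, h.1.1.1.1.1.2, h.1.1.1.1.2, h.1.1.1.2, h.1.1.2, h.1.2, h.2]

theorem ordChk_of_orderOf (g : Cfsg.Spor.J1) (o : ℕ) (h : orderOf g = o) :
    ordChk (code (g : GL (Fin 7) (ZMod 11))) o = true := by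
  rw [ordChk, Bool.and_eq_true]
  constructor
  · rw [← code_pow, ← Subgroup.coe_pow, ← h, pow_orderOf_eq_one, code_one', Nat.beq_refl]
  · have key : ∀ (n : ℕ) (p : ℕ → Bool), (∀ i < n, p i = true) → allB n p = true := by
      intro n p
      induction n with
      | zero => intro _; simp only [allB]; rfl
      | succ n ih =>
        intro hp
        have e : allB (n + 1) p = (p n && allB n p) := by simp only [allB]
        rw [e, hp n (Nat.lt_succ_self n), ih (fun i hi => hp i (Nat.lt_succ_of_lt hi))]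
        rfl
    apply key
    intro m hm
    rw [Bool.or_eq_true, Bool.not_eq_true']
    by_cases h0 : m = 0
    · left; subst h0; rfl
    · right
      rw [Bool.eq_false_iff]
      intro hc
      have h1 : g ^ m = 1 := eq_of_code (by rw [Subgroup.coe_pow, code_pow, Nat.eq_of_beq_eq_true hc, code_one'])
      have := Nat.le_of_dvd (Nat.pos_of_ne_zero h0) (orderOf_dvd_of_pow_eq_one h1)
      omega

theorem sig_map (φ : Cfsg.Spor.J1 ≃* Cfsg.Spor.J1) (hφ : φ t = t) (g : Cfsg.Spor.J1)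
    (h : sig (code (g : GL (Fin 7) (ZMod 11))) = true) :
    sig (code ((φ g : Cfsg.Spor.J1) : GL (Fin 7) (ZMod 11))) = true := by
  obtain ⟨h1, h2, h3, h4, h5, h6, h7⟩ := sig_iff g h
  have key : ∀ (x : Cfsg.Spor.J1) (o : ℕ), orderOf x = o →
      ordChk (code ((φ x : Cfsg.Spor.J1) : GL (Fin 7) (ZMod 11))) o = true := fun x o hx =>
    ordChk_of_orderOf _ _ (by rw [MulEquiv.orderOf_eq, hx])
  have a1 := key _ _ h1
  have a2 := key _ _ h2
  have a3 := key _ _ h3
  have a4 := key _ _ h4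
  have a5 := key _ _ h5
  have a6 := key _ _ h6
  have a7 := key _ _ h7
  simp only [map_mul, hφ, code_mul', code_t] at a1 a2 a3 a4 a5 a6 a7
  simp only [sig, Bool.and_eq_true]
  exact ⟨⟨⟨⟨⟨⟨a1, a2⟩, a3⟩, a4⟩, a5⟩, a6⟩, a7⟩

/-- conjugating by an element of C(t) brings every element to a representative -/
theorem rep_cases_t (g : Cfsg.Spor.J1) :
    ∃ (k : ℕ) (w i : Fin 120) (d : Fin 1463), k < 22 ∧ (d : ℕ) = gt repsT k ∧
      sEl w * g * (sEl w)⁻¹ = sEl i * rEl d := by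
  obtain ⟨⟨i, c⟩, rfl⟩ := param_surjective g
  have h := allB_spec hO c c.2
  simp only [Bool.and_eq_true, Nat.beq_eq, Nat.blt_eq] at h
  obtain ⟨⟨⟨⟨hk, hw⟩, hv⟩, hd⟩, he⟩ := h
  have e : rEl ⟨_, hd⟩ * sEl ⟨_, hw⟩ = sEl ⟨_, hv⟩ * rEl c := by
    apply eq_of_code
    rw [code_mul', code_mul', code_rEl, code_rEl, code_sEl, code_sEl]
    exact he
  have hinv : ∀ j : Fin 120, ∃ l, sEl l = (sEl j)⁻¹ := fun j => by
    apply (mem_centralizer_t _).1
    exact (Commute.inv_left (s_commute j) : Commute (sEl j)⁻¹ t)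
  obtain ⟨l, hl⟩ := hinv ⟨_, hv⟩
  obtain ⟨m, hm⟩ := s_closed i l
  obtain ⟨n, hn⟩ := s_closed ⟨_, hw⟩ m
  refine ⟨_, ⟨_, hw⟩, n, ⟨_, hd⟩, hk, rfl, ?_⟩
  rw [← hn, ← hm, hl]
  simp only [param]
  have e2 : rEl c = (sEl ⟨_, hv⟩)⁻¹ * (rEl ⟨_, hd⟩ * sEl ⟨_, hw⟩) := by rw [e, inv_mul_cancel_left]
  rw [e2]
  group

/-- The outer automorphism group of the Janko group J₁ (the group generated by two explicit 7 × 7 matrices over the integers modulo 11) is trivial: every automorphism is inner. -/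
theorem result : Nat.card (Cfsg.Out ↥Cfsg.Spor.J1) = 1 := by
  have hall : ∀ φ : MulAut Cfsg.Spor.J1, φ ∈ Cfsg.Inn Cfsg.Spor.J1 := by
    intro φ
    have ho : orderOf t = 2 := by
      refine orderOf_eq_prime (by rw [pow_two]; exact t_sq) ?_
      intro h
      have h2 := code_t
      rw [h, code_one'] at h2
      exact (by decide +kernel : (oneC : ℕ) ≠ tCode) h2
    obtain ⟨c, hc⟩ := isConj_iff.1 (involution_conj (φ t) (by rw [MulEquiv.orderOf_eq, ho]))
    let ψ : Cfsg.Spor.J1 ≃* Cfsg.Spor.J1 := φ.trans (MulAut.conj c⁻¹)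
    have hψt : ψ t = t := by simp [ψ, ← hc, mul_assoc]
    obtain ⟨b, hbdef, hb⟩ : ∃ b : Cfsg.Spor.J1, code (b : GL (Fin 7) (ZMod 11)) = M (sC 68) (repC (gt repsT 7)) ∧
        b = sEl ⟨68, by norm_num⟩ * rEl ⟨_, hsig0.2.2.2⟩ :=
      ⟨sEl ⟨68, by norm_num⟩ * rEl ⟨_, hsig0.2.2.2⟩, by rw [code_mul', code_sEl, code_rEl], rfl⟩
    obtain ⟨k, w, i, d, hk, hd, hw⟩ := rep_cases_t (ψ b)
    let χ : Cfsg.Spor.J1 ≃* Cfsg.Spor.J1 := ψ.trans (MulAut.conj (sEl w))
    have hχt : χ t = t := by simp [χ, hψt, s_commute w]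
    have hsig : sig (code ((χ b : Cfsg.Spor.J1) : GL (Fin 7) (ZMod 11))) = true :=
      sig_map χ hχt b (by rw [hbdef]; exact hsig0.2.2.1)
    have hχb : χ b = b := by
      have e : χ b = sEl i * rEl d := hw
      rw [e, code_mul', code_sEl, code_rEl, hd] at hsig
      have hki : k = 7 ∧ (i : ℕ) = 68 := by
        have hh : ∀ lo j, lo + j = k → j < 11 → sigChk lo = true → k = 7 ∧ (i : ℕ) = 68 := by
          intro lo j hj hj' hchk
          have := allB_spec (allB_spec hchk j hj') i i.2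
          rw [hj, hsig] at this
          simpa [Nat.beq_eq] using this
        rcases lt_or_ge k 11 with hlt | hge
        · exact hh 0 k (by omega) hlt hsig0.1
        · exact hh 11 (k - 11) (by omega) (by omega) hsig0.2.1
      rw [e, hb]
      congr 1
      · exact congrArg sEl (Fin.ext hki.2)
      · exact congrArg rEl (Fin.ext (by rw [hd, hki.1]))
    obtain ⟨K, hK⟩ : ∃ K : Subgroup Cfsg.Spor.J1, ∀ g, g ∈ K ↔ χ g = g :=
      ⟨χ.toMonoidHom.eqLocus (MonoidHom.id _), fun _ => Iff.rfl⟩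
    have hX : (⟨Cfsg.Spor.jankoX, gen_mem false⟩ : Cfsg.Spor.J1) ∈ K := by
      obtain ⟨g, hg, hgc⟩ := mem_of_word b wordX K ((hK _).2 hχt) ((hK _).2 hχb)
      rw [hbdef, Nat.eq_of_beq_eq_true hgen.1] at hgc
      rwa [show (⟨Cfsg.Spor.jankoX, gen_mem false⟩ : Cfsg.Spor.J1) = g from eq_of_code (code_x.trans hgc.symm)]
    have hY : (⟨Cfsg.Spor.jankoY, gen_mem true⟩ : Cfsg.Spor.J1) ∈ K := by
      obtain ⟨g, hg, hgc⟩ := mem_of_word b wordY K ((hK _).2 hχt) ((hK _).2 hχb)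
      rw [hbdef, Nat.eq_of_beq_eq_true hgen.2] at hgc
      rwa [show (⟨Cfsg.Spor.jankoY, gen_mem true⟩ : Cfsg.Spor.J1) = g from eq_of_code (code_y.trans hgc.symm)]
    have hKtop : ∀ g, g ∈ K := by
      rintro ⟨a, ha⟩
      induction ha using Subgroup.closure_induction with
      | mem x hx =>
        rcases hx with rfl | rfl
        · exact hX
        · exact hY
      | one => exact K.one_mem
      | mul x y _ _ ihx ihy => exact K.mul_mem ihx ihy
      | inv x _ ihx => exact K.inv_mem ihx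
    refine ⟨c * (sEl w)⁻¹, ?_⟩
    apply MulEquiv.ext
    intro g
    have hg : sEl w * (c⁻¹ * φ g * c) * (sEl w)⁻¹ = g := by
      simpa [χ, ψ] using (hK g).1 (hKtop g)
    show c * (sEl w)⁻¹ * g * (c * (sEl w)⁻¹)⁻¹ = φ g
    have h5 := congrArg (fun x => c * (sEl w)⁻¹ * x * sEl w * c⁻¹) hg
    simp only [mul_assoc, inv_mul_cancel_left, mul_inv_cancel_left, inv_mul_cancel, mul_inv_cancel, mul_one, mul_inv_rev, inv_inv] at h5 ⊢
    exact h5.symm
  rw [Nat.card_eq_one_iff_unique]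
  refine ⟨⟨fun a b => ?_⟩, inferInstance⟩
  obtain ⟨x, rfl⟩ := QuotientGroup.mk_surjective a
  obtain ⟨y, rfl⟩ := QuotientGroup.mk_surjective b
  exact (QuotientGroup.eq).2 (hall _)

end Cfsg.Agent.S2065
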