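import Cfsg.Statements.S2076
import Cfsg.Agent.Lib.LyOut66

set_option autoImplicit false
open Cfsg

namespace Cfsg.Agent.S2076

/-- The outer automorphism group of the Lyons group (the finitely presented group of the definitions) is trivial: every automorphism is inner. -/
theorem result : Nat.card (Cfsg.Out Cfsg.Spor.Ly) = 1 := by
  exact LyOut66.card_out

end Cfsg.Agent.S2076
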