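import Cfsg.Statements.S2082
import Cfsg.Agent.Lib.HNOut16
import Cfsg.Agent.Lib.HNMain66

set_option autoImplicit false
open Cfsg

namespace Cfsg.Agent.S2082

/-- The outer automorphism group of the Harada–Norton group (the finitely presented group of the definitions) has order 2. -/
theorem result : Nat.card (Cfsg.Out Cfsg.Spor.HN) = 2 := by
  exact HNOut16.out_card
    ⟨HNMain66.finite_HN, HNMain66.card_HN, HNMain66.isCoatom_HXYZ,
      (HNSimple63.isHN_of_data HNMain66.finite_HN HNMain66.card_HN HNMain66.index_HXYZ
        HNMain66.isCoatom_HXYZ HNMain66.normalCore_HXYZ).1⟩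

end Cfsg.Agent.S2082
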