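import Cfsg.Statements.S2087
import Cfsg.Agent.Lib.StemSL2
import Cfsg.Agent.Lib.SimplePSLApply

set_option autoImplicit false
open Cfsg

namespace Cfsg.Agent.S2087

universe u

/-- `SL(2,K)` is the covering group of `PSL(2,K)` for `|K| = 7`. -/
theorem cover_seven {Q : Type u} [Group Q] {K : Type u} [Field K] [Fintype K]
    (h7 : Fintype.card K = 7) (e : Matrix.ProjectiveSpecialLinearGroup (Fin 2) K ≃* Q) :
    Cfsg.HasCyclicSchurMultiplier Q 2 := by
  classical
  haveI : Fact (Nat.Prime 7) := ⟨by norm_num⟩
  haveI : CharP K 7 := charP_of_card_eq_prime h7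
  have hk : Nat.card K = 7 := by rw [Nat.card_eq_fintype_card, h7]
  let σ : Matrix.SpecialLinearGroup (Fin 2) K →* Q :=
    e.toMonoidHom.comp (QuotientGroup.mk' _)
  have hker : σ.ker = Subgroup.center (Matrix.SpecialLinearGroup (Fin 2) K) := by
    change (e.toMonoidHom.comp _).ker = _
    rw [show e.toMonoidHom = (e : _ →* Q) from rfl, MonoidHom.ker_mulEquiv_comp, QuotientGroup.ker_mk']
  have hc : Nat.card σ.ker = 2 := by
    rw [hker, PSLCard.card_center_SL, hk]; rfl
  haveI : IsCyclic σ.ker := isCyclic_of_prime_card hc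
  refine StemBasic.hasSchurMultiplier_of_cover σ
    (e.surjective.comp (QuotientGroup.mk'_surjective _)) hker.le
    (PSLSimple.commutator_SL_fin_eq_top le_rfl (fun _ => PSLSimple.exists_sq_ne_one (by omega)))
    (fun Δ _ _ τ hτ => StemSL2.ker_eq_bot 7 hτ (by omega) (by omega))
    (mulEquivOfCyclicCardEq (by rw [hc, Nat.card_congr Multiplicative.toAdd, Nat.card_zmod]))

theorem pick {Q : Type u} [Group Q] [Finite Q] [IsSimpleGroup Q] (h : Nat.card Q = 168) :
    Cfsg.HasCyclicSchurMultiplier Q 2 := by
  haveI : Fact (Nat.Prime 7) := ⟨by norm_num⟩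
  obtain ⟨e⟩ := SimplePSLApply.iso_seven (F := ULift.{u} (ZMod 7)) h
    (by rw [Nat.card_congr Equiv.ulift, Nat.card_zmod])
  exact cover_seven (K := ULift.{u} (ZMod 7))
    (by rw [Fintype.card_ulift, ZMod.card]) e.symm

/-- Exceptional Schur multiplier: over the field with 2 elements, PSL₃ has Schur multiplier cyclic of order 2 (here the Schur multiplier is described through stem extensions, as in the definitions). -/
theorem result {F : Type*} [Field F] [Fintype F] (hF : Fintype.card F = 2) : Cfsg.HasCyclicSchurMultiplier (Matrix.ProjectiveSpecialLinearGroup (Fin 3) F) 2 := by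
  have hk : Nat.card F = 2 := by rw [Nat.card_eq_fintype_card, hF]
  haveI := PSLSimple.isSimpleGroup_PSL_fin' (F := F) (n := 3) (by norm_num) (fun h => by omega)
  have hc : Nat.card (Matrix.ProjectiveSpecialLinearGroup (Fin 3) F) = 168 := by
    have h := PSLCard.card_PSL_mul (F := F) 3
    have h' := PSLCard.card_SL (F := F) 3
    rw [hk] at h h'
    norm_num [Fin.prod_univ_succ] at h h'
    omega
  haveI : Finite (Matrix.ProjectiveSpecialLinearGroup (Fin 3) F) :=
    Nat.finite_of_card_ne_zero (by omega)
  exact pick hc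

end Cfsg.Agent.S2087
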