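import Cfsg.Statements.S2088
import Cfsg.Agent.Lib.L34BoundFull60
import Cfsg.Agent.Lib.L34Cover60
import Cfsg.Agent.Lib.PSLCard
import Cfsg.Agent.Lib.PSLSimple

set_option autoImplicit false
open Cfsg

namespace Cfsg.Agent.S2088

/-- Exceptional Schur multiplier: over the field with 4 elements, PSL₃ has Schur multiplier isomorphic to the product of cyclic groups of orders 3, 4 and 4 (order 48, not cyclic; here the Schur multiplier is described through stem extensions, as in the definitions). -/
theorem result {F : Type*} [Field F] [Fintype F] (hF : Fintype.card F = 4) : Cfsg.HasSchurMultiplier (Matrix.ProjectiveSpecialLinearGroup (Fin 3) F) (Multiplicative (ZMod 3 × ZMod 4 × ZMod 4)) := by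
  refine ⟨?_, fun Γ _ _ σ hσ => L34BoundFull60.ker_image σ hσ hF
    (PSLSimple.commutator_PSL_eq_top (PSLSimple.commutator_SL_eq_top (by simp)))⟩
  obtain ⟨Γ, i1, i2, σ, ⟨hs, hc, hd⟩, ⟨e⟩⟩ := L34Cover60.exists_cover
  let r : FieldFour15.K4 ≃+* F := FiniteField.ringEquivOfCardEq (by rw [FieldFour15.K4.card_eq, hF])
  let p := PSLCard.pslEquiv (ι := Fin 3) r
  let u : ULift Γ ≃* Γ := MulEquiv.ulift
  let τ : ULift Γ →* Matrix.ProjectiveSpecialLinearGroup (Fin 3) F :=
    (p.toMonoidHom.comp σ).comp u.toMonoidHom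
  have hk : ∀ x, τ x = 1 ↔ σ (u x) = 1 := fun x => by
    show p (σ (u x)) = 1 ↔ _
    exact p.map_eq_one_iff
  refine ⟨ULift Γ, inferInstance, inferInstance, τ, ⟨?_, ?_, ?_⟩, ⟨?_⟩⟩
  · exact (p.surjective.comp hs).comp u.surjective
  · intro x hx
    refine Subgroup.mem_center_iff.2 fun y => u.injective ?_
    rw [map_mul, map_mul]
    exact Subgroup.mem_center_iff.1 (hc ((hk x).1 hx)) (u y)
  · intro x hx
    have hm : u.symm (u x) ∈ (commutator Γ).map u.symm.toMonoidHom :=
      ⟨_, hd ((hk x).1 hx), rfl⟩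
    rw [u.symm_apply_apply, _root_.commutator_def, Subgroup.map_commutator,
      Subgroup.map_top_of_surjective _ u.symm.surjective, ← _root_.commutator_def] at hm
    exact hm
  · refine MulEquiv.trans ?_ e
    exact
      { toFun := fun x => ⟨u x.1, (hk x.1).1 x.2⟩
        invFun := fun y => ⟨u.symm y.1, (hk _).2 (by rw [u.apply_symm_apply]; exact y.2)⟩
        left_inv := fun x => Subtype.ext (u.symm_apply_apply _)
        right_inv := fun y => Subtype.ext (u.apply_symm_apply _)
        map_mul' := fun a b => Subtype.ext (map_mul u _ _) }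

end Cfsg.Agent.S2088
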