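import Cfsg.Statements.S2091
import Cfsg.Agent.Lib.StemU62Exist
import Cfsg.Agent.Lib.StemTransfer86
import Cfsg.Agent.Lib.FieldFour15
-- import your own Cfsg.Agent.* helpers here

set_option autoImplicit false
open Cfsg

namespace Cfsg.Agent.S2091

/-- Exceptional Schur multiplier: PSU₆(2), realised over the field with 4 elements, has Schur multiplier isomorphic to the product of cyclic groups of orders 3, 2 and 2 (order 12, not cyclic; here the Schur multiplier is described through stem extensions, as in the definitions). -/
theorem result {F : Type*} [Field F] [Fintype F] (hF : Fintype.card F = 4) : Cfsg.HasSchurMultiplier (Cfsg.PSU 6 F 2) (Multiplicative (ZMod 3 × ZMod 2 × ZMod 2)) := by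
  haveI : UnitaryF4Geo.FourField FieldFour15.K4 := ⟨by decide +kernel⟩
  obtain ⟨w, hw⟩ := UnitaryF4Geo.exists_omega (F := FieldFour15.K4)
  haveI := StemU62Exist.finite_psu (F := FieldFour15.K4)
  have e : F ≃+* FieldFour15.K4 := FiniteField.ringEquivOfCardEq (hF.trans (by decide +kernel))
  obtain ⟨g⟩ := StemTransfer86.exists_psu_equiv (n := 6) (q := 2) e
  exact StemTransfer86.transfer g (StemU62Exist.multiplier hw)


end Cfsg.Agent.S2091
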