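import Cfsg.Statements.S2094
import Cfsg.Agent.Lib.OrthStemMult

set_option autoImplicit false
open Cfsg

namespace Cfsg.Agent.S2094

/-- Schur multipliers of the odd-dimensional orthogonal groups: for m ≥ 3 and a field F of odd order q with (m, q) ≠ (3, 3), the Schur multiplier of PΩ_(2m+1)(F) (for the form x₀² + Σ xᵢyᵢ) is cyclic of order 2 = gcd(2, q − 1); here the Schur multiplier is described through stem extensions, as in the definitions. -/
theorem result {F : Type*} [Field F] [Fintype F] {q : ℕ} (hF : Fintype.card F = q) (hq : Odd q) (m : ℕ) (hm : 3 ≤ m) (hexc : ¬ (m = 3 ∧ q = 3)) : Cfsg.HasCyclicSchurMultiplier (Cfsg.POmega F (Cfsg.quadFormOdd m F)) 2 := by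
  classical
  subst hF
  have h2 : (2 : F) ≠ 0 := OrthUnitaryForms.two_ne_zero_of_odd rfl hq
  have hd : Module.finrank F ((Fin m ⊕ Fin m → F) × (Unit → F)) = 2 * m + 1 := by
    rw [OrthUnitaryStd.finrank_withBase_space]; simp
  have hok : OrthStemMult.Ok (OrthUnitaryQuad.withBase m (OrthUnitaryForms.qfSq F)) := by
    by_cases h4 : 4 ≤ m
    · exact Or.inl (by omega)
    · refine Or.inr (Or.inl ?_)
      have hm3 : m = 3 := by omega
      have h3 : Fintype.card F ≠ 3 := fun h => hexc ⟨hm3, h⟩
      have := Fintype.one_lt_card (α := F)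
      obtain ⟨j, hj⟩ := hq
      omega
  exact OrthStemMult.multiplier_two (quadFormOdd m F) (OrthUnitaryForms.eqOdd m)
    (OrthUnitaryForms.eqOdd_isometry m) h2
    (OrthUnitaryStd.nondegenerate_withBase (OrthUnitaryStd.nondegenerate_qfSq h2) m) (by omega) hok
    (OrthStemSpinor.hasSpinor_withBase OrthStemSpinor.hasSpinor_qfSq m)
    (OrthUnitaryStd.not_negOne_mem_odd h2 m)

end Cfsg.Agent.S2094
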