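import Cfsg.Statements.S2095
import Cfsg.Agent.Lib.O73Cover60
import Cfsg.Agent.Lib.O73Bound60
import Cfsg.Agent.Lib.OrthRingTransfer60

set_option autoImplicit false
open Cfsg

namespace Cfsg.Agent.S2095

universe u

open QuadraticMap
open Cfsg.Agent.OrthUnitaryQuad Cfsg.Agent.OrthUnitaryRefl Cfsg.Agent.OrthUnitaryOmega
open Cfsg.Agent.OrthUnitaryForms Cfsg.Agent.OrthUnitaryStd Cfsg.Agent.OrthUnitaryCentre

/-- The fibre product of stem extensions with kernels of orders two and three. -/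
theorem fibre_product {G : Type u} [Group G] (hG : commutator G = ⊤) {A B : Type u} [Group A] [Group B]
    [Finite A] [Finite B] {f : A →* G} {g : B →* G} (hf : Cfsg.IsStemExtension f) (hg : Cfsg.IsStemExtension g)
    (h2 : Nat.card f.ker = 2) (h3 : Nat.card g.ker = 3) :
    ∃ (Γ : Type u) (_ : Group Γ) (_ : Finite Γ) (σ : Γ →* G), Cfsg.IsStemExtension σ ∧
      Nonempty (σ.ker ≃* Multiplicative (ZMod 6)) := by
  classical
  let P : Subgroup (A × B) := MonoidHom.eqLocus (f.comp (MonoidHom.fst A B)) (g.comp (MonoidHom.snd A B))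
  let σ : P →* G := (f.comp (MonoidHom.fst A B)).comp P.subtype
  have hsurj : Function.Surjective σ := fun x => by
    obtain ⟨a, ha⟩ := hf.1 x
    obtain ⟨b, hb⟩ := hg.1 x
    exact ⟨⟨(a, b), show f a = g b by rw [ha, hb]⟩, ha⟩
  have hk : ∀ z : P, σ z = 1 → f z.1.1 = 1 ∧ g z.1.2 = 1 := fun z hz =>
    ⟨hz, (show f z.1.1 = g z.1.2 from z.2).symm.trans hz⟩
  have hc : σ.ker ≤ Subgroup.center P := fun z hz => Subgroup.mem_center_iff.2 fun w =>
    Subtype.ext (Prod.ext (StemBasic.ker_comm hf.2.1 (hk z hz).1 _) (StemBasic.ker_comm hg.2.1 (hk z hz).2 _))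
  let p1 : P →* A := (MonoidHom.fst A B).comp P.subtype
  let p2 : P →* B := (MonoidHom.snd A B).comp P.subtype
  have hp1 : Function.Surjective p1 := fun a => by
    obtain ⟨b, hb⟩ := hg.1 (f a)
    exact ⟨⟨(a, b), hb.symm⟩, rfl⟩
  have hp2 : Function.Surjective p2 := fun b => by
    obtain ⟨a, ha⟩ := hf.1 (g b)
    exact ⟨⟨(a, b), ha⟩, rfl⟩
  have hm : ∀ {C : Type u} [Group C] (p : P →* C), Function.Surjective p → commutator C = ⊤ →
      (commutator P).map p = ⊤ := by
    intro C _ p hp hC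
    rw [_root_.commutator_def, Subgroup.map_commutator, Subgroup.map_top_of_surjective _ hp,
      ← _root_.commutator_def, hC]
  have hA := StemBasic.commutator_eq_top_of_stem hf hG
  have hB := StemBasic.commutator_eq_top_of_stem hg hG
  have o2 : ∀ a, f a = 1 → a ^ 2 = 1 := fun a ha => by
    have := pow_card_eq_one' (x := (⟨a, ha⟩ : f.ker))
    rw [h2] at this
    exact congrArg Subtype.val this
  have o3 : ∀ b, g b = 1 → b ^ 3 = 1 := fun b hb => by
    have := pow_card_eq_one' (x := (⟨b, hb⟩ : g.ker))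
    rw [h3] at this
    exact congrArg Subtype.val this
  have hkc : σ.ker ≤ commutator P := by
    intro z hz
    obtain ⟨za, zb⟩ := hk z hz
    obtain ⟨d, hd, hde⟩ : z.1.1 ∈ (commutator P).map p1 := (hm p1 hp1 hA).symm ▸ Subgroup.mem_top _
    obtain ⟨e, he, hee⟩ : z.1.2 ∈ (commutator P).map p2 := (hm p2 hp2 hB).symm ▸ Subgroup.mem_top _
    change d.1.1 = z.1.1 at hde
    change e.1.2 = z.1.2 at hee
    have tb : g d.1.2 = 1 := by rw [← (show f d.1.1 = g d.1.2 from d.2), hde, za]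
    have ta : f e.1.1 = 1 := by rw [(show f e.1.1 = g e.1.2 from e.2), hee, zb]
    have e1 : z = d ^ 3 * e ^ 4 := by
      refine Subtype.ext (Prod.ext ?_ ?_)
      · show z.1.1 = d.1.1 ^ 3 * e.1.1 ^ 4
        rw [show e.1.1 ^ 4 = 1 by rw [show 4 = 2 * 2 from rfl, pow_mul, o2 _ ta, one_pow], mul_one, hde,
          show z.1.1 ^ 3 = z.1.1 ^ 2 * z.1.1 from pow_succ _ 2, o2 _ za, one_mul]
      · show z.1.2 = d.1.2 ^ 3 * e.1.2 ^ 4
        rw [o3 _ tb, one_mul, hee, show z.1.2 ^ 4 = z.1.2 ^ 3 * z.1.2 from pow_succ _ 3, o3 _ zb, one_mul]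
    rw [e1]
    exact mul_mem (pow_mem hd 3) (pow_mem he 4)
  let E : σ.ker ≃ f.ker × g.ker :=
    { toFun := fun z => (⟨z.1.1.1, (hk z.1 z.2).1⟩, ⟨z.1.1.2, (hk z.1 z.2).2⟩)
      invFun := fun w => ⟨⟨(w.1.1, w.2.1), show f w.1.1 = g w.2.1 by
        rw [MonoidHom.mem_ker.1 w.1.2, MonoidHom.mem_ker.1 w.2.2]⟩, w.1.2⟩
      left_inv := fun _ => rfl
      right_inv := fun _ => rfl }
  have hcard : Nat.card σ.ker = 6 := by rw [Nat.card_congr E, Nat.card_prod, h2, h3]
  letI : CommGroup σ.ker :=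
    { (inferInstance : Group σ.ker) with
      mul_comm := fun a b => Subtype.ext ((StemBasic.ker_comm hc a.2 b.1).symm) }
  haveI : IsZGroup σ.ker := IsZGroup.of_squarefree (hcard.symm ▸ (by decide +kernel))
  exact ⟨P, inferInstance, inferInstance, σ, ⟨hsurj, hc, hkc⟩,
    ⟨mulEquivOfCyclicCardEq (by rw [hcard, Nat.card_congr Multiplicative.toAdd, Nat.card_zmod])⟩⟩

theorem main {F : Type u} [Field F] [Fintype F] (hF : Fintype.card F = 3) :
    Cfsg.HasCyclicSchurMultiplier (Cfsg.POmega F (Cfsg.quadFormOdd 3 F)) 6 := by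
  classical
  have h2 : (2 : F) ≠ 0 := O73Bound60.two_ne hF
  have hd : Module.finrank F ((Fin 3 ⊕ Fin 3 → F) × (Unit → F)) = 7 := by
    rw [finrank_withBase_space]; simp
  set Q := withBase 3 (qfSq F)
  have hnd : (polarBilin Q).Nondegenerate := nondegenerate_withBase (nondegenerate_qfSq h2) 3
  haveI : Finite ((Fin 3 ⊕ Fin 3 → F) × (Unit → F)) := inferInstance
  set ψ := omegaEquiv Q (quadFormOdd 3 F) (eqOdd 3) (eqOdd_isometry 3)
  have hz : Subgroup.center (Omega F (quadFormOdd 3 F)) = ⊥ := by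
    rw [← Subgroup.card_eq_one, OrthStemMult.card_center _ _ (eqOdd_isometry 3) hnd hd.ge,
      if_neg fun hh => not_negOne_mem_odd h2 3 hh.2]
  let q := QuotientGroup.mk' (Subgroup.center (Omega F (quadFormOdd 3 F)))
  have hqinj : Function.Injective q := by
    rw [← MonoidHom.ker_eq_bot_iff, QuotientGroup.ker_mk', hz]
  let e0 : Omega F (quadFormOdd 3 F) ≃* POmega F (quadFormOdd 3 F) :=
    MulEquiv.ofBijective q ⟨hqinj, QuotientGroup.mk'_surjective _⟩
  let eG : commutator (orth Q) ≃* POmega F (quadFormOdd 3 F) := ψ.symm.trans e0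
  have hGperf : commutator (POmega F (quadFormOdd 3 F)) = ⊤ := by
    rw [_root_.commutator_def, ← Subgroup.map_top_of_surjective eG.toMonoidHom eG.surjective,
      ← Subgroup.map_commutator, ← _root_.commutator_def, OrthStemMult.omega_perfect hnd hd.ge]
  refine ⟨?_, ?_⟩
  · -- the double cover
    obtain ⟨M, i1, i2, i3, i4, ρ0, hρ0⟩ :=
      (OrthStemSpinor.hasSpinor_withBase OrthStemSpinor.hasSpinor_qfSq 3 : OrthStemSpinor.HasSpinor Q)
    let R : OrthStemSpin.Data Q M := ⟨h2, hnd, hd.ge, ρ0, hρ0⟩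
    let ρ : OrthStemSpin.spin R →* commutator (orth Q) :=
      (OrthStemSpin.π R).codRestrict _ fun g => OrthStemSpin.range_π R ▸ ⟨g, rfl⟩
    have hρs : Function.Surjective ρ := fun g => by
      obtain ⟨x, hx⟩ : g.1 ∈ (OrthStemSpin.π R).range := (OrthStemSpin.range_π R).symm ▸ g.2
      exact ⟨x, Subtype.ext hx⟩
    let σ2 : OrthStemSpin.spin R →* POmega F (quadFormOdd 3 F) := eG.toMonoidHom.comp ρ
    have hk : σ2.ker = (OrthStemSpin.π R).ker := by
      ext g
      rw [MonoidHom.mem_ker, MonoidHom.mem_ker]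
      show eG (ρ g) = 1 ↔ _
      rw [MulEquiv.map_eq_one_iff]
      exact ⟨fun h => congrArg Subtype.val h, fun h => Subtype.ext h⟩
    have hstem2 : Cfsg.IsStemExtension σ2 := by
      refine ⟨eG.surjective.comp hρs, ?_, (OrthStemSpin.perfect R).symm ▸ le_top⟩
      rw [hk]
      exact (OrthStemSpin.sys R).central
    -- the triple cover
    haveI : Fact (Nat.Prime 3) := ⟨Nat.prime_three⟩
    obtain ⟨Γ3, _, _, σ3, hstem3, hcard3⟩ := O73Cover60.exists_cover
    obtain ⟨ePres⟩ := CosetCertO73Iso.equiv_pomega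
    have hchar : CharP F 3 := charP_of_card_eq_prime hF
    let φ : ZMod 3 ≃+* F := ZMod.ringEquiv F hF
    obtain ⟨eField⟩ := OrthRingTransfer60.nonempty_pomega φ (q := quadFormOdd 3 (ZMod 3))
      (q' := quadFormOdd 3 F) (fun v => by simp [quadFormOdd])
    let eT := ePres.trans eField
    let σ3' : ULift.{u} Γ3 →* POmega F (quadFormOdd 3 F) :=
      eT.toMonoidHom.comp (σ3.comp MulEquiv.ulift.toMonoidHom)
    have hstem3' : Cfsg.IsStemExtension σ3' := by
      have h := SchurMultiplierBasic.stem_congr hstem3 (MulEquiv.ulift : ULift.{u} Γ3 ≃* Γ3)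
      refine ⟨eT.surjective.comp h.1, ?_, ?_⟩ <;>
      · intro x hx
        have hx' : x ∈ (σ3.comp (MulEquiv.ulift : ULift.{u} Γ3 ≃* Γ3).toMonoidHom).ker :=
          eT.map_eq_one_iff.1 hx
        first | exact h.2.1 hx' | exact h.2.2 hx'
    have hcard3' : Nat.card σ3'.ker = 3 := by
      refine Eq.trans ?_ hcard3
      exact Nat.card_congr
        { toFun := fun x => ⟨x.1.down, eT.map_eq_one_iff.1 x.2⟩
          invFun := fun y => ⟨⟨y.1⟩, eT.map_eq_one_iff.2 y.2⟩
          left_inv := fun _ => rfl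
          right_inv := fun _ => rfl }
    exact fibre_product hGperf hstem2 hstem3' (by rw [hk]; exact (OrthStemSpin.ker_cases R).2) hcard3'
  · intro Δ _ _ τ hτ
    have hΔ := StemBasic.commutator_eq_top_of_stem hτ hGperf
    let κ : Δ →* orth Q := (commutator (orth Q)).subtype.comp (eG.symm.toMonoidHom.comp τ)
    have hker : κ.ker = τ.ker := by
      ext x
      rw [MonoidHom.mem_ker, MonoidHom.mem_ker]
      show ((eG.symm (τ x) : commutator (orth Q)) : orth Q) = 1 ↔ _
      rw [OneMemClass.coe_eq_one, MulEquiv.map_eq_one_iff]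
    have hr : commutator (orth Q) ≤ κ.range := fun g hg => by
      obtain ⟨x, hx⟩ := hτ.1 (eG ⟨g, hg⟩)
      exact ⟨x, by show ((eG.symm (τ x) : commutator (orth Q)) : orth Q) = g; rw [hx, eG.symm_apply_apply]⟩
    have h := O73Bound60.upper hF hd hnd (κ := κ) (hker ▸ hτ.2.1) hr hΔ
    rwa [hker] at h

/-- Exceptional Schur multiplier: over the field with 3 elements, PΩ₇ (for the form x₀² + Σ xᵢyᵢ) has Schur multiplier cyclic of order 6 (the product of cyclic groups of orders 3 and 2; here the Schur multiplier is described through stem extensions, as in the definitions). -/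
theorem result {F : Type*} [Field F] [Fintype F] (hF : Fintype.card F = 3) : Cfsg.HasCyclicSchurMultiplier (Cfsg.POmega F (Cfsg.quadFormOdd 3 F)) 6 := by
  exact main hF

end Cfsg.Agent.S2095
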