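import Cfsg.Statements.S2096
import Cfsg.Agent.Lib.OrthStemMult

set_option autoImplicit false
open Cfsg

namespace Cfsg.Agent.S2096

/-- Schur multipliers of the even-dimensional orthogonal groups of plus type and odd rank: for odd l ≥ 5 and a field F with q elements, the Schur multiplier of PΩ⁺_2l(F) (for the form Σ xᵢyᵢ) is cyclic of order gcd(4, q^l − 1); here the Schur multiplier is described through stem extensions, as in the definitions. -/
theorem result {F : Type*} [Field F] [Fintype F] {q : ℕ} (hF : Fintype.card F = q) (l : ℕ) (hl : 5 ≤ l) (hodd : Odd l) : Cfsg.HasCyclicSchurMultiplier (Cfsg.POmega F (Cfsg.quadFormPlus l F)) (Nat.gcd 4 (q ^ l - 1)) := by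
  classical
  subst hF
  have hd : Module.finrank F ((Fin l ⊕ Fin l → F) × (Fin 0 → F)) = 2 * l := by
    rw [OrthUnitaryStd.finrank_withBase_space]; simp
  have hnd := OrthUnitaryStd.nondegenerate_withBase (OrthUnitaryStd.nondegenerate_qfNil (F := F)) l
  have hsp := OrthStemSpinor.hasSpinor_withBase (OrthStemSpinor.hasSpinor_qfNil (F := F)) l
  have hq2 : 2 ≤ Fintype.card F := Fintype.one_lt_card
  have hok : OrthStemMult.Ok (OrthUnitaryQuad.withBase l (OrthUnitaryForms.qfNil F)) := Or.inl (by omega)
  rcases Nat.even_or_odd (Fintype.card F) with hev | hod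
  · have h2 : (2 : F) = 0 := OrthStemMult.two_eq_zero_of_even hev
    rw [OrthStemMult.gcd_four_of_even hev (by omega) _ (Or.inl rfl)]
    exact OrthStemMult.multiplier_even (quadFormPlus l F) (OrthUnitaryForms.eqPlus l)
      (OrthUnitaryForms.eqPlus_isometry l) h2 hnd (by omega) hok
  · have h2 : (2 : F) ≠ 0 := OrthUnitaryForms.two_ne_zero_of_odd rfl hod
    have hmem := OrthUnitaryStd.negOne_mem_plus rfl hod l
    obtain ⟨h4, h2'⟩ := OrthStemMult.gcd_four_sub hod l
    by_cases h : Fintype.card F ^ l % 4 = 1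
    · rw [h4 h]
      exact (OrthStemMult.multiplier_four (quadFormPlus l F) (OrthUnitaryForms.eqPlus l)
        (OrthUnitaryForms.eqPlus_isometry l) h2 hnd hd (by omega) hok hsp (hmem.2 h)).1 hodd
    · rw [h2' h]
      exact OrthStemMult.multiplier_two (quadFormPlus l F) (OrthUnitaryForms.eqPlus l)
        (OrthUnitaryForms.eqPlus_isometry l) h2 hnd (by omega) hok hsp (fun hh => h (hmem.1 hh))

end Cfsg.Agent.S2096
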