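import Cfsg.Statements.S2097
import Cfsg.Agent.Lib.OrthStemMult

set_option autoImplicit false
open Cfsg

namespace Cfsg.Agent.S2097

/-- Schur multipliers of the even-dimensional orthogonal groups of plus type and even rank: for even l ≥ 4 and a field F with q elements, (l, q) ≠ (4, 2), the Schur multiplier of PΩ⁺_2l(F) (for the form Σ xᵢyᵢ) is the product of two cyclic groups of order gcd(2, q^l − 1) (so trivial for q even and a four-group for q odd; here the Schur multiplier is described through stem extensions, as in the definitions). -/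
theorem result {F : Type*} [Field F] [Fintype F] {q : ℕ} (hF : Fintype.card F = q) (l : ℕ) (hl : 4 ≤ l) (heven : Even l) (hexc : ¬ (l = 4 ∧ q = 2)) : Cfsg.HasSchurMultiplier (Cfsg.POmega F (Cfsg.quadFormPlus l F)) (Multiplicative (ZMod (Nat.gcd 2 (q ^ l - 1)) × ZMod (Nat.gcd 2 (q ^ l - 1)))) := by
  classical
  subst hF
  have hd : Module.finrank F ((Fin l ⊕ Fin l → F) × (Fin 0 → F)) = 2 * l := by
    rw [OrthUnitaryStd.finrank_withBase_space]; simp
  have hnd := OrthUnitaryStd.nondegenerate_withBase (OrthUnitaryStd.nondegenerate_qfNil (F := F)) l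
  have hsp := OrthStemSpinor.hasSpinor_withBase (OrthStemSpinor.hasSpinor_qfNil (F := F)) l
  have hq2 : 2 ≤ Fintype.card F := Fintype.one_lt_card
  have hok : OrthStemMult.Ok (OrthUnitaryQuad.withBase l (OrthUnitaryForms.qfNil F)) := by
    by_cases h5 : 5 ≤ l
    · exact Or.inl (by omega)
    · have hl4 : l = 4 := by omega
      have h2c : Fintype.card F ≠ 2 := fun h => hexc ⟨hl4, h⟩
      rcases eq_or_ne (Fintype.card F) 3 with h3 | h3
      · exact Or.inr (Or.inr ⟨by omega, Or.inl h3⟩)
      · exact Or.inr (Or.inl (by omega))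
  rcases Nat.even_or_odd (Fintype.card F) with hev | hod
  · have h2 : (2 : F) = 0 := OrthStemMult.two_eq_zero_of_even hev
    rw [OrthStemMult.gcd_two_of_even hev (by omega)]
    exact OrthStemMult.multiplier_even (quadFormPlus l F) (OrthUnitaryForms.eqPlus l)
      (OrthUnitaryForms.eqPlus_isometry l) h2 hnd (by omega) hok
  · have h2 : (2 : F) ≠ 0 := OrthUnitaryForms.two_ne_zero_of_odd rfl hod
    have h : Fintype.card F ^ l % 4 = 1 := OrthStemMult.pow_even_mod_four hod heven
    rw [OrthStemMult.gcd_two_of_odd h]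
    exact (OrthStemMult.multiplier_four (quadFormPlus l F) (OrthUnitaryForms.eqPlus l)
      (OrthUnitaryForms.eqPlus_isometry l) h2 hnd hd (by omega) hok hsp
      ((OrthUnitaryStd.negOne_mem_plus rfl hod l).2 h)).2 heven

end Cfsg.Agent.S2097
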