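import Cfsg.Statements.S2099
import Cfsg.Agent.Lib.OrthStemMult

set_option autoImplicit false
open Cfsg

namespace Cfsg.Agent.S2099

/-- Schur multipliers of the even-dimensional orthogonal groups of minus type: for l ≥ 4 and a field F with q elements, the Schur multiplier of PΩ⁻_2l(F) (for the form Σ_{i<l−1} xᵢyᵢ + z₁² + a z₁z₂ + b z₂² with the binary part anisotropic) is cyclic of order gcd(4, q^l + 1); here the Schur multiplier is described through stem extensions, as in the definitions. -/
theorem result {F : Type*} [Field F] [Fintype F] {q : ℕ} (hF : Fintype.card F = q) (l : ℕ) (hl : 4 ≤ l) (a b : F) (hab : ∀ z₁ z₂ : F, z₁ ^ 2 + a * z₁ * z₂ + b * z₂ ^ 2 = 0 → z₁ = 0 ∧ z₂ = 0) : Cfsg.HasCyclicSchurMultiplier (Cfsg.POmega F (Cfsg.quadFormMinus (l - 1) F a b)) (Nat.gcd 4 (q ^ l + 1)) := by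
  classical
  subst hF
  obtain ⟨m, rfl⟩ : ∃ m, l = m + 1 := ⟨l - 1, by omega⟩
  have hd : Module.finrank F ((Fin m ⊕ Fin m → F) × (Fin 2 → F)) = 2 * (m + 1) := by
    rw [OrthUnitaryStd.finrank_withBase_space]; simp; ring
  have hnd := OrthUnitaryStd.nondegenerate_withBase (OrthUnitaryStd.nondegenerate_qfBin (F := F) hab) m
  have hq2 : 2 ≤ Fintype.card F := Fintype.one_lt_card
  have hok : OrthStemMult.Ok (OrthUnitaryQuad.withBase m (OrthUnitaryForms.qfBin a b)) := by
    by_cases h4 : 4 ≤ m
    · exact Or.inl (by omega)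
    · have hm3 : m = 3 := by omega
      subst hm3
      exact Or.inr (Or.inr ⟨by omega, Or.inr (OrthStemMult.noTot4_minus hab)⟩)
  rcases Nat.even_or_odd (Fintype.card F) with hev | hod
  · have h2 : (2 : F) = 0 := OrthStemMult.two_eq_zero_of_even hev
    rw [OrthStemMult.gcd_four_of_even hev (by omega) _ (Or.inr rfl)]
    exact OrthStemMult.multiplier_even (quadFormMinus m F a b) (OrthUnitaryForms.eqMinus m)
      (OrthUnitaryForms.eqMinus_isometry m a b) h2 hnd (by omega) hok
  · have h2 : (2 : F) ≠ 0 := OrthUnitaryForms.two_ne_zero_of_odd rfl hod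
    have hsp := OrthStemSpinor.hasSpinor_withBase (OrthStemSpinor.hasSpinor_qfBin h2 a b) m
    have hmem := OrthUnitaryStd.negOne_mem_minus rfl hod (a := a) (b := b) hab m
    obtain ⟨h4, h2'⟩ := OrthStemMult.gcd_four_add hod (m + 1)
    by_cases h : Fintype.card F ^ (m + 1) % 4 = 3
    · rw [h4 h]
      refine (OrthStemMult.multiplier_four (quadFormMinus m F a b) (OrthUnitaryForms.eqMinus m)
        (OrthUnitaryForms.eqMinus_isometry m a b) h2 hnd hd (by omega) hok hsp (hmem.2 h)).1 ?_
      rcases Nat.even_or_odd (m + 1) with he | ho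
      · have := OrthStemMult.pow_even_mod_four hod he; omega
      · exact ho
    · rw [h2' h]
      exact OrthStemMult.multiplier_two (quadFormMinus m F a b) (OrthUnitaryForms.eqMinus m)
        (OrthUnitaryForms.eqMinus_isometry m a b) h2 hnd (by omega) hok hsp (fun hh => h (hmem.1 hh))

end Cfsg.Agent.S2099
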