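import Cfsg.Statements.S2103
import Cfsg.Agent.Lib.StMultSmall
import Cfsg.Agent.Lib.StGroupTorus

set_option autoImplicit false
open Cfsg

namespace Cfsg.Agent.S2103

/-- Schur multipliers of the Chevalley groups of type F₄: over a finite field with more than 2 elements the Schur multiplier of F₄(q) is trivial (here the Schur multiplier is described through stem extensions, as in the definitions); q = 2 is exceptional. -/
theorem result {F : Type*} [Field F] [Fintype F] (hF : 3 ≤ Fintype.card F) : Cfsg.HasCyclicSchurMultiplier ↥(Cfsg.Lie.chevF4.group F) 1 := by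
  let C := ChevalleyDataF4.cert
  have hfast := ChevalleyDataF4.fast
  have hker := StGroupTorus.torus_ker_bot C F ChevalleyTorusCard.smithF4
  rcases (show 5 ≤ Fintype.card F ∨ Fintype.card F = 4 ∨ Fintype.card F = 3 by omega) with h | h | h
  · obtain ⟨c, hc, hck⟩ := StClosedSmall.exists_torsion_free (StMultSmall.big_set F h)
    have hks : ∀ k ∈ [1, 2], k ∈ [1, 2, 3] := by decide
    exact StMultSmall.group_trivial C F StGen.gen_F4
      (StMultSmall.liftsAll_big C F StGen.gen_F4 hfast StSepCases.pairs_F4 StSepCases.scal_F4 hks h)
      (StMultSmall.moved F hfast StSepCases.pairs_F4 hc fun k hk => hck k (hks k hk)) hker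
  · obtain ⟨-, c, hc, hc2⟩ := StMultSmall.four_data F h
    refine StMultSmall.group_trivial C F StGen.gen_F4
      (StMultSmall.liftsAll_four C F StGen.gen_F4 hfast StSepCases.pairs_F4 StSepCases.self_F4 h)
      (StMultSmall.moved F hfast StSepCases.pairs_F4 hc fun k hk => ?_) hker
    simp only [List.mem_cons, List.not_mem_nil, or_false] at hk
    rcases hk with rfl | rfl
    · exact fun e => hc2 (by rw [pow_one] at e; rw [e, one_pow])
    · exact hc2
  · exact StMultSmall.group_trivial C F StGen.gen_F4
      (StMultSmall.liftsAll_three C F StGen.gen_F4 hfast StThree.three_F4 h)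
      (StMultSmall.moved_three F hfast StThree.three_F4 (StMultSmall.three_data F h).2.1) hker

end Cfsg.Agent.S2103
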