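import Cfsg.Statements.S2104
import Cfsg.Agent.Lib.ChevF4Mult14Lower
import Cfsg.Agent.Lib.ChevF4Mult14Upper
import Cfsg.Agent.Lib.ChevalleyPerfect

set_option autoImplicit false
open Cfsg

namespace Cfsg.Agent.S2104

/-- Exceptional Schur multiplier: over the field with 2 elements the Chevalley group of type F₄ has Schur multiplier cyclic of order 2 (here the Schur multiplier is described through stem extensions, as in the definitions). -/
theorem result {F : Type*} [Field F] [Fintype F] (hF : Fintype.card F = 2) : Cfsg.HasCyclicSchurMultiplier ↥(Cfsg.Lie.chevF4.group F) 2 := by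
  have h2 : Nat.card (Multiplicative (ZMod 2)) = 2 := by simp
  haveI : Fact (Nat.Prime 2) := ⟨Nat.prime_two⟩
  obtain ⟨Γ, _, _, σ, Z, hs, hc, hker, hZ, hns⟩ := ChevF4Mult14Lower.exists_cover F hF
  have hstem := TransferExt14.stem_of_nonsplit hs hc hker hns
    (ChevalleyPerfect.perfect ChevalleyDataF4.cert ChevalleyPerfect.reachF4)
  refine ⟨⟨Γ, inferInstance, inferInstance, σ, hstem, ?_⟩, fun Δ _ _ τ hτ => ?_⟩
  · have hle := ChevF4Mult14Upper.card_ker hF hstem
    haveI : Nontrivial σ.ker := ⟨⟨⟨Z, (hker Z).2 (Or.inr rfl)⟩, 1, fun e => hZ (congrArg Subtype.val e)⟩⟩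
    have hlt := Finite.one_lt_card (α := σ.ker)
    have hcard : Nat.card σ.ker = 2 := by omega
    haveI := isCyclic_of_prime_card hcard
    exact ⟨mulEquivOfCyclicCardEq (hcard.trans h2.symm)⟩
  · have hle := ChevF4Mult14Upper.card_ker hF hτ
    have hpos : 0 < Nat.card τ.ker := Nat.card_pos
    rcases (show Nat.card τ.ker = 1 ∨ Nat.card τ.ker = 2 by omega) with h | h
    · haveI := (Nat.card_eq_one_iff_unique.1 h).1
      exact ⟨1, fun x => ⟨1, Subsingleton.elim _ _⟩⟩
    · haveI := isCyclic_of_prime_card h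
      exact ⟨(mulEquivOfCyclicCardEq (h2.trans h.symm)).toMonoidHom, (mulEquivOfCyclicCardEq (h2.trans h.symm)).surjective⟩

end Cfsg.Agent.S2104
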