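import Cfsg.Statements.S2105
import Cfsg.Agent.Lib.StEmbedE8

set_option autoImplicit false
open Cfsg

namespace Cfsg.Agent.S2105

/-- Schur multipliers of the (adjoint, simple) Chevalley groups of type E₆: over a field with q elements the Schur multiplier is cyclic of order gcd(3, q − 1) (here the Schur multiplier is described through stem extensions, as in the definitions). -/
theorem result {F : Type*} [Field F] [Fintype F] {q : ℕ} (hF : Fintype.card F = q) : Cfsg.HasCyclicSchurMultiplier ↥(Cfsg.Lie.chevE6.group F) (Nat.gcd 3 (q - 1)) := by
  have hc := StEmbedE8.card_center_E6 F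
  refine StMultiplier.group_multiplier ChevalleyDataE6.cert F StGen.gen_E6 (StDataADE.data_E6 _) StDataADE.wit_E6
    (by rw [hc, hF]) ?_
  rcases (Nat.dvd_prime Nat.prime_three).1 (Nat.gcd_dvd_left 3 (Fintype.card F - 1)) with e | e <;> rw [e] at hc
  · have := (Nat.card_eq_one_iff_unique.1 hc).1
    infer_instance
  · haveI := Fact.mk Nat.prime_three
    exact isCyclic_of_prime_card hc

end Cfsg.Agent.S2105
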