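import Cfsg.Statements.S2107
import Cfsg.Agent.Lib.StMultiplier

set_option autoImplicit false
open Cfsg

namespace Cfsg.Agent.S2107

/-- Schur multipliers of the Chevalley groups of type E₈: over every finite field the Schur multiplier of E₈(q) is trivial (here the Schur multiplier is described through stem extensions, as in the definitions). -/
theorem result {F : Type*} [Field F] [Fintype F] : Cfsg.HasCyclicSchurMultiplier ↥(Cfsg.Lie.chevE8.group F) 1 := by
  let C := ChevalleyDataE8.cert
  have hG := StGen.gen_E8
  have hb : Subgroup.center (Cfsg.Lie.chevE8.SteinbergGroup F) = ⊥ := by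
    rw [← StBruhat.ker_eq_center (StGroup.sysSt C F) hG]
    exact StTorus.ker_eq_bot (StGroup.sysSt C F) hG (StGroupTorus.hMul_st C F)
      (StGroupTorus.torus_ker_bot C F ChevalleyTorusCard.smithE8)
  refine StMultiplier.group_multiplier C F hG (StDataADE.data_E8 C) StDataADE.wit_E8 ?_ ?_
  · rw [hb, Subgroup.card_bot]
  · rw [hb]; infer_instance

end Cfsg.Agent.S2107
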