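import Cfsg.Agent.Lib.E6StemU67
import Cfsg.Agent.Lib.E6StemLower67
import Cfsg.Statements.S2108

/-!
The Schur multiplier of `²E₆(q)`, `q > 2`, is cyclic of order `gcd(3, q + 1)`.
-/

set_option autoImplicit false
set_option linter.unusedSectionVars false
set_option maxRecDepth 20000

namespace Cfsg.Agent.S2108

open Cfsg Cfsg.Lie Cfsg.Agent

universe u

theorem ker_dvd {K : Type u} [Field K] [Fintype K] {q : ℕ} (f : K →+* K) (hf : ∀ t, f t = t ^ q)
    (hK : Fintype.card K = q ^ 2) (hq : 3 ≤ q) {Γ : Type*} [Group Γ] [Finite Γ]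
    {σ : Γ →* ↥(twistedE6 K q)} (hσ : Cfsg.IsStemExtension σ) :
    Nat.card σ.ker ∣ Nat.gcd 3 (q + 1) := by
  obtain ⟨p, hp⟩ := CharP.exists K
  haveI := hp
  obtain ⟨n, hpp, -⟩ := FiniteField.card K p
  haveI : Fact p.Prime := ⟨hpp⟩
  have hU := E6StemU67.kerFree_U f hf hK hσ.1 hσ.2.1 hq
  obtain ⟨P, hP⟩ := TwistAutRigid.exists_sylow (TwistedE6.classes f hf hK) p
  have hidx : ¬ p ∣ (TwistAutRigid.U1 (twistedE6 K q)).index := hP ▸ P.not_dvd_index
  have hZ : Nat.Coprime (Nat.card σ.ker) p := by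
    rw [Nat.coprime_comm, hpp.coprime_iff_not_dvd]
    intro hd
    obtain ⟨⟨z, hz⟩, ho⟩ := exists_prime_orderOf_dvd_card' p hd
    rw [← Subgroup.orderOf_coe] at ho
    have h1 := StemBasic.eq_one_of_kerFree hσ hU hz (by rw [ho]; exact hpp.coprime_iff_not_dvd.2 hidx)
    simp only at h1 ho
    rw [h1, orderOf_one] at ho
    exact hpp.ne_one ho.symm
  haveI : CharP (TwistAutE6.L0 f) p :=
    RingHom.charP (TwistAutE6.L0 f).subtype Subtype.coe_injective p
  letI : Fintype (TwistAutE6.L0 f) := Fintype.ofFinite _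
  have kL : ∀ J, StemBasic.KerFree σ (E6StemClasses67.LG f hf J) := by
    rintro (j | j)
    · exact StemSL2Kill9.kerFree_range p hσ.1 hσ.2.1 hZ (E6StemClasses67.cls_s f hf hK j).injective
    · exact StemSL2Kill9.kerFree_range p hσ.1 hσ.2.1 hZ (E6StemClasses67.cls_p f hf hK j).injective
  have h := StemTwistNB67.card_ker_dvd (E6StemClasses67.rankN f hf hK (p := p)) hσ hZ kL
  rw [E6StemClasses67.card_prod f hf hK] at h
  have hH : Nat.card ↥(E6StemClasses67.H1 K q) = Nat.card ↥(chevE6.diagonalSubgroup K ⊓ twistedE6 K q) := by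
    refine Nat.card_congr ?_
    exact
      { toFun := fun x => ⟨x.1.1, x.2, x.1.2⟩
        invFun := fun x => ⟨⟨x.1, x.2.2⟩, x.2.1⟩
        left_inv := fun _ => rfl
        right_inv := fun _ => rfl }
  have hc := TwistedE6.card_H1 f hf hK
  rw [hH] at h
  have e : (q - 1) ^ 2 * (q ^ 2 - 1) ^ 2 = (q - 1) ^ 4 * (q + 1) ^ 2 := by
    obtain ⟨k, rfl⟩ : ∃ k, q = k + 1 := ⟨q - 1, by omega⟩
    have : (k + 1) ^ 2 - 1 = (k + 1 + 1) * k := by
      have : (k + 1) ^ 2 = (k + 1 + 1) * k + 1 := by ring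
      omega
    rw [this, Nat.add_sub_cancel]
    ring
  rw [e, ← hc] at h
  exact Nat.dvd_of_mul_dvd_mul_right Nat.card_pos h

theorem result {K : Type*} [Field K] [Fintype K] {q : ℕ} (hq : IsPrimePow q) (hK : Fintype.card K = q ^ 2) (h2 : q ≠ 2) : Cfsg.HasCyclicSchurMultiplier ↥(Cfsg.Lie.twistedE6 K q) (Nat.gcd 3 (q + 1)) := by
  obtain ⟨f, hf⟩ : ∃ f : K →+* K, ∀ t, f t = t ^ q := TwistedField.exists_frob hK two_ne_zero
  have hq3 : 3 ≤ q := by have := hq.one_lt; omega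
  refine ⟨E6StemLower67.exists_cover f hf hK (TwistedE6.perfect f hf hK), ?_⟩
  intro Γ _ _ σ hσ
  have hd := ker_dvd f hf hK hq3 hσ
  have h31 : Nat.gcd 3 (q + 1) = 1 ∨ Nat.gcd 3 (q + 1) = 3 :=
    (Nat.dvd_prime Nat.prime_three).1 (Nat.gcd_dvd_left 3 (q + 1))
  have hk : Nat.card σ.ker = 1 ∨ Nat.card σ.ker = Nat.gcd 3 (q + 1) := by
    rcases h31 with h | h <;> rw [h] at hd ⊢
    · exact Or.inl (Nat.dvd_one.1 hd)
    · exact (Nat.dvd_prime Nat.prime_three).1 hd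
  rcases hk with h | h
  · haveI := (Nat.card_eq_one_iff_unique.1 h).1
    exact ⟨1, fun x => ⟨1, Subsingleton.elim _ _⟩⟩
  · rcases h31 with h' | h'
    · haveI := (Nat.card_eq_one_iff_unique.1 (h.trans h')).1
      exact ⟨1, fun x => ⟨1, Subsingleton.elim _ _⟩⟩
    · haveI : Fact (Nat.Prime 3) := ⟨Nat.prime_three⟩
      haveI : IsCyclic σ.ker := isCyclic_of_prime_card (h.trans h')
      let e : Multiplicative (ZMod (Nat.gcd 3 (q + 1))) ≃* σ.ker := mulEquivOfCyclicCardEq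
        (by rw [h, Nat.card_congr Multiplicative.toAdd, Nat.card_zmod])
      exact ⟨e.toMonoidHom, e.surjective⟩

end Cfsg.Agent.S2108
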