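import Cfsg.Statements.S2112
import Cfsg.Agent.Lib.StemSzEightCover50
import Cfsg.Agent.Lib.StemSzEightUpper50

set_option autoImplicit false
open Cfsg
open Cfsg.Agent

namespace Cfsg.Agent.S2112

/-- Exceptional Schur multiplier: the Suzuki group Sz(8), built over the field with 8 elements using the map x ↦ x⁴, has Schur multiplier a four-group, the product of two cyclic groups of order 2 (here the Schur multiplier is described through stem extensions, as in the definitions). -/
theorem result {F : Type*} [Field F] [Fintype F] (hF : Fintype.card F = 8) : Cfsg.HasSchurMultiplier ↥(Cfsg.Lie.Sz F 4) (Multiplicative (ZMod 2 × ZMod 2)) := by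
  have : SuzukiGroupBasic.Param F 1 := SuzukiGroupBasic.Param.mk' le_rfl (by rw [hF]; norm_num)
  have hcard : Fintype.card SuzukiEightPG50.F8 = Fintype.card F := by
    rw [SuzukiEightPG50.card_F8, hF]; norm_num
  let e : SuzukiEightPG50.F8 ≃+* F := FiniteField.ringEquivOfCardEq hcard
  let i : ↥(Cfsg.Lie.Sz F 4) ≃* ↥(Cfsg.Sz F 1) := SuzukiGroupLie.lieEquiv (F := F) (m := 1)
  refine ⟨?_, fun Γ _ _ σ hσ => ?_⟩
  · obtain ⟨Γ, _, _, σ, hσ, ⟨g⟩⟩ := StemSzEightCover50.exists_cover e
    have hker : (i.symm.toMonoidHom.comp σ).ker = σ.ker := by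
      ext x; simp [MonoidHom.mem_ker]
    exact ⟨Γ, inferInstance, inferInstance, i.symm.toMonoidHom.comp σ,
      ⟨i.symm.surjective.comp hσ.1, hker.symm ▸ hσ.2.1, hker.symm ▸ hσ.2.2⟩,
      ⟨(MulEquiv.subgroupCongr hker).trans g⟩⟩
  · have hker : (i.toMonoidHom.comp σ).ker = σ.ker := by
      ext x; simp [MonoidHom.mem_ker]
    have h : Cfsg.IsStemExtension (i.toMonoidHom.comp σ) :=
      ⟨i.surjective.comp hσ.1, hker.symm ▸ hσ.2.1, hker.symm ▸ hσ.2.2⟩
    obtain ⟨π, hπ⟩ := StemSzEightUpper50.upper e h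
    exact ⟨(MulEquiv.subgroupCongr hker).toMonoidHom.comp π,
      (MulEquiv.subgroupCongr hker).surjective.comp hπ⟩

end Cfsg.Agent.S2112
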