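import Cfsg.Statements.S2122
import Cfsg.Agent.Lib.ChevExcGraphReal
import Cfsg.Agent.Lib.ChevAutTriv

set_option autoImplicit false
open Cfsg

namespace Cfsg.Agent.S2122

/-- Outer automorphisms of the Chevalley groups of type F₄: over a field with q = p^f (p prime) elements, the outer automorphism group of F₄(q) has order gcd(2, p) · f (field automorphisms, and in characteristic 2 also the exceptional graph automorphism). -/
theorem result {F : Type*} [Field F] [Fintype F] (p f : ℕ) [Fact p.Prime] [CharP F p] (hF : Fintype.card F = p ^ f) : Nat.card (Cfsg.Out ↥(Cfsg.Lie.chevF4.group F)) = Nat.gcd 2 p * f := by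
  obtain ⟨X⟩ := Cfsg.Agent.ChevAutOut.Ctx.exists_ctx (D := Cfsg.Lie.chevF4) (F := F) (by simp)
  rw [Cfsg.Agent.ChevAutSyms.card_out_eq X hF Cfsg.Agent.ChevalleyTorusCard.smithF4]
  simp only [pow_zero, one_mul]
  rcases eq_or_ne p 2 with rfl | h2
  · haveI : CharP F Cfsg.Agent.ChevExcGraphData.excF4.p := by assumption
    rw [Cfsg.Agent.ChevAutSyms.card_range_eq_two X Cfsg.Agent.ChevExcGraphReal.swF4_facts.1
      (Cfsg.Agent.ChevExcGraphReal.mem_range Cfsg.Agent.ChevExcGraphData.excF4 (Or.inl rfl)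
        Cfsg.Agent.ChevExcGraphReal.onF4 Cfsg.Agent.ChevExcGraphReal.swF4_facts.2 X)
      Cfsg.Agent.ChevAutSyms.syms_F4]
    norm_num
  · rw [Cfsg.Agent.ChevAutTriv.trivial_F4 X p h2, one_mul,
      ((Nat.coprime_primes Nat.prime_two (Fact.out : p.Prime)).2 (Ne.symm h2)).gcd_eq_one, one_mul]

end Cfsg.Agent.S2122
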