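import Cfsg.Statements.S2127
import Cfsg.Agent.Lib.TwistAutG2
import Cfsg.Agent.Lib.ReeTorus17

set_option autoImplicit false
open Cfsg

namespace Cfsg.Agent.S2127

/-- Outer automorphisms of the small Ree groups: for q = 3^(2m+1) with m ≥ 1 the outer automorphism group of ²G₂(q) has order 2m + 1 (field automorphisms only). -/
theorem result {K : Type*} [Field K] [Fintype K] {m : ℕ} (hm : 1 ≤ m) (hK : Fintype.card K = 3 ^ (2 * m + 1)) : Nat.card (Cfsg.Out ↥(Cfsg.Lie.twistedG2 K (3 ^ m))) = 2 * m + 1 := by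
  classical
  have : Fact (Nat.Prime 3) := ⟨Nat.prime_three⟩
  have : CharP K 3 := charP_of_card_eq_prime_pow hK
  obtain ⟨X, hX⟩ := ReeInstance17.exists_ctx hK
  rw [← hX]
  refine TwistAutG2.card_out X (fun c => ReeTorus17.tor_mem X c) ?_ hK
  by_contra hall
  push Not at hall
  obtain ⟨g, hg⟩ := IsCyclic.exists_generator (α := Kˣ)
  have ho : orderOf g = 3 ^ (2 * m + 1) - 1 := by
    rw [orderOf_eq_card_of_forall_mem_zpowers hg, Nat.card_eq_fintype_card, Fintype.card_units, hK]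
  have h1 := hall (g : K)
  rw [X.spec, hX, ← pow_mul, ← pow_succ] at h1
  have hpos : 0 < 3 ^ (m + 1) - 1 := by
    have := Nat.one_lt_pow (n := m + 1) (by omega) (show 1 < 3 by omega)
    omega
  have h2 : g ^ (3 ^ (m + 1) - 1) = 1 := by
    apply mul_right_cancel (b := g)
    rw [one_mul, ← pow_succ, Nat.sub_add_cancel (Nat.one_le_pow _ _ (by omega))]
    exact Units.ext (by simpa using h1)
  have h3 := Nat.le_of_dvd hpos (ho ▸ orderOf_dvd_of_pow_eq_one h2)
  have h4 : 3 ^ (m + 1) < 3 ^ (2 * m + 1) := Nat.pow_lt_pow_right (by omega) (by omega)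
  have h5 : 1 ≤ 3 ^ (m + 1) := Nat.one_le_pow _ _ (by omega)
  omega

end Cfsg.Agent.S2127
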