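import Cfsg.Statements.S2131
import Mathlib
import Cfsg.Agent.Lib.J1Facts
-- import your own Cfsg.Agent.* helpers here

set_option autoImplicit false
open Cfsg

namespace Cfsg.Agent.S2131

open Cfsg.Agent.J1Code Cfsg.Agent.J1Data Cfsg.Agent.J1Cert Cfsg.Agent.J1Basic

attribute [local irreducible] getT allB M encM oneC xC yC wordC powC sC repC uC

/-- images of the generators -/
def tgt (j : ℕ) : Multiplicative (ZMod 2) × Equiv.Perm (Fin 5) :=
  if j = 0 then (Multiplicative.ofAdd 1, 1)
  else if j = 1 then (1, Equiv.swap 0 1 * Equiv.swap 2 3)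
  else (1, Equiv.swap 0 2 * Equiv.swap 2 4)

/-- image of the element with index `i`, computed along the spanning tree -/
def fv : ℕ → ℕ → Multiplicative (ZMod 2) × Equiv.Perm (Fin 5)
  | 0, _ => 1
  | f + 1, i => if i = 0 then 1 else fv f (gt sParT i) * tgt (gt sParG i)

set_option maxRecDepth 100000 in
theorem fv_check : ∀ i : Fin 120,
    (∀ j : Fin 3, fv 30 (gt sMulT (3 * i + j)) = fv 30 i * tgt j) ∧
      Equiv.Perm.sign (fv 30 i).2 = 1 ∧ (fv 30 i = 1 → i = 0) := by decide +kernel

theorem fv_mul (i k l : Fin 120) (h : sEl i * sEl k = sEl l) : fv 30 l = fv 30 i * fv 30 k := by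
  obtain ⟨n, hn⟩ : ∃ n : ℕ, (k : ℕ) = n := ⟨_, rfl⟩
  induction n using Nat.strong_induction_on generalizing k l with
  | _ n ih =>
    by_cases h0 : (k : ℕ) = 0
    · rw [show k = 0 from Fin.ext h0, sEl_zero, mul_one] at h
      rw [show k = 0 from Fin.ext h0, sEl_injective h]
      simp [fv]
    · obtain ⟨p, j, hp, hj, hlt, he⟩ := tree_step k h0
      obtain ⟨a, ha⟩ := s_closed i p
      obtain ⟨b, hb, hab⟩ := s_mul_gen a j
      have hlb : l = b := sEl_injective (by rw [← h, he, ← mul_assoc, ha, hab])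
      obtain ⟨b', hb', hab'⟩ := s_mul_gen p j
      have hk : k = b' := sEl_injective (by rw [he, hab'])
      rw [hlb, hk, hb, hb', (fv_check a).1 j, (fv_check p).1 j, ih p (hn ▸ hlt) p a ha rfl, mul_assoc]

theorem t_order : orderOf t = 2 := by
  refine orderOf_eq_prime (by rw [pow_two]; exact t_sq) ?_
  intro h
  have h2 := code_t
  rw [h, code_one'] at h2
  have : (oneC : ℕ) ≠ tCode := by decide +kernel
  exact this h2

/-- The Janko group J₁ (the group generated by two explicit 7 × 7 matrices over the integers modulo 11) has an involution whose centraliser is isomorphic to the direct product of a group of order 2 with the alternating group of degree 5. -/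
theorem result : ∃ t : ↥Cfsg.Spor.J1, orderOf t = 2 ∧ Nonempty (↥(Subgroup.centralizer ({t} : Set ↥Cfsg.Spor.J1)) ≃* Multiplicative (ZMod 2) × ↥(alternatingGroup (Fin 5))) := by
  refine ⟨t, t_order, ?_⟩
  have hmem : ∀ g : Subgroup.centralizer ({t} : Set Cfsg.Spor.J1), ∃ i, sEl i = (g : Cfsg.Spor.J1) := fun g =>
    (mem_centralizer_t _).1 (Subgroup.mem_centralizer_singleton_iff.1 g.2)
  choose idx hidx using hmem
  let f : Subgroup.centralizer ({t} : Set Cfsg.Spor.J1) →* Multiplicative (ZMod 2) × ↥(alternatingGroup (Fin 5)) :=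
    MonoidHom.mk' (fun g => ((fv 30 (idx g)).1, ⟨(fv 30 (idx g)).2, Equiv.Perm.mem_alternatingGroup.2 (fv_check (idx g)).2.1⟩))
      (fun a b => by
        have h : fv 30 (idx (a * b)) = fv 30 (idx a) * fv 30 (idx b) :=
          fv_mul _ _ _ (by rw [hidx, hidx, hidx]; rfl)
        apply Prod.ext
        · simp [h]
        · apply Subtype.ext; simp [h])
  have hinj : Function.Injective f := by
    rw [injective_iff_map_eq_one]
    intro g hg
    have h1 : fv 30 (idx g) = 1 :=
      Prod.ext (congrArg Prod.fst hg :) (congrArg (fun x => ((Prod.snd x : ↥(alternatingGroup (Fin 5))) : Equiv.Perm (Fin 5))) hg :)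
    apply Subtype.ext
    rw [← hidx g, (fv_check (idx g)).2.2 h1, sEl_zero]
    rfl
  have hbij : Function.Bijective f := by
    rw [Nat.bijective_iff_injective_and_card]
    refine ⟨hinj, ?_⟩
    have e : Fin 120 ≃ Subgroup.centralizer ({t} : Set Cfsg.Spor.J1) :=
      Equiv.ofBijective (fun i => ⟨sEl i, Subgroup.mem_centralizer_singleton_iff.2 (s_commute i)⟩)
        ⟨fun i j h => sEl_injective (congrArg Subtype.val h), fun g => ⟨idx g, Subtype.ext (hidx g)⟩⟩
    rw [← Nat.card_congr e, Nat.card_prod, Nat.card_fin,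
      show Nat.card (Multiplicative (ZMod 2)) = 2 by simp, nat_card_alternatingGroup, Nat.card_fin]
    rfl
  exact ⟨MulEquiv.ofBijective f hbij⟩

end Cfsg.Agent.S2131
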