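import Cfsg.Statements.S2133
import Cfsg.Agent.Lib.GolayOctadStab
import Cfsg.Agent.Lib.LargeExtraspecialAffineInst

set_option autoImplicit false
open Cfsg

namespace Cfsg.Agent.S2133

/-- The Mathieu group M₂₄ (the automorphism group of the length-24 binary code) has an involution whose centraliser is isomorphic to the centraliser of a transvection in SL(5, 2) (a group of shape 2^{1+6}:GL(3, 2)). -/
theorem result (s : Matrix.SpecialLinearGroup (Fin 5) (ZMod 2)) (hs : (s : Matrix (Fin 5) (Fin 5) (ZMod 2)) = Matrix.transvection 0 1 1) : ∃ z : ↥Cfsg.M24, orderOf z = 2 ∧ Nonempty (↥(Subgroup.centralizer ({z} : Set ↥Cfsg.M24)) ≃* ↥(Subgroup.centralizer ({s} : Set (Matrix.SpecialLinearGroup (Fin 5) (ZMod 2))))) := by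
  classical
  have ho := GolayOctadStab.O0_mem
  obtain ⟨z, hz, hz1⟩ : ∃ z ∈ GolayOctadStab.pfix GolayOctadStab.O0, z ≠ 1 := by
    by_contra h
    push Not at h
    have := GolayOctadStab.card_pfix_O0
    rw [(Subgroup.eq_bot_iff_forall _).2 h, Subgroup.card_bot] at this
    omega
  obtain ⟨φ, hφ, -, hrange, -⟩ := GolayOctadStab.exists_embedding ho hz hz1
  refine ⟨z, orderOf_eq_prime (by rw [sq]; exact GolayOctadStab.pfix_sq ho hz) hz1, ⟨?_⟩⟩
  exact ((MulEquiv.subgroupCongr hrange).symm.trans (MonoidHom.ofInjective hφ).symm).trans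
    ((MonoidHom.ofInjective (LargeExtraspecialAffine.slEmb_inj (n := 3))).trans
      (MulEquiv.subgroupCongr (LargeExtraspecialAffine.range_slEmb hs)))

end Cfsg.Agent.S2133
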