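import Cfsg.Statements.S2136
import Cfsg.Agent.Lib.LeechCo2InvolutionCent
import Cfsg.Agent.Lib.HallCore
import Cfsg.Agent.Lib.ExtraspecialTransfer

set_option autoImplicit false
open Cfsg
open Cfsg.Agent.GolayBasic Cfsg.Agent.LeechBasic Cfsg.Agent.LeechAut Cfsg.Agent.LeechCo2Core Cfsg.Agent.LeechCo2Cent

namespace Cfsg.Agent.S2136

theorem simple_Sp : IsSimpleGroup (Matrix.symplecticGroup (Fin 3) (ZMod 2)) := by
  haveI := SymplecticSimple.psp_simple (F := ZMod 2) 3 (by norm_num) (by intro h; omega)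
  have hz : Subgroup.center (Matrix.symplecticGroup (Fin 3) (ZMod 2)) = ⊥ :=
    Subgroup.eq_bot_of_card_eq _ (by rw [SymplecticSimple.card_center (q := 2) (ZMod.card 2) (by norm_num)]; rfl)
  exact (((QuotientGroup.quotientMulEquivOfEq hz).trans QuotientGroup.quotientBot).symm).isSimpleGroup

theorem pCore_eq {G S : Type} [Group G] [Finite G] [Group S] (hS : IsSimpleGroup S) (hcard : Nat.card S = 1451520)
    (N : Subgroup G) [N.Normal] (hN : IsPGroup 2 N) (e : G ⧸ N ≃* S) : Cfsg.pCore 2 G = N := by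
  haveI : Fact (Nat.Prime 2) := ⟨Nat.prime_two⟩
  refine le_antisymm ?_ (HallCore.le_pCore hN)
  haveI hn : (Cfsg.pCore 2 G).Normal := Subgroup.sSup_normal _ (fun _ h => h.1)
  let f : G →* S := e.toMonoidHom.comp (QuotientGroup.mk' N)
  have hf : Function.Surjective f := e.surjective.comp (QuotientGroup.mk'_surjective N)
  have h2 : IsPGroup 2 ((Cfsg.pCore 2 G).map f) := (HallCore.isPGroup_pCore 2 G).map f
  rcases hS.eq_bot_or_eq_top_of_normal _ (hn.map f hf) with h | h
  · intro x hx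
    have : f x = 1 := Subgroup.mem_bot.mp (h ▸ Subgroup.mem_map_of_mem f hx)
    rw [← QuotientGroup.eq_one_iff]
    exact e.map_eq_one_iff.mp this
  · haveI : Finite S := Finite.of_surjective f hf
    rw [h] at h2
    obtain ⟨k, hk⟩ := IsPGroup.iff_card.mp h2
    rw [Nat.card_congr Subgroup.topEquiv.toEquiv, hcard] at hk
    have h3 : 3 ∣ 2 ^ k := hk ▸ (by norm_num)
    have := Nat.Prime.dvd_of_dvd_pow Nat.prime_three h3
    omega

/-- The Conway group Co₂ (the stabiliser of a minimal vector of the rank-24 lattice) has an involution whose centraliser C has largest normal 2-subgroup extraspecial of order 2^9 with quotient C / O₂(C) isomorphic to the symplectic group Sp(6, 2) (shape 2^{1+8}Sp(6, 2)). -/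
theorem result : ∃ t : ↥Cfsg.Spor.Co2, orderOf t = 2 ∧ Cfsg.IsExtraspecial 2 (Cfsg.pCore 2 ↥(Subgroup.centralizer ({t} : Set ↥Cfsg.Spor.Co2))) ∧ Nat.card (Cfsg.pCore 2 ↥(Subgroup.centralizer ({t} : Set ↥Cfsg.Spor.Co2))) = 2 ^ 9 ∧ Nonempty (↥(Subgroup.centralizer ({t} : Set ↥Cfsg.Spor.Co2)) ⧸ Cfsg.pCore 2 ↥(Subgroup.centralizer ({t} : Set ↥Cfsg.Spor.Co2)) ≃* Matrix.symplecticGroup (Fin 3) (ZMod 2)) := by
  have hU : tElt • Spor.leechU = Spor.leechU := (mem_cent.mp (core_le_cent tElt_mem)).1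
  let e₀ : ↥(MulAction.stabilizer Co0 Spor.leechU) ≃* ↥Spor.Co2 := LeechCertOrders.infStabEquiv Spor.leechU
  let t : ↥Spor.Co2 := e₀ ⟨tElt, MulAction.mem_stabilizer_iff.mpr hU⟩
  have hes : ∀ g : ↥(MulAction.stabilizer Co0 Spor.leechU), e₀ g ∈ Subgroup.centralizer ({t} : Set ↥Spor.Co2) ↔
      (g : Co0) ∈ cent := fun g => by
    rw [Subgroup.mem_centralizer_singleton_iff, show t = e₀ ⟨tElt, MulAction.mem_stabilizer_iff.mpr hU⟩ from rfl,
      mem_cent]
    constructor
    · intro h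
      have h' : e₀ (g * ⟨tElt, MulAction.mem_stabilizer_iff.mpr hU⟩) =
          e₀ (⟨tElt, MulAction.mem_stabilizer_iff.mpr hU⟩ * g) := by rw [map_mul, map_mul]; exact h
      exact ⟨MulAction.mem_stabilizer_iff.mp g.2, (congrArg Subtype.val (e₀.injective h')).symm⟩
    · rintro ⟨-, h⟩
      have h' : g * ⟨tElt, MulAction.mem_stabilizer_iff.mpr hU⟩ =
          ⟨tElt, MulAction.mem_stabilizer_iff.mpr hU⟩ * g := Subtype.ext h.symm
      exact (map_mul e₀ _ _).symm.trans ((congrArg e₀ h').trans (map_mul e₀ _ _))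
  let e : ↥cent ≃* ↥(Subgroup.centralizer ({t} : Set ↥Spor.Co2)) :=
    { toFun := fun g => ⟨e₀ ⟨g.1, MulAction.mem_stabilizer_iff.mpr (mem_cent.mp g.2).1⟩, (hes _).mpr g.2⟩
      invFun := fun g => ⟨(e₀.symm g.1).1, (hes (e₀.symm g.1)).mp (by rw [MulEquiv.apply_symm_apply]; exact g.2)⟩
      left_inv := fun g => by apply Subtype.ext; simp
      right_inv := fun g => by apply Subtype.ext; simp
      map_mul' := fun a b => Subtype.ext (map_mul e₀ ⟨a.1, _⟩ ⟨b.1, _⟩) }
  let ψ := vecPerm.comp e.symm.toMonoidHom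
  have hrange : ψ.range = vecPerm.range := by
    rw [MonoidHom.range_comp, MonoidHom.range_eq_top.mpr e.symm.surjective, MonoidHom.range_eq_map]
  obtain ⟨iso⟩ := SympPermImage.exists_iso ψ (fun g u v => vecPerm_form _ u v) (by rw [hrange]; exact le_range)
  let eK : ↥ψ.ker ≃* ↥core :=
    { toFun := fun g => ⟨(e.symm g.1).1, by
        have h : e.symm g.1 ∈ vecPerm.ker := g.2
        rw [ker_eq, Subgroup.mem_subgroupOf] at h
        exact h⟩
      invFun := fun g => ⟨e ⟨g.1, core_le_cent g.2⟩, by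
        show e.symm (e ⟨g.1, core_le_cent g.2⟩) ∈ vecPerm.ker
        rw [MulEquiv.symm_apply_apply, ker_eq, Subgroup.mem_subgroupOf]
        exact g.2⟩
      left_inv := fun g => Subtype.ext (e.apply_symm_apply g.1)
      right_inv := fun g => by apply Subtype.ext; simp
      map_mul' := fun a b => by apply Subtype.ext; simp }
  haveI : Finite ↥Spor.Co2 := Nat.finite_of_card_ne_zero (by rw [LeechCertOrders.card_Co2]; norm_num)
  have hN2 : IsPGroup 2 ψ.ker := IsPGroup.of_card (n := 9) (by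
    rw [Nat.card_congr eK.toEquiv, card_core]; rfl)
  have hp := pCore_eq simple_Sp card_Sp ψ.ker hN2 iso
  refine ⟨t, ?_, ?_, ?_, ?_⟩
  · rw [show t = e₀ ⟨tElt, MulAction.mem_stabilizer_iff.mpr hU⟩ from rfl, MulEquiv.orderOf_eq, ← Subgroup.orderOf_coe]
    haveI : Fact (Nat.Prime 2) := ⟨Nat.prime_two⟩
    exact orderOf_eq_prime (by rw [sq]; exact LeechStab.signElt_sq _) tElt_ne_one
  · rw [hp]
    exact Cfsg.Agent.ExtraspecialTransfer.of_mulEquiv eK.symm isExtraspecial_core
  · rw [hp, Nat.card_congr eK.toEquiv, card_core]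
    rfl
  · exact ⟨(QuotientGroup.quotientMulEquivOfEq hp).trans iso⟩

end Cfsg.Agent.S2136
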