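import Cfsg.Statements.S2140
import Cfsg.Agent.Lib.MinIndexSL

set_option autoImplicit false
open Cfsg

namespace Cfsg.Agent.S2140

open Cfsg.Agent

/-- Minimal index of a proper subgroup of the linear groups: for n ≥ 3 and a field F with q elements, (n, q) ≠ (4, 2), every proper subgroup of PSL_n(F) has index at least (q^n − 1)/(q − 1), and some subgroup has exactly that index (the stabiliser of a point of the projective space). -/
theorem result {F : Type*} [Field F] [Fintype F] {q : ℕ} (hF : Fintype.card F = q) (n : ℕ) (hn : 3 ≤ n) (hexc : ¬ (n = 4 ∧ q = 2)) : (∀ H : Subgroup (Matrix.ProjectiveSpecialLinearGroup (Fin n) F), H ≠ ⊤ → (q ^ n - 1) / (q - 1) ≤ H.index) ∧ (∃ H : Subgroup (Matrix.ProjectiveSpecialLinearGroup (Fin n) F), H.index = (q ^ n - 1) / (q - 1)) := by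
  have hq : 1 < q := hF ▸ Fintype.one_lt_card
  have hcardF : Nat.card F = q := by rw [Nat.card_eq_fintype_card, hF]
  have hdiv : (q ^ n - 1) / (q - 1) = ∑ i ∈ Finset.range n, q ^ i :=
    (Nat.geomSum_eq (by omega) n).symm
  have : Nontrivial (Fin n) := Fin.nontrivial_iff_two_le.2 (by omega)
  refine ⟨fun H hH => ?_, ?_⟩
  · classical
    let ρ : Matrix.SpecialLinearGroup (Fin n) F →*
        Equiv.Perm (Matrix.ProjectiveSpecialLinearGroup (Fin n) F ⧸ H) :=
      (MulAction.toPermHom (Matrix.ProjectiveSpecialLinearGroup (Fin n) F)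
        (Matrix.ProjectiveSpecialLinearGroup (Fin n) F ⧸ H)).comp (QuotientGroup.mk' _)
    have hnfix : ∀ a, ∃ g, ρ g a ≠ a := by
      intro a
      obtain ⟨b, hb⟩ : ∃ b : Matrix.ProjectiveSpecialLinearGroup (Fin n) F ⧸ H, b ≠ a := by
        by_contra hall
        push Not at hall
        refine hH ((Subgroup.index_eq_one).1 ?_)
        rw [Subgroup.index_eq_card]
        exact Nat.card_eq_one_iff_unique.2 ⟨⟨fun x y => (hall x).trans (hall y).symm⟩, ⟨a⟩⟩
      obtain ⟨g, hg⟩ := MulAction.exists_smul_eq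
        (Matrix.ProjectiveSpecialLinearGroup (Fin n) F) a b
      obtain ⟨g', rfl⟩ := QuotientGroup.mk'_surjective _ g
      exact ⟨g', fun e => hb (hg.symm.trans e)⟩
    have := MinIndexSL.card_ge ρ hn (by rwa [hcardF]) hnfix
    rw [hcardF] at this
    rw [hdiv, Subgroup.index_eq_card]
    exact this
  · classical
    obtain ⟨P⟩ : Nonempty (Projectivization F (Fin n → F)) := inferInstance
    refine ⟨MulAction.stabilizer (Matrix.ProjectiveSpecialLinearGroup (Fin n) F) P, ?_⟩
    have : MulAction.IsPretransitive (Matrix.ProjectiveSpecialLinearGroup (Fin n) F)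
        (Projectivization F (Fin n → F)) := ⟨fun a b => by
      obtain ⟨g, hg⟩ := MulAction.exists_smul_eq (Matrix.SpecialLinearGroup (Fin n) F) a b
      exact ⟨QuotientGroup.mk g, by rw [Matrix.ProjectiveSpecialLinearGroup.smul_proj_mk, hg]⟩⟩
    rw [MulAction.index_stabilizer_of_transitive,
      Projectivization.card_of_finrank F _ (Module.finrank_fin_fun F), hdiv, hcardF]

end Cfsg.Agent.S2140
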