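import Cfsg.Statements.S2147
import Cfsg.Agent.Lib.MinIndexOrthCore

set_option autoImplicit false
open Cfsg
open Cfsg.Agent
open Cfsg.Agent.OrthUnitaryQuad Cfsg.Agent.OrthUnitaryForms Cfsg.Agent.OrthUnitaryStd

namespace Cfsg.Agent.S2147

/-- Minimal index of a proper subgroup of the even-dimensional orthogonal groups of minus type: for m ≥ 4 and a field F with q elements, every proper subgroup of PΩ⁻_2m(F) (for the form Σ_{i<m−1} xᵢyᵢ + z₁² + a z₁z₂ + b z₂² with anisotropic binary part) has index at least (q^m + 1)(q^(m−1) − 1)/(q − 1), and that index is attained. -/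
theorem result {F : Type*} [Field F] [Fintype F] {q : ℕ} (hF : Fintype.card F = q) (m : ℕ) (hm : 4 ≤ m) (a b : F) (hab : ∀ z₁ z₂ : F, z₁ ^ 2 + a * z₁ * z₂ + b * z₂ ^ 2 = 0 → z₁ = 0 ∧ z₂ = 0) : (∀ H : Subgroup (Cfsg.POmega F (Cfsg.quadFormMinus (m - 1) F a b)), H ≠ ⊤ → (q ^ m + 1) * (q ^ (m - 1) - 1) / (q - 1) ≤ H.index) ∧ (∃ H : Subgroup (Cfsg.POmega F (Cfsg.quadFormMinus (m - 1) F a b)), H.index = (q ^ m + 1) * (q ^ (m - 1) - 1) / (q - 1)) := by
  refine MinIndexOrthFamilies29.minus hF m hm a b hab (MinIndexOrthCore.coreBound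
    (nondegenerate_withBase (nondegenerate_qfBin hab) (m - 1))
    (by rw [finrank_withBase_space]; simp; omega) fun h3 h8 => ?_)
  rw [finrank_withBase_space, Module.finrank_pi, Fintype.card_fin] at h8
  obtain rfl : m = 4 := by omega
  have h := (MinIndexOrthFamilies29.zeros_minus h3 (show 1 ≤ 4 by omega) hab).1
  intro h'
  rw [h'] at h
  norm_num at h

end Cfsg.Agent.S2147
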