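import Cfsg.Statements.S2149
import Cfsg.Agent.Lib.U35MinIndexBound
import Cfsg.Agent.Lib.U35MinIndexCert

set_option autoImplicit false
open Cfsg

namespace Cfsg.Agent.S2149

/-- Minimal index of a proper subgroup of PSU₃(5), realised over the field with 25 elements: every proper subgroup has index at least 50, and some subgroup has index exactly 50. -/
theorem result {F : Type*} [Field F] [Fintype F] (hF : Fintype.card F = 25) : (∀ H : Subgroup (Cfsg.PSU 3 F 5), H ≠ ⊤ → 50 ≤ H.index) ∧ (∃ H : Subgroup (Cfsg.PSU 3 F 5), H.index = 50) := by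
  have hF' : Fintype.card F = 5 ^ 2 := by rw [hF]; norm_num
  set π := QuotientGroup.mk' (Subgroup.center (Cfsg.SU 3 F 5))
  have hs : Function.Surjective π := QuotientGroup.mk'_surjective _
  have low : ∀ H : Subgroup (Cfsg.PSU 3 F 5), H ≠ ⊤ → 50 ≤ H.index := by
    intro H hH
    rw [← Subgroup.index_comap_of_surjective H hs]
    refine U35MinIndexBound.card_ge hF' _ fun h => hH ?_
    rw [eq_top_iff, ← Subgroup.map_top_of_surjective π hs, ← h]
    exact Subgroup.map_comap_le _ _
  refine ⟨low, ?_⟩
  obtain ⟨H, hH⟩ := U35MinIndexCert.exists_subgroup hF'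
  have hidx : H.index = 50 := by
    have h := H.card_mul_index
    rw [hH, U35MinIndexBound.card_SU_eq hF'] at h
    omega
  refine ⟨H.map π, ?_⟩
  have hd : (H.map π).index ∣ H.index := Subgroup.index_map_dvd H hs
  rw [hidx] at hd
  have hle := Nat.le_of_dvd (by norm_num) hd
  by_cases htop : H.map π = ⊤
  · exfalso
    have h1 : Nat.card (Cfsg.PSU 3 F 5) ∣ Nat.card H := by
      have := Subgroup.card_map_dvd H π
      rwa [htop, Subgroup.card_top] at this
    have h2 := Subgroup.card_eq_card_quotient_mul_card_subgroup (Subgroup.center (Cfsg.SU 3 F 5))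
    rw [OrthUnitaryHerm.card_center_SU hF' (by norm_num), U35MinIndexBound.card_SU_eq hF'] at h2
    norm_num at h2
    have h3 : 378000 = Nat.card (Cfsg.PSU 3 F 5) * 3 := by convert h2 using 2
    rw [hH, show Nat.card (Cfsg.PSU 3 F 5) = 126000 by omega] at h1
    norm_num at h1
  · exact le_antisymm hle (low _ htop)

end Cfsg.Agent.S2149
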