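import Cfsg.Statements.S2152
import Cfsg.Agent.Lib.MinIndexUnit19FourEnd
import Cfsg.Agent.Lib.MinIndexPSUGlue55
import Cfsg.Agent.Lib.MinIndexPSUAttain55

set_option autoImplicit false
open Cfsg Cfsg.Agent.OrthUnitaryHerm Cfsg.Agent.OrthUnitaryTransvection
  Cfsg.Agent.SUMinDegree32Geom Cfsg.Agent.MinIndexUnit19 Cfsg.Agent.MinIndexPSUGlue55
  Cfsg.Agent.MinIndexPSUAttain55

namespace Cfsg.Agent.S2152

/-- Minimal index of a proper subgroup of the unitary groups of even dimension n ≥ 6: for a field F with q² elements, q ≥ 3, every proper subgroup of PSU_n(q) has index at least (q^n − 1)(q^(n−1) + 1)/(q² − 1), and that index is attained (the isotropic points). -/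
theorem result {F : Type*} [Field F] [Fintype F] (q : ℕ) (hF : Fintype.card F = q ^ 2) (hq : 3 ≤ q) (n : ℕ) (hn : 6 ≤ n) (heven : Even n) : (∀ H : Subgroup (Cfsg.PSU n F q), H ≠ ⊤ → (q ^ n - 1) * (q ^ (n - 1) + 1) / (q ^ 2 - 1) ≤ H.index) ∧ (∃ H : Subgroup (Cfsg.PSU n F q), H.index = (q ^ n - 1) * (q ^ (n - 1) + 1) / (q ^ 2 - 1)) := by
  rw [isoN_even hF (by omega) heven]
  refine ⟨index_bound hF (by omega) ?_, exists_point hF (by omega)⟩
  obtain ⟨k, rfl⟩ := heven
  obtain ⟨j, rfl⟩ : ∃ j, k = j + 3 := ⟨k - 3, by omega⟩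
  rw [show isoN q (j + 3 + (j + 3)) = isoN q (2 * j + 6) by ring_nf]
  exact small_even hF (small_four hF) hq j ⊤ (nondeg_top hF)
    (by rw [finrank_top, Module.finrank_fin_fun]; ring)

end Cfsg.Agent.S2152
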