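import Cfsg.Statements.S2153
import Cfsg.Agent.Lib.MinIndexUnit19FourEnd
import Cfsg.Agent.Lib.MinIndexPSUGlue55
import Cfsg.Agent.Lib.MinIndexPSUAttain55

set_option autoImplicit false
open Cfsg Cfsg.Agent.OrthUnitaryHerm Cfsg.Agent.OrthUnitaryTransvection
  Cfsg.Agent.SUMinDegree32Geom Cfsg.Agent.MinIndexUnit19 Cfsg.Agent.MinIndexPSUGlue55
  Cfsg.Agent.MinIndexPSUAttain55

namespace Cfsg.Agent.S2153

/-- Minimal index of a proper subgroup of the unitary groups PSU_n(2) with n divisible by 6, realised over the field with 4 elements: every proper subgroup has index at least 2^(n−1)(2^n − 1)/3, and that index is attained. -/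
theorem result {F : Type*} [Field F] [Fintype F] (hF : Fintype.card F = 4) (n : ℕ) (hn : 6 ∣ n) (hpos : 6 ≤ n) : (∀ H : Subgroup (Cfsg.PSU n F 2), H ≠ ⊤ → 2 ^ (n - 1) * (2 ^ n - 1) / 3 ≤ H.index) ∧ (∃ H : Subgroup (Cfsg.PSU n F 2), H.index = 2 ^ (n - 1) * (2 ^ n - 1) / 3) := by
  have hF' : Fintype.card F = 2 ^ 2 := hF
  have heven : Even n := even_iff_two_dvd.2 (dvd_trans (by norm_num) hn)
  refine ⟨index_bound hF' (by omega) ?_, exists_aniso_two hF' rfl (by omega) heven⟩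
  rw [← anisTwo_eq heven (by omega)]
  obtain ⟨k, rfl⟩ := heven
  obtain ⟨j, rfl⟩ : ∃ j, k = j + 3 := ⟨k - 3, by omega⟩
  rw [show anisTwo (j + 3 + (j + 3)) = anisTwo (2 * j + 6) by ring_nf]
  exact small_two hF' (small_four hF') rfl j ⊤ (nondeg_top hF')
    (by rw [finrank_top, Module.finrank_fin_fun]; ring)

end Cfsg.Agent.S2153
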