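import Cfsg.Statements.S2155
import Cfsg.Agent.Lib.ChevRadicalCentralizer

set_option autoImplicit false
open Cfsg

namespace Cfsg.Agent.S2155

/-- In a Chevalley group of type G₂, B₂, D₄, F₄, E₆, E₇ or E₈ over a finite field of characteristic p (for types G₂ and B₂ the field is assumed to have at least 3 elements, so that the group is simple), the generalized Fitting subgroup of every proper standard parabolic subgroup P_J is a p-group (P_J is p-constrained with trivial largest normal subgroup of order prime to p). -/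
theorem result {F : Type*} [Field F] [Fintype F] (p : ℕ) [Fact p.Prime] [CharP F p] (D : Cfsg.Lie.ChevalleyDatum) (hD : D ∈ [Cfsg.Lie.chevG2, Cfsg.Lie.chevB2, Cfsg.Lie.chevD4, Cfsg.Lie.chevF4, Cfsg.Lie.chevE6, Cfsg.Lie.chevE7, Cfsg.Lie.chevE8]) (hq : (D = Cfsg.Lie.chevG2 ∨ D = Cfsg.Lie.chevB2) → 3 ≤ Fintype.card F) (J : Set ℕ) (hJ : ∃ i, i < D.rank ∧ i ∉ J) : IsPGroup p ↥(Cfsg.generalizedFittingSubgroup ↥(D.parabolicSubgroup F J)) := by
  have hcheck : ChevRadicalCentralizer.diffCheck D = true := by
    simp only [List.mem_cons, List.not_mem_nil, or_false] at hD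
    rcases hD with rfl | rfl | rfl | rfl | rfl | rfl | rfl <;> decide +kernel
  set C := Cfsg.Agent.ChevalleyAll.cert D hD
  set S := Cfsg.Agent.ChevBruhatInstance.sys D hD F
  set P := D.parabolicSubgroup F J with hP
  have hUP : D.posUnipotent F ≤ P := le_trans ChevBruhat.Sys.U_le_B le_sup_left
  have hRU : D.unipotentRadical F J ≤ D.posUnipotent F := by
    refine (Subgroup.closure_le _).2 ?_
    rintro g ⟨r, t, hr, -, hg⟩
    exact Subgroup.subset_closure ⟨r, t, hr, hg⟩
  obtain ⟨n, hp, hq'⟩ := FiniteField.card F p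
  have hU : IsPGroup p ↥(D.posUnipotent F) := IsPGroup.of_card (n := (n : ℕ) * (D.nroots / 2))
    (by rw [ChevalleyUnipotent.card_U C, hq', pow_mul])
  set Q := (D.unipotentRadical F J).subgroupOf P with hQdef
  haveI : Q.Normal := by
    constructor
    intro x hx y
    exact (Subgroup.mem_normalizer_iff.1 (ChevalleyParabolic.parabolic_le_normalizer C J y.2) _).1 hx
  have hQ : IsPGroup p ↥Q :=
    (hU.to_le hRU).of_equiv (Subgroup.subgroupOfEquivOfLe (hRU.trans hUP)).symm
  have hC : Subgroup.centralizer (Q : Set ↥P) ≤ (D.posUnipotent F).subgroupOf P := by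
    intro y hy
    refine ChevRadicalCentralizer.centralizer_le_U C S hcheck hJ y.2 fun x hx => ?_
    exact (congrArg Subtype.val (Subgroup.mem_centralizer_iff.1 hy ⟨x, (hRU.trans hUP) hx⟩ hx)).symm
  exact ChevRadicalCentralizer.genFitting_pGroup p Q hQ
    ((hU.of_equiv (Subgroup.subgroupOfEquivOfLe hUP).symm).to_le hC)

end Cfsg.Agent.S2155
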