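import Cfsg.Statements.S2156
import Cfsg.Agent.Lib.ChevAutExpData
import Cfsg.Agent.Lib.ChevalleyAll

set_option autoImplicit false
open Cfsg

namespace Cfsg.Agent.S2156

/-- Over a finite field, every automorphism of the Chevalley group of type G₂, B₂, D₄, F₄, E₆, E₇ or E₈ is the composite of a field automorphism, a graph automorphism, a diagonal automorphism and an inner automorphism: `θ y = x · d(g(f y)) · x⁻¹` for some group element `x`, diagonal `d`, graph `g` and field `f` (each possibly the identity; diagonal here includes conjugation by elements of the diagonal subgroup H). -/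
theorem result {F : Type*} [Field F] [Finite F] (D : Cfsg.Lie.ChevalleyDatum) (hD : D ∈ [Cfsg.Lie.chevG2, Cfsg.Lie.chevB2, Cfsg.Lie.chevD4, Cfsg.Lie.chevF4, Cfsg.Lie.chevE6, Cfsg.Lie.chevE7, Cfsg.Lie.chevE8]) (θ : ↥(D.group F) ≃* ↥(D.group F)) :
    ∃ (x : ↥(D.group F)) (d g f : ↥(D.group F) ≃* ↥(D.group F)),
      D.IsDiagonalAut d ∧ D.IsGraphAut g ∧ D.IsFieldAut f ∧ ∀ y : ↥(D.group F), θ y = x * d (g (f y)) * x⁻¹ := by
  classical
  obtain ⟨C⟩ := Cfsg.Agent.ChevalleyAll.cert_nonempty D hD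
  let S := Cfsg.Agent.ChevBruhatInstance.sys D hD F
  obtain ⟨x, θ₁, hfix, hx⟩ := Cfsg.Agent.ChevAutRigid.exists_fix C S θ
  obtain ⟨χ, π, σ, d, θ', hχ, hd, hdx, hstd, hd'⟩ := Cfsg.Agent.ChevAutStd.exists_std C S hD hfix
  obtain ⟨hsym, σ0, hσ⟩ := Cfsg.Agent.ChevAutExpData.exp_all hD hstd
  obtain ⟨φ, hφ, hφx⟩ := Cfsg.Agent.ChevAutStd.exists_field C σ0
  have hrk := fun i : Fin D.rank => Cfsg.Agent.ChevalleyRoots.simple_lt C i.isLt
  refine ⟨x, d, φ.symm.trans θ', φ, hd, ⟨π, hsym, fun g i t => ⟨fun hg => ?_, fun hg => ?_⟩⟩, hφ,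
    fun y => ?_⟩
  · have e : φ.symm g = Cfsg.Agent.ChevAutRigid.xG C (D.simple i) (σ0.symm t) := by
      rw [MulEquiv.symm_apply_eq, hφx _ (hrk i), RingEquiv.apply_symm_apply]
      exact Cfsg.Agent.ChevAutStd.eq_xG C hg
    rw [MulEquiv.trans_apply, e, hstd.pos, hσ, RingEquiv.apply_symm_apply,
      Cfsg.Agent.ChevAutStd.coe_coe_xG]
  · have e : φ.symm g = Cfsg.Agent.ChevAutRigid.xG C (D.neg (D.simple i)) (σ0.symm t) := by
      rw [MulEquiv.symm_apply_eq, hφx _ (C.neg_lt _), RingEquiv.apply_symm_apply]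
      exact Cfsg.Agent.ChevAutStd.eq_xG C hg
    rw [MulEquiv.trans_apply, e, hstd.neg, hσ, RingEquiv.apply_symm_apply,
      Cfsg.Agent.ChevAutStd.coe_coe_xG]
  · rw [MulEquiv.trans_apply, MulEquiv.symm_apply_apply, ← hd', hx]

end Cfsg.Agent.S2156
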