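import Cfsg.Statements.S2158
import Cfsg.Agent.Lib.ChevBorelCriterion
import Cfsg.Agent.S2157

set_option autoImplicit false
open Cfsg

namespace Cfsg.Agent.S2158

/-- In a Chevalley group of type G₂, B₂, D₄, F₄, E₆, E₇ or E₈ over any field, an element of the group whose matrix is the diagonal matrix `ĥ(χ)` of a character `χ` of the root lattice already lies in the diagonal subgroup H (the non-trivial inclusion of the statement that the group meets the group of all such diagonal matrices in H). -/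
theorem result {F : Type*} [Field F] (D : Cfsg.Lie.ChevalleyDatum) (hD : D ∈ [Cfsg.Lie.chevG2, Cfsg.Lie.chevB2, Cfsg.Lie.chevD4, Cfsg.Lie.chevF4, Cfsg.Lie.chevE6, Cfsg.Lie.chevE7, Cfsg.Lie.chevE8]) (χ : ℕ → Fˣ) (hχ : D.IsRootCharacter χ) (g : GL D.Idx F) (hg : g ∈ D.group F)
    (hgχ : (g : Matrix D.Idx D.Idx F) = D.charDiag F χ) : g ∈ D.diagonalSubgroup F := by
  set C := Cfsg.Agent.ChevalleyAll.cert D hD
  set S := Cfsg.Agent.ChevBruhatInstance.sys D hD F
  have hinv : ((g⁻¹ : GL D.Idx F) : Matrix D.Idx D.Idx F) = D.charDiag F fun r => (χ r)⁻¹ := by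
    refine Units.inv_eq_of_mul_eq_one_right ?_
    rw [hgχ, Lie.ChevalleyDatum.charDiag, Lie.ChevalleyDatum.charDiag, Matrix.diagonal_mul_diagonal,
      ← Matrix.diagonal_one]
    congr 1
    funext q
    rcases q with a | s <;> simp
  refine ChevBorelCriterion.mem_H_of_diag C S hg (fun i j hij => ?_) fun i hi => ⟨(χ (D.simple i) : F), ?_⟩
  · rw [hgχ, Lie.ChevalleyDatum.charDiag, Matrix.diagonal_apply_ne _ hij]
  · apply Units.ext
    rw [Units.val_mul, Units.val_mul, ChevalleyCore.coe_xg, ChevalleyCore.coe_xg, hgχ, hinv,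
      Cfsg.Agent.S2157.result D hD χ hχ (D.simple i) (ChevalleyRoots.simple_lt C hi) 1, mul_one]

end Cfsg.Agent.S2158
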