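import Cfsg.Statements.S2160
import Cfsg.Agent.Lib.ChevalleyAll
import Cfsg.Agent.Lib.ChevSimpleGen

set_option autoImplicit false
open Cfsg

namespace Cfsg.Agent.S2160

/-- In a Chevalley group of type G₂, B₂, D₄, F₄, E₆, E₇ or E₈ over a finite field, every field automorphism commutes with every graph automorphism. -/
theorem result {F : Type*} [Field F] [Finite F] (D : Cfsg.Lie.ChevalleyDatum) (hD : D ∈ [Cfsg.Lie.chevG2, Cfsg.Lie.chevB2, Cfsg.Lie.chevD4, Cfsg.Lie.chevF4, Cfsg.Lie.chevE6, Cfsg.Lie.chevE7, Cfsg.Lie.chevE8]) (f g : ↥(D.group F) ≃* ↥(D.group F))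
    (hf : D.IsFieldAut f) (hg : D.IsGraphAut g) (y : ↥(D.group F)) : f (g y) = g (f y) := by
  set C := Cfsg.Agent.ChevalleyAll.cert D hD
  obtain ⟨σ, hσ⟩ := hf
  obtain ⟨π, -, hπ⟩ := hg
  have key : f.toMonoidHom.comp g.toMonoidHom = g.toMonoidHom.comp f.toMonoidHom := by
    refine Cfsg.Agent.ChevSimpleGen.hom_ext C _ _ fun i hi t => ⟨?_, ?_⟩
    all_goals
      refine Subtype.ext (Units.ext ?_)
      simp only [MonoidHom.comp_apply, MulEquiv.toMonoidHom_eq_coe, MonoidHom.coe_coe]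
    · have h1 := (hπ ⟨_, ChevalleyCore.xg_mem_group C (D.simple i) t⟩ ⟨i, hi⟩ t).1 rfl
      have h2 := hσ ⟨_, ChevalleyCore.xg_mem_group C (D.simple i) t⟩ (D.simple i) t
        (ChevalleyRoots.simple_lt C hi) rfl
      rw [hσ _ _ _ (ChevalleyRoots.simple_lt C (π ⟨i, hi⟩).isLt) h1, map_pow]
      exact ((hπ _ ⟨i, hi⟩ _).1 h2).symm
    · have h1 := (hπ ⟨_, ChevalleyCore.xg_mem_group C (D.neg (D.simple i)) t⟩ ⟨i, hi⟩ t).2 rfl
      have h2 := hσ ⟨_, ChevalleyCore.xg_mem_group C (D.neg (D.simple i)) t⟩ (D.neg (D.simple i)) t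
        (C.neg_lt _) rfl
      rw [hσ _ _ _ (C.neg_lt _) h1, map_pow]
      exact ((hπ _ ⟨i, hi⟩ _).2 h2).symm
  exact DFunLike.congr_fun key y

end Cfsg.Agent.S2160
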