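import Cfsg.Statements.S2161
import Cfsg.Agent.Lib.ChevalleyAll
import Cfsg.Agent.Lib.ChevSimpleGen
import Cfsg.Agent.Lib.ChevPermRoot

set_option autoImplicit false
open Cfsg

namespace Cfsg.Agent.S2161

/-- For the Chevalley groups of types D₄ and E₆ (one root length) over any field: if `π` is a symmetry of the Dynkin diagram and `φ` is an automorphism sending `x_{p_i}(t)` to `x_{p_{π i}}(t)` and `x_{-p_i}(t)` to `x_{-p_{π i}}(t)` for every fundamental root `p_i`, then for every root `r` there is a sign `ε = ±1` with `φ(x_r(t)) = x_{π·r}(ε t)` for all `t`, where `π·r` is the root whose coefficients are those of `r` permuted by `π`. -/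
theorem result {F : Type*} [Field F] (D : Cfsg.Lie.ChevalleyDatum) (hD : D ∈ [Cfsg.Lie.chevD4, Cfsg.Lie.chevE6])
    (π : Equiv.Perm (Fin D.rank)) (hπ : D.IsDiagramSymmetry π) (φ : ↥(D.group F) ≃* ↥(D.group F))
    (hφ : ∀ (g : ↥(D.group F)) (i : Fin D.rank) (t : F),
      (((g : GL D.Idx F) : Matrix D.Idx D.Idx F) = D.x F (D.simple i) t →
        ((φ g : GL D.Idx F) : Matrix D.Idx D.Idx F) = D.x F (D.simple (π i)) t) ∧
      (((g : GL D.Idx F) : Matrix D.Idx D.Idx F) = D.x F (D.neg (D.simple i)) t →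
        ((φ g : GL D.Idx F) : Matrix D.Idx D.Idx F) = D.x F (D.neg (D.simple (π i))) t))
    (r : ℕ) (hr : r < D.nroots) :
    ∃ ε : F, (ε = 1 ∨ ε = -1) ∧ ∀ (g : ↥(D.group F)) (t : F),
      ((g : GL D.Idx F) : Matrix D.Idx D.Idx F) = D.x F r t →
        ((φ g : GL D.Idx F) : Matrix D.Idx D.Idx F) = D.x F (D.permRoot π r) (ε * t) := by
  have hL : ChevPermRoot.Laced D := by
    simp only [List.mem_cons, List.not_mem_nil, or_false] at hD
    rcases hD with rfl | rfl
    · change ∀ i j : Fin Cfsg.Lie.chevD4.rank, _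
      unfold Lie.ChevalleyDatum.bonds
      decide +kernel
    · change ∀ i j : Fin Cfsg.Lie.chevE6.rank, _
      unfold Lie.ChevalleyDatum.bonds
      decide +kernel
  have hD' : D ∈ [Cfsg.Lie.chevG2, Cfsg.Lie.chevB2, Cfsg.Lie.chevD4, Cfsg.Lie.chevF4, Cfsg.Lie.chevE6,
      Cfsg.Lie.chevE7, Cfsg.Lie.chevE8] := by
    simp only [List.mem_cons, List.not_mem_nil, or_false] at hD ⊢
    tauto
  set C := Cfsg.Agent.ChevalleyAll.cert D hD'
  let e : ℕ → F → ↥(D.group F) := fun s t => ⟨_, ChevalleyCore.xg_mem_group C s t⟩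
  suffices key : ∀ r, r < D.nroots → ∃ ε : F, (ε = 1 ∨ ε = -1) ∧ ∀ t : F,
      ((φ (e r t) : GL D.Idx F)) = ChevalleyCore.xg C (D.permRoot π r) (ε * t) by
    obtain ⟨ε, hε, h⟩ := key r hr
    refine ⟨ε, hε, fun g t hg => ?_⟩
    rw [show g = e r t from Subtype.ext (Units.ext hg), h t]
    rfl
  refine ChevalleyRoots.root_induction C ?_ ?_
  · intro i hi
    refine ⟨1, Or.inl rfl, fun t => Units.ext ?_⟩
    rw [ChevPermRoot.perm_simple C π hπ hL ⟨i, hi⟩, one_mul]
    exact (hφ (e (D.simple i) t) ⟨i, hi⟩ t).1 rfl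
  · intro i r hi hr ⟨ε, hε, ih⟩
    have hp := (ChevPermRoot.perm_spec C π hπ hL r hr).1
    refine ⟨(C.eta (π ⟨i, hi⟩).val (D.permRoot π r) : F) * (ε * (C.eta i r : F)), ?_, fun t => ?_⟩
    · rcases hε with rfl | rfl <;> rcases C.eta_sq i r with h | h <;>
        rcases C.eta_sq (π ⟨i, hi⟩).val (D.permRoot π r) with h' | h' <;> rw [h, h'] <;>
        push_cast <;> simp
    · have h1 : e (ChevalleyCert.wr D i r) t =
          (e (D.simple i) 1 * e (D.neg (D.simple i)) (-(1 : F)⁻¹) * e (D.simple i) 1) *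
            e r ((C.eta i r : F) * t) *
          (e (D.simple i) 1 * e (D.neg (D.simple i)) (-(1 : F)⁻¹) * e (D.simple i) 1)⁻¹ := by
        refine Subtype.ext ?_
        show ChevalleyCore.xg C _ t = ChevalleyCore.ng C (D.simple i) 1 * _ * _
        rw [show ((((e (D.simple i) 1 * e (D.neg (D.simple i)) (-(1 : F)⁻¹) * e (D.simple i) 1)⁻¹ :
          ↥(D.group F))) : GL D.Idx F) = (ChevalleyCore.ng C (D.simple i) 1)⁻¹ from rfl,
          ChevalleyCore.ng_simple_conj C hi hr, ← mul_assoc, ChevalleyCore.eta_cast_sq C, one_mul]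
      have hn1 : ∀ s, (φ (e (D.simple i) s) : GL D.Idx F) =
          ChevalleyCore.xg C (D.simple (π ⟨i, hi⟩).val) s := fun s =>
        Units.ext ((hφ (e (D.simple i) s) ⟨i, hi⟩ s).1 rfl)
      have hn2 : ∀ s, (φ (e (D.neg (D.simple i)) s) : GL D.Idx F) =
          ChevalleyCore.xg C (D.neg (D.simple (π ⟨i, hi⟩).val)) s := fun s =>
        Units.ext ((hφ (e (D.neg (D.simple i)) s) ⟨i, hi⟩ s).2 rfl)
      rw [h1]
      simp only [map_mul, map_inv, Subgroup.coe_mul, Subgroup.coe_inv, hn1, hn2, ih]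
      rw [← ChevalleyCore.ng.eq_1 C, ChevalleyCore.ng_simple_conj C (π ⟨i, hi⟩).isLt hp,
        ChevPermRoot.perm_w C π hπ hL ⟨i, hi⟩ hr]
      congr 1
      ring

end Cfsg.Agent.S2161
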