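import Cfsg.Statements.S2162
import Cfsg.Agent.Lib.SquareZeroConj

set_option autoImplicit false
open Cfsg

namespace Cfsg.Agent.S2162

/-- Conjugacy of involutions in the special linear group over a finite field of characteristic two, in dimension at least 3: two elements of order 2 of SL_n(F) are conjugate in SL_n(F) exactly when the matrices a − 1 and b − 1 have the same rank (the rank of a − 1 is the dimension of the commutator space [V, a]). -/
theorem result {F : Type*} [Field F] [Fintype F] [CharP F 2] {n : ℕ} (hn : 3 ≤ n) (a b : Matrix.SpecialLinearGroup (Fin n) F) (ha : orderOf a = 2) (hb : orderOf b = 2) :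
    IsConj a b ↔ ((a : Matrix (Fin n) (Fin n) F) - 1).rank = ((b : Matrix (Fin n) (Fin n) F) - 1).rank := by
  have hsub : ∀ x : Matrix.SpecialLinearGroup (Fin n) F, orderOf x = 2 →
      ((x : Matrix (Fin n) (Fin n) F) - 1) * ((x : Matrix (Fin n) (Fin n) F) - 1) = 0 := by
    intro x hx
    have h1 : x ^ 2 = 1 := hx ▸ pow_orderOf_eq_one x
    have h2 : (x : Matrix (Fin n) (Fin n) F) * (x : Matrix (Fin n) (Fin n) F) = 1 := by
      rw [← pow_two, ← Matrix.SpecialLinearGroup.coe_pow, h1, Matrix.SpecialLinearGroup.coe_one]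
    rw [sub_mul, mul_sub, h2, Matrix.mul_one, Matrix.one_mul]
    have : (2 : F) = 0 := CharTwo.two_eq_zero
    ext i j
    simp only [Matrix.sub_apply, Matrix.zero_apply]
    linear_combination ((1 : Matrix (Fin n) (Fin n) F) i j - (x : Matrix (Fin n) (Fin n) F) i j) * this
  constructor
  · rw [isConj_iff]
    rintro ⟨g, rfl⟩
    set A := (a : Matrix (Fin n) (Fin n) F)
    set G := (g : Matrix (Fin n) (Fin n) F)
    set G' := ((g⁻¹ : Matrix.SpecialLinearGroup (Fin n) F) : Matrix (Fin n) (Fin n) F)
    have h1 : G * G' = 1 := by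
      rw [← Matrix.SpecialLinearGroup.coe_mul, mul_inv_cancel, Matrix.SpecialLinearGroup.coe_one]
    have h2 : G' * G = 1 := by
      rw [← Matrix.SpecialLinearGroup.coe_mul, inv_mul_cancel, Matrix.SpecialLinearGroup.coe_one]
    have hv : ((g * a * g⁻¹ : Matrix.SpecialLinearGroup (Fin n) F) : Matrix (Fin n) (Fin n) F) - 1
        = G * (A - 1) * G' := by
      rw [Matrix.mul_sub, Matrix.sub_mul, Matrix.mul_one, h1]
      simp [Matrix.SpecialLinearGroup.coe_mul, A, G, G']
    rw [hv]
    refine le_antisymm ?_ ((Matrix.rank_mul_le_left _ _).trans (Matrix.rank_mul_le_right _ _))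
    calc (A - 1).rank = (G' * (G * (A - 1) * G') * G).rank := by
          rw [← Matrix.mul_assoc, ← Matrix.mul_assoc, h2, Matrix.one_mul, Matrix.mul_assoc, h2,
            Matrix.mul_one]
      _ ≤ _ := (Matrix.rank_mul_le_left _ _).trans (Matrix.rank_mul_le_right _ _)
  · intro h
    have hne : (a : Matrix (Fin n) (Fin n) F) - 1 ≠ 0 := by
      intro h0
      have : a = 1 := Subtype.ext (sub_eq_zero.1 h0)
      rw [this, orderOf_one] at ha
      omega
    have hsq : ∀ x : F, ∃ c, c * c = x := by
      intro x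
      obtain ⟨c, hc⟩ := (Finite.injective_iff_surjective.1 (CharTwo.sq_injective (R := F))) x
      exact ⟨c, by rw [← pow_two]; exact hc⟩
    obtain ⟨T, hdet, hT⟩ := Cfsg.Agent.SquareZeroConj.exists_intertwine hsq
      (Matrix.toLin' ((a : Matrix (Fin n) (Fin n) F) - 1))
      (Matrix.toLin' ((b : Matrix (Fin n) (Fin n) F) - 1))
      (by rw [← Matrix.toLin'_mul, hsub a ha, map_zero])
      (by rw [← Matrix.toLin'_mul, hsub b hb, map_zero])
      (fun h0 => hne (Matrix.toLin'.injective (by rw [h0, map_zero])))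
      h
    refine isConj_iff.2 ⟨⟨LinearMap.toMatrix' T, by rw [LinearMap.det_toMatrix', hdet]⟩, ?_⟩
    refine mul_inv_eq_iff_eq_mul.2 (Subtype.ext ?_)
    have e := congrArg LinearMap.toMatrix' hT
    rw [LinearMap.toMatrix'_comp, LinearMap.toMatrix'_comp, LinearMap.toMatrix'_toLin',
      LinearMap.toMatrix'_toLin', Matrix.mul_sub, Matrix.sub_mul, Matrix.mul_one, Matrix.one_mul] at e
    exact sub_left_inj.1 e

end Cfsg.Agent.S2162
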