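import Cfsg.Statements.S2163
-- import your own Cfsg.Agent.* helpers here

set_option autoImplicit false
open Cfsg

namespace Cfsg.Agent.S2163

theorem rank_shift {F : Type*} [Field F] {n ℓ : ℕ} (h2 : 2 * ℓ ≤ n) :
    (Matrix.of (fun i j : Fin n => if j.val < ℓ ∧ i.val = j.val + (n - ℓ) then (1 : F) else 0)).rank = ℓ := by
  set M := Matrix.of (fun i j : Fin n => if j.val < ℓ ∧ i.val = j.val + (n - ℓ) then (1 : F) else 0)
  let A : Matrix (Fin n) (Fin ℓ) F := Matrix.of fun i k => if i.val = k.val + (n - ℓ) then 1 else 0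
  let B : Matrix (Fin ℓ) (Fin n) F := Matrix.of fun k j => if j.val = k.val then 1 else 0
  let C : Matrix (Fin n) (Fin ℓ) F := Matrix.of fun j k => if j.val = k.val then 1 else 0
  let D : Matrix (Fin ℓ) (Fin n) F := Matrix.of fun k i => if i.val = k.val + (n - ℓ) then 1 else 0
  have hM : M = A * B := by
    ext i j
    rw [Matrix.mul_apply]
    by_cases hj : j.val < ℓ
    · rw [Finset.sum_eq_single ⟨j.val, hj⟩]
      · simp [M, A, B, hj]
      · intro k _ hk
        have : j.val ≠ k.val := fun h => hk (Fin.ext h.symm)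
        simp [B, this]
      · simp
    · rw [Finset.sum_eq_zero]
      · simp [M, hj]
      · intro k _
        have := k.isLt
        have : j.val ≠ k.val := by omega
        simp [B, this]
  have hDMC : D * M * C = 1 := by
    rw [hM, ← Matrix.mul_assoc]
    have hDA : D * A = 1 := by
      ext k k'
      have := k.isLt
      rw [Matrix.mul_apply, Finset.sum_eq_single ⟨k.val + (n - ℓ), by omega⟩]
      · simp [D, A, Matrix.one_apply, Fin.ext_iff]
      · intro i _ hi
        have : i.val ≠ k.val + (n - ℓ) := fun h => hi (Fin.ext h)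
        simp [D, this]
      · simp
    have hBC : B * C = 1 := by
      ext k k'
      have := k.isLt
      rw [Matrix.mul_apply, Finset.sum_eq_single ⟨k.val, by omega⟩]
      · simp [B, C, Matrix.one_apply, Fin.ext_iff]
      · intro i _ hi
        have : i.val ≠ k.val := fun h => hi (Fin.ext h)
        simp [B, this]
      · simp
    rw [hDA, Matrix.one_mul, hBC]
  refine le_antisymm ?_ ?_
  · rw [hM]
    exact (Matrix.rank_mul_le_right A B).trans (Matrix.rank_le_height B)
  · have h := (Matrix.rank_mul_le_left (D * M) C).trans (Matrix.rank_mul_le_right D M)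
    rw [hDMC, Matrix.rank_one, Fintype.card_fin] at h
    exact h

/-- Over a finite field of characteristic two and for n ≥ 3: for every ℓ with 1 ≤ ℓ and 2ℓ ≤ n, the matrix j_ℓ that is the identity plus the entries 1 in positions (n − ℓ + i, i) for i < ℓ (an identity block of size ℓ in the lower left corner) lies in SL_n(F), has order 2, and j_ℓ − 1 has rank ℓ. Together with the conjugacy criterion by rank, these matrices represent the conjugacy classes of involutions of SL_n(F). -/
theorem result {F : Type*} [Field F] [Fintype F] [CharP F 2] {n : ℕ} (hn : 3 ≤ n) (ℓ : ℕ) (h1 : 1 ≤ ℓ) (h2 : 2 * ℓ ≤ n) :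
    ∃ a : Matrix.SpecialLinearGroup (Fin n) F, (a : Matrix (Fin n) (Fin n) F) = 1 + Matrix.of (fun i j : Fin n => if j.val < ℓ ∧ i.val = j.val + (n - ℓ) then (1 : F) else 0) ∧ orderOf a = 2 ∧ ((a : Matrix (Fin n) (Fin n) F) - 1).rank = ℓ := by
  set N := Matrix.of (fun i j : Fin n => if j.val < ℓ ∧ i.val = j.val + (n - ℓ) then (1 : F) else 0) with hN
  have hNN : N * N = 0 := by
    ext i j
    rw [Matrix.mul_apply]
    refine Finset.sum_eq_zero fun k _ => ?_
    simp only [hN, Matrix.of_apply]
    split_ifs <;> simp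
    omega
  have hdet : (1 + N).det = 1 := by
    rw [Matrix.det_of_lowerTriangular]
    · refine Finset.prod_eq_one fun i _ => ?_
      have : ¬ (i.val < ℓ ∧ i.val = i.val + (n - ℓ)) := by omega
      simp only [Matrix.add_apply, Matrix.one_apply_eq, hN, Matrix.of_apply, if_neg this, add_zero]
    · intro i j (hij : j.val > i.val)
      have : ¬ (j.val < ℓ ∧ i.val = j.val + (n - ℓ)) := by omega
      simp only [Matrix.add_apply, hN, Matrix.of_apply, if_neg this, add_zero]
      exact Matrix.one_apply_ne (Fin.ne_of_val_ne (by omega))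
  have hrank : (1 + N - 1).rank = ℓ := by rw [add_sub_cancel_left]; exact rank_shift h2
  refine ⟨⟨1 + N, hdet⟩, rfl, ?_, hrank⟩
  refine orderOf_eq_prime (Subtype.ext ?_) fun h => ?_
  · show (1 + N) ^ 2 = 1
    have : (2 : F) = 0 := CharTwo.two_eq_zero
    rw [pow_two, Matrix.add_mul, Matrix.mul_add, Matrix.mul_add, hNN]
    simp only [Matrix.one_mul, Matrix.mul_one, add_zero]
    rw [add_assoc, ← two_smul F N, this, zero_smul, add_zero]
  · have h' : (1 + N) = 1 := congrArg Subtype.val h
    rw [h', sub_self, Matrix.rank_zero] at hrank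
    omega

end Cfsg.Agent.S2163
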