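import Cfsg.Statements.S2164
import Cfsg.Agent.Lib.UnitaryInvolClasses

set_option autoImplicit false
open Cfsg

namespace Cfsg.Agent.S2164

open Matrix Module Cfsg.Agent.OrthUnitaryHerm

theorem rank_eq_of_isConj {F : Type*} [Field F] {n : ℕ} (a b : Matrix.SpecialLinearGroup (Fin n) F)
    (h : IsConj a b) :
    ((a : Matrix (Fin n) (Fin n) F) - 1).rank = ((b : Matrix (Fin n) (Fin n) F) - 1).rank := by
  obtain ⟨g, rfl⟩ := isConj_iff.1 h
  set A := (a : Matrix (Fin n) (Fin n) F)
  set G := (g : Matrix (Fin n) (Fin n) F)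
  set G' := ((g⁻¹ : Matrix.SpecialLinearGroup (Fin n) F) : Matrix (Fin n) (Fin n) F)
  have h1 : G * G' = 1 := by
    rw [← Matrix.SpecialLinearGroup.coe_mul, mul_inv_cancel, Matrix.SpecialLinearGroup.coe_one]
  have h2 : G' * G = 1 := by
    rw [← Matrix.SpecialLinearGroup.coe_mul, inv_mul_cancel, Matrix.SpecialLinearGroup.coe_one]
  have hv : ((g * a * g⁻¹ : Matrix.SpecialLinearGroup (Fin n) F) : Matrix (Fin n) (Fin n) F) - 1
      = G * (A - 1) * G' := by
    rw [Matrix.mul_sub, Matrix.sub_mul, Matrix.mul_one, h1]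
    simp [Matrix.SpecialLinearGroup.coe_mul, A, G, G']
  rw [hv]
  refine le_antisymm ?_ ((Matrix.rank_mul_le_left _ _).trans (Matrix.rank_mul_le_right _ _))
  calc (A - 1).rank = (G' * (G * (A - 1) * G') * G).rank := by
        rw [← Matrix.mul_assoc, ← Matrix.mul_assoc, h2, Matrix.one_mul, Matrix.mul_assoc, h2,
          Matrix.mul_one]
    _ ≤ _ := (Matrix.rank_mul_le_left _ _).trans (Matrix.rank_mul_le_right _ _)

/-- Conjugacy of involutions in the special unitary group SU_n(q), q even, n ≥ 3, realised over the field F with q² elements as the matrices of determinant 1 preserving the form Σ u_i v_i^q: for two elements of order 2 of SU_n(q) the following are equivalent — they are conjugate in SU_n(q); they are conjugate in SL_n(F); the matrices a − 1 and b − 1 have the same rank. -/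
theorem result {F : Type*} [Field F] [Fintype F] [CharP F 2] {n q : ℕ} (hF : Fintype.card F = q ^ 2) (hn : 3 ≤ n) (a b : ↥(Cfsg.SU n F q)) (ha : orderOf a = 2) (hb : orderOf b = 2) :
    (IsConj a b ↔ IsConj (a : Matrix.SpecialLinearGroup (Fin n) F) (b : Matrix.SpecialLinearGroup (Fin n) F)) ∧
    (IsConj a b ↔ (((a : Matrix.SpecialLinearGroup (Fin n) F) : Matrix (Fin n) (Fin n) F) - 1).rank = (((b : Matrix.SpecialLinearGroup (Fin n) F) : Matrix (Fin n) (Fin n) F) - 1).rank) := by
  have key : ∀ {x y : ↥(Cfsg.SU n F q)}, orderOf x = 2 → orderOf y = 2 →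
      (((x : Matrix.SpecialLinearGroup (Fin n) F) : Matrix (Fin n) (Fin n) F) - 1).rank =
        (((y : Matrix.SpecialLinearGroup (Fin n) F) : Matrix (Fin n) (Fin n) F) - 1).rank →
      IsConj x y := by
    intro x y hx hy hr
    set M := ((x : Matrix.SpecialLinearGroup (Fin n) F) : Matrix (Fin n) (Fin n) F)
    set N := ((y : Matrix.SpecialLinearGroup (Fin n) F) : Matrix (Fin n) (Fin n) F)
    have facts : ∀ (z : ↥(Cfsg.SU n F q)), orderOf z = 2 →
        let A := Matrix.toLin' (((z : Matrix.SpecialLinearGroup (Fin n) F) : Matrix (Fin n) (Fin n) F) - 1)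
        (∀ v, A (A v) = 0) ∧
          ∀ u v, Cfsg.hermForm n F q (A u) v = Cfsg.hermForm n F q u (A v) := by
      intro z hz A
      set Z := ((z : Matrix.SpecialLinearGroup (Fin n) F) : Matrix (Fin n) (Fin n) F)
      have hZ : Z * Z = 1 := by
        have h1 : z * z = 1 := by rw [← pow_two, ← hz, pow_orderOf_eq_one]
        exact congrArg (fun w : ↥(Cfsg.SU n F q) =>
          ((w : Matrix.SpecialLinearGroup (Fin n) F) : Matrix (Fin n) (Fin n) F)) h1
      have hZZ : ∀ v, Z *ᵥ (Z *ᵥ v) = v := fun v => by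
        rw [Matrix.mulVec_mulVec, hZ, Matrix.one_mulVec]
      have hA : ∀ v, A v = Z *ᵥ v - v := fun v => by
        simp [A, Matrix.toLin'_apply, Matrix.sub_mulVec, Z]
      have h2 : ∀ v : Fin n → F, v + v = 0 := fun v =>
        funext fun i => CharTwo.add_self_eq_zero (v i)
      refine ⟨fun v => ?_, fun u v => ?_⟩
      · rw [hA, hA, Matrix.mulVec_sub, hZZ, ← neg_sub (Z *ᵥ v) v, ← neg_add', h2, neg_zero]
      · rw [hA, hA, herm_sub_left, herm_sub_right hF]
        congr 1
        have := isU_of_mem_SU z u (Z *ᵥ v)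
        rw [← this, hZZ]
    obtain ⟨a1, a2⟩ := facts x hx
    obtain ⟨b1, b2⟩ := facts y hy
    obtain ⟨T, hdet, hU, hT⟩ := Cfsg.Agent.UnitaryInvolClasses.exists_conj hF
      (Matrix.toLin' (M - 1)) (Matrix.toLin' (N - 1)) a1 a2 b1 b2
      (fun h0 => by
        have hM1 : M - 1 = 0 := Matrix.toLin'.injective (by rw [h0, map_zero])
        have : x = 1 := Subtype.ext (Subtype.ext (sub_eq_zero.1 hM1))
        rw [this, orderOf_one] at hx
        omega)
      hr
    refine isConj_iff.2 ⟨mkSU (LinearMap.toMatrix' T) (by rw [LinearMap.det_toMatrix', hdet])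
      (fun u v => by
        rw [← Matrix.toLin'_apply, ← Matrix.toLin'_apply, Matrix.toLin'_toMatrix']
        exact hU u v), mul_inv_eq_iff_eq_mul.2 (Subtype.ext (Subtype.ext ?_))⟩
    have e := congrArg LinearMap.toMatrix' hT
    rw [LinearMap.toMatrix'_comp, LinearMap.toMatrix'_comp, LinearMap.toMatrix'_toLin',
      LinearMap.toMatrix'_toLin', Matrix.mul_sub, Matrix.sub_mul, Matrix.mul_one,
      Matrix.one_mul] at e
    exact sub_left_inj.1 e
  have hsl : IsConj a b → IsConj (a : Matrix.SpecialLinearGroup (Fin n) F)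
      (b : Matrix.SpecialLinearGroup (Fin n) F) :=
    fun h => (Cfsg.SU n F q).subtype.map_isConj h
  exact ⟨⟨hsl, fun h => key ha hb (rank_eq_of_isConj _ _ h)⟩,
    ⟨fun h => rank_eq_of_isConj _ _ (hsl h), key ha hb⟩⟩

end Cfsg.Agent.S2164
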