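import Cfsg.Statements.S2165
-- import your own Cfsg.Agent.* helpers here

set_option autoImplicit false
open Cfsg

namespace Cfsg.Agent.S2165

/-- The involution of `Fin n` swapping `i` and `n - ℓ + i` for `i < ℓ`. -/
def swapFun {n ℓ : ℕ} (h2 : 2 * ℓ ≤ n) (i : Fin n) : Fin n :=
  if h : i.val < ℓ then ⟨i.val + (n - ℓ), by omega⟩
  else if n - ℓ ≤ i.val then ⟨i.val - (n - ℓ), by omega⟩ else i

theorem val_swapFun {n ℓ : ℕ} (h2 : 2 * ℓ ≤ n) (i : Fin n) :
    (swapFun h2 i).val = if i.val < ℓ then i.val + (n - ℓ) else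
      if n - ℓ ≤ i.val then i.val - (n - ℓ) else i.val := by
  unfold swapFun
  split_ifs <;> rfl

theorem swapFun_swapFun {n ℓ : ℕ} (h2 : 2 * ℓ ≤ n) (i : Fin n) :
    swapFun h2 (swapFun h2 i) = i := by
  apply Fin.ext
  rw [val_swapFun, val_swapFun]
  have := i.isLt
  split_ifs <;> omega

/-- In SU_n(q), q even, n ≥ 3 (matrices of determinant 1 over the field with q² elements preserving Σ u_i v_i^q): for every ℓ with 1 ≤ ℓ and 2ℓ ≤ n, the permutation matrix of the involution of {0, …, n−1} exchanging i and n − ℓ + i for each i < ℓ lies in SU_n(q), has order 2, and differs from the identity by a matrix of rank ℓ. So every rank between 1 and n/2 occurs for involutions of SU_n(q). -/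
theorem result {F : Type*} [Field F] [Fintype F] [CharP F 2] {n q : ℕ} (hF : Fintype.card F = q ^ 2) (hn : 3 ≤ n) (ℓ : ℕ) (h1 : 1 ≤ ℓ) (h2 : 2 * ℓ ≤ n) :
    ∃ a : ↥(Cfsg.SU n F q), (((a : Matrix.SpecialLinearGroup (Fin n) F) : Matrix (Fin n) (Fin n) F) = Matrix.of (fun i j : Fin n => if (j.val < ℓ ∧ i.val = j.val + (n - ℓ)) ∨ (i.val < ℓ ∧ j.val = i.val + (n - ℓ)) ∨ (i = j ∧ ℓ ≤ i.val ∧ i.val < n - ℓ) then (1 : F) else 0)) ∧ orderOf a = 2 ∧ ((((a : Matrix.SpecialLinearGroup (Fin n) F) : Matrix (Fin n) (Fin n) F)) - 1).rank = ℓ := by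
  set σ : Equiv.Perm (Fin n) :=
    ⟨swapFun h2, swapFun h2, swapFun_swapFun h2, swapFun_swapFun h2⟩ with hσ
  set M := Matrix.of (fun i j : Fin n => if (j.val < ℓ ∧ i.val = j.val + (n - ℓ)) ∨ (i.val < ℓ ∧ j.val = i.val + (n - ℓ)) ∨ (i = j ∧ ℓ ≤ i.val ∧ i.val < n - ℓ) then (1 : F) else 0) with hMdef
  have hM : M = σ.permMatrix F := by
    ext i j
    rw [Equiv.Perm.permMatrix, PEquiv.toMatrix_apply]
    simp only [hMdef, Matrix.of_apply, Equiv.toPEquiv_apply, Option.mem_def, Option.some.injEq]
    have hval : (σ i).val = if i.val < ℓ then i.val + (n - ℓ) else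
        if n - ℓ ≤ i.val then i.val - (n - ℓ) else i.val := val_swapFun h2 i
    refine if_congr ?_ rfl rfl
    rw [Fin.ext_iff, Fin.ext_iff, hval]
    split_ifs <;> omega
  have h1' : (-1 : F) = 1 := by rw [CharTwo.neg_eq]
  have hdet : M.det = 1 := by
    rw [hM, Matrix.det_permutation]
    rcases Int.units_eq_one_or (Equiv.Perm.sign σ) with h | h <;> rw [h] <;> simp [h1']
  set a0 : Matrix.SpecialLinearGroup (Fin n) F := ⟨M, hdet⟩
  have hmem : a0 ∈ Cfsg.SU n F q := by
    intro u v
    show Cfsg.hermForm n F q (M.mulVec u) (M.mulVec v) = Cfsg.hermForm n F q u v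
    rw [hM, Matrix.permMatrix_mulVec, Matrix.permMatrix_mulVec]
    exact Equiv.sum_comp σ (fun i => u i * v i ^ q)
  let D : Matrix (Fin ℓ) (Fin n) F := Matrix.of fun k i => if i.val = k.val + (n - ℓ) then 1 else 0
  let C : Matrix (Fin n) (Fin ℓ) F := Matrix.of fun j k => if j.val = k.val then 1 else 0
  let A : Matrix (Fin n) (Fin ℓ) F := Matrix.of fun i k =>
    if i.val = k.val ∨ i.val = k.val + (n - ℓ) then 1 else 0
  have hDMC : D * (M - 1) * C = 1 := by
    ext k k'
    have := k.isLt
    have := k'.isLt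
    rw [Matrix.mul_apply, Finset.sum_eq_single ⟨k'.val, by omega⟩]
    · rw [Matrix.mul_apply, Finset.sum_eq_single ⟨k.val + (n - ℓ), by omega⟩]
      · simp only [D, C, hMdef, Matrix.of_apply, Matrix.sub_apply, Matrix.one_apply, Fin.ext_iff, if_true, one_mul, mul_one]
        split_ifs <;> (first | (simp; done) | omega)
      · intro i _ hi
        have : i.val ≠ k.val + (n - ℓ) := fun h => hi (Fin.ext h)
        simp [D, this]
      · simp
    · intro j _ hj
      have : j.val ≠ k'.val := fun h => hj (Fin.ext h)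
      simp [C, this]
    · simp
  have hAA : M - 1 = A * A.transpose := by
    ext i j
    rw [Matrix.mul_apply]
    by_cases hout : ℓ ≤ i.val ∧ i.val < n - ℓ
    · rw [Finset.sum_eq_zero]
      · simp only [hMdef, Matrix.of_apply, Matrix.sub_apply, Matrix.one_apply, Fin.ext_iff]
        split_ifs <;> (first | (simp; done) | omega)
      · intro k _
        have := k.isLt
        have : ¬ (i.val = k.val ∨ i.val = k.val + (n - ℓ)) := by omega
        simp only [A, Matrix.of_apply, if_neg this, zero_mul]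
    · rw [Finset.sum_eq_single ⟨if i.val < ℓ then i.val else i.val - (n - ℓ), by split_ifs <;> omega⟩]
      · simp only [A, hMdef, Matrix.transpose_apply, Matrix.of_apply, Matrix.sub_apply, Matrix.one_apply, Fin.ext_iff]
        have : i.val < n := i.isLt
        have : j.val < n := j.isLt
        split_ifs <;> (first | (simp [h1']; done) | omega)
      · intro k _ hk
        have := k.isLt
        have hk' : k.val ≠ if i.val < ℓ then i.val else i.val - (n - ℓ) := fun h => hk (Fin.ext h)
        have : ¬ (i.val = k.val ∨ i.val = k.val + (n - ℓ)) := by split_ifs at hk' <;> omega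
        simp only [A, Matrix.of_apply, if_neg this, zero_mul]
      · simp
  have hrank : (M - 1).rank = ℓ := by
    refine le_antisymm ?_ ?_
    · rw [hAA]
      exact (Matrix.rank_mul_le_left _ _).trans (Matrix.rank_le_width A)
    · have h := (Matrix.rank_mul_le_left (D * (M - 1)) C).trans (Matrix.rank_mul_le_right D (M - 1))
      rw [hDMC, Matrix.rank_one, Fintype.card_fin] at h
      exact h
  refine ⟨⟨a0, hmem⟩, rfl, ?_, hrank⟩
  refine orderOf_eq_prime (Subtype.ext (Subtype.ext ?_)) fun h => ?_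
  · show M ^ 2 = 1
    rw [pow_two, hM, ← Matrix.permMatrix_mul]
    have : σ * σ = 1 := Equiv.ext (swapFun_swapFun h2)
    rw [this, Matrix.permMatrix_one]
  · have h' : M = 1 := congrArg (fun x : ↥(Cfsg.SU n F q) => ((x : Matrix.SpecialLinearGroup (Fin n) F) : Matrix (Fin n) (Fin n) F)) h
    rw [h', sub_self, Matrix.rank_zero] at hrank
    omega

end Cfsg.Agent.S2165
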