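import Cfsg.Statements.S2166
import Cfsg.Agent.Lib.SympInvolClasses
import Cfsg.Agent.Lib.SymplecticBasic

set_option autoImplicit false
open Cfsg

namespace Cfsg.Agent.S2166

open Matrix Module Cfsg.Agent.SymplecticBasic

variable {F : Type*} [Field F] {m : ℕ}

/-- The symplectic form as a bilinear form. -/
noncomputable def form (m : ℕ) (F : Type*) [Field F] :
    LinearMap.BilinForm F (Fin m ⊕ Fin m → F) :=
  Matrix.toBilin' (Matrix.J (Fin m) F)

theorem form_apply (u v : Fin m ⊕ Fin m → F) : form m F u v = Cfsg.sympForm m F u v := by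
  rw [form, Matrix.toBilin'_apply']; rfl

variable [CharP F 2]

theorem facts (a : ↥(Matrix.symplecticGroup (Fin m) F)) (ha : orderOf a = 2) :
    let A := Matrix.toLin' ((a : Matrix (Fin m ⊕ Fin m) (Fin m ⊕ Fin m) F) - 1)
    (∀ x, A (A x) = 0) ∧ (∀ x y, form m F (A x) y = form m F x (A y)) ∧
      ((a : Matrix (Fin m ⊕ Fin m) (Fin m ⊕ Fin m) F) - 1).rank = finrank F (LinearMap.range A) ∧
      (∀ v, form m F v (A v) =
        Cfsg.sympForm m F v ((a : Matrix (Fin m ⊕ Fin m) (Fin m ⊕ Fin m) F) *ᵥ v)) := by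
  intro A
  set M := (a : Matrix (Fin m ⊕ Fin m) (Fin m ⊕ Fin m) F)
  have hM : M * M = 1 := by
    have h1 : a * a = 1 := by rw [← pow_two, ← ha, pow_orderOf_eq_one]
    exact congrArg Subtype.val h1
  have hMM : ∀ x, M *ᵥ (M *ᵥ x) = x := fun x => by
    rw [Matrix.mulVec_mulVec, hM, Matrix.one_mulVec]
  have hA : ∀ x, A x = M *ᵥ x - x := fun x => by
    simp [A, Matrix.toLin'_apply, Matrix.sub_mulVec, M]
  have h2 : ∀ x : Fin m ⊕ Fin m → F, x + x = 0 := fun x =>
    funext fun i => CharTwo.add_self_eq_zero (x i)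
  refine ⟨fun x => ?_, fun x y => ?_, ?_, fun v => ?_⟩
  · rw [hA, hA, Matrix.mulVec_sub, hMM, ← neg_sub (M *ᵥ x) x, ← neg_add', h2, neg_zero]
  · simp only [hA, map_sub, LinearMap.sub_apply, form_apply]
    congr 1
    rw [← mem_sp_iff_form.1 a.2 x (M *ᵥ y), hMM]
  · show _ = finrank F (LinearMap.range (Matrix.toLin' (M - 1)))
    rfl
  · rw [hA, map_sub, form_apply, form_apply, form_self, sub_zero]

theorem all_iff_of_card [Fintype F] {P Q : (Fin m ⊕ Fin m → F) → Prop}
    (hcard : Nat.card {v // P v} = Nat.card {v // Q v}) (hP : ∀ v, P v) : ∀ v, Q v := by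
  classical
  intro v
  by_contra hv
  rw [Nat.card_eq_fintype_card, Nat.card_eq_fintype_card] at hcard
  have h1 := Fintype.card_subtype_lt (p := Q) hv
  rw [← hcard, Fintype.card_of_subtype Finset.univ (fun x => by simp [hP]), Finset.card_univ] at h1
  omega

/-- Conjugacy of involutions in the symplectic group Sp_{2m}(F), F a finite field of characteristic two, m ≥ 2 (Sp taken as the matrices A with A J Aᵀ = J, acting on column vectors, with the alternating form f(u, v) = u ⬝ (J v)). For an involution t write V(t) for the set of vectors v with f(v, t v) = 0 (a subspace). Two involutions a, b are conjugate in Sp_{2m}(F) exactly when a − 1 and b − 1 have the same rank and, in case that rank is even, V(a) and V(b) have the same number of elements. -/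
theorem result {F : Type*} [Field F] [Fintype F] [CharP F 2] {m : ℕ} (hm : 2 ≤ m) (a b : ↥(Matrix.symplecticGroup (Fin m) F)) (ha : orderOf a = 2) (hb : orderOf b = 2) :
    IsConj a b ↔ ((((a : ↥(Matrix.symplecticGroup (Fin m) F)) : Matrix (Fin m ⊕ Fin m) (Fin m ⊕ Fin m) F) - 1).rank = (((b : ↥(Matrix.symplecticGroup (Fin m) F)) : Matrix (Fin m ⊕ Fin m) (Fin m ⊕ Fin m) F) - 1).rank ∧
      (Even (((a : ↥(Matrix.symplecticGroup (Fin m) F)) : Matrix (Fin m ⊕ Fin m) (Fin m ⊕ Fin m) F) - 1).rank → Nat.card {v : Fin m ⊕ Fin m → F // Cfsg.sympForm m F v (Matrix.mulVec ((a : ↥(Matrix.symplecticGroup (Fin m) F)) : Matrix (Fin m ⊕ Fin m) (Fin m ⊕ Fin m) F) v) = 0} = Nat.card {v : Fin m ⊕ Fin m → F // Cfsg.sympForm m F v (Matrix.mulVec ((b : ↥(Matrix.symplecticGroup (Fin m) F)) : Matrix (Fin m ⊕ Fin m) (Fin m ⊕ Fin m) F) v) = 0})) := by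
  set M := (a : Matrix (Fin m ⊕ Fin m) (Fin m ⊕ Fin m) F)
  set N := (b : Matrix (Fin m ⊕ Fin m) (Fin m ⊕ Fin m) F)
  constructor
  · rw [isConj_iff]
    rintro ⟨c, hc⟩
    set G := (c : Matrix (Fin m ⊕ Fin m) (Fin m ⊕ Fin m) F) with hGdef
    set G' := ((c⁻¹ : ↥(Matrix.symplecticGroup (Fin m) F)) :
      Matrix (Fin m ⊕ Fin m) (Fin m ⊕ Fin m) F)
    have h1 : G * G' = 1 := congrArg Subtype.val (mul_inv_cancel c)
    have h2 : G' * G = 1 := congrArg Subtype.val (inv_mul_cancel c)
    have hN : N = G * M * G' := (congrArg Subtype.val hc).symm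
    refine ⟨?_, fun _ => ?_⟩
    · have hN1 : N - 1 = G * (M - 1) * G' := by
        rw [hN, Matrix.mul_sub, Matrix.sub_mul, Matrix.mul_one, h1]
      rw [hN1]
      refine le_antisymm ?_ ((Matrix.rank_mul_le_left _ _).trans (Matrix.rank_mul_le_right _ _))
      calc (M - 1).rank = (G' * (G * (M - 1) * G') * G).rank := by
            rw [← Matrix.mul_assoc, ← Matrix.mul_assoc, h2, Matrix.one_mul, Matrix.mul_assoc, h2,
              Matrix.mul_one]
        _ ≤ _ := (Matrix.rank_mul_le_left _ _).trans (Matrix.rank_mul_le_right _ _)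
    · refine Nat.card_congr (Equiv.subtypeEquiv
        ⟨fun v => G *ᵥ v, fun v => G' *ᵥ v,
          fun v => by simp [Matrix.mulVec_mulVec, h2],
          fun v => by simp [Matrix.mulVec_mulVec, h1]⟩ fun v => ?_)
      simp only [Equiv.coe_fn_mk]
      rw [hN, Matrix.mulVec_mulVec, Matrix.mul_assoc, h2, Matrix.mul_one, ← Matrix.mulVec_mulVec,
        Cfsg.Agent.SymplecticBasic.mem_sp_iff_form.1 c.2]
  · rintro ⟨hrank, hcard⟩
    obtain ⟨a1, a2, a3, a4⟩ := facts a ha
    obtain ⟨b1, b2, b3, b4⟩ := facts b hb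
    have hB : (form m F).Nondegenerate := by
      refine ⟨fun u hu => SymplecticBasic.form_nondeg fun v => ?_,
        fun v hv => SymplecticBasic.form_nondeg fun u => ?_⟩
      · rw [← form_apply]; exact hu v
      · rw [SymplecticBasic.form_swap, ← form_apply, hv u, neg_zero]
    have hA : (form m F).IsAlt := fun u => by rw [form_apply, SymplecticBasic.form_self]
    have hsq : ∀ x : F, ∃ c, c ^ 2 = x :=
      Finite.injective_iff_surjective.1 (CharTwo.sq_injective (R := F))
    have halt : (∀ v, form m F v (Matrix.toLin' (M - 1) v) = 0) ↔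
        (∀ v, form m F v (Matrix.toLin' (N - 1) v) = 0) := by
      simp only [a4, b4, M, N]
      have hodd : ∀ (x : ↥(Matrix.symplecticGroup (Fin m) F)), orderOf x = 2 →
          (∀ v, Cfsg.sympForm m F v ((x : Matrix (Fin m ⊕ Fin m) (Fin m ⊕ Fin m) F) *ᵥ v) = 0) →
          Even ((x : Matrix (Fin m ⊕ Fin m) (Fin m ⊕ Fin m) F) - 1).rank := by
        intro x hx hall
        obtain ⟨x1, x2, x3, x4⟩ := facts x hx
        rw [x3]
        set A := Matrix.toLin' ((x : Matrix (Fin m ⊕ Fin m) (Fin m ⊕ Fin m) F) - 1)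
        let bl : (Fin m ⊕ Fin m → F) →ₗ[F] (Fin m ⊕ Fin m → F) →ₗ[F] F := (form m F) ∘ₗ A
        have hbl : ∀ v, bl v v = 0 := fun v => by
          show form m F (A v) v = 0
          rw [x2, x4, hall]
        have := SymplecticAlt.even_finrank_range bl hbl
        have hker : finrank F (LinearMap.range bl) = finrank F (LinearMap.range A) := by
          rw [LinearMap.range_comp]
          refine (Submodule.equivMapOfInjective (form m F) ?_ _).finrank_eq.symm
          rw [← LinearMap.ker_eq_bot, LinearMap.ker_eq_bot']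
          exact fun u hu => hB.1 u fun v => by rw [hu]; rfl
        rwa [hker] at this
      constructor
      · exact fun h => all_iff_of_card (hcard (hodd a ha h)) h
      · exact fun h => all_iff_of_card (hcard (hrank ▸ hodd b hb h)).symm h
    obtain ⟨g, hg, hgA⟩ := SympInvolClasses.exists_conj hsq (form m F) hB hA
      (Matrix.toLin' (M - 1)) (Matrix.toLin' (N - 1)) a1 a2 b1 b2
      (by rw [← a3, ← b3]; exact hrank) halt
    refine isConj_iff.2 ⟨⟨LinearMap.toMatrix' g.toLinearMap,
      SymplecticBasic.mem_sp_iff_form.2 fun u v => ?_⟩,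
      mul_inv_eq_iff_eq_mul.2 (Subtype.ext ?_)⟩
    · rw [← Matrix.toLin'_apply, ← Matrix.toLin'_apply, Matrix.toLin'_toMatrix', ← form_apply,
        ← form_apply]
      exact hg u v
    · have e := congrArg LinearMap.toMatrix'
        (LinearMap.ext hgA : g.toLinearMap ∘ₗ Matrix.toLin' (M - 1)
          = Matrix.toLin' (N - 1) ∘ₗ g.toLinearMap)
      rw [LinearMap.toMatrix'_comp, LinearMap.toMatrix'_comp, LinearMap.toMatrix'_toLin',
        LinearMap.toMatrix'_toLin', Matrix.mul_sub, Matrix.sub_mul, Matrix.mul_one,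
        Matrix.one_mul] at e
      exact sub_left_inj.1 e

end Cfsg.Agent.S2166
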