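import Cfsg.Statements.S2167
import Cfsg.Agent.Lib.SymplecticAlt

set_option autoImplicit false
open Cfsg

namespace Cfsg.Agent.S2167

open Matrix Cfsg.Agent.SymplecticBasic

/-- For an involution t of the symplectic group Sp_{2m}(F), m ≥ 2, F a finite field of characteristic two (matrices A with A J Aᵀ = J acting on column vectors, alternating form f(u, v) = u ⬝ (J v)): the set V(t) of vectors v with f(v, t v) = 0 has either q^{2m} or q^{2m−1} elements, q the order of F (it is a subspace of codimension at most 1), and if it is the whole space then t − 1 has even rank. -/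
theorem result {F : Type*} [Field F] [Fintype F] [CharP F 2] {m : ℕ} (hm : 2 ≤ m) (a : ↥(Matrix.symplecticGroup (Fin m) F)) (ha : orderOf a = 2) :
    (Nat.card {v : Fin m ⊕ Fin m → F // Cfsg.sympForm m F v (Matrix.mulVec ((a : ↥(Matrix.symplecticGroup (Fin m) F)) : Matrix (Fin m ⊕ Fin m) (Fin m ⊕ Fin m) F) v) = 0} = Fintype.card F ^ (2 * m) ∨ Nat.card {v : Fin m ⊕ Fin m → F // Cfsg.sympForm m F v (Matrix.mulVec ((a : ↥(Matrix.symplecticGroup (Fin m) F)) : Matrix (Fin m ⊕ Fin m) (Fin m ⊕ Fin m) F) v) = 0} * Fintype.card F = Fintype.card F ^ (2 * m)) ∧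
    ((∀ v : Fin m ⊕ Fin m → F, Cfsg.sympForm m F v (Matrix.mulVec ((a : ↥(Matrix.symplecticGroup (Fin m) F)) : Matrix (Fin m ⊕ Fin m) (Fin m ⊕ Fin m) F) v) = 0) → Even (((a : ↥(Matrix.symplecticGroup (Fin m) F)) : Matrix (Fin m ⊕ Fin m) (Fin m ⊕ Fin m) F) - 1).rank) := by
  classical
  set A := ((a : ↥(Matrix.symplecticGroup (Fin m) F)) : Matrix (Fin m ⊕ Fin m) (Fin m ⊕ Fin m) F)
  have haa : ∀ v, A *ᵥ (A *ᵥ v) = v := fun v => by
    have h : a * a = 1 := by rw [← pow_two, ← ha, pow_orderOf_eq_one]
    show a • a • v = v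
    rw [← mul_smul, h, one_smul]
  have hsym : ∀ x y : Fin m ⊕ Fin m → F, sympForm m F x y = sympForm m F y x := fun x y => by
    rw [form_swap y x, CharTwo.neg_eq]
  have hflip : ∀ u v, sympForm m F u (A *ᵥ v) = sympForm m F v (A *ᵥ u) := fun u v => by
    rw [← mem_sp_iff_form.mp a.2 u (A *ᵥ v), haa, hsym]
  let h : (Fin m ⊕ Fin m → F) →+ F := AddMonoidHom.mk' (fun v => sympForm m F v (A *ᵥ v))
    fun u v => by
      show sympForm m F (u + v) (A *ᵥ (u + v)) = _
      rw [Matrix.mulVec_add, form_add_left, form_add_right, form_add_right, hflip v u]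
      linear_combination CharTwo.add_self_eq_zero (sympForm m F u (A *ᵥ v))
  have hcard : Nat.card (Fin m ⊕ Fin m → F) = Fintype.card F ^ (2 * m) := by
    rw [Nat.card_fun, Nat.card_sum, Nat.card_fin, Nat.card_eq_fintype_card, two_mul]
  refine ⟨?_, fun hall => ?_⟩
  · by_cases hall : ∀ v, sympForm m F v (A *ᵥ v) = 0
    · left
      rw [← hcard]
      exact Nat.card_congr (Equiv.subtypeUnivEquiv hall)
    · right
      push Not at hall
      obtain ⟨v, hv⟩ := hall
      have hsurj : Function.Surjective h := by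
        intro c
        refine ⟨(frobeniusEquiv F 2).symm (c / sympForm m F v (A *ᵥ v)) • v, ?_⟩
        show sympForm m F _ (A *ᵥ _) = c
        rw [Matrix.mulVec_smul, form_smul_left, form_smul_right, ← mul_assoc, ← pow_two,
          frobeniusEquiv_symm_pow_p F 2, div_mul_cancel₀ _ hv]
      rw [← hcard, AddSubgroup.card_eq_card_quotient_mul_card_addSubgroup h.ker,
        Nat.card_congr (QuotientAddGroup.quotientKerEquivOfSurjective h hsurj).toEquiv,
        Nat.card_eq_fintype_card (α := F), mul_comm]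
      rfl
  · let f : (Fin m ⊕ Fin m → F) →ₗ[F] (Fin m ⊕ Fin m → F) →ₗ[F] F :=
      LinearMap.mk₂ F (sympForm m F) form_add_left form_smul_left form_add_right form_smul_right
    have hf : LinearMap.ker f = ⊥ := LinearMap.ker_eq_bot'.mpr fun u hu =>
      form_nondeg fun v => LinearMap.congr_fun hu v
    let B := f ∘ₗ (A - 1).mulVecLin
    have hB : ∀ v, B v v = 0 := fun v => by
      show sympForm m F ((A - 1) *ᵥ v) v = 0
      rw [Matrix.sub_mulVec, Matrix.one_mulVec, form_sub_left, form_self, hsym, hall v, sub_zero]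
    have hr := SymplecticAlt.even_finrank_range B hB
    rw [LinearMap.range_comp, ← ((Submodule.equivMapOfInjective f (LinearMap.ker_eq_bot.mp hf) _).finrank_eq)] at hr
    exact hr

end Cfsg.Agent.S2167
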