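import Cfsg.Statements.S2173
import Cfsg.Agent.Lib.OrthCharTwoForms

set_option autoImplicit false
open Cfsg

namespace Cfsg.Agent.S2173

open QuadraticMap Module Matrix Cfsg.Agent.OrthCharTwo Cfsg.Agent.OrthCharTwoForms

theorem no_half {F : Type*} [Field F] [Fintype F] [CharP F 2] (m : ℕ) (hm : 4 ≤ m) (c d : F)
    (hcd : ∀ z₁ z₂ : F, z₁ ^ 2 + c * z₁ * z₂ + d * z₂ ^ 2 = 0 → z₁ = 0 ∧ z₂ = 0)
    (t : ↥(Cfsg.isometryGroup F (Cfsg.quadFormMinus (m - 1) F c d))) (ht : orderOf t = 2)
    (h1 : 2 * (OrthUnitaryPrelude.mat t - 1).rank =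
      Fintype.card ((Fin (m - 1) ⊕ Fin (m - 1)) ⊕ Fin 2))
    (h2 : ∀ v, Cfsg.quadFormMinus (m - 1) F c d (v + OrthUnitaryPrelude.mat t *ᵥ v) = 0) :
    False := by
  obtain ⟨Q, e, D, hQ, hnd, -, -, happ, hrank, -, -⟩ :=
    exists_bridge (good_minus (F := F) hm hcd)
  set W := LinearMap.range (dif (e t))
  have hv2 : ∀ v : (Fin (m - 1) ⊕ Fin (m - 1)) ⊕ Fin 2 → F, v + v = 0 := fun v => funext fun i => CharTwo.add_self_eq_zero (v i)
  have hW : ∀ x ∈ W, Q x = 0 := by
    rintro _ ⟨v, rfl⟩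
    rw [dif_apply, happ, ← hQ, ← h2 v]
    congr 1
    rw [sub_eq_iff_eq_add, add_comm v, add_assoc, hv2, add_zero]
  have hdim : finrank F W = m := by
    have := h1
    rw [hrank] at this
    change 2 * finrank F W = _ at this
    rw [Fintype.card_sum, Fintype.card_sum, Fintype.card_fin, Fintype.card_fin] at this
    omega
  have hV : finrank F ((Fin (m - 1) ⊕ Fin (m - 1)) ⊕ Fin 2 → F) = 2 * m := by
    rw [Module.finrank_fintype_fun_eq_card]
    simp only [Fintype.card_sum, Fintype.card_fin]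
    omega
  have hself := perp_eq_self hnd hW (by rw [hdim, hV])
  let emb : (Fin (m - 1) → F) →ₗ[F] ((Fin (m - 1) ⊕ Fin (m - 1)) ⊕ Fin 2 → F) :=
    LinearMap.pi (Sum.elim (Sum.elim 0 (fun i => LinearMap.proj i)) 0)
  set Y := LinearMap.range emb
  have hdY : finrank F Y = m - 1 := by
    rw [LinearMap.finrank_range_of_inj (fun a b h => funext fun i => by
      simpa [emb] using congrFun h (.inl (.inr i))), Module.finrank_fintype_fun_eq_card,
      Fintype.card_fin]
  have hle : perp Q (W ⊔ Y) ≤ W ⊓ Y := by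
    intro x hx
    have hxW : x ∈ W := by
      rw [← hself]
      exact fun w hw => hx w (Submodule.mem_sup_left hw)
    refine ⟨hxW, fun i => x (.inl (.inr i)), ?_⟩
    have hx0 : ∀ i, x (.inl (.inl i)) = 0 := by
      intro i
      have h : polar Q (emb (Pi.single i 1)) x = 0 := hx _ (Submodule.mem_sup_right ⟨_, rfl⟩)
      simp [polar, ← hQ, Cfsg.quadFormMinus, emb, Pi.single_apply, add_mul, mul_add,
        Finset.sum_add_distrib, Finset.sum_ite_eq'] at h
      linear_combination h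
    have hz : x (.inr 0) = 0 ∧ x (.inr 1) = 0 := by
      refine hcd _ _ ?_
      have h := hW x hxW
      rw [← hQ] at h
      simpa [Cfsg.quadFormMinus, hx0] using h
    funext i
    rcases i with (i | i) | i
    · simp [emb, hx0]
    · simp [emb]
    · fin_cases i <;> simp [emb, hz.1, hz.2]
  have a1 := Submodule.finrank_mono hle
  have a2 := finrank_perp hnd (W ⊔ Y)
  have a3 := Submodule.finrank_sup_add_finrank_inf_eq W Y
  omega

/-- For the quadratic form Σ x_i y_i + (z₁² + c z₁ z₂ + d z₂²) in dimension 2m with anisotropic binary part over a finite field F of characteristic two, m ≥ 4 (minus type): two involutions of the commutator subgroup Ω that are conjugate in the full isometry group O are conjugate by an element of Ω (no class of involutions of O inside Ω splits). -/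
theorem result {F : Type*} [Field F] [Fintype F] [CharP F 2] {m : ℕ} (hm : 4 ≤ m) (c d : F) (hcd : ∀ z₁ z₂ : F, z₁ ^ 2 + c * z₁ * z₂ + d * z₂ ^ 2 = 0 → z₁ = 0 ∧ z₂ = 0) (t s : ↥(Cfsg.isometryGroup F (Cfsg.quadFormMinus (m - 1) F c d))) (ht : orderOf t = 2) (hs : orderOf s = 2) (htO : t ∈ Cfsg.Omega F (Cfsg.quadFormMinus (m - 1) F c d)) (hsO : s ∈ Cfsg.Omega F (Cfsg.quadFormMinus (m - 1) F c d)) (hconj : IsConj t s) :
    ∃ g ∈ Cfsg.Omega F (Cfsg.quadFormMinus (m - 1) F c d), g * t * g⁻¹ = s := by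
  have hgood := Cfsg.Agent.OrthCharTwoForms.good_minus (F := F) hm hcd
  refine Cfsg.Agent.OrthCharTwoForms.omega_conj hgood t s ht hconj ?_
  rintro ⟨h1, h2⟩
  exact Cfsg.Agent.S2173.no_half m hm c d hcd t ht h1 h2

end Cfsg.Agent.S2173
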