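import Cfsg.Statements.S2175
import Cfsg.Agent.Lib.InvolADEE6Data
import Cfsg.Agent.Lib.InvolADEClasses

set_option autoImplicit false
open Cfsg

namespace Cfsg.Agent.S2175

open Cfsg.Lie Cfsg.Agent

/-- the classes -/
def cls : List (List ℕ) := [[71], [68, 66], [55, 65, 67]]

/-- the rank of `g - 1` on the classes -/
def rk : List ℕ → ℕ := fun R => if R = [71] then 22 else if R = [68, 66] then 32 else if R = [55, 65, 67] then 38 else 0

theorem rk_inj : ∀ R ∈ cls, ∀ R' ∈ cls, rk R = rk R' → R = R' := by decide +kernel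

section

variable {F : Type*} [Field F] [CharP F 2] (C : ChevalleyCert.Cert chevE6)

theorem cls_ok : ∀ R ∈ cls, InvolADE.orthB chevE6 R = true ∧ (∀ r ∈ R, r < chevE6.nroots) ∧ 0 < rk R ∧
    (((InvolADE.lp C (F := F) R : GL chevE6.Idx F) : Matrix chevE6.Idx chevE6.Idx F) - 1).rank = rk R := by
  have hL := InvolADE.E6Data.lace
  intro R hR
  simp only [cls, List.mem_cons, List.not_mem_nil, or_false] at hR
  rcases hR with rfl | rfl | rfl
  · refine ⟨by decide +kernel, by decide +kernel, by decide, ?_⟩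
    rw [InvolADE.rank_spec C hL InvolADE.E6Data.rank1.1 InvolADE.E6Data.rank1.2.2, InvolADE.E6Data.rank1.2.1]
    simp [rk]
  · refine ⟨by decide +kernel, by decide +kernel, by decide, ?_⟩
    rw [InvolADE.rank_spec C hL InvolADE.E6Data.rank2.1 InvolADE.E6Data.rank2.2.2, InvolADE.E6Data.rank2.2.1]
    simp [rk]
  · refine ⟨by decide +kernel, by decide +kernel, by decide, ?_⟩
    rw [InvolADE.rank_spec C hL InvolADE.E6Data.rank3.1 InvolADE.E6Data.rank3.2.2, InvolADE.E6Data.rank3.2.1]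
    simp [rk]

theorem reduce : ∀ R ∈ InvolADE.E6Data.reps, R ≠ [] → ∃ g ∈ chevE6.group F, ∃ R' ∈ cls,
    g * InvolADE.lp C (F := F) R * g⁻¹ = InvolADE.lp C R' := by
  have hL := InvolADE.E6Data.lace
  intro R hR hne
  simp only [InvolADE.E6Data.reps, List.mem_cons, List.not_mem_nil, or_false] at hR
  rcases hR with rfl | rfl | rfl | rfl | rfl
  · exact absurd rfl hne
  · obtain ⟨g, hg, he⟩ := (InvolADE.refl_conj_self (F := F) C [71])
    exact ⟨g, hg, [71], by simp [cls], he⟩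
  · obtain ⟨g, hg, he⟩ := (InvolADE.refl_conj_self (F := F) C [68, 66])
    exact ⟨g, hg, [68, 66], by simp [cls], he⟩
  · obtain ⟨g, hg, he⟩ := (InvolADE.refl_conj_self (F := F) C [55, 65, 67])
    exact ⟨g, hg, [55, 65, 67], by simp [cls], he⟩
  · obtain ⟨g, hg, he⟩ := (InvolADE.trans_conj C (InvolADE.move_sound (F := F) C hL InvolADE.E6Data.move4) (InvolADE.refl_conj_self (F := F) C [55, 65, 67]))
    exact ⟨g, hg, [55, 65, 67], by simp [cls], he⟩


end

/-- Conjugacy classes of involutions in the Chevalley group of type E₆ over a finite field F of characteristic two (the matrix group generated by the root elements x_r(t)). In this problem's root numbering for type E₆ (the Chevalley data module; fundamental roots numbered so that p₁–p₃–p₄–p₅–p₆ is the long chain of the diagram and p₂ is joined to p₄; roots indexed by their coefficient vectors in increasing order) let r = 71 be the highest root (1,2,2,3,2,1), α = 68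 = (1,1,2,2,1,1), β = 66 = (1,1,1,2,2,1), γ = 55 = (0,1,1,2,2,1), δ = 65 = (1,1,1,2,1,1), ε = 67 = (1,1,2,2,1,0) (α ⊥ β and γ, δ, ε pairwise orthogonal); consider x_r(1), x_α(1)x_β(1) and x_γ(1)x_δ(1)x_ε(1). Then: each invertible matrix equal to one of these three products lies in the group and has order 2; every element of order 2 of the group is conjugate in the group to one of them; and no two of them are conjugate in the group (so, the three matrices being distinct, the group has exactly three conjugacy classes of involutions). -/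
theorem result {F : Type*} [Field F] [Fintype F] [CharP F 2] :
    (∀ y : GL Cfsg.Lie.chevE6.Idx F, ((y : GL Cfsg.Lie.chevE6.Idx F) : Matrix Cfsg.Lie.chevE6.Idx Cfsg.Lie.chevE6.Idx F) ∈ [Cfsg.Lie.chevE6.x F 71 1, Cfsg.Lie.chevE6.x F 68 1 * Cfsg.Lie.chevE6.x F 66 1, Cfsg.Lie.chevE6.x F 55 1 * Cfsg.Lie.chevE6.x F 65 1 * Cfsg.Lie.chevE6.x F 67 1] → y ∈ Cfsg.Lie.chevE6.group F ∧ orderOf y = 2) ∧
    (∀ g ∈ Cfsg.Lie.chevE6.group F, orderOf g = 2 → ∃ y ∈ Cfsg.Lie.chevE6.group F, ((y : GL Cfsg.Lie.chevE6.Idx F) : Matrix Cfsg.Lie.chevE6.Idx Cfsg.Lie.chevE6.Idx F) ∈ [Cfsg.Lie.chevE6.x F 71 1, Cfsg.Lie.chevE6.x F 68 1 * Cfsg.Lie.chevE6.x F 66 1, Cfsg.Lie.chevE6.x F 55 1 * Cfsg.Lie.chevE6.x F 65 1 * Cfsg.Lie.chevE6.x F 67 1] ∧ ∃ h ∈ Cfsg.Lie.chevE6.group F, h * g * h⁻¹ = y) ∧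
    (∀ y₁ ∈ Cfsg.Lie.chevE6.group F, ∀ y₂ ∈ Cfsg.Lie.chevE6.group F, ((y₁ : GL Cfsg.Lie.chevE6.Idx F) : Matrix Cfsg.Lie.chevE6.Idx Cfsg.Lie.chevE6.Idx F) ∈ [Cfsg.Lie.chevE6.x F 71 1, Cfsg.Lie.chevE6.x F 68 1 * Cfsg.Lie.chevE6.x F 66 1, Cfsg.Lie.chevE6.x F 55 1 * Cfsg.Lie.chevE6.x F 65 1 * Cfsg.Lie.chevE6.x F 67 1] → ((y₂ : GL Cfsg.Lie.chevE6.Idx F) : Matrix Cfsg.Lie.chevE6.Idx Cfsg.Lie.chevE6.Idx F) ∈ [Cfsg.Lie.chevE6.x F 71 1, Cfsg.Lie.chevE6.x F 68 1 * Cfsg.Lie.chevE6.x F 66 1, Cfsg.Lie.chevE6.x F 55 1 * Cfsg.Lie.chevE6.x F 65 1 * Cfsg.Lie.chevE6.x F 67 1] →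
      (∃ h ∈ Cfsg.Lie.chevE6.group F, h * y₁ * h⁻¹ = y₂) → ((y₁ : GL Cfsg.Lie.chevE6.Idx F) : Matrix Cfsg.Lie.chevE6.Idx Cfsg.Lie.chevE6.Idx F) = ((y₂ : GL Cfsg.Lie.chevE6.Idx F) : Matrix Cfsg.Lie.chevE6.Idx Cfsg.Lie.chevE6.Idx F)) := by
  have hD : chevE6 ∈ [chevG2, chevB2, chevD4, chevF4, chevE6, chevE7, chevE8] := by simp
  let C := ChevalleyAll.cert _ hD
  exact InvolADE.classes_three C InvolADE.E6Data.lace (ChevBruhatInstance.sys _ hD F) InvolADE.E6Data.reps_ok cls rk (cls_ok C) rk_inj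
    (reduce C) _ (by simp [cls, mul_assoc])

end Cfsg.Agent.S2175
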