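import Cfsg.Statements.S2176
import Cfsg.Agent.Lib.InvolADEE8Data
import Cfsg.Agent.Lib.InvolADEClasses

set_option autoImplicit false
open Cfsg

namespace Cfsg.Agent.S2176

open Cfsg.Lie Cfsg.Agent

/-- the classes -/
def cls : List (List ℕ) := [[239], [232, 233], [228, 222, 218], [226, 220, 213, 216]]

/-- the rank of `g - 1` on the classes -/
def rk : List ℕ → ℕ := fun R => if R = [239] then 58 else if R = [232, 233] then 92 else if R = [228, 222, 218] then 110 else if R = [226, 220, 213, 216] then 120 else 0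

theorem rk_inj : ∀ R ∈ cls, ∀ R' ∈ cls, rk R = rk R' → R = R' := by decide +kernel

section

variable {F : Type*} [Field F] [CharP F 2] (C : ChevalleyCert.Cert chevE8)

theorem cls_ok : ∀ R ∈ cls, InvolADE.orthB chevE8 R = true ∧ (∀ r ∈ R, r < chevE8.nroots) ∧ 0 < rk R ∧
    (((InvolADE.lp C (F := F) R : GL chevE8.Idx F) : Matrix chevE8.Idx chevE8.Idx F) - 1).rank = rk R := by
  have hL := InvolADE.E8Data.lace
  intro R hR
  simp only [cls, List.mem_cons, List.not_mem_nil, or_false] at hR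
  rcases hR with rfl | rfl | rfl | rfl
  · refine ⟨by decide +kernel, by decide +kernel, by decide, ?_⟩
    rw [InvolADE.rank_spec C hL InvolADE.E8Data.rank1.1 InvolADE.E8Data.rank1.2.2, InvolADE.E8Data.rank1.2.1]
    simp [rk]
  · refine ⟨by decide +kernel, by decide +kernel, by decide, ?_⟩
    rw [InvolADE.rank_spec C hL InvolADE.E8Data.rank2.1 InvolADE.E8Data.rank2.2.2, InvolADE.E8Data.rank2.2.1]
    simp [rk]
  · refine ⟨by decide +kernel, by decide +kernel, by decide, ?_⟩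
    rw [InvolADE.rank_spec C hL InvolADE.E8Data.rank3.1 InvolADE.E8Data.rank3.2.2, InvolADE.E8Data.rank3.2.1]
    simp [rk]
  · refine ⟨by decide +kernel, by decide +kernel, by decide, ?_⟩
    rw [InvolADE.rank_spec C hL InvolADE.E8Data.rank4.1 InvolADE.E8Data.rank4.2.2, InvolADE.E8Data.rank4.2.1]
    simp [rk]

theorem reduce : ∀ R ∈ InvolADE.E8Data.reps, R ≠ [] → ∃ g ∈ chevE8.group F, ∃ R' ∈ cls,
    g * InvolADE.lp C (F := F) R * g⁻¹ = InvolADE.lp C R' := by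
  have hL := InvolADE.E8Data.lace
  intro R hR hne
  simp only [InvolADE.E8Data.reps, List.mem_cons, List.not_mem_nil, or_false] at hR
  rcases hR with rfl | rfl | rfl | rfl | rfl | rfl | rfl | rfl | rfl | rfl
  · exact absurd rfl hne
  · obtain ⟨g, hg, he⟩ := (InvolADE.refl_conj_self (F := F) C [239])
    exact ⟨g, hg, [239], by simp [cls], he⟩
  · obtain ⟨g, hg, he⟩ := (InvolADE.refl_conj_self (F := F) C [232, 233])
    exact ⟨g, hg, [232, 233], by simp [cls], he⟩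
  · obtain ⟨g, hg, he⟩ := (InvolADE.refl_conj_self (F := F) C [228, 222, 218])
    exact ⟨g, hg, [228, 222, 218], by simp [cls], he⟩
  · obtain ⟨g, hg, he⟩ := (InvolADE.refl_conj_self (F := F) C [226, 220, 213, 216])
    exact ⟨g, hg, [226, 220, 213, 216], by simp [cls], he⟩
  · obtain ⟨g, hg, he⟩ := (InvolADE.trans_conj C (InvolADE.move_sound (F := F) C hL InvolADE.E8Data.move5) (InvolADE.refl_conj_self (F := F) C [228, 222, 218]))
    exact ⟨g, hg, [228, 222, 218], by simp [cls], he⟩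
  · obtain ⟨g, hg, he⟩ := (InvolADE.trans_conj C (InvolADE.move_sound (F := F) C hL InvolADE.E8Data.move6) (InvolADE.refl_conj_self (F := F) C [226, 220, 213, 216]))
    exact ⟨g, hg, [226, 220, 213, 216], by simp [cls], he⟩
  · obtain ⟨g, hg, he⟩ := (InvolADE.trans_conj C (InvolADE.move_sound (F := F) C hL InvolADE.E8Data.move7) (InvolADE.trans_conj C (InvolADE.move_sound (F := F) C hL InvolADE.E8Data.move6) (InvolADE.refl_conj_self (F := F) C [226, 220, 213, 216])))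
    exact ⟨g, hg, [226, 220, 213, 216], by simp [cls], he⟩
  · obtain ⟨g, hg, he⟩ := (InvolADE.trans_conj C (InvolADE.move_sound (F := F) C hL InvolADE.E8Data.move8) (InvolADE.trans_conj C (InvolADE.move_sound (F := F) C hL InvolADE.E8Data.move7) (InvolADE.trans_conj C (InvolADE.move_sound (F := F) C hL InvolADE.E8Data.move6) (InvolADE.refl_conj_self (F := F) C [226, 220, 213, 216]))))
    exact ⟨g, hg, [226, 220, 213, 216], by simp [cls], he⟩
  · obtain ⟨g, hg, he⟩ := (InvolADE.trans_conj C (InvolADE.move_sound (F := F) C hL InvolADE.E8Data.move9) (InvolADE.trans_conj C (InvolADE.move_sound (F := F) C hL InvolADE.E8Data.move8) (InvolADE.trans_conj C (InvolADE.move_sound (F := F) C hL InvolADE.E8Data.move7) (InvolADE.trans_conj C (InvolADE.move_sound (F := F) C hL InvolADE.E8Data.move6) (InvolADE.refl_conj_self (F := F) C [226, 220, 213, 216])))))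
    exact ⟨g, hg, [226, 220, 213, 216], by simp [cls], he⟩


end

/-- Conjugacy classes of involutions in the Chevalley group of type E₈ over a finite field F of characteristic two (the matrix group generated by the root elements x_r(t)). In this problem's root numbering for type E₈ (the Chevalley data module; fundamental roots numbered so that p₁–p₃–p₄–p₅–p₆–p₇–p₈ is the long chain of the diagram and p₂ is joined to p₄; roots indexed by their coefficient vectors in increasing order) let r = 239 be the highest root (2,3,4,6,5,4,3,2), α = 232 = (2,2,4,5,4,3,2,1), β = 233 = (2,3,3,5,4,3,2,1), γ = 228 = (2,2,3,4,3,2,2,1), δ = 222 = (1,2,3,4,3,3,2,1), ε = 218 = (1,2,2,4,4,3,2,1), φ = 226 = (2,2,3,4,3,2,1,0), ψ = 220 = (1,2,3,4,3,2,1,1), θ = 213 = (1,2,2,3,3,3,2,1), ω = 216 = (1,2,2,4,3,2,2,1) (the roots within each of {α, β}, {γ, δ, ε}, {φ, ψ, θ, ω} pairwise orthogonal); consider x_r(1), x_α(1)x_β(1), x_γ(1)x_δ(1)x_ε(1) and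 x_φ(1)x_ψ(1)x_θ(1)x_ω(1). Then: each invertible matrix equal to one of these four products lies in the group and has order 2; every element of order 2 of the group is conjugate in the group to one of them; and no two of them are conjugate in the group (so, the four matrices being distinct, the group has exactly four conjugacy classes of involutions). -/
theorem result {F : Type*} [Field F] [Fintype F] [CharP F 2] :
    (∀ y : GL Cfsg.Lie.chevE8.Idx F, ((y : GL Cfsg.Lie.chevE8.Idx F) : Matrix Cfsg.Lie.chevE8.Idx Cfsg.Lie.chevE8.Idx F) ∈ [Cfsg.Lie.chevE8.x F 239 1, Cfsg.Lie.chevE8.x F 232 1 * Cfsg.Lie.chevE8.x F 233 1, Cfsg.Lie.chevE8.x F 228 1 * Cfsg.Lie.chevE8.x F 222 1 * Cfsg.Lie.chevE8.x F 218 1, Cfsg.Lie.chevE8.x F 226 1 * Cfsg.Lie.chevE8.x F 220 1 * Cfsg.Lie.chevE8.x F 213 1 * Cfsg.Lie.chevE8.x F 216 1] → y ∈ Cfsg.Lie.chevE8.group F ∧ orderOf y = 2) ∧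
    (∀ g ∈ Cfsg.Lie.chevE8.group F, orderOf g = 2 → ∃ y ∈ Cfsg.Lie.chevE8.group F, ((y : GL Cfsg.Lie.chevE8.Idx F) : Matrix Cfsg.Lie.chevE8.Idx Cfsg.Lie.chevE8.Idx F) ∈ [Cfsg.Lie.chevE8.x F 239 1, Cfsg.Lie.chevE8.x F 232 1 * Cfsg.Lie.chevE8.x F 233 1, Cfsg.Lie.chevE8.x F 228 1 * Cfsg.Lie.chevE8.x F 222 1 * Cfsg.Lie.chevE8.x F 218 1, Cfsg.Lie.chevE8.x F 226 1 * Cfsg.Lie.chevE8.x F 220 1 * Cfsg.Lie.chevE8.x F 213 1 * Cfsg.Lie.chevE8.x F 216 1] ∧ ∃ h ∈ Cfsg.Lie.chevE8.group F, h * g * h⁻¹ = y) ∧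
    (∀ y₁ ∈ Cfsg.Lie.chevE8.group F, ∀ y₂ ∈ Cfsg.Lie.chevE8.group F, ((y₁ : GL Cfsg.Lie.chevE8.Idx F) : Matrix Cfsg.Lie.chevE8.Idx Cfsg.Lie.chevE8.Idx F) ∈ [Cfsg.Lie.chevE8.x F 239 1, Cfsg.Lie.chevE8.x F 232 1 * Cfsg.Lie.chevE8.x F 233 1, Cfsg.Lie.chevE8.x F 228 1 * Cfsg.Lie.chevE8.x F 222 1 * Cfsg.Lie.chevE8.x F 218 1, Cfsg.Lie.chevE8.x F 226 1 * Cfsg.Lie.chevE8.x F 220 1 * Cfsg.Lie.chevE8.x F 213 1 * Cfsg.Lie.chevE8.x F 216 1] → ((y₂ : GL Cfsg.Lie.chevE8.Idx F) : Matrix Cfsg.Lie.chevE8.Idx Cfsg.Lie.chevE8.Idx F) ∈ [Cfsg.Lie.chevE8.x F 239 1, Cfsg.Lie.chevE8.x F 232 1 * Cfsg.Lie.chevE8.x F 233 1, Cfsg.Lie.chevE8.x F 228 1 * Cfsg.Lie.chevE8.x F 222 1 * Cfsg.Lie.chevE8.x F 218 1, Cfsg.Lie.chevE8.x F 226 1 * Cfsg.Lie.chevE8.x F 220 1 * Cfsg.Lie.chevE8.x F 213 1 * Cfsg.Lie.chevE8.x F 216 1] →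
      (∃ h ∈ Cfsg.Lie.chevE8.group F, h * y₁ * h⁻¹ = y₂) → ((y₁ : GL Cfsg.Lie.chevE8.Idx F) : Matrix Cfsg.Lie.chevE8.Idx Cfsg.Lie.chevE8.Idx F) = ((y₂ : GL Cfsg.Lie.chevE8.Idx F) : Matrix Cfsg.Lie.chevE8.Idx Cfsg.Lie.chevE8.Idx F)) := by
  have hD : chevE8 ∈ [chevG2, chevB2, chevD4, chevF4, chevE6, chevE7, chevE8] := by simp
  let C := ChevalleyAll.cert _ hD
  exact InvolADE.classes_three C InvolADE.E8Data.lace (ChevBruhatInstance.sys _ hD F) (InvolADE.E8Data.reps_ok C) cls rk (cls_ok C) rk_inj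
    (reduce C) _ (by simp [cls, mul_assoc])

end Cfsg.Agent.S2176
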