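import Cfsg.Statements.S2177
import Cfsg.Agent.Lib.ChevG2InvolClasses
-- import your own Cfsg.Agent.* helpers here

set_option autoImplicit false
open Cfsg

namespace Cfsg.Agent.S2177

/-- Conjugacy classes of involutions in the Chevalley group of type G₂ over a finite field F of characteristic two with at least four elements (the matrix group generated by the root elements x_r(t)). In this problem's root numbering for type G₂ (the Chevalley data module; p₁ = a short, p₂ = b long; roots indexed by coefficient vectors in increasing order) let 11 be the highest root 3a + 2b (long) and 9 the short root 2a + b; consider x_{3a+2b}(1) and x_{2a+b}(1). Then: each invertible matrix equal to one of these two products lies in the group and has order 2; every element of order 2 of the group is conjugate in the group to one of them; and no two of them are conjugate in the group (so, the two matrices being distinct, the group has exactly two conjugacy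 classes of involutions). -/
theorem result {F : Type*} [Field F] [Fintype F] [CharP F 2] (hF : 4 ≤ Fintype.card F) :
    (∀ y : GL Cfsg.Lie.chevG2.Idx F, ((y : GL Cfsg.Lie.chevG2.Idx F) : Matrix Cfsg.Lie.chevG2.Idx Cfsg.Lie.chevG2.Idx F) ∈ [Cfsg.Lie.chevG2.x F 11 1, Cfsg.Lie.chevG2.x F 9 1] → y ∈ Cfsg.Lie.chevG2.group F ∧ orderOf y = 2) ∧
    (∀ g ∈ Cfsg.Lie.chevG2.group F, orderOf g = 2 → ∃ y ∈ Cfsg.Lie.chevG2.group F, ((y : GL Cfsg.Lie.chevG2.Idx F) : Matrix Cfsg.Lie.chevG2.Idx Cfsg.Lie.chevG2.Idx F) ∈ [Cfsg.Lie.chevG2.x F 11 1, Cfsg.Lie.chevG2.x F 9 1] ∧ ∃ h ∈ Cfsg.Lie.chevG2.group F, h * g * h⁻¹ = y) ∧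
    (∀ y₁ ∈ Cfsg.Lie.chevG2.group F, ∀ y₂ ∈ Cfsg.Lie.chevG2.group F, ((y₁ : GL Cfsg.Lie.chevG2.Idx F) : Matrix Cfsg.Lie.chevG2.Idx Cfsg.Lie.chevG2.Idx F) ∈ [Cfsg.Lie.chevG2.x F 11 1, Cfsg.Lie.chevG2.x F 9 1] → ((y₂ : GL Cfsg.Lie.chevG2.Idx F) : Matrix Cfsg.Lie.chevG2.Idx Cfsg.Lie.chevG2.Idx F) ∈ [Cfsg.Lie.chevG2.x F 11 1, Cfsg.Lie.chevG2.x F 9 1] →
      (∃ h ∈ Cfsg.Lie.chevG2.group F, h * y₁ * h⁻¹ = y₂) → ((y₁ : GL Cfsg.Lie.chevG2.Idx F) : Matrix Cfsg.Lie.chevG2.Idx Cfsg.Lie.chevG2.Idx F) = ((y₂ : GL Cfsg.Lie.chevG2.Idx F) : Matrix Cfsg.Lie.chevG2.Idx Cfsg.Lie.chevG2.Idx F)) := by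
  have hmem : Cfsg.Lie.chevG2 ∈ [Cfsg.Lie.chevG2, Cfsg.Lie.chevB2, Cfsg.Lie.chevD4, Cfsg.Lie.chevF4,
      Cfsg.Lie.chevE6, Cfsg.Lie.chevE7, Cfsg.Lie.chevE8] := List.mem_cons_self ..
  let C := ChevalleyAll.cert Cfsg.Lie.chevG2 hmem
  let S := ChevBruhatInstance.sys Cfsg.Lie.chevG2 hmem F
  have hn : Cfsg.Lie.chevG2.nroots = 12 := ChevG2InvolClasses.nroots_eq.1
  have reps : ∀ y : GL Cfsg.Lie.chevG2.Idx F,
      (y : Matrix Cfsg.Lie.chevG2.Idx Cfsg.Lie.chevG2.Idx F) ∈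
        [Cfsg.Lie.chevG2.x F 11 1, Cfsg.Lie.chevG2.x F 9 1] →
      y = ChevalleyCore.xg C 11 1 ∨ y = ChevalleyCore.xg C 9 1 := by
    intro y hy
    simp only [List.mem_cons, List.not_mem_nil, or_false] at hy
    rcases hy with h | h
    · exact Or.inl (Units.ext h)
    · exact Or.inr (Units.ext h)
  refine ⟨fun y hy => ?_, fun g hg h2 => ?_, fun y₁ _ y₂ _ h1 h2 hcj => ?_⟩
  · have key : ∀ r, r < 12 → ChevalleyCore.xg C r (1 : F) ∈ Cfsg.Lie.chevG2.group F ∧
        orderOf (ChevalleyCore.xg C r (1 : F)) = 2 := by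
      intro r hr
      refine ⟨ChevalleyCore.xg_mem_group C _ _, orderOf_eq_prime ?_ ?_⟩
      · rw [pow_two, ChevG2InvolClasses.sq_one]
      · intro h
        exact one_ne_zero (ChevBruhatInstance.xg_injective C (by omega) (by omega : r < Cfsg.Lie.chevG2.nroots)
          one_ne_zero (h.trans (ChevalleyCore.xg_zero C r).symm)).2
    rcases reps y hy with rfl | rfl
    · exact key 11 (by omega)
    · exact key 9 (by omega)
  · obtain ⟨u, hu, hgu, huu, hu1⟩ := ChevInvolClassBase.cj_into_U C S hg h2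
    rcases ChevG2InvolClasses.classify C hu huu hu1 with h | h
    · obtain ⟨m, hm, e⟩ := hgu.trans h
      exact ⟨_, ChevalleyCore.xg_mem_group C 11 1, List.mem_cons_self .., m, hm, e⟩
    · obtain ⟨m, hm, e⟩ := hgu.trans h
      exact ⟨_, ChevalleyCore.xg_mem_group C 9 1, List.mem_cons_of_mem _ (List.mem_cons_self ..), m, hm, e⟩
  · rcases reps y₁ h1 with rfl | rfl <;> rcases reps y₂ h2 with rfl | rfl
    · rfl
    · exact absurd hcj (ChevG2InvolClasses.not_cj C S)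
    · obtain ⟨m, hm, e⟩ := hcj
      exact absurd ⟨m⁻¹, inv_mem hm, by rw [← e]; group⟩ (ChevG2InvolClasses.not_cj C S)
    · rfl

end Cfsg.Agent.S2177
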