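import Cfsg.Statements.S2178
import Cfsg.Agent.Lib.ChevRootCentralizer

set_option autoImplicit false
open Cfsg

namespace Cfsg.Agent.S2178

/-- Centralizers of the long and the short root involutions in the Chevalley group G of type F₄ over a finite field F of characteristic two (this problem's root numbering for type F₄, from the Chevalley data module: fundamental roots p₁, p₂ short, p₃, p₄ long, with indices 33, 27, 25, 24, their negatives 14, 20, 22, 23; highest root 47, highest short root 44; U the subgroup generated by the positive root subgroups). For an element t of G with matrix x_47(1): the centralizer of t in G is the subgroup generated by U and the root subgroups X_{−p₁}, X_{−p₂}, X_{−p₃} (the unipotent radical of the maximal parabolic subgroup whose Levi factor has fundamental roots p₁, p₂, p₃, together with that Levi factor's root subgroups; the Levi factor is of type C₃). For an element u of G with matrix x_44(1): the centralizer of u in G is generated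 by U and X_{−p₂}, X_{−p₃}, X_{−p₄} (the same construction for the Levi factor with fundamental roots p₂, p₃, p₄, of type B₃). -/
theorem result {F : Type*} [Field F] [Fintype F] [CharP F 2] (t u : GL Cfsg.Lie.chevF4.Idx F) (ht : (t : Matrix Cfsg.Lie.chevF4.Idx Cfsg.Lie.chevF4.Idx F) = Cfsg.Lie.chevF4.x F 47 1) (hu : (u : Matrix Cfsg.Lie.chevF4.Idx Cfsg.Lie.chevF4.Idx F) = Cfsg.Lie.chevF4.x F 44 1) :
    Cfsg.Lie.chevF4.group F ⊓ Subgroup.centralizer {t} = Cfsg.Lie.chevF4.posUnipotent F ⊔ Cfsg.Lie.chevF4.rootSubgroup F 14 ⊔ Cfsg.Lie.chevF4.rootSubgroup F 20 ⊔ Cfsg.Lie.chevF4.rootSubgroup F 22 ∧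
    Cfsg.Lie.chevF4.group F ⊓ Subgroup.centralizer {u} = Cfsg.Lie.chevF4.posUnipotent F ⊔ Cfsg.Lie.chevF4.rootSubgroup F 20 ⊔ Cfsg.Lie.chevF4.rootSubgroup F 22 ⊔ Cfsg.Lie.chevF4.rootSubgroup F 23 := by
  have hD : Cfsg.Lie.chevF4 ∈ [Cfsg.Lie.chevG2, Cfsg.Lie.chevB2, Cfsg.Lie.chevD4, Cfsg.Lie.chevF4,
      Cfsg.Lie.chevE6, Cfsg.Lie.chevE7, Cfsg.Lie.chevE8] := by simp
  set C := Cfsg.Agent.ChevalleyAll.cert _ hD
  set S := Cfsg.Agent.ChevBruhatInstance.sys _ hD F
  have two : ∀ z : ℤ, (2 : ℤ) ∣ z → (z : F) = 0 := fun z hz => (CharP.intCast_eq_zero_iff F 2 z).2 hz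
  obtain rfl := (ChevalleyCore.xg_eq_iff C).1 ht
  obtain rfl := (ChevalleyCore.xg_eq_iff C).1 hu
  have hU47 : ∀ s, s < Cfsg.Lie.chevF4.nroots → Cfsg.Lie.chevF4.nroots / 2 ≤ s → s ≠ 47 →
      ∀ c ∈ Cfsg.Lie.chevF4.commTerms 47 s, (2 : ℤ) ∣ c.2.1 := by decide +kernel
  have hU44 : ∀ s, s < Cfsg.Lie.chevF4.nroots → Cfsg.Lie.chevF4.nroots / 2 ≤ s → s ≠ 44 →
      ∀ c ∈ Cfsg.Lie.chevF4.commTerms 44 s, (2 : ℤ) ∣ c.2.1 := by decide +kernel
  have hJ47 : ∀ i, i < Cfsg.Lie.chevF4.rank → i ≠ 3 →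
      ∀ c ∈ Cfsg.Lie.chevF4.commTerms 47 (Cfsg.Lie.chevF4.neg (Cfsg.Lie.chevF4.simple i)), (2 : ℤ) ∣ c.2.1 := by
    decide +kernel
  have hJ44 : ∀ i, i < Cfsg.Lie.chevF4.rank → i ≠ 0 →
      ∀ c ∈ Cfsg.Lie.chevF4.commTerms 44 (Cfsg.Lie.chevF4.neg (Cfsg.Lie.chevF4.simple i)), (2 : ℤ) ∣ c.2.1 := by
    decide +kernel
  constructor
  · rw [ChevRootCentralizer.single_centralizer C S (a := 47) (k := 3) (by decide +kernel) (by decide +kernel)
      (by decide +kernel) (by decide +kernel) (fun s h1 h2 h3 c hc => two _ (hU47 s h2 h1 h3 c hc))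
      (fun i h1 h2 c hc => two _ (hJ47 i h1 h2 c hc)),
      ChevRootCentralizer.levi_eq_closure C [47] [14, 20, 22] (by decide +kernel)]
    exact ChevRootCentralizer.closure_three C 14 20 22
  · rw [ChevRootCentralizer.single_centralizer C S (a := 44) (k := 0) (by decide +kernel) (by decide +kernel)
      (by decide +kernel) (by decide +kernel) (fun s h1 h2 h3 c hc => two _ (hU44 s h2 h1 h3 c hc))
      (fun i h1 h2 c hc => two _ (hJ44 i h1 h2 c hc)),
      ChevRootCentralizer.levi_eq_closure C [44] [20, 22, 23] (by decide +kernel)]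
    exact ChevRootCentralizer.closure_three C 20 22 23

end Cfsg.Agent.S2178
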