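import Cfsg.Statements.S2179
import Cfsg.Agent.Lib.ChevF4Involutions

set_option autoImplicit false
open Cfsg

namespace Cfsg.Agent.S2179

/-- Centralizers of the two remaining classes of involutions in the Chevalley group G of type F₄ over a finite field F of characteristic two (this problem's root numbering for type F₄, from the Chevalley data module: p₁, p₂ short, p₃, p₄ long with indices 33, 27, 25, 24 and negatives 14, 20, 22, 23; U generated by the positive root subgroups). For an element of G with matrix x_47(1)x_44(1) (highest root times highest short root): its centralizer in G is generated by U, X_{−p₂} and X_{−p₃}. For an element of G with matrix x_39(1)x_45(1) (roots (1,2,2,1) and (2,4,2,1), an orthogonal short/long pair): its centralizer in G is generated by X_{p₁}, X_{−p₁}, X_{p₄}, X_{−p₄} and the root subgroups of all positive roots other than p₂ (27), p₃ (25), p₁ + p₂ (34) and p₃ + p₄ (26). -/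
theorem result {F : Type*} [Field F] [Fintype F] [CharP F 2] (w v : GL Cfsg.Lie.chevF4.Idx F) (hw : (w : Matrix Cfsg.Lie.chevF4.Idx Cfsg.Lie.chevF4.Idx F) = Cfsg.Lie.chevF4.x F 47 1 * Cfsg.Lie.chevF4.x F 44 1) (hv : (v : Matrix Cfsg.Lie.chevF4.Idx Cfsg.Lie.chevF4.Idx F) = Cfsg.Lie.chevF4.x F 39 1 * Cfsg.Lie.chevF4.x F 45 1) :
    Cfsg.Lie.chevF4.group F ⊓ Subgroup.centralizer {w} = Cfsg.Lie.chevF4.posUnipotent F ⊔ Cfsg.Lie.chevF4.rootSubgroup F 20 ⊔ Cfsg.Lie.chevF4.rootSubgroup F 22 ∧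
    Cfsg.Lie.chevF4.group F ⊓ Subgroup.centralizer {v} = Cfsg.Lie.chevF4.rootSubgroup F 33 ⊔ Cfsg.Lie.chevF4.rootSubgroup F 14 ⊔ Cfsg.Lie.chevF4.rootSubgroup F 24 ⊔ Cfsg.Lie.chevF4.rootSubgroup F 23 ⊔
      Subgroup.closure {g : GL Cfsg.Lie.chevF4.Idx F | ∃ (r : ℕ) (c : F), Cfsg.Lie.chevF4.IsPosRoot r ∧ r ∉ [27, 25, 34, 26] ∧ (g : Matrix Cfsg.Lie.chevF4.Idx Cfsg.Lie.chevF4.Idx F) = Cfsg.Lie.chevF4.x F r c} := by
  have hD : Cfsg.Lie.chevF4 ∈ [Cfsg.Lie.chevG2, Cfsg.Lie.chevB2, Cfsg.Lie.chevD4, Cfsg.Lie.chevF4,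
      Cfsg.Lie.chevE6, Cfsg.Lie.chevE7, Cfsg.Lie.chevE8] := by simp
  set C := Cfsg.Agent.ChevalleyAll.cert _ hD
  set S := Cfsg.Agent.ChevBruhatInstance.sys _ hD F
  have two : ∀ z : ℤ, (2 : ℤ) ∣ z → (z : F) = 0 := fun z hz => (CharP.intCast_eq_zero_iff F 2 z).2 hz
  obtain rfl : w = ChevalleyCore.xg C 47 1 * ChevalleyCore.xg C 44 1 := Units.ext (by simpa using hw)
  obtain rfl : v = ChevalleyCore.xg C 39 1 * ChevalleyCore.xg C 45 1 := Units.ext (by simpa using hv)
  constructor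
  · have hU : ∀ a ∈ [44, 47], ∀ s, s < Cfsg.Lie.chevF4.nroots → Cfsg.Lie.chevF4.nroots / 2 ≤ s → s ≠ a →
        ∀ c ∈ Cfsg.Lie.chevF4.commTerms a s, (2 : ℤ) ∣ c.2.1 := by decide +kernel
    have hJ : ∀ a ∈ [44, 47], ∀ i, i < Cfsg.Lie.chevF4.rank → i ≠ 0 → i ≠ 3 →
        ∀ c ∈ Cfsg.Lie.chevF4.commTerms a (Cfsg.Lie.chevF4.neg (Cfsg.Lie.chevF4.simple i)), (2 : ℤ) ∣ c.2.1 := by
      decide +kernel
    have hne : ∀ a ∈ [44, 47], a < Cfsg.Lie.chevF4.nroots ∧ ∀ s, s < Cfsg.Lie.chevF4.nroots →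
        Cfsg.Lie.chevF4.nroots / 2 ≤ s → s ≠ Cfsg.Lie.chevF4.neg a := by decide +kernel
    have hcU : ∀ a ∈ [44, 47], ∀ s, s < Cfsg.Lie.chevF4.nroots → Cfsg.Lie.chevF4.nroots / 2 ≤ s → ∀ x y : F,
        Commute (ChevalleyCore.xg C a x) (ChevalleyCore.xg C s y) := by
      intro a ha s hs hs' x y
      by_cases h : s = a
      · subst h
        show _ * _ = _ * _
        rw [ChevalleyCore.xg_mul, ChevalleyCore.xg_mul, add_comm]
      exact ChevRootCentralizer.comm_of_terms C (hne a ha).1 hs h ((hne a ha).2 s hs hs')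
        (fun c hc => two _ (hU a ha s hs hs' h c hc)) x y
    have h47 : (47 : ℕ) < Cfsg.Lie.chevF4.nroots := by decide +kernel
    have hh44 : Cfsg.Lie.chevF4.nroots / 2 ≤ 44 := by decide +kernel
    have hh47 : Cfsg.Lie.chevF4.nroots / 2 ≤ 47 := by decide +kernel
    have hc : ∀ x y : F, Commute (ChevalleyCore.xg C 44 x) (ChevalleyCore.xg C 47 y) :=
      fun x y => hcU 44 (by simp) 47 h47 hh47 x y
    rw [← (hc 1 1).eq]
    have hcase : ∀ i, i < Cfsg.Lie.chevF4.rank → (∀ a ∈ [44, 47], Cfsg.Lie.chevF4.cartan i a = 0) →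
        i ≠ 0 ∧ i ≠ 3 := by decide +kernel
    have hsne : ∀ i, i < Cfsg.Lie.chevF4.rank → i ≠ 0 → i ≠ 3 → ∀ a ∈ [44, 47],
        Cfsg.Lie.chevF4.neg (Cfsg.Lie.chevF4.simple i) ≠ a ∧
        Cfsg.Lie.chevF4.neg (Cfsg.Lie.chevF4.simple i) ≠ Cfsg.Lie.chevF4.neg a := by decide +kernel
    have hcoord : ∀ i : Fin Cfsg.Lie.chevF4.rank, (∀ a ∈ [44, 47], Cfsg.Lie.chevF4.cartan i a = 0) ∨
        (Cfsg.Lie.chevF4.cartan i 44 = 1 ∧ ∀ j : Fin Cfsg.Lie.chevF4.rank, j ≠ i → Cfsg.Lie.chevF4.cartan j 44 = 0) ∨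
        (Cfsg.Lie.chevF4.cartan i 47 = 1 ∧ ∀ j : Fin Cfsg.Lie.chevF4.rank, j ≠ i → Cfsg.Lie.chevF4.cartan j 47 = 0) := by
      decide +kernel
    rw [ChevRootCentralizer.centralizer_eq C S [44, 47] (by decide +kernel) _ ?_ ?_ ?_ ?_,
      ChevRootCentralizer.levi_eq_closure C [44, 47] [20, 22] (by decide +kernel)]
    · exact ChevRootCentralizer.closure_two C 20 22
    · intro s hs hs' c
      exact (hcU 44 (by simp) s hs' hs 1 c).mul_left (hcU 47 (by simp) s hs' hs 1 c)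
    · intro i hi h0 c
      obtain ⟨hi0, hi3⟩ := hcase i hi h0
      have one : ∀ a ∈ [44, 47], Commute (ChevalleyCore.xg C a (1 : F))
          (ChevalleyCore.xg C (Cfsg.Lie.chevF4.neg (Cfsg.Lie.chevF4.simple i)) c) := fun a ha =>
        ChevRootCentralizer.comm_of_terms C (hne a ha).1 (C.neg_lt _) (hsne i hi hi0 hi3 a ha).1
          (hsne i hi hi0 hi3 a ha).2 (fun d hd => two _ (hJ a ha i hi hi0 hi3 d hd)) 1 c
      exact (one 44 (by simp)).mul_left (one 47 (by simp))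
    · intro m hm a ha
      obtain ⟨e1, e2⟩ := ChevRootCentralizer.pair_fix C S hh44 (by norm_num) h47 hc (by decide +kernel) m hm
      simp only [List.mem_cons, List.not_mem_nil, or_false] at ha
      rcases ha with rfl | rfl
      · exact e1
      · exact e2
    · intro c hcm i
      obtain ⟨e1, e2⟩ := ChevRootCentralizer.pair_tchar C hh44 (by norm_num) h47 c hcm
      rcases hcoord i with h | ⟨h, h'⟩ | ⟨h, h'⟩
      · exact Or.inl h
      · exact Or.inr (by rw [← ChevRootCentralizer.tchar_eq_coord C c h h']; exact e1)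
      · exact Or.inr (by rw [← ChevRootCentralizer.tchar_eq_coord C c h h']; exact e2)
  · rw [ChevF4Involutions.centralizer_eq_cand C S]
    have hsub : ∀ r ∈ ChevF4Involutions.cand, r ∈ [33, 14, 24, 23] ∨
        (r ∈ ChevF4Involutions.posL ∧ r ∉ [27, 25, 34, 26]) := by decide
    refine le_antisymm ((Subgroup.closure_le _).2 ?_) ?_
    · rintro y ⟨r, hr, c, rfl⟩
      rcases hsub r hr with h | ⟨h1, h2⟩
      · simp only [List.mem_cons, List.not_mem_nil, or_false] at h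
        have hm := ChevRootCentralizer.xg_mem_rootSub C r c
        rcases h with rfl | rfl | rfl | rfl
        · exact Subgroup.mem_sup_left (Subgroup.mem_sup_left (Subgroup.mem_sup_left (Subgroup.mem_sup_left hm)))
        · exact Subgroup.mem_sup_left (Subgroup.mem_sup_left (Subgroup.mem_sup_left (Subgroup.mem_sup_right hm)))
        · exact Subgroup.mem_sup_left (Subgroup.mem_sup_left (Subgroup.mem_sup_right hm))
        · exact Subgroup.mem_sup_left (Subgroup.mem_sup_right hm)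
      · exact Subgroup.mem_sup_right (Subgroup.subset_closure
          ⟨r, c, (ChevF4Involutions.isPos_posL C).2 h1, h2, ChevalleyCore.coe_xg C r c⟩)
    · have hroot : ∀ r ∈ [33, 14, 24, 23], Cfsg.Lie.chevF4.rootSubgroup F r ≤
          ChevRootLists.rootsSub C ChevF4Involutions.cand := by
        intro r hr
        refine (Subgroup.closure_le _).2 ?_
        rintro y ⟨c, hc⟩
        exact (ChevalleyCore.xg_eq_iff C).1 hc ▸
          ChevRootLists.mem_rootsSub C (List.mem_append_left _ hr) c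
      refine sup_le (sup_le (sup_le (sup_le (hroot 33 (by simp)) (hroot 14 (by simp))) (hroot 24 (by simp)))
        (hroot 23 (by simp))) ((Subgroup.closure_le _).2 ?_)
      rintro y ⟨r, c, hr, hnot, hy⟩
      refine (ChevalleyCore.xg_eq_iff C).1 hy ▸ ChevRootLists.mem_rootsSub C (List.mem_append_right _ ?_) c
      exact List.mem_filter.2 ⟨(ChevF4Involutions.isPos_posL C).1 hr, by simpa using hnot⟩

end Cfsg.Agent.S2179
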