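import Cfsg.Statements.S2180
import Cfsg.Agent.Lib.ChevG2Involutions

set_option autoImplicit false
open Cfsg

namespace Cfsg.Agent.S2180

/-- Centralizers of involutions in the Chevalley group G of type G₂ over a finite field F of characteristic two with at least four elements (this problem's root numbering for type G₂, from the Chevalley data module: a = p₁ short with index 7, b = p₂ long with index 6, −a = 4, −b = 5, 2a + b = 9, 3a + b = 10, 3a + 2b = 11; U generated by the positive root subgroups). For an element z of G with matrix x_{3a+2b}(1): the centralizer of z in G is generated by U and X_{−a}. For an element t of G with matrix x_{2a+b}(1): the centralizer of t in G is generated by X_{2a+b}, X_{3a+b}, X_{3a+2b}, X_b and X_{−b}. -/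
theorem result {F : Type*} [Field F] [Fintype F] [CharP F 2] (hF : 4 ≤ Fintype.card F) (z t : GL Cfsg.Lie.chevG2.Idx F) (hz : (z : Matrix Cfsg.Lie.chevG2.Idx Cfsg.Lie.chevG2.Idx F) = Cfsg.Lie.chevG2.x F 11 1) (ht : (t : Matrix Cfsg.Lie.chevG2.Idx Cfsg.Lie.chevG2.Idx F) = Cfsg.Lie.chevG2.x F 9 1) :
    Cfsg.Lie.chevG2.group F ⊓ Subgroup.centralizer {z} = Cfsg.Lie.chevG2.posUnipotent F ⊔ Cfsg.Lie.chevG2.rootSubgroup F 4 ∧
    Cfsg.Lie.chevG2.group F ⊓ Subgroup.centralizer {t} = Cfsg.Lie.chevG2.rootSubgroup F 9 ⊔ Cfsg.Lie.chevG2.rootSubgroup F 10 ⊔ Cfsg.Lie.chevG2.rootSubgroup F 11 ⊔ Cfsg.Lie.chevG2.rootSubgroup F 6 ⊔ Cfsg.Lie.chevG2.rootSubgroup F 5 := by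
  have hD : Cfsg.Lie.chevG2 ∈ [Cfsg.Lie.chevG2, Cfsg.Lie.chevB2, Cfsg.Lie.chevD4, Cfsg.Lie.chevF4,
      Cfsg.Lie.chevE6, Cfsg.Lie.chevE7, Cfsg.Lie.chevE8] := by simp
  set C := Cfsg.Agent.ChevalleyAll.cert _ hD
  set S := Cfsg.Agent.ChevBruhatInstance.sys _ hD F
  have two : ∀ x : ℤ, (2 : ℤ) ∣ x → (x : F) = 0 := fun x hx => (CharP.intCast_eq_zero_iff F 2 x).2 hx
  obtain rfl := (ChevalleyCore.xg_eq_iff C).1 hz
  obtain rfl := (ChevalleyCore.xg_eq_iff C).1 ht
  constructor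
  · have hU : ∀ s, s < Cfsg.Lie.chevG2.nroots → Cfsg.Lie.chevG2.nroots / 2 ≤ s → s ≠ 11 →
        ∀ c ∈ Cfsg.Lie.chevG2.commTerms 11 s, (2 : ℤ) ∣ c.2.1 := by decide +kernel
    have hJ : ∀ i, i < Cfsg.Lie.chevG2.rank → i ≠ 1 →
        ∀ c ∈ Cfsg.Lie.chevG2.commTerms 11 (Cfsg.Lie.chevG2.neg (Cfsg.Lie.chevG2.simple i)), (2 : ℤ) ∣ c.2.1 := by
      decide +kernel
    rw [ChevRootCentralizer.single_centralizer C S (a := 11) (k := 1) (by decide +kernel) (by decide +kernel)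
      (by decide +kernel) (by decide +kernel) (fun s h1 h2 h3 c hc => two _ (hU s h2 h1 h3 c hc))
      (fun i h1 h2 c hc => two _ (hJ i h1 h2 c hc)),
      ChevRootCentralizer.levi_eq_closure C [11] [4] (by decide +kernel), ChevRootCentralizer.closure_list C]
    simp
  · rw [ChevG2Involutions.centralizer_eq_cand C S, ChevRootLists.rootsSub]
    have : ∀ l : List ℕ, {g : GL Cfsg.Lie.chevG2.Idx F | ∃ r ∈ l, ∃ c : F, g = ChevalleyCore.xg C r c} =
        {g : GL Cfsg.Lie.chevG2.Idx F | ∃ r ∈ l, ∃ c : F, (g : Matrix Cfsg.Lie.chevG2.Idx Cfsg.Lie.chevG2.Idx F) = Cfsg.Lie.chevG2.x F r c} := by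
      intro l; ext g; simp [ChevalleyCore.xg_eq_iff C]
    rw [this, ChevRootCentralizer.closure_list C]
    simp [sup_assoc]

end Cfsg.Agent.S2180
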