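import Cfsg.Statements.S2181
import Cfsg.Agent.Lib.InvolADEE7Data
import Cfsg.Agent.Lib.InvolADEClasses

set_option autoImplicit false
open Cfsg

namespace Cfsg.Agent.S2181

open Cfsg.Lie Cfsg.Agent

/-- the classes -/
def cls : List (List ℕ) := [[63], [63, 66], [63, 66, 73], [63, 66, 78], [63, 66, 73, 78]]

/-- the rank of `g - 1` on the classes -/
def rk : List ℕ → ℕ := fun R => if R = [63] then 34 else if R = [63, 66] then 52 else if R = [63, 66, 73] then 62 else if R = [63, 66, 78] then 53 else if R = [63, 66, 73, 78] then 63 else 0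

theorem rk_inj : ∀ R ∈ cls, ∀ R' ∈ cls, rk R = rk R' → R = R' := by decide +kernel

section

variable {F : Type*} [Field F] [CharP F 2] (C : ChevalleyCert.Cert chevE7)

theorem cls_ok : ∀ R ∈ cls, InvolADE.orthB chevE7 R = true ∧ (∀ r ∈ R, r < chevE7.nroots) ∧ 0 < rk R ∧
    (((InvolADE.lp C (F := F) R : GL chevE7.Idx F) : Matrix chevE7.Idx chevE7.Idx F) - 1).rank = rk R := by
  have hL := InvolADE.E7Data.lace
  intro R hR
  simp only [cls, List.mem_cons, List.not_mem_nil, or_false] at hR
  rcases hR with rfl | rfl | rfl | rfl | rfl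
  · refine ⟨by decide +kernel, by decide +kernel, by decide, ?_⟩
    rw [InvolADE.rank_spec C hL InvolADE.E7Data.rank1.1 InvolADE.E7Data.rank1.2.2, InvolADE.E7Data.rank1.2.1]
    simp [rk]
  · refine ⟨by decide +kernel, by decide +kernel, by decide, ?_⟩
    rw [InvolADE.rank_spec C hL InvolADE.E7Data.rank2.1 InvolADE.E7Data.rank2.2.2, InvolADE.E7Data.rank2.2.1]
    simp [rk]
  · refine ⟨by decide +kernel, by decide +kernel, by decide, ?_⟩
    rw [InvolADE.rank_spec C hL InvolADE.E7Data.rank3.1 InvolADE.E7Data.rank3.2.2, InvolADE.E7Data.rank3.2.1]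
    simp [rk]
  · refine ⟨by decide +kernel, by decide +kernel, by decide, ?_⟩
    rw [InvolADE.rank_spec C hL InvolADE.E7Data.rank4.1 InvolADE.E7Data.rank4.2.2, InvolADE.E7Data.rank4.2.1]
    simp [rk]
  · refine ⟨by decide +kernel, by decide +kernel, by decide, ?_⟩
    rw [InvolADE.rank_spec C hL InvolADE.E7Data.rank5.1 InvolADE.E7Data.rank5.2.2, InvolADE.E7Data.rank5.2.1]
    simp [rk]

theorem reduce : ∀ R ∈ InvolADE.E7Data.reps, R ≠ [] → ∃ g ∈ chevE7.group F, ∃ R' ∈ cls,
    g * InvolADE.lp C (F := F) R * g⁻¹ = InvolADE.lp C R' := by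
  have hL := InvolADE.E7Data.lace
  intro R hR hne
  simp only [InvolADE.E7Data.reps, List.mem_cons, List.not_mem_nil, or_false] at hR
  rcases hR with rfl | rfl | rfl | rfl | rfl | rfl | rfl | rfl | rfl | rfl
  · exact absurd rfl hne
  · obtain ⟨g, hg, he⟩ := (InvolADE.refl_conj_self (F := F) C [63])
    exact ⟨g, hg, [63], by simp [cls], he⟩
  · obtain ⟨g, hg, he⟩ := (InvolADE.refl_conj_self (F := F) C [63, 66])
    exact ⟨g, hg, [63, 66], by simp [cls], he⟩
  · obtain ⟨g, hg, he⟩ := (InvolADE.refl_conj_self (F := F) C [63, 66, 73])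
    exact ⟨g, hg, [63, 66, 73], by simp [cls], he⟩
  · obtain ⟨g, hg, he⟩ := (InvolADE.refl_conj_self (F := F) C [63, 66, 78])
    exact ⟨g, hg, [63, 66, 78], by simp [cls], he⟩
  · obtain ⟨g, hg, he⟩ := (InvolADE.refl_conj_self (F := F) C [63, 66, 73, 78])
    exact ⟨g, hg, [63, 66, 73, 78], by simp [cls], he⟩
  · obtain ⟨g, hg, he⟩ := (InvolADE.trans_conj C (InvolADE.move_sound (F := F) C hL InvolADE.E7Data.move6) (InvolADE.refl_conj_self (F := F) C [63, 66, 73]))
    exact ⟨g, hg, [63, 66, 73], by simp [cls], he⟩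
  · obtain ⟨g, hg, he⟩ := (InvolADE.trans_conj C (InvolADE.move_sound (F := F) C hL InvolADE.E7Data.move7) (InvolADE.refl_conj_self (F := F) C [63, 66, 73, 78]))
    exact ⟨g, hg, [63, 66, 73, 78], by simp [cls], he⟩
  · obtain ⟨g, hg, he⟩ := (InvolADE.trans_conj C (InvolADE.move_sound (F := F) C hL InvolADE.E7Data.move8) (InvolADE.trans_conj C (InvolADE.move_sound (F := F) C hL InvolADE.E7Data.move7) (InvolADE.refl_conj_self (F := F) C [63, 66, 73, 78])))
    exact ⟨g, hg, [63, 66, 73, 78], by simp [cls], he⟩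
  · obtain ⟨g, hg, he⟩ := (InvolADE.trans_conj C (InvolADE.move_sound (F := F) C hL InvolADE.E7Data.move9) (InvolADE.trans_conj C (InvolADE.move_sound (F := F) C hL InvolADE.E7Data.move8) (InvolADE.trans_conj C (InvolADE.move_sound (F := F) C hL InvolADE.E7Data.move7) (InvolADE.refl_conj_self (F := F) C [63, 66, 73, 78]))))
    exact ⟨g, hg, [63, 66, 73, 78], by simp [cls], he⟩


end

/-- The Chevalley group of type E₇ over a finite field of characteristic two (the matrix group generated by the root elements) has exactly five conjugacy classes of elements of order 2. -/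
theorem result {F : Type*} [Field F] [Fintype F] [CharP F 2] :
    (ConjClasses.mk '' {g : ↥(Cfsg.Lie.chevE7.group F) | orderOf g = 2}).ncard = 5 := by
  have hD : chevE7 ∈ [chevG2, chevB2, chevD4, chevF4, chevE6, chevE7, chevE8] := by simp
  let C := ChevalleyAll.cert _ hD
  exact (InvolADE.classes_ncard C InvolADE.E7Data.lace (ChevBruhatInstance.sys _ hD F) InvolADE.E7Data.reps_ok cls
    (by decide +kernel) rk (cls_ok C) rk_inj (reduce C)).trans rfl

end Cfsg.Agent.S2181
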