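import Cfsg.Statements.S2183
import Cfsg.Agent.Lib.TwistedD4InvolRank71

set_option autoImplicit false
set_option maxHeartbeats 1000000
open Cfsg

namespace Cfsg.Agent.S2183

/-- The twisted group ³D₄(q), q even, realised inside the Chevalley group of type D₄ over the field K with q³ elements, has exactly two conjugacy classes of elements of order 2. -/
theorem result {K : Type*} [Field K] [Fintype K] [CharP K 2] (q : ℕ) (hK : Fintype.card K = q ^ 3) :
    (ConjClasses.mk '' {g : ↥(Cfsg.Lie.twistedD4 K q) | orderOf g = 2}).ncard = 2 := by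
  obtain ⟨φ, hf⟩ := TwistedField.exists_frob (n := 3) hK (by norm_num)
  have hne : ∀ {g : GL Cfsg.Lie.chevD4.Idx K} (hg : g ∈ Cfsg.Lie.twistedD4 K q), g ≠ 1 → g * g = 1 →
      orderOf (⟨g, hg⟩ : ↥(Cfsg.Lie.twistedD4 K q)) = 2 := fun hg h1 h2 =>
    orderOf_eq_prime (by rw [pow_two]; exact Subtype.ext h2) fun e => h1 (congrArg Subtype.val e)
  have hl : (TwistedD4InvolMain71.longRep : GL Cfsg.Lie.chevD4.Idx K) ∈ Cfsg.Lie.twistedD4 K q := (TwistedD4.xg_mem_p2 q (one_pow q)).1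
  have hs : (TwistedD4InvolMain71.shortRep : GL Cfsg.Lie.chevD4.Idx K) ∈ Cfsg.Lie.twistedD4 K q := by
    have := (TwistedD4Invol71.nft_mem φ hf hK (t := 0) (c := 1) (d := 0) (map_zero φ) (map_zero φ) (map_zero φ)).2
    simpa [TwistedD4Invol71.nft, TwistedD4InvolMain71.shortRep] using this
  have hs0 : (TwistedD4InvolMain71.shortRep : GL Cfsg.Lie.chevD4.Idx K) ≠ 1 := fun e => by
    simpa using congrFun (TwistedD4Invol71.nf_one e) 4
  have hl0 : (TwistedD4InvolMain71.longRep : GL Cfsg.Lie.chevD4.Idx K) ≠ 1 := fun e => by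
    have h' : D4CharTwoNf71.nf ![(0 : K), 0, 0, 1, 0, 0, 0, 0, 0, 0, 0, 0] = 1 := by
      simpa [D4CharTwoNf71.nf, TwistedD4InvolMain71.longRep] using e
    simpa using congrFun (TwistedD4Invol71.nf_one h') 3
  have hl2 : (TwistedD4InvolMain71.longRep : GL Cfsg.Lie.chevD4.Idx K) * TwistedD4InvolMain71.longRep = 1 := by
    rw [TwistedD4InvolMain71.longRep, D4CharTwoNf71.merge, TwistedD4Invol71.char2]; simp
  have hs2 : (TwistedD4InvolMain71.shortRep : GL Cfsg.Lie.chevD4.Idx K) * TwistedD4InvolMain71.shortRep = 1 := by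
    simp only [TwistedD4InvolMain71.shortRep, D4CharTwoNf71.nf]
    collect71
    simp [TwistedD4Invol71.char2]
  let L : ↥(Cfsg.Lie.twistedD4 K q) := ⟨_, hl⟩
  let S : ↥(Cfsg.Lie.twistedD4 K q) := ⟨_, hs⟩
  have himg : ConjClasses.mk '' {g : ↥(Cfsg.Lie.twistedD4 K q) | orderOf g = 2} = {ConjClasses.mk L, ConjClasses.mk S} := by
    ext C
    simp only [Set.mem_image, Set.mem_setOf_eq, Set.mem_insert_iff, Set.mem_singleton_iff]
    constructor
    · rintro ⟨g, hg, rfl⟩
      have hg2 : (g : GL Cfsg.Lie.chevD4.Idx K) * g = 1 := by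
        have := pow_orderOf_eq_one g
        rw [hg, pow_two] at this
        exact congrArg Subtype.val this
      have hg1 : (g : GL Cfsg.Lie.chevD4.Idx K) ≠ 1 := fun e => by
        rw [show g = 1 from Subtype.ext e, orderOf_one] at hg; omega
      refine (TwistedD4InvolMain71.all_involutions φ hf hK g.2 hg1 hg2).imp ?_ ?_ <;>
        exact fun ⟨x, hx, e⟩ => ConjClasses.mk_eq_mk_iff_isConj.2 (isConj_iff.2 ⟨⟨x, hx⟩, Subtype.ext e⟩)
    · rintro (rfl | rfl)
      · exact ⟨L, hne hl hl0 hl2, rfl⟩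
      · exact ⟨S, hne hs hs0 hs2, rfl⟩
  rw [himg]
  refine Set.ncard_pair fun e => ?_
  obtain ⟨x, hx⟩ := isConj_iff.1 (ConjClasses.mk_eq_mk_iff_isConj.1 e)
  exact TwistedD4InvolRank71.not_conj (x : GL Cfsg.Lie.chevD4.Idx K) (congrArg Subtype.val hx)

end Cfsg.Agent.S2183
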