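import Cfsg.Statements.S2185
import Cfsg.Agent.Lib.TitsTwoSylow15

set_option autoImplicit false
set_option maxRecDepth 10000
open Cfsg Cfsg.Agent.TitsTwo15

namespace Cfsg.Agent.S2185

/-- In the group ²F₄(2) (realised inside the Chevalley group of type F₄ over the field with two elements, θ the identity) every element of order 2 lies in the commutator subgroup (the Tits group, of index 2): there are no involutions outside it. -/
theorem result (g : ↥(Cfsg.Lie.twistedF4 (ZMod 2) 1)) (hg : orderOf g = 2) :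
    g ∈ commutator ↥(Cfsg.Lie.twistedF4 (ZMod 2) 1) := by
  haveI : Fact (Nat.Prime 2) := ⟨Nat.prime_two⟩
  have hU : IsPGroup 2 ↥(U.subgroupOf (Cfsg.Lie.twistedF4 (ZMod 2) 1)) := by
    intro x
    refine ⟨chainWords.length, Subtype.ext (Subtype.ext ?_)⟩
    simpa using U_pow (Subgroup.mem_subgroupOf.mp x.2)
  obtain ⟨P, hP⟩ := hU.exists_le_sylow
  have hPU : (P : Subgroup ↥(Cfsg.Lie.twistedF4 (ZMod 2) 1)) = U.subgroupOf (Cfsg.Lie.twistedF4 (ZMod 2) 1) := by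
    refine le_antisymm (fun p hp => ?_) hP
    by_contra hne
    set W : Subgroup ↥(P : Subgroup ↥(Cfsg.Lie.twistedF4 (ZMod 2) 1)) := (U.subgroupOf (Cfsg.Lie.twistedF4 (ZMod 2) 1)).subgroupOf (P : Subgroup ↥(Cfsg.Lie.twistedF4 (ZMod 2) 1)) with hW
    have hlt : W < ⊤ := lt_top_iff_ne_top.mpr fun h => hne (by
      have : (⟨p, hp⟩ : ↥(P : Subgroup ↥(Cfsg.Lie.twistedF4 (ZMod 2) 1))) ∈ W := by rw [h]; trivial
      exact this)
    haveI : Group.IsNilpotent ↥(P : Subgroup ↥(Cfsg.Lie.twistedF4 (ZMod 2) 1)) := P.isPGroup'.isNilpotent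
    obtain ⟨q, hq, hqW⟩ := SetLike.exists_of_lt (normalizerCondition_of_isNilpotent W hlt)
    refine hqW ?_
    show ((q : ↥(Cfsg.Lie.twistedF4 (ZMod 2) 1)) : GL _ _) ∈ U
    refine U_selfNorm (q : ↥(Cfsg.Lie.twistedF4 (ZMod 2) 1)).2 fun x hx => ?_
    have hxP : (⟨x, U_le hx⟩ : ↥(Cfsg.Lie.twistedF4 (ZMod 2) 1)) ∈ (P : Subgroup ↥(Cfsg.Lie.twistedF4 (ZMod 2) 1)) := hP (Subgroup.mem_subgroupOf.mpr hx)
    exact (Subgroup.mem_normalizer_iff.mp hq ⟨_, hxP⟩).mp hx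
  have hg2 : g ^ 2 = 1 := by
    have := pow_orderOf_eq_one g
    rwa [hg] at this
  have hz : IsPGroup 2 ↥(Subgroup.zpowers g) :=
    IsPGroup.of_card (n := 1) (by rw [Nat.card_zpowers, hg, pow_one])
  obtain ⟨Q, hQ⟩ := hz.exists_le_sylow
  obtain ⟨h, hh⟩ := MulAction.exists_smul_eq ↥(Cfsg.Lie.twistedF4 (ZMod 2) 1) Q P
  have hmem : h * g * h⁻¹ ∈ (P : Subgroup ↥(Cfsg.Lie.twistedF4 (ZMod 2) 1)) := by
    rw [← hh, Sylow.coe_subgroup_smul]
    exact ⟨g, hQ (Subgroup.mem_zpowers g), rfl⟩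
  rw [hPU, Subgroup.mem_subgroupOf] at hmem
  have hc := invol_comm hmem (by
    rw [← Subgroup.coe_mul, show h * g * h⁻¹ * (h * g * h⁻¹) = h * g ^ 2 * h⁻¹ by rw [pow_two]; group, hg2]
    simp)
  rw [← Subgroup.map_subtype_commutator] at hc
  obtain ⟨c, hcm, hce⟩ := hc
  have hce' : c = h * g * h⁻¹ := Subtype.ext hce
  have hc' : h * g * h⁻¹ ∈ commutator ↥(Cfsg.Lie.twistedF4 (ZMod 2) 1) := hce' ▸ hcm
  have := Subgroup.Normal.conj_mem (inferInstance : (commutator ↥(Cfsg.Lie.twistedF4 (ZMod 2) 1)).Normal) _ hc' h⁻¹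
  simpa [mul_assoc] using this

end Cfsg.Agent.S2185
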