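import Cfsg.Statements.S2190
import Cfsg.Agent.Lib.ChevSubfieldMain
-- import your own Cfsg.Agent.* helpers here

set_option autoImplicit false
open Cfsg

namespace Cfsg.Agent.S2190

/-- Subfield subgroups of prime degree are maximal. Let K be a finite field with q^r elements, r a prime, q a power of the characteristic, and G the Chevalley group of type G₂, B₂, D₄, F₄, E₆, E₇ or E₈ over K (the matrix group generated by the root elements). Let M be the subgroup of G consisting of the matrices all of whose entries lie in the subfield with q elements (entries c with c^q = c). Then M is a proper subgroup of G and is maximal: every subgroup of G containing M is M or G. -/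
theorem result {K : Type*} [Field K] [Fintype K] (p : ℕ) [Fact p.Prime] [CharP K p] (D : Cfsg.Lie.ChevalleyDatum) (hD : D ∈ [Cfsg.Lie.chevG2, Cfsg.Lie.chevB2, Cfsg.Lie.chevD4, Cfsg.Lie.chevF4, Cfsg.Lie.chevE6, Cfsg.Lie.chevE7, Cfsg.Lie.chevE8]) (a r : ℕ) (ha : 1 ≤ a) (hr : r.Prime) (hK : Fintype.card K = (p ^ a) ^ r) (M : Subgroup (GL D.Idx K))
    (hM : ∀ g : GL D.Idx K, g ∈ M ↔ g ∈ D.group K ∧ ∀ i j : D.Idx, ((g : Matrix D.Idx D.Idx K) i j) ^ (p ^ a) = (g : Matrix D.Idx D.Idx K) i j) :
    M ≠ D.group K ∧ ∀ H : Subgroup (GL D.Idx K), M ≤ H → H ≤ D.group K → H = M ∨ H = D.group K := by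
  classical
  let C := ChevalleyAll.cert D hD
  obtain ⟨hT, -⟩ := ChevSubfieldBorel.top_lt C (ChevSubfieldMain.data hD).1
  have hp := (Fact.out : p.Prime)
  have hq : 2 ≤ p ^ a := le_trans hp.two_le (Nat.le_self_pow (by omega) p)
  obtain ⟨S₀, h1, h2⟩ := ChevSubfieldField.fixed_card_finite hq hr.one_le hK
  refine ⟨fun h => ?_, fun H hMH hHG => ?_⟩
  · have hall : ∀ c : K, c ^ (p ^ a) = c := by
      intro c
      have hc : ChevalleyCore.xg C (ChevSubfieldData.top D) c ∈ M := h ▸ ChevalleyCore.xg_mem_group C _ _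
      have hfix := (ChevFrobeniusFixed.fr_eq_iff (iterateFrobenius K p a) _).2
        (fun i j => by rw [iterateFrobenius_def]; exact ((hM _).1 hc).2 i j)
      rw [ChevFrobeniusFixed.fr_xg _ C] at hfix
      by_cases hc0 : iterateFrobenius K p a c = 0
      · rw [map_eq_zero] at hc0
        rw [hc0, zero_pow (by omega)]
      · rw [← iterateFrobenius_def]
        exact (ChevBruhatInstance.xg_injective C hT hT hc0 hfix).2
    have h3 := ChevSubfieldField.card_fixed_le hq Finset.univ (fun x _ => hall x)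
    rw [Finset.card_univ, hK] at h3
    exact absurd h3 (not_le.2 (lt_self_pow₀ (by omega) hr.one_lt))
  haveI : Finite ↥H := inferInstance
  have hLH : Subgroup.closure {g : GL D.Idx K | ∃ (s : ℕ) (t : K), t ^ (p ^ a) = t ∧
      (g : Matrix D.Idx D.Idx K) = D.x K s t} ≤ H := by
    rw [Subgroup.closure_le]
    rintro g ⟨s, t, ht, hg⟩
    rw [(ChevalleyCore.xg_eq_iff C).1 hg]
    refine hMH ((hM _).2 ⟨ChevalleyCore.xg_mem_group C s t, fun i j => ?_⟩)
    have hfix : ChevFrobeniusFixed.fr (iterateFrobenius K p a) (ChevalleyCore.xg C s t) = ChevalleyCore.xg C s t := by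
      rw [ChevFrobeniusFixed.fr_xg _ C, iterateFrobenius_def, ht]
    rw [← iterateFrobenius_def]
    exact (ChevFrobeniusFixed.fr_eq_iff _ _).1 hfix i j
  obtain ⟨r', -, hgen, hfix⟩ := ChevSubfieldMain.overgroup p hD ha hHG S₀ h1 h2 hLH
  have per : ∀ (x : K) (n : ℕ), x ^ ((p ^ a) ^ n) = x ↔ Function.IsPeriodicPt (fun y : K => y ^ (p ^ a)) n x := by
    intro x n
    have : ∀ m, (fun y : K => y ^ (p ^ a))^[m] x = x ^ ((p ^ a) ^ m) := by
      intro m
      induction m with
      | zero => simp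
      | succ m ih => rw [Function.iterate_succ_apply', ih, ← pow_mul, ← pow_succ]
    rw [Function.IsPeriodicPt, Function.IsFixedPt, this]
  have hKall : ∀ x : K, x ^ ((p ^ a) ^ r) = x := fun x => by rw [← hK]; exact FiniteField.pow_card x
  rcases Nat.coprime_or_dvd_of_prime hr r' with hco | hdvd
  · refine Or.inl (le_antisymm (fun g hg => (hM g).2 ⟨hHG hg, fun i j => ?_⟩) hMH)
    have h5 := ((per _ _).1 (hKall ((g : Matrix D.Idx D.Idx K) i j))).gcd ((per _ _).1 (hfix g hg i j))
    rw [hco.gcd_eq_one, ← per, pow_one] at h5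
    exact h5
  · refine Or.inr (le_antisymm hHG ((Subgroup.closure_le _).2 ?_))
    rintro g ⟨s, t, hg⟩
    refine hgen (Subgroup.subset_closure ⟨s.val, t, ?_, by rw [hg, Cfsg.Lie.ChevalleyDatum.x, dif_pos s.isLt]⟩)
    obtain ⟨m, rfl⟩ := hdvd
    exact (per _ _).2 (((per _ _).1 (hKall t)).mul_const m)

end Cfsg.Agent.S2190
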