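import Cfsg.Statements.S2197
import Cfsg.Agent.Lib.TitsTwoTransitive15

set_option autoImplicit false
set_option maxRecDepth 10000
open scoped Pointwise
open Cfsg Cfsg.Agent.TitsTwo15

namespace Cfsg.Agent.S2197

/-- The Tits group (the commutator subgroup of ²F₄(2)) has no faithful 2-transitive action on a finite set with more than two points. -/
theorem result {Ω : Type*} [Fintype Ω] [MulAction Cfsg.Lie.TitsGroup Ω] [FaithfulSMul Cfsg.Lie.TitsGroup Ω] (hΩ : 3 ≤ Fintype.card Ω) :
    ¬ MulAction.IsMultiplyPretransitive Cfsg.Lie.TitsGroup Ω 2 := by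
  intro h2
  classical
  set n := Fintype.card Ω with hn
  haveI : MulAction.IsPretransitive Cfsg.Lie.TitsGroup (Fin 2 ↪ Ω) := h2
  haveI h1 : MulAction.IsPretransitive Cfsg.Lie.TitsGroup Ω :=
    MulAction.is_one_pretransitive_iff.mp (MulAction.isMultiplyPretransitive_of_le' (by norm_num : 1 ≤ 2) (by
      rw [ENat.card_eq_coe_fintype_card]; exact_mod_cast (by omega : 2 ≤ Fintype.card Ω)))
  obtain ⟨a, b, hab⟩ := Fintype.exists_pair_of_one_lt_card (by omega : 1 < Fintype.card Ω)
  have hdesc : n * (n - 1) ∣ Nat.card Cfsg.Lie.TitsGroup := by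
    let x : Fin 2 ↪ Ω := ⟨![a, b], by
      intro i j h
      fin_cases i <;> fin_cases j <;> simp_all⟩
    have h := Subgroup.card_mul_index (MulAction.stabilizer Cfsg.Lie.TitsGroup x)
    rw [MulAction.index_stabilizer, MulAction.orbit_eq_univ, Set.ncard_univ, Nat.card_eq_fintype_card (α := Fin 2 ↪ Ω),
      Fintype.card_embedding_eq, Fintype.card_fin] at h
    exact ⟨Nat.card ↥(MulAction.stabilizer Cfsg.Lie.TitsGroup x), by
      rw [← h, Nat.descFactorial_succ, Nat.descFactorial_one]; ring⟩
  have hdvd := hdesc.trans card_T_dvd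
  have hn6 : n < 6001 := by
    by_contra h
    have h3 := Nat.le_of_dvd (by norm_num) hdvd
    have h4 : 6001 * 6000 ≤ n * (n - 1) := Nat.mul_le_mul (by omega) (by omega)
    omega
  have hcand := degChk_ok
  simp only [degChk, List.all_eq_true, List.mem_range, Bool.or_eq_true, decide_eq_true_eq] at hcand
  have hmem : n ∈ [3, 4, 5, 6, 9, 10, 13, 16, 25, 26, 27, 40, 65] := by
    rcases hcand n hn6 with (h | h) | h
    · omega
    · exact absurd (Nat.mod_eq_zero_of_dvd hdvd) h
    · exact h
  have hidx : ∀ c : Ω, (MulAction.stabilizer Cfsg.Lie.TitsGroup c).index = n := fun c => by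
    rw [MulAction.index_stabilizer, MulAction.orbit_eq_univ, Set.ncard_univ, Nat.card_eq_fintype_card]
  obtain ⟨f, hf1, hf2, hf3⟩ := five_bound (Ω := Ω)
  simp only [List.mem_cons, List.not_mem_nil, or_false] at hmem
  have hodd : Odd n → n ≤ 325 → False := fun ho hle =>
    no_small_odd_index _ (by rwa [hidx a]) (by rw [hidx a]; omega) (by rw [hidx a]; exact hle)
  rcases hmem with h | h | h | h | h | h | h | h | h | h | h | h | h
  iterate 8 (rw [← hn, h] at hf1 hf2; omega)
  · exact hodd (by rw [h]; decide) (by omega)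
  · -- unordered pairs
    refine no_small_odd_index (MulAction.stabilizer Cfsg.Lie.TitsGroup ({a, b} : Finset Ω)) ?_ ?_ ?_
    all_goals
      have horb : MulAction.orbit Cfsg.Lie.TitsGroup ({a, b} : Finset Ω) =
          ↑(Finset.powersetCard 2 (Finset.univ : Finset Ω)) := by
        ext s
        simp only [Finset.mem_coe, Finset.mem_powersetCard, Finset.subset_univ, true_and]
        constructor
        · rintro ⟨g, rfl⟩
          simp only [Finset.card_smul_finset, Finset.card_pair hab]
        · intro hs
          obtain ⟨c, d, hcd, rfl⟩ := Finset.card_eq_two.mp hs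
          obtain ⟨g, hga, hgb⟩ := MulAction.is_two_pretransitive_iff.mp h2 hab hcd
          exact ⟨g, by simp [Finset.smul_finset_insert, Finset.smul_finset_singleton, hga, hgb]⟩
      rw [MulAction.index_stabilizer, horb, Set.ncard_coe_finset, Finset.card_powersetCard, Finset.card_univ,
        ← hn, h]
      decide
  · exact hodd (by rw [h]; decide) (by omega)
  · have h3 := hf3 (by rw [← hn]; exact h) (fun c hc => by
      have h4 := (MulAction.stabilizer Cfsg.Lie.TitsGroup c).card_mul_index
      rw [hidx c, h] at h4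
      obtain ⟨k, hk⟩ := hc
      obtain ⟨l, hl⟩ := card_T_dvd
      rw [← h4, hk] at hl
      have : 1000 ∣ 35942400 := ⟨k * l, by rw [hl]; ring⟩
      omega)
    rw [← hn, h] at hf2
    omega
  · exact hodd (by rw [h]; decide) (by omega)

end Cfsg.Agent.S2197
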