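import Cfsg.Statements.S2205
import Cfsg.Agent.Lib.PSquarePlusOne23

set_option autoImplicit false
open Cfsg

namespace Cfsg.Agent.S2205

open MulAction
open scoped Pointwise


/-- A finite group acting faithfully and 2-transitively on a set with p² + 1 points, p a prime, is doubly primitive — a point stabilizer acts primitively on the remaining p² points — unless p = 2 and the group is the Frobenius group of order 20. -/
theorem result {G Ω : Type*} [Group G] [Finite G] [Fintype Ω] [MulAction G Ω] [FaithfulSMul G Ω] (p : ℕ) (hp : p.Prime) (hΩ : Fintype.card Ω = p ^ 2 + 1) (h2 : MulAction.IsMultiplyPretransitive G Ω 2) (a : Ω) :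
    MulAction.IsPreprimitive ↥(MulAction.stabilizer G a) ↥(SubMulAction.ofStabilizer G a) ∨ (p = 2 ∧ Nat.card G = 20) := by
  classical
  haveI : Fact p.Prime := ⟨hp⟩
  have htwo : ∀ x y u v : Ω, x ≠ y → u ≠ v → ∃ g : G, g • x = u ∧ g • y = v :=
    fun x y u v h h' => (is_two_pretransitive_iff.1 h2) h h'
  refine or_iff_not_imp_left.2 fun hnp => ?_
  let H := stabilizer G a
  let X := ↥(SubMulAction.ofStabilizer G a)
  haveI hX : IsPretransitive H X := ⟨fun x y => by
    obtain ⟨g, hga, hgx⟩ := htwo a x.1 a y.1 (Ne.symm x.2) (Ne.symm y.2)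
    exact ⟨⟨g, hga⟩, Subtype.ext hgx⟩⟩
  obtain ⟨b, hab⟩ : ∃ b, a ≠ b := by
    obtain ⟨b, hb⟩ := Fintype.exists_ne_of_one_lt_card
      (by rw [hΩ]; have := pow_pos hp.pos 2; omega) a
    exact ⟨b, hb.symm⟩
  obtain ⟨B0, hb0, hB0, hne⟩ : ∃ B0 : Set X,
      (⟨b, hab.symm⟩ : X) ∈ B0 ∧ IsBlock H B0 ∧ ¬IsTrivialBlock B0 := by
    by_contra h
    push Not at h
    exact hnp (IsPreprimitive.of_isTrivialBlock_base (⟨b, hab.symm⟩ : X) fun h1 h2 => h _ h1 h2)
  have hXcard : Nat.card X = p ^ 2 := by
    have e : X ≃ {x : Ω // x ≠ a} := Equiv.subtypeEquivRight fun x => Iff.rfl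
    rw [Nat.card_congr e, Nat.card_eq_fintype_card, Fintype.card_subtype_compl, hΩ,
      Fintype.card_subtype_eq, Nat.add_sub_cancel]
  have hcard : B0.ncard = p := by
    have h := hB0.ncard_dvd_card ⟨_, hb0⟩
    rw [hXcard] at h
    obtain ⟨i, hi, hi'⟩ := (Nat.dvd_prime_pow hp).1 h
    interval_cases i
    · refine absurd (Or.inl ?_) hne
      rw [pow_zero, Set.ncard_eq_one] at hi'
      obtain ⟨x, rfl⟩ := hi'
      exact Set.subsingleton_singleton
    · rw [hi', pow_one]
    · refine absurd (Or.inr ?_) hne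
      exact Set.eq_of_subset_of_ncard_le (Set.subset_univ _)
        (by rw [Set.ncard_univ, hXcard, hi']) (Set.toFinite _)
  let c : Finset Ω := (Subtype.val '' B0).toFinset
  have hc : ∀ z, z ∈ c ↔ ∃ h : z ≠ a, (⟨z, h⟩ : X) ∈ B0 := fun z => by
    simp only [c, Set.mem_toFinset, Set.mem_image]
    exact ⟨fun ⟨x, hx, e⟩ => e ▸ ⟨x.2, hx⟩, fun ⟨h, hx⟩ => ⟨⟨z, h⟩, hx, rfl⟩⟩
  have hccard : c.card = p := by
    rw [← Set.ncard_eq_toFinset_card', Set.ncard_image_of_injective _ Subtype.val_injective, hcard]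
  have hbc : b ∈ c := (hc b).2 ⟨hab.symm, hb0⟩
  -- an element of the stabiliser moving a point of the block into it fixes the block
  have hblock : ∀ g : G, g • a = a → ∀ z ∈ c, g • z ∈ c → ∀ w ∈ c, g • w ∈ c := by
    intro g hga z hz hgz w hw
    obtain ⟨h1, h2⟩ := (hc z).1 hz
    obtain ⟨h3, h4⟩ := (hc _).1 hgz
    obtain ⟨h5, h6⟩ := (hc w).1 hw
    have hsm : (⟨g, hga⟩ : H) • B0 = B0 := hB0.smul_eq_of_mem h2 h4
    have := Set.smul_mem_smul_set (a := (⟨g, hga⟩ : H)) h6
    rw [hsm] at this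
    exact (hc _).2 ⟨fun e => h5 (smul_left_cancel g (e.trans hga.symm)), this⟩
  let B : Ω → Ω → Finset Ω := fun x y =>
    if h : x ≠ y then c.image ((htwo a b x y hab h).choose • ·) else ∅
  -- the definition does not depend on the element chosen
  have hB : ∀ (g : G) z, z ∈ B (g • a) (g • b) ↔ g⁻¹ • z ∈ c := by
    intro g z
    have hne' : g • a ≠ g • b := fun e => hab (smul_left_cancel g e)
    simp only [B, dif_pos hne', Finset.mem_image]
    obtain ⟨e1, e2⟩ := (htwo a b _ _ hab hne').choose_spec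
    generalize (htwo a b _ _ hab hne').choose = k at e1 e2 ⊢
    have key : ∀ u v : G, u • a = v • a → u • b = v • b → ∀ w ∈ c, (u⁻¹ * v) • w ∈ c := by
      intro u v h1 h2 w hw
      refine hblock _ (by rw [mul_smul, ← h1, inv_smul_smul]) b hbc ?_ w hw
      rwa [mul_smul, ← h2, inv_smul_smul]
    constructor
    · rintro ⟨w, hw, rfl⟩
      rw [← mul_smul]
      exact key g k e1.symm e2.symm w hw
    · intro h
      refine ⟨k⁻¹ • z, ?_, smul_inv_smul k z⟩
      have := key k g e1 e2 _ h
      rwa [mul_smul, smul_inv_smul] at this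
  have hcase : ∀ x y : Ω, x ≠ y → ∃ g : G, g • a = x ∧ g • b = y :=
    fun x y h => htwo a b x y hab h
  let S : PSquarePlusOne23.Sys G Ω p :=
    { B := B
      two := htwo
      mem := fun {x y} h => by
        obtain ⟨g, rfl, rfl⟩ := hcase x y h
        rw [hB, inv_smul_smul]
        exact hbc
      notMem := fun {x y} h hx => by
        obtain ⟨g, rfl, rfl⟩ := hcase x y h
        rw [hB, inv_smul_smul, hc] at hx
        exact hx.1 rfl
      card := fun {x y} h => by
        simp only [B, dif_pos h]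
        rw [Finset.card_image_of_injective _ (MulAction.injective _), hccard]
      eq_of_mem := fun {x y z} h hz => by
        obtain ⟨g, rfl, rfl⟩ := hcase x y h
        rw [hB] at hz
        obtain ⟨hz1, hz2⟩ := (hc _).1 hz
        obtain ⟨k, hka, hkb⟩ := htwo a b a (g⁻¹ • z) hab hz1.symm
        have hk : ∀ w ∈ c, k • w ∈ c := hblock k hka b hbc (hkb ▸ hz)
        have h1 : g • a = (g * k) • a := by rw [mul_smul, hka]
        have h2 : z = (g * k) • b := by rw [mul_smul, hkb, smul_inv_smul]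
        ext w
        conv_lhs => rw [h1, h2, hB]
        rw [hB, mul_inv_rev, mul_smul]
        refine ⟨fun hw => ?_, fun hw => ?_⟩
        · have := hk _ hw
          rwa [smul_inv_smul] at this
        · exact hblock k⁻¹ (inv_smul_eq_iff.2 hka.symm) (g⁻¹ • z) hz
            (by rw [← hkb, inv_smul_smul]; exact hbc) _ hw
      map := fun g {x y z} h hz => by
        obtain ⟨k, rfl, rfl⟩ := hcase x y h
        rw [hB] at hz
        rw [smul_smul, smul_smul, hB, mul_inv_rev, mul_smul, inv_smul_smul]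
        exact hz }
  exact S.main hΩ hab

end Cfsg.Agent.S2205
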