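import Cfsg.Statements.S2209
import Cfsg.Agent.Lib.ChevRootCentralizer

set_option autoImplicit false
open Cfsg

namespace Cfsg.Agent.S2209

/-- Centralizer of a long root involution in the Chevalley groups of type E₆, E₇, E₈ over a finite field F of characteristic two. Let G be the group generated by the root elements, U the subgroup generated by the positive root subgroups, r the highest root (the last root index: 71, 125, 239 respectively), and t the element of G with matrix x_r(1). Then the centralizer of t in G is the subgroup generated by U together with the root subgroups X_{−p} for the fundamental roots p orthogonal to r — all fundamental roots except p₂ for E₆, except p₁ for E₇, except p₈ for E₈ (numbering with p₁–p₃–p₄–…–p_l the long chain and p₂ joined to p₄); the indices of these negative fundamental roots are 15, 29, 32, 34, 35 (E₆), 47, 52, 56, 59, 61, 62 (E₇), 77, 98, 104, 109, 113, 116, 118 (E₈). (This is the unipotent radical of the corresponding maximal parabolic subgroup extended by the root subgroups of its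 Levi factor, of type A₅, D₆, E₇ respectively.) -/
theorem result {F : Type*} [Field F] [Fintype F] [CharP F 2] (d : Cfsg.Lie.ChevalleyDatum × List ℕ)
    (hd : d ∈ [(Cfsg.Lie.chevE6, [15, 29, 32, 34, 35]), (Cfsg.Lie.chevE7, [47, 52, 56, 59, 61, 62]), (Cfsg.Lie.chevE8, [77, 98, 104, 109, 113, 116, 118])])
    (t : GL d.1.Idx F) (ht : (t : Matrix d.1.Idx d.1.Idx F) = d.1.x F (d.1.nroots - 1) 1) :
    d.1.group F ⊓ Subgroup.centralizer {t} = d.1.posUnipotent F ⊔ Subgroup.closure {g : GL d.1.Idx F | ∃ s ∈ d.2, ∃ c : F, (g : Matrix d.1.Idx d.1.Idx F) = d.1.x F s c} := by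
  have hex : d.1 ∈ [Cfsg.Lie.chevE6, Cfsg.Lie.chevE7, Cfsg.Lie.chevE8] ∧
      d.2 = ((List.range d.1.rank).filter fun i => [d.1.nroots - 1].all fun a => d.1.cartan i a == 0).map
        (fun i => d.1.neg (d.1.simple i)) ∧
      ∃ k, k < d.1.rank ∧
        (∀ i, i < d.1.rank → d.1.cartan i (d.1.nroots - 1) = if i = k then 1 else 0) ∧
        ∀ i, i < d.1.rank → i ≠ k → d.1.commTerms (d.1.nroots - 1) (d.1.neg (d.1.simple i)) = [] := by
    simp only [List.mem_cons, List.not_mem_nil, or_false] at hd
    rcases hd with rfl | rfl | rfl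
    · exact ⟨by simp, by decide +kernel, 1, by decide +kernel⟩
    · exact ⟨by simp, by decide +kernel, 0, by decide +kernel⟩
    · exact ⟨by simp, by decide +kernel, 7, by decide +kernel⟩
  obtain ⟨h3, hl, k, hk, hcart, hJ⟩ := hex
  have hD : d.1 ∈ [Cfsg.Lie.chevG2, Cfsg.Lie.chevB2, Cfsg.Lie.chevD4, Cfsg.Lie.chevF4, Cfsg.Lie.chevE6,
      Cfsg.Lie.chevE7, Cfsg.Lie.chevE8] := by
    simp only [List.mem_cons, List.not_mem_nil, or_false] at h3 ⊢
    tauto
  set C := Cfsg.Agent.ChevalleyAll.cert d.1 hD
  have he := C.even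
  have hn : 2 ≤ d.1.nroots := by
    have h1 := C.simple_mem k hk
    omega
  rw [(ChevalleyCore.xg_eq_iff C).1 ht, ← ChevRootCentralizer.levi_eq_closure C [d.1.nroots - 1] d.2 hl]
  refine ChevRootCentralizer.single_centralizer C (ChevBruhatInstance.sys d.1 hD F) (by omega) (by omega) hk
    hcart ?_ fun i hi hik c hc => by rw [hJ i hi hik] at hc; simp at hc
  intro s hs hs' hne c hc
  exfalso
  obtain ⟨hc1, hi, hj, -⟩ := ChevalleyRoots.commTerms_mem C (by omega) hs' hc
  have hkey := ChevalleyUnipotent.key_commTerm C (by omega) hs' hc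
  have p1 := (ChevalleyRoots.key_pos C (show d.1.nroots - 1 < d.1.nroots by omega)).2 (by omega)
  have p2 := (ChevalleyRoots.key_pos C hs').2 hs
  have i1 : (1 : ℤ) ≤ c.2.2.1 := by exact_mod_cast hi
  have j1 : (1 : ℤ) ≤ c.2.2.2 := by exact_mod_cast hj
  have hle : ChevalleyRoots.key C c.1 ≤ ChevalleyRoots.key C (d.1.nroots - 1) := by
    rcases eq_or_lt_of_le (show c.1 ≤ d.1.nroots - 1 by omega) with e | e
    · rw [e]
    · exact (ChevalleyRoots.key_lt C (by omega) e).le
  rw [hkey] at hle
  nlinarith

end Cfsg.Agent.S2209
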