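import Cfsg.Statements.S2214
import Cfsg.Agent.Lib.ChevFrobeniusFixed

set_option autoImplicit false
open Cfsg

namespace Cfsg.Agent.S2214

/-- Let k be an algebraically closed field of prime characteristic p, G the adjoint Chevalley group of type G₂, B₂, D₄, F₄, E₆, E₇ or E₈ over k (the matrix group generated by the root elements x_s(t), t ∈ k, acting on the Lie algebra), q = p^a with a ≥ 1, and K a subgroup of G containing every root element x_s(t) with t^q = t and consisting of matrices all of whose entries c satisfy c^q = c. Then the centralizer of K in G is trivial, and the normalizer of K in G is exactly the set of elements of G all of whose entries c satisfy c^q = c. -/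
theorem result {k : Type*} [Field k] [IsAlgClosed k] (p : ℕ) [Fact p.Prime] [CharP k p] (D : Cfsg.Lie.ChevalleyDatum) (hD : D ∈ [Cfsg.Lie.chevG2, Cfsg.Lie.chevB2, Cfsg.Lie.chevD4, Cfsg.Lie.chevF4, Cfsg.Lie.chevE6, Cfsg.Lie.chevE7, Cfsg.Lie.chevE8]) (a : ℕ) (ha : 1 ≤ a) (K : Subgroup (GL D.Idx k)) (hKG : K ≤ D.group k)
    (hLK : Subgroup.closure {g : GL D.Idx k | ∃ (s : ℕ) (t : k), t ^ (p ^ a) = t ∧ (g : Matrix D.Idx D.Idx k) = D.x k s t} ≤ K)
    (hKfix : ∀ g ∈ K, ∀ i j : D.Idx, ((g : Matrix D.Idx D.Idx k) i j) ^ (p ^ a) = (g : Matrix D.Idx D.Idx k) i j) :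
    D.group k ⊓ Subgroup.centralizer (K : Set (GL D.Idx k)) = ⊥ ∧
    ∀ g : GL D.Idx k, g ∈ D.group k → (g ∈ Subgroup.normalizer (K : Set (GL D.Idx k)) ↔ ∀ i j : D.Idx, ((g : Matrix D.Idx D.Idx k) i j) ^ (p ^ a) = (g : Matrix D.Idx D.Idx k) i j) := by
  set C := Cfsg.Agent.ChevalleyAll.cert D hD
  set S := Cfsg.Agent.ChevBruhatInstance.sys D hD k
  haveI : ExpChar k p := ExpChar.prime (Fact.out : p.Prime)
  set σ : k →+* k := iterateFrobenius k p a with hσdef
  have hσ : ∀ x : k, σ x = x ^ (p ^ a) := fun x => iterateFrobenius_def p a x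
  have hfix : ∀ g : GL D.Idx k, (∀ i j : D.Idx, ((g : Matrix D.Idx D.Idx k) i j) ^ (p ^ a) =
      (g : Matrix D.Idx D.Idx k) i j) ↔ ChevFrobeniusFixed.fr σ g = g := fun g => by
    simp only [ChevFrobeniusFixed.fr_eq_iff, hσ]
  have hL : ∀ l ∈ ChevFrobeniusFixed.fixedRoots D σ, l ∈ K := by
    intro l hl
    refine hLK ?_
    simpa only [ChevFrobeniusFixed.fixedRoots, hσ] using hl
  have hxK : ∀ (r : ℕ) (t : k), σ t = t → ChevalleyCore.xg C r t ∈ K := fun r t ht =>
    hL _ (ChevFrobeniusFixed.xg_mem_fixedRoots σ C r ht)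
  have hcent : ∀ g ∈ D.group k, (∀ x ∈ K, Commute g x) → g = 1 := by
    intro g hg hc
    exact ChevBorelCriterion.eq_one_of_commute C S hg
      (fun i hi => ⟨hc _ (hxK _ 1 (map_one σ)), hc _ (hxK _ 1 (map_one σ))⟩)
      fun i hi => hc _ (hxK _ (-1) (by simp))
  refine ⟨?_, fun g hg => ?_⟩
  · rw [eq_bot_iff]
    rintro g ⟨hg, hgc⟩
    exact Subgroup.mem_bot.2 (hcent g hg fun x hx => (Subgroup.mem_centralizer_iff.1 hgc x hx).symm)
  rw [hfix]
  constructor
  · intro hn
    have hd : g⁻¹ * ChevFrobeniusFixed.fr σ g = 1 := by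
      refine hcent _ (mul_mem (inv_mem hg) (ChevFrobeniusFixed.fr_group σ C hg)) fun x hx => ?_
      have h1 : g * x * g⁻¹ ∈ K := (Subgroup.mem_normalizer_iff.1 hn x).1 hx
      have h2 := (hfix _).1 (hKfix _ h1)
      simp only [map_mul, map_inv, (hfix x).1 (hKfix x hx)] at h2
      show g⁻¹ * ChevFrobeniusFixed.fr σ g * x = x * (g⁻¹ * ChevFrobeniusFixed.fr σ g)
      calc g⁻¹ * ChevFrobeniusFixed.fr σ g * x
          = g⁻¹ * (ChevFrobeniusFixed.fr σ g * x * (ChevFrobeniusFixed.fr σ g)⁻¹) *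
              ChevFrobeniusFixed.fr σ g := by group
        _ = g⁻¹ * (g * x * g⁻¹) * ChevFrobeniusFixed.fr σ g := by rw [h2]
        _ = x * (g⁻¹ * ChevFrobeniusFixed.fr σ g) := by group
    exact (inv_mul_eq_one.1 hd).symm
  · intro hf
    obtain ⟨h, hh, hfh, l, hl, rfl⟩ := ChevFrobeniusFixed.fixed_decomp σ C S hg hf
    refine mul_mem ?_ (Subgroup.le_normalizer (hL l hl))
    have key : ∀ z, z ∈ D.diagonalSubgroup k → ChevFrobeniusFixed.fr σ z = z → ∀ x ∈ K, z * x * z⁻¹ ∈ K := by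
      intro z hz hfz x hx
      obtain ⟨h', hh', -, l', hl', rfl⟩ := ChevFrobeniusFixed.fixed_decomp σ C S (hKG hx) ((hfix x).1 (hKfix x hx))
      have hh'K : h' ∈ K := by simpa using mul_mem hx (inv_mem (hL l' hl'))
      have e : z * (h' * l') * z⁻¹ = (z * h' * z⁻¹) * (z * l' * z⁻¹) := by group
      rw [e, ChevalleyTorus.H_comm C hz hh', mul_inv_cancel_right]
      exact mul_mem hh'K (hL _ (ChevFrobeniusFixed.fixed_H_conj σ C hz hfz hl'))
    rw [Subgroup.mem_normalizer_iff]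
    refine fun x => ⟨key h hh hfh x, fun hx => ?_⟩
    have := key h⁻¹ (inv_mem hh) (by rw [map_inv, hfh]) _ hx
    simpa [mul_assoc] using this

end Cfsg.Agent.S2214
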