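import Cfsg.Statements.S2219
import Cfsg.Agent.Lib.NineQ7
import Cfsg.Agent.S1011
import Mathlib.FieldTheory.Finite.GaloisField

set_option autoImplicit false
open Cfsg

namespace Cfsg.Agent.S2219

/-- Let G be a non-abelian finite simple group of order 9·2ᵃ·qᵇ for a prime q other than 2 and 3, having at least three conjugacy classes of nonidentity 3-elements (elements of order 3 or 9). Then G is isomorphic to PSL(2,8) or to PSL(2,17). -/
theorem result {G : Type*} [Group G] [Finite G] [IsSimpleGroup G] (hG : ¬ IsMulCommutative G)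
    (q a b : ℕ) (hq : q.Prime) (hq2 : q ≠ 2) (hq3 : q ≠ 3) (hcard : Nat.card G = 9 * 2 ^ a * q ^ b)
    (h3 : 3 ≤ Nat.card {C : ConjClasses G // ∃ g ∈ C.carrier, g ≠ 1 ∧ orderOf g ∣ 9}) :
    (∃ (F : Type) (_ : Field F) (_ : Fintype F), Fintype.card F = 8 ∧
        Nonempty (G ≃* Matrix.ProjectiveSpecialLinearGroup (Fin 2) F)) ∨
      Nonempty (G ≃* Matrix.ProjectiveSpecialLinearGroup (Fin 2) (ZMod 17)) := by
  haveI : Fintype G := Fintype.ofFinite G
  haveI : Fact (Nat.Prime 3) := ⟨Nat.prime_three⟩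
  obtain ⟨R⟩ : Nonempty (Sylow 3 G) := inferInstance
  have h9 : Nat.card (R : Subgroup G) = 9 := by
    rw [SimpleOrder.sylow_card_of_eq (k := 2) (m := 2 ^ a * q ^ b) (by rw [hcard]; ring) ?_ R]
    · norm_num
    · intro hd
      rcases (Nat.Prime.dvd_mul Nat.prime_three).1 hd with h | h
      · have := Nat.prime_three.dvd_of_dvd_pow h
        norm_num at this
      · exact hq3 ((Nat.prime_dvd_prime_iff_eq Nat.prime_three hq).1
          (Nat.prime_three.dvd_of_dvd_pow h)).symm
  haveI : Fintype {C : ConjClasses G // ∃ g ∈ C.carrier, g ≠ 1 ∧ orderOf g ∣ 9} :=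
    Fintype.ofFinite _
  rw [Nat.card_eq_fintype_card] at h3
  obtain ⟨C₁, C₂, C₃, h12, h13, h23⟩ := Fintype.two_lt_card_iff.1 h3
  have hrep : ∀ C : {C : ConjClasses G // ∃ g ∈ C.carrier, g ≠ 1 ∧ orderOf g ∣ 9},
      ∃ y : (R : Subgroup G), y ≠ 1 ∧ ConjClasses.mk (y : G) = C.1 := by
    rintro ⟨C, g, hg, hg1, hgo⟩
    obtain ⟨y, hy⟩ := SylowLift7.exists_isConj_mem R (h9.symm ▸ hgo)
    refine ⟨y, fun e => hg1 ?_,
      (ConjClasses.mk_eq_mk_iff_isConj.2 hy.symm).trans (ConjClasses.mem_carrier_iff_mk_eq.1 hg)⟩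
    rw [e, OneMemClass.coe_one] at hy
    first
    | exact isConj_one_left.1 hy
    | exact isConj_one_left.1 hy.symm
  obtain ⟨u, hu, hu'⟩ := hrep C₁
  obtain ⟨v, hv, hv'⟩ := hrep C₂
  obtain ⟨w, hw, hw'⟩ := hrep C₃
  have hcase := NineCases7.cases hG h9 hu hv hw
    (fun e => h12 (Subtype.ext (by rw [← hu', ← hv', ConjClasses.mk_eq_mk_iff_isConj.2 e])))
    (fun e => h13 (Subtype.ext (by rw [← hu', ← hw', ConjClasses.mk_eq_mk_iff_isConj.2 e])))
    (fun e => h23 (Subtype.ext (by rw [← hv', ← hw', ConjClasses.mk_eq_mk_iff_isConj.2 e])))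
  obtain ⟨x, y, cx, cy, hP⟩ := NinePair7.exists_pair hG h9 hcase
  obtain ⟨i, χ, ψ, c, c', hpair, hχ, hψ, hi, rfl, hqi⟩ :=
    NineQ7.exponent hG hq hq2 hq3 hcard hP
  rw [pow_one] at hcard
  have hRψ := NineQ7.rat_left hG (NineQ7.pair_swap hpair)
  have hRχ := NineQ7.rat_left hG hpair
  rw [hψ] at hRψ
  rw [hχ] at hRχ
  have hq5 : 5 ≤ q := by
    have h4 : q ≠ 4 := fun e => by rw [e] at hq; norm_num at hq
    have := hq.two_le
    omega
  rcases eq_or_ne q 5 with rfl | h5
  · exfalso
    have hi2 : i = 2 := by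
      have h8 : i < 3 := by
        by_contra hlt
        have : 2 ^ 3 ≤ 2 ^ i := Nat.pow_le_pow_right (by norm_num) (not_lt.1 hlt)
        omega
      interval_cases i <;> omega
    subst hi2
    exact NineQ7.five hG hcase hcard hRψ
  rcases eq_or_ne q 7 with rfl | h7
  · left
    have hi3 : i = 3 := by
      have h8 : i < 4 := by
        by_contra hlt
        have : 2 ^ 4 ≤ 2 ^ i := Nat.pow_le_pow_right (by norm_num) (not_lt.1 hlt)
        omega
      interval_cases i <;> omega
    subst hi3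
    have hcc : c = 1 ∧ c' = -1 := by
      have hd := hpair.deg
      rw [hχ, hψ] at hd
      have h1 := hpair.unit_a
      have h2 := hpair.unit_b
      push_cast at hd
      omega
    have ha3 : a = 3 := NineQ7.seven hG hRχ h9 hRψ hpair.ne_b hpair.ne_a
      (fun g hg => by
        have h := hpair.regular g hg
        rw [hcc.1, hcc.2] at h
        push_cast at h
        linear_combination -h) hi hcard
    subst ha3
    haveI : Fact (Nat.Prime 2) := ⟨Nat.prime_two⟩
    haveI : Fintype (GaloisField 2 3) := Fintype.ofFinite _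
    have hF : Fintype.card (GaloisField 2 3) = 8 := by
      rw [← Nat.card_eq_fintype_card, GaloisField.card 2 3 (by norm_num)]
      norm_num
    exact ⟨GaloisField 2 3, inferInstance, inferInstance, hF,
      S1011.result (by rw [hcard]; norm_num) hF⟩
  · right
    refine NineQ7.large hG hq ?_ hcard
    have h6 : q ≠ 6 := fun e => by rw [e] at hq; norm_num at hq
    have h8 : q ≠ 8 := fun e => by rw [e] at hq; norm_num at hq
    have h9' : q ≠ 9 := fun e => by rw [e] at hq; norm_num at hq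
    have h10 : q ≠ 10 := fun e => by rw [e] at hq; norm_num at hq
    omega

end Cfsg.Agent.S2219
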