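import Cfsg.Statements.S2220
import Cfsg.Agent.S2219
import Cfsg.Agent.Lib.S2220Main8

set_option autoImplicit false
open Cfsg

namespace Cfsg.Agent.S2220

/-- Let G be a non-abelian finite simple group of order 9·2ᵃ·qᵇ for a prime q other than 2 and 3, and suppose a Sylow 3-subgroup R of G is strongly self-centralizing: C_G(k) = R for every nonidentity k ∈ R. Then G is isomorphic to the alternating group of degree 6, to PSL(2,8) or to PSL(2,17). -/
theorem result {G : Type*} [Group G] [Finite G] [IsSimpleGroup G] (hG : ¬ IsMulCommutative G)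
    (q a b : ℕ) (hq : q.Prime) (hq2 : q ≠ 2) (hq3 : q ≠ 3) (hcard : Nat.card G = 9 * 2 ^ a * q ^ b)
    (R : Sylow 3 G) (hR : ∀ k ∈ (R : Subgroup G), k ≠ 1 → Subgroup.centralizer ({k} : Set G) = R) :
    Nonempty (G ≃* ↥(alternatingGroup (Fin 6))) ∨
      (∃ (F : Type) (_ : Field F) (_ : Fintype F), Fintype.card F = 8 ∧
        Nonempty (G ≃* Matrix.ProjectiveSpecialLinearGroup (Fin 2) F)) ∨
      Nonempty (G ≃* Matrix.ProjectiveSpecialLinearGroup (Fin 2) (ZMod 17)) := by
  classical
  haveI : Fintype G := Fintype.ofFinite G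
  haveI : Fact (Nat.Prime 3) := ⟨Nat.prime_three⟩
  have h9 : Nat.card (R : Subgroup G) = 9 := by
    rw [SimpleOrder.sylow_card_of_eq (k := 2) (m := 2 ^ a * q ^ b) (by rw [hcard]; ring) ?_ R]
    · norm_num
    · intro hd
      rcases (Nat.Prime.dvd_mul Nat.prime_three).1 hd with h | h
      · have := Nat.prime_three.dvd_of_dvd_pow h
        norm_num at this
      · exact hq3 ((Nat.prime_dvd_prime_iff_eq Nat.prime_three hq).1
          (Nat.prime_three.dvd_of_dvd_pow h)).symm
  have hcomm : ∀ u ∈ (R : Subgroup G), ∀ v ∈ (R : Subgroup G), u * v = v * u := fun u hu v hv =>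
    congrArg Subtype.val (IsPGroup.commutative_of_card_eq_prime_sq (G := (R : Subgroup G)) (p := 3)
      (by rw [h9]; norm_num) ⟨u, hu⟩ ⟨v, hv⟩)
  by_cases hexp : ∀ u ∈ (R : Subgroup G), u ^ 3 = 1
  · have hconf : SelfCentNineA6Core64.Conf (R : Subgroup G) := ⟨hcomm, hexp, h9, hR⟩
    by_cases hfused : ∀ u ∈ (R : Subgroup G), ∀ v ∈ (R : Subgroup G), u ≠ 1 → v ≠ 1 → IsConj u v
    · exact (S2220Main8.false_of_one_class hG hq hq2 hq3 hcard hconf R rfl hfused).elim
    · push Not at hfused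
      obtain ⟨u, hu, v, hv, hu1, hv1, hne⟩ := hfused
      exact Or.inl (SelfCentNineA6Core64.nonempty_equiv_alternating hG hconf R rfl
        ⟨u, v, hconf.orderOf_eq hu hu1, hconf.orderOf_eq hv hv1,
          fun g e => hne (isConj_iff.2 ⟨g, e⟩)⟩)
  · push Not at hexp
    obtain ⟨g, hg, hg3⟩ := hexp
    have hg9 : g ^ 9 = 1 := by
      have := orderOf_dvd_natCard (⟨g, hg⟩ : (R : Subgroup G))
      rw [h9, Subgroup.orderOf_mk] at this
      exact orderOf_dvd_iff_pow_eq_one.1 this
    have ho : orderOf g = 9 := by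
      rw [show (9 : ℕ) = 3 ^ (1 + 1) by norm_num]
      exact orderOf_eq_prime_pow (by simpa using hg3) (by norm_num; exact hg9)
    have hg1 : g ≠ 1 := fun e => hg3 (by rw [e, one_pow])
    have hzR : Subgroup.zpowers g = (R : Subgroup G) :=
      Subgroup.eq_of_le_of_card_ge (Subgroup.zpowers_le.2 hg) (by rw [h9, Nat.card_zpowers, ho])
    have hne : ¬ IsConj g (g ^ 2) := by
      intro hc
      obtain ⟨c, hc⟩ := isConj_iff.1 hc
      have hc4 : c * c * g * (c * c)⁻¹ = g ^ 4 := by
        calc c * c * g * (c * c)⁻¹ = c * (c * g * c⁻¹) * c⁻¹ := by group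
          _ = (g ^ 2) ^ 2 := by rw [hc, ← conj_pow, hc]
          _ = g ^ 4 := by rw [← pow_mul]
      set d := c * c with hd
      have hd3 : d * d * d * g * (d * d * d)⁻¹ = g := by
        calc d * d * d * g * (d * d * d)⁻¹ = d * (d * (d * g * d⁻¹) * d⁻¹) * d⁻¹ := by group
          _ = d * (g ^ 4) ^ 4 * d⁻¹ := by rw [hc4, ← conj_pow, hc4]
          _ = (g ^ 4) ^ 16 := by rw [← pow_mul, ← conj_pow, hc4]
          _ = g := by
            rw [← pow_mul, show 4 * 16 = 9 * 7 + 1 by norm_num, pow_succ, pow_mul, hg9, one_pow, one_mul]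
      have hdR : d * d * d ∈ (R : Subgroup G) := by
        rw [← hR g hg hg1]
        exact Subgroup.mem_centralizer_singleton_iff.2 (mul_inv_eq_iff_eq_mul.1 hd3)
      have hdN : d ∈ Subgroup.normalizer ((R : Subgroup G) : Set G) :=
        SelfCentThreeLocal.mem_normalizer_of_invariant fun k hk => by
          rw [← hzR] at hk
          obtain ⟨j, rfl⟩ := Subgroup.mem_zpowers_iff.1 hk
          rw [← conj_zpow, hc4]
          exact Subgroup.zpow_mem _ (Subgroup.pow_mem _ hg 4) j
      have hd27 : d ^ 27 = 1 := by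
        have := orderOf_dvd_natCard (⟨_, hdR⟩ : (R : Subgroup G))
        rw [h9, Subgroup.orderOf_mk] at this
        rw [show 27 = 3 * 9 by norm_num, pow_mul, pow_three']
        exact orderOf_dvd_iff_pow_eq_one.1 this
      have hp : IsPGroup 3 (Subgroup.zpowers d) := by
        obtain ⟨k, -, hk⟩ := (Nat.dvd_prime_pow Nat.prime_three).1
          (orderOf_dvd_of_pow_eq_one (show d ^ (3 ^ 3) = 1 by norm_num; exact hd27))
        exact IsPGroup.of_card (n := k) (by rw [Nat.card_zpowers, hk])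
      have hsup : (R : Subgroup G) ⊔ Subgroup.zpowers d = R := R.is_maximal'
        (R.isPGroup'.to_sup_of_normal_left' hp (Subgroup.zpowers_le.2 hdN)) le_sup_left
      have hdmem : d ∈ (R : Subgroup G) := hsup ▸ Subgroup.mem_sup_right (Subgroup.mem_zpowers d)
      have : g ^ 4 = g := by rw [← hc4, hcomm d hdmem g hg, mul_inv_cancel_right]
      refine hg3 (mul_right_cancel (b := g) ?_)
      rw [one_mul, ← pow_succ]
      exact this
    have h3 : 3 ≤ Nat.card {C : ConjClasses G // ∃ g ∈ C.carrier, g ≠ 1 ∧ orderOf g ∣ 9} := by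
      have hcl : ∀ k : ℕ, g ^ k ≠ 1 →
          ∃ y ∈ (ConjClasses.mk (g ^ k)).carrier, y ≠ 1 ∧ orderOf y ∣ 9 := fun k hk =>
        ⟨g ^ k, ConjClasses.mem_carrier_mk, hk,
          orderOf_dvd_of_pow_eq_one (by rw [← pow_mul, mul_comm, pow_mul, hg9, one_pow])⟩
      have hord : ∀ k : ℕ, k < 9 → 0 < k → g ^ k ≠ 1 := fun k hk hk0 e => by
        have := Nat.le_of_dvd hk0 (ho ▸ orderOf_dvd_of_pow_eq_one e)
        omega
      have h13 : ∀ k : ℕ, k = 1 ∨ k = 2 → ¬ IsConj (g ^ k) (g ^ 3) := by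
        rintro k hk e
        obtain ⟨c, hc⟩ := isConj_iff.1 e
        have h0 : (c * g ^ k * c⁻¹) ^ 3 = 1 := by rw [hc, ← pow_mul, hg9]
        rw [conj_pow, conj_eq_one_iff, ← pow_mul] at h0
        exact hord _ (by omega) (by omega) h0
      haveI : Fintype {C : ConjClasses G // ∃ g ∈ C.carrier, g ≠ 1 ∧ orderOf g ∣ 9} :=
        Fintype.ofFinite _
      rw [Nat.card_eq_fintype_card]
      refine Fintype.two_lt_card_iff.2
        ⟨⟨_, hcl 1 (hord 1 (by omega) (by omega))⟩, ⟨_, hcl 2 (hord 2 (by omega) (by omega))⟩,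
          ⟨_, hcl 3 (hord 3 (by omega) (by omega))⟩, ?_, ?_, ?_⟩
      · intro e
        have := ConjClasses.mk_eq_mk_iff_isConj.1 (congrArg Subtype.val e)
        rw [pow_one] at this
        exact hne this
      · exact fun e => h13 1 (Or.inl rfl) (ConjClasses.mk_eq_mk_iff_isConj.1 (congrArg Subtype.val e))
      · exact fun e => h13 2 (Or.inr rfl) (ConjClasses.mk_eq_mk_iff_isConj.1 (congrArg Subtype.val e))
    exact Or.inr (S2219.result hG q a b hq hq2 hq3 hcard h3)

end Cfsg.Agent.S2220
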