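import Cfsg.Statements.S2221
import Mathlib
import Cfsg.Agent.Lib.AltSylowSplit29

set_option autoImplicit false
open Cfsg

namespace Cfsg.Agent.S2221

open Subgroup Cfsg.Agent.AltSylowSplit29

theorem list_sum_add_length : ∀ m : ℕ,
    padicValNat 2 m.factorial + m.bitIndices.length = m := by
  intro m
  induction m using Nat.strong_induction_on with
  | _ m ih =>
    rcases Nat.eq_zero_or_pos m with rfl | hm
    · simp
    obtain ⟨h, hh | hh⟩ : ∃ h, m = 2 * h ∨ m = 2 * h + 1 := ⟨m / 2, by omega⟩
    · have := ih h (by omega)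
      rw [hh, Nat.bitIndices_two_mul, List.length_map, padicValNat_factorial_mul]
      omega
    · have := ih h (by omega)
      rw [hh, Nat.bitIndices_two_mul_add_one, List.length_cons, List.length_map,
        padicValNat_factorial_mul_add h (by norm_num : 1 < 2), padicValNat_factorial_mul]
      omega

theorem val_factorial (m k : ℕ) (hk : k < 4) :
    padicValNat 2 (4 * m + k).factorial = padicValNat 2 m.factorial + 3 * m + k / 2 := by
  rw [show 4 * m + k = 2 * (2 * m + k / 2) + k % 2 by omega,
    padicValNat_factorial_mul_add _ (Nat.mod_lt _ two_pos), padicValNat_factorial_mul,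
    padicValNat_factorial_mul_add m (by omega : k / 2 < 2), padicValNat_factorial_mul]
  omega

theorem sum_exponents (l : List ℕ) :
    ∑ i : Fin l.length, (2 ^ (l.get i + 2) - 1) + l.length = 4 * (l.map fun a => 2 ^ a).sum := by
  induction l with
  | nil => simp
  | cons a t ih =>
    have h1 : 1 ≤ 2 ^ a := Nat.one_le_two_pow
    have h0 : 2 ^ (a + 2) = 4 * 2 ^ a := by ring
    have e : ∑ i : Fin (a :: t).length, (2 ^ ((a :: t).get i + 2) - 1) =
        (2 ^ (a + 2) - 1) + ∑ i : Fin t.length, (2 ^ (t.get i + 2) - 1) := Fin.sum_univ_succ _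
    rw [e, List.map_cons, List.sum_cons, List.length_cons]
    omega

section Model

variable (l : List ℕ) (k : ℕ)

/-- The product of the factors. -/
abbrev Prd : Type := ∀ i : Fin l.length, W (l.get i + 2)

/-- Its sign. -/
noncomputable abbrev sgn : Prd l →* ℤˣ := piChi fun i => chi (l.get i + 2)

/-- The points. -/
abbrev Pts : Type := (Σ i : Fin l.length, (Fin (l.get i + 2) → Two)) ⊕ Fin k

theorem sign_sigma {ι : Type*} [Fintype ι] [DecidableEq ι] {β : ι → Type*} [∀ i, Fintype (β i)]
    [∀ i, DecidableEq (β i)] (g : ∀ i, Equiv.Perm (β i)) :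
    Equiv.Perm.sign (Equiv.Perm.sigmaCongrRightHom β g) = ∏ i, Equiv.Perm.sign (g i) := by
  have h : Equiv.Perm.sign.comp (Equiv.Perm.sigmaCongrRightHom β) =
      piChi fun i => (Equiv.Perm.sign : Equiv.Perm (β i) →* ℤˣ) := by
    refine MonoidHom.pi_ext fun i σ => ?_
    rw [piChi_single, MonoidHom.comp_apply]
    induction σ using Equiv.Perm.swap_induction_on with
    | one => simp
    | swap_mul σ x y hxy ih =>
      rw [Pi.mulSingle_mul, map_mul, map_mul, map_mul, ih]
      congr 1
      rw [Equiv.Perm.sign_swap hxy]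
      have e : Equiv.Perm.sigmaCongrRightHom β (Pi.mulSingle i (Equiv.swap x y)) =
          Equiv.swap ⟨i, x⟩ ⟨i, y⟩ := by
        refine Equiv.ext fun ⟨j, w⟩ => ?_
        show (⟨j, (Pi.mulSingle i (Equiv.swap x y) : ∀ i, Equiv.Perm (β i)) j w⟩ : Σ i, β i) = _
        by_cases hj : j = i
        · subst hj
          rw [Pi.mulSingle_eq_same]
          by_cases hx : w = x
          · subst hx; simp
          by_cases hy : w = y
          · subst hy; simp
          rw [Equiv.swap_apply_of_ne_of_ne hx hy,
            Equiv.swap_apply_of_ne_of_ne (by simp [hx]) (by simp [hy])]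
        · rw [Pi.mulSingle_eq_of_ne hj, Equiv.Perm.one_apply,
            Equiv.swap_apply_of_ne_of_ne (fun h => hj (congrArg Sigma.fst h))
              (fun h => hj (congrArg Sigma.fst h))]
      rw [e, Equiv.Perm.sign_swap]
      intro h
      exact hxy (eq_of_heq (Sigma.mk.inj h).2)
  exact (DFunLike.congr_fun h g).trans (piChi_apply _ g)

/-- The embedding into the permutations of the first part of the points. -/
noncomputable def emb : Prd l →* Equiv.Perm (Σ i : Fin l.length, (Fin (l.get i + 2) → Two)) :=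
  (Equiv.Perm.sigmaCongrRightHom _).comp
    (MonoidHom.pi fun i => (iteratedWreathToPermHom Two (l.get i + 2)).comp (Pi.evalMonoidHom _ i))

theorem emb_injective : Function.Injective (emb l) := by
  intro a b h
  funext i
  refine iteratedWreathToPermHomInj Two _ (Equiv.ext fun x => ?_)
  exact eq_of_heq (Sigma.mk.inj (Equiv.congr_fun h ⟨i, x⟩)).2

theorem sign_emb (g : Prd l) : Equiv.Perm.sign (emb l g) = sgn l g :=
  (sign_sigma _).trans (piChi_apply (fun i => chi (l.get i + 2)) g).symm

theorem card_prd : Nat.card (Prd l) = 2 ^ ∑ i : Fin l.length, (2 ^ (l.get i + 2) - 1) := by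
  rw [Nat.card_pi, ← Finset.prod_pow_eq_pow_sum]
  refine Finset.prod_congr rfl fun i _ => ?_
  rw [IteratedWreathProduct.card, show Nat.card Two = 2 by simp]
  congr 1
  simpa using Nat.geomSum_eq le_rfl (l.get i + 2)

theorem sgn_surjective (i : Fin l.length) : Function.Surjective (sgn l) := by
  intro u
  rcases Int.units_eq_one_or u with rfl | rfl
  · exact ⟨1, map_one _⟩
  · obtain ⟨g, -, hg⟩ := (good (l.get i)).odd
    exact ⟨Pi.mulSingle i g, (piChi_single (fun i => chi (l.get i + 2)) i g).trans hg⟩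

theorem card_pts : Fintype.card (Pts l k) = 4 * (l.map fun a => 2 ^ a).sum + k := by
  rw [Fintype.card_sum, Fintype.card_sigma, Fintype.card_fin]
  congr 1
  have h : ∀ i : Fin l.length, Fintype.card (Fin (l.get i + 2) → Two) = 4 * 2 ^ l.get i := fun i => by
    rw [Fintype.card_fun, Fintype.card_fin, show Fintype.card Two = 2 by rfl]; ring
  simp_rw [h]
  rw [← Finset.mul_sum, ← List.sum_ofFn]
  conv_rhs => rw [← List.ofFn_get l, List.map_ofFn]
  rfl

/-- Turning a sign into a permutation of the extra points. -/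
def extra (h : 2 ≤ k) : ℤˣ →* Equiv.Perm (Fin k) :=
  MonoidHom.mk' (fun u => if u = 1 then 1 else Equiv.swap ⟨0, by omega⟩ ⟨1, by omega⟩) fun a b => by
    rcases Int.units_eq_one_or a with rfl | rfl <;> rcases Int.units_eq_one_or b with rfl | rfl <;>
      simp

theorem dec_pi {ι : Type*} [DecidableEq ι] {V : ι → Type*} [∀ i, Group (V i)] [∀ i, Nontrivial (V i)]
    {i j : ι} (hij : i ≠ j) : Dec (∀ i, V i) := by
  refine ⟨(MonoidHom.mulSingle V i).range, (Pi.evalMonoidHom V i).ker, ?_, ?_, ?_, ?_, ?_⟩
  · obtain ⟨x, hx⟩ := exists_ne (1 : V i)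
    intro h
    have h1 : Pi.mulSingle i x ∈ (MonoidHom.mulSingle V i).range := ⟨x, rfl⟩
    rw [h, mem_bot, Pi.mulSingle_eq_one_iff] at h1
    exact hx h1
  · obtain ⟨x, hx⟩ := exists_ne (1 : V j)
    intro h
    have h1 : Pi.mulSingle j x ∈ (Pi.evalMonoidHom V i).ker := Pi.mulSingle_eq_of_ne hij x
    rw [h, mem_bot, Pi.mulSingle_eq_one_iff] at h1
    exact hx h1
  · rintro _ ⟨x, rfl⟩ b hb
    funext c
    show (Pi.mulSingle i x : ∀ i, V i) c * b c = b c * (Pi.mulSingle i x : ∀ i, V i) c
    by_cases hc : c = i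
    · subst hc
      rw [show b c = 1 from hb, mul_one, one_mul]
    · rw [Pi.mulSingle_eq_of_ne hc, mul_one, one_mul]
  · rw [eq_bot_iff]
    rintro _ ⟨⟨x, rfl⟩, h2⟩
    have h3 : (Pi.mulSingle i x : ∀ i, V i) i = 1 := h2
    rw [Pi.mulSingle_eq_same] at h3
    subst h3
    exact mem_bot.2 (Pi.mulSingle_one i)
  · rw [eq_top_iff]
    intro g _
    have e : g = Pi.mulSingle i (g i) * ((Pi.mulSingle i (g i))⁻¹ * g) := by rw [mul_inv_cancel_left]
    rw [e]
    refine mul_mem_sup ⟨g i, rfl⟩ ?_
    show ((Pi.mulSingle i (g i))⁻¹ * g) i = 1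
    rw [Pi.mul_apply, Pi.inv_apply, Pi.mulSingle_eq_same, inv_mul_cancel]

end Model

/-- The product over a one-element list. -/
def single (a : ℕ) : Prd [a] ≃* W (a + 2) where
  toFun g := g ⟨0, Nat.one_pos⟩
  invFun w := fun i => match i with
    | ⟨0, _⟩ => w
  left_inv g := funext fun i => match i with
    | ⟨0, _⟩ => rfl
  right_inv _ := rfl
  map_mul' _ _ := rfl

theorem sq_pr_tau {V : Type*} [Group V] (u : V) :
    pr u u * tau * (pr u u * tau) = pr (u * u) (u * u) := by
  rw [mul_assoc, ← mul_assoc tau, tau_mul_pr, mul_assoc, tau_mul_tau, mul_one, pr_mul]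

/-- A noncyclic group of order four decomposes. -/
theorem dec_of_four {G : Type*} [Group G] (hc : Nat.card G = 4) (h2 : ∀ x : G, x * x = 1) : Dec G := by
  haveI : Finite G := Nat.finite_of_card_ne_zero (by omega)
  have hcomm : ∀ a b : G, a * b = b * a := fun a b => by
    have ha : a⁻¹ = a := inv_eq_of_mul_eq_one_right (h2 a)
    have hb : b⁻¹ = b := inv_eq_of_mul_eq_one_right (h2 b)
    have h : (a * b)⁻¹ = a * b := inv_eq_of_mul_eq_one_right (h2 (a * b))
    rw [mul_inv_rev, ha, hb] at h
    exact h.symm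
  haveI : Fact (Nat.Prime 2) := ⟨Nat.prime_two⟩
  haveI : Nontrivial G := Finite.one_lt_card_iff_nontrivial.1 (by omega)
  obtain ⟨a, ha⟩ := exists_ne (1 : G)
  have hoa : orderOf a = 2 := orderOf_eq_prime (by rw [pow_two]; exact h2 a) ha
  have hca : Nat.card (zpowers a) = 2 := by rw [Nat.card_zpowers, hoa]
  obtain ⟨b, hb⟩ : ∃ b, b ∉ zpowers a := by
    by_contra h
    push Not at h
    have := Subgroup.card_top (G := G)
    rw [← (eq_top_iff' _).2 h, hca] at this
    omega
  have hb1 : b ≠ 1 := fun h => hb (h ▸ one_mem _)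
  have hob : orderOf b = 2 := orderOf_eq_prime (by rw [pow_two]; exact h2 b) hb1
  refine ⟨zpowers a, zpowers b, ?_, ?_, fun x _ y _ => hcomm x y, ?_, ?_⟩
  · rwa [Ne, zpowers_eq_bot]
  · rwa [Ne, zpowers_eq_bot]
  · rw [inf_comm]
    exact (Cfsg.Agent.PGroupsBasic.inf_zpowers_eq_bot (p := 2) hob hb) ▸ inf_comm _ _
  · refine eq_top_of_card_eq _ ?_
    haveI : (zpowers a).Normal :=
      ⟨fun x hx g => by rwa [hcomm g x, mul_inv_cancel_right]⟩
    rw [Cfsg.Agent.PGroupsBasic.card_sup_zpowers hob hb, hca, hc]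

/-- The statement on the model. -/
theorem dec_model (l : List ℕ) (hl : l ≠ []) :
    (Dec (Prd l) ↔ 2 ≤ l.length) ∧
      (Dec (sgn l).ker ↔ l = [0]) := by
  rcases Nat.lt_or_ge l.length 2 with h | h
  · obtain ⟨a, rfl⟩ : ∃ a, l = [a] := by
      match l, hl, h with
      | [a], _, _ => exact ⟨a, rfl⟩
    let e : Prd [a] ≃* W (a + 2) := single a
    have he : ∀ g, chi (a + 2) (e g) = sgn [a] g := fun g =>
      ((piChi_apply (fun i : Fin [a].length => chi ([a].get i + 2)) g).trans
        (Fin.prod_univ_one (fun i : Fin [a].length => chi ([a].get i + 2) (g i)))).symm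
    let e' : (sgn [a]).ker ≃* (chi (a + 2)).ker :=
      (e.subgroupMap _).trans (MulEquiv.subgroupCongr (by
        ext w
        constructor
        · rintro ⟨g, hg, rfl⟩
          exact (he g).trans hg
        · intro hw
          exact ⟨e.symm w, (he _).symm.trans ((congrArg _ (e.apply_symm_apply w)).trans hw),
            e.apply_symm_apply w⟩))
    refine ⟨?_, ?_⟩
    · refine iff_of_false (fun hd => not_dec_W a (hd.of_mulEquiv e)) ?_
      simp
    · rw [dec_iff_of_mulEquiv e']
      rcases a with _ | a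
      · refine iff_of_true ?_ rfl
        refine dec_of_four ?_ ?_
        · have h1 := (chi 2).ker.card_mul_index
          rw [index_ker, MonoidHom.range_eq_top.2 fun u => ?_, Subgroup.card_top,
            IteratedWreathProduct.card, show Nat.card ℤˣ = 2 by simp,
            show Nat.card Two = 2 by simp] at h1
          · show Nat.card (chi 2).ker = 4
            norm_num [Finset.sum_range_succ] at h1
            show Nat.card {x // chi 2 x = 1} = 4
            omega
          · rcases Int.units_eq_one_or u with rfl | rfl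
            · exact ⟨1, map_one _⟩
            · obtain ⟨g, -, hg⟩ := (good 0).odd
              exact ⟨g, hg⟩
        · intro x
          obtain ⟨z, hz1, -, hz, hzχ, -⟩ := basic 0
          have hV : ∀ v : W 1, v * v = 1 := fun v => by
            have h := pow_card_eq_one' (G := W 1) (x := v)
            rwa [IteratedWreathProduct.card, show Nat.card Two = 2 by simp,
              Finset.sum_range_one, pow_zero, pow_one, pow_two] at h
          have hVc : ∀ u v : W 1, chi 1 u = chi 1 v → u = v := by
            have hall : ∀ v : W 1, v ∈ center (W 1) := fun v => mem_center_iff.2 fun w => by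
              have hi : ∀ t : W 1, t⁻¹ = t := fun t => inv_eq_of_mul_eq_one_right (hV t)
              calc w * v = (w * v)⁻¹ := (hi _).symm
                _ = v * w := by rw [mul_inv_rev, hi, hi]
            intro u v huv
            rw [if_pos rfl] at hzχ
            rcases hz u (hall u) with rfl | rfl <;> rcases hz v (hall v) with rfl | rfl
            · rfl
            · rw [map_one, hzχ] at huv; exact absurd huv (by decide)
            · rw [map_one, hzχ] at huv; exact absurd huv (by decide)
            · rfl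
          apply Subtype.ext
          obtain ⟨w, hw⟩ := x
          show w * w = 1
          rcases exists_form (w : W 1 ≀ᵣ Two) with ⟨u, v, rfl⟩ | ⟨u, v, rfl⟩
          · show pr u v * pr u v = (1 : W 1 ≀ᵣ Two)
            rw [pr_mul, hV, hV, pr_one]
          · have h1 : chi 2 (pr u v * tau : W 1 ≀ᵣ Two) = chi 1 u * chi 1 v :=
              (map_mul (chi 2) (pr u v : W 1 ≀ᵣ Two) (tau : W 1 ≀ᵣ Two)).trans
                ((congrArg₂ (· * ·) (chi_pr u v) (chi_tau.trans (if_neg one_ne_zero))).trans (mul_one _))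
            have huv : u = v := hVc u v
              ((mul_eq_one_iff_eq_inv.1 (h1.symm.trans hw)).trans (Int.units_inv_eq_self _))
            subst huv
            exact (sq_pr_tau u).trans (by rw [hV]; exact pr_one)
      · exact iff_of_false (not_dec_ker a) (by simp)
  · haveI : ∀ i : Fin l.length, Nontrivial (W (l.get i + 2)) := fun i => by
      obtain ⟨z, hz, -⟩ := (good (l.get i)).center_le
      exact ⟨⟨z, 1, hz⟩⟩
    have hij : (⟨0, by omega⟩ : Fin l.length) ≠ ⟨1, by omega⟩ := by simp
    refine ⟨iff_of_true (dec_pi hij) h, iff_of_false (not_dec_ker_pi _ (fun i => good _) hij) ?_⟩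
    intro h'
    simp [h'] at h

/-- Decomposability of a Sylow subgroup in the frozen formulation. -/
theorem dec_iff_internal {G : Type*} [Group G] (P : Subgroup G) :
    (∃ S₁ S₂ : Subgroup G, S₁ ≠ ⊥ ∧ S₂ ≠ ⊥ ∧ Cfsg.IsInternalDirectProduct S₁ S₂ P) ↔ Dec P := by
  constructor
  · rintro ⟨S₁, S₂, h1, h2, h3, h4, hc, hi, hs⟩
    refine ⟨S₁.subgroupOf P, S₂.subgroupOf P, ?_, ?_, fun a ha b hb => Subtype.ext (hc _ ha _ hb), ?_, ?_⟩
    · rwa [Ne, subgroupOf_eq_bot, disjoint_iff, inf_eq_left.2 h3]
    · rwa [Ne, subgroupOf_eq_bot, disjoint_iff, inf_eq_left.2 h4]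
    · show (S₁ ⊓ S₂).subgroupOf P = ⊥
      rw [hi, bot_subgroupOf]
    · rw [← subgroupOf_sup h3 h4, hs, subgroupOf_self]
  · rintro ⟨S, T, h1, h2, hc, hi, hs⟩
    refine ⟨S.map P.subtype, T.map P.subtype, ?_, ?_, map_subtype_le S, map_subtype_le T, ?_, ?_, ?_⟩
    · rwa [Ne, map_eq_bot_iff_of_injective _ P.subtype_injective]
    · rwa [Ne, map_eq_bot_iff_of_injective _ P.subtype_injective]
    · rintro _ ⟨a, ha, rfl⟩ _ ⟨b, hb, rfl⟩
      rw [← map_mul, hc a ha b hb, map_mul]
    · rw [← Subgroup.map_inf _ _ _ P.subtype_injective, hi, Subgroup.map_bot]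
    · rw [← Subgroup.map_sup, hs, ← MonoidHom.range_eq_map, range_subtype]

/-- Direct decomposability of the Sylow 2-subgroups of the alternating groups. Let n ≥ 4 and let P be a Sylow 2-subgroup of the alternating group of degree n. Then P is the internal direct product of two nontrivial subgroups if and only if n = 4, n = 5, or n ≡ 2, 3 (mod 4) with 4⌊n/4⌋ not a power of 2. In the remaining cases (n ≡ 0, 1 (mod 4) with n ≥ 8, or n ≡ 2, 3 (mod 4) with 4⌊n/4⌋ a power of 2) P is directly indecomposable. -/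
theorem result (n : ℕ) (hn : 4 ≤ n)
    (P : Sylow 2 (alternatingGroup (Fin n))) :
    (∃ S₁ S₂ : Subgroup (alternatingGroup (Fin n)), S₁ ≠ ⊥ ∧ S₂ ≠ ⊥ ∧
        Cfsg.IsInternalDirectProduct S₁ S₂ (P : Subgroup (alternatingGroup (Fin n)))) ↔
      (n = 4 ∨ n = 5 ∨ ((n % 4 = 2 ∨ n % 4 = 3) ∧ ∀ r : ℕ, 4 * (n / 4) ≠ 2 ^ r)) := by
  classical
  rw [dec_iff_internal]
  haveI : Fact (Nat.Prime 2) := ⟨Nat.prime_two⟩
  obtain ⟨m, hm⟩ : ∃ m, m = n / 4 := ⟨_, rfl⟩
  obtain ⟨k, hk⟩ : ∃ k, k = n % 4 := ⟨_, rfl⟩
  have hn' : n = 4 * m + k := by omega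
  obtain ⟨l, hl⟩ : ∃ l : List ℕ, l = m.bitIndices := ⟨_, rfl⟩
  have hlsum : (l.map fun a => 2 ^ a).sum = m := hl ▸ Nat.sum_map_two_pow_bitIndices m
  have hlne : l ≠ [] := fun h => by
    rw [h, List.map_nil, List.sum_nil] at hlsum; omega
  have hlpow : 2 ≤ l.length ↔ ∀ r : ℕ, 4 * m ≠ 2 ^ r := by
    constructor
    · intro h r hr
      obtain ⟨r, rfl⟩ : ∃ s, r = s + 2 := ⟨r - 2, by
        rcases r with _ | _ | r <;> simp at hr ⊢ <;> omega⟩
      have : m = 2 ^ r := by rw [pow_add] at hr; omega
      rw [hl, this, Nat.bitIndices_two_pow] at h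
      simp at h
    · intro h
      by_contra h'
      match l, hlne, h', hlsum with
      | [a], _, _, hs =>
        simp at hs
        exact h (a + 2) (by rw [← hs]; ring)
      | _ :: _ :: _, _, h', _ => simp at h'
  have hl0 : l = [0] ↔ m = 1 := by
    constructor
    · rintro rfl
      simpa using hlsum.symm
    · rintro rfl
      rw [hl]
      simp
  have hexp : ∑ i : Fin l.length, (2 ^ (l.get i + 2) - 1) + k / 2 =
      padicValNat 2 n.factorial := by
    have h1 := sum_exponents l
    rw [hlsum] at h1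
    have h2 := list_sum_add_length m
    rw [← hl] at h2
    rw [hn', val_factorial m k (by omega)]
    omega
  obtain ⟨v, hv⟩ : ∃ v, v = ∑ i : Fin l.length, (2 ^ (l.get i + 2) - 1) := ⟨_, rfl⟩
  obtain ⟨ep⟩ : Nonempty (Pts l k ≃ Fin n) := ⟨Fintype.equivFinOfCardEq (by rw [card_pts, hlsum, hn'])⟩
  haveI : Nontrivial (Fin n) := Fin.nontrivial_iff_two_le.2 (by omega)
  have hAcard : (Nat.card (alternatingGroup (Fin n))).factorization 2 = padicValNat 2 n.factorial - 1 := by
    have h1 := two_mul_nat_card_alternatingGroup (α := Fin n)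
    rw [Nat.card_perm, Nat.card_fin] at h1
    have hne : Nat.card (alternatingGroup (Fin n)) ≠ 0 := Nat.card_pos.ne'
    rw [← h1, padicValNat.mul two_ne_zero hne, padicValNat.self (by norm_num),
      Nat.factorization_def _ Nat.prime_two]
    omega
  rcases Nat.lt_or_ge k 2 with hk2 | hk2
  · let φ : Prd l →* Equiv.Perm (Fin n) :=
      ep.permCongrHom.toMonoidHom.comp ((Equiv.Perm.sumCongrHom _ _).comp ((emb l).prod 1))
    have hφsign : ∀ g, Equiv.Perm.sign (φ g) = sgn l g := fun g => by
      show Equiv.Perm.sign (ep.permCongr (Equiv.Perm.sumCongr (emb l g) (1 : Equiv.Perm (Fin k)))) = _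
      rw [Equiv.Perm.sign_permCongr, Equiv.Perm.sign_sumCongr, map_one, mul_one, sign_emb]
    have hφinj : Function.Injective φ := fun a b h => emb_injective l
      (congrArg Prod.fst (Equiv.Perm.sumCongrHom_injective (ep.permCongrHom.injective h)))
    let ψ : (sgn l).ker →* alternatingGroup (Fin n) :=
      (φ.comp (sgn l).ker.subtype).codRestrict _ fun g => by
        rw [Equiv.Perm.mem_alternatingGroup, MonoidHom.comp_apply, hφsign]
        exact g.2
    have hψ : Function.Injective ψ := fun a b h =>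
      Subtype.ext (hφinj (congrArg Subtype.val h))
    have hker : Nat.card (sgn l).ker = 2 ^ (v - 1) := by
      have h1 := (sgn l).ker.card_mul_index
      rw [index_ker, MonoidHom.range_eq_top.2 (sgn_surjective l ⟨0, List.length_pos_iff.2 hlne⟩),
        Subgroup.card_top, card_prd, ← hv, show Nat.card ℤˣ = 2 by simp] at h1
      have hv1 : 1 ≤ v := by
        by_contra h
        rw [show v = 0 by omega] at h1
        omega
      refine Nat.eq_of_mul_eq_mul_right two_pos (h1.trans ?_)
      rw [← pow_succ]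
      congr 1
      omega
    let P0 : Sylow 2 (alternatingGroup (Fin n)) := Sylow.ofCard ψ.range (by
      rw [← Nat.card_congr (MonoidHom.ofInjective hψ).toEquiv, hker, hAcard, ← hexp, hv]
      congr 1
      omega)
    rw [dec_iff_of_mulEquiv ((P.equiv P0).trans (MonoidHom.ofInjective hψ).symm),
      (dec_model l hlne).2, hl0]
    constructor
    · intro h
      omega
    · rintro (h | h | h) <;> omega
  · let φ : Prd l →* Equiv.Perm (Fin n) :=
      ep.permCongrHom.toMonoidHom.comp ((Equiv.Perm.sumCongrHom _ _).comp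
        ((emb l).prod ((extra k hk2).comp (sgn l))))
    have hφsign : ∀ g, Equiv.Perm.sign (φ g) = 1 := fun g => by
      show Equiv.Perm.sign (ep.permCongr (Equiv.Perm.sumCongr (emb l g) (extra k hk2 (sgn l g)))) = _
      rw [Equiv.Perm.sign_permCongr, Equiv.Perm.sign_sumCongr, sign_emb]
      rcases Int.units_eq_one_or (sgn l g) with h | h
      · rw [h, map_one, map_one, one_mul]
      · rw [h]
        have : Equiv.Perm.sign (extra k hk2 (-1)) = -1 := by
          simp [extra, Equiv.Perm.sign_swap]
        rw [this]; decide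
    have hφinj : Function.Injective φ := fun a b h => emb_injective l
      (congrArg Prod.fst (Equiv.Perm.sumCongrHom_injective (ep.permCongrHom.injective h)))
    let ψ : Prd l →* alternatingGroup (Fin n) :=
      φ.codRestrict _ fun g => Equiv.Perm.mem_alternatingGroup.2 (hφsign g)
    have hψ : Function.Injective ψ := fun a b h => hφinj (congrArg Subtype.val h)
    let P0 : Sylow 2 (alternatingGroup (Fin n)) := Sylow.ofCard ψ.range (by
      rw [← Nat.card_congr (MonoidHom.ofInjective hψ).toEquiv, card_prd, hAcard, ← hexp]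
      congr 1
      omega)
    rw [dec_iff_of_mulEquiv ((P.equiv P0).trans (MonoidHom.ofInjective hψ).symm),
      (dec_model l hlne).1, hlpow, hm]
    constructor
    · intro h
      exact Or.inr (Or.inr ⟨by omega, h⟩)
    · rintro (h | h | h)
      · omega
      · omega
      · exact h.2

end Cfsg.Agent.S2221
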