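import Cfsg.Statements.S2222
import Cfsg.Agent.Lib.SylowTwoSymAlt

set_option autoImplicit false
open Cfsg

namespace Cfsg.Agent.S2222

open Cfsg.Agent.SylowTwoSymAlt

theorem pronormal_of_odd_index {G : Type*} [Group G] [Finite G] (H : Subgroup G) (hH : Odd H.index)
    (hN : ∀ S : Sylow 2 G, (S : Subgroup G) ≤ H →
      Subgroup.normalizer ((S : Subgroup G) : Set G) ≤ H ∨ (S : Subgroup G) = H) :
    Cfsg.IsPronormal H := by
  intro g
  obtain ⟨T⟩ := (inferInstance : Nonempty (Sylow 2 H))
  have hT : IsPGroup 2 ((T : Subgroup H).map H.subtype) := T.isPGroup'.map _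
  have hodd : ¬ 2 ∣ ((T : Subgroup H).map H.subtype).index := by
    rw [Subgroup.index_map_subtype]
    intro h
    rcases (Nat.prime_two.dvd_mul).1 h with h | h
    · exact T.not_dvd_index h
    · exact (Nat.not_even_iff_odd.2 hH) (even_iff_two_dvd.2 h)
  obtain ⟨S, hS⟩ := hT.exists_le_sylow
  have hSeq : (S : Subgroup G) = (T : Subgroup H).map H.subtype := by
    have hd := Subgroup.relIndex_mul_index hS
    obtain ⟨k, hk⟩ := S.isPGroup'.index
      (((T : Subgroup H).map H.subtype).subgroupOf (S : Subgroup G))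
    rcases Nat.eq_zero_or_pos k with rfl | hk0
    · exact le_antisymm (Subgroup.relIndex_eq_one.1 (by simpa [Subgroup.relIndex] using hk)) hS
    · exfalso
      apply hodd
      rw [← hd]
      exact Dvd.dvd.mul_right (by rw [Subgroup.relIndex, hk]; exact dvd_pow_self 2 hk0.ne') _
  have hSH : (S : Subgroup G) ≤ H := hSeq ▸ Subgroup.map_subtype_le _
  set K := H ⊔ H.map (MulAut.conj g).toMonoidHom
  have h1 : (S : Subgroup G) ≤ K := hSH.trans le_sup_left
  have h2 : ((g • S : Sylow 2 G) : Subgroup G) ≤ K := by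
    rw [Sylow.coe_subgroup_smul]
    exact (Subgroup.map_mono hSH).trans le_sup_right
  obtain ⟨x, hx⟩ := MulAction.exists_smul_eq K (S.subtype h1) ((g • S).subtype h2)
  rw [Sylow.smul_subtype] at hx
  have hxg : (x : G) • S = g • S := Sylow.subtype_injective hx
  have hn : (x : G)⁻¹ * g ∈ Subgroup.normalizer ((S : Subgroup G) : Set G) := by
    change _ ∈ Subgroup.normalizer (S : Set G)
    rw [← Sylow.smul_eq_iff_mem_normalizer, mul_smul, ← hxg, inv_smul_smul]
  refine ⟨x, x.2, ?_⟩
  have hmem : ∀ y : G, y ∈ H ↔ ((x : G)⁻¹ * g) * y * ((x : G)⁻¹ * g)⁻¹ ∈ H := by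
    intro y
    rcases hN S hSH with h | h
    · exact (Subgroup.mem_normalizer_iff.1 (Subgroup.le_normalizer (h hn)) y)
    · rw [← h]
      exact Subgroup.mem_normalizer_iff.1 hn y
  refine le_antisymm ?_ ?_
  · rintro _ ⟨y, hy, rfl⟩
    exact ⟨_, (hmem y).1 hy, by simp [mul_assoc]⟩
  · rintro _ ⟨y, hy, rfl⟩
    refine ⟨((x : G)⁻¹ * g)⁻¹ * y * ((x : G)⁻¹ * g), ?_, by simp [mul_assoc]⟩
    rw [SetLike.mem_coe, hmem]
    simpa [mul_assoc] using hy

theorem pronormal_of_maximal {G : Type*} [Group G] [Finite G] (H : Subgroup G)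
    (hH : ∀ K : Subgroup G, H ≤ K → K = H ∨ K = ⊤) : Cfsg.IsPronormal H := by
  intro g
  rcases hH _ (le_sup_left : H ≤ H ⊔ H.map (MulAut.conj g).toMonoidHom) with h | h
  · refine ⟨1, one_mem _, ?_⟩
    have hle : H.map (MulAut.conj g).toMonoidHom ≤ H := le_trans le_sup_right h.le
    have hc : Nat.card (H.map (MulAut.conj g).toMonoidHom) = Nat.card H :=
      Nat.card_image_of_injective (MulAut.conj g).injective (H : Set G)
    rw [Subgroup.eq_of_le_of_card_ge hle hc.ge, map_one]
    exact (Subgroup.map_id H).symm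
  · exact ⟨g, h ▸ Subgroup.mem_top g, rfl⟩

/-- In the alternating group of degree n ≥ 5 every subgroup H of odd index is pronormal: for every element g, the subgroups H and gHg⁻¹ are conjugate by an element of the subgroup they generate. -/
theorem result (n : ℕ) (hn : 5 ≤ n)
    (H : Subgroup (alternatingGroup (Fin n))) (hH : Odd H.index) : Cfsg.IsPronormal H := by
  rcases Nat.lt_or_ge n 6 with h6 | h6
  · obtain rfl : n = 5 := by omega
    have hcard : Nat.card (alternatingGroup (Fin 5)) = 60 := by
      rw [nat_card_alternatingGroup, Nat.card_fin]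
      rfl
    have hdvd := H.index_dvd_card
    rw [hcard] at hdvd
    have hle := Nat.le_of_dvd (by norm_num) hdvd
    by_cases h15 : H.index = 15
    · refine pronormal_of_odd_index H hH fun S hSH => Or.inr ?_
      refine Subgroup.eq_of_le_of_card_ge hSH ?_
      have hH4 : Nat.card H = 4 := by
        have := H.card_mul_index
        rw [h15, hcard] at this
        omega
      rw [hH4]
      have h4 : 2 ^ 2 ∣ Nat.card (alternatingGroup (Fin 5)) := by rw [hcard]; norm_num
      have := S.pow_dvd_card_of_pow_dvd_card h4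
      exact Nat.le_of_dvd Nat.card_pos (by simpa using this)
    · refine pronormal_of_maximal H fun K hK => ?_
      have hd := Subgroup.index_dvd_of_le hK
      have hKle : K.index ∣ H.index := hd
      have h135 : H.index = 1 ∨ H.index = 3 ∨ H.index = 5 := by
        have : ∀ i, i ≤ 60 → i ∣ 60 → i % 2 = 1 → i ≠ 15 → i = 1 ∨ i = 3 ∨ i = 5 := by decide
        exact this _ hle hdvd (Nat.odd_iff.1 hH) h15
      have hK' : K.index = 1 ∨ K.index = H.index := by
        rcases h135 with e | e | e <;> rw [e] at hKle ⊢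
        · exact Or.inl (Nat.dvd_one.1 hKle)
        · exact (Nat.dvd_prime Nat.prime_three).1 hKle
        · exact (Nat.dvd_prime Nat.prime_five).1 hKle
      rcases hK' with e | e
      · exact Or.inr (Subgroup.index_eq_one.1 e)
      · left
        symm
        refine Subgroup.eq_of_le_of_card_ge hK ?_
        have a := H.card_mul_index
        have b := K.card_mul_index
        rw [e, ← a] at b
        exact (Nat.eq_of_mul_eq_mul_right (Nat.pos_of_ne_zero Subgroup.index_ne_zero_of_finite) b).le
  · exact pronormal_of_odd_index H hH fun S hSH => Or.inl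
      ((alternating_normalizer_eq (by simpa using h6) S).le.trans hSH)

end Cfsg.Agent.S2222
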