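import Cfsg.Statements.S2225
import Cfsg.Agent.Lib.PronormalSL2
import Cfsg.Agent.Lib.SylowTwoWreathSL

set_option autoImplicit false
open Cfsg

namespace Cfsg.Agent.S2225

/-- Let F be a finite field and d = 2^w ≥ 2 a power of 2 such that PSL_d(F) is simple. Then every subgroup H of PSL_d(F) of odd index is pronormal: for every g, H and gHg⁻¹ are conjugate by an element of the subgroup they generate. -/
theorem result {F : Type*} [Field F] [Fintype F]
    (w : ℕ) (hw : 1 ≤ w) (hs : IsSimpleGroup (Matrix.ProjectiveSpecialLinearGroup (Fin (2 ^ w)) F))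
    (H : Subgroup (Matrix.ProjectiveSpecialLinearGroup (Fin (2 ^ w)) F)) (hH : Odd H.index) : Cfsg.IsPronormal H := by
  haveI : Finite F := Finite.of_fintype F
  refine Cfsg.Agent.PronormalOddIndex.pronormal_of_quotient _ H ?_
  have hH' : Odd (H.comap (QuotientGroup.mk'
      (Subgroup.center (Matrix.SpecialLinearGroup (Fin (2 ^ w)) F)))).index := by
    rwa [Subgroup.index_comap_of_surjective _ (QuotientGroup.mk'_surjective _)]
  haveI : NeZero (2 ^ w) := ⟨by positivity⟩
  rcases Nat.even_or_odd (Nat.card F) with hq | hq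
  · haveI : CharP F 2 := ringChar.of_eq (FiniteField.even_card_iff_char_two.2 (by
      rw [← Nat.card_eq_fintype_card]; exact Nat.even_iff.1 hq))
    exact Cfsg.Agent.PronormalOddIndex.pronormal_char_two _ hH'
  rcases Nat.lt_or_ge w 2 with h | h
  · obtain rfl : w = 1 := by omega
    exact Cfsg.Agent.PronormalSL2.pronormal hq _ hH'
  · haveI : Fact (Nat.Prime 2) := ⟨Nat.prime_two⟩
    obtain ⟨S⟩ := (inferInstance : Nonempty (Sylow 2 (Matrix.SpecialLinearGroup (Fin (2 ^ w)) F)))
    refine Cfsg.Agent.PronormalOddIndex.pronormal_of_base S (fun K _ hSK n hn => ⟨1, one_mem _, ?_⟩) _ hH'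
    rw [Cfsg.Agent.PronormalOddIndex.conj_map_of_mem
      (hSK (Cfsg.Agent.SylowTwoWreathSL.normalizer_le hq w h S hn)),
      Cfsg.Agent.PronormalOddIndex.conj_map_of_mem (one_mem K)]

end Cfsg.Agent.S2225
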