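import Cfsg.Statements.S2226
import Cfsg.Agent.Lib.UnitaryFormChange
import Cfsg.Agent.Lib.UnitarySylowTwoWreath

set_option autoImplicit false
open Cfsg

namespace Cfsg.Agent.S2226

/-- Let F be a finite field with q² elements and d = 2^w ≥ 4 a power of 2 such that the unitary group PSU_d(q) (realised over F) is simple. Then every subgroup H of PSU_d(q) of odd index is pronormal: for every g, H and gHg⁻¹ are conjugate by an element of the subgroup they generate. -/
theorem result {F : Type*} [Field F] [Fintype F] (q : ℕ)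
    (hF : Fintype.card F = q ^ 2) (w : ℕ) (hw : 2 ≤ w) (hs : IsSimpleGroup (Cfsg.PSU (2 ^ w) F q))
    (H : Subgroup (Cfsg.PSU (2 ^ w) F q)) (hH : Odd H.index) : Cfsg.IsPronormal H := by
  haveI : Finite F := Finite.of_fintype F
  refine Cfsg.Agent.PronormalOddIndex.pronormal_of_quotient _ H ?_
  have hH' : Odd (H.comap (QuotientGroup.mk' (Subgroup.center (Cfsg.SU (2 ^ w) F q)))).index := by
    rwa [Subgroup.index_comap_of_surjective _ (QuotientGroup.mk'_surjective _)]
  rcases Nat.even_or_odd q with hq | hq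
  · haveI : CharP F 2 := ringChar.of_eq (FiniteField.even_card_iff_char_two.2 (by
      rw [hF]; exact Nat.even_iff.1 (Nat.even_pow.2 ⟨hq, two_ne_zero⟩)))
    exact Cfsg.Agent.UnitaryFormChange.pronormal_su_char_two hF
      (Nat.even_pow.2 ⟨even_two, by omega⟩) _ hH'
  · haveI : Fact (Nat.Prime 2) := ⟨Nat.prime_two⟩
    obtain ⟨S⟩ := (inferInstance : Nonempty (Sylow 2 (Cfsg.SU (2 ^ w) F q)))
    refine Cfsg.Agent.PronormalOddIndex.pronormal_of_base S (fun K _ hSK n hn => ⟨1, one_mem _, ?_⟩) _ hH'
    rw [Cfsg.Agent.PronormalOddIndex.conj_map_of_mem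
      (hSK (Cfsg.Agent.UnitarySylowTwoWreath.normalizer_le hF hq w hw S hn)),
      Cfsg.Agent.PronormalOddIndex.conj_map_of_mem (one_mem K)]

end Cfsg.Agent.S2226
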