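import Cfsg.Statements.S2227
import Cfsg.Agent.Lib.E6Five14Cent

set_option autoImplicit false
open Cfsg

namespace Cfsg.Agent.S2227

/-- In the twisted group ²E₆(2) all elements of order 5 are conjugate, and the centralizer of an element of order 5 is isomorphic to the direct product of a cyclic group of order 5 with the alternating group of degree 8. -/
theorem result {K : Type*} [Field K] [Fintype K] (hK : Fintype.card K = 4) :
    (∀ x y : ↥(Cfsg.Lie.twistedE6 K 2), orderOf x = 5 → orderOf y = 5 → IsConj x y) ∧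
      ∀ x : ↥(Cfsg.Lie.twistedE6 K 2), orderOf x = 5 →
        Nonempty (↥(Subgroup.centralizer ({x} : Set ↥(Cfsg.Lie.twistedE6 K 2))) ≃* (Multiplicative (ZMod 5) × ↥(alternatingGroup (Fin 8)))) := by
  have hK' : Fintype.card K = 2 ^ 2 := by rw [hK]; norm_num
  have : CharP K 2 :=
    CharTwo.of_one_ne_zero_of_two_eq_zero one_ne_zero (Cfsg.Agent.TwistE6Mult14Geom.two_zero hK')
  obtain ⟨w, hw⟩ := Cfsg.Agent.TwistE6Mult14Geom.exists_w hK'
  obtain ⟨y, -, hy⟩ := Cfsg.Agent.E6Five14Class.all_conj w hK' hw (frobenius K 2)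
    (fun t => frobenius_def (R := K) 2 t)
  have hconj : ∀ a b : ↥(Cfsg.Lie.twistedE6 K 2), orderOf a = 5 → orderOf b = 5 → IsConj a b :=
    fun a b ha hb => (hy a ha).trans (hy b hb).symm
  refine ⟨hconj, fun x hx => ?_⟩
  obtain ⟨x₀, hx₀, ⟨e⟩⟩ := Cfsg.Agent.E6Five14Cent.exists_cent hK' (frobenius K 2)
    (fun t => frobenius_def (R := K) 2 t)
  obtain ⟨e'⟩ := Cfsg.Agent.E6Five14Cent.cent_equiv (hconj x x₀ hx hx₀)
  exact ⟨e'.trans e⟩

end Cfsg.Agent.S2227
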