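import Cfsg.Statements.S2231
import Mathlib

set_option autoImplicit false
open Cfsg

namespace Cfsg.Agent.S2231


theorem pcomm_map {G H : Type*} [Group G] [Group H] [Finite G] {p : ℕ} [Fact p.Prime] (f : G →* H)
    (hf : Function.Surjective f)
    (hG : ∀ S : Subgroup G, IsPGroup p S → ∀ x ∈ S, ∀ y ∈ S, x * y = y * x)
    (S : Subgroup H) (hS : IsPGroup p S) : ∀ x ∈ S, ∀ y ∈ S, x * y = y * x := by
  intro x hx y hy
  have : Finite H := Finite.of_surjective f hf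
  obtain ⟨Q, hQ⟩ := hS.exists_le_sylow
  obtain ⟨P, rfl⟩ := Sylow.mapSurjective_surjective hf p Q
  obtain ⟨a, ha, rfl⟩ := hQ hx
  obtain ⟨b, hb, rfl⟩ := hQ hy
  rw [← map_mul, ← map_mul, hG _ P.2 a ha b hb]

theorem sub_one_shape {F : Type*} [Field F] (A : Matrix (Fin 2) (Fin 2) F) (v : Fin 2 → F)
    (hd : A 0 0 * A 1 1 - A 0 1 * A 1 0 = 1) (h0 : A 0 0 * v 0 + A 0 1 * v 1 = v 0)
    (h1 : A 1 0 * v 0 + A 1 1 * v 1 = v 1) (hv : v 0 ≠ 0 ∨ v 1 ≠ 0) :
    ∃ t : F, A 0 0 = 1 + t * v 0 * v 1 ∧ A 0 1 = -(t * v 0 * v 0) ∧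
      A 1 0 = t * v 1 * v 1 ∧ A 1 1 = 1 - t * v 0 * v 1 := by
  rcases hv with hv | hv
  · have htr : A 0 0 + A 1 1 = 2 := by
      have : v 0 * (A 0 0 + A 1 1) = v 0 * 2 := by
        linear_combination (v 0) * hd + (1 - A 1 1) * h0 + A 0 1 * h1
      exact mul_left_cancel₀ hv this
    refine ⟨-(A 0 1) / (v 0 * v 0), ?_, ?_, ?_, ?_⟩ <;> field_simp
    · linear_combination h0
    · linear_combination v 0 * h1 - v 0 * v 1 * htr + v 1 * h0
    · linear_combination v 0 * htr - h0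
  · have htr : A 0 0 + A 1 1 = 2 := by
      have : v 1 * (A 0 0 + A 1 1) = v 1 * 2 := by
        linear_combination (v 1) * hd + (1 - A 0 0) * h1 + A 1 0 * h0
      exact mul_left_cancel₀ hv this
    refine ⟨A 1 0 / (v 1 * v 1), ?_, ?_, ?_, ?_⟩ <;> field_simp
    · linear_combination v 1 * htr - h1
    · linear_combination v 1 * h0 - v 0 * v 1 * htr + v 0 * h1
    · linear_combination h1

theorem sl2_pcomm {F : Type*} [Field F] [Finite F] {p : ℕ} [Fact p.Prime] [CharP F p]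
    (S : Subgroup (Matrix.SpecialLinearGroup (Fin 2) F)) (hS : IsPGroup p S) :
    ∀ x ∈ S, ∀ y ∈ S, x * y = y * x := by
  classical
  let f : (Matrix.SpecialLinearGroup (Fin 2) F) →* Function.End (Fin 2 → F) :=
    { toFun := fun g v => (g : Matrix (Fin 2) (Fin 2) F).mulVec v
      map_one' := by funext v; exact Matrix.one_mulVec v
      map_mul' := fun a b => by funext v; exact (Matrix.mulVec_mulVec v _ _).symm }
  letI : MulAction S (Fin 2 → F) := MulAction.compHom _ (f.comp S.subtype)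
  have hdvd : p ∣ Nat.card (Fin 2 → F) := by
    haveI := Fintype.ofFinite F
    obtain ⟨k, _, hk⟩ := FiniteField.card F p
    rw [Nat.card_eq_fintype_card, Fintype.card_fun, hk, Fintype.card_fin]
    exact dvd_pow (dvd_pow_self p k.ne_zero) two_ne_zero
  have h0 : (0 : Fin 2 → F) ∈ MulAction.fixedPoints S (Fin 2 → F) := by
    intro s
    exact Matrix.mulVec_zero ((s : Matrix.SpecialLinearGroup (Fin 2) F) : Matrix (Fin 2) (Fin 2) F)
  obtain ⟨v, hvfix, hv0⟩ := hS.exists_fixed_point_of_prime_dvd_card_of_fixed_point (Fin 2 → F) hdvd h0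
  have hv : v 0 ≠ 0 ∨ v 1 ≠ 0 := by
    by_contra h
    push Not at h
    exact hv0 (by funext i; fin_cases i <;> simp [h])
  have shape : ∀ g ∈ S, ∃ t : F, g 0 0 = 1 + t * v 0 * v 1 ∧ g 0 1 = -(t * v 0 * v 0) ∧
      g 1 0 = t * v 1 * v 1 ∧ g 1 1 = 1 - t * v 0 * v 1 := by
    intro g hg
    have he : (g : Matrix (Fin 2) (Fin 2) F).mulVec v = v := hvfix ⟨g, hg⟩
    have hd := g.2
    rw [Matrix.det_fin_two] at hd
    refine sub_one_shape _ v hd ?_ ?_ hv
    · simpa [Matrix.mulVec, dotProduct, Fin.sum_univ_two] using congrFun he 0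
    · simpa [Matrix.mulVec, dotProduct, Fin.sum_univ_two] using congrFun he 1
  intro x hx y hy
  obtain ⟨s, a1, a2, a3, a4⟩ := shape x hx
  obtain ⟨t, b1, b2, b3, b4⟩ := shape y hy
  ext i j
  simp only [Matrix.SpecialLinearGroup.coe_mul, Matrix.mul_apply, Fin.sum_univ_two]
  fin_cases i <;> fin_cases j <;> simp [a1, a2, a3, a4, b1, b2, b3, b4] <;> ring

/-- upper unitriangular matrices in SL(3) -/
def uni3 (p : ℕ) [Fact p.Prime] : Subgroup (Matrix.SpecialLinearGroup (Fin 3) (ZMod p)) where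
  carrier := {M | M 0 0 = 1 ∧ M 1 1 = 1 ∧ M 2 2 = 1 ∧ M 1 0 = 0 ∧ M 2 0 = 0 ∧ M 2 1 = 0}
  one_mem' := by simp
  mul_mem' := by
    rintro a b ⟨a1, a2, a3, a4, a5, a6⟩ ⟨b1, b2, b3, b4, b5, b6⟩
    simp [Matrix.mul_apply, Fin.sum_univ_three, a1, a2, a3, a4, a5, a6, b1, b2, b3, b4, b5, b6]
  inv_mem' := by
    intro a ha
    have hpow : ∀ k : ℕ, a ^ k ∈ {M : Matrix.SpecialLinearGroup (Fin 3) (ZMod p) |
        M 0 0 = 1 ∧ M 1 1 = 1 ∧ M 2 2 = 1 ∧ M 1 0 = 0 ∧ M 2 0 = 0 ∧ M 2 1 = 0} := by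
      intro k
      induction k with
      | zero => simp
      | succ k ih =>
        rw [pow_succ]
        generalize a ^ k = c at ih ⊢
        obtain ⟨a1, a2, a3, a4, a5, a6⟩ := ih
        obtain ⟨b1, b2, b3, b4, b5, b6⟩ := ha
        simp [Matrix.mul_apply, Fin.sum_univ_three, a1, a2, a3, a4, a5, a6, b1, b2, b3, b4, b5, b6]
    have : a⁻¹ = a ^ (orderOf a - 1) := by
      rw [inv_eq_iff_mul_eq_one, ← pow_succ', Nat.sub_add_cancel (orderOf_pos a), pow_orderOf_eq_one]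
    rw [this]
    exact hpow _

theorem uni3_isPGroup (p : ℕ) [Fact p.Prime] : IsPGroup p (uni3 p) := by
  rintro ⟨g, g1, g2, g3, g4, g5, g6⟩
  refine ⟨2, ?_⟩
  apply Subtype.ext
  apply Subtype.ext
  simp only [SubmonoidClass.coe_pow, Subgroup.coe_one, Matrix.SpecialLinearGroup.coe_pow,
    Matrix.SpecialLinearGroup.coe_one]
  rw [← sub_eq_zero]
  conv_lhs => arg 2; rw [← one_pow (M := Matrix (Fin 3) (Fin 3) (ZMod p)) (p ^ 2)]
  rw [← sub_pow_char_pow_of_commute p 2 (Commute.one_right _)]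
  refine pow_eq_zero_of_le (?_ : 3 ≤ p ^ 2) ?_
  · have := (Fact.out : p.Prime).two_le
    nlinarith
  · ext i j
    fin_cases i <;> fin_cases j <;>
      simp [pow_succ, Matrix.mul_apply, Fin.sum_univ_three, Matrix.sub_apply, g1, g2, g3, g4, g5, g6]

/-- Let p be an odd prime and K a finite field of characteristic p. Then Qd(p) (the natural semidirect product of an elementary abelian group of order p² by SL₂(p)) is not involved in the projective special linear group PSL₂(K). -/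
theorem result {p : ℕ} [Fact p.Prime] (hp : p ≠ 2) {K : Type*} [Field K] [Fintype K] [CharP K p] : ¬ Cfsg.Involves ↥(Cfsg.qd p) (Matrix.ProjectiveSpecialLinearGroup (Fin 2) K) := by
  rintro ⟨H, R, hN, ⟨e⟩⟩
  haveI := hN
  have h1 : ∀ S : Subgroup (Matrix.ProjectiveSpecialLinearGroup (Fin 2) K), IsPGroup p S →
      ∀ x ∈ S, ∀ y ∈ S, x * y = y * x :=
    pcomm_map (QuotientGroup.mk' _) (QuotientGroup.mk'_surjective _) (fun S hS => sl2_pcomm S hS)
  have h2 : ∀ S : Subgroup H, IsPGroup p S → ∀ x ∈ S, ∀ y ∈ S, x * y = y * x := by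
    intro S hS x hx y hy
    exact H.subtype_injective (by
      simpa using h1 (S.map H.subtype) (hS.map _) _ ⟨x, hx, rfl⟩ _ ⟨y, hy, rfl⟩)
  have h3 : ∀ S : Subgroup ↥(Cfsg.qd p), IsPGroup p S → ∀ x ∈ S, ∀ y ∈ S, x * y = y * x :=
    pcomm_map (e.toMonoidHom.comp (QuotientGroup.mk' _))
      (e.surjective.comp (QuotientGroup.mk'_surjective _)) h2
  let A : Matrix.SpecialLinearGroup (Fin 3) (ZMod p) :=
    ⟨!![1, 1, 0; 0, 1, 0; 0, 0, 1], by simp [Matrix.det_fin_three]⟩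
  let B : Matrix.SpecialLinearGroup (Fin 3) (ZMod p) :=
    ⟨!![1, 0, 0; 0, 1, 1; 0, 0, 1], by simp [Matrix.det_fin_three]⟩
  have hA : A ∈ Cfsg.qd p := Subgroup.subset_closure ⟨by simp [A], by simp [A], by simp [A]⟩
  have hB : B ∈ Cfsg.qd p := Subgroup.subset_closure ⟨by simp [B], by simp [B], by simp [B]⟩
  have hAu : A ∈ uni3 p := ⟨by simp [A], by simp [A], by simp [A], by simp [A], by simp [A], by simp [A]⟩
  have hBu : B ∈ uni3 p := ⟨by simp [B], by simp [B], by simp [B], by simp [B], by simp [B], by simp [B]⟩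
  have hS : IsPGroup p ((uni3 p).subgroupOf (Cfsg.qd p)) :=
    (uni3_isPGroup p).comap_of_injective _ (Cfsg.qd p).subtype_injective
  have := congrArg (fun M : ↥(Cfsg.qd p) => (M : Matrix.SpecialLinearGroup (Fin 3) (ZMod p)) 0 2)
    (h3 _ hS ⟨A, hA⟩ hAu ⟨B, hB⟩ hBu)
  change ((A : Matrix (Fin 3) (Fin 3) (ZMod p)) * B) 0 2 = ((B : Matrix (Fin 3) (Fin 3) (ZMod p)) * A) 0 2 at this
  simp [A, B, Matrix.mul_apply, Fin.sum_univ_three] at this

end Cfsg.Agent.S2231
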