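import Cfsg.Statements.S2241
import Cfsg.Agent.Lib.SuzukiGroupCentralizer

set_option autoImplicit false
open Cfsg

namespace Cfsg.Agent.S2241

open scoped Pointwise

/-- Real 2-elements of the Suzuki group: with q = 2^(2m+1), m ≥ 1, and the group realised as the stabiliser in SL₄ of the Suzuki–Tits ovoid, a non-identity element of a Sylow 2-subgroup is conjugate to its inverse if and only if it is an involution; in particular no element of order 4 is conjugate to its inverse. -/
theorem result {F : Type*} [Field F] [Fintype F] {m : ℕ} (hm : 1 ≤ m) (hF : Fintype.card F = 2 ^ (2 * m + 1)) (P : Sylow 2 ↥(Cfsg.Sz F m)) (g : ↥(Cfsg.Sz F m)) (hg : g ∈ (P : Subgroup ↥(Cfsg.Sz F m))) (h1 : g ≠ 1) :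
    IsConj g g⁻¹ ↔ orderOf g = 2 := by
  have := SuzukiGroupBasic.Param.mk' (F := F) (m := m) hm hF
  have := SuzukiGroupBasic.charTwo (F := F) (m := m)
  constructor
  · intro hc
    obtain ⟨c, hc⟩ := isConj_iff.mp hc
    obtain ⟨d, hd⟩ := SuzukiGroupCentralizer.exists_conj_unipotent_of_isPGroup _ P.isPGroup'
    obtain ⟨a, b, hab⟩ := hd g hg
    refine orderOf_eq_prime ?_ h1
    have hne : (SuzukiGroupStructure.Ts a b : Cfsg.Sz F m) ≠ 1 := by
      rw [← hab]; intro e; exact h1 (conj_eq_one_iff.mp e)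
    set e := d * c * d⁻¹ with he
    have hinv : e * SuzukiGroupStructure.Ts a b * e⁻¹ = (SuzukiGroupStructure.Ts a b)⁻¹ := by
      have h5 : (SuzukiGroupStructure.Ts a b : Cfsg.Sz F m)⁻¹ = d * g⁻¹ * d⁻¹ := by rw [← hab]; group
      rw [h5, ← hc, ← hab, he]; group
    have hfix : e • Cfsg.suzukiPointInfinity F = Cfsg.suzukiPointInfinity F := by
      refine SuzukiGroupCentralizer.Ts_fix hne (SuzukiGroupStructure.smul_mem_ovoid e SuzukiGroupBasic.inf_mem) ?_
      have h2 : (SuzukiGroupStructure.Ts a b : Cfsg.Sz F m) * e = e * (SuzukiGroupStructure.Ts a b)⁻¹ := by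
        calc (SuzukiGroupStructure.Ts a b : Cfsg.Sz F m) * e
            = (e * SuzukiGroupStructure.Ts a b * e⁻¹)⁻¹ * e := by rw [hinv, inv_inv]
          _ = e * (SuzukiGroupStructure.Ts a b)⁻¹ := by group
      rw [← mul_smul, h2, mul_smul, inv_smul_eq_iff.mpr (SuzukiGroupStructure.Ts_smul_inf a b).symm]
    obtain ⟨x, y, k, hk⟩ := SuzukiGroupStructure.fix_inf_iff.mp hfix
    rw [hk, show SuzukiGroupStructure.Ts x y * SuzukiGroupStructure.Hs k * SuzukiGroupStructure.Ts a b *
      (SuzukiGroupStructure.Ts x y * SuzukiGroupStructure.Hs k : Cfsg.Sz F m)⁻¹ =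
      SuzukiGroupStructure.Ts x y * (SuzukiGroupStructure.Hs k * SuzukiGroupStructure.Ts a b *
        (SuzukiGroupStructure.Hs k)⁻¹) * (SuzukiGroupStructure.Ts x y)⁻¹ by group,
      SuzukiGroupStructure.Hs_Ts, mul_inv_eq_iff_eq_mul, SuzukiGroupStructure.Ts_inv,
      SuzukiGroupStructure.Ts_mul, SuzukiGroupStructure.Ts_mul] at hinv
    obtain ⟨e1, e2⟩ := SuzukiGroupStructure.Ts_injective hinv
    have ha : a = 0 := by
      by_contra ha
      have hk1 : (k : F) = 1 :=
        (mul_left_eq_self₀.mp (add_left_cancel (e1.trans (add_comm a x)))).resolve_right ha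
      rw [hk1, SuzukiGroupBasic.sg_one, one_mul, one_mul, one_mul] at e2
      apply SuzukiGroupBasic.sg_ne_self_add_one (m := m) (x / a)
      rw [SuzukiGroupBasic.sg_div]
      have := SuzukiGroupBasic.sg_ne_zero (m := m) ha
      field_simp
      grind
    rw [show g ^ 2 = 1 ↔ (d * g * d⁻¹) ^ 2 = 1 by rw [conj_pow, conj_eq_one_iff], hab]
    exact SuzukiGroupStructure.Ts_sq_eq_one.mpr ha
  · intro h
    have h2 : g⁻¹ = g := inv_eq_of_mul_eq_one_right (by rw [← pow_two, ← h, pow_orderOf_eq_one])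
    rw [h2]

end Cfsg.Agent.S2241
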