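import Cfsg.Statements.S2244
import Cfsg.Agent.Lib.ChevWeakClosed

set_option autoImplicit false
open Cfsg

namespace Cfsg.Agent.S2244

open Cfsg.Lie Cfsg.Agent.ChevalleyCore Cfsg.Agent.ChevalleyRoots Cfsg.Agent.ChevExtract
  Cfsg.Agent.ChevWeakClosed in
/-- the long fundamental root of `G₂` over the field with four elements -/
theorem boot_g2_long {F : Type*} [Field F] [Fintype F] (hds : ∀ d ∈ [1, 2], ¬ (Fintype.card F - 1) ∣ d)
    (hus : ∀ n ∈ [1, 3], ((n : ℕ) : F) ≠ 0) (Xs : Subgroup (GL chevG2.Idx F)) (hX : ChevExtract.Inv Xs)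
    (a : F) (ha : a ≠ 0) (v : GL chevG2.Idx F)
    (hv : v ∈ Cfsg.Agent.ChevBruhat.upSub chevG2 F 1)
    (hx : xg ChevalleyDataG2.cert (chevG2.simple 1) a * v ∈ Xs) :
    Known ChevalleyDataG2.cert Xs (chevG2.simple 1) := by
  set C := ChevalleyDataG2.cert with hC
  have hs1 : chevG2.simple 1 = 6 := by decide +kernel
  rw [hs1] at hx ⊢
  have hY := upSub_le_Y (F := F) C (i := 1) (by decide +kernel) hv
  rw [hs1] at hY
  have hpos : ∀ r, 6 ≤ r → r < 12 → chevG2.IsPosRoot r := fun r h1 h2 =>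
    (isPos C).2 ⟨le_trans (le_of_eq (by decide +kernel)) h1, lt_of_lt_of_eq h2 (by decide +kernel)⟩
  have hheight : ∀ r : Fin 12, 6 ≤ r.val → r.val ≠ 6 → (r.val = 10 ∨ r.val = 11) = (4 ≤ ht C r.val) := by
    have h : ∀ r : Fin 12, 6 ≤ r.val → r.val ≠ 6 → ((r.val = 10 ∨ r.val = 11) ↔ 4 ≤ ht C r.val) := by
      rw [hC]; decide +kernel
    exact fun r h1 h2 => propext (h r h1 h2)
  have hn : chevG2.nroots = 12 := by decide +kernel
  have hsepB : ∀ r : Fin 12, 6 ≤ r.val → r.val ≠ 6 → r.val ≠ 10 → r.val ≠ 11 →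
      sepB chevG2 [1, 2] 6 r.val = true := by decide +kernel
  have hkey : ∀ s, chevG2.IsPosRoot s → s ≠ 6 → ht C s < 4 →
      Known C Xs s ∨ Sep chevG2 F 6 s := by
    intro s hs hne hlt
    obtain ⟨h1, h2⟩ := (isPos C).1 hs
    rw [hn] at h1 h2
    refine Or.inr (sepB_sound hds _ _ (hsepB ⟨s, h2⟩ h1 hne ?_ ?_)) <;> intro e <;>
      exact not_le.2 hlt ((hheight ⟨s, h2⟩ h1 hne).mp (by simp [show s = _ from e]))
  obtain ⟨β, hβ, y, hy, hxy⟩ := boot C hX (hpos 6 le_rfl (by norm_num)) 4 hkey ha hY hx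
  have h7 := hpos 7 (by norm_num) (by norm_num)
  have h6 := hpos 6 le_rfl (by norm_num)
  -- `y` commutes with the short fundamental root subgroup
  have hcom : xg C 7 (1 : F) * y * (xg C 7 (1 : F))⁻¹ = y := by
    refine Subgroup.closure_induction (p := fun z _ => xg C 7 (1 : F) * z * (xg C 7 (1 : F))⁻¹ = z)
      ?_ (by simp) ?_ ?_ hy
    · rintro g ⟨s, t, ⟨hs, hne, hK⟩, hg⟩
      obtain rfl := (xg_eq_iff C).1 hg
      obtain ⟨h1, h2⟩ := (isPos C).1 hs
      rw [hn] at h1 h2
      have hs' := (hheight ⟨s, h2⟩ h1 hne).mpr hK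
      have he : chevG2.commTerms s 7 = [] := by
        rcases hs' with e | e <;> (rw [show s = _ from e]; decide +kernel)
      have hf := comm_formula C (r := s) (s := 7) (by rw [hn]; exact h2) h7.1
        (by rcases hs' with e | e <;> (rw [show s = _ from e]; norm_num))
        (pos_ne_neg C hs h7) t (1 : F)
      simp only [ChevalleyDatum.commWord, he, List.map_nil, wg, List.prod_nil, mul_one] at hf
      rw [hf, mul_inv_cancel_right]
    · intro x z _ _ hx hz
      calc xg C 7 (1 : F) * (x * z) * (xg C 7 (1 : F))⁻¹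
          = (xg C 7 (1 : F) * x * (xg C 7 (1 : F))⁻¹) * (xg C 7 (1 : F) * z * (xg C 7 (1 : F))⁻¹) := by
            group
        _ = x * z := by rw [hx, hz]
    · intro x _ hx
      calc xg C 7 (1 : F) * x⁻¹ * (xg C 7 (1 : F))⁻¹
          = (xg C 7 (1 : F) * x * (xg C 7 (1 : F))⁻¹)⁻¹ := by group
        _ = x⁻¹ := by rw [hx]
  have hyU : y ∈ chevG2.posUnipotent F := Y_le_U C (fun s hs => hs.1) hy
  have hW : wg C ((chevG2.commTerms 7 6).map fun c =>
      (c.1, (c.2.1 : F) * (-(-1 : F)) ^ c.2.2.1 * (-β) ^ c.2.2.2)) ∈ Xs := by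
    set u := xg C 7 (1 : F) with hu
    set b := xg C 6 β with hb
    have h1 := mul_mem (hX.conjU u (ChevExtract.xg_mem_U C h7 1) _ (inv_mem hxy)) hxy
    have e1 : u * (b * y)⁻¹ * u⁻¹ * (b * y) = y⁻¹ * (u * b⁻¹ * u⁻¹ * b) * y := by
      conv_rhs => enter [1, 1]; rw [← hcom]
      group
    rw [e1] at h1
    have h2 := hX.conjU y hyU _ h1
    have h3 := hX.conjU b (ChevExtract.xg_mem_U C h6 β) _ h2
    have hf := comm_formula C (r := 7) (s := 6) h7.1 h6.1 (by norm_num) (pos_ne_neg C h7 h6)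
      (-1 : F) (-β)
    rw [show xg C 6 (-β) = b⁻¹ by rw [hb, xg_inv], show xg C 7 (-1 : F) = u⁻¹ by rw [hu, xg_inv]] at hf
    change wg C (chevG2.commWord F 7 6 (-1) (-β)) ∈ Xs
    convert h3 using 1
    rw [eq_inv_mul_of_mul_eq hf.symm]
    group
  have hk1 : ∀ s ∈ peel chevG2 (sepB chevG2 [1, 2]) [1, 3] [] (chevG2.commTerms 7 6),
      Known C Xs s :=
    peel_sound C (sepB_sound hds) hus hX _ [] (fun s hs => absurd hs List.not_mem_nil) (-1) (-β)
      (neg_ne_zero.2 one_ne_zero) (neg_ne_zero.2 hβ) hW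
  have hk2 := derive_sound C (sepB_sound hds) hus hX ChevExtractData.g2q4Boot _ hk1
  have h10 : Known C Xs 10 := hk2 10 (by decide +kernel)
  have h11 : Known C Xs 11 := hk2 11 (by decide +kernel)
  obtain ⟨K, hK⟩ := exists_high C
  obtain ⟨γ, hγ, z, hz, hxz⟩ := boot C hX h6 K (fun s hs hne _ => by
    obtain ⟨h1, h2⟩ := (isPos C).1 hs
    rw [hn] at h1 h2
    by_cases e10 : s = 10
    · exact Or.inl (e10 ▸ h10)
    by_cases e11 : s = 11
    · exact Or.inl (e11 ▸ h11)
    exact Or.inr (sepB_sound hds _ _ (hsepB ⟨s, h2⟩ h1 hne e10 e11))) ha hY hx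
  rw [Y_empty (fun s hs => absurd hs.2.2 (not_le.2 (hK s hs.1.1))) hz, mul_one] at hxz
  exact known_of_mem C hX h6.1 hγ hxz

set_option maxHeartbeats 4000000 in
/-- Weakly closed unipotent subgroups of Chevalley groups: let G be the Chevalley group of type G₂, B₂, D₄, F₄, E₆, E₇ or E₈ over a finite field F (the matrix group generated by the root elements), with |F| ≠ 2, and |F| ≠ 3 as well for the types G₂, B₂, D₄, F₄. Let U be the subgroup generated by the positive root subgroups. If X ≤ U is weakly closed in U with respect to G (every G-conjugate of X lying in U equals X), then X is the unipotent radical U_J of a standard parabolic subgroup for some set J of fundamental roots. -/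
theorem result {F : Type*} [Field F] [Fintype F] (D : Cfsg.Lie.ChevalleyDatum) (hD : D ∈ [Cfsg.Lie.chevG2, Cfsg.Lie.chevB2, Cfsg.Lie.chevD4, Cfsg.Lie.chevF4, Cfsg.Lie.chevE6, Cfsg.Lie.chevE7, Cfsg.Lie.chevE8])
    (h2 : Fintype.card F ≠ 2) (h3 : D ∈ [Cfsg.Lie.chevG2, Cfsg.Lie.chevB2, Cfsg.Lie.chevD4, Cfsg.Lie.chevF4] → Fintype.card F ≠ 3)
    (X : Subgroup (GL D.Idx F)) (hXU : X ≤ D.posUnipotent F)
    (hwc : ∀ g ∈ D.group F, X.map (MulAut.conj g).toMonoidHom ≤ D.posUnipotent F → X.map (MulAut.conj g).toMonoidHom = X) :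
    ∃ J : Set ℕ, (∀ j ∈ J, j < D.rank) ∧ X = D.unipotentRadical F J := by
  haveI : DecidableEq F := Classical.decEq F
  have hq : 3 ≤ Fintype.card F := by
    have := Fintype.one_lt_card (α := F)
    omega
  have hone : ∀ n ∈ [1], ((n : ℕ) : F) ≠ 0 := by simp
  have hd1 : ∀ d ∈ [1], ¬ (Fintype.card F - 1) ∣ d := by
    intro d hd h
    simp only [List.mem_singleton] at hd
    subst hd
    have := Nat.le_of_dvd one_pos h
    omega
  have hd2 : Fintype.card F ≠ 3 → ∀ d ∈ [1, 2], ¬ (Fintype.card F - 1) ∣ d := by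
    intro h3' d hd h
    simp only [List.mem_cons, List.not_mem_nil, or_false] at hd
    have := Nat.le_of_dvd (by omega) h
    omega
  simp only [List.mem_cons, List.not_mem_nil, or_false] at hD
  rcases hD with rfl | rfl | rfl | rfl | rfl | rfl | rfl
  · have hq3 := h3 (by simp)
    by_cases hq4 : Fintype.card F = 4
    · have hus : ∀ n ∈ [1, 3], ((n : ℕ) : F) ≠ 0 := by
        intro n hn
        simp only [List.mem_cons, List.not_mem_nil, or_false] at hn
        rcases hn with rfl | rfl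
        · simp
        · intro h
          have h4 := Nat.cast_card_eq_zero F
          rw [hq4] at h4
          push_cast at h h4
          exact one_ne_zero (α := F) (by linear_combination h4 - h)
      refine ChevWeakClosed.main ChevalleyDataG2.cert ChevWeylData.g2 (by decide +kernel) (hd2 hq3) hus
        ChevExtractData.g2q4Steps (by decide +kernel) ?_ X hXU hwc
      intro i hi Xs hX a ha v hv hx
      have hi' : i = 0 ∨ i = 1 := by
        have : Cfsg.Lie.chevG2.rank = 2 := by decide +kernel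
        omega
      rcases hi' with rfl | rfl
      · exact ChevWeakClosed.boot_simple _ (hd2 hq3) hi (by decide +kernel) hX ha hv hx
      · exact boot_g2_long (hd2 hq3) hus Xs hX a ha v hv hx
    · have hd3 : ∀ d ∈ [1, 2, 3], ¬ (Fintype.card F - 1) ∣ d := by
        intro d hd h
        simp only [List.mem_cons, List.not_mem_nil, or_false] at hd
        have h5 := Nat.le_of_dvd (by omega) h
        have : 4 ≤ Fintype.card F - 1 := by omega
        omega
      refine ChevWeakClosed.main ChevalleyDataG2.cert ChevWeylData.g2 (by decide +kernel) hd3 hone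
        ChevExtractData.g2Steps (by decide +kernel) ?_ X hXU hwc
      have hb : ∀ i : Fin Cfsg.Lie.chevG2.rank,
          ChevWeakClosed.bootOK Cfsg.Lie.chevG2 [1, 2, 3] i = true := by decide +kernel
      exact fun i hi Xs hX a ha v hv hx =>
        ChevWeakClosed.boot_simple _ hd3 hi (hb ⟨i, hi⟩) hX ha hv hx
  · refine ChevWeakClosed.main ChevalleyDataB2.cert ChevWeylData.b2 (by decide +kernel) (hd2 (h3 (by simp))) hone
      ChevExtractData.b2Steps (by decide +kernel) ?_ X hXU hwc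
    have hb : ∀ i : Fin Cfsg.Lie.chevB2.rank,
        ChevWeakClosed.bootOK Cfsg.Lie.chevB2 [1, 2] i = true := by decide +kernel
    exact fun i hi Xs hX a ha v hv hx =>
      ChevWeakClosed.boot_simple _ (hd2 (h3 (by simp))) hi (hb ⟨i, hi⟩) hX ha hv hx
  · refine ChevWeakClosed.main ChevalleyDataD4.cert ChevWeylData.d4 (by decide +kernel) (hd2 (h3 (by simp))) hone
      ChevExtractData.d4Steps (by decide +kernel) ?_ X hXU hwc
    have hb : ∀ i : Fin Cfsg.Lie.chevD4.rank,
        ChevWeakClosed.bootOK Cfsg.Lie.chevD4 [1, 2] i = true := by decide +kernel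
    exact fun i hi Xs hX a ha v hv hx =>
      ChevWeakClosed.boot_simple _ (hd2 (h3 (by simp))) hi (hb ⟨i, hi⟩) hX ha hv hx
  · refine ChevWeakClosed.main ChevalleyDataF4.cert ChevWeylData.f4 (by decide +kernel) (hd2 (h3 (by simp))) hone
      ChevExtractData.f4Steps (by decide +kernel) ?_ X hXU hwc
    have hb : ∀ i : Fin Cfsg.Lie.chevF4.rank,
        ChevWeakClosed.bootOK Cfsg.Lie.chevF4 [1, 2] i = true := by decide +kernel
    exact fun i hi Xs hX a ha v hv hx =>
      ChevWeakClosed.boot_simple _ (hd2 (h3 (by simp))) hi (hb ⟨i, hi⟩) hX ha hv hx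
  · refine ChevWeakClosed.main ChevalleyDataE6.cert ChevWeylData.e6 (by decide +kernel) hd1 hone
      ChevExtractData.e6Steps (by decide +kernel) ?_ X hXU hwc
    have hb : ∀ i : Fin Cfsg.Lie.chevE6.rank,
        ChevWeakClosed.bootOK Cfsg.Lie.chevE6 [1] i = true := by decide +kernel
    exact fun i hi Xs hX a ha v hv hx =>
      ChevWeakClosed.boot_simple _ hd1 hi (hb ⟨i, hi⟩) hX ha hv hx
  · refine ChevWeakClosed.main ChevalleyDataE7.cert ChevWeylData.e7 (by decide +kernel) hd1 hone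
      ChevExtractData.e7Steps (by decide +kernel) ?_ X hXU hwc
    have hb : ∀ i : Fin Cfsg.Lie.chevE7.rank,
        ChevWeakClosed.bootOK Cfsg.Lie.chevE7 [1] i = true := by decide +kernel
    exact fun i hi Xs hX a ha v hv hx =>
      ChevWeakClosed.boot_simple _ hd1 hi (hb ⟨i, hi⟩) hX ha hv hx
  · refine ChevWeakClosed.main ChevalleyDataE8.cert ChevWeylData.e8 (by decide +kernel) hd1 hone
      ChevExtractData.e8Steps (by decide +kernel) ?_ X hXU hwc
    have hb : ∀ i : Fin Cfsg.Lie.chevE8.rank,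
        ChevWeakClosed.bootOK Cfsg.Lie.chevE8 [1] i = true := by decide +kernel
    exact fun i hi Xs hX a ha v hv hx =>
      ChevWeakClosed.boot_simple _ hd1 hi (hb ⟨i, hi⟩) hX ha hv hx

end Cfsg.Agent.S2244
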