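import Cfsg.Statements.S2245
import Mathlib

set_option autoImplicit false
open Cfsg

namespace Cfsg.Agent.S2245

section

open Equiv Equiv.Perm

variable {α : Type*} [Fintype α] [DecidableEq α]

/-- the 3-cycle a ↦ b ↦ c ↦ a -/
def c3 (a b c : α) : Perm α := swap a b * swap b c

theorem c3_conj (g : Perm α) (a b c : α) : g * c3 a b c * g⁻¹ = c3 (g a) (g b) (g c) := by
  simp only [c3, swap_apply_apply]
  group

theorem c3_apply1 {a b c : α} (hab : a ≠ b) (hac : a ≠ c) : c3 a b c a = b := by
  simp [c3, swap_apply_of_ne_of_ne hab hac]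

theorem c3_apply2 {a b c : α} (hac : a ≠ c) (hbc : b ≠ c) : c3 a b c b = c := by
  simp [c3, swap_apply_of_ne_of_ne hac.symm hbc.symm]

theorem c3_apply3 (a b c : α) : c3 a b c c = a := by simp [c3]

theorem c3_apply_ne {a b c x : α} (ha : x ≠ a) (hb : x ≠ b) (hc : x ≠ c) : c3 a b c x = x := by
  simp [c3, swap_apply_of_ne_of_ne ha hb, swap_apply_of_ne_of_ne hb hc]

theorem c3_rot {a b c : α} (hab : a ≠ b) (hac : a ≠ c) (hbc : b ≠ c) : c3 a b c = c3 b c a := by
  ext x
  by_cases ha : x = a
  · subst ha; rw [c3_apply1 hab hac, c3_apply3]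
  by_cases hb : x = b
  · subst hb; rw [c3_apply2 hac hbc, c3_apply1 hbc hab.symm]
  by_cases hc : x = c
  · subst hc; rw [c3_apply3, c3_apply2 hab.symm hac.symm]
  · rw [c3_apply_ne ha hb hc, c3_apply_ne hb hc ha]

theorem c3_inv (a b c : α) : (c3 a b c)⁻¹ = c3 c b a := by
  simp [c3, mul_inv_rev, swap_comm b c, swap_comm a b]

theorem c3_mem_alt {a b c : α} (hab : a ≠ b) (hbc : b ≠ c) : c3 a b c ∈ alternatingGroup α := by
  rw [Equiv.Perm.mem_alternatingGroup]
  simp [c3, sign_swap hab, sign_swap hbc]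

theorem swap2_mem_alt {a b c d : α} (hab : a ≠ b) (hcd : c ≠ d) :
    swap a b * swap c d ∈ alternatingGroup α := by
  rw [Equiv.Perm.mem_alternatingGroup]
  simp [sign_swap hab, sign_swap hcd]

theorem isThreeCycle_c3 {a b c : α} (hab : a ≠ b) (hac : a ≠ c) (hbc : b ≠ c) :
    (c3 a b c).IsThreeCycle := by
  have := isThreeCycle_swap_mul_swap_same (a := b) hab.symm hbc hac
  rwa [swap_comm b a] at this

/-- `J` contains all three-cycles on `A`. -/
def HasAlt (J : Subgroup (Perm α)) (A : Finset α) : Prop :=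
  ∀ a ∈ A, ∀ b ∈ A, ∀ c ∈ A, a ≠ b → a ≠ c → b ≠ c → c3 a b c ∈ J

theorem HasAlt.insert {J : Subgroup (Perm α)} {A : Finset α} {u v w : α} (h : HasAlt J A)
    (hu : u ∈ A) (hv : v ∈ A) (huv : u ≠ v) (hw : w ∉ A) (hc : c3 u v w ∈ J) :
    HasAlt J (insert w A) := by
  have hne : ∀ x ∈ A, x ≠ w := fun x hx hxw => hw (hxw ▸ hx)
  let P : α → α → Prop := fun x y => c3 x y w ∈ J
  have hrev : ∀ x ∈ A, ∀ y ∈ A, x ≠ y → P x y → P y x := by
    intro x hx y hy hxy hp
    have := J.inv_mem hp
    rw [c3_inv, c3_rot (hne y hy).symm (hne x hx).symm hxy.symm] at this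
    exact this
  have hstep : ∀ x ∈ A, ∀ y ∈ A, ∀ z ∈ A, x ≠ y → x ≠ z → y ≠ z → P x y → P y z := by
    intro x hx y hy z hz hxy hxz hyz hp
    have hg := h x hx y hy z hz hxy hxz hyz
    have := J.mul_mem (J.mul_mem hg hp) (J.inv_mem hg)
    rw [c3_conj, c3_apply1 hxy hxz, c3_apply2 hxz hyz,
      c3_apply_ne (hne x hx).symm (hne y hy).symm (hne z hz).symm] at this
    exact this
  have h1 : ∀ z ∈ A, z ≠ v → P v z := by
    intro z hz hzv
    rcases eq_or_ne z u with rfl | hzu
    · exact hrev _ hu _ hv huv hc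
    · exact hstep u hu v hv z hz huv (Ne.symm hzu) hzv.symm hc
  have hall : ∀ x ∈ A, ∀ y ∈ A, x ≠ y → P x y := by
    intro x hx y hy hxy
    rcases eq_or_ne x v with rfl | hxv
    · exact h1 y hy hxy.symm
    rcases eq_or_ne y v with rfl | hyv
    · exact hrev _ hv _ hx hxv.symm (h1 x hx hxv)
    · exact hstep v hv x hx y hy hxv.symm hyv.symm hxy (h1 x hx hxv)
  intro a ha b hb c hc' hab hac hbc
  rw [Finset.mem_insert] at ha hb hc'
  rcases ha with rfl | ha
  · have hb' := hb.resolve_left hab.symm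
    have hc'' := hc'.resolve_left hac.symm
    rw [c3_rot hab hac hbc]
    exact hall b hb' c hc'' hbc
  rcases hb with rfl | hb
  · have hc'' := hc'.resolve_left hbc.symm
    rw [c3_rot hab hac hbc, c3_rot hbc hab.symm hac.symm]
    exact hall c hc'' a ha hac.symm
  rcases hc' with rfl | hc'
  · exact hall a ha b hb hab
  · exact h a ha b hb c hc' hab hac hbc

theorem HasAlt.le_alt {J : Subgroup (Perm α)} (h : HasAlt J Finset.univ) :
    alternatingGroup α ≤ J := by
  rw [← closure_three_cycles_eq_alternating, Subgroup.closure_le]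
  intro σ hσ
  have hσ' : σ.IsThreeCycle := hσ
  obtain ⟨x, y, z, hxy, hxz, hyz, -⟩ := Finset.card_eq_three.mp hσ'.card_support
  obtain ⟨g, rfl⟩ := isConj_iff.mp (isConj_iff_cycleType_eq.mpr
    ((isThreeCycle_c3 hxy hxz hyz).cycleType.trans hσ'.cycleType.symm))
  rw [c3_conj]
  exact h _ (Finset.mem_univ _) _ (Finset.mem_univ _) _ (Finset.mem_univ _)
    (g.injective.ne hxy) (g.injective.ne hxz) (g.injective.ne hyz)

theorem HasAlt.union {J : Subgroup (Perm α)} {A B : Finset α} (hA : HasAlt J A) (hB : HasAlt J B)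
    (hA3 : 3 ≤ A.card) (hB3 : 3 ≤ B.card) {x : α} (hxA : x ∈ A) (hxB : x ∈ B) :
    HasAlt J (A ∪ B) := by
  suffices H : ∀ S : Finset α, S ⊆ B → HasAlt J (A ∪ S) from H B subset_rfl
  intro S
  induction S using Finset.induction_on with
  | empty => intro _; simpa using hA
  | insert w S hw ih =>
    intro hS
    have ih' := ih (fun y hy => hS (Finset.mem_insert_of_mem hy))
    have hwB : w ∈ B := hS (Finset.mem_insert_self _ _)
    rw [Finset.union_insert]
    by_cases hwA : w ∈ A ∪ S
    · rwa [Finset.insert_eq_of_mem hwA]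
    set A' := A ∪ S
    have hxA' : x ∈ A' := Finset.mem_union_left _ hxA
    have hxw : x ≠ w := fun h => hwA (h ▸ hxA')
    obtain ⟨y, hy⟩ : ((B.erase x).erase w).Nonempty := by
      rw [← Finset.card_pos]
      rw [Finset.card_erase_of_mem (Finset.mem_erase.mpr ⟨hxw.symm, hwB⟩), Finset.card_erase_of_mem hxB]
      omega
    simp only [Finset.mem_erase] at hy
    obtain ⟨hyw, hyx, hyB⟩ := hy
    have hg := hB x hxB w hwB y hyB hxw hyx.symm hyw.symm
    by_cases hyA : y ∈ A'
    · refine ih'.insert hxA' hyA hyx.symm hwA ?_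
      exact hB x hxB y hyB w hwB hyx.symm hxw hyw
    obtain ⟨a1, ha1, a2, ha2, ha12⟩ : ∃ a1 ∈ A.erase x, ∃ a2 ∈ A.erase x, a1 ≠ a2 :=
      Finset.one_lt_card.mp (by rw [Finset.card_erase_of_mem hxA]; omega)
    rw [Finset.mem_erase] at ha1 ha2
    have ha1' : a1 ∈ A' := Finset.mem_union_left _ ha1.2
    have ha2' : a2 ∈ A' := Finset.mem_union_left _ ha2.2
    refine ih'.insert ha1' ha2' ha12 hwA ?_
    have h1 := ih' a1 ha1' a2 ha2' x hxA' ha12 ha1.1 ha2.1
    have := J.mul_mem (J.mul_mem hg h1) (J.inv_mem hg)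
    rwa [c3_conj, c3_apply1 hxw hyx.symm,
      c3_apply_ne ha1.1 (fun h => hwA (by rw [← h]; exact ha1')) (fun h => hyA (by rw [← h]; exact ha1')),
      c3_apply_ne ha2.1 (fun h => hwA (by rw [← h]; exact ha2')) (fun h => hyA (by rw [← h]; exact ha2'))] at this

/-- setwise stabiliser -/
def setStab (A : Finset α) : Subgroup (Perm α) where
  carrier := {g | ∀ x, g x ∈ A ↔ x ∈ A}
  one_mem' := fun x => Iff.rfl
  mul_mem' := fun {g h} hg hh x => (hg _).trans (hh x)
  inv_mem' := fun {g} hg x => by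
    conv_rhs => rw [← g.apply_symm_apply x]
    exact (hg _).symm

/-- stabiliser of the partition into `A` and its complement -/
def partStab (A : Finset α) : Subgroup (Perm α) where
  carrier := {g | ∀ x y, (g x ∈ A ↔ g y ∈ A) ↔ (x ∈ A ↔ y ∈ A)}
  one_mem' := fun _ _ => Iff.rfl
  mul_mem' := fun {g h} hg hh x y => (hg _ _).trans (hh x y)
  inv_mem' := fun {g} hg x y => by
    conv_rhs => rw [← g.apply_symm_apply x, ← g.apply_symm_apply y]
    exact (hg _ _).symm

/-- permutations commuting with `z` -/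
def cz (z : Perm α) : Subgroup (Perm α) := Subgroup.centralizer {z}

theorem mem_cz {z g : Perm α} : g ∈ cz z ↔ ∀ x, g (z x) = z (g x) := by
  rw [cz, Subgroup.mem_centralizer_singleton_iff, Equiv.ext_iff]
  rfl

theorem setStab_le_partStab (A : Finset α) : setStab A ≤ partStab A := fun g hg x y => iff_congr (hg x) (hg y)

theorem hasAlt_setStab (A : Finset α) : HasAlt (setStab A ⊓ alternatingGroup α) A := by
  intro a ha b hb c hc hab hac hbc
  refine ⟨fun x => ?_, c3_mem_alt hab hbc⟩
  by_cases h1 : x = a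
  · subst h1; simp [c3_apply1 hab hac, ha, hb]
  by_cases h2 : x = b
  · subst h2; simp [c3_apply2 hac hbc, hb, hc]
  by_cases h3 : x = c
  · subst h3; simp [c3_apply3, ha, hc]
  · rw [c3_apply_ne h1 h2 h3]

theorem hasAlt_setStab_compl (A : Finset α) : HasAlt (setStab A ⊓ alternatingGroup α) Aᶜ := by
  intro a ha b hb c hc hab hac hbc
  have h := hasAlt_setStab Aᶜ a ha b hb c hc hab hac hbc
  exact ⟨fun x => by simpa using not_congr (h.1 x), h.2⟩

theorem HasAlt.mono {J K : Subgroup (Perm α)} {A : Finset α} (h : HasAlt J A) (hJK : J ≤ K) : HasAlt K A :=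
  fun a ha b hb c hc h1 h2 h3 => hJK (h a ha b hb c hc h1 h2 h3)

/-- generation from a partition and an involution -/
theorem alt_le_sup (z : Perm α) (hz2 : ∀ x, z (z x) = x) (hzf : ∀ x, z x ≠ x) (A : Finset α)
    (hA : 4 ≤ A.card) (hzA : z ∈ partStab A) :
    alternatingGroup α ≤ (cz z ⊓ alternatingGroup α) ⊔ (setStab A ⊓ alternatingGroup α) := by
  set J := (cz z ⊓ alternatingGroup α) ⊔ (setStab A ⊓ alternatingGroup α) with hJ
  have hAJ : HasAlt J A := (hasAlt_setStab A).mono le_sup_right
  have key : ∀ p ∈ A, ∀ q ∉ A, q ≠ z p → HasAlt J (insert q A) := by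
    intro p hp q hq hqzp
    have hpq : p ≠ q := fun h => hq (h ▸ hp)
    have hpzq : p ≠ z q := fun h => hqzp (by rw [h, hz2])
    obtain ⟨u, hu, v, hv, huv⟩ : ∃ u ∈ A \ {p, z p, z q}, ∃ v ∈ A \ {p, z p, z q}, u ≠ v := by
      apply Finset.one_lt_card.mp
      have h1 := Finset.card_sdiff_add_card_inter A {p, z p, z q}
      have hn : ¬ (z p ∈ A ↔ z q ∈ A) := fun h => hq (((hzA p q).mp h).mp hp)
      have : (A ∩ {p, z p, z q}).card ≤ 2 := by
        by_cases h : z p ∈ A
        · refine (Finset.card_le_card (?_ : _ ⊆ ({p, z p} : Finset α))).trans Finset.card_le_two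
          intro x hx
          simp only [Finset.mem_inter, Finset.mem_insert, Finset.mem_singleton] at hx ⊢
          rcases hx.2 with rfl | rfl | rfl <;> simp_all
        · refine (Finset.card_le_card (?_ : _ ⊆ ({p, z q} : Finset α))).trans Finset.card_le_two
          intro x hx
          simp only [Finset.mem_inter, Finset.mem_insert, Finset.mem_singleton] at hx ⊢
          rcases hx.2 with rfl | rfl | rfl <;> simp_all
      omega
    simp only [Finset.mem_sdiff, Finset.mem_insert, Finset.mem_singleton, not_or] at hu hv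
    obtain ⟨huA, hup, huzp, huzq⟩ := hu
    obtain ⟨hvA, hvp, hvzp, hvzq⟩ := hv
    have hne1 : z p ≠ z q := z.injective.ne hpq
    have hg : swap p q * swap (z p) (z q) ∈ J := by
      refine Subgroup.mem_sup_left ⟨?_, swap2_mem_alt hpq hne1⟩
      show _ ∈ cz z
      rw [mem_cz]
      have e : swap p q * swap (z p) (z q) = swap (z p) (z q) * swap p q := by
        apply Equiv.Perm.Disjoint.commute
        rw [Equiv.Perm.disjoint_iff_disjoint_support, support_swap hpq, support_swap hne1]
        simp [Finset.disjoint_left, hzf, hpzq, hqzp, (hzf p).symm, (hzf q).symm]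
      have : (swap p q * swap (z p) (z q)) * z = z * (swap p q * swap (z p) (z q)) := by
        have h1 : z * swap p q = swap (z p) (z q) * z := by
          rw [swap_apply_apply]; group
        have h2 : z * swap (z p) (z q) = swap p q * z := by
          conv_rhs => rw [← hz2 p, ← hz2 q, swap_apply_apply]
          group
        calc (swap p q * swap (z p) (z q)) * z = swap p q * (z * swap p q) := by rw [h1]; group
          _ = z * (swap (z p) (z q) * swap p q) := by rw [← mul_assoc, ← h2]; group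
          _ = _ := by rw [e]
      intro x
      exact congrArg (fun f : Perm α => f x) this
    have h1 := hAJ u huA v hvA p hp huv hup hvp
    have := J.mul_mem (J.mul_mem hg h1) (J.inv_mem hg)
    have fixv : ∀ w, w ≠ p → w ≠ q → w ≠ z p → w ≠ z q → (swap p q * swap (z p) (z q)) w = w := by
      intro w a b c d
      simp [swap_apply_of_ne_of_ne a b, swap_apply_of_ne_of_ne c d]
    have huq : u ≠ q := fun h => hq (h ▸ huA)
    have hvq : v ≠ q := fun h => hq (h ▸ hvA)
    rw [c3_conj, fixv u hup huq huzp huzq, fixv v hvp hvq hvzp hvzq] at this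
    simp only [Perm.mul_apply, swap_apply_of_ne_of_ne (hzf p).symm hpzq, swap_apply_left] at this
    exact hAJ.insert huA hvA huv hq this
  have huniv : HasAlt J (A ∪ Aᶜ) := by
    suffices H : ∀ S : Finset α, S ⊆ Aᶜ → HasAlt J (A ∪ S) from H _ subset_rfl
    intro S
    induction S using Finset.induction_on with
    | empty => intro _; simpa using hAJ
    | insert w S hw ih =>
      intro hS
      have hwA : w ∉ A := Finset.mem_compl.mp (hS (Finset.mem_insert_self _ _))
      obtain ⟨p, hp, hpw⟩ : ∃ p ∈ A, p ≠ z w := Finset.exists_mem_ne (by omega) _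
      have hk := key p hp w hwA (fun h => hpw (by rw [h, hz2]))
      have := (ih fun y hy => hS (Finset.mem_insert_of_mem hy)).union hk
        (le_trans (by omega) (Finset.card_le_card Finset.subset_union_left))
        (by rw [Finset.card_insert_of_notMem hwA]; omega)
        (Finset.mem_union_left _ hp) (Finset.mem_insert_of_mem hp)
      have e : A ∪ S ∪ insert w A = A ∪ insert w S := by
        ext x; simp only [Finset.mem_union, Finset.mem_insert]; tauto
      rwa [e] at this
  rw [Finset.union_compl] at huniv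
  exact huniv.le_alt

/-- generation from two set stabilisers -/
theorem alt_le_sup_two (A B : Finset α) (hAB : Disjoint A B) (hA : 3 ≤ Aᶜ.card) (hB : 3 ≤ Bᶜ.card)
    {x : α} (hxA : x ∉ A) (hxB : x ∉ B) :
    alternatingGroup α ≤ (setStab A ⊓ alternatingGroup α) ⊔ (setStab B ⊓ alternatingGroup α) := by
  have h := ((hasAlt_setStab_compl A).mono le_sup_left).union
    ((hasAlt_setStab_compl B).mono (le_sup_right : _ ≤ (setStab A ⊓ alternatingGroup α) ⊔ _)) hA hB
    (Finset.mem_compl.mpr hxA) (Finset.mem_compl.mpr hxB)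
  rw [← Finset.compl_inter, Finset.disjoint_iff_inter_eq_empty.mp hAB, Finset.compl_empty] at h
  exact h.le_alt

section
variable {n : ℕ} {G : Type*} [Group G] [Finite G] (φ : G →* Perm (Fin n))

theorem eq_top_of_alt_le (hinj : Function.Injective φ) (R : Sylow 2 G) (J : Subgroup G)
    (hR : (R : Subgroup G) ≤ J) (hJ : alternatingGroup (Fin n) ≤ J.map φ) : J = ⊤ := by
  rw [← Subgroup.index_eq_one]
  have hle : (alternatingGroup (Fin n)).comap φ ≤ J := by
    have := Subgroup.comap_mono (f := φ) hJ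
    rwa [Subgroup.comap_map_eq_self_of_injective hinj] at this
  have h1 : J.index ∣ ((alternatingGroup (Fin n)).comap φ).index := Subgroup.index_dvd_of_le hle
  have h2 : ((alternatingGroup (Fin n)).comap φ).index ∣ 2 := by
    rw [Subgroup.index_comap]
    refine (Subgroup.relIndex_dvd_index_of_normal _ _).trans ?_
    rcases subsingleton_or_nontrivial (Fin n) with h | h
    · have : Subsingleton (Perm (Fin n)) := inferInstance
      simp [Subsingleton.elim (alternatingGroup (Fin n)) ⊤]
    · rw [alternatingGroup.index_eq_two]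
  have h3 : ¬ 2 ∣ J.index := fun h => R.not_dvd_index (h.trans (Subgroup.index_dvd_of_le hR))
  rcases (Nat.dvd_prime Nat.prime_two).mp (h1.trans h2) with h | h
  · exact h
  · exact absurd (by rw [h]) h3

theorem comap_ne_top (hA : alternatingGroup (Fin n) ≤ φ.range) (H : Subgroup (Perm (Fin n)))
    (hH : ∃ g ∈ alternatingGroup (Fin n), g ∉ H) : H.comap φ ≠ ⊤ := by
  obtain ⟨g, hg, hgH⟩ := hH
  obtain ⟨x, rfl⟩ := hA hg
  intro h
  exact hgH (Subgroup.mem_comap.mp (h ▸ Subgroup.mem_top x))

theorem not_unique (hinj : Function.Injective φ) (hA : alternatingGroup (Fin n) ≤ φ.range) (R : Sylow 2 G)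
    (H1 H2 : Subgroup (Perm (Fin n))) (h1 : (R : Subgroup G).map φ ≤ H1) (h2 : (R : Subgroup G).map φ ≤ H2)
    (p1 : ∃ g ∈ alternatingGroup (Fin n), g ∉ H1) (p2 : ∃ g ∈ alternatingGroup (Fin n), g ∉ H2)
    (hgen : alternatingGroup (Fin n) ≤ (H1 ⊓ alternatingGroup (Fin n)) ⊔ (H2 ⊓ alternatingGroup (Fin n))) :
    ¬ ∃! M : Subgroup G, IsCoatom M ∧ (R : Subgroup G) ≤ M := by
  rintro ⟨M, ⟨hM, -⟩, huniq⟩
  have key : ∀ H : Subgroup (Perm (Fin n)), (R : Subgroup G).map φ ≤ H →
      (∃ g ∈ alternatingGroup (Fin n), g ∉ H) → H.comap φ ≤ M := by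
    intro H hH hp
    obtain ⟨N, hN, hle⟩ := (eq_top_or_exists_le_coatom (H.comap φ)).resolve_left (comap_ne_top φ hA H hp)
    exact huniq N ⟨hN, (Subgroup.map_le_iff_le_comap.mp hH).trans hle⟩ ▸ hle
  have hsup : H1.comap φ ⊔ H2.comap φ = ⊤ := by
    refine eq_top_of_alt_le φ hinj R _ ((Subgroup.map_le_iff_le_comap.mp h1).trans le_sup_left) ?_
    refine hgen.trans ?_
    rw [Subgroup.map_sup, Subgroup.map_comap_eq, Subgroup.map_comap_eq]
    exact sup_le_sup (le_inf (inf_le_right.trans hA) inf_le_left) (le_inf (inf_le_right.trans hA) inf_le_left)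
  exact hM.1 (top_unique (hsup ▸ sup_le (key H1 h1 p1) (key H2 h2 p2)))

theorem mem_orbit_smul_iff (P : Subgroup (Perm α)) (g : P) (x y : α) :
    (g : Perm α) y ∈ MulAction.orbit P x ↔ y ∈ MulAction.orbit P x := by
  constructor
  · intro h
    have h2 := MulAction.mem_orbit_of_mem_orbit g⁻¹ (show g • y ∈ MulAction.orbit P x from h)
    rwa [inv_smul_smul] at h2
  · exact fun h => MulAction.mem_orbit_of_mem_orbit g h

/-- an involution centralising a 2-group, moving exactly one given orbit -/
theorem exists_orbit_involution (P : Subgroup (Perm α)) (hP : IsPGroup 2 P) (x : α)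
    (hx : ∃ g ∈ P, g x ≠ x) :
    ∃ z : Perm α, (∀ y, z (z y) = y) ∧
      (∀ y, y ∈ MulAction.orbit P x → z y ∈ MulAction.orbit P x ∧ z y ≠ y) ∧
      (∀ y, y ∉ MulAction.orbit P x → z y = y) ∧ ∀ g ∈ P, ∀ y, g (z y) = z (g y) := by
  classical
  obtain ⟨g0, hg0, hg0x⟩ := hx
  set O := MulAction.orbit P x with hO
  set f := MulAction.toPermHom P O with hf
  have hne : f ⟨g0, hg0⟩ ≠ 1 := fun h => by
    have h2 : ((⟨g0, hg0⟩ : P) • (⟨x, MulAction.mem_orbit_self x⟩ : O) : O) = ⟨x, _⟩ :=
      DFunLike.congr_fun h ⟨x, MulAction.mem_orbit_self x⟩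
    exact hg0x (congrArg Subtype.val h2)
  have hQ : IsPGroup 2 f.range := IsPGroup.of_surjective hP f.rangeRestrict f.rangeRestrict_surjective
  haveI : Nontrivial f.range := ⟨⟨⟨_, ⟨_, rfl⟩⟩, 1, fun h => hne (congrArg Subtype.val h)⟩⟩
  haveI := hQ.center_nontrivial
  have hdvd : 2 ∣ Nat.card (Subgroup.center f.range) := by
    obtain ⟨m, hm, hc⟩ := (hQ.to_subgroup (Subgroup.center f.range)).nontrivial_iff_card.mp inferInstance
    exact hc ▸ dvd_pow_self 2 (by omega)
  obtain ⟨⟨⟨z0, hz0⟩, hzc⟩, hord⟩ := exists_prime_orderOf_dvd_card' 2 hdvd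
  have hord' : orderOf z0 = 2 := by
    rw [← hord, ← orderOf_injective (f.range.subtype.comp (Subgroup.center f.range).subtype)
      (Subtype.val_injective.comp Subtype.val_injective)]
    rfl
  have hcomm : ∀ (g : P) (y : O), g • z0 y = z0 (g • y) := by
    intro g y
    have := Subgroup.mem_center_iff.mp hzc ⟨f g, g, rfl⟩
    exact DFunLike.congr_fun (congrArg Subtype.val this) y
  have hz0fix : ∀ y : O, z0 y ≠ y := by
    intro y hy
    have h1 : z0 = 1 := by
      ext w
      obtain ⟨g, rfl⟩ := MulAction.exists_smul_eq P y w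
      rw [← hcomm, hy]; rfl
    rw [h1] at hord'; simp at hord'
  have hsq : z0 * z0 = 1 := by rw [← sq, ← hord', pow_orderOf_eq_one]
  let z : Perm α := Equiv.Perm.ofSubtype z0
  have hin : ∀ y (hy : y ∈ O), z y = z0 ⟨y, hy⟩ := fun y hy => Equiv.Perm.ofSubtype_apply_of_mem z0 hy
  have hout : ∀ y, y ∉ O → z y = y := fun y hy => Equiv.Perm.ofSubtype_apply_of_not_mem z0 hy
  refine ⟨z, fun y => ?_, fun y hy => ⟨?_, ?_⟩, hout, fun g hg y => ?_⟩
  · by_cases hy : y ∈ O
    · rw [hin y hy, hin _ (z0 ⟨y, hy⟩).2]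
      exact congrArg Subtype.val (DFunLike.congr_fun hsq ⟨y, hy⟩)
    · rw [hout y hy, hout y hy]
  · rw [hin y hy]; exact (z0 ⟨y, hy⟩).2
  · rw [hin y hy]; exact fun h => hz0fix ⟨y, hy⟩ (Subtype.ext h)
  · by_cases hy : y ∈ O
    · have hgy : g y ∈ O := MulAction.mem_orbit_of_mem_orbit (⟨g, hg⟩ : P) hy
      rw [hin y hy, hin _ hgy]
      exact congrArg Subtype.val (hcomm ⟨g, hg⟩ ⟨y, hy⟩)
    · rw [hout y hy, hout]
      exact fun h => hy ((mem_orbit_smul_iff P ⟨g, hg⟩ x y).mp h)

theorem setStab_proper (A : Finset α) (hn : 3 ≤ Fintype.card α) {a b : α} (ha : a ∈ A) (hb : b ∉ A) :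
    ∃ g ∈ alternatingGroup α, g ∉ setStab A := by
  obtain ⟨c, hc⟩ : ((Finset.univ.erase a).erase b).Nonempty := by
    rw [← Finset.card_pos, Finset.card_erase_of_mem (by simp; exact fun h => hb (h ▸ ha)),
      Finset.card_erase_of_mem (Finset.mem_univ _), Finset.card_univ]
    omega
  simp only [Finset.mem_erase] at hc
  have hab : a ≠ b := fun h => hb (h ▸ ha)
  refine ⟨c3 a b c, c3_mem_alt hab hc.1.symm, fun h => hb ?_⟩
  have := (h a).mpr ha
  rwa [c3_apply1 hab hc.2.1.symm] at this

theorem partStab_proper (A : Finset α) {a a' b : α} (ha : a ∈ A) (ha' : a' ∈ A) (hne : a ≠ a') (hb : b ∉ A) :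
    ∃ g ∈ alternatingGroup α, g ∉ partStab A := by
  have hab : a ≠ b := fun h => hb (h ▸ ha)
  have hba' : b ≠ a' := fun h => hb (h ▸ ha')
  refine ⟨c3 a b a', c3_mem_alt hab hba', fun h => ?_⟩
  have := h a a'
  rw [c3_apply1 hab hne, c3_apply3] at this
  exact hb ((this.mpr (by simp [ha, ha'])).mpr ha)

theorem cz_proper {z : Perm α} (hz : ∀ x, z (z x) = x) {x : α} (hx : z x ≠ x) (hn : 3 ≤ Fintype.card α) :
    ∃ g ∈ alternatingGroup α, g ∉ cz z := by
  obtain ⟨w, hw⟩ : ((Finset.univ.erase x).erase (z x)).Nonempty := by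
    rw [← Finset.card_pos, Finset.card_erase_of_mem (by simp [hx]),
      Finset.card_erase_of_mem (Finset.mem_univ _), Finset.card_univ]
    omega
  simp only [Finset.mem_erase] at hw
  refine ⟨c3 x (z x) w, c3_mem_alt hx.symm hw.1.symm, fun h => ?_⟩
  have := (mem_cz.mp h) x
  rw [c3_apply2 hw.2.1.symm hw.1.symm, c3_apply1 hx.symm hw.2.1.symm, hz] at this
  exact hw.2.1 this

theorem not_unique_case (hinj : Function.Injective φ) (hA : alternatingGroup (Fin n) ≤ φ.range)
    (hn : 5 ≤ n) (R : Sylow 2 G) (hk : ¬ ∃ k : ℕ, 2 ≤ k ∧ n = 2 ^ k + 1) :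
    ¬ ∃! M : Subgroup G, IsCoatom M ∧ (R : Subgroup G) ≤ M := by
  classical
  set P := (R : Subgroup G).map φ with hPdef
  have hP : IsPGroup 2 P := R.2.map φ
  let O : Fin n → Finset (Fin n) := fun x => (MulAction.orbit P x).toFinset
  have hmem : ∀ {x y}, y ∈ O x ↔ y ∈ MulAction.orbit P x := fun {x y} => Set.mem_toFinset
  have hpow : ∀ x, ∃ a : ℕ, (O x).card = 2 ^ a := by
    intro x
    obtain ⟨a, ha⟩ := hP.card_orbit x
    exact ⟨a, by rw [Set.toFinset_card, ← Nat.card_eq_fintype_card, ha]⟩
  have hinv : ∀ x, P ≤ setStab (O x) := fun x g hg y => by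
    rw [hmem, hmem]
    exact mem_orbit_smul_iff P ⟨g, hg⟩ x y
  have hself : ∀ x, x ∈ O x := fun x => hmem.mpr (MulAction.mem_orbit_self x)
  have hdisj : ∀ {x y}, y ∉ O x → Disjoint (O x) (O y) := by
    intro x y h
    rw [Finset.disjoint_left]
    intro w h1 h2
    rw [hmem] at h1 h2
    rw [hmem] at h
    rw [← MulAction.orbit_eq_iff] at h1 h2
    exact h (h1 ▸ h2 ▸ MulAction.mem_orbit_self y)
  have hmove : ∀ x, 2 ≤ (O x).card → ∃ g ∈ P, g x ≠ x := by
    intro x hc
    obtain ⟨y, hy, hyx⟩ := Finset.exists_mem_ne hc x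
    obtain ⟨g, rfl⟩ := hmem.mp hy
    exact ⟨g, g.2, hyx⟩
  have hcz : ∀ z : Perm (Fin n), (∀ g ∈ P, ∀ y, g (z y) = z (g y)) → P ≤ cz z :=
    fun z hz g hg => mem_cz.mpr (hz g hg)
  have hcardn : Fintype.card (Fin n) = n := Fintype.card_fin n
  obtain ⟨x, -, hmax⟩ := Finset.exists_max_image Finset.univ (fun x => (O x).card) ⟨⟨0, by omega⟩, Finset.mem_univ _⟩
  have hmax' : ∀ y, (O y).card ≤ (O x).card := fun y => hmax y (Finset.mem_univ _)
  by_cases h1 : O x = Finset.univ
  · -- transitive
    obtain ⟨a, ha⟩ := hpow x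
    rw [h1, Finset.card_univ, hcardn] at ha
    obtain ⟨z, hz2, hzO, -, hzc⟩ := exists_orbit_involution P hP x (hmove x (by rw [h1, Finset.card_univ, hcardn]; omega))
    have hall : ∀ y, y ∈ MulAction.orbit P x := fun y => hmem.mp (h1 ▸ Finset.mem_univ y)
    set S := MulAction.stabilizer P x with hS
    have hidx : S.index = n := by
      rw [MulAction.index_stabilizer, Set.ncard_eq_toFinset_card', show (MulAction.orbit P x).toFinset = Finset.univ from h1,
        Finset.card_univ, hcardn]
    obtain ⟨c, hc⟩ := IsPGroup.iff_card.mp (hP.to_subgroup S)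
    have hcardP : Nat.card P = 2 ^ (c + a) := by rw [← S.card_mul_index, hc, hidx, ha, pow_add]
    have ha3 : 3 ≤ a := by
      by_contra h
      have : 2 ^ a ≤ 2 ^ 2 := Nat.pow_le_pow_right (by norm_num) (by omega)
      omega
    obtain ⟨K, hKc, hSK⟩ := Sylow.exists_subgroup_card_pow_prime_le 2 (m := c + a - 1)
      (hcardP ▸ pow_dvd_pow 2 (by omega)) S hc (by omega)
    have hK2 : K.index = 2 := by
      have h := K.card_mul_index
      rw [hKc, hcardP, show c + a = (c + a - 1) + 1 by omega, pow_succ] at h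
      exact Nat.eq_of_mul_eq_mul_left (by positivity) h
    let A : Finset (Fin n) := Finset.univ.filter (fun y => ∃ r ∈ K, (r : P) • x = y)
    have hA' : ∀ r : P, r • x ∈ A ↔ r ∈ K := by
      intro r
      simp only [A, Finset.mem_filter, Finset.mem_univ, true_and]
      refine ⟨fun ⟨k, hk, he⟩ => ?_, fun h => ⟨r, h, rfl⟩⟩
      have : k⁻¹ * r ∈ S := by rw [hS, MulAction.mem_stabilizer_iff, mul_smul, ← he, inv_smul_smul]
      simpa using K.mul_mem hk (hSK this)
    have hPA : P ≤ partStab A := by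
      intro g hg y1 y2
      obtain ⟨r1, rfl⟩ := hall y1
      obtain ⟨r2, rfl⟩ := hall y2
      show ((⟨g, hg⟩ : P) • r1 • x ∈ A ↔ (⟨g, hg⟩ : P) • r2 • x ∈ A) ↔ _
      rw [← mul_smul, ← mul_smul, hA', hA', hA', hA', Subgroup.mul_mem_iff_of_index_two hK2,
        Subgroup.mul_mem_iff_of_index_two hK2]
      tauto
    have hzA : z ∈ partStab A := by
      obtain ⟨r0, hr0⟩ := hall (z x)
      intro y1 y2
      obtain ⟨r1, rfl⟩ := hall y1
      obtain ⟨r2, rfl⟩ := hall y2
      have e : ∀ r : P, z (r • x) = (r * r0) • x := by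
        intro r
        rw [mul_smul]
        exact (hzc r r.2 x).symm.trans (congrArg (r : Perm (Fin n)) hr0.symm)
      rw [e, e, hA', hA', hA', hA', Subgroup.mul_mem_iff_of_index_two hK2,
        Subgroup.mul_mem_iff_of_index_two hK2]
      tauto
    obtain ⟨r0, hr0⟩ := SetLike.exists_not_mem_of_ne_top K (by
      intro h; rw [h, Subgroup.index_top] at hK2; omega)
    have hswap : ∀ y, y ∈ A ↔ (r0 : Perm (Fin n)) y ∉ A := by
      intro y
      obtain ⟨r, rfl⟩ := hall y
      show r • x ∈ A ↔ r0 • r • x ∉ A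
      rw [← mul_smul, hA', hA', Subgroup.mul_mem_iff_of_index_two hK2]
      tauto
    have hcA : A.card = Aᶜ.card := by
      refine Finset.card_bij (fun y _ => (r0 : Perm (Fin n)) y)
        (fun y hy => Finset.mem_compl.mpr ((hswap y).mp hy))
        (fun _ _ _ _ h => (r0 : Perm (Fin n)).injective h) (fun w hw => ?_)
      have hw' : (r0 : Perm (Fin n)) ((r0 : Perm (Fin n))⁻¹ w) = w := Equiv.apply_symm_apply (r0 : Perm (Fin n)) w
      exact ⟨(r0 : Perm (Fin n))⁻¹ w, (hswap _).mpr (by rw [hw']; exact Finset.mem_compl.mp hw), hw'⟩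
    have hA4 : 4 ≤ A.card := by
      have := A.card_add_card_compl
      have : 2 ^ 3 ≤ 2 ^ a := Nat.pow_le_pow_right (by norm_num) ha3
      omega
    refine not_unique φ hinj hA R (cz z) (partStab A) (hcz z hzc) hPA
      (cz_proper hz2 (hzO x (MulAction.mem_orbit_self x)).2 (by omega)) ?_ ?_
    · obtain ⟨a1, h1', a2, h2', h12⟩ := Finset.one_lt_card.mp (show 1 < A.card by omega)
      exact partStab_proper A h1' h2' h12 ((hswap a1).mp h1')
    · exact (alt_le_sup z hz2 (fun y => (hzO y (hall y)).2) A hA4 hzA).trans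
        (sup_le_sup le_rfl (inf_le_inf_right _ (setStab_le_partStab A)))
  · obtain ⟨y, hy⟩ : ∃ y, y ∉ O x := by
      by_contra h
      push Not at h
      exact h1 (Finset.eq_univ_iff_forall.mpr h)
    obtain ⟨a, ha⟩ := hpow x
    obtain ⟨b, hb⟩ := hpow y
    by_cases h2 : O x ∪ O y = Finset.univ
    · have hn' : n = 2 ^ a + 2 ^ b := by
        rw [← ha, ← hb, ← Finset.card_union_of_disjoint (hdisj hy), h2, Finset.card_univ, hcardn]
      have hba : 2 ^ b ≤ 2 ^ a := by rw [← ha, ← hb]; exact hmax' y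
      have ha2 : 2 ≤ a := by
        by_contra h
        have : 2 ^ a ≤ 2 ^ 1 := Nat.pow_le_pow_right (by norm_num) (by omega)
        omega
      have hb1 : 1 ≤ b := by
        by_contra h
        exact hk ⟨a, ha2, by rw [hn', show b = 0 by omega, pow_zero]⟩
      have hbc : 2 ≤ (O y).card := hb ▸ Nat.le_self_pow (by omega) 2
      have hac : 4 ≤ (O x).card := ha ▸ (Nat.pow_le_pow_right (by norm_num) ha2 : 2 ^ 2 ≤ 2 ^ a)
      obtain ⟨z1, hz1, hz1O, hz1f, hz1c⟩ := exists_orbit_involution P hP x (hmove x (by omega))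
      obtain ⟨z2, hz2, hz2O, hz2f, hz2c⟩ := exists_orbit_involution P hP y (hmove y hbc)
      have hnot : ∀ w, w ∈ MulAction.orbit P x → w ∉ MulAction.orbit P y := fun w hw hw' =>
        Finset.disjoint_left.mp (hdisj hy) (hmem.mpr hw) (hmem.mpr hw')
      have hor : ∀ w, w ∈ MulAction.orbit P x ∨ w ∈ MulAction.orbit P y := fun w => by
        have := h2 ▸ Finset.mem_univ w
        simpa [hmem] using this
      set z := z1 * z2 with hz
      have hzx : ∀ w ∈ MulAction.orbit P x, z w = z1 w := fun w hw => by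
        rw [hz, Perm.mul_apply, hz2f w (hnot w hw)]
      have hzy : ∀ w ∈ MulAction.orbit P y, z w = z2 w := fun w hw => by
        rw [hz, Perm.mul_apply, hz1f _ (fun h => hnot _ h (hz2O w hw).1)]
      have hinvz : ∀ w, z (z w) = w := by
        intro w
        rcases hor w with hw | hw
        · rw [hzx w hw, hzx _ (hz1O w hw).1, hz1]
        · rw [hzy w hw, hzy _ (hz2O w hw).1, hz2]
      have hfpf : ∀ w, z w ≠ w := by
        intro w
        rcases hor w with hw | hw
        · rw [hzx w hw]; exact (hz1O w hw).2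
        · rw [hzy w hw]; exact (hz2O w hw).2
      have hzset : z ∈ setStab (O x) := by
        intro w
        rw [hmem, hmem]
        rcases hor w with hw | hw
        · rw [hzx w hw]; exact iff_of_true (hz1O w hw).1 hw
        · rw [hzy w hw]
          exact iff_of_false (fun h => hnot _ h (hz2O w hw).1) (fun h => hnot _ h hw)
      refine not_unique φ hinj hA R (cz z) (setStab (O x)) (hcz z ?_) (hinv x)
        (cz_proper hinvz (hfpf x) (by omega)) (setStab_proper _ (by omega) (hself x) hy)
        (alt_le_sup z hinvz hfpf (O x) hac (setStab_le_partStab _ hzset))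
      intro g hg w
      rw [hz, Perm.mul_apply, Perm.mul_apply, hz1c g hg, hz2c g hg]
    · obtain ⟨w, hw⟩ : ∃ w, w ∉ O x ∪ O y := by
        by_contra h
        push Not at h
        exact h2 (Finset.eq_univ_iff_forall.mpr h)
      rw [Finset.mem_union, not_or] at hw
      have hxy : x ∉ O y := fun h => Finset.disjoint_left.mp (hdisj hy) (hself x) h
      have hxw : x ∉ O w := fun h => Finset.disjoint_left.mp (hdisj hw.1) (hself x) h
      have big : ∀ u v, Disjoint (O x) (O u) → Disjoint (O x) (O v) → Disjoint (O u) (O v) → 3 ≤ (O u)ᶜ.card := by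
        intro u v d1 d2 d3
        have hsub : O x ∪ O v ⊆ (O u)ᶜ := fun t ht => by
          rw [Finset.mem_compl]
          rcases Finset.mem_union.mp ht with ht | ht
          · exact Finset.disjoint_left.mp d1 ht
          · exact Finset.disjoint_right.mp d3 ht
        have h3 := Finset.card_le_card hsub
        rw [Finset.card_union_of_disjoint d2] at h3
        have := hmax' u
        have := (O u).card_add_card_compl
        have : 1 ≤ (O v).card := Finset.card_pos.mpr ⟨v, hself v⟩
        omega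
      exact not_unique φ hinj hA R (setStab (O y)) (setStab (O w)) (hinv y) (hinv w)
        (setStab_proper _ (by omega) (hself y) hxy) (setStab_proper _ (by omega) (hself w) hxw)
        (alt_le_sup_two (O y) (O w) (hdisj hw.2) (big y w (hdisj hy) (hdisj hw.1) (hdisj hw.2))
          (big w y (hdisj hw.1) (hdisj hy) (hdisj hw.2).symm) hxy hxw)

theorem unique_case (hinj : Function.Injective φ) (hA : alternatingGroup (Fin n) ≤ φ.range)
    (hn : 5 ≤ n) (R : Sylow 2 G) (k : ℕ) (hk : 2 ≤ k) (hnk : n = 2 ^ k + 1) :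
    ∃! M : Subgroup G, IsCoatom M ∧ (R : Subgroup G) ≤ M := by
  classical
  set P := (R : Subgroup G).map φ with hPdef
  have hP : IsPGroup 2 P := R.2.map φ
  letI : MulAction G (Fin n) := MulAction.compHom _ φ
  have hsmul : ∀ (g : G) (y : Fin n), g • y = φ g y := fun _ _ => rfl
  obtain ⟨a, ha⟩ : (MulAction.fixedPoints P (Fin n)).Nonempty := by
    apply hP.nonempty_fixed_point_of_prime_not_dvd_card (Fin n)
    rw [Nat.card_eq_fintype_card, Fintype.card_fin, hnk]
    intro h
    have : 2 ∣ 2 ^ k := dvd_pow_self 2 (by omega)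
    omega
  have hfixR : ∀ r ∈ (R : Subgroup G), φ r a = a := fun r hr => ha ⟨φ r, r, hr, rfl⟩
  haveI : Nontrivial (Fin n) := Fin.nontrivial_iff_two_le.mpr (by omega)
  set Ga := MulAction.stabilizer G a with hGa
  have hRGa : (R : Subgroup G) ≤ Ga := fun r hr => hfixR r hr
  have htrans : ∀ x y, x ≠ a → y ≠ a → ∃ g ∈ Ga, φ g x = y := by
    intro x y hx hy
    rcases eq_or_ne x y with rfl | hxy
    · exact ⟨1, Ga.one_mem, by simp⟩
    obtain ⟨w, hw⟩ : ((({a} : Finset (Fin n))ᶜ.erase x).erase y).Nonempty := by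
      rw [← Finset.card_pos]
      have h1 := Finset.pred_card_le_card_erase (s := ({a} : Finset (Fin n))ᶜ.erase x) (a := y)
      have h2 := Finset.pred_card_le_card_erase (s := ({a} : Finset (Fin n))ᶜ) (a := x)
      rw [Finset.card_compl, Finset.card_singleton, Fintype.card_fin] at h2
      omega
    simp only [Finset.mem_erase, Finset.mem_compl, Finset.mem_singleton] at hw
    obtain ⟨g, hg⟩ := hA (c3_mem_alt hxy hw.1.symm)
    refine ⟨g, ?_, by rw [hg]; exact c3_apply1 hxy hw.2.1.symm⟩
    show φ g a = a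
    rw [hg, c3_apply_ne hx.symm hy.symm (Ne.symm hw.2.2)]
  have hRtrans : ∀ x y, x ≠ a → y ≠ a → ∃ r ∈ (R : Subgroup G), φ r x = y := by
    intro x y hx hy
    have e1 : (MulAction.stabilizer G x).relIndex Ga = 2 ^ k := by
      have : (MulAction.stabilizer G x).subgroupOf Ga = MulAction.stabilizer Ga x := rfl
      rw [Subgroup.relIndex, this, MulAction.index_stabilizer]
      have horb : MulAction.orbit Ga x = ({a} : Set (Fin n))ᶜ := by
        ext w
        constructor
        · rintro ⟨g, rfl⟩ (h : φ (g : G) x = a)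
          exact hx ((φ (g : G)).injective (h.trans (show φ (g : G) a = a from g.2).symm))
        · intro hw
          obtain ⟨g, hg, hgx⟩ := htrans x w hx hw
          exact ⟨⟨g, hg⟩, hgx⟩
      rw [horb, Set.ncard_compl, Set.ncard_singleton, Nat.card_eq_fintype_card, Fintype.card_fin, hnk]
      rfl
    set S := MulAction.stabilizer G x
    have c1 := Subgroup.relIndex_mul_relIndex ((R : Subgroup G) ⊓ S) R Ga inf_le_left hRGa
    have c2 := Subgroup.relIndex_mul_relIndex ((R : Subgroup G) ⊓ S) (Ga ⊓ S) Ga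
      (inf_le_inf_right _ hRGa) inf_le_left
    rw [Subgroup.inf_relIndex_left] at c1
    rw [Subgroup.inf_relIndex_left Ga S, e1] at c2
    have hodd : Nat.Coprime (2 ^ k) ((R : Subgroup G).relIndex Ga) :=
      Nat.Coprime.pow_left _ (Nat.prime_two.coprime_iff_not_dvd.mpr fun h => R.not_dvd_index
        (h.trans (Dvd.intro _ (Subgroup.relIndex_mul_index hRGa))))
    have hdvd : 2 ^ k ∣ S.relIndex R := hodd.dvd_of_dvd_mul_right (Dvd.intro_left _ (c2.trans c1.symm))
    have e2 : S.relIndex R = (MulAction.orbit (R : Subgroup G) x).ncard := by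
      have : S.subgroupOf R = MulAction.stabilizer (R : Subgroup G) x := rfl
      rw [Subgroup.relIndex, this, MulAction.index_stabilizer]
    have hsub : MulAction.orbit (R : Subgroup G) x ⊆ ({a} : Set (Fin n))ᶜ := by
      rintro w ⟨⟨r, hr⟩, rfl⟩ (h : φ r x = a)
      exact hx ((φ r).injective (h.trans (hfixR r hr).symm))
    have heq : MulAction.orbit (R : Subgroup G) x = ({a} : Set (Fin n))ᶜ := by
      apply Set.eq_of_subset_of_ncard_le hsub
      rw [Set.ncard_compl, Set.ncard_singleton, Nat.card_eq_fintype_card, Fintype.card_fin, ← e2, hnk]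
      exact Nat.le_of_dvd (Nat.pos_of_ne_zero (e2 ▸ ((MulAction.nonempty_orbit x).ncard_pos).ne')) hdvd
    obtain ⟨⟨r, hr⟩, hrx⟩ : y ∈ MulAction.orbit (R : Subgroup G) x := heq ▸ hy
    exact ⟨r, hr, hrx⟩
  suffices key : ∀ M : Subgroup G, (R : Subgroup G) ≤ M → ¬ M ≤ Ga → M = ⊤ by
    have hne : Ga ≠ ⊤ := by
      obtain ⟨x, hx⟩ := exists_ne a
      obtain ⟨w, hw⟩ : ((Finset.univ.erase a).erase x).Nonempty := by
        rw [← Finset.card_pos, Finset.card_erase_of_mem (by simp [hx]),
          Finset.card_erase_of_mem (Finset.mem_univ _), Finset.card_univ, Fintype.card_fin]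
        omega
      simp only [Finset.mem_erase] at hw
      obtain ⟨g, hg⟩ := hA (c3_mem_alt hx.symm hw.1.symm)
      intro h
      have : φ g a = a := (h ▸ Subgroup.mem_top g : g ∈ Ga)
      rw [hg, c3_apply1 hx.symm hw.2.1.symm] at this
      exact hx this
    have hco : IsCoatom Ga := ⟨hne, fun M hM => key M (hRGa.trans hM.le) hM.not_ge⟩
    refine ⟨Ga, ⟨hco, hRGa⟩, fun M ⟨hM, hRM⟩ => ?_⟩
    by_cases h : M ≤ Ga
    · rcases h.lt_or_eq with h | h
      · exact absurd (hM.2 _ h) hne
      · exact h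
    · exact absurd (key M hRM h) hM.1
  intro M hRM hMa
  obtain ⟨m0, hm0, hm0a⟩ := SetLike.not_le_iff_exists.mp hMa
  replace hm0a : φ m0 a ≠ a := hm0a
  set M' := M.map φ with hM'
  have hone : ∀ u, ∃ g ∈ M', g u = a := by
    intro u
    rcases eq_or_ne u a with rfl | hu
    · exact ⟨1, M'.one_mem, rfl⟩
    have hia : φ m0⁻¹ a ≠ a := fun h => hm0a (by
      conv_lhs => rw [← h, ← Perm.mul_apply, ← map_mul, mul_inv_cancel, map_one, Perm.one_apply])
    obtain ⟨r, hr, hru⟩ := hRtrans u _ hu hia
    refine ⟨φ (m0 * r), ⟨_, M.mul_mem hm0 (hRM hr), rfl⟩, ?_⟩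
    rw [map_mul, Perm.mul_apply, hru, ← Perm.mul_apply, ← map_mul, mul_inv_cancel, map_one, Perm.one_apply]
  have htwo : ∀ x, x ≠ a → ∀ u v, u ≠ v → ∃ g ∈ M', g u = a ∧ g v = x := by
    intro x hx u v huv
    obtain ⟨g, hg, hgu⟩ := hone u
    obtain ⟨r, hr, hrv⟩ := hRtrans (g v) x (fun h => huv (g.injective (hgu.trans h.symm))) hx
    refine ⟨φ r * g, M'.mul_mem ⟨r, hRM hr, rfl⟩ hg, ?_, hrv⟩
    rw [Perm.mul_apply, hgu, hfixR r hr]
  obtain ⟨x0, hx0⟩ := exists_ne a
  refine eq_top_of_alt_le φ hinj R M hRM ?_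
  by_cases hk3 : k = 2
  · -- degree five
    subst hk3
    have h5 : n = 5 := by omega
    subst h5
    haveI := alternatingGroup.isSimpleGroup_five
    set A := alternatingGroup (Fin 5)
    have hA60 : Nat.card A = 60 := by
      rw [nat_card_alternatingGroup, Nat.card_eq_fintype_card, Fintype.card_fin]; decide
    set c := A.relIndex φ.range with hc
    have hcG : Nat.card G = 60 * c := by
      rw [Nat.card_congr (MonoidHom.ofInjective hinj).toEquiv, ← hA60, hc, Subgroup.relIndex,
        ← Nat.card_congr (Subgroup.subgroupOfEquivOfLe hA).toEquiv, Subgroup.card_mul_index]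
    have hc2 : c ∣ 2 := by
      rw [← alternatingGroup.index_eq_two (α := Fin 5)]
      exact Subgroup.relIndex_dvd_index_of_normal _ _
    have h4c : 4 * c ∣ Nat.card M := by
      refine dvd_trans ?_ (Subgroup.card_dvd_of_le hRM)
      rcases (Nat.dvd_prime Nat.prime_two).mp hc2 with h | h <;> rw [h] at hcG ⊢
      · exact R.pow_dvd_card_of_pow_dvd_card (n := 2) (hcG ▸ by norm_num)
      · exact R.pow_dvd_card_of_pow_dvd_card (n := 3) (hcG ▸ by norm_num)
    have hcard5 : 5 ∣ Nat.card M := by
      have : MulAction.orbit M a = Set.univ := by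
        refine Set.eq_univ_of_forall fun u => ?_
        obtain ⟨g, ⟨m, hm, rfl⟩, hgu⟩ := hone u
        refine ⟨(⟨m, hm⟩ : M)⁻¹, ?_⟩
        show φ m⁻¹ a = u
        rw [← hgu, ← Perm.mul_apply, ← map_mul, inv_mul_cancel, map_one, Perm.one_apply]
      have h := (MulAction.stabilizer M a).index_dvd_card
      rwa [MulAction.index_stabilizer, this, Set.ncard_univ, Nat.card_eq_fintype_card, Fintype.card_fin] at h
    have h20 : 20 * c ∣ Nat.card M := by
      have : Nat.Coprime (4 * c) 5 := by
        rcases (Nat.dvd_prime Nat.prime_two).mp hc2 with h | h <;> rw [h] <;> norm_num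
      have h := this.mul_dvd_of_dvd_of_dvd h4c hcard5
      rwa [mul_comm 4 c, mul_assoc, mul_comm c] at h
    set N := M'.subgroupOf A with hN
    have h20' : 20 ∣ Nat.card N := by
      have h1 : (A.subgroupOf M').index ∣ c := by
        have hAn : (A.subgroupOf φ.range).Normal := inferInstance
        have := Subgroup.relIndex_dvd_index_of_normal (H := A.subgroupOf φ.range) (M'.subgroupOf φ.range)
        rwa [Subgroup.relIndex_subgroupOf (Subgroup.map_le_range φ M)] at this
      have h2 : Nat.card M = Nat.card (A.subgroupOf M') * (A.subgroupOf M').index := by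
        rw [Subgroup.card_mul_index, Nat.card_congr (M.equivMapOfInjective φ hinj).toEquiv]
      have h3 : Nat.card (A.subgroupOf M') = Nat.card N := by
        rw [hN, Subgroup.subgroupOf, Subgroup.subgroupOf, ← Subgroup.card_map_of_injective (f := M'.subtype)
          (Subgroup.subtype_injective _), ← Subgroup.card_map_of_injective (f := A.subtype)
          (Subgroup.subtype_injective _) (K := M'.comap A.subtype), Subgroup.map_comap_eq, Subgroup.map_comap_eq,
          Subgroup.range_subtype, Subgroup.range_subtype, inf_comm]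
      obtain ⟨e, he⟩ := h1
      have : 20 * c ∣ Nat.card N * c := by
        refine h20.trans ?_
        rw [h2, h3, he, ← mul_assoc]
        exact Dvd.intro _ rfl
      exact Nat.dvd_of_mul_dvd_mul_right (Nat.pos_of_ne_zero (fun h => absurd (hcG.trans (by rw [h])) (Nat.card_pos (α := G)).ne')) this
    have hidx : N.index ≤ 3 := by
      have h := N.card_mul_index
      rw [hA60] at h
      have := Nat.le_of_dvd Nat.card_pos h20'
      nlinarith
    have htop : N = ⊤ := by
      set ψ := MulAction.toPermHom A (A ⧸ N) with hψ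
      rcases (inferInstance : ψ.ker.Normal).eq_bot_or_eq_top with h | h
      · exfalso
        have hle := Nat.card_le_card_of_injective ψ ((MonoidHom.ker_eq_bot_iff ψ).mp h)
        rw [hA60, Nat.card_perm, ← Subgroup.index_eq_card] at hle
        have := hle.trans (Nat.factorial_le hidx)
        norm_num [Nat.factorial] at this
      · have h2 := M'.normalCore_le
        rw [← top_le_iff, ← h, hψ, ← Subgroup.normalCore_eq_ker]
        exact N.normalCore_le
    exact fun g hg => Subgroup.mem_subgroupOf.mp (htop ▸ Subgroup.mem_top (⟨g, hg⟩ : A) : _ ∈ N)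
  · -- degree at least nine
    have hn9 : 9 ≤ n := by
      have : 2 ^ 3 ≤ 2 ^ k := Nat.pow_le_pow_right (by norm_num) (by omega)
      omega
    haveI : MulAction.IsMultiplyPretransitive M' (Fin n) 2 := by
      rw [MulAction.is_two_pretransitive_iff]
      intro p q c d hpq hcd
      obtain ⟨g, hg, g1, g2⟩ := htwo x0 hx0 p q hpq
      obtain ⟨h, hh, h1, h2⟩ := htwo x0 hx0 c d hcd
      refine ⟨⟨h⁻¹ * g, M'.mul_mem (M'.inv_mem hh) hg⟩, ?_, ?_⟩
      · show h⁻¹ (g p) = c
        rw [g1, ← h1]; exact h.symm_apply_apply c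
      · show h⁻¹ (g q) = d
        rw [g2, ← h2]; exact h.symm_apply_apply d
    have hprim : MulAction.IsPreprimitive M' (Fin n) := MulAction.isPreprimitive_of_is_two_pretransitive inferInstance
    obtain ⟨z, hz2, hzO, hzf, hzc⟩ := exists_orbit_involution P hP x0 (by
      obtain ⟨w, hw⟩ : ((Finset.univ.erase a).erase x0).Nonempty := by
        rw [← Finset.card_pos, Finset.card_erase_of_mem (by simp [hx0]),
          Finset.card_erase_of_mem (Finset.mem_univ _), Finset.card_univ, Fintype.card_fin]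
        omega
      simp only [Finset.mem_erase] at hw
      obtain ⟨r, hr, hrw⟩ := hRtrans x0 w hx0 hw.2.1
      exact ⟨φ r, ⟨r, hr, rfl⟩, by rw [hrw]; exact hw.1⟩)
    have horb : ∀ y, y ∈ MulAction.orbit P x0 ↔ y ≠ a := by
      intro y
      constructor
      · rintro ⟨⟨g, r, hr, rfl⟩, rfl⟩ (h : φ r x0 = a)
        exact hx0 ((φ r).injective (h.trans (hfixR r hr).symm))
      · intro hy
        obtain ⟨r, hr, hrw⟩ := hRtrans x0 y hx0 hy
        exact ⟨⟨φ r, r, hr, rfl⟩, hrw⟩
    have hza : z a = a := hzf a (fun h => (horb a).mp h rfl)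
    have hzne : ∀ y, y ≠ a → z y ≠ y := fun y hy => (hzO y ((horb y).mpr hy)).2
    have hpair : ∀ i j, i ≠ a → j ≠ a → i ≠ j → i ≠ z j →
        swap i (z i) * swap j (z j) ∈ M' := by
      let T : Subgroup (Perm (Fin n)) :=
        { carrier := {g | (∀ y, g (z y) = z (g y)) ∧ ∀ y, g y = y ∨ g y = z y}
          one_mem' := ⟨fun _ => rfl, fun _ => Or.inl rfl⟩
          mul_mem' := fun {g h} ⟨g1, g2⟩ ⟨h1, h2⟩ => ⟨fun y => by
              rw [Perm.mul_apply, Perm.mul_apply, h1, g1], fun y => by
              rw [Perm.mul_apply]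
              rcases h2 y with e | e
              · rw [e]; exact g2 y
              · rw [e, g1]
                rcases g2 y with e' | e'
                · right; rw [e']
                · left; rw [e', hz2]⟩
          inv_mem' := fun {g} ⟨g1, g2⟩ => by
            have : g⁻¹ = g := by
              rw [inv_eq_iff_mul_eq_one]
              ext y : 1
              rcases g2 y with e | e
              · rw [Perm.mul_apply, e, e]; rfl
              · rw [Perm.mul_apply, e, g1, e, hz2]; rfl
            exact this ▸ ⟨g1, g2⟩ }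
      have hT : IsPGroup 2 (T.comap φ) := by
        refine IsPGroup.comap_of_injective ?_ φ hinj
        rintro ⟨g, g1, g2⟩
        refine ⟨1, Subtype.ext (Equiv.ext fun y => ?_)⟩
        show (g ^ (2 ^ 1)) y = y
        rw [pow_one, sq, Perm.mul_apply]
        rcases g2 y with e | e
        · rw [e, e]
        · rw [e, g1, e, hz2]
      have hnorm : (R : Subgroup G) ≤ Subgroup.normalizer ((T.comap φ : Subgroup G) : Set G) := by
        intro r hr
        rw [Subgroup.mem_normalizer_iff]
        have conj : ∀ r ∈ (R : Subgroup G), ∀ g, φ g ∈ T → φ (r * g * r⁻¹) ∈ T := by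
          intro r hr g ⟨g1, g2⟩
          have hc : ∀ y, φ r (z y) = z (φ r y) := hzc _ ⟨r, hr, rfl⟩
          have hc' : ∀ y, φ r⁻¹ (z y) = z (φ r⁻¹ y) := hzc _ ⟨r⁻¹, (R : Subgroup G).inv_mem hr, rfl⟩
          refine ⟨fun y => ?_, fun y => ?_⟩
          · simp only [map_mul, Perm.mul_apply]
            rw [hc', g1, hc]
          · simp only [map_mul, Perm.mul_apply]
            have hcancel : φ r (φ r⁻¹ y) = y := by
              rw [← Perm.mul_apply, ← map_mul, mul_inv_cancel, map_one, Perm.one_apply]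
            rcases g2 (φ r⁻¹ y) with e | e
            · left; rw [e, hcancel]
            · right; rw [e, hc, hcancel]
        intro g
        constructor
        · exact conj r hr g
        · intro h
          have := conj r⁻¹ ((R : Subgroup G).inv_mem hr) _ h
          simpa [mul_assoc] using this
      have hsupR : (R : Subgroup G) ⊔ T.comap φ = R :=
        R.is_maximal' (IsPGroup.to_sup_of_normal_right' R.2 hT hnorm) le_sup_left
      intro i j hi hj hij hizj
      have hzij : z i ≠ j := fun h => hizj (by rw [← h, hz2])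
      have hmem : swap i (z i) * swap j (z j) ∈ T := by
        have hsw : ∀ i, swap i (z i) ∈ T := by
          intro i
          refine ⟨fun y => ?_, fun y => ?_⟩
          · rcases eq_or_ne y i with rfl | h1
            · rw [swap_apply_right, swap_apply_left, hz2]
            rcases eq_or_ne y (z i) with rfl | h2
            · rw [hz2, swap_apply_left, swap_apply_right]
            · rw [swap_apply_of_ne_of_ne h1 h2, swap_apply_of_ne_of_ne]
              · exact fun h => h2 (by rw [← h, hz2])
              · exact fun h => h1 (z.injective h)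
          · rcases eq_or_ne y i with rfl | h1
            · right; rw [swap_apply_left]
            rcases eq_or_ne y (z i) with rfl | h2
            · right; rw [swap_apply_right, hz2]
            · left; exact swap_apply_of_ne_of_ne h1 h2
        exact T.mul_mem (hsw i) (hsw j)
      obtain ⟨g, hg⟩ := hA (swap2_mem_alt (hzne i hi).symm (hzne j hj).symm)
      exact ⟨g, hRM (hsupR ▸ Subgroup.mem_sup_right (show φ g ∈ T from hg ▸ hmem)), hg⟩
    -- a double transposition moving the fixed point
    obtain ⟨i0, hi0⟩ : ∃ i0 : Fin n, i0 ≠ a := ⟨x0, hx0⟩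
    obtain ⟨j0, hj0⟩ : (Finset.univ \ {a, i0, z i0}).Nonempty := by
      rw [← Finset.card_pos]
      have := Finset.card_sdiff_add_card_inter (Finset.univ : Finset (Fin n)) {a, i0, z i0}
      have h3 : (Finset.univ ∩ ({a, i0, z i0} : Finset (Fin n))).card ≤ 3 :=
        (Finset.card_le_card Finset.inter_subset_right).trans Finset.card_le_three
      rw [Finset.card_univ, Fintype.card_fin] at this
      omega
    simp only [Finset.mem_sdiff, Finset.mem_univ, true_and, Finset.mem_insert, Finset.mem_singleton, not_or] at hj0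
    obtain ⟨hj0a, hj0i, hj0z⟩ := hj0
    have ht := hpair i0 j0 hi0 hj0a (Ne.symm hj0i) (fun h => hj0z (by rw [h, hz2]))
    obtain ⟨g, hg, hga⟩ := hone i0
    have hxmem := M'.mul_mem (M'.mul_mem hg ht) (M'.inv_mem hg)
    have hxeq : g * (swap i0 (z i0) * swap j0 (z j0)) * g⁻¹ = swap a (g (z i0)) * swap (g j0) (g (z j0)) := by
      rw [← hga, swap_apply_apply, swap_apply_apply]; group
    rw [hxeq] at hxmem
    have hinjg := g.injective
    have hzz : z i0 ≠ z j0 := z.injective.ne (Ne.symm hj0i)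
    set u := g (z i0)
    set v := g j0
    set w := g (z j0)
    have hua : u ≠ a := fun h => hzne i0 hi0 (hinjg (h.trans hga.symm))
    have hva : v ≠ a := fun h => hj0i (hinjg (h.trans hga.symm))
    have hwa : w ≠ a := fun h => hj0z (by rw [← hinjg (h.trans hga.symm), hz2])
    have huv : u ≠ v := hinjg.ne (Ne.symm hj0z)
    have huw : u ≠ w := hinjg.ne hzz
    have hvw : v ≠ w := hinjg.ne (hzne j0 hj0a).symm
    obtain ⟨p, q, i, s, hxm, hi4, hi, hp, hq, hs, hzi⟩ : ∃ p q i s, swap p q * swap s i ∈ M' ∧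
        i ∈ ({a, u, v, w} : Finset (Fin n)) ∧ i ≠ a ∧ p ∈ ({a, u, v, w} : Finset (Fin n)) ∧ q ∈ ({a, u, v, w} : Finset (Fin n)) ∧
        s ∈ ({a, u, v, w} : Finset (Fin n)) ∧
        (p ≠ q ∧ p ≠ i ∧ p ≠ s ∧ q ≠ i ∧ q ≠ s ∧ i ≠ s ∧
          z i ≠ a ∧ z i ≠ u ∧ z i ≠ v ∧ z i ≠ w) := by
      have hnz : ∀ y, y ≠ a → z y ≠ a := fun y hy h => hy (by rw [← hz2 y, h, hza])
      have hcomm : swap a u * swap v w = swap v w * swap a u := by
        apply Equiv.Perm.Disjoint.commute
        rw [Equiv.Perm.disjoint_iff_disjoint_support, support_swap hua.symm, support_swap hvw]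
        simp [hva, hwa, hva.symm, hwa.symm, huv, huw, huv.symm, huw.symm]
      by_cases hu' : z u ≠ v ∧ z u ≠ w
      · exact ⟨v, w, u, a, hcomm ▸ hxmem, by simp, hua, by simp, by simp, by simp, hvw, huv.symm, hva, huw.symm, hwa,
          hua, hnz u hua, hzne u hua, hu'.1, hu'.2⟩
      rcases not_and_or.mp hu' with h | h <;> push Not at h
      · refine ⟨a, u, w, v, hxmem, by simp, hwa, by simp, by simp, by simp, hua.symm, hwa.symm, hva.symm, huw, huv,
          hvw.symm, hnz w hwa, ?_, ?_, hzne w hwa⟩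
        · intro hh; apply hvw; rw [← h, ← hh, hz2]
        · intro hh; apply huw; exact z.injective (h.trans hh.symm)
      · refine ⟨a, u, v, w, ?_, by simp, hva, by simp, by simp, by simp, hua.symm, hva.symm, hwa.symm, huv, huw,
          hvw, hnz v hva, ?_, hzne v hva, ?_⟩
        · rw [swap_comm w v]; exact hxmem
        · intro hh; apply hvw; rw [← h, ← hh, hz2]
        · intro hh; apply huv; exact z.injective (h.trans hh.symm)
    obtain ⟨hpq, hpi, hps, hqi, hqs, his, hza', hzu, hzv, hzw⟩ := hzi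
    obtain ⟨j, hj⟩ : (Finset.univ \ ({a, u, v, w, z i} ∪ {z u, z v, z w})).Nonempty := by
      rw [← Finset.card_pos]
      have := Finset.card_sdiff_add_card_inter (Finset.univ : Finset (Fin n)) ({a, u, v, w, z i} ∪ {z u, z v, z w})
      have h3 : (Finset.univ ∩ ({a, u, v, w, z i} ∪ {z u, z v, z w} : Finset (Fin n))).card ≤ 8 := by
        refine (Finset.card_le_card Finset.inter_subset_right).trans ((Finset.card_union_le _ _).trans ?_)
        refine (add_le_add Finset.card_le_five Finset.card_le_three).trans ?_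
        norm_num
      rw [Finset.card_univ, Fintype.card_fin] at this
      omega
    simp only [Finset.mem_sdiff, Finset.mem_univ, true_and, Finset.mem_union, Finset.mem_insert,
      Finset.mem_singleton, not_or] at hj
    obtain ⟨⟨hja, hju, hjv, hjw, hjzi⟩, hjzu, hjzv, hjzw⟩ := hj
    have hmem4 : ∀ y ∈ ({a, u, v, w} : Finset (Fin n)), j ≠ y ∧ z j ≠ y ∧ z i ≠ y := by
      intro y hy
      simp only [Finset.mem_insert, Finset.mem_singleton] at hy
      rcases hy with rfl | rfl | rfl | rfl
      · exact ⟨hja, fun h => hja (by rw [← hz2 j, h, hza]), hza'⟩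
      · exact ⟨hju, fun h => hjzu (by rw [← h, hz2]), hzu⟩
      · exact ⟨hjv, fun h => hjzv (by rw [← h, hz2]), hzv⟩
      · exact ⟨hjw, fun h => hjzw (by rw [← h, hz2]), hzw⟩
    have hij : i ≠ j := (hmem4 i hi4).1.symm
    have ht2 := hpair i j hi hja hij (fun h => hjzi (by rw [h, hz2]))
    have hprod := M'.mul_mem (M'.mul_mem hxm ht2) (M'.mul_mem hxm ht2)
    obtain ⟨hjp, hzjp, hzip⟩ := hmem4 p hp
    obtain ⟨hjq, hzjq, hziq⟩ := hmem4 q hq
    obtain ⟨hjs, hzjs, hzis⟩ := hmem4 s hs
    have hzij : z i ≠ z j := z.injective.ne hij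
    have hzi_i : z i ≠ i := hzne i hi
    have hzj_i : z j ≠ i := fun h => hjzi (by rw [← h, hz2])
    set Q := swap p q * swap j (z j)
    set C := c3 s i (z i) with hC
    have hcomm2 : Equiv.Perm.Disjoint Q C := by
      intro y
      by_cases h : y = s ∨ y = i ∨ y = z i
      · left
        simp only [Q, Perm.mul_apply]
        rcases h with rfl | rfl | rfl
        · rw [swap_apply_of_ne_of_ne hjs.symm hzjs.symm, swap_apply_of_ne_of_ne hps.symm hqs.symm]
        · rw [swap_apply_of_ne_of_ne hij hzj_i.symm, swap_apply_of_ne_of_ne hpi.symm hqi.symm]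
        · rw [swap_apply_of_ne_of_ne (Ne.symm hjzi) hzij, swap_apply_of_ne_of_ne hzip hziq]
      · right
        simp only [not_or] at h
        exact c3_apply_ne h.1 h.2.1 h.2.2
    have hd1 : Equiv.Perm.Disjoint (swap p q) (swap s i) := by
      rw [Equiv.Perm.disjoint_iff_disjoint_support, support_swap hpq, support_swap his.symm]
      simp [hpi, hps, hqi, hqs, hpi.symm, hps.symm, hqi.symm, hqs.symm]
    have hd2 : Equiv.Perm.Disjoint (swap p q) (swap i (z i)) := by
      rw [Equiv.Perm.disjoint_iff_disjoint_support, support_swap hpq, support_swap hzi_i.symm]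
      simp [hpi.symm, hqi.symm, hzip, hziq]
    have e : swap p q * swap s i * (swap i (z i) * swap j (z j)) = C * Q := by
      calc swap p q * swap s i * (swap i (z i) * swap j (z j))
          = (swap p q * (swap s i * swap i (z i))) * swap j (z j) := by group
        _ = (swap s i * swap i (z i)) * (swap p q * swap j (z j)) := by
            rw [← mul_assoc (swap p q), hd1.commute.eq, mul_assoc (swap s i) (swap p q), hd2.commute.eq]
            group
        _ = C * Q := rfl
    have hQQ : Q * Q = 1 := by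
      have hd3 : Equiv.Perm.Disjoint (swap p q) (swap j (z j)) := by
        rw [Equiv.Perm.disjoint_iff_disjoint_support, support_swap hpq, support_swap (hzne j hja).symm]
        simp [hjp, hjq, hzjp, hzjq]
      show swap p q * swap j (z j) * (swap p q * swap j (z j)) = 1
      rw [mul_assoc, ← mul_assoc (swap j (z j)), ← hd3.commute.eq, mul_assoc (swap p q) (swap j (z j)),
        swap_mul_self, mul_one, swap_mul_self]
    have hres : C * C ∈ M' := by
      rw [e] at hprod
      have : C * Q * (C * Q) = C * C := by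
        rw [mul_assoc, ← mul_assoc Q, hcomm2.commute.eq, mul_assoc C Q, hQQ, mul_one]
      rwa [this] at hprod
    have h3 : C.IsThreeCycle := isThreeCycle_c3 his.symm hzis.symm hzi_i.symm
    exact alternatingGroup_le_of_isPreprimitive_of_isThreeCycle_mem hprim h3.isThreeCycle_sq hres

theorem both (hinj : Function.Injective φ) (hA : alternatingGroup (Fin n) ≤ φ.range)
    (hn : 5 ≤ n) (R : Sylow 2 G) :
    (∃! M : Subgroup G, IsCoatom M ∧ (R : Subgroup G) ≤ M) ↔ ∃ k : ℕ, 2 ≤ k ∧ n = 2 ^ k + 1 :=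
  ⟨fun h => by_contra fun hk => not_unique_case φ hinj hA hn R hk h,
    fun ⟨k, hk, hnk⟩ => unique_case φ hinj hA hn R k hk hnk⟩

end

end

/-- For n ≥ 5 with n ≠ 6, a Sylow 2-subgroup of the alternating group A_n lies in exactly one maximal subgroup of A_n if and only if n = 2^k + 1 for some k ≥ 2; the same holds for the symmetric group S_n. -/
theorem result (n : ℕ) (hn : 5 ≤ n) (h6 : n ≠ 6) :
    ((∀ R : Sylow 2 ↥(alternatingGroup (Fin n)), (∃! M : Subgroup ↥(alternatingGroup (Fin n)), IsCoatom M ∧ (R : Subgroup ↥(alternatingGroup (Fin n))) ≤ M) ↔ ∃ k : ℕ, 2 ≤ k ∧ n = 2 ^ k + 1) ∧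
    (∀ R : Sylow 2 (Equiv.Perm (Fin n)), (∃! M : Subgroup (Equiv.Perm (Fin n)), IsCoatom M ∧ (R : Subgroup (Equiv.Perm (Fin n))) ≤ M) ↔ ∃ k : ℕ, 2 ≤ k ∧ n = 2 ^ k + 1)) := by
  exact ⟨fun R => both (alternatingGroup (Fin n)).subtype (Subgroup.subtype_injective _)
      (by rw [Subgroup.range_subtype]) hn R,
    fun R => both (MonoidHom.id _) Function.injective_id (fun g _ => ⟨g, rfl⟩) hn R⟩

end Cfsg.Agent.S2245
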