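import Cfsg.Statements.S2247
import Cfsg.Agent.Lib.SuzukiGroupStructure

set_option autoImplicit false
open Cfsg

namespace Cfsg.Agent.S2247

open scoped Pointwise

theorem key {F : Type*} [Field F] {m : ℕ} [SuzukiGroupBasic.Param F m]
    (M : Subgroup (Cfsg.Sz F m)) (hU : SuzukiGroupStructure.unipotent ≤ M)
    (hM : ¬ M ≤ SuzukiGroupStructure.borel) : M = ⊤ := by
  obtain ⟨g, hgM, hg⟩ := Set.not_subset.mp hM
  rw [SetLike.mem_coe, MulAction.mem_stabilizer_iff] at hg
  have htr : ∀ q ∈ Cfsg.suzukiOvoid F m, ∃ x ∈ M, x • Cfsg.suzukiPointInfinity F = q := by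
    intro q hq
    by_cases h : q = Cfsg.suzukiPointInfinity F
    · exact ⟨1, one_mem M, by rw [one_smul, h]⟩
    · obtain ⟨a, b, hab⟩ := SuzukiGroupStructure.exists_Ts_zero (SuzukiGroupStructure.smul_mem_ovoid g SuzukiGroupBasic.inf_mem) hg
      obtain ⟨c, d, hcd⟩ := SuzukiGroupStructure.exists_Ts_zero (m := m) hq h
      refine ⟨SuzukiGroupStructure.Ts c d * (SuzukiGroupStructure.Ts a b)⁻¹ * g,
        mul_mem (mul_mem (hU (SuzukiGroupStructure.Ts_mem c d)) (inv_mem (hU (SuzukiGroupStructure.Ts_mem a b)))) hgM, ?_⟩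
      rw [mul_smul, mul_smul, ← hab, inv_smul_smul, hcd]
  have hne : Subgroup.normalClosure ((SuzukiGroupStructure.unipotent : Subgroup (Cfsg.Sz F m)) : Set (Cfsg.Sz F m)) ≠ ⊥ := fun h => by
    have := Subgroup.subset_normalClosure (SuzukiGroupStructure.Ts_mem (m := m) (1 : F) 0)
    rw [h, SetLike.mem_coe, Subgroup.mem_bot] at this
    exact one_ne_zero (SuzukiGroupStructure.Ts_eq_one this).1
  rw [eq_top_iff, ← SuzukiGroupStructure.eq_top_of_normal _ hne, Subgroup.normalClosure,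
    Subgroup.closure_le]
  intro x hx
  obtain ⟨u, hu, hxu⟩ := Group.mem_conjugatesOfSet_iff.mp hx
  obtain ⟨c, rfl⟩ := isConj_iff.mp hxu
  obtain ⟨n, hn, hnc⟩ := htr _ (SuzukiGroupStructure.smul_mem_ovoid c SuzukiGroupBasic.inf_mem)
  have hb : (n⁻¹ * c) • Cfsg.suzukiPointInfinity F = Cfsg.suzukiPointInfinity F := by
    rw [mul_smul, ← hnc, inv_smul_smul]
  have := mul_mem (mul_mem hn (hU (SuzukiGroupStructure.conj_mem_unipotent hb hu))) (inv_mem hn)
  rwa [show n * (n⁻¹ * c * u * (n⁻¹ * c)⁻¹) * n⁻¹ = c * u * c⁻¹ by group] at this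


/-- In the Suzuki group with q = 2^(2m+1), m ≥ 1 (realised as the stabiliser in SL₄ of the Suzuki–Tits ovoid), the normalizer of a Sylow 2-subgroup P is a maximal subgroup and is the only maximal subgroup containing P. -/
theorem result {F : Type*} [Field F] [Fintype F] {m : ℕ} (hm : 1 ≤ m) (hF : Fintype.card F = 2 ^ (2 * m + 1)) (P : Sylow 2 ↥(Cfsg.Sz F m)) :
    IsCoatom (Subgroup.normalizer ((P : Subgroup ↥(Cfsg.Sz F m)) : Set ↥(Cfsg.Sz F m))) ∧
    ∀ M : Subgroup ↥(Cfsg.Sz F m), IsCoatom M → (P : Subgroup ↥(Cfsg.Sz F m)) ≤ M → M = Subgroup.normalizer ((P : Subgroup ↥(Cfsg.Sz F m)) : Set ↥(Cfsg.Sz F m)) := by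
  have := SuzukiGroupBasic.Param.mk' (F := F) (m := m) hm hF
  obtain ⟨g, hg⟩ := SuzukiGroupStructure.exists_conj_sylow P
  have hcoe : ∀ M : Subgroup ↥(Cfsg.Sz F m), SuzukiGroupStructure.borel ≤ M → M ≠ SuzukiGroupStructure.borel → M = ⊤ :=
    fun M hle hne => key M (SuzukiGroupStructure.unipotent_le_borel.trans hle) fun h => hne (le_antisymm h hle)
  have hN : Subgroup.normalizer ((P : Subgroup (Cfsg.Sz F m)) : Set (Cfsg.Sz F m)) =
      (SuzukiGroupStructure.borel : Subgroup (Cfsg.Sz F m)).map (MulAut.conj g).toMonoidHom := by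
    rw [← SuzukiGroupStructure.normalizer_unipotent, Subgroup.map_equiv_normalizer_eq, hg]
  have hmapmax : IsCoatom ((SuzukiGroupStructure.borel : Subgroup (Cfsg.Sz F m))) := by
    refine ⟨fun h => ?_, fun M hM => hcoe M hM.le hM.ne'⟩
    have h1 := (MulAction.mem_stabilizer_iff.mp (h ▸ Subgroup.mem_top
      (SuzukiGroupStructure.Ws : Cfsg.Sz F m) :
      (SuzukiGroupStructure.Ws : Cfsg.Sz F m) ∈ SuzukiGroupStructure.borel))
    rw [SuzukiGroupStructure.Ws_smul_inf] at h1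
    exact SuzukiGroupStructure.inf_ne_zero h1.symm
  refine ⟨?_, fun M hM hPM => ?_⟩
  · rw [hN]
    exact (MulEquiv.mapSubgroup (MulAut.conj g)).isCoatom_iff _ |>.mpr hmapmax
  · rw [hN]
    set M' := M.comap (MulAut.conj g).toMonoidHom with hM'
    have hUM : SuzukiGroupStructure.unipotent ≤ M' :=
      Subgroup.map_le_iff_le_comap.mp (hg ▸ hPM)
    have hMM : M'.map (MulAut.conj g).toMonoidHom = M :=
      Subgroup.map_comap_eq_self_of_surjective (MulEquiv.surjective _) M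
    have hle : M' ≤ SuzukiGroupStructure.borel := by
      by_contra h
      apply hM.1
      rw [← hMM, key M' hUM h, Subgroup.map_top_of_surjective _ (MulEquiv.surjective _)]
    have h2 : M ≤ (SuzukiGroupStructure.borel : Subgroup (Cfsg.Sz F m)).map (MulAut.conj g).toMonoidHom :=
      hMM ▸ Subgroup.map_mono hle
    rcases eq_or_lt_of_le h2 with h3 | h3
    · exact h3
    · exact absurd (hM.2 _ h3) ((MulEquiv.mapSubgroup (MulAut.conj g)).isCoatom_iff _ |>.mpr hmapmax).1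

end Cfsg.Agent.S2247
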