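import Cfsg.Statements.S2250
import Cfsg.Agent.Lib.WreathTwo85Normal
import Cfsg.Agent.S2234

set_option autoImplicit false
open Cfsg

namespace Cfsg.Agent.S2250

/-- The normal 2-rank of the symplectic group over a finite field of odd order: for n ≥ 1 and S a Sylow 2-subgroup of Sp_{2n}(F), the largest rank of an elementary abelian subgroup of S that is normal in S equals n. -/
theorem result {F : Type*} [Field F] [Fintype F] (hF : Odd (Fintype.card F)) (n : ℕ) (hn : 1 ≤ n) (S : Sylow 2 ↥(Matrix.symplecticGroup (Fin n) F)) :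
    ((∃ E : Subgroup ↥(S : Subgroup ↥(Matrix.symplecticGroup (Fin n) F)), E.Normal ∧ Cfsg.IsElementaryAbelian 2 E ∧ 2 ^ (n) ≤ Nat.card ↥E) ∧
      ∀ E : Subgroup ↥(S : Subgroup ↥(Matrix.symplecticGroup (Fin n) F)), E.Normal → Cfsg.IsElementaryAbelian 2 E → Nat.card ↥E ≤ 2 ^ (n)) := by
  have hodd : Odd (Nat.card F) := by rwa [Nat.card_eq_fintype_card]
  obtain ⟨hq, h2⟩ := WreathTwo85Classical.q_facts hodd
  refine ⟨?_, ?_⟩
  · obtain ⟨T, -, -⟩ := WreathTwo85.exists_gen_sylow (⊥ : Subgroup (Equiv.Perm (Fin n))) IsPGroup.of_bot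
    have hB : WreathTwo85Normal.signs F (Fin n) ≤ Subgroup.pi Set.univ fun _ : Fin n => WreathTwo85.Q2 F := by
      intro v hv i _
      rcases hv i with h | h <;> rw [h]
      · exact (WreathTwo85.Q2 F).one_mem
      · exact WreathTwo85.mem_Q2.2 ⟨S5318.nM_mem_P, by simp [S5318.nM, Matrix.det_fin_two]⟩
    obtain ⟨h1, h3, h4, h5⟩ := WreathTwo85Normal.signs_normal (T := (T : Subgroup (Equiv.Perm (Fin n)))) hB
    obtain ⟨E, hE, hE', hc⟩ := WreathTwo85Normal.exists_normal_in_sylow (WreathTwo85Classical.fSp F n)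
      (WreathTwo85Classical.fSp_injective n) (WreathTwo85Classical.sp_wr_le_range n _)
      (WreathTwo85Classical.sp_wr_isPGroup n T) (WreathTwo85Classical.sp_card_le hodd n T) h1 h3 h4 h5 S
    refine ⟨E, hE, hE', le_trans ?_ hc⟩
    rw [Subgroup.card_map_of_injective WreathTwo85.bd_injective]
    simpa using WreathTwo85Normal.two_pow_le_card_signs (F := F) (ι := Fin n) h2
  · rintro E - ⟨hEc, hE2⟩
    have h := (S2234.result hF n hn).2 (E.map (S : Subgroup ↥(Matrix.symplecticGroup (Fin n) F)).subtype) ?_ ?_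
    · rwa [Subgroup.card_map_of_injective Subtype.coe_injective] at h
    · refine ⟨⟨?_⟩⟩
      rintro ⟨_, a, ha, rfl⟩ ⟨_, b, hb, rfl⟩
      have := hEc.is_comm.comm ⟨a, ha⟩ ⟨b, hb⟩
      exact Subtype.ext (congrArg (fun x : E => ((x : (S : Subgroup ↥(Matrix.symplecticGroup (Fin n) F))) : ↥(Matrix.symplecticGroup (Fin n) F))) this)
    · rintro _ ⟨a, ha, rfl⟩
      rw [← map_pow, hE2 a ha, map_one]

end Cfsg.Agent.S2250
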