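import Cfsg.Statements.S2251
import Cfsg.Agent.Lib.SuzukiGroupClassification

set_option autoImplicit false
open Cfsg

namespace Cfsg.Agent.S2251

/-- The subgroups of the Suzuki group: with q = 2^(2m+1), m ≥ 1, r = 2^m and the group realised as the stabiliser in SL₄ of the Suzuki–Tits ovoid, every proper subgroup is contained in the normalizer of a Sylow 2-subgroup, or in the normalizer of a cyclic subgroup of order q − 1, q + 2r + 1 or q − 2r + 1, or in a subgroup isomorphic to a smaller Suzuki group Sz(s) with s = 2^(2k+1) ≥ 8 and 2k+1 a proper divisor of 2m+1. -/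
theorem result {F : Type*} [Field F] [Fintype F] {m : ℕ} (hm : 1 ≤ m) (hF : Fintype.card F = 2 ^ (2 * m + 1)) (M : Subgroup ↥(Cfsg.Sz F m)) (hM : M ≠ ⊤) :
    (∃ P : Sylow 2 ↥(Cfsg.Sz F m), M ≤ Subgroup.normalizer ((P : Subgroup ↥(Cfsg.Sz F m)) : Set ↥(Cfsg.Sz F m))) ∨
    (∃ U : Subgroup ↥(Cfsg.Sz F m), IsCyclic ↥U ∧ Nat.card ↥U ∈ ({2 ^ (2 * m + 1) - 1, 2 ^ (2 * m + 1) + 2 ^ (m + 1) + 1, 2 ^ (2 * m + 1) - 2 ^ (m + 1) + 1} : Set ℕ) ∧
      M ≤ Subgroup.normalizer (U : Set ↥(Cfsg.Sz F m))) ∨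
    (∃ (K : Type) (_ : Field K) (_ : Fintype K) (k : ℕ), 1 ≤ k ∧ k < m ∧ Fintype.card K = 2 ^ (2 * k + 1) ∧ 2 * k + 1 ∣ 2 * m + 1 ∧
      ∃ S : Subgroup ↥(Cfsg.Sz F m), Nonempty (↥S ≃* ↥(Cfsg.Sz K k)) ∧ M ≤ S) := by
  have := SuzukiGroupBasic.Param.mk' (F := F) (m := m) hm hF
  rcases SuzukiGroupClassification.classification M with ⟨p, hp, hle⟩ | ⟨V, hV, hle⟩ | ⟨j, hj, hdvd, c, hc⟩
  · obtain ⟨P, hP⟩ := SuzukiGroupClassification.exists_sylow_stabilizer_le (m := m) hp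
    exact Or.inl ⟨P, hle.trans hP⟩
  · exact Or.inr (Or.inl ⟨V, hV.1, hV.2, hle⟩)
  · let : Fintype (GaloisField 2 (2 * j + 1)) := Fintype.ofFinite _
    have hcard : Fintype.card (GaloisField 2 (2 * j + 1)) = 2 ^ (2 * j + 1) := by
      rw [← Nat.card_eq_fintype_card, GaloisField.card 2 (2 * j + 1) (by omega)]
    have := SuzukiGroupBasic.Param.mk' (F := GaloisField 2 (2 * j + 1)) (m := j) hj hcard
    have hjm : j < m := by
      refine lt_of_le_of_ne (by have := Nat.le_of_dvd (by omega) hdvd; omega) fun e => hM ?_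
      subst e
      rw [hc, SuzukiGroupClassification.subSz_self, Subgroup.map_top_of_surjective _ (MulAut.conj c).surjective]
    obtain ⟨e⟩ := SuzukiGroupSubfield.exists_equiv_subSz (F := F) (m := m)
      (K := GaloisField 2 (2 * j + 1)) (k := j) hdvd
    refine Or.inr (Or.inr ⟨GaloisField 2 (2 * j + 1), inferInstance, inferInstance, j, hj, hjm, hcard,
      hdvd, M, ⟨?_⟩, le_rfl⟩)
    exact ((MulEquiv.subgroupCongr hc).trans
      (Subgroup.equivMapOfInjective _ (MulAut.conj c).toMonoidHom (MulAut.conj c).injective).symm).trans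
        e.symm

end Cfsg.Agent.S2251
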