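import Cfsg.Statements.S2254
import Cfsg.Agent.Lib.NilpotentPermConj

set_option autoImplicit false
open Cfsg

namespace Cfsg.Agent.S2254

open Equiv Equiv.Perm Cfsg.Agent.NilpotentPermArith Cfsg.Agent.NilpotentPermBound Cfsg.Agent.NilpotentPermConj

theorem card_sylow (m : ℕ) (P : Sylow 2 (Perm (Fin m))) : Nat.card P = B m := by
  rw [P.card_eq_multiplicity, Nat.card_perm, Nat.card_fin, factorization_factorial]
  rfl

/-- Let n ≡ 3 (mod 4). Then every nilpotent subgroup of the symmetric group on n letters has order at most 3 times the order of a Sylow 2-subgroup of the symmetric group on n − 3 letters; the bound is attained by a nilpotent subgroup isomorphic to the direct product of such a Sylow 2-subgroup with a cyclic group of order 3; and any two nilpotent subgroups attaining the bound are conjugate. -/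
theorem result  (n : ℕ) (hn : n % 4 = 3)
    (P : Sylow 2 (Equiv.Perm (Fin (n - 3)))) :
    (∀ N : Subgroup (Equiv.Perm (Fin n)), Group.IsNilpotent N → Nat.card N ≤ 3 * Nat.card P) ∧
    (∃ M : Subgroup (Equiv.Perm (Fin n)), Group.IsNilpotent M ∧ Nat.card M = 3 * Nat.card P ∧
      Nonempty (M ≃* (↥(P : Subgroup (Equiv.Perm (Fin (n - 3)))) × Multiplicative (ZMod 3)))) ∧
    (∀ N₁ N₂ : Subgroup (Equiv.Perm (Fin n)), Group.IsNilpotent N₁ → Group.IsNilpotent N₂ →
      Nat.card N₁ = 3 * Nat.card P → Nat.card N₂ = 3 * Nat.card P →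
      ∃ g : Equiv.Perm (Fin n), N₂ = N₁.map (MulAut.conj g).toMonoidHom) := by
  have hP := card_sylow (n - 3) P
  refine ⟨fun N hN => ?_, ?_, fun N₁ N₂ hN₁ hN₂ h₁ h₂ => ?_⟩
  · have h := (bounds n (Fin n) (Fintype.card_fin n) N hN).1
    rwa [show NilpotentPermArith.G n = 3 * B (n - 3) from if_pos hn, ← hP] at h
  · obtain ⟨φ, hφ, -⟩ := exists_hom n (by omega)
    set ψ := φ.comp ((P : Subgroup (Perm (Fin (n - 3)))).subtype.prodMap
      (MonoidHom.id (Multiplicative (ZMod 3))))
    have hψ : Function.Injective ψ :=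
      hφ.comp ((Subgroup.subtype_injective _).prodMap Function.injective_id)
    have := P.2.isNilpotent
    refine ⟨ψ.range, nilpotent_range ψ, ?_, ⟨(MonoidHom.ofInjective hψ).symm⟩⟩
    rw [Nat.card_congr (MonoidHom.ofInjective hψ).symm.toEquiv, Nat.card_prod, Nat.card_eq_fintype_card
      (α := Multiplicative (ZMod 3)), Fintype.card_multiplicative, ZMod.card, mul_comm]
  · rw [hP] at h₁ h₂
    have key : ∀ N : Subgroup (Perm (Fin n)), Group.IsNilpotent N → Nat.card N = 3 * B (n - 3) →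
        ∃ z ∈ N, orderOf z = 3 ∧ z.IsThreeCycle := by
      intro N hN h
      obtain ⟨z, hz, ho⟩ := exists_three h
      exact ⟨z, hz, ho, isThreeCycle_of_centralizer (by rwa [Fintype.card_fin]) ho
        (two_pow_dvd_centralizer hN h hz ho) (by rw [Fintype.card_fin]; omega)⟩
    obtain ⟨z₁, hz₁, ho₁, ht₁⟩ := key N₁ hN₁ h₁
    obtain ⟨z₂, hz₂, ho₂, ht₂⟩ := key N₂ hN₂ h₂
    obtain ⟨g, hg⟩ := isConj_iff.1 (isConj_iff_cycleType_eq.2 (ht₁.trans ht₂.symm))
    refine conj_of_centralizer hN₁ hN₂ h₁ h₂ hz₁ hz₂ ho₁ ho₂ hg ?_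
    rw [centralizer_three ht₂, Fintype.card_fin]

end Cfsg.Agent.S2254
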