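import Cfsg.Statements.S2255
import Cfsg.Agent.Lib.NilpotentPermConj

set_option autoImplicit false
open Cfsg

namespace Cfsg.Agent.S2255

open Equiv Equiv.Perm Cfsg.Agent.NilpotentPermArith Cfsg.Agent.NilpotentPermBound Cfsg.Agent.NilpotentPermConj

theorem card_sylow (m : ℕ) (hm : 2 ≤ m) (P : Sylow 2 (alternatingGroup (Fin m))) :
    2 * Nat.card P = B m := by
  have : Nontrivial (Fin m) := Fin.nontrivial_iff_two_le.2 hm
  have h := congrArg (fun k => k.factorization 2) (two_mul_nat_card_alternatingGroup (α := Fin m))
  simp only [Nat.card_perm, Nat.card_fin, factorization_factorial] at h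
  rw [Nat.factorization_mul two_ne_zero Nat.card_pos.ne', Finsupp.add_apply,
    Nat.Prime.factorization_self Nat.prime_two] at h
  rw [P.card_eq_multiplicity, ← pow_succ', B, ← h, add_comm]

theorem nilpotent_map {n : ℕ} {N : Subgroup (alternatingGroup (Fin n))} (hN : Group.IsNilpotent N) :
    Group.IsNilpotent (N.map (alternatingGroup (Fin n)).subtype) := by
  have := hN
  exact Group.nilpotent_of_surjective
    (N.equivMapOfInjective _ (alternatingGroup (Fin n)).subtype_injective).toMonoidHom
    (N.equivMapOfInjective _ (alternatingGroup (Fin n)).subtype_injective).surjective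

theorem alt_bound {n : ℕ} (N : Subgroup (alternatingGroup (Fin n))) (hN : Group.IsNilpotent N) :
    2 * Nat.card N ≤ K n := by
  have h := (bounds n (Fin n) (Fintype.card_fin n) _ (nilpotent_map hN)).2 (by
    rintro _ ⟨x, -, rfl⟩
    exact mem_alternatingGroup.1 x.2)
  rwa [Subgroup.card_map_of_injective (alternatingGroup (Fin n)).subtype_injective] at h

/-- Let n be a natural number not congruent to 3 modulo 4, with n ∉ {5, 6, 9}. Then every nilpotent subgroup of the alternating group on n letters has order at most the order of a Sylow 2-subgroup of the alternating group (so the nilpotent subgroups of largest order are exactly the Sylow 2-subgroups). -/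
theorem result  (n : ℕ) (hn : n % 4 ≠ 3)
    (h5 : n ≠ 5) (h6 : n ≠ 6) (h9 : n ≠ 9)
    (N : Subgroup (alternatingGroup (Fin n))) (hN : Group.IsNilpotent N)
    (P : Sylow 2 (alternatingGroup (Fin n))) :
    Nat.card N ≤ Nat.card P := by
  have h := alt_bound N hN
  by_cases hn2 : n ≤ 1
  · rw [K, if_pos hn2] at h
    have := Nat.card_pos (α := (P : Subgroup (alternatingGroup (Fin n))))
    omega
  rw [K, if_neg hn2, if_neg (by omega), if_neg h5, if_neg h6, if_neg h9,
    show NilpotentPermArith.G n = B n from if_neg hn, ← card_sylow n (by omega) P] at h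
  omega

end Cfsg.Agent.S2255
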