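import Cfsg.Statements.S2256
import Cfsg.Agent.Lib.NilpotentPermConj

set_option autoImplicit false
open Cfsg

namespace Cfsg.Agent.S2256

open Equiv Equiv.Perm Cfsg.Agent.NilpotentPermArith Cfsg.Agent.NilpotentPermBound Cfsg.Agent.NilpotentPermConj

theorem card_sylow (m : ℕ) (hm : 2 ≤ m) (P : Sylow 2 (alternatingGroup (Fin m))) :
    2 * Nat.card P = B m := by
  have : Nontrivial (Fin m) := Fin.nontrivial_iff_two_le.2 hm
  have h := congrArg (fun k => k.factorization 2) (two_mul_nat_card_alternatingGroup (α := Fin m))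
  simp only [Nat.card_perm, Nat.card_fin, factorization_factorial] at h
  rw [Nat.factorization_mul two_ne_zero Nat.card_pos.ne', Finsupp.add_apply,
    Nat.Prime.factorization_self Nat.prime_two] at h
  rw [P.card_eq_multiplicity, ← pow_succ', B, ← h, add_comm]

theorem nilpotent_map {n : ℕ} {N : Subgroup (alternatingGroup (Fin n))} (hN : Group.IsNilpotent N) :
    Group.IsNilpotent (N.map (alternatingGroup (Fin n)).subtype) := by
  have := hN
  exact Group.nilpotent_of_surjective
    (N.equivMapOfInjective _ (alternatingGroup (Fin n)).subtype_injective).toMonoidHom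
    (N.equivMapOfInjective _ (alternatingGroup (Fin n)).subtype_injective).surjective

theorem alt_bound {n : ℕ} (N : Subgroup (alternatingGroup (Fin n))) (hN : Group.IsNilpotent N) :
    2 * Nat.card N ≤ K n := by
  have h := (bounds n (Fin n) (Fintype.card_fin n) _ (nilpotent_map hN)).2 (by
    rintro _ ⟨x, -, rfl⟩
    exact mem_alternatingGroup.1 x.2)
  rwa [Subgroup.card_map_of_injective (alternatingGroup (Fin n)).subtype_injective] at h

/-- Let n ≡ 3 (mod 4) with n ≥ 7. Then every nilpotent subgroup of the alternating group on n letters has order at most 3 times the order of a Sylow 2-subgroup of the alternating group on n − 3 letters; the bound is attained by a nilpotent subgroup isomorphic to the direct product of such a Sylow 2-subgroup with a cyclic group of order 3; and any two nilpotent subgroups of the alternating group attaining the bound are conjugate in it. -/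
theorem result  (n : ℕ) (hn : n % 4 = 3) (h7 : 7 ≤ n)
    (P : Sylow 2 (alternatingGroup (Fin (n - 3)))) :
    (∀ N : Subgroup (alternatingGroup (Fin n)), Group.IsNilpotent N → Nat.card N ≤ 3 * Nat.card P) ∧
    (∃ M : Subgroup (alternatingGroup (Fin n)), Group.IsNilpotent M ∧ Nat.card M = 3 * Nat.card P ∧
      Nonempty (M ≃* (↥(P : Subgroup (alternatingGroup (Fin (n - 3)))) × Multiplicative (ZMod 3)))) ∧
    (∀ N₁ N₂ : Subgroup (alternatingGroup (Fin n)), Group.IsNilpotent N₁ → Group.IsNilpotent N₂ →
      Nat.card N₁ = 3 * Nat.card P → Nat.card N₂ = 3 * Nat.card P →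
      ∃ g : alternatingGroup (Fin n), N₂ = N₁.map (MulAut.conj g).toMonoidHom) := by
  have hP := card_sylow (n - 3) (by omega) P
  refine ⟨fun N hN => ?_, ?_, fun N₁ N₂ hN₁ hN₂ h₁ h₂ => ?_⟩
  · have h := alt_bound N hN
    rw [K, if_neg (by omega), if_neg (by omega), if_neg (by omega), if_neg (by omega), if_neg (by omega),
      show NilpotentPermArith.G n = 3 * B (n - 3) from if_pos hn] at h
    omega
  · obtain ⟨φ, hφ, hs⟩ := exists_hom n (by omega)
    set ψ₀ := φ.comp (((alternatingGroup (Fin (n - 3))).subtype.comp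
      (P : Subgroup (alternatingGroup (Fin (n - 3)))).subtype).prodMap
        (MonoidHom.id (Multiplicative (ZMod 3))))
    let ψ := ψ₀.codRestrict (alternatingGroup (Fin n)) fun x => mem_alternatingGroup.2 (by
      show sign (φ _) = 1
      rw [hs]
      exact mem_alternatingGroup.1 x.1.1.2)
    have hψ₀ : Function.Injective ψ₀ := hφ.comp (((Subgroup.subtype_injective _).comp
      (Subgroup.subtype_injective _)).prodMap Function.injective_id)
    have hψ : Function.Injective ψ := fun a b h => hψ₀ (congrArg Subtype.val h)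
    have := P.2.isNilpotent
    refine ⟨ψ.range, nilpotent_range ψ, ?_, ⟨(MonoidHom.ofInjective hψ).symm⟩⟩
    rw [Nat.card_congr (MonoidHom.ofInjective hψ).symm.toEquiv, Nat.card_prod, Nat.card_eq_fintype_card
      (α := Multiplicative (ZMod 3)), Fintype.card_multiplicative, ZMod.card, mul_comm]
  · obtain ⟨d, hd⟩ := IsPGroup.iff_card.1 P.2
    rw [hd] at h₁ h₂
    have hd1 : d + 1 = V (n - 3) := by
      rw [hd, ← pow_succ', B] at hP
      exact Nat.pow_right_injective le_rfl hP
    have key : ∀ N : Subgroup (alternatingGroup (Fin n)), Group.IsNilpotent N →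
        Nat.card N = 3 * 2 ^ d → ∃ z ∈ N, orderOf z = 3 ∧ (z : Perm (Fin n)).IsThreeCycle := by
      intro N hN h
      have h' : Nat.card (N.map (alternatingGroup (Fin n)).subtype) = 3 * 2 ^ d := by
        rwa [Subgroup.card_map_of_injective (alternatingGroup (Fin n)).subtype_injective]
      obtain ⟨_, ⟨z, hz, rfl⟩, ho⟩ := exists_three h'
      refine ⟨z, hz, (Subgroup.orderOf_coe z).symm.trans ho, isThreeCycle_of_centralizer
        (by rwa [Fintype.card_fin]) ho
        (two_pow_dvd_centralizer (nilpotent_map hN) h' (Subgroup.mem_map_of_mem _ hz) ho)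
        (by rw [Fintype.card_fin]; omega)⟩
    obtain ⟨z₁, hz₁, ho₁, ht₁⟩ := key N₁ hN₁ h₁
    obtain ⟨z₂, hz₂, ho₂, ht₂⟩ := key N₂ hN₂ h₂
    obtain ⟨g, hg⟩ := isConj_iff.1 (isConj_iff_cycleType_eq.2 (ht₁.trans ht₂.symm))
    obtain ⟨g', hg', hg'z⟩ : ∃ g' : Perm (Fin n), sign g' = 1 ∧
        g' * (z₁ : Perm (Fin n)) * g'⁻¹ = z₂ := by
      rcases Int.units_eq_one_or (sign g) with hs | hs
      · exact ⟨g, hs, hg⟩
      · obtain ⟨τ, hτ, hτz⟩ := exists_odd_commute (by rw [Fintype.card_fin]; omega) ht₁
        refine ⟨g * τ, by rw [map_mul, hs, hτ]; rfl, ?_⟩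
        rw [show g * τ * (z₁ : Perm (Fin n)) * (g * τ)⁻¹ = g * (τ * z₁ * τ⁻¹) * g⁻¹ by group, hτz,
          mul_inv_cancel_right, hg]
    refine conj_of_centralizer (g := (⟨g', mem_alternatingGroup.2 hg'⟩ : alternatingGroup (Fin n)))
      hN₁ hN₂ h₁ h₂ hz₁ hz₂ ho₁ ho₂ (Subtype.ext hg'z) ?_
    have h := centralizer_three_alt (by rw [Fintype.card_fin]; omega) ht₂
    rw [Fintype.card_fin] at h
    omega

end Cfsg.Agent.S2256
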