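import Cfsg.Statements.S2257
import Mathlib
import Cfsg.Agent.Lib.DicksonSolubilizer

set_option autoImplicit false
open Cfsg

namespace Cfsg.Agent.S2257


open scoped MatrixGroups Classical
open Matrix hiding inv_zero mul_inv_rev
open Cfsg.Agent.PSL2Elements Cfsg.Agent.DicksonSolubilizer

local notation "π" => QuotientGroup.mk' (Subgroup.center SL(2, _))

theorem closure_mul {G : Type*} [Group G] (x y : G) :
    Subgroup.closure ({x, x * y} : Set G) = Subgroup.closure ({x, y} : Set G) := by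
  apply le_antisymm <;> rw [Subgroup.closure_le] <;> rintro z (rfl | rfl)
  · exact Subgroup.subset_closure (Or.inl rfl)
  · exact mul_mem (Subgroup.subset_closure (Or.inl rfl)) (Subgroup.subset_closure (Or.inr rfl))
  · exact Subgroup.subset_closure (Or.inl rfl)
  · have := mul_mem (inv_mem (Subgroup.subset_closure (Or.inl rfl) :
      x ∈ Subgroup.closure ({x, x * z} : Set G))) (Subgroup.subset_closure (Or.inr rfl) :
      x * z ∈ Subgroup.closure ({x, x * z} : Set G))
    rwa [inv_mul_cancel_left] at this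

theorem hsub_of {F : Type*} [Field F] [Finite F] (c r : ℕ) [Fact c.Prime] [CharP F c]
    (hr : r.Prime) (hq : Nat.card F = c ^ r) (hc : c = 2 ∨ c = 3) :
    ∀ R : Subfield F, 3 ≤ Nat.card R → Nat.card R = Nat.card F ∨ Nat.card R = 3 := by
  intro R h3
  obtain ⟨a, -, ha⟩ := DicksonRational.prime_dvd_card_subfield c R
  obtain ⟨_, m, -, -, hm⟩ := DicksonPSL.exists_galoisField_equiv c R
  have har : a ∣ r := by
    refine ⟨m, Nat.pow_right_injective (Fact.out : c.Prime).two_le ?_⟩
    show c ^ r = c ^ (a * m)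
    rw [pow_mul, ← ha, hm, hq]
  rcases (Nat.dvd_prime hr).mp har with rfl | rfl
  · rw [pow_one] at ha
    rcases hc with rfl | rfl
    · omega
    · exact Or.inr ha
  · exact Or.inl (ha.trans hq.symm)

theorem charP_of {F : Type*} [Field F] [Fintype F] (c r : ℕ) (hc : c.Prime)
    (hF : Fintype.card F = c ^ r) : CharP F c := by
  obtain ⟨p', hp'⟩ := CharP.exists F
  haveI : Fact p'.Prime := ⟨CharP.char_is_prime F p'⟩
  obtain ⟨n, hp, hn⟩ := FiniteField.card F p'
  have : p' = c := (Nat.prime_dvd_prime_iff_eq hp hc).mp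
    (hp.dvd_of_dvd_pow (hF ▸ hn ▸ dvd_pow_self p' n.ne_zero))
  exact this ▸ hp'

variable {F : Type*} [Field F] [Finite F]

theorem tr_u_mul (m : F) (A : SL(2, F)) : tr (u m * A) = tr A + m * A.1 1 0 := by
  simp only [tr, mul_apply2]
  simp [u, mk2]
  ring

theorem u_fix_infty (ν : F) : Matrix.ProjectiveSpecialLinearGroup.toPGL (π (u ν)) •
    (OnePoint.infty : OnePoint F) = OnePoint.infty :=
  (fix_infty (u ν)).mpr (by simp [u, mk2])

theorem fix_of_u {ν : F} (hν : ν ≠ 0) {A : SL(2, F)} {pt : OnePoint F}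
    (h : Matrix.ProjectiveSpecialLinearGroup.toPGL (π (u ν)) • pt = pt)
    (h' : Matrix.ProjectiveSpecialLinearGroup.toPGL (π A) • pt = pt) : A.1 1 0 = 0 := by
  cases pt with
  | infty => exact (fix_infty A).mp h'
  | coe z =>
    obtain ⟨-, e⟩ := (fix_coe (u ν) z).mp h
    simp [u, mk2] at e
    exact absurd (by linear_combination e) hν

theorem pair_count {ν : F} (hν : ν ≠ 0) :
    Nat.card {ct : F × F // ct.1 ≠ 0 ∧ (ct.2 = 0 ∨ ct.2 + ν * ct.1 = 0)} = 2 * (Nat.card F - 1) := by
  let f : Fˣ × Bool → {ct : F × F // ct.1 ≠ 0 ∧ (ct.2 = 0 ∨ ct.2 + ν * ct.1 = 0)} := fun z =>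
    ⟨((z.1 : F), if z.2 then 0 else -(ν * (z.1 : F))), z.1.ne_zero, by
      cases z.2
      · exact Or.inr (by simp)
      · exact Or.inl rfl⟩
  have hf : Function.Bijective f := by
    constructor
    · rintro ⟨c, b⟩ ⟨c', b'⟩ h
      have h0 := congrArg Subtype.val h
      simp only [f, Prod.mk.injEq] at h0
      obtain ⟨e1, e2⟩ := h0
      obtain rfl := Units.ext e1
      cases b <;> cases b' <;> simp [hν, c.ne_zero] at e2 <;> rfl
    · rintro ⟨⟨c, t⟩, hc, h | h⟩
      · exact ⟨(Units.mk0 c hc, true), Subtype.ext (Prod.ext rfl h.symm)⟩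
      · refine ⟨(Units.mk0 c hc, false), Subtype.ext (Prod.ext rfl ?_)⟩
        simp [f]
        linear_combination -h
  rw [← Nat.card_eq_of_bijective f hf, Nat.card_prod, PSLCard.card_units_field,
    Nat.card_eq_fintype_card (α := Bool), Fintype.card_bool, mul_comm]

theorem count_involution [CharP F 2] (h4 : 4 ≤ Nat.card F)
    (hsub : ∀ R : Subfield F, 3 ≤ Nat.card R → Nat.card R = Nat.card F ∨ Nat.card R = 3)
    (x : Matrix.ProjectiveSpecialLinearGroup (Fin 2) F) (hx : orderOf x = 2) :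
    count x = 3 * Nat.card F * (Nat.card F - 1) := by
  have h2 : (2 : F) = 0 := CharP.cast_eq_zero F 2
  have hev : Even (Nat.card F) := by
    rcases PSL2Proj52.gcd_eq (F := F) with ⟨ho, -⟩ | ⟨he, -⟩
    · exact absurd h2 (PSL2SylowTwo.two_ne_zero_of_odd ho)
    · exact he
  have inj : Function.Injective (π : SL(2, F) →* _) := PSL2Proj52.π_injective_of_even h2
  have hdd : DicksonPSL.dd F = 1 := by
    rcases PSL2Proj52.gcd_eq (F := F) with ⟨ho, -⟩ | ⟨-, h⟩
    · exact absurd hev (Nat.not_even_iff_odd.mpr ho)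
    · exact h
  have sq_tr : ∀ B : SL(2, F), π B * π B = 1 ↔ tr B = 0 := by
    intro B
    rw [← map_mul, ← map_one (π : SL(2, F) →* _), inj.eq_iff]
    constructor
    · intro h
      by_contra ht
      have e := congrArg Subtype.val h
      rw [coe_mul', sq_eq, coe_one', sub_eq_iff_eq_add, ← two_smul F (1 : Matrix (Fin 2) (Fin 2) F),
        h2, zero_smul] at e
      have hd := B.2
      rw [(smul_eq_zero.mp e).resolve_left ht] at hd
      simp at hd
    · intro h
      apply Subtype.ext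
      rw [coe_mul', sq_eq, h, zero_smul, zero_sub, coe_one', neg_eq_iff_add_eq_zero,
        ← two_smul F (1 : Matrix (Fin 2) (Fin 2) F), h2, zero_smul]
  obtain ⟨B, rfl⟩ : ∃ B, π B = x := PSL2Proj52.π_surjective x
  have htB : tr B = 2 := by
    rw [h2, ← sq_tr, ← sq]
    have := pow_orderOf_eq_one (π B)
    rw [hx] at this
    exact this
  obtain ⟨ν, hν⟩ := isConj_u_of_tr_two htB
  have hν0 : ν ≠ 0 := by
    rintro rfl
    obtain ⟨c, hc⟩ := isConj_iff.mp hν
    rw [u_zero, mul_inv_eq_one, mul_eq_left] at hc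
    rw [hc, map_one, orderOf_one] at hx
    omega
  rw [count_conj (MonoidHom.map_isConj _ hν)]
  have hxx : π (u ν) * π (u ν) = 1 := (sq_tr _).mpr (by rw [tr_u, h2])
  have hl := count_lift (π (u ν))
    (fun A => A.1 1 0 = 0 ∨ (fun c t => t = 0 ∨ t + ν * c = 0) (A.1 1 0) (tr A)) (fun A => ?_)
  · rw [hdd, one_mul, card_lower (fun c t => t = 0 ∨ t + ν * c = 0), pair_count hν0] at hl
    rw [← hl]; ring
  set H := Subgroup.closure ({π (u ν), π A} :
    Set (Matrix.ProjectiveSpecialLinearGroup (Fin 2) F)) with hH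
  constructor
  · intro hs
    have hxm : π (u ν) ∈ H := Subgroup.subset_closure (Or.inl rfl)
    have hym : π A ∈ H := Subgroup.subset_closure (Or.inr rfl)
    have comm0 : π (u ν) * π A = π A * π (u ν) → A.1 1 0 = 0 := by
      intro h
      rw [← map_mul, ← map_mul, inj.eq_iff] at h
      have e00 := congrArg (fun X : SL(2, F) => X.1 0 0) h
      simp only [mul_apply2] at e00
      simp [u, mk2] at e00
      exact e00.resolve_left hν0
    rcases cases 2 h4 (Or.inl rfl) hsub hs with h | ⟨pt, h⟩ | ⟨k, -, ⟨e⟩⟩ | ⟨h3, -⟩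
    · exact Or.inl (comm0 (h _ hxm _ hym))
    · exact Or.inl (fix_of_u hν0 (h _ hxm) (h _ hym))
    · have hsq : e ⟨_, hxm⟩ * e ⟨_, hxm⟩ = 1 := by
        rw [← map_mul, MulEquiv.map_eq_one_iff]; exact Subtype.ext hxx
      rcases (dihedral_cases (e ⟨_, hxm⟩) (e ⟨_, hym⟩)).1 hsq with h | h | h
      · rw [← map_mul, MulEquiv.map_eq_one_iff] at h
        exact Or.inr (Or.inl ((sq_tr A).mp (congrArg Subtype.val h)))
      · rw [← map_mul, ← map_mul, MulEquiv.map_eq_one_iff] at h
        have h' : π (u ν) * π A * (π (u ν) * π A) = 1 := congrArg Subtype.val h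
        rw [← map_mul, sq_tr, tr_u_mul] at h'
        exact Or.inr (Or.inr h')
      · exact Or.inl (comm0 (congrArg Subtype.val (e.injective (by
          rw [map_mul, map_mul]; exact h) : (⟨_, hxm⟩ : H) * ⟨_, hym⟩ = ⟨_, hym⟩ * ⟨_, hxm⟩)))
    · omega
  · rintro (h | h | h)
    · exact solvable_fix (u_fix_infty ν) ((fix_infty A).mpr h)
    · exact solvable_two_involutions hxx ((sq_tr A).mpr h)
    · rw [hH, ← closure_mul]
      exact solvable_two_involutions hxx (by rw [← map_mul, sq_tr, tr_u_mul]; exact h)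
/-- Let G = PSL_2(F) with F a field of order q = 2^p, p prime, and for x ∈ G call the solubilizer of x the set of y ∈ G such that x and y generate a solvable subgroup. Then the solubilizer of an involution has 3q(q − 1) elements; that of a non-identity element of order dividing q − 1 has 2q(q − 1) elements; and that of a non-identity element of order dividing q + 1 has 2(q + 1) elements. -/
theorem result (p : ℕ) (hp : p.Prime) {F : Type*} [Field F] [Fintype F]
    (hF : Fintype.card F = 2 ^ p) (x : Matrix.ProjectiveSpecialLinearGroup (Fin 2) F) :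
    (orderOf x = 2 → Nat.card {y : Matrix.ProjectiveSpecialLinearGroup (Fin 2) F // Group.IsSolvable ↥(Subgroup.closure ({x, y} : Set (Matrix.ProjectiveSpecialLinearGroup (Fin 2) F)))} = 3 * 2 ^ p * (2 ^ p - 1)) ∧
    (x ≠ 1 → orderOf x ∣ 2 ^ p - 1 → Nat.card {y : Matrix.ProjectiveSpecialLinearGroup (Fin 2) F // Group.IsSolvable ↥(Subgroup.closure ({x, y} : Set (Matrix.ProjectiveSpecialLinearGroup (Fin 2) F)))} = 2 * 2 ^ p * (2 ^ p - 1)) ∧
    (x ≠ 1 → orderOf x ∣ 2 ^ p + 1 → Nat.card {y : Matrix.ProjectiveSpecialLinearGroup (Fin 2) F // Group.IsSolvable ↥(Subgroup.closure ({x, y} : Set (Matrix.ProjectiveSpecialLinearGroup (Fin 2) F)))} = 2 * (2 ^ p + 1)) := by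
  haveI : CharP F 2 := charP_of 2 p Nat.prime_two hF
  have hq : Nat.card F = 2 ^ p := by rw [Nat.card_eq_fintype_card, hF]
  have h4 : 4 ≤ Nat.card F := by
    rw [hq]; exact le_trans (le_of_eq (by norm_num : 4 = 2 ^ 2)) (Nat.pow_le_pow_right (by omega) hp.two_le)
  have hsub := hsub_of (F := F) 2 p hp hq (Or.inl rfl)
  have hdd : DicksonPSL.dd F = 1 := by
    rw [DicksonPSL.dd, hq]
    obtain ⟨j, rfl⟩ : ∃ j, p = j + 1 := ⟨p - 1, by have := hp.two_le; omega⟩
    rw [pow_succ']
    have := Nat.one_le_pow j 2 (by omega)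
    exact (Nat.prime_two.coprime_iff_not_dvd.mpr (by omega))
  have hne2 : ∀ d, d ∣ 2 ^ p - 1 ∨ d ∣ 2 ^ p + 1 → d ≠ 2 := by
    rintro d h rfl
    have : 2 ∣ 2 ^ p := dvd_pow_self 2 hp.ne_zero
    have := Nat.one_le_pow p 2 (by omega)
    omega
  rw [← hq] at *
  refine ⟨fun h => count_involution h4 hsub x h, fun h1 hd => ?_, fun h1 hd => ?_⟩
  · have := (count_semisimple 2 h4 (Or.inl rfl) hsub x h1 (hne2 _ (Or.inl hd)) (by omega)).1 hd
    rwa [hdd, one_mul] at this
  · have := (count_semisimple 2 h4 (Or.inl rfl) hsub x h1 (hne2 _ (Or.inr hd)) (by omega)).2 hd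
    rwa [hdd, one_mul] at this

end Cfsg.Agent.S2257
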