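import Cfsg.Statements.S2258
import Mathlib
import Cfsg.Agent.Lib.DicksonSolubilizer

set_option autoImplicit false
open Cfsg

namespace Cfsg.Agent.S2258


open scoped MatrixGroups Classical
open Matrix hiding inv_zero mul_inv_rev
open Cfsg.Agent.PSL2Elements Cfsg.Agent.DicksonSolubilizer

local notation "π" => QuotientGroup.mk' (Subgroup.center SL(2, _))

theorem closure_mul {G : Type*} [Group G] (x y : G) :
    Subgroup.closure ({x, x * y} : Set G) = Subgroup.closure ({x, y} : Set G) := by
  apply le_antisymm <;> rw [Subgroup.closure_le] <;> rintro z (rfl | rfl)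
  · exact Subgroup.subset_closure (Or.inl rfl)
  · exact mul_mem (Subgroup.subset_closure (Or.inl rfl)) (Subgroup.subset_closure (Or.inr rfl))
  · exact Subgroup.subset_closure (Or.inl rfl)
  · have := mul_mem (inv_mem (Subgroup.subset_closure (Or.inl rfl) :
      x ∈ Subgroup.closure ({x, x * z} : Set G))) (Subgroup.subset_closure (Or.inr rfl) :
      x * z ∈ Subgroup.closure ({x, x * z} : Set G))
    rwa [inv_mul_cancel_left] at this

theorem hsub_of {F : Type*} [Field F] [Finite F] (c r : ℕ) [Fact c.Prime] [CharP F c]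
    (hr : r.Prime) (hq : Nat.card F = c ^ r) (hc : c = 2 ∨ c = 3) :
    ∀ R : Subfield F, 3 ≤ Nat.card R → Nat.card R = Nat.card F ∨ Nat.card R = 3 := by
  intro R h3
  obtain ⟨a, -, ha⟩ := DicksonRational.prime_dvd_card_subfield c R
  obtain ⟨_, m, -, -, hm⟩ := DicksonPSL.exists_galoisField_equiv c R
  have har : a ∣ r := by
    refine ⟨m, Nat.pow_right_injective (Fact.out : c.Prime).two_le ?_⟩
    show c ^ r = c ^ (a * m)
    rw [pow_mul, ← ha, hm, hq]
  rcases (Nat.dvd_prime hr).mp har with rfl | rfl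
  · rw [pow_one] at ha
    rcases hc with rfl | rfl
    · omega
    · exact Or.inr ha
  · exact Or.inl (ha.trans hq.symm)

theorem charP_of {F : Type*} [Field F] [Fintype F] (c r : ℕ) (hc : c.Prime)
    (hF : Fintype.card F = c ^ r) : CharP F c := by
  obtain ⟨p', hp'⟩ := CharP.exists F
  haveI : Fact p'.Prime := ⟨CharP.char_is_prime F p'⟩
  obtain ⟨n, hp, hn⟩ := FiniteField.card F p'
  have : p' = c := (Nat.prime_dvd_prime_iff_eq hp hc).mp
    (hp.dvd_of_dvd_pow (hF ▸ hn ▸ dvd_pow_self p' n.ne_zero))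
  exact this ▸ hp'

variable {F : Type*} [Field F] [Finite F]

theorem tr_u_mul (m : F) (A : SL(2, F)) : tr (u m * A) = tr A + m * A.1 1 0 := by
  simp only [tr, mul_apply2]
  simp [u, mk2]
  ring

theorem u_fix_infty (ν : F) : Matrix.ProjectiveSpecialLinearGroup.toPGL (π (u ν)) •
    (OnePoint.infty : OnePoint F) = OnePoint.infty :=
  (fix_infty (u ν)).mpr (by simp [u, mk2])

theorem fix_of_u {ν : F} (hν : ν ≠ 0) {A : SL(2, F)} {pt : OnePoint F}
    (h : Matrix.ProjectiveSpecialLinearGroup.toPGL (π (u ν)) • pt = pt)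
    (h' : Matrix.ProjectiveSpecialLinearGroup.toPGL (π A) • pt = pt) : A.1 1 0 = 0 := by
  cases pt with
  | infty => exact (fix_infty A).mp h'
  | coe z =>
    obtain ⟨-, e⟩ := (fix_coe (u ν) z).mp h
    simp [u, mk2] at e
    exact absurd (by linear_combination e) hν

theorem three_pow_facts (r : ℕ) (hr : Odd r) : 3 ^ r % 24 = 3 := by
  obtain ⟨t, rfl⟩ := hr
  induction t with
  | zero => rfl
  | succ t ih =>
    rw [show 2 * (t + 1) + 1 = (2 * t + 1) + 2 by ring, pow_add, Nat.mul_mod, ih]; norm_num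

theorem small_orders [CharP F 3] (hq : Nat.card F % 24 = 3)
    {g : Matrix.ProjectiveSpecialLinearGroup (Fin 2) F} (hg : orderOf g ∣ 24) :
    orderOf g = 1 ∨ orderOf g = 2 ∨ orderOf g = 3 := by
  have hd : Nat.gcd 2 (Nat.card F - 1) = 2 := Nat.gcd_eq_left ⟨(Nat.card F - 1) / 2, by omega⟩
  have hle : orderOf g ≤ 24 := Nat.le_of_dvd (by norm_num) hg
  have hpos := orderOf_pos g
  rcases PSL2Proj52.pow_cases 3 g with h | h | h <;>
    have hdv := orderOf_dvd_of_pow_eq_one h
  · rcases (Nat.dvd_prime Nat.prime_three).mp hdv with e | e <;> omega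
  all_goals
    rw [hd] at hdv
    generalize orderOf g = d at *
    interval_cases d <;> omega

theorem tr_sq_one_cube [CharP F 3] {B : SL(2, F)} (h : tr B ^ 2 = 1) : π B * π B * π B = 1 := by
  have three : (3 : F) = 0 := CharP.cast_eq_zero F 3
  rw [show π B * π B * π B = π B ^ 3 by simp [pow_succ, mul_assoc]]
  rcases sq_eq_one_iff.mp h with e | e
  · rw [← PSL2Proj52.π_neg, ← map_pow, pow_char 3 (A := -B) (by rw [tr_neg, e]; linear_combination -three),
      map_one]
  · rw [← map_pow, pow_char 3 (A := B) (by rw [e]; linear_combination -three), map_one]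

theorem tr_of_small [CharP F 3] (h2 : (2 : F) ≠ 0) (hq : Nat.card F % 24 = 3) {B : SL(2, F)}
    (hB : orderOf (π B) ∣ 24) : tr B = 0 ∨ tr B ^ 2 = 1 := by
  have three : (3 : F) = 0 := CharP.cast_eq_zero F 3
  obtain ⟨c1, c2, c3, -, -⟩ := DicksonRational.trace_cases (F := F) h2 (A := B)
  rcases small_orders hq hB with h | h | h
  · exact Or.inr (by linear_combination c1 h + three)
  · exact Or.inl (c2 h)
  · exact Or.inr (c3 h)

theorem sq_psl [CharP F 3] (h2 : (2 : F) ≠ 0) (B : SL(2, F)) :
    π B * π B = 1 → tr B = 0 ∨ B = 1 ∨ B = -1 := by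
  intro h
  by_cases h1 : π B = 1
  · exact Or.inr ((PSL2Proj52.π_eq_one B).mp h1)
  · exact Or.inl (DicksonFourGroups.tr_zero_of_sq h2 h h1)

/-! ### Order three -/

theorem pair_count {ν : F} (hν : ν ≠ 0) (h2 : (2 : F) ≠ 0) :
    Nat.card {ct : F × F // ct.1 ≠ 0 ∧ (ν * ct.1) ^ 2 = 1 ∧ ct.2 ^ 3 = ct.2} = 6 := by
  have h1 : (1 : F) ≠ -1 := fun e => h2 (by linear_combination e)
  let f : Bool × Fin 3 → {ct : F × F // ct.1 ≠ 0 ∧ (ν * ct.1) ^ 2 = 1 ∧ ct.2 ^ 3 = ct.2} := fun z =>
    ⟨((if z.1 then ν⁻¹ else -ν⁻¹), (![0, 1, -1] : Fin 3 → F) z.2), by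
      obtain ⟨b, i⟩ := z
      refine ⟨by cases b <;> simp [hν], by cases b <;> simp [hν], ?_⟩
      fin_cases i <;> simp <;> ring⟩
  have hf : Function.Bijective f := by
    constructor
    · rintro ⟨b, i⟩ ⟨b', i'⟩ h
      have e1 := congrArg (fun z => z.1.1) h
      have e2 := congrArg (fun z => z.1.2) h
      have hb : b = b' := by
        cases b <;> cases b' <;> simp [f] at e1 ⊢ <;>
          exact h1 (by field_simp at e1; first | linear_combination e1 | linear_combination -e1)
      have hi : i = i' := by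
        fin_cases i <;> fin_cases i' <;> simp [f, h1, h1.symm] at e2 ⊢
      rw [hb, hi]
    · rintro ⟨⟨c, t⟩, -, hc2, ht⟩
      obtain ⟨b, hb⟩ : ∃ b : Bool, (if b then ν⁻¹ else -ν⁻¹) = c := by
        rcases sq_eq_one_iff.mp hc2 with e | e
        · exact ⟨true, by rw [if_pos rfl]; exact inv_eq_of_mul_eq_one_right e⟩
        · exact ⟨false, by
            simp only [Bool.false_eq_true, if_false]
            rw [inv_eq_of_mul_eq_one_right (show ν * -c = 1 by linear_combination -e), neg_neg]⟩
      obtain ⟨i, hi⟩ : ∃ i : Fin 3, (![0, 1, -1] : Fin 3 → F) i = t := by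
        have : t * ((t - 1) * (t + 1)) = 0 := by linear_combination ht
        rcases mul_eq_zero.mp this with e | e
        · exact ⟨0, e.symm⟩
        rcases mul_eq_zero.mp e with e | e
        · exact ⟨1, (sub_eq_zero.mp e).symm⟩
        · exact ⟨2, (eq_neg_of_add_eq_zero_left e).symm⟩
      exact ⟨(b, i), Subtype.ext (Prod.ext hb hi)⟩
  rw [← Nat.card_eq_of_bijective f hf, Nat.card_prod, Nat.card_eq_fintype_card (α := Bool),
    Fintype.card_bool, Nat.card_fin]

theorem count_three [CharP F 3] (h4 : 4 ≤ Nat.card F) (hq : Nat.card F % 24 = 3)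
    (hsub : ∀ R : Subfield F, 3 ≤ Nat.card R → Nat.card R = Nat.card F ∨ Nat.card R = 3)
    (x : Matrix.ProjectiveSpecialLinearGroup (Fin 2) F) (hx : orderOf x = 3) :
    2 * count x = Nat.card F * (Nat.card F + 5) := by
  have three : (3 : F) = 0 := CharP.cast_eq_zero F 3
  have h2 : (2 : F) ≠ 0 := fun h => one_ne_zero (show (1 : F) = 0 by linear_combination three - h)
  have hdd : DicksonPSL.dd F = 2 := Nat.gcd_eq_left ⟨(Nat.card F - 1) / 2, by omega⟩
  obtain ⟨B₀, hB₀⟩ : ∃ B, π B = x := PSL2Proj52.π_surjective x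
  obtain ⟨B, hB, htB⟩ : ∃ B, π B = x ∧ tr B = 2 := by
    obtain ⟨-, -, c3, -, -⟩ := DicksonRational.trace_cases (F := F) h2 (A := B₀)
    rcases sq_eq_one_iff.mp (c3 (hB₀ ▸ hx)) with e | e
    · exact ⟨-B₀, (PSL2Proj52.π_neg B₀).trans hB₀, by rw [tr_neg, e]; linear_combination -three⟩
    · exact ⟨B₀, hB₀, by rw [e]; linear_combination -three⟩
  subst hB
  obtain ⟨ν, hν⟩ := isConj_u_of_tr_two htB
  have hν0 : ν ≠ 0 := by
    rintro rfl
    obtain ⟨c, hc⟩ := isConj_iff.mp hν
    rw [u_zero, mul_inv_eq_one, mul_eq_left] at hc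
    rw [hc, map_one, orderOf_one] at hx
    omega
  rw [count_conj (MonoidHom.map_isConj _ hν)]
  have hxxx : π (u ν) * π (u ν) * π (u ν) = 1 :=
    tr_sq_one_cube (by rw [tr_u]; linear_combination three)
  have hxo : orderOf (π (u ν)) = 3 := by
    obtain ⟨c, hc⟩ := isConj_iff.mp (MonoidHom.map_isConj (π : SL(2, F) →* _) hν)
    rw [← hc]; exact ((MulAut.conj c).orderOf_eq _).trans hx
  have hl := count_lift (π (u ν)) (fun A => A.1 1 0 = 0 ∨
    (fun c t => (ν * c) ^ 2 = 1 ∧ t ^ 3 = t) (A.1 1 0) (tr A)) (fun A => ?_)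
  · rw [hdd, card_lower (fun c t => (ν * c) ^ 2 = 1 ∧ t ^ 3 = t), pair_count hν0 h2] at hl
    rw [← hl]
    obtain ⟨j, hj⟩ : ∃ j, Nat.card F = j + 1 := ⟨Nat.card F - 1, by omega⟩
    rw [hj, Nat.add_sub_cancel]
    ring
  set H := Subgroup.closure ({π (u ν), π A} :
    Set (Matrix.ProjectiveSpecialLinearGroup (Fin 2) F)) with hH
  have hxm : π (u ν) ∈ H := Subgroup.subset_closure (Or.inl rfl)
  have hym : π A ∈ H := Subgroup.subset_closure (Or.inr rfl)
  constructor
  · intro hs
    rcases cases 3 h4 (Or.inr rfl) hsub hs with h | ⟨pt, h⟩ | ⟨k, hk, ⟨e⟩⟩ | ⟨-, h⟩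
    · left
      have := (commute_iff _ _).mp (h _ hxm _ hym)
      rcases this with e | e <;>
        have e00 := congrArg (fun X : SL(2, F) => X.1 0 0) e <;>
        have e10 := congrArg (fun X : SL(2, F) => X.1 1 0) e <;>
        simp only [mul_apply2, coe_neg', Matrix.neg_apply] at e00 e10 <;>
        simp [u, mk2] at e00 e10
      · exact e00.resolve_left hν0
      · exact (mul_eq_zero.mp (show (2 : F) * A.1 1 0 = 0 by linear_combination e10)).resolve_left h2
    · exact Or.inl (fix_of_u hν0 (h _ hxm) (h _ hym))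
    · exfalso
      have hd := Subgroup.orderOf_dvd_natCard H hxm
      rw [hxo, Nat.card_congr e.toEquiv, DihedralGroup.nat_card] at hd
      rcases Nat.prime_three.dvd_mul.mp hd with h | h
      · omega
      · exact hk h
    · have t0 := tr_of_small h2 hq (h _ hym)
      have t1 := tr_of_small h2 hq (B := u ν * A) (by rw [map_mul]; exact h _ (mul_mem hxm hym))
      rw [tr_u_mul] at t1
      have cube : ∀ t : F, t = 0 ∨ t ^ 2 = 1 → t ^ 3 = t := by
        rintro t (rfl | h)
        · simp
        · linear_combination t * h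
      have e0 := cube _ t0
      have e1 := cube _ t1
      have hc : (ν * A.1 1 0) * ((ν * A.1 1 0) ^ 2 - 1) = 0 := by
        linear_combination e1 - e0 - (tr A ^ 2 * (ν * A.1 1 0) + tr A * (ν * A.1 1 0) ^ 2) * three
      rcases mul_eq_zero.mp hc with h | h
      · exact Or.inl ((mul_eq_zero.mp h).resolve_left hν0)
      · exact Or.inr ⟨by linear_combination h, e0⟩
  · rintro (h | ⟨hc, ht⟩)
    · exact solvable_fix (u_fix_infty ν) ((fix_infty A).mpr h)
    obtain ⟨m, hm, hmx⟩ : ∃ m : F, tr A + m * A.1 1 0 = 0 ∧ π (u m) ∈ Subgroup.zpowers (π (u ν)) := by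
      have : tr A * ((tr A - ν * A.1 1 0) * (tr A + ν * A.1 1 0)) = 0 := by
        linear_combination ht - tr A * hc
      rcases mul_eq_zero.mp this with e | e
      · exact ⟨0, by rw [e]; ring, by rw [u_zero, map_one]; exact one_mem _⟩
      rcases mul_eq_zero.mp e with e | e
      · refine ⟨-ν, by linear_combination e, ?_⟩
        have : (u ν : SL(2, F))⁻¹ = u (-ν) :=
          inv_eq_of_mul_eq_one_right (by rw [u_mul, add_neg_cancel, u_zero])
        rw [← this, map_inv]
        exact inv_mem (Subgroup.mem_zpowers _)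
      · exact ⟨ν, by linear_combination e, Subgroup.mem_zpowers _⟩
    have hs := solvable_tetrahedral (z := π (u m * A)) (y := π (u ν))
      (DicksonFourGroups.sq_of_tr_zero h2 (by rw [tr_u_mul, hm])) hxxx ?_
    · refine solvable_le (Subgroup.closure_le _ |>.mpr ?_) hs
      rintro z (rfl | rfl)
      · exact Subgroup.subset_closure (Or.inr rfl)
      · have hm' : π (u m) ∈ Subgroup.closure ({π (u m * A), π (u ν)} :
            Set (Matrix.ProjectiveSpecialLinearGroup (Fin 2) F)) :=
          (Subgroup.zpowers_le.mpr (Subgroup.subset_closure (Or.inr rfl) :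
            π (u ν) ∈ Subgroup.closure ({π (u m * A), π (u ν)} :
            Set (Matrix.ProjectiveSpecialLinearGroup (Fin 2) F)))) hmx
        have := mul_mem (inv_mem hm') (Subgroup.subset_closure (Or.inl rfl) :
          π (u m * A) ∈ Subgroup.closure ({π (u m * A), π (u ν)} :
            Set (Matrix.ProjectiveSpecialLinearGroup (Fin 2) F)))
        rwa [map_mul, inv_mul_cancel_left] at this
    · rw [← map_mul]
      refine tr_sq_one_cube ?_
      have : tr (u m * A * u ν) = tr (u m * A) + ν * A.1 1 0 := by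
        simp only [tr, mul_apply2]
        simp [u, mk2]
        ring
      rw [this, tr_u_mul, hm, zero_add]
      exact hc

/-! ### Involutions -/

theorem card_circle (hodd : Odd (Nat.card F)) (h4 : Nat.card F % 4 = 3) :
    Nat.card {ts : F × F // ts.1 ^ 2 + ts.2 ^ 2 = 1} = Nat.card F + 1 := by
  obtain ⟨-, hdvd, hk⟩ := PSL2SylowTwo.centralizer_w (F := F) hodd
  have hk' : Nat.card (Subgroup.centralizer ({w} : Set SL(2, F))) = Nat.card F + 1 := by
    rcases hk with h | h
    · rw [h] at hdvd; omega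
    · exact h
  rw [← hk']
  have h2 := PSL2SylowTwo.two_ne_zero_of_odd hodd
  have hmem : ∀ A : SL(2, F), A ∈ Subgroup.centralizer ({w} : Set SL(2, F)) →
      A.1 1 1 = A.1 0 0 ∧ A.1 0 1 = -A.1 1 0 := by
    intro A hA
    have e := Subgroup.mem_centralizer_singleton_iff.mp hA
    have e00 := congrArg (fun X : SL(2, F) => X.1 0 0) e
    have e10 := congrArg (fun X : SL(2, F) => X.1 1 0) e
    simp only [mul_apply2] at e00 e10
    simp [w, mk2] at e00 e10
    exact ⟨by linear_combination e10, by linear_combination e00⟩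
  let g : {ts : F × F // ts.1 ^ 2 + ts.2 ^ 2 = 1} → Subgroup.centralizer ({w} : Set SL(2, F)) := fun q =>
    ⟨mk2 q.1.1 (-q.1.2) q.1.2 q.1.1 (by linear_combination q.2),
      Subgroup.mem_centralizer_singleton_iff.mpr (by
        apply ext2 <;> rw [mul_apply2, mul_apply2] <;> simp [w, mk2])⟩
  refine Nat.card_eq_of_bijective g ⟨fun a b h => ?_, fun A => ?_⟩
  · have h0 := congrArg Subtype.val h
    have e1 := congrArg (fun X : SL(2, F) => X.1 0 0) h0
    have e2 := congrArg (fun X : SL(2, F) => X.1 1 0) h0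
    simp [g, mk2] at e1 e2
    exact Subtype.ext (Prod.ext e1 e2)
  · obtain ⟨h11, h01⟩ := hmem A A.2
    refine ⟨⟨(A.1.1 0 0, A.1.1 1 0), ?_⟩, Subtype.ext ?_⟩
    · have := det_eq A.1
      rw [h11, h01] at this
      linear_combination this
    · apply ext2 <;> simp [g, mk2, h11, h01]

theorem neg_one_not_sq (h4 : Nat.card F % 4 = 3) (z : F) : z ^ 2 ≠ -1 := by
  intro h
  cases nonempty_fintype F
  have := (FiniteField.isSquare_neg_one_iff (F := F)).mp ⟨z, by rw [← sq, h]⟩
  rw [← Nat.card_eq_fintype_card] at this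
  omega

theorem card_norm (hodd : Odd (Nat.card F)) (h4 : Nat.card F % 4 = 3) (m : F) :
    Nat.card {uv : F × F // uv.1 ^ 2 + uv.2 ^ 2 = m} = if m = 0 then 1 else Nat.card F + 1 := by
  by_cases hm : m = 0
  · rw [if_pos hm, Nat.card_eq_one_iff_unique]
    refine ⟨⟨?_⟩, ⟨⟨(0, 0), by simp [hm]⟩⟩⟩
    have key : ∀ uv : {uv : F × F // uv.1 ^ 2 + uv.2 ^ 2 = m}, uv.1 = (0, 0) := by
      rintro ⟨⟨a, b⟩, h⟩
      rw [hm] at h
      simp only at h
      have hb : b = 0 := by
        by_contra hb
        exact neg_one_not_sq h4 (a / b) (by field_simp; linear_combination h)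
      subst hb
      simp at h
      simp [h]
    exact fun a b => Subtype.ext ((key a).trans (key b).symm)
  rw [if_neg hm, ← card_circle hodd h4]
  cases nonempty_fintype F
  obtain ⟨a, b, hab⟩ : ∃ a b : F, a ^ 2 + b ^ 2 = m := by
    obtain ⟨p', hp'⟩ := CharP.exists F
    haveI : NeZero p' := ⟨(CharP.char_is_prime F p').ne_zero⟩
    have h2 := PSL2SylowTwo.two_ne_zero_of_odd hodd
    obtain ⟨a, b, h⟩ := FiniteField.exists_root_sum_quadratic (f := (Polynomial.X ^ 2 : Polynomial F))
      (g := Polynomial.X ^ 2 - Polynomial.C m) (Polynomial.degree_X_pow 2)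
      (Polynomial.degree_X_pow_sub_C two_pos m) (by rw [← Nat.card_eq_fintype_card]; exact Nat.odd_iff.mp hodd)
    refine ⟨a, b, ?_⟩
    simp at h
    linear_combination h
  let g : {uv : F × F // uv.1 ^ 2 + uv.2 ^ 2 = 1} → {uv : F × F // uv.1 ^ 2 + uv.2 ^ 2 = m} := fun q =>
    ⟨(a * q.1.1 - b * q.1.2, a * q.1.2 + b * q.1.1),
      by linear_combination (q.1.1 ^ 2 + q.1.2 ^ 2) * hab + m * q.2⟩
  refine (Nat.card_eq_of_bijective g ⟨fun x y h => ?_, fun y => ?_⟩).symm
  · have e1 := congrArg (fun z => z.1.1) h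
    have e2 := congrArg (fun z => z.1.2) h
    simp only [g] at e1 e2
    apply Subtype.ext
    refine Prod.ext (mul_left_cancel₀ hm ?_) (mul_left_cancel₀ hm ?_)
    · linear_combination a * e1 + b * e2 - (x.1.1 - y.1.1) * hab
    · linear_combination a * e2 - b * e1 - (x.1.2 - y.1.2) * hab
  · refine ⟨⟨((a * y.1.1 + b * y.1.2) / m, (a * y.1.2 - b * y.1.1) / m), ?_⟩,
      Subtype.ext (Prod.ext ?_ ?_)⟩
    · field_simp
      linear_combination (y.1.1 ^ 2 + y.1.2 ^ 2) * hab + m * y.2
    · simp only [g]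
      field_simp
      linear_combination y.1.1 * hab
    · simp only [g]
      field_simp
      linear_combination y.1.2 * hab

theorem count_involution [CharP F 3] (h4 : 4 ≤ Nat.card F) (hq : Nat.card F % 24 = 3)
    (hsub : ∀ R : Subfield F, 3 ≤ Nat.card R → Nat.card R = Nat.card F ∨ Nat.card R = 3)
    (x : Matrix.ProjectiveSpecialLinearGroup (Fin 2) F) (hx : orderOf x = 2) :
    count x = Nat.card F * (Nat.card F + 1) := by
  have three : (3 : F) = 0 := CharP.cast_eq_zero F 3
  have h2 : (2 : F) ≠ 0 := fun h => one_ne_zero (show (1 : F) = 0 by linear_combination three - h)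
  have hodd : Odd (Nat.card F) := Nat.odd_iff.mpr (by omega)
  have hdd : DicksonPSL.dd F = 2 := Nat.gcd_eq_left ⟨(Nat.card F - 1) / 2, by omega⟩
  obtain ⟨B, hB⟩ : ∃ B, π B = x := PSL2Proj52.π_surjective x
  subst hB
  obtain ⟨htB, -⟩ := DicksonRational.sq_eq_neg_one_of_order_two h2 hx
  rw [count_conj (MonoidHom.map_isConj _ (isConj_w_of_tr_zero h2 htB))]
  have hxx : π (w : SL(2, F)) * π w = 1 := DicksonFourGroups.sq_of_tr_zero h2 tr_w
  have htw : ∀ A : SL(2, F), tr (w * A) = A.1 0 1 - A.1 1 0 := fun A => by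
    simp only [tr, mul_apply2]
    simp [w, mk2]
    ring
  let P : SL(2, F) → Prop := fun A => tr A = 0 ∨ A.1 0 1 - A.1 1 0 = 0 ∨
    (A.1 0 0 = A.1 1 1 ∧ A.1 0 1 = -A.1 1 0) ∨ (tr A ^ 2 = 1 ∧ (A.1 0 1 - A.1 1 0) ^ 2 = 1)
  have hl := count_lift (π (w : SL(2, F))) P (fun A => ?_)
  · rw [hdd] at hl
    refine Nat.eq_of_mul_eq_mul_left two_pos ?_
    rw [← hl]
    let D : F × F → Prop := fun ts => ts.1 = 0 ∨ ts.2 = 0 ∨ (ts.1 ^ 2 = 1 ∧ ts.2 ^ 2 = 1)
    let T : F × F → Prop := fun ts => ts.1 ^ 2 + ts.2 ^ 2 = 1 ∨ D ts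
    let φ : {A : SL(2, F) // P A} → Σ ts : {ts : F × F // T ts},
        {uv : F × F // uv.1 ^ 2 + uv.2 ^ 2 = ts.1.1 ^ 2 + ts.1.2 ^ 2 - 1} := fun A =>
      ⟨⟨(tr A.1, A.1.1 0 1 - A.1.1 1 0), by
        rcases A.2 with h | h | ⟨h, h'⟩ | h
        · exact Or.inr (Or.inl h)
        · exact Or.inr (Or.inr (Or.inl h))
        · left
          have hd := det_eq A.1
          simp only [tr]
          rw [h, h'] at hd ⊢
          linear_combination hd + (A.1.1 1 1 ^ 2 + A.1.1 1 0 ^ 2) * three
        · exact Or.inr (Or.inr (Or.inr h))⟩,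
       ⟨(A.1.1 0 0 - A.1.1 1 1, A.1.1 0 1 + A.1.1 1 0), by
        show (A.1.1 0 0 - A.1.1 1 1) ^ 2 + (A.1.1 0 1 + A.1.1 1 0) ^ 2 =
          tr A.1 ^ 2 + (A.1.1 0 1 - A.1.1 1 0) ^ 2 - 1
        simp only [tr]
        linear_combination (-4 : F) * det_eq A.1 - three⟩⟩
    have hφ : Function.Bijective φ := by
      constructor
      · rintro ⟨A, hA⟩ ⟨A', hA'⟩ h
        have e1 := congrArg (fun z => (z.1.1.1, z.1.1.2, z.2.1.1, z.2.1.2)) h
        simp only [φ, Prod.mk.injEq, tr] at e1
        obtain ⟨a1, a2, a3, a4⟩ := e1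
        refine Subtype.ext (ext2 (mul_left_cancel₀ h2 ?_) (mul_left_cancel₀ h2 ?_)
          (mul_left_cancel₀ h2 ?_) (mul_left_cancel₀ h2 ?_))
        · linear_combination a1 + a3
        · linear_combination a2 + a4
        · linear_combination a4 - a2
        · linear_combination a1 - a3
      · rintro ⟨⟨⟨t, s⟩, hT⟩, ⟨⟨u', v⟩, huv⟩⟩
        simp only at huv
        refine ⟨⟨mk2 (-(t + u')) (-(v + s)) (-(v - s)) (-(t - u'))
          (by linear_combination -huv), ?_⟩, ?_⟩
        · rcases hT with hc | hc | hc | ⟨hc, hc'⟩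
          · refine Or.inr (Or.inr (Or.inl ?_))
            have h0 : u' = 0 ∧ v = 0 := by
              have hm : u' ^ 2 + v ^ 2 = 0 := by rw [huv]; linear_combination hc
              have hv : v = 0 := by
                by_contra hv
                exact neg_one_not_sq (by omega) (u' / v) (by field_simp; linear_combination hm)
              subst hv
              exact ⟨by simpa using hm, rfl⟩
            obtain ⟨rfl, rfl⟩ := h0
            simp [mk2]
          · refine Or.inl ?_
            simp [tr, mk2]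
            linear_combination -2 * hc
          · refine Or.inr (Or.inl ?_)
            simp [mk2]
            linear_combination -2 * hc
          · refine Or.inr (Or.inr (Or.inr ⟨?_, ?_⟩))
            · have e : tr (mk2 (-(t + u')) (-(v + s)) (-(v - s)) (-(t - u'))
                (by linear_combination -huv) : SL(2, F)) = t := by
                simp [tr, mk2]; linear_combination -t * three
              rw [e]; exact hc
            · have e : -(v + s) - -(v - s) = s := by linear_combination -s * three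
              simp only [mk2]
              rw [show !![-(t + u'), -(v + s); -(v - s), -(t - u')] 0 1 = -(v + s) from rfl,
                show !![-(t + u'), -(v + s); -(v - s), -(t - u')] 1 0 = -(v - s) from rfl, e]
              exact hc'
        · have a1 : -(t + u') + -(t - u') = t := by linear_combination -t * three
          have a2 : -(v + s) - -(v - s) = s := by linear_combination -s * three
          have a3 : -(t + u') - -(t - u') = u' := by linear_combination -u' * three
          have a4 : -(v + s) + -(v - s) = v := by linear_combination -v * three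
          have ext4 : ∀ a b : Σ ts : {ts : F × F // T ts},
              {uv : F × F // uv.1 ^ 2 + uv.2 ^ 2 = ts.1.1 ^ 2 + ts.1.2 ^ 2 - 1},
              a.1 = b.1 → a.2.1 = b.2.1 → a = b := by
            rintro ⟨a1, a2⟩ ⟨b1, b2⟩ e1 e2
            dsimp only at e1 e2
            subst e1
            rw [Subtype.ext e2]
          refine ext4 _ _ (Subtype.ext (Prod.ext ?_ ?_)) (Prod.ext ?_ ?_) <;> simp [φ, tr, mk2]
          · linear_combination a1
          · linear_combination a2
          · linear_combination a3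
          · linear_combination a4
    haveI := Fintype.ofFinite F
    have e3 : Nat.card {A : SL(2, F) // P A} =
        ∑ ts : {ts : F × F // T ts}, if ts.1.1 ^ 2 + ts.1.2 ^ 2 = 1 then 1 else Nat.card F + 1 := by
      rw [Nat.card_eq_of_bijective φ hφ, Nat.card_sigma]
      refine Finset.sum_congr rfl fun ts _ => ?_
      rw [card_norm hodd (by omega)]
      simp [sub_eq_zero]
    rw [e3, Finset.sum_ite, Finset.sum_const, Finset.sum_const, smul_eq_mul, smul_eq_mul, mul_one]
    have c1 : (Finset.univ.filter fun ts : {ts : F × F // T ts} => ts.1.1 ^ 2 + ts.1.2 ^ 2 = 1).card =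
        Nat.card F + 1 := by
      rw [← card_circle hodd (by omega), ← Fintype.card_subtype, ← Nat.card_eq_fintype_card]
      exact Nat.card_congr ⟨fun z => ⟨z.1.1, z.2⟩, fun z => ⟨⟨z.1, Or.inl z.2⟩, z.2⟩,
        fun _ => rfl, fun _ => rfl⟩
    have hone : (1 : F) ≠ -1 := fun e => h2 (by linear_combination e)
    let S1 : Finset (F × F) := {0} ×ˢ (Finset.univ \ {1, -1})
    let S2 : Finset (F × F) := (Finset.univ \ {1, -1, 0}) ×ˢ {0}
    let S3 : Finset (F × F) := {1, -1} ×ˢ {1, -1}
    have hS : (Finset.univ.filter fun ts : F × F => D ts ∧ ¬ ts.1 ^ 2 + ts.2 ^ 2 = 1) = S1 ∪ S2 ∪ S3 := by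
      ext ⟨t, s⟩
      simp only [S1, S2, S3, D, Finset.mem_filter, Finset.mem_univ, true_and, Finset.mem_union,
        Finset.mem_product, Finset.mem_singleton, Finset.mem_sdiff, Finset.mem_insert]
      by_cases ht : t = 0
      · subst ht; simp [sq_eq_one_iff, hone]
      by_cases hs : s = 0
      · subst hs; simp [ht, sq_eq_one_iff]
      simp only [ht, hs, sq_eq_one_iff, false_and, and_false, or_false, false_or]
      refine ⟨fun h => h.1, fun h => ⟨h, fun e => one_ne_zero (show (1 : F) = 0 from ?_)⟩⟩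
      linear_combination e - (sq_eq_one_iff.mpr h.1) - (sq_eq_one_iff.mpr h.2)
    have d1 : Disjoint S1 S2 := Finset.disjoint_left.mpr fun a ha hb => by
      simp only [S1, S2, Finset.mem_product, Finset.mem_singleton, Finset.mem_sdiff, Finset.mem_insert] at ha hb
      exact hb.1.2 (Or.inr (Or.inr ha.1))
    have d2 : Disjoint (S1 ∪ S2) S3 := Finset.disjoint_left.mpr fun a ha hb => by
      simp only [S3, Finset.mem_product, Finset.mem_insert, Finset.mem_singleton] at hb
      simp only [S1, S2, Finset.mem_union, Finset.mem_product, Finset.mem_singleton] at ha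
      rcases ha with ha | ha
      · rcases hb.1 with h | h <;> simp [ha.1] at h
      · rcases hb.2 with h | h <;> simp [ha.2] at h
    have hcq : Fintype.card F = Nat.card F := Nat.card_eq_fintype_card.symm
    have k2 : ({1, -1} : Finset F).card = 2 := Finset.card_pair hone
    have k3 : ({1, -1, 0} : Finset F).card = 3 := Finset.card_eq_three.mpr
      ⟨1, -1, 0, hone, one_ne_zero, neg_ne_zero.mpr one_ne_zero, rfl⟩
    have hsum : (S1 ∪ S2 ∪ S3).card = 2 * Nat.card F - 1 := by
      rw [Finset.card_union_of_disjoint d2, Finset.card_union_of_disjoint d1]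
      simp only [S1, S2, S3, Finset.card_product, Finset.card_singleton, k2,
        Finset.card_sdiff_of_subset (Finset.subset_univ _), Finset.card_univ, k3, hcq]
      omega
    have c2 : (Finset.univ.filter fun ts : {ts : F × F // T ts} => ¬ ts.1.1 ^ 2 + ts.1.2 ^ 2 = 1).card =
        2 * Nat.card F - 1 := by
      rw [← hsum, ← hS, ← Fintype.card_subtype, ← Fintype.card_subtype]
      exact Fintype.card_congr ⟨fun z => ⟨z.1.1, (z.1.2.resolve_left z.2), z.2⟩,
        fun z => ⟨⟨z.1, Or.inr z.2.1⟩, z.2.2⟩, fun _ => rfl, fun _ => rfl⟩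
    rw [c1, c2]
    obtain ⟨j, hj⟩ : ∃ j, Nat.card F = j + 1 := ⟨Nat.card F - 1, by omega⟩
    rw [hj, show 2 * (j + 1) - 1 = 2 * j + 1 by omega]
    ring
  set H := Subgroup.closure ({π (w : SL(2, F)), π A} :
    Set (Matrix.ProjectiveSpecialLinearGroup (Fin 2) F)) with hH
  have hxm : π (w : SL(2, F)) ∈ H := Subgroup.subset_closure (Or.inl rfl)
  have hym : π A ∈ H := Subgroup.subset_closure (Or.inr rfl)
  have hcomm : π (w : SL(2, F)) * π A = π A * π w → P A := by
    intro h
    rcases (commute_iff _ _).mp h with e | e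
    · have e00 := congrArg (fun X : SL(2, F) => X.1 0 0) e
      have e10 := congrArg (fun X : SL(2, F) => X.1 1 0) e
      simp only [mul_apply2] at e00 e10
      simp [w, mk2] at e00 e10
      exact Or.inr (Or.inr (Or.inl ⟨by linear_combination e10, by linear_combination -e00⟩))
    · exact Or.inl (DicksonFourGroups.Anti.tr_right h2 (U := w) ⟨tr_w, by rw [e, neg_neg]⟩)
  have scalar : ∀ B : SL(2, F), B = 1 ∨ B = -1 → P B := by
    rintro B (rfl | rfl) <;> exact Or.inr (Or.inl (by simp))
  constructor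
  · intro hs
    rcases cases 3 h4 (Or.inr rfl) hsub hs with h | ⟨pt, h⟩ | ⟨k, hk, ⟨e⟩⟩ | ⟨-, h⟩
    · exact hcomm (h _ hxm _ hym)
    · exfalso
      have hw := h _ hxm
      cases pt with
      | infty => simpa [w, mk2] using (fix_infty w).mp hw
      | coe z =>
        obtain ⟨-, e⟩ := (fix_coe w z).mp hw
        simp [w, mk2] at e
        exact neg_one_not_sq (by omega) z (by linear_combination -e)
    · have hsq : e ⟨_, hxm⟩ * e ⟨_, hxm⟩ = 1 := by
        rw [← map_mul, MulEquiv.map_eq_one_iff]; exact Subtype.ext hxx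
      rcases (dihedral_cases (e ⟨_, hxm⟩) (e ⟨_, hym⟩)).1 hsq with h | h | h
      · rw [← map_mul, MulEquiv.map_eq_one_iff] at h
        rcases sq_psl h2 A (congrArg Subtype.val h) with h | h
        · exact Or.inl h
        · exact scalar A h
      · rw [← map_mul, ← map_mul, MulEquiv.map_eq_one_iff] at h
        have h' : π (w : SL(2, F)) * π A * (π w * π A) = 1 := congrArg Subtype.val h
        rw [← map_mul π w A] at h'
        rcases sq_psl h2 _ h' with h | h
        · exact Or.inr (Or.inl (by rw [← htw]; exact h))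
        · refine Or.inl ?_
          rcases h with h | h
          · rw [eq_inv_of_mul_eq_one_right h, tr_inv, tr_w]
          · rw [eq_inv_mul_of_mul_eq h, mul_neg, mul_one, tr_neg, tr_inv, tr_w, neg_zero]
      · exact hcomm (congrArg Subtype.val (e.injective (by
          rw [map_mul, map_mul]; exact h) : (⟨_, hxm⟩ : H) * ⟨_, hym⟩ = ⟨_, hym⟩ * ⟨_, hxm⟩))
    · rcases tr_of_small h2 hq (h _ hym) with t0 | t0
      · exact Or.inl t0
      have h' := tr_of_small h2 hq (B := w * A) (by rw [map_mul]; exact h _ (mul_mem hxm hym))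
      rw [htw] at h'
      rcases h' with t1 | t1
      · exact Or.inr (Or.inl t1)
      · exact Or.inr (Or.inr (Or.inr ⟨t0, t1⟩))
  · rintro (h | h | ⟨h, h'⟩ | ⟨h, h'⟩)
    · exact solvable_two_involutions hxx (DicksonFourGroups.sq_of_tr_zero h2 h)
    · rw [hH, ← closure_mul]
      refine solvable_two_involutions hxx ?_
      rw [← map_mul π w A]
      exact DicksonFourGroups.sq_of_tr_zero h2 (by rw [htw, h])
    · refine solvable_of_conj_mem ?_
      have hc : A * w = w * A := by
        apply ext2 <;> rw [mul_apply2, mul_apply2] <;> simp [w, mk2, h, h']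
      rw [← map_inv, ← map_mul, ← map_mul, hc, mul_inv_cancel_right]
      exact Subgroup.mem_zpowers _
    · refine solvable_tetrahedral hxx (tr_sq_one_cube h) ?_
      rw [← map_mul π w A]
      exact tr_sq_one_cube (by rw [htw]; exact h')
/-- Let G = PSL_2(F) with F a field of order q = 3^p, p an odd prime, and for x ∈ G call the solubilizer of x the set of y ∈ G such that x and y generate a solvable subgroup. Then the solubilizer of an involution has q(q + 1) elements; that of an element of order 3 has q(q + 5)/2 elements; that of an element of order neither 1 nor 2 dividing q − 1 has q(q − 1) elements; and that of an element of order neither 1 nor 2 dividing q + 1 has q + 1 elements. -/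
theorem result (p : ℕ) (hp : p.Prime) (hodd : Odd p) {F : Type*} [Field F] [Fintype F]
    (hF : Fintype.card F = 3 ^ p) (x : Matrix.ProjectiveSpecialLinearGroup (Fin 2) F) :
    (orderOf x = 2 → Nat.card {y : Matrix.ProjectiveSpecialLinearGroup (Fin 2) F // Group.IsSolvable ↥(Subgroup.closure ({x, y} : Set (Matrix.ProjectiveSpecialLinearGroup (Fin 2) F)))} = 3 ^ p * (3 ^ p + 1)) ∧
    (orderOf x = 3 → 2 * Nat.card {y : Matrix.ProjectiveSpecialLinearGroup (Fin 2) F // Group.IsSolvable ↥(Subgroup.closure ({x, y} : Set (Matrix.ProjectiveSpecialLinearGroup (Fin 2) F)))} = 3 ^ p * (3 ^ p + 5)) ∧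
    (x ≠ 1 → orderOf x ≠ 2 → orderOf x ∣ 3 ^ p - 1 → Nat.card {y : Matrix.ProjectiveSpecialLinearGroup (Fin 2) F // Group.IsSolvable ↥(Subgroup.closure ({x, y} : Set (Matrix.ProjectiveSpecialLinearGroup (Fin 2) F)))} = 3 ^ p * (3 ^ p - 1)) ∧
    (x ≠ 1 → orderOf x ≠ 2 → orderOf x ∣ 3 ^ p + 1 → Nat.card {y : Matrix.ProjectiveSpecialLinearGroup (Fin 2) F // Group.IsSolvable ↥(Subgroup.closure ({x, y} : Set (Matrix.ProjectiveSpecialLinearGroup (Fin 2) F)))} = 3 ^ p + 1) := by
  haveI : CharP F 3 := charP_of 3 p Nat.prime_three hF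
  have hq : Nat.card F = 3 ^ p := by rw [Nat.card_eq_fintype_card, hF]
  have h24 : Nat.card F % 24 = 3 := hq ▸ three_pow_facts p hodd
  have h4 : 4 ≤ Nat.card F := by
    have := Nat.pow_le_pow_right (show 0 < 3 by omega) hp.two_le
    omega
  have hsub := hsub_of (F := F) 3 p hp hq (Or.inr rfl)
  have hdd : DicksonPSL.dd F = 2 := Nat.gcd_eq_left ⟨(Nat.card F - 1) / 2, by omega⟩
  rw [← hq] at *
  refine ⟨fun h => count_involution h4 h24 hsub x h, fun h => count_three h4 h24 hsub x h, ?_, ?_⟩
  all_goals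
    intro h1 h2 hd
    have hx24 : (3 : ℕ) = 3 → ¬ orderOf x ∣ 24 := by
      intro _ h
      rcases small_orders h24 h with e | e | e
      · exact h1 (orderOf_eq_one_iff.mp e)
      · exact h2 e
      · rw [e] at hd; omega
  · have := (count_semisimple 3 h4 (Or.inr rfl) hsub x h1 h2 hx24).1 hd
    rw [hdd, mul_assoc 2] at this
    exact Nat.eq_of_mul_eq_mul_left two_pos this
  · have := (count_semisimple 3 h4 (Or.inr rfl) hsub x h1 h2 hx24).2 hd
    rw [hdd] at this
    exact Nat.eq_of_mul_eq_mul_left two_pos this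

end Cfsg.Agent.S2258
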