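import Cfsg.Statements.S2259
import Cfsg.Agent.Lib.SuzukiGroupSolubilizer
-- import your own Cfsg.Agent.* helpers here

set_option autoImplicit false
open Cfsg

namespace Cfsg.Agent.S2259

/-- Let G be the Suzuki group Sz(q), q = 2^(2m+1) with 2m + 1 prime and m ≥ 1, realised inside Sp_4(F) for F the field of order q, write r = 2^(m+1) (so r² = 2q), and for x ∈ G call the solubilizer of x the set of y ∈ G such that x and y generate a solvable subgroup. Then the solubilizer of an involution has q²(4q − 3) elements; that of an element of order 4 has q²(q + 3) elements; that of a non-identity element of order dividing q − 1 has 2q²(q − 1) elements; that of a non-identity element of order dividing q + r + 1 has 4(q + r + 1) elements; and that of a non-identity element of order dividing q − r + 1 has 4(q − r + 1) elements. -/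
theorem result {F : Type*} [Field F] [Fintype F] {m : ℕ} (hm : 1 ≤ m)
    (hp : (2 * m + 1).Prime) (hF : Fintype.card F = 2 ^ (2 * m + 1)) (x : ↥(Cfsg.Lie.Sz F (2 ^ (m + 1)))) :
    (orderOf x = 2 → Nat.card {y : ↥(Cfsg.Lie.Sz F (2 ^ (m + 1))) // Group.IsSolvable ↥(Subgroup.closure ({x, y} : Set (↥(Cfsg.Lie.Sz F (2 ^ (m + 1))))))} = (2 ^ (2 * m + 1)) ^ 2 * (4 * 2 ^ (2 * m + 1) - 3)) ∧
    (orderOf x = 4 → Nat.card {y : ↥(Cfsg.Lie.Sz F (2 ^ (m + 1))) // Group.IsSolvable ↥(Subgroup.closure ({x, y} : Set (↥(Cfsg.Lie.Sz F (2 ^ (m + 1))))))} = (2 ^ (2 * m + 1)) ^ 2 * (2 ^ (2 * m + 1) + 3)) ∧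
    (x ≠ 1 → orderOf x ∣ 2 ^ (2 * m + 1) - 1 →
      Nat.card {y : ↥(Cfsg.Lie.Sz F (2 ^ (m + 1))) // Group.IsSolvable ↥(Subgroup.closure ({x, y} : Set (↥(Cfsg.Lie.Sz F (2 ^ (m + 1))))))} = 2 * (2 ^ (2 * m + 1)) ^ 2 * (2 ^ (2 * m + 1) - 1)) ∧
    (x ≠ 1 → orderOf x ∣ 2 ^ (2 * m + 1) + 2 ^ (m + 1) + 1 → Nat.card {y : ↥(Cfsg.Lie.Sz F (2 ^ (m + 1))) // Group.IsSolvable ↥(Subgroup.closure ({x, y} : Set (↥(Cfsg.Lie.Sz F (2 ^ (m + 1))))))} = 4 * (2 ^ (2 * m + 1) + 2 ^ (m + 1) + 1)) ∧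
    (x ≠ 1 → orderOf x ∣ 2 ^ (2 * m + 1) - 2 ^ (m + 1) + 1 → Nat.card {y : ↥(Cfsg.Lie.Sz F (2 ^ (m + 1))) // Group.IsSolvable ↥(Subgroup.closure ({x, y} : Set (↥(Cfsg.Lie.Sz F (2 ^ (m + 1))))))} = 4 * (2 ^ (2 * m + 1) - 2 ^ (m + 1) + 1)) := by
  have := SuzukiGroupBasic.Param.mk' (F := F) (m := m) hm hF
  let e := SuzukiGroupLie.lieEquiv (F := F) (m := m)
  have hsol : Nat.card {y // Group.IsSolvable ↥(Subgroup.closure ({x, y} : Set (↥(Cfsg.Lie.Sz F (2 ^ (m + 1))))))} =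
      (SuzukiGroupSolubilizer.sol F m (e x)).ncard := by
    rw [← Nat.card_coe_set_eq]
    refine Nat.card_congr (e.toEquiv.subtypeEquiv fun y => ?_)
    have h : (Subgroup.closure ({x, y} : Set (↥(Cfsg.Lie.Sz F (2 ^ (m + 1)))))).map e.toMonoidHom =
        Subgroup.closure ({e x, e y} : Set ↥(Cfsg.Sz F m)) := by
      rw [MonoidHom.map_closure, Set.image_pair]; rfl
    let f := Subgroup.equivMapOfInjective (Subgroup.closure ({x, y} : Set (↥(Cfsg.Lie.Sz F (2 ^ (m + 1))))))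
      e.toMonoidHom e.injective
    change _ ↔ Group.IsSolvable ↥(Subgroup.closure ({e x, e y} : Set ↥(Cfsg.Sz F m)))
    rw [← h]
    refine ⟨fun hs => ?_, fun hs => ?_⟩
    · exact Group.isSolvable_of_surjective (f := f.toMonoidHom) f.surjective
    · exact Group.isSolvable_of_surjective (f := f.symm.toMonoidHom) f.symm.surjective
  have ho : orderOf (e x) = orderOf x := e.orderOf_eq x
  have h1 : x ≠ 1 → e x ≠ 1 := fun h h' => h (e.injective (h'.trans (map_one e).symm))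
  refine ⟨fun h => ?_, fun h => ?_, fun h hd => ?_, fun h hd => ?_, fun h hd => ?_⟩ <;> rw [hsol]
  · exact SuzukiGroupSolubilizer.ncard_sol_involution (ho.trans h)
  · exact SuzukiGroupSolubilizer.ncard_sol_four (ho.trans h)
  · exact SuzukiGroupSolubilizer.ncard_sol_split (h1 h) (ho ▸ hd)
  · exact SuzukiGroupSolubilizer.ncard_sol_torus (h1 h) (Or.inl rfl) (ho ▸ hd)
  · exact SuzukiGroupSolubilizer.ncard_sol_torus (h1 h) (Or.inr rfl) (ho ▸ hd)

end Cfsg.Agent.S2259
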