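import Cfsg.Statements.S2260
import Mathlib


set_option autoImplicit false
open Cfsg

namespace Cfsg.Agent.S2260

/-- Let F be a finite field of prime characteristic p and u an invertible d × d matrix over F with u − 1 nilpotent (a unipotent element). Then the order of u is at most p^⌈log_p d⌉; and if moreover (u − 1)^(d−1) ≠ 0 (u is a single Jordan block) then the order of u is exactly p^⌈log_p d⌉. -/
theorem result {F : Type*} [Field F] [Finite F] (p : ℕ) [Fact p.Prime] [CharP F p] (d : ℕ)
    (u : GL (Fin d) F) (hu : IsNilpotent ((u : Matrix (Fin d) (Fin d) F) - 1)) :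
    orderOf u ≤ p ^ Nat.clog p d ∧
    (((u : Matrix (Fin d) (Fin d) F) - 1) ^ (d - 1) ≠ 0 → orderOf u = p ^ Nat.clog p d) := by
  have hd0 : ((u : Matrix (Fin d) (Fin d) F) - 1) ^ d = 0 := by
    have h := Matrix.isNilpotent_charpoly_sub_pow_of_isNilpotent hu
    have h2 : ((u : Matrix (Fin d) (Fin d) F) - 1).charpoly = Polynomial.X ^ d := by
      have := isNilpotent_iff_eq_zero.mp h
      rw [sub_eq_zero] at this
      simpa using this
    have h3 := Matrix.aeval_self_charpoly ((u : Matrix (Fin d) (Fin d) F) - 1)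
    rwa [h2, map_pow, Polynomial.aeval_X] at h3
  have key : ∀ k : ℕ, u ^ p ^ k = 1 ↔ ((u : Matrix (Fin d) (Fin d) F) - 1) ^ p ^ k = 0 := by
    intro k
    rw [Units.ext_iff, Units.val_pow_eq_pow_val, Units.val_one]
    rcases Nat.eq_zero_or_pos d with hd | hd
    · subst hd
      constructor <;> intro _ <;> ext i <;> exact i.elim0
    · haveI : Nonempty (Fin d) := ⟨⟨0, hd⟩⟩
      rw [sub_pow_char_pow_of_commute p k (Commute.one_right _), one_pow, sub_eq_zero]
  have hp := (Fact.out : p.Prime)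
  have h1 : u ^ p ^ Nat.clog p d = 1 := by
    rw [key]
    exact pow_eq_zero_of_le (Nat.le_pow_clog hp.one_lt d) hd0
  refine ⟨Nat.le_of_dvd (pow_pos hp.pos _) (orderOf_dvd_of_pow_eq_one h1), fun hne => ?_⟩
  obtain ⟨j, hj, hje⟩ := (Nat.dvd_prime_pow hp).mp (orderOf_dvd_of_pow_eq_one h1)
  rcases hj.lt_or_eq with hlt | rfl
  · exfalso
    have hlt' : p ^ j < d := Nat.pow_lt_of_lt_clog hlt
    refine hne (pow_eq_zero_of_le (by omega : p ^ j ≤ d - 1) ?_)
    rw [← key, ← hje, pow_orderOf_eq_one]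
  · exact hje

end Cfsg.Agent.S2260
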