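import Cfsg.Statements.S2261
import Mathlib

set_option autoImplicit false
open Cfsg

namespace Cfsg.Agent.S2261


theorem mk_eq_one_iff {F : Type*} [Field F] {d : ℕ} (g : GL (Fin d) F) :
    (QuotientGroup.mk g : GL (Fin d) F ⧸ Subgroup.center (GL (Fin d) F)) = 1 ↔
      ∃ a : F, (g : Matrix (Fin d) (Fin d) F) = Matrix.scalar (Fin d) a := by
  rw [QuotientGroup.eq_one_iff, Matrix.GeneralLinearGroup.mem_center_iff_val_mem_range_scalar, Set.mem_range]
  exact ⟨fun ⟨a, ha⟩ => ⟨a, ha.symm⟩, fun ⟨a, ha⟩ => ⟨a, ha.symm⟩⟩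

theorem order_le {F : Type*} [Field F] [Fintype F] {d : ℕ} (hd : 1 ≤ d)
    (q : GL (Fin d) F ⧸ Subgroup.center (GL (Fin d) F)) :
    (Fintype.card F - 1) * orderOf q ≤ Fintype.card F ^ d - 1 := by
  classical
  obtain ⟨g, rfl⟩ := QuotientGroup.mk_surjective q
  set k := orderOf (QuotientGroup.mk g : GL (Fin d) F ⧸ Subgroup.center (GL (Fin d) F)) with hk
  haveI : Nonempty (Fin d) := ⟨⟨0, hd⟩⟩
  set A : Matrix (Fin d) (Fin d) F := (g : Matrix (Fin d) (Fin d) F) with hA
  have span : ∀ n : ℕ, ∃ c : Fin d → F, A ^ n = ∑ i : Fin d, c i • A ^ (i : ℕ) := by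
    intro n
    have hdeg : A.charpoly.natDegree = d := by simp [Matrix.charpoly_natDegree_eq_dim]
    refine ⟨fun i => ((Polynomial.X ^ n : Polynomial F) %ₘ A.charpoly).coeff i, ?_⟩
    have e1 : Polynomial.aeval A ((Polynomial.X ^ n : Polynomial F) %ₘ A.charpoly) = A ^ n := by
      have h := congrArg (Polynomial.aeval A)
        (Polynomial.modByMonic_add_div (Polynomial.X ^ n : Polynomial F) A.charpoly)
      simpa [Matrix.aeval_self_charpoly] using h
    conv_lhs => rw [← e1]
    rw [Polynomial.aeval_eq_sum_range' (n := d)]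
    · rw [Finset.sum_range]
    · exact lt_of_lt_of_eq
        (Polynomial.natDegree_modByMonic_lt _ A.charpoly_monic (fun h => by
          have := congrArg Polynomial.natDegree h
          rw [hdeg, Polynomial.natDegree_one] at this
          omega)) hdeg
  choose c hc using span
  let f : Fin k × Fˣ → {v : Fin d → F // v ≠ 0} := fun x =>
    ⟨(x.2 : F) • c x.1, fun h => by
      have h1 := hc x.1
      rw [smul_eq_zero] at h
      rcases h with h | h
      · exact x.2.ne_zero h
      · rw [h] at h1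
        simp at h1
        exact ((g ^ (x.1 : ℕ)).ne_zero) (by simpa [hA] using h1)⟩
  have hinj : Function.Injective f := by
    have key : ∀ i j : ℕ, i ≤ j → j < k → ∀ a b : Fˣ, (a : F) • A ^ i = (b : F) • A ^ j → i = j ∧ a = b := by
      intro i j hij hj a b h
      obtain ⟨m, rfl⟩ := Nat.exists_eq_add_of_le hij
      have hu : IsUnit (A ^ i) := (g.isUnit).pow i
      rw [pow_add, ← mul_one ((a : F) • A ^ i), smul_mul_assoc, ← mul_smul_comm, ← mul_smul_comm] at h
      have h2 := hu.mul_left_cancel h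
      have hm : (QuotientGroup.mk (g ^ m) : GL (Fin d) F ⧸ Subgroup.center (GL (Fin d) F)) = 1 := by
        rw [mk_eq_one_iff]
        refine ⟨(↑(b⁻¹ * a) : F), ?_⟩
        rw [Units.val_pow_eq_pow_val, ← hA]
        calc A ^ m = (↑b⁻¹ : F) • ((b : F) • A ^ m) := by rw [smul_smul]; simp
          _ = _ := by
            rw [← h2, smul_smul, Units.val_mul]
            simp [Matrix.smul_one_eq_diagonal]
      rw [QuotientGroup.mk_pow] at hm
      have hdvd := orderOf_dvd_of_pow_eq_one hm
      rw [← hk] at hdvd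
      have : m = 0 := by
        rcases Nat.eq_zero_or_pos m with h0 | h0
        · exact h0
        · have := Nat.le_of_dvd h0 hdvd
          omega
      subst this
      refine ⟨by simp, Units.ext ?_⟩
      have h3 := congrFun (congrFun h2 ⟨0, hd⟩) ⟨0, hd⟩
      simpa using h3
    rintro ⟨i, a⟩ ⟨j, b⟩ h
    have h1 : (a : F) • c i = (b : F) • c j := congrArg Subtype.val h
    have h2 : (a : F) • A ^ (i : ℕ) = (b : F) • A ^ (j : ℕ) := by
      rw [hc, hc, Finset.smul_sum, Finset.smul_sum]
      refine Finset.sum_congr rfl fun l _ => ?_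
      rw [smul_smul, smul_smul]
      exact congrArg (· • A ^ (l : ℕ)) (congrFun h1 l)
    rcases le_total (i : ℕ) j with hle | hle
    · obtain ⟨e1, e2⟩ := key _ _ hle j.2 a b h2
      exact Prod.ext (Fin.ext e1) e2
    · obtain ⟨e1, e2⟩ := key _ _ hle i.2 b a h2.symm
      exact Prod.ext (Fin.ext e1.symm) e2.symm
  have := Fintype.card_le_of_injective f hinj
  simp [Fintype.card_subtype_compl, Fintype.card_units] at this
  rw [mul_comm]
  exact this

/-- Let F be a finite field with q elements and d ≥ 1. Then every element of PGL_d(F) = GL_d(F)/Z has order at most (q^d − 1)/(q − 1), and some element (the image of a Singer cycle) has exactly this order. -/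
theorem result {F : Type*} [Field F] [Fintype F] (d : ℕ) (hd : 1 ≤ d) :
    (∀ g : (GL (Fin d) F ⧸ Subgroup.center (GL (Fin d) F)), (Fintype.card F - 1) * orderOf g ≤ Fintype.card F ^ d - 1) ∧
    (∃ g : (GL (Fin d) F ⧸ Subgroup.center (GL (Fin d) F)), (Fintype.card F - 1) * orderOf g = Fintype.card F ^ d - 1) := by
  refine ⟨order_le hd, ?_⟩
  obtain ⟨p, hp⟩ := CharP.exists F
  haveI : Fact p.Prime := ⟨CharP.char_is_prime F p⟩
  haveI : NeZero d := ⟨by omega⟩
  let K := FiniteField.Extension F p d
  haveI : Finite K := Module.finite_of_finite F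
  have b := Module.finBasisOfFinrankEq F K (FiniteField.finrank_extension F p d)
  obtain ⟨x, hx⟩ := IsCyclic.exists_ofOrder_eq_natCard (α := Kˣ)
  have hcard : orderOf x = Fintype.card F ^ d - 1 := by
    rw [hx, Nat.card_units, FiniteField.natCard_extension, Nat.card_eq_fintype_card]
  let g : GL (Fin d) F := Units.map (Algebra.leftMulMatrix b).toMonoidHom x
  refine ⟨QuotientGroup.mk g, le_antisymm (order_le hd _) ?_⟩
  have h := pow_orderOf_eq_one (QuotientGroup.mk g : GL (Fin d) F ⧸ Subgroup.center (GL (Fin d) F))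
  rw [← QuotientGroup.mk_pow, mk_eq_one_iff] at h
  obtain ⟨a, ha⟩ := h
  set k := orderOf (QuotientGroup.mk g : GL (Fin d) F ⧸ Subgroup.center (GL (Fin d) F)) with hk
  haveI : Nonempty (Fin d) := ⟨⟨0, hd⟩⟩
  have hxa : ((x : K) ^ k) = algebraMap F K a := by
    apply Algebra.leftMulMatrix_injective b
    rw [AlgHom.commutes, map_pow]
    simpa [g, Matrix.algebraMap_eq_diagonal, Pi.algebraMap_def, Units.val_pow_eq_pow_val] using ha
  have ha0 : a ≠ 0 := by
    rintro rfl
    simp at hxa
  have hone : x ^ (k * (Fintype.card F - 1)) = 1 := by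
    apply Units.ext
    rw [Units.val_pow_eq_pow_val, pow_mul, hxa, ← map_pow, FiniteField.pow_card_sub_one_eq_one a ha0,
      map_one, Units.val_one]
  have hdvd := orderOf_dvd_of_pow_eq_one hone
  rw [hcard] at hdvd
  rw [mul_comm]
  refine Nat.le_of_dvd ?_ hdvd
  exact Nat.mul_pos (orderOf_pos _) (Nat.sub_pos_of_lt Fintype.one_lt_card)

end Cfsg.Agent.S2261
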