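import Cfsg.Statements.S2262
import Mathlib
import Cfsg.Agent.Lib.AutPSLApi
import Cfsg.Agent.Lib.AutPSLMain
import Cfsg.Agent.Lib.CyclicQuotBound67
-- import your own Cfsg.Agent.* helpers here

set_option autoImplicit false
set_option linter.all false
open Cfsg

namespace Cfsg.Agent.S2262

open Polynomial Matrix
open Cfsg.Agent.AutPSLBasic Cfsg.Agent.AutPSLMain Cfsg.Agent.AutPSLApi Cfsg.Agent.CyclicQuotBound67

variable {F : Type*} [Field F] {n : ℕ}

/-- Products along an endomorphism. -/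
def tw {G : Type*} [Group G] (θ : G →* G) (g : G) : ℕ → G
  | 0 => 1
  | k + 1 => tw θ g k * (θ : G → G)^[k] g

theorem tw_conj {G : Type*} [Group G] (θ : G →* G) (g : G) (k : ℕ) :
    θ (tw θ g k) = g⁻¹ * tw θ g k * (θ : G → G)^[k] g := by
  induction k with
  | zero => simp [tw]
  | succ k ih =>
    rw [tw, map_mul, ih, mul_assoc g⁻¹ _ ((θ : G → G)^[k] g), Function.iterate_succ_apply']

theorem conj_pow {G A : Type*} [Group G] [Group A] (c : G →* A) (θ : G →* G) (ψ : A)
    (h : ∀ x, ψ * c x = c (θ x) * ψ) (g : G) (k : ℕ) : (c g * ψ) ^ k = c (tw θ g k) * ψ ^ k := by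
  have hk : ∀ (k : ℕ) x, ψ ^ k * c x = c ((θ : G → G)^[k] x) * ψ ^ k := by
    intro k
    induction k with
    | zero => intro x; simp
    | succ k ih =>
      intro x
      rw [pow_succ, mul_assoc, h, ← mul_assoc, ih, mul_assoc, ← Function.iterate_succ_apply]
  induction k with
  | zero => simp [tw]
  | succ k ih =>
    rw [pow_succ, ih, tw, map_mul, pow_succ, mul_assoc, ← mul_assoc (ψ ^ k), hk, mul_assoc, mul_assoc]

/-- Entrywise field automorphism. -/
abbrev gmap (σ : F ≃+* F) : GL (Fin n) F →* GL (Fin n) F :=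
  Matrix.GeneralLinearGroup.map (σ : F →+* F)

theorem gmap_iterate (σ : F ≃+* F) (k : ℕ) (x : GL (Fin n) F) :
    (gmap σ : GL (Fin n) F → GL (Fin n) F)^[k] x = gmap (σ ^ k) x := by
  induction k with
  | zero => exact Units.ext (Matrix.ext fun i j => rfl)
  | succ k ih =>
    rw [Function.iterate_succ_apply', ih, pow_succ']
    exact Units.ext (Matrix.ext fun i j => rfl)

theorem gmap_one (x : GL (Fin n) F) : gmap (1 : F ≃+* F) x = x := Units.ext (Matrix.ext fun i j => rfl)

theorem glInvT_mul (a b : GL (Fin n) F) : glInvT (a * b) = glInvT a * glInvT b := by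
  apply Units.ext
  show ((((a * b)⁻¹ : GL (Fin n) F)) : Matrix (Fin n) (Fin n) F)ᵀ = _
  rw [_root_.mul_inv_rev, Units.val_mul, Matrix.transpose_mul]
  rfl

theorem glInvT_glInvT (a : GL (Fin n) F) : glInvT (glInvT a) = a := by
  apply Units.ext
  show (((glInvT a)⁻¹ : GL (Fin n) F) : Matrix (Fin n) (Fin n) F)ᵀ = _
  show ((a : Matrix (Fin n) (Fin n) F)ᵀ)ᵀ = _
  rw [Matrix.transpose_transpose]

theorem glInvT_gmap (σ : F ≃+* F) (a : GL (Fin n) F) : glInvT (gmap σ a) = gmap σ (glInvT a) := by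
  apply Units.ext
  show (((gmap σ a)⁻¹ : GL (Fin n) F) : Matrix (Fin n) (Fin n) F)ᵀ = _
  rw [← map_inv]
  exact Matrix.ext fun i j => rfl

/-- Inverse transpose followed by a field automorphism. -/
def gtw (σ : F ≃+* F) : GL (Fin n) F →* GL (Fin n) F :=
  (gmap σ).comp (MonoidHom.mk' glInvT glInvT_mul)

theorem gtw_apply (σ : F ≃+* F) (x : GL (Fin n) F) : gtw σ x = gmap σ (glInvT x) := rfl

theorem gtw_iterate (σ : F ≃+* F) (j : ℕ) (x : GL (Fin n) F) :
    (gtw σ : GL (Fin n) F → GL (Fin n) F)^[2 * j] x = gmap ((σ * σ) ^ j) x := by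
  induction j with
  | zero => exact (gmap_one x).symm
  | succ j ih =>
    rw [show 2 * (j + 1) = (2 * j).succ.succ by omega, Function.iterate_succ_apply', Function.iterate_succ_apply', ih]
    simp only [gtw_apply, glInvT_gmap, glInvT_glInvT]
    rw [pow_succ']
    exact Units.ext (Matrix.ext fun i j => rfl)

theorem charpoly_gmap (σ : F ≃+* F) (x : GL (Fin n) F) :
    ((gmap σ x : GL (Fin n) F) : Matrix (Fin n) (Fin n) F).charpoly =
      (x : Matrix (Fin n) (Fin n) F).charpoly.map (σ : F →+* F) := by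
  rw [← Matrix.charpoly_map]
  rfl

theorem charpoly_conj' (g x : GL (Fin n) F) :
    ((g⁻¹ * x * g : GL (Fin n) F) : Matrix (Fin n) (Fin n) F).charpoly =
      (x : Matrix (Fin n) (Fin n) F).charpoly := by
  rw [Units.val_mul, Units.val_mul, Matrix.coe_units_inv]
  exact Matrix.charpoly_units_conj' g _

theorem cj_pow_eq_one (hn : 2 ≤ n) (H : GL (Fin n) F) {k : ℕ} {a : F}
    (h : (H : Matrix (Fin n) (Fin n) F).charpoly ∣ X ^ k - C a) : cj (H ^ k) = (1 : MulAut (P n F)) := by
  rw [cj_eq_one_iff hn, Subgroup.mem_center_iff]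
  obtain ⟨r, hr⟩ := h
  have hz := congrArg (aeval (H : Matrix (Fin n) (Fin n) F)) hr
  rw [map_mul, Matrix.aeval_self_charpoly, zero_mul, map_sub, map_pow, aeval_X, aeval_C, sub_eq_zero] at hz
  intro y
  apply Units.ext
  rw [Units.val_mul, Units.val_mul, Units.val_pow_eq_pow_val, hz]
  exact (Algebra.commutes a _).symm

variable [Fintype F]

theorem exists_fixed_field (τ : F ≃+* F) (χ : F[X]) (hχ : χ.Monic) (h : χ.map (τ : F →+* F) = χ) :
    ∃ (F₁ : Subfield F) (χ₁ : F₁[X]), χ₁.Monic ∧ χ₁.map F₁.subtype = χ ∧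
      χ₁.natDegree = χ.natDegree ∧ Fintype.card F = Nat.card F₁ ^ orderOf τ := by
  classical
  haveI : Finite (F ≃+* F) := Finite.of_injective (fun e : F ≃+* F => (e : F → F)) DFunLike.coe_injective
  let T := Subgroup.zpowers τ
  haveI : Fintype T := Fintype.ofFinite _
  let F₁ := FixedPoints.subfield T F
  have hmem : χ ∈ lifts F₁.subtype := by
    rw [lifts_iff_coeff_lifts]
    intro i
    refine ⟨⟨χ.coeff i, fun t => ?_⟩, rfl⟩
    have hi : τ (χ.coeff i) = χ.coeff i := by
      conv_rhs => rw [← h]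
      rw [coeff_map]
      rfl
    have hle : T ≤ MulAction.stabilizer (F ≃+* F) (χ.coeff i) := Subgroup.zpowers_le.2 hi
    exact hle t.2
  obtain ⟨χ₁, h1, h2, h3⟩ := lifts_and_degree_eq_and_monic hmem hχ
  refine ⟨F₁, χ₁, h3, h1, natDegree_eq_of_degree_eq h2, ?_⟩
  haveI : FaithfulSMul T F := ⟨fun {a b} hab => Subtype.ext (RingEquiv.ext hab)⟩
  have hfr : Module.finrank F₁ F = orderOf τ := by
    rw [show Module.finrank F₁ F = Fintype.card T from FixedPoints.finrank_eq_card T F,
      ← Nat.card_eq_fintype_card, Nat.card_zpowers]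
  rw [← hfr, ← Nat.card_eq_fintype_card, Module.natCard_eq_pow_finrank (K := F₁)]

theorem bound_plain (hn : 2 ≤ n) (h24 : ¬ (n = 2 ∧ Fintype.card F = 4)) (g : GL (Fin n) F) (σ : F ≃+* F) :
    (Fintype.card F - 1) * orderOf (cj g * fd σ : MulAut (P n F)) ≤ Fintype.card F ^ n - 1 := by
  classical
  haveI : Finite (F ≃+* F) := Finite.of_injective (fun e : F ≃+* F => (e : F → F)) DFunLike.coe_injective
  set e := orderOf σ with he
  have hepos : 0 < e := orderOf_pos σ
  set H := tw (gmap σ) g e with hH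
  have hα : (cj g * fd σ : MulAut (P n F)) ^ e = cj H := by
    rw [conj_pow cj (gmap σ) (fd σ) (fun x => fd_mul_cj σ x), ← map_pow, he, pow_orderOf_eq_one, map_one, mul_one]
  have hconj := tw_conj (gmap σ) g e
  rw [gmap_iterate, he, pow_orderOf_eq_one, gmap_one, ← he] at hconj
  set χ := (H : Matrix (Fin n) (Fin n) F).charpoly with hχ
  have hfix : χ.map (σ : F →+* F) = χ := by rw [hχ, ← charpoly_gmap, hconj, charpoly_conj']
  obtain ⟨F₁, χ₁, hm, hmap, hdeg, hcard⟩ := exists_fixed_field σ χ (Matrix.charpoly_monic _) hfix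
  haveI : Fintype F₁ := Fintype.ofFinite _
  have hd : χ₁.natDegree = n := by rw [hdeg, hχ, Matrix.charpoly_natDegree_eq_dim, Fintype.card_fin]
  have h0 : χ₁.coeff 0 ≠ 0 := by
    intro hz
    have : χ.coeff 0 = 0 := by rw [← hmap, coeff_map, hz, map_zero]
    have hdet := (H : Matrix (Fin n) (Fin n) F).det_eq_sign_charpoly_coeff
    rw [← hχ, this, mul_zero] at hdet
    exact ((Matrix.isUnit_iff_isUnit_det _).1 H.isUnit).ne_zero hdet
  obtain ⟨k, a, hk, hdvd, hbound⟩ := core_linear hm (by omega) h0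
  have hdvd' : χ ∣ X ^ k - C (a : F) := by
    have := Polynomial.map_dvd F₁.subtype hdvd
    rw [hmap, Polynomial.map_sub, Polynomial.map_pow, map_X, map_C] at this
    exact this
  have h1 : (cj g * fd σ : MulAut (P n F)) ^ (e * k) = 1 := by
    rw [pow_mul, hα, ← map_pow, cj_pow_eq_one hn H hdvd']
  refine (Nat.mul_le_mul_left _ (orderOf_le_of_pow_eq_one (Nat.mul_pos hepos hk) h1)).trans ?_
  rw [Nat.card_eq_fintype_card, ← he] at hcard
  rw [hd] at hbound
  set x := Fintype.card F₁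
  have hx : 2 ≤ x := Fintype.one_lt_card
  rw [hcard, ← pow_mul, mul_comm e n]
  have h3 := linear_ineq hx hepos hn (fun h2 he2 => by
    by_contra hx3
    have hx2 : x = 2 := by omega
    exact h24 ⟨h2, by rw [hcard, he2, hx2]; norm_num⟩)
  refine Nat.le_of_mul_le_mul_left ?_ (show 0 < x - 1 by omega)
  calc (x - 1) * ((x ^ e - 1) * (e * k)) = e * ((x ^ e - 1) * (k * (x - 1))) := by ring
    _ ≤ e * ((x ^ e - 1) * (x ^ n - 1)) := Nat.mul_le_mul_left _ (Nat.mul_le_mul_left _ hbound)
    _ ≤ _ := h3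

theorem sigma_four (σ : F ≃+* F) (h : orderOf σ = 4) : 16 ≤ Fintype.card F := by
  obtain ⟨p, hp⟩ := CharP.exists F
  haveI := hp
  obtain ⟨f, hpp, hf⟩ := FiniteField.card F p
  haveI : Fact p.Prime := ⟨hpp⟩
  haveI : Finite (F ≃+* F) := Finite.of_injective (fun e : F ≃+* F => (e : F → F)) DFunLike.coe_injective
  have hdvd := orderOf_dvd_natCard σ
  rw [h, card_ringAut hf f.pos] at hdvd
  have h4 : 4 ≤ (f : ℕ) := Nat.le_of_dvd f.pos hdvd
  rw [hf]
  calc 16 = 2 ^ 4 := by norm_num
    _ ≤ p ^ 4 := Nat.pow_le_pow_left hpp.two_le _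
    _ ≤ _ := Nat.pow_le_pow_right hpp.pos h4

theorem bound_graph (hn : 3 ≤ n) (h32 : ¬ (n = 3 ∧ Fintype.card F = 2)) (g : GL (Fin n) F) (σ : F ≃+* F) :
    (Fintype.card F - 1) * orderOf (cj g * fd σ * it : MulAut (P n F)) ≤ Fintype.card F ^ n - 1 := by
  classical
  haveI : Finite (F ≃+* F) := Finite.of_injective (fun e : F ≃+* F => (e : F → F)) DFunLike.coe_injective
  set τ := σ * σ with hτ
  set e := orderOf τ with he
  have hepos : 0 < e := orderOf_pos τ
  set θ := gtw (n := n) σ with hθ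
  set H := tw θ g (2 * e) with hH
  set ψ : MulAut (P n F) := fd σ * it with hψ
  have hψc : ∀ x, ψ * cj x = cj (θ x) * ψ := fun x => by
    rw [hψ, mul_assoc, it_mul_cj, ← mul_assoc, fd_mul_cj, mul_assoc]; rfl
  have hψ2 : ψ ^ (2 * e) = 1 := by
    rw [hψ, (show Commute (fd σ) it from (it_mul_fd σ).symm).mul_pow, ← map_pow, pow_mul it, pow_two it, it_mul_it,
      one_pow, mul_one, pow_mul, pow_two, ← hτ, he, pow_orderOf_eq_one, map_one]
  have hα : (cj g * fd σ * it : MulAut (P n F)) ^ (2 * e) = cj H := by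
    rw [mul_assoc, ← hψ, conj_pow cj θ ψ hψc, hψ2, mul_one]
  have hconj : θ H = g⁻¹ * H * g := by
    rw [hH, tw_conj, hθ, gtw_iterate, ← hτ, he, pow_orderOf_eq_one, gmap_one]
  set χ := (H : Matrix (Fin n) (Fin n) F).charpoly with hχ
  have hχm : χ.Monic := Matrix.charpoly_monic _
  have hdetu : IsUnit (H : Matrix (Fin n) (Fin n) F).det := (Matrix.isUnit_iff_isUnit_det _).1 H.isUnit
  have h0 : χ.coeff 0 ≠ 0 := by
    intro hz
    have hdet := (H : Matrix (Fin n) (Fin n) F).det_eq_sign_charpoly_coeff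
    rw [← hχ, hz, mul_zero] at hdet
    exact hdetu.ne_zero hdet
  have hd : χ.natDegree = n := by rw [hχ, Matrix.charpoly_natDegree_eq_dim, Fintype.card_fin]
  have hsym : Sym (σ : F →+* F) χ := by
    have h1 : (((glInvT H : GL (Fin n) F)) : Matrix (Fin n) (Fin n) F).charpoly.map (σ : F →+* F) = χ := by
      rw [← charpoly_gmap, ← gtw_apply, ← hθ, hconj, charpoly_conj']
    have h2 : (((glInvT H : GL (Fin n) F)) : Matrix (Fin n) (Fin n) F).charpoly =
        (-1) ^ n * C (Ring.inverse (H : Matrix (Fin n) (Fin n) F).det) * χ.reverse := by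
      show ((((H⁻¹ : GL (Fin n) F)) : Matrix (Fin n) (Fin n) F)ᵀ).charpoly = _
      rw [Matrix.charpoly_transpose, Matrix.coe_units_inv, Matrix.charpoly_inv _ H.isUnit, Fintype.card_fin,
        hχ, Matrix.reverse_charpoly]
    rw [h2, Polynomial.map_mul, Polynomial.map_mul, Polynomial.map_pow, Polynomial.map_neg, Polynomial.map_one,
      map_C] at h1
    have hmr : χ.reverse.map (σ : F →+* F) = (χ.map (σ : F →+* F)).reverse := by
      rw [reverse, reverse, natDegree_map_eq_of_injective (RingHom.injective _), reflect_map]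
    rw [hmr] at h1
    refine ⟨((-1) ^ n * (σ : F →+* F) (Ring.inverse (H : Matrix (Fin n) (Fin n) F).det))⁻¹, inv_ne_zero ?_, ?_⟩
    · exact mul_ne_zero (pow_ne_zero _ (by norm_num)) ((_root_.map_ne_zero _).2 hdetu.ringInverse.ne_zero)
    · conv_rhs => rw [← h1]
      rw [← mul_assoc, show ((-1 : F[X]) ^ n * C ((σ : F →+* F) (Ring.inverse (H : Matrix (Fin n) (Fin n) F).det))) =
        C ((-1) ^ n * (σ : F →+* F) (Ring.inverse (H : Matrix (Fin n) (Fin n) F).det)) by simp, ← C_mul,
        inv_mul_cancel₀ (mul_ne_zero (pow_ne_zero _ (by norm_num)) ((_root_.map_ne_zero _).2 hdetu.ringInverse.ne_zero)),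
        C_1, one_mul]
  have finish : ∀ (k : ℕ) (a : F), 0 < k → χ ∣ X ^ k - C a →
      orderOf (cj g * fd σ * it : MulAut (P n F)) ≤ 2 * e * k := fun k a hk hdvd =>
    orderOf_le_of_pow_eq_one (by positivity) (by rw [pow_mul, hα, ← map_pow, cj_pow_eq_one (by omega) H hdvd])
  rcases eq_or_lt_of_le (show 1 ≤ e from hepos) with he1 | he2
  · obtain ⟨k, a, hk, hdvd, hb⟩ := core_graph (σ := (σ : F →+* F)) hχm (by omega) h0 hsym (by rw [hd]; exact h32)
    rw [hd] at hb
    refine (Nat.mul_le_mul_left _ (finish k a hk hdvd)).trans (le_of_eq_of_le ?_ hb)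
    rw [← he1, mul_one, mul_comm]
  · have hfix : χ.map (τ : F →+* F) = χ := by
      have h2 : gmap τ H = (g * θ g)⁻¹ * H * (g * θ g) := by
        have := gtw_iterate σ 1 H
        rw [pow_one, ← hτ] at this
        rw [← this, ← hθ]
        show θ (θ H) = _
        rw [hconj, map_mul, map_mul, map_inv, hconj]
        group
      rw [hχ, ← charpoly_gmap, h2, charpoly_conj']
    obtain ⟨F₁, χ₁, hm, hmap, hdeg, hcard⟩ := exists_fixed_field τ χ hχm hfix
    haveI : Fintype F₁ := Fintype.ofFinite _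
    have h0' : χ₁.coeff 0 ≠ 0 := fun hz => h0 (by rw [← hmap, coeff_map, hz, map_zero])
    obtain ⟨k, a, hk, hdvd, hbound⟩ := core_linear hm (by omega) h0'
    have hdvd' : χ ∣ X ^ k - C (a : F) := by
      have := Polynomial.map_dvd F₁.subtype hdvd
      rw [hmap, Polynomial.map_sub, Polynomial.map_pow, map_X, map_C] at this
      exact this
    refine (Nat.mul_le_mul_left _ (finish k _ hk hdvd')).trans ?_
    rw [Nat.card_eq_fintype_card, ← he] at hcard
    rw [hdeg, hd] at hbound
    set x := Fintype.card F₁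
    have hx : 2 ≤ x := Fintype.one_lt_card
    have h3 := graph_ineq hx he2 hn (fun he2' => by
      have h4 : orderOf σ = 4 := by
        apply orderOf_eq_prime_pow (p := 2) (n := 1)
        · intro hc
          rw [pow_one, pow_two, ← hτ] at hc
          rw [hc, orderOf_one] at he; omega
        · have := pow_orderOf_eq_one τ
          rw [← he, he2', hτ, ← pow_two, ← pow_mul] at this
          exact this
      have h16 := sigma_four σ h4
      rw [hcard, he2'] at h16
      nlinarith)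
    rw [hcard, ← pow_mul, mul_comm e n]
    refine Nat.le_of_mul_le_mul_left ?_ (show 0 < x - 1 by omega)
    calc (x - 1) * ((x ^ e - 1) * (2 * e * k)) = 2 * e * ((x ^ e - 1) * (k * (x - 1))) := by ring
      _ ≤ 2 * e * ((x ^ e - 1) * (x ^ n - 1)) := Nat.mul_le_mul_left _ (Nat.mul_le_mul_left _ hbound)
      _ ≤ _ := h3

theorem exists_singer (hn : 2 ≤ n) :
    ∃ g : GL (Fin n) F, Fintype.card F ^ n - 1 ∣ (Fintype.card F - 1) * orderOf (cj g : MulAut (P n F)) := by
  classical
  obtain ⟨p, hp⟩ := CharP.exists F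
  haveI := hp
  obtain ⟨f, hpp, -⟩ := FiniteField.card F p
  haveI : Fact p.Prime := ⟨hpp⟩
  haveI : NeZero n := ⟨by omega⟩
  let K := FiniteField.Extension F p n
  haveI : Fintype K := Fintype.ofFinite K
  let b := Module.finBasisOfFinrankEq F K (FiniteField.finrank_extension F p n)
  obtain ⟨u, hu⟩ := IsCyclic.exists_ofOrder_eq_natCard (α := Kˣ)
  let g : GL (Fin n) F := Units.map (Algebra.leftMulMatrix b : K →* Matrix (Fin n) (Fin n) F) u
  refine ⟨g, ?_⟩
  have hc : Nat.card Kˣ = Fintype.card F ^ n - 1 := by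
    rw [Nat.card_eq_fintype_card, Fintype.card_units, ← Nat.card_eq_fintype_card, FiniteField.natCard_extension,
      Nat.card_eq_fintype_card]
  have h1 : cj (g ^ orderOf (cj g : MulAut (P n F))) = (1 : MulAut (P n F)) := by
    rw [map_pow, pow_orderOf_eq_one]
  rw [cj_eq_one_iff hn] at h1
  set o := orderOf (cj g : MulAut (P n F))
  obtain ⟨c, hcs⟩ : ∃ c : Fˣ, Matrix.GeneralLinearGroup.scalar (Fin n) c = g ^ o := by
    rw [Matrix.GeneralLinearGroup.center_eq_range_scalar] at h1
    exact h1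
  have hu' : ((u : K) ^ o) = algebraMap F K (c : F) := by
    apply Algebra.leftMulMatrix_injective b
    rw [map_pow, AlgHom.commutes]
    have := congrArg Units.val hcs
    rw [Units.val_pow_eq_pow_val] at this
    rw [Matrix.algebraMap_eq_diagonal]
    exact this.symm
  have h2 : u ^ ((Fintype.card F - 1) * o) = 1 := by
    apply Units.ext
    rw [mul_comm, pow_mul, Units.val_pow_eq_pow_val, Units.val_pow_eq_pow_val, hu', ← map_pow,
      FiniteField.pow_card_sub_one_eq_one _ c.ne_zero, map_one, Units.val_one]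
  rw [← hc, ← hu]
  exact orderOf_dvd_of_pow_eq_one h2

/-- Let F be a finite field with q elements and d ≥ 2, with q ≥ 4 when d = 2, and (d, q) ∉ {(2, 4), (3, 2)}. Then every automorphism of the simple group PSL_d(F) has order at most (q^d − 1)/(q − 1) as an element of the automorphism group, and some automorphism has exactly this order. -/
theorem result {F : Type*} [Field F] [Fintype F] (d : ℕ) (hd : 2 ≤ d)
    (h2 : d = 2 → 4 ≤ Fintype.card F) (h24 : ¬ (d = 2 ∧ Fintype.card F = 4)) (h32 : ¬ (d = 3 ∧ Fintype.card F = 2)) :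
    (∀ φ : MulAut (Matrix.ProjectiveSpecialLinearGroup (Fin d) F),
      (Fintype.card F - 1) * orderOf φ ≤ Fintype.card F ^ d - 1) ∧
    (∃ φ : MulAut (Matrix.ProjectiveSpecialLinearGroup (Fin d) F),
      (Fintype.card F - 1) * orderOf φ = Fintype.card F ^ d - 1) := by
  have upper : ∀ φ : MulAut (Matrix.ProjectiveSpecialLinearGroup (Fin d) F),
      (Fintype.card F - 1) * orderOf φ ≤ Fintype.card F ^ d - 1 := by
    intro φ
    obtain ⟨g, σ, h | ⟨h3, h⟩⟩ := Cfsg.Agent.AutPSLMain.aut_decomp hd φ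
    · rw [h]; exact bound_plain hd h24 g σ
    · rw [h]; exact bound_graph h3 h32 g σ
  refine ⟨upper, ?_⟩
  obtain ⟨g, hg⟩ := exists_singer (F := F) hd
  refine ⟨Cfsg.Agent.AutPSLBasic.cj g, le_antisymm (upper _) (Nat.le_of_dvd ?_ hg)⟩
  haveI : Finite (MulAut (Matrix.ProjectiveSpecialLinearGroup (Fin d) F)) :=
    Finite.of_injective (fun e => (e : Matrix.ProjectiveSpecialLinearGroup (Fin d) F → _)) DFunLike.coe_injective
  exact Nat.mul_pos (by have := Fintype.one_lt_card (α := F); omega) (orderOf_pos _)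

end Cfsg.Agent.S2262
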