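import Cfsg.Statements.S2263
import Cfsg.Agent.Lib.PGUMatrix61
-- import your own Cfsg.Agent.* helpers here

set_option autoImplicit false
open Cfsg

namespace Cfsg.Agent.S2263

/-- Let q = p^f with p prime and f ≥ 1, F a field with q² elements, d ≥ 3 with (d, q) ≠ (3, 2), and PGU_d(q) the general unitary group of the standard Hermitian form modulo its centre. Then the largest order of an element of PGU_d(q) is: q^(d−1) − 1 if d is odd and f ≥ 2; (p^(d−2) + 1)p if d is odd and f = 1; q^(d−1) + 1 if d is even and q > 2; 4(2^(d−3) + 1) if d is even and q = 2. -/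
theorem result {F : Type*} [Field F] [Fintype F] (p f d : ℕ) (hp : p.Prime) (hf : 1 ≤ f) (q : ℕ) (hq : q = p ^ f)
    (hF : Fintype.card F = q ^ 2) (hd : 3 ≤ d) (h32 : ¬ (d = 3 ∧ q = 2)) :
    (Odd d → 2 ≤ f → (∀ g : (↥(Cfsg.GU d F q) ⧸ Subgroup.center ↥(Cfsg.GU d F q)), orderOf g ≤ q ^ (d - 1) - 1) ∧ ∃ g : (↥(Cfsg.GU d F q) ⧸ Subgroup.center ↥(Cfsg.GU d F q)), orderOf g = q ^ (d - 1) - 1) ∧
    (Odd d → f = 1 → (∀ g : (↥(Cfsg.GU d F q) ⧸ Subgroup.center ↥(Cfsg.GU d F q)), orderOf g ≤ (p ^ (d - 2) + 1) * p) ∧ ∃ g : (↥(Cfsg.GU d F q) ⧸ Subgroup.center ↥(Cfsg.GU d F q)), orderOf g = (p ^ (d - 2) + 1) * p) ∧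
    (Even d → 2 < q → (∀ g : (↥(Cfsg.GU d F q) ⧸ Subgroup.center ↥(Cfsg.GU d F q)), orderOf g ≤ q ^ (d - 1) + 1) ∧ ∃ g : (↥(Cfsg.GU d F q) ⧸ Subgroup.center ↥(Cfsg.GU d F q)), orderOf g = q ^ (d - 1) + 1) ∧
    (Even d → q = 2 → (∀ g : (↥(Cfsg.GU d F q) ⧸ Subgroup.center ↥(Cfsg.GU d F q)), orderOf g ≤ 4 * (2 ^ (d - 3) + 1)) ∧ ∃ g : (↥(Cfsg.GU d F q) ⧸ Subgroup.center ↥(Cfsg.GU d F q)), orderOf g = 4 * (2 ^ (d - 3) + 1)) := by
  classical
  subst hq
  obtain ⟨σ, hσq, hσ, -⟩ := HermitianFactor.exists_conjugation hF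
  haveI : CharP F p := by
    obtain ⟨p', hp'⟩ := CharP.exists F
    obtain ⟨n, hn, hn'⟩ := FiniteField.card F p'
    rw [hF, ← pow_mul] at hn'
    have := (Nat.Prime.pow_inj' hp hn (by positivity) n.ne_zero hn').1
    exact this ▸ hp'
  generalize hq : p ^ f = q at hF h32 σ hσq ⊢
  replace hq := hq.symm
  have hp2 := hp.two_le
  have hq2 : 2 ≤ q := hq ▸ hp2.trans (Nat.le_self_pow (by omega) p)
  have hlarge : 4 ≤ q ^ (d - 1) :=
    le_trans (by norm_num) ((Nat.pow_le_pow_left hq2 2).trans (Nat.pow_le_pow_right (by omega) (by omega)))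
  have upper : ∀ T, q ^ (d - 1) - 1 ≤ T → (Even d → q ^ (d - 1) + 1 ≤ T) →
      (Odd d → q = p → p * (p ^ (d - 2) + 1) ≤ T) → (Even d → q = 2 → 4 * (2 ^ (d - 3) + 1) ≤ T) →
      ∀ g : (↥(Cfsg.GU d F q) ⧸ Subgroup.center ↥(Cfsg.GU d F q)), orderOf g ≤ T :=
    fun T h1 h2 h3 h4 g => PGUMatrix61.orderOf_le hp hf hq hF hd h32 T h1 h2 h3 h4 g
  refine ⟨fun hodd hf2 => ?_, fun hodd hf1 => ?_, fun heven hq3 => ?_, fun heven hq22 => ?_⟩
  · have hne : q ≠ p := fun e => by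
      have := Nat.pow_right_injective hp2 (show p ^ f = p ^ 1 by rw [← hq, e, pow_one])
      omega
    have hev : ¬ Even d := Nat.not_even_iff_odd.2 hodd
    refine ⟨upper _ le_rfl (fun h => absurd h hev) (fun _ e => absurd e hne) (fun h => absurd h hev), ?_⟩
    obtain ⟨m, rfl⟩ := hodd
    obtain ⟨A, H, h1, hA⟩ := PGUMatrix61.hyperbolic (σ := σ) hF hσ (show 0 < m by omega)
    obtain ⟨g, hg⟩ := PGUMatrix61.witness hF hσq hσ hq2 (d := 2 * m + 1) (by simp; omega) h1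
      (PGUMatrix61.one_block (σ := σ)).1 (u := 1) (Nat.coprime_one_right _) (by simp) (PGUMatrix61.one_block (σ := σ)).2
    exact ⟨g, by rw [hg, hA, mul_one, Nat.add_sub_cancel]⟩
  · have hqp : q = p := by rw [hq, hf1, pow_one]
    have hev : ¬ Even d := Nat.not_even_iff_odd.2 hodd
    have e1 : p ^ (d - 2) * p = q ^ (d - 1) := by rw [hqp, ← pow_succ]; congr 1; omega
    refine ⟨upper _ (by rw [add_mul, e1]; omega) (fun h => absurd h hev) (fun _ _ => (mul_comm _ _).le)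
      (fun h => absurd h hev), ?_⟩
    have hn : Odd (d - 2) := by
      obtain ⟨m, rfl⟩ := hodd
      exact ⟨m - 1, by omega⟩
    obtain ⟨A, H, h1, hA⟩ := PGUMatrix61.singer hF hσq hσ hn
    obtain ⟨B, J, h2, hB, hBk⟩ := PGUMatrix61.unipotent_two hF hσq hσ p
    obtain ⟨g, hg⟩ := PGUMatrix61.witness hF hσq hσ hq2 (d := d) (by simp; omega) h1 h2 (u := p)
      (by
        rw [hA, hqp, Nat.coprime_comm, hp.coprime_iff_not_dvd]
        intro h
        have := Nat.le_of_dvd one_pos ((Nat.dvd_add_right (dvd_pow_self p hn.pos.ne')).1 h)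
        omega) hB hBk
    exact ⟨g, by rw [hg, hA, hqp]⟩
  · have hodd : ¬ Odd d := Nat.not_odd_iff_even.2 heven
    refine ⟨upper _ (by omega) (fun _ => le_rfl) (fun h => absurd h hodd) (fun _ e => by omega), ?_⟩
    have hn : Odd (d - 1) := by
      obtain ⟨m, rfl⟩ := heven
      exact ⟨m - 1, by omega⟩
    obtain ⟨A, H, h1, hA⟩ := PGUMatrix61.singer hF hσq hσ hn
    obtain ⟨g, hg⟩ := PGUMatrix61.witness hF hσq hσ hq2 (d := d) (by simp; omega) h1
      (PGUMatrix61.one_block (σ := σ)).1 (u := 1) (Nat.coprime_one_right _) (by simp) (PGUMatrix61.one_block (σ := σ)).2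
    exact ⟨g, by rw [hg, hA, mul_one]⟩
  · have hodd : ¬ Odd d := Nat.not_odd_iff_even.2 heven
    have e1 : q ^ (d - 1) = 4 * 2 ^ (d - 3) := by
      rw [hq22, show d - 1 = 2 + (d - 3) by omega, pow_add]
      norm_num
    refine ⟨upper _ (by omega) (fun _ => by omega) (fun h => absurd h hodd) (fun _ _ => le_rfl), ?_⟩
    have hn : Odd (d - 3) := by
      obtain ⟨m, rfl⟩ := heven
      exact ⟨m - 2, by omega⟩
    obtain ⟨A, H, h1, hA⟩ := PGUMatrix61.singer hF hσq hσ hn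
    obtain ⟨B, J, h2, hB, hBk⟩ := PGUMatrix61.unipotent_three (σ := σ) (by rw [hF, hq22]; norm_num)
      (fun x => by rw [hσq, hq22])
    obtain ⟨g, hg⟩ := PGUMatrix61.witness hF hσq hσ hq2 (d := d) (by simp; omega) h1 h2 (u := 4)
      (by
        rw [hA, hq22, Nat.coprime_comm, show 4 = 2 ^ 2 by norm_num, Nat.coprime_pow_left_iff two_pos,
          Nat.prime_two.coprime_iff_not_dvd]
        intro h
        have := Nat.le_of_dvd one_pos ((Nat.dvd_add_right (dvd_pow_self 2 hn.pos.ne')).1 h)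
        omega) hB hBk
    exact ⟨g, by rw [hg, hA, hq22, mul_comm]⟩

end Cfsg.Agent.S2263
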