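import Cfsg.Statements.S2264
import Cfsg.Agent.Lib.ClassicalOrderBound69
-- import your own Cfsg.Agent.* helpers here

set_option autoImplicit false
open Cfsg

namespace Cfsg.Agent.S2264

/-- Let F be a finite field with q elements and m ≥ 2. Then every element g of PSp_2m(F) satisfies (q − 1)·|g| ≤ q^(m+1), i.e. has order at most q^(m+1)/(q − 1). -/
theorem result {F : Type*} [Field F] [Fintype F] (m : ℕ) (hm : 2 ≤ m) (g : Cfsg.PSp m F) :
    (Fintype.card F - 1) * orderOf g ≤ Fintype.card F ^ (m + 1) := by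

  classical
  obtain ⟨x, rfl⟩ := QuotientGroup.mk_surjective g
  set J := Matrix.J (Fin m) F with hJ
  have hT := SymplecticGroup.transpose_mem x.2
  rw [SymplecticGroup.mem_iff, Matrix.transpose_transpose] at hT
  have hJu : IsUnit (Matrix.J (Fin m) F) :=
    (Matrix.isUnit_iff_isUnit_det _).2 (Matrix.isUnit_det_J (Fin m) F)
  obtain ⟨N, hN, hbd, h⟩ := ClassicalOrderBound69.order_bound (m := m) hm (by simp; omega)
    (fun _ => by simp; omega) (x : Matrix (Fin m ⊕ Fin m) (Fin m ⊕ Fin m) F) _ hJu hT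
  refine le_trans (Nat.mul_le_mul_left _ (Nat.le_of_dvd hN (orderOf_dvd_of_pow_eq_one ?_))) hbd
  rw [← QuotientGroup.mk_pow, QuotientGroup.eq_one_iff]
  rcases h with h | ⟨-, h⟩
  · have : x ^ N = 1 := Subtype.ext (by rw [SubmonoidClass.coe_pow]; exact h)
    rw [this]; exact one_mem _
  · rw [Subgroup.mem_center_iff]
    intro y
    apply Subtype.ext
    show (y : Matrix (Fin m ⊕ Fin m) (Fin m ⊕ Fin m) F) * ((x ^ N : Matrix.symplecticGroup (Fin m) F) : Matrix (Fin m ⊕ Fin m) (Fin m ⊕ Fin m) F) = ((x ^ N : Matrix.symplecticGroup (Fin m) F) : Matrix (Fin m ⊕ Fin m) (Fin m ⊕ Fin m) F) * (y : Matrix (Fin m ⊕ Fin m) (Fin m ⊕ Fin m) F)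
    rw [SubmonoidClass.coe_pow, h]
    simp

end Cfsg.Agent.S2264
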