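import Cfsg.Statements.S2265
import Cfsg.Agent.Lib.ClassicalOrderBound69
-- import your own Cfsg.Agent.* helpers here

set_option autoImplicit false
open Cfsg

namespace Cfsg.Agent.S2265

open scoped Matrix

variable {F : Type*} [Field F]

/-- The Gram matrix of the polar form of the hyperbolic part. -/
def hyp (F : Type*) [Field F] (m : ℕ) : Matrix (Fin m ⊕ Fin m) (Fin m ⊕ Fin m) F :=
  Matrix.fromBlocks 0 1 1 0

theorem hyp_det (m : ℕ) : (hyp F m).det ≠ 0 := by
  have h : hyp F m * hyp F m = 1 := by simp [hyp, Matrix.fromBlocks_multiply]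
  intro e
  have := congrArg Matrix.det h
  simp [e] at this

theorem hyp_polar (m : ℕ) (u v : Fin m ⊕ Fin m → F) :
    u ⬝ᵥ (hyp F m *ᵥ v) = ∑ i, (u (.inl i) * v (.inr i) + u (.inr i) * v (.inl i)) := by
  simp [hyp, dotProduct, Fintype.sum_sum_type, Matrix.mulVec, Matrix.one_apply, Finset.sum_add_distrib]

theorem plus_polar (m : ℕ) (u v : Fin m ⊕ Fin m → F) :
    quadFormPlus m F (u + v) - quadFormPlus m F u - quadFormPlus m F v = u ⬝ᵥ (hyp F m *ᵥ v) := by
  simp only [quadFormPlus, hyp_polar, Pi.add_apply, ← Finset.sum_sub_distrib]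
  exact Finset.sum_congr rfl fun i _ => by ring

/-- Gram matrix of the minus form. -/
def gMinus (m : ℕ) (a b : F) : Matrix ((Fin m ⊕ Fin m) ⊕ Fin 2) ((Fin m ⊕ Fin m) ⊕ Fin 2) F :=
  Matrix.fromBlocks (hyp F m) 0 0 !![2, a; a, 2 * b]

theorem minus_polar (m : ℕ) (a b : F) (u v : (Fin m ⊕ Fin m) ⊕ Fin 2 → F) :
    quadFormMinus m F a b (u + v) - quadFormMinus m F a b u - quadFormMinus m F a b v =
      u ⬝ᵥ (gMinus m a b *ᵥ v) := by
  have h1 := plus_polar m (fun i => u (.inl i)) (fun i => v (.inl i))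
  have e : u ⬝ᵥ (gMinus m a b *ᵥ v) = (fun i => u (.inl i)) ⬝ᵥ (hyp F m *ᵥ fun i => v (.inl i)) +
      (fun i => u (.inr i)) ⬝ᵥ (!![2, a; a, 2 * b] *ᵥ fun i => v (.inr i)) := by
    simp [gMinus, dotProduct, Fintype.sum_sum_type, Matrix.mulVec]
  rw [e, ← h1]
  simp only [quadFormMinus, quadFormPlus, Pi.add_apply, dotProduct, Matrix.mulVec, Fin.sum_univ_two,
    Matrix.of_apply, Matrix.cons_val_zero, Matrix.cons_val_one]
  ring

/-- Gram matrix of the odd form. -/
def gOdd (F : Type*) [Field F] (m : ℕ) : Matrix (Unit ⊕ (Fin m ⊕ Fin m)) (Unit ⊕ (Fin m ⊕ Fin m)) F :=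
  Matrix.fromBlocks ((2 : F) • 1) 0 0 (hyp F m)

theorem odd_polar (m : ℕ) (u v : Unit ⊕ (Fin m ⊕ Fin m) → F) :
    quadFormOdd m F (u + v) - quadFormOdd m F u - quadFormOdd m F v = u ⬝ᵥ (gOdd F m *ᵥ v) := by
  have h1 := plus_polar m (fun i => u (.inr i)) (fun i => v (.inr i))
  have e : u ⬝ᵥ (gOdd F m *ᵥ v) = u (.inl ()) * (2 * v (.inl ())) +
      (fun i => u (.inr i)) ⬝ᵥ (hyp F m *ᵥ fun i => v (.inr i)) := by
    simp [gOdd, dotProduct, Fintype.sum_sum_type, Matrix.mulVec]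
  rw [e, ← h1]
  simp only [quadFormOdd, quadFormPlus, Pi.add_apply]
  ring

theorem omega_bound [Fintype F] {ι : Type} [Fintype ι] [DecidableEq ι] (Q : (ι → F) → F)
    (J : Matrix ι ι F) (hJ : ∀ u v, Q (u + v) - Q u - Q v = u ⬝ᵥ (J *ᵥ v)) (hd : J.det ≠ 0) {m : ℕ}
    (hm : 3 ≤ m) (hn : Fintype.card ι ≤ 2 * m + 1) (hn' : ringChar F = 2 → Fintype.card ι ≤ 2 * m)
    (g : POmega F Q) : (Fintype.card F - 1) * orderOf g ≤ Fintype.card F ^ (m + 1) := by
  obtain ⟨x, rfl⟩ := QuotientGroup.mk_surjective g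
  obtain ⟨y, hy⟩ := x
  have hA : ∀ u, Q (((y : GL ι F) : Matrix ι ι F) *ᵥ u) = Q u := fun u => y.2 u u
  obtain ⟨N, hN, hbd, h⟩ := ClassicalOrderBound69.order_bound (m := m) (by omega) hn
    (fun h => h.elim hn' (by omega)) _ J ((Matrix.isUnit_iff_isUnit_det J).2 (isUnit_iff_ne_zero.2 hd))
    (ClassicalOrderBound69.gram_preserved Q J hJ _ hA)
  refine le_trans (Nat.mul_le_mul_left _ (Nat.le_of_dvd hN (orderOf_dvd_of_pow_eq_one ?_))) hbd
  rcases h with h | ⟨h2, -⟩
  · rw [← QuotientGroup.mk_pow]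
    refine (QuotientGroup.eq_one_iff _).2 ?_
    have : (⟨y, hy⟩ : Omega F Q) ^ N = 1 := by
      apply Subtype.ext
      apply Subtype.ext
      apply Units.ext
      rw [SubmonoidClass.coe_pow, SubmonoidClass.coe_pow, Units.val_pow_eq_pow_val]
      exact h
    rw [this]; exact one_mem _
  · omega

theorem minus_det [Fintype F] (m : ℕ) (a b : F)
    (hab : ∀ z₁ z₂ : F, z₁ ^ 2 + a * z₁ * z₂ + b * z₂ ^ 2 = 0 → z₁ = 0 ∧ z₂ = 0) : (gMinus m a b).det ≠ 0 := by
  rw [gMinus, Matrix.det_fromBlocks_zero₁₂, Matrix.det_fin_two]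
  refine mul_ne_zero (hyp_det m) ?_
  simp only [Matrix.of_apply, Matrix.cons_val_zero, Matrix.cons_val_one]
  intro h
  by_cases h2 : (2 : F) = 0
  · have ha : a = 0 := by
      rw [h2] at h
      simpa using h
    have hc : ringChar F = 2 := by
      haveI := Fact.mk (CharP.char_is_prime F (ringChar F))
      have h3 : ((2 : ℕ) : F) = 0 := by simpa using h2
      rw [CharP.cast_eq_zero_iff F (ringChar F)] at h3
      exact (Nat.prime_dvd_prime_iff_eq Fact.out Nat.prime_two).1 h3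
    obtain ⟨r, hr⟩ := FiniteField.isSquare_of_char_two hc b
    have := (hab r 1 (by rw [ha, hr]; linear_combination r * r * h2)).2
    exact one_ne_zero this
  · have := (hab (-a / 2) 1 (by field_simp; linear_combination h)).2
    exact one_ne_zero this

/-- Let F be a finite field with q elements. Every element g of PΩ_(2m+1)(F) (m ≥ 3, q odd), of PΩ⁺_2m(F) (m ≥ 4), or of PΩ⁻_2m(F) (m ≥ 4, the form having an anisotropic binary part) satisfies (q − 1)·|g| ≤ q^(m+1), i.e. has order at most q^(m+1)/(q − 1). -/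
theorem result {F : Type*} [Field F] [Fintype F] (m : ℕ) :
    (3 ≤ m → Odd (Fintype.card F) → ∀ g : Cfsg.POmega F (Cfsg.quadFormOdd m F),
      (Fintype.card F - 1) * orderOf g ≤ Fintype.card F ^ (m + 1)) ∧
    (4 ≤ m → ∀ g : Cfsg.POmega F (Cfsg.quadFormPlus m F),
      (Fintype.card F - 1) * orderOf g ≤ Fintype.card F ^ (m + 1)) ∧
    (4 ≤ m → ∀ a b : F, (∀ z₁ z₂ : F, z₁ ^ 2 + a * z₁ * z₂ + b * z₂ ^ 2 = 0 → z₁ = 0 ∧ z₂ = 0) →
      ∀ g : Cfsg.POmega F (Cfsg.quadFormMinus (m - 1) F a b),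
      (Fintype.card F - 1) * orderOf g ≤ Fintype.card F ^ (m + 1)) := by

  refine ⟨fun hm hodd g => ?_, fun hm g => ?_, fun hm a b hab g => ?_⟩
  · have h2 : ringChar F ≠ 2 := by
      intro h
      rw [FiniteField.even_card_iff_char_two] at h
      exact (Nat.odd_iff.1 hodd).symm.trans_ne (by omega) rfl
    have h2' : (2 : F) ≠ 0 := Ring.two_ne_zero h2
    refine omega_bound _ (gOdd F m) (odd_polar m) ?_ hm (by simp; omega) (fun h => absurd h h2) g
    rw [gOdd, Matrix.det_fromBlocks_zero₁₂]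
    exact mul_ne_zero (by simp [h2']) (hyp_det m)
  · exact omega_bound _ (hyp F m) (plus_polar m) (hyp_det m) (by omega) (by simp; omega)
      (fun _ => by simp; omega) g
  · exact omega_bound _ (gMinus (m - 1) a b) (minus_polar (m - 1) a b) (minus_det _ a b hab) (by omega)
      (by simp; omega) (fun _ => by simp; omega) g

end Cfsg.Agent.S2265
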