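import Cfsg.Statements.S2268
import Mathlib


set_option autoImplicit false
open Cfsg

namespace Cfsg.Agent.S2268

/-- Let G be a finite group with an abelian Sylow p-subgroup P and let Q ≤ P. Then N_G(Q) = (N_G(Q) ∩ N_G(P))·C_G(Q), so that N_G(Q)/C_G(Q) is a homomorphic image of the subgroup (N_G(Q) ∩ N_G(P))/C_G(P) of N_G(P)/C_G(P); in particular the order of N_G(Q)/C_G(Q) divides the order of N_G(P)/C_G(P). -/
theorem result {G : Type*} [Group G] [Finite G] {p : ℕ} [Fact p.Prime]
    (P : Sylow p G) (hP : IsMulCommutative (P : Subgroup G)) (Q : Subgroup G) (hQ : Q ≤ (P : Subgroup G)) :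
    Subgroup.normalizer (Q : Set G) =
      (Subgroup.normalizer (Q : Set G) ⊓ Subgroup.normalizer ((P : Subgroup G) : Set G)) ⊔ Subgroup.centralizer (Q : Set G) ∧
    ((Subgroup.centralizer (Q : Set G)).subgroupOf (Subgroup.normalizer (Q : Set G))).index ∣ ((Subgroup.centralizer ((P : Subgroup G) : Set G)).subgroupOf (Subgroup.normalizer ((P : Subgroup G) : Set G))).index := by
  set N : Subgroup G := Subgroup.normalizer (Q : Set G) with hN
  set M : Subgroup G := Subgroup.normalizer ((P : Subgroup G) : Set G) with hM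
  set C : Subgroup G := Subgroup.centralizer (Q : Set G) with hC
  set D : Subgroup G := Subgroup.centralizer ((P : Subgroup G) : Set G) with hD
  have hCN : C ≤ N := Subgroup.centralizer_le_normalizer _
  have hDC : D ≤ C := Subgroup.centralizer_le (by exact hQ)
  have hDM : D ≤ M := Subgroup.centralizer_le_normalizer _
  have hPD : (P : Subgroup G) ≤ D := by
    intro x hx
    rw [hD, Subgroup.mem_centralizer_iff]
    intro y hy
    exact congrArg Subtype.val (hP.is_comm.comm ⟨y, hy⟩ ⟨x, hx⟩)
  have hPC : (P : Subgroup G) ≤ C := hPD.trans hDC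
  have hCn : (C.subgroupOf N).Normal := by rw [hC, hN]; infer_instance
  have hPN : (P : Subgroup G) ≤ N := hPC.trans hCN
  have hsup : N = (N ⊓ M) ⊔ C := by
    refine le_antisymm ?_ (sup_le inf_le_left hCN)
    have h1 := Sylow.normalizer_sup_eq_top' (N := C.subgroupOf N) (P.subtype hPN) (fun x hx => hPC hx)
    change Subgroup.normalizer (((P : Subgroup G).subgroupOf N : Subgroup N) : Set N) ⊔ C.subgroupOf N = ⊤ at h1
    rw [← Subgroup.subgroupOf_normalizer_eq hPN] at h1
    have h2 := congrArg (Subgroup.map N.subtype) h1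
    rw [Subgroup.map_sup, Subgroup.subgroupOf_map_subtype, Subgroup.subgroupOf_map_subtype,
      ← MonoidHom.range_eq_map, Subgroup.range_subtype] at h2
    calc N = (M ⊓ N) ⊔ (C ⊓ N) := h2.symm
      _ ≤ (N ⊓ M) ⊔ C := sup_le_sup (le_of_eq (inf_comm _ _)) inf_le_left
  refine ⟨hsup, ?_⟩
  have hDn : (D.subgroupOf M).Normal := by rw [hD, hM]; infer_instance
  have e1 : C.relIndex N = C.relIndex (N ⊓ M) := by
    have htop : (N ⊓ M).subgroupOf N ⊔ C.subgroupOf N = ⊤ := by
      rw [← Subgroup.subgroupOf_sup inf_le_left hCN, ← hsup, Subgroup.subgroupOf_self]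
    calc C.relIndex N = (C.subgroupOf N).relIndex ((N ⊓ M).subgroupOf N ⊔ C.subgroupOf N) := by
          rw [htop, Subgroup.relIndex_top_right]; rfl
      _ = (C.subgroupOf N).relIndex ((N ⊓ M).subgroupOf N) := by rw [Subgroup.relIndex_sup_right]
      _ = C.relIndex (N ⊓ M) := Subgroup.relIndex_subgroupOf inf_le_left
  have e2 : C.relIndex (N ⊓ M) ∣ D.relIndex (N ⊓ M) := Subgroup.relIndex_dvd_of_le_left _ hDC
  have e3 : D.relIndex (N ⊓ M) ∣ D.relIndex M := by
    show (D.subgroupOf (N ⊓ M)).index ∣ (D.subgroupOf M).index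
    have := Subgroup.relIndex_dvd_index_of_normal (H := D.subgroupOf M) ((N ⊓ M).subgroupOf M)
    rwa [Subgroup.relIndex_subgroupOf inf_le_right] at this
  have := e2.trans e3
  rw [← e1] at this
  exact this

end Cfsg.Agent.S2268
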