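import Cfsg.Statements.S2269
import Cfsg.Agent.Lib.AbelianSylowInversion

set_option autoImplicit false
open Cfsg

set_option maxRecDepth 100000

namespace Cfsg.Agent.S2269

theorem odd_case {n : ℕ} {p : ℕ} [hpf : Fact p.Prime] (hp : p ≠ 2)
    (P : Sylow p (alternatingGroup (Fin n))) (hP : IsMulCommutative (P : Subgroup (alternatingGroup (Fin n)))) :
    2 ∣ ((Subgroup.centralizer ((P : Subgroup (alternatingGroup (Fin n))) : Set (alternatingGroup (Fin n)))).subgroupOf (Subgroup.normalizer ((P : Subgroup (alternatingGroup (Fin n))) : Set (alternatingGroup (Fin n))))).index ∨ IsCyclic (P : Subgroup (alternatingGroup (Fin n))) := by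
  classical
  set P₀ : Subgroup (alternatingGroup (Fin n)) := (P : Subgroup (alternatingGroup (Fin n))) with hP₀
  set Q : Subgroup (Equiv.Perm (Fin n)) := P₀.map (alternatingGroup (Fin n)).subtype with hQ
  let eQ : P₀ ≃* Q := P₀.equivMapOfInjective _ (alternatingGroup (Fin n)).subtype_injective
  have hab : ∀ a ∈ Q, ∀ b ∈ Q, a * b = b * a := by
    rintro _ ⟨a, ha, rfl⟩ _ ⟨b, hb, rfl⟩
    rw [← map_mul, ← map_mul]
    exact congrArg (alternatingGroup (Fin n)).subtype (congrArg Subtype.val (hP.is_comm.comm ⟨a, ha⟩ ⟨b, hb⟩))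
  have hQp : IsPGroup p Q := P.isPGroup'.map _
  have hmax : ∀ R : Subgroup (Equiv.Perm (Fin n)), IsPGroup p R → Q ≤ R → R = Q := by
    intro R hR hle
    have hRA : R ≤ (alternatingGroup (Fin n)) := by
      intro g hg
      obtain ⟨k, hk⟩ := hR ⟨g, hg⟩
      have hk' : g ^ p ^ k = 1 := congrArg Subtype.val hk
      rw [Equiv.Perm.mem_alternatingGroup]
      have e := congrArg Equiv.Perm.sign hk'
      rw [map_pow, map_one] at e
      rcases Int.units_eq_one_or (Equiv.Perm.sign g) with h | h
      · exact h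
      · rw [h, ((hpf.out.odd_of_ne_two hp).pow).neg_one_pow] at e
        exact absurd e (by decide)
    have h1 : P₀ ≤ R.subgroupOf (alternatingGroup (Fin n)) := fun a ha => hle ⟨a, ha, rfl⟩
    have h2 : IsPGroup p (R.subgroupOf (alternatingGroup (Fin n))) := hR.comap_of_injective (alternatingGroup (Fin n)).subtype (alternatingGroup (Fin n)).subtype_injective
    have h3 := P.is_maximal' h2 h1
    rw [hQ, hP₀, ← h3, Subgroup.subgroupOf_map_subtype, inf_eq_left.2 hRA]
  by_cases hsplit : ∃ x y, (∃ a ∈ Q, a x ≠ x) ∧ (∃ b ∈ Q, b y ≠ y) ∧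
      AbelianSylowInversion.rep Q x ≠ AbelianSylowInversion.rep Q y
  · left
    obtain ⟨x, y, ⟨a, ha, hax⟩, ⟨b, hb, hby⟩, hxy⟩ := hsplit
    set σ := AbelianSylowInversion.tau Q hab
    have main : ∀ (S : Set (Fin n)) (c : Equiv.Perm (Fin n)) (z : Fin n),
        Equiv.Perm.sign (σ S) = 1 → c ∈ Q → c z ≠ z → AbelianSylowInversion.rep Q z ∈ S →
        2 ∣ ((Subgroup.centralizer (P₀ : Set (alternatingGroup (Fin n)))).subgroupOf (Subgroup.normalizer (P₀ : Set (alternatingGroup (Fin n))))).index := by
      intro S c z hs hc hcz hz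
      let τ : (alternatingGroup (Fin n)) := ⟨σ S, hs⟩
      have hmem : ∀ u : (alternatingGroup (Fin n)), u ∈ P₀ ↔ (u : Equiv.Perm (Fin n)) ∈ Q := fun u =>
        ⟨fun h => ⟨u, h, rfl⟩, fun ⟨v, hv, e⟩ => (Subtype.ext e : v = u) ▸ hv⟩
      refine AbelianSylowInversion.two_dvd_index P₀ (τ := τ) ?_ ?_
        (Subtype.ext (AbelianSylowInversion.tau_sq Q hab S))
      · rw [Subgroup.mem_normalizer_iff]
        intro u
        rw [hmem, hmem]
        exact Subgroup.mem_normalizer_iff.1
          (AbelianSylowInversion.tau_mem_normalizer Q hab hp hQp hmax S) _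
      · intro hC
        obtain ⟨c', hc', rfl⟩ := hc
        exact AbelianSylowInversion.not_commute_tau Q hab hp hQp S (a := ⟨_, ⟨c', hc', rfl⟩⟩)
          hz hcz (congrArg Subtype.val (Subgroup.mem_centralizer_iff.1 hC c' hc')).symm
    set S : Set (Fin n) := {AbelianSylowInversion.rep Q x}
    rcases Int.units_eq_one_or (Equiv.Perm.sign (σ Set.univ)) with h | h
    · exact main _ a x h ha hax (Set.mem_univ _)
    rcases Int.units_eq_one_or (Equiv.Perm.sign (σ S)) with h' | h'
    · exact main _ a x h' ha hax rfl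
    refine main Sᶜ b y ?_ hb hby (fun e => hxy e.symm)
    have e := AbelianSylowInversion.tau_mul_compl Q hab S
    have e' := congrArg Equiv.Perm.sign e
    rw [map_mul, h, h'] at e'
    exact (mul_eq_left.1 e'.symm)
  · right
    haveI : IsMulCommutative P₀ := hP
    obtain ⟨e, he⟩ := IsPGroup.iff_card.1 hQp
    have hcard : Nat.card P₀ = p ^ e := (Nat.card_congr eQ.toEquiv).trans he
    suffices e ≤ 1 by
      rcases Nat.le_one_iff_eq_zero_or_eq_one.1 this with h | h
      · rw [h, pow_zero, Nat.card_eq_one_iff_unique] at hcard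
        haveI := hcard.1
        infer_instance
      · rw [h, pow_one] at hcard
        exact isCyclic_of_prime_card hcard
    by_contra he1
    obtain ⟨a, ha, ha1⟩ : ∃ a ∈ Q, a ≠ 1 := by
      by_contra h
      push_neg at h
      rw [(Subgroup.eq_bot_iff_forall _).2 h, Subgroup.card_bot] at he
      have := Nat.one_lt_pow (show e ≠ 0 by omega) hpf.out.one_lt
      omega
    obtain ⟨x, hx⟩ : ∃ x, a x ≠ x := by
      by_contra h
      push_neg at h
      exact ha1 (Equiv.ext h)
    push_neg at hsplit
    have hinj : Function.Injective fun c : Q => (c : Equiv.Perm (Fin n)) x := by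
      intro c d hcd
      apply Subtype.ext
      apply Equiv.ext
      intro z
      by_cases hz : ∃ b ∈ Q, b z ≠ z
      · obtain ⟨g, hg, hgx⟩ := AbelianSylowInversion.rep_spec Q x
        obtain ⟨k, hk, hkz⟩ := AbelianSylowInversion.rep_spec Q z
        rw [← hsplit x z ⟨a, ha, hx⟩ hz] at hkz
        have hw : z = (k * g⁻¹) x := by
          rw [Equiv.Perm.mul_apply]
          conv_lhs => rw [← hkz]
          congr 1
          rw [Equiv.Perm.eq_inv_iff_eq]; exact hgx
        have hkg : k * g⁻¹ ∈ Q := mul_mem hk (inv_mem hg)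
        rw [hw, ← Equiv.Perm.mul_apply, hab _ c.2 _ hkg, ← Equiv.Perm.mul_apply,
          hab _ d.2 _ hkg, Equiv.Perm.mul_apply, Equiv.Perm.mul_apply]
        exact congrArg (fun u => k (g⁻¹ u)) hcd
      · push_neg at hz
        rw [hz _ c.2, hz _ d.2]
    have hle : p ^ e ≤ n := by
      have := Nat.card_le_card_of_injective _ hinj
      rwa [he, Nat.card_fin] at this
    have h2 : p ^ (e + 1) ∣ Nat.factorial n := by
      refine dvd_trans ?_ (Nat.factorial_dvd_factorial hle)
      have hpos : 0 < p ^ e := pow_pos hpf.out.pos e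
      rw [pow_succ, ← Nat.mul_factorial_pred hpos.ne']
      refine mul_dvd_mul_left _ (hpf.out.dvd_factorial.2 ?_)
      have : p * p ≤ p ^ e := by
        rw [← sq]; exact Nat.pow_le_pow_right hpf.out.pos (by omega)
      have h2p : 2 * p ≤ p * p := Nat.mul_le_mul_right p hpf.out.two_le
      have := hpf.out.two_le
      omega
    obtain ⟨R, hR⟩ := hQp.exists_le_sylow
    have hRQ := hmax R R.isPGroup' hR
    have hc := R.card_eq_multiplicity
    rw [hRQ, he] at hc
    have h3 := Nat.pow_right_injective hpf.out.two_le hc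
    rw [Nat.card_perm, Nat.card_fin] at h3
    have h4 := (hpf.out.pow_dvd_iff_le_factorization (Nat.factorial_ne_zero n)).1 h2
    omega

theorem sylow_two_not_comm {n : ℕ} (hn : 6 ≤ n) (P : Sylow 2 (alternatingGroup (Fin n))) :
    ¬ IsMulCommutative (P : Subgroup (alternatingGroup (Fin n))) := by
  classical
  intro hP
  let a6 : Equiv.Perm (Fin 6) := Equiv.swap 0 3 * Equiv.swap 0 2 * Equiv.swap 0 1 * Equiv.swap 4 5
  let b6 : Equiv.Perm (Fin 6) := Equiv.swap 0 2 * Equiv.swap 4 5
  let l : List (Equiv.Perm (Fin 6)) :=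
    [1, a6, a6 * a6, a6 * a6 * a6, b6, a6 * b6, a6 * a6 * b6, a6 * a6 * a6 * b6]
  have hmul : ∀ g ∈ l, ∀ h ∈ l, g * h ∈ l := by decide
  have hinvl : ∀ g ∈ l, g⁻¹ ∈ l := by decide
  let D : Subgroup (Equiv.Perm (Fin 6)) :=
    { carrier := {g | g ∈ l}
      mul_mem' := fun {g h} hg hh => hmul g hg h hh
      one_mem' := List.mem_cons_self
      inv_mem' := fun {g} hg => hinvl g hg }
  have hD : IsPGroup 2 D := by
    intro g
    have : ∀ h ∈ l, h ^ 4 = 1 := by decide
    exact ⟨2, Subtype.ext (this g.1 g.2)⟩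
  have hsgn : ∀ g ∈ l, Equiv.Perm.sign g = 1 := by decide
  let f : Fin 6 ≃ {x : Fin n // x.val < 6} :=
    { toFun := fun i => ⟨⟨i.val, by omega⟩, i.isLt⟩
      invFun := fun x => ⟨x.1.val, x.2⟩
      left_inv := fun i => rfl
      right_inv := fun x => rfl }
  let φ : D →* alternatingGroup (Fin n) :=
    ((Equiv.Perm.extendDomainHom f).comp D.subtype).codRestrict _ (fun g => by
      show Equiv.Perm.sign (Equiv.Perm.extendDomain g.1 f) = 1
      rw [Equiv.Perm.sign_extendDomain]
      exact hsgn g.1 g.2)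
  have hφ : Function.Injective φ := fun g h e =>
    Subtype.ext (Equiv.Perm.extendDomainHom_injective f (congrArg Subtype.val e))
  have hr : IsPGroup 2 φ.range := hD.of_surjective φ.rangeRestrict φ.rangeRestrict_surjective
  obtain ⟨R, hR⟩ := hr.exists_le_sylow
  have ec : (R : Subgroup (alternatingGroup (Fin n))) ≃* (P : Subgroup (alternatingGroup (Fin n))) :=
    Sylow.equiv R P
  let a : D := ⟨a6, List.mem_cons_of_mem _ List.mem_cons_self⟩
  let b : D := ⟨b6, show b6 ∈ l by decide⟩
  have h := hP.is_comm.comm (ec ⟨φ a, hR ⟨a, rfl⟩⟩) (ec ⟨φ b, hR ⟨b, rfl⟩⟩)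
  rw [← map_mul, ← map_mul] at h
  have h' := congrArg Subtype.val (ec.injective h)
  simp only [Subgroup.coe_mul] at h'
  rw [← map_mul, ← map_mul] at h'
  have h'' : a6 * b6 = b6 * a6 := congrArg Subtype.val (hφ h')
  revert h''
  decide

theorem alt_five (P : Sylow 2 (alternatingGroup (Fin 5))) :
    ((Subgroup.centralizer ((P : Subgroup (alternatingGroup (Fin 5))) : Set (alternatingGroup (Fin 5)))).subgroupOf (Subgroup.normalizer ((P : Subgroup (alternatingGroup (Fin 5))) : Set (alternatingGroup (Fin 5))))).index = 3 ∧ IsKleinFour (P : Subgroup (alternatingGroup (Fin 5))) := by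
  classical
  let l : List (Equiv.Perm (Fin 5)) := [1, Equiv.swap 0 1 * Equiv.swap 2 3,
    Equiv.swap 0 2 * Equiv.swap 1 3, Equiv.swap 0 3 * Equiv.swap 1 2]
  have hmul : ∀ g ∈ l, ∀ h ∈ l, g * h ∈ l := by decide
  have hinvl : ∀ g ∈ l, g⁻¹ ∈ l := by decide
  let V : Subgroup (alternatingGroup (Fin 5)) :=
    { carrier := {g | (g : Equiv.Perm (Fin 5)) ∈ l}
      mul_mem' := fun {g h} hg hh => hmul g.1 hg h.1 hh
      one_mem' := List.mem_cons_self
      inv_mem' := fun {g} hg => hinvl g.1 hg }
  have hV : Nat.card V = 4 := by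
    rw [show Nat.card V = Nat.card {g : (alternatingGroup (Fin 5)) // (g : Equiv.Perm (Fin 5)) ∈ l} from rfl,
      Nat.card_eq_fintype_card]
    decide
  have hAc : Nat.card (alternatingGroup (Fin 5)) = 60 := by
    rw [Nat.card_eq_fintype_card]
    decide
  have hVp : IsPGroup 2 V := IsPGroup.iff_card.2 ⟨2, hV⟩
  obtain ⟨R, hR⟩ := hVp.exists_le_sylow
  have hRc : Nat.card (R : Subgroup (alternatingGroup (Fin 5))) = 4 := by
    rw [R.card_eq_multiplicity, hAc]
    decide +kernel
  have hRV : (R : Subgroup (alternatingGroup (Fin 5))) = V := (Subgroup.eq_of_le_of_card_ge hR (by omega)).symm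
  obtain ⟨g, hg⟩ := MulAction.exists_smul_eq (alternatingGroup (Fin 5)) R P
  have hPV : (P : Subgroup (alternatingGroup (Fin 5))) = V.map (MulAut.conj g).toMonoidHom := by
    rw [← hg, ← hRV]; rfl
  constructor
  · have hN : Subgroup.normalizer ((P : Subgroup (alternatingGroup (Fin 5))) : Set (alternatingGroup (Fin 5))) =
        (Subgroup.normalizer (V : Set (alternatingGroup (Fin 5)))).map (MulAut.conj g).toMonoidHom := by
      rw [hPV, Subgroup.map_normalizer_eq_of_bijective _ (MulAut.conj g).bijective]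
    have hC : Subgroup.centralizer ((P : Subgroup (alternatingGroup (Fin 5))) : Set (alternatingGroup (Fin 5))) =
        (Subgroup.centralizer (V : Set (alternatingGroup (Fin 5)))).map (MulAut.conj g).toMonoidHom := by
      rw [hPV]
      ext x
      rw [Subgroup.mem_centralizer_iff, Subgroup.mem_map_equiv, Subgroup.mem_centralizer_iff]
      constructor
      · intro h v hv
        have h1 := congrArg (MulAut.conj g).symm (h ((MulAut.conj g) v) ⟨v, hv, rfl⟩)
        simp only [map_mul, MulEquiv.symm_apply_apply] at h1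
        exact h1
      · rintro h _ ⟨v, hv, rfl⟩
        apply (MulAut.conj g).symm.injective
        simp only [map_mul, MulEquiv.coe_toMonoidHom, MulEquiv.symm_apply_apply]
        exact h v hv
    rw [hN, hC]
    show Subgroup.relIndex _ _ = 3
    rw [Subgroup.relIndex_map_map_of_injective (H := Subgroup.centralizer (V : Set (alternatingGroup (Fin 5)))) (K := Subgroup.normalizer (V : Set (alternatingGroup (Fin 5)))) (f := (MulAut.conj g).toMonoidHom) (MulAut.conj g).injective]
    have hNc : Nat.card (Subgroup.normalizer (V : Set (alternatingGroup (Fin 5)))) = 12 := by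
      have e : ∀ x : (alternatingGroup (Fin 5)), x ∈ Subgroup.normalizer (V : Set (alternatingGroup (Fin 5))) ↔
          ∀ v ∈ l, (x : Equiv.Perm (Fin 5)) * v * (x : Equiv.Perm (Fin 5))⁻¹ ∈ l := by
        intro x
        have hl : ∀ v ∈ l, Equiv.Perm.sign v = 1 := by decide
        constructor
        · intro hx v hv
          exact (Subgroup.mem_normalizer_iff.1 hx ⟨v, hl v hv⟩).1 hv
        · intro hx
          refine Subgroup.mem_normalizer_fintype (S := (V : Set (alternatingGroup (Fin 5)))) ?_
          exact fun v hv => hx v.1 hv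
      rw [show Nat.card (Subgroup.normalizer (V : Set (alternatingGroup (Fin 5)))) = Nat.card {x : (alternatingGroup (Fin 5)) //
        ∀ v ∈ l, (x : Equiv.Perm (Fin 5)) * v * (x : Equiv.Perm (Fin 5))⁻¹ ∈ l} from
        Nat.card_congr (Equiv.subtypeEquivRight e), Nat.card_eq_fintype_card]
      decide +kernel
    have hCc : Nat.card (Subgroup.centralizer (V : Set (alternatingGroup (Fin 5)))) = 4 := by
      have e : ∀ x : (alternatingGroup (Fin 5)), x ∈ Subgroup.centralizer (V : Set (alternatingGroup (Fin 5))) ↔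
          ∀ v ∈ l, v * (x : Equiv.Perm (Fin 5)) = (x : Equiv.Perm (Fin 5)) * v := by
        intro x
        have hl : ∀ v ∈ l, Equiv.Perm.sign v = 1 := by decide
        rw [Subgroup.mem_centralizer_iff]
        constructor
        · intro hx v hv
          exact congrArg Subtype.val (hx ⟨v, hl v hv⟩ hv)
        · intro hx v hv
          exact Subtype.ext (hx v.1 hv)
      rw [show Nat.card (Subgroup.centralizer (V : Set (alternatingGroup (Fin 5)))) = Nat.card {x : (alternatingGroup (Fin 5)) //
        ∀ v ∈ l, v * (x : Equiv.Perm (Fin 5)) = (x : Equiv.Perm (Fin 5)) * v} from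
        Nat.card_congr (Equiv.subtypeEquivRight e), Nat.card_eq_fintype_card]
      decide +kernel
    have hle : Subgroup.centralizer (V : Set (alternatingGroup (Fin 5))) ≤ Subgroup.normalizer (V : Set (alternatingGroup (Fin 5))) := by
      intro x hx
      rw [Subgroup.mem_centralizer_iff] at hx
      refine Subgroup.mem_normalizer_fintype (S := (V : Set (alternatingGroup (Fin 5)))) ?_
      intro v hv
      show x * v * x⁻¹ ∈ V
      rw [← hx v hv, mul_inv_cancel_right]
      exact hv
    have h := Subgroup.card_mul_index ((Subgroup.centralizer (V : Set (alternatingGroup (Fin 5)))).subgroupOf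
      (Subgroup.normalizer (V : Set (alternatingGroup (Fin 5)))))
    rw [Nat.card_congr (Subgroup.subgroupOfEquivOfLe hle).toEquiv, hCc, hNc] at h
    show ((Subgroup.centralizer (V : Set (alternatingGroup (Fin 5)))).subgroupOf (Subgroup.normalizer (V : Set (alternatingGroup (Fin 5))))).index = 3
    omega
  · have hPc : Nat.card (P : Subgroup (alternatingGroup (Fin 5))) = 4 := by
      rw [hPV, Subgroup.card_map_of_injective (MulAut.conj g).injective, hV]
    have h4 : ∀ x : Equiv.Perm (Fin 5), Equiv.Perm.sign x = 1 → x ^ 4 = 1 → x ^ 2 = 1 := by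
      decide +kernel
    have hsq : ∀ x : (P : Subgroup (alternatingGroup (Fin 5))), x ^ 2 = 1 := by
      intro x
      have hx : x ^ 4 = 1 := hPc ▸ pow_card_eq_one'
      apply Subtype.ext
      apply Subtype.ext
      exact h4 _ x.1.2 (congrArg (fun z : (P : Subgroup (alternatingGroup (Fin 5))) => ((z : (alternatingGroup (Fin 5))) : Equiv.Perm (Fin 5))) hx)
    refine ⟨hPc, ?_⟩
    apply Nat.dvd_antisymm (Monoid.exponent_dvd_of_forall_pow_eq_one hsq)
    rcases (Nat.dvd_prime Nat.prime_two).1 (Monoid.exponent_dvd_of_forall_pow_eq_one hsq) with h | h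
    · exfalso
      have := Monoid.exp_eq_one_iff.1 h
      rw [Nat.card_eq_one_iff_unique.2 ⟨this, inferInstance⟩] at hPc
      omega
    · rw [h]

/-- Let n ≥ 5 and let P be an abelian Sylow p-subgroup of the alternating group A_n. Then N(P)/C(P) (taken in A_n) has even order, or P is cyclic, except when n = 5 and p = 2, where P is a four-group and N(P)/C(P) has order 3. -/
theorem result (n : ℕ) (hn : 5 ≤ n) {p : ℕ} [Fact p.Prime]
    (P : Sylow p (alternatingGroup (Fin n))) (hP : IsMulCommutative (P : Subgroup (alternatingGroup (Fin n)))) :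
    (¬ (n = 5 ∧ p = 2) → 2 ∣ ((Subgroup.centralizer ((P : Subgroup (alternatingGroup (Fin n))) : Set (alternatingGroup (Fin n)))).subgroupOf (Subgroup.normalizer ((P : Subgroup (alternatingGroup (Fin n))) : Set (alternatingGroup (Fin n))))).index ∨ IsCyclic (P : Subgroup (alternatingGroup (Fin n)))) ∧
    ((n = 5 ∧ p = 2) → ((Subgroup.centralizer ((P : Subgroup (alternatingGroup (Fin n))) : Set (alternatingGroup (Fin n)))).subgroupOf (Subgroup.normalizer ((P : Subgroup (alternatingGroup (Fin n))) : Set (alternatingGroup (Fin n))))).index = 3 ∧ IsKleinFour (P : Subgroup (alternatingGroup (Fin n)))) := by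
  have hodd : p ≠ 2 → _ := fun h => odd_case h P hP
  constructor
  · intro h5
    by_cases hp : p = 2
    · subst hp
      exact absurd hP (sylow_two_not_comm (by omega) P)
    · exact hodd hp
  · rintro ⟨rfl, rfl⟩
    exact alt_five P

end Cfsg.Agent.S2269
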