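import Cfsg.Statements.S2270
import Cfsg.Agent.Lib.AbelianSylowInversion

set_option autoImplicit false
open Cfsg

namespace Cfsg.Agent.S2270

/-- Let n ≥ 3, p an odd prime, and P an abelian Sylow p-subgroup of the symmetric group S_n (with p dividing n!, so that P ≠ 1). Then N(P)/C(P) has even order. -/
theorem result (n : ℕ) (hn : 3 ≤ n) {p : ℕ} [Fact p.Prime] (hp : p ≠ 2) (hpn : p ≤ n)
    (P : Sylow p (Equiv.Perm (Fin n))) (hP : IsMulCommutative (P : Subgroup (Equiv.Perm (Fin n)))) :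
    2 ∣ ((Subgroup.centralizer ((P : Subgroup (Equiv.Perm (Fin n))) : Set (Equiv.Perm (Fin n)))).subgroupOf (Subgroup.normalizer ((P : Subgroup (Equiv.Perm (Fin n))) : Set (Equiv.Perm (Fin n))))).index := by
  set Q : Subgroup (Equiv.Perm (Fin n)) := (P : Subgroup (Equiv.Perm (Fin n))) with hQ
  have hab : ∀ a ∈ Q, ∀ b ∈ Q, a * b = b * a := fun a ha b hb =>
    congrArg Subtype.val (hP.is_comm.comm ⟨a, ha⟩ ⟨b, hb⟩)
  have hmax : ∀ R : Subgroup (Equiv.Perm (Fin n)), IsPGroup p R → Q ≤ R → R = Q :=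
    fun R hR hle => P.is_maximal' hR hle
  obtain ⟨a, ha, ha1⟩ : ∃ a ∈ Q, a ≠ 1 := by
    by_contra h
    push_neg at h
    have hb : Q = ⊥ := (Subgroup.eq_bot_iff_forall _).2 h
    have hd : p ∣ Nat.card (Equiv.Perm (Fin n)) := by
      rw [Nat.card_perm, Nat.card_fin]
      exact (Fact.out : p.Prime).dvd_factorial.2 hpn
    exact P.ne_bot_of_dvd_card hd hb
  obtain ⟨x, hx⟩ : ∃ x, a x ≠ x := by
    by_contra h
    push_neg at h
    exact ha1 (Equiv.ext h)
  refine AbelianSylowInversion.two_dvd_index Q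
    (AbelianSylowInversion.tau_mem_normalizer Q hab hp P.isPGroup' hmax Set.univ) ?_
    (AbelianSylowInversion.tau_sq Q hab Set.univ)
  intro hC
  exact AbelianSylowInversion.not_commute_tau Q hab hp P.isPGroup' Set.univ
    (a := ⟨a, ha⟩) (Set.mem_univ _) hx ((Subgroup.mem_centralizer_iff.1 hC a ha).symm)

end Cfsg.Agent.S2270
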