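import Cfsg.Statements.S2271


set_option autoImplicit false
open Cfsg

namespace Cfsg.Agent.S2271
open Equiv

variable {n : ℕ}

def agree (c b s : Perm (Fin n)) : ℤ := ∑ x, if c (s x) = s (b x) then 1 else 0

def W (p : Perm (Fin n)) (i j k l : Fin n) : ℤ :=
  (if p i = k then 1 else 0) - (if p i = l then 1 else 0) - (if p j = k then 1 else 0)
    + (if p j = l then 1 else 0)

def dlt (i y : Fin n) : ℤ := if y = i then 1 else 0

theorem second_difference (c b s : Perm (Fin n)) (i j k l : Fin n)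
    (hij : i ≠ j) (hik : i ≠ k) (hil : i ≠ l) (hjk : j ≠ k) (hjl : j ≠ l) (hkl : k ≠ l) :
    agree c b s - agree c b (s * swap i j) - agree c b (s * swap k l)
      + agree c b (s * swap i j * swap k l)
    = W b i j k l * W (s⁻¹ * c * s) i j k l + W b k l i j * W (s⁻¹ * c * s) k l i j := by
  set p := s⁻¹ * c * s with hp
  have key : ∀ y z : Fin n,
      ((if p y = z then (1 : ℤ) else 0)
        - (if p (swap i j y) = swap i j z then 1 else 0)
        - (if p (swap k l y) = swap k l z then 1 else 0)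
        + (if p (swap i j (swap k l y)) = swap i j (swap k l z) then 1 else 0))
      = (dlt i y - dlt j y) * (dlt k z - dlt l z) * W p i j k l
        + (dlt k y - dlt l y) * (dlt i z - dlt j z) * W p k l i j := by
    intro y z
    have five : ∀ w, w = i ∨ w = j ∨ w = k ∨ w = l ∨ (w ≠ i ∧ w ≠ j ∧ w ≠ k ∧ w ≠ l) := by tauto
    have hji := hij.symm
    have hki := hik.symm
    have hli := hil.symm
    have hkj := hjk.symm
    have hlj := hjl.symm
    have hlk := hkl.symm
    rcases five y with rfl | rfl | rfl | rfl | ⟨y1, y2, y3, y4⟩ <;>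
      rcases five z with rfl | rfl | rfl | rfl | ⟨z1, z2, z3, z4⟩ <;>
      simp [dlt, W, swap_apply_def, *] <;> ring
  have hconv : ∀ (t : Perm (Fin n)), agree c b (s * t) =
      ∑ x, if p (t x) = t (b x) then (1 : ℤ) else 0 := by
    intro t
    refine Finset.sum_congr rfl fun x _ => ?_
    simp [hp, Equiv.symm_apply_eq]; congr
  have h0 : agree c b s = ∑ x, if p x = b x then (1 : ℤ) else 0 := by
    have h1 := hconv 1
    rw [mul_one] at h1
    exact h1
  have eval : ∀ i j k l : Fin n,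
      ∑ x, (dlt i x - dlt j x) * (dlt k (b x) - dlt l (b x)) = W b i j k l := by
    intro i j k l
    simp [dlt, W, sub_mul, Finset.sum_sub_distrib, ite_mul]
    ring
  rw [h0, hconv, hconv, mul_assoc, hconv, ← Finset.sum_sub_distrib, ← Finset.sum_sub_distrib,
    ← Finset.sum_add_distrib]
  refine (Finset.sum_congr rfl fun x _ => key x (b x)).trans ?_
  rw [Finset.sum_add_distrib, ← Finset.sum_mul, ← Finset.sum_mul, eval, eval]

theorem exists_quad (hn : 5 ≤ n) (b : Perm (Fin n)) (hb : b ≠ 1) :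
    ∃ q : Fin 4 ↪ Fin n, 1 ≤ W b (q 0) (q 1) (q 2) (q 3) ∧ 0 ≤ W b (q 2) (q 3) (q 0) (q 1) := by
  classical
  obtain ⟨i, hi⟩ : ∃ i, b i ≠ i := by
    by_contra h; push_neg at h; exact hb (Equiv.ext h)
  obtain ⟨j, -, hj⟩ : ∃ j ∈ (Finset.univ : Finset (Fin n)), j ∉ ({i, b i, b (b i)} : Finset (Fin n)) :=
    Finset.exists_mem_notMem_of_card_lt_card (by
      have := Finset.card_le_three (a := i) (b := b i) (c := b (b i))
      simp; omega)
  obtain ⟨l, -, hl⟩ : ∃ l ∈ (Finset.univ : Finset (Fin n)),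
      l ∉ ({i, b i, b.symm i, j} : Finset (Fin n)) :=
    Finset.exists_mem_notMem_of_card_lt_card (by
      have := Finset.card_le_four (a := i) (b := b i) (c := b.symm i) (d := j)
      simp; omega)
  simp only [Finset.mem_insert, Finset.mem_singleton, not_or] at hj hl
  obtain ⟨hj1, hj2, hj3⟩ := hj
  obtain ⟨hl1, hl2, hl3, hl4⟩ := hl
  refine ⟨⟨![i, j, b i, l], ?_⟩, ?_, ?_⟩
  · intro x y h
    fin_cases x <;> fin_cases y <;> simp_all [eq_comm]
  · show 1 ≤ W b i j (b i) l
    simp [W, hj1, Ne.symm hl2]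
    split_ifs <;> norm_num
  · show 0 ≤ W b (b i) l i j
    have hbl : b l ≠ i := fun h => hl3 (by rw [← h, Equiv.symm_apply_apply])
    simp [W, Ne.symm hj3, hbl]
    split_ifs <;> norm_num

theorem sum_sign_mul_eq_zero (φ : Perm (Fin n) → ℤ) (u v : Fin n) (huv : u ≠ v)
    (hφ : ∀ h, φ (h * swap u v) = φ h) :
    ∑ h : Perm (Fin n), (Perm.sign h : ℤ) * φ h = 0 := by
  have h1 := Equiv.sum_comp (Equiv.mulRight (swap u v)) fun h => (Perm.sign h : ℤ) * φ h
  simp [hφ, Perm.sign_swap huv] at h1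
  linarith

theorem agree_const (hn : 6 ≤ n) (c b : Perm (Fin n)) (K : ℤ)
    (hK : ∀ h ∈ alternatingGroup (Fin n), agree c b h = K) (s : Perm (Fin n)) :
    agree c b s = K := by
  classical
  let a : Perm (Fin n) → Fin n → ℤ := fun h x => if c (h x) = h (b x) then 1 else 0
  have ha : ∀ x (h : Perm (Fin n)) u v, u ≠ x → v ≠ x → u ≠ b x → v ≠ b x →
      a (h * swap u v) x = a h x := by
    intro x h u v h1 h2 h3 h4
    simp [a, swap_apply_of_ne_of_ne h1.symm h2.symm, swap_apply_of_ne_of_ne h3.symm h4.symm]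
  have out : ∀ w x y z : Fin n, ∃ u v : Fin n, u ≠ v ∧
      (u ≠ w ∧ u ≠ x ∧ u ≠ y ∧ u ≠ z) ∧ (v ≠ w ∧ v ≠ x ∧ v ≠ y ∧ v ≠ z) := by
    intro w x y z
    have h4 := Finset.card_le_four (a := w) (b := x) (c := y) (d := z)
    have h2 : 1 < (Finset.univ \ ({w, x, y, z} : Finset (Fin n))).card := by
      rw [Finset.card_sdiff_of_subset (Finset.subset_univ _), Finset.card_univ, Fintype.card_fin]
      omega
    obtain ⟨u, hu, v, hv, huv⟩ := Finset.one_lt_card.1 h2
    exact ⟨u, v, huv, by simpa using hu, by simpa using hv⟩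
  have hm1 : ∀ x, ∑ h : Perm (Fin n), (Perm.sign h : ℤ) * a h x = 0 := by
    intro x
    obtain ⟨u, v, huv, ⟨u1, u2, -⟩, ⟨v1, v2, -⟩⟩ := out x (b x) x x
    exact sum_sign_mul_eq_zero _ u v huv fun h => ha x h u v u1 v1 u2 v2
  have hm2 : ∀ x y, ∑ h : Perm (Fin n), (Perm.sign h : ℤ) * (a h x * a h y) = 0 := by
    intro x y
    obtain ⟨u, v, huv, ⟨u1, u2, u3, u4⟩, ⟨v1, v2, v3, v4⟩⟩ := out x (b x) y (b y)
    exact sum_sign_mul_eq_zero _ u v huv fun h => by
      rw [ha x h u v u1 v1 u2 v2, ha y h u v u3 v3 u4 v4]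
  have hm0 : ∑ h : Perm (Fin n), (Perm.sign h : ℤ) * K ^ 2 = 0 :=
    sum_sign_mul_eq_zero _ ⟨0, by omega⟩ ⟨1, by omega⟩ (by simp) fun _ => rfl
  have hag : ∀ h, agree c b h = ∑ x, a h x := fun h => rfl
  have hz : ∑ h : Perm (Fin n), (Perm.sign h : ℤ) * (agree c b h - K) ^ 2 = 0 := by
    have e : ∀ h : Perm (Fin n), (Perm.sign h : ℤ) * (agree c b h - K) ^ 2 =
        (∑ x, ∑ y, (Perm.sign h : ℤ) * (a h x * a h y))
          - 2 * K * (∑ x, (Perm.sign h : ℤ) * a h x) + (Perm.sign h : ℤ) * K ^ 2 := by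
      intro h
      rw [hag, ← Finset.mul_sum]
      simp only [← Finset.mul_sum]
      rw [← Finset.sum_mul]
      ring
    simp only [e, Finset.sum_add_distrib, Finset.sum_sub_distrib]
    have t2 : ∑ h : Perm (Fin n), ∑ x, ∑ y, (Perm.sign h : ℤ) * (a h x * a h y) = 0 := by
      rw [Finset.sum_comm]
      refine Finset.sum_eq_zero fun x _ => ?_
      rw [Finset.sum_comm]
      exact Finset.sum_eq_zero fun y _ => hm2 x y
    have t1 : ∑ h : Perm (Fin n), ∑ x, (Perm.sign h : ℤ) * a h x = 0 := by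
      rw [Finset.sum_comm]
      exact Finset.sum_eq_zero fun x _ => hm1 x
    rw [← Finset.mul_sum, t2, t1, hm0]
    ring
  have hpt : ∀ h ∈ (Finset.univ : Finset (Perm (Fin n))),
      (Perm.sign h : ℤ) * (agree c b h - K) ^ 2 ≤ 0 := by
    intro h _
    rcases Int.units_eq_one_or (Perm.sign h) with e | e
    · simp [hK h (Perm.mem_alternatingGroup.2 e)]
    · simp [e]; positivity
  have := (Finset.sum_eq_zero_iff_of_nonpos hpt).1 hz s (Finset.mem_univ _)
  simpa [sub_eq_zero] using this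


set_option maxRecDepth 20000 in
theorem five_cases : ∀ ε : ℤˣ, ∃ h₁ h₂ : Perm (Fin 5), Perm.sign h₁ = ε ∧ Perm.sign h₂ = ε ∧
    agree (finRotate 5) (finRotate 5) h₁ ≠ agree (finRotate 5) (finRotate 5) h₂ := by
  decide

theorem agree_conj (c b g k h : Perm (Fin n)) :
    agree (g * c * g⁻¹) (k * b * k⁻¹) (g * h * k⁻¹) = agree c b h := by
  refine Fintype.sum_equiv k.symm _ _ fun x => ?_
  simp

set_option maxRecDepth 20000 in
theorem perm_five : ∀ b : Perm (Fin 5), Perm.sign b = -1 ∨ b ^ 5 = 1 ∨ (∃ x y, x ≠ y ∧ b x = x ∧ b y = y) ∨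
    ∃ x, b x ≠ x ∧ b (b x) = x := by
  decide

theorem cycleType_five (b : Perm (Fin 5)) (hb : b ≠ 1) (h : b ^ 5 = 1) : b.cycleType = {5} := by
  have ho : orderOf b = 5 := by
    haveI : Fact (Nat.Prime 5) := ⟨by norm_num⟩
    exact orderOf_eq_prime h hb
  obtain ⟨m, hm⟩ := Perm.cycleType_prime_order (σ := b) (by rw [ho]; norm_num)
  have hs := b.sum_cycleType ▸ b.support.card_le_univ
  rw [hm, ho] at hs
  simp at hs
  rw [hm, ho, show m = 0 by omega]
  rfl

theorem odd_comm (b : Perm (Fin 5)) (hb : b ≠ 1) (h : b.cycleType ≠ {5}) :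
    ∃ r : Perm (Fin 5), Perm.sign r = -1 ∧ r * b = b * r := by
  rcases perm_five b with hs | h5 | ⟨x, y, hxy, hx, hy⟩ | ⟨x, hx, hx2⟩
  · exact ⟨b, hs, rfl⟩
  · exact absurd (cycleType_five b hb h5) h
  · refine ⟨swap x y, Perm.sign_swap hxy, ?_⟩
    rw [mul_swap_eq_swap_mul, hx, hy]
  · refine ⟨swap x (b x), Perm.sign_swap hx.symm, ?_⟩
    rw [mul_swap_eq_swap_mul, hx2, swap_comm]

theorem const_of_left (c b : Perm (Fin n)) (K : ℤ)
    (hK : ∀ h ∈ alternatingGroup (Fin n), agree c b h = K) (r : Perm (Fin n))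
    (hr : Perm.sign r = -1) (hrc : r * c = c * r) (s : Perm (Fin n)) : agree c b s = K := by
  rcases Int.units_eq_one_or (Perm.sign s) with h | h
  · exact hK s (Perm.mem_alternatingGroup.2 h)
  · rw [← hK (r * s) (Perm.mem_alternatingGroup.2 (by simp [hr, h]))]
    refine Finset.sum_congr rfl fun x _ => ?_
    have : c (r (s x)) = r (c (s x)) := by rw [← Perm.mul_apply, ← hrc, Perm.mul_apply]
    simp [this]

theorem const_of_right (c b : Perm (Fin n)) (K : ℤ)
    (hK : ∀ h ∈ alternatingGroup (Fin n), agree c b h = K) (r : Perm (Fin n))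
    (hr : Perm.sign r = -1) (hrc : r * b = b * r) (s : Perm (Fin n)) : agree c b s = K := by
  rcases Int.units_eq_one_or (Perm.sign s) with h | h
  · exact hK s (Perm.mem_alternatingGroup.2 h)
  · rw [← hK (s * r) (Perm.mem_alternatingGroup.2 (by simp [hr, h]))]
    refine (Fintype.sum_equiv r _ _ fun x => ?_).symm
    have : r (b x) = b (r x) := by rw [← Perm.mul_apply, hrc, Perm.mul_apply]
    simp [this]

theorem not_const (hn : 5 ≤ n) (c b : Perm (Fin n)) (hc : c ≠ 1) (hb : b ≠ 1) :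
    ∃ h ∈ alternatingGroup (Fin n), agree c b h ≠ agree c b 1 := by
  classical
  by_contra hcon
  push_neg at hcon
  set K := agree c b 1
  obtain ⟨q, hq1, hq2⟩ := exists_quad hn b hb
  set i := q 0 with hi
  set j := q 1 with hj
  set k := q 2 with hk
  set l := q 3 with hl
  have hne : ∀ x y : Fin 4, x ≠ y → q x ≠ q y := fun x y h => q.injective.ne h
  have hall : ∀ s : Perm (Fin n), agree c b s = K := by
    rcases hn.lt_or_eq with h6 | h5
    · exact agree_const h6 c b K hcon
    subst h5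
    by_cases hc5 : c.cycleType = {5} ∧ b.cycleType = {5}
    · exfalso
      have hr : (finRotate 5).cycleType = {5} := by simpa using cycleType_finRotate (n := 3)
      obtain ⟨g, hg⟩ := isConj_iff.1 (Perm.isConj_iff_cycleType_eq.2 (hr.trans hc5.1.symm))
      obtain ⟨m, hm⟩ := isConj_iff.1 (Perm.isConj_iff_cycleType_eq.2 (hr.trans hc5.2.symm))
      obtain ⟨h₁, h₂, e₁, e₂, hd⟩ := five_cases (Perm.sign g * Perm.sign m)
      have he : ∀ h, Perm.sign h = Perm.sign g * Perm.sign m →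
          agree (finRotate 5) (finRotate 5) h = K := by
        intro h e
        rw [← agree_conj (finRotate 5) (finRotate 5) g m h, hg, hm]
        refine hcon _ (Perm.mem_alternatingGroup.2 ?_)
        simp [e]
        rcases Int.units_eq_one_or (Perm.sign g) with e | e <;>
          rcases Int.units_eq_one_or (Perm.sign m) with e' | e' <;> simp [e, e']
      exact hd ((he _ e₁).trans (he _ e₂).symm)
    · rcases not_and_or.1 hc5 with h' | h'
      · obtain ⟨r, hr, hrc⟩ := odd_comm c hc h'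
        exact const_of_left c b K hcon r hr hrc
      · obtain ⟨r, hr, hrc⟩ := odd_comm b hb h'
        exact const_of_right c b K hcon r hr hrc
  obtain ⟨q', hq1', hq2'⟩ := exists_quad hn c hc
  obtain ⟨s, hs⟩ := (Equiv.Perm.isMultiplyPretransitive (Fin n) 4).exists_smul_eq q q'
  have hs' : ∀ x, s (q x) = q' x := fun x => by rw [← hs]; rfl
  have h := second_difference c b s i j k l (hne 0 1 (by decide)) (hne 0 2 (by decide))
    (hne 0 3 (by decide)) (hne 1 2 (by decide)) (hne 1 3 (by decide)) (hne 2 3 (by decide))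
  rw [hall, hall, hall, hall] at h
  have e : ∀ x y z w : Fin 4, W (s⁻¹ * c * s) (q x) (q y) (q z) (q w)
      = W c (q' x) (q' y) (q' z) (q' w) := by
    intro x y z w; simp [W, Equiv.symm_apply_eq, hs']
  rw [e, e] at h
  nlinarith [mul_le_mul hq1 hq1' zero_le_one (le_trans zero_le_one hq1), mul_nonneg hq2 hq2']

theorem agree_eq_card (a b h : Perm (Fin n)) :
    (Nat.card (Function.fixedPoints ⇑(a * (h * b * h⁻¹))) : ℤ) = agree a⁻¹ b h := by
  classical
  unfold agree
  rw [Finset.sum_boole, Nat.card_eq_fintype_card, Fintype.card_of_subtype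
    (Finset.univ.filter fun y => (a * (h * b * h⁻¹)) y = y) (fun y => by simp only [Finset.mem_filter, Finset.mem_univ, true_and]; rfl)]
  norm_cast
  refine Finset.card_equiv h.symm fun y => ?_
  simp [Equiv.eq_symm_apply, Equiv.symm_apply_eq, eq_comm]

/-- Let n ≥ 5 and let a, b be non-identity permutations in the symmetric group S_n. Then the number of fixed points is not constant on the set of products a′b′ with a′ conjugate to a and b′ conjugate to b under the alternating group: there are even permutations g₁, h₁, g₂, h₂ such that (g₁ a g₁⁻¹)(h₁ b h₁⁻¹) and (g₂ a g₂⁻¹)(h₂ b h₂⁻¹) have different numbers of fixed points. -/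
theorem result (n : ℕ) (hn : 5 ≤ n) (a b : Equiv.Perm (Fin n)) (ha : a ≠ 1) (hb : b ≠ 1) :
    ∃ g₁ h₁ g₂ h₂ : Equiv.Perm (Fin n), g₁ ∈ alternatingGroup (Fin n) ∧ h₁ ∈ alternatingGroup (Fin n) ∧ g₂ ∈ alternatingGroup (Fin n) ∧ h₂ ∈ alternatingGroup (Fin n) ∧
      Nat.card (Function.fixedPoints ⇑(g₁ * a * g₁⁻¹ * (h₁ * b * h₁⁻¹))) ≠
        Nat.card (Function.fixedPoints ⇑(g₂ * a * g₂⁻¹ * (h₂ * b * h₂⁻¹))) := by
  classical
  obtain ⟨h, hh, hne⟩ := not_const hn a⁻¹ b (inv_ne_one.2 ha) hb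
  refine ⟨1, h, 1, 1, one_mem _, hh, one_mem _, one_mem _, fun e => hne ?_⟩
  simp only [one_mul, mul_one, inv_one] at e
  rw [← agree_eq_card, ← agree_eq_card]
  simp only [one_mul, mul_one, inv_one]
  exact_mod_cast e

end Cfsg.Agent.S2271
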