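import Cfsg.Statements.S2272
import Cfsg.Agent.Lib.FrobeniusClassProduct
-- import your own Cfsg.Agent.* helpers here

set_option autoImplicit false
open Cfsg

namespace Cfsg.Agent.S2272

/-- Let F be a finite field and d ≥ 3, and let a, b be non-identity elements of PSL_d(F). Then the product of the conjugacy classes of a and b is not a single conjugacy class: there are conjugates a′ of a and b′ of b such that a′b′ is not conjugate to ab. -/
theorem result {F : Type*} [Field F] [Fintype F] (d : ℕ) (hd : 3 ≤ d)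
    (a b : Matrix.ProjectiveSpecialLinearGroup (Fin d) F) (ha : a ≠ 1) (hb : b ≠ 1) :
    ∃ g h : Matrix.ProjectiveSpecialLinearGroup (Fin d) F, ¬ IsConj (a * b) (g * a * g⁻¹ * (h * b * h⁻¹)) := by
  by_contra hcon
  push Not at hcon
  obtain ⟨A, rfl⟩ := QuotientGroup.mk_surjective a
  obtain ⟨B, rfl⟩ := QuotientGroup.mk_surjective b
  have hnc : ∀ M : Matrix.SpecialLinearGroup (Fin d) F,
      (QuotientGroup.mk M : Matrix.ProjectiveSpecialLinearGroup (Fin d) F) ≠ 1 →
      ∀ k : F, FrobeniusClassProduct.mx M ≠ k • (1 : Matrix (Fin d) (Fin d) F) := by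
    intro M hM k hk
    apply hM
    rw [QuotientGroup.eq_one_iff, Matrix.SpecialLinearGroup.mem_center_iff]
    refine ⟨k, ?_, ?_⟩
    · have hd' : (FrobeniusClassProduct.mx M).det = 1 := M.2
      rw [hk, Matrix.det_smul, Matrix.det_one, mul_one] at hd'
      simpa using hd'
    · show Matrix.scalar (Fin d) k = FrobeniusClassProduct.mx M
      rw [hk, Matrix.smul_one_eq_diagonal]
      rfl
  obtain ⟨⟨Y, hY, hY0⟩, ⟨Z, hZ, hZ0⟩⟩ :=
    FrobeniusClassProduct.core hd (hnc A ha) (hnc B hb)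
  -- every value of the trace on the class is a non-zero multiple of `tr (A B)`
  have key : ∀ W, FrobeniusClassProduct.Cls (FrobeniusClassProduct.mx B) W →
      ∃ ζ : F, ζ ≠ 0 ∧ (FrobeniusClassProduct.mx A * W).trace =
        ζ * (FrobeniusClassProduct.mx A * FrobeniusClassProduct.mx B).trace := by
    rintro W ⟨X, rfl⟩
    obtain ⟨y, hy⟩ := isConj_iff.1 (hcon 1 (QuotientGroup.mk X))
    obtain ⟨Y', rfl⟩ := QuotientGroup.mk_surjective y
    have hy' : (QuotientGroup.mk (Y' * (A * B) * Y'⁻¹) :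
        Matrix.ProjectiveSpecialLinearGroup (Fin d) F) = QuotientGroup.mk (A * (X * B * X⁻¹)) := by
      simpa using hy
    rw [QuotientGroup.eq, Matrix.SpecialLinearGroup.mem_center_iff] at hy'
    obtain ⟨ζ, hζ, hζ'⟩ := hy'
    refine ⟨ζ, ?_, ?_⟩
    · rintro rfl
      rw [zero_pow (by simp; omega)] at hζ
      exact zero_ne_one hζ
    have e : A * (X * B * X⁻¹) = Y' * (A * B) * Y'⁻¹ *
        ((Y' * (A * B) * Y'⁻¹)⁻¹ * (A * (X * B * X⁻¹))) := (mul_inv_cancel_left _ _).symm
    have hz : FrobeniusClassProduct.mx ((Y' * (A * B) * Y'⁻¹)⁻¹ * (A * (X * B * X⁻¹))) =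
        ζ • (1 : Matrix (Fin d) (Fin d) F) := by
      rw [Matrix.smul_one_eq_diagonal]
      exact hζ'.symm.trans rfl
    have e' := congrArg FrobeniusClassProduct.mx e
    rw [FrobeniusClassProduct.mx_mul A, FrobeniusClassProduct.mx_mul _ X⁻¹,
      FrobeniusClassProduct.mx_mul X B] at e'
    rw [e', FrobeniusClassProduct.mx_mul (Y' * (A * B) * Y'⁻¹), hz, mul_smul_comm, mul_one,
      Matrix.trace_smul, smul_eq_mul, FrobeniusClassProduct.mx_mul (Y' * (A * B)),
      Matrix.trace_mul_comm, ← FrobeniusClassProduct.mx_mul, inv_mul_cancel_left,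
      FrobeniusClassProduct.mx_mul]
  obtain ⟨ζ, hζ, e⟩ := key Y hY
  obtain ⟨η, -, e'⟩ := key Z hZ
  rw [hY0, eq_comm] at e
  rw [(mul_eq_zero.1 e).resolve_left hζ, mul_zero] at e'
  exact hZ0 e'

end Cfsg.Agent.S2272
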