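import Cfsg.Statements.S2276
import Cfsg.Agent.FreePair2276.Main
-- Template for statement S2276 (row 2276; see /opt/grader/pristine/manifest.json for weights).
-- Copy to Cfsg/Agent/S2276.lean and replace the sorry. The statement below is byte-identical to the frozen
-- statement Cfsg.CfsgFrozen.S2276 (Cfsg/Statements/S2276.lean; the theorem Cfsg.alternating_p_elements_free_pair);
-- the grader kernel-checks Cfsg.Agent.S2276.result against that frozen type. Keep the theorem IN THIS FILE
-- (a `result` declared elsewhere and merely imported here is not credited); helpers may live anywhere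
-- under Cfsg/Agent/.

set_option autoImplicit false
open Cfsg

namespace Cfsg.Agent.S2276

/-- Let n ≥ 5, p ≥ 3 a prime, and u, w non-identity elements of p-power order in the alternating group A_n. Then there is g ∈ A_n such that u·(g w g⁻¹) does not have p-power order and ⟨u, g w g⁻¹⟩ is not solvable. -/
theorem result (n : ℕ) (hn : 5 ≤ n) (p : ℕ) (hp : p.Prime) (hp3 : 3 ≤ p) (u w : alternatingGroup (Fin n)) (hu : u ≠ 1) (hw : w ≠ 1)
    (hu' : ∃ k : ℕ, orderOf u = p ^ k) (hw' : ∃ k : ℕ, orderOf w = p ^ k) :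
    ∃ g : alternatingGroup (Fin n), (¬ ∃ k : ℕ, orderOf (u * (g * w * g⁻¹)) = p ^ k) ∧
      ¬ Group.IsSolvable ↥(Subgroup.closure ({u, g * w * g⁻¹} : Set (alternatingGroup (Fin n)))) := by
  obtain ⟨ku, hku⟩ := hu'
  obtain ⟨kw, hkw⟩ := hw'
  have hpu : (u : Equiv.Perm (Fin n)) ^ p ^ ku = 1 := by
    rw [← Subgroup.coe_pow, ← hku, pow_orderOf_eq_one]; rfl
  have hpw : (w : Equiv.Perm (Fin n)) ^ p ^ kw = 1 := by
    rw [← Subgroup.coe_pow, ← hkw, pow_orderOf_eq_one]; rfl
  obtain ⟨g, hs, h1, h2⟩ := Cfsg.FreePair2276.exists_good hp hp3 hpu hpw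
    (fun h => hu (Subtype.ext h)) (fun h => hw (Subtype.ext h)) (by simpa using hn)
  refine ⟨⟨g, Equiv.Perm.mem_alternatingGroup.2 hs⟩, ?_, ?_⟩
  · rintro ⟨k, hk⟩
    apply h1 k
    have := congrArg Subtype.val (pow_orderOf_eq_one
      (u * (⟨g, Equiv.Perm.mem_alternatingGroup.2 hs⟩ * w *
        (⟨g, Equiv.Perm.mem_alternatingGroup.2 hs⟩ : alternatingGroup (Fin n))⁻¹)))
    rw [hk] at this
    simpa using this
  · intro hsol
    apply h2
    have hmap := MonoidHom.map_closure (alternatingGroup (Fin n)).subtype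
      ({u, ⟨g, Equiv.Perm.mem_alternatingGroup.2 hs⟩ * w *
        (⟨g, Equiv.Perm.mem_alternatingGroup.2 hs⟩ : alternatingGroup (Fin n))⁻¹} : Set _)
    simp only [Set.image_insert_eq, Set.image_singleton, Subgroup.coe_subtype, Subgroup.coe_mul,
      Subgroup.coe_inv] at hmap
    rw [← hmap]
    exact Group.isSolvable_of_surjective (MonoidHom.subgroupMap_surjective _ _)

end Cfsg.Agent.S2276
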