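import Cfsg.Statements.S2277
import Cfsg.Agent.Lib.CoprimeImprimitive

set_option autoImplicit false
open Cfsg

namespace Cfsg.Agent.S2277

open Cfsg.Agent
open scoped Pointwise commutatorElement

theorem main {G : Type*} [Group G] [Finite G] {p : ℕ} [hp : Fact p.Prime] (hp3 : 3 ≤ p)
    (P : Subgroup G) (hP : IsPGroup p P) (C D : Set G)
    (hC : Subgroup.closure C = P) (hD : Subgroup.closure D = P) :
    ∀ (n : ℕ) (M : Subgroup G), Nat.card M = n → P ≤ Subgroup.normalizer (M : Set G) →
      ¬ p ∣ Nat.card M →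
      (∀ x ∈ M, ∀ c ∈ C, ∀ d ∈ D, IsPGroup p (Subgroup.closure ({x * c * x⁻¹, d} : Set G))) →
      P ≤ Subgroup.centralizer (M : Set G) := by
  intro n
  induction n using Nat.strong_induction_on with
  | h n ih =>
  intro M hMn hPM hMp h
  subst hMn
  have hsub : ∀ R : Subgroup G, R ≤ M → R ≠ M → P ≤ Subgroup.normalizer (R : Set G) →
      P ≤ Subgroup.centralizer (R : Set G) := by
    intro R hR hne hRn
    have hlt : Nat.card R < Nat.card M := by
      by_contra hc
      exact hne (Subgroup.eq_of_le_of_card_ge hR (by omega))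
    exact ih _ hlt R rfl hRn (fun hd => hMp (hd.trans (Subgroup.card_dvd_of_le hR)))
      (fun x hx => h x (hR hx))
  by_cases hq : ∃ q : ℕ, q.Prime ∧ IsPGroup q M
  swap
  · rw [Subgroup.le_centralizer_iff]
    refine SignalizerCoprime.le_of_invariant_sylow_le (p := p) hP hPM hMp fun R hR hRn hRq => ?_
    rw [Subgroup.le_centralizer_iff]
    exact hsub R hR (fun e => hq (e ▸ hRq)) hRn
  obtain ⟨q, hq, hMq⟩ := hq
  haveI := Fact.mk hq
  rcases eq_or_ne M ⊥ with rfl | hMne
  · intro a _
    rw [Subgroup.mem_centralizer_iff]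
    intro x hx
    rw [Subgroup.coe_bot, Set.mem_singleton_iff] at hx
    subst hx; simp
  have hcop : (Nat.card P).Coprime (Nat.card M) := by
    obtain ⟨e, he⟩ := IsPGroup.iff_card.1 hP
    rw [he]
    exact ((hp.out.coprime_iff_not_dvd.2 hMp)).pow_left e
  haveI : Group.IsNilpotent M := hMq.isNilpotent
  haveI : Nontrivial M := (Subgroup.nontrivial_iff_ne_bot M).2 hMne
  have hlt : ⁅M, M⁆ < M := by
    refine lt_of_le_of_ne (Subgroup.commutator_le_self M) fun e => ?_
    have := (Group.isSolvable_iff_commutator_lt (G := M)).1 inferInstance ⊤ top_ne_bot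
    refine this.ne ?_
    apply Subgroup.map_injective M.subtype_injective
    rw [Subgroup.map_commutator, ← MonoidHom.range_eq_map, Subgroup.range_subtype, e]
  have hPc : P ≤ Subgroup.normalizer ((⁅M, M⁆ : Subgroup G) : Set G) :=
    CoprimeAction.le_normalizer_of_conj_mem fun a ha b hb => by
      have h1 : Subgroup.map (MulAut.conj a).toMonoidHom ⁅M, M⁆ ≤ ⁅M, M⁆ := by
        rw [Subgroup.map_commutator]
        have : Subgroup.map (MulAut.conj a).toMonoidHom M ≤ M := by
          rintro _ ⟨m, hm, rfl⟩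
          exact (Subgroup.mem_normalizer_iff.1 (hPM ha) m).1 hm
        exact Subgroup.commutator_mono this this
      exact h1 ⟨b, hb, rfl⟩
  let S : Set (Subgroup G) := {K | ⁅M, M⁆ ≤ K ∧ K < M ∧ P ≤ Subgroup.normalizer (K : Set G)}
  obtain ⟨K, ⟨hMK, hKM, hPK⟩, hKmax⟩ :=
    S.toFinite.exists_maximal ⟨⁅M, M⁆, le_rfl, hlt, hPc⟩
  have hKcent : P ≤ Subgroup.centralizer (K : Set G) := hsub K hKM.le hKM.ne hPK
  have hMnK : ∀ m ∈ M, ∀ k ∈ K, m * k * m⁻¹ ∈ K := by
    intro m hm k hk
    have : ⁅m, k⁆ * k ∈ K :=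
      K.mul_mem (hMK (Subgroup.commutator_mem_commutator hm (hKM.le hk))) hk
    simpa [commutatorElement_def] using this
  haveI hKn : (K.subgroupOf M).Normal := ⟨fun k hk m => hMnK m.1 m.2 k.1 hk⟩
  by_contra hnc
  let V := M ⧸ K.subgroupOf M
  letI : CommGroup V :=
    { (inferInstance : Group V) with
      mul_comm := by
        intro a b
        induction a using QuotientGroup.induction_on with | _ a => ?_
        induction b using QuotientGroup.induction_on with | _ b => ?_
        show ((a * b : M) : V) = ((b * a : M) : V)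
        rw [QuotientGroup.eq, Subgroup.mem_subgroupOf]
        have := hMK (Subgroup.commutator_mem_commutator (inv_mem b.2) (inv_mem a.2))
        simpa [commutatorElement_def, mul_assoc] using this }
  have hcj : ∀ a ∈ P, ∀ m ∈ M, a * m * a⁻¹ ∈ M := fun a ha m hm =>
    (Subgroup.mem_normalizer_iff.1 (hPM ha) m).1 hm
  let ψ : P →* MulAut M :=
    { toFun := fun a =>
        { toFun := fun m => ⟨a.1 * m.1 * (a.1)⁻¹, hcj _ a.2 _ m.2⟩
          invFun := fun m => ⟨(a.1)⁻¹ * m.1 * a.1, by
            simpa using hcj _ (inv_mem a.2) _ m.2⟩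
          left_inv := fun m => Subtype.ext (by simp [mul_assoc])
          right_inv := fun m => Subtype.ext (by simp [mul_assoc])
          map_mul' := fun m m' => Subtype.ext (by simp [mul_assoc]) }
      map_one' := by ext m; simp
      map_mul' := fun a b => by ext m; simp [mul_assoc] }
  have hψK : ∀ a, (K.subgroupOf M).map (ψ a).toMonoidHom = K.subgroupOf M := by
    intro a
    ext m
    constructor
    · rintro ⟨k, hk, rfl⟩
      exact (Subgroup.mem_normalizer_iff.1 (hPK a.2) k.1).1 hk
    · intro hm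
      refine ⟨(ψ a).symm m, ?_, (ψ a).apply_symm_apply m⟩
      show (a.1)⁻¹ * m.1 * a.1 ∈ K
      simpa using (Subgroup.mem_normalizer_iff.1 (inv_mem (hPK a.2)) m.1).1 hm
  let φ : P →* MulAut V :=
    { toFun := fun a => QuotientGroup.congr _ _ (ψ a) (hψK a)
      map_one' := by
        ext v
        induction v using QuotientGroup.induction_on
        simp
      map_mul' := fun a b => by
        ext v
        induction v using QuotientGroup.induction_on
        simp
        rfl }
  have hφ : ∀ (a : P) (m : M), φ a (m : V) = ((ψ a m : M) : V) := fun a m => rfl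
  haveI : Nontrivial V := by
    rw [← Finite.one_lt_card_iff_nontrivial, ← Subgroup.index_eq_card]
    refine lt_of_le_of_ne (Nat.pos_of_ne_zero Subgroup.index_ne_zero_of_finite) (Ne.symm ?_)
    rw [Ne, Subgroup.index_eq_one, Subgroup.subgroupOf_eq_top]
    exact fun h => hKM.ne (le_antisymm hKM.le h)
  have hVp : ¬ p ∣ Nat.card V := fun hd => hMp (by
    rw [← Subgroup.index_eq_card] at hd
    exact hd.trans (Subgroup.index_dvd_card _))
  have hne : φ.range ≠ ⊥ := by
    intro h1
    apply hnc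
    refine CoprimeAction.le_centralizer_of_stabilizes (hcop.coprime_dvd_right
      (Subgroup.card_dvd_of_le hKM.le)) ?_ (N := K) ?_
    · rw [Subgroup.le_centralizer_iff]; exact hKcent
    · intro a ha k hk
      have h2 : φ ⟨a, ha⟩ ((⟨k, hk⟩ : M) : V) = ((⟨k, hk⟩ : M) : V) := by
        have : φ ⟨a, ha⟩ ∈ φ.range := ⟨_, rfl⟩
        rw [h1, Subgroup.mem_bot] at this
        rw [this]; rfl
      rw [hφ, eq_comm, QuotientGroup.eq, Subgroup.mem_subgroupOf] at h2
      have h3 : k⁻¹ * (a * k * a⁻¹) ∈ K := h2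
      simpa [mul_assoc] using h3
  have hirr : ∀ W : Subgroup V, (∀ g ∈ φ.range, ∀ v ∈ W, g v ∈ W) → W = ⊥ ∨ W = ⊤ := by
    intro W hW
    set K' := (W.comap (QuotientGroup.mk' (K.subgroupOf M))).map M.subtype with hK'
    have hKK' : K ≤ K' := by
      intro k hk
      refine ⟨⟨k, hKM.le hk⟩, ?_, rfl⟩
      show ((⟨k, hKM.le hk⟩ : M) : V) ∈ W
      rw [(QuotientGroup.eq_one_iff _).2 (by exact hk)]
      exact one_mem W
    have hK'M : K' ≤ M := Subgroup.map_subtype_le _
    have hWeq : W = (K'.subgroupOf M).map (QuotientGroup.mk' (K.subgroupOf M)) := by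
      change W = (Subgroup.comap M.subtype K').map (QuotientGroup.mk' (K.subgroupOf M))
      rw [hK', Subgroup.comap_map_eq_self_of_injective M.subtype_injective,
        Subgroup.map_comap_eq_self_of_surjective (QuotientGroup.mk'_surjective _)]
    rcases eq_or_ne K' M with e | e
    · right
      rw [hWeq, e, Subgroup.subgroupOf_self,
        Subgroup.map_top_of_surjective _ (QuotientGroup.mk'_surjective _)]
    · left
      have : K' = K := by
        refine le_antisymm (hKmax ⟨hMK.trans hKK', lt_of_le_of_ne hK'M e, ?_⟩ hKK') hKK'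
        refine CoprimeAction.le_normalizer_of_conj_mem ?_
        rintro a ha _ ⟨m, hm, rfl⟩
        exact ⟨ψ ⟨a, ha⟩ m, hW (φ ⟨a, ha⟩) ⟨_, rfl⟩ _ hm, rfl⟩
      rw [hWeq, this, QuotientGroup.map_mk'_self]
  have hmap : ∀ S : Set G, Subgroup.closure S = P →
      Subgroup.closure (φ '' (Subtype.val ⁻¹' S)) = φ.range := by
    intro S hS
    rw [← MonoidHom.map_closure, MonoidHom.range_eq_map]
    congr 1
    apply Subgroup.map_injective P.subtype_injective
    rw [MonoidHom.map_closure, ← MonoidHom.range_eq_map, Subgroup.range_subtype, Subgroup.coe_subtype,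
      Set.image_preimage_eq_of_subset (by
        rw [Subtype.range_coe]; exact hS ▸ Subgroup.subset_closure), hS]
  refine CoprimeImprimitive.no_cover (p := p) (by omega) hVp φ.range
    (hP.of_surjective φ.rangeRestrict φ.rangeRestrict_surjective) hne hirr _ _ (hmap C hC) (hmap D hD) ?_
  rintro _ ⟨c, hc, rfl⟩ _ ⟨d, hd, rfl⟩ v
  induction v using QuotientGroup.induction_on with | _ v => ?_
  set x : G := (v : G)⁻¹ with hx
  have hxM : x ∈ M := inv_mem v.2
  set L := K ⊔ P with hL
  have hLM : ∀ m ∈ M, m ∈ L → m ∈ K := by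
    intro m hm hmL
    have hnorm : P ≤ Subgroup.normalizer (K : Set G) := hPK
    rw [hL, ← SetLike.mem_coe, Subgroup.coe_mul_of_right_le_normalizer_left K P hnorm] at hmL
    obtain ⟨k, hk, a, ha, e⟩ := Set.mem_mul.1 hmL
    have haM : a ∈ M := by
      have : a = k⁻¹ * m := by rw [← e]; simp
      rw [this]
      exact M.mul_mem (inv_mem (hKM.le hk)) hm
    have : a = 1 := by
      have h1 : orderOf a ∣ Nat.gcd (Nat.card P) (Nat.card M) :=
        Nat.dvd_gcd (Subgroup.orderOf_dvd_natCard P ha) (Subgroup.orderOf_dvd_natCard M haM)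
      rw [hcop.gcd_eq_one] at h1
      exact orderOf_eq_one_iff.1 (Nat.dvd_one.1 h1)
    rw [← e, this, mul_one]; exact hk
  set U := M ⊔ P with hU
  set H := Subgroup.closure ({x * c.1 * x⁻¹, d.1} : Set G) with hH
  have hHU : H ≤ U := by
    rw [hH, Subgroup.closure_le]
    rintro y (rfl | rfl)
    · exact U.mul_mem (U.mul_mem (Subgroup.mem_sup_left hxM) (Subgroup.mem_sup_right c.2))
        (inv_mem (Subgroup.mem_sup_left hxM))
    · exact Subgroup.mem_sup_right d.2
  let ι : M →* U := Subgroup.inclusion le_sup_left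
  have hbij : Nat.card (U ⧸ L.subgroupOf U) = Nat.card V := by
    let f : V → U ⧸ L.subgroupOf U := Quotient.map' ι (fun a b hab => by
      rw [QuotientGroup.leftRel_apply, Subgroup.mem_subgroupOf] at hab ⊢
      exact Subgroup.mem_sup_left hab)
    refine (Nat.card_congr (Equiv.ofBijective f ⟨?_, ?_⟩)).symm
    · intro a b hab
      induction a using QuotientGroup.induction_on with | _ a => ?_
      induction b using QuotientGroup.induction_on with | _ b => ?_
      have h1 : ((ι a : U) : U ⧸ L.subgroupOf U) = ((ι b : U) : U ⧸ L.subgroupOf U) := hab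
      rw [QuotientGroup.eq, Subgroup.mem_subgroupOf] at h1
      rw [QuotientGroup.eq, Subgroup.mem_subgroupOf]
      exact hLM _ (M.mul_mem (inv_mem a.2) b.2) h1
    · intro w
      induction w using QuotientGroup.induction_on with | _ u => ?_
      have hu : (u : G) ∈ (M : Set G) * (P : Set G) := by
        rw [← Subgroup.coe_mul_of_right_le_normalizer_left M P hPM]
        exact u.2
      obtain ⟨m, hm, a, ha, e⟩ := Set.mem_mul.1 hu
      refine ⟨((⟨m, hm⟩ : M) : V), ?_⟩
      show ((ι ⟨m, hm⟩ : U) : U ⧸ L.subgroupOf U) = (u : U ⧸ L.subgroupOf U)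
      rw [QuotientGroup.eq, Subgroup.mem_subgroupOf]
      show m⁻¹ * (u : G) ∈ L
      rw [← e, inv_mul_cancel_left]
      exact Subgroup.mem_sup_right ha
  letI : MulAction H (U ⧸ L.subgroupOf U) :=
    MulAction.compHom _ (Subgroup.inclusion hHU)
  obtain ⟨ω, hω⟩ := (h x hxM c.1 hc d.1 hd).nonempty_fixed_point_of_prime_not_dvd_card
    (U ⧸ L.subgroupOf U) (hbij ▸ hVp)
  induction ω using QuotientGroup.induction_on with | _ u => ?_
  have hu : (u : G) ∈ (M : Set G) * (P : Set G) := by
    rw [← Subgroup.coe_mul_of_right_le_normalizer_left M P hPM]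
    exact u.2
  obtain ⟨m, hm, a, ha, e⟩ := Set.mem_mul.1 hu
  have hfix : ∀ y ∈ H, m⁻¹ * y * m ∈ L := by
    intro y hy
    have h1 := hω ⟨y, hy⟩
    have h2 : ((⟨y, hHU hy⟩ * u : U) : U ⧸ L.subgroupOf U) = (u : U ⧸ L.subgroupOf U) := h1
    rw [eq_comm, QuotientGroup.eq, Subgroup.mem_subgroupOf] at h2
    have h3 : (u : G)⁻¹ * (y * (u : G)) ∈ L := h2
    rw [← e] at h3
    have h4 := L.mul_mem (L.mul_mem (Subgroup.mem_sup_right ha) h3)
      (inv_mem (Subgroup.mem_sup_right ha))
    simpa [mul_assoc] using h4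
  have key : ∀ (b : P) (y : M), (y : G)⁻¹ * b.1 * y ∈ L → φ b (y : V) = (y : V) := by
    intro b y hy
    rw [hφ, eq_comm, QuotientGroup.eq, Subgroup.mem_subgroupOf]
    apply hLM _ (M.mul_mem (inv_mem y.2) (ψ b y).2)
    show (y : G)⁻¹ * (b.1 * (y : G) * (b.1)⁻¹) ∈ L
    have := L.mul_mem hy (inv_mem (Subgroup.mem_sup_right b.2 : b.1 ∈ L))
    simpa [mul_assoc] using this
  refine ⟨((v * ⟨m, hm⟩ : M) : V), key c _ ?_, ?_⟩
  · have := hfix (x * c.1 * x⁻¹) (Subgroup.subset_closure (by simp))
    simpa [hx, mul_assoc] using this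
  · have h1 := key d ⟨m, hm⟩ (hfix d.1 (Subgroup.subset_closure (by simp)))
    have e1 : (((v * ⟨m, hm⟩ : M) : V))⁻¹ * (v : V) = (((⟨m, hm⟩ : M) : V))⁻¹ := by
      rw [QuotientGroup.mk_mul, mul_inv_rev, mul_assoc, inv_mul_cancel, mul_one]
    rw [e1, map_inv, h1]

/-- Let p ≥ 3 be prime and G a finite group with a Sylow p-subgroup P and a normal p-complement N (N normal, of order prime to p, with NP = G). Suppose P is generated by a subset C and also by a subset D, and that ⟨x c x⁻¹, d⟩ is a p-group for all x ∈ N, c ∈ C, d ∈ D. Then P centralizes N, so that G = N × P. -/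
theorem result {G : Type*} [Group G] [Finite G] (p : ℕ) [Fact p.Prime] (hp3 : 3 ≤ p) (P : Sylow p G)
    (N : Subgroup G) [N.Normal] (hN : (Nat.card N).Coprime p) (hNP : N ⊔ (P : Subgroup G) = ⊤)
    (C D : Set G) (hC : Subgroup.closure C = (P : Subgroup G)) (hD : Subgroup.closure D = (P : Subgroup G))
    (h : ∀ x ∈ N, ∀ c ∈ C, ∀ d ∈ D, IsPGroup p ↥(Subgroup.closure ({x * c * x⁻¹, d} : Set G))) :
    ⁅(P : Subgroup G), N⁆ = ⊥ := by
  have hNp : ¬ p ∣ Nat.card N := fun hd =>
    (Fact.out : p.Prime).coprime_iff_not_dvd.1 hN.symm hd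
  have := main hp3 (P : Subgroup G) P.isPGroup' C D hC hD _ N rfl
    (fun a _ => by rw [Subgroup.normalizer_eq_top]; exact Subgroup.mem_top a) hNp h
  exact Subgroup.commutator_eq_bot_iff_le_centralizer.2 this

end Cfsg.Agent.S2277
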