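import Cfsg.Statements.S2280
import Cfsg.Agent.Lib.RegUnipGen

set_option autoImplicit false
open Cfsg

namespace Cfsg.Agent.S2280


open Matrix RegUnipGen

theorem main {F : Type*} [Field F] [Fintype F] (m : ℕ) (hm : 2 ≤ m) :
    ∃ u g h : Matrix.SpecialLinearGroup (Fin (m + 1)) F,
      (IsNilpotent ((u : Matrix (Fin (m + 1)) (Fin (m + 1)) F) - 1) ∧
        ((u : Matrix (Fin (m + 1)) (Fin (m + 1)) F) - 1) ^ m ≠ 0) ∧
      Subgroup.closure ({u, g * u * g⁻¹, h * u * h⁻¹} : Set (Matrix.SpecialLinearGroup (Fin (m + 1)) F)) = ⊤ := by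
  classical
  let u : Matrix.SpecialLinearGroup (Fin (m + 1)) F := ⟨upper m F, upper_det⟩
  obtain ⟨δ, hδ2, hδd⟩ : ∃ δ : F, (δ = 1 ∨ δ = -1) ∧
      ((Equiv.Perm.sign (@Fin.revPerm (m + 1)) : ℤˣ) : ℤ) * δ = (1 : F) := by
    rcases Int.units_eq_one_or (Equiv.Perm.sign (@Fin.revPerm (m + 1))) with h | h
    · exact ⟨1, Or.inl rfl, by simp [h]⟩
    · exact ⟨-1, Or.inr rfl, by simp [h]⟩
  have hδ : δ * δ = 1 := by rcases hδ2 with h | h <;> simp [h]
  let d : Fin (m + 1) → F := fun r => if r = Fin.last m then δ else 1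
  let G : Matrix (Fin (m + 1)) (Fin (m + 1)) F := Matrix.of fun r c => if c = r.rev then d r else 0
  have hG : G = Matrix.diagonal d * (@Fin.revPerm (m + 1)).permMatrix F := by
    ext r c
    simp [G, Matrix.diagonal_mul, Equiv.Perm.permMatrix, PEquiv.toMatrix_apply, eq_comm]
  have hGdet : G.det = 1 := by
    rw [hG, Matrix.det_mul, Matrix.det_diagonal, Matrix.det_permutation]
    have hp : ∏ i, d i = δ := by
      simp only [d, Finset.prod_ite_eq', Finset.mem_univ, if_true]
    rw [hp, mul_comm]
    exact hδd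
  let ε : Fin (m + 1) → F := fun l => if (l : ℕ) + 1 = m then δ else 1
  have hdet : (lower ε).det = 1 := by
    rw [Matrix.det_of_lowerTriangular]
    · exact Finset.prod_eq_one fun i _ => by simp [lower]
    · intro r c (h : r < c)
      rw [Fin.lt_def] at h
      simp [lower, show r ≠ c from fun hh => by omega]
      omega
  let w : Matrix.SpecialLinearGroup (Fin (m + 1)) F := ⟨lower ε, hdet⟩
  let g0 : Matrix.SpecialLinearGroup (Fin (m + 1)) F := ⟨G, hGdet⟩
  have hwu : g0 * u * g0⁻¹ = w := by
    rw [mul_inv_eq_iff_eq_mul]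
    apply Subtype.ext
    change G * upper m F = lower ε * G
    ext r c
    rw [Matrix.mul_apply, Matrix.mul_apply, Finset.sum_eq_single r.rev, Finset.sum_eq_single c.rev]
    · simp only [G, d, ε, upper, shiftUp, lower, Matrix.of_apply, Matrix.add_apply, Matrix.one_apply,
        Fin.rev_rev, if_pos trivial, Fin.ext_iff, Fin.val_rev, Fin.val_last]
      have := r.2
      have := c.2
      split_ifs <;> first | omega | (simp; try (rw [hδ]))
    · intro b _ hb
      have : c ≠ b.rev := fun h => hb (by rw [h, Fin.rev_rev])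
      simp [G, this]
    · simp
    · intro b _ hb
      simp [G, hb]
    · simp
  obtain ⟨b, hb⟩ := exists_generate hm u w rfl ε rfl
    (fun l => by simp only [ε]; split_ifs; exacts [hδ2, Or.inl rfl])
    (by simp only [ε]; rw [if_neg]; simp; omega)
  let p : Fin (m + 1) := ⟨m - 1, by omega⟩
  have hp0 : (0 : Fin (m + 1)) ≠ p := fun h => by simp [p, Fin.ext_iff] at h; omega
  let g1 : Matrix.SpecialLinearGroup (Fin (m + 1)) F := Matrix.SpecialLinearGroup.transvection hp0 b
  let x : Matrix.SpecialLinearGroup (Fin (m + 1)) F :=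
    Matrix.SpecialLinearGroup.transvection (show (0 : Fin (m + 1)) ≠ Fin.last m from fun h => by
      simp [Fin.ext_iff] at h; omega) b
  have hgx : g1 * u * g1⁻¹ = u * x := by
    rw [mul_inv_eq_iff_eq_mul]
    apply Subtype.ext
    simp only [Matrix.SpecialLinearGroup.coe_mul, g1, x, Matrix.SpecialLinearGroup.transvection_coe, u]
    have e1 : Matrix.single (0 : Fin (m + 1)) p b * upper m F =
        Matrix.single 0 p b + Matrix.single 0 (Fin.last m) b := by
      rw [upper, Matrix.mul_add, Matrix.mul_one]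
      congr 1
      ext i j
      by_cases hi : i = 0
      · subst hi
        rw [Matrix.single_mul_apply_same]
        simp only [Matrix.single_apply, true_and, shiftUp, Matrix.of_apply, p, Fin.ext_iff, Fin.val_last]
        have := j.2
        split_ifs <;> first | omega | simp
      · rw [Matrix.single_mul_apply_of_ne _ _ _ _ _ hi]
        simp [Matrix.single_apply, Ne.symm hi]
    have e2 : ∀ q, upper m F * Matrix.single 0 q b = Matrix.single 0 q b := by
      intro q
      ext i j
      by_cases hj : j = q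
      · subst hj
        rw [Matrix.mul_single_apply_same]
        by_cases hi : i = 0
        · subst hi; simp [upper, shiftUp]
        · simp [upper, shiftUp, Matrix.single_apply, hi, Ne.symm hi]
      · rw [Matrix.mul_single_apply_of_ne _ _ _ _ _ hj]
        simp [Matrix.single_apply, Ne.symm hj]
    have e3 : Matrix.single (0 : Fin (m + 1)) (Fin.last m) b * Matrix.single 0 p b = 0 := by
      rw [Matrix.single_mul_single_of_ne]
      simp [Fin.ext_iff]; omega
    change (1 + Matrix.single 0 p b) * upper m F =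
      upper m F * (1 + Matrix.single 0 (Fin.last m) b) * (1 + Matrix.single 0 p b)
    simp only [Matrix.add_mul, Matrix.mul_add, Matrix.one_mul, Matrix.mul_one, e1, e2, e3]
    abel
  refine ⟨u, g1, g0, ⟨upper_nilpotent, upper_regular⟩, ?_⟩
  set H := Subgroup.closure ({u, g1 * u * g1⁻¹, g0 * u * g0⁻¹} : Set (Matrix.SpecialLinearGroup (Fin (m + 1)) F))
  have hu : u ∈ H := Subgroup.subset_closure (by simp)
  have hv : u * x ∈ H := hgx ▸ Subgroup.subset_closure (by simp)
  have hw : w ∈ H := hwu ▸ Subgroup.subset_closure (by simp)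
  refine hb H hu hw ⟨x, by simpa using H.mul_mem (H.inv_mem hu) hv, ?_⟩
  rw [Matrix.SpecialLinearGroup.transvection_coe, T]
  congr 1
  ext i j
  simp [vecMulVec_apply, Matrix.single_apply, Pi.single_apply, eq_comm]
  split_ifs <;> simp_all

/-- Let F be a finite field and n ≥ 3. Then SL_n(F) is generated by three conjugate regular unipotent elements: there are u with u − 1 nilpotent and (u − 1)^(n−1) ≠ 0, and g, h, such that u, g u g⁻¹ and h u h⁻¹ generate SL_n(F). -/
theorem result {F : Type*} [Field F] [Fintype F] (n : ℕ) (hn : 3 ≤ n) :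
    ∃ u g h : Matrix.SpecialLinearGroup (Fin n) F, (IsNilpotent ((u : Matrix (Fin n) (Fin n) F) - 1) ∧ ((u : Matrix (Fin n) (Fin n) F) - 1) ^ (n - 1) ≠ 0) ∧
      Subgroup.closure ({u, g * u * g⁻¹, h * u * h⁻¹} : Set (Matrix.SpecialLinearGroup (Fin n) F)) = ⊤ := by
  obtain ⟨m, rfl⟩ : ∃ m, n = m + 1 := ⟨n - 1, by omega⟩
  exact main m (by omega)

end Cfsg.Agent.S2280
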