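import Cfsg.Statements.S2289
import Cfsg.Agent.Lib.SU3PresShort78
import Cfsg.Agent.Lib.ShortPresPairs23

set_option autoImplicit false
open Cfsg Cfsg.Agent.ShortPres Cfsg.Agent.SU3PresModel78

namespace Cfsg.Agent.S2289

/-- Let F be a field with q² elements, q ∉ {2, 3, 5}, and SU_3(q), PSU_3(q) the special unitary group of the standard Hermitian form and its central quotient. Then SU_3(q) has a presentation with 3 generators and at most 23 relations, and PSU_3(q) one with 3 generators and at most 24 relations. -/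
theorem result {F : Type*} [Field F] [Fintype F] (q : ℕ) (hF : Fintype.card F = q ^ 2) (h2 : q ≠ 2) (h3 : q ≠ 3) (h5 : q ≠ 5) :
    (∃ rels : Finset (FreeGroup (Fin 3)), rels.card ≤ 23 ∧ Nonempty (PresentedGroup (↑rels : Set (FreeGroup (Fin 3))) ≃* ↥(Cfsg.SU 3 F q))) ∧ (∃ rels : Finset (FreeGroup (Fin 3)), rels.card ≤ 24 ∧ Nonempty (PresentedGroup (↑rels : Set (FreeGroup (Fin 3))) ≃* Cfsg.PSU 3 F q)) := by
  have hq : 2 ≤ q := by
    rcases lt_or_ge q 2 with hlt | hge
    · exfalso
      have := Fintype.one_lt_card (α := F)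
      interval_cases q <;> simp_all
    · exact hge
  obtain ⟨e⟩ := exists_equiv (F := F) hF
  obtain ⟨U, W, Hh, Tt, R, hR, hP, hgen⟩ := SU3PresShort78.pres_four hF (by omega)
  have hr : Set.range ![U, Hh, Tt] = ({U, Hh, Tt} : Set (SUJ q F)) := by
    ext g
    simp [Matrix.range_cons, Matrix.range_empty]
    tauto
  obtain ⟨L, hL, hPL⟩ := hP.change ![U, Hh, Tt] (by rw [hr, hgen])
  refine ⟨?_, ?_⟩
  · obtain ⟨rels, hc, f, -⟩ := hPL.presented (N := 23) (by omega)
    exact ⟨rels, hc, ⟨f.trans e⟩⟩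
  · classical
    set Z := Subgroup.center (SU 3 F q) with hZ
    have hZc : Nat.card Z = Nat.gcd 3 (q + 1) := OrthUnitaryHerm.card_center_SU hF (by omega)
    have : IsCyclic Z := by
      rcases (Nat.dvd_prime Nat.prime_three).1 (Nat.gcd_dvd_left 3 (q + 1)) with h1 | h1
      · have : Subsingleton Z := (Nat.card_eq_one_iff_unique.1 (hZc.trans h1)).1
        infer_instance
      · have : Fact (Nat.Prime 3) := ⟨Nat.prime_three⟩
        exact isCyclic_of_prime_card (hZc.trans h1)
    obtain ⟨z, hz⟩ := IsCyclic.exists_generator (α := Z)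
    let π : SU 3 F q →* Cfsg.PSU 3 F q := QuotientGroup.mk' _
    have hπ : Function.Surjective π := QuotientGroup.mk'_surjective _
    have hS : Short (SU 3 F q) 20 := Short.congr ⟨_, _, R, hR, hP⟩ e
    obtain ⟨κ, x, R', hR', hP'⟩ := hS.quotient π hπ z.1 ((QuotientGroup.eq_one_iff _).2 z.2) (by
      rw [show π.ker = Z from QuotientGroup.ker_mk' _]
      intro g hg
      obtain ⟨n, hn⟩ := Subgroup.mem_zpowers_iff.1 (hz ⟨g, hg⟩)
      have hn' : z.1 ^ n = g := by simpa using congrArg Subtype.val hn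
      rw [← hn']
      exact zpow_mem (Subgroup.subset_normalClosure (Set.mem_singleton _)) n)
    have hgen' : Subgroup.closure (Set.range fun i => π (e (![U, Hh, Tt] i))) = ⊤ := by
      rw [show (Set.range fun i => π (e (![U, Hh, Tt] i))) = (π.comp e.toMonoidHom) '' Set.range ![U, Hh, Tt] from
        (Set.range_comp (π.comp e.toMonoidHom) ![U, Hh, Tt]), ← MonoidHom.map_closure, hr, hgen,
        Subgroup.map_top_of_surjective (π.comp e.toMonoidHom) (show Function.Surjective (π ∘ e) from hπ.comp e.surjective)]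
    obtain ⟨L', hL', hPL'⟩ := hP'.change _ hgen'
    obtain ⟨rels, hc, f, -⟩ := hPL'.presented (N := 24) (by omega)
    exact ⟨rels, hc, ⟨f⟩⟩

end Cfsg.Agent.S2289
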