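import Cfsg.Statements.S2293
import Cfsg.Agent.Lib.ShortPresSpPres
import Cfsg.Agent.Lib.ShortPresTracked
import Cfsg.Agent.Lib.SymplecticSimple
import Cfsg.Agent.S2286

set_option autoImplicit false
open Cfsg

namespace Cfsg.Agent.S2293

open Matrix ShortPresSpCore ShortPresSpModel ShortPresSpPres ShortPresTracked
open scoped MatrixGroups

/-- a normal generator of the centre -/
theorem center_gen {F : Type*} [Field F] [Fintype F] {m : ℕ} (hm : 1 ≤ m) :
    ∃ z : Matrix.symplecticGroup (Fin m) F,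
      z ∈ Subgroup.center (Matrix.symplecticGroup (Fin m) F) ∧
      ∀ g ∈ Subgroup.center (Matrix.symplecticGroup (Fin m) F), g = 1 ∨ g = z := by
  classical
  by_cases h : ∃ z ∈ Subgroup.center (Matrix.symplecticGroup (Fin m) F), z ≠ 1
  · obtain ⟨z, hz, hz1⟩ := h
    refine ⟨z, hz, fun g hg => ?_⟩
    obtain ⟨a, ha, hga⟩ := (SymplecticSimple.mem_center_iff hm).mp hg
    obtain ⟨b, hb, hzb⟩ := (SymplecticSimple.mem_center_iff hm).mp hz
    rcases sq_eq_one_iff.mp ha with rfl | rfl
    · exact Or.inl (SymplecticBasic.ext_smul fun v => by rw [hga, one_smul, one_smul])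
    · rcases sq_eq_one_iff.mp hb with rfl | rfl
      · exact absurd (SymplecticBasic.ext_smul fun v => by rw [hzb, one_smul, one_smul]) hz1
      · exact Or.inr (SymplecticBasic.ext_smul fun v => by rw [hga, hzb])
  · exact ⟨1, Subgroup.one_mem _, fun g hg => Or.inl (by_contra fun e => h ⟨g, hg, e⟩)⟩

/-- passing to the projective group -/
theorem to_psp {F : Type*} [Field F] [Fintype F] {m k N : ℕ} (hm : 1 ≤ m)
    (h : PresBy (Matrix.symplecticGroup (Fin m) F) k N) : PresBy (Cfsg.PSp m F) k (N + 1) := by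
  obtain ⟨z, hz, hall⟩ := center_gen (F := F) hm
  refine h.quotient (QuotientGroup.mk' _) (QuotientGroup.mk'_surjective _) z
    ((QuotientGroup.eq_one_iff _).mpr hz) fun g hg => ?_
  rcases hall g ((QuotientGroup.ker_mk' _).le hg) with rfl | rfl
  · exact Subgroup.one_mem _
  · exact Subgroup.subset_normalClosure (Set.mem_singleton _)

/-- For every finite field F, Sp_4(F) has a presentation with 6 generators and at most 35 relations, and PSp_4(F) one with 6 generators and at most 36 relations. -/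
theorem result {F : Type*} [Field F] [Fintype F] : (∃ rels : Finset (FreeGroup (Fin 6)), rels.card ≤ 35 ∧ Nonempty (PresentedGroup (↑rels : Set (FreeGroup (Fin 6))) ≃* Matrix.symplecticGroup (Fin 2) F)) ∧ (∃ rels : Finset (FreeGroup (Fin 6)), rels.card ≤ 36 ∧ Nonempty (PresentedGroup (↑rels : Set (FreeGroup (Fin 6))) ≃* Cfsg.PSp 2 F)) := by
  obtain ⟨ζ, hζ⟩ := IsCyclic.exists_generator (α := Fˣ)
  obtain ⟨a, b, hab⟩ := exists_two (F := F)
  obtain ⟨⟨rels, hr, ⟨e⟩⟩, -, -⟩ := S2286.result (F := F)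
  have h2 : PresBy SL(2, F) 3 9 := PresBy.of_presented rels hr e
  have hblk : ∀ g : SL(0 + 2, F), Blk 0 g → g ∈ Subgroup.closure {g | g ∈ ([] : List SL(0 + 2, F))} := by
    intro g hg
    have e00 : g.1 0 0 = 1 := by rw [apply_eq, hg.1, Pi.single_eq_same]
    have e10 : g.1 1 0 = 0 := by rw [apply_eq, hg.1]; exact Pi.single_eq_of_ne (by decide) _
    have e01 : g.1 0 1 = 0 := hg.2 1 (by decide)
    have hd : g.1 0 0 * g.1 1 1 - g.1 0 1 * g.1 1 0 = 1 := PSL2Elements.det_eq g
    rw [e00, e01, e10, one_mul, mul_zero, sub_zero] at hd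
    have : g = 1 := PSL2Elements.ext2 (by simpa using e00) (by simpa using e01) (by simpa using e10) (by simpa using hd)
    rw [this]; exact Subgroup.one_mem _
  have hS : ∀ g ∈ ([] : List SL(0 + 2, F)), Blk 0 g := by simp
  have h : PresBy (Matrix.symplecticGroup (Fin (0 + 2)) F) (3 + 3) (9 + 9 + (E (m := 0) ζ a b []).length) :=
    PresBy.amalgam h2 h2 sig lg (gen_model hζ hab hS hblk) _ (sat_model hS)
      fun H _ fA fB π h1 h2 h3 h4 => inj_amalgam hζ hab hblk H fA fB π h1 h2 h3 h4
  rw [E_length] at h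
  have h' : PresBy (Matrix.symplecticGroup (Fin 2) F) 6 27 := h
  exact ⟨(h'.mono (by norm_num)).presented, ((to_psp (by norm_num) h').mono (by norm_num)).presented⟩

end Cfsg.Agent.S2293
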