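import Cfsg.Statements.S2292
import Cfsg.Agent.Lib.ShortPresSLSharp
import Cfsg.Agent.Lib.ShortPresSpBlk
import Cfsg.Agent.S2293
import Cfsg.Agent.S2411
import Cfsg.Agent.S2286

set_option autoImplicit false
open Cfsg

namespace Cfsg.Agent.S2292

open Matrix ShortPres ShortPresSpCore ShortPresSpModel ShortPresSpPres
open scoped MatrixGroups

/-- fifty-four relators for each `SL(n, F)` -/
theorem short_sl_all {F : Type*} [Field F] [Fintype F] (k : ℕ) : Short SL(k + 2, F) 54 := by
  match k with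
  | 0 =>
    obtain ⟨⟨rels, hr, ⟨e⟩⟩, -, -⟩ := S2286.result (F := F)
    exact (Short.of_presented rels hr e).mono (by norm_num)
  | 1 => exact (ShortPresSL.short_three F).mono (by norm_num)
  | j + 2 => exact ShortPresSLSharp.short_sl _ (by omega)

/-- Let F be a finite field with q elements and m ≥ 2 with (m, q) ≠ (2, 2). Then the simple group PSp_2m(F) has a presentation with 2 generators and at most 80 relations. -/
theorem result {F : Type*} [Field F] [Fintype F] (m : ℕ) (hm : 2 ≤ m) (h22 : ¬ (m = 2 ∧ Fintype.card F = 2)) :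
    ∃ rels : Finset (FreeGroup (Fin 2)), rels.card ≤ 80 ∧ Nonempty (PresentedGroup (↑rels : Set (FreeGroup (Fin 2))) ≃* Cfsg.PSp m F) := by
  obtain ⟨k, rfl⟩ : ∃ k, m = k + 2 := ⟨m - 2, by omega⟩
  obtain ⟨ζ, hζ⟩ := IsCyclic.exists_generator (α := Fˣ)
  obtain ⟨a, b, hab⟩ := exists_two (F := F)
  obtain ⟨⟨rels, hr, ⟨e⟩⟩, -, -⟩ := S2286.result (F := F)
  obtain ⟨S, hlen, hS, hblk⟩ := ShortPresSpBlk.exists_blk (F := F) k
  have h : Short (Matrix.symplecticGroup (Fin (k + 2)) F) (54 + 9 + (E ζ a b S).length) :=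
    Short.amalgam (short_sl_all k) (Short.of_presented rels hr e) sig lg (gen_model hζ hab hS hblk) _ (sat_model hS)
      fun H _ fA fB π h1 h2 h3 h4 => inj_amalgam hζ hab hblk H fA fB π h1 h2 h3 h4
  rw [E_length, hlen] at h
  obtain ⟨z, hz, hall⟩ := S2293.center_gen (F := F) (m := k + 2) (by omega)
  have hp : Short (Cfsg.PSp (k + 2) F) (54 + 9 + (2 * 2 + 9) + 1) :=
    h.quotient (QuotientGroup.mk' _) (QuotientGroup.mk'_surjective _) z
      ((QuotientGroup.eq_one_iff _).mpr hz) fun g hg => by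
        rcases hall g ((QuotientGroup.ker_mk' _).le hg) with rfl | rfl
        · exact Subgroup.one_mem _
        · exact Subgroup.subset_normalClosure (Set.mem_singleton _)
  obtain ⟨u, v, huv⟩ := S2411.result (F := F) (k + 2) hm fun hk => by
    have h1 : 1 < Fintype.card F := Fintype.one_lt_card
    have h2 : Fintype.card F ≠ 2 := fun h2 => h22 ⟨hk, h2⟩
    omega
  obtain ⟨R, hR, he⟩ := hp.two_generators u v huv
  exact ⟨R, hR.trans (by norm_num), he⟩

end Cfsg.Agent.S2292
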