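import Cfsg.Statements.S2295
import Cfsg.Agent.S2288
import Cfsg.Agent.Lib.ShortPresOmegaPres

set_option autoImplicit false
open Cfsg

namespace Cfsg.Agent.S2295

open ShortPres ShortPresTracked ShortPresSLFive
open scoped MatrixGroups

/-- twenty relators suffice for four dimensions -/
theorem sl_four {F : Type*} [Field F] [Fintype F] : PresBy SL(4, F) 6 20 := by
  obtain ⟨ρ, ι, cA, E, hE, hc3, hci, hgen, hsat, hinj⟩ := sl_five (F := F) 1 le_rfl
  obtain ⟨x, L, hx, hL, hC, hP⟩ := ShortPresSL3Tracked.three_tracked F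
  refine PresBy.mono (amalgam_drop S2288.alt_four_pres x L 3 3 hC hP ρ ι hgen cA hc3 (by rw [hx]; exact hci) E hsat
    fun H _ fA fB π h1 h2 h3 h4 h5 => hinj H fA fB π h1 h2 h3 (by rw [← hx]; exact h4) h5) ?_
  rw [if_pos rfl] at hE
  omega

/-- Let F be a finite field and n ≥ 4, and let Ω⁺_2n(F) be the commutator subgroup of the orthogonal group of the hyperbolic quadratic form Σ x_i y_i, with PΩ⁺_2n(F) its central quotient. Then Ω⁺_2n(F) has a presentation with 8 generators and at most 31 relations (at most 29 if n = 4 or 5), and PΩ⁺_2n(F) one with 8 generators and at most 32 relations (at most 30 if n = 4 or 5). -/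
theorem result {F : Type*} [Field F] [Fintype F] (n : ℕ) (hn : 4 ≤ n) :
    (∃ rels : Finset (FreeGroup (Fin 8)), rels.card ≤ 31 ∧ Nonempty (PresentedGroup (↑rels : Set (FreeGroup (Fin 8))) ≃* ↥(Cfsg.Omega F (Cfsg.quadFormPlus n F)))) ∧ (∃ rels : Finset (FreeGroup (Fin 8)), rels.card ≤ 32 ∧ Nonempty (PresentedGroup (↑rels : Set (FreeGroup (Fin 8))) ≃* Cfsg.POmega F (Cfsg.quadFormPlus n F))) ∧
    (n ≤ 5 → (∃ rels : Finset (FreeGroup (Fin 8)), rels.card ≤ 29 ∧ Nonempty (PresentedGroup (↑rels : Set (FreeGroup (Fin 8))) ≃* ↥(Cfsg.Omega F (Cfsg.quadFormPlus n F)))) ∧ (∃ rels : Finset (FreeGroup (Fin 8)), rels.card ≤ 30 ∧ Nonempty (PresentedGroup (↑rels : Set (FreeGroup (Fin 8))) ≃* Cfsg.POmega F (Cfsg.quadFormPlus n F)))) := by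
  obtain ⟨r, rfl⟩ : ∃ r, n = r + 2 := ⟨n - 2, by omega⟩
  have hr : 2 ≤ r := by omega
  have small : r + 2 ≤ 5 → PresBy (Cfsg.Omega F (Cfsg.quadFormPlus (r + 2) F)) 8 29 := by
    intro h5
    rcases Nat.lt_or_ge r 3 with h | h
    · obtain rfl : r = 2 := by omega
      exact (ShortPresOmegaPres.omega_pres le_rfl (sl_four (F := F))).pad.mono (by simp)
    · obtain rfl : r = 3 := by omega
      obtain ⟨rels, hcard, ⟨e⟩⟩ := (S2288.result (F := F) 5 (by omega)).2.2.2
      exact (ShortPresOmegaPres.omega_pres (by omega) (PresBy.of_presented rels hcard e)).pad.mono (by simp)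
  have gen : PresBy (Cfsg.Omega F (Cfsg.quadFormPlus (r + 2) F)) 8 31 := by
    rcases Nat.lt_or_ge 5 (r + 2) with h | h
    · obtain ⟨rels, hcard, ⟨e⟩⟩ := (S2288.result (F := F) (r + 2) hn).1
      exact (ShortPresOmegaPres.omega_pres hr (PresBy.of_presented rels hcard e)).mono (by
        rw [if_neg (by omega)])
    · exact (small h).mono (by omega)
  exact ⟨gen.presented, (ShortPresOmegaPres.pomega_pres hr gen).presented,
    fun h5 => ⟨(small h5).presented, (ShortPresOmegaPres.pomega_pres hr (small h5)).presented⟩⟩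

end Cfsg.Agent.S2295
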