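import Cfsg.Statements.S2296
import Cfsg.Agent.Lib.ShortPresSLSharp
import Cfsg.Agent.Lib.ShortPresSpBlk
import Cfsg.Agent.Lib.ShortPresAlt
import Cfsg.Agent.S2293

set_option autoImplicit false
open Cfsg

namespace Cfsg.Agent.S2296

open Matrix ShortPres ShortPresSpCore ShortPresSpModel ShortPresSpPres ShortPresTracked
open scoped MatrixGroups

/-- four letters and fourteen relators for `SL(3, F)` -/
theorem sl_three (F : Type*) [Field F] [Fintype F] : PresBy SL(3, F) 4 14 := by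
  obtain ⟨p, hp⟩ := CharP.exists F
  haveI : Fact p.Prime := ⟨CharP.char_is_prime F p⟩
  letI : Algebra (ZMod p) F := ZMod.algebra F p
  obtain ⟨ζ, hζ⟩ := IsCyclic.exists_generator (α := Fˣ)
  have hadj : Algebra.adjoin (ZMod p) {(ζ : F)} = ⊤ := by
    rw [eq_top_iff, ← SL2PresData.adjoin_sq (p := p) hζ]
    exact Algebra.adjoin_le (Set.singleton_subset_iff.mpr
      (pow_mem (Algebra.self_mem_adjoin_singleton (ZMod p) (ζ : F)) 2))
  obtain ⟨pb, hgen, hcard⟩ := SL2PresURels.exists_pb hadj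
  obtain ⟨rels, hr, ⟨e⟩⟩ : ∃ rels : Finset S2287.FG4, rels.card ≤ 14 ∧
      Nonempty (PresentedGroup (↑rels : Set S2287.FG4) ≃* SL(3, F)) := by
    by_cases hp2 : p = 2
    · subst hp2
      exact S2287.two_case hζ pb hgen hcard
    · have hodd : Odd (Fintype.card F) := by
        rw [hcard]; exact ((Fact.out : p.Prime).odd_of_ne_two hp2).pow
      have h2 : (2 : F) ≠ 0 := fun h => hp2 (((Nat.prime_dvd_prime_iff_eq (Fact.out : p.Prime) Nat.prime_two).mp
        ((CharP.cast_eq_zero_iff F p 2).mp (by exact_mod_cast h))))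
      exact S2287.odd_case hζ hodd h2 pb hgen
  exact PresBy.of_presented rels hr e

/-- `SL(3 + m, F)` from an alternating group -/
theorem sl_big {F : Type*} [Field F] [Fintype F] {m kA NA : ℕ} (hm : 1 ≤ m)
    (hA : PresBy (ShortPresGlue.altOn (Finset.univ : Finset (Fin (3 + m)))) kA NA) :
    PresBy SL(3 + m, F) (kA + 4) (NA + 14 + 8) := by
  obtain ⟨ρ, ι, E, hE, hgen, hsat, hinj⟩ := ShortPresSLSharp.sl_data (F := F) m hm
  exact (PresBy.amalgam hA (sl_three F) ρ ι hgen E hsat hinj).mono (by omega)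

/-- the symplectic group from the special linear group -/
theorem sp_of_sl {F : Type*} [Field F] [Fintype F] {n k N : ℕ} (hn : 2 ≤ n) (hA : PresBy SL(n, F) k N) :
    PresBy (Matrix.symplecticGroup (Fin n) F) (k + 3) (N + 9 + 13) := by
  obtain ⟨j, rfl⟩ : ∃ j, n = j + 2 := ⟨n - 2, by omega⟩
  obtain ⟨ζ, hζ⟩ := IsCyclic.exists_generator (α := Fˣ)
  obtain ⟨a, b, hab⟩ := exists_two (F := F)
  obtain ⟨⟨rels, hr, ⟨e⟩⟩, -, -⟩ := S2286.result (F := F)
  obtain ⟨S, hlen, hS, hblk⟩ := ShortPresSpBlk.exists_blk (F := F) j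
  have h := PresBy.amalgam hA (PresBy.of_presented rels hr e) sig lg (gen_model hζ hab hS hblk) _ (sat_model hS)
      fun H _ fA fB π h1 h2 h3 h4 => inj_amalgam hζ hab hblk H fA fB π h1 h2 h3 h4
  rw [E_length, hlen] at h
  exact h

/-- both groups -/
theorem both {F : Type*} [Field F] [Fintype F] {n k N M : ℕ} (hn : 1 ≤ n)
    (h : PresBy (Matrix.symplecticGroup (Fin n) F) k N) (hNM : N ≤ M) :
    (∃ rels : Finset (FreeGroup (Fin k)), rels.card ≤ M ∧ Nonempty (PresentedGroup (↑rels : Set (FreeGroup (Fin k))) ≃* Matrix.symplecticGroup (Fin n) F)) ∧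
    (∃ rels : Finset (FreeGroup (Fin k)), rels.card ≤ M + 1 ∧ Nonempty (PresentedGroup (↑rels : Set (FreeGroup (Fin k))) ≃* Cfsg.PSp n F)) :=
  ⟨(h.mono hNM).presented, (S2293.to_psp hn (h.mono hNM)).presented⟩

/-- Let F be a finite field. Sp_2n(F) has a presentation with 10 generators and at most 58 relations for n ≥ 4, with 9 generators and at most 57 relations for n = 4 or 5, and with 8 generators and at most 52 relations for n = 3; in each case PSp_2n(F) has a presentation with the same number of generators and at most one more relation. -/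
theorem result {F : Type*} [Field F] [Fintype F] (n : ℕ) :
    (4 ≤ n → (∃ rels : Finset (FreeGroup (Fin 10)), rels.card ≤ 58 ∧ Nonempty (PresentedGroup (↑rels : Set (FreeGroup (Fin 10))) ≃* Matrix.symplecticGroup (Fin n) F)) ∧ (∃ rels : Finset (FreeGroup (Fin 10)), rels.card ≤ 59 ∧ Nonempty (PresentedGroup (↑rels : Set (FreeGroup (Fin 10))) ≃* Cfsg.PSp n F))) ∧
    ((n = 4 ∨ n = 5) → (∃ rels : Finset (FreeGroup (Fin 9)), rels.card ≤ 57 ∧ Nonempty (PresentedGroup (↑rels : Set (FreeGroup (Fin 9))) ≃* Matrix.symplecticGroup (Fin n) F)) ∧ (∃ rels : Finset (FreeGroup (Fin 9)), rels.card ≤ 58 ∧ Nonempty (PresentedGroup (↑rels : Set (FreeGroup (Fin 9))) ≃* Cfsg.PSp n F))) ∧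
    (n = 3 → (∃ rels : Finset (FreeGroup (Fin 8)), rels.card ≤ 52 ∧ Nonempty (PresentedGroup (↑rels : Set (FreeGroup (Fin 8))) ≃* Matrix.symplecticGroup (Fin n) F)) ∧ (∃ rels : Finset (FreeGroup (Fin 8)), rels.card ≤ 53 ∧ Nonempty (PresentedGroup (↑rels : Set (FreeGroup (Fin 8))) ≃* Cfsg.PSp n F))) := by
  have small : ∀ m, (3 + m = 4 ∨ 3 + m = 5) → PresBy (Matrix.symplecticGroup (Fin (3 + m)) F) 9 51 := fun m hm =>
    sp_of_sl (by omega) (sl_big (by omega) (ShortPresAlt.alt_two _ hm))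
  refine ⟨fun h4 => ?_, fun h45 => ?_, fun h3 => ?_⟩
  · obtain ⟨m, rfl⟩ : ∃ m, n = 3 + m := ⟨n - 3, by omega⟩
    rcases Nat.lt_or_ge (3 + m) 6 with h6 | h6
    · exact both (by omega) (small m (by omega)).pad (by norm_num)
    · exact both (by omega) (sp_of_sl (by omega) (sl_big (by omega) (ShortPresAlt.alt_three _ h6))) (by norm_num)
  · obtain ⟨m, rfl⟩ : ∃ m, n = 3 + m := ⟨n - 3, by omega⟩
    exact both (by omega) (small m h45) (by norm_num)
  · subst h3
    exact both (by norm_num) (sp_of_sl (by norm_num) (sl_three F)).pad (by norm_num)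

end Cfsg.Agent.S2296
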