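import Cfsg.Statements.S2298
import Cfsg.Agent.Lib.GL2Chars

set_option autoImplicit false
open Cfsg

namespace Cfsg.Agent.S2298

open Cfsg.Agent.GL2Borel Cfsg.Agent.GL2Chars

/-- A subtype which is the range of an injective map. -/
theorem card_eq_range {A B : Type*} (p : A → Prop) (f : B → A) (hf : Function.Injective f)
    (h : ∀ x, p x ↔ ∃ b, f b = x) : Nat.card {x // p x} = Nat.card B := by
  rw [Nat.card_congr (Equiv.subtypeEquivRight h)]
  exact (Nat.card_congr (Equiv.ofInjective f hf)).symm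

/-- Over a finite field F with q elements, every irreducible complex character of GL₂ has degree 1, q − 1, q or q + 1; and when q ≥ 3 (so that these four numbers are distinct) there are exactly q − 1 irreducible characters of degree 1, exactly q − 1 of degree q, exactly (q − 1)(q − 2)/2 of degree q + 1 and exactly q(q − 1)/2 of degree q − 1. -/
theorem result {F : Type*} [Field F] [Fintype F] :
    (∀ χ : Matrix.GeneralLinearGroup (Fin 2) F → ℂ, Cfsg.IsIrrCharacter (Matrix.GeneralLinearGroup (Fin 2) F) χ →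
      χ 1 = 1 ∨ χ 1 = (Fintype.card F : ℂ) - 1 ∨ χ 1 = (Fintype.card F : ℂ) ∨ χ 1 = (Fintype.card F : ℂ) + 1) ∧
    (3 ≤ Fintype.card F →
      Nat.card {χ : Cfsg.IrrCharacter (Matrix.GeneralLinearGroup (Fin 2) F) // (χ : Matrix.GeneralLinearGroup (Fin 2) F → ℂ) 1 = 1} = Fintype.card F - 1 ∧
      Nat.card {χ : Cfsg.IrrCharacter (Matrix.GeneralLinearGroup (Fin 2) F) // (χ : Matrix.GeneralLinearGroup (Fin 2) F → ℂ) 1 = (Fintype.card F : ℂ)} = Fintype.card F - 1 ∧
      Nat.card {χ : Cfsg.IrrCharacter (Matrix.GeneralLinearGroup (Fin 2) F) // (χ : Matrix.GeneralLinearGroup (Fin 2) F → ℂ) 1 = (Fintype.card F : ℂ) + 1} = (Fintype.card F - 1) * (Fintype.card F - 2) / 2 ∧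
      Nat.card {χ : Cfsg.IrrCharacter (Matrix.GeneralLinearGroup (Fin 2) F) // (χ : Matrix.GeneralLinearGroup (Fin 2) F → ℂ) 1 = (Fintype.card F : ℂ) - 1} = Fintype.card F * (Fintype.card F - 1) / 2) := by
  classical
  refine ⟨fun χ hχ => ?_, fun hq => ?_⟩
  · rcases degree_cases hχ with ⟨-, e⟩ | ⟨-, e⟩ | ⟨-, e⟩ | ⟨-, e⟩
    · exact Or.inl e
    · exact Or.inr (Or.inr (Or.inl e))
    · exact Or.inr (Or.inr (Or.inr e))
    · exact Or.inr (Or.inl e)
  have hq0 := GL2Chars.card_ne (F := F)
  have hqq := GL2Chars.card_sub_one_ne (F := F)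
  have hq2 : (Fintype.card F : ℂ) ≠ 2 := by exact_mod_cast (by omega : Fintype.card F ≠ 2)
  have hdiv : ∀ a b : ℕ, 2 * a = b → a = b / 2 := by omega
  refine ⟨?_, ?_, ?_, ?_⟩
  · rw [card_eq_range _ (fun α => nonCusp (Sum.inl α))
      (fun a b h => Sum.inl_injective (nonCusp_injective h)) (fun χ => ?_), card_mulChar]
    constructor
    · intro h
      rcases degree_cases χ.2 with ⟨⟨α, e⟩, -⟩ | ⟨-, e⟩ | ⟨-, e⟩ | ⟨-, e⟩
      · exact ⟨α, Subtype.ext e.symm⟩
      all_goals exfalso; rw [h] at e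
      · exact hqq (by linear_combination -e)
      · exact hq0 (by linear_combination -e)
      · exact hq2 (by linear_combination -e)
    · rintro ⟨α, rfl⟩; exact detChar_one α
  · rw [card_eq_range _ (fun α => nonCusp (Sum.inr (Sum.inl α)))
      (fun a b h => Sum.inl_injective (Sum.inr_injective (nonCusp_injective h))) (fun χ => ?_),
      card_mulChar]
    constructor
    · intro h
      rcases degree_cases χ.2 with ⟨-, e⟩ | ⟨⟨α, e⟩, -⟩ | ⟨-, e⟩ | ⟨-, e⟩
      · exfalso; rw [h] at e; exact hqq (by linear_combination e)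
      · exact ⟨α, Subtype.ext e.symm⟩
      all_goals exfalso; rw [h] at e
      · exact one_ne_zero (by linear_combination -e : (1 : ℂ) = 0)
      · exact one_ne_zero (by linear_combination e : (1 : ℂ) = 0)
    · rintro ⟨α, rfl⟩; exact stChar_one α
  · rw [card_eq_range _ (fun z => nonCusp (Sum.inr (Sum.inr z)))
      (fun a b h => Sum.inr_injective (Sum.inr_injective (nonCusp_injective h))) (fun χ => ?_)]
    · exact hdiv _ _ two_mul_card_sym2
    constructor
    · intro h
      rcases degree_cases χ.2 with ⟨-, e⟩ | ⟨-, e⟩ | ⟨⟨α, β, hne, e⟩, -⟩ | ⟨-, e⟩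
      · exfalso; rw [h] at e; exact hq0 (by linear_combination e)
      · exfalso; rw [h] at e; exact one_ne_zero (by linear_combination e : (1 : ℂ) = 0)
      · exact ⟨⟨s(α, β), by simpa using hne⟩, Subtype.ext (by simpa [nonCusp] using e.symm)⟩
      · exfalso; rw [h] at e; exact two_ne_zero (by linear_combination e : (2 : ℂ) = 0)
    · rintro ⟨z, rfl⟩; exact nonCusp_one (Sum.inr (Sum.inr z))
  · refine hdiv _ _ (Eq.trans (congrArg (2 * ·) (Nat.card_congr (Equiv.subtypeEquivRight fun χ => ?_)))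
      cusp_count.1)
    constructor
    · intro h
      rcases degree_cases χ.2 with ⟨-, e⟩ | ⟨-, e⟩ | ⟨-, e⟩ | ⟨hc, -⟩
      · exfalso; rw [h] at e; exact hq2 (by linear_combination e)
      · exfalso; rw [h] at e; exact one_ne_zero (by linear_combination -e : (1 : ℂ) = 0)
      · exfalso; rw [h] at e; exact two_ne_zero (by linear_combination -e : (2 : ℂ) = 0)
      · exact hc.not_mem
    · intro h; exact (cusp_count.2 _ (isCusp_of_not_mem h)).1

end Cfsg.Agent.S2298
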