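import Cfsg.Statements.S2301
import Cfsg.Agent.Lib.SL2Classes

set_option autoImplicit false
open Cfsg

namespace Cfsg.Agent.S2301

open Cfsg.Agent.PSL2Elements Cfsg.Agent.SL2Classes

/-- Over a finite field with q elements of odd characteristic p, the elements of order p of SL₂ (the non-identity unipotent elements) fall into exactly two conjugacy classes, each of size (q² − 1)/2; two upper unitriangular matrices with non-zero off-diagonal entries b and b′ are conjugate exactly when bb′ is a square. -/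
theorem result {F : Type*} [Field F] [Fintype F] (p : ℕ) [Fact p.Prime] [CharP F p] (hp : p ≠ 2) :
    Nat.card {C : ConjClasses (Matrix.SpecialLinearGroup (Fin 2) F) // ∃ g : Matrix.SpecialLinearGroup (Fin 2) F, orderOf g = p ∧ ConjClasses.mk g = C} = 2 ∧
    (∀ g : Matrix.SpecialLinearGroup (Fin 2) F, orderOf g = p → Nat.card (ConjClasses.mk g).carrier = (Fintype.card F ^ 2 - 1) / 2) ∧
    ∀ g h : Matrix.SpecialLinearGroup (Fin 2) F, (g : Matrix (Fin 2) (Fin 2) F) 0 0 = 1 → (g : Matrix (Fin 2) (Fin 2) F) 1 1 = 1 → (g : Matrix (Fin 2) (Fin 2) F) 1 0 = 0 → (g : Matrix (Fin 2) (Fin 2) F) 0 1 ≠ 0 →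
      (h : Matrix (Fin 2) (Fin 2) F) 0 0 = 1 → (h : Matrix (Fin 2) (Fin 2) F) 1 1 = 1 → (h : Matrix (Fin 2) (Fin 2) F) 1 0 = 0 → (h : Matrix (Fin 2) (Fin 2) F) 0 1 ≠ 0 →
      (IsConj g h ↔ IsSquare ((g : Matrix (Fin 2) (Fin 2) F) 0 1 * (h : Matrix (Fin 2) (Fin 2) F) 0 1)) := by
  classical
  have h2 : (2 : F) ≠ 0 := by
    intro e
    have : CharP F 2 := CharTwo.of_one_ne_zero_of_two_eq_zero one_ne_zero e
    exact hp (CharP.eq F ‹_› this)
  obtain ⟨ν, hν⟩ : ∃ ν : F, ¬ IsSquare ν :=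
    FiniteField.exists_nonsquare (by rwa [ringChar.eq F p])
  have hν0 : ν ≠ 0 := fun h => hν (h ▸ IsSquare.zero)
  have hne : ConjClasses.mk (u (1 : F)) ≠ ConjClasses.mk (u ν) := fun e =>
    hν (by simpa using (isConj_u_iff_isSquare one_ne_zero hν0).1 (ConjClasses.mk_eq_mk_iff_isConj.1 e))
  have ordu : ∀ x : F, x ≠ 0 → orderOf (u x) = p := fun x hx =>
    (orderOf_eq_char_iff p (u x)).2 ⟨tr_u x, u_ne_one hx⟩
  have key : ∀ g : Matrix.SpecialLinearGroup (Fin 2) F, orderOf g = p →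
      ∃ x : F, x ≠ 0 ∧ IsConj g (u x) := fun g hg => by
    obtain ⟨h1, h2⟩ := (orderOf_eq_char_iff p g).1 hg
    exact exists_u_of_tr_two h1 h2
  refine ⟨?_, ?_, ?_⟩
  · have hs : {C : ConjClasses (Matrix.SpecialLinearGroup (Fin 2) F) |
        ∃ g : Matrix.SpecialLinearGroup (Fin 2) F, orderOf g = p ∧ ConjClasses.mk g = C} =
        {ConjClasses.mk (u (1 : F)), ConjClasses.mk (u ν)} := by
      ext C
      constructor
      · rintro ⟨g, hg, rfl⟩
        obtain ⟨x, hx, hc⟩ := key g hg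
        rcases isConj_u_one_or hν hx with e | e
        · exact Or.inl (ConjClasses.mk_eq_mk_iff_isConj.2 (hc.trans e))
        · exact Or.inr (ConjClasses.mk_eq_mk_iff_isConj.2 (hc.trans e))
      · rintro (rfl | rfl)
        · exact ⟨_, ordu 1 one_ne_zero, rfl⟩
        · exact ⟨_, ordu ν hν0, rfl⟩
    change Nat.card ↥{C : ConjClasses (Matrix.SpecialLinearGroup (Fin 2) F) |
      ∃ g : Matrix.SpecialLinearGroup (Fin 2) F, orderOf g = p ∧ ConjClasses.mk g = C} = 2
    rw [hs, Nat.card_coe_set_eq, Set.ncard_pair hne]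
  · intro g hg
    obtain ⟨x, hx, hc⟩ := key g hg
    rw [ConjClasses.mk_eq_mk_iff_isConj.2 hc, ← Nat.card_eq_fintype_card, ← card_class_u_odd hx h2]
    omega
  · intro g h g00 g11 g10 g01 h00 h11 h10 h01
    have eg : g = u ((g : Matrix (Fin 2) (Fin 2) F) 0 1) := by
      apply ext2 <;> simp [u, g00, g11, g10]
    have eh : h = u ((h : Matrix (Fin 2) (Fin 2) F) 0 1) := by
      apply ext2 <;> simp [u, h00, h11, h10]
    conv_lhs => rw [eg, eh]
    exact isConj_u_iff_isSquare g01 h01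

end Cfsg.Agent.S2301
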