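import Cfsg.Statements.S2302
import Cfsg.Agent.Lib.SL2Classes

set_option autoImplicit false
open Cfsg

namespace Cfsg.Agent.S2302

open Cfsg.Agent.PSL2Elements Cfsg.Agent.SL2Classes

/-- Over a finite field with q elements of characteristic 2, the involutions of SL₂ (the non-identity unipotent elements) form a single conjugacy class, of size q² − 1. -/
theorem result {F : Type*} [Field F] [Fintype F] [CharP F 2] (g h : Matrix.SpecialLinearGroup (Fin 2) F) (hg : orderOf g = 2) (hh : orderOf h = 2) :
    IsConj g h ∧ Nat.card (ConjClasses.mk g).carrier = Fintype.card F ^ 2 - 1 := by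
  have : Fact (Nat.Prime 2) := ⟨Nat.prime_two⟩
  have key : ∀ A : Matrix.SpecialLinearGroup (Fin 2) F, orderOf A = 2 → IsConj A (u 1) := fun A hA => by
    obtain ⟨h1, h2⟩ := (orderOf_eq_char_iff 2 A).1 hA
    obtain ⟨x, hx, hc⟩ := exists_u_of_tr_two h1 h2
    refine hc.trans ?_
    rw [isConj_u_iff_isSquare hx one_ne_zero, mul_one]
    exact FiniteField.isSquare_of_char_two (ringChar.eq F 2) x
  refine ⟨(key g hg).trans (key h hh).symm, ?_⟩
  rw [ConjClasses.mk_eq_mk_iff_isConj.2 (key g hg),
    card_class_u_two one_ne_zero CharTwo.two_eq_zero, Nat.card_eq_fintype_card]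

end Cfsg.Agent.S2302
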