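import Cfsg.Statements.S2305
import Cfsg.Agent.Lib.GL2Borel

set_option autoImplicit false
open Cfsg

namespace Cfsg.Agent.S2305

open Cfsg.Agent.GL2Borel

/-- Two sums of two linear characters agreeing pointwise share a summand. -/
theorem pair_eq {G : Type*} [Group G] (a b c d : G →* ℂ) (h : ∀ z, a z + b z = c z + d z) :
    a = c ∨ a = d := by
  have hp : ∀ z, a z * b z = c z * d z := fun z => by
    have h1 := h z
    have h2 := h (z * z)
    simp only [map_mul] at h2
    linear_combination ((a z + b z + c z + d z) / 2) * h1 - (1 / 2 : ℂ) * h2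
  have hz : ∀ z, a z = c z ∨ a z = d z := fun z => by
    have : (a z - c z) * (a z - d z) = 0 := by linear_combination a z * h z - hp z
    rcases mul_eq_zero.1 this with e | e
    · exact Or.inl (sub_eq_zero.1 e)
    · exact Or.inr (sub_eq_zero.1 e)
  by_contra hc
  push Not at hc
  obtain ⟨x, hx⟩ : ∃ x, a x ≠ c x := by
    by_contra h'; push Not at h'; exact hc.1 (MonoidHom.ext h')
  obtain ⟨y, hy⟩ : ∃ y, a y ≠ d y := by
    by_contra h'; push Not at h'; exact hc.2 (MonoidHom.ext h')
  have hx' := (hz x).resolve_left hx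
  have hy' := (hz y).resolve_right hy
  have hne : ∀ z, a z ≠ 0 := fun z => (isUnit_iff_ne_zero.1 ((Group.isUnit z).map a))
  rcases hz (x * y) with e | e <;> simp only [map_mul] at e
  · exact hx (mul_right_cancel₀ (hne y) (by rw [e, hy']))
  · exact hy (mul_left_cancel₀ (hne x) (by rw [e, hx']))

/-- The induced function does not depend on the order of the two characters. -/
theorem symm_pair {F : Type*} [Field F] [Fintype F] [DecidableEq F] (α β : MulChar F ℂ)
    (g : Matrix.GeneralLinearGroup (Fin 2) F) :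
    Cfsg.indFun (Cfsg.upperTriangularGL 2 F) (borelChar α β) g =
      Cfsg.indFun (Cfsg.upperTriangularGL 2 F) (borelChar β α) g := by
  rw [ind_eq, ind_eq, Fintype.sum_option, Fintype.sum_option]
  by_cases h10 : (g : Matrix (Fin 2) (Fin 2) F) 1 0 = 0
  · simp only [term, h10, if_true, zero_mul, zero_add, mul_zero, sub_zero]
    by_cases hd : (g : Matrix (Fin 2) (Fin 2) F) 0 0 = (g : Matrix (Fin 2) (Fin 2) F) 1 1
    · simp only [hd, mul_comm (α _) (β _)]
    · have hne : (g : Matrix (Fin 2) (Fin 2) F) 1 1 - (g : Matrix (Fin 2) (Fin 2) F) 0 0 ≠ 0 :=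
        sub_ne_zero.2 (Ne.symm hd)
      have huniq : ∀ t : F, ((g : Matrix (Fin 2) (Fin 2) F) 1 1 - (g : Matrix (Fin 2) (Fin 2) F) 0 0) *
          t - (g : Matrix (Fin 2) (Fin 2) F) 0 1 = 0 ↔ t = (g : Matrix (Fin 2) (Fin 2) F) 0 1 /
          ((g : Matrix (Fin 2) (Fin 2) F) 1 1 - (g : Matrix (Fin 2) (Fin 2) F) 0 0) := fun t => by
        rw [sub_eq_zero, eq_div_iff hne, mul_comm]
      simp only [huniq, Finset.sum_ite_eq', Finset.mem_univ, if_true]
      ring
  · simp only [term, if_neg h10, zero_add]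
    let σ : F ≃ F := Equiv.subLeft (((g : Matrix (Fin 2) (Fin 2) F) 0 0 -
      (g : Matrix (Fin 2) (Fin 2) F) 1 1) / (g : Matrix (Fin 2) (Fin 2) F) 1 0)
    refine Fintype.sum_equiv σ _ _ fun t => ?_
    simp only [σ, Equiv.subLeft_apply]
    set c := (g : Matrix (Fin 2) (Fin 2) F) 1 0
    set a := (g : Matrix (Fin 2) (Fin 2) F) 0 0
    set b := (g : Matrix (Fin 2) (Fin 2) F) 0 1
    set d := (g : Matrix (Fin 2) (Fin 2) F) 1 1
    have e1 : c * ((a - d) / c - t) + d = a - t * c := by field_simp; ring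
    have e2 : a - ((a - d) / c - t) * c = c * t + d := by field_simp; ring
    have e3 : c * ((a - d) / c - t) ^ 2 + (d - a) * ((a - d) / c - t) - b =
        c * t ^ 2 + (d - a) * t - b := by field_simp; ring
    rw [e1, e2, e3]
    split_ifs <;> first | ring | rfl

/-- Over a finite field F, for multiplicative characters α, β, α′, β′ of F, the characters of GL₂ induced from the linear characters b ↦ α(b₁₁) β(b₂₂) and b ↦ α′(b₁₁) β′(b₂₂) of the upper triangular subgroup coincide exactly when {α, β} = {α′, β′} as unordered pairs. -/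
theorem result {F : Type*} [Field F] [Fintype F] [DecidableEq F] (α β α' β' : MulChar F ℂ) :
    Cfsg.indFun (Cfsg.upperTriangularGL 2 F) (fun b => α (((b : Matrix.GeneralLinearGroup (Fin 2) F) : Matrix (Fin 2) (Fin 2) F) 0 0) * β (((b : Matrix.GeneralLinearGroup (Fin 2) F) : Matrix (Fin 2) (Fin 2) F) 1 1)) = Cfsg.indFun (Cfsg.upperTriangularGL 2 F) (fun b => α' (((b : Matrix.GeneralLinearGroup (Fin 2) F) : Matrix (Fin 2) (Fin 2) F) 0 0) * β' (((b : Matrix.GeneralLinearGroup (Fin 2) F) : Matrix (Fin 2) (Fin 2) F) 1 1)) ↔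
      (α = α' ∧ β = β') ∨ (α = β' ∧ β = α') := by
  classical
  change Cfsg.indFun (Cfsg.upperTriangularGL 2 F) (borelChar α β) =
    Cfsg.indFun (Cfsg.upperTriangularGL 2 F) (borelChar α' β') ↔ _
  constructor
  · intro h
    have key : ∀ a d : Fˣ, α a * β d + α d * β a = α' a * β' d + α' d * β' a := by
      intro a d
      have hg := congrFun h (gl a 0 0 d (by simp))
      rw [ind_eq, ind_eq, Fintype.sum_option, Fintype.sum_option] at hg
      by_cases had : (a : F) = d
      · have hq : ((Fintype.card F : ℂ) + 1) ≠ 0 := Nat.cast_add_one_ne_zero _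
        simp [term, had] at hg
        rw [had]
        refine mul_left_cancel₀ hq ?_
        linear_combination (2 : ℂ) * hg
      · have hd : (d : F) - a ≠ 0 := sub_ne_zero.2 (Ne.symm had)
        simp [term, hd] at hg
        exact hg
    let χ : MulChar F ℂ → MulChar F ℂ → (Fˣ × Fˣ) →* ℂ := fun γ δ =>
      (γ.toMonoidHom.comp ((Units.coeHom F).comp (MonoidHom.fst Fˣ Fˣ))) *
        (δ.toMonoidHom.comp ((Units.coeHom F).comp (MonoidHom.snd Fˣ Fˣ)))
    have hχ : ∀ γ δ z, χ γ δ z = γ z.1 * δ z.2 := fun γ δ z => rfl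
    have hinj : ∀ γ δ γ' δ', χ γ δ = χ γ' δ' → γ = γ' ∧ δ = δ' := by
      intro γ δ γ' δ' e
      constructor
      · refine MulChar.ext fun a => ?_
        simpa [hχ] using DFunLike.congr_fun e (a, 1)
      · refine MulChar.ext fun a => ?_
        simpa [hχ] using DFunLike.congr_fun e (1, a)
    rcases pair_eq (χ α β) (χ β α) (χ α' β') (χ β' α') (fun z => by
      simp only [hχ]; linear_combination key z.1 z.2) with e | e
    · exact Or.inl (hinj _ _ _ _ e)
    · exact Or.inr (hinj _ _ _ _ e)
  · rintro (⟨rfl, rfl⟩ | ⟨rfl, rfl⟩)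
    · rfl
    · exact funext fun g => symm_pair α β g

end Cfsg.Agent.S2305
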