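import Cfsg.Statements.S2307
import Cfsg.Agent.Lib.SL2Halves

set_option autoImplicit false
open Cfsg

namespace Cfsg.Agent.S2307

open Cfsg.Agent.GL2Borel Cfsg.Agent.GL2Chars Cfsg.Agent.PSL2Elements Cfsg.Agent.SL2Borel Cfsg.Agent.SL2Chars
open Cfsg.Agent.SL2Odd Cfsg.Agent.SL2Halves

/-- Over a finite field F with q elements, q odd, let α be the multiplicative character of F of order 2. The character of SL₂ induced from the linear character b ↦ α(b₁₁) of the upper triangular subgroup is the sum of two distinct irreducible characters, each of degree (q + 1)/2, which are conjugate under GL₂: some fixed element of GL₂ conjugates the one into the other. -/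
theorem result {F : Type*} [Field F] [Fintype F] [DecidableEq F] (hodd : Odd (Fintype.card F)) (α : MulChar F ℂ)
    (hα : α ^ 2 = 1) (hα1 : α ≠ 1) :
    ∃ χ₁ χ₂ : Matrix.SpecialLinearGroup (Fin 2) F → ℂ, Cfsg.IsIrrCharacter (Matrix.SpecialLinearGroup (Fin 2) F) χ₁ ∧ Cfsg.IsIrrCharacter (Matrix.SpecialLinearGroup (Fin 2) F) χ₂ ∧ χ₁ ≠ χ₂ ∧
      Cfsg.indFun ((Cfsg.upperTriangularGL 2 F).comap Matrix.SpecialLinearGroup.toGL) (fun b => α (((b : Matrix.SpecialLinearGroup (Fin 2) F) : Matrix (Fin 2) (Fin 2) F) 0 0)) = χ₁ + χ₂ ∧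
      χ₁ 1 = (((Fintype.card F + 1) / 2 : ℕ) : ℂ) ∧ χ₂ 1 = (((Fintype.card F + 1) / 2 : ℕ) : ℂ) ∧
      ∃ x : Matrix.GeneralLinearGroup (Fin 2) F, ∀ g h : Matrix.SpecialLinearGroup (Fin 2) F,
        Matrix.SpecialLinearGroup.toGL h = x * Matrix.SpecialLinearGroup.toGL g * x⁻¹ → χ₂ h = χ₁ g := by
  obtain ⟨h, -, hq⟩ := exists_half hodd
  obtain ⟨-, ν, hν⟩ := SL2Classes.two_ne_zero_of_odd hodd
  obtain ⟨χ₁, χ₂, h₁, h₂, hne, he, d₁, d₂, r₁, r₂⟩ := exists_halves hodd hq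
  have k₁ : HasKind χ₁ h 3 := ⟨by simp [tbl, d₁], by simp [tbl, r₁]⟩
  have k₂ : HasKind χ₂ h 3 := ⟨by simp [tbl, d₂], by simp [tbl, r₂]⟩
  have e1 : (Fintype.card F + 1) / 2 = h + 1 := by omega
  have hν0 : ν ≠ 0 := fun e => hν (e ▸ IsSquare.zero)
  obtain rfl := eq_quad hα1 hα
  refine ⟨χ₁, χ₂, h₁, h₂, hne, he, by simp [e1, d₁], by simp [e1, d₂],
    gl ν 0 0 1 (by simpa using hν0), fun g k hk => ?_⟩
  have e := congrFun (eq_conjNu hodd hν hq h₂ h₁ (Or.inl rfl) k₂ k₁ hne.symm) g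
  have hk' : k = conjNu (Units.mk0 ν hν0) g := by
    apply Matrix.SpecialLinearGroup.toGL_injective
    rw [hk, toGL_conjNu]
    rfl
  rw [e, hk']

end Cfsg.Agent.S2307
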