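import Cfsg.Statements.S2308
import Cfsg.Agent.Lib.GL2Borel

set_option autoImplicit false
open Cfsg

namespace Cfsg.Agent.S2308

open Cfsg.Agent.GL2Borel

/-- Values of the permutation character of GL₂ over a finite field F with q elements on the cosets of its upper triangular subgroup (equivalently, the number of lines of F² that an element maps to themselves): q + 1 at a scalar matrix, 2 at a diagonal matrix with two different diagonal entries, 0 at an element with no eigenvector in F², and 1 at an upper triangular matrix with equal diagonal entries and non-zero upper right entry. -/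
theorem result {F : Type*} [Field F] [Fintype F] (g : Matrix.GeneralLinearGroup (Fin 2) F) :
    ((∃ a : F, (g : Matrix (Fin 2) (Fin 2) F) = a • (1 : Matrix (Fin 2) (Fin 2) F)) → Cfsg.fixedPointCharacter (Cfsg.upperTriangularGL 2 F) g = Fintype.card F + 1) ∧
    ((g : Matrix (Fin 2) (Fin 2) F) 0 1 = 0 → (g : Matrix (Fin 2) (Fin 2) F) 1 0 = 0 → (g : Matrix (Fin 2) (Fin 2) F) 0 0 ≠ (g : Matrix (Fin 2) (Fin 2) F) 1 1 →
      Cfsg.fixedPointCharacter (Cfsg.upperTriangularGL 2 F) g = 2) ∧
    ((∀ (c : F) (v : Fin 2 → F), v ≠ 0 → (g : Matrix (Fin 2) (Fin 2) F).mulVec v ≠ c • v) → Cfsg.fixedPointCharacter (Cfsg.upperTriangularGL 2 F) g = 0) ∧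
    ((g : Matrix (Fin 2) (Fin 2) F) 1 0 = 0 → (g : Matrix (Fin 2) (Fin 2) F) 0 0 = (g : Matrix (Fin 2) (Fin 2) F) 1 1 → (g : Matrix (Fin 2) (Fin 2) F) 0 1 ≠ 0 →
      Cfsg.fixedPointCharacter (Cfsg.upperTriangularGL 2 F) g = 1) := by
  classical
  refine ⟨?_, ?_, ?_, ?_⟩
  · rintro ⟨a, ha⟩
    have h : ∀ l, Fixes g l := fun l => by cases l <;> simp [Fixes, ha]
    rw [fixedPointCharacter_eq, Nat.card_congr (Equiv.subtypeUnivEquiv h), Nat.card_eq_fintype_card,
      Fintype.card_option]
    push_cast; ring
  · intro h01 h10 hne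
    rw [fixedPointCharacter_eq]
    have hs : {l : Option F | Fixes g l} = {none, some 0} := by
      ext l
      cases l with
      | none => simp [Fixes, h10]
      | some t => simp [Fixes, h10, h01, sub_eq_zero, Ne.symm hne]
    change ((Nat.card ↥{l : Option F | Fixes g l} : ℕ) : ℂ) = 2
    rw [hs, Nat.card_coe_set_eq, Set.ncard_pair (by simp)]
    simp
  · intro h
    rw [fixedPointCharacter_eq]
    have : IsEmpty {l : Option F // Fixes g l} := ⟨fun l => by
      obtain ⟨c, v, hv, he⟩ := eigvec_of_fixes l.2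
      exact h c v hv he⟩
    simp
  · intro h10 hd h01
    rw [fixedPointCharacter_eq]
    have hs : {l : Option F | Fixes g l} = {none} := by
      ext l
      cases l with
      | none => simp [Fixes, h10]
      | some t => simp [Fixes, h10, hd, h01]
    change ((Nat.card ↥{l : Option F | Fixes g l} : ℕ) : ℂ) = 1
    rw [hs, Nat.card_coe_set_eq, Set.ncard_singleton]
    simp

end Cfsg.Agent.S2308
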