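import Cfsg.Statements.S2309
import Cfsg.Agent.Lib.GL2Chars

set_option autoImplicit false
open Cfsg

namespace Cfsg.Agent.S2309

open Cfsg.Agent.GL2Borel Cfsg.Agent.GL2Chars

/-- Over a finite field F with q elements: every irreducible complex character of GL₂ of degree q − 1 vanishes at every diagonal matrix with two distinct entries, and every irreducible complex character of degree q + 1 vanishes at every element with no eigenvector in F². -/
theorem result {F : Type*} [Field F] [Fintype F] (χ : Matrix.GeneralLinearGroup (Fin 2) F → ℂ) (hχ : Cfsg.IsIrrCharacter (Matrix.GeneralLinearGroup (Fin 2) F) χ) (g : Matrix.GeneralLinearGroup (Fin 2) F) :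
    (χ 1 = (Fintype.card F : ℂ) - 1 → (g : Matrix (Fin 2) (Fin 2) F) 0 1 = 0 → (g : Matrix (Fin 2) (Fin 2) F) 1 0 = 0 → (g : Matrix (Fin 2) (Fin 2) F) 0 0 ≠ (g : Matrix (Fin 2) (Fin 2) F) 1 1 → χ g = 0) ∧
    (χ 1 = (Fintype.card F : ℂ) + 1 → (∀ (c : F) (v : Fin 2 → F), v ≠ 0 → (g : Matrix (Fin 2) (Fin 2) F).mulVec v ≠ c • v) → χ g = 0) := by
  classical
  have hq := Fintype.one_lt_card (α := F)
  refine ⟨fun hdeg h01 h10 hne => ?_, fun hdeg hell => ?_⟩
  · obtain ⟨a, d, had, rfl⟩ := exists_bor_diag g h01 h10 hne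
    have h3 := card_ne_two_of_units had
    rcases degree_cases hχ with ⟨-, e⟩ | ⟨-, e⟩ | ⟨-, e⟩ | ⟨hc, -⟩
    · exfalso
      have : ((Fintype.card F : ℕ) : ℂ) = ((2 : ℕ) : ℂ) := by push_cast; linear_combination -hdeg + e
      have := Nat.cast_injective this
      omega
    · exact absurd (e.symm.trans hdeg) (by intro h; exact one_ne_zero (by linear_combination h : (1 : ℂ) = 0))
    · exact absurd (e.symm.trans hdeg) (by intro h; exact two_ne_zero (by linear_combination h : (2 : ℂ) = 0))
    · exact hc.diag had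
  · rcases degree_cases hχ with ⟨-, e⟩ | ⟨-, e⟩ | ⟨⟨α, β, -, rfl⟩, -⟩ | ⟨-, e⟩
    · exfalso
      have : (Fintype.card F : ℂ) = 0 := by linear_combination -hdeg + e
      exact GL2Chars.card_ne this
    · exact absurd (e.symm.trans hdeg) (by intro h; exact one_ne_zero (by linear_combination -h : (1 : ℂ) = 0))
    · exact ind_elliptic α β g hell
    · exact absurd (e.symm.trans hdeg) (by intro h; exact two_ne_zero (by linear_combination -h : (2 : ℂ) = 0))

end Cfsg.Agent.S2309
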