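import Cfsg.Statements.S2310
import Cfsg.Agent.Lib.GL2Chars

set_option autoImplicit false
open Cfsg

namespace Cfsg.Agent.S2310

open Cfsg.Agent.GL2Borel Cfsg.Agent.GL2Chars

/-- Over a finite field F with q ≥ 3 elements, let u be the upper unitriangular matrix of GL₂ with off-diagonal entry 1. An irreducible complex character χ of GL₂ takes at u the value 1 if χ has degree 1 or q + 1, the value −1 if χ has degree q − 1, and the value 0 if χ has degree q. -/
theorem result {F : Type*} [Field F] [Fintype F] (hq : 3 ≤ Fintype.card F) (χ : Matrix.GeneralLinearGroup (Fin 2) F → ℂ) (hχ : Cfsg.IsIrrCharacter (Matrix.GeneralLinearGroup (Fin 2) F) χ)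
    (u : Matrix.GeneralLinearGroup (Fin 2) F) (hu : (u : Matrix (Fin 2) (Fin 2) F) = !![1, 1; 0, 1]) :
    (χ 1 = 1 → χ u = 1) ∧ (χ 1 = (Fintype.card F : ℂ) + 1 → χ u = 1) ∧
    (χ 1 = (Fintype.card F : ℂ) - 1 → χ u = -1) ∧ (χ 1 = (Fintype.card F : ℂ) → χ u = 0) := by
  classical
  have hu' : u = (bor (1 : Fˣ) 1 (1 : F) : GL (Fin 2) F) := by
    apply Units.ext; rw [hu]; simp [bor]
  subst hu'
  have hq1 : (Fintype.card F : ℂ) ≠ 2 := by exact_mod_cast (by omega : Fintype.card F ≠ 2)
  have hq0 := GL2Chars.card_ne (F := F)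
  have hqq := GL2Chars.card_sub_one_ne (F := F)
  rcases degree_cases hχ with ⟨⟨α, rfl⟩, e⟩ | ⟨⟨α, rfl⟩, e⟩ | ⟨⟨α, β, -, rfl⟩, e⟩ | ⟨hc, e⟩
  · have hv : detChar α (bor (1 : Fˣ) 1 (1 : F) : GL (Fin 2) F) = 1 := by simp [detChar_bor]
    refine ⟨fun _ => hv, fun _ => hv, fun h => ?_, fun h => ?_⟩ <;> exfalso <;> rw [e] at h
    · exact hq1 (by linear_combination -h)
    · exact hqq (by linear_combination -h)
  · have hv : stChar α (bor (1 : Fˣ) 1 (1 : F) : GL (Fin 2) F) = 0 := by
      simp [stChar, ind_bor, detChar_bor]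
    refine ⟨fun h => ?_, fun h => ?_, fun h => ?_, fun _ => hv⟩ <;> exfalso <;> rw [e] at h
    · exact hqq (by linear_combination h)
    · exact one_ne_zero (by linear_combination -h : (1 : ℂ) = 0)
    · exact one_ne_zero (by linear_combination h : (1 : ℂ) = 0)
  · refine ⟨fun _ => ?_, fun _ => ?_, fun h => ?_, fun h => ?_⟩
    · simp [ind_bor]
    · simp [ind_bor]
    · rw [e] at h; exact absurd (by linear_combination h : (2 : ℂ) = 0) two_ne_zero
    · rw [e] at h; exact absurd (by linear_combination h : (1 : ℂ) = 0) one_ne_zero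
  · refine ⟨fun h => ?_, fun h => ?_, fun _ => (cusp_count.2 χ hc).2, fun h => ?_⟩ <;> exfalso <;>
      rw [e] at h
    · exact hq1 (by linear_combination h)
    · exact two_ne_zero (by linear_combination -h : (2 : ℂ) = 0)
    · exact one_ne_zero (by linear_combination -h : (1 : ℂ) = 0)

end Cfsg.Agent.S2310
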