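import Cfsg.Statements.S2315
import Cfsg.Agent.Lib.UnipotentGL

set_option autoImplicit false
open Cfsg

namespace Cfsg.Agent.S2315

open Module

section

variable {F V : Type*} [Field F] [AddCommGroup V] [Module F V]

/-- The orbit of a vector under a map, up to vanishing, is independent. -/
theorem linearIndependent_orbit (T : Module.End F V) (v : V) {m : ℕ} (h0 : (T ^ m) v = 0)
    (hlt : ∀ i < m, (T ^ i) v ≠ 0) : LinearIndependent F fun i : Fin m => (T ^ (i : ℕ)) v := by
  classical
  rw [Fintype.linearIndependent_iff]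
  intro g hg
  suffices h : ∀ k : ℕ, ∀ i : Fin m, (i : ℕ) = k → g i = 0 from fun i => h _ i rfl
  intro k
  induction k using Nat.strong_induction_on with
  | _ k ih =>
    intro i hik
    have h1 := congrArg (T ^ (m - 1 - k)) hg
    rw [map_sum, map_zero, Finset.sum_eq_single i] at h1
    · rw [map_smul, ← Module.End.mul_apply, ← pow_add, smul_eq_zero] at h1
      exact h1.resolve_right (by rw [hik]; exact hlt _ (by have := i.2; omega))
    · intro j _ hji
      rcases lt_or_gt_of_ne (fun e : (j : ℕ) = k => hji (Fin.ext (e.trans hik.symm))) with hj | hj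
      · rw [ih _ hj j rfl, zero_smul, map_zero]
      · rw [map_smul, ← Module.End.mul_apply, ← pow_add,
          show m - 1 - k + (j : ℕ) = ((j : ℕ) - k - 1) + m by have := j.2; omega, pow_add,
          Module.End.mul_apply, h0, map_zero, smul_zero]
    · simp

variable {m : ℕ} (u : Fin m → V)

/-- The successor of a vector of the tuple. -/
def nxt (i : Fin m) : V := if h : (i : ℕ) + 1 < m then u ⟨i + 1, h⟩ else 0

/-- Nilpotent maps shifting the tuple. -/
def Shift := {T : Module.End F V // IsNilpotent T ∧ ∀ i, T (u i) = nxt u i}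

theorem pow_apply_of_shift (T : Module.End F V) (h : ∀ i, T (u i) = nxt u i) (k : ℕ) (i : Fin m) :
    (T ^ k) (u i) = if hk : (i : ℕ) + k < m then u ⟨i + k, hk⟩ else 0 := by
  induction k with
  | zero => simp
  | succ k ih =>
    rw [pow_succ', Module.End.mul_apply, ih]
    by_cases hk : (i : ℕ) + k < m
    · rw [dif_pos hk, h, nxt]
      rfl
    · rw [dif_neg hk, map_zero, dif_neg (by omega)]

instance [Finite F] [FiniteDimensional F V] : Finite (Shift (F := F) u) := by
  have : Finite (Module.End F V) := Module.finite_of_finite F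
  exact Subtype.finite

theorem card_shift [Finite F] [FiniteDimensional F V] (hu : LinearIndependent F u) :
    ∃ W : Submodule F V, finrank F W + m = finrank F V ∧
      Nat.card (Shift (F := F) u) =
        Nat.card F ^ (m * finrank F W) * Nat.card {N : Module.End F W // IsNilpotent N} := by
  classical
  set U := Submodule.span F (Set.range u) with hU
  obtain ⟨W, hUW⟩ := Submodule.exists_isCompl U
  have hUrk : finrank F U = m := by
    rw [hU, finrank_span_eq_card hu, Fintype.card_fin]
  refine ⟨W, ?_, ?_⟩
  · have := Submodule.finrank_add_eq_of_isCompl hUW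
    omega
  let πU : V →ₗ[F] U := Submodule.projectionOnto U W hUW
  let πW : V →ₗ[F] W := Submodule.projectionOnto W U hUW.symm
  let b : Module.Basis (Fin m) F U := Module.Basis.span hu
  have hb : ∀ i, (b i : V) = u i := fun i => Module.Basis.coe_span_apply _ i
  let s : U →ₗ[F] V := b.constr F (nxt u)
  have hdec : ∀ x : V, (πU x : V) + (πW x : V) = x := fun x => by
    show (Submodule.projectionOnto U W hUW x : V) + (Submodule.projectionOnto W U hUW.symm x : V) = x
    exact Submodule.projection_add_projection_eq_self hUW x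
  have hnU : ∀ i, nxt u i ∈ U := fun i => by
    unfold nxt
    split_ifs
    · exact Submodule.subset_span ⟨_, rfl⟩
    · exact zero_mem _
  have hsU : ∀ x : U, s x ∈ U := by
    intro x
    rw [← b.sum_repr x, map_sum]
    exact sum_mem fun i _ => by
      rw [map_smul]; exact U.smul_mem _ (by simp only [s, Module.Basis.constr_basis]; exact hnU i)
  -- any such map agrees with `s` on `U`
  have hTU : ∀ T : Module.End F V, (∀ i, T (u i) = nxt u i) → ∀ x : U, T x = s x := by
    intro T hT x
    have : T ∘ₗ U.subtype = s := b.ext fun i => by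
      simp only [LinearMap.comp_apply, Submodule.subtype_apply, hb, hT, s, Module.Basis.constr_basis]
    exact LinearMap.congr_fun this x
  have hpW : ∀ T : Module.End F V, (∀ i, T (u i) = nxt u i) → ∀ x : V,
      πW (T x) = πW (T (πW x : V)) := by
    intro T hT x
    conv_lhs => rw [← hdec x]
    rw [map_add, map_add, hTU T hT]
    have : πW (s (πU x)) = 0 := Submodule.projectionOnto_apply_of_mem_right hUW.symm (hsU _)
    rw [this, zero_add]
  let mk : (W →ₗ[F] U) × Module.End F W → Module.End F V := fun z =>
    s ∘ₗ πU + (U.subtype ∘ₗ z.1 + W.subtype ∘ₗ z.2) ∘ₗ πW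
  have hmk : ∀ z i, mk z (u i) = nxt u i := by
    intro z i
    have h1 : πU (u i) = b i := by
      rw [← hb i]; exact Submodule.projectionOnto_apply_left hUW _
    have h2 : πW (u i) = 0 :=
      Submodule.projectionOnto_apply_of_mem_right hUW.symm (Submodule.subset_span ⟨i, rfl⟩)
    simp only [mk, LinearMap.add_apply, LinearMap.comp_apply, h1, h2, map_zero, add_zero, s,
      Module.Basis.constr_basis]
  have hmkW : ∀ z (w : W), mk z w = (z.1 w : V) + (z.2 w : V) := by
    intro z w
    have h1 : πU (w : V) = 0 := Submodule.projectionOnto_apply_of_mem_right hUW w.2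
    have h2 : πW (w : V) = w := Submodule.projectionOnto_apply_left hUW.symm _
    simp only [mk, LinearMap.add_apply, LinearMap.comp_apply, h1, h2, map_zero, zero_add,
      Submodule.subtype_apply]
  have hnil : ∀ T : Module.End F V, (∀ i, T (u i) = nxt u i) →
      (IsNilpotent T ↔ IsNilpotent (πW ∘ₗ T ∘ₗ W.subtype : Module.End F W)) := by
    intro T hT
    set N : Module.End F W := πW ∘ₗ T ∘ₗ W.subtype with hN
    have hpow : ∀ (k : ℕ) (x : V), πW ((T ^ k) x) = (N ^ k) (πW x) := by
      intro k
      induction k with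
      | zero => simp
      | succ k ih =>
        intro x
        rw [pow_succ', Module.End.mul_apply, hpW T hT, ih, pow_succ', Module.End.mul_apply]
        rfl
    constructor
    · rintro ⟨k, hk⟩
      refine ⟨k, LinearMap.ext fun w => ?_⟩
      have := hpow k w
      rw [hk, LinearMap.zero_apply, map_zero] at this
      rw [show πW (w : V) = w from Submodule.projectionOnto_apply_left hUW.symm _] at this
      exact this.symm
    · rintro ⟨k, hk⟩
      refine ⟨m + k, LinearMap.ext fun x => ?_⟩
      have h1 : (T ^ k) x ∈ U := by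
        have := hpow k x
        rw [hk, LinearMap.zero_apply] at this
        have h3 := hdec ((T ^ k) x)
        rw [this, Submodule.coe_zero, add_zero] at h3
        exact h3 ▸ (πU _).2
      rw [pow_add, Module.End.mul_apply, LinearMap.zero_apply]
      have hle : U ≤ LinearMap.ker (T ^ m) := by
        rw [hU, Submodule.span_le]
        rintro _ ⟨i, rfl⟩
        rw [SetLike.mem_coe, LinearMap.mem_ker, pow_apply_of_shift u T hT, dif_neg (by omega)]
      exact LinearMap.mem_ker.1 (hle h1)
  let e : Shift (F := F) u ≃ (W →ₗ[F] U) × {N : Module.End F W // IsNilpotent N} :=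
    { toFun := fun T => (πU ∘ₗ T.1 ∘ₗ W.subtype,
        ⟨πW ∘ₗ T.1 ∘ₗ W.subtype, (hnil T.1 T.2.2).1 T.2.1⟩)
      invFun := fun z => ⟨mk (z.1, z.2.1), (hnil _ (hmk _)).2 (by
        convert z.2.2 using 1
        refine LinearMap.ext fun w => ?_
        show πW (mk (z.1, z.2.1) w) = z.2.1 w
        rw [hmkW, map_add,
          show πW ((z.1 w : U) : V) = 0 from Submodule.projectionOnto_apply_of_mem_right hUW.symm (z.1 w).2,
          zero_add]
        exact Submodule.projectionOnto_apply_left hUW.symm _), hmk _⟩
      left_inv := fun T => Subtype.ext (LinearMap.ext fun x => by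
        conv_rhs => rw [← hdec x]
        show mk (_, _) x = _
        rw [map_add, hTU T.1 T.2.2]
        simp only [mk, LinearMap.add_apply, LinearMap.comp_apply, Submodule.subtype_apply]
        rw [hdec])
      right_inv := fun z => by
        refine Prod.ext (LinearMap.ext fun w => ?_) (Subtype.ext (LinearMap.ext fun w => ?_))
        · show πU (mk (z.1, z.2.1) w) = z.1 w
          rw [hmkW, map_add,
            show πU ((z.2.1 w : W) : V) = 0 from Submodule.projectionOnto_apply_of_mem_right hUW (z.2.1 w).2,
            add_zero]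
          exact Submodule.projectionOnto_apply_left hUW _
        · show πW (mk (z.1, z.2.1) w) = z.2.1 w
          rw [hmkW, map_add,
            show πW ((z.1 w : U) : V) = 0 from Submodule.projectionOnto_apply_of_mem_right hUW.symm (z.1 w).2,
            zero_add]
          exact Submodule.projectionOnto_apply_left hUW.symm _ }
  rw [Nat.card_congr e, Nat.card_prod]
  congr 1
  rw [Module.natCard_eq_pow_finrank (K := F) (V := W →ₗ[F] U), Module.finrank_linearMap, hUrk,
    mul_comm]

end

theorem nilp_congr {F V W : Type*} [Field F] [AddCommGroup V] [Module F V] [AddCommGroup W]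
    [Module F W] (e : V ≃ₗ[F] W) :
    Nat.card {N : Module.End F V // IsNilpotent N} =
      Nat.card {N : Module.End F W // IsNilpotent N} :=
  Nat.card_congr ((e.conjAlgEquiv F).toEquiv.subtypeEquiv fun N =>
    (IsNilpotent.map_iff (f := e.conjAlgEquiv F) (e.conjAlgEquiv F).injective).symm)

theorem telescope (q n : ℕ) (hq : 1 ≤ q) : ∀ d k, k + d = n →
    ∑ j ∈ Finset.range (d + 1), (∏ i ∈ Finset.range j, (q ^ n - q ^ (k + i))) * q ^ ((n - 1) * (d - j)) =
      q ^ (n * d) := by
  intro d
  induction d with
  | zero => intro k hk; simp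
  | succ d ih =>
    intro k hk
    rw [Finset.sum_range_succ']
    have e : ∀ j, (∏ i ∈ Finset.range (j + 1), (q ^ n - q ^ (k + i))) *
        q ^ ((n - 1) * (d + 1 - (j + 1))) = (q ^ n - q ^ k) *
        ((∏ i ∈ Finset.range j, (q ^ n - q ^ (k + 1 + i))) * q ^ ((n - 1) * (d - j))) := fun j => by
      rw [Finset.prod_range_succ', show d + 1 - (j + 1) = d - j by omega]
      rw [add_zero, Finset.prod_congr rfl fun i _ => show q ^ n - q ^ (k + (i + 1)) = q ^ n - q ^ (k + 1 + i) by
        rw [add_comm i 1, ← add_assoc]]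
      ring
    simp only [e, Finset.prod_range_zero, one_mul, Nat.sub_zero]
    rw [← Finset.mul_sum, ih (k + 1) (by omega)]
    have h1 : q ^ k * q ^ (n * d) = q ^ ((n - 1) * (d + 1)) := by
      rw [← pow_add]
      congr 1
      obtain ⟨n, rfl⟩ : ∃ n', n = n' + 1 := ⟨n - 1, by omega⟩
      simp only [Nat.add_sub_cancel]
      nlinarith
    have hle : q ^ k * q ^ (n * d) ≤ q ^ n * q ^ (n * d) :=
      Nat.mul_le_mul_right _ (Nat.pow_le_pow_right hq (by omega))
    rw [Nat.sub_mul, show q ^ (n * (d + 1)) = q ^ n * q ^ (n * d) by rw [← pow_add]; ring_nf, ← h1]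
    omega

theorem card_nilpotent {F : Type*} [Field F] [Finite F] (n : ℕ) :
    Nat.card {N : Module.End F (Fin n → F) // IsNilpotent N} = Nat.card F ^ (n * (n - 1)) := by
  induction n using Nat.strong_induction_on with
  | _ n ih =>
  classical
  set V := Fin n → F
  have : Finite V := inferInstance
  let Y := Σ m : Fin (n + 1), Σ u : {u : Fin (m : ℕ) → V // LinearIndependent F u}, Shift (F := F) u.1
  let hd : ∀ {m : ℕ}, (Fin m → V) → V := fun {m} u => if h : 0 < m then u ⟨0, h⟩ else 0
  let f : Y → {N : Module.End F V // IsNilpotent N} × V :=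
    fun y => (⟨y.2.2.1, y.2.2.2.1⟩, hd y.2.1.1)
  have horb : ∀ y : Y, ∀ k : ℕ, (y.2.2.1 ^ k) (hd y.2.1.1) =
      if hk : k < (y.1 : ℕ) then y.2.1.1 ⟨k, hk⟩ else 0 := by
    rintro ⟨m, u, T, hT1, hT2⟩ k
    by_cases h : 0 < (m : ℕ)
    · have := pow_apply_of_shift u.1 T hT2 k ⟨0, h⟩
      simp only [zero_add] at this
      simp only [hd, dif_pos h]
      exact this
    · simp only [hd, dif_neg h, map_zero]
      rw [dif_neg (by omega)]
  have hinj : Function.Injective f := by
    intro y y' e
    have eT : y.2.2.1 = y'.2.2.1 := congrArg (fun z => z.1.1) e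
    have ev : hd y.2.1.1 = hd y'.2.1.1 := congrArg Prod.snd e
    have key : ∀ k, (if hk : k < (y.1 : ℕ) then y.2.1.1 ⟨k, hk⟩ else 0) =
        if hk : k < (y'.1 : ℕ) then y'.2.1.1 ⟨k, hk⟩ else 0 := fun k => by
      rw [← horb, ← horb, eT, ev]
    obtain ⟨m, ⟨u, hu⟩, T, hT⟩ := y
    obtain ⟨m', ⟨u', hu'⟩, T', hT'⟩ := y'
    simp only at key eT
    obtain rfl : m = m' := by
      rcases lt_trichotomy (m : ℕ) (m' : ℕ) with h | h | h
      · have := key m
        rw [dif_neg (lt_irrefl _), dif_pos h] at this
        exact absurd this.symm (hu'.ne_zero _)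
      · exact Fin.ext h
      · have := key m'
        rw [dif_pos h, dif_neg (lt_irrefl _)] at this
        exact absurd this (hu.ne_zero _)
    obtain rfl : u = u' := funext fun i => by
      have := key i
      rwa [dif_pos i.2, dif_pos i.2] at this
    subst eT
    rfl
  have hsurj : Function.Surjective f := by
    rintro ⟨⟨T, hT⟩, v⟩
    have hex : ∃ k, (T ^ k) v = 0 := by
      obtain ⟨k, hk⟩ := hT; exact ⟨k, by rw [hk, LinearMap.zero_apply]⟩
    have h0 := Nat.find_spec hex
    have hli := linearIndependent_orbit T v h0 fun i hi => Nat.find_min hex hi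
    have hle : Nat.find hex ≤ n := by
      have := hli.fintype_card_le_finrank
      rwa [Fintype.card_fin, Module.finrank_fin_fun] at this
    refine ⟨⟨⟨Nat.find hex, by omega⟩, ⟨_, hli⟩, T, hT, fun i => ?_⟩, Prod.ext rfl ?_⟩
    · show T ((T ^ (i : ℕ)) v) = _
      rw [← Module.End.mul_apply, ← pow_succ', nxt]
      by_cases h : (i : ℕ) + 1 < Nat.find hex
      · rw [dif_pos h]
      · rw [dif_neg h, show (i : ℕ) + 1 = Nat.find hex by have := i.2; simp only at this; omega, h0]
    · show hd _ = v
      simp only [hd]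
      by_cases h : 0 < Nat.find hex
      · rw [dif_pos h]; simp
      · rw [dif_neg h]
        rw [show Nat.find hex = 0 by omega, pow_zero, Module.End.one_apply] at h0
        exact h0.symm
  rcases Nat.eq_zero_or_pos n with rfl | hn
  · have : Subsingleton (Module.End F V) := ⟨fun a b => LinearMap.ext fun x => Subsingleton.elim _ _⟩
    have : Unique {N : Module.End F V // IsNilpotent N} :=
      { default := ⟨0, IsNilpotent.zero⟩, uniq := fun a => Subsingleton.elim _ _ }
    simp
  let : Fintype F := Fintype.ofFinite F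
  set q := Nat.card F with hq
  set N := Nat.card {N : Module.End F V // IsNilpotent N} with hN
  have hI : ∀ m : Fin (n + 1), Nat.card {u : Fin (m : ℕ) → V // LinearIndependent F u} =
      ∏ i ∈ Finset.range (m : ℕ), (q ^ n - q ^ i) := fun m => by
    rw [card_linearIndependent (by rw [Module.finrank_fin_fun]; omega), Module.finrank_fin_fun,
      ← Fin.prod_univ_eq_prod_range (fun i => q ^ n - q ^ i), hq, Nat.card_eq_fintype_card]
  have hcount := Nat.card_congr (Equiv.ofBijective f ⟨hinj, hsurj⟩)
  rw [Nat.card_prod, Module.natCard_eq_pow_finrank (K := F) (V := V), Module.finrank_fin_fun, ← hN,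
    Nat.card_sigma] at hcount
  simp only [Nat.card_sigma] at hcount
  have hterm : ∀ m : Fin (n + 1), ∀ u : {u : Fin (m : ℕ) → V // LinearIndependent F u},
      Nat.card (Shift (F := F) u.1) = if (m : ℕ) = 0 then N else q ^ ((n - 1) * (n - m)) := by
    intro m u
    obtain ⟨W, hW, hc⟩ := card_shift u.1 u.2
    rw [Module.finrank_fin_fun] at hW
    rw [hc, nilp_congr (Module.finBasis F W).equivFun]
    split_ifs with h
    · rw [h, zero_mul, pow_zero, one_mul, show finrank F W = n by omega, hN]
    · rw [ih _ (by omega), ← hq, ← pow_add, show finrank F W = n - m by omega]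
      congr 1
      obtain ⟨r, hr⟩ : ∃ r, n = (m : ℕ) + r := ⟨n - m, by omega⟩
      rw [show n - (m : ℕ) = r by omega, show n - 1 = (m : ℕ) + r - 1 by omega]
      rcases Nat.eq_zero_or_pos r with rfl | hr'
      · simp
      obtain ⟨r, rfl⟩ : ∃ r', r = r' + 1 := ⟨r - 1, by omega⟩
      rw [← add_assoc, Nat.add_sub_cancel, Nat.add_sub_cancel]
      ring
  simp only [hterm, Finset.sum_const, Finset.card_univ, smul_eq_mul, ← Nat.card_eq_fintype_card,
    hI] at hcount
  rw [← hq] at hcount
  rw [Fin.sum_univ_eq_sum_range (fun m => (∏ i ∈ Finset.range m, (q ^ n - q ^ i)) *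
    if m = 0 then N else q ^ ((n - 1) * (n - m))), Finset.sum_range_succ'] at hcount
  simp only [Nat.add_eq_zero_iff, one_ne_zero, and_false, if_false, Finset.prod_range_zero, one_mul,
    if_true] at hcount
  have htel := telescope q n Nat.card_pos n 0 (zero_add n)
  rw [Finset.sum_range_succ'] at htel
  simp only [zero_add, Finset.prod_range_zero, one_mul, Nat.sub_zero] at htel
  obtain ⟨n, rfl⟩ : ∃ n', n = n' + 1 := ⟨n - 1, by omega⟩
  simp only [Nat.add_sub_cancel] at htel hcount ⊢
  have e1 : q ^ ((n + 1) * (n + 1)) = q ^ ((n + 1) * n) * q ^ (n + 1) := by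
    rw [← pow_add]; ring_nf
  rw [e1, show n * (n + 1) = (n + 1) * n by ring] at htel
  have hq1 : 1 < q ^ (n + 1) := Nat.one_lt_pow (by omega) Finite.one_lt_card
  have hsub : N * (q ^ (n + 1) - 1) = q ^ ((n + 1) * n) * (q ^ (n + 1) - 1) := by
    rw [Nat.mul_sub, Nat.mul_sub, mul_one, mul_one]
    omega
  exact Nat.eq_of_mul_eq_mul_right (by omega) hsub

/-- Steinberg's count of unipotent elements for the general linear group: over a finite field with q elements of characteristic p, the number of elements of GL_n of p-power order (the unipotent matrices) is q^(n(n−1)). -/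
theorem result {F : Type*} [Field F] [Fintype F] (p : ℕ) [Fact p.Prime] [CharP F p] (n : ℕ) :
    Nat.card {g : Matrix.GeneralLinearGroup (Fin n) F // ∃ k : ℕ, orderOf g = p ^ k} = Fintype.card F ^ (n * (n - 1)) := by
  classical
  rcases Nat.eq_zero_or_pos n with rfl | hn
  · have : Unique {g : Matrix.GeneralLinearGroup (Fin 0) F // ∃ k : ℕ, orderOf g = p ^ k} :=
      { default := ⟨1, 0, by simp⟩
        uniq := fun a => Subtype.ext (Units.ext (Subsingleton.elim _ _)) }
    simp
  have : Nonempty (Fin n) := ⟨⟨0, hn⟩⟩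
  rw [← Nat.card_eq_fintype_card (α := F), ← card_nilpotent n]
  refine Nat.card_congr (Equiv.ofBijective (fun g => ⟨Matrix.toLinAlgEquiv'
    ((g.1 : Matrix (Fin n) (Fin n) F) - 1),
    ((UnipotentGL.pPow_order_iff p g.1).1 g.2).map Matrix.toLinAlgEquiv'⟩) ⟨?_, ?_⟩)
  · intro a b h
    exact Subtype.ext (Units.ext (sub_left_injective
      (Matrix.toLinAlgEquiv'.injective (congrArg Subtype.val h))))
  · rintro ⟨N, hN⟩
    have h' : IsNilpotent (Matrix.toLinAlgEquiv'.symm N) := hN.map _
    refine ⟨⟨h'.isUnit_add_one.unit, (UnipotentGL.pPow_order_iff p _).2 ?_⟩, Subtype.ext ?_⟩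
    · simpa using h'
    · simp

end Cfsg.Agent.S2315
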