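import Cfsg.Statements.S2318
import Cfsg.Agent.Lib.ChevalleyDefectZero
import Cfsg.Agent.Lib.ChevalleySylow
import Cfsg.Agent.Lib.ChevalleySteinbergChar

set_option autoImplicit false
open Cfsg
open scoped Classical

namespace Cfsg.Agent.S2318

/-- In a Chevalley group of type G₂, B₂, D₄, F₄, E₆, E₇ or E₈ over a finite field of characteristic p (for types G₂ and B₂ the field is assumed to have at least 3 elements, so that the group is perfect), the Steinberg character is the only irreducible complex character whose degree is divisible by the full power of p dividing the group order (the only irreducible character of p-defect zero). -/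
theorem result {F : Type*} [Field F] [Fintype F] (p : ℕ) [Fact p.Prime] [CharP F p] (D : Cfsg.Lie.ChevalleyDatum) (hD : D ∈ [Cfsg.Lie.chevG2, Cfsg.Lie.chevB2, Cfsg.Lie.chevD4, Cfsg.Lie.chevF4, Cfsg.Lie.chevE6, Cfsg.Lie.chevE7, Cfsg.Lie.chevE8]) (hq : (D = Cfsg.Lie.chevG2 ∨ D = Cfsg.Lie.chevB2) → 3 ≤ Fintype.card F)
    (χ : ↥(D.group F) → ℂ) (hχ : Cfsg.IsIrrCharacter ↥(D.group F) χ)
    (hdeg : ∃ d : ℕ, χ 1 = (d : ℂ) ∧ p ^ (Nat.card ↥(D.group F)).factorization p ∣ d) :
    χ = D.steinbergCharacter F := by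
  classical
  obtain ⟨C⟩ := Cfsg.Agent.ChevalleyAll.cert_nonempty D hD
  set S := Cfsg.Agent.ChevBruhatInstance.sys D hD F
  have hp : p.Prime := Fact.out
  haveI : Finite S.X.W := Finite.of_injective _ S.X.ρ_injective
  letI : Fintype S.X.W := Fintype.ofFinite _
  obtain ⟨n, _, hq⟩ := FiniteField.card F p
  set r := Nat.card ↥(D.diagonalSubgroup F) * ∑ w : S.X.W, Fintype.card F ^ S.X.inv w with hr_def
  have hr : ¬ p ∣ r := by
    rw [hr_def, hp.dvd_mul]
    push Not
    exact ⟨Cfsg.Agent.ChevalleySylow.prime_not_dvd_card_H C S p, Cfsg.Agent.ChevalleySylow.prime_not_dvd_sum C S p⟩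
  set N := (n : ℕ) * (D.nroots / 2) with hN
  have hcard : Nat.card ↥(D.group F) = p ^ N * r := by
    rw [Cfsg.Agent.ChevalleySylow.card_group_eq C S, hN, pow_mul, ← hq]
  obtain ⟨d, hd1, hdd⟩ := hdeg
  have hfac : N ≤ (Nat.card ↥(D.group F)).factorization p :=
    (hp.pow_dvd_iff_le_factorization Nat.card_pos.ne').1 (hcard ▸ dvd_mul_right _ _)
  by_contra hne
  obtain ⟨d₁, ρ, hρ, rfl⟩ := hχ
  obtain ⟨d₂, ρ', hρ', hst⟩ := Cfsg.Agent.ChevalleySteinbergChar.st_irr C S
  haveI := hρ
  haveI := hρ'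
  have e1 : d₁ = d := by
    rw [Representation.char_one, Module.finrank_fin_fun] at hd1
    exact_mod_cast hd1
  have e2 : d₂ = p ^ N := by
    have h := Cfsg.Agent.ChevalleySteinbergChar.st_one C S
    rw [← hst, Representation.char_one, Module.finrank_fin_fun, hq] at h
    rw [hN, pow_mul]
    exact_mod_cast h
  have hd : p ^ N ∣ d₁ := e1 ▸ dvd_trans (pow_dvd_pow p hfac) hdd
  obtain ⟨k, _, _, R, R', ho, -⟩ := Cfsg.Agent.DefectZeroReduction.exists_red_pair p N r
    (by rw [← Nat.card_eq_fintype_card, hcard]) hr ρ ρ' hd (e2 ▸ dvd_rfl) (fun h => hne (h.trans hst))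
  exact Cfsg.Agent.ChevalleyDefectZero.not_orth C S R p R' ho

end Cfsg.Agent.S2318
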