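import Cfsg.Statements.S2320
import Cfsg.Agent.Lib.GL2Chars

set_option autoImplicit false
open Cfsg

namespace Cfsg.Agent.S2320

open Cfsg.Agent.GL2Borel Cfsg.Agent.GL2Chars

/-- Over a finite field F with q elements, every irreducible complex character of GL₂ of degree q takes a value of absolute value 1 at every diagonal matrix with two different diagonal entries and at every element with no eigenvector in F². -/
theorem result {F : Type*} [Field F] [Fintype F] (χ : Matrix.GeneralLinearGroup (Fin 2) F → ℂ) (hχ : Cfsg.IsIrrCharacter (Matrix.GeneralLinearGroup (Fin 2) F) χ) (hdeg : χ 1 = (Fintype.card F : ℂ)) (g : Matrix.GeneralLinearGroup (Fin 2) F) :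
    ((g : Matrix (Fin 2) (Fin 2) F) 0 1 = 0 → (g : Matrix (Fin 2) (Fin 2) F) 1 0 = 0 → (g : Matrix (Fin 2) (Fin 2) F) 0 0 ≠ (g : Matrix (Fin 2) (Fin 2) F) 1 1 → ‖χ g‖ = 1) ∧
    ((∀ (c : F) (v : Fin 2 → F), v ≠ 0 → (g : Matrix (Fin 2) (Fin 2) F).mulVec v ≠ c • v) → ‖χ g‖ = 1) := by
  classical
  obtain ⟨α, rfl⟩ : ∃ α, χ = stChar α := by
    rcases degree_cases hχ with ⟨-, e⟩ | ⟨h, -⟩ | ⟨-, e⟩ | ⟨-, e⟩
    · rw [hdeg] at e; exact absurd (sub_eq_zero.2 e) GL2Chars.card_sub_one_ne
    · exact h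
    · rw [hdeg] at e; exact absurd (by linear_combination -e : (1 : ℂ) = 0) one_ne_zero
    · rw [hdeg] at e; exact absurd (by linear_combination e : (1 : ℂ) = 0) one_ne_zero
  refine ⟨fun h01 h10 hne => ?_, fun hell => ?_⟩
  · obtain ⟨a, d, had, rfl⟩ := exists_bor_diag g h01 h10 hne
    have hd : (d : F) - a ≠ 0 := sub_ne_zero.2 fun e => had (Units.ext e.symm)
    have : stChar α (bor a d 0 : GL (Fin 2) F) = α a * α d := by
      simp [stChar, ind_bor, detChar_bor, hd]; ring
    rw [this, norm_mul, norm_apply, norm_apply, one_mul]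
  · rw [stChar, Pi.sub_apply, ind_elliptic α α g hell, zero_sub, norm_neg, detChar_apply]
    exact norm_apply α (Units.mk0 _ g.det_ne_zero)

end Cfsg.Agent.S2320
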