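import Cfsg.Statements.S2321
import Cfsg.Agent.Lib.SL2Odd
import Cfsg.Agent.Lib.SL2Even

set_option autoImplicit false
open Cfsg

namespace Cfsg.Agent.S2321

open Cfsg.Agent.GL2Borel Cfsg.Agent.GL2Chars Cfsg.Agent.PSL2Elements Cfsg.Agent.SL2Borel Cfsg.Agent.SL2Chars

/-- Over a finite field F with q elements, an irreducible complex character of SL₂ of degree q (the Steinberg character) takes the value 1 at every diagonal matrix whose diagonal entry a has a² ≠ 1, the value −1 at every element with no eigenvector in F², and the value 0 at every upper triangular matrix with equal diagonal entries and non-zero upper right entry. -/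
theorem result {F : Type*} [Field F] [Fintype F] (χ : Matrix.SpecialLinearGroup (Fin 2) F → ℂ) (hχ : Cfsg.IsIrrCharacter (Matrix.SpecialLinearGroup (Fin 2) F) χ) (hdeg : χ 1 = (Fintype.card F : ℂ)) (g : Matrix.SpecialLinearGroup (Fin 2) F) :
    ((g : Matrix (Fin 2) (Fin 2) F) 0 1 = 0 → (g : Matrix (Fin 2) (Fin 2) F) 1 0 = 0 → (g : Matrix (Fin 2) (Fin 2) F) 0 0 ^ 2 ≠ 1 → χ g = 1) ∧
    ((∀ (c : F) (v : Fin 2 → F), v ≠ 0 → (g : Matrix (Fin 2) (Fin 2) F).mulVec v ≠ c • v) → χ g = -1) ∧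
    ((g : Matrix (Fin 2) (Fin 2) F) 1 0 = 0 → (g : Matrix (Fin 2) (Fin 2) F) 0 0 = (g : Matrix (Fin 2) (Fin 2) F) 1 1 → (g : Matrix (Fin 2) (Fin 2) F) 0 1 ≠ 0 → χ g = 0) := by
  classical
  have h1lt := Fintype.one_lt_card (α := F)
  have hst : χ = stS F := by
    rcases Nat.even_or_odd (Fintype.card F) with he | ho
    · have : CharP F 2 := ringChar.of_eq (by
        by_contra hne
        exact Nat.not_even_iff_odd.2
          (Nat.odd_iff.2 (FiniteField.odd_card_of_char_ne_two hne)) he)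
      rcases SL2Even.classify hχ with ⟨-, e, -⟩ | ⟨e, -⟩ | ⟨-, e, -⟩ | ⟨-, ⟨e, -⟩, -⟩
      any_goals exact e
      all_goals rw [hdeg, Nat.cast_inj] at e; simp [SL2Even.tbl] at e
      all_goals omega
    · obtain ⟨h, hh, hq⟩ := SL2Odd.exists_half ho
      rcases SL2Odd.classify ho hq hχ with ⟨-, e, -⟩ | ⟨e, -⟩ | ⟨-, e, -⟩ | ⟨-, e, -⟩ |
        ⟨-, ⟨⟨e, -⟩, -⟩ | ⟨e, -⟩⟩
      any_goals exact e
      all_goals rw [hdeg, Nat.cast_inj] at e; simp [SL2Odd.tbl] at e
      all_goals omega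
  subst hst
  refine ⟨fun h01 h10 ha => ?_, fun hg => ?_, fun h10 heq h01 => ?_⟩
  · have hd := det_eq g
    rw [h01, zero_mul, sub_zero] at hd
    obtain ⟨a, ha'⟩ : ∃ a : Fˣ, (a : F) = g.1 0 0 :=
      ⟨Units.mk0 _ (left_ne_zero_of_mul_eq_one hd), rfl⟩
    have hg : g = d a := by
      have h11 : (g.1 0 0)⁻¹ = g.1 1 1 := inv_eq_of_mul_eq_one_right hd
      apply ext2 <;> simp [d, h01, h10, ha', h11]
    rw [← ha'] at ha
    rw [hg]
    simp [stS, indS_d _ ha, one_apply_of_ne a.ne_zero, one_apply_of_ne (inv_ne_zero a.ne_zero)]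
  · simp [stS, indS_elliptic _ g hg]
  · have hd := det_eq g
    rw [h10, mul_zero, sub_zero, ← heq] at hd
    obtain ⟨a, ha'⟩ : ∃ a : Fˣ, (a : F) = g.1 0 0 :=
      ⟨Units.mk0 _ (left_ne_zero_of_mul_eq_one hd), rfl⟩
    have hinv : ((a : F))⁻¹ = g.1 0 0 := by rw [ha']; exact inv_eq_of_mul_eq_one_right hd
    have hg : g = (sbor a (g.1 0 1) : Matrix.SpecialLinearGroup (Fin 2) F) := by
      apply ext2 <;> simp [sbor, h10, ha', ← heq, inv_eq_of_mul_eq_one_right hd]
    rw [hg]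
    simp [stS, indS_sbor, ha', inv_eq_of_mul_eq_one_right hd, Ne.symm h01,
      one_apply_of_ne (left_ne_zero_of_mul_eq_one hd)]

end Cfsg.Agent.S2321
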