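import Cfsg.Statements.S2322
import Cfsg.Agent.Lib.SL2Halves

set_option autoImplicit false
open Cfsg

namespace Cfsg.Agent.S2322

open Cfsg.Agent.GL2Borel Cfsg.Agent.GL2Chars Cfsg.Agent.PSL2Elements Cfsg.Agent.SL2Borel Cfsg.Agent.SL2Chars
open Cfsg.Agent.SL2Odd Cfsg.Agent.SL2Halves

/-- Over a finite field F with q elements, q odd: every irreducible complex character of SL₂ of degree q − 1 or (q − 1)/2 vanishes at every diagonal matrix whose diagonal entry a has a² ≠ 1, and every irreducible complex character of degree q + 1 or (q + 1)/2 vanishes at every element with no eigenvector in F². -/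
theorem result {F : Type*} [Field F] [Fintype F] (hodd : Odd (Fintype.card F)) (χ : Matrix.SpecialLinearGroup (Fin 2) F → ℂ) (hχ : Cfsg.IsIrrCharacter (Matrix.SpecialLinearGroup (Fin 2) F) χ) (g : Matrix.SpecialLinearGroup (Fin 2) F) :
    ((χ 1 = (Fintype.card F : ℂ) - 1 ∨ χ 1 = (((Fintype.card F - 1) / 2 : ℕ) : ℂ)) →
      (g : Matrix (Fin 2) (Fin 2) F) 0 1 = 0 → (g : Matrix (Fin 2) (Fin 2) F) 1 0 = 0 → (g : Matrix (Fin 2) (Fin 2) F) 0 0 ^ 2 ≠ 1 → χ g = 0) ∧
    ((χ 1 = (Fintype.card F : ℂ) + 1 ∨ χ 1 = (((Fintype.card F + 1) / 2 : ℕ) : ℂ)) →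
      (∀ (c : F) (v : Fin 2 → F), v ≠ 0 → (g : Matrix (Fin 2) (Fin 2) F).mulVec v ≠ c • v) → χ g = 0) := by
  classical
  obtain ⟨h, hh, hq⟩ := exists_half hodd
  obtain ⟨-, ν, hν⟩ := SL2Classes.two_ne_zero_of_odd hodd
  have e1 : (Fintype.card F + 1) / 2 = h + 1 := by omega
  have e2 : (Fintype.card F - 1) / 2 = h := by omega
  have hm : (Fintype.card F : ℂ) - 1 = ((Fintype.card F - 1 : ℕ) : ℂ) := by
    rw [Nat.cast_sub Fintype.card_pos, Nat.cast_one]
  have hp : (Fintype.card F : ℂ) + 1 = ((Fintype.card F + 1 : ℕ) : ℂ) := by push_cast; rfl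
  rw [e1, e2, hm, hp]
  obtain ⟨k, hk⟩ := exists_kind hodd hq hχ
  refine ⟨fun hd h01 h10 ha => ?_, fun hd hg => ?_⟩
  · have hdt := det_eq g
    rw [h01, zero_mul, sub_zero] at hdt
    obtain ⟨a, ha'⟩ : ∃ a : Fˣ, (a : F) = g.1 0 0 :=
      ⟨Units.mk0 _ (left_ne_zero_of_mul_eq_one hdt), rfl⟩
    have hg : g = d a := by
      have h11 : (g.1 0 0)⁻¹ = g.1 1 1 := inv_eq_of_mul_eq_one_right hdt
      apply ext2 <;> simp [d, h01, h10, ha', h11]
    rw [← ha'] at ha
    rw [hg]
    have hq5 : 5 ≤ Fintype.card F := by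
      by_contra hlt
      have h3 : Fintype.card F = 3 := by omega
      exact ha (by rw [show 2 = Fintype.card F - 1 by omega]; exact FiniteField.pow_card_sub_one_eq_one _ a.ne_zero)
    rcases classify hodd hq hχ with ⟨-, e, -⟩ | ⟨-, e, -⟩ | ⟨-, e, -⟩ | ⟨-, e, -⟩ | ⟨hc, -⟩
    all_goals try exact hc.diag ha
    all_goals rw [e, Nat.cast_inj, Nat.cast_inj] at hd; simp [tbl] at hd <;> omega
  · have hno := no_root hg
    have h4 := tr_sq_ne_four hno
    have hres : ∀ ξ : Matrix.SpecialLinearGroup (Fin 2) F → ℂ,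
        Cfsg.IsIrrCharacter (Matrix.SpecialLinearGroup (Fin 2) F) ξ → HasKind ξ h 3 → ξ g = 0 := by
      intro ξ hξ hkξ
      have := add_conjNu hodd hν hq hξ hkξ g
      rw [apply_conjNu_of_tr (classFun_of_irr hξ) _ h4, indS_elliptic _ g hg] at this
      linear_combination this / 2
    rcases classify hodd hq hχ with ⟨-, e, -⟩ | ⟨-, e, -⟩ | ⟨⟨α, -, rfl⟩, -⟩ | ⟨-, e⟩ |
      ⟨hc, ⟨e, -⟩ | ⟨e, -⟩⟩
    · rw [e, Nat.cast_inj, Nat.cast_inj] at hd; simp [tbl] at hd <;> omega
    · rw [e, Nat.cast_inj, Nat.cast_inj] at hd; simp [tbl] at hd <;> omega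
    · exact indS_elliptic α g hg
    · exact hres χ hχ e
    · -- degree `q - 1`: only possible when `q = 3`
      have hd' := hd
      rw [e.1, Nat.cast_inj, Nat.cast_inj] at hd'
      simp [tbl] at hd'
      have h1 : h = 1 := by omega
      subst h1
      have hcen := (centralizer_nonsplit hno).2
      rw [Nat.card_eq_fintype_card (α := F), hq] at hcen
      have hcol := CharBasicOrth.sum_irr_mul_conj g g
      rw [if_pos (IsConj.refl g), hcen] at hcol
      have hcolR : ∑ ξ : Cfsg.IrrCharacter (Matrix.SpecialLinearGroup (Fin 2) F),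
          ‖(ξ : Matrix.SpecialLinearGroup (Fin 2) F → ℂ) g‖ ^ 2 = 4 := by
        simp only [Complex.mul_conj'] at hcol
        exact_mod_cast hcol
      let S1 : Finset (Cfsg.IrrCharacter (Matrix.SpecialLinearGroup (Fin 2) F)) :=
        Finset.univ.filter fun ξ => HasKind (ξ : Matrix.SpecialLinearGroup (Fin 2) F → ℂ) 1 5
      have hS1 : S1.card = 2 := by
        rw [← Fintype.card_subtype, ← Nat.card_eq_fintype_card]
        exact card_kind hodd hq 5
      have hlin : ∀ ξ ∈ S1, ‖(ξ : Matrix.SpecialLinearGroup (Fin 2) F → ℂ) g‖ ^ 2 = 1 := by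
        intro ξ hξ
        obtain ⟨d5, -⟩ := (Finset.mem_filter.1 hξ).2
        obtain ⟨f, hf⟩ := CharBasicLinear.exists_hom_of_apply_one_eq_one
          (CharBasic.isCharacter_of_isIrrCharacter ξ.2) (by simpa [tbl] using d5)
        rw [hf]; simp [CharBasicDecomp.norm_linear]
      let T : Finset (Cfsg.IrrCharacter (Matrix.SpecialLinearGroup (Fin 2) F)) :=
        {CharBasicDecomp.trivIrr _, ⟨stS F, isIrr_stS⟩}
      have hTne : CharBasicDecomp.trivIrr _ ≠
          (⟨stS F, isIrr_stS⟩ : Cfsg.IrrCharacter (Matrix.SpecialLinearGroup (Fin 2) F)) := fun e' => by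
        have := congrFun (congrArg Subtype.val e') 1
        simp [CharBasicDecomp.trivIrr, stS_one, hq] at this
      have hdisj : Disjoint T S1 := by
        rw [Finset.disjoint_left]
        intro ξ hξ hξ'
        obtain ⟨d5, r5⟩ := (Finset.mem_filter.1 hξ').2
        simp only [T, Finset.mem_insert, Finset.mem_singleton] at hξ
        rcases hξ with rfl | rfl <;>
          simp [tbl, CharBasicDecomp.trivIrr, rowS_trivial, rowS_stS] at r5
      let χ' : Cfsg.IrrCharacter (Matrix.SpecialLinearGroup (Fin 2) F) := ⟨χ, hχ⟩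
      have hnm : χ' ∉ T ∪ S1 := by
        simp only [T, Finset.mem_union, Finset.mem_insert, Finset.mem_singleton, S1,
          Finset.mem_filter, Finset.mem_univ, true_and]
        rintro ((e' | e') | e')
        · have := e.2
          rw [show χ = (fun _ => 1) from congrArg Subtype.val e'] at this
          simp [tbl, rowS_trivial] at this
        · have := e.2
          rw [show χ = stS F from congrArg Subtype.val e'] at this
          simp [tbl, rowS_stS] at this
        · exact absurd (e.unique hh hq e') (by decide)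
      have hle := Finset.sum_le_sum_of_subset_of_nonneg
        (Finset.subset_univ (insert χ' (T ∪ S1)))
        (f := fun ξ : Cfsg.IrrCharacter _ => ‖(ξ : Matrix.SpecialLinearGroup (Fin 2) F → ℂ) g‖ ^ 2)
        fun _ _ _ => sq_nonneg _
      rw [hcolR, Finset.sum_insert hnm, Finset.sum_union hdisj, Finset.sum_congr rfl hlin,
        Finset.sum_const, hS1] at hle
      simp only [T, Finset.sum_pair hTne] at hle
      simp [χ', CharBasicDecomp.trivIrr, stS, indS_elliptic _ g hg] at hle
      have h0 : ‖χ g‖ ^ 2 ≤ 0 := by linarith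
      simpa using le_antisymm h0 (sq_nonneg _)
    · rw [e, Nat.cast_inj, Nat.cast_inj] at hd; simp [tbl] at hd <;> omega

end Cfsg.Agent.S2322
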