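import Cfsg.Statements.S2323
import Cfsg.Agent.Lib.SL2Odd
import Cfsg.Agent.Lib.SL2Even

set_option autoImplicit false
open Cfsg

namespace Cfsg.Agent.S2323

open Cfsg.Agent.GL2Borel Cfsg.Agent.GL2Chars Cfsg.Agent.PSL2Elements Cfsg.Agent.SL2Borel Cfsg.Agent.SL2Chars

/-- Over a finite field F with q ≥ 4 elements, let u be the upper unitriangular matrix of SL₂ with off-diagonal entry 1. An irreducible complex character of SL₂ takes at u the value 1 if its degree is q + 1 and the value −1 if its degree is q − 1. -/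
theorem result {F : Type*} [Field F] [Fintype F] (hq : 4 ≤ Fintype.card F) (χ : Matrix.SpecialLinearGroup (Fin 2) F → ℂ) (hχ : Cfsg.IsIrrCharacter (Matrix.SpecialLinearGroup (Fin 2) F) χ)
    (u : Matrix.SpecialLinearGroup (Fin 2) F) (hu : (u : Matrix (Fin 2) (Fin 2) F) = !![1, 1; 0, 1]) :
    (χ 1 = (Fintype.card F : ℂ) + 1 → χ u = 1) ∧ (χ 1 = (Fintype.card F : ℂ) - 1 → χ u = -1) := by
  classical
  have hu1 : u = PSL2Elements.u 1 := Subtype.ext hu
  subst hu1
  have hp : (Fintype.card F : ℂ) + 1 = ((Fintype.card F + 1 : ℕ) : ℂ) := by push_cast; rfl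
  have hm : (Fintype.card F : ℂ) - 1 = ((Fintype.card F - 1 : ℕ) : ℂ) := by
    rw [Nat.cast_sub Fintype.card_pos, Nat.cast_one]
  rw [hp, hm]
  rcases Nat.even_or_odd (Fintype.card F) with he | ho
  · have : CharP F 2 := ringChar.of_eq (by
      by_contra hne
      exact Nat.not_even_iff_odd.2 (Nat.odd_iff.2 (FiniteField.odd_card_of_char_ne_two hne)) he)
    rcases SL2Even.classify hχ with ⟨-, e, -⟩ | ⟨-, e, -⟩ | ⟨⟨α, -, rfl⟩, e, -⟩ | ⟨-, ⟨e, -⟩, hv⟩
    all_goals refine ⟨fun hd => ?_, fun hd => ?_⟩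
    all_goals try exact indS_u α one_ne_zero
    all_goals try exact hv 1 one_ne_zero
    all_goals rw [e, Nat.cast_inj] at hd; simp [SL2Even.tbl] at hd <;> omega
  · obtain ⟨h, hh, hq'⟩ := SL2Odd.exists_half ho
    rcases SL2Odd.classify ho hq' hχ with ⟨-, e, -⟩ | ⟨-, e, -⟩ | ⟨⟨α, -, rfl⟩, e, -⟩ | ⟨-, e, -⟩ |
      ⟨-, ⟨⟨e, -⟩, hv⟩ | ⟨e, -⟩⟩
    all_goals refine ⟨fun hd => ?_, fun hd => ?_⟩
    all_goals try exact indS_u α one_ne_zero
    all_goals try exact hv 1 one_ne_zero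
    all_goals rw [e, Nat.cast_inj] at hd; simp [SL2Odd.tbl] at hd <;> omega

end Cfsg.Agent.S2323
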