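import Cfsg.Statements.S2324
import Cfsg.Agent.Lib.SL2Halves

set_option autoImplicit false
open Cfsg

namespace Cfsg.Agent.S2324

open Cfsg.Agent.GL2Borel Cfsg.Agent.GL2Chars Cfsg.Agent.PSL2Elements Cfsg.Agent.SL2Borel Cfsg.Agent.SL2Chars
open Cfsg.Agent.SL2Odd Cfsg.Agent.SL2Halves

/-- Over a finite field F with q elements, q odd and q ≥ 5, let u be the upper unitriangular matrix of SL₂ with off-diagonal entry 1 and let δ = (−1)^((q−1)/2). Every irreducible complex character χ of SL₂ of degree (q + 1)/2 satisfies (2χ(u) − 1)² = δq, and every irreducible complex character χ of degree (q − 1)/2 satisfies (2χ(u) + 1)² = δq; that is, χ(u) = (1 ± √(δq))/2 in the first case and χ(u) = (−1 ± √(δq))/2 in the second. Moreover two different irreducible characters of degree (q + 1)/2 take the two different values (their values at u add up to 1), and likewise for degree (q − 1)/2 (values adding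 up to −1). -/
theorem result {F : Type*} [Field F] [Fintype F] (hodd : Odd (Fintype.card F)) (hq : 5 ≤ Fintype.card F)
    (u : Matrix.SpecialLinearGroup (Fin 2) F) (hu : (u : Matrix (Fin 2) (Fin 2) F) = !![1, 1; 0, 1]) :
    (∀ χ : Matrix.SpecialLinearGroup (Fin 2) F → ℂ, Cfsg.IsIrrCharacter (Matrix.SpecialLinearGroup (Fin 2) F) χ → χ 1 = (((Fintype.card F + 1) / 2 : ℕ) : ℂ) → (2 * χ u - 1) ^ 2 = (-1 : ℂ) ^ ((Fintype.card F - 1) / 2) * (Fintype.card F : ℂ)) ∧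
    (∀ χ : Matrix.SpecialLinearGroup (Fin 2) F → ℂ, Cfsg.IsIrrCharacter (Matrix.SpecialLinearGroup (Fin 2) F) χ → χ 1 = (((Fintype.card F - 1) / 2 : ℕ) : ℂ) → (2 * χ u + 1) ^ 2 = (-1 : ℂ) ^ ((Fintype.card F - 1) / 2) * (Fintype.card F : ℂ)) ∧
    (∀ χ₁ χ₂ : Matrix.SpecialLinearGroup (Fin 2) F → ℂ, Cfsg.IsIrrCharacter (Matrix.SpecialLinearGroup (Fin 2) F) χ₁ → Cfsg.IsIrrCharacter (Matrix.SpecialLinearGroup (Fin 2) F) χ₂ → χ₁ ≠ χ₂ →
      χ₁ 1 = (((Fintype.card F + 1) / 2 : ℕ) : ℂ) → χ₂ 1 = (((Fintype.card F + 1) / 2 : ℕ) : ℂ) → χ₁ u + χ₂ u = 1) ∧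
    (∀ χ₁ χ₂ : Matrix.SpecialLinearGroup (Fin 2) F → ℂ, Cfsg.IsIrrCharacter (Matrix.SpecialLinearGroup (Fin 2) F) χ₁ → Cfsg.IsIrrCharacter (Matrix.SpecialLinearGroup (Fin 2) F) χ₂ → χ₁ ≠ χ₂ →
      χ₁ 1 = (((Fintype.card F - 1) / 2 : ℕ) : ℂ) → χ₂ 1 = (((Fintype.card F - 1) / 2 : ℕ) : ℂ) → χ₁ u + χ₂ u = -1) := by
  classical
  obtain ⟨h, hh, hq'⟩ := exists_half hodd
  obtain ⟨-, ν, hν⟩ := SL2Classes.two_ne_zero_of_odd hodd
  have e1 : (Fintype.card F + 1) / 2 = h + 1 := by omega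
  have e2 : (Fintype.card F - 1) / 2 = h := by omega
  have hu1 : u = PSL2Elements.u 1 := Subtype.ext hu
  subst hu1
  have hkind : ∀ χ : Matrix.SpecialLinearGroup (Fin 2) F → ℂ,
      Cfsg.IsIrrCharacter (Matrix.SpecialLinearGroup (Fin 2) F) χ →
      (χ 1 = (((Fintype.card F + 1) / 2 : ℕ) : ℂ) → HasKind χ h 3) ∧
      (χ 1 = (((Fintype.card F - 1) / 2 : ℕ) : ℂ) → HasKind χ h 5) := by
    intro χ hχ
    obtain ⟨k, hk⟩ := exists_kind hodd hq' hχ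
    constructor <;> intro hd <;> rw [hk.1, Nat.cast_inj] at hd <;>
      fin_cases k <;> simp [tbl] at hd <;> first | exact hk | omega
  rw [← quad_neg_one hodd]
  refine ⟨fun χ hχ hd => (sq_value hodd hq' hχ).1 ((hkind χ hχ).1 hd),
    fun χ hχ hd => (sq_value hodd hq' hχ).2 ((hkind χ hχ).2 hd),
    fun χ₁ χ₂ h₁ h₂ hne d₁ d₂ => ?_, fun χ₁ χ₂ h₁ h₂ hne d₁ d₂ => ?_⟩
  · have k₁ := (hkind χ₁ h₁).1 d₁
    rw [eq_conjNu hodd hν hq' h₁ h₂ (Or.inl rfl) k₁ ((hkind χ₂ h₂).1 d₂) hne]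
    simp only [conjNu_u, Units.val_mk0, mul_one]
    exact (sum_values hodd hν hq' h₁).1 k₁
  · have k₁ := (hkind χ₁ h₁).2 d₁
    rw [eq_conjNu hodd hν hq' h₁ h₂ (Or.inr rfl) k₁ ((hkind χ₂ h₂).2 d₂) hne]
    simp only [conjNu_u, Units.val_mk0, mul_one]
    exact (sum_values hodd hν hq' h₁).2 k₁

end Cfsg.Agent.S2324
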