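import Cfsg.Statements.S2328
import Cfsg.Agent.Lib.ChevalleySteinbergChar
import Cfsg.Agent.Lib.ChevalleySylow
import Cfsg.Agent.S0165

set_option autoImplicit false
open Cfsg

namespace Cfsg.Agent.S2328

/-- In a Chevalley group of type G₂, B₂, D₄, F₄, E₆, E₇ or E₈ over a finite field of characteristic p, the Steinberg character vanishes at every element whose order is divisible by p (every element that is not semisimple). -/
theorem result {F : Type*} [Field F] [Fintype F] (p : ℕ) [Fact p.Prime] [CharP F p] (D : Cfsg.Lie.ChevalleyDatum) (hD : D ∈ [Cfsg.Lie.chevG2, Cfsg.Lie.chevB2, Cfsg.Lie.chevD4, Cfsg.Lie.chevF4, Cfsg.Lie.chevE6, Cfsg.Lie.chevE7, Cfsg.Lie.chevE8]) (g : ↥(D.group F)) (hg : p ∣ orderOf g) :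
    D.steinbergCharacter F g = 0 := by
  classical
  obtain ⟨C⟩ := Cfsg.Agent.ChevalleyAll.cert_nonempty D hD
  set S := Cfsg.Agent.ChevBruhatInstance.sys D hD F
  obtain ⟨d, ρ, hρ, hχ⟩ := Cfsg.Agent.ChevalleySteinbergChar.st_irr C S
  haveI : Finite S.X.W := Finite.of_injective _ S.X.ρ_injective
  letI : Fintype S.X.W := Fintype.ofFinite _
  obtain ⟨n, _, hq⟩ := FiniteField.card F p
  have hp : p.Prime := Fact.out
  have hcard : Nat.card ↥(D.group F) = p ^ ((n : ℕ) * (D.nroots / 2)) *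
      (Nat.card ↥(D.diagonalSubgroup F) * ∑ w : S.X.W, Fintype.card F ^ S.X.inv w) := by
    rw [Cfsg.Agent.ChevalleySylow.card_group_eq C S, hq, pow_mul]
  rw [← hχ]
  refine Cfsg.Agent.S0165.result ρ p ((n : ℕ) * (D.nroots / 2)) hp ?_ ?_ ?_ g hg
  · exact hcard ▸ dvd_mul_right _ _
  · rw [hcard, pow_succ, Nat.mul_dvd_mul_iff_left (pow_pos hp.pos _), hp.dvd_mul]
    push Not
    exact ⟨Cfsg.Agent.ChevalleySylow.prime_not_dvd_card_H C S p, Cfsg.Agent.ChevalleySylow.prime_not_dvd_sum C S p⟩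
  · have h1 := congrFun hχ 1
    rw [Representation.char_one, Cfsg.Agent.ChevalleySteinbergChar.st_one C S, ← Nat.cast_pow, Nat.cast_inj] at h1
    rw [h1, hq, pow_mul]

end Cfsg.Agent.S2328
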