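import Cfsg.Statements.S2329
import Cfsg.Agent.Lib.UnipotentGL

set_option autoImplicit false
open Cfsg

namespace Cfsg.Agent.S2329

/-- Every element of order `p` is conjugate to the standard transvection. -/
theorem conj_standard {F : Type*} [Field F] (p : ℕ) [Fact p.Prime] [CharP F p]
    (g : Matrix.GeneralLinearGroup (Fin 2) F) (hg : orderOf g = p)
    (u : Matrix.GeneralLinearGroup (Fin 2) F) (hu : (u : Matrix (Fin 2) (Fin 2) F) = !![1, 1; 0, 1]) :
    IsConj u g := by
  obtain ⟨hn, hne⟩ := Cfsg.Agent.UnipotentGL.of_orderOf_eq_prime p g hg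
  set N := (g : Matrix (Fin 2) (Fin 2) F) - 1 with hNdef
  have h2 : N * N = 0 := by
    have := Cfsg.Agent.UnipotentGL.pow_card_eq_zero hn
    rwa [Fintype.card_fin, sq] at this
  obtain ⟨v, hv⟩ : ∃ v, Matrix.mulVec N v ≠ 0 := by
    by_contra h
    push Not at h
    exact hne (Matrix.ext_of_mulVec_single fun i => by rw [h, Matrix.zero_mulVec])
  set w := Matrix.mulVec N v with hw
  have hw0 : Matrix.mulVec N w = 0 := by rw [hw, Matrix.mulVec_mulVec, h2, Matrix.zero_mulVec]
  let P : Matrix (Fin 2) (Fin 2) F := !![w 0, v 0; w 1, v 1]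
  have hdet : P.det ≠ 0 := by
    intro hd
    obtain ⟨c, hc, hc0⟩ := (Matrix.exists_mulVec_eq_zero_iff (M := P)).2 hd
    have hc' : c 0 • w + c 1 • v = 0 := by
      ext i
      have := congrFun hc0 i
      fin_cases i <;> simp [P, Matrix.mulVec, dotProduct, Fin.sum_univ_two] at this ⊢ <;> linear_combination this
    have h1 := congrArg (Matrix.mulVec N) hc'
    rw [Matrix.mulVec_add, Matrix.mulVec_smul, Matrix.mulVec_smul, hw0, smul_zero, zero_add,
      Matrix.mulVec_zero, ← hw, smul_eq_zero] at h1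
    have h1' := h1.resolve_right hv
    rw [h1', zero_smul, add_zero, smul_eq_zero] at hc'
    exact hc (funext fun i => by fin_cases i <;> [exact hc'.resolve_right hv; exact h1'])
  refine isConj_iff.2 ⟨Matrix.GeneralLinearGroup.mkOfDetNeZero P hdet, ?_⟩
  rw [mul_inv_eq_iff_eq_mul]
  apply Units.ext
  show P * (u : Matrix (Fin 2) (Fin 2) F) = (g : Matrix (Fin 2) (Fin 2) F) * P
  rw [hu, show (g : Matrix (Fin 2) (Fin 2) F) = N + 1 by rw [hNdef]; abel, add_mul, one_mul]
  have e1 : ∀ i, N i 0 * w 0 + N i 1 * w 1 = 0 := fun i => by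
    simpa [Matrix.mulVec, dotProduct, Fin.sum_univ_two] using congrFun hw0 i
  have e2 : ∀ i, N i 0 * v 0 + N i 1 * v 1 = w i := fun i => by
    rw [hw]; simp [Matrix.mulVec, dotProduct, Fin.sum_univ_two]
  ext i j
  fin_cases i <;> fin_cases j <;> simp [P, Matrix.mul_apply, Fin.sum_univ_two, e1, e2]

/-- Over a finite field of characteristic p, any two elements of order p of GL₂ are conjugate: there is a single conjugacy class of non-identity unipotent elements. -/
theorem result {F : Type*} [Field F] [Fintype F] (p : ℕ) [Fact p.Prime] [CharP F p] (g h : Matrix.GeneralLinearGroup (Fin 2) F)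
    (hg : orderOf g = p) (hh : orderOf h = p) : IsConj g h := by
  let u : Matrix.GeneralLinearGroup (Fin 2) F :=
    Matrix.GeneralLinearGroup.mkOfDetNeZero !![1, 1; 0, 1] (by simp [Matrix.det_fin_two])
  exact (conj_standard p g hg u rfl).symm.trans (conj_standard p h hh u rfl)

end Cfsg.Agent.S2329
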