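import Cfsg.Statements.S2331
import Cfsg.Agent.Lib.SL2Classes

set_option autoImplicit false
open Cfsg

namespace Cfsg.Agent.S2331

open Cfsg.Agent.PSL2Elements Cfsg.Agent.SL2Classes

/-- Over a finite field with q elements, q even, the special linear group SL₂ has exactly q + 1 conjugacy classes. -/
theorem result {F : Type*} [Field F] [Fintype F] [CharP F 2] :
    Nat.card (ConjClasses (Matrix.SpecialLinearGroup (Fin 2) F)) = Fintype.card F + 1 := by
  classical
  rw [← Nat.card_congr (Equiv.ofBijective _ (repEven_bijective (F := F))), Nat.card_sum,
    Nat.card_fin, Nat.card_eq_fintype_card, Fintype.card_subtype_compl, Fintype.card_subtype_eq]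
  have := Fintype.card_pos (α := F)
  omega

end Cfsg.Agent.S2331
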