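import Cfsg.Statements.S2332
import Mathlib
import Cfsg.Agent.Lib.SLMinDegree32
import Cfsg.Agent.Lib.SLMinDegree32Exist
-- import your own Cfsg.Agent.* helpers here

set_option autoImplicit false
open Cfsg

namespace Cfsg.Agent.S2332

/-- Smallest degree of a non-linear irreducible complex representation of SL_n over a finite field with q elements, for n ≥ 3 and (n, q) not one of (3, 2), (3, 4), (4, 2), (4, 3): every irreducible complex representation of SL_n(F) of degree at least 2 has degree at least (q^n − q)/(q − 1), and there is an irreducible complex representation of exactly that degree. -/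
theorem result {F : Type*} [Field F] [Fintype F] [DecidableEq F] (n : ℕ) (hn : 3 ≤ n)
    (hex : (n, Fintype.card F) ≠ (3, 2) ∧ (n, Fintype.card F) ≠ (3, 4) ∧ (n, Fintype.card F) ≠ (4, 2) ∧ (n, Fintype.card F) ≠ (4, 3)) :
    (∀ (k : ℕ) (ρ : Representation ℂ (Matrix.SpecialLinearGroup (Fin n) F) (Fin k → ℂ)), ρ.IsIrreducible → 2 ≤ k → (Fintype.card F ^ n - Fintype.card F) / (Fintype.card F - 1) ≤ k) ∧
    (∃ ρ : Representation ℂ (Matrix.SpecialLinearGroup (Fin n) F) (Fin ((Fintype.card F ^ n - Fintype.card F) / (Fintype.card F - 1)) → ℂ), ρ.IsIrreducible) := by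
  obtain ⟨k, rfl⟩ : ∃ k, n = k + 2 := ⟨n - 2, by omega⟩
  set q := Fintype.card F with hq
  have hq2 : 2 ≤ q := Fintype.one_lt_card
  have hgm := SLMinDegree32.geom_mul (q := q) (by omega)
  have hdiv : (q ^ (k + 2) - q) / (q - 1) = q * SLMinDegree32.geom q (k + 1) := by
    refine Nat.div_eq_of_eq_mul_left (by omega) ?_
    rw [mul_assoc, hgm, Nat.mul_sub, mul_one, ← pow_succ']
  refine ⟨fun d ρ hirr hd => ?_, ?_⟩
  · have hnt : ∃ g, ρ g ≠ 1 := by
      by_contra! hall
      haveI := hirr
      haveI : Nonempty (Fin d) := ⟨⟨0, by omega⟩⟩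
      obtain ⟨v, hv⟩ := exists_ne (0 : Fin d → ℂ)
      let S : Subrepresentation ρ := ⟨ℂ ∙ v, fun g x hx => by rw [hall g]; exact hx⟩
      rcases eq_bot_or_eq_top S with h | h
      · exact hv ((Submodule.span_singleton_eq_bot (R := ℂ)).1
          (congrArg Subrepresentation.toSubmodule h))
      · have h' : (ℂ ∙ v) = ⊤ := congrArg Subrepresentation.toSubmodule h
        have := finrank_span_singleton (K := ℂ) hv
        rw [h', finrank_top, Module.finrank_fin_fun] at this
        omega
    have h := SLMinDegree32.le_finrank k (by omega) hex (Fin d → ℂ) ρ hnt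
    rw [hdiv]
    rwa [Module.finrank_fin_fun] at h
  · obtain ⟨ρ, hρ⟩ := SLMinDegree32Exist.exists_rep (F := F) (k + 2) (by omega)
    have hP : Nat.card (Projectivization F (Fin (k + 2) → F)) - 1 = (q ^ (k + 2) - q) / (q - 1) := by
      have h := Projectivization.card' F (Fin (k + 2) → F)
      rw [Nat.card_fun, Nat.card_eq_fintype_card (α := Fin (k + 2)), Fintype.card_fin,
        Nat.card_eq_fintype_card (α := F), ← hq] at h
      have h2 : Nat.card (Projectivization F (Fin (k + 2) → F)) = SLMinDegree32.geom q (k + 2) := by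
        refine Nat.eq_of_mul_eq_mul_right (show 0 < q - 1 by omega) ?_
        rw [hgm]
        omega
      rw [hdiv, h2, SLMinDegree32.geom_succ' q (k + 1)]
      omega
    rw [← hP]
    exact ⟨ρ, hρ⟩

end Cfsg.Agent.S2332
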