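import Cfsg.Statements.S2333
import Cfsg.Agent.Lib.SpOddMinDegree50
import Cfsg.Agent.Lib.SpEvenQuadOrbit50

set_option autoImplicit false
open Cfsg

namespace Cfsg.Agent.S2333

open Matrix Cfsg.Agent.SpOddMinDegree50 Cfsg.Agent.SymplecticSimple

theorem exists_trace_ne {F : Type*} [Field F] {n : ℕ} {D : Matrix (Fin n) (Fin n) F}
    (h : ∃ v, v ⬝ᵥ (D *ᵥ v) ≠ 0) (t : F) : ∃ C : symM F n, Matrix.trace (D * C.1) = t := by
  obtain ⟨v, hv⟩ := h
  refine ⟨⟨(t / (v ⬝ᵥ (D *ᵥ v))) • vecMulVec v v, ?_⟩, ?_⟩
  · change ((t / (v ⬝ᵥ (D *ᵥ v))) • vecMulVec v v)ᵀ = _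
    rw [Matrix.transpose_smul, Matrix.transpose_vecMulVec]
  · rw [Matrix.mul_smul, Matrix.trace_smul, Matrix.mul_vecMulVec, Matrix.trace_vecMulVec,
      smul_eq_mul, dotProduct_comm (D *ᵥ v), div_mul_cancel₀ _ hv]

open Cfsg.Agent.SpEvenQuadOrbit50 in
theorem bound {F : Type*} [Field F] [Fintype F] [DecidableEq F] [CharP F 2] {n : ℕ} (hn : 2 ≤ n)
    (hperf : 3 ≤ n ∨ n = 2 ∧ 3 ≤ Fintype.card F)
    {V : Type*} [AddCommGroup V] [Module ℂ V] [FiniteDimensional ℂ V]
    (σ : Matrix.symplecticGroup (Fin n) F →* Module.End ℂ V) (hσ : σ ≠ 1) :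
    (Fintype.card F ^ n - 1) * (Fintype.card F ^ n - Fintype.card F) ≤
      2 * (Fintype.card F + 1) * Module.finrank ℂ V := by
  classical
  obtain ⟨ψ, t₀, hψ⟩ := exists_char_ne_one (F := F)
  have : Fintype (symM F n) := Fintype.ofFinite _
  let Φ : Matrix (Fin n) (Fin n) F → Module.End ℂ V := fun M =>
    ∑ B : symM F n, ψ (-Matrix.trace (M * B.1)) • σ (siegel B)
  have hshift : ∀ M C, σ (siegel C) * Φ M = ψ (Matrix.trace (M * C.1)) • Φ M := by
    intro S C
    simp only [Φ, Finset.mul_sum, Finset.smul_sum, smul_smul]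
    refine Fintype.sum_equiv (Equiv.addLeft C) _ _ fun B => ?_
    rw [Equiv.coe_addLeft, siegel_add, map_mul, mul_smul_comm, ← AddChar.map_add_eq_mul]
    congr 2
    rw [AddSubgroup.coe_add, Matrix.mul_add, Matrix.trace_add]
    ring
  have hN : (Fintype.card (symM F n) : ℂ) ≠ 0 := Nat.cast_ne_zero.mpr Fintype.card_ne_zero
  by_cases hall : ∀ M, (∃ v w, bil M v w ≠ 0) → Φ M = 0
  · exfalso
    have hsumM : ∀ B : Matrix (Fin n) (Fin n) F, B ≠ 0 →
        ∑ M : Matrix (Fin n) (Fin n) F, ψ (-Matrix.trace (M * B)) = 0 := by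
      intro B hB
      let φ : Matrix (Fin n) (Fin n) F →+ F :=
        { toFun := fun M => -Matrix.trace (M * B)
          map_zero' := by simp
          map_add' := fun a b => by simp [Matrix.add_mul, add_comm] }
      obtain ⟨i, j, hij⟩ : ∃ i j, B i j ≠ 0 := by
        by_contra hc
        push Not at hc
        exact hB (Matrix.ext hc)
      have : ψ.compAddMonoidHom φ ≠ 1 := by
        intro h
        apply hψ
        have := DFunLike.congr_fun h (Matrix.single j i (-(t₀ / B i j)))
        simpa [φ, Matrix.trace_single_mul, hij] using this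
      exact AddChar.sum_eq_zero_of_ne_one this
    have htot : ∑ M, Φ M =
        (Fintype.card (Matrix (Fin n) (Fin n) F) : ℂ) • (1 : Module.End ℂ V) := by
      simp only [Φ]
      rw [Finset.sum_comm, Fintype.sum_eq_single (0 : symM F n)]
      · simp [siegel_zero, Finset.sum_const, ← Nat.cast_smul_eq_nsmul ℂ]
      · intro B hB
        rw [← Finset.sum_smul, hsumM B.1 (fun h => hB (Subtype.ext h)), zero_smul]
    let i₀ : Fin n := ⟨0, by omega⟩
    let i₁ : Fin n := ⟨1, by omega⟩
    let C₀ : symM F n := ⟨Matrix.single i₀ i₁ 1 + Matrix.single i₁ i₀ 1, by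
      change (Matrix.single i₀ i₁ (1 : F) + Matrix.single i₁ i₀ 1)ᵀ = _
      rw [Matrix.transpose_add, Matrix.transpose_single, Matrix.transpose_single, add_comm]⟩
    have htriv : σ (siegel C₀) = 1 := by
      have h : σ (siegel C₀) * ∑ M, Φ M = ∑ M, Φ M := by
        rw [Finset.mul_sum]
        refine Finset.sum_congr rfl fun M _ => ?_
        by_cases hM : ∃ v w, bil M v w ≠ 0
        · rw [hall M hM, mul_zero]
        · push Not at hM
          rw [hshift, show Matrix.trace (M * C₀.1) = 0 from ?_, AddChar.map_zero_eq_one, one_smul]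
          have h := hM (Pi.single i₁ 1) (Pi.single i₀ 1)
          simp [bil, Matrix.add_apply] at h
          simpa [C₀, Matrix.mul_add, Matrix.trace_mul_single] using h
      rw [htot, mul_smul_comm, mul_one] at h
      exact smul_right_injective _ (Nat.cast_ne_zero.mpr Fintype.card_ne_zero) h
    have hnot : ¬ σ.ker ≤ Subgroup.center (Matrix.symplecticGroup (Fin n) F) := by
      intro hle
      obtain ⟨a, ha⟩ := center_scalar (by omega) (hle (htriv : siegel C₀ ∈ σ.ker))
      have h := congrFun (ha (Pi.single (Sum.inr i₁) 1)) (Sum.inl i₀)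
      simp [siegel, C₀, i₀, i₁] at h
    have htop : σ.ker = ⊤ := top_le_iff.mp (le_of_eq_of_le
      (perfect n (hperf.imp id Or.inl)).symm (commutator_le_of_normal hn _ hnot))
    exact hσ (MonoidHom.ext fun g => (htop ▸ Subgroup.mem_top g : g ∈ σ.ker))
  · push Not at hall
    obtain ⟨M₀, hM₀, hΦ₀⟩ := hall
    have hcongr : ∀ (A A' : Matrix (Fin n) (Fin n) F) (h : A * A' = 1) (S S' : Matrix (Fin n) (Fin n) F),
        S = Aᵀ * S' * A → σ (levi A A' h) * Φ S = Φ S' * σ (levi A A' h) := by
      intro A A' h S S' hS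
      simp only [Φ, Finset.mul_sum, Finset.sum_mul]
      refine Fintype.sum_bijective (congrSym A) ?_ _ _ fun B => ?_
      · refine (Finite.injective_iff_bijective).mp fun B C hBC => Subtype.ext ?_
        have hu : IsUnit A := IsUnit.of_mul_eq_one A' h
        exact hu.mul_right_injective (((Matrix.isUnit_transpose _).mpr hu).mul_left_injective
          (congrArg Subtype.val hBC))
      · rw [mul_smul_comm, smul_mul_assoc, ← map_mul, ← map_mul, levi_siegel]
        congr 3
        simp only [hS, congrSym, Matrix.mul_assoc]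
        rw [Matrix.trace_mul_comm]
        simp only [Matrix.mul_assoc]
    have hne : ∀ g ∈ SpEvenQuadOrbit50.orbit M₀, ∃ M, quad M = g ∧ ∃ x, Φ M x ≠ 0 := by
      intro g hg
      obtain ⟨A, hA, rfl⟩ := SpEvenQuadOrbit50.mem_orbit.mp hg
      refine ⟨Aᵀ * M₀ * A, funext fun v => ?_, ?_⟩
      · simp only [quad]
        rw [← Matrix.mulVec_mulVec, ← Matrix.mulVec_mulVec, Matrix.dotProduct_mulVec,
          Matrix.vecMul_transpose]
      · by_contra hc
        push Not at hc
        have h0 : Φ (Aᵀ * M₀ * A) = 0 := LinearMap.ext hc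
        refine hΦ₀ ?_
        have he := hcongr A (↑hA.unit⁻¹) hA.mul_val_inv _ M₀ rfl
        rw [h0, mul_zero] at he
        have hu : IsUnit (σ (levi A (↑hA.unit⁻¹) hA.mul_val_inv)) := (Group.isUnit _).map σ
        exact hu.mul_left_eq_zero.mp he.symm
    choose Mg hMg xg hxg using hne
    have horth : ∀ M M', quad M ≠ quad M' → Φ M * Φ M' = 0 := by
      intro M M' hne
      have : Φ M * Φ M' =
          (∑ C : symM F n, ψ (Matrix.trace ((M' - M) * C.1))) • Φ M' := by
        rw [show Φ M = ∑ B : symM F n, ψ (-Matrix.trace (M * B.1)) • σ (siegel B) from rfl,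
          Finset.sum_mul, Finset.sum_smul]
        refine Finset.sum_congr rfl fun C _ => ?_
        rw [smul_mul_assoc, hshift, smul_smul, ← AddChar.map_add_eq_mul]
        congr 2
        rw [Matrix.sub_mul, Matrix.trace_sub]
        ring
      rw [this]
      let φ : symM F n →+ F :=
        { toFun := fun C => Matrix.trace ((M' - M) * C.1)
          map_zero' := by simp
          map_add' := fun a b => by simp [Matrix.mul_add] }
      obtain ⟨v, hv⟩ := Function.ne_iff.mp hne
      obtain ⟨C, hC⟩ := exists_trace_ne (D := M' - M) ⟨v, by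
        rw [Matrix.sub_mulVec, dotProduct_sub]; exact sub_ne_zero.mpr (Ne.symm hv)⟩ t₀
      have hφ : ψ.compAddMonoidHom φ ≠ 1 := by
        intro h
        apply hψ
        have := DFunLike.congr_fun h C
        simpa [φ, hC] using this
      have h0 : ∑ C : symM F n, ψ (Matrix.trace ((M' - M) * C.1)) = 0 :=
        AddChar.sum_eq_zero_of_ne_one hφ
      rw [h0, zero_smul]
    have hself : ∀ M, Φ M * Φ M = (Fintype.card (symM F n) : ℂ) • Φ M := by
      intro S
      calc Φ S * Φ S = ∑ B : symM F n, ψ (-Matrix.trace (S * B.1)) • (σ (siegel B) * Φ S) := by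
            simp only [Φ, Finset.sum_mul, smul_mul_assoc]
        _ = ∑ _B : symM F n, Φ S := by
            refine Finset.sum_congr rfl fun B _ => ?_
            rw [hshift, smul_smul, ← AddChar.map_add_eq_mul, neg_add_cancel,
              AddChar.map_zero_eq_one, one_smul]
        _ = _ := by rw [Finset.sum_const, Finset.card_univ, ← Nat.cast_smul_eq_nsmul ℂ]
    have hli : LinearIndependent ℂ fun g : SpEvenQuadOrbit50.orbit M₀ => Φ (Mg g.1 g.2) (xg g.1 g.2) := by
      rw [Fintype.linearIndependent_iff]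
      intro c hc S
      have h := congrArg (Φ (Mg S.1 S.2)) hc
      rw [map_sum, map_zero, Fintype.sum_eq_single S] at h
      · rw [map_smul, ← Module.End.mul_apply, hself, LinearMap.smul_apply] at h
        rcases smul_eq_zero.mp h with h1 | h1
        · exact h1
        · exact absurd ((smul_eq_zero.mp h1).resolve_left hN) (hxg S.1 S.2)
      · intro T hT
        rw [map_smul, ← Module.End.mul_apply, horth _ _ (fun e => hT (Subtype.ext (by
          rw [hMg S.1 S.2, hMg T.1 T.2] at e; exact e.symm))), LinearMap.zero_apply, smul_zero]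
    have h1 := hli.fintype_card_le_finrank
    rw [Fintype.card_coe] at h1
    exact le_trans (card_orbit_ge hn M₀ hM₀) (Nat.mul_le_mul_left _ h1)

/-- For a finite field F of even order q and n ≥ 2 with (n, q) ≠ (2, 2), every irreducible complex representation of the symplectic group Sp_{2n}(F) of degree at least 2 has degree at least (q^n − 1)(q^n − q)/(2(q + 1)). -/
theorem result {F : Type*} [Field F] [Fintype F] [DecidableEq F] (n : ℕ) (hn : 2 ≤ n) (heven : Even (Fintype.card F)) (hex : (n, Fintype.card F) ≠ (2, 2)) :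
    (∀ (k : ℕ) (ρ : Representation ℂ (Matrix.symplecticGroup (Fin n) F) (Fin k → ℂ)), ρ.IsIrreducible → 2 ≤ k → (Fintype.card F ^ n - 1) * (Fintype.card F ^ n - Fintype.card F) / (2 * (Fintype.card F + 1)) ≤ k) := by
  intro k ρ hirr hk
  have hchar : ringChar F = 2 :=
    FiniteField.even_card_iff_char_two.mpr (Nat.even_iff.mp heven)
  have : CharP F 2 := ringChar.eq_iff.mp hchar
  have hperf : 3 ≤ n ∨ n = 2 ∧ 3 ≤ Fintype.card F := by
    rcases (show n = 2 ∨ 3 ≤ n by omega) with h | h
    · refine Or.inr ⟨h, ?_⟩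
      have h1 := Fintype.one_lt_card (α := F)
      by_contra h2
      exact hex (by rw [h, show Fintype.card F = 2 by omega])
    · exact Or.inl h
  have hne : ρ ≠ 1 := by
    intro hρ
    subst hρ
    let W : Subrepresentation (1 : Representation ℂ (Matrix.symplecticGroup (Fin n) F) (Fin k → ℂ)) :=
      ⟨Submodule.span ℂ {Pi.single ⟨0, by omega⟩ 1}, fun g v hv => by simpa using hv⟩
    rcases hirr.eq_bot_or_eq_top W with h | h
    · have h1 : (Pi.single (⟨0, by omega⟩ : Fin k) (1 : ℂ)) ∈ W.toSubmodule :=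
        Submodule.mem_span_singleton_self _
      rw [h] at h1
      simpa using congrFun ((Submodule.mem_bot ℂ).mp h1) ⟨0, by omega⟩
    · have h1 : (Pi.single (⟨1, by omega⟩ : Fin k) (1 : ℂ)) ∈ W.toSubmodule := by
        rw [h]; exact Submodule.mem_top
      obtain ⟨a, ha⟩ := Submodule.mem_span_singleton.mp h1
      simpa [Pi.single_eq_of_ne (show (⟨1, by omega⟩ : Fin k) ≠ ⟨0, by omega⟩ by
        simp [Fin.ext_iff])] using congrFun ha ⟨1, by omega⟩
  have h := bound hn hperf ρ hne
  rw [Module.finrank_fin_fun] at h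
  exact Nat.div_le_of_le_mul h

end Cfsg.Agent.S2333
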