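import Cfsg.Statements.S2336
import Cfsg.Agent.Lib.CharBasicPerm
import Cfsg.Agent.Lib.GL2Chars

set_option autoImplicit false
open Cfsg

namespace Cfsg.Agent.S2336

open Matrix Module
open scoped MatrixGroups ComplexConjugate

section

variable {F : Type*} [Field F] {n : ℕ}

theorem inv_mulVec (g : SpecialLinearGroup (Fin n) F) (v : Fin n → F) :
    (g⁻¹).1.mulVec (g.1.mulVec v) = v := by
  rw [mulVec_mulVec]
  show (g⁻¹ * g).1.mulVec v = v
  rw [inv_mul_cancel]
  exact one_mulVec v

/-- Two independent vectors are the images of the first two basis vectors under some `g` of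
determinant one. -/
theorem exists_sl_pair (hn : 3 ≤ n) {v w : Fin n → F} (h : LinearIndependent F ![v, w]) :
    ∃ g : SpecialLinearGroup (Fin n) F,
      g.1.mulVec (Pi.single ⟨0, by omega⟩ 1) = v ∧ g.1.mulVec (Pi.single ⟨1, by omega⟩ 1) = w := by
  classical
  set i0 : Fin n := ⟨0, by omega⟩
  set i1 : Fin n := ⟨1, by omega⟩
  set i2 : Fin n := ⟨2, by omega⟩
  let e0 : Fin n → F := Pi.single i0 1
  let e1 : Fin n → F := Pi.single i1 1
  have he : LinearIndependent F ![e0, e1] := by
    rw [LinearIndependent.pair_iff]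
    intro s t hst
    have h0 := congrFun hst i0
    have h1 := congrFun hst i1
    simp [e0, e1, i0, i1] at h0 h1
    exact ⟨h0, h1⟩
  set U := Submodule.span F (Set.range ![e0, e1])
  set U' := Submodule.span F (Set.range ![v, w])
  let φ : U ≃ₗ[F] U' := (Basis.span he).equiv (Basis.span h) (Equiv.refl _)
  obtain ⟨W, hW⟩ := Submodule.exists_isCompl U
  obtain ⟨W', hW'⟩ := Submodule.exists_isCompl U'
  have hWW : finrank F W = finrank F W' := by
    have a := Submodule.finrank_add_eq_of_isCompl hW
    have b := Submodule.finrank_add_eq_of_isCompl hW'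
    have c := φ.finrank_eq
    omega
  let ψ : (Fin n → F) ≃ₗ[F] (Fin n → F) := (Submodule.prodEquivOfIsCompl U W hW).symm ≪≫ₗ
    (φ.prodCongr (LinearEquiv.ofFinrankEq W W' hWW)) ≪≫ₗ Submodule.prodEquivOfIsCompl U' W' hW'
  have hψ : ∀ i : Fin 2, ψ ((![e0, e1]) i) = (![v, w]) i := by
    intro i
    have h1 : (Submodule.prodEquivOfIsCompl U W hW).symm ((![e0, e1]) i) =
        ((Basis.span he i : U), 0) := by
      rw [← Basis.coe_span_apply he i]
      exact Submodule.prodEquivOfIsCompl_symm_apply_left U W hW _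
    simp only [ψ, LinearEquiv.trans_apply, h1, LinearEquiv.prodCongr_apply, map_zero, φ,
      Basis.equiv_apply, Equiv.refl_apply, Submodule.coe_prodEquivOfIsCompl', Submodule.coe_zero,
      add_zero]
    exact Basis.coe_span_apply h i
  set M : Matrix (Fin n) (Fin n) F := LinearMap.toMatrix' (ψ : (Fin n → F) →ₗ[F] (Fin n → F))
  have hM : ∀ x, M.mulVec x = ψ x := fun x => LinearMap.toMatrix'_mulVec _ x
  have hd : M.det ≠ 0 := by
    rw [LinearMap.det_toMatrix']
    exact ψ.isUnit_det'.ne_zero
  let D : Matrix (Fin n) (Fin n) F := diagonal (Function.update (fun _ => (1 : F)) i2 M.det⁻¹)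
  have hDdet : D.det = M.det⁻¹ := by
    rw [det_diagonal, Finset.prod_update_of_mem (Finset.mem_univ _)]
    simp
  refine ⟨⟨M * D, by rw [det_mul, hDdet, mul_inv_cancel₀ hd]⟩, ?_, ?_⟩ <;>
    rw [← mulVec_mulVec, hM]
  · have : D.mulVec e0 = e0 := by
      ext i
      simp only [D, mulVec_diagonal, e0, Pi.single_apply]
      split_ifs with hi
      · subst hi; rw [Function.update_of_ne (by simp [i0, i2]), one_mul]
      · rw [mul_zero]
    rw [this]; exact hψ 0
  · have : D.mulVec e1 = e1 := by
      ext i
      simp only [D, mulVec_diagonal, e1, Pi.single_apply]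
      split_ifs with hi
      · subst hi; rw [Function.update_of_ne (by simp [i1, i2]), one_mul]
      · rw [mul_zero]
    rw [this]; exact hψ 1

theorem exists_independent (hn : 2 ≤ n) {v : Fin n → F} (hv : v ≠ 0) :
    ∃ w, LinearIndependent F ![v, w] := by
  classical
  by_contra hc
  push Not at hc
  have hspan : (⊤ : Submodule F (Fin n → F)) ≤ F ∙ v := fun w _ => by
    have := hc w
    rw [LinearIndependent.pair_iff' hv] at this
    push Not at this
    obtain ⟨a, ha⟩ := this
    exact Submodule.mem_span_singleton.2 ⟨a, ha⟩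
  have h1 := Submodule.finrank_mono hspan
  rw [finrank_top, Module.finrank_fin_fun, finrank_span_singleton hv] at h1
  omega

/-- Nonzero vectors. -/
def Pts (F : Type*) [Field F] (n : ℕ) := {v : Fin n → F // v ≠ 0}

theorem mulVec_ne {v : Fin n → F} (hv : v ≠ 0) (g : SpecialLinearGroup (Fin n) F) :
    g.1.mulVec v ≠ 0 := fun h => hv (by
  have := congrArg (g⁻¹).1.mulVec h
  rwa [inv_mulVec, mulVec_zero] at this)

instance : MulAction (SpecialLinearGroup (Fin n) F) (Pts F n) where
  smul g v := ⟨g.1.mulVec v.1, mulVec_ne v.2 g⟩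
  one_smul v := Subtype.ext (one_mulVec v.1)
  mul_smul g h v := Subtype.ext (mulVec_mulVec v.1 g.1 h.1).symm

instance : MulAction (SpecialLinearGroup (Fin n) F × Fˣ) (Pts F n) where
  smul z v := ⟨(z.2 : F) • z.1.1.mulVec v.1, smul_ne_zero z.2.ne_zero (mulVec_ne v.2 z.1)⟩
  one_smul v := Subtype.ext (by show ((1 : Fˣ) : F) • _ = _; simp)
  mul_smul a b v := Subtype.ext (by
    show ((a.2 * b.2 : Fˣ) : F) • (a.1.1 * b.1.1).mulVec v.1 =
      (a.2 : F) • a.1.1.mulVec ((b.2 : F) • b.1.1.mulVec v.1)
    rw [mulVec_smul, smul_smul, ← mulVec_mulVec, Units.val_mul])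

instance [Finite F] : Finite (Pts F n) := Subtype.finite

theorem card_orbits_pairs [Finite F] (hn : 3 ≤ n) :
    Nat.card (MulAction.orbitRel.Quotient (SpecialLinearGroup (Fin n) F) (Pts F n × Pts F n)) =
      Nat.card F := by
  classical
  have := Fintype.ofFinite F
  set i0 : Fin n := ⟨0, by omega⟩
  set i1 : Fin n := ⟨1, by omega⟩
  have h0 : (Pi.single i0 1 : Fin n → F) ≠ 0 := by simp
  have h1 : (Pi.single i1 1 : Fin n → F) ≠ 0 := by simp
  let f : Option Fˣ → Pts F n × Pts F n := fun o => match o with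
    | none => (⟨_, h0⟩, ⟨_, h1⟩)
    | some c => (⟨_, h0⟩, ⟨(c : F) • Pi.single i0 1, smul_ne_zero c.ne_zero h0⟩)
  have hbij : Function.Bijective (fun o => (Quotient.mk (MulAction.orbitRel
      (SpecialLinearGroup (Fin n) F) (Pts F n × Pts F n)) (f o))) := by
    constructor
    · intro a b hab
      obtain ⟨g, hg⟩ := Quotient.exact hab
      have e1 := congrArg (fun z : Pts F n × Pts F n => z.1.1) hg
      have e2 := congrArg (fun z : Pts F n × Pts F n => z.2.1) hg
      have key : ∀ c : F, g.1.mulVec (Pi.single i1 1) = c • g.1.mulVec (Pi.single i0 1) → False := by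
        intro c e
        rw [← mulVec_smul] at e
        have := congrArg (g⁻¹).1.mulVec e
        rw [inv_mulVec, inv_mulVec] at this
        have := congrFun this i1
        simp [i0, i1] at this
      cases a with
      | none =>
        cases b with
        | none => rfl
        | some c =>
          exfalso
          change g.1.mulVec (Pi.single i0 1) = Pi.single i0 1 at e1
          change g.1.mulVec ((c : F) • Pi.single i0 1) = Pi.single i1 1 at e2
          rw [mulVec_smul, e1] at e2
          have := congrFun e2 i1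
          simp [i0, i1] at this
      | some c =>
        cases b with
        | none =>
          exfalso
          change g.1.mulVec (Pi.single i0 1) = Pi.single i0 1 at e1
          change g.1.mulVec (Pi.single i1 1) = (c : F) • Pi.single i0 1 at e2
          exact key (c : F) (by rw [e2, e1])
        | some c' =>
          change g.1.mulVec (Pi.single i0 1) = Pi.single i0 1 at e1
          change g.1.mulVec ((c' : F) • Pi.single i0 1) = (c : F) • Pi.single i0 1 at e2
          rw [mulVec_smul, e1] at e2
          exact congrArg some (Units.ext (smul_left_injective F h0 e2.symm))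
    · intro z
      induction z using Quotient.inductionOn with
      | h z =>
        obtain ⟨⟨v, hv⟩, ⟨w, hw⟩⟩ := z
        by_cases hli : LinearIndependent F ![v, w]
        · obtain ⟨g, hg0, hg1⟩ := exists_sl_pair hn hli
          refine ⟨none, Quotient.sound ⟨g⁻¹, ?_⟩⟩
          show g⁻¹ • ((⟨v, hv⟩, ⟨w, hw⟩) : Pts F n × Pts F n) = _
          rw [inv_smul_eq_iff]
          exact Prod.ext (Subtype.ext hg0.symm) (Subtype.ext hg1.symm)
        · rw [LinearIndependent.pair_iff' hv] at hli
          push Not at hli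
          obtain ⟨c, hc⟩ := hli
          have hc0 : c ≠ 0 := fun e => hw (by rw [← hc, e, zero_smul])
          obtain ⟨w', hw'⟩ := exists_independent (by omega) hv
          obtain ⟨g, hg0, -⟩ := exists_sl_pair hn hw'
          refine ⟨some (Units.mk0 c hc0), Quotient.sound ⟨g⁻¹, ?_⟩⟩
          show g⁻¹ • ((⟨v, hv⟩, ⟨w, hw⟩) : Pts F n × Pts F n) = _
          rw [inv_smul_eq_iff]
          refine Prod.ext (Subtype.ext hg0.symm) (Subtype.ext ?_)
          show w = g.1.mulVec (c • _)
          rw [mulVec_smul, hg0, hc]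
  rw [← Nat.card_congr (Equiv.ofBijective _ hbij), Nat.card_eq_fintype_card, Fintype.card_option,
    Fintype.card_units, Nat.card_eq_fintype_card]
  have := Fintype.card_pos (α := F)
  omega

variable [Fintype F] [DecidableEq F]

/-- Number of fixed nonzero vectors of `t · g`. -/
noncomputable def fixN (g : SpecialLinearGroup (Fin n) F) (t : Fˣ) : ℂ :=
  (Nat.card (MulAction.fixedBy (Pts F n) (g, t)) : ℂ)

/-- The isotypic part. -/
noncomputable def theta (α : MulChar F ℂ) (g : SpecialLinearGroup (Fin n) F) : ℂ :=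
  (Nat.card Fˣ : ℂ)⁻¹ * ∑ t : Fˣ, fixN g t * α t

theorem isCharacter_theta (α : MulChar F ℂ) :
    IsCharacter (SpecialLinearGroup (Fin n) F) (theta α) := by
  classical
  rw [CharBasicDecomp.isCharacter_iff]
  have hprod := CharBasicPerm.isCharacter_fixedBy (G := SpecialLinearGroup (Fin n) F × Fˣ) (Pts F n)
  have hcl := CharBasic.isClassFunction_of_isCharacter hprod
  refine ⟨fun g h => ?_, fun ψ => ?_⟩
  · simp only [theta]
    congr 1
    refine Finset.sum_congr rfl fun t _ => ?_
    have := hcl (g, t) (h, 1)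
    simp only [Prod.mk_mul_mk, Prod.inv_mk, one_mul, inv_one, mul_one] at this
    rw [fixN, fixN, this]
  · let lam : SpecialLinearGroup (Fin n) F × Fˣ →* ℂˣ :=
      (α⁻¹).toUnitHom.comp (MonoidHom.snd _ _)
    obtain ⟨m, hm⟩ := CharBasicOrth.classInner_isCharacter hprod
      (CharBasicDecomp.isCharacter_mul
        (CharBasic.isCharacter_comap (MonoidHom.fst _ _) (CharBasic.isCharacter_of_isIrrCharacter ψ.2))
        (CharBasicDecomp.isCharacter_linear lam))
    refine ⟨m, ?_⟩
    rw [← hm]
    simp only [classInner, theta, Fintype.sum_prod_type, Nat.card_prod, Nat.cast_mul, mul_inv,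
      Finset.sum_mul, Finset.mul_sum]
    refine Finset.sum_congr rfl fun g _ => Finset.sum_congr rfl fun t _ => ?_
    simp only [lam, fixN, Pi.mul_apply, Function.comp_apply, MonoidHom.comp_apply, MonoidHom.coe_fst, MonoidHom.coe_snd,
      MulChar.coe_toUnitHom, map_mul, GL2Chars.conj_apply, inv_inv]
    ring

theorem theta_one (α : MulChar F ℂ) :
    theta α (1 : SpecialLinearGroup (Fin n) F) =
      ((Fintype.card F : ℂ) ^ n - 1) / (Nat.card Fˣ : ℂ) := by
  classical
  have h1 : ∀ t : Fˣ, fixN (1 : SpecialLinearGroup (Fin n) F) t =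
      if t = 1 then (Fintype.card F : ℂ) ^ n - 1 else 0 := by
    intro t
    split_ifs with ht
    · subst ht
      rw [fixN, show MulAction.fixedBy (Pts F n) ((1, 1) : SpecialLinearGroup (Fin n) F × Fˣ) = Set.univ from
        Set.eq_univ_of_forall fun v => one_smul _ v, Nat.card_univ]
      have : Nat.card (Pts F n) = Fintype.card F ^ n - 1 := by
        show Nat.card {v : Fin n → F // v ≠ 0} = _
        rw [Nat.card_eq_fintype_card,
          Fintype.card_subtype_compl, Fintype.card_fun, Fintype.card_fin, Fintype.card_subtype_eq]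
      rw [this, Nat.cast_sub (Nat.one_le_pow _ _ Fintype.card_pos), Nat.cast_pow, Nat.cast_one]
    · rw [fixN, show MulAction.fixedBy (Pts F n) ((1, t) : SpecialLinearGroup (Fin n) F × Fˣ) = ∅ from
        Set.eq_empty_of_forall_notMem fun v hv => ht ?_]
      · simp
      have e : (t : F) • (1 : Matrix (Fin n) (Fin n) F).mulVec v.1 = v.1 := congrArg Subtype.val hv
      rw [one_mulVec] at e
      refine Units.ext (smul_left_injective F v.2 ?_)
      simpa using e
  simp only [theta, h1, ite_mul, zero_mul, Finset.sum_ite_eq', Finset.mem_univ, if_true,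
    Units.val_one, map_one, mul_one]
  rw [inv_mul_eq_div]

theorem sum_theta [Fintype (MulChar F ℂ)] (g : SpecialLinearGroup (Fin n) F) :
    ∑ α : MulChar F ℂ, theta α g = (Nat.card (MulAction.fixedBy (Pts F n) g) : ℂ) := by
  classical
  simp only [theta, ← Finset.mul_sum]
  rw [Finset.sum_comm]
  simp only [← Finset.mul_sum, GL2Chars.sum_mulChar, mul_ite, mul_zero, Finset.sum_ite_eq',
    Finset.mem_univ, if_true]
  have e : MulAction.fixedBy (Pts F n) ((g, 1) : SpecialLinearGroup (Fin n) F × Fˣ) =
      MulAction.fixedBy (Pts F n) g := by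
    ext v
    constructor <;> intro hv <;> refine Subtype.ext ?_
    · have := congrArg Subtype.val hv
      change ((1 : Fˣ) : F) • g.1.mulVec v.1 = v.1 at this
      rwa [Units.val_one, one_smul] at this
    · have := congrArg Subtype.val hv
      change g.1.mulVec v.1 = v.1 at this
      show ((1 : Fˣ) : F) • g.1.mulVec v.1 = v.1
      rw [Units.val_one, one_smul, this]
  rw [fixN, e, Nat.card_units, Nat.card_eq_fintype_card, Nat.cast_sub Fintype.card_pos, Nat.cast_one]
  field_simp [GL2Chars.card_sub_one_ne]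

theorem inner_theta_one (hn : 3 ≤ n) :
    classInner (theta (1 : MulChar F ℂ)) (fun _ : SpecialLinearGroup (Fin n) F => (1 : ℂ)) = 1 := by
  classical
  have h := CharBasicPerm.classInner_fixedBy_one (G := SpecialLinearGroup (Fin n) F × Fˣ) (Pts F n)
  have : Subsingleton (MulAction.orbitRel.Quotient (SpecialLinearGroup (Fin n) F × Fˣ) (Pts F n)) := by
    refine ⟨fun a b => ?_⟩
    induction a using Quotient.inductionOn with
    | h v =>
      induction b using Quotient.inductionOn with
      | h w =>
        obtain ⟨v', hv'⟩ := exists_independent (by omega) v.2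
        obtain ⟨w', hw'⟩ := exists_independent (by omega) w.2
        obtain ⟨g, hg, -⟩ := exists_sl_pair hn hv'
        obtain ⟨k, hk, -⟩ := exists_sl_pair hn hw'
        refine Quotient.sound ⟨(g * k⁻¹, 1), Subtype.ext ?_⟩
        show ((1 : Fˣ) : F) • (g * k⁻¹).1.mulVec w.1 = v.1
        rw [Units.val_one, one_smul, ← hg, ← hk]
        show (g.1 * (k⁻¹).1).mulVec _ = _
        rw [← mulVec_mulVec, inv_mulVec]
  have : Nonempty (Pts F n) := ⟨⟨Pi.single ⟨0, by omega⟩ 1, by simp⟩⟩
  have : Unique (MulAction.orbitRel.Quotient (SpecialLinearGroup (Fin n) F × Fˣ) (Pts F n)) :=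
    uniqueOfSubsingleton (Quotient.mk _ (Classical.arbitrary _))
  rw [Nat.card_unique, Nat.cast_one] at h
  refine Eq.trans ?_ h
  simp only [classInner, theta, Fintype.sum_prod_type, Nat.card_prod, Nat.cast_mul, mul_inv,
    map_one, mul_one, Finset.mul_sum]
  refine Finset.sum_congr rfl fun g _ => Finset.sum_congr rfl fun t _ => ?_
  rw [fixN, MulChar.one_apply_coe, mul_one]
  ring

end


/-- Let F be a finite field with q elements and n ≥ 3. The permutation character of SL_n(F) on the non-zero vectors of F^n (the function sending a matrix to the number of non-zero vectors it fixes) is the sum of the principal character and q − 1 pairwise distinct irreducible complex characters. -/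
theorem result {F : Type*} [Field F] [Fintype F] [DecidableEq F] (n : ℕ) (hn : 3 ≤ n) :
    ∃ χ : Fin (Fintype.card F - 1) → (Matrix.SpecialLinearGroup (Fin n) F → ℂ),
      (∀ i, Cfsg.IsIrrCharacter (Matrix.SpecialLinearGroup (Fin n) F) (χ i)) ∧ Function.Injective χ ∧
      ∀ g : Matrix.SpecialLinearGroup (Fin n) F,
        (Nat.card {v : Fin n → F // v ≠ 0 ∧ (g : Matrix (Fin n) (Fin n) F).mulVec v = v} : ℂ) = 1 + ∑ i, χ i g := by
  classical
  have := Fintype.ofFinite (MulChar F ℂ)
  set G := Matrix.SpecialLinearGroup (Fin n) F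
  have hθ := fun α : MulChar F ℂ => isCharacter_theta (n := n) α
  choose N hN using fun α β : MulChar F ℂ => CharBasicOrth.classInner_isCharacter (hθ α) (hθ β)
  have hq1 : 1 < Fintype.card F := Fintype.one_lt_card
  have hdeg : ∀ α : MulChar F ℂ, theta α (1 : G) ≠ 0 ∧ theta α (1 : G) ≠ 1 := by
    intro α
    have hc : (Nat.card Fˣ : ℂ) = (Fintype.card F : ℂ) - 1 := by
      rw [Nat.card_units, Nat.card_eq_fintype_card, Nat.cast_sub Fintype.card_pos, Nat.cast_one]
    rw [theta_one, hc]
    have hlt : Fintype.card F < Fintype.card F ^ n := by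
      calc Fintype.card F = Fintype.card F ^ 1 := (pow_one _).symm
        _ < _ := Nat.pow_lt_pow_right hq1 (by omega)
    constructor
    · refine div_ne_zero ?_ GL2Chars.card_sub_one_ne
      rw [sub_ne_zero]
      intro e
      have : Fintype.card F ^ n = 1 := by exact_mod_cast e
      omega
    · rw [ne_eq, div_eq_one_iff_eq GL2Chars.card_sub_one_ne, sub_left_inj]
      intro e
      have : Fintype.card F ^ n = Fintype.card F := by exact_mod_cast e
      omega
  have hone : CharBasicDecomp.trivIrr G = (⟨fun _ => 1, CharBasicDecomp.isIrrCharacter_one⟩ :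
      Cfsg.IrrCharacter G) := rfl
  -- norms
  have hpos : ∀ α, 1 ≤ N α α := by
    intro α
    by_contra h0
    push Not at h0
    have h := hN α α
    rw [Nat.lt_one_iff.1 h0, Nat.cast_zero] at h
    exact (hdeg α).1 (congrFun (CharBasicOrth.eq_zero_of_classInner_self h) 1)
  obtain ⟨m, hm, hsum⟩ := CharBasicDecomp.exists_mult (hθ 1)
  have hm1 : m (CharBasicDecomp.trivIrr G) = 1 := by
    have := hm (CharBasicDecomp.trivIrr G)
    rw [hone] at this ⊢
    rw [inner_theta_one hn] at this
    exact_mod_cast this.symm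
  have hN11 : N 1 1 = ∑ ψ, m ψ * m ψ := by
    have h := hN 1 1
    conv_lhs at h => arg 2; rw [hsum]
    rw [CharBasicOrth.classInner_sum_right] at h
    simp only [CharBasicOrth.classInner_smul_right, hm, Complex.conj_natCast] at h
    exact_mod_cast h.symm
  obtain ⟨ψ₀, hψne, hψ0⟩ : ∃ ψ, ψ ≠ CharBasicDecomp.trivIrr G ∧ m ψ ≠ 0 := by
    by_contra hc
    push Not at hc
    refine (hdeg 1).2 ?_
    rw [hsum, Finset.sum_apply, Finset.sum_eq_single (CharBasicDecomp.trivIrr G)]
    · rw [Pi.smul_apply, hm1, Nat.cast_one, one_smul]; rfl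
    · intro ψ _ h
      rw [hc ψ h, Nat.cast_zero, zero_smul, Pi.zero_apply]
    · simp
  have hsplit : 1 + m ψ₀ * m ψ₀ ≤ N 1 1 := by
    rw [hN11]
    calc 1 + m ψ₀ * m ψ₀ = ∑ ψ ∈ ({CharBasicDecomp.trivIrr G, ψ₀} : Finset _), m ψ * m ψ := by
          rw [Finset.sum_pair hψne.symm, hm1]
      _ ≤ _ := Finset.sum_le_sum_of_subset (Finset.subset_univ _)
  have htotal : ∑ α, ∑ β, N α β = Fintype.card F := by
    have h := CharBasicPerm.classInner_fixedBy_self (G := G) (Pts F n)
    rw [card_orbits_pairs hn, Nat.card_eq_fintype_card] at h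
    have e : (fun g : G => (Nat.card (MulAction.fixedBy (Pts F n) g) : ℂ)) =
        ∑ α : MulChar F ℂ, theta α := funext fun g => by rw [Finset.sum_apply, sum_theta]
    rw [e, CharBasicOrth.classInner_sum_left] at h
    simp only [CharBasicOrth.classInner_sum_right, hN] at h
    exact_mod_cast h
  have hcard : Fintype.card (MulChar F ℂ) = Fintype.card F - 1 := by
    rw [← Nat.card_eq_fintype_card, GL2Chars.card_mulChar]
  have hψpos : 1 ≤ m ψ₀ * m ψ₀ := Nat.one_le_iff_ne_zero.2 (mul_ne_zero hψ0 hψ0)
  let lb : MulChar F ℂ → ℕ := fun α => if α = 1 then 2 else 1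
  have hlb : ∑ α, lb α = Fintype.card F := by
    have e : ∀ α, lb α = 1 + if α = 1 then 1 else 0 := fun α => by simp only [lb]; split_ifs <;> rfl
    simp only [e, Finset.sum_add_distrib, Finset.sum_ite_eq', Finset.mem_univ, if_true,
      Finset.sum_const, Finset.card_univ, hcard, smul_eq_mul, mul_one]
    omega
  have hle1 : ∀ α, lb α ≤ N α α := fun α => by
    simp only [lb]; split_ifs with h
    · subst h; omega
    · exact hpos α
  have hle2 : ∀ α, N α α ≤ ∑ β, N α β := fun α =>
    Finset.single_le_sum (fun _ _ => Nat.zero_le _) (Finset.mem_univ α)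
  have hrow := (Finset.sum_eq_sum_iff_of_le (fun α _ => (hle1 α).trans (hle2 α))).1 (hlb.trans htotal.symm)
  have hdiag : ∀ α, N α α = lb α := fun α =>
    le_antisymm ((hle2 α).trans (hrow α (Finset.mem_univ α)).ge) (hle1 α)
  have hoff : ∀ α β, β ≠ α → N α β = 0 := by
    intro α β hne
    have h1 := hrow α (Finset.mem_univ α)
    rw [← hdiag α, ← Finset.add_sum_erase _ _ (Finset.mem_univ α)] at h1
    have h2 : ∑ γ ∈ Finset.univ.erase α, N α γ = 0 := by omega
    exact Finset.sum_eq_zero_iff.1 h2 β (by simp [hne])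
  have hψ1 : m ψ₀ = 1 := by
    have := hdiag 1
    simp only [lb, if_true] at this
    exact Nat.eq_one_of_mul_eq_one_right (show m ψ₀ * m ψ₀ = 1 by omega)
  have hθ1 : theta (n := n) (1 : MulChar F ℂ) = (fun _ => 1) + (ψ₀ : G → ℂ) := by
    rw [hsum, ← Finset.sum_subset (Finset.subset_univ ({CharBasicDecomp.trivIrr G, ψ₀} : Finset _)),
      Finset.sum_pair hψne.symm, hm1, hψ1, Nat.cast_one, one_smul, one_smul]
    · rfl
    · intro ψ _ hψ
      have h11 : ∑ ψ, m ψ * m ψ = 2 := by rw [← hN11, hdiag]; simp [lb]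
      rw [← Finset.add_sum_erase _ _ (Finset.mem_univ (CharBasicDecomp.trivIrr G)), hm1,
        ← Finset.add_sum_erase _ _ (show ψ₀ ∈ Finset.univ.erase (CharBasicDecomp.trivIrr G) by
          simp [hψne]), hψ1] at h11
      simp only [Finset.mem_insert, Finset.mem_singleton, not_or] at hψ
      have h2 : ∑ φ ∈ (Finset.univ.erase (CharBasicDecomp.trivIrr G)).erase ψ₀, m φ * m φ = 0 := by
        omega
      have := Finset.sum_eq_zero_iff.1 h2 ψ (by simp [hψ.1, hψ.2])
      rw [mul_self_eq_zero.1 this, Nat.cast_zero, zero_smul]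
  let χ : MulChar F ℂ → G → ℂ := fun α => if α = 1 then (ψ₀ : G → ℂ) else theta α
  have hirr : ∀ α, Cfsg.IsIrrCharacter G (χ α) := by
    intro α
    simp only [χ]
    split_ifs with h
    · exact ψ₀.2
    · rw [CharBasicDecomp.isIrrCharacter_iff]
      refine ⟨hθ α, ?_⟩
      rw [hN, hdiag, show lb α = 1 from if_neg h, Nat.cast_one]
  have hinj : Function.Injective χ := by
    intro α β e
    by_contra hne
    have key : ∀ α β : MulChar F ℂ, β ≠ 1 → α ≠ β → χ α ≠ χ β := by
      intro α β hβ hne e
      simp only [χ, if_neg hβ] at e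
      split_ifs at e with hα
      · have h0 := hN β 1
        rw [hoff β 1 (Ne.symm hβ), Nat.cast_zero, hθ1, CharBasicOrth.classInner_add_right,
          ← e, CharBasicOrth.classInner_irr_self ψ₀.2] at h0
        rw [CharBasicOrth.classInner_irr_ne ψ₀.2 CharBasicDecomp.isIrrCharacter_one
          (fun e' => hψne (Subtype.ext e'))] at h0
        norm_num at h0
      · have h0 := hN α β
        rw [hoff α β (Ne.symm hne), e, hN β β, hdiag] at h0
        simp [lb, hβ] at h0
    by_cases hβ : β = 1
    · exact key β α (fun hα => hne (hα.trans hβ.symm)) (Ne.symm hne) e.symm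
    · exact key α β hβ hne e
  let eq : Fin (Fintype.card F - 1) ≃ MulChar F ℂ := (finCongr hcard.symm).trans (Fintype.equivFin _).symm
  refine ⟨fun i => χ (eq i), fun i => hirr _, hinj.comp eq.injective, fun g => ?_⟩
  have hfix : (Nat.card {v : Fin n → F // v ≠ 0 ∧ (g : Matrix (Fin n) (Fin n) F).mulVec v = v} : ℂ) =
      (Nat.card (MulAction.fixedBy (Pts F n) g) : ℂ) := by
    congr 1
    exact Nat.card_congr
      { toFun := fun v => ⟨⟨v.1, v.2.1⟩, Subtype.ext v.2.2⟩
        invFun := fun v => ⟨v.1.1, v.1.2, congrArg Subtype.val v.2⟩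
        left_inv := fun v => rfl
        right_inv := fun v => rfl }
  rw [hfix, ← sum_theta, Equiv.sum_comp eq (fun α => χ α g),
    ← Finset.add_sum_erase _ _ (Finset.mem_univ (1 : MulChar F ℂ)),
    ← Finset.add_sum_erase _ (fun α => χ α g) (Finset.mem_univ (1 : MulChar F ℂ)), hθ1]
  simp only [χ, if_true, Pi.add_apply]
  rw [add_assoc]
  congr 2
  exact Finset.sum_congr rfl fun α hα => by rw [if_neg (Finset.ne_of_mem_erase hα)]

end Cfsg.Agent.S2336
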