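import Cfsg.Statements.S2337
import Cfsg.Agent.Lib.SuzukiGroupStructure
import Cfsg.Agent.Lib.SuzukiGroupLie

set_option autoImplicit false
open Cfsg

namespace Cfsg.Agent.S2337

open Cfsg.Agent.SuzukiGroupBasic Cfsg.Agent.SuzukiGroupStructure

section Trace

variable {F : Type*} [Field F] {m : ℕ} [hP : Param F m]

/-- The absolute trace as an iterated sum of squares. -/
def trS (n : ℕ) (x : F) : F := ∑ i ∈ Finset.range n, x ^ 2 ^ i

include hP in
theorem trS_add (x y : F) : trS (2 * m + 1) (x + y) = trS (2 * m + 1) x + trS (2 * m + 1) y := by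
  have := charTwo (F := F) (m := m)
  simp only [trS, ← Finset.sum_add_distrib]
  exact Finset.sum_congr rfl fun i _ => add_pow_char_pow x y 2 i

include hP in
theorem trS_sq (x : F) : trS (2 * m + 1) (x ^ 2) = trS (2 * m + 1) x := by
  simp only [trS, ← pow_mul, ← pow_succ']
  rw [Finset.sum_range_succ (fun i => x ^ 2 ^ (i + 1)), Finset.sum_range_succ' (fun i => x ^ 2 ^ i),
    pow_q, pow_zero, pow_one]

include hP in
theorem trS_sg (x : F) : trS (2 * m + 1) (sg m x) = trS (2 * m + 1) x := by
  have : ∀ (j : ℕ) (y : F), trS (2 * m + 1) (y ^ 2 ^ j) = trS (2 * m + 1) y := by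
    intro j
    induction j with
    | zero => intro y; simp
    | succ j ih => intro y; rw [pow_succ, pow_mul, trS_sq, ih]
  exact this (m + 1) x

include hP in
theorem trS_val (x : F) : trS (2 * m + 1) x = 0 ∨ trS (2 * m + 1) x = 1 := by
  have := charTwo (F := F) (m := m)
  have h : trS (2 * m + 1) x ^ 2 = trS (2 * m + 1) x := by
    conv_rhs => rw [← trS_sq]
    simp only [trS]
    rw [CharTwo.sum_sq]
    exact Finset.sum_congr rfl fun i _ => by rw [← pow_mul, ← pow_mul, mul_comm]
  have : trS (2 * m + 1) x * (trS (2 * m + 1) x - 1) = 0 := by linear_combination h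
  rcases mul_eq_zero.1 this with e | e
  · exact Or.inl e
  · exact Or.inr (sub_eq_zero.1 e)

include hP in
theorem exists_trS (z : F) (hz : z ≠ 0) : ∃ c : F, trS (2 * m + 1) (z * c) = 1 := by
  by_contra h
  push Not at h
  have h0 : ∀ y : F, trS (2 * m + 1) y = 0 := fun y => by
    have := (trS_val (z * (z⁻¹ * y))).resolve_right (h _)
    rwa [mul_inv_cancel_left₀ hz] at this
  have := finiteF (F := F) (m := m)
  have := Fintype.ofFinite F
  let P : Polynomial F := ∑ i ∈ Finset.range (2 * m + 1), Polynomial.X ^ 2 ^ i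
  have hP0 : P ≠ 0 := fun e => by
    have h1 := congrArg (fun Q : Polynomial F => Q.coeff (2 ^ (2 * m))) e
    simp only [P, Polynomial.finset_sum_coeff, Polynomial.coeff_X_pow, Polynomial.coeff_zero] at h1
    rw [Finset.sum_eq_single (2 * m)] at h1
    · simp at h1
    · intro i _ hi
      rw [if_neg]
      intro e; exact hi (Nat.pow_right_injective le_rfl e.symm)
    · simp
  refine hP0 (Polynomial.eq_zero_of_natDegree_lt_card_of_eval_eq_zero P Function.injective_id
    (fun y => ?_) ?_)
  · simpa [P, Polynomial.eval_finset_sum, trS] using h0 y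
  · rw [← Nat.card_eq_fintype_card, natCard (F := F) (m := m)]
    refine lt_of_le_of_lt (b := 2 ^ (2 * m)) (Polynomial.natDegree_sum_le_of_forall_le _ _ fun i hi => ?_)
      (Nat.pow_lt_pow_right one_lt_two (Nat.lt_succ_self _))
    rw [Polynomial.natDegree_X_pow]
    exact Nat.pow_le_pow_right two_pos (Nat.lt_succ_iff.1 (Finset.mem_range.1 hi))

/-- The sign character of the trace. -/
noncomputable def lam (m : ℕ) (x : F) : ℂ := by
  classical exact if trS (2 * m + 1) x = 0 then 1 else -1

include hP in
theorem lam_add (x y : F) : lam m (x + y) = lam m x * lam m y := by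
  have := charTwo (F := F) (m := m)
  rcases trS_val (m := m) x with hx | hx <;> rcases trS_val (m := m) y with hy | hy <;>
    simp [lam, trS_add, hx, hy, CharTwo.add_self_eq_zero]

omit hP in
theorem lam_zero : lam m (0 : F) = 1 := by
  have : trS (2 * m + 1) (0 : F) = 0 := Finset.sum_eq_zero fun i _ => zero_pow (by positivity)
  simp [lam, this]

omit hP in
theorem lam_mul_self (x : F) : lam m x * lam m x = 1 := by
  by_cases h : trS (2 * m + 1) x = 0 <;> simp [lam, h]

include hP in
theorem lam_sg (x : F) : lam m (sg m x) = lam m x := by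
  by_cases h : trS (2 * m + 1) x = 0 <;> simp [lam, trS_sg, h]

/-- The pairing attached to the commutator map. -/
noncomputable def pair (m : ℕ) (a c : F) : ℂ := lam m (sg m a * c + sg m c * a)

include hP in
theorem pair_add_right (a c d : F) : pair m a (c + d) = pair m a c * pair m a d := by
  rw [pair, pair, pair, ← lam_add, sg_add]
  congr 1; ring

include hP in
theorem eq_or_of_pair_eq {a b : F} (h : pair m a = pair m b) : a + b = 0 ∨ a + b = 1 := by
  have := charTwo (F := F) (m := m)
  have hab : ∀ c, lam m (c * (sg m (a + b) + tg m (a + b))) = 1 := fun c => by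
    have e : lam m (c * (sg m (a + b) + tg m (a + b))) = pair m (a + b) c := by
      have e1 : lam m (sg m c * (a + b)) = lam m (c * tg m (a + b)) := by
        conv_lhs => rw [← sg_tg (m := m) (a + b), ← sg_mul, lam_sg]
      rw [pair, lam_add, e1, ← lam_add]
      congr 1; ring
    have e2 : pair m (a + b) c = pair m a c * pair m b c := by
      rw [pair, pair, pair, ← lam_add, sg_add]
      congr 1; ring
    rw [e, e2, ← congrFun h c, pair, lam_mul_self]
  have hz : sg m (a + b) + tg m (a + b) = 0 := by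
    by_contra hne
    obtain ⟨c, hc⟩ := exists_trS (m := m) _ hne
    have h2 := hab c
    rw [mul_comm] at h2
    simp [lam, hc] at h2
    norm_num at h2
  have h3 : sg m (a + b) = tg m (a + b) := CharTwo.add_eq_zero.1 hz
  have h4 := congrArg (sg m) h3
  rw [sg_sg, sg_tg] at h4
  have h5 : (a + b) * ((a + b) - 1) = 0 := by linear_combination h4
  rcases mul_eq_zero.1 h5 with e | e
  · exact Or.inl e
  · exact Or.inr (sub_eq_zero.1 e)

include hP in
theorem mul_sg_surjective {z : F} (hz : z ≠ 0) : ∃ k : Fˣ, (k : F) * sg m (k : F) = z := by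
  have := finiteF (F := F) (m := m)
  let f : Fˣ → Fˣ := fun k =>
    Units.mk0 ((k : F) * sg m (k : F)) (mul_ne_zero k.ne_zero (sg_ne_zero k.ne_zero))
  have hf : Function.Injective f := by
    intro k l h
    have e : (k : F) * sg m (k : F) = (l : F) * sg m (l : F) := congrArg Units.val h
    have hl := l.ne_zero
    have hl' := sg_ne_zero (m := m) hl
    set r := (k : F) / l with hr
    have hr0 : r ≠ 0 := div_ne_zero k.ne_zero hl
    have e2 : r * sg m r = 1 := by
      rw [hr, sg_div, div_mul_div_comm, e, div_self (mul_ne_zero hl hl')]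
    have e3 : sg m r = r⁻¹ := eq_inv_of_mul_eq_one_right e2
    have e4 := sg_sg (m := m) r
    rw [e3, sg_inv, e3, inv_inv] at e4
    have : r * (r - 1) = 0 := by linear_combination -e4
    rcases mul_eq_zero.1 this with x | x
    · exact absurd x hr0
    · exact Units.ext ((div_eq_one_iff_eq hl).1 (sub_eq_zero.1 x))
  obtain ⟨k, hk⟩ := (Finite.injective_iff_surjective.1 hf) (Units.mk0 z hz)
  exact ⟨k, congrArg Units.val hk⟩

end Trace

section Bound

variable {F : Type*} [Field F] [Fintype F] {m : ℕ} [hP : Param F m]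

theorem heisenberg_bound {W : Type*} [AddCommGroup W] [Module ℂ W] [FiniteDimensional ℂ W]
    (X : F → Module.End ℂ W) (hXinj : ∀ a, Function.Injective (X a))
    (hX : ∀ a c, X c * X a = pair m a c • (X a * X c)) (hd0 : Module.finrank ℂ W ≠ 0) :
    2 ^ m ≤ Module.finrank ℂ W := by
  classical
  have := charTwo (F := F) (m := m)
  set d := Module.finrank ℂ W with hd
  -- linear independence
  let T := Set.range (pair m : F → F → ℂ)
  choose sec hsec using fun t : T => t.2
  have hpne : ∀ a : F, ∀ c, pair m a c ≠ 0 := fun a c h0 => by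
    have := lam_mul_self (m := m) (sg m a * c + sg m c * a)
    rw [show lam m (sg m a * c + sg m c * a) = pair m a c from rfl, h0, mul_zero] at this
    exact zero_ne_one this
  let hom : T → (Multiplicative F →* ℂ) := fun t =>
    { toFun := fun c => t.1 c.toAdd
      map_one' := by
        rw [← hsec t]; simp [pair, sg_zero, lam_zero]
      map_mul' := fun c e => by
        rw [← hsec t]; exact pair_add_right _ _ _ }
  have hhom : Function.Injective hom := fun t t' h => Subtype.ext (funext fun c =>
    DFunLike.congr_fun h (Multiplicative.ofAdd c))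
  have hli : LinearIndependent ℂ (fun t : T => X (sec t)) := by
    refine Fintype.linearIndependent_iff.2 ?_
    intro l hl t₀
    have hWd : (Module.finrank ℂ W) ≠ 0 := hd0
    obtain ⟨w, hw⟩ : ∃ w : W, w ≠ 0 := by
      by_contra h; push Not at h
      have : Subsingleton W := ⟨fun x y => by rw [h x, h y]⟩
      exact hWd Module.finrank_zero_of_subsingleton
    have hne : X (sec t₀) w ≠ 0 := fun e => hw (hXinj _ (by rw [e, map_zero]))
    obtain ⟨φ, hφ⟩ := Submodule.exists_le_ker_of_notMem
      (p := (⊥ : Submodule ℂ W)) (v := X (sec t₀) w) (by simpa using hne)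
    let f : T → ℂ := fun t => l t * φ (X (sec t) w)
    have hf : ∀ c : F, ∑ t, f t * t.1 c = 0 := by
      intro c
      obtain ⟨u, hu⟩ := LinearMap.injective_iff_surjective.1 (hXinj c) w
      have h1 := congrArg (fun E : Module.End ℂ W => X c * E) hl
      simp only [Finset.mul_sum, mul_smul_comm, mul_zero] at h1
      rw [Finset.sum_congr rfl fun t _ => by rw [hX (sec t) c, smul_smul]] at h1
      have h2 := congrArg φ (LinearMap.congr_fun h1 u)
      simp only [LinearMap.sum_apply, LinearMap.smul_apply, Module.End.mul_apply, hu, map_sum,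
        map_smul, LinearMap.zero_apply, map_zero, smul_eq_mul] at h2
      rw [← h2]
      refine Finset.sum_congr rfl fun t _ => ?_
      rw [← hsec t]
      simp only [f]; ring
    have hind := (linearIndependent_monoidHom (Multiplicative F) ℂ).comp hom hhom
    rw [Fintype.linearIndependent_iff] at hind
    have := hind f (funext fun c => by
      simpa [hom, Finset.sum_apply] using hf c.toAdd) t₀
    exact (mul_eq_zero.1 this).resolve_right hφ.1
  have hT : Fintype.card F ≤ 2 * Fintype.card T := by
    have hcard : ∀ t ∈ (Finset.univ : Finset T),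
        (Finset.univ.filter fun a : F => (⟨pair m a, a, rfl⟩ : T) = t).card ≤ 2 := by
      intro t _
      refine (Finset.card_le_card (t := {sec t, sec t + 1}) fun a ha => ?_).trans Finset.card_le_two
      simp only [Finset.mem_filter, Finset.mem_univ, true_and] at ha
      have e : pair m a = pair m (sec t) := by rw [hsec t, ← ha]
      simp only [Finset.mem_insert, Finset.mem_singleton]
      rcases eq_or_of_pair_eq e with h | h
      · exact Or.inl (CharTwo.add_eq_zero.1 h)
      · refine Or.inr ?_
        rw [← sub_eq_iff_eq_add', CharTwo.sub_eq_add, h]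
    have := Finset.card_le_mul_card_image_of_maps_to (f := fun a : F => (⟨pair m a, a, rfl⟩ : T))
      (s := Finset.univ) (t := Finset.univ) (fun a _ => Finset.mem_univ _) 2 hcard
    simpa using this
  have hdim : Fintype.card T ≤ d * d := by
    have := hli.fintype_card_le_finrank
    rwa [Module.finrank_linearMap] at this
  have hdm : 2 ^ m ≤ d := by
    have hc : Fintype.card F = 2 ^ (2 * m + 1) := by rw [← Nat.card_eq_fintype_card, natCard (F := F) (m := m)]
    have : 2 ^ m * 2 ^ m ≤ d * d := by
      rw [hc, pow_succ, mul_comm (2 ^ (2 * m)), two_mul m, pow_add] at hT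
      omega
    exact Nat.mul_self_le_mul_self_iff.1 this
  exact hdm

theorem degree_bound (k : ℕ) (ρ : Representation ℂ ↥(Cfsg.Sz F m) (Fin k → ℂ))
    (hρ : ρ.IsIrreducible) (hk : 2 ≤ k) : 2 ^ m * (2 ^ (2 * m + 1) - 1) ≤ k := by
  classical
  have := charTwo (F := F) (m := m)
  have hq : (Fintype.card F : ℂ) ≠ 0 := Nat.cast_ne_zero.2 Fintype.card_ne_zero
  let Z : F → ↥(Cfsg.Sz F m) := fun z => Ts 0 z
  have hZ : ∀ a b, Z a * Z b = Z (a + b) := fun a b => by
    simp [Z, Ts_mul]
  -- the projectors
  let P : (F → ℂ) → Module.End ℂ (Fin k → ℂ) := fun μ =>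
    (Fintype.card F : ℂ)⁻¹ • ∑ z : F, μ z • ρ (Z z)
  have hmul : ∀ (μ : F → ℂ), (∀ a b, μ (a + b) = μ a * μ b) → (∀ a, μ a * μ a = 1) →
      ∀ a, ρ (Z a) * P μ = μ a • P μ := by
    intro μ h1 h2 a
    simp only [P, mul_smul_comm, smul_comm (μ a), Finset.mul_sum, ← map_mul, hZ]
    congr 1
    rw [Finset.smul_sum]
    refine Fintype.sum_equiv (Equiv.addLeft a) _ _ fun z => ?_
    simp only [Equiv.coe_addLeft, smul_smul, h1]
    rw [← mul_assoc, h2, one_mul]
  have hidem : ∀ (μ : F → ℂ), (∀ a b, μ (a + b) = μ a * μ b) → (∀ a, μ a * μ a = 1) →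
      P μ * P μ = P μ := by
    intro μ h1 h2
    conv_lhs => arg 1; simp only [P]
    rw [smul_mul_assoc, Finset.sum_mul]
    simp only [smul_mul_assoc, hmul μ h1 h2, smul_smul, h2, one_smul, Finset.sum_const,
      Finset.card_univ]
    rw [← Nat.cast_smul_eq_nsmul ℂ, smul_smul, inv_mul_cancel₀ hq, one_smul]
  -- character values on the centre
  set χ : F → ℂ := fun z => LinearMap.trace ℂ _ (ρ (Z z)) with hχ
  have hχ0 : χ 0 = k := by simp [χ, Z, Ts_zero]
  have hχc : ∀ z, z ≠ 0 → χ z = χ 1 := by
    intro z hz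
    obtain ⟨h, hh⟩ := mul_sg_surjective (m := m) hz
    have e : (Z z : ↥(Cfsg.Sz F m)) = Hs h * Z 1 * (Hs h)⁻¹ := by
      simp [Z, Hs_Ts, hh]
    show ρ.character (Z z) = ρ.character (Z 1)
    rw [e]; exact ρ.char_conj _ _
  have htr : ∀ μ : F → ℂ, μ 0 = 1 → LinearMap.trace ℂ _ (P μ) =
      (Fintype.card F : ℂ)⁻¹ * ((k : ℂ) + χ 1 * ((∑ z, μ z) - 1)) := by
    intro μ h0
    simp only [P, map_smul, map_sum, smul_eq_mul]
    congr 1
    rw [← Finset.add_sum_erase _ _ (Finset.mem_univ (0 : F)),
      ← Finset.add_sum_erase _ μ (Finset.mem_univ (0 : F)), h0, one_mul, add_sub_cancel_left,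
      Finset.mul_sum]
    refine congrArg₂ (· + ·) hχ0 (Finset.sum_congr rfl fun z hz => ?_)
    show μ z * χ z = χ 1 * μ z
    rw [hχc z (Finset.ne_of_mem_erase hz), mul_comm]
  have hone : ∀ a b : F, (1 : ℂ) = 1 * 1 := fun _ _ => (one_mul 1).symm
  have hlam : P (lam m) * P (lam m) = P (lam m) := hidem _ lam_add lam_mul_self
  have htriv : P (fun _ => 1) * P (fun _ => 1) = P (fun _ => 1) := hidem _ hone fun _ => one_mul 1
  -- ranks of the projectors
  have rk : ∀ E : Module.End ℂ (Fin k → ℂ), E * E = E →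
      LinearMap.trace ℂ _ E = (Module.finrank ℂ (LinearMap.range E) : ℂ) := fun E hE => by
    have hp : LinearMap.IsProj (LinearMap.range E) E :=
      ⟨fun x => LinearMap.mem_range_self E x, fun x hx => by
        obtain ⟨y, rfl⟩ := hx
        exact LinearMap.congr_fun hE y⟩
    exact hp.trace
  set d := Module.finrank ℂ (LinearMap.range (P (lam m))) with hd
  set d₁ := Module.finrank ℂ (LinearMap.range (P (fun _ => 1))) with hd₁
  have hsum : ∑ z : F, lam m z = 0 := by
    obtain ⟨c, hc⟩ := exists_trS (m := m) (1 : F) one_ne_zero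
    have hc' : lam m c = -1 := by simp [lam, one_mul] at hc ⊢; simp [hc]
    have : ∑ z : F, lam m z = lam m c * ∑ z : F, lam m z := by
      rw [Finset.mul_sum]
      exact (Fintype.sum_equiv (Equiv.addLeft c) (fun z => lam m c * lam m z) _
        fun z => (lam_add c z).symm).symm
    rw [hc'] at this
    linear_combination this / 2
  have e1 : (Fintype.card F : ℂ) * d = k - χ 1 := by
    rw [hd, ← rk _ hlam, htr _ lam_zero, hsum]
    field_simp; ring
  have e2 : (Fintype.card F : ℂ) * d₁ = k + χ 1 * ((Fintype.card F : ℂ) - 1) := by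
    rw [hd₁, ← rk _ htriv, htr _ rfl, Finset.sum_const, Finset.card_univ, nsmul_eq_mul, mul_one]
    field_simp
  have ek : k = d₁ + (Fintype.card F - 1) * d := by
    have : ((k : ℕ) : ℂ) = ((d₁ + (Fintype.card F - 1) * d : ℕ) : ℂ) := by
      push_cast [Nat.cast_sub Fintype.card_pos]
      apply mul_left_cancel₀ hq
      linear_combination -((Fintype.card F : ℂ) - 1) * e1 - e2
    exact_mod_cast this
  -- faithfulness
  have hsimple : IsSimpleGroup ↥(Cfsg.Sz F m) := isSimpleGroup
  have hfaith : ∀ g, ρ g = 1 → g = 1 := by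
    intro g hg
    have hker : ρ.ker = ⊥ := by
      rcases hsimple.eq_bot_or_eq_top_of_normal ρ.ker (MonoidHom.normal_ker ρ) with e | e
      · exact e
      · exfalso
        have htrivial : ∀ g, ρ g = 1 := fun g => by
          have : g ∈ ρ.ker := by rw [e]; trivial
          exact this
        have h2 := hρ
        have : FiniteDimensional ℂ (Fin k → ℂ) := inferInstance
        have hs : IsSimpleOrder (Subrepresentation ρ) := hρ
        let W : Submodule ℂ (Fin k → ℂ) := ℂ ∙ (Pi.single (⟨0, by omega⟩ : Fin k) (1 : ℂ))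
        let S : Subrepresentation ρ := ⟨W, fun g v hv => by rw [htrivial g]; exact hv⟩
        have hne : (Pi.single (⟨0, by omega⟩ : Fin k) (1 : ℂ) : Fin k → ℂ) ≠ 0 := by simp
        have hW : Module.finrank ℂ W = 1 := finrank_span_singleton hne
        rcases hs.eq_bot_or_eq_top S with e | e
        · have hWb : W = ⊥ := congrArg Subrepresentation.toSubmodule e
          rw [hWb, finrank_bot] at hW; exact zero_ne_one hW
        · have hWt : W = ⊤ := congrArg Subrepresentation.toSubmodule e
          rw [hWt, finrank_top, Module.finrank_fin_fun] at hW; omega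
    have : g ∈ ρ.ker := hg
    rwa [hker, Subgroup.mem_bot] at this
  have hd0 : d ≠ 0 := by
    intro h0
    have hd1 : d₁ = k := by rw [ek, h0, mul_zero, add_zero]
    have htop : LinearMap.range (P (fun _ => 1)) = ⊤ :=
      Submodule.eq_top_of_finrank_eq (by rw [← hd₁, hd1, Module.finrank_fin_fun])
    have hP1 : P (fun _ => 1) = 1 := LinearMap.ext fun x => by
      obtain ⟨y, rfl⟩ : x ∈ LinearMap.range (P (fun _ => 1)) := by rw [htop]; trivial
      exact LinearMap.congr_fun htriv y
    have hz := hmul (fun _ => 1) hone (fun _ => one_mul 1) 1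
    rw [hP1, mul_one, one_smul] at hz
    have := (Ts_eq_one (hfaith _ hz)).2
    exact one_ne_zero this
  -- the Heisenberg action on the eigenspace
  set W := LinearMap.range (P (lam m)) with hW
  have hXP : ∀ a : F, ρ (Ts a 0) * P (lam m) = P (lam m) * ρ (Ts a 0) := by
    intro a
    simp only [P, mul_smul_comm, smul_mul_assoc, Finset.mul_sum, Finset.sum_mul, ← map_mul, Z,
      Ts_mul, sg_zero, zero_mul, mul_zero, add_zero, zero_add]
  have hinv : ∀ a : F, ∀ w ∈ W, ρ (Ts a 0) w ∈ W := by
    rintro a w ⟨v, rfl⟩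
    exact ⟨ρ (Ts a 0) v, (LinearMap.congr_fun (hXP a) v).symm⟩
  have hscal : ∀ z : F, ∀ w ∈ W, ρ (Z z) w = lam m z • w := by
    rintro z w ⟨v, rfl⟩
    exact LinearMap.congr_fun (hmul _ lam_add lam_mul_self z) v
  let X : F → Module.End ℂ W := fun a => (ρ (Ts a 0)).restrict (hinv a)
  have hX : ∀ a c, X c * X a = pair m a c • (X a * X c) := by
    intro a c
    apply LinearMap.ext
    intro w
    apply Subtype.ext
    show ρ (Ts c 0) (ρ (Ts a 0) (w : Fin k → ℂ)) = pair m a c • ρ (Ts a 0) (ρ (Ts c 0) (w : Fin k → ℂ))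
    have hmem : ρ (Ts a 0) (ρ (Ts c 0) (w : Fin k → ℂ)) ∈ W := hinv _ _ (hinv _ _ w.2)
    rw [pair, ← hscal _ _ hmem]
    show (ρ (Ts c 0) * ρ (Ts a 0)) (w : Fin k → ℂ) =
      (ρ (Z (sg m a * c + sg m c * a)) * (ρ (Ts a 0) * ρ (Ts c 0))) (w : Fin k → ℂ)
    rw [← map_mul, ← map_mul, ← map_mul]
    congr 2
    simp only [Z, Ts_mul, sg_zero, zero_mul, add_zero, zero_add]
    congr 1
    · exact add_comm _ _
    · grind
  have hXinj : ∀ a, Function.Injective (X a) := by
    intro a v w h
    have h1 : ρ (Ts a 0) (v : Fin k → ℂ) = ρ (Ts a 0) (w : Fin k → ℂ) := congrArg Subtype.val h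
    have h2 := congrArg (ρ (Ts a 0 : ↥(Cfsg.Sz F m))⁻¹) h1
    rw [← Module.End.mul_apply, ← Module.End.mul_apply, ← map_mul, inv_mul_cancel, map_one] at h2
    exact Subtype.ext h2
  have hdm : 2 ^ m ≤ d := heisenberg_bound (m := m) X hXinj hX hd0
  have hc : Fintype.card F = 2 ^ (2 * m + 1) := by rw [← Nat.card_eq_fintype_card, natCard (F := F) (m := m)]
  rw [ek, ← hc, mul_comm (2 ^ m)]
  exact (Nat.mul_le_mul_left _ hdm).trans (Nat.le_add_left _ _)

end Bound

/-- For the Suzuki group Sz(q), q = 2^(2m+1) with m ≥ 1 (realised inside Sp₄ over the field with q elements), every irreducible complex representation of degree at least 2 has degree at least 2^m·(q − 1). -/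
theorem result {F : Type*} [Field F] [Fintype F] (m : ℕ) (hm : 1 ≤ m) (hF : Fintype.card F = 2 ^ (2 * m + 1)) :
    (∀ (k : ℕ) (ρ : Representation ℂ (Cfsg.Lie.Sz F (2 ^ (m + 1))) (Fin k → ℂ)), ρ.IsIrreducible → 2 ≤ k → 2 ^ m * (2 ^ (2 * m + 1) - 1) ≤ k) := by
  intro k ρ hρ hk
  have : Param F m := Param.mk' hm hF
  let e := (Cfsg.Agent.SuzukiGroupLie.lieEquiv (F := F) (m := m))
  let σ : Representation ℂ ↥(Cfsg.Sz F m) (Fin k → ℂ) := MonoidHom.comp ρ e.symm.toMonoidHom
  refine degree_bound k σ ?_ hk
  let f : Subrepresentation σ ≃o Subrepresentation ρ :=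
    { toFun := fun S => ⟨S.toSubmodule, fun g v hv => by
        have h := S.apply_mem_toSubmodule (e g) hv
        simpa [σ] using h⟩
      invFun := fun S => ⟨S.toSubmodule, fun g v hv => S.apply_mem_toSubmodule (e.symm g) hv⟩
      left_inv := fun S => rfl
      right_inv := fun S => rfl
      map_rel_iff' := Iff.rfl }
  exact (f.isSimpleOrder_iff).2 hρ

end Cfsg.Agent.S2337
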