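import Cfsg.Statements.S2338
import Cfsg.Agent.Lib.G2MinDeg86ThreeMain
import Cfsg.Agent.Lib.G2MinDeg86GenBound
import Cfsg.Agent.Lib.G2MinDeg86Cubic
-- import your own Cfsg.Agent.* helpers here

set_option autoImplicit false
open Cfsg

namespace Cfsg.Agent.S2338

/-- Lower bounds for the degrees of non-linear irreducible complex representations of the Chevalley group of type G₂ over a finite field with q elements: the degree is at least q³ + 1 when q ≡ 1 (mod 3) and q > 4, at least q³ − 1 when q ≡ 2 (mod 3) and q > 2, and at least q⁴ + q² + 1 when q ≡ 0 (mod 3) and q > 3. -/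
theorem result {F : Type*} [Field F] [Fintype F] (k : ℕ) (ρ : Representation ℂ (Cfsg.Lie.chevG2.group F) (Fin k → ℂ)) (hρ : ρ.IsIrreducible) (hk : 2 ≤ k) :
    (Fintype.card F % 3 = 1 → 4 < Fintype.card F → Fintype.card F ^ 3 + 1 ≤ k) ∧
    (Fintype.card F % 3 = 2 → 2 < Fintype.card F → Fintype.card F ^ 3 - 1 ≤ k) ∧
    (Fintype.card F % 3 = 0 → 3 < Fintype.card F → Fintype.card F ^ 4 + Fintype.card F ^ 2 + 1 ≤ k) := by
  classical
  have hne : ∃ g, ρ g ≠ 1 := by
    by_contra! h
    let v : Fin k → ℂ := fun _ => 1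
    have hv : v ≠ 0 := fun e => by
      have := congrFun e ⟨0, by omega⟩
      simp [v] at this
    let S : Subrepresentation ρ := ⟨Submodule.span ℂ {v}, fun g w hw => by rw [h g]; exact hw⟩
    haveI := hρ
    rcases IsSimpleOrder.eq_bot_or_eq_top S with hS | hS
    · exact hv (Submodule.span_singleton_eq_bot.1 (congrArg Subrepresentation.toSubmodule hS))
    · have h1 := finrank_span_singleton (K := ℂ) hv
      have hS' : Submodule.span ℂ {v} = ⊤ := congrArg Subrepresentation.toSubmodule hS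
      rw [hS', finrank_top, Module.finrank_fin_fun] at h1
      omega
  haveI := hρ
  have hfin : Module.finrank ℂ (Fin k → ℂ) = k := Module.finrank_fin_fun ℂ
  obtain ⟨p, hp⟩ := CharP.exists F
  haveI : Fact p.Prime := ⟨CharP.char_is_prime F p⟩
  obtain ⟨n, -, hn⟩ := FiniteField.card F p
  have h30 : Fintype.card F % 3 = 0 → (3 : F) = 0 := fun h => by
    have h1 : p = 3 := by
      have h2 : 3 ∣ p ^ (n : ℕ) := by rw [← hn]; omega
      exact ((Nat.prime_dvd_prime_iff_eq Nat.prime_three Fact.out).1 (Nat.prime_three.dvd_of_dvd_pow h2)).symm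
    have h4 := CharP.cast_eq_zero F p
    rw [h1] at h4
    exact_mod_cast h4
  have h31 : Fintype.card F % 3 ≠ 0 → (3 : F) ≠ 0 := fun h h' => by
    have h1 : p ∣ 3 := (CharP.cast_eq_zero_iff F p 3).1 (by exact_mod_cast h')
    have h2 : p = 3 := (Nat.prime_dvd_prime_iff_eq Fact.out Nat.prime_three).1 h1
    apply h
    rw [hn, h2, Nat.pow_mod, Nat.mod_self, zero_pow n.pos.ne', Nat.zero_mod]
  have hgen : Fintype.card F % 3 ≠ 0 → 5 ≤ Fintype.card F →
      Fintype.card F ^ 3 + 1 ≤ k ∨ (Fintype.card F ^ 3 - 1 ≤ k ∧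
        ∀ m : F, m ≠ 0 → ∃ t : F, t ^ 3 = m) := by
    intro hmod hq
    have hF : ∃ a : F, a ≠ 0 ∧ a ≠ 1 := by
      obtain ⟨a, -, ha⟩ := Finset.exists_mem_notMem_of_card_lt_card (s := ({0, 1} : Finset F)) (t := Finset.univ)
        (by rw [Finset.card_univ]; exact lt_of_le_of_lt Finset.card_le_two (by omega))
      simp only [Finset.mem_insert, Finset.mem_singleton, not_or] at ha
      exact ⟨a, ha⟩
    obtain ⟨s, v₀, hv₀⟩ := G2MinDeg86.moved hF hne (r := 11) (by norm_num)
    have hM := G2MinDeg86.gen_master (h31 hmod) hv₀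
    rw [hfin] at hM
    obtain ⟨r, hr⟩ : ∃ r, Fintype.card F = r + 1 := ⟨Fintype.card F - 1, by omega⟩
    have hexp : Fintype.card F ^ 2 * (Fintype.card F - 1) + Fintype.card F ^ 2 = Fintype.card F ^ 3 := by
      rw [hr, Nat.add_sub_cancel]; ring
    rcases G2MinDeg86.gen_cases (h31 hmod) hv₀ hq with hc | ⟨hc, he1, hcube, hflat, x, hx, hP⟩
    · left; omega
    · by_cases hall : ∀ m : F, m ≠ 0 → ∃ t : F, t ^ 3 = m
      · exact Or.inr ⟨by omega, hall⟩
      · push Not at hall
        exact (G2MinDeg86.no_cubic (by rw [hfin]; exact hk) hq hall he1 hcube hflat hx hP).elim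
  refine ⟨fun h1 hq => ?_, fun h2 hq => ?_, fun h3 hq => ?_⟩
  · rcases hgen (by omega) (by omega) with h | ⟨-, hall⟩
    · exact h
    · exfalso
      have h3d : 3 ∣ Nat.card Fˣ := by
        rw [Nat.card_units, Nat.card_eq_fintype_card]
        omega
      haveI : Fact (Nat.Prime 3) := ⟨Nat.prime_three⟩
      obtain ⟨w, hw⟩ := exists_prime_orderOf_dvd_card' 3 h3d
      have hsurj : Function.Surjective (fun t : Fˣ => t ^ 3) := fun m => by
        obtain ⟨t, ht⟩ := hall (m : F) m.ne_zero
        have ht0 : t ≠ 0 := fun e => m.ne_zero (by rw [← ht, e]; simp)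
        exact ⟨Units.mk0 t ht0, Units.ext (by simpa using ht)⟩
      have hinj := Finite.injective_iff_surjective.2 hsurj
      have h1' : w = 1 := hinj (by simp only [one_pow]; rw [← hw]; exact pow_orderOf_eq_one w)
      rw [h1', orderOf_one] at hw
      omega
  · rcases hgen (by omega) (by omega) with h | ⟨h, -⟩
    · omega
    · exact h
  · have h := G2MinDeg86.bound_three (h30 h3) hq ρ hne
    rwa [hfin] at h

end Cfsg.Agent.S2338
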