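import Cfsg.Statements.S2339
import Cfsg.Agent.Lib.E8MinDegree68
import Cfsg.Agent.Lib.E8MinArith68
import Cfsg.Agent.S1065

set_option autoImplicit false
open Cfsg

namespace Cfsg.Agent.S2339

open Cfsg.Agent.E8MinDegree68 Cfsg.Agent.E8MinArith68 in
/-- For the Chevalley group of type E₈ over a finite field with q elements, every irreducible complex representation of degree at least 2 has degree at least q(q¹² + 1)(q¹⁰ + 1)(q⁶ + 1). -/
theorem result {F : Type*} [Field F] [Fintype F] (k : ℕ) (ρ : Representation ℂ (Cfsg.Lie.chevE8.group F) (Fin k → ℂ)) (hρ : ρ.IsIrreducible) (hk : 2 ≤ k) :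
    Fintype.card F * (Fintype.card F ^ 12 + 1) * (Fintype.card F ^ 10 + 1) * (Fintype.card F ^ 6 + 1) ≤ k := by
  haveI := hρ
  have hnt : ∃ r ∈ List.range 240, ∃ t, ρ ((sys8 F).x r t) ≠ 1 := by
    by_contra! hall
    have htriv : ∀ g, ρ g = 1 := by
      intro g
      obtain ⟨g, hg⟩ := g
      induction hg using Subgroup.closure_induction with
      | mem g hg =>
        obtain ⟨r, t, hg'⟩ := hg
        have he : g = ChevalleyCore.xg ChevalleyDataE8.cert r.val t := by
          refine (ChevalleyCore.xg_eq_iff ChevalleyDataE8.cert).1 ?_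
          rw [hg']
          simp [Cfsg.Lie.ChevalleyDatum.x, r.isLt]
        subst he
        exact hall r.val (List.mem_range.2 r.isLt) t
      | one => exact map_one ρ
      | mul x y hx hy ihx ihy =>
        rw [show (⟨x * y, _⟩ : Cfsg.Lie.chevE8.group F) = ⟨x, hx⟩ * ⟨y, hy⟩ from rfl, map_mul, ihx, ihy, one_mul]
      | inv x hx ihx =>
        have h : ρ ((⟨x, hx⟩ : Cfsg.Lie.chevE8.group F)⁻¹) * ρ ⟨x, hx⟩ = 1 := by
          rw [← map_mul, inv_mul_cancel, map_one]
        rw [ihx, mul_one] at h
        exact h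
    haveI : Nonempty (Fin k) := ⟨⟨0, by omega⟩⟩
    obtain ⟨v, hv⟩ := exists_ne (0 : Fin k → ℂ)
    let S : Subrepresentation ρ := ⟨ℂ ∙ v, fun g x hx => by rw [htriv g]; exact hx⟩
    rcases eq_bot_or_eq_top S with h | h
    · exact hv ((Submodule.span_singleton_eq_bot (R := ℂ)).1 (congrArg Subrepresentation.toSubmodule h))
    · have h' : (ℂ ∙ v) = ⊤ := congrArg Subrepresentation.toSubmodule h
      have := finrank_span_singleton (K := ℂ) hv
      rw [h', finrank_top, Module.finrank_fin_fun] at this
      omega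
  have hb := bound ρ hnt
  rw [Module.finrank_fin_fun] at hb
  have hdvd : k ∣ ord8 (Fintype.card F) := by
    have h1 := DegreeDvd.finrank_dvd_card ρ
    rw [Module.finrank_fin_fun] at h1
    rw [ord8, ← S1065.result (F := F) rfl]
    exact h1
  have hT : T8 (Fintype.card F) = t8 (Fintype.card F) := rfl
  have := excluded Fintype.one_lt_card hdvd (hT ▸ hb)
  have hE : Fintype.card F * (Fintype.card F ^ 12 + 1) * (Fintype.card F ^ 10 + 1) * (Fintype.card F ^ 6 + 1) = t8 (Fintype.card F) := by
    rw [t8]; ring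
  omega

end Cfsg.Agent.S2339
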