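import Cfsg.Statements.S2340
import Cfsg.Agent.Lib.E6MinDegree68

set_option autoImplicit false
open Cfsg

namespace Cfsg.Agent.S2340

open Cfsg.Agent.E6MinDegree68 in
/-- For the Chevalley group of type E₆ over a finite field with q elements (the group generated by the root elements), every irreducible complex representation of degree at least 2 has degree at least q(q⁶ + q³ + 1)(q⁴ + 1). -/
theorem result {F : Type*} [Field F] [Fintype F] :
    (∀ (k : ℕ) (ρ : Representation ℂ (Cfsg.Lie.chevE6.group F) (Fin k → ℂ)), ρ.IsIrreducible → 2 ≤ k → Fintype.card F * (Fintype.card F ^ 6 + Fintype.card F ^ 3 + 1) * (Fintype.card F ^ 4 + 1) ≤ k) := by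
  intro k ρ hirr hk
  haveI := hirr
  set q := Fintype.card F with hq
  have hnt : ∃ r ∈ List.range 72, ∃ t, ρ (X r t) ≠ 1 := by
    by_contra! hall
    have htriv : ∀ g, ρ g = 1 := by
      intro g
      obtain ⟨g, hg⟩ := g
      induction hg using Subgroup.closure_induction with
      | mem g hg =>
        obtain ⟨r, t, hg'⟩ := hg
        have he : g = ChevalleyCore.xg ChevalleyDataE6.cert r.val t := by
          refine (ChevalleyCore.xg_eq_iff ChevalleyDataE6.cert).1 ?_
          rw [hg']
          simp [Cfsg.Lie.ChevalleyDatum.x, r.isLt]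
        subst he
        exact hall r.val (List.mem_range.2 r.isLt) t
      | one => exact map_one ρ
      | mul x y hx hy ihx ihy =>
        rw [show (⟨x * y, _⟩ : Cfsg.Lie.chevE6.group F) = ⟨x, hx⟩ * ⟨y, hy⟩ from rfl, map_mul, ihx, ihy, one_mul]
      | inv x hx ihx =>
        have h : ρ ((⟨x, hx⟩ : Cfsg.Lie.chevE6.group F)⁻¹) * ρ ⟨x, hx⟩ = 1 := by
          rw [← map_mul, inv_mul_cancel, map_one]
        rw [ihx, mul_one] at h
        exact h
    haveI : Nonempty (Fin k) := ⟨⟨0, by omega⟩⟩
    obtain ⟨v, hv⟩ := exists_ne (0 : Fin k → ℂ)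
    let S : Subrepresentation ρ := ⟨ℂ ∙ v, fun g x hx => by rw [htriv g]; exact hx⟩
    rcases eq_bot_or_eq_top S with h | h
    · exact hv ((Submodule.span_singleton_eq_bot (R := ℂ)).1 (congrArg Subrepresentation.toSubmodule h))
    · have h' : (ℂ ∙ v) = ⊤ := congrArg Subrepresentation.toSubmodule h
      have := finrank_span_singleton (K := ℂ) hv
      rw [h', finrank_top, Module.finrank_fin_fun] at this
      omega
  obtain ⟨hb, hb2'⟩ := level1 (sys0 F) ρ hnt
  have hb2 : Fintype.card F = 2 → 2481 ≤ Module.finrank ℂ (Fin k → ℂ) := fun e => hb2' e (card_GG_two e)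
  rw [Module.finrank_fin_fun, ← hq] at hb hb2
  have hdvd : k ∣ ordPoly q := by
    have h1 := DegreeDvd.finrank_dvd_card ρ
    rw [Module.finrank_fin_fun] at h1
    have h2 := S1063.result (F := F) (q := q) hq.symm
    rw [ordPoly, ← h2]
    exact dvd_mul_of_dvd_right h1 _
  have hT : q * (q ^ 6 + q ^ 3 + 1) * (q ^ 4 + 1) = q ^ 11 + q ^ 8 + q ^ 7 + q ^ 5 + q ^ 4 + q := by ring
  rw [hT]
  have hq2 : 2 ≤ q := Fintype.one_lt_card
  rcases Nat.lt_or_ge q 3 with h3 | h3
  · have hb' := hb2 (by omega)
    have hk2 : k ≠ 2481 := by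
      rintro rfl
      have hq' : q = 2 := by omega
      rw [hq'] at hdvd
      norm_num [ordPoly] at hdvd
    have hq' : q = 2 := by omega
    rw [hq']
    norm_num
    omega
  · obtain ⟨e1, e2⟩ := excluded h3 hdvd
    omega

end Cfsg.Agent.S2340
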