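import Cfsg.Statements.S2341
import Cfsg.Agent.Lib.TwistedE6MinDeg8Main
import Cfsg.Agent.Lib.DegreeDvd

set_option autoImplicit false
open Cfsg

namespace Cfsg.Agent.S2341

open Cfsg.Agent.TwistedE6MinDeg8 in
/-- For the twisted group ²E₆(q), realised over the field with q² elements (q a prime power), every irreducible complex representation of degree at least 2 has degree at least q(q⁶ − q³ + 1)(q⁴ + 1). -/
theorem result {K : Type*} [Field K] [Fintype K] (q : ℕ) (hq : IsPrimePow q) (hK : Fintype.card K = q ^ 2) :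
    (∀ (k : ℕ) (ρ : Representation ℂ (Cfsg.Lie.twistedE6 K q) (Fin k → ℂ)), ρ.IsIrreducible → 2 ≤ k → q * (q ^ 6 - q ^ 3 + 1) * (q ^ 4 + 1) ≤ k) := by
  intro k ρ hirr hk
  haveI := hirr
  haveI : Sq K q := ⟨hK⟩
  have hq2 := TwistedField.one_lt_base hK
  obtain ⟨f, hf⟩ := TwistedField.exists_frob hK two_ne_zero
  obtain ⟨hsimple, -⟩ := TwistedE6.simple f hf hK
  haveI := hsimple
  have hker : ρ.ker = ⊥ := by
    refine (hsimple.eq_bot_or_eq_top_of_normal ρ.ker (MonoidHom.normal_ker ρ)).resolve_right fun htop => ?_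
    have htriv : ∀ g, ρ g = 1 := fun g => MonoidHom.mem_ker.1 (htop ▸ Subgroup.mem_top g)
    haveI : Nonempty (Fin k) := ⟨⟨0, by omega⟩⟩
    obtain ⟨v, hv⟩ := exists_ne (0 : Fin k → ℂ)
    let S : Subrepresentation ρ := ⟨ℂ ∙ v, fun g x hx => by rw [htriv g]; exact hx⟩
    rcases eq_bot_or_eq_top S with h | h
    · exact hv ((Submodule.span_singleton_eq_bot (R := ℂ)).1 (congrArg Subrepresentation.toSubmodule h))
    · have h' : (ℂ ∙ v) = ⊤ := congrArg Subrepresentation.toSubmodule h
      have := finrank_span_singleton (K := ℂ) hv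
      rw [h', finrank_top, Module.finrank_fin_fun] at this
      omega
  have hfaith : ∀ g : GG K, g ≠ 1 → ∃ v, ρ g v ≠ v := by
    intro g hg
    by_contra! hall
    apply hg
    have : g ∈ ρ.ker := MonoidHom.mem_ker.2 (LinearMap.ext hall)
    rwa [hker, Subgroup.mem_bot] at this
  have hb := bound (σ := ρ) hfaith
  rw [Module.finrank_fin_fun] at hb
  have hdvd : k ∣ ordPoly q := by
    have h1 := DegreeDvd.finrank_dvd_card ρ
    rw [Module.finrank_fin_fun] at h1
    rw [ordPoly, ← TwistedE6.card_group f hf hK]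
    exact dvd_mul_of_dvd_right h1 _
  obtain ⟨e1, e2⟩ := excluded hq2 hdvd
  show TT q ≤ k
  omega

end Cfsg.Agent.S2341
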