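import Cfsg.Statements.S2342
import Cfsg.Agent.Lib.TwistedD4MinDegree32
import Cfsg.Agent.Lib.DegreeDvd

set_option autoImplicit false
open Cfsg

namespace Cfsg.Agent.S2342

open Cfsg.Agent.CubicNormZero32

theorem dvd_step {g a b c : ℤ} (s t : ℤ) (h : g ∣ a * b) (e : s * g + t * a = c) : g ∣ c * b := by
  rw [← e, show (s * g + t * a) * b = g * (s * b) + t * (a * b) by ring]
  exact dvd_add (dvd_mul_right _ _) (dvd_mul_of_dvd_right h _)

theorem not_dvd {q : ℕ} (hq : 2 ≤ q) :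
    ¬ ((q : ℤ) ^ 4 + (q : ℤ) ^ 3 + 1 ∣ (q : ℤ) ^ 12 * ((q : ℤ) ^ 2 - 1) * ((q : ℤ) ^ 6 - 1) * ((q : ℤ) ^ 8 + (q : ℤ) ^ 4 + 1)) := by
  intro h
  set x : ℤ := (q : ℤ) with hx
  set g := x ^ 4 + x ^ 3 + 1 with hg
  have h0 : g ∣ (x ^ 8 + x ^ 4 + 1) * (x ^ 12 * ((x - 1) * ((x - 1) * ((x + 1) * ((x + 1) * ((x ^ 2 + x + 1) * (x ^ 2 - x + 1))))))) := by
    convert h using 1; ring
  have h1 := dvd_step (c := 3) (1 - 2 * x + x ^ 2 + x ^ 3 - x ^ 4 - x ^ 5 - x ^ 6 + 2 * x ^ 7) (2 + 2 * x - x ^ 2 - 2 * x ^ 3) h0 (by rw [hg]; ring)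
  rw [show 3 * (x ^ 12 * ((x - 1) * ((x - 1) * ((x + 1) * ((x + 1) * ((x ^ 2 + x + 1) * (x ^ 2 - x + 1))))))) =
    x ^ 12 * (3 * ((x - 1) * ((x - 1) * ((x + 1) * ((x + 1) * ((x ^ 2 + x + 1) * (x ^ 2 - x + 1))))))) by ring] at h1
  have hc : IsCoprime g (x ^ 12) := IsCoprime.pow_right (R := ℤ) ⟨1, -(x ^ 3 + x ^ 2), by rw [hg]; ring⟩
  have h2 := hc.dvd_of_dvd_mul_left h1
  rw [show 3 * ((x - 1) * ((x - 1) * ((x + 1) * ((x + 1) * ((x ^ 2 + x + 1) * (x ^ 2 - x + 1)))))) =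
    (x - 1) * (3 * ((x - 1) * ((x + 1) * ((x + 1) * ((x ^ 2 + x + 1) * (x ^ 2 - x + 1)))))) by ring] at h2
  have h3 := dvd_step (c := 3) 1 (-2 - 2 * x - 2 * x ^ 2 - x ^ 3) h2 (by rw [hg]; ring)
  rw [show 3 * (3 * ((x - 1) * ((x + 1) * ((x + 1) * ((x ^ 2 + x + 1) * (x ^ 2 - x + 1)))))) =
    (x - 1) * (9 * ((x + 1) * ((x + 1) * ((x ^ 2 + x + 1) * (x ^ 2 - x + 1))))) by ring] at h3
  have h4 := dvd_step (c := 3) 1 (-2 - 2 * x - 2 * x ^ 2 - x ^ 3) h3 (by rw [hg]; ring)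
  rw [show 3 * (9 * ((x + 1) * ((x + 1) * ((x ^ 2 + x + 1) * (x ^ 2 - x + 1))))) =
    (x + 1) * ((x + 1) * ((x ^ 2 + x + 1) * ((x ^ 2 - x + 1) * 27))) by ring] at h4
  have h5 := dvd_step (c := 1) 1 (-(x ^ 3)) h4 (by rw [hg]; ring)
  rw [one_mul] at h5
  have h6 := dvd_step (c := 1) 1 (-(x ^ 3)) h5 (by rw [hg]; ring)
  rw [one_mul] at h6
  have h7 := dvd_step (c := 3) (1 - x) (2 - x - x ^ 2 + x ^ 3) h6 (by rw [hg]; ring)
  rw [mul_left_comm] at h7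
  have h8 := dvd_step (c := 1) (-1 + x) (2 + x - x ^ 2 - x ^ 3) h7 (by rw [hg]; ring)
  norm_num at h8
  obtain ⟨k, hk⟩ := h8
  have hg0 : 0 < g := by positivity
  have hk0 : 0 < k := by nlinarith
  rcases (show q = 2 ∨ 3 ≤ q by omega) with rfl | h3
  · norm_num [hg, hx] at hk
    omega
  · have h3' : (3 : ℤ) ≤ x := by rw [hx]; exact_mod_cast h3
    have : 109 ≤ g := by rw [hg]; nlinarith [pow_le_pow_left₀ (by norm_num : (0:ℤ) ≤ 3) h3' 4, pow_le_pow_left₀ (by norm_num : (0:ℤ) ≤ 3) h3' 3]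
    nlinarith

/-- For the twisted group ³D₄(q), realised over the field with q³ elements (q a prime power), every irreducible complex representation of degree at least 2 has degree at least q(q⁴ − q² + 1). -/
theorem result {K : Type*} [Field K] [Fintype K] (q : ℕ) (hq : IsPrimePow q) (hK : Fintype.card K = q ^ 3) :
    (∀ (k : ℕ) (ρ : Representation ℂ (Cfsg.Lie.twistedD4 K q) (Fin k → ℂ)), ρ.IsIrreducible → 2 ≤ k → q * (q ^ 4 - q ^ 2 + 1) ≤ k) := by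
  classical
  intro k ρ hirr hk
  obtain ⟨f, hf⟩ := TwistedField.exists_frob hK (n := 3) (by norm_num)
  obtain ⟨hs, -⟩ := TwistedD4.simple f hf hK
  have hq2 := TwistedField.one_lt_base hK
  have hqF : Nat.card (Fx f) = q :=
    (Nat.card_congr (Equiv.subtypeEquivRight fun t => by
      show f t = t ↔ _
      rw [hf])).trans (TwistedField.card_fix hK)
  haveI := Fintype.ofFinite (Fx f)
  have hdim : Module.finrank ℂ (Fin k → ℂ) = k := Module.finrank_fin_fun ℂ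
  have hfaith : ρ (TwistedD4MinDegree32.gZ f hf hK 1) ≠ 1 := by
    intro h1
    rcases hs.eq_bot_or_eq_top_of_normal ρ.ker inferInstance with hker | hker
    · have hm : TwistedD4MinDegree32.gZ f hf hK 1 ∈ ρ.ker := h1
      rw [hker, Subgroup.mem_bot] at hm
      exact TwistedD4MinDegree32.gZ_ne f hf hK hm
    · haveI := hirr
      have htriv : ∀ g, ρ g = 1 := fun g => (show g ∈ ρ.ker by rw [hker]; exact Subgroup.mem_top g)
      haveI : Nontrivial (Fin k → ℂ) := Module.nontrivial_of_finrank_pos (R := ℂ) (by omega)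
      obtain ⟨v, hv⟩ := exists_ne (0 : Fin k → ℂ)
      let S : Subrepresentation ρ := ⟨ℂ ∙ v, fun g w hw => by rw [htriv g]; exact hw⟩
      rcases IsSimpleOrder.eq_bot_or_eq_top S with hS | hS
      · have h0 : (ℂ ∙ v) = ⊥ := congrArg Subrepresentation.toSubmodule hS
        exact hv (Submodule.span_singleton_eq_bot.1 h0)
      · have h0 : (ℂ ∙ v) = ⊤ := congrArg Subrepresentation.toSubmodule hS
        have h := finrank_span_singleton (K := ℂ) hv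
        rw [h0, finrank_top, hdim] at h
        omega
  haveI : Nonempty {c : Fx f // c ≠ 0} := ⟨⟨1, one_ne_zero⟩⟩
  obtain ⟨a, m, hd, hm, ha⟩ := (TwistedD4MinDegree32.config f hf hK ρ hfaith).bound ((q : ℝ) ^ 4)
    (fun μ => sum_bound f (TwistedD4MinDegree32.f3' f hf hK) hqF hK μ)
  rw [hdim, ← Nat.card_eq_fintype_card (α := Fx f), hqF] at hd
  rw [Fintype.card_prod, hK, ← Nat.card_eq_fintype_card (α := Fx f), hqF] at hm
  have hI : (Fintype.card ({c : Fx f // c ≠ 0} × Option K)) = (q - 1) * (q ^ 3 + 1) := by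
    rw [Fintype.card_prod, Fintype.card_option, hK, Fintype.card_subtype_compl, Fintype.card_subtype_eq,
      ← Nat.card_eq_fintype_card, hqF]
  rw [hI] at ha
  have ha' : (q - 1) * (q ^ 3 + 1) * m ≤ q ^ 4 * a := by exact_mod_cast ha
  have hm' : q ^ 4 ≤ m := by rw [show q ^ 4 = q * q ^ 3 by ring]; exact hm
  have ha2 : (q - 1) * (q ^ 3 + 1) ≤ a := by
    refine Nat.le_of_mul_le_mul_left ?_ (show 0 < q ^ 4 by positivity)
    calc q ^ 4 * ((q - 1) * (q ^ 3 + 1)) = (q - 1) * (q ^ 3 + 1) * q ^ 4 := by ring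
      _ ≤ (q - 1) * (q ^ 3 + 1) * m := Nat.mul_le_mul_left _ hm'
      _ ≤ _ := ha'
  have hlow : (q - 1) * (q ^ 4 + q ^ 3 + 1) ≤ k := by
    rw [hd, show (q - 1) * (q ^ 4 + q ^ 3 + 1) = (q - 1) * (q ^ 3 + 1) + (q - 1) * q ^ 4 by ring]
    exact Nat.add_le_add ha2 (Nat.mul_le_mul_left _ hm')
  have hne : k ≠ (q - 1) * (q ^ 4 + q ^ 3 + 1) := by
    intro he
    haveI := hirr
    have hdvd := DegreeDvd.finrank_dvd_card ρ
    rw [hdim, TwistedD4.card_group f hf hK, he] at hdvd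
    have hdvd' := Int.natCast_dvd_natCast.2 ((dvd_mul_left _ _).trans hdvd)
    push_cast [Nat.cast_sub (Nat.one_le_pow 2 q (by omega)), Nat.cast_sub (Nat.one_le_pow 6 q (by omega))] at hdvd'
    exact not_dvd hq2 hdvd'
  have hid : q * (q ^ 4 - q ^ 2 + 1) = (q - 1) * (q ^ 4 + q ^ 3 + 1) + 1 := by
    obtain ⟨j, rfl⟩ : ∃ j, q = j + 1 := ⟨q - 1, by omega⟩
    have h24 : (j + 1) ^ 2 ≤ (j + 1) ^ 4 := Nat.pow_le_pow_right (by omega) (by norm_num)
    zify [h24]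
    push_cast [Nat.add_sub_cancel]
    ring
  omega

end Cfsg.Agent.S2342
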