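import Cfsg.Statements.S2344
import Mathlib
import Cfsg.Agent.Lib.OrthOddMinDegree32Bound
-- import your own Cfsg.Agent.* helpers here

set_option autoImplicit false
open Cfsg

namespace Cfsg.Agent.S2344

/-- For a finite field F of odd order q > 3 and n ≥ 3, every irreducible complex representation of degree at least 2 of Ω_{2n+1}(F) (the commutator subgroup of the isometry group of the quadratic form x₀² + x₁y₁ + ⋯ + x_ny_n) has degree at least (q^{2n} − 1)/(q² − 1). -/
theorem result {F : Type*} [Field F] [Fintype F] (n : ℕ) (hn : 3 ≤ n) (hodd : Odd (Fintype.card F)) (h3 : 3 < Fintype.card F) :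
    (∀ (k : ℕ) (ρ : Representation ℂ (Cfsg.Omega F (Cfsg.quadFormOdd n F)) (Fin k → ℂ)), ρ.IsIrreducible → 2 ≤ k → (Fintype.card F ^ (2 * n) - 1) / (Fintype.card F ^ 2 - 1) ≤ k) := by
  obtain ⟨k, rfl⟩ : ∃ k, n = k + 3 := ⟨n - 3, by omega⟩
  intro d ρ hirr hd
  have h := OrthMinDegree32Bound.bd_omega (OrthUnitaryForms.eqOdd (k + 3))
    (OrthUnitaryForms.eqOdd_isometry (k + 3))
    (OrthUnitaryStd.nondegenerate_withBase
      (OrthUnitaryStd.nondegenerate_qfSq (OrthUnitaryForms.two_ne_zero_of_odd rfl hodd)) (k + 3))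
    (by rw [OrthUnitaryStd.finrank_withBase_space]; omega)
    (OrthOddMinDegree32Bound.odd_bound hodd h3 k) ρ hirr hd
  have hspec := OrthOddMinDegree32Bound.bO_spec (Fintype.card F : ℤ) k
  generalize Fintype.card F = q at h h3 hspec ⊢
  refine Nat.div_le_of_le_mul ?_
  have h1 : 1 ≤ q ^ (2 * (k + 3)) := Nat.one_le_pow _ _ (by omega)
  have h2 : 1 ≤ q ^ 2 := Nat.one_le_pow _ _ (by omega)
  zify [h1, h2]
  rw [show 2 * (k + 3) = 2 * k + 6 by ring, ← hspec]
  exact mul_le_mul_of_nonneg_left h (by nlinarith)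

end Cfsg.Agent.S2344
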