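import Cfsg.Statements.S2345
import Mathlib
import Cfsg.Agent.Lib.OrthMinDegree32Bound
-- import your own Cfsg.Agent.* helpers here

set_option autoImplicit false
open Cfsg

namespace Cfsg.Agent.S2345

/-- For a finite field F with q > 3 elements and n ≥ 4, every irreducible complex representation of degree at least 2 of Ω⁺_{2n}(F) (the commutator subgroup of the isometry group of the hyperbolic quadratic form x₁y₁ + ⋯ + x_ny_n) has degree at least (q^n − 1)(q^{n−1} + q)/(q² − 1). -/
theorem result {F : Type*} [Field F] [Fintype F] (n : ℕ) (hn : 4 ≤ n) (h3 : 3 < Fintype.card F) :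
    (∀ (k : ℕ) (ρ : Representation ℂ (Cfsg.Omega F (Cfsg.quadFormPlus n F)) (Fin k → ℂ)), ρ.IsIrreducible → 2 ≤ k → (Fintype.card F ^ n - 1) * (Fintype.card F ^ (n - 1) + Fintype.card F) / (Fintype.card F ^ 2 - 1) ≤ k) := by
  obtain ⟨k, rfl⟩ : ∃ k, n = k + 3 := ⟨n - 3, by omega⟩
  intro d ρ hirr hd
  have h := OrthMinDegree32Bound.bd_omega (OrthUnitaryForms.eqPlus (k + 3))
    (OrthUnitaryForms.eqPlus_isometry (F := F) (k + 3))
    (OrthUnitaryStd.nondegenerate_withBase OrthUnitaryStd.nondegenerate_qfNil (k + 3))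
    (by rw [OrthUnitaryStd.finrank_withBase_space]; omega)
    (OrthMinDegree32Bound.plus_bound h3 k) ρ hirr hd
  have hspec := OrthMinDegree32Bound.bP_spec (Fintype.card F : ℤ) (k + 2)
  rw [show k + 3 - 1 = k + 2 by omega]
  generalize Fintype.card F = q at h h3 hspec ⊢
  refine Nat.div_le_of_le_mul ?_
  have h1 : 1 ≤ q ^ (k + 3) := Nat.one_le_pow _ _ (by omega)
  have h2 : 1 ≤ q ^ 2 := Nat.one_le_pow _ _ (by omega)
  zify [h1, h2]
  rw [← hspec]
  exact mul_le_mul_of_nonneg_left h (by nlinarith)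

end Cfsg.Agent.S2345
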