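import Cfsg.Statements.S2346
import Mathlib
import Cfsg.Agent.Lib.OrthMinDegree32Bound
-- import your own Cfsg.Agent.* helpers here

set_option autoImplicit false
open Cfsg

namespace Cfsg.Agent.S2346

/-- For a finite field F with q elements, n ≥ 4, and a, b ∈ F with z₁² + a z₁z₂ + b z₂² anisotropic, every irreducible complex representation of degree at least 2 of Ω⁻_{2n}(F) (the commutator subgroup of the isometry group of x₁y₁ + ⋯ + x_{n−1}y_{n−1} + z₁² + a z₁z₂ + b z₂²) has degree at least (q^n + 1)(q^{n−1} − q)/(q² − 1). -/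
theorem result {F : Type*} [Field F] [Fintype F] (n : ℕ) (hn : 4 ≤ n) (a b : F) (hab : ∀ z₁ z₂ : F, z₁ ^ 2 + a * z₁ * z₂ + b * z₂ ^ 2 = 0 → z₁ = 0 ∧ z₂ = 0) :
    (∀ (k : ℕ) (ρ : Representation ℂ (Cfsg.Omega F (Cfsg.quadFormMinus (n - 1) F a b)) (Fin k → ℂ)), ρ.IsIrreducible → 2 ≤ k → (Fintype.card F ^ n + 1) * (Fintype.card F ^ (n - 1) - Fintype.card F) / (Fintype.card F ^ 2 - 1) ≤ k) := by
  obtain ⟨k, rfl⟩ : ∃ k, n = k + 4 := ⟨n - 4, by omega⟩
  intro d ρ hirr hd
  have h := OrthMinDegree32Bound.bd_omega (OrthUnitaryForms.eqMinus (k + 3))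
    (OrthUnitaryForms.eqMinus_isometry (k + 3) a b)
    (OrthUnitaryStd.nondegenerate_withBase (OrthUnitaryStd.nondegenerate_qfBin hab) (k + 3))
    (by rw [OrthUnitaryStd.finrank_withBase_space]; omega)
    (OrthMinDegree32Bound.minus_bound hab k) ρ hirr hd
  have hspec := OrthMinDegree32Bound.bM_spec (Fintype.card F : ℤ) (k + 3)
  have hq : 2 ≤ Fintype.card F := Fintype.one_lt_card
  rw [show k + 4 - 1 = k + 3 by omega]
  generalize Fintype.card F = q at h hq hspec ⊢
  refine Nat.div_le_of_le_mul ?_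
  have h1 : q ≤ q ^ (k + 3) := Nat.le_self_pow (by omega) q
  have h2 : 1 ≤ q ^ 2 := Nat.one_le_pow _ _ (by omega)
  zify [h1, h2]
  rw [← hspec]
  exact mul_le_mul_of_nonneg_left h (by nlinarith)

end Cfsg.Agent.S2346
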