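import Cfsg.Statements.S2347
import Cfsg.Agent.Lib.SpOddMinDegree50
import Cfsg.Agent.Lib.SpWeilOdd50

set_option autoImplicit false
open Cfsg

namespace Cfsg.Agent.S2347

open Cfsg.Agent.SpOddMinDegree50 Cfsg.Agent.SpWeilOdd50

theorem irreducible_of_dim {F : Type*} [Field F] [Fintype F] {n : ℕ} (hn : 2 ≤ n)
    (hodd : Odd (Fintype.card F)) {V : Type*} [AddCommGroup V] [Module ℂ V] [FiniteDimensional ℂ V]
    (σ : Representation ℂ (Matrix.symplecticGroup (Fin n) F) V)
    (hdim : 2 * Module.finrank ℂ V + 1 ≤ Fintype.card F ^ n) (hne : σ ≠ 1) : σ.IsIrreducible := by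
  classical
  have key : ∀ W : Subrepresentation σ, W.toSubmodule = ⊥ ∨ W.toSubmodule = ⊤ := by
    intro W
    by_contra hc
    push Not at hc
    obtain ⟨hbot, htop⟩ := hc
    have hlt : Module.finrank ℂ W.toSubmodule < Module.finrank ℂ V := Submodule.finrank_lt htop
    have hq : Module.finrank ℂ (V ⧸ W.toSubmodule) < Module.finrank ℂ V := by
      have h1 := Submodule.finrank_quotient_add_finrank W.toSubmodule
      have h2 : Module.finrank ℂ W.toSubmodule ≠ 0 := fun h => hbot (Submodule.finrank_eq_zero.mp h)
      omega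
    have hsub := trivial_of_small hodd hn (V := W.toSubmodule) W.toRepresentation (by omega)
    let σq : Matrix.symplecticGroup (Fin n) F →* Module.End ℂ (V ⧸ W.toSubmodule) :=
      { toFun := fun g => W.toSubmodule.mapQ W.toSubmodule (σ g)
          (fun v hv => W.apply_mem_toSubmodule g hv)
        map_one' := by ext; simp
        map_mul' := fun g h => by ext; simp }
    have hquot := trivial_of_small hodd hn σq (by omega)
    have hW : ∀ g, ∀ v ∈ W.toSubmodule, σ g v = v := fun g v hv =>
      congrArg Subtype.val (LinearMap.congr_fun (DFunLike.congr_fun hsub g) ⟨v, hv⟩)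
    have hD : ∀ g v, σ g v - v ∈ W.toSubmodule := fun g v =>
      (Submodule.Quotient.eq _).mp
        (LinearMap.congr_fun (DFunLike.congr_fun hquot g) (Submodule.Quotient.mk v))
    let φ : Matrix.symplecticGroup (Fin n) F →* Multiplicative (Module.End ℂ V) :=
      { toFun := fun g => Multiplicative.ofAdd (σ g - 1)
        map_one' := by simp
        map_mul' := fun g h => by
          rw [← ofAdd_add]
          congr 1
          refine LinearMap.ext fun v => ?_
          have := hW g _ (hD h v)
          rw [map_sub, sub_eq_iff_eq_add] at this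
          simp [this]
          abel }
    have hperf : commutator (Matrix.symplecticGroup (Fin n) F) = ⊤ :=
      Cfsg.Agent.SymplecticSimple.perfect n (by
        have := Fintype.one_lt_card (α := F)
        obtain ⟨k, hk⟩ := hodd
        rcases (show n = 2 ∨ 3 ≤ n by omega) with h | h
        · exact Or.inr (Or.inl ⟨h, by omega⟩)
        · exact Or.inl h)
    refine hne (MonoidHom.ext fun g => ?_)
    have hg : φ g = 1 :=
      MonoidHom.mem_ker.mp (Abelianization.commutator_subset_ker φ (hperf ▸ Subgroup.mem_top g))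
    exact sub_eq_zero.mp (ofAdd_eq_one.mp hg)
  have hnt : (⊥ : Submodule ℂ V) ≠ ⊤ := by
    intro h
    refine hne (MonoidHom.ext fun g => LinearMap.ext fun v => ?_)
    have : ∀ x : V, x = 0 := fun x => (Submodule.mem_bot ℂ).mp (h.symm ▸ Submodule.mem_top)
    rw [this (σ g v), this v, map_zero]
  exact {
    exists_pair_ne := ⟨⊥, ⊤, fun h => hnt (congrArg Subrepresentation.toSubmodule h)⟩
    eq_bot_or_eq_top := fun W => (key W).imp (fun h => Subrepresentation.ext h)
      (fun h => Subrepresentation.ext h) }

/-- Smallest degree of a non-linear irreducible complex representation of the symplectic group Sp_{2n} over a finite field of odd order q, n ≥ 2: every irreducible complex representation of degree at least 2 has degree at least (q^n − 1)/2, and there is an irreducible complex representation of exactly that degree (a Weil representation). -/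
theorem result {F : Type*} [Field F] [Fintype F] [DecidableEq F] (n : ℕ) (hn : 2 ≤ n) (hodd : Odd (Fintype.card F)) :
    (∀ (k : ℕ) (ρ : Representation ℂ (Matrix.symplecticGroup (Fin n) F) (Fin k → ℂ)), ρ.IsIrreducible → 2 ≤ k → (Fintype.card F ^ n - 1) / 2 ≤ k) ∧
    (∃ ρ : Representation ℂ (Matrix.symplecticGroup (Fin n) F) (Fin ((Fintype.card F ^ n - 1) / 2) → ℂ), ρ.IsIrreducible) := by
  constructor
  · intro k ρ hirr hk
    by_contra hlt
    have hρ : ρ = 1 := trivial_of_small hodd hn ρ (by rw [Module.finrank_fin_fun]; omega)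
    subst hρ
    let W : Subrepresentation (1 : Representation ℂ (Matrix.symplecticGroup (Fin n) F) (Fin k → ℂ)) :=
      ⟨Submodule.span ℂ {Pi.single ⟨0, by omega⟩ 1}, fun g v hv => by simpa using hv⟩
    rcases hirr.eq_bot_or_eq_top W with h | h
    · have h1 : (Pi.single (⟨0, by omega⟩ : Fin k) (1 : ℂ)) ∈ W.toSubmodule :=
        Submodule.mem_span_singleton_self _
      rw [h] at h1
      simpa using congrFun ((Submodule.mem_bot ℂ).mp h1) ⟨0, by omega⟩
    · have h1 : (Pi.single (⟨1, by omega⟩ : Fin k) (1 : ℂ)) ∈ W.toSubmodule := by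
        rw [h]; exact Submodule.mem_top
      obtain ⟨a, ha⟩ := Submodule.mem_span_singleton.mp h1
      simpa [Pi.single_eq_of_ne (show (⟨1, by omega⟩ : Fin k) ≠ ⟨0, by omega⟩ by simp [Fin.ext_iff])] using congrFun ha ⟨1, by omega⟩
  · have h2 := two_ne_zero_of_odd hodd
    obtain ⟨ψ, t, hψ⟩ := exists_char_ne_one (F := F)
    have hfin := finrank_odd (F := F) (n := n) h2
    let e := (Module.finBasisOfFinrankEq ℂ (parSpace F n (-1))
      (show Module.finrank ℂ (parSpace F n (-1)) = (Fintype.card F ^ n - 1) / 2 by omega)).equivFun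
    let ρ : Representation ℂ (Matrix.symplecticGroup (Fin n) F)
        (Fin ((Fintype.card F ^ n - 1) / 2) → ℂ) :=
      ((e.conjAlgEquiv ℂ).toMulEquiv.toMonoidHom).comp (weil h2 hψ)
    refine ⟨ρ, irreducible_of_dim hn hodd ρ (by rw [Module.finrank_fin_fun]; omega) ?_⟩
    intro h
    refine weil_ne_one hn h2 hψ (MonoidHom.ext fun g => (e.conjAlgEquiv ℂ).injective ?_)
    exact (DFunLike.congr_fun h g).trans (map_one (e.conjAlgEquiv ℂ)).symm

end Cfsg.Agent.S2347
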