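import Cfsg.Statements.S2354
import Cfsg.Agent.Lib.WordLaws

set_option autoImplicit false
open Cfsg

namespace Cfsg.Agent.S2354

open Polynomial Cfsg.Agent.WordLaws
open scoped Matrix

section Mat

variable {R : Type*} [CommRing R]

/-- Upper unipotent Suzuki matrix with parameters `a` and `A = a^θ`. -/
def U (a A : R) : Matrix (Fin 4) (Fin 4) R :=
  !![1, a, 0, a * a * A; 0, 1, A, a * A; 0, 0, 1, a; 0, 0, 0, 1]

/-- Its inverse. -/
def U' (a A : R) : Matrix (Fin 4) (Fin 4) R :=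
  !![1, a, a * A, a * a * A; 0, 1, A, 0; 0, 0, 1, a; 0, 0, 0, 1]

/-- The reversed matrix. -/
def V (a A : R) : Matrix (Fin 4) (Fin 4) R :=
  !![1, 0, 0, 0; a, 1, 0, 0; a * A, A, 1, 0; a * a * A, 0, a, 1]

/-- Its inverse. -/
def V' (a A : R) : Matrix (Fin 4) (Fin 4) R :=
  !![1, 0, 0, 0; a, 1, 0, 0; 0, A, 1, 0; a * a * A, a * A, a, 1]

theorem V_eq (a A : R) : V a A = (U a A).submatrix Fin.rev Fin.rev := by
  ext i j; fin_cases i <;> fin_cases j <;> rfl

theorem V'_eq (a A : R) : V' a A = (U' a A).submatrix Fin.rev Fin.rev := by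
  ext i j; fin_cases i <;> fin_cases j <;> rfl

theorem sub_mul (M N : Matrix (Fin 4) (Fin 4) R) :
    M.submatrix Fin.rev Fin.rev * N.submatrix Fin.rev Fin.rev =
      (M * N).submatrix Fin.rev Fin.rev :=
  Matrix.submatrix_mul_equiv M N _ Fin.revPerm _

variable [CharP R 2]

theorem U_mul_U' (a A : R) : U a A * U' a A = 1 := by
  ext i j
  fin_cases i <;> fin_cases j <;>
    (simp [U, U', Matrix.mul_apply, Fin.sum_univ_four]; try (ring_nf; simp [CharTwo.two_eq_zero]))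

theorem U'_mul_U (a A : R) : U' a A * U a A = 1 := mul_eq_one_comm.1 (U_mul_U' a A)

theorem U'_mul_U_eq (a A c C : R) : U' a A * U c C =
    !![1, a + c, a * C + a * A, c * c * C + a * (c * C) + a * A * c + a * a * A;
      0, 1, A + C, c * C + A * c; 0, 0, 1, a + c; 0, 0, 0, 1] := by
  ext i j
  fin_cases i <;> fin_cases j <;> (simp [U, U', Matrix.mul_apply, Fin.sum_univ_four]; try ring)

theorem U_mul_U'_eq (a A c C : R) : U a A * U' c C =
    !![1, a + c, c * C + a * C, c * c * C + a * a * A;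
      0, 1, A + C, A * c + a * A; 0, 0, 1, a + c; 0, 0, 0, 1] := by
  ext i j
  fin_cases i <;> fin_cases j <;> (simp [U, U', Matrix.mul_apply, Fin.sum_univ_four]; try ring)

theorem V_mul_V' (a A : R) : V a A * V' a A = 1 := by
  rw [V_eq, V'_eq, sub_mul, U_mul_U']
  exact Matrix.submatrix_one_equiv Fin.revPerm

end Mat

variable (F : Type*) [Field F] [CharP F 2]

/-- The `i`th upper element over the polynomial ring. -/
noncomputable def ua (θ i : ℕ) : (Matrix (Fin 4) (Fin 4) F[X])ˣ :=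
  ⟨U (X ^ (i + 1)) (X ^ ((i + 1) * θ)), U' (X ^ (i + 1)) (X ^ ((i + 1) * θ)),
    U_mul_U' _ _, U'_mul_U _ _⟩

/-- The `i`th lower element over the polynomial ring. -/
noncomputable def vb (θ i : ℕ) : (Matrix (Fin 4) (Fin 4) F[X])ˣ :=
  ⟨V (X ^ (i + 1)) (X ^ ((i + 1) * θ)), V' (X ^ (i + 1)) (X ^ ((i + 1) * θ)),
    V_mul_V' _ _, mul_eq_one_comm.1 (V_mul_V' _ _)⟩

omit [CharP F 2] in
theorem lt_one {p : F[X]} {R : ℕ} (hR : 0 < R) (hp : p = 1 ∨ p = 0) : p.degree < (R : ℕ) := by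
  rcases hp with rfl | rfl
  · rw [degree_one]; exact_mod_cast hR
  · simp

theorem dom_U' {a A R₀ : F[X]} {R : ℕ} (hR : R₀.degree = R) (hR0 : 0 < R)
    {x₀₂ x₁₃ : F[X]} (h01 : a.degree < R) (h02 : x₀₂.degree < R) (h12 : A.degree < R)
    (h13 : x₁₃.degree < R) :
    Dom !![1, a, x₀₂, R₀; 0, 1, A, x₁₃; 0, 0, 1, a; 0, 0, 0, 1] 0 3 := by
  intro i j h
  have h1 : (0 : WithBot ℕ) < (R : ℕ) := by exact_mod_cast hR0
  fin_cases i <;> fin_cases j <;> simp [hR] at h ⊢ <;>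
    first | exact h1 | exact h01 | exact h02 | exact h12 | exact h13 | exact hR0

theorem dom_rev {M : Matrix (Fin 4) (Fin 4) F[X]} {p q : Fin 4} (h : Dom M p q) :
    Dom (M.submatrix Fin.rev Fin.rev) p.rev q.rev := by
  intro i j hij
  simp only [Matrix.submatrix_apply, Fin.rev_rev]
  exact h _ _ fun h' => hij ⟨by rw [← h'.1, Fin.rev_rev], by rw [← h'.2, Fin.rev_rev]⟩

omit [CharP F 2] in
theorem deg_add_lt {p q : F[X]} {R : ℕ} (hp : p.degree < R) (hq : q.degree < R) :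
    (p + q).degree < R :=
  (degree_add_le p q).trans_lt (max_lt hp hq)

omit [CharP F 2] in
theorem deg_pow_lt {k R : ℕ} (h : k < R) : ((X : F[X]) ^ k).degree < R := by
  rw [degree_X_pow]; exact_mod_cast h

omit [CharP F 2] in
theorem zero_lt (R : ℕ) : (0 : F[X]).degree < R := by
  rw [degree_zero]; exact WithBot.bot_lt_coe _

omit [CharP F 2] in
theorem deg_top {p : F[X]} {R : ℕ} (hp : p.degree < R) : ((X : F[X]) ^ R + p).degree = R := by
  rw [degree_add_eq_left_of_degree_lt (by rwa [degree_X_pow]), degree_X_pow]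

variable {θ : ℕ}

theorem dom_a (hθ : 0 < θ) (i : ℕ) : Dom (ua F θ i).val 0 3 ∧ Dom ((ua F θ i)⁻¹).val 0 3 := by
  set k := i + 1 with hk
  have hk0 : 0 < k := Nat.succ_pos i
  have hkθ : 0 < k * θ := Nat.mul_pos hk0 hθ
  have e1 : (X : F[X]) ^ k * X ^ k * X ^ (k * θ) = X ^ (k + k + k * θ) := by
    rw [← pow_add, ← pow_add]
  have e2 : (X : F[X]) ^ k * X ^ (k * θ) = X ^ (k + k * θ) := by rw [← pow_add]
  constructor
  · show Dom (U (X ^ k) (X ^ (k * θ))) 0 3
    rw [U, e1, e2]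
    exact dom_U' F (R := k + k + k * θ) (degree_X_pow _) (by omega) (deg_pow_lt F (by omega))
      (zero_lt F _) (deg_pow_lt F (by omega)) (deg_pow_lt F (by omega))
  · show Dom (U' (X ^ k) (X ^ (k * θ))) 0 3
    rw [U', e1, e2]
    exact dom_U' F (R := k + k + k * θ) (degree_X_pow _) (by omega) (deg_pow_lt F (by omega))
      (deg_pow_lt F (by omega)) (deg_pow_lt F (by omega)) (zero_lt F _)

theorem dom_mix (hθ : 0 < θ) {i j : ℕ} (hij : i ≠ j) :
    Dom ((ua F θ i)⁻¹ * ua F θ j).val 0 3 ∧ Dom (ua F θ i * (ua F θ j)⁻¹).val 0 3 := by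
  set k := i + 1 with hk
  set l := j + 1 with hl
  have hk0 : 0 < k := Nat.succ_pos i
  have hl0 : 0 < l := Nat.succ_pos j
  have hne : k ≠ l := by omega
  have hkθ : 0 < k * θ := Nat.mul_pos hk0 hθ
  have hlθ : 0 < l * θ := Nat.mul_pos hl0 hθ
  rw [Units.val_mul, Units.val_mul]
  show Dom (U' (X ^ k) (X ^ (k * θ)) * U (X ^ l) (X ^ (l * θ))) 0 3 ∧
    Dom (U (X ^ k) (X ^ (k * θ)) * U' (X ^ l) (X ^ (l * θ))) 0 3
  rw [U'_mul_U_eq, U_mul_U'_eq]
  simp only [← pow_add]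
  rcases Nat.lt_or_gt_of_ne hne with h | h
  · have hθ' : k * θ < l * θ := Nat.mul_lt_mul_of_pos_right h hθ
    refine ⟨dom_U' F (R := l + l + l * θ) ?_ (by omega) ?_ ?_ ?_ ?_,
      dom_U' F (R := l + l + l * θ) ?_ (by omega) ?_ ?_ ?_ ?_⟩
    · rw [add_assoc, add_assoc]
      exact deg_top F (deg_add_lt F (deg_pow_lt F (by omega))
        (deg_add_lt F (deg_pow_lt F (by omega)) (deg_pow_lt F (by omega))))
    all_goals first
      | exact deg_top F (deg_pow_lt F (by omega))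
      | exact deg_add_lt F (deg_pow_lt F (by omega)) (deg_pow_lt F (by omega))
  · have hθ' : l * θ < k * θ := Nat.mul_lt_mul_of_pos_right h hθ
    refine ⟨dom_U' F (R := k + k + k * θ) ?_ (by omega) ?_ ?_ ?_ ?_,
      dom_U' F (R := k + k + k * θ) ?_ (by omega) ?_ ?_ ?_ ?_⟩
    · rw [add_comm]
      exact deg_top F (deg_add_lt F (deg_add_lt F (deg_pow_lt F (by omega))
        (deg_pow_lt F (by omega))) (deg_pow_lt F (by omega)))
    all_goals first
      | (rw [add_comm]; exact deg_top F (deg_pow_lt F (by omega)))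
      | exact deg_add_lt F (deg_pow_lt F (by omega)) (deg_pow_lt F (by omega))

theorem setup (hθ : 0 < θ) :
    Setup (Units.coeHom (Matrix (Fin 4) (Fin 4) F[X])) (ua F θ) (vb F θ) 0 3 where
  ne := by decide
  a_pos i := (dom_a F hθ i).1
  a_inv i := (dom_a F hθ i).2
  a_mix i j h := (dom_mix F hθ h).1
  b_pos i := by
    show Dom (V _ _) 3 0
    rw [V_eq]; exact dom_rev F (dom_a F hθ i).1
  b_inv i := by
    show Dom (V' _ _) 3 0
    rw [V'_eq]; exact dom_rev F (dom_a F hθ i).2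
  b_mix i j h := by
    show Dom (V _ _ * V' _ _) 3 0
    rw [V_eq, V'_eq, sub_mul]
    exact dom_rev F (dom_mix F hθ h).2

omit [CharP F 2] in
theorem degLE_entries {a A : F[X]} {C : ℕ} (ha : a.natDegree ≤ C) (hA : A.natDegree ≤ C) :
    DegLE (U a A) (3 * C) ∧ DegLE (U' a A) (3 * C) ∧ DegLE (V a A) (3 * C) ∧ DegLE (V' a A) (3 * C) := by
  have h1 : (a * A).natDegree ≤ 3 * C := natDegree_mul_le.trans (by omega)
  have h2 : (a * a * A).natDegree ≤ 3 * C :=
    natDegree_mul_le.trans ((Nat.add_le_add_right natDegree_mul_le _).trans (by omega))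
  refine ⟨?_, ?_, ?_, ?_⟩ <;> intro i j <;> fin_cases i <;> fin_cases j <;>
    simp [U, U', V, V', h1, h2] <;> omega

/-- Matrices of the two families over the field lie in the Suzuki group. -/
theorem mem_Sz {e : ℕ} (he : e ≠ 0) (hsq : ∀ x : F, (x ^ e) ^ e = x ^ 2)
    (hadd : ∀ x y : F, (x + y) ^ e = x ^ e + y ^ e) (g : GL (Fin 4) F) (a : F)
    (hg : (g : Matrix (Fin 4) (Fin 4) F) = U a (a ^ e) ∨
      (g : Matrix (Fin 4) (Fin 4) F) = V a (a ^ e)) : g ∈ Cfsg.Lie.Sz F e := by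
  have h4 : (4 : F) = 0 := by
    rw [show (4 : F) = 2 * 2 by norm_num, CharTwo.two_eq_zero, zero_mul]
  refine Subgroup.subset_closure ⟨?_, ?_⟩
  · intro u v
    show Cfsg.Lie.altForm4 ((g : Matrix (Fin 4) (Fin 4) F) *ᵥ u)
      ((g : Matrix (Fin 4) (Fin 4) F) *ᵥ v) = Cfsg.Lie.altForm4 u v
    rcases hg with h | h <;> rw [h] <;>
      simp [U, V, Cfsg.Lie.altForm4, Matrix.mulVec, dotProduct, Fin.sum_univ_four] <;>
      (ring_nf; simp [CharTwo.two_eq_zero, h4])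
  · have h0 : (0 : F) ^ e = 0 := zero_pow he
    rcases hg with h | h <;> rw [h] <;> ext i j <;> fin_cases i <;> fin_cases j <;>
      simp [U, V, Cfsg.Lie.star4, Cfsg.Lie.pairOf, h0, mul_pow, hsq] <;>
      (ring_nf; try simp [CharTwo.two_eq_zero, CharTwo.neg_eq, h4])

/-- A non-trivial law holds in only finitely many Suzuki groups: for every non-trivial element w of the free group on countably many generators there is N such that for q = 2^(2m+1) with m ≥ N some substitution of elements of the Suzuki group over the field with q elements into w is not the identity. -/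
theorem result (w : FreeGroup ℕ) (hw : w ≠ 1) :
    ∃ N : ℕ, ∀ (F : Type*) [Field F] [Fintype F] (m : ℕ), 1 ≤ m → N ≤ m →
      Fintype.card F = 2 ^ (2 * m + 1) →
      ∃ f : ℕ → ↥(Cfsg.Lie.Sz F (2 ^ (m + 1))), FreeGroup.lift f w ≠ 1 := by
  refine ⟨(extList w).length * (2 * (3 * (fresh w + 1))) + 1, fun F _ _ m hm hN hF => ?_⟩
  have : CharP F 2 := charP_of_card_eq_prime_pow hF
  have he2 : 2 ^ (m + 1) * 2 ^ (m + 1) = Fintype.card F * 2 := by rw [hF]; ring
  have hθ : 0 < 2 ^ (m + 1) := Nat.two_pow_pos _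
  have hsq : ∀ x : F, (x ^ 2 ^ (m + 1)) ^ 2 ^ (m + 1) = x ^ 2 := fun x => by
    rw [← pow_mul, he2, pow_mul, FiniteField.pow_card]
  have hadd : ∀ x y : F, (x + y) ^ 2 ^ (m + 1) = x ^ 2 ^ (m + 1) + y ^ 2 ^ (m + 1) := fun x y =>
    add_pow_char_pow x y 2 (m + 1)
  have hC : ∀ i ≤ fresh w,
      DegLE (ua F (2 ^ (m + 1)) i).val (3 * ((fresh w + 1) * 2 ^ (m + 1))) ∧
      DegLE ((ua F (2 ^ (m + 1)) i)⁻¹).val (3 * ((fresh w + 1) * 2 ^ (m + 1))) ∧
      DegLE (vb F (2 ^ (m + 1)) i).val (3 * ((fresh w + 1) * 2 ^ (m + 1))) ∧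
      DegLE ((vb F (2 ^ (m + 1)) i)⁻¹).val (3 * ((fresh w + 1) * 2 ^ (m + 1))) := by
    intro i hi
    exact degLE_entries F
      ((natDegree_X_pow_le _).trans (by
        calc i + 1 ≤ fresh w + 1 := by omega
          _ ≤ (fresh w + 1) * 2 ^ (m + 1) := Nat.le_mul_of_pos_right _ hθ))
      ((natDegree_X_pow_le _).trans (Nat.mul_le_mul_right _ (by omega)))
  obtain ⟨hne, hdeg⟩ := exists_entry (Units.coeHom (Matrix (Fin 4) (Fin 4) F[X])) _ _ 0 3
    (setup F hθ) w hw _ hC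
  have hlt : (extList w).length * (2 * (3 * (fresh w + 1))) < 2 ^ m := by
    have := Nat.lt_two_pow_self (n := m)
    omega
  have hcard : (extList w).length * (2 * (3 * ((fresh w + 1) * 2 ^ (m + 1)))) < Fintype.card F := by
    rw [hF, show 2 * m + 1 = m + (m + 1) by omega, pow_add 2 m (m + 1)]
    calc _ = (extList w).length * (2 * (3 * (fresh w + 1))) * 2 ^ (m + 1) := by ring
      _ < _ := Nat.mul_lt_mul_of_pos_right hlt hθ
  obtain ⟨x, hx⟩ := exists_eval_ne_zero _ hne (lt_of_le_of_lt hdeg hcard)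
  let φ : (Matrix (Fin 4) (Fin 4) F[X])ˣ →* GL (Fin 4) F :=
    Matrix.GeneralLinearGroup.map (evalRingHom x)
  have hp : ∀ i, (x ^ (i + 1)) ^ 2 ^ (m + 1) = x ^ ((i + 1) * 2 ^ (m + 1)) := fun i => by
    rw [← pow_mul]
  have hu : ∀ i, φ (ua F (2 ^ (m + 1)) i) ∈ Cfsg.Lie.Sz F (2 ^ (m + 1)) := fun i => by
    refine mem_Sz F hθ.ne' hsq hadd _ (x ^ (i + 1)) (Or.inl ?_)
    rw [hp]
    ext k l; fin_cases k <;> fin_cases l <;> simp [φ, ua, U]
  have hv : ∀ i, φ (vb F (2 ^ (m + 1)) i) ∈ Cfsg.Lie.Sz F (2 ^ (m + 1)) := fun i => by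
    refine mem_Sz F hθ.ne' hsq hadd _ (x ^ (i + 1)) (Or.inr ?_)
    rw [hp]
    ext k l; fin_cases k <;> fin_cases l <;> simp [φ, vb, V]
  refine ⟨fun i => ⟨φ (ua F (2 ^ (m + 1)) i * vb F (2 ^ (m + 1)) i), by
    rw [map_mul]; exact mul_mem (hu i) (hv i)⟩, fun h => hx ?_⟩
  have h2 := congrArg (Cfsg.Lie.Sz F (2 ^ (m + 1))).subtype
    (lift_ext_eq_one _ w (by rw [h]; exact Subgroup.one_mem _))
  rw [map_lift, map_one] at h2
  simp only [Subgroup.coe_subtype] at h2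
  rw [← map_lift φ] at h2
  have h3 := congrFun (congrFun (congrArg (fun g : GL (Fin 4) F =>
    (g : Matrix (Fin 4) (Fin 4) F)) h2) 0) 3
  simpa [φ] using h3

end Cfsg.Agent.S2354
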