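import Cfsg.Statements.S2355
import Cfsg.Agent.Lib.WordLawsSL2

set_option autoImplicit false
open Cfsg

namespace Cfsg.Agent.S2355

open Cfsg.Agent.WordLaws Cfsg.Agent.WordLawsSL2
open scoped Matrix

/-- Transporting a witness along an injective homomorphism into a subgroup. -/
theorem transport {K H : Type*} [Group K] [Group H] (w : FreeGroup ℕ) (φ : K →* H)
    (hφ : Function.Injective φ) (S : Subgroup H) (f : ℕ → K) (hS : ∀ i, φ (f i) ∈ S)
    (h : FreeGroup.lift f (ext w) ≠ 1) :
    ∃ g : ℕ → S, FreeGroup.lift g w ∉ Subgroup.center S := by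
  refine ⟨fun i => ⟨φ (f i), hS i⟩, fun hc => h (hφ ?_)⟩
  have := congrArg S.subtype (lift_ext_eq_one _ w hc)
  rw [map_lift, map_one] at this
  rw [map_lift, map_one]
  exact this

/-- A word that is a law in a quotient by the centre has only central values. -/
theorem central_values {G H : Type*} [Group G] [Group H] (e : G ≃* H ⧸ Subgroup.center H)
    (w : FreeGroup ℕ) (hlaw : ∀ f : ℕ → G, FreeGroup.lift f w = 1) (g : ℕ → H) :
    FreeGroup.lift g w ∈ Subgroup.center H := by
  have h := hlaw fun i => e.symm (QuotientGroup.mk' _ (g i))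
  have h2 := congrArg e.toMonoidHom h
  rw [map_lift, map_one] at h2
  simp only [MulEquiv.coe_toMonoidHom, MulEquiv.apply_symm_apply] at h2
  rw [← map_lift] at h2
  exact (QuotientGroup.eq_one_iff _).1 h2

section Embed

variable {F : Type*} [Field F] {n : ℕ}

/-- Permutation matrices as a homomorphism. -/
def permMat (n : ℕ) (F : Type*) [Field F] : Equiv.Perm (Fin n) →* Matrix (Fin n) (Fin n) F where
  toFun σ := (σ⁻¹).permMatrix F
  map_one' := by simp
  map_mul' σ τ := by rw [mul_inv_rev, Matrix.permMatrix_mul]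

/-- The alternating group inside `SL`. -/
def altToSL (n : ℕ) (F : Type*) [Field F] :
    alternatingGroup (Fin n) →* Matrix.SpecialLinearGroup (Fin n) F where
  toFun σ := ⟨permMat n F σ.1, by
    show (Equiv.Perm.permMatrix F (σ.1⁻¹)).det = 1
    rw [Matrix.det_permutation, Equiv.Perm.sign_inv, Equiv.Perm.mem_alternatingGroup.1 σ.2]
    simp⟩
  map_one' := Subtype.ext (map_one (permMat n F))
  map_mul' σ τ := Subtype.ext (map_mul (permMat n F) σ.1 τ.1)

theorem altToSL_injective : Function.Injective (altToSL n F) := by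
  intro σ τ h
  have h1 : (σ.1⁻¹).permMatrix F = (τ.1⁻¹).permMatrix F := congrArg Subtype.val h
  apply Subtype.ext
  apply inv_injective
  refine Equiv.ext fun i => ?_
  have := congrFun (congrFun h1 i) (σ.1⁻¹ i)
  by_contra hne
  simp [Equiv.Perm.permMatrix, PEquiv.toMatrix_apply] at this
  exact hne this.symm

/-- A fixed identification of the index sets. -/
def split (h : 2 ≤ n) : Fin 2 ⊕ Fin (n - 2) ≃ Fin n :=
  finSumFinEquiv.trans (finCongr (by omega))

/-- Block embedding of two by two matrices. -/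
def block (h : 2 ≤ n) (F : Type*) [Field F] :
    Matrix (Fin 2) (Fin 2) F →* Matrix (Fin n) (Fin n) F where
  toFun A := (Matrix.fromBlocks A 0 0 1).submatrix (split h).symm (split h).symm
  map_one' := by rw [Matrix.fromBlocks_one]; exact Matrix.submatrix_one_equiv _
  map_mul' A B := by
    rw [Matrix.submatrix_mul_equiv, Matrix.fromBlocks_multiply]; simp

theorem block_det (h : 2 ≤ n) (A : Matrix (Fin 2) (Fin 2) F) : (block h F A).det = A.det := by
  show ((Matrix.fromBlocks A 0 0 1).submatrix (split h).symm (split h).symm).det = _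
  rw [Matrix.det_submatrix_equiv_self, Matrix.det_fromBlocks_zero₂₁, Matrix.det_one, mul_one]

theorem block_injective (h : 2 ≤ n) : Function.Injective (block h F) := by
  intro A B hAB
  ext i j
  have := congrFun (congrFun hAB (split h (Sum.inl i))) (split h (Sum.inl j))
  simpa [block] using this

/-- `SL₂` inside `SL`. -/
def sl2ToSL (h : 2 ≤ n) (F : Type*) [Field F] :
    Matrix.SpecialLinearGroup (Fin 2) F →* Matrix.SpecialLinearGroup (Fin n) F where
  toFun A := ⟨block h F A.1, by rw [block_det, A.2]⟩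
  map_one' := Subtype.ext (map_one (block h F))
  map_mul' A B := Subtype.ext (map_mul (block h F) A.1 B.1)

theorem sl2ToSL_injective (h : 2 ≤ n) : Function.Injective (sl2ToSL h F) :=
  fun _ _ e => Subtype.ext (block_injective h (congrArg Subtype.val e))

/-- `A ↦ diag(A, A⁻ᵀ)`. -/
def dbl (n : ℕ) (F : Type*) [Field F] :
    Matrix.SpecialLinearGroup (Fin n) F →* Matrix (Fin n ⊕ Fin n) (Fin n ⊕ Fin n) F where
  toFun A := Matrix.fromBlocks A.1 0 0 (A⁻¹).1ᵀ
  map_one' := by simp [← Matrix.fromBlocks_one]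
  map_mul' A B := by
    rw [Matrix.fromBlocks_multiply]
    simp [mul_inv_rev, Matrix.transpose_mul]

theorem inv_mul_val (A : Matrix.SpecialLinearGroup (Fin n) F) : (A⁻¹).1 * A.1 = 1 :=
  congrArg Subtype.val (inv_mul_cancel A)

theorem mul_inv_val (A : Matrix.SpecialLinearGroup (Fin n) F) : A.1 * (A⁻¹).1 = 1 :=
  congrArg Subtype.val (mul_inv_cancel A)

theorem dbl_injective : Function.Injective (dbl n F) := fun _ _ e =>
  Subtype.ext (by
    ext i j
    simpa [dbl] using congrFun (congrFun e (Sum.inl i)) (Sum.inl j))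

theorem dbl_form (A : Matrix.SpecialLinearGroup (Fin n) F) (u : Fin n ⊕ Fin n → F) :
    Cfsg.quadFormPlus n F (dbl n F A *ᵥ u) = Cfsg.quadFormPlus n F u := by
  have h1 : ∀ (v : Fin n ⊕ Fin n → F), Cfsg.quadFormPlus n F v =
      (fun i => v (.inl i)) ⬝ᵥ (fun i => v (.inr i)) := fun v => rfl
  rw [h1, h1]
  show (fun i => (Matrix.fromBlocks A.1 0 0 (A⁻¹).1ᵀ *ᵥ u) (.inl i)) ⬝ᵥ
    (fun i => (Matrix.fromBlocks A.1 0 0 (A⁻¹).1ᵀ *ᵥ u) (.inr i)) = _
  simp only [Matrix.fromBlocks_mulVec, Sum.elim_inl, Sum.elim_inr, Matrix.zero_mulVec, add_zero,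
    zero_add]
  rw [show (fun i => (A.1 *ᵥ (u ∘ Sum.inl)) i) = A.1 *ᵥ (u ∘ Sum.inl) from rfl,
    show (fun i => ((A⁻¹).1ᵀ *ᵥ (u ∘ Sum.inr)) i) = (A⁻¹).1ᵀ *ᵥ (u ∘ Sum.inr) from rfl,
    Matrix.dotProduct_mulVec, ← Matrix.mulVec_transpose, Matrix.transpose_transpose,
    Matrix.mulVec_mulVec, inv_mul_val, Matrix.one_mulVec]
  rfl

/-- Adjoining an identity block on the left. -/
def padLeft (α : Type) [DecidableEq α] [Fintype α] (β : Type) [DecidableEq β] [Fintype β]
    (F : Type*) [Field F] : Matrix β β F →* Matrix (α ⊕ β) (α ⊕ β) F where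
  toFun A := Matrix.fromBlocks 1 0 0 A
  map_one' := Matrix.fromBlocks_one
  map_mul' A B := by rw [Matrix.fromBlocks_multiply]; simp

/-- Adjoining an identity block on the right. -/
def padRight (β : Type) [DecidableEq β] [Fintype β] (α : Type) [DecidableEq α] [Fintype α]
    (F : Type*) [Field F] : Matrix β β F →* Matrix (β ⊕ α) (β ⊕ α) F where
  toFun A := Matrix.fromBlocks A 0 0 1
  map_one' := Matrix.fromBlocks_one
  map_mul' A B := by rw [Matrix.fromBlocks_multiply]; simp

/-- An injective homomorphism to matrices preserving `Q` gives one into the isometry group. -/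
theorem toIsometry {K : Type*} [Group K] {ι : Type} [Fintype ι] [DecidableEq ι]
    (Q : (ι → F) → F) (ρ : K →* Matrix ι ι F) (hρ : Function.Injective ρ)
    (hQ : ∀ k u, Q (ρ k *ᵥ u) = Q u) :
    ∃ φ : K →* Cfsg.isometryGroup F Q, Function.Injective φ := by
  refine ⟨ρ.toHomUnits.codRestrict _ (fun k u _ => hQ k u), fun x y h => hρ ?_⟩
  exact congrArg (fun g : Cfsg.isometryGroup F Q => (g.1 : Matrix ι ι F)) h

end Embed

section Unitary

variable {F : Type*} [Field F] [Fintype F] {q : ℕ}

theorem exists_norm_minus_one (hF : Fintype.card F = q ^ 2) :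
    ∃ ε ε' : F, ε ^ (q + 1) = -1 ∧ ε' ^ (q + 1) = -1 ∧ ε ≠ ε' ∧
      ∃ z : Fin (q - 1) → F, Function.Injective z ∧ ∀ i, z i ^ q = z i := by
  classical
  have hq : 2 ≤ q := by
    by_contra h
    have h2 := Fintype.one_lt_card (α := F)
    interval_cases q <;> simp_all
  have hq2 : Fintype.card Fˣ = (q + 1) * (q - 1) := by
    rw [Fintype.card_units, hF]
    simpa using Nat.sq_sub_sq q 1
  obtain ⟨g, hg⟩ := IsCyclic.exists_generator (α := Fˣ)
  have hord : orderOf g = (q + 1) * (q - 1) := by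
    rw [orderOf_eq_card_of_forall_mem_zpowers hg, Nat.card_eq_fintype_card, hq2]
  obtain ⟨k, hk⟩ : ∃ k : ℕ, g ^ k = -1 := (mem_powers_iff_mem_zpowers (x := g)).2 (hg _)
  have hqodd : ((-1 : Fˣ)) ^ (q - 1) = 1 := by
    rcases Nat.even_or_odd q with he | ho
    · have : CharP F 2 := by
        obtain ⟨p, hp⟩ := CharP.exists F
        obtain ⟨a, hpp, ha⟩ := FiniteField.card F p
        have h2 : 2 ∣ p ^ (a : ℕ) := by
          rw [← ha, hF]; exact dvd_pow he.two_dvd two_ne_zero
        have := (Nat.prime_dvd_prime_iff_eq Nat.prime_two hpp).1 (Nat.prime_two.dvd_of_dvd_pow h2)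
        rw [this]; exact hp
      rw [show (-1 : Fˣ) = 1 from Units.ext (by simp [CharTwo.neg_eq]), one_pow]
    · obtain ⟨r, rfl⟩ := ho
      rw [show 2 * r + 1 - 1 = 2 * r by omega, pow_mul]; simp
  have hdvd : q + 1 ∣ k := by
    rw [← hk, ← pow_mul, ← orderOf_dvd_iff_pow_eq_one, hord] at hqodd
    exact (Nat.mul_dvd_mul_iff_right (by omega)).1 hqodd
  obtain ⟨j, rfl⟩ := hdvd
  have hz : g ^ ((q + 1) * (q - 1)) = 1 := by rw [← hord]; exact pow_orderOf_eq_one g
  have he : (g ^ j) ^ (q + 1) = -1 := by rw [← pow_mul, mul_comm, hk]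
  refine ⟨((g ^ j : Fˣ) : F), ((g ^ j * g ^ (q - 1) : Fˣ) : F), ?_, ?_, ?_,
    fun i => ((g ^ ((q + 1) * (i : ℕ)) : Fˣ) : F), ?_, ?_⟩
  · rw [← Units.val_pow_eq_pow_val, he]; simp
  · rw [← Units.val_pow_eq_pow_val, mul_pow, he, ← pow_mul g (q - 1), mul_comm (q - 1), hz]; simp
  · intro h
    have h1 : g ^ (q - 1) = 1 := by
      have := Units.ext h
      simpa using this
    have h3 := Nat.le_of_dvd (by omega) (orderOf_dvd_of_pow_eq_one h1)
    rw [hord] at h3
    nlinarith [show 1 ≤ q - 1 by omega]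
  · intro a b h
    have h1 := Units.ext h
    have hlt : ∀ c : Fin (q - 1), (q + 1) * (c : ℕ) < orderOf g := fun c => by
      rw [hord]; exact Nat.mul_lt_mul_of_pos_left c.2 (by omega)
    have h2 := pow_injOn_Iio_orderOf (hlt a) (hlt b) h1
    exact Fin.ext (Nat.eq_of_mul_eq_mul_left (by omega) h2)
  · intro i
    have h1 : (g ^ ((q + 1) * (i : ℕ))) ^ (q - 1) = 1 := by
      rw [← pow_mul, show (q + 1) * (i : ℕ) * (q - 1) = (q + 1) * (q - 1) * i by ring, pow_mul, hz,
        one_pow]
    have h2 : (g ^ ((q + 1) * (i : ℕ))) ^ q = g ^ ((q + 1) * (i : ℕ)) := by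
      generalize g ^ ((q + 1) * (i : ℕ)) = y at h1 ⊢
      obtain ⟨r, hr⟩ : ∃ r, q = r + 1 := ⟨q - 1, by omega⟩
      rw [show q - 1 = r by omega] at h1
      rw [hr, pow_succ, h1, one_mul]
    simp only [← Units.val_pow_eq_pow_val]
    exact congrArg Units.val h2

theorem exists_frob (hF : Fintype.card F = q ^ 2) :
    ∃ σ : F →+* F, ∀ x, σ x = x ^ q := by
  obtain ⟨p, hp⟩ := CharP.exists F
  obtain ⟨a, hpp, ha⟩ := FiniteField.card F p
  have : Fact p.Prime := ⟨hpp⟩
  have hd : q ∣ p ^ (a : ℕ) := by rw [← ha, hF]; exact dvd_pow_self q two_ne_zero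
  obtain ⟨r, -, rfl⟩ := (Nat.dvd_prime_pow hpp).1 hd
  exact ⟨iterateFrobenius F p r, fun x => rfl⟩

/-- An `SL₂` over a subfield of order at least `q - 1` inside `SU`. -/
theorem exists_sl2_in_SU {F : Type} [Field F] [Fintype F] {q n : ℕ} (hF : Fintype.card F = q ^ 2)
    (hn : 2 ≤ n) :
    ∃ (K : Type) (_ : Field K) (_ : Fintype K) (φ : Matrix.SpecialLinearGroup (Fin 2) K →*
      Cfsg.SU n F q), q - 1 ≤ Fintype.card K ∧ Function.Injective φ := by
  classical
  obtain ⟨σ, hσ⟩ := exists_frob hF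
  have hσσ : ∀ x, σ (σ x) = x := fun x => by
    rw [hσ, hσ, ← pow_mul, ← sq, ← hF, FiniteField.pow_card]
  obtain ⟨ε, ε', he, he', hne, z, hz, hzq⟩ := exists_norm_minus_one hF
  have hε : ε * σ ε = -1 := by rw [hσ, ← pow_succ']; exact he
  have hε' : ε' * σ ε' = -1 := by rw [hσ, ← pow_succ']; exact he'
  let K : Subfield F := RingHom.eqLocusField σ (RingHom.id F)
  obtain ⟨t, ht⟩ : ∃ t : F, σ t ≠ t := by
    by_contra h
    push Not at h
    have h2 : (2 : ℕ) ≤ q := by
      by_contra h'
      have h2 := Fintype.one_lt_card (α := F)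
      interval_cases q <;> simp_all
    have := Polynomial.eq_zero_of_natDegree_lt_card_of_eval_eq_zero
      (Polynomial.X ^ q - Polynomial.X : Polynomial F) (f := id) Function.injective_id
      (fun x => by simp [← hσ, h x]) (by
        rw [FiniteField.X_pow_card_sub_X_natDegree_eq F (by omega), hF]; nlinarith)
    exact FiniteField.X_pow_card_sub_X_ne_zero F (by omega) this
  set δ := t - σ t with hδdef
  have hδ : δ ≠ 0 := sub_ne_zero.2 ht.symm
  have hδσ : σ δ = -δ := by rw [hδdef, map_sub, hσσ]; ring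
  have hD : 1 + ε * σ ε' ≠ 0 := by
    intro h
    apply hne
    have h3 : ε * σ ε' = ε' * σ ε' := by rw [hε']; linear_combination h
    have : σ ε' ≠ 0 := by intro h0; rw [h0] at hε'; simp at hε'
    exact mul_right_cancel₀ this h3
  set μ := σ (δ / (1 + ε * σ ε')) with hμ
  have hμσ : σ μ = δ / (1 + ε * σ ε') := hσσ _
  have hμ0 : μ ≠ 0 := by
    rw [hμ]; exact (map_ne_zero σ).2 (div_ne_zero hδ hD)
  let P : Matrix (Fin 2) (Fin 2) F := !![1, μ; ε, μ * ε']
  have hPdet : P.det ≠ 0 := by
    rw [Matrix.det_fin_two_of]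
    intro h
    exact hne (mul_left_cancel₀ hμ0 (by linear_combination h)).symm
  have hPform : ∀ x y : Fin 2 → F, (P *ᵥ x) 0 * σ ((P *ᵥ y) 0) + (P *ᵥ x) 1 * σ ((P *ᵥ y) 1) =
      δ * (x 0 * σ (y 1) - x 1 * σ (y 0)) := by
    intro x y
    have e1 : σ μ * (1 + ε * σ ε') = δ := by rw [hμσ, div_mul_cancel₀ _ hD]
    have e2 : μ * (1 + ε' * σ ε) = -δ := by
      have := congrArg σ e1
      rwa [map_mul, map_add, map_mul, map_one, hσσ, hσσ, hδσ, mul_comm (σ ε)] at this
    simp [P, Matrix.mulVec, dotProduct, Fin.sum_univ_two]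
    linear_combination (x 0 * σ (y 0)) * hε + (μ * σ μ * x 1 * σ (y 1)) * hε' +
      (x 0 * σ (y 1)) * e1 + (x 1 * σ (y 0)) * e2
  let Pu : (Matrix (Fin 2) (Fin 2) F)ˣ := Matrix.GeneralLinearGroup.mkOfDetNeZero P hPdet
  have hPu : (Pu : Matrix (Fin 2) (Fin 2) F) = P := rfl
  let ψ : Matrix.SpecialLinearGroup (Fin 2) K →* (Matrix (Fin 2) (Fin 2) F)ˣ :=
    (MulAut.conj Pu).toMonoidHom.comp
      (Matrix.SpecialLinearGroup.toGL.comp (Matrix.SpecialLinearGroup.map K.subtype))
  have hψ : ∀ (M : Matrix.SpecialLinearGroup (Fin 2) K) (u v : Fin 2 → F),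
      let A := (ψ M : Matrix (Fin 2) (Fin 2) F)
      (A *ᵥ u) 0 * σ ((A *ᵥ v) 0) + (A *ᵥ u) 1 * σ ((A *ᵥ v) 1) =
        u 0 * σ (v 0) + u 1 * σ (v 1) := by
    intro M u v
    let Pi : Matrix (Fin 2) (Fin 2) F := ((Pu⁻¹ : (Matrix (Fin 2) (Fin 2) F)ˣ) : Matrix _ _ F)
    have hPi : P * Pi = 1 := by rw [← hPu]; exact Pu.mul_inv
    let M' : Matrix (Fin 2) (Fin 2) F := M.1.map K.subtype
    have hA : (ψ M : Matrix (Fin 2) (Fin 2) F) = P * M' * Pi := rfl
    have hu : u = P *ᵥ (Pi *ᵥ u) := by rw [Matrix.mulVec_mulVec, hPi, Matrix.one_mulVec]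
    have hv : v = P *ᵥ (Pi *ᵥ v) := by rw [Matrix.mulVec_mulVec, hPi, Matrix.one_mulVec]
    simp only [hA]
    conv_rhs => rw [hu, hv]
    rw [← Matrix.mulVec_mulVec, ← Matrix.mulVec_mulVec, ← Matrix.mulVec_mulVec,
      ← Matrix.mulVec_mulVec, hPform, hPform]
    congr 1
    have hfix : ∀ i j, σ ((M.1 i j : K) : F) = (M.1 i j : F) := fun i j => (M.1 i j).2
    have hdet : (M.1 0 0 : F) * M.1 1 1 - M.1 0 1 * M.1 1 0 = 1 := by
      have := congrArg K.subtype M.2
      rw [Matrix.det_fin_two] at this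
      simpa using this
    simp [M', Matrix.mulVec, dotProduct, Fin.sum_univ_two, hfix]
    linear_combination ((Pi 0 0 * u 0 + Pi 0 1 * u 1) * (σ (Pi 1 0) * σ (v 0) + σ (Pi 1 1) * σ (v 1))
      - (Pi 1 0 * u 0 + Pi 1 1 * u 1) * (σ (Pi 0 0) * σ (v 0) + σ (Pi 0 1) * σ (v 1))) * hdet
  have hψdet : ∀ M, (ψ M : Matrix (Fin 2) (Fin 2) F).det = 1 := by
    intro M
    show ((Pu : Matrix (Fin 2) (Fin 2) F) * (Matrix.SpecialLinearGroup.map K.subtype M).1 *
      ((Pu⁻¹ : (Matrix (Fin 2) (Fin 2) F)ˣ) : Matrix _ _ F)).det = 1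
    rw [Matrix.det_units_conj, (Matrix.SpecialLinearGroup.map K.subtype M).2]
  let φ₀ : Matrix.SpecialLinearGroup (Fin 2) K →* Matrix.SpecialLinearGroup (Fin n) F :=
    { toFun := fun M => ⟨block hn F (ψ M : Matrix (Fin 2) (Fin 2) F), by rw [block_det, hψdet]⟩
      map_one' := Subtype.ext (by simp)
      map_mul' := fun A B => Subtype.ext (by simp only [map_mul, Units.val_mul]; rfl) }
  have hmem : ∀ M, φ₀ M ∈ Cfsg.SU n F q := by
    intro M u v
    show Cfsg.hermForm n F q (block hn F (ψ M : Matrix (Fin 2) (Fin 2) F) *ᵥ u)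
      (block hn F (ψ M : Matrix (Fin 2) (Fin 2) F) *ᵥ v) = Cfsg.hermForm n F q u v
    simp only [Cfsg.hermForm, ← hσ]
    rw [← (split hn).sum_comp, ← (split hn).sum_comp]
    simp only [Fintype.sum_sum_type]
    have key : ∀ w : Fin n → F,
        (∀ i, (block hn F (ψ M : Matrix (Fin 2) (Fin 2) F) *ᵥ w) (split hn (Sum.inl i)) =
          ((ψ M : Matrix (Fin 2) (Fin 2) F) *ᵥ fun j => w (split hn (Sum.inl j))) i) ∧
        (∀ i, (block hn F (ψ M : Matrix (Fin 2) (Fin 2) F) *ᵥ w) (split hn (Sum.inr i)) =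
          w (split hn (Sum.inr i))) := by
      intro w
      constructor <;> intro i <;>
        simp [block, Matrix.submatrix_mulVec_equiv, Matrix.fromBlocks_mulVec, Function.comp_def]
    simp only [(key u).1, (key u).2, (key v).1, (key v).2]
    rw [Fin.sum_univ_two, Fin.sum_univ_two]
    congr 1
    exact hψ M _ _
  refine ⟨K, inferInstance, Fintype.ofFinite K, φ₀.codRestrict _ hmem, ?_, fun A B h => ?_⟩
  · have := @Fintype.card_le_of_injective (Fin (q - 1)) K _ (Fintype.ofFinite K)
      (fun i => (⟨z i, by show σ (z i) = z i; rw [hσ, hzq]⟩ : K))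
      (fun a b h => hz (congrArg Subtype.val h))
    rwa [Fintype.card_fin] at this
  · have h1 := block_injective hn (congrArg (fun g : Cfsg.SU n F q => g.1.1) h)
    have h2 : ψ A = ψ B := Units.ext h1
    have h3 := Matrix.SpecialLinearGroup.toGL_injective ((MulAut.conj Pu).injective h2)
    apply Subtype.ext
    ext i j
    exact congrFun (congrFun (congrArg Subtype.val h3) i) j

end Unitary

section Bounds

/-- The linear group over large fields or of large degree has a witness. -/
theorem sl_witness (w : FreeGroup ℕ) (hw : w ≠ 1) :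
    ∃ N : ℕ, ∀ (F : Type) [Field F] [Fintype F] (n : ℕ), 2 ≤ n → N ≤ n ∨ N ≤ Fintype.card F →
      ∃ f : ℕ → Matrix.SpecialLinearGroup (Fin n) F,
        (∀ i, f i ∈ commutator (Matrix.SpecialLinearGroup (Fin n) F)) ∧
        FreeGroup.lift f (ext w) ≠ 1 := by
  obtain ⟨N₁, h₁⟩ := sl2_nonlaw.{0} w hw
  obtain ⟨N₂, h₂⟩ := alt_nonlaw w hw
  refine ⟨N₁ + N₂, fun F _ _ n hn h => ?_⟩
  rcases h with h | h
  · obtain ⟨f, hc, hf⟩ := h₂ n (by omega)
    refine ⟨fun i => altToSL n F (f i), fun i => map_mem_commutator _ (hc i), fun e => hf ?_⟩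
    apply altToSL_injective (F := F)
    rw [map_lift, map_one]; exact e
  · obtain ⟨f, hc, hf⟩ := h₁ F (by omega)
    refine ⟨fun i => sl2ToSL hn F (f i), fun i => map_mem_commutator _ (hc i), fun e => hf ?_⟩
    apply sl2ToSL_injective hn
    rw [map_lift, map_one]; exact e

/-- Witness in a commutator subgroup of an isometry group. -/
theorem omega_witness (w : FreeGroup ℕ) {F : Type} [Field F] {n : ℕ} {ι : Type} [Fintype ι]
    [DecidableEq ι] (Q : (ι → F) → F) (ρ : Matrix.SpecialLinearGroup (Fin n) F →* Matrix ι ι F)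
    (hρ : Function.Injective ρ) (hQ : ∀ k u, Q (ρ k *ᵥ u) = Q u)
    (f : ℕ → Matrix.SpecialLinearGroup (Fin n) F)
    (hc : ∀ i, f i ∈ commutator (Matrix.SpecialLinearGroup (Fin n) F))
    (hf : FreeGroup.lift f (ext w) ≠ 1) :
    ∃ g : ℕ → Cfsg.Omega F Q, FreeGroup.lift g w ∉ Subgroup.center (Cfsg.Omega F Q) := by
  obtain ⟨φ, hφ⟩ := toIsometry Q ρ hρ hQ
  exact transport w φ hφ _ f (fun i => map_mem_commutator φ (hc i)) hf

theorem card_matrix_bound {F : Type} [Field F] [Fintype F] {ι : Type} [Fintype ι]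
    [DecidableEq ι] {G : Type*} [Group G] {H : Type} [Group H] (e : G ≃* H ⧸ Subgroup.center H)
    (j : H → Matrix ι ι F) (hj : Function.Injective j) (B D : ℕ) (hB : Fintype.card F ≤ B)
    (hD : Fintype.card ι ≤ D) : Nat.card G ≤ (B + 1) ^ (D * D) := by
  haveI : Finite H := Finite.of_injective j hj
  calc Nat.card G = Nat.card (H ⧸ Subgroup.center H) := Nat.card_congr e.toEquiv
    _ ≤ Nat.card H := Nat.card_le_card_of_surjective _ QuotientGroup.mk_surjective
    _ ≤ Nat.card (Matrix ι ι F) := Nat.card_le_card_of_injective j hj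
    _ = Fintype.card F ^ (Fintype.card ι * Fintype.card ι) := by
      rw [Nat.card_eq_fintype_card]
      exact (Fintype.card_congr (Equiv.curry ι ι F).symm).trans (by simp)
    _ ≤ (B + 1) ^ (Fintype.card ι * Fintype.card ι) := Nat.pow_le_pow_left (by omega) _
    _ ≤ (B + 1) ^ (D * D) := Nat.pow_le_pow_right (by omega) (Nat.mul_le_mul hD hD)

theorem omega_coe_injective {F : Type} [Field F] {ι : Type} [Fintype ι] [DecidableEq ι]
    (Q : (ι → F) → F) :
    Function.Injective (fun g : Cfsg.Omega F Q => (g.1.1 : Matrix ι ι F)) :=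
  fun _ _ h => Subtype.ext (Subtype.ext (Units.ext h))

end Bounds

/-- A non-trivial law is satisfied by only finitely many finite simple groups that are alternating or classical, up to isomorphism: for every non-trivial element w of the free group on countably many generators there is a bound N such that every alternating group of degree ≥ 5 and every simple classical group (linear, symplectic, unitary or orthogonal, in this problem's sense) in which w is a law has order at most N. -/
theorem result (w : FreeGroup ℕ) (hw : w ≠ 1) :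
    ∃ N : ℕ, ∀ (G : Type*) [Group G] [Finite G],
      (Cfsg.IsAlternating G ∨ Cfsg.IsPSL G ∨ Cfsg.IsPSp G ∨ Cfsg.IsPSU G ∨ Cfsg.IsPOmegaOdd G ∨
          Cfsg.IsPOmegaPlus G ∨ Cfsg.IsPOmegaMinus G) →
      (∀ f : ℕ → G, FreeGroup.lift f w = 1) → Nat.card G ≤ N := by
  classical
  obtain ⟨N₁, hsl⟩ := sl_witness w hw
  obtain ⟨N₂, halt⟩ := alt_nonlaw w hw
  obtain ⟨N₃, hsl2⟩ := sl2_nonlaw.{0} w hw
  let M := N₁ + N₂ + N₃ + 3
  let B := (M + 1) ^ 2
  let D := 2 * M + 3
  refine ⟨Nat.factorial M + (B + 1) ^ (D * D), fun G _ _ hG hlaw => ?_⟩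
  have key : Nat.card G ≤ Nat.factorial M ∨ Nat.card G ≤ (B + 1) ^ (D * D) := by
    have hB : M ≤ B := (Nat.le_succ M).trans (Nat.le_self_pow two_ne_zero _)
    rcases hG with h | h | h | h | h | h | h
    · obtain ⟨n, -, ⟨e⟩⟩ := h
      left
      by_contra hlt
      have hn : N₂ ≤ n := by
        by_contra hn
        apply hlt
        calc Nat.card G = Nat.card (alternatingGroup (Fin n)) := Nat.card_congr e.toEquiv
          _ ≤ Nat.card (Equiv.Perm (Fin n)) :=
            Nat.card_le_card_of_injective Subtype.val Subtype.val_injective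
          _ = n.factorial := by rw [Nat.card_eq_fintype_card, Fintype.card_perm, Fintype.card_fin]
          _ ≤ _ := Nat.factorial_le (by omega)
      obtain ⟨f, -, hf⟩ := halt n hn
      apply hf
      have h := congrArg e.toMonoidHom (hlaw fun i => e.symm (f i))
      rw [map_lift, map_one] at h
      simp only [MulEquiv.coe_toMonoidHom, MulEquiv.apply_symm_apply] at h
      exact lift_ext_eq_one _ w (by rw [h]; exact Subgroup.one_mem _)
    · obtain ⟨F, _, _, n, hn, -, ⟨e⟩⟩ := h
      right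
      by_contra hlt
      have hbig : N₁ ≤ n ∨ N₁ ≤ Fintype.card F := by
        by_contra hb
        apply hlt
        exact card_matrix_bound e (fun g => g.1) Subtype.val_injective B D
          (by omega) (by rw [Fintype.card_fin]; omega)
      obtain ⟨f, -, hf⟩ := hsl F n hn hbig
      exact hf (lift_ext_eq_one _ w (central_values e w hlaw f))
    · obtain ⟨F, _, _, n, hn, -, ⟨e⟩⟩ := h
      right
      by_contra hlt
      have hbig : N₁ ≤ n ∨ N₁ ≤ Fintype.card F := by
        by_contra hb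
        apply hlt
        exact card_matrix_bound e (fun g => g.1) Subtype.val_injective B D
          (by omega) (by simp; omega)
      obtain ⟨f, hc, hf⟩ := hsl F n hn hbig
      have hmem : ∀ A, dbl n F A ∈ Matrix.symplecticGroup (Fin n) F := by
        intro A
        rw [SymplecticGroup.mem_iff]
        show Matrix.fromBlocks A.1 0 0 (A⁻¹).1ᵀ * Matrix.J (Fin n) F *
          (Matrix.fromBlocks A.1 0 0 (A⁻¹).1ᵀ)ᵀ = Matrix.J (Fin n) F
        rw [Matrix.J, Matrix.fromBlocks_transpose, Matrix.fromBlocks_multiply,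
          Matrix.fromBlocks_multiply]
        simp [← Matrix.transpose_mul, Matrix.mul_adjugate, A.2]
      let φ := (dbl n F).codRestrict (Matrix.symplecticGroup (Fin n) F) hmem
      have hφ : Function.Injective φ := fun a b h => dbl_injective (congrArg Subtype.val h)
      exact not_mem_center_of_injective φ hφ f w hf (central_values e w hlaw _)
    · obtain ⟨F, _, _, n, q, hF, hn, -, ⟨e⟩⟩ := h
      right
      by_contra hlt
      have hbig : N₂ ≤ n ∨ N₃ + 1 ≤ q := by
        by_contra hb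
        apply hlt
        refine card_matrix_bound e (fun g => g.1.1)
          (fun a b h => Subtype.ext (Subtype.ext h)) B D ?_ (by rw [Fintype.card_fin]; omega)
        rw [hF]; exact Nat.pow_le_pow_left (by omega) 2
      rcases hbig with hb | hb
      · obtain ⟨f, -, hf⟩ := halt n hb
        have hmem : ∀ σ, altToSL n F σ ∈ Cfsg.SU n F q := by
          intro σ u v
          show Cfsg.hermForm n F q ((σ.1⁻¹).permMatrix F *ᵥ u) ((σ.1⁻¹).permMatrix F *ᵥ v) = _
          simp only [Cfsg.hermForm, Matrix.permMatrix_mulVec, Function.comp_apply]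
          exact Equiv.sum_comp (σ.1⁻¹) fun i => u i * v i ^ q
        let φ := (altToSL n F).codRestrict (Cfsg.SU n F q) hmem
        have hφ : Function.Injective φ := fun a b h => altToSL_injective (congrArg Subtype.val h)
        exact not_mem_center_of_injective φ hφ f w hf (central_values e w hlaw _)
      · obtain ⟨K, _, _, φ, hK, hφ⟩ := exists_sl2_in_SU (n := n) hF (by omega)
        obtain ⟨f, -, hf⟩ := hsl2 K (by omega)
        exact not_mem_center_of_injective φ hφ f w hf (central_values e w hlaw _)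
    · obtain ⟨F, _, _, n, hn, -, ⟨e⟩⟩ := h
      right
      by_contra hlt
      have hbig : N₁ ≤ n ∨ N₁ ≤ Fintype.card F := by
        by_contra hb
        apply hlt
        exact card_matrix_bound e _ (omega_coe_injective _) B D (by omega) (by simp; omega)
      obtain ⟨f, hc, hf⟩ := hsl F n (by omega) hbig
      obtain ⟨g, hg⟩ := omega_witness w (Cfsg.quadFormOdd n F)
        ((padLeft Unit (Fin n ⊕ Fin n) F).comp (dbl n F))
        (fun a b h => dbl_injective (Matrix.fromBlocks_inj.1 h).2.2.2) (fun k u => by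
          show Cfsg.quadFormOdd n F (Matrix.fromBlocks 1 0 0 (dbl n F k) *ᵥ u) = _
          have h2 := dbl_form k (u ∘ Sum.inr)
          simp only [Cfsg.quadFormPlus] at h2
          simp only [Cfsg.quadFormOdd, Matrix.fromBlocks_mulVec, Sum.elim_inl, Sum.elim_inr,
            Matrix.zero_mulVec, add_zero, zero_add, Matrix.one_mulVec, Function.comp_apply]
          exact congrArg (u (Sum.inl ()) ^ 2 + ·) h2) f hc hf
      exact hg (central_values e w hlaw g)
    · obtain ⟨F, _, _, n, hn, ⟨e⟩⟩ := h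
      right
      by_contra hlt
      have hbig : N₁ ≤ n ∨ N₁ ≤ Fintype.card F := by
        by_contra hb
        apply hlt
        exact card_matrix_bound e _ (omega_coe_injective _) B D (by omega) (by simp; omega)
      obtain ⟨f, hc, hf⟩ := hsl F n (by omega) hbig
      obtain ⟨g, hg⟩ := omega_witness w (Cfsg.quadFormPlus n F) (dbl n F) dbl_injective
        dbl_form f hc hf
      exact hg (central_values e w hlaw g)
    · obtain ⟨F, _, _, n, a, b, hn, -, ⟨e⟩⟩ := h
      right
      by_contra hlt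
      have hbig : N₁ ≤ n - 1 ∨ N₁ ≤ Fintype.card F := by
        by_contra hb
        apply hlt
        exact card_matrix_bound e _ (omega_coe_injective _) B D (by omega) (by simp; omega)
      obtain ⟨f, hc, hf⟩ := hsl F (n - 1) (by omega) hbig
      obtain ⟨g, hg⟩ := omega_witness w (Cfsg.quadFormMinus (n - 1) F a b)
        ((padRight (Fin (n - 1) ⊕ Fin (n - 1)) (Fin 2) F).comp (dbl (n - 1) F))
        (fun a b h => dbl_injective (Matrix.fromBlocks_inj.1 h).1) (fun k u => by
          show Cfsg.quadFormMinus (n - 1) F a b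
            (Matrix.fromBlocks (dbl (n - 1) F k) 0 0 1 *ᵥ u) = _
          have h2 := dbl_form k (u ∘ Sum.inl)
          simp only [Cfsg.quadFormPlus] at h2
          simp only [Cfsg.quadFormMinus, Matrix.fromBlocks_mulVec, Sum.elim_inl, Sum.elim_inr,
            Matrix.zero_mulVec, add_zero, zero_add, Matrix.one_mulVec, Function.comp_apply]
          exact congrArg (· + (u (Sum.inr 0) ^ 2 + a * u (Sum.inr 0) * u (Sum.inr 1) +
            b * u (Sum.inr 1) ^ 2)) h2) f hc hf
      exact hg (central_values e w hlaw g)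
  omega

end Cfsg.Agent.S2355
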