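import Cfsg.Statements.S2356
import Cfsg.Agent.Lib.SU3InvolGeom
-- import your own Cfsg.Agent.* helpers here

set_option autoImplicit false
open Cfsg

namespace Cfsg.Agent.S2356

open Cfsg.Agent.SU3InvolGeom Cfsg.Agent.OrthUnitaryHerm Matrix

/-- Let q be odd, F the field with q² elements, S = SU_3(F) (determinant-one isometries of the standard Hermitian form) and t an involution of S. Then: exactly q(q−1) involutions other than t commute with t; exactly q(q−2)(q²−1) involutions do not commute with t but commute with some involution commuting with t; exactly (q+1)(q²−1) involutions x do not commute with t and admit no involution commuting with both t and x; and every involution can be reached from t in at most three steps, each step going to an involution that commutes with the previous one (the commuting involution graph is connected of diameter 3). -/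
theorem result {F : Type*} [Field F] [Fintype F] {q : ℕ} (hq : Odd q)
    (hF : Fintype.card F = q ^ 2) (t : ↥(Cfsg.SU 3 F q)) (ht : t ≠ 1) (ht2 : t * t = 1) :
    Nat.card {x : ↥(Cfsg.SU 3 F q) // x ≠ 1 ∧ x * x = 1 ∧ x ≠ t ∧ Commute t x} = q * (q - 1) ∧
    Nat.card {x : ↥(Cfsg.SU 3 F q) // x ≠ 1 ∧ x * x = 1 ∧ ¬ Commute t x ∧
        ∃ y : ↥(Cfsg.SU 3 F q), y ≠ 1 ∧ y * y = 1 ∧ Commute t y ∧ Commute y x} = q * (q - 2) * (q ^ 2 - 1) ∧
    Nat.card {x : ↥(Cfsg.SU 3 F q) // x ≠ 1 ∧ x * x = 1 ∧ ¬ Commute t x ∧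
        ∀ y : ↥(Cfsg.SU 3 F q), y ≠ 1 → y * y = 1 → ¬ (Commute t y ∧ Commute y x)} = (q + 1) * (q ^ 2 - 1) ∧
    ∀ x : ↥(Cfsg.SU 3 F q), x ≠ 1 → x * x = 1 →
      ∃ y z : ↥(Cfsg.SU 3 F q), y ≠ 1 ∧ y * y = 1 ∧ z ≠ 1 ∧ z * z = 1 ∧
        Commute t y ∧ Commute y z ∧ Commute z x := by
  classical
  have h2 := two_ne_zero' hF hq
  have hq2 := two_le_q hF
  obtain ⟨u, hu, rfl⟩ := exists_eq_inv₃ hF hq t ht ht2
  obtain ⟨M, hM, hMu⟩ := exists_frame hF hu
  have hc : ∀ z, hermForm 3 F q z u = (M *ᵥ z) 0 := fun z => by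
    rw [← herm_single_right hF (0 : Fin 3) (M *ᵥ z), ← hMu, hM]
  let em : (Fin 3 → F) ≃ (Fin 3 → F) := Equiv.ofBijective (M *ᵥ ·)
    ⟨Matrix.mulVec_injective_iff_isUnit.2 (hM.isUnit hF), isU_surjective hF hM⟩
  have move : ∀ P Q : (Fin 3 → F) → Prop, (∀ v, hermForm 3 F q v v = 1 → (P v ↔ Q (M *ᵥ v))) →
      Nat.card {v // hermForm 3 F q v v = 1 ∧ P v} = Nat.card {v // hermForm 3 F q v v = 1 ∧ Q v} := by
    intro P Q h
    refine Nat.card_congr (em.subtypeEquiv fun v => ?_)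
    show _ ↔ hermForm 3 F q (M *ᵥ v) (M *ᵥ v) = 1 ∧ _
    rw [hM]
    exact and_congr_right (h v)
  have hline : ∀ v, v = hermForm 3 F q v u • u ↔ Fin.tail (M *ᵥ v) = 0 := by
    intro v
    rw [← (em.injective.eq_iff)]
    show M *ᵥ v = M *ᵥ (_ • u) ↔ _
    rw [mulVec_smul, hMu, hc]
    constructor
    · intro h; funext j; rw [Fin.tail, h]; simp [Fin.succ_ne_zero]
    · intro h; funext i
      refine Fin.cases ?_ (fun j => ?_) i
      · simp
      · simpa [Fin.tail, Fin.succ_ne_zero] using congrFun h j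
  have hy : ∀ v (hv : hermForm 3 F q v v = 1), ¬ Commute (inv₃ hF u hu) (inv₃ hF v hv) →
      ((∃ y : ↥(Cfsg.SU 3 F q), y ≠ 1 ∧ y * y = 1 ∧ Commute (inv₃ hF u hu) y ∧ Commute y (inv₃ hF v hv)) ↔
        hermForm 3 F q v u ^ (q + 1) ≠ 1) := by
    intro v hv hnc
    rw [commute_iff hF h2 hu hv, not_or] at hnc
    rw [← exists_orth hF hu hv hnc.2]
    constructor
    · rintro ⟨y, hy1, hy2, hyt, hyx⟩
      obtain ⟨w, hw, rfl⟩ := exists_eq_inv₃ hF hq y hy1 hy2
      rw [commute_iff hF h2 hu hw] at hyt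
      have hyx' := (commute_iff hF h2 hv hw).1 hyx.symm
      have hnu : w ≠ hermForm 3 F q w u • u := fun e => by
        rcases (commute_iff hF h2 hu hv).1 (by rw [← (eq_iff hF h2 hu hw).2 e]; exact hyx) with h | h
        · exact hnc.1 h
        · exact hnc.2 h
      have hnv : w ≠ hermForm 3 F q w v • v := fun e => by
        have h := (commute_iff hF h2 hu hw).2 hyt
        rw [(eq_iff hF h2 hv hw).2 e] at h
        rcases (commute_iff hF h2 hu hv).1 h with h | h
        · exact hnc.1 h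
        · exact hnc.2 h
      exact ⟨w, hw, hyt.resolve_right hnu, hyx'.resolve_right hnv⟩
    · rintro ⟨w, hw, hwu, hwv⟩
      exact ⟨_, inv₃_ne_one hF h2 hw, inv₃_sq hF hw, (commute_iff hF h2 hu hw).2 (Or.inl hwu),
        ((commute_iff hF h2 hv hw).2 (Or.inl hwv)).symm⟩
  refine ⟨?_, ?_, ?_, ?_⟩
  · have h := card_inv₃ hF hq (fun x => x ≠ inv₃ hF u hu ∧ Commute (inv₃ hF u hu) x)
      (fun v => hermForm 3 F q v u = 0) fun v hv => by
        rw [ne_eq, eq_iff hF h2 hu hv, commute_iff hF h2 hu hv]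
        constructor
        · rintro ⟨a, b⟩; exact b.resolve_right a
        · intro h; refine ⟨fun e => ?_, Or.inl h⟩
          rw [h, zero_smul] at e; simp [e, hermForm, zero_pow_q hF] at hv
    rw [move _ (fun w => w 0 = 0) (fun v _ => by rw [hc]), card_orth hF] at h
    refine Nat.eq_of_mul_eq_mul_left (Nat.succ_pos q) (h.trans ?_)
    have : 1 ≤ q ^ 2 := Nat.one_le_pow _ _ (by omega)
    zify [this, (by omega : 1 ≤ q)]; ring
  · have h := card_inv₃ hF hq (fun x => ¬ Commute (inv₃ hF u hu) x ∧ ∃ y : ↥(Cfsg.SU 3 F q),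
        y ≠ 1 ∧ y * y = 1 ∧ Commute (inv₃ hF u hu) y ∧ Commute y x)
      (fun v => hermForm 3 F q v u ≠ 0 ∧ hermForm 3 F q v u ^ (q + 1) ≠ 1) fun v hv => by
        constructor
        · rintro ⟨hnc, he⟩
          refine ⟨?_, (hy v hv hnc).1 he⟩
          rw [commute_iff hF h2 hu hv, not_or] at hnc
          exact hnc.1
        · rintro ⟨h0, h1⟩
          have hnc : ¬ Commute (inv₃ hF u hu) (inv₃ hF v hv) := by
            rw [commute_iff hF h2 hu hv, not_or]
            exact ⟨h0, fun e => h1 (norm_of_line hF hu hv e)⟩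
          exact ⟨hnc, (hy v hv hnc).2 h1⟩
    rw [move _ (fun w => w 0 ≠ 0 ∧ w 0 ^ (q + 1) ≠ 1) (fun v _ => by rw [hc]), card_secant hF] at h
    exact Nat.eq_of_mul_eq_mul_left (Nat.succ_pos q) h
  · have h := card_inv₃ hF hq (fun x => ¬ Commute (inv₃ hF u hu) x ∧ ∀ y : ↥(Cfsg.SU 3 F q),
        y ≠ 1 → y * y = 1 → ¬ (Commute (inv₃ hF u hu) y ∧ Commute y x))
      (fun v => hermForm 3 F q v u ^ (q + 1) = 1 ∧ v ≠ hermForm 3 F q v u • u) fun v hv => by
        constructor
        · rintro ⟨hnc, he⟩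
          refine ⟨?_, fun e => hnc ((commute_iff hF h2 hu hv).2 (Or.inr e))⟩
          by_contra h1
          obtain ⟨y, y1, y2, y3, y4⟩ := (hy v hv hnc).2 h1
          exact he y y1 y2 ⟨y3, y4⟩
        · rintro ⟨h1, hne⟩
          have hnc : ¬ Commute (inv₃ hF u hu) (inv₃ hF v hv) := by
            rw [commute_iff hF h2 hu hv, not_or]
            exact ⟨fun e => by simp [e] at h1, hne⟩
          exact ⟨hnc, fun y y1 y2 hy' => (hy v hv hnc).1 ⟨y, y1, y2, hy'.1, hy'.2⟩ h1⟩
    rw [move _ (fun w => w 0 ^ (q + 1) = 1 ∧ Fin.tail w ≠ 0)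
      (fun v _ => by rw [hc, ne_eq, ← hc v, hline, hc]), card_tangent_ne hF] at h
    exact Nat.eq_of_mul_eq_mul_left (Nat.succ_pos q) h
  · intro x hx hx2
    obtain ⟨v, hv, rfl⟩ := exists_eq_inv₃ hF hq x hx hx2
    by_cases hcx : Commute (inv₃ hF u hu) (inv₃ hF v hv)
    · exact ⟨_, _, ht, ht2, ht, ht2, Commute.refl _, Commute.refl _, hcx⟩
    by_cases hne1 : hermForm 3 F q v u ^ (q + 1) ≠ 1
    · obtain ⟨y, y1, y2, y3, y4⟩ := (hy v hv hcx).2 hne1
      exact ⟨y, y, y1, y2, y1, y2, y3, Commute.refl _, y4⟩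
    push Not at hne1
    rw [commute_iff hF h2 hu hv, not_or] at hcx
    -- a point on the polar of `u` spanning a non-degenerate line with `v`
    obtain ⟨w, hw, hwu, hwv⟩ : ∃ w, hermForm 3 F q w w = 1 ∧ hermForm 3 F q w u = 0 ∧
        hermForm 3 F q v w ^ (q + 1) ≠ 1 := by
      have hb : ∃ j : Fin 3, j ≠ 0 ∧ (M *ᵥ v) j ^ (q + 1) ≠ 1 := by
        by_contra hno
        push Not at hno
        have h : hermForm 3 F q (M *ᵥ v) (M *ᵥ v) = 1 := by rw [hM, hv]
        have h0 : (M *ᵥ v) 0 ^ (q + 1) = 1 := by rw [← hc]; exact hne1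
        simp only [hermForm, Fin.sum_univ_three, ← pow_succ', h0, hno 1 (by decide),
          hno 2 (by decide)] at h
        apply h2
        linear_combination h
      obtain ⟨j, hj, hj1⟩ := hb
      obtain ⟨w, hw'⟩ := isU_surjective hF hM (Pi.single j 1)
      replace hw' : M *ᵥ w = Pi.single j 1 := hw'
      refine ⟨w, ?_, ?_, ?_⟩
      · rw [← hM, hw', herm_single_right hF]; simp
      · rw [hc, hw', Pi.single_eq_of_ne hj.symm]
      · rw [← hM, hw', herm_single_right hF]; exact hj1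
    obtain ⟨z, hz, hzw, hzv⟩ := (exists_orth hF hw hv
      (fun e => hwv (norm_of_line hF hw hv e))).2 hwv
    exact ⟨inv₃ hF w hw, inv₃ hF z hz, inv₃_ne_one hF h2 hw, inv₃_sq hF hw, inv₃_ne_one hF h2 hz,
      inv₃_sq hF hz, (commute_iff hF h2 hu hw).2 (Or.inl hwu), (commute_iff hF h2 hw hz).2 (Or.inl hzw),
      ((commute_iff hF h2 hv hz).2 (Or.inl hzv)).symm⟩

end Cfsg.Agent.S2356
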