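import Cfsg.Statements.S2360
import Cfsg.Agent.Lib.SU3InvolGeom
-- import your own Cfsg.Agent.* helpers here

set_option autoImplicit false
open Cfsg

namespace Cfsg.Agent.S2360

open Cfsg.Agent.SU3InvolGeom Cfsg.Agent.OrthUnitaryHerm Matrix

/-- Let q be odd, F the field with q² elements and S = SU_3(F) (determinant-one isometries of the standard Hermitian form). Then all involutions of S are conjugate; there are exactly q²(q²−q+1) of them; the centralizer of an involution has order q(q+1)(q²−1), the order of the full unitary group of degree 2; and for two distinct commuting involutions t and x there is exactly one further involution commuting with both. -/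
theorem result {F : Type*} [Field F] [Fintype F] {q : ℕ} (hq : Odd q)
    (hF : Fintype.card F = q ^ 2) (t : ↥(Cfsg.SU 3 F q)) (ht : t ≠ 1) (ht2 : t * t = 1) :
    (∀ x : ↥(Cfsg.SU 3 F q), x ≠ 1 → x * x = 1 → ∃ g : ↥(Cfsg.SU 3 F q), g * t * g⁻¹ = x) ∧
    Nat.card {x : ↥(Cfsg.SU 3 F q) // x ≠ 1 ∧ x * x = 1} = q ^ 2 * (q ^ 2 - q + 1) ∧
    Nat.card ↥(Subgroup.centralizer ({t} : Set ↥(Cfsg.SU 3 F q))) = q * (q + 1) * (q ^ 2 - 1) ∧
    ∀ x : ↥(Cfsg.SU 3 F q), x ≠ 1 → x * x = 1 → x ≠ t → Commute t x →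
      Nat.card {y : ↥(Cfsg.SU 3 F q) // y ≠ 1 ∧ y * y = 1 ∧ y ≠ t ∧ y ≠ x ∧ Commute t y ∧ Commute x y} = 1 := by
  classical
  have h2 := two_ne_zero' hF hq
  have hq2 := two_le_q hF
  obtain ⟨u, hu, rfl⟩ := exists_eq_inv₃ hF hq t ht ht2
  have hcj : ∀ x : ↥(Cfsg.SU 3 F q), x ≠ 1 → x * x = 1 → ∃ g : ↥(Cfsg.SU 3 F q), g * inv₃ hF u hu * g⁻¹ = x := by
    intro x hx hx2
    obtain ⟨v, hv, rfl⟩ := exists_eq_inv₃ hF hq x hx hx2
    exact conj_inv₃ hF h2 hu hv
  have hcount : Nat.card {x : ↥(Cfsg.SU 3 F q) // x ≠ 1 ∧ x * x = 1} = q ^ 2 * (q ^ 2 - q + 1) := by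
    have h := card_inv₃ hF hq (fun _ => True) (fun _ => True) (fun _ _ => Iff.rfl)
    simp only [and_true] at h
    rw [three_norm_one hF] at h
    refine Nat.eq_of_mul_eq_mul_left (Nat.succ_pos q) (h.trans ?_)
    have : q ≤ q ^ 2 := Nat.le_self_pow two_ne_zero q
    zify [this]; ring
  refine ⟨hcj, hcount, ?_, ?_⟩
  · set t := inv₃ hF u hu
    set C := Subgroup.centralizer ({t} : Set ↥(Cfsg.SU 3 F q))
    let f : ↥(Cfsg.SU 3 F q) → {x : ↥(Cfsg.SU 3 F q) // x ≠ 1 ∧ x * x = 1} := fun g =>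
      ⟨g * t * g⁻¹, by simp [conj_eq_one_iff, ht],
        by rw [show g * t * g⁻¹ * (g * t * g⁻¹) = g * (t * t) * g⁻¹ by group, ht2, mul_one, mul_inv_cancel]⟩
    have h := card_eq_card_mul_card_fibre f ⟨t, ht, ht2⟩ fun x => by
      obtain ⟨k, hk⟩ := hcj x.1 x.2.1 x.2.2
      refine ⟨k, fun g => ?_⟩
      rw [Subtype.ext_iff (a1 := f (k * g)), Subtype.ext_iff (a1 := f g)]
      show k * g * t * (k * g)⁻¹ = (x : ↥(Cfsg.SU 3 F q)) ↔ g * t * g⁻¹ = t
      rw [← hk, show k * g * t * (k * g)⁻¹ = k * (g * t * g⁻¹) * k⁻¹ by group, mul_left_inj,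
        mul_right_inj]
    have hC : Nat.card {g // f g = ⟨t, ht, ht2⟩} = Nat.card C := by
      refine Nat.card_congr (Equiv.subtypeEquivRight fun g => ?_)
      simp [f, C, Subgroup.mem_centralizer_singleton_iff, mul_inv_eq_iff_eq_mul]
    rw [hcount, hC] at h
    have hGU := card_GU_eq_mul_card_SU (n := 3) hF (by norm_num)
    rw [card_GU hF, h] at hGU
    simp [Finset.prod_range_succ, -Nat.card_eq_fintype_card] at hGU
    have : q ≤ q ^ 2 := Nat.le_self_pow two_ne_zero q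
    have h1 : 1 ≤ q ^ 2 := Nat.one_le_pow _ _ (by omega)
    have hpos : 0 < (q + 1) * (q ^ 2 * (q ^ 2 - q + 1)) := by
      refine Nat.mul_pos (by omega) (Nat.mul_pos (by omega) (by omega))
    refine Nat.eq_of_mul_eq_mul_left hpos ?_
    rw [mul_assoc, hGU]
    zify [this, h1]; ring
  · intro x hx hx2 hxt hcx
    obtain ⟨v, hv, rfl⟩ := exists_eq_inv₃ hF hq x hx hx2
    have hne : v ≠ hermForm 3 F q v u • u := fun e => hxt ((eq_iff hF h2 hu hv).2 e)
    have hvu : hermForm 3 F q v u = 0 := ((commute_iff hF h2 hu hv).1 hcx).resolve_right hne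
    obtain ⟨w, hw, hwu, hwv⟩ := (exists_orth hF hu hv hne).2 (by
      rw [hvu, zero_pow (Nat.succ_ne_zero q)]; exact zero_ne_one)
    have huv : hermForm 3 F q u v = 0 := by rw [herm_conj hF v u, hvu, zero_pow_q hF]
    -- an orthogonal vector is on the line of `w`
    have key : ∀ (y : Fin 3 → F) (hy : hermForm 3 F q y y = 1), hermForm 3 F q y u = 0 →
        hermForm 3 F q y v = 0 → inv₃ hF y hy = inv₃ hF w hw := by
      intro y hy hyu hyv
      obtain ⟨M, hM, hMu⟩ := exists_frame hF hu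
      have hc : ∀ z, hermForm 3 F q z u = (M *ᵥ z) 0 := fun z => by
        rw [← herm_single_right hF (0 : Fin 3) (M *ᵥ z), ← hMu, hM]
      rw [eq_iff hF h2 hw hy]
      apply Matrix.mulVec_injective_iff_isUnit.2 (hM.isUnit hF)
      show M *ᵥ y = M *ᵥ (_ • w)
      rw [mulVec_smul]
      have a0 : (M *ᵥ y) 0 = 0 := by rw [← hc, hyu]
      have b0 : (M *ᵥ v) 0 = 0 := by rw [← hc, hvu]
      have c0 : (M *ᵥ w) 0 = 0 := by rw [← hc, hwu]
      have e1 : hermForm 3 F q (M *ᵥ v) (M *ᵥ v) = 1 := by rw [hM, hv]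
      have e2 : hermForm 3 F q (M *ᵥ y) (M *ᵥ v) = 0 := by rw [hM, hyv]
      have e3 : hermForm 3 F q (M *ᵥ w) (M *ᵥ v) = 0 := by rw [hM, hwv]
      have e4 : hermForm 3 F q (M *ᵥ w) (M *ᵥ w) = 1 := by rw [hM, hw]
      rw [← hM y w]
      simp only [hermForm, Fin.sum_univ_three, a0, b0, c0, zero_mul, zero_add] at e1 e2 e3 e4 ⊢
      set a := M *ᵥ y
      set b := M *ᵥ v
      set c := M *ᵥ w
      have d2 : (a 1 * c 2 - a 2 * c 1) * b 2 ^ q = 0 := by linear_combination a 1 * e3 - c 1 * e2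
      have d1 : (a 1 * c 2 - a 2 * c 1) * b 1 ^ q = 0 := by linear_combination c 2 * e2 - a 2 * e3
      have d : a 1 * c 2 - a 2 * c 1 = 0 := by
        linear_combination b 1 * d1 + b 2 * d2 - (a 1 * c 2 - a 2 * c 1) * e1
      funext i
      fin_cases i
      · simp [a0, c0]
      · simp
        linear_combination (-(a 1)) * e4 + c 2 ^ q * d
      · simp
        linear_combination (-(a 2)) * e4 - c 1 ^ q * d
    refine Nat.card_eq_one_iff_unique.2 ⟨⟨?_⟩, ⟨⟨inv₃ hF w hw, inv₃_ne_one hF h2 hw, inv₃_sq hF hw, ?_, ?_, ?_, ?_⟩⟩⟩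
    · rintro ⟨a, ha⟩ ⟨b, hb⟩
      have : ∀ z : ↥(Cfsg.SU 3 F q), (z ≠ 1 ∧ z * z = 1 ∧ z ≠ inv₃ hF u hu ∧ z ≠ inv₃ hF v hv ∧
          Commute (inv₃ hF u hu) z ∧ Commute (inv₃ hF v hv) z) → z = inv₃ hF w hw := by
        rintro z ⟨hz, hz2, hzt, hzx, hzt', hzx'⟩
        obtain ⟨y, hy, rfl⟩ := exists_eq_inv₃ hF hq z hz hz2
        exact key y hy
          (((commute_iff hF h2 hu hy).1 hzt').resolve_right fun e => hzt ((eq_iff hF h2 hu hy).2 e))
          (((commute_iff hF h2 hv hy).1 hzx').resolve_right fun e => hzx ((eq_iff hF h2 hv hy).2 e))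
      exact Subtype.ext ((this a ha).trans (this b hb).symm)
    · intro e; have := (eq_iff hF h2 hu hw).1 e; rw [hwu, zero_smul] at this
      simp [this, hermForm, zero_pow_q hF] at hw
    · intro e; have := (eq_iff hF h2 hv hw).1 e; rw [hwv, zero_smul] at this
      simp [this, hermForm, zero_pow_q hF] at hw
    · exact (commute_iff hF h2 hu hw).2 (Or.inl hwu)
    · exact (commute_iff hF h2 hv hw).2 (Or.inl hwv)

end Cfsg.Agent.S2360
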