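import Cfsg.Statements.S2362
import Mathlib
import Cfsg.Agent.Lib.OrthTorusSpinor
import Cfsg.Agent.Lib.SymplecticNotOrth
import Cfsg.Agent.Lib.OrthUnitaryStd
import Cfsg.Agent.Lib.SpectrumPSp61

set_option autoImplicit false
open Cfsg

namespace Cfsg.Agent.S2362

/-- Let F be a finite field of odd order and n ≥ 3. The simple orthogonal group PΩ(2n+1, F) (type B_n) and the projective symplectic group PSp(2n, F) (type C_n), which have the same order, do not have the same set of element orders. -/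
theorem result {F : Type*} [Field F] [Fintype F] (hodd : Odd (Fintype.card F)) (n : ℕ) (hn : 3 ≤ n) :
    Set.range (orderOf : Cfsg.POmega F (Cfsg.quadFormOdd n F) → ℕ) ≠ Set.range (orderOf : Cfsg.PSp n F → ℕ) := by
  have hodd' : (2 : F) ≠ 0 := SpectrumPSp61.two_ne_zero' hodd
  obtain ⟨p, hp⟩ := CharP.exists F
  obtain ⟨f, hpp, hf⟩ := FiniteField.card F p
  haveI := Fact.mk hpp
  obtain ⟨x, hx⟩ := SpectrumPSp61.exists_pair (n := n) (F := F) hodd (d := n - 1) (m := 1) (p := p) (f := 1)
    (by omega) (by omega) le_rfl (by norm_num) true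
  rw [SpectrumPSp61.two_mul_halfTorus _ hodd, if_pos rfl, pow_one, mul_comm] at hx
  intro heq
  obtain ⟨y, hy⟩ : orderOf x ∈ Set.range (orderOf : Cfsg.POmega F (Cfsg.quadFormOdd n F) → ℕ) := heq ▸ ⟨x, rfl⟩
  obtain ⟨g, rfl⟩ := QuotientGroup.mk_surjective y
  let Q := SymplecticNotOrth.qfOdd F n
  let e := OrthUnitaryQuad.isometryGroupEquiv Q (Cfsg.quadFormOdd n F) SymplecticNotOrth.qfOdd_apply
  have hreg : OrthUnitaryQuad.IsReg Q :=
    OrthUnitaryOmega.isReg_of_nondegenerate (OrthUnitaryStd.nondegenerate_congr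
      (OrthUnitaryForms.eqOdd (F := F) n)
      (fun v => by simp [Q, SymplecticNotOrth.qfOdd])
      (OrthUnitaryStd.nondegenerate_withBase (OrthUnitaryStd.nondegenerate_qfSq hodd') n))
  refine OrthTorusSpinor.not_dvd_orderOf hodd' (p := p) (m := n - 1) (by omega) ?_ Q hreg (e g.1)
    ((OrthUnitaryOmega.mem_commutator_iff e g.1).1 g.2) ?_
  · rw [Module.finrank_pi]
    simp only [Fintype.card_sum, Fintype.card_unit, Fintype.card_fin]
    omega
  · rw [MulEquiv.orderOf_eq, Subgroup.orderOf_coe]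
    exact hx.trans (hy ▸ orderOf_map_dvd (QuotientGroup.mk' _) g)

end Cfsg.Agent.S2362
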