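import Cfsg.Statements.S2363
import Mathlib
import Cfsg.Prelude.Def_LieTypeChar
import Cfsg.Agent.S0243
import Cfsg.Agent.S0245
import Cfsg.Agent.S0246
import Cfsg.Agent.S0280
import Cfsg.Agent.S0292
import Cfsg.Agent.S0293
import Cfsg.Agent.S0294
import Cfsg.Agent.S0324
import Cfsg.Agent.S1059
import Cfsg.Agent.S1062
import Cfsg.Agent.S1063
import Cfsg.Agent.S1064
import Cfsg.Agent.S1065
import Cfsg.Agent.S1066
import Cfsg.Agent.S1067
import Cfsg.Agent.S1068
import Cfsg.Agent.S1069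
import Cfsg.Agent.Lib.SuzukiGroupLie
-- import your own Cfsg.Agent.* helpers here

set_option autoImplicit false
open Cfsg

namespace Cfsg.Agent.S2363



theorem not_dvd_of_dvd_pred {p d N : ℕ} (hp : p.Prime) (hN : p ∣ N) (hN0 : 1 ≤ N) (hd : d ∣ N - 1) : ¬ p ∣ d := by
  intro h
  have h1 := Nat.dvd_sub hN (h.trans hd)
  rw [Nat.sub_sub_self hN0] at h1
  exact hp.one_lt.ne' (Nat.dvd_one.mp h1)

theorem not_dvd_of_dvd_succ {p d N : ℕ} (hp : p.Prime) (hN : p ∣ N) (hd : d ∣ N + 1) : ¬ p ∣ d := by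
  intro h
  exact hp.one_lt.ne' (Nat.dvd_one.mp ((Nat.dvd_add_right hN).mp (h.trans hd)))

theorem prod_sub_lt {q : ℕ} (hq : 2 ≤ q) (a : ℕ → ℕ) (ha : ∀ j, 1 ≤ a j) {m : ℕ} (hm : 1 ≤ m) :
    ∏ j ∈ Finset.range m, (q ^ a j - 1) < q ^ ∑ j ∈ Finset.range m, a j := by
  rw [← Finset.prod_pow_eq_pow_sum]
  refine Finset.prod_lt_prod_of_nonempty (fun j _ => ?_) (fun j _ => ?_) ⟨0, Finset.mem_range.mpr hm⟩
  · have := Nat.one_lt_pow (n := a j) (by have := ha j; omega) (show 1 < q by omega)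
    omega
  · have := Nat.pow_pos (n := a j) (show 0 < q by omega)
    omega

theorem sum_add_two (m : ℕ) : 2 * ∑ j ∈ Finset.range m, (j + 2) = m * (m + 3) := by
  induction m with
  | zero => simp
  | succ m ih => rw [Finset.sum_range_succ, mul_add, ih]; ring

theorem sum_even (m : ℕ) : ∑ j ∈ Finset.range m, 2 * (j + 1) = m * (m + 1) := by
  induction m with
  | zero => simp
  | succ m ih => rw [Finset.sum_range_succ, ih]; ring

theorem pair_lt {q : ℕ} (hq : 2 ≤ q) {b : ℕ} (hb : 1 ≤ b) : (q ^ b - 1) * (q ^ (b + 1) + 1) < q ^ b * q ^ (b + 1) := by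
  have h1 : 2 ≤ q ^ b := le_trans hq (Nat.le_self_pow (by omega) q)
  obtain ⟨c, hc⟩ : ∃ c, q ^ b = c + 1 := ⟨q ^ b - 1, by omega⟩
  rw [pow_succ, hc, Nat.add_sub_cancel]
  nlinarith

theorem alt_even {q : ℕ} (hq : 2 ≤ q) : ∀ a : ℕ,
    ∏ j ∈ Finset.range (2 * a), (if Even (j + 1) then q ^ (j + 2) + 1 else q ^ (j + 2) - 1) ≤
      q ^ ∑ j ∈ Finset.range (2 * a), (j + 2) ∧ (1 ≤ a →
    ∏ j ∈ Finset.range (2 * a), (if Even (j + 1) then q ^ (j + 2) + 1 else q ^ (j + 2) - 1) <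
      q ^ ∑ j ∈ Finset.range (2 * a), (j + 2))
  | 0 => by simp
  | a + 1 => by
    have ih := (alt_even hq a).1
    have h1 : ¬ Even (2 * a + 1) := by simp [parity_simps]
    have h2 : Even (2 * a + 1 + 1) := by simp [parity_simps]
    have h := pair_lt hq (b := 2 * a + 2) (by omega)
    have key : ∏ j ∈ Finset.range (2 * (a + 1)), (if Even (j + 1) then q ^ (j + 2) + 1 else q ^ (j + 2) - 1) <
        q ^ ∑ j ∈ Finset.range (2 * (a + 1)), (j + 2) := by
      rw [show 2 * (a + 1) = 2 * a + 1 + 1 by ring, Finset.prod_range_succ, Finset.prod_range_succ,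
        Finset.sum_range_succ, Finset.sum_range_succ, if_neg h1, if_pos h2, mul_assoc, add_assoc (∑ j ∈ Finset.range (2 * a), (j + 2)), pow_add q (∑ j ∈ Finset.range (2 * a), (j + 2))]
      refine Nat.mul_lt_mul_of_le_of_lt ih ?_ (Nat.pow_pos (by omega))
      rw [pow_add q (2 * a + 2), show 2 * a + 1 + 2 = 2 * a + 2 + 1 by ring]
      exact h
    exact ⟨key.le, fun _ => key⟩

/-- the alternating product of the order of `PSU` -/
theorem alt_lt {q : ℕ} (hq : 2 ≤ q) {m : ℕ} (hm : 1 ≤ m) :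
    ∏ j ∈ Finset.range m, (if Even (j + 1) then q ^ (j + 2) + 1 else q ^ (j + 2) - 1) <
      q ^ ∑ j ∈ Finset.range m, (j + 2) := by
  rcases Nat.even_or_odd' m with ⟨a, rfl | rfl⟩
  · exact (alt_even hq a).2 (by omega)
  · have h1 : ¬ Even (2 * a + 1) := by simp [parity_simps]
    rw [Finset.prod_range_succ, Finset.sum_range_succ, if_neg h1, pow_add q (∑ j ∈ Finset.range (2 * a), (j + 2))]
    refine Nat.mul_lt_mul_of_le_of_lt (alt_even hq a).1 ?_ (Nat.pow_pos (by omega))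
    have := Nat.pow_pos (n := 2 * a + 2) (show 0 < q by omega)
    omega


/-- the conclusion -/
def Bound (p : ℕ) (G : Type*) [Group G] : Prop :=
  Nat.card G < p ^ (3 * (Nat.card G).factorization p) ∧
    Nat.card G ^ 3 < p ^ (8 * (Nat.card G).factorization p)

theorem bound_core {G : Type*} [Group G] [Finite G] {p f N d Y : ℕ} (hp : p.Prime) (hN : ¬ p ∣ d)
    (hd : d * Nat.card G = (p ^ f) ^ N * Y) (hY : Y ^ 3 < (p ^ f) ^ (5 * N)) : Bound p G := by
  unfold Bound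
  set n := Nat.card G
  have hn : n ≠ 0 := Nat.card_pos.ne'
  have hk : f * N ≤ n.factorization p := by
    refine (hp.pow_dvd_iff_le_factorization hn).mp ?_
    refine (Nat.Coprime.pow_left _ ((hp.coprime_iff_not_dvd).mpr hN)).dvd_of_dvd_mul_left (k := p ^ (f * N)) ?_
    rw [hd, pow_mul]
    exact dvd_mul_right _ _
  have hd1 : 1 ≤ d := Nat.one_le_iff_ne_zero.mpr fun h => hN (h ▸ dvd_zero p)
  have h1 : n ≤ (p ^ f) ^ N * Y := hd ▸ Nat.le_mul_of_pos_left n hd1
  have h2 : n ^ 3 < p ^ (8 * n.factorization p) := calc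
    n ^ 3 ≤ ((p ^ f) ^ N) ^ 3 * Y ^ 3 := by rw [← mul_pow]; exact Nat.pow_le_pow_left h1 3
    _ < ((p ^ f) ^ N) ^ 3 * (p ^ f) ^ (5 * N) :=
      Nat.mul_lt_mul_of_pos_left hY (pow_pos (pow_pos (pow_pos hp.pos _) _) _)
    _ = p ^ (8 * (f * N)) := by simp only [← pow_mul, ← pow_add]; ring_nf
    _ ≤ p ^ (8 * n.factorization p) := Nat.pow_le_pow_right hp.pos (by omega)
  refine ⟨?_, h2⟩
  refine lt_of_pow_lt_pow_left₀ 3 (Nat.zero_le _) (h2.trans_le ?_)
  rw [← pow_mul]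
  exact Nat.pow_le_pow_right hp.pos (by omega)

theorem bound_of_exp {G : Type*} [Group G] [Finite G] {p f N d Y e : ℕ} (hp : p.Prime) (hN : ¬ p ∣ d)
    (hd : d * Nat.card G = (p ^ f) ^ N * Y) (hY : Y < (p ^ f) ^ e) (he : 3 * e ≤ 5 * N) : Bound p G := by
  refine bound_core hp hN hd ((Nat.pow_lt_pow_left hY (by norm_num)).trans_le ?_)
  rw [← pow_mul]
  exact Nat.pow_le_pow_right (pow_pos hp.pos _) (by omega)

theorem exists_exp (F : Type*) [Field F] [Fintype F] (p : ℕ) [CharP F p] :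
    ∃ f : ℕ, 1 ≤ f ∧ Fintype.card F = p ^ f ∧ p.Prime := by
  obtain ⟨f, hp, hf⟩ := FiniteField.card F p
  exact ⟨f, f.2, hf, hp⟩

theorem exists_root (F : Type*) [Field F] [Fintype F] (p : ℕ) [CharP F p] {q k : ℕ} (hk : k ≠ 0)
    (h : Fintype.card F = q ^ k) : ∃ f : ℕ, 1 ≤ f ∧ q = p ^ f := by
  obtain ⟨n, hn, hc, hp⟩ := exists_exp F p
  have h1 : q ∣ p ^ n := by rw [← hc, h]; exact dvd_pow_self q hk
  obtain ⟨f, -, rfl⟩ := (Nat.dvd_prime_pow hp).mp h1
  refine ⟨f, Nat.one_le_iff_ne_zero.mpr fun hf => ?_, rfl⟩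
  subst hf
  have := Fintype.one_lt_card (α := F)
  simp [h] at this

theorem dvd_q {p f k : ℕ} (hf : 1 ≤ f) (hk : 1 ≤ k) : p ∣ (p ^ f) ^ k := by
  rw [← pow_mul]
  exact dvd_pow_self p (by positivity)

theorem two_le {p f : ℕ} (hp : p.Prime) (hf : 1 ≤ f) : 2 ≤ p ^ f :=
  hp.two_le.trans (Nat.le_self_pow (by omega) p)

theorem gcd_pred {p f : ℕ} (hp : p.Prime) (hf : 1 ≤ f) (c : ℕ) : ¬ p ∣ Nat.gcd c (p ^ f - 1) :=
  not_dvd_of_dvd_pred hp (dvd_pow_self p (by omega)) (Nat.one_le_pow _ _ hp.pos) (Nat.gcd_dvd_right _ _)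

theorem congr_bound {G H : Type*} [Group G] [Group H] {p : ℕ} (e : G ≃* H) (h : Bound p H) : Bound p G := by
  rw [Bound, Nat.card_congr e.toEquiv]; exact h

/-! ### classical groups -/

theorem psl_split {q m : ℕ} :
    ∏ i : Fin (m + 1), (q ^ (m + 1) - q ^ (i : ℕ)) =
      (q - 1) * (q ^ ((m + 1) * m / 2) * ∏ j ∈ Finset.range m, (q ^ (j + 2) - 1)) := by
  have h1 : ∀ i ∈ Finset.range (m + 1), q ^ (m + 1) - q ^ i = q ^ i * (q ^ (m + 1 - 1 - i + 1) - 1) := by
    intro i hi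
    have := Finset.mem_range.mp hi
    rw [Nat.mul_sub, mul_one, ← pow_add]
    congr 2
    omega
  rw [Fin.prod_univ_eq_prod_range (fun i => q ^ (m + 1) - q ^ i) (m + 1), Finset.prod_congr rfl h1,
    Finset.prod_mul_distrib, Finset.prod_pow_eq_pow_sum, Finset.sum_range_id,
    Finset.prod_range_reflect (fun j => q ^ (j + 1) - 1) (m + 1), Finset.prod_range_succ', pow_one,
    Nat.add_sub_cancel]
  ring

theorem psl {p : ℕ} {F : Type} [Field F] [Fintype F] [CharP F p] {n : ℕ} (hn : 3 ≤ n) :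
    Bound p (Matrix.ProjectiveSpecialLinearGroup (Fin n) F) := by
  obtain ⟨f, hf, hF, hp⟩ := exists_exp F p
  have hq := two_le hp hf
  have h := S0243.result hF n (by omega)
  obtain ⟨m, rfl⟩ : ∃ m, n = m + 1 := ⟨n - 1, by omega⟩
  rw [psl_split, mul_left_comm, Nat.mul_right_inj (by omega)] at h
  refine bound_of_exp hp (gcd_pred hp hf _) h (prod_sub_lt hq (fun j => j + 2) (fun _ => by omega) (by omega)) ?_
  have hs := sum_add_two m
  have h2 : 2 * ((m + 1) * m / 2) = (m + 1) * m :=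
    Nat.mul_div_cancel' (by rw [mul_comm]; exact (Nat.even_mul_succ_self m).two_dvd)
  nlinarith

theorem psu {p : ℕ} {F : Type} [Field F] [Fintype F] [CharP F p] {n q : ℕ} (hn : 3 ≤ n)
    (hF : Fintype.card F = q ^ 2) : Bound p (Cfsg.PSU n F q) := by
  obtain ⟨f, hf, rfl⟩ := exists_root F p two_ne_zero hF
  obtain ⟨-, -, -, hp⟩ := exists_exp F p
  have hq := two_le hp hf
  have h := S0280.result hF n (by omega)
  obtain ⟨m, rfl⟩ : ∃ m, n = m + 1 := ⟨n - 1, by omega⟩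
  rw [Finset.prod_range_succ', if_pos (by simp), zero_add, pow_one, mul_left_comm,
    ← mul_assoc _ (∏ _x ∈ Finset.range m, _), mul_comm _ (p ^ f + 1), Nat.mul_right_inj (by omega)] at h
  have hd : ¬ p ∣ Nat.gcd (m + 1) (p ^ f + 1) :=
    not_dvd_of_dvd_succ hp (dvd_pow_self p (by omega)) (Nat.gcd_dvd_right _ _)
  refine bound_of_exp hp hd h (alt_lt hq (m := m) (by omega)) ?_
  have hs := sum_add_two m
  have h2 : 2 * ((m + 1) * (m + 1 - 1) / 2) = (m + 1) * m := by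
    rw [Nat.add_sub_cancel]; exact Nat.mul_div_cancel' (by rw [mul_comm]; exact (Nat.even_mul_succ_self m).two_dvd)
  nlinarith

theorem psp {p : ℕ} {F : Type} [Field F] [Fintype F] [CharP F p] {m : ℕ} (hm : 2 ≤ m) :
    Bound p (Cfsg.PSp m F) := by
  obtain ⟨f, hf, hF, hp⟩ := exists_exp F p
  have hq := two_le hp hf
  have h1 := S0245.result hF m
  have h2 := S0246.result hF m (by omega)
  have h3 := Subgroup.card_eq_card_quotient_mul_card_subgroup (Subgroup.center (Matrix.symplecticGroup (Fin m) F))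
  rw [h1, h2] at h3
  refine bound_of_exp hp (gcd_pred hp hf _) ((mul_comm _ _).trans h3.symm)
    (prod_sub_lt hq (fun j => 2 * (j + 1)) (fun _ => by omega) (by omega)) ?_
  rw [sum_even]
  nlinarith

theorem pomega_odd {p : ℕ} {F : Type} [Field F] [Fintype F] [CharP F p] {m : ℕ} (hm : 3 ≤ m)
    (ho : Odd (Fintype.card F)) : Bound p (Cfsg.POmega F (Cfsg.quadFormOdd m F)) := by
  obtain ⟨f, hf, hF, hp⟩ := exists_exp F p
  have hq := two_le hp hf
  have hd : ¬ p ∣ 2 := by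
    intro h
    obtain rfl := (Nat.prime_dvd_prime_iff_eq hp Nat.prime_two).mp h
    rw [hF, Nat.odd_pow_iff (by omega)] at ho
    exact absurd ho (by decide)
  refine bound_of_exp hp hd (S0292.result hF (hF ▸ ho) m hm)
    (prod_sub_lt hq (fun j => 2 * (j + 1)) (fun _ => by omega) (by omega)) ?_
  rw [sum_even]
  nlinarith

theorem pomega_plus {p : ℕ} {F : Type} [Field F] [Fintype F] [CharP F p] {m : ℕ} (hm : 4 ≤ m) :
    Bound p (Cfsg.POmega F (Cfsg.quadFormPlus m F)) := by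
  obtain ⟨f, hf, hF, hp⟩ := exists_exp F p
  have hq := two_le hp hf
  have h := S0293.result hF m hm
  rw [mul_assoc] at h
  have hd : ¬ p ∣ Nat.gcd 4 ((p ^ f) ^ m - 1) := not_dvd_of_dvd_pred hp (dvd_q hf (by omega))
    (Nat.one_le_pow _ _ (by omega)) (Nat.gcd_dvd_right _ _)
  refine bound_of_exp (e := m + ∑ j ∈ Finset.range (m - 1), 2 * (j + 1)) hp hd h ?_ ?_
  · rw [pow_add]
    exact Nat.mul_lt_mul_of_le_of_lt (Nat.sub_le _ _)
      (prod_sub_lt hq (fun j => 2 * (j + 1)) (fun _ => by omega) (by omega)) (pow_pos (by omega) _)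
  · rw [sum_even]
    obtain ⟨k, rfl⟩ : ∃ k, m = k + 1 := ⟨m - 1, by omega⟩
    simp only [Nat.add_sub_cancel]
    nlinarith

theorem pomega_minus {p : ℕ} {F : Type} [Field F] [Fintype F] [CharP F p] {m : ℕ} (hm : 4 ≤ m) {a b : F}
    (hab : ∀ z₁ z₂ : F, z₁ ^ 2 + a * z₁ * z₂ + b * z₂ ^ 2 = 0 → z₁ = 0 ∧ z₂ = 0) :
    Bound p (Cfsg.POmega F (Cfsg.quadFormMinus (m - 1) F a b)) := by
  obtain ⟨f, hf, hF, hp⟩ := exists_exp F p
  have hq := two_le hp hf
  have h := S0294.result hF m hm a b hab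
  rw [mul_assoc] at h
  have hd : ¬ p ∣ Nat.gcd 4 ((p ^ f) ^ m + 1) := not_dvd_of_dvd_succ hp (dvd_q hf (by omega))
    (Nat.gcd_dvd_right _ _)
  refine bound_of_exp (e := m + 1 + ∑ j ∈ Finset.range (m - 1), 2 * (j + 1)) hp hd h ?_ ?_
  · rw [pow_add]
    refine Nat.mul_lt_mul_of_le_of_lt ?_
      (prod_sub_lt hq (fun j => 2 * (j + 1)) (fun _ => by omega) (by omega)) (pow_pos (by omega) _)
    rw [pow_succ]
    have := Nat.one_le_pow m (p ^ f) (by omega)
    nlinarith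
  · rw [sum_even]
    obtain ⟨k, rfl⟩ : ∃ k, m = k + 1 := ⟨m - 1, by omega⟩
    simp only [Nat.add_sub_cancel]
    nlinarith

/-! ### exceptional groups -/

theorem prod_list_lt {q : ℕ} (hq : 2 ≤ q) {a b : ℕ} {x : ℕ} (hx : x ≤ q ^ a) (_hb : 1 ≤ b) :
    x * (q ^ b - 1) < q ^ (a + b) := by
  rw [pow_add]
  have := Nat.one_le_pow b q (by omega)
  exact Nat.mul_lt_mul_of_le_of_lt hx (by omega) (pow_pos (by omega) _)

theorem mul_le_pow {q a b x y : ℕ} (hx : x ≤ q ^ a) (hy : y ≤ q ^ b) : x * y ≤ q ^ (a + b) :=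
  pow_add q a b ▸ Nat.mul_le_mul hx hy

theorem sub_one_le (q a : ℕ) : q ^ a - 1 ≤ q ^ a := Nat.sub_le _ _

theorem succ_le {q : ℕ} (hq : 2 ≤ q) (a : ℕ) : q ^ a + 1 ≤ q ^ (a + 1) := by
  have := Nat.one_le_pow a q (by omega)
  rw [pow_succ]; nlinarith

theorem excep {p : ℕ} {F : Type} [Field F] [Fintype F] [CharP F p] :
    Bound p ↥(Lie.chevG2.group F) ∧ Bound p ↥(Lie.chevF4.group F) ∧ Bound p ↥(Lie.chevE6.group F) ∧
      Bound p ↥(Lie.chevE7.group F) ∧ Bound p ↥(Lie.chevE8.group F) := by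
  obtain ⟨f, hf, hF, hp⟩ := exists_exp F p
  have hq := two_le hp hf
  have h1 : ¬ p ∣ 1 := fun h => hp.one_lt.ne' (Nat.dvd_one.mp h)
  refine ⟨?_, ?_, ?_, ?_, ?_⟩
  · refine bound_of_exp (e := 2 + 6) hp h1 ((one_mul _).trans ((S1059.result hF).trans (mul_assoc _ _ _)))
      (prod_list_lt hq (sub_one_le _ _) (by norm_num)) (by norm_num)
  · have h := S1062.result hF
    simp only [mul_assoc] at h
    refine bound_of_exp (e := 2 + 6 + 8 + 12) hp h1 ((one_mul _).trans h) ?_ (by norm_num)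
    simp only [← mul_assoc]
    refine prod_list_lt (a := 2 + 6 + 8) hq ?_ (by norm_num)
    exact mul_le_pow (mul_le_pow (sub_one_le _ _) (sub_one_le _ _)) (sub_one_le _ _)
  · have h := S1063.result hF
    simp only [mul_assoc] at h
    refine bound_of_exp (e := 2 + 5 + 6 + 8 + 9 + 12) hp (gcd_pred hp hf 3) h ?_ (by norm_num)
    simp only [← mul_assoc]
    refine prod_list_lt (a := 2 + 5 + 6 + 8 + 9) hq ?_ (by norm_num)
    exact mul_le_pow (mul_le_pow (mul_le_pow (mul_le_pow (sub_one_le _ _) (sub_one_le _ _)) (sub_one_le _ _)) (sub_one_le _ _)) (sub_one_le _ _)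
  · have h := S1064.result hF
    simp only [mul_assoc] at h
    refine bound_of_exp (e := 2 + 6 + 8 + 10 + 12 + 14 + 18) hp (gcd_pred hp hf 2) h ?_ (by norm_num)
    simp only [← mul_assoc]
    refine prod_list_lt (a := 2 + 6 + 8 + 10 + 12 + 14) hq ?_ (by norm_num)
    exact mul_le_pow (mul_le_pow (mul_le_pow (mul_le_pow (mul_le_pow (sub_one_le _ _) (sub_one_le _ _)) (sub_one_le _ _)) (sub_one_le _ _)) (sub_one_le _ _)) (sub_one_le _ _)
  · have h := S1065.result hF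
    simp only [mul_assoc] at h
    refine bound_of_exp (e := 2 + 8 + 12 + 14 + 18 + 20 + 24 + 30) hp h1 ((one_mul _).trans h) ?_ (by norm_num)
    simp only [← mul_assoc]
    refine prod_list_lt (a := 2 + 8 + 12 + 14 + 18 + 20 + 24) hq ?_ (by norm_num)
    exact mul_le_pow (mul_le_pow (mul_le_pow (mul_le_pow (mul_le_pow (mul_le_pow (sub_one_le _ _) (sub_one_le _ _)) (sub_one_le _ _)) (sub_one_le _ _)) (sub_one_le _ _)) (sub_one_le _ _)) (sub_one_le _ _)

theorem twisted_d4 {p : ℕ} {K : Type} [Field K] [Fintype K] [CharP K p] {q : ℕ} (hq : IsPrimePow q)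
    (hK : Fintype.card K = q ^ 3) : Bound p ↥(Lie.twistedD4 K q) := by
  obtain ⟨f, hf, rfl⟩ := exists_root K p three_ne_zero hK
  obtain ⟨-, -, -, hp⟩ := exists_exp K p
  have hq2 := two_le hp hf
  have h := S1067.result hq hK
  simp only [mul_assoc] at h
  refine bound_of_exp (e := 2 + 6 + 9) hp (fun h => hp.one_lt.ne' (Nat.dvd_one.mp h)) ((one_mul _).trans h) ?_
    (by norm_num)
  rw [← mul_assoc, pow_add]
  refine Nat.mul_lt_mul_of_lt_of_le (prod_list_lt hq2 (sub_one_le _ _) (by norm_num)) ?_ (by positivity)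
  generalize p ^ f = q at hq2 ⊢
  have : q ^ 4 ≤ q ^ 8 := Nat.pow_le_pow_right (by omega) (by norm_num)
  have : 1 ≤ q ^ 4 := Nat.one_le_pow _ _ (by omega)
  have : 16 ≤ q ^ 4 := le_trans (by norm_num) (Nat.pow_le_pow_left hq2 4)
  rw [show q ^ 9 = q ^ 8 * q from pow_succ _ _]
  nlinarith

theorem twisted_e6 {p : ℕ} {K : Type} [Field K] [Fintype K] [CharP K p] {q : ℕ} (hq : IsPrimePow q)
    (hK : Fintype.card K = q ^ 2) : Bound p ↥(Lie.twistedE6 K q) := by
  obtain ⟨f, hf, rfl⟩ := exists_root K p two_ne_zero hK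
  obtain ⟨-, -, -, hp⟩ := exists_exp K p
  have hq2 := two_le hp hf
  have h := S1066.result hq hK
  simp only [mul_assoc] at h
  refine bound_of_exp (e := 2 + (5 + 1) + 6 + 8 + (9 + 1) + 12) hp
    (not_dvd_of_dvd_succ hp (dvd_pow_self p (by omega)) (Nat.gcd_dvd_right _ _)) h ?_ (by norm_num)
  simp only [← mul_assoc]
  refine prod_list_lt (a := 2 + (5 + 1) + 6 + 8 + (9 + 1)) hq2 ?_ (by norm_num)
  exact mul_le_pow (mul_le_pow (mul_le_pow (mul_le_pow (sub_one_le _ _) (succ_le hq2 _)) (sub_one_le _ _))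
    (sub_one_le _ _)) (succ_le hq2 _)

theorem ree_f4 {G : Type*} [Group G] (hG : Lie.Iso2F4 G) : Bound 2 G := by
  obtain ⟨K, iK, iKt, m, hm, hK, ⟨e⟩⟩ := hG
  refine congr_bound e ?_
  have h := S1068.result hK
  have hq := two_le (f := 2 * m + 1) Nat.prime_two (by omega)
  refine bound_of_exp (f := 2 * m + 1) (N := 12) (d := 1)
    (Y := (2 ^ (2 * m + 1) - 1) * (((2 ^ (2 * m + 1)) ^ 3 + 1) * (((2 ^ (2 * m + 1)) ^ 4 - 1) *
      ((2 ^ (2 * m + 1)) ^ 6 + 1)))) (e := 1 + ((3 + 1) + (4 + (6 + 1)))) Nat.prime_two (by norm_num)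
    ((one_mul _).trans (h.trans (by ring))) ?_ (by norm_num)
  rw [pow_add _ 1, pow_one]
  refine Nat.mul_lt_mul_of_lt_of_le (by omega) ?_ (by positivity)
  exact mul_le_pow (succ_le hq _) (mul_le_pow (sub_one_le _ _) (succ_le hq _))

theorem ree_g2 {G : Type*} [Group G] (hG : Lie.IsoRee G) : Bound 3 G := by
  obtain ⟨K, iK, iKt, m, hm, hK, ⟨e⟩⟩ := hG
  refine congr_bound e ?_
  have h := S1069.result hK
  rw [mul_assoc] at h
  have hq := two_le (f := 2 * m + 1) Nat.prime_three (by omega)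
  refine bound_of_exp (f := 2 * m + 1) (e := 1 + (3 + 1)) (d := 1) Nat.prime_three (by norm_num)
    ((one_mul _).trans h) ?_ (by norm_num)
  rw [pow_add _ 1, pow_one]
  exact Nat.mul_lt_mul_of_lt_of_le (by omega) (succ_le hq _) (by positivity)

theorem suzuki {G : Type*} [Group G] (hG : Lie.IsoSuzuki G) : Bound 2 G := by
  obtain ⟨F, iF, iFt, m, hm, hF, ⟨e⟩⟩ := hG
  refine congr_bound e ?_
  haveI := SuzukiGroupBasic.Param.mk' (F := F) (m := m) hm hF
  have hc : Nat.card ↥(Lie.Sz F (2 ^ (m + 1))) = _ :=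
    (Nat.card_congr SuzukiGroupLie.lieEquiv.toEquiv).trans (S0324.result hm hF)
  rw [mul_assoc] at hc
  refine bound_of_exp (f := 2 * m + 1) (N := 2) (e := 3) (d := 1) Nat.prime_two (by norm_num)
    ((one_mul _).trans hc) ?_ (by norm_num)
  have hq := two_le (f := 2 * m + 1) Nat.prime_two (by omega)
  generalize 2 ^ (2 * m + 1) = q at hq ⊢
  obtain ⟨c, rfl⟩ : ∃ c, q = c + 1 := ⟨q - 1, by omega⟩
  rw [Nat.add_sub_cancel]
  nlinarith


theorem psl_two {G : Type*} [Group G] {p : ℕ} {F : Type} [Field F] [Fintype F] [CharP F p]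
    (e : G ≃* Matrix.ProjectiveSpecialLinearGroup (Fin 2) F) :
    Fintype.card F = p ^ (Nat.card G).factorization p ∧
      Nat.card G < p ^ (3 * (Nat.card G).factorization p) := by
  obtain ⟨f, hf, hF, hp⟩ := exists_exp F p
  have hq := two_le hp hf
  haveI : Finite G := Finite.of_equiv _ e.symm.toEquiv
  have h := S0243.result hF 2 le_rfl
  rw [← Nat.card_congr e.toEquiv, psl_split (m := 1), mul_left_comm, Nat.mul_right_inj (by omega)] at h
  simp only [show (1 + 1) * 1 / 2 = 1 by norm_num, pow_one, Finset.prod_range_one, zero_add] at h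
  set n := Nat.card G
  have hn : n ≠ 0 := Nat.card_pos.ne'
  have hd := gcd_pred hp hf 2
  have h2 : ¬ p ∣ (p ^ f) ^ 2 - 1 := not_dvd_of_dvd_pred hp (dvd_q hf (by norm_num))
    (Nat.one_le_pow _ _ (by omega)) dvd_rfl
  have hk : n.factorization p = f := by
    have hd0 : Nat.gcd 2 (p ^ f - 1) ≠ 0 := fun h0 => hd (h0 ▸ dvd_zero p)
    have hY0 : (p ^ f) ^ 2 - 1 ≠ 0 := fun h0 => h2 (h0 ▸ dvd_zero p)
    have := congrArg (fun k => k.factorization p) h
    simp only [Nat.factorization_mul hd0 hn, Nat.factorization_mul (pow_ne_zero f hp.ne_zero) hY0,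
      Finsupp.add_apply, Nat.factorization_eq_zero_of_not_dvd hd, Nat.factorization_eq_zero_of_not_dvd h2,
      Nat.Prime.factorization_pow hp, Finsupp.single_eq_same, zero_add, add_zero] at this
    exact this
  refine ⟨hk ▸ hF, ?_⟩
  rw [hk, mul_comm, pow_mul]
  have hd1 : 1 ≤ Nat.gcd 2 (p ^ f - 1) := Nat.one_le_iff_ne_zero.mpr fun h0 => hd (h0 ▸ dvd_zero p)
  calc n ≤ p ^ f * ((p ^ f) ^ 2 - 1) := h ▸ Nat.le_mul_of_pos_left n hd1
    _ < p ^ f * (p ^ f) ^ 2 := Nat.mul_lt_mul_of_pos_left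
        (by have := Nat.pow_pos (n := 2) (show 0 < p ^ f by omega); omega) (by omega)
    _ = (p ^ f) ^ 3 := by ring

/-- Let G be a finite simple group of Lie type in characteristic p and let p^k be the exact power of p dividing the order of G. Then the order of G is less than p^(3k); and unless G is isomorphic to PSL(2, F) for the field F with p^k elements, the cube of the order of G is less than p^(8k) (that is, the order is below p^(8k/3)). -/
theorem result {G : Type*} [Group G] [Finite G] (p : ℕ) (hp : p.Prime) (hG : Cfsg.IsLieTypeChar p G) :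
    Nat.card G < p ^ (3 * (Nat.card G).factorization p) ∧
      ((¬ ∃ (F : Type) (_ : Field F) (_ : Fintype F), Fintype.card F = p ^ (Nat.card G).factorization p ∧
          Nonempty (G ≃* Matrix.ProjectiveSpecialLinearGroup (Fin 2) F)) →
        Nat.card G ^ 3 < p ^ (8 * (Nat.card G).factorization p)) := by
  have key : Bound p G → _ := fun h => (⟨h.1, fun _ => h.2⟩ : Nat.card G < p ^ (3 * (Nat.card G).factorization p) ∧
      ((¬ ∃ (F : Type) (_ : Field F) (_ : Fintype F), Fintype.card F = p ^ (Nat.card G).factorization p ∧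
          Nonempty (G ≃* Matrix.ProjectiveSpecialLinearGroup (Fin 2) F)) →
        Nat.card G ^ 3 < p ^ (8 * (Nat.card G).factorization p)))
  rcases hG with h | h | h | h | h | h | h | h | ⟨rfl, h⟩ | ⟨rfl, h⟩ | ⟨rfl, h⟩
  · obtain ⟨F, _, _, _, n, hn, hs, ⟨e⟩⟩ := h
    rcases eq_or_lt_of_le hn with rfl | hn3
    · obtain ⟨hk, hlt⟩ := psl_two (p := p) e
      exact ⟨hlt, fun hno => absurd ⟨F, _, _, hk, ⟨e⟩⟩ hno⟩
    · exact key (congr_bound e (psl hn3))
  · obtain ⟨F, _, _, _, m, hm, hs, ⟨e⟩⟩ := h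
    exact key (congr_bound e (psp hm))
  · obtain ⟨F, _, _, _, n, q, hF, hn, hs, ⟨e⟩⟩ := h
    exact key (congr_bound e (psu hn hF))
  · obtain ⟨F, _, _, _, m, hm, ho, ⟨e⟩⟩ := h
    exact key (congr_bound e (pomega_odd hm ho))
  · obtain ⟨F, _, _, _, m, hm, ⟨e⟩⟩ := h
    exact key (congr_bound e (pomega_plus hm))
  · obtain ⟨F, _, _, _, m, a, b, hm, hab, ⟨e⟩⟩ := h
    exact key (congr_bound e (pomega_minus hm hab))
  · obtain ⟨F, _, _, _, h⟩ := h
    obtain ⟨g2, f4, e6, e7, e8⟩ := excep (p := p) (F := F)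
    rcases h with ⟨-, ⟨e⟩⟩ | ⟨⟨e⟩⟩ | ⟨⟨e⟩⟩ | ⟨⟨e⟩⟩ | ⟨⟨e⟩⟩
    · exact key (congr_bound e g2)
    · exact key (congr_bound e f4)
    · exact key (congr_bound e e6)
    · exact key (congr_bound e e7)
    · exact key (congr_bound e e8)
  · obtain ⟨K, _, _, _, q, hq, ⟨hK, ⟨e⟩⟩ | ⟨hK, ⟨e⟩⟩⟩ := h
    · exact key (congr_bound e (twisted_e6 hq hK))
    · exact key (congr_bound e (twisted_d4 hq hK))
  · exact key (suzuki h)
  · exact key (ree_f4 h)
  · exact key (ree_g2 h)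

end Cfsg.Agent.S2363
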