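import Cfsg.Statements.S2364
import Cfsg.Agent.Lib.CommutingUnipotent

set_option autoImplicit false
open Cfsg

namespace Cfsg.Agent.S2364

/-- Let F be a finite field of characteristic p, n ≥ 4, and let a, b be commuting elements of PSL(n, F) with a of order p. Then every prime divisor of the order of b divides the order of SL(n − 2, F). -/
theorem result {F : Type*} [Field F] [Fintype F] (p : ℕ) [Fact p.Prime] [CharP F p] (n : ℕ) (hn : 4 ≤ n)
    (a b : Matrix.ProjectiveSpecialLinearGroup (Fin n) F) (ha : orderOf a = p) (hab : Commute a b) :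
    (orderOf b).primeFactors ⊆ (Nat.card (Matrix.SpecialLinearGroup (Fin (n - 2)) F)).primeFactors := by
  classical
  have : NeZero n := ⟨by omega⟩
  intro r hr
  rw [Nat.mem_primeFactors] at hr ⊢
  obtain ⟨hrp, hrd, -⟩ := hr
  refine ⟨hrp, CommutingUnipotent.dvd_card_SL (by omega) hrp ?_, Nat.card_pos.ne'⟩
  by_cases hpr : r = p
  · left
    subst hpr
    rw [Nat.card_eq_fintype_card]
    exact (CharP.cast_eq_zero_iff F r _).1 (FiniteField.cast_card_eq_zero F)
  right
  let G := Matrix.SpecialLinearGroup (Fin n) F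
  let Z := Subgroup.center G
  set cz := Nat.card Z with hcz
  have hcop : Nat.Coprime p cz := by
    rw [hcz, PSLCard.card_center_SL]
    refine ((Fact.out : p.Prime).coprime_iff_not_dvd).2 fun hd => ?_
    have hpq : p ∣ Nat.card F := by
      rw [Nat.card_eq_fintype_card]
      exact (CharP.cast_eq_zero_iff F p _).1 (FiniteField.cast_card_eq_zero F)
    have h1 := Nat.dvd_sub hpq (hd.trans (Nat.gcd_dvd_right n _))
    rw [show Nat.card F - (Nat.card F - 1) = 1 by have := Nat.card_pos (α := F); omega] at h1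
    exact (Fact.out : p.Prime).not_dvd_one h1
  have hZpow : ∀ z : G, z ∈ Z → z ^ cz = 1 := fun z hz =>
    congrArg Subtype.val (pow_card_eq_one' (x := (⟨z, hz⟩ : Z)))
  obtain ⟨A, rfl⟩ := QuotientGroup.mk'_surjective Z a
  obtain ⟨B, rfl⟩ := QuotientGroup.mk'_surjective Z b
  obtain ⟨z, hz1, hz0⟩ := Nat.chineseRemainder hcop 1 0
  have hAp : A ^ p ∈ Z := by
    rw [← QuotientGroup.eq_one_iff]
    have := pow_orderOf_eq_one (QuotientGroup.mk' Z A)
    rw [ha, ← map_pow] at this
    exact this
  set A' := A ^ z with hA'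
  have hA'p : A' ^ p = 1 := by
    rw [hA', ← pow_mul, mul_comm, pow_mul]
    obtain ⟨w, hw⟩ := Nat.modEq_zero_iff_dvd.1 hz0
    rw [hw, pow_mul, hZpow _ hAp, one_pow]
  have himg : QuotientGroup.mk' Z A' = QuotientGroup.mk' Z A := by
    conv_rhs => rw [← pow_one (QuotientGroup.mk' Z A)]
    rw [hA', map_pow, pow_eq_pow_iff_modEq, ha]
    exact hz1
  have hA1 : A' ≠ 1 := fun e => by
    rw [e, map_one] at himg
    rw [← himg, orderOf_one] at ha
    exact (Fact.out : p.Prime).one_lt.ne ha
  have hAB : Commute A' B := by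
    set w := B * A' * B⁻¹ * A'⁻¹ with hw
    have hwZ : w ∈ Z := by
      rw [← QuotientGroup.eq_one_iff]
      have hab' : QuotientGroup.mk' Z B * QuotientGroup.mk' Z A' =
          QuotientGroup.mk' Z A' * QuotientGroup.mk' Z B := by rw [himg]; exact hab.symm.eq
      show QuotientGroup.mk' Z w = 1
      rw [hw, map_mul, map_mul, map_mul, map_inv, map_inv, hab', mul_inv_cancel_right, mul_inv_cancel]
    have hconj : B * A' * B⁻¹ = w * A' := by rw [hw, inv_mul_cancel_right]
    have hwp : w ^ p = 1 := by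
      have h1 := congrArg (· ^ p) hconj
      simp only [conj_pow, hA'p, mul_one, mul_inv_cancel] at h1
      rw [(show Commute w A' from (Subgroup.mem_center_iff.1 hwZ A').symm).mul_pow, hA'p,
        mul_one] at h1
      exact h1.symm
    have hw1 : w = 1 := by
      have := pow_gcd_eq_one.2 ⟨hwp, hZpow w hwZ⟩
      rwa [hcop, pow_one] at this
    rw [hw1, one_mul, mul_inv_eq_iff_eq_mul] at hconj
    exact hconj.symm
  have hrB : r ∣ orderOf B := hrd.trans (orderOf_map_dvd _ B)
  have hB0 : 0 < orderOf B := orderOf_pos B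
  set C := B ^ (orderOf B / r) with hC
  have hCr : orderOf C = r := orderOf_pow_orderOf_div hB0.ne' hrB
  let φ : G →* Module.End F (Fin n → F) :=
    { toFun := fun g => Matrix.toLinAlgEquiv' (g : Matrix (Fin n) (Fin n) F)
      map_one' := by simp
      map_mul' := fun g h => map_mul Matrix.toLinAlgEquiv' _ _ }
  have hφ : Function.Injective φ := fun g h e => Subtype.ext (Matrix.toLinAlgEquiv'.injective e)
  have : Fact r.Prime := ⟨hrp⟩
  have : CharP (Module.End F (Fin n → F)) p :=
    charP_of_injective_algebraMap (algebraMap F (Module.End F (Fin n → F))).injective p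
  set M := φ A' - 1 with hM
  have hMnil : IsNilpotent M := ⟨p, by
    rw [hM, sub_pow_char_of_commute p (Commute.one_right _), one_pow, ← map_pow, hA'p, map_one,
      sub_self]⟩
  have hM0 : M ≠ 0 := fun e => hA1 (hφ ((sub_eq_zero.1 e).trans (map_one φ).symm))
  obtain ⟨j, hj0, hj⟩ := CommutingUnipotent.exists_square_zero hMnil hM0
  have hcomm : Commute (φ C) (M ^ j) :=
    (((hAB.symm.pow_left _).map φ).sub_right (Commute.one_right _)).pow_right j
  obtain ⟨i, hi, hbound, hdiv⟩ := CommutingUnipotent.exists_dvd_of_commute (p := p) (r := r) hpr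
    (φ C) (by rw [← map_pow, ← hCr, pow_orderOf_eq_one, map_one])
    (fun e => hrp.one_lt.ne' (by rw [← hCr, hφ (e.trans (map_one φ).symm), orderOf_one]))
    (M ^ j) hj hj0 hcomm.eq
  rw [Module.finrank_fin_fun] at hbound
  exact ⟨i, hi, by omega, hdiv⟩

end Cfsg.Agent.S2364
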