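import Cfsg.Statements.S2365
import Cfsg.Agent.Lib.SUCommutingUnipotent
-- import your own Cfsg.Agent.* helpers here

set_option autoImplicit false
open Cfsg

namespace Cfsg.Agent.S2365

/-- Let q be a power of the prime p, F the field with q² elements, m ≥ 4, and let a, b be commuting elements of PSU(m, q) with a of order p. Then every prime divisor of the order of b divides the order of SU(m − 2, q). -/
theorem result {F : Type*} [Field F] [Fintype F] (p : ℕ) [Fact p.Prime] [CharP F p] (m q : ℕ) (hm : 4 ≤ m) (hF : Fintype.card F = q ^ 2)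
    (a b : Cfsg.PSU m F q) (ha : orderOf a = p) (hab : Commute a b) :
    (orderOf b).primeFactors ⊆ (Nat.card ↥(Cfsg.SU (m - 2) F q)).primeFactors := by
  classical
  have hq := OrthUnitaryHerm.two_le_q hF
  intro r hr
  rw [Nat.mem_primeFactors] at hr ⊢
  obtain ⟨hrp, hrd, -⟩ := hr
  refine ⟨hrp, SUCommutingUnipotent.dvd_card_SU hF (by omega) ?_, Nat.card_pos.ne'⟩
  by_cases hrq : r ∣ q + 1
  · exact Or.inr (Or.inl hrq)
  obtain ⟨f, hf⟩ := SpectrumPSU3.exists_exp (p := p) hF
  have hf0 : f ≠ 0 := fun h => by rw [h, pow_zero] at hf; omega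
  by_cases hpr : r = p
  · left; rw [hpr, hf]; exact dvd_pow_self p hf0
  refine Or.inr (Or.inr ?_)
  let G := ↥(Cfsg.SU m F q)
  let Z := Subgroup.center G
  set cz := Nat.card Z with hcz
  have hcop : Nat.Coprime p cz := by
    rw [hcz, OrthUnitaryHerm.card_center_SU hF (by omega)]
    refine ((Fact.out : p.Prime).coprime_iff_not_dvd).2 fun hd => ?_
    have h1 := hd.trans (Nat.gcd_dvd_right m _)
    rw [Nat.dvd_add_right (hf ▸ dvd_pow_self p hf0)] at h1
    exact (Fact.out : p.Prime).not_dvd_one h1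
  have hZpow : ∀ z : G, z ∈ Z → z ^ cz = 1 := fun z hz =>
    congrArg Subtype.val (pow_card_eq_one' (x := (⟨z, hz⟩ : Z)))
  obtain ⟨A, rfl⟩ := QuotientGroup.mk'_surjective Z a
  obtain ⟨B, rfl⟩ := QuotientGroup.mk'_surjective Z b
  obtain ⟨z, hz1, hz0⟩ := Nat.chineseRemainder hcop 1 0
  have hAp : A ^ p ∈ Z := by
    rw [← QuotientGroup.eq_one_iff]
    have := pow_orderOf_eq_one (QuotientGroup.mk' Z A)
    rw [ha, ← map_pow] at this
    exact this
  set A' := A ^ z with hA'
  have hA'p : A' ^ p = 1 := by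
    rw [hA', ← pow_mul, mul_comm, pow_mul]
    obtain ⟨w, hw⟩ := Nat.modEq_zero_iff_dvd.1 hz0
    rw [hw, pow_mul, hZpow _ hAp, one_pow]
  have himg : QuotientGroup.mk' Z A' = QuotientGroup.mk' Z A := by
    conv_rhs => rw [← pow_one (QuotientGroup.mk' Z A)]
    rw [hA', map_pow, pow_eq_pow_iff_modEq, ha]
    exact hz1
  have hA1 : A' ≠ 1 := fun e => by
    rw [e, map_one] at himg
    rw [← himg, orderOf_one] at ha
    exact (Fact.out : p.Prime).one_lt.ne ha
  have hAB : Commute A' B := by
    set w := B * A' * B⁻¹ * A'⁻¹ with hw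
    have hwZ : w ∈ Z := by
      rw [← QuotientGroup.eq_one_iff]
      have hab' : QuotientGroup.mk' Z B * QuotientGroup.mk' Z A' =
          QuotientGroup.mk' Z A' * QuotientGroup.mk' Z B := by rw [himg]; exact hab.symm.eq
      show QuotientGroup.mk' Z w = 1
      rw [hw, map_mul, map_mul, map_mul, map_inv, map_inv, hab', mul_inv_cancel_right, mul_inv_cancel]
    have hconj : B * A' * B⁻¹ = w * A' := by rw [hw, inv_mul_cancel_right]
    have hwp : w ^ p = 1 := by
      have h1 := congrArg (· ^ p) hconj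
      simp only [conj_pow, hA'p, mul_one, mul_inv_cancel] at h1
      rw [(show Commute w A' from (Subgroup.mem_center_iff.1 hwZ A').symm).mul_pow, hA'p,
        mul_one] at h1
      exact h1.symm
    have hw1 : w = 1 := by
      have := pow_gcd_eq_one.2 ⟨hwp, hZpow w hwZ⟩
      rwa [hcop, pow_one] at this
    rw [hw1, one_mul, mul_inv_eq_iff_eq_mul] at hconj
    exact hconj.symm
  set C := B ^ (orderOf B / r) with hC
  have hCr : orderOf C = r :=
    orderOf_pow_orderOf_div (orderOf_pos B).ne' (hrd.trans (orderOf_map_dvd _ B))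
  let μ := SpectrumPSU61.mat (n := m) (F := F) (q := q)
  have : Nonempty (Fin m) := ⟨⟨0, by omega⟩⟩
  have : Fact r.Prime := ⟨hrp⟩
  have : CharP (Matrix (Fin m) (Fin m) F) p :=
    charP_of_injective_algebraMap (algebraMap F (Matrix (Fin m) (Fin m) F)).injective p
  have hμ : ∀ {g h : G}, μ g = μ h → g = h := fun e => Subtype.ext (Subtype.ext e)
  have hNnil : IsNilpotent (μ A' - 1) := ⟨p, by
    rw [sub_pow_char_of_commute p (Commute.one_right _), one_pow, ← SpectrumPSU61.mat_pow, hA'p]
    exact sub_self _⟩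
  have hcomm : Commute (μ C) (μ A' - 1) := by
    refine Commute.sub_right ?_ (Commute.one_right _)
    exact congrArg μ (hAB.symm.pow_left (orderOf B / r)).eq
  obtain ⟨i, hi2, him, hdiv⟩ := SUCommutingUnipotent.exists_dvd (p := p) (r := r) hF hpr hrq C
    (by rw [← hCr, pow_orderOf_eq_one])
    (fun e => hrp.one_lt.ne' (by rw [← hCr, e, orderOf_one]))
    (μ A' - 1) hNnil (fun e => hA1 (hμ (sub_eq_zero.1 e))) hcomm
  exact ⟨i, hi2, by omega, hdiv⟩

end Cfsg.Agent.S2365
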