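import Cfsg.Statements.S2367
import Mathlib

set_option autoImplicit false
open Cfsg

namespace Cfsg.Agent.S2367

theorem cube_lt : ∀ p : ℕ, 3 ≤ p → 2 * p ^ 3 < 4 ^ p := by
  intro p hp
  induction p, hp using Nat.le_induction with
  | base => norm_num
  | succ k hk ih =>
    calc 2 * (k + 1) ^ 3 ≤ 2 * (4 * k ^ 3) := by nlinarith [Nat.mul_le_mul hk hk]
      _ < 4 * 4 ^ k := by omega
      _ = 4 ^ (k + 1) := by rw [pow_succ']

theorem mono_two {a b : ℕ} (h : a ≤ b) :
    a.factorial.factorization 2 ≤ b.factorial.factorization 2 :=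
  (Nat.factorization_le_iff_dvd a.factorial_ne_zero b.factorial_ne_zero).2
    (Nat.factorial_dvd_factorial h) 2

theorem two_part (n : ℕ) : n / 2 + n / 4 ≤ n.factorial.factorization 2 := by
  have h1 : ∀ m, m / 2 ≤ m.factorial.factorization 2 := fun m => by
    refine le_trans ?_ (mono_two (a := 2 * (m / 2)) (by omega))
    rw [Nat.factorization_factorial_mul Nat.prime_two]
    exact Nat.le_add_left _ _
  refine le_trans ?_ (mono_two (a := 2 * (n / 2)) (by omega))
  rw [Nat.factorization_factorial_mul Nat.prime_two]
  have := h1 (n / 2)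
  omega

theorem alternating_case {p n : ℕ} (hp : p.Prime) (hp2 : p ≠ 2) (hn : 5 ≤ n) {N : ℕ}
    (hN : 2 * N = n.factorial) (h3 : N.factorization p = 3) :
    p ^ 3 < 2 ^ N.factorization 2 := by
  have hN0 : N ≠ 0 := fun h => n.factorial_ne_zero (by rw [← hN, h, mul_zero])
  have hpf : n.factorial.factorization p = 3 := by
    rw [← hN, Nat.factorization_mul two_ne_zero hN0, Finsupp.coe_add, Pi.add_apply, h3,
      Nat.prime_two.factorization, Finsupp.single_eq_of_ne hp2, zero_add]
  have h2f : n.factorial.factorization 2 = 1 + N.factorization 2 := by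
    rw [← hN, Nat.factorization_mul two_ne_zero hN0, Finsupp.coe_add, Pi.add_apply,
      Nat.prime_two.factorization_self]
  have hp3 : 3 ≤ p := by have := hp.two_le; omega
  have hn3 : 3 * p ≤ n := by
    by_contra hlt
    push Not at hlt
    have hsq : n < p ^ 2 := lt_of_lt_of_le hlt (by rw [sq]; exact Nat.mul_le_mul_right p hp3)
    rw [Nat.factorization_factorial hp (b := 2) (Nat.log_lt_of_lt_pow (by omega) hsq),
      show Finset.Ico 1 2 = {1} from rfl, Finset.sum_singleton, pow_one] at hpf
    have := (Nat.le_div_iff_mul_le hp.pos).1 (le_of_eq hpf.symm)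
    omega
  have hexp : 2 * p - 1 ≤ N.factorization 2 := by
    have := two_part n
    have : p ≠ 4 := fun h => by rw [h] at hp; norm_num at hp
    have : p ≠ 6 := fun h => by rw [h] at hp; norm_num at hp
    omega
  refine lt_of_lt_of_le ?_ (Nat.pow_le_pow_right two_pos hexp)
  have h := cube_lt p hp3
  rw [show (4 : ℕ) = 2 ^ 2 by norm_num, ← pow_mul,
    show 2 * p = (2 * p - 1) + 1 by omega, pow_succ (2 : ℕ)] at h
  omega

theorem sporadic_case {p N a : ℕ} (hp : p.Prime) (hp2 : p ≠ 2) (hN : N ∣ Nat.factorial 71)
    (ha : 2 ^ a ∣ N)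
    (hchk : ∀ q < 72, (∀ m < q, m ∣ q → m ≤ 1) → q ^ 3 ∣ N → ¬ q ^ 4 ∣ N → q = 2 ∨ q ^ 3 < 2 ^ a)
    (h3 : N.factorization p = 3) : p ^ 3 < 2 ^ N.factorization 2 := by
  have hN0 : N ≠ 0 := ne_zero_of_dvd_ne_zero (Nat.factorial_ne_zero 71) hN
  have d3 : p ^ 3 ∣ N := (hp.pow_dvd_iff_le_factorization hN0).2 (le_of_eq h3.symm)
  have d4 : ¬ p ^ 4 ∣ N := fun h => by
    have := (hp.pow_dvd_iff_le_factorization hN0).1 h; omega
  have hle : p ≤ 71 := hp.dvd_factorial.1 ((dvd_trans (dvd_pow_self p (by norm_num)) d3).trans hN)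
  exact lt_of_lt_of_le ((hchk p (by omega) (fun m hm hd => le_of_eq
    ((hp.eq_one_or_self_of_dvd m hd).resolve_right hm.ne)) d3 d4).resolve_left hp2)
    (Nat.pow_le_pow_right two_pos ((Nat.prime_two.pow_dvd_iff_le_factorization hN0).1 ha))


/-- Let G be an alternating group of degree at least 5 or a simple group with the order of one of the 26 sporadic groups, and let p be an odd prime such that p³ is the exact power of p dividing the order of G. Then p³ is less than the 2-part of the order of G. -/
theorem result {G : Type*} [Group G] [Finite G] (hG : Cfsg.IsAlternating G ∨ Cfsg.IsSporadic G)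
    (p : ℕ) (hp : p.Prime) (hodd : p ≠ 2) (h3 : (Nat.card G).factorization p = 3) :
    p ^ 3 < 2 ^ (Nat.card G).factorization 2 := by
  rcases hG with ⟨n, hn, ⟨e⟩⟩ | hS
  · have hcard : 2 * Nat.card G = n.factorial := by
      have : Nontrivial (Fin n) := Fin.nontrivial_iff_two_le.2 (by omega)
      rw [Nat.card_congr e.toEquiv, two_mul_nat_card_alternatingGroup, Nat.card_perm,
        Nat.card_eq_fintype_card, Fintype.card_fin]
    exact alternating_case hp hodd hn hcard h3
  · rcases hS with h | h | h | h | h | h | h | h | h | h | h | h | h | h | h | h | h | h | h | h | h | h | h | h | h | h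
    · obtain ⟨-, hc⟩ := h
      rw [hc] at h3 ⊢
      exact sporadic_case (a := 4) hp hodd (by decide +kernel) (by decide +kernel) (by decide +kernel) h3
    · obtain ⟨-, hc⟩ := h
      rw [hc] at h3 ⊢
      exact sporadic_case (a := 6) hp hodd (by decide +kernel) (by decide +kernel) (by decide +kernel) h3
    · obtain ⟨-, hc⟩ := h
      rw [hc] at h3 ⊢
      exact sporadic_case (a := 7) hp hodd (by decide +kernel) (by decide +kernel) (by decide +kernel) h3
    · obtain ⟨-, hc⟩ := h
      rw [hc] at h3 ⊢
      exact sporadic_case (a := 7) hp hodd (by decide +kernel) (by decide +kernel) (by decide +kernel) h3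
    · obtain ⟨-, hc⟩ := h
      rw [hc] at h3 ⊢
      exact sporadic_case (a := 10) hp hodd (by decide +kernel) (by decide +kernel) (by decide +kernel) h3
    · obtain ⟨-, hc⟩ := h
      rw [hc] at h3 ⊢
      exact sporadic_case (a := 3) hp hodd (by decide +kernel) (by decide +kernel) (by decide +kernel) h3
    · obtain ⟨-, hc⟩ := h
      rw [hc] at h3 ⊢
      exact sporadic_case (a := 7) hp hodd (by decide +kernel) (by decide +kernel) (by decide +kernel) h3
    · obtain ⟨-, hc⟩ := h
      rw [hc] at h3 ⊢
      exact sporadic_case (a := 7) hp hodd (by decide +kernel) (by decide +kernel) (by decide +kernel) h3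
    · obtain ⟨-, hc⟩ := h
      rw [hc] at h3 ⊢
      exact sporadic_case (a := 21) hp hodd (by decide +kernel) (by decide +kernel) (by decide +kernel) h3
    · obtain ⟨-, hc⟩ := h
      rw [hc] at h3 ⊢
      exact sporadic_case (a := 21) hp hodd (by decide +kernel) (by decide +kernel) (by decide +kernel) h3
    · obtain ⟨-, hc⟩ := h
      rw [hc] at h3 ⊢
      exact sporadic_case (a := 18) hp hodd (by decide +kernel) (by decide +kernel) (by decide +kernel) h3
    · obtain ⟨-, hc⟩ := h
      rw [hc] at h3 ⊢
      exact sporadic_case (a := 10) hp hodd (by decide +kernel) (by decide +kernel) (by decide +kernel) h3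
    · obtain ⟨-, hc⟩ := h
      rw [hc] at h3 ⊢
      exact sporadic_case (a := 17) hp hodd (by decide +kernel) (by decide +kernel) (by decide +kernel) h3
    · obtain ⟨-, hc⟩ := h
      rw [hc] at h3 ⊢
      exact sporadic_case (a := 18) hp hodd (by decide +kernel) (by decide +kernel) (by decide +kernel) h3
    · obtain ⟨-, hc⟩ := h
      rw [hc] at h3 ⊢
      exact sporadic_case (a := 21) hp hodd (by decide +kernel) (by decide +kernel) (by decide +kernel) h3
    · obtain ⟨-, hc⟩ := h
      rw [hc] at h3 ⊢
      exact sporadic_case (a := 9) hp hodd (by decide +kernel) (by decide +kernel) (by decide +kernel) h3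
    · obtain ⟨-, hc⟩ := h
      rw [hc] at h3 ⊢
      exact sporadic_case (a := 7) hp hodd (by decide +kernel) (by decide +kernel) (by decide +kernel) h3
    · obtain ⟨-, hc⟩ := h
      rw [hc] at h3 ⊢
      exact sporadic_case (a := 10) hp hodd (by decide +kernel) (by decide +kernel) (by decide +kernel) h3
    · obtain ⟨-, hc⟩ := h
      rw [hc] at h3 ⊢
      exact sporadic_case (a := 14) hp hodd (by decide +kernel) (by decide +kernel) (by decide +kernel) h3
    · obtain ⟨-, hc⟩ := h
      rw [hc] at h3 ⊢
      exact sporadic_case (a := 13) hp hodd (by decide +kernel) (by decide +kernel) (by decide +kernel) h3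
    · obtain ⟨-, hc⟩ := h
      rw [hc] at h3 ⊢
      exact sporadic_case (a := 9) hp hodd (by decide +kernel) (by decide +kernel) (by decide +kernel) h3
    · obtain ⟨-, hc⟩ := h
      rw [hc] at h3 ⊢
      exact sporadic_case (a := 14) hp hodd (by decide +kernel) (by decide +kernel) (by decide +kernel) h3
    · obtain ⟨-, hc⟩ := h
      rw [hc] at h3 ⊢
      exact sporadic_case (a := 8) hp hodd (by decide +kernel) (by decide +kernel) (by decide +kernel) h3
    · obtain ⟨-, hc⟩ := h
      rw [hc] at h3 ⊢
      exact sporadic_case (a := 15) hp hodd (by decide +kernel) (by decide +kernel) (by decide +kernel) h3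
    · obtain ⟨-, hc⟩ := h
      rw [hc] at h3 ⊢
      exact sporadic_case (a := 41) hp hodd (by decide +kernel) (by decide +kernel) (by decide +kernel) h3
    · obtain ⟨-, hc⟩ := h
      rw [hc] at h3 ⊢
      exact sporadic_case (a := 46) hp hodd (by decide +kernel) (by decide +kernel) (by decide +kernel) h3

end Cfsg.Agent.S2367
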