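import Cfsg.Statements.S2368
import Cfsg.Agent.Lib.UnipotentGL

set_option autoImplicit false
open Cfsg

namespace Cfsg.Agent.S2368

/-- The nilpotent shift matrix. -/
def shift (m : ℕ) (F : Type*) [Field F] : Matrix (Fin m) (Fin m) F :=
  Matrix.of fun i j => if (j : ℕ) = i + 1 then 1 else 0

theorem shift_pow_apply {m : ℕ} {F : Type*} [Field F] (k : ℕ) (i j : Fin m) :
    (shift m F ^ k) i j = if (j : ℕ) = i + k then 1 else 0 := by
  induction k generalizing i j with
  | zero => simp [Matrix.one_apply, Fin.ext_iff, eq_comm]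
  | succ k ih =>
    rw [pow_succ, Matrix.mul_apply]
    simp only [ih]
    simp only [shift, Matrix.of_apply]
    by_cases h : (i : ℕ) + k < m
    · rw [Finset.sum_eq_single ⟨i + k, h⟩]
      · simp [add_assoc]
      · intro b _ hb
        have : (b : ℕ) ≠ i + k := fun hb' => hb (Fin.ext hb')
        simp [this]
      · simp
    · rw [Finset.sum_eq_zero, if_neg]
      · have := j.isLt; omega
      · intro b _
        have : (b : ℕ) ≠ i + k := fun hb' => h (hb' ▸ b.isLt)
        simp [this]

/-- Let F be a finite field of characteristic p and m ≥ 1. Every element of GL(m, F) of p-power order has order less than p·m, and GL(m, F) has an element of p-power order at least m; so the largest order of a p-element of GL(m, F) is the least power of p that is at least m. -/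
theorem result {F : Type*} [Field F] [Fintype F] (p : ℕ) [Fact p.Prime] [CharP F p] (m : ℕ) (hm : 1 ≤ m) :
    (∀ g : Matrix.GeneralLinearGroup (Fin m) F, (∃ j : ℕ, orderOf g = p ^ j) → orderOf g < p * m) ∧
      ∃ g : Matrix.GeneralLinearGroup (Fin m) F, (∃ j : ℕ, orderOf g = p ^ j) ∧ m ≤ orderOf g := by
  have : Nonempty (Fin m) := ⟨⟨0, hm⟩⟩
  have hp := (Fact.out : p.Prime)
  refine ⟨?_, ?_⟩
  · rintro g ⟨j, hj⟩
    rw [hj]
    rcases j with _ | j
    · rw [pow_zero]; nlinarith [hp.two_le]
    by_contra h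
    push Not at h
    have hmj : m ≤ p ^ j := by
      rw [pow_succ'] at h
      exact Nat.le_of_mul_le_mul_left h hp.pos
    have h1 := (Cfsg.Agent.UnipotentGL.pPow_order_iff p g).1 ⟨j + 1, hj⟩
    have h2 : g ^ p ^ j = 1 := (Cfsg.Agent.UnipotentGL.pow_eq_one_iff p g j).2
      (pow_eq_zero_of_le hmj (by simpa using Cfsg.Agent.UnipotentGL.pow_card_eq_zero h1))
    have := Nat.le_of_dvd (pow_pos hp.pos j) (hj ▸ orderOf_dvd_of_pow_eq_one h2)
    exact absurd this (not_le.2 (Nat.pow_lt_pow_right hp.one_lt (Nat.lt_succ_self j)))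
  · have hN : IsNilpotent (shift m F) := ⟨m, by
      ext i j
      rw [shift_pow_apply, if_neg (by have := j.isLt; omega), Matrix.zero_apply]⟩
    obtain ⟨u, hu⟩ : IsUnit (1 + shift m F) := hN.isUnit_one_add
    have hu' : (u : Matrix (Fin m) (Fin m) F) - 1 = shift m F := by rw [hu]; abel
    obtain ⟨j, hj⟩ := (Cfsg.Agent.UnipotentGL.pPow_order_iff p u).2 (by rwa [hu'])
    refine ⟨u, ⟨j, hj⟩, ?_⟩
    rw [hj]
    by_contra h
    push Not at h
    have h0 := (Cfsg.Agent.UnipotentGL.pow_eq_one_iff p u j).1 (by rw [← hj, pow_orderOf_eq_one])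
    rw [hu'] at h0
    have := congrFun (congrFun h0 ⟨0, hm⟩) ⟨p ^ j, h⟩
    simp [shift_pow_apply] at this

end Cfsg.Agent.S2368
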