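import Cfsg.Statements.S2369
import Cfsg.Agent.Lib.RegularOrder98
import Cfsg.Agent.Lib.ChevSylowTorus68
import Cfsg.Agent.Lib.TwistedF4Torus
import Cfsg.Agent.S2372
-- import your own Cfsg.Agent.* helpers here

set_option autoImplicit false
set_option linter.unusedSectionVars false
set_option maxRecDepth 20000
open Cfsg

namespace Cfsg.Agent.S2369

open Cfsg.Lie Cfsg.Agent.ChevalleyCert Cfsg.Agent.ChevalleyCore Cfsg.Agent.ChevWeyl Cfsg.Agent.ChevBruhat
  Cfsg.Agent.ChevRootCoord68
open Cfsg.Agent.ChevCoxTorus68 (tor Pm)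
open Cfsg.Agent.ChevalleyTorusCard (act)
open Polynomial Matrix

/-- the certificate with computable coordinates -/
abbrev c4 : Cert chevF4 := ChevalleyDataF4.cert

/-- the Weyl data -/
noncomputable abbrev X4 : Weyl chevF4 := ChevWeylData.f4

/-- the exceptional symmetry of the roots -/
abbrev rh (r : ℕ) : ℕ := ChevExcGraphData.excF4.rho r

/-- the exponents of the exceptional symmetry -/
abbrev ex (r : ℕ) : ℕ := ChevExcGraphData.excF4.e r

theorem rho_data : ∀ s < chevF4.nroots, rh s < chevF4.nroots ∧ rh (rh s) = s ∧ ex (rh s) * ex s = 2 ∧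
    chevF4.neg s < chevF4.nroots ∧ rh (chevF4.neg s) = chevF4.neg (rh s) ∧ ex (chevF4.neg s) = ex s := by
  decide +kernel

theorem ex_reflect : ∀ i < chevF4.rank, ∀ r < chevF4.nroots,
    ex (rh (chevF4.reflectRoot i r)) = ex (rh r) := by
  decide +kernel

theorem ex_img (w : X4.W) : ∀ {r : ℕ}, r < chevF4.nroots → ex (rh (X4.img w r)) = ex (rh r) := by
  induction w using X4.w_induction with
  | one => intro r _; rw [X4.img_one]
  | step i w ih =>
    intro r hr
    rw [X4.img_mul, X4.img_simple i (X4.img_lt w hr), ex_reflect _ i.isLt _ (X4.img_lt w hr), ih hr]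

/-- the symmetry on coordinates -/
def R0 : Matrix (Fin chevF4.rank) (Fin chevF4.rank) ℤ :=
  Matrix.of fun j k => (ex (rh (chevF4.simple j.val)) : ℤ) * c4.coef (rh (chevF4.simple j.val)) k.val

theorem R0_lin : ∀ s : Fin chevF4.nroots, ∀ k : Fin chevF4.rank,
    Matrix.vecMul (ChevSylowTorus68.coefZ c4 s.val) R0 k = (ex (rh s.val) : ℤ) * c4.coef (rh s.val) k.val := by
  decide +kernel

/-- the twisted permutation of the roots -/
noncomputable def perm (w : X4.W) (s : ℕ) : ℕ := X4.img w (rh s)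

theorem perm_lt (w : X4.W) {s : ℕ} (hs : s < chevF4.nroots) : perm w s < chevF4.nroots :=
  X4.img_lt w (rho_data s hs).1

theorem iter_lt (w : X4.W) {s : ℕ} (hs : s < chevF4.nroots) : ∀ k, (perm w)^[k] s < chevF4.nroots
  | 0 => hs
  | k + 1 => by rw [Function.iterate_succ_apply']; exact perm_lt w (iter_lt w hs k)

theorem ex_perm (w : X4.W) {s : ℕ} (hs : s < chevF4.nroots) : ex (rh (perm w s)) = ex s := by
  rw [perm, ex_img w (rho_data s hs).1, (rho_data s hs).2.1]

/-- the twisted map on coordinates -/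
noncomputable def mat (w : X4.W) : Matrix (Fin chevF4.rank) (Fin chevF4.rank) ℤ := R0 * Pm c4 X4 w

/-- its halved square -/
noncomputable def mat2 (w : X4.W) : Matrix (Fin chevF4.rank) (Fin chevF4.rank) ℤ :=
  Matrix.of fun j k => c4.coef (perm w (perm w (chevF4.simple j.val))) k.val

theorem vecMul_mat (w : X4.W) {s : ℕ} (hs : s < chevF4.nroots) :
    Matrix.vecMul (ChevSylowTorus68.coefZ c4 s) (mat w) =
      (ex (rh s) : ℤ) • ChevSylowTorus68.coefZ c4 (perm w s) := by
  have h : Matrix.vecMul (ChevSylowTorus68.coefZ c4 s) R0 =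
      (ex (rh s) : ℤ) • ChevSylowTorus68.coefZ c4 (rh s) :=
    funext fun k => R0_lin ⟨s, hs⟩ k
  rw [mat, ← Matrix.vecMul_vecMul, h, Matrix.smul_vecMul,
    ChevSylowTorus68.vecMul_coefZ c4 X4 w (rho_data s hs).1, perm]

theorem coefZ_simple (j : Fin chevF4.rank) :
    ChevSylowTorus68.coefZ c4 (chevF4.simple j.val) = Pi.single j 1 := by
  funext k
  simp only [ChevSylowTorus68.coefZ, c4.coef_simple _ _ j.isLt k.isLt, Pi.single_apply, Fin.val_inj]

theorem mat_sq (w : X4.W) : mat w * mat w = (2 : ℤ) • mat2 w := by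
  funext j k
  have hj := X4.simple_lt j.isLt
  have h : Matrix.vecMul (ChevSylowTorus68.coefZ c4 (chevF4.simple j.val)) (mat w * mat w) =
      (2 : ℤ) • ChevSylowTorus68.coefZ c4 (perm w (perm w (chevF4.simple j.val))) := by
    rw [← Matrix.vecMul_vecMul, vecMul_mat w hj, Matrix.smul_vecMul, vecMul_mat w (perm_lt w hj), smul_smul,
      ex_perm w hj]
    congr 1
    exact_mod_cast (rho_data _ hj).2.2.1
  rw [coefZ_simple, Matrix.single_one_vecMul] at h
  simpa [mat2, ChevSylowTorus68.coefZ] using congrFun h k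

theorem vecMul_mat2 (w : X4.W) {s : ℕ} (hs : s < chevF4.nroots) :
    Matrix.vecMul (ChevSylowTorus68.coefZ c4 s) (mat2 w) =
      ChevSylowTorus68.coefZ c4 (perm w (perm w s)) := by
  apply smul_right_injective _ (two_ne_zero : (2 : ℤ) ≠ 0)
  show (2 : ℤ) • _ = (2 : ℤ) • _
  rw [← Matrix.vecMul_smul, ← mat_sq, ← Matrix.vecMul_vecMul, vecMul_mat w hs, Matrix.smul_vecMul,
    vecMul_mat w (perm_lt w hs), smul_smul, ex_perm w hs]
  congr 1
  exact_mod_cast (rho_data _ hs).2.2.1

theorem vecMul_mat_pow (w : X4.W) {s : ℕ} (hs : s < chevF4.nroots) : ∀ k : ℕ,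
    ∃ c : ℤ, Matrix.vecMul (ChevSylowTorus68.coefZ c4 s) (mat w ^ k) =
      c • ChevSylowTorus68.coefZ c4 ((perm w)^[k] s)
  | 0 => ⟨1, by simp⟩
  | k + 1 => by
    obtain ⟨c, hc⟩ := vecMul_mat_pow w hs k
    exact ⟨c * (ex (rh ((perm w)^[k] s)) : ℤ), by
      rw [pow_succ, ← Matrix.vecMul_vecMul, hc, Matrix.smul_vecMul, vecMul_mat w (iter_lt w hs k), smul_smul,
        Function.iterate_succ_apply']⟩

theorem vecMul_mat2_pow (w : X4.W) {s : ℕ} (hs : s < chevF4.nroots) : ∀ k : ℕ,
    Matrix.vecMul (ChevSylowTorus68.coefZ c4 s) (mat2 w ^ k) =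
      ChevSylowTorus68.coefZ c4 ((perm w)^[2 * k] s)
  | 0 => by simp
  | k + 1 => by
    rw [pow_succ, ← Matrix.vecMul_vecMul, vecMul_mat2_pow w hs k, vecMul_mat2 w (iter_lt w hs _),
      show 2 * (k + 1) = (2 * k + 1) + 1 by ring, Function.iterate_succ_apply', Function.iterate_succ_apply']

theorem exists_period (w : X4.W) : ∃ N, 0 < N ∧ mat2 w ^ N = 1 := by
  let p : Fin chevF4.nroots → Fin chevF4.nroots := fun s => ⟨perm w s, perm_lt w s.isLt⟩
  have hp : Function.Injective p := fun s t h => by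
    have h1 := X4.img_injective w (congrArg Fin.val h : perm w s = perm w t)
    have h2 := congrArg rh h1
    rw [(rho_data _ s.isLt).2.1, (rho_data _ t.isLt).2.1] at h2
    exact Fin.ext h2
  let e := Equiv.ofBijective p (Finite.injective_iff_bijective.1 hp)
  refine ⟨orderOf e, orderOf_pos e, ?_⟩
  have hit : ∀ (k : ℕ) (s : Fin chevF4.nroots), (perm w)^[k] s.val = ((e ^ k) s).val := by
    intro k
    induction k with
    | zero => simp
    | succ k ih => intro s; rw [Function.iterate_succ_apply', ih, pow_succ']; rfl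
  funext j k
  have h := congrFun (vecMul_mat2_pow w (X4.simple_lt j.isLt) (orderOf e)) k
  rw [coefZ_simple, Matrix.single_one_vecMul, hit _ ⟨_, X4.simple_lt j.isLt⟩, pow_mul',
    pow_orderOf_eq_one, one_pow] at h
  rw [show (mat2 w ^ orderOf e) j k = (mat2 w ^ orderOf e).row j k from rfl, h]
  exact congrFun (coefZ_simple j) k |>.trans (by simp [Pi.single_apply, Matrix.one_apply, eq_comm])

theorem rat_irreducible : Irreducible (X ^ 4 - C 2 * X ^ 2 + C 4 : ℚ[X]) := by
  have hdeg : (X ^ 4 - C 2 * X ^ 2 + C 4 : ℚ[X]).natDegree = 4 := by compute_degree!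
  have hm : (X ^ 4 - C 2 * X ^ 2 + C 4 : ℚ[X]).Monic := by monicity!
  rw [hm.irreducible_iff_lt_natDegree_lt (fun h => by rw [h, natDegree_one] at hdeg; omega)]
  intro q hq hq2 hdvd
  rw [hdeg, Finset.mem_Ioc] at hq2
  obtain ⟨g, hg⟩ := hdvd
  have hgm : g.Monic := hq.of_mul_monic_left (hg ▸ hm)
  have hd : q.natDegree + g.natDegree = 4 := by rw [← hq.natDegree_mul hgm, ← hg, hdeg]
  have h12 : q.natDegree = 1 ∨ q.natDegree = 2 := by omega
  rcases h12 with h1 | h2
  · have hx := congrArg (eval (-q.coeff 0)) hg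
    rw [eval_mul, hq.eq_X_add_C h1] at hx
    simp only [eval_add, eval_X, eval_C, coeff_add, coeff_X_zero, zero_add, coeff_C_zero, neg_add_cancel, zero_mul,
      eval_sub, eval_mul, eval_pow] at hx
    nlinarith [sq_nonneg ((q.coeff 0) ^ 2 - 1)]
  · have hg2 : g.natDegree = 2 := by omega
    have eq2 : ∀ f : ℚ[X], f.Monic → f.natDegree = 2 → f = X ^ 2 + C (f.coeff 1) * X + C (f.coeff 0) := by
      intro f hf hf2
      conv_lhs => rw [f.as_sum_range_C_mul_X_pow, hf2]
      have : f.coeff 2 = 1 := by rw [← hf2]; exact hf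
      simp [Finset.sum_range_succ, this]
      ring
    rw [eq2 q hq h2, eq2 g hgm hg2] at hg
    set a := q.coeff 1
    set b := q.coeff 0
    set c := g.coeff 1
    set d := g.coeff 0
    have hev : ∀ x : ℚ, x ^ 4 - 2 * x ^ 2 + 4 = (x ^ 2 + a * x + b) * (x ^ 2 + c * x + d) := fun x => by
      simpa using congrArg (eval x) hg
    have e0 := hev 0; have e1 := hev 1; have e2 := hev (-1); have e3 := hev 2; have e4 := hev (-2)
    have k0 : b * d = 4 := by linarith
    have k1 : a * d + b * c = 0 := by linarith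
    have k3 : a + c = 0 := by linarith
    have k2 : b + d + a * c = -2 := by linarith
    rw [show c = -a by linarith] at k1 k2
    rcases eq_or_ne a 0 with h | h
    · rw [h] at k2
      nlinarith [sq_nonneg (b - d)]
    · have hbd : d = b := by
        have : a * (d - b) = 0 := by linarith
        linarith [(mul_eq_zero.1 this).resolve_left h]
      rw [hbd] at k0 k2
      have hb : b = 2 ∨ b = -2 := by
        have : (b - 2) * (b + 2) = 0 := by linarith
        rcases mul_eq_zero.1 this with h' | h' <;> [left; right] <;> linarith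
      rcases hb with hb | hb <;> rw [hb] at k2
      · have h6 : IsSquare ((6 : ℕ) : ℚ) := ⟨a, by push_cast; linarith⟩
        rw [Rat.isSquare_natCast_iff] at h6
        obtain ⟨r, hr⟩ := h6
        have : r ≤ 2 := by nlinarith
        interval_cases r <;> omega
      · nlinarith [sq_nonneg a]

theorem mat_irreducible (w : X4.W) (h6 : cyclotomic 6 ℤ ∣ (mat2 w).charpoly) :
    Irreducible ((mat w).charpoly.map (Int.castRingHom ℚ)) := by
  set cc := Int.castRingHom ℚ
  set M := cc.mapMatrix (mat w)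
  set P := cc.mapMatrix (mat2 w)
  have hMP : M * M = (2 : ℚ) • P := by
    rw [← map_mul, mat_sq, map_zsmul, ← Int.cast_smul_eq_zsmul ℚ]
    norm_num [P]
  have hf : (mat w).charpoly.map cc = M.charpoly := by rw [← Matrix.charpoly_map]; rfl
  set p : ℚ[X] := X ^ 4 - C 2 * X ^ 2 + C 4 with hp
  have hdet : (aeval M p).det = 0 := by
    have e : aeval M p = (4 : ℚ) • (P * P - P + 1) := by
      have e4 : M ^ 4 = (4 : ℚ) • (P * P) := by
        rw [show M ^ 4 = (M * M) * (M * M) by noncomm_ring, hMP, Matrix.smul_mul, Matrix.mul_smul, smul_smul]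
        norm_num
      simp only [hp, map_add, map_sub, map_mul, map_pow, aeval_X, aeval_C, Algebra.algebraMap_eq_smul_one,
        Matrix.smul_mul, one_mul, e4]
      rw [pow_two, hMP, smul_smul]
      norm_num [smul_add, smul_sub]
    rw [e, Matrix.det_smul]
    suffices h : (P * P - P + 1).det = 0 by rw [h, mul_zero]
    obtain ⟨z, hz⟩ := IsAlgClosed.exists_root (X ^ 2 - X + 1 : ℂ[X]) (by
      rw [show (X ^ 2 - X + 1 : ℂ[X]).degree = 2 by compute_degree!]; decide)
    simp only [IsRoot.def, eval_add, eval_sub, eval_pow, eval_X, eval_one] at hz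
    let ι := algebraMap ℚ ℂ
    apply ι.injective
    rw [map_zero, RingHom.map_det]
    have hdet0 : (Matrix.scalar (Fin chevF4.rank) z - ι.mapMatrix P).det = 0 := by
      rw [← Matrix.eval_charpoly]
      obtain ⟨g, hg⟩ := h6
      rw [show ι.mapMatrix P = (mat2 w).map (ι.comp cc) by ext i j; simp [P], Matrix.charpoly_map, hg,
        Polynomial.map_mul, map_cyclotomic, cyclotomic_six, eval_mul]
      simp [hz]
    set Q := ι.mapMatrix P
    set S := Matrix.scalar (Fin chevF4.rank) z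
    have hfac : ι.mapMatrix (P * P - P + 1) = (S - Q) * ((1 - Q) - S) := by
      have hc : S * Q = Q * S := (Matrix.scalar_commute z (fun r => Commute.all _ _) Q).eq
      have hS : S * S - S + 1 = 0 := by
        have := congrArg (Matrix.scalar (Fin chevF4.rank)) hz
        rwa [map_add, map_sub, map_pow, map_one, map_zero, pow_two] at this
      rw [map_add, map_sub, map_mul, map_one]
      calc Q * Q - Q + 1 = (S - Q) * ((1 - Q) - S) + (S * S - S + 1) + (S * Q - Q * S) := by noncomm_ring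
        _ = _ := by rw [hS, hc]; simp
    rw [hfac, Matrix.det_mul, hdet0, zero_mul]
  have hfm : M.charpoly.Monic := M.charpoly_monic
  have hdvd : p ∣ M.charpoly := by
    by_contra hnd
    obtain ⟨u, v, huv⟩ := rat_irreducible.coprime_iff_not_dvd.2 hnd
    have h1 := congrArg (fun x => (aeval M x).det) huv
    rw [map_add, map_mul, map_mul, Matrix.aeval_self_charpoly, mul_zero, add_zero, Matrix.det_mul, hdet,
      mul_zero, map_one, Matrix.det_one] at h1
    exact zero_ne_one h1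
  have : M.charpoly = p := eq_of_monic_of_dvd_of_natDegree_le (by rw [hp]; monicity!) hfm hdvd (by
    rw [Matrix.charpoly_natDegree_eq_dim, Fintype.card_fin, hp,
      show (X ^ 4 - C 2 * X ^ 2 + C 4 : ℚ[X]).natDegree = 4 by compute_degree!]
    rfl)
  rw [hf, this]
  exact rat_irreducible

/-- orbits of the twisted permutation span -/
theorem orbit_full (w : X4.W) {e : ℕ} (he : e = 6 ∨ e = 12) (hdvd : cyclotomic e ℤ ∣ (mat2 w).charpoly)
    {φ : Fin chevF4.rank → ℤ} (hφ : φ ≠ 0) {s : ℕ} (hs : s < chevF4.nroots) :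
    ∃ k, ev c4 φ ((perm w)^[k] s) ≠ 0 := by
  by_contra hcon
  push Not at hcon
  have hz : ∀ t, ChevSylowTorus68.coefZ c4 t ⬝ᵥ φ = ev c4 φ t := fun t => by
    simp [dotProduct, ev, ChevSylowTorus68.coefZ]
  have ha : ChevSylowTorus68.coefZ c4 s = 0 := by
    rcases he with rfl | rfl
    · refine RegularOrder98.orbit_span_irred (mat w) (mat_irreducible w hdvd) hφ fun k => ?_
      obtain ⟨c, hc⟩ := vecMul_mat_pow w hs k
      rw [Matrix.dotProduct_mulVec, hc, smul_dotProduct, hz, hcon, smul_zero]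
    · refine RegularOrder98.orbit_span_irred (mat2 w) ?_ hφ fun k => ?_
      · have h12 : (mat2 w).charpoly = cyclotomic 12 ℤ :=
          eq_of_monic_of_dvd_of_natDegree_le (cyclotomic.monic 12 ℤ) (Matrix.charpoly_monic _) hdvd (by
            rw [natDegree_cyclotomic, Matrix.charpoly_natDegree_eq_dim, Fintype.card_fin]; decide +kernel)
        rw [h12, map_cyclotomic]
        exact cyclotomic.irreducible_rat (by norm_num)
      · rw [Matrix.dotProduct_mulVec, vecMul_mat2_pow w hs k, hz, hcon]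
  refine ChevalleyRoots.neg_ne c4 hs (ChevalleyRoots.coef_inj c4 (c4.neg_lt s) hs fun j hj => ?_)
  have := congrFun ha ⟨j, hj⟩
  simp only [ChevSylowTorus68.coefZ, Pi.zero_apply] at this
  rw [c4.coef_neg s j hs hj, this, neg_zero]

theorem zsum {A : Type*} [AddCommGroup A] {n : ℕ} (c : ℤ) (f : Fin n → A) : c • ∑ k, f k = ∑ k, c • f k :=
  Finset.smul_sum

section Aux

variable {L : Type*} [Field L] [Fintype L] [CharP L 2] (m : ℕ)

theorem xg_cert (r : ℕ) (t : L) : xg TwistedF4Classes.cf r t = xg c4 r t :=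
  Units.ext ((coe_xg TwistedF4Classes.cf r t).trans (coe_xg c4 r t).symm)

theorem sigma_c4 {r : ℕ} (hr : r < chevF4.nroots) (t : L) (h : xg c4 r t ∈ chevF4.group L) :
    TwistedF4Classes.sigma m ⟨_, h⟩ = xg c4 (rh r) (t ^ (2 ^ m * ex r)) := by
  have h' : xg TwistedF4Classes.cf r t ∈ chevF4.group L := by rw [xg_cert]; exact h
  rw [show (⟨_, h⟩ : ↥(chevF4.group L)) = ⟨_, h'⟩ from Subtype.ext (xg_cert r t).symm,
    TwistedF4Classes.sigma_x m hr t h', xg_cert]

theorem xg_eq_of_coe {g : GL chevF4.Idx L} {r : Fin chevF4.nroots} {t : L}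
    (h : (g : Matrix chevF4.Idx chevF4.Idx L) = chevF4.xMat L r t) : g = xg c4 r t :=
  Units.ext (h.trans (by rw [coe_xg]; simp [ChevalleyDatum.x]))

theorem sigma_mem (g : ↥(chevF4.group L)) : TwistedF4Classes.sigma m g ∈ chevF4.group L := by
  simp [TwistedF4Classes.sigma]

theorem sigma_ng {r : ℕ} (hr : r < chevF4.nroots) (t : L) (h : ng c4 r t ∈ chevF4.group L) :
    TwistedF4Classes.sigma m ⟨_, h⟩ = ng c4 (rh r) (t ^ (2 ^ m * ex r)) := by
  obtain ⟨-, -, -, hn, hn1, hn2⟩ := rho_data r hr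
  have m1 : xg c4 r t ∈ chevF4.group L := xg_mem_group c4 _ _
  have m2 : xg c4 (chevF4.neg r) (-t⁻¹) ∈ chevF4.group L := xg_mem_group c4 _ _
  rw [show (⟨_, h⟩ : ↥(chevF4.group L)) = ⟨_, m1⟩ * ⟨_, m2⟩ * ⟨_, m1⟩ from rfl, map_mul, map_mul,
    sigma_c4 m hr t m1, sigma_c4 m hn _ m2, hn1, hn2, CharTwo.neg_eq, inv_pow]
  rw [ng, CharTwo.neg_eq]

theorem sigma_hg {r : ℕ} (hr : r < chevF4.nroots) (t : L) (h : hg c4 r t ∈ chevF4.group L) :
    TwistedF4Classes.sigma m ⟨_, h⟩ = hg c4 (rh r) (t ^ (2 ^ m * ex r)) := by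
  have hm : ∀ u, ng c4 r u ∈ chevF4.group L := fun u => by
    rw [ng]; exact mul_mem (mul_mem (xg_mem_group c4 _ _) (xg_mem_group c4 _ _)) (xg_mem_group c4 _ _)
  rw [show (⟨_, h⟩ : ↥(chevF4.group L)) = ⟨_, hm t⟩ * ⟨_, hm (-1)⟩ from rfl, map_mul, sigma_ng m hr t (hm t),
    sigma_ng m hr _ (hm (-1)), hg, CharTwo.neg_eq, one_pow]

/-- the endomorphism preserves the torus -/
theorem sigma_H {g : GL chevF4.Idx L} (hH : g ∈ chevF4.diagonalSubgroup L) (hg' : g ∈ chevF4.group L) :
    TwistedF4Classes.sigma m ⟨g, hg'⟩ ∈ chevF4.diagonalSubgroup L := by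
  let S : Sys chevF4 L := ChevBruhatInstance.mkSys c4 X4 S2372.supp
  have key : ∀ g ∈ chevF4.diagonalSubgroup L,
      g ∈ ((chevF4.diagonalSubgroup L).comap (TwistedF4Classes.sigma m)).map (chevF4.group L).subtype := by
    intro g hg
    induction hg using Subgroup.closure_induction with
    | mem g hg =>
      obtain ⟨r, t, hr, ht, hgt⟩ := hg
      obtain rfl : g = hg c4 r t := Units.ext (hgt.trans (coe_hg c4 r t).symm)
      have hm : hg c4 r t ∈ chevF4.group L := S.H_le_group (ChevalleyTorus.hg_mem_H c4 hr ht)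
      refine Subgroup.mem_map.2 ⟨⟨_, hm⟩, ?_, rfl⟩
      rw [Subgroup.mem_comap, sigma_hg m hr t hm]
      exact ChevalleyTorus.hg_mem_H c4 (rho_data r hr).1 (pow_ne_zero _ ht)
    | one => exact one_mem _
    | mul a b _ _ ha hb => exact mul_mem ha hb
    | inv a _ ha => exact inv_mem ha
  obtain ⟨y, hy, hyg⟩ := Subgroup.mem_map.1 (key g hH)
  rw [show (⟨g, hg'⟩ : ↥(chevF4.group L)) = y from Subtype.ext hyg.symm]
  exact hy

theorem tor_group (χ : Fin chevF4.rank → Additive Lˣ) : tor ChevalleyTorusCard.smithF4 χ ∈ chevF4.group L :=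
  (ChevBruhatInstance.mkSys c4 X4 S2372.supp : Sys chevF4 L).H_le_group
    ((ChevCoxTorus68.mem_H_iff c4 _).2 ⟨χ, rfl⟩)

theorem sigma_tor (χ : Fin chevF4.rank → Additive Lˣ) :
    ∃ χ', TwistedF4Classes.sigma m ⟨_, tor_group χ⟩ = tor ChevalleyTorusCard.smithF4 χ' ∧
      ∀ r, r < chevF4.nroots → ev c4 χ' (rh r) = (2 ^ m * ex r) • ev c4 χ r := by
  let S : Sys chevF4 L := ChevBruhatInstance.mkSys c4 X4 S2372.supp
  obtain ⟨χ', hχ'⟩ := (ChevCoxTorus68.mem_H_iff c4 ChevalleyTorusCard.smithF4).1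
    (sigma_H m ((ChevCoxTorus68.mem_H_iff c4 _).2 ⟨χ, rfl⟩) (tor_group χ))
  refine ⟨χ', hχ'.symm, fun r hr => ?_⟩
  have hm : ∀ t : L, xg c4 r t ∈ chevF4.group L := fun t => xg_mem_group c4 _ _
  have e : (⟨_, tor_group χ⟩ : ↥(chevF4.group L)) * ⟨_, hm 1⟩ * (⟨_, tor_group χ⟩)⁻¹ =
      ⟨_, hm (((ev c4 χ r).toMul : Lˣ) * 1)⟩ :=
    Subtype.ext (ChevCoxTorus68.tor_conj_xg c4 ChevalleyTorusCard.smithF4 χ hr 1)
  have e' := congrArg (TwistedF4Classes.sigma m) e
  rw [map_mul, map_mul, map_inv, sigma_c4 m hr _ (hm 1), sigma_c4 m hr _ (hm _), ← hχ', one_pow,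
    ChevCoxTorus68.tor_conj_xg c4 _ χ' (rho_data r hr).1] at e'
  have h2 := (S.xg_inj _ _ (rho_data r hr).1 (rho_data r hr).1 _ _
    (mul_ne_zero (Units.ne_zero _) one_ne_zero) e').2
  rw [mul_one, mul_one, ← Units.val_pow_eq_pow_val] at h2
  exact Additive.toMul.injective (Units.ext h2)

variable {K : Type*} [Field K] [Fintype K] [CharP K 2]

theorem map_sigma (ι : K →+* L) {g : GL chevF4.Idx K} (hg : g ∈ chevF4.group K) :
    ∀ h : Matrix.GeneralLinearGroup.map ι g ∈ chevF4.group L,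
      TwistedF4Classes.sigma m ⟨_, h⟩ = Matrix.GeneralLinearGroup.map ι (TwistedF4Classes.sigma m ⟨g, hg⟩) := by
  induction hg using Subgroup.closure_induction with
  | mem g hg =>
    obtain ⟨r, t, hgt⟩ := hg
    intro h
    obtain rfl := xg_eq_of_coe hgt
    have h2 : xg c4 r.val (ι t) ∈ chevF4.group L := xg_mem_group c4 _ _
    rw [show (⟨_, h⟩ : ↥(chevF4.group L)) = ⟨_, h2⟩ from Subtype.ext (TwistedTools.xg_map c4 ι _ t),
      sigma_c4 m r.isLt _ h2]
    have h3 := sigma_c4 (L := K) m r.isLt t (xg_mem_group c4 _ _)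
    refine Eq.trans ?_ (congrArg (Matrix.GeneralLinearGroup.map ι) h3).symm
    rw [TwistedTools.xg_map, map_pow]
  | one =>
    intro h
    rw [show (⟨_, h⟩ : ↥(chevF4.group L)) = 1 from Subtype.ext (map_one _), map_one]
    exact (map_one _).symm.trans (congrArg _ (map_one (TwistedF4Classes.sigma (K := K) m)).symm)
  | mul a b ha hb iha ihb =>
    intro h
    have h1 := ChevCoxTorus68.map_mem_group c4 ι ha
    have h2 := ChevCoxTorus68.map_mem_group c4 ι hb
    rw [show (⟨_, h⟩ : ↥(chevF4.group L)) = ⟨_, h1⟩ * ⟨_, h2⟩ from Subtype.ext (map_mul _ a b), map_mul, iha h1,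
      ihb h2, ← map_mul, ← map_mul]
    rfl
  | inv a ha iha =>
    intro h
    have h1 := ChevCoxTorus68.map_mem_group c4 ι ha
    rw [show (⟨_, h⟩ : ↥(chevF4.group L)) = (⟨_, h1⟩)⁻¹ from Subtype.ext (map_inv _ a), map_inv, iha h1, ← map_inv,
      ← map_inv]
    rfl

end Aux

theorem order_mem {q r : ℕ} [Fact r.Prime] (hq : 1 ≤ q) (h2 : r ≠ 2) (hq4 : (q : ZMod r) ^ 4 ≠ 1)
    (hq0 : (q : ZMod r) ≠ 0)
    (h : r ∣ q ^ 12 * (q - 1) * (q ^ 3 + 1) * (q ^ 4 - 1) * (q ^ 6 + 1)) :
    orderOf (q : ZMod r) = 6 ∨ orderOf (q : ZMod r) = 12 := by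
  have h' := (ZMod.natCast_eq_zero_iff _ r).2 h
  push_cast [Nat.cast_sub hq, Nat.cast_sub (Nat.one_le_pow 4 q hq)] at h'
  have hne : (2 : ZMod r) ≠ 0 := by
    intro h0
    have := (ZMod.natCast_eq_zero_iff 2 r).1 (by exact_mod_cast h0)
    exact h2 ((Nat.prime_dvd_prime_iff_eq (Fact.out : r.Prime) Nat.prime_two).1 this)
  set Q : ZMod r := (q : ZMod r)
  have h36 : Q ^ 3 = -1 ∨ Q ^ 6 = -1 := by
    rcases mul_eq_zero.1 h' with h' | h'
    · rcases mul_eq_zero.1 h' with h' | h'
      · rcases mul_eq_zero.1 h' with h' | h'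
        · rcases mul_eq_zero.1 h' with h' | h'
          · exact absurd (pow_eq_zero_iff (n := 12) (by norm_num) |>.1 h') hq0
          · exact absurd (by rw [sub_eq_zero.1 h', one_pow]) hq4
        · exact Or.inl (eq_neg_of_add_eq_zero_left h')
      · exact absurd (sub_eq_zero.1 h') hq4
    · exact Or.inr (eq_neg_of_add_eq_zero_left h')
  have h12 : Q ^ 12 = 1 := by
    rcases h36 with h' | h'
    · rw [show (12 : ℕ) = 3 * 4 from rfl, pow_mul, h']; ring
    · rw [show (12 : ℕ) = 6 * 2 from rfl, pow_mul, h']; ring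
  have hd := orderOf_dvd_of_pow_eq_one h12
  have hn4 : ¬ orderOf Q ∣ 4 := fun hd' => hq4 (orderOf_dvd_iff_pow_eq_one.1 hd')
  have hn3 : ¬ orderOf Q ∣ 3 := fun hd' => by
    have h3 := orderOf_dvd_iff_pow_eq_one.1 hd'
    rcases h36 with h' | h'
    · exact hne (by linear_combination h3.symm.trans h')
    · rw [show (6 : ℕ) = 3 * 2 from rfl, pow_mul, h3, one_pow] at h'
      exact hne (by linear_combination h')
  have : orderOf Q ∈ Nat.divisors 12 := Nat.mem_divisors.2 ⟨hd, by norm_num⟩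
  rw [show Nat.divisors 12 = {1, 2, 3, 4, 6, 12} by decide +kernel] at this
  simp only [Finset.mem_insert, Finset.mem_singleton] at this
  rcases this with e | e | e | e | e | e <;> rw [e] at hn4 hn3 <;> first | omega | (norm_num at hn4 hn3)

section Main

variable {K : Type*} [Field K] [Fintype K] [CharP K 2] {m : ℕ}

set_option maxHeartbeats 1200000 in
/-- no element of such prime order commutes with an involution -/
theorem no_commute (hK : Fintype.card K = 2 ^ (2 * m + 1)) {r : ℕ} [Fact r.Prime]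
    (he : orderOf ((2 ^ (2 * m + 1) : ℕ) : ZMod r) = 6 ∨ orderOf ((2 ^ (2 * m + 1) : ℕ) : ZMod r) = 12)
    {x a : GL chevF4.Idx K} (hx : x ∈ twistedF4 K (2 ^ m)) (ha : a ∈ twistedF4 K (2 ^ m)) (hxr : orderOf x = r)
    (ha2 : a * a = 1) (hax : Commute a x) : a = 1 := by
  classical
  have hrp : r.Prime := Fact.out
  set q := 2 ^ (2 * m + 1) with hq_def
  have hq1 : 1 ≤ q := Nat.one_le_two_pow
  set e := orderOf (q : ZMod r) with he_def
  have hq0 : (q : ZMod r) ≠ 0 := fun h0 => by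
    have : e = 0 := by
      rw [he_def, h0, orderOf_eq_zero_iff']
      intro n hn
      rw [zero_pow hn.ne']
      exact zero_ne_one
    omega
  have h7 : 7 ≤ r := by
    have h1 := Nat.le_of_dvd (by have := hrp.two_le; omega) (ZMod.orderOf_dvd_card_sub_one hq0)
    omega
  let L := FiniteField.Extension K 2 12
  let : Fintype L := Fintype.ofFinite _
  let ι : K →+* L := algebraMap K L
  have : CharP L 2 := charP_of_injective_algebraMap ι.injective 2
  have hcardL : Fintype.card L = q ^ 12 := by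
    rw [← Nat.card_eq_fintype_card, FiniteField.natCard_extension, Nat.card_eq_fintype_card, hK]
  have hcong : (Fintype.card L : ZMod r) = 1 := by
    rw [hcardL, Nat.cast_pow]
    exact orderOf_dvd_iff_pow_eq_one.1 (by rw [← he_def]; rcases he with h | h <;> rw [h] <;> norm_num)
  have hrL : r ∣ Fintype.card L - 1 := by
    rw [← ZMod.natCast_eq_zero_iff, Nat.cast_sub Fintype.card_pos, hcong, Nat.cast_one, sub_self]
  let mp : GL chevF4.Idx K →* GL chevF4.Idx L := Matrix.GeneralLinearGroup.map ι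
  have hmp : Function.Injective mp := by
    intro u v huv
    apply Units.ext
    have h := congrArg (fun g : GL chevF4.Idx L => (g : Matrix chevF4.Idx chevF4.Idx L)) huv
    simp only [mp, ChevFieldAut77.coe_map] at h
    exact Matrix.map_injective ι.injective h
  have hfix := TwistedF4Classes.le_fixed m hK
  have hsig : ∀ {y : GL chevF4.Idx K} (hy : y ∈ twistedF4 K (2 ^ m)) (h : mp y ∈ chevF4.group L),
      TwistedF4Classes.sigma m ⟨_, h⟩ = mp y := by
    intro y hy h
    obtain ⟨hyG, hy'⟩ := hfix hy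
    rw [map_sigma m ι hyG h]
    congr 1
    exact ((TwistedF4Classes.tw (K := K) m).sg_eq hyG).symm.trans hy'
  have hxG := ChevCoxTorus68.map_mem_group c4 ι (hfix hx).1
  have haG := ChevCoxTorus68.map_mem_group c4 ι (hfix ha).1
  set h := mp x with hh_def
  have hordh : orderOf h = r := by rw [hh_def, orderOf_injective mp hmp, hxr]
  have hQ : IsPGroup r ↥(Subgroup.zpowers (⟨h, hxG⟩ : ↥(chevF4.group L))) := by
    apply IsPGroup.of_card (n := 1)
    rw [Nat.card_zpowers, pow_one, ← Subgroup.orderOf_coe, hordh]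
  obtain ⟨g, hgG, hgQ⟩ := ChevSylowTorus68.exists_conj_torus c4 X4 S2372.supp ChevalleyTorusCard.smithF4
    [2, 6, 8, 12] S2372.poly rfl hcong (by
      intro d hd hrd
      have hd12 : d ∣ 24 := by
        simp only [List.mem_cons, List.not_mem_nil, or_false] at hd
        rcases hd with rfl | rfl | rfl | rfl <;> norm_num
      have h24 : r ∣ 2 ^ 3 * 3 := hrd.trans hd12
      rcases (Nat.Prime.dvd_mul hrp).1 h24 with h' | h'
      · have := Nat.le_of_dvd (by norm_num) (hrp.dvd_of_dvd_pow h'); omega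
      · have := Nat.le_of_dvd (by norm_num) h'; omega) hQ
  obtain ⟨χ, hχ⟩ := (ChevCoxTorus68.mem_H_iff c4 ChevalleyTorusCard.smithF4).1 (hgQ _ (Subgroup.mem_zpowers _))
  obtain ⟨χ', hχ', hev'⟩ := sigma_tor m χ
  set gs := TwistedF4Classes.sigma m ⟨g, hgG⟩ with hgs
  have hts : tor ChevalleyTorusCard.smithF4 χ' = gs * h * gs⁻¹ := by
    rw [← hχ', hgs, show h = TwistedF4Classes.sigma m ⟨h, hxG⟩ from (hsig hx hxG).symm, ← map_inv, ← map_mul,
      ← map_mul]
    exact congrArg _ (Subtype.ext hχ)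
  have htrans : g * gs⁻¹ * tor ChevalleyTorusCard.smithF4 χ' = tor ChevalleyTorusCard.smithF4 χ * (g * gs⁻¹) := by
    rw [hts, hχ]; simp [mul_assoc]
  obtain ⟨w, hw, -⟩ := ChevCoxTorus68.transporter c4 ChevalleyTorusCard.smithF4 X4 S2372.supp
    (mul_mem hgG (inv_mem (sigma_mem m _))) htrans
  have hperm : ∀ s, s < chevF4.nroots → ev c4 χ (perm w s) = (2 ^ m * ex s) • ev c4 χ s := fun s hs => by
    rw [perm, hw _ (rho_data s hs).1, hev' s hs]
  -- order of the parameter
  have htor0 : tor ChevalleyTorusCard.smithF4 (0 : Fin chevF4.rank → Additive Lˣ) = 1 :=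
    map_one (ChevCoxTorus68.torHom ChevalleyTorusCard.smithF4)
  have hχr : r • χ = 0 := by
    apply ChevCoxTorus68.tor_inj c4 ChevalleyTorusCard.smithF4
    have h2 := map_pow (ChevCoxTorus68.torHom ChevalleyTorusCard.smithF4) (Multiplicative.ofAdd χ) r
    rw [← ofAdd_nsmul] at h2
    refine (h2.trans ?_).trans htor0.symm
    show tor ChevalleyTorusCard.smithF4 χ ^ r = 1
    rw [hχ]
    show (g * h * g⁻¹) ^ r = 1
    rw [conj_pow, ← hordh, pow_orderOf_eq_one, mul_one, mul_inv_cancel]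
  have hχ0 : χ ≠ 0 := fun h0 => by
    rw [h0, htor0] at hχ
    have : h = 1 := conj_eq_one_iff.1 hχ.symm
    rw [this, orderOf_one] at hordh
    exact hrp.one_lt.ne hordh
  -- the eigenvalue equation
  have hA : ∀ j : Fin chevF4.rank, ∑ k, mat w j k • χ k = (2 ^ m * 2 : ℤ) • χ j := by
    intro j
    have hj := X4.simple_lt j.isLt
    have h1 := vecMul_mat w hj
    rw [coefZ_simple, Matrix.single_one_vecMul] at h1
    calc ∑ k, mat w j k • χ k = (ex (rh (chevF4.simple j.val)) : ℤ) • ev c4 χ (perm w (chevF4.simple j.val)) := by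
          unfold ev
          refine Eq.trans ?_ (zsum _ _).symm
          refine Finset.sum_congr rfl fun k _ => ?_
          rw [← mul_smul]
          exact congrArg (· • χ k) (congrFun h1 k)
      _ = _ := by
          rw [hperm _ hj, ev_simple, ← natCast_zsmul, ← mul_smul]
          congr 1
          have h2 := (rho_data _ hj).2.2.1
          push_cast
          calc ((ex (rh (chevF4.simple j.val)) : ℤ) * (2 ^ m * (ex (chevF4.simple j.val) : ℤ)))
              = 2 ^ m * ((ex (rh (chevF4.simple j.val)) * ex (chevF4.simple j.val) : ℕ) : ℤ) := by push_cast; ring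
            _ = _ := by rw [h2]; rfl
  have hP : act (mat2 w - (q : ℤ) • 1) χ = 0 := by
    have h1 : act (mat w * mat w) χ = (2 ^ m * 2 * (2 ^ m * 2) : ℤ) • χ := by
      have h0 : act (mat w) χ = (2 ^ m * 2 : ℤ) • χ := funext hA
      rw [ChevalleyTorusCard.act_mul, h0]
      funext j
      show ∑ k, mat w j k • ((2 ^ m * 2 : ℤ) • χ k) = (2 ^ m * 2 * (2 ^ m * 2) : ℤ) • χ j
      calc ∑ k, mat w j k • ((2 ^ m * 2 : ℤ) • χ k) = (2 ^ m * 2 : ℤ) • ∑ k, mat w j k • χ k :=
            (Finset.sum_congr rfl fun k _ => smul_comm _ _ _).trans (zsum _ _).symm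
        _ = _ := by rw [hA j, smul_smul]
    funext j
    have h2 : ∑ k, (2 : ℤ) • (mat2 w j k • χ k) = (2 ^ m * 2 * (2 ^ m * 2) : ℤ) • χ j := by
      refine Eq.trans ?_ (congrFun h1 j)
      refine Finset.sum_congr rfl fun k _ => ?_
      rw [← mul_smul]
      exact congrArg (· • χ k) (congrFun (congrFun (mat_sq w) j) k).symm
    have hsplit : act (mat2 w - (q : ℤ) • 1) χ j = (∑ k, mat2 w j k • χ k) - (q : ℤ) • χ j := by
      simp [act, sub_smul, Finset.sum_sub_distrib, Matrix.one_apply, Matrix.natCast_apply, ite_smul]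
    have h3 : (2 : ℤ) • (act (mat2 w - (q : ℤ) • 1) χ j) = 0 := by
      rw [hsplit, zsmul_sub, zsum, h2, ← mul_smul, sub_eq_zero]
      congr 1
      rw [hq_def]
      push_cast
      ring
    have h4 : (r : ℤ) • (act (mat2 w - (q : ℤ) • 1) χ j) = 0 := by
      refine (zsum _ _).trans (Finset.sum_eq_zero fun k _ => ?_)
      rw [smul_comm, show (r : ℤ) • χ k = 0 from (natCast_zsmul _ _).trans (congrFun hχr k), smul_zero]
    obtain ⟨u, v, huv⟩ := (Int.isCoprime_iff_gcd_eq_one).2
      (show Int.gcd 2 (r : ℤ) = 1 from (Nat.coprime_primes Nat.prime_two hrp).2 (by omega))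
    calc act (mat2 w - (q : ℤ) • 1) χ j = (u * 2 + v * (r : ℤ)) • act (mat2 w - (q : ℤ) • 1) χ j := by
          rw [huv, one_smul]
      _ = 0 := by rw [add_zsmul, mul_zsmul, mul_zsmul, h3, h4, zsmul_zero, zsmul_zero, add_zero]
  obtain ⟨j₀, hj₀⟩ := Function.ne_iff.1 hχ0
  have hord₀ : addOrderOf (χ j₀) = r := addOrderOf_eq_prime (congrFun hχr j₀) hj₀
  have hdet : (r : ℤ) ∣ (mat2 w).charpoly.eval (q : ℤ) := by
    have h1 := CyclotomicCharpoly68.det_smul_eq_zero _ hP
    have h2 : (r : ℤ) ∣ (mat2 w - (q : ℤ) • 1).det := by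
      rw [← hord₀, addOrderOf_dvd_iff_zsmul_eq_zero]
      exact congrFun h1 j₀
    rw [Matrix.eval_charpoly, Matrix.scalar_apply, ← Matrix.smul_one_eq_diagonal, ← neg_sub, Matrix.det_neg]
    exact dvd_mul_of_dvd_right h2 _
  obtain ⟨N, hN, hPN⟩ := exists_period w
  have hfac : ∀ f : ℚ[X], Irreducible f → f ∣ (mat2 w).charpoly.map (Int.castRingHom ℚ) → f ∣ X ^ N - 1 := by
    intro f hf hfd
    rw [← Matrix.charpoly_map] at hfd
    refine SLInvolutions68.dvd_of_factor ?_ hf hfd
    rw [map_sub, map_pow, aeval_X, map_one, sub_eq_zero,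
      show (mat2 w).map (Int.castRingHom ℚ) = (Int.castRingHom ℚ).mapMatrix (mat2 w) from rfl, ← map_pow, hPN,
      map_one]
  obtain ⟨e', he0, hed, hev⟩ :=
    CyclotomicCharpoly68.exists_cyclotomic_factor hN hrp q _ _ (Matrix.charpoly_monic _) le_rfl hfac hdet
  have hne : ¬ r ∣ e' := fun h => by
    have h1 := Nat.le_of_dvd (Nat.totient_pos.2 he0) (Nat.totient_dvd_of_dvd h)
    have h2 := Polynomial.natDegree_le_of_dvd hed (Matrix.charpoly_monic (mat2 w)).ne_zero
    rw [natDegree_cyclotomic, Matrix.charpoly_natDegree_eq_dim, Fintype.card_fin,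
      show chevF4.rank = 4 from rfl] at h2
    rw [Nat.totient_prime hrp] at h1
    omega
  have hee : e' = e := by
    rw [← CyclotomicCharpoly68.orderOf_eq_of_root hne hev, Int.cast_natCast]
  -- integer coordinates
  obtain ⟨u, hu, hgen⟩ := ChevCoxTorus68.exists_prim (K := L) hrL
  choose f hf using fun j => hgen (χ j) (congrFun hχr j)
  have hevf : ∀ s, ev c4 χ s = ev c4 f s • u := fun s => by
    rw [← ev_smul_const]; exact congrArg (ev c4 · s) (funext hf).symm
  have hdvd : ∀ z : ℤ, z • u = 0 ↔ (r : ℤ) ∣ z := fun z => by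
    rw [← hu, addOrderOf_dvd_iff_zsmul_eq_zero]
  have hregular : ∀ s, s < chevF4.nroots → ¬ (r : ℤ) ∣ ev c4 f s := by
    intro s hs hd
    refine RegularOrder98.no_common_zero S2372.num X4 S2372.supp hrp (by omega) f ?_
      {t | ∃ k, t = (perm w)^[k] s} ?_ ?_
    · intro hall
      exact hχ0 (funext fun j => by rw [← hf j]; exact (hdvd _).2 (hall j))
    · rintro t ⟨k, rfl⟩
      refine ⟨iter_lt w hs k, ?_⟩
      induction k with
      | zero => exact hd
      | succ k ih =>
        rw [Function.iterate_succ_apply', ← hdvd, ← hevf, hperm _ (iter_lt w hs k), hevf, (hdvd _).2 ih,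
          smul_zero]
    · intro φ hφ
      obtain ⟨k, hk⟩ := orbit_full w (e := e') (hee ▸ he) hed hφ hs
      exact ⟨_, ⟨k, rfl⟩, hk⟩
  -- the involution
  set y := g * mp a * g⁻¹ with hy
  have hyG : y ∈ chevF4.group L := mul_mem (mul_mem hgG haG) (inv_mem hgG)
  have hyc : y * tor ChevalleyTorusCard.smithF4 χ = tor ChevalleyTorusCard.smithF4 χ * y := by
    rw [hχ, hy]
    show g * mp a * g⁻¹ * (g * h * g⁻¹) = g * h * g⁻¹ * (g * mp a * g⁻¹)
    have : mp a * h = h * mp a := (hax.map mp).eq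
    calc _ = g * (mp a * h) * g⁻¹ := by group
      _ = _ := by rw [this]; group
  obtain ⟨v, hv, hvn⟩ := ChevCoxTorus68.transporter c4 ChevalleyTorusCard.smithF4 X4 S2372.supp hyG hyc
  have hv1 : v = 1 := by
    refine no_fix S2372.num X4 S2372.supp (Int.natCast_pos.2 hrp.pos) f hregular v fun s hs => ?_
    rw [← hdvd, sub_smul, ← hevf, ← hevf, hv s hs, sub_self]
  obtain ⟨n, hn, hnv⟩ := hvn fun s hs h0 => hregular s hs ((hdvd _).1 ((hevf s).symm.trans h0))
  obtain ⟨ψ, hψ⟩ := (ChevCoxTorus68.mem_H_iff c4 ChevalleyTorusCard.smithF4).1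
    (show y ∈ chevF4.diagonalSubgroup L from
      hn ▸ (ChevCoxTorus68.sysK c4 X4 S2372.supp).toW_ker.le (hnv.trans hv1))
  have hψ2 : ψ + ψ = 0 := by
    apply ChevCoxTorus68.tor_inj c4 ChevalleyTorusCard.smithF4
    rw [ChevCoxTorus68.tor_add, hψ, htor0, hy]
    calc g * mp a * g⁻¹ * (g * mp a * g⁻¹) = g * (mp a * mp a) * g⁻¹ := by group
      _ = 1 := by rw [← map_mul, ha2, map_one]; group
  have hψ0 : ψ = 0 := funext fun j => by
    have h1 : ((ψ j).toMul : L) * (ψ j).toMul = 1 := by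
      have := congrArg (fun z : Additive Lˣ => ((z.toMul : Lˣ) : L)) (congrFun hψ2 j)
      simpa using this
    apply Additive.toMul.injective
    apply Units.ext
    have := CharTwo.sq_inj (x := ((ψ j).toMul : L)) (y := 1)
    rw [one_pow, pow_two] at this
    simpa using this.1 h1
  rw [hψ0, htor0] at hψ
  have : mp a = 1 := conj_eq_one_iff.1 (hy.symm.trans hψ.symm)
  exact hmp (this.trans (map_one mp).symm)

end Main

/-- Let q = 2^(2m+1) with m ≥ 1 and let a, b be commuting elements of the large Ree group ²F₄(q) with a an involution. Then every prime divisor of the order of b divides q(q⁴ − 1). -/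
theorem result {K : Type*} [Field K] [Fintype K] (m : ℕ) (hm : 1 ≤ m) (hK : Fintype.card K = 2 ^ (2 * m + 1))
    (a b : ↥(Cfsg.Lie.twistedF4 K (2 ^ m))) (ha : orderOf a = 2) (hab : Commute a b) :
    (orderOf b).primeFactors ⊆ (2 ^ (2 * m + 1) * ((2 ^ (2 * m + 1)) ^ 4 - 1)).primeFactors := by
  have := TwistedF4Classes.charP_two m hK
  set q := 2 ^ (2 * m + 1) with hq
  intro r hr
  obtain ⟨hrp, hrb, -⟩ := Nat.mem_primeFactors.1 hr
  have : Fact r.Prime := ⟨hrp⟩
  have hq2 : 2 ≤ q := by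
    rw [hq, pow_succ]; exact Nat.le_mul_of_pos_left 2 (by positivity)
  have hne : q * (q ^ 4 - 1) ≠ 0 :=
    Nat.mul_ne_zero (by omega) (by have := Nat.pow_le_pow_left hq2 4; omega)
  refine Nat.mem_primeFactors.2 ⟨hrp, ?_, hne⟩
  by_contra hnd
  have hq0 : (q : ZMod r) ≠ 0 := fun h => hnd (((ZMod.natCast_eq_zero_iff _ r).1 h).mul_right _)
  have hq4 : (q : ZMod r) ^ 4 ≠ 1 := fun h => hnd (dvd_mul_of_dvd_right
    ((ZMod.natCast_eq_zero_iff _ r).1 (by
      rw [Nat.cast_sub (Nat.one_le_pow _ _ (by omega)), Nat.cast_pow, h, Nat.cast_one, sub_self])) _)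
  have hr2 : r ≠ 2 := fun h => hnd (h ▸ (dvd_pow_self 2 (show 2 * m + 1 ≠ 0 by omega)).mul_right _)
  have hrG : r ∣ Nat.card ↥(Cfsg.Lie.twistedF4 K (2 ^ m)) := hrb.trans (orderOf_dvd_natCard b)
  rw [TwistedF4Classes.card_group m hK, ← hq] at hrG
  have hb0 : 0 < orderOf b := orderOf_pos b
  obtain ⟨x, hx, hxr⟩ : ∃ x ∈ Subgroup.zpowers b, orderOf x = r := by
    refine ⟨b ^ (orderOf b / r), pow_mem (Subgroup.mem_zpowers b) _, ?_⟩
    rw [orderOf_pow_orderOf_div hb0.ne' hrb]
  obtain ⟨k, rfl⟩ := hx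
  have hax : Commute a (b ^ k) := hab.zpow_right k
  have := no_commute hK (order_mem (by omega) hr2 hq4 hq0 hrG) (b ^ k).2 a.2
    (by rw [Subgroup.orderOf_coe]; exact hxr)
    (by
      have : a ^ 2 = 1 := orderOf_dvd_iff_pow_eq_one.1 ha.dvd
      rw [← Subgroup.coe_mul, ← pow_two, this, Subgroup.coe_one])
    (hax.map (Cfsg.Lie.twistedF4 K (2 ^ m)).subtype)
  have h1 : a = 1 := Subtype.ext this
  rw [h1, orderOf_one] at ha
  exact absurd ha (by norm_num)

end Cfsg.Agent.S2369
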