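import Cfsg.Statements.S2370
-- import your own Cfsg.Agent.* helpers here
import Cfsg.Agent.Lib.ChevalleySylow
import Cfsg.Agent.Lib.ChevalleyParabolic
import Cfsg.Agent.Lib.ChevalleyDataF4
open Cfsg.Agent Cfsg.Lie Cfsg.Agent.ChevalleyCore Cfsg.Agent.ChevalleyUnipotent Cfsg.Agent.ChevalleyParabolic

set_option autoImplicit false
open Cfsg

namespace Cfsg.Agent.S2370

/-- the height is at most 11 -/
theorem coef_sum_bound : ∀ r < 48, -11 ≤ ∑ j ∈ Finset.range 4, ChevalleyDataF4.cert.coef r j ∧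
    ∑ j ∈ Finset.range 4, ChevalleyDataF4.cert.coef r j ≤ 11 := by decide +kernel

theorem weight_bound (q : chevF4.Idx) :
    -11 ≤ wJ ChevalleyDataF4.cert (∅ : Set ℕ) q ∧ wJ ChevalleyDataF4.cert (∅ : Set ℕ) q ≤ 11 := by
  rcases q with a | s
  · simp [wJ, ChevalleyAdjoint.cf]
  · simp only [wJ, ChevalleyAdjoint.cf, Set.mem_empty_iff_false, if_false, Sum.elim_inr]
    exact coef_sum_bound s.val s.isLt

theorem U_pow {K : Type*} [Field K] [CharP K 2] {u : GL chevF4.Idx K} (hu : u ∈ chevF4.posUnipotent K) :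
    u ^ 32 = 1 := by
  set C := ChevalleyDataF4.cert
  have hU : chevF4.posUnipotent K ≤ upperAt (wJ C (∅ : Set ℕ)) 1 := by
    refine (Subgroup.closure_le _).2 ?_
    rintro g ⟨r, t, hr, hg⟩
    obtain rfl := (xg_eq_iff C).1 hg
    refine xg_mem_weight C hr.1 (fun k hk a b hab => ?_) t
    have h1 := xm_wJ C (J := (∅ : Set ℕ)) hk hr.1 hab
    have hJ : ¬ chevF4.InRootSub (∅ : Set ℕ) r := by
      intro h
      have hp := ((ChevalleyRoots.isPos C).1 hr).1
      refine absurd ((ChevalleyRoots.key_pos C hr.1).2 hp) ?_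
      have hz : ∀ j < chevF4.rank, C.coef r j = 0 := fun j hj =>
        (inRootSub_iff C hr.1).1 h j hj (Set.notMem_empty j)
      have : ChevalleyRoots.key C r = 0 := by
        rw [ChevalleyRoots.key, show chevF4.rank = 4 from rfl]
        simp [List.range_succ, hz 0 (by decide), hz 1 (by decide), hz 2 (by decide), hz 3 (by decide)]
      omega
    have h2 := deg_out C hr hJ
    have : (1 : ℤ) ≤ k * deg C (∅ : Set ℕ) r := by nlinarith [show (1 : ℤ) ≤ k by exact_mod_cast hk]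
    push_cast
    omega
  have h := (hU hu).1
  set A := (u : Matrix chevF4.Idx chevF4.Idx K) - 1 with hA
  have hpow : ∀ n : ℕ, 1 ≤ n → Raise (wJ C (∅ : Set ℕ)) (n : ℤ) (A ^ n) := by
    intro n hn
    induction n, hn using Nat.le_induction with
    | base => simpa using h
    | succ n _ ih =>
      rw [pow_succ]
      exact_mod_cast raise_mul _ ih h
  have h0 : A ^ 32 = 0 := by
    ext a b
    by_contra hne
    have h1 := hpow 32 (by norm_num) a b hne
    have : wJ C (∅ : Set ℕ) a ≤ 11 := (weight_bound a).2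
    have : -11 ≤ wJ C (∅ : Set ℕ) b := (weight_bound b).1
    push_cast at h1
    omega
  apply Units.ext
  rw [Units.val_pow_eq_pow_val, Units.val_one]
  haveI : Fact (Nat.Prime 2) := ⟨Nat.prime_two⟩
  haveI : Nonempty chevF4.Idx := ⟨Sum.inl ⟨0, by decide⟩⟩
  have h2 := sub_pow_char_pow_of_commute (p := 2) (n := 5) (x := (u : Matrix chevF4.Idx chevF4.Idx K)) (y := 1)
    (Commute.one_right _)
  rw [show (2 : ℕ) ^ 5 = 32 from rfl, ← hA, h0, one_pow] at h2
  exact sub_eq_zero.1 h2.symm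


/-- Let q = 2^(2m+1) with m ≥ 1. Every element of 2-power order of the large Ree group ²F₄(q) has order at most 32. -/
theorem result {K : Type*} [Field K] [Fintype K] (m : ℕ) (hm : 1 ≤ m) (hK : Fintype.card K = 2 ^ (2 * m + 1))
    (x : ↥(Cfsg.Lie.twistedF4 K (2 ^ m))) (hx : ∃ j : ℕ, orderOf x = 2 ^ j) : orderOf x ≤ 32 := by
  haveI : Fact (Nat.Prime 2) := ⟨Nat.prime_two⟩
  haveI : CharP K 2 := by
    obtain ⟨p, hp⟩ := CharP.exists K
    obtain ⟨n, hpp, hn⟩ := FiniteField.card K p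
    have : p ∣ 2 ^ (2 * m + 1) := hK ▸ hn ▸ dvd_pow_self p n.pos.ne'
    exact (Nat.prime_dvd_prime_iff_eq hpp Nat.prime_two).1 (hpp.dvd_of_dvd_pow this) ▸ hp
  obtain ⟨j, hj⟩ := hx
  have hD : chevF4 ∈ [chevG2, chevB2, chevD4, chevF4, chevE6, chevE7, chevE8] := by simp
  set C := ChevalleyAll.cert chevF4 hD
  set S := ChevBruhatInstance.sys chevF4 hD K
  have hle : Cfsg.Lie.twistedF4 K (2 ^ m) ≤ chevF4.group K := by
    refine (Subgroup.closure_le _).2 ?_
    rintro g ⟨w, -, hg⟩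
    rw [show g = wg C w from Units.ext (hg.trans (coe_wg C w).symm)]
    refine Subgroup.list_prod_mem _ fun z hz => ?_
    obtain ⟨p, -, rfl⟩ := List.mem_map.1 hz
    exact xg_mem_group C _ _
  set y : ↥(chevF4.group K) := ⟨x, hle x.2⟩
  have hy : orderOf y = 2 ^ j := by
    rw [← Subgroup.orderOf_coe]; exact (Subgroup.orderOf_coe x).trans hj
  obtain ⟨P, hP⟩ := ChevalleySylow.exists_sylow C S 2
  have hpg : IsPGroup 2 ↥(Subgroup.zpowers y) := IsPGroup.of_card (by rw [Nat.card_zpowers, hy])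
  obtain ⟨Q, hQ⟩ := hpg.exists_le_sylow
  obtain ⟨g, hg⟩ := MulAction.exists_smul_eq ↥(chevF4.group K) Q P
  have hmem : g * y * g⁻¹ ∈ (P : Subgroup ↥(chevF4.group K)) := by
    rw [← hg, Sylow.coe_subgroup_smul, Subgroup.mem_pointwise_smul_iff_inv_smul_mem]
    simpa [mul_assoc] using hQ (Subgroup.mem_zpowers y)
  rw [hP, Subgroup.mem_subgroupOf] at hmem
  have h32 : y ^ 32 = 1 := by
    have h := U_pow hmem
    have h' : (g * y * g⁻¹) ^ 32 = 1 := Subtype.ext (by rw [Subgroup.coe_pow]; exact h)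
    rwa [conj_pow, conj_eq_one_iff] at h'
  rw [hj, ← hy]
  exact Nat.le_of_dvd (by norm_num) (orderOf_dvd_of_pow_eq_one h32)

end Cfsg.Agent.S2370
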