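import Cfsg.Statements.S2371
import Cfsg.Agent.Lib.G2SL3Embed68
import Cfsg.Agent.Lib.ChevRegularCentralizer68
import Cfsg.Agent.Lib.ChevFieldAut77

set_option autoImplicit false
open Cfsg
open scoped MatrixGroups

namespace Cfsg.Agent.S2371

open Cfsg.Lie Matrix Cfsg.Agent.G2SL3Embed68

theorem map_mem_group {F K : Type*} [Field F] [Field K] (ι : F →+* K) {g : GL Ix F}
    (hg : g ∈ chevG2.group F) : Matrix.GeneralLinearGroup.map ι g ∈ chevG2.group K := by
  induction hg using Subgroup.closure_induction with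
  | mem g hg =>
    obtain ⟨r, t, h⟩ := hg
    refine Subgroup.subset_closure ⟨r, ι t, ?_⟩
    have e := ChevFieldAut77.map_x ChevalleyDataG2.cert ι r.2 t
    rw [ChevalleyDatum.x, dif_pos r.2, ChevalleyDatum.x, dif_pos r.2] at e
    rw [ChevFieldAut77.coe_map, h]
    exact e
  | one => rw [map_one]; exact one_mem _
  | mul a b _ _ ha hb => rw [map_mul]; exact mul_mem ha hb
  | inv a _ ha => rw [map_inv]; exact inv_mem ha

theorem exists_order {K : Type*} [Field K] [Fintype K] {m : ℕ} (hm : m ∣ Fintype.card K - 1) :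
    ∃ u : Kˣ, orderOf u = m := by
  classical
  obtain ⟨g, hg⟩ := IsCyclic.exists_ofOrder_eq_natCard (α := Kˣ)
  rw [Nat.card_eq_fintype_card, Fintype.card_units] at hg
  obtain ⟨e, he⟩ := hm
  have h1 : 1 < Fintype.card K := Fintype.one_lt_card
  have he0 : e ≠ 0 := fun h => by rw [h, mul_zero] at he; omega
  refine ⟨g ^ e, ?_⟩
  rw [orderOf_pow' _ he0, hg, he, Nat.gcd_eq_right (dvd_mul_left e m),
    Nat.mul_div_cancel _ (Nat.pos_of_ne_zero he0)]

/-- The exponents of the root values of the regular element. -/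
def ex (q : ℤ) : Fin 12 → ℤ :=
  ![-(2 + q), -(1 + 2 * q), -(1 + q), -1, -q, -(1 - q), 1 - q, q, 1, 1 + q, 1 + 2 * q, 2 + q]

theorem ex_spec {q : ℕ} (hq : 3 ≤ q) :
    (∀ r, ¬ ((q : ℤ) ^ 2 + q + 1 ∣ ex q r)) ∧
      ∀ r s, (q : ℤ) ^ 2 + q + 1 ∣ ex q r - ex q s → r = s := by
  rcases Nat.lt_or_ge q 4 with h | h
  · obtain rfl : q = 3 := by omega
    constructor <;> decide
  · have hb : 4 * (q : ℤ) + 4 < (q : ℤ) ^ 2 + q + 1 := by nlinarith
    have key : ∀ a : ℤ, a ≠ 0 → -((q : ℤ) ^ 2 + q + 1) < a → a < (q : ℤ) ^ 2 + q + 1 →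
        ¬ ((q : ℤ) ^ 2 + q + 1 ∣ a) := fun a h0 h1 h2 hd => h0 (Int.eq_zero_of_abs_lt_dvd hd (abs_lt.2 ⟨h1, h2⟩))
    generalize (q : ℤ) ^ 2 + q + 1 = M at hb key ⊢
    constructor
    · intro r
      fin_cases r <;> refine key _ ?_ ?_ ?_ <;> simp [ex] <;> omega
    · intro r s hd
      by_contra hne
      refine key _ ?_ ?_ ?_ hd <;> revert hne <;> fin_cases r <;> fin_cases s <;> simp [ex] <;> omega

/-- The group G₂(q), q ≥ 3, contains a cyclic subgroup of order q² + q + 1 which is its own centralizer. -/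
theorem result {F : Type*} [Field F] [Fintype F] (q : ℕ) (hF : Fintype.card F = q) (hq : 3 ≤ q) :
    ∃ H : Subgroup ↥(Cfsg.Lie.chevG2.group F), IsCyclic ↥H ∧ Nat.card ↥H = q ^ 2 + q + 1 ∧
      Subgroup.centralizer (H : Set ↥(Cfsg.Lie.chevG2.group F)) = H := by
  classical
  subst hF
  obtain ⟨p, hp⟩ := CharP.exists F
  haveI : Fact p.Prime := ⟨CharP.char_is_prime F p⟩
  let K := FiniteField.Extension F p 3
  haveI : Fintype K := Fintype.ofFinite _
  let ι : F →+* K := algebraMap F K
  set q := Fintype.card F with hq_def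
  have hcardK : Fintype.card K = q ^ 3 := by
    rw [← Nat.card_eq_fintype_card, FiniteField.natCard_extension, Nat.card_eq_fintype_card]
  set m := q ^ 2 + q + 1 with hm_def
  obtain ⟨b, hb⟩ := exists_order (K := K) (m := m) (by
    rw [hcardK]
    refine ⟨q - 1, ?_⟩
    obtain ⟨r, hr⟩ : ∃ r, q = r + 1 := ⟨q - 1, by omega⟩
    rw [hm_def, hr, Nat.add_sub_cancel]
    have : (r + 1) ^ 3 = ((r + 1) ^ 2 + (r + 1) + 1) * r + 1 := by ring
    omega)
  -- the three conjugates
  let S : Fin 3 → (K →ₐ[F] K) := fun j => (FiniteField.frobeniusAlgHom F K) ^ (j : ℕ)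
  have hS : ∀ (j : Fin 3) (x : K), S j x = x ^ q ^ (j : ℕ) := by
    intro j x
    show ((FiniteField.frobeniusAlgHom F K) ^ (j : ℕ)) x = _
    generalize (j : ℕ) = k
    induction k with
    | zero => simp
    | succ k ih =>
      rw [pow_succ' (FiniteField.frobeniusAlgHom F K), AlgHom.mul_apply, ih,
        FiniteField.frobeniusAlgHom_apply, ← pow_mul, ← pow_succ]
  let v : Fin 3 → K := fun j => (b : K) ^ q ^ (j : ℕ)
  have hb0 : (b : K) ≠ 0 := b.ne_zero
  have hpow : ∀ i j : ℕ, i < m → j < m → (b : K) ^ i = (b : K) ^ j → i = j := by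
    intro i j hi hj h
    exact pow_injOn_Iio_orderOf (by rw [hb]; exact hi) (by rw [hb]; exact hj) (Units.ext (by simpa using h))
  have hq2 : q < q ^ 2 := by nlinarith
  have hvinj : Function.Injective v := by
    intro i j h
    have hlt : ∀ k : Fin 3, q ^ (k : ℕ) < m := by intro k; fin_cases k <;> simp [m] <;> omega
    exact Fin.ext (Nat.pow_right_injective (by omega : 2 ≤ q) (hpow _ _ (hlt i) (hlt j) h))
  let R : Matrix (Fin 3) (Fin 3) K := Matrix.vandermonde v
  have hR : R.det ≠ 0 := Matrix.det_vandermonde_ne_zero_iff.2 hvinj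
  have hli : LinearIndependent F (fun i : Fin 3 => (b : K) ^ (i : ℕ)) := by
    rw [Fintype.linearIndependent_iff]
    intro a ha i
    have h : R *ᵥ (fun i => ι (a i)) = 0 := by
      funext j
      have h := congrArg (S j) ha
      rw [map_sum, map_zero] at h
      simp only [map_smul, map_pow] at h
      simp only [hS, Algebra.smul_def] at h
      rw [Pi.zero_apply, ← h]
      simp only [R, v, Matrix.mulVec, dotProduct, Matrix.vandermonde_apply]
      exact Finset.sum_congr rfl fun i _ => mul_comm _ _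
    have := Matrix.eq_zero_of_mulVec_eq_zero hR h
    exact (map_eq_zero ι).1 (congrFun this i)
  let B : Module.Basis (Fin 3) F K := basisOfLinearIndependentOfCardEqFinrank hli
    (by rw [Fintype.card_fin, FiniteField.finrank_extension])
  have hB : ∀ i, B i = (b : K) ^ (i : ℕ) := fun i => by simp [B]
  let M : K → Matrix (Fin 3) (Fin 3) F := fun a => Algebra.leftMulMatrix B a
  let dv : K → Matrix (Fin 3) (Fin 3) K := fun a => Matrix.diagonal fun j => S j a
  have hRM : ∀ a, R * (M a).map ι = dv a * R := by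
    intro a
    ext j k
    rw [Matrix.diagonal_mul, Matrix.mul_apply]
    have h := congrArg (S j) (B.sum_repr (a * B k))
    rw [map_sum, map_mul (S j)] at h
    have hRj : ∀ i, R j i = S j (B i) := fun i => by
      show Matrix.vandermonde v j i = _
      rw [hB, map_pow, hS, Matrix.vandermonde_apply]
    rw [hRj, ← h]
    refine Finset.sum_congr rfl fun i _ => ?_
    rw [map_smul, Algebra.smul_def, mul_comm, hRj]
    simp only [M, Matrix.map_apply, Algebra.leftMulMatrix_eq_repr_mul, ι]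
  have hdet : ∀ a, ι (M a).det = a ^ m := by
    intro a
    have h := congrArg Matrix.det (hRM a)
    rw [Matrix.det_mul, Matrix.det_mul, mul_comm R.det] at h
    have h' := mul_right_cancel₀ hR h
    rw [show ι (M a).det = ((M a).map ι).det from RingHom.map_det ι _, h', Matrix.det_diagonal,
      Fin.prod_univ_three, hS, hS, hS, ← pow_add, ← pow_add]
    congr 1
    simp [m]
    ring
  have hdetb : (M (b : K)).det = 1 := by
    apply ι.injective
    rw [hdet, map_one, ← Units.val_pow_eq_pow_val, ← hb, pow_orderOf_eq_one, Units.val_one]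
  let C0 : Matrix.SpecialLinearGroup (Fin 3) F := ⟨M b, hdetb⟩
  have hC0pow : ∀ k : ℕ, ((C0 ^ k : Matrix.SpecialLinearGroup (Fin 3) F) : Matrix (Fin 3) (Fin 3) F) = M ((b : K) ^ k) := by
    intro k
    rw [Matrix.SpecialLinearGroup.coe_pow]
    exact (map_pow (Algebra.leftMulMatrix B) (b : K) k).symm
  have hC0ord : orderOf C0 = m := by
    rw [← hb, orderOf_eq_orderOf_iff]
    intro k
    constructor
    · intro h
      have h1 := congrArg (fun A : Matrix.SpecialLinearGroup (Fin 3) F => (A : Matrix (Fin 3) (Fin 3) F)) h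
      simp only [hC0pow, Matrix.SpecialLinearGroup.coe_one] at h1
      have h2 : M ((b : K) ^ k) = M 1 := by rw [h1]; exact (map_one (Algebra.leftMulMatrix B)).symm
      exact Units.ext (by simpa using Algebra.leftMulMatrix_injective B h2)
    · intro h
      refine Subtype.ext ?_
      rw [hC0pow, ← Units.val_pow_eq_pow_val, h, Units.val_one]
      exact map_one (Algebra.leftMulMatrix B)
  let φ : Matrix.SpecialLinearGroup (Fin 3) F →* ↥(chevG2.group F) := rho.codRestrict _ rho_mem_group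
  have hφ : Function.Injective φ := fun A B h => rho_injective (congrArg Subtype.val h)
  refine ⟨Subgroup.zpowers (φ C0), inferInstance, ?_, le_antisymm ?_ ?_⟩
  · rw [Nat.card_zpowers, orderOf_injective φ hφ, hC0ord]
  swap
  · rw [Subgroup.le_centralizer_iff_isMulCommutative]
    infer_instance
  intro y hy
  have hyc : ((φ C0 : ↥(chevG2.group F)) : GL Ix F) * y = y * (φ C0 : GL Ix F) :=
    congrArg Subtype.val (Subgroup.mem_centralizer_iff.1 hy _ (Subgroup.mem_zpowers _))
  -- diagonalisation over the extension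
  have hdR : (Matrix.diagonal ![R.det⁻¹, 1, 1] * R).det = 1 := by
    rw [Matrix.det_mul, Matrix.det_diagonal, Fin.prod_univ_three]
    simp [inv_mul_cancel₀ hR]
  let G : Matrix.SpecialLinearGroup (Fin 3) K := ⟨_, hdR⟩
  have hdv : (dv b).det = 1 := by
    have h := congrArg Matrix.det (hRM (b : K))
    rw [Matrix.det_mul, Matrix.det_mul, mul_comm R.det] at h
    rw [← mul_right_cancel₀ hR h, ← RingHom.mapMatrix_apply, ← RingHom.map_det, hdetb, map_one]
  let D : Matrix.SpecialLinearGroup (Fin 3) K := ⟨dv b, hdv⟩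
  have hGC : G * Matrix.SpecialLinearGroup.map ι C0 = D * G := by
    refine Subtype.ext ?_
    show Matrix.diagonal ![R.det⁻¹, 1, 1] * R * (M b).map ι = dv b * (Matrix.diagonal ![R.det⁻¹, 1, 1] * R)
    rw [mul_assoc, hRM, ← mul_assoc, ← mul_assoc]
    congr 1
    rw [Matrix.diagonal_mul_diagonal, Matrix.diagonal_mul_diagonal]
    exact congrArg Matrix.diagonal (funext fun i => mul_comm _ _)
  let c : Fin chevG2.rank → Kˣ := fun i => (![b ^ (1 + q), b ^ (2 + q)] : Fin 2 → Kˣ) i
  have hbm : (b : K) ^ m = 1 := by rw [← Units.val_pow_eq_pow_val, ← hb, pow_orderOf_eq_one, Units.val_one]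
  have hD : rho D = ChevalleyTorus.torus chevG2 c := by
    refine rho_diagonal c D (congrArg Matrix.diagonal (funext fun j => ?_))
    rw [hS]
    have e : (b : K) ^ (q ^ 2) * (b : K) ^ (1 + q) = 1 := by rw [← pow_add, ← hbm]; congr 1; simp [m]; ring
    fin_cases j <;> simp [c]
    · rw [eq_div_iff (pow_ne_zero _ hb0), ← pow_succ']
      congr 1
      omega
    · rw [eq_div_iff (pow_ne_zero _ hb0), ← pow_add, ← pow_mul]
      congr 1
      ring
    · exact eq_inv_of_mul_eq_one_left e
  set X := rho G * Matrix.GeneralLinearGroup.map ι (y : GL Ix F) * (rho G)⁻¹ with hX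
  have hmapC : Matrix.GeneralLinearGroup.map ι (rho C0) = rho (Matrix.SpecialLinearGroup.map ι C0) :=
    Units.ext (rho_map ι C0).symm
  have hXc : ChevalleyTorus.torus chevG2 c * X = X * ChevalleyTorus.torus chevG2 c := by
    rw [← hD, show D = G * Matrix.SpecialLinearGroup.map ι C0 * G⁻¹ by rw [hGC, mul_inv_cancel_right], map_mul, map_mul, map_inv, ← hmapC, hX]
    have h' := congrArg (Matrix.GeneralLinearGroup.map ι) hyc
    rw [map_mul, map_mul] at h'
    change Matrix.GeneralLinearGroup.map ι (rho C0) * _ = _ * Matrix.GeneralLinearGroup.map ι (rho C0) at h'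
    calc _ = rho G * (Matrix.GeneralLinearGroup.map ι (rho C0) * Matrix.GeneralLinearGroup.map ι (y : GL Ix F)) * (rho G)⁻¹ := by group
      _ = _ := by rw [h']; group
  have hXg : X ∈ chevG2.group K :=
    mul_mem (mul_mem (rho_mem_group G) (map_mem_group ι y.2)) (inv_mem (rho_mem_group G))
  have hdvd : ∀ a : ℤ, b ^ a = 1 → (q : ℤ) ^ 2 + q + 1 ∣ a := fun a h => by
    have := orderOf_dvd_iff_zpow_eq_one.2 h
    rw [hb] at this
    simpa [m] using this
  have htc : ∀ r : Fin 12, ChevalleyTorus.tchar chevG2 c r.1 = b ^ ex q r := by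
    intro r
    rw [tchar_val]
    show (b ^ (1 + q)) ^ _ * (b ^ (2 + q)) ^ _ = _
    rw [← zpow_natCast, ← zpow_natCast b, ← _root_.zpow_mul, ← _root_.zpow_mul, ← _root_.zpow_add]
    congr 1
    fin_cases r <;> simp [ex] <;> ring
  obtain ⟨Xw, hs⟩ := Classical.choice (ChevBruhatInstance.data_facts chevG2 (by simp))
  have hsz : chevG2.nroots = 12 := rfl
  have hH := ChevRegularCentralizer68.mem_H_of_commute ChevalleyDataG2.cert Xw hs c
    (fun r hr h1 => (ex_spec hq).1 ⟨r, hsz ▸ hr⟩ (hdvd _ (by rw [← htc]; exact h1)))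
    (fun r s hr hs' h1 => congrArg Fin.val ((ex_spec hq).2 ⟨r, hsz ▸ hr⟩ ⟨s, hsz ▸ hs'⟩ (hdvd _ (by
      rw [_root_.zpow_sub, ← htc, ← htc]
      exact mul_inv_eq_one.2 h1)))) hXg hXc
  obtain ⟨c', hc'⟩ := (ChevalleyTorus.mem_H_iff ChevalleyDataG2.cert).1 hH
  let d' : Matrix (Fin 3) (Fin 3) K := Matrix.diagonal ![(c' (1 : Fin 2) : K) / c' (0 : Fin 2),
    (c' (0 : Fin 2) : K) ^ 2 / c' (1 : Fin 2), ((c' (0 : Fin 2) : K))⁻¹]
  have hd' : d'.det = 1 := by
    have h0 : ((c' (0 : Fin 2) : Kˣ) : K) ≠ 0 := Units.ne_zero _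
    have h1 : ((c' (1 : Fin 2) : Kˣ) : K) ≠ 0 := Units.ne_zero _
    rw [Matrix.det_diagonal, Fin.prod_univ_three]
    simp [field]
  let D' : Matrix.SpecialLinearGroup (Fin 3) K := ⟨d', hd'⟩
  have hY : Matrix.GeneralLinearGroup.map ι (y : GL Ix F) = rho (G⁻¹ * D' * G) := by
    rw [map_mul, map_mul, map_inv, rho_diagonal c' D' rfl, hc', hX]
    group
  set A := G⁻¹ * D' * G with hA
  let A0 : Matrix (Fin 3) (Fin 3) F :=
    Matrix.of fun i j => ((y : GL Ix F) : Matrix Ix Ix F) (eI (vRoot i)) (eI (vRoot j))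
  have hA0 : A0.map ι = (A : Matrix (Fin 3) (Fin 3) K) := by
    ext i j
    rw [← rhoMat_std A i j, ← coe_rho, ← hY]
    rfl
  have hA0d : A0.det = 1 := ι.injective (by
    rw [map_one, RingHom.map_det, RingHom.mapMatrix_apply, hA0]; exact A.2)
  let A' : Matrix.SpecialLinearGroup (Fin 3) F := ⟨A0, hA0d⟩
  have hyA : (y : GL Ix F) = rho A' := by
    refine Units.ext ?_
    refine Matrix.map_injective ι.injective ?_
    show (Matrix.GeneralLinearGroup.map ι (y : GL Ix F) : Matrix Ix Ix K) = (rhoMat A').map ι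
    rw [← rho_map, hY, coe_rho, show Matrix.SpecialLinearGroup.map ι A' = A from Subtype.ext hA0]
  have hcomm : C0 * A' = A' * C0 := rho_injective (by
    rw [map_mul, map_mul, ← hyA]; exact hyc)
  -- an element commuting with multiplication by b is a multiplication
  let L : K →ₗ[F] K := Matrix.toLin B B A0
  have hLb : ∀ x, L ((b : K) * x) = (b : K) * L x := by
    intro x
    have h1 : M b * A0 = A0 * M b := congrArg Subtype.val hcomm
    have h2 : Algebra.lmul F K (b : K) = Matrix.toLin B B (M b) := by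
      rw [show M b = LinearMap.toMatrix B B (Algebra.lmul F K (b : K)) from Algebra.leftMulMatrix_apply B _,
        Matrix.toLin_toMatrix]
    show L (Algebra.lmul F K (b : K) x) = Algebra.lmul F K (b : K) (L x)
    rw [h2, ← Matrix.toLin_mul_apply, ← Matrix.toLin_mul_apply, h1]
  have hMa : M (L 1) = A0 := by
    rw [← LinearMap.toMatrix_toLin B B A0]
    show Algebra.leftMulMatrix B (L 1) = LinearMap.toMatrix B B L
    rw [Algebra.leftMulMatrix_apply]
    congr 1
    refine B.ext fun i => ?_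
    have hk : ∀ k : ℕ, L ((b : K) ^ k) = (b : K) ^ k * L 1 := by
      intro k
      induction k with
      | zero => simp
      | succ k ih => rw [pow_succ', hLb, ih, mul_assoc]
    rw [hB]
    show L 1 * _ = _
    rw [hk, mul_comm]
  have ha : (L 1) ^ m = 1 := by rw [← hdet, hMa, hA0d, map_one]
  obtain ⟨k, -, hk⟩ := (show IsPrimitiveRoot (b : K) m by
    rw [← hb, ← orderOf_units]; exact IsPrimitiveRoot.orderOf _).eq_pow_of_pow_eq_one ha
  refine Subgroup.mem_zpowers_iff.2 ⟨k, Subtype.ext ?_⟩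
  rw [hyA, zpow_natCast, ← map_pow]
  show rho (C0 ^ k) = rho A'
  congr 1
  refine Subtype.ext ?_
  rw [hC0pow, hk, hMa]

end Cfsg.Agent.S2371
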