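import Cfsg.Statements.S2373
import Cfsg.Agent.Lib.ChevE6Twist14
-- import your own Cfsg.Agent.* helpers here

set_option autoImplicit false
open Cfsg

namespace Cfsg.Agent.S2373

open Cfsg.Lie Cfsg.Agent.ChevTorusTwist14 Cfsg.Agent.ChevRootFn14
open Cfsg.Agent.ChevCoxTorus68 (Pm act_Pm exists_prim)
open Cfsg.Agent.ChevalleyTorusCard (act)
open Cfsg.Agent.CyclotomicCharpoly68 (orderOf_eq_of_root)

theorem rest (q : ℤ) : (q ^ 4 - q ^ 2 + 1) * (q ^ 2 + q + 1) * ((q - 1) * (q ^ 3 + 1) * (q ^ 2 + 1)) = q ^ 12 - 1 := by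
  ring

/-- The group E₆(q) (the simple Chevalley group of type E₆) contains a cyclic subgroup of order (q⁴ − q² + 1)(q² + q + 1)/gcd(3, q − 1) which is its own centralizer. -/
theorem result {F : Type*} [Field F] [Fintype F] (q : ℕ) (hF : Fintype.card F = q) :
    ∃ H : Subgroup ↥(Cfsg.Lie.chevE6.group F), IsCyclic ↥H ∧ Nat.card ↥H = (q ^ 4 - q ^ 2 + 1) * (q ^ 2 + q + 1) / Nat.gcd 3 (q - 1) ∧
      Subgroup.centralizer (H : Set ↥(Cfsg.Lie.chevE6.group F)) = H := by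
  classical
  subst hF
  set q := Fintype.card F with hq
  have hq2 : 2 ≤ q := Fintype.one_lt_card
  obtain ⟨K, _, _, ι, σ, hcardK, hσ⟩ := ChevTwistArith14.exists_ext (F := F) (d := 12) (by norm_num)
  set M := q ^ 4 - q ^ 2 + 1 with hM
  set M3 := q ^ 2 + q + 1 with hM3
  have hq4 : q ^ 2 ≤ q ^ 4 := Nat.pow_le_pow_right (by omega) (by norm_num)
  have hMz : (M : ℤ) = (q : ℤ) ^ 4 - (q : ℤ) ^ 2 + 1 := by rw [hM]; push_cast [hq4]; ring
  have hMbig : 2 ≤ M := by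
    have : q ^ 2 < q ^ 4 := Nat.pow_lt_pow_right (by omega) (by norm_num)
    omega
  have hmod : ∀ m : ℕ, m = 2 ∨ m = 3 → ¬ (m : ℤ) ∣ (q : ℤ) ^ 4 - (q : ℤ) ^ 2 + 1 := by
    intro m hm h
    rw [← ZMod.intCast_zmod_eq_zero_iff_dvd] at h
    push_cast at h
    revert h
    rcases hm with rfl | rfl
    · generalize (q : ZMod 2) = x; revert x; decide
    · generalize (q : ZMod 3) = x; revert x; decide
  obtain ⟨ℓ, hℓ, hℓM⟩ := Nat.exists_prime_and_dvd (show M ≠ 1 by omega)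
  have : Fact ℓ.Prime := ⟨hℓ⟩
  have hℓM' : (ℓ : ℤ) ∣ (q : ℤ) ^ 4 - (q : ℤ) ^ 2 + 1 := hMz ▸ Int.natCast_dvd_natCast.2 hℓM
  have hℓ12' : ¬ ℓ ∣ 12 := by
    intro h
    have := Nat.le_of_dvd (by norm_num) h
    interval_cases ℓ <;> first | exact hmod 2 (Or.inl rfl) hℓM' | exact hmod 3 (Or.inr rfl) hℓM' |
      (revert hℓ; norm_num; done) | (revert h; norm_num)
  have hΦ : (ℓ : ℤ) ∣ (Polynomial.cyclotomic 12 ℤ).eval (q : ℤ) := by
    rw [ChevTwistArith14.eval_cyclotomic_twelve]; exact hℓM'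
  have hord : orderOf (q : ZMod ℓ) = 12 := by
    have := orderOf_eq_of_root hℓ12' hΦ
    rwa [Int.cast_natCast] at this
  have hℓbig : 12 < ℓ := by
    have hne : (q : ZMod ℓ) ≠ 0 := fun h0 => by
      rw [h0, orderOf_eq_zero_iff'.2 fun n hn => by rw [zero_pow hn.ne']; exact zero_ne_one] at hord
      omega
    have := hord ▸ ZMod.orderOf_dvd_card_sub_one hne
    have := hℓ.two_le
    have := Nat.le_of_dvd (by omega) ‹12 ∣ ℓ - 1›
    omega
  have hnd : ∀ e, 0 < e → e ≤ 12 → ¬ ℓ ∣ e := fun e h1 h2 h => by have := Nat.le_of_dvd h1 h; omega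
  obtain ⟨g, hg, w, c, hc0, hcℓ, hwc, -, hn⟩ := ChevTwistSetup14.exists_twist ChevalleyDataE6.cert
    ChevalleyTorusCard.smithE6 ChevWeylData.e6 ChevE6Twist14.supp [2, 5, 6, 8, 9, 12] ChevE6Twist14.poly
    rfl (d := 12) (by simp) hcardK ι σ hσ (ℓ := ℓ) (by rw [← hord, pow_orderOf_eq_one])
    (hnd 3 (by norm_num) (by norm_num)) (by
      intro e he
      simp only [List.mem_cons, List.not_mem_nil, or_false] at he
      exact hnd e (by omega) (by omega))
  -- the order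
  set N := M * M3 with hN
  have hN0 : N ≠ 0 := Nat.mul_ne_zero (by omega) (by omega)
  have : NeZero N := ⟨hN0⟩
  have hNz : (N : ℤ) = ((q : ℤ) ^ 4 - (q : ℤ) ^ 2 + 1) * ((q : ℤ) ^ 2 + q + 1) := by
    rw [hN, Nat.cast_mul, hMz, hM3]; push_cast; ring
  have hQ : ((Fintype.card K - 1 : ℕ) : ℤ) =
      (N : ℤ) * (((q : ℤ) - 1) * ((q : ℤ) ^ 3 + 1) * ((q : ℤ) ^ 2 + 1)) := by
    rw [hNz, rest, hcardK, Nat.cast_sub (Nat.one_le_pow _ _ (by omega)), Nat.cast_pow, Nat.cast_one]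
  have hNQ : N ∣ Fintype.card K - 1 := Int.natCast_dvd_natCast.1 (hQ ▸ dvd_mul_right _ _)
  have hℓN : ℓ ∣ N := hℓM.trans (dvd_mul_right _ _)
  obtain ⟨f, hf0, hfz, hfe, hfd⟩ := ChevTwistSetup14.exists_int_eigen ChevalleyDataE6.cert ChevWeylData.e6
    (hℓN.trans hNQ) hc0 hcℓ hwc
  obtain ⟨hreg, hchar⟩ := ChevE6Twist14.weyl_element ChevWeylData.e6 ChevE6Twist14.supp hℓbig f hf0 w q
    hord hΦ hfe hfd
  obtain ⟨n, hn, hnw⟩ := hn fun s hs h0 => hreg s hs ((hfz s hs).2 h0)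
  have h3N : 3 ∣ N ↔ q % 3 = 1 := by
    rw [← Int.natCast_dvd_natCast, hNz, ← ZMod.intCast_zmod_eq_zero_iff_dvd]
    push_cast
    have : q % 3 = 1 ↔ (q : ZMod 3) = 1 := by
      have := (ZMod.natCast_eq_natCast_iff' q 1 3).symm
      simpa using this
    rw [this]
    generalize (q : ZMod 3) = x
    revert x; decide
  have h9 : ¬ 3 ^ 2 ∣ N := by
    intro h
    rw [← Int.natCast_dvd_natCast, hNz, ← ZMod.intCast_zmod_eq_zero_iff_dvd] at h
    push_cast at h
    revert h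
    generalize (q : ZMod (3 ^ 2)) = x
    revert x; decide
  have h2 : ¬ 2 ∣ N := by
    intro h
    rw [← Int.natCast_dvd_natCast, hNz, ← ZMod.intCast_zmod_eq_zero_iff_dvd] at h
    push_cast at h
    revert h
    generalize (q : ZMod 2) = x
    revert x; decide
  have hg₀ : Nat.gcd 3 N = Nat.gcd 3 (q - 1) := by
    by_cases h : q % 3 = 1
    · rw [Nat.gcd_eq_left (h3N.2 h), Nat.gcd_eq_left (show 3 ∣ q - 1 by omega)]
    · rw [(Nat.Prime.coprime_iff_not_dvd Nat.prime_three).2 (mt h3N.1 h),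
        (Nat.Prime.coprime_iff_not_dvd Nat.prime_three).2 (show ¬ 3 ∣ q - 1 by omega)]
  have hdet : (Pm ChevalleyDataE6.cert ChevWeylData.e6 w - (q : ℤ) • 1).det.natAbs = N := by
    rw [← neg_sub, Matrix.det_neg, Int.natAbs_mul, Int.natAbs_pow,
      show ((q : ℤ) • (1 : Matrix (Fin chevE6.rank) (Fin chevE6.rank) ℤ) - Pm ChevalleyDataE6.cert ChevWeylData.e6 w).det =
        (N : ℤ) from ?_]
    · simp
    rw [Matrix.smul_one_eq_diagonal, ← Matrix.scalar_apply, ← Matrix.eval_charpoly, hchar, Polynomial.eval_mul,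
      ChevTwistArith14.eval_cyclotomic_twelve, Polynomial.cyclotomic_three, hNz]
    simp
  obtain ⟨u, hu, hgen⟩ := exists_prim (K := K) hNQ
  have hcyc := ChevTwistArith14.isAddCyclic_ker _ (q : ℤ) hdet hu hgen fun p hp hpN => by
    have : Fact p.Prime := ⟨hp⟩
    by_cases hp12 : p ∣ 12
    · right
      have := Nat.le_of_dvd (by norm_num) hp12
      interval_cases p <;> first | exact absurd hpN h2 | exact h9 | (revert hp; norm_num; done) | (revert hp12; norm_num)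
    · left
      refine ChevEigen14.rootMultiplicity_le_one ?_ hp12 _
      rw [hchar]
      exact ChevTwistArith14.cyclotomic_mul_dvd (by norm_num) (by norm_num) (by norm_num) (by norm_num)
  refine exists_selfCentralizing_of_twist ChevalleyDataE6.cert ChevalleyTorusCard.smithE6 ChevWeylData.e6
    ChevE6Twist14.supp StGen.gen_E6 ChevE6Twist14.tab ChevE6Twist14.hmin Nat.prime_three ι σ hσ
    (StEmbedE8.tor_injective ChevalleyDataE6.cert ChevalleyDataE6.rows StEmbedE8.emb_E6 (StDataADE.data_E6 _) K StGen.gen_E6)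
    hg n hn hnw hdet hu hgen ?_ hg₀ rfl hcyc ?_
  · intro a ha
    obtain ⟨i, rfl⟩ := hgen a ha
    by_cases h : q % 3 = 1
    · have h3 : 3 * N ∣ Fintype.card K - 1 := by
        rw [← Int.natCast_dvd_natCast, hQ, Nat.cast_mul, mul_comm]
        exact mul_dvd_mul_left _ (((show (3 : ℤ) ∣ (q : ℤ) - 1 by omega).mul_right _).mul_right _)
      obtain ⟨v, hv, hvgen⟩ := exists_prim (K := K) h3
      obtain ⟨j, hj⟩ := hvgen (i • u) (by rw [mul_nsmul', ha, nsmul_zero])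
      have hd : ((3 * N : ℕ) : ℤ) ∣ N * j := by
        rw [← hv, addOrderOf_dvd_iff_zsmul_eq_zero, mul_zsmul, hj, natCast_zsmul, ha]
      rw [Nat.cast_mul, mul_comm ((3 : ℕ) : ℤ)] at hd
      obtain ⟨e, rfl⟩ := (mul_dvd_mul_iff_left (Int.natCast_ne_zero.2 hN0)).1 hd
      exact ⟨e • v, by rw [← natCast_zsmul, ← mul_zsmul, hj]⟩
    · have hco : Nat.gcd 3 N = 1 := (Nat.Prime.coprime_iff_not_dvd Nat.prime_three).2 (mt h3N.1 h)
      refine ⟨Nat.gcdA 3 N • (i • u), ?_⟩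
      have hb : (1 : ℤ) = ((3 : ℕ) : ℤ) * Nat.gcdA 3 N + (N : ℤ) * Nat.gcdB 3 N := by
        rw [← Nat.gcd_eq_gcd_ab, hco, Nat.cast_one]
      conv_rhs => rw [← one_zsmul (i • u), hb, add_zsmul, mul_zsmul, mul_comm (N : ℤ), mul_zsmul,
        natCast_zsmul, natCast_zsmul, ha, zsmul_zero, add_zero]
  · intro s hs
    refine ⟨chi ChevalleyTorusCard.smithE6 c, ?_, ?_⟩
    · rw [act_sub_smul_one, act_Pm, hwc, natCast_zsmul, sub_self]
    · intro h0
      have hne : ChevRootCoord68.ev ChevalleyDataE6.cert (chi ChevalleyTorusCard.smithE6 c) s ≠ 0 :=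
        fun h => hreg s hs ((hfz s hs).2 h)
      have hord' : addOrderOf (ChevRootCoord68.ev ChevalleyDataE6.cert (chi ChevalleyTorusCard.smithE6 c) s) = ℓ :=
        addOrderOf_eq_prime (by rw [← ChevRootCoord68.ev_nsmul, hcℓ, ChevRootCoord68.ev_zero]) hne
      have hd := addOrderOf_dvd_of_nsmul_eq_zero h0
      rw [hord', hℓ.dvd_mul] at hd
      rcases hd with hd | hd
      · exact hnd 3 (by norm_num) (by norm_num) hd
      · exact hnd 3 (by norm_num) (by norm_num) (hd.trans (Nat.gcd_dvd_left _ _))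

end Cfsg.Agent.S2373
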