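import Cfsg.Statements.S2374
import Cfsg.Agent.Lib.ChevE7RankOne14
-- import your own Cfsg.Agent.* helpers here

set_option autoImplicit false
set_option maxRecDepth 100000
open Cfsg

namespace Cfsg.Agent.S2374

open Cfsg.Lie Cfsg.Agent.ChevTorusTwist14 Cfsg.Agent.ChevE7Twist14
open Cfsg.Agent.ChevRootFn14 (Tab)
open Cfsg.Agent.ChevRootCoord68 (ev wact ev_nsmul ev_zero ev_smul_const ev_add ev_neg)
open Cfsg.Agent.ChevWeyl
open Cfsg.Agent.ChevCoxTorus68 (Pm act_Pm exists_prim)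
open Cfsg.Agent.ChevalleyTorusCard (act)
open Cfsg.Agent.CyclotomicCharpoly68

/-- the certificate -/
local notation "C₇" => ChevalleyDataE7.cert

theorem rest (q : ℤ) : (q ^ 4 - q ^ 2 + 1) * (q ^ 3 + 1) * ((q ^ 3 - 1) * (q ^ 2 + 1)) = q ^ 12 - 1 := by
  ring

theorem cyclotomic_twelve : Polynomial.cyclotomic 12 ℤ = Polynomial.X ^ 4 - Polynomial.X ^ 2 + 1 := by
  rw [show (12 : ℕ) = 6 * 2 by norm_num,
    ← Polynomial.cyclotomic_expand_eq_cyclotomic Nat.prime_two (by norm_num) ℤ, Polynomial.cyclotomic_six]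
  simp only [map_add, map_sub, map_pow, Polynomial.expand_X, map_one]
  ring

theorem simple_root_two :
    ((Polynomial.cyclotomic 12 ℤ * (Polynomial.cyclotomic 2 ℤ * Polynomial.cyclotomic 6 ℤ)).map
      (Int.castRingHom (ZMod 2))).rootMultiplicity (1 : ZMod 2) ≤ 1 := by
  have key : ((3 : ZMod 2) - 1) * (1 + 1) + (1 + (1 + 1)) ≠ 0 := by decide
  have : Fact (Nat.Prime 2) := ⟨Nat.prime_two⟩
  have hne : (Polynomial.cyclotomic 12 ℤ * (Polynomial.cyclotomic 2 ℤ * Polynomial.cyclotomic 6 ℤ)).map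
      (Int.castRingHom (ZMod 2)) ≠ 0 :=
    (((Polynomial.cyclotomic.monic 12 ℤ).mul ((Polynomial.cyclotomic.monic 2 ℤ).mul
      (Polynomial.cyclotomic.monic 6 ℤ))).map _).ne_zero
  refine not_lt.1 fun h => ?_
  have h1 := ((Polynomial.one_lt_rootMultiplicity_iff_isRoot hne).1 h).2
  rw [cyclotomic_twelve, Polynomial.cyclotomic_two, Polynomial.cyclotomic_six] at h1
  simp [Polynomial.IsRoot, Polynomial.derivative_mul] at h1
  exact key h1

/-- The twisted fixed point group is cyclic if at each prime the eigenvalue is a simple root or the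
group has an element of the full power of the prime. -/
theorem cyclic_ker {l : ℕ} {M : Type*} [AddCommGroup M] [Finite M] (P : Matrix (Fin l) (Fin l) ℤ) (q : ℤ)
    {N : ℕ} [NeZero N] (hdet : (P - q • 1).det.natAbs = N) {u : M} (hu : addOrderOf u = N)
    (hgen : ∀ x : M, N • x = 0 → ∃ i : ℤ, i • u = x)
    (hp : ∀ (p : ℕ) (_ : p.Prime), p ∣ N →
      (P.charpoly.map (Int.castRingHom (ZMod p))).rootMultiplicity (q : ZMod p) ≤ 1 ∨
      ∃ a, act (P - q • 1) a = 0 ∧ ∃ e, p ^ e ∣ addOrderOf (a : Fin l → M) ∧ ¬ p ^ (e + 1) ∣ N) :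
    IsAddCyclic ↥(actHom (M := M) (P - q • 1)).ker := by
  classical
  have hcard : Nat.card ↥(actHom (M := M) (P - q • 1)).ker = N :=
    Eq.trans (Nat.card_congr (Equiv.subtypeEquivRight fun χ => Iff.rfl)) (card_ker' _ hdet hu hgen)
  refine ChevEigen14.isAddCyclic_of_torsion fun p hpp hpN => ?_
  rw [hcard] at hpN
  have : Fact p.Prime := ⟨hpp⟩
  rcases hp p hpp hpN with hmult | ⟨a, ha, e, hea, heN⟩
  · have hpu : addOrderOf ((N / p) • u) = p := by
      rw [addOrderOf_nsmul' _ (Nat.div_pos (Nat.le_of_dvd (Nat.pos_of_ne_zero (NeZero.ne N)) hpN)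
        hpp.pos).ne', hu, Nat.gcd_eq_right (Nat.div_dvd_of_dvd hpN), Nat.div_div_self hpN (NeZero.ne N)]
    have hgen' : ∀ x : M, p • x = 0 → ∃ k : ℤ, k • ((N / p) • u) = x := by
      intro x hx
      obtain ⟨e, he⟩ := hpN
      obtain ⟨i, hi⟩ := hgen x (by rw [he, mul_comm, mul_nsmul', hx, nsmul_zero])
      have h1 : (N : ℤ) ∣ p * i := by
        rw [← hu, addOrderOf_dvd_iff_zsmul_eq_zero, mul_zsmul, hi, natCast_zsmul, hx]
      rw [he, Nat.cast_mul] at h1
      obtain ⟨j, hj⟩ := (mul_dvd_mul_iff_left (Int.natCast_ne_zero.2 hpp.ne_zero)).1 h1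
      refine ⟨j, ?_⟩
      rw [he, Nat.mul_div_cancel_left _ hpp.pos, ← natCast_zsmul u e, ← mul_zsmul, mul_comm, ← hj, hi]
    have h := ChevEigen14.card_torsion_le P q hpu hgen'
    rw [show (P.map (Int.castRingHom (ZMod p))).charpoly = P.charpoly.map (Int.castRingHom (ZMod p)) from
      Matrix.charpoly_map _ _] at h
    refine le_trans (le_of_eq_of_le (Nat.card_congr ?_) (h.trans (Nat.pow_le_pow_right hpp.pos hmult))) (pow_one p).le
    exact ⟨fun a => ⟨a.1.1, a.1.2, congrArg Subtype.val a.2⟩,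
      fun a => ⟨⟨a.1, a.2.1⟩, Subtype.ext a.2.2⟩, fun a => rfl, fun a => rfl⟩
  · let A := (actHom (M := M) (P - q • 1)).ker
    let a' : ↥A := ⟨a, ha⟩
    obtain ⟨r, hr⟩ : p ^ e ∣ addOrderOf a' := by rwa [← AddSubgroup.addOrderOf_coe]
    have hr0 : r ≠ 0 := fun h => (addOrderOf_pos a').ne' (by rw [hr, h, mul_zero])
    set b := r • a' with hb
    have hbord : addOrderOf b = p ^ e := by
      rw [hb, addOrderOf_nsmul' _ hr0, hr, Nat.gcd_mul_left_left, Nat.mul_div_cancel _ (Nat.pos_of_ne_zero hr0)]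
    set Z := AddSubgroup.zmultiples b with hZ
    have hcardZ : Nat.card ↥Z = p ^ e := by rw [hZ, Nat.card_zmultiples, hbord]
    have hidx := Z.card_mul_index
    rw [hcardZ, hcard] at hidx
    have hco : Nat.Coprime p Z.index := (Nat.Prime.coprime_iff_not_dvd hpp).2 fun h =>
      heN (by rw [pow_succ, ← hidx]; exact mul_dvd_mul_left _ h)
    have hin : ∀ x : ↥A, p • x = 0 → x ∈ Z := by
      intro x hx
      rw [← QuotientAddGroup.eq_zero_iff]
      have h1 : addOrderOf (x : ↥A ⧸ Z) ∣ p := addOrderOf_dvd_of_nsmul_eq_zero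
        (by rw [← QuotientAddGroup.mk_nsmul, hx, QuotientAddGroup.mk_zero])
      have h2 : addOrderOf (x : ↥A ⧸ Z) ∣ Z.index := addOrderOf_dvd_natCard _
      exact AddMonoid.addOrderOf_eq_one_iff.1 (Nat.dvd_one.1 (hco ▸ Nat.dvd_gcd h1 h2))
    let f : {x : ↥A // p • x = 0} → {y : ↥Z // p • y = 0} := fun x =>
      ⟨⟨x.1, hin x.1 x.2⟩, Subtype.ext x.2⟩
    refine le_trans (Nat.card_le_card_of_injective f fun x y h => Subtype.ext ?_) ?_
    · exact congrArg (fun z => (z.1 : ↥A)) h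
    · have : Fintype ↥Z := Fintype.ofFinite _
      rw [Nat.card_eq_fintype_card, Fintype.card_subtype]
      exact IsAddCyclic.card_nsmul_eq_zero_le hpp.pos

/-- The three roots give an eigenfunctional of order dividing `2 (q³+1)`. -/
theorem extra_eigen (X : Weyl chevE7) (w : X.W) {z : ℕ} (hz : z < chevE7.nroots)
    (h1 : pr (X.img w z) z = 0) (h2 : pr (X.img w (X.img w z)) z = 0)
    (h3 : X.img w (X.img w (X.img w z)) = chevE7.neg z) {M : Type*} [AddCommGroup M] {u : M} (q : ℕ)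
    (hu : (q ^ 3 + 1) • u = 0) :
    ∃ χ : Fin chevE7.rank → M, act (Pm C₇ X w - (q : ℤ) • 1) χ = 0 ∧ ev C₇ χ z = 2 • u ∧
      ev C₇ χ (X.img w z) = 2 • q • u ∧ ev C₇ χ (X.img w (X.img w z)) = 2 • q • q • u := by
  have hz1 := X.img_lt w hz
  have hz2 := X.img_lt w hz1
  have h21 : pr (X.img w (X.img w z)) (X.img w z) = 0 := by rw [pr_img X w hz1 hz]; exact h1
  let χ : Fin chevE7.rank → M := (fun j => gam z j • u) + (fun j => gam (X.img w z) j • (q • u)) +
    fun j => gam (X.img w (X.img w z)) j • (q • q • u)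
  have hev : ∀ s, ev C₇ χ s = pr s z • u + pr s (X.img w z) • (q • u) +
      pr s (X.img w (X.img w z)) • (q • q • u) := fun s => by
    simp only [χ, ev_add, ev_smul_const]; rfl
  refine ⟨χ, ?_, ?_, ?_, ?_⟩
  · rw [act_sub_smul_one, act_Pm, sub_eq_zero]
    funext j
    have hj := X.simple_lt j.isLt
    show ev C₇ χ (X.img w (chevE7.simple j.val)) = (q : ℤ) • χ j
    rw [← ChevRootCoord68.ev_simple C₇ χ j, hev, hev, pr_img X w hj hz, pr_img X w hj hz1,
      show pr (X.img w (chevE7.simple j.val)) z = - pr (chevE7.simple j.val) (X.img w (X.img w z)) by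
        rw [← pr_img X w hj hz2, h3, pr_neg_right hz, neg_neg]]
    have hq3 : q • q • q • u = -u := by
      rw [← mul_nsmul', ← mul_nsmul', eq_neg_iff_add_eq_zero, ← succ_nsmul, ← hu]
      congr 1; ring
    simp only [smul_add, natCast_zsmul, smul_comm (q : ℕ) (_ : ℤ), hq3, neg_smul, smul_neg]
    abel
  · rw [hev, pr_self ⟨z, hz⟩, pr_comm hz hz1, h1, pr_comm hz hz2, h2]; simp [two_zsmul, two_nsmul]
  · rw [hev, pr_self ⟨_, hz1⟩, h1, pr_comm hz1 hz2, h21]; simp [two_zsmul, two_nsmul]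
  · rw [hev, pr_self ⟨_, hz2⟩, h2, h21]; simp [two_zsmul, two_nsmul]

/-- The group E₇(q) (the simple Chevalley group of type E₇) contains a cyclic subgroup of order (q⁴ − q² + 1)(q³ + 1)/gcd(2, q − 1) which is its own centralizer. -/
theorem result {F : Type*} [Field F] [Fintype F] (q : ℕ) (hF : Fintype.card F = q) :
    ∃ H : Subgroup ↥(Cfsg.Lie.chevE7.group F), IsCyclic ↥H ∧ Nat.card ↥H = (q ^ 4 - q ^ 2 + 1) * (q ^ 3 + 1) / Nat.gcd 2 (q - 1) ∧
      Subgroup.centralizer (H : Set ↥(Cfsg.Lie.chevE7.group F)) = H := by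
  classical
  subst hF
  set q := Fintype.card F with hq
  have hq2 : 2 ≤ q := Fintype.one_lt_card
  obtain ⟨K, _, _, ι, σ, hcardK, hσ⟩ := ChevTwistArith14.exists_ext (F := F) (d := 12) (by norm_num)
  set M := q ^ 4 - q ^ 2 + 1 with hM
  set M3 := q ^ 3 + 1 with hM3
  have hq4 : q ^ 2 ≤ q ^ 4 := Nat.pow_le_pow_right (by omega) (by norm_num)
  have hMz : (M : ℤ) = (q : ℤ) ^ 4 - (q : ℤ) ^ 2 + 1 := by rw [hM]; push_cast [hq4]; ring
  have hMbig : 2 ≤ M := by
    have : q ^ 2 < q ^ 4 := Nat.pow_lt_pow_right (by omega) (by norm_num)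
    omega
  have hmod : ∀ m : ℕ, m = 2 ∨ m = 3 → ¬ (m : ℤ) ∣ (q : ℤ) ^ 4 - (q : ℤ) ^ 2 + 1 := by
    intro m hm h
    rw [← ZMod.intCast_zmod_eq_zero_iff_dvd] at h
    push_cast at h
    revert h
    rcases hm with rfl | rfl
    · generalize (q : ZMod 2) = x; revert x; decide
    · generalize (q : ZMod 3) = x; revert x; decide
  obtain ⟨ℓ, hℓ, hℓM⟩ := Nat.exists_prime_and_dvd (show M ≠ 1 by omega)
  have : Fact ℓ.Prime := ⟨hℓ⟩
  have hℓM' : (ℓ : ℤ) ∣ (q : ℤ) ^ 4 - (q : ℤ) ^ 2 + 1 := hMz ▸ Int.natCast_dvd_natCast.2 hℓM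
  have hℓ12' : ¬ ℓ ∣ 12 := by
    intro h
    have := Nat.le_of_dvd (by norm_num) h
    interval_cases ℓ <;> first | exact hmod 2 (Or.inl rfl) hℓM' | exact hmod 3 (Or.inr rfl) hℓM' |
      (revert hℓ; norm_num; done) | (revert h; norm_num)
  have hΦ : (ℓ : ℤ) ∣ (Polynomial.cyclotomic 12 ℤ).eval (q : ℤ) := by
    rw [ChevTwistArith14.eval_cyclotomic_twelve]; exact hℓM'
  have hord : orderOf (q : ZMod ℓ) = 12 := by
    have := orderOf_eq_of_root hℓ12' hΦ
    rwa [Int.cast_natCast] at this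
  have hℓbig : 12 < ℓ := by
    have hne : (q : ZMod ℓ) ≠ 0 := fun h0 => by
      rw [h0, orderOf_eq_zero_iff'.2 fun n hn => by rw [zero_pow hn.ne']; exact zero_ne_one] at hord
      omega
    have := hord ▸ ZMod.orderOf_dvd_card_sub_one hne
    have := hℓ.two_le
    have := Nat.le_of_dvd (by omega) ‹12 ∣ ℓ - 1›
    omega
  have hnd : ∀ e, 0 < e → e ≤ 12 → ¬ ℓ ∣ e := fun e h1 h2 h => by have := Nat.le_of_dvd h1 h; omega
  let X := ChevWeylData.e7
  let χ : (Fin chevE7.rank → Kˣ) → Fin chevE7.rank → Additive Kˣ := chi ChevalleyTorusCard.smithE7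
  obtain ⟨g, hg, n, c, hn, hc0, hcℓ, hwc⟩ :=
    ChevE6InE7Twist14.exists_twist_E7 hcardK ι σ hσ hℓbig hord hΦ
  obtain ⟨w, hw⟩ : ∃ w : X.W, (sysK C₇ X supp).toW n = w := ⟨_, rfl⟩
  replace hwc : wact C₇ X w (χ c) = q • χ c := hw ▸ hwc
  -- the order
  set N := M * M3 with hN
  have hN0 : N ≠ 0 := Nat.mul_ne_zero (by omega) (by omega)
  have : NeZero N := ⟨hN0⟩
  have hNz : (N : ℤ) = ((q : ℤ) ^ 4 - (q : ℤ) ^ 2 + 1) * ((q : ℤ) ^ 3 + 1) := by
    rw [hN, Nat.cast_mul, hMz, hM3]; push_cast; ring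
  have hQ : ((Fintype.card K - 1 : ℕ) : ℤ) =
      (N : ℤ) * (((q : ℤ) ^ 3 - 1) * ((q : ℤ) ^ 2 + 1)) := by
    rw [hNz, rest, hcardK, Nat.cast_sub (Nat.one_le_pow _ _ (by omega)), Nat.cast_pow, Nat.cast_one]
  have hNQ : N ∣ Fintype.card K - 1 := Int.natCast_dvd_natCast.1 (hQ ▸ dvd_mul_right _ _)
  have hℓN : ℓ ∣ N := hℓM.trans (dvd_mul_right _ _)
  obtain ⟨f, hf0, hfz, hfe, hfd⟩ := ChevTwistSetup14.exists_int_eigen C₇ X (hℓN.trans hNQ) hc0 hcℓ hwc
  obtain ⟨z, hz, hzf, hp1, hp2, hp3, hzero⟩ := triple X supp hℓbig f hf0 w q hord hΦ hfe hfd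
  have hz0 : ev C₇ (χ c) z = 0 := (hfz z hz).1 hzf
  -- three negated roots
  obtain ⟨g, hg, n, w, hn, hw, hwc, h1, h2, h3, hzero⟩ : ∃ g ∈ chevE7.group K,
      ∃ (n : ↥(chevE7.monomialSubgroup K)) (w : X.W), (n : GL chevE7.Idx K) = g * (ChevFieldAut77.psi σ g)⁻¹ ∧
        (sysK C₇ X supp).toW n = w ∧ wact C₇ X w (χ c) = q • χ c ∧ pr (X.img w z) z = 0 ∧
        pr (X.img w (X.img w z)) z = 0 ∧ X.img w (X.img w (X.img w z)) = chevE7.neg z ∧
        ∀ s, s < chevE7.nroots → ev C₇ (χ c) s = 0 → s = z ∨ s = chevE7.neg z ∨ s = X.img w z ∨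
          s = chevE7.neg (X.img w z) ∨ s = X.img w (X.img w z) ∨ s = chevE7.neg (X.img w (X.img w z)) := by
    have hzero' := fun s hs' h0 => hzero s hs' ((hfz s hs').2 h0)
    rcases hp3 with h3 | h3
    · obtain ⟨g', hg', n', w', hn', hw', hwc', e1, e2, e3⟩ := ChevE7RankOne14.rank_one_fix hq2 hcardK σ hσ X supp
        hg n hn hw hz hp1 hp2 h3 c hz0
      exact ⟨g', hg', n', w', hn', hw', hwc'.trans hwc, by rw [e1]; exact hp1, by rw [e1, e2]; exact hp2,
        by rw [e1, e2, e3], by rw [e1, e2]; exact hzero'⟩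
    · exact ⟨g, hg, n, w, hn, hw, hwc, hp1, hp2, h3, hzero'⟩
  obtain ⟨f', -, -, -, hfd⟩ := ChevTwistSetup14.exists_int_eigen C₇ X (hℓN.trans hNQ) hc0 hcℓ hwc
  have hchar := charpoly_eq X supp hℓbig w q hΦ hfd hz h1 h2 h3
  have hdet : (Pm C₇ X w - (q : ℤ) • 1).det.natAbs = N := by
    rw [← neg_sub, Matrix.det_neg, Int.natAbs_mul, Int.natAbs_pow,
      show ((q : ℤ) • (1 : Matrix (Fin chevE7.rank) (Fin chevE7.rank) ℤ) - Pm C₇ X w).det = (N : ℤ) from ?_]
    · simp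
    rw [Matrix.smul_one_eq_diagonal, ← Matrix.scalar_apply, ← Matrix.eval_charpoly, hchar, Polynomial.eval_mul,
      ChevTwistArith14.eval_cyclotomic_twelve, Polynomial.eval_mul, Polynomial.cyclotomic_two,
      Polynomial.cyclotomic_six, hNz]
    simp only [Polynomial.eval_add, Polynomial.eval_sub, Polynomial.eval_pow, Polynomial.eval_X, Polynomial.eval_one]
    ring
  have h2N : 2 ∣ N ↔ q % 2 = 1 := by
    rw [← Int.natCast_dvd_natCast, hNz, ← ZMod.intCast_zmod_eq_zero_iff_dvd]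
    push_cast
    have : q % 2 = 1 ↔ (q : ZMod 2) = 1 := by
      have := (ZMod.natCast_eq_natCast_iff' q 1 2).symm
      simpa using this
    rw [this]
    generalize (q : ZMod 2) = x
    revert x; decide
  have hg₀ : Nat.gcd 2 N = Nat.gcd 2 (q - 1) := by
    by_cases h : q % 2 = 1
    · rw [Nat.gcd_eq_left (h2N.2 h), Nat.gcd_eq_left (show 2 ∣ q - 1 by omega)]
    · rw [(Nat.Prime.coprime_iff_not_dvd Nat.prime_two).2 (mt h2N.1 h),
        (Nat.Prime.coprime_iff_not_dvd Nat.prime_two).2 (show ¬ 2 ∣ q - 1 by omega)]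
  obtain ⟨u, hu, hgen⟩ := exists_prim (K := K) hNQ
  -- an element of order `q³ + 1`
  set u₃ := M • u with hu₃d
  have hu₃ : addOrderOf u₃ = M3 := by
    rw [hu₃d, addOrderOf_nsmul' _ (by omega), hu, hN, Nat.gcd_mul_right_left, Nat.mul_div_cancel_left _ (by omega)]
  obtain ⟨χ₃, hχ₃, hv0, hv1, hv2⟩ := extra_eigen X w hz h1 h2 h3 (u := u₃) q
    (by rw [← hM3, ← hu₃]; exact addOrderOf_nsmul_eq_zero u₃)
  have hcyc := cyclic_ker (M := Additive Kˣ) (Pm C₇ X w) (q : ℤ) hdet hu hgen fun p hp hpN => by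
    have : Fact p.Prime := ⟨hp⟩
    by_cases hp12 : p ∣ 12
    · have := Nat.le_of_dvd (by norm_num) hp12
      have hp23 : p = 2 ∨ p = 3 := by
        interval_cases p <;> first | omega | (revert hp; norm_num; done) | (revert hp12; norm_num)
      rcases hp23 with rfl | rfl
      · left
        have hq1 : (((q : ℕ) : ℤ) : ZMod 2) = 1 := by
          rw [Int.cast_natCast]
          simpa using (ZMod.natCast_eq_natCast_iff' q 1 2).2 (by simpa using h2N.1 hpN)
        rw [hchar, hq1]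
        exact simple_root_two
      · right
        obtain ⟨e, r, hr, her⟩ := Nat.exists_eq_pow_mul_and_not_dvd hN0 3 (by norm_num)
        refine ⟨χ₃, hχ₃, e, ?_, fun h => hr ?_⟩
        · have hd : 3 ^ e ∣ M3 := by
            refine Nat.Coprime.dvd_of_dvd_mul_left (Nat.Coprime.pow_left e
              ((Nat.Prime.coprime_iff_not_dvd Nat.prime_three).2 fun h => hmod 3 (Or.inr rfl)
                (hMz ▸ Int.natCast_dvd_natCast.2 h))) ?_
            rw [← hN, her]; exact dvd_mul_right _ _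
          have h0 : (addOrderOf χ₃ * 2) • u₃ = 0 := by
            rw [mul_nsmul', ← hv0, ← ev_nsmul, addOrderOf_nsmul_eq_zero, ev_zero]
          have h4 : 3 ^ e ∣ addOrderOf χ₃ * 2 :=
            hd.trans (hu₃ ▸ addOrderOf_dvd_of_nsmul_eq_zero h0)
          exact (Nat.Coprime.pow_left e (by norm_num)).dvd_of_dvd_mul_right h4
        · rw [her, pow_succ] at h
          exact (mul_dvd_mul_iff_left (pow_ne_zero e (by norm_num))).1 h
    · left
      refine ChevEigen14.rootMultiplicity_le_one (n := 12) ?_ hp12 _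
      rw [hchar, ← Polynomial.prod_cyclotomic_eq_X_pow_sub_one (by norm_num) ℤ]
      calc _ = ∏ i ∈ ({12, 2, 6} : Finset ℕ), Polynomial.cyclotomic i ℤ := by
            rw [Finset.prod_insert (by decide), Finset.prod_insert (by decide), Finset.prod_singleton]
        _ ∣ _ := Finset.prod_dvd_prod_of_subset _ _ _ (by decide)
  refine exists_selfCentralizing_of_twist C₇ ChevalleyTorusCard.smithE7 X supp StGen.gen_E7 tab hmin Nat.prime_two
    ι σ hσ (StEmbedE8.tor_injective C₇ ChevalleyDataE7.rows StEmbedE8.emb_E7 (StDataADE.data_E7 _) K StGen.gen_E7)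
    hg n hn hw hdet hu hgen ?_ hg₀ rfl hcyc ?_
  · intro a ha
    obtain ⟨i, rfl⟩ := hgen a ha
    by_cases h : q % 2 = 1
    · have h2' : 2 * N ∣ Fintype.card K - 1 := by
        rw [← Int.natCast_dvd_natCast, hQ, Nat.cast_mul, mul_comm]
        refine mul_dvd_mul_left _ (dvd_mul_of_dvd_right ?_ _)
        rw [← ZMod.intCast_zmod_eq_zero_iff_dvd]
        push_cast
        have : (q : ZMod 2) = 1 := by simpa using (ZMod.natCast_eq_natCast_iff' q 1 2).2 (by simpa using h)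
        rw [this]; decide
      obtain ⟨v, hv, hvgen⟩ := exists_prim (K := K) h2'
      obtain ⟨j, hj⟩ := hvgen (i • u) (by rw [mul_nsmul', ha, nsmul_zero])
      have hd : ((2 * N : ℕ) : ℤ) ∣ N * j := by
        rw [← hv, addOrderOf_dvd_iff_zsmul_eq_zero, mul_zsmul, hj, natCast_zsmul, ha]
      rw [Nat.cast_mul, mul_comm ((2 : ℕ) : ℤ)] at hd
      obtain ⟨e, rfl⟩ := (mul_dvd_mul_iff_left (Int.natCast_ne_zero.2 hN0)).1 hd
      exact ⟨e • v, by rw [← natCast_zsmul, ← mul_zsmul, hj]⟩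
    · have hco : Nat.gcd 2 N = 1 := (Nat.Prime.coprime_iff_not_dvd Nat.prime_two).2 (mt h2N.1 h)
      refine ⟨Nat.gcdA 2 N • (i • u), ?_⟩
      have hb : (1 : ℤ) = ((2 : ℕ) : ℤ) * Nat.gcdA 2 N + (N : ℤ) * Nat.gcdB 2 N := by
        rw [← Nat.gcd_eq_gcd_ab, hco, Nat.cast_one]
      conv_rhs => rw [← one_zsmul (i • u), hb, add_zsmul, mul_zsmul, mul_comm (N : ℤ), mul_zsmul,
        natCast_zsmul, natCast_zsmul, ha, zsmul_zero, add_zero]
  · intro s hs
    by_cases h0 : ev C₇ (χ c) s = 0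
    · refine ⟨χ₃, hχ₃, fun hd => ?_⟩
      have hle : ∀ j, j ≤ 2 → ¬ (2 * Nat.gcd 2 (q - 1)) • (2 • (q ^ j • u₃)) = 0 := by
        intro j hj hzero
        rw [← mul_nsmul', ← mul_nsmul', ← addOrderOf_dvd_iff_nsmul_eq_zero, hu₃] at hzero
        have hcop : Nat.Coprime M3 (q ^ j) := by
          refine Nat.Coprime.pow_right j ?_
          rw [hM3, show q ^ 3 + 1 = 1 + q * q ^ 2 by ring, Nat.coprime_add_mul_left_left]
          exact Nat.coprime_one_left q
        have h8 := Nat.le_of_dvd (by positivity) (hcop.dvd_of_dvd_mul_right hzero)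
        have h9 : Nat.gcd 2 (q - 1) ≤ 2 := Nat.le_of_dvd (by norm_num) (Nat.gcd_dvd_left _ _)
        have h10 : 2 ^ 3 ≤ q ^ 3 := Nat.pow_le_pow_left hq2 3
        have h11 : M3 = q ^ 3 + 1 := hM3
        omega
      rcases hzero s hs h0 with rfl | rfl | rfl | rfl | rfl | rfl
      · exact hle 0 (by norm_num) (by rwa [pow_zero, one_smul, ← hv0])
      · rw [ev_neg C₇ χ₃ hz, neg_nsmul, neg_eq_zero] at hd
        exact hle 0 (by norm_num) (by rwa [pow_zero, one_smul, ← hv0])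
      · exact hle 1 (by norm_num) (by rwa [pow_one, ← hv1])
      · rw [ev_neg C₇ χ₃ (X.img_lt w hz), neg_nsmul, neg_eq_zero] at hd
        exact hle 1 (by norm_num) (by rwa [pow_one, ← hv1])
      · exact hle 2 (by norm_num) (by rwa [show q ^ 2 • u₃ = q • q • u₃ by rw [sq, mul_nsmul'], ← hv2])
      · rw [ev_neg C₇ χ₃ (X.img_lt w (X.img_lt w hz)), neg_nsmul, neg_eq_zero] at hd
        exact hle 2 (by norm_num) (by rwa [show q ^ 2 • u₃ = q • q • u₃ by rw [sq, mul_nsmul'], ← hv2])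
    · refine ⟨χ c, by rw [act_sub_smul_one, act_Pm, hwc, natCast_zsmul, sub_self], fun h => ?_⟩
      have hord' : addOrderOf (ev C₇ (χ c) s) = ℓ :=
        addOrderOf_eq_prime (by rw [← ev_nsmul, hcℓ, ev_zero]) h0
      have hd := addOrderOf_dvd_of_nsmul_eq_zero h
      rw [hord', hℓ.dvd_mul] at hd
      rcases hd with hd | hd
      · exact hnd 2 (by norm_num) (by norm_num) hd
      · exact hnd 2 (by norm_num) (by norm_num) (hd.trans (Nat.gcd_dvd_left _ _))

end Cfsg.Agent.S2374
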