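import Cfsg.Statements.S2375
import Cfsg.Agent.Lib.ChevCoxTorus68
import Cfsg.Agent.Lib.ChevalleyAll

set_option autoImplicit false
open Cfsg

namespace Cfsg.Agent.S2375

open Cfsg.Lie Cfsg.Agent.ChevRootCoord68

theorem orth : ∀ i j : Fin chevE8.rank, i ≠ j → ∑ s : Fin chevE8.nroots,
    ChevalleyDataE8.cert.coef s.val j.val * chevE8.cartan i.val s.val = 0 := by decide +kernel

theorem norm_pos : ∀ i : Fin chevE8.rank, 0 < ∑ s : Fin chevE8.nroots,
    ChevalleyDataE8.cert.coef s.val i.val * chevE8.cartan i.val s.val := by decide +kernel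

theorem pos_sum : ∀ i : Fin chevE8.rank, ∑ s : Fin chevE8.nroots,
    (if chevE8.nroots / 2 ≤ s.val then chevE8.cartan i.val s.val else 0) = 2 := by decide +kernel

theorem top : ∀ j : Fin chevE8.rank, 2 ≤ ChevalleyDataE8.cert.coef (chevE8.nroots - 1) j.val ∧
    ChevalleyDataE8.cert.coef (chevE8.nroots - 1) j.val ≤ ((6 : ℕ) : ℤ) := by decide +kernel

theorem le_top : ∀ (s : Fin chevE8.nroots) (j : Fin chevE8.rank), ChevalleyDataE8.cert.coef s.val j.val ≤
    ChevalleyDataE8.cert.coef (chevE8.nroots - 1) j.val := by decide +kernel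

theorem num : Num ChevalleyDataE8.cert 6 where
  rank_pos := by decide +kernel
  orth := orth
  norm_pos := norm_pos
  pos_sum := pos_sum
  two_le_top j := (top j).1
  top_le j := (top j).2
  le_top := le_top

theorem supp : ChevBruhat.suppCheck chevE8 = true := by decide +kernel

theorem poly : ChevOrder.polyOK ChevWeylData.e8.chain chevE8.rank [2, 8, 12, 14, 18, 20, 24, 30] =
    true := by
  decide +kernel

open Polynomial in
theorem cyclotomic_thirty :
    cyclotomic 30 ℤ = X ^ 8 + X ^ 7 - X ^ 5 - X ^ 4 - X ^ 3 + X + 1 := by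
  have h3 : cyclotomic 3 ℤ = X ^ 2 + X + 1 := by
    rw [cyclotomic_three]
  have h6 : cyclotomic 6 ℤ = X ^ 2 - X + 1 := by
    refine mul_right_cancel₀ (cyclotomic_ne_zero 3 ℤ) ?_
    have h := cyclotomic_expand_eq_cyclotomic_mul (n := 3) Nat.prime_two (by norm_num) ℤ
    rw [← h, h3]
    simp only [map_add, map_pow, expand_X, map_one]
    ring
  refine mul_right_cancel₀ (cyclotomic_ne_zero 6 ℤ) ?_
  have h := cyclotomic_expand_eq_cyclotomic_mul (n := 6) (p := 5) (by norm_num) (by norm_num) ℤ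
  rw [← h, h6]
  simp only [map_add, map_sub, map_pow, expand_X, map_one]
  ring

/-- The value as a natural number. -/
theorem cast_value (q : ℕ) (hq : 2 ≤ q) :
    ((q ^ 8 + q ^ 7 - q ^ 5 - q ^ 4 - q ^ 3 + q + 1 : ℕ) : ℤ) =
      (q : ℤ) ^ 8 + (q : ℤ) ^ 7 - (q : ℤ) ^ 5 - (q : ℤ) ^ 4 - (q : ℤ) ^ 3 + q + 1 := by
  have e : ∀ a b, a ≤ b → q ^ a ≤ q ^ b := fun a b h => Nat.pow_le_pow_right (by omega) h
  have h1 : 2 * q ^ 7 ≤ q ^ 8 := by rw [pow_succ q 7, mul_comm]; exact Nat.mul_le_mul_left _ hq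
  have := e 5 7 (by norm_num)
  have := e 4 7 (by norm_num)
  have := e 3 7 (by norm_num)
  rw [show ((q : ℤ) ^ 8) = ((q ^ 8 : ℕ) : ℤ) by push_cast; ring,
    show ((q : ℤ) ^ 7) = ((q ^ 7 : ℕ) : ℤ) by push_cast; ring,
    show ((q : ℤ) ^ 5) = ((q ^ 5 : ℕ) : ℤ) by push_cast; ring,
    show ((q : ℤ) ^ 4) = ((q ^ 4 : ℕ) : ℤ) by push_cast; ring,
    show ((q : ℤ) ^ 3) = ((q ^ 3 : ℕ) : ℤ) by push_cast; ring]
  omega

theorem not_dvd (q N : ℕ)
    (hN : (N : ℤ) = (q : ℤ) ^ 8 + (q : ℤ) ^ 7 - (q : ℤ) ^ 5 - (q : ℤ) ^ 4 - (q : ℤ) ^ 3 + q + 1)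
    (p : ℕ) (hp : p = 2 ∨ p = 3 ∨ p = 5) : ¬ p ∣ N := by
  rw [← ZMod.natCast_eq_zero_iff]
  have h : (N : ZMod p) = (q : ZMod p) ^ 8 + (q : ZMod p) ^ 7 - (q : ZMod p) ^ 5 - (q : ZMod p) ^ 4
      - (q : ZMod p) ^ 3 + q + 1 := by exact_mod_cast congrArg (Int.cast : ℤ → ZMod p) hN
  rw [h]
  generalize (q : ZMod p) = x
  rcases hp with rfl | rfl | rfl <;> revert x <;> decide

/-- The group E₈(q) contains a cyclic subgroup of order q⁸ + q⁷ − q⁵ − q⁴ − q³ + q + 1 which is its own centralizer. -/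
theorem result {F : Type*} [Field F] [Fintype F] (q : ℕ) (hF : Fintype.card F = q) :
    ∃ H : Subgroup ↥(Cfsg.Lie.chevE8.group F), IsCyclic ↥H ∧ Nat.card ↥H = q ^ 8 + q ^ 7 - q ^ 5 - q ^ 4 - q ^ 3 + q + 1 ∧
      Subgroup.centralizer (H : Set ↥(Cfsg.Lie.chevE8.group F)) = H := by
  subst hF
  have hq : 2 ≤ Fintype.card F := Fintype.one_lt_card
  generalize hN : Fintype.card F ^ 8 + Fintype.card F ^ 7 - Fintype.card F ^ 5 - Fintype.card F ^ 4
    - Fintype.card F ^ 3 + Fintype.card F + 1 = N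
  have hNZ := cast_value (Fintype.card F) hq
  rw [hN] at hNZ
  have h235 := not_dvd (Fintype.card F) N hNZ
  obtain ⟨ℓ, hℓ, hℓN⟩ := Nat.exists_prime_and_dvd (show N ≠ 1 by omega)
  have hℓ30 : ¬ ℓ ∣ 30 := fun h => by
    have h' : ℓ ∣ 2 * 3 * 5 := h
    rcases (hℓ.dvd_mul.1 h') with h | h
    · rcases (hℓ.dvd_mul.1 h) with h | h
      · exact h235 2 (by simp) ((Nat.prime_dvd_prime_iff_eq hℓ Nat.prime_two).1 h ▸ hℓN)
      · exact h235 3 (by simp) ((Nat.prime_dvd_prime_iff_eq hℓ Nat.prime_three).1 h ▸ hℓN)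
    · exact h235 5 (by simp) ((Nat.prime_dvd_prime_iff_eq hℓ (by norm_num)).1 h ▸ hℓN)
  refine ChevCoxTorus68.exists_selfCentralizing_cyclic ChevalleyDataE8.cert
    ChevalleyTorusCard.smithE8 ChevWeylData.e8 supp num [2, 8, 12, 14, 18, 20, 24, 30] poly rfl
    (d := 30) (by decide) (by norm_num) (by decide +kernel) ?_ hℓ hℓN hℓ30 ?_ ?_
  · rw [hNZ, cyclotomic_thirty]; simp
  · intro p hp h
    have h31 : 31 ≤ p := by
      obtain ⟨c, hc⟩ := h
      have := hp.two_le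
      omega
    refine ⟨by omega, ?_, fun e he hpe => ?_⟩
    · show 8 < p - 1
      omega
    · simp only [List.mem_cons, List.not_mem_nil, or_false] at he
      have := Nat.le_of_dvd (by omega) hpe
      omega
  · intro p hp hpN hp6
    have := hp.two_le
    exfalso
    interval_cases p
    · exact h235 2 (by simp) hpN
    · exact h235 3 (by simp) hpN
    · norm_num at hp
    · exact h235 5 (by simp) hpN
    · norm_num at hp

end Cfsg.Agent.S2375
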