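import Cfsg.Statements.S2379
import Cfsg.Agent.Lib.SylowGLTorus

set_option autoImplicit false
open Cfsg

namespace Cfsg.Agent.S2379

open Cfsg.Agent.SylowGLTorus

theorem card_homocyclic (r a k : ℕ) :
    Nat.card (Fin k → Multiplicative (ZMod (r ^ a))) = r ^ (k * a) := by
  rw [Nat.card_fun, Nat.card_fin, Nat.card_congr Multiplicative.toAdd, Nat.card_zmod, ← pow_mul, mul_comm]


/-- Sylow subgroups of `SL_n(q)` for large primes. Let `F` be a field with `q` elements and `r` a prime with `r > n` and `r ∤ q` (so `r` does not divide the order `n!` of the Weyl group). Let `d` be the multiplicative order of `q` modulo `r`, `a` the number of integers `i` with `2 ≤ i ≤ n` divisible by `d` (the degrees of the Weyl group are `2, …, n`), and `m` the `r`-part of the value at `q` of the `d`-th cyclotomic polynomial. Then every Sylow `r`-subgroup of `SL_n(q)` is a direct product of `a` cyclic groups of order `m`. -/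
theorem result {F : Type*} [Field F] [Fintype F] {q : ℕ} (hq : Fintype.card F = q) (n : ℕ)
    (r : ℕ) [Fact r.Prime] (hrn : n < r) (hrq : ¬ r ∣ q) (P : Sylow r (Matrix.SpecialLinearGroup (Fin n) F)) :
    Nonempty (↥(P : Subgroup (Matrix.SpecialLinearGroup (Fin n) F)) ≃*
      (Fin ((Finset.Icc 2 n).filter (fun i => orderOf (q : ZMod r) ∣ i)).card →
        Multiplicative (ZMod (r ^ padicValNat r ((Polynomial.cyclotomic (orderOf (q : ZMod r)) ℤ).eval (q : ℤ)).natAbs)))) := by
  classical
  have hq1 : 1 < q := hq ▸ Fintype.one_lt_card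
  rw [Cfsg.Agent.SylowGLTorus.padicValNat_cyclotomic hq1 hrq]
  set d := orderOf (q : ZMod r) with hd
  have hdpos : 0 < d := ord_pos hrq
  rcases Nat.eq_zero_or_pos n with rfl | hn
  · refine nonempty_equiv_of_injective (1 : _ →* _) (fun x y _ => funext fun k => k.elim0) ?_ P
    rw [card_homocyclic]
    have : Subsingleton (Matrix.SpecialLinearGroup (Fin 0) F) := ⟨fun a b => Subtype.ext (Subsingleton.elim _ _)⟩
    rw [Nat.card_unique (α := Matrix.SpecialLinearGroup (Fin 0) F)]
    simp
  have hqf : (q - 1).factorization r = if d ∣ 1 then expA r q else 0 := by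
    rw [← factorization_pow_sub_one hq1 one_ne_zero (Fact.out : r.Prime).one_lt, pow_one]
  have hcardSL := factorization_card_SL hq hn hrn hrq
  by_cases hd1 : d = 1
  · rw [hqf, if_pos (by rw [hd1]), ← hd, hd1, Nat.div_one] at hcardSL
    obtain ⟨φ, hφ⟩ := exists_cyclic_block (r := r) hq hrq
    let u : Multiplicative (ZMod (r ^ expA r q)) →* Fˣ := Matrix.GeneralLinearGroup.det.comp φ
    have hu : Function.Injective u := by
      intro x y h
      apply hφ
      apply Units.ext
      have h' : (φ x : Matrix (Fin d) (Fin d) F).det = (φ y : Matrix (Fin d) (Fin d) F).det := congrArg Units.val h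
      revert h'
      generalize (φ x : Matrix (Fin d) (Fin d) F) = A
      generalize (φ y : Matrix (Fin d) (Fin d) F) = B
      revert A B
      rw [← hd, hd1]
      intro A B h'
      rw [Matrix.det_fin_one, Matrix.det_fin_one] at h'
      ext i j
      rw [Subsingleton.elim i 0, Subsingleton.elim j 0, h']
    obtain ⟨m, rfl⟩ : ∃ m, n = m + 1 := ⟨n - 1, by omega⟩
    have hcnt : ((Finset.Icc 2 (m + 1)).filter fun i => d ∣ i).card = m := by
      rw [hd1, Finset.filter_true_of_mem fun i _ => one_dvd i, Nat.card_Icc]
      omega
    rw [hcnt]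
    let v : (Fin m → Multiplicative (ZMod (r ^ expA r q))) →* (Fin (m + 1) → F) :=
      { toFun := fun x => Fin.cons ((u (∏ i, x i))⁻¹ : Fˣ) (fun i => (u (x i) : F))
        map_one' := by
          funext i
          cases i using Fin.cases <;> simp
        map_mul' := fun x y => by
          funext i
          cases i using Fin.cases <;> simp [Finset.prod_mul_distrib, mul_comm] }
    let f : (Fin m → Multiplicative (ZMod (r ^ expA r q))) →* Matrix.SpecialLinearGroup (Fin (m + 1)) F :=
      { toFun := fun x => ⟨Matrix.diagonal (v x), by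
          rw [Matrix.det_diagonal, Fin.prod_univ_succ]
          simp only [v, MonoidHom.coe_mk, OneHom.coe_mk, Fin.cons_zero, Fin.cons_succ]
          rw [← Units.coe_prod, ← map_prod, ← Units.val_mul, inv_mul_cancel, Units.val_one]⟩
        map_one' := Subtype.ext (by simp [Matrix.diagonal_one])
        map_mul' := fun x y => Subtype.ext (by
          change Matrix.diagonal (v (x * y)) = Matrix.diagonal (v x) * Matrix.diagonal (v y)
          rw [map_mul, Matrix.diagonal_mul_diagonal]
          rfl) }
    refine nonempty_equiv_of_injective f (fun x y h => funext fun i => hu (Units.ext ?_)) ?_ P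
    · have := congrFun (Matrix.diagonal_injective (congrArg Subtype.val h : Matrix.diagonal (v x) = Matrix.diagonal (v y))) i.succ
      simpa [v] using this
    · rw [card_homocyclic]
      congr 1
      rw [Nat.succ_mul] at hcardSL
      omega
  · rw [hqf, if_neg (fun h => hd1 (Nat.dvd_one.1 h)), add_zero, ← hd] at hcardSL
    have hcnt : ((Finset.Icc 2 n).filter fun i => d ∣ i).card = n / d := by
      rw [← Nat.Ioc_filter_dvd_card_eq_div]
      congr 1
      ext i
      simp only [Finset.mem_filter, Finset.mem_Icc, Finset.mem_Ioc]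
      constructor
      · exact fun h => ⟨⟨by omega, h.1.2⟩, h.2⟩
      · intro h
        refine ⟨⟨?_, h.1.2⟩, h.2⟩
        have := Nat.le_of_dvd h.1.1 h.2
        omega
    rw [hcnt]
    obtain ⟨g, hg⟩ := exists_torus (r := r) hq hrq n
    have hdet : ∀ x, Matrix.GeneralLinearGroup.det (g x) = 1 := by
      intro x
      rw [← orderOf_eq_one_iff]
      have h1 : orderOf (Matrix.GeneralLinearGroup.det (g x)) ∣ r ^ expA r q := by
        rw [orderOf_dvd_iff_pow_eq_one, ← map_pow, ← map_pow]
        have hx : x ^ r ^ expA r q = 1 := by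
          funext i
          apply Multiplicative.toAdd.injective
          simp
        rw [hx, map_one, map_one]
      have h2 : orderOf (Matrix.GeneralLinearGroup.det (g x)) ∣ q - 1 := by
        have h := orderOf_dvd_card (x := Matrix.GeneralLinearGroup.det (g x))
        rwa [Fintype.card_units, hq] at h
      have hcop : (r ^ expA r q).Coprime (q - 1) := by
        refine Nat.Coprime.pow_left _ ((Fact.out : r.Prime).coprime_iff_not_dvd.2 fun h => hd1 ?_)
        have := (dvd_pow_sub_one_iff (r := r) (by omega : 0 < q) 1).1 (by rwa [pow_one])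
        exact Nat.dvd_one.1 this
      exact Nat.dvd_one.1 (hcop ▸ Nat.dvd_gcd h1 h2)
    let f : (Fin (n / d) → Multiplicative (ZMod (r ^ expA r q))) →* Matrix.SpecialLinearGroup (Fin n) F :=
      { toFun := fun x => ⟨(g x : Matrix (Fin n) (Fin n) F), congrArg Units.val (hdet x)⟩
        map_one' := Subtype.ext (by simp)
        map_mul' := fun x y => Subtype.ext (by
          change (g (x * y) : Matrix (Fin n) (Fin n) F) = (g x : Matrix (Fin n) (Fin n) F) * (g y : Matrix (Fin n) (Fin n) F)
          rw [map_mul]
          rfl) }
    refine nonempty_equiv_of_injective f (fun x y h => hg (Units.ext (congrArg Subtype.val h))) ?_ P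
    rw [card_homocyclic, hcardSL]

end Cfsg.Agent.S2379
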