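import Cfsg.Statements.S2381
import Cfsg.Agent.Lib.SylowGLTorus
import Cfsg.Agent.Lib.SymplecticOrder

set_option autoImplicit false
open Cfsg

namespace Cfsg.Agent.S2381

open Cfsg.Agent.SylowGLTorus

theorem factorization_pow_two_mul {r q : ℕ} [hr : Fact r.Prime] (hr2 : r ≠ 2) (hq : 1 < q) {i : ℕ}
    (hi : i ≠ 0) (hir : i < r) :
    (q ^ (2 * i) - 1).factorization r = if orderOf (q : ZMod r) ∣ 2 * i then expA r q else 0 := by
  set d := orderOf (q : ZMod r) with hd
  split_ifs with h
  · obtain ⟨j, hj⟩ := h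
    have hd0 : d ≠ 0 := fun e => by rw [e, zero_mul] at hj; omega
    have hrj : ¬ r ∣ j := fun e => by
      have h2 : r ∣ 2 * i := hj ▸ dvd_mul_of_dvd_right e d
      rcases hr.out.dvd_mul.1 h2 with h3 | h3
      · exact hr2 ((Nat.prime_dvd_prime_iff_eq hr.out Nat.prime_two).1 h3)
      · exact absurd (Nat.le_of_dvd (Nat.pos_of_ne_zero hi) h3) (not_le.2 hir)
    have hgeom : q ^ (2 * i) - 1 = (∑ t ∈ Finset.range j, (q ^ d) ^ t) * (q ^ d - 1) := by
      rw [geom_sum_mul_of_one_le (Nat.one_le_pow _ _ (by omega)), ← pow_mul, hj]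
    have hnd : ¬ r ∣ ∑ t ∈ Finset.range j, (q ^ d) ^ t := by
      rw [← ZMod.natCast_eq_zero_iff]
      push_cast
      rw [hd, pow_orderOf_eq_one]
      simp only [one_pow, Finset.sum_const, Finset.card_range, nsmul_eq_mul, mul_one]
      rwa [ZMod.natCast_eq_zero_iff]
    rw [hgeom, Nat.factorization_mul (fun e => hnd (by rw [e]; exact dvd_zero r)) (pow_sub_one_ne_zero hq hd0)]
    simp [Nat.factorization_eq_zero_of_not_dvd hnd, expA, ← hd]
  · exact Nat.factorization_eq_zero_of_not_dvd fun hdvd => h ((dvd_pow_sub_one_iff (by omega) _).1 hdvd)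

theorem factorization_card_Sp {F : Type*} [Field F] [Fintype F] {q r : ℕ} [Fact r.Prime]
    (hq : Fintype.card F = q) {n : ℕ} (hr2 : r ≠ 2) (hrn : n < r) (hrq : ¬ r ∣ q) :
    (Nat.card ↥(Matrix.symplecticGroup (Fin n) F)).factorization r =
      ((Finset.Icc 1 n).filter (fun i => orderOf (q : ZMod r) ∣ 2 * i)).card * expA r q := by
  have hq1 : 1 < q := hq ▸ Fintype.one_lt_card
  have hne : ∀ i ∈ Finset.range n, q ^ (2 * (i + 1)) - 1 ≠ 0 := fun i _ => pow_sub_one_ne_zero hq1 (by omega)
  rw [Cfsg.Agent.SymplecticOrder.card_symplectic hq, Nat.factorization_mul (pow_ne_zero _ (by omega))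
    (Finset.prod_ne_zero_iff.2 hne), Finsupp.add_apply, Nat.factorization_pow, Nat.factorization_prod hne,
    Finsupp.finsetSum_apply,
    Finset.sum_congr rfl fun i hi => factorization_pow_two_mul hr2 hq1 (Nat.succ_ne_zero i)
      (by have := Finset.mem_range.1 hi; omega)]
  simp only [Finsupp.smul_apply, Nat.factorization_eq_zero_of_not_dvd hrq, ← Finset.sum_filter,
    Finset.sum_const, smul_eq_mul, mul_zero, zero_add]
  congr 1
  refine Finset.card_bij (fun i _ => i + 1) ?_ ?_ ?_
  · intro i hi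
    simp only [Finset.mem_filter, Finset.mem_range] at hi
    simp only [Finset.mem_filter, Finset.mem_Icc]
    exact ⟨⟨by omega, by omega⟩, hi.2⟩
  · intro i _ j _ h
    omega
  · intro j hj
    simp only [Finset.mem_filter, Finset.mem_Icc] at hj
    refine ⟨j - 1, ?_, by omega⟩
    simp only [Finset.mem_filter, Finset.mem_range]
    exact ⟨by omega, by rw [show (j - 1).succ = j by omega]; exact hj.2⟩

/-- The forgetful map into the general linear group. -/
noncomputable def spToGL (n : ℕ) (F : Type*) [Field F] :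
    ↥(Matrix.symplecticGroup (Fin n) F) →* Matrix.GeneralLinearGroup (Fin n ⊕ Fin n) F :=
  (Submonoid.subtype _).toHomUnits

/-- `A ↦ diag (A, A⁻ᵀ)`. -/
def glToSp (n : ℕ) (F : Type*) [Field F] : GL (Fin n) F →* ↥(Matrix.symplecticGroup (Fin n) F) where
  toFun A := ⟨Matrix.fromBlocks (A : Matrix (Fin n) (Fin n) F) 0 0
      ((A⁻¹ : GL (Fin n) F) : Matrix (Fin n) (Fin n) F).transpose, by
    have h1 : (A : Matrix (Fin n) (Fin n) F) * ((A⁻¹ : GL (Fin n) F) : Matrix (Fin n) (Fin n) F) = 1 :=
      Units.mul_inv A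
    rw [SymplecticGroup.mem_iff, Matrix.J]
    simp only [Matrix.fromBlocks_transpose, Matrix.fromBlocks_multiply, Matrix.transpose_transpose]
    simp [← Matrix.transpose_mul, h1]⟩
  map_one' := Subtype.ext (by simp)
  map_mul' A B := Subtype.ext (by simp [Matrix.fromBlocks_multiply, Matrix.transpose_mul])

theorem glToSp_injective (n : ℕ) (F : Type*) [Field F] : Function.Injective (glToSp n F) := by
  intro A B h
  apply Units.ext
  have := congrArg (fun M : ↥(Matrix.symplecticGroup (Fin n) F) =>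
    (M : Matrix (Fin n ⊕ Fin n) (Fin n ⊕ Fin n) F).toBlocks₁₁) h
  simpa [glToSp] using this


/-- Sylow subgroups of `Sp_{2n}(q)` for large primes. Let `F` be a field with `q` elements and `r` an odd prime with `r > n` and `r ∤ q` (so `r` does not divide the order `2^n n!` of the Weyl group). Let `d` be the multiplicative order of `q` modulo `r`, `a` the number of `i` with `1 ≤ i ≤ n` and `d ∣ 2i` (the degrees being `2, 4, …, 2n`), and `m` the `r`-part of the value at `q` of the `d`-th cyclotomic polynomial. Then every Sylow `r`-subgroup of the symplectic group `Sp_{2n}(q)` is a direct product of `a` cyclic groups of order `m`. -/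
theorem result {F : Type*} [Field F] [Fintype F] {q : ℕ} (hq : Fintype.card F = q) (n : ℕ)
    (r : ℕ) [Fact r.Prime] (hr2 : r ≠ 2) (hrn : n < r) (hrq : ¬ r ∣ q) (P : Sylow r ↥(Matrix.symplecticGroup (Fin n) F)) :
    Nonempty (↥(P : Subgroup ↥(Matrix.symplecticGroup (Fin n) F)) ≃*
      (Fin ((Finset.Icc 1 n).filter (fun i => orderOf (q : ZMod r) ∣ 2 * i)).card →
        Multiplicative (ZMod (r ^ padicValNat r ((Polynomial.cyclotomic (orderOf (q : ZMod r)) ℤ).eval (q : ℤ)).natAbs)))) := by
  classical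
  have hq1 : 1 < q := hq ▸ Fintype.one_lt_card
  rw [padicValNat_cyclotomic hq1 hrq]
  have hv := factorization_card_Sp (F := F) hq hr2 hrn hrq
  set d := orderOf (q : ZMod r) with hd
  have hdpos : 0 < d := ord_pos hrq
  have hcard : ∀ k a : ℕ, Nat.card (Fin k → Multiplicative (ZMod (r ^ a))) = r ^ (k * a) := by
    intro k a
    rw [Nat.card_fun, Nat.card_fin, Nat.card_congr Multiplicative.toAdd, Nat.card_zmod, ← pow_mul, mul_comm]
  by_cases heven : 2 ∣ d
  · obtain ⟨e, he⟩ := heven
    have hcnt : ((Finset.Icc 1 n).filter fun i => d ∣ 2 * i).card = (n + n) / d := by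
      have h1 : ((Finset.Icc 1 n).filter fun i => d ∣ 2 * i) = ((Finset.Ioc 0 n).filter fun i => e ∣ i) := by
        ext i
        simp only [Finset.mem_filter, Finset.mem_Icc, Finset.mem_Ioc, he]
        exact ⟨fun h => ⟨⟨by omega, h.1.2⟩, Nat.dvd_of_mul_dvd_mul_left two_pos h.2⟩,
          fun h => ⟨⟨by omega, h.1.2⟩, Nat.mul_dvd_mul_left 2 h.2⟩⟩
      rw [h1, Nat.Ioc_filter_dvd_card_eq_div, he, ← two_mul, Nat.mul_div_mul_left _ _ two_pos]
    -- the Sylow subgroup is one of `GL_{2n}`
    rw [hcnt] at hv ⊢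
    let f : ↥(Matrix.symplecticGroup (Fin n) F) →* GL (Fin (n + n)) F :=
      (Units.map (Matrix.reindexAlgEquiv F F (finSumFinEquiv : Fin n ⊕ Fin n ≃ Fin (n + n))).toMulEquiv.toMonoidHom).comp
        (spToGL n F)
    have hf : Function.Injective f := by
      intro a b h
      apply Subtype.ext
      exact (Matrix.reindexAlgEquiv F F (finSumFinEquiv : Fin n ⊕ Fin n ≃ Fin (n + n))).injective
        (congrArg Units.val h)
    have hn2 : n + n < r * orderOf (q : ZMod r) := by
      have h1 : r * 2 ≤ r * orderOf (q : ZMod r) := Nat.mul_le_mul_left r (by omega)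
      omega
    obtain ⟨g, hg⟩ := exists_torus (r := r) hq hrq (n + n)
    let T : Sylow r (GL (Fin (n + n)) F) := Sylow.ofCard g.range (by
      rw [← Nat.card_congr (MonoidHom.ofInjective hg).toEquiv, hcard, factorization_card_GL' hq hn2 hrq])
    let Q : Sylow r (GL (Fin (n + n)) F) := Sylow.ofCard ((P : Subgroup _).map f) (by
      rw [Subgroup.card_map_of_injective hf, P.card_eq_multiplicity, hv, factorization_card_GL' hq hn2 hrq])
    have eQT : ↥((P : Subgroup _).map f) ≃* ↥g.range := Q.equiv T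
    exact ⟨((((P : Subgroup _).equivMapOfInjective f hf).trans eQT).trans (MonoidHom.ofInjective hg).symm)⟩
  · have hcnt : ((Finset.Icc 1 n).filter fun i => d ∣ 2 * i).card = n / d := by
      have hcop : Nat.Coprime d 2 := (Nat.prime_two.coprime_iff_not_dvd.2 heven).symm
      rw [← Nat.Ioc_filter_dvd_card_eq_div]
      congr 1
      ext i
      simp only [Finset.mem_filter, Finset.mem_Icc, Finset.mem_Ioc, hcop.dvd_mul_left]
      exact ⟨fun h => ⟨⟨by omega, h.1.2⟩, h.2⟩, fun h => ⟨⟨by omega, h.1.2⟩, h.2⟩⟩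
    rw [hcnt] at hv ⊢
    obtain ⟨g, hg⟩ := exists_torus (r := r) hq hrq n
    exact nonempty_equiv_of_injective ((glToSp n F).comp g) ((glToSp_injective n F).comp hg)
      (by rw [hcard, hv]) P

end Cfsg.Agent.S2381
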