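import Cfsg.Statements.S2383
import Cfsg.Agent.Lib.ChevalleySemisimpleCount

set_option autoImplicit false
open Cfsg

namespace Cfsg.Agent.S2383

/-- Steinberg's count of semisimple classes in characteristic 2 for the types B₂, D₄, E₇, where the finite simply connected group has trivial centre and so coincides with the Chevalley group: for the Chevalley group of type B₂, D₄ or E₇ over a field with `q` elements of characteristic 2, the conjugacy classes of elements of odd order number exactly `q^l`, `l` the rank. -/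
theorem result {F : Type*} [Field F] [Fintype F] {q : ℕ} (hq : Fintype.card F = q) [CharP F 2]
    (D : Cfsg.Lie.ChevalleyDatum) (hD : D ∈ [Cfsg.Lie.chevB2, Cfsg.Lie.chevD4, Cfsg.Lie.chevE7]) :
    Nat.card {c : ConjClasses ↥(D.group F) // ∃ g : ↥(D.group F), ConjClasses.mk g = c ∧ Odd (orderOf g)} = q ^ D.rank := by
  rw [← hq]
  have hD' : D ∈ [Cfsg.Lie.chevG2, Cfsg.Lie.chevB2, Cfsg.Lie.chevD4, Cfsg.Lie.chevF4, Cfsg.Lie.chevE6,
      Cfsg.Lie.chevE7, Cfsg.Lie.chevE8] := by
    simp only [List.mem_cons, List.not_mem_nil, or_false] at hD ⊢; tauto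
  obtain ⟨C⟩ := Cfsg.Agent.ChevalleyAll.cert_nonempty D hD'
  have hg : Nat.gcd (Fintype.card F - 1) 2 = 1 := by
    obtain ⟨n, -, hn⟩ := FiniteField.card F 2
    have h2 : 2 ∣ Fintype.card F := hn ▸ dvd_pow_self 2 n.pos.ne'
    have := Fintype.card_pos (α := F)
    rw [← Nat.coprime_iff_gcd_eq_one, Nat.coprime_two_right, Nat.odd_iff]
    omega
  refine (Nat.card_congr (Equiv.subtypeEquivRight fun c => exists_congr fun g => and_congr_right fun _ =>
    Nat.coprime_two_right.symm)).trans
    (Cfsg.Agent.ChevalleySemisimpleCount.card_classes C (Cfsg.Agent.ChevBruhatInstance.sys D hD' F) 2 ?_)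
  simp only [List.mem_cons, List.not_mem_nil, or_false] at hD
  rcases hD with rfl | rfl | rfl
  · exact Cfsg.Agent.ChevalleySemisimpleCount.torus_injective C Cfsg.Agent.ChevalleyTorusCard.smithB2 (by rw [hg, one_pow])
  · exact Cfsg.Agent.ChevalleySemisimpleCount.torus_injective C Cfsg.Agent.ChevalleyTorusCard.smithD4 (by rw [hg, one_pow])
  · exact Cfsg.Agent.ChevalleySemisimpleCount.torus_injective C Cfsg.Agent.ChevalleyTorusCard.smithE7 (by rw [hg, one_pow])

end Cfsg.Agent.S2383
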