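import Cfsg.Statements.S2388
import Cfsg.Agent.Lib.SemisimpleConjGL

set_option autoImplicit false
open Cfsg

namespace Cfsg.Agent.S2388

/-- In `SL_n(q)`, `q` a power of the prime `p`, two elements of order prime to `p` with the same characteristic polynomial are conjugate in `SL_n(q)` (not merely in `GL_n`). -/
theorem result {F : Type*} [Field F] [Fintype F] (p : ℕ) [Fact p.Prime] [CharP F p] (n : ℕ)
    (g h : Matrix.SpecialLinearGroup (Fin n) F) (hg : (orderOf g).Coprime p) (hh : (orderOf h).Coprime p)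
    (hc : (g : Matrix (Fin n) (Fin n) F).charpoly = (h : Matrix (Fin n) (Fin n) F).charpoly) : IsConj g h := by
  classical
  rcases Nat.eq_zero_or_pos n with rfl | hn
  · have : g = h := Subtype.ext (Matrix.ext fun i => i.elim0)
    rw [this]
  · have : Nonempty (Fin n) := ⟨⟨0, hn⟩⟩
    have sg := Cfsg.Agent.SemisimpleConjGL.isSemisimple_of_coprime
      (Matrix.SpecialLinearGroup.toGL (n := Fin n) (R := F)) hg
    have sh := Cfsg.Agent.SemisimpleConjGL.isSemisimple_of_coprime
      (Matrix.SpecialLinearGroup.toGL (n := Fin n) (R := F)) hh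
    obtain ⟨P, hP⟩ := Cfsg.Agent.SemisimpleConjGL.exists_gl_conj sg sh hc
    have hPd : (P : Matrix (Fin n) (Fin n) F).det ≠ 0 :=
      ((Matrix.isUnit_iff_isUnit_det _).1 P.isUnit).ne_zero
    obtain ⟨T, hT, hTd⟩ := Cfsg.Agent.SemisimpleConjGL.exists_gl_commute_det sg (inv_ne_zero hPd)
    let c : Matrix.SpecialLinearGroup (Fin n) F :=
      ⟨(P : Matrix (Fin n) (Fin n) F) * (T : Matrix (Fin n) (Fin n) F),
        by rw [Matrix.det_mul, hTd, mul_inv_cancel₀ hPd]⟩
    have hcg : c * g = h * c := by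
      apply Subtype.ext
      change (P : Matrix (Fin n) (Fin n) F) * (T : Matrix (Fin n) (Fin n) F) * (g : Matrix (Fin n) (Fin n) F) =
        (h : Matrix (Fin n) (Fin n) F) * ((P : Matrix (Fin n) (Fin n) F) * (T : Matrix (Fin n) (Fin n) F))
      change (T : Matrix (Fin n) (Fin n) F) * (g : Matrix (Fin n) (Fin n) F) =
        (g : Matrix (Fin n) (Fin n) F) * (T : Matrix (Fin n) (Fin n) F) at hT
      change (P : Matrix (Fin n) (Fin n) F) * (g : Matrix (Fin n) (Fin n) F) =
        (h : Matrix (Fin n) (Fin n) F) * (P : Matrix (Fin n) (Fin n) F) at hP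
      rw [mul_assoc, hT, ← mul_assoc, hP, mul_assoc]
    exact isConj_iff.2 ⟨c, by rw [hcg, mul_inv_cancel_right]⟩

end Cfsg.Agent.S2388
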