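import Cfsg.Statements.S2384
import Cfsg.Agent.Lib.SemisimpleConjGL
import Cfsg.Agent.S2388

set_option autoImplicit false
open Cfsg

namespace Cfsg.Agent.S2384

/-- In `SL_n(q)`, `q` a power of the prime `p`, the number of conjugacy classes of elements of order prime to `p` (the semisimple classes) is `q^(n-1)`. -/
theorem result {F : Type*} [Field F] [Fintype F] {q : ℕ} (hq : Fintype.card F = q) (p : ℕ) [Fact p.Prime] [CharP F p] (n : ℕ) (hn : 1 ≤ n) :
    Nat.card {c : ConjClasses (Matrix.SpecialLinearGroup (Fin n) F) //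
      ∃ g : Matrix.SpecialLinearGroup (Fin n) F, ConjClasses.mk g = c ∧ (orderOf g).Coprime p} = q ^ (n - 1) := by
  classical
  obtain ⟨m, rfl⟩ : ∃ m, n = m + 1 := ⟨n - 1, by omega⟩
  have hdet : ∀ A : Matrix (Fin (m + 1)) (Fin (m + 1)) F,
      A.det = (-1) ^ (m + 1) * Cfsg.Agent.SemisimpleConjGL.charCoeffs A 0 := fun A => by
    rw [Matrix.det_eq_sign_charpoly_coeff, Fintype.card_fin]
    rfl
  have hsq : ((-1 : F) ^ (m + 1)) * (-1) ^ (m + 1) = 1 := by rw [← mul_pow]; simp
  rw [Cfsg.Agent.SemisimpleConjGL.card_classes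
    (Matrix.SpecialLinearGroup.toGL (n := Fin (m + 1)) (R := F)) (fun v => v 0 = (-1) ^ (m + 1))]
  · have e : {v : Fin (m + 1) → F // v 0 = (-1) ^ (m + 1)} ≃ (Fin m → F) :=
      { toFun := fun v => Fin.tail v.1
        invFun := fun p => ⟨Fin.cons ((-1) ^ (m + 1)) p, by simp⟩
        left_inv := fun v => Subtype.ext (by
          conv_rhs => rw [← Fin.cons_self_tail v.1, v.2])
        right_inv := fun p => by simp }
    rw [Nat.card_congr e, Nat.card_eq_fintype_card, Fintype.card_fun, Fintype.card_fin, hq]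
    rfl
  · intro g
    have h1 : (g : Matrix (Fin (m + 1)) (Fin (m + 1)) F).det = 1 := g.2
    rw [hdet] at h1
    change Cfsg.Agent.SemisimpleConjGL.charCoeffs (g : Matrix (Fin (m + 1)) (Fin (m + 1)) F) 0 = _
    have h2 := congrArg (fun x => (-1 : F) ^ (m + 1) * x) h1
    simpa only [← mul_assoc, hsq, one_mul, mul_one] using h2
  · intro v hv
    obtain ⟨A, hA⟩ := Cfsg.Agent.SemisimpleConjGL.exists_charCoeffs v
    exact ⟨⟨A, by rw [hdet, hA, hv, hsq]⟩, hA⟩
  · intro g h hg hh hgh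
    exact Cfsg.Agent.S2388.result p (m + 1) g h hg hh hgh

end Cfsg.Agent.S2384
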