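import Cfsg.Statements.S2387
import Cfsg.Agent.Lib.SemisimpleConjGL

set_option autoImplicit false
open scoped MatrixGroups
open Cfsg

namespace Cfsg.Agent.S2387

/-- In `GL_n(q)` with `n ≥ 1`, `q` a power of the prime `p`, the number of conjugacy classes of elements of order prime to `p` (diagonalisable over the algebraic closure; determined by the characteristic polynomial) is `(q - 1) q^(n-1)`. -/
theorem result {F : Type*} [Field F] [Fintype F] {q : ℕ} (hq : Fintype.card F = q) (p : ℕ) [Fact p.Prime] [CharP F p] (n : ℕ) (hn : 1 ≤ n) :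
    Nat.card {c : ConjClasses (GL (Fin n) F) // ∃ g : GL (Fin n) F, ConjClasses.mk g = c ∧ (orderOf g).Coprime p} = (q - 1) * q ^ (n - 1) := by
  classical
  obtain ⟨m, rfl⟩ : ∃ m, n = m + 1 := ⟨n - 1, by omega⟩
  have hdet : ∀ A : Matrix (Fin (m + 1)) (Fin (m + 1)) F,
      A.det = (-1) ^ (m + 1) * Cfsg.Agent.SemisimpleConjGL.charCoeffs A 0 := fun A => by
    rw [Matrix.det_eq_sign_charpoly_coeff, Fintype.card_fin]
    rfl
  rw [Cfsg.Agent.SemisimpleConjGL.card_classes (MonoidHom.id (GL (Fin (m + 1)) F)) (fun v => v 0 ≠ 0)]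
  · have e : {v : Fin (m + 1) → F // v 0 ≠ 0} ≃ {x : F // x ≠ 0} × (Fin m → F) :=
      { toFun := fun v => (⟨v.1 0, v.2⟩, Fin.tail v.1)
        invFun := fun p => ⟨Fin.cons p.1.1 p.2, by simpa using p.1.2⟩
        left_inv := fun v => Subtype.ext (Fin.cons_self_tail v.1)
        right_inv := fun p => by simp }
    rw [Nat.card_congr e, Nat.card_eq_fintype_card, Fintype.card_prod, Fintype.card_fun,
      Fintype.card_fin, Fintype.card_subtype_compl, Fintype.card_subtype_eq, hq]
    rfl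
  · intro g h
    exact ((Matrix.isUnit_iff_isUnit_det _).1 g.isUnit).ne_zero
      (by rw [hdet]; exact mul_eq_zero_of_right _ h)
  · intro v hv
    obtain ⟨A, hA⟩ := Cfsg.Agent.SemisimpleConjGL.exists_charCoeffs v
    refine ⟨Matrix.GeneralLinearGroup.mkOfDetNeZero A ?_, hA⟩
    rw [hdet, hA]
    exact mul_ne_zero (pow_ne_zero _ (neg_ne_zero.2 one_ne_zero)) hv
  · intro g h hg hh hgh
    obtain ⟨P, hP⟩ := Cfsg.Agent.SemisimpleConjGL.exists_gl_conj
      (Cfsg.Agent.SemisimpleConjGL.isSemisimple_of_coprime (MonoidHom.id (GL (Fin (m + 1)) F)) hg)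
      (Cfsg.Agent.SemisimpleConjGL.isSemisimple_of_coprime (MonoidHom.id (GL (Fin (m + 1)) F)) hh) hgh
    have hPu : (P : GL (Fin (m + 1)) F) * g = h * P := Units.ext hP
    exact isConj_iff.2 ⟨P, by rw [hPu, mul_inv_cancel_right]⟩

end Cfsg.Agent.S2387
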