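import Cfsg.Statements.S2391


set_option autoImplicit false
open Cfsg

namespace Cfsg.Agent.S2391

open Matrix

variable {F : Type*} [Field F] {n : ℕ} (U : Subgroup (Matrix.SpecialLinearGroup (Fin n) F))

/-- Vectors fixed by `U` modulo `W`. -/
def stepUp (W : Submodule F (Fin n → F)) : Submodule F (Fin n → F) where
  carrier := {v | ∀ u ∈ U, (u : Matrix (Fin n) (Fin n) F).mulVec v - v ∈ W}
  add_mem' {a b} ha hb u hu := by
    rw [Matrix.mulVec_add, add_sub_add_comm]
    exact W.add_mem (ha u hu) (hb u hu)
  zero_mem' u hu := by simp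
  smul_mem' c a ha u hu := by
    rw [Matrix.mulVec_smul, ← smul_sub]
    exact W.smul_mem c (ha u hu)

/-- The iterated fixed point series. -/
def ser : ℕ → Submodule F (Fin n → F)
  | 0 => ⊥
  | k + 1 => stepUp U (ser k)

/-- `g` maps `W` into itself. -/
def Stab (W : Submodule F (Fin n → F)) (g : Matrix.SpecialLinearGroup (Fin n) F) : Prop :=
  ∀ v ∈ W, (g : Matrix (Fin n) (Fin n) F).mulVec v ∈ W

theorem ser_stab {g : Matrix.SpecialLinearGroup (Fin n) F}
    (hg : g ∈ Subgroup.normalizer (U : Set (Matrix.SpecialLinearGroup (Fin n) F))) :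
    ∀ k, Stab (ser U k) g
  | 0 => by
    intro v hv
    change v ∈ (⊥ : Submodule F (Fin n → F)) at hv
    rw [Submodule.mem_bot] at hv
    subst hv
    rw [Matrix.mulVec_zero]
    exact Submodule.zero_mem _
  | k + 1 => by
    intro v hv u hu
    have hu' : g⁻¹ * u * g ∈ U := by
      have := (Subgroup.mem_normalizer_iff.1 (inv_mem hg) u).1 hu
      simpa using this
    have h := ser_stab hg k _ (hv _ hu')
    rw [Matrix.mulVec_sub, Matrix.mulVec_mulVec, ← Matrix.SpecialLinearGroup.coe_mul,
      ← mul_assoc, ← mul_assoc, mul_inv_cancel, one_mul, Matrix.SpecialLinearGroup.coe_mul,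
      ← Matrix.mulVec_mulVec] at h
    exact h

theorem ser_le (k : ℕ) : ser U k ≤ ser U (k + 1) := fun v hv u hu =>
  (ser U k).sub_mem (ser_stab U (Subgroup.le_normalizer hu) k v hv) hv

theorem ser_lt [Fintype F] {p : ℕ} [Fact p.Prime] [CharP F p] (hU : IsPGroup p ↥U) {k : ℕ}
    (hk : ser U k ≠ ⊤) : ser U k < ser U (k + 1) := by
  classical
  refine lt_of_le_not_ge (ser_le U k) fun hle => hk ?_
  set W := ser U k
  have hst : ∀ u : U, W ≤ W.comap (Matrix.mulVecLin (u.1 : Matrix (Fin n) (Fin n) F)) := fun u v hv =>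
    ser_stab U (Subgroup.le_normalizer u.2) k v hv
  let _act : MulAction U ((Fin n → F) ⧸ W) :=
    { smul := fun u x => W.mapQ W _ (hst u) x
      one_smul := fun x => by
        induction x using Submodule.Quotient.induction_on with
        | _ v =>
          change Submodule.Quotient.mk ((1 : Matrix (Fin n) (Fin n) F).mulVec v) = _
          rw [Matrix.one_mulVec]
      mul_smul := fun a b x => by
        induction x using Submodule.Quotient.induction_on with
        | _ v =>
          change Submodule.Quotient.mk (((a.1 * b.1 : Matrix.SpecialLinearGroup (Fin n) F) :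
              Matrix (Fin n) (Fin n) F).mulVec v) =
            Submodule.Quotient.mk ((a.1 : Matrix (Fin n) (Fin n) F).mulVec
              ((b.1 : Matrix (Fin n) (Fin n) F).mulVec v))
          rw [Matrix.SpecialLinearGroup.coe_mul, Matrix.mulVec_mulVec] }
  by_contra hW
  have hpos : 0 < Module.finrank F ((Fin n → F) ⧸ W) := by
    rw [Module.finrank_pos_iff]
    exact Submodule.Quotient.nontrivial_iff.2 hW
  have hdvd : p ∣ Nat.card ((Fin n → F) ⧸ W) := by
    let _ : Fintype ((Fin n → F) ⧸ W) := Fintype.ofFinite _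
    rw [Nat.card_eq_fintype_card, Module.card_eq_pow_finrank (K := F)]
    exact dvd_pow (prime_dvd_char_iff_dvd_card p |>.1 (by rw [ringChar.eq F p])) hpos.ne'
  have h0 : (0 : (Fin n → F) ⧸ W) ∈ MulAction.fixedPoints U ((Fin n → F) ⧸ W) := fun u =>
    map_zero (W.mapQ W _ (hst u))
  obtain ⟨b, hb, hb0⟩ := hU.exists_fixed_point_of_prime_dvd_card_of_fixed_point
    ((Fin n → F) ⧸ W) hdvd h0
  induction b using Submodule.Quotient.induction_on with
  | _ v =>
    apply hb0
    symm
    rw [Submodule.Quotient.mk_eq_zero]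
    refine hle fun u hu => ?_
    have h := hb ⟨u, hu⟩
    change Submodule.Quotient.mk ((u : Matrix (Fin n) (Fin n) F).mulVec v) =
      (Submodule.Quotient.mk v : (Fin n → F) ⧸ W) at h
    exact (Submodule.Quotient.eq W).1 h


/-- The Borel–Tits property of `SL_n(q)` in flag form: for a field `F` of characteristic `p` with finitely many elements and a non-trivial `p`-subgroup `U` of `SL_n(F)`, there is a flag `0 = V₀ < V₁ < ⋯ < V_{k+1} = F^n` with at least one proper non-zero member such that every element of the normaliser of `U` maps each `V_i` onto itself and every element of `U` acts trivially on each quotient `V_{i+1}/V_i` (so the normaliser lies in the parabolic subgroup of the flag and `U` in its unipotent radical). -/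
theorem result {F : Type*} [Field F] [Fintype F] (p : ℕ) [Fact p.Prime] [CharP F p] (n : ℕ)
    (U : Subgroup (Matrix.SpecialLinearGroup (Fin n) F)) (hU : IsPGroup p ↥U) (hne : U ≠ ⊥) :
    ∃ (k : ℕ) (V : Fin (k + 2) → Submodule F (Fin n → F)), 1 ≤ k ∧ StrictMono V ∧ V 0 = ⊥ ∧ V (Fin.last (k + 1)) = ⊤ ∧
      (∀ g ∈ Subgroup.normalizer (U : Set (Matrix.SpecialLinearGroup (Fin n) F)), ∀ i, (V i).map (Matrix.mulVecLin (g : Matrix (Fin n) (Fin n) F)) = V i) ∧
      (∀ u ∈ U, ∀ i : Fin (k + 1), ∀ v ∈ V i.succ, (u : Matrix (Fin n) (Fin n) F).mulVec v - v ∈ V (Fin.castSucc i)) := by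
  classical
  have hex : ∃ j, ser U j = ⊤ := by
    by_contra hno
    push Not at hno
    have hgrow : ∀ j, j ≤ Module.finrank F (ser U j) := by
      intro j
      induction j with
      | zero => exact Nat.zero_le _
      | succ j ih => exact Nat.succ_le_of_lt (lt_of_le_of_lt ih (Submodule.finrank_lt_finrank_of_lt (ser_lt (p := p) U hU (hno j))))
    have := (hgrow (n + 1)).trans (Submodule.finrank_le _)
    rw [Module.finrank_fin_fun] at this
    omega
  have h1 : ser U 1 ≠ ⊤ := by
    intro h
    apply hne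
    rw [eq_bot_iff]
    intro u hu
    rw [Subgroup.mem_bot]
    apply Subtype.ext
    apply Matrix.ext_of_mulVec_single
    intro i
    have hv : Pi.single i 1 ∈ ser U 1 := h ▸ Submodule.mem_top
    have := hv u hu
    change _ ∈ (⊥ : Submodule F (Fin n → F)) at this
    rw [Submodule.mem_bot, sub_eq_zero] at this
    rw [this]
    ext l
    simp [Matrix.one_apply, Pi.single_apply]
  have htop : ser U 0 ≠ ⊤ := fun h => h1 (top_le_iff.1 (h ▸ ser_le U 0))
  set j := Nat.find hex with hj
  have hj2 : 2 ≤ j := by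
    rcases Nat.lt_or_ge j 2 with h | h
    · interval_cases hh : j
      · exact absurd (hj ▸ Nat.find_spec hex) htop
      · exact absurd (hj ▸ Nat.find_spec hex) h1
    · exact h
  obtain ⟨k, hk⟩ : ∃ k, j = k + 1 := ⟨j - 1, by omega⟩
  refine ⟨k, fun i => ser U i.val, by omega, ?_, rfl, ?_, ?_, ?_⟩
  · refine Fin.strictMono_iff_lt_succ.2 fun i => ?_
    exact ser_lt (p := p) U hU (Nat.find_min hex (by rw [← hj, hk]; exact i.isLt))
  · change ser U (k + 1) = ⊤
    rw [← hk, hj]
    exact Nat.find_spec hex
  · intro g hg i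
    apply le_antisymm
    · exact Submodule.map_le_iff_le_comap.2 fun v hv => ser_stab U hg _ v hv
    · intro v hv
      refine ⟨((g⁻¹ : Matrix.SpecialLinearGroup (Fin n) F) : Matrix (Fin n) (Fin n) F).mulVec v,
        ser_stab U (inv_mem hg) _ v hv, ?_⟩
      rw [Matrix.mulVecLin_apply, Matrix.mulVec_mulVec, ← Matrix.SpecialLinearGroup.coe_mul,
        mul_inv_cancel, Matrix.SpecialLinearGroup.coe_one, Matrix.one_mulVec]
  · intro u hu i v hv
    exact hv u hu

end Cfsg.Agent.S2391
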