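import Cfsg.Statements.S2392
import Cfsg.Agent.Lib.CrossCharWeights

set_option autoImplicit false
open scoped MatrixGroups
open Cfsg

namespace Cfsg.Agent.S2392

open Matrix

variable {F : Type*} [Field F] {m : ℕ}

/-- `1 + x yᵀ` for orthogonal vectors. -/
def oneAdd (x y : Fin (m + 1) → F) (h : y ⬝ᵥ x = 0) : Matrix.SpecialLinearGroup (Fin (m + 1)) F :=
  ⟨1 + Matrix.vecMulVec x y, by
    rw [Matrix.vecMulVec_eq Unit, Matrix.det_one_add_replicateCol_mul_replicateRow, h, add_zero]⟩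

theorem row_orth (v : Fin m → F) : (Fin.cons 0 v : Fin (m + 1) → F) ⬝ᵥ Pi.single 0 1 = 0 := by simp

theorem step_orth {d φ : Fin m → F} (h : φ ⬝ᵥ d = 0) :
    (Fin.cons 0 φ : Fin (m + 1) → F) ⬝ᵥ Fin.cons 0 d = 0 := by
  simpa [dotProduct, Fin.sum_univ_succ] using h

/-- The transvection subgroup of the first row. -/
def aHom : Multiplicative (Fin m → F) →* Matrix.SpecialLinearGroup (Fin (m + 1)) F where
  toFun v := oneAdd (Pi.single 0 1) (Fin.cons 0 (Multiplicative.toAdd v)) (row_orth _)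
  map_one' := by
    apply Subtype.ext
    have h0 : (Fin.cons 0 0 : Fin (m + 1) → F) = 0 := by
      funext j
      cases j using Fin.cases <;> simp
    simp [oneAdd, h0]
  map_mul' a b := by
    apply Subtype.ext
    change 1 + Matrix.vecMulVec (Pi.single 0 1) _ = (1 + Matrix.vecMulVec _ _) * (1 + Matrix.vecMulVec _ _)
    simp only [mul_add, add_mul, one_mul, mul_one, Matrix.vecMulVec_mul_vecMulVec, row_orth, zero_smul,
      Matrix.vecMulVec_zero, add_zero]
    ext i j
    cases j using Fin.cases <;> simp [Matrix.vecMulVec_apply, mul_add, add_assoc]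

theorem conj_rel {d φ : Fin m → F} (h : φ ⬝ᵥ d = 0) (v : Fin m → F) :
    aHom (Multiplicative.ofAdd v) * oneAdd (Fin.cons 0 d) (Fin.cons 0 φ) (step_orth h) =
      oneAdd (Fin.cons 0 d) (Fin.cons 0 φ) (step_orth h) *
        aHom (Multiplicative.ofAdd (v + (v ⬝ᵥ d) • φ)) := by
  apply Subtype.ext
  change (1 + Matrix.vecMulVec (Pi.single 0 1) (Fin.cons 0 v)) * (1 + Matrix.vecMulVec _ _) =
    (1 + Matrix.vecMulVec _ _) * (1 + Matrix.vecMulVec (Pi.single 0 1) (Fin.cons 0 (v + (v ⬝ᵥ d) • φ)))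
  have h1 : (Fin.cons 0 φ : Fin (m + 1) → F) ⬝ᵥ Pi.single 0 1 = 0 := row_orth φ
  have h2 : (Fin.cons 0 v : Fin (m + 1) → F) ⬝ᵥ Fin.cons 0 d = v ⬝ᵥ d := by
    simp [dotProduct, Fin.sum_univ_succ]
  simp only [mul_add, add_mul, one_mul, mul_one, Matrix.vecMulVec_mul_vecMulVec, h1, h2, zero_smul,
    Matrix.vecMulVec_zero, add_zero]
  ext i j
  cases i using Fin.cases <;> cases j using Fin.cases <;> simp [Matrix.vecMulVec_apply]
  ring


/-- A lower bound for representations in cross characteristic: for `n ≥ 3` and a field `F` with `q` elements, every homomorphism from `SL_n(F)` to `GL_d(K)`, `K` a field of characteristic different from that of `F`, whose kernel is central has `d ≥ q^(n-1) - 1`. -/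
theorem result {F : Type*} [Field F] [Fintype F] {q : ℕ} (hq : Fintype.card F = q) (n : ℕ) (hn : 3 ≤ n)
    {K : Type*} [Field K] (hK : ringChar K ≠ ringChar F) {d : ℕ}
    (ρ : Matrix.SpecialLinearGroup (Fin n) F →* GL (Fin d) K) (hker : ρ.ker ≤ Subgroup.center (Matrix.SpecialLinearGroup (Fin n) F)) :
    q ^ (n - 1) - 1 ≤ d := by
  classical
  obtain ⟨m, rfl⟩ : ∃ m, n = m + 1 := ⟨n - 1, by omega⟩
  have hm : 2 ≤ m := by omega
  have hne := Cfsg.Agent.CrossCharWeights.card_ne_zero_of_ringChar_ne hK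
  let ρA : Multiplicative (Fin m → F) →* Matrix (Fin d) (Fin d) K :=
    ((Units.coeHom _).comp ρ).comp aHom
  obtain ⟨S, hS, hdet, hclosed⟩ := Cfsg.Agent.CrossCharWeights.exists_weight_set hne ρA
  -- closure of `S` under the transvections
  have hmove : ∀ (dd φ : Fin m → F), φ ⬝ᵥ dd = 0 → ∀ w ∈ S, w + (w ⬝ᵥ φ) • dd ∈ S := by
    intro dd φ h w hw
    let g := oneAdd (Fin.cons 0 dd) (Fin.cons 0 φ) (step_orth h)
    refine hclosed (ρ g : Matrix (Fin d) (Fin d) K) (ρ g⁻¹ : GL (Fin d) K)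
      (fun v => v + (v ⬝ᵥ dd) • φ) (fun w => w + (w ⬝ᵥ φ) • dd) ?_ ?_ ?_ w hw
    · rw [← Units.val_mul, ← map_mul, inv_mul_cancel, map_one, Units.val_one]
    · intro v
      change (ρ _ : Matrix (Fin d) (Fin d) K) * _ = _ * (ρ _ : Matrix (Fin d) (Fin d) K)
      rw [← Units.val_mul, ← map_mul, conj_rel h v, map_mul, Units.val_mul]
    · intro w v
      simp only [dotProduct_add, dotProduct_smul, add_dotProduct, smul_dotProduct, smul_eq_mul]
      rw [dotProduct_comm dd v]
      ring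
  have hstep : ∀ w ∈ S, ∀ (i : Fin m), w i ≠ 0 → ∀ u : Fin m → F, u i = w i → u ∈ S := by
    intro w hw i hi u hu
    have := hmove (u - w) (Pi.single i (w i)⁻¹) (by simp [hu]) w hw
    simpa [mul_inv_cancel₀ hi] using this
  -- some non-zero weight
  let i0 : Fin m := ⟨0, by omega⟩
  let i1 : Fin m := ⟨1, by omega⟩
  have h01 : i0 ≠ i1 := by simp [i0, i1, Fin.ext_iff]
  obtain ⟨w0, hw0, hw0ne⟩ : ∃ w ∈ S, w ≠ 0 := by
    have hnc : ρA (Multiplicative.ofAdd (Pi.single i0 1)) ≠ 1 := by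
      intro h
      have hmem : aHom (Multiplicative.ofAdd (Pi.single i0 (1 : F))) ∈ ρ.ker :=
        MonoidHom.mem_ker.2 (Units.ext h)
      have hc := Subgroup.mem_center_iff.1 (hker hmem)
        (oneAdd (Fin.cons 0 (Pi.single i0 1)) (Fin.cons 0 (Pi.single i1 1)) (step_orth (by simp [h01])))
      have hr := conj_rel (show (Pi.single i1 1 : Fin m → F) ⬝ᵥ Pi.single i0 1 = 0 by simp [h01])
        (Pi.single i0 1)
      rw [← hc] at hr
      have := congrArg (fun M : Matrix.SpecialLinearGroup (Fin (m + 1)) F =>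
        (M : Matrix (Fin (m + 1)) (Fin (m + 1)) F) 0 i1.succ) (mul_left_cancel hr)
      change (1 + Matrix.vecMulVec (Pi.single (0 : Fin (m + 1)) (1 : F)) (Fin.cons 0 (Pi.single i0 1)) :
          Matrix (Fin (m + 1)) (Fin (m + 1)) F) 0 i1.succ =
        (1 + Matrix.vecMulVec (Pi.single (0 : Fin (m + 1)) (1 : F))
          (Fin.cons 0 (Pi.single i0 1 + ((Pi.single i0 1 : Fin m → F) ⬝ᵥ Pi.single i0 1) • Pi.single i1 1)) :
          Matrix (Fin (m + 1)) (Fin (m + 1)) F) 0 i1.succ at this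
      simp [Matrix.vecMulVec_apply, h01.symm] at this
    obtain ⟨w, hw, hwv⟩ := hdet _ hnc
    exact ⟨w, hw, fun h => hwv (by simp [h])⟩
  -- transitivity
  have hall : ∀ u : Fin m → F, u ≠ 0 → u ∈ S := by
    intro u hu
    obtain ⟨i, hi⟩ := Function.ne_iff.1 hw0ne
    obtain ⟨j, hj⟩ := Function.ne_iff.1 hu
    obtain ⟨k, hk⟩ : ∃ k : Fin m, k ≠ i := if h : i = i0 then ⟨i1, h ▸ h01.symm⟩ else ⟨i0, Ne.symm h⟩
    by_cases hij : j = i
    · subst hij
      have h1 := hstep w0 hw0 j hi (Function.update (Pi.single j (w0 j)) k 1) (by simp [hk.symm])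
      have h2 := hstep _ h1 k (by simp) (Function.update (Pi.single j (u j)) k 1) (by simp)
      exact hstep _ h2 j (by simpa [hk.symm] using hj) u (by simp [hk.symm])
    · have h1 := hstep w0 hw0 i hi (Function.update (Pi.single i (w0 i)) j (u j)) (by simp [Ne.symm hij])
      exact hstep _ h1 j (by simpa using hj) u (by simp)
  calc q ^ (m + 1 - 1) - 1 = (Finset.univ.erase (0 : Fin m → F)).card := by
        simp [hq]
    _ ≤ S.card := Finset.card_le_card fun u hu => hall u (Finset.ne_of_mem_erase hu)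
    _ ≤ d := hS

end Cfsg.Agent.S2392
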