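import Cfsg.Statements.S2393
import Cfsg.Agent.Lib.CrossCharWeights

set_option autoImplicit false
open scoped MatrixGroups
open Cfsg

namespace Cfsg.Agent.S2393

open Matrix

variable {F : Type*} [Field F] {m : ℕ}

/-- Symmetric matrix supported on the first row and column. -/
def symMat (s : Fin (m + 1) → F) : Matrix (Fin (m + 1)) (Fin (m + 1)) F :=
  Matrix.of fun i j => if i = 0 then s j else if j = 0 then s i else 0

theorem symMat_transpose (s : Fin (m + 1) → F) : (symMat s)ᵀ = symMat s := by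
  ext i j
  cases i using Fin.cases <;> cases j using Fin.cases <;> simp [symMat]

theorem symMat_add (s t : Fin (m + 1) → F) : symMat (s + t) = symMat s + symMat t := by
  ext i j
  cases i using Fin.cases <;> cases j using Fin.cases <;> simp [symMat]

/-- The abelian group `[[1,S],[0,1]]`. -/
def hHom : Multiplicative (Fin (m + 1) → F) →* ↥(Matrix.symplecticGroup (Fin (m + 1)) F) where
  toFun s := ⟨Matrix.fromBlocks 1 (symMat (Multiplicative.toAdd s)) 0 1, by
    rw [SymplecticGroup.mem_iff, Matrix.J]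
    simp [Matrix.fromBlocks_multiply, Matrix.fromBlocks_transpose, symMat_transpose]⟩
  map_one' := by
    apply Subtype.ext
    have h0 : symMat (0 : Fin (m + 1) → F) = 0 := by ext i j; simp [symMat]
    simp [h0]
  map_mul' a b := by
    apply Subtype.ext
    simp [Matrix.fromBlocks_multiply, symMat_add, add_comm]

/-- The element `diag(M, Nᵀ)`. -/
def dElt (M N : Matrix (Fin (m + 1)) (Fin (m + 1)) F) (h : M * N = 1) :
    ↥(Matrix.symplecticGroup (Fin (m + 1)) F) :=
  ⟨Matrix.fromBlocks M 0 0 Nᵀ, by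
    rw [SymplecticGroup.mem_iff, Matrix.J]
    simp [Matrix.fromBlocks_multiply, Matrix.fromBlocks_transpose, h, ← Matrix.transpose_mul]⟩

theorem conj_rel {M N : Matrix (Fin (m + 1)) (Fin (m + 1)) F} (h : M * N = 1) {s s' : Fin (m + 1) → F}
    (hs : N * symMat s * Nᵀ = symMat s') :
    hHom (Multiplicative.ofAdd s) * dElt M N h = dElt M N h * hHom (Multiplicative.ofAdd s') := by
  apply Subtype.ext
  change Matrix.fromBlocks 1 (symMat s) 0 1 * Matrix.fromBlocks M 0 0 Nᵀ =
    Matrix.fromBlocks M 0 0 Nᵀ * Matrix.fromBlocks 1 (symMat s') 0 1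
  simp [Matrix.fromBlocks_multiply, ← hs, ← mul_assoc, h]

/-- The first-row transvection. -/
def yMat (b : Fin m → F) : Matrix (Fin (m + 1)) (Fin (m + 1)) F :=
  Matrix.of fun i j => if i = 0 then (Fin.cons 1 b : Fin (m + 1) → F) j else if i = j then 1 else 0

theorem yMat_inv (b : Fin m → F) : yMat (-b) * yMat b = 1 := by
  ext i j
  cases i using Fin.cases <;> cases j using Fin.cases <;>
    simp [yMat, Matrix.mul_apply, Fin.sum_univ_succ, Matrix.one_apply]
  all_goals simp [Fin.succ_ne_zero, (Fin.succ_ne_zero _).symm]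

theorem yMat_sym (b : Fin m → F) (s : Fin (m + 1) → F) :
    yMat b * symMat s * (yMat b)ᵀ = symMat (Fin.cons (s 0 + 2 * (b ⬝ᵥ Fin.tail s)) (Fin.tail s)) := by
  ext i j
  cases i using Fin.cases <;> cases j using Fin.cases <;>
    simp [yMat, symMat, Matrix.mul_apply, Fin.sum_univ_succ, dotProduct, Fin.tail]
  all_goals simp [mul_comm, two_mul, add_assoc]

/-- The torus element. -/
def tMat (m : ℕ) (t : F) : Matrix (Fin (m + 1)) (Fin (m + 1)) F :=
  Matrix.diagonal (Fin.cons t fun _ => 1)

theorem tMat_inv {t : F} (ht : t ≠ 0) : tMat m t⁻¹ * tMat m t = 1 := by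
  rw [tMat, tMat, Matrix.diagonal_mul_diagonal, ← Matrix.diagonal_one]
  congr 1
  funext i
  cases i using Fin.cases <;> simp [ht]

theorem tMat_sym (t : F) (s : Fin (m + 1) → F) :
    tMat m t * symMat s * (tMat m t)ᵀ = symMat (Fin.cons (t ^ 2 * s 0) (t • Fin.tail s)) := by
  rw [tMat, Matrix.diagonal_transpose]
  ext i j
  cases i using Fin.cases <;> cases j using Fin.cases <;>
    simp [symMat, Matrix.diagonal_mul, Matrix.mul_diagonal, Fin.tail]
  all_goals ring


/-- A lower bound for representations in cross characteristic: for `n ≥ 2` and a field `F` with `q` elements, `q` odd, every homomorphism from the symplectic group `Sp_{2n}(F)` to `GL_d(K)`, `K` a field of characteristic different from that of `F`, whose kernel is central has `d ≥ q^(n-1)(q-1)/2`. -/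
theorem result {F : Type*} [Field F] [Fintype F] {q : ℕ} (hq : Fintype.card F = q) (hodd : Odd q) (n : ℕ) (hn : 2 ≤ n)
    {K : Type*} [Field K] (hK : ringChar K ≠ ringChar F) {d : ℕ}
    (ρ : ↥(Matrix.symplecticGroup (Fin n) F) →* GL (Fin d) K) (hker : ρ.ker ≤ Subgroup.center ↥(Matrix.symplecticGroup (Fin n) F)) :
    q ^ (n - 1) * (q - 1) / 2 ≤ d := by
  classical
  obtain ⟨m, rfl⟩ : ∃ m, n = m + 1 := ⟨n - 1, by omega⟩
  have h2 : (2 : F) ≠ 0 := by
    apply Ring.two_ne_zero
    intro h
    rw [FiniteField.even_card_iff_char_two, hq] at h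
    rw [Nat.odd_iff] at hodd
    omega
  have hne := Cfsg.Agent.CrossCharWeights.card_ne_zero_of_ringChar_ne hK
  let ρA : Multiplicative (Fin (m + 1) → F) →* Matrix (Fin d) (Fin d) K :=
    ((Units.coeHom _).comp ρ).comp hHom
  obtain ⟨S, hS, hdet, hclosed⟩ := Cfsg.Agent.CrossCharWeights.exists_weight_set hne ρA
  have hmove : ∀ (M N : Matrix (Fin (m + 1)) (Fin (m + 1)) F) (_ : M * N = 1)
      (σ τ : (Fin (m + 1) → F) → (Fin (m + 1) → F)),
      (∀ s, N * symMat s * Nᵀ = symMat (σ s)) → (∀ w s, w ⬝ᵥ σ s = τ w ⬝ᵥ s) → ∀ w ∈ S, τ w ∈ S := by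
    intro M N h σ τ hσ hτ w hw
    refine hclosed (ρ (dElt M N h) : Matrix (Fin d) (Fin d) K)
      (ρ (dElt M N h)⁻¹ : GL (Fin d) K) σ τ ?_ ?_ hτ w hw
    · rw [← Units.val_mul, ← map_mul, inv_mul_cancel, map_one, Units.val_one]
    · intro v
      change (ρ _ : Matrix (Fin d) (Fin d) K) * _ = _ * (ρ _ : Matrix (Fin d) (Fin d) K)
      rw [← Units.val_mul, ← map_mul, conj_rel h (hσ v), map_mul, Units.val_mul]
  obtain ⟨w, hw, hw0⟩ : ∃ w ∈ S, w 0 ≠ 0 := by
    by_contra hno
    push Not at hno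
    have h1 : ρA (Multiplicative.ofAdd (Pi.single 0 1)) = 1 := by
      by_contra h
      obtain ⟨w, hw, hwv⟩ := hdet _ h
      exact hwv (by simp [hno w hw])
    have hc := Subgroup.mem_center_iff.1 (hker (MonoidHom.mem_ker.2 (Units.ext h1)))
      ⟨Matrix.J (Fin (m + 1)) F, SymplecticGroup.J_mem (Fin (m + 1)) F⟩
    have := congrArg (fun g : ↥(Matrix.symplecticGroup (Fin (m + 1)) F) =>
      (g : Matrix (Fin (m + 1) ⊕ Fin (m + 1)) (Fin (m + 1) ⊕ Fin (m + 1)) F) (.inl 0) (.inl 0)) hc
    simp [hHom, Matrix.J, Matrix.fromBlocks_multiply, symMat] at this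
  let T : Finset F := (Finset.univ.erase (0 : F)).image fun t => t ^ 2
  have hT : q - 1 ≤ 2 * T.card := by
    have := Finset.card_le_mul_card_image (s := Finset.univ.erase (0 : F)) (f := fun t : F => t ^ 2) 2 (by
      intro b hb
      obtain ⟨a, -, rfl⟩ := Finset.mem_image.1 hb
      refine (Finset.card_le_card ?_).trans (Finset.card_le_two (a := a) (b := -a))
      intro x hx
      simp only [Finset.mem_filter] at hx
      simp only [Finset.mem_insert, Finset.mem_singleton]
      exact sq_eq_sq_iff_eq_or_eq_neg.1 hx.2)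
    simpa [hq, T] using this
  have hall : ∀ r ∈ T, ∀ u : Fin m → F, (Fin.cons (r * w 0) u : Fin (m + 1) → F) ∈ S := by
    intro r hr u
    obtain ⟨t, ht, rfl⟩ := Finset.mem_image.1 hr
    have ht0 : t ≠ 0 := Finset.ne_of_mem_erase ht
    have h1 := hmove _ _ (tMat_inv ht0) _ (fun w => Fin.cons (t ^ 2 * w 0) (t • Fin.tail w))
      (tMat_sym t) (fun w s => by
        simp [dotProduct, Fin.sum_univ_succ, Fin.tail]
        congr 1
        · ring
        · exact Finset.sum_congr rfl fun i _ => by ring) w hw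
    have hr0 : 2 * (t ^ 2 * w 0) ≠ 0 := mul_ne_zero h2 (mul_ne_zero (pow_ne_zero 2 ht0) hw0)
    let b : Fin m → F := (2 * (t ^ 2 * w 0))⁻¹ • (u - t • Fin.tail w)
    have h3 := hmove _ _ (yMat_inv b) _ (fun w => Fin.cons (w 0) (Fin.tail w + (2 * w 0) • b))
      (yMat_sym b) (fun w s => by
        simp [dotProduct, Fin.sum_univ_succ, Fin.tail, mul_add, add_mul, Finset.mul_sum,
          Finset.sum_add_distrib]
        rw [add_assoc, add_comm (∑ i : Fin m, w i.succ * s i.succ)]
        congr 2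
        exact Finset.sum_congr rfl fun i _ => by ring) _ h1
    have hbu : t • Fin.tail w + (2 * (t ^ 2 * w 0)) • b = u := by
      simp only [b, smul_smul, mul_inv_cancel₀ hr0, one_smul]
      abel
    simpa [hbu] using h3
  have hcard : T.card * q ^ m ≤ S.card := by
    have h := Finset.card_le_card_of_injOn
      (fun p : F × (Fin m → F) => (Fin.cons (p.1 * w 0) p.2 : Fin (m + 1) → F))
      (s := T ×ˢ Finset.univ) (t := S)
      (fun p hp => hall p.1 (Finset.mem_product.1 hp).1 p.2)
      (fun a _ b _ hab => by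
        have e := Fin.cons_inj.1 hab
        exact Prod.ext (mul_right_cancel₀ hw0 e.1) e.2)
    simpa [hq] using h
  refine Nat.div_le_of_le_mul ?_
  calc q ^ (m + 1 - 1) * (q - 1) ≤ q ^ m * (2 * T.card) := Nat.mul_le_mul_left _ hT
    _ = 2 * (T.card * q ^ m) := by ring
    _ ≤ 2 * d := Nat.mul_le_mul_left _ (hcard.trans hS)

end Cfsg.Agent.S2393
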