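import Cfsg.Statements.S2395
import Cfsg.Agent.Lib.StGroupTorus

set_option autoImplicit false
open Cfsg
open scoped commutatorElement

namespace Cfsg.Agent.S2395

open Cfsg.Lie Cfsg.Agent.ChevalleyEngine Cfsg.Agent.ChevalleyCert Cfsg.Agent.ChevalleyRoots
open Cfsg.Agent.ChevalleyCore Cfsg.Agent.StBasic

/-- A step showing that the root subgroup of `r` consists of commutators. -/
inductive Step where
  /-- torus action with odd pairing -/
  | H (r i : ℕ)
  /-- one term of a commutator formula -/
  | C (r b c m : ℕ)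

def root : Step → ℕ
  | .H r _ => r
  | .C r _ _ _ => r

def okStep (D : ChevalleyDatum) (known : List ℕ) : Step → Bool
  | .H r i => decide (r < D.nroots ∧ i < D.rank ∧ (D.cartan i r = 1 ∨ D.cartan i r = -1))
  | .C r b c m => decide (b < D.nroots ∧ c < D.nroots ∧ c ≠ b ∧ c ≠ D.neg b) &&
      match (D.commTerms b c)[m]? with
      | none => false
      | some T => decide (T.1 = r ∧ (T.2.1 = 1 ∨ T.2.1 = -1) ∧ (T.2.2.1 = 1 ∨ T.2.2.2 = 1)) &&
          ((D.commTerms b c).take m ++ (D.commTerms b c).drop (m + 1)).all fun T' => known.contains T'.1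

def okAll (D : ChevalleyDatum) : List ℕ → List Step → Bool
  | known, [] => (List.range D.rank).all fun i => known.contains (D.simple i)
  | known, s :: l => okStep D known s && okAll D (root s :: known) l

variable {D : ChevalleyDatum} {C : Cert D} {F : Type*} [Field F] {Γ : Type*} [Group Γ]

theorem step_mem (S : Sys C F Γ) (hG : Gen D)
    {known : List ℕ} (hk : ∀ r ∈ known, ∀ t, S.x r t ∈ commutator Γ) {s : Step}
    (hx : (∃ r i, s = Step.H r i) → ∃ x : F, x ≠ 0 ∧ x ≠ 1) (hs : okStep D known s = true) :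
    ∀ t, S.x (root s) t ∈ commutator Γ := by
  cases s with
  | H r i =>
    simp only [okStep, decide_eq_true_eq] at hs
    obtain ⟨hr, hi, hA⟩ := hs
    obtain ⟨x, hx0, hx1⟩ := hx ⟨r, i, rfl⟩
    have hne : x ^ D.cartan i r - 1 ≠ 0 := by
      rcases hA with e | e <;> rw [e, sub_ne_zero] <;> simp [hx1, inv_eq_one]
    intro t
    have h := StBruhat.h_conj S hG hi hr hx0 (t / (x ^ D.cartan i r - 1))
    set u := t / (x ^ D.cartan i r - 1)
    have e : StBasic.h S i x * S.x r u * (StBasic.h S i x)⁻¹ * (S.x r u)⁻¹ = S.x r t := by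
      rw [h, x_inv S hr, S.x_add r hr]
      congr 1
      rw [show x ^ D.cartan i r * u + -u = (x ^ D.cartan i r - 1) * u by ring]
      exact mul_div_cancel₀ t hne
    show S.x r t ∈ _
    rw [← e]
    exact Subgroup.commutator_mem_commutator (Subgroup.mem_top _) (Subgroup.mem_top _)
  | C r b c m =>
    simp only [okStep, Bool.and_eq_true, decide_eq_true_eq] at hs
    obtain ⟨⟨hb, hc, hcb, hcn⟩, hm⟩ := hs
    set ts := D.commTerms b c with hts
    rcases hT : ts[m]? with _ | T
    · simp [hT] at hm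
    simp only [hT, Bool.and_eq_true, decide_eq_true_eq, List.all_eq_true, List.contains_iff_mem] at hm
    obtain ⟨⟨hTp, hTc, hTe⟩, hrest⟩ := hm
    obtain ⟨hmlt, hTm⟩ := List.getElem?_eq_some_iff.1 hT
    have hsplit : ts = ts.take m ++ T :: ts.drop (m + 1) := by
      conv_lhs => rw [← List.take_append_drop m ts, List.drop_eq_getElem_cons hmlt, hTm]
    intro a
    obtain ⟨t, u, htu⟩ : ∃ t u : F, (T.2.1 : F) * (-t) ^ T.2.2.1 * u ^ T.2.2.2 = a := by
      have hC : (T.2.1 : F) * (T.2.1 : F) = 1 := by rcases hTc with e | e <;> simp [e]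
      rcases hTe with e | e
      · exact ⟨-((T.2.1 : F) * a), 1, by rw [e, neg_neg, pow_one, one_pow, mul_one, ← mul_assoc, hC, one_mul]⟩
      · exact ⟨-1, (T.2.1 : F) * a, by rw [e, neg_neg, one_pow, pow_one, mul_one, ← mul_assoc, hC, one_mul]⟩
    have hW : ((D.commWord F b c t u).map fun p => S.x p.1 p.2).prod ∈ commutator Γ := by
      have he := S.comm b c hb hc hcb hcn t u
      have : ((D.commWord F b c t u).map fun p => S.x p.1 p.2).prod =
          ⁅(S.x b t)⁻¹, (S.x c u)⁻¹⁆⁻¹ := by
        rw [commutatorElement_inv, commutatorElement_def, inv_inv, inv_inv,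
          mul_assoc _ (S.x c u) (S.x b t), he]
        group
      rw [this]
      exact inv_mem (Subgroup.commutator_mem_commutator (Subgroup.mem_top _) (Subgroup.mem_top _))
    have hrest' : ∀ L : List (ℕ × ℤ × ℕ × ℕ), (∀ T' ∈ L, T' ∈ ts.take m ++ ts.drop (m + 1)) →
        (L.map fun c' => S.x c'.1 ((c'.2.1 : F) * (-t) ^ c'.2.2.1 * u ^ c'.2.2.2)).prod ∈ commutator Γ := by
      intro L hL
      refine Subgroup.list_prod_mem _ fun g hg => ?_
      obtain ⟨T', hT', rfl⟩ := List.mem_map.1 hg
      exact hk _ (hrest T' (hL T' hT')) _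
    rw [show D.commWord F b c t u = ts.map fun c' => (c'.1, (c'.2.1 : F) * (-t) ^ c'.2.2.1 * u ^ c'.2.2.2)
      from rfl, List.map_map, hsplit, List.map_append, List.map_cons, List.prod_append, List.prod_cons] at hW
    simp only [Function.comp_def, hTp, htu] at hW
    have h1 := hrest' (ts.take m) fun T' h => List.mem_append_left _ h
    have h2 := hrest' (ts.drop (m + 1)) fun T' h => List.mem_append_right _ h
    exact (Subgroup.mul_mem_cancel_right _ h2).1 ((Subgroup.mul_mem_cancel_left _ h1).1 hW)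

theorem all_mem (S : Sys C F Γ) (hG : Gen D) :
    ∀ (L : List Step), (∀ s ∈ L, (∃ r i, s = .H r i) → ∃ x : F, x ≠ 0 ∧ x ≠ 1) → ∀ known : List ℕ,
      (∀ r ∈ known, ∀ t, S.x r t ∈ commutator Γ) → okAll D known L = true → commutator Γ = ⊤ := by
  intro L
  induction L with
  | nil =>
    intro _ known hk h
    simp only [okAll, List.all_eq_true, List.contains_iff_mem, List.mem_range] at h
    have hall : ∀ r, r < D.nroots → ∀ t, S.x r t ∈ commutator Γ := by
      refine root_induction C (P := fun r => ∀ t, S.x r t ∈ commutator Γ) (fun i hi => hk _ (h i hi)) ?_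
      intro i r hi hr ih t
      have hc := cn_ne_zero C (i := i) (one_ne_zero (α := F)) r
      have h1 := n_conj S hG hi hr (one_ne_zero (α := F)) (t / cn C i 1 r)
      rw [mul_div_cancel₀ t hc] at h1
      rw [← h1]
      exact (inferInstance : (commutator Γ).Normal).conj_mem _ (ih _) _
    rw [eq_top_iff, ← S.gen, Subgroup.closure_le]
    rintro g ⟨r, hr, t, rfl⟩
    exact hall r hr t
  | cons s l ih =>
    intro hx known hk h
    simp only [okAll, Bool.and_eq_true] at h
    refine ih (fun s' hs' => hx s' (List.mem_cons_of_mem _ hs')) _ ?_ h.2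
    intro r hr
    rcases List.mem_cons.1 hr with rfl | hr
    · exact step_mem S hG hk (hx s List.mem_cons_self) h.1
    · exact hk r hr

/-- The group presented by Steinberg's generators x̄_r(t) subject only to (R1) (additivity) and (R2) (the commutator formula) is perfect, for each of the types G₂, B₂, D₄, F₄, E₆, E₇, E₈ over any field (for types B₂ and G₂ the field must have more than two elements — the cases where the Chevalley group is not simple are set aside). -/
theorem result {K : Type*} [Field K] (D : Cfsg.Lie.ChevalleyDatum) (hD : D ∈ [Cfsg.Lie.chevG2, Cfsg.Lie.chevB2, Cfsg.Lie.chevD4, Cfsg.Lie.chevF4, Cfsg.Lie.chevE6, Cfsg.Lie.chevE7, Cfsg.Lie.chevE8]) (hK : D ∈ [Cfsg.Lie.chevB2, Cfsg.Lie.chevG2] → ∃ x : K, x ≠ 0 ∧ x ≠ 1) :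
    commutator (D.SteinbergCover K) = ⊤ := by
  let C := ChevalleyAll.cert D hD
  have hG := StGen.gen_all hD
  let S := StGroup.sysCover C K
  have run : ∀ L : List Step, okAll D [] L = true →
      ((∃ x : K, x ≠ 0 ∧ x ≠ 1) ∨ ∀ r i, Step.H r i ∉ L) → commutator (D.SteinbergCover K) = ⊤ :=
    fun L hL hh => all_mem S hG L (fun s hs hH => by
      rcases hh with hh | hh
      · exact hh
      · obtain ⟨r, i, rfl⟩ := hH
        exact absurd hs (hh r i)) [] (by simp) hL
  simp only [List.mem_cons, List.not_mem_nil, or_false] at hD hK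
  rcases hD with rfl | rfl | rfl | rfl | rfl | rfl | rfl
  · exact run [.H 7 1, .C 6 1 11 0] (by decide +kernel) (Or.inl (hK (by simp)))
  · exact run [.H 5 1, .H 6 1, .C 4 7 2 1] (by decide +kernel) (Or.inl (hK (by simp)))
  · exact run [.C 18 6 22 0, .C 14 1 23 0, .C 13 3 22 0, .C 12 2 22 0] (by decide +kernel) (Or.inr fun r i => by simp)
  · exact run [.C 33 7 44 0, .C 27 8 40 0, .C 25 2 46 0, .C 24 1 47 0] (by decide +kernel) (Or.inr fun r i => by simp)
  · exact run [.C 56 16 66 0, .C 46 1 71 0, .C 42 5 69 0, .C 39 2 70 0, .C 37 3 69 0, .C 36 4 68 0] (by decide +kernel) (Or.inr fun r i => by simp)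
  · exact run [.C 93 1 125 0, .C 78 7 122 0, .C 73 2 124 0, .C 69 3 123 0, .C 66 4 122 0, .C 64 5 121 0, .C 63 6 120 0] (by decide +kernel) (Or.inr fun r i => by simp)
  · exact run [.C 162 14 233 0, .C 141 7 234 0, .C 135 6 234 0, .C 130 5 235 0, .C 126 4 236 0, .C 123 3 237 0, .C 121 2 238 0, .C 120 1 239 0] (by decide +kernel) (Or.inr fun r i => by simp)


end Cfsg.Agent.S2395
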