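import Cfsg.Statements.S2397
import Cfsg.Agent.Lib.StGroupTorus

set_option autoImplicit false
open Cfsg

namespace Cfsg.Agent.S2397

/-- Over a finite field the relators (R3) h̄_r(t₁) h̄_r(t₂) = h̄_r(t₁ t₂) are consequences of (R1) and (R2): for each of the types G₂, B₂, D₄, F₄, E₆, E₇, E₈ (for types B₂ and G₂ the field must have more than two elements — the cases where the Chevalley group is not simple are set aside) the group presented by (R1), (R2) is canonically isomorphic to the one presented by (R1)–(R3), by an isomorphism matching the generators x̄_r(t). -/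
theorem result {K : Type*} [Field K] [Finite K] (D : Cfsg.Lie.ChevalleyDatum) (hD : D ∈ [Cfsg.Lie.chevG2, Cfsg.Lie.chevB2, Cfsg.Lie.chevD4, Cfsg.Lie.chevF4, Cfsg.Lie.chevE6, Cfsg.Lie.chevE7, Cfsg.Lie.chevE8]) (hK : D ∈ [Cfsg.Lie.chevB2, Cfsg.Lie.chevG2] → ∃ x : K, x ≠ 0 ∧ x ≠ 1) :
    ∃ e : D.SteinbergCover K ≃* D.SteinbergGroup K, ∀ (r : ℕ) (t : K), e (D.scGen K r t) = D.stGen K r t := by
  let C := ChevalleyAll.cert D hD
  have hG := StGen.gen_all hD
  let S := StGroup.sysCover C K
  let f : D.SteinbergCover K →* D.SteinbergGroup K :=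
    PresentedGroup.toGroup (f := fun p => PresentedGroup.of p) fun g hg => by
      have : (FreeGroup.lift fun p : Fin D.nroots × K => (PresentedGroup.of p : D.SteinbergGroup K)) =
          PresentedGroup.mk _ := FreeGroup.ext_hom _ _ fun p => by rw [FreeGroup.lift_apply_of]; rfl
      rw [this]
      exact PresentedGroup.one_of_mem (StGroup.relsAB_subset K hg)
  let g : D.SteinbergGroup K →* D.SteinbergCover K :=
    PresentedGroup.toGroup (f := fun p => PresentedGroup.of p) fun w hw => by
      have : (FreeGroup.lift fun p : Fin D.nroots × K => (PresentedGroup.of p : D.SteinbergCover K)) =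
          PresentedGroup.mk _ := FreeGroup.ext_hom _ _ fun p => by rw [FreeGroup.lift_apply_of]; rfl
      rw [this]
      rcases hw with hw | ⟨r, t, u, hr, ht, hu, rfl⟩
      · exact PresentedGroup.one_of_mem hw
      · rw [map_mul, map_mul, map_inv, StGroupTorus.mk_stH_eq C K subset_rfl (StGroup.relsAB_subset K),
          StGroupTorus.mk_stH_eq C K subset_rfl (StGroup.relsAB_subset K),
          StGroupTorus.mk_stH_eq C K subset_rfl (StGroup.relsAB_subset K),
          StTorus.hR_mul S hG (StGroupTorus.hMul_cover C K hG) hr t u ht hu, mul_inv_cancel]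
  refine ⟨MonoidHom.toMulEquiv f g (PresentedGroup.ext fun p => ?_) (PresentedGroup.ext fun p => ?_),
    fun r t => ?_⟩
  · simp [f, g]
  · simp [f, g]
  · show f (D.scGen K r t) = D.stGen K r t
    unfold Cfsg.Lie.ChevalleyDatum.scGen Cfsg.Lie.ChevalleyDatum.stGen Cfsg.Lie.ChevalleyDatum.stX
    split
    · exact PresentedGroup.toGroup.of _
    · simp

end Cfsg.Agent.S2397
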