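import Cfsg.Statements.S2398
import Cfsg.Agent.Lib.StUniversal
import Cfsg.Agent.Lib.StCentral

set_option autoImplicit false
open Cfsg

namespace Cfsg.Agent.S2398

/-- Universality of the group Δ presented by Steinberg's generators with relators (R1), (R2), over a field with more than four elements (types G₂, B₂, D₄, F₄, E₆, E₇, E₈): for every central extension `π₁ : E → G₁` (surjective, central kernel) and every homomorphism `σ : Δ → G₁` there is exactly one homomorphism `τ : Δ → E` with `π₁ ∘ τ = σ`. In particular every central extension of Δ splits; together with the fact that Δ maps onto the Chevalley group with central kernel, this makes Δ the universal central extension of the Chevalley group. -/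
theorem result {K : Type*} [Field K] (hK5 : ∃ s : Finset K, 4 < s.card) (D : Cfsg.Lie.ChevalleyDatum) (hD : D ∈ [Cfsg.Lie.chevG2, Cfsg.Lie.chevB2, Cfsg.Lie.chevD4, Cfsg.Lie.chevF4, Cfsg.Lie.chevE6, Cfsg.Lie.chevE7, Cfsg.Lie.chevE8])
    {G₁ E : Type*} [Group G₁] [Group E] (π₁ : E →* G₁) (hπ : Function.Surjective π₁) (hc : π₁.ker ≤ Subgroup.center E)
    (σ : D.SteinbergCover K →* G₁) : ∃! τ : D.SteinbergCover K →* E, π₁.comp τ = σ := by
  classical
  let C := ChevalleyAll.cert D hD
  let S := StGroup.sysCover C K
  have hperf : commutator (D.SteinbergCover K) = ⊤ := StUniversal.perfect_all S hD fun _ => by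
    obtain ⟨x, h0, h1, -⟩ := StClosedSmall.exists_scalar hK5
    exact ⟨-x, neg_ne_zero.2 h0, fun e => h1 (by rw [← neg_neg x, e, neg_add_cancel])⟩
  obtain ⟨T, -, hT⟩ := StUniversal.lift_big S hD hK5 (StUniversal.toBase π₁ σ)
    (StUniversal.toBase_surjective π₁ σ hperf hπ) (StUniversal.toBase_ker π₁ σ hc)
    (StUniversal.derived_perfect π₁ σ hperf hπ hc)
  obtain ⟨τ, hτ⟩ := StUniversal.exists_lift_of C K σ ⟨T, hT⟩
  exact ⟨τ, hτ, fun τ' h' => StUniversal.lift_unique hperf hc (h'.trans hτ.symm)⟩

end Cfsg.Agent.S2398
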