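import Cfsg.Statements.S2399
import Cfsg.Agent.Lib.StUniversal
import Cfsg.Agent.Lib.StCentral

set_option autoImplicit false
open scoped MatrixGroups
open Cfsg

namespace Cfsg.Agent.S2399

/-- Projective representations in the natural characteristic lift: for each of the types G₂, B₂, D₄, F₄, E₆, E₇, E₈ over any field `K` (for types B₂ and G₂ the field must have more than two elements — the cases where the Chevalley group is not simple are set aside), every homomorphism from the Chevalley group to `PGL_n(L) = GL_n(L)/Z`, `L` a field of the same characteristic as `K`, lifts uniquely to a homomorphism from the group Δ presented by (R1), (R2) to `GL_n(L)`, compatibly with the projection Δ → Chevalley group sending x̄_r(t) to x_r(t). -/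
theorem result {K : Type*} [Field K] (D : Cfsg.Lie.ChevalleyDatum) (hD : D ∈ [Cfsg.Lie.chevG2, Cfsg.Lie.chevB2, Cfsg.Lie.chevD4, Cfsg.Lie.chevF4, Cfsg.Lie.chevE6, Cfsg.Lie.chevE7, Cfsg.Lie.chevE8]) (hK : D ∈ [Cfsg.Lie.chevB2, Cfsg.Lie.chevG2] → ∃ x : K, x ≠ 0 ∧ x ≠ 1)
    (θ : D.SteinbergCover K →* ↥(D.group K))
    (hθ : ∀ (r : ℕ) (t : K), r < D.nroots → ((θ (D.scGen K r t) : GL D.Idx K) : Matrix D.Idx D.Idx K) = D.x K r t)
    {L : Type*} [Field L] (hL : ringChar L = ringChar K) {n : ℕ}
    (φ : ↥(D.group K) →* GL (Fin n) L ⧸ Subgroup.center (GL (Fin n) L)) :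
    ∃! ψ : D.SteinbergCover K →* GL (Fin n) L, (QuotientGroup.mk' (Subgroup.center (GL (Fin n) L))).comp ψ = φ.comp θ := by
  classical
  let C := ChevalleyAll.cert D hD
  let S := StGroup.sysCover C K
  set π₁ := QuotientGroup.mk' (Subgroup.center (GL (Fin n) L))
  set σ := φ.comp θ
  have hs : Function.Surjective π₁ := QuotientGroup.mk'_surjective _
  have hc : π₁.ker ≤ Subgroup.center (GL (Fin n) L) := (QuotientGroup.ker_mk' _).le
  have hperf : commutator (D.SteinbergCover K) = ⊤ := StUniversal.perfect_all S hD hK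
  have hG := StGen.gen_all hD
  suffices hT : ∃ T : StBasic.Sys C K (StUniversal.derivedPullback π₁ σ), ∀ r, r < D.nroots → ∀ t : K,
      StUniversal.toBase π₁ σ (T.x r t) = S.x r t by
    obtain ⟨τ, hτ⟩ := StUniversal.exists_lift_of C K σ hT
    exact ⟨τ, hτ, fun τ' h' => StUniversal.lift_unique hperf hc (h'.trans hτ.symm)⟩
  rcases finite_or_infinite K with hfin | hinf
  · have := StCentral.finite C K subset_rfl (StGroup.relsAB_subset K) hG
    have hfinΓ := StUniversal.derived_finite π₁ σ hperf hs hc
    have hp : (ringChar K).Prime := CharP.char_is_prime K (ringChar K)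
    haveI := Fact.mk hp
    haveI : CharP L (ringChar K) := hL ▸ ringChar.charP L
    have htor : ∀ z : StUniversal.derivedPullback π₁ σ, StUniversal.toBase π₁ σ z = 1 → z ^ ringChar K = 1 →
        z = 1 := by
      intro z hz hzp
      have h2 : StUniversal.toExt π₁ σ z ∈ Subgroup.center (GL (Fin n) L) := hc (by
        rw [MonoidHom.mem_ker, StUniversal.toExt_spec, hz, map_one])
      have h3 : StUniversal.toExt π₁ σ z = 1 := by
        rcases isEmpty_or_nonempty (Fin n) with hn | hn
        · exact Subsingleton.elim _ _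
        generalize hg0 : StUniversal.toExt π₁ σ z = g0 at h2
        obtain ⟨c, hc'⟩ := (SetLike.ext_iff.1 Matrix.GeneralLinearGroup.center_eq_range_scalar g0).1 h2
        subst hg0
        have h4 : Matrix.GeneralLinearGroup.scalar (Fin n) (c ^ ringChar K) = 1 := by
          rw [map_pow, hc', ← map_pow, hzp, map_one]
        have h5 : ((c : L)) ^ ringChar K = 1 := by
          have := congrArg (fun g : GL (Fin n) L => (g : Matrix (Fin n) (Fin n) L) hn.some hn.some) h4
          simpa [Matrix.diagonal_pow, Matrix.diagonal_apply_eq] using this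
        have h6 : ((c : L) - 1) ^ ringChar K = 0 := by rw [sub_pow_char, h5, one_pow, sub_self]
        rw [← hc', show c = 1 from Units.ext (sub_eq_zero.1 (eq_zero_of_pow_eq_zero h6)), map_one]
      refine Subtype.ext (Subtype.ext (Prod.ext ?_ ?_))
      · exact hz
      · exact h3
    have hdiv : ∀ z : StUniversal.derivedPullback π₁ σ, StUniversal.toBase π₁ σ z = 1 →
        ∃ w, StUniversal.toBase π₁ σ w = 1 ∧ w ^ ringChar K = z := by
      intro z hz
      let f : (StUniversal.toBase π₁ σ).ker → (StUniversal.toBase π₁ σ).ker := fun w => w ^ ringChar K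
      have hinj : Function.Injective f := fun a b h => by
        have hab : Commute (a : StUniversal.derivedPullback π₁ σ) (b : StUniversal.derivedPullback π₁ σ) :=
          StemBasic.ker_comm (StUniversal.toBase_ker π₁ σ hc) b.2 _
        refine Subtype.ext (mul_inv_eq_one.1 (htor _ ?_ ?_))
        · rw [map_mul, map_inv, MonoidHom.mem_ker.1 a.2, MonoidHom.mem_ker.1 b.2, mul_inv_cancel]
        · rw [hab.inv_right.mul_pow, inv_pow, mul_inv_eq_one]
          exact congrArg Subtype.val h
      obtain ⟨w, hw⟩ := Finite.injective_iff_surjective.1 hinj ⟨z, hz⟩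
      exact ⟨w, w.2, congrArg Subtype.val hw⟩
    obtain ⟨T, -, hT⟩ := StPrimeTo.lift_prime (S := S) (StUniversal.toBase_surjective π₁ σ hperf hs)
      (StUniversal.toBase_ker π₁ σ hc) hG (ringChar.Nat.cast_ringChar (R := K)) htor hdiv
      (StUniversal.derived_perfect π₁ σ hperf hs hc ▸ le_top)
    exact ⟨T, hT⟩
  · obtain ⟨s, hs5⟩ := Infinite.exists_subset_card_eq K 5
    obtain ⟨T, -, hT⟩ := StUniversal.lift_big S hD ⟨s, by omega⟩ (StUniversal.toBase π₁ σ)
      (StUniversal.toBase_surjective π₁ σ hperf hs) (StUniversal.toBase_ker π₁ σ hc)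
      (StUniversal.derived_perfect π₁ σ hperf hs hc)
    exact ⟨T, hT⟩

end Cfsg.Agent.S2399
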