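import Cfsg.Statements.S2400
import Cfsg.Agent.Lib.StMultiplier
import Cfsg.Agent.Lib.StThreeB2
import Cfsg.Agent.Lib.StThreeD4

set_option autoImplicit false
open Cfsg

namespace Cfsg.Agent.S2400

/-- Over a finite field `K`, the group presented by Steinberg's relators (R1)–(R3) (the universal Chevalley group) of type E₆ or E₇, or of type B₂ or D₄ with `K` of more than two elements, has trivial Schur multiplier: every finite stem extension of it is an isomorphism (Schur multiplier described through stem extensions as in the definitions). Types G₂, F₄ and E₈ are not covered here. -/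
theorem result {K : Type*} [Field K] [Fintype K] (e : Cfsg.Lie.ChevalleyDatum × ℕ)
    (he : e ∈ [(Cfsg.Lie.chevE6, 0), (Cfsg.Lie.chevE7, 0), (Cfsg.Lie.chevB2, 2), (Cfsg.Lie.chevD4, 2)]) (hK : Fintype.card K ≠ e.2) :
    Cfsg.HasCyclicSchurMultiplier (e.1.SteinbergGroup K) 1 := by
  classical
  simp only [List.mem_cons, List.not_mem_nil, or_false] at he
  have hcard : ∀ n, n = 2 → Fintype.card K ≠ n → 5 ≤ Fintype.card K ∨ Fintype.card K = 4 ∨ Fintype.card K = 3 := by
    intro n hn hne
    have := Fintype.one_lt_card (α := K)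
    omega
  have hks : ∀ k ∈ [1, 2], k ∈ [1, 2, 3] := by decide
  rcases he with rfl | rfl | rfl | rfl
  · exact StMultiplier.st_trivial ChevalleyDataE6.cert K StGen.gen_E6 (StDataADE.data_E6 _) StDataADE.wit_E6
  · exact StMultiplier.st_trivial ChevalleyDataE7.cert K StGen.gen_E7 (StDataADE.data_E7 _) StDataADE.wit_E7
  · let C := ChevalleyDataB2.cert
    have hfast := ChevalleyDataB2.fast
    refine StMultSmall.st_trivial C K StGen.gen_B2 ?_
    rcases hcard 2 rfl hK with h | h | h
    · exact StMultSmall.liftsAll_big C K StGen.gen_B2 hfast StSepCases.pairs_B2 StSepCases.scal_B2 hks h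
    · exact StMultSmall.liftsAll_four C K StGen.gen_B2 hfast StSepCases.pairs_B2 StSepCases.self_B2 h
    · obtain ⟨h3, h2, hpr⟩ := StMultSmall.three_data K h
      exact fun _ _ π hπ => StThreeB2.lift_B2 hπ.1 hπ.2.1 StGen.gen_B2 hfast h3 h2 StThreeB2.chk_B2 (by decide)
        (by decide) hpr (StMultSmall.torus_comm C K StGen.gen_B2 hπ.2.1) hπ.2.2
  · let C := ChevalleyDataD4.cert
    have hfast := ChevalleyDataD4.fast
    refine StMultSmall.st_trivial C K StGen.gen_D4 ?_
    rcases hcard 2 rfl hK with h | h | h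
    · exact StMultSmall.liftsAll_big C K StGen.gen_D4 hfast StSepCases.pairs_D4 StSepCases.scal_D4 hks h
    · exact StMultSmall.liftsAll_four C K StGen.gen_D4 hfast StSepCases.pairs_D4 StSepCases.self_D4 h
    · obtain ⟨h3, h2, hpr⟩ := StMultSmall.three_data K h
      exact fun _ _ π hπ => StClosedADE.lift_sys (StGroup.sysSt C K) π hπ.1 hπ.2.1
        (StThreeD4.commAll_three (StGroup.sysSt C K) π hπ.1 hπ.2.1 StGen.gen_D4 ChevalleyDataD4.rows hfast
          StThreeD4.swap_D4 h3 h2 hpr)
        StGen.gen_D4 (StDataADE.data_D4 C) hπ.2.2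

end Cfsg.Agent.S2400
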