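import Cfsg.Statements.S2403
import Cfsg.Agent.Lib.PSLSimple

set_option autoImplicit false
open Cfsg

namespace Cfsg.Agent.S2403

open Matrix

variable {K : Type*} [Field K] {n : ℕ}

theorem mul_transvection_eq (W : Matrix (Fin (n + 1)) (Fin (n + 1)) K) (i j : Fin (n + 1)) (c : K) (a b : Fin (n + 1)) :
    (W * Matrix.transvection i j c) a b = W a b + if b = j then W a i * c else 0 := by
  split_ifs with h
  · subst h
    rw [Matrix.mul_transvection_apply_same]
    ring
  · rw [Matrix.mul_transvection_apply_of_ne _ _ _ _ h, add_zero]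

theorem transvection_mul_eq (W : Matrix (Fin (n + 1)) (Fin (n + 1)) K) (i j : Fin (n + 1)) (c : K) (a b : Fin (n + 1)) :
    (Matrix.transvection i j c * W) a b = W a b + if a = i then c * W j b else 0 := by
  split_ifs with h
  · subst h
    rw [Matrix.transvection_mul_apply_same]
  · rw [Matrix.transvection_mul_apply_of_ne _ _ _ _ h, add_zero]


/-- Explicit two-element generation of `PSL_{n+1}(K)` over the fields with two or three elements: with `x = 1 + E₁₂` and `w` the monomial matrix with entries `1` in positions `(i, i+1)` and `(−1)^n` in position `(n+1, 1)`, the elements `x` and `w` generate `SL_{n+1}(K)` modulo its centre. -/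
theorem result {K : Type*} [Field K] [Fintype K] (hK : Fintype.card K ≤ 3) (n : ℕ) (hn : 1 ≤ n)
    (x w : Matrix.SpecialLinearGroup (Fin (n + 1)) K)
    (hx : (x : Matrix (Fin (n + 1)) (Fin (n + 1)) K) = Matrix.transvection (0 : Fin (n + 1)) (1 : Fin (n + 1)) 1)
    (hw : (w : Matrix (Fin (n + 1)) (Fin (n + 1)) K) =
      Matrix.of (fun i j => if j.val = i.val + 1 then 1 else if i.val = n ∧ j.val = 0 then (-1) ^ n else 0)) :
    Subgroup.closure ({x, w} : Set (Matrix.SpecialLinearGroup (Fin (n + 1)) K)) ⊔
      Subgroup.center (Matrix.SpecialLinearGroup (Fin (n + 1)) K) = ⊤ := by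
  classical
  set G := Subgroup.closure ({x, w} : Set (Matrix.SpecialLinearGroup (Fin (n + 1)) K)) with hG
  suffices hT : ∀ (i j : Fin (n + 1)) (hij : i ≠ j) (c : K),
      Matrix.SpecialLinearGroup.transvection hij c ∈ G by
    have : Nontrivial (Fin (n + 1)) := Fin.nontrivial_iff_two_le.2 (by omega)
    rw [Cfsg.Agent.PSLSimple.eq_top_of_transvection_mem G hT, top_sup_eq]
  have hwG : w ∈ G := Subgroup.subset_closure (Or.inr rfl)
  have hxG : x ∈ G := Subgroup.subset_closure (Or.inl rfl)
  have h01 : (0 : Fin (n + 1)) ≠ 1 := by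
    intro h
    have := congrArg Fin.val h
    simp [Nat.mod_eq_of_lt (show 1 < n + 1 by omega)] at this
  -- scalars
  have hsc : ∀ c : K, c = 0 ∨ c = 1 ∨ c = -1 := by
    intro c
    have h1 : 1 < Fintype.card K := Fintype.one_lt_card
    have hc := FiniteField.pow_card c
    rcases (show Fintype.card K = 2 ∨ Fintype.card K = 3 by omega) with h | h
    · rw [h] at hc
      have : c * (c - 1) = 0 := by linear_combination hc
      rcases mul_eq_zero.1 this with h' | h'
      · exact Or.inl h'
      · exact Or.inr (Or.inl (sub_eq_zero.1 h'))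
    · rw [h] at hc
      have : c * ((c - 1) * (c + 1)) = 0 := by linear_combination hc
      rcases mul_eq_zero.1 this with h' | h'
      · exact Or.inl h'
      rcases mul_eq_zero.1 h' with h' | h'
      · exact Or.inr (Or.inl (sub_eq_zero.1 h'))
      · exact Or.inr (Or.inr (eq_neg_of_add_eq_zero_left h'))
  have hall : ∀ (i j : Fin (n + 1)) (hij : i ≠ j),
      Matrix.SpecialLinearGroup.transvection hij (1 : K) ∈ G → ∀ c : K, Matrix.SpecialLinearGroup.transvection hij c ∈ G := by
    intro i j hij h c
    rcases hsc c with rfl | rfl | rfl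
    · have : Matrix.SpecialLinearGroup.transvection hij (0 : K) = 1 := Subtype.ext (by simp [Matrix.SpecialLinearGroup.transvection_coe])
      rw [this]
      exact G.one_mem
    · exact h
    · rw [← Matrix.SpecialLinearGroup.transvection_inv]
      exact G.inv_mem h
  have hwe : ∀ a b : Fin (n + 1), (w : Matrix (Fin (n + 1)) (Fin (n + 1)) K) a b =
      if b.val = a.val + 1 then 1 else if a.val = n ∧ b.val = 0 then (-1) ^ n else 0 := fun a b => by
    rw [hw]
    rfl
  have hrel1 : ∀ (i j i' j' : Fin (n + 1)) (h : i ≠ j) (h' : i' ≠ j'), i'.val = i.val + 1 → j'.val = j.val + 1 →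
      w * Matrix.SpecialLinearGroup.transvection h' (1 : K) =
        Matrix.SpecialLinearGroup.transvection h (1 : K) * w := by
    intro i j i' j' h h' hi hj
    apply Subtype.ext
    change (w : Matrix (Fin (n + 1)) (Fin (n + 1)) K) * Matrix.transvection _ _ 1 =
      Matrix.transvection _ _ 1 * (w : Matrix (Fin (n + 1)) (Fin (n + 1)) K)
    ext a b
    rw [mul_transvection_eq, transvection_mul_eq]
    congr 1
    simp only [mul_one, one_mul, hwe, Fin.ext_iff]
    have := a.isLt
    have := b.isLt
    have := i'.isLt
    have := j'.isLt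
    split_ifs <;> first | rfl | omega
  have hrel2 : ∀ (z o l : Fin (n + 1)) (h : z ≠ o) (h' : l ≠ z), z.val = 0 → o.val = 1 → l.val = n →
      w * Matrix.SpecialLinearGroup.transvection h ((-1 : K) ^ n) =
        Matrix.SpecialLinearGroup.transvection h' (1 : K) * w := by
    intro z o l h h' hz ho hl
    apply Subtype.ext
    change (w : Matrix (Fin (n + 1)) (Fin (n + 1)) K) * Matrix.transvection _ _ _ =
      Matrix.transvection _ _ 1 * (w : Matrix (Fin (n + 1)) (Fin (n + 1)) K)
    ext a b
    rw [mul_transvection_eq, transvection_mul_eq]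
    congr 1
    simp only [one_mul, hwe, Fin.ext_iff]
    have := a.isLt
    have := b.isLt
    split_ifs <;> first | rfl | omega | simp | simp [← mul_pow]
  -- shifting
  have hshift : ∀ (i : ℕ) (hi : i + 1 < n + 1) (hij : (⟨i, by omega⟩ : Fin (n + 1)) ≠ ⟨i + 1, hi⟩),
      Matrix.SpecialLinearGroup.transvection hij (1 : K) ∈ G := by
    intro i
    induction i with
    | zero =>
      intro hi hij
      have : Matrix.SpecialLinearGroup.transvection hij (1 : K) = x := by
        apply Subtype.ext
        rw [hx, Matrix.SpecialLinearGroup.transvection_coe]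
        have e : (⟨0 + 1, hi⟩ : Fin (n + 1)) = 1 := Fin.ext (by simp [Nat.mod_eq_of_lt (show 1 < n + 1 by omega)])
        rw [e]
        rfl
      rw [this]
      exact hxG
    | succ i ih =>
      intro hi hij
      have hij' : (⟨i, by omega⟩ : Fin (n + 1)) ≠ ⟨i + 1, by omega⟩ := by simp
      have hm := ih (by omega) hij'
      have hrel := hrel1 _ _ _ _ hij' hij (by simp) (by simp)
      have : Matrix.SpecialLinearGroup.transvection hij (1 : K) =
          w⁻¹ * Matrix.SpecialLinearGroup.transvection hij' (1 : K) * w := by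
        rw [mul_assoc, ← hrel, inv_mul_cancel_left]
      rw [this]
      exact G.mul_mem (G.mul_mem (G.inv_mem hwG) hm) hwG
  -- upper triangle
  have hup : ∀ (d : ℕ) (i j : Fin (n + 1)) (hij : i ≠ j), j.val = i.val + d + 1 →
      ∀ c : K, Matrix.SpecialLinearGroup.transvection hij c ∈ G := by
    intro d
    induction d with
    | zero =>
      intro i j hij hd
      obtain ⟨j, hj⟩ := j
      simp only [add_zero] at hd
      subst hd
      exact hall _ _ _ (hshift i.val hj hij)
    | succ d ih =>
      intro i j hij hd c
      have hjn := j.isLt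
      let k : Fin (n + 1) := ⟨i.val + 1, by omega⟩
      have hik : i ≠ k := by simp [k, Fin.ext_iff]
      have hkj : k ≠ j := by simp [k, Fin.ext_iff]; omega
      rw [← mul_one c, ← Cfsg.Agent.PSLSimple.commutator_transvection hik hkj hij, commutatorElement_def]
      have h1 := hall i k hik (hshift i.val k.isLt hik) c
      have h2 := ih k j hkj (by simp [k]; omega) 1
      exact G.mul_mem (G.mul_mem (G.mul_mem h1 h2) (G.inv_mem h1)) (G.inv_mem h2)
  have hlast : Fin.last n ≠ 0 := by
    intro h
    have := congrArg Fin.val h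
    simp at this
    omega
  have hwrap : ∀ c : K, Matrix.SpecialLinearGroup.transvection hlast c ∈ G := by
    apply hall
    have hrel := hrel2 0 1 (Fin.last n) h01 hlast (by simp)
      (by simp [Nat.mod_eq_of_lt (show 1 < n + 1 by omega)]) (by simp)
    have : Matrix.SpecialLinearGroup.transvection hlast (1 : K) =
        w * Matrix.SpecialLinearGroup.transvection h01 ((-1 : K) ^ n) * w⁻¹ := by
      rw [hrel, mul_inv_cancel_right]
    rw [this]
    refine G.mul_mem (G.mul_mem hwG (hup 0 0 1 h01 ?_ _)) (G.inv_mem hwG)
    simp [Nat.mod_eq_of_lt (show 1 < n + 1 by omega)]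
  have hcol : ∀ (i : Fin (n + 1)) (hi : i ≠ 0) (c : K), Matrix.SpecialLinearGroup.transvection hi c ∈ G := by
    intro i hi c
    by_cases hin : i = Fin.last n
    · subst hin
      exact hwrap c
    · have hlt : i.val < n := by
        rcases lt_or_eq_of_le (Nat.lt_succ_iff.1 i.isLt) with h | h
        · exact h
        · exact absurd (Fin.ext h) hin
      rw [← mul_one c, ← Cfsg.Agent.PSLSimple.commutator_transvection hin hlast hi, commutatorElement_def]
      have h1 := hup (n - i.val - 1) i (Fin.last n) hin (by simp; omega) c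
      have h2 := hwrap 1
      exact G.mul_mem (G.mul_mem (G.mul_mem h1 h2) (G.inv_mem h1)) (G.inv_mem h2)
  intro i j hij c
  rcases lt_or_gt_of_ne hij with h | h
  · exact hup (j.val - i.val - 1) i j hij (by have := Fin.lt_def.1 h; omega) c
  · by_cases hj : j = 0
    · subst hj
      exact hcol i hij c
    · have hi : i ≠ 0 := fun e => by
        subst e
        exact absurd h (Fin.not_lt_zero j)
      rw [← mul_one c, ← Cfsg.Agent.PSLSimple.commutator_transvection hi (Ne.symm hj) hij, commutatorElement_def]
      have hjpos : 0 < j.val := Nat.pos_of_ne_zero fun e => hj (Fin.ext e)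
      have h1 := hcol i hi c
      have h2 := hup (j.val - 1) 0 j (Ne.symm hj) (by simp; omega) 1
      exact G.mul_mem (G.mul_mem (G.mul_mem h1 h2) (G.inv_mem h1)) (G.inv_mem h2)

end Cfsg.Agent.S2403
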