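import Cfsg.Statements.S2402
import Cfsg.Agent.S2403

set_option autoImplicit false
open Cfsg

namespace Cfsg.Agent.S2402

open Matrix Cfsg.Agent.S2403

variable {K : Type*} [Field K] {n : ℕ}

theorem eq_top_of_first (hn : 1 ≤ n) (w : Matrix.SpecialLinearGroup (Fin (n + 1)) K)
    (hw : (w : Matrix (Fin (n + 1)) (Fin (n + 1)) K) =
      Matrix.of (fun i j => if j.val = i.val + 1 then 1 else if i.val = n ∧ j.val = 0 then (-1) ^ n else 0))
    (G : Subgroup (Matrix.SpecialLinearGroup (Fin (n + 1)) K)) (hwG : w ∈ G)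
    (h01 : (0 : Fin (n + 1)) ≠ 1)
    (hfirst : ∀ c : K, Matrix.SpecialLinearGroup.transvection h01 c ∈ G) : G = ⊤ := by
  classical
  have : Nontrivial (Fin (n + 1)) := Fin.nontrivial_iff_two_le.2 (by omega)
  refine Cfsg.Agent.PSLSimple.eq_top_of_transvection_mem G ?_
  have hwe : ∀ a b : Fin (n + 1), (w : Matrix (Fin (n + 1)) (Fin (n + 1)) K) a b =
      if b.val = a.val + 1 then 1 else if a.val = n ∧ b.val = 0 then (-1) ^ n else 0 := fun a b => by
    rw [hw]
    rfl
  have hrel1 : ∀ (i j i' j' : Fin (n + 1)) (h : i ≠ j) (h' : i' ≠ j'), i'.val = i.val + 1 → j'.val = j.val + 1 →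
      ∀ c : K, w * Matrix.SpecialLinearGroup.transvection h' c =
        Matrix.SpecialLinearGroup.transvection h c * w := by
    intro i j i' j' h h' hi hj c
    apply Subtype.ext
    change (w : Matrix (Fin (n + 1)) (Fin (n + 1)) K) * Matrix.transvection _ _ c =
      Matrix.transvection _ _ c * (w : Matrix (Fin (n + 1)) (Fin (n + 1)) K)
    ext a b
    rw [mul_transvection_eq, transvection_mul_eq]
    congr 1
    simp only [hwe, Fin.ext_iff]
    have := a.isLt
    have := b.isLt
    have := i'.isLt
    have := j'.isLt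
    split_ifs <;> first | rfl | omega | simp
  have hrel2 : ∀ (z o l : Fin (n + 1)) (h : z ≠ o) (h' : l ≠ z), z.val = 0 → o.val = 1 → l.val = n →
      ∀ c : K, w * Matrix.SpecialLinearGroup.transvection h ((-1 : K) ^ n * c) =
        Matrix.SpecialLinearGroup.transvection h' c * w := by
    intro z o l h h' hz ho hl c
    apply Subtype.ext
    change (w : Matrix (Fin (n + 1)) (Fin (n + 1)) K) * Matrix.transvection _ _ _ =
      Matrix.transvection _ _ c * (w : Matrix (Fin (n + 1)) (Fin (n + 1)) K)
    ext a b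
    rw [mul_transvection_eq, transvection_mul_eq]
    congr 1
    simp only [hwe, Fin.ext_iff]
    have := a.isLt
    have := b.isLt
    split_ifs <;> first | rfl | omega | (rw [← mul_assoc, ← mul_pow, neg_one_mul, neg_neg, one_pow, one_mul, mul_one]; done) | (rw [← mul_assoc, ← mul_pow, neg_one_mul, neg_neg, one_pow, one_mul, mul_one]) | simp
  -- shifting
  have hshift : ∀ (i : ℕ) (hi : i + 1 < n + 1) (hij : (⟨i, by omega⟩ : Fin (n + 1)) ≠ ⟨i + 1, hi⟩)
      (c : K), Matrix.SpecialLinearGroup.transvection hij c ∈ G := by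
    intro i
    induction i with
    | zero =>
      intro hi hij c
      have hone : (1 : Fin (n + 1)) = ⟨0 + 1, hi⟩ :=
        Fin.ext (by simp [Nat.mod_eq_of_lt (show 1 < n + 1 by omega)])
      have h0 := hfirst c
      have : Matrix.SpecialLinearGroup.transvection hij c =
          Matrix.SpecialLinearGroup.transvection h01 c := by
        apply Subtype.ext
        rw [Matrix.SpecialLinearGroup.transvection_coe, Matrix.SpecialLinearGroup.transvection_coe,
          hone]
        rfl
      rw [this]
      exact h0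
    | succ i ih =>
      intro hi hij c
      have hij' : (⟨i, by omega⟩ : Fin (n + 1)) ≠ ⟨i + 1, by omega⟩ := by simp
      have hm := ih (by omega) hij' c
      have hrel := hrel1 _ _ _ _ hij' hij (by simp) (by simp) c
      have : Matrix.SpecialLinearGroup.transvection hij c =
          w⁻¹ * Matrix.SpecialLinearGroup.transvection hij' c * w := by
        rw [mul_assoc, ← hrel, inv_mul_cancel_left]
      rw [this]
      exact G.mul_mem (G.mul_mem (G.inv_mem hwG) hm) hwG
  -- upper triangle
  have hup : ∀ (d : ℕ) (i j : Fin (n + 1)) (hij : i ≠ j), j.val = i.val + d + 1 →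
      ∀ c : K, Matrix.SpecialLinearGroup.transvection hij c ∈ G := by
    intro d
    induction d with
    | zero =>
      intro i j hij hd
      obtain ⟨j, hj⟩ := j
      simp only [add_zero] at hd
      subst hd
      exact hshift i.val hj hij
    | succ d ih =>
      intro i j hij hd c
      have hjn := j.isLt
      let k : Fin (n + 1) := ⟨i.val + 1, by omega⟩
      have hik : i ≠ k := by simp [k, Fin.ext_iff]
      have hkj : k ≠ j := by simp [k, Fin.ext_iff]; omega
      rw [← mul_one c, ← Cfsg.Agent.PSLSimple.commutator_transvection hik hkj hij, commutatorElement_def]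
      have h1 := hshift i.val k.isLt hik c
      have h2 := ih k j hkj (by simp [k]; omega) 1
      exact G.mul_mem (G.mul_mem (G.mul_mem h1 h2) (G.inv_mem h1)) (G.inv_mem h2)
  have hlast : Fin.last n ≠ 0 := by
    intro h
    have := congrArg Fin.val h
    simp at this
    omega
  have hwrap : ∀ c : K, Matrix.SpecialLinearGroup.transvection hlast c ∈ G := by
    intro c
    have hrel := hrel2 0 1 (Fin.last n) h01 hlast (by simp)
      (by simp [Nat.mod_eq_of_lt (show 1 < n + 1 by omega)]) (by simp) c
    have : Matrix.SpecialLinearGroup.transvection hlast c =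
        w * Matrix.SpecialLinearGroup.transvection h01 ((-1 : K) ^ n * c) * w⁻¹ := by
      rw [hrel, mul_inv_cancel_right]
    rw [this]
    refine G.mul_mem (G.mul_mem hwG (hup 0 0 1 h01 ?_ _)) (G.inv_mem hwG)
    simp [Nat.mod_eq_of_lt (show 1 < n + 1 by omega)]
  have hcol : ∀ (i : Fin (n + 1)) (hi : i ≠ 0) (c : K), Matrix.SpecialLinearGroup.transvection hi c ∈ G := by
    intro i hi c
    by_cases hin : i = Fin.last n
    · subst hin
      exact hwrap c
    · have hlt : i.val < n := by
        rcases lt_or_eq_of_le (Nat.lt_succ_iff.1 i.isLt) with h | h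
        · exact h
        · exact absurd (Fin.ext h) hin
      rw [← mul_one c, ← Cfsg.Agent.PSLSimple.commutator_transvection hin hlast hi, commutatorElement_def]
      have h1 := hup (n - i.val - 1) i (Fin.last n) hin (by simp; omega) c
      have h2 := hwrap 1
      exact G.mul_mem (G.mul_mem (G.mul_mem h1 h2) (G.inv_mem h1)) (G.inv_mem h2)
  intro i j hij c
  rcases lt_or_gt_of_ne hij with h | h
  · exact hup (j.val - i.val - 1) i j hij (by have := Fin.lt_def.1 h; omega) c
  · by_cases hj : j = 0
    · subst hj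
      exact hcol i hij c
    · have hi : i ≠ 0 := fun e => by
        subst e
        exact absurd h (Fin.not_lt_zero j)
      rw [← mul_one c, ← Cfsg.Agent.PSLSimple.commutator_transvection hi (Ne.symm hj) hij, commutatorElement_def]
      have hjpos : 0 < j.val := Nat.pos_of_ne_zero fun e => hj (Fin.ext e)
      have h1 := hcol i hi c
      have h2 := hup (j.val - 1) 0 j (Ne.symm hj) (by simp; omega) 1
      exact G.mul_mem (G.mul_mem (G.mul_mem h1 h2) (G.inv_mem h1)) (G.inv_mem h2)


theorem scalar_all [Fintype K] (k : Kˣ) (hk : ∀ u : Kˣ, u ∈ Subgroup.zpowers k) (S : AddSubgroup K)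
    (hmul : ∀ c ∈ S, (k : K) ^ 2 * c ∈ S) {c₀ : K} (h0 : c₀ ∈ S) (hc : c₀ ≠ 0) (x : K) :
    x ∈ S := by
  classical
  let M : AddSubgroup K :=
    { carrier := {a | ∀ c ∈ S, a * c ∈ S}
      zero_mem' := fun c _ => by rw [zero_mul]; exact S.zero_mem
      add_mem' := fun ha hb c hc => by rw [add_mul]; exact S.add_mem (ha c hc) (hb c hc)
      neg_mem' := fun ha c hc => by rw [neg_mul]; exact S.neg_mem (ha c hc) }
  have hpow : ∀ m : ℕ, ((k : K) ^ 2) ^ m ∈ M := by
    intro m
    induction m with
    | zero => intro c hc; rw [pow_zero, one_mul]; exact hc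
    | succ m ih => intro c hc; rw [pow_succ, mul_assoc]; exact ih _ (hmul c hc)
  have hsq : ∀ a : K, a ^ 2 ∈ M := by
    intro a
    by_cases ha : a = 0
    · rw [ha, zero_pow two_ne_zero]; exact M.zero_mem
    obtain ⟨m, hm⟩ := (mem_powers_iff_mem_zpowers).2 (hk (Units.mk0 a ha))
    have hm' : (k : K) ^ m = a := by
      have := congrArg Units.val hm
      simpa using this
    rw [← hm', ← pow_mul, mul_comm, pow_mul]
    exact hpow m
  have hall : ∀ a : K, a ∈ M := by
    intro a
    by_cases h2 : (2 : K) = 0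
    · have : CharP K 2 := CharTwo.of_one_ne_zero_of_two_eq_zero one_ne_zero h2
      obtain ⟨b, hb⟩ := FiniteField.isSquare_of_char_two (ringChar.eq K 2) a
      rw [hb, ← sq]; exact hsq b
    · have := M.sub_mem (M.sub_mem (hsq (a / 2 + 1)) (hsq (a / 2))) (hsq 1)
      rwa [show (a / 2 + 1) ^ 2 - (a / 2) ^ 2 - 1 ^ 2 = a by field_simp; ring] at this
  have := hall (x / c₀) c₀ h0
  rwa [div_mul_cancel₀ x hc] at this

theorem trans_add {i j : Fin (n + 1)} (h : i ≠ j) (a b : K) :
    Matrix.SpecialLinearGroup.transvection h (a + b) =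
      Matrix.SpecialLinearGroup.transvection h a * Matrix.SpecialLinearGroup.transvection h b := by
  apply Subtype.ext
  rw [Matrix.SpecialLinearGroup.coe_mul]
  exact (Matrix.transvection_mul_transvection_same _ _ h a b).symm

theorem diag_mul_transvection (d : Fin (n + 1) → K) {i j : Fin (n + 1)} (c : K) :
    Matrix.diagonal d * Matrix.transvection i j (c * d j) =
      Matrix.transvection i j (d i * c) * Matrix.diagonal d := by
  ext a b
  simp only [Matrix.transvection, Matrix.add_apply, Matrix.one_apply, Matrix.diagonal_mul,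
    Matrix.mul_diagonal, Matrix.single_apply]
  split_ifs with h1 h2 h3 <;> first
    | ring1
    | (obtain ⟨rfl, rfl⟩ := h2; subst h1; ring1)
    | (obtain ⟨rfl, rfl⟩ := h2; ring1)
    | (obtain ⟨rfl, rfl⟩ := h3; ring1)
    | (obtain ⟨rfl, rfl⟩ := h2; exact absurd h1 ‹_›)
    | (subst h1; ring1)

/-- Explicit two-element generation of `PSL_{n+1}(K)` for a finite field `K` with more than three elements: let `k` generate the multiplicative group of `K`, `h = diag(k, k⁻¹, 1, …, 1)`, `x = 1 + E₁₂` (the elementary transvection) and `w` the monomial matrix with entries `1` in positions `(i, i+1)` and `(−1)^n` in position `(n+1, 1)`. Then `h` and `x·w` generate `SL_{n+1}(K)` modulo its centre: the subgroup they generate together with the centre is everything. -/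
theorem result {K : Type*} [Field K] [Fintype K] (hK : 3 < Fintype.card K) (n : ℕ) (hn : 1 ≤ n)
    (k : Kˣ) (hk : ∀ u : Kˣ, u ∈ Subgroup.zpowers k)
    (h x w : Matrix.SpecialLinearGroup (Fin (n + 1)) K)
    (hh : (h : Matrix (Fin (n + 1)) (Fin (n + 1)) K) =
      Matrix.diagonal (fun i => if i.val = 0 then (k : K) else if i.val = 1 then ((k⁻¹ : Kˣ) : K) else 1))
    (hx : (x : Matrix (Fin (n + 1)) (Fin (n + 1)) K) = Matrix.transvection (0 : Fin (n + 1)) (1 : Fin (n + 1)) 1)
    (hw : (w : Matrix (Fin (n + 1)) (Fin (n + 1)) K) =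
      Matrix.of (fun i j => if j.val = i.val + 1 then 1 else if i.val = n ∧ j.val = 0 then (-1) ^ n else 0)) :
    Subgroup.closure ({h, x * w} : Set (Matrix.SpecialLinearGroup (Fin (n + 1)) K)) ⊔
      Subgroup.center (Matrix.SpecialLinearGroup (Fin (n + 1)) K) = ⊤ := by
  classical
  set G := Subgroup.closure ({h, x * w} : Set (Matrix.SpecialLinearGroup (Fin (n + 1)) K)) with hG
  suffices hH : G = ⊤ by rw [hH, top_sup_eq]
  have hv1 : (1 : Fin (n + 1)).val = 1 := by simp [Nat.mod_eq_of_lt (show 1 < n + 1 by omega)]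
  have h01 : (0 : Fin (n + 1)) ≠ 1 := fun e => by
    have := congrArg Fin.val e; rw [hv1] at this; simp at this
  have hhG : h ∈ G := Subgroup.subset_closure (Or.inl rfl)
  have hgG : x * w ∈ G := Subgroup.subset_closure (Or.inr rfl)
  have hxT : x = Matrix.SpecialLinearGroup.transvection h01 (1 : K) :=
    Subtype.ext (by rw [hx, Matrix.SpecialLinearGroup.transvection_coe]; rfl)
  let dh : Fin (n + 1) → K := fun i => if i.val = 0 then (k : K) else if i.val = 1 then ((k⁻¹ : Kˣ) : K) else 1
  let dD : Fin (n + 1) → K := fun i => dh ⟨(i.val + 1) % (n + 1), Nat.mod_lt _ (by omega)⟩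
  -- the shifted torus element
  set D := w * h * w⁻¹ with hD
  have hDcoe : (D : Matrix (Fin (n + 1)) (Fin (n + 1)) K) = Matrix.diagonal dD := by
    have e : Matrix.diagonal dD * (w : Matrix (Fin (n + 1)) (Fin (n + 1)) K) =
        (w : Matrix (Fin (n + 1)) (Fin (n + 1)) K) * Matrix.diagonal dh := by
      ext a b
      rw [Matrix.diagonal_mul, Matrix.mul_diagonal, hw]
      simp only [Matrix.of_apply]
      have := a.isLt
      have := b.isLt
      split_ifs with h1 h2
      · rw [mul_one, one_mul]
        have hb : b = ⟨(a.val + 1) % (n + 1), Nat.mod_lt _ (by omega)⟩ :=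
          Fin.ext (by simp only; rw [Nat.mod_eq_of_lt (by omega), h1])
        rw [hb]
      · rw [mul_comm]
        have hb : b = ⟨(a.val + 1) % (n + 1), Nat.mod_lt _ (by omega)⟩ :=
          Fin.ext (by simp only; rw [h2.1, Nat.mod_self, h2.2])
        rw [hb]
      · simp
    have hhd : (h : Matrix (Fin (n + 1)) (Fin (n + 1)) K) = Matrix.diagonal dh := hh
    rw [hD, Matrix.SpecialLinearGroup.coe_mul, Matrix.SpecialLinearGroup.coe_mul, hhd, ← e,
      mul_assoc, ← Matrix.SpecialLinearGroup.coe_mul, mul_inv_cancel, Matrix.SpecialLinearGroup.coe_one,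
      mul_one]
  set T := fun c : K => Matrix.SpecialLinearGroup.transvection h01 c with hT
  have hTh : ∀ c : K, h * T c * h⁻¹ = T ((k : K) ^ 2 * c) := by
    intro c
    rw [mul_inv_eq_iff_eq_mul]
    apply Subtype.ext
    simp only [hT, Matrix.SpecialLinearGroup.coe_mul, Matrix.SpecialLinearGroup.transvection_coe]
    have e := diag_mul_transvection dh (i := (0 : Fin (n + 1))) (j := 1) (c * (k : K))
    have hhd : (h : Matrix (Fin (n + 1)) (Fin (n + 1)) K) = Matrix.diagonal dh := hh
    rw [show dh 0 = (k : K) by simp [dh], show dh 1 = ((k⁻¹ : Kˣ) : K) by simp [dh, hv1, show n ≠ 0 by omega],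
      mul_assoc c, Units.mul_inv, mul_one] at e
    simp only [Matrix.transvection] at e
    rw [hhd, e]
    congr 2
    ring
  set r := dD 1 / dD 0 with hr
  have hd0 : dD 0 = ((k⁻¹ : Kˣ) : K) := by
    simp [dD, dh, Nat.mod_eq_of_lt (show 1 < n + 1 by omega)]
  have hd1 : dD 1 = (k : K) ∨ dD 1 = 1 := by
    by_cases hn1 : n = 1
    · left; simp [dD, dh, hv1, hn1]
    · right; simp [dD, dh, hv1, Nat.mod_eq_of_lt (show 1 + 1 < n + 1 by omega)]
  have hTD : ∀ c : K, T c * D = D * T (c * r) := by
    intro c
    apply Subtype.ext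
    simp only [hT, Matrix.SpecialLinearGroup.coe_mul, Matrix.SpecialLinearGroup.transvection_coe, hDcoe]
    have hne : dD 0 ≠ 0 := by rw [hd0]; exact Units.ne_zero _
    have e := diag_mul_transvection dD (i := (0 : Fin (n + 1))) (j := 1) (c / dD 0)
    rw [mul_div_cancel₀ c hne] at e
    simp only [Matrix.transvection] at e
    rw [← e]
    congr 2
    rw [hr]; ring
  have hord : orderOf k = Fintype.card K - 1 := by
    rw [orderOf_eq_card_of_forall_mem_zpowers hk, Nat.card_units, Nat.card_eq_fintype_card]
  have hk1 : (k : K) ≠ 1 := fun e => by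
    have : k = 1 := Units.ext e
    rw [this, orderOf_one] at hord; omega
  have hk2 : (k : K) ^ 2 ≠ 1 := fun e => by
    have : k ^ 2 = 1 := Units.ext (by simpa using e)
    have := Nat.le_of_dvd two_pos (orderOf_dvd_of_pow_eq_one this)
    omega
  have hrne : r - 1 ≠ 0 := by
    rw [hr, hd0, Units.val_inv_eq_inv_val, div_inv_eq_mul, sub_ne_zero]
    rcases hd1 with e | e <;> rw [e]
    · rw [← sq]; exact hk2
    · rw [one_mul]; exact hk1
  let S : AddSubgroup K :=
    { carrier := {c | T c ∈ G}
      zero_mem' := by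
        show T 0 ∈ G
        have : T (0 : K) = 1 := Subtype.ext (by simp [hT, Matrix.SpecialLinearGroup.transvection_coe])
        rw [this]; exact G.one_mem
      add_mem' := fun {a b} ha hb => by
        show T (a + b) ∈ G
        have : T (a + b) = T a * T b := trans_add h01 a b
        rw [this]; exact G.mul_mem ha hb
      neg_mem' := fun {a} ha => by
        show T (-a) ∈ G
        have : T (-a) = (T a)⁻¹ := (Matrix.SpecialLinearGroup.transvection_inv h01 a).symm
        rw [this]; exact G.inv_mem ha }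
  have hmul : ∀ c ∈ S, (k : K) ^ 2 * c ∈ S := fun c hc => by
    show T _ ∈ G
    rw [← hTh]; exact G.mul_mem (G.mul_mem hhG hc) (G.inv_mem hhG)
  set e := r - 1 with he
  have hy : D * T e ∈ G := by
    have h1 : (x * w) * h * (x * w)⁻¹ ∈ G := G.mul_mem (G.mul_mem hgG hhG) (G.inv_mem hgG)
    have h2 : (x * w) * h * (x * w)⁻¹ = D * T e := by
      have hTe : T e = T r * (T 1)⁻¹ := by
        rw [eq_mul_inv_iff_mul_eq]
        simp only [hT, ← trans_add, he]
        ring_nf
      calc (x * w) * h * (x * w)⁻¹ = x * D * x⁻¹ := by rw [hD]; group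
        _ = D * T e := by
          rw [hxT, show Matrix.SpecialLinearGroup.transvection h01 (1 : K) = T 1 from rfl, hTD,
            one_mul, hTe, mul_assoc]
    rwa [h2] at h1
  have hhD : h * D * h⁻¹ = D := by
    rw [mul_inv_eq_iff_eq_mul]
    apply Subtype.ext
    simp only [Matrix.SpecialLinearGroup.coe_mul, hDcoe, hh, Matrix.diagonal_mul_diagonal]
    congr 1
    funext i
    ring
  have hS0 : ((k : K) ^ 2 - 1) * e ∈ S := by
    show T _ ∈ G
    have h3 : (D * T e)⁻¹ * (h * (D * T e) * h⁻¹) = T (((k : K) ^ 2 - 1) * e) := by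
      have e1 : h * (D * T e) * h⁻¹ = D * T ((k : K) ^ 2 * e) := by
        calc h * (D * T e) * h⁻¹ = (h * D * h⁻¹) * (h * T e * h⁻¹) := by group
          _ = D * T ((k : K) ^ 2 * e) := by rw [hhD, hTh]
      rw [e1, _root_.mul_inv_rev, mul_assoc, inv_mul_cancel_left, inv_mul_eq_iff_eq_mul]
      simp only [hT, ← trans_add]
      ring_nf
    rw [← h3]
    exact G.mul_mem (G.inv_mem hy) (G.mul_mem (G.mul_mem hhG hy) (G.inv_mem hhG))
  have hall : ∀ c : K, T c ∈ G := fun c =>
    scalar_all k hk S hmul hS0 (mul_ne_zero (sub_ne_zero.2 hk2) hrne) c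
  refine eq_top_of_first hn w hw G ?_ h01 hall
  have := G.mul_mem (G.inv_mem (hall 1)) hgG
  rwa [show T 1 = x from hxT.symm, inv_mul_cancel_left] at this

end Cfsg.Agent.S2402
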