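import Cfsg.Statements.S2404
import Cfsg.Agent.Lib.ChevalleySemisimpleCount

set_option autoImplicit false
open Cfsg

namespace Cfsg.Agent.S2404

/-- Steinberg's count of semisimple classes for type E₆ when the finite simply connected group has trivial centre: over a field with `q` elements of characteristic `p` with `q ≢ 1 (mod 3)`, the simply connected group E₆(q) coincides with the Chevalley group, and the conjugacy classes of elements of order prime to `p` in the Chevalley group of type E₆ number exactly `q^6`. -/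
theorem result {F : Type*} [Field F] [Fintype F] {q : ℕ} (hq : Fintype.card F = q) (hq3 : q % 3 ≠ 1) (p : ℕ) [Fact p.Prime] [CharP F p] :
    Nat.card {c : ConjClasses ↥(Cfsg.Lie.chevE6.group F) // ∃ g : ↥(Cfsg.Lie.chevE6.group F), ConjClasses.mk g = c ∧ (orderOf g).Coprime p} = q ^ 6 := by
  rw [← hq] at hq3 ⊢
  have hD : Cfsg.Lie.chevE6 ∈ [Cfsg.Lie.chevG2, Cfsg.Lie.chevB2, Cfsg.Lie.chevD4, Cfsg.Lie.chevF4, Cfsg.Lie.chevE6,
      Cfsg.Lie.chevE7, Cfsg.Lie.chevE8] := by simp
  obtain ⟨C⟩ := Cfsg.Agent.ChevalleyAll.cert_nonempty _ hD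
  refine Cfsg.Agent.ChevalleySemisimpleCount.card_classes C (Cfsg.Agent.ChevBruhatInstance.sys _ hD F) p
    (Cfsg.Agent.ChevalleySemisimpleCount.torus_injective C Cfsg.Agent.ChevalleyTorusCard.smithE6 ?_)
  have := Fintype.card_pos (α := F)
  have h3 : ¬ 3 ∣ Fintype.card F - 1 := by omega
  rw [pow_one]
  exact Nat.Coprime.gcd_eq_one (Nat.Coprime.symm ((Nat.Prime.coprime_iff_not_dvd Nat.prime_three).2 h3))

end Cfsg.Agent.S2404
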