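import Cfsg.Statements.S2405
import Cfsg.Agent.Lib.TwoGenCert98
import Cfsg.Agent.Lib.ChevalleyAll
-- import your own Cfsg.Agent.* helpers here

set_option autoImplicit false
open Cfsg

namespace Cfsg.Agent.S2405

open Cfsg.Lie Cfsg.Agent.ChevalleyCore Cfsg.Agent.ChevalleyTorus Cfsg.Agent.TwoGenCert98

def primeB2 : List Step := [.word 0 5, .word 0 6, .comm 7 5 6 (2), .word 0 7, .word 0 4, .word 0 0]

def primeF4 : List Step := [.word 0 33, .word 0 27, .word 0 35, .word 0 38, .word 0 28, .word 0 36, .word 0 14, .comm 42 33 38 (2), .word 0 42, .word 0 30, .word 0 43, .word 0 31, .word 0 25, .word 0 24, .word 0 5, .word 0 17, .word 0 4, .word 0 16, .word 0 22]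

def primeE6 : List Step := [.word 0 56, .word 0 42, .word 0 47, .word 0 59, .word 0 52, .word 0 39, .word 0 37, .comm 63 56 52 (-1), .word 0 63, .word 0 43, .word 0 48, .word 0 60, .word 0 15, .word 0 29, .word 0 24, .word 0 12, .word 0 19, .word 0 32, .word 0 34, .refl 3 47, .word 0 46, .word 0 58, .word 0 51, .word 0 65, .word 0 44, .word 0 49]

def primeE7 : List Step := [.word 0 78, .word 0 95, .word 0 84, .word 0 104, .word 0 113, .word 0 88, .word 0 107, .word 0 76, .word 0 82, .refl 1 84, .word 0 75, .word 0 81, .word 0 98, .word 0 32, .word 0 52, .word 0 46, .word 0 29, .word 0 40, .word 0 20, .word 0 50, .word 0 44, .word 0 27, .word 0 93, .refl 0 95, .word 0 74, .word 0 80, .word 0 97, .word 0 86, .word 0 69, .word 0 66, .word 0 64, .word 0 63, .word 0 23, .word 0 51, .word 0 45, .word 0 28, .word 0 39, .word 0 56, .word 0 59, .word 0 61]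

def primeE8 : List Step := [.word 0 162, .word 0 135, .word 0 142, .word 0 165, .word 0 149, .word 0 176, .word 0 190, .word 0 153, .word 0 179, .word 0 192, .word 0 154, .word 0 180, .word 0 138, .word 0 145, .word 0 168, .word 0 77, .refl 0 165, .word 0 137, .word 0 144, .word 0 167, .word 0 151, .word 0 130, .word 0 126, .word 0 123, .word 0 121, .word 0 120, .word 0 66, .word 0 103, .word 0 96, .word 0 73, .word 0 89, .word 0 62, .word 0 102, .word 0 95, .word 0 72, .word 0 88, .word 0 109, .word 0 113, .word 0 116, .word 0 118, .refl 3 142, .word 0 141, .word 0 164, .word 0 148, .word 0 175, .word 0 189, .word 0 208, .word 0 195, .word 0 211, .word 0 197, .word 0 212, .word 0 198, .word 0 157, .word 0 182, .word 0 139, .word 0 146]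

def bigAG2 : List Step := [.word 0 6, .word 0 1, .word 0 0, .word 0 5]

def bigBG2 : List Step := [.word 0 6, .word 0 4, .word 0 1, .word 0 2, .word 0 0, .word 0 3]

def bigAB2 : List Step := [.word 0 4, .word 0 0, .word 0 3]

def bigBB2 : List Step := [.word 0 4, .word 0 2, .word 0 0, .word 0 1]

def bigAD4 : List Step := [.word 0 18, .word 0 14, .word 0 22, .word 0 5, .refl 1 18, .word 0 19, .word 0 23, .word 0 17, .word 0 4]

def bigBD4 : List Step := [.word 0 18, .word 0 7, .word 0 14, .word 0 11, .word 0 22, .word 0 20, .word 0 5, .word 0 16, .refl 1 7, .word 0 10, .word 0 21, .word 0 15]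

def bigAF4 : List Step := [.word 0 25, .word 0 24, .word 0 5, .word 0 17, .word 0 4, .word 0 16, .word 0 22, .refl 3 25, .word 0 26, .word 0 6, .word 0 2, .word 0 1, .word 0 0, .word 0 15, .word 0 21, .word 0 41, .word 0 45, .word 0 46]

def bigBF4 : List Step := [.word 0 25, .word 0 24, .word 0 5, .word 0 17, .word 0 4, .word 0 16, .word 0 22, .refl 2 8, .word 0 9, .word 0 19, .word 0 11, .word 0 33, .word 0 27, .word 0 35, .word 0 38, .word 0 28, .word 0 36, .word 0 14]

def bigAE6 : List Step := [.word 0 56, .word 0 42, .word 0 47, .word 0 59, .word 0 52, .word 0 39, .word 0 37, .word 0 36, .comm 63 56 52 (-1)]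

def bigBE6 : List Step := [.word 0 56, .word 0 42, .word 0 47, .word 0 59, .word 0 52, .word 0 39, .word 0 37, .comm 63 56 52 (-1), .word 0 63, .word 0 43, .word 0 48, .word 0 60, .word 0 15, .word 0 29, .word 0 24, .word 0 12, .word 0 19, .word 0 32, .word 0 34, .refl 2 3, .word 0 6, .word 0 27, .word 0 22, .word 0 46, .word 0 58, .word 0 51, .word 0 65, .word 0 44, .word 0 49]

def bigAE7 : List Step := [.word 0 93, .word 0 73, .word 0 79, .word 0 96, .word 0 85, .word 0 105, .word 0 75, .word 0 81, .word 0 98, .word 0 32, .refl 2 93, .word 0 94, .refl 0 83, .word 0 99, .word 0 109, .word 0 119, .word 0 125, .word 0 124, .word 0 123, .word 0 118, .word 0 92, .word 0 72, .word 0 26, .word 0 16, .word 0 6, .word 0 0]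

def bigBE7 : List Step := [.word 0 93, .word 0 73, .word 0 79, .word 0 96, .word 0 85, .word 0 105, .word 0 75, .word 0 81, .word 0 98, .word 0 32, .refl 0 34, .word 0 18, .word 0 49, .word 0 43, .word 0 78, .word 0 95, .word 0 84, .word 0 104, .word 0 113, .word 0 88, .word 0 107, .word 0 76, .word 0 82, .refl 1 79, .word 0 69, .word 0 66, .word 0 64, .word 0 63, .word 0 23, .word 0 51, .word 0 45, .word 0 28, .word 0 39, .word 0 56, .word 0 59, .word 0 61]

def bigAE8 : List Step := [.word 0 162, .word 0 135, .word 0 142, .word 0 165, .word 0 149, .word 0 176, .word 0 190, .word 0 153, .word 0 179, .word 0 192, .word 0 154, .word 0 180, .word 0 138, .word 0 145, .word 0 168, .word 0 77, .refl 2 162, .word 0 163, .word 0 147, .word 0 174, .word 0 188, .word 0 207, .word 0 228, .word 0 220, .word 0 214, .word 0 230, .word 0 222, .word 0 216, .word 0 201, .word 0 159, .word 0 183, .word 0 140, .word 0 76, .word 0 92, .word 0 65, .word 0 51, .word 0 32, .word 0 11, .word 0 19, .word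 0 25]

def bigBE8 : List Step := [.word 0 162, .word 0 135, .word 0 142, .word 0 165, .word 0 149, .word 0 176, .word 0 190, .word 0 153, .word 0 179, .word 0 192, .word 0 154, .word 0 180, .word 0 138, .word 0 145, .word 0 168, .word 0 77, .refl 0 165, .word 0 137, .word 0 144, .word 0 167, .word 0 151, .word 0 130, .word 0 126, .word 0 123, .word 0 121, .word 0 120, .word 0 66, .word 0 103, .word 0 96, .word 0 73, .word 0 89, .word 0 62, .word 0 102, .word 0 95, .word 0 72, .word 0 88, .word 0 109, .word 0 113, .word 0 116, .word 0 118, .refl 3 142, .word 0 141, .word 0 164, .word 0 148, .word 0 175, .word 0 189, .word 0 208, .word 0 195, .word 0 211, .word 0 197, .word 0 212, .word 0 198, .word 0 157, .word 0 182, .word 0 139, .word 0 146]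

def threeD4 : List Step := [.word 1 11, .word 0 20, .word 1 20, .word 1 22, .word 0 16, .word 1 16, .word 1 5, .word 1 9, .word 1 1, .refl 1 11, .word 1 8, .word 0 10]

def twoD4 : List Step := [.word 0 5, .word 0 9, .ys 2 9, .word 0 1, .word 0 7, .word 0 18, .ys 2 14, .word 0 16, .refl 1 7, .refl 1 16]

def threeG2 : List Step := [.word 1 0, .word 0 2, .word 0 1, .word 1 3, .word 1 5, .word 0 4]

def twoF4 : List Step := [.word 1 23, .word 0 14, .word 0 26, .word 1 26, .word 0 34, .word 1 34, .word 0 31, .word 0 35, .word 1 42, .word 1 28, .word 0 41, .word 1 29, .word 1 25, .word 0 27]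

/-- two generators exist -/
def TwoGen (D : ChevalleyDatum) (F : Type*) [Field F] : Prop :=
  ∃ a b : ↥(D.group F), Subgroup.closure ({a, b} : Set ↥(D.group F)) = ⊤

variable {F : Type*} [Field F]

theorem bigG2 [Fintype F] (C : ChevalleyCert.Cert chevG2) (hq : 4 ≤ Fintype.card F) : TwoGen chevG2 F :=
  gen_big C hq (w := [0, 1]) (r := 6) (s := 4) (u := 0) (u' := 1) (by decide +kernel) (l₁ := bigAG2) (by decide +kernel)
    (l₂ := bigBG2) (by decide +kernel)

theorem bigB2 [Fintype F] (C : ChevalleyCert.Cert chevB2) (hq : 4 ≤ Fintype.card F) : TwoGen chevB2 F :=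
  gen_big C hq (w := [0, 1]) (r := 4) (s := 2) (u := 1) (u' := 0) (by decide +kernel) (l₁ := bigAB2) (by decide +kernel)
    (l₂ := bigBB2) (by decide +kernel)

theorem bigD4 [Fintype F] (C : ChevalleyCert.Cert chevD4) (hq : 4 ≤ Fintype.card F) : TwoGen chevD4 F :=
  gen_big C hq (w := [0, 1, 2, 3]) (r := 18) (s := 7) (u := 1) (u' := 0) (by decide +kernel) (l₁ := bigAD4) (by decide +kernel)
    (l₂ := bigBD4) (by decide +kernel)

theorem bigF4 [Fintype F] (C : ChevalleyCert.Cert chevF4) (hq : 4 ≤ Fintype.card F) : TwoGen chevF4 F :=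
  gen_big C hq (w := [0, 1, 2, 3]) (r := 25) (s := 8) (u := 2) (u' := 0) (by decide +kernel) (l₁ := bigAF4) (by decide +kernel)
    (l₂ := bigBF4) (by decide +kernel)

theorem bigE6 [Fintype F] (C : ChevalleyCert.Cert chevE6) (hq : 4 ≤ Fintype.card F) : TwoGen chevE6 F :=
  gen_big C hq (w := [0, 1, 2, 3, 4, 5]) (r := 56) (s := 3) (u := 5) (u' := 8) (by decide +kernel) (l₁ := bigAE6) (by decide +kernel)
    (l₂ := bigBE6) (by decide +kernel)

theorem bigE7 [Fintype F] (C : ChevalleyCert.Cert chevE7) (hq : 4 ≤ Fintype.card F) : TwoGen chevE7 F :=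
  gen_big C hq (w := [0, 1, 2, 3, 4, 5, 6]) (r := 93) (s := 34) (u := 0) (u' := 1) (by decide +kernel) (l₁ := bigAE7) (by decide +kernel)
    (l₂ := bigBE7) (by decide +kernel)

theorem bigE8 [Fintype F] (C : ChevalleyCert.Cert chevE8) (hq : 4 ≤ Fintype.card F) : TwoGen chevE8 F :=
  gen_big C hq (w := [0, 1, 2, 3, 4, 5, 6, 7]) (r := 162) (s := 5) (u := 8) (u' := 9) (by decide +kernel) (l₁ := bigAE8) (by decide +kernel)
    (l₂ := bigBE8) (by decide +kernel)

theorem prime_B2 (C : ChevalleyCert.Cert chevB2) (h2 : (2 : F) ≠ 0) (hF : ∀ t : F, ∃ n : ℕ, (n : F) = t) : TwoGen chevB2 F :=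
  gen_prime C hF (goodTwo_ne h2) (w := [0, 1]) (r := 5) (l := primeB2) (by decide +kernel)

theorem prime_F4 (C : ChevalleyCert.Cert chevF4) (h2 : (2 : F) ≠ 0) (hF : ∀ t : F, ∃ n : ℕ, (n : F) = t) : TwoGen chevF4 F :=
  gen_prime C hF (goodTwo_ne h2) (w := [0, 1, 2, 3]) (r := 33) (l := primeF4) (by decide +kernel)

theorem prime_E6 (C : ChevalleyCert.Cert chevE6) (hF : ∀ t : F, ∃ n : ℕ, (n : F) = t) : TwoGen chevE6 F :=
  gen_prime C hF goodUnit_ne (w := [0, 1, 2, 3, 4, 5]) (r := 56) (l := primeE6) (by decide +kernel)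

theorem prime_E7 (C : ChevalleyCert.Cert chevE7) (hF : ∀ t : F, ∃ n : ℕ, (n : F) = t) : TwoGen chevE7 F :=
  gen_prime C hF goodUnit_ne (w := [0, 1, 2, 3, 4, 5, 6]) (r := 78) (l := primeE7) (by decide +kernel)

theorem prime_E8 (C : ChevalleyCert.Cert chevE8) (hF : ∀ t : F, ∃ n : ℕ, (n : F) = t) : TwoGen chevE8 F :=
  gen_prime C hF goodUnit_ne (w := [0, 1, 2, 3, 4, 5, 6, 7]) (r := 162) (l := primeE8) (by decide +kernel)

theorem three_D4 (C : ChevalleyCert.Cert chevD4) (h3 : (3 : F) = 0) (hF : ∀ t : F, ∃ n : ℕ, (n : F) = t) :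
    TwoGen chevD4 F := by
  refine wrap (a := xg C 11 1 * ns C 2) (b := nwd C [0, 1, 2, 3])
    (mul_mem (xg_mem_group C _ _) (mul_mem (mul_mem (xg_mem_group C _ _) (xg_mem_group C _ _)) (xg_mem_group C _ _)))
    (nwd_mem_group C _) ?_
  set M := Subgroup.closure ({xg C 11 1 * ns C 2, nwd C [0, 1, 2, 3]} : Set (GL chevD4.Idx F)) with hM
  obtain ⟨h1, h2⟩ := split_ns C h3 (M := M) (i := 2) (r := 11) (by decide +kernel) (Subgroup.subset_closure (Or.inl rfl))
  refine group_le C (check_sound C goodUnit_ne (ws := [[2], [0, 1, 2, 3]]) ?_ (yl := []) (by simp) threeD4 [11] (by decide +kernel) ?_)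
  · intro x hx
    simp only [List.mem_cons, List.not_mem_nil, or_false] at hx
    rcases hx with rfl | rfl
    exacts [h2, Subgroup.subset_closure (Or.inr rfl)]
  · intro x hx
    obtain rfl := List.mem_singleton.1 hx
    exact all_of_one C hF h1

theorem two_D4 (C : ChevalleyCert.Cert chevD4) (h2 : (2 : F) = 0) (hF : ∀ t : F, ∃ n : ℕ, (n : F) = t) :
    TwoGen chevD4 F := by
  refine wrap (a := xg C 5 1 * (xg C (chevD4.simple 2) 1 * xg C (chevD4.neg (chevD4.simple 2)) 1))
    (b := nwd C [0, 1, 2, 3]) (mul_mem (xg_mem_group C _ _) (mul_mem (xg_mem_group C _ _) (xg_mem_group C _ _)))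
    (nwd_mem_group C _) ?_
  set M := Subgroup.closure
    ({xg C 5 1 * (xg C (chevD4.simple 2) 1 * xg C (chevD4.neg (chevD4.simple 2)) 1), nwd C [0, 1, 2, 3]} :
      Set (GL chevD4.Idx F)) with hM
  obtain ⟨h1, hy⟩ := split_rot C h2 (M := M) (i := 2) (r := 5) (by decide +kernel) (Subgroup.subset_closure (Or.inl rfl))
  refine group_le C (check_sound C goodUnit_ne (ws := [[0, 1, 2, 3]]) ?_ (yl := [2]) ?_ twoD4 [5] (by decide +kernel) ?_)
  · intro x hx
    obtain rfl := List.mem_singleton.1 hx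
    exact Subgroup.subset_closure (Or.inr rfl)
  · intro i hi
    obtain rfl := List.mem_singleton.1 hi
    exact ⟨h2, hy⟩
  · intro x hx
    obtain rfl := List.mem_singleton.1 hx
    exact all_of_one C hF h1

theorem three_G2 (C : ChevalleyCert.Cert chevG2) (h3 : (3 : F) = 0) (hF : ∀ t : F, ∃ n : ℕ, (n : F) = t) :
    TwoGen chevG2 F := by
  have hn : ∀ i, ns C (F := F) i ∈ chevG2.group F := fun i =>
    mul_mem (mul_mem (xg_mem_group C _ _) (xg_mem_group C _ _)) (xg_mem_group C _ _)
  refine wrap (a := xg C 0 1 * ns C 0) (b := xg C 2 1 * ns C 1)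
    (mul_mem (xg_mem_group C _ _) (hn _)) (mul_mem (xg_mem_group C _ _) (hn _)) ?_
  set M := Subgroup.closure ({xg C 0 1 * ns C 0, xg C 2 1 * ns C 1} : Set (GL chevG2.Idx F)) with hM
  obtain ⟨h1, h2⟩ := split_ns C h3 (M := M) (i := 0) (r := 0) (by decide +kernel) (Subgroup.subset_closure (Or.inl rfl))
  obtain ⟨h4, h5⟩ := split_ns C h3 (M := M) (i := 1) (r := 2) (by decide +kernel) (Subgroup.subset_closure (Or.inr rfl))
  refine group_le C (check_sound C goodUnit_ne (ws := [[0], [1]]) ?_ (yl := []) (by simp) threeG2 [0, 2] (by decide +kernel) ?_)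
  · intro x hx
    simp only [List.mem_cons, List.not_mem_nil, or_false] at hx
    rcases hx with rfl | rfl <;> assumption
  · intro x hx
    simp only [List.mem_cons, List.not_mem_nil, or_false] at hx
    rcases hx with rfl | rfl
    exacts [all_of_one C hF h1, all_of_one C hF h4]

theorem two_F4 (C : ChevalleyCert.Cert chevF4) (h2 : (2 : F) = 0) (hF : ∀ t : F, ∃ n : ℕ, (n : F) = t) :
    TwoGen chevF4 F := by
  refine wrap (a := xg C 23 1 * nwd C [1, 0]) (b := xg C 14 1 * nwd C [2, 3])
    (mul_mem (xg_mem_group C _ _) (nwd_mem_group C _)) (mul_mem (xg_mem_group C _ _) (nwd_mem_group C _)) ?_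
  set M := Subgroup.closure ({xg C 23 1 * nwd C [1, 0], xg C 14 1 * nwd C [2, 3]} : Set (GL chevF4.Idx F)) with hM
  obtain ⟨h1, h3⟩ := split_pair C h2 (M := M) (i := 1) (j := 0) (r := 23) (by decide +kernel) (by decide +kernel)
    (by decide +kernel) (Subgroup.subset_closure (Or.inl rfl))
  obtain ⟨h4, h5⟩ := split_pair C h2 (M := M) (i := 2) (j := 3) (r := 14) (by decide +kernel) (by decide +kernel)
    (by decide +kernel) (Subgroup.subset_closure (Or.inr rfl))
  refine group_le C (check_sound C goodUnit_ne (ws := [[1, 0], [2, 3]]) ?_ (yl := []) (by simp) twoF4 [23, 14] (by decide +kernel) ?_)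
  · intro x hx
    simp only [List.mem_cons, List.not_mem_nil, or_false] at hx
    rcases hx with rfl | rfl <;> assumption
  · intro x hx
    simp only [List.mem_cons, List.not_mem_nil, or_false] at hx
    rcases hx with rfl | rfl
    exacts [all_of_one C hF h1, all_of_one C hF h4]

theorem small_field [Fintype F] {q : ℕ} (hq : Fintype.card F = q) (hp : q.Prime) :
    (∀ t : F, ∃ n : ℕ, (n : F) = t) ∧ (q : F) = 0 := by
  refine ⟨fun t => ?_, hq ▸ FiniteField.cast_card_eq_zero F⟩
  have : Fact (Nat.card F).Prime := ⟨by rwa [Nat.card_eq_fintype_card, hq]⟩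
  obtain ⟨n, hn⟩ := AddSubgroup.mem_zmultiples_iff.1
    (show t ∈ AddSubgroup.zmultiples (1 : F) by rw [zmultiples_eq_top_of_prime_card rfl one_ne_zero]; trivial)
  obtain ⟨m, hm⟩ : ∃ m : ℕ, ((m : F)) = ((n : ℤ) : F) := by
    refine ⟨(n % (q : ℤ)).toNat, ?_⟩
    have h0 : ((q : ℤ) : F) = 0 := by rw [Int.cast_natCast]; exact hq ▸ FiniteField.cast_card_eq_zero F
    have hr : (((n % (q : ℤ)).toNat : ℕ) : ℤ) = n % (q : ℤ) :=
      Int.toNat_of_nonneg (Int.emod_nonneg _ (by exact_mod_cast hp.ne_zero))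
    rw [← Int.cast_natCast, hr]
    conv_rhs => rw [← Int.emod_add_ediv_mul n (q : ℤ), Int.cast_add, Int.cast_mul, h0, mul_zero, add_zero]
  exact ⟨m, by rw [hm, ← zsmul_one, hn]⟩

/-- Each Chevalley group of type G₂, B₂, D₄, F₄, E₆, E₇ or E₈ over a finite field is generated by two of its elements (types B₂ and G₂ over the field with two elements, where the group is not simple, excepted). -/
theorem result {F : Type*} [Field F] [Finite F] (D : Cfsg.Lie.ChevalleyDatum) (hD : D ∈ [Cfsg.Lie.chevG2, Cfsg.Lie.chevB2, Cfsg.Lie.chevD4, Cfsg.Lie.chevF4, Cfsg.Lie.chevE6, Cfsg.Lie.chevE7, Cfsg.Lie.chevE8])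
    (hF : D ∈ [Cfsg.Lie.chevB2, Cfsg.Lie.chevG2] → ∃ x : F, x ≠ 0 ∧ x ≠ 1) :
    ∃ a b : ↥(D.group F), Subgroup.closure ({a, b} : Set ↥(D.group F)) = ⊤ := by
  classical
  have := Fintype.ofFinite F
  obtain ⟨C⟩ := ChevalleyAll.cert_nonempty D (by simpa [or_assoc] using hD)
  have hq1 : 1 < Fintype.card F := Fintype.one_lt_card
  have h32 : (3 : F) = 0 → (2 : F) ≠ 0 := fun h3 h2 =>
    one_ne_zero (α := F) (by linear_combination h3 - h2)
  have hbad : D ∈ [Cfsg.Lie.chevB2, Cfsg.Lie.chevG2] → Fintype.card F ≠ 2 := by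
    intro h h2
    obtain ⟨x, hx0, hx1⟩ := hF h
    have hu : (Finset.univ : Finset F) = {0, 1} := (Finset.eq_of_subset_of_card_le (Finset.subset_univ _)
      (by rw [Finset.card_univ, h2, Finset.card_pair zero_ne_one])).symm
    have := Finset.mem_univ x
    rw [hu] at this
    simp [hx0, hx1] at this
  simp only [List.mem_cons, List.not_mem_nil, or_false] at hD
  by_cases hq : 4 ≤ Fintype.card F
  · rcases hD with rfl | rfl | rfl | rfl | rfl | rfl | rfl
    exacts [bigG2 C hq, bigB2 C hq, bigD4 C hq, bigF4 C hq, bigE6 C hq, bigE7 C hq, bigE8 C hq]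
  · rcases (show Fintype.card F = 2 ∨ Fintype.card F = 3 by omega) with e | e
    · obtain ⟨hF2, h2⟩ := small_field e Nat.prime_two
      rcases hD with rfl | rfl | rfl | rfl | rfl | rfl | rfl
      exacts [absurd e (hbad (by simp)), absurd e (hbad (by simp)), two_D4 C (by simpa using h2) hF2,
        two_F4 C (by simpa using h2) hF2, prime_E6 C hF2, prime_E7 C hF2, prime_E8 C hF2]
    · obtain ⟨hF3, h3⟩ := small_field e Nat.prime_three
      rcases hD with rfl | rfl | rfl | rfl | rfl | rfl | rfl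
      exacts [three_G2 C (by simpa using h3) hF3, prime_B2 C (h32 (by simpa using h3)) hF3,
        three_D4 C (by simpa using h3) hF3, prime_F4 C (h32 (by simpa using h3)) hF3,
        prime_E6 C hF3, prime_E7 C hF3, prime_E8 C hF3]

end Cfsg.Agent.S2405
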