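import Cfsg.Statements.S2406
import Cfsg.Agent.Lib.TwistSeed98
import Cfsg.Agent.Lib.ChevalleyDataE6
-- import your own Cfsg.Agent.* helpers here

set_option autoImplicit false
open Cfsg

namespace Cfsg.Agent.S2406

open Cfsg.Lie Cfsg.Agent.ChevalleyCert Cfsg.Agent.ChevalleyCore Cfsg.Agent.ChevalleyTorus Cfsg.Agent.TwoGenCert98
  Cfsg.Agent.TwistSeed98 Cfsg.Agent.TwistedTools

/-- the certificate -/
def c6 : Cert chevE6 := ChevalleyDataE6.cert

/-- the Coxeter word of the twisted Weyl group -/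
def wN : List ℕ := [0, 5, 1, 2, 4, 3]

/-- the letters available -/
def alpha : List (List ℕ) := [wN, [0, 5], [1]]

/-- disjointness of two roots -/
def free (a b : ℕ) : Bool :=
  decide (a < chevE6.nroots ∧ b < chevE6.nroots ∧ b ≠ a ∧ b ≠ chevE6.neg a ∧ chevE6.commTerms a b = [])

section Aux

variable {K : Type*} [Field K]

theorem free_comm {a b : ℕ} (h : free a b = true) (t u : K) : Commute (xg c6 a t) (xg c6 b u) := by
  simp only [free, decide_eq_true_eq] at h
  exact TwoGenCert98.commute_xg c6 h.1 h.2.1 h.2.2.1 h.2.2.2.1 h.2.2.2.2 t u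

/-- a pair element -/
noncomputable def J (q a b : ℕ) (t : K) : GL chevE6.Idx K := xg c6 a t * xg c6 b (t ^ q)

variable {q : ℕ} (f : K →+* K) (hf : ∀ t, f t = t ^ q)
include f hf

theorem pow_neg_one : (-1 : K) ^ q = -1 := by rw [← hf, map_neg, map_one]

theorem J_add {a b : ℕ} (h : free a b = true) (t u : K) : J q a b t * J q a b u = J q a b (t + u) := by
  rw [J, J, J, ← hf t, ← hf u, ← hf (t + u), map_add, ← xg_mul c6, ← xg_mul c6]
  have hc := (free_comm h u (f t)).eq
  calc xg c6 a t * xg c6 b (f t) * (xg c6 a u * xg c6 b (f u))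
      = xg c6 a t * (xg c6 b (f t) * xg c6 a u) * xg c6 b (f u) := by group
    _ = _ := by rw [← hc]; group

theorem J_zero (a b : ℕ) : J q a b (0 : K) = 1 := by rw [J, ← hf 0, map_zero, xg_zero, xg_zero, mul_one]

theorem J_inv {a b : ℕ} (h : free a b = true) (t : K) : (J q a b t)⁻¹ = J q a b (-t) :=
  inv_eq_of_mul_eq_one_right (by rw [J_add f hf h, add_neg_cancel, J_zero f hf])

theorem J_mem_group (a b : ℕ) (t : K) : J q a b t ∈ chevE6.group K :=
  mul_mem (xg_mem_group c6 _ _) (xg_mem_group c6 _ _)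

theorem npair_mem {M : Subgroup (GL chevE6.Idx K)} {a b : ℕ}
    (h1 : free a b = true) (h2 : free a (chevE6.neg b) = true) (h3 : free (chevE6.neg a) b = true)
    (h4 : free (chevE6.neg a) (chevE6.neg b) = true) (hp : ∀ t, J q a b t ∈ M)
    (hn : ∀ t, J q (chevE6.neg a) (chevE6.neg b) t ∈ M) (t : K) : ng c6 a t * ng c6 b (t ^ q) ∈ M := by
  have e : -(t ^ q)⁻¹ = (-t⁻¹) ^ q := by rw [← hf, ← hf, map_neg, map_inv₀]
  set x := xg c6 a t with hx
  set x' := xg c6 (chevE6.neg a) (-t⁻¹) with hx'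
  set y := xg c6 b (t ^ q) with hy
  set y' := xg c6 (chevE6.neg b) (-(t ^ q)⁻¹) with hy'
  have key : ng c6 a t * ng c6 b (t ^ q) = J q a b t * J q (chevE6.neg a) (chevE6.neg b) (-t⁻¹) * J q a b t := by
    rw [J, J, ← e, ng.eq_1, ng.eq_1, ← hx, ← hx', ← hy, ← hy']
    have c1 : y * x = x * y := (free_comm h1 _ _).eq.symm
    have c2 : y' * x = x * y' := (free_comm h2 _ _).eq.symm
    have c3 : y * x' = x' * y := (free_comm h3 _ _).eq.symm
    calc x * x' * x * (y * y' * y) = x * x' * (x * y) * y' * y := by group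
      _ = x * x' * (y * x) * y' * y := by rw [c1]
      _ = x * (x' * y) * (x * y') * y := by group
      _ = x * (y * x') * (y' * x) * y := by rw [c3, c2]
      _ = x * y * (x' * y') * (x * y) := by group
  rw [key]
  exact mul_mem (mul_mem (hp _) (hn _)) (hp _)

theorem word_pair {M : Subgroup (GL chevE6.Idx K)} (h : ∀ t, J q 56 36 t ∈ M) (h' : ∀ t, J q 15 35 t ∈ M) :
    nwd c6 [0, 5] ∈ M := by
  have := npair_mem f hf (a := 56) (b := 36) (M := M) (by decide +kernel) (by decide +kernel) (by decide +kernel)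
    (by decide +kernel) h (fun t => by rw [show chevE6.neg 56 = 15 by decide +kernel,
      show chevE6.neg 36 = 35 by decide +kernel]; exact h' t) 1
  rw [one_pow] at this
  simpa [nwd, ns, show chevE6.simple 0 = 56 by decide +kernel, show chevE6.simple 5 = 36 by decide +kernel] using this

theorem J_move {M : Subgroup (GL chevE6.Idx K)} {a b a' b' : ℕ} {js : List ℕ} {al : List (List ℕ)}
    (hok : (lettersOK chevE6 (spell al js) && decide (a < chevE6.nroots ∧ b < chevE6.nroots ∧
      wact (D := chevE6) (spell al js) a = a' ∧ wact (D := chevE6) (spell al js) b = b' ∧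
      sgnw c6 (spell al js) a = sgnw c6 (spell al js) b)) = true)
    (hal : ∀ l ∈ al, nwd c6 l ∈ M) (h : ∀ t, J q a b t ∈ M) (t : K) : J q a' b' t ∈ M := by
  simp only [Bool.and_eq_true, decide_eq_true_eq] at hok
  obtain ⟨hl, ha, hb, rfl, rfl, hs⟩ := hok
  set l := spell al js
  have hM := spell_mem c6 hal js
  have h' : ∀ u, nwd c6 l * J q a b u * (nwd c6 l)⁻¹ ∈ M := fun u => mul_mem (mul_mem hM (h u)) (inv_mem hM)
  have h'' : ∀ u, xg c6 (wact (D := chevE6) l a) ((sgnw c6 l a : K) * u) *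
      xg c6 (wact (D := chevE6) l b) ((sgnw c6 l a : K) * u ^ q) ∈ M := by
    intro u
    conv => arg 2; arg 2; rw [hs]
    rw [← conj_xg c6 (letters_lt hl) ha, ← conj_xg c6 (letters_lt hl) hb, conj_mul]
    exact h' u
  rcases sgnw_cases c6 l a with e | e
  · have := h'' t
    rwa [e, Int.cast_one, one_mul, one_mul] at this
  · have := h'' (-t)
    rwa [e, Int.cast_neg, Int.cast_one, neg_one_mul, neg_one_mul, neg_neg, ← hf (-t), map_neg, neg_neg, hf] at this

variable [Fintype K]

set_option maxHeartbeats 1600000 in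
theorem generated (hK : Fintype.card K = q ^ 2) (hq : 1 < q) :
    ∃ a b : ↥(twistedE6 K q), Subgroup.closure ({a, b} : Set ↥(twistedE6 K q)) = ⊤ := by
  obtain ⟨k, hk⟩ := IsCyclic.exists_generator (α := Kˣ)
  have hk0 : (k : K) ≠ 0 := k.ne_zero
  have hqq : 2 * q ≤ q * q := Nat.mul_le_mul_right q hq
  have hcard : Fintype.card K = q * q := by rw [hK, pow_two]
  have hord : orderOf k = q * q - 1 := by
    rw [orderOf_eq_card_of_forall_mem_zpowers hk, Nat.card_units, Nat.card_eq_fintype_card, hcard]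
  have hne : ∀ n : ℕ, 0 < n → n ≤ 2 → (k : K) ^ n ≠ 1 := by
    intro n h1 h2 h
    have h3 : k ^ n = 1 := Units.ext (by simpa using h)
    have := Nat.le_of_dvd h1 (orderOf_dvd_of_pow_eq_one h3)
    omega
  have hp2 : ∀ t : K, (t ^ q) ^ q = t := fun t => by rw [← pow_mul, ← hcard, FiniteField.pow_card]
  have hG1 : ∀ r ∈ [e6p2, e6m2, e6p4, e6m4], ∀ t : K, t ^ q = t → xg c6 r t ∈ twistedE6 K q := by
    intro r hr t ht
    have := mem_gen c6 (A := e6Words K q) (Or.inl ⟨t, ht, r, hr, rfl⟩)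
    simpa [wg, twistedE6] using this
  have hG2 : ∀ rs ∈ [(e6p1, e6p6), (e6m1, e6m6), (e6p3, e6p5), (e6m3, e6m5)], ∀ t : K,
      J q rs.1 rs.2 t ∈ twistedE6 K q := by
    intro rs hr t
    have := mem_gen c6 (A := e6Words K q) (Or.inr ⟨t, rs, hr, rfl⟩)
    simpa [wg, twistedE6, J] using this
  have hg56 := hG2 (e6p1, e6p6) (by simp)
  have hg15 := hG2 (e6m1, e6m6) (by simp)
  have hn05 : nwd c6 [0, 5] ∈ twistedE6 K q := word_pair f hf hg56 hg15
  have hpm : (1 : K) ^ q = 1 ∧ (-1 : K) ^ q = -1 := ⟨one_pow q, pow_neg_one f hf⟩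
  have hn1 : nwd c6 [1] ∈ twistedE6 K q := by
    have := mul_mem (mul_mem (hG1 e6p2 (by simp) 1 hpm.1) (hG1 e6m2 (by simp) (-1) hpm.2)) (hG1 e6p2 (by simp) 1 hpm.1)
    simpa [nwd, ns, ng.eq_1, show chevE6.simple 1 = e6p2 by decide +kernel,
      show chevE6.neg e6p2 = e6m2 by decide +kernel] using this
  have hn3 : nwd c6 [3] ∈ twistedE6 K q := by
    have := mul_mem (mul_mem (hG1 e6p4 (by simp) 1 hpm.1) (hG1 e6m4 (by simp) (-1) hpm.2)) (hG1 e6p4 (by simp) 1 hpm.1)
    simpa [nwd, ns, ng.eq_1, show chevE6.simple 3 = e6p4 by decide +kernel,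
      show chevE6.neg e6p4 = e6m4 by decide +kernel] using this
  have hn24 : nwd c6 [2, 4] ∈ twistedE6 K q := by
    have := npair_mem f hf (a := 42) (b := 37) (M := twistedE6 K q) (by decide +kernel) (by decide +kernel)
      (by decide +kernel) (by decide +kernel) (hG2 (e6p3, e6p5) (by simp))
      (fun t => by rw [show chevE6.neg 42 = e6m3 by decide +kernel, show chevE6.neg 37 = e6m5 by decide +kernel]
                   exact hG2 (e6m3, e6m5) (by simp) t) 1
    rw [one_pow] at this
    simpa [nwd, ns, show chevE6.simple 2 = 42 by decide +kernel, show chevE6.simple 4 = 37 by decide +kernel] using this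
  have hNG : nwd c6 wN ∈ twistedE6 K q := by
    rw [show wN = [0, 5] ++ ([1] ++ ([2, 4] ++ [3])) from rfl, nwd_append, nwd_append, nwd_append]
    exact mul_mem hn05 (mul_mem hn1 (mul_mem hn24 hn3))
  have hhG : hg c6 56 (k : K) * hg c6 36 ((k : K) ^ q) ∈ twistedE6 K q := by
    have key := fun t => npair_mem f hf (a := 56) (b := 36) (M := twistedE6 K q) (by decide +kernel) (by decide +kernel)
      (by decide +kernel) (by decide +kernel) hg56
      (fun t => by rw [show chevE6.neg 56 = e6m1 by decide +kernel, show chevE6.neg 36 = e6m6 by decide +kernel]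
                   exact hg15 t) t
    have h2 := mul_mem (key (k : K)) (key (-1))
    rw [hpm.2] at h2
    have hcm : Commute (ng c6 36 ((k : K) ^ q)) (ng c6 56 (-1)) := by
      have c1 : ∀ a b : ℕ, free b a = true → ∀ t u : K, Commute (xg c6 a t) (xg c6 b u) :=
        fun a b h t u => (free_comm h u t).symm
      rw [ng.eq_1, ng.eq_1]
      refine ((Commute.mul_left ?_ ?_).mul_left ?_) <;>
        exact ((Commute.mul_right (c1 _ _ (by decide +kernel) _ _) (c1 _ _ (by decide +kernel) _ _)).mul_right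
          (c1 _ _ (by decide +kernel) _ _))
    have e : hg c6 56 (k : K) * hg c6 36 ((k : K) ^ q) =
        ng c6 56 (k : K) * ng c6 36 ((k : K) ^ q) * (ng c6 56 (-1) * ng c6 36 (-1)) := by
      rw [hg, hg]
      calc _ = ng c6 56 (k : K) * (ng c6 56 (-1) * ng c6 36 ((k : K) ^ q)) * ng c6 36 (-1) := by group
        _ = _ := by rw [← hcm.eq]; group
    rw [e]; exact h2
  have hhiG : xg c6 71 (1 : K) ∈ twistedE6 K q := by
    have hal : ∀ l ∈ alpha, nwd c6 l ∈ twistedE6 K q := by
      intro l hl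
      simp only [alpha, List.mem_cons, List.not_mem_nil, or_false] at hl
      rcases hl with rfl | rfl | rfl <;> assumption
    have h2 := mul_mem (mul_mem (inv_mem (spell_mem c6 hal [0, 0, 0, 0, 1, 0, 0, 0, 0]))
      (hG1 e6p2 (by simp) ((sgnw c6 (spell alpha [0, 0, 0, 0, 1, 0, 0, 0, 0]) 71 : ℤ) : K) (by
        rcases sgnw_cases c6 (spell alpha [0, 0, 0, 0, 1, 0, 0, 0, 0]) 71 with e | e <;> rw [e] <;> push_cast
        exacts [hpm.1, hpm.2]))) (spell_mem c6 hal [0, 0, 0, 0, 1, 0, 0, 0, 0])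
    have h3 := conj_xg c6 (F := K) (l := spell alpha [0, 0, 0, 0, 1, 0, 0, 0, 0])
      (letters_lt (by decide +kernel)) (r := 71) (by decide +kernel) 1
    rw [mul_one, show wact (D := chevE6) (spell alpha [0, 0, 0, 0, 1, 0, 0, 0, 0]) 71 = e6p2 by decide +kernel] at h3
    rw [← h3] at h2
    simpa [mul_assoc] using h2
  set h := hg c6 56 (k : K) * hg c6 36 ((k : K) ^ q) with hh
  set x := J q 56 36 (1 : K) with hx
  set N := nwd c6 (F := K) wN with hN
  suffices hsuf : twistedE6 K q ≤ Subgroup.closure {h * xg c6 71 1, x * N} by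
    refine ⟨⟨h * xg c6 71 1, mul_mem hhG hhiG⟩, ⟨x * N, mul_mem (hg56 1) hNG⟩, ?_⟩
    apply Subgroup.map_injective (twistedE6 K q).subtype_injective
    rw [MonoidHom.map_closure, ← MonoidHom.range_eq_map, Subgroup.range_subtype, Set.image_pair]
    exact le_antisymm ((Subgroup.closure_le _).2 (by
      rintro z (rfl | rfl)
      exacts [mul_mem hhG hhiG, mul_mem (hg56 1) hNG])) hsuf
  set M := Subgroup.closure ({h * xg c6 71 1, x * N} : Set (GL chevE6.Idx K)) with hM
  have hb : x * N ∈ M := Subgroup.subset_closure (Or.inr rfl)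
  have hkq : (k : K) ^ q ≠ 0 := pow_ne_zero _ hk0
  have hconj : ∀ (u v r : ℕ), u < chevE6.nroots → v < chevE6.nroots → r < chevE6.nroots → ∀ t : K,
      hg c6 u (k : K) * hg c6 v ((k : K) ^ q) * xg c6 r t * (hg c6 u (k : K) * hg c6 v ((k : K) ^ q))⁻¹ =
        xg c6 r ((k : K) ^ chevE6.pairing u r * ((k : K) ^ q) ^ chevE6.pairing v r * t) := by
    intro u v r hu hv hr t
    calc _ = hg c6 u (k : K) * (hg c6 v ((k : K) ^ q) * xg c6 r t * (hg c6 v ((k : K) ^ q))⁻¹) *
          (hg c6 u (k : K))⁻¹ := by group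
      _ = _ := by rw [hg_conj_xg c6 hv hr hkq, mul_inv_cancel_right, hg_conj_xg c6 hu hr hk0, mul_inv_cancel_right,
            mul_assoc]
  have hJ : ∀ (u v : ℕ) (lam : K), u < chevE6.nroots → v < chevE6.nroots →
      (k : K) ^ chevE6.pairing u 56 * ((k : K) ^ q) ^ chevE6.pairing v 56 = lam →
      (k : K) ^ chevE6.pairing u 36 * ((k : K) ^ q) ^ chevE6.pairing v 36 = lam ^ q → ∀ t : K,
      hg c6 u (k : K) * hg c6 v ((k : K) ^ q) * J q 56 36 t * (hg c6 u (k : K) * hg c6 v ((k : K) ^ q))⁻¹ =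
        J q 56 36 (lam * t) := by
    intro u v lam hu hv e1 e2 t
    rw [J, ← conj_mul, hconj u v 56 hu hv (by decide +kernel), hconj u v 36 hu hv (by decide +kernel), e1, e2, J,
      mul_pow]
  have hlam : ∀ t : K, h * J q 56 36 t * h⁻¹ = J q 56 36 ((k : K) ^ 2 * t) :=
    hJ 56 36 _ (by decide +kernel) (by decide +kernel)
      (by rw [show chevE6.pairing 56 56 = 2 by decide +kernel, show chevE6.pairing 36 56 = 0 by decide +kernel]; simp [zpow_two, sq])
      (by rw [show chevE6.pairing 56 36 = 0 by decide +kernel, show chevE6.pairing 36 36 = 2 by decide +kernel]; simp [zpow_two, sq, mul_pow])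
  set u' := wact (D := chevE6) wN 56 with hu'
  set v' := wact (D := chevE6) wN 36 with hv'
  set h' := hg c6 u' (k : K) * hg c6 v' ((k : K) ^ q) with hh'
  have hu'lt : u' < chevE6.nroots := by rw [hu']; decide +kernel
  have hv'lt : v' < chevE6.nroots := by rw [hv']; decide +kernel
  have hNh : N * h * N⁻¹ = h' := by
    rw [hh, ← conj_mul, hN, nwd_conj_hg c6 (by decide +kernel) (by decide +kernel) hk0,
      nwd_conj_hg c6 (by decide +kernel) (by decide +kernel) hkq]
  set μ := (k : K)⁻¹ with hμ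
  have hmu : ∀ t : K, h' * J q 56 36 t * h'⁻¹ = J q 56 36 (μ * t) :=
    hJ u' v' _ hu'lt hv'lt
      (by rw [hu', hv', show chevE6.pairing (wact (D := chevE6) wN 56) 56 = -1 by decide +kernel,
            show chevE6.pairing (wact (D := chevE6) wN 36) 56 = 0 by decide +kernel]; simp [hμ])
      (by rw [hu', hv', show chevE6.pairing (wact (D := chevE6) wN 56) 36 = 0 by decide +kernel,
            show chevE6.pairing (wact (D := chevE6) wN 36) 36 = -1 by decide +kernel]; simp [hμ, inv_pow])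
  have hfree : free 56 36 = true := by decide +kernel
  have hcomm : Commute h (xg c6 71 (1 : K)) := by
    have := hconj 56 36 71 (by decide +kernel) (by decide +kernel) (by decide +kernel) 1
    rw [show chevE6.pairing 56 71 = 0 by decide +kernel, show chevE6.pairing 36 71 = 0 by decide +kernel, zpow_zero,
      zpow_zero, one_mul, one_mul, ← hh, mul_inv_eq_iff_eq_mul] at this
    exact this
  obtain ⟨hhM, hhiM⟩ : h ∈ M ∧ xg c6 71 1 ∈ M := by
    refine TwoGenCert98.split (m := q * q - 1) (k := q * q) hcomm ?_ ?_ ?_ (Subgroup.subset_closure (Or.inl rfl))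
    · rw [hh, Commute.mul_pow (hg_comm c6 (by decide +kernel) (by decide +kernel) hk0 hkq),
        hg_pow c6 (by decide +kernel) hk0, hg_pow c6 (by decide +kernel) hkq, ← hcard,
        FiniteField.pow_card_sub_one_eq_one _ hk0, FiniteField.pow_card_sub_one_eq_one _ hkq,
        hg_one c6 (by decide +kernel), hg_one c6 (by decide +kernel), mul_one]
    · rw [xg_pow, ← hcard, FiniteField.cast_card_eq_zero, zero_mul, xg_zero]
    · exact (Nat.coprime_self_sub_left (by omega)).2 (Nat.coprime_one_left _)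
  have hgM : J q 56 36 (1 - μ) * h' ∈ M := by
    have e : x * N * h * (x * N)⁻¹ = J q 56 36 (1 - μ) * h' := by
      calc x * N * h * (x * N)⁻¹ = x * (N * h * N⁻¹) * x⁻¹ := by group
        _ = x * (h' * J q 56 36 (-1) * h'⁻¹) * h' := by rw [hNh, hx, J_inv f hf hfree]; group
        _ = _ := by rw [hmu, hx, J_add f hf hfree, mul_neg_one, ← sub_eq_add_neg]
    exact e ▸ mul_mem (mul_mem hb hhM) (inv_mem hb)
  have hc0 : J q 56 36 ((k : K) ^ 2 * (1 - μ) - (1 - μ)) ∈ M := by
    have hcm : h * h' = h' * h :=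
      H_comm c6 (mul_mem (hg_mem_H c6 (by decide +kernel) hk0) (hg_mem_H c6 (by decide +kernel) hkq))
        (mul_mem (hg_mem_H c6 hu'lt hk0) (hg_mem_H c6 hv'lt hkq))
    have h3 := mul_mem (mul_mem (mul_mem hhM hgM) (inv_mem hhM)) (inv_mem hgM)
    have e : h * (J q 56 36 (1 - μ) * h') * h⁻¹ * (J q 56 36 (1 - μ) * h')⁻¹ =
        h * J q 56 36 (1 - μ) * h⁻¹ * (J q 56 36 (1 - μ))⁻¹ := by
      calc h * (J q 56 36 (1 - μ) * h') * h⁻¹ * (J q 56 36 (1 - μ) * h')⁻¹
          = h * J q 56 36 (1 - μ) * (h' * h⁻¹ * h'⁻¹) * (J q 56 36 (1 - μ))⁻¹ := by group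
        _ = _ := by rw [show h' * h⁻¹ * h'⁻¹ = h⁻¹ from by
              rw [mul_inv_eq_iff_eq_mul, eq_inv_mul_iff_mul_eq, ← mul_assoc, hcm, mul_inv_cancel_right]]
    rwa [e, hlam, J_inv f hf hfree, J_add f hf hfree, ← sub_eq_add_neg] at h3
  have hJ0 : ∀ t, J q 56 36 t ∈ M := by
    refine scalar_all c6 k hk (S := {t | J q 56 36 t ∈ M}) ?_ ?_ ?_ ?_ hc0 ?_
    · show J q 56 36 0 ∈ M
      rw [J_zero f hf]; exact one_mem _
    · intro a ha b hb'
      show J q 56 36 (a + b) ∈ M
      rw [← J_add f hf hfree]; exact mul_mem ha hb'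
    · intro a ha
      show J q 56 36 (-a) ∈ M
      rw [← J_inv f hf hfree]; exact inv_mem ha
    · intro c hc
      show J q 56 36 ((k : K) ^ 2 * c) ∈ M
      rw [← hlam]; exact mul_mem (mul_mem hhM hc) (inv_mem hhM)
    · rw [show (k : K) ^ 2 * (1 - μ) - (1 - μ) = ((k : K) ^ 2 - 1) * (1 - μ) by ring]
      refine mul_ne_zero (sub_ne_zero.2 (hne 2 two_pos le_rfl)) (sub_ne_zero.2 ?_)
      exact fun e => hne 1 one_pos one_le_two (by simpa [hμ, eq_comm] using e)
  have hNM : N ∈ M := (Subgroup.mul_mem_cancel_left _ (hJ0 1)).1 hb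
  have hneg : ∀ t, J q 15 35 t ∈ M := by
    have h35 : ∀ t, J q 35 15 t ∈ M :=
      J_move f hf (js := [0, 0, 0, 0, 0, 0]) (al := [wN]) (by decide +kernel) (by simpa using hNM) hJ0
    intro t
    have := h35 (t ^ q)
    rwa [J, hp2, ← (free_comm (a := 15) (b := 35) (by decide +kernel) t (t ^ q)).eq] at this
  have h05M : nwd c6 [0, 5] ∈ M := word_pair f hf hJ0 hneg
  have hal2 : ∀ l ∈ [wN, [0, 5]], nwd c6 l ∈ M := by
    intro l hl
    simp only [List.mem_cons, List.not_mem_nil, or_false] at hl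
    rcases hl with rfl | rfl <;> assumption
  have h1M : nwd c6 [1] ∈ M := by
    have hp := pm_move c6 (l := spell [wN, [0, 5]] [0, 0, 0, 0, 1, 0, 0, 0, 0]) (by decide +kernel)
      (spell_mem c6 hal2 _) (r := 71) (by decide +kernel) hhiM
    have hm := pm_move c6 (l := spell [wN, [0, 5]] [0, 0, 0, 1, 0, 0]) (by decide +kernel)
      (spell_mem c6 hal2 _) (r := 71) (by decide +kernel) hhiM
    rw [show wact (D := chevE6) (spell [wN, [0, 5]] [0, 0, 0, 0, 1, 0, 0, 0, 0]) 71 = 46 by decide +kernel] at hp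
    rw [show wact (D := chevE6) (spell [wN, [0, 5]] [0, 0, 0, 1, 0, 0]) 71 = 25 by decide +kernel] at hm
    have := mul_mem (mul_mem hp.1 hm.2) hp.1
    simpa [nwd, ns, ng.eq_1, show chevE6.simple 1 = 46 by decide +kernel,
      show chevE6.neg 46 = 25 by decide +kernel] using this
  have hal3 : ∀ l ∈ alpha, nwd c6 l ∈ M := by
    intro l hl
    simp only [alpha, List.mem_cons, List.not_mem_nil, or_false] at hl
    rcases hl with rfl | rfl | rfl <;> assumption
  have h53 : xg c6 53 (1 : K) ∈ M := by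
    have := pm_move c6 (l := spell alpha [0, 0]) (by decide +kernel) (spell_mem c6 hal3 _) (r := 71)
      (by decide +kernel) hhiM
    rw [show wact (D := chevE6) (spell alpha [0, 0]) 71 = 53 by decide +kernel] at this
    exact this.1
  have hlong : ∀ t : K, t ^ q = t → xg c6 53 t ∈ M := by
    intro t ht
    rcases eq_or_ne t 0 with rfl | h0
    · rw [xg_zero]; exact one_mem _
    have hQ : Fintype.card K - 1 = (q - 1) * (q + 1) := by
      rw [hcard, mul_comm (q - 1)]; have := Nat.sq_sub_sq q 1; simpa [sq] using this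
    obtain ⟨j, hj⟩ := exists_norm_pow k hk hq hQ (c := t⁻¹) (by rw [inv_pow, ht]) (inv_ne_zero h0)
    have step : ∀ c : K, xg c6 53 c ∈ M → xg c6 53 (((k : K) ^ (q + 1))⁻¹ * c) ∈ M := by
      intro c hc
      have := mul_mem (mul_mem hhM hc) (inv_mem hhM)
      rw [hh, hconj 56 36 53 (by decide +kernel) (by decide +kernel) (by decide +kernel),
        show chevE6.pairing 56 53 = -1 by decide +kernel, show chevE6.pairing 36 53 = -1 by decide +kernel,
        zpow_neg_one, zpow_neg_one, ← mul_inv] at this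
      rwa [pow_succ, mul_comm ((k : K) ^ q) (k : K)]
    have hall : ∀ i : ℕ, xg c6 53 ((((k : K) ^ (q + 1))⁻¹) ^ i) ∈ M := by
      intro i
      induction i with
      | zero => rwa [pow_zero]
      | succ i ih => rw [pow_succ']; exact step _ ih
    have := hall j
    rwa [inv_pow, ← hj, inv_inv] at this
  have hP : ∀ t : K, t ^ q = t → (-t) ^ q = -t := fun t ht => by rw [← hf, map_neg, hf, ht]
  have hL : ∀ r ∈ [e6p2, e6m2, e6p4, e6m4], ∀ t : K, t ^ q = t → xg c6 r t ∈ M := by
    intro r hr t ht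
    have key : ∀ js : List ℕ, lettersOK chevE6 (spell alpha js) = true →
        xg c6 (wact (D := chevE6) (spell alpha js) 53) t ∈ M := fun js hjs =>
      set_move c6 (P := fun t : K => t ^ q = t) hP hjs (spell_mem c6 hal3 js) (by decide +kernel) hlong t ht
    simp only [List.mem_cons, List.not_mem_nil, or_false] at hr
    rcases hr with rfl | rfl | rfl | rfl
    · have := key [2, 0, 2, 0] (by decide +kernel)
      rwa [show wact (D := chevE6) (spell alpha [2, 0, 2, 0]) 53 = e6p2 by decide +kernel] at this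
    · have := key [0, 2, 0] (by decide +kernel)
      rwa [show wact (D := chevE6) (spell alpha [0, 2, 0]) 53 = e6m2 by decide +kernel] at this
    · have := key [0] (by decide +kernel)
      rwa [show wact (D := chevE6) (spell alpha [0]) 53 = e6p4 by decide +kernel] at this
    · have := key [0, 1, 0, 1, 0, 0] (by decide +kernel)
      rwa [show wact (D := chevE6) (spell alpha [0, 1, 0, 1, 0, 0]) 53 = e6m4 by decide +kernel] at this
  have hS : ∀ rs ∈ [(e6p1, e6p6), (e6m1, e6m6), (e6p3, e6p5), (e6m3, e6m5)], ∀ t : K, J q rs.1 rs.2 t ∈ M := by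
    intro rs hr
    simp only [List.mem_cons, List.not_mem_nil, or_false] at hr
    rcases hr with rfl | rfl | rfl | rfl
    · exact hJ0
    · exact hneg
    · exact J_move f hf (js := [0]) (al := alpha) (by decide +kernel) hal3 hJ0
    · exact J_move f hf (js := [0, 1]) (al := alpha) (by decide +kernel) hal3 hJ0
  refine gen_le c6 ?_
  rintro w (⟨t, ht, r, hr, rfl⟩ | ⟨t, rs, hr, rfl⟩)
  · simpa [wg] using hL r hr t ht
  · simpa [wg, J] using hS rs hr t


end Aux

/-- The twisted group ²E₆(q) (realised inside E₆ over the field with `q²` elements) is generated by two of its elements. -/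
theorem result {K : Type*} [Field K] [Fintype K] {q : ℕ} (hq : IsPrimePow q) (hK : Fintype.card K = q ^ 2) :
    ∃ a b : ↥(Cfsg.Lie.twistedE6 K q), Subgroup.closure ({a, b} : Set ↥(Cfsg.Lie.twistedE6 K q)) = ⊤ := by
  obtain ⟨f, hf⟩ := TwistedField.exists_frob hK two_ne_zero
  exact generated f hf hK hq.one_lt

end Cfsg.Agent.S2406
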