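import Cfsg.Statements.S2407
import Cfsg.Agent.Lib.TwistSeed98
import Cfsg.Agent.Lib.ChevalleyDataD4
-- import your own Cfsg.Agent.* helpers here

set_option autoImplicit false
open Cfsg

namespace Cfsg.Agent.S2407

open Cfsg.Lie Cfsg.Agent.ChevalleyCert Cfsg.Agent.ChevalleyCore Cfsg.Agent.ChevalleyTorus Cfsg.Agent.TwoGenCert98
  Cfsg.Agent.TwistSeed98 Cfsg.Agent.TwistedTools

/-- the certificate -/
def c4 : Cert chevD4 := ChevalleyDataD4.cert

/-- the Coxeter word of the twisted Weyl group -/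
def wN : List ℕ := [0, 2, 3, 1]

/-- the letters available -/
def alpha : List (List ℕ) := [wN, [0, 2, 3], [1]]

/-- disjointness of two roots -/
def free (a b : ℕ) : Bool :=
  decide (a < chevD4.nroots ∧ b < chevD4.nroots ∧ b ≠ a ∧ b ≠ chevD4.neg a ∧ chevD4.commTerms a b = [])

section Aux

variable {K : Type*} [Field K]

theorem free_comm {a b : ℕ} (h : free a b = true) (t u : K) : Commute (xg c4 a t) (xg c4 b u) := by
  simp only [free, decide_eq_true_eq] at h
  exact TwoGenCert98.commute_xg c4 h.1 h.2.1 h.2.2.1 h.2.2.2.1 h.2.2.2.2 t u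

/-- a triple element of the outer class -/
noncomputable def J (q : ℕ) (t : K) : GL chevD4.Idx K := xg c4 18 t * xg c4 13 (t ^ q) * xg c4 12 (t ^ q ^ 2)

/-- its negative -/
noncomputable def J' (q : ℕ) (t : K) : GL chevD4.Idx K := xg c4 5 t * xg c4 10 (t ^ q) * xg c4 11 (t ^ q ^ 2)

theorem mul3 {a b c a' b' c' : GL chevD4.Idx K} (h1 : Commute a' b) (h2 : Commute a' c) (h3 : Commute b' c) :
    a * b * c * (a' * b' * c') = a * a' * (b * b') * (c * c') := by
  calc a * b * c * (a' * b' * c') = a * b * (c * a') * b' * c' := by group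
    _ = a * (b * a') * (c * b') * c' := by rw [← h2.eq]; group
    _ = _ := by rw [← h1.eq, ← h3.eq]; group

variable {q : ℕ} (f : K →+* K) (hf : ∀ t, f t = t ^ q)
include f hf

theorem pow_q2 (t : K) : t ^ q ^ 2 = f (f t) := by rw [hf, hf, ← pow_mul, pow_two]

theorem J_add (t u : K) : J q t * J q u = J q (t + u) := by
  rw [J, J, J, mul3 (free_comm (by decide +kernel) _ _) (free_comm (by decide +kernel) _ _)
    (free_comm (by decide +kernel) _ _), xg_mul, xg_mul, xg_mul, pow_q2 f hf, pow_q2 f hf, pow_q2 f hf, ← hf, ← hf,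
    ← hf, map_add, map_add]

theorem J_zero : J q (0 : K) = 1 := by
  rw [J, pow_q2 f hf, ← hf, map_zero, map_zero, xg_zero, xg_zero, xg_zero, mul_one, mul_one]

theorem J_inv (t : K) : (J q t)⁻¹ = J q (-t) :=
  inv_eq_of_mul_eq_one_right (by rw [J_add f hf, add_neg_cancel, J_zero f hf])

theorem ntriple_mem {M : Subgroup (GL chevD4.Idx K)} (hp : ∀ t, J q t ∈ M) (hn : ∀ t, J' q t ∈ M) (t : K) :
    ng c4 18 t * ng c4 13 (t ^ q) * ng c4 12 (t ^ q ^ 2) ∈ M := by
  have e1 : -(t ^ q)⁻¹ = (-t⁻¹) ^ q := by rw [← hf, ← hf, map_neg, map_inv₀]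
  have e2 : -(t ^ q ^ 2)⁻¹ = (-t⁻¹) ^ q ^ 2 := by
    rw [pow_q2 f hf, pow_q2 f hf, map_neg, map_inv₀, map_neg, map_inv₀]
  have key : ng c4 18 t * ng c4 13 (t ^ q) * ng c4 12 (t ^ q ^ 2) = J q t * J' q (-t⁻¹) * J q t := by
    rw [J, J', ← e1, ← e2, ng.eq_1, ng.eq_1, ng.eq_1, show chevD4.neg 18 = 5 by decide +kernel,
      show chevD4.neg 13 = 10 by decide +kernel, show chevD4.neg 12 = 11 by decide +kernel]
    set x := xg c4 18 t
    set x' := xg c4 5 (-t⁻¹)
    set y := xg c4 13 (t ^ q)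
    set y' := xg c4 10 (-(t ^ q)⁻¹)
    set z := xg c4 12 (t ^ q ^ 2)
    set z' := xg c4 11 (-(t ^ q ^ 2)⁻¹)
    have a1 : Commute x' y := free_comm (by decide +kernel) _ _
    have a2 : Commute x' z := free_comm (by decide +kernel) _ _
    have a3 : Commute y' z := free_comm (by decide +kernel) _ _
    have b1 : Commute x (y * y') := (free_comm (by decide +kernel) _ _).mul_right (free_comm (by decide +kernel) _ _)
    have b2 : Commute x (z * z') := (free_comm (by decide +kernel) _ _).mul_right (free_comm (by decide +kernel) _ _)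
    have b3 : Commute y (z * z') := (free_comm (by decide +kernel) _ _).mul_right (free_comm (by decide +kernel) _ _)
    rw [mul3 a1 a2 a3, mul3 b1 b2 b3]
  rw [key]
  exact mul_mem (mul_mem (hp _) (hn _)) (hp _)

theorem word_triple {M : Subgroup (GL chevD4.Idx K)} (h : ∀ t, J q t ∈ M) (h' : ∀ t, J' q t ∈ M) :
    nwd c4 [0, 2, 3] ∈ M := by
  have := ntriple_mem f hf h h' 1
  rw [one_pow, one_pow] at this
  simpa [nwd, ns, mul_assoc, show chevD4.simple 0 = 18 by decide +kernel, show chevD4.simple 2 = 13 by decide +kernel,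
    show chevD4.simple 3 = 12 by decide +kernel] using this

variable [Fintype K]

set_option maxHeartbeats 1600000 in
theorem generated (hK : Fintype.card K = q ^ 3) (hq : 1 < q) :
    ∃ a b : ↥(twistedD4 K q), Subgroup.closure ({a, b} : Set ↥(twistedD4 K q)) = ⊤ := by
  obtain ⟨k, hk⟩ := IsCyclic.exists_generator (α := Kˣ)
  have hk0 : (k : K) ≠ 0 := k.ne_zero
  have hk1 : (k : K) ^ q ≠ 0 := pow_ne_zero _ hk0
  have hk2 : (k : K) ^ q ^ 2 ≠ 0 := pow_ne_zero _ hk0
  have hqq : 2 * q ≤ q ^ 2 := by rw [pow_two]; exact Nat.mul_le_mul_right q hq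
  have hq3 : 2 * q ^ 2 ≤ q ^ 3 := by rw [pow_succ' q 2]; exact Nat.mul_le_mul_right _ hq
  have hord : orderOf k = q ^ 3 - 1 := by
    rw [orderOf_eq_card_of_forall_mem_zpowers hk, Nat.card_units, Nat.card_eq_fintype_card, hK]
  have hne : ∀ n : ℕ, 0 < n → n + 1 < q ^ 3 → (k : K) ^ n ≠ 1 := by
    intro n h1 h2 h
    have h3 : k ^ n = 1 := Units.ext (by simpa using h)
    have := Nat.le_of_dvd h1 (orderOf_dvd_of_pow_eq_one h3)
    omega
  have hp3 : ∀ t : K, (t ^ q ^ 2) ^ q = t := fun t => by rw [← pow_mul, ← pow_succ, ← hK, FiniteField.pow_card]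
  have hG1 : ∀ r ∈ [d4p2, d4m2], ∀ t : K, t ^ q = t → xg c4 r t ∈ twistedD4 K q := by
    intro r hr t ht
    have := mem_gen c4 (A := d4Words K q) (Or.inl ⟨t, ht, r, hr, rfl⟩)
    simpa [wg, twistedD4] using this
  have hg18 : ∀ t : K, J q t ∈ twistedD4 K q := fun t => by
    have := mem_gen c4 (A := d4Words K q) (Or.inr ⟨t, (d4p1, d4p3, d4p4), List.mem_cons_self, rfl⟩)
    simpa [wg, twistedD4, J, d4p1, d4p3, d4p4, mul_assoc] using this
  have hg5 : ∀ t : K, J' q t ∈ twistedD4 K q := fun t => by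
    have := mem_gen c4 (A := d4Words K q) (Or.inr ⟨t, (d4m1, d4m3, d4m4), by simp, rfl⟩)
    simpa [wg, twistedD4, J', d4m1, d4m3, d4m4, mul_assoc] using this
  have hn023 : nwd c4 [0, 2, 3] ∈ twistedD4 K q := word_triple f hf hg18 hg5
  have hpm : (1 : K) ^ q = 1 ∧ (-1 : K) ^ q = -1 := ⟨one_pow q, by rw [← hf, map_neg, map_one]⟩
  have hpm2 : (-1 : K) ^ q ^ 2 = -1 := by rw [pow_q2 f hf, map_neg, map_one, map_neg, map_one]
  have hn1 : nwd c4 [1] ∈ twistedD4 K q := by
    have := mul_mem (mul_mem (hG1 d4p2 (by simp) 1 hpm.1) (hG1 d4m2 (by simp) (-1) hpm.2)) (hG1 d4p2 (by simp) 1 hpm.1)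
    simpa [nwd, ns, ng.eq_1, show chevD4.simple 1 = d4p2 by decide +kernel,
      show chevD4.neg d4p2 = d4m2 by decide +kernel] using this
  have hNG : nwd c4 wN ∈ twistedD4 K q := by
    rw [show wN = [0, 2, 3] ++ [1] from rfl, nwd_append]
    exact mul_mem hn023 hn1
  set h := hg c4 18 (k : K) * hg c4 13 ((k : K) ^ q) * hg c4 12 ((k : K) ^ q ^ 2) with hh
  have hhG : h ∈ twistedD4 K q := by
    have h2 := mul_mem (ntriple_mem f hf hg18 hg5 (k : K)) (ntriple_mem f hf hg18 hg5 (-1))
    rw [hpm.2, hpm2] at h2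
    have c : ∀ a b : ℕ, (free a b && free a (chevD4.neg b) && free (chevD4.neg a) b &&
        free (chevD4.neg a) (chevD4.neg b)) = true → ∀ t u : K, Commute (ng c4 a t) (ng c4 b u) := by
      intro a b hab t u
      simp only [Bool.and_eq_true] at hab
      obtain ⟨⟨⟨x1, x2⟩, x3⟩, x4⟩ := hab
      have p : ∀ v, Commute (xg c4 a v) (ng c4 b u) := fun v =>
        ((free_comm x1 v u).mul_right (free_comm x2 v _)).mul_right (free_comm x1 v u)
      have m : ∀ v, Commute (xg c4 (chevD4.neg a) v) (ng c4 b u) := fun v =>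
        ((free_comm x3 v u).mul_right (free_comm x4 v _)).mul_right (free_comm x3 v u)
      exact ((p t).mul_left (m _)).mul_left (p t)
    have e : h = ng c4 18 (k : K) * ng c4 13 ((k : K) ^ q) * ng c4 12 ((k : K) ^ q ^ 2) *
        (ng c4 18 (-1) * ng c4 13 (-1) * ng c4 12 (-1)) := by
      rw [mul3 (c 18 13 (by decide +kernel) _ _) (c 18 12 (by decide +kernel) _ _) (c 13 12 (by decide +kernel) _ _),
        hh, hg, hg, hg]
    rw [e]; exact h2
  have hhiG : xg c4 23 (1 : K) ∈ twistedD4 K q := by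
    have hal : ∀ l ∈ alpha, nwd c4 l ∈ twistedD4 K q := by
      intro l hl
      simp only [alpha, List.mem_cons, List.not_mem_nil, or_false] at hl
      rcases hl with rfl | rfl | rfl <;> assumption
    have h2 := mul_mem (mul_mem (inv_mem (spell_mem c4 hal [0]))
      (hG1 d4p2 (by simp) ((sgnw c4 (spell alpha [0]) 23 : ℤ) : K) (by
        rcases sgnw_cases c4 (spell alpha [0]) 23 with e | e <;> rw [e] <;> push_cast
        exacts [hpm.1, hpm.2]))) (spell_mem c4 hal [0])
    have h3 := conj_xg c4 (F := K) (l := spell alpha [0]) (letters_lt (by decide +kernel)) (r := 23) (by decide +kernel) 1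
    rw [mul_one, show wact (D := chevD4) (spell alpha [0]) 23 = d4p2 by decide +kernel] at h3
    rw [← h3] at h2
    simpa [mul_assoc] using h2
  set x := J q (1 : K) with hx
  set N := nwd c4 (F := K) wN with hN
  suffices hsuf : twistedD4 K q ≤ Subgroup.closure {h * xg c4 23 1, x * N} by
    refine ⟨⟨h * xg c4 23 1, mul_mem hhG hhiG⟩, ⟨x * N, mul_mem (hg18 1) hNG⟩, ?_⟩
    apply Subgroup.map_injective (twistedD4 K q).subtype_injective
    rw [MonoidHom.map_closure, ← MonoidHom.range_eq_map, Subgroup.range_subtype, Set.image_pair]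
    exact le_antisymm ((Subgroup.closure_le _).2 (by
      rintro z (rfl | rfl)
      exacts [mul_mem hhG hhiG, mul_mem (hg18 1) hNG])) hsuf
  set M := Subgroup.closure ({h * xg c4 23 1, x * N} : Set (GL chevD4.Idx K)) with hM
  have hb : x * N ∈ M := Subgroup.subset_closure (Or.inr rfl)
  have hconj : ∀ (u v w r : ℕ), u < chevD4.nroots → v < chevD4.nroots → w < chevD4.nroots → r < chevD4.nroots →
      ∀ t : K, hg c4 u (k : K) * hg c4 v ((k : K) ^ q) * hg c4 w ((k : K) ^ q ^ 2) * xg c4 r t *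
        (hg c4 u (k : K) * hg c4 v ((k : K) ^ q) * hg c4 w ((k : K) ^ q ^ 2))⁻¹ =
        xg c4 r ((k : K) ^ chevD4.pairing u r * ((k : K) ^ q) ^ chevD4.pairing v r *
          ((k : K) ^ q ^ 2) ^ chevD4.pairing w r * t) := by
    intro u v w r hu hv hw hr t
    calc _ = hg c4 u (k : K) * (hg c4 v ((k : K) ^ q) * (hg c4 w ((k : K) ^ q ^ 2) * xg c4 r t *
          (hg c4 w ((k : K) ^ q ^ 2))⁻¹) * (hg c4 v ((k : K) ^ q))⁻¹) * (hg c4 u (k : K))⁻¹ := by group
      _ = _ := by
        rw [hg_conj_xg c4 hw hr hk2, mul_inv_cancel_right, hg_conj_xg c4 hv hr hk1, mul_inv_cancel_right,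
          hg_conj_xg c4 hu hr hk0, mul_inv_cancel_right]
        congr 1; ring
  have hJ : ∀ (u v w : ℕ) (lam : K), u < chevD4.nroots → v < chevD4.nroots → w < chevD4.nroots →
      (k : K) ^ chevD4.pairing u 18 * ((k : K) ^ q) ^ chevD4.pairing v 18 * ((k : K) ^ q ^ 2) ^ chevD4.pairing w 18 = lam →
      (k : K) ^ chevD4.pairing u 13 * ((k : K) ^ q) ^ chevD4.pairing v 13 * ((k : K) ^ q ^ 2) ^ chevD4.pairing w 13 = lam ^ q →
      (k : K) ^ chevD4.pairing u 12 * ((k : K) ^ q) ^ chevD4.pairing v 12 * ((k : K) ^ q ^ 2) ^ chevD4.pairing w 12 =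
        lam ^ q ^ 2 → ∀ t : K,
      hg c4 u (k : K) * hg c4 v ((k : K) ^ q) * hg c4 w ((k : K) ^ q ^ 2) * J q t *
        (hg c4 u (k : K) * hg c4 v ((k : K) ^ q) * hg c4 w ((k : K) ^ q ^ 2))⁻¹ = J q (lam * t) := by
    intro u v w lam hu hv hw e1 e2 e3 t
    rw [J, ← conj_mul, ← conj_mul, hconj u v w 18 hu hv hw (by decide +kernel),
      hconj u v w 13 hu hv hw (by decide +kernel), hconj u v w 12 hu hv hw (by decide +kernel), e1, e2, e3, J,
      mul_pow, mul_pow]
  have hlam : ∀ t : K, h * J q t * h⁻¹ = J q ((k : K) ^ 2 * t) :=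
    hJ 18 13 12 _ (by decide +kernel) (by decide +kernel) (by decide +kernel)
      (by rw [show chevD4.pairing 18 18 = 2 by decide +kernel, show chevD4.pairing 13 18 = 0 by decide +kernel,
            show chevD4.pairing 12 18 = 0 by decide +kernel]; simp [zpow_two, sq])
      (by rw [show chevD4.pairing 18 13 = 0 by decide +kernel, show chevD4.pairing 13 13 = 2 by decide +kernel,
            show chevD4.pairing 12 13 = 0 by decide +kernel]; simp [zpow_two, sq, mul_pow])
      (by rw [show chevD4.pairing 18 12 = 0 by decide +kernel, show chevD4.pairing 13 12 = 0 by decide +kernel,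
            show chevD4.pairing 12 12 = 2 by decide +kernel]; simp [zpow_two, sq, mul_pow])
  set μ := (k : K)⁻¹ * (k : K) ^ q * (k : K) ^ q ^ 2 with hμ
  set h' := hg c4 (wact (D := chevD4) wN 18) (k : K) * hg c4 (wact (D := chevD4) wN 13) ((k : K) ^ q) *
    hg c4 (wact (D := chevD4) wN 12) ((k : K) ^ q ^ 2) with hh'
  have hNh : N * h * N⁻¹ = h' := by
    rw [hh, ← conj_mul, ← conj_mul, hN, nwd_conj_hg c4 (by decide +kernel) (by decide +kernel) hk0,
      nwd_conj_hg c4 (by decide +kernel) (by decide +kernel) hk1,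
      nwd_conj_hg c4 (by decide +kernel) (by decide +kernel) hk2]
  have hq4 : ((k : K) ^ q) ^ q ^ 2 = k := by rw [← pow_mul, ← pow_succ', ← hK, FiniteField.pow_card]
  have hmu : ∀ t : K, h' * J q t * h'⁻¹ = J q (μ * t) :=
    hJ _ _ _ _ (by decide +kernel) (by decide +kernel) (by decide +kernel)
      (by rw [show chevD4.pairing (wact (D := chevD4) wN 18) 18 = -1 by decide +kernel,
            show chevD4.pairing (wact (D := chevD4) wN 13) 18 = 1 by decide +kernel,
            show chevD4.pairing (wact (D := chevD4) wN 12) 18 = 1 by decide +kernel]; simp [hμ])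
      (by rw [show chevD4.pairing (wact (D := chevD4) wN 18) 13 = 1 by decide +kernel,
            show chevD4.pairing (wact (D := chevD4) wN 13) 13 = -1 by decide +kernel,
            show chevD4.pairing (wact (D := chevD4) wN 12) 13 = 1 by decide +kernel]
          have e : ((k : K) ^ q) ^ q = (k : K) ^ q ^ 2 := by rw [← pow_mul, pow_two]
          simp only [hμ, zpow_one, zpow_neg_one, mul_pow, inv_pow, hp3, e]
          ring)
      (by rw [show chevD4.pairing (wact (D := chevD4) wN 18) 12 = 1 by decide +kernel,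
            show chevD4.pairing (wact (D := chevD4) wN 13) 12 = 1 by decide +kernel,
            show chevD4.pairing (wact (D := chevD4) wN 12) 12 = -1 by decide +kernel]
          have e : ((k : K) ^ q ^ 2) ^ q ^ 2 = (k : K) ^ q := by
            rw [← pow_mul, show q ^ 2 * q ^ 2 = q ^ 3 * q by ring, pow_mul, ← hK, FiniteField.pow_card]
          simp only [hμ, zpow_one, zpow_neg_one, mul_pow, inv_pow, hq4, e]
          ring)
  have hcomm : Commute h (xg c4 23 (1 : K)) := by
    have := hconj 18 13 12 23 (by decide +kernel) (by decide +kernel) (by decide +kernel) (by decide +kernel) 1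
    rw [show chevD4.pairing 18 23 = 0 by decide +kernel, show chevD4.pairing 13 23 = 0 by decide +kernel,
      show chevD4.pairing 12 23 = 0 by decide +kernel, zpow_zero, zpow_zero, zpow_zero, one_mul, one_mul, one_mul,
      ← hh, mul_inv_eq_iff_eq_mul] at this
    exact this
  obtain ⟨hhM, hhiM⟩ : h ∈ M ∧ xg c4 23 1 ∈ M := by
    refine TwoGenCert98.split (m := q ^ 3 - 1) (k := q ^ 3) hcomm ?_ ?_ ?_ (Subgroup.subset_closure (Or.inl rfl))
    · have c1 := hg_comm c4 (F := K) (a := 18) (b := 13) (by decide +kernel) (by decide +kernel) hk0 hk1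
      have c2 : Commute (hg c4 18 (k : K) * hg c4 13 ((k : K) ^ q)) (hg c4 12 ((k : K) ^ q ^ 2)) :=
        H_comm c4 (mul_mem (hg_mem_H c4 (by decide +kernel) hk0) (hg_mem_H c4 (by decide +kernel) hk1))
          (hg_mem_H c4 (by decide +kernel) hk2)
      rw [hh, c2.mul_pow, Commute.mul_pow c1, hg_pow c4 (by decide +kernel) hk0, hg_pow c4 (by decide +kernel) hk1,
        hg_pow c4 (by decide +kernel) hk2, ← hK, FiniteField.pow_card_sub_one_eq_one _ hk0,
        FiniteField.pow_card_sub_one_eq_one _ hk1, FiniteField.pow_card_sub_one_eq_one _ hk2,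
        hg_one c4 (by decide +kernel), hg_one c4 (by decide +kernel), hg_one c4 (by decide +kernel), mul_one, mul_one]
    · rw [xg_pow, ← hK, FiniteField.cast_card_eq_zero, zero_mul, xg_zero]
    · exact (Nat.coprime_self_sub_left (by omega)).2 (Nat.coprime_one_left _)
  have hgM : J q (1 - μ) * h' ∈ M := by
    have e : x * N * h * (x * N)⁻¹ = J q (1 - μ) * h' := by
      calc x * N * h * (x * N)⁻¹ = x * (N * h * N⁻¹) * x⁻¹ := by group
        _ = x * (h' * J q (-1) * h'⁻¹) * h' := by rw [hNh, hx, J_inv f hf]; group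
        _ = _ := by rw [hmu, hx, J_add f hf, mul_neg_one, ← sub_eq_add_neg]
    exact e ▸ mul_mem (mul_mem hb hhM) (inv_mem hb)
  have hc0 : J q ((k : K) ^ 2 * (1 - μ) - (1 - μ)) ∈ M := by
    have hcm : h * h' = h' * h := by
      refine H_comm c4 (mul_mem (mul_mem (hg_mem_H c4 ?_ hk0) (hg_mem_H c4 ?_ hk1)) (hg_mem_H c4 ?_ hk2))
        (mul_mem (mul_mem (hg_mem_H c4 ?_ hk0) (hg_mem_H c4 ?_ hk1)) (hg_mem_H c4 ?_ hk2)) <;> decide +kernel
    have h3 := mul_mem (mul_mem (mul_mem hhM hgM) (inv_mem hhM)) (inv_mem hgM)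
    have e : h * (J q (1 - μ) * h') * h⁻¹ * (J q (1 - μ) * h')⁻¹ = h * J q (1 - μ) * h⁻¹ * (J q (1 - μ))⁻¹ := by
      calc h * (J q (1 - μ) * h') * h⁻¹ * (J q (1 - μ) * h')⁻¹
          = h * J q (1 - μ) * (h' * h⁻¹ * h'⁻¹) * (J q (1 - μ))⁻¹ := by group
        _ = _ := by rw [show h' * h⁻¹ * h'⁻¹ = h⁻¹ from by
              rw [mul_inv_eq_iff_eq_mul, eq_inv_mul_iff_mul_eq, ← mul_assoc, hcm, mul_inv_cancel_right]]
    rwa [e, hlam, J_inv f hf, J_add f hf, ← sub_eq_add_neg] at h3
  have hJ0 : ∀ t, J q t ∈ M := by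
    refine scalar_all c4 k hk (S := {t | J q t ∈ M}) ?_ ?_ ?_ ?_ hc0 ?_
    · show J q 0 ∈ M
      rw [J_zero f hf]; exact one_mem _
    · intro a ha b hb'
      show J q (a + b) ∈ M
      rw [← J_add f hf]; exact mul_mem ha hb'
    · intro a ha
      show J q (-a) ∈ M
      rw [← J_inv f hf]; exact inv_mem ha
    · intro c hc
      show J q ((k : K) ^ 2 * c) ∈ M
      rw [← hlam]; exact mul_mem (mul_mem hhM hc) (inv_mem hhM)
    · rw [show (k : K) ^ 2 * (1 - μ) - (1 - μ) = ((k : K) ^ 2 - 1) * (1 - μ) by ring]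
      refine mul_ne_zero (sub_ne_zero.2 (hne 2 two_pos (by omega))) (sub_ne_zero.2 fun e => ?_)
      refine hne (q + q ^ 2 - 1) (by omega) (by omega) ?_
      apply mul_right_cancel₀ hk0
      rw [one_mul, ← pow_succ, Nat.sub_add_cancel (by omega), pow_add]
      rw [hμ, mul_assoc] at e
      exact ((inv_mul_eq_one₀ hk0).1 e.symm).symm
  have hNM : N ∈ M := (Subgroup.mul_mem_cancel_left _ (hJ0 1)).1 hb
  have hneg : ∀ t, J' q t ∈ M := by
    intro t
    have hal : ∀ l ∈ [wN], nwd c4 l ∈ M := by simpa using hNM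
    set l := spell [wN] [0, 0, 0] with hl
    have hlM : nwd c4 (F := K) l ∈ M := spell_mem c4 hal _
    have hu : ∀ u : K, nwd c4 l * J q u * (nwd c4 l)⁻¹ ∈ M := fun u =>
      mul_mem (mul_mem hlM (hJ0 u)) (inv_mem hlM)
    have hu' : ∀ u : K, xg c4 5 ((sgnw c4 l 18 : K) * u) * xg c4 10 ((sgnw c4 l 18 : K) * u ^ q) *
        xg c4 11 ((sgnw c4 l 18 : K) * u ^ q ^ 2) ∈ M := by
      intro u
      have := hu u
      rwa [J, ← conj_mul, ← conj_mul, conj_xg c4 (letters_lt (by decide +kernel)) (by decide +kernel),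
        conj_xg c4 (letters_lt (by decide +kernel)) (by decide +kernel),
        conj_xg c4 (letters_lt (by decide +kernel)) (by decide +kernel),
        show wact (D := chevD4) l 18 = 5 by decide +kernel, show wact (D := chevD4) l 13 = 10 by decide +kernel,
        show wact (D := chevD4) l 12 = 11 by decide +kernel,
        show sgnw c4 l 13 = sgnw c4 l 18 by decide +kernel, show sgnw c4 l 12 = sgnw c4 l 18 by decide +kernel] at this
    rcases sgnw_cases c4 l 18 with e | e
    · have := hu' t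
      rwa [e, Int.cast_one, one_mul, one_mul, one_mul] at this
    · have := hu' (-t)
      have n1 : (-t) ^ q = -(t ^ q) := by rw [← hf, map_neg, hf]
      have n2 : (-t) ^ q ^ 2 = -(t ^ q ^ 2) := by rw [pow_q2 f hf, pow_q2 f hf, map_neg, map_neg]
      rw [e, n1, n2, Int.cast_neg, Int.cast_one, neg_one_mul, neg_one_mul, neg_one_mul, neg_neg, neg_neg, neg_neg] at this
      exact this
  have h023M : nwd c4 [0, 2, 3] ∈ M := word_triple f hf hJ0 hneg
  have hal2 : ∀ l ∈ [wN, [0, 2, 3]], nwd c4 l ∈ M := by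
    intro l hl
    simp only [List.mem_cons, List.not_mem_nil, or_false] at hl
    rcases hl with rfl | rfl <;> assumption
  have hp := pm_move c4 (l := spell [wN, [0, 2, 3]] [0]) (by decide +kernel) (spell_mem c4 hal2 _) (r := 23)
    (by decide +kernel) hhiM
  have hm := pm_move c4 (l := spell [wN, [0, 2, 3]] [1, 0, 0]) (by decide +kernel) (spell_mem c4 hal2 _) (r := 23)
    (by decide +kernel) hhiM
  rw [show wact (D := chevD4) (spell [wN, [0, 2, 3]] [0]) 23 = 14 by decide +kernel] at hp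
  rw [show wact (D := chevD4) (spell [wN, [0, 2, 3]] [1, 0, 0]) 23 = 9 by decide +kernel] at hm
  have h1M : nwd c4 [1] ∈ M := by
    have := mul_mem (mul_mem hp.1 hm.2) hp.1
    simpa [nwd, ns, ng.eq_1, show chevD4.simple 1 = 14 by decide +kernel,
      show chevD4.neg 14 = 9 by decide +kernel] using this
  have hlong : ∀ t : K, t ^ q = t → xg c4 14 t ∈ M := by
    intro t ht
    rcases eq_or_ne t 0 with rfl | h0
    · rw [xg_zero]; exact one_mem _
    have hQ : Fintype.card K - 1 = (q - 1) * (q ^ 2 + q + 1) := by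
      obtain ⟨m, rfl⟩ := Nat.exists_eq_add_of_le hq.le
      rw [hK, Nat.add_sub_cancel_left, Nat.sub_eq_iff_eq_add (Nat.one_le_pow _ _ (by omega))]
      ring
    obtain ⟨j, hj⟩ := exists_norm_pow k hk hq hQ (c := t⁻¹) (by rw [inv_pow, ht]) (inv_ne_zero h0)
    have step : ∀ c : K, xg c4 14 c ∈ M → xg c4 14 (((k : K) ^ (q ^ 2 + q + 1))⁻¹ * c) ∈ M := by
      intro c hc
      have := mul_mem (mul_mem hhM hc) (inv_mem hhM)
      rw [hh, hconj 18 13 12 14 (by decide +kernel) (by decide +kernel) (by decide +kernel) (by decide +kernel),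
        show chevD4.pairing 18 14 = -1 by decide +kernel, show chevD4.pairing 13 14 = -1 by decide +kernel,
        show chevD4.pairing 12 14 = -1 by decide +kernel, zpow_neg_one, zpow_neg_one, zpow_neg_one, ← mul_inv,
        ← mul_inv] at this
      rwa [pow_succ, pow_add, show (k : K) ^ q ^ 2 * (k : K) ^ q * (k : K) = (k : K) * (k : K) ^ q * (k : K) ^ q ^ 2 by ring]
    have hall : ∀ i : ℕ, xg c4 14 ((((k : K) ^ (q ^ 2 + q + 1))⁻¹) ^ i) ∈ M := by
      intro i
      induction i with
      | zero => rw [pow_zero]; exact hp.1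
      | succ i ih => rw [pow_succ']; exact step _ ih
    have := hall j
    rwa [inv_pow, ← hj, inv_inv] at this
  have hP : ∀ t : K, t ^ q = t → (-t) ^ q = -t := fun t ht => by rw [← hf, map_neg, hf, ht]
  refine gen_le c4 ?_
  rintro w (⟨t, ht, r, hr, rfl⟩ | ⟨t, rs, hr, rfl⟩)
  · simp only [List.mem_cons, List.not_mem_nil, or_false] at hr
    rcases hr with rfl | rfl
    · simpa [wg, d4p2] using hlong t ht
    · have := set_move c4 (P := fun t : K => t ^ q = t) hP (l := [1]) (by decide +kernel) h1M (r := 14)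
        (by decide +kernel) hlong t ht
      rw [show wact (D := chevD4) [1] 14 = d4m2 by decide +kernel] at this
      simpa [wg] using this
  · simp only [List.mem_cons, List.not_mem_nil, or_false] at hr
    rcases hr with rfl | rfl
    · simpa [wg, J, d4p1, d4p3, d4p4, mul_assoc] using hJ0 t
    · simpa [wg, J', d4m1, d4m3, d4m4, mul_assoc] using hneg t

end Aux

/-- The twisted group ³D₄(q) (realised inside D₄ over the field with `q³` elements) is generated by two of its elements. -/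
theorem result {K : Type*} [Field K] [Fintype K] {q : ℕ} (hq : IsPrimePow q) (hK : Fintype.card K = q ^ 3) :
    ∃ a b : ↥(Cfsg.Lie.twistedD4 K q), Subgroup.closure ({a, b} : Set ↥(Cfsg.Lie.twistedD4 K q)) = ⊤ := by
  obtain ⟨f, hf⟩ := TwistedField.exists_frob hK three_ne_zero
  exact generated f hf hK hq.one_lt

end Cfsg.Agent.S2407
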