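import Cfsg.Statements.S2408
import Cfsg.Agent.Lib.TwistedF4Torus
import Cfsg.Agent.Lib.TwistSeed98
-- import your own Cfsg.Agent.* helpers here

set_option autoImplicit false
set_option linter.unusedSectionVars false
set_option maxRecDepth 20000
open Cfsg

namespace Cfsg.Agent.S2408

open Cfsg.Lie Cfsg.Agent.ChevalleyCert Cfsg.Agent.ChevalleyCore Cfsg.Agent.ChevalleyTorus Cfsg.Agent.TwoGenCert98
  Cfsg.Agent.TwistSeed98 Cfsg.Agent.TwistedTools Cfsg.Agent.TwistedF4Classes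

/-- the Coxeter word of the twisted Weyl group -/
def wN : List ℕ := [0, 3, 1, 2, 1, 2]

/-- two steps -/
def w2 : List ℕ := wN ++ wN

/-- four steps: the longest element -/
def w4 : List ℕ := w2 ++ w2

/-- a word sends a list of roots to a list of roots -/
def sends (l a b : List ℕ) : Bool :=
  lettersOK chevF4 l && a.all (fun r => decide (r < chevF4.nroots)) && decide (a.map (wact (D := chevF4) l) = b)

/-- the two weights of a root on the one-parameter torus -/
def wts (r : ℕ) : ℕ × ℤ × ℤ := (r, chevF4.cartan 1 r, chevF4.cartan 2 r)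

section Aux

variable {K : Type*} [Field K] [Fintype K] [CharP K 2] {m : ℕ}

local notation "ε" => (2 ^ m : ℕ)

theorem sgn_one (l : List ℕ) (r : ℕ) : ((sgnw cf l r : ℤ) : K) = 1 := by
  rcases sgnw_cases cf l r with e | e <;> rw [e] <;> push_cast <;> simp [CharTwo.neg_eq]

theorem move {l : List ℕ} (hl : lettersOK chevF4 l = true) {r : ℕ} (hr : r < chevF4.nroots) (t : K) :
    nwd cf l * xg cf r t * (nwd cf l)⁻¹ = xg cf (wact (D := chevF4) l r) t := by
  rw [conj_xg cf (letters_lt hl) hr, sgn_one, one_mul]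

theorem move_four {l : List ℕ} {p q r s p' q' r' s' : ℕ} (h : sends l [p, q, r, s] [p', q', r', s'] = true)
    (a b c d : K) : nwd cf l * four [p, q, r, s] a b c d * (nwd cf l)⁻¹ = four [p', q', r', s'] a b c d := by
  simp only [sends, Bool.and_eq_true, decide_eq_true_eq, List.all_cons, List.all_nil, List.map_cons, List.map_nil,
    List.cons.injEq, and_true] at h
  obtain ⟨⟨hl, hp, hq, hr, hs⟩, rfl, rfl, rfl, rfl⟩ := h

  simp only [four, List.getD_cons_zero, List.getD_cons_succ]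
  rw [← move hl hp, ← move hl hq, ← move hl hr, ← move hl hs]
  group

theorem move_two {l : List ℕ} {p q p' q' : ℕ} (h : sends l [p, q] [p', q'] = true) (a b : K) :
    nwd cf l * (xg cf p a * xg cf q b) * (nwd cf l)⁻¹ = xg cf p' a * xg cf q' b := by
  simp only [sends, Bool.and_eq_true, decide_eq_true_eq, List.all_cons, List.all_nil, List.map_cons, List.map_nil,
    List.cons.injEq, and_true] at h
  obtain ⟨⟨hl, hp, hq⟩, rfl, rfl⟩ := h
  rw [← move hl hp, ← move hl hq]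
  group

/-- the value on a root of the one-parameter torus -/
theorem hconj (u : Kˣ) {r : ℕ} {i j : ℤ} (h : wts r = (r, i, j)) (hr : r < chevF4.nroots) (t : K) :
    torus chevF4 (tp m 1 u) * xg cf r t * (torus chevF4 (tp m 1 u))⁻¹ =
      xg cf r ((((u ^ ε) ^ i * u ^ j : Kˣ) : K) * t) := by
  simp only [wts, Prod.mk.injEq, true_and] at h
  rw [torus_conj_xg cf hr, tchar_aux, h.1, h.2]
  simp [tp]

theorem bw_zero : bw (K := K) m bl 0 0 = 1 := by
  simp [bw, four]

variable (hK : Fintype.card K = 2 ^ (2 * m + 1))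
include hK

theorem bw_mul (t u t' u' : K) :
    bw m bl t u * bw m bl t' u' = bw m bl (t + t') (u + u' + t ^ ε * t') := by
  have hadd : ∀ a b : K, (a + b) ^ ε = a ^ ε + b ^ ε := fun a b => add_pow_char_pow a b 2 m
  have hadd2 : ∀ a b : K, (a + b) ^ (ε * 2) = a ^ (ε * 2) + b ^ (ε * 2) := fun a b => by
    rw [← pow_succ]; exact add_pow_char_pow a b 2 (m + 1)
  unfold bw
  rw [four_mul (by simp), hadd, hadd2, hadd2, mul_pow, (pow_twist m hK t).1, pow_succ (t + t') ε, pow_succ t ε, pow_succ t' ε, hadd]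
  congr 1
  · linear_combination (-(t ^ ε * t')) * (CharTwo.two_eq_zero (R := K))
  · rw [← pow_mul t' ε 2]; ring

theorem wN_mem : nwd cf wN ∈ twistedF4 K ε := by
  obtain ⟨e0, e1, e2, e3, -⟩ := roots_eq
  have e : nwd cf wN = cnF (K := K) false * cnF (K := K) true := by
    show _ = ng cf f4p1 1 * ng cf f4p4 1 * (ng cf f4a 1 * ng cf f4b 1 * ng cf f4a 1 * ng cf f4b 1)
    simp [wN, nwd, ns, e0, e1, e2, e3, mul_assoc]
  rw [e]
  exact mul_mem (cnF_mem m false) (cnF_mem m true)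

theorem generated (hm : 1 ≤ m) :
    ∃ a b : ↥(twistedF4 K ε), Subgroup.closure ({a, b} : Set ↥(twistedF4 K ε)) = ⊤ := by
  classical
  obtain ⟨k, hk⟩ := IsCyclic.exists_generator (α := Kˣ)
  have h8 : 3 < 2 ^ (2 * m + 1) :=
    lt_of_lt_of_le (by norm_num) (Nat.pow_le_pow_right two_pos (show 3 ≤ 2 * m + 1 by omega))
  have hk1 : (k : K) + 1 ≠ 0 := by
    rw [← CharTwo.sub_eq_add, sub_ne_zero]
    intro h
    obtain rfl : k = 1 := Units.ext (by simpa using h)
    have := orderOf_eq_card_of_forall_mem_zpowers hk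
    rw [orderOf_one, Nat.card_units, Nat.card_eq_fintype_card, hK] at this
    omega
  set h := torus chevF4 (tp m 1 k⁻¹) with hh
  set N := nwd cf (F := K) wN with hN
  have hP : ∀ t : K, h * pr (t ^ ε) t * h⁻¹ = pr (((k : K) * t) ^ ε) ((k : K) * t) := by
    intro t
    have a1 := hconj (m := m) k⁻¹ (r := f4p1) (i := -1) (j := 0) (by decide +kernel) (by decide +kernel) (t ^ ε)
    have a2 := hconj (m := m) k⁻¹ (r := f4p4) (i := 0) (j := -1) (by decide +kernel) (by decide +kernel) t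
    rw [← hh] at a1 a2
    calc _ = h * xg cf f4p1 (t ^ ε) * h⁻¹ * (h * xg cf f4p4 t * h⁻¹) := by unfold pr; group
      _ = _ := by rw [a1, a2]; unfold pr; simp [mul_pow]
  have hQ : ∀ t : K, h * (xg cf 10 (t ^ ε) * xg cf 15 t) * h⁻¹ =
      xg cf 10 (((k : K) * t) ^ ε) * xg cf 15 ((k : K) * t) := by
    intro t
    have a1 := hconj (m := m) k⁻¹ (r := 10) (i := -1) (j := 0) (by decide +kernel) (by decide +kernel) (t ^ ε)
    have a2 := hconj (m := m) k⁻¹ (r := 15) (i := 0) (j := -1) (by decide +kernel) (by decide +kernel) t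
    rw [← hh] at a1 a2
    calc _ = h * xg cf 10 (t ^ ε) * h⁻¹ * (h * xg cf 15 t * h⁻¹) := by group
      _ = _ := by rw [a1, a2]; simp [mul_pow]
  set β : Kˣ := (k ^ ε * k⁻¹) ^ 2 with hβ
  have hβe : ((k⁻¹ : Kˣ) ^ ε) ^ (2 : ℤ) * (k⁻¹) ^ (-1 : ℤ) = β ^ ε := by
    have e : ((k ^ ε) ^ 2) ^ ε = k := by rw [← pow_mul (k ^ ε), mul_comm 2 ε]; exact (units_twist m hK k).1
    rw [hβ, mul_pow, mul_pow, e, zpow_neg_one, inv_inv, mul_comm]
    congr 1
    rw [zpow_ofNat, ← pow_mul, ← pow_mul, mul_comm ε 2]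
  have hβ2 : ((k⁻¹ : Kˣ) ^ ε) ^ (-2 : ℤ) * (k⁻¹) ^ (2 : ℤ) = β := by
    rw [hβ, mul_pow, zpow_neg, zpow_ofNat, zpow_ofNat, ← inv_pow, ← inv_pow, inv_inv]
  have hβ1 : β ^ (ε + 1) = k⁻¹ := by
    rw [pow_succ, ← hβe, ← hβ2, mul_mul_mul_comm, ← zpow_add, ← zpow_add]
    simp
  have hB : ∀ t u : K, h * bw m bl t u * h⁻¹ = bw m bl ((β : K) * t) (((k : K))⁻¹ * u) := by
    intro t u
    have a1 := hconj (m := m) k⁻¹ (r := f4a) (i := 2) (j := -1) (by decide +kernel) (by decide +kernel) (t ^ ε)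
    have a2 := hconj (m := m) k⁻¹ (r := f4b) (i := -2) (j := 2) (by decide +kernel) (by decide +kernel) t
    have a3 := hconj (m := m) k⁻¹ (r := f4ab) (i := 0) (j := 1) (by decide +kernel) (by decide +kernel)
      (t ^ (ε + 1) + u)
    have a4 := hconj (m := m) k⁻¹ (r := f4aab) (i := 2) (j := 0) (by decide +kernel) (by decide +kernel) (u ^ (ε * 2))
    rw [← hh] at a1 a2 a3 a4
    rw [hβe] at a1
    rw [hβ2] at a2
    have c1 : ((β : K)) ^ (ε + 1) = (k : K)⁻¹ := by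
      rw [← Units.val_pow_eq_pow_val, hβ1, Units.val_inv_eq_inv_val]
    calc _ = h * xg cf f4a (t ^ ε) * h⁻¹ * (h * xg cf f4b t * h⁻¹) * (h * xg cf f4ab (t ^ (ε + 1) + u) * h⁻¹) *
          (h * xg cf f4aab (u ^ (ε * 2)) * h⁻¹) := by
          show h * (xg cf f4a _ * xg cf f4b _ * xg cf f4ab _ * xg cf f4aab _) * h⁻¹ = _
          group
      _ = _ := by
        rw [a1, a2, a3, a4]
        unfold bw four
        simp only [List.getD_cons_zero, List.getD_cons_succ, mul_pow, c1, zpow_zero, one_mul, zpow_one, mul_one,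
          zpow_ofNat, Units.val_pow_eq_pow_val, Units.val_inv_eq_inv_val, mul_add, ← pow_mul, mul_zero, pow_zero, Units.val_one, pow_one, one_mul, Units.val_mul]
  set u0 := four [18, 6, 3, 0] (1 : K) 1 1 0 with hu0
  have hb1 : bw m bl (1 : K) 0 = four bl 1 1 1 0 := by simp [bw]
  have hu0e : nwd cf w2 * bw m bl (1 : K) 0 * (nwd cf w2)⁻¹ = u0 := by
    rw [hb1]; exact move_four (by decide +kernel) _ _ _ _
  have hcomm : Commute h u0 := by
    have z : ∀ r ∈ [18, 6, 3, 0], ∀ t : K, h * xg cf r t * h⁻¹ = xg cf r t := by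
      intro r hr t
      have key : ∀ r ∈ [18, 6, 3, 0], r < chevF4.nroots ∧ wts r = (r, 0, 0) := by decide +kernel
      rw [hh, hconj k⁻¹ (key r hr).2 (key r hr).1]
      simp
    refine mul_inv_eq_iff_eq_mul.1 ?_
    calc h * u0 * h⁻¹ = h * xg cf 18 1 * h⁻¹ * (h * xg cf 6 1 * h⁻¹) * (h * xg cf 3 1 * h⁻¹) *
          (h * xg cf 0 0 * h⁻¹) := by
          show h * (xg cf 18 _ * xg cf 6 _ * xg cf 3 _ * xg cf 0 _) * h⁻¹ = _
          group
      _ = _ := by rw [z _ (by simp), z _ (by simp), z _ (by simp), z _ (by simp)]; rfl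
  have hNG : N ∈ twistedF4 K ε := wN_mem hK
  have hxG : pr (1 : K) 1 ∈ twistedF4 K ε := by simpa using (gens_mem (K := K) m 1 1).1
  have hw2G : nwd cf w2 ∈ twistedF4 K ε := by rw [w2, nwd_append]; exact mul_mem hNG hNG
  have hu0G : u0 ∈ twistedF4 K ε :=
    hu0e ▸ mul_mem (mul_mem hw2G (gens_mem (K := K) m 1 0).2.2.1) (inv_mem hw2G)
  have hhG : h ∈ twistedF4 K ε := torus_tp_mem m hK 1 k⁻¹
  suffices hsuf : twistedF4 K ε ≤ Subgroup.closure {h * u0, pr (1 : K) 1 * N} by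
    refine ⟨⟨h * u0, mul_mem hhG hu0G⟩, ⟨pr (1 : K) 1 * N, mul_mem hxG hNG⟩, ?_⟩
    apply Subgroup.map_injective (twistedF4 K ε).subtype_injective
    rw [MonoidHom.map_closure, ← MonoidHom.range_eq_map, Subgroup.range_subtype, Set.image_pair]
    exact le_antisymm ((Subgroup.closure_le _).2 (by
      rintro z (rfl | rfl)
      exacts [mul_mem hhG hu0G, mul_mem hxG hNG])) hsuf
  set M := Subgroup.closure ({h * u0, pr (1 : K) 1 * N} : Set (GL chevF4.Idx K)) with hM
  have hb : pr (1 : K) 1 * N ∈ M := Subgroup.subset_closure (Or.inr rfl)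
  obtain ⟨hhM, hu0M⟩ : h ∈ M ∧ u0 ∈ M := by
    refine TwoGenCert98.split (m := 2 ^ (2 * m + 1) - 1) (k := 4) hcomm ?_ ?_ ?_ (Subgroup.subset_closure (Or.inl rfl))
    · have e : (tp m 1 k⁻¹) ^ (2 ^ (2 * m + 1) - 1) = 1 := by
        funext i
        rw [Pi.pow_apply, Pi.one_apply, ← hK, ← Fintype.card_units, pow_card_eq_one]
      rw [hh, ← map_pow, e, map_one]
    · have e : bw m bl (1 : K) 0 ^ 4 = 1 := by
        rw [pow_succ, pow_succ, pow_succ, pow_one, bw_mul hK, bw_mul hK, bw_mul hK, CharTwo.add_self_eq_zero,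
          zero_pow_eps]
        simp [CharTwo.add_self_eq_zero, bw_zero]
      rw [← hu0e, conj_pow, e, mul_one, mul_inv_cancel]
    · have : Odd (2 ^ (2 * m + 1) - 1) := Nat.Even.sub_odd (by omega) (Nat.even_pow.2 ⟨even_two, by omega⟩) odd_one
      exact (Nat.coprime_two_right.2 this).pow_right 2
  set h' := N * h * N⁻¹ with hh'
  have hh'P : ∀ t : K, h' * pr (t ^ ε) t * h'⁻¹ = pr (((k : K) * t) ^ ε) ((k : K) * t) := by
    intro t
    have e : ∀ a b : K, N * (xg cf 10 a * xg cf 15 b) * N⁻¹ = pr a b := fun a b =>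
      move_two (p' := f4p1) (q' := f4p4) (by decide +kernel) a b
    rw [← e, ← e, ← hQ, hh']
    group
  have hh'H : h * h' = h' * h := by
    have es : tp m 1 k⁻¹ = Pi.mulSingle (nd 1) ((k⁻¹ : Kˣ) ^ ε) * Pi.mulSingle (nd 2) k⁻¹ := by
      funext i
      have hi : i = nd 0 ∨ i = nd 1 ∨ i = nd 2 ∨ i = nd 3 := by revert i; decide
      rcases hi with rfl | rfl | rfl | rfl <;> simp [tp]
    have hsp : h = hg cf (chevF4.simple 1) (((k⁻¹ : Kˣ) ^ ε : Kˣ) : K) * hg cf (chevF4.simple 2) ((k⁻¹ : Kˣ) : K) := by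
      rw [hh, es, map_mul, ← hg_simple cf, ← hg_simple cf]
    refine H_comm cf (hsp ▸ mul_mem (hg_mem_H cf (by decide +kernel) (Units.ne_zero _))
      (hg_mem_H cf (by decide +kernel) (Units.ne_zero _))) ?_
    rw [hh', hsp, hN, ← conj_mul, nwd_conj_hg cf (by decide +kernel) (by decide +kernel) (Units.ne_zero _),
      nwd_conj_hg cf (by decide +kernel) (by decide +kernel) (Units.ne_zero _)]
    exact mul_mem (hg_mem_H cf (by decide +kernel) (Units.ne_zero _))
      (hg_mem_H cf (by decide +kernel) (Units.ne_zero _))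
  have padd : ∀ a b : K, pr (a ^ ε) a * pr (b ^ ε) b = pr ((a + b) ^ ε) (a + b) := fun a b => by
    rw [pr_mul, add_pow_char_pow a b 2 m]
  have pinv : ∀ a : K, (pr (a ^ ε) a)⁻¹ = pr (a ^ ε) a := fun a =>
    inv_eq_of_mul_eq_one_right (by rw [padd, CharTwo.add_self_eq_zero, zero_pow_eps]; simp [pr])
  have hgM : pr ((1 + (k : K)) ^ ε) (1 + (k : K)) * h' ∈ M := by
    have e : pr (1 : K) 1 * N * h * (pr (1 : K) 1 * N)⁻¹ = pr ((1 + (k : K)) ^ ε) (1 + (k : K)) * h' := by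
      have x1 : pr (1 : K) 1 = pr ((1 : K) ^ ε) 1 := by rw [one_pow]
      calc _ = pr (1 : K) 1 * (h' * (pr (1 : K) 1)⁻¹ * h'⁻¹) * h' := by rw [hh']; group
        _ = _ := by rw [x1, pinv, hh'P, mul_one, padd]
    exact e ▸ mul_mem (mul_mem hb hhM) (inv_mem hb)
  have hc0 : pr ((((k : K) + 1) * (1 + (k : K))) ^ ε) (((k : K) + 1) * (1 + (k : K))) ∈ M := by
    have h3 := mul_mem (mul_mem (mul_mem hhM hgM) (inv_mem hhM)) (inv_mem hgM)
    set c := 1 + (k : K)
    have e : h * (pr (c ^ ε) c * h') * h⁻¹ * (pr (c ^ ε) c * h')⁻¹ = h * pr (c ^ ε) c * h⁻¹ * (pr (c ^ ε) c)⁻¹ := by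
      calc _ = h * pr (c ^ ε) c * (h' * h⁻¹ * h'⁻¹) * (pr (c ^ ε) c)⁻¹ := by group
        _ = _ := by rw [show h' * h⁻¹ * h'⁻¹ = h⁻¹ from by
              rw [mul_inv_eq_iff_eq_mul, eq_inv_mul_iff_mul_eq, ← mul_assoc, hh'H, mul_inv_cancel_right]]
    rw [e, hP, pinv, padd] at h3
    rwa [add_mul, one_mul]
  have hPall : ∀ t : K, pr (t ^ ε) t ∈ M := by
    refine scalar_all cf k hk (S := {t | pr (t ^ ε) t ∈ M}) ?_ ?_ ?_ ?_ hc0 ?_
    · show pr ((0 : K) ^ ε) 0 ∈ M
      rw [zero_pow_eps]; simp [pr, one_mem]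
    · intro a ha b hb'
      show pr ((a + b) ^ ε) (a + b) ∈ M
      rw [← padd]; exact mul_mem ha hb'
    · intro a ha
      show pr ((-a) ^ ε) (-a) ∈ M
      rw [CharTwo.neg_eq]; exact ha
    · intro c hc
      have step : ∀ c : K, pr (c ^ ε) c ∈ M → pr (((k : K) * c) ^ ε) ((k : K) * c) ∈ M := fun c hc =>
        hP c ▸ mul_mem (mul_mem hhM hc) (inv_mem hhM)
      show pr (((k : K) ^ 2 * c) ^ ε) ((k : K) ^ 2 * c) ∈ M
      rw [pow_two, mul_assoc]
      exact step _ (step _ hc)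
    · exact mul_ne_zero hk1 (by rwa [add_comm])
  have hNM : N ∈ M := by
    have := (Subgroup.mul_mem_cancel_left _ (by simpa using hPall 1)).1 hb
    exact this
  have hw2M : nwd cf w2 ∈ M := by rw [w2, nwd_append]; exact mul_mem hNM hNM
  have hbM : bw m bl (1 : K) 0 ∈ M := by
    have := mul_mem (mul_mem (inv_mem hw2M) hu0M) hw2M
    rw [← hu0e] at this
    simpa [mul_assoc] using this
  have hscale : ∀ t u : K, bw m bl t u ∈ M → bw m bl ((β : K) * t) ((k : K)⁻¹ * u) ∈ M := fun t u h' =>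
    hB t u ▸ mul_mem (mul_mem hhM h') (inv_mem hhM)
  have hki : ∀ x : Kˣ, x ∈ Subgroup.zpowers k⁻¹ := fun x => by rw [Subgroup.zpowers_inv]; exact hk x
  have hcen : ∀ u : K, bw m bl 0 u ∈ M := by
    refine scalar_all cf k⁻¹ hki (S := {u | bw m bl 0 u ∈ M}) ?_ ?_ ?_ ?_ (c₀ := 1) ?_ one_ne_zero
    · show bw m bl 0 0 ∈ M
      rw [bw_zero]; exact one_mem _
    · intro a ha b hb'
      show bw m bl 0 (a + b) ∈ M
      have := mul_mem (show bw m bl 0 a ∈ M from ha) (show bw m bl 0 b ∈ M from hb')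
      rwa [bw_mul hK, zero_pow_eps, zero_mul, add_zero, add_zero] at this
    · intro a ha
      show bw m bl 0 (-a) ∈ M
      rwa [CharTwo.neg_eq]
    · intro c hc
      show bw m bl 0 (((k⁻¹ : Kˣ) : K) ^ 2 * c) ∈ M
      have := hscale _ _ (hscale _ _ (show bw m bl 0 c ∈ M from hc))
      rwa [mul_zero, mul_zero, ← mul_assoc, ← pow_two, ← Units.val_inv_eq_inv_val] at this
    · have := mul_mem hbM hbM
      rwa [bw_mul hK, CharTwo.add_self_eq_zero, one_pow, one_mul, add_zero, zero_add] at this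
  have hfirst : ∀ t : K, ∃ u, bw m bl t u ∈ M := by
    have step : ∀ (n : ℕ) (c : K), (∃ u, bw m bl c u ∈ M) → ∃ u, bw m bl ((β : K) ^ n * c) u ∈ M := by
      intro n c hc
      induction n with
      | zero => simpa using hc
      | succ n ih =>
        obtain ⟨u, hu⟩ := ih
        exact ⟨(k : K)⁻¹ * u, by rw [pow_succ', mul_assoc]; exact hscale _ _ hu⟩
    refine scalar_all cf k⁻¹ hki (S := {t | ∃ u, bw m bl t u ∈ M}) ?_ ?_ ?_ ?_ (c₀ := 1) ⟨0, hbM⟩ one_ne_zero
    · exact ⟨0, by rw [bw_zero]; exact one_mem _⟩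
    · rintro a ⟨u, hu⟩ b ⟨v, hv⟩
      exact ⟨u + v + a ^ ε * b, by rw [← bw_mul hK]; exact mul_mem hu hv⟩
    · rintro a ha
      rwa [CharTwo.neg_eq]
    · intro c hc
      show ∃ u, bw m bl (((k⁻¹ : Kˣ) : K) ^ 2 * c) u ∈ M
      rw [← hβ1, Units.val_pow_eq_pow_val, ← pow_mul]
      exact step _ c hc
  have hBall : ∀ t u : K, bw m bl t u ∈ M := by
    intro t u
    obtain ⟨v, hv⟩ := hfirst t
    have := mul_mem hv (hcen (v + u))
    rwa [bw_mul hK, add_zero, mul_zero, add_zero, ← add_assoc, CharTwo.add_self_eq_zero, zero_add] at this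
  have hw4M : nwd cf w4 ∈ M := by rw [w4, nwd_append]; exact mul_mem hw2M hw2M
  refine gen_le cf ?_
  rintro w (⟨t, rfl | rfl⟩ | ⟨t, u, rfl | rfl⟩)
  · rw [(gens m t t).1]; exact hPall t
  · rw [(gens m t t).2.1]
    have e : nwd cf w4 * pr (t ^ ε) t * (nwd cf w4)⁻¹ = prn (t ^ ε) t :=
      move_two (p' := f4m1) (q' := f4m4) (by decide +kernel) _ _
    rw [← e]
    exact mul_mem (mul_mem hw4M (hPall t)) (inv_mem hw4M)
  · rw [(gens m t u).2.2.1]; exact hBall t u
  · rw [(gens m t u).2.2.2]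
    have e : nwd cf w4 * bw m bl t u * (nwd cf w4)⁻¹ = bw m bln t u :=
      move_four (by decide +kernel) _ _ _ _
    rw [← e]
    exact mul_mem (mul_mem hw4M (hBall t u)) (inv_mem hw4M)

end Aux

/-- The large Ree group ²F₄(2^(2m+1)) with `m ≥ 1` is generated by two of its elements. -/
theorem result {K : Type*} [Field K] [Fintype K] {m : ℕ} (hm : 1 ≤ m) (hK : Fintype.card K = 2 ^ (2 * m + 1)) :
    ∃ a b : ↥(Cfsg.Lie.twistedF4 K (2 ^ m)), Subgroup.closure ({a, b} : Set ↥(Cfsg.Lie.twistedF4 K (2 ^ m))) = ⊤ := by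
  have := TwistedF4Classes.charP_two m hK
  exact generated hK hm

end Cfsg.Agent.S2408
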