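import Cfsg.Statements.S2410
import Cfsg.Agent.Lib.SuzukiGroupTI
-- import your own Cfsg.Agent.* helpers here

set_option autoImplicit false
open Cfsg

namespace Cfsg.Agent.S2410

open Cfsg.Agent.SuzukiGroupStructure
open scoped Pointwise

/-- The Suzuki group over the field with `2^(2m+1)` elements, `m ≥ 1` (realised as the stabiliser in `SL₄` of the Suzuki–Tits ovoid), is generated by two of its elements. -/
theorem result {F : Type*} [Field F] [Fintype F] {m : ℕ} (hm : 1 ≤ m) (hF : Fintype.card F = 2 ^ (2 * m + 1)) :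
    ∃ a b : ↥(Cfsg.Sz F m), Subgroup.closure ({a, b} : Set ↥(Cfsg.Sz F m)) = ⊤ := by
  have := SuzukiGroupBasic.Param.mk' (F := F) (m := m) hm hF
  have := SuzukiGroupBasic.charTwo (F := F) (m := m)
  obtain ⟨g, hg⟩ := IsCyclic.exists_generator (α := Fˣ)
  refine ⟨Hs g, Ts 1 0 * Ws, ?_⟩
  set M := Subgroup.closure ({Hs g, Ts 1 0 * Ws} : Set ↥(Cfsg.Sz F m)) with hM
  have ha : (Hs g : ↥(Cfsg.Sz F m)) ∈ M := Subgroup.subset_closure (Set.mem_insert _ _)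
  have hb : (Ts 1 0 * Ws : ↥(Cfsg.Sz F m)) ∈ M :=
    Subgroup.subset_closure (Set.mem_insert_of_mem _ rfl)
  have hH : ∀ k : Fˣ, (Hs k : ↥(Cfsg.Sz F m)) ∈ M := by
    intro k
    obtain ⟨i, hi⟩ := hg k
    subst hi
    have := zpow_mem ha i
    rwa [show (Hs g : ↥(Cfsg.Sz F m)) ^ i = Hs (g ^ i) from (map_zpow torusHom g i).symm] at this
  have hTH : ∀ k : Fˣ, (Ts 1 0 * Hs k * (Ts 1 0)⁻¹ : ↥(Cfsg.Sz F m)) ∈ M := by
    intro k
    have h := mul_mem (mul_mem hb (hH k⁻¹)) (inv_mem hb)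
    have e : (Ts 1 0 * Ws : ↥(Cfsg.Sz F m)) * Hs k⁻¹ * (Ts 1 0 * Ws)⁻¹ =
        Ts 1 0 * (Ws * Hs k⁻¹ * Ws⁻¹) * (Ts 1 0)⁻¹ := by group
    rw [e, Ws_Hs, inv_inv] at h
    exact h
  have hU1 : ∀ k : Fˣ, ∃ d : F, (Ts (1 + (k : F)) d : ↥(Cfsg.Sz F m)) ∈ M := by
    intro k
    have h := mul_mem (hTH k) (inv_mem (hH k))
    rw [show (Ts 1 0 * Hs k * (Ts 1 0)⁻¹ : ↥(Cfsg.Sz F m)) * (Hs k)⁻¹ =
      Ts 1 0 * (Hs k * (Ts 1 0)⁻¹ * (Hs k)⁻¹) by group, Ts_inv, Hs_Ts, Ts_mul, mul_one] at h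
    exact ⟨_, h⟩
  obtain ⟨k₀, hk0, hk1⟩ := SuzukiGroupBasic.exists_ne_zero_one (F := F) (m := m)
  have hne : 1 + k₀ ≠ 0 := fun e => hk1 (CharTwo.add_eq_zero.mp e).symm
  have hU2 : ∀ u : F, ∃ d : F, (Ts u d : ↥(Cfsg.Sz F m)) ∈ M := by
    intro u
    rcases eq_or_ne u 0 with rfl | hu
    · exact ⟨0, by rw [Ts_zero]; exact one_mem M⟩
    obtain ⟨d, hd⟩ := hU1 (Units.mk0 k₀ hk0)
    let l : Fˣ := Units.mk0 (u / (1 + k₀)) (div_ne_zero hu hne)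
    have h := mul_mem (mul_mem (hH l) hd) (inv_mem (hH l))
    rw [Hs_Ts] at h
    exact ⟨_, by simpa [l, div_mul_cancel₀ _ hne] using h⟩
  have hU0 : ∀ b : F, (Ts 0 b : ↥(Cfsg.Sz F m)) ∈ M := by
    intro b
    obtain ⟨u, hu⟩ := exists_mul_sg (m := m) b
    obtain ⟨d, hd⟩ := hU2 u
    have h := pow_mem hd 2
    rwa [Ts_sq, mul_comm, hu] at h
  have hU : ∀ a b : F, (Ts a b : ↥(Cfsg.Sz F m)) ∈ M := by
    intro a b
    obtain ⟨d, hd⟩ := hU2 a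
    have h := mul_mem hd (hU0 (d + b))
    rwa [Ts_mul, add_zero, mul_zero, add_zero, ← add_assoc, CharTwo.add_self_eq_zero, zero_add]
      at h
  have hW : (Ws : ↥(Cfsg.Sz F m)) ∈ M := by
    have h := mul_mem (inv_mem (hU 1 0)) hb
    rwa [inv_mul_cancel_left] at h
  rw [eq_top_iff]
  intro x _
  have hB : ∀ y : ↥(Cfsg.Sz F m), y • Cfsg.suzukiPointInfinity F = Cfsg.suzukiPointInfinity F → y ∈ M := by
    intro y hy
    obtain ⟨a, b, l, rfl⟩ := fix_inf_iff.mp hy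
    exact mul_mem (hU a b) (hH l)
  rcases bruhat x with h | ⟨a, b, h, hh, rfl⟩
  · exact hB x h
  · exact mul_mem (mul_mem (hU a b) hW) (hB h hh)

end Cfsg.Agent.S2410
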