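import Cfsg.Statements.S2413
import Cfsg.Agent.Lib.TwoGenOrthogonalStd
import Cfsg.Agent.S0301
import Cfsg.Agent.S2411

set_option autoImplicit false
open Cfsg

namespace Cfsg.Agent.S2413

/-- The simple orthogonal group `PΩ_{2m+1}(q)` (commutator subgroup of the orthogonal group of `x₀² + Σ x_i y_i` modulo its centre) with `m ≥ 2` and `q` odd is generated by two of its elements. -/
theorem result {F : Type*} [Field F] [Fintype F] (hodd : Odd (Fintype.card F)) (m : ℕ) (hm : 2 ≤ m) :
    ∃ a b : Cfsg.POmega F (Cfsg.quadFormOdd m F), Subgroup.closure ({a, b} : Set (Cfsg.POmega F (Cfsg.quadFormOdd m F))) = ⊤ := by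
  have h2 := Cfsg.Agent.OrthUnitaryForms.two_ne_zero_of_odd rfl hodd
  rcases hm.eq_or_lt with h | h
  · subst h
    have hq : 2 < Fintype.card F := by
      have := Fintype.one_lt_card (α := F)
      rcases hodd with ⟨j, hj⟩
      omega
    obtain ⟨ψ⟩ := Cfsg.Agent.S0301.result (F := F) hodd
    obtain ⟨a, b, hab⟩ := Cfsg.Agent.S2411.result (F := F) 2 le_rfl fun _ => hq
    refine ⟨ψ.symm a, ψ.symm b, ?_⟩
    have := congrArg (Subgroup.map ψ.symm.toMonoidHom) hab
    rw [MonoidHom.map_closure, Set.image_pair] at this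
    exact this.trans (Subgroup.map_top_of_surjective _ ψ.symm.surjective)
  · exact Cfsg.Agent.TwoGenOrthogonalStd.odd h h2

end Cfsg.Agent.S2413
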