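import Cfsg.Statements.S2418
import Cfsg.Agent.Lib.CoxeterWeyl
import Cfsg.Agent.Lib.CoxeterCenter
import Cfsg.Agent.Lib.CoxeterCenterData

set_option autoImplicit false
open Cfsg

namespace Cfsg.Agent.S2418

open Cfsg.Agent.CoxeterTables Cfsg.Agent.CoxeterData Cfsg.Agent.CoxeterWeyl Cfsg.Agent.CoxeterCenter
  Cfsg.Agent.CoxeterCenterData

theorem center_of_check {n : ℕ} {C : CoxeterMatrix (Fin n)} {P : List ℕ} {R : ℕ} {Ls : List Level}
    (hA : actOK C P R = true) (hC : chainOK (natMatrix C) P R (List.range n) Ls = true)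
    {reps : List ℕ} {paths : List (ℕ × List ℕ)} {fx : List (List (List ℕ))} {k : ℕ}
    (hZ : centreOK P R n Ls reps paths fx k = true) (hne : permList P R (cPow n k) ≠ List.range R) :
    Nat.card (Subgroup.center C.Group) = 2 ∧
      Subgroup.center C.Group ≤ Subgroup.zpowers ((List.finRange n).map C.simple).prod := by
  have h := centre_eq hA hC hZ
  refine ⟨?_, fun z hz => ?_⟩
  · rw [← SetLike.coe_sort_coe, Nat.card_coe_set_eq, h]
    exact Set.ncard_pair (cPow_ne_one hA hC hne).symm
  · rw [← SetLike.mem_coe, h] at hz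
    rcases hz with rfl | hz
    · exact one_mem _
    · rw [Set.mem_singleton_iff] at hz
      rw [hz]
      exact pow_mem (Subgroup.mem_zpowers _) k

theorem center_of_check_trivial {n : ℕ} {C : CoxeterMatrix (Fin n)} {P : List ℕ} {R : ℕ}
    {Ls : List Level} (hA : actOK C P R = true)
    (hC : chainOK (natMatrix C) P R (List.range n) Ls = true)
    {reps : List ℕ} {paths : List (ℕ × List ℕ)} {fx : List (List (List ℕ))}
    (hZ : centreOK P R n Ls reps paths fx 0 = true) :
    Nat.card (Subgroup.center C.Group) = 1 ∧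
      Subgroup.center C.Group ≤ Subgroup.zpowers ((List.finRange n).map C.simple).prod := by
  have h : Subgroup.center C.Group = ⊥ := SetLike.coe_injective (by
    rw [centre_eq hA hC hZ, pow_zero, Set.pair_eq_singleton, Subgroup.coe_bot])
  rw [h]
  exact ⟨Subgroup.card_bot, bot_le⟩

theorem b2_centre : centreOK b2Perm 8 2 b2Chain b2Reps b2Paths b2Fix 2 = true := by decide +kernel
theorem g2_centre : centreOK g2Perm 12 2 g2Chain g2Reps g2Paths g2Fix 3 = true := by decide +kernel
theorem d4_centre : centreOK d4Perm 24 4 d4Chain d4Reps d4Paths d4Fix 3 = true := by decide +kernel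
theorem f4_centre : centreOK f4Perm 48 4 f4Chain f4Reps f4Paths f4Fix 6 = true := by decide +kernel
theorem e6_centre : centreOK e6Perm 72 6 e6Chain e6Reps e6Paths e6Fix 0 = true := by decide +kernel
theorem e7_centre : centreOK e7Perm 126 7 e7Chain e7Reps e7Paths e7Fix 9 = true := by decide +kernel
theorem e8_centre : centreOK e8Perm 240 8 e8Chain e8Reps e8Paths e8Fix 15 = true := by decide +kernel


/-- For the Coxeter groups of types B₂, G₂, D₄, F₄, E₇, E₈ the centre has order 2 (the element acting as −1 on the root system) and is generated by a power of the Coxeter element `s₁ s₂ ⋯ s_l`; the Coxeter group of type E₆ has trivial centre. -/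
theorem result (c : (Σ n : ℕ, CoxeterMatrix (Fin n)) × ℕ)
    (hc : c ∈ [(⟨2, CoxeterMatrix.B 2⟩, 2), (⟨2, CoxeterMatrix.G₂⟩, 2), (⟨4, Cfsg.Lie.coxeterD4⟩, 2), (⟨4, CoxeterMatrix.F₄⟩, 2),
      (⟨6, CoxeterMatrix.E₆⟩, 1), (⟨7, CoxeterMatrix.E₇⟩, 2), (⟨8, CoxeterMatrix.E₈⟩, 2)]) :
    Nat.card (Subgroup.center c.1.2.Group) = c.2 ∧
      Subgroup.center c.1.2.Group ≤ Subgroup.zpowers ((List.finRange c.1.1).map c.1.2.simple).prod := by
  simp only [List.mem_cons, List.not_mem_nil, or_false] at hc
  rcases hc with rfl | rfl | rfl | rfl | rfl | rfl | rfl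
  · exact center_of_check b2_act b2_chain b2_centre (by decide +kernel)
  · exact center_of_check g2_act g2_chain g2_centre (by decide +kernel)
  · exact center_of_check d4_act d4_chain d4_centre (by decide +kernel)
  · exact center_of_check f4_act f4_chain f4_centre (by decide +kernel)
  · exact center_of_check_trivial e6_act e6_chain e6_centre
  · exact center_of_check e7_act e7_chain e7_centre (by decide +kernel)
  · exact center_of_check e8_act e8_chain e8_centre (by decide +kernel)

end Cfsg.Agent.S2418
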