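import Cfsg.Statements.S2419
import Cfsg.Agent.Lib.CoxeterWeyl
import Cfsg.Agent.Lib.CoxeterCenter
import Cfsg.Agent.Lib.CoxeterCenterData

set_option autoImplicit false
open Cfsg

namespace Cfsg.Agent.S2419

open Cfsg.Agent.CoxeterTables Cfsg.Agent.CoxeterData Cfsg.Agent.CoxeterWeyl Cfsg.Agent.CoxeterCenter
  Cfsg.Agent.CoxeterCenterData

theorem reflections_of_check {n : ℕ} {C : CoxeterMatrix (Fin n)} {P : List ℕ} {R : ℕ} {Ls : List Level}
    (hA : actOK C P R = true) (hC : chainOK (natMatrix C) P R (List.range n) Ls = true)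
    (T : List ℕ) {words : List (List ℕ)} (hG : genOK P R n T words = true) {m : ℕ}
    (hT : ∀ s ∈ T, s < n) (hlen : T.length = m)
    (hdist : (T.map fun s => permList P R [s]).Nodup) :
    ∃ S : Finset C.Group, S.card = m ∧ (∀ t ∈ S, ∃ (g : C.Group) (i : Fin n), t = g * C.simple i * g⁻¹) ∧
      Subgroup.closure (({((List.finRange n).map C.simple).prod} : Set C.Group) ∪ ↑S) = ⊤ := by
  classical
  have hnd : (T.map (gen C)).Nodup := by
    have h2 := List.Nodup.of_map _ hdist
    refine h2.map_on fun a ha b hb hab => ?_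
    obtain ⟨-, ρ, -, hρ⟩ := setup hA hC
    have key : permList P R [a] = permList P R [b] := by
      refine List.map_congr_left fun r hr => ?_
      have hr' := List.mem_range.mp hr
      have e1 := hρ a (List.mem_range.mpr (hT a ha)) ⟨r, hr'⟩
      have e2 := hρ b (List.mem_range.mpr (hT b hb)) ⟨r, hr'⟩
      rw [hab] at e1
      exact e1.symm.trans e2
    exact List.inj_on_of_nodup_map hdist ha hb key
  refine ⟨(T.map (gen C)).toFinset, ?_, ?_, ?_⟩
  · rw [List.toFinset_card_of_nodup hnd, List.length_map, hlen]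
  · intro t ht
    obtain ⟨s, hs, rfl⟩ := List.mem_map.mp (List.mem_toFinset.mp ht)
    exact ⟨1, ⟨s, hT s hs⟩, by simp [gen, hT s hs]⟩
  · refine closure_eq_top hA hC hG (Or.inl rfl) fun j hj => Or.inr ?_
    rw [List.getD_eq_getElem _ _ hj, Finset.mem_coe, List.mem_toFinset]
    exact List.mem_map.mpr ⟨_, List.getElem_mem hj, rfl⟩

theorem b2_gen : genOK b2Perm 8 2 [0] b2Gen = true := by decide +kernel
theorem g2_gen : genOK g2Perm 12 2 [0] g2Gen = true := by decide +kernel
theorem d4_gen : genOK d4Perm 24 4 [0, 2] d4Gen = true := by decide +kernel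
theorem f4_gen : genOK f4Perm 48 4 [0, 2] f4Gen = true := by decide +kernel
theorem e6_gen : genOK e6Perm 72 6 [3] e6Gen = true := by decide +kernel
theorem e7_gen : genOK e7Perm 126 7 [3] e7Gen = true := by decide +kernel
theorem e8_gen : genOK e8Perm 240 8 [3] e8Gen = true := by decide +kernel


/-- The Coxeter groups of types B₂, G₂, E₆, E₇, E₈ are generated by the Coxeter element `s₁ s₂ ⋯ s_l` together with one suitable reflection (a conjugate of a simple reflection); for types D₄ and F₄ the Coxeter element together with two suitable reflections suffices. -/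
theorem result (c : (Σ n : ℕ, CoxeterMatrix (Fin n)) × ℕ)
    (hc : c ∈ [(⟨2, CoxeterMatrix.B 2⟩, 1), (⟨2, CoxeterMatrix.G₂⟩, 1), (⟨4, Cfsg.Lie.coxeterD4⟩, 2), (⟨4, CoxeterMatrix.F₄⟩, 2),
      (⟨6, CoxeterMatrix.E₆⟩, 1), (⟨7, CoxeterMatrix.E₇⟩, 1), (⟨8, CoxeterMatrix.E₈⟩, 1)]) :
    ∃ T : Finset c.1.2.Group, T.card = c.2 ∧ (∀ t ∈ T, ∃ (g : c.1.2.Group) (i : Fin c.1.1), t = g * c.1.2.simple i * g⁻¹) ∧
      Subgroup.closure (({((List.finRange c.1.1).map c.1.2.simple).prod} : Set c.1.2.Group) ∪ ↑T) = ⊤ := by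
  simp only [List.mem_cons, List.not_mem_nil, or_false] at hc
  rcases hc with rfl | rfl | rfl | rfl | rfl | rfl | rfl
  · exact reflections_of_check b2_act b2_chain [0] b2_gen (by decide) rfl (by decide +kernel)
  · exact reflections_of_check g2_act g2_chain [0] g2_gen (by decide) rfl (by decide +kernel)
  · exact reflections_of_check d4_act d4_chain [0, 2] d4_gen (by decide) rfl (by decide +kernel)
  · exact reflections_of_check f4_act f4_chain [0, 2] f4_gen (by decide) rfl (by decide +kernel)
  · exact reflections_of_check e6_act e6_chain [3] e6_gen (by decide) rfl (by decide +kernel)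
  · exact reflections_of_check e7_act e7_chain [3] e7_gen (by decide) rfl (by decide +kernel)
  · exact reflections_of_check e8_act e8_chain [3] e8_gen (by decide) rfl (by decide +kernel)

end Cfsg.Agent.S2419
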