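import Cfsg.Statements.S2428
import Cfsg.Agent.Lib.SL2Torus
import Cfsg.Agent.Lib.PSL2SylowTwo

set_option autoImplicit false
open Cfsg

namespace Cfsg.Agent.S2428

open Cfsg.Agent

/-- Let F be a finite field with q elements, q odd, and let d be a diagonal element of SL₂ over F whose diagonal entry a has a² ≠ 1 (such d exist exactly when q > 3). Then the centraliser of d is precisely the diagonal subgroup T; the normaliser of T has order 2(q − 1) and exactly (q + 5)/2 conjugacy classes; and every element of that normaliser outside T has square equal to −1. -/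
theorem result {F : Type*} [Field F] [Fintype F] (hodd : Odd (Fintype.card F))
    (d : Matrix.SpecialLinearGroup (Fin 2) F) (hd01 : (d : Matrix (Fin 2) (Fin 2) F) 0 1 = 0) (hd10 : (d : Matrix (Fin 2) (Fin 2) F) 1 0 = 0) (hda : (d : Matrix (Fin 2) (Fin 2) F) 0 0 ^ 2 ≠ 1) :
    (∀ g : Matrix.SpecialLinearGroup (Fin 2) F, g ∈ Subgroup.centralizer ({d} : Set (Matrix.SpecialLinearGroup (Fin 2) F)) ↔ ((g : Matrix (Fin 2) (Fin 2) F) 0 1 = 0 ∧ (g : Matrix (Fin 2) (Fin 2) F) 1 0 = 0)) ∧
    Nat.card (Subgroup.normalizer ((Subgroup.centralizer ({d} : Set (Matrix.SpecialLinearGroup (Fin 2) F))) : Set (Matrix.SpecialLinearGroup (Fin 2) F))) = 2 * (Fintype.card F - 1) ∧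
    Nat.card (ConjClasses (Subgroup.normalizer ((Subgroup.centralizer ({d} : Set (Matrix.SpecialLinearGroup (Fin 2) F))) : Set (Matrix.SpecialLinearGroup (Fin 2) F)))) = (Fintype.card F + 5) / 2 ∧
    ∀ g : Matrix.SpecialLinearGroup (Fin 2) F, g ∈ Subgroup.normalizer ((Subgroup.centralizer ({d} : Set (Matrix.SpecialLinearGroup (Fin 2) F))) : Set (Matrix.SpecialLinearGroup (Fin 2) F)) →
      g ∉ Subgroup.centralizer ({d} : Set (Matrix.SpecialLinearGroup (Fin 2) F)) → ((g * g) : Matrix (Fin 2) (Fin 2) F) = -1 := by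
  have h2 : (2 : F) ≠ 0 := PSL2SylowTwo.two_ne_zero_of_odd (by rwa [Nat.card_eq_fintype_card])
  have hd := PSL2Elements.det_eq d
  rw [hd01, zero_mul, sub_zero] at hd
  have ha0 := left_ne_zero_of_mul_eq_one hd
  have hde : d = PSL2Elements.d (Units.mk0 _ ha0) := by
    have h11 := eq_inv_of_mul_eq_one_right hd
    apply PSL2Elements.ext2 <;> simp [PSL2Elements.d, hd01, hd10, h11]
  have ha : ((Units.mk0 _ ha0 : Fˣ) : F) ^ 2 ≠ 1 := by simpa using hda
  have htr : PSL2Elements.tr d ^ 2 ≠ 4 := by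
    rw [PSL2Elements.tr, eq_inv_of_mul_eq_one_right hd]
    intro e
    apply hda
    field_simp at e
    have : ((d : Matrix (Fin 2) (Fin 2) F) 0 0 ^ 2 - 1) ^ 2 = 0 := by linear_combination e
    exact sub_eq_zero.1 ((pow_eq_zero_iff two_ne_zero).1 this)
  have hcard : Nat.card (SL2Torus.tor d) = Fintype.card F - 1 := by
    rw [hde, ← Nat.card_eq_fintype_card]
    exact (PSL2Elements.card_centralizer_d ha).2
  refine ⟨fun g => ?_, ?_, ?_, fun g hg hg' => ?_⟩
  · rw [hde, PSL2Elements.centralizer_d ha, MonoidHom.mem_range]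
    constructor
    · rintro ⟨c, rfl⟩
      simp [PSL2Elements.dHom, PSL2Elements.d]
    · rintro ⟨h01, h10⟩
      have hg := PSL2Elements.det_eq g
      rw [h01, zero_mul, sub_zero] at hg
      refine ⟨Units.mk0 _ (left_ne_zero_of_mul_eq_one hg), ?_⟩
      have h11 := eq_inv_of_mul_eq_one_right hg
      apply PSL2Elements.ext2 <;> simp [PSL2Elements.dHom, PSL2Elements.d, h01, h10, h11]
  · rw [← hcard]; exact SL2Torus.card_normalizer h2 htr
  · have := SL2Torus.card_conjClasses_normalizer h2 htr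
    rw [hcard] at this
    refine this.trans ?_
    have : 1 < Fintype.card F := Fintype.one_lt_card
    obtain ⟨k, hk⟩ := hodd
    omega
  · exact congrArg Subtype.val (SL2Torus.sq_eq_neg_one h2 htr hg hg')

end Cfsg.Agent.S2428
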