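import Cfsg.Statements.S2429
import Cfsg.Agent.Lib.SL2Torus
import Cfsg.Agent.Lib.PSL2SylowTwo

set_option autoImplicit false
open Cfsg

namespace Cfsg.Agent.S2429

open Cfsg.Agent

/-- Let F be a finite field with q elements, q odd. Then SL₂ over F contains a cyclic subgroup T′ of order q + 1 (a non-split torus) with the following properties: T′ is its own centraliser, and indeed the centraliser of each element of T′ other than 1 and −1 is exactly T′; every element of SL₂ having no eigenvector in F² is conjugate to an element of T′; the normaliser of T′ has order 2(q + 1) and exactly (q + 7)/2 conjugacy classes; and every element of that normaliser outside T′ has square −1. -/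
theorem result {F : Type*} [Field F] [Fintype F] (hodd : Odd (Fintype.card F)) :
    ∃ T' : Subgroup (Matrix.SpecialLinearGroup (Fin 2) F), IsCyclic T' ∧ Nat.card T' = Fintype.card F + 1 ∧
      Subgroup.centralizer ((T' : Set (Matrix.SpecialLinearGroup (Fin 2) F))) = T' ∧
      (∀ g : Matrix.SpecialLinearGroup (Fin 2) F, g ∈ T' → (g : Matrix (Fin 2) (Fin 2) F) ≠ 1 → (g : Matrix (Fin 2) (Fin 2) F) ≠ -1 → Subgroup.centralizer ({g} : Set (Matrix.SpecialLinearGroup (Fin 2) F)) = T') ∧
      (∀ g : Matrix.SpecialLinearGroup (Fin 2) F, (∀ (c : F) (v : Fin 2 → F), v ≠ 0 → (g : Matrix (Fin 2) (Fin 2) F).mulVec v ≠ c • v) → ∃ h : Matrix.SpecialLinearGroup (Fin 2) F, h * g * h⁻¹ ∈ T') ∧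
      Nat.card (Subgroup.normalizer (T' : Set (Matrix.SpecialLinearGroup (Fin 2) F))) = 2 * (Fintype.card F + 1) ∧
      Nat.card (ConjClasses (Subgroup.normalizer (T' : Set (Matrix.SpecialLinearGroup (Fin 2) F)))) = (Fintype.card F + 7) / 2 ∧
      ∀ g : Matrix.SpecialLinearGroup (Fin 2) F, g ∈ Subgroup.normalizer (T' : Set (Matrix.SpecialLinearGroup (Fin 2) F)) → g ∉ T' → ((g * g) : Matrix (Fin 2) (Fin 2) F) = -1 := by
  classical
  have h2 : (2 : F) ≠ 0 := PSL2SylowTwo.two_ne_zero_of_odd (by rwa [Nat.card_eq_fintype_card])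
  obtain ⟨t, ht⟩ : ∃ t : F, ∀ r : F, r ^ 2 - t * r + 1 ≠ 0 := by
    by_contra hne
    push Not at hne
    choose f hf using hne
    have hf0 : ∀ t, f t ≠ 0 := fun t e => by have := hf t; rw [e] at this; simp at this
    have hft : ∀ t, t = f t + (f t)⁻¹ := fun t => by
      have := hf t; have := hf0 t; field_simp; linear_combination -(hf t)
    let g : F → {r : F // r ≠ 0} := fun t => ⟨f t, hf0 t⟩
    have hinj : Function.Injective g := fun s t e => by
      rw [hft s, hft t, show f s = f t from congrArg Subtype.val e]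
    have := Fintype.card_le_of_injective g hinj
    have := Fintype.card_subtype_lt (p := fun r : F => r ≠ 0) (x := 0) (by simp)
    omega
  set A := PSL2Elements.comp t with hA
  have htA : PSL2Elements.tr A = t := PSL2Elements.tr_comp t
  have h4 : PSL2Elements.tr A ^ 2 ≠ 4 := fun e => by
    rw [htA] at e
    refine ht (t / 2) ?_
    field_simp
    linear_combination -e
  have hns : ∀ r : F, r ^ 2 - PSL2Elements.tr A * r + 1 ≠ 0 := by rwa [htA]
  obtain ⟨hcyc, hcard⟩ := PSL2Elements.centralizer_nonsplit hns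
  rw [Nat.card_eq_fintype_card (α := F)] at hcard
  refine ⟨SL2Torus.tor A, hcyc, hcard, SL2Torus.centralizer_tor h4, fun g hg h1 h1' => ?_,
    fun g hg => ?_, ?_, ?_, fun g hg hg' => ?_⟩
  · refine SL2Torus.tor_eq_of_mem h4 hg ?_
    rw [PSL2Elements.not_mem_center_iff]
    exact ⟨fun e => h1 (by rw [e]; rfl), fun e => h1' (by rw [e]; rfl)⟩
  · -- an element of the torus with the same trace
    have hr : ∀ r : F, r ^ 2 - PSL2Elements.tr g * r + 1 ≠ 0 := by
      intro r hr
      have hdet : ((g : Matrix (Fin 2) (Fin 2) F) - r • 1).det = 0 := by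
        have := PSL2Elements.det_eq g
        simp [Matrix.det_fin_two]
        simp [PSL2Elements.tr] at hr
        linear_combination hr + this
      obtain ⟨v, hv, hv'⟩ := Matrix.exists_mulVec_eq_zero_iff.2 hdet
      rw [Matrix.sub_mulVec, Matrix.smul_mulVec, Matrix.one_mulVec, sub_eq_zero] at hv'
      exact hg r v hv hv'
    have hns' : ∀ {s : F}, (∀ r : F, r ^ 2 - s * r + 1 ≠ 0) → ¬ IsSquare (s ^ 2 - 4) := by
      rintro s hs ⟨z, hz⟩
      refine hs ((s + z) / 2) ?_
      field_simp
      linear_combination -hz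
    have hg4 : PSL2Elements.tr g ^ 2 ≠ 4 := fun e => hns' hr ⟨0, by rw [e]; simp⟩
    obtain ⟨y, hy⟩ : IsSquare ((PSL2Elements.tr g ^ 2 - 4) / (t ^ 2 - 4)) := by
      have hrc : ringChar F ≠ 2 := fun e => h2 (by
        have : CharP F 2 := ringChar.of_eq e
        exact CharP.cast_eq_zero F 2)
      have a := quadraticChar_neg_one_iff_not_isSquare.2 (hns' hr)
      have b := quadraticChar_neg_one_iff_not_isSquare.2 (hns' ht)
      have hne : (PSL2Elements.tr g ^ 2 - 4) * (t ^ 2 - 4) ≠ 0 := by
        rw [htA] at h4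
        exact mul_ne_zero (sub_ne_zero.2 hg4) (sub_ne_zero.2 h4)
      have hsq : IsSquare ((PSL2Elements.tr g ^ 2 - 4) * (t ^ 2 - 4)) :=
        (quadraticChar_one_iff_isSquare hne).1 (by rw [map_mul, a, b]; rfl)
      obtain ⟨z, hz⟩ := hsq
      have := (mul_ne_zero_iff.1 hne).2
      refine ⟨z / (t ^ 2 - 4), ?_⟩
      field_simp
      linear_combination hz
    set x := (PSL2Elements.tr g - t * y) / 2 with hx
    have hy' : PSL2Elements.tr g ^ 2 - 4 = y ^ 2 * (t ^ 2 - 4) := by
      rw [htA] at h4
      have := sub_ne_zero.2 h4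
      field_simp at hy
      linear_combination hy
    have hdet : (x • (1 : Matrix (Fin 2) (Fin 2) F) + y • A.1).det = 1 := by
      simp [Matrix.det_fin_two, hA, PSL2Elements.comp, hx]
      field_simp
      linear_combination hy'
    let B : Matrix.SpecialLinearGroup (Fin 2) F := ⟨_, hdet⟩
    have hB : B ∈ SL2Torus.tor A := by
      rw [Subgroup.mem_centralizer_singleton_iff]
      apply Subtype.ext
      show (x • (1 : Matrix (Fin 2) (Fin 2) F) + y • A.1) * A.1 =
        A.1 * (x • (1 : Matrix (Fin 2) (Fin 2) F) + y • A.1)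
      simp [mul_add, add_mul]
    have htB : PSL2Elements.tr g = PSL2Elements.tr B := by
      show PSL2Elements.tr g = (x • (1 : Matrix (Fin 2) (Fin 2) F) + y • A.1) 0 0 +
        (x • (1 : Matrix (Fin 2) (Fin 2) F) + y • A.1) 1 1
      simp [hA, PSL2Elements.comp, hx]
      field_simp
      ring
    obtain ⟨h, hh⟩ := isConj_iff.1 (PSL2Elements.isConj_of_tr_eq htB hg4)
    exact ⟨h, hh ▸ hB⟩
  · rw [← hcard]; exact SL2Torus.card_normalizer h2 h4
  · have := SL2Torus.card_conjClasses_normalizer h2 h4
    rw [hcard] at this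
    refine this.trans ?_
    obtain ⟨k, hk⟩ := hodd
    omega
  · exact congrArg Subtype.val (SL2Torus.sq_eq_neg_one h2 h4 hg hg')

end Cfsg.Agent.S2429
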