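import Cfsg.Statements.S2433
import Cfsg.Agent.Lib.SL2Borel

set_option autoImplicit false
open Cfsg

namespace Cfsg.Agent.S2433

open Cfsg.Agent

/-- Let F be a finite field with q elements, q odd, α a multiplicative character of F, and R(α) the function on SL₂ induced from the linear character b ↦ α(b₁₁) of the upper triangular subgroup. Then R(α) takes the value α(a) + α(a⁻¹) at a diagonal element with entries a, a⁻¹, a² ≠ 1; the value 0 at every element with no eigenvector in F²; the value α(ε) at an upper triangular element with both diagonal entries ε and non-zero upper right entry; and the value (q + 1)α(ε) at the scalar element ε (ε = ±1). -/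
theorem result {F : Type*} [Field F] [Fintype F] [DecidableEq F] (hodd : Odd (Fintype.card F)) (α : MulChar F ℂ) (g : Matrix.SpecialLinearGroup (Fin 2) F) :
    ((g : Matrix (Fin 2) (Fin 2) F) 0 1 = 0 → (g : Matrix (Fin 2) (Fin 2) F) 1 0 = 0 → (g : Matrix (Fin 2) (Fin 2) F) 0 0 ^ 2 ≠ 1 →
      (Cfsg.indFun ((Cfsg.upperTriangularGL 2 F).comap Matrix.SpecialLinearGroup.toGL) (fun b => α (((b : Matrix.SpecialLinearGroup (Fin 2) F) : Matrix (Fin 2) (Fin 2) F) 0 0))) g = α ((g : Matrix (Fin 2) (Fin 2) F) 0 0) + α ((g : Matrix (Fin 2) (Fin 2) F) 1 1)) ∧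
    ((∀ (c : F) (v : Fin 2 → F), v ≠ 0 → (g : Matrix (Fin 2) (Fin 2) F).mulVec v ≠ c • v) → (Cfsg.indFun ((Cfsg.upperTriangularGL 2 F).comap Matrix.SpecialLinearGroup.toGL) (fun b => α (((b : Matrix.SpecialLinearGroup (Fin 2) F) : Matrix (Fin 2) (Fin 2) F) 0 0))) g = 0) ∧
    ((g : Matrix (Fin 2) (Fin 2) F) 1 0 = 0 → (g : Matrix (Fin 2) (Fin 2) F) 0 0 = (g : Matrix (Fin 2) (Fin 2) F) 1 1 → (g : Matrix (Fin 2) (Fin 2) F) 0 1 ≠ 0 →
      (Cfsg.indFun ((Cfsg.upperTriangularGL 2 F).comap Matrix.SpecialLinearGroup.toGL) (fun b => α (((b : Matrix.SpecialLinearGroup (Fin 2) F) : Matrix (Fin 2) (Fin 2) F) 0 0))) g = α ((g : Matrix (Fin 2) (Fin 2) F) 0 0)) ∧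
    ((g : Matrix (Fin 2) (Fin 2) F) 0 1 = 0 → (g : Matrix (Fin 2) (Fin 2) F) 1 0 = 0 → (g : Matrix (Fin 2) (Fin 2) F) 0 0 = (g : Matrix (Fin 2) (Fin 2) F) 1 1 →
      (Cfsg.indFun ((Cfsg.upperTriangularGL 2 F).comap Matrix.SpecialLinearGroup.toGL) (fun b => α (((b : Matrix.SpecialLinearGroup (Fin 2) F) : Matrix (Fin 2) (Fin 2) F) 0 0))) g = ((Fintype.card F : ℂ) + 1) * α ((g : Matrix (Fin 2) (Fin 2) F) 0 0)) := by
  have hd := PSL2Elements.det_eq g
  refine ⟨fun h01 h10 h00 => ?_, fun h => SL2Borel.indS_elliptic α g h,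
    fun h10 he h01 => ?_, fun h01 h10 he => ?_⟩
  all_goals
    have ha : g.1 0 0 ≠ 0 := by
      intro e; rw [e, h10] at hd; simp at hd
    have h11 : g.1 1 1 = (g.1 0 0)⁻¹ := by
      rw [h10, mul_zero, sub_zero] at hd; exact eq_inv_of_mul_eq_one_right hd
    have hg : (SL2Borel.sbor (Units.mk0 _ ha) (g.1 0 1) : Matrix.SpecialLinearGroup (Fin 2) F) =
        g := by
      apply PSL2Elements.ext2 <;> simp [SL2Borel.sbor, h10, h11]
    have hv := SL2Borel.indS_sbor α (Units.mk0 _ ha) (g.1 0 1)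
    rw [hg] at hv
    refine hv.trans ?_
    simp only [Units.val_mk0]
  · rw [h01, h11]
    simp only [mul_eq_zero]
    have hne : (g.1 0 0)⁻¹ - g.1 0 0 ≠ 0 := fun e => h00 (by
      have := sub_eq_zero.1 e
      field_simp at this
      exact this.symm)
    simp [hne]
  · have hi : (g.1 0 0)⁻¹ = g.1 0 0 := by rw [← h11, he]
    simp [hi, Ne.symm h01]
  · have hi : (g.1 0 0)⁻¹ = g.1 0 0 := by rw [← h11, he]
    simp [hi, h01]
    ring

end Cfsg.Agent.S2433
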