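import Cfsg.Statements.S2434
import Cfsg.Agent.Lib.SL2TorusChars
import Cfsg.Agent.S2305
import Cfsg.Agent.S2322

set_option autoImplicit false
open Cfsg

namespace Cfsg.Agent.S2434

open Cfsg.Agent.GL2Borel Cfsg.Agent.GL2Chars Cfsg.Agent.PSL2Elements Cfsg.Agent.SL2Borel Cfsg.Agent.SL2Chars
open Cfsg.Agent.SL2Odd Cfsg.Agent.SL2Halves Cfsg.Agent.SL2TorusChars

/-- Let F be a finite field with q elements, q odd, and C a cyclic subgroup of order q + 1 of SL₂ over F (a non-split torus; it contains the centre). For every homomorphism θ from C to the non-zero complex numbers with θ² ≠ 1 there is an irreducible complex character χ of degree q − 1 such that χ(c) = −θ(c) − θ(c)⁻¹ for every non-central c in C, χ(zg) = θ(z)χ(g) for central z in C, χ vanishes at diagonal elements with entry a, a² ≠ 1, and χ takes the value −1 at every upper unitriangular element other than 1. Conversely every irreducible character of degree q − 1 has, for some such θ, the values −θ(c) − θ(c)⁻¹ at the non-central elements c of C (for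 q ≥ 5 these are exactly the cuspidal characters of degree q − 1). -/
theorem result {F : Type*} [Field F] [Fintype F] (hodd : Odd (Fintype.card F))
    (C : Subgroup (Matrix.SpecialLinearGroup (Fin 2) F)) (hC : IsCyclic C) (hcard : Nat.card C = Fintype.card F + 1) :
    (∀ θ : C →* ℂˣ, (∃ c : C, θ c ^ 2 ≠ 1) →
      ∃ χ : Matrix.SpecialLinearGroup (Fin 2) F → ℂ, Cfsg.IsIrrCharacter (Matrix.SpecialLinearGroup (Fin 2) F) χ ∧ χ 1 = (Fintype.card F : ℂ) - 1 ∧
        (∀ c : C, (c : Matrix.SpecialLinearGroup (Fin 2) F) ∉ Subgroup.center (Matrix.SpecialLinearGroup (Fin 2) F) → χ c = -((θ c).val + (θ c)⁻¹.val)) ∧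
        (∀ c : C, (c : Matrix.SpecialLinearGroup (Fin 2) F) ∈ Subgroup.center (Matrix.SpecialLinearGroup (Fin 2) F) → ∀ g : Matrix.SpecialLinearGroup (Fin 2) F, χ ((c : Matrix.SpecialLinearGroup (Fin 2) F) * g) = (θ c).val * χ g) ∧
        (∀ g : Matrix.SpecialLinearGroup (Fin 2) F, (g : Matrix (Fin 2) (Fin 2) F) 0 1 = 0 → (g : Matrix (Fin 2) (Fin 2) F) 1 0 = 0 → (g : Matrix (Fin 2) (Fin 2) F) 0 0 ^ 2 ≠ 1 → χ g = 0) ∧
        (∀ g : Matrix.SpecialLinearGroup (Fin 2) F, (g : Matrix (Fin 2) (Fin 2) F) 1 0 = 0 → (g : Matrix (Fin 2) (Fin 2) F) 0 0 = 1 → (g : Matrix (Fin 2) (Fin 2) F) 1 1 = 1 → (g : Matrix (Fin 2) (Fin 2) F) 0 1 ≠ 0 → χ g = -1)) ∧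
    (∀ χ : Matrix.SpecialLinearGroup (Fin 2) F → ℂ, Cfsg.IsIrrCharacter (Matrix.SpecialLinearGroup (Fin 2) F) χ → χ 1 = (Fintype.card F : ℂ) - 1 →
      ∃ θ : C →* ℂˣ, (∃ c : C, θ c ^ 2 ≠ 1) ∧
        ∀ c : C, (c : Matrix.SpecialLinearGroup (Fin 2) F) ∉ Subgroup.center (Matrix.SpecialLinearGroup (Fin 2) F) → χ c = -((θ c).val + (θ c)⁻¹.val)) := by
  classical
  obtain ⟨h, hh, hq⟩ := exists_half hodd
  have hneg := SL2TorusChars.neg_one_mem hC hcard hodd
  have hval : ∀ (α : MulChar F ℂ) (θ : C →* ℂˣ), Agree α θ → ∀ c : C,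
      (c : Matrix.SpecialLinearGroup (Fin 2) F) ∉ Subgroup.center (Matrix.SpecialLinearGroup (Fin 2) F) →
      phi α θ c = -((θ c).val + (θ c)⁻¹.val) := fun α θ _ c hz =>
    phi_noncentral hC hcard hodd α θ hz
  choose al hal using exists_agree hC hcard hodd
  refine ⟨fun θ hθ => ?_, fun χ hχ hd => ?_⟩
  · have hir := isIrr_phi hC hcard hodd (hal θ) hθ
    refine ⟨phi (al θ) θ, hir, phi_one hcard _ θ, hval _ θ (hal θ), ?_, ?_, ?_⟩
    · intro c hc g
      rcases (mem_center_iff _).1 hc with e | e
      · rw [e, one_mul, show c = 1 from Subtype.ext e, map_one, Units.val_one, one_mul]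
      · obtain ⟨n, ρ, hρ, hρc⟩ := hir
        obtain ⟨s, hs⟩ := CharBasic.exists_scalar_of_mem_center ρ hc
        have hmul : ∀ x, phi (al θ) θ ((c : Matrix.SpecialLinearGroup (Fin 2) F) * x) =
            s * phi (al θ) θ x := by
          intro x
          rw [← hρc]
          simp only [Representation.character, map_mul, hs]
          rw [show (s • LinearMap.id : (Fin n → ℂ) →ₗ[ℂ] (Fin n → ℂ)) * ρ x = s • ρ x by
            rw [smul_mul_assoc]; rfl, map_smul, smul_eq_mul]
        have h1 := hmul 1
        rw [mul_one, e, phi_neg_one hC hcard hodd (hal θ), phi_one hcard] at h1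
        have hq1 : (Fintype.card F : ℂ) - 1 ≠ 0 := GL2Chars.card_sub_one_ne
        rw [hmul g, hal θ c e]
        rw [mul_right_cancel₀ hq1 h1]
    · intro g h01 h10 ha
      have hdt := det_eq g
      rw [h01, zero_mul, sub_zero] at hdt
      obtain ⟨a, ha'⟩ : ∃ a : Fˣ, (a : F) = g.1 0 0 :=
        ⟨Units.mk0 _ (left_ne_zero_of_mul_eq_one hdt), rfl⟩
      have hga : g = d a := by
        have h11 : (g.1 0 0)⁻¹ = g.1 1 1 := inv_eq_of_mul_eq_one_right hdt
        apply ext2 <;> simp [d, h01, h10, ha', h11]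
      rw [← ha'] at ha
      rw [hga]; exact phi_d hC hcard hodd _ θ ha
    · intro g h10 h00 h11 h01
      have hgu : g = PSL2Elements.u (g.1 0 1) := by
        apply ext2 <;> simp [PSL2Elements.u, h10, h00, h11]
      rw [hgu]; exact (phi_u hC hcard hodd _ θ h01).1
  · obtain ⟨θ₀, hθ₀, hθne, hθsq⟩ := exists_thetaZero hC hcard hodd hq
    obtain ⟨gen, hgen⟩ := hC.exists_generator
    have hord : orderOf gen = Fintype.card F + 1 := by
      rw [orderOf_eq_card_of_forall_mem_zpowers hgen, hcard]
    have hext : ∀ θ θ' : C →* ℂˣ, θ gen = θ' gen → θ = θ' := fun θ θ' e =>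
      MonoidHom.ext fun c => by
        obtain ⟨k, rfl⟩ := Subgroup.mem_zpowers_iff.1 (hgen c)
        rw [map_zpow, map_zpow, e]
    have hgen0 : (θ₀ gen : ℂ) = -1 := by
      have : (θ₀ gen : ℂ) ^ 2 = 1 := by rw [← Units.val_pow_eq_pow_val, hθsq, Units.val_one]
      rcases sq_eq_one_iff.1 this with e | e
      · exact absurd (hext θ₀ 1 (Units.ext (by simpa using e))) hθne
      · exact e
    have hfin : Finite (C →* ℂˣ) := Nat.finite_of_card_ne_zero (by
      rw [CharBasicLinear.card_hom_units]; exact Subgroup.index_ne_zero_of_finite)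
    have := Fintype.ofFinite (C →* ℂˣ)
    let T : Finset (C →* ℂˣ) := Finset.univ.filter fun θ => ∃ c : C, θ c ^ 2 ≠ 1
    have hT : T.card = 2 * h := by
      have hall : (Finset.univ : Finset (C →* ℂˣ)).card = Fintype.card F + 1 := by
        rw [Finset.card_univ, ← Nat.card_eq_fintype_card, CharBasicLinear.card_hom_units, ← hcard]
        have : commutator C = ⊥ := by
          rw [commutator_eq_bot_iff_center_eq_top, Subgroup.eq_top_iff']
          exact fun x => Subgroup.mem_center_iff.2 fun y =>
            Subtype.ext (SL2TorusChars.comm hC y.2 x.2)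
        rw [this, Subgroup.index_bot]
      have hrest : (Finset.univ.filter fun θ : C →* ℂˣ => ¬ ∃ c : C, θ c ^ 2 ≠ 1) = {1, θ₀} := by
        ext θ
        simp only [Finset.mem_filter, Finset.mem_univ, true_and, Finset.mem_insert,
          Finset.mem_singleton, not_exists, not_not]
        constructor
        · intro hθ
          have : (θ gen : ℂ) ^ 2 = 1 := by rw [← Units.val_pow_eq_pow_val, hθ, Units.val_one]
          rcases sq_eq_one_iff.1 this with e | e
          · exact Or.inl (hext θ 1 (Units.ext (by simpa using e)))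
          · exact Or.inr (hext θ θ₀ (Units.ext (e.trans hgen0.symm)))
        · rintro (rfl | rfl) c
          · simp
          · exact hθsq c
      have h3 := Finset.card_filter_add_card_filter_not (s := (Finset.univ : Finset (C →* ℂˣ)))
        (fun θ => ∃ c : C, θ c ^ 2 ≠ 1)
      rw [hrest, Finset.card_pair hθne.symm, hall] at h3
      show (Finset.univ.filter _).card = _
      omega
    have hgz : (gen : Matrix.SpecialLinearGroup (Fin 2) F) ∉
        Subgroup.center (Matrix.SpecialLinearGroup (Fin 2) F) := by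
      intro hz
      have h2 : gen ^ 2 = 1 := Subtype.ext (by
        rcases (mem_center_iff _).1 hz with e | e <;> simp [e])
      have := Nat.le_of_dvd (by norm_num) (orderOf_dvd_of_pow_eq_one h2)
      omega
    obtain ⟨k, hk⟩ := exists_kind hodd hq hχ
    have hk34 : k = 4 ∨ (k = 3 ∧ h = 1) := by
      have hd' : χ 1 = ((Fintype.card F - 1 : ℕ) : ℂ) := by
        rw [hd, Nat.cast_sub Fintype.card_pos, Nat.cast_one]
      rw [hk.1, Nat.cast_inj] at hd'
      fin_cases k <;> simp [tbl] at hd' <;> simp <;> omega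
    rcases hk34 with rfl | ⟨rfl, rfl⟩
    · let K : Finset (Cfsg.IrrCharacter (Matrix.SpecialLinearGroup (Fin 2) F)) :=
        Finset.univ.filter fun ψ => HasKind (ψ : Matrix.SpecialLinearGroup (Fin 2) F → ℂ) h 4
      have hK : K.card = h := by
        rw [← Fintype.card_subtype, ← Nat.card_eq_fintype_card]
        exact card_kind hodd hq 4
      let f : (C →* ℂˣ) → (Matrix.SpecialLinearGroup (Fin 2) F → ℂ) := fun θ => phi (al θ) θ
      have hfib : ∀ θ θ', f θ = f θ' → θ' = θ ∨ θ' = θ⁻¹ := by
        intro θ θ' e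
        have hz1 : ∀ c : C, (c : Matrix.SpecialLinearGroup (Fin 2) F) = -1 →
            (θ c : ℂ) = (θ' c : ℂ) := fun c hc => by
          have e' := congrFun e (-1)
          simp only [f] at e'
          rw [phi_neg_one hC hcard hodd (hal θ), phi_neg_one hC hcard hodd (hal θ')] at e'
          rw [hal θ c hc, hal θ' c hc]
          exact mul_right_cancel₀ GL2Chars.card_sub_one_ne e'
        have hsum : ∀ c : C, (θ' c : ℂ) + ((θ' c)⁻¹ : ℂˣ) = (θ c : ℂ) + ((θ c)⁻¹ : ℂˣ) := by
          intro c
          by_cases hz : (c : Matrix.SpecialLinearGroup (Fin 2) F) ∈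
              Subgroup.center (Matrix.SpecialLinearGroup (Fin 2) F)
          · rcases (mem_center_iff _).1 hz with e' | e'
            · rw [show c = 1 from Subtype.ext e']; simp
            · rw [show θ' c = θ c from Units.ext (hz1 c e').symm]
          · have e' := congrFun e (c : Matrix.SpecialLinearGroup (Fin 2) F)
            simp only [f, phi_noncentral hC hcard hodd _ _ hz] at e'
            linear_combination e'
        rcases S2305.pair_eq ((Units.coeHom ℂ).comp θ') ((Units.coeHom ℂ).comp θ'⁻¹)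
            ((Units.coeHom ℂ).comp θ) ((Units.coeHom ℂ).comp θ⁻¹) (fun c => hsum c) with e' | e'
        · exact Or.inl (MonoidHom.ext fun c => Units.ext (DFunLike.congr_fun e' c))
        · exact Or.inr (MonoidHom.ext fun c => Units.ext (DFunLike.congr_fun e' c))
      by_contra hcon
      push Not at hcon
      let G' := T.image f
      have hbound : T.card ≤ 2 * G'.card := by
        refine Finset.card_le_mul_card_image T 2 fun b hb => ?_
        obtain ⟨θ, -, rfl⟩ := Finset.mem_image.1 hb
        refine le_trans (Finset.card_le_card (t := {θ, θ⁻¹}) fun θ' hθ' => ?_)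
          (Finset.card_le_two)
        simpa using hfib θ θ' ((Finset.mem_filter.1 hθ').2).symm
      have hsub : G' ⊆ (K.image Subtype.val).erase χ := by
        intro b hb
        obtain ⟨θ, hθ, rfl⟩ := Finset.mem_image.1 hb
        have hθ' := (Finset.mem_filter.1 hθ).2
        rw [Finset.mem_erase, Finset.mem_image]
        refine ⟨fun e => ?_, ⟨⟨f θ, isIrr_phi hC hcard hodd (hal θ) hθ'⟩,
          Finset.mem_filter.2 ⟨Finset.mem_univ _, hasKind_phi hC hcard hodd (hal θ) h⟩, rfl⟩⟩
        obtain ⟨c, hc, hne⟩ := hcon θ hθ'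
        exact hne (by rw [← e]; exact hval _ θ (hal θ) c hc)
      have hχK : χ ∈ K.image Subtype.val := Finset.mem_image.2
        ⟨⟨χ, hχ⟩, Finset.mem_filter.2 ⟨Finset.mem_univ _, hk⟩, rfl⟩
      have h1 := Finset.card_le_card hsub
      rw [Finset.card_erase_of_mem hχK,
        Finset.card_image_of_injective _ Subtype.val_injective, hK] at h1
      omega
    · obtain ⟨θ, hθT⟩ := Finset.card_pos.1 (by rw [hT]; omega : 0 < T.card)
      have hθ := (Finset.mem_filter.1 hθT).2
      refine ⟨θ, hθ, fun c hz => ?_⟩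
      have hsq : ∀ x : C, (x : Matrix.SpecialLinearGroup (Fin 2) F) ∉
          Subgroup.center (Matrix.SpecialLinearGroup (Fin 2) F) → x ^ 2 = ⟨-1, hneg⟩ := by
        intro x hx
        rcases pow_succ_cases hC hcard hodd hq x with e | e
        · refine absurd ((mem_center_iff _).2 (eq_one_or_neg_one_of_sq_eq_one
            (SL2Classes.two_ne_zero_of_odd hodd).1 ?_)) hx
          simpa using congrArg Subtype.val e
        · exact e
      have hm : (θ ⟨-1, hneg⟩ : ℂ) = -1 := by
        have hsq1 : (θ ⟨-1, hneg⟩ : ℂ) ^ 2 = 1 := by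
          rw [← Units.val_pow_eq_pow_val, ← map_pow,
            show (⟨-1, hneg⟩ : C) ^ 2 = 1 from Subtype.ext (by simp), map_one, Units.val_one]
        refine (sq_eq_one_iff.1 hsq1).resolve_left fun e => ?_
        obtain ⟨c₀, hc₀⟩ := hθ
        refine hc₀ ?_
        obtain ⟨k, rfl⟩ := Subgroup.mem_zpowers_iff.1 (hgen c₀)
        have : θ gen ^ 2 = 1 := Units.ext (by rw [← map_pow, hsq gen hgz, e]; rfl)
        rw [map_zpow, ← zpow_natCast, ← _root_.zpow_mul, mul_comm, _root_.zpow_mul, zpow_natCast,
          this, _root_.one_zpow]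
      have hc2 : (θ c : ℂ) ^ 2 = -1 := by
        rw [← Units.val_pow_eq_pow_val, ← map_pow, hsq c hz, hm]
      have hne : (θ c : ℂ) ≠ 0 := Units.ne_zero _
      have hz0 : χ c = 0 := by
        refine ((S2322.result hodd χ hχ _).2 (Or.inr ?_) ?_)
        · rw [hk.1]; simp [tbl, hq]
        · intro r v hv e
          refine no_root_of_mem hcard hodd c.2 hz r ?_
          have hdet : ((c : Matrix.SpecialLinearGroup (Fin 2) F).1 - r • 1).det = 0 :=
            Matrix.exists_mulVec_eq_zero_iff.1 ⟨v, hv, by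
              rw [Matrix.sub_mulVec, Matrix.smul_mulVec, Matrix.one_mulVec, e, sub_self]⟩
          rw [Matrix.det_fin_two] at hdet
          simp [tr] at hdet ⊢
          linear_combination hdet - det_eq (c : Matrix.SpecialLinearGroup (Fin 2) F)
      rw [hz0, Units.val_inv_eq_inv_val]
      field_simp
      linear_combination hc2

end Cfsg.Agent.S2434
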