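import Cfsg.Statements.S2435
import Cfsg.Agent.Lib.SL2TorusChars

set_option autoImplicit false
open Cfsg

namespace Cfsg.Agent.S2435

open Cfsg.Agent.GL2Borel Cfsg.Agent.GL2Chars Cfsg.Agent.PSL2Elements Cfsg.Agent.SL2Borel Cfsg.Agent.SL2Chars
open Cfsg.Agent.SL2Odd Cfsg.Agent.SL2Halves Cfsg.Agent.SL2TorusChars

/-- Let F be a finite field with q elements, q odd and q ≥ 5, and χ an irreducible complex character of SL₂ over F. If χ has degree (q + 1)/2, then at a diagonal element with entry a, a² ≠ 1, χ takes the value 1 when a is a square in F and −1 otherwise. If χ has degree (q − 1)/2, then at an element g with no eigenvector in F² (so g has order dividing q + 1), χ takes the value −1 when g raised to the power (q + 1)/2 is the identity and the value 1 otherwise. -/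
theorem result {F : Type*} [Field F] [Fintype F] (hodd : Odd (Fintype.card F)) (hq : 5 ≤ Fintype.card F)
    (χ : Matrix.SpecialLinearGroup (Fin 2) F → ℂ) (hχ : Cfsg.IsIrrCharacter (Matrix.SpecialLinearGroup (Fin 2) F) χ) (g : Matrix.SpecialLinearGroup (Fin 2) F) :
    (χ 1 = (((Fintype.card F + 1) / 2 : ℕ) : ℂ) → (g : Matrix (Fin 2) (Fin 2) F) 0 1 = 0 → (g : Matrix (Fin 2) (Fin 2) F) 1 0 = 0 → (g : Matrix (Fin 2) (Fin 2) F) 0 0 ^ 2 ≠ 1 →
      (IsSquare ((g : Matrix (Fin 2) (Fin 2) F) 0 0) → χ g = 1) ∧ (¬ IsSquare ((g : Matrix (Fin 2) (Fin 2) F) 0 0) → χ g = -1)) ∧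
    (χ 1 = (((Fintype.card F - 1) / 2 : ℕ) : ℂ) → (∀ (c : F) (v : Fin 2 → F), v ≠ 0 → (g : Matrix (Fin 2) (Fin 2) F).mulVec v ≠ c • v) →
      (((g ^ ((Fintype.card F + 1) / 2)) : Matrix (Fin 2) (Fin 2) F) = 1 → χ g = -1) ∧ (((g ^ ((Fintype.card F + 1) / 2)) : Matrix (Fin 2) (Fin 2) F) ≠ 1 → χ g = 1)) := by
  classical
  obtain ⟨h, hh, hq'⟩ := exists_half hodd
  obtain ⟨-, ν, hν⟩ := SL2Classes.two_ne_zero_of_odd hodd
  have e1 : (Fintype.card F + 1) / 2 = h + 1 := by omega
  have e2 : (Fintype.card F - 1) / 2 = h := by omega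
  rw [e1, e2]
  obtain ⟨k, hk⟩ := exists_kind hodd hq' hχ
  refine ⟨fun hd h01 h10 ha => ?_, fun hd hg => ?_⟩
  · have hdt := det_eq g
    rw [h01, zero_mul, sub_zero] at hdt
    obtain ⟨a, ha'⟩ : ∃ a : Fˣ, (a : F) = g.1 0 0 :=
      ⟨Units.mk0 _ (left_ne_zero_of_mul_eq_one hdt), rfl⟩
    have hga : g = d a := by
      have h11 : (g.1 0 0)⁻¹ = g.1 1 1 := inv_eq_of_mul_eq_one_right hdt
      apply ext2 <;> simp [d, h01, h10, ha', h11]
    rw [← ha'] at ha
    have hk3 : HasKind χ h 3 := by
      have hd' := hd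
      rw [hk.1, Nat.cast_inj] at hd'
      fin_cases k <;> simp [tbl] at hd' <;> first | exact hk | omega
    have := add_conjNu hodd hν hq' hχ hk3 (d a)
    rw [conjNu_d, indS_d _ ha] at this
    have hinv : quad F ((a : F)⁻¹) = quad F (a : F) := by
      by_cases hs : IsSquare (a : F)
      · rw [quad_of_isSquare a.ne_zero hs, quad_of_isSquare (inv_ne_zero a.ne_zero) hs.inv]
      · rw [quad_of_not_isSquare hs, quad_of_not_isSquare fun hs' => hs (by simpa using hs'.inv)]
    rw [hinv] at this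
    rw [← ha', hga]
    refine ⟨fun hs => ?_, fun hs => ?_⟩
    · rw [quad_of_isSquare a.ne_zero hs] at this; linear_combination this / 2
    · rw [quad_of_not_isSquare hs] at this; linear_combination this / 2
  · have hk5 : HasKind χ h 5 := by
      have hd' := hd
      rw [hk.1, Nat.cast_inj] at hd'
      fin_cases k <;> simp [tbl] at hd' <;> first | exact hk | omega
    have hno := no_root hg
    obtain ⟨hC, hcard⟩ := centralizer_nonsplit hno
    rw [Nat.card_eq_fintype_card (α := F)] at hcard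
    have hgC : g ∈ Subgroup.centralizer ({g} : Set (Matrix.SpecialLinearGroup (Fin 2) F)) :=
      Subgroup.mem_centralizer_singleton_iff.2 rfl
    have hz : g ∉ Subgroup.center (Matrix.SpecialLinearGroup (Fin 2) F) := fun hz =>
      tr_sq_ne_four hno (tr_sq_eq_four_of_mem_center hz)
    have hv := half_value hC hcard hodd hq' hχ hk5 (c := ⟨g, hgC⟩) hz
    simp only [thetaZero] at hv
    refine ⟨fun he => ?_, fun he => ?_⟩
    · rw [hv, if_pos]
      · simp
      · exact Subtype.ext (Subtype.ext (by simpa using he))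
    · rw [hv, if_neg]
      · simp
      · intro e
        have e' := congrArg Subtype.val (congrArg Subtype.val e)
        exact he (by simpa using e')

end Cfsg.Agent.S2435
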