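import Cfsg.Statements.S2437
import Cfsg.Agent.Lib.SL2Borel
import Cfsg.Agent.Lib.PSL2SylowTwo

set_option autoImplicit false
open Cfsg

namespace Cfsg.Agent.S2437

open Cfsg.Agent

/-- Over a finite field F with q elements, q odd, the upper triangular subgroup of SL₂ (a Borel subgroup, of order q(q − 1)) has exactly q + 3 conjugacy classes. -/
theorem result {F : Type*} [Field F] [Fintype F] (hodd : Odd (Fintype.card F)) :
    Nat.card (ConjClasses ((Cfsg.upperTriangularGL 2 F).comap Matrix.SpecialLinearGroup.toGL)) = Fintype.card F + 3 := by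
  classical
  have h2 : (2 : F) ≠ 0 := PSL2SylowTwo.two_ne_zero_of_odd (by rwa [Nat.card_eq_fintype_card])
  set q := Fintype.card F with hq
  let e := Equiv.ofBijective _ (SL2Borel.sbor_bijective (F := F))
  have key : ∀ z w : Fˣ × F, Commute (e z) (e w) ↔
      ((z.1 : F) - (z.1 : F)⁻¹) * w.2 = ((w.1 : F) - (w.1 : F)⁻¹) * z.2 := by
    rintro ⟨a, x⟩ ⟨b, y⟩
    constructor
    · intro h
      have h' : (SL2Borel.sbor a x).1 * (SL2Borel.sbor b y).1 =
          (SL2Borel.sbor b y).1 * (SL2Borel.sbor a x).1 := congrArg Subtype.val h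
      have h'' := congrArg (fun C : Matrix.SpecialLinearGroup (Fin 2) F => C.1 0 1) h'
      simp [SL2Borel.sbor, PSL2Elements.mul_apply2] at h''
      linear_combination h''
    · intro h
      refine Subtype.ext (show (SL2Borel.sbor a x).1 * (SL2Borel.sbor b y).1 =
          (SL2Borel.sbor b y).1 * (SL2Borel.sbor a x).1 from ?_)
      apply PSL2Elements.ext2 <;> simp [SL2Borel.sbor, PSL2Elements.mul_apply2, mul_comm]
      simp only at h
      linear_combination h
  have hsq : ∀ a : Fˣ, (a : F) - (a : F)⁻¹ = 0 ↔ a ^ 2 = 1 := by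
    intro a
    rw [sub_eq_zero, Units.ext_iff, Units.val_pow_eq_pow_val, Units.val_one]
    constructor <;> intro h
    · field_simp at h; exact h
    · field_simp; exact h
  have hS : Nat.card {a : Fˣ // a ^ 2 = 1} = 2 := by
    rw [Nat.card_eq_two_iff]
    refine ⟨⟨1, one_pow 2⟩, ⟨-1, by simp⟩, fun h => h2 ?_, ?_⟩
    · have := congrArg (fun a : {a : Fˣ // a ^ 2 = 1} => ((a : Fˣ) : F)) h
      simp at this
      linear_combination this
    · refine Set.eq_univ_of_forall fun a => ?_
      rcases eq_or_eq_neg_of_sq_eq_sq (a.1 : F) 1 (by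
        rw [← Units.val_pow_eq_pow_val, a.2, Units.val_one, one_pow]) with h | h
      · exact Or.inl (Subtype.ext (Units.ext h))
      · exact Or.inr (Subtype.ext (Units.ext (by simpa using h)))
  have hu : Nat.card Fˣ = q - 1 := by rw [Nat.card_units, Nat.card_eq_fintype_card]
  have hc : ∀ z : Fˣ × F, Nat.card {w // Commute (e z) (e w)} =
      if z.1 ^ 2 = 1 then (if z.2 = 0 then (q - 1) * q else 2 * q) else q - 1 := by
    rintro ⟨a, x⟩
    rw [Nat.card_congr (Equiv.subtypeEquivRight (key (a, x)))]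
    dsimp only
    split_ifs with ha hx
    · rw [Nat.card_congr (Equiv.subtypeUnivEquiv fun w => by
        rw [(hsq a).2 ha, hx, zero_mul, mul_zero]), Nat.card_prod, hu,
        Nat.card_eq_fintype_card]
    · rw [Nat.card_congr
        { toFun := fun w : {w : Fˣ × F // ((a : F) - (a : F)⁻¹) * w.2 =
              ((w.1 : F) - (w.1 : F)⁻¹) * x} => ((⟨w.1.1, by
              have h : 0 = ((w.1.1 : F) - (w.1.1 : F)⁻¹) * x := by
                simpa only [(hsq a).2 ha, zero_mul] using w.2
              exact (hsq _).1 ((mul_eq_zero.1 h.symm).resolve_right hx)⟩, w.1.2) :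
                {b : Fˣ // b ^ 2 = 1} × F)
          invFun := fun p => ⟨(p.1.1, p.2), by rw [(hsq a).2 ha, (hsq _).2 p.1.2, zero_mul, zero_mul]⟩
          left_inv := fun w => rfl
          right_inv := fun p => rfl }, Nat.card_prod, hS, Nat.card_eq_fintype_card]
    · have ha' : (a : F) - (a : F)⁻¹ ≠ 0 := fun h => ha ((hsq a).1 h)
      rw [← hu]
      refine Nat.card_congr (Equiv.ofBijective (fun w => w.1.1) ⟨?_, fun b => ⟨⟨(b,
        ((b : F) - (b : F)⁻¹) * x / ((a : F) - (a : F)⁻¹)), mul_div_cancel₀ _ ha'⟩, rfl⟩⟩)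
      rintro ⟨⟨b, y⟩, hy⟩ ⟨⟨b', y'⟩, hy'⟩ h
      simp at h
      subst h
      simp only at hy hy'
      exact Subtype.ext (Prod.ext rfl (mul_left_cancel₀ ha' (hy.trans hy'.symm)))
  have hsum := card_comm_eq_card_conjClasses_mul_card
    ((Cfsg.upperTriangularGL 2 F).comap Matrix.SpecialLinearGroup.toGL)
  rw [← Nat.card_congr (Equiv.subtypeEquiv (p := fun p : (Fˣ × F) × (Fˣ × F) =>
      Commute (e p.1) (e p.2)) (Equiv.prodCongr e e) (fun p => Iff.rfl)),
    Nat.card_congr (Equiv.subtypeProdEquivSigmaSubtype fun z w => Commute (e z) (e w)),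
    Nat.card_sigma, Finset.sum_congr rfl fun z _ => hc z, ← Nat.card_congr e, Nat.card_prod, hu] at hsum
  simp only [Nat.card_eq_fintype_card, ← hq] at hsum
  rw [Fintype.sum_prod_type] at hsum
  have inner : ∀ a : Fˣ, (∑ x : F, if a ^ 2 = 1 then (if x = 0 then (q - 1) * q else 2 * q)
      else q - 1) = if a ^ 2 = 1 then (q - 1) * q + (q - 1) * (2 * q) else q * (q - 1) := by
    intro a
    split_ifs with ha
    · rw [← Finset.add_sum_erase _ _ (Finset.mem_univ (0 : F)), if_pos rfl,
        Finset.sum_congr rfl fun x hx => if_neg (Finset.ne_of_mem_erase hx), Finset.sum_const,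
        Finset.card_erase_of_mem (Finset.mem_univ _), Finset.card_univ, smul_eq_mul]
    · rw [Finset.sum_const, Finset.card_univ, smul_eq_mul]
  rw [Finset.sum_congr rfl fun a _ => inner a, Finset.sum_ite] at hsum
  simp only [Finset.sum_const, smul_eq_mul] at hsum
  have c1 : (Finset.univ.filter fun a : Fˣ => a ^ 2 = 1).card = 2 := by
    rw [← Fintype.card_subtype, ← Nat.card_eq_fintype_card]; exact hS
  have c2 := Finset.card_filter_add_card_filter_not (s := (Finset.univ : Finset Fˣ))
    (p := fun a : Fˣ => a ^ 2 = 1)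
  rw [c1, Finset.card_univ, ← Nat.card_eq_fintype_card, hu] at c2
  rw [c1, show (Finset.univ.filter fun a : Fˣ => ¬ a ^ 2 = 1).card = q - 3 by omega] at hsum
  obtain ⟨j, hj⟩ : ∃ j, q = j + 3 := ⟨q - 3, by omega⟩
  rw [hj] at hsum ⊢
  rw [Nat.card_eq_fintype_card]
  simp only [show j + 3 - 1 = j + 2 by omega, show j + 3 - 3 = j by omega] at hsum
  refine Nat.eq_of_mul_eq_mul_right (show 0 < (j + 2) * (j + 3) by positivity) ?_
  linear_combination -hsum

end Cfsg.Agent.S2437
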