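import Mathlib
import Cfsg.Agent.Lib.SL2Odd
import Cfsg.Agent.Lib.SL2SylowNormalizer
import Cfsg.Agent.Lib.DegreeDvd
import Cfsg.Agent.Lib.CharKernel
import Cfsg.Agent.Lib.CharBasicLinear
import Cfsg.Agent.S2437
import Cfsg.Statements.S2436
-- import your own Cfsg.Agent.* helpers here

set_option autoImplicit false
open Cfsg

namespace Cfsg.Agent.S2436

set_option linter.style.haveILetI false
open Cfsg Cfsg.Agent.CharBasic Cfsg.Agent.PSL2Elements Cfsg.Agent.SL2Torus
open scoped MatrixGroups commutatorElement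

universe u v

/-- The number of irreducible characters of degree prime to `l`. -/
noncomputable def cnt (G : Type u) [Group G] (l : ℕ) : ℕ :=
  Nat.card {χ : IrrCharacter G // ¬ l ∣ charDegree (χ : G → ℂ)}

theorem charDegree_of_eq {G : Type u} [Group G] {χ : G → ℂ} {n : ℕ} (h : χ 1 = n) :
    charDegree χ = n := by simp [charDegree, h]

theorem apply_one_eq {G : Type u} [Group G] [Finite G] (χ : IrrCharacter G) :
    (χ : G → ℂ) 1 = (charDegree (χ : G → ℂ) : ℂ) := by
  obtain ⟨n, -, hn⟩ := isIrrCharacter_apply_one χ.2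
  rw [charDegree_of_eq hn, hn]

theorem cnt_congr {G : Type u} {H : Type v} [Group G] [Group H] (e : G ≃* H) (l : ℕ) :
    cnt G l = cnt H l := by
  let E : IrrCharacter G ≃ IrrCharacter H :=
    { toFun := fun χ => ⟨(χ : G → ℂ) ∘ e.symm,
        isIrrCharacter_comap e.symm.toMonoidHom e.symm.surjective χ.2⟩
      invFun := fun χ => ⟨(χ : H → ℂ) ∘ e,
        isIrrCharacter_comap e.toMonoidHom e.surjective χ.2⟩
      left_inv := fun χ => Subtype.ext (funext fun x => by simp)
      right_inv := fun χ => Subtype.ext (funext fun x => by simp) }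
  refine Nat.card_congr (E.subtypeEquiv fun χ => ?_)
  simp [E, charDegree]

theorem cnt_eq_classes {G : Type u} [Group G] [Finite G] {l : ℕ}
    (h : ∀ χ : IrrCharacter G, ¬ l ∣ charDegree (χ : G → ℂ)) :
    cnt G l = Nat.card (ConjClasses G) := by
  rw [← CharBasicOrth.card_irrCharacter]
  exact Nat.card_congr (Equiv.subtypeUnivEquiv h)

theorem degree_dvd_card {G : Type u} [Group G] [Finite G] (χ : IrrCharacter G) :
    charDegree (χ : G → ℂ) ∣ Nat.card G :=
  (CharKernel.charDegree_dvd_index χ).trans (Subgroup.index_dvd_card _)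

theorem degree_dvd_index {G : Type u} [Group G] [Finite G] (A : Subgroup G) [A.Normal]
    (hA : ∀ a b : A, a * b = b * a) (χ : IrrCharacter G) :
    charDegree (χ : G → ℂ) ∣ A.index := by
  obtain ⟨n, -, hn, hd⟩ := DegreeDvd.degree_dvd_index_abelian χ.2 A hA
  rwa [charDegree_of_eq hn]

/-- Linear characters. -/
theorem card_degree_one {G : Type u} [Group G] [Finite G] :
    Nat.card {χ : IrrCharacter G // charDegree (χ : G → ℂ) = 1} = (commutator G).index := by
  rw [← CharBasicLinear.card_linear]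
  refine Nat.card_congr (Equiv.subtypeEquivRight fun χ => ?_)
  rw [apply_one_eq χ, Nat.cast_eq_one]

/-- In a `2`-group the odd degree characters are the linear ones. -/
theorem cnt_two_group {G : Type u} [Group G] [Finite G] (hG : IsPGroup 2 G) :
    cnt G 2 = (commutator G).index := by
  rw [← card_degree_one]
  refine Nat.card_congr (Equiv.subtypeEquivRight fun χ => ?_)
  obtain ⟨n, hn⟩ := IsPGroup.iff_card.1 hG
  obtain ⟨i, -, hi⟩ := (Nat.dvd_prime_pow Nat.prime_two).1 (hn ▸ degree_dvd_card χ)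
  rw [hi]
  rcases i with _ | i
  · simp
  · simp [pow_succ]

/-- A group of order `24` with three linear characters has four characters of odd degree. -/
theorem cnt_order24 {G : Type u} [Group G] [Finite G] (hc : Nat.card G = 24)
    (hl : (commutator G).index = 3) : cnt G 2 = 4 := by
  classical
  have := Fintype.ofFinite G
  set d : IrrCharacter G → ℕ := fun χ => charDegree (χ : G → ℂ) with hd
  have hsum : ∑ χ, d χ ^ 2 = 24 := by
    have := CharBasicOrth.sum_sq_apply_one (G := G)
    rw [Finset.sum_congr rfl fun χ _ => by rw [apply_one_eq χ], hc] at this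
    exact_mod_cast this
  have hdvd : ∀ χ, d χ ∣ 24 := fun χ => hc ▸ degree_dvd_card χ
  have hle : ∀ χ, d χ ^ 2 ≤ 24 := fun χ => hsum ▸
    Finset.single_le_sum (f := fun χ => d χ ^ 2) (fun _ _ => Nat.zero_le _) (Finset.mem_univ χ)
  have hodd : ∀ χ, ¬ 2 ∣ d χ ↔ d χ = 1 ∨ d χ = 3 := by
    intro χ
    have h1 := hle χ
    have h2 := hdvd χ
    have h3 : d χ ≤ 4 := by nlinarith
    interval_cases h : d χ <;> simp_all
  set L := Finset.univ.filter fun χ => d χ = 1
  set T := Finset.univ.filter fun χ => d χ = 3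
  set E := Finset.univ.filter fun χ => 2 ∣ d χ
  have hL : L.card = 3 := by
    rw [← hl, ← card_degree_one, Nat.subtype_card L fun χ => by simp [L, hd]]
  have hdis : Disjoint L T := Finset.disjoint_filter.2 fun χ _ h => by omega
  have hsplit : ∑ χ, d χ ^ 2 = L.card + T.card * 9 + ∑ χ ∈ E, d χ ^ 2 := by
    have h1 := Finset.sum_filter_add_sum_filter_not Finset.univ (fun χ => ¬ 2 ∣ d χ)
      (fun χ => d χ ^ 2)
    have h2 : (Finset.univ.filter fun χ => ¬ 2 ∣ d χ) = L ∪ T := by
      ext χ; simp [L, T, hodd]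
    have hLs : ∑ χ ∈ L, d χ ^ 2 = L.card := by
      rw [Finset.card_eq_sum_ones]
      exact Finset.sum_congr rfl fun χ hχ => by rw [(Finset.mem_filter.1 hχ).2, one_pow]
    have hTs : ∑ χ ∈ T, d χ ^ 2 = T.card * 9 := by
      rw [← smul_eq_mul, ← Finset.sum_const]
      exact Finset.sum_congr rfl fun χ hχ => by rw [(Finset.mem_filter.1 hχ).2]; rfl
    rw [h2, Finset.sum_union hdis, hLs, hTs] at h1
    simp only [not_not] at h1
    rw [← h1]
  have hE : 4 ∣ ∑ χ ∈ E, d χ ^ 2 := Finset.dvd_sum fun χ hχ => by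
    have := pow_dvd_pow_of_dvd (Finset.mem_filter.1 hχ).2 2
    simpa using this
  obtain ⟨j, hj⟩ := hE
  have hT : T.card = 1 := by omega
  unfold cnt
  rw [Nat.subtype_card (L ∪ T) fun χ => by
      simp only [L, T, Finset.mem_union, Finset.mem_filter, Finset.mem_univ, true_and]
      exact (hodd χ).symm,
    Finset.card_union_of_disjoint hdis, hL, hT]

section SL

variable {F : Type u} [Field F] [Fintype F]

/-- The count in `SL(2, q)`. -/
theorem cnt_SL (hodd : Odd (Fintype.card F)) {h : ℕ} (hq : Fintype.card F = 2 * h + 1) (l : ℕ) :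
    cnt SL(2, F) l = ∑ k : Fin 6,
      if l ∣ (SL2Odd.tbl (Fintype.card F) h k).1 then 0 else ![1, 1, h - 1, 2, h, 2] k := by
  classical
  have hh : 0 < h := by have := Fintype.one_lt_card (α := F); omega
  choose kd hkd using fun χ : IrrCharacter SL(2, F) => SL2Odd.exists_kind hodd hq χ.2
  have hdeg : ∀ χ : IrrCharacter SL(2, F), charDegree (χ : SL(2, F) → ℂ) = (SL2Odd.tbl (Fintype.card F) h (kd χ)).1 :=
    fun χ => charDegree_of_eq (hkd χ).1
  rw [cnt, Nat.subtype_card (Finset.univ.filter fun χ : IrrCharacter SL(2, F) => ¬ l ∣ charDegree (χ : SL(2, F) → ℂ))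
    (fun χ => by simp), Finset.card_eq_sum_card_fiberwise (f := kd) (t := Finset.univ)
    (fun _ _ => Finset.mem_univ _)]
  refine Finset.sum_congr rfl fun k _ => ?_
  rw [Finset.filter_filter]
  split_ifs with hk
  · rw [Finset.card_eq_zero, Finset.filter_eq_empty_iff]
    rintro χ - ⟨h1, h2⟩
    rw [hdeg, h2] at h1
    exact h1 hk
  · rw [← SL2Odd.card_kind hodd hq k]
    refine (Nat.subtype_card _ fun χ => ?_).symm
    simp only [Finset.mem_filter, Finset.mem_univ, true_and]
    exact ⟨fun h' => h'.2 ▸ hkd χ, fun h' => by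
      have := (hkd χ).unique hh hq h'
      exact ⟨by rw [hdeg, this]; exact hk, this⟩⟩

/-- Classes of the normaliser of a torus. -/
theorem classes_torus_normalizer (h2 : (2 : F) ≠ 0) {z : SL(2, F)} (hz : tr z ^ 2 ≠ 4) :
    2 * Nat.card (ConjClasses (Subgroup.normalizer (tor z : Set SL(2, F)))) =
      Nat.card (tor z) + 6 := by
  classical
  set N := Subgroup.normalizer (tor z : Set SL(2, F)) with hN
  set T := (tor z).subgroupOf N with hT
  have hTN : tor z ≤ N := Subgroup.le_normalizer
  have hcT : Nat.card T = Nat.card (tor z) :=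
    Nat.card_congr (Subgroup.subgroupOfEquivOfLe hTN).toEquiv
  have hcN : Nat.card N = 2 * Nat.card (tor z) := card_normalizer h2 hz
  have hidx : T.index = 2 := by
    have h1 := T.card_mul_index
    rw [hcT, hcN, mul_comm 2] at h1
    exact Nat.eq_of_mul_eq_mul_left Nat.card_pos h1
  have hne : (1 : SL(2, F)) ≠ -1 := fun e => h2 (by
    have := congrArg (fun A : SL(2, F) => A.1 0 0) e
    simp at this
    linear_combination this)
  have hm1 : (-1 : SL(2, F)) ∈ tor z := Subgroup.mem_centralizer_singleton_iff.2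
    (Subgroup.mem_center_iff.1 ((mem_center_iff _).2 (Or.inr rfl)) z).symm
  let m : N := ⟨-1, hTN hm1⟩
  have hm : m ∈ T := hm1
  have hinv : ∀ x : N, x ∉ T → ∀ a : N, a ∈ T → x * a * x⁻¹ = a⁻¹ := fun x hx a ha =>
    Subtype.ext (inverts h2 hz x.2 hx a ha)
  have hsq : ∀ a : N, a⁻¹ = a → a = 1 ∨ a = m := fun a ha => by
    rcases eq_one_or_neg_one_of_sq_eq_one h2 (A := (a : SL(2, F)))
      (by rw [sq]; nth_rw 1 [← ha]; simp) with h | h
    · exact Or.inl (Subtype.ext h)
    · exact Or.inr (Subtype.ext h)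
  have hcen : ∀ a : N, a = 1 ∨ a = m → ∀ b : N, Commute a b := by
    rintro a (rfl | rfl) b
    · exact Commute.one_left b
    · exact Subtype.ext (Subgroup.mem_center_iff.1 ((mem_center_iff _).2 (Or.inr rfl)) (b : SL(2, F))).symm
  have hfix : ∀ x : N, x ∉ T → ∀ a : N, a ∈ T → Commute x a → a = 1 ∨ a = m := fun x hx a ha hc =>
    hsq a (by rw [← hinv x hx a ha, hc.eq, mul_inv_cancel_right])
  have key : ∀ x : N, Nat.card {w : N // Commute x w} =
      if x = 1 ∨ x = m then 2 * Nat.card (tor z) else if x ∈ T then Nat.card (tor z) else 4 := by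
    intro x
    split_ifs with h1 h3
    · rw [Nat.card_congr (Equiv.subtypeUnivEquiv (hcen x h1)), hcN]
    · rw [← hcT]
      refine Nat.card_congr (Equiv.subtypeEquivRight fun w => ⟨fun hc => ?_, fun hw => ?_⟩)
      · by_contra hw
        exact h1 (hfix w hw x h3 hc.symm)
      · exact Subtype.ext (tor_comm hz h3 hw)
    · have hxx : x * x⁻¹ = 1 := mul_inv_cancel x
      rw [Nat.subtype_card {1, m, x, m * x} fun w => ?_]
      · have a1 : (1 : N) ≠ m := fun e => hne (congrArg Subtype.val e)
        have a2 : x ≠ m * x := fun e => a1 (mul_right_cancel ((one_mul x).trans e))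
        have a3 : m * x ∉ T := fun e => h3 ((T.mul_mem_cancel_left hm).1 e)
        rw [Finset.card_insert_of_notMem, Finset.card_insert_of_notMem, Finset.card_pair a2]
        · simp only [Finset.mem_insert, Finset.mem_singleton, not_or]
          exact ⟨fun e => h3 (e ▸ hm), fun e => a3 (e ▸ hm)⟩
        · simp only [Finset.mem_insert, Finset.mem_singleton, not_or]
          exact ⟨a1, fun e => h3 (e ▸ one_mem T), fun e => a3 (e ▸ one_mem T)⟩
      · simp only [Finset.mem_insert, Finset.mem_singleton]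
        constructor
        · rintro (e | e | e | e) <;> rw [e]
          · exact Commute.one_right x
          · exact (hcen m (Or.inr rfl) x).symm
          · exact ((hcen m (Or.inr rfl) x).symm).mul_right (Commute.refl x)
        · intro hc
          by_cases hw : w ∈ T
          · rcases hfix x h3 w hw hc with e | e
            · exact Or.inl e
            · exact Or.inr (Or.inl e)
          · have hwx : w * x⁻¹ ∈ T := by
              rw [Subgroup.mul_mem_iff_of_index_two hidx, inv_mem_iff]
              exact iff_of_false hw h3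
            rcases hfix x h3 _ hwx (hc.mul_right (Commute.refl x).inv_right) with e | e
            · exact Or.inr (Or.inr (Or.inl (mul_inv_eq_one.1 e)))
            · exact Or.inr (Or.inr (Or.inr (by rw [← e, inv_mul_cancel_right])))
  have hsum := card_comm_eq_card_conjClasses_mul_card N
  rw [Nat.card_congr (Equiv.subtypeProdEquivSigmaSubtype fun z w : N => Commute z w),
    Nat.card_sigma, Finset.sum_congr rfl fun x _ => key x, hcN, Finset.sum_ite, Finset.sum_ite]
    at hsum
  simp only [Finset.sum_const, smul_eq_mul, Finset.filter_filter] at hsum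
  have c1 : (Finset.univ.filter fun x : N => x = 1 ∨ x = m).card = 2 := by
    rw [show (Finset.univ.filter fun x : N => x = 1 ∨ x = m) = {1, m} by ext; simp]
    exact Finset.card_pair fun e => hne (congrArg Subtype.val e)
  have cT : (Finset.univ.filter fun x : N => x ∈ T).card = Nat.card (tor z) := by
    rw [← hcT]; exact (Nat.subtype_card _ fun x => by simp).symm
  have c2 : (Finset.univ.filter fun x : N => ¬ (x = 1 ∨ x = m) ∧ x ∈ T).card + 2 =
      Nat.card (tor z) := by
    have h4 := Finset.card_union_of_disjoint (s := Finset.univ.filter fun x : N => ¬ (x = 1 ∨ x = m) ∧ x ∈ T)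
      (t := Finset.univ.filter fun x : N => x = 1 ∨ x = m) (Finset.disjoint_filter.2 fun x _ hx => hx.1)
    rw [c1] at h4
    rw [← h4, ← cT]
    congr 1
    ext x
    simp only [Finset.mem_union, Finset.mem_filter, Finset.mem_univ, true_and]
    refine ⟨fun h' => h'.elim (fun h' => h'.2) ?_, fun h' => ?_⟩
    · rintro (rfl | rfl)
      exacts [one_mem T, hm]
    · by_cases hx : x = 1 ∨ x = m
      exacts [Or.inr hx, Or.inl ⟨hx, h'⟩]
  have c3 : (Finset.univ.filter fun x : N => ¬ (x = 1 ∨ x = m) ∧ ¬ x ∈ T).card +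
      Nat.card (tor z) = 2 * Nat.card (tor z) := by
    rw [← hcN, Nat.card_eq_fintype_card (α := N), ← Finset.card_univ,
      ← Finset.card_filter_add_card_filter_not (s := (Finset.univ : Finset N)) (p := fun x => x ∈ T),
      cT, add_comm]
    congr 2
    ext x
    simp only [Finset.mem_filter, Finset.mem_univ, true_and]
    refine ⟨fun h' => h'.2, fun h' => ⟨?_, h'⟩⟩
    rintro (rfl | rfl)
    exacts [h' (one_mem T), h' hm]
  rw [c1] at hsum
  generalize (Finset.univ.filter fun x : N => ¬ (x = 1 ∨ x = m) ∧ x ∈ T).card = a at hsum c2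
  generalize (Finset.univ.filter fun x : N => ¬ (x = 1 ∨ x = m) ∧ ¬ x ∈ T).card = b at hsum c3
  generalize Nat.card (ConjClasses N) = k at hsum
  have hpos : 0 < Nat.card (tor z) := Nat.card_pos
  generalize Nat.card (tor z) = t at hsum c2 c3 hpos
  obtain rfl : b = t := by omega
  refine Nat.eq_of_mul_eq_mul_right hpos ?_
  subst c2
  linear_combination -hsum

end SL

/-- The abelianisation of a quaternion Sylow subgroup has order four. -/
theorem index_commutator_sylow {F : Type u} [Field F] [Finite F] (hq : Odd (Nat.card F))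
    (S : Sylow 2 SL(2, F)) : (commutator (S : Subgroup SL(2, F))).index = 4 := by
  obtain ⟨k, c, y, -, hc, hy, -, hoc, hyc, -, -, hcard, hS⟩ :=
    SL2SylowNormalizer.sylow_two_gens hq S
  let c' : (S : Subgroup SL(2, F)) := ⟨c, hc⟩
  let y' : (S : Subgroup SL(2, F)) := ⟨y, hy⟩
  have hyc' : y' * c' * y'⁻¹ = c'⁻¹ := Subtype.ext hyc
  set K := Subgroup.zpowers (c' ^ 2)
  have hKcard : Nat.card K = 2 ^ k := by
    rw [Nat.card_zpowers, orderOf_pow' _ two_ne_zero, ← Subgroup.orderOf_coe,
      show (c' : SL(2, F)) = c from rfl, hoc, Nat.gcd_mul_right_left]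
    simp
  have hKidx : K.index = 4 := by
    have h := K.card_mul_index
    rw [hKcard, hcard, mul_comm 4] at h
    exact Nat.eq_of_mul_eq_mul_left (by positivity) h
  have hgen : ∀ s : (S : Subgroup SL(2, F)), ∃ i : ℕ, s = c' ^ i ∨ s = y' * c' ^ i := by
    rintro ⟨s, hs⟩
    rcases hS s hs with ⟨i, rfl⟩ | ⟨-, i, rfl⟩
    · exact ⟨i, Or.inl (Subtype.ext (by simp [c']))⟩
    · exact ⟨i, Or.inr (Subtype.ext (by simp [c', y']))⟩
  have hKn : K.Normal := by
    refine ⟨fun a ha s => ?_⟩
    obtain ⟨j, rfl⟩ := Subgroup.mem_zpowers_iff.1 ha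
    obtain ⟨i, rfl | rfl⟩ := hgen s
    · rw [((((Commute.refl c').pow_pow i 2)).zpow_right j).eq, mul_inv_cancel_right]
      exact Subgroup.zpow_mem_zpowers _ j
    · rw [_root_.mul_inv_rev, show y' * c' ^ i * (c' ^ 2) ^ j * ((c' ^ i)⁻¹ * y'⁻¹) =
        y' * (c' ^ i * (c' ^ 2) ^ j * (c' ^ i)⁻¹) * y'⁻¹ by group,
        ((((Commute.refl c').pow_pow i 2)).zpow_right j).eq, mul_inv_cancel_right,
        ← conj_zpow, ← conj_pow, hyc', inv_pow, inv_zpow]
      exact inv_mem (Subgroup.zpow_mem_zpowers _ j)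
  refine Eq.trans (congrArg Subgroup.index (le_antisymm ?_ ?_)) hKidx
  · have : IsMulCommutative ((S : Subgroup SL(2, F)) ⧸ K) :=
      ⟨⟨IsPGroup.commutative_of_card_eq_prime_sq (p := 2) (by rw [← Subgroup.index_eq_card, hKidx]; rfl)⟩⟩
    exact (Subgroup.Normal.quotient_commutative_iff_commutator_le).1 this
  · rw [Subgroup.zpowers_le]
    have h1 : ⁅y', c'⁆ ∈ commutator (S : Subgroup SL(2, F)) :=
      Subgroup.commutator_mem_commutator (Subgroup.mem_top _) (Subgroup.mem_top _)
    rw [commutatorElement_def, hyc', show c'⁻¹ * c'⁻¹ = (c' ^ 2)⁻¹ by group] at h1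
    exact inv_mem_iff.1 h1

theorem index_commutator_normalizer {F : Type u} [Field F] [Finite F] (hq : Odd (Nat.card F))
    (h8 : Nat.card F % 8 = 3 ∨ Nat.card F % 8 = 5) (S : Sylow 2 SL(2, F)) :
    Nat.card (Subgroup.normalizer ((S : Subgroup SL(2, F)) : Set SL(2, F))) = 24 ∧
    (commutator (Subgroup.normalizer ((S : Subgroup SL(2, F)) : Set SL(2, F)))).index = 3 := by
  obtain ⟨hS8, hN, c, y, W, hc, hy, hcc, -, hW, hWy, hWc, hlist⟩ :=
    SL2SylowNormalizer.sylow_two_three hq h8 S
  set N := Subgroup.normalizer ((S : Subgroup SL(2, F)) : Set SL(2, F))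
  rw [hS8] at hN
  refine ⟨hN, ?_⟩
  set S' := (S : Subgroup SL(2, F)).subgroupOf N
  have hSN : (S : Subgroup SL(2, F)) ≤ N := Subgroup.le_normalizer
  have hS'c : Nat.card S' = 8 :=
    (Nat.card_congr (Subgroup.subgroupOfEquivOfLe hSN).toEquiv).trans hS8
  have hidx : S'.index = 3 := by
    have h := S'.card_mul_index
    rw [hS'c, hN] at h
    omega
  have : S'.Normal := Subgroup.normal_in_normalizer
  let c' : N := ⟨c, hSN hc⟩
  let y' : N := ⟨y, hSN hy⟩
  let W' : N := ⟨W, hW⟩
  set D := commutator N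
  have h1 : ⁅W', y'⁆ ∈ D := Subgroup.commutator_mem_commutator (Subgroup.mem_top _) (Subgroup.mem_top _)
  have h2 : ⁅W', c'⁆ ∈ D := Subgroup.commutator_mem_commutator (Subgroup.mem_top _) (Subgroup.mem_top _)
  rw [commutatorElement_def, show W' * y' * W'⁻¹ = c' from Subtype.ext hWy] at h1
  rw [commutatorElement_def, show W' * c' * W'⁻¹ = c' * y' from Subtype.ext hWc] at h2
  have hyD : y' ∈ D := by
    have := (inferInstance : D.Normal).conj_mem _ h2 c'⁻¹
    rwa [show c'⁻¹ * (c' * y' * c'⁻¹) * c'⁻¹⁻¹ = y' by group] at this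
  have hcD : c' ∈ D := by
    have := mul_mem h1 hyD
    rwa [inv_mul_cancel_right] at this
  refine Eq.trans (congrArg Subgroup.index (le_antisymm ?_ ?_)) hidx
  · have hcyc : IsCyclic (N ⧸ S') := isCyclic_of_prime_card (p := 3) (hp := ⟨Nat.prime_three⟩)
      (by rw [← Subgroup.index_eq_card, hidx])
    exact (Subgroup.Normal.quotient_commutative_iff_commutator_le).1 (IsCyclic.isMulCommutative)
  · intro s hs
    have hm : (-1 : SL(2, F)) ∈ N := hcc ▸ hSN (mul_mem hc hc)
    have hmD : (⟨-1, hm⟩ : N) ∈ D := by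
      have : c' * c' = ⟨-1, hm⟩ := Subtype.ext hcc
      exact this ▸ mul_mem hcD hcD
    have key : ∀ (g : SL(2, F)) (g' : N), (s : SL(2, F)) = g → (g' : SL(2, F)) = g → g' ∈ D → s ∈ D :=
      fun g g' e1 e2 hg => by rwa [show s = g' from Subtype.ext (e1.trans e2.symm)]
    rcases hlist s hs with h | e | e | e | e | e | e
    · rcases (mem_center_iff _).1 h with e | e
      · exact key _ 1 e rfl (one_mem D)
      · exact key _ ⟨-1, hm⟩ e rfl hmD
    · exact key _ c' e rfl hcD
    · exact key _ c'⁻¹ e rfl (inv_mem hcD)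
    · exact key _ y' e rfl hyD
    · exact key _ y'⁻¹ e rfl (inv_mem hyD)
    · exact key _ (c' * y') e rfl (mul_mem hcD hyD)
    · exact key _ (c' * y')⁻¹ e rfl (inv_mem (mul_mem hcD hyD))

theorem main {F : Type u} [Field F] [Fintype F] (hodd : Odd (Fintype.card F)) (l : ℕ) [Fact l.Prime]
    (S : Sylow l SL(2, F)) :
    cnt SL(2, F) l = cnt (Subgroup.normalizer ((S : Subgroup SL(2, F)) : Set SL(2, F))) l := by
  classical
  obtain ⟨h, hh, hq⟩ := SL2Odd.exists_half hodd
  have hqn : Odd (Nat.card F) := by rwa [Nat.card_eq_fintype_card]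
  have h2F := PSL2SylowTwo.two_ne_zero_of_odd hqn
  have hl := (Fact.out : l.Prime)
  set N := Subgroup.normalizer ((S : Subgroup SL(2, F)) : Set SL(2, F)) with hN
  by_cases hl2 : l = 2
  · subst hl2
    have hG : cnt SL(2, F) 2 = 4 := by
      rw [cnt_SL hodd hq, Fin.sum_univ_six]
      simp only [SL2Odd.tbl, hq, Matrix.cons_val_zero, Matrix.cons_val_one, Matrix.cons_val]
      rcases Nat.even_or_odd h with he | ho
      · rw [if_neg (by norm_num), if_neg (by omega), if_pos (by omega),
          if_neg (by rw [Nat.even_iff] at he; omega), if_pos (by omega),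
          if_pos (even_iff_two_dvd.1 he)]
      · rw [if_neg (by norm_num), if_neg (by omega), if_pos (by omega),
          if_pos (by rw [Nat.odd_iff] at ho; omega), if_pos (by omega),
          if_neg (by rw [Nat.odd_iff] at ho; omega)]
    rw [hG]
    have h8 : (Nat.card F % 8 = 1 ∨ Nat.card F % 8 = 7) ∨ (Nat.card F % 8 = 3 ∨ Nat.card F % 8 = 5) := by
      rw [Nat.card_eq_fintype_card]; omega
    rcases h8 with h8 | h8
    · have := SL2SylowNormalizer.normalizer_sylow_two_self hqn h8 S
      rw [← hN] at this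
      rw [cnt_congr (MulEquiv.subgroupCongr this) 2, cnt_two_group S.2, index_commutator_sylow hqn S]
    · obtain ⟨hc, hi⟩ := index_commutator_normalizer hqn h8 S
      rw [cnt_order24 hc hi]
  obtain ⟨p, _, _, hp2⟩ := SL2SylowNormalizer.exists_char h2F
  obtain ⟨n, hn0, hn⟩ := PSL2Sylow.card_field_eq (F := F) p
  rw [Nat.card_eq_fintype_card] at hn
  have hnot2 : ¬ l ∣ 2 := fun hd => hl2 ((Nat.prime_dvd_prime_iff_eq hl Nat.prime_two).1 hd)
  by_cases hlp : l = p
  · subst hlp
    have hlq : l ∣ 2 * h + 1 := hq ▸ hn ▸ dvd_pow_self l (by omega)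
    have hl1 : ¬ l ∣ h := fun hd => hl.not_dvd_one ((Nat.dvd_add_right (hd.mul_left 2)).1 hlq)
    have hl3 : ¬ l ∣ h + 1 := fun hd => hl.not_dvd_one
      ((Nat.dvd_add_right hlq).1 (show l ∣ 2 * h + 1 + 1 from hd.mul_left 2))
    have hl4 : ¬ l ∣ 2 * h + 1 + 1 := fun hd => hl.not_dvd_one ((Nat.dvd_add_right hlq).1 hd)
    have hl5 : ¬ l ∣ 2 * h := fun hd => hl.not_dvd_one ((Nat.dvd_add_right hd).1 hlq)
    have hG : cnt SL(2, F) l = 2 * h + 4 := by
      rw [cnt_SL hodd hq, Fin.sum_univ_six]
      simp only [SL2Odd.tbl, hq, Matrix.cons_val_zero, Matrix.cons_val_one, Matrix.cons_val]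
      rw [if_neg hl.not_dvd_one, if_pos hlq, if_neg hl4, if_neg hl3,
        if_neg (by simpa using hl5), if_neg hl1]
      omega
    obtain ⟨g, hg⟩ := PSL2Sylow.sylow_eq_conj l S
    have hNB : N = (PSL2Sylow.borel F).map (MulAut.conj g).toMonoidHom := by
      rw [← PSL2Sylow.normalizer_uSub, Subgroup.map_equiv_normalizer_eq, hN, hg]
      rfl
    rw [hG, cnt_congr ((MulEquiv.subgroupCongr hNB).trans
      (Subgroup.equivMapOfInjective (PSL2Sylow.borel F) (MulAut.conj g).toMonoidHom
        (MulAut.conj g).injective).symm) l]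
    set U := (PSL2Sylow.uSub F).subgroupOf (PSL2Sylow.borel F) with hU
    have hUle : PSL2Sylow.uSub F ≤ PSL2Sylow.borel F :=
      Subgroup.le_normalizer.trans PSL2Sylow.normalizer_uSub.le
    have : U.Normal := Subgroup.normal_subgroupOf_of_le_normalizer PSL2Sylow.normalizer_uSub.ge
    have hUi : U.index = 2 * h := by
      have h1 := U.card_mul_index
      rw [hU, Nat.card_congr (Subgroup.subgroupOfEquivOfLe hUle).toEquiv, PSL2Sylow.card_uSub,
        PSL2Sylow.card_borel] at h1
      rw [hU, Nat.eq_of_mul_eq_mul_left Nat.card_pos h1, Nat.card_eq_fintype_card, hq]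
      omega
    have hUab : ∀ a b : U, a * b = b * a := by
      rintro ⟨⟨a, _⟩, ha⟩ ⟨⟨b, _⟩, hb⟩
      obtain ⟨x, rfl⟩ := PSL2Sylow.mem_uSub.1 ha
      obtain ⟨x', rfl⟩ := PSL2Sylow.mem_uSub.1 hb
      refine Subtype.ext (Subtype.ext ?_)
      show u x * u x' = u x' * u x
      rw [u_mul, u_mul, add_comm]
    rw [cnt_eq_classes fun χ hd => hl5 (hUi ▸ hd.trans (degree_dvd_index U hUab χ))]
    have hB : PSL2Sylow.borel F =
        (Cfsg.upperTriangularGL 2 F).comap Matrix.SpecialLinearGroup.toGL := by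
      ext x
      rw [PSL2Sylow.mem_borel]
      exact (SL2Borel.mem_borelS x).symm
    rw [hB, S2437.result hodd, hq]
  by_cases hdvd : l ∣ Nat.card F - 1 ∨ l ∣ Nat.card F + 1
  · obtain ⟨z, hCz, hcyc, hNc, h1, h1'⟩ := SL2SylowNormalizer.sylow_odd hqn l hl2 S hdvd
    -- the normaliser is that of the torus
    set m := Nat.card (tor z) with hm
    have hm' : m = Nat.card F - 1 ∨ m = Nat.card F + 1 := hdvd.imp h1 h1'
    have hlm : l ∣ m := by
      rcases hdvd with hd | hd
      · rwa [h1 hd]
      · rwa [h1' hd]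
    have hm3 : 3 ≤ m := by
      have := Nat.le_of_dvd Nat.card_pos hlm
      have := hl.two_le
      omega
    obtain ⟨g, hg⟩ := hcyc.exists_generator
    have hgo : orderOf (g : SL(2, F)) = m := by
      rw [Subgroup.orderOf_coe, orderOf_eq_card_of_forall_mem_zpowers hg]
    have hgcop : (orderOf (g : SL(2, F))).Coprime p := by
      rw [hgo, Nat.coprime_comm, (Fact.out : p.Prime).coprime_iff_not_dvd]
      intro hd
      have hpq : p ∣ Nat.card F := by
        rw [Nat.card_eq_fintype_card, hn]; exact dvd_pow_self p (by omega)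
      refine (Fact.out : p.Prime).not_dvd_one ?_
      have := PSLCard.one_lt_card F
      rcases hm' with e | e
      · have := Nat.dvd_sub hpq (e ▸ hd)
        rwa [show Nat.card F - (Nat.card F - 1) = 1 by omega] at this
      · exact (Nat.dvd_add_right hpq).1 (e ▸ hd)
    have hne : ∀ x : SL(2, F), x ^ 2 = 1 → (g : SL(2, F)) ≠ x := fun x hx e => by
      have := Nat.le_of_dvd two_pos (orderOf_dvd_of_pow_eq_one (show (g : SL(2, F)) ^ 2 = 1 by rw [e, hx]))
      omega
    have hgz : tr (g : SL(2, F)) ^ 2 ≠ 4 :=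
      tr_sq_ne_of_coprime h2F p hgcop (hne 1 (one_pow 2)) (hne (-1) neg_one_sq)
    have hle : tor z ≤ tor (g : SL(2, F)) := fun x hx => by
      obtain ⟨i, hi⟩ := Subgroup.mem_zpowers_iff.1 (hg ⟨x, hx⟩)
      have hxi : x = (g : SL(2, F)) ^ i := by
        have := congrArg Subtype.val hi
        simpa using this.symm
      rw [hxi]
      exact Subgroup.mem_centralizer_singleton_iff.2 ((Commute.refl (g : SL(2, F))).zpow_left i).eq
    have hScyc := PSL2Sylow.isCyclic_sylow (p := p) l hl2 hlp S
    have hSle : (S : Subgroup SL(2, F)) ≤ tor z := fun s hs => by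
      rw [← hCz, Subgroup.mem_centralizer_iff]
      intro s' hs'
      have := hScyc.isMulCommutative
      exact congrArg Subtype.val (mul_comm' (⟨s', hs'⟩ : (S : Subgroup SL(2, F))) ⟨s, hs⟩)
    have heq : tor (g : SL(2, F)) = tor z := by
      refine le_antisymm (fun x hx => ?_) hle
      rw [← hCz, Subgroup.mem_centralizer_iff]
      exact fun s hs => tor_comm hgz (hle (hSle hs)) hx
    have hNT : N = Subgroup.normalizer (tor (g : SL(2, F)) : Set SL(2, F)) := by
      refine Subgroup.eq_of_le_of_card_ge (fun x hx => ?_) ?_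
      · rw [heq, ← hCz, Subgroup.mem_normalizer_iff]
        have hx' := Subgroup.mem_normalizer_iff.1 hx
        intro y
        simp only [SetLike.mem_coe, Subgroup.mem_centralizer_iff]
        refine ⟨fun hy s hs => ?_, fun hy s hs => ?_⟩
        · have hs' : x⁻¹ * s * x ∈ (S : Subgroup SL(2, F)) := (hx' _).2 (by simpa [mul_assoc] using hs)
          have := hy _ hs'
          calc s * (x * y * x⁻¹) = x * ((x⁻¹ * s * x) * y) * x⁻¹ := by group
            _ = x * (y * (x⁻¹ * s * x)) * x⁻¹ := by rw [this]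
            _ = x * y * x⁻¹ * s := by group
        · have := hy _ ((hx' s).1 hs)
          calc s * y = x⁻¹ * ((x * s * x⁻¹) * (x * y * x⁻¹)) * x := by group
            _ = x⁻¹ * ((x * y * x⁻¹) * (x * s * x⁻¹)) * x := by rw [this]
            _ = y * s := by group
      · rw [card_normalizer h2F hgz, heq, hN, hNc]
    rw [cnt_congr (MulEquiv.subgroupCongr hNT) l]
    set M := Subgroup.normalizer (tor (g : SL(2, F)) : Set SL(2, F))
    set A := (tor (g : SL(2, F))).subgroupOf M
    have hA : A.Normal := Subgroup.normal_in_normalizer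
    have hAi : A.index = 2 := by
      have h1 := A.card_mul_index
      rw [Nat.card_congr (Subgroup.subgroupOfEquivOfLe Subgroup.le_normalizer).toEquiv,
        card_normalizer h2F hgz, mul_comm 2] at h1
      exact Nat.eq_of_mul_eq_mul_left Nat.card_pos h1
    have hAab : ∀ a b : A, a * b = b * a := fun a b =>
      Subtype.ext (Subtype.ext (tor_comm hgz a.2 b.2))
    rw [cnt_eq_classes fun χ hd => hnot2 (hAi ▸ hd.trans (degree_dvd_index A hAab χ))]
    have hk : 2 * Nat.card (ConjClasses M) = m + 6 := by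
      have h1 := classes_torus_normalizer h2F hgz
      have h2 : Nat.card (tor (g : SL(2, F))) = m := by rw [heq, hm]
      rwa [h2] at h1
    rw [cnt_SL hodd hq, Fin.sum_univ_six]
    simp only [SL2Odd.tbl, hq, Matrix.cons_val_zero, Matrix.cons_val_one, Matrix.cons_val]
    rw [Nat.card_eq_fintype_card, hq] at hm'
    have hl0 : ¬ l ∣ 2 * h + 1 := fun hd => by
      rw [← hq, hn] at hd
      exact hlp ((Nat.prime_dvd_prime_iff_eq hl Fact.out).1 (hl.dvd_of_dvd_pow hd))
    rcases hm' with e | e <;> rw [e] at hk hlm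
    · have hlh : l ∣ h := (hl.dvd_mul.1 (by simpa using hlm : l ∣ 2 * h)).resolve_left hnot2
      rw [if_neg hl.not_dvd_one, if_neg hl0,
        if_neg (fun hd => hnot2 ((Nat.dvd_add_right (hlh.mul_left 2)).1 (show l ∣ 2 * h + 2 from hd))),
        if_neg (fun hd => hl.not_dvd_one ((Nat.dvd_add_right hlh).1 hd)),
        if_pos (by simpa using hlh.mul_left 2), if_pos hlh]
      omega
    · have hlh : l ∣ h + 1 :=
        (hl.dvd_mul.1 (show l ∣ 2 * (h + 1) from hlm)).resolve_left hnot2
      have hlh' : ¬ l ∣ h := fun hd => hl.not_dvd_one ((Nat.dvd_add_right hd).1 hlh)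
      rw [if_neg hl.not_dvd_one, if_neg hl0, if_pos hlm, if_pos hlh,
        if_neg (fun hd => hlh' ((hl.dvd_mul.1 (by simpa using hd : l ∣ 2 * h)).resolve_left hnot2)),
        if_neg hlh']
      omega
  · push Not at hdvd
    have hS : (S : Subgroup SL(2, F)) = ⊥ := by
      by_contra hne
      have hd : l ∣ Nat.card SL(2, F) := by
        obtain ⟨i, hi⟩ := IsPGroup.iff_card.1 S.2
        refine dvd_trans ?_ (Subgroup.card_subgroup_dvd_card (S : Subgroup SL(2, F)))
        rw [hi]
        refine dvd_pow_self l fun h0 => hne (Subgroup.card_eq_one.1 ?_)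
        rw [hi, h0, pow_zero]
      rw [PSLCard.card_SL2, show Nat.card F ^ 2 - 1 = (Nat.card F + 1) * (Nat.card F - 1) by
        rw [← Nat.sq_sub_sq, one_pow]] at hd
      rcases hl.dvd_mul.1 hd with hd | hd
      · rw [Nat.card_eq_fintype_card, hn] at hd
        exact hlp ((Nat.prime_dvd_prime_iff_eq hl Fact.out).1 (hl.dvd_of_dvd_pow hd))
      · exact (hl.dvd_mul.1 hd).elim hdvd.2 hdvd.1
    have hNtop : N = ⊤ := by rw [hN, hS]; exact Subgroup.normalizer_eq_top _
    rw [cnt_congr ((MulEquiv.subgroupCongr hNtop).trans Subgroup.topEquiv) l]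


/-- Let F be a finite field with q elements, q odd, ℓ any prime and S a Sylow ℓ-subgroup of SL₂ over F with normaliser N. Then SL₂ and N have the same number of irreducible complex characters of degree not divisible by ℓ (the McKay equality holds for SL₂ over F at every prime). -/
theorem result {F : Type*} [Field F] [Fintype F] (hodd : Odd (Fintype.card F)) (ℓ : ℕ) [Fact ℓ.Prime] (S : Sylow ℓ (Matrix.SpecialLinearGroup (Fin 2) F)) :
    Nat.card {χ : Cfsg.IrrCharacter (Matrix.SpecialLinearGroup (Fin 2) F) // ¬ ℓ ∣ Cfsg.charDegree (χ : Matrix.SpecialLinearGroup (Fin 2) F → ℂ)} =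
      Nat.card {ψ : Cfsg.IrrCharacter (Subgroup.normalizer ((S : Subgroup (Matrix.SpecialLinearGroup (Fin 2) F)) : Set (Matrix.SpecialLinearGroup (Fin 2) F))) //
        ¬ ℓ ∣ Cfsg.charDegree (ψ : Subgroup.normalizer ((S : Subgroup (Matrix.SpecialLinearGroup (Fin 2) F)) : Set (Matrix.SpecialLinearGroup (Fin 2) F)) → ℂ)} := main hodd ℓ S

end Cfsg.Agent.S2436
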