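import Cfsg.Statements.S2439
import Cfsg.Agent.Lib.SL2TorusChars
import Cfsg.Agent.Lib.BlockPrincipal81
import Cfsg.Agent.Lib.ClassAlgebraMod

set_option autoImplicit false
open Cfsg

namespace Cfsg.Agent.S2439

open Cfsg.Agent.GL2Borel Cfsg.Agent.GL2Chars Cfsg.Agent.PSL2Elements Cfsg.Agent.SL2Borel Cfsg.Agent.SL2Chars
open Cfsg.Agent.SL2Odd Cfsg.Agent.BlockTheoryLocalRing
open scoped MatrixGroups ComplexConjugate

variable {F : Type*} [Field F] [Fintype F]

theorem exists_sign (χ : IrrCharacter SL(2, F)) : ∃ s : ℂ, s * s = 1 ∧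
    ∀ g, (χ : SL(2, F) → ℂ) (-g) = s * (χ : SL(2, F) → ℂ) g := by
  classical
  obtain ⟨n, ρ, hρ, hρc⟩ := χ.2
  obtain ⟨s, hs⟩ := CharBasic.exists_scalar_of_mem_center ρ
    ((mem_center_iff (-1 : SL(2, F))).2 (Or.inr rfl))
  have hmul : ∀ g, (χ : SL(2, F) → ℂ) (-g) = s * (χ : SL(2, F) → ℂ) g := fun g => by
    rw [← hρc, ← neg_one_mul g]
    simp only [Representation.character, map_mul, hs]
    rw [show (s • LinearMap.id : (Fin n → ℂ) →ₗ[ℂ] (Fin n → ℂ)) * ρ g = s • ρ g by
      rw [smul_mul_assoc]; rfl, map_smul, smul_eq_mul]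
  refine ⟨s, ?_, hmul⟩
  have h1 := hmul (-1)
  rw [neg_neg, hmul 1, ← mul_assoc] at h1
  exact mul_right_cancel₀ (CharBasic.isIrrCharacter_apply_one_ne_zero χ.2)
    (h1.symm.trans (one_mul _).symm)

theorem centralChar_conj {χ : SL(2, F) → ℂ} (hc : IsClassFunction SL(2, F) χ) {g k : SL(2, F)}
    (h : IsConj g k) : centralChar χ g = centralChar χ k := by
  classical
  obtain ⟨c, rfl⟩ := isConj_iff.1 h
  simp only [centralChar, BlockPrincipal81.index_centralizer_conj, hc g c]

variable [DecidableEq F] {p : ℕ} {M : Ideal AlgInt}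

theorem dvd_card [CharP F p] : p ∣ Fintype.card F :=
  (CharP.cast_eq_zero_iff F p _).1 (FiniteField.cast_card_eq_zero F)

theorem not_dvd_degree (hodd : Odd (Fintype.card F)) [CharP F p] [Fact p.Prime]
    (χ : IrrCharacter SL(2, F)) {n : ℕ} (hn : (χ : SL(2, F) → ℂ) 1 = n) :
    (χ : SL(2, F) → ℂ) = stS F ∨ (¬ p ∣ n ∧ n ≠ Fintype.card F) := by
  have hpq := dvd_card (F := F) (p := p)
  have hq1 : 1 < Fintype.card F := Fintype.one_lt_card
  have hp2 : 2 ≤ p := (Fact.out : p.Prime).two_le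
  obtain ⟨h, hh, hq⟩ := exists_half hodd
  have hone : p ∣ 1 → False := fun h1 => absurd (Nat.le_of_dvd one_pos h1) (by omega)
  have hp1 : p ∣ h + 1 → False := fun h1 => by
    have h2 := dvd_mul_of_dvd_right h1 2
    rw [show 2 * (h + 1) = Fintype.card F + 1 by omega] at h2
    exact hone ((Nat.dvd_add_right hpq).1 h2)
  have hm1 : p ∣ h → False := fun h1 => by
    have h3 := Nat.dvd_sub hpq (dvd_mul_of_dvd_right h1 2)
    rw [show Fintype.card F - 2 * h = 1 by omega] at h3
    exact hone h3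
  rcases classify hodd hq χ.2 with ⟨-, e, -⟩ | ⟨e, -⟩ | ⟨-, e, -⟩ | ⟨-, e, -⟩ |
    ⟨-, ⟨⟨e, -⟩, -⟩ | ⟨e, -⟩⟩
  case inr.inl => exact Or.inl e
  all_goals refine Or.inr ?_
  all_goals rw [hn, Nat.cast_inj] at e
  all_goals subst e
  all_goals try simp only [tbl]
  all_goals simp
  · exact ⟨fun e => by omega, by omega⟩
  · exact fun e => hone ((Nat.dvd_add_right hpq).1 e)
  · exact ⟨hp1, by omega⟩
  · refine ⟨fun e => hone ?_, by omega⟩
    have := Nat.dvd_sub hpq e
    rwa [show Fintype.card F - (Fintype.card F - 1) = 1 by omega] at this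
  · exact ⟨hm1, by omega⟩

theorem stS_neg_one : stS F (-1) = (Fintype.card F : ℂ) := by
  simp [stS, SL2TorusChars.indS_neg_one, SL2TorusChars.one_neg_one]

theorem index_mul (g : SL(2, F)) :
    (Subgroup.centralizer ({g} : Set SL(2, F))).index *
      Nat.card (Subgroup.centralizer ({g} : Set SL(2, F))) =
      Fintype.card F * (Fintype.card F ^ 2 - 1) := by
  rw [Subgroup.index_mul_card, PSLCard.card_SL2, Nat.card_eq_fintype_card]

theorem not_dvd_index_u (hodd : Odd (Fintype.card F)) [CharP F p] [Fact p.Prime] :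
    ¬ p ∣ (Subgroup.centralizer ({u (1 : F)} : Set SL(2, F))).index := by
  have h := index_mul (u (1 : F))
  rw [SL2Classes.card_centralizer_u_odd one_ne_zero (SL2Classes.two_ne_zero_of_odd hodd).1,
    Nat.card_eq_fintype_card] at h
  intro hd
  have hq0 : 0 < Fintype.card F := Fintype.card_pos
  have h' : (Subgroup.centralizer ({u (1 : F)} : Set SL(2, F))).index * 2 =
      Fintype.card F ^ 2 - 1 :=
    Nat.eq_of_mul_eq_mul_left hq0 (by rw [← h]; ring)
  have h1 : p ∣ Fintype.card F ^ 2 - 1 := h' ▸ dvd_mul_of_dvd_left hd 2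
  have h2 := Nat.dvd_sub (dvd_pow (dvd_card (F := F) (p := p)) two_ne_zero) h1
  rw [Nat.sub_sub_self (Nat.one_le_pow _ _ hq0)] at h2
  exact (Fact.out : p.Prime).one_lt.ne' (Nat.dvd_one.1 h2)

theorem sameBlock_of_sign (hodd : Odd (Fintype.card F)) (hM : IsPModular p M) [CharP F p]
    [Fact p.Prime] (χ ψ : IrrCharacter SL(2, F)) (hχ : (χ : SL(2, F) → ℂ) ≠ stS F)
    (hψ : (ψ : SL(2, F) → ℂ) ≠ stS F) {s : ℂ}
    (sχ : ∀ g, (χ : SL(2, F) → ℂ) (-g) = s * (χ : SL(2, F) → ℂ) g)
    (sψ : ∀ g, (ψ : SL(2, F) → ℂ) (-g) = s * (ψ : SL(2, F) → ℂ) g) :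
    SameBlock M (χ : SL(2, F) → ℂ) (ψ : SL(2, F) → ℂ) := by
  intro g
  have hcχ := classFun_of_irr χ.2
  have hcψ := classFun_of_irr ψ.2
  obtain ⟨n, hn0, hn⟩ := CharBasic.isIrrCharacter_apply_one χ.2
  obtain ⟨m, hm0, hm⟩ := CharBasic.isIrrCharacter_apply_one ψ.2
  have hnp := ((not_dvd_degree (p := p) hodd χ hn).resolve_left hχ).1
  have hmp := ((not_dvd_degree (p := p) hodd ψ hm).resolve_left hψ).1
  have hn' : (n : ℂ) ≠ 0 := Nat.cast_ne_zero.2 hn0.ne'
  have hm' : (m : ℂ) ≠ 0 := Nat.cast_ne_zero.2 hm0.ne'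
  have hint : ∀ (ξ : IrrCharacter SL(2, F)) k, MemLocalRing M ((ξ : SL(2, F) → ℂ) k) := fun ξ k =>
    of_isIntegral hM (CharBasic.isCharacter_integral (CharBasic.isCharacter_of_isIrrCharacter ξ.2) k)
  have hucong : ∀ (ξ : IrrCharacter SL(2, F)) (x : F),
      MemLocalIdeal M ((ξ : SL(2, F) → ℂ) (u x) - (ξ : SL(2, F) → ℂ) 1) := by
    intro ξ x
    rcases eq_or_ne x 0 with rfl | hx
    · simp [u_zero, ideal_zero hM]
    · exact ClassAlgebraMod.character_pElement_congr hM ξ (k := 1)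
        (by rw [pow_one]; exact (SL2Classes.orderOf_eq_char_iff p (u x)).2 ⟨tr_u x, SL2Classes.u_ne_one hx⟩)
  have hu : ∀ x : F, MemLocalIdeal M
      ((χ : SL(2, F) → ℂ) (u x) / n - (ψ : SL(2, F) → ℂ) (u x) / m) := by
    intro x
    have h1 := ideal_mul_right hM (hucong χ x) (inv_natCast_mem hM hnp)
    have h2 := ideal_mul_right hM (hucong ψ x) (inv_natCast_mem hM hmp)
    have h3 := ideal_sub hM h1 h2
    rw [hn, hm] at h3
    convert h3 using 1
    field_simp
    ring
  have hs : MemLocalRing M s := by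
    have h1 := sχ 1
    rw [hn] at h1
    have := (localRing hM).mul_mem (hint χ (-1)) (inv_natCast_mem hM hnp)
    rwa [h1, mul_assoc, mul_inv_cancel₀ hn', mul_one] at this
  rcases trichotomy g with ⟨x, hx⟩ | hsem
  · rcases hx with hx | hx <;> rw [centralChar_conj hcχ hx, centralChar_conj hcψ hx]
    · have := ideal_mul_left hM
        (natCast_mem (localRing hM) (Subgroup.centralizer ({u x} : Set SL(2, F))).index) (hu x)
      convert this using 1
      simp only [centralChar, hn, hm]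
      ring
    · have := ideal_mul_left hM ((localRing hM).mul_mem
        (natCast_mem (localRing hM) (Subgroup.centralizer ({-u x} : Set SL(2, F))).index) hs) (hu x)
      convert this using 1
      simp only [centralChar, hn, hm, sχ, sψ]
      ring
  · have h4 : tr g ^ 2 ≠ 4 := by
      rcases hsem with ⟨a, ha, hc⟩ | hns
      · rw [tr_eq_of_isConj hc, tr_d]
        intro e
        apply ha
        have h0 : ((a : F) ^ 2 - 1) ^ 2 = 0 := by
          field_simp at e
          linear_combination e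
        exact sub_eq_zero.1 (pow_eq_zero_iff two_ne_zero |>.1 h0)
      · exact SL2Halves.tr_sq_ne_four hns
    have hidx : p ∣ (Subgroup.centralizer ({g} : Set SL(2, F))).index := by
      have h := index_mul g
      have hpq := dvd_card (F := F) (p := p)
      have hdiv : p ∣ Fintype.card F * (Fintype.card F ^ 2 - 1) := dvd_mul_of_dvd_left hpq _
      rw [← h] at hdiv
      refine ((Fact.out : p.Prime).dvd_mul.1 hdiv).resolve_right fun hd => ?_
      have hone : ¬ p ∣ 1 := (Fact.out : p.Prime).not_dvd_one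
      obtain ⟨-, ⟨-, hc⟩ | ⟨-, hc⟩⟩ := centralizer_semisimple h4 <;>
        rw [hc, Nat.card_eq_fintype_card] at hd
      · have := Nat.dvd_sub hpq hd
        rw [show Fintype.card F - (Fintype.card F - 1) = 1 by
          have := Fintype.card_pos (α := F); omega] at this
        exact hone this
      · exact hone ((Nat.dvd_add_right hpq).1 hd)
    have hterm : ∀ (ξ : IrrCharacter SL(2, F)) (k : ℕ), (ξ : SL(2, F) → ℂ) 1 = k → ¬ p ∣ k →
        MemLocalIdeal M (centralChar (ξ : SL(2, F) → ℂ) g) := by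
      intro ξ k hk hkp
      have := ideal_mul_right hM ((natCast_mem_iff hM).2 hidx)
        ((localRing hM).mul_mem (hint ξ g) (inv_natCast_mem hM hkp))
      convert this using 1
      rw [centralChar, hk]
      ring
    exact ideal_sub hM (hterm χ n hn hnp) (hterm ψ m hm hmp)

theorem two_not_ideal (hM : IsPModular p M) (hp : p ≠ 2) : ¬ MemLocalIdeal M (2 : ℂ) := by
  intro h
  have h' := (natCast_mem_iff hM (n := 2)).1 (by simpa using h)
  exact hp ((Nat.prime_dvd_prime_iff_eq hM.1 Nat.prime_two).1 h')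

theorem sign_eq (hM : IsPModular p M) (hp : p ≠ 2) (χ ψ : IrrCharacter SL(2, F))
    (h : SameBlock M (χ : SL(2, F) → ℂ) (ψ : SL(2, F) → ℂ)) {s t : ℂ} (hs : s * s = 1)
    (ht : t * t = 1) (sχ : ∀ g, (χ : SL(2, F) → ℂ) (-g) = s * (χ : SL(2, F) → ℂ) g)
    (sψ : ∀ g, (ψ : SL(2, F) → ℂ) (-g) = t * (ψ : SL(2, F) → ℂ) g) : s = t := by
  have h1 := h (-1)
  have hidx : (Subgroup.centralizer ({-1} : Set SL(2, F))).index = 1 := by
    rw [Subgroup.index_eq_one, Subgroup.eq_top_iff']
    exact fun g => Subgroup.mem_centralizer_singleton_iff.2 (by simp)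
  simp only [centralChar, hidx, sχ, sψ, Nat.cast_one, one_mul] at h1
  rw [mul_div_assoc, mul_div_assoc, div_self (CharBasic.isIrrCharacter_apply_one_ne_zero χ.2),
    div_self (CharBasic.isIrrCharacter_apply_one_ne_zero ψ.2), mul_one, mul_one] at h1
  rcases mul_self_eq_one_iff.1 hs with rfl | rfl <;> rcases mul_self_eq_one_iff.1 ht with rfl | rfl
  · rfl
  · exact absurd (by convert h1 using 1; norm_num) (two_not_ideal hM hp)
  · exact absurd (by convert ideal_neg h1 using 1; norm_num) (two_not_ideal hM hp)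
  · rfl

theorem exists_negative (hodd : Odd (Fintype.card F)) : ∃ χ : IrrCharacter SL(2, F),
    (χ : SL(2, F) → ℂ) (-1) = -(χ : SL(2, F) → ℂ) 1 := by
  have hne : (-1 : F) ≠ 1 := fun h => (SL2Classes.two_ne_zero_of_odd hodd).1
    (by linear_combination -h)
  obtain ⟨α, hα⟩ := MulChar.exists_apply_ne_one_of_hasEnoughRootsOfUnity F ℂ hne
  have hα1 : α (-1) = -1 := (mul_self_eq_one_iff.1 (SL2TorusChars.alpha_neg_one_sq α)).resolve_left hα
  have hv : indS α (-1) = -((Fintype.card F : ℂ) + 1) := by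
    rw [SL2TorusChars.indS_neg_one, hα1]; ring
  by_cases h : α ^ 2 = 1
  · obtain ⟨χ₁, χ₂, i₁, i₂, -, he⟩ := exists_pair h
    obtain ⟨s, hs, e₁⟩ := exists_sign ⟨χ₁, i₁⟩
    obtain ⟨t, ht, e₂⟩ := exists_sign ⟨χ₂, i₂⟩
    rcases mul_self_eq_one_iff.1 hs with rfl | rfl
    · rcases mul_self_eq_one_iff.1 ht with rfl | rfl
      · exfalso
        have h1 := congrFun he 1
        have h2 := congrFun he (-1)
        rw [indS_one, Pi.add_apply] at h1
        have f₁ := e₁ 1
        have f₂ := e₂ 1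
        simp only [one_mul] at f₁ f₂
        rw [hv, Pi.add_apply, f₁, f₂, ← h1] at h2
        exact Nat.cast_add_one_ne_zero (R := ℂ) (Fintype.card F) (by linear_combination -h2 / 2)
      · exact ⟨⟨χ₂, i₂⟩, by simpa using e₂ 1⟩
    · exact ⟨⟨χ₁, i₁⟩, by simpa using e₁ 1⟩
  · exact ⟨⟨indS α, (isIrr_indS_iff α).2 h⟩, by show indS α (-1) = -indS α 1; rw [hv, indS_one]⟩


/-- Let F be a finite field with q elements of odd characteristic p, and M a maximal ideal of the algebraic integers containing p. Then SL₂ over F has exactly three p-blocks relative to M: the irreducible character of degree q (the Steinberg character) alone; the other irreducible characters taking the same value at −1 as at 1 (the principal block); and the irreducible characters χ with χ(−1) = −χ(1). Every Sylow p-subgroup is a defect group of each of the last two blocks. -/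
theorem result {F : Type*} [Field F] [Fintype F] (p : ℕ) [Fact p.Prime] [CharP F p] (hp : p ≠ 2)
    (M : Ideal Cfsg.AlgInt) (hM : Cfsg.IsPModular p M) :
    (∀ B : Set (Cfsg.IrrCharacter (Matrix.SpecialLinearGroup (Fin 2) F)), Cfsg.IsPBlock M B ↔
      (B = {χ : Cfsg.IrrCharacter (Matrix.SpecialLinearGroup (Fin 2) F) | (χ : Matrix.SpecialLinearGroup (Fin 2) F → ℂ) 1 = (Fintype.card F : ℂ)} ∨
       B = {χ : Cfsg.IrrCharacter (Matrix.SpecialLinearGroup (Fin 2) F) | (χ : Matrix.SpecialLinearGroup (Fin 2) F → ℂ) (-1) = (χ : Matrix.SpecialLinearGroup (Fin 2) F → ℂ) 1 ∧ (χ : Matrix.SpecialLinearGroup (Fin 2) F → ℂ) 1 ≠ (Fintype.card F : ℂ)} ∨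
       B = {χ : Cfsg.IrrCharacter (Matrix.SpecialLinearGroup (Fin 2) F) | (χ : Matrix.SpecialLinearGroup (Fin 2) F → ℂ) (-1) = -(χ : Matrix.SpecialLinearGroup (Fin 2) F → ℂ) 1})) ∧
    Nat.card {B : Set (Cfsg.IrrCharacter (Matrix.SpecialLinearGroup (Fin 2) F)) // Cfsg.IsPBlock M B} = 3 ∧
    ∀ P : Sylow p (Matrix.SpecialLinearGroup (Fin 2) F),
      Cfsg.IsDefectGroup p M {χ : Cfsg.IrrCharacter (Matrix.SpecialLinearGroup (Fin 2) F) | (χ : Matrix.SpecialLinearGroup (Fin 2) F → ℂ) (-1) = (χ : Matrix.SpecialLinearGroup (Fin 2) F → ℂ) 1 ∧ (χ : Matrix.SpecialLinearGroup (Fin 2) F → ℂ) 1 ≠ (Fintype.card F : ℂ)} (P : Subgroup (Matrix.SpecialLinearGroup (Fin 2) F)) ∧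
      Cfsg.IsDefectGroup p M {χ : Cfsg.IrrCharacter (Matrix.SpecialLinearGroup (Fin 2) F) | (χ : Matrix.SpecialLinearGroup (Fin 2) F → ℂ) (-1) = -(χ : Matrix.SpecialLinearGroup (Fin 2) F → ℂ) 1} (P : Subgroup (Matrix.SpecialLinearGroup (Fin 2) F)) := by
  classical
  have hodd : Odd (Fintype.card F) :=
    Nat.odd_iff.2 (FiniteField.odd_card_of_char_ne_two (by rw [ringChar.eq F p]; exact hp))
  have hpq := dvd_card (F := F) (p := p)
  set st : IrrCharacter SL(2, F) := ⟨stS F, isIrr_stS⟩ with hst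
  set one : IrrCharacter SL(2, F) := CharBasicDecomp.trivIrr _ with hone
  obtain ⟨neg, hneg⟩ := exists_negative (F := F) hodd
  set B0 := {χ : IrrCharacter SL(2, F) | (χ : SL(2, F) → ℂ) 1 = (Fintype.card F : ℂ)} with hB0
  set B1 := {χ : IrrCharacter SL(2, F) | (χ : SL(2, F) → ℂ) (-1) = (χ : SL(2, F) → ℂ) 1 ∧
    (χ : SL(2, F) → ℂ) 1 ≠ (Fintype.card F : ℂ)} with hB1
  set B2 := {χ : IrrCharacter SL(2, F) | (χ : SL(2, F) → ℂ) (-1) = -(χ : SL(2, F) → ℂ) 1} with hB2
  have hdeg : ∀ χ : IrrCharacter SL(2, F),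
      (χ : SL(2, F) → ℂ) = stS F ↔ (χ : SL(2, F) → ℂ) 1 = (Fintype.card F : ℂ) := by
    intro χ
    refine ⟨fun e => by rw [e, stS_one], fun e => ?_⟩
    exact (not_dvd_degree (p := p) hodd χ e).resolve_right fun h => h.1 hpq
  have hone1 : (one : SL(2, F) → ℂ) = fun _ => 1 := rfl
  have hone_ne : (one : SL(2, F) → ℂ) ≠ stS F := fun e => by
    have := congrFun e 1
    rw [hone1, stS_one] at this
    exact GL2Chars.card_sub_one_ne (F := F) (sub_eq_zero.2 this.symm)
  have hsep : ∀ χ : IrrCharacter SL(2, F),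
      SameBlock M (χ : SL(2, F) → ℂ) (one : SL(2, F) → ℂ) → (χ : SL(2, F) → ℂ) ≠ stS F := by
    intro χ h e
    have hidx := not_dvd_index_u (F := F) (p := p) hodd
    have hst0 : stS F (u 1) = 0 := by simp [stS, indS_u _ one_ne_zero]
    have := h (u 1)
    rw [hone1] at this
    simp only [centralChar, e, hst0, mul_zero, zero_div, zero_sub, mul_one, div_one] at this
    exact hidx ((natCast_mem_iff hM).1 (by simpa using ideal_neg this))
  have hb0 : blockOf M (st : SL(2, F) → ℂ) = B0 := by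
    ext χ
    refine ⟨fun h => (hdeg χ).1 ?_, fun h => ?_⟩
    · by_contra hne
      obtain ⟨s, hs, eχ⟩ := exists_sign χ
      have e1 : ∀ g, (st : SL(2, F) → ℂ) (-g) = 1 * (st : SL(2, F) → ℂ) g := by
        obtain ⟨t, ht, et⟩ := exists_sign st
        have h1 := et 1
        change stS F (-1) = t * stS F 1 at h1
        rw [stS_neg_one, stS_one] at h1
        rwa [show t = 1 from mul_right_cancel₀ GL2Chars.card_ne (h1.symm.trans (one_mul _).symm)] at et
      obtain rfl := sign_eq hM hp st χ h (one_mul 1) hs e1 eχ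
      exact hsep st (BlockTheoryIdem.sameBlock_trans hM h
        (sameBlock_of_sign hodd hM χ one hne hone_ne eχ (fun g => by simp [hone1]))) rfl
    · show SameBlock M (st : SL(2, F) → ℂ) (χ : SL(2, F) → ℂ)
      rw [(hdeg χ).2 h]
      exact BlockTheoryIdem.sameBlock_refl hM _
  have hb1 : blockOf M (one : SL(2, F) → ℂ) = B1 := by
    ext χ
    obtain ⟨s, hs, eχ⟩ := exists_sign χ
    have eone : ∀ g, (one : SL(2, F) → ℂ) (-g) = 1 * (one : SL(2, F) → ℂ) g := fun g => by
      simp [hone1]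
    constructor
    · intro h
      obtain rfl := sign_eq hM hp one χ h (one_mul 1) hs eone eχ
      exact ⟨by simpa using eχ 1,
        fun e => hsep χ (BlockTheoryIdem.sameBlock_symm h) ((hdeg χ).2 e)⟩
    · rintro ⟨h1, h2⟩
      have hs1 : s = 1 := mul_right_cancel₀ (CharBasic.isIrrCharacter_apply_one_ne_zero χ.2)
        ((eχ 1).symm.trans (h1.trans (one_mul _).symm))
      subst hs1
      exact sameBlock_of_sign hodd hM one χ hone_ne (fun e => h2 ((hdeg χ).1 e)) eone eχ
  have hneg_ne : ∀ χ ∈ B2, (χ : SL(2, F) → ℂ) ≠ stS F := fun χ h e => by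
    have h' : (χ : SL(2, F) → ℂ) (-1) = -(χ : SL(2, F) → ℂ) 1 := h
    rw [e, stS_neg_one, stS_one] at h'
    exact GL2Chars.card_ne (F := F) (by linear_combination h' / 2)
  have hsneg : ∀ χ ∈ B2, ∀ g, (χ : SL(2, F) → ℂ) (-g) = -1 * (χ : SL(2, F) → ℂ) g := by
    intro χ h
    obtain ⟨s, hs, eχ⟩ := exists_sign χ
    have h' : (χ : SL(2, F) → ℂ) (-1) = -(χ : SL(2, F) → ℂ) 1 := h
    have : s = -1 := mul_right_cancel₀ (CharBasic.isIrrCharacter_apply_one_ne_zero χ.2)
      ((eχ 1).symm.trans (h'.trans (neg_one_mul _).symm))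
    rwa [this] at eχ
  have hb2 : blockOf M (neg : SL(2, F) → ℂ) = B2 := by
    ext χ
    constructor
    · intro h
      obtain ⟨s, hs, eχ⟩ := exists_sign χ
      obtain rfl := sign_eq hM hp neg χ h (by norm_num) hs (hsneg neg hneg) eχ
      show (χ : SL(2, F) → ℂ) (-1) = -(χ : SL(2, F) → ℂ) 1
      simpa using eχ 1
    · intro h
      exact sameBlock_of_sign hodd hM neg χ (hneg_ne neg hneg) (hneg_ne χ h) (hsneg neg hneg)
        (hsneg χ h)
  have hiff : ∀ B, IsPBlock M B ↔ (B = B0 ∨ B = B1 ∨ B = B2) := by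
    intro B
    constructor
    · rintro ⟨χ, rfl⟩
      by_cases e : (χ : SL(2, F) → ℂ) = stS F
      · left; rw [← hb0, show χ = st from Subtype.ext e]
      · obtain ⟨s, hs, eχ⟩ := exists_sign χ
        rcases mul_self_eq_one_iff.1 hs with rfl | rfl
        · right; left
          rw [← hb1]
          exact BlockTheoryIdem.blockOf_congr hM
            (sameBlock_of_sign hodd hM χ one e hone_ne eχ (fun g => by simp [hone1]))
        · right; right
          rw [← hb2]
          exact BlockTheoryIdem.blockOf_congr hM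
            (sameBlock_of_sign hodd hM χ neg e (hneg_ne neg hneg) eχ (hsneg neg hneg))
    · rintro (rfl | rfl | rfl)
      · exact ⟨st, hb0.symm⟩
      · exact ⟨one, hb1.symm⟩
      · exact ⟨neg, hb2.symm⟩
  have h01 : B0 ≠ B1 := fun e => by
    have h : st ∈ B0 := stS_one
    rw [e] at h; exact h.2 stS_one
  have h02 : B0 ≠ B2 := fun e => by
    have h : st ∈ B0 := stS_one
    rw [e] at h
    exact hneg_ne st h rfl
  have h12 : B1 ≠ B2 := fun e => by
    have h : neg ∈ B2 := hneg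
    rw [← e] at h
    exact CharBasic.isIrrCharacter_apply_one_ne_zero neg.2 (by linear_combination (hneg.symm.trans h.1) / (-2))
  refine ⟨hiff, ?_, fun P => ?_⟩
  · rw [Nat.subtype_card ({B0, B1, B2} : Finset _) fun B => by simp [hiff B]]
    simp [h01, h02, h12]
  · have hcent : ∀ ξ : IrrCharacter SL(2, F), centralChar (ξ : SL(2, F) → ℂ) 1 = 1 := fun ξ => by
      have hidx : (Subgroup.centralizer ({1} : Set SL(2, F))).index = 1 := by
        rw [Subgroup.index_eq_one, Subgroup.eq_top_iff']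
        exact fun g => Subgroup.mem_centralizer_singleton_iff.2 (by simp)
      simp [centralChar, hidx, CharBasic.isIrrCharacter_apply_one_ne_zero ξ.2]
    have hmk : ∀ B, IsPBlock M B → ¬ MemLocalIdeal M (blockCoeff B 1) →
        IsDefectGroup p M B (P : Subgroup SL(2, F)) := by
      intro B hB hB'
      refine ⟨1, ⟨BlockTheoryIdem.blockCoeff_mem hM hB 1, hB', fun χ _ => ?_⟩, ?_⟩
      · rw [hcent]; exact one_not_ideal hM
      · have hle : (P : Subgroup SL(2, F)) ≤ Subgroup.centralizer ({1} : Set SL(2, F)) :=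
          fun g _ => Subgroup.mem_centralizer_singleton_iff.2 (by simp)
        refine ⟨P.subtype hle, ?_⟩
        rw [Sylow.coe_subtype, Subgroup.subgroupOf_map_subtype, inf_eq_left.2 hle]
    -- the sums of squared degrees of the two signs are both half the group order
    have hsq : ∀ χ : IrrCharacter SL(2, F),
        conj ((χ : SL(2, F) → ℂ) 1) = (χ : SL(2, F) → ℂ) 1 := fun χ => by
      obtain ⟨n, -, hn⟩ := CharBasic.isIrrCharacter_apply_one χ.2
      rw [hn, Complex.conj_natCast]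
    have hsum : ∑ χ : IrrCharacter SL(2, F),
        (χ : SL(2, F) → ℂ) (-1) * (χ : SL(2, F) → ℂ) 1 = 0 := by
      have h := CharBasicOrth.sum_irr_mul_conj (-1 : SL(2, F)) 1
      rw [if_neg (fun e => SL2Classes.neg_one_ne_one (SL2Classes.two_ne_zero_of_odd hodd).1
        (SL2Classes.eq_one_of_isConj e))] at h
      simpa only [hsq] using h
    set G' : ℂ := (Nat.card SL(2, F) : ℂ)
    have hS : ∑ χ : IrrCharacter SL(2, F), (χ : SL(2, F) → ℂ) 1 ^ 2 = G' :=
      CharBasicOrth.sum_sq_apply_one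
    have hpart : ∀ χ : IrrCharacter SL(2, F),
        (if χ ∈ B2 then (χ : SL(2, F) → ℂ) 1 * conj ((χ : SL(2, F) → ℂ) 1) else 0) =
          ((χ : SL(2, F) → ℂ) 1 ^ 2 - (χ : SL(2, F) → ℂ) (-1) * (χ : SL(2, F) → ℂ) 1) / 2 ∧
        (if χ ∈ B1 then (χ : SL(2, F) → ℂ) 1 * conj ((χ : SL(2, F) → ℂ) 1) else 0) =
          ((χ : SL(2, F) → ℂ) 1 ^ 2 + (χ : SL(2, F) → ℂ) (-1) * (χ : SL(2, F) → ℂ) 1) / 2 -
            (if χ = st then (Fintype.card F : ℂ) ^ 2 else 0) := by
      intro χ
      rw [hsq]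
      obtain ⟨s, hs, eχ⟩ := exists_sign χ
      have e1 : (χ : SL(2, F) → ℂ) (-1) = s * (χ : SL(2, F) → ℂ) 1 := eχ 1
      have hn := CharBasic.isIrrCharacter_apply_one_ne_zero χ.2
      rcases mul_self_eq_one_iff.1 hs with rfl | rfl
      · have n2 : χ ∉ B2 := fun h => hn (by
          have h' : (χ : SL(2, F) → ℂ) (-1) = -(χ : SL(2, F) → ℂ) 1 := h
          linear_combination (h' - e1) / 2)
        refine ⟨by rw [if_neg n2, e1]; ring, ?_⟩
        by_cases e : (χ : SL(2, F) → ℂ) 1 = (Fintype.card F : ℂ)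
        · rw [if_neg (fun h => h.2 e), if_pos (Subtype.ext ((hdeg χ).2 e)), e1, e]; ring
        · have n1 : χ ∈ B1 := ⟨by simpa using e1, e⟩
          rw [if_pos n1, if_neg (fun h => e (by rw [h]; exact stS_one)), e1]; ring
      · have m2 : χ ∈ B2 := show (χ : SL(2, F) → ℂ) (-1) = -(χ : SL(2, F) → ℂ) 1 by
          simpa using e1
        refine ⟨by rw [if_pos m2, e1]; ring, ?_⟩
        rw [if_neg (fun h => hn (by linear_combination (h.1.symm.trans e1) / 2)),
          if_neg (fun h => hneg_ne χ m2 (by rw [h])), e1]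
        ring
    have hG : G' = (Fintype.card F : ℂ) * ((Fintype.card F : ℂ) ^ 2 - 1) := by
      simp only [G']
      rw [PSLCard.card_SL2, Nat.card_eq_fintype_card, Nat.cast_mul,
        Nat.cast_sub (Nat.one_le_pow _ _ Fintype.card_pos), Nat.cast_pow, Nat.cast_one]
    have hG0 : G' ≠ 0 := Nat.cast_ne_zero.2 Nat.card_pos.ne'
    have c2 : blockCoeff B2 1 = (1 : ℂ) / 2 := by
      rw [BlockTheoryCentre.blockCoeff_eq_sum, show (Nat.card SL(2, F) : ℂ) = G' from rfl,
        Finset.sum_congr rfl (fun χ _ => (by convert (hpart χ).1 using 2 :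
          @ite ℂ (χ ∈ B2) (Classical.propDecidable _)
            ((χ : SL(2, F) → ℂ) 1 * conj ((χ : SL(2, F) → ℂ) 1)) 0 = _)),
        ← Finset.sum_div, Finset.sum_sub_distrib, hS, hsum, sub_zero]
      field_simp [hG0]
    have c1 : blockCoeff B1 1 = (1 : ℂ) / 2 - (Fintype.card F : ℂ) ^ 2 / G' := by
      rw [BlockTheoryCentre.blockCoeff_eq_sum, show (Nat.card SL(2, F) : ℂ) = G' from rfl,
        Finset.sum_congr rfl (fun χ _ => (by convert (hpart χ).2 using 2 :
          @ite ℂ (χ ∈ B1) (Classical.propDecidable _)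
            ((χ : SL(2, F) → ℂ) 1 * conj ((χ : SL(2, F) → ℂ) 1)) 0 = _)),
        Finset.sum_sub_distrib, ← Finset.sum_div, Finset.sum_add_distrib, hS, hsum, add_zero,
        Finset.sum_ite_eq', if_pos (Finset.mem_univ _)]
      field_simp [hG0]
    have h2 : ¬ p ∣ 2 := fun h => hp ((Nat.prime_dvd_prime_iff_eq hM.1 Nat.prime_two).1 h)
    have hhalf : ¬ MemLocalIdeal M ((1 : ℂ) / 2) := by
      intro h
      have := ideal_mul_left hM (natCast_mem (localRing hM) 2) h
      exact one_not_ideal hM (by convert this using 1; norm_num)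
    refine ⟨hmk B1 ((hiff B1).2 (Or.inr (Or.inl rfl))) ?_, hmk B2 ((hiff B2).2 (Or.inr (Or.inr rfl))) ?_⟩
    · rw [c1]
      intro h
      apply hhalf
      have hq2 : ¬ p ∣ Fintype.card F ^ 2 - 1 := fun hd => by
        have h' := Nat.dvd_sub (dvd_pow hpq two_ne_zero) hd
        rw [Nat.sub_sub_self (Nat.one_le_pow _ _ Fintype.card_pos)] at h'
        exact hM.1.one_lt.ne' (Nat.dvd_one.1 h')
      have := ideal_add hM h
        (ideal_mul_right hM ((natCast_mem_iff hM).2 hpq) (inv_natCast_mem hM hq2))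
      convert this using 1
      rw [hG, Nat.cast_sub (Nat.one_le_pow _ _ Fintype.card_pos), Nat.cast_pow, Nat.cast_one]
      have hq0 : (Fintype.card F : ℂ) ≠ 0 := GL2Chars.card_ne
      field_simp
      ring
    · rw [c2]; exact hhalf

end Cfsg.Agent.S2439
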