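import Cfsg.Statements.S2444
import Cfsg.Agent.Lib.SLCommMain34

set_option autoImplicit false
open Cfsg

namespace Cfsg.Agent.S2444

/-- In the special linear group SL(n,F) over a finite field F, with n ≥ 2 and (n, |F|) not (2,2) or (2,3), every element is a commutator a·b·a⁻¹·b⁻¹ of two elements of SL(n,F). -/
theorem result {F : Type*} [Field F] [Fintype F] (n : ℕ) (hn : 2 ≤ n) (hex : n = 2 → 4 ≤ Fintype.card F) :
    ∀ g : Matrix.SpecialLinearGroup (Fin n) F, ∃ a b : Matrix.SpecialLinearGroup (Fin n) F, g = a * b * a⁻¹ * b⁻¹ := by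
  intro g
  have hfr : Module.finrank F (Fin n → F) = n := Module.finrank_fin_fun F
  obtain ⟨a, b, ha, hb, h⟩ := SLComm34.solved (g := Matrix.toLinAlgEquiv' (g : Matrix (Fin n) (Fin n) F))
    (by rwa [hfr]) (by rwa [hfr]) ((LinearMap.det_toLin' _).trans g.2)
  let A : Matrix.SpecialLinearGroup (Fin n) F :=
    ⟨LinearMap.toMatrixAlgEquiv' a, (LinearMap.det_toMatrix' a).trans ha⟩
  let B : Matrix.SpecialLinearGroup (Fin n) F :=
    ⟨LinearMap.toMatrixAlgEquiv' b, (LinearMap.det_toMatrix' b).trans hb⟩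
  refine ⟨A, B, ?_⟩
  rw [eq_mul_inv_iff_mul_eq, eq_mul_inv_iff_mul_eq]
  apply Subtype.ext
  rw [Matrix.SpecialLinearGroup.coe_mul, Matrix.SpecialLinearGroup.coe_mul, Matrix.SpecialLinearGroup.coe_mul]
  show (g : Matrix (Fin n) (Fin n) F) * LinearMap.toMatrixAlgEquiv' b * LinearMap.toMatrixAlgEquiv' a =
    LinearMap.toMatrixAlgEquiv' a * LinearMap.toMatrixAlgEquiv' b
  rw [← map_mul (LinearMap.toMatrixAlgEquiv' (R := F)) a b, ← h, map_mul, map_mul,
    LinearMap.toMatrixAlgEquiv'_toLinAlgEquiv']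

end Cfsg.Agent.S2444
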