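import Cfsg.Statements.S2450
import Mathlib

set_option autoImplicit false
open Cfsg

namespace Cfsg.Agent.S2450

open Matrix

variable {F : Type*} [Field F]

def mat (A : Matrix.SpecialLinearGroup (Fin 2) F) : Matrix (Fin 2) (Fin 2) F := ↑A

local notation:1024 "↑ₘ" A:1024 => mat A

@[simp] lemma mat_mul (A B : Matrix.SpecialLinearGroup (Fin 2) F) :
    ↑ₘ(A * B) = ↑ₘA * ↑ₘB := rfl

@[simp] lemma mat_one : ↑ₘ(1 : Matrix.SpecialLinearGroup (Fin 2) F) = 1 := rfl

lemma mat_det (A : Matrix.SpecialLinearGroup (Fin 2) F) : (↑ₘA).det = 1 := A.2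

def mk2 (a b c d : F) (h : a * d - b * c = 1) : SpecialLinearGroup (Fin 2) F :=
  ⟨!![a, b; c, d], by rw [det_fin_two_of]; exact h⟩

def upper (t : F) : SpecialLinearGroup (Fin 2) F := mk2 1 t 0 1 (by ring)

@[simp] lemma mk2_coe (a b c d : F) (h) : ↑ₘ(mk2 a b c d h) = !![a, b; c, d] := rfl

@[simp] lemma mk2_inv_coe (a b c d : F) (h) : ↑ₘ((mk2 a b c d h)⁻¹) = !![d, -b; -c, a] := by
  change adjugate !![a, b; c, d] = _
  rw [adjugate_fin_two_of]

lemma conj_lower_ne_zero {A : SpecialLinearGroup (Fin 2) F} (h : A ∉ Subgroup.center _) :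
    ∃ g : SpecialLinearGroup (Fin 2) F, ↑ₘ(g * A * g⁻¹) 1 0 ≠ 0 := by
  by_cases h1 : ↑ₘA 1 0 = 0
  · by_cases h2 : ↑ₘA 0 1 = 0
    · refine ⟨mk2 1 0 1 1 (by ring), ?_⟩
      have hne : ↑ₘA 0 0 ≠ ↑ₘA 1 1 := by
        intro he
        apply h
        rw [Matrix.SpecialLinearGroup.mem_center_iff]
        refine ⟨↑ₘA 0 0, ?_, ?_⟩
        · have := mat_det A
          rw [det_fin_two, h1, h2, ← he] at this
          simpa [pow_two] using this
        · change scalar (Fin 2) (↑ₘA 0 0) = ↑ₘA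
          ext i j
          fin_cases i <;> fin_cases j <;> simp [Matrix.scalar_apply, h1, h2, he]
      simp [Matrix.vecMul, dotProduct, mul_apply, Fin.sum_univ_two, h1, h2,
        ← sub_eq_add_neg, sub_eq_zero, hne]
    · refine ⟨mk2 0 (-1) 1 0 (by ring), ?_⟩
      simp [Matrix.vecMul, dotProduct, mul_apply, Fin.sum_univ_two, h2]
  · exact ⟨1, by simpa using h1⟩

lemma trace_conj (g A : SpecialLinearGroup (Fin 2) F) :
    (↑ₘ(g * A * g⁻¹)).trace = (↑ₘA).trace := by
  rw [mat_mul, trace_mul_comm, ← mat_mul,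
    inv_mul_cancel_left]

lemma trace_of_isConj_mk {X C : SpecialLinearGroup (Fin 2) F}
    (h : IsConj (QuotientGroup.mk C : ProjectiveSpecialLinearGroup (Fin 2) F)
      (QuotientGroup.mk X)) :
    (↑ₘX).trace = (↑ₘC).trace ∨ (↑ₘX).trace = - (↑ₘC).trace := by
  obtain ⟨w, hw⟩ := isConj_iff.1 h
  obtain ⟨g, rfl⟩ := QuotientGroup.mk_surjective w
  rw [← QuotientGroup.mk_inv, ← QuotientGroup.mk_mul, ← QuotientGroup.mk_mul,
    QuotientGroup.eq, Matrix.SpecialLinearGroup.mem_center_iff] at hw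
  obtain ⟨r, hr, hr2⟩ := hw
  change scalar (Fin 2) r = mat ((g * C * g⁻¹)⁻¹ * X) at hr2
  have hX : (↑ₘX).trace = r * (↑ₘC).trace := by
    have hx : ↑ₘX = ↑ₘ(g * C * g⁻¹) * scalar (Fin 2) r := by
      rw [hr2, ← mat_mul, mul_inv_cancel_left]
    rw [hx, ← trace_conj g C]
    simp [Matrix.scalar_apply, trace_fin_two, diagonal, mul_apply, Fin.sum_univ_two]
    ring
  have hr' : r = 1 ∨ r = -1 := by
    apply sq_eq_one_iff.1
    simpa using hr
  rcases hr' with rfl | rfl <;> simp [hX]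


/-- The Arad–Herzog conjecture for PSL(2,q): let F be a finite field with q ≥ 4 elements. For any two non-identity elements a, b of PSL(2,F), the set of products of a conjugate of a with a conjugate of b is not a single conjugacy class. -/
theorem result {F : Type*} [Field F] [Fintype F] (h4 : 4 ≤ Fintype.card F)
    (a b : Matrix.ProjectiveSpecialLinearGroup (Fin 2) F) (ha : a ≠ 1) (hb : b ≠ 1) (c : Matrix.ProjectiveSpecialLinearGroup (Fin 2) F) :
    {g : Matrix.ProjectiveSpecialLinearGroup (Fin 2) F | ∃ u v : Matrix.ProjectiveSpecialLinearGroup (Fin 2) F, g = (u * a * u⁻¹) * (v * b * v⁻¹)} ≠ {g | IsConj c g} := by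
  classical
  intro hset
  obtain ⟨A, rfl⟩ := QuotientGroup.mk_surjective a
  obtain ⟨B, rfl⟩ := QuotientGroup.mk_surjective b
  obtain ⟨C, rfl⟩ := QuotientGroup.mk_surjective c
  obtain ⟨g₁, hg₁⟩ := conj_lower_ne_zero (A := A) (fun h => ha ((QuotientGroup.eq_one_iff _).2 h))
  obtain ⟨g₂, hg₂⟩ := conj_lower_ne_zero (A := B) (fun h => hb ((QuotientGroup.eq_one_iff _).2 h))
  set P := g₁ * A * g₁⁻¹ with hP
  set Q := g₂ * B * g₂⁻¹ with hQ
  let f : F → F := fun t => (↑ₘ(P * (upper t * Q * (upper t)⁻¹))).trace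
  have hf : ∀ t, f t ∈ ({(↑ₘC).trace, -(↑ₘC).trace} : Finset F) := by
    intro t
    have hmem : (QuotientGroup.mk (P * (upper t * Q * (upper t)⁻¹)) :
        ProjectiveSpecialLinearGroup (Fin 2) F) ∈ {g | IsConj (QuotientGroup.mk C) g} := by
      rw [← hset]
      exact ⟨QuotientGroup.mk g₁, QuotientGroup.mk (upper t * g₂),
        by simp [hP, hQ, mul_assoc, _root_.mul_inv_rev]⟩
    rcases trace_of_isConj_mk hmem with h | h
    · exact Finset.mem_insert.2 (.inl h)
    · exact Finset.mem_insert_of_mem (Finset.mem_singleton.2 h)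
  have hform : ∀ t, f t = (-(↑ₘQ 1 0 * ↑ₘP 1 0)) * t ^ 2 +
      (↑ₘQ 1 0 * (↑ₘP 0 0 - ↑ₘP 1 1) + ↑ₘP 1 0 * (↑ₘQ 1 1 - ↑ₘQ 0 0)) * t + f 0 := by
    intro t
    simp [f, upper, trace_fin_two, Matrix.vecMul, dotProduct, mul_apply,
      Fin.sum_univ_two]
    ring
  have hfib : ∀ v ∈ ({(↑ₘC).trace, -(↑ₘC).trace} : Finset F),
      (Finset.univ.filter fun t => f t = v).card ≤ 2 := by
    intro v _
    by_contra hcon
    obtain ⟨x, hx, y, hy, z, hz, hxy, hxz, hyz⟩ := Finset.two_lt_card.1 (not_le.1 hcon)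
    simp only [Finset.mem_filter, Finset.mem_univ, true_and] at hx hy hz
    rw [hform] at hx hy hz
    generalize hk : -(↑ₘQ 1 0 * ↑ₘP 1 0) = k at hx hy hz
    generalize ↑ₘQ 1 0 * (↑ₘP 0 0 - ↑ₘP 1 1) + ↑ₘP 1 0 * (↑ₘQ 1 1 - ↑ₘQ 0 0) = l at hx hy hz
    have hk0 : k ≠ 0 := hk ▸ neg_ne_zero.2 (mul_ne_zero hg₂ hg₁)
    have e1 : (x - y) * (k * (x + y) + l) = 0 := by linear_combination hx - hy
    have e2 : (x - z) * (k * (x + z) + l) = 0 := by linear_combination hx - hz
    have d1 := (mul_eq_zero.1 e1).resolve_left (sub_ne_zero.2 hxy)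
    have d2 := (mul_eq_zero.1 e2).resolve_left (sub_ne_zero.2 hxz)
    have : k * (y - z) = 0 := by linear_combination d1 - d2
    exact hyz (sub_eq_zero.1 ((mul_eq_zero.1 this).resolve_left hk0))
  have hcard := Finset.card_le_mul_card_image_of_maps_to
    (s := Finset.univ) (t := ({(↑ₘC).trace, -(↑ₘC).trace} : Finset F)) (f := f) (fun t _ => hf t) 2 hfib
  rw [Finset.card_univ] at hcard
  rcases (Finset.card_le_two (a := (↑ₘC).trace) (b := -(↑ₘC).trace)).lt_or_eq with h | h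
  · omega
  · have hq : Fintype.card F = 4 := by omega
    have h4' : (4 : F) = 0 := by
      have := FiniteField.cast_card_eq_zero F
      rw [hq] at this
      exact_mod_cast this
    have h22 : (2 : F) * 2 = 0 := by linear_combination h4'
    have h2 : (2 : F) = 0 := mul_self_eq_zero.1 h22
    have : -(↑ₘC).trace = (↑ₘC).trace := by linear_combination (-(↑ₘC).trace) * h2
    rw [this] at h
    simp at h

end Cfsg.Agent.S2450
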