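import Cfsg.Statements.S2455
import Cfsg.Agent.Lib.PSL2Proj52

set_option autoImplicit false
open Cfsg

namespace Cfsg.Agent.S2455

/-- A strong covering result in the direction of Thompson's conjecture (non-identity elements) for PSL(2,q), q odd: let F be a finite field of odd characteristic p with at least 5 elements and let x ∈ PSL(2,F) have order greater than 2 and not divisible by p (so x is not unipotent). Then every non-identity element of PSL(2,F) is a product of two conjugates of x. -/
theorem result {F : Type*} [Field F] [Fintype F] (p : ℕ) [Fact p.Prime] [CharP F p] (hp : p ≠ 2) (h5 : 5 ≤ Fintype.card F)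
    (x : Matrix.ProjectiveSpecialLinearGroup (Fin 2) F) (hx2 : 2 < orderOf x) (hxp : ¬ p ∣ orderOf x) : ∀ g : Matrix.ProjectiveSpecialLinearGroup (Fin 2) F, g ≠ 1 → ∃ u v : Matrix.ProjectiveSpecialLinearGroup (Fin 2) F, g = (u * x * u⁻¹) * (v * x * v⁻¹) := by
  obtain ⟨X, rfl⟩ := PSL2Proj52.π_surjective x
  have hp' : p.Prime := Fact.out
  have h2 : (2 : F) ≠ 0 := fun h => hp (by
    have : CharP F 2 := CharTwo.of_one_ne_zero_of_two_eq_zero one_ne_zero h
    exact CharP.eq F ‹CharP F p› ‹CharP F 2›)
  have ht : PSL2Elements.tr X ≠ 0 := by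
    intro h
    have h1 : PSL2Proj52.π X ^ 2 = 1 := by
      rw [← map_pow, (PSL2Elements.sq_eq_neg_one_iff X h2).2 h, PSL2Proj52.π_eq_one]
      exact Or.inr rfl
    have := Nat.le_of_dvd two_pos (orderOf_dvd_of_pow_eq_one h1)
    omega
  have h4 : PSL2Elements.tr X ^ 2 ≠ 4 := by
    intro h
    have h1 : PSL2Proj52.π X ^ p = 1 := by
      have : (PSL2Elements.tr X - 2) * (PSL2Elements.tr X + 2) = 0 := by linear_combination h
      rcases mul_eq_zero.1 this with e | e
      · rw [← map_pow, PSL2Elements.pow_char p (sub_eq_zero.1 e), map_one]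
      · rw [← PSL2Proj52.π_neg, ← map_pow, PSL2Elements.pow_char p
          (by rw [PSL2Elements.tr_neg, eq_neg_of_add_eq_zero_left e, neg_neg]), map_one]
    rcases (Nat.dvd_prime hp').1 (orderOf_dvd_of_pow_eq_one h1) with e | e
    · omega
    · exact hxp e.symm.dvd
  intro g hg
  exact PSL2Proj52.covering h4 (Or.inl ⟨h2, ht⟩) hg

end Cfsg.Agent.S2455
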