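import Cfsg.Statements.S2456
import Cfsg.Agent.Lib.PSL2Proj52

set_option autoImplicit false
open Cfsg

namespace Cfsg.Agent.S2456

/-- A strong covering result in the direction of Thompson's conjecture (non-identity elements) for PSL(2,q), q even: let F be a finite field of characteristic 2 with q ≥ 4 elements and let x ∈ PSL(2,F) have order greater than 2 and not dividing q + 1. Then every non-identity element of PSL(2,F) is a product of two conjugates of x. -/
theorem result {F : Type*} [Field F] [Fintype F] [CharP F 2] (h4 : 4 ≤ Fintype.card F)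
    (x : Matrix.ProjectiveSpecialLinearGroup (Fin 2) F) (hx2 : 2 < orderOf x) (hxq : ¬ orderOf x ∣ Fintype.card F + 1) : ∀ g : Matrix.ProjectiveSpecialLinearGroup (Fin 2) F, g ≠ 1 → ∃ u v : Matrix.ProjectiveSpecialLinearGroup (Fin 2) F, g = (u * x * u⁻¹) * (v * x * v⁻¹) := by
  obtain ⟨X, rfl⟩ := PSL2Proj52.π_surjective x
  have : Fact (Nat.Prime 2) := ⟨Nat.prime_two⟩
  have h2 : (2 : F) = 0 := CharP.cast_eq_zero F 2
  have h4 : PSL2Elements.tr X ^ 2 ≠ 4 := by
    intro h
    have h1 : PSL2Proj52.π X ^ 2 = 1 := by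
      have ht : PSL2Elements.tr X = 2 := by
        rw [h2]
        have : PSL2Elements.tr X ^ 2 = 0 := by linear_combination h + 2 * h2
        exact pow_eq_zero_iff two_ne_zero |>.1 this
      rw [← map_pow, PSL2Elements.pow_char 2 ht, map_one]
    have := Nat.le_of_dvd two_pos (orderOf_dvd_of_pow_eq_one h1)
    omega
  have hr : ∃ r : F, r ^ 2 - PSL2Elements.tr X * r + 1 = 0 := by
    by_contra hne
    push Not at hne
    obtain ⟨-, hc⟩ := PSL2Elements.centralizer_nonsplit hne
    have hd := Subgroup.orderOf_dvd_natCard (s := Subgroup.centralizer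
      ({X} : Set (Matrix.SpecialLinearGroup (Fin 2) F))) (x := X)
      (Subgroup.mem_centralizer_singleton_iff.2 rfl)
    rw [hc, Nat.card_eq_fintype_card] at hd
    exact hxq ((orderOf_map_dvd PSL2Proj52.π X).trans hd)
  intro g hg
  exact PSL2Proj52.covering h4 (Or.inr hr) hg

end Cfsg.Agent.S2456
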