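import Cfsg.Statements.S2459
import Mathlib

set_option autoImplicit false
open Cfsg

namespace Cfsg.Agent.S2459

open Matrix

variable {F : Type*} [Field F]

/-- Second invariant. -/
def s2 (A : Matrix (Fin 3) (Fin 3) F) : F :=
  A 0 0 * A 1 1 - A 0 1 * A 1 0 + A 0 0 * A 2 2 - A 0 2 * A 2 0 + A 1 1 * A 2 2 - A 1 2 * A 2 1

/-- Companion matrix of `X^3 - T X^2 + S X - 1`. -/
def comp (T S : F) : Matrix (Fin 3) (Fin 3) F := !![0, 0, 1; 1, 0, -S; 0, 1, T]

def norm2 (δ s : F) : Matrix (Fin 3) (Fin 3) F := !![δ, 0, 0; 1, δ + s, 0; 0, 0, δ]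

def kry (A : Matrix (Fin 3) (Fin 3) F) (v : Fin 3 → F) : Matrix (Fin 3) (Fin 3) F :=
  Matrix.of fun i j => (![v, A *ᵥ v, A *ᵥ (A *ᵥ v)] j) i

def Simil (A B : Matrix (Fin 3) (Fin 3) F) : Prop :=
  ∃ P : Matrix (Fin 3) (Fin 3) F, P.det ≠ 0 ∧ A * P = P * B

lemma Simil.symm {A B : Matrix (Fin 3) (Fin 3) F} : Simil A B → Simil B A := by
  rintro ⟨P, hP, h⟩
  have hu : IsUnit P.det := isUnit_iff_ne_zero.2 hP
  refine ⟨P⁻¹, ((Matrix.isUnit_nonsing_inv_det_iff).2 hu).ne_zero, ?_⟩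
  calc B * P⁻¹ = P⁻¹ * (P * B) * P⁻¹ := by rw [Matrix.nonsing_inv_mul_cancel_left _ _ hu]
    _ = P⁻¹ * (A * P) * P⁻¹ := by rw [h]
    _ = P⁻¹ * A := by rw [mul_assoc, Matrix.mul_nonsing_inv_cancel_right _ _ hu]

lemma Simil.trans {A B C : Matrix (Fin 3) (Fin 3) F} : Simil A B → Simil B C → Simil A C := by
  rintro ⟨P, hP, h⟩ ⟨Q, hQ, h'⟩
  exact ⟨P * Q, by simp [Matrix.det_mul, hP, hQ],
    by rw [← mul_assoc, h, mul_assoc, h', ← mul_assoc]⟩

/-- `M` is a product of two conjugates of `D`. -/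
def Good (D M : Matrix (Fin 3) (Fin 3) F) : Prop :=
  ∃ B C, Simil B D ∧ Simil C D ∧ M = B * C

lemma Good.of_simil {D M A : Matrix (Fin 3) (Fin 3) F} (h : Good D M) (hA : Simil A M) :
    Good D A := by
  obtain ⟨B, C, hB, hC, rfl⟩ := h
  obtain ⟨P, hP, hAP⟩ := hA
  have hu : IsUnit P.det := isUnit_iff_ne_zero.2 hP
  refine ⟨P * B * P⁻¹, P * C * P⁻¹, Simil.trans ⟨P, hP, ?_⟩ hB, Simil.trans ⟨P, hP, ?_⟩ hC, ?_⟩
  · rw [Matrix.nonsing_inv_mul_cancel_right _ _ hu]
  · rw [Matrix.nonsing_inv_mul_cancel_right _ _ hu]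
  · calc A = A * P * P⁻¹ := (Matrix.mul_nonsing_inv_cancel_right _ _ hu).symm
      _ = P * B * C * P⁻¹ := by rw [hAP, ← mul_assoc P B C]
      _ = P * B * (P⁻¹ * (P * C)) * P⁻¹ := by rw [Matrix.nonsing_inv_mul_cancel_left _ _ hu]
      _ = _ := by simp only [mul_assoc]

lemma cyc_simil {A : Matrix (Fin 3) (Fin 3) F} {v : Fin 3 → F} (hd : A.det = 1)
    (hv : (kry A v).det ≠ 0) : Simil A (comp A.trace (s2 A)) := by
  refine ⟨kry A v, hv, ?_⟩
  rw [det_fin_three] at hd
  ext i j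
  fin_cases i <;> fin_cases j <;>
    simp [kry, comp, s2, trace_fin_three, mul_apply, mulVec, dotProduct, Fin.sum_univ_three]
  all_goals first
    | ring1
    | linear_combination v 0 * hd
    | linear_combination -(v 0) * hd
    | linear_combination v 1 * hd
    | linear_combination -(v 1) * hd
    | linear_combination v 2 * hd
    | linear_combination -(v 2) * hd

lemma kry_conj {A B P : Matrix (Fin 3) (Fin 3) F} (h : A * P = P * B) (v : Fin 3 → F) :
    kry A (P *ᵥ v) = P * kry B v := by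
  have h1 : ∀ u, A *ᵥ (P *ᵥ u) = P *ᵥ (B *ᵥ u) := fun u => by
    rw [mulVec_mulVec, h, ← mulVec_mulVec]
  ext i j
  fin_cases j
  · simp [kry, mul_apply]; rfl
  · simp [kry, mul_apply, h1, -mulVec_mulVec]; rfl
  · simp [kry, mul_apply, h1, -mulVec_mulVec]; rfl

lemma simil_std (A : Matrix (Fin 3) (Fin 3) F) :
    (∃ r : F, A = Matrix.scalar (Fin 3) r) ∨
      ∃ a b c x y d : F, Simil A !![0, a, x; 1, b, y; 0, c, d] := by
  classical
  by_cases hsc : ∃ r : F, A = Matrix.scalar (Fin 3) r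
  · exact Or.inl hsc
  refine Or.inr ?_
  obtain ⟨w, z, hwz⟩ : ∃ w z : Fin 3 → F,
      (Matrix.of fun i j => (![w, A *ᵥ w, z] j) i).det ≠ 0 := by
    by_contra hne
    push Not at hne
    have h10 := hne ![1, 0, 0] ![0, 0, 1]
    have h20 := hne ![1, 0, 0] ![0, 1, 0]
    have h01 := hne ![0, 1, 0] ![0, 0, 1]
    have h21 := hne ![0, 1, 0] ![1, 0, 0]
    have h02 := hne ![0, 0, 1] ![0, 1, 0]
    have h12 := hne ![0, 0, 1] ![1, 0, 0]
    have k01 := hne ![1, 1, 0] ![0, 0, 1]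
    have k02 := hne ![1, 0, 1] ![0, 1, 0]
    simp [det_fin_three, mulVec, dotProduct, Fin.sum_univ_three] at h10 h20 h01 h21 h02 h12 k01 k02
    have e1 : A 1 1 = A 0 0 := by linear_combination k01 - h10 + h01
    have e2 : A 2 2 = A 0 0 := by linear_combination -k02 - h20 + h02
    apply hsc
    refine ⟨A 0 0, ?_⟩
    ext i j
    fin_cases i <;> fin_cases j <;> simp [Matrix.scalar_apply, h10, h20, h01, h21, h02, h12, e1, e2]
  set P := Matrix.of fun i j => (![w, A *ᵥ w, z] j) i with hP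
  have hu : IsUnit P.det := isUnit_iff_ne_zero.2 hwz
  set B := P⁻¹ * (A * P) with hB
  have hAP : A * P = P * B := by rw [hB, Matrix.mul_nonsing_inv_cancel_left _ _ hu]
  have hcol : ∀ i, B i 0 = (1 : Matrix (Fin 3) (Fin 3) F) i 1 := by
    intro i
    rw [← Matrix.nonsing_inv_mul P hu, hB, mul_apply, mul_apply]
    refine Finset.sum_congr rfl fun j _ => ?_
    congr 1
  refine ⟨B 0 1, B 1 1, B 2 1, B 0 2, B 1 2, B 2 2, P, hwz, hAP.trans (congrArg (P * ·) ?_)⟩
  ext i j
  fin_cases i <;> fin_cases j <;> simp [hcol]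

lemma dichotomy [Fintype F] (h3 : 3 ≤ Fintype.card F) {A : Matrix (Fin 3) (Fin 3) F} (hd : A.det = 1) :
    (∃ r : F, A = Matrix.scalar (Fin 3) r) ∨ (∃ T S : F, Simil A (comp T S)) ∨
      (∃ δ s : F, δ ^ 2 * (δ + s) = 1 ∧ Simil A (norm2 δ s)) := by
  classical
  by_cases hc : ∃ v, (kry A v).det ≠ 0
  · obtain ⟨v, hv⟩ := hc
    exact Or.inr (Or.inl ⟨_, _, cyc_simil hd hv⟩)
  rcases simil_std A with h | ⟨a, b, c, x, y, d, P, hP, hAP⟩
  · exact Or.inl h
  refine Or.inr (Or.inr ?_)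
  push Not at hc
  have hB : ∀ v, (kry !![0, a, x; 1, b, y; 0, c, d] v).det = 0 := by
    intro v
    have h := hc (P *ᵥ v)
    rw [kry_conj hAP, det_mul] at h
    exact (mul_eq_zero.1 h).resolve_left hP
  have hdB : (!![0, a, x; 1, b, y; 0, c, d] : Matrix (Fin 3) (Fin 3) F).det = 1 := by
    have h := congrArg Matrix.det hAP
    rw [det_mul, det_mul, hd, one_mul] at h
    exact (mul_eq_left₀ hP).1 h.symm
  have hc0 := hB ![1, 0, 0]
  simp [kry, det_fin_three, mulVec, dotProduct, Fin.sum_univ_three] at hc0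
  subst hc0
  simp [det_fin_three] at hdB
  have hN : ∀ t : F, (x + (0 - d) * t) ^ 2 + b * (x + (0 - d) * t) * (y + t) - a * (y + t) ^ 2 = 0 := by
    intro t
    have h := hB ![t, 0, 1]
    simp [kry, det_fin_three, mulVec, dotProduct, Fin.sum_univ_three] at h
    linear_combination h
  obtain ⟨t, ht0, ht1⟩ : ∃ t : F, t ≠ 0 ∧ t ≠ 1 := by
    by_contra hne
    push Not at hne
    have : (Finset.univ : Finset F) ⊆ {0, 1} := by
      intro t _
      by_cases h : t = 0
      · simp [h]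
      · simp [hne t h]
    have h2 := (Finset.card_le_card this).trans Finset.card_le_two
    rw [Finset.card_univ] at h2
    omega
  have n0 := hN 0
  have n1 := hN 1
  have nt := hN t
  have hQ : d ^ 2 - b * d - a = 0 := by
    have : t * (t - 1) * (d ^ 2 - b * d - a) = 0 := by linear_combination nt - t * n1 + (t - 1) * n0
    rcases mul_eq_zero.1 this with h | h
    · rcases mul_eq_zero.1 h with h' | h'
      · exact absurd h' ht0
      · exact absurd (sub_eq_zero.1 h') ht1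
    · exact h
  have hL : (b - 2 * d) * (x + d * y) = 0 := by
    linear_combination n1 - n0 - hQ - 2 * y * hQ
  have hN0 : (x + d * y) * (x + b * y - d * y) = 0 := by linear_combination n0 - y ^ 2 * hQ
  have hx : x + d * y = 0 := by
    by_contra hne
    have h1 := (mul_eq_zero.1 hL).resolve_right hne
    have h2 := (mul_eq_zero.1 hN0).resolve_left hne
    exact hne (by linear_combination h2 - y * h1)
  refine ⟨d, b - 2 * d, ?_, Simil.trans ⟨P, hP, hAP⟩ ⟨!![1, -d, -y; 0, 1, 0; 0, 0, 1], ?_, ?_⟩⟩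
  · linear_combination hdB - d * hQ
  · simp [det_fin_three]
  · ext i j
    fin_cases i <;> fin_cases j <;> simp [norm2, mul_apply, Fin.sum_univ_three]
    · linear_combination -hQ
    · linear_combination hx
    · ring

lemma good_of_minors {M : Matrix (Fin 3) (Fin 3) F} {b : F} (hb0 : b ≠ 0) (hb1 : b ≠ 1) (hb2 : b ≠ b⁻¹)
    (h00 : M 0 0 = 1) (h11 : M 0 0 * M 1 1 - M 0 1 * M 1 0 = b ^ 2) (hd : M.det = 1) :
    Good (diagonal ![1, b, b⁻¹]) M := by
  have hc1 : (b⁻¹ : F) ≠ 1 := by simp [hb1]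
  have n1 : (1 : F) - b ≠ 0 := sub_ne_zero.2 (Ne.symm hb1)
  have n2 : b - b⁻¹ ≠ 0 := sub_ne_zero.2 hb2
  have n3 : (1 : F) - b⁻¹ ≠ 0 := sub_ne_zero.2 (Ne.symm hc1)
  have n4 : b - 1 ≠ 0 := sub_ne_zero.2 hb1
  have n5 : b ^ 2 - 1 ≠ 0 := by
    intro h
    apply hb2
    field_simp
    linear_combination h
  set l := (M 2 1 - M 2 0 * M 0 1) / b with hl
  set u := (M 1 2 - M 1 0 * M 0 2) / b with hu
  refine ⟨!![1, 0, 0; M 1 0, b, 0; M 2 0, l, b⁻¹], !![1, M 0 1, M 0 2; 0, b, u; 0, 0, b⁻¹],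
    ⟨!![1, 0, 0; M 1 0 / (1 - b), 1, 0; (M 2 0 + l * (M 1 0 / (1 - b))) / (1 - b⁻¹), l / (b - b⁻¹), 1], ?_, ?_⟩,
    ⟨!![1, -(M 0 1) / (1 - b), -(M 0 1 * (-u / (b - b⁻¹)) + M 0 2) / (1 - b⁻¹); 0, 1, -u / (b - b⁻¹); 0, 0, 1], ?_, ?_⟩, ?_⟩
  · simp [det_fin_three]
  · ext i j
    have e1 : M 1 0 / (1 - b) * (1 - b) = M 1 0 := div_mul_cancel₀ _ n1
    have e2 : l / (b - b⁻¹) * (b - b⁻¹) = l := div_mul_cancel₀ _ n2
    have e3 : (M 2 0 + l * (M 1 0 / (1 - b))) / (1 - b⁻¹) * (1 - b⁻¹) =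
        M 2 0 + l * (M 1 0 / (1 - b)) := div_mul_cancel₀ _ n3
    fin_cases i <;> fin_cases j <;> simp [mul_apply, Fin.sum_univ_three]
    all_goals first
      | ring1
      | linear_combination -e1
      | linear_combination -e2
      | linear_combination -e3
      | linear_combination e1
      | linear_combination e2
      | linear_combination e3
      | (field_simp; ring1)
  · simp [det_fin_three]
  · ext i j
    have e1 : -(M 0 1) / (1 - b) * (1 - b) = -(M 0 1) := div_mul_cancel₀ _ n1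
    have e2 : -u / (b - b⁻¹) * (b - b⁻¹) = -u := div_mul_cancel₀ _ n2
    have e3 : -(M 0 1 * (-u / (b - b⁻¹)) + M 0 2) / (1 - b⁻¹) * (1 - b⁻¹) =
        -(M 0 1 * (-u / (b - b⁻¹)) + M 0 2) := div_mul_cancel₀ _ n3
    fin_cases i <;> fin_cases j <;> simp [mul_apply, Fin.sum_univ_three]
    all_goals first
      | ring1
      | linear_combination -e1
      | linear_combination -e2
      | linear_combination -e3
      | linear_combination e1
      | linear_combination e2
      | linear_combination e3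
      | (field_simp; ring1)
  · have el : l * b = M 2 1 - M 2 0 * M 0 1 := div_mul_cancel₀ _ hb0
    have eu : b * u = M 1 2 - M 1 0 * M 0 2 := by rw [hu, mul_div_cancel₀ _ hb0]
    rw [h00, one_mul] at h11
    rw [det_fin_three, h00] at hd
    have ec : b⁻¹ * b⁻¹ * b ^ 2 = 1 := by field_simp
    ext i j
    fin_cases i <;> fin_cases j <;> simp [mul_apply, Fin.sum_univ_three, h00]
    · linear_combination h11
    · linear_combination -eu
    · linear_combination -el
    · apply mul_left_cancel₀ (pow_ne_zero 2 hb0)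
      linear_combination hd - ec + (M 0 2 * M 2 0 - M 2 2) * h11 - b * u * el - (M 2 1 - M 2 0 * M 0 1) * eu

lemma good_comp {b T S : F} (hb0 : b ≠ 0) (hb1 : b ≠ 1) (hb2 : b ≠ b⁻¹) :
    Good (diagonal ![1, b, b⁻¹]) (comp T S) := by
  set w := T - 1 - b ^ 2 with hw
  set z := b ^ 2 + w + b ^ 2 * w - S with hz
  set y := 1 - b ^ 2 * w + z with hy
  set H : Matrix (Fin 3) (Fin 3) F := !![1, 0, y; 1, b ^ 2, z; 0, 1, w] with hH
  have hd : H.det = 1 := by simp [hH, det_fin_three]; linear_combination hy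
  have hT : H.trace = T := by simp [hH, trace_fin_three]; linear_combination hw
  have hS : s2 H = S := by simp [hH, s2]; linear_combination -hz
  have hsim : Simil H (comp T S) := by
    rw [← hT, ← hS]
    refine cyc_simil hd (v := ![1, 0, 0]) ?_
    simp [kry, hH, det_fin_three, mulVec, dotProduct, Fin.sum_univ_three]
  exact (good_of_minors hb0 hb1 hb2 (by simp [hH]) (by simp [hH]) hd).of_simil hsim.symm

lemma good_norm {b δ s : F} (hb0 : b ≠ 0) (hb1 : b ≠ 1) (hb2 : b ≠ b⁻¹) (hds : δ ^ 2 * (δ + s) = 1) :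
    Good (diagonal ![1, b, b⁻¹]) (norm2 δ s) := by
  have hδ : δ ≠ 0 := by rintro rfl; simp at hds
  set p := b ^ 2 / δ - 1 with hp
  have hpδ : δ * (1 + p) = b ^ 2 := by rw [hp]; field_simp; ring
  set r := s - (1 - δ) - p with hr
  set M : Matrix (Fin 3) (Fin 3) F := !![δ + (1 - δ), p, r; 1 - δ, δ + p, r; 1 - δ, p, δ + r] with hM
  have h00 : M 0 0 = 1 := by simp [hM]
  have h11 : M 0 0 * M 1 1 - M 0 1 * M 1 0 = b ^ 2 := by simp [hM]; linear_combination hpδ
  have hd : M.det = 1 := by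
    simp [hM, det_fin_three]; linear_combination hds + δ ^ 2 * hr
  refine (good_of_minors hb0 hb1 hb2 h00 h11 hd).of_simil (Simil.symm ?_)
  by_cases h1 : 1 - δ = 0
  · have hδ1 : δ = 1 := (sub_eq_zero.1 h1).symm
    have hp0 : p ≠ 0 := by
      intro h
      apply hb2
      field_simp
      linear_combination -hpδ + δ * h + hδ1
    refine ⟨!![0, 1, 1; 1 / p, 1, 0; 0, 1, 0], ?_, ?_⟩
    · simp [det_fin_three, hp0]
    · have hpp : p * (1 / p) = 1 := mul_one_div_cancel hp0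
      simp only [hM, hr, hδ1]
      ext i j
      fin_cases i <;> fin_cases j <;>
        simp [norm2, mul_apply, Fin.sum_univ_three, hp0] <;>
        first
          | ring1
          | linear_combination hpp
          | (field_simp; ring1)
  · refine ⟨!![1 / (1 - δ), 1, -p / (1 - δ); 0, 1, 1; 0, 1, 0], ?_, ?_⟩
    · simp [det_fin_three, h1]
    · simp only [hM, hr]
      have hpp : (1 - δ) * (1 - δ)⁻¹ = 1 := mul_inv_cancel₀ h1
      ext i j
      fin_cases i <;> fin_cases j <;>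
        simp [norm2, mul_apply, Fin.sum_univ_three, div_eq_mul_inv] <;>
        first
          | ring1
          | linear_combination hpp
          | linear_combination -hpp
          | linear_combination p * hpp
          | linear_combination -p * hpp
          | (field_simp; ring1)

lemma exists_sl {B D : Matrix (Fin 3) (Fin 3) F} (hD : D.det = 1) (h : Simil B D)
    (hE : ∀ d : F, d ≠ 0 → ∃ E : Matrix (Fin 3) (Fin 3) F, E.det = d ∧ D * E = E * D) :
    ∃ Q : SpecialLinearGroup (Fin 3) F,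
      B = ((Q * ⟨D, hD⟩ * Q⁻¹ : SpecialLinearGroup (Fin 3) F) : Matrix (Fin 3) (Fin 3) F) := by
  obtain ⟨P, hP, hBP⟩ := h
  obtain ⟨E, hEd, hED⟩ := hE P.det⁻¹ (inv_ne_zero hP)
  let Q : SpecialLinearGroup (Fin 3) F := ⟨P * E, by rw [det_mul, hEd, mul_inv_cancel₀ hP]⟩
  refine ⟨Q, ?_⟩
  have h1 : B * (P * E) = P * E * D := by rw [← mul_assoc, hBP, mul_assoc, hED, ← mul_assoc]
  have h2 : (P * E) * adjugate (P * E) = 1 := by
    rw [mul_adjugate, det_mul, hEd, mul_inv_cancel₀ hP, one_smul]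
  change B = P * E * D * adjugate (P * E)
  rw [← h1, mul_assoc B, h2, mul_one]

lemma finish [Fintype F] (h3 : 3 ≤ Fintype.card F) (D : SpecialLinearGroup (Fin 3) F)
    (hE : ∀ d : F, d ≠ 0 → ∃ E : Matrix (Fin 3) (Fin 3) F, E.det = d ∧ (D : Matrix (Fin 3) (Fin 3) F) * E = E * D)
    (hc : ∀ T S : F, Good (D : Matrix (Fin 3) (Fin 3) F) (comp T S))
    (hn : ∀ δ s : F, δ ^ 2 * (δ + s) = 1 → Good (D : Matrix (Fin 3) (Fin 3) F) (norm2 δ s)) :
    ∀ g : ProjectiveSpecialLinearGroup (Fin 3) F, g ≠ 1 → ∃ u v : ProjectiveSpecialLinearGroup (Fin 3) F,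
      g = (u * QuotientGroup.mk D * u⁻¹) * (v * QuotientGroup.mk D * v⁻¹) := by
  intro g hg
  obtain ⟨A, rfl⟩ := QuotientGroup.mk_surjective g
  have hgood : Good (D : Matrix (Fin 3) (Fin 3) F) (A : Matrix (Fin 3) (Fin 3) F) := by
    rcases dichotomy h3 (A := (A : Matrix (Fin 3) (Fin 3) F)) A.2 with ⟨r, hr⟩ | ⟨T, S, h⟩ | ⟨δ, s, hds, h⟩
    · refine absurd ((QuotientGroup.eq_one_iff A).2 ?_) hg
      rw [Matrix.SpecialLinearGroup.mem_center_iff]
      refine ⟨r, ?_, hr.symm⟩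
      have := A.2
      rw [hr, Matrix.scalar_apply, det_diagonal] at this
      simpa using this
    · exact (hc T S).of_simil h
    · exact (hn δ s hds).of_simil h
  obtain ⟨B, C, hB, hC, hBC⟩ := hgood
  obtain ⟨Q, hQ⟩ := exists_sl D.2 hB hE
  obtain ⟨R, hR⟩ := exists_sl D.2 hC hE
  refine ⟨QuotientGroup.mk Q, QuotientGroup.mk R, ?_⟩
  have hA : A = (Q * D * Q⁻¹) * (R * D * R⁻¹) := Subtype.ext (hBC.trans (by rw [hQ, hR]; rfl))
  rw [hA]
  rfl

lemma good_three {B C R : Matrix (Fin 3) (Fin 3) (ZMod 3)}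
    (hB : B.det = 1 ∧ B.trace = 0 ∧ s2 B = 1 ∧ (kry B ![1, 0, 0]).det ≠ 0)
    (hC : C.det = 1 ∧ C.trace = 0 ∧ s2 C = 1 ∧ (kry C ![1, 0, 0]).det ≠ 0)
    (hR : B * C = R) : Good (comp 0 1) R := by
  refine ⟨B, C, ?_, ?_, hR.symm⟩
  · simpa only [hB.2.1, hB.2.2.1] using cyc_simil hB.1 hB.2.2.2
  · simpa only [hC.2.1, hC.2.2.1] using cyc_simil hC.1 hC.2.2.2

lemma three_comp (T S : ZMod 3) : Good (comp 0 1) (comp T S) := by
  fin_cases T <;> fin_cases S
  · exact good_three (B := !![0, 1, 0; 0, 0, 2; 2, 1, 0]) (C := !![0, 2, 1; 0, 0, 1; 2, 0, 0]) (by decide +kernel) (by decide +kernel) (by decide +kernel)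
  · exact good_three (B := !![0, 1, 0; 1, 1, 0; 2, 0, 2]) (C := !![1, 0, 1; 0, 0, 1; 2, 2, 2]) (by decide +kernel) (by decide +kernel) (by decide +kernel)
  · exact good_three (B := !![0, 1, 1; 2, 0, 2; 1, 1, 0]) (C := !![1, 2, 2; 2, 2, 1; 1, 1, 0]) (by decide +kernel) (by decide +kernel) (by decide +kernel)
  · exact good_three (B := !![0, 1, 0; 0, 0, 1; 1, 2, 0]) (C := !![0, 1, 2; 0, 0, 1; 1, 0, 0]) (by decide +kernel) (by decide +kernel) (by decide +kernel)
  · exact good_three (B := !![0, 1, 0; 0, 1, 2; 2, 2, 2]) (C := !![1, 2, 2; 0, 0, 1; 2, 0, 2]) (by decide +kernel) (by decide +kernel) (by decide +kernel)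
  · exact good_three (B := !![0, 1, 0; 0, 2, 2; 2, 2, 1]) (C := !![2, 2, 2; 0, 0, 1; 2, 0, 1]) (by decide +kernel) (by decide +kernel) (by decide +kernel)
  · exact good_three (B := !![0, 1, 1; 0, 2, 1; 2, 2, 1]) (C := !![1, 2, 1; 1, 0, 2; 2, 0, 2]) (by decide +kernel) (by decide +kernel) (by decide +kernel)
  · exact good_three (B := !![0, 1, 0; 1, 1, 0; 2, 2, 2]) (C := !![1, 0, 1; 0, 0, 1; 2, 2, 2]) (by decide +kernel) (by decide +kernel) (by decide +kernel)
  · exact good_three (B := !![0, 1, 2; 0, 2, 2; 1, 1, 1]) (C := !![1, 1, 0; 1, 0, 0; 1, 0, 2]) (by decide +kernel) (by decide +kernel) (by decide +kernel)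

lemma three_norm (δ s : ZMod 3) (h : δ ^ 2 * (δ + s) = 1) : Good (comp 0 1) (norm2 δ s) := by
  have key : ∀ δ s : ZMod 3, δ ^ 2 * (δ + s) = 1 → (δ = 1 ∧ s = 0) ∨ (δ = 2 ∧ s = 2) := by decide
  rcases key δ s h with ⟨rfl, rfl⟩ | ⟨rfl, rfl⟩
  · exact good_three (B := !![0, 2, 0; 0, 1, 1; 2, 1, 2]) (C := !![0, 2, 2; 2, 0, 0; 2, 1, 0]) (by decide +kernel) (by decide +kernel) (by decide +kernel)
  · exact good_three (B := !![0, 0, 1; 0, 2, 1; 1, 0, 1]) (C := !![1, 0, 2; 1, 2, 0; 2, 0, 0]) (by decide +kernel) (by decide +kernel) (by decide +kernel)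

lemma three_det : (comp 0 1 : Matrix (Fin 3) (Fin 3) (ZMod 3)).det = 1 := by decide +kernel

lemma three_pow : (comp 0 1 : Matrix (Fin 3) (Fin 3) (ZMod 3)) ^ 8 = 1 := by decide +kernel

lemma three_cube : ∀ d : ZMod 3, d ≠ 0 → d ^ 3 = d := by decide


/-- A form of Thompson's conjecture for PSL(3,q), q > 2 (covering the non-identity elements), with a semisimple class: for F a finite field of characteristic p with more than 2 elements there is an element x of PSL(3,F) of order prime to p such that every non-identity element of PSL(3,F) is a product of two conjugates of x. -/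
theorem result {F : Type*} [Field F] [Fintype F] (p : ℕ) [Fact p.Prime] [CharP F p] (h3 : 3 ≤ Fintype.card F) :
    ∃ x : Matrix.ProjectiveSpecialLinearGroup (Fin 3) F, ¬ p ∣ orderOf x ∧ ∀ g : Matrix.ProjectiveSpecialLinearGroup (Fin 3) F, g ≠ 1 → ∃ u v : Matrix.ProjectiveSpecialLinearGroup (Fin 3) F, g = (u * x * u⁻¹) * (v * x * v⁻¹) := by
  classical
  by_cases hq : Fintype.card F = 3
  · haveI : Fact (Nat.Prime 3) := ⟨Nat.prime_three⟩
    have hp3 : p = 3 := by
      obtain ⟨n, hp', hn⟩ := FiniteField.card F p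
      rw [hq] at hn
      exact ((Nat.prime_dvd_prime_iff_eq hp' Nat.prime_three).1 (hn ▸ dvd_pow_self p n.ne_zero))
    subst hp3
    let D : Matrix.SpecialLinearGroup (Fin 3) (ZMod 3) := ⟨comp 0 1, three_det⟩
    have hD8 : D ^ 8 = 1 := Subtype.ext three_pow
    have hE : ∀ d : ZMod 3, d ≠ 0 → ∃ E : Matrix (Fin 3) (Fin 3) (ZMod 3), E.det = d ∧
        (D : Matrix (Fin 3) (Fin 3) (ZMod 3)) * E = E * D := by
      intro d hd
      refine ⟨Matrix.scalar (Fin 3) d, ?_, ((Matrix.scalar_commute d (fun _ => mul_comm _ _) _).eq).symm⟩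
      simp [Matrix.scalar_apply, three_cube d hd]
    have hz := finish (F := ZMod 3) (by simp) D hE three_comp three_norm
    obtain ⟨σ⟩ : Nonempty (ZMod 3 ≃+* F) := ⟨ZMod.ringEquivOfPrime F Nat.prime_three hq⟩
    let e2 : Matrix.SpecialLinearGroup (Fin 3) (ZMod 3) ≃* Matrix.SpecialLinearGroup (Fin 3) F :=
      { Matrix.SpecialLinearGroup.map (n := Fin 3) σ.toRingHom with
        invFun := Matrix.SpecialLinearGroup.map (n := Fin 3) σ.symm.toRingHom
        left_inv := fun A => by ext i j; simp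
        right_inv := fun A => by ext i j; simp }
    have hmap : (Subgroup.center (Matrix.SpecialLinearGroup (Fin 3) (ZMod 3))).map e2.toMonoidHom =
        Subgroup.center _ := by
      refine le_antisymm ?_ fun z hz => ⟨e2.symm z, ?_, e2.apply_symm_apply z⟩
      · rintro _ ⟨a, ha, rfl⟩
        refine Subgroup.mem_center_iff.2 fun g => ?_
        obtain ⟨g', rfl⟩ := e2.surjective g
        exact (map_mul e2 g' a).symm.trans ((congrArg e2 (Subgroup.mem_center_iff.1 ha g')).trans (map_mul e2 a g'))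
      · refine Subgroup.mem_center_iff.2 fun g => e2.injective ?_
        rw [map_mul, map_mul, e2.apply_symm_apply]
        exact Subgroup.mem_center_iff.1 hz (e2 g)
    let e := QuotientGroup.congr _ _ e2 hmap
    refine ⟨e (QuotientGroup.mk D), ?_, fun g hg => ?_⟩
    · rw [MulEquiv.orderOf_eq]
      intro h
      have h8 : orderOf (QuotientGroup.mk D : Matrix.ProjectiveSpecialLinearGroup (Fin 3) (ZMod 3)) ∣ 8 :=
        orderOf_dvd_of_pow_eq_one (by rw [← QuotientGroup.mk_pow, hD8]; rfl)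
      exact absurd (h.trans h8) (by decide)
    · obtain ⟨u, v, huv⟩ := hz (e.symm g) (fun h => hg (e.symm_apply_eq.1 (h.trans (map_one e.symm).symm) |>.trans (by simp)))
      refine ⟨e u, e v, ?_⟩
      rw [← map_inv, ← map_inv, ← map_mul, ← map_mul, ← map_mul, ← map_mul, ← map_mul]
      exact e.symm_apply_eq.1 huv
  · obtain ⟨b, hb⟩ : ∃ b : F, b ∉ ({0, 1, -1} : Finset F) := by
      by_contra hne
      push Not at hne
      have h1 := Finset.card_le_card (s := (Finset.univ : Finset F)) (fun b _ => hne b)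
      rw [Finset.card_univ] at h1
      have h2 : ({0, 1, -1} : Finset F).card ≤ 3 := Finset.card_le_three
      omega
    simp only [Finset.mem_insert, Finset.mem_singleton, not_or] at hb
    obtain ⟨hb0, hb1, hbm⟩ := hb
    have hb2 : b ≠ b⁻¹ := by
      intro h
      have : b * b = 1 := by nth_rewrite 2 [h]; exact mul_inv_cancel₀ hb0
      rcases mul_self_eq_one_iff.1 this with h' | h'
      · exact hb1 h'
      · exact hbm h'
    let D : Matrix.SpecialLinearGroup (Fin 3) F :=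
      ⟨Matrix.diagonal ![1, b, b⁻¹], by simp [Fin.prod_univ_three, hb0]⟩
    have hE : ∀ d : F, d ≠ 0 → ∃ E : Matrix (Fin 3) (Fin 3) F, E.det = d ∧
        (D : Matrix (Fin 3) (Fin 3) F) * E = E * D := by
      intro d _
      refine ⟨Matrix.diagonal ![d, 1, 1], by simp [Fin.prod_univ_three], ?_⟩
      change Matrix.diagonal _ * Matrix.diagonal _ = Matrix.diagonal _ * Matrix.diagonal _
      simp only [Matrix.diagonal_mul_diagonal]
      congr 1
      funext i
      exact mul_comm _ _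
    refine ⟨QuotientGroup.mk D, ?_, finish h3 D hE (fun T S => good_comp hb0 hb1 hb2)
      (fun δ s h => good_norm hb0 hb1 hb2 h)⟩
    have hpow : D ^ (Fintype.card F - 1) = 1 := Subtype.ext (by
      change Matrix.diagonal ![1, b, b⁻¹] ^ (Fintype.card F - 1) = 1
      rw [Matrix.diagonal_pow, ← Matrix.diagonal_one]
      congr 1
      funext i
      fin_cases i <;> simp [FiniteField.pow_card_sub_one_eq_one b hb0])
    intro h
    have h' := h.trans (orderOf_dvd_of_pow_eq_one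
      (show (QuotientGroup.mk D : Matrix.ProjectiveSpecialLinearGroup (Fin 3) F) ^ (Fintype.card F - 1) = 1 by
        rw [← QuotientGroup.mk_pow, hpow]; rfl))
    obtain ⟨n, hp', hn⟩ := FiniteField.card F p
    have hpq : p ∣ Fintype.card F := hn ▸ dvd_pow_self p n.ne_zero
    have h11 := Nat.dvd_sub hpq h'
    rw [Nat.sub_sub_self (by omega)] at h11
    exact hp'.ne_one (Nat.dvd_one.1 h11)

end Cfsg.Agent.S2459
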