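import Cfsg.Statements.S2460
import Mathlib

set_option autoImplicit false
open Cfsg

/-!
Every noncentral element of `Sp₄(F)` is conjugate to `v · diag(A, A⁻ᵀ) · u` with `v`, `u` in the two
opposite Siegel radicals and `det A = 1`, where `A` is central or has trace different from `2`. Such an
`A` is a product of a conjugate of an elliptic `B` and a conjugate of `B⁻¹`, and `diag(B, B⁻ᵀ)` has no
fixed points on the radicals, so the radical factors are absorbed by conjugation.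
-/

namespace Cfsg.Agent.S2460

open Matrix

variable {F : Type*} [Field F]

local notation "M2" => Matrix (Fin 2) (Fin 2) F
/-- the symplectic group in dimension four -/
abbrev Sp4 (F : Type*) [Field F] : Type _ := ↥(Matrix.symplecticGroup (Fin 2) F)

theorem mem_of_blocks {a b c d : M2} (h1 : a * bᵀ = b * aᵀ) (h2 : c * dᵀ = d * cᵀ)
    (h3 : a * dᵀ - b * cᵀ = 1) :
    fromBlocks a b c d ∈ Matrix.symplecticGroup (Fin 2) F := by
  have h4 : d * aᵀ - c * bᵀ = 1 := by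
    have := congrArg Matrix.transpose h3
    simpa [Matrix.transpose_sub, Matrix.transpose_mul] using this
  rw [SymplecticGroup.mem_iff, Matrix.J, fromBlocks_transpose, fromBlocks_multiply,
    fromBlocks_multiply]
  congr 1
  · simp [h1]
  · simp only [Matrix.mul_zero, Matrix.mul_one, Matrix.mul_neg, add_zero, zero_add, Matrix.neg_mul]
    rw [← h3]; abel
  · simp only [Matrix.mul_zero, Matrix.mul_one, Matrix.mul_neg, add_zero, zero_add, Matrix.neg_mul]
    rw [← h4]; abel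
  · simp [h2]

/-- upper radical -/
def up (W : {W : M2 // Wᵀ = W}) : (Sp4 F) :=
  ⟨fromBlocks 1 W.1 0 1, mem_of_blocks (by simp [W.2]) (by simp) (by simp)⟩

/-- lower radical -/
def low (W : {W : M2 // Wᵀ = W}) : (Sp4 F) :=
  ⟨fromBlocks 1 0 W.1 1, mem_of_blocks (by simp) (by simp [W.2]) (by simp)⟩

/-- Levi -/
def lev (A : GL (Fin 2) F) : (Sp4 F) :=
  ⟨fromBlocks (A : M2) 0 0 ((A⁻¹ : GL (Fin 2) F) : M2)ᵀ,
    mem_of_blocks (by simp) (by simp) (by simp)⟩

theorem lev_mul (A B : GL (Fin 2) F) : lev (A * B) = lev A * lev B := by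
  apply Subtype.ext
  simp [lev, fromBlocks_multiply, Matrix.transpose_mul]

theorem lev_one : lev (1 : GL (Fin 2) F) = 1 := by
  apply Subtype.ext
  simp [lev]

/-- the elliptic parameters -/
def Good (s d : F) : Prop := s ≠ 0 ∧ d ≠ 1 ∧ d ≠ 0 ∧ ∀ x : F, x ^ 2 - s * x + d ≠ 0

theorem Good.inv {s d : F} (h : Good s d) : Good (s / d) (1 / d) := by
  obtain ⟨hs, hd1, hd0, hr⟩ := h
  refine ⟨div_ne_zero hs hd0, ?_, one_div_ne_zero hd0, fun x hx => ?_⟩
  · intro h
    rw [one_div, inv_eq_one] at h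
    exact hd1 h
  · by_cases hx0 : x = 0
    · subst hx0
      simp [hd0] at hx
    · apply hr x⁻¹
      field_simp at hx ⊢
      linear_combination hx

/-- `A` has trace `s` and determinant `d` -/
def HasPoly (A : M2) (s d : F) : Prop := A.trace = s ∧ A.det = d

theorem cayley {A : M2} {s d : F} (h : HasPoly A s d) : A * A - s • A + d • (1 : M2) = 0 := by
  obtain ⟨rfl, rfl⟩ := h
  ext i j
  fin_cases i <;> fin_cases j <;>
    simp [Matrix.mul_apply, Fin.sum_univ_two, trace_fin_two, det_fin_two] <;> ring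

theorem det_comb {A : M2} {s d : F} (h : HasPoly A s d) (a b : F) :
    (a • (1 : M2) + b • A).det = a ^ 2 + a * b * s + b ^ 2 * d := by
  obtain ⟨rfl, rfl⟩ := h
  simp [trace_fin_two, det_fin_two]
  ring

theorem det_comb_ne {A : M2} {s d : F} (hg : Good s d) (h : HasPoly A s d) {a b : F}
    (hb : b ≠ 0) : (a • (1 : M2) + b • A).det ≠ 0 := by
  rw [det_comb h]
  intro e
  apply hg.2.2.2 (-a / b)
  field_simp
  linear_combination e

theorem fixed_zero {Z W : M2} {s d : F} (hg : Good s d) (hZ : HasPoly Z s d)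
    (h : Z * W * Zᵀ = W) : W = 0 := by
  obtain ⟨hs, hd1, hd0, hr⟩ := id hg
  have hu : IsUnit Zᵀ.det := by
    rw [det_transpose, hZ.2]; exact isUnit_iff_ne_zero.2 hd0
  obtain ⟨Y, hY⟩ : ∃ Y, Y = Zᵀ⁻¹ := ⟨_, rfl⟩
  have h1 : Z * W = W * Y := by
    calc Z * W = Z * W * (Zᵀ * Y) := by rw [hY, Matrix.mul_nonsing_inv _ hu, Matrix.mul_one]
      _ = _ := by rw [← Matrix.mul_assoc, h]
  have hYp : HasPoly Y (s / d) (1 / d) := by
    have hdet : Y.det = 1 / d := by
      rw [hY, det_nonsing_inv, det_transpose, hZ.2, Ring.inverse_eq_inv', one_div]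
    refine ⟨?_, hdet⟩
    rw [hY, Matrix.inv_def, det_transpose, hZ.2, Ring.inverse_eq_inv', trace_smul, adjugate_fin_two,
      trace_fin_two, ← hZ.1, trace_fin_two]
    simp
    ring
  have e1 : W * (Y * Y - s • Y + d • (1 : M2)) = 0 := by
    have := congrArg (· * W) (cayley hZ)
    simp only [Matrix.zero_mul, Matrix.add_mul, Matrix.sub_mul, Matrix.smul_mul, Matrix.one_mul,
      Matrix.mul_assoc] at this
    rw [h1, ← Matrix.mul_assoc Z W Y, h1, Matrix.mul_assoc] at this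
    simpa [Matrix.mul_add, Matrix.mul_sub, Matrix.mul_smul] using this
  have e2 := cayley hYp
  have e3 : W * (((d ^ 2 - 1) / d) • (1 : M2) + (-(s * (d - 1) / d)) • Y) = 0 := by
    have : ((d ^ 2 - 1) / d) • (1 : M2) + (-(s * (d - 1) / d)) • Y =
        (Y * Y - s • Y + d • (1 : M2)) - (Y * Y - (s / d) • Y + (1 / d) • (1 : M2)) := by
      ext i j
      simp
      field_simp
      ring
    rw [this, e2, sub_zero, e1]
  have hne := det_comb_ne (hg.inv) hYp (a := (d ^ 2 - 1) / d) (b := -(s * (d - 1) / d))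
    (neg_ne_zero.2 (div_ne_zero (mul_ne_zero hs (sub_ne_zero.2 hd1)) hd0))
  have := congrArg (· * (((d ^ 2 - 1) / d) • (1 : M2) + (-(s * (d - 1) / d)) • Y)⁻¹) e3
  rw [Matrix.mul_assoc, Matrix.mul_nonsing_inv _ (isUnit_iff_ne_zero.2 hne), Matrix.mul_one,
    Matrix.zero_mul] at this
  exact this

theorem up_absorb [Finite F] {Z : GL (Fin 2) F} {s d : F} (hg : Good s d) (hZ : HasPoly (Z : M2) s d)
    (S : {W : M2 // Wᵀ = W}) : IsConj (lev Z) (lev Z * up S) := by
  let f : {W : M2 // Wᵀ = W} → {W : M2 // Wᵀ = W} := fun W =>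
    ⟨((Z⁻¹ : GL (Fin 2) F) : M2) * W.1 * ((Z⁻¹ : GL (Fin 2) F) : M2)ᵀ - W.1, by
      simp [Matrix.transpose_sub, Matrix.transpose_mul, W.2, Matrix.mul_assoc]⟩
  have hinj : Function.Injective f := by
    intro W W' h
    have h' := congrArg Subtype.val h
    simp only [f] at h'
    apply Subtype.ext
    rw [← sub_eq_zero]
    refine fixed_zero hg hZ ?_
    have h2 : ((Z⁻¹ : GL (Fin 2) F) : M2) * (W.1 - W'.1) * ((Z⁻¹ : GL (Fin 2) F) : M2)ᵀ =
        W.1 - W'.1 := by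
      rw [Matrix.mul_sub, Matrix.sub_mul]
      exact sub_eq_sub_iff_sub_eq_sub.1 h'
    conv_lhs => rw [← h2]
    simp only [Matrix.mul_assoc, ← Matrix.transpose_mul, Units.mul_inv]
    simp [← Matrix.mul_assoc]
  obtain ⟨W, hW⟩ := (Finite.injective_iff_surjective.1 hinj) S
  refine isConj_iff.2 ⟨up W, ?_⟩
  rw [mul_inv_eq_iff_eq_mul, ← hW]
  apply Subtype.ext
  simp [up, lev, f, fromBlocks_multiply, Matrix.mul_add, Matrix.mul_sub, ← Matrix.mul_assoc]

theorem low_absorb [Finite F] {Z : GL (Fin 2) F} {s d : F} (hg : Good s d) (hZ : HasPoly (Z : M2) s d)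
    (T : {W : M2 // Wᵀ = W}) : IsConj (lev Z) (low T * lev Z) := by
  let f : {W : M2 // Wᵀ = W} → {W : M2 // Wᵀ = W} := fun W =>
    ⟨W.1 - ((Z⁻¹ : GL (Fin 2) F) : M2)ᵀ * W.1 * ((Z⁻¹ : GL (Fin 2) F) : M2), by
      simp [Matrix.transpose_sub, Matrix.transpose_mul, W.2, Matrix.mul_assoc]⟩
  have hinj : Function.Injective f := by
    intro W W' h
    have h' := congrArg Subtype.val h
    simp only [f] at h'
    apply Subtype.ext
    rw [← sub_eq_zero]
    refine fixed_zero (Z := (Z : M2)ᵀ) hg ⟨by rw [trace_transpose]; exact hZ.1, by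
      rw [det_transpose]; exact hZ.2⟩ ?_
    rw [Matrix.transpose_transpose]
    have h2 : ((Z⁻¹ : GL (Fin 2) F) : M2)ᵀ * (W.1 - W'.1) * ((Z⁻¹ : GL (Fin 2) F) : M2) =
        W.1 - W'.1 := by
      rw [Matrix.mul_sub, Matrix.sub_mul]
      exact (sub_eq_sub_iff_sub_eq_sub.1 h').symm
    conv_lhs => rw [← h2]
    simp only [Matrix.mul_assoc, Units.inv_mul]
    simp [← Matrix.mul_assoc, ← Matrix.transpose_mul]
  obtain ⟨W, hW⟩ := (Finite.injective_iff_surjective.1 hinj) T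
  refine isConj_iff.2 ⟨low W, ?_⟩
  rw [mul_inv_eq_iff_eq_mul, ← hW]
  apply Subtype.ext
  simp [low, lev, f, fromBlocks_multiply, Matrix.add_mul, Matrix.sub_mul, Matrix.mul_assoc]

/-- noncentral 2×2 matrices are similar to companion matrices -/
theorem simil {A : M2} (h : ¬ ∃ a : F, A = a • (1 : M2)) :
    ∃ P : GL (Fin 2) F, A * (P : M2) = (P : M2) * !![0, -A.det; 1, A.trace] := by
  have hv : ∃ u w : F, u * (A 1 0 * u + A 1 1 * w) - (A 0 0 * u + A 0 1 * w) * w ≠ 0 := by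
    by_contra hc
    push Not at hc
    have h1 := hc 1 0
    have h2 := hc 0 1
    have h3 := hc 1 1
    simp at h1 h2 h3
    refine h ⟨A 0 0, ?_⟩
    ext i j
    fin_cases i <;> fin_cases j <;> simp [h1, h2]
    rw [h1, h2] at h3
    linear_combination h3
  obtain ⟨u, w, hw⟩ := hv
  let P : M2 := !![u, A 0 0 * u + A 0 1 * w; w, A 1 0 * u + A 1 1 * w]
  have hP : P.det ≠ 0 := by
    simpa [P, det_fin_two] using hw
  refine ⟨GeneralLinearGroup.mkOfDetNeZero P hP, ?_⟩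
  show A * P = P * _
  ext i j
  fin_cases i <;> fin_cases j <;>
    simp [P, Matrix.mul_apply, Fin.sum_univ_two, trace_fin_two, det_fin_two] <;> ring

theorem not_scalar {A : M2} {s d : F} (hg : Good s d) (hA : HasPoly A s d) :
    ¬ ∃ a : F, A = a • (1 : M2) := by
  rintro ⟨a, rfl⟩
  apply hg.2.2.2 a
  rw [← hA.1, ← hA.2]
  simp [trace_fin_two, det_fin_two]
  ring

theorem conj_of_poly {A B : GL (Fin 2) F} {s d : F} (hg : Good s d) (hA : HasPoly (A : M2) s d)
    (hB : HasPoly (B : M2) s d) : IsConj A B := by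
  obtain ⟨P, hP⟩ := simil (not_scalar hg hA)
  obtain ⟨Q, hQ⟩ := simil (not_scalar hg hB)
  rw [hA.1, hA.2] at hP
  rw [hB.1, hB.2] at hQ
  refine isConj_iff.2 ⟨Q * P⁻¹, ?_⟩
  rw [mul_inv_eq_iff_eq_mul]
  apply Units.ext
  have h2 : ((P⁻¹ : GL (Fin 2) F) : M2) * (A : M2) = !![0, -d; 1, s] * ((P⁻¹ : GL (Fin 2) F) : M2) := by
    calc ((P⁻¹ : GL (Fin 2) F) : M2) * (A : M2)
        = ((P⁻¹ : GL (Fin 2) F) : M2) * ((A : M2) * (P : M2)) * ((P⁻¹ : GL (Fin 2) F) : M2) := by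
          simp [Matrix.mul_assoc]
      _ = _ := by simp [hP, ← Matrix.mul_assoc]
  simp only [Units.val_mul]
  rw [Matrix.mul_assoc, h2, ← Matrix.mul_assoc, ← hQ, Matrix.mul_assoc]

theorem lev_conj {A B : GL (Fin 2) F} (h : IsConj A B) : IsConj (lev A) (lev B) := by
  obtain ⟨c, rfl⟩ := isConj_iff.1 h
  exact isConj_iff.2 ⟨lev c, by rw [mul_inv_eq_iff_eq_mul, ← lev_mul, ← lev_mul]; congr 1; group⟩

theorem HasPoly.inv {A : GL (Fin 2) F} {s d : F} (h : HasPoly (A : M2) s d) :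
    HasPoly ((A⁻¹ : GL (Fin 2) F) : M2) (s / d) (1 / d) := by
  obtain ⟨rfl, rfl⟩ := h
  refine ⟨?_, ?_⟩
  · rw [Matrix.coe_units_inv, Matrix.inv_def, Ring.inverse_eq_inv', trace_smul, adjugate_fin_two,
      trace_fin_two, trace_fin_two]
    simp
    ring
  · rw [Matrix.coe_units_inv, det_nonsing_inv, Ring.inverse_eq_inv', one_div]

theorem exists_factor [Finite F] {s d : F} (hg : Good s d) {A : M2}
    (hA : A = 1 ∨ (A.det = 1 ∧ A.trace ≠ 2 ∧ ¬ ∃ a : F, A = a • (1 : M2))) :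
    ∃ X : M2, HasPoly X s d ∧ HasPoly (A * X) s d := by
  obtain ⟨hs, -, hd0, hr⟩ := hg
  rcases hA with rfl | ⟨hdet, htr, hns⟩
  · refine ⟨!![0, -d; 1, s], ?_, ?_⟩ <;> constructor <;> simp [trace_fin_two, det_fin_two]
  obtain ⟨P, hP⟩ := simil hns
  rw [hdet] at hP
  obtain ⟨t, ht⟩ : ∃ t, t = A.trace := ⟨_, rfl⟩
  rw [← ht] at hP htr
  suffices h : ∃ x c : F, x ^ 2 + t * x * c + c ^ 2 - s * x + s * c - t * s * c + d = 0 by
    obtain ⟨x, c, hxc⟩ := h
    let Y : M2 := !![x, s + c - t * (s - x); c, s - x]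
    refine ⟨(P : M2) * Y * ((P⁻¹ : GL (Fin 2) F) : M2), ?_, ?_⟩
    · refine ⟨?_, ?_⟩
      · rw [trace_mul_cycle]; simp [Y, trace_fin_two]
      · rw [det_units_conj]; simp [Y, det_fin_two]; linear_combination -hxc
    · rw [← Matrix.mul_assoc, ← Matrix.mul_assoc, hP]
      refine ⟨?_, ?_⟩
      · rw [Matrix.mul_assoc (P : M2) _ Y, trace_mul_cycle]
        simp [Y, trace_fin_two, Matrix.mul_apply, Fin.sum_univ_two]
      · rw [Matrix.mul_assoc (P : M2) _ Y, det_units_conj, det_mul]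
        simp [Y, det_fin_two]
        linear_combination -hxc
  have := Fintype.ofFinite F
  by_cases h2 : (2 : F) = 0
  · have : CharP F 2 := CharTwo.of_one_ne_zero_of_two_eq_zero one_ne_zero h2
    have ht0 : t ≠ 0 := fun h => htr (by rw [h, h2])
    obtain ⟨c, hc⟩ : ∃ c, c = s / t := ⟨_, rfl⟩
    obtain ⟨x, hx⟩ := FiniteField.isSquare_of_char_two (ringChar.eq F 2) (c ^ 2 + s * c - t * s * c + d)
    refine ⟨x, c, ?_⟩
    have htc : t * c = s := by rw [hc]; field_simp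
    linear_combination hx + x * htc + x ^ 2 * h2
  · by_cases ht2 : t = -2
    · refine ⟨-d / (2 * s), -d / (2 * s), ?_⟩
      subst ht2
      field_simp
      ring
    · let f : Polynomial F := Polynomial.X ^ 2
      let α : F := 1 - t ^ 2 / 4
      let g : Polynomial F := Polynomial.C α * Polynomial.X ^ 2 +
        Polynomial.C (s - t * s + t * s / 2) * Polynomial.X + Polynomial.C (d - s ^ 2 / 4)
      have h4 : (4 : F) ≠ 0 := by
        rw [show (4 : F) = 2 * 2 by norm_num]; exact mul_ne_zero h2 h2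
      have hα : α ≠ 0 := by
        intro h
        simp only [α] at h
        field_simp at h
        rcases mul_eq_zero.1 (show (t - 2) * (t + 2) = 0 by linear_combination -h) with e | e
        · exact htr (sub_eq_zero.1 e)
        · exact ht2 (eq_neg_of_add_eq_zero_left e)
      have hodd : Fintype.card F % 2 = 1 :=
        FiniteField.odd_card_of_char_ne_two fun h => h2 (by
          have : CharP F 2 := h ▸ ringChar.charP F
          exact CharTwo.two_eq_zero)
      obtain ⟨y, c, hyc⟩ := FiniteField.exists_root_sum_quadratic (f := f) (g := g)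
        (Polynomial.degree_X_pow 2) (Polynomial.degree_quadratic hα) hodd
      refine ⟨y - (t * c - s) / 2, c, ?_⟩
      simp [f, g, α] at hyc
      field_simp at hyc ⊢
      apply mul_left_cancel₀ h2
      linear_combination hyc

theorem blocks_of_mem {a b c d : M2} (h : fromBlocks a b c d ∈ Matrix.symplecticGroup (Fin 2) F) :
    a * bᵀ = b * aᵀ ∧ aᵀ * c = cᵀ * a := by
  have h1 := SymplecticGroup.mem_iff.1 h
  have h2 := SymplecticGroup.mem_iff.1 (SymplecticGroup.transpose_mem h)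
  simp only [Matrix.J, fromBlocks_transpose, fromBlocks_multiply, Matrix.mul_zero, Matrix.mul_one,
    Matrix.mul_neg, add_zero, zero_add, Matrix.neg_mul, fromBlocks_inj,
    Matrix.transpose_transpose] at h1 h2
  exact ⟨(add_neg_eq_zero.1 h1.1).symm, (add_neg_eq_zero.1 h2.1).symm⟩

/-- the acceptable top-left blocks -/
def Ok (A : M2) : Prop :=
  A = 1 ∨ A = -1 ∨ (A.det = 1 ∧ A.trace ≠ 2 ∧ ¬ ∃ a : F, A = a • (1 : M2))

theorem ok_of {A : M2} (h1 : A.det = 1) (h2 : A.trace ≠ 2) : Ok A := by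
  by_cases h : ∃ a : F, A = a • (1 : M2)
  · obtain ⟨a, rfl⟩ := h
    simp [det_fin_two] at h1
    rcases h1 with rfl | rfl
    · exact Or.inl (one_smul _ _)
    · exact Or.inr (Or.inl (by simp))
  · exact Or.inr (Or.inr ⟨h1, h2, h⟩)

theorem trace_ne_two {r : F} (hr : r ≠ 0) (hr1 : r ≠ 1) : r + r⁻¹ ≠ 2 := by
  intro h
  field_simp at h
  have : (r - 1) ^ 2 = 0 := by linear_combination h
  exact hr1 (sub_eq_zero.1 (pow_eq_zero_iff (two_ne_zero) |>.1 this))

theorem exists_sym (γ δ u v : F) (h : γ ≠ 0 ∨ δ ≠ 0) :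
    ∃ x y z : F, x * γ + y * δ = u ∧ y * γ + z * δ = v := by
  by_cases hγ : γ = 0
  · have hδ := h.resolve_left (not_not.2 hγ)
    exact ⟨0, u / δ, v / δ, by field_simp; ring, by rw [hγ]; field_simp; ring⟩
  · exact ⟨(u - v / γ * δ) / γ, v / γ, 0, by field_simp; ring, by field_simp; ring⟩

theorem kill_singular (a c : M2) (h0 : c 0 1 = 0) (h1 : c 1 1 = 0)
    (hc : c 0 0 ≠ 0 ∨ c 1 0 ≠ 0) (hcol : a 0 1 ≠ 0 ∨ a 1 1 ≠ 0) :
    ∃ S : {W : M2 // Wᵀ = W}, Ok (a + S.1 * c) := by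
  suffices h : ∃ r l : F, Ok !![r, a 0 1; l, a 1 1] by
    obtain ⟨r, l, hrl⟩ := h
    obtain ⟨x, y, z, e1, e2⟩ := exists_sym (c 0 0) (c 1 0) (r - a 0 0) (l - a 1 0) hc
    refine ⟨⟨!![x, y; y, z], by ext i j; fin_cases i <;> fin_cases j <;> simp⟩, ?_⟩
    convert hrl using 1
    ext i j
    fin_cases i <;> fin_cases j <;> simp [Matrix.mul_apply, Matrix.vecMul, dotProduct, Fin.sum_univ_two, h0, h1, e1, e2]
  by_cases ha : a 0 1 = 0
  · have hb := hcol.resolve_left (not_not.2 ha)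
    by_cases hb1 : a 1 1 = 1
    · exact ⟨1, 0, Or.inl (by ext i j; fin_cases i <;> fin_cases j <;> simp [ha, hb1])⟩
    · refine ⟨(a 1 1)⁻¹, 0, ok_of ?_ ?_⟩
      · simp [det_fin_two, ha, hb]
      · simp [trace_fin_two]
        rw [add_comm]
        exact trace_ne_two hb hb1
  · refine ⟨1 - a 1 1, ((1 - a 1 1) * a 1 1 - 1) / a 0 1, ok_of ?_ ?_⟩
    · simp [det_fin_two]
      field_simp
      ring
    · simp [trace_fin_two]
      intro h
      exact one_ne_zero (show (1 : F) = 0 by linear_combination -h)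

theorem kill_regular [Fintype F] (h3 : 3 ≤ Fintype.card F) (a c : M2) (hc : c.det ≠ 0) :
    ∃ S : {W : M2 // Wᵀ = W}, Ok (a + S.1 * c) := by
  suffices h : ∃ A : M2, Ok A ∧ -c 0 1 * A 0 0 + c 0 0 * A 0 1 - c 1 1 * A 1 0 + c 1 0 * A 1 1 =
      -c 0 1 * a 0 0 + c 0 0 * a 0 1 - c 1 1 * a 1 0 + c 1 0 * a 1 1 by
    obtain ⟨A, hA, hl⟩ := h
    refine ⟨⟨(A - a) * c⁻¹, ?_⟩, ?_⟩
    · rw [Matrix.inv_def, Ring.inverse_eq_inv', adjugate_fin_two]
      ext i j
      fin_cases i <;> fin_cases j <;> simp [Matrix.mul_apply, Fin.sum_univ_two]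
      · linear_combination (-(c.det)⁻¹) * hl
      · linear_combination (c.det)⁻¹ * hl
    · convert hA using 1
      simp [Matrix.mul_assoc, Matrix.nonsing_inv_mul _ (isUnit_iff_ne_zero.2 hc)]
  obtain ⟨k, hk⟩ : ∃ k, k = -c 0 1 * a 0 0 + c 0 0 * a 0 1 - c 1 1 * a 1 0 + c 1 0 * a 1 1 := ⟨_, rfl⟩
  rw [← hk]
  have hr : ∃ r : F, r ≠ 0 ∧ r ≠ 1 := by
    classical
    by_contra hcon
    push Not at hcon
    have hsub : (Finset.univ : Finset F) ⊆ {0, 1} := fun r _ => by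
      by_cases h : r = 0
      · simp [h]
      · simp [hcon r h]
    have := (Finset.card_le_card hsub).trans Finset.card_le_two
    rw [Finset.card_univ] at this
    omega
  obtain ⟨r, hr0, hr1⟩ := hr
  by_cases h00 : c 0 0 = 0
  · by_cases h11 : c 1 1 = 0
    · have hdet : c 0 1 * c 1 0 ≠ 0 := by simpa [det_fin_two, h00, h11] using hc
      have h10 : c 1 0 ≠ 0 := right_ne_zero_of_mul hdet
      have h01 : c 0 1 ≠ 0 := left_ne_zero_of_mul hdet
      by_cases hbad : c 1 0 = -c 0 1 ∧ k = 2 * c 1 0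
      · refine ⟨1, Or.inl rfl, ?_⟩
        simp [h00, h11]
        linear_combination (-hbad.1 - hbad.2 + hbad.1 * 0) + 2 * hbad.1 * 0
      · obtain ⟨x, hx⟩ : ∃ x : F, x + (k + c 0 1 * x) / c 1 0 ≠ 2 := by
          by_contra hcon
          push Not at hcon
          have e0 := hcon 0
          have e1 := hcon 1
          field_simp at e0 e1
          refine hbad ⟨by linear_combination e1 - e0, by linear_combination e0⟩
        refine ⟨!![x, 1; x * ((k + c 0 1 * x) / c 1 0) - 1, (k + c 0 1 * x) / c 1 0], ok_of ?_ ?_, ?_⟩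
        · simp [det_fin_two]
        · simpa [trace_fin_two] using hx
        · simp [h00, h11]
          field_simp
          ring
    · refine ⟨!![r, 0; (-c 0 1 * r + c 1 0 / r - k) / c 1 1, r⁻¹], ok_of ?_ ?_, ?_⟩
      · simp [det_fin_two, hr0]
      · simpa [trace_fin_two] using trace_ne_two hr0 hr1
      · simp [h00]
        field_simp
        ring
  · refine ⟨!![r, (k + c 0 1 * r - c 1 0 / r) / c 0 0; 0, r⁻¹], ok_of ?_ ?_, ?_⟩
    · simp [det_fin_two, hr0]
    · simpa [trace_fin_two] using trace_ne_two hr0 hr1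
    · simp
      field_simp
      ring

theorem central_of_scalar {g : (Sp4 F)} {a : F} (h : g.1 = a • (1 : Matrix (Fin 2 ⊕ Fin 2) (Fin 2 ⊕ Fin 2) F)) :
    g ∈ Subgroup.center (Sp4 F) := by
  rw [Subgroup.mem_center_iff]
  intro x
  apply Subtype.ext
  simp [h]

/-- a conjugate with nonzero lower-left block -/
theorem exists_low_ne {g : (Sp4 F)} (hg : g ∉ Subgroup.center (Sp4 F)) :
    ∃ g' : (Sp4 F), IsConj g g' ∧ g'.1.toBlocks₂₁ ≠ 0 := by
  obtain ⟨a, ha⟩ : ∃ a, a = g.1.toBlocks₁₁ := ⟨_, rfl⟩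
  obtain ⟨b, hb⟩ : ∃ b, b = g.1.toBlocks₁₂ := ⟨_, rfl⟩
  obtain ⟨c, hc⟩ : ∃ c, c = g.1.toBlocks₂₁ := ⟨_, rfl⟩
  obtain ⟨d, hd⟩ : ∃ d, d = g.1.toBlocks₂₂ := ⟨_, rfl⟩
  have hg1 : g.1 = fromBlocks a b c d := by rw [ha, hb, hc, hd, fromBlocks_toBlocks]
  by_cases hc0 : c = 0
  swap
  · exact ⟨g, IsConj.refl g, hc ▸ hc0⟩
  by_cases hb0 : b = 0
  swap
  · let w : (Sp4 F) := ⟨fromBlocks 0 (-1) 1 0, mem_of_blocks (by simp) (by simp) (by simp)⟩
    refine ⟨w * g * w⁻¹, isConj_iff.2 ⟨w, rfl⟩, ?_⟩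
    have hw : ((w⁻¹ : (Sp4 F)) : Matrix (Fin 2 ⊕ Fin 2) (Fin 2 ⊕ Fin 2) F) = fromBlocks 0 1 (-1) 0 := by
      have h : w⁻¹ = ⟨fromBlocks 0 1 (-1) 0, mem_of_blocks (by simp) (by simp) (by simp)⟩ := by
        rw [inv_eq_iff_mul_eq_one]
        apply Subtype.ext
        simp [w, fromBlocks_multiply]
      rw [h]
    simp [hw, w, hg1, fromBlocks_multiply, hb0]
  subst hb0 hc0
  obtain ⟨T, hT⟩ : ∃ T : {W : M2 // Wᵀ = W}, T.1 * a ≠ d * T.1 := by
    by_contra hcon
    push Not at hcon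
    have h1 := hcon ⟨1, by simp⟩
    simp at h1
    subst h1
    have h2 := hcon ⟨!![1, 0; 0, 0], by ext i j; fin_cases i <;> fin_cases j <;> simp⟩
    have h4 := hcon ⟨!![0, 1; 1, 0], by ext i j; fin_cases i <;> fin_cases j <;> simp⟩
    have e1 := congrFun (congrFun h2 0) 1
    have e2 := congrFun (congrFun h2 1) 0
    have e3 := congrFun (congrFun h4 0) 1
    simp [Matrix.mul_apply, Fin.sum_univ_two] at e1 e2 e3
    refine hg (central_of_scalar (a := a 0 0) ?_)
    rw [hg1, ← fromBlocks_one, fromBlocks_smul, smul_zero, fromBlocks_inj]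
    refine ⟨?_, rfl, rfl, ?_⟩ <;>
    · ext i j
      fin_cases i <;> fin_cases j <;> simp [e1, ← e2, e3]
  refine ⟨low T * g * (low T)⁻¹, isConj_iff.2 ⟨low T, rfl⟩, ?_⟩
  have hi : (low T)⁻¹ = low ⟨-T.1, by simp [T.2]⟩ := by
    rw [inv_eq_iff_mul_eq_one]
    apply Subtype.ext
    simp [low, fromBlocks_multiply]
  rw [hi]
  simp [low, hg1, fromBlocks_multiply]
  exact fun h => hT (eq_of_sub_eq_zero (by rw [← h]; abel))

theorem exists_ok [Fintype F] (h3 : 3 ≤ Fintype.card F) {g : (Sp4 F)} (hg : g ∉ Subgroup.center (Sp4 F)) :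
    ∃ g' : (Sp4 F), IsConj g g' ∧ Ok g'.1.toBlocks₁₁ := by
  have upc : ∀ (h : (Sp4 F)) (S : {W : M2 // Wᵀ = W}),
      ((up S * h * (up S)⁻¹ : (Sp4 F)) : Matrix (Fin 2 ⊕ Fin 2) (Fin 2 ⊕ Fin 2) F).toBlocks₁₁ =
        h.1.toBlocks₁₁ + S.1 * h.1.toBlocks₂₁ := by
    intro h S
    have hi : (up S)⁻¹ = up ⟨-S.1, by simp [S.2]⟩ := by
      rw [inv_eq_iff_mul_eq_one]
      apply Subtype.ext
      simp [up, fromBlocks_multiply]
    rw [hi, Submonoid.coe_mul, Submonoid.coe_mul, ← fromBlocks_toBlocks h.1]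
    simp [up, fromBlocks_multiply]
  obtain ⟨g1, hc1, hne⟩ := exists_low_ne hg
  by_cases hdet : g1.1.toBlocks₂₁.det = 0
  · obtain ⟨v, hv0, hv⟩ := Matrix.exists_mulVec_eq_zero_iff.2 hdet
    have hQ : ∃ Q : GL (Fin 2) F, (Q : M2) 0 1 = v 0 ∧ (Q : M2) 1 1 = v 1 := by
      by_cases h1 : v 1 = 0
      · have h0 : v 0 ≠ 0 := fun h0 => hv0 (by ext i; fin_cases i <;> assumption)
        exact ⟨GeneralLinearGroup.mkOfDetNeZero !![0, v 0; 1, v 1] (by simp [det_fin_two, h0]), rfl, rfl⟩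
      · exact ⟨GeneralLinearGroup.mkOfDetNeZero !![1, v 0; 0, v 1] (by simp [det_fin_two, h1]), rfl, rfl⟩
    obtain ⟨Q, hQ0, hQ1⟩ := hQ
    obtain ⟨g2, hg2⟩ : ∃ g2, g2 = lev Q⁻¹ * g1 * (lev Q⁻¹)⁻¹ := ⟨_, rfl⟩
    have hi : (lev Q⁻¹)⁻¹ = lev Q := by
      rw [inv_eq_iff_mul_eq_one, ← lev_mul, inv_mul_cancel, lev_one]
    have hc2 : g2.1.toBlocks₂₁ = (Q : M2)ᵀ * g1.1.toBlocks₂₁ * (Q : M2) := by
      rw [hg2, hi, Submonoid.coe_mul, Submonoid.coe_mul, ← fromBlocks_toBlocks g1.1]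
      simp [lev, fromBlocks_multiply]
    obtain ⟨c, hcdef⟩ : ∃ c, c = g1.1.toBlocks₂₁ := ⟨_, rfl⟩
    rw [← hcdef] at hc2 hv hne
    have hcv : c * (Q : M2) = !![(c * (Q : M2)) 0 0, 0; (c * (Q : M2)) 1 0, 0] := by
      have e0 := congrFun hv 0
      have e1 := congrFun hv 1
      simp [Matrix.mulVec, dotProduct, Fin.sum_univ_two] at e0 e1
      ext i j
      fin_cases i <;> fin_cases j <;>
        simp [Matrix.mul_apply, Fin.sum_univ_two, hQ0, hQ1, e0, e1]
    rw [Matrix.mul_assoc] at hc2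
    have h01 : g2.1.toBlocks₂₁ 0 1 = 0 := by
      rw [hc2, hcv]; simp [Matrix.mul_apply, Fin.sum_univ_two]
    have h11 : g2.1.toBlocks₂₁ 1 1 = 0 := by
      rw [hc2, hcv]; simp [Matrix.mul_apply, Fin.sum_univ_two]
    have hne2 : g2.1.toBlocks₂₁ ≠ 0 := by
      intro h
      rw [hc2] at h
      have := congrArg (fun M => ((Q⁻¹ : GL (Fin 2) F) : M2)ᵀ * M * ((Q⁻¹ : GL (Fin 2) F) : M2)) h
      simp only [Matrix.mul_zero, Matrix.zero_mul] at this
      apply hne
      rw [← this]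
      simp only [Matrix.mul_assoc]
      rw [Units.mul_inv, Matrix.mul_one, ← Matrix.mul_assoc, ← Matrix.transpose_mul, Units.mul_inv,
        Matrix.transpose_one, Matrix.one_mul]
    have hcol : g2.1.toBlocks₁₁ 0 1 ≠ 0 ∨ g2.1.toBlocks₁₁ 1 1 ≠ 0 := by
      by_contra hcon
      push Not at hcon
      have hz : ∀ i, g2.1 i (Sum.inl 1) = 0 := by
        rintro (i | i) <;> fin_cases i
        · exact hcon.1
        · exact hcon.2
        · exact h01
        · exact h11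
      have h1 : ((g2⁻¹ * g2 : (Sp4 F)) : Matrix (Fin 2 ⊕ Fin 2) (Fin 2 ⊕ Fin 2) F) (Sum.inl 1) (Sum.inl 1) = 1 := by
        simp
      rw [Submonoid.coe_mul, Matrix.mul_apply] at h1
      simp [hz] at h1
    obtain ⟨S, hS⟩ := kill_singular _ _ h01 h11 (by
      by_contra hcon
      push Not at hcon
      exact hne2 (by ext i j; fin_cases i <;> fin_cases j <;> simp [hcon, h01, h11])) hcol
    exact ⟨up S * g2 * (up S)⁻¹, hc1.trans ((isConj_iff.2 ⟨lev Q⁻¹, hg2.symm⟩).trans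
      (isConj_iff.2 ⟨up S, rfl⟩)), by rwa [upc]⟩
  · obtain ⟨S, hS⟩ := kill_regular h3 g1.1.toBlocks₁₁ _ hdet
    exact ⟨up S * g1 * (up S)⁻¹, hc1.trans (isConj_iff.2 ⟨up S, rfl⟩), by rwa [upc]⟩

/-- decomposition along the two radicals -/
theorem decomp (g : (Sp4 F)) (A : GL (Fin 2) F) (hA : (A : M2) = g.1.toBlocks₁₁) :
    ∃ S T, g = low T * lev A * up S := by
  obtain ⟨b, hb⟩ : ∃ b, b = g.1.toBlocks₁₂ := ⟨_, rfl⟩
  obtain ⟨c, hc⟩ : ∃ c, c = g.1.toBlocks₂₁ := ⟨_, rfl⟩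
  obtain ⟨d, hd⟩ : ∃ d, d = g.1.toBlocks₂₂ := ⟨_, rfl⟩
  have hg1 : g.1 = fromBlocks (A : M2) b c d := by rw [hA, hb, hc, hd, fromBlocks_toBlocks]
  have hmem := g.2
  rw [hg1] at hmem
  obtain ⟨e1, e2⟩ := blocks_of_mem hmem
  obtain ⟨Ai, hAi⟩ : ∃ Ai : M2, Ai = ((A⁻¹ : GL (Fin 2) F) : M2) := ⟨_, rfl⟩
  have hA1 : (A : M2) * Ai = 1 := by simp [hAi]
  have hA2 : Ai * (A : M2) = 1 := by simp [hAi]
  have hAT1 : (A : M2)ᵀ * Aiᵀ = 1 := by rw [← Matrix.transpose_mul, hA2, Matrix.transpose_one]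
  have hAT2 : Aiᵀ * (A : M2)ᵀ = 1 := by rw [← Matrix.transpose_mul, hA1, Matrix.transpose_one]
  have hS : (Ai * b)ᵀ = Ai * b := by
    calc (Ai * b)ᵀ = Ai * ((A : M2) * bᵀ) * Aiᵀ := by
          rw [Matrix.transpose_mul, ← Matrix.mul_assoc Ai, hA2, Matrix.one_mul]
      _ = _ := by rw [e1]; simp [Matrix.mul_assoc, hAT1]
  have hT : (c * Ai)ᵀ = c * Ai := by
    calc (c * Ai)ᵀ = Aiᵀ * (cᵀ * (A : M2)) * Ai := by
          rw [Matrix.transpose_mul, Matrix.mul_assoc, Matrix.mul_assoc, hA1, Matrix.mul_one]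
      _ = _ := by rw [← e2]; simp [← Matrix.mul_assoc, hAT2]
  let S : {W : M2 // Wᵀ = W} := ⟨Ai * b, hS⟩
  let T : {W : M2 // Wᵀ = W} := ⟨c * Ai, hT⟩
  refine ⟨S, T, ?_⟩
  let r : (Sp4 F) := low ⟨-T.1, by simp [hT, T]⟩ * g * up ⟨-S.1, by simp [hS, S]⟩
  have hr : r.1 = fromBlocks (A : M2) 0 0 (d - c * Ai * b) := by
    simp only [r, Submonoid.coe_mul, hg1, low, up, S, T, fromBlocks_multiply, fromBlocks_inj]
    refine ⟨by simp, ?_, ?_, ?_⟩
    · simp [← Matrix.mul_assoc, hA1]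
    · simp [Matrix.mul_assoc, hA2]
    · simp [Matrix.neg_mul, Matrix.mul_assoc, hA2, sub_eq_add_neg]
      simp [← Matrix.mul_assoc, Matrix.add_mul, hA1]
      simp [Matrix.mul_assoc, hA2]
      abel
  have hr2 := r.2
  rw [hr] at hr2
  have h1 := SymplecticGroup.mem_iff.1 hr2
  simp only [Matrix.J, fromBlocks_transpose, fromBlocks_multiply, Matrix.mul_zero, Matrix.mul_one,
    Matrix.mul_neg, add_zero, zero_add, Matrix.neg_mul, fromBlocks_inj, Matrix.zero_mul,
    Matrix.transpose_zero] at h1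
  have hd' : d - c * Ai * b = Aiᵀ := by
    calc d - c * Ai * b = (d - c * Ai * b) * ((A : M2)ᵀ * Aiᵀ) := by rw [hAT1, Matrix.mul_one]
      _ = _ := by rw [← Matrix.mul_assoc, h1.2.2.1, Matrix.one_mul]
  have hlev : lev A = r := Subtype.ext (by rw [hr, hd', hAi]; rfl)
  rw [hlev]
  simp only [r]
  have e3 : low T * low ⟨-T.1, by simp [hT, T]⟩ = 1 := by
    apply Subtype.ext; simp [low, fromBlocks_multiply]
  have e4 : up ⟨-S.1, by simp [hS, S]⟩ * up S = 1 := by
    apply Subtype.ext; simp [up, fromBlocks_multiply]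
  symm
  calc low T * (low ⟨-T.1, by simp [hT, T]⟩ * g * up ⟨-S.1, by simp [hS, S]⟩) * up S
      = (low T * low ⟨-T.1, by simp [hT, T]⟩) * g * (up ⟨-S.1, by simp [hS, S]⟩ * up S) := by
        simp only [mul_assoc]
    _ = g := by rw [e3, e4, one_mul, mul_one]

theorem exists_good [Fintype F] (h3 : 3 ≤ Fintype.card F) : ∃ s d : F, Good s d := by
  classical
  suffices h : ∃ d : F, d ≠ 1 ∧ ∀ x : F, x ^ 2 - 1 * x + d ≠ 0 from
    let ⟨d, hd1, hr⟩ := h
    ⟨1, d, one_ne_zero, hd1, fun h0 => hr 0 (by simp [h0]), hr⟩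
  by_cases h2 : (2 : F) = 0
  · have : CharP F 2 := CharTwo.of_one_ne_zero_of_two_eq_zero one_ne_zero h2
    let f : F → F := fun x => x - x ^ 2
    have hle : 2 * (Finset.univ.image f).card ≤ Fintype.card F := by
      rw [← Finset.card_univ]
      refine Finset.mul_card_image_le_card (f := f) _ 2 fun b hb => ?_
      obtain ⟨x, -, rfl⟩ := Finset.mem_image.1 hb
      have hsub : ({x, x + 1} : Finset F) ⊆ Finset.univ.filter fun y => f y = f x := by
        intro y hy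
        simp only [Finset.mem_insert, Finset.mem_singleton] at hy
        simp only [Finset.mem_filter, Finset.mem_univ, true_and, f]
        rcases hy with rfl | rfl
        · rfl
        · linear_combination (-x) * h2
      refine le_trans ?_ (Finset.card_le_card hsub)
      rw [Finset.card_pair (by simp)]
    by_contra hcon
    push Not at hcon
    have hsub : (Finset.univ : Finset F) ⊆ insert 1 (Finset.univ.image f) := by
      intro d _
      by_cases hd : d = 1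
      · simp [hd]
      · obtain ⟨x, hx⟩ := hcon d hd
        exact Finset.mem_insert_of_mem (Finset.mem_image.2 ⟨x, Finset.mem_univ _, by
          simp only [f]; linear_combination -hx⟩)
    have := (Finset.card_le_card hsub).trans (Finset.card_insert_le _ _)
    rw [Finset.card_univ] at this
    omega
  · obtain ⟨e, he⟩ := FiniteField.exists_nonsquare (F := F) (fun h => h2 (by
      have : CharP F 2 := h ▸ ringChar.charP F
      exact CharTwo.two_eq_zero))
    have h4 : (4 : F) ≠ 0 := by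
      rw [show (4 : F) = 2 * 2 by norm_num]; exact mul_ne_zero h2 h2
    have key : ∀ e : F, ¬ IsSquare e → e ≠ -3 →
        ∃ d : F, d ≠ 1 ∧ ∀ x : F, x ^ 2 - 1 * x + d ≠ 0 := by
      intro e he hne
      refine ⟨(1 - e) / 4, fun h => hne ?_, fun x hx => he ⟨2 * x - 1, ?_⟩⟩
      · rw [div_eq_one_iff_eq h4] at h
        linear_combination -h
      · field_simp at hx
        linear_combination -hx
    by_cases hne : e = -3
    · refine key (4 * e) (fun ⟨w, hw⟩ => he ⟨w / 2, ?_⟩) fun h => ?_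
      · field_simp
        linear_combination hw
      · have h33 : (3 : F) * 3 = 0 := by rw [hne] at h; linear_combination -h
        have h30 := mul_self_eq_zero.1 h33
        exact he ⟨0, by rw [hne, h30]; simp⟩
    · exact key e he hne

theorem not_dvd_order [Fintype F] {p : ℕ} [Fact p.Prime] [CharP F p] {s d : F} (hg : Good s d)
    {B : GL (Fin 2) F} (hB : HasPoly (B : M2) s d) : ¬ p ∣ orderOf B := by
  intro hp
  have hspan : ∀ k : ℕ, ∃ a b : F, (B : M2) ^ k = a • (1 : M2) + b • (B : M2) := by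
    intro k
    induction k with
    | zero => exact ⟨1, 0, by simp⟩
    | succ k ih =>
      obtain ⟨a, b, h⟩ := ih
      refine ⟨-(b * d), a + b * s, ?_⟩
      have hBB : (B : M2) * (B : M2) = s • (B : M2) - d • (1 : M2) :=
        eq_sub_of_add_eq (sub_eq_zero.1 (by rw [← cayley hB]; abel))
      rw [pow_succ, h, Matrix.add_mul, Matrix.smul_mul, Matrix.smul_mul, Matrix.one_mul, hBB]
      module
  obtain ⟨k, hk⟩ := hp
  have hp' : p.Prime := Fact.out
  have hk0 : 0 < k := Nat.pos_of_ne_zero fun h => by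
    rw [h, mul_zero] at hk; exact (orderOf_pos B).ne' hk
  have hkl : k < orderOf B := by
    rw [hk]; exact lt_mul_of_one_lt_left hk0 hp'.one_lt
  obtain ⟨u, hu⟩ : ∃ u, u = (B : M2) ^ k := ⟨_, rfl⟩
  have hu1 : u ≠ 1 := fun h => pow_ne_one_of_lt_orderOf hk0.ne' hkl (Units.ext (by simpa [hu] using h))
  have hup : u ^ p = 1 := by
    rw [hu, ← pow_mul, mul_comm, ← hk, ← Units.val_pow_eq_pow_val, pow_orderOf_eq_one, Units.val_one]
  have hnil : (u - 1) ^ p = 0 := by
    rw [sub_pow_char_of_commute p (Commute.one_right u), hup, one_pow, sub_self]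
  have hdet : (u - 1).det = 0 := by
    have := congrArg Matrix.det hnil
    rw [det_pow] at this
    simp at this
    exact this.1
  obtain ⟨a, b, hab⟩ := hspan k
  rw [← hu] at hab
  by_cases hb : b = 0
  · subst hb
    simp only [zero_smul, add_zero] at hab
    rw [hab] at hdet hu1
    simp [det_fin_two, sub_eq_zero] at hdet
    exact hu1 (by rw [hdet, one_smul])
  · refine det_comb_ne hg hB (a := a - 1) hb ?_
    rw [← hdet, hab]
    congr 1
    module

theorem exists_two [Fintype F] (h3 : 3 ≤ Fintype.card F) {s d : F} (hg : Good s d)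
    (B : GL (Fin 2) F) (hB : HasPoly (B : M2) s d) (g : (Sp4 F)) (hA : g.1.toBlocks₁₁ = 1 ∨
      (g.1.toBlocks₁₁.det = 1 ∧ g.1.toBlocks₁₁.trace ≠ 2 ∧
        ¬ ∃ a : F, g.1.toBlocks₁₁ = a • (1 : M2))) :
    ∃ u v : (Sp4 F), g = (u * lev B * u⁻¹) * (v * lev B * v⁻¹) := by
  have hdet : g.1.toBlocks₁₁.det ≠ 0 := by
    rcases hA with h | ⟨h, -, -⟩ <;> simp [h]
  let A := GeneralLinearGroup.mkOfDetNeZero _ hdet
  have hA' : (A : M2) = g.1.toBlocks₁₁ := rfl
  obtain ⟨S, T, hST⟩ := decomp g A hA'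
  obtain ⟨X, hX, hAX⟩ := exists_factor hg hA
  let X' := GeneralLinearGroup.mkOfDetNeZero X (by rw [hX.2]; exact hg.2.2.1)
  have hX' : HasPoly (X' : M2) s d := hX
  have hY : HasPoly ((A * X' : GL (Fin 2) F) : M2) s d := by
    rw [Units.val_mul, hA']; exact hAX
  have h1 : IsConj (lev B) (low T * lev (A * X')) :=
    (lev_conj (conj_of_poly hg hB hY)).trans (low_absorb hg hY T)
  have hBi := HasPoly.inv hB
  let w : (Sp4 F) := ⟨fromBlocks 0 (-1) 1 0, mem_of_blocks (by simp) (by simp) (by simp)⟩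
  let Bt := GeneralLinearGroup.mkOfDetNeZero ((B⁻¹ : GL (Fin 2) F) : M2)ᵀ
    (by rw [det_transpose, hBi.2]; exact one_div_ne_zero hg.2.2.1)
  have hBt : IsConj (lev B) (lev Bt) := by
    refine isConj_iff.2 ⟨w, ?_⟩
    rw [mul_inv_eq_iff_eq_mul]
    apply Subtype.ext
    have hinv : ((Bt⁻¹ : GL (Fin 2) F) : M2) = (B : M2)ᵀ := by
      refine (Units.mul_eq_one_iff_inv_eq.1 ?_)
      show ((B⁻¹ : GL (Fin 2) F) : M2)ᵀ * (B : M2)ᵀ = 1
      simp [← Matrix.transpose_mul]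
    have hval : (Bt : M2) = ((B⁻¹ : GL (Fin 2) F) : M2)ᵀ := rfl
    simp [w, lev, fromBlocks_multiply, hinv, hval]
  have hBtp : HasPoly (Bt : M2) (s / d) (1 / d) :=
    ⟨by show (((B⁻¹ : GL (Fin 2) F) : M2)ᵀ).trace = _; rw [trace_transpose]; exact hBi.1,
     by show (((B⁻¹ : GL (Fin 2) F) : M2)ᵀ).det = _; rw [det_transpose]; exact hBi.2⟩
  have hXi := HasPoly.inv hX'
  have h2 : IsConj (lev B) (lev X'⁻¹ * up S) :=
    hBt.trans ((lev_conj (conj_of_poly hg.inv hBtp hXi)).trans (up_absorb hg.inv hXi S))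
  obtain ⟨u, hu⟩ := isConj_iff.1 h1
  obtain ⟨v, hv⟩ := isConj_iff.1 h2
  refine ⟨u, v, ?_⟩
  rw [hu, hv, hST, mul_assoc (low T), ← mul_assoc, ← mul_assoc, mul_assoc (low T) _ (lev X'⁻¹),
    ← lev_mul, mul_inv_cancel_right]

/-- A form of Thompson's conjecture for the simple groups PSp(4,q), q ≥ 3 (covering the non-identity elements), with a semisimple class: for F a finite field of characteristic p with at least 3 elements there is an element x of PSp(4,F) of order prime to p such that every non-identity element of PSp(4,F) is a product of two conjugates of x. -/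
theorem result {F : Type*} [Field F] [Fintype F] (p : ℕ) [Fact p.Prime] [CharP F p] (h3 : 3 ≤ Fintype.card F) :
    ∃ x : Cfsg.PSp 2 F, ¬ p ∣ orderOf x ∧ ∀ g : Cfsg.PSp 2 F, g ≠ 1 → ∃ u v : Cfsg.PSp 2 F, g = (u * x * u⁻¹) * (v * x * v⁻¹) := by
  obtain ⟨s, d, hg⟩ := exists_good h3
  have hdet0 : (!![0, -d; 1, s] : Matrix (Fin 2) (Fin 2) F).det ≠ 0 := by
    simp [det_fin_two, hg.2.2.1]
  let B := GeneralLinearGroup.mkOfDetNeZero _ hdet0
  have hB : HasPoly (B : Matrix (Fin 2) (Fin 2) F) s d :=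
    ⟨by show (!![0, -d; 1, s] : Matrix (Fin 2) (Fin 2) F).trace = s; simp [trace_fin_two],
     by show (!![0, -d; 1, s] : Matrix (Fin 2) (Fin 2) F).det = d; simp [det_fin_two]⟩
  let Q : ↥(Matrix.symplecticGroup (Fin 2) F) →* Cfsg.PSp 2 F := QuotientGroup.mk' _
  refine ⟨Q (lev B), fun hp => ?_, fun g hg1 => ?_⟩
  · have h1 : orderOf (Q (lev B)) ∣ orderOf (lev B) := orderOf_map_dvd Q _
    have h2 : orderOf (lev B) ∣ orderOf B := by
      let L : GL (Fin 2) F →* ↥(Matrix.symplecticGroup (Fin 2) F) := MonoidHom.mk' lev lev_mul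
      exact orderOf_map_dvd L B
    exact not_dvd_order hg hB (hp.trans (h1.trans h2))
  · obtain ⟨g0, rfl⟩ := QuotientGroup.mk'_surjective _ g
    have hnc : g0 ∉ Subgroup.center ↥(Matrix.symplecticGroup (Fin 2) F) := fun h =>
      hg1 ((QuotientGroup.eq_one_iff g0).2 h)
    obtain ⟨g', hconj, hok⟩ := exists_ok h3 hnc
    obtain ⟨k, hk⟩ := isConj_iff.1 hconj
    let z : ↥(Matrix.symplecticGroup (Fin 2) F) :=
      ⟨fromBlocks (-1) 0 0 (-1), mem_of_blocks (by simp) (by simp) (by simp)⟩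
    have hz : z ∈ Subgroup.center ↥(Matrix.symplecticGroup (Fin 2) F) :=
      central_of_scalar (a := -1) (by simp [z, ← fromBlocks_one, fromBlocks_smul, fromBlocks_neg])
    obtain ⟨g'', hQ, u, v, huv⟩ : ∃ g'' : ↥(Matrix.symplecticGroup (Fin 2) F), Q g'' = Q g' ∧
        ∃ u v, g'' = (u * lev B * u⁻¹) * (v * lev B * v⁻¹) := by
      rcases hok with h | h | h
      · exact ⟨g', rfl, exists_two h3 hg B hB g' (Or.inl h)⟩
      · refine ⟨z * g', ?_, exists_two h3 hg B hB _ (Or.inl ?_)⟩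
        · rw [map_mul, show Q z = 1 from (QuotientGroup.eq_one_iff z).2 hz, one_mul]
        · rw [Submonoid.coe_mul, ← fromBlocks_toBlocks g'.1]
          simp [z, fromBlocks_multiply, h]
      · exact ⟨g', rfl, exists_two h3 hg B hB g' (Or.inr h)⟩
    refine ⟨Q (k⁻¹ * u), Q (k⁻¹ * v), ?_⟩
    have : Q g0 = Q k⁻¹ * Q g'' * Q k := by
      rw [hQ, ← map_mul, ← map_mul, ← hk]; congr 1; group
    show Q g0 = _
    rw [this, huv]
    simp only [map_mul, map_inv]
    group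

end Cfsg.Agent.S2460
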