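import Cfsg.Statements.S2461
-- import your own Cfsg.Agent.* helpers here
import Cfsg.Agent.Lib.ChevG2CoverSmall77
import Cfsg.Agent.Lib.ChevG2CoverFour77

open Cfsg.Lie Cfsg.Agent.ChevG2Cover77

set_option autoImplicit false
open Cfsg

namespace Cfsg.Agent.S2461

theorem pow_dvd_card {F : Type*} [Field F] [Fintype F] (p : ℕ) [Fact p.Prime] [CharP F p] : p ∣ Fintype.card F := by
  obtain ⟨n, hp, hn⟩ := FiniteField.card F p
  rw [hn]; exact dvd_pow_self p n.ne_zero


/-- A form of Thompson's conjecture for the simple Chevalley groups G₂(q), q ≥ 3 (covering the non-identity elements), with a semisimple class: for F a finite field of characteristic p with at least 3 elements there is an element x of the Chevalley group of type G₂ over F of order prime to p such that every non-identity element of that group is a product of two conjugates of x. -/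
theorem result {F : Type*} [Field F] [Fintype F] (p : ℕ) [Fact p.Prime] [CharP F p] (h3 : 3 ≤ Fintype.card F) :
    ∃ x : Cfsg.Lie.chevG2.group F, ¬ p ∣ orderOf x ∧ ∀ g : Cfsg.Lie.chevG2.group F, g ≠ 1 → ∃ u v : Cfsg.Lie.chevG2.group F, g = (u * x * u⁻¹) * (v * x * v⁻¹) := by
  classical
  have hp : p ∣ Fintype.card F := pow_dvd_card p
  have hpp : p.Prime := Fact.out
  have finish : ∀ (x : GL chevG2.Idx F) (n : ℕ), x ∈ chevG2.group F → x ^ n = 1 → ¬ p ∣ n →
      (∀ g ∈ chevG2.group F, g ≠ 1 → InCC x g) →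
      ∃ x : chevG2.group F, ¬ p ∣ orderOf x ∧ ∀ g : chevG2.group F, g ≠ 1 →
        ∃ u v : chevG2.group F, g = (u * x * u⁻¹) * (v * x * v⁻¹) := by
    intro x n hx hpow hn hcov
    refine ⟨⟨x, hx⟩, fun h => hn (h.trans (orderOf_dvd_of_pow_eq_one (Subtype.ext hpow))), fun g hg => ?_⟩
    obtain ⟨y, z, ⟨k, hk, rfl⟩, ⟨l, hl, rfl⟩, e⟩ := hcov g.1 g.2 (fun h => hg (Subtype.ext h))
    exact ⟨⟨k, hk⟩, ⟨l, hl⟩, Subtype.ext e⟩
  rcases le_or_gt 7 (Fintype.card F) with h7 | h7
  · obtain ⟨x, hx, hpow, hcov⟩ := cover_split h7 (F := F)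
    refine finish x _ hx hpow (fun h => ?_) hcov
    have h1 : p ∣ 1 := by
      have := Nat.dvd_sub hp h
      rwa [show Fintype.card F - (Fintype.card F - 1) = 1 by omega] at this
    exact hpp.not_dvd_one h1
  · have h6 : Fintype.card F ≠ 6 := by
      intro h
      have := FiniteField.isPrimePow_card F
      rw [h] at this
      obtain ⟨r, k, hr, hk, e⟩ := this
      rw [← Nat.prime_iff] at hr
      have hd2 : (2 : ℕ) ∣ r ^ k := by rw [e]; norm_num
      have hd3 : (3 : ℕ) ∣ r ^ k := by rw [e]; norm_num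
      have a2 := (Nat.prime_dvd_prime_iff_eq Nat.prime_two hr).1 (Nat.prime_two.dvd_of_dvd_pow hd2)
      have a3 := (Nat.prime_dvd_prime_iff_eq Nat.prime_three hr).1 (Nat.prime_three.dvd_of_dvd_pow hd3)
      omega
    interval_cases hq : Fintype.card F
    · obtain ⟨x, hx, hpow, hcov⟩ := Cfsg.Agent.ChevG2CoverSmall77.cover_three hq
      refine finish x _ hx hpow (fun h => ?_) hcov
      have a := (Nat.prime_dvd_prime_iff_eq hpp Nat.prime_three).1 hp
      subst a
      norm_num at h
    · obtain ⟨x, hx, hpow, hcov⟩ := Cfsg.Agent.ChevG2CoverFour77.cover_four hq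
      refine finish x _ hx hpow (fun h => ?_) hcov
      have a := (Nat.prime_dvd_prime_iff_eq hpp Nat.prime_two).1
        (hpp.dvd_of_dvd_pow (show p ∣ 2 ^ 2 by simpa using hp))
      subst a
      norm_num at h
    · obtain ⟨x, hx, hpow, hcov⟩ := Cfsg.Agent.ChevG2CoverSmall77.cover_five hq
      refine finish x _ hx hpow (fun h => ?_) hcov
      have a := (Nat.prime_dvd_prime_iff_eq hpp (by norm_num)).1 hp
      subst a
      norm_num at h
    · exact absurd rfl h6

end Cfsg.Agent.S2461
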