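import Cfsg.Statements.S2462
-- import your own Cfsg.Agent.* helpers here
import Cfsg.Agent.Lib.TwistedD4CoverTwo77

open Cfsg.Lie Cfsg.Agent.TwistedD4Cover77

set_option autoImplicit false
open Cfsg

namespace Cfsg.Agent.S2462


/-- A form of Thompson's conjecture for the triality groups ³D₄(q) (covering the non-identity elements) with a semisimple class: for q a power of the prime p and K the field with q³ elements there is an element x of ³D₄(q) (realised over K) of order prime to p such that every non-identity element of ³D₄(q) is a product of two conjugates of x. -/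
theorem result {K : Type*} [Field K] [Fintype K] (p : ℕ) [Fact p.Prime] [CharP K p] (q : ℕ) (hq : IsPrimePow q) (hK : Fintype.card K = q ^ 3) :
    ∃ x : Cfsg.Lie.twistedD4 K q, ¬ p ∣ orderOf x ∧ ∀ g : Cfsg.Lie.twistedD4 K q, g ≠ 1 → ∃ u v : Cfsg.Lie.twistedD4 K q, g = (u * x * u⁻¹) * (v * x * v⁻¹) := by
  classical
  obtain ⟨f, hf⟩ := TwistedField.exists_frob hK three_ne_zero
  have hpp : p.Prime := Fact.out
  have hpK : p ∣ q ^ 3 := by
    obtain ⟨n, -, hn⟩ := FiniteField.card K p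
    rw [← hK, hn]; exact dvd_pow_self p n.ne_zero
  have hpq : p ∣ q := hpp.dvd_of_dvd_pow hpK
  have finish : ∀ (x : GL chevD4.Idx K) (n : ℕ), x ∈ twistedD4 K q → x ^ n = 1 → ¬ p ∣ n →
      (∀ g ∈ twistedD4 K q, g ≠ 1 → InCC (twistedD4 K q) x g) →
      ∃ x : twistedD4 K q, ¬ p ∣ orderOf x ∧ ∀ g : twistedD4 K q, g ≠ 1 →
        ∃ u v : twistedD4 K q, g = (u * x * u⁻¹) * (v * x * v⁻¹) := by
    intro x n hx hpow hn hcov
    refine ⟨⟨x, hx⟩, fun h => hn (h.trans (orderOf_dvd_of_pow_eq_one (Subtype.ext hpow))), fun g hg => ?_⟩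
    obtain ⟨y, z, ⟨k, hk, rfl⟩, ⟨l, hl, rfl⟩, e⟩ := hcov g.1 g.2 (fun h => hg (Subtype.ext h))
    exact ⟨⟨k, hk⟩, ⟨l, hl⟩, Subtype.ext e⟩
  have hq2 := hq.two_le
  rcases (show q = 2 ∨ q = 3 ∨ 4 ≤ q by omega) with rfl | rfl | h4
  · obtain ⟨x, hx, hpow, hcov⟩ := TwistedD4CoverTwo77.cover_two hf hK
    refine finish x _ hx hpow (fun h => ?_) hcov
    obtain rfl := (Nat.prime_dvd_prime_iff_eq hpp Nat.prime_two).1 hpq
    norm_num at h
  · obtain rfl := (Nat.prime_dvd_prime_iff_eq hpp Nat.prime_three).1 hpq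
    obtain ⟨x, hx, hpow, hcov⟩ := cover_three hf hK rfl (CharP.cast_eq_zero K 3)
    refine finish x _ hx hpow (fun h => ?_) hcov
    norm_num at h
  · obtain ⟨x, hx, hpow, hcov⟩ := cover_split hf hK h4
    refine finish x _ hx hpow (fun h => ?_) hcov
    have h1 := Nat.dvd_sub hpK h
    have : 1 ≤ q ^ 3 := Nat.one_le_pow _ _ (by omega)
    rw [show q ^ 3 - (q ^ 3 - 1) = 1 by omega] at h1
    exact hpp.not_dvd_one h1

end Cfsg.Agent.S2462
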