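import Cfsg.Statements.S2463
import Cfsg.Agent.Lib.TitsCover53Main
import Cfsg.Agent.Lib.TwistedF4Cover53
-- import your own Cfsg.Agent.* helpers here

set_option autoImplicit false
set_option maxRecDepth 100000
open Cfsg

namespace Cfsg.Agent.S2463

/-- A form of Thompson's conjecture for the simple groups of type ²F₄ (covering the non-identity elements) with a semisimple class: if M is a large Ree group ²F₄(2^(2m+1)) with m ≥ 1, or the Tits group, then there is an element x of M of odd order such that every non-identity element of M is a product of two conjugates of x. -/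
theorem result {M : Type*} [Group M] [Finite M] (hM : Cfsg.Lie.Iso2F4 M ∨ Cfsg.Lie.IsoTits M) :
    ∃ x : M, Odd (orderOf x) ∧ ∀ g : M, g ≠ 1 → ∃ u v : M, g = (u * x * u⁻¹) * (v * x * v⁻¹) := by
  have key : ∀ {T : Type} [Group T], (M ≃* T) → (∃ x : T, Odd (orderOf x) ∧ ∀ g : T, g ≠ 1 → ∃ u v : T,
      g = (u * x * u⁻¹) * (v * x * v⁻¹)) →
      ∃ x : M, Odd (orderOf x) ∧ ∀ g : M, g ≠ 1 → ∃ u v : M, g = (u * x * u⁻¹) * (v * x * v⁻¹) := by
    rintro T _ e ⟨x, hx, h⟩
    refine ⟨e.symm x, by rwa [MulEquiv.orderOf_eq], fun g hg => ?_⟩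
    obtain ⟨u, v, huv⟩ := h (e g) (fun he => hg (e.injective (by rw [he, map_one])))
    exact ⟨e.symm u, e.symm v, e.injective (by simpa using huv)⟩
  rcases hM with hM | hM
  · obtain ⟨K, _, _, m, hm, hK, ⟨e⟩⟩ := hM
    haveI : CharP K 2 := Cfsg.Agent.TwistedF4Classes.charP_two m hK
    haveI : Cfsg.Agent.SuzukiGroupBasic.Param K m := Cfsg.Agent.SuzukiGroupBasic.Param.mk' hm hK
    obtain ⟨x, hx, hodd, hcov⟩ := Cfsg.Agent.TwistedF4Cover53.cover (K := K) m hK hm
    refine key e ⟨⟨x, hx⟩, ?_, fun g hg => ?_⟩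
    · rwa [Subgroup.orderOf_mk]
    · obtain ⟨_, _, ⟨a, ha, rfl⟩, ⟨b, hb, rfl⟩, he⟩ := hcov g g.2 (fun h => hg (Subtype.ext h))
      exact ⟨⟨a, ha⟩, ⟨b, hb⟩, Subtype.ext he⟩
  · obtain ⟨e⟩ : Nonempty (M ≃* Cfsg.Lie.TitsGroup) := hM
    obtain ⟨x, hx, h⟩ := Cfsg.Agent.TitsCover53.tits_cover
    refine ⟨e.symm x, by rwa [MulEquiv.orderOf_eq], fun g hg => ?_⟩
    obtain ⟨u, v, huv⟩ := h (e g) (fun he => hg (e.injective (he.trans (map_one e).symm)))
    exact ⟨e.symm u, e.symm v, e.injective (by simpa using huv)⟩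

end Cfsg.Agent.S2463
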