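import Cfsg.Statements.S2466
import Mathlib

set_option autoImplicit false
open Cfsg

namespace Cfsg.Agent.S2466

open Equiv Equiv.Perm

lemma exists_alt {n : ℕ} (m : Multiset ℕ) (hm : m.sum ≤ n) (h2 : ∀ a ∈ m, 2 ≤ a)
    (hp : Even (m.sum + Multiset.card m)) :
    ∃ g : alternatingGroup (Fin n), orderOf g = m.lcm := by
  obtain ⟨g, hg⟩ := (exists_with_cycleType_iff (α := Fin n) (m := m)).2 ⟨by simpa using hm, h2⟩
  have hs : g ∈ alternatingGroup (Fin n) := by
    rw [mem_alternatingGroup, sign_of_cycleType, hg, hp.neg_one_pow]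
  refine ⟨⟨g, hs⟩, ?_⟩
  rw [← Subgroup.orderOf_coe, ← lcm_cycleType, hg]

lemma mem_props {n : ℕ} (g : alternatingGroup (Fin n)) :
    (g : Perm (Fin n)).cycleType.lcm = orderOf g ∧ (g : Perm (Fin n)).cycleType.sum ≤ n ∧
      Even ((g : Perm (Fin n)).cycleType.sum + Multiset.card (g : Perm (Fin n)).cycleType) := by
  refine ⟨by rw [lcm_cycleType, Subgroup.orderOf_coe], ?_, ?_⟩
  · rw [sum_cycleType]
    simpa using Finset.card_le_univ (g : Perm (Fin n)).support
  · have h := mem_alternatingGroup.1 g.2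
    rw [sign_of_cycleType] at h
    exact (neg_one_pow_eq_one_iff_even (by decide : (-1 : ℤˣ) ≠ 1)).1 h

lemma exists_mem_dvd {m : Multiset ℕ} {r : ℕ} (hr : r.Prime) (h : r ∣ m.lcm) :
    ∃ a ∈ m, r ∣ a := by
  induction m using Multiset.induction_on with
  | empty => simp [hr.ne_one] at h
  | cons a s ih =>
    rw [Multiset.lcm_cons] at h
    rcases (hr.dvd_mul).1 (h.trans (lcm_dvd_mul a s.lcm)) with h | h
    · exact ⟨a, by simp, h⟩
    · obtain ⟨b, hb, hb'⟩ := ih h
      exact ⟨b, Multiset.mem_cons_of_mem hb, hb'⟩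


/-- Adjacency of odd primes in the prime graph of the alternating groups: let r ≠ s be odd primes at most n. The alternating group of degree n has an element of order r·s if and only if r + s ≤ n. -/
theorem result (n r s : ℕ) (hr : r.Prime) (hs : s.Prime) (hr2 : r ≠ 2) (hs2 : s ≠ 2) (hrs : r ≠ s) (hrn : r ≤ n) (hsn : s ≤ n) :
    (r * s ∈ Set.range (orderOf : alternatingGroup (Fin n) → ℕ)) ↔ r + s ≤ n := by
  constructor
  · rintro ⟨g, hg⟩
    obtain ⟨h1, h2, -⟩ := mem_props g
    rw [hg] at h1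
    obtain ⟨a, ha, hra⟩ := exists_mem_dvd hr (h1 ▸ dvd_mul_right r s)
    obtain ⟨b, hb, hsb⟩ := exists_mem_dvd hs (h1 ▸ dvd_mul_left s r)
    have ha2 := Equiv.Perm.two_le_of_mem_cycleType ha
    have hb2 := Equiv.Perm.two_le_of_mem_cycleType hb
    by_cases hab : a = b
    · subst hab
      have h3 : r * s ∣ a := ((Nat.coprime_primes hr hs).2 hrs).mul_dvd_of_dvd_of_dvd hra hsb
      have h4 := Nat.le_of_dvd (by omega) h3
      have h5 := Multiset.le_sum_of_mem ha
      have h6 := Nat.mul_le_mul hr.two_le hs.two_le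
      nlinarith [hr.two_le, hs.two_le]
    · obtain ⟨t, ht⟩ := Multiset.exists_cons_of_mem ha
      rw [ht, Multiset.mem_cons] at hb
      have h5 := Multiset.le_sum_of_mem (hb.resolve_left (Ne.symm hab))
      rw [ht, Multiset.sum_cons] at h2
      have := Nat.le_of_dvd (by omega) hra
      have := Nat.le_of_dvd (by omega) hsb
      omega
  · intro h
    obtain ⟨g, hg⟩ := exists_alt (n := n) (r ::ₘ s ::ₘ 0) (by simpa using h)
      (by simp [hr.two_le, hs.two_le]) (by
        obtain ⟨k, rfl⟩ := hr.odd_of_ne_two hr2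
        obtain ⟨l, rfl⟩ := hs.odd_of_ne_two hs2
        exact ⟨k + l + 2, by simp; omega⟩)
    refine ⟨g, hg.trans ?_⟩
    simpa [lcm_eq_nat_lcm] using ((Nat.coprime_primes hr hs).2 hrs).lcm_eq_mul

end Cfsg.Agent.S2466
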