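import Cfsg.Statements.S2467
import Mathlib

set_option autoImplicit false
open Cfsg

namespace Cfsg.Agent.S2467

open Equiv Equiv.Perm

lemma exists_alt {n : ℕ} (m : Multiset ℕ) (hm : m.sum ≤ n) (h2 : ∀ a ∈ m, 2 ≤ a)
    (hp : Even (m.sum + Multiset.card m)) :
    ∃ g : alternatingGroup (Fin n), orderOf g = m.lcm := by
  obtain ⟨g, hg⟩ := (exists_with_cycleType_iff (α := Fin n) (m := m)).2 ⟨by simpa using hm, h2⟩
  have hs : g ∈ alternatingGroup (Fin n) := by
    rw [mem_alternatingGroup, sign_of_cycleType, hg, hp.neg_one_pow]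
  refine ⟨⟨g, hs⟩, ?_⟩
  rw [← Subgroup.orderOf_coe, ← lcm_cycleType, hg]

lemma mem_props {n : ℕ} (g : alternatingGroup (Fin n)) :
    (g : Perm (Fin n)).cycleType.lcm = orderOf g ∧ (g : Perm (Fin n)).cycleType.sum ≤ n ∧
      Even ((g : Perm (Fin n)).cycleType.sum + Multiset.card (g : Perm (Fin n)).cycleType) := by
  refine ⟨by rw [lcm_cycleType, Subgroup.orderOf_coe], ?_, ?_⟩
  · rw [sum_cycleType]
    simpa using Finset.card_le_univ (g : Perm (Fin n)).support
  · have h := mem_alternatingGroup.1 g.2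
    rw [sign_of_cycleType] at h
    exact (neg_one_pow_eq_one_iff_even (by decide : (-1 : ℤˣ) ≠ 1)).1 h

lemma exists_mem_dvd {m : Multiset ℕ} {r : ℕ} (hr : r.Prime) (h : r ∣ m.lcm) :
    ∃ a ∈ m, r ∣ a := by
  induction m using Multiset.induction_on with
  | empty => simp [hr.ne_one] at h
  | cons a s ih =>
    rw [Multiset.lcm_cons] at h
    rcases (hr.dvd_mul).1 (h.trans (lcm_dvd_mul a s.lcm)) with h | h
    · exact ⟨a, by simp, h⟩
    · obtain ⟨b, hb, hb'⟩ := ih h
      exact ⟨b, Multiset.mem_cons_of_mem hb, hb'⟩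


/-- Adjacency of 2 and an odd prime in the prime graph of the alternating groups: let r be an odd prime at most n, with n ≥ 4. The alternating group of degree n has an element of order 2r if and only if r + 4 ≤ n. -/
theorem result (n r : ℕ) (hn : 4 ≤ n) (hr : r.Prime) (hr2 : r ≠ 2) (hrn : r ≤ n) :
    (2 * r ∈ Set.range (orderOf : alternatingGroup (Fin n) → ℕ)) ↔ r + 4 ≤ n := by
  constructor
  · rintro ⟨g, hg⟩
    obtain ⟨h1, h2, h3⟩ := mem_props g
    rw [hg] at h1
    obtain ⟨a, ha, hra⟩ := exists_mem_dvd hr (h1 ▸ dvd_mul_left r 2)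
    obtain ⟨b, hb, h2b⟩ := exists_mem_dvd Nat.prime_two (h1 ▸ dvd_mul_right 2 r)
    have ha2 := Equiv.Perm.two_le_of_mem_cycleType ha
    have hr3 : 3 ≤ r := by have := hr.two_le; omega
    obtain ⟨t, ht⟩ := Multiset.exists_cons_of_mem ha
    rw [ht, Multiset.sum_cons] at h2
    rw [ht, Multiset.sum_cons, Multiset.card_cons] at h3
    have hmem : ∀ x ∈ t, 2 ≤ x := fun x hx =>
      Equiv.Perm.two_le_of_mem_cycleType (ht ▸ Multiset.mem_cons_of_mem hx)
    have hle : r ≤ a := Nat.le_of_dvd (by omega) hra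
    rcases Nat.lt_or_ge t.sum 4 with hlt | hge
    · -- `t` has at most one cycle
      have hc := Multiset.card_nsmul_le_sum hmem
      simp only [smul_eq_mul] at hc
      obtain ⟨k, hk⟩ := hr.odd_of_ne_two hr2
      rw [ht, Multiset.mem_cons] at hb
      rcases Nat.lt_or_ge (Multiset.card t) 1 with h0 | h0
      · have : t = 0 := Multiset.card_eq_zero.1 (by omega)
        subst this
        simp at hb h3
        obtain ⟨c, hc2⟩ := h3
        omega
      · obtain ⟨x, rfl⟩ := Multiset.card_eq_one.1 (show Multiset.card t = 1 by omega)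
        simp at hb h3 hlt h2
        have hx := hmem x (by simp)
        obtain ⟨c, hc2⟩ := h3
        rcases hb with rfl | rfl
        · have h2r : 2 * r ∣ b := ((Nat.coprime_primes Nat.prime_two hr).2 (Ne.symm hr2)).mul_dvd_of_dvd_of_dvd h2b hra
          have := Nat.le_of_dvd (by omega) h2r
          omega
        · have hd : a ∣ 2 * r := h1 ▸ Multiset.dvd_lcm ha
          obtain ⟨e, he⟩ := hra
          rcases (Nat.dvd_prime Nat.prime_two).1 (show e ∣ 2 from Nat.dvd_of_mul_dvd_mul_left hr.pos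
            (by rw [← he, mul_comm r 2]; exact hd)) with rfl | rfl <;> omega
    · omega
  · intro h
    obtain ⟨g, hg⟩ := exists_alt (n := n) (r ::ₘ 2 ::ₘ 2 ::ₘ 0) (by simpa using h)
      (by simp [hr.two_le]) (by
        obtain ⟨k, rfl⟩ := hr.odd_of_ne_two hr2
        exact ⟨k + 4, by simp; omega⟩)
    refine ⟨g, hg.trans ?_⟩
    have h := ((Nat.coprime_primes hr Nat.prime_two).2 hr2).lcm_eq_mul
    simp [mul_comm] at h ⊢
    exact h

end Cfsg.Agent.S2467
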