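import Cfsg.Statements.S2469
import Cfsg.Agent.Lib.SympPrimeGraph
-- import your own Cfsg.Agent.* helpers here

set_option autoImplicit false
open Cfsg
open scoped Matrix

namespace Cfsg.Agent.S2469

/-- Adjacency of two odd primes in the prime graph of PSp(2n,q): let F be a finite field of characteristic p with q elements, n ≥ 2 with PSp(2n,F) simple, and let r ≠ s be odd primes different from p dividing the order of PSp(2n,F). Let k, l be the multiplicative orders of q modulo r and s, put η(m) = m for odd m and η(m) = m/2 for even m, and suppose η(k) ≤ η(l). Then PSp(2n,F) has NO element of order r·s if and only if η(k) + η(l) > n and l/k is not an odd integer. -/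
theorem result {F : Type*} [Field F] [Fintype F] (p : ℕ) [Fact p.Prime] [CharP F p] (n : ℕ) (hn : 2 ≤ n) (hsmall : n = 2 → 3 ≤ Fintype.card F)
    (r s : ℕ) (hr : r.Prime) (hs : s.Prime) (hr2 : r ≠ 2) (hs2 : s ≠ 2) (hrp : r ≠ p) (hsp : s ≠ p) (hrs : r ≠ s)
    (hrG : r ∣ Nat.card (Cfsg.PSp n F)) (hsG : s ∣ Nat.card (Cfsg.PSp n F))
    (k l ηk ηl : ℕ) (hk : k = orderOf ((Fintype.card F : ℕ) : ZMod r)) (hl : l = orderOf ((Fintype.card F : ℕ) : ZMod s))
    (hηk : (Odd k ∧ ηk = k) ∨ (Even k ∧ 2 * ηk = k)) (hηl : (Odd l ∧ ηl = l) ∨ (Even l ∧ 2 * ηl = l)) (hkl : ηk ≤ ηl) :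
    (r * s ∉ Set.range (orderOf : Cfsg.PSp n F → ℕ)) ↔ (n < ηk + ηl ∧ ¬ ∃ t : ℕ, Odd t ∧ l = k * t) := by
  classical
  have hp : p.Prime := Fact.out
  haveI : Fact r.Prime := ⟨hr⟩
  haveI : Fact s.Prime := ⟨hs⟩
  set q := Fintype.card F with hq
  have hq0 : 0 < q := Fintype.card_pos
  have hk0 : 0 < k := hk ▸ Cfsg.Agent.SympPrimeGraph.cast_pos (p := p) rfl hrp
  have hl0 : 0 < l := hl ▸ Cfsg.Agent.SympPrimeGraph.cast_pos (p := p) rfl hsp
  have hη1 := Cfsg.Agent.SympPrimeGraph.eta_pos hk0 hηk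
  have hη2 := Cfsg.Agent.SympPrimeGraph.eta_pos hl0 hηl
  have hco : r.Coprime s := (Nat.coprime_primes hr hs).2 hrs
  rw [Cfsg.Agent.SympPrimeGraph.mem_range_PSp_iff (by omega)
    (Or.inl ((hr.odd_of_ne_two hr2).mul (hs.odd_of_ne_two hs2)))]
  constructor
  · intro hno
    refine ⟨?_, ?_⟩
    · by_contra hle
      obtain ⟨b, rfl⟩ : ∃ b, n = ηk + b := ⟨n - ηk, by omega⟩
      obtain ⟨x, hx⟩ := Cfsg.Agent.SympPrimeGraph.exists_prime_order (F := F) (n := ηk) hq.symm hk hηk hη1 le_rfl
      obtain ⟨y, hy⟩ := Cfsg.Agent.SympPrimeGraph.exists_prime_order (F := F) (n := b) hq.symm hl hηl hη2 (by omega)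
      exact hno ⟨_, Cfsg.Agent.SympPrimeGraph.orderOf_block hco x y hx hy⟩
    · rintro ⟨t, ht, hlt⟩
      have hln : (Odd l ∧ l ≤ n) ∨ (Even l ∧ l ≤ 2 * n) := by
        have h1 : s ∣ Nat.card (Matrix.symplecticGroup (Fin n) F) :=
          hsG.trans (Subgroup.card_quotient_dvd_card _)
        rw [Cfsg.Agent.SymplecticOrder.card_symplectic hq.symm] at h1
        rcases hs.prime.dvd_or_dvd h1 with h1 | h1
        · obtain ⟨f, -, hf⟩ := FiniteField.card F p
          have h2 := hs.dvd_of_dvd_pow h1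
          rw [hq, hf] at h2
          exact absurd ((Nat.prime_dvd_prime_iff_eq hs hp).1 (hs.dvd_of_dvd_pow h2)) hsp
        · obtain ⟨j, hj, hsj⟩ := hs.prime.exists_mem_finset_dvd h1
          rw [← Cfsg.Agent.SympPrimeGraph.cast_pow_eq_one hq0, ← orderOf_dvd_iff_pow_eq_one, ← hl] at hsj
          have hj' := Finset.mem_range.1 hj
          rcases Nat.even_or_odd l with he | ho
          · exact Or.inr ⟨he, (Nat.le_of_dvd (by omega) hsj).trans (by omega)⟩
          · exact Or.inl ⟨ho, (Nat.le_of_dvd (by omega)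
              ((Nat.Coprime.dvd_mul_left (Nat.coprime_two_right.2 ho)).1 hsj)).trans (by omega)⟩
      refine hno (Cfsg.Agent.SympPrimeGraph.exists_elem_of_dvd (p := p) (q := q) (N := r * s) (L := l) hq.symm
        (Nat.Coprime.mul_right ((Nat.coprime_primes hp hr).2 hrp.symm) ((Nat.coprime_primes hp hs).2 hsp.symm))
        (Nat.mul_ne_zero hr.ne_zero hs.ne_zero) (fun m => ?_) (fun he => ?_) (fun j ho hj => ?_) hln)
      · rw [Cfsg.Agent.SympPrimeGraph.cast_pow_eq_one hq0]
        constructor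
        · intro h
          rw [hl, orderOf_dvd_iff_pow_eq_one, Cfsg.Agent.SympPrimeGraph.cast_pow_eq_one hq0]
          exact (dvd_mul_left s r).trans h
        · intro h
          refine hco.mul_dvd_of_dvd_of_dvd ?_ ?_ <;>
            rw [← Cfsg.Agent.SympPrimeGraph.cast_pow_eq_one hq0, ← orderOf_dvd_iff_pow_eq_one]
          · rw [← hk]; exact (Dvd.intro t hlt.symm).trans h
          · rw [← hl]; exact h
      · have hke : Even k := by
          rw [hlt, Nat.even_mul] at he
          exact he.resolve_right (Nat.not_even_iff_odd.2 ht)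
        obtain ⟨a, ha⟩ := hke
        obtain ⟨b, hb⟩ := he
        rw [Cfsg.Agent.SympPrimeGraph.cast_pow_eq_neg_one]
        refine hco.mul_dvd_of_dvd_of_dvd ?_ ?_
        · rw [← Cfsg.Agent.SympPrimeGraph.cast_pow_eq_neg_one, show l / 2 = a * t by
            rw [hlt, ha, show (a + a) * t = a * t * 2 by ring, Nat.mul_div_cancel _ two_pos], pow_mul,
            Cfsg.Agent.SympPrimeGraph.cast_pow_eq_neg_one.2
              (Cfsg.Agent.SympPrimeElements.pow_half_eq_neg_one hk ha (by omega)), ht.neg_one_pow]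
        · rw [show l / 2 = b by omega]
          exact Cfsg.Agent.SympPrimeElements.pow_half_eq_neg_one hl hb (by omega)
      · rw [Cfsg.Agent.SympPrimeGraph.cast_pow_eq_neg_one] at hj
        obtain ⟨hke, -⟩ := Cfsg.Agent.SympPrimeGraph.of_neg_one hr2 hk
          (Cfsg.Agent.SympPrimeGraph.cast_pow_eq_neg_one.2 ((dvd_mul_right r s).trans hj))
        rw [hlt, Nat.odd_mul] at ho
        exact Nat.not_even_iff_odd.2 ho.1 hke
  · rintro ⟨hn', hnt⟩ ⟨h, hh⟩
    have hP : h.1.charpoly ≠ 0 := (Matrix.charpoly_monic _).ne_zero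
    have hdeg := Cfsg.Agent.SympPrimeGraph.natDegree_charpoly h
    by_cases hA : ∃ μ : Polynomial F, μ.Monic ∧ Irreducible μ ∧ μ ∣ h.1.charpoly ∧
        ¬ μ ∣ Polynomial.X ^ r - 1 ∧ ¬ μ ∣ Polynomial.X ^ s - 1
    · obtain ⟨μ, hm, hirr, hd, hr', hs'⟩ := hA
      haveI := Fact.mk hirr
      have hdN := Cfsg.Agent.SympPrimeGraph.dvd_X_pow_sub_one h hirr hd
      rw [hh] at hdN
      have hpow : ∀ D : ℕ, μ ∣ Polynomial.X ^ D - 1 ↔ AdjoinRoot.root μ ^ D = 1 := fun D => by
        rw [← AdjoinRoot.mk_eq_zero, map_sub, map_pow, map_one, AdjoinRoot.mk_X, sub_eq_zero]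
      have hord : orderOf (AdjoinRoot.root μ) = r * s := by
        obtain ⟨a, b, ha, hb, hab⟩ := exists_dvd_and_dvd_of_dvd_mul
          (orderOf_dvd_of_pow_eq_one ((hpow _).1 hdN))
        rcases (Nat.dvd_prime hr).1 ha with h1 | h1
        · exact absurd ((hpow s).2 (orderOf_dvd_iff_pow_eq_one.1 (by rw [hab, h1, one_mul]; exact hb))) hs'
        rcases (Nat.dvd_prime hs).1 hb with h2 | h2
        · exact absurd ((hpow r).2 (orderOf_dvd_iff_pow_eq_one.1 (by rw [hab, h2, mul_one]; exact ha))) hr'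
        rw [hab, h1, h2]
      obtain ⟨hpm, hself⟩ := Cfsg.Agent.SympPrimeGraph.degree_facts hq.symm
        (Nat.mul_ne_zero hr.ne_zero hs.ne_zero) hm hdN hord
      rw [Cfsg.Agent.SympPrimeGraph.cast_pow_eq_one hq0] at hpm
      have hkm : k ∣ μ.natDegree := by
        rw [hk, orderOf_dvd_iff_pow_eq_one, Cfsg.Agent.SympPrimeGraph.cast_pow_eq_one hq0]
        exact (dvd_mul_right r s).trans hpm
      have hlm : l ∣ μ.natDegree := by
        rw [hl, orderOf_dvd_iff_pow_eq_one, Cfsg.Agent.SympPrimeGraph.cast_pow_eq_one hq0]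
        exact (dvd_mul_left s r).trans hpm
      have hm0 := hirr.natDegree_pos
      obtain ⟨c, hc⟩ := hlm
      by_cases hst : Cfsg.Agent.SelfReciprocalFactors.st μ = μ
      · obtain ⟨j, hj⟩ := hself hst
        rw [Cfsg.Agent.SympPrimeGraph.cast_pow_eq_neg_one] at hj
        obtain ⟨hke, u, hu, hju⟩ := Cfsg.Agent.SympPrimeGraph.of_neg_one hr2 hk
          (Cfsg.Agent.SympPrimeGraph.cast_pow_eq_neg_one.2 ((dvd_mul_right r s).trans hj))
        obtain ⟨hle, w, hw, hjw⟩ := Cfsg.Agent.SympPrimeGraph.of_neg_one hs2 hl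
          (Cfsg.Agent.SympPrimeGraph.cast_pow_eq_neg_one.2 ((dvd_mul_left s r).trans hj))
        have hdle := Polynomial.natDegree_le_of_dvd hd hP
        have hηk' : 2 * ηk = k := (hηk.resolve_left fun h => Nat.not_odd_iff_even.2 hke h.1).2
        have hηl' : 2 * ηl = l := (hηl.resolve_left fun h => Nat.not_odd_iff_even.2 hle h.1).2
        have hc1 : c = 1 := by
          rcases c with _ | _ | c
          · omega
          · rfl
          · have : l * 2 ≤ l * (c + 1 + 1) := Nat.mul_le_mul_left l (by omega)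
            omega
        rw [hc1, mul_one] at hc
        obtain ⟨t, ht⟩ := hc ▸ hkm
        refine hnt ⟨t, ?_, ht⟩
        rw [hjw, ht, mul_assoc] at hju
        rw [← Nat.eq_of_mul_eq_mul_left hk0 hju] at hu
        exact (Nat.odd_mul.1 hu).1
      · have hm' : (Cfsg.Agent.SelfReciprocalFactors.st μ).Monic :=
          Polynomial.monic_normalize (Cfsg.Agent.SelfReciprocalFactors.mirror_irreducible hirr).ne_zero
        have hirr' : Irreducible (Cfsg.Agent.SelfReciprocalFactors.st μ) :=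
          Cfsg.Agent.SelfReciprocalFactors.assoc_st.irreducible
            (Cfsg.Agent.SelfReciprocalFactors.mirror_irreducible hirr)
        have hco' : IsCoprime μ (Cfsg.Agent.SelfReciprocalFactors.st μ) :=
          hirr.coprime_iff_not_dvd.2 fun hh' => hst
            (Polynomial.eq_of_monic_of_associated hm hm' (hirr.associated_of_dvd hirr' hh')).symm
        have hmd : Cfsg.Agent.SelfReciprocalFactors.st μ ∣ h.1.charpoly :=
          Cfsg.Agent.SelfReciprocalFactors.assoc_st.symm.dvd.trans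
            (Cfsg.Agent.SympPrimeGraph.charpoly_mirror h ▸ Cfsg.Agent.SelfReciprocalFactors.mirror_dvd hd)
        have hdle := Polynomial.natDegree_le_of_dvd (hco'.mul_dvd hd hmd) hP
        rw [hm.natDegree_mul hm', Cfsg.Agent.SelfReciprocalFactors.natDegree_st] at hdle
        have hc1 : c = 1 := by
          rcases c with _ | _ | c
          · omega
          · rfl
          · have : l * 2 ≤ l * (c + 1 + 1) := Nat.mul_le_mul_left l (by omega)
            omega
        rw [hc1, mul_one] at hc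
        obtain ⟨t, ht⟩ := hc ▸ hkm
        rcases hηl with ⟨hlo, -⟩ | ⟨-, h2⟩
        · exact hnt ⟨t, (Nat.odd_mul.1 (ht ▸ hlo)).2, ht⟩
        · omega
    · push Not at hA
      have key : ∀ a b : ℕ, a.Prime → (∀ μ : Polynomial F, μ.Monic → Irreducible μ → μ ∣ h.1.charpoly →
          ¬ μ ∣ Polynomial.X ^ b - 1 → μ ∣ Polynomial.X ^ a - 1) → r * s = a * b → a ≠ p → a.Coprime b →
          ∃ μ, μ ∣ h.1.charpoly ∧ Cfsg.Agent.SelfReciprocalFactors.IsFactor a μ := by
        intro a b ha hab he hap hcop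
        by_contra hall
        push Not at hall
        obtain ⟨m, hm⟩ := Cfsg.Agent.SympPrimeGraph.orderOf_dvd_of_factors (p := p) (D := b) h
          fun μ hμm hμi hμd => by
            by_contra hnb
            refine hall μ hμd ⟨hμm, hμi, hab μ hμm hμi hμd hnb, fun he' => hnb ?_⟩
            exact he' ▸ Cfsg.Agent.PrimeOrderClassCount.lin_dvd_X_pow_sub_one b
        rw [hh, he] at hm
        rcases ha.prime.dvd_or_dvd ((dvd_mul_right a b).trans hm) with h1 | h1
        · exact ha.one_lt.ne' (Nat.eq_one_of_dvd_coprimes hcop dvd_rfl h1)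
        · exact hap ((Nat.prime_dvd_prime_iff_eq ha hp).1 (ha.dvd_of_dvd_pow h1))
      obtain ⟨μ, hμd, hμ⟩ := key r s hr (fun μ a b c d => by by_contra hh'; exact d (hA μ a b c hh')) rfl hrp hco
      obtain ⟨ν, hνd, hν⟩ := key s r hs (fun μ a b c d => hA μ a b c d) (mul_comm r s) hsp hco.symm
      obtain ⟨B, hBm, hBd, hBr, hB1, hBP⟩ :=
        Cfsg.Agent.SympPrimeGraph.exists_prime_block (p := p) hq.symm hr hr2 hrp hk hηk hμ
      obtain ⟨B', hBm', hBd', hBr', -, hBP'⟩ :=
        Cfsg.Agent.SympPrimeGraph.exists_prime_block (p := p) hq.symm hs hs2 hsp hl hηl hν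
      have hmir := Cfsg.Agent.SympPrimeGraph.charpoly_mirror h
      have hcoB : IsCoprime B B' := by
        refine isCoprime_of_irreducible_dvd (fun h0 => hBm.ne_zero h0.1) fun z hz hzB hzB' => ?_
        haveI := Fact.mk hz
        have hroot : ∀ a : ℕ, z ∣ Polynomial.X ^ a - 1 → AdjoinRoot.root z ^ a = 1 := fun a ha => by
          have := AdjoinRoot.mk_eq_zero.2 ha
          rwa [map_sub, map_pow, map_one, AdjoinRoot.mk_X, sub_eq_zero] at this
        have h1 : AdjoinRoot.root z = 1 := orderOf_eq_one_iff.1 (Nat.eq_one_of_dvd_coprimes hco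
          (orderOf_dvd_of_pow_eq_one (hroot r (hzB.trans hBr)))
          (orderOf_dvd_of_pow_eq_one (hroot s (hzB'.trans hBr'))))
        have hdl : z ∣ Polynomial.X - Polynomial.C 1 := by
          rw [← AdjoinRoot.mk_eq_zero, map_sub, AdjoinRoot.mk_X, AdjoinRoot.mk_C, map_one, h1, sub_self]
        exact hB1 (Polynomial.dvd_iff_isRoot.1
          ((hz.associated_of_dvd (Polynomial.irreducible_X_sub_C 1) hdl).symm.dvd.trans hzB))
      have hle := Polynomial.natDegree_le_of_dvd
        (hcoB.mul_dvd (hBP _ hmir hμd) (hBP' _ hmir hνd)) hP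
      rw [hBm.natDegree_mul hBm', hBd, hBd', hdeg] at hle
      omega

end Cfsg.Agent.S2469
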