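import Cfsg.Statements.S2470
import Cfsg.Agent.Lib.PSLAdjacency57

set_option autoImplicit false
open Cfsg

namespace Cfsg.Agent.S2470

/-- Adjacency of an odd prime and the characteristic in the prime graph of PSL(n,q): let F be a finite field of characteristic p with q elements, n ≥ 2 with PSL(n,F) simple, and let r ≠ p be an odd prime dividing the order of PSL(n,F), with k the multiplicative order of q modulo r. Then PSL(n,F) has NO element of order r·p if and only if either k > n − 2, or n = 3, r = 3 and 3 divides q − 1 exactly once. -/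
theorem result {F : Type*} [Field F] [Fintype F] (p : ℕ) [Fact p.Prime] [CharP F p] (n : ℕ) (hn : 2 ≤ n) (hsmall : n = 2 → 4 ≤ Fintype.card F)
    (r : ℕ) (hr : r.Prime) (hr2 : r ≠ 2) (hrp : r ≠ p) (hrG : r ∣ Nat.card (Matrix.ProjectiveSpecialLinearGroup (Fin n) F))
    (k : ℕ) (hk : k = orderOf ((Fintype.card F : ℕ) : ZMod r)) :
    (r * p ∉ Set.range (orderOf : Matrix.ProjectiveSpecialLinearGroup (Fin n) F → ℕ)) ↔
      (n - 2 < k ∨ (n = 3 ∧ r = 3 ∧ 3 ∣ Fintype.card F - 1 ∧ ¬ 9 ∣ Fintype.card F - 1)) := by
  have hk1 : 1 ≤ k := hk ▸ PSLAdjacency57.ord_pos hr (PSLAdjacency57.coprime_card hr hrp)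
  classical
  by_cases h2k : 2 ≤ k
  · constructor
    · intro h
      left
      by_contra hno
      exact h (PSLAdjacency57.sufficient_rp p hr hrp hk h2k (by omega))
    · intro h hmem
      have := PSLAdjacency57.necessary_rp p (by omega) hr hrp hk h2k hmem
      rcases h with h | ⟨-, hr3, h3, -⟩
      · omega
      · exact PSLAdjacency57.not_dvd_sub_one_of_ord (hk ▸ h2k) (hr3.symm ▸ h3)
  · have hkone : k = 1 := by omega
    have hrq : r ∣ Fintype.card F - 1 := by
      have := (PSLAdjacency57.dvd_pow_sub_one_iff (F := F) (r := r) 1).2 (by rw [← hk, hkone])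
      rwa [pow_one] at this
    constructor
    · intro h
      by_cases hn2 : n = 2
      · left; omega
      by_cases hn4 : 4 ≤ n
      · exact absurd (PSLAdjacency57.sufficient_rp_four p hr hrp hrq hn4) h
      right
      have hn3 : n = 3 := by omega
      by_cases hr3 : r = 3
      · refine ⟨hn3, hr3, hr3 ▸ hrq, fun h9 => h ?_⟩
        obtain ⟨u, hu⟩ := IsCyclic.exists_ofOrder_eq_natCard (α := Fˣ)
        rw [Nat.card_eq_fintype_card, Fintype.card_units] at hu
        obtain ⟨a, ha⟩ : ∃ a : Fˣ, orderOf a = 9 :=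
          ⟨u ^ (orderOf u / 9), orderOf_pow_orderOf_div (orderOf_pos u).ne' (hu.symm ▸ h9)⟩
        refine PSLAdjacency57.sufficient_rp_three p hr hrp hn3 a ?_ ?_
        · rw [show 3 * r = orderOf a by omega, pow_orderOf_eq_one]
        · intro h3
          have := Nat.le_of_dvd (by norm_num) (orderOf_dvd_of_pow_eq_one h3)
          omega
      · exfalso
        haveI := Fact.mk hr
        obtain ⟨a, ha⟩ := exists_prime_orderOf_dvd_card' (G := Fˣ) r
          (by rwa [Nat.card_eq_fintype_card, Fintype.card_units])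
        refine h (PSLAdjacency57.sufficient_rp_three p hr hrp hn3 a ?_ ?_)
        · rw [mul_comm, pow_mul, ← ha, pow_orderOf_eq_one, one_pow]
        · intro h3
          have hd := orderOf_dvd_of_pow_eq_one h3
          rw [ha] at hd
          exact hr3 ((Nat.prime_dvd_prime_iff_eq hr Nat.prime_three).1 hd)
    · rintro (h | ⟨hn3, hr3, -, h9⟩)
      · exact PSLAdjacency57.not_rp_two p (by omega) hr hrp
      · subst hr3
        exact PSLAdjacency57.not_rp_three p hn3 hrp h9

end Cfsg.Agent.S2470
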