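import Cfsg.Statements.S2471
import Cfsg.Agent.Lib.PSL2Proj52

set_option autoImplicit false
open Cfsg

namespace Cfsg.Agent.S2471

lemma arith {p q : ℕ} (hp : p.Prime) (hq : p ∣ q) (h1 : 1 ≤ q) (hd : p ∣ q - 1 ∨ p ∣ q + 1) :
    False := by
  rcases hd with h | h
  · have := Nat.dvd_sub hq h
    rw [Nat.sub_sub_self h1] at this
    exact hp.ne_one (Nat.dvd_one.1 this)
  · have := Nat.dvd_sub h hq
    rw [Nat.add_sub_cancel_left] at this
    exact hp.ne_one (Nat.dvd_one.1 this)


/-- In PSL(2,q) with q odd, the characteristic p is isolated from 2 in the prime graph: for F a finite field of odd characteristic p with at least 5 elements, PSL(2,F) has no element of order 2p. -/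
theorem result {F : Type*} [Field F] [Fintype F] (p : ℕ) [Fact p.Prime] [CharP F p] (hp : p ≠ 2) (h5 : 5 ≤ Fintype.card F) (g : Matrix.ProjectiveSpecialLinearGroup (Fin 2) F) :
    orderOf g ≠ 2 * p := by
  intro hg
  have hp' : p.Prime := Fact.out
  have hq1 : 1 ≤ Nat.card F := (PSLCard.one_lt_card F).le
  have hpq : p ∣ Nat.card F := by
    obtain ⟨n, -, hn⟩ := FiniteField.card F p
    rw [Nat.card_eq_fintype_card, hn]
    exact dvd_pow_self p n.ne_zero
  rcases PSL2Proj52.pow_cases p g with h | h | h <;> have hd := orderOf_dvd_of_pow_eq_one h <;>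
    rw [hg] at hd
  · have := Nat.le_of_dvd hp'.pos hd
    have := hp'.two_le
    omega
  · exact arith hp' hpq hq1 (Or.inl (((dvd_mul_left p 2).trans hd).trans
      (Nat.div_dvd_of_dvd PSL2Proj52.gcd_dvd.1)))
  · exact arith hp' hpq hq1 (Or.inr (((dvd_mul_left p 2).trans hd).trans
      (Nat.div_dvd_of_dvd PSL2Proj52.gcd_dvd.2)))

end Cfsg.Agent.S2471
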