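import Cfsg.Statements.S2472
import Cfsg.Agent.Lib.SympPrimeGraph
-- import your own Cfsg.Agent.* helpers here

set_option autoImplicit false
open Cfsg
open scoped Matrix

namespace Cfsg.Agent.S2472

/-- Adjacency of a prime and the characteristic in the prime graph of PSp(2n,q): let F be a finite field of characteristic p with q elements, n ≥ 2 with PSp(2n,F) simple, and let r ≠ p be an odd prime dividing the order of PSp(2n,F), with k the multiplicative order of q modulo r and η(k) = k for odd k, k/2 for even k. Then PSp(2n,F) has NO element of order r·p if and only if η(k) > n − 1. -/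
theorem result {F : Type*} [Field F] [Fintype F] (p : ℕ) [Fact p.Prime] [CharP F p] (n : ℕ) (hn : 2 ≤ n) (hsmall : n = 2 → 3 ≤ Fintype.card F)
    (r : ℕ) (hr : r.Prime) (hr2 : r ≠ 2) (hrp : r ≠ p) (hrG : r ∣ Nat.card (Cfsg.PSp n F))
    (k ηk : ℕ) (hk : k = orderOf ((Fintype.card F : ℕ) : ZMod r)) (hηk : (Odd k ∧ ηk = k) ∨ (Even k ∧ 2 * ηk = k)) :
    (r * p ∉ Set.range (orderOf : Cfsg.PSp n F → ℕ)) ↔ n - 1 < ηk := by
  classical
  have hp : p.Prime := Fact.out
  haveI : Fact r.Prime := ⟨hr⟩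
  set q := Fintype.card F with hq
  have hk0 : 0 < k := hk ▸ Cfsg.Agent.SympPrimeGraph.cast_pos (p := p) rfl hrp
  have hη1 := Cfsg.Agent.SympPrimeGraph.eta_pos hk0 hηk
  have hN : Odd (r * p) ∨ ∀ a : F, a ^ 2 = 1 → a = 1 := by
    rcases eq_or_ne p 2 with rfl | hp2
    · exact Or.inr fun a ha => by
        rcases sq_eq_one_iff.1 ha with h | h
        · exact h
        · rw [h, CharTwo.neg_eq]
    · exact Or.inl ((hr.odd_of_ne_two hr2).mul (hp.odd_of_ne_two hp2))
  rw [Cfsg.Agent.SympPrimeGraph.mem_range_PSp_iff (by omega) hN]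
  have hco : r.Coprime p := (Nat.coprime_primes hr hp).2 hrp
  constructor
  · intro hno
    by_contra hle
    obtain ⟨b, rfl⟩ : ∃ b, n = ηk + b := ⟨n - ηk, by omega⟩
    obtain ⟨x, hx⟩ := Cfsg.Agent.SympPrimeGraph.exists_prime_order (F := F) (n := ηk) hq.symm hk hηk hη1 le_rfl
    let v : Fin b ⊕ Fin b → F := Pi.single (Sum.inl ⟨0, by omega⟩) 1
    have hy : orderOf (Cfsg.Agent.SymplecticBasic.transv v (1 : F)) = p := by
      refine orderOf_eq_prime ?_ ?_
      · have : ∀ m : ℕ, Cfsg.Agent.SymplecticBasic.transv v (1 : F) ^ m =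
            Cfsg.Agent.SymplecticBasic.transv v (m : F) := by
          intro m
          induction m with
          | zero => rw [pow_zero, Nat.cast_zero, Cfsg.Agent.SymplecticBasic.transv_zero]
          | succ m ih => rw [pow_succ, ih, Cfsg.Agent.SymplecticBasic.transv_add, Nat.cast_succ]
        rw [this, CharP.cast_eq_zero, Cfsg.Agent.SymplecticBasic.transv_zero]
      · intro h
        have h1 := congrFun (Cfsg.Agent.SymplecticBasic.transv_smul v (1 : F)
          (Pi.single (Sum.inr ⟨0, by omega⟩) 1)) (Sum.inl ⟨0, by omega⟩)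
        rw [h, one_smul, Cfsg.Agent.SymplecticBasic.form_single_inl_right] at h1
        simp [v] at h1
    exact hno ⟨_, Cfsg.Agent.SympPrimeGraph.orderOf_block hco x _ hx hy⟩
  · rintro hlt ⟨h, hh⟩
    obtain ⟨μ, hm, hirr, hd, hnd⟩ : ∃ μ : Polynomial F, μ.Monic ∧ Irreducible μ ∧ μ ∣ h.1.charpoly ∧
        ¬ μ ∣ Polynomial.X ^ p - 1 := by
      by_contra hall
      push Not at hall
      obtain ⟨l, hl⟩ := Cfsg.Agent.SympPrimeGraph.orderOf_dvd_of_factors (p := p) h hall
      rw [hh, ← pow_succ'] at hl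
      exact hrp ((Nat.prime_dvd_prime_iff_eq hr hp).1
        (hr.dvd_of_dvd_pow ((dvd_mul_right r p).trans hl)))
    have hdr : μ ∣ Polynomial.X ^ r - 1 := by
      have h1 := Cfsg.Agent.SympPrimeGraph.dvd_X_pow_sub_one h hirr hd
      rw [hh, pow_mul, show ((Polynomial.X : Polynomial F) ^ r) ^ p - 1 = (Polynomial.X ^ r - 1) ^ p by
        rw [sub_pow_char, one_pow]] at h1
      exact hirr.prime.dvd_of_dvd_pow h1
    have hne : μ ≠ Cfsg.Agent.PrimeOrderClassCount.lin F := fun he =>
      hnd (he ▸ Cfsg.Agent.PrimeOrderClassCount.lin_dvd_X_pow_sub_one p)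
    obtain ⟨B, hBm, hBd, hBr, -, hBP⟩ := Cfsg.Agent.SympPrimeGraph.exists_prime_block (p := p) hq.symm hr
      hr2 hrp hk hηk (μ := μ) ⟨hm, hirr, hdr, hne⟩
    have hB := hBP _ (Cfsg.Agent.SympPrimeGraph.charpoly_mirror h) hd
    have heq : B = h.1.charpoly := by
      refine (Polynomial.eq_of_monic_of_dvd_of_natDegree_le hBm (Matrix.charpoly_monic _) hB ?_).symm
      rw [Cfsg.Agent.SympPrimeGraph.natDegree_charpoly, hBd]; omega
    obtain ⟨Z, hZ⟩ := hBr
    have h2 := congrArg (Polynomial.aeval h.1) hZ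
    rw [map_mul, heq, Matrix.aeval_self_charpoly, zero_mul, map_sub, map_pow, Polynomial.aeval_X, map_one,
      sub_eq_zero, ← SubmonoidClass.coe_pow] at h2
    have h3 := orderOf_dvd_of_pow_eq_one (Subtype.ext h2 : h ^ r = 1)
    rw [hh] at h3
    have := Nat.le_of_dvd hr.pos h3
    have h4 : r * 2 ≤ r * p := Nat.mul_le_mul_left r hp.two_le
    have := hr.pos
    omega

end Cfsg.Agent.S2472
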