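import Cfsg.Statements.S2477
import Mathlib

set_option autoImplicit false
open Cfsg

namespace Cfsg.Agent.S2477

open Equiv Equiv.Perm

/-- All pairs (lcm, parity of `sum + card`) of multisets of parts `≥ 2` with sum `≤ n`. -/
def reach : ℕ → ℕ → List (ℕ × Bool)
  | 0, _ => [(1, true)]
  | f + 1, n => (1, true) :: (List.range (n + 1)).flatMap fun a =>
      if 2 ≤ a then (reach f (n - a)).map fun p => (Nat.lcm a p.1, if a % 2 = 1 then p.2 else !p.2)
      else []

lemma mem_reach : ∀ (l : List ℕ), (∀ a ∈ l, 2 ≤ a) → ∀ f n, l.sum ≤ n → n ≤ f →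
    ((Multiset.ofList l).lcm, decide ((l.sum + l.length) % 2 = 0)) ∈ reach f n := by
  intro l
  induction l with
  | nil => intro _ f n _ _; cases f <;> simp [reach]
  | cons a l ih =>
    intro h f n hn hf
    have ha := h a (List.mem_cons_self ..)
    rw [List.sum_cons] at hn
    obtain ⟨f, rfl⟩ := Nat.exists_eq_add_of_le' (show 1 ≤ f by omega)
    have := ih (fun b hb => h b (List.mem_cons_of_mem _ hb)) f (n - a) (by omega) (by omega)
    rw [reach]
    refine List.mem_cons_of_mem _ (List.mem_flatMap.2 ⟨a, List.mem_range.2 (by omega), ?_⟩)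
    rw [if_pos ha]
    refine List.mem_map.2 ⟨_, this, ?_⟩
    refine Prod.ext ?_ ?_
    · rw [← Multiset.cons_coe, Multiset.lcm_cons]; rfl
    · dsimp only
      rw [List.sum_cons, List.length_cons]
      split_ifs with h' <;> first
        | exact decide_eq_decide.2 (by omega)
        | (rw [← decide_not]; exact decide_eq_decide.2 (by omega))

lemma of_reach : ∀ f n p, p ∈ reach f n → ∃ l : List ℕ, (∀ a ∈ l, 2 ≤ a) ∧ l.sum ≤ n ∧
    (Multiset.ofList l).lcm = p.1 ∧ decide ((l.sum + l.length) % 2 = 0) = p.2 := by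
  intro f
  induction f with
  | zero => intro n p hp; simp [reach] at hp; exact ⟨[], by simp, by simp, by simp [hp]⟩
  | succ f ih =>
    intro n p hp
    rw [reach, List.mem_cons] at hp
    rcases hp with rfl | hp
    · exact ⟨[], by simp, by simp, by simp⟩
    obtain ⟨a, ha, hp⟩ := List.mem_flatMap.1 hp
    by_cases h2 : 2 ≤ a
    · rw [if_pos h2] at hp
      obtain ⟨q, hq, rfl⟩ := List.mem_map.1 hp
      obtain ⟨l, h1, hs, hl, hb⟩ := ih _ _ hq
      rw [List.mem_range] at ha
      refine ⟨a :: l, by simpa [h2] using h1, by rw [List.sum_cons]; omega, ?_, ?_⟩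
      · rw [← Multiset.cons_coe, Multiset.lcm_cons, hl]; rfl
      · dsimp only
        rw [← hb, List.sum_cons, List.length_cons]
        split_ifs with h' <;> first
        | exact decide_eq_decide.2 (by omega)
        | (rw [← decide_not]; exact decide_eq_decide.2 (by omega))
    · simp [if_neg h2] at hp


/-- The set of element orders of the alternating group of degree 10 is {1, 2, 3, 4, 5, 6, 7, 8, 9, 10, 12, 15, 21}. -/
theorem result : Set.range (orderOf : alternatingGroup (Fin 10) → ℕ) = {1, 2, 3, 4, 5, 6, 7, 8, 9, 10, 12, 15, 21} := by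
  ext o
  have key : ∀ p ∈ reach 10 10, p.2 = true → p.1 ∈ [1, 2, 3, 4, 5, 6, 7, 8, 9, 10, 12, 15, 21] := by
    decide +kernel
  have key2 : ∀ o ∈ [1, 2, 3, 4, 5, 6, 7, 8, 9, 10, 12, 15, 21], (o, true) ∈ reach 10 10 := by
    decide +kernel
  constructor
  · rintro ⟨g, rfl⟩
    obtain ⟨l, hl⟩ : ∃ l : List ℕ, (l : Multiset ℕ) = (g : Equiv.Perm (Fin 10)).cycleType :=
      Quot.exists_rep _
    have hs : l.sum ≤ 10 := by
      rw [← Multiset.sum_coe, hl, sum_cycleType]
      simpa using Finset.card_le_univ (g : Equiv.Perm (Fin 10)).support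
    have h := mem_reach l (fun a ha => two_le_of_mem_cycleType (by rw [← hl]; simpa using ha)) 10 10 hs le_rfl
    have he : (l.sum + l.length) % 2 = 0 := by
      have hsgn := mem_alternatingGroup.1 g.2
      rw [sign_of_cycleType, ← hl, Multiset.sum_coe, Multiset.coe_card] at hsgn
      exact Nat.even_iff.1 ((neg_one_pow_eq_one_iff_even (by decide : (-1 : ℤˣ) ≠ 1)).1 hsgn)
    have := key _ h (by simpa using he)
    rw [hl, lcm_cycleType, Subgroup.orderOf_coe] at this
    simpa using this
  · intro ho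
    obtain ⟨l, h2, hs, hlcm, hb⟩ := of_reach _ _ _ (key2 o (by simpa using ho))
    obtain ⟨g, hg⟩ := (exists_with_cycleType_iff (α := Fin 10) (m := (l : Multiset ℕ))).2
      ⟨by simpa using hs, fun a ha => h2 a (by simpa using ha)⟩
    refine ⟨⟨g, ?_⟩, ?_⟩
    · rw [mem_alternatingGroup, sign_of_cycleType, hg, Multiset.sum_coe, Multiset.coe_card]
      exact (Nat.even_iff.2 (by simpa using hb)).neg_one_pow
    · rw [← Subgroup.orderOf_coe, ← lcm_cycleType, hg, hlcm]

end Cfsg.Agent.S2477
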