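import Cfsg.Statements.S2479
import Cfsg.Agent.Lib.PSLClassNumber53

set_option autoImplicit false
open Cfsg

namespace Cfsg.Agent.S2479

/-- The number of conjugacy classes of SL(n,q): for F a finite field with q elements, the number k of conjugacy classes of SL(n,F) satisfies q^(n−1) < k and k ≤ (5/2)·q^(n−1) for n ≥ 2, and k ≤ q^(n−1) + 3q^(n−2) for n ≥ 3. -/
theorem result {F : Type*} [Field F] [Fintype F] (n : ℕ) (hn : 2 ≤ n) :
    Fintype.card F ^ (n - 1) < Nat.card (ConjClasses (Matrix.SpecialLinearGroup (Fin n) F)) ∧ 2 * Nat.card (ConjClasses (Matrix.SpecialLinearGroup (Fin n) F)) ≤ 5 * Fintype.card F ^ (n - 1) ∧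
      (3 ≤ n → Nat.card (ConjClasses (Matrix.SpecialLinearGroup (Fin n) F)) ≤ Fintype.card F ^ (n - 1) + 3 * Fintype.card F ^ (n - 2)) := by
  refine ⟨Cfsg.Agent.PSLClassNumber53.sl_lower n hn, ?_, fun h3 => ?_⟩
  · rcases Nat.lt_or_ge n 3 with h | h
    · obtain rfl : n = 2 := by omega
      exact Cfsg.Agent.PSLClassNumber53.sl_two_bound
    · haveI : NeZero n := ⟨by omega⟩
      have hb := Cfsg.Agent.PSLClassNumber53.sl_bound (F := F) n h
      have hq : 2 ≤ Fintype.card F := Fintype.one_lt_card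
      obtain ⟨m, rfl⟩ : ∃ m, n = m + 2 := ⟨n - 2, by omega⟩
      rw [show m + 2 - 1 = m + 1 from rfl, show m + 2 - 2 = m from rfl] at *
      have := Nat.mul_le_mul_right (Fintype.card F ^ m) hq
      rw [pow_succ'] at hb ⊢
      omega
  · haveI : NeZero n := ⟨by omega⟩
    exact Cfsg.Agent.PSLClassNumber53.sl_bound n h3

end Cfsg.Agent.S2479
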