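import Cfsg.Statements.S2482
import Cfsg.Agent.Lib.FormTransport53
import Cfsg.Agent.Lib.SympSemisimpleClasses

set_option autoImplicit false
open Cfsg

namespace Cfsg.Agent.S2482

open Cfsg.Agent.FormMatrix53 Cfsg.Agent.FormTransport53 Cfsg.Agent.SymplecticBasic in
theorem upper {F : Type*} [Field F] [Fintype F] (h2 : (2 : F) ≠ 0) (hq : 3 ≤ Fintype.card F) (n : ℕ) (hn : 1 ≤ n) :
    5 * Nat.card (ConjClasses (Matrix.symplecticGroup (Fin n) F)) ≤ 54 * Fintype.card F ^ n := by
  haveI : NeZero (n + n) := ⟨by omega⟩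
  let f : ↥(Matrix.symplecticGroup (Fin n) F) →* GL (Fin n ⊕ Fin n) F :=
    (Submonoid.subtype (Matrix.symplecticGroup (Fin n) F)).toHomUnits
  let B : LinearMap.BilinForm F (Fin n ⊕ Fin n → F) := LinearMap.mk₂ F (Cfsg.sympForm n F)
    form_add_left form_smul_left form_add_right form_smul_right
  obtain ⟨h, -⟩ := card_classes_le finSumFinEquiv (δ := (-1 : F)) (Or.inr rfl) h2 f
    (fun a b hab => Subtype.ext (congrArg Units.val hab)) B (fun x y => by simp [B, form_swap x y])
    (fun x hx => form_nondeg hx) (fun g x y => mem_sp_iff_form.1 g.2 x y)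
    (fun g hg => ⟨⟨g.1, mem_sp_iff_form.2 hg⟩, Units.ext rfl⟩)
  have h' := h.trans (FormTuples53.sum_pow_sig_le h2 (fun s => s % 2 == 0) fun s hs => ?_)
  · have := FormCountArith53.symp_le hq (n + n) n (by omega)
    rw [show n + n = 2 * n by omega] at h'
    rw [show n + n = 2 * n by omega] at this
    omega
  · simp only [sign, beq_iff_eq]
    rcases Nat.even_or_odd (s - 1) with he | he
    · have h1 : s % 2 ≠ 0 := by obtain ⟨k, hk⟩ := he; omega
      refine ⟨fun h => absurd h h1, fun h => absurd ?_ h2⟩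
      rw [he.neg_one_pow] at h
      linear_combination -h
    · have h1 : s % 2 = 0 := by obtain ⟨k, hk⟩ := he; omega
      exact ⟨fun _ => by rw [he.neg_one_pow]; ring, fun _ => h1⟩

/-- The number of conjugacy classes of Sp(2n,q), q odd: for F a finite field of odd order q and n ≥ 1, the number k of conjugacy classes of Sp(2n,F) satisfies q^n ≤ k ≤ 10.8·q^n. -/
theorem result {F : Type*} [Field F] [Fintype F] (hodd : Odd (Fintype.card F)) (n : ℕ) (hn : 1 ≤ n) :
    Fintype.card F ^ n ≤ Nat.card (ConjClasses (Matrix.symplecticGroup (Fin n) F)) ∧ 5 * Nat.card (ConjClasses (Matrix.symplecticGroup (Fin n) F)) ≤ 54 * Fintype.card F ^ n := by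
  classical
  obtain ⟨p, hp⟩ := CharP.exists F
  haveI : Fact p.Prime := ⟨(CharP.char_is_prime_or_zero F p).resolve_right fun h => by
    subst h
    haveI := CharP.charP_to_charZero F
    exact (Infinite.of_injective _ (Nat.cast_injective (R := F))).not_finite inferInstance⟩
  have h2 : (2 : F) ≠ 0 := by
    intro h
    haveI : CharP F 2 := CharTwo.of_one_ne_zero_of_two_eq_zero one_ne_zero h
    have := FiniteField.even_card_of_char_two (F := F) (ringChar.eq F 2)
    rw [Nat.odd_iff] at hodd
    omega
  have hq : 3 ≤ Fintype.card F := by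
    have := Fintype.one_lt_card (α := F)
    rw [Nat.odd_iff] at hodd
    omega
  refine ⟨?_, upper h2 hq n hn⟩
  rw [← Cfsg.Agent.SympSemisimpleClasses.card_classes (F := F) (n := n) (p := p)]
  exact Finite.card_subtype_le _

end Cfsg.Agent.S2482
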