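import Cfsg.Statements.S2485
import Cfsg.Agent.Lib.PSLCard

set_option autoImplicit false
open scoped Pointwise
open Cfsg

namespace Cfsg.Agent.S2485

open Matrix

section
variable {K : Type*} [Field K]

/-- `J`, with square `-1`. -/
def J : GL (Fin 2) K :=
  ⟨!![0, -1; 1, 0], !![0, 1; -1, 0],
    by ext i j; fin_cases i <;> fin_cases j <;> simp [mul_apply, Fin.sum_univ_two],
    by ext i j; fin_cases i <;> fin_cases j <;> simp [mul_apply, Fin.sum_univ_two]⟩

lemma J_coe : ((J : GL (Fin 2) K) : Matrix (Fin 2) (Fin 2) K) = !![0, -1; 1, 0] := rfl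

lemma J_sq : ((J : GL (Fin 2) K) : Matrix (Fin 2) (Fin 2) K) * ((J : GL (Fin 2) K) : Matrix (Fin 2) (Fin 2) K) = -1 := by
  rw [J_coe]
  ext i j; fin_cases i <;> fin_cases j <;> simp [mul_apply, Fin.sum_univ_two]

lemma mem_centralizer_mk (g A : GL (Fin 2) K)
    (h : (g : Matrix (Fin 2) (Fin 2) K) * A = (A : Matrix (Fin 2) (Fin 2) K) * g ∨
      (g : Matrix (Fin 2) (Fin 2) K) * A = -((A : Matrix (Fin 2) (Fin 2) K) * g)) :
    (QuotientGroup.mk g : GL (Fin 2) K ⧸ Subgroup.center (GL (Fin 2) K)) ∈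
      Subgroup.centralizer {(QuotientGroup.mk A : GL (Fin 2) K ⧸ Subgroup.center (GL (Fin 2) K))} := by
  rw [Subgroup.mem_centralizer_singleton_iff, ← QuotientGroup.mk_mul, ← QuotientGroup.mk_mul,
    QuotientGroup.eq, Subgroup.mem_center_iff]
  intro u
  rcases h with h | h
  · have : g * A = A * g := Units.ext h
    simp [this]
  · have : g * A = -(A * g) := Units.ext (by simpa using h)
    simp [this]

lemma anti_form {W : Matrix (Fin 2) (Fin 2) K}
    (h : W * !![0, -1; 1, 0] = -(!![0, -1; 1, 0] * W)) : W = !![W 0 0, W 0 1; W 0 1, -W 0 0] := by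
  have h1 := congrFun (congrFun h 0) 0
  have h2 := congrFun (congrFun h 0) 1
  simp [Matrix.vecMul, dotProduct, mul_apply, Fin.sum_univ_two] at h1 h2
  ext i j
  fin_cases i <;> fin_cases j <;> simp
  · exact h1.symm
  · linear_combination -h2

lemma det_ne {a b : K} (hns : ∀ r : K, r ^ 2 ≠ -1) (hab : (a, b) ≠ (0, 0)) : a * a + b * b ≠ 0 := by
  intro h
  by_cases hb : b = 0
  · subst hb; simp at h hab; exact hab h
  · apply hns (a / b)
    field_simp
    linear_combination h

lemma card_centralizer_ge [Finite K] (hns : ∀ r : K, r ^ 2 ≠ -1) (h2 : (2 : K) ≠ 0) :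
    Nat.card (((Subgroup.centralizer {(QuotientGroup.mk J : GL (Fin 2) K ⧸ Subgroup.center (GL (Fin 2) K))})).comap
      (QuotientGroup.mk' _)) = 2 * (Nat.card K ^ 2 - 1) := by
  classical
  set P := (Subgroup.centralizer {(QuotientGroup.mk J : GL (Fin 2) K ⧸ Subgroup.center (GL (Fin 2) K))}).comap
      (QuotientGroup.mk' _) with hP
  let g : {v : K × K // v ≠ (0, 0)} ⊕ {v : K × K // v ≠ (0, 0)} → GL (Fin 2) K := fun o => o.elim
    (fun v => GeneralLinearGroup.mkOfDetNeZero !![v.1.1, -v.1.2; v.1.2, v.1.1]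
      (by simpa [det_fin_two] using det_ne hns v.2))
    (fun v => GeneralLinearGroup.mkOfDetNeZero !![v.1.1, v.1.2; v.1.2, -v.1.1]
      (by
        rw [det_fin_two]
        intro h
        simp at h
        exact det_ne hns v.2 (by linear_combination -h)))
  have hg : ∀ o, g o ∈ P := by
    rintro (v | v)
    · exact mem_centralizer_mk _ _ (Or.inl (by
        ext i j; fin_cases i <;> fin_cases j <;>
          simp [g, J_coe, GeneralLinearGroup.mkOfDetNeZero, mul_apply, Fin.sum_univ_two]))
    · exact mem_centralizer_mk _ _ (Or.inr (by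
        ext i j; fin_cases i <;> fin_cases j <;>
          simp [g, J_coe, GeneralLinearGroup.mkOfDetNeZero, mul_apply, Fin.sum_univ_two]))
  have hbij : Function.Bijective (fun o => (⟨g o, hg o⟩ : P)) := by
    constructor
    · intro o o' h
      have h0 : (g o).val = (g o').val := congrArg (fun x : P => (x.1 : GL (Fin 2) K).val) h
      have e00 := congrFun (congrFun h0 0) 0
      have e01 := congrFun (congrFun h0 0) 1
      have e10 := congrFun (congrFun h0 1) 0
      have e11 := congrFun (congrFun h0 1) 1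
      rcases o with ⟨⟨a, b⟩, hab⟩ | ⟨⟨a, b⟩, hab⟩ <;> rcases o' with ⟨⟨c, d⟩, hcd⟩ | ⟨⟨c, d⟩, hcd⟩ <;>
        simp [g, GeneralLinearGroup.mkOfDetNeZero] at e00 e01 e10 e11
      · subst e00 e01; rfl
      · exfalso
        apply hcd
        have hc : (2 : K) * c = 0 := by linear_combination e11 - e00
        have hd : (2 : K) * d = 0 := by linear_combination -e01 - e10
        rw [(mul_eq_zero.1 hc).resolve_left h2, (mul_eq_zero.1 hd).resolve_left h2]
      · exfalso
        apply hab
        have ha : (2 : K) * a = 0 := by linear_combination e00 - e11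
        have hb : (2 : K) * b = 0 := by linear_combination e01 + e10
        rw [(mul_eq_zero.1 ha).resolve_left h2, (mul_eq_zero.1 hb).resolve_left h2]
      · subst e00 e01; rfl
    · rintro ⟨x, hx⟩
      rw [hP, Subgroup.mem_comap, QuotientGroup.mk'_apply, Subgroup.mem_centralizer_singleton_iff,
        ← QuotientGroup.mk_mul, ← QuotientGroup.mk_mul, QuotientGroup.eq] at hx
      rw [GeneralLinearGroup.center_eq_range_scalar] at hx
      obtain ⟨z, hz⟩ := hx
      have hxJ : (J * x : GL (Fin 2) K) = x * J * GeneralLinearGroup.scalar (Fin 2) z := by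
        rw [hz, mul_inv_cancel_left]
      have hm : ((J : GL (Fin 2) K).val * x.val) = (z : K) • (x.val * (J : GL (Fin 2) K).val) := by
        rw [← Units.val_mul, hxJ, Units.val_mul, Units.val_mul]
        ext i j
        fin_cases i <;> fin_cases j <;> simp [mul_apply, Fin.sum_univ_two, J_coe] <;> ring
      rw [J_coe] at hm
      have m00 := congrFun (congrFun hm 0) 0
      have m01 := congrFun (congrFun hm 0) 1
      have m10 := congrFun (congrFun hm 1) 0
      have m11 := congrFun (congrFun hm 1) 1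
      simp [mul_apply, Fin.sum_univ_two, Matrix.smul_apply] at m00 m01 m10 m11
      have hne : (x.val 0 0, x.val 1 0) ≠ (0, 0) := by
        intro h
        simp at h
        have := (x.isUnit.map Matrix.detMonoidHom).ne_zero
        simp [det_fin_two, h.1, h.2] at this
      have hz1 : ((z : K) - 1) * ((z : K) + 1) = 0 := by
        by_cases h0 : x.val 0 0 = 0
        · have h1 : x.val 1 0 ≠ 0 := fun h1 => hne (by rw [h0, h1])
          apply (mul_eq_zero.1 (show x.val 1 0 * (((z : K) - 1) * ((z : K) + 1)) = 0 by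
            linear_combination m00 + (z : K) * m11)).resolve_left h1
        · apply (mul_eq_zero.1 (show x.val 0 0 * (((z : K) - 1) * ((z : K) + 1)) = 0 by
            linear_combination -m10 - (z : K) * m01)).resolve_left h0
      rcases mul_eq_zero.1 hz1 with h | h
      · have hz' : (z : K) = 1 := sub_eq_zero.1 h
        refine ⟨Sum.inl ⟨(x.val 0 0, x.val 1 0), hne⟩, Subtype.ext (Units.ext ?_)⟩
        rw [hz'] at m00 m01 m10 m11
        ext i j
        fin_cases i <;> fin_cases j <;> simp [g, GeneralLinearGroup.mkOfDetNeZero]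
        · linear_combination m00
        · linear_combination m10
      · have hz' : (z : K) = -1 := eq_neg_of_add_eq_zero_left h
        refine ⟨Sum.inr ⟨(x.val 0 0, x.val 1 0), hne⟩, Subtype.ext (Units.ext ?_)⟩
        rw [hz'] at m00 m01 m10 m11
        ext i j
        fin_cases i <;> fin_cases j <;> simp [g, GeneralLinearGroup.mkOfDetNeZero]
        · linear_combination -m00
        · linear_combination -m10
  rw [← Nat.card_eq_of_bijective _ hbij, Nat.card_sum]
  have : Nat.card {v : K × K // v ≠ (0, 0)} = Nat.card K ^ 2 - 1 := by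
    have := Fintype.ofFinite K
    rw [Nat.card_eq_fintype_card, Fintype.card_subtype_compl, Fintype.card_subtype_eq, Fintype.card_prod,
      Nat.card_eq_fintype_card, sq]
  omega

lemma ring_anti {R : Type*} [Ring R] {j a : R} (hj : j * j = -1) :
    (j * a - a * j) * j = -(j * (j * a - a * j)) := by
  rw [sub_mul, mul_sub, mul_assoc a j j, hj, ← mul_assoc j j a, hj, ← mul_assoc j a j]
  simp


lemma ring_anti' {R : Type*} [Ring R] {j a : R} (ha : a * a = -1) :
    (j * a - a * j) * a = -(a * (j * a - a * j)) := by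
  rw [sub_mul, mul_sub, mul_assoc j a a, ha, ← mul_assoc a a j, ha, ← mul_assoc a j a]
  simp
  abel

lemma meet (hns : ∀ r : K, r ^ 2 ≠ -1) (y : GL (Fin 2) K ⧸ Subgroup.center (GL (Fin 2) K)) :
    ∃ w ∈ Subgroup.centralizer {(QuotientGroup.mk J : GL (Fin 2) K ⧸ Subgroup.center (GL (Fin 2) K))}, w ≠ 1 ∧
      w ∈ Subgroup.centralizer {y * QuotientGroup.mk J * y⁻¹} := by
  obtain ⟨h, rfl⟩ := QuotientGroup.mk_surjective y
  set A : GL (Fin 2) K := h * J * h⁻¹ with hA
  have hmk : QuotientGroup.mk h * QuotientGroup.mk J * (QuotientGroup.mk h)⁻¹ =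
      (QuotientGroup.mk A : GL (Fin 2) K ⧸ Subgroup.center (GL (Fin 2) K)) := rfl
  rw [hmk]
  have hA2 : A.val * A.val = -1 := by
    calc A.val * A.val = h.val * (J : GL (Fin 2) K).val * (h⁻¹.val * h.val) * (J : GL (Fin 2) K).val * h⁻¹.val := by
          rw [hA]; simp [mul_assoc]
      _ = _ := by simp [mul_assoc h.val, J_sq]
  have notcentral : ∀ w : GL (Fin 2) K, w.val * (J : GL (Fin 2) K).val = -((J : GL (Fin 2) K).val * w.val) →
      (2 : K) ≠ 0 → (QuotientGroup.mk w : GL (Fin 2) K ⧸ Subgroup.center (GL (Fin 2) K)) ≠ 1 := by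
    intro w hw h2 he
    rw [QuotientGroup.eq_one_iff, Subgroup.mem_center_iff] at he
    have h1 : (J : GL (Fin 2) K).val * w.val = w.val * (J : GL (Fin 2) K).val := congrArg Units.val (he J)
    rw [hw] at h1
    have h3 : (2 : K) • ((J : GL (Fin 2) K).val * w.val) = 0 := by
      rw [two_smul]; nth_rewrite 1 [h1]; exact neg_add_cancel _
    have h4 : ((J * w : GL (Fin 2) K)).val = 0 := (smul_eq_zero.1 h3).resolve_left h2
    exact (J * w).ne_zero h4
  have h2 : (2 : K) ≠ 0 := fun h2 => hns 1 (by linear_combination h2)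
  by_cases hc : (J : GL (Fin 2) K).val * A.val = A.val * (J : GL (Fin 2) K).val
  · refine ⟨_, Subgroup.mem_centralizer_singleton_iff.2 rfl, ?_, mem_centralizer_mk _ _ (Or.inl hc)⟩
    intro he
    rw [QuotientGroup.eq_one_iff, Subgroup.mem_center_iff] at he
    have hW := he (GeneralLinearGroup.mkOfDetNeZero !![1, 1; 0, 1] (by simp [det_fin_two]))
    have hW' := congrArg (fun u : GL (Fin 2) K => (u : Matrix (Fin 2) (Fin 2) K) 0 0) hW

    simp [GeneralLinearGroup.mkOfDetNeZero, J_coe, mul_apply, Fin.sum_univ_two] at hW'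
  · set W := (J : GL (Fin 2) K).val * A.val - A.val * (J : GL (Fin 2) K).val with hW
    have hWJ : W * (J : GL (Fin 2) K).val = -((J : GL (Fin 2) K).val * W) := ring_anti J_sq
    have hWA : W * A.val = -(A.val * W) := ring_anti' hA2
    have hform := anti_form (W := W) (by rw [← J_coe]; exact hWJ)
    have hdet : W.det ≠ 0 := by
      rw [hform, det_fin_two]
      have hab : (W 0 0, W 0 1) ≠ (0, 0) := by
        intro h
        simp at h
        apply hc
        rw [← sub_eq_zero, ← hW, hform, h.1, h.2]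
        ext i j; fin_cases i <;> fin_cases j <;> simp
      simp
      intro h
      exact det_ne hns hab (by linear_combination -h)
    refine ⟨QuotientGroup.mk (GeneralLinearGroup.mkOfDetNeZero W hdet),
      mem_centralizer_mk _ _ (Or.inr hWJ), notcentral _ hWJ h2, mem_centralizer_mk _ _ (Or.inr hWA)⟩

end


/-- Let q = 2^k − 1 ≥ 7 be a prime and let G = PGL(2,q), the general linear group of degree 2 over the field with q elements modulo its centre. Then any two Sylow 2-subgroups of G have a non-trivial intersection: for a Sylow 2-subgroup H and every x ∈ G, H ∩ H^x ≠ 1. -/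
theorem result {q k : ℕ} [Fact q.Prime] (hk : q + 1 = 2 ^ k) (hq : 7 ≤ q)
    (H : Sylow 2 (GL (Fin 2) (ZMod q) ⧸ Subgroup.center (GL (Fin 2) (ZMod q))))
    (x : GL (Fin 2) (ZMod q) ⧸ Subgroup.center (GL (Fin 2) (ZMod q))) :
    (H : Subgroup (GL (Fin 2) (ZMod q) ⧸ Subgroup.center (GL (Fin 2) (ZMod q)))) ⊓ MulAut.conj x • (H : Subgroup _) ≠ ⊥ := by
  classical
  have hk3 : 3 ≤ k := by
    by_contra h
    have : 2 ^ k ≤ 2 ^ 2 := Nat.pow_le_pow_right two_pos (by omega)
    omega
  obtain ⟨j, rfl⟩ := Nat.exists_eq_add_of_le hk3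
  have hq4 : q % 4 = 3 := by
    rw [pow_add] at hk
    omega
  have hns : ∀ r : ZMod q, r ^ 2 ≠ -1 := by
    intro r hr
    have h := FiniteField.isSquare_neg_one_iff.1 (⟨r, by rw [← hr, sq]⟩ : IsSquare (-1 : ZMod q))
    rw [ZMod.card] at h
    exact h hq4
  have h2 : (2 : ZMod q) ≠ 0 := fun h2 => hns 1 (by linear_combination h2)
  let G := GL (Fin 2) (ZMod q) ⧸ Subgroup.center (GL (Fin 2) (ZMod q))
  let N : Subgroup G := Subgroup.centralizer {QuotientGroup.mk J}
  have hGL : Nat.card (GL (Fin 2) (ZMod q)) = (q ^ 2 - 1) * (q ^ 2 - q) := by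
    rw [PSLCard.card_GL2, Nat.card_zmod]
  have hZ : Nat.card (Subgroup.center (GL (Fin 2) (ZMod q))) = q - 1 := by
    rw [PSLCard.card_center_GL, PSLCard.card_units_field, Nat.card_zmod]
  have hsq : q ^ 2 - q = q * (q - 1) := by rw [Nat.mul_sub, sq, mul_one]
  have hG : Nat.card G = q * (q ^ 2 - 1) := by
    have h := Subgroup.card_eq_card_quotient_mul_card_subgroup (Subgroup.center (GL (Fin 2) (ZMod q)))
    rw [hGL, hZ, hsq, ← mul_assoc] at h
    rw [mul_comm q]
    exact (Nat.eq_of_mul_eq_mul_right (show 0 < q - 1 by omega) h).symm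
  have hN : Nat.card N = 2 ^ (3 + j + 1) := by
    have hP := card_centralizer_ge hns h2
    rw [Nat.card_zmod] at hP
    have h := Subgroup.card_mul_index (N.comap (QuotientGroup.mk' (Subgroup.center (GL (Fin 2) (ZMod q)))))
    rw [hP, Subgroup.index_comap_of_surjective _ (QuotientGroup.mk'_surjective _), hGL, hsq] at h
    have h' := Subgroup.card_mul_index N
    rw [hG] at h'
    have hi : 0 < N.index := Nat.pos_of_ne_zero Subgroup.index_ne_zero_of_finite
    rw [pow_succ', ← hk]
    have e1 : q ^ 2 - 1 = (q + 1) * (q - 1) := by rw [← Nat.sq_sub_sq, one_pow]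
    rw [e1] at h h'
    have h0 : 0 < q - 1 := by omega
    apply Nat.eq_of_mul_eq_mul_right (Nat.mul_pos hi h0)
    calc Nat.card N * (N.index * (q - 1)) = q * ((q + 1) * (q - 1)) * (q - 1) := by rw [← mul_assoc, h']
      _ = 2 * ((q + 1) * (q - 1)) * N.index := by rw [h]; ring
      _ = _ := by ring
  have hidx : ¬ 2 ∣ N.index := by
    intro hd
    have h' := Subgroup.card_mul_index N
    rw [hG, hN, pow_succ, ← hk] at h'
    obtain ⟨c, hc⟩ := hd
    rw [hc, show q ^ 2 - 1 = (q + 1) * (q - 1) by rw [← Nat.sq_sub_sq, one_pow]] at h'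
    have h4 : 4 * c = q * (q - 1) := by
      apply Nat.eq_of_mul_eq_mul_left (show 0 < q + 1 by omega)
      calc (q + 1) * (4 * c) = (q + 1) * 2 * (2 * c) := by ring
        _ = q * ((q + 1) * (q - 1)) := h'
        _ = _ := by ring
    obtain ⟨m, rfl⟩ : ∃ m, q = 4 * m + 3 := ⟨q / 4, by omega⟩
    rw [show 4 * m + 3 - 1 = 4 * m + 2 by omega] at h4
    ring_nf at h4
    omega
  let P : Sylow 2 G := (IsPGroup.of_card hN).toSylow hidx
  obtain ⟨g, hg⟩ := MulAction.exists_smul_eq G P H
  intro hbot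
  obtain ⟨w, hw, hw1, hw2⟩ := meet hns (g⁻¹ * x * g)
  have hH : (H : Subgroup G) = MulAut.conj g • N := by
    rw [← hg]; rfl
  have hmem : g * w * g⁻¹ ∈ (H : Subgroup G) ⊓ MulAut.conj x • (H : Subgroup G) := by
    refine ⟨?_, ?_⟩
    · rw [hH]
      exact ⟨w, hw, rfl⟩
    · rw [hH, smul_smul, ← map_mul]
      refine ⟨(x * g)⁻¹ * (g * w * g⁻¹) * (x * g), ?_, ?_⟩
      · have h := Subgroup.mem_centralizer_singleton_iff.1 hw2
        refine Subgroup.mem_centralizer_singleton_iff.2 ?_
        calc (x * g)⁻¹ * (g * w * g⁻¹) * (x * g) * QuotientGroup.mk J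
            = (g⁻¹ * x * g)⁻¹ * (w * ((g⁻¹ * x * g) * QuotientGroup.mk J * (g⁻¹ * x * g)⁻¹)) * (g⁻¹ * x * g) := by group
          _ = (g⁻¹ * x * g)⁻¹ * ((g⁻¹ * x * g) * QuotientGroup.mk J * (g⁻¹ * x * g)⁻¹ * w) * (g⁻¹ * x * g) := by rw [h]
          _ = QuotientGroup.mk J * ((x * g)⁻¹ * (g * w * g⁻¹) * (x * g)) := by group
      · simp [MulAut.conj_apply]
        group
  rw [hbot, Subgroup.mem_bot] at hmem
  exact hw1 (by simpa using hmem)

end Cfsg.Agent.S2485
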