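import Cfsg.Statements.S2486
import Cfsg.Agent.Lib.GLUnipotentDC

set_option autoImplicit false
open scoped Pointwise
open Cfsg

namespace Cfsg.Agent.S2486

open Matrix Cfsg.Agent.GLUnipotentDC

section GLpart

variable {n : ℕ}

local notation "K" => ZMod 2

lemma zmod_two (a : ZMod 2) (h : a ≠ 0) : a = 1 := by revert a; decide

/-- `B` is a 2-group. -/
lemma isPGroup_upper : IsPGroup 2 (Cfsg.upperTriangularGL n (ZMod 2)) := by
  intro g
  refine ⟨n, Subtype.ext (Units.ext ?_)⟩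
  set M : Matrix (Fin n) (Fin n) (ZMod 2) := (g.1 : GL (Fin n) (ZMod 2)).val with hM
  have hT : M.BlockTriangular id := g.2
  have hdiag : ∀ i, M i i = 1 := by
    intro i
    apply zmod_two
    intro h0
    have hd : M.det ≠ 0 := (g.1.isUnit.map Matrix.detMonoidHom).ne_zero
    exact hd (by rw [det_of_upperTriangular hT]; exact Finset.prod_eq_zero (Finset.mem_univ i) h0)
  set N := M - 1 with hN
  have hNz : ∀ k : ℕ, ∀ i j : Fin n, (j : ℕ) < (i : ℕ) + k → (N ^ k) i j = 0 := by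
    intro k
    induction k with
    | zero => intro i j h; rw [pow_zero, one_apply_ne]; intro e; subst e; simp at h
    | succ k ih =>
      intro i j h
      rw [pow_succ, mul_apply]
      refine Finset.sum_eq_zero fun l _ => ?_
      rcases lt_or_ge (l : ℕ) ((i : ℕ) + k) with hl | hl
      · rw [ih i l hl, zero_mul]
      · have : N l j = 0 := by
          rw [hN, Matrix.sub_apply]
          rcases eq_or_ne l j with rfl | hne
          · rw [hdiag, one_apply_eq, sub_self]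
          · rw [one_apply_ne hne, sub_zero]
            exact hT (show id j < id l from Fin.lt_def.2 (by
              simp only [id]
              have : (l : ℕ) ≠ (j : ℕ) := fun e => hne (Fin.ext e)
              omega))
        rw [this, mul_zero]
  have hNn : N ^ (2 ^ n) = 0 := by
    ext i j
    exact hNz _ i j (by
      have := j.2
      have := Nat.lt_two_pow_self (n := n)
      omega)
  change M ^ (2 ^ n) = 1
  rcases isEmpty_or_nonempty (Fin n) with h | h
  · exact Subsingleton.elim _ _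
  have hs : M ^ (2 ^ n) = N ^ (2 ^ n) + 1 ^ (2 ^ n) := by
    rw [← add_pow_char_pow_of_commute 2 n (Commute.one_right N), hN, sub_add_cancel]
  rw [hs, hNn, one_pow, zero_add]

/-- The transvection `1 + E_{ab}`. -/
def tv (a b : Fin n) (h : a ≠ b) : GL (Fin n) (ZMod 2) :=
  GeneralLinearGroup.mkOfDetNeZero (Matrix.transvection a b 1) (by
    rw [det_transvection_of_ne a b h]; exact one_ne_zero)

lemma tv_mem {a b : Fin n} (h : a < b) : tv a b h.ne ∈ Cfsg.upperTriangularGL n (ZMod 2) := by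
  change (Matrix.transvection a b (1 : ZMod 2)).BlockTriangular id
  intro i j hij
  have hij' : j < i := hij
  rw [Matrix.transvection, Matrix.add_apply, one_apply_ne hij'.ne', zero_add,
    Matrix.single_apply, if_neg]
  rintro ⟨rfl, rfl⟩
  exact lt_asymm h hij'

/-- If the two conjugates of `B` meet trivially they are opposite. -/
lemma opposite_of_disjoint (g : GL (Fin n) (ZMod 2))
    (h : ∀ x ∈ Cfsg.upperTriangularGL n (ZMod 2), g⁻¹ * x * g ∈ Cfsg.upperTriangularGL n (ZMod 2) → x = 1) :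
    ∃ u ∈ Cfsg.upperTriangularGL n (ZMod 2), ∃ v ∈ Cfsg.upperTriangularGL n (ZMod 2),
      g = u * permGL n (ZMod 2) Fin.revPerm * v := by
  obtain ⟨u, hu, v, hv, σ, rfl⟩ := bruhat g
  suffices σ = Fin.revPerm by subst this; exact ⟨u, hu, v, hv, rfl⟩
  have anti : StrictAnti (σ⁻¹ : Equiv.Perm (Fin n)) := by
    intro a b hab
    by_contra hle
    have hlt : σ⁻¹ a < σ⁻¹ b := lt_of_le_of_ne (not_lt.1 hle) fun e => hab.ne ((σ⁻¹).injective e)
    set E := tv a b hab.ne with hE
    have hE' : (permGL n (ZMod 2) σ)⁻¹ * E * permGL n (ZMod 2) σ ∈ Cfsg.upperTriangularGL n (ZMod 2) := by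
      rw [← map_inv]
      change Matrix.BlockTriangular ((permGL n (ZMod 2) σ⁻¹).val * E.val * (permGL n (ZMod 2) σ).val) id
      intro i j hij
      have hij' : j < i := hij
      rw [mul_permGL_apply, permGL_mul_apply, inv_inv]
      change (Matrix.transvection a b (1 : ZMod 2)) (σ i) (σ j) = 0
      rw [Matrix.transvection, Matrix.add_apply, one_apply_ne (σ.injective.ne hij'.ne'), zero_add,
        Matrix.single_apply, if_neg]
      rintro ⟨rfl, rfl⟩
      simp only [Equiv.Perm.inv_def, Equiv.symm_apply_apply] at hlt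
      exact lt_asymm hlt hij'
    have hx := h (u * E * u⁻¹) (mul_mem (mul_mem hu (tv_mem hab)) (inv_mem hu))
      (by
        rw [show (u * permGL n (ZMod 2) σ * v)⁻¹ * (u * E * u⁻¹) * (u * permGL n (ZMod 2) σ * v) =
          v⁻¹ * ((permGL n (ZMod 2) σ)⁻¹ * E * permGL n (ZMod 2) σ) * v by group]
        exact mul_mem (mul_mem (inv_mem hv) hE') hv)
    have hE1 : E = 1 := conj_eq_one_iff.1 hx
    have := congrArg (fun M : GL (Fin n) (ZMod 2) => M.val a b) hE1
    simp [hE, tv, GeneralLinearGroup.mkOfDetNeZero, Matrix.transvection, one_apply_ne hab.ne] at this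
  have hmono : StrictMono fun x => Fin.rev ((σ⁻¹ : Equiv.Perm (Fin n)) x) :=
    fun a b hab => Fin.rev_lt_rev.2 (anti hab)
  have hid : (fun x => Fin.rev ((σ⁻¹ : Equiv.Perm (Fin n)) x)) = id :=
    funext fun x => le_antisymm (hmono.le_id x) (hmono.id_le x)
  apply Equiv.ext
  intro x
  have h1 := congrFun hid (σ x)
  simp at h1
  rw [Fin.revPerm_apply, h1, ← Fin.rev_rev (σ x)]

lemma self_normalizing (g : GL (Fin n) (ZMod 2))
    (h : ∀ x ∈ Cfsg.upperTriangularGL n (ZMod 2), g * x * g⁻¹ ∈ Cfsg.upperTriangularGL n (ZMod 2)) :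
    g ∈ Cfsg.upperTriangularGL n (ZMod 2) := by
  obtain ⟨u, hu, v, hv, σ, rfl⟩ := bruhat g
  suffices σ = 1 by subst this; rw [map_one, mul_one]; exact mul_mem hu hv
  have mono : StrictMono (σ : Equiv.Perm (Fin n)) := by
    intro a b hab
    by_contra hle
    have hlt : σ b < σ a := lt_of_le_of_ne (not_lt.1 hle) fun e => hab.ne' (σ.injective e)
    have hx := h (v⁻¹ * tv a b hab.ne * v) (mul_mem (mul_mem (inv_mem hv) (tv_mem hab)) hv)
    rw [show (u * permGL n (ZMod 2) σ * v) * (v⁻¹ * tv a b hab.ne * v) * (u * permGL n (ZMod 2) σ * v)⁻¹ =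
      u * (permGL n (ZMod 2) σ * tv a b hab.ne * (permGL n (ZMod 2) σ)⁻¹) * u⁻¹ by group] at hx
    have hy : permGL n (ZMod 2) σ * tv a b hab.ne * (permGL n (ZMod 2) σ)⁻¹ ∈ Cfsg.upperTriangularGL n (ZMod 2) := by
      have := mul_mem (mul_mem (inv_mem hu) hx) hu
      simpa [mul_assoc] using this
    rw [← map_inv] at hy
    change Matrix.BlockTriangular ((permGL n (ZMod 2) σ).val * (tv a b hab.ne).val * (permGL n (ZMod 2) σ⁻¹).val) id at hy
    have h0 := hy (show id (σ b) < id (σ a) from hlt)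
    rw [mul_permGL_apply, permGL_mul_apply] at h0
    simp [tv, GeneralLinearGroup.mkOfDetNeZero, Matrix.transvection, one_apply_ne hab.ne] at h0
  ext x
  exact congrArg Fin.val (le_antisymm (mono.le_id x) (mono.id_le x))

end GLpart

/-- Abstract form of the argument. -/
lemma abstract_meet {G : Type*} [Group G] [Finite G] (N : Subgroup G) (hidx : N.index = 2)
    (T : Subgroup G) (hT : IsPGroup 2 T) (hTN : T ≤ N)
    (hself : ∀ m ∈ N, (∀ t ∈ T, m * t * m⁻¹ ∈ T) → m ∈ T)
    (w : G) (hwN : w ∈ N)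
    (hopp : ∀ m ∈ N, (∀ t ∈ T, m⁻¹ * t * m ∈ T → t = 1) → ∃ u ∈ T, ∃ v ∈ T, m = u * w * v)
    (H : Sylow 2 G) (x : G) :
    (H : Subgroup G) ⊓ MulAut.conj x • (H : Subgroup G) ≠ ⊥ := by
  have hN : N.Normal := Subgroup.normal_of_index_eq_two hidx
  obtain ⟨P, hP⟩ := hT.exists_le_sylow
  -- `P ∩ N = T`
  have hPN : ∀ p, p ∈ (P : Subgroup G) → p ∈ N → p ∈ T := by
    by_contra hne
    push Not at hne
    obtain ⟨p, hpP, hpN, hpT⟩ := hne
    let Q : Subgroup G := (P : Subgroup G) ⊓ N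
    have hQ : IsPGroup 2 Q := P.isPGroup'.to_le inf_le_left
    have : Group.IsNilpotent Q := hQ.isNilpotent
    have hlt : T.subgroupOf Q < ⊤ := lt_top_iff_ne_top.2 fun h =>
      hpT (Subgroup.subgroupOf_eq_top.1 h ⟨hpP, hpN⟩)
    have hgt := Group.normalizerCondition_of_isNilpotent (T.subgroupOf Q) hlt
    obtain ⟨z, hz1, hz2⟩ := SetLike.exists_of_lt hgt
    refine hz2 (hself z.1 z.2.2 fun t ht => ?_)
    exact (Subgroup.mem_normalizer_iff.1 hz1 ⟨t, hP ht, hTN ht⟩).1 ht
  -- the outer elements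
  have hodd : ∃ h ∈ (P : Subgroup G), h ∉ N := by
    by_contra hne
    push Not at hne
    have h1 : (P : Subgroup G) ≤ N := hne
    have h2 := P.not_dvd_index
    refine h2 ?_
    have := Subgroup.index_dvd_of_le h1
    rwa [hidx] at this
  obtain ⟨h, hhP, hhN⟩ := hodd
  have hnorm : ∀ p ∈ (P : Subgroup G), ∀ t ∈ T, p * t * p⁻¹ ∈ T := fun p hp t ht =>
    hPN _ (mul_mem (mul_mem hp (hP ht)) (inv_mem hp)) (hN.conj_mem t (hTN ht) p)
  have hNP : ∀ z : G, (∀ t ∈ T, z * t * z⁻¹ ∈ T) → z ∈ (P : Subgroup G) := by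
    intro z hz
    by_cases hzN : z ∈ N
    · exact hP (hself z hzN hz)
    · have hN' : h⁻¹ * z ∈ N :=
        (Subgroup.mul_mem_iff_of_index_two hidx).2 (iff_of_false (fun e => hhN (by simpa using inv_mem e)) hzN)
      have := hself (h⁻¹ * z) hN' fun t ht => by
        rw [show h⁻¹ * z * t * (h⁻¹ * z)⁻¹ = h⁻¹ * (z * t * z⁻¹) * h⁻¹⁻¹ by group]
        exact hnorm h⁻¹ (inv_mem hhP) _ (hz t ht)
      simpa using mul_mem hhP (hP this)
  -- every conjugate of `P` meets `P`
  have key : ∀ y : G, ∃ z ∈ (P : Subgroup G), y⁻¹ * z * y ∈ (P : Subgroup G) ∧ z ≠ 1 := by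
    intro y
    obtain ⟨m, hm, p, hp, rfl⟩ : ∃ m ∈ N, ∃ p ∈ (P : Subgroup G), y = m * p := by
      by_cases hy : y ∈ N
      · exact ⟨y, hy, 1, one_mem _, (mul_one y).symm⟩
      · exact ⟨y * h⁻¹, (Subgroup.mul_mem_iff_of_index_two hidx).2
          (iff_of_false hy fun e => hhN (by simpa using inv_mem e)), h, hhP, by group⟩
    suffices hs : ∃ z ∈ (P : Subgroup G), m⁻¹ * z * m ∈ (P : Subgroup G) ∧ z ≠ 1 by
      obtain ⟨z, hz, hz', hz1⟩ := hs
      refine ⟨z, hz, ?_, hz1⟩
      rw [show (m * p)⁻¹ * z * (m * p) = p⁻¹ * (m⁻¹ * z * m) * p by group]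
      exact mul_mem (mul_mem (inv_mem hp) hz') hp
    by_cases hd : ∀ t ∈ T, m⁻¹ * t * m ∈ T → t = 1
    swap
    · push Not at hd
      obtain ⟨t, ht, ht', ht1⟩ := hd
      exact ⟨t, hP ht, hP ht', ht1⟩
    obtain ⟨u, hu, v, hv, rfl⟩ := hopp m hm hd
    -- conjugate everything back to `w`
    suffices hs : ∃ z ∈ (P : Subgroup G), w⁻¹ * z * w ∈ (P : Subgroup G) ∧ z ≠ 1 by
      obtain ⟨z, hz, hz', hz1⟩ := hs
      refine ⟨u * z * u⁻¹, mul_mem (mul_mem (hP hu) hz) (inv_mem (hP hu)), ?_, fun e => hz1 (conj_eq_one_iff.1 e)⟩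
      rw [show (u * w * v)⁻¹ * (u * z * u⁻¹) * (u * w * v) = v⁻¹ * (w⁻¹ * z * w) * v by group]
      exact mul_mem (mul_mem (inv_mem (hP hv)) hz') (hP hv)
    have hdw : ∀ t ∈ T, w⁻¹ * t * w ∈ T → t = 1 := by
      intro t ht ht'
      have := hd (u * t * u⁻¹) (mul_mem (mul_mem hu ht) (inv_mem hu)) (by
        rw [show (u * w * v)⁻¹ * (u * t * u⁻¹) * (u * w * v) = v⁻¹ * (w⁻¹ * t * w) * v by group]
        exact mul_mem (mul_mem (inv_mem hv) ht') hv)
      exact conj_eq_one_iff.1 this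
    have hm' : h * w * h⁻¹ ∈ N := hN.conj_mem w hwN h
    have hd' : ∀ t ∈ T, (h * w * h⁻¹)⁻¹ * t * (h * w * h⁻¹) ∈ T → t = 1 := by
      intro t ht ht'
      have e := hdw (h⁻¹ * t * h) (by simpa using hnorm h⁻¹ (inv_mem hhP) t ht) (by
        have := hnorm h⁻¹ (inv_mem hhP) _ ht'
        rw [show w⁻¹ * (h⁻¹ * t * h) * w = h⁻¹ * ((h * w * h⁻¹)⁻¹ * t * (h * w * h⁻¹)) * h⁻¹⁻¹ by group]
        exact this)
      calc t = h * (h⁻¹ * t * h) * h⁻¹ := by group
        _ = 1 := by rw [e]; group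
    obtain ⟨a, ha, b, hb, hab⟩ := hopp _ hm' hd'
    refine ⟨a⁻¹ * h, mul_mem (inv_mem (hP ha)) hhP, ?_, fun e => hhN ?_⟩
    · rw [show w⁻¹ * (a⁻¹ * h) * w = w⁻¹ * a⁻¹ * (h * w * h⁻¹) * h by group, hab]
      rw [show w⁻¹ * a⁻¹ * (a * w * b) * h = b * h by group]
      exact mul_mem (hP hb) hhP
    · rw [inv_mul_eq_one.1 e] at ha
      exact hTN ha
  obtain ⟨g, hg⟩ := MulAction.exists_smul_eq G P H
  obtain ⟨z, hz, hz', hz1⟩ := key (g⁻¹ * x * g)
  intro hbot
  have hH : (H : Subgroup G) = MulAut.conj g • (P : Subgroup G) := by rw [← hg]; rfl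
  have hmem : g * z * g⁻¹ ∈ (H : Subgroup G) ⊓ MulAut.conj x • (H : Subgroup G) := by
    refine ⟨?_, ?_⟩
    · rw [hH]; exact ⟨z, hz, rfl⟩
    · rw [hH, smul_smul, ← map_mul]
      refine ⟨(g⁻¹ * x * g)⁻¹ * z * (g⁻¹ * x * g), hz', ?_⟩
      simp [MulAut.conj_apply]
      group
  rw [hbot, Subgroup.mem_bot] at hmem
  exact hz1 (conj_eq_one_iff.1 hmem)


/-- Let n ≥ 4 and let G be a finite group with a normal subgroup N of index 2 isomorphic to SL(n,2) and with trivial centralizer in G (so G is the extension of the simple group L_n(2) by its inverse-transpose automorphism, its full automorphism group). Then any two Sylow 2-subgroups of G have a non-trivial intersection: for a Sylow 2-subgroup H and every x ∈ G, H ∩ H^x ≠ 1. -/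
theorem result {G : Type*} [Group G] [Finite G] {n : ℕ} (hn : 4 ≤ n) (N : Subgroup G) [N.Normal]
    (e : N ≃* Matrix.SpecialLinearGroup (Fin n) (ZMod 2)) (hidx : N.index = 2)
    (hC : Subgroup.centralizer (N : Set G) = ⊥)
    (H : Sylow 2 G) (x : G) :
    (H : Subgroup G) ⊓ MulAut.conj x • (H : Subgroup G) ≠ ⊥ := by
  classical
  let toGL : Matrix.SpecialLinearGroup (Fin n) (ZMod 2) →* GL (Fin n) (ZMod 2) := Matrix.SpecialLinearGroup.toGL
  have hbij : Function.Bijective toGL := by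
    refine ⟨fun a b h => Subtype.ext (congrArg (fun u : GL (Fin n) (ZMod 2) => u.val) h), fun g => ?_⟩
    exact ⟨⟨g.val, zmod_two _ (g.isUnit.map Matrix.detMonoidHom).ne_zero⟩, Units.ext rfl⟩
  let f : N ≃* GL (Fin n) (ZMod 2) := e.trans (MulEquiv.ofBijective toGL hbij)
  let B := Cfsg.upperTriangularGL n (ZMod 2)
  let T : Subgroup G := (B.comap f.toMonoidHom).map N.subtype
  have hT : IsPGroup 2 T := (isPGroup_upper.comap_of_injective f.toMonoidHom f.injective).map N.subtype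
  have hTN : T ≤ N := by rintro _ ⟨a, -, rfl⟩; exact a.2
  have memT : ∀ a : N, (a : G) ∈ T ↔ f a ∈ B := fun a =>
    ⟨fun ⟨b, hb, he⟩ => by obtain rfl : b = a := Subtype.ext he; exact hb, fun h => ⟨a, h, rfl⟩⟩
  refine abstract_meet N hidx T hT hTN (fun m hm h => ?_)
    (f.symm (Cfsg.Agent.GLUnipotentDC.permGL n (ZMod 2) Fin.revPerm) : G) (SetLike.coe_mem _)
    (fun m hm h => ?_) H x
  · refine (memT ⟨m, hm⟩).2 (self_normalizing _ fun y hy => ?_)
    obtain ⟨a, rfl⟩ := f.surjective y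
    have := h a ((memT a).2 hy)
    have h' := (memT (⟨m, hm⟩ * a * ⟨m, hm⟩⁻¹)).1 (by simpa using this)
    simpa using h'
  · obtain ⟨u, hu, v, hv, huv⟩ := opposite_of_disjoint (f ⟨m, hm⟩) (fun y hy hy' => by
      obtain ⟨a, rfl⟩ := f.surjective y
      have h1 : (⟨m, hm⟩⁻¹ * a * ⟨m, hm⟩ : N).1 ∈ T := (memT _).2 (by simpa using hy')
      have := h a ((memT a).2 hy) (by simpa using h1)
      rw [show a = 1 from Subtype.ext this, map_one])
    refine ⟨(f.symm u : G), (memT _).2 (by simpa using hu), (f.symm v : G), (memT _).2 (by simpa using hv), ?_⟩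
    have h2 := congrArg (fun z => (f.symm z : G)) huv
    simpa using h2

end Cfsg.Agent.S2486
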