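import Cfsg.Statements.S2487
import Cfsg.Agent.Lib.MaximalSingular

set_option autoImplicit false
open scoped Pointwise
open Cfsg

namespace Cfsg.Agent.S2487

open MaximalSingular Matrix

variable {F : Type*} [Field F] {m : ℕ}

lemma two_eq [Fintype F] (hF : Fintype.card F = 2) : (2 : F) = 0 := by
  have h := FiniteField.cast_card_eq_zero F
  rw [hF] at h
  exact_mod_cast h

lemma eq_one_of_ne [Fintype F] (hF : Fintype.card F = 2) {a : F} (ha : a ≠ 0) : a = 1 := by
  classical
  by_contra h
  have h3 : ({0, 1, a} : Finset F).card = 3 := by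
    rw [Finset.card_insert_of_notMem (by simp [Ne.symm ha]), Finset.card_pair (Ne.symm h)]
  have := Finset.card_le_univ ({0, 1, a} : Finset F)
  omega

/-- The pointwise stabiliser of a subspace in the isometry group. -/
def fixer (S : Submodule F (Fin m ⊕ Fin m → F)) :
    Subgroup (Cfsg.isometryGroup F (quadFormPlus m F)) where
  carrier := {g | ∀ v ∈ S, ((g : GL (Fin m ⊕ Fin m) F) : Matrix _ _ F) *ᵥ v = v}
  one_mem' := by intro v _; simp
  mul_mem' {a b} ha hb := by
    intro v hv
    rw [Subgroup.coe_mul, Units.val_mul, ← mulVec_mulVec, hb v hv, ha v hv]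
  inv_mem' {a} ha := by
    intro v hv
    conv_lhs => rw [← ha v hv]
    rw [mulVec_mulVec, Subgroup.coe_inv, Units.inv_mul, one_mulVec]

lemma isometry_polar (g : Cfsg.isometryGroup F (quadFormPlus m F)) (u v : Fin m ⊕ Fin m → F) :
    polarB m F (((g : GL (Fin m ⊕ Fin m) F) : Matrix _ _ F) *ᵥ u)
      (((g : GL (Fin m ⊕ Fin m) F) : Matrix _ _ F) *ᵥ v) = polarB m F u v := by
  have h1 : quadFormPlus m F (((g : GL (Fin m ⊕ Fin m) F) : Matrix _ _ F) *ᵥ (u + v)) = _ :=
    g.2 (u + v) (u + v)
  have hu : quadFormPlus m F (((g : GL (Fin m ⊕ Fin m) F) : Matrix _ _ F) *ᵥ u) = _ := g.2 u u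
  have hv : quadFormPlus m F (((g : GL (Fin m ⊕ Fin m) F) : Matrix _ _ F) *ᵥ v) = _ := g.2 v v
  dsimp only at h1 hu hv
  rw [mulVec_add, quad_add, quad_add, hu, hv] at h1
  exact add_left_cancel h1

lemma exists_fixing [Fintype F] (hF : Fintype.card F = 2) (S S' : Submodule F (Fin m ⊕ Fin m → F))
    (hS : Module.finrank F S + Module.finrank F S' + 2 ≤ 2 * m) :
    ∃ g : Cfsg.isometryGroup F (quadFormPlus m F), g ≠ 1 ∧ g ∈ fixer S ∧ g ∈ fixer S' := by
  classical
  have h2 := two_eq hF
  set B := polarB m F with hB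
  set W := B.orthogonal (S ⊔ S') with hW
  have hdimW : 2 ≤ Module.finrank F W := by
    rw [hW, LinearMap.BilinForm.finrank_orthogonal polarB_nondegenerate, finrank_space]
    have := Submodule.finrank_sup_add_finrank_inf_eq S S'
    omega
  have perp : ∀ w ∈ W, ∀ v, v ∈ S ∨ v ∈ S' → B w v = 0 := fun w hw v hv => by
    rw [hB, polarB_comm, ← hB]
    exact (LinearMap.BilinForm.mem_orthogonal_iff.1 hw) v (hv.elim (fun h => Submodule.mem_sup_left h) fun h => Submodule.mem_sup_right h)
  have nondeg : ∀ w : Fin m ⊕ Fin m → F, w ≠ 0 → ∃ x, B x w ≠ 0 := fun w hw => by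
    by_contra h
    push Not at h
    exact hw (polarB_nondegenerate.2 w h)
  have mk : ∀ f : (Fin m ⊕ Fin m → F) →ₗ[F] (Fin m ⊕ Fin m → F),
      (∀ x, f (f x) = x) → (∀ x, quadFormPlus m F (f x) = quadFormPlus m F x) →
      (∀ v, v ∈ S ∨ v ∈ S' → f v = v) → (∃ x, f x ≠ x) →
      ∃ g : Cfsg.isometryGroup F (quadFormPlus m F), g ≠ 1 ∧ g ∈ fixer S ∧ g ∈ fixer S' := by
    intro f hf hQ hfix ⟨x, hx⟩
    have hM : LinearMap.toMatrix' f * LinearMap.toMatrix' f = 1 := by
      rw [← LinearMap.toMatrix'_comp, show f.comp f = LinearMap.id from LinearMap.ext hf, LinearMap.toMatrix'_id]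
    have happ : ∀ v, LinearMap.toMatrix' f *ᵥ v = f v := fun v => LinearMap.toMatrix'_mulVec f v
    let g : Cfsg.isometryGroup F (quadFormPlus m F) :=
      ⟨⟨LinearMap.toMatrix' f, LinearMap.toMatrix' f, hM, hM⟩, fun u _ => by
        change quadFormPlus m F (LinearMap.toMatrix' f *ᵥ u) = _
        rw [happ, hQ]⟩
    refine ⟨g, fun h => hx ?_, fun v hv => (happ v).trans (hfix v (Or.inl hv)),
      fun v hv => (happ v).trans (hfix v (Or.inr hv))⟩
    have h1 : LinearMap.toMatrix' f = 1 := by
      change ((g : GL (Fin m ⊕ Fin m) F) : Matrix (Fin m ⊕ Fin m) (Fin m ⊕ Fin m) F) = 1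
      rw [h]; rfl
    rw [← happ, h1, one_mulVec]
  have hBself : ∀ x, B x x = 2 * quadFormPlus m F x := fun x => by
    have := quad_add x x
    rw [show x + x = (2 : F) • x from (two_smul F x).symm, quad_smul] at this
    linear_combination -this
  by_cases hns : ∃ v ∈ W, quadFormPlus m F v ≠ 0
  · obtain ⟨v, hvW, hv⟩ := hns
    have hv1 := eq_one_of_ne hF hv
    refine mk (LinearMap.id + (B v).smulRight v) (fun x => ?_) (fun x => ?_) (fun s hs => ?_) ?_
    · simp only [LinearMap.add_apply, LinearMap.id_coe, id_eq, LinearMap.smulRight_apply, map_add, map_smul, LinearMap.smul_apply, smul_eq_mul, hBself v, h2,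
        zero_mul, mul_zero, zero_smul, add_zero]
      rw [add_assoc, ← two_smul F, h2, zero_smul, add_zero]
    · simp only [LinearMap.add_apply, LinearMap.id_coe, id_eq, LinearMap.smulRight_apply]
      rw [quad_add, quad_smul, hv1, map_smul, smul_eq_mul]
      rw [hB, polarB_comm v x, ← hB]
      linear_combination (B x v * B x v) * h2
    · simp [perp v hvW s hs]
    · have hv0 : v ≠ 0 := fun h => hv (by simp [h, quadFormPlus])
      obtain ⟨x, hx⟩ := nondeg v hv0
      rw [hB, polarB_comm, ← hB] at hx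
      exact ⟨x, by simp [hx, hv0]⟩
  · push Not at hns
    obtain ⟨u, w, hu, hw, hind⟩ : ∃ u w, u ∈ W ∧ w ∈ W ∧ ∀ a b : F, a • u + b • w = 0 → a = 0 ∧ b = 0 := by
      let bs := Module.finBasis F W
      refine ⟨bs ⟨0, by omega⟩, bs ⟨1, by omega⟩, (bs _).2, (bs _).2, fun a b h => ?_⟩
      have hli := bs.linearIndependent.comp ![(⟨0, by omega⟩ : Fin (Module.finrank F W)), ⟨1, by omega⟩] (by
        intro i j hij
        fin_cases i <;> fin_cases j <;> simp_all)
      have := Fintype.linearIndependent_iff.1 hli ![a, b] (by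
        rw [Fin.sum_univ_two]; exact Subtype.ext (by simpa using h))
      exact ⟨this 0, this 1⟩
    have hQu := hns u hu
    have hQw := hns w hw
    have huw : B u w = 0 := by
      have := quad_add u w
      rw [hns _ (W.add_mem hu hw), hQu, hQw] at this
      linear_combination -this
    have hwu : B w u = 0 := by rw [hB, polarB_comm]; exact huw
    refine mk (LinearMap.id + (B u).smulRight w + (B w).smulRight u) (fun x => ?_)
      (fun x => ?_) (fun s hs => ?_) ?_
    · simp only [LinearMap.add_apply, LinearMap.id_coe, id_eq, LinearMap.smulRight_apply, map_add, map_smul, LinearMap.smul_apply, smul_eq_mul, hBself u,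
        hBself w, huw, hwu, h2, zero_mul, mul_zero, zero_smul, add_zero]
      calc x + B u x • w + B w x • u + B u x • w + B w x • u
          = x + (2 : F) • (B u x • w + B w x • u) := by rw [two_smul]; abel
        _ = x := by rw [h2, zero_smul, add_zero]
    · simp only [LinearMap.add_apply, LinearMap.id_coe, id_eq, LinearMap.smulRight_apply]
      rw [quad_add, quad_add, quad_smul, quad_smul, hQu, hQw]
      simp only [map_add, map_smul, LinearMap.add_apply, LinearMap.smul_apply, smul_eq_mul, ← hB, hwu]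
      rw [hB, polarB_comm u x, polarB_comm w x, ← hB]
      linear_combination (B x u * B x w) * h2
    · simp [perp u hu s hs, perp w hw s hs]
    · have hu0 : u ≠ 0 := fun h => one_ne_zero (hind 1 0 (by simp [h])).1
      obtain ⟨x, hx⟩ := nondeg u hu0
      rw [hB, polarB_comm, ← hB] at hx
      refine ⟨x, fun h => hx ?_⟩
      simp only [LinearMap.add_apply, LinearMap.id_coe, id_eq, LinearMap.smulRight_apply] at h
      rw [add_assoc, add_eq_left, add_comm] at h
      exact (hind _ _ h).2

/-- The standard totally singular subspace of dimension `m - 1`. -/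
def std (i0 : Fin m) : Submodule F (Fin m ⊕ Fin m → F) where
  carrier := {v | v (.inl i0) = 0 ∧ ∀ i, v (.inr i) = 0}
  zero_mem' := ⟨rfl, fun _ => rfl⟩
  add_mem' := fun ha hb => ⟨by simp [ha.1, hb.1], fun i => by simp [ha.2 i, hb.2 i]⟩
  smul_mem' := fun c v hv => ⟨by simp [hv.1], fun i => by simp [hv.2 i]⟩

lemma mem_std {i0 : Fin m} {v : Fin m ⊕ Fin m → F} :
    v ∈ std i0 ↔ v (.inl i0) = 0 ∧ ∀ i, v (.inr i) = 0 := Iff.rfl

lemma finrank_std_le [Fintype F] (i0 : Fin m) : Module.finrank F (std (F := F) i0) + 1 ≤ m := by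
  let g : std (F := F) i0 →ₗ[F] ({i : Fin m // i ≠ i0} → F) :=
    { toFun := fun v i => v.1 (.inl i.1)
      map_add' := fun _ _ => rfl
      map_smul' := fun _ _ => rfl }
  have hg : Function.Injective g := by
    intro a b h
    ext (i | i)
    · by_cases hi : i = i0
      · subst hi; rw [a.2.1, b.2.1]
      · exact congrFun h ⟨i, hi⟩
    · rw [a.2.2 i, b.2.2 i]
  have := LinearMap.finrank_le_finrank_of_injective hg
  rw [Module.finrank_fintype_fun_eq_card, Fintype.card_subtype_compl, Fintype.card_subtype_eq, Fintype.card_fin] at this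
  have := i0.2
  omega

lemma isPGroup_fixer [Fintype F] (hF : Fintype.card F = 2) (i0 : Fin m) :
    IsPGroup 2 (fixer (F := F) (std i0)) := by
  classical
  have h2 := two_eq hF
  intro g
  refine ⟨2, Subtype.ext ?_⟩
  set M : Matrix (Fin m ⊕ Fin m) (Fin m ⊕ Fin m) F := (g.1.1 : GL (Fin m ⊕ Fin m) F).val with hMdef
  have hfix : ∀ v ∈ std (F := F) i0, M *ᵥ v = v := g.2
  -- `M - 1` maps everything into the orthogonal of `std i0`
  let P : (Fin m ⊕ Fin m → F) → Prop := fun x => ∀ j, j ≠ i0 → x (.inr j) = 0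
  have hperp : ∀ j, j ≠ i0 → ∀ x, polarB m F x (Pi.single (Sum.inl j) 1) = x (.inr j) := by
    intro j _ x
    rw [polarB_apply, Finset.sum_eq_single j] <;> simp +contextual
  have step1 : ∀ x, P (M *ᵥ x - x) := by
    intro x j hj
    have hv : (Pi.single (Sum.inl j) (1 : F) : Fin m ⊕ Fin m → F) ∈ std i0 :=
      mem_std.2 ⟨by simp [hj.symm], fun i => by simp⟩
    have h := isometry_polar g.1 x (Pi.single (Sum.inl j) 1)
    rw [← hMdef, hfix _ hv, hperp j hj, hperp j hj] at h
    simp [h]
  -- on the orthogonal, `M * M` is trivial modulo `std i0`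
  let a : (Fin m ⊕ Fin m → F) := Pi.single (Sum.inl i0) 1
  let b : (Fin m ⊕ Fin m → F) := Pi.single (Sum.inr i0) 1
  have hQ : ∀ x, P x → quadFormPlus m F x = x (.inl i0) * x (.inr i0) := by
    intro x hx
    rw [quadFormPlus, Finset.sum_eq_single i0] <;> simp +contextual [hx _]
  have hlin : ∀ x, P x → ∀ k, k = Sum.inl i0 ∨ k = Sum.inr i0 →
      (M *ᵥ x) k = x (.inl i0) * (M *ᵥ a) k + x (.inr i0) * (M *ᵥ b) k := by
    intro x hx k hk
    have hr : x - (x (.inl i0) • a + x (.inr i0) • b) ∈ std i0 := by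
      refine mem_std.2 ⟨by simp [a, b], fun i => ?_⟩
      by_cases hi : i = i0
      · subst hi; simp [a, b]
      · simp [a, b, hx i hi, hi]
    have h := congrFun (hfix _ hr) k
    simp only [mulVec_sub, mulVec_add, mulVec_smul, Pi.sub_apply, Pi.add_apply, Pi.smul_apply, smul_eq_mul] at h
    rcases hk with rfl | rfl <;> simp [a, b] at h ⊢ <;> linear_combination h
  have hPM : ∀ x, P x → P (M *ᵥ x) := fun x hx j hj => by
    have := step1 x j hj
    simpa [hx j hj] using this
  have hPa : P a := fun j _ => by simp [a]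
  have hPb : P b := fun j hj => by simp [b, hj]
  have step2 : ∀ x, P x → M *ᵥ (M *ᵥ x) - x ∈ std i0 := by
    intro x hx
    have hq : ∀ y, P y → (M *ᵥ y) (.inl i0) * (M *ᵥ y) (.inr i0) = y (.inl i0) * y (.inr i0) := fun y hy => by
      rw [← hQ _ (hPM y hy), ← hQ y hy]; exact g.1.2 y y
    have hpa := hq a hPa
    have hpb := hq b hPb
    have hab := hq (a + b) (fun j hj => by simp [hPa j hj, hPb j hj])
    rw [mulVec_add] at hab
    simp [a, b] at hpa hpb hab
    refine mem_std.2 ⟨?_, fun i => ?_⟩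
    · rw [Pi.sub_apply, hlin _ (hPM x hx) _ (Or.inl rfl), hlin x hx _ (Or.inl rfl), hlin x hx _ (Or.inr rfl)]
      rcases hpa with h | h <;> rcases hpb with h' | h' <;> simp [a, b, h, h'] at hab ⊢
      all_goals (
        have e1 := eq_one_of_ne hF (left_ne_zero_of_mul_eq_one hab)
        have e2 := eq_one_of_ne hF (right_ne_zero_of_mul_eq_one hab)
        simp [e1, e2])
    · by_cases hi : i = i0
      · subst hi
        rw [Pi.sub_apply, hlin _ (hPM x hx) _ (Or.inr rfl), hlin x hx _ (Or.inl rfl), hlin x hx _ (Or.inr rfl)]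
        rcases hpa with h | h <;> rcases hpb with h' | h' <;> simp [a, b, h, h'] at hab ⊢
        all_goals (
          have e1 := eq_one_of_ne hF (left_ne_zero_of_mul_eq_one hab)
          have e2 := eq_one_of_ne hF (right_ne_zero_of_mul_eq_one hab)
          simp [e1, e2])
      · rw [Pi.sub_apply, hPM _ (hPM x hx) i hi, hx i hi, sub_zero]
  apply Subtype.ext
  apply Units.ext
  change M ^ 4 = 1
  apply Matrix.toLin'.injective
  refine LinearMap.ext fun x => ?_
  rw [toLin'_one, LinearMap.id_coe, id_eq, toLin'_apply, show M ^ 4 = M * M * (M * M) by simp [pow_succ, mul_assoc]]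
  rw [← mulVec_mulVec]
  set y := M *ᵥ x - x with hy
  have hMM : (M * M) *ᵥ y - y ∈ std i0 := by rw [← mulVec_mulVec]; exact step2 y (step1 x)
  set s := (M * M) *ᵥ y - y with hs
  have e0 : ∀ v : Fin m ⊕ Fin m → F, v + v = 0 := fun v => by rw [← two_smul F, h2, zero_smul]
  have hx' : M *ᵥ x = x + y := by rw [hy]; abel
  have hy' : (M * M) *ᵥ y = y + s := by rw [hs]; abel
  have hss : (M * M) *ᵥ s = s := by rw [← mulVec_mulVec, hfix s hMM, hfix s hMM]
  have hxx : (M * M) *ᵥ x = x + (y + M *ᵥ y) := by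
    rw [← mulVec_mulVec, hx', mulVec_add, hx']; abel
  have hc : (M * M) *ᵥ (M *ᵥ y) = M *ᵥ ((M * M) *ᵥ y) := by simp only [mulVec_mulVec, mul_assoc]
  rw [hxx, mulVec_add, mulVec_add, hxx, hc, hy', mulVec_add, hfix s hMM]
  calc x + (y + M *ᵥ y) + (y + s + (M *ᵥ y + s))
      = x + ((y + y) + (M *ᵥ y + M *ᵥ y) + (s + s)) := by abel
    _ = x := by simp [e0]


/-- Let m ≥ 4 and let G be the full isometry group of the hyperbolic quadratic form x₁y₁ + ⋯ + x_m y_m on the 2m-dimensional space over the field with 2 elements (the orthogonal group O⁺(2m,2), which contains Ω⁺(2m,2) with index 2). Then any two Sylow 2-subgroups of G have a non-trivial intersection: for a Sylow 2-subgroup H and every x ∈ G, H ∩ H^x ≠ 1. -/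
theorem result {F : Type*} [Field F] [Fintype F] (hF : Fintype.card F = 2) {m : ℕ} (hm : 4 ≤ m)
    (H : Sylow 2 (Cfsg.isometryGroup F (Cfsg.quadFormPlus m F)))
    (x : Cfsg.isometryGroup F (Cfsg.quadFormPlus m F)) :
    (H : Subgroup (Cfsg.isometryGroup F (Cfsg.quadFormPlus m F))) ⊓ MulAut.conj x • (H : Subgroup _) ≠ ⊥ := by
  classical
  let i0 : Fin m := ⟨0, by omega⟩
  have : Finite (Cfsg.isometryGroup F (Cfsg.quadFormPlus m F)) := inferInstance
  obtain ⟨P, hP⟩ := (isPGroup_fixer hF i0).exists_le_sylow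
  obtain ⟨g, hg⟩ := MulAction.exists_smul_eq (Cfsg.isometryGroup F (Cfsg.quadFormPlus m F)) P H
  let im : Cfsg.isometryGroup F (Cfsg.quadFormPlus m F) → Submodule F (Fin m ⊕ Fin m → F) := fun h =>
    (std i0).map (Matrix.toLin' ((h : GL (Fin m ⊕ Fin m) F) : Matrix _ _ F))
  have hconj : ∀ h w, w ∈ fixer (im h) → h⁻¹ * w * h ∈ fixer (F := F) (std i0) := by
    intro h w hw v hv
    have := hw _ (Submodule.mem_map_of_mem hv)
    rw [Matrix.toLin'_apply] at this
    rw [Subgroup.coe_mul, Subgroup.coe_mul, Units.val_mul, Units.val_mul, ← Matrix.mulVec_mulVec,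
      ← Matrix.mulVec_mulVec, this, Matrix.mulVec_mulVec, Subgroup.coe_inv, Units.inv_mul, Matrix.one_mulVec]
  have hd : ∀ h, Module.finrank F (im h) + 1 ≤ m := fun h =>
    (Nat.add_le_add_right (Submodule.finrank_map_le _ _) 1).trans (finrank_std_le i0)
  obtain ⟨w, hw1, hwS, hwS'⟩ := exists_fixing hF (im g) (im (x * g)) (by
    have := hd g
    have := hd (x * g)
    omega)
  intro hbot
  have hH : (H : Subgroup _) = MulAut.conj g • (P : Subgroup (Cfsg.isometryGroup F (Cfsg.quadFormPlus m F))) := by rw [← hg]; rfl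
  have hmem : w ∈ (H : Subgroup (Cfsg.isometryGroup F (Cfsg.quadFormPlus m F))) ⊓
      MulAut.conj x • (H : Subgroup _) := by
    refine ⟨?_, ?_⟩
    · rw [hH]
      exact ⟨g⁻¹ * w * g, hP (hconj g w hwS), by simp [MulAut.conj_apply, mul_assoc]⟩
    · rw [hH, smul_smul, ← map_mul]
      exact ⟨(x * g)⁻¹ * w * (x * g), hP (hconj _ w hwS'), by simp [MulAut.conj_apply, mul_assoc]⟩
  rw [hbot, Subgroup.mem_bot] at hmem
  exact hw1 hmem

end Cfsg.Agent.S2487
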