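import Cfsg.Statements.S2488
import Mathlib

set_option autoImplicit false
open scoped Pointwise
open Cfsg

namespace Cfsg.Agent.S2488

open Equiv

/-- A fixed Sylow 2-subgroup of `A₆`, as a list of image lists. -/
def tList : List (List ℕ) := [[0,1,2,3,4,5],[0,3,2,1,5,4],[1,0,3,2,4,5],[1,2,3,0,5,4],[2,1,0,3,5,4],[2,3,0,1,4,5],[3,0,1,2,5,4],[3,2,1,0,4,5]]

def img (m : Perm (Fin 6)) : List ℕ := List.ofFn fun i => (m i).val

def inT (m : Perm (Fin 6)) : Bool := tList.contains (img m)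

def zc : Perm (Fin 6) := Equiv.swap 0 2 * Equiv.swap 1 3

/-- `T ∩ m T m⁻¹ = 1`, tested on the elements of `T`. -/
def trivMeet (m : Perm (Fin 6)) (els : List (Perm (Fin 6))) : Bool :=
  els.all fun t => (img t == [0, 1, 2, 3, 4, 5]) || !(inT (m * t * m⁻¹))

def gens1 : Perm (Fin 6) := Equiv.swap 0 3 * Equiv.swap 0 2 * Equiv.swap 0 1 * Equiv.swap 4 5

def gens2 : Perm (Fin 6) := Equiv.swap 0 2 * Equiv.swap 4 5

def tEls : List (Perm (Fin 6)) :=
  [1, gens1, gens1 * gens1, gens1 * gens1 * gens1, gens2, gens1 * gens2, gens1 * gens1 * gens2,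
    gens1 * gens1 * gens1 * gens2]

lemma inT_iff : ∀ m : Perm (Fin 6), inT m = true ↔ m ∈ tEls := by decide +kernel

lemma t_closed : ∀ s ∈ tEls, ∀ t ∈ tEls, s * t ∈ tEls ∧ s⁻¹ ∈ tEls ∧ Perm.sign s = 1 ∧
    zc * t = t * zc := by decide +kernel

lemma t_nodup : tEls.Nodup ∧ zc ∈ tEls ∧ zc ≠ 1 := by decide +kernel

lemma t_centre : ∀ s ∈ tEls, (∀ t ∈ tEls, s * t = t * s) → s = 1 ∨ s = zc := by decide +kernel

lemma count_bound : ∀ b : Bool, ((Finset.univ : Finset (Perm (Fin 6))).filter fun m =>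
    Perm.sign m = 1 ∧ trivMeet m tEls = true ∧
      (img ((zc * (m * zc * m⁻¹)) ^ 3) == [0, 1, 2, 3, 4, 5]) = b).card ≤ 128 := by decide +kernel

lemma img_one (m : Perm (Fin 6)) : (img m == [0, 1, 2, 3, 4, 5]) = true ↔ m = 1 := by
  revert m; decide +kernel

/-- The subgroup `T`. -/
def tGroup : Subgroup (alternatingGroup (Fin 6)) where
  carrier := {a | (a : Perm (Fin 6)) ∈ tEls}
  one_mem' := List.mem_cons_self
  mul_mem' := fun {a b} ha hb => (t_closed _ ha _ hb).1
  inv_mem' := fun {a} ha => (t_closed _ ha _ ha).2.1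

lemma card_tGroup : Nat.card tGroup = 8 := by
  have e : tGroup ≃ {m : Perm (Fin 6) // m ∈ tEls.toFinset} :=
    { toFun := fun a => ⟨a.1.1, List.mem_toFinset.2 a.2⟩
      invFun := fun m => ⟨⟨m.1, Perm.mem_alternatingGroup.2
        (t_closed _ (List.mem_toFinset.1 m.2) _ (List.mem_toFinset.1 m.2)).2.2.1⟩, List.mem_toFinset.1 m.2⟩
      left_inv := fun _ => rfl
      right_inv := fun _ => rfl }
  rw [Nat.card_congr e, Nat.card_eq_fintype_card, Fintype.card_coe, List.toFinset_card_of_nodup t_nodup.1]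
  rfl


/-- Let G be a finite group with a normal subgroup N of index 4 isomorphic to the alternating group of degree 6 and with trivial centralizer in G (so G is the full automorphism group of A₆). Then any two Sylow 2-subgroups of G have a non-trivial intersection: for a Sylow 2-subgroup H and every x ∈ G, H ∩ H^x ≠ 1. -/
theorem result {G : Type*} [Group G] [Finite G] (N : Subgroup G) [N.Normal]
    (e : N ≃* alternatingGroup (Fin 6)) (hidx : N.index = 4)
    (hC : Subgroup.centralizer (N : Set G) = ⊥)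
    (H : Sylow 2 G) (x : G) :
    (H : Subgroup G) ⊓ MulAut.conj x • (H : Subgroup G) ≠ ⊥ := by
  classical
  have := Fintype.ofFinite G
  let TN : Subgroup N := tGroup.comap e.toMonoidHom
  let T : Subgroup G := TN.map N.subtype
  have hTN : T ≤ N := by rintro _ ⟨a, -, rfl⟩; exact a.2
  have memT : ∀ a : N, (a : G) ∈ T ↔ ((e a : alternatingGroup (Fin 6)) : Equiv.Perm (Fin 6)) ∈ tEls := fun a =>
    ⟨fun ⟨b, hb, he⟩ => by obtain rfl : b = a := Subtype.ext he; exact hb, fun h => ⟨a, h, rfl⟩⟩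
  have hcardT : Nat.card T = 8 := by
    rw [← card_tGroup, ← Nat.card_congr (TN.equivMapOfInjective _ N.subtype_injective).toEquiv]
    exact Nat.card_congr
      { toFun := fun a => ⟨e a.1, a.2⟩
        invFun := fun b => ⟨e.symm b.1, by
          change e (e.symm b.1) ∈ tGroup
          rw [e.apply_symm_apply]; exact b.2⟩
        left_inv := fun a => Subtype.ext (e.symm_apply_apply a.1)
        right_inv := fun b => Subtype.ext (e.apply_symm_apply b.1) }
  obtain ⟨P, hP⟩ := (IsPGroup.of_card (p := 2) (n := 3) (G := T) (by rw [hcardT]; norm_num)).exists_le_sylow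
  have hN : Nat.card N = 360 := by
    rw [Nat.card_congr e.toEquiv, nat_card_alternatingGroup]
    simp [Nat.factorial]
  have hG : Nat.card G = 1440 := by rw [← Subgroup.card_mul_index N, hN, hidx]
  have hcardP : Nat.card P = 32 := by
    rw [P.card_eq_multiplicity, hG, Nat.factorization_def _ Nat.prime_two,
      show (1440 : ℕ) = 2 ^ 5 * 45 from rfl, padicValNat.mul (by norm_num) (by norm_num),
      padicValNat.prime_pow, padicValNat.eq_zero_of_not_dvd (by norm_num : ¬ 2 ∣ 45)]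
    norm_num
  -- `P ∩ N = T`
  have hPN : ∀ p, p ∈ (P : Subgroup G) → p ∈ N → p ∈ T := by
    have hd : Nat.card ((P : Subgroup G) ⊓ N : Subgroup G) ∣ 8 := by
      have h1 : Nat.card ((P : Subgroup G) ⊓ N : Subgroup G) ∣ 360 := hN ▸ Subgroup.card_dvd_of_le inf_le_right
      have h2 : Nat.card ((P : Subgroup G) ⊓ N : Subgroup G) ∣ 32 := hcardP ▸ Subgroup.card_dvd_of_le inf_le_left
      exact (Nat.dvd_gcd h1 h2).trans (by norm_num)
    have hEq : T = (P : Subgroup G) ⊓ N :=
      Subgroup.eq_of_le_of_card_ge (le_inf hP hTN) (by rw [hcardT]; exact Nat.le_of_dvd (by norm_num) hd)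
    intro p h1 h2
    rw [hEq]; exact ⟨h1, h2⟩
  have hnorm : ∀ p ∈ (P : Subgroup G), ∀ t ∈ T, p * t * p⁻¹ ∈ T := fun p hp t ht =>
    hPN _ (mul_mem (mul_mem hp (hP ht)) (inv_mem hp)) (‹N.Normal›.conj_mem t (hTN ht) p)
  let zN : N := e.symm ⟨zc, Equiv.Perm.mem_alternatingGroup.2 (t_closed _ t_nodup.2.1 _ t_nodup.2.1).2.2.1⟩
  have hzT : (zN : G) ∈ T := (memT zN).2 (by simpa [zN] using t_nodup.2.1)
  have hz_comm : ∀ t ∈ T, (zN : G) * t = t * zN := by
    rintro _ ⟨a, ha, rfl⟩
    have : zN * a = a * zN := e.injective (Subtype.ext (by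
      simpa [zN] using (t_closed _ t_nodup.2.1 _ ha).2.2.2))
    exact congrArg Subtype.val this
  have hPz : ∀ p ∈ (P : Subgroup G), p * (zN : G) * p⁻¹ = zN := by
    intro p hp
    have hmem := hnorm p hp _ hzT
    obtain ⟨a, ha, hae⟩ := id hmem
    change (a : G) = p * zN * p⁻¹ at hae
    rw [← hae]
    have hcen : ∀ t ∈ tEls, ((e a : alternatingGroup (Fin 6)) : Equiv.Perm (Fin 6)) * t = t * (e a : alternatingGroup (Fin 6)) := by
      intro t ht
      let tN : N := e.symm ⟨t, Equiv.Perm.mem_alternatingGroup.2 (t_closed _ ht _ ht).2.2.1⟩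
      have htT : (tN : G) ∈ T := (memT tN).2 (by simpa [tN] using ht)
      have h1 := hz_comm _ (by simpa using hnorm p⁻¹ (inv_mem hp) _ htT : p⁻¹ * (tN : G) * p ∈ T)
      have h2 : a * tN = tN * a := Subtype.ext (by
        change (a : G) * tN = tN * a
        rw [hae]
        calc p * zN * p⁻¹ * tN = p * ((zN : G) * (p⁻¹ * tN * p)) * p⁻¹ := by group
          _ = p * ((p⁻¹ * tN * p) * zN) * p⁻¹ := by rw [h1]
          _ = tN * (p * zN * p⁻¹) := by group)
      simpa [tN] using congrArg (fun x : N => ((e x : alternatingGroup (Fin 6)) : Equiv.Perm (Fin 6))) h2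
    rcases t_centre _ ha hcen with h | h
    · exfalso
      have : a = 1 := e.injective (Subtype.ext (by simpa using h))
      subst this
      have h1 : (zN : G) = 1 := conj_eq_one_iff.1 hae.symm
      have : zN = 1 := Subtype.ext h1
      exact t_nodup.2.2 (by simpa [zN] using congrArg (fun x : N => ((e x : alternatingGroup (Fin 6)) : Equiv.Perm (Fin 6))) this)
    · exact congrArg Subtype.val (show a = zN from e.injective (Subtype.ext (by simpa [zN] using h)))
  have hgen : ∀ y : G, ∃ m ∈ N, ∃ p ∈ (P : Subgroup G), y = m * p := by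
    intro y
    have htop : N ⊔ (P : Subgroup G) = ⊤ := by
      rw [← Subgroup.index_eq_one]
      have h1 : (N ⊔ (P : Subgroup G)).index ∣ 4 := hidx ▸ Subgroup.index_dvd_of_le le_sup_left
      have h2 : (N ⊔ (P : Subgroup G)).index ∣ 45 := by
        have h := Subgroup.index_dvd_of_le (le_sup_right : (P : Subgroup G) ≤ N ⊔ (P : Subgroup G))
        have h' := Subgroup.card_mul_index (P : Subgroup G)
        rw [hcardP, hG] at h'
        rwa [show (P : Subgroup G).index = 45 by omega] at h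
      exact Nat.dvd_one.1 ((Nat.dvd_gcd h1 h2).trans (by norm_num))
    obtain ⟨m, hm, p, hp, rfl⟩ := Subgroup.mem_sup_of_normal_left.1 (htop ▸ Subgroup.mem_top y : y ∈ N ⊔ (P : Subgroup G))
    exact ⟨m, hm, p, hp, rfl⟩
  have key : ∀ y : G, ∃ z ∈ (P : Subgroup G), y⁻¹ * z * y ∈ (P : Subgroup G) ∧ z ≠ 1 := by
    intro y
    obtain ⟨m, hm, p, hp, rfl⟩ := hgen y
    suffices hs : ∃ z ∈ (P : Subgroup G), m⁻¹ * z * m ∈ (P : Subgroup G) ∧ z ≠ 1 by
      obtain ⟨z, hz, hz', hz1⟩ := hs
      refine ⟨z, hz, ?_, hz1⟩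
      rw [show (m * p)⁻¹ * z * (m * p) = p⁻¹ * (m⁻¹ * z * m) * p by group]
      exact mul_mem (mul_mem (inv_mem hp) hz') hp
    by_contra hne
    push Not at hne
    let φ : N →* Equiv.Perm (Fin 6) := (alternatingGroup (Fin 6)).subtype.comp e.toMonoidHom
    have hφ : Function.Injective φ := (Subgroup.subtype_injective _).comp e.injective
    have hφz : φ zN = zc := by simp [φ, zN]
    let mN : N := ⟨m, hm⟩
    let F := fun o : ↥(P : Subgroup G) × ↥T => (⟨(o.1 : G) * m * (o.1 : G)⁻¹ * o.2,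
      mul_mem (‹N.Normal›.conj_mem m hm _) (hTN o.2.2)⟩ : N)
    let b : Bool := img ((zc * (φ mN * zc * (φ mN)⁻¹)) ^ 3) == [0, 1, 2, 3, 4, 5]
    let S := (Finset.univ : Finset (Equiv.Perm (Fin 6))).filter fun M =>
      Equiv.Perm.sign M = 1 ∧ trivMeet M tEls = true ∧
        (img ((zc * (M * zc * M⁻¹)) ^ 3) == [0, 1, 2, 3, 4, 5]) = b
    have hinj : Function.Injective F := by
      rintro ⟨u, s⟩ ⟨u', s'⟩ h
      have h2 : (u : G) * m * (u : G)⁻¹ * s = (u' : G) * m * (u' : G)⁻¹ * s' := congrArg Subtype.val h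
      set k := (u' : G)⁻¹ * u with hkdef
      have hkP : k ∈ (P : Subgroup G) := mul_mem (inv_mem u'.2) u.2
      have hm' : m⁻¹ * k * m = (u' : G)⁻¹ * s' * (s : G)⁻¹ * u :=
        calc m⁻¹ * k * m = m⁻¹ * (u' : G)⁻¹ * ((u : G) * m * (u : G)⁻¹ * s) * (s : G)⁻¹ * u := by
              rw [hkdef]; group
          _ = m⁻¹ * (u' : G)⁻¹ * ((u' : G) * m * (u' : G)⁻¹ * s') * (s : G)⁻¹ * u := by rw [h2]
          _ = _ := by group
      have hk : k = 1 := hne k hkP (hm' ▸ mul_mem (mul_mem (mul_mem (inv_mem u'.2) (hP s'.2))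
        (inv_mem (hP s.2))) u.2)
      obtain rfl : u' = u := Subtype.ext (inv_mul_eq_one.1 hk)
      obtain rfl : s = s' := Subtype.ext (mul_left_cancel h2)
      rfl
    have hmem : ∀ o, φ (F o) ∈ S := by
      rintro ⟨u, s⟩
      refine Finset.mem_filter.2 ⟨Finset.mem_univ _, Equiv.Perm.mem_alternatingGroup.1 (e (F (u, s))).2, ?_, ?_⟩
      · rw [trivMeet, List.all_eq_true]
        intro t ht
        by_cases hc : inT (φ (F (u, s)) * t * (φ (F (u, s)))⁻¹) = true
        swap
        · simp [Bool.eq_false_iff.2 hc]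
        let tN : N := e.symm ⟨t, Equiv.Perm.mem_alternatingGroup.2 (t_closed _ ht _ ht).2.2.1⟩
        have hφt : φ tN = t := by simp [φ, tN]
        have hW : ((F (u, s) * tN * (F (u, s))⁻¹ : N) : G) ∈ T := (memT _).2 (by
          change φ (F (u, s) * tN * (F (u, s))⁻¹) ∈ tEls
          rw [map_mul, map_mul, map_inv, hφt]
          exact (inT_iff _).1 hc)
        set W : G := ((F (u, s) * tN * (F (u, s))⁻¹ : N) : G) with hWdef
        have htT : (tN : G) ∈ T := (memT tN).2 (by change φ tN ∈ tEls; rw [hφt]; exact ht)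
        have h1 := hne ((u : G)⁻¹ * W * u) (mul_mem (mul_mem (inv_mem u.2) (hP hW)) u.2) (by
          rw [show m⁻¹ * ((u : G)⁻¹ * W * u) * m = (u : G)⁻¹ * ((s : G) * tN * (s : G)⁻¹) * u by
            rw [hWdef]; simp only [F, Subgroup.coe_mul, Subgroup.coe_inv]; group]
          exact mul_mem (mul_mem (inv_mem u.2) (mul_mem (mul_mem (hP s.2) (hP htT)) (inv_mem (hP s.2)))) u.2)
        have h2 : W = 1 := by
          calc W = (u : G) * ((u : G)⁻¹ * W * u) * (u : G)⁻¹ := by group
            _ = 1 := by rw [h1]; group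
        have h3 : F (u, s) * tN * (F (u, s))⁻¹ = 1 := Subtype.ext h2
        rw [conj_eq_one_iff] at h3
        have h4 : t = 1 := by rw [← hφt, h3, map_one]
        rw [h4, (img_one 1).2 rfl, Bool.true_or]
      · rw [Bool.eq_iff_iff, img_one, img_one, ← hφz, ← map_inv, ← map_inv, ← map_mul, ← map_mul,
          ← map_mul, ← map_mul, ← map_mul, ← map_mul, ← map_pow, ← map_pow, map_eq_one_iff φ hφ,
          map_eq_one_iff φ hφ, Subtype.ext_iff, Subtype.ext_iff, Subgroup.coe_pow, Subgroup.coe_pow]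
        have e1 : ((zN * (F (u, s) * zN * (F (u, s))⁻¹) : N) : G) =
            (u : G) * ((zN * (mN * zN * mN⁻¹) : N) : G) * (u : G)⁻¹ := by
          have hs : (s : G) * zN * (s : G)⁻¹ = zN := by
            rw [← hz_comm _ s.2, mul_inv_cancel_right]
          have hu' : (u : G)⁻¹ * zN * u = zN := by simpa using hPz _ (inv_mem u.2)
          calc ((zN * (F (u, s) * zN * (F (u, s))⁻¹) : N) : G)
              = (zN : G) * ((u : G) * m * ((u : G)⁻¹ * ((s : G) * zN * (s : G)⁻¹) * u) * m⁻¹ * (u : G)⁻¹) := by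
                simp only [F, Subgroup.coe_mul, Subgroup.coe_inv]; group
            _ = (zN : G) * ((u : G) * m * zN * m⁻¹ * (u : G)⁻¹) := by rw [hs, hu']
            _ = ((u : G) * zN * (u : G)⁻¹) * ((u : G) * m * zN * m⁻¹ * (u : G)⁻¹) := by rw [hPz _ u.2]
            _ = _ := by simp only [mN, Subgroup.coe_mul, Subgroup.coe_inv]; group
        rw [e1, conj_pow, OneMemClass.coe_one, conj_eq_one_iff]
    have h := Finset.card_le_card_of_injOn (fun o => φ (F o))
      (s := (Finset.univ : Finset (↥(P : Subgroup G) × ↥T))) (t := S) (fun o _ => hmem o)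
      (fun o _ o' _ h => hinj (hφ h))
    have hb : S.card ≤ 128 := by convert count_bound b
    rw [Finset.card_univ, ← Nat.card_eq_fintype_card, Nat.card_prod, hcardT, hcardP] at h
    omega
  obtain ⟨g, hg⟩ := MulAction.exists_smul_eq G P H
  obtain ⟨z, hz, hz', hz1⟩ := key (g⁻¹ * x * g)
  intro hbot
  have hH : (H : Subgroup G) = MulAut.conj g • (P : Subgroup G) := by rw [← hg]; rfl
  have hmem : g * z * g⁻¹ ∈ (H : Subgroup G) ⊓ MulAut.conj x • (H : Subgroup G) := by
    refine ⟨?_, ?_⟩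
    · rw [hH]; exact ⟨z, hz, rfl⟩
    · rw [hH, smul_smul, ← map_mul]
      refine ⟨(g⁻¹ * x * g)⁻¹ * z * (g⁻¹ * x * g), hz', ?_⟩
      simp [MulAut.conj_apply]
      group
  rw [hbot, Subgroup.mem_bot] at hmem
  exact hz1 (conj_eq_one_iff.1 hmem)

end Cfsg.Agent.S2488
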