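import Cfsg.Statements.S2490
import Cfsg.Agent.Lib.Order7920Graph

set_option autoImplicit false
open Cfsg

namespace Cfsg.Agent.S2490

open Subgroup Cfsg.Agent.Order7920Graph Cfsg.Agent.PermMinimalNormal

/-- The orders of non-abelian simple groups dividing 7920 that survive the search. -/
def qsOf (d : ℕ) : List ℕ := [11, 5].filter fun q => decide (d % q = 0)

theorem tab : ∀ d ∈ Nat.divisors 7920, d ∈ [1, 2, 60, 360, 660, 720, 1980, 3960, 7920] ∨
    SimpleSearch.kill2 d (qsOf d) = true ∨
    (∃ pv ∈ [(3, 2), (3, 1), (5, 1), (11, 1), (2, 2), (2, 3), (2, 4)],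
      SimpleOrderCheck.kill d (qsOf d) pv.1 pv.2 = true) := by
  decide +kernel

theorem card_simple {T : Type*} [Group T] [Finite T] [IsSimpleGroup T] (hT : ¬ IsMulCommutative T)
    (hd : Nat.card T ∣ 7920) : Nat.card T ∈ [60, 360, 660, 720, 1980, 3960, 7920] := by
  rcases tab _ (Nat.mem_divisors.2 ⟨hd, by norm_num⟩) with h | h | ⟨pv, -, h⟩
  · simp only [List.mem_cons, List.mem_nil_iff, or_false] at h ⊢
    rcases h with h | h | h | h | h | h | h | h | h
    · have := Finite.one_lt_card_iff_nontrivial.2 (inferInstance : Nontrivial T); omega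
    · exfalso
      haveI : Fact (Nat.Prime 2) := ⟨Nat.prime_two⟩
      haveI : IsCyclic T := isCyclic_of_prime_card h
      exact hT IsCyclic.isMulCommutative
    all_goals omega
  · exact absurd rfl (SimpleSearch.card_ne_of_kill2 hT _ h)
  · exact absurd rfl (SimpleOrderCheck.card_ne_of_kill hT _ _ _ h)

theorem opts_table : SimpleSearch.opts 660 [5, 11] 5 = [(5, 11, 2), (5, 11, 4), (5, 66, 2)] ∧
    SimpleSearch.opts 660 [5, 11] 11 = [(11, 12, 5)] ∧
    SimpleSearch.opts 1980 [5, 11] 5 = [(5, 66, 2)] ∧
    SimpleSearch.opts 1980 [5, 11] 11 = [(11, 45, 2)] ∧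
    SimpleSearch.opts 3960 [5, 11] 5 = [(5, 36, 2), (5, 66, 2), (5, 66, 4), (5, 396, 2)] ∧
    SimpleSearch.opts 3960 [5, 11] 11 = [(11, 45, 2)] ∧
    SimpleSearch.comp 3960 (5, 36, 2) (11, 45, 2) = false := by
  decide +kernel

variable {G : Type*} [Group G] [Finite G] {side : ℕ → Prop}

theorem side_of_data (hord : Nat.card G = 7920) (hs : Side G side) (N : Subgroup G) [N.Normal]
    {q : ℕ} [hq : Fact q.Prime] {n : ℕ} {a : SimpleSearch.Dat} (ha : a.1 = q)
    (hH : SimpleSearch.Holds n a N) {r : ℕ} (hr : r.Prime)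
    (hnum : ∀ C : ℕ, 7920 / Nat.card N * SimpleSearch.nOf n a ∣ C * (q - 1) → r ∣ C) :
    side q ↔ side r := by
  subst ha
  obtain ⟨P⟩ : Nonempty (Sylow a.1 N) := inferInstance
  set P' := (P : Subgroup N).map N.subtype
  have hP : Nat.card P' = a.1 := by
    rw [Subgroup.card_map_of_injective N.subtype_injective, hH.order P]
  refine side_centralizer hs hq.out hr P' hP.symm.dvd (hnum _ ?_)
  have hsup : normalizer (P' : Set G) ⊔ N = ⊤ := Sylow.normalizer_sup_eq_top P
  have h1 : N.relIndex (normalizer (P' : Set G)) = N.index := by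
    rw [← relIndex_sup_right (H := normalizer (P' : Set G)) (K := N), hsup, relIndex_top_right]
  have h2 := (N.subgroupOf (normalizer (P' : Set G))).card_mul_index
  have h3 : Nat.card (N.subgroupOf (normalizer (P' : Set G))) = SimpleSearch.nOf n a := by
    rw [← hH.norm P, ← Subgroup.card_map_of_injective (normalizer (P' : Set G)).subtype_injective,
      Subgroup.subgroupOf_map_subtype, ← Subgroup.card_map_of_injective (f := N.subtype) N.subtype_injective]
    have : normalizer ((P : Subgroup N) : Set N) = (normalizer (P' : Set G)).subgroupOf N := by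
      rw [Subgroup.subgroupOf_normalizer_eq (Subgroup.map_subtype_le _)]
      congr 1
      exact congrArg _ (Subgroup.comap_map_eq_self_of_injective N.subtype_injective _).symm
    rw [this, Subgroup.subgroupOf_map_subtype, inf_comm]
  rw [← relIndex, h1, h3] at h2
  refine dvd_trans (dvd_of_eq ?_) (card_normalizer_dvd P' hP)
  rw [← h2, ← hord, ← N.card_mul_index, Nat.mul_div_cancel_left _ Nat.card_pos, mul_comm]

/-- A normal simple subgroup connects the graph. -/
theorem connect_simple (hord : Nat.card G = 7920) (hs : Side G side) (N : Subgroup G) [N.Normal]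
    [IsSimpleGroup N] (hcard : Nat.card N ∈ [660, 1980, 3960]) :
    (side 2 ↔ side 3) ∧ (side 2 ↔ side 5) ∧ (side 2 ↔ side 11) := by
  haveI : Fact (Nat.Prime 5) := ⟨by norm_num⟩
  haveI : Fact (Nat.Prime 11) := ⟨by norm_num⟩
  simp only [List.mem_cons, List.mem_nil_iff, or_false] at hcard
  have hN : ¬ IsMulCommutative N := SimpleOrder.not_comm_of_not_prime (by
    rcases hcard with h | h | h <;> rw [h] <;> norm_num)
  obtain ⟨a, ha, ha5, hHa⟩ := SimpleSearch.exists_holds (G := N) hN [5, 11] (q := 5) (by norm_num)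
    (by rcases hcard with h | h | h <;> rw [h]) (by rcases hcard with h | h | h <;> rw [h] <;> norm_num)
  obtain ⟨b, hb, hb11, hHb⟩ := SimpleSearch.exists_holds (G := N) hN [5, 11] (q := 11) (by norm_num)
    (by rcases hcard with h | h | h <;> rw [h]) (by rcases hcard with h | h | h <;> rw [h] <;> norm_num)
  obtain ⟨t1, t2, t3, t4, t5, t6, t7⟩ := opts_table
  have key : (side 5 ↔ side 2) ∧ (side 5 ↔ side 3) ∧ (side 11 ↔ side 2) := by
    rcases hcard with h | h | h
    · rw [h, t1] at ha; rw [h, t2] at hb; rw [h] at hHa hHb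
      simp only [List.mem_cons, List.mem_nil_iff, or_false] at ha hb
      refine ⟨?_, ?_, side_of_data hord hs N hb11 hHb Nat.prime_two fun C d => ?_⟩
      · refine side_of_data hord hs N ha5 hHa Nat.prime_two fun C d => ?_
        rcases ha with rfl | rfl | rfl <;> simp [SimpleSearch.nOf, h] at d <;> omega
      · refine side_of_data hord hs N ha5 hHa Nat.prime_three fun C d => ?_
        rcases ha with rfl | rfl | rfl <;> simp [SimpleSearch.nOf, h] at d <;> omega
      · subst hb; simp [SimpleSearch.nOf, h] at d; omega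
    · rw [h, t3] at ha; rw [h, t4] at hb; rw [h] at hHa hHb
      simp only [List.mem_cons, List.mem_nil_iff, or_false] at ha hb
      subst ha; subst hb
      refine ⟨side_of_data hord hs N rfl hHa Nat.prime_two fun C d => ?_,
        side_of_data hord hs N rfl hHa Nat.prime_three fun C d => ?_,
        side_of_data hord hs N rfl hHb Nat.prime_two fun C d => ?_⟩ <;>
        simp [SimpleSearch.nOf, h] at d <;> omega
    · rw [h, t5] at ha; rw [h, t6] at hb; rw [h] at hHa hHb
      simp only [List.mem_cons, List.mem_nil_iff, or_false] at ha hb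
      subst hb
      have h11 : side 11 ↔ side 2 := side_of_data hord hs N rfl hHb Nat.prime_two fun C d => by
        simp [SimpleSearch.nOf, h] at d; omega
      rcases ha with rfl | rfl | rfl | rfl
      · exfalso
        have h1 := SimpleSearch.comp1_eq_true (by norm_num) hHa hHb
        have h2 := SimpleSearch.comp1_eq_true (by norm_num) hHb hHa
        rw [SimpleSearch.comp, h1, h2] at t7
        exact absurd t7 (by decide)
      · refine ⟨side_of_data hord hs N rfl hHa Nat.prime_two fun C d => ?_,
          side_of_data hord hs N rfl hHa Nat.prime_three fun C d => ?_, h11⟩ <;>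
          simp [SimpleSearch.nOf, h] at d <;> omega
      · refine ⟨side_of_data hord hs N rfl hHa Nat.prime_two fun C d => ?_,
          side_of_data hord hs N rfl hHa Nat.prime_three fun C d => ?_, h11⟩ <;>
          simp [SimpleSearch.nOf, h] at d <;> omega
      · exact (Order3960Simple.false_of_data h hHa.num hHb.num hHb.norm hHb.cent).elim
  exact ⟨key.1.symm.trans key.2.1, key.1.symm, key.2.2.symm⟩

/-- A proper non-trivial normal subgroup connects the graph. -/
theorem connect_normal (hord : Nat.card G = 7920) (hs : Side G side) (N₀ : Subgroup G) (hn₀ : N₀.Normal)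
    (hb₀ : N₀ ≠ ⊥) (ht₀ : N₀ ≠ ⊤) : (side 2 ↔ side 3) ∧ (side 2 ↔ side 5) ∧ (side 2 ↔ side 11) := by
  haveI : Fact (Nat.Prime 11) := ⟨by norm_num⟩
  obtain ⟨N, hNle, hNn, hNb, hNmin⟩ := exists_isMinNormal_le N₀ hb₀
  haveI := hNn
  by_cases hp : ∃ (p : ℕ) (_ : Fact p.Prime) (P : Subgroup G), P.Normal ∧ IsPGroup p P ∧ P ≠ ⊥
  · obtain ⟨p, _, P, hPn, hPp, hPne⟩ := hp
    haveI := hPn
    exact connect_pgroup hord hs P hPp hPne
  have hnc : ¬ IsMulCommutative N := by
    intro hc
    obtain ⟨p, hpp, hd⟩ := Nat.exists_prime_and_dvd (fun h => hNb (Subgroup.eq_bot_of_card_eq N h))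
    haveI := Fact.mk hpp
    obtain ⟨S⟩ : Nonempty (Sylow p N) := inferInstance
    have hSn : (S : Subgroup N).Normal :=
      ⟨fun x hx g => by rwa [hc.is_comm.comm g x, mul_inv_cancel_right]⟩
    haveI := S.characteristic_of_normal hSn
    refine hp ⟨p, inferInstance, (S : Subgroup N).map N.subtype, inferInstance, S.2.map _, ?_⟩
    rw [Ne, Subgroup.map_eq_bot_iff_of_injective _ N.subtype_injective]
    exact S.ne_bot_of_dvd_card hd
  have hperf : commutator N = ⊤ := by
    rcases hNmin _ (inferInstance : (⁅N, N⁆ : Subgroup G).Normal) (Subgroup.commutator_le_self N) with h | h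
    · exact absurd ⟨⟨fun a b => Subtype.ext (commutatorElement_eq_one_iff_mul_comm.1
        ((Subgroup.mem_bot (G := G)).1 (h ▸ Subgroup.commutator_mem_commutator a.2 b.2)))⟩⟩ hnc
    · refine Subgroup.map_injective N.subtype_injective ?_
      rw [commutator_def, Subgroup.map_commutator, ← MonoidHom.range_eq_map, N.range_subtype, h]
  have hgen : ∀ r : ℕ, r.Prime → r ∣ Nat.card N → ∀ K : Subgroup N, (∀ x : N, orderOf x = r → x ∈ K) →
      K = ⊤ := by
    intro r hr hd K hK
    haveI := Fact.mk hr
    let A := normalClosure {g : G | g ∈ N ∧ orderOf g = r}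
    have hAN : A ≤ N := normalClosure_le_normal fun g hg => hg.1
    obtain ⟨x, hx⟩ := exists_prime_orderOf_dvd_card' r hd
    have hA : A = N := by
      rcases hNmin A inferInstance hAN with h | h
      · exfalso
        have : (x : G) ∈ A := subset_normalClosure ⟨x.2, by rw [Subgroup.orderOf_coe, hx]⟩
        rw [h, mem_bot] at this
        rw [show x = 1 from Subtype.ext this, orderOf_one] at hx
        exact hr.ne_one hx.symm
      · exact h
    refine eq_top_iff.2 fun y _ => ?_
    have hy : (y : G) ∈ K.map N.subtype := by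
      have hle : A ≤ K.map N.subtype := by
        show Subgroup.closure (Group.conjugatesOfSet {g : G | g ∈ N ∧ orderOf g = r}) ≤ _
        rw [closure_le]
        intro z hz
        obtain ⟨a, ⟨haN, har⟩, hconj⟩ := Group.mem_conjugatesOfSet_iff.1 hz
        obtain ⟨c, rfl⟩ := isConj_iff.1 hconj
        refine ⟨⟨c * a * c⁻¹, hNn.conj_mem a haN c⟩, hK _ ?_, rfl⟩
        rw [← Subgroup.orderOf_coe]
        exact (orderOf_injective (MulAut.conj c).toMonoidHom (MulAut.conj c).injective a).trans har
      exact hle (hA.symm ▸ y.2)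
    obtain ⟨y', hy', e⟩ := hy
    rwa [← Subtype.ext (e : (y' : G) = y)]
  obtain ⟨M, hM⟩ : ∃ M : Subgroup N, M.Normal ∧ M ≠ ⊤ ∧ ∀ L : Subgroup N, L.Normal → M ≤ L → L = M ∨ L = ⊤ := by
    haveI : Nontrivial N := nontrivial_iff_ne_bot N |>.2 hNb
    obtain ⟨M, ⟨hMn, hMt⟩, hmax⟩ := Set.Finite.exists_maximal (Set.toFinite {L : Subgroup N | L.Normal ∧ L ≠ ⊤})
      ⟨⊥, inferInstance, bot_ne_top⟩
    exact ⟨M, hMn, hMt, fun L hL hle => or_iff_not_imp_right.2 fun hLt => (le_antisymm (hmax ⟨hL, hLt⟩ hle) hle)⟩
  obtain ⟨hMn, hMt, hMmax⟩ := hM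
  haveI := hMn
  haveI : IsSimpleGroup (N ⧸ M) := by
    haveI : Nontrivial (N ⧸ M) := QuotientGroup.nontrivial_iff.2 hMt
    refine ⟨fun L hL => ?_⟩
    rcases hMmax _ (hL.comap (QuotientGroup.mk' M)) (by
      intro x hx; rw [mem_comap, (QuotientGroup.eq_one_iff x).2 hx |> fun e => (e : QuotientGroup.mk' M x = 1)]; exact one_mem _) with h | h
    · left
      rw [← Subgroup.map_comap_eq_self_of_surjective (QuotientGroup.mk'_surjective M) L, h,
        QuotientGroup.map_mk'_self]
    · right
      rw [← Subgroup.map_comap_eq_self_of_surjective (QuotientGroup.mk'_surjective M) L, h,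
        Subgroup.map_top_of_surjective _ (QuotientGroup.mk'_surjective M)]
  have hTnc : ¬ IsMulCommutative (N ⧸ M) := by
    intro hc
    refine hMt (eq_top_iff.2 (hperf ▸ ?_))
    rw [commutator_def, commutator_le]
    intro a _ b _
    rw [← QuotientGroup.eq_one_iff]
    exact commutatorElement_eq_one_iff_mul_comm.2 (hc.is_comm.comm (a : N ⧸ M) b)
  have hmul := M.card_mul_index
  have hNd : Nat.card N ∣ 7920 := hord ▸ N.card_subgroup_dvd_card
  have hT : Nat.card (N ⧸ M) ∣ 7920 := (Dvd.intro_left _ hmul).trans hNd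
  have hcase := card_simple hTnc hT
  simp only [List.mem_cons, List.mem_nil_iff, or_false] at hcase
  have hNne : Nat.card N ≠ 7920 := fun h =>
    ht₀ (top_le_iff.1 ((Subgroup.eq_top_of_card_eq N (h.trans hord.symm)).ge.trans hNle))
  have hTN : Nat.card (N ⧸ M) ∣ Nat.card N := Dvd.intro_left _ hmul
  by_cases h11 : 11 ∣ Nat.card N
  · have h11T : 11 ∣ Nat.card (N ⧸ M) := by
      by_contra hnd
      refine hMt (hgen 11 (by norm_num) h11 M fun x hx => ?_)
      rw [← QuotientGroup.eq_one_iff, ← orderOf_eq_one_iff]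
      have h1 : orderOf (QuotientGroup.mk' M x) ∣ 11 := hx ▸ orderOf_map_dvd _ x
      rcases (Nat.dvd_prime (by norm_num)).1 h1 with h | h
      · exact h
      · exact absurd (h ▸ orderOf_dvd_natCard (QuotientGroup.mk' M x)) hnd
    rw [Subgroup.index] at hmul
    have hM12 : (Nat.card (N ⧸ M) = 660 ∨ Nat.card (N ⧸ M) = 1980 ∨ Nat.card (N ⧸ M) = 3960) ∧
        Nat.card M ≤ 10 := by
      have hpos : 0 < Nat.card M := Nat.card_pos
      have hle : Nat.card N ≤ 3960 := by
        obtain ⟨k, hk⟩ := hNd
        rcases k with _ | _ | k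
        · omega
        · omega
        · nlinarith
      rcases hcase with h | h | h | h | h | h | h <;> rw [h] at hmul h11T <;> omega
    have hMbot : M = ⊥ := by
      have hcent : M ≤ center N := by
        have : centralizer (M : Set N) = ⊤ := hgen 11 (by norm_num) h11 _ fun x hx =>
          mem_centralizer_iff.2 fun m hm => ((commute_of_small hx M
            (by rw [normalizer_eq_top]; exact mem_top x) (by
              intro f hf hf'
              have hle := Nat.le_of_dvd Nat.card_pos hf
              rw [Nat.mod_eq_of_lt (by omega), Nat.mod_eq_of_lt (by omega)] at hf'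
              exact hf')) m hm).eq.symm
        intro m hm
        exact mem_center_iff.2 fun g => ((mem_centralizer_iff.1 (this.symm ▸ mem_top g : g ∈ centralizer (M : Set N)) m hm)).symm
      have hz : center N = ⊥ := by
        rcases hNmin ((center N).map N.subtype) inferInstance (map_subtype_le _) with h | h
        · exact (Subgroup.map_eq_bot_iff_of_injective _ N.subtype_injective).1 h
        · refine absurd ⟨⟨fun a b => ?_⟩⟩ hnc
          have : b ∈ center N := by
            obtain ⟨b', hb', e⟩ := (h.ge b.2 : (b : G) ∈ (center N).map N.subtype)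
            rwa [← Subtype.ext (e : (b' : G) = b)]
          exact mem_center_iff.1 this a
      exact le_bot_iff.1 (hz ▸ hcent)
    subst hMbot
    haveI : Nontrivial N := (nontrivial_iff_ne_bot N).2 hNb
    haveI : IsSimpleGroup N := IsSimpleGroup.isSimpleGroup_of_surjective
      (QuotientGroup.quotientBot (G := N)).toMonoidHom (QuotientGroup.quotientBot (G := N)).surjective
    refine connect_simple hord hs N ?_
    rw [Subgroup.card_bot, one_mul] at hmul
    rw [← hmul]
    simp only [List.mem_cons, List.mem_nil_iff, or_false]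
    exact hM12.1
  · have h235 : 2 ∣ Nat.card N ∧ 3 ∣ Nat.card N ∧ 5 ∣ Nat.card N := by
      rcases hcase with h | h | h | h | h | h | h <;> rw [h] at hTN <;>
        exact ⟨dvd_trans (by norm_num) hTN, dvd_trans (by norm_num) hTN, dvd_trans (by norm_num) hTN⟩
    have hedge : ∀ r : ℕ, [Fact r.Prime] → r ∣ Nat.card N → (side r ↔ side 11) := by
      intro r _ hr
      obtain ⟨R⟩ : Nonempty (Sylow r N) := inferInstance
      set R' := (R : Subgroup N).map N.subtype
      obtain ⟨k, hk⟩ := (R.2.map N.subtype : IsPGroup r R').exists_card_eq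
      have hR'N : Nat.card R' ∣ Nat.card N := Subgroup.card_dvd_of_le (map_subtype_le _)
      have hrR : r ∣ Nat.card R' := by
        rw [Subgroup.card_map_of_injective N.subtype_injective]
        exact R.dvd_card_of_dvd_card hr
      have h := card_sup_dvd (normalizer (R' : Set G)) N
      rw [Sylow.normalizer_sup_eq_top R, Subgroup.card_top, hord] at h
      obtain ⟨x, hx⟩ := exists_prime_orderOf_dvd_card' (G := normalizer (R' : Set G)) 11
        (((by norm_num : Nat.Prime 11).dvd_mul.1 (dvd_trans (by norm_num) h)).resolve_right h11)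
      have hxo : orderOf (x : G) = 11 := by rw [Subgroup.orderOf_coe, hx]
      have hc := commute_of_small hxo R' x.2 (by
        intro f hf hf'
        have hsize : ∀ d ∈ Nat.divisors 7920, d ∈ [1, 2, 3, 4, 5, 8, 9, 16] ∨ 11 ∣ d ∨
            (2 ∣ d ∧ 3 ∣ d) ∨ (2 ∣ d ∧ 5 ∣ d) ∨ (3 ∣ d ∧ 5 ∣ d) := by decide +kernel
        have huniq : ∀ s : ℕ, s.Prime → s ∣ Nat.card R' → s = r := fun s hs' hd =>
          (Nat.prime_dvd_prime_iff_eq hs' Fact.out).1 (hs'.dvd_of_dvd_pow (hk ▸ hd))
        rcases hsize _ (Nat.mem_divisors.2 ⟨hR'N.trans hNd, by norm_num⟩) with h' | h' | ⟨a, b⟩ | ⟨a, b⟩ | ⟨a, b⟩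
        · simp only [List.mem_cons, List.mem_nil_iff, or_false] at h'
          rcases h' with h' | h' | h' | h' | h' | h' | h' | h' <;> rw [h'] at hf hf' ⊢ <;>
            (have := Nat.le_of_dvd (by norm_num) hf; interval_cases f <;> omega)
        · exact absurd (h'.trans hR'N) h11
        · have := huniq 2 Nat.prime_two a; have := huniq 3 Nat.prime_three b; omega
        · have := huniq 2 Nat.prime_two a; have := huniq 5 (by norm_num) b; omega
        · have := huniq 3 Nat.prime_three a; have := huniq 5 (by norm_num) b; omega)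
      refine side_centralizer hs Fact.out (by norm_num) R' hrR ?_
      exact hxo ▸ Subgroup.orderOf_dvd_natCard _ (mem_centralizer_iff.2 fun n hn => (hc n hn).eq.symm)
    haveI : Fact (Nat.Prime 2) := ⟨Nat.prime_two⟩
    haveI : Fact (Nat.Prime 3) := ⟨Nat.prime_three⟩
    haveI : Fact (Nat.Prime 5) := ⟨by norm_num⟩
    have e2 := hedge 2 h235.1
    exact ⟨e2.trans (hedge 3 h235.2.1).symm, e2.trans (hedge 5 h235.2.2).symm, e2⟩

/-- Let G be a finite group of order 7920 = 2⁴·3²·5·11 (the order of the smallest Mathieu group) and suppose its prime graph (vertices the prime divisors of the order, distinct p, q joined when there is an element of order pq) is disconnected: the prime divisors split into two non-empty parts with no element of order pq for p in one part and q in the other. Then G is simple. -/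
theorem result {G : Type*} [Group G] [Finite G] (hord : Nat.card G = 7920)
    (hdisc : (∃ A : Set ℕ, (∃ a ∈ A, a.Prime ∧ a ∣ Nat.card G) ∧ (∃ b ∉ A, b.Prime ∧ b ∣ Nat.card G) ∧
      ∀ a ∈ A, ∀ b ∉ A, a.Prime → b.Prime → a ∣ Nat.card G → b ∣ Nat.card G → ¬ ∃ g : G, orderOf g = a * b)) :
    IsSimpleGroup G := by
  obtain ⟨A, ⟨a, haA, hap, had⟩, ⟨b, hbA, hbp, hbd⟩, hA⟩ := hdisc
  let side : ℕ → Prop := fun p => p ∈ A
  have hs : Side G side := by
    intro x y hxy r p hr hp hx hy
    by_contra hne
    have hrp : r ≠ p := fun h => hne (h ▸ Iff.rfl)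
    set u := x ^ (orderOf x / r)
    set v := y ^ (orderOf y / p)
    have hu : orderOf u = r := orderOf_pow_orderOf_div (orderOf_pos x).ne' hx
    have hv : orderOf v = p := orderOf_pow_orderOf_div (orderOf_pos y).ne' hy
    have huv : Commute u v := hxy.pow_pow _ _
    have ho : orderOf (u * v) = r * p := by
      rw [huv.orderOf_mul_eq_mul_orderOf_of_coprime (by rw [hu, hv]; exact (Nat.coprime_primes hr hp).2 hrp),
        hu, hv]
    have hrd : r ∣ Nat.card G := hx.trans (orderOf_dvd_natCard x)
    have hpd : p ∣ Nat.card G := hy.trans (orderOf_dvd_natCard y)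
    by_cases hrA : r ∈ A
    · exact hA r hrA p (fun hpA => hne ⟨fun _ => hpA, fun _ => hrA⟩) hr hp hrd hpd ⟨_, ho⟩
    · exact hA p (not_not.1 fun hpA => hne ⟨fun h => absurd h hrA, fun h => absurd h hpA⟩) r hrA hp hr hpd hrd
        ⟨_, ho.trans (mul_comm r p)⟩
  haveI : Nontrivial G := Finite.one_lt_card_iff_nontrivial.1 (by rw [hord]; norm_num)
  refine ⟨fun N hN => ?_⟩
  by_contra hcon
  push Not at hcon
  obtain ⟨h23, h25, h211⟩ := connect_normal hord hs N hN hcon.1 hcon.2
  exact side_false h23 h25 h211 ⟨a, haA, hap, hord ▸ had⟩ ⟨b, hbA, hbp, hord ▸ hbd⟩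

end Cfsg.Agent.S2490
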