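import Cfsg.Statements.S2495
import Mathlib
import Cfsg.Agent.Lib.SpectrumPSL61
import Cfsg.Agent.Lib.TorusOrderSplit29

set_option autoImplicit false
open Cfsg

namespace Cfsg.Agent.S2495


open Matrix
open Cfsg.Agent.TorusOrderSplit29

theorem exists_orderOf_eq {G : Type*} [Group G] [Finite G] {d : ℕ} {u : G} (h : d ∣ orderOf u) :
    ∃ x : G, orderOf x = d := by
  obtain ⟨c, hc⟩ := h
  have hpos := orderOf_pos u
  have hc0 : c ≠ 0 := fun e => by rw [e, mul_zero] at hc; omega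
  exact ⟨u ^ c, by rw [orderOf_pow' _ hc0, hc, Nat.gcd_mul_left_left, Nat.mul_div_cancel _ (Nat.pos_of_ne_zero hc0)]⟩

theorem not_dvd_QQ {p : ℕ} (hp : p.Prime) {e : ℤ} (hpe : (p : ℤ) ∣ e) {m : ℕ} (hm : 0 < m) :
    ¬ p ∣ QQ e m := by
  intro h
  rw [QQ, ← Int.natCast_dvd] at h
  have h1 : (p : ℤ) ∣ e ^ m := hpe.trans (dvd_pow_self e hm.ne')
  have := Int.natCast_dvd_natCast.1 (show (p : ℤ) ∣ ((1 : ℕ) : ℤ) by simpa using dvd_sub h h1)
  exact hp.not_dvd_one this

theorem no_element {F : Type*} [Field F] [Fintype F] {q : ℕ} (hF : Fintype.card F = q) (hodd : Odd q)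
    {n m : ℕ} (hn : n = 2 * m) (hm : 2 ≤ m) (hc : ¬ Nat.gcd n (q - 1) ∣ m)
    (x : Matrix.ProjectiveSpecialLinearGroup (Fin n) F) : orderOf x ≠ q ^ m + 1 := by
  intro hx
  obtain ⟨p, hp⟩ := CharP.exists F
  haveI := hp
  haveI : Fact p.Prime := ⟨CharP.char_is_prime F p⟩
  obtain ⟨g, rfl⟩ := QuotientGroup.mk_surjective x
  obtain ⟨a, hpr, hqa⟩ := FiniteField.card F p
  rw [hF] at hqa
  have hq3 : 3 ≤ q := by
    have := Fintype.one_lt_card (α := F)
    rw [hF] at this
    rw [Nat.odd_iff] at hodd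
    omega
  have hQ : QQ (q : ℤ) m = q ^ m + 1 := by
    rw [QQ, show (q : ℤ) ^ m + 1 = ((q ^ m + 1 : ℕ) : ℤ) by push_cast; rfl]
    exact Int.natAbs_natCast _
  have h1 := pow_orderOf_eq_one (QuotientGroup.mk g : Matrix.ProjectiveSpecialLinearGroup (Fin n) F)
  rw [← QuotientGroup.mk_pow, SpectrumPSL61.mk_eq_one_iff, hx, ← hQ, Matrix.SpecialLinearGroup.coe_pow] at h1
  obtain ⟨lam, -, hlam⟩ := h1
  haveI : CharP (AlgebraicClosure F) p :=
    charP_of_injective_algebraMap (algebraMap F (AlgebraicClosure F)).injective p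
  let σ := iterateFrobenius (AlgebraicClosure F) p (a : ℕ)
  have hσ : ∀ y, σ y = y ^ (q : ℤ) := fun y => by
    rw [zpow_natCast, hqa]; exact iterateFrobenius_def _ _ _
  obtain ⟨k, hk, ⟨b, hb⟩, hnd⟩ := exists_bad_exponent (e := (q : ℤ)) (m := m) (Int.odd_coe_nat q |>.2 hodd)
    (by simpa using hq3) hn hm (fun y z h => σ.injective (by rw [hσ, hσ, h])) g.1 g.2 hlam.symm
    (by
      rw [Ne, CharP.cast_eq_zero_iff F p]
      exact not_dvd_QQ Fact.out (Int.natCast_dvd_natCast.2 (hqa ▸ dvd_pow_self p a.ne_zero)) (by omega))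
    (fun y hy => by
      set H := g.1.map (algebraMap F (AlgebraicClosure F))
      have hH : σ.mapMatrix H = H := by
        ext i j
        show σ (algebraMap F _ (g.1 i j)) = algebraMap F _ (g.1 i j)
        rw [hσ, zpow_natCast, ← map_pow, ← hF, FiniteField.pow_card]
      have h0 := congrArg σ hy
      rw [RingHom.map_det, map_sub, hH, map_zero] at h0
      rwa [show σ.mapMatrix (Matrix.scalar (Fin n) y) = Matrix.scalar (Fin n) (y ^ (q : ℤ)) by
        rw [RingHom.mapMatrix_apply, Matrix.scalar_apply, Matrix.scalar_apply,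
          Matrix.diagonal_map (map_zero σ)]
        congr 1; funext i; exact hσ y] at h0)
    (by rwa [show ((q : ℤ) - 1).natAbs = q - 1 by omega])
  refine hnd ?_
  rw [hQ, ← hx]
  refine orderOf_dvd_of_pow_eq_one ?_
  rw [← QuotientGroup.mk_pow, SpectrumPSL61.mk_eq_one_iff]
  refine ⟨b, ?_, by rw [Matrix.SpecialLinearGroup.coe_pow, hb]⟩
  have := congrArg Matrix.det hb
  rw [Matrix.det_pow, g.2, one_pow] at this
  simpa [Matrix.scalar_apply, Matrix.det_diagonal] using this.symm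
/-- Let q be an odd prime power, n ≥ 4 even, and L = PSL(n,q). Then L has an element of order q^(n/2) + 1 if and only if the 2-part of n exceeds the 2-part of q − 1. -/
theorem result {F : Type*} [Field F] [Fintype F] {q : ℕ} (hF : Fintype.card F = q) (hodd : Odd q)
    {n : ℕ} (hn : 4 ≤ n) (heven : Even n) :
    (∃ g : Matrix.ProjectiveSpecialLinearGroup (Fin n) F, orderOf g = q ^ (n / 2) + 1) ↔
      padicValNat 2 (q - 1) < padicValNat 2 n := by
  obtain ⟨m, hm⟩ := heven
  obtain rfl : n = 2 * m := by omega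
  rw [Nat.mul_div_cancel_left m two_pos]
  have hq3 : 3 ≤ q := by
    have := Fintype.one_lt_card (α := F)
    rw [hF] at this
    rw [Nat.odd_iff] at hodd
    omega
  rw [← gcd_dvd_iff (by omega) (by omega)]
  constructor
  · rintro ⟨x, hx⟩
    by_contra hc
    exact no_element hF hodd rfl (by omega) hc x hx
  · intro hc
    obtain ⟨p, hp⟩ := CharP.exists F
    haveI := hp
    haveI : Fact p.Prime := ⟨CharP.char_is_prime F p⟩
    obtain ⟨u, hu⟩ := SpectrumPSL61.exists_singer (F := F) (n := 2 * m) (by omega) (p := p)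
    rw [hF] at hu
    refine exists_orderOf_eq (Dvd.dvd.trans ?_ hu)
    have hg : SpectrumPSL61.geom q (2 * m) = SpectrumPSL61.geom q m * (q ^ m + 1) := by
      rw [mul_comm 2 m, SpectrumPSL61.geom_mul q m 2 (by omega)]
      congr 1
      simp [SpectrumPSL61.geom, Finset.sum_range_succ, add_comm]
    have hq1 : q ≡ 1 [MOD Nat.gcd (2 * m) (q - 1)] := by
      rw [Nat.ModEq.comm, Nat.modEq_iff_dvd' (by omega)]
      exact Nat.gcd_dvd_right _ _
    have hcd : Nat.gcd (2 * m) (q - 1) ∣ SpectrumPSL61.geom q m :=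
      Nat.modEq_zero_iff_dvd.1 ((SpectrumPSL61.geom_modEq q _ m hq1).trans (Nat.modEq_zero_iff_dvd.2 hc))
    rw [hg, mul_comm _ (q ^ m + 1), Nat.mul_div_assoc _ hcd]
    exact dvd_mul_right _ _

end Cfsg.Agent.S2495
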