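import Cfsg.Statements.S2496
import Mathlib
import Cfsg.Agent.Lib.SpectrumPSU61
import Cfsg.Agent.Lib.PSL2Proj52
import Cfsg.Agent.Lib.TorusOrderSplit29

set_option autoImplicit false
open Cfsg

namespace Cfsg.Agent.S2496


open Matrix
open Cfsg.Agent.TorusOrderSplit29

theorem exists_orderOf_eq {G : Type*} [Group G] [Finite G] {d : ℕ} {u : G} (h : d ∣ orderOf u) :
    ∃ x : G, orderOf x = d := by
  obtain ⟨c, hc⟩ := h
  have hpos := orderOf_pos u
  have hc0 : c ≠ 0 := fun e => by rw [e, mul_zero] at hc; omega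
  exact ⟨u ^ c, by rw [orderOf_pow' _ hc0, hc, Nat.gcd_mul_left_left, Nat.mul_div_cancel _ (Nat.pos_of_ne_zero hc0)]⟩

theorem not_dvd_QQ {p : ℕ} (hp : p.Prime) {e : ℤ} (hpe : (p : ℤ) ∣ e) {m : ℕ} (hm : 0 < m) :
    ¬ p ∣ QQ e m := by
  intro h
  rw [QQ, ← Int.natCast_dvd] at h
  have h1 : (p : ℤ) ∣ e ^ m := hpe.trans (dvd_pow_self e hm.ne')
  have := Int.natCast_dvd_natCast.1 (show (p : ℤ) ∣ ((1 : ℕ) : ℤ) by simpa using dvd_sub h h1)
  exact hp.not_dvd_one this

open Cfsg.Agent.SpectrumPSU61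

variable {F : Type*} [Field F] [Fintype F] {q m : ℕ}

theorem QQ_neg (hq : 1 ≤ q) (m : ℕ) :
    QQ (-(q : ℤ)) m = if Even m then q ^ m + 1 else q ^ m - 1 := by
  rw [QQ]
  rcases Nat.even_or_odd m with he | ho
  · rw [if_pos he, he.neg_pow, show (q : ℤ) ^ m + 1 = ((q ^ m + 1 : ℕ) : ℤ) by push_cast; rfl]
    exact Int.natAbs_natCast _
  · rw [if_neg (Nat.not_even_iff_odd.2 ho), ho.neg_pow]
    have h1 : 1 ≤ q ^ m := Nat.one_le_pow _ _ hq
    rw [show -(q : ℤ) ^ m + 1 = -((q ^ m - 1 : ℕ) : ℤ) by rw [Nat.cast_sub h1]; push_cast; ring]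
    rw [Int.natAbs_neg, Int.natAbs_natCast]

theorem no_element (hF : Fintype.card F = q ^ 2) (hodd : Odd q)
    {n : ℕ} (hn : n = 2 * m) (hm : 2 ≤ m) (hc : ¬ Nat.gcd n (q + 1) ∣ m)
    (x : Cfsg.PSU n F q) : orderOf x ≠ if Even m then q ^ m + 1 else q ^ m - 1 := by
  intro hx
  obtain ⟨p, hp⟩ := CharP.exists F
  haveI := hp
  haveI : Fact p.Prime := ⟨CharP.char_is_prime F p⟩
  obtain ⟨g, rfl⟩ := QuotientGroup.mk_surjective x
  obtain ⟨b, hpr, hqb⟩ := FiniteField.card F p
  rw [hF] at hqb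
  obtain ⟨a, -, hqa⟩ := (Nat.dvd_prime_pow hpr).1 (hqb ▸ dvd_pow_self q two_ne_zero)
  have hq3 : 3 ≤ q := by
    have h4 := Fintype.one_lt_card (α := F)
    rw [hF] at h4
    rw [Nat.odd_iff] at hodd
    by_contra hlt
    have : q = 1 := by omega
    rw [this, one_pow] at h4
    omega
  have ha0 : a ≠ 0 := fun e => by rw [e, pow_zero] at hqa; omega
  have hQ := QQ_neg (q := q) (by omega) m
  have h1 := pow_orderOf_eq_one (QuotientGroup.mk g : Cfsg.PSU n F q)
  rw [← QuotientGroup.mk_pow, hx, ← hQ] at h1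
  obtain ⟨lam, hlam⟩ := scalar_of_central hF (by omega) h1
  rw [mat_pow] at hlam
  haveI : CharP (AlgebraicClosure F) p :=
    charP_of_injective_algebraMap (algebraMap F (AlgebraicClosure F)).injective p
  let σ := iterateFrobenius (AlgebraicClosure F) p a
  have hσ : ∀ y, σ y = y ^ q := fun y => by rw [hqa]; exact iterateFrobenius_def _ _ _
  have hdet : (mat g).det = 1 := g.1.2
  obtain ⟨k, hk, ⟨c, hb⟩, hnd⟩ := exists_bad_exponent (e := -(q : ℤ)) (m := m)
    ((Int.odd_coe_nat q |>.2 hodd).neg) (by simpa using hq3) hn hm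
    (fun y z h => σ.injective (by
      rw [_root_.zpow_neg, _root_.zpow_neg, _root_.inv_inj, zpow_natCast, zpow_natCast] at h
      rw [hσ, hσ, h])) (mat g) hdet hlam
    (by
      rw [Ne, CharP.cast_eq_zero_iff F p]
      exact not_dvd_QQ Fact.out (Dvd.dvd.neg_right (Int.natCast_dvd_natCast.2 (hqa ▸ dvd_pow_self p ha0)))
        (by omega))
    (fun y hy => by
      let ψ := algebraMap F (AlgebraicClosure F)
      set H := (mat g).map ψ with hH
      have hy0 : y ≠ 0 := fun e => by
        rw [e, map_zero, sub_zero] at hy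
        have : H.det = 1 := by rw [hH, ← ψ.mapMatrix_apply, ← RingHom.map_det, hdet, map_one]
        exact one_ne_zero (this.symm.trans hy)
      have h0 := congrArg σ hy
      rw [RingHom.map_det, map_sub, map_zero,
        show σ.mapMatrix (Matrix.scalar (Fin n) y) = Matrix.scalar (Fin n) (y ^ q) by
          rw [RingHom.mapMatrix_apply, Matrix.scalar_apply, Matrix.scalar_apply,
            Matrix.diagonal_map (map_zero σ)]
          congr 1; funext i; exact hσ y, ← Matrix.det_transpose, Matrix.transpose_sub] at h0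
      have hU : (σ.mapMatrix H)ᵀ * H = 1 := by
        have := congrArg ψ.mapMatrix (adj_mat_mul hF g)
        rw [map_mul, map_one] at this
        rw [← this]
        congr 1
        ext i j
        show σ (ψ (mat g j i)) = ψ (adj q (mat g) i j)
        rw [adj_apply, hσ, map_pow]
      have hs : (Matrix.scalar (Fin n) (y ^ q))ᵀ = Matrix.scalar (Fin n) (y ^ q) := by
        rw [Matrix.scalar_apply, Matrix.diagonal_transpose]
      have h2 : (((σ.mapMatrix H)ᵀ - Matrix.scalar (Fin n) (y ^ q)) * H).det = 0 := by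
        rw [Matrix.det_mul, ← hs, h0, zero_mul]
      rw [sub_mul, hU, show (1 : Matrix (Fin n) (Fin n) _) - Matrix.scalar (Fin n) (y ^ q) * H =
        (-(y ^ q)) • (H - Matrix.scalar (Fin n) ((y ^ q)⁻¹)) by
          rw [Matrix.scalar_apply, Matrix.scalar_apply, ← Matrix.smul_one_eq_diagonal,
            ← Matrix.smul_one_eq_diagonal, smul_mul_assoc, one_mul, smul_sub, smul_smul, neg_smul,
            neg_mul, mul_inv_cancel₀ (pow_ne_zero q hy0), neg_smul, one_smul]
          abel, Matrix.det_smul, mul_eq_zero] at h2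
      rw [_root_.zpow_neg, zpow_natCast]
      exact h2.resolve_left (pow_ne_zero _ (neg_ne_zero.2 (pow_ne_zero q hy0))))
    (by rwa [show (-(q : ℤ) - 1).natAbs = q + 1 by omega])
  refine hnd ?_
  rw [hQ, ← hx]
  refine orderOf_dvd_of_pow_eq_one ?_
  rw [← QuotientGroup.mk_pow]
  exact central_of_scalar (a := c) (by rw [mat_pow, hb])

/-- The torus element of order `q ^ (2m) - 1` on a hyperbolic decomposition. -/
theorem exists_element (hF : Fintype.card F = q ^ 2) (hodd : Odd q) {n : ℕ} (hn : n = 2 * m) (hm : 2 ≤ m) :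
    ∃ u : Cfsg.SU n F q, torusExp q n ∣ orderOf ((u : Cfsg.SU n F q) : Cfsg.PSU n F q) := by
  classical
  obtain ⟨p, hp⟩ := CharP.exists F
  haveI := hp
  haveI : Fact p.Prime := ⟨CharP.char_is_prime F p⟩
  haveI : NeZero m := ⟨by omega⟩
  have h2 : (2 : F) ≠ 0 := PSL2Proj52.two_ne_of_odd (by rw [Nat.card_eq_fintype_card, hF]; exact hodd.pow)
  have hq2 : q ^ 2 - 1 = (q + 1) * (q - 1) := by rw [← Nat.sq_sub_sq, one_pow]
  have hq3 : 3 ≤ q := by
    have h4 := Fintype.one_lt_card (α := F)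
    rw [hF] at h4
    rw [Nat.odd_iff] at hodd
    by_contra hlt
    have : q = 1 := by omega
    rw [this, one_pow] at h4
    omega
  -- `c ^ (q + 1) = -1`
  obtain ⟨c, hc⟩ : ∃ c : F, c ^ (q + 1) = -1 := by
    obtain ⟨z, hz⟩ := IsCyclic.exists_ofOrder_eq_natCard (α := Fˣ)
    rw [Nat.card_units, Nat.card_eq_fintype_card, hF, hq2] at hz
    obtain ⟨s, hs⟩ : Even (q - 1) := by rw [Nat.odd_iff] at hodd; exact Nat.even_iff.2 (by omega)
    refine ⟨((z ^ s : Fˣ) : F), ?_⟩
    have hval : ((z ^ s : Fˣ) : F) ^ (q + 1) = ((z ^ ((q + 1) * s) : Fˣ) : F) := by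
      rw [← Units.val_pow_eq_pow_val, ← pow_mul, mul_comm]
    have hne : z ^ ((q + 1) * s) ≠ 1 := pow_ne_one_of_lt_orderOf
      (Nat.mul_pos (by omega) (show 0 < s by omega)).ne'
      (by rw [hz]; exact Nat.mul_lt_mul_of_pos_left (by omega) (by omega))
    have hsq : z ^ ((q + 1) * s) * z ^ ((q + 1) * s) = 1 := by
      rw [← pow_add, ← mul_add, ← hs, ← hz, pow_orderOf_eq_one]
    rw [hval]
    rcases mul_self_eq_one_iff.1 (show ((z ^ ((q + 1) * s) : Fˣ) : F) * _ = 1 by
      rw [← Units.val_mul, hsq, Units.val_one]) with h | h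
    · exact absurd (Units.ext (h.trans Units.val_one.symm)) hne
    · exact h
  have hc0 : c ≠ 0 := fun e => by rw [e, zero_pow (by omega)] at hc; exact one_ne_zero (show (1 : F) = 0 by linear_combination hc)
  have hcq : c ^ q * c = -1 := by rw [← pow_succ, hc]
  -- the two isotropic halves
  let ι := Fin m ⊕ Fin m
  let P : Matrix ι (Fin m) F := Matrix.fromRows 1 (c • 1)
  let Q : Matrix (Fin m) ι F := (2 : F)⁻¹ • Matrix.fromCols 1 (c⁻¹ • 1)
  have hqq : ∀ x : F, x ^ q ^ 2 = x := fun x => by rw [← hF]; exact FiniteField.pow_card x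
  have hadjP : adj q P = Matrix.fromCols 1 (c ^ q • 1) := by
    ext i (j | j) <;> simp [adj, P, Matrix.one_apply, mul_pow, apply_ite (· ^ q), zero_pow (show q ≠ 0 by omega), eq_comm]
  have h2q : ((2 : F)⁻¹) ^ q = (2 : F)⁻¹ := by
    obtain ⟨b, hpr, hqb⟩ := FiniteField.card F p
    rw [hF] at hqb
    obtain ⟨a, -, hqa⟩ := (Nat.dvd_prime_pow hpr).1 (hqb ▸ dvd_pow_self q two_ne_zero)
    rw [hqa, ← iterateFrobenius_def, map_inv₀, map_ofNat]
  have hadjQ : adj q Q = (2 : F)⁻¹ • Matrix.fromRows 1 ((c⁻¹) ^ q • 1) := by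
    ext (i | i) j <;> simp [adj, Q, Matrix.one_apply, mul_pow, h2q, inv_pow, apply_ite (· ^ q), zero_pow (show q ≠ 0 by omega), eq_comm]
  have hQP : Q * P = 1 := by
    rw [Matrix.smul_mul, Matrix.fromCols_mul_fromRows]
    simp only [Matrix.one_mul, Matrix.smul_mul, Matrix.mul_smul, smul_smul, inv_mul_cancel₀ hc0, mul_inv_cancel₀ hc0, one_smul]
    rw [← two_smul F (1 : Matrix (Fin m) (Fin m) F), smul_smul, inv_mul_cancel₀ h2, one_smul]
  have hPP : adj q P * P = 0 := by
    rw [hadjP, Matrix.fromCols_mul_fromRows]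
    simp only [Matrix.one_mul, Matrix.smul_mul, Matrix.mul_smul, smul_smul, mul_comm c, hcq, neg_smul, one_smul,
      add_neg_cancel]
  have hcc : c⁻¹ * (c⁻¹) ^ q = -1 := by
    rw [inv_pow, ← mul_inv, mul_comm, hcq, inv_neg, inv_one]
  have hQQ : Q * adj q Q = 0 := by
    rw [hadjQ, Matrix.smul_mul, Matrix.mul_smul, Matrix.fromCols_mul_fromRows]
    simp only [Matrix.one_mul, Matrix.smul_mul, Matrix.mul_smul, smul_smul, mul_comm ((c⁻¹) ^ q), hcc, neg_smul,
      one_smul, add_neg_cancel, smul_zero]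
  have hPQ : adj q P * adj q Q = 1 := by rw [← adj_mul hF, hQP, adj_one hF]
  -- the torus
  let L := FiniteField.Extension F p m
  haveI : Finite L := Module.finite_of_finite F
  have B := Module.finBasisOfFinrankEq F L (FiniteField.finrank_extension F p m)
  obtain ⟨x, hx⟩ := IsCyclic.exists_ofOrder_eq_natCard (α := Lˣ)
  rw [Nat.card_units, FiniteField.natCard_extension, Nat.card_eq_fintype_card, hF, ← pow_mul] at hx
  let A : Matrix (Fin m) (Fin m) F := Algebra.leftMulMatrix B (x : L)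
  let A' : Matrix (Fin m) (Fin m) F := Algebra.leftMulMatrix B ((x⁻¹ : Lˣ) : L)
  have hAA : A * A' = 1 := by rw [← map_mul, ← Units.val_mul, mul_inv_cancel, Units.val_one, map_one]
  have hA'A : A' * A = 1 := by rw [← map_mul, ← Units.val_mul, inv_mul_cancel, Units.val_one, map_one]
  let U : Matrix ι ι F := Matrix.fromCols P (adj q Q)
  let V : Matrix ι ι F := Matrix.fromRows Q (adj q P)
  have hVU : V * U = 1 := by
    rw [Matrix.fromRows_mul_fromCols, hQP, hQQ, hPP, hPQ, Matrix.fromBlocks_one]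
  have hUV : U * V = 1 := mul_eq_one_comm.1 hVU
  let D : Matrix ι ι F := Matrix.fromBlocks A 0 0 (adj q A')
  let y : Matrix ι ι F := U * D * V
  have hadjU : adj q U = Matrix.fromRows (adj q P) Q := by
    ext (i | i) j
    · simp [U, adj_apply]
    · simp only [U, adj_apply, Matrix.fromCols_apply_inr, Matrix.fromRows_apply_inr]
      rw [← pow_mul, ← sq, hqq]
  have hadjV : adj q V = Matrix.fromCols (adj q Q) P := by
    ext i (j | j)
    · simp [V, adj_apply]
    · simp only [V, adj_apply, Matrix.fromCols_apply_inr, Matrix.fromRows_apply_inr]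
      rw [← pow_mul, ← sq, hqq]
  have hyy : adj q y * y = 1 := by
    have hadjD : adj q D = Matrix.fromBlocks (adj q A) 0 0 A' := by
      ext (i | i) (j | j) <;>
        simp only [D, adj_apply, Matrix.fromBlocks_apply₁₁, Matrix.fromBlocks_apply₁₂,
          Matrix.fromBlocks_apply₂₁, Matrix.fromBlocks_apply₂₂, Matrix.zero_apply,
          zero_pow (show q ≠ 0 by omega)]
      rw [← pow_mul, ← sq, hqq]
    have hUU : adj q U * U = Matrix.fromBlocks 0 1 1 0 := by
      rw [hadjU, Matrix.fromRows_mul_fromCols, hPP, hPQ, hQP, hQQ]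
    have hmid : adj q D * Matrix.fromBlocks 0 1 1 0 * D = Matrix.fromBlocks 0 1 1 0 := by
      rw [hadjD, Matrix.fromBlocks_multiply, Matrix.fromBlocks_multiply]
      simp only [Matrix.zero_mul, Matrix.mul_zero, Matrix.mul_one, add_zero, zero_add, hA'A]
      rw [← adj_mul hF, hA'A, adj_one hF]
    calc adj q y * y = adj q V * (adj q D * (adj q U * U) * D) * V := by
          rw [show y = U * D * V from rfl, adj_mul hF, adj_mul hF]; simp only [Matrix.mul_assoc]
      _ = U * V := by
          rw [hUU, hmid, hadjV, Matrix.fromCols_mul_fromBlocks]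
          simp only [Matrix.mul_zero, Matrix.mul_one, add_zero, zero_add]
          rfl
      _ = 1 := hUV
  let E : Matrix ι ι F := P * Q
  have hyP : ∀ k, y ^ k * P = P * A ^ k := by
    have h1 : y * P = P * A := by
      rw [Matrix.mul_assoc, Matrix.fromRows_mul, hQP, hPP, Matrix.mul_assoc U D]
      rw [Matrix.fromBlocks_mul_fromRows, Matrix.fromCols_mul_fromRows]
      simp
    intro k
    induction k with
    | zero => simp
    | succ k ih => rw [pow_succ, Matrix.mul_assoc, h1, ← Matrix.mul_assoc, ih, Matrix.mul_assoc, ← pow_succ]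
  have hydet : (y ^ (q + 1)).det = 1 := by
    have hy : y.det = A.det * A'.det ^ q := by
      rw [Matrix.det_mul, Matrix.det_mul, mul_right_comm, ← Matrix.det_mul, hUV, Matrix.det_one, one_mul,
        Matrix.det_fromBlocks_zero₂₁, det_adj hF]
    have hinv : A.det * A'.det = 1 := by rw [← Matrix.det_mul, hAA, Matrix.det_one]
    have hne : A'.det ≠ 0 := right_ne_zero_of_mul (hinv.trans_ne one_ne_zero)
    rw [Matrix.det_pow, hy, eq_inv_of_mul_eq_one_left hinv, mul_pow, inv_pow, ← pow_mul, ← div_eq_inv_mul,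
      div_eq_one_iff_eq (pow_ne_zero _ hne), show q * (q + 1) = (q + 1) + (q ^ 2 - 1) by
        rw [hq2]; obtain ⟨r, rfl⟩ : ∃ r, q = r + 1 := ⟨q - 1, by omega⟩
        simp only [Nat.add_sub_cancel]; ring,
      pow_add, ← hF, FiniteField.pow_card_sub_one_eq_one _ hne, mul_one]
  -- move to `Fin n`
  let e : Fin n ≃ ι := (finCongr (show n = m + m by omega)).trans finSumFinEquiv.symm
  let Y : Matrix (Fin n) (Fin n) F := y.submatrix e e
  have hpowY : ∀ k, Y ^ k = (y ^ k).submatrix e e := fun k => by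
    induction k with
    | zero => simp [Y]
    | succ k ih => rw [pow_succ, pow_succ, ih, Matrix.submatrix_mul_equiv]
  refine torus_order hF (by omega) Y (E.submatrix e e) ?_ ?_ ?_ (q ^ (2 * m) - 1) (fun k hk => ?_)
    (by rw [torusNum, if_pos ⟨m, by omega⟩, hn])
  · intro h0
    have h1 : E = 0 := by
      ext i j
      simpa using congrFun (congrFun h0 (e.symm i)) (e.symm j)
    have h2 : Q * E * P = 1 := by rw [← Matrix.mul_assoc, hQP, Matrix.one_mul, hQP]
    rw [h1, Matrix.mul_zero, Matrix.zero_mul] at h2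
    exact zero_ne_one h2
  · rw [show adj q Y = (adj q y).submatrix e e from rfl, Matrix.submatrix_mul_equiv, hyy,
      Matrix.submatrix_one_equiv]
  · rw [hpowY, Matrix.det_submatrix_equiv_self, hydet]
  · rw [hpowY, Matrix.submatrix_mul_equiv] at hk
    have h1 : y ^ k * E = E := by
      ext i j
      simpa using congrFun (congrFun hk (e.symm i)) (e.symm j)
    have h2 : A ^ k = 1 := by
      have := congrArg (fun M => Q * M * P) h1
      simp only [E, ← Matrix.mul_assoc, hQP, Matrix.one_mul] at this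
      rwa [Matrix.mul_assoc Q (y ^ k), hyP, ← Matrix.mul_assoc, hQP, Matrix.one_mul, Matrix.mul_assoc,
        hQP, Matrix.mul_one] at this
    rw [← hx]
    refine orderOf_dvd_of_pow_eq_one (Units.ext (Algebra.leftMulMatrix_injective B ?_))
    rw [Units.val_pow_eq_pow_val, map_pow, Units.val_one, map_one]
    exact h2
/-- Let q be an odd prime power, n ≥ 4 even, and U = PSU(n,q) (realised over the field with q² elements). Then U has an element of order q^(n/2) + (−1)^(n/2) — that is, q^(n/2) + 1 when n/2 is even and q^(n/2) − 1 when n/2 is odd — if and only if the 2-part of n exceeds the 2-part of q + 1. -/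
theorem result {F : Type*} [Field F] [Fintype F] {q : ℕ} (hF : Fintype.card F = q ^ 2) (hodd : Odd q)
    {n : ℕ} (hn : 4 ≤ n) (heven : Even n) :
    (∃ g : Cfsg.PSU n F q, orderOf g = if Even (n / 2) then q ^ (n / 2) + 1 else q ^ (n / 2) - 1) ↔
      padicValNat 2 (q + 1) < padicValNat 2 n := by
  obtain ⟨m, hm⟩ := heven
  obtain rfl : n = 2 * m := by omega
  rw [Nat.mul_div_cancel_left m two_pos]
  have hq1 : 1 ≤ q := hodd.pos
  rw [← gcd_dvd_iff (by omega) (by omega)]
  constructor
  · rintro ⟨x, hx⟩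
    by_contra hc
    exact no_element hF hodd rfl (by omega) hc x hx
  · intro hc
    obtain ⟨u, hu⟩ := exists_element hF hodd rfl (by omega : 2 ≤ m)
    refine exists_orderOf_eq (Dvd.dvd.trans ?_ hu)
    rw [← QQ_neg hq1]
    set c := Nat.gcd (2 * m) (q + 1) with hcdef
    have hce : (c : ℤ) ∣ -(q : ℤ) - 1 := by
      rw [Int.natCast_dvd, show (-(q : ℤ) - 1).natAbs = q + 1 by omega]
      exact Nat.gcd_dvd_right _ _
    have hcT : c ∣ (TT (-(q : ℤ)) m).natAbs := Int.natCast_dvd.1 ((dvd_TT_iff hce m).2 hc)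
    have hnum : torusNum q (2 * m) = (TT (-(q : ℤ)) m).natAbs * QQ (-(q : ℤ)) m * (q + 1) := by
      have h := congrArg Int.natAbs (TT_mul (-(q : ℤ)) (2 * m))
      rw [TT_double, Int.natAbs_mul, Int.natAbs_mul, show (-(q : ℤ) - 1).natAbs = q + 1 by omega,
        (even_two_mul m).neg_pow, show (q : ℤ) ^ (2 * m) - 1 = ((q ^ (2 * m) - 1 : ℕ) : ℤ) by
          rw [Nat.cast_sub (Nat.one_le_pow _ _ hq1)]; push_cast; rfl, Int.natAbs_natCast] at h
      rw [torusNum, if_pos (even_two_mul m)]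
      exact h.symm
    have hc0 : 0 < c := Nat.gcd_pos_of_pos_right _ (by omega)
    rw [torusExp, ← hcdef, hnum, show (TT (-(q : ℤ)) m).natAbs * QQ (-(q : ℤ)) m * (q + 1) =
      QQ (-(q : ℤ)) m * (TT (-(q : ℤ)) m).natAbs * (q + 1) by ring, mul_comm (q + 1) c,
      Nat.mul_div_mul_right _ _ (by omega : 0 < q + 1), Nat.mul_div_assoc _ hcT]
    exact dvd_mul_right _ _

end Cfsg.Agent.S2496
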