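import Cfsg.Statements.S2500
import Cfsg.Agent.Lib.Cover2SL53
import Cfsg.Agent.Lib.Cover2SU53
import Cfsg.Agent.Lib.Cover2SpEven53
import Cfsg.Agent.Lib.Cover2SpSix53
import Cfsg.Agent.Lib.Cover2GTwo53

set_option autoImplicit false
open Cfsg

namespace Cfsg.Agent.S2500

/-- The infinite families of simple groups with normal covering number 2. For a finite field F: each of PSL_2(F) (|F| ≥ 4), PSL_3(F), PSL_4(F), PSU_4 over F (|F| = q²), PSU_3 over F when |F| = q² with q a power of 3, PSp_{2m}(F) for |F| even, m ≥ 2 and (m, |F|) ≠ (2, 2), PSp_6(F) for |F| a power of 3, and G_2(F) (automorphisms of the split octonions) for |F| = 2^a ≥ 4 is the union of the conjugates of two proper subgroups: there are proper subgroups H, K such that every element is conjugate into H or into K. -/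
theorem result {F : Type} [Field F] [Fintype F] :
    (4 ≤ Fintype.card F → (∃ H K : Subgroup (Matrix.ProjectiveSpecialLinearGroup (Fin 2) F), H ≠ ⊤ ∧ K ≠ ⊤ ∧ ∀ g : (Matrix.ProjectiveSpecialLinearGroup (Fin 2) F), ∃ x : (Matrix.ProjectiveSpecialLinearGroup (Fin 2) F), x * g * x⁻¹ ∈ H ∨ x * g * x⁻¹ ∈ K)) ∧
    (∃ H K : Subgroup (Matrix.ProjectiveSpecialLinearGroup (Fin 3) F), H ≠ ⊤ ∧ K ≠ ⊤ ∧ ∀ g : (Matrix.ProjectiveSpecialLinearGroup (Fin 3) F), ∃ x : (Matrix.ProjectiveSpecialLinearGroup (Fin 3) F), x * g * x⁻¹ ∈ H ∨ x * g * x⁻¹ ∈ K) ∧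
    (∃ H K : Subgroup (Matrix.ProjectiveSpecialLinearGroup (Fin 4) F), H ≠ ⊤ ∧ K ≠ ⊤ ∧ ∀ g : (Matrix.ProjectiveSpecialLinearGroup (Fin 4) F), ∃ x : (Matrix.ProjectiveSpecialLinearGroup (Fin 4) F), x * g * x⁻¹ ∈ H ∨ x * g * x⁻¹ ∈ K) ∧
    (∀ q : ℕ, Fintype.card F = q ^ 2 → (∃ H K : Subgroup (Cfsg.PSU 4 F q), H ≠ ⊤ ∧ K ≠ ⊤ ∧ ∀ g : (Cfsg.PSU 4 F q), ∃ x : (Cfsg.PSU 4 F q), x * g * x⁻¹ ∈ H ∨ x * g * x⁻¹ ∈ K)) ∧
    (∀ q a : ℕ, Fintype.card F = q ^ 2 → 1 ≤ a → q = 3 ^ a → (∃ H K : Subgroup (Cfsg.PSU 3 F q), H ≠ ⊤ ∧ K ≠ ⊤ ∧ ∀ g : (Cfsg.PSU 3 F q), ∃ x : (Cfsg.PSU 3 F q), x * g * x⁻¹ ∈ H ∨ x * g * x⁻¹ ∈ K)) ∧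
    (∀ m : ℕ, 2 ≤ m → ¬ Odd (Fintype.card F) → ¬ (m = 2 ∧ Fintype.card F = 2) → (∃ H K : Subgroup (Cfsg.PSp m F), H ≠ ⊤ ∧ K ≠ ⊤ ∧ ∀ g : (Cfsg.PSp m F), ∃ x : (Cfsg.PSp m F), x * g * x⁻¹ ∈ H ∨ x * g * x⁻¹ ∈ K)) ∧
    (∀ a : ℕ, 1 ≤ a → Fintype.card F = 3 ^ a → (∃ H K : Subgroup (Cfsg.PSp 3 F), H ≠ ⊤ ∧ K ≠ ⊤ ∧ ∀ g : (Cfsg.PSp 3 F), ∃ x : (Cfsg.PSp 3 F), x * g * x⁻¹ ∈ H ∨ x * g * x⁻¹ ∈ K)) ∧
    (∀ a : ℕ, 2 ≤ a → Fintype.card F = 2 ^ a → (∃ H K : Subgroup (Cfsg.Lie.G2 F), H ≠ ⊤ ∧ K ≠ ⊤ ∧ ∀ g : (Cfsg.Lie.G2 F), ∃ x : (Cfsg.Lie.G2 F), x * g * x⁻¹ ∈ H ∨ x * g * x⁻¹ ∈ K)) := by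
  classical
  refine ⟨fun _ => Cover2SL53.cover (n := 2) (d := 2) (Or.inl ⟨rfl, rfl⟩),
    Cover2SL53.cover (n := 3) (d := 3) (Or.inr (Or.inl ⟨rfl, rfl⟩)),
    Cover2SL53.cover (n := 4) (d := 2) (Or.inr (Or.inr ⟨rfl, rfl⟩)),
    fun q hF => Cover2SU53.cover_four hF, fun q a hF ha hq => Cover2SU53.cover_three hF ha hq,
    fun m hm hF _ => ?_, fun a ha hF => ?_, fun a ha hF => ?_⟩
  · have h2 : ringChar F = 2 := by
      by_contra h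
      exact hF (Nat.odd_iff.2 (FiniteField.odd_card_of_char_ne_two h))
    have : CharP F 2 := h2 ▸ ringChar.charP F
    exact Cover2SpEven53.cover hm
  · have := Fact.mk Nat.prime_three
    have : CharP F 3 := charP_of_card_eq_prime_pow hF
    obtain ⟨c, hc⟩ := Cover2Common53.exists_no_root (F := F) (k := 3) three_ne_zero
    have hdeg : (Polynomial.X ^ 3 - Polynomial.X - Polynomial.C c : Polynomial F).natDegree = 3 := by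
      compute_degree!
    exact Cover2SpSix53.cover (c := c) (Polynomial.irreducible_of_degree_le_three_of_not_isRoot
      (by rw [hdeg]; simp) fun x hx => hc x (by simpa using hx))
  · have := Fact.mk Nat.prime_two
    have : CharP F 2 := charP_of_card_eq_prime_pow hF
    exact Cover2GTwo53.cover (hF ▸ Nat.pow_le_pow_right two_pos ha)

end Cfsg.Agent.S2500
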