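import Cfsg.Statements.S2503
import Cfsg.Agent.Lib.PSL2Proj52

set_option autoImplicit false
open Cfsg

namespace Cfsg.Agent.S2503

open PSL2Elements PSL2Proj52
open scoped MatrixGroups

variable {F : Type*} [Field F] [Fintype F]

set_option maxHeartbeats 400000 in
lemma decomp (h2 : (2 : F) = 0) :
    ∃ S : SL(2, F), Nat.card (Subgroup.centralizer ({S} : Set SL(2, F))) = Nat.card F + 1 ∧
      IsCyclic (Subgroup.centralizer ({S} : Set SL(2, F))) ∧
      ∀ g : SL(2, F), ∃ a ∈ Subgroup.centralizer ({S} : Set SL(2, F)), ∃ x : F,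
        ∃ c ∈ Subgroup.centralizer ({S} : Set SL(2, F)), g = a * u x * c := by
  classical
  obtain ⟨t, ht⟩ := exists_nonsplit_trace (F := F)
  set S : SL(2, F) := PSL2Elements.comp t with hS
  have hSns : ∀ r : F, r ^ 2 - tr S * r + 1 ≠ 0 := by simpa [hS] using ht
  obtain ⟨hcyc, hcard⟩ := centralizer_nonsplit hSns
  refine ⟨S, hcard, hcyc, ?_⟩
  set A := Subgroup.centralizer ({S} : Set SL(2, F)) with hA
  have ht0 : t ≠ 0 := fun h => ht 1 (by rw [h]; linear_combination h2)
  have hu : ∀ x : F, (u x)⁻¹ = u (-x) := fun x => inv_eq_of_mul_eq_one_right (by rw [u_mul, add_neg_cancel, u_zero])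
  have hf : ∀ x : F, tr (S * (u x * S * (u x)⁻¹)) = t ^ 2 - x ^ 2 := fun x => by
    rw [hu]
    simp only [tr, mul_apply2, hS, PSL2Elements.u, PSL2Elements.comp]
    simp
    linear_combination h2 * (-1 : F)
  have hinv : ∀ a ∈ A, ∀ c ∈ A, ∀ x : F,
      tr (S * ((a * u x * c) * S * (a * u x * c)⁻¹)) = t ^ 2 - x ^ 2 := by
    intro a ha c hc x
    rw [hA, Subgroup.mem_centralizer_singleton_iff] at ha hc
    have e1 : c * S * c⁻¹ = S := by rw [hc, mul_inv_cancel_right]
    have e2 : a⁻¹ * S * a = S := by rw [mul_assoc, ← ha, inv_mul_cancel_left]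
    calc tr (S * ((a * u x * c) * S * (a * u x * c)⁻¹))
        = tr (a * (a⁻¹ * S * a * (u x * (c * S * c⁻¹) * (u x)⁻¹)) * a⁻¹) := by
          congr 1; group
      _ = t ^ 2 - x ^ 2 := by rw [e1, e2, tr_conj, hf]
  have hsq : ∀ x y : F, t ^ 2 - x ^ 2 = t ^ 2 - y ^ 2 → x = y := fun x y h => by
    have : (x - y) ^ 2 = 0 := by linear_combination -h + (y ^ 2 - x * y) * h2
    exact sub_eq_zero.1 (pow_eq_zero_iff two_ne_zero |>.1 this)
  have hfree : ∀ x : F, x ≠ 0 → x ≠ t → ∀ z ∈ A, (u x)⁻¹ * z * u x ∈ A → z = 1 := by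
    intro x hx0 hxt z hz hz'
    by_contra hz1
    have hz4 : tr z ^ 2 ≠ 4 := by
      intro h
      apply hz1
      obtain ⟨p, _⟩ := CharP.exists F
      have : CharP F 2 := CharTwo.of_one_ne_zero_of_two_eq_zero one_ne_zero h2
      have : Fact (Nat.Prime 2) := ⟨Nat.prime_two⟩
      have htr : tr z = 2 := by
        rw [h2]
        have : tr z ^ 2 = 0 := by linear_combination h + 2 * h2
        exact pow_eq_zero_iff two_ne_zero |>.1 this
      have h1 := pow_char 2 htr
      have hd := Subgroup.orderOf_dvd_natCard (s := A) hz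
      rw [hA, hcard] at hd
      have hodd : ¬ 2 ∣ Nat.card F + 1 := by
        intro h
        have he : Even (Nat.card F) := by
          by_contra hne
          exact two_ne_of_odd (Nat.not_even_iff_odd.1 hne) h2
        rw [Nat.even_iff] at he
        omega
      rcases (Nat.dvd_prime Nat.prime_two).1 (orderOf_dvd_of_pow_eq_one h1) with e | e
      · exact orderOf_eq_one_iff.1 e
      · exact absurd (e ▸ hd) hodd
    obtain ⟨hc, -⟩ := centralizer_semisimple hz4
    have m1 : S ∈ Subgroup.centralizer ({z} : Set SL(2, F)) :=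
      Subgroup.mem_centralizer_singleton_iff.2 (Subgroup.mem_centralizer_singleton_iff.1 hz).symm
    have m2 : u x * S * (u x)⁻¹ ∈ Subgroup.centralizer ({z} : Set SL(2, F)) := by
      refine Subgroup.mem_centralizer_singleton_iff.2 ?_
      have h := Subgroup.mem_centralizer_singleton_iff.1 hz'
      calc u x * S * (u x)⁻¹ * z = u x * (S * ((u x)⁻¹ * z * u x)) * (u x)⁻¹ := by group
        _ = u x * ((u x)⁻¹ * z * u x * S) * (u x)⁻¹ := by rw [h]
        _ = z * (u x * S * (u x)⁻¹) := by group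
    have hcomm := hc.commGroup.mul_comm ⟨S, m1⟩ ⟨u x * S * (u x)⁻¹, m2⟩
    have h00 := congrArg (fun C : Subgroup.centralizer ({z} : Set SL(2, F)) => C.1.1 0 0) hcomm
    simp only [Subgroup.coe_mul, hu, mul_apply2, hS, PSL2Elements.u, PSL2Elements.comp] at h00
    simp at h00
    have : x * (t - x) = 0 := by linear_combination -h00
    rcases mul_eq_zero.1 this with e | e
    · exact hx0 e
    · exact hxt (sub_eq_zero.1 e).symm
  let D := (A × {x : F // x ≠ 0 ∧ x ≠ t} × A) ⊕ (A × Bool)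
  let Φ : D → SL(2, F) := fun o => o.elim (fun p => (p.1 : SL(2, F)) * u (p.2.1 : F) * (p.2.2 : SL(2, F)))
    (fun p => (p.1 : SL(2, F)) * u (bif p.2 then t else 0))
  have hΦinv : ∀ p : A × Bool, tr (S * (((p.1 : SL(2, F)) * u (bif p.2 then t else 0)) * S *
      ((p.1 : SL(2, F)) * u (bif p.2 then t else 0))⁻¹)) = t ^ 2 - (bif p.2 then t else 0) ^ 2 :=
    fun p => by simpa using hinv _ p.1.2 1 A.one_mem (bif p.2 then t else 0)
  let v : D → F := fun o => o.elim (fun p => (p.2.1 : F)) (fun p => bif p.2 then t else 0)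
  have hΦv : ∀ o, tr (S * (Φ o * S * (Φ o)⁻¹)) = t ^ 2 - (v o) ^ 2 := by
    rintro (⟨a, x, c⟩ | q)
    · exact hinv _ a.2 _ c.2 (x : F)
    · exact hΦinv q
  have hinj : Function.Injective Φ := by
    intro o o' h
    have hv : v o = v o' := hsq _ _ (by rw [← hΦv o, ← hΦv o', h])
    rcases o with ⟨a, ⟨x, hx0, hxt⟩, c⟩ | ⟨a, b⟩ <;>
      rcases o' with ⟨a', ⟨y, hy0, hyt⟩, c'⟩ | ⟨a', b'⟩
    · change (x : F) = y at hv
      subst hv
      change (a : SL(2, F)) * u x * (c : SL(2, F)) = (a' : SL(2, F)) * u x * (c' : SL(2, F)) at h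
      have hm : (u x)⁻¹ * ((a' : SL(2, F))⁻¹ * a) * u x = c' * (c : SL(2, F))⁻¹ := by
        rw [eq_mul_inv_iff_mul_eq]
        calc (u x)⁻¹ * ((a' : SL(2, F))⁻¹ * a) * u x * c
            = (u x)⁻¹ * ((a' : SL(2, F))⁻¹ * (a * u x * c)) := by group
          _ = c' := by rw [h]; group
      have h1 := hfree x hx0 hxt _ (A.mul_mem (A.inv_mem a'.2) a.2)
        (hm ▸ A.mul_mem c'.2 (A.inv_mem c.2))
      obtain rfl : a' = a := Subtype.ext (inv_mul_eq_one.1 h1)
      obtain rfl : c = c' := Subtype.ext (mul_left_cancel h)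
      rfl
    · exfalso
      cases b'
      · exact hx0 hv
      · exact hxt hv
    · exfalso
      cases b
      · exact hy0 hv.symm
      · exact hyt hv.symm
    · have hb : b = b' := by
        cases b <;> cases b'
        · rfl
        · exact absurd hv.symm ht0
        · exact absurd hv ht0
        · rfl
      subst hb
      obtain rfl : a = a' := Subtype.ext (mul_right_cancel h)
      rfl
  have hD : Nat.card D = Nat.card SL(2, F) := by
    have hsub : Nat.card {x : F // x ≠ 0 ∧ x ≠ t} = Nat.card F - 2 := by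
      rw [Nat.card_eq_fintype_card, Nat.card_eq_fintype_card, Fintype.card_subtype]
      have : (Finset.univ.filter fun x : F => x ≠ 0 ∧ x ≠ t) = Finset.univ \ {0, t} := by
        ext x; simp
      rw [this, Finset.card_univ_diff, Finset.card_pair ht0.symm]
    simp only [D, Nat.card_sum, Nat.card_prod, hsub, PSLCard.card_SL2, show Nat.card A = Nat.card F + 1 from hcard]
    rw [Nat.card_eq_fintype_card (α := Bool), Fintype.card_bool]
    have hq := PSLCard.one_lt_card F
    obtain ⟨k, hk⟩ := Nat.exists_eq_add_of_le hq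
    rw [hk, show Nat.succ 1 + k - 2 = k by omega,
      show (Nat.succ 1 + k) ^ 2 - 1 = k ^ 2 + 4 * k + 3 from Nat.sub_eq_of_eq_add (by ring)]
    ring
  have hb := hinj.bijective_of_nat_card_le hD.ge
  intro g
  obtain ⟨o, rfl⟩ := hb.2 g
  rcases o with ⟨a, x, c⟩ | ⟨a, b⟩
  · exact ⟨a, a.2, x, c, c.2, rfl⟩
  · exact ⟨a, a.2, _, 1, A.one_mem, (mul_one _).symm⟩


/-- Let F be a finite field with q = 2^t ≥ 4 elements and L = PSL(2,F). Then L has a cyclic subgroup A of order q + 1 and an elementary abelian 2-subgroup B of order q such that L = ABA: every element of L is a product a·b·a' with a, a' ∈ A and b ∈ B. -/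
theorem result {F : Type*} [Field F] [Fintype F]
    (h2 : 2 ∣ Fintype.card F) (h4 : 4 ≤ Fintype.card F) :
    ∃ A B : Subgroup (Matrix.ProjectiveSpecialLinearGroup (Fin 2) F),
      IsCyclic A ∧ Nat.card A = Fintype.card F + 1 ∧ IsMulCommutative B ∧ (∀ b ∈ B, b * b = 1) ∧
        Nat.card B = Fintype.card F ∧
        ∀ g : Matrix.ProjectiveSpecialLinearGroup (Fin 2) F, ∃ a ∈ A, ∃ b ∈ B, ∃ c ∈ A, g = a * b * c := by
  have h2F : (2 : F) = 0 := two_eq_of_even (by rwa [Nat.card_eq_fintype_card, even_iff_two_dvd])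
  obtain ⟨S, hcard, hcyc, hdec⟩ := decomp h2F
  have hπ : Function.Injective (π : Matrix.SpecialLinearGroup (Fin 2) F →* _) := π_injective_of_even h2F
  set A0 := Subgroup.centralizer ({S} : Set (Matrix.SpecialLinearGroup (Fin 2) F)) with hA0
  let eA := A0.equivMapOfInjective π hπ
  let φ : Multiplicative F →* Matrix.ProjectiveSpecialLinearGroup (Fin 2) F := π.comp uHom
  have hφ : Function.Injective φ := hπ.comp uHom_injective
  refine ⟨A0.map π, φ.range, eA.isCyclic.1 hcyc, ?_, ⟨⟨?_⟩⟩, ?_, ?_, ?_⟩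
  · rw [← Nat.card_congr eA.toEquiv, hcard, Nat.card_eq_fintype_card]
  · rintro ⟨_, a, rfl⟩ ⟨_, b, rfl⟩
    exact Subtype.ext (by
      change φ a * φ b = φ b * φ a
      rw [← map_mul, ← map_mul, mul_comm])
  · rintro _ ⟨a, rfl⟩
    rw [← map_mul]
    have : a * a = 1 := by
      apply Multiplicative.toAdd.injective
      rw [toAdd_mul, toAdd_one, ← two_mul, h2F, zero_mul]
    rw [this, map_one]
  · rw [← Nat.card_congr (MonoidHom.ofInjective hφ).toEquiv, Nat.card_congr Multiplicative.toAdd,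
      Nat.card_eq_fintype_card]
  · intro g
    obtain ⟨G, rfl⟩ := π_surjective g
    obtain ⟨a, ha, x, c, hc, rfl⟩ := hdec G
    exact ⟨π a, ⟨a, ha, rfl⟩, φ (Multiplicative.ofAdd x), ⟨_, rfl⟩, π c, ⟨c, hc, rfl⟩,
      by rw [map_mul, map_mul]; rfl⟩

end Cfsg.Agent.S2503
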