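import Cfsg.Statements.S2504
import Cfsg.Agent.Lib.AbelianPerm52

set_option autoImplicit false
open Cfsg

namespace Cfsg.Agent.S2504

/-- The largest order of an abelian subgroup of the alternating group of degree n is 3^k when n = 3k, 4·3^(k−1) when n = 3k + 1, and 16·3^(k−2) when n = 3k + 2, for every k ≥ 2 (so for all degrees n ≥ 6). -/
theorem result (k : ℕ) (hk : 2 ≤ k) :
    IsGreatest {c : ℕ | ∃ A : Subgroup (alternatingGroup (Fin (3 * k))), IsMulCommutative A ∧ Nat.card A = c} (3 ^ k) ∧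
    IsGreatest {c : ℕ | ∃ A : Subgroup (alternatingGroup (Fin (3 * k + 1))), IsMulCommutative A ∧ Nat.card A = c}
      (4 * 3 ^ (k - 1)) ∧
    IsGreatest {c : ℕ | ∃ A : Subgroup (alternatingGroup (Fin (3 * k + 2))), IsMulCommutative A ∧ Nat.card A = c}
      (16 * 3 ^ (k - 2)) := by
  classical
  have upper : ∀ n c : ℕ, (∃ A : Subgroup (alternatingGroup (Fin n)), IsMulCommutative A ∧ Nat.card A = c) →
      c ≤ AbelianPerm52.maxProdEven n ∨ 2 * c ≤ AbelianPerm52.maxProd n := by
    rintro n c ⟨A, hA, rfl⟩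
    have h := AbelianPerm52.card_le_of_even (A.map (alternatingGroup (Fin n)).subtype) ?_ ?_
    · rwa [Nat.card_fin, ← Nat.card_congr
        (A.equivMapOfInjective _ (Subgroup.subtype_injective _)).toEquiv] at h
    · rintro _ ⟨a, ha, rfl⟩ _ ⟨b, hb, rfl⟩
      rw [← map_mul, ← map_mul]
      exact congrArg _ (congrArg Subtype.val (hA.is_comm.comm (⟨a, ha⟩ : A) ⟨b, hb⟩))
    · rintro _ ⟨a, -, rfl⟩
      exact Equiv.Perm.mem_alternatingGroup.1 a.2
  have lower : ∀ n c : ℕ, AbelianPerm52.HasAb True n c →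
      ∃ A : Subgroup (alternatingGroup (Fin n)), IsMulCommutative A ∧ Nat.card A = c := by
    rintro n c ⟨A, hA, hc, hs⟩
    have hle : A ≤ alternatingGroup (Fin n) := fun a ha => Equiv.Perm.mem_alternatingGroup.2 (hs trivial a ha)
    refine ⟨A.subgroupOf _, ⟨⟨fun a b => Subtype.ext (Subtype.ext (hA _ a.2 _ b.2))⟩⟩, ?_⟩
    rw [Nat.card_congr (Subgroup.subgroupOfEquivOfLe hle).toEquiv, hc]
  have hb := fun m => (AbelianPerm52.hasAb_three True).blocks m
  refine ⟨⟨lower _ _ (hb k), fun c hc => ?_⟩, ⟨?_, fun c hc => ?_⟩, ⟨?_, fun c hc => ?_⟩⟩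
  · rcases upper _ _ hc with h | h
    · exact h.trans (AbelianPerm52.maxProdEven_closed k).1.le
    · rw [(AbelianPerm52.maxProd_closed k).1] at h
      omega
  · have h := (AbelianPerm52.hasAb_four True).add (hb (k - 1))
    rw [show 4 + 3 * (k - 1) = 3 * k + 1 by omega] at h
    exact lower _ _ h
  · have e : 3 * k + 1 = 3 * (k - 1) + 4 := by omega
    rcases upper _ _ hc with h | h
    · rw [e, (AbelianPerm52.maxProdEven_closed (k - 1)).2.1] at h
      exact h
    · rw [e, (AbelianPerm52.maxProd_closed (k - 1)).2.1] at h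
      omega
  · have h := ((AbelianPerm52.hasAb_four True).add (AbelianPerm52.hasAb_four True)).add (hb (k - 2))
    rw [show 4 + 4 + 3 * (k - 2) = 3 * k + 2 by omega] at h
    exact lower _ _ (by rw [show 16 = 4 * 4 from rfl]; exact h)
  · rcases upper _ _ hc with h | h
    · rw [show 3 * k + 2 = 3 * (k - 2) + 8 by omega, (AbelianPerm52.maxProdEven_closed (k - 2)).2.2] at h
      exact h
    · rw [(AbelianPerm52.maxProd_closed k).2.2, show k = k - 2 + 2 by omega, pow_add] at h
      omega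

end Cfsg.Agent.S2504
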