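import Cfsg.Statements.S2505
import Cfsg.Agent.Lib.AbelianPerm52

set_option autoImplicit false
open Cfsg

namespace Cfsg.Agent.S2505

/-- The largest order of an abelian subgroup of the symmetric group of degree n is 3^k when n = 3k, 4·3^(k−1) when n = 3k + 1, and 2·3^k when n = 3k + 2, for every k ≥ 1. -/
theorem result (k : ℕ) (hk : 1 ≤ k) :
    IsGreatest {c : ℕ | ∃ A : Subgroup (Equiv.Perm (Fin (3 * k))), IsMulCommutative A ∧ Nat.card A = c} (3 ^ k) ∧
    IsGreatest {c : ℕ | ∃ A : Subgroup (Equiv.Perm (Fin (3 * k + 1))), IsMulCommutative A ∧ Nat.card A = c}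
      (4 * 3 ^ (k - 1)) ∧
    IsGreatest {c : ℕ | ∃ A : Subgroup (Equiv.Perm (Fin (3 * k + 2))), IsMulCommutative A ∧ Nat.card A = c}
      (2 * 3 ^ k) := by
  have upper : ∀ n c : ℕ, (∃ A : Subgroup (Equiv.Perm (Fin n)), IsMulCommutative A ∧ Nat.card A = c) →
      c ≤ AbelianPerm52.maxProd n := by
    rintro n c ⟨A, hA, rfl⟩
    have h := AbelianPerm52.card_le_maxProd A fun a ha b hb =>
      congrArg Subtype.val (hA.is_comm.comm (⟨a, ha⟩ : A) ⟨b, hb⟩)
    rwa [Nat.card_fin] at h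
  have lower : ∀ n c : ℕ, AbelianPerm52.HasAb False n c →
      ∃ A : Subgroup (Equiv.Perm (Fin n)), IsMulCommutative A ∧ Nat.card A = c := by
    rintro n c ⟨A, hA, hc, -⟩
    exact ⟨A, ⟨⟨fun a b => Subtype.ext (hA _ a.2 _ b.2)⟩⟩, hc⟩
  have hb := fun m => (AbelianPerm52.hasAb_three False).blocks m
  refine ⟨⟨lower _ _ (hb k), fun c hc => ?_⟩, ⟨?_, fun c hc => ?_⟩, ⟨?_, fun c hc => ?_⟩⟩
  · exact (upper _ _ hc).trans (AbelianPerm52.maxProd_closed k).1.le
  · have h := (AbelianPerm52.hasAb_four False).add (hb (k - 1))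
    rw [show 4 + 3 * (k - 1) = 3 * k + 1 by omega] at h
    exact lower _ _ h
  · refine (upper _ _ hc).trans ?_
    rw [show 3 * k + 1 = 3 * (k - 1) + 4 by omega, (AbelianPerm52.maxProd_closed (k - 1)).2.1]
  · have h := AbelianPerm52.hasAb_two.add (hb k)
    rw [show 2 + 3 * k = 3 * k + 2 by omega] at h
    exact lower _ _ h
  · exact (upper _ _ hc).trans (AbelianPerm52.maxProd_closed k).2.2.le

end Cfsg.Agent.S2505
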