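import Cfsg.Statements.S2506
import Mathlib
import Cfsg.Agent.Lib.AbelianPerm52

set_option autoImplicit false
open scoped Pointwise
open Cfsg

namespace Cfsg.Agent.S2506

open Cfsg.Agent.AbelianPerm52 Pointwise

theorem mpe_le_succ : ∀ n, 6 ≤ n → maxProdEven (n - 1) < maxProdEven n := by
  intro n
  induction n using Nat.strong_induction_on with
  | _ n ih =>
    intro hn
    by_cases h : 9 ≤ n
    · by_cases h' : n = 9
      · subst h'; decide
      rw [maxProdEven_succ n h, maxProdEven_succ (n - 1) (by omega)]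
      have := ih (n - 3) (by omega) (by omega)
      rw [show n - 1 - 3 = n - 3 - 1 by omega]
      omega
    · interval_cases n <;> decide

theorem lt_mpe : ∀ a, 6 ≤ a → a < maxProdEven a := by
  intro a
  induction a using Nat.strong_induction_on with
  | _ a ih =>
    intro ha
    by_cases h : 9 ≤ a
    · rw [maxProdEven_succ a h]
      have := ih (a - 3) (by omega) (by omega)
      omega
    · interval_cases a <;> decide

theorem five_lt : ∀ b, 0 < b → 5 * maxProdEven b < maxProdEven (5 + b) := by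
  intro b
  induction b using Nat.strong_induction_on with
  | _ b ih =>
    intro hb
    by_cases h : 9 ≤ b
    · rw [maxProdEven_succ b h, maxProdEven_succ (5 + b) (by omega)]
      have := ih (b - 3) (by omega) (by omega)
      rw [show 5 + b - 3 = 5 + (b - 3) by omega]
      omega
    · interval_cases b <;> decide

theorem mpe_pos : ∀ n, 0 < maxProdEven n := by
  intro n
  induction n using Nat.strong_induction_on with
  | _ n ih =>
    by_cases h : 9 ≤ n
    · rw [maxProdEven_succ n h]; have := ih (n - 3) (by omega); omega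
    · interval_cases n <;> decide

theorem maxProd_lt : ∀ n, 6 ≤ n → maxProd n < 2 * maxProdEven n := by
  intro n
  induction n using Nat.strong_induction_on with
  | _ n ih =>
    intro hn
    by_cases h : 9 ≤ n
    · rw [maxProdEven_succ n h, maxProd_succ n (by omega)]
      have := ih (n - 3) (by omega) (by omega)
      omega
    · interval_cases n <;> decide

/-- An optimal partition has all parts three or four, at most two of them four. -/
theorem optimal {ι : Type*} [Fintype ι] [DecidableEq ι] (f : ι → ℕ) (h2 : ∀ i, f i ≠ 2) (hsum : 6 ≤ ∑ i, f i)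
    (hprod : maxProdEven (∑ i, f i) ≤ ∏ i, f i) :
    (∀ i, f i = 3 ∨ f i = 4) ∧ (Finset.univ.filter fun i => f i = 4).card = (∑ i, f i) % 3 ∧
      3 * (Finset.univ.filter fun i => f i = 3).card + 4 * (Finset.univ.filter fun i => f i = 4).card = ∑ i, f i := by
  have hpos : ∀ i, 0 < f i := fun i => by
    rcases Nat.eq_zero_or_pos (f i) with h | h
    · rw [Finset.prod_eq_zero (Finset.mem_univ i) h] at hprod
      have := mpe_pos (∑ i, f i)
      omega
    · exact h
  have h34 : ∀ i, f i = 3 ∨ f i = 4 := by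
    intro i
    by_contra hc
    rw [not_or] at hc
    set b := ∑ j ∈ Finset.univ.erase i, f j with hb
    have hs : ∑ j, f j = f i + b := (Finset.add_sum_erase _ _ (Finset.mem_univ i)).symm
    have hp : ∏ j, f j ≤ f i * maxProdEven b := by
      rw [← Finset.mul_prod_erase _ _ (Finset.mem_univ i)]
      exact Nat.mul_le_mul_left _ (prod_le_maxProdEven _ _ fun j _ => h2 j)
    rw [hs] at hprod hsum
    have hge := hprod.trans hp
    have hh := h2 i
    have hp' := hpos i
    rcases (show f i = 1 ∨ f i = 5 ∨ 6 ≤ f i by omega) with h | h | h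
    · rw [h] at hge hsum
      have := mpe_le_succ (1 + b) hsum
      rw [show 1 + b - 1 = b by omega] at this
      omega
    · rw [h] at hge hsum
      have := five_lt b (by omega)
      omega
    · have h3 := Nat.mul_lt_mul_of_pos_right (lt_mpe _ h) (mpe_pos b)
      have := maxProdEven_super (f i) b
      omega
  have hsplit : ∀ g : ι → ℕ, ∑ i, g i = ∑ i ∈ Finset.univ.filter (fun i => f i = 3), g i +
      ∑ i ∈ Finset.univ.filter (fun i => f i = 4), g i := fun g => by
    rw [← Finset.sum_filter_add_sum_filter_not Finset.univ (fun i => f i = 3)]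
    congr 1
    refine Finset.sum_congr ?_ fun _ _ => rfl
    ext i
    have := h34 i
    simp only [Finset.mem_filter, Finset.mem_univ, true_and]
    omega
  have hlin : 3 * (Finset.univ.filter fun i => f i = 3).card + 4 * (Finset.univ.filter fun i => f i = 4).card =
      ∑ i, f i := by
    rw [hsplit f, Finset.sum_congr rfl (fun i hi => (Finset.mem_filter.mp hi).2), Finset.sum_const, smul_eq_mul,
      Finset.sum_congr rfl (fun i hi => (Finset.mem_filter.mp hi).2), Finset.sum_const, smul_eq_mul]
    omega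
  refine ⟨h34, ?_, hlin⟩
  have hle : (Finset.univ.filter fun i => f i = 4).card ≤ 2 := by
    by_contra hc
    obtain ⟨T, hT, hTc⟩ := Finset.exists_subset_card_eq (n := 3) (show 3 ≤ (Finset.univ.filter fun i => f i = 4).card by omega)
    have hT4 : ∀ i ∈ T, f i = 4 := fun i hi => (Finset.mem_filter.mp (hT hi)).2
    have hs : ∑ i, f i = 12 + ∑ i ∈ Tᶜ, f i := by
      rw [← Finset.sum_add_sum_compl T f, Finset.sum_congr rfl hT4, Finset.sum_const, hTc]
      rfl
    have hp : ∏ i, f i ≤ 64 * maxProdEven (∑ i ∈ Tᶜ, f i) := by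
      rw [← Finset.prod_mul_prod_compl T f, Finset.prod_congr rfl hT4, Finset.prod_const, hTc]
      exact Nat.mul_le_mul_left _ (prod_le_maxProdEven _ _ fun j _ => h2 j)
    rw [hs] at hprod
    have h1 := maxProdEven_super 12 (∑ i ∈ Tᶜ, f i)
    have h81 : maxProdEven 12 = 81 := by decide
    rw [h81] at h1
    have := mpe_pos (∑ i ∈ Tᶜ, f i)
    omega
  omega

/-- Semiregular on a block, with square one when the block has four points. -/
def Good {α ι : Type*} (f : α → ι) (a : Equiv.Perm α) : Prop :=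
  (∀ x, f (a x) = f x) ∧ (∀ x y, f x = f y → a x = x → a y = y) ∧
    ∀ x, Nat.card {y // f y = f x} = 4 → a (a x) = x

theorem good_conj {α ι κ : Type*} {f : α → ι} {g : α → κ} (π : ι ≃ κ) (σ : Equiv.Perm α)
    (hσ : ∀ x, g (σ x) = π (f x)) {a : Equiv.Perm α} (ha : Good f a) : Good g (σ * a * σ⁻¹) := by
  have key : ∀ y, g y = π (f (σ⁻¹ y)) := fun y => by rw [← hσ]; simp
  refine ⟨fun y => ?_, fun x y hxy hx => ?_, fun x hx => ?_⟩
  · rw [key, key y]; simp [ha.1]
  · rw [key, key y] at hxy
    simp only [Equiv.Perm.mul_apply] at hx ⊢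
    have h1 : a (σ⁻¹ x) = σ⁻¹ x := by
      apply σ.injective
      rw [hx]; simp
    rw [ha.2.1 _ _ (π.injective hxy) h1]; simp
  · have h4 : Nat.card {y // f y = f (σ⁻¹ x)} = 4 := by
      rw [← hx]
      refine Nat.card_congr (σ.subtypeEquiv fun y => ?_)
      rw [hσ, key x, π.apply_eq_iff_eq]
    simp only [Equiv.Perm.mul_apply]
    rw [show σ⁻¹ (σ (a (σ⁻¹ x))) = a (σ⁻¹ x) from σ.symm_apply_apply _, ha.2.2 _ h4]
    exact σ.apply_symm_apply x

theorem perm_small : ∀ k, k = 3 ∨ k = 4 → ∀ p q : Equiv.Perm (Fin k),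
    (∀ x y, p x = x → p y = y) → (∀ x y, q x = x → q y = y) →
    (k = 4 → (∀ x, p (p x) = x) ∧ ∀ x, q (q x) = x) → ∀ i, p i = q i → p = q := by
  rintro k (rfl | rfl)
  · intro p q hp hq _ i hi
    revert i
    revert q
    revert p
    decide
  · intro p q hp hq h i hi
    obtain ⟨h1, h2⟩ := h rfl
    revert i
    revert h2 hq
    revert q
    revert h1 hp
    revert p
    decide

theorem good_ext {α ι : Type*} [Finite α] {f : α → ι} (hf : ∀ x, Nat.card {y // f y = f x} = 3 ∨ Nat.card {y // f y = f x} = 4)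
    {a b : Equiv.Perm α} (ha : Good f a) (hb : Good f b) (h : ∀ i, i ∈ Set.range f → ∃ x, f x = i ∧ a x = b x) :
    a = b := by
  ext x
  obtain ⟨z, hz, hab⟩ := h (f x) ⟨x, rfl⟩
  let F := {y // f y = f x}
  let e : F ≃ Fin (Nat.card F) := Finite.equivFin F
  have hr : ∀ c : Equiv.Perm α, Good f c → ∀ y, f (c y) = f x ↔ f y = f x := fun c hc y => by rw [hc.1 y]
  have hg : ∀ c (hc : Good f c), (∀ s t, e.permCongr (c.subtypePerm (hr c hc)) s = s →
      e.permCongr (c.subtypePerm (hr c hc)) t = t) ∧ (Nat.card F = 4 → ∀ s, e.permCongr (c.subtypePerm (hr c hc))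
        (e.permCongr (c.subtypePerm (hr c hc)) s) = s) := by
    intro c hc
    refine ⟨fun s t hs => ?_, fun h4 s => ?_⟩
    · simp only [Equiv.permCongr_apply] at hs ⊢
      rw [← Equiv.eq_symm_apply] at hs ⊢
      exact Subtype.ext (hc.2.1 _ _ ((e.symm s).2.trans (e.symm t).2.symm) (congrArg Subtype.val hs))
    · simp only [Equiv.permCongr_apply, Equiv.symm_apply_apply]
      rw [← Equiv.eq_symm_apply]
      refine Subtype.ext (hc.2.2 _ ?_)
      rw [(e.symm s).2]; exact h4
  have heq := perm_small _ (hf x) _ _ (hg a ha).1 (hg b hb).1 (fun h4 => ⟨(hg a ha).2 h4, (hg b hb).2 h4⟩)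
    (e ⟨z, hz⟩) (by simp only [Equiv.permCongr_apply, Equiv.symm_apply_apply]; exact congrArg e (Subtype.ext hab))
  have h2 := Equiv.congr_fun (e.permCongr.injective heq) ⟨x, rfl⟩
  exact congrArg Subtype.val h2

/-- The structure of an even abelian group of the largest order. -/
theorem structureThm {α : Type*} [Fintype α] [DecidableEq α] (A : Subgroup (Equiv.Perm α))
    (hA : ∀ a ∈ A, ∀ b ∈ A, a * b = b * a) (heven : ∀ a ∈ A, Equiv.Perm.sign a = 1)
    (hn : 6 ≤ Nat.card α) (hmax : maxProdEven (Nat.card α) ≤ Nat.card A) :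
    ∃ (k3 k4 : ℕ), k4 = Nat.card α % 3 ∧ 3 * k3 + 4 * k4 = Nat.card α ∧
      ∃ f : α → Orb A, Function.Surjective f ∧
      (∀ o, Nat.card {x // f x = o} = 3 ∨ Nat.card {x // f x = o} = 4) ∧
      Nat.card {o : Orb A // Nat.card {x // f x = o} = 3} = k3 ∧
      Nat.card {o : Orb A // Nat.card {x // f x = o} = 4} = k4 ∧
      ∀ a : Equiv.Perm α, a ∈ A ↔ Good f a := by
  classical
  have := Fintype.ofFinite (Orb A)
  let f : α → Orb A := fun x => Quotient.mk'' x
  have hfout : ∀ o : Orb A, f o.out = o := fun o => Quotient.out_eq' o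
  have hfib : ∀ o : Orb A, ∀ x, f x = o ↔ x ∈ MulAction.orbit A o.out := fun o x => by
    conv_lhs => rw [← hfout o]
    exact (Quotient.eq'' (s₁ := MulAction.orbitRel A α)).trans MulAction.orbitRel_apply
  have hsize : ∀ o : Orb A, Nat.card {x // f x = o} = osize A o := fun o =>
    Nat.card_congr (Equiv.subtypeEquivRight (hfib o))
  obtain ⟨hd, hfull⟩ := card_dvd_prod A hA
  rw [finprod_eq_prod_of_fintype] at hd hfull
  have hsum : ∑ o : Orb A, osize A o = Nat.card α := by rw [← sum_osize A, finsum_eq_sum_of_fintype]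
  have hpos : 0 < ∏ o : Orb A, osize A o := Finset.prod_pos fun o _ => by
    rw [← index_stab]
    exact Nat.pos_of_ne_zero Subgroup.index_ne_zero_of_finite
  have hle := Nat.le_of_dvd hpos hd
  have h2 : ∀ o : Orb A, osize A o ≠ 2 := by
    intro o ho
    obtain ⟨c, hc⟩ := hd
    have hcl := maxProd_lt _ hn
    have hp := prod_le_maxProd Finset.univ (osize A)
    rw [hsum, hc] at hp
    have hc2 : 2 ≤ c := by
      rcases (show c = 0 ∨ c = 1 ∨ 2 ≤ c by omega) with rfl | rfl | h
      · simp [hc] at hpos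
      · obtain ⟨a, ha, hs⟩ := hfull (by rw [hc, mul_one]) o (by omega)
        rw [heven a ha] at hs
        exact absurd hs (by decide)
      · exact h
    nlinarith
  have hprod := prod_le_maxProdEven Finset.univ (osize A) fun o _ => h2 o
  rw [hsum] at hprod
  obtain ⟨h34, hk4, hlin⟩ := optimal (osize A) h2 (by omega) (by rw [hsum]; exact hmax.trans hle)
  have hcard : Nat.card A = ∏ o : Orb A, osize A o := le_antisymm hle (hprod.trans hmax)
  have hn' : ∀ o, (stab A o).Normal := fun o =>
    ⟨fun n hn g => by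
      rwa [show g * n * g⁻¹ = n from by
        rw [show g * n = n * g from Subtype.ext (hA _ g.2 _ n.2), mul_inv_cancel_right]]⟩
  have hfix : ∀ a : A, ∀ o, a ∈ stab A o → ∀ x, f x = o → (a : Equiv.Perm α) x = x := fun a o ha x hx =>
    fixes_orbit A hA ha ((hfib o x).mp hx)
  have hstabx : ∀ a : A, ∀ x, (a : Equiv.Perm α) x = x → a ∈ stab A (f x) := by
    intro a x hx
    obtain ⟨b, hb⟩ := mem_rep A x
    change (a : Equiv.Perm α) (Quotient.out (f x)) = Quotient.out (f x)
    apply (b : Equiv.Perm α).injective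
    change ((b : Equiv.Perm α) * a) _ = _
    rw [hA _ b.2 _ a.2]
    change (a : Equiv.Perm α) ((b : Equiv.Perm α) _) = _
    change (b : Equiv.Perm α) _ = x at hb
    rw [hb, hx]
  let Φ : A →* ((o : Orb A) → A ⧸ stab A o) := MonoidHom.pi fun o => QuotientGroup.mk' (stab A o)
  have hinj : Function.Injective Φ := by
    rw [injective_iff_map_eq_one]
    exact fun a ha => eq_one_of_fixes A hA fun o => (QuotientGroup.eq_one_iff a).1 (congrFun ha o)
  have hbij : Function.Bijective Φ := hinj.bijective_of_nat_card_le (by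
    rw [hcard, Nat.card_pi]
    exact le_of_eq (Finset.prod_congr rfl fun o _ => by rw [← index_stab]; rfl))
  have hAgood : ∀ a ∈ A, Good f a := by
    intro a ha
    refine ⟨fun x => ?_, fun x y hxy hx => ?_, fun x hx => ?_⟩
    · exact Quotient.sound' (MulAction.orbitRel_apply.mpr ⟨⟨a, ha⟩, rfl⟩)
    · exact hfix ⟨a, ha⟩ _ (hstabx ⟨a, ha⟩ x hx) y hxy.symm
    · rw [hsize] at hx
      let a' : A := ⟨a, ha⟩
      suffices a' * a' ∈ stab A (f x) from hfix (a' * a') _ this x rfl
      let z : A ⧸ stab A (f x) := (a' : A ⧸ stab A (f x))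
      rw [← QuotientGroup.eq_one_iff]
      change z * z = 1
      by_contra hz2
      obtain ⟨b, hb⟩ := hbij.2 (Pi.mulSingle (f x) z)
      have hb1 : ∀ o, o ≠ f x → b ∈ stab A o := fun o hne => (QuotientGroup.eq_one_iff b).1
        ((congrFun hb o).trans (Pi.mulSingle_eq_of_ne (M := fun o => A ⧸ stab A o) hne z))
      have hbz : (b : A ⧸ stab A (f x)) = z :=
        (congrFun hb (f x)).trans (Pi.mulSingle_eq_same (M := fun o => A ⧸ stab A o) (f x) z)
      have hb2 : b * b ∉ stab A (f x) := fun h => hz2 (by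
        rw [← hbz]; exact (QuotientGroup.eq_one_iff (b * b)).mpr h)
      have hb4 : (b : Equiv.Perm α) ^ 4 = 1 := by
        have h4 : z ^ 4 = 1 := by
          rw [← hx, ← index_stab, Subgroup.index_eq_card]
          exact pow_card_eq_one'
        have : b ^ 4 = 1 := hinj (by rw [map_pow, hb, map_one, ← Pi.mulSingle_pow, h4, Pi.mulSingle_one])
        exact congrArg Subtype.val this
      have hsupp : ((b : Equiv.Perm α).support : Set α) = {y | f y = f x} := by
        ext y
        rw [Finset.mem_coe, Equiv.Perm.mem_support, Set.mem_setOf_eq]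
        refine ⟨fun hy => by_contra fun hne => hy (hfix b _ (hb1 _ hne) y rfl), fun hy hy' => ?_⟩
        have h' := hstabx b y hy'
        rw [hy] at h'
        exact hb2 (Subgroup.mul_mem _ h' h')
      have hc : (b : Equiv.Perm α).support.card = 4 := by
        rw [← hx, ← hsize, ← Set.ncard_coe_finset, hsupp, ← Nat.card_coe_set_eq]
        rfl
      have hs : (b : Equiv.Perm α).cycleType.sum = 4 := by rw [Equiv.Perm.sum_cycleType, hc]
      have hord : orderOf (b : Equiv.Perm α) ∣ 4 := orderOf_dvd_of_pow_eq_one hb4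
      by_cases h4 : 4 ∈ (b : Equiv.Perm α).cycleType
      · obtain ⟨t, ht⟩ := Multiset.exists_cons_of_mem h4
        rw [ht, Multiset.sum_cons] at hs
        have ht0 : t = 0 := by
          refine Multiset.eq_zero_of_forall_notMem fun c hct => ?_
          have h1 := Equiv.Perm.two_le_of_mem_cycleType (σ := (b : Equiv.Perm α)) (ht ▸ Multiset.mem_cons_of_mem hct)
          have h2' := Multiset.single_le_sum (fun _ _ => Nat.zero_le _) c hct
          omega
        have hsg := Equiv.Perm.sign_of_cycleType (b : Equiv.Perm α)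
        rw [heven _ b.2, ht, ht0] at hsg
        exact absurd hsg (by decide)
      · have hall : ∀ c ∈ (b : Equiv.Perm α).cycleType, c ∣ 2 := by
          intro c hc'
          have h1 := (Equiv.Perm.dvd_of_mem_cycleType hc').trans hord
          have h3 : c ≤ 4 := Nat.le_of_dvd (by norm_num) h1
          have h2' := Equiv.Perm.two_le_of_mem_cycleType hc'
          interval_cases c <;> first | omega | exact absurd hc' h4
        have h22 : orderOf (b : Equiv.Perm α) ∣ 2 := by
          rw [← Equiv.Perm.lcm_cycleType]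
          exact Multiset.lcm_dvd.mpr hall
        have hbb : b * b = 1 := Subtype.ext (by
          have := orderOf_dvd_iff_pow_eq_one.mp h22
          rwa [pow_two] at this)
        exact hb2 (hbb ▸ Subgroup.one_mem _)
  let S : Set (Equiv.Perm α) := {a | Good f a}
  have hf34 : ∀ o, Nat.card {x // f x = o} = 3 ∨ Nat.card {x // f x = o} = 4 := fun o => by
    rw [hsize]; exact h34 o
  have hS : Nat.card S ≤ Nat.card A := by
    rw [hcard, show ∏ o : Orb A, osize A o = Nat.card ((o : Orb A) → {x // f x = o}) by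
      rw [Nat.card_pi]; exact Finset.prod_congr rfl fun o _ => (hsize o).symm]
    refine Nat.card_le_card_of_injective
      (fun (a : S) (o : Orb A) => (⟨(a : Equiv.Perm α) o.out, by rw [a.2.1]; exact hfout o⟩ : {x // f x = o}))
      fun a b hab => ?_
    refine Subtype.ext (good_ext (fun x => hf34 (f x)) a.2 b.2 fun o _ => ⟨o.out, hfout o, ?_⟩)
    exact congrArg Subtype.val (congrFun hab o)
  have hAS : (A : Set (Equiv.Perm α)) = S :=
    Set.eq_of_subset_of_ncard_le hAgood (by rw [← Nat.card_coe_set_eq, ← Nat.card_coe_set_eq]; exact hS)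
  refine ⟨_, _, ?_, ?_, f, fun o => ⟨o.out, hfout o⟩, hf34, rfl, rfl, fun a => Set.ext_iff.mp hAS a⟩
  · simp only [hsize, Nat.card_eq_fintype_card, Fintype.card_subtype]
    rw [hk4, hsum, Nat.card_eq_fintype_card]
  · simp only [hsize, Nat.card_eq_fintype_card, Fintype.card_subtype]
    rw [hlin, hsum, Nat.card_eq_fintype_card]

/-- Two maximal even abelian groups are conjugate by an even permutation. -/
theorem conjugate {α : Type*} [Fintype α] [DecidableEq α] (A B : Subgroup (Equiv.Perm α))
    (hA : ∀ a ∈ A, ∀ b ∈ A, a * b = b * a) (heA : ∀ a ∈ A, Equiv.Perm.sign a = 1)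
    (hB : ∀ a ∈ B, ∀ b ∈ B, a * b = b * a) (heB : ∀ a ∈ B, Equiv.Perm.sign a = 1)
    (hn : 6 ≤ Nat.card α) (hAmax : maxProdEven (Nat.card α) ≤ Nat.card A)
    (hBmax : maxProdEven (Nat.card α) ≤ Nat.card B) :
    ∃ σ : Equiv.Perm α, Equiv.Perm.sign σ = 1 ∧ ∀ a, a ∈ A ↔ σ * a * σ⁻¹ ∈ B := by
  classical
  obtain ⟨k3, k4, hk4, hk, f, hfs, hf, hf3, hf4, hAmem⟩ := structureThm A hA heA hn hAmax
  obtain ⟨l3, l4, hl4, hl, g, hgs, hg, hg3, hg4, hBmem⟩ := structureThm B hB heB hn hBmax
  have e : ∀ c : ℕ, {o : Orb A // Nat.card {x // f x = o} = c} ≃ {o : Orb B // Nat.card {x // g x = o} = c} := by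
    intro c
    refine Classical.choice (Finite.card_eq.mp ?_)
    rcases (show c = 3 ∨ c = 4 ∨ (c ≠ 3 ∧ c ≠ 4) by omega) with rfl | rfl | ⟨h3, h4⟩
    · rw [hf3, hg3]; omega
    · rw [hf4, hg4]; omega
    · have : IsEmpty {o : Orb A // Nat.card {x // f x = o} = c} := ⟨fun o => by rcases hf o.1 with h | h <;> omega⟩
      have : IsEmpty {o : Orb B // Nat.card {x // g x = o} = c} := ⟨fun o => by rcases hg o.1 with h | h <;> omega⟩
      rw [Nat.card_of_isEmpty, Nat.card_of_isEmpty]
  let π : Orb A ≃ Orb B := Equiv.ofFiberEquiv e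
  have hπ : ∀ o, Nat.card {x // g x = π o} = Nat.card {x // f x = o} := fun o => Equiv.ofFiberEquiv_map e o
  let e2 : ∀ o : Orb B, {x // π (f x) = o} ≃ {x // g x = o} := fun o =>
    Classical.choice (Finite.card_eq.mp (by
      rw [← π.apply_symm_apply o, hπ]
      exact Nat.card_congr (Equiv.subtypeEquivRight fun x => π.apply_eq_iff_eq)))
  let σ : Equiv.Perm α := Equiv.ofFiberEquiv e2
  have hσ : ∀ x, g (σ x) = π (f x) := fun x => Equiv.ofFiberEquiv_map e2 x
  have main : ∀ σ : Equiv.Perm α, (∀ x, g (σ x) = π (f x)) → ∀ a, a ∈ A ↔ σ * a * σ⁻¹ ∈ B := by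
    intro σ hσ a
    rw [hAmem, hBmem]
    refine ⟨good_conj π σ hσ, fun h => ?_⟩
    have := good_conj π.symm σ⁻¹ (fun x => by rw [π.eq_symm_apply, ← hσ]; simp) h
    simpa [mul_assoc] using this
  rcases Int.units_eq_one_or (Equiv.Perm.sign σ) with h | h
  · exact ⟨σ, h, main σ hσ⟩
  · obtain ⟨o⟩ : Nonempty (Orb A) := by
      obtain ⟨x⟩ : Nonempty α := (Nat.card_pos_iff.mp (by omega : 0 < Nat.card α)).1
      exact ⟨f x⟩
    have h2 : 1 < Nat.card {x // f x = o} := by rcases hf o with h | h <;> omega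
    have := Finite.one_lt_card_iff_nontrivial.mp h2
    obtain ⟨u, v, huv⟩ := exists_pair_ne {x // f x = o}
    refine ⟨σ * Equiv.swap (u : α) v, ?_, main _ fun x => ?_⟩
    · rw [map_mul, h, Equiv.Perm.sign_swap (fun he => huv (Subtype.ext he))]
      rfl
    · rw [Equiv.Perm.mul_apply, hσ]
      congr 1
      rw [Equiv.swap_apply_def]
      split_ifs with h1 h2
      · rw [h1, v.2, u.2]
      · rw [h2, v.2, u.2]
      · rfl

theorem hasAb_mpe : ∀ n, 6 ≤ n → HasAb True n (maxProdEven n) := by
  intro n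
  induction n using Nat.strong_induction_on with
  | _ n ih =>
    intro hn
    by_cases h : 9 ≤ n
    · have := (hasAb_three True).add (ih (n - 3) (by omega) (by omega))
      rwa [show 3 + (n - 3) = n by omega, ← maxProdEven_succ n h] at this
    · interval_cases n
      · exact (hasAb_three True).add (hasAb_three True)
      · exact (hasAb_three True).add (hasAb_four True)
      · exact (hasAb_four True).add (hasAb_four True)

theorem small (n : ℕ) (A : Subgroup (alternatingGroup (Fin n))) [hAc : IsMulCommutative A]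
    (hAmax : ∀ C : Subgroup (alternatingGroup (Fin n)), IsMulCommutative C → Nat.card C ≤ Nat.card A) :
    (n ≤ 3 → A = ⊤) ∧ (n = 4 → Nat.card A = 4) ∧ (n = 5 → Nat.card A = 5) := by
  classical
  have hub : Nat.card A ≤ maxProdEven n ∨ 2 * Nat.card A ≤ maxProd n := by
    have h := card_le_of_even (A.map (alternatingGroup (Fin n)).subtype) ?_ ?_
    · rwa [Nat.card_fin, ← Nat.card_congr
        (A.equivMapOfInjective _ (Subgroup.subtype_injective _)).toEquiv] at h
    · rintro _ ⟨a, ha, rfl⟩ _ ⟨b, hb, rfl⟩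
      rw [← map_mul, ← map_mul]
      exact congrArg _ (congrArg Subtype.val (hAc.is_comm.comm (⟨a, ha⟩ : A) ⟨b, hb⟩))
    · rintro _ ⟨a, -, rfl⟩
      exact Equiv.Perm.mem_alternatingGroup.1 a.2
  refine ⟨fun hn => ?_, fun hn => ?_, fun hn => ?_⟩
  · have hc : ∀ a b : alternatingGroup (Fin n), a * b = b * a := by
      interval_cases n <;> decide
    have h := hAmax ⊤ ⟨⟨fun a b => Subtype.ext (hc a b)⟩⟩
    rw [Subgroup.card_top] at h
    exact Subgroup.eq_top_of_le_card A h
  · subst hn
    obtain ⟨V, hV1, hV2, hV3⟩ := hasAb_four True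
    have hle : V ≤ alternatingGroup (Fin 4) := fun a ha => Equiv.Perm.mem_alternatingGroup.2 (hV3 trivial a ha)
    have h := hAmax (V.subgroupOf _) ⟨⟨fun a b => Subtype.ext (Subtype.ext (hV1 _ a.2 _ b.2))⟩⟩
    rw [Nat.card_congr (Subgroup.subgroupOfEquivOfLe hle).toEquiv, hV2] at h
    simp only [maxProdEven, maxProd] at hub
    omega
  · subst hn
    obtain ⟨x, hx⟩ := exists_prime_orderOf_dvd_card' (G := alternatingGroup (Fin 5)) 5
      (hp := ⟨by norm_num⟩) (by rw [nat_card_alternatingGroup, Nat.card_fin]; decide)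
    have h := hAmax (Subgroup.zpowers x) inferInstance
    rw [Nat.card_zpowers, hx] at h
    simp only [maxProdEven, maxProd] at hub
    omega

/-- In the alternating group of any degree, any two abelian subgroups of the largest possible order (among abelian subgroups) are conjugate. -/
theorem result (n : ℕ)
    (A B : Subgroup (alternatingGroup (Fin n))) (hA : IsMulCommutative A) (hB : IsMulCommutative B)
    (hAmax : ∀ C : Subgroup (alternatingGroup (Fin n)), IsMulCommutative C → Nat.card C ≤ Nat.card A)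
    (hBmax : ∀ C : Subgroup (alternatingGroup (Fin n)), IsMulCommutative C → Nat.card C ≤ Nat.card B) :
    ∃ g : alternatingGroup (Fin n), B = MulAut.conj g • A := by

  classical
  have hAB : Nat.card A = Nat.card B := le_antisymm (hBmax A hA) (hAmax B hB)
  by_cases hn : 6 ≤ n
  · obtain ⟨C, hC1, hC2, hC3⟩ := hasAb_mpe n hn
    have hle : C ≤ alternatingGroup (Fin n) := fun a ha => Equiv.Perm.mem_alternatingGroup.2 (hC3 trivial a ha)
    have h := hAmax (C.subgroupOf _) ⟨⟨fun a b => Subtype.ext (Subtype.ext (hC1 _ a.2 _ b.2))⟩⟩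
    rw [Nat.card_congr (Subgroup.subgroupOfEquivOfLe hle).toEquiv, hC2] at h
    let ι := (alternatingGroup (Fin n)).subtype
    have hι : Function.Injective ι := Subgroup.subtype_injective _
    have key : ∀ D : Subgroup (alternatingGroup (Fin n)), IsMulCommutative D →
        (∀ a ∈ D.map ι, ∀ b ∈ D.map ι, a * b = b * a) ∧ (∀ a ∈ D.map ι, Equiv.Perm.sign a = 1) ∧
        Nat.card (D.map ι) = Nat.card D := by
      intro D hD
      refine ⟨?_, ?_, (Nat.card_congr (D.equivMapOfInjective _ hι).toEquiv).symm⟩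
      · rintro _ ⟨a, ha, rfl⟩ _ ⟨b, hb, rfl⟩
        rw [← map_mul, ← map_mul]
        exact congrArg _ (congrArg Subtype.val (hD.is_comm.comm (⟨a, ha⟩ : D) ⟨b, hb⟩))
      · rintro _ ⟨a, -, rfl⟩
        exact Equiv.Perm.mem_alternatingGroup.1 a.2
    obtain ⟨a1, a2, a3⟩ := key A hA
    obtain ⟨b1, b2, b3⟩ := key B hB
    obtain ⟨σ, hσ, hmem⟩ := conjugate (A.map ι) (B.map ι) a1 a2 b1 b2 (by rwa [Nat.card_fin])
      (by rw [Nat.card_fin, a3]; exact h) (by rw [Nat.card_fin, b3, ← hAB]; exact h)
    let g : alternatingGroup (Fin n) := ⟨σ, Equiv.Perm.mem_alternatingGroup.2 hσ⟩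
    refine ⟨g, ?_⟩
    ext b
    rw [Subgroup.mem_pointwise_smul_iff_inv_smul_mem, ← Subgroup.mem_map_iff_mem hι,
      ← Subgroup.mem_map_iff_mem hι (K := A), hmem]
    have he : σ * ι ((MulAut.conj g)⁻¹ • b) * σ⁻¹ = ι b := by
      show σ * (((MulAut.conj g)⁻¹ b : alternatingGroup (Fin n)) : Equiv.Perm (Fin n)) * σ⁻¹ = b
      rw [MulAut.conj_inv_apply]
      show σ * (σ⁻¹ * b * σ) * σ⁻¹ = b
      group
    rw [he]
  · haveI := hA
    haveI := hB
    obtain ⟨s1, s2, s3⟩ := small n A hAmax
    obtain ⟨t1, t2, t3⟩ := small n B hBmax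
    rcases (show n ≤ 3 ∨ n = 4 ∨ n = 5 by omega) with h | h | h
    · exact ⟨1, by rw [s1 h, t1 h, map_one, one_smul]⟩
    · haveI : Fact (Nat.Prime 2) := ⟨by norm_num⟩
      have hc : 4 = 2 ^ (Nat.card (alternatingGroup (Fin n))).factorization 2 := by
        subst h
        rw [nat_card_alternatingGroup, Nat.card_fin, show Nat.factorial 4 / 2 = 2 ^ 2 * 3 by rfl,
          Nat.factorization_mul (by norm_num) (by norm_num), Nat.prime_two.factorization_pow,
          Nat.prime_three.factorization]
        simp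
      obtain ⟨g, hg⟩ := MulAction.exists_smul_eq (alternatingGroup (Fin n))
        (Sylow.ofCard A (by rw [s2 h]; exact hc)) (Sylow.ofCard B (by rw [t2 h]; exact hc))
      exact ⟨g, (congrArg Sylow.toSubgroup hg).symm⟩
    · haveI : Fact (Nat.Prime 5) := ⟨by norm_num⟩
      have hc : 5 = 5 ^ (Nat.card (alternatingGroup (Fin n))).factorization 5 := by
        subst h
        rw [nat_card_alternatingGroup, Nat.card_fin, show Nat.factorial 5 / 2 = 5 * 12 by rfl,
          Nat.factorization_mul (by norm_num) (by norm_num), (by norm_num : Nat.Prime 5).factorization,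
          Finsupp.add_apply, Finsupp.single_eq_same, Nat.factorization_eq_zero_of_not_dvd (by norm_num)]
        rfl
      obtain ⟨g, hg⟩ := MulAction.exists_smul_eq (alternatingGroup (Fin n))
        (Sylow.ofCard A (by rw [s3 h]; exact hc)) (Sylow.ofCard B (by rw [t3 h]; exact hc))
      exact ⟨g, (congrArg Sylow.toSubgroup hg).symm⟩

end Cfsg.Agent.S2506
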