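import Cfsg.Statements.S2510
import Mathlib
import Cfsg.Agent.Lib.SpectrumPSL61
-- import your own Cfsg.Agent.* helpers here

set_option autoImplicit false
set_option linter.style.haveILetI false
open Cfsg
open scoped Pointwise

namespace Cfsg.Agent.S2510

open Cfsg.Agent.SpectrumPSL61 in
/-- Everything needed about element orders. -/
theorem key {F : Type*} [Field F] [Fintype F] (p n r : ℕ) [Fact p.Prime] [CharP F p]
    (hn : 2 ≤ n) (hr : r.Prime) (hrq : r ∣ Fintype.card F - 1) (hrn : ¬ r ∣ n) :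
    ∃ A B : ℕ,
      (∀ g : Matrix.ProjectiveSpecialLinearGroup (Fin n) F,
        (∃ g' : Matrix.ProjectiveSpecialLinearGroup (Fin n) F, orderOf g' = Nat.lcm (orderOf g) r) ∨
          orderOf g ∣ A * B) ∧
      Nat.Coprime A B ∧
      (∃ u : Matrix.ProjectiveSpecialLinearGroup (Fin n) F, A ∣ orderOf u) ∧
      (∃ v : Matrix.ProjectiveSpecialLinearGroup (Fin n) F, B ∣ orderOf v) ∧
      (∃ w : Matrix.ProjectiveSpecialLinearGroup (Fin n) F, orderOf w = r) ∧
      ((¬ ∃ j : ℕ, n - 1 = p ^ j) →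
        ∃ v : Matrix.ProjectiveSpecialLinearGroup (Fin n) F, B * r ∣ orderOf v) := by
  classical
  have hp := (Fact.out : p.Prime)
  have hpq : p ∣ Fintype.card F := by
    obtain ⟨k, -, hk⟩ := FiniteField.card F p
    rw [hk]; exact dvd_pow_self p k.pos.ne'
  have hrp : r ≠ p := fun h => by
    subst h
    have h1 := (Nat.dvd_sub hpq hrq)
    rw [Nat.sub_sub_self Fintype.card_pos] at h1
    exact hr.not_dvd_one h1
  set e := Nat.clog p n with he
  have hpe : n ≤ p ^ e := Nat.le_pow_clog hp.one_lt n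
  have he1 : 1 ≤ e := Nat.clog_pos hp.one_lt hn
  have helt : p ^ (e - 1) < n := by
    have := Nat.pow_pred_clog_lt_self hp.one_lt (x := n) (by omega)
    rwa [Nat.pred_eq_sub_one] at this
  set A := geom (Fintype.card F) n / Nat.gcd n (Fintype.card F - 1) with hA
  have hcop : Nat.Coprime A (p ^ e) :=
    (Nat.Coprime.pow_right _ ((coprime_geom _ n p (by omega) hpq).symm.coprime_dvd_left
      (Nat.div_dvd_of_dvd (gcd_dvd_geom _ n Fintype.card_pos))))
  -- an element of order `r`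
  obtain ⟨w, -, hw⟩ := exists_commute_order (F := F) hn hr hrq hrn 1
    (Matrix.diagonal fun i : Fin n => if (i : ℕ) = 0 then 1 else 0)
    (by rw [Matrix.diagonal_mul_diagonal]; congr 1; ext i; split_ifs <;> simp)
    (fun h => by
      have := congrFun (congrFun h ⟨0, by omega⟩) ⟨0, by omega⟩
      simp at this)
    (fun h => by
      have := congrFun (congrFun h ⟨1, by omega⟩) ⟨1, by omega⟩
      simp at this)
    (Commute.one_right _)
  refine ⟨A, p ^ e, ?_, hcop, ?_, ?_, ⟨_, hw⟩, ?_⟩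
  · intro g
    obtain ⟨g, rfl⟩ := QuotientGroup.mk_surjective g
    rcases dichotomy (F := F) (p := p) hn hpe hr hrq hrn g with ⟨s, hs, hso⟩ | h
    · left
      by_cases hd : r ∣ orderOf (g : Matrix.ProjectiveSpecialLinearGroup (Fin n) F)
      · exact ⟨_, (Nat.lcm_eq_left hd).symm⟩
      · refine ⟨(g : Matrix.ProjectiveSpecialLinearGroup (Fin n) F) * s, ?_⟩
        have hc := (Nat.coprime_comm.1 ((hr.coprime_iff_not_dvd).2 hd))
        have hcm : Commute (g : Matrix.ProjectiveSpecialLinearGroup (Fin n) F) s :=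
          hs.symm.map (QuotientGroup.mk' _)
        rw [hcm.orderOf_mul_eq_mul_orderOf_of_coprime (by rw [hso]; exact hc), hso, hc.lcm_eq_mul]
    · right
      rw [mul_comm]
      exact orderOf_dvd_of_pow_eq_one h
  · obtain ⟨u, hu⟩ := exists_singer (F := F) (n := n) (by omega) (p := p)
    exact ⟨_, hu⟩
  · obtain ⟨u, -, hu⟩ := exists_unipotent (F := F) (p := p) hpe helt he1 le_rfl
    exact ⟨_, dvd_of_eq hu.symm⟩
  · intro hno
    have hlt : p ^ (e - 1) < n - 1 := by
      have h1 : p ^ (e - 1) ≠ n - 1 := fun h => hno ⟨e - 1, h.symm⟩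
      omega
    obtain ⟨u, hu, huo⟩ := exists_unipotent (F := F) (n := n) (p := p) hpe hlt he1 (by omega)
    obtain ⟨s, hs, hso⟩ := exists_commute_order (F := F) hn hr hrq hrn u
      (Matrix.diagonal fun i : Fin n => if (i : ℕ) < n - 1 then 1 else 0)
      (by rw [Matrix.diagonal_mul_diagonal]; congr 1; ext i; split_ifs <;> simp)
      (fun h => by
        have := congrFun (congrFun h ⟨0, by omega⟩) ⟨0, by omega⟩
        simp [show 1 < n by omega] at this)
      (fun h => by
        have := congrFun (congrFun h ⟨n - 1, by omega⟩) ⟨n - 1, by omega⟩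
        simp at this)
      (by
        rw [hu]
        refine (Commute.one_right _).add_right ?_
        show _ * _ = _ * _
        ext i j
        rw [Matrix.diagonal_mul, Matrix.mul_diagonal]
        by_cases h : (i : ℕ) + 1 = j ∧ (j : ℕ) < n - 1
        · simp [shift, h, show (i : ℕ) < n - 1 by omega]
        · simp [shift, h])
    have hc : Nat.Coprime (p ^ e) r :=
      Nat.Coprime.pow_left _ ((Nat.coprime_primes hp hr).2 (Ne.symm hrp))
    refine ⟨(u : Matrix.ProjectiveSpecialLinearGroup (Fin n) F) * s, ?_⟩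
    have hcm : Commute (u : Matrix.ProjectiveSpecialLinearGroup (Fin n) F) s :=
      hs.symm.map (QuotientGroup.mk' _)
    rw [hcm.orderOf_mul_eq_mul_orderOf_of_coprime (by rw [hso, huo]; exact hc), hso, huo]

theorem exists_orderOf_eq {G : Type*} [Group G] [Finite G] {d : ℕ} {u : G} (h : d ∣ orderOf u) :
    ∃ v : G, orderOf v = d :=
  ⟨u ^ (orderOf u / d), orderOf_pow_orderOf_div (orderOf_pos u).ne' h⟩

/-- Let F be a finite field with q = p^a elements, n ≥ 2 (with q ≥ 4 when n = 2), L = PSL(n, F), and let r be a prime dividing q − 1 and not dividing n. Then for every m the direct product L × L × L × (ℤ/r)^m has the same set of element orders as L × L × L; and if n − 1 ≠ p^j for every j ≥ 0 (so never when n = 2, since 1 = p^0), then already L × L × (ℤ/r)^m has the same set of element orders as L × L. -/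
theorem result {F : Type*} [Field F] [Fintype F] (p a n r m : ℕ) (hp : p.Prime) (ha : 1 ≤ a) (hF : Fintype.card F = p ^ a)
    (hn : 2 ≤ n) (hn2 : n = 2 → 4 ≤ Fintype.card F) (hr : r.Prime) (hrq : r ∣ Fintype.card F - 1) (hrn : ¬ r ∣ n) :
    Set.range (orderOf : Matrix.ProjectiveSpecialLinearGroup (Fin n) F × Matrix.ProjectiveSpecialLinearGroup (Fin n) F × Matrix.ProjectiveSpecialLinearGroup (Fin n) F × Multiplicative (Fin m → ZMod r) → ℕ) =
      Set.range (orderOf : Matrix.ProjectiveSpecialLinearGroup (Fin n) F × Matrix.ProjectiveSpecialLinearGroup (Fin n) F × Matrix.ProjectiveSpecialLinearGroup (Fin n) F → ℕ) ∧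
    ((¬ ∃ j : ℕ, n - 1 = p ^ j) →
      Set.range (orderOf : Matrix.ProjectiveSpecialLinearGroup (Fin n) F × Matrix.ProjectiveSpecialLinearGroup (Fin n) F × Multiplicative (Fin m → ZMod r) → ℕ) =
        Set.range (orderOf : Matrix.ProjectiveSpecialLinearGroup (Fin n) F × Matrix.ProjectiveSpecialLinearGroup (Fin n) F → ℕ)) := by
  classical
  haveI := Fact.mk hp
  haveI : CharP F p := charP_of_card_eq_prime_pow (f := a) hF
  obtain ⟨A, B, hg, hcop, ⟨u, hu⟩, ⟨v, hv⟩, ⟨w, hw⟩, hB⟩ := key (F := F) p n r hn hr hrq hrn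
  have hz : ∀ z : Multiplicative (Fin m → ZMod r), orderOf z = 1 ∨ orderOf z = r := fun z => by
    refine (Nat.dvd_prime hr).1 (orderOf_dvd_of_pow_eq_one ?_)
    apply Multiplicative.toAdd.injective
    ext i
    simp
  refine ⟨Set.Subset.antisymm ?_ ?_, fun hno => Set.Subset.antisymm ?_ ?_⟩
  · rintro _ ⟨⟨x, y, t, z⟩, rfl⟩
    simp only [Prod.orderOf, Set.mem_range, Prod.exists]
    rcases hz z with e | e <;> rw [e]
    · exact ⟨x, y, t, by simp⟩
    rcases hg x with ⟨x', hx⟩ | hx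
    · exact ⟨x', y, t, by rw [hx]; ac_rfl⟩
    rcases hg y with ⟨y', hy⟩ | hy
    · exact ⟨x, y', t, by rw [hy]; ac_rfl⟩
    rcases hg t with ⟨t', ht⟩ | ht
    · exact ⟨x, y, t', by rw [ht]⟩
    set L := Nat.lcm (orderOf x) (Nat.lcm (orderOf y) (orderOf t)) with hL
    have hLd : L ∣ A * B := Nat.lcm_dvd hx (Nat.lcm_dvd hy ht)
    obtain ⟨u', hu'⟩ := exists_orderOf_eq ((Nat.gcd_dvd_right L A).trans hu)
    obtain ⟨v', hv'⟩ := exists_orderOf_eq ((Nat.gcd_dvd_right L B).trans hv)
    refine ⟨u', v', w, ?_⟩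
    rw [hu', hv', hw, ← Nat.lcm_assoc, (hcop.coprime_dvd_left (Nat.gcd_dvd_right L A) |>.coprime_dvd_right
        (Nat.gcd_dvd_right L B)).lcm_eq_mul, ← Nat.Coprime.gcd_mul L hcop, Nat.gcd_eq_left hLd, hL]
    ac_rfl
  · rintro _ ⟨⟨x, y, t⟩, rfl⟩
    exact ⟨(x, y, t, 1), by simp [Prod.orderOf]⟩
  · rintro _ ⟨⟨x, y, z⟩, rfl⟩
    simp only [Prod.orderOf, Set.mem_range, Prod.exists]
    rcases hz z with e | e <;> rw [e]
    · exact ⟨x, y, by simp⟩
    rcases hg x with ⟨x', hx⟩ | hx
    · exact ⟨x', y, by rw [hx]; ac_rfl⟩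
    rcases hg y with ⟨y', hy⟩ | hy
    · exact ⟨x, y', by rw [hy]⟩
    obtain ⟨v, hv⟩ := hB hno
    set L := Nat.lcm (orderOf x) (orderOf y) with hL
    have hLd : L ∣ A * B := Nat.lcm_dvd hx hy
    obtain ⟨u', hu'⟩ := exists_orderOf_eq ((Nat.gcd_dvd_right L A).trans hu)
    obtain ⟨v', hv'⟩ := exists_orderOf_eq
      (((Nat.lcm_dvd ((Nat.gcd_dvd_right L B).trans (dvd_mul_right B r)) (dvd_mul_left r B)).trans hv))
    refine ⟨u', v', ?_⟩
    rw [hu', hv', ← Nat.lcm_assoc, (hcop.coprime_dvd_left (Nat.gcd_dvd_right L A) |>.coprime_dvd_right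
        (Nat.gcd_dvd_right L B)).lcm_eq_mul, ← Nat.Coprime.gcd_mul L hcop, Nat.gcd_eq_left hLd, hL]
    ac_rfl
  · rintro _ ⟨⟨x, y⟩, rfl⟩
    exact ⟨(x, y, 1), by simp [Prod.orderOf]⟩

end Cfsg.Agent.S2510
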