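import Cfsg.Statements.S2511
import Mathlib
import Cfsg.Agent.Lib.SpectrumPSU61

set_option autoImplicit false
open Cfsg

namespace Cfsg.Agent.S2511

open Cfsg.Agent.SpectrumPSU61

theorem exists_orderOf_eq {G : Type*} [Group G] [Finite G] {d : ℕ} {u : G} (h : d ∣ orderOf u) :
    ∃ v : G, orderOf v = d :=
  ⟨u ^ (orderOf u / d), orderOf_pow_orderOf_div (orderOf_pos u).ne' h⟩

/-- Element orders absorb a prime `r` when they split as two coprime parts with suitable witnesses. -/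
theorem absorb {G : Type*} [Group G] [Finite G] {A p e r : ℕ} (hp : p.Prime)
    (hcop : Nat.Coprime A (p ^ e)) (hw : ∃ w : G, orderOf w = r)
    (hg : ∀ x : G, (∃ x' : G, orderOf x' = Nat.lcm (orderOf x) r) ∨
      (orderOf x ∣ A * p ^ e ∧
        ((∃ y : G, orderOf y = Nat.lcm (orderOf (x ^ p ^ e)) r) ∨ ∃ u : G, A ∣ orderOf u))) :
    (∀ x y t : G, ∃ x' y' t' : G, Nat.lcm (orderOf x') (Nat.lcm (orderOf y') (orderOf t')) =
      Nat.lcm (orderOf x) (Nat.lcm (orderOf y) (Nat.lcm (orderOf t) r))) ∧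
    ((∃ v : G, p ^ e * r ∣ orderOf v) → ∀ x y : G, ∃ x' y' : G,
      Nat.lcm (orderOf x') (orderOf y') = Nat.lcm (orderOf x) (Nat.lcm (orderOf y) r)) := by
  obtain ⟨w, hw⟩ := hw
  -- the two parts of an order
  have hsplit : ∀ x : G, orderOf x ∣ A * p ^ e →
      orderOf x = Nat.lcm (orderOf (x ^ p ^ e)) (orderOf (x ^ A)) ∧
        orderOf (x ^ p ^ e) ∣ A ∧ orderOf (x ^ A) ∣ p ^ e := by
    intro x hx
    have h0 := orderOf_dvd_iff_pow_eq_one.1 hx
    refine ⟨Nat.dvd_antisymm ?_ (Nat.lcm_dvd (orderOf_pow_dvd _) (orderOf_pow_dvd _)), ?_, ?_⟩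
    · refine orderOf_dvd_of_pow_eq_one ?_
      set L := Nat.lcm (orderOf (x ^ p ^ e)) (orderOf (x ^ A))
      have e1 : x ^ (p ^ e * L) = 1 := by
        rw [pow_mul]; exact orderOf_dvd_iff_pow_eq_one.1 (Nat.dvd_lcm_left _ _)
      have e2 : x ^ (A * L) = 1 := by
        rw [pow_mul]; exact orderOf_dvd_iff_pow_eq_one.1 (Nat.dvd_lcm_right _ _)
      have := pow_gcd_eq_one.mpr ⟨e2, e1⟩
      rwa [Nat.gcd_mul_right, hcop.gcd_eq_one, one_mul] at this
    · exact orderOf_dvd_of_pow_eq_one (by rw [← pow_mul, mul_comm, h0])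
    · exact orderOf_dvd_of_pow_eq_one (by rw [← pow_mul, h0])
  -- the `p`-parts are totally ordered
  have htot : ∀ a b : ℕ, a ∣ p ^ e → b ∣ p ^ e → a ∣ b ∨ b ∣ a := by
    intro a b ha hb
    obtain ⟨i, -, rfl⟩ := (Nat.dvd_prime_pow hp).1 ha
    obtain ⟨j, -, rfl⟩ := (Nat.dvd_prime_pow hp).1 hb
    exact (le_total i j).imp (fun h => pow_dvd_pow p h) (fun h => pow_dvd_pow p h)
  -- replacing a slot
  have key : ∀ x x' : G, ∀ M : ℕ, orderOf x ∣ A * p ^ e →
      orderOf x' = Nat.lcm (orderOf (x ^ p ^ e)) r → orderOf (x ^ A) ∣ M →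
      Nat.lcm (orderOf x') M = Nat.lcm (orderOf x) (Nat.lcm M r) := by
    intro x x' M hx hx' hM
    rw [(hsplit x hx).1, hx', Nat.lcm_assoc, Nat.lcm_assoc, ← Nat.lcm_assoc (orderOf (x ^ A)),
      Nat.lcm_eq_right hM, Nat.lcm_comm r M]
  refine ⟨fun x y t => ?_, fun hv x y => ?_⟩
  · rcases hg x with ⟨x', hx⟩ | ⟨hx, hx'⟩
    · exact ⟨x', y, t, by rw [hx]; ac_rfl⟩
    rcases hg y with ⟨y', hy⟩ | ⟨hy, hy'⟩
    · exact ⟨x, y', t, by rw [hy]; ac_rfl⟩
    rcases hg t with ⟨t', ht⟩ | ⟨ht, ht'⟩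
    · exact ⟨x, y, t', by rw [ht]⟩
    by_cases hU : ∃ u : G, A ∣ orderOf u
    · obtain ⟨u, hu⟩ := hU
      obtain ⟨ex, ax, bx⟩ := hsplit x hx
      obtain ⟨ey, ay, bY⟩ := hsplit y hy
      obtain ⟨et, at', bt⟩ := hsplit t ht
      obtain ⟨u', hu'⟩ := exists_orderOf_eq (G := G)
        ((Nat.lcm_dvd ax (Nat.lcm_dvd ay at')).trans hu)
      obtain ⟨v, hv⟩ : ∃ v : G, orderOf v =
          Nat.lcm (orderOf (x ^ A)) (Nat.lcm (orderOf (y ^ A)) (orderOf (t ^ A))) := by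
        rcases htot _ _ bx (Nat.lcm_dvd bY bt) with h | h
        · rcases htot _ _ bY bt with h' | h'
          · exact ⟨t ^ A, by rw [Nat.lcm_eq_right h, Nat.lcm_eq_right h']⟩
          · exact ⟨y ^ A, by rw [Nat.lcm_eq_right h, Nat.lcm_eq_left h']⟩
        · exact ⟨x ^ A, by rw [Nat.lcm_eq_left h]⟩
      refine ⟨u', v, w, ?_⟩
      rw [hu', hv, hw, ex, ey, et]
      ac_rfl
    · replace hx' := hx'.resolve_right hU
      replace hy' := hy'.resolve_right hU
      obtain ⟨x', hx'⟩ := hx'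
      obtain ⟨y', hy'⟩ := hy'
      obtain ⟨-, -, bx⟩ := hsplit x hx
      obtain ⟨-, -, bY⟩ := hsplit y hy
      rcases htot _ _ bx bY with h | h
      · refine ⟨x', y, t, ?_⟩
        rw [key x x' _ hx hx' ((h.trans (orderOf_pow_dvd _)).trans (Nat.dvd_lcm_left _ _))]
        ac_rfl
      · refine ⟨x, y', t, ?_⟩
        rw [← Nat.lcm_assoc, Nat.lcm_comm (orderOf x), Nat.lcm_assoc,
          key y y' _ hy hy' ((h.trans (orderOf_pow_dvd _)).trans (Nat.dvd_lcm_left _ _))]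
        ac_rfl
  · rcases hg x with ⟨x', hx⟩ | ⟨hx, hx'⟩
    · exact ⟨x', y, by rw [hx]; ac_rfl⟩
    rcases hg y with ⟨y', hy⟩ | ⟨hy, hy'⟩
    · exact ⟨x, y', by rw [hy]⟩
    by_cases hU : ∃ u : G, A ∣ orderOf u
    · obtain ⟨u, hu⟩ := hU
      obtain ⟨v, hv⟩ := hv
      obtain ⟨ex, ax, bx⟩ := hsplit x hx
      obtain ⟨ey, ay, bY⟩ := hsplit y hy
      obtain ⟨u', hu'⟩ := exists_orderOf_eq (G := G) ((Nat.lcm_dvd ax ay).trans hu)
      obtain ⟨v', hv'⟩ := exists_orderOf_eq (G := G)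
        ((Nat.lcm_dvd (Nat.lcm_dvd (bx.trans (dvd_mul_right _ r)) (bY.trans (dvd_mul_right _ r)))
          (dvd_mul_left r (p ^ e))).trans hv)
      refine ⟨u', v', ?_⟩
      rw [hu', hv', ex, ey]
      ac_rfl
    · replace hx' := hx'.resolve_right hU
      replace hy' := hy'.resolve_right hU
      obtain ⟨x', hx'⟩ := hx'
      obtain ⟨y', hy'⟩ := hy'
      obtain ⟨-, -, bx⟩ := hsplit x hx
      obtain ⟨-, -, bY⟩ := hsplit y hy
      rcases htot _ _ bx bY with h | h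
      · exact ⟨x', y, key x x' _ hx hx' (h.trans (orderOf_pow_dvd _))⟩
      · refine ⟨x, y', ?_⟩
        rw [Nat.lcm_comm, key y y' _ hy hy' (h.trans (orderOf_pow_dvd _))]
        ac_rfl

/-- Let F be a finite field with q² elements, q = p^a, n ≥ 3 with (n, q) ≠ (3, 2), L = PSU(n, q) realised over F, and let r be a prime dividing q + 1 and not dividing n. Then for every m the direct product L × L × L × (ℤ/r)^m has the same set of element orders as L × L × L; and if n − 1 is not a power of p, then already L × L × (ℤ/r)^m has the same set of element orders as L × L. -/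
theorem result {F : Type*} [Field F] [Fintype F] (p a n q r m : ℕ) (hp : p.Prime) (ha : 1 ≤ a) (hq : q = p ^ a) (hF : Fintype.card F = q ^ 2)
    (hn : 3 ≤ n) (hn3 : ¬ (n = 3 ∧ q = 2)) (hr : r.Prime) (hrq : r ∣ q + 1) (hrn : ¬ r ∣ n) :
    Set.range (orderOf : Cfsg.PSU n F q × Cfsg.PSU n F q × Cfsg.PSU n F q × Multiplicative (Fin m → ZMod r) → ℕ) = Set.range (orderOf : Cfsg.PSU n F q × Cfsg.PSU n F q × Cfsg.PSU n F q → ℕ) ∧
    ((¬ ∃ j : ℕ, n - 1 = p ^ j) →
      Set.range (orderOf : Cfsg.PSU n F q × Cfsg.PSU n F q × Multiplicative (Fin m → ZMod r) → ℕ) = Set.range (orderOf : Cfsg.PSU n F q × Cfsg.PSU n F q → ℕ)) := by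
  classical
  haveI := Fact.mk hp
  haveI : CharP F p := charP_of_card_eq_prime_pow (f := a * 2) (by rw [hF, hq, ← pow_mul])
  have hq1 : 1 ≤ q := by rw [hq]; exact Nat.one_le_pow _ _ hp.pos
  have hpq : p ∣ q := by rw [hq]; exact dvd_pow_self p (by omega)
  have hpq1 : ¬ p ∣ q + 1 := fun h => hp.not_dvd_one ((Nat.dvd_add_right hpq).1 h)
  have hrp : r ≠ p := fun h => hpq1 (h ▸ hrq)
  have hpe : n ≤ p ^ Nat.clog p n := Nat.le_pow_clog hp.one_lt n
  have he1 : 1 ≤ Nat.clog p n := Nat.clog_pos hp.one_lt (by omega)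
  set e := Nat.clog p n
  have hAd : torusExp q n ∣ torusNum q n := Nat.div_dvd_of_dvd (dvd_torusNum_self q n hq1)
  have hcop : Nat.Coprime (torusExp q n) (p ^ e) := by
    refine Nat.Coprime.pow_right _ ((hp.coprime_iff_not_dvd.2 ?_).symm.coprime_dvd_left hAd)
    intro h
    have hqn : p ∣ q ^ n := hpq.trans (dvd_pow_self q (by omega))
    unfold torusNum at h
    split_ifs at h
    · have := Nat.dvd_sub hqn h
      rw [Nat.sub_sub_self (Nat.one_le_pow _ _ hq1)] at this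
      exact hp.not_dvd_one this
    · exact hp.not_dvd_one ((Nat.dvd_add_right hqn).1 h)
  have comb : ∀ g s : Cfsg.SU n F q, Commute s g →
      orderOf ((s : Cfsg.SU n F q) : Cfsg.PSU n F q) = r →
      ∃ x' : Cfsg.PSU n F q, orderOf x' = Nat.lcm (orderOf ((g : Cfsg.SU n F q) : Cfsg.PSU n F q)) r := by
    intro g s hs hso
    by_cases hd : r ∣ orderOf ((g : Cfsg.SU n F q) : Cfsg.PSU n F q)
    · exact ⟨_, (Nat.lcm_eq_left hd).symm⟩
    · refine ⟨((g : Cfsg.SU n F q) : Cfsg.PSU n F q) * s, ?_⟩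
      have hc := (Nat.coprime_comm.1 ((hr.coprime_iff_not_dvd).2 hd))
      have hcm : Commute ((g : Cfsg.SU n F q) : Cfsg.PSU n F q) s :=
        hs.symm.map (QuotientGroup.mk' _)
      rw [hcm.orderOf_mul_eq_mul_orderOf_of_coprime (by rw [hso]; exact hc), hso, hc.lcm_eq_mul]
  obtain ⟨sw, -, hsw⟩ := exists_commute_order (n := n) (F := F) hF (by omega) hr hrq hrn 1
    (Matrix.diagonal fun i : Fin n => if (i : ℕ) = 0 then 1 else 0)
    (by rw [Matrix.diagonal_mul_diagonal]; congr 1; ext i; split_ifs <;> simp)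
    (fun h => by
      have := congrFun (congrFun h ⟨0, by omega⟩) ⟨0, by omega⟩
      simp at this)
    (fun h => by
      have := congrFun (congrFun h ⟨1, by omega⟩) ⟨1, by omega⟩
      simp at this)
    (by
      ext i j
      simp only [adj_apply, Matrix.diagonal_apply]
      by_cases h : i = j
      · subst h; simp [zero_pow (show q ≠ 0 by omega)]
      · simp [h, Ne.symm h, zero_pow (show q ≠ 0 by omega)])
    (Commute.one_right _)
  have hg : ∀ x : Cfsg.PSU n F q, (∃ x' : Cfsg.PSU n F q, orderOf x' = Nat.lcm (orderOf x) r) ∨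
      (orderOf x ∣ torusExp q n * p ^ e ∧
        ((∃ y : Cfsg.PSU n F q, orderOf y = Nat.lcm (orderOf ((x : Cfsg.PSU n F q) ^ p ^ e)) r) ∨
          ∃ u : Cfsg.PSU n F q, torusExp q n ∣ orderOf u)) := by
    intro x
    obtain ⟨g, rfl⟩ := QuotientGroup.mk_surjective x
    rcases dichotomy (p := p) hF (by omega) hpe hr hrq hrn g with ⟨s, hs, hso⟩ | ⟨h1, h2⟩
    · exact Or.inl (comb g s hs hso)
    · refine Or.inr ⟨?_, ?_⟩
      · rw [mul_comm]; exact orderOf_dvd_of_pow_eq_one h1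
      · rcases h2 with ⟨s, hs, hso⟩ | ⟨u, hu⟩
        · exact Or.inl (by rw [← QuotientGroup.mk_pow]; exact comb _ s hs hso)
        · exact Or.inr ⟨_, hu⟩
  obtain ⟨h3, h2⟩ := absorb hp hcop ⟨_, hsw⟩ hg
  have hz : ∀ z : Multiplicative (Fin m → ZMod r), orderOf z = 1 ∨ orderOf z = r := fun z => by
    refine (Nat.dvd_prime hr).1 (orderOf_dvd_of_pow_eq_one ?_)
    apply Multiplicative.toAdd.injective
    ext i
    simp
  refine ⟨Set.Subset.antisymm ?_ ?_, fun hno => Set.Subset.antisymm ?_ ?_⟩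
  · rintro _ ⟨⟨x, y, t, z⟩, rfl⟩
    simp only [Prod.orderOf, Set.mem_range, Prod.exists]
    rcases hz z with e | e <;> rw [e]
    · exact ⟨x, y, t, by simp⟩
    · exact h3 x y t
  · rintro _ ⟨⟨x, y, t⟩, rfl⟩
    exact ⟨(x, y, t, 1), by simp [Prod.orderOf]⟩
  · rintro _ ⟨⟨x, y, z⟩, rfl⟩
    simp only [Prod.orderOf, Set.mem_range, Prod.exists]
    rcases hz z with e | e <;> rw [e]
    · exact ⟨x, y, by simp⟩
    · refine h2 ?_ x y
      have helt : p ^ (Nat.clog p n - 1) < n - 1 := by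
        have h1 := Nat.pow_pred_clog_lt_self hp.one_lt (x := n) (by omega)
        rw [Nat.pred_eq_sub_one] at h1
        have h2 : p ^ (Nat.clog p n - 1) ≠ n - 1 := fun h => hno ⟨_, h.symm⟩
        omega
      obtain ⟨v, hv⟩ := exists_unipotent_mul (p := p) hF hn hpe he1 helt hr hrq hrn hrp
      exact ⟨_, hv⟩
  · rintro _ ⟨⟨x, y⟩, rfl⟩
    exact ⟨(x, y, 1), by simp [Prod.orderOf]⟩

end Cfsg.Agent.S2511
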