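import Cfsg.Statements.S2512
import Mathlib
import Cfsg.Agent.Lib.SpectrumPSp61

set_option autoImplicit false
open Cfsg

namespace Cfsg.Agent.S2512

open Cfsg.Agent.SpectrumPSp61

theorem exists_orderOf_eq {G : Type*} [Group G] [Finite G] {d : ℕ} {u : G} (h : d ∣ orderOf u) :
    ∃ v : G, orderOf v = d :=
  ⟨u ^ (orderOf u / d), orderOf_pow_orderOf_div (orderOf_pos u).ne' h⟩

/-- Everything needed about element orders. -/
theorem key {F : Type*} [Field F] [Fintype F] (p n : ℕ) [Fact p.Prime] [CharP F p]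
    (hodd : Odd (Fintype.card F)) (hn : 2 ≤ n) :
    ∃ A B : ℕ,
      (∀ x : Cfsg.PSp n F, (∃ x' : Cfsg.PSp n F, orderOf x' = Nat.lcm (orderOf x) 2) ∨
          orderOf x ∣ A * B) ∧
      Nat.Coprime A B ∧
      (∃ u : Cfsg.PSp n F, A ∣ orderOf u) ∧ (∃ v : Cfsg.PSp n F, B ∣ orderOf v) ∧
      (∃ w : Cfsg.PSp n F, orderOf w = 2) ∧
      ((¬ ∃ j : ℕ, 2 * n - 1 = p ^ j) → ∃ v : Cfsg.PSp n F, B * 2 ∣ orderOf v) := by
  classical
  have hp := (Fact.out : p.Prime)
  have hpodd : Odd p := by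
    refine hp.odd_of_ne_two ?_
    rintro rfl
    exact two_ne_zero' hodd (CharTwo.two_eq_zero (R := F))
  set q := Fintype.card F with hq
  have hq1 : 1 < q := Fintype.one_lt_card
  have hq3 : 3 ≤ q := by obtain ⟨k, hk⟩ := hodd; omega
  set e := Nat.clog p (2 * n) with he
  have hpe : 2 * n ≤ p ^ e := Nat.le_pow_clog hp.one_lt _
  have he1 : 1 ≤ e := Nat.clog_pos hp.one_lt (by omega)
  have helt : p ^ (e - 1) < 2 * n := by
    have := Nat.pow_pred_clog_lt_self hp.one_lt (x := 2 * n) (by omega)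
    rwa [Nat.pred_eq_sub_one] at this
  have hTT : halfTorus true q n = halfTorus false q n + 1 := by
    have h1 := two_mul_halfTorus true (d := n) hodd
    have h2 := two_mul_halfTorus false (d := n) hodd
    have := Nat.one_le_pow n q (by omega)
    simp only [Bool.false_eq_true, if_true, if_false, ← hq] at h1 h2
    omega
  set b0 : Bool := decide (Odd (halfTorus true q n)) with hb0
  set A := halfTorus b0 q n with hA
  have hcop : Nat.Coprime A (p ^ e) := by
    refine Nat.Coprime.pow_right _ ((hp.coprime_iff_not_dvd.2 ?_).symm)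
    intro h
    obtain ⟨i, -, hFc⟩ := FiniteField.card F p
    have hpq : p ∣ q ^ n := by
      rw [hq, hFc]; exact (dvd_pow_self p i.pos.ne').trans (dvd_pow_self _ (by omega))
    have h' : p ∣ 2 * A := h.trans (dvd_mul_left A 2)
    rw [hA, two_mul_halfTorus _ hodd] at h'
    split_ifs at h'
    · exact hp.not_dvd_one ((Nat.dvd_add_right hpq).1 h')
    · have := Nat.dvd_sub hpq h'
      rw [Nat.sub_sub_self (Nat.one_le_pow _ _ (by omega))] at this
      exact hp.not_dvd_one this
  have comb : ∀ g s : Matrix.symplecticGroup (Fin n) F, Commute s g →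
      orderOf (s : Cfsg.PSp n F) = 2 →
      ∃ x' : Cfsg.PSp n F, orderOf x' = Nat.lcm (orderOf (g : Cfsg.PSp n F)) 2 := by
    intro g s hs hso
    by_cases hd : 2 ∣ orderOf (g : Cfsg.PSp n F)
    · exact ⟨_, (Nat.lcm_eq_left hd).symm⟩
    · refine ⟨(g : Cfsg.PSp n F) * s, ?_⟩
      have hc := (Nat.coprime_comm.1 ((Nat.prime_two.coprime_iff_not_dvd).2 hd))
      have hcm : Commute (g : Cfsg.PSp n F) s := hs.symm.map (QuotientGroup.mk' _)
      rw [hcm.orderOf_mul_eq_mul_orderOf_of_coprime (by rw [hso]; exact hc), hso, hc.lcm_eq_mul]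
  obtain ⟨vw, hvw⟩ := exists_pair (F := F) (n := n) hodd (d := 1) (m := n - 1) (p := p) (f := 0)
    le_rfl (by omega) (by omega) (by simp; omega) false
  have hT1 : 1 ≤ halfTorus false q 1 := by
    simp only [halfTorus, Bool.false_eq_true, if_false, pow_one]; omega
  refine ⟨A, p ^ e, ?_, hcop, ?_, ?_, ?_, ?_⟩
  · intro x
    obtain ⟨g, rfl⟩ := QuotientGroup.mk_surjective x
    rcases dichotomy hodd (by omega) hpe g with ⟨s, hs, hso⟩ | h | ⟨b, d, j, hd1, hj1, hdj, h⟩
    · exact Or.inl (comb g s hs hso)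
    · exact Or.inr ((orderOf_dvd_of_pow_eq_one h).trans (dvd_mul_left _ _))
    · rcases (show j = 1 ∨ 2 ≤ j by omega) with rfl | hj
      · rw [mul_one] at hdj
        subst hdj
        have hx := orderOf_dvd_of_pow_eq_one (h 0 (by simp))
        rw [pow_zero, mul_one, ← hq] at hx
        rcases Nat.even_or_odd (halfTorus b q d) with hev | hod
        · left
          obtain ⟨t, ht⟩ := exists_torus_psp (F := F) (n := d) hodd (p := p) (by omega) b
          exact exists_orderOf_eq ((Nat.lcm_dvd hx (even_iff_two_dvd.1 hev)).trans ht)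
        · right
          refine hx.trans (Dvd.dvd.mul_right (dvd_of_eq ?_) _)
          rw [hA]
          congr 1
          rw [hb0]
          cases b
          · symm
            rw [decide_eq_false_iff_not, hTT, Nat.not_odd_iff_even]
            exact hod.add_one
          · symm
            rw [decide_eq_true_iff]
            exact hod
      · left
        have hd2 : d * 2 ≤ d * j := Nat.mul_le_mul_left _ hj
        have hjn : d * j - d ≥ j - 1 := by
          rw [← Nat.mul_sub_one]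
          exact Nat.le_mul_of_pos_left _ hd1
        obtain ⟨t, ht⟩ := exists_pair (F := F) (n := n) hodd (d := d) (m := n - d) (p := p)
          (f := Nat.clog p j) hd1 (by omega) (by omega) (by
            have := Nat.pow_pred_clog_lt_self hp.one_lt (x := j) (by omega)
            rw [Nat.pred_eq_sub_one] at this
            omega) b
        refine exists_orderOf_eq ((Nat.lcm_dvd ?_ ?_).trans ht)
        · refine (orderOf_dvd_of_pow_eq_one (h _ (Nat.le_pow_clog hp.one_lt _))).trans ?_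
          rw [mul_assoc 2]
          exact dvd_mul_left _ _
        · exact (dvd_mul_right 2 _).trans (dvd_mul_right _ _)
  · exact exists_torus_psp (F := F) (n := n) hodd (p := p) (by omega) b0
  · exact exists_unipotent_psp (F := F) (n := n) hodd (by omega) helt
  · exact exists_orderOf_eq ((dvd_mul_right 2 _).trans ((dvd_mul_right _ _).trans hvw))
  · intro hno
    have h1 : p ^ (e - 1) ≠ 2 * n - 1 := fun h => hno ⟨e - 1, h.symm⟩
    obtain ⟨k, hk⟩ := hpodd.pow (n := e - 1)
    obtain ⟨v, hv⟩ := exists_pair (F := F) (n := n) hodd (d := 1) (m := n - 1) (p := p) (f := e)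
      le_rfl (by omega) (by omega) (by omega) false
    refine ⟨v, dvd_trans ?_ hv⟩
    rw [mul_comm (p ^ e) 2]
    exact Nat.mul_dvd_mul_right (dvd_mul_right 2 _) _

/-- Let F be a finite field of odd order q = p^a, n ≥ 2 (with q ≥ 3 automatic), and L = PSp(2n, F). Then for every m the direct product L × L × L × (ℤ/2)^m has the same set of element orders as L × L × L; and if 2n − 1 is not a power of p, then already L × L × (ℤ/2)^m has the same set of element orders as L × L. -/
theorem result {F : Type*} [Field F] [Fintype F] (p a n m : ℕ) (hp : p.Prime) (ha : 1 ≤ a) (hF : Fintype.card F = p ^ a) (hodd : Odd (Fintype.card F))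
    (hn : 2 ≤ n) :
    Set.range (orderOf : Cfsg.PSp n F × Cfsg.PSp n F × Cfsg.PSp n F × Multiplicative (Fin m → ZMod 2) → ℕ) = Set.range (orderOf : Cfsg.PSp n F × Cfsg.PSp n F × Cfsg.PSp n F → ℕ) ∧
    ((¬ ∃ j : ℕ, 2 * n - 1 = p ^ j) →
      Set.range (orderOf : Cfsg.PSp n F × Cfsg.PSp n F × Multiplicative (Fin m → ZMod 2) → ℕ) = Set.range (orderOf : Cfsg.PSp n F × Cfsg.PSp n F → ℕ)) := by
  classical
  haveI := Fact.mk hp
  haveI : CharP F p := charP_of_card_eq_prime_pow (f := a) hF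
  obtain ⟨A, B, hg, hcop, ⟨u, hu⟩, ⟨v, hv⟩, ⟨w, hw⟩, hB⟩ := key (F := F) p n hodd hn
  have hz : ∀ z : Multiplicative (Fin m → ZMod 2), orderOf z = 1 ∨ orderOf z = 2 := fun z => by
    refine (Nat.dvd_prime Nat.prime_two).1 (orderOf_dvd_of_pow_eq_one ?_)
    apply Multiplicative.toAdd.injective
    ext i
    rw [toAdd_pow, toAdd_one, two_nsmul]
    exact CharTwo.add_self_eq_zero _
  refine ⟨Set.Subset.antisymm ?_ ?_, fun hno => Set.Subset.antisymm ?_ ?_⟩
  · rintro _ ⟨⟨x, y, t, z⟩, rfl⟩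
    simp only [Prod.orderOf, Set.mem_range, Prod.exists]
    rcases hz z with e | e <;> rw [e]
    · exact ⟨x, y, t, by simp⟩
    rcases hg x with ⟨x', hx⟩ | hx
    · exact ⟨x', y, t, by rw [hx]; ac_rfl⟩
    rcases hg y with ⟨y', hy⟩ | hy
    · exact ⟨x, y', t, by rw [hy]; ac_rfl⟩
    rcases hg t with ⟨t', ht⟩ | ht
    · exact ⟨x, y, t', by rw [ht]⟩
    set L := Nat.lcm (orderOf x) (Nat.lcm (orderOf y) (orderOf t)) with hL
    have hLd : L ∣ A * B := Nat.lcm_dvd hx (Nat.lcm_dvd hy ht)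
    obtain ⟨u', hu'⟩ := exists_orderOf_eq ((Nat.gcd_dvd_right L A).trans hu)
    obtain ⟨v', hv'⟩ := exists_orderOf_eq ((Nat.gcd_dvd_right L B).trans hv)
    refine ⟨u', v', w, ?_⟩
    rw [hu', hv', hw, ← Nat.lcm_assoc, (hcop.coprime_dvd_left (Nat.gcd_dvd_right L A) |>.coprime_dvd_right
        (Nat.gcd_dvd_right L B)).lcm_eq_mul, ← Nat.Coprime.gcd_mul L hcop, Nat.gcd_eq_left hLd, hL]
    ac_rfl
  · rintro _ ⟨⟨x, y, t⟩, rfl⟩
    exact ⟨(x, y, t, 1), by simp [Prod.orderOf]⟩
  · rintro _ ⟨⟨x, y, z⟩, rfl⟩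
    simp only [Prod.orderOf, Set.mem_range, Prod.exists]
    rcases hz z with e | e <;> rw [e]
    · exact ⟨x, y, by simp⟩
    rcases hg x with ⟨x', hx⟩ | hx
    · exact ⟨x', y, by rw [hx]; ac_rfl⟩
    rcases hg y with ⟨y', hy⟩ | hy
    · exact ⟨x, y', by rw [hy]⟩
    obtain ⟨v, hv⟩ := hB hno
    set L := Nat.lcm (orderOf x) (orderOf y) with hL
    have hLd : L ∣ A * B := Nat.lcm_dvd hx hy
    obtain ⟨u', hu'⟩ := exists_orderOf_eq ((Nat.gcd_dvd_right L A).trans hu)
    obtain ⟨v', hv'⟩ := exists_orderOf_eq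
      (((Nat.lcm_dvd ((Nat.gcd_dvd_right L B).trans (dvd_mul_right B 2)) (dvd_mul_left 2 B)).trans hv))
    refine ⟨u', v', ?_⟩
    rw [hu', hv', ← Nat.lcm_assoc, (hcop.coprime_dvd_left (Nat.gcd_dvd_right L A) |>.coprime_dvd_right
        (Nat.gcd_dvd_right L B)).lcm_eq_mul, ← Nat.Coprime.gcd_mul L hcop, Nat.gcd_eq_left hLd, hL]
    ac_rfl
  · rintro _ ⟨⟨x, y⟩, rfl⟩
    exact ⟨(x, y, 1), by simp [Prod.orderOf]⟩

end Cfsg.Agent.S2512
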