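import Cfsg.Statements.S2513
import Mathlib

set_option autoImplicit false
open Cfsg

namespace Cfsg.Agent.S2513

open Polynomial

lemma eq_of_dvd_iff {a b : ℕ} (h : ∀ n, a ∣ n ↔ b ∣ n) : a = b :=
  Nat.dvd_antisymm ((h b).2 dvd_rfl) ((h a).1 dvd_rfl)

lemma pi_dvd {ι G : Type*} [Group G] (f : ι → G) (n : ℕ) :
    orderOf f ∣ n ↔ ∀ i, orderOf (f i) ∣ n := by
  simp only [orderOf_dvd_iff_pow_eq_one, funext_iff, Pi.pow_apply, Pi.one_apply]

lemma realise {G : Type*} [Group G] [Finite G] {y : G} {n : ℕ} (h : n ∣ orderOf y) :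
    ∃ z : G, orderOf z = n :=
  ⟨y ^ (orderOf y / n), orderOf_pow_orderOf_div (orderOf_pos y).ne' h⟩

/-- An odd prime power order of an element of `SL_n(2)` divides `2^d - 1` with `d ≤ n`. -/
lemma primepow_bound {n : ℕ} (y : Matrix.SpecialLinearGroup (Fin n) (ZMod 2)) {l a : ℕ}
    (hl : l.Prime) (hl2 : l ≠ 2) (ha : 1 ≤ a) (hy : orderOf y = l ^ a) :
    ∃ d, 1 ≤ d ∧ d ≤ n ∧ l ^ a ∣ 2 ^ d - 1 := by
  classical
  set Y : Matrix (Fin n) (Fin n) (ZMod 2) := ↑y with hYdef
  have hpow : ∀ k, Y ^ k = 1 ↔ l ^ a ∣ k := by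
    intro k
    rw [← hy, orderOf_dvd_iff_pow_eq_one]
    constructor
    · intro h
      exact Subtype.ext h
    · intro h
      exact congrArg Subtype.val h
  set b := l ^ (a - 1) with hb
  set m := minpoly (ZMod 2) Y with hm
  have hm1 : m ∣ X ^ (l ^ a) - 1 := minpoly.dvd _ _ (by simp [(hpow _).2 dvd_rfl])
  have hm2 : ¬ m ∣ X ^ b - 1 := by
    rintro ⟨c, hc⟩
    have h0 : aeval Y (X ^ b - 1 : (ZMod 2)[X]) = 0 := by
      rw [hc, map_mul, hm, minpoly.aeval, zero_mul]
    have hb1 : Y ^ b = 1 := by simpa [sub_eq_zero] using h0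
    rw [hpow, Nat.pow_dvd_pow_iff_le_right hl.one_lt] at hb1
    omega
  have hsq : Squarefree m := by
    refine Squarefree.squarefree_of_dvd hm1 (Polynomial.Separable.squarefree ?_)
    apply Polynomial.separable_X_pow_sub_C (1 : ZMod 2) _ one_ne_zero
    rw [Ne, ZMod.natCast_eq_zero_iff]
    intro h2
    exact hl2 ((Nat.prime_dvd_prime_iff_eq Nat.prime_two hl).1 (Nat.prime_two.dvd_of_dvd_pow h2)).symm
  obtain ⟨h, hh⟩ := EuclideanDomain.gcd_dvd_left m (X ^ b - 1)
  set g := EuclideanDomain.gcd m (X ^ b - 1)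
  have hmne : m ≠ 0 := minpoly.ne_zero (Matrix.isIntegral Y)
  have hnu : ¬ IsUnit h := fun hu =>
    hm2 (hh ▸ (hu.mul_right_dvd.2 (EuclideanDomain.gcd_dvd_right m (X ^ b - 1))))
  have hh0 : h ≠ 0 := fun h0 => hmne (by rw [hh, h0, mul_zero])
  obtain ⟨f, hf, hfh⟩ := WfDvdMonoid.exists_irreducible_factor hnu hh0
  have hfm : f ∣ m := hh ▸ hfh.mul_left g
  have hfb : ¬ f ∣ X ^ b - 1 := fun hd =>
    hf.not_isUnit (hsq f (hh ▸ mul_dvd_mul (EuclideanDomain.dvd_gcd hfm hd) hfh))
  have : Fact (Irreducible f) := ⟨hf⟩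
  have hroot : ∀ k : ℕ, (AdjoinRoot.root f) ^ k = 1 ↔ f ∣ X ^ k - 1 := by
    intro k
    rw [← AdjoinRoot.mk_eq_zero]
    simp [sub_eq_zero]
  let pb := AdjoinRoot.powerBasis hf.ne_zero
  have : Module.Finite (ZMod 2) (AdjoinRoot f) := pb.finite
  have : Finite (AdjoinRoot f) := Module.finite_of_finite (ZMod 2)
  have := Fintype.ofFinite (AdjoinRoot f)
  have hcard : Fintype.card (AdjoinRoot f) = 2 ^ f.natDegree := by
    rw [Module.card_fintype pb.basis, ZMod.card, Fintype.card_fin, AdjoinRoot.powerBasis_dim]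
  have hord : orderOf (AdjoinRoot.root f) = l ^ a := by
    have : Fact l.Prime := ⟨hl⟩
    obtain ⟨a', rfl⟩ := Nat.exists_eq_add_of_le' ha
    refine orderOf_eq_prime_pow ?_ ((hroot _).2 (hfm.trans hm1))
    rw [hroot]
    simpa [hb] using hfb
  refine ⟨f.natDegree, hf.natDegree_pos, ?_, ?_⟩
  · calc f.natDegree ≤ m.natDegree := natDegree_le_of_dvd hfm hmne
      _ ≤ (Matrix.charpoly Y).natDegree :=
        natDegree_le_of_dvd (Matrix.minpoly_dvd_charpoly Y) (Matrix.charpoly_monic Y).ne_zero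
      _ = n := by rw [Matrix.charpoly_natDegree_eq_dim, Fintype.card_fin]
  · have hr : (AdjoinRoot.root f) ≠ 0 := by
      intro h0
      rw [h0, orderOf_zero] at hord
      exact (pow_ne_zero a hl.ne_zero) hord.symm
    rw [← hord, ← hcard]
    exact orderOf_dvd_of_pow_eq_one (FiniteField.pow_card_sub_one_eq_one _ hr)

/-- `SL_n(2)` has elements of every order dividing `2^d - 1`, `d ≤ n`. -/
lemma exists_order {n d m : ℕ} (hd : 1 ≤ d) (hdn : d ≤ n) (hm : m ∣ 2 ^ d - 1) :
    ∃ x : Matrix.SpecialLinearGroup (Fin n) (ZMod 2), orderOf x = m := by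
  classical
  obtain ⟨e, rfl⟩ := Nat.exists_eq_add_of_le hdn
  let K := GaloisField 2 d
  have := Fintype.ofFinite K
  let B : Module.Basis (Fin d) (ZMod 2) K :=
    Module.finBasisOfFinrankEq _ _ (GaloisField.finrank 2 (by omega))
  let φ : K →* Matrix (Fin (d + e)) (Fin (d + e)) (ZMod 2) :=
    { toFun := fun x => Matrix.reindexAlgEquiv (ZMod 2) (ZMod 2) finSumFinEquiv
        (Matrix.fromBlocks (Algebra.leftMulMatrix B x) 0 0 1)
      map_one' := by simp
      map_mul' := fun x y => by rw [← map_mul]; simp [Matrix.fromBlocks_multiply] }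
  have hdet : ∀ x : Kˣ, (φ x).det = 1 := by
    intro x
    have h1 : IsUnit ((φ x).det) := (x.isUnit.map φ).map Matrix.detMonoidHom
    have key : ∀ z : ZMod 2, z ≠ 0 → z = 1 := by decide
    exact key _ h1.ne_zero
  let ψ : Kˣ →* Matrix.SpecialLinearGroup (Fin (d + e)) (ZMod 2) :=
    { toFun := fun x => ⟨φ x, hdet x⟩
      map_one' := Subtype.ext (by simp)
      map_mul' := fun x y => Subtype.ext (by simp; rfl) }
  have hinj : Function.Injective ψ := by
    intro x y hxy
    have h1 : φ x = φ y := congrArg Subtype.val hxy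
    have h2 := (Matrix.reindexAlgEquiv (ZMod 2) (ZMod 2) finSumFinEquiv).injective h1
    rw [Matrix.fromBlocks_inj] at h2
    exact Units.ext (Algebra.leftMulMatrix_injective B h2.1)
  obtain ⟨z, hz⟩ := IsCyclic.exists_ofOrder_eq_natCard (α := Kˣ)
  have hK : orderOf z = 2 ^ d - 1 := by
    rw [hz, Nat.card_units, GaloisField.card 2 d (by omega)]
  obtain ⟨w, hw⟩ := realise (y := z) (hK ▸ hm)
  exact ⟨ψ w, (orderOf_injective ψ hinj w).trans hw⟩

/-- Every divisibility antichain in `[1,n]` has at most `(n+1)/2` elements. -/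
lemma antichain_card {n : ℕ} (D : Finset ℕ) (hD : ∀ d ∈ D, 1 ≤ d ∧ d ≤ n)
    (hanti : ∀ d ∈ D, ∀ d' ∈ D, d ∣ d' → d = d') : D.card ≤ (n + 1) / 2 := by
  have hodd : ∀ d ∈ D, (ordCompl[2] d) % 2 = 1 := fun d hd =>
    Nat.two_dvd_ne_zero.1 (Nat.not_dvd_ordCompl Nat.prime_two (by have := hD d hd; omega))
  refine (Finset.card_le_card_of_injOn (fun d => ordCompl[2] d / 2) ?_ ?_).trans
    (Finset.card_range _).le
  · intro d hd
    have h1 := hodd d hd
    have h2 := Nat.ordCompl_le d 2
    have h3 := (hD d hd).2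
    simp only [Finset.coe_range, Set.mem_Iio]
    omega
  · intro d hd d' hd' he
    simp only at he
    have h1 := hodd d hd
    have h2 := hodd d' hd'
    have heq : ordCompl[2] d = ordCompl[2] d' := by omega
    have e1 := Nat.ordProj_mul_ordCompl_eq_self d 2
    have e2 := Nat.ordProj_mul_ordCompl_eq_self d' 2
    rcases le_total (d.factorization 2) (d'.factorization 2) with h | h
    · apply hanti d hd d' hd'
      rw [← e1, ← e2, heq]
      exact Nat.mul_dvd_mul_right (pow_dvd_pow _ h) _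
    · refine (hanti d' hd' d hd ?_).symm
      rw [← e1, ← e2, heq]
      exact Nat.mul_dvd_mul_right (pow_dvd_pow _ h) _

lemma card_two_eq {F : Type*} [Field F] [Fintype F] (hF : Fintype.card F = 2) :
    Nonempty (ZMod 2 ≃+* F) :=
  ⟨ZMod.ringEquivOfPrime F Nat.prime_two hF⟩

lemma transfer_range {G H : Type*} [Group G] [Group H] (e : G ≃* H) (k : ℕ) :
    Set.range (orderOf : (Fin k → G) → ℕ) = Set.range (orderOf : (Fin k → H) → ℕ) := by
  ext N
  constructor
  · rintro ⟨f, rfl⟩
    exact ⟨(MulEquiv.piCongrRight fun _ : Fin k => e) f, MulEquiv.orderOf_eq _ f⟩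
  · rintro ⟨f, rfl⟩
    exact ⟨(MulEquiv.piCongrRight fun _ : Fin k => e.symm) f, MulEquiv.orderOf_eq _ f⟩

lemma core (n k : ℕ) (hk : (n + 3) / 2 ≤ k) :
    Set.range (orderOf : (Fin k → Matrix.SpecialLinearGroup (Fin n) (ZMod 2)) → ℕ) =
      Set.range (orderOf : (Fin ((n + 3) / 2) → Matrix.SpecialLinearGroup (Fin n) (ZMod 2)) → ℕ) := by
  classical
  set L := Matrix.SpecialLinearGroup (Fin n) (ZMod 2)
  ext N
  constructor
  · rintro ⟨f, rfl⟩
    set N := orderOf f with hN
    have hN0 : N ≠ 0 := (orderOf_pos f).ne'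
    have hprim : ∀ q : ℕ, IsPrimePow q → q ∣ N → ∃ x : L, orderOf x = q := by
      intro q hq hd
      have hlcm : N = Finset.univ.lcm (fun i => orderOf (f i)) :=
        eq_of_dvd_iff fun j => by rw [hN, pi_dvd, Finset.lcm_dvd_iff]; simp
      rw [hlcm] at hd
      obtain ⟨l, a, hl, ha, rfl⟩ := hq
      have hl' := Nat.prime_iff.2 hl
      have : ∃ i, l ^ a ∣ orderOf (f i) := by
        by_contra hne
        push Not at hne
        have key : ∀ s : Finset (Fin k), ¬ l ^ a ∣ s.lcm (fun i => orderOf (f i)) := by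
          intro s
          induction s using Finset.induction_on with
          | empty =>
            rw [Finset.lcm_empty, Nat.dvd_one]
            exact (Nat.one_lt_pow ha.ne' hl'.one_lt).ne'
          | insert i s _ ih =>
            intro h
            rw [Finset.lcm_insert] at h
            have hz : s.lcm (fun i => orderOf (f i)) ≠ 0 := by
              rw [Ne, Finset.lcm_eq_zero_iff]
              rintro ⟨j, -, hj⟩
              exact (orderOf_pos (f j)).ne' hj
            have h1 := hne i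
            rw [hl'.pow_dvd_iff_le_factorization (orderOf_pos _).ne'] at h1
            rw [hl'.pow_dvd_iff_le_factorization hz] at ih
            change l ^ a ∣ Nat.lcm (orderOf (f i)) _ at h
            rw [hl'.pow_dvd_iff_le_factorization (Nat.lcm_ne_zero (orderOf_pos _).ne' hz),
              Nat.factorization_lcm (orderOf_pos _).ne' hz] at h
            simp at h
            omega
        exact key _ hd
      obtain ⟨i, hi⟩ := this
      exact realise hi
    set M := ordCompl[2] N with hM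
    have hMpos : M ≠ 0 := (Nat.ordCompl_pos 2 hN0).ne'
    have hdeg : ∀ l ∈ M.primeFactors, ∃ d, 1 ≤ d ∧ d ≤ n ∧ l ^ M.factorization l ∣ 2 ^ d - 1 := by
      intro l hl
      rw [Nat.mem_primeFactors] at hl
      have hl2 : l ≠ 2 := by rintro rfl; exact Nat.not_dvd_ordCompl Nat.prime_two hN0 hl.2.1
      have ha : 1 ≤ M.factorization l := hl.1.factorization_pos_of_dvd hMpos hl.2.1
      obtain ⟨x, hx⟩ := hprim _ (isPrimePow_nat_iff _ |>.2 ⟨l, _, hl.1, ha, rfl⟩)
        ((Nat.ordProj_dvd M l).trans (Nat.ordCompl_dvd N 2))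
      exact primepow_bound x hl.1 hl2 ha hx
    choose! d hd using hdeg
    set S := M.primeFactors.image d with hS
    set D := S.filter (fun e => ∀ e' ∈ S, e ∣ e' → e = e') with hDdef
    have hSb : ∀ e ∈ S, 1 ≤ e ∧ e ≤ n := by
      intro e he
      obtain ⟨l, hl, rfl⟩ := Finset.mem_image.1 he
      exact ⟨(hd l hl).1, (hd l hl).2.1⟩
    have hcover : ∀ e ∈ S, ∃ e' ∈ D, e ∣ e' := by
      intro e he
      obtain ⟨e', he', hmax⟩ := Finset.exists_max_image (S.filter (e ∣ ·)) id ⟨e, by simp [he]⟩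
      rw [Finset.mem_filter] at he'
      refine ⟨e', Finset.mem_filter.2 ⟨he'.1, fun e'' he'' hdv => ?_⟩, he'.2⟩
      have h2 : e'' ≤ e' := hmax e'' (Finset.mem_filter.2 ⟨he'', he'.2.trans hdv⟩)
      exact le_antisymm (Nat.le_of_dvd (by have := hSb e'' he''; omega) hdv) h2
    have hDcard : D.card ≤ (n + 1) / 2 :=
      antichain_card D (fun e he => hSb e (Finset.filter_subset _ _ he))
        (fun e he e' he' h => (Finset.mem_filter.1 he).2 e' (Finset.filter_subset _ _ he') h)
    have hx : ∀ e : D, ∃ x : L, orderOf x = Nat.gcd M (2 ^ (e : ℕ) - 1) := fun e =>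
      exists_order (hSb e (Finset.filter_subset _ _ e.2)).1 (hSb e (Finset.filter_subset _ _ e.2)).2
        (Nat.gcd_dvd_right _ _)
    choose x hx using hx
    obtain ⟨z, hz⟩ : ∃ z : L, orderOf z = ordProj[2] N := by
      rcases Nat.eq_zero_or_pos (N.factorization 2) with h | h
      · exact ⟨1, by simp [h]⟩
      · exact hprim _ (isPrimePow_nat_iff _ |>.2 ⟨2, _, Nat.prime_two, h, rfl⟩) (Nat.ordProj_dvd N 2)
    obtain ⟨ι⟩ : Nonempty (Option D ↪ Fin ((n + 3) / 2)) :=
      Function.Embedding.nonempty_of_card_le (by simp; omega)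
    refine ⟨Function.extend ι (fun o => o.elim z x) 1, eq_of_dvd_iff fun j => ?_⟩
    rw [pi_dvd]
    constructor
    · intro h
      have h1 : ordProj[2] N ∣ j := by
        have := h (ι none)
        rwa [ι.injective.extend_apply, Option.elim_none, hz] at this
      have h2 : M ∣ j := by
        rcases eq_or_ne j 0 with rfl | hj0
        · exact dvd_zero _
        rw [← Nat.factorization_le_iff_dvd hMpos hj0]
        intro l
        by_cases hl : l ∈ M.primeFactors
        · obtain ⟨e, he, hde⟩ := hcover (d l) (Finset.mem_image_of_mem d hl)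
          have := h (ι (some ⟨e, he⟩))
          rw [ι.injective.extend_apply, Option.elim_some, hx] at this
          exact ((Nat.prime_of_mem_primeFactors hl).pow_dvd_iff_le_factorization hj0).1
            ((Nat.dvd_gcd (Nat.ordProj_dvd M l)
              ((hd l hl).2.2.trans (Nat.pow_sub_one_dvd_pow_sub_one 2 hde))).trans this)
        · simp [Finsupp.notMem_support_iff.1 (Nat.support_factorization M ▸ hl)]
      rw [← Nat.ordProj_mul_ordCompl_eq_self N 2]
      exact Nat.Coprime.mul_dvd_of_dvd_of_dvd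
        ((Nat.coprime_ordCompl Nat.prime_two hN0).pow_left _) h1 h2
    · intro h i
      by_cases hi : ∃ o, ι o = i
      · obtain ⟨o, rfl⟩ := hi
        rw [ι.injective.extend_apply]
        cases o with
        | none => exact hz.symm ▸ (Nat.ordProj_dvd N 2).trans h
        | some e =>
          simp only [Option.elim_some, hx]
          exact ((Nat.gcd_dvd_left _ _).trans (Nat.ordCompl_dvd N 2)).trans h
      · simp [Function.extend_apply' _ _ _ hi]
  · rintro ⟨f, rfl⟩
    refine ⟨Function.extend (Fin.castLE hk) f 1, eq_of_dvd_iff fun j => ?_⟩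
    rw [pi_dvd, pi_dvd]
    constructor
    · intro h i
      simpa [(Fin.castLE_injective hk).extend_apply] using h (Fin.castLE hk i)
    · intro h i
      by_cases hi : ∃ o, Fin.castLE hk o = i
      · obtain ⟨o, rfl⟩ := hi
        simpa [(Fin.castLE_injective hk).extend_apply] using h o
      · simp [Function.extend_apply' _ _ _ hi]


/-- Let F be the field with two elements, n ≥ 2, L = PSL(n, F) and k₀ = ⌊(n + 3)/2⌋. Then for every k ≥ k₀ the direct product of k copies of L has the same set of element orders as the direct product of k₀ copies of L. -/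
theorem result {F : Type*} [Field F] [Fintype F] (hF : Fintype.card F = 2) (n k : ℕ) (hn : 2 ≤ n) (hk : (n + 3) / 2 ≤ k) :
    Set.range (orderOf : (Fin k → Matrix.ProjectiveSpecialLinearGroup (Fin n) F) → ℕ) = Set.range (orderOf : (Fin ((n + 3) / 2) → Matrix.ProjectiveSpecialLinearGroup (Fin n) F) → ℕ) := by
  obtain ⟨σ⟩ := card_two_eq hF
  have hc : Subgroup.center (Matrix.SpecialLinearGroup (Fin n) F) = ⊥ := by
    rw [eq_bot_iff]
    intro A hA
    obtain ⟨r, hr, hr2⟩ := Matrix.SpecialLinearGroup.mem_center_iff.1 hA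
    have key : ∀ s : F, s ≠ 0 → s = 1 := by
      intro s hs
      obtain ⟨u, rfl⟩ := σ.surjective s
      have hu : ∀ v : ZMod 2, v ≠ 0 → v = 1 := by decide
      rw [hu u (fun h => hs (by simp [h])), map_one]
    have hr1 : r = 1 := key r (fun h => by simp [h, show n ≠ 0 by omega] at hr)
    rw [Subgroup.mem_bot]
    apply Subtype.ext
    rw [← hr2, hr1]
    exact map_one _
  let e1 : Matrix.SpecialLinearGroup (Fin n) F ≃* Matrix.ProjectiveSpecialLinearGroup (Fin n) F :=
    MulEquiv.ofBijective (QuotientGroup.mk' _)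
      ⟨(MonoidHom.ker_eq_bot_iff _).1 (by rw [QuotientGroup.ker_mk', hc]),
        QuotientGroup.mk'_surjective _⟩
  let e2 : Matrix.SpecialLinearGroup (Fin n) (ZMod 2) ≃* Matrix.SpecialLinearGroup (Fin n) F :=
    { Matrix.SpecialLinearGroup.map (n := Fin n) σ.toRingHom with
      invFun := Matrix.SpecialLinearGroup.map (n := Fin n) σ.symm.toRingHom
      left_inv := fun A => by ext i j; simp
      right_inv := fun A => by ext i j; simp }
  rw [← transfer_range (e2.trans e1) k, ← transfer_range (e2.trans e1) ((n + 3) / 2)]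
  exact core n k hk

end Cfsg.Agent.S2513
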