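import Cfsg.Statements.S2514
import Mathlib

set_option autoImplicit false
open Cfsg

namespace Cfsg.Agent.S2514

lemma exists_maximal {G : Type*} [Group G] [Finite G] (x : G) :
    ∃ n : ℕ, orderOf x ∣ n ∧ n ∈ Set.range (orderOf : G → ℕ) ∧
      ∀ m ∈ Set.range (orderOf : G → ℕ), n ∣ m → m = n := by
  classical
  have := Fintype.ofFinite G
  obtain ⟨y, hy, hmax⟩ := Finset.exists_max_image
    (Finset.univ.filter fun y : G => orderOf x ∣ orderOf y) orderOf ⟨x, by simp⟩
  rw [Finset.mem_filter] at hy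
  refine ⟨orderOf y, hy.2, ⟨y, rfl⟩, ?_⟩
  rintro m ⟨z, rfl⟩ hd
  have h1 := hmax z (by simp [hy.2.trans hd])
  exact le_antisymm h1 (Nat.le_of_dvd (orderOf_pos z) hd)

lemma pi_dvd {ι G : Type*} [Group G] (f : ι → G) (n : ℕ) :
    orderOf f ∣ n ↔ ∀ i, orderOf (f i) ∣ n := by
  simp only [orderOf_dvd_iff_pow_eq_one, funext_iff, Pi.pow_apply, Pi.one_apply]

lemma prod_dvd {A B : Type*} [Group A] [Group B] (a : A) (b : B) (n : ℕ) :
    orderOf (a, b) ∣ n ↔ orderOf a ∣ n ∧ orderOf b ∣ n := by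
  simp only [orderOf_dvd_iff_pow_eq_one, Prod.pow_mk, Prod.mk_eq_one]

lemma eq_of_dvd_iff {a b : ℕ} (h : ∀ n, a ∣ n ↔ b ∣ n) : a = b :=
  Nat.dvd_antisymm ((h b).2 dvd_rfl) ((h a).1 dvd_rfl)

lemma realise {G : Type*} [Group G] [Finite G] {y : G} {n : ℕ} (h : n ∣ orderOf y) :
    ∃ z : G, orderOf z = n :=
  ⟨y ^ (orderOf y / n), orderOf_pow_orderOf_div (orderOf_pos y).ne' h⟩


/-- For a finite group X write μ(X) for the set of element orders of X that are maximal under divisibility. Let G and H be finite groups and k ≥ 1 such that μ(H) ⊆ μ(G) and μ(G) has fewer than k elements outside μ(H). Then the direct product of k copies of G has the same set of element orders as the direct product of k − 1 copies of G with H. -/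
theorem result {G H : Type*} [Group G] [Finite G] [Group H] [Finite H] (k : ℕ) (hk : 1 ≤ k)
    (hsub : {n : ℕ | n ∈ Set.range (orderOf : H → ℕ) ∧ ∀ m ∈ Set.range (orderOf : H → ℕ), n ∣ m → m = n} ⊆ {n : ℕ | n ∈ Set.range (orderOf : G → ℕ) ∧ ∀ m ∈ Set.range (orderOf : G → ℕ), n ∣ m → m = n})
    (hfew : ({n : ℕ | n ∈ Set.range (orderOf : G → ℕ) ∧ ∀ m ∈ Set.range (orderOf : G → ℕ), n ∣ m → m = n} \ {n : ℕ | n ∈ Set.range (orderOf : H → ℕ) ∧ ∀ m ∈ Set.range (orderOf : H → ℕ), n ∣ m → m = n}).ncard < k) :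
    Set.range (orderOf : (Fin k → G) → ℕ) = Set.range (orderOf : (Fin (k - 1) → G) × H → ℕ) := by
  classical
  obtain ⟨k, rfl⟩ := Nat.exists_eq_add_of_le hk
  rw [add_comm 1 k] at hfew ⊢
  try simp only [Nat.add_sub_cancel]
  ext n
  constructor
  · rintro ⟨f, rfl⟩
    by_cases hc : ∃ i, ∃ h : H, orderOf (f i) = orderOf h
    · obtain ⟨i, h, hh⟩ := hc
      refine ⟨(f ∘ i.succAbove, h), eq_of_dvd_iff fun n => ?_⟩
      rw [prod_dvd, pi_dvd, pi_dvd, ← hh, Fin.forall_iff_succAbove (P := fun j => orderOf (f j) ∣ n) i]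
      exact and_comm
    · push Not at hc
      choose m hm1 hm2 hm3 using fun i => exists_maximal (f i)
      have hD : ∀ i, m i ∈ ({n : ℕ | n ∈ Set.range (orderOf : G → ℕ) ∧ ∀ m ∈ Set.range (orderOf : G → ℕ), n ∣ m → m = n} \ {n : ℕ | n ∈ Set.range (orderOf : H → ℕ) ∧ ∀ m ∈ Set.range (orderOf : H → ℕ), n ∣ m → m = n}) := by
        intro i
        refine ⟨⟨hm2 i, hm3 i⟩, ?_⟩
        rintro ⟨⟨y, hy⟩, -⟩
        obtain ⟨z, hz⟩ := realise (y := y) (hy ▸ hm1 i)
        exact hc i z hz.symm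
      obtain ⟨i, j, hij, he⟩ : ∃ i j, i ≠ j ∧ m i = m j := by
        by_contra hne
        push Not at hne
        have hinj : Function.Injective m := fun a b hab => by_contra fun hab' => hne a b hab' hab
        have h1 := Set.ncard_le_ncard (s := Set.range m) (by rintro _ ⟨i, rfl⟩; exact hD i)
          ((Set.finite_range (orderOf : G → ℕ)).subset (by intro a ha; exact ha.1.1))
        rw [Set.ncard_range_of_injective hinj, Nat.card_fin] at h1
        omega
      obtain ⟨y, hy⟩ := hm2 i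
      obtain ⟨g, hg⟩ := realise (y := y)
        (show Nat.lcm (orderOf (f i)) (orderOf (f j)) ∣ orderOf y from
          hy ▸ Nat.lcm_dvd (hm1 i) (he ▸ hm1 j))
      refine ⟨(Function.update f j g ∘ i.succAbove, 1), eq_of_dvd_iff fun n => ?_⟩
      rw [prod_dvd, pi_dvd, pi_dvd, orderOf_one]
      simp only [one_dvd, and_true, Function.comp_apply]
      obtain ⟨j', rfl⟩ := Fin.exists_succAbove_eq hij.symm
      rw [Fin.forall_iff_succAbove (P := fun j => orderOf (f j) ∣ n) i]
      constructor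
      · intro h
        have hj := h j'
        rw [Function.update_self, hg, Nat.lcm_dvd_iff] at hj
        refine ⟨hj.1, fun l => ?_⟩
        by_cases hl : l = j'
        · exact hl ▸ hj.2
        · simpa [Function.update_of_ne (Fin.succAbove_right_injective.ne hl)] using h l
      · rintro ⟨h1, h2⟩ l
        by_cases hl : l = j'
        · subst hl
          rw [Function.update_self, hg]
          exact Nat.lcm_dvd h1 (h2 l)
        · simpa [Function.update_of_ne (Fin.succAbove_right_injective.ne hl)] using h2 l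
  · rintro ⟨⟨f, h⟩, rfl⟩
    obtain ⟨m, hd, hm, hmax⟩ := exists_maximal h
    obtain ⟨⟨y, hy⟩, -⟩ := hsub ⟨hm, hmax⟩
    obtain ⟨g, hg⟩ := realise (y := y) (hy ▸ hd)
    refine ⟨Fin.snoc f g, eq_of_dvd_iff fun n => ?_⟩
    rw [prod_dvd, pi_dvd, pi_dvd, Fin.forall_fin_succ']
    simp [hg]

end Cfsg.Agent.S2514
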