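import Cfsg.Statements.S2516
import Mathlib

set_option autoImplicit false
open Cfsg

namespace Cfsg.Agent.S2516

/-- Let F be a field of characteristic p > 0, V a non-zero finite-dimensional F-vector space, G a finite group and ρ a representation of G on V; form the semidirect product V ⋊ G. For g ∈ G of order k, the coset Vg contains an element of order pk if and only if the minimal polynomial of ρ(g) does not divide 1 + X + ⋯ + X^(k−1). -/
theorem result {F : Type*} [Field F] (p : ℕ) [Fact p.Prime] [CharP F p] {V : Type*} [AddCommGroup V] [Module F V] [FiniteDimensional F V] [Nontrivial V]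
    {G : Type*} [Group G] [Finite G] (ρ : Representation F G V) (g : G) :
    (∃ x : Multiplicative V ⋊[(MulAutMultiplicative V).symm.toMonoidHom.comp
        ((DistribMulAction.toAddAut ((V →ₗ[F] V)ˣ) V).comp ρ.asGroupHom)] G,
        x.right = g ∧ orderOf x = p * orderOf g) ↔
      ¬ (minpoly F (ρ g) ∣ ∑ i ∈ Finset.range (orderOf g), (Polynomial.X : Polynomial F) ^ i) := by
  classical
  set φ := (MulAutMultiplicative V).symm.toMonoidHom.comp
      ((DistribMulAction.toAddAut ((V →ₗ[F] V)ˣ) V).comp ρ.asGroupHom) with hφ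
  have hact : ∀ (h : G) (w : V), φ h (Multiplicative.ofAdd w) = Multiplicative.ofAdd (ρ h w) :=
    fun h w => rfl
  have hpow : ∀ (v : V) (j : ℕ), ((⟨Multiplicative.ofAdd v, g⟩ : Multiplicative V ⋊[φ] G) ^ j) =
      ⟨Multiplicative.ofAdd ((∑ i ∈ Finset.range j, (ρ g) ^ i) v), g ^ j⟩ := by
    intro v j
    induction j with
    | zero => ext <;> simp
    | succ j ih =>
      rw [pow_succ', ih]
      refine SemidirectProduct.ext ?_ ?_
      · rw [SemidirectProduct.mul_left, hact]
        rw [← ofAdd_add]
        congr 1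
        rw [Finset.sum_range_succ' (fun i => (ρ g) ^ i) j]
        simp only [pow_succ', ← Finset.mul_sum, LinearMap.add_apply, pow_zero, Module.End.one_apply,
          Module.End.mul_apply]
        exact add_comm _ _
      · rw [SemidirectProduct.mul_right, pow_succ']
  have hk : 0 < orderOf g := orderOf_pos g
  set S : V →ₗ[F] V := ∑ i ∈ Finset.range (orderOf g), (ρ g) ^ i with hS
  have hmin : minpoly F (ρ g) ∣ ∑ i ∈ Finset.range (orderOf g), (Polynomial.X : Polynomial F) ^ i ↔ S = 0 := by
    rw [minpoly.dvd_iff, map_sum]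
    simp [hS]
  rw [hmin]
  constructor
  · rintro ⟨x, hx, hord⟩ h0
    have hx' : x = ⟨Multiplicative.ofAdd x.left.toAdd, g⟩ := SemidirectProduct.ext (ofAdd_toAdd _).symm hx
    have h1 : x ^ orderOf g = 1 := by
      rw [hx', hpow, ← hS, h0, pow_orderOf_eq_one]
      rfl
    have h2 := Nat.le_of_dvd hk (hord ▸ orderOf_dvd_of_pow_eq_one h1)
    have := (Fact.out : p.Prime).two_le
    nlinarith
  · intro h0
    obtain ⟨v, hv⟩ : ∃ v, S v ≠ 0 := by
      by_contra hne
      push Not at hne
      exact h0 (LinearMap.ext fun v => by simp [hne v])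
    set x : Multiplicative V ⋊[φ] G := ⟨Multiplicative.ofAdd v, g⟩ with hx
    refine ⟨x, rfl, ?_⟩
    have h1 : x ^ orderOf g = SemidirectProduct.inl (Multiplicative.ofAdd (S v)) := by
      rw [hx, hpow, pow_orderOf_eq_one, hS]
      rfl
    have hordy : orderOf (x ^ orderOf g) = p := by
      rw [h1, orderOf_injective _ SemidirectProduct.inl_injective]
      refine orderOf_eq_prime ?_ (fun h => hv (ofAdd_eq_one.1 h))
      rw [← ofAdd_nsmul, ofAdd_eq_one, ← Nat.cast_smul_eq_nsmul F, CharP.cast_eq_zero, zero_smul]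
    have hd : orderOf g ∣ orderOf x := by
      have := orderOf_map_dvd (SemidirectProduct.rightHom (φ := φ)) x
      simpa [hx] using this
    rw [orderOf_pow' _ hk.ne', Nat.gcd_eq_right hd] at hordy
    rw [← Nat.div_mul_cancel hd, hordy]

end Cfsg.Agent.S2516
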