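import Cfsg.Statements.S2517
import Cfsg.Agent.Lib.Spectrum85Main

set_option autoImplicit false
open Cfsg
open QuadraticMap Module

namespace Cfsg.Agent.S2517

/-- Let F be a finite field of odd order q, let Ω₉ be the simple orthogonal group PΩ(9, F), and let Ω₈⁻ be the commutator subgroup of the isometry group of a minus-type non-singular quadratic form on V = F⁸ (the simple group PΩ⁻(8, F), acting on its natural module V). Then Ω₉ and the semidirect product V ⋊ Ω₈⁻ have exactly the same set of element orders. -/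
theorem result {F : Type*} [Field F] [Fintype F] (hF : Odd (Fintype.card F)) (a b : F)
    (hab : ∀ z₁ z₂ : F, z₁ ^ 2 + a * z₁ * z₂ + b * z₂ ^ 2 = 0 → z₁ = 0 ∧ z₂ = 0) :
    Set.range (orderOf : Cfsg.POmega F (Cfsg.quadFormOdd 4 F) → ℕ) =
      Set.range (orderOf :
        (Multiplicative (((Fin 3 ⊕ Fin 3) ⊕ Fin 2) → F)) ⋊[
          (MulAutMultiplicative (((Fin 3 ⊕ Fin 3) ⊕ Fin 2) → F)).symm.toMonoidHom.comp
           ((DistribMulAction.toAddAut (LinearMap.GeneralLinearGroup F (((Fin 3 ⊕ Fin 3) ⊕ Fin 2) → F))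
              (((Fin 3 ⊕ Fin 3) ⊕ Fin 2) → F)).comp
            (Matrix.GeneralLinearGroup.toLin.toMonoidHom.comp
              ((Cfsg.isometryGroup F (Cfsg.quadFormMinus 3 F a b)).subtype.comp
                (Cfsg.Omega F (Cfsg.quadFormMinus 3 F a b)).subtype)))]
          ↥(Cfsg.Omega F (Cfsg.quadFormMinus 3 F a b)) → ℕ) := by
  classical
  have hodd' : Fintype.card F % 2 = 1 := Nat.odd_iff.1 hF
  have h2 : (2 : F) ≠ 0 := OmegaStd.two_ne_zero rfl hF
  let p := ringChar F
  haveI : Fact p.Prime := ⟨CharP.char_is_prime F p⟩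
  -- the two spaces
  let QO := QuadClassify.qOdd 4 F
  let QM := QuadClassify.qMinus 3 F a b
  have hO : Spectrum85Core.Nd QO := OmegaMaxGlue.nondeg_odd h2
  have hOd : finrank F (Unit ⊕ (Fin 4 ⊕ Fin 4) → F) = 9 := by simp
  have hM : Spectrum85Core.Typ QM 4 (-1) := by
    obtain ⟨N, hN⟩ := OrthTypeCount73.prof_qMinus (F := F) 3 hab
    refine ⟨by simp, OrthPrimeOrderClasses73.nd_minus 3 hab, ⟨N, ?_⟩, Or.inr rfl⟩
    rw [neg_one_mul]
    exact hN.map (Equiv.refl _) fun v => QuadClassify.qMinus_apply 3 a b v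
  haveI := Spectrum85Core.finite_space F (Unit ⊕ (Fin 4 ⊕ Fin 4) → F)
  haveI := OrthUnitaryQuad.finite_orth QO
  haveI := OrthUnitaryQuad.finite_orth QM
  let e₁ := OrthUnitaryQuad.isometryGroupEquiv QO (Cfsg.quadFormOdd 4 F)
    fun v => (QuadClassify.qOdd_apply 4 v).symm
  let e₂ := OrthUnitaryQuad.isometryGroupEquiv QM (Cfsg.quadFormMinus 3 F a b)
    fun v => (QuadClassify.qMinus_apply 3 a b v).symm
  haveI : Finite (Cfsg.isometryGroup F (Cfsg.quadFormOdd 4 F)) := Finite.of_equiv _ e₁.symm.toEquiv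
  haveI : Finite (Cfsg.isometryGroup F (Cfsg.quadFormMinus 3 F a b)) :=
    Finite.of_equiv _ e₂.symm.toEquiv
  -- `POmega` in dimension nine is `Omega`
  have hcen : Subgroup.center (Cfsg.Omega F (Cfsg.quadFormOdd 4 F)) = ⊥ := by
    have hneg : OrthUnitaryCentre.negOne QO ∉ commutator (OrthUnitaryQuad.orth QO) := by
      intro h
      have hd := congrArg Units.val ((Spectrum85Core.mem_Om_iff h2 hO _).1 h).1
      rw [Spectrum85Models.det_units, show ((OrthUnitaryCentre.negOne QO).1 :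
          (Unit ⊕ (Fin 4 ⊕ Fin 4) → F) →ₗ[F] (Unit ⊕ (Fin 4 ⊕ Fin 4) → F)) =
          (-1 : F) • LinearMap.id from LinearMap.ext fun x => (neg_one_smul F x).symm,
        LinearMap.det_smul, LinearMap.det_id, hOd, mul_one, Units.val_one] at hd
      exact h2 (by linear_combination -hd)
    have hc := OrthUnitaryCentre.card_center_commutator hO
      (e := (Pi.single (Sum.inr (Sum.inl 0)) 1 : Unit ⊕ (Fin 4 ⊕ Fin 4) → F))
      (by rw [QuadClassify.qOdd_apply]; simp [Cfsg.quadFormOdd, Pi.single_apply])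
      (by simp) (by rw [hOd]; norm_num)
    rw [if_neg (fun h => hneg h.2)] at hc
    let ec : Cfsg.Omega F (Cfsg.quadFormOdd 4 F) ≃* commutator (OrthUnitaryQuad.orth QO) :=
      (e₁.subgroupMap _).trans (MulEquiv.subgroupCongr (OrthUnitaryOmega.map_commutator_equiv e₁))
    rw [← Subgroup.card_eq_one, ← hc]
    exact Nat.card_congr (Subgroup.centerCongr ec).toEquiv
  let eP : Cfsg.POmega F (Cfsg.quadFormOdd 4 F) ≃* Cfsg.Omega F (Cfsg.quadFormOdd 4 F) :=
    (QuotientGroup.quotientMulEquivOfEq hcen).trans QuotientGroup.quotientBot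
  -- the extension
  let VM := (((Fin 3 ⊕ Fin 3) ⊕ Fin 2) → F)
  set φ := (MulAutMultiplicative VM).symm.toMonoidHom.comp
           ((DistribMulAction.toAddAut (LinearMap.GeneralLinearGroup F VM) VM).comp
            (Matrix.GeneralLinearGroup.toLin.toMonoidHom.comp
              ((Cfsg.isometryGroup F (Cfsg.quadFormMinus 3 F a b)).subtype.comp
                (Cfsg.Omega F (Cfsg.quadFormMinus 3 F a b)).subtype))) with hφ
  haveI : Finite (Multiplicative VM ⋊[φ] Cfsg.Omega F (Cfsg.quadFormMinus 3 F a b)) :=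
    Finite.of_equiv _ SemidirectProduct.equivProd.symm
  have hact : ∀ (g : Cfsg.Omega F (Cfsg.quadFormMinus 3 F a b)) (w : VM),
      φ g (Multiplicative.ofAdd w) = Multiplicative.ofAdd ((e₂ g.1).1 w) := fun g w => by
    rw [OrthUnitaryPrelude.isometryGroupEquiv_apply]
    exact congrArg Multiplicative.ofAdd (Matrix.GeneralLinearGroup.toLin_apply _ w)
  have hpow : ∀ (g : Cfsg.Omega F (Cfsg.quadFormMinus 3 F a b)) (v : VM) (j : ℕ),
      ((⟨Multiplicative.ofAdd v, g⟩ : Multiplicative VM ⋊[φ] _) ^ j) =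
        ⟨Multiplicative.ofAdd ((∑ i ∈ Finset.range j, Spectrum85Peel.lin (e₂ g.1) ^ i) v), g ^ j⟩ := by
    intro g v j
    induction j with
    | zero => ext <;> simp
    | succ j ih =>
      rw [pow_succ', ih]
      refine SemidirectProduct.ext ?_ ?_
      · rw [SemidirectProduct.mul_left, hact, ← ofAdd_add]
        congr 1
        rw [Finset.sum_range_succ' (fun i => Spectrum85Peel.lin (e₂ g.1) ^ i) j, LinearMap.add_apply,
          pow_zero, Module.End.one_apply, add_comm]
        congr 1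
        simp only [pow_succ', ← Finset.mul_sum, Module.End.mul_apply]
        rfl
      · rw [SemidirectProduct.mul_right, pow_succ']
  have hord : ∀ (g : Cfsg.Omega F (Cfsg.quadFormMinus 3 F a b)) (v : VM),
      (Spectrum85Core.orderSum (e₂ g.1) v = 0 →
        orderOf (⟨Multiplicative.ofAdd v, g⟩ : Multiplicative VM ⋊[φ] _) = orderOf (e₂ g.1)) ∧
      (Spectrum85Core.orderSum (e₂ g.1) v ≠ 0 →
        orderOf (⟨Multiplicative.ofAdd v, g⟩ : Multiplicative VM ⋊[φ] _) = p * orderOf (e₂ g.1)) := by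
    intro g v
    have hog : orderOf g = orderOf (e₂ g.1) := by rw [e₂.orderOf_eq, Subgroup.orderOf_coe]
    set x : Multiplicative VM ⋊[φ] _ := ⟨Multiplicative.ofAdd v, g⟩ with hx
    have hd : orderOf g ∣ orderOf x := by
      simpa [hx] using orderOf_map_dvd (SemidirectProduct.rightHom (φ := φ)) x
    have h1 : x ^ orderOf g =
        SemidirectProduct.inl (Multiplicative.ofAdd (Spectrum85Core.orderSum (e₂ g.1) v)) := by
      rw [hx, hpow, pow_orderOf_eq_one, Spectrum85Core.orderSum, ← hog]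
      rfl
    refine ⟨fun h0 => ?_, fun h0 => ?_⟩
    · rw [← hog]
      refine Nat.dvd_antisymm (orderOf_dvd_of_pow_eq_one ?_) hd
      rw [h1, h0]; rfl
    · have hk : 0 < orderOf g := orderOf_pos g
      have hordy : orderOf (x ^ orderOf g) = p := by
        rw [h1, orderOf_injective _ SemidirectProduct.inl_injective]
        refine orderOf_eq_prime ?_ (fun h => h0 (ofAdd_eq_one.1 h))
        rw [← ofAdd_nsmul, ofAdd_eq_one, ← Nat.cast_smul_eq_nsmul F, CharP.cast_eq_zero, zero_smul]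
      rw [orderOf_pow' _ hk.ne', Nat.gcd_eq_right hd] at hordy
      rw [← hog, ← Nat.div_mul_cancel hd, hordy]
  apply Set.Subset.antisymm
  · rintro _ ⟨y, rfl⟩
    set g := eP y with hg
    have hmem : e₁ g.1 ∈ commutator (OrthUnitaryQuad.orth QO) :=
      (OrthUnitaryOmega.mem_commutator_iff e₁ g.1).1 g.2
    have hy : orderOf (e₁ g.1) = orderOf y := by
      rw [e₁.orderOf_eq, Subgroup.orderOf_coe, hg, eP.orderOf_eq]
    obtain ⟨g', hg', hn⟩ := Spectrum85Main.nine_to_ext (p := p) h2 hM hO hOd hmem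
    rw [hy] at hn
    set G : Cfsg.Omega F (Cfsg.quadFormMinus 3 F a b) :=
      ⟨e₂.symm g', (OrthUnitaryOmega.mem_commutator_iff e₂ _).2 (by rwa [e₂.apply_symm_apply])⟩
    have hG : e₂ G.1 = g' := e₂.apply_symm_apply g'
    suffices h : ∃ x : Multiplicative VM ⋊[φ] Cfsg.Omega F (Cfsg.quadFormMinus 3 F a b),
        orderOf y ∣ orderOf x by
      obtain ⟨x, hx⟩ := h
      exact ⟨x ^ (orderOf x / orderOf y), orderOf_pow_orderOf_div (orderOf_pos x).ne' hx⟩
    rcases hn with hn | ⟨hn, v, hv⟩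
    · refine ⟨⟨Multiplicative.ofAdd 0, G⟩, ?_⟩
      rw [(hord G 0).1 (map_zero _), hG]
      exact hn
    · refine ⟨⟨Multiplicative.ofAdd v, G⟩, ?_⟩
      rw [(hord G v).2 (by rwa [hG]), hG]
      exact hn
  · rintro _ ⟨x, rfl⟩
    obtain ⟨v, g⟩ := x
    have hmem : e₂ g.1 ∈ commutator (OrthUnitaryQuad.orth QM) :=
      (OrthUnitaryOmega.mem_commutator_iff e₂ g.1).1 g.2
    have hv : v = Multiplicative.ofAdd v.toAdd := rfl
    rw [hv]
    set n := orderOf (⟨Multiplicative.ofAdd v.toAdd, g⟩ :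
      Multiplicative VM ⋊[φ] Cfsg.Omega F (Cfsg.quadFormMinus 3 F a b)) with hn
    have hcases : n = orderOf (e₂ g.1) ∨
        n = p * orderOf (e₂ g.1) ∧ ∃ w, Spectrum85Core.orderSum (e₂ g.1) w ≠ 0 := by
      by_cases h0 : Spectrum85Core.orderSum (e₂ g.1) v.toAdd = 0
      · exact Or.inl ((hord g _).1 h0)
      · exact Or.inr ⟨(hord g _).2 h0, _, h0⟩
    obtain ⟨z, hz, hdvd⟩ := Spectrum85Main.ext_to_nine (p := p) h2 hM hO hOd hmem hcases
    let Z : Cfsg.Omega F (Cfsg.quadFormOdd 4 F) :=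
      ⟨e₁.symm z, (OrthUnitaryOmega.mem_commutator_iff e₁ _).2 (by rwa [e₁.apply_symm_apply])⟩
    have hZ : n ∣ orderOf Z := by
      rwa [← Subgroup.orderOf_coe Z, e₁.symm.orderOf_eq]
    refine ⟨eP.symm (Z ^ (orderOf Z / n)), ?_⟩
    rw [eP.symm.orderOf_eq]
    exact orderOf_pow_orderOf_div (orderOf_pos Z).ne' hZ

end Cfsg.Agent.S2517
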