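import Cfsg.Statements.S2519
import Cfsg.Agent.Lib.G2OddOrders68

set_option autoImplicit false
open Cfsg

namespace Cfsg.Agent.S2519

open Cfsg.Lie

theorem arith {p q : ℕ} (hp : p.Prime) (hp2 : p ≠ 2) (hpq : p ∣ q) (hqodd : Odd q) (hq5 : 5 ≤ q) :
    ∀ N ∈ G2OddFrobenius68.bounds p q, ∀ M ∈ G2OddFrobenius68.bounds p q, N ∣ M → N = M := by
  have hp3 : 3 ≤ p := by have := hp.two_le; omega
  have hpodd : Odd p := hp.odd_of_ne_two hp2
  set A := q ^ 2 with hA
  have hAq : 5 * q ≤ A := by rw [hA, sq]; exact Nat.mul_le_mul_right _ hq5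
  have hpA : p ∣ A := dvd_pow hpq two_ne_zero
  have hAodd : Odd A := hqodd.pow
  obtain ⟨a, ha⟩ := hqodd
  obtain ⟨b, hb⟩ := hAodd
  have notdvd : ∀ x : ℕ, (x + 1) % p = 0 ∨ (1 < x ∧ (x - 1) % p = 0) → ¬ p ∣ x := by
    intro x hx h
    rcases hx with hx | ⟨hx1, hx⟩
    · have := (Nat.dvd_add_right h).1 (Nat.dvd_of_mod_eq_zero hx)
      exact hp.ne_one (Nat.dvd_one.1 this)
    · have h' := Nat.dvd_sub h (Nat.dvd_of_mod_eq_zero hx)
      rw [Nat.sub_sub_self (by omega)] at h'
      exact hp.ne_one (Nat.dvd_one.1 h')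
  have m : ∀ x, p ∣ x → x % p = 0 := fun x hx => Nat.mod_eq_zero_of_dvd hx
  have n1 : ¬ p ∣ q + 1 := notdvd _ (Or.inr ⟨by omega, by rw [Nat.add_sub_cancel]; exact m _ hpq⟩)
  have n2 : ¬ p ∣ q - 1 := notdvd _ (Or.inl (by rw [Nat.sub_add_cancel (by omega)]; exact m _ hpq))
  have n3 : ¬ p ∣ A - 1 := notdvd _ (Or.inl (by rw [Nat.sub_add_cancel (by omega)]; exact m _ hpA))
  have n4 : ¬ p ∣ A + q + 1 :=
    notdvd _ (Or.inr ⟨by omega, by rw [Nat.add_sub_cancel]; exact m _ (dvd_add hpA hpq)⟩)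
  have n5 : ¬ p ∣ A - q + 1 :=
    notdvd _ (Or.inr ⟨by omega, by rw [Nat.add_sub_cancel]; exact m _ (Nat.dvd_sub hpA hpq)⟩)
  -- a divisor coprime to p
  have cop : ∀ {N x : ℕ}, ¬ p ∣ N → N ∣ p * x → N ∣ x := fun hN h =>
    (((hp.coprime_iff_not_dvd).2 hN).symm).dvd_of_dvd_mul_left h
  have small : ∀ {N x : ℕ}, N ∣ x → 0 < x → x < N → False := fun h h0 hlt =>
    absurd (Nat.le_of_dvd h0 h) (by omega)
  have half : ∀ {N x : ℕ}, N ∣ x → 0 < x → x < 2 * N → N = x := by
    rintro N x ⟨k, rfl⟩ h0 hlt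
    have : k = 1 := by
      rcases Nat.lt_or_ge k 2 with h | h
      · interval_cases k
        · simp at h0
        · rfl
      · exact absurd hlt (by rw [mul_comm 2 N]; exact not_lt.2 (Nat.mul_le_mul_left N h))
    rw [this, mul_one]
  have even : ∀ {N x : ℕ}, N ∣ x → 2 ∣ N → x % 2 = 1 → False := fun h h2 hx => by
    have := h2.trans h; omega
  have hsq : (p ^ 2) % 2 = 1 := Nat.odd_iff.1 hpodd.pow
  have e1 : 2 ∣ p * (q + 1) := dvd_mul_of_dvd_right (by omega) _
  have e2 : 2 ∣ p * (q - 1) := dvd_mul_of_dvd_right (by omega) _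
  have e3 : 2 ∣ A - 1 := by omega
  intro N hN M hM h
  simp only [G2OddFrobenius68.bounds, Finset.mem_union, Finset.mem_insert, Finset.mem_singleton, ← hA] at hN hM
  have pN : ∀ {x y : ℕ}, p * x ∣ p * y → x ∣ y := fun h => Nat.dvd_of_mul_dvd_mul_left hp.pos h
  have pd : ∀ {x y : ℕ}, p * x ∣ y → p ∣ y := fun h => (dvd_mul_right _ _).trans h
  have sq' : p ^ 2 = p * p := sq p
  have inp : ∀ {N : ℕ}, ¬ p ∣ N → N ∣ p ^ 2 → 1 < N → False := fun hN h h1 => by
    rw [sq'] at h
    exact small (cop (x := 1) hN (by simpa using cop hN h)) one_pos h1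
  rcases hN with (rfl | rfl | rfl | rfl | rfl) | hN
  all_goals rcases hM with (rfl | rfl | rfl | rfl | rfl) | hM
  all_goals try rfl
  all_goals try (split_ifs at hN with hN35; rw [Finset.mem_singleton] at hN; subst hN)
  all_goals try (split_ifs at hM with hM35; rw [Finset.mem_singleton] at hM; subst hM)
  all_goals try rfl
  all_goals try simp at hN
  all_goals try simp at hM
  all_goals try exact (even h e1 (by omega)).elim
  all_goals try exact (even h e2 (by omega)).elim
  all_goals try exact (even h e3 (by omega)).elim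
  all_goals try exact (n3 (pd h)).elim
  all_goals try exact (n4 (pd h)).elim
  all_goals try exact (n5 (pd h)).elim
  all_goals try exact (n3 ((dvd_pow_self p two_ne_zero).trans h)).elim
  all_goals try exact (n4 ((dvd_pow_self p two_ne_zero).trans h)).elim
  all_goals try exact (n5 ((dvd_pow_self p two_ne_zero).trans h)).elim
  all_goals try exact (n1 (pN (sq' ▸ h))).elim
  all_goals try exact (n2 (pN (sq' ▸ h))).elim
  all_goals try exact (inp n3 h (by omega)).elim
  all_goals try exact (inp n4 h (by omega)).elim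
  all_goals try exact (inp n5 h (by omega)).elim
  all_goals try exact (small (cop n3 h) (by omega) (by omega)).elim
  all_goals try exact (small (cop n4 h) (by omega) (by omega)).elim
  all_goals try exact (small (cop n5 h) (by omega) (by omega)).elim
  all_goals try exact (small (pN h) (by omega) (by omega)).elim
  all_goals try exact (small h (by omega) (by omega)).elim
  all_goals try exact half h (by omega) (by omega)
  · exfalso
    have h' := Nat.dvd_sub (pN h) (dvd_refl _)
    have h2 : q - 1 ∣ q + 1 := pN h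
    have := Nat.dvd_sub h2 (dvd_refl (q - 1))
    exact small this (by omega) (by omega)

/-- Let F be a finite field of odd order q = p^a ≥ 5. The element orders of the Chevalley group G₂(F) that are maximal under divisibility are exactly p(q + 1), p(q − 1), q² − 1, q² + q + 1, q² − q + 1, together with p² when p is 3 or 5. -/
theorem result {F : Type*} [Field F] [Fintype F] (p a : ℕ) (hp : p.Prime) (hp2 : p ≠ 2) (ha : 1 ≤ a) (hF : Fintype.card F = p ^ a) (hq5 : 5 ≤ Fintype.card F) :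
    {n : ℕ | n ∈ Set.range (orderOf : ↥(Cfsg.Lie.chevG2.group F) → ℕ) ∧ ∀ m ∈ Set.range (orderOf : ↥(Cfsg.Lie.chevG2.group F) → ℕ), n ∣ m → m = n} =
      ({p * (p ^ a + 1), p * (p ^ a - 1), p ^ (2 * a) - 1, p ^ (2 * a) + p ^ a + 1, p ^ (2 * a) - p ^ a + 1} : Set ℕ) ∪
        (if p = 3 ∨ p = 5 then ({p ^ 2} : Set ℕ) else ∅) := by
  classical
  have : Fact p.Prime := ⟨hp⟩
  have : CharP F p := charP_of_card_eq_prime_pow (f := a) (by simp [hF])
  have hpq : p ∣ Fintype.card F := hF ▸ dvd_pow_self p (by omega)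
  have hqodd : Odd (Fintype.card F) := hF ▸ (hp.odd_of_ne_two hp2).pow
  have hsq : p ^ (2 * a) = Fintype.card F ^ 2 := by rw [hF, ← pow_mul, mul_comm]
  have hle : Fintype.card F ≤ Fintype.card F ^ 2 := Nat.le_self_pow two_ne_zero _
  have key : ∀ N ∈ G2OddFrobenius68.bounds p (Fintype.card F),
      N ∈ Set.range (orderOf : ↥(Cfsg.Lie.chevG2.group F) → ℕ) := by
    intro N hN
    have lift : (∃ g ∈ chevG2.group F, orderOf g = N) →
        N ∈ Set.range (orderOf : ↥(Cfsg.Lie.chevG2.group F) → ℕ) := by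
      rintro ⟨g, hg, rfl⟩
      exact ⟨⟨g, hg⟩, (Subgroup.orderOf_coe _).symm⟩
    apply lift
    obtain ⟨h1, h2, h3⟩ := G2OddOrders68.order_products (F := F) p
    simp only [G2OddFrobenius68.bounds, Finset.mem_union, Finset.mem_insert, Finset.mem_singleton] at hN
    rcases hN with (rfl | rfl | rfl | rfl | rfl) | hN
    · exact h1
    · exact h2
    · exact h3
    · exact G2OddOrders68.order_cyclotomic p hp2 _ _ 3 rfl (by omega) 1 (Or.inl ⟨rfl, rfl⟩) (by push_cast; ring)
    · exact G2OddOrders68.order_cyclotomic p hp2 _ _ 6 rfl (by omega) (-1) (Or.inr ⟨rfl, rfl⟩) (by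
        rw [Nat.cast_add, Nat.cast_sub hle]; push_cast; ring)
    · split_ifs at hN with h
      · rw [Finset.mem_singleton] at hN
        subst hN
        exact G2OddOrders68.order_sq p h
      · simp at hN
  have hset : ({p * (p ^ a + 1), p * (p ^ a - 1), p ^ (2 * a) - 1, p ^ (2 * a) + p ^ a + 1,
      p ^ (2 * a) - p ^ a + 1} : Set ℕ) ∪ (if p = 3 ∨ p = 5 then ({p ^ 2} : Set ℕ) else ∅) =
      ↑(G2OddFrobenius68.bounds p (Fintype.card F)) := by
    rw [G2OddFrobenius68.bounds, hsq, ← hF, Finset.coe_union]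
    congr 1
    · simp
    · split <;> simp
  rw [hset]
  ext n
  simp only [Set.mem_setOf_eq, Finset.mem_coe]
  constructor
  · rintro ⟨⟨x, rfl⟩, hmax⟩
    obtain ⟨N, hN, hdvd⟩ := G2OddFrobenius68.exists_bound p hp2 x
    have h := hmax N (key N hN) hdvd
    rwa [h] at hN
  · intro hn
    refine ⟨key n hn, ?_⟩
    rintro _ ⟨x, rfl⟩ hdvd
    obtain ⟨N, hN, hxN⟩ := G2OddFrobenius68.exists_bound p hp2 x
    have := arith hp hp2 hpq hqodd hq5 n hn N hN (hdvd.trans hxN)
    exact Nat.dvd_antisymm (this ▸ hxN) hdvd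

end Cfsg.Agent.S2519
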