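import Cfsg.Statements.S2520
import Cfsg.Agent.Lib.G2EvenFrobenius68
import Cfsg.Agent.Lib.G2EvenOrders68

set_option autoImplicit false
open Cfsg

namespace Cfsg.Agent.S2520

open Cfsg.Lie Cfsg.Agent.G2EvenOrders68

/-- Let F be a finite field with q = 2^a ≥ 4 elements and G₂(F) the Chevalley group of type G₂ over it. Every element order of G₂(F) maximal under divisibility lies in the set {8, 12, 2(q + 1), 2(q − 1), q² − 1, q² + q + 1, q² − q + 1}, and every member of that set is an element order of G₂(F). -/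
theorem result {F : Type*} [Field F] [Fintype F] (a : ℕ) (ha : 2 ≤ a) (hF : Fintype.card F = 2 ^ a) :
    {n : ℕ | n ∈ Set.range (orderOf : ↥(Cfsg.Lie.chevG2.group F) → ℕ) ∧ ∀ m ∈ Set.range (orderOf : ↥(Cfsg.Lie.chevG2.group F) → ℕ), n ∣ m → m = n} ⊆ ({8, 12, 2 * (2 ^ a + 1), 2 * (2 ^ a - 1), 2 ^ (2 * a) - 1, 2 ^ (2 * a) + 2 ^ a + 1, 2 ^ (2 * a) - 2 ^ a + 1} : Set ℕ) ∧
    ({8, 12, 2 * (2 ^ a + 1), 2 * (2 ^ a - 1), 2 ^ (2 * a) - 1, 2 ^ (2 * a) + 2 ^ a + 1, 2 ^ (2 * a) - 2 ^ a + 1} : Set ℕ) ⊆ Set.range (orderOf : ↥(Cfsg.Lie.chevG2.group F) → ℕ) := by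
  haveI : Fact (Nat.Prime 2) := ⟨Nat.prime_two⟩
  haveI : CharP F 2 := charP_of_card_eq_prime_pow (f := a) (by simp [hF])
  have hp : (2 ^ a) ^ 2 = 2 ^ (2 * a) := by rw [← pow_mul, mul_comm]
  have h4 : 4 ≤ Fintype.card F := by
    rw [hF]; exact le_trans (by norm_num) (Nat.pow_le_pow_right two_pos ha)
  have hle : Fintype.card F ≤ Fintype.card F ^ 2 := Nat.le_self_pow two_ne_zero _
  have key : ∀ N ∈ G2EvenFrobenius68.bounds (Fintype.card F),
      N ∈ Set.range (orderOf : ↥(Cfsg.Lie.chevG2.group F) → ℕ) := by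
    intro N hN
    have lift : (∃ g ∈ chevG2.group F, orderOf g = N) →
        N ∈ Set.range (orderOf : ↥(Cfsg.Lie.chevG2.group F) → ℕ) := by
      rintro ⟨g, hg, rfl⟩
      exact ⟨⟨g, hg⟩, (Subgroup.orderOf_coe _).symm⟩
    apply lift
    obtain ⟨h1, h2, h3⟩ := order_products (F := F)
    simp only [G2EvenFrobenius68.bounds, Finset.mem_insert, Finset.mem_singleton] at hN
    rcases hN with rfl | rfl | rfl | rfl | rfl | rfl | rfl
    · exact order_eight
    · exact order_twelve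
    · exact h1
    · exact h2
    · exact h3
    · exact order_cyclotomic _ _ 3 rfl h4 1 (Or.inl ⟨rfl, rfl⟩) (by push_cast; ring)
    · exact order_cyclotomic _ _ 6 rfl h4 (-1) (Or.inr ⟨rfl, rfl⟩) (by
        rw [Nat.cast_add, Nat.cast_sub hle]; push_cast; ring)
  constructor
  · rintro n ⟨⟨x, rfl⟩, hmax⟩
    obtain ⟨N, hN, hdvd⟩ := G2EvenFrobenius68.exists_bound x
    have h := hmax N (key N hN) hdvd
    rw [h] at hN
    simpa only [G2EvenFrobenius68.bounds, Finset.mem_insert, Finset.mem_singleton,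
      Set.mem_insert_iff, Set.mem_singleton_iff, hF, hp] using hN
  · intro N hN
    refine key N ?_
    simpa only [G2EvenFrobenius68.bounds, Finset.mem_insert, Finset.mem_singleton,
      Set.mem_insert_iff, Set.mem_singleton_iff, hF, hp] using hN

end Cfsg.Agent.S2520
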