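import Cfsg.Statements.S2522
import Cfsg.Agent.Lib.FrobeniusTwoJordan
-- import your own Cfsg.Agent.* helpers here

set_option autoImplicit false
open Cfsg

namespace Cfsg.Agent.S2522

/-- Let K be a field with at least four elements (finite or infinite), n ≥ 3, and J ∈ GL(n, K) the regular unipotent matrix (ones on the diagonal and the superdiagonal, zeros elsewhere). Then every non-scalar g ∈ GL(n, K) with det g = 1 is a product of two GL(n, K)-conjugates of J. -/
theorem result {K : Type*} [Field K] (hK : 4 ≤ Cardinal.mk K) (n : ℕ) (hn : 3 ≤ n) (J g : GL (Fin n) K)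
    (hJ : ∀ i j : Fin n, (J : Matrix (Fin n) (Fin n) K) i j = if i = j then 1 else if j.val = i.val + 1 then 1 else 0)
    (hg : ¬ ∃ c : K, (g : Matrix (Fin n) (Fin n) K) = c • (1 : Matrix (Fin n) (Fin n) K))
    (hdet : (g : Matrix (Fin n) (Fin n) K).det = 1) :
    ∃ x y : GL (Fin n) K, g = (x * J * x⁻¹) * (y * J * y⁻¹) := by
  obtain ⟨m, rfl⟩ : ∃ m, n = m + 1 := ⟨n - 1, by omega⟩
  have h4 := FrobeniusTwoJordan.four_of_le hK
  -- a regular triangular matrix conjugated by `P` is a conjugate of `J` in the general linear group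
  have conv : ∀ P P' C A : Matrix (Fin (m + 1)) (Fin (m + 1)) K, P' * P = 1 → IsUnit C.det →
      A * C = C * (J : Matrix (Fin (m + 1)) (Fin (m + 1)) K) →
      ∃ x : GL (Fin (m + 1)) K, ((x * J * x⁻¹ : GL (Fin (m + 1)) K) :
        Matrix (Fin (m + 1)) (Fin (m + 1)) K) = P * A * P' := by
    intro P P' C A hP hC hA
    have hP' : P * P' = 1 := mul_eq_one_comm.1 hP
    refine ⟨⟨P * C, C⁻¹ * P', ?_, ?_⟩, ?_⟩
    · rw [mul_assoc, ← mul_assoc C, Matrix.mul_nonsing_inv C hC, one_mul, hP']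
    · rw [mul_assoc, ← mul_assoc P', hP, one_mul, Matrix.nonsing_inv_mul C hC]
    · rw [Units.val_mul, Units.val_mul, Units.inv_mk]
      show P * C * (J : Matrix (Fin (m + 1)) (Fin (m + 1)) K) * (C⁻¹ * P') = P * A * P'
      rw [mul_assoc P C, ← hA, mul_assoc P (A * C), mul_assoc A C, ← mul_assoc C,
        Matrix.mul_nonsing_inv C hC, one_mul, mul_assoc P A]
  suffices h : ∃ Q R A B C D : Matrix (Fin (m + 1)) (Fin (m + 1)) K, Q * R = 1 ∧
      IsUnit C.det ∧ A * C = C * (J : Matrix (Fin (m + 1)) (Fin (m + 1)) K) ∧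
      IsUnit D.det ∧ B * D = D * (J : Matrix (Fin (m + 1)) (Fin (m + 1)) K) ∧
      Q * (g : Matrix (Fin (m + 1)) (Fin (m + 1)) K) * R = A * B by
    obtain ⟨Q, R, A, B, C, D, hQR, hC, hA, hD, hB, hg'⟩ := h
    have hRQ : R * Q = 1 := mul_eq_one_comm.1 hQR
    obtain ⟨x, hx⟩ := conv R Q C A hQR hC hA
    obtain ⟨y, hy⟩ := conv R Q D B hQR hD hB
    refine ⟨x, y, Units.ext ?_⟩
    rw [Units.val_mul, hx, hy]
    have e : R * A * Q * (R * B * Q) = R * (A * B) * Q := by
      simp only [mul_assoc]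
      rw [← mul_assoc Q R, hQR, one_mul]
    rw [e, ← hg']
    simp only [← mul_assoc]
    rw [hRQ, one_mul, mul_assoc, hRQ, mul_one]
  have hdet' : (1 + ((g : Matrix (Fin (m + 1)) (Fin (m + 1)) K) - 1)).det = 1 := by
    rw [add_sub_cancel]; exact hdet
  by_cases hrank : ∃ p q : Fin (m + 1) → K,
      (g : Matrix (Fin (m + 1)) (Fin (m + 1)) K) - 1 = Matrix.vecMulVec p q
  · obtain ⟨p, q, hpq⟩ := hrank
    have hgpq : (g : Matrix (Fin (m + 1)) (Fin (m + 1)) K) = 1 + Matrix.vecMulVec p q := by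
      rw [← hpq, add_sub_cancel]
    have hp : p ≠ 0 := by
      rintro rfl
      exact hg ⟨1, by rw [hgpq]; ext i j; simp [Matrix.vecMulVec_apply]⟩
    have h0 : dotProduct q p = 0 := by
      have h := hdet
      rw [hgpq, FrobeniusTwoJordan.det_one_add_vecMulVec'] at h
      simpa using h
    obtain ⟨Q, R, A, B, hQR, hA, hB, h⟩ :=
      FrobeniusTwoJordan.exists_two_upper h4 (m := m) (by omega) hp h0
    obtain ⟨C, hC, hAC⟩ := FrobeniusTwoJordan.exists_conj_jordan hA hJ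
    obtain ⟨D, hD, hBD⟩ := FrobeniusTwoJordan.exists_conj_jordan hB hJ
    exact ⟨Q, R, A, B, C, D, hQR, hC, hAC, hD, hBD, by rw [hgpq]; exact h⟩
  · have hgood : FrobeniusTwoJordan.Good ((g : Matrix (Fin (m + 1)) (Fin (m + 1)) K) - 1) := by
      refine ⟨fun k hk => hg ⟨k + 1, ?_⟩, fun p q hpq => hrank ⟨p, q, hpq⟩⟩
      rw [add_smul, one_smul, ← hk, sub_add_cancel]
    have he : (fun _ => 1 : Fin (m + 1) → K) ≠ 0 := fun h => one_ne_zero (congrFun h 0)
    obtain ⟨Q, R, L, U, hQR, hL, hU, h, -, -⟩ :=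
      FrobeniusTwoJordan.exists_lu h4 m _ hdet' (fun _ => hgood) _ _ he he
    obtain ⟨C, hC, hLC⟩ := FrobeniusTwoJordan.exists_conj_jordan' hL hJ
    obtain ⟨D, hD, hUD⟩ := FrobeniusTwoJordan.exists_conj_jordan hU hJ
    refine ⟨Q, R, L, U, C, D, hQR, hC, hLC, hD, hUD, ?_⟩
    rw [← h, add_sub_cancel]

end Cfsg.Agent.S2522
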