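import Cfsg.Statements.S2524
import Cfsg.Agent.Lib.SpGap32Weil

set_option autoImplicit false
open Cfsg

namespace Cfsg.Agent.S2524

open Matrix Cfsg.Agent.SpOddMinDegree50 Cfsg.Agent.SpGap32Spec Cfsg.Agent.SpGap32Orbit
  Cfsg.Agent.SpGap32Elements Cfsg.Agent.SpGap32Model Cfsg.Agent.SpGap32Coef
  Cfsg.Agent.SpGap32Weil

variable {F : Type*} [Field F] [Fintype F] {k : ℕ}

/-- `f` is a small character of class `c` and central sign `ε`. -/
def Lab (ψ : AddChar F ℂ) (c : F) (ε : ℂ) (f : symplecticGroup (Fin (k + 1)) F → ℂ) : Prop :=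
  ∃ (m : ℕ) (σ : Representation ℂ (symplecticGroup (Fin (k + 1)) F) (Fin m → ℂ)),
    σ.IsIrreducible ∧ Cls ψ ε σ ∧ proj ψ c σ e0 ≠ 0 ∧ σ.character = f

theorem Lab.unique (hk : 1 ≤ k) (h2 : (2 : F) ≠ 0) {ψ : AddChar F ℂ} {t c : F} (hψ : ψ t ≠ 1)
    (hc : c ≠ 0) {ε : ℂ} {f f' : symplecticGroup (Fin (k + 1)) F → ℂ}
    (h : Lab ψ c ε f) (h' : Lab ψ c ε f') : f = f' := by
  obtain ⟨m, σ, hi, hcls, hp, rfl⟩ := h
  obtain ⟨m', σ', hi', hcls', hp', rfl⟩ := h'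
  exact char_eq hk h2 hψ hc σ σ' hcls hcls' hp hp'

theorem negOne_central (g : symplecticGroup (Fin (k + 1)) F) : g * negOne = negOne * g := by
  have e : (negOne : symplecticGroup (Fin (k + 1)) F).1 =
      -(1 : Matrix (Fin (k + 1) ⊕ Fin (k + 1)) (Fin (k + 1) ⊕ Fin (k + 1)) F) := by
    rw [negOne, lv_coe, ← Matrix.fromBlocks_one, Matrix.fromBlocks_neg]
    simp
  exact Subtype.ext (by
    rw [Submonoid.coe_mul, Submonoid.coe_mul, e, Matrix.mul_neg, Matrix.mul_one, Matrix.neg_mul,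
      Matrix.one_mul])

theorem exists_sign_cls {ψ : AddChar F ℂ} {m : ℕ}
    (σ : Representation ℂ (symplecticGroup (Fin (k + 1)) F) (Fin m → ℂ)) [σ.IsIrreducible]
    (hlow : LowRank ψ σ) : ∃ ε : ℂ, (ε = 1 ∨ ε = -1) ∧ Cls ψ ε σ := by
  obtain ⟨a, ha, -⟩ := CharBasic.exists_scalar_of_commute σ (σ negOne) fun g v => by
    rw [← Module.End.mul_apply, ← map_mul, ← negOne_central g, map_mul, Module.End.mul_apply]
  have ha' : σ negOne = a • (1 : Module.End ℂ (Fin m → ℂ)) := ha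
  refine ⟨a, ?_, hlow, ha'⟩
  have hsq : σ negOne * σ negOne = 1 := by
    rw [← map_mul, negOne, ← map_mul, neg_mul_neg, one_mul, map_one, map_one]
  rw [ha', smul_mul_smul_comm, one_mul] at hsq
  haveI := CharBasic.nontrivial_of_irreducible σ
  obtain ⟨v, hv⟩ := exists_ne (0 : Fin m → ℂ)
  have := LinearMap.congr_fun hsq v
  simp only [LinearMap.smul_apply, Module.End.one_apply] at this
  exact mul_self_eq_one_iff.mp (smul_left_injective ℂ hv (this.trans (one_smul ℂ v).symm))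

theorem exists_class (hodd : Odd (Fintype.card F)) (hn : 2 ≤ k + 1) {ψ : AddChar F ℂ} {t : F}
    (hψ : ψ t ≠ 1) {ν : F} (hν : ¬ IsSquare ν) {m : ℕ}
    (σ : Representation ℂ (symplecticGroup (Fin (k + 1)) F) (Fin m → ℂ))
    (hlow : LowRank ψ σ) (hne : σ ≠ 1) :
    ∃ c, (c = 1 ∨ c = ν) ∧ proj ψ c σ e0 ≠ 0 := by
  classical
  obtain ⟨S, hS, hp⟩ : ∃ S, S ≠ 0 ∧ pr ψ σ S ≠ 0 := by
    by_contra hc
    push Not at hc
    exact hne (eq_one_of_pr_zero σ hodd hn hψ hc)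
  obtain ⟨a, w, hw⟩ := hlow S hp
  have ha : a ≠ 0 := fun e => hS (Subtype.ext (by rw [hw, e, zero_smul]; rfl))
  have hw0 : w ≠ 0 := fun e => hS (Subtype.ext (by rw [hw, e]; ext i j; simp [vecMulVec_apply]))
  have hν0 : ν ≠ 0 := fun e => hν (e ▸ IsSquare.zero)
  obtain ⟨c, hc, r, hr⟩ : ∃ c, (c = 1 ∨ c = ν) ∧ ∃ r, a = c * (r * r) := by
    by_cases h : IsSquare a
    · obtain ⟨r, hr⟩ := h
      exact ⟨1, Or.inl rfl, r, by rw [hr, one_mul]⟩
    · have : IsSquare (a / ν) := by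
        have h1 := (quadraticChar_neg_one_iff_not_isSquare (F := F)).mpr h
        have h2 := (quadraticChar_neg_one_iff_not_isSquare (F := F)).mpr hν
        refine (quadraticChar_one_iff_isSquare (div_ne_zero ha hν0)).mp ?_
        have hdiv : quadraticChar F (a / ν) * quadraticChar F ν = quadraticChar F a := by
          rw [← map_mul, div_mul_cancel₀ _ hν0]
        rw [h1, h2] at hdiv
        linarith
      obtain ⟨r, hr⟩ := this
      exact ⟨ν, Or.inr rfl, r, by rw [← hr]; field_simp⟩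
  refine ⟨c, hc, fun h0 => hp ?_⟩
  have hr0 : r ≠ 0 := fun e => ha (by rw [hr, e]; ring)
  have hu : r • w ≠ 0 := smul_ne_zero hr0 hw0
  obtain ⟨f, hf⟩ := exists_dot_eq_one hu
  obtain ⟨A, hA, hAe, -⟩ := exists_unit_pair (u := f) (v := r • w)
    (e := (e0 : Fin (k + 1) → F)) (w := (e0 : Fin (k + 1) → F))
    (fun e => by simp [e] at hf) hu (by simp [e0]) (by simp [e0])
    (by rw [dotProduct_comm, hf]; simp [e0])
  have e : S = symOf c (r • w) := Subtype.ext (by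
    rw [hw, hr]
    ext i j
    simp [symOf, vecMulVec_apply]
    ring)
  have h1 := lv_mul_proj (ψ := ψ) (c := c) σ hA.unit e0
  rw [h0, mul_zero] at h1
  rw [e]
  have h2 : proj ψ c σ (r • w) * σ (lv hA.unit) = 0 := by
    rw [show r • w = (hA.unit : GL (Fin (k + 1)) F).1 *ᵥ e0 from hAe.symm]; exact h1.symm
  exact ((Group.isUnit (lv hA.unit)).map σ).mul_left_eq_zero.mp h2

theorem eq_zero_of_character {ψ : AddChar F ℂ} {c : F} {m m' : ℕ}
    (σ : Representation ℂ (symplecticGroup (Fin (k + 1)) F) (Fin m → ℂ))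
    (σ' : Representation ℂ (symplecticGroup (Fin (k + 1)) F) (Fin m' → ℂ))
    (h : σ.character = σ'.character) (h0 : proj ψ c σ e0 = 0) : proj ψ c σ' e0 = 0 := by
  classical
  have htr : ∀ {d : ℕ} (τ : Representation ℂ (symplecticGroup (Fin (k + 1)) F) (Fin d → ℂ)),
      LinearMap.trace ℂ _ (proj ψ c τ e0) = (Fintype.card (symM F (k + 1)) : ℂ)⁻¹ *
        ∑ B : symM F (k + 1), ψ (-Matrix.trace ((symOf c (e0 : Fin (k + 1) → F)).1 * B.1)) *
          τ.character (siegel B) := by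
    intro d τ
    simp only [proj, pr, map_smul, map_sum, smul_eq_mul]
    rfl
  have hproj : LinearMap.IsProj (LinearMap.range (proj ψ c σ' e0)) (proj ψ c σ' e0) :=
    ⟨fun v => LinearMap.mem_range_self _ v, fun v hv => by
      obtain ⟨w, rfl⟩ := hv
      rw [← Module.End.mul_apply, proj_e0_sq]⟩
  have h1 := htr σ'
  rw [← h, ← htr σ, h0, map_zero, hproj.trace] at h1
  exact LinearMap.range_eq_bot.mp (Submodule.finrank_eq_zero.mp (by exact_mod_cast h1))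

theorem dim_eq_one_of_trivial {G : Type*} [Group G] {m : ℕ}
    (σ : Representation ℂ G (Fin m → ℂ)) [σ.IsIrreducible] (h : σ = 1) : m = 1 := by
  have h0 := CharBasic.finrank_pos_of_irreducible σ
  rw [Module.finrank_fin_fun] at h0
  by_contra hm
  let W : Subrepresentation σ :=
    ⟨Submodule.span ℂ {Pi.single ⟨0, h0⟩ 1}, fun g v hv => by subst h; simpa using hv⟩
  have h1 : (Pi.single (⟨0, h0⟩ : Fin m) (1 : ℂ)) ∈ W.toSubmodule :=
    Submodule.mem_span_singleton_self _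
  rcases IsSimpleOrder.eq_bot_or_eq_top W with hW | hW
  · rw [hW] at h1
    simpa using congrFun ((Submodule.mem_bot ℂ).mp h1) ⟨0, h0⟩
  · have h2 : (Pi.single (⟨1, by omega⟩ : Fin m) (1 : ℂ)) ∈ W.toSubmodule := by
      rw [hW]; exact Submodule.mem_top
    obtain ⟨a, ha⟩ := Submodule.mem_span_singleton.mp h2
    simpa [Pi.single_eq_of_ne (show (⟨1, by omega⟩ : Fin m) ≠ ⟨0, h0⟩ by simp [Fin.ext_iff])] using
      congrFun ha ⟨1, by omega⟩

theorem pick {ε a b : ℂ} (h : ε = 1 ∨ ε = -1) (ha : a = 1 ∨ a = -1) (hb : b = 1 ∨ b = -1)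
    (hne : a ≠ b) : ε = a ∨ ε = b := by
  rcases h with rfl | rfl <;> rcases ha with rfl | rfl <;> rcases hb with rfl | rfl <;> simp_all

/-- The classification of the small irreducible characters. -/
theorem main (hk : 1 ≤ k) (hodd : Odd (Fintype.card F)) :
    ∃ p₁ p₂ m₁ m₂ : IrrCharacter (symplecticGroup (Fin (k + 1)) F),
      p₁ ≠ p₂ ∧ m₁ ≠ m₂ ∧
      2 * p₁.1 1 = (Fintype.card F : ℂ) ^ (k + 1) + 1 ∧
      2 * p₂.1 1 = (Fintype.card F : ℂ) ^ (k + 1) + 1 ∧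
      2 * m₁.1 1 = (Fintype.card F : ℂ) ^ (k + 1) + (-1) ∧
      2 * m₂.1 1 = (Fintype.card F : ℂ) ^ (k + 1) + (-1) ∧
      ∀ χ : IrrCharacter (symplecticGroup (Fin (k + 1)) F), ∃ d : ℕ, χ.1 1 = d ∧
        (d = 1 ∨ χ = p₁ ∨ χ = p₂ ∨ χ = m₁ ∨ χ = m₂ ∨
          (Fintype.card F ^ (k + 1) - 1) * (Fintype.card F ^ (k + 1) - Fintype.card F) ≤
            d * (2 * (Fintype.card F + 1))) := by
  classical
  have h2 := two_ne_zero_of_odd hodd
  obtain ⟨ψ, t, hψ⟩ := exists_char_ne_one (F := F)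
  obtain ⟨ν, hν⟩ := FiniteField.exists_nonsquare (F := F) (fun h => h2 (by
    haveI := ringChar.of_eq h
    exact CharTwo.two_eq_zero))
  have hν0 : ν ≠ 0 := fun e => hν (e ▸ IsSquare.zero)
  have hmk : ∀ (c : F), c ≠ 0 → ∀ s : ℂ, s * s = 1 →
      ∃ χ : IrrCharacter (symplecticGroup (Fin (k + 1)) F),
        2 * χ.1 1 = (Fintype.card F : ℂ) ^ (k + 1) + s ∧
        (∃ ε, (ε = 1 ∨ ε = -1) ∧ Lab ψ c ε χ.1) ∧
        ∀ c', ¬ IsSquare (c' / c) → ∃ (m : ℕ)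
          (σ : Representation ℂ (symplecticGroup (Fin (k + 1)) F) (Fin m → ℂ)),
          σ.character = χ.1 ∧ proj ψ c' σ e0 = 0 := by
    intro c hc s hs
    obtain ⟨d, σ, hirr, hlow, hd, hp, hp'⟩ := exists_weil hk hodd hψ hc hs
    obtain ⟨ε, hε, hcls⟩ := exists_sign_cls σ hlow
    refine ⟨⟨σ.character, d, σ, hirr, rfl⟩, ?_, ⟨ε, hε, d, σ, hirr, hcls, hp, rfl⟩,
      fun c' hc' => ⟨d, σ, rfl, hp' c' hc'⟩⟩
    show 2 * σ.character 1 = _
    rw [Representation.char_one, Module.finrank_fin_fun, hd]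
  obtain ⟨p₁, dp₁, ⟨εp₁, hεp₁, lp₁⟩, zp₁⟩ := hmk 1 one_ne_zero 1 (one_mul 1)
  obtain ⟨p₂, dp₂, ⟨εp₂, hεp₂, lp₂⟩, zp₂⟩ := hmk ν hν0 1 (one_mul 1)
  obtain ⟨m₁, dm₁, ⟨εm₁, hεm₁, lm₁⟩, zm₁⟩ := hmk 1 one_ne_zero (-1) (by norm_num)
  obtain ⟨m₂, dm₂, ⟨εm₂, hεm₂, lm₂⟩, zm₂⟩ := hmk ν hν0 (-1) (by norm_num)
  have hdist : ∀ {x y : IrrCharacter (symplecticGroup (Fin (k + 1)) F)} {ε : ℂ},
      (∃ (m : ℕ) (σ : Representation ℂ (symplecticGroup (Fin (k + 1)) F) (Fin m → ℂ)),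
        σ.character = x.1 ∧ proj ψ ν σ e0 = 0) → Lab ψ ν ε y.1 → x ≠ y := by
    rintro x y ε ⟨m, σ, hσ, h0⟩ ⟨m', σ', -, -, hp', hσ'⟩ rfl
    exact hp' (eq_zero_of_character σ σ' (hσ.trans hσ'.symm) h0)
  refine ⟨p₁, p₂, m₁, m₂, hdist (zp₁ ν (by rwa [div_one])) lp₂,
    hdist (zm₁ ν (by rwa [div_one])) lm₂, dp₁, dp₂, dm₁, dm₂, fun χ => ?_⟩
  obtain ⟨d, σ, hirr, hσ⟩ := χ.2
  have hd : χ.1 1 = (d : ℂ) := by
    rw [← hσ, Representation.char_one, Module.finrank_fin_fun]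
  refine ⟨d, hd, ?_⟩
  rcases bound_or_lowRank σ hodd (by omega) hψ with hlow | hb
  swap
  · rw [Module.finrank_fin_fun] at hb
    exact Or.inr (Or.inr (Or.inr (Or.inr (Or.inr hb))))
  by_cases h1 : σ = 1
  · exact Or.inl (dim_eq_one_of_trivial σ h1)
  obtain ⟨ε, hε, hcls⟩ := exists_sign_cls σ hlow
  obtain ⟨c, hc, hp⟩ := exists_class hodd (by omega) hψ hν σ hlow h1
  have hl : Lab ψ c ε χ.1 := ⟨d, σ, hirr, hcls, hp, hσ⟩
  have two : ∀ {x y : IrrCharacter (symplecticGroup (Fin (k + 1)) F)} {εx εy : ℂ},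
      c ≠ 0 → 2 * x.1 1 = (Fintype.card F : ℂ) ^ (k + 1) + 1 →
      2 * y.1 1 = (Fintype.card F : ℂ) ^ (k + 1) + (-1) →
      (εx = 1 ∨ εx = -1) → (εy = 1 ∨ εy = -1) →
      Lab ψ c εx x.1 → Lab ψ c εy y.1 → χ = x ∨ χ = y := by
    intro x y εx εy hc0 dx dy hx hy lx ly
    have hne : εx ≠ εy := by
      rintro rfl
      have := Lab.unique hk h2 hψ hc0 lx ly
      rw [this, dy] at dx
      exact two_ne_zero (α := ℂ) (by linear_combination (-1 : ℂ) * dx)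
    rcases pick hε hx hy hne with rfl | rfl
    · exact Or.inl (Subtype.ext (Lab.unique hk h2 hψ hc0 hl lx))
    · exact Or.inr (Subtype.ext (Lab.unique hk h2 hψ hc0 hl ly))
  rcases hc with rfl | rfl
  · rcases two one_ne_zero dp₁ dm₁ hεp₁ hεm₁ lp₁ lm₁ with h | h
    · exact Or.inr (Or.inl h)
    · exact Or.inr (Or.inr (Or.inr (Or.inl h)))
  · rcases two hν0 dp₂ dm₂ hεp₂ hεm₂ lp₂ lm₂ with h | h
    · exact Or.inr (Or.inr (Or.inl h))
    · exact Or.inr (Or.inr (Or.inr (Or.inr (Or.inl h))))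

theorem small_lt {q N : ℕ} (hq : 3 ≤ q) (hN : q * q ≤ N) :
    (N + 1) * (q + 1) < (N - 1) * (N - q) := by
  have h9 : 9 ≤ N := le_trans (Nat.mul_le_mul hq hq) hN
  obtain ⟨a, rfl⟩ : ∃ a, N = a + q := ⟨N - q, (Nat.sub_add_cancel (le_trans (Nat.le_mul_self q) hN)).symm⟩
  rw [Nat.add_sub_cancel]
  obtain ⟨b, hb⟩ : ∃ b, a + q = b + 1 := ⟨a + q - 1, by omega⟩
  rw [hb, Nat.add_sub_cancel]
  have ha : 2 * q ≤ a := by nlinarith
  nlinarith


/-- Let F be a finite field of odd order q and G = Sp(2n, F) with n ≥ 2. Then G has exactly four irreducible complex characters of degree (q^n + 1)/2 or (q^n − 1)/2 (two of each), and every other non-principal irreducible character has degree at least (q^n − 1)(q^n − q)/(2(q + 1)). -/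
theorem result {F : Type*} [Field F] [Fintype F] (hodd : Odd (Fintype.card F)) (n : ℕ) (hn : 2 ≤ n) :
    Nat.card {χ : Cfsg.IrrCharacter ↥(Matrix.symplecticGroup (Fin n) F) // (χ : ↥(Matrix.symplecticGroup (Fin n) F) → ℂ) 1 = (((Fintype.card F) ^ n + 1 : ℕ) : ℂ) / 2} = 2 ∧
    Nat.card {χ : Cfsg.IrrCharacter ↥(Matrix.symplecticGroup (Fin n) F) // (χ : ↥(Matrix.symplecticGroup (Fin n) F) → ℂ) 1 = (((Fintype.card F) ^ n - 1 : ℕ) : ℂ) / 2} = 2 ∧
    ∀ χ : Cfsg.IrrCharacter ↥(Matrix.symplecticGroup (Fin n) F),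
      (χ : ↥(Matrix.symplecticGroup (Fin n) F) → ℂ) 1 ≠ 1 →
      (χ : ↥(Matrix.symplecticGroup (Fin n) F) → ℂ) 1 ≠ (((Fintype.card F) ^ n + 1 : ℕ) : ℂ) / 2 →
      (χ : ↥(Matrix.symplecticGroup (Fin n) F) → ℂ) 1 ≠ (((Fintype.card F) ^ n - 1 : ℕ) : ℂ) / 2 →
      (((Fintype.card F) ^ n - 1 : ℕ) : ℝ) * (((Fintype.card F) ^ n - Fintype.card F : ℕ) : ℝ) / (2 * ((Fintype.card F : ℕ) + 1 : ℝ)) ≤ ‖(χ : ↥(Matrix.symplecticGroup (Fin n) F) → ℂ) 1‖ := by
  classical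
  obtain ⟨k, rfl⟩ : ∃ k, n = k + 1 := ⟨n - 1, by omega⟩
  obtain ⟨p₁, p₂, m₁, m₂, hp, hm, dp₁, dp₂, dm₁, dm₂, hall⟩ := main (k := k) (by omega) hodd
  set q := Fintype.card F with hq
  have hq3 : 3 ≤ q := by
    have := Fintype.one_lt_card (α := F)
    obtain ⟨r, hr⟩ := hodd
    omega
  set N := q ^ (k + 1) with hN
  have hNq : q * q ≤ N := by
    rw [hN, ← sq]; exact Nat.pow_le_pow_right (by omega) hn
  have h9 : 9 ≤ N := le_trans (Nat.mul_le_mul hq3 hq3) hNq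
  have hplus : ((N + 1 : ℕ) : ℂ) / 2 = ((q : ℂ) ^ (k + 1) + 1) / 2 := by rw [hN]; push_cast; ring
  have hminus : ((N - 1 : ℕ) : ℂ) / 2 = ((q : ℂ) ^ (k + 1) + (-1)) / 2 := by
    rw [Nat.cast_sub (by omega), hN]; push_cast; ring
  have no_bound : ∀ (d : ℕ) (s : ℂ), (s = 1 ∨ s = -1) → (d : ℂ) = ((q : ℂ) ^ (k + 1) + s) / 2 →
      d ≠ 1 ∧ ¬ (N - 1) * (N - q) ≤ d * (2 * (q + 1)) := by
    intro d s hs hd
    have h2d : (2 * d = N + 1) ∨ (2 * d + 1 = N) := by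
      rcases hs with rfl | rfl
      · left
        apply Nat.cast_injective (R := ℂ)
        rw [hN]; push_cast
        linear_combination 2 * hd
      · right
        apply Nat.cast_injective (R := ℂ)
        rw [hN]; push_cast
        linear_combination 2 * hd
    have hlt := small_lt hq3 hNq
    refine ⟨by omega, fun hle => ?_⟩
    have : 2 * d * (q + 1) ≤ (N + 1) * (q + 1) := Nat.mul_le_mul_right _ (by omega)
    nlinarith
  have count : ∀ (s : ℂ) (a b o₁ o₂ : IrrCharacter (symplecticGroup (Fin (k + 1)) F)),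
      (s = 1 ∨ s = -1) → a ≠ b →
      2 * a.1 1 = (q : ℂ) ^ (k + 1) + s → 2 * b.1 1 = (q : ℂ) ^ (k + 1) + s →
      2 * o₁.1 1 = (q : ℂ) ^ (k + 1) + -s → 2 * o₂.1 1 = (q : ℂ) ^ (k + 1) + -s →
      (∀ χ : IrrCharacter (symplecticGroup (Fin (k + 1)) F), ∃ d : ℕ, χ.1 1 = (d : ℂ) ∧ (d = 1 ∨ χ = a ∨ χ = b ∨ χ = o₁ ∨ χ = o₂ ∨
          (N - 1) * (N - q) ≤ d * (2 * (q + 1)))) →
      Nat.card {χ : IrrCharacter (symplecticGroup (Fin (k + 1)) F) //
        χ.1 1 = ((q : ℂ) ^ (k + 1) + s) / 2} = 2 := by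
    intro s a b o₁ o₂ hs hab ha hb ho₁ ho₂ hcases
    rw [Nat.card_eq_two_iff]
    refine ⟨⟨a, by linear_combination ha / 2⟩, ⟨b, by linear_combination hb / 2⟩,
      fun e => hab (congrArg Subtype.val e), Set.eq_univ_of_forall fun ⟨χ, hχ⟩ => ?_⟩
    obtain ⟨d, hd, h⟩ := hcases χ
    obtain ⟨hd1, hbd⟩ := no_bound d s hs (hd.symm.trans hχ)
    have hs0 : s ≠ 0 := by rcases hs with rfl | rfl <;> norm_num
    rcases h with h | rfl | rfl | rfl | rfl | h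
    · exact absurd h hd1
    · exact Or.inl rfl
    · exact Or.inr rfl
    · exact absurd (show s = 0 by linear_combination (1 / 2 : ℂ) * ho₁ - hχ) hs0
    · exact absurd (show s = 0 by linear_combination (1 / 2 : ℂ) * ho₂ - hχ) hs0
    · exact absurd h hbd
  refine ⟨?_, ?_, fun χ h1 hp' hm' => ?_⟩
  · simp only [hplus]
    exact count 1 p₁ p₂ m₁ m₂ (Or.inl rfl) hp dp₁ dp₂ dm₁ dm₂ hall
  · simp only [hminus]
    refine count (-1) m₁ m₂ p₁ p₂ (Or.inr rfl) hm dm₁ dm₂ (by rw [neg_neg]; exact dp₁)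
      (by rw [neg_neg]; exact dp₂) fun χ => ?_
    obtain ⟨d, hd, h⟩ := hall χ
    exact ⟨d, hd, by tauto⟩
  · obtain ⟨d, hd, h⟩ := hall χ
    rw [hplus] at hp'
    rw [hminus] at hm'
    rcases h with h | rfl | rfl | rfl | rfl | h
    · exact absurd (by rw [hd, h, Nat.cast_one]) h1
    · exact absurd (by linear_combination dp₁ / 2) hp'
    · exact absurd (by linear_combination dp₂ / 2) hp'
    · exact absurd (by linear_combination dm₁ / 2) hm'
    · exact absurd (by linear_combination dm₂ / 2) hm'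
    · rw [hd, Complex.norm_natCast, div_le_iff₀ (by positivity)]
      exact_mod_cast h

end Cfsg.Agent.S2524
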