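import Cfsg.Statements.S2525
import Cfsg.Agent.Lib.F4LeviElement98
-- import your own Cfsg.Agent.* helpers here

set_option autoImplicit false
open Cfsg

namespace Cfsg.Agent.S2525

open Cfsg.Lie Cfsg.Agent.F4PrimeCheck98
open Cfsg.Agent.F4TorusPartner98 (J3)

section Aux

variable {F : Type*} [Field F] [Fintype F]

/-- non-adjacency of the first prime to the second -/
def NA (q p t : ℕ) : Prop :=
  (p = 2 ∧ orderOf (q : ZMod t) ∈ ({8, 12} : Finset ℕ)) ∨
    (p ≠ 2 ∧ t ≠ 2 ∧ orderOf (q : ZMod p) < orderOf (q : ZMod t) ∧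
      (orderOf (q : ZMod t) ∈ ({8, 12} : Finset ℕ) ∨
        (orderOf (q : ZMod t) = 6 ∧ orderOf (q : ZMod p) ∈ ({3, 4} : Finset ℕ)) ∨
        (orderOf (q : ZMod t) = 4 ∧ orderOf (q : ZMod p) = 3)))

/-- commuting elements of two prime orders -/
def Pair (F : Type*) [Field F] [Fintype F] (p t : ℕ) : Prop :=
  ∃ a ∈ chevF4.group F, ∃ b ∈ chevF4.group F, orderOf a = p ∧ orderOf b = t ∧ Commute a b

theorem pair_symm {p t : ℕ} (h : Pair F p t) : Pair F t p :=
  let ⟨a, ha, b, hb, e1, e2, hc⟩ := h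
  ⟨b, hb, a, ha, e2, e1, hc.symm⟩

theorem pair_iff {p t : ℕ} (hp : p.Prime) (ht : t.Prime) (hpt : p ≠ t) :
    (∃ x : ↥(chevF4.group F), orderOf x = p * t) ↔ Pair F p t := by
  constructor
  · rintro ⟨x, hx⟩
    have hx0 : orderOf x ≠ 0 := by rw [hx]; exact Nat.mul_ne_zero hp.ne_zero ht.ne_zero
    refine ⟨_, (x ^ t).2, _, (x ^ p).2, ?_, ?_, ?_⟩
    · rw [Subgroup.orderOf_coe, orderOf_pow_of_dvd ht.ne_zero (hx ▸ dvd_mul_left t p), hx, Nat.mul_div_cancel _ ht.pos]
    · rw [Subgroup.orderOf_coe, orderOf_pow_of_dvd hp.ne_zero (hx ▸ dvd_mul_right p t), hx,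
        Nat.mul_div_cancel_left _ hp.pos]
    · exact (Commute.pow_pow (Commute.refl x) t p).map (chevF4.group F).subtype
  · rintro ⟨a, ha, b, hb, e1, e2, hc⟩
    refine ⟨⟨a * b, mul_mem ha hb⟩, ?_⟩
    rw [← Subgroup.orderOf_coe]
    show orderOf (a * b) = p * t
    rw [hc.orderOf_mul_eq_mul_orderOf_of_coprime (by rw [e1, e2]; exact (Nat.coprime_primes hp ht).2 hpt), e1, e2]

theorem two_eq_zero {n : ℕ} (hn : 1 ≤ n) (hF : Fintype.card F = 2 ^ n) : (2 : F) = 0 := by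
  have h := FiniteField.cast_card_eq_zero F
  rw [hF] at h
  push_cast at h
  exact (pow_eq_zero_iff (by omega : n ≠ 0)).1 h

theorem order_cases {n : ℕ} (hF : Fintype.card F = 2 ^ n) {p : ℕ} (hp : p.Prime) (hp2 : p ≠ 2)
    (hpG : p ∣ Nat.card ↥(chevF4.group F)) :
    (Fintype.card F : ZMod p) ≠ 0 ∧ (orderOf (Fintype.card F : ZMod p) = 1 ∨ orderOf (Fintype.card F : ZMod p) = 2 ∨
      orderOf (Fintype.card F : ZMod p) = 3 ∨ orderOf (Fintype.card F : ZMod p) = 4 ∨
      orderOf (Fintype.card F : ZMod p) = 6 ∨ orderOf (Fintype.card F : ZMod p) = 8 ∨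
      orderOf (Fintype.card F : ZMod p) = 12) := by
  have : Fact p.Prime := ⟨hp⟩
  set q := Fintype.card F with hq
  have hq0 : (q : ZMod p) ≠ 0 := fun h => hp2 ((Nat.prime_dvd_prime_iff_eq hp Nat.prime_two).1
    (hp.dvd_of_dvd_pow (hF ▸ (ZMod.natCast_eq_zero_iff _ p).1 h)))
  refine ⟨hq0, ?_⟩
  have hH : 1 * Nat.card ↥(chevF4.diagonalSubgroup F) = (q - 1) ^ chevF4.rank := by
    simpa using ChevalleyTorusCard.card_H (F := F) c4 ChevalleyTorusCard.smithF4
  have hG := ChevOrder.order_eq (F := F) c4 X4 S2372.supp [2, 6, 8, 12] S2372.poly hH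
  rw [one_mul] at hG
  rw [hG, hp.dvd_mul] at hpG
  have hd : ∀ d, p ∣ q ^ d - 1 → orderOf (q : ZMod p) ∣ d := fun d hd => by
    refine orderOf_dvd_of_pow_eq_one ?_
    have := (ZMod.natCast_eq_zero_iff _ p).2 hd
    rwa [Nat.cast_sub (Nat.one_le_pow _ _ Fintype.card_pos), Nat.cast_pow, Nat.cast_one, sub_eq_zero] at this
  rcases hpG with h | h
  · exact absurd ((ZMod.natCast_eq_zero_iff _ p).2 (hp.dvd_of_dvd_pow h)) hq0
  · obtain ⟨a, ha, hdvd⟩ := hp.prime.dvd_prod_iff.1 h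
    obtain ⟨d, hdm, rfl⟩ := List.mem_map.1 ha
    have h1 := hd d hdvd
    have h8 : d = 8 ∨ d ∣ 12 := by
      simp only [List.mem_cons, List.not_mem_nil, or_false] at hdm
      rcases hdm with rfl | rfl | rfl | rfl <;> norm_num
    rcases h8 with rfl | h12
    · have h2 : orderOf (q : ZMod p) ∈ Nat.divisors 8 := Nat.mem_divisors.2 ⟨h1, by norm_num⟩
      rw [show Nat.divisors 8 = {1, 2, 4, 8} by decide +kernel] at h2
      simp only [Finset.mem_insert, Finset.mem_singleton] at h2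
      omega
    · have h2 : orderOf (q : ZMod p) ∈ Nat.divisors 12 := Nat.mem_divisors.2 ⟨h1.trans h12, by norm_num⟩
      rw [show Nat.divisors 12 = {1, 2, 3, 4, 6, 12} by decide +kernel] at h2
      simp only [Finset.mem_insert, Finset.mem_singleton] at h2
      omega

theorem no_pair {n : ℕ} (hn : 1 ≤ n) (hF : Fintype.card F = 2 ^ n) {p t : ℕ} (hp : p.Prime) (ht : t.Prime)
    (hpt : p ≠ t) (h : NA (Fintype.card F) p t) : ¬ Pair F p t := by
  have h2 := two_eq_zero hn hF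
  have : Fact (2 : ℕ).Prime := ⟨Nat.prime_two⟩
  have : CharP F 2 := CharTwo.of_one_ne_zero_of_two_eq_zero one_ne_zero h2
  let L := FiniteField.Extension F 2 24
  let : Fintype L := Fintype.ofFinite _
  have hL : Fintype.card L = Fintype.card F ^ 24 := by
    rw [← Nat.card_eq_fintype_card, FiniteField.natCard_extension, Nat.card_eq_fintype_card]
  rintro ⟨a, ha, b, hb, e1, e2, hc⟩
  rcases h with ⟨rfl, h⟩ | ⟨-, -, hlt, h⟩
  · exact F4TorusPartner98.not_commute_big (L := L) hp ht hpt hL h2 rfl (by simpa using h) (Or.inl rfl) ha hb e1 e2 hc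
  · simp only [Finset.mem_insert, Finset.mem_singleton] at h
    rcases h with h | h | h
    · exact F4TorusPartner98.not_commute_big (L := L) hp ht hpt hL h2 rfl h (Or.inr hlt) ha hb e1 e2 hc
    · exact F4TorusPartner98.not_commute_small (L := L) hp ht hpt hL rfl rfl
        (by rcases h.2 with h' | h' <;> simp [h.1, h']) ha hb e1 e2 hc
    · exact F4TorusPartner98.not_commute_small (L := L) hp ht hpt hL rfl rfl (by simp [h.1, h.2]) ha hb e1 e2 hc

theorem pair_aux {n : ℕ} (hn : 1 ≤ n) (hF : Fintype.card F = 2 ^ n) {p t : ℕ} (hp : p.Prime) (ht : t.Prime)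
    (hpG : p ∣ Nat.card ↥(chevF4.group F)) (htG : t ∣ Nat.card ↥(chevF4.group F)) (ht2 : t ≠ 2)
    (hle : p = 2 ∨ orderOf (Fintype.card F : ZMod p) ≤ orderOf (Fintype.card F : ZMod t))
    (h : ¬ NA (Fintype.card F) p t) : Pair F p t := by
  have h2 := two_eq_zero hn hF
  have : Fact (2 : ℕ).Prime := ⟨Nat.prime_two⟩
  have : CharP F 2 := CharTwo.of_one_ne_zero_of_two_eq_zero one_ne_zero h2
  have : Fact t.Prime := ⟨ht⟩
  have : Fact p.Prime := ⟨hp⟩
  let L := FiniteField.Extension F 2 24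
  let : Fintype L := Fintype.ofFinite _
  have hL : Fintype.card L = Fintype.card F ^ 24 := by
    rw [← Nat.card_eq_fintype_card, FiniteField.natCard_extension, Nat.card_eq_fintype_card]
  obtain ⟨ht0, htc⟩ := order_cases hF ht ht2 htG
  set q := Fintype.card F with hq
  set l := orderOf (q : ZMod t) with hl
  have hP : chevF4.parabolicSubgroup F J3 ≤ chevF4.group F :=
    ChevalleyParabolicBN.parabolic_le_group c4 (F4LeviElement98.S4 (F := F)) J3
  have hpar : (l = 2 ∨ l = 3 ∨ l = 4 ∨ l = 6) → ∃ x ∈ chevF4.parabolicSubgroup F J3, orderOf x = t := by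
    intro hl'
    have hd : ∃ d, (d = 2 ∨ d = 4 ∨ d = 6) ∧ l ∣ d := by
      rcases hl' with h' | h' | h' | h' <;> rw [h']
      · exact ⟨2, by norm_num⟩
      · exact ⟨6, by norm_num⟩
      · exact ⟨4, by norm_num⟩
      · exact ⟨6, by norm_num⟩
    obtain ⟨d, hd, hld⟩ := hd
    refine F4LeviElement98.exists_parabolic ht hd (orderOf_dvd_iff_pow_eq_one.1 hld) fun h1 => ?_
    rw [hl, h1, orderOf_one] at hl'
    omega
  have h5 : ∀ {u : ℕ}, u.Prime → u ≠ 2 → 3 ≤ orderOf (q : ZMod u) → u ∣ Nat.card ↥(chevF4.group F) → 5 ≤ u := by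
    intro u hu hu2 h3 huG
    have : Fact u.Prime := ⟨hu⟩
    have hq0 : (q : ZMod u) ≠ 0 := (order_cases hF hu hu2 huG).1
    have h1 := Nat.le_of_dvd (by have := hu.two_le; omega) (ZMod.orderOf_dvd_card_sub_one hq0)
    have := hu.two_le
    rcases eq_or_ne u 4 with rfl | h4
    · exact absurd hu (by norm_num)
    · omega
  have hsmall : (p = 2 ∨ orderOf (q : ZMod p) = 1 ∨ orderOf (q : ZMod p) = 2) →
      (l = 1 ∨ l = 2 ∨ l = 3 ∨ l = 4 ∨ l = 6) → Pair F p t := by
    intro hp12 hl'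
    have hdiv : p ∣ q * (q ^ 2 - 1) := by
      rcases hp12 with h' | h'
      · exact (h' ▸ hF ▸ dvd_pow_self 2 (by omega : n ≠ 0) : p ∣ q).mul_right _
      · have h1 : (q : ZMod p) ^ 2 = 1 := orderOf_dvd_iff_pow_eq_one.1 (by rcases h' with h' | h' <;> rw [h'] <;> norm_num)
        refine dvd_mul_of_dvd_right ?_ _
        rw [← ZMod.natCast_eq_zero_iff, Nat.cast_sub (Nat.one_le_pow _ _ Fintype.card_pos), Nat.cast_pow, h1,
          Nat.cast_one, sub_self]
    obtain ⟨g, hg⟩ := F4LeviElement98.exists_phi hp hdiv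
    by_cases hl1 : l = 1
    · have htd : t ∣ q - 1 := by
        rw [← ZMod.natCast_eq_zero_iff, Nat.cast_sub Fintype.card_pos, orderOf_eq_one_iff.1 hl1, Nat.cast_one,
          sub_self]
      obtain ⟨c, hc, hco⟩ := F4LeviElement98.exists_hg (F := F) ht htd
      exact ⟨_, F4LeviElement98.phi_mem g, _,
        (F4LeviElement98.S4 (F := F)).H_le_group (ChevalleyTorus.hg_mem_H c4 (X4.simple_lt (i := 0) (by decide)) hc),
        hg, hco, (F4LeviElement98.hg_commute hc g).symm⟩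
    · obtain ⟨x, hx, hxo⟩ := hpar (by omega)
      obtain ⟨z, hz, hzP, hzo⟩ := F4LeviElement98.exists_levi ht (F4LeviElement98.not_dvd_card ht0) hx hxo
      have hq1 : (q : ZMod t) ≠ 1 := fun h1 => hl1 (orderOf_eq_one_iff.2 h1)
      exact ⟨_, F4LeviElement98.phi_mem g, z, hP hzP, hg, hzo,
        (F4LeviElement98.levi_commute ht hq1 hz hzo g).symm⟩
  unfold NA at h
  simp only [Finset.mem_insert, Finset.mem_singleton, not_or, not_and, ← hl] at h
  rcases eq_or_ne p 2 with hp2 | hp2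
  · have hn8 := h.1 hp2
    refine hsmall (Or.inl hp2) ?_
    clear * - hn8 htc; omega
  · obtain ⟨hp0, hpc⟩ := order_cases hF hp hp2 hpG
    rw [← hq] at hpc
    have hle := hle.resolve_left hp2
    set k := orderOf (q : ZMod p) with hk
    rcases Nat.lt_or_eq_of_le hle with hlt | heq
    · have h' := h.2 hp2 ht2 hlt
      refine hsmall (Or.inr ?_) ?_ <;> (clear * - h' hpc htc hlt; omega)
    · by_cases hk12 : k = 1 ∨ k = 2
      · refine hsmall (Or.inr hk12) ?_
        clear * - hk12 heq; omega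
      · have hl3 : 3 ≤ l := by clear * - hk12 heq hpc; omega
        obtain ⟨x, hxG, hxo, hxJ⟩ : ∃ x ∈ chevF4.group F, orderOf x = t ∧
            ((k = 3 ∨ k = 4 ∨ k = 6) → x ∈ chevF4.parabolicSubgroup F J3) := by
          by_cases hk3 : k = 3 ∨ k = 4 ∨ k = 6
          · obtain ⟨x, hx, hxo⟩ := hpar (by omega)
            exact ⟨x, hP hx, hxo, fun _ => hx⟩
          · obtain ⟨x, hx⟩ := exists_prime_orderOf_dvd_card' t htG
            exact ⟨x, x.2, by rw [Subgroup.orderOf_coe, hx], fun h' => absurd h' hk3⟩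
        obtain ⟨y, hy, hyo, hxy⟩ := F4TorusPartner98.partner (L := L) hp (h5 hp hp2 (by omega) hpG) ht
          (h5 ht ht2 hl3 htG) hL hk.symm (hl.symm.trans heq.symm) hxo hxG (by
            by_cases hk3 : k = 3 ∨ k = 4 ∨ k = 6
            · exact Or.inr (Or.inr ⟨hk3, hxJ hk3⟩)
            · omega)
        exact ⟨y, hy, x, hxG, hyo, hxo, hxy.symm⟩

end Aux

/-- Let F be a finite field with q = 2^n elements and G = F₄(F). For an odd prime r let e(r, q) be the multiplicative order of q modulo r. Two distinct primes r, s dividing the order of G are non-adjacent in the prime graph of G (no element of order rs) if and only if, up to swapping r and s, either r = 2 and e(s, q) ∈ {8, 12}, or r, s are both odd with k = e(r, q) < l = e(s, q) and one of: l ∈ {8, 12}; l = 6 and k ∈ {3, 4}; l = 4 and k = 3. -/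
theorem result {F : Type*} [Field F] [Fintype F] (n : ℕ) (hn : 1 ≤ n) (hF : Fintype.card F = 2 ^ n)
    (r s : ℕ) (hr : r.Prime) (hs : s.Prime) (hrs : r ≠ s) (hrG : r ∣ Nat.card ↥(Cfsg.Lie.chevF4.group F)) (hsG : s ∣ Nat.card ↥(Cfsg.Lie.chevF4.group F)) :
    (¬ ∃ x : ↥(Cfsg.Lie.chevF4.group F), orderOf x = r * s) ↔
      ((r = 2 ∧ orderOf ((Fintype.card F : ℕ) : ZMod s) ∈ ({8, 12} : Finset ℕ)) ∨ (s = 2 ∧ orderOf ((Fintype.card F : ℕ) : ZMod r) ∈ ({8, 12} : Finset ℕ)) ∨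
       (r ≠ 2 ∧ s ≠ 2 ∧
         ((orderOf ((Fintype.card F : ℕ) : ZMod r) < orderOf ((Fintype.card F : ℕ) : ZMod s) ∧ (orderOf ((Fintype.card F : ℕ) : ZMod s) ∈ ({8, 12} : Finset ℕ) ∨ (orderOf ((Fintype.card F : ℕ) : ZMod s) = 6 ∧ orderOf ((Fintype.card F : ℕ) : ZMod r) ∈ ({3, 4} : Finset ℕ)) ∨ (orderOf ((Fintype.card F : ℕ) : ZMod s) = 4 ∧ orderOf ((Fintype.card F : ℕ) : ZMod r) = 3))) ∨
          (orderOf ((Fintype.card F : ℕ) : ZMod s) < orderOf ((Fintype.card F : ℕ) : ZMod r) ∧ (orderOf ((Fintype.card F : ℕ) : ZMod r) ∈ ({8, 12} : Finset ℕ) ∨ (orderOf ((Fintype.card F : ℕ) : ZMod r) = 6 ∧ orderOf ((Fintype.card F : ℕ) : ZMod s) ∈ ({3, 4} : Finset ℕ)) ∨ (orderOf ((Fintype.card F : ℕ) : ZMod r) = 4 ∧ orderOf ((Fintype.card F : ℕ) : ZMod s) = 3)))))) := by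
  rw [pair_iff hr hs hrs]
  set q := Fintype.card F with hq
  constructor
  · intro hno
    have key : NA q r s ∨ NA q s r := by
      by_contra hna
      rw [not_or] at hna
      refine hno ?_
      rcases eq_or_ne r 2 with hr2 | hr2
      · exact pair_aux hn hF hr hs hrG hsG (fun h => hrs (hr2.trans h.symm)) (Or.inl hr2) hna.1
      · rcases eq_or_ne s 2 with hs2 | hs2
        · exact pair_symm (pair_aux hn hF hs hr hsG hrG hr2 (Or.inl hs2) hna.2)
        · rcases le_total (orderOf (q : ZMod r)) (orderOf (q : ZMod s)) with h | h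
          · exact pair_aux hn hF hr hs hrG hsG hs2 (Or.inr h) hna.1
          · exact pair_symm (pair_aux hn hF hs hr hsG hrG hr2 (Or.inr h) hna.2)
    rcases key with (h | ⟨h1, h2, h3, h4⟩) | (h | ⟨h1, h2, h3, h4⟩)
    · exact Or.inl h
    · exact Or.inr (Or.inr ⟨h1, h2, Or.inl ⟨h3, h4⟩⟩)
    · exact Or.inr (Or.inl h)
    · exact Or.inr (Or.inr ⟨h2, h1, Or.inr ⟨h3, h4⟩⟩)
  · rintro (h | h | ⟨h1, h2, ⟨h3, h4⟩ | ⟨h3, h4⟩⟩)
    · exact no_pair hn hF hr hs hrs (Or.inl h)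
    · exact fun hp => no_pair hn hF hs hr hrs.symm (Or.inl h) (pair_symm hp)
    · exact no_pair hn hF hr hs hrs (Or.inr ⟨h1, h2, h3, h4⟩)
    · exact fun hp => no_pair hn hF hs hr hrs.symm (Or.inr ⟨h2, h1, h3, h4⟩) (pair_symm hp)

end Cfsg.Agent.S2525
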