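import Cfsg.Statements.S2531

set_option autoImplicit false
open Cfsg

namespace Cfsg.Agent.S2531

/-- The points of the projective space lying in a subspace. -/
def pts {F : Type*} [Field F] {n : ℕ} (U : Submodule F (Fin n → F)) :
    Set (Projectivization F (Fin n → F)) :=
  {x | x.rep ∈ U}

theorem mk_mem_pts {F : Type*} [Field F] {n : ℕ} (U : Submodule F (Fin n → F))
    (v : Fin n → F) (hv : v ≠ 0) : Projectivization.mk F v hv ∈ pts U ↔ v ∈ U := by
  obtain ⟨a, ha⟩ := Projectivization.exists_smul_eq_mk_rep F v hv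
  show (Projectivization.mk F v hv).rep ∈ U ↔ v ∈ U
  rw [← ha]
  exact Submodule.smul_mem_iff' U a

theorem card_pts {F : Type*} [Field F] [Finite F] {n : ℕ} (U : Submodule F (Fin n → F))
    (hU : U ≠ ⊥) : (Nat.card (pts U) : ZMod (Nat.card F)) = 1 := by
  let m : Projectivization F U → pts U := fun x =>
    ⟨Projectivization.map U.subtype U.injective_subtype x, by
      induction x using Projectivization.ind with
      | _ v hv => rw [Projectivization.map_mk, mk_mem_pts]; exact v.2⟩
  have hm : Function.Bijective m := by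
    constructor
    · intro x y hxy
      exact Projectivization.map_injective U.subtype U.injective_subtype (congrArg Subtype.val hxy)
    · rintro ⟨x, hx⟩
      refine ⟨Projectivization.mk F (⟨x.rep, hx⟩ : U) (fun h => x.rep_nonzero (congrArg Subtype.val h)), ?_⟩
      apply Subtype.ext
      simp only [m, Projectivization.map_mk]
      exact x.mk_rep
  have h := Projectivization.card' F U
  rw [Nat.card_congr (Equiv.ofBijective m hm)] at h
  have hd : 0 < Module.finrank F U := by
    rcases Nat.eq_zero_or_pos (Module.finrank F U) with h0 | h0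
    · exact absurd (Submodule.finrank_eq_zero.1 h0) hU
    · exact h0
  have hc : Nat.card U = Nat.card F ^ Module.finrank F U := Module.natCard_eq_pow_finrank
  have h2 := congrArg (fun k : ℕ => (k : ZMod (Nat.card F))) h
  simp only [hc, Nat.cast_pow, ZMod.natCast_self, zero_pow hd.ne', Nat.cast_add, Nat.cast_mul,
    Nat.cast_sub (Nat.card_pos : 1 ≤ Nat.card F), Nat.cast_one] at h2
  linear_combination h2

/-- Let `F` be a finite field and `n ≥ 3`. No set of permutations of the points of the projective space of `Fⁿ`, each induced by an invertible semilinear transformation of `Fⁿ` (so a subset of the full projective semilinear group), is sharply 2-transitive on the points: it is impossible that for all pairs of distinct points `(a, b)` and `(c, d)` exactly one member of the set sends `a` to `c` and `b` to `d`. -/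
theorem result {F : Type*} [Field F] [Finite F]
    (n : ℕ) (hn : 3 ≤ n) (S : Set (Equiv.Perm (Projectivization F (Fin n → F))))
    (hS : ∀ s ∈ S, ∃ (σ : F ≃+* F) (f : (Fin n → F) →ₛₗ[(σ : F →+* F)] (Fin n → F)) (hf : Function.Injective f),
      ∀ x, s x = Projectivization.map f hf x) :
    ¬ (∀ a b c d : Projectivization F (Fin n → F), a ≠ b → c ≠ d →
        ∃! s, s ∈ S ∧ s a = c ∧ s b = d) := by
  classical
  intro hsharp
  haveI : Fintype F := Fintype.ofFinite F
  let K := Nat.card F
  let W : Submodule F (Fin n → F) := LinearMap.ker (LinearMap.proj (⟨0, by omega⟩ : Fin n))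
  let i0 : Fin n := ⟨0, by omega⟩
  let i1 : Fin n := ⟨1, by omega⟩
  let i2 : Fin n := ⟨2, by omega⟩
  have h10 : i1 ≠ i0 := by simp [i0, i1]
  have h20 : i2 ≠ i0 := by simp [i0, i2]
  have h12 : i1 ≠ i2 := by simp [i1, i2]
  let e : Fin n → (Fin n → F) := fun i => Pi.single i 1
  have he : ∀ i, e i ≠ 0 := fun i h => by simpa [e] using congrFun h i
  have heW : ∀ i, i ≠ i0 → e i ∈ W := by
    intro i hi
    show e i i0 = 0
    simp [e, Pi.single_apply, hi.symm]
  let a : Projectivization F (Fin n → F) := Projectivization.mk F (e i0) (he i0)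
  let H : Set (Projectivization F (Fin n → F)) := pts W
  have haH : a ∉ H := by
    rw [show a = Projectivization.mk F (e i0) (he i0) from rfl, mk_mem_pts]
    show ¬ (e i0 i0 = 0)
    simp [e]
  haveI : Finite (Projectivization F (Fin n → F)) := inferInstance
  haveI : Fintype (Projectivization F (Fin n → F)) := Fintype.ofFinite _
  -- every translate meets `H` in `1` point modulo `|F|`
  have hmeet : ∀ s ∈ S, (Nat.card {x : H // s x ∈ H} : ZMod K) = 1 := by
    intro s hs
    obtain ⟨σ, f, hf, hfs⟩ := hS s hs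
    have heq : Nat.card {x : H // s x ∈ H} = Nat.card (pts (W ⊓ W.comap f)) := by
      refine Nat.card_congr ((Equiv.subtypeSubtypeEquivSubtypeInter (fun x => x ∈ H) (fun x => s x ∈ H)).trans
        (Equiv.subtypeEquivRight fun x => ?_))
      rw [hfs]
      conv_lhs => rw [← x.mk_rep, Projectivization.map_mk, mk_mem_pts, mk_mem_pts]
      rfl
    rw [heq]
    apply card_pts
    intro hbot
    by_cases hc : f (e i1) i0 = 0
    · refine he i1 ((Submodule.eq_bot_iff _).1 hbot (e i1) ⟨heW i1 h10, ?_⟩)
      exact hc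
    · let v : Fin n → F := σ.symm (-(f (e i2) i0)) • e i1 + σ.symm (f (e i1) i0) • e i2
      have hv : v ∈ W ⊓ W.comap f := by
        refine ⟨W.add_mem (W.smul_mem _ (heW i1 h10)) (W.smul_mem _ (heW i2 h20)), ?_⟩
        show f v i0 = 0
        simp [v]
        ring
      have := congrFun ((Submodule.eq_bot_iff _).1 hbot v hv) i2
      simp [v, e, h12.symm, hc] at this
  -- the members fixing `a`
  let T := {s : Equiv.Perm (Projectivization F (Fin n → F)) // s ∈ S ∧ s a = a}
  have huniq : ∀ x y, x ≠ a → y ≠ a → ∃! t : T, t.1 x = y := by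
    intro x y hx hy
    obtain ⟨s, ⟨hs, hsa, hsx⟩, hu⟩ := hsharp a x a y hx.symm hy.symm
    exact ⟨⟨s, hs, hsa⟩, hsx, fun t ht => Subtype.ext (hu t.1 ⟨t.2.1, t.2.2, ht⟩)⟩
  have hHa : ∀ x : H, x.1 ≠ a := fun x h => haH (h ▸ x.2)
  -- double counting
  have hcount : Nat.card (Σ t : T, {x : H // t.1 x ∈ H}) = Nat.card (H × H) := by
    refine Nat.card_congr (Equiv.ofBijective (fun p => (p.2.1, (⟨p.1.1 p.2.1, p.2.2⟩ : H))) ⟨?_, ?_⟩)
    · rintro ⟨t, ⟨x, hx⟩⟩ ⟨t', ⟨x', hx'⟩⟩ h
      simp only [Prod.mk.injEq, Subtype.mk.injEq] at h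
      obtain ⟨rfl, h⟩ := h
      have hne : t.1 x.1 ≠ a := fun h' => haH (h' ▸ hx)
      obtain ⟨t₀, -, hu⟩ := huniq x.1 (t.1 x.1) (hHa x) hne
      obtain rfl : t = t' := (hu t rfl).trans (hu t' h.symm).symm
      rfl
    · rintro ⟨x, y⟩
      obtain ⟨t, ht, -⟩ := huniq x y (hHa x) (hHa y)
      exact ⟨⟨t, x, ht.symm ▸ y.2⟩, Prod.ext rfl (Subtype.ext ht)⟩
  obtain ⟨b, hb⟩ : ∃ b, b ≠ a := by
    refine ⟨Projectivization.mk F (e i1) (he i1), fun h => haH ?_⟩
    rw [← h]
    exact (mk_mem_pts W _ _).2 (heW i1 h10)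
  have hT : Nat.card T = Nat.card {y : Projectivization F (Fin n → F) // y ≠ a} := by
    refine Nat.card_congr (Equiv.ofBijective
      (fun t => ⟨t.1 b, fun h => hb (t.1.injective (h.trans t.2.2.symm))⟩) ⟨?_, ?_⟩)
    · intro t t' h
      obtain ⟨t₀, -, hu⟩ := huniq b (t.1 b) hb (fun h' => hb (t.1.injective (h'.trans t.2.2.symm)))
      exact (hu t rfl).trans (hu t' (congrArg Subtype.val h).symm).symm
    · rintro ⟨y, hy⟩
      obtain ⟨t, ht, -⟩ := huniq b y hb hy
      exact ⟨t, Subtype.ext ht⟩
  have htot : (Nat.card {y : Projectivization F (Fin n → F) // y ≠ a} : ZMod K) = 0 := by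
    have h1 := card_pts (⊤ : Submodule F (Fin n → F)) (by
      intro h; exact he i0 ((Submodule.eq_bot_iff _).1 h _ trivial))
    have h2 : Nat.card (pts (⊤ : Submodule F (Fin n → F))) = Nat.card (Projectivization F (Fin n → F)) :=
      Nat.card_congr (Equiv.subtypeUnivEquiv fun x => trivial)
    rw [h2] at h1
    have h3 : Nat.card {y : Projectivization F (Fin n → F) // y ≠ a} + 1 = Nat.card (Projectivization F (Fin n → F)) := by
      rw [Nat.card_eq_fintype_card, Nat.card_eq_fintype_card, Fintype.card_subtype_compl, Fintype.card_subtype_eq]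
      have : 0 < Fintype.card (Projectivization F (Fin n → F)) := Fintype.card_pos_iff.2 ⟨a⟩
      omega
    have h4 := congrArg (fun k : ℕ => (k : ZMod K)) h3
    simp only [Nat.cast_add, Nat.cast_one, K] at h4 ⊢
    linear_combination h4 + h1
  haveI : Fintype T := Fintype.ofFinite T
  have hH : (Nat.card H : ZMod K) = 1 := card_pts W (fun h => he i1 ((Submodule.eq_bot_iff _).1 h _ (heW i1 h10)))
  rw [Nat.card_sigma, Nat.card_prod] at hcount
  have h := congrArg (fun k : ℕ => (k : ZMod K)) hcount
  simp only [Nat.cast_sum, Nat.cast_mul, hH] at h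
  rw [Finset.sum_congr rfl (fun t _ => hmeet t.1 t.2.1)] at h
  simp only [Finset.sum_const, Finset.card_univ, ← Nat.card_eq_fintype_card, nsmul_one, hT, htot, mul_one] at h
  haveI : Fact (1 < K) := ⟨Finite.one_lt_card⟩
  exact zero_ne_one h

end Cfsg.Agent.S2531
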