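import Cfsg.Statements.S2532

set_option autoImplicit false
open Cfsg

namespace Cfsg.Agent.S2532

/-- There is a function `f` of two natural-number arguments such that, whenever `m ≥ f(n, r)`, every subgroup of order `n` of the alternating group of degree `m` centralizes some subgroup of that alternating group isomorphic to the alternating group of degree `r`. -/
theorem result :
    ∃ f : ℕ → ℕ → ℕ, ∀ (m r : ℕ) (H : Subgroup ↥(alternatingGroup (Fin m))), f (Nat.card H) r ≤ m →
      ∃ K : Subgroup ↥(alternatingGroup (Fin m)), Nonempty (↥K ≃* ↥(alternatingGroup (Fin r))) ∧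
        K ≤ Subgroup.centralizer (H : Set ↥(alternatingGroup (Fin m))) := by
  classical
  refine ⟨fun n r => n * (r + 3) * 2 ^ n * 2 + 1, fun m r H hm => ?_⟩
  let X := Fin m
  haveI : Fintype H := Fintype.ofFinite H
  let H' : Subgroup (Equiv.Perm X) := H.map (alternatingGroup X).subtype
  haveI : Fintype H' := Fintype.ofFinite H'
  let O := MulAction.orbitRel.Quotient H' X
  haveI : Fintype O := Fintype.ofFinite O
  have hH : Nat.card H' = Nat.card H :=
    Nat.card_congr (H.equivMapOfInjective _ (Subgroup.subtype_injective _)).symm.toEquiv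
  have horb : ∀ o : O, Nat.card (MulAction.orbitRel.Quotient.orbit o) ≤ Nat.card H' := by
    intro o
    induction o using Quotient.inductionOn' with
    | _ x =>
      rw [MulAction.orbitRel.Quotient.orbit_mk]
      exact Nat.card_le_card_of_surjective (fun h : H' => (⟨h • x, MulAction.mem_orbit _ _⟩ : MulAction.orbit H' x))
        (fun ⟨y, h, hy⟩ => ⟨h, Subtype.ext hy⟩)
  have hcover : m ≤ Fintype.card O * Nat.card H' := by
    have h := Nat.card_congr (MulAction.selfEquivSigmaOrbits' H' X)
    rw [Nat.card_sigma, Nat.card_eq_fintype_card, Fintype.card_fin] at h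
    calc m = _ := h
      _ ≤ ∑ _o : O, Nat.card H' := Finset.sum_le_sum fun o _ => horb o
      _ = _ := by simp
  have hsub : Nat.card (Subgroup H') ≤ 2 ^ Nat.card H' := by
    rw [Nat.card_eq_fintype_card (α := H'), ← Fintype.card_set, ← Nat.card_eq_fintype_card]
    exact Nat.card_le_card_of_injective (fun K => (K : Set H')) SetLike.coe_injective
  haveI : Fintype (Subgroup H') := Fintype.ofFinite _
  let ty : O → Subgroup H' := fun o => MulAction.stabilizer H' o.out
  obtain ⟨K₀, hK₀⟩ : ∃ K₀, r ≤ (Finset.univ.filter fun o => ty o = K₀).card := by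
    by_contra hcon
    push Not at hcon
    have h1 : Fintype.card O ≤ Fintype.card (Subgroup H') * r := by
      rw [← Finset.card_univ, Finset.card_eq_sum_card_fiberwise (f := ty) (t := Finset.univ) (by simp)]
      calc _ ≤ ∑ _K : Subgroup H', r := Finset.sum_le_sum fun K _ => (hcon K).le
        _ = _ := by simp
    rw [← Nat.card_eq_fintype_card (α := Subgroup H')] at h1
    rw [← hH] at hm
    have h2 : m ≤ 2 ^ Nat.card H' * (r + 3) * Nat.card H' :=
      hcover.trans (Nat.mul_le_mul (h1.trans (Nat.mul_le_mul hsub (by omega))) le_rfl)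
    nlinarith [hm, h2]
  obtain ⟨t, ht, htc⟩ := Finset.exists_subset_card_eq hK₀
  let em : Fin r ≃ t := (Fintype.equivFinOfCardEq (by simpa using htc)).symm
  let rep : Fin r → X := fun i => (em i).1.out
  have hstab : ∀ i, MulAction.stabilizer H' (rep i) = K₀ := fun i => by
    have := ht (em i).2
    simpa using this
  have hsep : ∀ i j (h h' : H'), h • rep i = h' • rep j → i = j ∧ h⁻¹ * h' ∈ K₀ := by
    intro i j h h' hh
    have hrel : (em i).1 = (em j).1 := by
      have h1 : (Quotient.mk'' (h • rep i) : O) = (em i).1 := by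
        refine (Quotient.sound' ?_).trans (Quotient.out_eq' _)
        exact MulAction.mem_orbit _ _
      have h2 : (Quotient.mk'' (h' • rep j) : O) = (em j).1 := by
        refine (Quotient.sound' ?_).trans (Quotient.out_eq' _)
        exact MulAction.mem_orbit _ _
      rw [← h1, hh, h2]
    have hij : i = j := em.injective (Subtype.ext hrel)
    refine ⟨hij, ?_⟩
    subst hij
    rw [← hstab i, MulAction.mem_stabilizer_iff, mul_smul, ← hh, inv_smul_smul]
  -- a permutation of the chosen orbits
  let S : Set X := {x | ∃ i, ∃ h : H', h • rep i = x}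
  have hS : ∀ x : S, ∃ i, ∃ h : H', h • rep i = x.1 := fun x => x.2
  choose ci ch hch using hS
  have hmove : ∀ (σ : Equiv.Perm (Fin r)) i j (h h' : H'), h • rep i = h' • rep j → h • rep (σ i) = h' • rep (σ j) := by
    intro σ i j h h' hh
    obtain ⟨rfl, hk⟩ := hsep i j h h' hh
    rw [← hstab (σ i), MulAction.mem_stabilizer_iff, mul_smul, inv_smul_eq_iff] at hk
    exact hk.symm
  let F : Equiv.Perm (Fin r) → X → X := fun σ x => if hx : x ∈ S then ch ⟨x, hx⟩ • rep (σ (ci ⟨x, hx⟩)) else x
  have hFin : ∀ σ i (h : H'), F σ (h • rep i) = h • rep (σ i) := by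
    intro σ i h
    have hx : h • rep i ∈ S := ⟨i, h, rfl⟩
    simp only [F, dif_pos hx]
    exact hmove σ _ _ _ _ (hch ⟨_, hx⟩)
  have hFout : ∀ σ x, x ∉ S → F σ x = x := fun σ x hx => dif_neg hx
  have hFmul : ∀ σ τ x, F (σ * τ) x = F σ (F τ x) := by
    intro σ τ x
    by_cases hx : x ∈ S
    · obtain ⟨i, h, rfl⟩ := hx
      rw [hFin, hFin, hFin]; rfl
    · rw [hFout _ _ hx, hFout _ _ hx, hFout _ _ hx]
  have hFone : ∀ x, F 1 x = x := by
    intro x
    by_cases hx : x ∈ S
    · obtain ⟨i, h, rfl⟩ := hx
      rw [hFin]; rfl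
    · exact hFout _ _ hx
  let Φ : Equiv.Perm (Fin r) →* Equiv.Perm X :=
    { toFun := fun σ => ⟨F σ, F σ⁻¹, fun x => by rw [← hFmul, inv_mul_cancel, hFone],
        fun x => by rw [← hFmul, mul_inv_cancel, hFone]⟩
      map_one' := Equiv.ext hFone
      map_mul' := fun σ τ => Equiv.ext (hFmul σ τ) }
  have hΦinj : Function.Injective Φ := by
    intro σ τ h
    refine Equiv.ext fun i => ?_
    have h1 : F σ ((1 : H') • rep i) = F τ ((1 : H') • rep i) := Equiv.congr_fun h _
    rw [hFin, hFin] at h1
    exact (hsep _ _ _ _ h1).1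
  have hcomm : ∀ σ, ∀ h : H', Φ σ * (h : Equiv.Perm X) = (h : Equiv.Perm X) * Φ σ := by
    intro σ h
    refine Equiv.ext fun x => ?_
    show F σ (h • x) = h • F σ x
    by_cases hx : x ∈ S
    · obtain ⟨i, k, rfl⟩ := hx
      rw [hFin, ← mul_smul, hFin, mul_smul]
    · rw [hFout _ _ hx, hFout]
      rintro ⟨i, k, hk⟩
      exact hx ⟨i, h⁻¹ * k, by rw [mul_smul, hk, inv_smul_smul]⟩
  have heven : ∀ σ : alternatingGroup (Fin r), Φ σ.1 ∈ alternatingGroup X := by
    intro σ
    rw [Equiv.Perm.mem_alternatingGroup]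
    rcases lt_or_ge r 2 with hr | hr
    · have : σ.1 = 1 := by
        haveI : Subsingleton (Fin r) := by
          refine ⟨fun a b => Fin.ext ?_⟩; omega
        exact Equiv.ext fun i => Subsingleton.elim _ _
      rw [this, map_one, map_one]
    · have hσ : σ.1 ∈ Subgroup.closure {g | Equiv.Perm.IsSwap g} := by
        rw [Equiv.Perm.closure_isSwap]; trivial
      have hdecomp : ∀ g : Equiv.Perm (Fin r), (Equiv.Perm.sign.comp Φ) g = 1 ∨ (Equiv.Perm.sign.comp Φ) g = Equiv.Perm.sign g := by
        intro g
        rcases Int.units_eq_one_or (Equiv.Perm.sign (Φ (Equiv.swap (⟨0, by omega⟩ : Fin r) ⟨1, by omega⟩))) with h | h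
        · left
          have hall : ∀ s : Equiv.Perm (Fin r), Equiv.Perm.IsSwap s → (Equiv.Perm.sign.comp Φ) s = 1 := by
            rintro s ⟨a, b, hab, rfl⟩
            have hne : (⟨0, by omega⟩ : Fin r) ≠ ⟨1, by omega⟩ := by simp
            obtain ⟨c, hc⟩ := (Equiv.Perm.isConj_swap hne hab)
            have := congrArg (Equiv.Perm.sign.comp Φ) (show (c : Equiv.Perm (Fin r)) * _ = _ * _ from hc)
            rw [map_mul, map_mul, MonoidHom.comp_apply, MonoidHom.comp_apply, MonoidHom.comp_apply, h, mul_one] at this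
            exact (mul_eq_right.1 this.symm)
          have : (⊤ : Subgroup (Equiv.Perm (Fin r))) ≤ (Equiv.Perm.sign.comp Φ).ker := by
            rw [← Equiv.Perm.closure_isSwap, Subgroup.closure_le]
            exact hall
          exact this (Subgroup.mem_top g)
        · right
          have hsurj : Function.Surjective (Equiv.Perm.sign.comp Φ) := by
            intro z
            rcases Int.units_eq_one_or z with rfl | rfl
            · exact ⟨1, map_one _⟩
            · exact ⟨_, h⟩
          rw [Equiv.Perm.eq_sign_of_surjective_hom hsurj]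
      rcases hdecomp σ.1 with h | h
      · exact h
      · exact h.trans σ.2
  let ψ : alternatingGroup (Fin r) →* alternatingGroup X :=
    (Φ.comp (alternatingGroup (Fin r)).subtype).codRestrict _ heven
  have hψ : Function.Injective ψ := by
    intro a b h
    exact Subtype.ext (hΦinj (congrArg Subtype.val h))
  refine ⟨ψ.range, ⟨(MonoidHom.ofInjective hψ).symm⟩, ?_⟩
  rintro _ ⟨σ, rfl⟩
  rw [Subgroup.mem_centralizer_iff]
  intro h hh
  exact Subtype.ext (hcomm σ.1 ⟨h.1, ⟨h, hh, rfl⟩⟩).symm

end Cfsg.Agent.S2532
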